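import Groth.Agent.Helper8.Nis
set_option autoImplicit false
set_option linter.unusedSectionVars false

namespace Groth.Agent.Helper8.Nis

open CategoryTheory AlgebraicGeometry Topology W4c5algebraiztannaka

universe u

section Strat

variable {Y₁ Y₂ Y₃ : Scheme.{u}} (g₁ : Y₁ ⟶ Y₂) (g₂ : Y₂ ⟶ Y₃)
  [CompactSpace Y₂] [QuasiSeparatedSpace Y₂] [CompactSpace Y₃] [QuasiSeparatedSpace Y₃]

/-- data of one stratum of the base flag with a section, and the refined sets `E l` -/
structure StratData (A B : Set Y₃) where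
  T : Scheme.{u}
  t : T ⟶ Y₃
  s : T ⟶ Y₂
  imm : IsImmersion t
  range_t : Set.range (fun x : T => t x) = B \ A
  fac : s ≫ g₂ = t

variable {g₂}

/-- the refined set -/
def StratData.E {A B : Set Y₃} (d : StratData g₂ A B) (Z : Set Y₂) : Set Y₃ :=
  A ∪ (fun x : d.T => d.t x) '' ((fun x : d.T => d.s x) ⁻¹' Z)

variable {A B : Set Y₃} (d : StratData g₂ A B)

lemma StratData.E_empty : d.E ∅ = A := by simp [StratData.E]

lemma StratData.E_univ (hAB : A ⊆ B) : d.E Set.univ = B := by
  simp only [StratData.E, Set.preimage_univ, Set.image_univ, d.range_t]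
  exact Set.union_sdiff_cancel hAB

lemma StratData.E_mono {Z Z' : Set Y₂} (h : Z ⊆ Z') : d.E Z ⊆ d.E Z' :=
  Set.union_subset_union_right _ (Set.image_mono (Set.preimage_mono h))

lemma StratData.injective_t : Function.Injective (fun x : d.T => d.t x) :=
  have := d.imm
  d.t.isEmbedding.injective

lemma StratData.E_diff (Z Z' : Set Y₂) :
    d.E Z' \ d.E Z = (fun x : d.T => d.t x) '' ((fun x : d.T => d.s x) ⁻¹' (Z' \ Z)) := by
  have hdisj : ∀ S : Set d.T, Disjoint ((fun x : d.T => d.t x) '' S) A := by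
    intro S
    rw [Set.disjoint_left]
    rintro _ ⟨x, _, rfl⟩ hA
    have : d.t x ∈ B \ A := by rw [← d.range_t]; exact ⟨x, rfl⟩
    exact this.2 hA
  rw [Set.preimage_sdiff, Set.image_sdiff d.injective_t]
  ext y
  simp only [StratData.E, Set.mem_sdiff, Set.mem_union, not_or]
  constructor
  · rintro ⟨h1 | h1, h2, h3⟩
    · exact absurd h1 h2
    · exact ⟨h1, h3⟩
  · rintro ⟨h1, h2⟩
    refine ⟨Or.inr h1, ?_, h2⟩
    intro hA
    exact Set.disjoint_left.mp (hdisj _) h1 hA

lemma StratData.isClosed_E (hA : IsClosed A) (hB : IsClosed B) {Z : Set Y₂} (hZ : IsClosed Z) :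
    IsClosed (d.E Z) := by
  have := d.imm
  have hemb : IsEmbedding (fun x : d.T => d.t x) := d.t.isEmbedding
  have hcl : IsClosed ((fun x : d.T => d.s x) ⁻¹' Z) := hZ.preimage d.s.continuous
  obtain ⟨F, hF, hFe⟩ := hemb.isInducing.isClosed_iff.mp hcl
  have himg : (fun x : d.T => d.t x) '' ((fun x : d.T => d.s x) ⁻¹' Z) = F ∩ (B \ A) := by
    rw [← hFe, Set.image_preimage_eq_inter_range, d.range_t]
  have : d.E Z = A ∪ (F ∩ B) := by
    rw [StratData.E, himg]
    ext y
    simp only [Set.mem_union, Set.mem_inter_iff, Set.mem_sdiff]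
    tauto
  rw [this]
  exact hA.union (hF.inter hB)

lemma StratData.compactSpace_T (hA : IsConstructible A) (hB : IsConstructible B) :
    CompactSpace d.T := by
  have := d.imm
  have hemb : IsEmbedding (fun x : d.T => d.t x) := d.t.isEmbedding
  rw [← isCompact_univ_iff, hemb.isInducing.isCompact_iff, Set.image_univ, d.range_t]
  exact isCompact_of_isConstructible (hB.sdiff hA)

lemma StratData.isConstructible_E (hA : IsConstructible A) (hB : IsConstructible B) {Z : Set Y₂}
    (hZc : IsClosed Z) (hZ : IsConstructible Z) : IsConstructible (d.E Z) := by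
  have := d.imm
  have hemb : IsEmbedding (fun x : d.T => d.t x) := d.t.isEmbedding
  have hT : CompactSpace d.T := d.compactSpace_T hA hB
  refine hA.union ?_
  -- the open complement
  have hBo : IsOpen Zᶜ := hZc.isOpen_compl
  have hBc : IsCompact Zᶜ := isCompact_of_isConstructible hZ.compl
  have hA'o : IsOpen ((fun x : d.T => d.s x) ⁻¹' Zᶜ) := hBo.preimage d.s.continuous
  have hqc : QuasiCompact d.s := inferInstance
  have hA'c : IsCompact ((fun x : d.T => d.s x) ⁻¹' Zᶜ) :=
    QuasiCompact.isCompact_preimage (f := d.s) _ hBo hBc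
  obtain ⟨O, hO, hOe⟩ := hemb.isInducing.isOpen_iff.mp hA'o
  have himg : (fun x : d.T => d.t x) '' ((fun x : d.T => d.s x) ⁻¹' Zᶜ) = O ∩ (B \ A) := by
    rw [← hOe, Set.image_preimage_eq_inter_range, d.range_t]
  have hcons : IsConstructible ((fun x : d.T => d.t x) '' ((fun x : d.T => d.s x) ⁻¹' Zᶜ)) := by
    rw [himg]
    apply isConstructible_of_isOpen_inter (hB.sdiff hA) hO
    rw [← himg]
    exact hA'c.image d.t.continuous
  have : (fun x : d.T => d.t x) '' ((fun x : d.T => d.s x) ⁻¹' Z) =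
      (B \ A) \ (fun x : d.T => d.t x) '' ((fun x : d.T => d.s x) ⁻¹' Zᶜ) := by
    rw [← d.range_t, Set.preimage_compl, Set.image_compl_eq_range_sdiff_image d.injective_t]
    rw [sdiff_sdiff_right_self]
    exact (Set.inter_eq_right.mpr (Set.image_subset_range _ _)).symm
  rw [this]
  exact (hB.sdiff hA).sdiff hcons

lemma StratData.hasSectOver_E {Z Z' : Set Y₂} (h : HasSectOver g₁ (Z' \ Z)) :
    HasSectOver (g₁ ≫ g₂) (d.E Z' \ d.E Z) := by
  obtain ⟨T', t', s', ht', hr', hst'⟩ := h
  have := d.imm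
  refine ⟨Limits.pullback d.s t', Limits.pullback.fst d.s t' ≫ d.t,
    Limits.pullback.snd d.s t' ≫ s', inferInstance, ?_, ?_⟩
  · rw [d.E_diff]
    change Set.range (Limits.pullback.fst d.s t' ≫ d.t) = _
    rw [Scheme.Hom.comp_base, TopCat.coe_comp, Set.range_comp, Scheme.Pullback.range_fst]
    congr 1
    rw [← hr']
  · rw [Category.assoc, ← Category.assoc s', hst', ← Limits.pullback.condition_assoc, d.fac]

end Strat

end Groth.Agent.Helper8.Nis

namespace Groth.Agent.Helper8.Nis

open CategoryTheory AlgebraicGeometry Topology W4c5algebraiztannaka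

universe u

theorem comp_mul {Y₁ Y₂ Y₃ : Scheme.{u}} (g₁ : Y₁ ⟶ Y₂) (g₂ : Y₂ ⟶ Y₃)
    [CompactSpace Y₂] [QuasiSeparatedSpace Y₂]
    [CompactSpace Y₃] [QuasiSeparatedSpace Y₃] (m₁ m₂ : ℕ)
    (h₁ : IsNisCoverLen g₁ m₁) (h₂ : IsNisCoverLen g₂ m₂) :
    IsNisCoverLen (g₁ ≫ g₂) (m₁ * m₂) := by
  have het₁ := h₁.etale
  have het₂ := h₂.etale
  have het : Etale (g₁ ≫ g₂) := inferInstance
  obtain ⟨Za, h10, h1l, h1mono, h1cc, h1sec⟩ := flag_nat h₁
  obtain ⟨Zb, h20, h2l, h2mono, h2cc, h2sec⟩ := flag_nat h₂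
  rcases Nat.eq_zero_or_pos m₁ with hm | hm
  · subst hm
    have hY₂ : IsEmpty Y₂ := by
      constructor
      intro y
      have : y ∈ Za 0 := by rw [h1l]; trivial
      rw [h10] at this
      exact this
    have hY₃ : IsEmpty Y₃ := by
      constructor
      intro y
      have key : ∀ k ≤ m₂, y ∉ Zb k := by
        intro k
        induction k with
        | zero => intro _; rw [h20]; exact Set.notMem_empty y
        | succ k ih =>
          intro hk hy
          obtain ⟨T, t, s, _, hr, _⟩ := h2sec k (by omega)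
          have : y ∈ Zb (k + 1) \ Zb k := ⟨hy, ih (by omega)⟩
          rw [← hr] at this
          obtain ⟨x, _⟩ := this
          exact hY₂.false (s x)
      exact key m₂ le_rfl (by rw [h2l]; trivial)
    rw [Nat.zero_mul]
    refine of_flag_nat het (fun _ => ∅) rfl ?_ (fun k hk => by omega)
      (fun k _ => ⟨isClosed_empty, IsConstructible.empty⟩) (fun k hk => by omega)
    ext y
    exact (hY₃.false y).elim
  · have hd : ∀ k : Fin m₂, Nonempty (StratData g₂ (Zb k) (Zb (k + 1))) := by
      intro k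
      obtain ⟨T, t, s, ht, hr, hst⟩ := h2sec k k.isLt
      exact ⟨⟨T, t, s, ht, hr, hst⟩⟩
    let d := fun k : Fin m₂ => Classical.choice (hd k)
    let Zfun : ℕ → Set Y₃ := fun n =>
      if h : n / m₁ < m₂ then (d ⟨n / m₁, h⟩).E (Za (n % m₁)) else Zb m₂
    have hcong : ∀ (a b : ℕ) (ha : a < m₂) (hb : b < m₂) (Z Z' : Set Y₂), a = b → Z = Z' →
        (d ⟨a, ha⟩).E Z = (d ⟨b, hb⟩).E Z' := by
      intro a b ha hb Z Z' hab hZ
      subst hab; subst hZ; rfl
    have hstep : ∀ n < m₁ * m₂, ∃ k : Fin m₂, ∃ l < m₁,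
        Zfun n = (d k).E (Za l) ∧ Zfun (n + 1) = (d k).E (Za (l + 1)) := by
      intro n hn
      have hk : n / m₁ < m₂ := Nat.div_lt_of_lt_mul hn
      have hl : n % m₁ < m₁ := Nat.mod_lt _ hm
      refine ⟨⟨n / m₁, hk⟩, n % m₁, hl, ?_, ?_⟩
      · simp only [Zfun, dif_pos hk]
      · have hdm := Nat.div_add_mod n m₁
        rcases Nat.lt_or_ge (n % m₁ + 1) m₁ with hlt | hge
        · have e : n + 1 = m₁ * (n / m₁) + (n % m₁ + 1) := by omega
          have h1 : (n + 1) / m₁ = n / m₁ := by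
            rw [e, Nat.mul_add_div hm, Nat.div_eq_of_lt hlt, add_zero]
          have h2 : (n + 1) % m₁ = n % m₁ + 1 := by
            rw [e, Nat.mul_add_mod, Nat.mod_eq_of_lt hlt]
          have hk' : (n + 1) / m₁ < m₂ := by rw [h1]; exact hk
          simp only [Zfun, dif_pos hk']
          exact hcong _ _ _ _ _ _ h1 (by rw [h2])
        · have hl1 : n % m₁ + 1 = m₁ := by omega
          have e : n + 1 = m₁ * (n / m₁ + 1) := by rw [Nat.mul_add, mul_one]; omega
          have h1 : (n + 1) / m₁ = n / m₁ + 1 := by rw [e, Nat.mul_div_cancel_left _ hm]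
          have h2 : (n + 1) % m₁ = 0 := by rw [e, Nat.mul_mod_right]
          have hR : (d ⟨n / m₁, hk⟩).E (Za (n % m₁ + 1)) = Zb (n / m₁ + 1) := by
            rw [hl1, h1l]
            exact (d ⟨n / m₁, hk⟩).E_univ (h2mono (Nat.le_succ _))
          rw [hR]
          by_cases hk' : (n + 1) / m₁ < m₂
          · simp only [Zfun, dif_pos hk']
            rw [h2, h10, StratData.E_empty]
            simp only [h1]
          · simp only [Zfun, dif_neg hk']
            have : m₂ = n / m₁ + 1 := by omega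
            rw [this]
    refine of_flag_nat het Zfun ?_ ?_ ?_ ?_ ?_
    · by_cases h0 : 0 / m₁ < m₂
      · simp only [Zfun, dif_pos h0]
        have : 0 % m₁ = 0 := Nat.zero_mod _
        rw [this, h10, StratData.E_empty]
        rw [Nat.zero_div, h20]
      · simp only [Zfun, dif_neg h0]
        have : m₂ = 0 := by
          rw [Nat.zero_div] at h0; omega
        rw [this, h20]
    · have : ¬ (m₁ * m₂) / m₁ < m₂ := by rw [Nat.mul_div_cancel_left _ hm]; exact lt_irrefl _
      simp only [Zfun, dif_neg this]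
      exact h2l
    · intro n hn
      obtain ⟨k, l, _, e1, e2⟩ := hstep n hn
      rw [e1, e2]
      exact (d k).E_mono (h1mono (Nat.le_succ l))
    · intro n _
      by_cases hk : n / m₁ < m₂
      · simp only [Zfun, dif_pos hk]
        exact ⟨(d ⟨n / m₁, hk⟩).isClosed_E (h2cc _).1 (h2cc _).1 (h1cc _).1,
          (d ⟨n / m₁, hk⟩).isConstructible_E (h2cc _).2 (h2cc _).2 (h1cc _).1 (h1cc _).2⟩
      · simp only [Zfun, dif_neg hk]
        exact h2cc _
    · intro n hn
      obtain ⟨k, l, hl, e1, e2⟩ := hstep n hn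
      rw [e1, e2]
      exact (d k).hasSectOver_E g₁ (h1sec l hl)

end Groth.Agent.Helper8.Nis
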