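import Groth.Prelude.Def_W4c5algebraiztannakaNis
import Groth.Agent.S17865
import Groth.Agent.S17869
import Groth.Agent.Helper8.NisComp

set_option autoImplicit false
open CategoryTheory AlgebraicGeometry Limits
universe u

namespace Groth.Agent.Helper8.NisUnif

/-- Partition of unity: a finite open cover of `Spec B` is refined by basic opens with the same index. -/
theorem exists_basicOpen_refinement {B : Type u} [CommRing B] {I : Type*} [Finite I]
    (W : I → TopologicalSpace.Opens (PrimeSpectrum B)) (hW : ∀ p, ∃ i, p ∈ W i) :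
    ∃ e : I → B, (∀ i, PrimeSpectrum.basicOpen (e i) ≤ W i) ∧
      ∀ p, ∃ i, p ∈ PrimeSpectrum.basicOpen (e i) := by
  classical
  cases nonempty_fintype I
  let K : I → Ideal B := fun i => PrimeSpectrum.vanishingIdeal ((W i : Set (PrimeSpectrum B))ᶜ)
  have hK : ∀ i, PrimeSpectrum.zeroLocus (K i : Set B) = (W i : Set (PrimeSpectrum B))ᶜ := by
    intro i
    rw [PrimeSpectrum.zeroLocus_vanishingIdeal_eq_closure]
    exact ((W i).isOpen.isClosed_compl).closure_eq
  have htop : (⨆ i, K i) = ⊤ := by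
    rw [← PrimeSpectrum.zeroLocus_empty_iff_eq_top, PrimeSpectrum.zeroLocus_iSup]
    ext p
    simp only [Set.mem_iInter, Set.mem_empty_iff_false, iff_false, not_forall]
    obtain ⟨i, hi⟩ := hW p
    refine ⟨i, ?_⟩
    rw [hK i]
    exact fun h => h hi
  have h1 : (1 : B) ∈ ⨆ i, K i := by rw [htop]; trivial
  rw [Submodule.mem_iSup_iff_exists_finsupp] at h1
  obtain ⟨c, hc, hsum⟩ := h1
  refine ⟨fun i => c i, ?_, ?_⟩
  · intro i p hp
    by_contra hpW
    have hp' : p ∈ PrimeSpectrum.zeroLocus (K i : Set B) := by rw [hK i]; exact hpW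
    exact hp (hp' (hc i))
  · intro p
    by_contra hcon
    push Not at hcon
    have hall : ∀ i, c i ∈ p.asIdeal := by
      intro i
      have := hcon i
      simpa [PrimeSpectrum.mem_basicOpen] using this
    have : (1 : B) ∈ p.asIdeal := by
      rw [← hsum]
      exact Ideal.sum_mem _ fun i _ => hall i
    exact p.isPrime.ne_top ((Ideal.eq_top_iff_one _).mpr this)

theorem exists_finite_affine_data {U Y : Scheme.{u}} [CompactSpace U] [CompactSpace Y]
    [QuasiSeparatedSpace Y] (f : U ⟶ Y) :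
    ∃ (I : Finset Y.affineOpens) (L : Y.affineOpens → Finset U.affineOpens),
      (∀ y : Y, ∃ i ∈ I, y ∈ i.1) ∧ (∀ i, ∀ l ∈ L i, l.1 ≤ f ⁻¹ᵁ i.1) ∧
      (∀ i, ∀ u : U, f u ∈ i.1 → ∃ l ∈ L i, u ∈ l.1) := by
  classical
  -- cover of Y
  obtain ⟨I, hI⟩ := isCompact_univ.elim_finite_subcover (fun i : Y.affineOpens => (i.1 : Set Y))
    (fun i => i.1.isOpen) (by
      intro y _
      obtain ⟨W, hW, hyW, -⟩ := exists_isAffineOpen_mem_and_subset (x := y) (U := ⊤) trivial
      exact Set.mem_iUnion.mpr ⟨⟨W, hW⟩, hyW⟩)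
  have key : ∀ i : Y.affineOpens, ∃ L : Finset U.affineOpens, (∀ l ∈ L, l.1 ≤ f ⁻¹ᵁ i.1) ∧
      ∀ u : U, f u ∈ i.1 → ∃ l ∈ L, u ∈ l.1 := by
    intro i
    have hcomp : IsCompact ((f ⁻¹ᵁ i.1 : U.Opens) : Set U) :=
      QuasiCompact.isCompact_preimage (f := f) _ i.1.isOpen i.2.isCompact
    obtain ⟨L, hL⟩ := hcomp.elim_finite_subcover
      (fun l : {l : U.affineOpens // l.1 ≤ f ⁻¹ᵁ i.1} => (l.1.1 : Set U))
      (fun l => l.1.1.isOpen) (by
        intro u hu
        obtain ⟨W, hW, huW, hWs⟩ := exists_isAffineOpen_mem_and_subset (x := u) (U := f ⁻¹ᵁ i.1) hu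
        exact Set.mem_iUnion.mpr ⟨⟨⟨W, hW⟩, hWs⟩, huW⟩)
    refine ⟨L.image Subtype.val, ?_, ?_⟩
    · intro l hl
      obtain ⟨l', -, rfl⟩ := Finset.mem_image.mp hl
      exact l'.2
    · intro u hu
      have := hL hu
      simp only [Set.mem_iUnion] at this
      obtain ⟨l, hl, hul⟩ := this
      exact ⟨l.1, Finset.mem_image_of_mem _ hl, hul⟩
  choose L hL1 hL2 using key
  refine ⟨I, L, ?_, hL1, hL2⟩
  intro y
  have := hI (Set.mem_univ y)
  simp only [Set.mem_iUnion] at this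
  obtain ⟨i, hi, hy⟩ := this
  exact ⟨i, hi, hy⟩


theorem main {U Y : Scheme.{u}} [IsAffine U] [CompactSpace Y] [QuasiSeparatedSpace Y] (f : U ⟶ Y)
    (m' : ℕ) (hf : W4c5algebraiztannaka.IsNisCoverLen f m') :
    ∃ m : ℕ, ∀ (B : CommRingCat.{u}) (g : Spec B ⟶ Y),
      ∃ (V : Scheme.{u}) (_ : IsAffine V) (v : V ⟶ Spec B) (w : V ⟶ U),
        W4c5algebraiztannaka.IsNisCoverLen v m ∧ w ≫ f = v ≫ g := by
  classical
  obtain ⟨I, L, hI, hL1, hL2⟩ := exists_finite_affine_data f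
  let J := (i : {i // i ∈ I}) × {l // l ∈ L i.1}
  let N := Fintype.card J
  let eqv : J ≃ Fin N := Fintype.equivFin J
  refine ⟨N * m', fun B g => ?_⟩
  -- partition of unity
  obtain ⟨e, he1, he2⟩ := exists_basicOpen_refinement (B := B) (I := {i // i ∈ I})
    (fun i => g ⁻¹ᵁ i.1.1) (by
      intro p
      obtain ⟨i, hi, hp⟩ := hI (g p)
      exact ⟨⟨i, hi⟩, hp⟩)
  -- the affine opens of Spec B
  let D : {i // i ∈ I} → (Spec B).Opens := fun i => PrimeSpectrum.basicOpen (e i)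
  have hD : ∀ i, IsAffineOpen (D i) := by
    intro i
    have := (isAffineOpen_top (Spec B)).basicOpen ((Scheme.ΓSpecIso B).inv (e i))
    rwa [basicOpen_eq_of_affine] at this
  have hDle : ∀ i, D i ≤ g ⁻¹ᵁ i.1.1 := he1
  -- the open immersions
  have φ : ∀ j : J, ∃ (V : (pullback f g).Opens), IsAffineOpen V ∧
      (V : Set ↥(pullback f g)) = (pullback.fst f g) ⁻¹' (j.2.1.1 : Set U) ∩
        (pullback.snd f g) ⁻¹' (D j.1 : Set (Spec B)) := by
    intro j
    have : IsAffine (j.2.1.1 : Scheme) := j.2.1.2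
    have : IsAffine (D j.1 : Scheme) := hD j.1
    have : IsAffine (j.1.1.1 : Scheme) := j.1.1.2
    let φ := pullback.map (f.resLE j.1.1.1 j.2.1.1 (hL1 _ _ j.2.2))
      (g.resLE j.1.1.1 (D j.1) (hDle j.1)) f g j.2.1.1.ι (D j.1).ι j.1.1.1.ι (by simp) (by simp)
    refine ⟨φ.opensRange, isAffineOpen_opensRange φ, ?_⟩
    rw [Scheme.Hom.coe_opensRange, Scheme.Pullback.range_map]
    simp
  choose Vo hVo1 hVo2 using φ
  let V' : Fin N → (pullback f g).Opens := fun k => Vo (eqv.symm k)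
  have hcov : ⨆ k, V' k = ⊤ := by
    rw [eq_top_iff]
    intro p _
    simp only [TopologicalSpace.Opens.mem_iSup]
    obtain ⟨i, hi⟩ := he2 (pullback.snd f g p)
    have hfp : f (pullback.fst f g p) ∈ i.1.1 := by
      have h1 : f (pullback.fst f g p) = g (pullback.snd f g p) := by
        rw [← Scheme.Hom.comp_apply, ← Scheme.Hom.comp_apply, pullback.condition]
      rw [h1]
      exact hDle i hi
    obtain ⟨l, hl, hul⟩ := hL2 i.1 _ hfp
    refine ⟨eqv ⟨i, ⟨l, hl⟩⟩, ?_⟩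
    change p ∈ (Vo (eqv.symm (eqv ⟨i, ⟨l, hl⟩⟩)) : Set _)
    rw [Equiv.symm_apply_apply, hVo2]
    exact ⟨hul, hi⟩
  have : QuasiSeparatedSpace ↥(pullback f g) :=
    quasiSeparatedSpace_of_quasiSeparated (pullback.snd f g)
  have h1 := Groth.Agent.S17869.result N V' (fun k => (hVo1 _).isCompact) hcov
  have h2 := Groth.Agent.S17865.result f g m' hf
  have : ∀ k, IsAffine (V' k : Scheme) := fun k => hVo1 _
  refine ⟨∐ fun k => ((V' k : (pullback f g).Opens) : Scheme.{u}), inferInstance,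
    Sigma.desc (fun k => (V' k).ι) ≫ pullback.snd f g,
    Sigma.desc (fun k => (V' k).ι) ≫ pullback.fst f g,
    Groth.Agent.Helper8.Nis.comp_mul _ _ N m' h1 h2, ?_⟩
  rw [Category.assoc, Category.assoc, pullback.condition]

end Groth.Agent.Helper8.NisUnif
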