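import Mathlib.AlgebraicGeometry.Modules.Tilde
import Mathlib.Algebra.Category.ModuleCat.Sheaf.PullbackFree
import Mathlib.RingTheory.Localization.BaseChange
import Mathlib.Algebra.Module.LocalizedModule.Submodule
import Groth.Prelude.Def_FlatMod2

/-!
# Helper8: tilde and pullback, generation by global sections

* `tildePullbackIso`: pullback of `M~` along `Spec.map φ` is `(S ⊗ M)~`.
* `pullbackFreeIso`: the pullback of a free module of rank `n` is free of rank `n`.
* `Gen F n`: `F` is a quotient of the free module of rank `n`, with transport lemmas.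
-/

set_option autoImplicit false
open CategoryTheory AlgebraicGeometry Limits Opposite
universe u

namespace Groth.Agent.Helper8.TildeBC

section G5
variable {R S : CommRingCat.{u}} (φ : R ⟶ S)

/-- global sections commute with pushforward along `Spec.map φ`. -/
noncomputable def pushforwardΓIso :
    Scheme.Modules.pushforward (Spec.map φ) ⋙ moduleSpecΓFunctor (R := R) ≅
      moduleSpecΓFunctor (R := S) ⋙ ModuleCat.restrictScalars φ.hom :=
  (Functor.associator _ _ _).symm ≪≫
    Functor.isoWhiskerRight (pushforwardCompModulesSpecToSheafIso φ)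
      (TopCat.Sheaf.forget _ _ ⋙ (evaluation _ _).obj (.op ⊤)) ≪≫
    NatIso.ofComponents (fun M => Iso.refl _) (by
      intro M N f
      rfl)

/-- pullback of `tilde` along `Spec.map φ` is `tilde` of the extension of scalars. -/
noncomputable def tildePullbackIso :
    tilde.functor R ⋙ Scheme.Modules.pullback (Spec.map φ) ≅
      ModuleCat.extendScalars.{u, u, u} φ.hom ⋙ tilde.functor S :=
  Adjunction.leftAdjointUniq
    ((tilde.adjunction (R := R)).comp (Scheme.Modules.pullbackPushforwardAdjunction (Spec.map φ)))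
    (((ModuleCat.extendRestrictScalarsAdj.{u, u, u} φ.hom).comp
      (tilde.adjunction (R := S))).ofNatIsoRight (pushforwardΓIso φ).symm)

end G5

section G3

theorem opensMap_final {X Y : Scheme.{u}} (f : X ⟶ Y) :
    (TopologicalSpace.Opens.map f.base).Final := by
  have h1 : (Functor.fromPUnit.{0} (⊤ : Y.Opens)).Final :=
    Functor.final_fromPUnit_of_isTerminal isTerminalTop
  have h2 : (Functor.fromPUnit.{0} (⊤ : Y.Opens) ⋙ TopologicalSpace.Opens.map f.base).Final := by
    have : (Functor.fromPUnit.{0} ((TopologicalSpace.Opens.map f.base).obj (⊤ : Y.Opens))).Final :=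
      Functor.final_fromPUnit_of_isTerminal isTerminalTop
    exact this
  exact Functor.final_of_final_comp (Functor.fromPUnit.{0} (⊤ : Y.Opens)) _

noncomputable def pullbackUnitIso {X Y : Scheme.{u}} (f : X ⟶ Y) :
    (Scheme.Modules.pullback f).obj (Coh.structureModule Y) ≅ Coh.structureModule X :=
  haveI := opensMap_final f
  letI e : (SheafOfModules.pullback f.toRingCatSheafHom).obj (SheafOfModules.unit _) ≅
    SheafOfModules.unit _ := asIso (SheafOfModules.pullbackObjUnitToUnit f.toRingCatSheafHom)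
  e

noncomputable def pullbackFreeIso {X Y : Scheme.{u}} (f : X ⟶ Y) (n : ℕ) :
    (Scheme.Modules.pullback f).obj (FlatMod.freeMod Y n) ≅ FlatMod.freeMod X n :=
  PreservesCoproduct.iso (Scheme.Modules.pullback f) _ ≪≫
    Sigma.mapIso (fun _ => pullbackUnitIso f)

end G3

section G4

theorem exists_span_of_epi {R : CommRingCat.{u}} (M : ModuleCat.{u} R) (N : ℕ)
    (φ : FlatMod.freeMod (Spec R) N ⟶ tilde M) [Epi φ] :
    ∃ s : Fin N → M, Submodule.span R (Set.range s) = ⊤ := by
  let F : Fin N → ModuleCat.{u} R := fun _ => ModuleCat.of R R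
  let e : (tilde.functor R).obj (∐ F) ≅ FlatMod.freeMod (Spec R) N :=
    PreservesCoproduct.iso (tilde.functor R) F ≪≫ Sigma.mapIso (fun _ => tildeSelf)
  obtain ⟨g, hg⟩ := (tilde.functor R).map_surjective (e.hom ≫ φ)
  have h1 : Epi ((tilde.functor R).map g) := by rw [hg]; exact epi_comp' inferInstance ‹Epi φ›
  have hge : Epi g := (tilde.functor R).epi_of_epi_map h1
  refine ⟨fun i => g.hom ((Sigma.ι F i).hom (1 : R)), ?_⟩
  set S := Submodule.span R (Set.range fun i => g.hom ((Sigma.ι F i).hom (1 : R))) with hS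
  let q : M ⟶ ModuleCat.of R (M ⧸ S) := ModuleCat.ofHom S.mkQ
  have hq : g ≫ q = g ≫ 0 := by
    apply Sigma.hom_ext
    intro i
    ext
    simp only [comp_zero]
    change S.mkQ (g.hom ((Sigma.ι F i).hom (1 : R))) = 0
    rw [Submodule.mkQ_apply, Submodule.Quotient.mk_eq_zero]
    exact Submodule.subset_span ⟨i, rfl⟩
  have hq0 : q = 0 := (cancel_epi g).mp hq
  rw [eq_top_iff]
  intro y _
  have : S.mkQ y = 0 := by
    have := congrArg (fun f => f.hom y) hq0
    simpa [q] using this
  rwa [Submodule.mkQ_apply, Submodule.Quotient.mk_eq_zero] at this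

end G4

section Gen

/-- `F` is a quotient of the free module of rank `n`. -/
def Gen {X : Scheme.{u}} (F : X.Modules) (n : ℕ) : Prop :=
  ∃ φ : FlatMod.freeMod X n ⟶ F, Epi φ

variable {X Y Z : Scheme.{u}}

theorem Gen.of_epi {F F' : X.Modules} {n : ℕ} (h : Gen F n) (p : F ⟶ F') [Epi p] : Gen F' n := by
  obtain ⟨φ, hφ⟩ := h
  exact ⟨φ ≫ p, epi_comp _ _⟩

theorem Gen.of_iso {F F' : X.Modules} {n : ℕ} (h : Gen F n) (e : F ≅ F') : Gen F' n :=
  h.of_epi e.hom

theorem Gen.pullback (f : X ⟶ Y) {F : Y.Modules} {n : ℕ} (h : Gen F n) :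
    Gen ((Scheme.Modules.pullback f).obj F) n := by
  obtain ⟨φ, hφ⟩ := h
  refine ⟨(pullbackFreeIso f n).inv ≫ (Scheme.Modules.pullback f).map φ, ?_⟩
  have : Epi ((Scheme.Modules.pullback f).map φ) := inferInstance
  exact epi_comp _ _

theorem Gen.pullback_comp (f : X ⟶ Y) (g : Y ⟶ Z) {F : Z.Modules} {n : ℕ}
    (h : Gen ((Scheme.Modules.pullback f).obj ((Scheme.Modules.pullback g).obj F)) n) :
    Gen ((Scheme.Modules.pullback (f ≫ g)).obj F) n :=
  h.of_iso ((Scheme.Modules.pullbackComp f g).app F)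

theorem Gen.pullback_congr {f g : X ⟶ Y} (hfg : f = g) {F : Y.Modules} {n : ℕ}
    (h : Gen ((Scheme.Modules.pullback f).obj F) n) :
    Gen ((Scheme.Modules.pullback g).obj F) n := by
  subst hfg; exact h

theorem Gen.of_restrict (f : X ⟶ Y) [IsOpenImmersion f] {F : Y.Modules} {n : ℕ}
    (h : Gen (F.restrict f) n) : Gen ((Scheme.Modules.pullback f).obj F) n :=
  h.of_iso ((Scheme.Modules.restrictFunctorIsoPullback f).app F)

theorem Gen.tilde_span {R : CommRingCat.{u}} {M : ModuleCat.{u} R} {n : ℕ} (h : Gen (tilde M) n) :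
    ∃ s : Fin n → M, Submodule.span R (Set.range s) = ⊤ := by
  obtain ⟨φ, hφ⟩ := h
  exact exists_span_of_epi M n φ

theorem Gen.pullback_tilde_span {R S : CommRingCat.{u}} (φ : R ⟶ S) {M : ModuleCat.{u} R} {n : ℕ}
    (h : Gen ((Scheme.Modules.pullback (Spec.map φ)).obj (tilde M)) n) :
    ∃ s : Fin n → (ModuleCat.extendScalars.{u, u, u} φ.hom).obj M,
      Submodule.span S (Set.range s) = ⊤ :=
  (h.of_iso ((tildePullbackIso φ).app M)).tilde_span

end Gen

section Alg

theorem exists_gens_of_localized {R : Type u} [CommRing R] (e : R) (A : Type u) [CommRing A]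
    [Algebra R A] [IsLocalization.Away e A]
    {M : Type u} [AddCommGroup M] [Module R M] {M' : Type u} [AddCommGroup M'] [Module R M']
    [Module A M'] [IsScalarTower R A M']
    (f : M →ₗ[R] M') [IsLocalizedModule (Submonoid.powers e) f] (n : ℕ) (s : Fin n → M')
    (hs : Submodule.span A (Set.range s) = ⊤) :
    ∃ x : Fin n → M, ∀ y : M, ∃ K : ℕ, e ^ K • y ∈ Submodule.span R (Set.range x) := by
  have hsurj : ∀ j, ∃ (x : M) (t : Submonoid.powers e), t • s j = f x := by
    intro j
    obtain ⟨⟨x, t⟩, h⟩ := IsLocalizedModule.surj (Submonoid.powers e) f (s j)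
    exact ⟨x, t, h⟩
  choose x t hxt using hsurj
  refine ⟨x, ?_⟩
  have htop : Submodule.span A (f '' Set.range x) = ⊤ := by
    rw [eq_top_iff, ← hs, Submodule.span_le]
    rintro _ ⟨j, rfl⟩
    have hu : IsUnit (algebraMap R A (t j : R)) := IsLocalization.map_units A (t j)
    obtain ⟨u, hu'⟩ := hu
    have h1 : s j = (↑u⁻¹ : A) • f (x j) := by
      rw [← hxt j, Submonoid.smul_def, ← algebraMap_smul A ((t j : R)) (s j), ← hu', smul_smul,
        Units.inv_mul, one_smul]
    rw [h1]
    exact Submodule.smul_mem _ _ (Submodule.subset_span ⟨x j, ⟨j, rfl⟩, rfl⟩)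
  have hloc : (Submodule.span R (Set.range x)).localized' A (Submonoid.powers e) f = ⊤ := by
    rw [Submodule.localized'_span, htop]
  intro y
  have hy : f y ∈ (Submodule.span R (Set.range x)).localized' A (Submonoid.powers e) f := by
    rw [hloc]; trivial
  rw [Submodule.mem_localized'] at hy
  obtain ⟨m, hm, t', ht'⟩ := hy
  rw [IsLocalizedModule.mk'_eq_iff] at ht'
  -- f m = t' • f y
  have h2 : f m = f ((t' : R) • y) := by rw [ht', map_smul]; rfl
  obtain ⟨c, hc⟩ := IsLocalizedModule.exists_of_eq (S := Submonoid.powers e) h2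
  obtain ⟨k1, hk1⟩ := c.2
  obtain ⟨k2, hk2⟩ := t'.2
  refine ⟨k1 + k2, ?_⟩
  have : e ^ (k1 + k2) • y = (c : R) • m := by
    have hk1' : e ^ k1 = (c : R) := hk1
    have hk2' : e ^ k2 = (t' : R) := hk2
    rw [pow_add, hk1', hk2', mul_smul]
    exact hc.symm
  rw [this]
  exact Submodule.smul_mem _ _ hm

theorem exists_gens_of_extendScalars {R A : Type u} [CommRing R] [CommRing A] (f : R →+* A) (e : R)
    (hA : letI := f.toAlgebra; IsLocalization.Away e A) (M : ModuleCat.{u} R) (n : ℕ)
    (s : Fin n → (ModuleCat.extendScalars.{u, u, u} f).obj M)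
    (hs : Submodule.span A (Set.range s) = ⊤) :
    ∃ x : Fin n → M, ∀ y : M, ∃ K : ℕ, e ^ K • y ∈ Submodule.span R (Set.range x) := by
  let _ := f.toAlgebra
  have := hA
  have : IsLocalizedModule (Submonoid.powers e) (TensorProduct.mk R A M 1) :=
    (isLocalizedModule_iff_isBaseChange (Submonoid.powers e) A _).mpr
      (TensorProduct.isBaseChange R M A)
  exact exists_gens_of_localized e A (TensorProduct.mk R A M 1) n s hs

end Alg

end Groth.Agent.Helper8.TildeBC
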