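import Mathlib

set_option autoImplicit false

namespace Groth.Agent.Helper8.GenFree

section
variable (R : Type*) [CommRing R] (M : Type*) [AddCommGroup M] [Module R M]

/-- internal form of "`M_f` is free over `R_f`" -/
def GFat (f : R) : Prop :=
  ∃ s : Set M, LinearIndepOn R id s ∧ ∀ m : M, ∃ n : ℕ, f ^ n • m ∈ Submodule.span R s

/-- generic freeness -/
def GF : Prop := ∃ f : R, f ≠ 0 ∧ GFat R M f
end

section
variable {R : Type*} [CommRing R] {M : Type*} [AddCommGroup M] [Module R M]

theorem GFat.mul_right {f : R} (h : GFat R M f) (g : R) : GFat R M (f * g) := by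
  obtain ⟨s, hs, hsp⟩ := h
  refine ⟨s, hs, fun m => ?_⟩
  obtain ⟨n, hn⟩ := hsp m
  refine ⟨n, ?_⟩
  rw [mul_pow, mul_comm, mul_smul]
  exact Submodule.smul_mem _ _ hn

theorem GFat.mul_left {f : R} (h : GFat R M f) (g : R) : GFat R M (g * f) := by
  rw [mul_comm]; exact h.mul_right g

theorem GFat.of_free [Module.Free R M] : GFat R M 1 := by
  let b := Module.Free.chooseBasis R M
  refine ⟨Set.range b, b.linearIndependent.linearIndepOn_id, fun m => ⟨0, ?_⟩⟩
  rw [b.span_eq]; exact Submodule.mem_top

theorem GFat.of_killed {r : R} (h : ∀ m : M, r • m = 0) : GFat R M r := by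
  refine ⟨∅, linearIndepOn_empty R id, fun m => ⟨1, ?_⟩⟩
  rw [pow_one, h m]; exact Submodule.zero_mem _

variable {N : Type*} [AddCommGroup N] [Module R N]

theorem GFat.of_pow_torsion {f : R} (i : N →ₗ[R] M) (hi : Function.Injective i) (c : R)
    (h : ∀ t : M, ∃ k : ℕ, ∃ t' : N, c ^ k • t = i t') (h' : GFat R N f) : GFat R M (c * f) := by
  obtain ⟨s, hs, hsp⟩ := h'
  have hli : LinearIndependent R (fun x : s => i x.1) :=
    (hs : LinearIndependent R (fun x : s => (x : N))).map' i (LinearMap.ker_eq_bot.mpr hi)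
  refine ⟨Set.range (fun x : s => i x.1), hli.linearIndepOn_id, fun t => ?_⟩
  obtain ⟨k, t', ht'⟩ := h t
  obtain ⟨n, hn⟩ := hsp t'
  refine ⟨k + n, ?_⟩
  have h1 : (c * f) ^ (k + n) • t = (c ^ n * f ^ k) • (f ^ n • (c ^ k • t)) := by
    rw [smul_smul, smul_smul]; congr 1; rw [mul_pow]; ring
  rw [h1, ht', ← map_smul]
  refine Submodule.smul_mem _ _ ?_
  have h2 : Submodule.span R (Set.range (fun x : s => i x.1)) = (Submodule.span R s).map i := by
    rw [Submodule.map_span]; congr 1; ext y; simp
  rw [h2]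
  exact Submodule.mem_map_of_mem hn

theorem GFat.of_linearEquiv {f : R} (e : N ≃ₗ[R] M) (h : GFat R N f) : GFat R M f := by
  have := GFat.of_pow_torsion (M := M) e.toLinearMap e.injective 1
    (fun t => ⟨0, e.symm t, by simp⟩) h
  rwa [one_mul] at this

variable {M' M'' : Type*} [AddCommGroup M'] [Module R M'] [AddCommGroup M''] [Module R M'']

theorem GFat.of_exact {f₁ f₂ : R} (i : M' →ₗ[R] M) (q : M →ₗ[R] M'') (hi : Function.Injective i)
    (hq : Function.Surjective q) (hex : Function.Exact i q) (h' : GFat R M' f₁)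
    (h'' : GFat R M'' f₂) : GFat R M (f₁ * f₂) := by
  classical
  obtain ⟨s', hs', hsp'⟩ := h'
  obtain ⟨s'', hs'', hsp''⟩ := h''
  let σ : M'' → M := Function.surjInv hq
  have hσ : ∀ x, q (σ x) = x := Function.surjInv_eq hq
  let v' : s' → M := fun x => i x.1
  let v'' : s'' → M := fun x => σ x.1
  have hv' : LinearIndependent R v' :=
    (hs' : LinearIndependent R (fun x : s' => (x : M'))).map' i (LinearMap.ker_eq_bot.mpr hi)
  have hqv'' : (q ∘ v'') = fun x : s'' => (x : M'') := by
    funext x; exact hσ x.1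
  have hv'' : LinearIndependent R v'' := by
    apply LinearIndependent.of_comp q
    rw [hqv'']; exact hs''
  have hq' : ∀ x ∈ Submodule.span R (Set.range v'), q x = 0 := by
    intro x hx
    induction hx using Submodule.span_induction with
    | mem x hx => obtain ⟨y, rfl⟩ := hx; exact (hex _).mpr ⟨_, rfl⟩
    | zero => exact map_zero q
    | add a b _ _ ha hb => rw [map_add, ha, hb, add_zero]
    | smul r a _ ha => rw [map_smul, ha, smul_zero]
  have hdisj : Disjoint (Submodule.span R (Set.range v')) (Submodule.span R (Set.range v'')) := by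
    rw [Submodule.disjoint_def]
    intro x hx1 hx2
    obtain ⟨l, rfl⟩ := (Finsupp.mem_span_range_iff_exists_finsupp).mp hx2
    have h0 := hq' _ hx1
    rw [map_finsuppSum] at h0
    have h1 : (l.sum fun j a => q (a • v'' j)) = Finsupp.linearCombination R
        (fun x : s'' => (x : M'')) l := by
      rw [Finsupp.linearCombination_apply]
      refine Finsupp.sum_congr fun j _ => ?_
      rw [map_smul]; congr 1; exact hσ j.1
    rw [h1] at h0
    have hl : l = 0 := (linearIndependent_iff.mp hs'') l h0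
    rw [hl]; simp
  have hli : LinearIndependent R (Sum.elim v' v'') := hv'.sum_type hv'' hdisj
  refine ⟨Set.range (Sum.elim v' v''), hli.linearIndepOn_id, fun m => ?_⟩
  have hr : Set.range (Sum.elim v' v'') = Set.range v' ∪ Set.range v'' := Set.Sum.elim_range v' v''
  obtain ⟨n, hn⟩ := hsp'' (q m)
  have hn' : f₂ ^ n • q m ∈ Submodule.span R (Set.range fun x : s'' => (x : M'')) := by
    simpa using hn
  obtain ⟨l, hl⟩ := (Finsupp.mem_span_range_iff_exists_finsupp).mp hn'
  let y : M := l.sum fun j a => a • v'' j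
  have hy : y ∈ Submodule.span R (Set.range v'') :=
    (Finsupp.mem_span_range_iff_exists_finsupp).mpr ⟨l, rfl⟩
  have hqy : q y = f₂ ^ n • q m := by
    rw [← hl]
    show q (l.sum fun j a => a • v'' j) = _
    rw [map_finsuppSum]
    refine Finsupp.sum_congr fun j _ => ?_
    rw [map_smul]; congr 1; exact hσ j.1
  have hker : q (f₂ ^ n • m - y) = 0 := by rw [map_sub, map_smul, hqy, sub_self]
  obtain ⟨m', hm'⟩ := (hex _).mp hker
  obtain ⟨k, hk⟩ := hsp' m'
  have hk' : f₁ ^ k • i m' ∈ Submodule.span R (Set.range v') := by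
    have h2 : Submodule.span R (Set.range v') = (Submodule.span R s').map i := by
      rw [Submodule.map_span]; congr 1; ext z; simp [v']
    rw [h2, ← map_smul]; exact Submodule.mem_map_of_mem hk
  refine ⟨k + n, ?_⟩
  have h1 : (f₁ * f₂) ^ (k + n) • m = (f₁ ^ n * f₂ ^ k) • (f₁ ^ k • (f₂ ^ n • m)) := by
    rw [smul_smul, smul_smul]; congr 1; rw [mul_pow]; ring
  rw [h1]
  refine Submodule.smul_mem _ _ ?_
  have h3 : f₂ ^ n • m = i m' + y := by rw [hm']; abel
  rw [h3, smul_add, hr, Submodule.span_union]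
  exact Submodule.add_mem_sup hk' (Submodule.smul_mem _ _ hy)

end

end Groth.Agent.Helper8.GenFree
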