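import Mathlib
import Groth.Agent.Helper8.GenFree2

set_option autoImplicit false

open MvPolynomial

namespace Groth.Agent.Helper8.GenFree

theorem aeval_eq_eval₂_finSuccEquiv {R A : Type*} [CommRing R] [CommRing A] [Algebra R A] {n : ℕ}
    (a : Fin (n + 1) → A) (g : MvPolynomial (Fin (n + 1)) R) :
    aeval a g = Polynomial.eval₂
      ((aeval (fun i : Fin n => a i.succ) : MvPolynomial (Fin n) R →ₐ[R] A) : _ →+* A) (a 0)
      (finSuccEquiv R n g) := by
  let a' : Fin n → A := fun i => a i.succ
  let Φ : MvPolynomial (Fin (n + 1)) R →ₐ[R] A :=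
    (Polynomial.eval₂AlgHom (aeval a' : MvPolynomial (Fin n) R →ₐ[R] A) (a 0)
      (fun _ => Commute.all _ _)).comp (finSuccEquiv R n).toAlgHom
  have h : (aeval a : MvPolynomial (Fin (n + 1)) R →ₐ[R] A) = Φ := by
    apply MvPolynomial.algHom_ext
    intro i
    refine Fin.cases ?_ (fun j => ?_) i
    · simp [Φ, finSuccEquiv_X_zero]
    · simp [Φ, finSuccEquiv_X_succ, a']
  have := congrArg (fun φ : MvPolynomial (Fin (n + 1)) R →ₐ[R] A => φ g) h
  simpa [Φ] using this

section
variable {R A M : Type*} [CommRing R] [CommRing A] [Algebra R A] [AddCommGroup M] [Module R M]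
  [Module A M] [IsScalarTower R A M]

theorem torsion_step {n : ℕ} (a : Fin (n + 1) → A)
    (ha : Algebra.adjoin R (Set.range a) = ⊤) (m : M) (hm : Submodule.span A {m} = ⊤)
    (g : MvPolynomial (Fin (n + 1)) R) (c : R)
    (hc : (finSuccEquiv R n g).leadingCoeff = MvPolynomial.C c) (hg : aeval a g • m = 0) :
    ∃ T' : Submodule (Algebra.adjoin R (Set.range fun i : Fin n => a i.succ)) M,
      T'.FG ∧ ∀ t : M, ∃ k : ℕ, c ^ k • t ∈ T' := by
  classical
  set a₀ := a 0 with ha₀
  set a' : Fin n → A := fun i => a i.succ with ha'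
  set A'' := Algebra.adjoin R (Set.range a') with hA''
  set G := finSuccEquiv R n g with hG
  set N := G.natDegree with hN
  let q : ℕ → A := fun i => aeval a' (G.coeff i)
  have hqmem : ∀ i, q i ∈ A'' := by
    intro i
    rw [hA'', Algebra.adjoin_range_eq_range_aeval]
    exact ⟨_, rfl⟩
  have hqN : q N = algebraMap R A c := by
    show aeval a' (G.coeff N) = _
    have : G.coeff N = MvPolynomial.C c := hc
    rw [this, MvPolynomial.aeval_C]
  -- the relation
  have hrel : ∀ x : M, ∑ i ∈ Finset.range (N + 1), (q i * a₀ ^ i) • x = 0 := by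
    intro x
    have hx : x ∈ Submodule.span A {m} := by rw [hm]; exact Submodule.mem_top
    obtain ⟨b, rfl⟩ := Submodule.mem_span_singleton.mp hx
    have h1 : aeval a g • (b • m) = 0 := by
      rw [smul_comm, hg, smul_zero]
    rw [aeval_eq_eval₂_finSuccEquiv, Polynomial.eval₂_eq_sum_range, Finset.sum_smul] at h1
    exact h1
  have hrel' : ∀ x : M, c • (a₀ ^ N • x) = - ∑ i ∈ Finset.range N, (q i * a₀ ^ i) • x := by
    intro x
    have := hrel x
    rw [Finset.sum_range_succ, hqN, mul_smul, algebraMap_smul] at this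
    exact eq_neg_of_add_eq_zero_right this
  -- T'
  let T' : Submodule A'' M := Submodule.span A'' ((fun i : ℕ => a₀ ^ i • m) '' (Finset.range N : Set ℕ))
  have hT'fg : T'.FG := Submodule.fg_span ((Finset.range N).finite_toSet.image _)
  -- saturation
  let T'' : Submodule A'' M :=
    { carrier := {x | ∃ k : ℕ, c ^ k • x ∈ T'}
      add_mem' := by
        rintro x y ⟨k, hk⟩ ⟨l, hl⟩
        refine ⟨k + l, ?_⟩
        rw [smul_add]
        refine T'.add_mem ?_ ?_
        · rw [pow_add, mul_comm, mul_smul]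
          have : c ^ l • c ^ k • x = (algebraMap R A'' (c ^ l)) • (c ^ k • x) := by
            rw [algebraMap_smul]
          rw [this]; exact T'.smul_mem _ hk
        · rw [pow_add, mul_smul]
          have : c ^ k • c ^ l • y = (algebraMap R A'' (c ^ k)) • (c ^ l • y) := by
            rw [algebraMap_smul]
          rw [this]; exact T'.smul_mem _ hl
      zero_mem' := ⟨0, by simp⟩
      smul_mem' := by
        rintro r x ⟨k, hk⟩
        refine ⟨k, ?_⟩
        rw [smul_comm]
        exact T'.smul_mem _ hk }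
  have hT''mem : ∀ x, x ∈ T'' ↔ ∃ k : ℕ, c ^ k • x ∈ T' := fun x => Iff.rfl
  have hle : T' ≤ T'' := fun x hx => ⟨0, by simpa using hx⟩
  have hsat : ∀ x : M, c • x ∈ T'' → x ∈ T'' := by
    rintro x ⟨k, hk⟩
    exact ⟨k + 1, by rw [pow_succ, mul_smul]; exact hk⟩
  have hA''smul : ∀ (b : A) (hb : b ∈ A'') (x : M), x ∈ T'' → b • x ∈ T'' := by
    intro b hb x hx
    exact T''.smul_mem ⟨b, hb⟩ hx
  -- all powers
  have hpow : ∀ j : ℕ, a₀ ^ j • m ∈ T'' := by
    intro j
    induction j using Nat.strong_induction_on with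
    | _ j ih =>
      by_cases hj : j < N
      · exact hle (Submodule.subset_span ⟨j, Finset.mem_coe.mpr (Finset.mem_range.mpr hj), rfl⟩)
      · push_neg at hj
        apply hsat
        have h1 := hrel' (a₀ ^ (j - N) • m)
        rw [smul_smul, ← pow_add, Nat.add_sub_cancel' hj] at h1
        rw [h1]
        refine T''.neg_mem (T''.sum_mem fun i hi => ?_)
        have hi' : i < N := Finset.mem_range.mp hi
        have h2 : (q i * a₀ ^ i) • a₀ ^ (j - N) • m = q i • (a₀ ^ (i + (j - N)) • m) := by
          rw [mul_smul, smul_smul (a₀ ^ i), ← pow_add]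
        rw [h2]
        refine hA''smul _ (hqmem i) _ (ih _ ?_)
        omega
  -- stable under a₀
  have hstab0 : ∀ x ∈ T'', a₀ • x ∈ T'' := by
    rintro x ⟨k, hk⟩
    have h1 : ∀ y ∈ T', a₀ • y ∈ T'' := by
      intro y hy
      induction hy using Submodule.span_induction with
      | mem y hy =>
        obtain ⟨i, _, rfl⟩ := hy
        show a₀ • (a₀ ^ i • m) ∈ T''
        rw [smul_smul, ← pow_succ']
        exact hpow _
      | zero => rw [smul_zero]; exact T''.zero_mem
      | add y z _ _ hy hz => rw [smul_add]; exact T''.add_mem hy hz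
      | smul r y _ hy => rw [smul_comm]; exact T''.smul_mem _ hy
    have h2 := h1 _ hk
    rw [smul_comm] at h2
    obtain ⟨l, hl⟩ := h2
    refine ⟨l + k, ?_⟩
    rw [pow_add, mul_smul]; exact hl
  -- stable under A
  have hstab : ∀ b : A, ∀ x ∈ T'', b • x ∈ T'' := by
    intro b
    have hb : b ∈ Algebra.adjoin R (Set.range a) := by rw [ha]; exact Algebra.mem_top
    induction hb using Algebra.adjoin_induction with
    | mem b hb =>
      obtain ⟨i, rfl⟩ := hb
      refine Fin.cases ?_ (fun j => ?_) i
      · exact hstab0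
      · intro x hx
        exact hA''smul _ (Algebra.subset_adjoin ⟨j, rfl⟩) x hx
    | algebraMap r =>
      intro x hx
      rw [algebraMap_smul]
      have : r • x = (algebraMap R A'' r) • x := by rw [algebraMap_smul]
      rw [this]; exact T''.smul_mem _ hx
    | add b b' _ _ hb hb' => intro x hx; rw [add_smul]; exact T''.add_mem (hb x hx) (hb' x hx)
    | mul b b' _ _ hb hb' => intro x hx; rw [mul_smul]; exact hb _ (hb' x hx)
  refine ⟨T', hT'fg, fun t => ?_⟩
  have ht : t ∈ Submodule.span A {m} := by rw [hm]; exact Submodule.mem_top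
  obtain ⟨b, rfl⟩ := Submodule.mem_span_singleton.mp ht
  have hm0 : m ∈ T'' := by simpa using hpow 0
  exact hstab b m hm0

end

end Groth.Agent.Helper8.GenFree
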