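import Mathlib
import Groth.Agent.Helper8.GenFree1
import Groth.Agent.Helper8.GenFree3

set_option autoImplicit false
universe u

open MvPolynomial

namespace Groth.Agent.Helper8.GenFree

theorem adjoin_range_subtype_eq_top {R A : Type*} [CommRing R] [CommRing A] [Algebra R A] {ι : Type*}
    (a : ι → A) :
    Algebra.adjoin R (Set.range fun i : ι =>
      (⟨a i, Algebra.subset_adjoin ⟨i, rfl⟩⟩ : Algebra.adjoin R (Set.range a))) = ⊤ := by
  apply Subalgebra.map_injective (f := (Algebra.adjoin R (Set.range a)).val) Subtype.val_injective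
  rw [AlgHom.map_adjoin, Algebra.map_top, Subalgebra.range_val, ← Set.range_comp]
  rfl

theorem aeval_surjective_of_adjoin_eq_top {R A : Type*} [CommRing R] [CommRing A] [Algebra R A]
    {ι : Type*} (a : ι → A) (ha : Algebra.adjoin R (Set.range a) = ⊤) :
    Function.Surjective (aeval a : MvPolynomial ι R →ₐ[R] A) := by
  intro x
  have : x ∈ (aeval a : MvPolynomial ι R →ₐ[R] A).range := by
    rw [← Algebra.adjoin_range_eq_range_aeval, ha]; exact Algebra.mem_top
  exact this

section
variable (R : Type u) [CommRing R] [IsDomain R]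

theorem of_cyclic (A : Type u) [CommRing A] [Algebra R A]
    (hcyc : ∀ (M : Type u) [AddCommGroup M] [Module R M] [Module A M] [IsScalarTower R A M]
      (m : M), Submodule.span A {m} = ⊤ → GF R M) :
    ∀ (n : ℕ) (M : Type u) [AddCommGroup M] [Module R M] [Module A M] [IsScalarTower R A M]
      (s : Fin n → M), Submodule.span A (Set.range s) = ⊤ → GF R M := by
  intro n
  induction n with
  | zero =>
    intro M _ _ _ _ s hs
    have hsub : ∀ x : M, x = 0 := by
      intro x
      have : x ∈ Submodule.span A (Set.range s) := by rw [hs]; exact Submodule.mem_top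
      have hr : Set.range s = ∅ := Set.range_eq_empty s
      rw [hr, Submodule.span_empty] at this
      exact this
    exact ⟨1, one_ne_zero, GFat.of_killed (fun m => by rw [hsub m, smul_zero])⟩
  | succ n ih =>
    intro M _ _ _ _ s hs
    let N : Submodule A M := Submodule.span A {s 0}
    have hN : GF R N := by
      refine hcyc N ⟨s 0, Submodule.mem_span_singleton_self _⟩ ?_
      rw [eq_top_iff]
      rintro ⟨y, hy⟩ -
      obtain ⟨b, rfl⟩ := Submodule.mem_span_singleton.mp hy
      exact Submodule.mem_span_singleton.mpr ⟨b, rfl⟩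
    have hQ : GF R (M ⧸ N) := by
      refine ih (M ⧸ N) (fun i => N.mkQ (s i.succ)) ?_
      rw [eq_top_iff]
      rintro x -
      obtain ⟨y, rfl⟩ := N.mkQ_surjective x
      have hy : y ∈ Submodule.span A (Set.range s) := by rw [hs]; exact Submodule.mem_top
      induction hy using Submodule.span_induction with
      | mem y hy =>
        obtain ⟨i, rfl⟩ := hy
        refine Fin.cases ?_ (fun j => ?_) i
        · have : N.mkQ (s 0) = 0 := by
            rw [Submodule.mkQ_apply, Submodule.Quotient.mk_eq_zero]
            exact Submodule.mem_span_singleton_self _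
          rw [this]; exact Submodule.zero_mem _
        · exact Submodule.subset_span ⟨j, rfl⟩
      | zero => rw [map_zero]; exact Submodule.zero_mem _
      | add a b _ _ ha hb => rw [map_add]; exact Submodule.add_mem _ ha hb
      | smul r a _ ha => rw [map_smul]; exact Submodule.smul_mem _ _ ha
    obtain ⟨f₁, hf₁, h1⟩ := hN
    obtain ⟨f₂, hf₂, h2⟩ := hQ
    refine ⟨f₁ * f₂, mul_ne_zero hf₁ hf₂, ?_⟩
    exact GFat.of_exact (N.subtype.restrictScalars R) (N.mkQ.restrictScalars R)
      N.injective_subtype N.mkQ_surjective (LinearMap.exact_subtype_mkQ N) h1 h2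

end

end Groth.Agent.Helper8.GenFree
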