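import Mathlib
import Groth.Agent.Helper8.GenFree4

set_option autoImplicit false
universe u

open MvPolynomial

namespace Groth.Agent.Helper8.GenFree

section
variable (R : Type u) [CommRing R] [IsDomain R]

/-- the statement of generic freeness for algebras generated by `d` elements -/
def Claim (d : ℕ) : Prop :=
  ∀ (A : Type u) [CommRing A] [Algebra R A] (a : Fin d → A),
    Algebra.adjoin R (Set.range a) = ⊤ →
    ∀ (M : Type u) [AddCommGroup M] [Module R M] [Module A M] [IsScalarTower R A M]
      [Module.Finite A M], GF R M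

theorem cyclic_case (d : ℕ) (IH : ∀ d' < d, Claim R d')
    (A : Type u) [CommRing A] [Algebra R A] (a : Fin d → A)
    (ha : Algebra.adjoin R (Set.range a) = ⊤)
    (M : Type u) [AddCommGroup M] [Module R M] [Module A M] [IsScalarTower R A M]
    (m : M) (hm : Submodule.span A {m} = ⊤) : GF R M := by
  classical
  let P := MvPolynomial (Fin d) R
  let ev : P →ₐ[R] A := aeval a
  have hev : Function.Surjective ev := aeval_surjective_of_adjoin_eq_top a ha
  let ψ : P →ₗ[R] M := ((LinearMap.toSpanSingleton A M m).restrictScalars R) ∘ₗ ev.toLinearMap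
  have hψ : ∀ p, ψ p = ev p • m := fun p => rfl
  have hψsurj : Function.Surjective ψ := by
    intro t
    have ht : t ∈ Submodule.span A {m} := by rw [hm]; exact Submodule.mem_top
    obtain ⟨b, rfl⟩ := Submodule.mem_span_singleton.mp ht
    obtain ⟨p, rfl⟩ := hev b
    exact ⟨p, rfl⟩
  by_cases hinj : Function.Injective ψ
  · let e : P ≃ₗ[R] M := LinearEquiv.ofBijective ψ ⟨hinj, hψsurj⟩
    exact ⟨1, one_ne_zero, GFat.of_linearEquiv e GFat.of_free⟩
  · have : ∃ g : P, g ≠ 0 ∧ ψ g = 0 := by
      by_contra hcon
      push_neg at hcon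
      apply hinj
      rw [injective_iff_map_eq_zero]
      intro g hg
      by_contra hg0
      exact hcon g hg0 hg
    obtain ⟨g, hg0, hg⟩ := this
    rw [hψ] at hg
    cases d with
    | zero =>
      have hgC : g = MvPolynomial.C (MvPolynomial.coeff 0 g) := MvPolynomial.eq_C_of_isEmpty g
      set r := MvPolynomial.coeff 0 g with hr
      have hr0 : r ≠ 0 := by
        intro h; apply hg0; rw [hgC, h, map_zero]
      have hrm : r • m = 0 := by
        have : ev g = algebraMap R A r := by
          rw [hgC]; exact MvPolynomial.aeval_C _ _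
        rw [this, algebraMap_smul] at hg
        exact hg
      refine ⟨r, hr0, GFat.of_killed fun t => ?_⟩
      have ht : t ∈ Submodule.span A {m} := by rw [hm]; exact Submodule.mem_top
      obtain ⟨b, rfl⟩ := Submodule.mem_span_singleton.mp ht
      rw [smul_comm, hrm, smul_zero]
    | succ n =>
      obtain ⟨σ, c, hc0, hc⟩ := exists_algEquiv_leadingCoeff g hg0
      let b : Fin (n + 1) → A := fun i => ev (σ.symm (X i))
      have hbev : (aeval b : MvPolynomial (Fin (n + 1)) R →ₐ[R] A) = ev.comp σ.symm.toAlgHom := by
        apply MvPolynomial.algHom_ext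
        intro i
        simp [b]
      have hbsurj : Function.Surjective (aeval b : MvPolynomial (Fin (n + 1)) R →ₐ[R] A) := by
        rw [hbev]
        exact hev.comp σ.symm.surjective
      have hb : Algebra.adjoin R (Set.range b) = ⊤ := by
        rw [Algebra.adjoin_range_eq_range_aeval]
        exact (AlgHom.range_eq_top _).mpr hbsurj
      have hg' : aeval b (σ g) • m = 0 := by
        rw [hbev]
        have h1 : (ev.comp σ.symm.toAlgHom) (σ g) = ev g := by
          show ev (σ.symm (σ g)) = ev g
          rw [AlgEquiv.symm_apply_apply]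
        rw [h1]
        exact hg
      obtain ⟨T', hT'fg, htors⟩ := torsion_step b hb m hm (σ g) c hc hg'
      let A'' := Algebra.adjoin R (Set.range fun i : Fin n => b i.succ)
      haveI : Module.Finite A'' T' := Module.Finite.iff_fg.mpr hT'fg
      obtain ⟨f, hf0, hf⟩ := IH n (Nat.lt_succ_self n) A''
        (fun i => ⟨b i.succ, Algebra.subset_adjoin ⟨i, rfl⟩⟩)
        (adjoin_range_subtype_eq_top (fun i : Fin n => b i.succ)) T'
      refine ⟨c * f, mul_ne_zero hc0 hf0, ?_⟩
      refine GFat.of_pow_torsion (T'.subtype.restrictScalars R) T'.injective_subtype c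
        (fun t => ?_) hf
      obtain ⟨k, hk⟩ := htors t
      exact ⟨k, ⟨_, hk⟩, rfl⟩

theorem claim (d : ℕ) : Claim R d := by
  induction d using Nat.strong_induction_on with
  | _ d IH =>
    intro A _ _ a ha M _ _ _ _ _
    obtain ⟨n, s, hs⟩ := Module.Finite.exists_fin (R := A) (M := M)
    exact of_cyclic R A (fun M' _ _ _ _ m hm => cyclic_case R d IH A a ha M' m hm) n M s hs

/-- **Generic freeness**: finite module over a finite type algebra over a domain. -/
theorem genericFreeness (A : Type u) [CommRing A] [Algebra R A] [Algebra.FiniteType R A]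
    (M : Type u) [AddCommGroup M] [Module R M] [Module A M] [IsScalarTower R A M]
    [Module.Finite A M] : GF R M := by
  obtain ⟨s, hs⟩ := (Algebra.FiniteType.out : (⊤ : Subalgebra R A).FG)
  classical
  let e := s.equivFin
  refine claim R s.card A (fun i => (e.symm i : A)) ?_ M
  have : Set.range (fun i => (e.symm i : A)) = (s : Set A) := by
    ext x
    constructor
    · rintro ⟨i, rfl⟩; exact (e.symm i).2
    · intro hx; exact ⟨e ⟨x, hx⟩, by simp⟩
  rw [this, hs]

end

end Groth.Agent.Helper8.GenFree
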