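import Mathlib
import Groth.Agent.Helper8.GenFree5

set_option autoImplicit false
universe u

open TensorProduct

namespace Groth.Agent.Helper8.GenFree

section
variable {R : Type*} [CommRing R] {M : Type*} [AddCommGroup M] [Module R M]

/-- abstract form: freeness of a localized module from `GFat` -/
theorem GFat.free_of_isLocalizedModule {f : R} (h : GFat R M f) (Rf : Type*) [CommRing Rf]
    [Algebra R Rf] [IsLocalization.Away f Rf] (Mf : Type*) [AddCommGroup Mf] [Module R Mf]
    [Module Rf Mf] [IsScalarTower R Rf Mf] (φ : M →ₗ[R] Mf)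
    [IsLocalizedModule (Submonoid.powers f) φ] : Module.Free Rf Mf := by
  obtain ⟨s, hs, hsp⟩ := h
  have hli : LinearIndependent Rf (φ ∘ (fun x : s => (x : M))) :=
    LinearIndependent.of_isLocalizedModule Rf (Submonoid.powers f) φ hs
  have hspan : ⊤ ≤ Submodule.span Rf (Set.range (φ ∘ (fun x : s => (x : M)))) := by
    rintro y -
    obtain ⟨⟨m, t⟩, ht⟩ := IsLocalizedModule.surj (Submonoid.powers f) φ y
    obtain ⟨n, hn⟩ := hsp m
    -- φ (f^n • m) lies in the span
    have h1 : φ (f ^ n • m) ∈ Submodule.span Rf (Set.range (φ ∘ (fun x : s => (x : M)))) := by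
      have h2 : Submodule.span R s ≤ ((Submodule.span Rf
          (Set.range (φ ∘ (fun x : s => (x : M))))).restrictScalars R).comap φ := by
        rw [Submodule.span_le]
        intro x hx
        exact Submodule.subset_span ⟨⟨x, hx⟩, rfl⟩
      exact h2 hn
    have h3 : (algebraMap R Rf (f ^ n * t)) • y ∈
        Submodule.span Rf (Set.range (φ ∘ (fun x : s => (x : M)))) := by
      have : (algebraMap R Rf (f ^ n * t)) • y = φ (f ^ n • m) := by
        rw [algebraMap_smul, mul_smul, map_smul, ← ht]; rfl
      rw [this]; exact h1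
    have hu : IsUnit (algebraMap R Rf (f ^ n * t)) := by
      rw [map_mul]
      refine IsUnit.mul ?_ (IsLocalization.map_units Rf t)
      exact IsLocalization.map_units Rf (⟨f ^ n, n, rfl⟩ : Submonoid.powers f)
    exact (Submodule.smul_mem_iff_of_isUnit _ hu).mp h3
  exact Module.Free.of_basis (Module.Basis.mk hli hspan)

theorem GFat.free_tensor {f : R} (h : GFat R M f) :
    Module.Free (Localization.Away f) (Localization.Away f ⊗[R] M) :=
  h.free_of_isLocalizedModule (Localization.Away f) (Localization.Away f ⊗[R] M)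
    (TensorProduct.mk R (Localization.Away f) M 1)

/-- torsion elements die after inverting `f` -/
theorem GFat.pow_smul_eq_zero [IsDomain R] {f : R} (h : GFat R M f) (x : M) (r : R) (hr : r ≠ 0)
    (hx : r • x = 0) : ∃ n : ℕ, f ^ n • x = 0 := by
  obtain ⟨s, hs, hsp⟩ := h
  obtain ⟨n, hn⟩ := hsp x
  refine ⟨n, ?_⟩
  have hn' : f ^ n • x ∈ Submodule.span R (Set.range fun y : s => (y : M)) := by simpa using hn
  obtain ⟨l, hl⟩ := (Finsupp.mem_span_range_iff_exists_finsupp).mp hn'
  have h0 : Finsupp.linearCombination R (fun y : s => (y : M)) (r • l) = 0 := by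
    rw [map_smul, Finsupp.linearCombination_apply, hl, smul_comm, hx, smul_zero]
  have h1 : r • l = 0 := (linearIndependent_iff.mp hs) _ h0
  have h2 : l = 0 := by
    rcases smul_eq_zero.mp h1 with h | h
    · exact absurd h hr
    · exact h
  rw [← hl, h2]; simp

end

end Groth.Agent.Helper8.GenFree
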