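import Mathlib
import Groth.Agent.Helper8.GenFree6

set_option autoImplicit false
universe u

open TensorProduct

namespace Groth.Agent.Helper8.GenFree

/-- `1 ⊗ y = 0` in `R_f ⊗ X` when a power of `f` kills `y` -/
theorem one_tmul_eq_zero {R : Type*} [CommRing R] (f : R) (Rf : Type*) [CommRing Rf] [Algebra R Rf]
    [IsLocalization.Away f Rf] {X : Type*} [AddCommGroup X] [Module R X] (y : X) (n : ℕ)
    (hy : f ^ n • y = 0) : (1 : Rf) ⊗ₜ[R] y = 0 := by
  have hu : IsUnit (algebraMap R Rf (f ^ n)) :=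
    IsLocalization.map_units Rf (⟨f ^ n, n, rfl⟩ : Submonoid.powers f)
  obtain ⟨u, hu'⟩ := hu
  have h1 : (1 : Rf) = (f ^ n) • (↑u⁻¹ : Rf) := by
    rw [Algebra.smul_def, ← hu', Units.mul_inv]
  rw [h1, TensorProduct.smul_tmul, hy, TensorProduct.tmul_zero]

section
variable (R : Type u) [CommRing R] [IsDomain R]

attribute [local instance] MvPolynomial.algebraMvPolynomial in
/-- a finitely presented approximation with torsion kernel -/
theorem exists_fp_approx (S : Type u) [CommRing S] [Algebra R S] [Algebra.FiniteType R S] :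
    ∃ (S' : Type u) (_ : CommRing S') (_ : Algebra R S') (_ : Algebra.FinitePresentation R S')
      (π : S' →ₐ[R] S), Function.Surjective π ∧
      ∀ y : S', π y = 0 → ∃ r : R, r ≠ 0 ∧ r • y = 0 := by
  classical
  obtain ⟨n, ρ, hρ⟩ := Algebra.FiniteType.iff_quotient_mvPolynomial''.mp
    (inferInstance : Algebra.FiniteType R S)
  let P := MvPolynomial (Fin n) R
  let K := FractionRing R
  let PK := MvPolynomial (Fin n) K
  let J : Ideal P := RingHom.ker ρ
  haveI : IsLocalization ((nonZeroDivisors R).map (MvPolynomial.C (σ := Fin n))) PK :=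
    MvPolynomial.isLocalization (nonZeroDivisors R) K
  have hfg : (Ideal.map (algebraMap P PK) J).FG :=
    (isNoetherianRing_iff_ideal_fg PK).mp inferInstance _
  have hfg' : (Submodule.span PK ((algebraMap P PK) '' (J : Set P))).FG := hfg
  obtain ⟨F', hF'sub, hF'⟩ := (Submodule.fg_span_iff_fg_span_finset_subset _).mp hfg'
  obtain ⟨F, hFsub, hFimg⟩ := Finset.subset_set_image_iff.mp hF'sub
  let J' : Ideal P := Ideal.span (F : Set P)
  have hJ'J : J' ≤ J := Ideal.span_le.mpr hFsub
  have hmap : Ideal.map (algebraMap P PK) J ≤ Ideal.map (algebraMap P PK) J' := by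
    show Submodule.span PK ((algebraMap P PK) '' (J : Set P)) ≤ _
    rw [hF', ← hFimg, Finset.coe_image]
    rw [Ideal.map_span]
  let S' := P ⧸ J'
  haveI : Algebra.FinitePresentation R S' :=
    Algebra.FinitePresentation.quotient ⟨F, rfl⟩
  let π : S' →ₐ[R] S := Ideal.Quotient.liftₐ J' ρ (fun x hx => hJ'J hx)
  have hπmk : ∀ x : P, π (Ideal.Quotient.mk J' x) = ρ x := fun x => rfl
  refine ⟨S', inferInstance, inferInstance, inferInstance, π, ?_, ?_⟩
  · intro s
    obtain ⟨x, rfl⟩ := hρ s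
    exact ⟨Ideal.Quotient.mk J' x, hπmk x⟩
  · intro y hy
    obtain ⟨x, rfl⟩ := Ideal.Quotient.mk_surjective y
    have hxJ : x ∈ J := by rw [hπmk] at hy; exact hy
    have h1 : algebraMap P PK x ∈ Ideal.map (algebraMap P PK) J' :=
      hmap (Ideal.mem_map_of_mem _ hxJ)
    rw [IsLocalization.mem_map_algebraMap_iff
      ((nonZeroDivisors R).map (MvPolynomial.C (σ := Fin n))) PK] at h1
    obtain ⟨⟨⟨a, ha⟩, ⟨w, hw⟩⟩, hxw⟩ := h1
    obtain ⟨r, hr, rfl⟩ := hw
    have hr0 : r ≠ 0 := nonZeroDivisors.ne_zero hr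
    simp only at hxw
    rw [← map_mul] at hxw
    have hinj : Function.Injective (algebraMap P PK) :=
      MvPolynomial.map_injective _ (IsFractionRing.injective R K)
    have h2 : x * MvPolynomial.C r = a := hinj hxw
    refine ⟨r, hr0, ?_⟩
    have h3 : r • x = a := by
      rw [← h2, MvPolynomial.smul_eq_C_mul, mul_comm]
    show r • Ideal.Quotient.mk J' x = 0
    have : r • Ideal.Quotient.mk J' x = Ideal.Quotient.mk J' (r • x) := rfl
    rw [this, h3]
    exact Ideal.Quotient.eq_zero_iff_mem.mpr ha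

/-- finite presentation of the localized algebra, for all multiples of some nonzero `f₀` -/
theorem exists_fp_localization (S : Type u) [CommRing S] [Algebra R S] [Algebra.FiniteType R S] :
    ∃ f₀ : R, f₀ ≠ 0 ∧ ∀ g : R,
      Algebra.FinitePresentation (Localization.Away (f₀ * g)) (Localization.Away (f₀ * g) ⊗[R] S) := by
  obtain ⟨S', _, _, _, π, hπ, hker⟩ := exists_fp_approx R S
  obtain ⟨f₀, hf₀, hGF⟩ := genericFreeness R S' S'
  refine ⟨f₀, hf₀, fun g => ?_⟩
  set f := f₀ * g with hf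
  have hGF' : GFat R S' f := hGF.mul_right g
  let Rf := Localization.Away f
  let Φ : Rf ⊗[R] S' →ₐ[Rf] Rf ⊗[R] S := Algebra.TensorProduct.map (AlgHom.id Rf Rf) π
  have hΦsurj : Function.Surjective Φ :=
    Algebra.TensorProduct.map_surjective _ _ Function.surjective_id hπ
  have hΦinj : Function.Injective Φ := by
    rw [injective_iff_map_eq_zero]
    intro z hz
    have hz' : z ∈ RingHom.ker (Algebra.TensorProduct.map (AlgHom.id R Rf) π) := hz
    rw [Algebra.TensorProduct.lTensor_ker (A := Rf) π hπ] at hz'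
    have hle : (RingHom.ker π).map
        (Algebra.TensorProduct.includeRight : S' →ₐ[R] Rf ⊗[R] S') ≤ ⊥ := by
      rw [Ideal.map_le_iff_le_comap]
      intro y hy
      obtain ⟨r, hr, hry⟩ := hker y hy
      obtain ⟨k, hk⟩ := hGF'.pow_smul_eq_zero y r hr hry
      show (1 : Rf) ⊗ₜ[R] y ∈ (⊥ : Ideal (Rf ⊗[R] S'))
      rw [one_tmul_eq_zero f Rf y k hk]
      exact Ideal.zero_mem _
    exact (Ideal.mem_bot).mp (hle hz')
  exact Algebra.FinitePresentation.equiv (AlgEquiv.ofBijective Φ ⟨hΦinj, hΦsurj⟩)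

end

end Groth.Agent.Helper8.GenFree
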