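import Mathlib
import Groth.Agent.Helper8.GenFree7

set_option autoImplicit false
universe u

open TensorProduct

namespace Groth.Agent.Helper8.GenFree

section
variable (R : Type u) [CommRing R] [IsDomain R] (S : Type u) [CommRing S] [Algebra R S]

local notation "K" => FractionRing R

/-- clearing denominators in `K ⊗ S` -/
theorem exists_smul_eq_one_tmul (t : K ⊗[R] S) :
    ∃ r : R, r ≠ 0 ∧ ∃ s : S, r • t = (1 : K) ⊗ₜ[R] s := by
  induction t using TensorProduct.induction_on with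
  | zero => exact ⟨1, one_ne_zero, 0, by simp⟩
  | tmul x s =>
    obtain ⟨a, b, hb, rfl⟩ := IsFractionRing.div_surjective (A := R) x
    have hb0 : b ≠ 0 := nonZeroDivisors.ne_zero hb
    have hb' : algebraMap R K b ≠ 0 := by
      rw [Ne, map_eq_zero_iff _ (IsFractionRing.injective R K)]; exact hb0
    refine ⟨b, hb0, a • s, ?_⟩
    rw [TensorProduct.smul_tmul', Algebra.smul_def, mul_div_cancel₀ _ hb',
      Algebra.algebraMap_eq_smul_one, TensorProduct.smul_tmul]
  | add x y hx hy =>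
    obtain ⟨r₁, hr₁, s₁, h₁⟩ := hx
    obtain ⟨r₂, hr₂, s₂, h₂⟩ := hy
    refine ⟨r₁ * r₂, mul_ne_zero hr₁ hr₂, r₂ • s₁ + r₁ • s₂, ?_⟩
    rw [smul_add, mul_comm r₁ r₂, mul_smul, h₁, mul_comm r₂ r₁, mul_smul, h₂, TensorProduct.tmul_add,
      TensorProduct.tmul_smul, TensorProduct.tmul_smul]

/-- kernel of `S → K ⊗ S` is torsion -/
theorem exists_smul_eq_zero_of_one_tmul_eq_zero (z : S) (hz : (1 : K) ⊗ₜ[R] z = 0) :
    ∃ r : R, r ≠ 0 ∧ r • z = 0 := by
  have h := (IsLocalizedModule.eq_zero_iff (nonZeroDivisors R)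
    (TensorProduct.mk R K S 1) (m := z)).mp hz
  obtain ⟨c, hc⟩ := h
  exact ⟨c, nonZeroDivisors.ne_zero c.2, hc⟩

end

end Groth.Agent.Helper8.GenFree
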