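import Mathlib
import Groth.Agent.Helper8.GenFree8

set_option autoImplicit false
universe u

open TensorProduct

namespace Groth.Agent.Helper8.GenFree

section
variable (R : Type u) [CommRing R] [IsDomain R] (S : Type u) [CommRing S] [Algebra R S]

local notation "K" => FractionRing R

attribute [local instance] Algebra.TensorProduct.rightAlgebra in
theorem exists_fp_approx_module [Algebra.FiniteType R S] (M : Type u) [AddCommGroup M] [Module S M]
    [Module R M] [IsScalarTower R S M] [Module.Finite S M] :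
    ∃ (M' : Type u) (_ : AddCommGroup M') (_ : Module S M') (_ : Module R M')
      (_ : IsScalarTower R S M') (_ : Module.FinitePresentation S M') (π : M' →ₗ[S] M),
      Function.Surjective π ∧ ∀ y : M', π y = 0 → ∃ r : R, r ≠ 0 ∧ r • y = 0 := by
  classical
  obtain ⟨k, p, hp⟩ := Module.Finite.exists_fin' S M
  let SK := K ⊗[R] S
  haveI : IsNoetherianRing SK := Algebra.FiniteType.isNoetherianRing K SK
  let ι : (Fin k → S) →ₗ[S] (Fin k → SK) := (Algebra.linearMap S SK).compLeft (Fin k)
  have hι : ∀ x i, ι x i = (1 : K) ⊗ₜ[R] x i := fun x i => rfl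
  have hιR : ∀ (r : R) x, ι (r • x) = r • ι x := by
    intro r x
    funext i
    rw [hι, Pi.smul_apply, Pi.smul_apply, hι, TensorProduct.tmul_smul]
  let N : Submodule S (Fin k → S) := LinearMap.ker p
  let NK : Submodule SK (Fin k → SK) := Submodule.span SK (ι '' (N : Set (Fin k → S)))
  have hfg : NK.FG := IsNoetherian.noetherian NK
  obtain ⟨F', hF'sub, hF'⟩ := (Submodule.fg_span_iff_fg_span_finset_subset _).mp hfg
  obtain ⟨F, hFsub, hFimg⟩ := Finset.subset_set_image_iff.mp hF'sub
  let N' : Submodule S (Fin k → S) := Submodule.span S (F : Set (Fin k → S))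
  have hN'N : N' ≤ N := Submodule.span_le.mpr hFsub
  have hNK : NK = Submodule.span SK (ι '' (F : Set (Fin k → S))) := by
    show Submodule.span SK (ι '' (N : Set (Fin k → S))) = _
    rw [hF', ← hFimg, Finset.coe_image]
  -- key: elements of NK come from N' up to a denominator
  have key : ∀ w ∈ NK, ∃ r : R, r ≠ 0 ∧ ∃ n' ∈ N', r • w = ι n' := by
    intro w hw
    rw [hNK] at hw
    induction hw using Submodule.span_induction with
    | mem w hw =>
      obtain ⟨y, hy, rfl⟩ := hw
      exact ⟨1, one_ne_zero, y, Submodule.subset_span hy, one_smul _ _⟩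
    | zero => exact ⟨1, one_ne_zero, 0, N'.zero_mem, by simp⟩
    | add a b _ _ ha hb =>
      obtain ⟨r₁, hr₁, n₁, hn₁, h₁⟩ := ha
      obtain ⟨r₂, hr₂, n₂, hn₂, h₂⟩ := hb
      refine ⟨r₁ * r₂, mul_ne_zero hr₁ hr₂, r₂ • n₁ + r₁ • n₂,
        N'.add_mem ?_ ?_, ?_⟩
      · rw [← algebraMap_smul S r₂ n₁]; exact N'.smul_mem _ hn₁
      · rw [← algebraMap_smul S r₁ n₂]; exact N'.smul_mem _ hn₂
      · rw [smul_add, mul_comm r₁ r₂, mul_smul, h₁, mul_comm r₂ r₁, mul_smul, h₂, map_add,
          hιR, hιR]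
    | smul t w _ hw =>
      obtain ⟨r₁, hr₁, n₁, hn₁, h₁⟩ := hw
      obtain ⟨r₂, hr₂, s, hs⟩ := exists_smul_eq_one_tmul R S t
      refine ⟨r₂ * r₁, mul_ne_zero hr₂ hr₁, s • n₁, N'.smul_mem _ hn₁, ?_⟩
      have h3 : (r₂ * r₁) • (t • w) = (r₂ • t) • (r₁ • w) := by
        funext i
        simp only [Pi.smul_apply, smul_eq_mul]
        rw [smul_mul_smul_comm]
      rw [h3, h₁, hs]
      funext i
      simp only [Pi.smul_apply, hι, smul_eq_mul]
      rw [Algebra.TensorProduct.tmul_mul_tmul, one_mul]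
  -- the kernel of p is torsion modulo N'
  have hker : ∀ x ∈ N, ∃ r : R, r ≠ 0 ∧ r • x ∈ N' := by
    intro x hx
    obtain ⟨r, hr, n', hn', h⟩ := key (ι x) (Submodule.subset_span ⟨x, hx, rfl⟩)
    have hcomp : ∀ i : Fin k, ∃ r' : R, r' ≠ 0 ∧ r' • (r • x i - n' i) = 0 := by
      intro i
      apply exists_smul_eq_zero_of_one_tmul_eq_zero R S
      have := congrFun h i
      rw [Pi.smul_apply, hι, hι] at this
      rw [TensorProduct.tmul_sub, ← this, TensorProduct.tmul_smul, sub_self]
    choose r' hr' hr'0 using hcomp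
    refine ⟨(∏ i, r' i) * r, mul_ne_zero (Finset.prod_ne_zero_iff.mpr fun i _ => hr' i) hr, ?_⟩
    have : ((∏ i, r' i) * r) • x = (∏ i, r' i) • n' := by
      funext i
      have h0 := hr'0 i
      rw [Pi.smul_apply, Pi.smul_apply, mul_smul]
      rw [← Finset.mul_prod_erase Finset.univ r' (Finset.mem_univ i), mul_comm, mul_smul, mul_smul]
      congr 1
      rw [smul_sub, sub_eq_zero] at h0
      exact h0
    rw [this, ← algebraMap_smul S]
    exact N'.smul_mem _ hn'
  haveI : Module.FinitePresentation S ((Fin k → S) ⧸ N') :=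
    Module.finitePresentation_of_surjective N'.mkQ N'.mkQ_surjective
      (by rw [Submodule.ker_mkQ]; exact ⟨F, rfl⟩)
  refine ⟨(Fin k → S) ⧸ N', inferInstance, inferInstance, inferInstance, inferInstance,
    inferInstance, N'.liftQ p hN'N, ?_, ?_⟩
  · intro m
    obtain ⟨x, rfl⟩ := hp m
    exact ⟨N'.mkQ x, by simp⟩
  · intro y hy
    obtain ⟨x, rfl⟩ := N'.mkQ_surjective y
    have hx : x ∈ N := by
      show p x = 0
      simpa using hy
    obtain ⟨r, hr, h⟩ := hker x hx
    refine ⟨r, hr, ?_⟩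
    rw [Submodule.mkQ_apply, ← Submodule.Quotient.mk_smul]
    exact (Submodule.Quotient.mk_eq_zero N').mpr h

end

end Groth.Agent.Helper8.GenFree
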