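import Mathlib
import Groth.Agent.Helper8.GenFree9

set_option autoImplicit false
universe u

open TensorProduct

namespace Groth.Agent.Helper8.GenFree

section
variable (R : Type u) [CommRing R] [IsDomain R] (S : Type u) [CommRing S] [Algebra R S]

theorem exists_fp_localization_module [Algebra.FiniteType R S] (M : Type u) [AddCommGroup M]
    [Module S M] [Module R M] [IsScalarTower R S M] [Module.Finite S M] :
    ∃ f₀ : R, f₀ ≠ 0 ∧ ∀ g : R,
      Module.FinitePresentation (Localization.Away (algebraMap R S (f₀ * g)))
        (LocalizedModule (Submonoid.powers (algebraMap R S (f₀ * g))) M) := by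
  obtain ⟨M', _, _, _, _, _, π, hπ, hker⟩ := exists_fp_approx_module R S M
  obtain ⟨f₀, hf₀, hGF⟩ := genericFreeness R S M'
  refine ⟨f₀, hf₀, fun g => ?_⟩
  have hGF' : GFat R M' (f₀ * g) := hGF.mul_right g
  set f := f₀ * g with hf
  let T := Submonoid.powers (algebraMap R S f)
  have hsurj : Function.Surjective (LocalizedModule.map T π) :=
    LocalizedModule.map_surjective T π hπ
  have hinj : LinearMap.ker (LocalizedModule.map T π) = ⊥ := by
    rw [LinearMap.ker_eq_bot']
    intro z hz
    induction z using LocalizedModule.induction_on with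
    | h y t =>
      rw [LocalizedModule.map_mk] at hz
      rw [← LocalizedModule.zero_mk t, LocalizedModule.mk_eq] at hz
      obtain ⟨u, hu⟩ := hz
      rw [smul_zero, smul_zero] at hu
      -- hu : u • t • π y = 0
      have h1 : π (u • t • y) = 0 := by
        rw [← hu]
        simp only [Submonoid.smul_def, map_smul]
      obtain ⟨r, hr, hr0⟩ := hker _ h1
      obtain ⟨n, hn⟩ := hGF'.pow_smul_eq_zero _ r hr hr0
      rw [← LocalizedModule.zero_mk t, LocalizedModule.mk_eq]
      refine ⟨⟨(algebraMap R S f) ^ n, n, rfl⟩ * u, ?_⟩
      rw [smul_zero, smul_zero]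
      simp only [Submonoid.smul_def, Submonoid.coe_mul, mul_smul] at hn ⊢
      rw [← hn, ← algebraMap_smul S (f ^ n), map_pow]
  exact Module.finitePresentation_of_surjective (LocalizedModule.map T π) hsurj
    (by rw [hinj]; exact Submodule.fg_bot)

end

end Groth.Agent.Helper8.GenFree
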