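import Mathlib
import Groth.Agent.Helper8.GenFree10

set_option autoImplicit false
universe u

open TensorProduct

namespace Groth.Agent.Helper8.GenFree

theorem s0389 {R S M : Type u} [CommRing R] [IsDomain R] [CommRing S] [Algebra R S]
    [Algebra.FiniteType R S] [AddCommGroup M] [Module S M] [Module R M] [IsScalarTower R S M]
    [Module.Finite S M] :
    ∃ f : R, f ≠ 0 ∧ Module.Free (Localization.Away f) (Localization.Away f ⊗[R] M) ∧
      Module.Free (Localization.Away f) (Localization.Away f ⊗[R] S) ∧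
      Algebra.FinitePresentation (Localization.Away f) (Localization.Away f ⊗[R] S) ∧
      Module.FinitePresentation (Localization.Away (algebraMap R S f))
        (LocalizedModule (Submonoid.powers (algebraMap R S f)) M) := by
  obtain ⟨f₁, hf₁, h₁⟩ := genericFreeness R S M
  obtain ⟨f₂, hf₂, h₂⟩ := genericFreeness R S S
  obtain ⟨f₃, hf₃, h₃⟩ := exists_fp_localization R S
  obtain ⟨f₄, hf₄, h₄⟩ := exists_fp_localization_module R S M
  have h₃' : ∀ f : R, f₃ ∣ f →
      Algebra.FinitePresentation (Localization.Away f) (Localization.Away f ⊗[R] S) := by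
    rintro f ⟨g, rfl⟩; exact h₃ g
  have h₄' : ∀ f : R, f₄ ∣ f →
      Module.FinitePresentation (Localization.Away (algebraMap R S f))
        (LocalizedModule (Submonoid.powers (algebraMap R S f)) M) := by
    rintro f ⟨g, rfl⟩; exact h₄ g
  refine ⟨(f₁ * f₂) * (f₃ * f₄), mul_ne_zero (mul_ne_zero hf₁ hf₂) (mul_ne_zero hf₃ hf₄), ?_, ?_,
    ?_, ?_⟩
  · exact ((h₁.mul_right f₂).mul_right (f₃ * f₄)).free_tensor
  · exact ((h₂.mul_left f₁).mul_right (f₃ * f₄)).free_tensor
  · exact h₃' _ ⟨f₁ * f₂ * f₄, by ring⟩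
  · exact h₄' _ ⟨f₁ * f₂ * f₃, by ring⟩

end Groth.Agent.Helper8.GenFree
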