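import Mathlib
set_option autoImplicit false
universe u

namespace Groth.Agent.Helper8.FlatKer

theorem flat_ker {R : Type*} [CommRing R] {K M N : Type*} [AddCommGroup K] [Module R K]
    [AddCommGroup M] [Module R M] [AddCommGroup N] [Module R N]
    (i : K →ₗ[R] M) (g : M →ₗ[R] N) (hi : Function.Injective i) (hg : Function.Surjective g)
    (hex : Function.Exact i g) [Module.Flat R M] [Module.Flat R N] : Module.Flat R K := by
  apply Module.Flat.of_forall_exists_factorization
  intro l f x hx
  have h1 : (i ∘ₗ x) f = 0 := by simp [hx]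
  obtain ⟨k₁, a₁, y₁, hya₁, haf₁⟩ :=
    Module.Flat.iff_forall_exists_factorization.mp (inferInstance : Module.Flat R M) h1
  have h2 : (g ∘ₗ y₁) ∘ₗ a₁ = 0 := by
    rw [LinearMap.comp_assoc, ← hya₁, ← LinearMap.comp_assoc, hex.linearMap_comp_eq_zero,
      LinearMap.zero_comp]
  obtain ⟨k₂, a₂, y₂, hya₂, haa⟩ := Module.Flat.exists_factorization_of_comp_eq_zero_of_free h2
  obtain ⟨y₂', hy₂'⟩ := Module.projective_lifting_property g y₂ hg
  let y' : (Fin k₁ →₀ R) →ₗ[R] M := y₁ - y₂' ∘ₗ a₂
  have hgy' : ∀ v, g (y' v) = 0 := by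
    intro v
    have e1 : g (y₁ v) = y₂ (a₂ v) := LinearMap.congr_fun hya₂ v
    have e2 : g (y₂' (a₂ v)) = y₂ (a₂ v) := LinearMap.congr_fun hy₂' (a₂ v)
    simp only [y', LinearMap.sub_apply, LinearMap.comp_apply, map_sub, e1, e2, sub_self]
  have hy'K : ∀ v, ∃ z : K, i z = y' v := fun v => (hex _).1 (hgy' v)
  choose z hz using fun j : Fin k₁ => hy'K (Finsupp.single j 1)
  let y'' : (Fin k₁ →₀ R) →ₗ[R] K := Finsupp.linearCombination R z
  have hiy'' : i ∘ₗ y'' = y' := by
    apply Finsupp.lhom_ext'
    intro j
    apply LinearMap.ext_ring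
    simp [y'', hz]
  refine ⟨k₁, a₁, y'', ?_, haf₁⟩
  apply LinearMap.ext
  intro v
  apply hi
  have e3 : i (y'' (a₁ v)) = y' (a₁ v) := LinearMap.congr_fun hiy'' (a₁ v)
  have e4 : a₂ (a₁ v) = 0 := LinearMap.congr_fun haa v
  have e5 : i (x v) = y₁ (a₁ v) := LinearMap.congr_fun hya₁ v
  rw [LinearMap.comp_apply, e3, e5]
  simp only [y', LinearMap.sub_apply, LinearMap.comp_apply, e4, map_zero, sub_zero]

theorem flat_prod {R : Type u} [CommRing R] {M N : Type u} [AddCommGroup M] [Module R M]
    [AddCommGroup N] [Module R N] [Module.Flat R M] [Module.Flat R N] : Module.Flat R (M × N) := by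
  rw [Module.Flat.iff_rTensor_preserves_injective_linearMap]
  intro P Q _ _ _ _ f hf
  have h1 := Module.Flat.rTensor_preserves_injective_linearMap (M := M) f hf
  have h2 := Module.Flat.rTensor_preserves_injective_linearMap (M := N) f hf
  have hcomm : ∀ z, TensorProduct.prodRight R R Q M N (f.rTensor (M × N) z) =
      ((f.rTensor M).prodMap (f.rTensor N)) (TensorProduct.prodRight R R P M N z) := by
    intro z
    induction z using TensorProduct.induction_on with
    | zero => simp only [map_zero]
    | add x y hx hy =>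
      simp only [map_add, hx, hy]
    | tmul p mn => simp
  intro x y hxy
  apply (TensorProduct.prodRight R R P M N).injective
  have := congrArg (TensorProduct.prodRight R R Q M N) hxy
  rw [hcomm, hcomm] at this
  exact (Function.Injective.prodMap h1 h2) this

open TensorProduct LinearMap in
/-- purity: for `0 → K → M → N → 0` exact with `N` flat, `X ⊗ K → X ⊗ M` is injective. -/
theorem lTensor_injective_of_flat_coker {R : Type u} [CommRing R] {K M N : Type u}
    [AddCommGroup K] [Module R K] [AddCommGroup M] [Module R M] [AddCommGroup N] [Module R N]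
    (i : K →ₗ[R] M) (g : M →ₗ[R] N) (hi : Function.Injective i) (hg : Function.Surjective g)
    (hex : Function.Exact i g) [Module.Flat R N]
    (X : Type u) [AddCommGroup X] [Module R X] : Function.Injective (i.lTensor X) := by
  -- free cover of X
  obtain ⟨F, _, _, _, π, hπ⟩ : ∃ (F : Type u) (_ : AddCommGroup F) (_ : Module R F)
      (_ : Module.Free R F) (π : F →ₗ[R] X), Function.Surjective π :=
    ⟨X →₀ R, inferInstance, inferInstance, inferInstance, Finsupp.linearCombination R id,
      Finsupp.linearCombination_id_surjective R X⟩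
  obtain ⟨G, _, _, ι, hι, hιπ⟩ : ∃ (G : Type u) (_ : AddCommGroup G) (_ : Module R G)
      (ι : G →ₗ[R] F), Function.Injective ι ∧ Function.Exact ι π :=
    ⟨LinearMap.ker π, inferInstance, inferInstance, (LinearMap.ker π).subtype,
      (LinearMap.ker π).injective_subtype, LinearMap.exact_subtype_ker_map π⟩
  rw [injective_iff_map_eq_zero]
  intro u hu
  obtain ⟨ũ, rfl⟩ := rTensor_surjective K hπ u
  -- step 2
  have h2 : π.rTensor M (i.lTensor F ũ) = 0 := by
    have : π.rTensor M (i.lTensor F ũ) = i.lTensor X (π.rTensor K ũ) := by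
      rw [← LinearMap.comp_apply, ← LinearMap.comp_apply, rTensor_comp_lTensor,
        lTensor_comp_rTensor]
    rw [this, hu]
  obtain ⟨v, hv⟩ := (rTensor_exact M hιπ hπ _).1 h2
  -- step 3
  have h3 : g.lTensor G v = 0 := by
    have hinj : Function.Injective (ι.rTensor N) :=
      Module.Flat.rTensor_preserves_injective_linearMap ι hι
    apply hinj
    rw [map_zero]
    have : ι.rTensor N (g.lTensor G v) = g.lTensor F (ι.rTensor M v) := by
      rw [← LinearMap.comp_apply, ← LinearMap.comp_apply, rTensor_comp_lTensor,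
        lTensor_comp_rTensor]
    rw [this, hv, ← LinearMap.comp_apply, ← lTensor_comp, hex.linearMap_comp_eq_zero, lTensor_zero,
      LinearMap.zero_apply]
  obtain ⟨w, hw⟩ := (lTensor_exact G hex hg _).1 h3
  -- step 5
  have h5 : ι.rTensor K w = ũ := by
    have hinj : Function.Injective (i.lTensor F) :=
      Module.Flat.lTensor_preserves_injective_linearMap i hi
    apply hinj
    have : i.lTensor F (ι.rTensor K w) = ι.rTensor M (i.lTensor G w) := by
      rw [← LinearMap.comp_apply, ← LinearMap.comp_apply, rTensor_comp_lTensor,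
        lTensor_comp_rTensor]
    rw [this, hw, hv]
  rw [← h5]
  exact (rTensor_exact K hιπ hπ).apply_apply_eq_zero w

end Groth.Agent.Helper8.FlatKer
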