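import Mathlib

set_option autoImplicit false
open RingTheory.Sequence
universe u v

namespace Groth.Agent.Helper8.RegSeqA

section Basic
variable {S : Type*} [CommRing S]

/-- elementary (colon-ideal) form of weak regularity of a sequence in a ring, stated through
splittings of the list. -/
def Colon (rs : List S) : Prop :=
  ∀ (l₁ : List S) (r : S) (l₂ : List S), rs = l₁ ++ r :: l₂ →
    ∀ x : S, r * x ∈ Ideal.ofList l₁ → x ∈ Ideal.ofList l₁

theorem isWeaklyRegular_iff_colon (rs : List S) : IsWeaklyRegular S rs ↔ Colon rs := by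
  constructor
  · intro hw l₁ r l₂ h x hx
    subst h
    have hlen : l₁.length < (l₁ ++ r :: l₂).length := by simp
    have h1 := (isWeaklyRegular_iff S _).mp hw l₁.length hlen
    rw [isSMulRegular_quotient_iff_mem_of_smul_mem] at h1
    have h2 := h1 x
    have e1 : (l₁ ++ r :: l₂)[l₁.length]'hlen = r := List.getElem_of_append rfl rfl
    have e2 : (l₁ ++ r :: l₂).take l₁.length = l₁ := by simp
    rw [e1, e2] at h2
    simp only [smul_eq_mul, Ideal.mul_top] at h2
    exact h2 hx
  · intro hc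
    refine (isWeaklyRegular_iff S rs).mpr fun j hj => ?_
    rw [isSMulRegular_quotient_iff_mem_of_smul_mem]
    intro x hx
    have hsplit : rs = rs.take j ++ rs[j] :: rs.drop (j + 1) := by
      rw [← List.drop_eq_getElem_cons hj, List.take_append_drop]
    have := hc _ _ _ hsplit x
    simp only [smul_eq_mul, Ideal.mul_top] at hx ⊢
    exact this hx

theorem isRegular_iff_colon (rs : List S) :
    IsRegular S rs ↔ Colon rs ∧ Ideal.ofList rs ≠ ⊤ := by
  rw [isRegular_iff, isWeaklyRegular_iff_colon]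
  refine and_congr Iff.rfl ?_
  rw [smul_eq_mul, Ideal.mul_top, ne_comm]

theorem colon_nil : Colon ([] : List S) := by
  intro l₁ r l₂ h
  simp at h

theorem ofList_map {S' : Type*} [CommRing S'] (f : S →+* S') (l : List S) :
    Ideal.ofList (l.map f) = (Ideal.ofList l).map f := (Ideal.map_ofList f l).symm

theorem split_map {α β : Type*} (f : α → β) {rs : List α} {l₁' : List β} {r' : β} {l₂' : List β}
    (h : rs.map f = l₁' ++ r' :: l₂') :
    ∃ l₁ r l₂, rs = l₁ ++ r :: l₂ ∧ l₁.map f = l₁' ∧ f r = r' ∧ l₂.map f = l₂' := by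
  obtain ⟨l₁, m, rfl, h1, h2⟩ := List.map_eq_append_iff.mp h
  obtain ⟨r, l₂, rfl, h3, h4⟩ := List.map_eq_cons_iff.mp h2
  exact ⟨l₁, r, l₂, rfl, h1, h3, h4⟩

theorem exists_map_eq {α β : Type*} (f : α → β) (hf : Function.Surjective f) (l : List β) :
    ∃ l' : List α, l'.map f = l := by
  induction l with
  | nil => exact ⟨[], rfl⟩
  | cons b l ih =>
    obtain ⟨l', rfl⟩ := ih
    obtain ⟨a, rfl⟩ := hf b
    exact ⟨a :: l', rfl⟩

/-- `Colon` passes along bijective ring homomorphisms. -/
theorem Colon.map_bijective {S' : Type*} [CommRing S'] (f : S →+* S')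
    (hf : Function.Bijective f) {rs : List S} (h : Colon rs) : Colon (rs.map f) := by
  intro l₁' r' l₂' hsplit x hx
  obtain ⟨l₁, r, l₂, hrs, rfl, rfl, rfl⟩ := split_map _ hsplit
  rw [ofList_map] at hx ⊢
  obtain ⟨y, rfl⟩ := hf.2 x
  rw [← map_mul] at hx
  obtain ⟨z, hz, hzy⟩ := (Ideal.mem_map_iff_of_surjective f hf.2).mp hx
  have hzy' : z = r * y := hf.1 hzy
  subst hzy'
  exact Ideal.mem_map_of_mem _ (h l₁ r l₂ hrs y hz)

theorem ofList_map_ne_top_of_bijective {S' : Type*} [CommRing S'] (f : S →+* S')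
    (hf : Function.Bijective f) {rs : List S} (h : Ideal.ofList rs ≠ ⊤) :
    Ideal.ofList (rs.map f) ≠ ⊤ := by
  rw [ofList_map]
  intro htop
  apply h
  rw [Ideal.eq_top_iff_one] at htop ⊢
  obtain ⟨z, hz, hz1⟩ := (Ideal.mem_map_iff_of_surjective f hf.2).mp htop
  have : z = 1 := hf.1 (by rw [hz1, map_one])
  rwa [this] at hz

theorem isRegular_map_bijective {S' : Type*} [CommRing S'] (f : S →+* S')
    (hf : Function.Bijective f) {rs : List S} (h : IsRegular S rs) : IsRegular S' (rs.map f) := by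
  rw [isRegular_iff_colon] at h ⊢
  exact ⟨h.1.map_bijective f hf, ofList_map_ne_top_of_bijective f hf h.2⟩

end Basic

section Loc
variable {A : Type*} [CommRing A]

/-- `Colon` passes to localizations. -/
theorem Colon.localization (M : Submonoid A) (A' : Type*) [CommRing A'] [Algebra A A']
    [IsLocalization M A'] {rs : List A} (h : Colon rs) : Colon (rs.map (algebraMap A A')) := by
  intro l₁' r' l₂' hsplit x hx
  obtain ⟨l₁, r, l₂, hrs, rfl, rfl, rfl⟩ := split_map _ hsplit
  rw [ofList_map] at hx ⊢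
  obtain ⟨⟨a, s⟩, has⟩ := IsLocalization.surj M x
  have h1 : algebraMap A A' (r * a) ∈ (Ideal.ofList l₁).map (algebraMap A A') := by
    rw [map_mul, ← has, ← mul_assoc]
    exact Ideal.mul_mem_right _ _ hx
  obtain ⟨m, hm, hma⟩ := (IsLocalization.algebraMap_mem_map_algebraMap_iff M A' _ _).mp h1
  have h2 : m * a ∈ Ideal.ofList l₁ :=
    h l₁ r l₂ hrs (m * a) (by rw [mul_left_comm]; exact hma)
  have h3 : algebraMap A A' (m * a) ∈ (Ideal.ofList l₁).map (algebraMap A A') :=
    Ideal.mem_map_of_mem _ h2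
  rw [map_mul, ← has] at h3
  have hu : IsUnit (algebraMap A A' m * algebraMap A A' s) :=
    (IsLocalization.map_units A' (⟨m, hm⟩ : M)).mul (IsLocalization.map_units A' s)
  have h4 : (algebraMap A A' m * algebraMap A A' s) * x ∈
      (Ideal.ofList l₁).map (algebraMap A A') := by
    convert h3 using 1; ring
  exact (Ideal.unit_mul_mem_iff_mem _ hu).mp h4

/-- if `I` is finitely generated and `I_p ≤ J_p` then `g I ⊆ J` for some `g ∉ p`. -/
theorem exists_mul_mem_of_map_le (p : Ideal A) [p.IsPrime] (Sp : Type*) [CommRing Sp]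
    [Algebra A Sp] [IsLocalization.AtPrime Sp p] {I J : Ideal A} (hI : I.FG)
    (h : I.map (algebraMap A Sp) ≤ J.map (algebraMap A Sp)) :
    ∃ g : A, g ∉ p ∧ ∀ t ∈ I, g * t ∈ J := by
  classical
  obtain ⟨T, rfl⟩ := hI
  have h1 : ∀ t ∈ T, ∃ m : A, m ∉ p ∧ m * t ∈ J := by
    intro t ht
    have : algebraMap A Sp t ∈ J.map (algebraMap A Sp) :=
      h (Ideal.mem_map_of_mem _ (Submodule.subset_span ht))
    obtain ⟨m, hm, hmt⟩ :=
      (IsLocalization.algebraMap_mem_map_algebraMap_iff p.primeCompl Sp _ _).mp this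
    exact ⟨m, hm, hmt⟩
  choose! m hm hmt using h1
  refine ⟨∏ t ∈ T, m t, ?_, ?_⟩
  · intro hmem
    obtain ⟨t, ht, htp⟩ := (Ideal.IsPrime.prod_mem_iff).mp hmem
    exact hm t ht htp
  · intro t ht
    refine Submodule.span_induction ?_ ?_ ?_ ?_ ht
    · intro t ht
      rw [← Finset.mul_prod_erase T m ht, mul_right_comm]
      exact Ideal.mul_mem_right _ _ (hmt t ht)
    · simp
    · intro x y _ _ hx hy
      rw [mul_add]
      exact J.add_mem hx hy
    · intro a x _ hx
      rw [smul_eq_mul, mul_left_comm]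
      exact J.mul_mem_left _ hx

theorem map_le_of_mul_mem {A' : Type*} [CommRing A'] [Algebra A A'] {I J : Ideal A} {g : A}
    (h : ∀ t ∈ I, g * t ∈ J) (hg : IsUnit (algebraMap A A' g)) :
    I.map (algebraMap A A') ≤ J.map (algebraMap A A') := by
  rw [Ideal.map_le_iff_le_comap]
  intro t ht
  rw [Ideal.mem_comap]
  have := Ideal.mem_map_of_mem (algebraMap A A') (h t ht)
  rw [map_mul] at this
  exact (Ideal.unit_mul_mem_iff_mem _ hg).mp this

theorem isUnit_of_dvd_away {g G : A} (hG : g ∣ G) (A' : Type*) [CommRing A'] [Algebra A A']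
    [IsLocalization.Away G A'] : IsUnit (algebraMap A A' g) := by
  obtain ⟨k, rfl⟩ := hG
  have : IsUnit (algebraMap A A' (g * k)) :=
    IsLocalization.map_units A' (⟨g * k, Submonoid.mem_powers _⟩ : Submonoid.powers (g * k))
  rw [map_mul] at this
  exact isUnit_of_mul_isUnit_left this

theorem colon_spread_one [IsNoetherianRing A] (p : Ideal A) [p.IsPrime] (Sp : Type*)
    [CommRing Sp] [Algebra A Sp] [IsLocalization.AtPrime Sp p] (J : Ideal A) (r : A)
    (h : ∀ x : Sp, algebraMap A Sp r * x ∈ J.map (algebraMap A Sp) →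
      x ∈ J.map (algebraMap A Sp)) :
    ∃ g : A, g ∉ p ∧ ∀ (G : A), g ∣ G → ∀ (A' : Type v) [CommRing A'] [Algebra A A']
      [IsLocalization.Away G A'], ∀ x : A',
        algebraMap A A' r * x ∈ J.map (algebraMap A A') → x ∈ J.map (algebraMap A A') := by
  let C : Ideal A := Submodule.comap (LinearMap.mulLeft A r) J
  have hC : ∀ a, a ∈ C ↔ r * a ∈ J := fun a => Iff.rfl
  have hle : C.map (algebraMap A Sp) ≤ J.map (algebraMap A Sp) := by
    rw [Ideal.map_le_iff_le_comap]
    intro c hc
    rw [Ideal.mem_comap]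
    apply h
    rw [← map_mul]
    exact Ideal.mem_map_of_mem _ ((hC c).mp hc)
  obtain ⟨g, hg, hgC⟩ := exists_mul_mem_of_map_le p Sp (IsNoetherian.noetherian C) hle
  refine ⟨g, hg, ?_⟩
  intro G hG A' _ _ _ x hx
  obtain ⟨⟨a, s⟩, has⟩ := IsLocalization.surj (Submonoid.powers G) x
  have h1 : algebraMap A A' (r * a) ∈ J.map (algebraMap A A') := by
    rw [map_mul, ← has, ← mul_assoc]
    exact Ideal.mul_mem_right _ _ hx
  obtain ⟨m, hm, hma⟩ :=
    (IsLocalization.algebraMap_mem_map_algebraMap_iff (Submonoid.powers G) A' _ _).mp h1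
  have h2 : m * a ∈ C := (hC _).mpr (by rw [mul_left_comm]; exact hma)
  have h3 : g * (m * a) ∈ J := hgC _ h2
  have h4 : algebraMap A A' (g * (m * a)) ∈ J.map (algebraMap A A') :=
    Ideal.mem_map_of_mem _ h3
  rw [map_mul, map_mul, ← has] at h4
  have hgu : IsUnit (algebraMap A A' g) := isUnit_of_dvd_away hG A'
  have hu : IsUnit (algebraMap A A' g * algebraMap A A' m * algebraMap A A' s) :=
    (hgu.mul (IsLocalization.map_units A' (⟨m, hm⟩ : Submonoid.powers G))).mul
      (IsLocalization.map_units A' s)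
  have h5 : (algebraMap A A' g * algebraMap A A' m * algebraMap A A' s) * x ∈
      J.map (algebraMap A A') := by
    convert h4 using 1; ring
  exact (Ideal.unit_mul_mem_iff_mem _ hu).mp h5

theorem colon_spread [IsNoetherianRing A] (p : Ideal A) [p.IsPrime] (Sp : Type*)
    [CommRing Sp] [Algebra A Sp] [IsLocalization.AtPrime Sp p] (rs : List A) :
    Colon (rs.map (algebraMap A Sp)) →
    ∃ g : A, g ∉ p ∧ ∀ G : A, g ∣ G → ∀ (A' : Type v) [CommRing A'] [Algebra A A']
      [IsLocalization.Away G A'], Colon (rs.map (algebraMap A A')) := by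
  induction rs using List.reverseRecOn with
  | nil =>
    intro _
    refine ⟨1, fun h => ?_, fun G _ A' _ _ _ => ?_⟩
    · exact (Ideal.IsPrime.ne_top ‹_›) ((Ideal.eq_top_iff_one p).mpr h)
    · exact colon_nil
  | append_singleton rs a ih =>
    intro hc
    have hc1 : Colon (rs.map (algebraMap A Sp)) := by
      intro l₁ r l₂ h x hx
      exact hc l₁ r (l₂ ++ [algebraMap A Sp a]) (by rw [List.map_append, h]; simp) x hx
    obtain ⟨g₁, hg₁, H₁⟩ := ih hc1
    have hlast : ∀ x : Sp, algebraMap A Sp a * x ∈ (Ideal.ofList rs).map (algebraMap A Sp) →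
        x ∈ (Ideal.ofList rs).map (algebraMap A Sp) := by
      intro x hx
      rw [← ofList_map] at hx ⊢
      exact hc (rs.map (algebraMap A Sp)) (algebraMap A Sp a) [] (by simp) x hx
    obtain ⟨g₂, hg₂, H₂⟩ := colon_spread_one (A := A) p Sp (Ideal.ofList rs) a hlast
    refine ⟨g₁ * g₂, fun h => ?_, ?_⟩
    · rcases (Ideal.IsPrime.mem_or_mem ‹_› h) with h | h
      exacts [hg₁ h, hg₂ h]
    intro G hG A' _ _ _ l₁' r' l₂' hsplit x hx
    have hG₁ : g₁ ∣ G := (Dvd.intro _ rfl).trans hG
    have hG₂ : g₂ ∣ G := (Dvd.intro_left _ rfl).trans hG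
    rw [List.map_append, List.map_singleton] at hsplit
    rcases List.eq_nil_or_concat l₂' with rfl | ⟨L, b, rfl⟩
    · obtain ⟨h1, h2⟩ := List.append_inj' hsplit (by simp)
      subst h1
      have h3 : algebraMap A A' a = r' := by simpa using h2
      subst h3
      rw [ofList_map] at hx ⊢
      exact H₂ G hG₂ A' x hx
    · have h' : rs.map (algebraMap A A') ++ [algebraMap A A' a] = (l₁' ++ r' :: L) ++ [b] := by
        rw [hsplit]; simp
      obtain ⟨h1, -⟩ := List.append_inj' h' (by simp)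
      exact H₁ G hG₁ A' l₁' r' L h1 x hx

end Loc

section Comp
variable {A B : Type*} [CommRing A] [CommRing B]

theorem comap_ofList_map (φ : A →+* B) (hφ : Function.Surjective φ) (l : List A) :
    Ideal.comap φ (Ideal.ofList (l.map φ)) = Ideal.ofList l ⊔ RingHom.ker φ := by
  rw [ofList_map, Ideal.comap_map_of_surjective φ hφ, RingHom.ker_eq_comap_bot]

theorem colon_append_of_surjective (φ : A →+* B) (hφ : Function.Surjective φ) {ss rs : List A}
    (hker : RingHom.ker φ = Ideal.ofList ss) (hss : Colon ss) (hrs : Colon (rs.map φ)) :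
    Colon (ss ++ rs) := by
  have key : ∀ (a' : List A) (r : A) (l₂ : List A), rs = a' ++ r :: l₂ → ∀ x : A,
      r * x ∈ Ideal.ofList (ss ++ a') → x ∈ Ideal.ofList (ss ++ a') := by
    intro a' r l₂ h x hx
    have e : Ideal.ofList (ss ++ a') = Ideal.comap φ (Ideal.ofList (a'.map φ)) := by
      rw [comap_ofList_map φ hφ, hker, Ideal.ofList_append, sup_comm]
    rw [e, Ideal.mem_comap] at hx ⊢
    rw [map_mul] at hx
    exact hrs (a'.map φ) (φ r) (l₂.map φ) (by rw [h]; simp) (φ x) hx
  intro l₁ r l₂ h x hx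
  rcases List.append_eq_append_iff.mp h with ⟨a', h1, h2⟩ | ⟨c', h1, h2⟩
  · subst h1
    exact key a' r l₂ h2 x hx
  · cases c' with
    | nil =>
      have h1' : l₁ = ss := by simpa using h1.symm
      subst h1'
      have h2' : rs = [] ++ r :: l₂ := by simpa using h2.symm
      have := key [] r l₂ h2' x (by simpa using hx)
      simpa using this
    | cons c c'' =>
      have h2' : r = c ∧ l₂ = c'' ++ rs := by simpa using h2
      obtain ⟨rfl, rfl⟩ := h2'
      exact hss l₁ r c'' h1 x hx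

theorem ker_comp_eq_ofList_append {C : Type*} [CommRing C] (φ₁ : A →+* B)
    (hφ₁ : Function.Surjective φ₁) (φ₂ : B →+* C) {ss rs : List A}
    (hker₁ : RingHom.ker φ₁ = Ideal.ofList ss)
    (hker₂ : RingHom.ker φ₂ = Ideal.ofList (rs.map φ₁)) :
    RingHom.ker (φ₂.comp φ₁) = Ideal.ofList (ss ++ rs) := by
  rw [← RingHom.comap_ker, hker₂, comap_ofList_map φ₁ hφ₁, hker₁, Ideal.ofList_append, sup_comm]

end Comp

end Groth.Agent.Helper8.RegSeqA
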