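import Mathlib
import Groth.Prelude
import Groth.Agent.Helper8.RegSeqA

set_option autoImplicit false
open CategoryTheory AlgebraicGeometry TopologicalSpace RingTheory.Sequence
universe u

namespace Groth.Agent.Helper8.RegSeqB
open Groth.Agent.Helper8.RegSeqA

section Alg

/-- kernel of the localization of a surjection. -/
theorem ker_of_localization {A B S T : Type*} [CommRing A] [CommRing B] [CommRing S] [CommRing T]
    [Algebra A S] [Algebra B T] (p : Ideal A) [p.IsPrime] (q : Ideal B) [q.IsPrime]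
    [IsLocalization.AtPrime S p] [IsLocalization.AtPrime T q] (φ : A →+* B)
    (hφ : Function.Surjective φ) (ψ : S →+* T)
    (hcomm : ∀ a, ψ (algebraMap A S a) = algebraMap B T (φ a)) (hpq : q.comap φ = p) :
    RingHom.ker ψ = (RingHom.ker φ).map (algebraMap A S) := by
  apply le_antisymm
  · intro s hs
    rw [RingHom.mem_ker] at hs
    obtain ⟨⟨a, t⟩, hat⟩ := IsLocalization.surj p.primeCompl s
    have h1 : algebraMap B T (φ a) = 0 := by
      rw [← hcomm, ← hat, map_mul, hs, zero_mul]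
    obtain ⟨⟨u', hu'⟩, hu'a⟩ := (IsLocalization.map_eq_zero_iff q.primeCompl T (φ a)).mp h1
    obtain ⟨u, rfl⟩ := hφ u'
    have hup : u ∉ p := by
      rw [← hpq, Ideal.mem_comap]
      exact hu'
    have h2 : u * a ∈ RingHom.ker φ := by
      rw [RingHom.mem_ker, map_mul]
      exact hu'a
    have h3 := Ideal.mem_map_of_mem (algebraMap A S) h2
    rw [map_mul, ← hat] at h3
    have hu : IsUnit (algebraMap A S u * algebraMap A S t) :=
      (IsLocalization.map_units S (⟨u, hup⟩ : p.primeCompl)).mul (IsLocalization.map_units S t)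
    have h4 : (algebraMap A S u * algebraMap A S t) * s ∈
        (RingHom.ker φ).map (algebraMap A S) := by
      convert h3 using 1; ring
    exact (Ideal.unit_mul_mem_iff_mem _ hu).mp h4
  · rw [Ideal.map_le_iff_le_comap]
    intro a ha
    rw [Ideal.mem_comap, RingHom.mem_ker, hcomm, (RingHom.mem_ker).mp ha, map_zero]

end Alg

variable {X Z : Scheme.{u}}

/-- the kernel on the affine open `U` is generated by a weakly regular sequence. -/
def RegOn (i : Z ⟶ X) (U : X.Opens) : Prop :=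
  IsAffineOpen U ∧ ∃ rs : List Γ(X, U), Colon rs ∧ RingHom.ker (i.app U).hom = Ideal.ofList rs

/-- regular near the image of a point. -/
def RegAt (i : Z ⟶ X) (z : Z) : Prop := ∃ U : X.Opens, i z ∈ U ∧ RegOn i U

theorem RegOn.of_eq {i : Z ⟶ X} {U U' : X.Opens} (h : RegOn i U) (e : U = U') : RegOn i U' :=
  e ▸ h

theorem ker_app_ne_top (i : Z ⟶ X) (z : Z) {U : X.Opens} (hz : i z ∈ U) :
    RingHom.ker (i.app U).hom ≠ ⊤ := by
  intro h
  have h1 : (1 : Γ(X, U)) ∈ RingHom.ker (i.app U).hom := by rw [h]; trivial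
  rw [RingHom.mem_ker, map_one] at h1
  have h2 := congrArg (Z.presheaf.germ (i ⁻¹ᵁ U) z hz).hom h1
  rw [map_one, map_zero] at h2
  exact one_ne_zero h2

theorem isRegularClosedImmersion_iff (i : Z ⟶ X) :
    Mor2.IsRegularClosedImmersion i ↔ IsClosedImmersion i ∧ ∀ z, RegAt i z := by
  unfold Mor2.IsRegularClosedImmersion
  refine and_congr_right fun hi => forall_congr' fun z => ?_
  constructor
  · rintro ⟨U, hU, hz, rs, hrs, hker⟩
    rw [i.ker_apply] at hker
    exact ⟨U, hz, hU, rs, ((isRegular_iff_colon rs).mp hrs).1, hker⟩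
  · rintro ⟨U, hz, hU, rs, hc, hker⟩
    refine ⟨U, hU, hz, rs, (isRegular_iff_colon rs).mpr ⟨hc, ?_⟩, by rw [i.ker_apply]; exact hker⟩
    rw [← hker]
    exact ker_app_ne_top i z hz

theorem app_surjective (i : Z ⟶ X) [IsClosedImmersion i] {U : X.Opens} (hU : IsAffineOpen U) :
    Function.Surjective (i.app U).hom :=
  (isClosedImmersion_iff_isAffineHom.mp ‹_›).2 U hU

/-- restriction of regular data to a basic open. -/
theorem RegOn.basicOpen (i : Z ⟶ X) [IsClosedImmersion i] {U : X.Opens} (h : RegOn i U)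
    (f : Γ(X, U)) : RegOn i (X.basicOpen f) := by
  obtain ⟨hU, rs, hc, hker⟩ := h
  refine ⟨hU.basicOpen f, rs.map (X.presheaf.map (homOfLE (X.basicOpen_le f)).op).hom, ?_, ?_⟩
  · haveI := hU.isLocalization_basicOpen f
    exact hc.localization (Submonoid.powers f) Γ(X, X.basicOpen f)
  · rw [ofList_map, ← hker, ← i.ker_apply ⟨U, hU⟩, ← i.ker_apply ⟨X.basicOpen f, hU.basicOpen f⟩]
    exact (i.ker.map_ideal_basicOpen ⟨U, hU⟩ f).symm

/-- the kernel of the stalk map is the localization of the kernel on an affine open. -/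
theorem ker_stalkMap_eq (i : Z ⟶ X) (z : Z) {U : X.Opens} (hU : IsAffineOpen U) (hz : i z ∈ U)
    (hV : IsAffineOpen (i ⁻¹ᵁ U)) (hsurj : Function.Surjective (i.app U).hom) :
    RingHom.ker (i.stalkMap z).hom =
      (RingHom.ker (i.app U).hom).map (X.presheaf.germ U (i z) hz).hom := by
  letI algS : Algebra Γ(X, U) (X.presheaf.stalk (i z)) :=
    X.presheaf.algebra_section_stalk ⟨i z, hz⟩
  letI algT : Algebra Γ(Z, i ⁻¹ᵁ U) (Z.presheaf.stalk z) :=
    Z.presheaf.algebra_section_stalk ⟨z, hz⟩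
  haveI locS : IsLocalization.AtPrime (X.presheaf.stalk (i z))
      (hU.primeIdealOf ⟨i z, hz⟩).asIdeal := hU.isLocalization_stalk ⟨i z, hz⟩
  haveI locT : IsLocalization.AtPrime (Z.presheaf.stalk z)
      (hV.primeIdealOf ⟨z, hz⟩).asIdeal := hV.isLocalization_stalk ⟨z, hz⟩
  have hpq : (hV.primeIdealOf ⟨z, hz⟩).asIdeal.comap (i.app U).hom =
      (hU.primeIdealOf ⟨i z, hz⟩).asIdeal := by
    have := IsAffineOpen.comap_primeIdealOf_appLE (f := i) (x := z) U hU (i ⁻¹ᵁ U) hV le_rfl hz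
    rw [Scheme.Hom.appLE_eq_app] at this
    exact congrArg PrimeSpectrum.asIdeal this
  exact ker_of_localization _ _ (i.app U).hom hsurj (i.stalkMap z).hom
    (fun a => Scheme.Hom.germ_stalkMap_apply i U z hz a) hpq

/-- from an affine open to the stalk. -/
theorem stalk_of_regOn (i : Z ⟶ X) (z : Z) {U : X.Opens} (hz : i z ∈ U) (h : RegOn i U)
    (hV : IsAffineOpen (i ⁻¹ᵁ U)) (hsurj : Function.Surjective (i.app U).hom) :
    ∃ rs : List (X.presheaf.stalk (i z)), IsRegular (X.presheaf.stalk (i z)) rs ∧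
      RingHom.ker (i.stalkMap z).hom = Ideal.ofList rs := by
  obtain ⟨hU, rs, hc, hker⟩ := h
  letI algS : Algebra Γ(X, U) (X.presheaf.stalk (i z)) :=
    X.presheaf.algebra_section_stalk ⟨i z, hz⟩
  haveI locS : IsLocalization.AtPrime (X.presheaf.stalk (i z))
      (hU.primeIdealOf ⟨i z, hz⟩).asIdeal := hU.isLocalization_stalk ⟨i z, hz⟩
  have hk : RingHom.ker (i.stalkMap z).hom =
      Ideal.ofList (rs.map (X.presheaf.germ U (i z) hz).hom) := by
    rw [ker_stalkMap_eq i z hU hz hV hsurj, hker, ofList_map]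
  refine ⟨rs.map (X.presheaf.germ U (i z) hz).hom, (isRegular_iff_colon _).mpr ⟨?_, ?_⟩, hk⟩
  · exact hc.localization (hU.primeIdealOf ⟨i z, hz⟩).asIdeal.primeCompl
      (X.presheaf.stalk (i z))
  · rw [← hk]
    intro htop
    have h1 : (1 : X.presheaf.stalk (i z)) ∈ RingHom.ker (i.stalkMap z).hom := by
      rw [htop]; trivial
    rw [RingHom.mem_ker, map_one] at h1
    exact one_ne_zero h1

theorem stalk_of_regAt (i : Z ⟶ X) [IsClosedImmersion i] (z : Z) (h : RegAt i z) :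
    ∃ rs : List (X.presheaf.stalk (i z)), IsRegular (X.presheaf.stalk (i z)) rs ∧
      RingHom.ker (i.stalkMap z).hom = Ideal.ofList rs := by
  obtain ⟨U, hz, hreg⟩ := h
  exact stalk_of_regOn i z hz hreg (hreg.1.preimage i) (app_surjective i hreg.1)

/-- lifting a finite list of germs to an affine open neighbourhood. -/
theorem exists_lift_list (x : X) (l : List (X.presheaf.stalk x)) :
    ∃ (U : X.Opens) (_ : IsAffineOpen U) (hx : x ∈ U) (l₀ : List Γ(X, U)),
      l₀.map (X.presheaf.germ U x hx).hom = l := by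
  induction l with
  | nil =>
    obtain ⟨U, hU, hxU, -⟩ := (Opens.isBasis_iff_nbhd.1 X.isBasis_affineOpens)
      (show x ∈ (⊤ : X.Opens) from trivial)
    exact ⟨U, hU, hxU, [], rfl⟩
  | cons r l ih =>
    obtain ⟨U₁, hU₁, hx₁, l₁, hl₁⟩ := ih
    obtain ⟨W, hxW, s, hs⟩ := TopCat.Presheaf.germ_exist X.presheaf r
    obtain ⟨U, hU, hxU, hle⟩ := (Opens.isBasis_iff_nbhd.1 X.isBasis_affineOpens)
      (show x ∈ U₁ ⊓ W from ⟨hx₁, hxW⟩)
    have hle₁ : U ≤ U₁ := hle.trans inf_le_left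
    have hleW : U ≤ W := hle.trans inf_le_right
    refine ⟨U, hU, hxU, (X.presheaf.map (homOfLE hleW).op).hom s ::
      l₁.map (X.presheaf.map (homOfLE hle₁).op).hom, ?_⟩
    rw [List.map_cons, List.map_map]
    congr 1
    · rw [← hs]
      exact TopCat.Presheaf.germ_res_apply X.presheaf (homOfLE hleW) x hxU s
    · rw [← hl₁]
      refine List.map_congr_left fun a _ => ?_
      exact TopCat.Presheaf.germ_res_apply X.presheaf (homOfLE hle₁) x hxU a

/-- from the stalk to an affine open neighbourhood (locally Noetherian case). -/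
theorem regAt_of_stalk [IsLocallyNoetherian X] (i : Z ⟶ X) [IsClosedImmersion i] (z : Z)
    (rs : List (X.presheaf.stalk (i z))) (hrs : IsRegular (X.presheaf.stalk (i z)) rs)
    (hker : RingHom.ker (i.stalkMap z).hom = Ideal.ofList rs) : RegAt i z := by
  obtain ⟨U, hU, hz, rs₀, rfl⟩ := exists_lift_list (i z) rs
  letI algS : Algebra Γ(X, U) (X.presheaf.stalk (i z)) :=
    X.presheaf.algebra_section_stalk ⟨i z, hz⟩
  haveI locS : IsLocalization.AtPrime (X.presheaf.stalk (i z))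
      (hU.primeIdealOf ⟨i z, hz⟩).asIdeal := hU.isLocalization_stalk ⟨i z, hz⟩
  haveI : IsNoetherianRing Γ(X, U) := IsLocallyNoetherian.component_noetherian ⟨U, hU⟩
  have hkS : (RingHom.ker (i.app U).hom).map (algebraMap Γ(X, U) (X.presheaf.stalk (i z))) =
      (Ideal.ofList rs₀).map (algebraMap Γ(X, U) (X.presheaf.stalk (i z))) := by
    have := ker_stalkMap_eq i z hU hz (hU.preimage i) (app_surjective i hU)
    rw [hker, ofList_map] at this
    exact this.symm
  have hc : Colon (rs₀.map (algebraMap Γ(X, U) (X.presheaf.stalk (i z)))) :=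
    ((isRegular_iff_colon _).mp hrs).1
  obtain ⟨g₁, hg₁, H₁⟩ := colon_spread (hU.primeIdealOf ⟨i z, hz⟩).asIdeal
    (X.presheaf.stalk (i z)) rs₀ hc
  obtain ⟨g₂, hg₂, H₂⟩ := exists_mul_mem_of_map_le (hU.primeIdealOf ⟨i z, hz⟩).asIdeal
    (X.presheaf.stalk (i z)) (IsNoetherian.noetherian (RingHom.ker (i.app U).hom)) hkS.le
  obtain ⟨g₃, hg₃, H₃⟩ := exists_mul_mem_of_map_le (hU.primeIdealOf ⟨i z, hz⟩).asIdeal
    (X.presheaf.stalk (i z)) (IsNoetherian.noetherian (Ideal.ofList rs₀)) hkS.ge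
  obtain ⟨G, hG⟩ : ∃ G, G = g₁ * g₂ * g₃ := ⟨_, rfl⟩
  have hGp : G ∉ (hU.primeIdealOf ⟨i z, hz⟩).asIdeal := by
    rw [hG]
    intro h
    rcases Ideal.IsPrime.mem_or_mem inferInstance h with h | h
    · rcases Ideal.IsPrime.mem_or_mem inferInstance h with h | h
      exacts [hg₁ h, hg₂ h]
    · exact hg₃ h
  have hd₁ : g₁ ∣ G := ⟨g₂ * g₃, by rw [hG]; ring⟩
  have hd₂ : g₂ ∣ G := ⟨g₁ * g₃, by rw [hG]; ring⟩
  have hd₃ : g₃ ∣ G := ⟨g₁ * g₂, by rw [hG]; ring⟩
  haveI locG := hU.isLocalization_basicOpen G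
  have hzG : i z ∈ X.basicOpen G := by
    rw [Scheme.mem_basicOpen X G (i z) hz]
    exact (IsLocalization.AtPrime.isUnit_to_map_iff (X.presheaf.stalk (i z))
      (hU.primeIdealOf ⟨i z, hz⟩).asIdeal G).mpr hGp
  refine ⟨X.basicOpen G, hzG, hU.basicOpen G,
    rs₀.map (algebraMap Γ(X, U) Γ(X, X.basicOpen G)), H₁ G hd₁ Γ(X, X.basicOpen G), ?_⟩
  rw [ofList_map, ← i.ker_apply ⟨X.basicOpen G, hU.basicOpen G⟩]
  have hmap := i.ker.map_ideal_basicOpen ⟨U, hU⟩ G
  rw [i.ker_apply ⟨U, hU⟩] at hmap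
  have e : i.ker.ideal ⟨X.basicOpen G, hU.basicOpen G⟩ =
      (RingHom.ker (i.app U).hom).map (algebraMap Γ(X, U) Γ(X, X.basicOpen G)) := hmap.symm
  rw [e]
  apply le_antisymm
  · exact map_le_of_mul_mem H₂ (isUnit_of_dvd_away hd₂ Γ(X, X.basicOpen G))
  · exact map_le_of_mul_mem H₃ (isUnit_of_dvd_away hd₃ Γ(X, X.basicOpen G))

/-- regular data on an open subscheme and on the ambient scheme. -/
theorem regOn_restrict_iff (i : Z ⟶ X) (V : X.Opens) (U' : V.toScheme.Opens) :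
    RegOn (i ∣_ V) U' ↔ RegOn i (V.ι ''ᵁ U') := by
  have hinj : Function.Injective (Z.presheaf.map
      (eqToHom (image_morphismRestrict_preimage i V U')).op).hom :=
    (ConcreteCategory.bijective_of_isIso (Z.presheaf.map
      (eqToHom (image_morphismRestrict_preimage i V U')).op)).1
  have h1 : ∀ a : Γ(X, V.ι ''ᵁ U'), ((i ∣_ V).app U').hom a =
      (Z.presheaf.map (eqToHom (image_morphismRestrict_preimage i V U')).op).hom
        ((i.app (V.ι ''ᵁ U')).hom a) := by
    intro a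
    have := morphismRestrict_app i V U'
    exact congrArg (fun φ => φ.hom a) this
  have hk : RingHom.ker ((i ∣_ V).app U').hom = RingHom.ker (i.app (V.ι ''ᵁ U')).hom := by
    refine Ideal.ext fun a => ?_
    show ((i ∣_ V).app U').hom a = 0 ↔ (i.app (V.ι ''ᵁ U')).hom a = 0
    rw [h1 a]
    exact map_eq_zero_iff _ hinj
  unfold RegOn
  rw [V.ι.isAffineOpen_iff_of_isOpenImmersion]
  refine and_congr_right fun _ => ?_
  constructor
  · rintro ⟨rs, hc, hker⟩
    exact ⟨rs, hc, hk ▸ hker⟩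
  · rintro ⟨rs, hc, hker⟩
    exact ⟨rs, hc, hk.symm ▸ hker⟩

/-- for a closed immersion, being a regular closed immersion near the image of `z`. -/
theorem exists_restrict_iff_regAt (i : Z ⟶ X) [IsClosedImmersion i] (z : Z) :
    (∃ V : X.Opens, i z ∈ V ∧ Mor2.IsRegularClosedImmersion (i ∣_ V)) ↔ RegAt i z := by
  constructor
  · rintro ⟨V, hzV, h⟩
    obtain ⟨U', hz', hreg⟩ := ((isRegularClosedImmersion_iff _).mp h).2 ⟨z, hzV⟩
    refine ⟨V.ι ''ᵁ U', ?_, (regOn_restrict_iff i V U').mp hreg⟩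
    refine ⟨(i ∣_ V) ⟨z, hzV⟩, hz', ?_⟩
    exact morphismRestrict_base_coe i V ⟨z, hzV⟩
  · rintro ⟨U, hz, hreg⟩
    refine ⟨U, hz, (isRegularClosedImmersion_iff _).mpr
      ⟨IsZariskiLocalAtTarget.restrict ‹IsClosedImmersion i› U, fun z' => ?_⟩⟩
    refine ⟨⊤, trivial, (regOn_restrict_iff i U ⊤).mpr (hreg.of_eq U.ι_image_top.symm)⟩

/-- composition of regular data. -/
theorem regOn_comp {Y : Scheme.{u}} (i : Z ⟶ Y) (j : Y ⟶ X) {W : X.Opens} (hj : RegOn j W)
    (hi : RegOn i (j ⁻¹ᵁ W)) (hsurj : Function.Surjective (j.app W).hom) :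
    RegOn (i ≫ j) W := by
  obtain ⟨hW, ss, hss, hkj⟩ := hj
  obtain ⟨-, rs, hrs, hki⟩ := hi
  obtain ⟨rs', rfl⟩ := exists_map_eq _ hsurj rs
  refine ⟨hW, ss ++ rs', colon_append_of_surjective _ hsurj hkj hss hrs, ?_⟩
  have e : ((i ≫ j).app W).hom = (i.app (j ⁻¹ᵁ W)).hom.comp (j.app W).hom := by
    rw [Scheme.Hom.comp_app]
    rfl
  rw [e]
  exact ker_comp_eq_ofList_append _ hsurj _ hkj hki

theorem regAt_comp {Y : Scheme.{u}} (i : Z ⟶ Y) (j : Y ⟶ X) [IsClosedImmersion i]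
    [IsClosedImmersion j] (z : Z) (hi : RegAt i z) (hj : RegAt j (i z)) : RegAt (i ≫ j) z := by
  obtain ⟨U, hzU, hregU⟩ := hj
  obtain ⟨U₁, hzU₁, hregU₁⟩ := hi
  have hV : IsAffineOpen (j ⁻¹ᵁ U) := hregU.1.preimage j
  obtain ⟨fbar, g, hfg, hzf⟩ := exists_basicOpen_le_affine_inter hV hregU₁.1 (i z) ⟨hzU, hzU₁⟩
  obtain ⟨f, rfl⟩ := app_surjective j hregU.1 fbar
  have hpre : j ⁻¹ᵁ X.basicOpen f = Y.basicOpen g := by
    rw [Scheme.preimage_basicOpen]
    exact hfg
  refine ⟨X.basicOpen f, ?_, regOn_comp i j (hregU.basicOpen j f)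
    ((hregU₁.basicOpen i g).of_eq hpre.symm) (app_surjective j (hregU.1.basicOpen f))⟩
  show j (i z) ∈ X.basicOpen f
  have : i z ∈ j ⁻¹ᵁ X.basicOpen f := by
    rw [Scheme.preimage_basicOpen]
    exact hzf
  exact this

end Groth.Agent.Helper8.RegSeqB
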