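import Mathlib
import Groth.Prelude
import Groth.Agent.Helper8.RegSeqB

set_option autoImplicit false
open CategoryTheory AlgebraicGeometry TopologicalSpace RingTheory.Sequence
universe u

namespace Groth.Agent.Helper8.RegSeqC
open Groth.Agent.Helper8.RegSeqA Groth.Agent.Helper8.RegSeqB

variable {X Z : Scheme.{u}}

theorem restrict_app_apply (i : Z ⟶ X) (V : X.Opens) (U' : V.toScheme.Opens)
    (a : Γ(X, V.ι ''ᵁ U')) :
    ((i ∣_ V).app U').hom a =
      (Z.presheaf.map (eqToHom (image_morphismRestrict_preimage i V U')).op).hom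
        ((i.app (V.ι ''ᵁ U')).hom a) := by
  have := morphismRestrict_app i V U'
  exact congrArg (fun φ => φ.hom a) this

theorem restrict_app_surjective (i : Z ⟶ X) (V : X.Opens) (U' : V.toScheme.Opens)
    (h : Function.Surjective ((i ∣_ V).app U').hom) :
    Function.Surjective (i.app (V.ι ''ᵁ U')).hom := by
  have hbij := ConcreteCategory.bijective_of_isIso (Z.presheaf.map
      (eqToHom (image_morphismRestrict_preimage i V U')).op)
  intro b
  obtain ⟨a, ha⟩ := h ((Z.presheaf.map
      (eqToHom (image_morphismRestrict_preimage i V U')).op).hom b)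
  refine ⟨a, hbij.1 ?_⟩
  rw [← ha]
  exact (restrict_app_apply i V U' a).symm

theorem app_surjective_of_eq (i : Z ⟶ X) {U U' : X.Opens} (e : U = U')
    (h : Function.Surjective (i.app U).hom) : Function.Surjective (i.app U').hom := by
  subst e
  exact h

theorem s1679 [IsLocallyNoetherian X] (i : Z ⟶ X) [IsClosedImmersion i] (z : Z) :
    (∃ V : X.Opens, i z ∈ V ∧ Mor2.IsRegularClosedImmersion (i ∣_ V)) ↔
      ∃ rs : List (X.presheaf.stalk (i z)), IsRegular (X.presheaf.stalk (i z)) rs ∧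
        RingHom.ker (i.stalkMap z).hom = Ideal.ofList rs := by
  rw [exists_restrict_iff_regAt]
  exact ⟨stalk_of_regAt i z, fun ⟨rs, hrs, hker⟩ => regAt_of_stalk i z rs hrs hker⟩

theorem s1661 {Y : Scheme.{u}} (i : Z ⟶ Y) (j : Y ⟶ X)
    (hi : Mor2.IsRegularClosedImmersion i) (hj : Mor2.IsRegularClosedImmersion j) :
    Mor2.IsRegularClosedImmersion (i ≫ j) := by
  rw [isRegularClosedImmersion_iff] at hi hj ⊢
  obtain ⟨hi1, hi2⟩ := hi
  obtain ⟨hj1, hj2⟩ := hj
  haveI := hi1
  haveI := hj1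
  exact ⟨inferInstance, fun z => regAt_comp i j z (hi2 z) (hj2 (i z))⟩

theorem s18944 (i : Z ⟶ X) (h : RegImm.IsRegularImmersion RegImm.Kind.regular i) (z : Z) :
    ∃ rs : List (X.presheaf.stalk (i z)), IsRegular (X.presheaf.stalk (i z)) rs ∧
      RingHom.ker (i.stalkMap z).hom = Ideal.ofList rs := by
  obtain ⟨U, hzU, hcl, rs, hrs, hker⟩ := h.2 z
  have hrs' : IsRegular Γ(X, U.1) rs := hrs
  haveI : IsAffine U.1.toScheme := U.2
  have hV : IsAffineOpen (i ⁻¹ᵁ U.1) := isAffine_of_isAffineHom (i ∣_ U.1)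
  have hs0 : Function.Surjective ((i ∣_ U.1).app ⊤).hom :=
    (isClosedImmersion_iff_isAffineHom.mp hcl).2 ⊤ (isAffineOpen_top _)
  have hs1 := restrict_app_surjective i U.1 ⊤ hs0
  have hs2 : Function.Surjective (i.app U.1).hom :=
    app_surjective_of_eq i U.1.ι_image_top hs1
  exact stalk_of_regOn i z hzU ⟨U.2, rs, ((isRegular_iff_colon rs).mp hrs').1, hker⟩ hV hs2

end Groth.Agent.Helper8.RegSeqC
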