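import Mathlib
import Groth.Prelude
import Groth.Agent.Lead.RegLocal
import Groth.Agent.Helper8.RegSeqC

set_option autoImplicit false
open CategoryTheory AlgebraicGeometry TopologicalSpace RingTheory.Sequence IsLocalRing
universe u

namespace Groth.Agent.Helper8.RegSeqD
open Groth.Agent.Helper8.RegSeqA Groth.Agent.Helper8.RegSeqB

section Alg
variable {S : Type u} [CommRing S]

theorem ofList_cons_eq_comap (x : S) (l : List S) :
    Ideal.ofList (x :: l) = Ideal.comap (Ideal.Quotient.mk (Ideal.span {x}))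
      (Ideal.ofList (l.map (Ideal.Quotient.mk (Ideal.span {x})))) := by
  rw [comap_ofList_map _ Ideal.Quotient.mk_surjective, Ideal.mk_ker, Ideal.ofList_cons, sup_comm]

theorem colon_cons_iff (x : S) (rs : List S) :
    Colon (x :: rs) ↔ (∀ y, x * y = 0 → y = 0) ∧
      Colon (rs.map (Ideal.Quotient.mk (Ideal.span {x}))) := by
  constructor
  · intro hc
    refine ⟨fun y hy => ?_, ?_⟩
    · have := hc [] x rs rfl y (by rw [hy]; exact Ideal.zero_mem _)
      simpa using this
    · intro l₁' r' l₂' hsplit y' hy'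
      obtain ⟨l₁, r, l₂, hrs, rfl, rfl, rfl⟩ := split_map _ hsplit
      obtain ⟨y, rfl⟩ := Ideal.Quotient.mk_surjective y'
      have h1 : r * y ∈ Ideal.ofList (x :: l₁) := by
        rw [ofList_cons_eq_comap, Ideal.mem_comap, map_mul]
        exact hy'
      have h2 := hc (x :: l₁) r l₂ (by rw [hrs]; rfl) y h1
      rw [ofList_cons_eq_comap, Ideal.mem_comap] at h2
      exact h2
  · rintro ⟨hx, hc⟩ l₁ r l₂ hsplit y hy
    cases l₁ with
    | nil =>
      simp only [List.nil_append, List.cons.injEq] at hsplit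
      obtain ⟨rfl, rfl⟩ := hsplit
      simp only [Ideal.ofList_nil, Ideal.mem_bot] at hy ⊢
      exact hx y hy
    | cons a l₁' =>
      simp only [List.cons_append, List.cons.injEq] at hsplit
      obtain ⟨rfl, rfl⟩ := hsplit
      rw [ofList_cons_eq_comap, Ideal.mem_comap] at hy ⊢
      rw [map_mul] at hy
      exact hc (l₁'.map (Ideal.Quotient.mk (Ideal.span {x}))) (Ideal.Quotient.mk _ r)
        (l₂.map (Ideal.Quotient.mk (Ideal.span {x}))) (by simp) _ hy

/-- lifting generators of the maximal ideal of a quotient. -/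
theorem maximalIdeal_eq_span_sup [IsLocalRing S] [IsNoetherianRing S] (K : Ideal S)
    [IsLocalRing (S ⧸ K)] :
    ∃ L : Set S, L.Finite ∧ L.ncard ≤ (maximalIdeal (S ⧸ K)).spanFinrank ∧
      maximalIdeal S = Ideal.span L ⊔ K := by
  classical
  have hmk : Function.Surjective (Ideal.Quotient.mk K) := Ideal.Quotient.mk_surjective
  have hfg : (maximalIdeal (S ⧸ K)).FG := (maximalIdeal (S ⧸ K)).fg_of_isNoetherianRing
  have hGfin := Submodule.FG.finite_generators hfg
  have hGspan : Ideal.span (Submodule.generators (maximalIdeal (S ⧸ K))) = maximalIdeal (S ⧸ K) :=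
    Submodule.span_generators _
  have hGcard : (Submodule.generators (maximalIdeal (S ⧸ K))).ncard =
      (maximalIdeal (S ⧸ K)).spanFinrank := Submodule.FG.generators_ncard hfg
  refine ⟨Function.surjInv hmk '' (Submodule.generators (maximalIdeal (S ⧸ K))),
    hGfin.image _, ?_, ?_⟩
  · rw [← hGcard]
    exact Set.ncard_image_le hGfin
  · have hL : (Ideal.Quotient.mk K) ''
        (Function.surjInv hmk '' (Submodule.generators (maximalIdeal (S ⧸ K)))) =
        Submodule.generators (maximalIdeal (S ⧸ K)) := by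
      rw [Set.image_image]
      simp [Function.surjInv_eq hmk]
    have hmax : Ideal.comap (Ideal.Quotient.mk K) (maximalIdeal (S ⧸ K)) = maximalIdeal S := by
      haveI : IsLocalHom (Ideal.Quotient.mk K) := IsLocalHom.of_surjective _ hmk
      ext z
      simp only [Ideal.mem_comap, mem_maximalIdeal, mem_nonunits_iff]
      exact not_congr (isUnit_map_iff (Ideal.Quotient.mk K) z)
    have h1 : maximalIdeal (S ⧸ K) = Ideal.map (Ideal.Quotient.mk K)
        (Ideal.span (Function.surjInv hmk '' (Submodule.generators (maximalIdeal (S ⧸ K))))) := by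
      rw [Ideal.map_span, hL]
      exact hGspan.symm
    rw [← hmax]
    exact (congrArg (Ideal.comap (Ideal.Quotient.mk K)) h1).trans
      (by rw [Ideal.comap_map_of_surjective _ hmk, ← RingHom.ker_eq_comap_bot, Ideal.mk_ker])

theorem spanFinrank_le_of_quotient [IsLocalRing S] [IsNoetherianRing S] {x : S}
    [IsLocalRing (S ⧸ Ideal.span {x})] :
    (maximalIdeal S).spanFinrank ≤ (maximalIdeal (S ⧸ Ideal.span {x})).spanFinrank + 1 := by
  obtain ⟨L, hLfin, hLcard, hm⟩ := maximalIdeal_eq_span_sup (Ideal.span {x})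
  have hm' : maximalIdeal S = Ideal.span (insert x L) := by
    rw [hm, Ideal.span_insert, sup_comm]
  rw [hm']
  refine (Submodule.spanFinrank_span_le_ncard_of_finite (hLfin.insert x)).trans ?_
  exact (Set.ncard_insert_le x L).trans (by omega)

theorem regular_of_quotient_regular [IsLocalRing S] [IsNoetherianRing S] {x : S}
    (hnzd : ∀ y, x * y = 0 → y = 0)
    (h : IsRegularLocalRing (S ⧸ Ideal.span {x})) : IsRegularLocalRing S := by
  apply IsRegularLocalRing.of_spanFinrank_maximalIdeal_le
  have hx0 : x ∈ nonZeroDivisors S := mem_nonZeroDivisors_iff_left.mpr hnzd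
  have hdim := ringKrullDim_quotient_succ_le_of_nonZeroDivisor hx0
  have hspan := spanFinrank_le_of_quotient (S := S) (x := x)
  have hreg : ((maximalIdeal (S ⧸ Ideal.span {x})).spanFinrank : WithBot ℕ∞) =
      ringKrullDim (S ⧸ Ideal.span {x}) := h.spanFinrank_maximalIdeal
  calc ((maximalIdeal S).spanFinrank : WithBot ℕ∞)
      ≤ (((maximalIdeal (S ⧸ Ideal.span {x})).spanFinrank + 1 : ℕ) : WithBot ℕ∞) := by
        exact_mod_cast hspan
    _ = ringKrullDim (S ⧸ Ideal.span {x}) + 1 := by
        rw [← hreg]; push_cast; rfl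
    _ ≤ ringKrullDim S := hdim

theorem regular_of_regular_quotient : ∀ (n : ℕ) (S : Type u) [CommRing S] [IsLocalRing S]
    [IsNoetherianRing S] (rs : List S), rs.length = n → IsRegular S rs →
    IsRegularLocalRing (S ⧸ Ideal.ofList rs) → IsRegularLocalRing S := by
  intro n
  induction n with
  | zero =>
    intro S _ _ _ rs hlen _ h
    have : rs = [] := List.length_eq_zero_iff.mp hlen
    subst this
    have e : (S ⧸ Ideal.ofList ([] : List S)) ≃+* S :=
      (Ideal.quotEquivOfEq Ideal.ofList_nil).trans (RingEquiv.quotientBot S)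
    exact IsRegularLocalRing.of_ringEquiv e
  | succ n ih =>
    intro S _ _ _ rs hlen hreg h
    obtain ⟨x, rs', rfl⟩ := List.exists_cons_of_length_eq_add_one hlen
    rw [isRegular_iff_colon, colon_cons_iff] at hreg
    obtain ⟨⟨hnzd, hc⟩, htop⟩ := hreg
    have hxm : ¬ IsUnit x := by
      intro hu
      apply htop
      exact Ideal.eq_top_of_isUnit_mem _ (Ideal.subset_span List.mem_cons_self) hu
    have hxtop : Ideal.span {x} ≠ ⊤ := by
      rw [Ne, Ideal.span_singleton_eq_top]
      exact hxm
    haveI : Nontrivial (S ⧸ Ideal.span {x}) := Ideal.Quotient.nontrivial_iff.mpr hxtop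
    haveI : IsLocalRing (S ⧸ Ideal.span {x}) :=
      IsLocalRing.of_surjective' (Ideal.Quotient.mk _) Ideal.Quotient.mk_surjective
    have e : ((S ⧸ Ideal.span {x}) ⧸
        Ideal.ofList (rs'.map (Ideal.Quotient.mk (Ideal.span {x})))) ≃+*
        (S ⧸ Ideal.ofList (x :: rs')) :=
      ((Ideal.quotEquivOfEq (ofList_map _ _)).trans
        (DoubleQuot.quotQuotEquivQuotSup (Ideal.span {x}) (Ideal.ofList rs'))).trans
        (Ideal.quotEquivOfEq (by rw [Ideal.ofList_cons]))
    have h' : IsRegularLocalRing ((S ⧸ Ideal.span {x}) ⧸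
        Ideal.ofList (rs'.map (Ideal.Quotient.mk (Ideal.span {x})))) :=
      IsRegularLocalRing.of_ringEquiv e.symm
    have htop' : Ideal.ofList (rs'.map (Ideal.Quotient.mk (Ideal.span {x}))) ≠ ⊤ := by
      haveI := h'.toIsLocalRing
      exact Ideal.Quotient.nontrivial_iff.mp inferInstance
    have hS' := ih (S ⧸ Ideal.span {x}) (rs'.map _) (by simpa using hlen)
      ((isRegular_iff_colon _).mpr ⟨hc, htop'⟩) h'
    exact regular_of_quotient_regular hnzd hS'

/-- a regular quotient of a regular local ring by an ideal inside `m²` is trivial. -/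
theorem eq_bot_of_le_sq [IsRegularLocalRing S] (K : Ideal S) (hK : IsRegularLocalRing (S ⧸ K))
    (hle : K ≤ maximalIdeal S ^ 2) : K = ⊥ := by
  haveI : IsDomain S := Groth.Agent.Lead.RegLocal.isDomain_of_isRegularLocalRing S
  haveI := hK.toIsLocalRing
  by_contra hne
  obtain ⟨x, hxK, hx0⟩ := Submodule.exists_mem_ne_zero_of_ne_bot hne
  -- embedding dimension does not drop
  obtain ⟨L, hLfin, hLcard, hm⟩ := maximalIdeal_eq_span_sup K
  have h1 : maximalIdeal S ≤ Ideal.span L := by
    apply Submodule.le_of_le_smul_of_le_jacobson_bot (maximalIdeal S).fg_of_isNoetherianRing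
      (IsLocalRing.maximalIdeal_le_jacobson ⊥)
    rw [smul_eq_mul, ← pow_two]
    calc maximalIdeal S = Ideal.span L ⊔ K := hm
      _ ≤ Ideal.span L ⊔ maximalIdeal S ^ 2 := sup_le_sup_left hle _
  have h2 : Ideal.span L ≤ maximalIdeal S := by
    rw [hm]; exact le_sup_left
  have h3 : maximalIdeal S = Ideal.span L := le_antisymm h1 h2
  have h4 : (maximalIdeal S).spanFinrank ≤ (maximalIdeal (S ⧸ K)).spanFinrank := by
    rw [h3]
    exact (Submodule.spanFinrank_span_le_ncard_of_finite hLfin).trans hLcard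
  -- dimension drops
  have hx0' : x ∈ nonZeroDivisors S := mem_nonZeroDivisors_of_ne_zero hx0
  have hdim1 := ringKrullDim_quotient_succ_le_of_nonZeroDivisor hx0'
  have hdim2 : ringKrullDim (S ⧸ K) ≤ ringKrullDim (S ⧸ Ideal.span {x}) :=
    ringKrullDim_le_of_surjective
      (Ideal.Quotient.factor ((Ideal.span_singleton_le_iff_mem K).mpr hxK))
      (Ideal.Quotient.factor_surjective _)
  have hr1 : ((maximalIdeal S).spanFinrank : WithBot ℕ∞) = ringKrullDim S :=
    IsRegularLocalRing.spanFinrank_maximalIdeal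
  have hr2 : ((maximalIdeal (S ⧸ K)).spanFinrank : WithBot ℕ∞) = ringKrullDim (S ⧸ K) :=
    hK.spanFinrank_maximalIdeal
  have h5 : ((maximalIdeal (S ⧸ K)).spanFinrank : WithBot ℕ∞) + 1 ≤
      ((maximalIdeal S).spanFinrank : WithBot ℕ∞) := by
    rw [hr1, hr2]
    exact (by gcongr : ringKrullDim (S ⧸ K) + 1 ≤ ringKrullDim (S ⧸ Ideal.span {x}) + 1).trans hdim1
  have h6 : (maximalIdeal (S ⧸ K)).spanFinrank + 1 ≤ (maximalIdeal S).spanFinrank := by
    exact_mod_cast h5
  omega

theorem exists_regular_of_regular_quotient : ∀ (n : ℕ) (S : Type u) [CommRing S]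
    [IsRegularLocalRing S], (maximalIdeal S).spanFinrank = n → ∀ K : Ideal S,
    IsRegularLocalRing (S ⧸ K) → ∃ rs : List S, IsRegular S rs ∧ K = Ideal.ofList rs := by
  intro n
  induction n with
  | zero =>
    intro S _ _ hn K hK
    have hbot : maximalIdeal S = ⊥ :=
      (Submodule.spanFinrank_eq_zero_iff_eq_bot (maximalIdeal S).fg_of_isNoetherianRing).mp hn
    haveI := hK.toIsLocalRing
    have hKtop : K ≠ ⊤ := Ideal.Quotient.nontrivial_iff.mp inferInstance
    have hle : K ≤ maximalIdeal S ^ 2 := by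
      rw [hbot]
      have := IsLocalRing.le_maximalIdeal hKtop
      rw [hbot] at this
      exact this.trans bot_le
    refine ⟨[], IsRegular.nil S S, ?_⟩
    rw [Ideal.ofList_nil]
    exact eq_bot_of_le_sq K hK hle
  | succ n ih =>
    intro S _ _ hn K hK
    haveI := hK.toIsLocalRing
    have hKtop : K ≠ ⊤ := Ideal.Quotient.nontrivial_iff.mp inferInstance
    by_cases hle : K ≤ maximalIdeal S ^ 2
    · refine ⟨[], IsRegular.nil S S, ?_⟩
      rw [Ideal.ofList_nil]
      exact eq_bot_of_le_sq K hK hle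
    · obtain ⟨x, hxK, hx2⟩ := Set.not_subset.mp hle
      have hxm : x ∈ maximalIdeal S := IsLocalRing.le_maximalIdeal hKtop hxK
      haveI : IsDomain S := Groth.Agent.Lead.RegLocal.isDomain_of_isRegularLocalRing S
      obtain ⟨hR', -, hl, hspan⟩ := Groth.Agent.Lead.RegLocal.quotient_isRegularLocalRing hxm hx2
      have hd : (maximalIdeal (S ⧸ Ideal.span {x})).spanFinrank = n := by omega
      have e : ((S ⧸ Ideal.span {x}) ⧸ K.map (Ideal.Quotient.mk (Ideal.span {x}))) ≃+* (S ⧸ K) :=
        (DoubleQuot.quotQuotEquivQuotSup (Ideal.span {x}) K).trans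
          (Ideal.quotEquivOfEq (sup_eq_right.mpr ((Ideal.span_singleton_le_iff_mem K).mpr hxK)))
      have hK' : IsRegularLocalRing
          ((S ⧸ Ideal.span {x}) ⧸ K.map (Ideal.Quotient.mk (Ideal.span {x}))) :=
        IsRegularLocalRing.of_ringEquiv e.symm
      obtain ⟨rs', hrs', hKrs'⟩ := ih (S ⧸ Ideal.span {x}) hd _ hK'
      obtain ⟨rs, rfl⟩ := exists_map_eq _ Ideal.Quotient.mk_surjective rs'
      have hKeq : K = Ideal.ofList (x :: rs) := by
        rw [ofList_cons_eq_comap, ← hKrs', Ideal.comap_map_of_surjective _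
          Ideal.Quotient.mk_surjective, ← RingHom.ker_eq_comap_bot, Ideal.mk_ker]
        exact (sup_eq_left.mpr ((Ideal.span_singleton_le_iff_mem K).mpr hxK)).symm
      refine ⟨x :: rs, (isRegular_iff_colon _).mpr ⟨(colon_cons_iff x rs).mpr ⟨?_, ?_⟩, ?_⟩, hKeq⟩
      · intro y hy
        have hx0 : x ≠ 0 := by
          rintro rfl
          exact hx2 (Ideal.zero_mem _)
        exact (mul_eq_zero.mp hy).resolve_left hx0
      · exact ((isRegular_iff_colon _).mp hrs').1
      · rw [← hKeq]
        exact hKtop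

end Alg

theorem s2889 {X Y : Scheme.{u}} [IsLocallyNoetherian X] (j : Y ⟶ X) [IsClosedImmersion j]
    (y : Y) [IsRegularLocalRing (Y.presheaf.stalk y)] :
    (∃ V : X.Opens, j y ∈ V ∧ Mor2.IsRegularClosedImmersion (j ∣_ V)) ↔
      IsRegularLocalRing (X.presheaf.stalk (j y)) := by
  rw [RegSeqC.s1679]
  have hsurj : Function.Surjective (j.stalkMap y).hom := j.stalkMap_surjective y
  have h1 : IsRegularLocalRing
      ((X.presheaf.stalk (j y)) ⧸ RingHom.ker (j.stalkMap y).hom) :=
    IsRegularLocalRing.of_ringEquiv (RingHom.quotientKerEquivOfSurjective hsurj).symm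
  constructor
  · rintro ⟨rs, hrs, hker⟩
    rw [hker] at h1
    exact regular_of_regular_quotient rs.length _ rs rfl hrs h1
  · intro hS
    obtain ⟨rs, hrs, hK⟩ := exists_regular_of_regular_quotient _ _ rfl _ h1
    exact ⟨rs, hrs, hK⟩

end Groth.Agent.Helper8.RegSeqD
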