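import Mathlib
import Groth.Prelude
import Groth.Agent.Helper8.RegSeqD

set_option autoImplicit false
open CategoryTheory AlgebraicGeometry TopologicalSpace RingTheory.Sequence IsLocalRing
universe u

namespace Groth.Agent.Helper8.RegSeqE
open Groth.Agent.Helper8.RegSeqA Groth.Agent.Helper8.RegSeqB Groth.Agent.Helper8.RegSeqC

variable {X Z : Scheme.{u}}

theorem restrict_app_surjective' (i : Z ⟶ X) (V : X.Opens) (U' : V.toScheme.Opens)
    (h : Function.Surjective (i.app (V.ι ''ᵁ U')).hom) :
    Function.Surjective ((i ∣_ V).app U').hom := by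
  have hbij := ConcreteCategory.bijective_of_isIso (Z.presheaf.map
      (eqToHom (image_morphismRestrict_preimage i V U')).op)
  intro b
  obtain ⟨b', rfl⟩ := hbij.2 b
  obtain ⟨a, rfl⟩ := h b'
  exact ⟨a, restrict_app_apply i V U' a⟩

/-- closed immersion over an affine open from affineness and surjectivity. -/
theorem isClosedImmersion_restrict_of_surjective (i : Z ⟶ X) {U : X.Opens} (hU : IsAffineOpen U)
    (hV : IsAffineOpen (i ⁻¹ᵁ U)) (hs : Function.Surjective (i.app U).hom) :
    IsClosedImmersion (i ∣_ U) := by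
  haveI : IsAffine U.toScheme := hU
  refine (HasAffineProperty.iff_of_isAffine (P := @IsClosedImmersion)).mpr ⟨hV, ?_⟩
  exact restrict_app_surjective' i U ⊤ (app_surjective_of_eq i U.ι_image_top.symm hs)

theorem liftCoborder_app_apply (i : Z ⟶ X) [IsImmersion i] (U' : i.coborderRange.toScheme.Opens)
    (a : Γ(X, i.coborderRange.ι ''ᵁ U')) :
    (i.liftCoborder.app U').hom a =
      (Z.presheaf.map (eqToHom (i.liftCoborder_preimage U')).op).hom
        ((i.app (i.coborderRange.ι ''ᵁ U')).hom a) := by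
  have := liftCoborder_app (f := i) U'
  exact congrArg (fun φ => φ.hom a) this

theorem s8855 (i : Z ⟶ X) [IsImmersion i] [IsLocallyNoetherian X] [IsLocallyNoetherian Z]
    (hX : ∀ x : X, IsRegularLocalRing (X.presheaf.stalk x))
    (hZ : ∀ z : Z, IsRegularLocalRing (Z.presheaf.stalk z)) :
    RegImm.IsRegularImmersion RegImm.Kind.regular i := by
  refine ⟨inferInstance, fun z => ?_⟩
  haveI hreg' : IsRegularLocalRing
      (i.coborderRange.toScheme.presheaf.stalk (i.liftCoborder z)) := by
    haveI := hX (i.coborderRange.ι (i.liftCoborder z))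
    exact IsRegularLocalRing.of_ringEquiv
      (asIso (i.coborderRange.ι.stalkMap (i.liftCoborder z))).commRingCatIsoToRingEquiv
  haveI := hZ z
  have hsurj : Function.Surjective (i.liftCoborder.stalkMap z).hom :=
    i.liftCoborder.stalkMap_surjective z
  have h1 : IsRegularLocalRing ((i.coborderRange.toScheme.presheaf.stalk (i.liftCoborder z)) ⧸
      RingHom.ker (i.liftCoborder.stalkMap z).hom) :=
    IsRegularLocalRing.of_ringEquiv (RingHom.quotientKerEquivOfSurjective hsurj).symm
  obtain ⟨rs, hrs, hK⟩ := RegSeqD.exists_regular_of_regular_quotient _ _ rfl _ h1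
  obtain ⟨U', hzU', hU', rs₀, hc, hker⟩ := regAt_of_stalk i.liftCoborder z rs hrs hK
  have hUaff : IsAffineOpen (i.coborderRange.ι ''ᵁ U') :=
    hU'.image_of_isOpenImmersion i.coborderRange.ι
  have hbij := ConcreteCategory.bijective_of_isIso (Z.presheaf.map
      (eqToHom (i.liftCoborder_preimage U')).op)
  have hkeq : RingHom.ker (i.app (i.coborderRange.ι ''ᵁ U')).hom =
      RingHom.ker (i.liftCoborder.app U').hom := by
    refine Ideal.ext fun a => ?_
    show (i.app (i.coborderRange.ι ''ᵁ U')).hom a = 0 ↔ (i.liftCoborder.app U').hom a = 0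
    rw [liftCoborder_app_apply i U' a]
    exact (map_eq_zero_iff _ hbij.1).symm
  have hs : Function.Surjective (i.app (i.coborderRange.ι ''ᵁ U')).hom := by
    intro b
    obtain ⟨a, ha⟩ := app_surjective i.liftCoborder hU'
      ((Z.presheaf.map (eqToHom (i.liftCoborder_preimage U')).op).hom b)
    refine ⟨a, hbij.1 ?_⟩
    rw [← ha]
    exact (liftCoborder_app_apply i U' a).symm
  have hVaff : IsAffineOpen (i ⁻¹ᵁ (i.coborderRange.ι ''ᵁ U')) :=
    (i.liftCoborder_preimage U') ▸ hU'.preimage i.liftCoborder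
  have hz : i z ∈ i.coborderRange.ι ''ᵁ U' := by
    refine ⟨i.liftCoborder z, hzU', ?_⟩
    show (i.liftCoborder ≫ i.coborderRange.ι) z = i z
    rw [i.liftCoborder_ι]
  refine ⟨⟨i.coborderRange.ι ''ᵁ U', hUaff⟩, hz,
    isClosedImmersion_restrict_of_surjective i hUaff hVaff hs, rs₀, ?_, ?_⟩
  · show IsRegular Γ(i.coborderRange.toScheme, U') rs₀
    refine (isRegular_iff_colon rs₀).mpr ⟨hc, ?_⟩
    rw [← hker]
    exact ker_app_ne_top i.liftCoborder z hzU'
  · rw [hkeq]
    exact hker

end Groth.Agent.Helper8.RegSeqE
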