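import Mathlib
import Groth.Prelude.Def_CAlgX

namespace Groth.Agent.Helper8.H1Append

universe u

variable {A : Type u} [CommRing A]

/-- the span of trivial (Koszul) relations -/
def T {c : ℕ} (f : Fin c → A) : Submodule A (Fin c → A) :=
  Submodule.span A {v : Fin c → A | ∃ i j : Fin c, v = Pi.single i (f j) - Pi.single j (f i)}

/-- the relation functional -/
def rel {c : ℕ} (f : Fin c → A) : (Fin c → A) →ₗ[A] A where
  toFun a := ∑ i, a i * f i
  map_add' a b := by simp [add_mul, Finset.sum_add_distrib]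
  map_smul' r a := by simp [Finset.mul_sum, mul_assoc]

lemma T_le_ker {c : ℕ} (f : Fin c → A) : T f ≤ LinearMap.ker (rel f) := by
  unfold T
  rw [Submodule.span_le]
  rintro v ⟨i, j, rfl⟩
  simp only [SetLike.mem_coe, LinearMap.mem_ker, rel, LinearMap.coe_mk, AddHom.coe_mk,
    Pi.sub_apply, sub_mul, Finset.sum_sub_distrib, Pi.single_apply, ite_mul, zero_mul,
    Finset.sum_ite_eq', Finset.mem_univ, if_true]
  ring

variable {n m : ℕ}

/-- embedding of the first block -/
def ιf (n m : ℕ) : (Fin n → A) →ₗ[A] (Fin (n + m) → A) where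
  toFun a := Fin.append a 0
  map_add' a b := by
    funext k
    refine Fin.addCases (fun i => ?_) (fun j => ?_) k <;> simp
  map_smul' r a := by
    funext k
    refine Fin.addCases (fun i => ?_) (fun j => ?_) k <;> simp

/-- embedding of the second block -/
def ιg (n m : ℕ) : (Fin m → A) →ₗ[A] (Fin (n + m) → A) where
  toFun b := Fin.append 0 b
  map_add' a b := by
    funext k
    refine Fin.addCases (fun i => ?_) (fun j => ?_) k <;> simp
  map_smul' r a := by
    funext k
    refine Fin.addCases (fun i => ?_) (fun j => ?_) k <;> simp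

lemma ιf_single (i : Fin n) (x : A) :
    ιf n m (Pi.single i x) = Pi.single (Fin.castAdd m i) x := by
  funext k
  refine Fin.addCases (fun i' => ?_) (fun j => ?_) k
  · simp [ιf, Pi.single_apply, Fin.ext_iff]
  · simp only [ιf, LinearMap.coe_mk, AddHom.coe_mk, Fin.append_right, Pi.zero_apply,
      Pi.single_apply]
    rw [if_neg]
    intro h
    have := congrArg Fin.val h
    simp at this
    omega

lemma ιg_single (j : Fin m) (x : A) :
    ιg n m (Pi.single j x) = Pi.single (Fin.natAdd n j) x := by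
  funext k
  refine Fin.addCases (fun i' => ?_) (fun j' => ?_) k
  · simp only [ιg, LinearMap.coe_mk, AddHom.coe_mk, Fin.append_left, Pi.zero_apply,
      Pi.single_apply]
    rw [if_neg]
    intro h
    have := congrArg Fin.val h
    simp at this
    omega
  · simp [ιg, Pi.single_apply, Fin.ext_iff]

lemma decomp (c : Fin (n + m) → A) :
    c = ιf n m (fun i => c (Fin.castAdd m i)) + ιg n m (fun j => c (Fin.natAdd n j)) := by
  funext k
  refine Fin.addCases (fun i => ?_) (fun j => ?_) k <;> simp [ιf, ιg]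

lemma rel_ιf (f : Fin n → A) (g : Fin m → A) (a : Fin n → A) :
    rel (Fin.append f g) (ιf n m a) = rel f a := by
  simp [rel, ιf, Fin.sum_univ_add]

lemma ιf_T (f : Fin n → A) (g : Fin m → A) :
    (T f).map (ιf n m) ≤ T (Fin.append f g) := by
  unfold T
  rw [Submodule.map_span, Submodule.span_le]
  rintro _ ⟨v, ⟨i, j, rfl⟩, rfl⟩
  apply Submodule.subset_span
  refine ⟨Fin.castAdd m i, Fin.castAdd m j, ?_⟩
  rw [map_sub, ιf_single, ιf_single, Fin.append_left, Fin.append_left]

lemma ιg_T (f : Fin n → A) (g : Fin m → A) :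
    (T g).map (ιg n m) ≤ T (Fin.append f g) := by
  unfold T
  rw [Submodule.map_span, Submodule.span_le]
  rintro _ ⟨v, ⟨i, j, rfl⟩, rfl⟩
  apply Submodule.subset_span
  refine ⟨Fin.natAdd n i, Fin.natAdd n j, ?_⟩
  rw [map_sub, ιg_single, ιg_single, Fin.append_right, Fin.append_right]

/-- lifting the relation modulo `J` -/
lemma lift_T (J : Ideal A) (g : Fin m → A) (b : Fin m → A)
    (hb : (fun j => Ideal.Quotient.mk J (b j)) ∈
      Submodule.span (A ⧸ J) {v : Fin m → A ⧸ J | ∃ i j : Fin m,
        v = Pi.single i (Ideal.Quotient.mk J (g j)) - Pi.single j (Ideal.Quotient.mk J (g i))}) :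
    ∃ b₀ ∈ T g, ∀ j, b j - b₀ j ∈ J := by
  suffices h : ∀ v ∈ Submodule.span (A ⧸ J) {v : Fin m → A ⧸ J | ∃ i j : Fin m,
        v = Pi.single i (Ideal.Quotient.mk J (g j)) - Pi.single j (Ideal.Quotient.mk J (g i))},
      ∃ b₀ ∈ T g, ∀ j, Ideal.Quotient.mk J (b₀ j) = v j by
    obtain ⟨b₀, hb₀, h0⟩ := h _ hb
    refine ⟨b₀, hb₀, fun j => ?_⟩
    rw [← Ideal.Quotient.eq, h0 j]
  intro v hv
  induction hv using Submodule.span_induction with
  | mem v hv =>
    obtain ⟨i, j, rfl⟩ := hv
    refine ⟨Pi.single i (g j) - Pi.single j (g i), Submodule.subset_span ⟨i, j, rfl⟩, fun k => ?_⟩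
    simp only [Pi.sub_apply, Pi.single_apply, map_sub]
    split_ifs <;> simp
  | zero => exact ⟨0, zero_mem _, fun j => by simp⟩
  | add v w _ _ hv hw =>
    obtain ⟨v₀, hv₀, h1⟩ := hv
    obtain ⟨w₀, hw₀, h2⟩ := hw
    exact ⟨v₀ + w₀, add_mem hv₀ hw₀, fun j => by simp [h1, h2]⟩
  | smul r v _ hv =>
    obtain ⟨v₀, hv₀, h1⟩ := hv
    obtain ⟨r, rfl⟩ := Ideal.Quotient.mk_surjective r
    exact ⟨r • v₀, Submodule.smul_mem _ _ hv₀, fun j => by simp [h1]⟩

/-- vectors in the second block with entries in `(f)` are trivial relations modulo first block -/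
lemma ιg_mem (f : Fin n → A) (g : Fin m → A) (b' : Fin m → A)
    (hb' : ∀ j, b' j ∈ Ideal.span (Set.range f)) :
    ιg n m b' ∈ T (Fin.append f g) ⊔ LinearMap.range (ιf n m) := by
  have key : ∀ j : Fin m, ∀ x ∈ Ideal.span (Set.range f),
      ιg n m (Pi.single j x) ∈ T (Fin.append f g) ⊔ LinearMap.range (ιf n m) := by
    intro j x hx
    induction hx using Submodule.span_induction with
    | mem x hx =>
      obtain ⟨i, rfl⟩ := hx
      have : ιg n m (Pi.single j (f i)) =
          (Pi.single (Fin.natAdd n j) (Fin.append f g (Fin.castAdd m i)) -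
            Pi.single (Fin.castAdd m i) (Fin.append f g (Fin.natAdd n j))) +
          ιf n m (Pi.single i (g j)) := by
        rw [ιg_single, ιf_single, Fin.append_left, Fin.append_right]
        abel
      rw [this]
      exact add_mem (Submodule.mem_sup_left (Submodule.subset_span ⟨_, _, rfl⟩))
        (Submodule.mem_sup_right ⟨_, rfl⟩)
    | zero =>
      rw [Pi.single_zero, map_zero]; exact zero_mem _
    | add x y _ _ hx hy =>
      rw [Pi.single_add, map_add]; exact add_mem hx hy
    | smul r x _ hx =>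
      rw [smul_eq_mul, ← smul_eq_mul, Pi.single_smul, map_smul]
      exact Submodule.smul_mem _ _ hx
  have : b' = ∑ j, Pi.single j (b' j) := by
    funext k
    simp [Finset.sum_apply, Pi.single_apply]
  rw [this, map_sum]
  exact Submodule.sum_mem _ fun j _ => key j _ (hb' j)

theorem main (f : Fin n → A)
    (g : Fin m → A) (hf : CAlgX.IsH1Regular f)
    (hg : CAlgX.IsH1Regular (fun j => Ideal.Quotient.mk (Ideal.span (Set.range f)) (g j))) :
    CAlgX.IsH1Regular (Fin.append f g) := by
  intro c hc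
  change c ∈ T (Fin.append f g)
  have hc' : rel (Fin.append f g) c = 0 := hc
  set a : Fin n → A := fun i => c (Fin.castAdd m i) with ha
  set b : Fin m → A := fun j => c (Fin.natAdd n j) with hb
  have hdec : c = ιf n m a + ιg n m b := decomp c
  -- relation modulo J
  have hbrel : ∑ j, Ideal.Quotient.mk (Ideal.span (Set.range f)) (b j) *
      Ideal.Quotient.mk (Ideal.span (Set.range f)) (g j) = 0 := by
    have h1 : ∑ i, a i * f i + ∑ j, b j * g j = 0 := by
      have := hc
      rw [Fin.sum_univ_add] at this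
      simpa using this
    have h2 : ∑ j, b j * g j ∈ Ideal.span (Set.range f) := by
      have : ∑ j, b j * g j = - ∑ i, a i * f i := by
        rw [eq_neg_iff_add_eq_zero, add_comm]; exact h1
      rw [this]
      exact neg_mem (Ideal.sum_mem _ fun i _ =>
        Ideal.mul_mem_left _ _ (Ideal.subset_span ⟨i, rfl⟩))
    rw [← Ideal.Quotient.eq_zero_iff_mem, map_sum] at h2
    simpa using h2
  obtain ⟨b₀, hb₀, hb₀J⟩ := lift_T _ g b (hg _ hbrel)
  have h3 := ιg_mem f g (b - b₀) hb₀J
  obtain ⟨t, ht, _, ⟨a', rfl⟩, hta⟩ := Submodule.mem_sup.mp h3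
  have hb₀T : ιg n m b₀ ∈ T (Fin.append f g) := ιg_T f g ⟨b₀, hb₀, rfl⟩
  have hc2 : c = ιf n m (a + a') + (ιg n m b₀ + t) := by
    rw [hdec, map_add]
    have : ιg n m b = ιg n m b₀ + ιg n m (b - b₀) := by rw [← map_add]; congr 1; abel
    rw [this, ← hta]
    abel
  have hT : ιg n m b₀ + t ∈ T (Fin.append f g) := add_mem hb₀T ht
  have hrel : rel f (a + a') = 0 := by
    have h4 := T_le_ker _ hT
    rw [LinearMap.mem_ker] at h4
    rw [hc2, map_add, h4, add_zero, rel_ιf] at hc'
    exact hc'
  have h5 : a + a' ∈ T f := hf _ hrel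
  rw [hc2]
  exact add_mem (ιf_T f g ⟨_, h5, rfl⟩) hT

end Groth.Agent.Helper8.H1Append
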