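import Mathlib
import Groth.Prelude.Def_CAlgX
import Groth.Agent.Helper8.H1Append

namespace Groth.Agent.Helper8.H1Inter

open Groth.Agent.Helper8.H1Append

universe u

/-- lifting trivial relations along a surjection -/
lemma lift_T' {B L : Type u} [CommRing B] [CommRing L] (φ : B →+* L) (hφ : Function.Surjective φ)
    {c : ℕ} (g : Fin c → B) (v : Fin c → L)
    (hv : v ∈ Submodule.span L {v : Fin c → L | ∃ i j : Fin c,
        v = Pi.single i (φ (g j)) - Pi.single j (φ (g i))}) :
    ∃ u' ∈ T g, ∀ k, φ (u' k) = v k := by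
  induction hv using Submodule.span_induction with
  | mem v hv =>
    obtain ⟨i, j, rfl⟩ := hv
    refine ⟨Pi.single i (g j) - Pi.single j (g i), Submodule.subset_span ⟨i, j, rfl⟩, fun k => ?_⟩
    simp only [Pi.sub_apply, Pi.single_apply, map_sub]
    split_ifs <;> simp
  | zero => exact ⟨0, zero_mem _, fun j => by simp⟩
  | add v w _ _ hv hw =>
    obtain ⟨v₀, hv₀, h1⟩ := hv
    obtain ⟨w₀, hw₀, h2⟩ := hw
    exact ⟨v₀ + w₀, add_mem hv₀ hw₀, fun j => by simp [h1, h2]⟩
  | smul r v _ hv =>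
    obtain ⟨v₀, hv₀, h1⟩ := hv
    obtain ⟨r, rfl⟩ := hφ r
    exact ⟨r • v₀, Submodule.smul_mem _ _ hv₀, fun j => by simp [h1]⟩

theorem global {B L : Type u} [CommRing B] [CommRing L] (φ : B →+* L)
    (hφ : Function.Surjective φ)
    (I J : Ideal B) (hIJ : I ≤ J) (hker : RingHom.ker φ = I) {c : ℕ} (f : Fin c → L)
    (hf : CAlgX.IsH1Regular f) (hspan : Ideal.span (Set.range f) = J.map φ) :
    I ⊓ J ^ 2 ≤ I * J := by
  -- lift the generators
  have hfi : ∀ i, ∃ g ∈ J, φ g = f i := by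
    intro i
    have : f i ∈ J.map φ := by rw [← hspan]; exact Ideal.subset_span ⟨i, rfl⟩
    exact (Ideal.mem_map_iff_of_surjective φ hφ).mp this
  choose g hgJ hgf using hfi
  obtain rfl : f = fun i => φ (g i) := funext fun i => (hgf i).symm
  set G : Ideal B := Ideal.span (Set.range g) with hG
  have hGJ : G ≤ J := by
    rw [hG, Ideal.span_le]; rintro _ ⟨i, rfl⟩; exact hgJ i
  have hJ : J ≤ I ⊔ G := by
    intro y hy
    have h1 : φ y ∈ G.map φ := by
      have : G.map φ = Ideal.span (Set.range fun i => φ (g i)) := by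
        rw [hG, Ideal.map_span, ← Set.range_comp]
        rfl
      rw [this, hspan]
      exact Ideal.mem_map_of_mem _ hy
    obtain ⟨y', hy', hyy'⟩ := (Ideal.mem_map_iff_of_surjective φ hφ).mp h1
    have h2 : y - y' ∈ I := by
      rw [← hker, RingHom.mem_ker, map_sub, hyy', sub_self]
    have : y = (y - y') + y' := by ring
    rw [this]
    exact add_mem (Ideal.mem_sup_left h2) (Ideal.mem_sup_right hy')
  have hJ2 : J ^ 2 ≤ G ⊔ I * J := by
    rw [pow_two]
    calc J * J ≤ (I ⊔ G) * J := Ideal.mul_mono_left hJ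
      _ = I * J ⊔ G * J := Ideal.sup_mul _ _ _
      _ ≤ G ⊔ I * J := by
        rw [sup_comm]
        exact sup_le_sup_right Ideal.mul_le_left _
  rintro x ⟨hxI, hxJ2⟩
  obtain ⟨x', hx', w, hw, rfl⟩ := Submodule.mem_sup.mp (hJ2 hxJ2)
  have hwI : w ∈ I := Ideal.mul_le_left hw
  have hx'I : x' ∈ I := by
    have : x' = (x' + w) - w := by ring
    rw [this]; exact sub_mem hxI hwI
  refine add_mem ?_ hw
  obtain ⟨u, rfl⟩ := (Ideal.mem_span_range_iff_exists_fun).mp hx'
  -- the relation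
  have hrel : ∑ i, φ (u i) * φ (g i) = 0 := by
    have : φ (∑ i, u i * g i) = 0 := by
      rw [← RingHom.mem_ker, hker]; exact hx'I
    rw [map_sum] at this
    rw [← this]
    exact Finset.sum_congr rfl fun i _ => (map_mul φ _ _).symm
  have hT := hf (fun i => φ (u i)) hrel
  have hT' : (fun i => φ (u i)) ∈ Submodule.span L {v : Fin c → L | ∃ i j : Fin c,
        v = Pi.single i (φ (g j)) - Pi.single j (φ (g i))} := hT
  obtain ⟨u', hu', hu'φ⟩ := lift_T' φ hφ g _ hT'
  have h0 : ∑ i, u' i * g i = 0 := by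
    have := T_le_ker g hu'
    rw [LinearMap.mem_ker] at this
    exact this
  have hsub : ∀ i, u i - u' i ∈ I := by
    intro i
    rw [← hker, RingHom.mem_ker, map_sub, hu'φ i, sub_self]
  have : ∑ i, u i * g i = ∑ i, (u i - u' i) * g i := by
    simp only [sub_mul, Finset.sum_sub_distrib, h0, sub_zero]
  rw [this]
  exact Ideal.sum_mem _ fun i _ => Ideal.mul_mem_mul (hsub i) (hgJ i)

theorem main {A : Type u} [CommRing A] (I J : Ideal A)
    (hIJ : I ≤ J)
    (h : ∀ (𝔮 : Ideal (A ⧸ I)) [𝔮.IsPrime], J.map (Ideal.Quotient.mk I) ≤ 𝔮 →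
      ∃ g : A ⧸ I, g ∉ 𝔮 ∧ ∃ (c : ℕ) (f : Fin c → Localization.Away g),
        CAlgX.IsH1Regular f ∧
          Ideal.span (Set.range f) =
            (J.map (Ideal.Quotient.mk I)).map (algebraMap (A ⧸ I) (Localization.Away g))) :
    I ⊓ J ^ 2 = I * J := by
  apply le_antisymm
  · rintro x ⟨hxI, hxJ2⟩
    -- the colon ideal
    set 𝔞 : Ideal A := Submodule.comap (LinearMap.toSpanSingleton A A x) (I * J) with h𝔞
    have hmem : ∀ s, s ∈ 𝔞 ↔ s * x ∈ I * J := by
      intro s
      rw [h𝔞, Submodule.mem_comap, LinearMap.toSpanSingleton_apply, smul_eq_mul]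
    by_contra hx
    have hne : 𝔞 ≠ ⊤ := by
      intro htop
      have : (1 : A) ∈ 𝔞 := by rw [htop]; trivial
      rw [hmem, one_mul] at this
      exact hx this
    obtain ⟨𝔪, h𝔪, hle⟩ := Ideal.exists_le_maximal 𝔞 hne
    have hJ𝔞 : J ≤ 𝔞 := by
      intro s hs
      rw [hmem]
      have : x * s ∈ I * J := Ideal.mul_mem_mul hxI hs
      rwa [mul_comm x s] at this
    have hJ𝔪 : J ≤ 𝔪 := hJ𝔞.trans hle
    have hI𝔪 : I ≤ 𝔪 := hIJ.trans hJ𝔪
    have hprime : (𝔪.map (Ideal.Quotient.mk I)).IsPrime := by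
      apply Ideal.map_isPrime_of_surjective Ideal.Quotient.mk_surjective
      rw [Ideal.mk_ker]; exact hI𝔪
    obtain ⟨gbar, hg𝔮, c, f, hf, hspan⟩ := h (𝔪.map (Ideal.Quotient.mk I)) (Ideal.map_mono hJ𝔪)
    obtain ⟨g, rfl⟩ := Ideal.Quotient.mk_surjective gbar
    have hg𝔪 : g ∉ 𝔪 := fun hg => hg𝔮 (Ideal.mem_map_of_mem _ hg)
    -- localizations
    let B := Localization.Away g
    let L := Localization.Away (Ideal.Quotient.mk I g)
    have hcomap : Submonoid.powers g ≤
        (Submonoid.powers (Ideal.Quotient.mk I g)).comap (Ideal.Quotient.mk I) := by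
      rintro _ ⟨n, rfl⟩
      exact ⟨n, by simp⟩
    let φ : B →+* L := IsLocalization.map L (Ideal.Quotient.mk I) hcomap
    have hφ : Function.Surjective φ := by
      have : IsLocalization ((Submonoid.powers g).map (Ideal.Quotient.mk I)) L := by
        rw [Submonoid.map_powers]; infer_instance
      exact IsLocalization.map_surjective_of_surjective _ _ _ Ideal.Quotient.mk_surjective
    have hker : RingHom.ker φ = I.map (algebraMap A B) := by
      ext y
      obtain ⟨y, s, rfl⟩ := IsLocalization.exists_mk'_eq (Submonoid.powers g) y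
      simp only [φ, RingHom.mem_ker, IsLocalization.map_mk', IsLocalization.mk'_eq_zero_iff,
        IsLocalization.mk'_mem_map_algebraMap_iff]
      constructor
      · rintro ⟨⟨_, n, rfl⟩, hm⟩
        refine ⟨g ^ n, ⟨n, rfl⟩, ?_⟩
        rw [← Ideal.Quotient.eq_zero_iff_mem, map_mul, map_pow]
        exact hm
      · rintro ⟨_, ⟨n, rfl⟩, hm⟩
        refine ⟨⟨Ideal.Quotient.mk I g ^ n, n, rfl⟩, ?_⟩
        rw [← Ideal.Quotient.eq_zero_iff_mem, map_mul, map_pow] at hm
        exact hm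
    have hspan' : Ideal.span (Set.range f) = (J.map (algebraMap A B)).map φ := by
      rw [hspan, Ideal.map_map, Ideal.map_map]
      congr 1
      exact (IsLocalization.map_comp _).symm
    have key := global φ hφ (I.map (algebraMap A B)) (J.map (algebraMap A B))
      (Ideal.map_mono hIJ) hker f hf hspan'
    have hxB : algebraMap A B x ∈ I.map (algebraMap A B) ⊓ (J.map (algebraMap A B)) ^ 2 := by
      refine ⟨Ideal.mem_map_of_mem _ hxI, ?_⟩
      rw [← Ideal.map_pow]
      exact Ideal.mem_map_of_mem _ hxJ2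
    have hxB' := key hxB
    rw [← Ideal.map_mul, IsLocalization.algebraMap_mem_map_algebraMap_iff (Submonoid.powers g)]
      at hxB'
    obtain ⟨_, ⟨n, rfl⟩, hm⟩ := hxB'
    have : g ^ n ∈ 𝔪 := hle ((hmem _).mpr hm)
    exact hg𝔪 (h𝔪.isPrime.mem_of_pow_mem n this)
  · exact le_inf Ideal.mul_le_left (by rw [pow_two]; exact Ideal.mul_mono_left hIJ)

end Groth.Agent.Helper8.H1Inter
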