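import Mathlib
import Groth.Prelude.Def_CAlg
import Groth.Agent.Helper2.DepthCM
import Groth.Agent.Helper2.Depth

set_option autoImplicit false
universe u

namespace Groth.Agent.Helper8.DepthOneInter

open IsLocalRing

theorem main {A : Type u} [CommRing A] [IsDomain A]
    [IsNoetherianRing A] (x : FractionRing A)
    (hx : ∀ (p : Ideal A) [p.IsPrime],
      LocCoh.depth (Localization.AtPrime p) (Localization.AtPrime p) = 1 →
        x ∈ Set.range (algebraMap (Localization.AtPrime p) (FractionRing A))) :
    x ∈ Set.range (algebraMap A (FractionRing A)) := by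
  classical
  obtain ⟨a, b, hb, rfl⟩ := IsFractionRing.div_surjective (A := A) x
  have hb0 : b ≠ 0 := nonZeroDivisors.ne_zero hb
  have hbK : algebraMap A (FractionRing A) b ≠ 0 := by
    rw [Ne, map_eq_zero_iff _ (IsFractionRing.injective A (FractionRing A))]
    exact hb0
  by_contra hnot
  have hab : a ∉ Ideal.span {b} := by
    intro h
    obtain ⟨c, rfl⟩ := Ideal.mem_span_singleton'.1 h
    apply hnot
    refine ⟨c, ?_⟩
    rw [map_mul]
    field_simp
  have ha0 : (Ideal.Quotient.mk (Ideal.span {b}) a) ≠ 0 := by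
    rwa [Ne, Ideal.Quotient.eq_zero_iff_mem]
  obtain ⟨p, hp, hle⟩ := exists_le_isAssociatedPrime_of_isNoetherianRing A
    (Ideal.Quotient.mk (Ideal.span {b}) a) ha0
  rw [isAssociatedPrime_iff] at hp
  obtain ⟨hprime, y', hy'⟩ := hp
  obtain ⟨y, rfl⟩ := Ideal.Quotient.mk_surjective y'
  haveI := hprime
  have hpy : ∀ r, r ∈ p ↔ r * y ∈ Ideal.span {b} := by
    intro r
    rw [hy', Submodule.mem_colon_singleton, Submodule.mem_bot]
    show (Ideal.Quotient.mk (Ideal.span {b}) (r * y)) = 0 ↔ _
    rw [Ideal.Quotient.eq_zero_iff_mem]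
  have hpa : ∀ r, r * a ∈ Ideal.span {b} → r ∈ p := by
    intro r hr
    apply hle
    rw [Submodule.mem_colon_singleton, Submodule.mem_bot]
    show (Ideal.Quotient.mk (Ideal.span {b}) (r * a)) = 0
    rwa [Ideal.Quotient.eq_zero_iff_mem]
  have hbp : b ∈ p := by
    rw [hpy]
    exact Ideal.mul_mem_right _ _ (Ideal.mem_span_singleton_self b)
  -- the local ring
  let L := Localization.AtPrime p
  haveI : IsNoetherianRing L := IsLocalization.isNoetherianRing p.primeCompl L inferInstance
  have hinj : Function.Injective (algebraMap A L) :=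
    IsLocalization.injective L p.primeCompl_le_nonZeroDivisors
  set b' : L := algebraMap A L b with hb'
  have hb'0 : b' ≠ 0 := by
    rw [hb', Ne, map_eq_zero_iff _ hinj]
    exact hb0
  have hb'reg : IsSMulRegular L b' := by
    intro u v huv
    exact mul_left_cancel₀ hb'0 huv
  have hb'mem : b' ∈ maximalIdeal L :=
    (IsLocalization.AtPrime.to_map_mem_maximal_iff L p b).2 hbp
  have hIM : maximalIdeal L • (⊤ : Submodule L L) ≠ ⊤ :=
    Groth.Agent.Helper2.Depth.smul_top_ne_top L L
  -- the quotient module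
  have hmk0 : ∀ z : L, (Submodule.Quotient.mk z : QuotSMulTop b' L) = 0 ↔ ∃ w, z = b' * w := by
    intro z
    rw [Submodule.Quotient.mk_eq_zero, Submodule.mem_smul_pointwise_iff_exists]
    constructor
    · rintro ⟨w, -, hw⟩
      exact ⟨w, hw.symm⟩
    · rintro ⟨w, hw⟩
      exact ⟨w, trivial, hw.symm⟩
  have hyne : (Submodule.Quotient.mk (algebraMap A L y) : QuotSMulTop b' L) ≠ 0 := by
    rw [Ne, hmk0]
    rintro ⟨w, hw⟩
    obtain ⟨c, t, rfl⟩ := IsLocalization.exists_mk'_eq p.primeCompl w
    have h1 : algebraMap A L (y * t) = algebraMap A L (b * c) := by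
      rw [map_mul, hw, map_mul, hb', mul_assoc, IsLocalization.mk'_spec]
    have h2 := hinj h1
    have h3 : (t : A) ∈ p := by
      rw [hpy, mul_comm, h2]
      exact Ideal.mul_mem_right _ _ (Ideal.mem_span_singleton_self b)
    exact t.2 h3
  haveI : Nontrivial (QuotSMulTop b' L) := ⟨⟨_, _, hyne⟩⟩
  have hdepth0 : LocCoh.depth L (QuotSMulTop b' L) = 0 := by
    rw [Groth.Agent.Helper2.Depth.depth_eq_zero_iff]
    intro z hz hreg
    obtain ⟨r, s, rfl⟩ := IsLocalization.exists_mk'_eq p.primeCompl z
    have hr : r ∈ p := (IsLocalization.AtPrime.mk'_mem_maximal_iff L p r s).1 hz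
    obtain ⟨c, hc⟩ := Ideal.mem_span_singleton'.1 ((hpy r).1 hr)
    have hzero : (IsLocalization.mk' L r s) •
        (Submodule.Quotient.mk (algebraMap A L y) : QuotSMulTop b' L) = 0 := by
      rw [← Submodule.Quotient.mk_smul, hmk0, smul_eq_mul]
      refine ⟨IsLocalization.mk' L c s, ?_⟩
      rw [hb', mul_comm, IsLocalization.mul_mk'_eq_mk'_of_mul, IsLocalization.mul_mk'_eq_mk'_of_mul]
      congr 1
      rw [mul_comm y r, ← hc, mul_comm]
    exact hyne (hreg (by show _ • _ = _ • _; rw [hzero, smul_zero]))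
  have hdepth1 : LocCoh.depth L L = 1 := by
    have := Groth.Agent.Helper2.DepthCM.idealDepth_quotSMulTop (maximalIdeal L) L hIM b' hb'mem
      hb'reg
    have h0 : LocCoh.idealDepth (maximalIdeal L) (QuotSMulTop b' L) = 0 := hdepth0
    rw [h0, zero_add] at this
    exact this.symm
  obtain ⟨w, hw⟩ := hx p hdepth1
  obtain ⟨c, s, rfl⟩ := IsLocalization.exists_mk'_eq p.primeCompl w
  have h1 : algebraMap L (FractionRing A) (IsLocalization.mk' L c s) *
      algebraMap A (FractionRing A) s = algebraMap A (FractionRing A) c := by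
    rw [IsScalarTower.algebraMap_apply A L (FractionRing A) s, ← map_mul,
      IsLocalization.mk'_spec, ← IsScalarTower.algebraMap_apply]
  rw [hw] at h1
  have h2 : algebraMap A (FractionRing A) (a * s) = algebraMap A (FractionRing A) (c * b) := by
    rw [map_mul, map_mul, ← h1]
    field_simp
  have h3 := IsFractionRing.injective A (FractionRing A) h2
  have h4 : (s : A) ∈ p := by
    apply hpa
    rw [mul_comm, h3]
    exact Ideal.mul_mem_left _ _ (Ideal.mem_span_singleton_self b)
  exact s.2 h4

end Groth.Agent.Helper8.DepthOneInter
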