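import Mathlib

set_option autoImplicit false

namespace Groth.Agent.Helper8.DivML

open CategoryTheory Limits

universe v u

variable {V : Type u} [Category.{v} V] [Abelian V]

lemma imageSubobject_epi_comp {X' X Y : V} (h : X' ⟶ X) [Epi h] (f : X ⟶ Y) :
    imageSubobject (h ≫ f) = imageSubobject f := by
  apply le_antisymm (imageSubobject_comp_le h f)
  haveI : IsIso (Subobject.ofLE _ _ (imageSubobject_comp_le h f)) := isIso_of_mono_of_epi _
  refine Subobject.le_of_comm (inv (Subobject.ofLE _ _ (imageSubobject_comp_le h f))) ?_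
  rw [IsIso.inv_comp_eq, Subobject.ofLE_arrow]

variable {B : V}

lemma nsmul_comm_arrow (S : Subobject B) (j : ℕ) :
    (j • 𝟙 (S : V)) ≫ S.arrow = S.arrow ≫ (j • 𝟙 B) := by
  rw [Preadditive.nsmul_comp, Preadditive.comp_nsmul, Category.id_comp, Category.comp_id]

/-- L1 -/
lemma im_le_of_kills (S : Subobject B) (j : ℕ) (h : j • 𝟙 (cokernel S.arrow) = 0) :
    imageSubobject (j • 𝟙 B) ≤ S := by
  have h0 : (j • 𝟙 B) ≫ cokernel.π S.arrow = 0 := by
    have : (j • 𝟙 B) ≫ cokernel.π S.arrow = cokernel.π S.arrow ≫ (j • 𝟙 (cokernel S.arrow)) := by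
      rw [Preadditive.nsmul_comp, Preadditive.comp_nsmul, Category.id_comp, Category.comp_id]
    rw [this, h, comp_zero]
  exact imageSubobject_le _ (Abelian.monoLift S.arrow (j • 𝟙 B) h0) (Abelian.monoLift_comp _ _ _)

/-- L2 -/
lemma le_im_of_epi (D : Subobject B) (j : ℕ) [Epi (j • 𝟙 (D : V))] :
    D ≤ imageSubobject (j • 𝟙 B) := by
  have h1 : D = imageSubobject D.arrow := by
    rw [imageSubobject_mono, Subobject.mk_arrow]
  have h2 : imageSubobject D.arrow = imageSubobject ((j • 𝟙 (D : V)) ≫ D.arrow) :=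
    (imageSubobject_epi_comp _ _).symm
  rw [h1, h2, nsmul_comm_arrow]
  exact imageSubobject_comp_le _ _

/-- L3 -/
lemma epi_of_im_eq (S : Subobject B) (k : ℕ)
    (h : imageSubobject (S.arrow ≫ (k • 𝟙 B)) = S) : Epi (k • 𝟙 (S : V)) := by
  rw [← nsmul_comm_arrow] at h
  have hle : imageSubobject ((k • 𝟙 (S : V)) ≫ S.arrow) ≤ S := h.le
  have hfac : (k • 𝟙 (S : V)) =
      factorThruImageSubobject ((k • 𝟙 (S : V)) ≫ S.arrow) ≫ Subobject.ofLE _ _ hle := by
    rw [← cancel_mono S.arrow, Category.assoc, Subobject.ofLE_arrow, imageSubobject_arrow_comp]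
  haveI : IsIso (Subobject.ofLE _ _ hle) := by
    have hge : S ≤ imageSubobject ((k • 𝟙 (S : V)) ≫ S.arrow) := h.ge
    refine ⟨Subobject.ofLE _ _ hge, ?_, ?_⟩
    · rw [Subobject.ofLE_comp_ofLE, Subobject.ofLE_refl]
    · rw [Subobject.ofLE_comp_ofLE, Subobject.ofLE_refl]
  rw [hfac]
  infer_instance

lemma nsmul_id_mul (m k : ℕ) : ((m * k) • 𝟙 B) = (m • 𝟙 B) ≫ (k • 𝟙 B) := by
  rw [Preadditive.nsmul_comp, Category.id_comp, mul_smul]

lemma im_congr {X Y : V} {f g : X ⟶ Y} (h : f = g) : imageSubobject f = imageSubobject g := by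
  subst h; rfl

lemma comp_cokernel_im {X Y : V} (f : X ⟶ Y) : f ≫ cokernel.π (imageSubobject f).arrow = 0 := by
  have : f ≫ cokernel.π (imageSubobject f).arrow =
      factorThruImageSubobject f ≫ (imageSubobject f).arrow ≫
        cokernel.π (imageSubobject f).arrow := by
    rw [← Category.assoc, imageSubobject_arrow_comp]
  rw [this, cokernel.condition, comp_zero]

lemma im_eq_of_dvd (B' : Subobject B) (hdiv : ∀ k : ℕ, 0 < k → Epi (k • 𝟙 (B' : V)))
    (M : ℕ) (hM : M • 𝟙 (cokernel B'.arrow) = 0) (j : ℕ) (hj : 0 < j) (hMj : M ∣ j) :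
    imageSubobject (j • 𝟙 B) = B' := by
  apply le_antisymm
  · apply im_le_of_kills
    obtain ⟨t, rfl⟩ := hMj
    rw [mul_comm, mul_smul, hM, smul_zero]
  · haveI := hdiv j hj
    exact le_im_of_epi B' j

theorem main {V : Type u} [Category.{v} V] [Abelian V] (B : V) :
    ((∀ n : ℕ, 0 < n → ∃ m : ℕ, 0 < m ∧ n ∣ m ∧ ∀ m' : ℕ, 0 < m' → m ∣ m' →
        imageSubobject ((m' / n) • 𝟙 B) = imageSubobject ((m / n) • 𝟙 B)) ↔
      ∃ B' : Subobject B, (∀ k : ℕ, 0 < k → Epi (k • 𝟙 (B' : V))) ∧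
        ∃ M : ℕ, 0 < M ∧ M • 𝟙 (cokernel B'.arrow) = 0) ∧
    (∀ B' : Subobject B, (∀ k : ℕ, 0 < k → Epi (k • 𝟙 (B' : V))) →
      (∃ M : ℕ, 0 < M ∧ M • 𝟙 (cokernel B'.arrow) = 0) →
      ∀ D : Subobject B, (∀ k : ℕ, 0 < k → Epi (k • 𝟙 (D : V))) → D ≤ B') := by
  refine ⟨⟨fun h => ?_, fun h => ?_⟩, ?_⟩
  · obtain ⟨m, hm0, -, hm⟩ := h 1 one_pos
    simp only [Nat.div_one] at hm
    refine ⟨imageSubobject (m • 𝟙 B), fun k hk => ?_, m, hm0, ?_⟩
    · apply epi_of_im_eq
      have h1 := hm (m * k) (Nat.mul_pos hm0 hk) (dvd_mul_right m k)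
      calc imageSubobject ((imageSubobject (m • 𝟙 B)).arrow ≫ (k • 𝟙 B))
          = imageSubobject (factorThruImageSubobject (m • 𝟙 B) ≫
              ((imageSubobject (m • 𝟙 B)).arrow ≫ (k • 𝟙 B))) :=
            (imageSubobject_epi_comp _ _).symm
        _ = imageSubobject ((m * k) • 𝟙 B) := im_congr (by
            rw [← Category.assoc, imageSubobject_arrow_comp, nsmul_id_mul])
        _ = imageSubobject (m • 𝟙 B) := h1
    · rw [← cancel_epi (cokernel.π (imageSubobject (m • 𝟙 B)).arrow)]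
      have : cokernel.π (imageSubobject (m • 𝟙 B)).arrow ≫
          (m • 𝟙 (cokernel (imageSubobject (m • 𝟙 B)).arrow)) =
          (m • 𝟙 B) ≫ cokernel.π (imageSubobject (m • 𝟙 B)).arrow := by
        rw [Preadditive.nsmul_comp, Preadditive.comp_nsmul, Category.id_comp, Category.comp_id]
      rw [this, comp_zero, comp_cokernel_im]
  · obtain ⟨B', hdiv, M, hM0, hM⟩ := h
    intro n hn
    refine ⟨n * M, Nat.mul_pos hn hM0, dvd_mul_right n M, fun m' hm' hdvd => ?_⟩
    obtain ⟨t, rfl⟩ := hdvd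
    have ht : 0 < t := by
      rcases Nat.eq_zero_or_pos t with rfl | ht
      · simp at hm'
      · exact ht
    have e1 : n * M * t / n = M * t := by
      rw [mul_assoc, Nat.mul_div_cancel_left _ hn]
    have e2 : n * M / n = M := Nat.mul_div_cancel_left _ hn
    rw [e1, e2, im_eq_of_dvd B' hdiv M hM (M * t) (Nat.mul_pos hM0 ht) (dvd_mul_right M t),
      im_eq_of_dvd B' hdiv M hM M hM0 dvd_rfl]
  · intro B' _ hM D hD
    obtain ⟨M, hM0, hM⟩ := hM
    haveI := hD M hM0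
    exact (le_im_of_epi D M).trans (im_le_of_kills B' M hM)

end Groth.Agent.Helper8.DivML
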