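import Mathlib

namespace Groth.Agent.Helper8.ProjMapAff

universe u

open CategoryTheory CategoryTheory.Limits AlgebraicGeometry HomogeneousLocalization

variable {R A : Type u} [CommRing R] [CommRing A] [Algebra R A] (𝒜 : ℕ → Submodule R A)
  [GradedAlgebra 𝒜]

/-- every point of Proj lies in some `D_+(s)` with `s` homogeneous of positive degree -/
theorem exists_basicOpen (x : Proj 𝒜) :
    ∃ (s : A) (d : ℕ), 0 < d ∧ s ∈ 𝒜 d ∧ x ∈ Proj.basicOpen 𝒜 s := by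
  have h := (Proj.affineOpenCover 𝒜).covers x
  generalize (Proj.affineOpenCover 𝒜).idx x = i at h
  obtain ⟨⟨n, hn⟩, ⟨s, hs⟩⟩ := i
  have hs' : s ∈ 𝒜 n := hs
  refine ⟨s, n, hn, hs', ?_⟩
  have h2 : x ∈ (Proj.awayι 𝒜 s hs' hn).opensRange := h
  rw [Proj.opensRange_awayι] at h2
  exact h2

theorem main
    {B : Type u} [CommRing B] [Algebra R B] (ℬ : ℕ → Submodule R B) [GradedAlgebra ℬ]
    (φ : 𝒜 →+*ᵍ ℬ) (hφ : HomogeneousIdeal.irrelevant ℬ ≤ (HomogeneousIdeal.irrelevant 𝒜).map φ) :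
    IsAffineHom (Proj.map φ hφ) := by
  apply isAffineHom_of_forall_exists_isAffineOpen
  intro x
  obtain ⟨s, d, hd, hs, hx⟩ := exists_basicOpen 𝒜 x
  refine ⟨Proj.basicOpen 𝒜 s, hx, Proj.isAffineOpen_basicOpen 𝒜 s hs hd, ?_⟩
  rw [Proj.map_preimage_basicOpen]
  exact Proj.isAffineOpen_basicOpen ℬ (φ s) (φ.2 hs) hd

end Groth.Agent.Helper8.ProjMapAff
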