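import Mathlib
import Groth.Agent.Helper8.ProjMapAff

namespace Groth.Agent.Helper8.ProjClosed

universe u

open CategoryTheory CategoryTheory.Limits AlgebraicGeometry HomogeneousLocalization

variable {R A : Type u} [CommRing R] [CommRing A] [Algebra R A] (𝒜 : ℕ → Submodule R A)
  [GradedAlgebra 𝒜]
  {B : Type u} [CommRing B] [Algebra R B] (ℬ : ℕ → Submodule R B) [GradedAlgebra ℬ]

theorem away_map_surjective (φ : 𝒜 →+*ᵍ ℬ) (hsurj : Function.Surjective φ)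
    (s : A) (d : ℕ) (hs : s ∈ 𝒜 d) : Function.Surjective (Away.map φ s) := by
  intro z
  obtain ⟨n, b, hb, rfl⟩ := Away.mk_surjective ℬ (φ.2 hs) z
  obtain ⟨a, rfl⟩ := hsurj b
  have ha' : (DirectSum.decompose 𝒜 a (n • d) : A) ∈ 𝒜 (n • d) := SetLike.coe_mem _
  refine ⟨Away.mk 𝒜 hs n (DirectSum.decompose 𝒜 a (n • d) : A) ha', ?_⟩
  rw [Away.map_mk]
  congr 1
  rw [GradedRingHom.map_directSumDecompose, DirectSum.decompose_of_mem_same ℬ hb]

theorem app_surjective (φ : 𝒜 →+*ᵍ ℬ) (hsurj : Function.Surjective φ)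
    (hφ : HomogeneousIdeal.irrelevant ℬ ≤ (HomogeneousIdeal.irrelevant 𝒜).map φ)
    (s : A) (d : ℕ) (hd : 0 < d) (hs : s ∈ 𝒜 d) :
    Function.Surjective ((Proj.map φ hφ).app (Proj.basicOpen 𝒜 s)).hom := by
  have h1 := Proj.awayToSection_comp_appLE φ hφ hs
  have hiso𝒜 : IsIso (Proj.awayToSection 𝒜 s) :=
    (Proj.basicOpenIsoAway 𝒜 s hs hd).isIso_hom
  have hisoℬ : IsIso (Proj.awayToSection ℬ (φ s)) :=
    (Proj.basicOpenIsoAway ℬ (φ s) (φ.2 hs) hd).isIso_hom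
  have h2 : Scheme.Hom.appLE (Proj.map φ hφ) (Proj.basicOpen 𝒜 s) (Proj.basicOpen ℬ (φ s))
      (by rfl) =
      inv (Proj.awayToSection 𝒜 s) ≫ CommRingCat.ofHom (Away.map φ s) ≫
        Proj.awayToSection ℬ (φ s) := by
    rw [← h1, IsIso.inv_hom_id_assoc]
  have h3 : (Proj.map φ hφ).app (Proj.basicOpen 𝒜 s) =
      Scheme.Hom.appLE (Proj.map φ hφ) (Proj.basicOpen 𝒜 s)
        (Proj.map φ hφ ⁻¹ᵁ Proj.basicOpen 𝒜 s) le_rfl := (Scheme.Hom.appLE_eq_app _).symm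
  rw [h3]
  change Function.Surjective (Scheme.Hom.appLE (Proj.map φ hφ) (Proj.basicOpen 𝒜 s)
    (Proj.basicOpen ℬ (φ s)) (by rfl)).hom
  rw [h2]
  simp only [CommRingCat.hom_comp, RingHom.coe_comp, CommRingCat.hom_ofHom]
  refine (Function.Surjective.comp ?_ ?_).comp ?_
  · exact (ConcreteCategory.bijective_of_isIso (Proj.awayToSection ℬ (φ s))).2
  · exact away_map_surjective 𝒜 ℬ φ hsurj s d hs
  · exact (ConcreteCategory.bijective_of_isIso (inv (Proj.awayToSection 𝒜 s))).2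

set_option backward.isDefEq.respectTransparency.types false in
theorem main
    (φ : 𝒜 →+*ᵍ ℬ) (hsurj : Function.Surjective φ)
    (hφ : HomogeneousIdeal.irrelevant ℬ ≤ (HomogeneousIdeal.irrelevant 𝒜).map φ) :
    IsClosedImmersion (Proj.map φ hφ) := by
  let U : (Σ i : ℕ+, 𝒜 i) → (Proj 𝒜).affineOpens := fun i =>
    ⟨Proj.basicOpen 𝒜 (i.2 : A), Proj.isAffineOpen_basicOpen 𝒜 (i.2 : A) i.2.2 i.1.2⟩
  have hU : ⨆ i, (U i : (Proj 𝒜).Opens) = ⊤ := by
    refine top_le_iff.mp fun x _ => TopologicalSpace.Opens.mem_iSup.mpr ?_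
    obtain ⟨s, d, hd, hs, hx⟩ := ProjMapAff.exists_basicOpen 𝒜 x
    exact ⟨⟨⟨d, hd⟩, ⟨s, hs⟩⟩, hx⟩
  rw [HasAffineProperty.iff_of_iSup_eq_top (P := @IsClosedImmersion) U hU]
  intro i
  refine ⟨?_, ?_⟩
  · have : IsAffineOpen (Proj.map φ hφ ⁻¹ᵁ (U i : (Proj 𝒜).Opens)) := by
      change IsAffineOpen (Proj.map φ hφ ⁻¹ᵁ Proj.basicOpen 𝒜 (i.2 : A))
      rw [Proj.map_preimage_basicOpen]
      exact Proj.isAffineOpen_basicOpen ℬ (φ i.2) (φ.2 i.2.2) i.1.2
    exact this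
  · rw [morphismRestrict_appTop]
    have hcomp : ∀ {X Y Z : CommRingCat.{u}} (f : X ⟶ Y) (g : Y ⟶ Z) (_ : IsIso g),
        Function.Surjective f.hom → Function.Surjective (f ≫ g).hom := by
      intro X Y Z f g _ hf
      rw [CommRingCat.hom_comp, RingHom.coe_comp]
      exact (ConcreteCategory.bijective_of_isIso g).2.comp hf
    have key : ∀ (W : (Proj 𝒜).Opens), W = Proj.basicOpen 𝒜 (i.2 : A) →
        Function.Surjective ((Proj.map φ hφ).app W).hom := by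
      rintro W rfl
      exact app_surjective 𝒜 ℬ φ hsurj hφ (i.2 : A) i.1 i.1.2 i.2.2
    have hiso : ∀ {V W : (Proj ℬ).Opens} (h : V = W),
        IsIso ((Proj ℬ).presheaf.map (eqToHom h).op) := by
      intro V W h
      subst h
      rw [eqToHom_refl, op_id, CategoryTheory.Functor.map_id]
      infer_instance
    exact hcomp _ _ (hiso _) (key _ (Scheme.Opens.ι_image_top _))

end Groth.Agent.Helper8.ProjClosed
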