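import Mathlib

set_option autoImplicit false
universe u
open CategoryTheory CategoryTheory.Limits AlgebraicGeometry TopologicalSpace Opposite

namespace Groth.Agent.Helper8.SchIdem

variable {X : Scheme.{u}}

/-- On a disjoint union of two opens there is a function equal to `1` on the first and `0` on the
second; it satisfies `e * (1 - e) = 0`. (Copied from the lead's `ConnHartogs.exists_one_zero`
to avoid its heavy imports.) -/
theorem exists_one_zero (A B : X.Opens) (hAB : A ⊓ B = ⊥) :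
    ∃ e : Γ(X, A ⊔ B), X.presheaf.map (homOfLE (le_sup_left : A ≤ A ⊔ B)).op e = 1 ∧
      X.presheaf.map (homOfLE (le_sup_right : B ≤ A ⊔ B)).op e = 0 ∧ e * (1 - e) = 0 := by
  haveI : Subsingleton Γ(X, A ⊓ B) := by rw [hAB]; infer_instance
  let x : RingHom.eqLocus
      (RingHom.comp (X.sheaf.obj.map (homOfLE inf_le_left : A ⊓ B ⟶ A).op).hom
        (RingHom.fst (X.sheaf.obj.obj <| op A) (X.sheaf.obj.obj <| op B)))
      (RingHom.comp (X.sheaf.obj.map (homOfLE inf_le_right : A ⊓ B ⟶ B).op).hom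
        (RingHom.snd (X.sheaf.obj.obj <| op A) (X.sheaf.obj.obj <| op B))) :=
    ⟨((1 : Γ(X, A)), (0 : Γ(X, B))), Subsingleton.elim (α := Γ(X, A ⊓ B)) _ _⟩
  have h1 : X.presheaf.map (homOfLE (le_sup_left : A ≤ A ⊔ B)).op
      ((X.sheaf.objSupIsoProdEqLocus A B).inv x) = 1 :=
    X.sheaf.objSupIsoProdEqLocus_inv_fst A B x
  have h2 : X.presheaf.map (homOfLE (le_sup_right : B ≤ A ⊔ B)).op
      ((X.sheaf.objSupIsoProdEqLocus A B).inv x) = 0 :=
    X.sheaf.objSupIsoProdEqLocus_inv_snd A B x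
  obtain ⟨e, he⟩ : ∃ e : Γ(X, A ⊔ B), e = (X.sheaf.objSupIsoProdEqLocus A B).inv x := ⟨_, rfl⟩
  rw [← he] at h1 h2
  refine ⟨e, h1, h2, ?_⟩
  apply X.sheaf.eq_of_locally_eq₂ (homOfLE (le_sup_left : A ≤ A ⊔ B))
    (homOfLE (le_sup_right : B ≤ A ⊔ B)) le_rfl
  · change X.presheaf.map (homOfLE (le_sup_left : A ≤ A ⊔ B)).op (e * (1 - e)) =
      X.presheaf.map (homOfLE (le_sup_left : A ≤ A ⊔ B)).op 0
    rw [map_mul, map_sub, map_one, map_zero, h1, sub_self, mul_zero]
  · change X.presheaf.map (homOfLE (le_sup_right : B ≤ A ⊔ B)).op (e * (1 - e)) =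
      X.presheaf.map (homOfLE (le_sup_right : B ≤ A ⊔ B)).op 0
    rw [map_mul, map_sub, map_one, map_zero, h2, zero_mul]

/-- a clopen subset of a scheme is the nonvanishing locus of an idempotent global function -/
theorem exists_idem_basicOpen_eq (U : Set X) (hU : IsClopen U) :
    ∃ ε : Γ(X, ⊤), IsIdempotentElem ε ∧ (X.basicOpen ε : Set X) = U := by
  let A : X.Opens := ⟨U, hU.2⟩
  let B : X.Opens := ⟨Uᶜ, hU.1.isOpen_compl⟩
  have hAB : A ⊓ B = ⊥ := by
    ext y
    simp [A, B]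
  have hsup : A ⊔ B = ⊤ := by
    ext y
    simp [A, B]
  obtain ⟨e, he1, he2, he3⟩ := exists_one_zero A B hAB
  refine ⟨X.presheaf.map (eqToHom hsup.symm).op e, ?_, ?_⟩
  · have h0 : X.presheaf.map (eqToHom hsup.symm).op e *
        (1 - X.presheaf.map (eqToHom hsup.symm).op e) = 0 := by
      rw [← map_one (X.presheaf.map (eqToHom hsup.symm).op).hom, ← map_sub, ← map_mul, he3,
        map_zero]
    show _ * _ = _
    linear_combination (-1 : Γ(X, ⊤)) * h0
  ext y
  rw [SetLike.mem_coe, Scheme.mem_basicOpen _ _ _ (show y ∈ (⊤ : X.Opens) from trivial)]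
  by_cases hy : y ∈ U
  · simp only [hy, iff_true]
    have hyA : y ∈ A := hy
    have h1 : X.presheaf.germ ⊤ y trivial (X.presheaf.map (eqToHom hsup.symm).op e) =
        X.presheaf.germ A y hyA (X.presheaf.map (homOfLE (le_sup_left : A ≤ A ⊔ B)).op e) := by
      rw [TopCat.Presheaf.germ_res_apply, TopCat.Presheaf.germ_res_apply]
    rw [h1, he1, map_one]
    exact isUnit_one
  · simp only [hy, iff_false]
    have hyB : y ∈ B := hy
    have h1 : X.presheaf.germ ⊤ y trivial (X.presheaf.map (eqToHom hsup.symm).op e) =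
        X.presheaf.germ B y hyB (X.presheaf.map (homOfLE (le_sup_right : B ≤ A ⊔ B)).op e) := by
      rw [TopCat.Presheaf.germ_res_apply, TopCat.Presheaf.germ_res_apply]
    rw [h1, he2, map_zero]
    exact not_isUnit_zero

/-- the germ of an idempotent function is `1` on its nonvanishing locus and `0` elsewhere -/
theorem germ_idem (ε : Γ(X, ⊤)) (hε : IsIdempotentElem ε) (x : X) :
    (x ∈ X.basicOpen ε → X.presheaf.germ ⊤ x trivial ε = 1) ∧
      (x ∉ X.basicOpen ε → X.presheaf.germ ⊤ x trivial ε = 0) := by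
  have hid : X.presheaf.germ ⊤ x trivial ε * X.presheaf.germ ⊤ x trivial ε =
      X.presheaf.germ ⊤ x trivial ε := by
    rw [← map_mul, hε.eq]
  rw [Scheme.mem_basicOpen _ _ _ (show x ∈ (⊤ : X.Opens) from trivial)]
  constructor
  · intro hu
    exact hu.mul_left_cancel (by rw [hid, mul_one])
  · intro hu
    have h1 : IsUnit (1 - X.presheaf.germ ⊤ x trivial ε) :=
      IsLocalRing.isUnit_one_sub_self_of_mem_nonunits _ hu
    have h2 : (1 - X.presheaf.germ ⊤ x trivial ε) * X.presheaf.germ ⊤ x trivial ε = 0 := by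
      rw [sub_mul, one_mul, hid, sub_self]
    exact (h1.mul_right_eq_zero).1 h2

theorem eq_of_basicOpen_eq (ε₁ ε₂ : Γ(X, ⊤)) (h₁ : IsIdempotentElem ε₁)
    (h₂ : IsIdempotentElem ε₂) (h : X.basicOpen ε₁ = X.basicOpen ε₂) : ε₁ = ε₂ := by
  refine TopCat.Presheaf.section_ext X.sheaf ⊤ _ _ (fun x hx => ?_)
  by_cases hx1 : x ∈ X.basicOpen ε₁
  · exact ((germ_idem ε₁ h₁ x).1 hx1).trans ((germ_idem ε₂ h₂ x).1 (h ▸ hx1)).symm
  · exact ((germ_idem ε₁ h₁ x).2 hx1).trans ((germ_idem ε₂ h₂ x).2 (h ▸ hx1)).symm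

theorem isClopen_basicOpen (ε : Γ(X, ⊤)) (hε : IsIdempotentElem ε) :
    IsClopen (X.basicOpen ε : Set X) := by
  refine ⟨?_, (X.basicOpen ε).2⟩
  have hc : ((X.basicOpen ε : Set X))ᶜ = X.basicOpen (1 - ε) := by
    ext x
    simp only [Set.mem_compl_iff, SetLike.mem_coe]
    rw [Scheme.mem_basicOpen _ (1 - ε) _ (show x ∈ (⊤ : X.Opens) from trivial), map_sub, map_one]
    by_cases hx : x ∈ X.basicOpen ε
    · simp only [hx, not_true_eq_false, false_iff]
      rw [(germ_idem ε hε x).1 hx, sub_self]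
      exact not_isUnit_zero
    · simp only [hx, not_false_eq_true, true_iff]
      rw [(germ_idem ε hε x).2 hx, sub_zero]
      exact isUnit_one
  rw [← isOpen_compl_iff, hc]
  exact (X.basicOpen (1 - ε)).2

end Groth.Agent.Helper8.SchIdem
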