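import Mathlib
import Groth.Prelude.Def_WeilCoh
import Groth.Agent.Helper7.WC
import Groth.Agent.Helper5.VarDim7

set_option autoImplicit false
universe u v w

namespace Groth.Agent.Helper8.WCGeo

open CategoryTheory AlgebraicGeometry WeilCoh
open Groth.Agent.Helper5.VarDim

theorem natDim_eq {T : Type u} [TopologicalSpace T] (n : ℕ)
    (h : topologicalKrullDim T = (n : WithBot ℕ∞)) : natDim T = n := by
  unfold natDim
  rw [h]
  have : ((n : ℕ) : WithBot ℕ∞) = ((n : ℕ∞) : WithBot ℕ∞) := rfl
  rw [this, WithBot.unbotD_coe, ENat.toNat_coe]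

section Residue

variable {X Y Z : Scheme.{u}}

/-- Tower law for residue degrees. -/
theorem residueDegree_comp (f : X ⟶ Y) (g : Y ⟶ Z) (x : X) :
    (f ≫ g).residueDegree x = g.residueDegree (f x) * f.residueDegree x := by
  unfold Scheme.Hom.residueDegree
  letI a1 : Algebra (Z.residueField (g (f x))) (Y.residueField (f x)) :=
    (g.residueFieldMap (f x)).hom.toAlgebra
  letI a2 : Algebra (Y.residueField (f x)) (X.residueField x) :=
    (f.residueFieldMap x).hom.toAlgebra
  letI a3 : Algebra (Z.residueField (g (f x))) (X.residueField x) :=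
    ((f ≫ g).residueFieldMap x).hom.toAlgebra
  haveI : IsScalarTower (Z.residueField (g (f x))) (Y.residueField (f x)) (X.residueField x) :=
    IsScalarTower.of_algebraMap_eq (fun c => by
      show ((f ≫ g).residueFieldMap x).hom c =
        (f.residueFieldMap x).hom ((g.residueFieldMap (f x)).hom c)
      rw [Scheme.residueFieldMap_comp]
      rfl)
  exact (Module.finrank_mul_finrank (Z.residueField (g (f x))) (Y.residueField (f x))
    (X.residueField x)).symm

theorem residueDegree_of_section (f : X ⟶ Y) (g : Y ⟶ X) (h : f ≫ g = 𝟙 X) (x : X) :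
    f.residueDegree x = 1 := by
  have h1 := residueDegree_comp f g x
  rw [h, Scheme.Hom.residueDegree_id] at h1
  exact Nat.eq_one_of_mul_eq_one_left h1.symm

end Residue

variable {k : Type u} [Field k]

theorem lft (X : Var k) : LocallyOfFiniteType X.obj.hom := by
  haveI : Smooth X.obj.hom := X.property.1
  infer_instance

theorem irr (X : Var k) : IrreducibleSpace ↥X.obj.left := X.property.2.2

theorem tkd_closure (X : Var k) (ξ : X.obj.left) :
    topologicalKrullDim ↥(closure ({ξ} : Set X.obj.left)) =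
        ((pdim X.obj.left ξ : ℕ) : WithBot ℕ∞) ∧
    @Algebra.trdeg k (X.obj.left.residueField ξ) _ _ (resHom k X.obj.hom ξ).toAlgebra =
      ((pdim X.obj.left ξ : ℕ) : Cardinal.{u}) := by
  haveI := lft X
  obtain ⟨n, h1, h2⟩ := dim_closure_point k X.obj.hom ξ
  have : pdim X.obj.left ξ = n := natDim_eq n h1
  rw [this]
  exact ⟨h1, h2⟩

theorem tkd_dim (X : Var k) :
    topologicalKrullDim ↥X.obj.left = ((dim X.obj.left : ℕ) : WithBot ℕ∞) := by
  haveI := lft X
  haveI := irr X
  obtain ⟨n, h1, -⟩ := dim_eq_trdeg_generic k X.obj.hom (genericPoint X.obj.left)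
    (by rw [(genericPoint_spec X.obj.left).def])
  have : dim X.obj.left = n := natDim_eq n h1
  rw [this]
  exact h1

theorem pdim_le_dim (X : Var k) (ξ : X.obj.left) : pdim X.obj.left ξ ≤ dim X.obj.left := by
  have h := topologicalKrullDim_subspace_le X.obj.left (closure ({ξ} : Set X.obj.left))
  rw [(tkd_closure X ξ).1, tkd_dim X] at h
  exact_mod_cast h

theorem pdim_of_closure_eq_univ (X : Var k) (ξ : X.obj.left)
    (h : closure ({ξ} : Set X.obj.left) = Set.univ) :
    pdim X.obj.left ξ = dim X.obj.left := by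
  unfold pdim dim natDim
  rw [h]
  have e : topologicalKrullDim ↥(Set.univ : Set X.obj.left) = topologicalKrullDim ↥X.obj.left :=
    IsHomeomorph.topologicalKrullDim_eq _ (Homeomorph.Set.univ X.obj.left).isHomeomorph
  rw [e]

theorem two_codim (X : Var k) (ξ : X.obj.left) :
    (2 * (codim X.obj.left ξ : ℤ)) =
      2 * (dim X.obj.left : ℤ) - 2 * (pdim X.obj.left ξ : ℤ) := by
  unfold codim
  have := pdim_le_dim X ξ
  rw [Nat.cast_sub this]
  ring

theorem trdeg_tower' (X Y : Var k) (f : X ⟶ Y) (ξ : X.obj.left) :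
    ((pdim X.obj.left ξ : ℕ) : Cardinal.{u}) = ((pdim Y.obj.left (sm f ξ) : ℕ) : Cardinal.{u}) +
      @Algebra.trdeg (Y.obj.left.residueField (sm f ξ)) (X.obj.left.residueField ξ) _ _
        ((sm f).residueFieldMap ξ).hom.toAlgebra := by
  have h := trdeg_tower k (sm f) Y.obj.hom ξ
  have hw : sm f ≫ Y.obj.hom = X.obj.hom := Over.w f.hom
  rw [hw] at h
  rw [(tkd_closure X ξ).2, (tkd_closure Y (sm f ξ)).2] at h
  exact h

theorem pdim_eq_of_residueDegree_ne_zero {X Y : Var k} (f : X ⟶ Y) (ξ : X.obj.left)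
    (h : (sm f).residueDegree ξ ≠ 0) : pdim Y.obj.left (sm f ξ) = pdim X.obj.left ξ := by
  have h1 := trdeg_tower' X Y f ξ
  unfold Scheme.Hom.residueDegree at h
  letI := ((sm f).residueFieldMap ξ).hom.toAlgebra
  haveI : Module.Finite (Y.obj.left.residueField (sm f ξ)) (X.obj.left.residueField ξ) :=
    Module.finite_of_finrank_pos (Nat.pos_of_ne_zero h)
  haveI : Algebra.IsAlgebraic (Y.obj.left.residueField (sm f ξ)) (X.obj.left.residueField ξ) :=
    Algebra.IsAlgebraic.of_finite _ _
  have h2 : Algebra.trdeg (Y.obj.left.residueField (sm f ξ)) (X.obj.left.residueField ξ) = 0 :=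
    trdeg_eq_zero
  rw [h2, add_zero] at h1
  exact_mod_cast h1.symm

variable {K : Type v} [Field K] (T : TheoryOn.{u, v, w} k (IsVar k) K)

open Groth.Agent.Helper7

theorem push_cl (X Y : Var k) (f : X ⟶ Y) (ξ : X.obj.left) :
    (T.push f (2 * (codim X.obj.left ξ : ℤ)) ⟨T.cl X ξ, T.cl_mem X ξ⟩ : T.H Y) =
      ((sm f).residueDegree ξ : K) • T.cl Y (sm f ξ) := by
  have hcX := two_codim X ξ
  by_cases hdeg : (sm f).residueDegree ξ = 0
  · rw [hdeg, Nat.cast_zero, zero_smul]
    apply WC.eq_of_forall_tr T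
      (2 * (codim X.obj.left ξ : ℤ) + 2 * (dim Y.obj.left : ℤ) - 2 * (dim X.obj.left : ℤ))
      (2 * (dim X.obj.left : ℤ) - 2 * (codim X.obj.left ξ : ℤ)) (by omega)
    · exact (T.push f _ _).2
    · exact zero_mem _
    · intro b hb
      rw [WC.push_spec T f _ _ b hb, zero_mul, map_zero]
      show T.tr X (T.cl X ξ * T.pull f b) = 0
      rw [T.cl_push f ξ b (WC.gr_congr T (by omega) hb), hdeg, Nat.cast_zero, zero_mul]
  · have hp := pdim_eq_of_residueDegree_ne_zero f ξ hdeg
    have hcY := two_codim Y (sm f ξ)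
    apply WC.eq_of_forall_tr T
      (2 * (codim X.obj.left ξ : ℤ) + 2 * (dim Y.obj.left : ℤ) - 2 * (dim X.obj.left : ℤ))
      (2 * (dim X.obj.left : ℤ) - 2 * (codim X.obj.left ξ : ℤ)) (by omega)
    · exact (T.push f _ _).2
    · exact (T.gr Y _).smul_mem _ (WC.gr_congr T (by omega) (T.cl_mem Y (sm f ξ)))
    · intro b hb
      rw [WC.push_spec T f _ _ b hb]
      show T.tr X (T.cl X ξ * T.pull f b) = _
      rw [T.cl_push f ξ b (WC.gr_congr T (by omega) hb), smul_mul_assoc, map_smul, smul_eq_mul]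

end Groth.Agent.Helper8.WCGeo
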