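import Mathlib
import Groth.Agent.Helper8.WCGeo

set_option autoImplicit false
universe u v w

namespace Groth.Agent.Helper8.WCDiag

open CategoryTheory AlgebraicGeometry WeilCoh
open Groth.Agent.Helper5.VarDim Groth.Agent.Helper7 Groth.Agent.Helper8.WCGeo

variable {k : Type u} [Field k]
variable {K : Type v} [Field K] (T : TheoryOn.{u, v, w} k (IsVar k) K)

/-- Classes of even degree are central. -/
theorem comm_even (X : Var k) (i : ℤ) (c : ℕ) (a b : T.H X) (ha : a ∈ T.gr X i)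
    (hb : b ∈ T.gr X (2 * (c : ℤ))) : a * b = b * a := by
  rw [T.gradedComm X i (2 * (c : ℤ)) a b ha hb]
  have h2 : (2 * (c : ℤ)).natAbs = 2 * c := by
    rw [Int.natAbs_mul]; simp
  have hev : Even (i.natAbs * (2 * (c : ℤ)).natAbs) := by
    rw [h2]
    exact Even.mul_left (even_two_mul c) _
  rw [hev.neg_one_pow, one_smul]

theorem sm_comp {X Y Z : Var k} (f : X ⟶ Y) (g : Y ⟶ Z) : sm (f ≫ g) = sm f ≫ sm g := rfl

theorem sm_id (X : Var k) : sm (𝟙 X) = 𝟙 X.obj.left := rfl

theorem pull_pull {X Y Z : Var k} (f : X ⟶ Y) (g : Y ⟶ Z) (a : T.H Z) :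
    T.pull f (T.pull g a) = T.pull (f ≫ g) a := by
  rw [T.pull_comp]; rfl

theorem pull_section {X Y : Var k} (f : X ⟶ Y) (g : Y ⟶ X) (h : f ≫ g = 𝟙 X) (a : T.H X) :
    T.pull f (T.pull g a) = a := by
  rw [pull_pull, h, T.pull_id]; rfl

theorem main (X P : Var k) (p q : P ⟶ X) (d : X ⟶ P) (hdp : d ≫ p = 𝟙 X) (hdq : d ≫ q = 𝟙 X)
    (η : X.obj.left) (i : ℤ) (a : ↥(T.gr X i)) :
    (T.push q (i + 2 * (codim P.obj.left (sm d η) : ℤ))
        ⟨T.pull p (a : T.H X) * T.cl P (sm d η),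
          SetLike.mul_mem_graded (T.pull_mem p i a a.2) (T.cl_mem P (sm d η))⟩ : T.H X) =
      (a : T.H X) * T.cl X η := by
  have hsec : sm d ≫ sm p = 𝟙 X.obj.left := by
    rw [← sm_comp, hdp, sm_id]
  have hdeg : (sm d).residueDegree η = 1 := residueDegree_of_section (sm d) (sm p) hsec η
  have hp : pdim P.obj.left (sm d η) = pdim X.obj.left η :=
    pdim_eq_of_residueDegree_ne_zero d η (by rw [hdeg]; exact one_ne_zero)
  have hcP := two_codim P (sm d η)
  have hcX := two_codim X η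
  apply WC.eq_of_forall_tr T
    (i + 2 * (codim P.obj.left (sm d η) : ℤ) + 2 * (dim X.obj.left : ℤ) - 2 * (dim P.obj.left : ℤ))
    (2 * (dim P.obj.left : ℤ) - (i + 2 * (codim P.obj.left (sm d η) : ℤ))) (by omega)
  · exact (T.push q _ _).2
  · exact WC.gr_congr T (by omega) (SetLike.mul_mem_graded a.2 (T.cl_mem X η))
  · intro b hb
    rw [WC.push_spec T q _ _ b hb]
    show T.tr P (T.pull p (a : T.H X) * T.cl P (sm d η) * T.pull q b) = _
    have hc : T.pull p (a : T.H X) * T.pull q b ∈ T.gr P (2 * (pdim X.obj.left η : ℤ)) :=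
      WC.gr_congr T (by omega)
        (SetLike.mul_mem_graded (T.pull_mem p i a a.2) (T.pull_mem q _ b hb))
    have h1 := T.cl_push d η _ hc
    rw [hdeg, Nat.cast_one, one_mul, map_mul (T.pull d), pull_section T d p hdp, pull_section T d q hdq] at h1
    rw [comm_even T P i (codim P.obj.left (sm d η)) _ _ (T.pull_mem p i a a.2) (T.cl_mem P (sm d η)),
      mul_assoc, ← h1,
      comm_even T X i (codim X.obj.left η) _ _ a.2 (T.cl_mem X η), mul_assoc]

end Groth.Agent.Helper8.WCDiag
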