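import Mathlib
import Groth.Agent.Helper8.WCDiag
import Groth.Agent.Helper1.EtRed

set_option autoImplicit false
universe u v w

namespace Groth.Agent.Helper8.WCPt

open CategoryTheory CategoryTheory.Limits AlgebraicGeometry WeilCoh
open Groth.Agent.Helper5.VarDim Groth.Agent.Helper7 Groth.Agent.Helper8.WCGeo
open Groth.Agent.Helper8.WCDiag

section Sec

variable (n : ℕ) (R : Type u) [CommRing R]

/-- Evaluation at the point `(1 : 1 : … : 1)` on the chart `D₊(T₀)`. -/
noncomputable def ev :
    HomogeneousLocalization.Away (CohB1.polyGrading n R)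
      (MvPolynomial.X (0 : Fin (n + 1)) : MvPolynomial (Fin (n + 1)) R) →+* R :=
  (IsLocalization.Away.lift
      (S := Localization.Away (MvPolynomial.X (0 : Fin (n + 1)) : MvPolynomial (Fin (n + 1)) R))
      (MvPolynomial.X (0 : Fin (n + 1)) : MvPolynomial (Fin (n + 1)) R)
      (g := (MvPolynomial.eval (fun _ => (1 : R)))) (by simp)).comp
    (algebraMap _ _)

theorem ev_fromZero (r : R) :
    ev n R (HomogeneousLocalization.fromZeroRingHom (CohB1.polyGrading n R) _
      (algebraMap R (CohB1.polyGrading n R 0) r)) = r := by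
  unfold ev
  rw [RingHom.comp_apply, HomogeneousLocalization.algebraMap_apply]
  have h1 : (HomogeneousLocalization.fromZeroRingHom (CohB1.polyGrading n R)
      (Submonoid.powers (MvPolynomial.X (0 : Fin (n + 1)) : MvPolynomial (Fin (n + 1)) R))
      (algebraMap R (CohB1.polyGrading n R 0) r)).val =
      algebraMap (MvPolynomial (Fin (n + 1)) R) _ (MvPolynomial.C r) := by
    show Localization.mk _ _ = _
    rw [← Localization.mk_one_eq_algebraMap]
    rfl
  rw [h1, IsLocalization.Away.lift_eq, MvPolynomial.eval_C]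

/-- A section of `P^n_R → Spec R`, as a morphism to `Proj`. -/
noncomputable def s0' : Spec (CommRingCat.of R) ⟶ Proj (CohB1.polyGrading n R) :=
  Spec.map (CommRingCat.ofHom (ev n R)) ≫
    Proj.awayι (CohB1.polyGrading n R) (MvPolynomial.X (0 : Fin (n + 1))) (m := 1)
      ((MvPolynomial.mem_homogeneousSubmodule _ _).mpr (MvPolynomial.isHomogeneous_X _ _)) one_pos

theorem s0'_toSpec : s0' n R ≫ (Proj.toSpecZero (CohB1.polyGrading n R) ≫
    Spec.map (CommRingCat.ofHom (algebraMap R (CohB1.polyGrading n R 0)))) = 𝟙 _ := by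
  unfold s0'
  rw [Category.assoc, Proj.awayι_toSpecZero_assoc, ← Spec.map_comp, ← Spec.map_comp,
    ← Spec.map_id]
  congr 1
  ext r
  exact ev_fromZero n R r

/-- A section of `P^n_R → Spec R`. -/
noncomputable def s0 : Spec (CommRingCat.of R) ⟶ CohB1.ProjSpace n R := s0' n R

theorem s0_toSpec : s0 n R ≫ CohB1.ProjSpace.toSpec n R = 𝟙 _ := s0'_toSpec n R

variable (S : Scheme.{u})

/-- A section of `P^n_S → S`. -/
noncomputable def sec : S ⟶ CohB1.ProjSpaceOver n S :=
  pullback.lift (specULiftZIsTerminal.from S ≫ s0 n (ULift.{u} ℤ)) (𝟙 S) (by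
    rw [Category.assoc, s0_toSpec, Category.comp_id, Category.id_comp])

theorem sec_toBase : sec n S ≫ CohB1.ProjSpaceOver.toBase n S = 𝟙 S :=
  pullback.lift_snd _ _ _

theorem isSeparated_toBase : IsSeparated (CohB1.ProjSpaceOver.toBase n S) := by
  have hc : ∀ {X Y Z : Scheme.{u}} (f : X ⟶ Y) (g : Y ⟶ Z) [IsSeparated f] [IsSeparated g],
      IsSeparated (f ≫ g) := fun f g => inferInstance
  haveI : IsSeparated (CohB1.ProjSpace.toSpec n (ULift.{u} ℤ)) :=
    hc (X := Proj (CohB1.polyGrading n (ULift.{u} ℤ))) (Proj.toSpecZero _) (Spec.map _)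
  have hp : ∀ {X Y Z : Scheme.{u}} (f : X ⟶ Z) (g : Y ⟶ Z) [IsSeparated f],
      IsSeparated (pullback.snd f g) := fun f g => inferInstance
  exact hp (CohB1.ProjSpace.toSpec n (ULift.{u} ℤ)) (specULiftZIsTerminal.from S)

theorem isClosedImmersion_sec : IsClosedImmersion (sec n S) := by
  haveI := isSeparated_toBase n S
  haveI : IsClosedImmersion (sec n S ≫ CohB1.ProjSpaceOver.toBase n S) := by
    rw [sec_toBase]; infer_instance
  exact IsClosedImmersion.of_comp (sec n S) (CohB1.ProjSpaceOver.toBase n S)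

end Sec

variable (k : Type u) [Field k]

theorem isVar_pt : IsVar k (Over.mk (𝟙 (Spec (CommRingCat.of k)))) :=
  ⟨inferInstanceAs (Smooth (𝟙 (Spec (CommRingCat.of k)))),
    ⟨0, sec 0 _, isClosedImmersion_sec 0 _, sec_toBase 0 _⟩,
    inferInstanceAs (IrreducibleSpace ↥(Spec (CommRingCat.of k)))⟩

/-- The point `Spec k` as an object of `Var k`. -/
noncomputable def pt : Var k := ⟨Over.mk (𝟙 (Spec (CommRingCat.of k))), isVar_pt k⟩

variable {k}

/-- The structure morphism as a morphism of `Var k`. -/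
noncomputable def toPt (X : Var k) : X ⟶ pt k :=
  ObjectProperty.homMk (Over.homMk X.obj.hom (by simp [pt]))

theorem sm_toPt (X : Var k) : sm (toPt X) = X.obj.hom := rfl

instance : Subsingleton ↥(pt k).obj.left :=
  inferInstanceAs (Subsingleton (PrimeSpectrum k))

variable (k) in
theorem dim_pt : dim (pt k).obj.left = 0 := by
  apply natDim_eq 0
  show topologicalKrullDim (PrimeSpectrum k) = _
  rw [PrimeSpectrum.topologicalKrullDim_eq_ringKrullDim, ringKrullDim_eq_zero_of_field]
  rfl

theorem pdim_pt (ξ : (pt k).obj.left) : pdim (pt k).obj.left ξ = 0 :=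
  Nat.le_zero.mp (dim_pt k ▸ pdim_le_dim (pt k) ξ)

theorem isReduced (X : Var k) : IsReduced X.obj.left := by
  haveI : Smooth X.obj.hom := X.property.1
  have : ∀ x : X.obj.left, _root_.IsReduced (X.obj.left.presheaf.stalk x) := by
    intro x
    obtain ⟨_, ⟨V, hV, rfl⟩, hxV, -⟩ :=
      (Spec (CommRingCat.of k)).isBasis_affineOpens.exists_subset_of_mem_open
        (Set.mem_univ (X.obj.hom x)) isOpen_univ
    obtain ⟨_, ⟨U, hU, rfl⟩, hxU, hUV⟩ :=
      X.obj.left.isBasis_affineOpens.exists_subset_of_mem_open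
        (show x ∈ (X.obj.hom ⁻¹ᵁ V : Set X.obj.left) from hxV) (X.obj.hom ⁻¹ᵁ V).isOpen
    have e : U ≤ X.obj.hom ⁻¹ᵁ V := hUV
    have hsm : (X.obj.hom.appLE V U e).hom.Smooth :=
      (HasRingHomProperty.iff_appLE (P := @Smooth)).1 inferInstance ⟨V, hV⟩ ⟨U, hU⟩ e
    have hredV : _root_.IsReduced Γ(Spec (CommRingCat.of k), V) := inferInstance
    have hredU : _root_.IsReduced Γ(X.obj.left, U) := by
      algebraize [(X.obj.hom.appLE V U e).hom]
      exact Groth.Agent.Helper1.EtRed.isReduced_of_smooth Γ(Spec (CommRingCat.of k), V)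
        Γ(X.obj.left, U)
    let _ := TopCat.Presheaf.algebra_section_stalk X.obj.left.presheaf (⟨x, hxU⟩ : U)
    have hloc := hU.isLocalization_stalk ⟨x, hxU⟩
    exact isReduced_localizationPreserves (hU.primeIdealOf ⟨x, hxU⟩).asIdeal.primeCompl _ hredU
  exact isReduced_of_isReduced_stalk X.obj.left

theorem isIntegral (X : Var k) : IsIntegral X.obj.left := by
  haveI := isReduced X
  haveI := irr X
  exact isIntegral_of_irreducibleSpace_of_isReduced _

variable {K : Type v} [Field K] (T : TheoryOn.{u, v, w} k (IsVar k) K)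

theorem cl_pt (ξ : (pt k).obj.left) : T.cl (pt k) ξ = 1 := (T.point (pt k) (dim_pt k)).1 ξ

theorem tr_pt : T.tr (pt k) 1 = 1 := (T.point (pt k) (dim_pt k)).2

/-- S15444. -/
theorem tr_cl_closed [IsAlgClosed k] (X : Var k) (x : X.obj.left)
    (hx : IsClosed ({x} : Set X.obj.left)) : T.tr X (T.cl X x) = 1 := by
  haveI := lft X
  let s : pt k ⟶ X := ObjectProperty.homMk
    (Over.homMk (pointOfClosedPoint X.obj.hom x hx) (pointOfClosedPoint_comp _ _ _))
  have hs : sm s ≫ sm (toPt X) = 𝟙 _ := pointOfClosedPoint_comp _ _ _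
  let ξ0 : (pt k).obj.left := IsLocalRing.closedPoint k
  have hsx : sm s ξ0 = x := pointOfClosedPoint_apply _ _ _ _
  have hdeg : (sm s).residueDegree ξ0 = 1 :=
    residueDegree_of_section (sm s) (sm (toPt X)) hs ξ0
  have hp0 := pdim_pt ξ0
  have h1 := T.cl_push s ξ0 1
    (WC.gr_congr T (by rw [hp0]; simp) (SetLike.one_mem_graded (T.gr X)))
  rw [map_one, mul_one, mul_one, hdeg, Nat.cast_one, one_mul, hsx, cl_pt, tr_pt] at h1
  exact h1.symm

end Groth.Agent.Helper8.WCPt
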