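import Mathlib

set_option autoImplicit false
universe u

namespace Groth.Agent.Helper8.ClopLift

open Topology

/-- every clopen subset of `P` is the preimage of a unique clopen subset of `Y` -/
def Lift {P Y : Type*} [TopologicalSpace P] [TopologicalSpace Y] (p : P → Y) : Prop :=
  ∀ V : Set P, IsClopen V → ∃! U : Set Y, IsClopen U ∧ p ⁻¹' U = V

theorem preimage_image_eq_of_range_eq {P P' Y : Type*} {p : P → Y} {p' : P' → Y}
    (hr : Set.range p = Set.range p') (O : Set Y) :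
    p ⁻¹' (p' '' (p' ⁻¹' O)) = p ⁻¹' O := by
  rw [Set.image_preimage_eq_inter_range, Set.preimage_inter, ← hr, Set.preimage_range,
    Set.inter_univ]

theorem lift_of_range_eq {P P' Y : Type*} [TopologicalSpace P] [TopologicalSpace P']
    [TopologicalSpace Y] {p : P → Y} {p' : P' → Y} (hp' : IsEmbedding p')
    (hpc : Continuous p)
    (hr : Set.range p = Set.range p') (h : Lift p) : Lift p' := by
  intro V' hV'
  have hV : IsClopen (p ⁻¹' (p' '' V')) := by
    constructor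
    · obtain ⟨C, hC, hCV⟩ := hp'.isInducing.isClosed_iff.1 hV'.1
      rw [← hCV, preimage_image_eq_of_range_eq hr]
      exact hC.preimage hpc
    · obtain ⟨O, hO, hOV⟩ := hp'.isInducing.isOpen_iff.1 hV'.2
      rw [← hOV, preimage_image_eq_of_range_eq hr]
      exact hO.preimage hpc
  have key : ∀ U : Set Y, p ⁻¹' U = p ⁻¹' (p' '' V') ↔ p' ⁻¹' U = V' := by
    intro U
    constructor
    · intro hU
      ext x'
      have hx' : p' x' ∈ Set.range p := by rw [hr]; exact ⟨x', rfl⟩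
      obtain ⟨x, hx⟩ := hx'
      have h1 : x ∈ p ⁻¹' U ↔ x ∈ p ⁻¹' (p' '' V') := by rw [hU]
      simp only [Set.mem_preimage] at h1 ⊢
      rw [← hx, h1, hx]
      exact hp'.injective.mem_set_image
    · intro hU
      rw [← hU, preimage_image_eq_of_range_eq hr]
  obtain ⟨U, ⟨hU1, hU2⟩, hU3⟩ := h _ hV
  exact ⟨U, ⟨hU1, (key U).1 hU2⟩, fun U' ⟨h1, h2⟩ => hU3 U' ⟨h1, (key U').2 h2⟩⟩

theorem lift_homeomorph_comp {P Y Y' : Type*} [TopologicalSpace P] [TopologicalSpace Y]
    [TopologicalSpace Y'] {p : P → Y} (e : Y ≃ₜ Y') (h : Lift p) : Lift (e ∘ p) := by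
  intro V hV
  obtain ⟨U, ⟨hU1, hU2⟩, hU3⟩ := h V hV
  refine ⟨e.symm ⁻¹' U, ⟨hU1.preimage e.symm.continuous, ?_⟩, ?_⟩
  · rw [Set.preimage_comp, ← Set.preimage_comp (f := e) (g := e.symm)]
    simpa using hU2
  · rintro U' ⟨h1, h2⟩
    have : e ⁻¹' U' = U := hU3 _ ⟨h1.preimage e.continuous, by rw [← h2]; rfl⟩
    rw [← this, ← Set.preimage_comp]
    simp

theorem lift_homeomorph_comp_iff {P Y Y' : Type*} [TopologicalSpace P] [TopologicalSpace Y]
    [TopologicalSpace Y'] {p : P → Y} (e : Y ≃ₜ Y') : Lift (e ∘ p) ↔ Lift p := by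
  refine ⟨fun h => ?_, lift_homeomorph_comp e⟩
  have := lift_homeomorph_comp e.symm h
  have h2 : (e.symm ∘ (e ∘ p)) = p := by
    funext x; simp
  rwa [h2] at this

/-- ring-level: clopens lift along `Spec (B/K) → Spec B` iff idempotents lift uniquely. -/
theorem lift_comap_mk_iff {B : Type*} [CommRing B] (K : Ideal B) :
    Lift (PrimeSpectrum.comap (Ideal.Quotient.mk K)) ↔
      Set.BijOn (Ideal.Quotient.mk K) {e : B | IsIdempotentElem e}
        {e : B ⧸ K | IsIdempotentElem e} := by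
  have hpre : ∀ e : B, PrimeSpectrum.comap (Ideal.Quotient.mk K) ⁻¹'
      (PrimeSpectrum.basicOpen e : Set (PrimeSpectrum B)) =
      (PrimeSpectrum.basicOpen (Ideal.Quotient.mk K e) : Set (PrimeSpectrum (B ⧸ K))) := by
    intro e
    rfl
  have hinj : ∀ {R : Type _} [CommRing R] (e e' : R), IsIdempotentElem e → IsIdempotentElem e' →
      (PrimeSpectrum.basicOpen e : Set (PrimeSpectrum R)) = PrimeSpectrum.basicOpen e' →
      e = e' := by
    intro R _ e e' he he' h
    exact PrimeSpectrum.basicOpen_injOn_isIdempotentElem he he' (SetLike.ext' h)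
  constructor
  · intro h
    refine ⟨fun e he => he.map _, ?_, ?_⟩
    · intro e he e' he' hee'
      have hV : IsClopen (PrimeSpectrum.basicOpen (Ideal.Quotient.mk K e) :
          Set (PrimeSpectrum (B ⧸ K))) :=
        PrimeSpectrum.isClopen_iff.2 ⟨_, he.map _, rfl⟩
      obtain ⟨U, -, hU3⟩ := h _ hV
      have h1 := hU3 _ ⟨PrimeSpectrum.isClopen_iff.2 ⟨e, he, rfl⟩, hpre e⟩
      have h2 := hU3 _ ⟨PrimeSpectrum.isClopen_iff.2 ⟨e', he', rfl⟩, by rw [hpre e', ← hee']⟩
      exact hinj e e' he he' (h1.trans h2.symm)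
    · intro ē hē
      have hV : IsClopen (PrimeSpectrum.basicOpen ē : Set (PrimeSpectrum (B ⧸ K))) :=
        PrimeSpectrum.isClopen_iff.2 ⟨_, hē, rfl⟩
      obtain ⟨U, ⟨hU1, hU2⟩, -⟩ := h _ hV
      obtain ⟨e, he, rfl⟩ := PrimeSpectrum.isClopen_iff.1 hU1
      refine ⟨e, he, ?_⟩
      rw [hpre] at hU2
      exact hinj _ _ (he.map _) hē hU2
  · intro h V hV
    obtain ⟨ē, hē, rfl⟩ := PrimeSpectrum.isClopen_iff.1 hV
    obtain ⟨e, he, rfl⟩ := h.surjOn hē
    refine ⟨PrimeSpectrum.basicOpen e, ⟨PrimeSpectrum.isClopen_iff.2 ⟨e, he, rfl⟩, hpre e⟩, ?_⟩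
    rintro U' ⟨hU1, hU2⟩
    obtain ⟨e', he', rfl⟩ := PrimeSpectrum.isClopen_iff.1 hU1
    rw [hpre] at hU2
    have := hinj _ _ (he'.map _) (he.map _) hU2
    rw [h.injOn he' he this]

end Groth.Agent.Helper8.ClopLift
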