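import Mathlib
import Groth.Agent.Helper8.ClopLift

set_option autoImplicit false
universe u
open CategoryTheory CategoryTheory.Limits AlgebraicGeometry Topology

namespace Groth.Agent.Helper8.ClopLiftSch

open Groth.Agent.Helper8.ClopLift

theorem isEmbedding_fst {X X₀ Y : Scheme.{u}} (g : Y ⟶ X) (i : X₀ ⟶ X) [IsClosedImmersion i] :
    IsEmbedding (pullback.fst g i).base :=
  (pullback.fst g i).isClosedEmbedding.isEmbedding

theorem range_fst {X X₀ Y : Scheme.{u}} (g : Y ⟶ X) (i : X₀ ⟶ X) :
    Set.range (pullback.fst g i).base = g.base ⁻¹' Set.range i.base :=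
  Scheme.Pullback.range_fst g i

/-- the lifting property only depends on `g` up to isomorphism of the source -/
theorem lift_of_iso {X X₀ Y Y' : Scheme.{u}} (g : Y ⟶ X) (g' : Y' ⟶ X) (e : Y ≅ Y')
    (he : e.hom ≫ g' = g) (i : X₀ ⟶ X) [IsClosedImmersion i]
    (h : Lift (pullback.fst g' i).base) : Lift (pullback.fst g i).base := by
  let hh : Y ≃ₜ Y' := Scheme.homeoOfIso e
  rw [← lift_homeomorph_comp_iff hh]
  refine lift_of_range_eq (hh.isEmbedding.comp (isEmbedding_fst g i))
    (pullback.fst g' i).continuous ?_ h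
  rw [Set.range_comp, range_fst, range_fst, ← he]
  ext y'
  constructor
  · intro hy'
    refine ⟨e.inv.base y', ?_, ?_⟩
    · simp only [Set.mem_preimage] at hy' ⊢
      have : (e.hom ≫ g').base (e.inv.base y') = g'.base y' := by
        rw [← Scheme.Hom.comp_apply, Iso.inv_hom_id_assoc]
      rw [this]
      exact hy'
    · show e.hom.base (e.inv.base y') = y'
      rw [← Scheme.Hom.comp_apply, Iso.inv_hom_id]
      rfl
  · rintro ⟨y, hy, rfl⟩
    exact hy

theorem lift_spec_iff (A : Type u) [CommRing A] (I : Ideal A) (S : CommRingCat.{u})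
    (φ : CommRingCat.of A ⟶ S) :
    Lift (pullback.fst (Spec.map φ)
      (Spec.map (CommRingCat.ofHom (Ideal.Quotient.mk I)))).base ↔
    Lift (PrimeSpectrum.comap (Ideal.Quotient.mk (I.map φ.hom))) := by
  haveI : IsClosedImmersion (Spec.map (CommRingCat.ofHom (Ideal.Quotient.mk I))) :=
    IsClosedImmersion.spec_of_surjective _ Ideal.Quotient.mk_surjective
  have hr : Set.range (pullback.fst (Spec.map φ)
      (Spec.map (CommRingCat.ofHom (Ideal.Quotient.mk I)))).base =
      Set.range (PrimeSpectrum.comap (Ideal.Quotient.mk (I.map φ.hom))) := by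
    rw [range_fst]
    have h1 : Set.range (Spec.map (CommRingCat.ofHom (Ideal.Quotient.mk I))).base =
        PrimeSpectrum.zeroLocus (I : Set A) := by
      have := _root_.range_comap_of_surjective (A ⧸ I) (Ideal.Quotient.mk I)
        Ideal.Quotient.mk_surjective
      rw [Ideal.mk_ker] at this
      exact this
    rw [h1, _root_.range_comap_of_surjective _ _ Ideal.Quotient.mk_surjective,
      Ideal.mk_ker]
    have h2 : (Spec.map φ).base ⁻¹' PrimeSpectrum.zeroLocus (I : Set A) =
        PrimeSpectrum.zeroLocus (φ.hom '' (I : Set A)) :=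
      PrimeSpectrum.preimage_comap_zeroLocus_aux φ.hom _
    rw [h2, Ideal.map, PrimeSpectrum.zeroLocus_span]
  have hemb : IsEmbedding (PrimeSpectrum.comap (Ideal.Quotient.mk (I.map φ.hom))) :=
    (PrimeSpectrum.isClosedEmbedding_comap_of_surjective _ _
      Ideal.Quotient.mk_surjective).isEmbedding
  constructor
  · exact lift_of_range_eq hemb (Scheme.Hom.continuous _) hr
  · exact lift_of_range_eq (isEmbedding_fst _ _) hemb.continuous hr.symm

/-- a morphism from an affine scheme to `Spec A` is `Spec` of a ring map, up to `isoSpec` -/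
theorem isoSpec_hom_comp_specMap {A : CommRingCat.{u}} {Y : Scheme.{u}} [IsAffine Y]
    (g : Y ⟶ Spec A) :
    Y.isoSpec.hom ≫ Spec.map ((Scheme.ΓSpecIso A).inv ≫ g.appTop) = g := by
  rw [Spec.map_comp, ← Category.assoc, Scheme.isoSpec_hom, ← Scheme.toSpecΓ_naturality,
    Category.assoc, toSpecΓ_SpecMap_ΓSpecIso_inv, Category.comp_id]

end Groth.Agent.Helper8.ClopLiftSch
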