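import Mathlib
import Groth.Agent.Helper8.ClopLiftSch

set_option autoImplicit false
universe u
open CategoryTheory CategoryTheory.Limits AlgebraicGeometry Topology

namespace Groth.Agent.Helper8.ClopSigma

open Groth.Agent.Helper8.ClopLift Groth.Agent.Helper8.ClopLiftSch

/-- A partition of the target into open pieces: if clopens lift over each piece, they lift. -/
theorem lift_of_partition {ι P Y : Type*} [TopologicalSpace P] [TopologicalSpace Y]
    (p : P → Y) (Yj : ι → Type*) (Pj : ι → Type*)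
    [∀ j, TopologicalSpace (Yj j)] [∀ j, TopologicalSpace (Pj j)]
    (u : ∀ j, Yj j → Y) (hu : ∀ j, IsOpenEmbedding (u j))
    (hcov : ∀ y : Y, ∃ j, y ∈ Set.range (u j))
    (hdisj : ∀ j k (a : Yj j) (b : Yj k), u j a = u k b → j = k)
    (pj : ∀ j, Pj j → Yj j) (w : ∀ j, Pj j → P) (hw : ∀ j, Continuous (w j))
    (hcomm : ∀ j z, p (w j z) = u j (pj j z))
    (hcart : ∀ j (x : P) (y : Yj j), p x = u j y → ∃ z : Pj j, w j z = x ∧ pj j z = y)
    (h : ∀ j, Lift (pj j)) : Lift p := by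
  intro V hV
  have hVj : ∀ j, IsClopen (w j ⁻¹' V) := fun j => hV.preimage (hw j)
  choose Uj hUj hUj' using fun j => h j _ (hVj j)
  -- membership in the union is decided on the unique piece
  have hmem : ∀ (j : ι) (a : Yj j) (S : ∀ j, Set (Yj j)),
      u j a ∈ ⋃ k, u k '' S k ↔ a ∈ S j := by
    intro j a S
    constructor
    · intro ha
      obtain ⟨k, b, hb, hba⟩ := Set.mem_iUnion.1 ha
      obtain rfl := hdisj k j b a hba
      obtain rfl := (hu k).injective hba
      exact hb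
    · intro ha
      exact Set.mem_iUnion.2 ⟨j, a, ha, rfl⟩
  have hopen : ∀ S : ∀ j, Set (Yj j), (∀ j, IsOpen (S j)) → IsOpen (⋃ k, u k '' S k) :=
    fun S hS => isOpen_iUnion fun k => (hu k).isOpenMap _ (hS k)
  have hcompl : ∀ S : ∀ j, Set (Yj j), (⋃ k, u k '' S k)ᶜ = ⋃ k, u k '' (S k)ᶜ := by
    intro S
    ext y
    obtain ⟨j, a, rfl⟩ := hcov y
    rw [Set.mem_compl_iff, hmem j a S, hmem j a (fun k => (S k)ᶜ)]
    rfl
  refine ⟨⋃ k, u k '' Uj k, ⟨⟨?_, hopen _ fun j => (hUj j).1.2⟩, ?_⟩, ?_⟩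
  · rw [← isOpen_compl_iff, hcompl]
    exact hopen _ fun j => (hUj j).1.1.isOpen_compl
  · ext x
    obtain ⟨j, a, ha⟩ := hcov (p x)
    obtain ⟨z, rfl, rfl⟩ := hcart j x a ha.symm
    rw [Set.mem_preimage, hcomm, hmem j _ Uj]
    have : z ∈ pj j ⁻¹' Uj j ↔ z ∈ w j ⁻¹' V := by rw [(hUj j).2]
    exact this
  · rintro U' ⟨hU'1, hU'2⟩
    have hU'j : ∀ j, u j ⁻¹' U' = Uj j := by
      intro j
      refine hUj' j _ ⟨hU'1.preimage (hu j).continuous, ?_⟩
      rw [← hU'2]
      ext z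
      simp only [Set.mem_preimage, hcomm]
    ext y
    obtain ⟨j, a, rfl⟩ := hcov y
    rw [hmem j a Uj, ← hU'j j]
    rfl

section sigma

variable {ι : Type u} (X X₀ : ι → Scheme.{u}) (i : ∀ j, X₀ j ⟶ X j)

theorem exists_sigmaι_eq (x : ↥(∐ X)) : ∃ (j : ι) (y : X j), (Sigma.ι X j).base y = x := by
  obtain ⟨⟨j, y⟩, rfl⟩ := (sigmaMk X).surjective x
  exact ⟨j, y, (sigmaMk_mk X j y).symm⟩

theorem sigmaι_eq (j k : ι) (x : X j) (y : X k)
    (h : (Sigma.ι X j).base x = (Sigma.ι X k).base y) : j = k := by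
  have := (sigmaι_eq_iff X j k x y).1 h
  exact congrArg _root_.Sigma.fst this

theorem sigmaMap_sigmaι (j : ι) (z : X₀ j) :
    (Limits.Sigma.map i).base ((Sigma.ι X₀ j).base z) = (Sigma.ι X j).base ((i j).base z) := by
  rw [← Scheme.Hom.comp_apply, ← Scheme.Hom.comp_apply, Limits.Sigma.ι_map]

theorem preimage_range_sigmaMap (j : ι) :
    (Sigma.ι X j).base ⁻¹' Set.range (Limits.Sigma.map i).base = Set.range (i j).base := by
  ext x
  constructor
  · rintro ⟨z, hz⟩
    obtain ⟨k, z', rfl⟩ := exists_sigmaι_eq X₀ z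
    rw [sigmaMap_sigmaι] at hz
    obtain rfl := sigmaι_eq X k j _ _ hz
    exact ⟨z', (Sigma.ι X k).isOpenEmbedding.injective hz⟩
  · rintro ⟨z', rfl⟩
    exact ⟨(Sigma.ι X₀ j).base z', sigmaMap_sigmaι X X₀ i j z'⟩

theorem isPullback_sigma (j : ι) :
    IsPullback (i j) (Sigma.ι X₀ j) (Sigma.ι X j) (Limits.Sigma.map i) := by
  refine IsOpenImmersion.isPullback _ _ _ _ (by simp) ?_
  ext z
  obtain ⟨k, z', rfl⟩ := exists_sigmaι_eq X₀ z
  constructor
  · rintro ⟨x, hx⟩
    have hx' : (Sigma.ι X j).base x = (Limits.Sigma.map i).base ((Sigma.ι X₀ k).base z') := hx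
    rw [sigmaMap_sigmaι] at hx'
    obtain rfl := sigmaι_eq X j k _ _ hx'
    exact ⟨z', rfl⟩
  · rintro ⟨z'', hz''⟩
    have hz3 : (Sigma.ι X₀ j).base z'' = (Sigma.ι X₀ k).base z' := hz''
    obtain rfl := sigmaι_eq X₀ j k _ _ hz3
    refine ⟨(i j).base z', ?_⟩
    exact (sigmaMap_sigmaι X X₀ i j z').symm

theorem isClosedImmersion_sigmaMap [∀ j, IsClosedImmersion (i j)] :
    IsClosedImmersion (Limits.Sigma.map i) := by
  apply IsZariskiLocalAtTarget.of_openCover (P := @IsClosedImmersion) (sigmaOpenCover X)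
  intro j
  have hpb : IsPullback (Sigma.ι X₀ j) (i j) (Limits.Sigma.map i) (Sigma.ι X j) :=
    (isPullback_sigma X X₀ i j).flip
  have h1 : hpb.isoPullback.hom ≫ pullback.snd (Limits.Sigma.map i) (Sigma.ι X j) = i j :=
    hpb.isoPullback_hom_snd
  have h2 : IsClosedImmersion
      (hpb.isoPullback.hom ≫ pullback.snd (Limits.Sigma.map i) (Sigma.ι X j)) := by
    rw [h1]; infer_instance
  exact (MorphismProperty.cancel_left_of_respectsIso @IsClosedImmersion hpb.isoPullback.hom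
    (pullback.snd (Limits.Sigma.map i) (Sigma.ι X j))).1 h2

theorem isClosedImmersion_sigmaι (j : ι) : IsClosedImmersion (Sigma.ι X j) := by
  apply IsClosedImmersion.of_isPreimmersion
  rw [← isOpen_compl_iff]
  have : (Set.range (Sigma.ι X j).base)ᶜ =
      ⋃ k : {k : ι // k ≠ j}, Set.range (Sigma.ι X k.1).base := by
    ext x
    obtain ⟨k, y, rfl⟩ := exists_sigmaι_eq X x
    simp only [Set.mem_compl_iff, Set.mem_range, Set.mem_iUnion, Subtype.exists, exists_prop]
    constructor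
    · intro h
      refine ⟨k, ?_, y, rfl⟩
      rintro rfl
      exact h ⟨y, rfl⟩
    · rintro ⟨k', hk', y', hy'⟩ ⟨y'', hy''⟩
      have h1 := sigmaι_eq X k' k _ _ hy'
      have h2 := sigmaι_eq X j k _ _ hy''
      exact hk' (h1.trans h2.symm)
  show IsOpen (Set.range (Sigma.ι X j).base)ᶜ
  rw [this]
  exact isOpen_iUnion fun k => (Sigma.ι X k.1).isOpenEmbedding.isOpen_range

end sigma

end Groth.Agent.Helper8.ClopSigma
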