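import Groth.Agent.Helper1.UF5
import Groth.Agent.Lead.BCMap2

/-!
# The degree-zero base change map of the structure sheaf to a fibre, in terms of functions

The map `(f_* O_X)(s) → Γ(X_s, O)` is an epimorphism as soon as `Γ(X_s, O)` is additively
generated by the products `c · t|_{X_s}` with `c ∈ κ(s)` and `t` a function on `f⁻¹(V)`, `V ∋ s`.
-/

set_option autoImplicit false
set_option linter.style.haveILetI false
set_option linter.unusedSectionVars false
set_option linter.unusedVariables false

universe u

namespace Groth.Agent.Helper8.Stein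

open CategoryTheory AlgebraicGeometry Opposite TopologicalSpace
  AlgebraicGeometry.Scheme.Modules
open Groth.Agent.Lead.BCMap Groth.Agent.Helper4.PullUnit Groth.Agent.Helper1.ZarIso
  Groth.Agent.Helper1.UF

/-- `g^* O ≅ O` on pulled back sections -/
theorem pullbackUnitIso_pbSec {W V : Scheme.{u}} (g : W ⟶ V) (U : V.Opens) (U' : W.Opens)
    (e : U' ≤ g ⁻¹ᵁ U) (a : Γ(V, U)) :
    (pullbackUnitIso g).hom.app U'
      (pbSec g (Coh.structureModule V) U U' e (show Γ(Coh.structureModule V, U) from a)) =
      (show Γ(Coh.structureModule W, U') from (g.appLE U U' e).hom a) := by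
  have h1 := homEquiv_app g (Coh.structureModule V) (pullbackUnitIso g).hom U U' e
    (show Γ(Coh.structureModule V, U) from a)
  have h2 : (Scheme.Modules.pullbackPushforwardAdjunction g).homEquiv _ _ (pullbackUnitIso g).hom =
      unitToPush g :=
    SheafOfModules.pullbackPushforwardAdjunction_homEquiv_pullbackObjUnitToUnit _
  rw [h2] at h1
  rw [← h1, unitToPush_app]
  rfl

variable {X S : Scheme.{u}} (f : X ⟶ S) (s : S)

theorem fiber_le (V : S.Opens) (hsV : s ∈ V) :
    (⊤ : (f.fiber s).Opens) ≤ (f.fiberι s) ⁻¹ᵁ (f ⁻¹ᵁ V) := by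
  intro x _
  show f (f.fiberι s x) ∈ V
  have h1 : f.fiberι s x ∈ f ⁻¹' {s} := by
    rw [← f.range_fiberι s]
    exact ⟨x, rfl⟩
  have h2 : f (f.fiberι s x) = s := h1
  rw [h2]
  exact hsV

/-- the functions `c · t|_{X_s}` on the fibre, for `c ∈ κ(s)` and `t` a function on a
neighbourhood of the fibre -/
def fibGen : Set Γ(f.fiber s, ⊤) :=
  {x | ∃ (c : Γ(Spec (S.residueField s), ⊤)) (V : S.Opens) (hsV : s ∈ V) (t : Γ(X, f ⁻¹ᵁ V)),
    x = (f.fiberToSpecResidueField s).appTop.hom c *
      ((f.fiberι s).appLE (f ⁻¹ᵁ V) ⊤ (fiber_le f s V hsV)).hom t}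

set_option maxHeartbeats 1600000 in
/-- if the functions on the fibre are generated by restrictions of functions near the fibre, then
the degree zero base change map to the fibre is an epimorphism -/
theorem epi_bc0_of_fibGen [QuasiCompact f] [QuasiSeparated f]
    (h : ∀ m : Γ(f.fiber s, ⊤), m ∈ AddSubgroup.closure (fibGen f s)) :
    Epi (CohBC.bc0 f (S.fromSpecResidueField s) (f.fiberToSpecResidueField s) (f.fiberι s)
      (f.fiber_fac s) (Coh.structureModule X)) := by
  haveI := isQuasicoherent_unit X
  haveI := isQuasicoherent_unit (f.fiber s)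
  haveI : QuasiCompact (f.fiberToSpecResidueField s) :=
    MorphismProperty.pullback_snd (P := @QuasiCompact) f (S.fromSpecResidueField s) inferInstance
  haveI : QuasiSeparated (f.fiberToSpecResidueField s) :=
    MorphismProperty.pullback_snd (P := @QuasiSeparated) f (S.fromSpecResidueField s)
      inferInstance
  set bc := CohBC.bc0 f (S.fromSpecResidueField s) (f.fiberToSpecResidueField s) (f.fiberι s)
      (f.fiber_fac s) (Coh.structureModule X) with hbc
  let b : (pushforward (f.fiberToSpecResidueField s)).obj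
      ((pullback (f.fiberι s)).obj (Coh.structureModule X)) ⟶
      (pushforward (f.fiberToSpecResidueField s)).obj (Coh.structureModule (f.fiber s)) :=
    (pushforward (f.fiberToSpecResidueField s)).map (pullbackUnitIso (f.fiberι s)).hom
  haveI : IsIso b := by
    dsimp only [b]
    infer_instance
  haveI qT : ((pushforward (f.fiberToSpecResidueField s)).obj
      (Coh.structureModule (f.fiber s))).IsQuasicoherent :=
    Groth.Agent.Helper4.QcohGlue.isQuasicoherent_pushforward _ _
  set φ := bc ≫ b with hφdef
  have key : ∀ x : Γ(f.fiber s, ⊤), x ∈ AddSubgroup.closure (fibGen f s) →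
      ∃ n, φ.app ⊤ n = (show Γ((pushforward (f.fiberToSpecResidueField s)).obj
        (Coh.structureModule (f.fiber s)), ⊤) from x) := by
    intro x hx
    induction hx using AddSubgroup.closure_induction with
    | mem x hx =>
      obtain ⟨c, V, hsV, t, rfl⟩ := hx
      have e : (⊤ : (Spec (S.residueField s)).Opens) ≤ (S.fromSpecResidueField s) ⁻¹ᵁ V := by
        intro z _
        show S.fromSpecResidueField s z ∈ V
        rw [Scheme.fromSpecResidueField_apply]
        exact hsV
      let n0 := pbSec (S.fromSpecResidueField s) ((pushforward f).obj (Coh.structureModule X))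
        V ⊤ e (show Γ((pushforward f).obj (Coh.structureModule X), V) from t)
      refine ⟨c • n0, ?_⟩
      have h2 := Scheme.Modules.Hom.app_smul φ c n0
      refine h2.trans ?_
      have h3 : φ.app ⊤ n0 = (show Γ((pushforward (f.fiberToSpecResidueField s)).obj
          (Coh.structureModule (f.fiber s)), ⊤) from
          ((f.fiberι s).appLE (f ⁻¹ᵁ V) ⊤ (fiber_le f s V hsV)).hom t) := by
        show b.app ⊤ (bc.app ⊤ n0) = _
        have h4 : bc.app ⊤ n0 = pbSec (f.fiberι s) (Coh.structureModule X) (f ⁻¹ᵁ V)
            ((f.fiberToSpecResidueField s) ⁻¹ᵁ ⊤)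
            (preimage_le f (S.fromSpecResidueField s) (f.fiberι s)
              (f.fiberToSpecResidueField s) (f.fiber_fac s) V ⊤ e)
            (show Γ(Coh.structureModule X, f ⁻¹ᵁ V) from t) :=
          bcMap_pbSec f (S.fromSpecResidueField s) (f.fiberι s) (f.fiberToSpecResidueField s)
            (f.fiber_fac s) (Coh.structureModule X) V ⊤ e t
        rw [h4]
        exact pullbackUnitIso_pbSec (f.fiberι s) (f ⁻¹ᵁ V) _ _ t
      rw [h3]
      rfl
    | zero => exact ⟨0, map_zero _⟩
    | add x y _ _ hx hy =>
      obtain ⟨n₁, h₁⟩ := hx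
      obtain ⟨n₂, h₂⟩ := hy
      refine ⟨n₁ + n₂, ?_⟩
      rw [map_add, h₁, h₂]
      rfl
    | neg x _ hx =>
      obtain ⟨n, hn⟩ := hx
      refine ⟨-n, ?_⟩
      rw [map_neg, hn]
      rfl
  have hsurj : Function.Surjective (φ.app ⊤) := fun m => key m (h m)
  haveI : Epi φ := by
    apply Groth.Agent.Helper4.QcohLocal.epi_of_app_surjective_of_affine_cover
    intro x
    exact ⟨⊤, isAffineOpen_top _, trivial, hsurj⟩
  have : bc = φ ≫ inv b := by
    rw [hφdef]
    simp
  rw [this]
  infer_instance

end Groth.Agent.Helper8.Stein
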