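import Mathlib
import Groth.Prelude.Def_SpSeq

set_option autoImplicit false

namespace Groth.Agent.Helper8.SpSeqOne

open CategoryTheory Limits

universe v u

variable {C : Type u} [Category.{v} C] [Abelian C]

section Fil

variable {X : C}

lemma le_of_isZero_cokernel_ofLE (B Z : Subobject X) (h : B ≤ Z)
    (hz : IsZero (cokernel (B.ofLE Z h))) : Z ≤ B := by
  haveI : Epi (B.ofLE Z h) := Preadditive.epi_of_isZero_cokernel _ hz
  haveI : IsIso (B.ofLE Z h) := isIso_of_mono_of_epi _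
  refine Subobject.le_of_comm (inv (B.ofLE Z h)) ?_
  rw [IsIso.inv_comp_eq, Subobject.ofLE_arrow]

lemma iso_cokernel_of_bot_top (B Z : Subobject X) (h : B ≤ Z) (hB : B = ⊥) (hZ : Z = ⊤) :
    Nonempty (X ≅ cokernel (B.ofLE Z h)) := by
  subst hB
  subst hZ
  have h0 : (⊥ : Subobject X).ofLE ⊤ h = 0 :=
    (IsZero.of_iso (isZero_zero C) Subobject.botCoeIsoZero).eq_of_src _ _
  exact ⟨(asIso (⊤ : Subobject X).arrow).symm ≪≫ cokernelZeroIsoTarget.symm ≪≫
    (cokernelIsoOfEq h0).symm⟩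

theorem fil_single (F : ℤ → Subobject X) (hF : Antitone F) (p₀ : ℤ)
    (hz : ∀ p, p ≠ p₀ → IsZero (SpSeq.grPiece F hF p))
    (hdisc : ∃ b : ℤ, F b = ⊥) (hexh : IsLUB (Set.range F) ⊤) :
    Nonempty (X ≅ SpSeq.grPiece F hF p₀) := by
  have h3a : ∀ p, p ≠ p₀ → F p ≤ F (p + 1) := fun p hp =>
    le_of_isZero_cokernel_ofLE _ _ _ (hz p hp)
  obtain ⟨b, hb⟩ := hdisc
  have h3b : ∀ (k : ℕ) (p : ℤ), p₀ < p → b ≤ p + k → F p = ⊥ := by
    intro k
    induction k with
    | zero =>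
      intro p _ hp
      have := hF (show b ≤ p by simpa using hp)
      rw [hb] at this
      exact le_bot_iff.1 this
    | succ k ih =>
      intro p hp hpk
      have h1 := h3a p (by omega)
      rw [ih (p + 1) (by omega) (by push_cast at hpk ⊢; omega)] at h1
      exact le_bot_iff.1 h1
  have h3c : ∀ (k : ℕ) (p : ℤ), p + k = p₀ → F p ≤ F p₀ := by
    intro k
    induction k with
    | zero =>
      intro p hp
      have : p = p₀ := by simpa using hp
      rw [this]
    | succ k ih =>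
      intro p hp
      exact (h3a p (by push_cast at hp; omega)).trans
        (ih (p + 1) (by push_cast at hp ⊢; omega))
  have h3d : F p₀ = ⊤ := by
    apply top_le_iff.1
    apply hexh.2
    rintro _ ⟨p, rfl⟩
    rcases le_total p₀ p with h | h
    · exact hF h
    · exact h3c (p₀ - p).toNat p (by omega)
  have h3e : F (p₀ + 1) = ⊥ := h3b (b - (p₀ + 1)).toNat (p₀ + 1) (by omega) (by omega)
  exact iso_cokernel_of_bot_top _ _ _ h3e h3d

end Fil

section SS

variable {r₀ : ℤ} (E : CohomologicalSpectralSequence C r₀)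

lemma isZero_page_of_le (pq : ℤ × ℤ) (r : ℤ) (hr : r₀ ≤ r)
    (h : IsZero ((E.page r hr).X pq)) :
    ∀ (r' : ℤ) (hr' : r₀ ≤ r'), r ≤ r' → IsZero ((E.page r' hr').X pq) := by
  intro r' hr' hle
  induction r', hle using Int.le_induction with
  | base => exact h
  | succ k hk ih =>
    have hk' : r₀ ≤ k := hr.trans hk
    have h1 : IsZero ((E.page k hk').homology pq) := by
      have hex : ((E.page k hk').sc pq).Exact :=
        ShortComplex.exact_of_isZero_X₂ _ (ih hk')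
      exact (ShortComplex.exact_iff_isZero_homology _).1 hex
    exact IsZero.of_iso h1 (E.iso k (k + 1) pq rfl hk').symm

lemma iso_of_stationary (pq : ℤ × ℤ) (r₁ : ℤ) (h : SpSeq.StationaryAt E pq r₁) :
    ∀ (r' : ℤ) (hr' : r₀ ≤ r'), r₁ ≤ r' →
      Nonempty ((E.page r' hr').X pq ≅ (E.page r₁ h.1).X pq) := by
  intro r' hr' hle
  induction r', hle using Int.le_induction with
  | base => exact ⟨Iso.refl _⟩
  | succ k hk ih =>
    have hk' : r₀ ≤ k := h.1.trans hk
    obtain ⟨e⟩ := ih hk'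
    obtain ⟨h1, h2⟩ := h.2 k hk' hk
    have hf : ((E.page k hk').sc pq).f = 0 := by
      show (E.page k hk').d ((ComplexShape.up' (⟨k, 1 - k⟩ : ℤ × ℤ)).prev pq) pq = 0
      rw [(ComplexShape.up' (⟨k, 1 - k⟩ : ℤ × ℤ)).prev_eq'
        (show (ComplexShape.up' (⟨k, 1 - k⟩ : ℤ × ℤ)).Rel (pq - (k, 1 - k)) pq from
          sub_add_cancel pq (k, 1 - k))]
      exact h1
    have hg : ((E.page k hk').sc pq).g = 0 := by
      show (E.page k hk').d pq ((ComplexShape.up' (⟨k, 1 - k⟩ : ℤ × ℤ)).next pq) = 0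
      rw [(ComplexShape.up' (⟨k, 1 - k⟩ : ℤ × ℤ)).next_eq' (j := pq + (k, 1 - k)) rfl]
      exact h2
    have e2 : (E.page k hk').homology pq ≅ (E.page k hk').X pq :=
      (ShortComplex.LeftHomologyData.ofZeros _ hf hg).homologyIso
    exact ⟨(E.iso k (k + 1) pq rfl hk').symm ≪≫ e2 ≪≫ e⟩

variable {E} {H : ℤ → C} (a : SpSeq.Abutment E H)

noncomputable def β' (pq : ℤ × ℤ) (m : ℤ) (hm : pq.1 + pq.2 = m) :
    (E.page (a.rk pq) (a.stat pq).1).X pq ≅ SpSeq.grPiece (a.fil m) (a.anti m) pq.1 := by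
  subst hm
  exact a.β pq

theorem main {C : Type u} [Category.{v} C] [Abelian C] {r₀ : ℤ}
    (E : CohomologicalSpectralSequence C r₀) {H : ℤ → C} (a : SpSeq.Abutment E H)
    (r : ℤ) (hr : r₀ ≤ r) (q : ℤ → ℤ)
    (hdeg : ∀ m q' : ℤ, q' ≠ q m → IsZero ((E.page r hr).X (m - q', q')))
    (n : ℤ) (hdisc : (a.filObj n).IsDiscrete) (hexh : a.IsExhaustive n)
    (hst : SpSeq.StationaryAt E (n - q n, q n) r) :
    Nonempty (H n ≅ (E.page r hr).X (n - q n, q n)) := by
  have hz : ∀ pq : ℤ × ℤ, pq.1 + pq.2 = n → pq.2 ≠ q n → IsZero ((E.page r hr).X pq) := by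
    rintro ⟨p, q'⟩ hpq hq
    obtain rfl : p = n - q' := by
      simp only at hpq
      omega
    exact hdeg n q' hq
  have hzrk : ∀ pq : ℤ × ℤ, pq.1 + pq.2 = n → pq.2 ≠ q n →
      IsZero ((E.page (a.rk pq) (a.stat pq).1).X pq) := by
    intro pq hpq hq
    rcases le_total r (a.rk pq) with h | h
    · exact isZero_page_of_le E pq r hr (hz pq hpq hq) _ _ h
    · obtain ⟨e⟩ := iso_of_stationary E pq (a.rk pq) (a.stat pq) r hr h
      exact IsZero.of_iso (hz pq hpq hq) e.symm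
  have hgr : ∀ p, p ≠ n - q n → IsZero (SpSeq.grPiece (a.fil n) (a.anti n) p) := by
    intro p hp
    have h1 := hzrk (p, n - p) (by simp) (by simp only; omega)
    exact IsZero.of_iso h1 (β' a (p, n - p) n (by simp)).symm
  obtain ⟨e1⟩ := fil_single (a.fil n) (a.anti n) (n - q n) hgr hdisc hexh
  have e2 := β' a (n - q n, q n) n (by simp)
  have e3 : Nonempty ((E.page (a.rk (n - q n, q n)) (a.stat _).1).X (n - q n, q n) ≅
      (E.page r hr).X (n - q n, q n)) := by
    rcases le_total r (a.rk (n - q n, q n)) with h | h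
    · exact iso_of_stationary E _ r hst _ _ h
    · obtain ⟨e⟩ := iso_of_stationary E _ _ (a.stat (n - q n, q n)) r hr h
      exact ⟨e.symm⟩
  obtain ⟨e3⟩ := e3
  exact ⟨e1 ≪≫ e2.symm ≪≫ e3⟩

end SS

end Groth.Agent.Helper8.SpSeqOne
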