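import Mathlib

set_option autoImplicit false
universe u

namespace Groth.Agent.Helper8.Unibr

open IsLocalRing

/-- abstract form of the going-down argument -/
theorem lemmaG (A₀ A' B B'' : Type*) [CommRing A₀] [CommRing A'] [IsDomain A'] [IsLocalRing A']
    [IsIntegrallyClosed A'] [CommRing B] [CommRing B''] [IsDomain B'']
    [Algebra A₀ A'] [Algebra A₀ B] [Algebra A₀ B''] [Algebra A' B''] [Algebra B B'']
    [IsScalarTower A₀ A' B''] [IsScalarTower A₀ B B'']
    [Algebra.IsIntegral A₀ A'] [FaithfulSMul A₀ A']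
    [Algebra.IsIntegral A' B''] [FaithfulSMul A' B'']
    [Algebra.IsIntegral B B''] [FaithfulSMul B B'']
    (n : Ideal B) [n.IsPrime] (hn : (n.comap (algebraMap A₀ B)).IsMaximal)
    (p : Ideal A₀) [p.IsPrime] :
    ∃ q : Ideal B, q.IsPrime ∧ q ≤ n ∧ q.comap (algebraMap A₀ B) = p := by
  -- prime of B'' over n
  obtain ⟨n'', -, hn''p, hn''⟩ := Ideal.exists_ideal_over_prime_of_isIntegral n (⊥ : Ideal B'')
    (by
      rw [← RingHom.ker_eq_comap_bot,
        (RingHom.injective_iff_ker_eq_bot _).mp (FaithfulSMul.algebraMap_injective B B'')]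
      exact bot_le)
  -- its contraction to A' is the maximal ideal
  have hm'' : n''.comap (algebraMap A' B'') = maximalIdeal A' := by
    have hprime : (n''.comap (algebraMap A' B'')).IsPrime := Ideal.comap_isPrime _ _
    have hmax : ((n''.comap (algebraMap A' B'')).comap (algebraMap A₀ A')).IsMaximal := by
      rw [Ideal.comap_comap, ← IsScalarTower.algebraMap_eq,
        IsScalarTower.algebraMap_eq A₀ B B'', ← Ideal.comap_comap, hn'']
      exact hn
    have := Ideal.isMaximal_of_isIntegral_of_isMaximal_comap (R := A₀) _ hmax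
    exact IsLocalRing.eq_maximalIdeal this
  -- prime of A' over p
  obtain ⟨p', -, hp'p, hp'⟩ := Ideal.exists_ideal_over_prime_of_isIntegral p (⊥ : Ideal A')
    (by
      rw [← RingHom.ker_eq_comap_bot,
        (RingHom.injective_iff_ker_eq_bot _).mp (FaithfulSMul.algebraMap_injective A₀ A')]
      exact bot_le)
  have hle : p' ≤ n''.under A' := by
    rw [Ideal.under_def, hm'']
    exact IsLocalRing.le_maximalIdeal hp'p.ne_top
  obtain ⟨q'', hq''le, hq''p, hq''⟩ := Ideal.exists_ideal_le_liesOver_of_le (p := p') n'' hle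
  refine ⟨q''.comap (algebraMap B B''), Ideal.comap_isPrime _ _, ?_, ?_⟩
  · rw [← hn'']
    exact Ideal.comap_mono hq''le
  · have h1 : q''.comap (algebraMap A' B'') = p' := hq''.over.symm
    rw [Ideal.comap_comap, ← IsScalarTower.algebraMap_eq,
      IsScalarTower.algebraMap_eq A₀ A' B'', ← Ideal.comap_comap, h1, hp']

end Groth.Agent.Helper8.Unibr
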