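import Mathlib
import Groth.Agent.Helper8.Unibr1

set_option autoImplicit false
universe u

namespace Groth.Agent.Helper8.Unibr

open IsLocalRing

/-- version over a domain `R` whose normalization is local -/
theorem lemmaH (R : Type*) [CommRing R] [IsDomain R] (K : Type*) [Field K] [Algebra R K]
    [IsFractionRing R K] (hloc : IsLocalRing (integralClosure R K))
    (B : Type*) [CommRing B] [IsDomain B] [Algebra R B]
    (hinj : Function.Injective (algebraMap R B)) [Algebra.IsIntegral R B] (n : Ideal B) [n.IsPrime]
    (hn : (n.comap (algebraMap R B)).IsMaximal) (p : Ideal R) [p.IsPrime] :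
    ∃ q : Ideal B, q.IsPrime ∧ q ≤ n ∧ q.comap (algebraMap R B) = p := by
  let A' := integralClosure R K
  let L := FractionRing B
  let B'' := integralClosure B L
  haveI : FaithfulSMul R B := (faithfulSMul_iff_algebraMap_injective R B).mpr hinj
  -- A' is integrally closed
  haveI : IsFractionRing A' K := integralClosure.isFractionRing_of_finite_extension K K
  haveI : IsIntegrallyClosed A' := (isIntegrallyClosed_iff_isIntegrallyClosedIn K).mpr inferInstance
  -- the field map K → L
  let g : R →+* L := algebraMap R L
  have hg : Function.Injective g := by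
    have : g = (algebraMap B L).comp (algebraMap R B) := IsScalarTower.algebraMap_eq R B L
    rw [this]
    exact (IsFractionRing.injective B L).comp hinj
  let φ : K →+* L := IsFractionRing.lift hg
  have hφ : ∀ r : R, φ (algebraMap R K r) = algebraMap R L r := fun r => IsFractionRing.lift_algebraMap hg r
  -- the map A' → B''
  have hmem : ∀ x : A', φ (x : K) ∈ B'' := by
    intro x
    have hx : IsIntegral R (x : K) := x.2
    have h1 : IsIntegral R (φ (x : K)) := by
      let φa : K →ₐ[R] L := { φ with commutes' := hφ }
      exact hx.map φa
    exact h1.tower_top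
  let ψ : A' →+* B'' := (φ.comp A'.val.toRingHom).codRestrict B''.toSubring hmem
  letI : Algebra A' B'' := ψ.toAlgebra
  have hψ : ∀ x : A', ((algebraMap A' B'' x : B'') : L) = φ (x : K) := fun x => rfl
  haveI : IsScalarTower R A' B'' := by
    apply IsScalarTower.of_algebraMap_eq
    intro r
    apply Subtype.ext
    rw [hψ]
    show _ = φ (algebraMap R K r)
    rw [hφ]
    rfl
  haveI : FaithfulSMul A' B'' := by
    rw [faithfulSMul_iff_algebraMap_injective]
    intro x y hxy
    have := congrArg (fun z : B'' => (z : L)) hxy
    simp only [hψ] at this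
    exact Subtype.ext (φ.injective this)
  haveI : Algebra.IsIntegral R B'' := Algebra.IsIntegral.trans B
  haveI : Algebra.IsIntegral A' B'' := Algebra.IsIntegral.tower_top (R := R)
  exact lemmaG R A' B B'' n hn p

end Groth.Agent.Helper8.Unibr
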