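import Mathlib
import Groth.Prelude.Def_CAlg
import Groth.Agent.Helper7.CMOpenC
import Groth.Agent.Helper2.FlatAscent

/-!
# Cohen–Macaulayness of a cone can be tested at the vertex

For an ideal of a polynomial ring over an infinite field which is stable under the scalings of the
variables, the quotient is Cohen–Macaulay as soon as its localization at the origin is.
The proof uses the openness of the Cohen–Macaulay locus and the torus action.
-/

set_option autoImplicit false

universe u

open MvPolynomial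

namespace Groth.Agent.Helper8.GrLG

/-! ### Transport of the Cohen–Macaulay property along ring isomorphisms -/

section transport

theorem cmLocal_of_ringEquiv {A A' : Type u} [CommRing A] [CommRing A'] (e : A ≃+* A')
    (h : LocCoh.IsCohenMacaulayLocalRing A) : LocCoh.IsCohenMacaulayLocalRing A' := by
  haveI : IsNoetherianRing A := h.toIsNoetherian
  haveI : IsLocalRing A := h.toIsLocalRing
  haveI : IsNoetherianRing A' := isNoetherianRing_of_ringEquiv A e
  haveI : IsLocalRing A' := e.isLocalRing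
  refine { supportDim_eq_depth := ?_ }
  have h1 := h.supportDim_eq_depth
  rw [Module.supportDim_self_eq_ringKrullDim] at h1 ⊢
  rw [← ringKrullDim_eq_of_ringEquiv e, h1,
    Groth.Agent.Helper2.FlatAscent.depth_eq_of_ringEquiv e]

theorem cmLocal_comap {R R' : Type u} [CommRing R] [CommRing R'] (e : R ≃+* R')
    (q : Ideal R') [q.IsPrime]
    (h : LocCoh.IsCohenMacaulayLocalRing (Localization.AtPrime (q.comap (e : R →+* R')))) :
    LocCoh.IsCohenMacaulayLocalRing (Localization.AtPrime q) := by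
  have H : (q.comap (e : R →+* R')).primeCompl.map e.toMonoidHom = q.primeCompl := by
    ext x
    constructor
    · rintro ⟨y, hy, rfl⟩
      exact hy
    · intro hx
      refine ⟨e.symm x, ?_, e.apply_symm_apply x⟩
      show e.symm x ∉ q.comap (e : R →+* R')
      rw [Ideal.mem_comap]
      show ¬ e (e.symm x) ∈ q
      rw [e.apply_symm_apply]
      exact hx
  exact cmLocal_of_ringEquiv
    (IsLocalization.ringEquivOfRingEquiv (Localization.AtPrime (q.comap (e : R →+* R')))
      (Localization.AtPrime q) e H) h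

end transport

/-! ### Scaling the variables -/

section scale

variable {K : Type u} [Field K] {σ : Type*}

/-- Scaling all the variables by a constant. -/
noncomputable def scale (l : K) : MvPolynomial σ K →ₐ[K] MvPolynomial σ K :=
  aeval (fun i => C l * X i)

lemma scale_monomial (l : K) (s : σ →₀ ℕ) (c : K) :
    scale l (monomial s c) = monomial s (l ^ s.degree * c) := by
  unfold scale
  rw [aeval_monomial, monomial_eq (a := l ^ s.degree * c)]
  have h1 : (s.prod fun i k => (C l * X i : MvPolynomial σ K) ^ k) =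
      C (l ^ s.degree) * s.prod fun i k => (X i : MvPolynomial σ K) ^ k := by
    unfold Finsupp.prod
    simp_rw [mul_pow]
    rw [Finset.prod_mul_distrib, Finset.prod_pow_eq_pow_sum, Finsupp.degree_apply, C_pow]
  rw [h1, algebraMap_eq, C_mul]
  ring

lemma coeff_scale (l : K) (f : MvPolynomial σ K) (d : σ →₀ ℕ) :
    coeff d (scale l f) = l ^ d.degree * coeff d f := by
  classical
  induction f using MvPolynomial.induction_on' with
  | monomial s c =>
    rw [scale_monomial, coeff_monomial, coeff_monomial]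
    split_ifs with h
    · rw [h]
    · rw [mul_zero]
  | add p q hp hq => rw [map_add, coeff_add, coeff_add, hp, hq, mul_add]

lemma scale_scale (l m : K) (f : MvPolynomial σ K) : scale l (scale m f) = scale (l * m) f := by
  ext d
  rw [coeff_scale, coeff_scale, coeff_scale, mul_pow, mul_assoc]

lemma scale_one (f : MvPolynomial σ K) : scale (1 : K) f = f := by
  ext d
  rw [coeff_scale, one_pow, one_mul]

lemma scale_of_isHomogeneous (l : K) {φ : MvPolynomial σ K} {n : ℕ} (h : φ.IsHomogeneous n) :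
    scale l φ = l ^ n • φ := by
  ext d
  rw [coeff_scale, coeff_smul, smul_eq_mul]
  by_cases hd : d.degree = n
  · rw [hd]
  · rw [h.coeff_eq_zero hd, mul_zero, mul_zero]

lemma scale_eq_sum (l : K) (f : MvPolynomial σ K) :
    scale l f = ∑ n ∈ Finset.range (f.totalDegree + 1), l ^ n • homogeneousComponent n f := by
  conv_lhs => rw [← sum_homogeneousComponent f]
  rw [map_sum]
  refine Finset.sum_congr rfl fun n _ => ?_
  exact scale_of_isHomogeneous l (homogeneousComponent_isHomogeneous n f)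

/-- The scaling by a non-zero constant, as an automorphism. -/
noncomputable def scaleEquiv (l : K) (hl : l ≠ 0) : MvPolynomial σ K ≃+* MvPolynomial σ K :=
  RingEquiv.ofRingHom (scale l).toRingHom (scale l⁻¹).toRingHom
    (RingHom.ext fun f => by
      show scale l (scale l⁻¹ f) = f
      rw [scale_scale, mul_inv_cancel₀ hl, scale_one])
    (RingHom.ext fun f => by
      show scale l⁻¹ (scale l f) = f
      rw [scale_scale, inv_mul_cancel₀ hl, scale_one])

lemma scaleEquiv_apply (l : K) (hl : l ≠ 0) (f : MvPolynomial σ K) :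
    scaleEquiv l hl f = scale l f := rfl

/-- An ideal stable under all scalings contains the constant terms of its elements. -/
theorem C_coeff_zero_mem [Infinite K] (b : Ideal (MvPolynomial σ K))
    (hb : ∀ l : K, l ≠ 0 → ∀ f ∈ b, scale l f ∈ b) (f : MvPolynomial σ K) (hf : f ∈ b) :
    C (coeff 0 f) ∈ b := by
  classical
  obtain ⟨π, hπ⟩ : ∃ π : MvPolynomial σ K →ₗ[K] (MvPolynomial σ K ⧸ b),
      π = (Ideal.Quotient.mkₐ K b).toLinearMap := ⟨_, rfl⟩
  have hπ0 : ∀ g : MvPolynomial σ K, π g = 0 ↔ g ∈ b := by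
    intro g
    rw [hπ]
    exact Ideal.Quotient.eq_zero_iff_mem
  have key : π (homogeneousComponent 0 f) = 0 := by
    rw [← Module.forall_dual_apply_eq_zero_iff K]
    intro φ
    obtain ⟨p, hp⟩ : ∃ p : Polynomial K, p = ∑ n ∈ Finset.range (f.totalDegree + 1),
        Polynomial.monomial n (φ (π (homogeneousComponent n f))) := ⟨_, rfl⟩
    have hroot : ∀ l : K, l ≠ 0 → p.IsRoot l := by
      intro l hl
      have h1 : π (scale l f) = 0 := (hπ0 _).mpr (hb l hl f hf)
      rw [scale_eq_sum, map_sum] at h1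
      have h2 := congrArg φ h1
      rw [map_sum, map_zero] at h2
      rw [Polynomial.IsRoot, hp, Polynomial.eval_finset_sum, ← h2]
      refine Finset.sum_congr rfl fun n _ => ?_
      rw [Polynomial.eval_monomial, map_smul, map_smul, smul_eq_mul, mul_comm]
    have hp0 : p = 0 := by
      apply Polynomial.eq_zero_of_infinite_isRoot
      refine Set.Infinite.mono (s := ({0} : Set K)ᶜ) ?_ (Set.Finite.infinite_compl
        (Set.finite_singleton 0))
      intro l hl
      exact hroot l hl
    have h3 : p.coeff 0 = φ (π (homogeneousComponent 0 f)) := by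
      rw [hp, Polynomial.finset_sum_coeff, Finset.sum_eq_single 0]
      · rw [Polynomial.coeff_monomial, if_pos rfl]
      · intro n _ hn
        rw [Polynomial.coeff_monomial, if_neg hn]
      · intro h0
        exact absurd (Finset.mem_range.mpr (Nat.succ_pos _)) h0
    rw [← h3, hp0, Polynomial.coeff_zero]
  rw [hπ0, homogeneousComponent_zero] at key
  exact key

theorem le_ker_constantCoeff [Infinite K] (b : Ideal (MvPolynomial σ K)) (hb1 : b ≠ ⊤)
    (hb : ∀ l : K, l ≠ 0 → ∀ f ∈ b, scale l f ∈ b) :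
    b ≤ RingHom.ker (constantCoeff : MvPolynomial σ K →+* K) := by
  intro f hf
  rw [RingHom.mem_ker, constantCoeff_eq]
  by_contra hne
  apply hb1
  rw [Ideal.eq_top_iff_one]
  have h1 := C_coeff_zero_mem b hb f hf
  have h2 : (1 : MvPolynomial σ K) = C (coeff 0 f)⁻¹ * C (coeff 0 f) := by
    rw [← C_mul, inv_mul_cancel₀ hne, C_1]
  rw [h2]
  exact Ideal.mul_mem_left _ _ h1

/-- Ideals generated by homogeneous polynomials are stable under the scalings. -/
theorem scale_mem_of_span (I : Ideal (MvPolynomial σ K)) (T : Set (MvPolynomial σ K))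
    (hT : ∀ f ∈ T, ∃ k : ℕ, f.IsHomogeneous k) (hI : I = Ideal.span T) (l : K)
    (f : MvPolynomial σ K) (hf : f ∈ I) : scale l f ∈ I := by
  have h1 : I ≤ I.comap (scale l).toRingHom := by
    conv_lhs => rw [hI]
    rw [Ideal.span_le]
    intro g hg
    obtain ⟨k, hk⟩ := hT g hg
    show scale l g ∈ I
    rw [scale_of_isHomogeneous l hk]
    refine Submodule.smul_of_tower_mem _ _ ?_
    rw [hI]
    exact Ideal.subset_span hg
  exact h1 hf

end scale

/-! ### The main theorem -/

section main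

variable (K : Type u) [Field K] [Infinite K] {σ : Type} [Finite σ]

theorem map_scaleEquiv (𝔞 : Ideal (MvPolynomial σ K))
    (hst : ∀ l : K, l ≠ 0 → ∀ f ∈ 𝔞, scale l f ∈ 𝔞) (l : K) (hl : l ≠ 0) :
    𝔞 = 𝔞.map ((scaleEquiv l hl : MvPolynomial σ K ≃+* MvPolynomial σ K) :
      MvPolynomial σ K →+* MvPolynomial σ K) := by
  apply le_antisymm
  · intro f hf
    have h1 : f = scaleEquiv l hl (scale l⁻¹ f) := by
      rw [scaleEquiv_apply, scale_scale, mul_inv_cancel₀ hl, scale_one]
    rw [h1]
    exact Ideal.mem_map_of_mem _ (hst l⁻¹ (inv_ne_zero hl) f hf)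
  · rw [Ideal.map_le_iff_le_comap]
    intro f hf
    exact hst l hl f hf

theorem cm_of_cm_vertex (𝔞 : Ideal (MvPolynomial σ K))
    (hst : ∀ l : K, l ≠ 0 → ∀ f ∈ 𝔞, scale l f ∈ 𝔞)
    [hm : ((RingHom.ker (constantCoeff : MvPolynomial σ K →+* K)).map
      (Ideal.Quotient.mk 𝔞)).IsPrime]
    (h : LocCoh.IsCohenMacaulayLocalRing (Localization.AtPrime
      ((RingHom.ker (constantCoeff : MvPolynomial σ K →+* K)).map (Ideal.Quotient.mk 𝔞)))) :
    LocCoh.IsCohenMacaulayRing (MvPolynomial σ K ⧸ 𝔞) := by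
  haveI : Algebra.FiniteType K (MvPolynomial σ K ⧸ 𝔞) :=
    Algebra.FiniteType.of_surjective (Ideal.Quotient.mkₐ K 𝔞) (Ideal.Quotient.mkₐ_surjective K 𝔞)
  have hopen := Groth.Agent.Helper7.CMOpen.isOpen_cm_of_finiteType K (MvPolynomial σ K ⧸ 𝔞)
  obtain ⟨Z, hZ⟩ : ∃ Z : Set (PrimeSpectrum (MvPolynomial σ K ⧸ 𝔞)),
      Z = {q | LocCoh.IsCohenMacaulayLocalRing (Localization.AtPrime q.asIdeal)}ᶜ := ⟨_, rfl⟩
  have hZclosed : IsClosed Z := by
    rw [hZ]
    exact hopen.isClosed_compl
  have hZmem : ∀ q : PrimeSpectrum (MvPolynomial σ K ⧸ 𝔞),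
      q ∈ Z ↔ ¬ LocCoh.IsCohenMacaulayLocalRing (Localization.AtPrime q.asIdeal) := by
    intro q
    rw [hZ]
    rfl
  refine { isCohenMacaulayLocalRing_localization := fun p hp => ?_ }
  by_contra hnot
  have hpZ : (⟨p, hp⟩ : PrimeSpectrum (MvPolynomial σ K ⧸ 𝔞)) ∈ Z := (hZmem _).mpr hnot
  obtain ⟨a, ha⟩ : ∃ a : Ideal (MvPolynomial σ K ⧸ 𝔞), a = PrimeSpectrum.vanishingIdeal Z :=
    ⟨_, rfl⟩
  have hzl : PrimeSpectrum.zeroLocus (a : Set (MvPolynomial σ K ⧸ 𝔞)) = Z := by
    rw [ha, PrimeSpectrum.zeroLocus_vanishingIdeal_eq_closure, hZclosed.closure_eq]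
  obtain ⟨b, hbdef⟩ : ∃ b : Ideal (MvPolynomial σ K), b = a.comap (Ideal.Quotient.mk 𝔞) :=
    ⟨_, rfl⟩
  have hb1 : b ≠ ⊤ := by
    intro htop
    have h1 : (1 : MvPolynomial σ K) ∈ b := by rw [htop]; trivial
    rw [hbdef, Ideal.mem_comap, map_one] at h1
    have h2 : a = ⊤ := (Ideal.eq_top_iff_one a).mpr h1
    rw [h2] at hzl
    rw [← hzl] at hpZ
    have h3 : p = ⊤ := by
      have := (PrimeSpectrum.mem_zeroLocus _ _).mp hpZ
      exact top_le_iff.mp this
    exact hp.ne_top h3
  have hbst : ∀ l : K, l ≠ 0 → ∀ f ∈ b, scale l f ∈ b := by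
    intro l hl f hf
    rw [hbdef, Ideal.mem_comap] at hf ⊢
    rw [ha, PrimeSpectrum.mem_vanishingIdeal] at hf ⊢
    intro q hq
    obtain ⟨g, hg⟩ : ∃ g : (MvPolynomial σ K ⧸ 𝔞) ≃+* (MvPolynomial σ K ⧸ 𝔞),
        g = Ideal.quotientEquiv 𝔞 𝔞 (scaleEquiv l hl) (map_scaleEquiv K 𝔞 hst l hl) := ⟨_, rfl⟩
    have hgm : g (Ideal.Quotient.mk 𝔞 f) = Ideal.Quotient.mk 𝔞 (scale l f) := by
      rw [hg, Ideal.quotientEquiv_mk]
      rfl
    rw [← hgm]
    have hq' : (⟨q.asIdeal.comap (g : (MvPolynomial σ K ⧸ 𝔞) →+* (MvPolynomial σ K ⧸ 𝔞)),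
        Ideal.comap_isPrime _ _⟩ : PrimeSpectrum (MvPolynomial σ K ⧸ 𝔞)) ∈ Z := by
      rw [hZmem]
      intro hcm
      exact (hZmem q).mp hq (cmLocal_comap g q.asIdeal hcm)
    exact hf _ hq'
  have hble := le_ker_constantCoeff b hb1 hbst
  have hale : a ≤ (RingHom.ker (constantCoeff : MvPolynomial σ K →+* K)).map
      (Ideal.Quotient.mk 𝔞) := by
    intro x hx
    obtain ⟨f, rfl⟩ := Ideal.Quotient.mk_surjective x
    have hfb : f ∈ b := by
      rw [hbdef, Ideal.mem_comap]
      exact hx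
    exact Ideal.mem_map_of_mem _ (hble hfb)
  have hmZ : (⟨_, hm⟩ : PrimeSpectrum (MvPolynomial σ K ⧸ 𝔞)) ∈ Z := by
    rw [← hzl, PrimeSpectrum.mem_zeroLocus]
    exact hale
  exact (hZmem _).mp hmZ h

theorem s11272 (N : ℕ) (I : Ideal (MvPolynomial (Fin N) K))
    (hI : ∃ T : Set (MvPolynomial (Fin N) K), (∀ f ∈ T, ∃ k : ℕ, f.IsHomogeneous k) ∧
      I = Ideal.span T)
    [hm : ((RingHom.ker (MvPolynomial.constantCoeff : MvPolynomial (Fin N) K →+* K)).map
      (Ideal.Quotient.mk I)).IsPrime] :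
    LocCoh.IsCohenMacaulayRing (MvPolynomial (Fin N) K ⧸ I) ↔
      LocCoh.IsCohenMacaulayLocalRing (Localization.AtPrime
        ((RingHom.ker (MvPolynomial.constantCoeff : MvPolynomial (Fin N) K →+* K)).map
          (Ideal.Quotient.mk I))) := by
  constructor
  · intro h
    exact h.isCohenMacaulayLocalRing_localization _
  · intro h
    obtain ⟨T, hT, hIT⟩ := hI
    exact cm_of_cm_vertex K I (fun l _ f hf => scale_mem_of_span I T hT hIT l f hf) h

end main

end Groth.Agent.Helper8.GrLG
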