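import Mathlib

set_option autoImplicit false
universe u

namespace Groth.Agent.Helper8.AdicProj

variable {A : Type u} [CommRing A] (I : Ideal A)

theorem map_mem_smul_top {M N : Type*} [AddCommGroup M] [Module A M] [AddCommGroup N] [Module A N]
    (f : M →ₗ[A] N) (J : Ideal A) {x : M} (hx : x ∈ J • (⊤ : Submodule A M)) :
    f x ∈ J • (⊤ : Submodule A N) := by
  have h2 : f x ∈ Submodule.map f (J • (⊤ : Submodule A M)) := ⟨x, hx, rfl⟩
  rw [Submodule.map_smul''] at h2
  exact Submodule.smul_mono le_rfl le_top h2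

theorem pi_mem_smul_top (J : Ideal A) (k : ℕ) (x : Fin k → A) (hx : ∀ i, x i ∈ J) :
    x ∈ J • (⊤ : Submodule A (Fin k → A)) := by
  have : x = ∑ i, x i • (Pi.single i (1 : A) : Fin k → A) := by
    ext j
    simp [Finset.sum_apply, Pi.single_apply]
  rw [this]
  exact Submodule.sum_mem _ fun i _ => Submodule.smul_mem_smul (hx i) Submodule.mem_top

theorem mem_of_pi_mem_smul_top (J : Ideal A) (k : ℕ) (x : Fin k → A)
    (hx : x ∈ J • (⊤ : Submodule A (Fin k → A))) (i : Fin k) : x i ∈ J := by
  have := map_mem_smul_top (LinearMap.proj (R := A) (φ := fun _ : Fin k => A) i) J hx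
  rw [smul_eq_mul, Ideal.mul_top] at this
  exact this

theorem isHausdorff_pi [IsHausdorff I A] (k : ℕ) : IsHausdorff I (Fin k → A) := by
  refine ⟨fun x hx => ?_⟩
  ext i
  apply IsHausdorff.haus (inferInstance : IsHausdorff I A)
  intro n
  have := hx n
  rw [SModEq.zero] at this ⊢
  rw [smul_eq_mul, Ideal.mul_top]
  exact mem_of_pi_mem_smul_top _ k x this i

theorem isPrecomplete_pi [IsPrecomplete I A] (k : ℕ) : IsPrecomplete I (Fin k → A) := by
  refine ⟨fun f hf => ?_⟩
  have hcoord : ∀ i, ∃ L, ∀ n, f n i ≡ L [SMOD (I ^ n • ⊤ : Submodule A A)] := by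
    intro i
    apply IsPrecomplete.prec' (fun n => f n i)
    intro m n hmn
    have := hf hmn
    rw [SModEq.sub_mem] at this ⊢
    rw [smul_eq_mul, Ideal.mul_top]
    exact mem_of_pi_mem_smul_top _ k _ this i
  choose L hL using hcoord
  refine ⟨L, fun n => ?_⟩
  rw [SModEq.sub_mem]
  apply pi_mem_smul_top
  intro i
  have := SModEq.sub_mem.1 (hL i n)
  rwa [smul_eq_mul, Ideal.mul_top] at this

theorem isAdicComplete_of_retract {M N : Type*} [AddCommGroup M] [Module A M] [AddCommGroup N]
    [Module A N] (s : N →ₗ[A] M) (r : M →ₗ[A] N) (hrs : r ∘ₗ s = LinearMap.id)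
    [IsAdicComplete I M] : IsAdicComplete I N := by
  have hrs' : ∀ y, r (s y) = y := fun y => by
    have := congrArg (fun φ => φ y) hrs
    simpa using this
  refine { haus' := ?_, prec' := ?_ }
  · intro y hy
    have : s y = 0 := by
      apply IsHausdorff.haus (inferInstance : IsHausdorff I M)
      intro n
      have := hy n
      rw [SModEq.zero] at this ⊢
      exact map_mem_smul_top s _ this
    rw [← hrs' y, this, map_zero]
  · intro f hf
    obtain ⟨L, hL⟩ := IsPrecomplete.prec' (I := I) (fun n => s (f n)) (by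
      intro m n hmn
      have := hf hmn
      rw [SModEq.sub_mem] at this ⊢
      rw [← map_sub]
      exact map_mem_smul_top s _ this)
    refine ⟨r L, fun n => ?_⟩
    have := hL n
    rw [SModEq.sub_mem] at this ⊢
    have h2 := map_mem_smul_top r _ this
    rwa [map_sub, hrs'] at h2

theorem isAdicComplete_of_finite_projective [IsAdicComplete I A] (Q : Type*) [AddCommGroup Q]
    [Module A Q] [Module.Finite A Q] [Module.Projective A Q] : IsAdicComplete I Q := by
  obtain ⟨k, f, g, -, -, hfg⟩ := Module.Finite.exists_comp_eq_id_of_projective A Q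
  have : IsHausdorff I (Fin k → A) := isHausdorff_pi I k
  have : IsPrecomplete I (Fin k → A) := isPrecomplete_pi I k
  have : IsAdicComplete I (Fin k → A) := {}
  exact isAdicComplete_of_retract I g f hfg

end Groth.Agent.Helper8.AdicProj
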