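import Mathlib
import Groth.Prelude.Def_CAlgX
set_option autoImplicit false

namespace Groth.Agent.Helper8.AdicFS

universe u

section
variable {S : Type u} [CommRing S] (𝔫 : Ideal S)

lemma evalₐ_eq_zero_iff (h𝔫 : 𝔫.FG) (k : ℕ) (x : AdicCompletion 𝔫 S) :
    AdicCompletion.evalₐ 𝔫 k x = 0 ↔
      x ∈ (𝔫.map (algebraMap S (AdicCompletion 𝔫 S))) ^ k := by
  rw [← Ideal.map_pow]
  have h1 : x ∈ (𝔫 ^ k).map (algebraMap S (AdicCompletion 𝔫 S)) ↔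
      x ∈ (𝔫 ^ k • ⊤ : Submodule S (AdicCompletion 𝔫 S)) := by
    rw [Ideal.smul_top_eq_map]; rfl
  rw [h1, AdicCompletion.pow_smul_top_eq_ker_eval h𝔫, LinearMap.mem_ker]
  have hle : (𝔫 ^ k • ⊤ : Ideal S) ≤ 𝔫 ^ k := by simp
  rw [← AdicCompletion.factor_eval_eq_evalₐ 𝔫 x hle]
  constructor
  · intro h
    have hle' : 𝔫 ^ k ≤ (𝔫 ^ k • ⊤ : Ideal S) := by simp
    have := congrArg (Ideal.Quotient.factor hle') h
    simpa using this
  · intro h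
    rw [h, map_zero]

end

section
variable {R S : Type u} [CommRing R] [CommRing S] [Algebra R S] (𝔫 : Ideal S)

instance : IsScalarTower R S (AdicCompletion 𝔫 S) :=
  IsScalarTower.of_algebraMap_eq (fun _ => rfl)

/-- `S → Ŝ` as an `R`-algebra map. -/
noncomputable def ι : S →ₐ[R] AdicCompletion 𝔫 S := IsScalarTower.toAlgHom R S (AdicCompletion 𝔫 S)

lemma ι_apply (s : S) : ι (R := R) 𝔫 s = AdicCompletion.of 𝔫 S s := rfl

/-- evaluation as an `R`-algebra map. -/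
noncomputable def ev (k : ℕ) : AdicCompletion 𝔫 S →ₐ[R] S ⧸ 𝔫 ^ k :=
  (AdicCompletion.evalₐ 𝔫 k).restrictScalars R

lemma ev_apply (k : ℕ) (x : AdicCompletion 𝔫 S) :
    ev (R := R) 𝔫 k x = AdicCompletion.evalₐ 𝔫 k x := rfl

lemma ev_ι (k : ℕ) (s : S) : ev (R := R) 𝔫 k (ι (R := R) 𝔫 s) = Ideal.Quotient.mk _ s := by
  rw [ev_apply, ι_apply, AdicCompletion.evalₐ_of]

theorem s9318 (h𝔫 : 𝔫.FG) :
    CAlgX.IsAdicFormallySmooth R S 𝔫 ↔
      CAlgX.IsAdicFormallySmooth R (AdicCompletion 𝔫 S)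
        (𝔫.map (algebraMap S (AdicCompletion 𝔫 S))) := by
  constructor
  · intro hS A _ _ J hJ ψ' ⟨k, hk⟩
    have hψ : ∃ k : ℕ, ∀ x ∈ 𝔫 ^ k, (ψ'.comp (ι 𝔫)) x = 0 :=
      ⟨k, fun x hx => hk _ (by rw [← Ideal.map_pow]; exact Ideal.mem_map_of_mem _ hx)⟩
    obtain ⟨χ, hχ⟩ := hS A J hJ (ψ'.comp (ι 𝔫)) hψ
    have hχJ : ∀ x ∈ 𝔫 ^ k, χ x ∈ J := by
      intro x hx
      have h1 := AlgHom.congr_fun hχ x
      obtain ⟨k', hk'⟩ := hψ
      have h2 : (ψ'.comp (ι 𝔫)) x = 0 :=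
        hk _ (by rw [← Ideal.map_pow]; exact Ideal.mem_map_of_mem _ hx)
      rw [h2] at h1
      exact Ideal.Quotient.eq_zero_iff_mem.1 h1
    have hχ0 : ∀ x ∈ 𝔫 ^ (k + k), χ x = 0 := by
      intro x hx
      rw [pow_add] at hx
      refine Submodule.mul_induction_on hx ?_ ?_
      · intro a ha b hb
        rw [map_mul]
        have : χ a * χ b ∈ J ^ 2 := by
          rw [pow_two]; exact Ideal.mul_mem_mul (hχJ a ha) (hχJ b hb)
        rwa [hJ, Ideal.mem_bot] at this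
      · intro a b ha hb
        rw [map_add, ha, hb, add_zero]
    refine ⟨(Ideal.Quotient.liftₐ (𝔫 ^ (k + k)) χ hχ0).comp (ev 𝔫 (k + k)), ?_⟩
    ext x
    obtain ⟨s, hs⟩ := Ideal.Quotient.mk_surjective (AdicCompletion.evalₐ 𝔫 (k + k) x)
    have hy : AdicCompletion.evalₐ 𝔫 (k + k) (x - ι (R := R) 𝔫 s) = 0 := by
      rw [map_sub, ← hs, ι_apply, AdicCompletion.evalₐ_of, sub_self]
    have hy' := (evalₐ_eq_zero_iff 𝔫 h𝔫 (k + k) _).1 hy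
    have hyk : ψ' (x - ι (R := R) 𝔫 s) = 0 := hk _ (Ideal.pow_le_pow_right (Nat.le_add_right k k) hy')
    have h3 : ψ' x = ψ' (ι (R := R) 𝔫 s) := by
      rw [map_sub, sub_eq_zero] at hyk; exact hyk
    have h4 := AlgHom.congr_fun hχ s
    simp only [AlgHom.comp_apply] at h4 ⊢
    rw [h3, ← h4, ev_apply, ← hs]
    rfl
  · intro hS' A _ _ J hJ ψ ⟨k, hk⟩
    obtain ⟨χ', hχ'⟩ := hS' A J hJ ((Ideal.Quotient.liftₐ (𝔫 ^ k) ψ hk).comp (ev 𝔫 k))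
      ⟨k, fun x hx => by
        rw [AlgHom.comp_apply, ev_apply, (evalₐ_eq_zero_iff 𝔫 h𝔫 k x).2 hx, map_zero]⟩
    refine ⟨χ'.comp (ι 𝔫), ?_⟩
    ext s
    have := AlgHom.congr_fun hχ' (ι (R := R) 𝔫 s)
    simp only [AlgHom.comp_apply] at this ⊢
    rw [this, ev_ι]
    rfl

end

end Groth.Agent.Helper8.AdicFS
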