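import Mathlib
import Groth.Prelude.Def_CAlgX
import Groth.Agent.Helper2.H1Inj
import Groth.Agent.Helper7.PSEval
import Groth.Agent.Helper5.MvPSDim
set_option autoImplicit false
universe u

namespace Groth.Agent.Helper8.AdicReg
/-- adic formal smoothness descends along a formally smooth base extension -/
theorem comp_base {k k₀ A : Type u} [CommRing k] [CommRing k₀] [CommRing A]
    [Algebra k k₀] [Algebra k₀ A] [Algebra k A] [IsScalarTower k k₀ A]
    [Algebra.FormallySmooth k k₀] (𝔫 : Ideal A)
    (h : CAlgX.IsAdicFormallySmooth k₀ A 𝔫) : CAlgX.IsAdicFormallySmooth k A 𝔫 := by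
  intro C _ _ J hJ ψ hψ
  obtain ⟨g, hg⟩ := Algebra.FormallySmooth.exists_lift J ⟨2, hJ⟩
    (ψ.comp (IsScalarTower.toAlgHom k k₀ A))
  letI algC : Algebra k₀ C := g.toRingHom.toAlgebra
  haveI : IsScalarTower k k₀ C := IsScalarTower.of_algebraMap_eq fun x => (g.commutes x).symm
  let ψ' : A →ₐ[k₀] C ⧸ J :=
    { ψ.toRingHom with
      commutes' := by
        intro c
        have := congr($hg c)
        exact this.symm }
  obtain ⟨χ, hχ⟩ := h C J hJ ψ' hψ
  refine ⟨χ.restrictScalars k, ?_⟩
  ext x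
  exact congr($hχ x)

open IsLocalRing

section core

variable {k A R : Type u} [Field k] [CommRing A] [IsLocalRing A] [Algebra k A]
  [CommRing R] [IsLocalRing R] [IsNoetherianRing R] [Algebra k R]

/-- Krull: an ideal of a Noetherian local ring is closed -/
theorem iInf_sup_pow_le (J : Ideal R) : (⨅ j : ℕ, J ⊔ maximalIdeal R ^ j) ≤ J := by
  intro x hx
  have h0 : (Ideal.Quotient.mk J x : R ⧸ J) = 0 := by
    apply IsHausdorff.haus (inferInstance : IsHausdorff (maximalIdeal R) (R ⧸ J))
    intro j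
    rw [SModEq.zero]
    have hxj : x ∈ J ⊔ maximalIdeal R ^ j := (Ideal.mem_iInf.mp hx) j
    obtain ⟨y, hy, z, hz, rfl⟩ := Submodule.mem_sup.mp hxj
    rw [map_add, Ideal.Quotient.eq_zero_iff_mem.mpr hy, zero_add]
    have : (Ideal.Quotient.mk J z : R ⧸ J) = z • (1 : R ⧸ J) := by
      rw [Algebra.smul_def, mul_one]; rfl
    rw [this]
    exact Submodule.smul_mem_smul hz Submodule.mem_top
  exact Ideal.Quotient.eq_zero_iff_mem.mp h0

theorem stage (φ : R →ₐ[k] A) (hφ : Function.Surjective φ)
    (hI : RingHom.ker (φ : R →+* A) ≤ maximalIdeal R ^ 2)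
    (h : CAlgX.IsAdicFormallySmooth k A (maximalIdeal A)) (j : ℕ) :
    RingHom.ker (φ : R →+* A) ≤ maximalIdeal R * RingHom.ker (φ : R →+* A) ⊔ maximalIdeal R ^ j := by
  set I := RingHom.ker (φ : R →+* A) with hIdef
  set 𝔫 := maximalIdeal R with h𝔫
  have hI𝔫 : I ≤ 𝔫 := hI.trans (Ideal.pow_le_self two_ne_zero)
  set a : Ideal R := 𝔫 * I ⊔ 𝔫 ^ j with ha
  set b : Ideal R := I ⊔ 𝔫 ^ j with hb
  have hab : a ≤ b := sup_le (le_sup_of_le_left Ideal.mul_le_right) le_sup_right
  have hIb : I ≤ b := le_sup_left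
  have hbb : b * b ≤ a := by
    rw [hb, Ideal.sup_mul, Ideal.mul_sup, Ideal.mul_sup]
    refine sup_le (sup_le ?_ ?_) (sup_le ?_ ?_)
    · exact le_sup_of_le_left (Ideal.mul_mono_left hI𝔫)
    · exact le_sup_of_le_right Ideal.mul_le_right
    · exact le_sup_of_le_right Ideal.mul_le_left
    · exact le_sup_of_le_right Ideal.mul_le_right
  have h𝔫b : 𝔫 * b ≤ a := by
    rw [hb, Ideal.mul_sup]
    refine sup_le le_sup_left (le_sup_of_le_right Ideal.mul_le_right)
  let fac : (R ⧸ a) →ₐ[k] (R ⧸ b) := Ideal.Quotient.factorₐ k hab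
  have hfacs : Function.Surjective fac := Ideal.Quotient.factor_surjective hab
  have hker : RingHom.ker (fac : (R ⧸ a) →+* (R ⧸ b)) = b.map (Ideal.Quotient.mk a) :=
    Ideal.Quotient.factor_ker hab
  have hsq : RingHom.ker (fac : (R ⧸ a) →+* (R ⧸ b)) ^ 2 = ⊥ := by
    rw [hker, ← Ideal.map_pow, pow_two, eq_bot_iff]
    refine (Ideal.map_mono hbb).trans ?_
    rw [Ideal.map_quotient_self]
  let e := Ideal.quotientKerAlgEquivOfSurjective hφ
  let g : A →ₐ[k] (R ⧸ b) := (Ideal.Quotient.factorₐ k hIb).comp e.symm.toAlgHom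
  have hg : ∀ r : R, g (φ r) = Ideal.Quotient.mk b r := by
    intro r
    have : e.symm (φ r) = Ideal.Quotient.mk _ r := by
      rw [AlgEquiv.symm_apply_eq]
      rfl
    change Ideal.Quotient.factorₐ k hIb (e.symm (φ r)) = _
    rw [this]
    rfl
  have hmax : (maximalIdeal R).map (φ : R →+* A) = maximalIdeal A :=
    IsLocalRing.map_maximalIdeal_of_surjective _ hφ
  have hgk : ∃ t : ℕ, ∀ x ∈ maximalIdeal A ^ t, g x = 0 := by
    refine ⟨j, fun x hx => ?_⟩
    rw [← hmax, ← Ideal.map_pow] at hx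
    obtain ⟨y, hy, rfl⟩ := (Ideal.mem_map_iff_of_surjective _ hφ).mp hx
    have := hg y
    rw [this]
    exact Ideal.Quotient.eq_zero_iff_mem.mpr (le_sup_right (a := I) hy)
  obtain ⟨v, hv⟩ := Groth.Agent.Helper2.H1Inj.lift_of_surjective (maximalIdeal A) h fac hfacs hsq g hgk
  -- the two maps
  set π : R →+* R ⧸ a := Ideal.Quotient.mk a with hπ
  let θ : R →+* R ⧸ a := (v : A →+* R ⧸ a).comp (φ : R →+* A)
  have hd : ∀ x, θ x - π x ∈ b.map (Ideal.Quotient.mk a) := by
    intro x
    rw [← hker, RingHom.mem_ker, map_sub, sub_eq_zero]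
    have h1 : fac (v (φ x)) = g (φ x) := congr($hv (φ x))
    exact h1.trans (hg x)
  have hNN : ∀ n₁ ∈ b.map (Ideal.Quotient.mk a), ∀ n₂ ∈ b.map (Ideal.Quotient.mk a), n₁ * n₂ = 0 := by
    intro n₁ h₁ n₂ h₂
    have : n₁ * n₂ ∈ (b.map (Ideal.Quotient.mk a)) ^ 2 := by
      rw [pow_two]; exact Ideal.mul_mem_mul h₁ h₂
    rw [← hker, hsq] at this
    exact this
  have hπN : ∀ y ∈ 𝔫, ∀ n₁ ∈ b.map (Ideal.Quotient.mk a), π y * n₁ = 0 := by
    intro y hy n₁ h₁
    obtain ⟨c, hc, rfl⟩ := (Ideal.mem_map_iff_of_surjective _ Ideal.Quotient.mk_surjective).mp h₁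
    rw [← map_mul]
    exact Ideal.Quotient.eq_zero_iff_mem.mpr (h𝔫b (Ideal.mul_mem_mul hy hc))
  have hprod : ∀ y ∈ 𝔫, ∀ z ∈ 𝔫, θ (y * z) = π (y * z) := by
    intro y hy z hz
    have e1 : θ y = π y + (θ y - π y) := by ring
    have e2 : θ z = π z + (θ z - π z) := by ring
    rw [map_mul, map_mul, e1, e2]
    have t1 := hπN y hy _ (hd z)
    have t2 := hπN z hz _ (hd y)
    have t3 := hNN _ (hd y) _ (hd z)
    linear_combination t1 + t2 + t3
  have hsqz : ∀ x ∈ 𝔫 * 𝔫, θ x = π x := by
    intro x hx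
    refine Submodule.mul_induction_on hx (fun y hy z hz => hprod y hy z hz) ?_
    intro x y hx hy
    rw [map_add, map_add, hx, hy]
  intro x hx
  have hx2 : x ∈ 𝔫 * 𝔫 := by rw [← pow_two]; exact hI hx
  have h1 := hsqz x hx2
  have h2 : θ x = 0 := by
    change v (φ x) = 0
    have : φ x = 0 := hx
    rw [this, map_zero]
  rw [h2] at h1
  exact Ideal.Quotient.eq_zero_iff_mem.mp h1.symm

theorem injective_of_adic (φ : R →ₐ[k] A) (hφ : Function.Surjective φ)
    (hI : RingHom.ker (φ : R →+* A) ≤ maximalIdeal R ^ 2)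
    (h : CAlgX.IsAdicFormallySmooth k A (maximalIdeal A)) : Function.Injective φ := by
  have h1 : RingHom.ker (φ : R →+* A) ≤ maximalIdeal R * RingHom.ker (φ : R →+* A) := by
    refine le_trans ?_ (iInf_sup_pow_le _)
    exact le_iInf fun j => stage φ hφ hI h j
  have h2 : RingHom.ker (φ : R →+* A) = ⊥ :=
    Submodule.eq_bot_of_le_smul_of_le_jacobson_bot (maximalIdeal R) _
      (IsNoetherian.noetherian _) h1 (IsLocalRing.maximalIdeal_le_jacobson _)
  exact (RingHom.injective_iff_ker_eq_bot (φ : R →+* A)).mpr h2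

end core

open IsLocalRing MvPowerSeries

section ps

variable {A : Type u} [CommRing A] [IsLocalRing A] [IsNoetherianRing A]
  [IsAdicComplete (maximalIdeal A) A]
  (s : ResidueField A →+* A) (hs : ∀ x, residue A (s x) = x)

include hs in
/-- data of a minimal presentation -/
theorem exists_presentation :
    ∃ (n : ℕ) (φ : MvPowerSeries (Fin n) (ResidueField A) →+* A),
      (∀ c, φ (C c) = s c) ∧ Function.Surjective φ ∧
      RingHom.ker φ ≤ maximalIdeal (MvPowerSeries (Fin n) (ResidueField A)) ^ 2 := by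
  classical
  set K := ResidueField A with hK
  set n := Module.finrank K (CotangentSpace A) with hn
  let b : Module.Basis (Fin n) K (CotangentSpace A) := Module.finBasis K (CotangentSpace A)
  choose x hx using fun i => Ideal.toCotangent_surjective (maximalIdeal A) (b i)
  -- the x i generate the maximal ideal
  have hspan : Submodule.span A (Set.range x) = ⊤ := by
    rw [← CotangentSpace.span_image_eq_top_iff, ← Set.range_comp]
    have : (maximalIdeal A).toCotangent ∘ x = b := funext hx
    rw [this, b.span_eq]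
  have hspan' : Ideal.span (Set.range fun i => (x i : A)) = maximalIdeal A := by
    have := congrArg (Submodule.map (maximalIdeal A).subtype) hspan
    rw [Submodule.map_span, Submodule.map_top, Submodule.range_subtype, ← Set.range_comp] at this
    exact this
  obtain ⟨ψ, hψC, hψ⟩ : ∃ ψ : MvPowerSeries (Fin n) K →+* A, (∀ c, ψ (C c) = s c) ∧
      ∀ i, ψ (X i) = (x i : A) := by
    letI : Algebra K A := s.toAlgebra
    obtain ⟨ψ, hψ⟩ := Groth.Agent.Helper7.PSEval.exists_algHom_X (k := K) (maximalIdeal A)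
      (fun i => (x i : A)) (fun i => (x i).2)
    exact ⟨ψ.toRingHom, fun c => ψ.commutes c, hψ⟩
  have hmap : (Ideal.span (Set.range (X : Fin n → MvPowerSeries (Fin n) K))).map ψ
      = maximalIdeal A := by
    rw [Ideal.map_span, ← Set.range_comp, ← hspan']
    congr 2
    ext i
    exact hψ i
  refine ⟨n, ψ, fun c => ?_, ?_, ?_⟩
  · exact hψC c
  · -- surjectivity
    haveI : IsHausdorff ((Ideal.span (Set.range
        (X : Fin n → MvPowerSeries (Fin n) K))).map ψ) A := by
      rw [hmap]; infer_instance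
    apply surjective_of_mk_map_comp_surjective
      (I := Ideal.span (Set.range (X : Fin n → MvPowerSeries (Fin n) K))) ψ
    intro y
    obtain ⟨r, rfl⟩ := Ideal.Quotient.mk_surjective y
    refine ⟨C (residue A r), ?_⟩
    rw [RingHom.comp_apply, Ideal.Quotient.eq, hmap]
    have h1 : ψ (C (residue A r)) = s (residue A r) := hψC _
    rw [h1, ← residue_eq_zero_iff, map_sub, hs, sub_self]
  · -- kernel in the square
    intro f hf
    rw [Groth.Agent.Helper5.MvPSDim.maximalIdeal_eq]
    set c₀ := constantCoeff f with hc₀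
    set c : Fin n → K := fun i => coeff (Finsupp.single i 1) f with hc
    set q := f - C c₀ - ∑ i, C (c i) * X i with hq
    have hq0 : constantCoeff q = 0 := by
      rw [hq, map_sub, map_sub, map_sum]
      simp [hc₀]
    have hq1 : ∀ i, coeff (Finsupp.single i 1) q = 0 := by
      intro i
      rw [hq, map_sub, map_sub, map_sum]
      have h1 : coeff (Finsupp.single i 1) (C c₀ : MvPowerSeries (Fin n) K) = 0 := by
        rw [coeff_C, if_neg]
        intro h
        have := DFunLike.congr_fun h i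
        simp at this
      have h2 : ∀ j, coeff (Finsupp.single i 1) (C (c j) * X j : MvPowerSeries (Fin n) K)
          = if j = i then c j else 0 := by
        intro j
        rw [coeff_C_mul, coeff_X]
        by_cases hji : j = i
        · subst hji; simp
        · rw [if_neg hji, if_neg, mul_zero]
          intro h
          exact hji ((Finsupp.single_left_inj one_ne_zero).mp h).symm
      rw [h1, Finset.sum_congr rfl (fun j _ => h2 j)]
      simp [hc]
    have hqmem := Groth.Agent.Helper5.MvPSIdeal.mem_span_X_sq q hq0 hq1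
    have hfq : f = C c₀ + ∑ i, C (c i) * X i + q := by rw [hq]; ring
    have hψq : ψ q ∈ maximalIdeal A ^ 2 := by
      rw [← hmap, ← Ideal.map_pow]
      exact Ideal.mem_map_of_mem _ hqmem
    have hψf : s c₀ + ∑ i, s (c i) * (x i : A) + ψ q = 0 := by
      have h0 : ψ f = 0 := hf
      rw [hfq, map_add, map_add, map_sum] at h0
      have e1 : ψ (C c₀) = s c₀ := hψC c₀
      have e2 : ∀ i, ψ (C (c i) * X i) = s (c i) * (x i : A) := by
        intro i
        rw [map_mul, hψ i]
        rw [hψC]
      rw [e1, Finset.sum_congr rfl (fun i _ => e2 i)] at h0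
      exact h0
    have hsum_mem : ∑ i, s (c i) * (x i : A) ∈ maximalIdeal A :=
      Ideal.sum_mem _ fun i _ => Ideal.mul_mem_left _ _ (x i).2
    have hc₀0 : c₀ = 0 := by
      have h1 : s c₀ ∈ maximalIdeal A := by
        have : s c₀ = - (∑ i, s (c i) * (x i : A) + ψ q) := by linear_combination hψf
        rw [this]
        exact Ideal.neg_mem_iff _ |>.mpr
          (Ideal.add_mem _ hsum_mem (Ideal.pow_le_self two_ne_zero hψq))
      rw [← residue_eq_zero_iff, hs] at h1
      exact h1
    have hsum2 : ∑ i, s (c i) * (x i : A) ∈ maximalIdeal A ^ 2 := by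
      have : ∑ i, s (c i) * (x i : A) = - ψ q := by
        rw [hc₀0, map_zero] at hψf
        linear_combination hψf
      rw [this]
      exact Ideal.neg_mem_iff _ |>.mpr hψq
    have hcot : ∑ i, c i • b i = 0 := by
      have h1 : (maximalIdeal A).toCotangent (∑ i, s (c i) • x i) = 0 := by
        rw [Ideal.toCotangent_eq_zero]
        simpa using hsum2
      rw [map_sum] at h1
      rw [← h1]
      refine Finset.sum_congr rfl fun i _ => ?_
      rw [map_smul, hx i, ← IsScalarTower.algebraMap_smul K (s (c i)) (b i)]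
      congr 1
      exact (hs (c i)).symm
    have hci : ∀ i, c i = 0 := Fintype.linearIndependent_iff.mp b.linearIndependent c hcot
    rw [hfq, hc₀0, map_zero, zero_add]
    simp only [hci, map_zero, zero_mul, Finset.sum_const_zero, zero_add]
    exact hqmem

end ps

end Groth.Agent.Helper8.AdicReg
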