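import Mathlib
set_option autoImplicit false

universe u

namespace Groth.Agent.Helper8.Idx

open Cardinal Module

section idx

variable {F : Type u} [Field F] {U V W : Type u} [AddCommGroup U] [Module F U]
  [AddCommGroup V] [Module F V] [AddCommGroup W] [Module F W]

/-- dimension of the kernel -/
noncomputable def kd (f : U →ₗ[F] V) : Cardinal.{u} := Module.rank F (LinearMap.ker f)
/-- dimension of the cokernel -/
noncomputable def cd (f : U →ₗ[F] V) : Cardinal.{u} := Module.rank F (V ⧸ LinearMap.range f)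

variable (f : U →ₗ[F] V) (g : V →ₗ[F] W)

/-- `ker (g ∘ f)` has dimension `dim ker f + dim (ker g ⊓ range f)` -/
theorem kd_comp : kd (g ∘ₗ f) = Module.rank F ↥(LinearMap.ker g ⊓ LinearMap.range f) + kd f := by
  unfold kd
  set C := LinearMap.ker (g ∘ₗ f) with hC
  have h1 := LinearMap.rank_range_add_rank_ker (f.domRestrict C)
  have h2 : LinearMap.range (f.domRestrict C) = LinearMap.ker g ⊓ LinearMap.range f := by
    rw [LinearMap.range_domRestrict, hC, LinearMap.ker_comp, Submodule.map_comap_eq, inf_comm]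
  have h3 : Module.rank F (LinearMap.ker (f.domRestrict C)) = Module.rank F (LinearMap.ker f) := by
    have hle : LinearMap.ker f ≤ C := by
      intro x hx
      rw [hC, LinearMap.mem_ker, LinearMap.comp_apply, LinearMap.mem_ker.1 hx, map_zero]
    have : LinearMap.ker (f.domRestrict C) = Submodule.comap C.subtype (LinearMap.ker f) := by
      ext x
      simp [LinearMap.domRestrict_apply]
    rw [this]
    exact (Submodule.comapSubtypeEquivOfLe hle).rank_eq
  rw [h2, h3] at h1
  exact h1.symm

/-- the auxiliary map `ker g → V / range f` -/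
noncomputable def theta : LinearMap.ker g →ₗ[F] V ⧸ LinearMap.range f :=
  (LinearMap.range f).mkQ ∘ₗ (LinearMap.ker g).subtype

theorem kd_eq : kd g = Module.rank F (LinearMap.range (theta f g)) +
    Module.rank F ↥(LinearMap.ker g ⊓ LinearMap.range f) := by
  unfold kd
  have h1 := LinearMap.rank_range_add_rank_ker (theta f g)
  have h2 : Module.rank F (LinearMap.ker (theta f g)) =
      Module.rank F ↥(LinearMap.ker g ⊓ LinearMap.range f) := by
    have : LinearMap.ker (theta f g) = Submodule.comap (LinearMap.ker g).subtype (LinearMap.range f) := by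
      unfold theta
      rw [LinearMap.ker_comp, Submodule.ker_mkQ]
    rw [this, ← Submodule.map_comap_subtype]
    exact (Submodule.equivMapOfInjective _ (Submodule.injective_subtype _) _).rank_eq
  rw [h2] at h1
  exact h1.symm

theorem cd_eq : cd f = Module.rank F (V ⧸ (LinearMap.range f ⊔ LinearMap.ker g)) +
    Module.rank F (LinearMap.range (theta f g)) := by
  unfold cd
  have h1 := Submodule.rank_quotient_add_rank (LinearMap.range (theta f g))
  have h2 : LinearMap.range (theta f g) = (LinearMap.ker g).map (LinearMap.range f).mkQ := by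
    unfold theta
    rw [LinearMap.range_comp, Submodule.range_subtype]
  rw [h2] at h1 ⊢
  rw [← h1, (Submodule.quotientQuotientEquivQuotientSup (LinearMap.range f) (LinearMap.ker g)).rank_eq]

theorem cd_comp : cd (g ∘ₗ f) = Module.rank F (V ⧸ (LinearMap.range f ⊔ LinearMap.ker g)) + cd g := by
  unfold cd
  set Q := LinearMap.range (g ∘ₗ f) with hQ
  let ψ : V →ₗ[F] W ⧸ Q := Q.mkQ ∘ₗ g
  have h1 := Submodule.rank_quotient_add_rank (LinearMap.range ψ)
  have h2 : LinearMap.ker ψ = LinearMap.range f ⊔ LinearMap.ker g := by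
    change LinearMap.ker (Q.mkQ ∘ₗ g) = _
    rw [LinearMap.ker_comp, Submodule.ker_mkQ, hQ, LinearMap.range_comp, Submodule.comap_map_eq]
  have h3 : Module.rank F (LinearMap.range ψ) =
      Module.rank F (V ⧸ (LinearMap.range f ⊔ LinearMap.ker g)) := by
    rw [← h2]
    exact ψ.quotKerEquivRange.rank_eq.symm
  have h4 : LinearMap.range ψ = (LinearMap.range g).map Q.mkQ := by
    change LinearMap.range (Q.mkQ ∘ₗ g) = _
    rw [LinearMap.range_comp]
  have hle : Q ≤ LinearMap.range g := by
    rw [hQ, LinearMap.range_comp]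
    exact LinearMap.map_le_range
  have h5 : Module.rank F ((W ⧸ Q) ⧸ LinearMap.range ψ) = Module.rank F (W ⧸ LinearMap.range g) := by
    rw [h4]
    exact (Submodule.quotientQuotientEquivQuotient Q (LinearMap.range g) hle).rank_eq
  rw [h5, h3] at h1
  rw [← h1, add_comm]

/-- additivity of the index for maps with finite kernel and cokernel -/
theorem index_comp (hkf : kd f < ℵ₀) (hcf : cd f < ℵ₀) (hkg : kd g < ℵ₀) (hcg : cd g < ℵ₀) :
    kd (g ∘ₗ f) < ℵ₀ ∧ cd (g ∘ₗ f) < ℵ₀ ∧
    (toNat (cd (g ∘ₗ f)) : ℤ) - toNat (kd (g ∘ₗ f)) =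
      ((toNat (cd f) : ℤ) - toNat (kd f)) + ((toNat (cd g) : ℤ) - toNat (kd g)) := by
  have e1 := kd_comp f g
  have e2 := kd_eq f g
  have e3 := cd_eq f g
  have e4 := cd_comp f g
  set e := Module.rank F ↥(LinearMap.ker g ⊓ LinearMap.range f)
  set r := Module.rank F (LinearMap.range (theta f g))
  set d := Module.rank F (V ⧸ (LinearMap.range f ⊔ LinearMap.ker g))
  have he : e < ℵ₀ := by
    rw [e2] at hkg
    exact (Cardinal.add_lt_aleph0_iff.1 hkg).2
  have hr : r < ℵ₀ := by
    rw [e2] at hkg
    exact (Cardinal.add_lt_aleph0_iff.1 hkg).1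
  have hd : d < ℵ₀ := by
    rw [e3] at hcf
    exact (Cardinal.add_lt_aleph0_iff.1 hcf).1
  refine ⟨?_, ?_, ?_⟩
  · rw [e1]; exact Cardinal.add_lt_aleph0 he hkf
  · rw [e4]; exact Cardinal.add_lt_aleph0 hd hcg
  · rw [e1, e4, e2, e3, Cardinal.toNat_add hd hcg, Cardinal.toNat_add he hkf,
      Cardinal.toNat_add hr he, Cardinal.toNat_add hd hr]
    push_cast
    ring

end idx

end Groth.Agent.Helper8.Idx
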