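import Mathlib
import Groth.Agent.Helper8.Idx
set_option autoImplicit false

universe u

namespace Groth.Agent.Helper8.Idx

open Cardinal Module TensorProduct

section bc

variable {F : Type u} [Field F] (L : Type u) [Field L] [Algebra F L] {U V : Type u}
  [AddCommGroup U] [Module F U] [AddCommGroup V] [Module F V] (f : U →ₗ[F] V)

theorem kd_baseChange : kd (f.baseChange L) = kd f := by
  unfold kd
  let ι := (LinearMap.ker f).subtype
  have hex : Function.Exact ι f := f.exact_subtype_ker_map
  have hexL : Function.Exact (ι.lTensor L) (f.lTensor L) := Module.Flat.lTensor_exact L hex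
  have hinj : Function.Injective (ι.baseChange L) := by
    rw [LinearMap.baseChange_eq_ltensor]
    exact Module.Flat.lTensor_preserves_injective_linearMap ι (Submodule.injective_subtype _)
  have hrange : LinearMap.range (ι.baseChange L) = LinearMap.ker (f.baseChange L) := by
    ext x
    rw [LinearMap.mem_ker, LinearMap.mem_range]
    have h1 : f.baseChange L x = f.lTensor L x := by rw [← LinearMap.baseChange_eq_ltensor]
    rw [h1, hexL x]
    constructor
    · rintro ⟨y, hy⟩
      exact ⟨y, by rw [← hy, ← LinearMap.baseChange_eq_ltensor]⟩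
    · rintro ⟨y, hy⟩
      exact ⟨y, by rw [← hy, ← LinearMap.baseChange_eq_ltensor]⟩
  rw [← hrange, ← (LinearEquiv.ofInjective (ι.baseChange L) hinj).rank_eq, Module.rank_baseChange,
    Cardinal.lift_id]

theorem cd_baseChange : cd (f.baseChange L) = cd f := by
  unfold cd
  let π := (LinearMap.range f).mkQ
  have hex : Function.Exact f π := by
    rw [LinearMap.exact_iff, Submodule.ker_mkQ]
  have hπ : Function.Surjective π := Submodule.mkQ_surjective _
  have hexL : Function.Exact (f.lTensor L) (π.lTensor L) := lTensor_exact L hex hπ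
  have hsurj : Function.Surjective (π.baseChange L) := by
    rw [LinearMap.baseChange_eq_ltensor]
    exact LinearMap.lTensor_surjective L hπ
  have hker : LinearMap.ker (π.baseChange L) = LinearMap.range (f.baseChange L) := by
    ext x
    rw [LinearMap.mem_ker, LinearMap.mem_range]
    have h1 : π.baseChange L x = π.lTensor L x := by rw [← LinearMap.baseChange_eq_ltensor]
    rw [h1, hexL x]
    constructor
    · rintro ⟨y, hy⟩
      exact ⟨y, by rw [← hy, ← LinearMap.baseChange_eq_ltensor]⟩
    · rintro ⟨y, hy⟩
      exact ⟨y, by rw [← hy, ← LinearMap.baseChange_eq_ltensor]⟩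
  rw [← hker, ((π.baseChange L).quotKerEquivOfSurjective hsurj).rank_eq, Module.rank_baseChange,
    Cardinal.lift_id]

end bc

section iso

variable {F : Type u} [Field F] {U U' V : Type u} [AddCommGroup U] [Module F U]
  [AddCommGroup U'] [Module F U'] [AddCommGroup V] [Module F V]

theorem kd_comp_equiv (f : U →ₗ[F] V) (e : U' ≃ₗ[F] U) : kd (f ∘ₗ e.toLinearMap) = kd f := by
  unfold kd
  have : LinearMap.ker (f ∘ₗ e.toLinearMap) = (LinearMap.ker f).comap e.toLinearMap := by
    rw [LinearMap.ker_comp]
  rw [this]
  exact (e.submoduleMap ((LinearMap.ker f).comap e.toLinearMap)).rank_eq.trans (by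
    rw [Submodule.map_comap_eq_of_surjective e.surjective])

theorem cd_comp_equiv (f : U →ₗ[F] V) (e : U' ≃ₗ[F] U) : cd (f ∘ₗ e.toLinearMap) = cd f := by
  unfold cd
  have : LinearMap.range (f ∘ₗ e.toLinearMap) = LinearMap.range f := by
    rw [LinearMap.range_comp, LinearEquiv.range, Submodule.map_top]
  rw [this]

end iso

end Groth.Agent.Helper8.Idx
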