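import Mathlib
import Groth.Agent.Helper8.Idx2
set_option autoImplicit false

universe u

namespace Groth.Agent.Helper8.Idx

open Cardinal Module TensorProduct

section tower

variable (k K F L : Type u) [Field k] [Field K] [Field F] [Field L]
  [Algebra k K] [Algebra k F] [Algebra k L] [Algebra K F] [Algebra K L] [Algebra F L]
  [IsScalarTower k K F] [IsScalarTower k K L] [IsScalarTower k F L] [IsScalarTower K F L]

theorem map_map (ω : Ω[K⁄k]) :
    KaehlerDifferential.map k k F L (KaehlerDifferential.map k k K F ω) =
      KaehlerDifferential.map k k K L ω := by
  have hω : ω ∈ Submodule.span K (Set.range (KaehlerDifferential.D k K)) := by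
    rw [KaehlerDifferential.span_range_derivation]; trivial
  induction hω using Submodule.span_induction with
  | mem x hx =>
    obtain ⟨a, rfl⟩ := hx
    rw [KaehlerDifferential.map_D, KaehlerDifferential.map_D, KaehlerDifferential.map_D,
      ← IsScalarTower.algebraMap_apply]
  | zero => simp
  | add x y _ _ hx hy => rw [map_add, map_add, map_add, hx, hy]
  | smul a x _ hx =>
    rw [map_smul (KaehlerDifferential.map k k K F), map_smul (KaehlerDifferential.map k k K L), ← hx,
      ← algebraMap_smul F a (KaehlerDifferential.map k k K F x), map_smul, algebraMap_smul]

/-- the comparison map for `L / K` factors through the one for `L / F` -/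
theorem alpha_comp :
    (KaehlerDifferential.mapBaseChange k K L) ∘ₗ
        (TensorProduct.AlgebraTensorModule.cancelBaseChange K F L L Ω[K⁄k]).toLinearMap =
      (KaehlerDifferential.mapBaseChange k F L) ∘ₗ
        ((KaehlerDifferential.mapBaseChange k K F).baseChange L) := by
  refine LinearMap.ext fun x => ?_
  induction x using TensorProduct.induction_on with
  | zero => simp
  | add x y hx hy => rw [map_add, map_add, hx, hy]
  | tmul l y =>
    induction y using TensorProduct.induction_on with
    | zero => simp
    | add x y hx hy => rw [tmul_add, map_add, map_add, hx, hy]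
    | tmul a ω =>
      rw [LinearMap.comp_apply, LinearMap.comp_apply, LinearEquiv.coe_coe,
        TensorProduct.AlgebraTensorModule.cancelBaseChange_tmul, LinearMap.baseChange_tmul,
        KaehlerDifferential.mapBaseChange_tmul, KaehlerDifferential.mapBaseChange_tmul,
        KaehlerDifferential.mapBaseChange_tmul, map_smul, map_map, smul_assoc, smul_comm]

end tower

end Groth.Agent.Helper8.Idx
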