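import Mathlib
import Groth.Agent.Helper8.Idx3
set_option autoImplicit false

universe u

namespace Groth.Agent.Helper8.Idx

open Cardinal Module TensorProduct

section gen

variable (k K L : Type u) [Field k] [Field K] [Field L] [Algebra k K] [Algebra K L] [Algebra k L]
  [IsScalarTower k K L]

/-- the comparison map `L ⊗_K Ω_{K/k} → Ω_{L/k}` -/
noncomputable abbrev alpha : L ⊗[K] Ω[K⁄k] →ₗ[L] Ω[L⁄k] := KaehlerDifferential.mapBaseChange k K L

theorem cd_alpha : cd (alpha k K L) = Module.rank L Ω[L⁄K] := by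
  unfold cd alpha
  rw [KaehlerDifferential.range_mapBaseChange]
  exact ((KaehlerDifferential.map k K L L).quotKerEquivOfSurjective
    (KaehlerDifferential.map_surjective k K L)).rank_eq

theorem kd_alpha_le : kd (alpha k K L) ≤ Module.rank L (Algebra.H1Cotangent K L) := by
  unfold kd alpha
  have h := Algebra.H1Cotangent.exact_δ_mapBaseChange k K L
  rw [LinearMap.exact_iff] at h
  rw [h]
  exact rank_range_le _

/-- finiteness and the inequality for `L / K` relative to `k` -/
def Good : Prop :=
  Algebra.trdeg K L < ℵ₀ ∧ kd (alpha k K L) < ℵ₀ ∧ cd (alpha k K L) < ℵ₀ ∧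
    (toNat (Algebra.trdeg K L) : ℤ) ≤ (toNat (cd (alpha k K L)) : ℤ) - toNat (kd (alpha k K L))

end gen

section trans

variable (k K F L : Type u) [Field k] [Field K] [Field F] [Field L]
  [Algebra k K] [Algebra k F] [Algebra k L] [Algebra K F] [Algebra K L] [Algebra F L]
  [IsScalarTower k K F] [IsScalarTower k K L] [IsScalarTower k F L] [IsScalarTower K F L]

theorem good_trans (h1 : Good k K F) (h2 : Good k F L) : Good k K L := by
  obtain ⟨ht1, hk1, hc1, hi1⟩ := h1
  obtain ⟨ht2, hk2, hc2, hi2⟩ := h2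
  have hcomp := alpha_comp k K F L
  set e := TensorProduct.AlgebraTensorModule.cancelBaseChange K F L L Ω[K⁄k] with he
  have hkd : kd (alpha k K L) = kd (alpha k F L ∘ₗ (alpha k K F).baseChange L) := by
    rw [← kd_comp_equiv (alpha k K L) e]
    exact congrArg kd hcomp
  have hcd : cd (alpha k K L) = cd (alpha k F L ∘ₗ (alpha k K F).baseChange L) := by
    rw [← cd_comp_equiv (alpha k K L) e]
    exact congrArg cd hcomp
  have hk1' : kd ((alpha k K F).baseChange L) < ℵ₀ := by rwa [kd_baseChange]
  have hc1' : cd ((alpha k K F).baseChange L) < ℵ₀ := by rwa [cd_baseChange]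
  obtain ⟨hk, hc, hi⟩ := index_comp ((alpha k K F).baseChange L) (alpha k F L) hk1' hc1' hk2 hc2
  rw [kd_baseChange, cd_baseChange] at hi
  have htr : Algebra.trdeg K F + Algebra.trdeg F L = Algebra.trdeg K L := _root_.trdeg_add_eq K F
  refine ⟨?_, by rwa [hkd], by rwa [hcd], ?_⟩
  · rw [← htr]; exact Cardinal.add_lt_aleph0 ht1 ht2
  · rw [hkd, hcd, hi, ← htr, Cardinal.toNat_add ht1 ht2]
    push_cast
    linarith

end trans

end Groth.Agent.Helper8.Idx
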