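import Mathlib
import Groth.Agent.Helper8.Idx4
set_option autoImplicit false

universe u

namespace Groth.Agent.Helper8.Idx

open Cardinal Module TensorProduct

section simple

variable (F F' : Type u) [Field F] [Field F'] [Algebra F F']

/-- a principal-kernel presentation bounds `H¹` of the cotangent complex by `1` -/
theorem rank_h1Cotangent_le_one (t : F') (ht : IntermediateField.adjoin F {t} = ⊤)
    (halg : IsAlgebraic F t) : Module.rank F' (Algebra.H1Cotangent F F') ≤ 1 := by
  have hsub : Algebra.adjoin F {t} = ⊤ := by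
    rw [← IntermediateField.adjoin_simple_toSubalgebra_of_isAlgebraic halg, ht]
    rfl
  have hsurj : Function.Surjective (MvPolynomial.aeval (R := F) (fun _ : Unit => t)) := by
    rw [← AlgHom.range_eq_top, ← Algebra.adjoin_range_eq_range_aeval, ← hsub]
    congr 1
    ext y
    simp
  let P : Algebra.Generators F F' Unit := Algebra.Generators.ofSurjective (fun _ : Unit => t) hsurj
  haveI : IsPrincipalIdealRing (MvPolynomial Unit F) :=
    IsPrincipalIdealRing.of_surjective (MvPolynomial.uniqueAlgEquiv F Unit).symm.toRingEquiv.toRingHom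
      (MvPolynomial.uniqueAlgEquiv F Unit).symm.surjective
  obtain ⟨g, hg⟩ : ∃ g, P.ker = Ideal.span {g} :=
    (IsPrincipalIdealRing.principal P.ker).principal
  have hgmem : g ∈ P.ker := by rw [hg]; exact Ideal.mem_span_singleton_self g
  have hcot : Module.rank F' P.toExtension.Cotangent ≤ 1 := by
    rw [rank_le_one_iff]
    refine ⟨Algebra.Extension.Cotangent.mk ⟨g, hgmem⟩, fun c => ?_⟩
    obtain ⟨⟨x, hx⟩, rfl⟩ := Algebra.Extension.Cotangent.mk_surjective c
    have hx' : x ∈ (Ideal.span {g} : Ideal P.Ring) := by rw [← hg]; exact hx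
    obtain ⟨a, ha⟩ := Ideal.mem_span_singleton'.1 hx'
    refine ⟨algebraMap P.toExtension.Ring F' a, ?_⟩
    rw [algebraMap_smul, ← map_smul]
    congr 1
    exact Subtype.ext ha
  calc Module.rank F' (Algebra.H1Cotangent F F')
      = Module.rank F' P.toExtension.H1Cotangent := P.equivH1Cotangent.rank_eq.symm
    _ ≤ Module.rank F' P.toExtension.Cotangent := Submodule.rank_le _
    _ ≤ 1 := hcot

end simple

end Groth.Agent.Helper8.Idx

namespace Groth.Agent.Helper8.Idx

open Cardinal Module TensorProduct Polynomial

section simple2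

variable (k F F' : Type u) [Field k] [Field F] [Field F'] [Algebra k F] [Algebra k F'] [Algebra F F']
  [IsScalarTower k F F']

omit [Field k] [Algebra k F] [Algebra k F'] [IsScalarTower k F F'] in
theorem isAlgebraic_adjoin_of_top (t : F') (ht : IntermediateField.adjoin F {t} = ⊤) :
    Algebra.IsAlgebraic (Algebra.adjoin F {t}) F' := by
  constructor
  intro y
  have hy : y ∈ IntermediateField.adjoin F {t} := by rw [ht]; trivial
  obtain ⟨r, s, rfl⟩ := (IntermediateField.mem_adjoin_simple_iff F y).1 hy
  have h1 : ∀ q : F[X], IsAlgebraic (Algebra.adjoin F {t}) (aeval t q) := by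
    intro q
    have : aeval t q ∈ Algebra.adjoin F {t} := by
      rw [Algebra.adjoin_singleton_eq_range_aeval]
      exact ⟨q, rfl⟩
    exact isAlgebraic_algebraMap (⟨aeval t q, this⟩ : Algebra.adjoin F {t})
  rw [div_eq_mul_inv]
  exact (h1 r).mul (h1 s).inv

theorem good_simple (t : F') (ht : IntermediateField.adjoin F {t} = ⊤) : Good k F F' := by
  haveI : Algebra.EssFiniteType F F' :=
    IntermediateField.fg_top_iff.mp ⟨{t}, by rw [Finset.coe_singleton]; exact ht⟩
  have htr : Algebra.trdeg F F' < ℵ₀ := trdeg_lt_aleph0 F F'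
  have hcd := cd_alpha k F F'
  have hkd := kd_alpha_le k F F'
  have hΩ : Module.rank F' Ω[F'⁄F] < ℵ₀ := Module.rank_lt_aleph0 F' _
  have hsm_of_sub : Subsingleton Ω[F'⁄F] → Algebra.FormallySmooth F F' := by
    intro h
    haveI : Algebra.FormallyUnramified F F' := ⟨h⟩
    haveI : Algebra.IsSeparable F F' := Algebra.FormallyUnramified.isSeparable F F'
    haveI : Algebra.FormallyEtale F F' := Algebra.FormallyEtale.of_isSeparable F F'
    infer_instance
  have hkd0 : Algebra.FormallySmooth F F' → kd (alpha k F F') = 0 := by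
    intro h
    have h0 : Module.rank F' (Algebra.H1Cotangent F F') = 0 := rank_subsingleton' _ _
    exact le_antisymm (h0 ▸ hkd) zero_le
  have htle : Algebra.trdeg F F' ≤ 1 := by
    haveI := isAlgebraic_adjoin_of_top F F' t ht
    have := Algebra.IsAlgebraic.trdeg_le_cardinalMk F ({t} : Set F')
    simpa using this
  by_cases halg : IsAlgebraic F t
  · have hsub : Algebra.adjoin F {t} = ⊤ := by
      rw [← IntermediateField.adjoin_simple_toSubalgebra_of_isAlgebraic halg, ht]
      rfl
    haveI : Algebra.IsAlgebraic F F' := by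
      haveI := IntermediateField.isAlgebraic_adjoin_simple halg.isIntegral
      constructor
      intro y
      have hy : y ∈ IntermediateField.adjoin F {t} := by rw [ht]; trivial
      exact IntermediateField.isAlgebraic_iff.1
        (Algebra.IsAlgebraic.isAlgebraic (⟨y, hy⟩ : IntermediateField.adjoin F {t}))
    have ht0 : Algebra.trdeg F F' = 0 := trdeg_eq_zero_iff.2 inferInstance
    by_cases hsubs : Subsingleton Ω[F'⁄F]
    · have h0 := hkd0 (hsm_of_sub hsubs)
      refine ⟨htr, by rw [h0]; exact Cardinal.aleph0_pos, by rw [hcd]; exact hΩ, ?_⟩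
      rw [ht0, h0]
      simp
    · have h1 : 1 ≤ Module.rank F' Ω[F'⁄F] := by
        rw [not_subsingleton_iff_nontrivial] at hsubs
        exact Cardinal.one_le_iff_ne_zero.2 (rank_pos (R := F') (M := Ω[F'⁄F])).ne'
      have h2 := hkd.trans (rank_h1Cotangent_le_one F F' t ht halg)
      refine ⟨htr, lt_of_le_of_lt h2 Cardinal.one_lt_aleph0, by rw [hcd]; exact hΩ, ?_⟩
      rw [ht0, hcd]
      have := Cardinal.toNat_le_toNat (h2.trans h1) hΩ
      simp only [map_zero, Nat.cast_zero]
      omega
  · have hne : ¬ Subsingleton Ω[F'⁄F] := by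
      intro h
      haveI : Algebra.FormallyUnramified F F' := ⟨h⟩
      haveI : Algebra.IsSeparable F F' := Algebra.FormallyUnramified.isSeparable F F'
      exact halg (Algebra.IsAlgebraic.isAlgebraic t)
    have hai : AlgebraicIndependent F (fun _ : Unit => t) :=
      algebraicIndependent_unique_type_iff.2 halg
    have hrange : Set.range (fun _ : Unit => t) = {t} := Set.range_const
    haveI : Algebra.FormallySmooth F F' :=
      Algebra.FormallySmooth.of_algebraicIndependent hai (by rw [hrange, ht])
    have h0 := hkd0 inferInstance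
    have h1 : 1 ≤ Module.rank F' Ω[F'⁄F] := by
      rw [not_subsingleton_iff_nontrivial] at hne
      exact Cardinal.one_le_iff_ne_zero.2 (rank_pos (R := F') (M := Ω[F'⁄F])).ne'
    refine ⟨htr, by rw [h0]; exact Cardinal.aleph0_pos, by rw [hcd]; exact hΩ, ?_⟩
    rw [h0, hcd]
    have := Cardinal.toNat_le_toNat (htle.trans h1) hΩ
    simp only [map_zero, Nat.cast_zero]
    omega

end simple2

end Groth.Agent.Helper8.Idx
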