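import Mathlib
import Groth.Agent.Helper8.Idx5
set_option autoImplicit false

universe u

namespace Groth.Agent.Helper8.Idx

open Cardinal Module TensorProduct Polynomial

section ind

variable (k : Type u) [Field k]

theorem adjoin_gen_eq_top {K L : Type u} [Field K] [Field L] [Algebra K L] (a : L) :
    IntermediateField.adjoin K {IntermediateField.AdjoinSimple.gen K a} = ⊤ := by
  apply IntermediateField.map_injective (IntermediateField.adjoin K {a}).val
  rw [IntermediateField.adjoin_map, Set.image_singleton, ← AlgHom.fieldRange_eq_map,
    IntermediateField.fieldRange_val]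
  rfl

theorem good_of_fg (n : ℕ) :
    ∀ (K L : Type u) [Field K] [Field L] [Algebra k K] [Algebra K L] [Algebra k L]
      [IsScalarTower k K L] (s : Fin n → L), IntermediateField.adjoin K (Set.range s) = ⊤ →
      Good k K L := by
  induction n with
  | zero =>
    intro K L _ _ _ _ _ _ s hs
    apply good_simple k K L 0
    rw [← hs]
    have : Set.range s = ∅ := Set.range_eq_empty s
    rw [this]
    simp
  | succ n ih =>
    intro K L _ _ _ _ _ _ s hs
    let F := IntermediateField.adjoin K {s 0}
    haveI : IsScalarTower k F L := IsScalarTower.of_algebraMap_eq (fun x => rfl)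
    have h1 : Good k K F := good_simple k K F (IntermediateField.AdjoinSimple.gen K (s 0))
      (adjoin_gen_eq_top (s 0))
    have h2 : Good k F L := by
      apply ih F L (Fin.tail s)
      rw [← IntermediateField.restrictScalars_eq_top_iff (K := K), IntermediateField.adjoin_adjoin_left,
        ← hs]
      congr 1
      ext y
      simp only [Set.singleton_union, Set.mem_insert_iff, Set.mem_range, Fin.tail]
      constructor
      · rintro (rfl | ⟨i, rfl⟩)
        · exact ⟨0, rfl⟩
        · exact ⟨i.succ, rfl⟩
      · rintro ⟨i, rfl⟩
        refine Fin.cases ?_ (fun j => ?_) i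
        · exact Or.inl rfl
        · exact Or.inr ⟨j, rfl⟩
    exact good_trans k K F L h1 h2

end ind

end Groth.Agent.Helper8.Idx
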