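import Mathlib
import Groth.Agent.Helper8.Idx6
set_option autoImplicit false

universe u

namespace Groth.Agent.Helper8.Idx

open Cardinal Module TensorProduct Polynomial

section eq

variable (k K L : Type u) [Field k] [Field K] [Field L] [Algebra k K] [Algebra K L] [Algebra k L]
  [IsScalarTower k K L]

/-- finiteness and the equality for `L / K` relative to `k` -/
def GoodEq : Prop :=
  Algebra.trdeg K L < ℵ₀ ∧ kd (alpha k K L) < ℵ₀ ∧ cd (alpha k K L) < ℵ₀ ∧
    (toNat (Algebra.trdeg K L) : ℤ) = (toNat (cd (alpha k K L)) : ℤ) - toNat (kd (alpha k K L))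

end eq

section trans

variable (k K F L : Type u) [Field k] [Field K] [Field F] [Field L]
  [Algebra k K] [Algebra k F] [Algebra k L] [Algebra K F] [Algebra K L] [Algebra F L]
  [IsScalarTower k K F] [IsScalarTower k K L] [IsScalarTower k F L] [IsScalarTower K F L]

theorem goodEq_trans (h1 : GoodEq k K F) (h2 : GoodEq k F L) : GoodEq k K L := by
  obtain ⟨ht1, hk1, hc1, hi1⟩ := h1
  obtain ⟨ht2, hk2, hc2, hi2⟩ := h2
  have hcomp := alpha_comp k K F L
  set e := TensorProduct.AlgebraTensorModule.cancelBaseChange K F L L Ω[K⁄k] with he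
  have hkd : kd (alpha k K L) = kd (alpha k F L ∘ₗ (alpha k K F).baseChange L) := by
    rw [← kd_comp_equiv (alpha k K L) e]
    exact congrArg kd hcomp
  have hcd : cd (alpha k K L) = cd (alpha k F L ∘ₗ (alpha k K F).baseChange L) := by
    rw [← cd_comp_equiv (alpha k K L) e]
    exact congrArg cd hcomp
  have hk1' : kd ((alpha k K F).baseChange L) < ℵ₀ := by rwa [kd_baseChange]
  have hc1' : cd ((alpha k K F).baseChange L) < ℵ₀ := by rwa [cd_baseChange]
  obtain ⟨hk, hc, hi⟩ := index_comp ((alpha k K F).baseChange L) (alpha k F L) hk1' hc1' hk2 hc2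
  rw [kd_baseChange, cd_baseChange] at hi
  have htr : Algebra.trdeg K F + Algebra.trdeg F L = Algebra.trdeg K L := _root_.trdeg_add_eq K F
  refine ⟨?_, by rwa [hkd], by rwa [hcd], ?_⟩
  · rw [← htr]; exact Cardinal.add_lt_aleph0 ht1 ht2
  · rw [hkd, hcd, hi, ← htr, Cardinal.toNat_add ht1 ht2]
    push_cast
    linarith

end trans

section simple

variable (F F' : Type u) [Field F] [Field F'] [Algebra F F']

/-- the differentials of a simple extension are spanned by `dt` -/
theorem rank_kaehler_simple_le_one (t : F') (ht : IntermediateField.adjoin F {t} = ⊤) :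
    Module.rank F' Ω[F'⁄F] ≤ 1 := by
  rw [rank_le_one_iff]
  refine ⟨KaehlerDifferential.D F F' t, ?_⟩
  have key : ∀ y : F', ∃ r : F', r • KaehlerDifferential.D F F' t = KaehlerDifferential.D F F' y := by
    intro y
    have hy : y ∈ IntermediateField.adjoin F {t} := by rw [ht]; trivial
    induction hy using IntermediateField.adjoin_induction with
    | mem x hx =>
      rw [Set.mem_singleton_iff] at hx
      subst hx
      exact ⟨1, one_smul _ _⟩
    | algebraMap x => exact ⟨0, by rw [zero_smul, Derivation.map_algebraMap]⟩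
    | add x y _ _ hx hy =>
      obtain ⟨r, hr⟩ := hx
      obtain ⟨s, hs⟩ := hy
      exact ⟨r + s, by rw [add_smul, hr, hs, map_add]⟩
    | inv x _ hx =>
      obtain ⟨r, hr⟩ := hx
      by_cases hx0 : x = 0
      · subst hx0
        exact ⟨0, by rw [zero_smul, inv_zero, map_zero]⟩
      · refine ⟨-(x⁻¹ ^ 2) * r, ?_⟩
        have h1 : KaehlerDifferential.D F F' (x * x⁻¹) = 0 := by
          rw [mul_inv_cancel₀ hx0]
          exact (KaehlerDifferential.D F F').map_one_eq_zero
        rw [Derivation.leibniz] at h1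
        have h2 : KaehlerDifferential.D F F' x⁻¹ = -(x⁻¹ ^ 2) • KaehlerDifferential.D F F' x := by
          have h3 : x • KaehlerDifferential.D F F' x⁻¹ = -(x⁻¹ • KaehlerDifferential.D F F' x) :=
            eq_neg_of_add_eq_zero_left h1
          have h4 := congrArg (fun z => x⁻¹ • z) h3
          simp only [smul_smul, inv_mul_cancel₀ hx0, one_smul, smul_neg] at h4
          rw [h4, neg_smul, pow_two]
        rw [h2, mul_smul, hr]
    | mul x y _ _ hx hy =>
      obtain ⟨r, hr⟩ := hx
      obtain ⟨s, hs⟩ := hy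
      exact ⟨x * s + y * r, by rw [add_smul, mul_smul, mul_smul, hr, hs, Derivation.leibniz]⟩
  intro ω
  have hω : ω ∈ Submodule.span F' (Set.range (KaehlerDifferential.D F F')) := by
    rw [KaehlerDifferential.span_range_derivation]; trivial
  induction hω using Submodule.span_induction with
  | mem x hx =>
    obtain ⟨y, rfl⟩ := hx
    exact key y
  | zero => exact ⟨0, zero_smul _ _⟩
  | add x y _ _ hx hy =>
    obtain ⟨r, hr⟩ := hx
    obtain ⟨s, hs⟩ := hy
    exact ⟨r + s, by rw [add_smul, hr, hs]⟩
  | smul a x _ hx =>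
    obtain ⟨r, hr⟩ := hx
    exact ⟨a * r, by rw [mul_smul, hr]⟩

end simple

end Groth.Agent.Helper8.Idx
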