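import Mathlib
import Groth.Agent.Helper8.Idx8
set_option autoImplicit false

universe u

namespace Groth.Agent.Helper8.Idx

open Cardinal Module TensorProduct Polynomial

section simple

variable (F F' : Type u) [Field F] [Field F'] [Algebra F F']

/-- for a simple algebraic extension `H¹` and `Ω` have the same dimension -/
theorem rank_h1Cotangent_eq (t : F') (ht : IntermediateField.adjoin F {t} = ⊤)
    (halg : IsAlgebraic F t) :
    Module.rank F' (Algebra.H1Cotangent F F') = Module.rank F' Ω[F'⁄F] := by
  have hsub : Algebra.adjoin F {t} = ⊤ := by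
    rw [← IntermediateField.adjoin_simple_toSubalgebra_of_isAlgebraic halg, ht]
    rfl
  have hsurj : Function.Surjective (MvPolynomial.aeval (R := F) (fun _ : Unit => t)) := by
    rw [← AlgHom.range_eq_top, ← Algebra.adjoin_range_eq_range_aeval, ← hsub]
    congr 1
    ext y
    simp
  let P : Algebra.Generators F F' Unit := Algebra.Generators.ofSurjective (fun _ : Unit => t) hsurj
  haveI : IsPrincipalIdealRing (MvPolynomial Unit F) :=
    IsPrincipalIdealRing.of_surjective (MvPolynomial.uniqueAlgEquiv F Unit).symm.toRingEquiv.toRingHom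
      (MvPolynomial.uniqueAlgEquiv F Unit).symm.surjective
  obtain ⟨g, hg⟩ : ∃ g, P.ker = Ideal.span {g} :=
    (IsPrincipalIdealRing.principal P.ker).principal
  have hgmem : g ∈ P.ker := by rw [hg]; exact Ideal.mem_span_singleton_self g
  have hcot : Module.rank F' P.toExtension.Cotangent ≤ 1 := by
    rw [rank_le_one_iff]
    refine ⟨Algebra.Extension.Cotangent.mk ⟨g, hgmem⟩, fun c => ?_⟩
    obtain ⟨⟨x, hx⟩, rfl⟩ := Algebra.Extension.Cotangent.mk_surjective c
    have hx' : x ∈ (Ideal.span {g} : Ideal P.Ring) := by rw [← hg]; exact hx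
    obtain ⟨a, ha⟩ := Ideal.mem_span_singleton'.1 hx'
    refine ⟨algebraMap P.toExtension.Ring F' a, ?_⟩
    rw [algebraMap_smul, ← map_smul]
    congr 1
    exact Subtype.ext ha
  -- the kernel is nonzero and proper
  have hker_ne_bot : P.ker ≠ ⊥ := by
    intro h
    have hinj : Function.Injective (MvPolynomial.aeval (R := F) (fun _ : Unit => t)) := by
      rw [← AlgHom.coe_toRingHom, RingHom.injective_iff_ker_eq_bot]
      exact h
    have : AlgebraicIndependent F (fun _ : Unit => t) := algebraicIndependent_iff_injective_aeval.2 hinj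
    exact (algebraicIndependent_unique_type_iff.1 this) halg
  have hg0 : g ≠ 0 := by
    rintro rfl
    apply hker_ne_bot
    rw [hg]
    simp
  have hker_ne_top : P.ker ≠ ⊤ := RingHom.ker_ne_top _
  have hmk : Algebra.Extension.Cotangent.mk (P := P.toExtension) ⟨g, hgmem⟩ ≠ 0 := by
    intro h0
    rw [Algebra.Extension.Cotangent.mk_eq_zero_iff] at h0
    have h1 : g ∈ (Ideal.span {g} : Ideal P.Ring) ^ 2 := by rw [← hg]; exact h0
    rw [Ideal.span_singleton_pow, Ideal.mem_span_singleton'] at h1
    obtain ⟨a, ha⟩ := h1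
    have h2 : g * (a * g - 1) = 0 := by
      have : g * (a * g - 1) = a * g ^ 2 - g := by ring
      rw [this, ha, sub_self]
    rcases mul_eq_zero.1 h2 with h3 | h3
    · exact hg0 h3
    · apply hker_ne_top
      rw [Ideal.eq_top_iff_one, hg, Ideal.mem_span_singleton']
      exact ⟨a, sub_eq_zero.1 h3⟩
  have hcot1 : Module.rank F' P.toExtension.Cotangent = 1 := by
    apply le_antisymm hcot
    haveI : Nontrivial P.toExtension.Cotangent := ⟨⟨_, 0, hmk⟩⟩
    exact Cardinal.one_le_iff_ne_zero.2 (rank_pos (R := F') (M := P.toExtension.Cotangent)).ne'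
  have hsp1 : Module.rank F' P.toExtension.CotangentSpace = 1 := by
    rw [rank_eq_card_basis P.cotangentSpaceBasis]
    simp
  -- rank-nullity twice
  have e1 := LinearMap.rank_range_add_rank_ker P.toExtension.cotangentComplex
  have e2 := Submodule.rank_quotient_add_rank (LinearMap.range P.toExtension.cotangentComplex)
  have e3 : Module.rank F' (P.toExtension.CotangentSpace ⧸ LinearMap.range P.toExtension.cotangentComplex)
      = Module.rank F' Ω[F'⁄F] := by
    rw [← LinearMap.exact_iff.1 P.toExtension.exact_cotangentComplex_toKaehler]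
    exact (P.toExtension.toKaehler.quotKerEquivOfSurjective P.toExtension.toKaehler_surjective).rank_eq
  have e4 : Module.rank F' (Algebra.H1Cotangent F F') =
      Module.rank F' (LinearMap.ker P.toExtension.cotangentComplex) :=
    P.equivH1Cotangent.rank_eq.symm
  rw [e4]
  rw [hcot1] at e1
  rw [hsp1, e3] at e2
  set c := Module.rank F' (LinearMap.range P.toExtension.cotangentComplex)
  set h := Module.rank F' (LinearMap.ker P.toExtension.cotangentComplex)
  set w := Module.rank F' Ω[F'⁄F]
  have hc : c < ℵ₀ := lt_of_le_of_lt (by rw [← e1]; exact self_le_add_right _ _) Cardinal.one_lt_aleph0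
  have hh : h < ℵ₀ := lt_of_le_of_lt (by rw [← e1]; exact self_le_add_left _ _) Cardinal.one_lt_aleph0
  have hw : w < ℵ₀ := lt_of_le_of_lt (by rw [← e2]; exact self_le_add_right _ _) Cardinal.one_lt_aleph0
  obtain ⟨c', hc'⟩ := Cardinal.lt_aleph0.1 hc
  obtain ⟨h', hh'⟩ := Cardinal.lt_aleph0.1 hh
  obtain ⟨w', hw'⟩ := Cardinal.lt_aleph0.1 hw
  rw [hc', hh'] at e1
  rw [hc', hw'] at e2
  rw [hh', hw']
  have e1' : c' + h' = 1 := by exact_mod_cast e1
  have e2' : w' + c' = 1 := by exact_mod_cast e2
  have : h' = w' := by omega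
  rw [this]

end simple

end Groth.Agent.Helper8.Idx
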