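import Mathlib
import Groth.Agent.Helper8.Idx9
set_option autoImplicit false

universe u

namespace Groth.Agent.Helper8.Idx

open Cardinal Module TensorProduct Polynomial

section gen

variable (k K L : Type u) [Field k] [Field K] [Field L] [Algebra k K] [Algebra K L] [Algebra k L]
  [IsScalarTower k K L]

theorem kd_alpha_eq (hk : Subsingleton (Algebra.H1Cotangent k L)) :
    kd (alpha k K L) = Module.rank L (Algebra.H1Cotangent K L) := by
  unfold kd alpha
  have h := Algebra.H1Cotangent.exact_δ_mapBaseChange k K L
  rw [LinearMap.exact_iff] at h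
  rw [h]
  apply rank_range_of_injective
  have h2 := Algebra.H1Cotangent.exact_map_δ k K L
  rw [injective_iff_map_eq_zero]
  intro x hx
  obtain ⟨y, rfl⟩ := (h2 x).1 hx
  rw [Subsingleton.elim y 0, map_zero]

end gen

section simple2

variable (k F F' : Type u) [Field k] [Field F] [Field F'] [Algebra k F] [Algebra k F'] [Algebra F F']
  [IsScalarTower k F F']

theorem goodEq_simple (t : F') (ht : IntermediateField.adjoin F {t} = ⊤)
    (hk : Subsingleton (Algebra.H1Cotangent k F')) : GoodEq k F F' := by
  haveI : Algebra.EssFiniteType F F' :=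
    IntermediateField.fg_top_iff.mp ⟨{t}, by rw [Finset.coe_singleton]; exact ht⟩
  have htr : Algebra.trdeg F F' < ℵ₀ := trdeg_lt_aleph0 F F'
  have hcd := cd_alpha k F F'
  have hkd := kd_alpha_eq k F F' hk
  have hΩ : Module.rank F' Ω[F'⁄F] < ℵ₀ := Module.rank_lt_aleph0 F' _
  by_cases halg : IsAlgebraic F t
  · haveI : Algebra.IsAlgebraic F F' := by
      haveI := IntermediateField.isAlgebraic_adjoin_simple halg.isIntegral
      constructor
      intro y
      have hy : y ∈ IntermediateField.adjoin F {t} := by rw [ht]; trivial
      exact IntermediateField.isAlgebraic_iff.1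
        (Algebra.IsAlgebraic.isAlgebraic (⟨y, hy⟩ : IntermediateField.adjoin F {t}))
    have ht0 : Algebra.trdeg F F' = 0 := trdeg_eq_zero_iff.2 inferInstance
    have heq := rank_h1Cotangent_eq F F' t ht halg
    refine ⟨htr, by rw [hkd, heq]; exact hΩ, by rw [hcd]; exact hΩ, ?_⟩
    rw [ht0, hkd, hcd, heq]
    simp
  · have hai : AlgebraicIndependent F (fun _ : PUnit.{u + 1} => t) :=
      algebraicIndependent_unique_type_iff.2 halg
    have hrange : Set.range (fun _ : PUnit.{u + 1} => t) = {t} := Set.range_const
    haveI : Algebra.FormallySmooth F F' :=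
      Algebra.FormallySmooth.of_algebraicIndependent hai (by rw [hrange, ht])
    have h0 : kd (alpha k F F') = 0 := by
      rw [hkd]
      exact rank_subsingleton' _ _
    have hne : ¬ Subsingleton Ω[F'⁄F] := by
      intro h
      haveI : Algebra.FormallyUnramified F F' := ⟨h⟩
      haveI : Algebra.IsSeparable F F' := Algebra.FormallyUnramified.isSeparable F F'
      exact halg (Algebra.IsAlgebraic.isAlgebraic t)
    have h1 : Module.rank F' Ω[F'⁄F] = 1 := by
      apply le_antisymm (rank_kaehler_simple_le_one F F' t ht)
      rw [not_subsingleton_iff_nontrivial] at hne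
      exact Cardinal.one_le_iff_ne_zero.2 (rank_pos (R := F') (M := Ω[F'⁄F])).ne'
    have ht1 : Algebra.trdeg F F' = 1 := by
      apply le_antisymm
      · haveI := isAlgebraic_adjoin_of_top F F' t ht
        have := Algebra.IsAlgebraic.trdeg_le_cardinalMk F ({t} : Set F')
        simpa using this
      · have := hai.cardinalMk_le_trdeg
        simpa using this
    refine ⟨htr, by rw [h0]; exact Cardinal.aleph0_pos, by rw [hcd]; exact hΩ, ?_⟩
    rw [h0, hcd, h1, ht1]
    simp

end simple2

section ind

variable (k : Type u) [Field k]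

theorem goodEq_of_fg (hk : ∀ (E : Type u) [Field E] [Algebra k E], Subsingleton (Algebra.H1Cotangent k E))
    (n : ℕ) :
    ∀ (K L : Type u) [Field K] [Field L] [Algebra k K] [Algebra K L] [Algebra k L]
      [IsScalarTower k K L] (s : Fin n → L), IntermediateField.adjoin K (Set.range s) = ⊤ →
      GoodEq k K L := by
  induction n with
  | zero =>
    intro K L _ _ _ _ _ _ s hs
    apply goodEq_simple k K L 0 _ (hk L)
    rw [← hs]
    have : Set.range s = ∅ := Set.range_eq_empty s
    rw [this]
    simp
  | succ n ih =>
    intro K L _ _ _ _ _ _ s hs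
    let F := IntermediateField.adjoin K {s 0}
    haveI : IsScalarTower k F L := IsScalarTower.of_algebraMap_eq (fun x => rfl)
    have h1 : GoodEq k K F := goodEq_simple k K F (IntermediateField.AdjoinSimple.gen K (s 0))
      (adjoin_gen_eq_top (s 0)) (hk F)
    have h2 : GoodEq k F L := by
      apply ih F L (Fin.tail s)
      rw [← IntermediateField.restrictScalars_eq_top_iff (K := K), IntermediateField.adjoin_adjoin_left,
        ← hs]
      congr 1
      ext y
      simp only [Set.singleton_union, Set.mem_insert_iff, Set.mem_range, Fin.tail]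
      constructor
      · rintro (rfl | ⟨i, rfl⟩)
        · exact ⟨0, rfl⟩
        · exact ⟨i.succ, rfl⟩
      · rintro ⟨i, rfl⟩
        refine Fin.cases ?_ (fun j => ?_) i
        · exact Or.inl rfl
        · exact Or.inr ⟨j, rfl⟩
    exact goodEq_trans k K F L h1 h2

variable {k}
variable {K L : Type u} [Field K] [Field L]
  [Algebra k K] [Algebra K L] [Algebra k L] [IsScalarTower k K L]

theorem goodEq_of_essFiniteType
    (hk : ∀ (E : Type u) [Field E] [Algebra k E], Subsingleton (Algebra.H1Cotangent k E))
    [Algebra.EssFiniteType K L] : GoodEq k K L := by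
  obtain ⟨S, hS⟩ := IntermediateField.fg_top K L
  let s : Fin S.card → L := fun i => ((S.equivFin.symm i : S) : L)
  have hrange : Set.range s = (S : Set L) := by
    ext y
    constructor
    · rintro ⟨i, rfl⟩
      exact (S.equivFin.symm i).2
    · intro hy
      exact ⟨S.equivFin ⟨y, hy⟩, by simp [s]⟩
  exact goodEq_of_fg k hk S.card K L s (by rw [hrange, hS])

end ind

end Groth.Agent.Helper8.Idx
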