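import Mathlib
import Groth.Agent.Helper8.Idx10
import Groth.Agent.Helper1.FieldSmooth8
import Groth.Prelude.Def_EGA41
set_option autoImplicit false

universe u

namespace Groth.Agent.Helper8.Idx

open Cardinal Module TensorProduct Polynomial

section transfer

variable (R R' : Type*) [CommRing R] [CommRing R'] [Algebra R R']
  (A : Type*) [CommRing A] [Algebra R A] [Algebra R' A] [IsScalarTower R R' A]

theorem map_bijective_of_subsingleton [Subsingleton (Ω[R'⁄R])] :
    Function.Bijective (KaehlerDifferential.map R R' A A) := by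
  refine ⟨?_, KaehlerDifferential.map_surjective R R' A⟩
  rw [injective_iff_map_eq_zero]
  intro x hx
  obtain ⟨y, hy⟩ := (KaehlerDifferential.exact_mapBaseChange_map R R' A x).mp hx
  have : y = 0 := Subsingleton.elim _ _
  rw [← hy, this, map_zero]

end transfer

section transfer2

variable (k : Type u) [Field k] [Subsingleton (Ω[k⁄ℤ])]
  (K L : Type u) [Field K] [Field L] [Algebra k K] [Algebra K L] [Algebra k L] [IsScalarTower k K L]

theorem kd_int_eq :
    Module.rank L (EGA41.imperfection ℤ K L) = kd (alpha k K L) := by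
  have hK := map_bijective_of_subsingleton ℤ k K
  have hL := map_bijective_of_subsingleton ℤ k L
  let eK : Ω[K⁄ℤ] ≃ₗ[K] Ω[K⁄k] := LinearEquiv.ofBijective _ hK
  let eL : Ω[L⁄ℤ] ≃ₗ[L] Ω[L⁄k] := LinearEquiv.ofBijective _ hL
  let eKL : L ⊗[K] Ω[K⁄ℤ] ≃ₗ[L] L ⊗[K] Ω[K⁄k] := eK.baseChange K L _ _
  have hcomm : (alpha k K L) ∘ₗ eKL.toLinearMap =
      eL.toLinearMap ∘ₗ (KaehlerDifferential.mapBaseChange ℤ K L) := by
    have h1 : ∀ x, eKL x = (LinearMap.lTensor L (KaehlerDifferential.map ℤ k K K)) x := by
      intro x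
      induction x using TensorProduct.induction_on with
      | zero => simp
      | add x y hx hy => rw [map_add, map_add, hx, hy]
      | tmul l ω => rfl
    refine LinearMap.ext fun x => ?_
    have := Groth.Agent.Helper1.FieldSmooth.mapBaseChange_comm ℤ k K L x
    rw [LinearMap.comp_apply, LinearMap.comp_apply, LinearEquiv.coe_coe, LinearEquiv.coe_coe, h1]
    exact this
  have h1 : kd (alpha k K L) = kd ((alpha k K L) ∘ₗ eKL.toLinearMap) :=
    (kd_comp_equiv (alpha k K L) eKL).symm
  rw [h1, hcomm]
  unfold kd EGA41.imperfection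
  rw [LinearEquiv.ker_comp]

end transfer2

end Groth.Agent.Helper8.Idx
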