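import Mathlib
import Groth.Agent.Helper8.Idx6
import Groth.Prelude.Def_EGA41
set_option autoImplicit false

universe u

namespace Groth.Agent.Helper8.Idx

open Cardinal Module TensorProduct Polynomial

section final

variable {k K L : Type u} [Field k] [Field K] [Field L]
  [Algebra k K] [Algebra K L] [Algebra k L] [IsScalarTower k K L]

omit [Field k] [Field K] [Algebra k K] [Algebra K L] [Algebra k L] [IsScalarTower k K L] in
theorem finite_of_rank_lt {V : Type u} [AddCommGroup V] [Module L V] (p : Submodule L V)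
    (h : Module.rank L p < ℵ₀) : Module.Finite L p := Module.rank_lt_aleph0_iff.1 h

theorem good_of_essFiniteType [Algebra.EssFiniteType K L] : Good k K L := by
  obtain ⟨S, hS⟩ := IntermediateField.fg_top K L
  let s : Fin S.card → L := fun i => ((S.equivFin.symm i : S) : L)
  have hrange : Set.range s = (S : Set L) := by
    ext y
    constructor
    · rintro ⟨i, rfl⟩
      exact (S.equivFin.symm i).2
    · intro hy
      exact ⟨S.equivFin ⟨y, hy⟩, by simp [s]⟩
  exact good_of_fg k S.card K L s (by rw [hrange, hS])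

theorem cartier [Algebra.EssFiniteType K L] :
    Module.Finite L (Ω[L⁄K]) ∧ Module.Finite L (EGA41.imperfection k K L) ∧
      (Cardinal.toNat (Algebra.trdeg K L) : ℤ) ≤
        (Module.finrank L (Ω[L⁄K]) : ℤ) - Module.finrank L (EGA41.imperfection k K L) := by
  obtain ⟨ht, hk, hc, hi⟩ := good_of_essFiniteType (k := k) (K := K) (L := L)
  have hfin : Module.Finite L (LinearMap.ker (alpha k K L)) := finite_of_rank_lt _ hk
  refine ⟨inferInstance, hfin, ?_⟩
  rw [cd_alpha] at hi
  exact hi

theorem cartier' [Algebra.EssFiniteType k L] :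
    Module.Finite L (Ω[L⁄k]) ∧ Module.Finite K (Ω[K⁄k]) ∧
      (Cardinal.toNat (Algebra.trdeg K L) : ℤ) ≤
        (Module.finrank L (Ω[L⁄k]) : ℤ) - Module.finrank K (Ω[K⁄k]) := by
  haveI : Algebra.EssFiniteType K L := Algebra.EssFiniteType.of_comp k K L
  obtain ⟨ht, hk, hc, hi⟩ := good_of_essFiniteType (k := k) (K := K) (L := L)
  have hΩ : Module.rank L Ω[L⁄k] < ℵ₀ := Module.rank_lt_aleph0 L _
  have e1 := LinearMap.rank_range_add_rank_ker (alpha k K L)
  have e2 := Submodule.rank_quotient_add_rank (LinearMap.range (alpha k K L))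
  have e3 : Module.rank L (L ⊗[K] Ω[K⁄k]) = Module.rank K Ω[K⁄k] := by
    rw [Module.rank_baseChange, Cardinal.lift_id]
  change Module.rank L (LinearMap.range (alpha k K L)) + kd (alpha k K L) = _ at e1
  change cd (alpha k K L) + Module.rank L (LinearMap.range (alpha k K L)) = _ at e2
  set r := Module.rank L (LinearMap.range (alpha k K L))
  have hr : r < ℵ₀ := by
    rw [← e2] at hΩ
    exact (Cardinal.add_lt_aleph0_iff.1 hΩ).2
  have hK : Module.rank K Ω[K⁄k] < ℵ₀ := by
    rw [← e3, ← e1]
    exact Cardinal.add_lt_aleph0 hr hk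
  refine ⟨inferInstance, Module.rank_lt_aleph0_iff.1 hK, ?_⟩
  have f1 : Module.finrank K Ω[K⁄k] = toNat r + toNat (kd (alpha k K L)) := by
    unfold Module.finrank
    rw [← e3, ← e1, Cardinal.toNat_add hr hk]
  have f2 : Module.finrank L Ω[L⁄k] = toNat (cd (alpha k K L)) + toNat r := by
    unfold Module.finrank
    rw [← e2, Cardinal.toNat_add hc hr]
  rw [f1, f2]
  push_cast
  linarith

end final

end Groth.Agent.Helper8.Idx
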