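import Mathlib
import Groth.Agent.Helper8.Idx11
import Groth.Agent.Helper8.Idx7
set_option autoImplicit false

universe u

namespace Groth.Agent.Helper8.Idx

open Cardinal Module TensorProduct Polynomial Groth.Agent.Helper1.FieldSmooth

section final

/-- the rationals in universe `u` -/
def QQ : Type u := ULift.{u} ℚ

noncomputable instance : Field QQ.{u} := inferInstanceAs (Field (ULift.{u} ℚ))

/-- the identification with `ℚ` -/
noncomputable def qqEquiv : QQ.{u} ≃+* ℚ := (ULift.ringEquiv (R := ℚ))

theorem cartier_eq_aux (k : Type u) [Field k] [Subsingleton (Ω[k⁄ℤ])]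
    (hk : ∀ (E : Type u) [Field E] [Algebra k E], Subsingleton (Algebra.H1Cotangent k E))
    {K L : Type u} [Field K] [Field L] [Algebra K L] [Algebra k K] [Algebra k L]
    [IsScalarTower k K L] [Algebra.EssFiniteType K L] :
    Module.Finite L (Ω[L⁄K]) ∧ Module.Finite L (EGA41.imperfection ℤ K L) ∧
      (Module.finrank L (Ω[L⁄K]) : ℤ) - Module.finrank L (EGA41.imperfection ℤ K L) =
        Cardinal.toNat (Algebra.trdeg K L) := by
  obtain ⟨ht, hkd, hcd, hi⟩ := goodEq_of_essFiniteType (k := k) (K := K) (L := L) hk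
  have h1 := kd_int_eq k K L
  refine ⟨inferInstance, finite_of_rank_lt _ (by rw [h1]; exact hkd), ?_⟩
  unfold Module.finrank
  rw [h1, ← cd_alpha k K L]
  linarith [hi]

theorem cartier_eq {K L : Type u} [Field K] [Field L] [Algebra K L] [Algebra.EssFiniteType K L] :
    Module.Finite L (Ω[L⁄K]) ∧ Module.Finite L (EGA41.imperfection ℤ K L) ∧
      (Module.finrank L (Ω[L⁄K]) : ℤ) - Module.finrank L (EGA41.imperfection ℤ K L) =
        Cardinal.toNat (Algebra.trdeg K L) := by
  obtain ⟨p, hp⟩ := CharP.exists K
  rcases CharP.char_is_prime_or_zero K p with hpp | hp0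
  · haveI : Fact p.Prime := ⟨hpp⟩
    letI : Algebra (PF.{u} p) K := (pfHom p K).toAlgebra
    letI : Algebra (PF.{u} p) L := ((algebraMap K L).comp (pfHom p K)).toAlgebra
    haveI : IsScalarTower (PF.{u} p) K L := IsScalarTower.of_algebraMap_eq fun _ => rfl
    haveI : Subsingleton (Ω[PF.{u} p⁄ℤ]) := by
      apply KaehlerDifferential.subsingleton_of_surjective
      intro a
      obtain ⟨n, hn⟩ := ZMod.intCast_surjective a.down
      refine ⟨n, ?_⟩
      apply ULift.ext
      rw [← hn]
      simp
    apply cartier_eq_aux (PF.{u} p)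
    intro E _ _
    haveI : CharP E p := charP_of_injective_algebraMap (algebraMap (PF.{u} p) E).injective p
    haveI : Algebra.FormallySmooth (PF.{u} p) E := formallySmooth_of_perfect p (pf_perfect p)
    infer_instance
  · subst hp0
    haveI : CharZero K := CharP.charP_to_charZero K
    haveI : CharZero QQ.{u} := qqEquiv.toRingHom.charZero
    letI : Algebra QQ.{u} K := ((algebraMap ℚ K).comp qqEquiv.toRingHom).toAlgebra
    letI : Algebra QQ.{u} L := ((algebraMap K L).comp (algebraMap QQ.{u} K)).toAlgebra
    haveI : IsScalarTower QQ.{u} K L := IsScalarTower.of_algebraMap_eq fun _ => rfl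
    haveI : Algebra.FormallyUnramified ℤ ℚ :=
      Algebra.FormallyUnramified.of_isLocalization (nonZeroDivisors ℤ)
    haveI : Algebra.FormallyUnramified ℤ QQ.{u} :=
      Algebra.FormallyUnramified.of_equiv
        ({ qqEquiv.symm with commutes' := fun n => by simp } : ℚ ≃ₐ[ℤ] QQ.{u})
    apply cartier_eq_aux QQ.{u}
    intro E _ _
    haveI : Algebra.FormallySmooth QQ.{u} E := formallySmooth_of_charZero
    infer_instance

end final

end Groth.Agent.Helper8.Idx
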