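import Mathlib
import Groth.Agent.Helper8.AdicReg
import Groth.Agent.Helper8.Idx12
import Groth.Agent.Helper1.FieldSmooth7
set_option autoImplicit false
universe u

namespace Groth.Agent.Helper8.AdicReg
open IsLocalRing MvPowerSeries Groth.Agent.Helper1.FieldSmooth Groth.Agent.Helper8.Idx

section perfect

variable {k A : Type u} [Field k] [CommRing A] [IsLocalRing A] [IsNoetherianRing A]
  [Algebra k A] [IsAdicComplete (maximalIdeal A) A]

/-- over a base field over which the residue field is formally smooth -/
theorem exists_equiv_of_smooth_residue [Algebra.FormallySmooth k (ResidueField A)]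
    (h : CAlgX.IsAdicFormallySmooth k A (maximalIdeal A)) :
    ∃ n : ℕ, Nonempty (MvPowerSeries (Fin n) (ResidueField A) ≃+* A) := by
  obtain ⟨s, hs⟩ := Algebra.FormallySmooth.exists_mkₐ_comp_eq_of_isAdicComplete
    (R := k) (A := ResidueField A) (S := A) (I := maximalIdeal A)
    (AlgHom.id k (ResidueField A))
  have hs' : ∀ x, residue A (s x) = x := fun x => congr($hs x)
  obtain ⟨n, φ, hφC, hφs, hφk⟩ := exists_presentation (s : ResidueField A →+* A) hs'
  let φₐ : MvPowerSeries (Fin n) (ResidueField A) →ₐ[k] A :=
    { φ with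
      commutes' := by
        intro c
        have : algebraMap k (MvPowerSeries (Fin n) (ResidueField A)) c =
            C (algebraMap k (ResidueField A) c) := by
          rw [MvPowerSeries.algebraMap_apply]
        change φ _ = _
        rw [this, hφC]
        exact s.commutes c }
  have hinj := injective_of_adic φₐ hφs hφk h
  exact ⟨n, ⟨RingEquiv.ofBijective φ ⟨hinj, hφs⟩⟩⟩

end perfect

section general

variable {k₀ A : Type u} [Field k₀] [CommRing A] [IsLocalRing A] [IsNoetherianRing A]
  [Algebra k₀ A] [IsAdicComplete (maximalIdeal A) A]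

theorem exists_equiv (h : CAlgX.IsAdicFormallySmooth k₀ A (maximalIdeal A)) :
    ∃ n : ℕ, Nonempty (MvPowerSeries (Fin n) (ResidueField A) ≃+* A) := by
  obtain ⟨p, hp⟩ := CharP.exists k₀
  rcases CharP.char_is_prime_or_zero k₀ p with hpp | hp0
  · haveI : Fact p.Prime := ⟨hpp⟩
    letI : Algebra (PF.{u} p) k₀ := (pfHom p k₀).toAlgebra
    letI : Algebra (PF.{u} p) A := ((algebraMap k₀ A).comp (pfHom p k₀)).toAlgebra
    haveI : IsScalarTower (PF.{u} p) k₀ A := IsScalarTower.of_algebraMap_eq fun _ => rfl
    haveI : Algebra.FormallySmooth (PF.{u} p) k₀ := formallySmooth_of_perfect p (pf_perfect p)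
    haveI : CharP (ResidueField A) p :=
      charP_of_injective_algebraMap (algebraMap (PF.{u} p) (ResidueField A)).injective p
    haveI : Algebra.FormallySmooth (PF.{u} p) (ResidueField A) :=
      formallySmooth_of_perfect p (pf_perfect p)
    exact exists_equiv_of_smooth_residue (k := PF.{u} p) (comp_base _ h)
  · subst hp0
    haveI : CharZero k₀ := CharP.charP_to_charZero k₀
    haveI : CharZero QQ.{u} := qqEquiv.toRingHom.charZero
    letI : Algebra QQ.{u} k₀ := ((algebraMap ℚ k₀).comp qqEquiv.toRingHom).toAlgebra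
    letI : Algebra QQ.{u} A := ((algebraMap k₀ A).comp (algebraMap QQ.{u} k₀)).toAlgebra
    haveI : IsScalarTower QQ.{u} k₀ A := IsScalarTower.of_algebraMap_eq fun _ => rfl
    haveI : Algebra.FormallySmooth QQ.{u} k₀ := formallySmooth_of_charZero
    haveI : Algebra.FormallySmooth QQ.{u} (ResidueField A) := formallySmooth_of_charZero
    exact exists_equiv_of_smooth_residue (k := QQ.{u}) (comp_base _ h)

theorem isRegularLocalRing (h : CAlgX.IsAdicFormallySmooth k₀ A (maximalIdeal A)) :
    IsRegularLocalRing A := by
  obtain ⟨n, ⟨e⟩⟩ := exists_equiv h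
  haveI := Groth.Agent.Helper5.MvPSDim.isRegular (ResidueField A) n
  exact IsRegularLocalRing.of_ringEquiv e

end general

end Groth.Agent.Helper8.AdicReg
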