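import Mathlib
import Groth.Prelude.Def_W4bk5brsh7111920

set_option autoImplicit false
universe u
open TopologicalSpace

namespace Groth.Agent.Helper8.ConnDim

section top
variable {X : Type u} [TopologicalSpace X]

theorem dim_nonneg_of_nonempty (Z : Set X) (hZ : Z.Nonempty) : 0 ≤ topologicalKrullDim Z := by
  obtain ⟨x, hx⟩ := hZ
  haveI : Nonempty (IrreducibleCloseds Z) :=
    ⟨⟨closure {(⟨x, hx⟩ : Z)}, isIrreducible_singleton.closure, isClosed_closure⟩⟩
  exact Order.krullDim_nonneg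

theorem dim_singleton (x : X) : topologicalKrullDim ({x} : Set X) = 0 := by
  apply le_antisymm
  · exact topologicalKrullDim_zero_of_discreteTopology _
  · exact dim_nonneg_of_nonempty _ (Set.singleton_nonempty x)

theorem one_le_dim [T0Space X] (Z : Set X) {a b : X} (ha : a ∈ Z) (hb : b ∈ Z) (hab : a ⤳ b)
    (hne : a ≠ b) : 1 ≤ topologicalKrullDim Z := by
  unfold topologicalKrullDim
  rw [Order.one_le_krullDim_iff]
  have hab' : (⟨a, ha⟩ : Z) ⤳ ⟨b, hb⟩ := (subtype_specializes_iff _ _).mpr hab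
  refine ⟨⟨closure {(⟨b, hb⟩ : Z)}, isIrreducible_singleton.closure, isClosed_closure⟩,
    ⟨closure {(⟨a, ha⟩ : Z)}, isIrreducible_singleton.closure, isClosed_closure⟩, ?_⟩
  rw [lt_iff_le_and_ne]
  constructor
  · refine SetLike.coe_subset_coe.mp ?_
    show closure {(⟨b, hb⟩ : Z)} ⊆ closure {(⟨a, ha⟩ : Z)}
    exact closure_minimal (Set.singleton_subset_iff.mpr hab'.mem_closure) isClosed_closure
  · intro h
    have h1 : closure {(⟨b, hb⟩ : Z)} = closure {(⟨a, ha⟩ : Z)} :=
      congrArg (fun s : IrreducibleCloseds Z => (s : Set Z)) h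
    have h2 : Inseparable (⟨b, hb⟩ : Z) ⟨a, ha⟩ := inseparable_iff_closure_eq.mpr h1
    exact hne (congrArg Subtype.val h2.eq).symm

theorem preirreducible_inter_open {S U : Set X} (hS : IsPreirreducible S) (hU : IsOpen U) :
    IsPreirreducible (U ∩ S) := by
  rintro u v hu hv ⟨x, ⟨hxU, hxS⟩, hxu⟩ ⟨y, ⟨hyU, hyS⟩, hyv⟩
  obtain ⟨z, hzS, hzu, hzv⟩ := hS (U ∩ u) (U ∩ v) (hU.inter hu) (hU.inter hv)
    ⟨x, hxS, hxU, hxu⟩ ⟨y, hyS, hyU, hyv⟩
  exact ⟨z, ⟨hzu.1, hzS⟩, hzu.2, hzv.2⟩

end top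

section ring
open PrimeSpectrum IsLocalRing

theorem dim_zeroLocus (R : Type u) [CommRing R] (I : Ideal R) :
    topologicalKrullDim (zeroLocus (I : Set R)) = ringKrullDim (R ⧸ I) := by
  have hf := PrimeSpectrum.isClosedEmbedding_comap_of_surjective (R ⧸ I) (Ideal.Quotient.mk I)
    Ideal.Quotient.mk_surjective
  have hr : Set.range (PrimeSpectrum.comap (Ideal.Quotient.mk I)) = zeroLocus (I : Set R) := by
    rw [range_comap_of_surjective _ _ Ideal.Quotient.mk_surjective, Ideal.mk_ker]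
  rw [← hr, ← PrimeSpectrum.topologicalKrullDim_eq_ringKrullDim]
  exact (IsHomeomorph.topologicalKrullDim_eq _
    hf.isEmbedding.toHomeomorph.isHomeomorph).symm

variable (R : Type u) [CommRing R] [IsLocalRing R]

theorem closedPoint_mem_of_closed {Z : Set (PrimeSpectrum R)} (hZ : IsClosed Z)
    (hne : Z.Nonempty) : closedPoint R ∈ Z := by
  obtain ⟨x, hx⟩ := hne
  exact (specializes_closedPoint x).mem_closed hZ hx

theorem isConnected_univ_spec : IsConnected (Set.univ : Set (PrimeSpectrum R)) := by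
  refine ⟨⟨closedPoint R, trivial⟩, ?_⟩
  rw [isPreconnected_closed_iff]
  intro t t' ht ht' _ h1 h2
  obtain ⟨x, _, hx⟩ := h1
  obtain ⟨y, _, hy⟩ := h2
  exact ⟨closedPoint R, trivial, closedPoint_mem_of_closed R ht ⟨x, hx⟩,
    closedPoint_mem_of_closed R ht' ⟨y, hy⟩⟩

theorem nonempty_of_candidate {Z : Set (PrimeSpectrum R)} (hZ : ¬ IsConnected Zᶜ) :
    Z.Nonempty := by
  by_contra hne
  rw [Set.not_nonempty_iff_eq_empty] at hne
  apply hZ
  rw [hne, Set.compl_empty]
  exact isConnected_univ_spec R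

theorem connDim_eq_zero_iff :
    LocCoh.connDim (PrimeSpectrum R) = 0 ↔
      ¬ IsConnected ({closedPoint R}ᶜ : Set (PrimeSpectrum R)) := by
  have hnonneg : (0 : WithBot ℕ∞) ≤ LocCoh.connDim (PrimeSpectrum R) := by
    unfold LocCoh.connDim
    refine le_iInf₂ (fun Z hZ => ?_)
    exact dim_nonneg_of_nonempty _ (nonempty_of_candidate R hZ.2)
  constructor
  · intro h hconn
    have h1 : (1 : WithBot ℕ∞) ≤ LocCoh.connDim (PrimeSpectrum R) := by
      unfold LocCoh.connDim
      refine le_iInf₂ (fun Z hZ => ?_)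
      have hZne : Z.Nonempty := nonempty_of_candidate R hZ.2
      have hm : closedPoint R ∈ Z := closedPoint_mem_of_closed R hZ.1 hZne
      have hex : ∃ P ∈ Z, P ≠ closedPoint R := by
        by_contra hall
        push Not at hall
        apply hZ.2
        have hZeq : Z = {closedPoint R} := Set.eq_singleton_iff_unique_mem.mpr ⟨hm, hall⟩
        rw [hZeq]; exact hconn
      obtain ⟨P, hP, hPne⟩ := hex
      exact one_le_dim Z hP hm (specializes_closedPoint P) hPne
    rw [h] at h1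
    exact absurd h1 (by simp)
  · intro hnc
    apply le_antisymm _ hnonneg
    unfold LocCoh.connDim
    calc (⨅ (Z : Set (PrimeSpectrum R)) (_ : IsClosed Z ∧ ¬ IsConnected Zᶜ),
          topologicalKrullDim Z)
        ≤ topologicalKrullDim ({closedPoint R} : Set (PrimeSpectrum R)) :=
          iInf₂_le ({closedPoint R} : Set (PrimeSpectrum R))
            ⟨isClosed_singleton_closedPoint R, hnc⟩
      _ = 0 := dim_singleton _

theorem claimB (p q : Ideal R) (hpq : p ≠ q) (hmin : minimalPrimes R = {p, q}) :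
    ¬ IsConnected ({closedPoint R}ᶜ : Set (PrimeSpectrum R)) ↔
      zeroLocus ((p ⊔ q : Ideal R) : Set R) ⊆ {closedPoint R} := by
  have hp : p ∈ minimalPrimes R := by rw [hmin]; simp
  have hq : q ∈ minimalPrimes R := by rw [hmin]; simp
  have hpP : p.IsPrime := hp.1.1
  have hqP : q.IsPrime := hq.1.1
  have hpm : p ≤ maximalIdeal R := le_maximalIdeal hpP.ne_top
  have hqm : q ≤ maximalIdeal R := le_maximalIdeal hqP.ne_top
  have hpne : (⟨p, hpP⟩ : PrimeSpectrum R) ≠ closedPoint R := by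
    intro h
    have h1 : p = maximalIdeal R := congrArg PrimeSpectrum.asIdeal h
    have h2 : q ≤ p := h1 ▸ hqm
    exact hpq (le_antisymm (hp.2 ⟨hqP, bot_le⟩ h2) h2)
  have hqne : (⟨q, hqP⟩ : PrimeSpectrum R) ≠ closedPoint R := by
    intro h
    have h1 : q = maximalIdeal R := congrArg PrimeSpectrum.asIdeal h
    have h2 : p ≤ q := h1 ▸ hpm
    exact hpq (le_antisymm h2 (hq.2 ⟨hpP, bot_le⟩ h2))
  have hcover : ∀ x : PrimeSpectrum R, p ≤ x.asIdeal ∨ q ≤ x.asIdeal := by
    intro x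
    obtain ⟨p', hp', hle⟩ := Ideal.exists_minimalPrimes_le (bot_le : (⊥ : Ideal R) ≤ x.asIdeal)
    have hp'' : p' ∈ minimalPrimes R := hp'
    rw [hmin] at hp''
    rcases hp'' with rfl | hp''
    · exact Or.inl hle
    · rw [Set.mem_singleton_iff] at hp''
      subst hp''
      exact Or.inr hle
  have hmz : ∀ (I : Ideal R) (x : PrimeSpectrum R), x ∈ zeroLocus (I : Set R) ↔ I ≤ x.asIdeal :=
    fun I x => (PrimeSpectrum.mem_zeroLocus x _).trans SetLike.coe_subset_coe
  have hUopen : IsOpen ({closedPoint R}ᶜ : Set (PrimeSpectrum R)) :=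
    isOpen_compl_iff.mpr (isClosed_singleton_closedPoint R)
  constructor
  · intro hnc P hP
    by_contra hPne
    apply hnc
    have hPle : p ⊔ q ≤ P.asIdeal := (hmz _ P).mp hP
    have hPp : P ∈ ({closedPoint R}ᶜ : Set (PrimeSpectrum R)) ∩ zeroLocus (p : Set R) :=
      ⟨hPne, (hmz p P).mpr (le_sup_left.trans hPle)⟩
    have hPq : P ∈ ({closedPoint R}ᶜ : Set (PrimeSpectrum R)) ∩ zeroLocus (q : Set R) :=
      ⟨hPne, (hmz q P).mpr (le_sup_right.trans hPle)⟩
    have h1 : IsPreconnected (({closedPoint R}ᶜ : Set (PrimeSpectrum R)) ∩ zeroLocus (p : Set R)) :=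
      (preirreducible_inter_open
        ((isIrreducible_zeroLocus_iff_of_radical p hpP.isRadical).mpr hpP).isPreirreducible
        hUopen).isPreconnected
    have h2 : IsPreconnected (({closedPoint R}ᶜ : Set (PrimeSpectrum R)) ∩ zeroLocus (q : Set R)) :=
      (preirreducible_inter_open
        ((isIrreducible_zeroLocus_iff_of_radical q hqP.isRadical).mpr hqP).isPreirreducible
        hUopen).isPreconnected
    have hU : ({closedPoint R}ᶜ : Set (PrimeSpectrum R)) =
        (({closedPoint R}ᶜ : Set (PrimeSpectrum R)) ∩ zeroLocus (p : Set R)) ∪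
          (({closedPoint R}ᶜ : Set (PrimeSpectrum R)) ∩ zeroLocus (q : Set R)) := by
      ext x
      constructor
      · intro hx
        rcases hcover x with h | h
        · exact Or.inl ⟨hx, (hmz p x).mpr h⟩
        · exact Or.inr ⟨hx, (hmz q x).mpr h⟩
      · rintro (h | h) <;> exact h.1
    refine ⟨⟨P, hPne⟩, ?_⟩
    rw [hU]
    exact IsPreconnected.union P hPp hPq h1 h2
  · intro hsub hc
    have h := isPreconnected_closed_iff.mp hc.isPreconnected (zeroLocus (p : Set R))
      (zeroLocus (q : Set R)) (isClosed_zeroLocus _) (isClosed_zeroLocus _)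
      (fun x _ => (hcover x).imp (fun h => (hmz p x).mpr h) (fun h => (hmz q x).mpr h))
      ⟨⟨p, hpP⟩, hpne, (hmz p _).mpr le_rfl⟩ ⟨⟨q, hqP⟩, hqne, (hmz q _).mpr le_rfl⟩
    obtain ⟨P, hPU, hPp, hPq⟩ := h
    have hPY : P ∈ zeroLocus ((p ⊔ q : Ideal R) : Set R) :=
      (hmz _ P).mpr (sup_le ((hmz p P).mp hPp) ((hmz q P).mp hPq))
    exact hPU (hsub hPY)

theorem main (R : Type u) [CommRing R] [IsNoetherianRing R] [IsLocalRing R] (p q : Ideal R)
    (hpq : p ≠ q) (hmin : minimalPrimes R = {p, q}) :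
    LocCoh.connDim (PrimeSpectrum R) = 0 ↔ ringKrullDim (R ⧸ (p ⊔ q)) = 0 := by
  rw [connDim_eq_zero_iff, claimB R p q hpq hmin, ← dim_zeroLocus]
  have hp : p ∈ minimalPrimes R := by rw [hmin]; simp
  have hq : q ∈ minimalPrimes R := by rw [hmin]; simp
  have hpm : p ≤ maximalIdeal R := le_maximalIdeal hp.1.1.ne_top
  have hqm : q ≤ maximalIdeal R := le_maximalIdeal hq.1.1.ne_top
  have hmY : closedPoint R ∈ zeroLocus ((p ⊔ q : Ideal R) : Set R) :=
    (PrimeSpectrum.mem_zeroLocus _ _).mpr (SetLike.coe_subset_coe.mpr (sup_le hpm hqm))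
  constructor
  · intro hsub
    have hY : zeroLocus ((p ⊔ q : Ideal R) : Set R) = {closedPoint R} :=
      Set.Subset.antisymm hsub (Set.singleton_subset_iff.mpr hmY)
    rw [hY]; exact dim_singleton _
  · intro hdim P hP
    by_contra hPne
    have h1 := one_le_dim _ hP hmY (specializes_closedPoint P) hPne
    rw [hdim] at h1
    exact absurd h1 (by simp)

end ring

end Groth.Agent.Helper8.ConnDim
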