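import Groth.Agent.Helper8.RDerHorseshoe

universe v u v' u'
open CategoryTheory CategoryTheory.Limits

namespace Groth.Agent.Helper8.RDerLib

lemma exact_transfer {D : Type u'} [Category.{v'} D] [Abelian D] {X₁ X₂ X₃ Y₁ Y₂ Y₃ : D}
    (f : X₁ ⟶ X₂) (g : X₂ ⟶ X₃) (f' : Y₁ ⟶ Y₂) (g' : Y₂ ⟶ Y₃) (a₁ : X₁ ≅ Y₁) (a₂ : X₂ ≅ Y₂)
    (a₃ : X₃ ≅ Y₃) (c₁ : f ≫ a₂.hom = a₁.hom ≫ f') (c₂ : g ≫ a₃.hom = a₂.hom ≫ g')
    (w' : f' ≫ g' = 0) (h : (ShortComplex.mk f' g' w').Exact) :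
    ∃ w : f ≫ g = 0, (ShortComplex.mk f g w).Exact := by
  have w : f ≫ g = 0 := by
    rw [← cancel_mono a₃.hom, Category.assoc, c₂, reassoc_of% c₁, w', comp_zero, zero_comp]
  refine ⟨w, ?_⟩
  exact (ShortComplex.exact_iff_of_iso
    (ShortComplex.isoMk a₁ a₂ a₃ c₁.symm c₂.symm : ShortComplex.mk f g w ≅ ShortComplex.mk f' g' w')).2 h

variable {C : Type u} [Category.{v} C] [Abelian C] {D : Type u'} [Category.{v'} D] [Abelian D]
  [HasInjectiveResolutions C]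

section
variable {S : ShortComplex C} (T : RDer.SESRes S) (F : C ⥤ D) [F.Additive]

lemma natf (n : ℕ) : (F.rightDerived n).map S.f ≫ (T.I₂.isoRightDerivedObj F n).hom =
    (T.I₁.isoRightDerivedObj F n).hom ≫
      HomologicalComplex.homologyMap ((F.mapHomologicalComplex _).map T.f) n :=
  InjectiveResolution.isoRightDerivedObj_hom_naturality S.f T.I₁ T.I₂ T.f (ι_f_zero T) F n

lemma natg (n : ℕ) : (F.rightDerived n).map S.g ≫ (T.I₃.isoRightDerivedObj F n).hom =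
    (T.I₂.isoRightDerivedObj F n).hom ≫
      HomologicalComplex.homologyMap ((F.mapHomologicalComplex _).map T.g) n :=
  InjectiveResolution.isoRightDerivedObj_hom_naturality S.g T.I₂ T.I₃ T.g (ι_g_zero T) F n

include T in
theorem les₂ (n : ℕ) : ∃ w : (F.rightDerived n).map S.f ≫ (F.rightDerived n).map S.g = 0,
    (ShortComplex.mk _ _ w).Exact :=
  exact_transfer _ _ _ _ (T.I₁.isoRightDerivedObj F n) (T.I₂.isoRightDerivedObj F n)
    (T.I₃.isoRightDerivedObj F n) (natf T F n) (natg T F n) _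
    ((T.map_shortExact F).homology_exact₂ n)

theorem les₃ (n₀ n₁ : ℕ) (h : n₀ + 1 = n₁) :
    ∃ w : (F.rightDerived n₀).map S.g ≫ T.delta F n₀ n₁ h = 0,
    (ShortComplex.mk _ _ w).Exact :=
  exact_transfer _ _ _ _ (T.I₂.isoRightDerivedObj F n₀) (T.I₃.isoRightDerivedObj F n₀)
    (T.I₁.isoRightDerivedObj F n₁) (natg T F n₀)
    (RDer.SESRes.delta_comp_isoRightDerivedObj_hom T F n₀ n₁ h) _
    ((T.map_shortExact F).homology_exact₃ n₀ n₁ h)

theorem les₁ (n₀ n₁ : ℕ) (h : n₀ + 1 = n₁) :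
    ∃ w : T.delta F n₀ n₁ h ≫ (F.rightDerived n₁).map S.f = 0,
    (ShortComplex.mk _ _ w).Exact :=
  exact_transfer _ _ _ _ (T.I₃.isoRightDerivedObj F n₀) (T.I₁.isoRightDerivedObj F n₁)
    (T.I₂.isoRightDerivedObj F n₁)
    (RDer.SESRes.delta_comp_isoRightDerivedObj_hom T F n₀ n₁ h) (natf T F n₁) _
    ((T.map_shortExact F).homology_exact₁ n₀ n₁ h)

end

section
variable {C : Type u} [Category.{v} C] [Abelian C] [EnoughInjectives C]
  {D : Type u'} [Category.{v'} D] [Abelian D] (F : C ⥤ D) [F.Additive]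

/-- chosen resolution of a short exact sequence -/
noncomputable def chosen {S : ShortComplex C} (hS : S.ShortExact) : RDer.SESRes S :=
  (nonempty_sesRes hS).some

noncomputable def derivedLES : RDer.DerivedLES F where
  δ _ hS n₀ n₁ h := (chosen hS).delta F n₀ n₁ h
  δ_eq _ _ T n₀ n₁ h := delta_eq _ T F n₀ n₁ h
  δ_natural hS hS' φ n₀ n₁ h := delta_natural φ (chosen hS) (chosen hS') F n₀ n₁ h
  exact₂ _ hS n := (les₂ (chosen hS) F n).2
  comp_δ _ hS n₀ n₁ h := (les₃ (chosen hS) F n₀ n₁ h).1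
  exact₃ _ hS n₀ n₁ h := (les₃ (chosen hS) F n₀ n₁ h).2
  δ_comp _ hS n₀ n₁ h := (les₁ (chosen hS) F n₀ n₁ h).1
  exact₁ _ hS n₀ n₁ h := (les₁ (chosen hS) F n₀ n₁ h).2

theorem main : Nonempty (RDer.DerivedLES F) := ⟨derivedLES F⟩

end

end Groth.Agent.Helper8.RDerLib
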