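import Mathlib
import Groth.Agent.S1353
import Groth.Agent.S7625

/-!
# Local structure of a morphism locally of finite type

`f : X → S` locally of finite type, `n = dim_x X_{f x}`: after an étale neighbourhood of `x` with
trivial residue field extension, `X` is finite over a scheme smooth of relative dimension `n`
over `S`.  Assembly of helper5's `S7625` (quasi-finite map to `𝔸^n` near `x`) and helper4's `S1353`
(étale localisation of quasi-finite morphisms).
-/

set_option autoImplicit false
universe u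
open AlgebraicGeometry CategoryTheory Limits

namespace Groth.Agent.Helper8.LocStr

section Alg

theorem isStandardSmoothOfRelDim_mvPolynomial (R : Type*) [CommRing R] [Nontrivial R]
    (σ : Type*) [Fintype σ] :
    Algebra.IsStandardSmoothOfRelativeDimension (Fintype.card σ) R (MvPolynomial σ R) := by
  haveI : Algebra.IsStandardSmooth R (MvPolynomial σ R) :=
    Algebra.IsStandardSmooth.of_basis_kaehlerDifferential
      (KaehlerDifferential.mvPolynomialBasis R σ) (by
        rintro _ ⟨i, rfl⟩
        exact ⟨MvPolynomial.X i, (KaehlerDifferential.mvPolynomialBasis_apply R σ i).symm⟩)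
  rw [Algebra.IsStandardSmoothOfRelativeDimension.iff_of_isStandardSmooth,
    rank_eq_card_basis (KaehlerDifferential.mvPolynomialBasis R σ)]

end Alg

section Sch

set_option backward.isDefEq.respectTransparency.types false in
theorem smoothOfRelDim_affineSpace (n : ℕ) (S : Scheme.{u}) :
    SmoothOfRelativeDimension n (𝔸(ULift.{u} (Fin n); S) ↘ S) := by
  haveI := smoothOfRelativeDimension_isStableUnderBaseChange.{u} n
  refine MorphismProperty.pullback_fst (P := @SmoothOfRelativeDimension n) _ _ ?_
  have := isIso_of_isTerminal specULiftZIsTerminal.{u} terminalIsTerminal (terminal.from _)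
  rw [← terminal.comp_from (Spec.map (CommRingCat.ofHom MvPolynomial.C)),
    MorphismProperty.cancel_right_of_respectsIso (P := @SmoothOfRelativeDimension n),
    HasRingHomProperty.Spec_iff (P := @SmoothOfRelativeDimension n)]
  apply RingHom.locally_of RingHom.isStandardSmoothOfRelativeDimension_respectsIso
  have h := isStandardSmoothOfRelDim_mvPolynomial (ULift.{u} ℤ) (ULift.{u} (Fin n))
  rw [Fintype.card_ulift, Fintype.card_fin] at h
  exact (RingHom.isStandardSmoothOfRelativeDimension_algebraMap _).mpr h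

theorem main {X S : Scheme.{u}} (f : X ⟶ S) [LocallyOfFiniteType f] (x : X) (n : ℕ)
    (hn : FlatMor.fibreDimAt f x = n) :
    ∃ (X' Y : Scheme.{u}) (g : X' ⟶ X) (π : X' ⟶ Y) (h : Y ⟶ S) (x' : X'),
      g ≫ f = π ≫ h ∧ Etale g ∧ g x' = x ∧
      Function.Surjective (g.residueFieldMap x') ∧ IsFinite π ∧ SmoothOfRelativeDimension n h ∧
      ∀ z : ↑X', π z = π x' → z = x' := by
  obtain ⟨V, hV, hsV, -⟩ := exists_isAffineOpen_mem_and_subset (x := f x) (U := ⊤) trivial
  obtain ⟨U, hU, hxU, g₀, π₀, hg₀, hπ₀, hqf, hlft⟩ :=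
    Groth.Agent.S7625.result f x V hV hsV n hn
  haveI := hqf
  haveI := hlft
  obtain ⟨Y, e, y, hnb, W, v, hvW, hfin, hsnd, huniq, hfst, hbij⟩ :=
    Groth.Agent.S1353.result π₀ ⟨x, hxU⟩ (π₀.quasiFiniteAt _)
  haveI : Etale e := hnb.etale
  refine ⟨↑W, Y, W.ι ≫ pullback.fst π₀ e ≫ U.ι, W.ι ≫ pullback.snd π₀ e,
    e ≫ (𝔸(ULift.{u} (Fin n); ↑V) ↘ ↑V) ≫ V.ι, ⟨v, hvW⟩, ?_, ?_, ?_, ?_, hfin, ?_, ?_⟩
  · simp only [Category.assoc]
    rw [← hg₀, ← hπ₀]
    simp only [Category.assoc]
    rw [pullback.condition_assoc]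
  · infer_instance
  · change U.ι (pullback.fst π₀ e v) = x
    rw [hfst]
    rfl
  · rw [Scheme.residueFieldMap_comp, Scheme.residueFieldMap_comp]
    have h1 : Function.Surjective (W.ι.residueFieldMap ⟨v, hvW⟩).hom :=
      (ConcreteCategory.bijective_of_isIso (W.ι.residueFieldMap ⟨v, hvW⟩)).2
    have h2 : Function.Surjective ((pullback.fst π₀ e).residueFieldMap (W.ι ⟨v, hvW⟩)).hom :=
      hbij.2
    have h3 : Function.Surjective
        (U.ι.residueFieldMap (pullback.fst π₀ e (W.ι ⟨v, hvW⟩))).hom :=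
      (ConcreteCategory.bijective_of_isIso
        (U.ι.residueFieldMap (pullback.fst π₀ e (W.ι ⟨v, hvW⟩)))).2
    exact h1.comp (h2.comp h3)
  · haveI := smoothOfRelDim_affineSpace n (↑V : Scheme.{u})
    have : SmoothOfRelativeDimension (0 + (n + 0))
        (e ≫ (𝔸(ULift.{u} (Fin n); ↑V) ↘ ↑V) ≫ V.ι) := inferInstance
    simpa using this
  · intro z hz
    apply Subtype.ext
    apply huniq z.1 z.2
    have : pullback.snd π₀ e z.1 = pullback.snd π₀ e v := hz
    rw [this, hsnd]

end Sch

end Groth.Agent.Helper8.LocStr
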