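import Mathlib

namespace Groth.Agent.Helper8.GeomIrr

open TensorProduct

/-- A rational point of a finitely generated algebra over an algebraically closed field avoiding
the vanishing locus of a non-nilpotent element. -/
theorem exists_algHom_ne_zero {F A : Type*} [Field F] [IsAlgClosed F] [CommRing A] [Algebra F A]
    [Algebra.FiniteType F A] (f : A) (hf : ¬ IsNilpotent f) : ∃ φ : A →ₐ[F] F, φ f ≠ 0 := by
  let Af := Localization.Away f
  haveI : Nontrivial Af := by
    rw [← not_subsingleton_iff_nontrivial, IsLocalization.subsingleton_iff (M := Submonoid.powers f)]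
    rintro ⟨n, hn⟩
    exact hf ⟨n, hn⟩
  haveI : Algebra.FiniteType F Af :=
    Algebra.FiniteType.trans (inferInstance : Algebra.FiniteType F A)
      (IsLocalization.finiteType_of_monoid_fg (Submonoid.powers f) Af)
  obtain ⟨m, hm⟩ := Ideal.exists_maximal Af
  letI := Ideal.Quotient.field m
  haveI : Algebra.FiniteType F (Af ⧸ m) :=
    Algebra.FiniteType.of_surjective (Ideal.Quotient.mkₐ F m) Ideal.Quotient.mk_surjective
  haveI : Module.Finite F (Af ⧸ m) := finite_of_finite_type_of_isJacobsonRing F (Af ⧸ m)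
  haveI : Algebra.IsIntegral F (Af ⧸ m) := Algebra.IsIntegral.of_finite F _
  have hbij := IsAlgClosed.algebraMap_bijective_of_isIntegral (k := F) (K := Af ⧸ m)
  let e : F ≃ₐ[F] (Af ⧸ m) := AlgEquiv.ofBijective (Algebra.ofId F _) hbij
  let ψ : A →ₐ[F] (Af ⧸ m) := (Ideal.Quotient.mkₐ F m).comp (IsScalarTower.toAlgHom F A Af)
  refine ⟨(e.symm : (Af ⧸ m) →ₐ[F] F).comp ψ, ?_⟩
  intro h0
  have h1 : ψ f = 0 := by
    have : e.symm (ψ f) = 0 := h0
    simpa using this
  have h2 : algebraMap A Af f ∈ m := by
    have : Ideal.Quotient.mk m (algebraMap A Af f) = 0 := h1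
    exact Ideal.Quotient.eq_zero_iff_mem.mp this
  exact hm.ne_top (Ideal.eq_top_of_isUnit_mem _ h2 (IsLocalization.Away.algebraMap_isUnit f))



section
variable {F A B : Type*} [Field F] [CommRing A] [Algebra F A] [CommRing B] [Algebra F B]
  {ι : Type*} (𝓑 : Module.Basis ι F B)

/-- coordinates are compatible with enlarging the left factor -/
theorem repr_map_val (A₀ : Subalgebra F A) (x : A₀ ⊗[F] B) (i : ι) :
    (Algebra.TensorProduct.basis A 𝓑).repr
      (Algebra.TensorProduct.map A₀.val (AlgHom.id F B) x) i =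
      ((Algebra.TensorProduct.basis A₀ 𝓑).repr x i : A) := by
  induction x using TensorProduct.induction_on with
  | zero => simp
  | tmul c y =>
    simp only [Algebra.TensorProduct.map_tmul, Subalgebra.coe_val, AlgHom.coe_id, id_eq,
      Algebra.TensorProduct.basis_repr_tmul, Finsupp.smul_apply, Finsupp.mapRange_apply,
      smul_eq_mul, Subalgebra.coe_mul, Subalgebra.coe_algebraMap]
  | add x y hx hy => simp only [map_add, Finsupp.add_apply, hx, hy, Subalgebra.coe_add]

/-- coordinates of the specialization along a point of the left factor -/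
theorem repr_specialize (φ : A →ₐ[F] F) (x : A ⊗[F] B) (i : ι) :
    𝓑.repr ((Algebra.TensorProduct.lid F B).toAlgHom.comp
      (Algebra.TensorProduct.map φ (AlgHom.id F B)) x) i =
      φ ((Algebra.TensorProduct.basis A 𝓑).repr x i) := by
  induction x using TensorProduct.induction_on with
  | zero => simp
  | tmul c y =>
    simp only [AlgHom.comp_apply, Algebra.TensorProduct.map_tmul, AlgHom.coe_id, id_eq,
      Algebra.TensorProduct.basis_repr_tmul, Finsupp.smul_apply, smul_eq_mul,
      Finsupp.mapRange_apply, map_mul, AlgHom.commutes, Algebra.algebraMap_self,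
      RingHom.id_apply]
    change 𝓑.repr ((Algebra.TensorProduct.lid F B) (φ c ⊗ₜ[F] y)) i = _
    rw [Algebra.TensorProduct.lid_tmul, map_smul, Finsupp.smul_apply, smul_eq_mul]
  | add x y hx hy =>
    simp only [map_add, Finsupp.add_apply] at hx hy ⊢
    rw [hx, hy]

end

/-- The tensor product of two domains over an algebraically closed field is a domain. -/
theorem isDomain_tensor {F A B : Type*} [Field F] [IsAlgClosed F] [CommRing A] [IsDomain A]
    [Algebra F A] [CommRing B] [IsDomain B] [Algebra F B] : IsDomain (A ⊗[F] B) := by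
  classical
  haveI : NoZeroDivisors (A ⊗[F] B) := by
    refine ⟨fun {a b} hab => ?_⟩
    by_contra hcon
    push_neg at hcon
    obtain ⟨ha, hb⟩ := hcon
    let 𝓑 := Module.Free.chooseBasis F B
    let 𝓐 := Algebra.TensorProduct.basis A 𝓑
    obtain ⟨l, hl⟩ : ∃ l, 𝓐.repr a l ≠ 0 := by
      by_contra h
      push_neg at h
      exact ha (𝓐.repr.injective (by ext i; simp [h i]))
    obtain ⟨m, hm⟩ : ∃ m, 𝓐.repr b m ≠ 0 := by
      by_contra h
      push_neg at h
      exact hb (𝓐.repr.injective (by ext i; simp [h i]))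
    let s : Finset A := ((𝓐.repr a).support.image (𝓐.repr a)) ∪
      ((𝓐.repr b).support.image (𝓐.repr b))
    let A₀ : Subalgebra F A := Algebra.adjoin F (s : Set A)
    haveI : Algebra.FiniteType F A₀ := (Subalgebra.fg_iff_finiteType _).mp ⟨s, rfl⟩
    have hmem_a : ∀ i, 𝓐.repr a i ∈ A₀ := fun i => by
      by_cases hi : i ∈ (𝓐.repr a).support
      · refine Algebra.subset_adjoin ?_
        simp only [s, Finset.coe_union, Finset.coe_image, Set.mem_union, Set.mem_image]
        exact Or.inl ⟨i, hi, rfl⟩
      · rw [Finsupp.notMem_support_iff.mp hi]; exact zero_mem _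
    have hmem_b : ∀ i, 𝓐.repr b i ∈ A₀ := fun i => by
      by_cases hi : i ∈ (𝓐.repr b).support
      · refine Algebra.subset_adjoin ?_
        simp only [s, Finset.coe_union, Finset.coe_image, Set.mem_union, Set.mem_image]
        exact Or.inr ⟨i, hi, rfl⟩
      · rw [Finsupp.notMem_support_iff.mp hi]; exact zero_mem _
    let r : A → A₀ := fun x => if h : x ∈ A₀ then ⟨x, h⟩ else 0
    have hr0 : r 0 = 0 := by simp [r]; rfl
    have hr : ∀ x (h : x ∈ A₀), r x = ⟨x, h⟩ := fun x h => dif_pos h
    let 𝓐₀ := Algebra.TensorProduct.basis A₀ 𝓑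
    let a' : A₀ ⊗[F] B := 𝓐₀.repr.symm (Finsupp.mapRange r hr0 (𝓐.repr a))
    let b' : A₀ ⊗[F] B := 𝓐₀.repr.symm (Finsupp.mapRange r hr0 (𝓐.repr b))
    let j : A₀ ⊗[F] B →ₐ[F] A ⊗[F] B := Algebra.TensorProduct.map A₀.val (AlgHom.id F B)
    have hja : j a' = a := by
      apply 𝓐.repr.injective
      ext i
      rw [repr_map_val]
      simp only [a', 𝓐₀, LinearEquiv.apply_symm_apply, Finsupp.mapRange_apply]
      rw [hr _ (hmem_a i)]
    have hjb : j b' = b := by
      apply 𝓐.repr.injective
      ext i
      rw [repr_map_val]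
      simp only [b', 𝓐₀, LinearEquiv.apply_symm_apply, Finsupp.mapRange_apply]
      rw [hr _ (hmem_b i)]
    have hjinj : Function.Injective j := by
      have h1 : (j : A₀ ⊗[F] B → A ⊗[F] B) = LinearMap.rTensor B A₀.val.toLinearMap := by
        ext x
        induction x using TensorProduct.induction_on with
        | zero => simp
        | tmul c y => simp [j]
        | add x y hx hy => simp only [map_add, hx, hy]
      rw [h1]
      exact Module.Flat.rTensor_preserves_injective_linearMap _ Subtype.val_injective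
    have hab' : a' * b' = 0 := by
      apply hjinj
      rw [map_mul, hja, hjb, hab, map_zero]
    haveI : IsDomain A₀ := inferInstance
    have hne : (⟨_, hmem_a l⟩ * ⟨_, hmem_b m⟩ : A₀) ≠ 0 := by
      refine mul_ne_zero ?_ ?_
      · intro h; exact hl (congrArg Subtype.val h)
      · intro h; exact hm (congrArg Subtype.val h)
    obtain ⟨φ, hφ⟩ := exists_algHom_ne_zero (F := F) _
      (fun h => hne (IsNilpotent.eq_zero h))
    let ψ : A₀ ⊗[F] B →ₐ[F] B := (Algebra.TensorProduct.lid F B).toAlgHom.comp
      (Algebra.TensorProduct.map φ (AlgHom.id F B))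
    have hψ : ψ a' * ψ b' = 0 := by rw [← map_mul, hab', map_zero]
    rw [map_mul] at hφ
    rcases mul_eq_zero.mp hψ with h | h
    · have := repr_specialize 𝓑 φ a' l
      change 𝓑.repr (ψ a') l = _ at this
      rw [h] at this
      simp only [map_zero, Finsupp.zero_apply, a', 𝓐₀, LinearEquiv.apply_symm_apply,
        Finsupp.mapRange_apply] at this
      rw [hr _ (hmem_a l)] at this
      exact hφ (by rw [← this, zero_mul])
    · have := repr_specialize 𝓑 φ b' m
      change 𝓑.repr (ψ b') m = _ at this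
      rw [h] at this
      simp only [map_zero, Finsupp.zero_apply, b', 𝓐₀, LinearEquiv.apply_symm_apply,
        Finsupp.mapRange_apply] at this
      rw [hr _ (hmem_b m)] at this
      exact hφ (by rw [← this, mul_zero])
  haveI : Nontrivial (A ⊗[F] B) := inferInstance
  exact NoZeroDivisors.to_isDomain _



/-- `NilPrime X`: the nilradical of `X` is prime, i.e. `Spec X` is irreducible. -/
def NilPrime (X : Type*) [CommRing X] : Prop := (nilradical X).IsPrime

theorem nilPrime_iff_irreducibleSpace (X : Type*) [CommRing X] :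
    NilPrime X ↔ IrreducibleSpace (PrimeSpectrum X) :=
  PrimeSpectrum.irreducibleSpace_iff_isPrime_nilradical.symm

theorem nilPrime_iff (X : Type*) [CommRing X] :
    NilPrime X ↔ Nontrivial X ∧ ∀ a b : X, IsNilpotent (a * b) → IsNilpotent a ∨ IsNilpotent b := by
  unfold NilPrime
  rw [Ideal.isPrime_iff]
  constructor
  · rintro ⟨h1, h2⟩
    refine ⟨?_, fun a b hab => ?_⟩
    · by_contra hX
      rw [not_nontrivial_iff_subsingleton] at hX
      exact h1 (Ideal.eq_top_of_isUnit_mem _ (Ideal.zero_mem _) (by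
        rw [Subsingleton.elim (0 : X) 1]; exact isUnit_one))
    · have := @h2 a b (mem_nilradical.mpr hab)
      simpa [mem_nilradical] using this
  · rintro ⟨h1, h2⟩
    refine ⟨?_, fun {a b} hab => ?_⟩
    · intro h
      have : (1 : X) ∈ nilradical X := h ▸ Submodule.mem_top
      rw [mem_nilradical] at this
      exact (not_isNilpotent_one : ¬ IsNilpotent (1 : X)) this
    · have := h2 a b (mem_nilradical.mp hab)
      simpa [mem_nilradical] using this

theorem NilPrime.of_isDomain (X : Type*) [CommRing X] [IsDomain X] : NilPrime X := by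
  unfold NilPrime
  rw [nilradical_eq_zero]
  exact Ideal.isPrime_bot

/-- descent along an injective ring homomorphism -/
theorem NilPrime.of_injective {X Y : Type*} [CommRing X] [CommRing Y] (f : X →+* Y)
    (hf : Function.Injective f) (hY : NilPrime Y) : NilPrime X := by
  rw [nilPrime_iff] at hY ⊢
  obtain ⟨h1, h2⟩ := hY
  refine ⟨f.domain_nontrivial, fun a b hab => ?_⟩
  have := h2 (f a) (f b) (by rw [← map_mul]; exact hab.map f)
  rcases this with h | h
  · exact Or.inl ((IsNilpotent.map_iff hf).mp h)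
  · exact Or.inr ((IsNilpotent.map_iff hf).mp h)

theorem NilPrime.of_ringEquiv {X Y : Type*} [CommRing X] [CommRing Y] (e : X ≃+* Y)
    (hY : NilPrime Y) : NilPrime X :=
  NilPrime.of_injective e.toRingHom e.injective hY

/-- ascent along an injective radicial ring homomorphism -/
theorem NilPrime.of_radicial {X Y : Type*} [CommRing X] [CommRing Y] (f : X →+* Y)
    (hf : Function.Injective f) (hrad : ∀ y : Y, ∃ n : ℕ, 0 < n ∧ y ^ n ∈ f.range)
    (hX : NilPrime X) : NilPrime Y := by
  rw [nilPrime_iff] at hX ⊢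
  obtain ⟨h1, h2⟩ := hX
  refine ⟨?_, fun a b hab => ?_⟩
  · refine ⟨⟨f 0, f 1, fun h => zero_ne_one (hf h)⟩⟩
  · obtain ⟨n, hn, x, hx⟩ := hrad a
    obtain ⟨m, hm, y, hy⟩ := hrad b
    have hxy : IsNilpotent (x ^ m * y ^ n) := by
      rw [← IsNilpotent.map_iff hf, map_mul, map_pow, map_pow, hx, hy, ← pow_mul, ← pow_mul,
        mul_comm m n, ← mul_pow]
      exact hab.pow_of_pos (Nat.mul_pos hn hm).ne'
    rcases h2 _ _ hxy with h | h
    · left
      have h3 : IsNilpotent x := (IsNilpotent.pow_iff_pos hm.ne').mp h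
      have h4 : IsNilpotent (a ^ n) := hx ▸ h3.map f
      exact (IsNilpotent.pow_iff_pos hn.ne').mp h4
    · right
      have h3 : IsNilpotent y := (IsNilpotent.pow_iff_pos hn.ne').mp h
      have h4 : IsNilpotent (b ^ m) := hy ▸ h3.map f
      exact (IsNilpotent.pow_iff_pos hm.ne').mp h4

/-- directed unions: nilradical prime -/
theorem NilPrime.of_directed {Y : Type*} [CommRing Y] {ι : Type*} (X : ι → Type*)
    [∀ i, CommRing (X i)] (f : ∀ i, X i →+* Y) (hf : ∀ i, Function.Injective (f i))
    (hcov : ∀ a b : Y, ∃ i, a ∈ (f i).range ∧ b ∈ (f i).range)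
    (hX : ∀ i, NilPrime (X i)) : NilPrime Y := by
  rw [nilPrime_iff]
  refine ⟨?_, fun a b hab => ?_⟩
  · obtain ⟨i, -, -⟩ := hcov 0 0
    have := ((nilPrime_iff _).mp (hX i)).1
    exact ⟨⟨f i 0, f i 1, fun h => zero_ne_one (hf i h)⟩⟩
  · obtain ⟨i, ⟨x, rfl⟩, ⟨y, rfl⟩⟩ := hcov a b
    have h2 := ((nilPrime_iff _).mp (hX i)).2 x y (by
      rw [← IsNilpotent.map_iff (hf i), map_mul]; exact hab)
    rcases h2 with h | h
    · exact Or.inl (h.map _)
    · exact Or.inr (h.map _)

/-- directed unions: domains -/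
theorem isDomain_of_directed {Y : Type*} [CommRing Y] {ι : Type*} (X : ι → Type*)
    [∀ i, CommRing (X i)] (f : ∀ i, X i →+* Y) (hf : ∀ i, Function.Injective (f i))
    (hcov : ∀ a b : Y, ∃ i, a ∈ (f i).range ∧ b ∈ (f i).range)
    (hX : ∀ i, IsDomain (X i)) : IsDomain Y := by
  haveI : Nontrivial Y := by
    obtain ⟨i, -, -⟩ := hcov 0 0
    haveI := hX i
    exact ⟨⟨f i 0, f i 1, fun h => zero_ne_one (hf i h)⟩⟩
  haveI : NoZeroDivisors Y := by
    refine ⟨fun {a b} hab => ?_⟩
    obtain ⟨i, ⟨x, rfl⟩, ⟨y, rfl⟩⟩ := hcov a b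
    haveI := hX i
    have : x * y = 0 := hf i (by rw [map_mul, hab, map_zero])
    rcases mul_eq_zero.mp this with h | h
    · left; rw [h, map_zero]
    · right; rw [h, map_zero]
  exact NoZeroDivisors.to_isDomain _



/-- Tensoring with a field extension of an algebraically closed field preserves irreducibility of
the spectrum. -/
theorem NilPrime.tensor_of_isAlgClosed {F Ω X : Type*} [Field F] [IsAlgClosed F] [Field Ω]
    [Algebra F Ω] [CommRing X] [Algebra F X] (hX : NilPrime X) : NilPrime (Ω ⊗[F] X) := by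
  haveI : (nilradical X).IsPrime := hX
  let D := X ⧸ nilradical X
  let g : X →ₐ[F] D := Ideal.Quotient.mkₐ F (nilradical X)
  have hg : Function.Surjective g := Ideal.Quotient.mk_surjective
  let π : Ω ⊗[F] X →ₐ[F] Ω ⊗[F] D := Algebra.TensorProduct.map (AlgHom.id F Ω) g
  haveI : IsDomain (Ω ⊗[F] D) := isDomain_tensor
  have hker : ∀ x, π x = 0 → IsNilpotent x := by
    intro x hx
    have hx' : x ∈ RingHom.ker π := hx
    rw [Algebra.TensorProduct.lTensor_ker g hg] at hx'
    have hle : (RingHom.ker g).map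
        (Algebra.TensorProduct.includeRight : X →ₐ[F] Ω ⊗[F] X) ≤ nilradical (Ω ⊗[F] X) := by
      rw [Ideal.map_le_iff_le_comap]
      intro y hy
      have hy' : IsNilpotent y := by
        have h0 : Ideal.Quotient.mk (nilradical X) y = 0 := hy
        exact mem_nilradical.mp (Ideal.Quotient.eq_zero_iff_mem.mp h0)
      exact mem_nilradical.mpr (hy'.map _)
    exact mem_nilradical.mp (hle hx')
  rw [nilPrime_iff]
  refine ⟨π.toRingHom.domain_nontrivial, fun a b hab => ?_⟩
  have : π a * π b = 0 := by rw [← map_mul]; exact IsNilpotent.eq_zero (hab.map π)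
  rcases mul_eq_zero.mp this with h | h
  · exact Or.inl (hker _ h)
  · exact Or.inr (hker _ h)

section cover
variable {k : Type*} [Field k] (Ω : Type*) [Field Ω] [Algebra k Ω] (R : Type*) [CommRing R]
  [Algebra k R]

/-- the comparison map from a subextension -/
noncomputable def jE (E : IntermediateField k Ω) : E ⊗[k] R →ₐ[k] Ω ⊗[k] R :=
  Algebra.TensorProduct.map E.val (AlgHom.id k R)

theorem jE_injective (E : IntermediateField k Ω) : Function.Injective (jE Ω R E) := by
  have h1 : (jE Ω R E : E ⊗[k] R → Ω ⊗[k] R) = LinearMap.rTensor R E.val.toLinearMap := by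
    ext x
    induction x using TensorProduct.induction_on with
    | zero => simp
    | tmul c y => simp [jE]
    | add x y hx hy => simp only [map_add, hx, hy]
  rw [h1]
  exact Module.Flat.rTensor_preserves_injective_linearMap _ Subtype.val_injective

theorem jE_mono {E E' : IntermediateField k Ω} (h : E ≤ E') :
    (jE Ω R E).range ≤ (jE Ω R E').range := by
  rintro _ ⟨x, rfl⟩
  refine ⟨Algebra.TensorProduct.map (IntermediateField.inclusion h) (AlgHom.id k R) x, ?_⟩
  induction x using TensorProduct.induction_on with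
  | zero => simp
  | tmul c y => simp [jE]
  | add x y hx hy => simp only [map_add, hx, hy]

theorem exists_fd_mem_range [Algebra.IsAlgebraic k Ω] (x : Ω ⊗[k] R) :
    ∃ E : IntermediateField k Ω, FiniteDimensional k E ∧ x ∈ (jE Ω R E).range := by
  induction x using TensorProduct.induction_on with
  | zero => exact ⟨⊥, inferInstance, zero_mem _⟩
  | tmul c y =>
    refine ⟨IntermediateField.adjoin k {c}, ?_, ?_⟩
    · exact IntermediateField.adjoin.finiteDimensional (Algebra.IsIntegral.isIntegral c)
    · exact ⟨(⟨c, IntermediateField.mem_adjoin_simple_self k c⟩ : IntermediateField.adjoin k {c})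
        ⊗ₜ y, by simp [jE]⟩
  | add x y hx hy =>
    obtain ⟨E₁, h1, hx1⟩ := hx
    obtain ⟨E₂, h2, hx2⟩ := hy
    refine ⟨E₁ ⊔ E₂, IntermediateField.finiteDimensional_sup E₁ E₂, ?_⟩
    exact add_mem (jE_mono Ω R le_sup_left hx1) (jE_mono Ω R le_sup_right hx2)

theorem exists_fd_mem_range₂ [Algebra.IsAlgebraic k Ω] (x y : Ω ⊗[k] R) :
    ∃ E : IntermediateField k Ω, FiniteDimensional k E ∧ x ∈ (jE Ω R E).range ∧
      y ∈ (jE Ω R E).range := by
  obtain ⟨E₁, h1, hx1⟩ := exists_fd_mem_range Ω R x
  obtain ⟨E₂, h2, hx2⟩ := exists_fd_mem_range Ω R y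
  exact ⟨E₁ ⊔ E₂, IntermediateField.finiteDimensional_sup E₁ E₂,
    jE_mono Ω R le_sup_left hx1, jE_mono Ω R le_sup_right hx2⟩

/-- `NilPrime` for an algebraic extension follows from its finite subextensions. -/
theorem NilPrime.of_forall_fd [Algebra.IsAlgebraic k Ω]
    (h : ∀ E : IntermediateField k Ω, FiniteDimensional k E → NilPrime (E ⊗[k] R)) :
    NilPrime (Ω ⊗[k] R) := by
  refine NilPrime.of_directed (ι := {E : IntermediateField k Ω // FiniteDimensional k E})
    (fun E => E.1 ⊗[k] R) (fun E => (jE Ω R E.1).toRingHom) (fun E => jE_injective Ω R E.1)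
    (fun a b => ?_) (fun E => h E.1 E.2)
  obtain ⟨E, hE, ha, hb⟩ := exists_fd_mem_range₂ Ω R a b
  exact ⟨⟨E, hE⟩, ha, hb⟩

/-- being a domain for an algebraic extension follows from its finite subextensions. -/
theorem isDomain_of_forall_fd [Algebra.IsAlgebraic k Ω]
    (h : ∀ E : IntermediateField k Ω, FiniteDimensional k E → IsDomain (E ⊗[k] R)) :
    IsDomain (Ω ⊗[k] R) := by
  refine isDomain_of_directed (ι := {E : IntermediateField k Ω // FiniteDimensional k E})
    (fun E => E.1 ⊗[k] R) (fun E => (jE Ω R E.1).toRingHom) (fun E => jE_injective Ω R E.1)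
    (fun a b => ?_) (fun E => h E.1 E.2)
  obtain ⟨E, hE, ha, hb⟩ := exists_fd_mem_range₂ Ω R a b
  exact ⟨⟨E, hE⟩, ha, hb⟩

end cover



/-- passing from the separable closure inside an algebraic extension to the whole extension -/
theorem NilPrime.of_separableClosure {k : Type*} [Field k] (Ω : Type*) [Field Ω] [Algebra k Ω]
    [Algebra.IsAlgebraic k Ω] (R : Type*) [CommRing R] [Algebra k R]
    (h : NilPrime ((separableClosure k Ω) ⊗[k] R)) : NilPrime (Ω ⊗[k] R) := by
  classical
  let S' := separableClosure k Ω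
  let f := jE Ω R S'
  have hf : Function.Injective f := jE_injective Ω R S'
  haveI : Nontrivial (S' ⊗[k] R) := ((nilPrime_iff _).mp h).1
  haveI : Nontrivial (Ω ⊗[k] R) := ⟨⟨f 0, f 1, fun h => zero_ne_one (hf h)⟩⟩
  let q := ringExpChar k
  haveI : ExpChar k q := ringExpChar.expChar k
  haveI : ExpChar S' q := expChar_of_injective_algebraMap (algebraMap k S').injective q
  haveI : ExpChar (Ω ⊗[k] R) q :=
    expChar_of_injective_algebraMap (algebraMap k (Ω ⊗[k] R)).injective q
  have key : ∀ y : Ω ⊗[k] R, ∃ n : ℕ, y ^ (q ^ n) ∈ f.range := by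
    intro y
    induction y using TensorProduct.induction_on with
    | zero => exact ⟨0, by simp⟩
    | tmul c r =>
      obtain ⟨n, s, hs⟩ := IsPurelyInseparable.pow_mem S' q c
      refine ⟨n, s ⊗ₜ (r ^ (q ^ n)), ?_⟩
      simp only [f, jE, Algebra.TensorProduct.map_tmul, AlgHom.coe_id, id_eq,
        Algebra.TensorProduct.tmul_pow]
      rw [← hs]; rfl
    | add x y hx hy =>
      obtain ⟨n, hn⟩ := hx
      obtain ⟨m, hm⟩ := hy
      refine ⟨n + m, ?_⟩
      rw [add_pow_expChar_pow]
      refine add_mem ?_ ?_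
      · rw [pow_add, pow_mul]; exact pow_mem hn _
      · rw [pow_add, mul_comm, pow_mul]; exact pow_mem hm _
  refine NilPrime.of_radicial f.toRingHom hf (fun y => ?_) h
  obtain ⟨n, hn⟩ := key y
  exact ⟨q ^ n, pow_pos (expChar_pos k q) n, hn⟩


theorem NilPrime.of_tower_isAlgClosed {k F Ω : Type*} [Field k] [Field F] [Field Ω] [Algebra k F]
    [Algebra F Ω] [Algebra k Ω] [IsScalarTower k F Ω] [IsAlgClosed F]
    (R : Type*) [CommRing R] [Algebra k R]
    (h1 : NilPrime (F ⊗[k] R)) : NilPrime (Ω ⊗[k] R) := by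
  have h2 : NilPrime (Ω ⊗[F] (F ⊗[k] R)) := NilPrime.tensor_of_isAlgClosed h1
  exact NilPrime.of_ringEquiv (Algebra.TensorProduct.cancelBaseChange k F F Ω R).symm.toRingEquiv h2

theorem isDomain_of_tower_isAlgClosed {k F Ω : Type*} [Field k] [Field F] [Field Ω] [Algebra k F]
    [Algebra F Ω] [Algebra k Ω] [IsScalarTower k F Ω] [IsAlgClosed F]
    (R : Type*) [CommRing R] [Algebra k R]
    (h1 : IsDomain (F ⊗[k] R)) : IsDomain (Ω ⊗[k] R) := by
  haveI h2 : IsDomain (Ω ⊗[F] (F ⊗[k] R)) := isDomain_tensor
  exact (Algebra.TensorProduct.cancelBaseChange k F F Ω R).symm.toRingEquiv.injective.isDomain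

theorem injective_map_of_field {k k' Ω : Type*} [Field k] [Field k'] [Field Ω] [Algebra k k']
    [Algebra k Ω] (φ : k' →ₐ[k] Ω) (R : Type*) [CommRing R] [Algebra k R] :
    Function.Injective (Algebra.TensorProduct.map φ (AlgHom.id k R)) := by
  have h1 : (Algebra.TensorProduct.map φ (AlgHom.id k R) : k' ⊗[k] R → Ω ⊗[k] R) =
      LinearMap.rTensor R φ.toLinearMap := by
    ext x
    induction x using TensorProduct.induction_on with
    | zero => simp
    | tmul c y => simp
    | add x y hx hy => simp only [map_add, hx, hy]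
  rw [h1]
  exact Module.Flat.rTensor_preserves_injective_linearMap _ φ.toRingHom.injective

/-- From the algebraic closure to all field extensions. -/
theorem NilPrime.of_algebraicClosure {k : Type*} [Field k] (R : Type*) [CommRing R] [Algebra k R]
    (kbar : Type*) [Field kbar] [Algebra k kbar] [IsAlgClosure k kbar]
    (h : NilPrime (kbar ⊗[k] R)) (k' : Type*) [Field k'] [Algebra k k'] :
    NilPrime (k' ⊗[k] R) := by
  haveI : IsAlgClosure k (algebraicClosure k (AlgebraicClosure k')) := inferInstance
  haveI : IsAlgClosed (algebraicClosure k (AlgebraicClosure k')) := IsAlgClosure.isAlgClosed k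
  let e : kbar ≃ₐ[k] (algebraicClosure k (AlgebraicClosure k')) := IsAlgClosure.equiv k kbar _
  have h1 : NilPrime ((algebraicClosure k (AlgebraicClosure k')) ⊗[k] R) :=
    NilPrime.of_ringEquiv (Algebra.TensorProduct.congr e.symm AlgEquiv.refl).toRingEquiv h
  have h3 : NilPrime ((AlgebraicClosure k') ⊗[k] R) :=
    NilPrime.of_tower_isAlgClosed (F := algebraicClosure k (AlgebraicClosure k')) R h1
  exact NilPrime.of_injective _
    (injective_map_of_field (IsScalarTower.toAlgHom k k' (AlgebraicClosure k')) R) h3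

/-- From the algebraic closure to all field extensions: domains. -/
theorem isDomain_of_algebraicClosure {k : Type*} [Field k] (R : Type*) [CommRing R] [Algebra k R]
    (kbar : Type*) [Field kbar] [Algebra k kbar] [IsAlgClosure k kbar]
    (h : IsDomain (kbar ⊗[k] R)) (k' : Type*) [Field k'] [Algebra k k'] :
    IsDomain (k' ⊗[k] R) := by
  haveI : IsAlgClosure k (algebraicClosure k (AlgebraicClosure k')) := inferInstance
  haveI : IsAlgClosed (algebraicClosure k (AlgebraicClosure k')) := IsAlgClosure.isAlgClosed k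
  let e : kbar ≃ₐ[k] (algebraicClosure k (AlgebraicClosure k')) := IsAlgClosure.equiv k kbar _
  have h1 : IsDomain ((algebraicClosure k (AlgebraicClosure k')) ⊗[k] R) :=
    (Algebra.TensorProduct.congr e.symm
      (AlgEquiv.refl (R := k) (A₁ := R))).toRingEquiv.injective.isDomain
  haveI h3 : IsDomain ((AlgebraicClosure k') ⊗[k] R) :=
    isDomain_of_tower_isAlgClosed (F := algebraicClosure k (AlgebraicClosure k')) R h1
  exact (injective_map_of_field (IsScalarTower.toAlgHom k k' (AlgebraicClosure k')) R).isDomain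
    (Algebra.TensorProduct.map (IsScalarTower.toAlgHom k k' (AlgebraicClosure k'))
      (AlgHom.id k R)).toRingHom



universe u

theorem tfae_geomIntegral {k S : Type u} [Field k] [CommRing S] [Algebra k S] :
    [∀ (k' : Type u) [Field k'] [Algebra k k'], IsDomain (k' ⊗[k] S),
      ∀ (k' : Type u) [Field k'] [Algebra k k'] [Module.Finite k k'], IsDomain (k' ⊗[k] S),
      IsDomain (AlgebraicClosure k ⊗[k] S)].TFAE := by
  tfae_have 1 → 2 := fun h k' _ _ _ => h k'
  tfae_have 2 → 3 := fun h =>
    isDomain_of_forall_fd (AlgebraicClosure k) S (fun E hE => h E)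
  tfae_have 3 → 1 := fun h k' _ _ => isDomain_of_algebraicClosure S (AlgebraicClosure k) h k'
  tfae_finish

theorem tfae_geomIrr {k R : Type u} [Field k] [CommRing R] [Algebra k R] :
    [∀ (k' : Type u) [Field k'] [Algebra k k'], IrreducibleSpace (PrimeSpectrum (k' ⊗[k] R)),
      ∀ (k' : Type u) [Field k'] [Algebra k k'] [Module.Finite k k'] [Algebra.IsSeparable k k'],
        IrreducibleSpace (PrimeSpectrum (k' ⊗[k] R)),
      IrreducibleSpace (PrimeSpectrum (SeparableClosure k ⊗[k] R)),
      IrreducibleSpace (PrimeSpectrum (AlgebraicClosure k ⊗[k] R))].TFAE := by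
  tfae_have 1 → 2 := fun h k' _ _ _ _ => h k'
  tfae_have 2 → 3 := by
    intro h
    refine (nilPrime_iff_irreducibleSpace (SeparableClosure k ⊗[k] R)).mp ?_
    refine NilPrime.of_forall_fd (SeparableClosure k) R (fun E hE => ?_)
    haveI : Algebra.IsSeparable k E :=
      Algebra.isSeparable_tower_bot_of_isSeparable k E (SeparableClosure k)
    exact (nilPrime_iff_irreducibleSpace _).mpr (h E)
  tfae_have 3 → 4 := by
    intro h
    have h' : NilPrime (SeparableClosure k ⊗[k] R) := (nilPrime_iff_irreducibleSpace _).mpr h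
    refine (nilPrime_iff_irreducibleSpace (AlgebraicClosure k ⊗[k] R)).mp ?_
    let e : SeparableClosure k ≃ₐ[k] separableClosure k (AlgebraicClosure k) :=
      IsSepClosure.equiv k _ _
    refine NilPrime.of_separableClosure (AlgebraicClosure k) R ?_
    exact NilPrime.of_ringEquiv (Algebra.TensorProduct.congr e.symm AlgEquiv.refl).toRingEquiv h'
  tfae_have 4 → 1 := by
    intro h k' _ _
    have h' : NilPrime (AlgebraicClosure k ⊗[k] R) := (nilPrime_iff_irreducibleSpace _).mpr h
    exact (nilPrime_iff_irreducibleSpace _).mp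
      (NilPrime.of_algebraicClosure R (AlgebraicClosure k) h' k')
  tfae_finish

end Groth.Agent.Helper8.GeomIrr
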