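import Mathlib
import Groth.Agent.Helper8.GeomIrrA

namespace Groth.Agent.Helper8.GeomIrr

open TensorProduct Polynomial

section
variable {k K : Type*} [Field k] [Field K] [Algebra k K]

/-- coefficients of monic divisors of a separable polynomial from `k` are separable over `k` -/
theorem coeff_mem_range_of_dvd
    (hK : ∀ α : K, IsSeparable k α → α ∈ Set.range (algebraMap k K))
    (f : k[X]) (hsep : f.Separable) (g : K[X]) (hg : g.Monic)
    (hdvd : g ∣ f.map (algebraMap k K)) (n : ℕ) : g.coeff n ∈ Set.range (algebraMap k K) := by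
  classical
  let E := AlgebraicClosure K
  let S := separableClosure k E
  have hf0 : f ≠ 0 := hsep.ne_zero
  have hsplit : (g.map (algebraMap K E)).Splits := IsAlgClosed.splits _
  have hmonic : (g.map (algebraMap K E)).Monic := hg.map _
  have hprod := hsplit.eq_prod_roots_of_monic hmonic
  have hroots : ∀ r ∈ (g.map (algebraMap K E)).roots, r ∈ S := by
    intro r hr
    rw [mem_separableClosure_iff]
    have hr0 : (g.map (algebraMap K E)).eval r = 0 := (mem_roots hmonic.ne_zero).mp hr
    have h1 : aeval r f = 0 := by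
      obtain ⟨h, hh⟩ := hdvd
      have h2 : (f.map (algebraMap k K)).map (algebraMap K E) =
          g.map (algebraMap K E) * h.map (algebraMap K E) := by rw [hh, Polynomial.map_mul]
      rw [Polynomial.map_map, ← IsScalarTower.algebraMap_eq] at h2
      rw [aeval_def, ← eval_map, h2, eval_mul, hr0, zero_mul]
    exact hsep.of_dvd (minpoly.dvd k r h1)
  have hlift : g.map (algebraMap K E) ∈ Polynomial.lifts (algebraMap S E) := by
    rw [hprod]
    refine Subsemiring.multiset_prod_mem _ _ ?_
    intro p hp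
    obtain ⟨r, hr, rfl⟩ := Multiset.mem_map.mp hp
    refine (Polynomial.mem_lifts _).mpr ⟨X - C ⟨r, hroots r hr⟩, ?_⟩
    simp
  obtain ⟨s, hs⟩ := (Polynomial.lifts_iff_coeff_lifts _).mp hlift n
  rw [coeff_map] at hs
  have h3 : IsSeparable k (algebraMap K E (g.coeff n)) := by
    rw [← hs]
    exact mem_separableClosure_iff.mp s.2
  have h4 : IsSeparable k (g.coeff n) := by
    unfold IsSeparable at h3 ⊢
    rwa [minpoly.algebraMap_eq (algebraMap K E).injective] at h3
  exact hK _ h4

/-- a separable irreducible polynomial stays irreducible over an extension in which `k` is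
separably closed -/
theorem irreducible_map_of_sepClosed
    (hK : ∀ α : K, IsSeparable k α → α ∈ Set.range (algebraMap k K))
    (f : k[X]) (hf : Irreducible f) (hm : f.Monic) (hsep : f.Separable) :
    Irreducible (f.map (algebraMap k K)) := by
  rw [(hm.map _).irreducible_iff_natDegree]
  refine ⟨?_, fun g h hg hh hgh => ?_⟩
  · intro h1
    have : (f.map (algebraMap k K)).natDegree = 0 := by rw [h1]; simp
    rw [natDegree_map] at this
    exact hf.natDegree_pos.ne' this
  · have hg' : g ∈ Polynomial.lifts (algebraMap k K) :=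
      (Polynomial.lifts_iff_coeff_lifts _).mpr
        (coeff_mem_range_of_dvd hK f hsep g hg ⟨h, hgh.symm⟩)
    have hh' : h ∈ Polynomial.lifts (algebraMap k K) :=
      (Polynomial.lifts_iff_coeff_lifts _).mpr
        (coeff_mem_range_of_dvd hK f hsep h hh ⟨g, by rw [← hgh, mul_comm]⟩)
    obtain ⟨g₀, rfl⟩ := (Polynomial.mem_lifts _).mp hg'
    obtain ⟨h₀, rfl⟩ := (Polynomial.mem_lifts _).mp hh'
    rw [← Polynomial.map_mul] at hgh
    have := Polynomial.map_injective _ (algebraMap k K).injective hgh
    rcases hf.isUnit_or_isUnit this.symm with hu | hu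
    · left; rw [natDegree_map]; exact natDegree_eq_zero_of_isUnit hu
    · right; rw [natDegree_map]; exact natDegree_eq_zero_of_isUnit hu

end



section
variable {k K : Type*} [Field k] [Field K] [Algebra k K]

attribute [local instance] Algebra.TensorProduct.rightAlgebra

/-- a finite separable extension tensored with `K` is a domain when `k` is separably closed in `K` -/
theorem isDomain_tensor_of_sepClosed
    (hK : ∀ α : K, IsSeparable k α → α ∈ Set.range (algebraMap k K))
    (k' : Type*) [Field k'] [Algebra k k'] [Module.Finite k k'] [Algebra.IsSeparable k k'] :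
    IsDomain (k' ⊗[k] K) := by
  classical
  obtain ⟨a, ha⟩ := Field.exists_primitive_element k k'
  have hint : IsIntegral k a := Algebra.IsIntegral.isIntegral a
  let f := minpoly k a
  have hF : Irreducible (f.map (algebraMap k K)) :=
    irreducible_map_of_sepClosed hK f (minpoly.irreducible hint) (minpoly.monic hint)
      (Algebra.IsSeparable.isSeparable k a)
  let T := k' ⊗[k] K
  let θ : T := a ⊗ₜ 1
  let φ : K[X] →ₐ[K] T := aeval θ
  have hφF : φ (f.map (algebraMap k K)) = 0 := by
    change aeval θ (f.map (algebraMap k K)) = 0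
    rw [aeval_map_algebraMap]
    have : θ = (Algebra.TensorProduct.includeLeft : k' →ₐ[k] T) a := rfl
    rw [this, aeval_algHom_apply, minpoly.aeval, map_zero]
  have hadj : Algebra.adjoin k {a} = ⊤ := by
    have h1 := IntermediateField.adjoin_simple_toSubalgebra_of_isAlgebraic hint.isAlgebraic
    rw [ha] at h1
    rw [← h1]; rfl
  have hsurj : Function.Surjective φ := by
    intro x
    induction x using TensorProduct.induction_on with
    | zero => exact ⟨0, map_zero _⟩
    | tmul c y =>
      have hc : c ∈ Algebra.adjoin k {a} := by rw [hadj]; trivial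
      rw [Algebra.adjoin_singleton_eq_range_aeval] at hc
      obtain ⟨p, rfl⟩ := hc
      refine ⟨C y * p.map (algebraMap k K), ?_⟩
      change aeval θ (C y * p.map (algebraMap k K)) = _
      rw [map_mul, aeval_C, aeval_map_algebraMap]
      have : θ = (Algebra.TensorProduct.includeLeft : k' →ₐ[k] T) a := rfl
      rw [this, aeval_algHom_apply]
      rw [Algebra.TensorProduct.right_algebraMap_apply, Algebra.TensorProduct.includeLeft_apply,
        Algebra.TensorProduct.tmul_mul_tmul, one_mul, mul_one]
      rfl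
    | add x y hx hy =>
      obtain ⟨p, rfl⟩ := hx
      obtain ⟨q, rfl⟩ := hy
      exact ⟨p + q, map_add _ _ _⟩
  haveI : Nontrivial T := inferInstance
  have hmax : (Ideal.span {f.map (algebraMap k K)}).IsMaximal :=
    PrincipalIdealRing.isMaximal_of_irreducible hF
  have hle : Ideal.span {f.map (algebraMap k K)} ≤ RingHom.ker φ.toRingHom := by
    rw [Ideal.span_le]
    rintro _ rfl
    exact hφF
  have hne : RingHom.ker φ.toRingHom ≠ ⊤ := RingHom.ker_ne_top _
  have hker : RingHom.ker φ.toRingHom = Ideal.span {f.map (algebraMap k K)} :=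
    (hmax.eq_of_le hne hle).symm
  haveI : (RingHom.ker φ.toRingHom).IsPrime := hker ▸ hmax.isPrime
  exact (RingHom.quotientKerEquivOfSurjective (f := φ.toRingHom) hsurj).symm.injective.isDomain

end



universe u

section
variable {k K : Type*} [Field k] [Field K] [Algebra k K]

attribute [local instance] Algebra.TensorProduct.rightAlgebra

/-- abstract zero-divisor argument -/
theorem not_nilPrime_aux (α : K) (f : k[X]) (g : K[X])
    (hg : f.map (algebraMap k K) = (X - C α) * g) (hcop : IsCoprime (X - C α) g)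
    (hgdeg' : g.degree ≠ 0)
    (k' : Type*) [Field k'] [Algebra k k'] (a : k') (ha : aeval a f = 0)
    (ι : k' →ₐ[k] K) (hι : ι a = α)
    (ψ : k' →ₐ[k] AdjoinRoot g) (hψ : ψ a = AdjoinRoot.root g) :
    ¬ NilPrime (k' ⊗[k] K) := by
  classical
  intro hT
  let θ : k' ⊗[k] K := a ⊗ₜ 1
  let u : k' ⊗[k] K := θ - algebraMap K (k' ⊗[k] K) α
  let v : k' ⊗[k] K := aeval θ g
  have hu : u = aeval θ (X - C α) := by simp [u]
  have huv : u * v = 0 := by
    rw [hu, ← map_mul, ← hg, aeval_map_algebraMap]
    have : θ = (Algebra.TensorProduct.includeLeft : k' →ₐ[k] k' ⊗[k] K) a := rfl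
    rw [this, aeval_algHom_apply, ha, map_zero]
  -- first test map: multiplication
  let μ₁ : k' ⊗[k] K →ₐ[k] K := Algebra.TensorProduct.productMap ι (AlgHom.id k K)
  have hμ₁θ : μ₁ θ = α := by
    simp [μ₁, θ, hι]
  have hμ₁K : μ₁.toRingHom.comp (algebraMap K (k' ⊗[k] K)) = RingHom.id K := by
    ext y
    simp [μ₁, Algebra.TensorProduct.right_algebraMap_apply]
  have hμ₁v : μ₁ v = g.eval α := by
    have := Polynomial.hom_eval₂ g (algebraMap K (k' ⊗[k] K)) μ₁.toRingHom θ
    rw [hμ₁K] at this
    change μ₁ (eval₂ (algebraMap K (k' ⊗[k] K)) θ g) = _ at this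
    rw [eval₂_id] at this
    change μ₁ (aeval θ g) = _
    rw [aeval_def, this]
    congr 1
  -- second test map
  haveI : Nontrivial (AdjoinRoot g) := AdjoinRoot.nontrivial g hgdeg'
  let μ₂ : k' ⊗[k] K →ₐ[k] AdjoinRoot g :=
    Algebra.TensorProduct.productMap ψ (IsScalarTower.toAlgHom k K (AdjoinRoot g))
  have hμ₂θ : μ₂ θ = AdjoinRoot.root g := by
    simp only [μ₂, θ, Algebra.TensorProduct.productMap_left_apply, hψ]
  have hμ₂K : μ₂.toRingHom.comp (algebraMap K (k' ⊗[k] K)) = AdjoinRoot.of g := by
    ext y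
    simp [μ₂, Algebra.TensorProduct.right_algebraMap_apply, AdjoinRoot.algebraMap_eq]
  have hμ₂v : μ₂ v = 0 := by
    have := Polynomial.hom_eval₂ g (algebraMap K (k' ⊗[k] K)) μ₂.toRingHom θ
    rw [hμ₂K] at this
    change μ₂ (eval₂ (algebraMap K (k' ⊗[k] K)) θ g) = _ at this
    change μ₂ (aeval θ g) = _
    rw [aeval_def, this]
    change eval₂ (AdjoinRoot.of g) (μ₂ θ) g = 0
    rw [hμ₂θ, AdjoinRoot.eval₂_root]
  have hμ₂u : IsUnit (μ₂ u) := by
    obtain ⟨a', b, hab⟩ := hcop
    have h1 : μ₂ u = AdjoinRoot.root g - AdjoinRoot.of g α := by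
      simp only [u, map_sub, hμ₂θ]
      congr 1
      exact congrFun (congrArg DFunLike.coe hμ₂K) α
    have h2 := congrArg (AdjoinRoot.mk g) hab
    simp only [map_add, map_mul, map_sub, AdjoinRoot.mk_X, AdjoinRoot.mk_C, AdjoinRoot.mk_self,
      mul_zero, add_zero, map_one] at h2
    rw [h1]
    exact IsUnit.of_mul_eq_one _ (by rw [mul_comm]; exact h2)
  have hgα : g.eval α ≠ 0 := by
    obtain ⟨a', b, hab⟩ := hcop
    have h2 := congrArg (eval α) hab
    simp only [eval_add, eval_mul, eval_sub, eval_X, eval_C, sub_self, mul_zero, zero_add,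
      eval_one] at h2
    intro h0
    rw [h0, mul_zero] at h2
    exact zero_ne_one h2
  rcases ((nilPrime_iff (k' ⊗[k] K)).mp hT).2 u v (by rw [huv]; exact IsNilpotent.zero) with
    hn | hn
  · obtain ⟨n, hn⟩ := hn.map μ₂
    exact not_isUnit_zero (hn ▸ hμ₂u.pow n)
  · have := (hn.map μ₁).eq_zero
    rw [hμ₁v] at this
    exact hgα this

end

section
variable {k K : Type u} [Field k] [Field K] [Algebra k K]

theorem mem_range_of_geomIrr
    (h : ∀ (k' : Type u) [Field k'] [Algebra k k'], IrreducibleSpace (PrimeSpectrum (k' ⊗[k] K)))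
    (α : K) (hα : IsSeparable k α) : α ∈ Set.range (algebraMap k K) := by
  classical
  by_contra hnot
  have hint : IsIntegral k α := hα.isIntegral
  let f := minpoly k α
  have hnot' : α ∉ (algebraMap k K).range := fun h' => hnot (by simpa using h')
  have hdeg : 2 ≤ f.natDegree := (minpoly.two_le_natDegree_iff hint).mpr hnot'
  let F := f.map (algebraMap k K)
  have hroot : F.IsRoot α := by
    change eval α (f.map (algebraMap k K)) = 0
    rw [eval_map, ← aeval_def, minpoly.aeval]
  obtain ⟨g, hg⟩ := dvd_iff_isRoot.mpr hroot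
  have hsepF : F.Separable := Separable.map hα
  have hcop : IsCoprime (X - C α) g := (hg ▸ hsepF).isCoprime
  have hF0 : F ≠ 0 := hsepF.ne_zero
  have hg0 : g ≠ 0 := fun h0 => hF0 (by rw [hg, h0, mul_zero])
  have hgdeg : g.natDegree ≠ 0 := by
    have h1 : F.natDegree = f.natDegree := natDegree_map _
    rw [hg, natDegree_mul (X_sub_C_ne_zero α) hg0, natDegree_X_sub_C] at h1
    omega
  have hgdeg' : g.degree ≠ 0 := fun h0 => hgdeg (natDegree_eq_of_degree_eq_some h0)
  have hlift : f.eval₂ (Algebra.ofId k (AdjoinRoot g)) (AdjoinRoot.root g) = 0 := by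
    change eval₂ (algebraMap k (AdjoinRoot g)) (AdjoinRoot.root g) f = 0
    rw [← aeval_def, ← aeval_map_algebraMap K, AdjoinRoot.aeval_eq, AdjoinRoot.mk_eq_zero]
    exact ⟨X - C α, by change F = _; rw [hg, mul_comm]⟩
  let ψ : IntermediateField.adjoin k {α} →ₐ[k] AdjoinRoot g :=
    (AdjoinRoot.liftAlgHom f (Algebra.ofId k (AdjoinRoot g)) (AdjoinRoot.root g) hlift).comp
      (IntermediateField.adjoinRootEquivAdjoin k hint).symm.toAlgHom
  have hψ : ψ (IntermediateField.AdjoinSimple.gen k α) = AdjoinRoot.root g := by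
    change (AdjoinRoot.liftAlgHom f (Algebra.ofId k (AdjoinRoot g)) (AdjoinRoot.root g) hlift)
      ((IntermediateField.adjoinRootEquivAdjoin k hint).symm
        (IntermediateField.AdjoinSimple.gen k α)) = _
    rw [IntermediateField.adjoinRootEquivAdjoin_symm_apply_gen]
    exact AdjoinRoot.liftAlgHom_root f (Algebra.ofId k (AdjoinRoot g)) (AdjoinRoot.root g) hlift
  refine not_nilPrime_aux α f g hg hcop hgdeg' (IntermediateField.adjoin k {α})
    (IntermediateField.AdjoinSimple.gen k α) (IntermediateField.aeval_gen_minpoly k α)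
    (IntermediateField.adjoin k {α}).val rfl ψ hψ ?_
  exact (nilPrime_iff_irreducibleSpace _).mpr (h (IntermediateField.adjoin k {α}))

theorem geomIrr_iff :
    (∀ (k' : Type u) [Field k'] [Algebra k k'], IrreducibleSpace (PrimeSpectrum (k' ⊗[k] K))) ↔
      ∀ α : K, IsSeparable k α → α ∈ Set.range (algebraMap k K) := by
  refine ⟨mem_range_of_geomIrr, fun hK => ?_⟩
  refine ((tfae_geomIrr (k := k) (R := K)).out 1 0).mp ?_
  intro k' _ _ _ _
  haveI := isDomain_tensor_of_sepClosed hK k'
  exact (nilPrime_iff_irreducibleSpace (k' ⊗[k] K)).mp (NilPrime.of_isDomain _)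

end




theorem isField_tensor_of_algClosed_in (K₀ F₀ K : Type u)
    [Field K₀] [PerfectField K₀] [Field F₀] [Algebra K₀ F₀] [Field K] [Algebra K₀ K]
    [Algebra.IsAlgebraic K₀ K] (h : algebraicClosure K₀ F₀ = ⊥) :
    IsField (TensorProduct K₀ F₀ K) := by
  have hK : ∀ α : F₀, IsSeparable K₀ α → α ∈ Set.range (algebraMap K₀ F₀) := by
    intro α hα
    have h1 : α ∈ algebraicClosure K₀ F₀ :=
      (mem_algebraicClosure_iff).mpr hα.isIntegral.isAlgebraic
    rw [h, IntermediateField.mem_bot] at h1
    exact h1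
  haveI h2 : IsDomain (K ⊗[K₀] F₀) := by
    refine isDomain_of_forall_fd K F₀ (fun E hE => ?_)
    haveI : Algebra.IsAlgebraic K₀ E := Algebra.IsAlgebraic.of_finite K₀ E
    exact isDomain_tensor_of_sepClosed hK E
  haveI : IsDomain (F₀ ⊗[K₀] K) :=
    (Algebra.TensorProduct.comm K₀ F₀ K).toRingEquiv.injective.isDomain
  haveI : Algebra.IsIntegral K₀ K := Algebra.IsAlgebraic.isIntegral
  exact isField_of_isIntegral_of_isField' (R := F₀) (Field.toIsField F₀)

end Groth.Agent.Helper8.GeomIrr
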