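import Mathlib
import Groth.Agent.Helper8.GeomIrrB

namespace Groth.Agent.Helper8.GeomIrr

open TensorProduct Polynomial

theorem connectedSpace_tensor_of_fibres {k A B : Type*} [Field k] [CommRing A] [CommRing B]
    [Algebra k A] [Algebra k B] [ConnectedSpace (PrimeSpectrum A)]
    (hfib : ∀ p : PrimeSpectrum A,
      ConnectedSpace (PrimeSpectrum (p.asIdeal.ResidueField ⊗[k] B))) :
    ConnectedSpace (PrimeSpectrum (A ⊗[k] B)) := by
  let f := PrimeSpectrum.comap (algebraMap A (A ⊗[k] B))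
  have hopen : IsOpenMap f := PrimeSpectrum.isOpenMap_comap_algebraMap_tensorProduct_of_field
  have hcont : Continuous f := PrimeSpectrum.continuous_comap _
  have hfibres : ∀ p : PrimeSpectrum A, IsConnected (f ⁻¹' {p}) := by
    intro p
    let e₁ := PrimeSpectrum.preimageHomeomorphFiber A (A ⊗[k] B) p
    let e₂ := PrimeSpectrum.homeomorphOfRingEquiv
      (Algebra.TensorProduct.cancelBaseChange k A A p.asIdeal.ResidueField B).toRingEquiv
    haveI := hfib p
    haveI : ConnectedSpace ↥(f ⁻¹' {p}) :=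
      (e₁.trans e₂).symm.surjective.connectedSpace (e₁.trans e₂).symm.continuous
    exact isConnected_iff_connectedSpace.mpr this
  have hsurj : Function.Surjective f := fun p => by
    obtain ⟨x, hx⟩ := (hfibres p).nonempty
    exact ⟨x, hx⟩
  have hquot : Topology.IsQuotientMap f := hopen.isQuotientMap hcont hsurj
  have := hquot.isCoinducing.isConnected_preimage_of_isClosed hfibres isClosed_univ
    isConnected_univ
  rw [Set.preimage_univ] at this
  exact connectedSpace_iff_univ.mpr this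

universe u

theorem connectedSpace_tensor_of_isSepClosed {k R S : Type u} [Field k] [IsSepClosed k]
    [CommRing R] [CommRing S] [Algebra k R] [Algebra k S]
    [ConnectedSpace (PrimeSpectrum R)] [ConnectedSpace (PrimeSpectrum S)] :
    ConnectedSpace (PrimeSpectrum (R ⊗[k] S)) := by
  have hgi : ∀ (K : Type u) [Field K] [Algebra k K] (k' : Type u) [Field k'] [Algebra k k'],
      IrreducibleSpace (PrimeSpectrum (k' ⊗[k] K)) := by
    intro K _ _
    refine geomIrr_iff.mpr (fun α hα => ?_)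
    have h1 := IsSepClosed.degree_eq_one_of_irreducible k (minpoly.irreducible hα.isIntegral) hα
    have h2 := minpoly.degree_eq_one_iff.mp h1
    simpa using h2
  have step2 : ∀ (κ : Type u) [Field κ] [Algebra k κ],
      ConnectedSpace (PrimeSpectrum (κ ⊗[k] S)) := by
    intro κ _ _
    haveI : ConnectedSpace (PrimeSpectrum (S ⊗[k] κ)) :=
      connectedSpace_tensor_of_fibres (fun q => by
        haveI := hgi κ q.asIdeal.ResidueField
        infer_instance)
    let e := PrimeSpectrum.homeomorphOfRingEquiv (Algebra.TensorProduct.comm k S κ).toRingEquiv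
    exact e.surjective.connectedSpace e.continuous
  exact connectedSpace_tensor_of_fibres (fun p => step2 p.asIdeal.ResidueField)



theorem fibres_connected {k A B : Type*} [Field k] [CommRing A] [CommRing B]
    [Algebra k A] [Algebra k B]
    (hfib : ∀ p : PrimeSpectrum A,
      ConnectedSpace (PrimeSpectrum (p.asIdeal.ResidueField ⊗[k] B)))
    (p : PrimeSpectrum A) :
    IsConnected (PrimeSpectrum.comap (algebraMap A (A ⊗[k] B)) ⁻¹' {p}) := by
  let f := PrimeSpectrum.comap (algebraMap A (A ⊗[k] B))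
  let e₁ := PrimeSpectrum.preimageHomeomorphFiber A (A ⊗[k] B) p
  let e₂ := PrimeSpectrum.homeomorphOfRingEquiv
    (Algebra.TensorProduct.cancelBaseChange k A A p.asIdeal.ResidueField B).toRingEquiv
  haveI := hfib p
  haveI : ConnectedSpace ↥(f ⁻¹' {p}) :=
    (e₁.trans e₂).symm.surjective.connectedSpace (e₁.trans e₂).symm.continuous
  exact isConnected_iff_connectedSpace.mpr this


theorem existsUnique_idempotent {k R S : Type u} [Field k] [CommRing R] [CommRing S]
    [Algebra k R] [Algebra k S]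
    (hS : ∀ (k' : Type u) [Field k'] [Algebra k k'], ConnectedSpace (PrimeSpectrum (k' ⊗[k] S)))
    (x : R ⊗[k] S) (hx : IsIdempotentElem x) :
    ∃! e : R, IsIdempotentElem e ∧ algebraMap R (R ⊗[k] S) e = x := by
  let f := PrimeSpectrum.comap (algebraMap R (R ⊗[k] S))
  have hopen : IsOpenMap f := PrimeSpectrum.isOpenMap_comap_algebraMap_tensorProduct_of_field
  have hfibres : ∀ p : PrimeSpectrum R, IsConnected (f ⁻¹' {p}) :=
    fibres_connected (fun p => hS p.asIdeal.ResidueField)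
  have hsurj : Function.Surjective f := fun p => by
    obtain ⟨y, hy⟩ := (hfibres p).nonempty
    exact ⟨y, hy⟩
  -- saturation of clopen sets
  have hsat : ∀ U : Set (PrimeSpectrum (R ⊗[k] S)), IsClopen U → f ⁻¹' (f '' U) = U := by
    intro U hU
    apply Set.Subset.antisymm _ (Set.subset_preimage_image f U)
    rintro y ⟨u, hu, huy⟩
    have h1 : f ⁻¹' {f y} ⊆ U :=
      (hfibres (f y)).isPreconnected.subset_isClopen hU ⟨u, huy, hu⟩
    exact h1 rfl
  have hpush : ∀ U : Set (PrimeSpectrum (R ⊗[k] S)), IsClopen U → IsClopen (f '' U) := by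
    intro U hU
    refine ⟨?_, hopen U hU.isOpen⟩
    have hc : (f '' U)ᶜ = f '' Uᶜ := by
      ext p
      constructor
      · intro hp
        obtain ⟨y, rfl⟩ := hsurj p
        refine ⟨y, fun hy => hp ⟨y, hy, rfl⟩, rfl⟩
      · rintro ⟨y, hy, rfl⟩ hmem
        have : y ∈ f ⁻¹' (f '' U) := hmem
        rw [hsat U hU] at this
        exact hy this
    rw [← isOpen_compl_iff, hc]
    exact hopen _ hU.compl.isOpen
  have hxU : IsClopen ((PrimeSpectrum.basicOpen x : Set (PrimeSpectrum (R ⊗[k] S)))) :=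
    PrimeSpectrum.isClopen_iff.mpr ⟨x, hx, rfl⟩
  have hpre : ∀ e : R, f ⁻¹' (PrimeSpectrum.basicOpen e : Set (PrimeSpectrum R)) =
      (PrimeSpectrum.basicOpen (algebraMap R (R ⊗[k] S) e) : Set _) := fun e => rfl
  refine existsUnique_of_exists_of_unique ?_ ?_
  · obtain ⟨e, he, hV⟩ := PrimeSpectrum.isClopen_iff.mp (hpush _ hxU)
    refine ⟨e, he, ?_⟩
    refine PrimeSpectrum.basicOpen_injOn_isIdempotentElem (he.map _) hx ?_
    apply SetLike.ext'
    rw [← hpre, ← hV, hsat _ hxU]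
  · rintro e e' ⟨he, hex⟩ ⟨he', hex'⟩
    refine PrimeSpectrum.basicOpen_injOn_isIdempotentElem he he' ?_
    apply SetLike.ext'
    have h1 : f ⁻¹' (PrimeSpectrum.basicOpen e : Set (PrimeSpectrum R)) =
        f ⁻¹' (PrimeSpectrum.basicOpen e' : Set (PrimeSpectrum R)) := by
      rw [hpre, hpre, hex, hex']
    exact (Set.preimage_injective.mpr hsurj) h1



/-- irreducibility of the spectrum passes to nontrivial localizations -/
theorem NilPrime.of_isLocalization {X Y : Type*} [CommRing X] [CommRing Y] [Algebra X Y]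
    (M : Submonoid X) [IsLocalization M Y] [Nontrivial Y] (hX : NilPrime X) : NilPrime Y := by
  rw [nilPrime_iff] at hX ⊢
  refine ⟨inferInstance, fun a b hab => ?_⟩
  obtain ⟨⟨x, s⟩, hx⟩ := IsLocalization.surj M a
  obtain ⟨⟨x', s'⟩, hx'⟩ := IsLocalization.surj M b
  simp only at hx hx'
  have hs : IsUnit (algebraMap X Y s) := IsLocalization.map_units Y s
  have hs' : IsUnit (algebraMap X Y s') := IsLocalization.map_units Y s'
  have h1 : IsNilpotent (algebraMap X Y (x * x')) := by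
    rw [map_mul, ← hx, ← hx']
    have : a * algebraMap X Y s * (b * algebraMap X Y s') =
        (a * b) * (algebraMap X Y s * algebraMap X Y s') := by ring
    rw [this]
    exact (Commute.all _ _).isNilpotent_mul_right hab
  obtain ⟨n, hn⟩ := h1
  rw [← map_pow, ← map_zero (algebraMap X Y)] at hn
  obtain ⟨m, hm⟩ := (IsLocalization.eq_iff_exists M Y).mp hn
  rw [mul_zero] at hm
  have h2 : IsNilpotent ((m : X) * (x * x')) := by
    refine ⟨n + 1, ?_⟩
    rw [mul_pow, pow_succ (m : X), mul_assoc, pow_succ (x * x'), ← mul_assoc (m : X), hm,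
      zero_mul, mul_zero]
  have hm' : ¬ IsNilpotent (m : X) := by
    intro h
    obtain ⟨j, hj⟩ := h.map (algebraMap X Y)
    exact not_isUnit_zero (hj ▸ (IsLocalization.map_units Y m).pow j)
  rcases hX.2 _ _ h2 with h | h
  · exact absurd h hm'
  · rcases hX.2 _ _ h with h | h
    · left
      have : IsNilpotent (a * algebraMap X Y s) := hx ▸ h.map _
      obtain ⟨j, hj⟩ := this
      rw [mul_pow] at hj
      exact ⟨j, (IsUnit.mul_left_eq_zero (hs.pow j)).mp hj⟩
    · right
      have : IsNilpotent (b * algebraMap X Y s') := hx' ▸ h.map _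
      obtain ⟨j, hj⟩ := this
      rw [mul_pow] at hj
      exact ⟨j, (IsUnit.mul_left_eq_zero (hs'.pow j)).mp hj⟩



attribute [local instance] Polynomial.algebra

theorem ratFunc_forward {k K : Type*} [Field k] [Field K] [Algebra k K]
    (kt Kt : Type*) [Field kt] [Field Kt] [Algebra k[X] kt] [IsFractionRing k[X] kt]
    [Algebra K[X] Kt] [IsFractionRing K[X] Kt] [Algebra kt Kt]
    [Algebra k[X] Kt] [IsScalarTower k[X] kt Kt] [IsScalarTower k[X] K[X] Kt]
    (L : Type*) [Field L] [Algebra kt L] [Algebra k[X] L] [IsScalarTower k[X] kt L]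
    [Algebra k L] [IsScalarTower k k[X] L]
    (h : NilPrime (L ⊗[k] K)) : NilPrime (L ⊗[kt] Kt) := by
  let eP : k[X] ⊗[k] K ≃ₐ[k[X]] K[X] := Algebra.IsPushout.equiv k k[X] K K[X]
  let c1 : K[X] ⊗[k[X]] L ≃ₐ[k[X]] (k[X] ⊗[k] K) ⊗[k[X]] L :=
    Algebra.TensorProduct.congr eP.symm AlgEquiv.refl
  let c2 : (k[X] ⊗[k] K) ⊗[k[X]] L ≃ₐ[k[X]] L ⊗[k[X]] (k[X] ⊗[k] K) :=
    Algebra.TensorProduct.comm k[X] _ _
  let c3 : L ⊗[k[X]] (k[X] ⊗[k] K) ≃ₐ[k[X]] L ⊗[k] K :=
    Algebra.TensorProduct.cancelBaseChange k k[X] k[X] L K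
  have hW : NilPrime (K[X] ⊗[k[X]] L) :=
    NilPrime.of_ringEquiv (c1.toRingEquiv.trans (c2.toRingEquiv.trans c3.toRingEquiv)) h
  let d1 : (K[X] ⊗[k[X]] L) ⊗[K[X]] Kt ≃ₐ[K[X]] Kt ⊗[K[X]] (K[X] ⊗[k[X]] L) :=
    Algebra.TensorProduct.comm K[X] _ _
  let d2 : Kt ⊗[K[X]] (K[X] ⊗[k[X]] L) ≃ₐ[K[X]] Kt ⊗[k[X]] L :=
    Algebra.TensorProduct.cancelBaseChange k[X] K[X] K[X] Kt L
  let d3 : Kt ⊗[kt] L ≃ₐ[kt] Kt ⊗[k[X]] L :=
    IsLocalization.algebraTensorEquiv (nonZeroDivisors k[X]) kt Kt L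
  let d4 : Kt ⊗[kt] L ≃ₐ[kt] L ⊗[kt] Kt := Algebra.TensorProduct.comm kt _ _
  let e : (K[X] ⊗[k[X]] L) ⊗[K[X]] Kt ≃+* L ⊗[kt] Kt :=
    d1.toRingEquiv.trans (d2.toRingEquiv.trans (d3.symm.toRingEquiv.trans d4.toRingEquiv))
  haveI : Nontrivial ((K[X] ⊗[k[X]] L) ⊗[K[X]] Kt) := e.toRingHom.domain_nontrivial
  have hY : NilPrime ((K[X] ⊗[k[X]] L) ⊗[K[X]] Kt) :=
    NilPrime.of_isLocalization
      (Algebra.algebraMapSubmonoid (K[X] ⊗[k[X]] L) (nonZeroDivisors K[X])) hW
  exact NilPrime.of_ringEquiv e.symm hY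

end Groth.Agent.Helper8.GeomIrr
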