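import Mathlib
set_option autoImplicit false

universe u

namespace Groth.Agent.Helper8.Cot

open MvPolynomial IsLocalRing

section defs

variable {A : Type u} [CommRing A] (p : ℕ) {r : ℕ} (f : Fin r → A)

/-- the ideal `(T_i^p - f_i)` -/
noncomputable abbrev JJ : Ideal (MvPolynomial (Fin r) A) :=
  Ideal.span (Set.range fun i => (X i : MvPolynomial (Fin r) A) ^ p - C (f i))

/-- the ring `A[T]/(T_i^p - f_i)` -/
def BB : Type u := MvPolynomial (Fin r) A ⧸ JJ p f

noncomputable instance : CommRing (BB p f) :=
  inferInstanceAs (CommRing (MvPolynomial (Fin r) A ⧸ JJ p f))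

noncomputable instance : Algebra A (BB p f) :=
  inferInstanceAs (Algebra A (MvPolynomial (Fin r) A ⧸ JJ p f))

/-- the quotient map -/
noncomputable def mkB : MvPolynomial (Fin r) A →ₐ[A] BB p f := Ideal.Quotient.mkₐ A (JJ p f)

theorem mkB_surjective : Function.Surjective (mkB p f) := Ideal.Quotient.mkₐ_surjective A (JJ p f)

theorem mkB_eq_zero_iff (q : MvPolynomial (Fin r) A) : mkB p f q = 0 ↔ q ∈ JJ p f :=
  Ideal.Quotient.eq_zero_iff_mem

/-- maps out of the quotient -/
noncomputable def liftB {S : Type*} [CommRing S] [Algebra A S] (Φ : MvPolynomial (Fin r) A →ₐ[A] S)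
    (h : ∀ q ∈ JJ p f, Φ q = 0) : BB p f →ₐ[A] S :=
  Ideal.Quotient.liftₐ (JJ p f) Φ h

theorem liftB_mkB {S : Type*} [CommRing S] [Algebra A S] (Φ : MvPolynomial (Fin r) A →ₐ[A] S)
    (h : ∀ q ∈ JJ p f, Φ q = 0) (q : MvPolynomial (Fin r) A) : liftB p f Φ h (mkB p f q) = Φ q := rfl

/-- a map vanishing on the generators vanishes on `JJ` -/
theorem vanish_of_gen {S : Type*} [CommRing S] (Φ : MvPolynomial (Fin r) A →+* S)
    (h : ∀ i, Φ (X i ^ p - C (f i)) = 0) : ∀ q ∈ JJ p f, Φ q = 0 := by
  have hle : JJ p f ≤ RingHom.ker Φ := by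
    rw [Ideal.span_le]
    rintro _ ⟨i, rfl⟩
    exact RingHom.mem_ker.2 (h i)
  intro q hq
  exact RingHom.mem_ker.1 (hle hq)

/-- the class of `T_i` -/
noncomputable def tt (i : Fin r) : BB p f := mkB p f (X i)

theorem tt_pow (i : Fin r) : tt p f i ^ p = algebraMap A (BB p f) (f i) := by
  unfold tt
  rw [← map_pow, ← sub_eq_zero, ← (mkB p f).commutes, ← map_sub, mkB_eq_zero_iff]
  exact Ideal.subset_span ⟨i, rfl⟩

/-- induction principle for `BB` -/
theorem bb_induction {P : BB p f → Prop} (hA : ∀ a, P (algebraMap A (BB p f) a))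
    (hadd : ∀ x y, P x → P y → P (x + y)) (hmul : ∀ x i, P x → P (x * tt p f i)) (b : BB p f) : P b := by
  obtain ⟨q, rfl⟩ := mkB_surjective p f b
  induction q using MvPolynomial.induction_on with
  | C a => rw [← MvPolynomial.algebraMap_eq, AlgHom.commutes]; exact hA a
  | add q q' hq hq' => rw [map_add]; exact hadd _ _ hq hq'
  | mul_X q i hq => rw [map_mul]; exact hmul _ i hq

end defs

section local_

variable {A : Type u} [CommRing A] [IsLocalRing A] (p : ℕ) [hp : Fact p.Prime] [CharP A p]
  {r : ℕ} (f : Fin r → A)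

/-- a `p`-th root in the algebraic closure of the residue field -/
noncomputable def rootOf (i : Fin r) : AlgebraicClosure (ResidueField A) :=
  (IsAlgClosed.exists_pow_nat_eq
    (algebraMap (ResidueField A) (AlgebraicClosure (ResidueField A)) (residue A (f i)))
    hp.out.pos).choose

omit [CharP A p] in
theorem rootOf_pow (i : Fin r) :
    rootOf p f i ^ p =
      algebraMap (ResidueField A) (AlgebraicClosure (ResidueField A)) (residue A (f i)) :=
  (IsAlgClosed.exists_pow_nat_eq
    (algebraMap (ResidueField A) (AlgebraicClosure (ResidueField A)) (residue A (f i)))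
    hp.out.pos).choose_spec

/-- the base map `A → K̄` -/
noncomputable def baseHom : A →+* AlgebraicClosure (ResidueField A) :=
  (algebraMap (ResidueField A) (AlgebraicClosure (ResidueField A))).comp (residue A)

/-- `K̄` as an `A`-algebra -/
noncomputable local instance algKbar : Algebra A (AlgebraicClosure (ResidueField A)) :=
  (baseHom (A := A)).toAlgebra

/-- the point `B → K̄` -/
noncomputable def rho : BB p f →ₐ[A] AlgebraicClosure (ResidueField A) :=
  liftB p f (MvPolynomial.aeval (rootOf p f)) (vanish_of_gen p f (MvPolynomial.aeval (rootOf p f)).toRingHom (by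
    intro i
    change (MvPolynomial.aeval (rootOf p f)) (X i ^ p - C (f i)) = 0
    rw [map_sub, map_pow, MvPolynomial.aeval_X, ← MvPolynomial.algebraMap_eq,
      AlgHom.commutes, rootOf_pow, sub_eq_zero]
    rfl))

omit [CharP A p] in
theorem rho_algebraMap (a : A) : rho p f (algebraMap A (BB p f) a) = baseHom a :=
  (rho p f).commutes a

instance : Nontrivial (BB p f) := (rho p f).toRingHom.domain_nontrivial

theorem charP_BB : CharP (BB p f) p := by
  have h0 : ((p : ℕ) : BB p f) = 0 := by
    have := congrArg (algebraMap A (BB p f)) (CharP.cast_eq_zero A p)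
    rwa [map_natCast, map_zero] at this
  exact (CharP.charP_iff_prime_eq_zero hp.out).2 h0

theorem exists_pow_eq (b : BB p f) : ∃ a : A, b ^ p = algebraMap A (BB p f) a := by
  haveI := charP_BB p f
  induction b using bb_induction p f with
  | hA a => exact ⟨a ^ p, by rw [map_pow]⟩
  | hadd x y hx hy =>
    obtain ⟨a, ha⟩ := hx
    obtain ⟨a', ha'⟩ := hy
    exact ⟨a + a', by rw [add_pow_char, ha, ha', map_add]⟩
  | hmul x i hx =>
    obtain ⟨a, ha⟩ := hx
    exact ⟨a * f i, by rw [mul_pow, ha, tt_pow, map_mul]⟩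

omit [CharP A p] in
theorem baseHom_eq_zero (a : A) (ha : ¬ IsUnit a) : baseHom a = 0 := by
  have : residue A a = 0 := (residue_eq_zero_iff a).2 ((mem_maximalIdeal a).2 ha)
  change algebraMap _ _ (residue A a) = 0
  rw [this, map_zero]

theorem isUnit_iff_rho_ne_zero (b : BB p f) : IsUnit b ↔ rho p f b ≠ 0 := by
  constructor
  · intro h
    exact (h.map (rho p f)).ne_zero
  · intro h
    obtain ⟨a, ha⟩ := exists_pow_eq p f b
    have h1 : rho p f b ^ p = baseHom a := by rw [← map_pow, ha, rho_algebraMap]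
    have h2 : baseHom a ≠ 0 := by rw [← h1]; exact pow_ne_zero _ h
    have h3 : IsUnit a := by
      by_contra hna
      exact h2 (baseHom_eq_zero a hna)
    have h4 : IsUnit (b ^ p) := by rw [ha]; exact h3.map _
    exact (isUnit_pow_iff hp.out.ne_zero).1 h4

instance isLocalRing_BB : IsLocalRing (BB p f) := by
  apply IsLocalRing.of_nonunits_add
  intro a b ha hb
  rw [mem_nonunits_iff, isUnit_iff_rho_ne_zero, not_not] at ha hb ⊢
  rw [map_add, ha, hb, add_zero]

instance isLocalHom_BB : IsLocalHom (algebraMap A (BB p f)) := by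
  constructor
  intro a ha
  rw [isUnit_iff_rho_ne_zero, rho_algebraMap] at ha
  by_contra hna
  exact ha (baseHom_eq_zero a hna)

instance [IsNoetherianRing A] : IsNoetherianRing (BB p f) :=
  isNoetherianRing_of_surjective _ _ (mkB p f).toRingHom (mkB_surjective p f)

end local_

end Groth.Agent.Helper8.Cot
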