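import Mathlib
import Groth.Agent.Helper8.Cot1
import Groth.Agent.Helper1.PBasis5
set_option autoImplicit false

universe u

namespace Groth.Agent.Helper8.Cot

open MvPolynomial IsLocalRing Groth.Agent.Helper1.PBasis

section ext

variable {A : Type u} [CommRing A] (p : ℕ) [hp : Fact p.Prime] [CharP A p] {r : ℕ} (f : Fin r → A)
variable {L : Type u} [AddCommGroup L] [Module (BB p f) L] [Module A L] [IsScalarTower A (BB p f) L]

omit hp in
/-- extension of derivations from `A` to `A[T]/(T_i^p - f_i)` -/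
theorem exists_derivation (D₀ : Derivation ℤ A L) (h₀ : ∀ i, D₀ (f i) = 0) (m : Fin r → L) :
    ∃ D' : Derivation ℤ (BB p f) L, (∀ a, D' (algebraMap A (BB p f) a) = D₀ a) ∧
      ∀ i, D' (tt p f i) = m i := by
  have hpL : ∀ l : L, (p : ℕ) • l = 0 := by
    intro l
    have : ((p : ℕ) : A) • l = 0 := by rw [CharP.cast_eq_zero, zero_smul]
    rwa [Nat.cast_smul_eq_nsmul] at this
  let z : Fin r → TwD (B := BB p f) D₀ := fun i => TwD.mk D₀ (tt p f i) (m i)
  let Φ : MvPolynomial (Fin r) A →ₐ[A] TwD (B := BB p f) D₀ := MvPolynomial.aeval z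
  have hΦ : ∀ q ∈ JJ p f, Φ q = 0 := by
    apply vanish_of_gen p f Φ.toRingHom
    intro i
    change Φ (X i ^ p - C (f i)) = 0
    rw [map_sub, map_pow, MvPolynomial.aeval_X, ← MvPolynomial.algebraMap_eq, AlgHom.commutes,
      sub_eq_zero, TwD.algebraMap_apply]
    apply TwD.ext
    · rw [TwD.fst_pow, TwD.fst_mk, TwD.fst_mk, tt_pow]
    · rw [TwD.snd_pow, TwD.snd_mk, TwD.snd_mk, h₀, hpL]
  let v : BB p f →ₐ[A] TwD (B := BB p f) D₀ := liftB p f Φ hΦ
  have hv : ∀ b, (v b).fst = b := by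
    intro b
    induction b using bb_induction p f with
    | hA a => rw [AlgHom.commutes, TwD.algebraMap_apply, TwD.fst_mk]
    | hadd x y hx hy => rw [map_add, TwD.fst_add, hx, hy]
    | hmul x i hx =>
      rw [map_mul, TwD.fst_mul, hx]
      congr 1
      change (Φ (X i)).fst = _
      rw [MvPolynomial.aeval_X, TwD.fst_mk]
  refine ⟨derivOfSection D₀ v hv, ?_, ?_⟩
  · intro a
    rw [derivOfSection_apply, AlgHom.commutes, TwD.algebraMap_apply, TwD.snd_mk]
  · intro i
    rw [derivOfSection_apply]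
    change (Φ (X i)).snd = _
    rw [MvPolynomial.aeval_X, TwD.snd_mk]

end ext

end Groth.Agent.Helper8.Cot
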