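import Mathlib
import Groth.Agent.Helper8.Cot2
set_option autoImplicit false

universe u

namespace Groth.Agent.Helper8.Cot

open MvPolynomial IsLocalRing TensorProduct

section tmap

variable (X Y Z : Type u) [CommRing X] [CommRing Y] [CommRing Z] [Algebra X Y] [Algebra Y Z]
  [Algebra X Z] [IsScalarTower X Y Z]

/-- the map `Z ⊗_X Ω_X → Z ⊗_Y Ω_Y` -/
noncomputable def tmap : Z ⊗[X] Ω[X⁄ℤ] →ₗ[Z] Z ⊗[Y] Ω[Y⁄ℤ] :=
  LinearMap.liftBaseChange Z
    (((TensorProduct.mk Y Z Ω[Y⁄ℤ] 1).restrictScalars X) ∘ₗ (KaehlerDifferential.map ℤ ℤ X Y))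

theorem tmap_tmul (z : Z) (ω : Ω[X⁄ℤ]) :
    tmap X Y Z (z ⊗ₜ ω) = z ⊗ₜ (KaehlerDifferential.map ℤ ℤ X Y ω) := by
  unfold tmap
  rw [LinearMap.liftBaseChange_tmul, LinearMap.comp_apply, LinearMap.restrictScalars_apply,
    TensorProduct.mk_apply, TensorProduct.smul_tmul', smul_eq_mul, mul_one]

theorem tmap_tmul_D (z : Z) (x : X) :
    tmap X Y Z (z ⊗ₜ KaehlerDifferential.D ℤ X x) = z ⊗ₜ KaehlerDifferential.D ℤ Y (algebraMap X Y x) := by
  rw [tmap_tmul, KaehlerDifferential.map_D]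

/-- the elements `1 ⊗ D x` span -/
theorem span_one_tmul_D : Submodule.span Z (Set.range fun x : X => (1 : Z) ⊗ₜ[X] KaehlerDifferential.D ℤ X x) = ⊤ := by
  rw [eq_top_iff]
  intro w hw
  clear hw
  induction w using TensorProduct.induction_on with
  | zero => exact Submodule.zero_mem _
  | add x y hx hy => exact Submodule.add_mem _ hx hy
  | tmul z ω =>
    have hω : ω ∈ Submodule.span X (Set.range (KaehlerDifferential.D ℤ X)) := by
      rw [KaehlerDifferential.span_range_derivation]; trivial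
    induction hω using Submodule.span_induction with
    | mem y hy =>
      obtain ⟨x, rfl⟩ := hy
      have : z ⊗ₜ[X] KaehlerDifferential.D ℤ X x = z • ((1 : Z) ⊗ₜ[X] KaehlerDifferential.D ℤ X x) := by
        rw [TensorProduct.smul_tmul', smul_eq_mul, mul_one]
      rw [this]
      exact Submodule.smul_mem _ _ (Submodule.subset_span ⟨x, rfl⟩)
    | zero => rw [tmul_zero]; exact Submodule.zero_mem _
    | add x y _ _ hx hy => rw [tmul_add]; exact Submodule.add_mem _ hx hy
    | smul a x _ hx =>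
      have : z ⊗ₜ[X] (a • x) = (algebraMap X Z a) • (z ⊗ₜ[X] x) := by
        rw [TensorProduct.tmul_smul, algebraMap_smul]
      rw [this]
      exact Submodule.smul_mem _ _ hx

end tmap

end Groth.Agent.Helper8.Cot
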