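import Mathlib
import Groth.Agent.Helper8.Cot3
import Groth.Agent.Helper8.Idx
set_option autoImplicit false

universe u

namespace Groth.Agent.Helper8.Cot

open MvPolynomial IsLocalRing TensorProduct Groth.Agent.Helper8.Idx

section uu

variable {A : Type u} [CommRing A] {r : ℕ} (f : Fin r → A) (K' : Type u) [Field K'] [Algebra A K']

/-- the family `1 ⊗ d f_i` -/
noncomputable def uu (i : Fin r) : K' ⊗[A] Ω[A⁄ℤ] := (1 : K') ⊗ₜ[A] KaehlerDifferential.D ℤ A (f i)

end uu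

section gamma

variable {A : Type u} [CommRing A] (p : ℕ) [hp : Fact p.Prime] [CharP A p] {r : ℕ} (f : Fin r → A)
variable (K' : Type u) [Field K'] [Algebra (BB p f) K'] [Algebra A K'] [IsScalarTower A (BB p f) K']

omit hp in
theorem natCast_BB_eq_zero : ((p : ℕ) : BB p f) = 0 := by
  have := congrArg (algebraMap A (BB p f)) (CharP.cast_eq_zero A p)
  rwa [map_natCast, map_zero] at this

omit hp in
theorem gamma_uu (i : Fin r) : tmap A (BB p f) K' (uu f K' i) = 0 := by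
  unfold uu
  rw [tmap_tmul_D, ← tt_pow, Derivation.leibniz_pow]
  have : ∀ y : Ω[BB p f⁄ℤ], (p : ℕ) • y = 0 := by
    intro y
    rw [← Nat.cast_smul_eq_nsmul (BB p f), natCast_BB_eq_zero, zero_smul]
  rw [this, tmul_zero]

omit hp in
theorem ker_gamma_le :
    LinearMap.ker (tmap A (BB p f) K') ≤ Submodule.span K' (Set.range (uu f K')) := by
  set S := Submodule.span K' (Set.range (uu f K')) with hS
  -- the derivation `A → N`
  let lin : A →ₗ[ℤ] ((K' ⊗[A] Ω[A⁄ℤ]) ⧸ S) :=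
    (AddMonoidHom.mk' (fun a => S.mkQ ((1 : K') ⊗ₜ[A] KaehlerDifferential.D ℤ A a))
      (by intro a b; simp only [map_add, tmul_add])).toIntLinearMap
  have hlin : ∀ a, lin a = S.mkQ ((1 : K') ⊗ₜ[A] KaehlerDifferential.D ℤ A a) := fun a => rfl
  let D₀ : Derivation ℤ A ((K' ⊗[A] Ω[A⁄ℤ]) ⧸ S) := Derivation.mk' lin (by
    intro a b
    rw [hlin, hlin, hlin, Derivation.leibniz, tmul_add, map_add]
    have h1 : ∀ (c : A) (ω : Ω[A⁄ℤ]), S.mkQ ((1 : K') ⊗ₜ[A] (c • ω)) =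
        c • S.mkQ ((1 : K') ⊗ₜ[A] ω) := by
      intro c ω
      rw [← LinearMap.map_smul_of_tower, TensorProduct.tmul_smul]
    rw [h1, h1])
  have hD₀ : ∀ a, D₀ a = S.mkQ ((1 : K') ⊗ₜ[A] KaehlerDifferential.D ℤ A a) := fun a => rfl
  have h₀ : ∀ i, D₀ (f i) = 0 := by
    intro i
    rw [hD₀, Submodule.mkQ_apply, Submodule.Quotient.mk_eq_zero]
    exact Submodule.subset_span ⟨i, rfl⟩
  obtain ⟨D', hD'A, -⟩ := exists_derivation p f D₀ h₀ 0
  let ψ := D'.liftKaehlerDifferential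
  let ψ' : K' ⊗[BB p f] Ω[BB p f⁄ℤ] →ₗ[K'] ((K' ⊗[A] Ω[A⁄ℤ]) ⧸ S) := LinearMap.liftBaseChange K' ψ
  have hcomp : ψ' ∘ₗ tmap A (BB p f) K' = S.mkQ := by
    apply LinearMap.ext_on (span_one_tmul_D A K')
    rintro _ ⟨a, rfl⟩
    rw [LinearMap.comp_apply, tmap_tmul_D, LinearMap.liftBaseChange_tmul, one_smul,
      Derivation.liftKaehlerDifferential_comp_D, hD'A, hD₀]
  intro x hx
  have : S.mkQ x = 0 := by
    rw [← hcomp, LinearMap.comp_apply, LinearMap.mem_ker.1 hx, map_zero]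
  rwa [Submodule.mkQ_apply, Submodule.Quotient.mk_eq_zero] at this

omit hp in
theorem ker_gamma :
    LinearMap.ker (tmap A (BB p f) K') = Submodule.span K' (Set.range (uu f K')) := by
  apply le_antisymm (ker_gamma_le p f K')
  rw [Submodule.span_le]
  rintro _ ⟨i, rfl⟩
  exact gamma_uu p f K' i

end gamma

end Groth.Agent.Helper8.Cot
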