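import Mathlib
import Groth.Agent.Helper8.Cot4
set_option autoImplicit false

universe u

namespace Groth.Agent.Helper8.Cot

open MvPolynomial IsLocalRing TensorProduct Groth.Agent.Helper8.Idx Cardinal

section gamma

variable {A : Type u} [CommRing A] (p : ℕ) [hp : Fact p.Prime] [CharP A p] {r : ℕ} (f : Fin r → A)
variable (K' : Type u) [Field K'] [Algebra (BB p f) K'] [Algebra A K'] [IsScalarTower A (BB p f) K']

/-- the classes `1 ⊗ d T_j` -/
noncomputable def vv (j : Fin r) : K' ⊗[BB p f] Ω[BB p f⁄ℤ] :=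
  (1 : K') ⊗ₜ[BB p f] KaehlerDifferential.D ℤ (BB p f) (tt p f j)

omit hp [CharP A p] in
theorem range_sup_span_eq_top :
    LinearMap.range (tmap A (BB p f) K') ⊔ Submodule.span K' (Set.range (vv p f K')) = ⊤ := by
  rw [eq_top_iff, ← span_one_tmul_D (BB p f) K', Submodule.span_le]
  rintro _ ⟨b, rfl⟩
  induction b using bb_induction p f with
  | hA a =>
    apply Submodule.mem_sup_left
    exact ⟨(1 : K') ⊗ₜ[A] KaehlerDifferential.D ℤ A a, tmap_tmul_D A (BB p f) K' 1 a⟩
  | hadd x y hx hy =>
    simp only [map_add, tmul_add]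
    exact Submodule.add_mem _ hx hy
  | hmul x i hx =>
    simp only [Derivation.leibniz, tmul_add]
    apply Submodule.add_mem
    · have : (1 : K') ⊗ₜ[BB p f] (x • KaehlerDifferential.D ℤ (BB p f) (tt p f i)) =
          algebraMap (BB p f) K' x • vv p f K' i := by
        rw [TensorProduct.tmul_smul, algebraMap_smul]
        rfl
      rw [this]
      exact Submodule.smul_mem _ _ (Submodule.mem_sup_right (Submodule.subset_span ⟨i, rfl⟩))
    · have : (1 : K') ⊗ₜ[BB p f] (tt p f i • KaehlerDifferential.D ℤ (BB p f) x) =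
          algebraMap (BB p f) K' (tt p f i) • ((1 : K') ⊗ₜ[BB p f] KaehlerDifferential.D ℤ (BB p f) x) := by
        rw [TensorProduct.tmul_smul, algebraMap_smul]
      rw [this]
      exact Submodule.smul_mem _ _ hx

omit hp in
theorem cd_gamma : cd (tmap A (BB p f) K') = (r : Cardinal.{u}) := by
  classical
  -- the coordinate derivations
  have hex : ∀ i : Fin r, ∃ D' : Derivation ℤ (BB p f) K',
      (∀ a, D' (algebraMap A (BB p f) a) = 0) ∧ ∀ j, D' (tt p f j) = if j = i then 1 else 0 := by
    intro i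
    obtain ⟨D', h1, h2⟩ := exists_derivation p f (L := K') (0 : Derivation ℤ A K') (fun _ => rfl)
      (fun j => if j = i then 1 else 0)
    exact ⟨D', fun a => by rw [h1]; rfl, h2⟩
  choose Dc hDc1 hDc2 using hex
  let lam : Fin r → (K' ⊗[BB p f] Ω[BB p f⁄ℤ] →ₗ[K'] K') := fun i =>
    LinearMap.liftBaseChange K' (Dc i).liftKaehlerDifferential
  let Lam : K' ⊗[BB p f] Ω[BB p f⁄ℤ] →ₗ[K'] (Fin r → K') := LinearMap.pi lam
  have hlamD : ∀ i (b : BB p f), lam i ((1 : K') ⊗ₜ[BB p f] KaehlerDifferential.D ℤ (BB p f) b) = Dc i b := by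
    intro i b
    rw [LinearMap.liftBaseChange_tmul, one_smul, Derivation.liftKaehlerDifferential_comp_D]
  have hLam_gamma : Lam ∘ₗ tmap A (BB p f) K' = 0 := by
    apply LinearMap.ext_on (span_one_tmul_D A K')
    rintro _ ⟨a, rfl⟩
    ext i
    rw [LinearMap.comp_apply, tmap_tmul_D, LinearMap.pi_apply, hlamD, hDc1]
    rfl
  have hLam_vv : ∀ j, Lam (vv p f K' j) = Pi.single j 1 := by
    intro j
    ext i
    rw [LinearMap.pi_apply]
    unfold vv
    rw [hlamD, hDc2, Pi.single_apply]
    simp only [eq_comm]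
  have hsurj : Function.Surjective Lam := by
    intro c
    refine ⟨∑ j, c j • vv p f K' j, ?_⟩
    rw [map_sum]
    simp only [map_smul, hLam_vv]
    ext i
    simp [Pi.single_apply]
  have hker : LinearMap.ker Lam = LinearMap.range (tmap A (BB p f) K') := by
    apply le_antisymm
    · intro x hx
      have hx' : x ∈ LinearMap.range (tmap A (BB p f) K') ⊔ Submodule.span K' (Set.range (vv p f K')) := by
        rw [range_sup_span_eq_top]; trivial
      obtain ⟨y, hy, z, hz, rfl⟩ := Submodule.mem_sup.1 hx'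
      obtain ⟨y', rfl⟩ := hy
      obtain ⟨c, rfl⟩ := (Submodule.mem_span_range_iff_exists_fun K').1 hz
      rw [LinearMap.mem_ker, map_add] at hx
      have h1 : Lam (tmap A (BB p f) K' y') = 0 := LinearMap.congr_fun hLam_gamma y'
      rw [h1, zero_add, map_sum] at hx
      simp only [map_smul, hLam_vv] at hx
      have hc : ∀ i, c i = 0 := by
        intro i
        have := congrFun hx i
        simpa [Pi.single_apply] using this
      simp only [hc, zero_smul, Finset.sum_const_zero, add_zero]
      exact ⟨y', rfl⟩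
    · rintro _ ⟨y, rfl⟩
      exact LinearMap.congr_fun hLam_gamma y
  unfold cd
  rw [← hker, (Lam.quotKerEquivOfSurjective hsurj).rank_eq, rank_fin_fun]

end gamma

end Groth.Agent.Helper8.Cot
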