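import Mathlib
import Groth.Agent.Helper8.Idx
import Groth.Agent.Helper1.FieldSmooth7
set_option autoImplicit false

universe u

namespace Groth.Agent.Helper8.Cot

open IsLocalRing TensorProduct Groth.Agent.Helper8.Idx Cardinal Groth.Agent.Helper1.FieldSmooth

section cot

variable {X : Type u} [CommRing X]

/-- cotangent spaces of equal ideals -/
noncomputable def cotEquiv {I J : Ideal X} (h : I = J) : I.Cotangent ≃ₗ[X] J.Cotangent := by
  subst h; exact LinearEquiv.refl _ _

theorem cotEquiv_toCotangent {I J : Ideal X} (h : I = J) (x : I) :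
    cotEquiv h (I.toCotangent x) = J.toCotangent ⟨x.1, h ▸ x.2⟩ := by
  subst h; rfl

end cot

section conormal

variable (p : ℕ) [hp : Fact p.Prime] (X : Type u) [CommRing X] [IsLocalRing X] [CharP X p]
  (κ : Type u) [Field κ] [Algebra X κ] (hsurj : Function.Surjective (algebraMap X κ))

include hsurj in
omit hp [IsLocalRing X] [CharP X p] in
theorem cd_residue : cd (KaehlerDifferential.mapBaseChange ℤ X κ) = 0 := by
  unfold cd
  have : LinearMap.range (KaehlerDifferential.mapBaseChange ℤ X κ) = ⊤ :=
    LinearMap.range_eq_top.2 (KaehlerDifferential.mapBaseChange_surjective ℤ X κ hsurj)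
  rw [this]
  exact rank_subsingleton' _ _

include hsurj in
omit hp [CharP X p] in
theorem ker_eq_maximalIdeal : RingHom.ker (algebraMap X κ) = maximalIdeal X := by
  haveI : (RingHom.ker (algebraMap X κ)).IsMaximal := RingHom.ker_isMaximal_of_surjective _ hsurj
  exact IsLocalRing.eq_maximalIdeal inferInstance

include hsurj hp in
/-- injectivity of the conormal map over `ℤ` -/
theorem kerCotangentToTensor_injective :
    Function.Injective (KaehlerDifferential.kerCotangentToTensor ℤ X κ) := by
  -- base field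
  letI algX : Algebra (PF.{u} p) X :=
    ((ZMod.castHom (dvd_refl p) X).comp (ULift.ringEquiv : PF.{u} p ≃+* ZMod p).toRingHom).toAlgebra
  letI algκ : Algebra (PF.{u} p) κ := ((algebraMap X κ).comp (algebraMap (PF.{u} p) X)).toAlgebra
  haveI : IsScalarTower (PF.{u} p) X κ := IsScalarTower.of_algebraMap_eq fun _ => rfl
  haveI : CharP κ p := charP_of_injective_algebraMap (algebraMap (PF.{u} p) κ).injective p
  haveI : Algebra.FormallySmooth (PF.{u} p) κ := formallySmooth_of_perfect p (pf_perfect p)
  let f₀ : X →ₐ[PF.{u} p] κ := IsScalarTower.toAlgHom (PF.{u} p) X κ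
  have hsurj' : Function.Surjective f₀.kerSquareLift := by
    intro y
    obtain ⟨x, rfl⟩ := hsurj y
    exact ⟨Ideal.Quotient.mk _ x, rfl⟩
  have hnil : IsNilpotent (RingHom.ker f₀.kerSquareLift) := by
    have sqz : RingHom.ker f₀.kerSquareLift.toRingHom ^ 2 = ⊥ := by
      rw [AlgHom.ker_kerSquareLift, Ideal.cotangentIdeal_square]
    dsimp only [AlgHom.toRingHom_eq_coe, RingHom.ker_coe_toRingHom] at sqz
    exact ⟨2, sqz⟩
  let g := Algebra.FormallySmooth.liftOfSurjective (AlgHom.id (PF.{u} p) κ) f₀.kerSquareLift hsurj' hnil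
  have hg : f₀.kerSquareLift.comp g = AlgHom.id (PF.{u} p) κ :=
    Algebra.FormallySmooth.comp_liftOfSurjective _ _ hsurj' hnil
  obtain ⟨l, hl⟩ := (_root_.retractionKerCotangentToTensorEquivSection
    (R := PF.{u} p) (P := X) (S := κ) hsurj).symm ⟨g, hg⟩
  have hinj : Function.Injective (KaehlerDifferential.kerCotangentToTensor (PF.{u} p) X κ) := by
    intro a b hab
    have := congrArg l hab
    rwa [← LinearMap.comp_apply, ← LinearMap.comp_apply, hl] at this
  rw [injective_iff_map_eq_zero]
  intro c hc
  obtain ⟨x, rfl⟩ := Ideal.toCotangent_surjective _ c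
  apply hinj
  rw [map_zero, KaehlerDifferential.kerCotangentToTensor_toCotangent]
  rw [KaehlerDifferential.kerCotangentToTensor_toCotangent] at hc
  have := congrArg ((KaehlerDifferential.map ℤ (PF.{u} p) X X).lTensor κ) hc
  rwa [LinearMap.lTensor_tmul, KaehlerDifferential.map_D, map_zero] at this

include hsurj hp in
theorem kd_residue : kd (KaehlerDifferential.mapBaseChange ℤ X κ) =
    Module.rank (ResidueField X) (CotangentSpace X) := by
  have hker := ker_eq_maximalIdeal X κ hsurj
  let Ψ : CotangentSpace X →ₗ[X] κ ⊗[X] Ω[X⁄ℤ] :=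
    (KaehlerDifferential.kerCotangentToTensor ℤ X κ) ∘ₗ (cotEquiv hker.symm).toLinearMap
  have hΨinj : Function.Injective Ψ :=
    (kerCotangentToTensor_injective p X κ hsurj).comp (cotEquiv hker.symm).injective
  have hex := KaehlerDifferential.exact_kerCotangentToTensor_mapBaseChange ℤ X κ hsurj
  have hΨmem : ∀ c, Ψ c ∈ LinearMap.ker (KaehlerDifferential.mapBaseChange ℤ X κ) := by
    intro c
    rw [LinearMap.mem_ker]
    exact (hex _).2 ⟨_, rfl⟩
  have hΨsurj : ∀ y ∈ LinearMap.ker (KaehlerDifferential.mapBaseChange ℤ X κ), ∃ c, Ψ c = y := by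
    intro y hy
    obtain ⟨c, rfl⟩ := (hex y).1 (LinearMap.mem_ker.1 hy)
    exact ⟨(cotEquiv hker.symm).symm c, by simp [Ψ]⟩
  -- the residue field identification
  let ι : ResidueField X →+* κ := Ideal.Quotient.lift (maximalIdeal X) (algebraMap X κ) (by
    intro a ha
    rw [← hker] at ha
    exact RingHom.mem_ker.1 ha)
  have hι : ∀ x, ι (residue X x) = algebraMap X κ x := fun x => rfl
  have hιbij : Function.Bijective ι := by
    refine ⟨ι.injective, fun y => ?_⟩
    obtain ⟨x, rfl⟩ := hsurj y
    exact ⟨residue X x, rfl⟩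
  let j₀ : CotangentSpace X →+ LinearMap.ker (KaehlerDifferential.mapBaseChange ℤ X κ) :=
    { toFun := fun c => ⟨Ψ c, hΨmem c⟩
      map_zero' := by ext; simp
      map_add' := fun a b => by ext; simp }
  have hj₀bij : Function.Bijective j₀ := by
    constructor
    · intro a b hab
      apply hΨinj
      exact congrArg Subtype.val hab
    · rintro ⟨y, hy⟩
      obtain ⟨c, rfl⟩ := hΨsurj y hy
      exact ⟨c, rfl⟩
  let j := AddEquiv.ofBijective j₀ hj₀bij
  have hc : ∀ (c : ResidueField X) (m : CotangentSpace X), j (c • m) = ι c • j m := by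
    intro c m
    obtain ⟨x, rfl⟩ := residue_surjective c
    apply Subtype.ext
    change Ψ (residue X x • m) = ι (residue X x) • Ψ m
    rw [hι, ← ResidueField.algebraMap_eq, algebraMap_smul, map_smul, algebraMap_smul]
  unfold kd
  exact (rank_eq_of_equiv_equiv ι j hιbij hc).symm

end conormal

end Groth.Agent.Helper8.Cot
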