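import Mathlib
import Groth.Agent.Helper8.Cot3
import Groth.Agent.Helper8.Idx2
set_option autoImplicit false

universe u

namespace Groth.Agent.Helper8.Cot

open IsLocalRing TensorProduct Groth.Agent.Helper8.Idx Cardinal Module

section lin

variable {K K' V ι : Type*} [Field K] [Field K'] [Algebra K K'] [AddCommGroup V] [Module K V]

theorem linearIndependent_one_tmul (v : ι → V) (hv : LinearIndependent K v) :
    LinearIndependent K' (fun i => (1 : K') ⊗ₜ[K] v i) := by
  have hs := hv.linearIndepOn_id
  let b := Basis.extend hs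
  let b' := b.baseChange K'
  have hmem : ∀ i, v i ∈ hs.extend (Set.subset_univ _) := fun i => Basis.subset_extend hs ⟨i, rfl⟩
  have h1 : (fun i => (1 : K') ⊗ₜ[K] v i) = b' ∘ (fun i => (⟨v i, hmem i⟩ : hs.extend (Set.subset_univ _))) := by
    funext i
    simp only [Function.comp_apply, b', Basis.baseChange_apply, b, Basis.extend_apply_self]
  rw [h1]
  refine b'.linearIndependent.comp _ (fun i j h => hv.injective ?_)
  exact congrArg Subtype.val h

theorem linearIndependent_of_one_tmul [Fintype ι] (v : ι → V)
    (hv : LinearIndependent K' (fun i => (1 : K') ⊗ₜ[K] v i)) : LinearIndependent K v := by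
  rw [Fintype.linearIndependent_iff] at hv ⊢
  intro c hc i
  have h1 : ∑ i, algebraMap K K' (c i) • ((1 : K') ⊗ₜ[K] v i) = 0 := by
    have : ∀ i, algebraMap K K' (c i) • ((1 : K') ⊗ₜ[K] v i) = (1 : K') ⊗ₜ[K] (c i • v i) := by
      intro i
      rw [TensorProduct.tmul_smul, algebraMap_smul]
    simp only [this]
    rw [← TensorProduct.tmul_sum, hc, tmul_zero]
  have := hv _ h1 i
  exact (algebraMap K K').injective (by rw [this, map_zero])

end lin

section square

variable (A B K K' : Type u) [CommRing A] [CommRing B] [Field K] [Field K'] [Algebra A B]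
  [Algebra A K] [Algebra B K'] [Algebra K K'] [Algebra A K'] [IsScalarTower A B K']
  [IsScalarTower A K K']

theorem square_comm :
    (KaehlerDifferential.mapBaseChange ℤ B K') ∘ₗ tmap A B K' =
      (KaehlerDifferential.mapBaseChange ℤ K K') ∘ₗ tmap A K K' := by
  apply LinearMap.ext_on (span_one_tmul_D A K')
  rintro _ ⟨a, rfl⟩
  rw [LinearMap.comp_apply, LinearMap.comp_apply, tmap_tmul_D, tmap_tmul_D,
    KaehlerDifferential.mapBaseChange_tmul, KaehlerDifferential.mapBaseChange_tmul,
    KaehlerDifferential.map_D, KaehlerDifferential.map_D, ← IsScalarTower.algebraMap_apply,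
    ← IsScalarTower.algebraMap_apply]

theorem tmap_residue_comp :
    tmap A K K' ∘ₗ (TensorProduct.AlgebraTensorModule.cancelBaseChange A K K' K' Ω[A⁄ℤ]).toLinearMap =
      (KaehlerDifferential.mapBaseChange ℤ A K).baseChange K' := by
  refine LinearMap.ext fun x => ?_
  induction x using TensorProduct.induction_on with
  | zero => simp
  | add x y hx hy => rw [map_add, map_add, hx, hy]
  | tmul z y =>
    induction y using TensorProduct.induction_on with
    | zero => simp
    | add x y hx hy => rw [tmul_add, map_add, map_add, hx, hy]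
    | tmul c ω =>
      rw [LinearMap.comp_apply, LinearEquiv.coe_coe,
        TensorProduct.AlgebraTensorModule.cancelBaseChange_tmul, LinearMap.baseChange_tmul,
        KaehlerDifferential.mapBaseChange_tmul, tmap_tmul, TensorProduct.tmul_smul,
        TensorProduct.smul_tmul']

theorem index_square
    (hkA : kd (KaehlerDifferential.mapBaseChange ℤ A K) < ℵ₀)
    (hcA : cd (KaehlerDifferential.mapBaseChange ℤ A K) = 0)
    (hkB : kd (KaehlerDifferential.mapBaseChange ℤ B K') < ℵ₀)
    (hcB : cd (KaehlerDifferential.mapBaseChange ℤ B K') = 0)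
    (hkγ : kd (tmap A B K') < ℵ₀) (hcγ : cd (tmap A B K') < ℵ₀)
    (hkα : kd (KaehlerDifferential.mapBaseChange ℤ K K') < ℵ₀)
    (hcα : cd (KaehlerDifferential.mapBaseChange ℤ K K') < ℵ₀)
    (hα : toNat (cd (KaehlerDifferential.mapBaseChange ℤ K K')) =
      toNat (kd (KaehlerDifferential.mapBaseChange ℤ K K'))) :
    toNat (kd (KaehlerDifferential.mapBaseChange ℤ B K')) + toNat (kd (tmap A B K')) =
      toNat (kd (KaehlerDifferential.mapBaseChange ℤ A K)) + toNat (cd (tmap A B K')) := by
  set e := TensorProduct.AlgebraTensorModule.cancelBaseChange A K K' K' Ω[A⁄ℤ]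
  have h2k : kd (tmap A K K') = kd (KaehlerDifferential.mapBaseChange ℤ A K) := by
    rw [← kd_comp_equiv (tmap A K K') e, tmap_residue_comp, kd_baseChange]
  have h2c : cd (tmap A K K') = cd (KaehlerDifferential.mapBaseChange ℤ A K) := by
    rw [← cd_comp_equiv (tmap A K K') e, tmap_residue_comp, cd_baseChange]
  have hcB' : cd (KaehlerDifferential.mapBaseChange ℤ B K') < ℵ₀ := by
    rw [hcB]; exact Cardinal.aleph0_pos
  have hcA' : cd (tmap A K K') < ℵ₀ := by rw [h2c, hcA]; exact Cardinal.aleph0_pos
  obtain ⟨-, -, i1⟩ := index_comp (tmap A B K') (KaehlerDifferential.mapBaseChange ℤ B K')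
    hkγ hcγ hkB hcB'
  obtain ⟨-, -, i2⟩ := index_comp (tmap A K K') (KaehlerDifferential.mapBaseChange ℤ K K')
    (by rw [h2k]; exact hkA) hcA' hkα hcα
  rw [square_comm A B K K', i2, h2k, h2c, hcA, hcB, hα] at i1
  simp only [map_zero, Nat.cast_zero] at i1
  omega

end square

end Groth.Agent.Helper8.Cot
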