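import Mathlib
import Groth.Agent.Helper8.Cot5
import Groth.Agent.Helper8.Cot6
import Groth.Agent.Helper8.Cot7
import Groth.Agent.Helper8.Idx12
set_option autoImplicit false

universe u

namespace Groth.Agent.Helper8.Cot

open IsLocalRing TensorProduct Groth.Agent.Helper8.Idx Cardinal Module

section final

variable {A : Type u} [CommRing A] [IsLocalRing A] (p : ℕ) [hp : Fact p.Prime]
  [CharP A p] {r : ℕ} (f : Fin r → A)

theorem adjoin_residue_tt :
    IntermediateField.adjoin (ResidueField A)
      (Set.range fun i => residue (BB p f) (tt p f i)) = ⊤ := by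
  rw [eq_top_iff]
  intro y hy
  clear hy
  obtain ⟨b, rfl⟩ := residue_surjective y
  induction b using bb_induction p f with
  | hA a =>
    have : residue (BB p f) (algebraMap A (BB p f) a) =
        algebraMap (ResidueField A) (ResidueField (BB p f)) (residue A a) := rfl
    rw [this]
    exact IntermediateField.algebraMap_mem _ _
  | hadd x y hx hy => rw [map_add]; exact add_mem hx hy
  | hmul x i hx =>
    rw [map_mul]
    exact mul_mem hx (IntermediateField.subset_adjoin _ _ ⟨i, rfl⟩)

theorem isAlgebraic_residue : Algebra.IsAlgebraic (ResidueField A) (ResidueField (BB p f)) := by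
  constructor
  intro y
  obtain ⟨b, rfl⟩ := residue_surjective y
  obtain ⟨a, ha⟩ := exists_pow_eq p f b
  apply IsIntegral.isAlgebraic
  apply IsIntegral.of_pow hp.out.pos
  rw [← map_pow, ha]
  have : residue (BB p f) (algebraMap A (BB p f) a) =
      algebraMap (ResidueField A) (ResidueField (BB p f)) (residue A a) := rfl
  rw [this]
  exact isIntegral_algebraMap

omit [IsLocalRing A] [CharP A p] hp in
theorem rank_lt_of_finite {L V : Type u} [Field L] [AddCommGroup V] [Module L V] (q : Submodule L V)
    (h : Module.Finite L q) : Module.rank L q < ℵ₀ := Module.rank_lt_aleph0 _ _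

theorem cd_mapBaseChange_int (K L : Type u) [Field K] [Field L] [Algebra K L] :
    cd (KaehlerDifferential.mapBaseChange ℤ K L) = Module.rank L Ω[L⁄K] := by
  unfold cd
  rw [KaehlerDifferential.range_mapBaseChange]
  exact ((KaehlerDifferential.map ℤ K L L).quotKerEquivOfSurjective
    (KaehlerDifferential.map_surjective ℤ K L)).rank_eq

theorem alpha_facts (K L : Type u) [Field K] [Field L] [Algebra K L] [Algebra.EssFiniteType K L]
    [Algebra.IsAlgebraic K L] :
    kd (KaehlerDifferential.mapBaseChange ℤ K L) < ℵ₀ ∧
    cd (KaehlerDifferential.mapBaseChange ℤ K L) < ℵ₀ ∧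
    toNat (cd (KaehlerDifferential.mapBaseChange ℤ K L)) =
      toNat (kd (KaehlerDifferential.mapBaseChange ℤ K L)) := by
  obtain ⟨h1, h2, h3⟩ := cartier_eq (K := K) (L := L)
  have ht0 : Algebra.trdeg K L = 0 := trdeg_eq_zero_iff.2 inferInstance
  rw [ht0] at h3
  have hk : kd (KaehlerDifferential.mapBaseChange ℤ K L) < ℵ₀ := by
    unfold kd
    exact rank_lt_of_finite _ h2
  have hc : cd (KaehlerDifferential.mapBaseChange ℤ K L) < ℵ₀ := by
    rw [cd_mapBaseChange_int]
    exact Module.rank_lt_aleph0 L _
  refine ⟨hk, hc, ?_⟩
  rw [cd_mapBaseChange_int]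
  have h4 : (Module.finrank L Ω[L⁄K] : ℤ) = Module.finrank L (EGA41.imperfection ℤ K L) := by
    simp only [map_zero, Nat.cast_zero] at h3
    linarith
  exact_mod_cast h4

/-- the dimension formula `μ_B + w = μ_A + r` -/
theorem main_eq [IsNoetherianRing A] :
    Module.finrank (ResidueField (BB p f)) (CotangentSpace (BB p f)) +
        (Set.range (uu f (ResidueField (BB p f)))).finrank (ResidueField (BB p f)) =
      Module.finrank (ResidueField A) (CotangentSpace A) + r := by
  haveI := charP_BB p f
  have hsA : Function.Surjective (algebraMap A (ResidueField A)) := residue_surjective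
  have hsB : Function.Surjective (algebraMap (BB p f) (ResidueField (BB p f))) := residue_surjective
  have hkA := kd_residue p A (ResidueField A) hsA
  have hcA := cd_residue A (ResidueField A) hsA
  have hkB := kd_residue p (BB p f) (ResidueField (BB p f)) hsB
  have hcB := cd_residue (BB p f) (ResidueField (BB p f)) hsB
  have hkγ := ker_gamma p f (ResidueField (BB p f))
  have hcγ := cd_gamma p f (ResidueField (BB p f))
  haveI : Algebra.IsAlgebraic (ResidueField A) (ResidueField (BB p f)) := isAlgebraic_residue p f
  haveI : Algebra.EssFiniteType (ResidueField A) (ResidueField (BB p f)) := by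
    classical
    apply IntermediateField.fg_top_iff.mp
    refine ⟨Finset.univ.image fun i => residue (BB p f) (tt p f i), ?_⟩
    rw [Finset.coe_image, Finset.coe_univ, Set.image_univ]
    exact adjoin_residue_tt p f
  obtain ⟨hα1, hα2, hα3⟩ := alpha_facts (ResidueField A) (ResidueField (BB p f))
  have hfinA : Module.rank (ResidueField A) (CotangentSpace A) < ℵ₀ := Module.rank_lt_aleph0 _ _
  have hfinB : Module.rank (ResidueField (BB p f)) (CotangentSpace (BB p f)) < ℵ₀ :=
    Module.rank_lt_aleph0 _ _
  have hkγ' : kd (tmap A (BB p f) (ResidueField (BB p f))) =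
      Module.rank (ResidueField (BB p f))
        (Submodule.span (ResidueField (BB p f)) (Set.range (uu f (ResidueField (BB p f))))) := by
    unfold kd
    rw [hkγ]
  have hfinγ : kd (tmap A (BB p f) (ResidueField (BB p f))) < ℵ₀ := by
    rw [hkγ']
    haveI : Module.Finite (ResidueField (BB p f))
        (Submodule.span (ResidueField (BB p f)) (Set.range (uu f (ResidueField (BB p f))))) :=
      FiniteDimensional.span_of_finite _ (Set.finite_range _)
    exact Module.rank_lt_aleph0 _ _
  have key := index_square A (BB p f) (ResidueField A) (ResidueField (BB p f))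
    (by rw [hkA]; exact hfinA) hcA (by rw [hkB]; exact hfinB) hcB hfinγ
    (by rw [hcγ]; exact Cardinal.natCast_lt_aleph0) hα1 hα2 hα3
  rw [hkA, hkB, hkγ', hcγ, Cardinal.toNat_natCast] at key
  exact key

theorem main [IsNoetherianRing A] :
    Module.finrank (ResidueField A) (CotangentSpace A) =
        Module.finrank (ResidueField (BB p f)) (CotangentSpace (BB p f)) ↔
      LinearIndependent (ResidueField A)
        (fun i => (1 : ResidueField A) ⊗ₜ[A] KaehlerDifferential.D ℤ A (f i)) := by
  have key := main_eq p f
  have h1 : LinearIndependent (ResidueField (BB p f)) (uu f (ResidueField (BB p f))) ↔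
      Fintype.card (Fin r) = (Set.range (uu f (ResidueField (BB p f)))).finrank (ResidueField (BB p f)) :=
    linearIndependent_iff_card_eq_finrank_span
  let e := TensorProduct.AlgebraTensorModule.cancelBaseChange A (ResidueField A)
    (ResidueField (BB p f)) (ResidueField (BB p f)) Ω[A⁄ℤ]
  have hu : uu f (ResidueField (BB p f)) = e.toLinearMap ∘ (fun i => (1 : ResidueField (BB p f)) ⊗ₜ[ResidueField A]
      ((1 : ResidueField A) ⊗ₜ[A] KaehlerDifferential.D ℤ A (f i))) := by
    funext i
    rw [Function.comp_apply, LinearEquiv.coe_coe,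
      TensorProduct.AlgebraTensorModule.cancelBaseChange_tmul, one_smul]
    rfl
  have h2 : LinearIndependent (ResidueField (BB p f)) (uu f (ResidueField (BB p f))) ↔
      LinearIndependent (ResidueField A)
        (fun i => (1 : ResidueField A) ⊗ₜ[A] KaehlerDifferential.D ℤ A (f i)) := by
    rw [hu, LinearMap.linearIndependent_iff e.toLinearMap (LinearEquiv.ker e)]
    exact ⟨linearIndependent_of_one_tmul _, linearIndependent_one_tmul _⟩
  rw [← h2, h1, Fintype.card_fin]
  omega

end final

end Groth.Agent.Helper8.Cot
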