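import Mathlib
import Groth.Agent.Helper8.Cot1
set_option autoImplicit false
universe u

namespace Groth.Agent.Helper8.GeomReg
open TensorProduct Groth.Agent.Helper8.Cot MvPolynomial

section bc
variable {k A : Type u} [CommRing k] [CommRing A] [Algebra k A] (p : ℕ) {r : ℕ} (c : Fin r → k)

/-- the image family in `A` -/
abbrev fA (c : Fin r → k) : Fin r → A := fun i => algebraMap k A (c i)

/-- the `k`-algebra structure on `A[T]/(T^p - c)` -/
@[reducible] noncomputable def algkBB : Algebra k (BB p (fA (A := A) c)) :=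
  ((algebraMap A (BB p (fA (A := A) c))).comp (algebraMap k A)).toAlgebra

attribute [local instance 10] algkBB

theorem towerBB : IsScalarTower k A (BB p (fA (A := A) c)) := IsScalarTower.of_algebraMap_eq fun _ => rfl

attribute [local instance] towerBB

/-- `k[T]/(T^p - c) → A[T]/(T^p - c)` -/
noncomputable def bbMap : BB p c →ₐ[k] BB p (fA (A := A) c) :=
  liftB p c (MvPolynomial.aeval (fun i => tt p (fA (A := A) c) i))
    (vanish_of_gen p c (MvPolynomial.aeval (fun i => tt p (fA (A := A) c) i)).toRingHom (by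
      intro i
      change (MvPolynomial.aeval (fun i => tt p (fA (A := A) c) i)) (X i ^ p - C (c i)) = 0
      rw [map_sub, map_pow, MvPolynomial.aeval_X, ← MvPolynomial.algebraMap_eq, AlgHom.commutes,
        tt_pow, sub_eq_zero]
      rfl))

theorem bbMap_tt (i : Fin r) : bbMap (A := A) p c (tt p c i) = tt p (fA (A := A) c) i := by
  change (MvPolynomial.aeval (fun i => tt p (fA (A := A) c) i)) (X i) = _
  rw [MvPolynomial.aeval_X]

/-- `k[T]/(T^p - c) ⊗ A → A[T]/(T^p - c)` -/
noncomputable def Psi : BB p c ⊗[k] A →ₐ[k] BB p (fA (A := A) c) :=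
  Algebra.TensorProduct.lift (bbMap p c) (IsScalarTower.toAlgHom k A (BB p (fA (A := A) c)))
    (fun _ _ => Commute.all _ _)

theorem Psi_tmul (b : BB p c) (a : A) :
    Psi (A := A) p c (b ⊗ₜ a) = bbMap p c b * algebraMap A _ a := by
  unfold Psi
  rw [Algebra.TensorProduct.lift_tmul]
  rfl

attribute [local instance] Algebra.TensorProduct.rightAlgebra

/-- `A[T]/(T^p - c) → k[T]/(T^p - c) ⊗ A` -/
noncomputable def Phi : BB p (fA (A := A) c) →ₐ[A] BB p c ⊗[k] A :=
  liftB p (fA (A := A) c) (MvPolynomial.aeval (fun i => tt p c i ⊗ₜ[k] (1 : A)))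
    (vanish_of_gen p (fA (A := A) c)
      (MvPolynomial.aeval (fun i => tt p c i ⊗ₜ[k] (1 : A))).toRingHom (by
      intro i
      change (MvPolynomial.aeval (fun i => tt p c i ⊗ₜ[k] (1 : A))) (X i ^ p - C (fA (A := A) c i)) = 0
      rw [map_sub, map_pow, MvPolynomial.aeval_X, ← MvPolynomial.algebraMap_eq, AlgHom.commutes,
        Algebra.TensorProduct.tmul_pow, one_pow, tt_pow, sub_eq_zero,
        Algebra.TensorProduct.right_algebraMap_apply]
      change (algebraMap k (BB p c) (c i)) ⊗ₜ[k] (1 : A) = (1 : BB p c) ⊗ₜ[k] (algebraMap k A (c i))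
      rw [Algebra.algebraMap_eq_smul_one (c i), Algebra.algebraMap_eq_smul_one (c i),
        TensorProduct.smul_tmul]))

theorem Phi_tt (i : Fin r) : Phi (A := A) p c (tt p (fA (A := A) c) i) = tt p c i ⊗ₜ 1 := by
  change (MvPolynomial.aeval (fun i => tt p c i ⊗ₜ[k] (1 : A))) (X i) = _
  rw [MvPolynomial.aeval_X]

theorem Psi_Phi (b : BB p (fA (A := A) c)) : Psi p c (Phi p c b) = b := by
  induction b using bb_induction p (fA (A := A) c) with
  | hA a =>
    rw [AlgHom.commutes, Algebra.TensorProduct.right_algebraMap_apply, Psi_tmul, map_one, one_mul]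
  | hadd x y hx hy => rw [map_add, map_add, hx, hy]
  | hmul x i hx =>
    rw [map_mul, map_mul, hx, Phi_tt, Psi_tmul, map_one, mul_one, bbMap_tt]

theorem Phi_bbMap (b : BB p c) : Phi (A := A) p c (bbMap p c b) = b ⊗ₜ 1 := by
  induction b using bb_induction p c with
  | hA a =>
    rw [AlgHom.commutes]
    change Phi p c (algebraMap A _ (algebraMap k A a)) = _
    rw [AlgHom.commutes, Algebra.TensorProduct.right_algebraMap_apply,
      Algebra.algebraMap_eq_smul_one a, Algebra.algebraMap_eq_smul_one a, TensorProduct.smul_tmul]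
  | hadd x y hx hy => rw [map_add, map_add, hx, hy, TensorProduct.add_tmul]
  | hmul x i hx =>
    rw [map_mul, map_mul, hx, bbMap_tt, Phi_tt, Algebra.TensorProduct.tmul_mul_tmul, mul_one]

theorem Phi_Psi (y : BB p c ⊗[k] A) : Phi p c (Psi p c y) = y := by
  induction y using TensorProduct.induction_on with
  | zero => rw [map_zero, map_zero]
  | add x y hx hy => rw [map_add, map_add, hx, hy]
  | tmul b a =>
    rw [Psi_tmul, map_mul, Phi_bbMap, AlgHom.commutes, Algebra.TensorProduct.right_algebraMap_apply,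
      Algebra.TensorProduct.tmul_mul_tmul, mul_one, one_mul]

/-- base change of the `p`-th root algebra -/
noncomputable def bbEquiv : BB p c ⊗[k] A ≃+* BB p (fA (A := A) c) :=
  RingEquiv.ofRingHom (Psi (A := A) p c : BB p c ⊗[k] A →+* BB p (fA (A := A) c))
    (Phi (A := A) p c : BB p (fA (A := A) c) →+* BB p c ⊗[k] A)
    (RingHom.ext fun b => Psi_Phi p c b) (RingHom.ext fun y => Phi_Psi p c y)

end bc

end Groth.Agent.Helper8.GeomReg
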