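import Mathlib
import Groth.Agent.Helper8.GeomReg10
import Groth.Agent.Helper8.Cot8
import Groth.Agent.Helper5.IntegralDim
set_option autoImplicit false
universe u

namespace Groth.Agent.Helper8.GeomReg
open TensorProduct IsLocalRing Groth.Agent.Helper8.Cot

/-- regularity of the base changes to finite extensions of exponent one -/
def PRadReg (k A : Type u) [Field k] [CommRing A] [Algebra k A] (p : ℕ) : Prop :=
  ∀ (k' : Type u) [Field k'] [Algebra k k'], Module.Finite k k' →
    (∀ x : k', x ^ p ∈ (algebraMap k k').range) → IsRegularRing (k' ⊗[k] A)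

section integral
variable {A : Type u} [CommRing A] [IsLocalRing A] (p : ℕ) [hp : Fact p.Prime] [CharP A p]
  {r : ℕ} (f : Fin r → A)

theorem isIntegral_BB : Algebra.IsIntegral A (BB p f) := by
  refine ⟨fun b => ?_⟩
  obtain ⟨a, ha⟩ := exists_pow_eq p f b
  refine ⟨Polynomial.X ^ p - Polynomial.C a, Polynomial.monic_X_pow_sub_C a hp.out.ne_zero, ?_⟩
  rw [Polynomial.eval₂_sub, Polynomial.eval₂_pow, Polynomial.eval₂_X, Polynomial.eval₂_C, ha,
    sub_self]

theorem finiteType_BB : Algebra.FiniteType A (BB p f) :=
  Algebra.FiniteType.of_surjective (mkB p f) (mkB_surjective p f)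

theorem finite_BB : Module.Finite A (BB p f) := by
  haveI := isIntegral_BB p f
  haveI := finiteType_BB p f
  exact Algebra.IsIntegral.finite

end integral

section field
variable {k : Type u} [Field k] (p : ℕ) [hp : Fact p.Prime] [CharP k p] {r : ℕ} (c : Fin r → k)

theorem isField_BB (hc : LinearIndependent k (fun i => KaehlerDifferential.D ℤ k (c i))) :
    IsField (BB p c) := by
  rw [← IsLocalRing.finrank_cotangentSpace_eq_zero_iff, ← IsLocalRing.finrank_cotangentSpace_eq_zero k]
  symm
  rw [Cot.main p c]
  exact linearIndependent_one_tmul _ hc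

end field

section star
variable {k A : Type u} [Field k] (p : ℕ) [hp : Fact p.Prime] [CharP k p] [CommRing A]
  [IsLocalRing A] [IsNoetherianRing A] [Algebra k A]

include hp in
theorem isRegularLocalRing_of_pRadReg (h : PRadReg k A p) : IsRegularLocalRing A := by
  haveI : IsRegularRing (k ⊗[k] A) := h k (Module.Finite.self k) (fun x => ⟨x ^ p, rfl⟩)
  haveI : IsRegularRing A := IsRegularRing.of_ringEquiv (Algebra.TensorProduct.lid k A).toRingEquiv
  exact IsRegularLocalRing.of_isRegularRing_of_isLocalRing A

theorem star (h : PRadReg k A p) {r : ℕ} (c : Fin r → k)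
    (hc : LinearIndependent k (fun i => KaehlerDifferential.D ℤ k (c i))) :
    LinearIndependent (ResidueField A)
      (fun i => (1 : ResidueField A) ⊗ₜ[A] KaehlerDifferential.D ℤ A (algebraMap k A (c i))) := by
  haveI : CharP A p := charP_of_injective_algebraMap (algebraMap k A).injective p
  have hregA := isRegularLocalRing_of_pRadReg p h
  have hfield := isField_BB p c hc
  have hregB : IsRegularRing (BB p (fA (A := A) c)) := by
    letI : Field (BB p c) := hfield.toField
    haveI : IsRegularRing (BB p c ⊗[k] A) := h (BB p c) (finite_BB p c) (fun x => by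
      obtain ⟨a, ha⟩ := exists_pow_eq p c x
      exact ⟨a, ha.symm⟩)
    exact IsRegularRing.of_ringEquiv (bbEquiv p c)
  haveI := hregB
  have hregB' : IsRegularLocalRing (BB p (fA (A := A) c)) :=
    IsRegularLocalRing.of_isRegularRing_of_isLocalRing _
  have key := main_eq p (fA (A := A) c)
  have hw : (Set.range (uu (fA (A := A) c) (ResidueField (BB p (fA (A := A) c))))).finrank
      (ResidueField (BB p (fA (A := A) c))) ≤ r := by
    have := finrank_range_le_card (R := ResidueField (BB p (fA (A := A) c)))
      (uu (fA (A := A) c) (ResidueField (BB p (fA (A := A) c))))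
    simpa using this
  have hA := (IsRegularLocalRing.iff_finrank_cotangentSpace A).mp hregA
  have hB := (IsRegularLocalRing.iff_finrank_cotangentSpace _).mp hregB'
  haveI := isIntegral_BB p (fA (A := A) c)
  have hdim : ringKrullDim (BB p (fA (A := A) c)) ≤ ringKrullDim A :=
    Groth.Agent.Helper5.IntegralDim.ringKrullDim_le_of_isIntegral
  rw [← hA, ← hB] at hdim
  have hle : Module.finrank (ResidueField (BB p (fA (A := A) c))) (CotangentSpace (BB p (fA (A := A) c))) ≤
      Module.finrank (ResidueField A) (CotangentSpace A) := by exact_mod_cast hdim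
  rw [← Cot.main p (fA (A := A) c)]
  omega

end star

end Groth.Agent.Helper8.GeomReg
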