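import Mathlib
import Groth.Agent.Helper8.AdicReg2
import Groth.Agent.Helper8.AdicFS
import Groth.Agent.S0548
import Groth.Agent.Helper2.SerreLoc
import Groth.Agent.Helper2.RegMax
set_option autoImplicit false
universe u

namespace Groth.Agent.Helper8.GeomReg
open IsLocalRing MvPowerSeries TensorProduct

noncomputable def mvMapEquiv {R S : Type*} [CommRing R] [CommRing S] (σ : Type*) (e : R ≃+* S) :
    MvPowerSeries σ R ≃+* MvPowerSeries σ S :=
  RingEquiv.ofRingHom (MvPowerSeries.map (e : R →+* S)) (MvPowerSeries.map (e.symm : S →+* R))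
    (by rw [← MvPowerSeries.map_comp]; simp [MvPowerSeries.map_id])
    (by rw [← MvPowerSeries.map_comp]; simp [MvPowerSeries.map_id])

section
variable {k A : Type u} [Field k] [CommRing A] [IsLocalRing A] [IsNoetherianRing A] [Algebra k A]

theorem completion_adic (h : CAlgX.IsAdicFormallySmooth k A (maximalIdeal A)) :
    CAlgX.IsAdicFormallySmooth k (AdicCompletion (maximalIdeal A) A)
      (maximalIdeal (AdicCompletion (maximalIdeal A) A)) := by
  rw [AdicCompletion.maximalIdeal_eq_map]
  exact (Groth.Agent.Helper8.AdicFS.s9318 _ (maximalIdeal A).fg_of_isNoetherianRing).mp h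

theorem exists_equiv_completion (h : CAlgX.IsAdicFormallySmooth k A (maximalIdeal A)) :
    ∃ n : ℕ, Nonempty (AdicCompletion (maximalIdeal A) A ≃+*
      MvPowerSeries (Fin n) (ResidueField A)) := by
  haveI : IsNoetherianRing (AdicCompletion (maximalIdeal A) A) := Groth.Agent.S0543.result A _
  obtain ⟨n, ⟨e⟩⟩ := Groth.Agent.Helper8.AdicReg.exists_equiv (completion_adic h)
  let e0 : ResidueField A ≃+* ResidueField (AdicCompletion (maximalIdeal A) A) :=
    RingEquiv.ofBijective _ (AdicCompletion.residueField_map_bijective A)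
  exact ⟨n, ⟨e.symm.trans (mvMapEquiv (Fin n) e0.symm)⟩⟩

theorem isRegularLocalRing_of_adic (h : CAlgX.IsAdicFormallySmooth k A (maximalIdeal A)) :
    IsRegularLocalRing A := by
  haveI : IsNoetherianRing (AdicCompletion (maximalIdeal A) A) := Groth.Agent.S0543.result A _
  rw [Groth.Agent.S0548.result]
  exact Groth.Agent.Helper8.AdicReg.isRegularLocalRing (completion_adic h)

end

end Groth.Agent.Helper8.GeomReg
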