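import Mathlib
import Groth.Prelude.Def_CAlgX
set_option autoImplicit false
universe u

namespace Groth.Agent.Helper8.GeomReg
open IsLocalRing TensorProduct

section basechange
variable {k A : Type u} [Field k] [CommRing A] [Algebra k A]
  (k' : Type u) [Field k'] [Algebra k k']

/-- base change of adic formal smoothness along a field extension -/
theorem baseChange_adic (I : Ideal A) (h : CAlgX.IsAdicFormallySmooth k A I) :
    CAlgX.IsAdicFormallySmooth k' (k' ⊗[k] A)
      (I.map (Algebra.TensorProduct.includeRight : A →ₐ[k] k' ⊗[k] A)) := by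
  intro C _ _ J hJ ψ ⟨t, ht⟩
  letI : Algebra k C := ((algebraMap k' C).comp (algebraMap k k')).toAlgebra
  haveI : IsScalarTower k k' C := IsScalarTower.of_algebraMap_eq fun _ => rfl
  let ψ₀ : A →ₐ[k] C ⧸ J :=
    (ψ.restrictScalars k).comp (Algebra.TensorProduct.includeRight : A →ₐ[k] k' ⊗[k] A)
  obtain ⟨χ₀, hχ₀⟩ := h C J hJ ψ₀ ⟨t, fun x hx => by
    apply ht
    rw [← Ideal.map_pow]
    exact Ideal.mem_map_of_mem _ hx⟩
  let χ : k' ⊗[k] A →ₐ[k'] C :=
    Algebra.TensorProduct.lift (Algebra.ofId k' C) χ₀ (fun _ _ => Commute.all _ _)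
  refine ⟨χ, ?_⟩
  apply Algebra.TensorProduct.ext
  · ext
  · ext a
    have := congr($hχ₀ a)
    simpa [χ, ψ₀] using this

end basechange

section loc
variable {k S : Type u} [Field k] [CommRing S] [Algebra k S]
  (M : Submonoid S) (B : Type u) [CommRing B] [Algebra S B] [Algebra k B] [IsScalarTower k S B]
  [IsLocalization M B]

include M in
/-- adic formal smoothness passes to localizations (with any coarser adic topology) -/
theorem localization_adic (I : Ideal S) (𝔫 : Ideal B) (hI : I.map (algebraMap S B) ≤ 𝔫)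
    (h : CAlgX.IsAdicFormallySmooth k S I) :
    CAlgX.IsAdicFormallySmooth k B 𝔫 := by
  intro C _ _ J hJ ψ ⟨t, ht⟩
  let ψ₀ : S →ₐ[k] C ⧸ J := ψ.comp (IsScalarTower.toAlgHom k S B)
  obtain ⟨χ₀, hχ₀⟩ := h C J hJ ψ₀ ⟨t, fun x hx => by
    apply ht
    apply Ideal.pow_right_mono hI
    rw [← Ideal.map_pow]
    exact Ideal.mem_map_of_mem _ hx⟩
  have hunit : ∀ s : M, IsUnit ((χ₀ : S →+* C) s) := by
    intro s
    apply (IsNilpotent.isUnit_quotient_mk_iff (I := J) ⟨2, hJ⟩).mp
    have := congr($hχ₀ s)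
    simp only [AlgHom.coe_comp, Ideal.Quotient.mkₐ_eq_mk, Function.comp_apply] at this
    change IsUnit (Ideal.Quotient.mk J (χ₀ s))
    rw [this]
    exact (IsLocalization.map_units B s).map ψ
  let χr : B →+* C := IsLocalization.lift hunit
  let χ : B →ₐ[k] C := { χr with
    commutes' := fun c => by
      change χr (algebraMap k B c) = _
      rw [IsScalarTower.algebraMap_apply k S B, IsLocalization.lift_eq]
      simp }
  refine ⟨χ, ?_⟩
  apply AlgHom.coe_ringHom_injective
  apply IsLocalization.ringHom_ext M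
  ext s
  have := congr($hχ₀ s)
  simp only [AlgHom.coe_comp, Ideal.Quotient.mkₐ_eq_mk, Function.comp_apply] at this
  simp only [RingHom.coe_comp, Function.comp_apply, AlgHom.coe_toRingHom, AlgHom.coe_comp,
    Ideal.Quotient.mkₐ_eq_mk]
  change Ideal.Quotient.mk J (χr (algebraMap S B s)) = _
  rw [IsLocalization.lift_eq]
  exact this

end loc

end Groth.Agent.Helper8.GeomReg
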