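import Mathlib
import Groth.Agent.Helper8.GeomReg1
import Groth.Agent.Helper8.GeomReg2
import Groth.Prelude.Def_Found
set_option autoImplicit false
universe u

namespace Groth.Agent.Helper8.GeomReg
open IsLocalRing TensorProduct

section
variable {k A : Type u} [Field k] [CommRing A] [IsLocalRing A] [IsNoetherianRing A] [Algebra k A]

attribute [local instance] Algebra.TensorProduct.rightAlgebra in
theorem finite_right (k' : Type u) [Field k'] [Algebra k k'] [Module.Finite k k'] :
    Module.Finite A (k' ⊗[k] A) := by
  let e : A ⊗[k] k' →ₐ[A] k' ⊗[k] A :=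
    { (Algebra.TensorProduct.comm k A k').toAlgHom.toRingHom with
      commutes' := fun a => by
        simp [Algebra.TensorProduct.algebraMap_apply, Algebra.TensorProduct.right_algebraMap_apply] }
  refine Module.Finite.of_surjective e.toLinearMap ?_
  intro x
  exact ⟨(Algebra.TensorProduct.comm k A k').symm x, by simp [e]⟩

theorem geomReg (h : CAlgX.IsAdicFormallySmooth k A (maximalIdeal A)) :
    CAlg.IsGeometricallyRegular k A := by
  intro k' _ _ hfin
  letI : Algebra A (k' ⊗[k] A) := Algebra.TensorProduct.rightAlgebra
  haveI : Module.Finite A (k' ⊗[k] A) := finite_right k'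
  haveI : IsNoetherianRing (k' ⊗[k] A) := IsNoetherianRing.of_finite A _
  apply Groth.Agent.Helper2.RegMax.isRegularRing_of_forall_maximal
  intro M' hM'
  have hmax : (M'.comap (algebraMap A (k' ⊗[k] A))).IsMaximal :=
    Ideal.isMaximal_comap_of_isIntegral_of_isMaximal M'
  have hI : (maximalIdeal A).map (Algebra.TensorProduct.includeRight : A →ₐ[k] k' ⊗[k] A) ≤ M' := by
    rw [← IsLocalRing.eq_maximalIdeal hmax]
    exact Ideal.map_le_iff_le_comap.mpr le_rfl
  have h1 := baseChange_adic k' (maximalIdeal A) h
  have h2 : CAlgX.IsAdicFormallySmooth k' (Localization.AtPrime M')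
      (maximalIdeal (Localization.AtPrime M')) := by
    refine localization_adic M'.primeCompl (Localization.AtPrime M') _ _ ?_ h1
    rw [← IsLocalization.AtPrime.map_eq_maximalIdeal M' (Localization.AtPrime M')]
    exact Ideal.map_mono hI
  exact isRegularLocalRing_of_adic h2

end

end Groth.Agent.Helper8.GeomReg
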