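import Mathlib
import Groth.Agent.S2453
import Groth.Agent.Helper1.FieldSmooth7
set_option autoImplicit false
universe u

namespace Groth.Agent.Helper8.GeomReg
open IsLocalRing

theorem s2035 {k A : Type u} [Field k] [CharZero k]
    [CommRing A] [IsLocalRing A] [IsNoetherianRing A] [Algebra k A] :
    IsRegularLocalRing A ↔ CAlgX.IsAdicFormallySmooth k A (IsLocalRing.maximalIdeal A) := by
  haveI : Algebra.FormallySmooth k (ResidueField A) :=
    Groth.Agent.Helper1.FieldSmooth.formallySmooth_of_charZero
  haveI : Algebra.IsGeometricallyReduced k (ResidueField A) :=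
    Groth.Agent.Helper1.FieldSmooth.formallySmooth_iff_isGeometricallyReduced.mp inferInstance
  exact ((Groth.Agent.S2453.result (k := k) (A := A)).out 0 3).symm

end Groth.Agent.Helper8.GeomReg
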