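import Mathlib
import Groth.Prelude.Def_CAlgX
set_option autoImplicit false
universe u

namespace Groth.Agent.Helper8.GeomReg

section dev
variable (R S : Type u) [CommRing R] [CommRing S] [Algebra R S] (𝔫 : Ideal S)

/-- lifting along square-zero surjections whose kernel is killed by `𝔫^s` -/
def SmallLift (s : ℕ) : Prop :=
  ∀ (E F : Type u) [CommRing E] [CommRing F] [Algebra R E] [Algebra R F] (π : E →ₐ[R] F),
    Function.Surjective π → (RingHom.ker (π : E →+* F)) ^ 2 = ⊥ →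
    ∀ g : S →ₐ[R] F, (∃ t : ℕ, ∀ x ∈ 𝔫 ^ t, g x = 0) →
      (∀ a ∈ 𝔫 ^ s, ∀ e : E, π e = g a → ∀ j ∈ RingHom.ker (π : E →+* F), e * j = 0) →
      ∃ v : S →ₐ[R] E, π.comp v = g

variable {R S 𝔫}

theorem smallLift_succ (H : SmallLift R S 𝔫 1) (s : ℕ) (hs : SmallLift R S 𝔫 s) :
    SmallLift R S 𝔫 (s + 1) := by
  intro E F _ _ _ _ π hπ hsq g ⟨t, ht⟩ hcond
  set J : Ideal E := RingHom.ker (π : E →+* F) with hJ
  let gens : Set E := {x | ∃ a ∈ 𝔫 ^ s, ∃ e : E, π e = g a ∧ ∃ j ∈ J, x = e * j}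
  let J' : Ideal E := Ideal.span gens
  have hJ'J : J' ≤ J := by
    rw [Ideal.span_le]
    rintro x ⟨a, _, e, _, j, hj, rfl⟩
    exact Ideal.mul_mem_left _ _ hj
  have hJJ : ∀ x ∈ J, ∀ y ∈ J, x * y = 0 := by
    intro x hx y hy
    have : x * y ∈ J ^ 2 := by rw [pow_two]; exact Ideal.mul_mem_mul hx hy
    rwa [hsq] at this
  let π' : E ⧸ J' →ₐ[R] F := Ideal.Quotient.liftₐ J' π (fun x hx => hJ'J hx)
  have hπ'mk : ∀ e, π' (Ideal.Quotient.mk J' e) = π e := fun e => rfl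
  have hπ' : Function.Surjective π' := fun y => by
    obtain ⟨e, rfl⟩ := hπ y
    exact ⟨Ideal.Quotient.mk J' e, rfl⟩
  have hker' : ∀ x ∈ RingHom.ker (π' : E ⧸ J' →+* F), ∃ j ∈ J, Ideal.Quotient.mk J' j = x := by
    intro x hx
    obtain ⟨e, rfl⟩ := Ideal.Quotient.mk_surjective x
    exact ⟨e, hx, rfl⟩
  have hsq' : (RingHom.ker (π' : E ⧸ J' →+* F)) ^ 2 = ⊥ := by
    rw [eq_bot_iff, pow_two, Ideal.mul_le]
    intro x hx y hy
    obtain ⟨j₁, hj₁, rfl⟩ := hker' x hx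
    obtain ⟨j₂, hj₂, rfl⟩ := hker' y hy
    rw [← map_mul, hJJ j₁ hj₁ j₂ hj₂, map_zero]
    exact Ideal.zero_mem _
  obtain ⟨v', hv'⟩ := hs (E ⧸ J') F π' hπ' hsq' g ⟨t, ht⟩ (by
    intro a ha e' he' j' hj'
    obtain ⟨e, rfl⟩ := Ideal.Quotient.mk_surjective e'
    obtain ⟨j, hj, rfl⟩ := hker' j' hj'
    rw [← map_mul, Ideal.Quotient.eq_zero_iff_mem]
    exact Ideal.subset_span ⟨a, ha, e, he', j, hj, rfl⟩)
  have hv'a : ∀ a, π' (v' a) = g a := fun a => congr($hv' a)
  -- second step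
  have hkermk : RingHom.ker ((Ideal.Quotient.mkₐ R J' : E →ₐ[R] E ⧸ J') : E →+* E ⧸ J') = J' := by
    ext x
    rw [RingHom.mem_ker]
    exact Ideal.Quotient.eq_zero_iff_mem
  obtain ⟨v, hv⟩ := H E (E ⧸ J') (Ideal.Quotient.mkₐ R J') (Ideal.Quotient.mkₐ_surjective R J')
    (by
      rw [hkermk, eq_bot_iff, pow_two, Ideal.mul_le]
      intro x hx y hy
      rw [hJJ x (hJ'J hx) y (hJ'J hy)]
      exact Ideal.zero_mem _)
    v' ⟨t + t, by
      intro x hx
      rw [pow_add] at hx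
      refine Submodule.mul_induction_on hx ?_ ?_
      · intro a ha b hb
        have h1 : v' a ∈ RingHom.ker (π' : E ⧸ J' →+* F) := by
          rw [RingHom.mem_ker]; exact (hv'a a).trans (ht a ha)
        have h2 : v' b ∈ RingHom.ker (π' : E ⧸ J' →+* F) := by
          rw [RingHom.mem_ker]; exact (hv'a b).trans (ht b hb)
        have : v' a * v' b ∈ (RingHom.ker (π' : E ⧸ J' →+* F)) ^ 2 := by
          rw [pow_two]; exact Ideal.mul_mem_mul h1 h2
        rw [hsq'] at this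
        rw [map_mul]; exact this
      · intro a b ha hb
        rw [map_add, ha, hb, add_zero]⟩
    (by
      intro a ha e he j hj
      rw [hkermk] at hj
      rw [pow_one] at ha
      refine Submodule.span_induction ?_ ?_ ?_ ?_ hj
      · rintro x ⟨a₁, ha₁, e₁, he₁, j₁, hj₁, rfl⟩
        rw [← mul_assoc]
        refine hcond (a * a₁) ?_ (e * e₁) ?_ j₁ hj₁
        · rw [pow_succ']; exact Ideal.mul_mem_mul ha ha₁
        · rw [map_mul, map_mul, he₁, ← hπ'mk e]
          have : Ideal.Quotient.mk J' e = v' a := he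
          rw [this, hv'a]
      · exact mul_zero e
      · intro x y _ _ hx hy
        rw [mul_add, hx, hy, add_zero]
      · intro c x _ hx
        rw [smul_eq_mul, mul_left_comm, hx, mul_zero])
  refine ⟨v, ?_⟩
  ext a
  have h1 : Ideal.Quotient.mk J' (v a) = v' a := congr($hv a)
  change π (v a) = g a
  rw [← hπ'mk, h1, hv'a]

theorem isAdicFormallySmooth_of_smallLift (H : SmallLift R S 𝔫 1) :
    CAlgX.IsAdicFormallySmooth R S 𝔫 := by
  have h0 : SmallLift R S 𝔫 0 := by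
    intro E F _ _ _ _ π hπ hsq g hg hcond
    refine H E F π hπ hsq g hg ?_
    intro a _ e _ j hj
    have := hcond 1 (by rw [pow_zero, Ideal.one_eq_top]; trivial) 1 (by rw [map_one, map_one]) j hj
    rw [one_mul] at this
    rw [this, mul_zero]
  have hall : ∀ s, SmallLift R S 𝔫 s := by
    intro s
    induction s with
    | zero => exact h0
    | succ s ih => exact smallLift_succ H s ih
  intro C _ _ J hJ ψ ⟨t, ht⟩
  have hker : RingHom.ker ((Ideal.Quotient.mkₐ R J : C →ₐ[R] C ⧸ J) : C →+* C ⧸ J) = J := by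
    ext x
    rw [RingHom.mem_ker]
    exact Ideal.Quotient.eq_zero_iff_mem
  refine hall t C (C ⧸ J) (Ideal.Quotient.mkₐ R J) (Ideal.Quotient.mkₐ_surjective R J)
    (by rw [hker]; exact hJ) ψ ⟨t, ht⟩ ?_
  intro a ha e he j hj
  rw [hker] at hj
  have he' : e ∈ J := by
    rw [← Ideal.Quotient.eq_zero_iff_mem]
    exact he.trans (ht a ha)
  have : e * j ∈ J ^ 2 := by rw [pow_two]; exact Ideal.mul_mem_mul he' hj
  rwa [hJ] at this

end dev

end Groth.Agent.Helper8.GeomReg
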