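import Mathlib
import Groth.Agent.Helper8.GeomReg6
import Groth.Agent.Helper2.H1Inj
import Groth.Agent.Helper1.PBasis5
set_option autoImplicit false
universe u

namespace Groth.Agent.Helper8.GeomReg
open Groth.Agent.Helper1.PBasis

/-- extension of derivations into modules killed by the ideal `𝔫` -/
def DerExt (k A : Type u) [CommRing k] [CommRing A] [Algebra k A] (𝔫 : Ideal A) : Prop :=
  ∀ (V : Type u) [AddCommGroup V] [Module A V] [Module k V] [IsScalarTower k A V],
    (∀ a ∈ 𝔫, ∀ v : V, a • v = 0) → ∀ δ : Derivation ℤ k V,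
      ∃ D : Derivation ℤ A V, ∀ c, D (algebraMap k A c) = δ c

section Y
variable {k A : Type u} [CommRing k] [CommRing A] [Algebra k A] (𝔫 : Ideal A)

theorem derExt_of_adic (h : CAlgX.IsAdicFormallySmooth k A 𝔫) : DerExt k A 𝔫 := by
  intro V _ _ _ _ hV δ
  have htors : Module.IsTorsionBySet A V (𝔫 : Set A) := fun v a => hV a.1 a.2 v
  letI : Module (A ⧸ 𝔫) V := htors.module
  haveI : IsScalarTower A (A ⧸ 𝔫) V := inferInstance
  have hmk : ∀ (a : A) (v : V), (Ideal.Quotient.mk 𝔫 a) • v = a • v := fun a v => rfl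
  haveI : IsScalarTower k (A ⧸ 𝔫) V := by
    refine ⟨fun c b v => ?_⟩
    obtain ⟨a, rfl⟩ := Ideal.Quotient.mk_surjective b
    change (Ideal.Quotient.mk 𝔫 (c • a)) • v = c • ((Ideal.Quotient.mk 𝔫 a) • v)
    rw [hmk, hmk, smul_assoc]
  obtain ⟨v, hv⟩ := Groth.Agent.Helper2.H1Inj.lift_of_surjective 𝔫 h
    (TwD.fstHom (B := A ⧸ 𝔫) δ) (TwD.fstHom_surjective δ) (TwD.ker_pow δ 2 le_rfl)
    (Ideal.Quotient.mkₐ k 𝔫) ⟨1, fun x hx => by
      rw [pow_one] at hx
      exact Ideal.Quotient.eq_zero_iff_mem.mpr hx⟩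
  have hfst : ∀ a, (v a).fst = Ideal.Quotient.mk 𝔫 a := fun a => congr($hv a)
  let D₀ : A →+ V :=
    { toFun := fun a => (v a).snd
      map_zero' := by rw [map_zero, TwD.snd_zero]
      map_add' := fun a b => by rw [map_add, TwD.snd_add] }
  refine ⟨Derivation.mk' D₀.toIntLinearMap (fun a b => ?_), fun c => ?_⟩
  · change (v (a * b)).snd = a • (v b).snd + b • (v a).snd
    rw [map_mul, TwD.snd_mul, hfst, hfst, hmk, hmk]
  · change (v (algebraMap k A c)).snd = δ c
    rw [AlgHom.commutes, TwD.algebraMap_apply, TwD.snd_mk]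

end Y

section X
variable {F k A : Type u} [CommRing F] [CommRing k] [CommRing A] [Algebra F k] [Algebra k A]
  [Algebra F A] [IsScalarTower F k A] (𝔫 : Ideal A)

theorem adic_of_derExt (hF : CAlgX.IsAdicFormallySmooth F A 𝔫) (hD : DerExt k A 𝔫) :
    CAlgX.IsAdicFormallySmooth k A 𝔫 := by
  apply isAdicFormallySmooth_of_smallLift
  intro E E' _ _ _ _ π hπ hsq g hg hcond
  letI : Algebra F E := ((algebraMap k E).comp (algebraMap F k)).toAlgebra
  haveI : IsScalarTower F k E := IsScalarTower.of_algebraMap_eq fun _ => rfl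
  letI : Algebra F E' := ((algebraMap k E').comp (algebraMap F k)).toAlgebra
  haveI : IsScalarTower F k E' := IsScalarTower.of_algebraMap_eq fun _ => rfl
  obtain ⟨χ₀, hχ₀⟩ := Groth.Agent.Helper2.H1Inj.lift_of_surjective 𝔫 hF
    (π.restrictScalars F) hπ hsq (g.restrictScalars F) hg
  have hχ₀a : ∀ a, π (χ₀ a) = g a := fun a => congr($hχ₀ a)
  set J : Ideal E := RingHom.ker (π : E →+* E') with hJ
  have hJJ : ∀ x ∈ J, ∀ y ∈ J, x * y = 0 := by
    intro x hx y hy
    have : x * y ∈ J ^ 2 := by rw [pow_two]; exact Ideal.mul_mem_mul hx hy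
    rwa [hsq] at this
  letI modA : Module A J := Module.compHom J (χ₀ : A →+* E)
  have hsmulA : ∀ (a : A) (j : J), ((a • j : J) : E) = χ₀ a * (j : E) := fun a j => rfl
  have hsmulk : ∀ (c : k) (j : J), ((c • j : J) : E) = algebraMap k E c * (j : E) := fun c j => by
    rw [Submodule.coe_smul_of_tower, Algebra.smul_def]
  have hdiff : ∀ c : k, χ₀ (algebraMap k A c) - algebraMap k E c ∈ J := by
    intro c
    rw [hJ, RingHom.mem_ker]
    change π (χ₀ (algebraMap k A c) - algebraMap k E c) = 0
    rw [map_sub, hχ₀a, AlgHom.commutes, AlgHom.commutes, sub_self]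
  haveI : IsScalarTower k A J := by
    refine ⟨fun c a j => ?_⟩
    apply Subtype.ext
    rw [hsmulA, hsmulk, hsmulA, Algebra.smul_def, map_mul, mul_assoc]
    have := hJJ _ (hdiff c) (χ₀ a * (j : E)) (Ideal.mul_mem_left _ _ j.2)
    rw [sub_mul, sub_eq_zero] at this
    exact this
  let δ₀ : k →+ J :=
    { toFun := fun c => ⟨χ₀ (algebraMap k A c) - algebraMap k E c, hdiff c⟩
      map_zero' := by apply Subtype.ext; simp
      map_add' := fun a b => by
        apply Subtype.ext
        simp only [map_add, Submodule.coe_add]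
        ring }
  let δ : Derivation ℤ k J := Derivation.mk' δ₀.toIntLinearMap (fun a b => by
    apply Subtype.ext
    change χ₀ (algebraMap k A (a * b)) - algebraMap k E (a * b) = _
    rw [Submodule.coe_add, hsmulk, hsmulk]
    change _ = algebraMap k E a * (χ₀ (algebraMap k A b) - algebraMap k E b) +
      algebraMap k E b * (χ₀ (algebraMap k A a) - algebraMap k E a)
    have := hJJ _ (hdiff a) _ (hdiff b)
    rw [map_mul, map_mul, map_mul]
    linear_combination this)
  obtain ⟨D, hDk⟩ := hD J (fun a ha j => by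
    apply Subtype.ext
    rw [hsmulA, Submodule.coe_zero]
    exact hcond a (by rwa [pow_one]) (χ₀ a) (hχ₀a a) j j.2) δ
  let χ : A →ₐ[k] E :=
    { toFun := fun a => χ₀ a - (D a : E)
      map_one' := by rw [map_one, Derivation.map_one_eq_zero]; simp
      map_mul' := fun a b => by
        rw [map_mul, Derivation.leibniz, Submodule.coe_add, hsmulA, hsmulA]
        have := hJJ _ (D a).2 _ (D b).2
        linear_combination (-1 : E) * this
      map_zero' := by rw [map_zero, map_zero]; simp
      map_add' := fun a b => by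
        rw [map_add, map_add, Submodule.coe_add]; ring
      commutes' := fun c => by
        rw [hDk]
        change χ₀ (algebraMap k A c) - (χ₀ (algebraMap k A c) - algebraMap k E c) = _
        ring }
  refine ⟨χ, ?_⟩
  ext a
  change π (χ₀ a - (D a : E)) = g a
  rw [map_sub, hχ₀a]
  have : π (D a : E) = 0 := (D a).2
  rw [this, sub_zero]

end X

end Groth.Agent.Helper8.GeomReg
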