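import Mathlib
import Groth.Agent.Helper8.GeomReg7
import Groth.Agent.Helper8.Cot3
set_option autoImplicit false
universe u

namespace Groth.Agent.Helper8.GeomReg
open TensorProduct Groth.Agent.Helper8.Cot

section inj
variable {k A : Type u} [CommRing k] [CommRing A] [Algebra k A]
  (K : Type u) [Field K] [Algebra A K] [Algebra k K] [IsScalarTower k A K]
  (hK : Function.Surjective (algebraMap A K))

/-- the map of the statement is `tmap` up to the cancellation isomorphism -/
theorem lTensor_eq_tmap (y : K ⊗[A] (A ⊗[k] Ω[k⁄ℤ])) :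
    (KaehlerDifferential.mapBaseChange ℤ k A).lTensor K y =
      tmap k A K (TensorProduct.AlgebraTensorModule.cancelBaseChange k A K K Ω[k⁄ℤ] y) := by
  induction y using TensorProduct.induction_on with
  | zero => simp
  | add x y hx hy => rw [map_add, map_add, map_add, hx, hy]
  | tmul z w =>
    induction w using TensorProduct.induction_on with
    | zero => simp
    | add x y hx hy => rw [tmul_add, map_add, map_add, map_add, hx, hy]
    | tmul a ω =>
      rw [LinearMap.lTensor_tmul, KaehlerDifferential.mapBaseChange_tmul,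
        TensorProduct.AlgebraTensorModule.cancelBaseChange_tmul, tmap_tmul,
        TensorProduct.tmul_smul, TensorProduct.smul_tmul']

theorem injective_lTensor_iff :
    Function.Injective ((KaehlerDifferential.mapBaseChange ℤ k A).lTensor K) ↔
      Function.Injective (tmap k A K) := by
  have h : ⇑((KaehlerDifferential.mapBaseChange ℤ k A).lTensor K) =
      ⇑(tmap k A K) ∘ ⇑(TensorProduct.AlgebraTensorModule.cancelBaseChange k A K K Ω[k⁄ℤ]) :=
    funext fun y => lTensor_eq_tmap K y
  rw [h]
  constructor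
  · intro hi
    have := hi.comp (TensorProduct.AlgebraTensorModule.cancelBaseChange k A K K Ω[k⁄ℤ]).symm.injective
    convert this using 1
    ext x
    simp
  · intro hi
    exact hi.comp (TensorProduct.AlgebraTensorModule.cancelBaseChange k A K K Ω[k⁄ℤ]).injective

/-- derivation extension implies injectivity -/
theorem injective_tmap_of_derExt (hD : DerExt k A (RingHom.ker (algebraMap A K))) :
    Function.Injective (tmap k A K) := by
  rw [injective_iff_map_eq_zero]
  intro x hx
  rw [← Module.forall_dual_apply_eq_zero_iff K]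
  intro φ
  let ℓ : Ω[k⁄ℤ] →ₗ[k] K := (φ.restrictScalars k) ∘ₗ (TensorProduct.mk k K Ω[k⁄ℤ] 1)
  let δ : Derivation ℤ k K := ℓ.compDer (KaehlerDifferential.D ℤ k)
  obtain ⟨D, hDk⟩ := hD K (fun a ha v => by
    rw [RingHom.mem_ker] at ha
    rw [Algebra.smul_def, ha, zero_mul]) δ
  let φ' : K ⊗[A] Ω[A⁄ℤ] →ₗ[K] K := LinearMap.liftBaseChange K D.liftKaehlerDifferential
  have hcomp : φ' ∘ₗ tmap k A K = φ := by
    apply LinearMap.ext_on (span_one_tmul_D k K)
    rintro _ ⟨c, rfl⟩
    rw [LinearMap.comp_apply, tmap_tmul_D, LinearMap.liftBaseChange_tmul, one_smul,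
      Derivation.liftKaehlerDifferential_comp_D, hDk]
    rfl
  rw [← hcomp, LinearMap.comp_apply, hx, map_zero]

include hK in
/-- injectivity implies derivation extension -/
theorem derExt_of_injective_tmap (hinj : Function.Injective (tmap k A K)) :
    DerExt k A (RingHom.ker (algebraMap A K)) := by
  intro V _ _ _ _ hV δ
  have htors : Module.IsTorsionBySet A V (RingHom.ker (algebraMap A K) : Set A) :=
    fun v a => hV a.1 a.2 v
  letI modQ : Module (A ⧸ RingHom.ker (algebraMap A K)) V := htors.module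
  have hmk : ∀ (a : A) (v : V), (Ideal.Quotient.mk (RingHom.ker (algebraMap A K)) a) • v = a • v :=
    fun a v => rfl
  let e : K ≃+* A ⧸ RingHom.ker (algebraMap A K) :=
    (RingHom.quotientKerEquivOfSurjective hK).symm
  have he : ∀ a, e (algebraMap A K a) = Ideal.Quotient.mk _ a := fun a => by
    apply (RingHom.quotientKerEquivOfSurjective hK).injective
    rw [RingEquiv.apply_symm_apply]
    rfl
  letI modK : Module K V := Module.compHom V (e : K →+* A ⧸ RingHom.ker (algebraMap A K))
  have hKsmul : ∀ (a : A) (v : V), (algebraMap A K a) • v = a • v := fun a v => by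
    change e (algebraMap A K a) • v = a • v
    rw [he, hmk]
  haveI : IsScalarTower A K V := by
    refine ⟨fun a z v => ?_⟩
    obtain ⟨b, rfl⟩ := hK z
    rw [Algebra.smul_def, ← map_mul, hKsmul, hKsmul, mul_smul]
  haveI : IsScalarTower k K V := by
    refine ⟨fun c z v => ?_⟩
    obtain ⟨b, rfl⟩ := hK z
    rw [← algebraMap_smul A c (algebraMap A K b), Algebra.smul_def, ← map_mul, hKsmul, hKsmul,
      mul_smul, algebraMap_smul]
  obtain ⟨r, hr⟩ := LinearMap.exists_leftInverse_of_injective (tmap k A K)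
    (LinearMap.ker_eq_bot.mpr hinj)
  let ℓK : K ⊗[k] Ω[k⁄ℤ] →ₗ[K] V := LinearMap.liftBaseChange K δ.liftKaehlerDifferential
  let ℓ' : K ⊗[A] Ω[A⁄ℤ] →ₗ[K] V := ℓK ∘ₗ r
  let ℓA : Ω[A⁄ℤ] →ₗ[A] V := (ℓ'.restrictScalars A) ∘ₗ (TensorProduct.mk A K Ω[A⁄ℤ] 1)
  refine ⟨ℓA.compDer (KaehlerDifferential.D ℤ A), fun c => ?_⟩
  change ℓK (r ((1 : K) ⊗ₜ[A] KaehlerDifferential.D ℤ A (algebraMap k A c))) = δ c
  rw [← tmap_tmul_D]
  have := congr($hr ((1 : K) ⊗ₜ[k] KaehlerDifferential.D ℤ k c))
  rw [LinearMap.comp_apply, LinearMap.id_apply] at this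
  rw [this, LinearMap.liftBaseChange_tmul, one_smul, Derivation.liftKaehlerDifferential_comp_D]

end inj

end Groth.Agent.Helper8.GeomReg
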