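import Mathlib
import Groth.Agent.Helper8.GeomReg8
import Groth.Agent.Helper8.GeomReg5
import Groth.Agent.Helper8.GeomReg3
import Groth.Agent.Helper8.Idx12
set_option autoImplicit false
universe u

namespace Groth.Agent.Helper8.GeomReg
open TensorProduct IsLocalRing Groth.Agent.Helper8.Cot Groth.Agent.Helper1.FieldSmooth
  Groth.Agent.Helper8.Idx

/-- a "prime field" in the same universe: every field over it is formally smooth -/
theorem exists_primeField (k : Type u) [Field k] :
    ∃ (F : Type u) (_ : Field F) (_ : Algebra F k),
      ∀ (E : Type u) [Field E] [Algebra F E], Algebra.FormallySmooth F E := by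
  obtain ⟨p, hp⟩ := CharP.exists k
  rcases CharP.char_is_prime_or_zero k p with hpp | hp0
  · haveI : Fact p.Prime := ⟨hpp⟩
    refine ⟨PF.{u} p, inferInstance, (pfHom p k).toAlgebra, ?_⟩
    intro E _ _
    haveI : CharP E p := charP_of_injective_algebraMap (algebraMap (PF.{u} p) E).injective p
    exact formallySmooth_of_perfect p (pf_perfect p)
  · subst hp0
    haveI : CharZero k := CharP.charP_to_charZero k
    haveI : CharZero QQ.{u} := qqEquiv.toRingHom.charZero
    refine ⟨QQ.{u}, inferInstance, ((algebraMap ℚ k).comp qqEquiv.toRingHom).toAlgebra, ?_⟩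
    intro E _ _
    exact formallySmooth_of_charZero

section main
variable {k A : Type u} [Field k] [CommRing A] [IsLocalRing A] [IsNoetherianRing A] [Algebra k A]

theorem adic_of_regular_of_derExt (hreg : IsRegularLocalRing A)
    (hD : DerExt k A (maximalIdeal A)) : CAlgX.IsAdicFormallySmooth k A (maximalIdeal A) := by
  obtain ⟨F, _, _, hF⟩ := exists_primeField k
  letI : Algebra F A := ((algebraMap k A).comp (algebraMap F k)).toAlgebra
  haveI : IsScalarTower F k A := IsScalarTower.of_algebraMap_eq fun _ => rfl
  haveI : Algebra.FormallySmooth F (ResidueField A) := hF _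
  haveI : Algebra.IsGeometricallyReduced F (ResidueField A) :=
    formallySmooth_iff_isGeometricallyReduced.mp inferInstance
  have h1 : CAlgX.IsAdicFormallySmooth F A (maximalIdeal A) :=
    ((Groth.Agent.S2453.result (k := F) (A := A)).out 3 0).mp hreg
  exact adic_of_derExt _ h1 hD

theorem derExt_iff_injective :
    DerExt k A (maximalIdeal A) ↔
      Function.Injective ((KaehlerDifferential.mapBaseChange ℤ k A).lTensor (ResidueField A)) := by
  have hker : RingHom.ker (algebraMap A (ResidueField A)) = maximalIdeal A :=
    IsLocalRing.ker_residue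
  rw [injective_lTensor_iff, ← hker]
  exact ⟨injective_tmap_of_derExt _, derExt_of_injective_tmap _ IsLocalRing.residue_surjective⟩

theorem s2471 :
    CAlgX.IsAdicFormallySmooth k A (maximalIdeal A) ↔
      (IsRegularLocalRing A ∧ Function.Injective
        ((KaehlerDifferential.mapBaseChange ℤ k A).lTensor (ResidueField A))) := by
  rw [← derExt_iff_injective]
  exact ⟨fun h => ⟨isRegularLocalRing_of_adic h, derExt_of_adic _ h⟩,
    fun ⟨h1, h2⟩ => adic_of_regular_of_derExt h1 h2⟩

end main

end Groth.Agent.Helper8.GeomReg
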