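import Mathlib
import Groth.Agent.Helper8.GeomReg11
import Groth.Agent.Helper8.GeomReg9
set_option autoImplicit false
universe u

namespace Groth.Agent.Helper8.GeomReg
open TensorProduct IsLocalRing Groth.Agent.Helper8.Cot

section inj
variable {k A : Type u} [Field k] (p : ℕ) [hp : Fact p.Prime] [CharP k p] [CommRing A]
  [IsLocalRing A] [IsNoetherianRing A] [Algebra k A]

theorem tmap_injective_of_pRadReg (h : PRadReg k A p) :
    Function.Injective (tmap k A (ResidueField A)) := by
  obtain ⟨κ, a, ha, hspan, hli⟩ :=
    exists_linearIndependent' k (KaehlerDifferential.D ℤ k : k → Ω[k⁄ℤ])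
  rw [KaehlerDifferential.span_range_derivation] at hspan
  let w : κ → (ResidueField A) ⊗[k] Ω[k⁄ℤ] := fun j => 1 ⊗ₜ KaehlerDifferential.D ℤ k (a j)
  have hw : Submodule.span (ResidueField A) (Set.range w) = ⊤ := by
    rw [eq_top_iff, ← span_one_tmul_D k (ResidueField A), Submodule.span_le]
    rintro _ ⟨x, rfl⟩
    have key : ∀ ω ∈ Submodule.span k (Set.range ((KaehlerDifferential.D ℤ k : k → Ω[k⁄ℤ]) ∘ a)),
        ((1 : ResidueField A) ⊗ₜ[k] ω) ∈ Submodule.span (ResidueField A) (Set.range w) := by
      intro ω hω
      induction hω using Submodule.span_induction with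
      | mem y hy =>
        obtain ⟨j, rfl⟩ := hy
        exact Submodule.subset_span ⟨j, rfl⟩
      | zero => rw [tmul_zero]; exact Submodule.zero_mem _
      | add x y _ _ hx hy => rw [tmul_add]; exact Submodule.add_mem _ hx hy
      | smul c x _ hx =>
        have : (1 : ResidueField A) ⊗ₜ[k] (c • x) =
            (algebraMap k (ResidueField A) c) • ((1 : ResidueField A) ⊗ₜ[k] x) := by
          rw [TensorProduct.tmul_smul, algebraMap_smul]
        rw [this]
        exact Submodule.smul_mem _ _ hx
    exact key _ (by rw [hspan]; trivial)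
  refine LinearMap.injective_of_linearIndependent hw ?_
  rw [linearIndependent_iff_finset_linearIndependent]
  intro s
  let e := s.equivFin
  have hc : LinearIndependent k
      (fun i : Fin s.card => KaehlerDifferential.D ℤ k (a (e.symm i : κ))) :=
    hli.comp (fun i : Fin s.card => (e.symm i : κ))
      (Subtype.val_injective.comp e.symm.injective)
  have hstar := star p h (fun i : Fin s.card => a (e.symm i : κ)) hc
  have := hstar.comp e e.injective
  have h2 : ((⇑(tmap k A (ResidueField A)) ∘ w) ∘ (Subtype.val : s → κ)) =
      (fun i : Fin s.card => (1 : ResidueField A) ⊗ₜ[A]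
        KaehlerDifferential.D ℤ A (algebraMap k A (a (e.symm i : κ)))) ∘ e := by
    funext j
    simp only [Function.comp_apply, w, tmap_tmul_D, Equiv.symm_apply_apply]
  rw [h2]
  exact this

theorem adic_of_pRadReg (h : PRadReg k A p) :
    CAlgX.IsAdicFormallySmooth k A (maximalIdeal A) := by
  apply adic_of_regular_of_derExt (isRegularLocalRing_of_pRadReg p h)
  have hker : RingHom.ker (algebraMap A (ResidueField A)) = maximalIdeal A :=
    IsLocalRing.ker_residue
  rw [← hker]
  exact derExt_of_injective_tmap _ IsLocalRing.residue_surjective (tmap_injective_of_pRadReg p h)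

end inj

end Groth.Agent.Helper8.GeomReg
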