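import Mathlib
import Groth.Agent.Helper8.GeomReg12
import Groth.Agent.Helper2.SepAlg
set_option autoImplicit false
universe u

namespace Groth.Agent.Helper8.GeomReg
open TensorProduct IsLocalRing Groth.Agent.Helper8.Cot

section final
variable {k A : Type u} [Field k] [CommRing A] [IsLocalRing A] [IsNoetherianRing A] [Algebra k A]

theorem s2036 (p : ℕ) [Fact p.Prime] [CharP k p] :
    CAlg.IsGeometricallyRegular k A ↔ CAlgX.IsAdicFormallySmooth k A (IsLocalRing.maximalIdeal A) :=
  ⟨fun h => adic_of_pRadReg p (fun k' _ _ hfin _ => h k' hfin), geomReg⟩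

theorem s4573 (p : ℕ) [he : ExpChar k p] :
    CAlgX.IsAdicFormallySmooth k A (maximalIdeal A) ↔
      ∀ (k' : Type u) [Field k'] [Algebra k k'], Module.Finite k k' →
        (∀ x : k', x ^ p ∈ (algebraMap k k').range) → IsRegularRing (k' ⊗[k] A) := by
  constructor
  · intro h k' _ _ hfin _
    exact geomReg h k' hfin
  · intro h
    cases he with
    | zero =>
      haveI : IsRegularRing (k ⊗[k] A) := h k (Module.Finite.self k) (fun x => ⟨x ^ 1, rfl⟩)
      haveI : IsRegularRing A :=
        IsRegularRing.of_ringEquiv (Algebra.TensorProduct.lid k A).toRingEquiv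
      exact s2035.mp (IsRegularLocalRing.of_isRegularRing_of_isLocalRing A)
    | prime hprime =>
      haveI : Fact p.Prime := ⟨hprime⟩
      exact adic_of_pRadReg p h

/-- geometric regularity passes to localizations -/
theorem geomReg_localization (h : CAlg.IsGeometricallyRegular k A) (M : Submonoid A)
    (B : Type u) [CommRing B] [Algebra A B] [Algebra k B] [IsScalarTower k A B] [IsLocalization M B] :
    CAlg.IsGeometricallyRegular k B := by
  intro k' _ _ hfin
  haveI := h k' hfin
  letI : Algebra (k' ⊗[k] A) (k' ⊗[k] B) :=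
    (Algebra.TensorProduct.map (AlgHom.id k' k') (IsScalarTower.toAlgHom k A B)).toRingHom.toAlgebra
  haveI : IsScalarTower k' (k' ⊗[k] A) (k' ⊗[k] B) := IsScalarTower.of_algebraMap_eq fun x => by
    change _ = (Algebra.TensorProduct.map (AlgHom.id k' k') (IsScalarTower.toAlgHom k A B))
      (algebraMap k' (k' ⊗[k] A) x)
    rw [AlgHom.commutes]
  haveI := IsLocalization.tensorProduct_tensorProduct_right k k' M B (by
    ext a
    change (Algebra.TensorProduct.map (AlgHom.id k' k') (IsScalarTower.toAlgHom k A B))
      ((1 : k') ⊗ₜ[k] a) = (1 : k') ⊗ₜ[k] algebraMap A B a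
    rw [Algebra.TensorProduct.map_tmul]
    rfl)
  exact Groth.Agent.Helper2.SepAlg.isRegularRing_of_isLocalization
    (M.map (Algebra.TensorProduct.includeRight (R := k) (A := k'))) (k' ⊗[k] B)

theorem s4574 (h : CAlgX.IsAdicFormallySmooth k A (maximalIdeal A)) (P : Ideal A) [P.IsPrime] :
    CAlgX.IsAdicFormallySmooth k (Localization.AtPrime P)
      (maximalIdeal (Localization.AtPrime P)) := by
  obtain ⟨p, hp⟩ := CharP.exists k
  rcases CharP.char_is_prime_or_zero k p with hpp | hp0
  · haveI : Fact p.Prime := ⟨hpp⟩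
    rw [← s2036 p]
    exact geomReg_localization (geomReg h) P.primeCompl _
  · subst hp0
    haveI : CharZero k := CharP.charP_to_charZero k
    haveI := isRegularLocalRing_of_adic h
    rw [← s2035]
    exact Groth.Agent.Helper2.SerreLoc.isRegularLocalRing_localization A P

end final

end Groth.Agent.Helper8.GeomReg
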