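import Mathlib
import Groth.Agent.Helper2.PSReg
import Groth.Agent.Helper2.RegHom3
import Groth.Agent.Helper7.EtAdjRoot
import Groth.Agent.Lead.RegLocal

set_option autoImplicit false
universe u
open Polynomial

namespace Groth.Agent.Helper8.RegAdj

variable {A : Type u} [CommRing A]

/-- the map `A[X]/(X^e - s) → A/(s)` sending `X ↦ 0` -/
noncomputable def toQuot (s : A) (e : ℕ) (he : 0 < e) :
    AdjoinRoot ((X : A[X]) ^ e - C s) →+* A ⧸ Ideal.span {s} :=
  AdjoinRoot.lift (Ideal.Quotient.mk (Ideal.span {s})) 0 (by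
    rw [eval₂_sub, eval₂_pow, eval₂_X, eval₂_C, zero_pow (by omega), zero_sub, neg_eq_zero,
      Ideal.Quotient.eq_zero_iff_mem]
    exact Ideal.mem_span_singleton_self s)

theorem toQuot_mk (s : A) (e : ℕ) (he : 0 < e) (g : A[X]) :
    toQuot s e he (AdjoinRoot.mk _ g) = Ideal.Quotient.mk _ (g.coeff 0) := by
  unfold toQuot
  rw [AdjoinRoot.lift_mk, eval₂_at_zero]

theorem toQuot_surjective (s : A) (e : ℕ) (he : 0 < e) : Function.Surjective (toQuot s e he) := by
  intro y
  obtain ⟨a, rfl⟩ := Ideal.Quotient.mk_surjective y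
  refine ⟨AdjoinRoot.mk _ (C a), ?_⟩
  rw [toQuot_mk, coeff_C_zero]

theorem ker_toQuot (s : A) (e : ℕ) (he : 0 < e) :
    RingHom.ker (toQuot s e he) = Ideal.span {AdjoinRoot.root ((X : A[X]) ^ e - C s)} := by
  set f := (X : A[X]) ^ e - C s with hf
  apply le_antisymm
  · intro y hy
    obtain ⟨g, rfl⟩ := AdjoinRoot.mk_surjective y
    rw [RingHom.mem_ker, toQuot_mk, Ideal.Quotient.eq_zero_iff_mem, Ideal.mem_span_singleton] at hy
    obtain ⟨c, hc⟩ := hy
    rw [Ideal.mem_span_singleton]
    have hroot : AdjoinRoot.root f ^ e = AdjoinRoot.mk f (C s) := by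
      have h3 : AdjoinRoot.mk f f = 0 := AdjoinRoot.mk_self
      rw [hf, map_sub, map_pow, AdjoinRoot.mk_X, sub_eq_zero] at h3
      exact h3
    have hg : g = divX g * X + C (g.coeff 0) := (divX_mul_X_add g).symm
    obtain ⟨m, rfl⟩ : ∃ m, e = m + 1 := ⟨e - 1, by omega⟩
    refine ⟨AdjoinRoot.mk f (divX g) + AdjoinRoot.root f ^ m * AdjoinRoot.mk f (C c), ?_⟩
    conv_lhs => rw [hg]
    rw [map_add, map_mul, AdjoinRoot.mk_X, hc, C_mul, map_mul, ← hroot]
    ring
  · rw [Ideal.span_singleton_le_iff_mem, RingHom.mem_ker, ← AdjoinRoot.mk_X, toQuot_mk, coeff_X_zero,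
      map_zero]

theorem root_isSMulRegular [IsDomain A] (s : A) (hs : s ≠ 0) (e : ℕ) (he : 0 < e) :
    IsSMulRegular (AdjoinRoot ((X : A[X]) ^ e - C s)) (AdjoinRoot.root ((X : A[X]) ^ e - C s)) := by
  set f := (X : A[X]) ^ e - C s with hf
  have hmonic : f.Monic := monic_X_pow_sub_C s (by omega)
  have hroot : AdjoinRoot.root f ^ e = algebraMap A _ s := by
    have h3 : AdjoinRoot.mk f f = 0 := AdjoinRoot.mk_self
    rw [hf, map_sub, map_pow, AdjoinRoot.mk_X, sub_eq_zero] at h3
    exact h3
  have hsm : ∀ x : AdjoinRoot f, s • x = 0 → x = 0 := by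
    intro x hx
    let b := (AdjoinRoot.powerBasis' hmonic).basis
    apply b.repr.injective
    ext i
    have := congrArg (fun y => b.repr y i) hx
    simp only [map_smul, Finsupp.smul_apply, smul_eq_mul, map_zero, Finsupp.zero_apply] at this
    rcases mul_eq_zero.mp this with h | h
    · exact absurd h hs
    · simpa using h
  have hsreg : IsSMulRegular (AdjoinRoot f) (AdjoinRoot.root f ^ e) := by
    rw [hroot]
    intro x y hxy
    simp only [smul_eq_mul, ← Algebra.smul_def] at hxy
    have : s • (x - y) = 0 := by rw [smul_sub, hxy, sub_self]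
    exact sub_eq_zero.mp (hsm _ this)
  obtain ⟨m, rfl⟩ : ∃ m, e = m + 1 := ⟨e - 1, by omega⟩
  rw [pow_succ] at hsreg
  exact IsSMulRegular.of_mul hsreg

theorem main (A : Type u) [CommRing A] [IsLocalRing A]
    [IsRegularRing A] (s : A) (hs : s ≠ 0) (hreg : IsRegularRing (A ⧸ Ideal.span {s}))
    (e : ℕ) (he : 0 < e) (heu : IsUnit (e : A)) :
    IsRegularRing (AdjoinRoot ((X : A[X]) ^ e - C s)) := by
  set f := (X : A[X]) ^ e - C s with hf
  have hmonic : f.Monic := monic_X_pow_sub_C s (by omega)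
  haveI : IsRegularLocalRing A := IsRegularLocalRing.of_isRegularRing_of_isLocalRing A
  haveI : IsDomain A := Groth.Agent.Lead.RegLocal.isDomain_of_isRegularLocalRing A
  by_cases hsu : IsUnit s
  · haveI : Algebra.Etale A (AdjoinRoot f) :=
      (Groth.Agent.Helper7.EtAdjRoot.result s e he).mpr (Or.inr (heu.mul hsu))
    exact Groth.Agent.Helper2.RegHom3.isRegularRing_of_smooth A (AdjoinRoot f)
  · haveI hfin : Module.Finite A (AdjoinRoot f) := (AdjoinRoot.powerBasis' hmonic).finite
    haveI : IsNoetherianRing (AdjoinRoot f) := IsNoetherianRing.of_finite A _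
    have hroot : AdjoinRoot.root f ^ e = algebraMap A _ s := by
      have h3 : AdjoinRoot.mk f f = 0 := AdjoinRoot.mk_self
      rw [hf, map_sub, map_pow, AdjoinRoot.mk_X, sub_eq_zero] at h3
      exact h3
    apply Groth.Agent.Helper2.PSReg.isRegularRing_of_quotient (AdjoinRoot f) (AdjoinRoot.root f)
      (root_isSMulRegular s hs e he)
    · intro M hM
      haveI : Algebra.IsIntegral A (AdjoinRoot f) := Algebra.IsIntegral.of_finite A _
      have hcm : (M.comap (algebraMap A (AdjoinRoot f))).IsMaximal :=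
        Ideal.isMaximal_comap_of_isIntegral_of_isMaximal M
      have hcm' : M.comap (algebraMap A (AdjoinRoot f)) = IsLocalRing.maximalIdeal A :=
        IsLocalRing.eq_maximalIdeal hcm
      have hsM : algebraMap A (AdjoinRoot f) s ∈ M := by
        have : s ∈ M.comap (algebraMap A (AdjoinRoot f)) := by
          rw [hcm']; exact hsu
        exact this
      rw [← hroot] at hsM
      exact hM.isPrime.mem_of_pow_mem e hsM
    · have e1 : (AdjoinRoot f ⧸ Ideal.span {AdjoinRoot.root f}) ≃+* (A ⧸ Ideal.span {s}) :=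
        (Ideal.quotEquivOfEq (ker_toQuot s e he).symm).trans
          (RingHom.quotientKerEquivOfSurjective (toQuot_surjective s e he))
      exact IsRegularRing.of_ringEquiv e1.symm

end Groth.Agent.Helper8.RegAdj
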