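import Mathlib
import Groth.Agent.Helper2.RegFlat
import Groth.Agent.Helper2.RegDescent
import Groth.Agent.Helper2.RkDescent

set_option autoImplicit false
universe u
open IsLocalRing

namespace Groth.Agent.Helper8.RegEt

theorem main (A B : Type u) [CommRing A] [CommRing B]
    [Algebra A B] [Algebra.Etale A B] (q : Ideal B) [q.IsPrime] :
    IsRegularLocalRing (Localization.AtPrime (Ideal.comap (algebraMap A B) q)) ↔
      IsRegularLocalRing (Localization.AtPrime q) := by
  set p := Ideal.comap (algebraMap A B) q with hp
  haveI : q.LiesOver p := ⟨rfl⟩
  letI := Localization.AtPrime.algebraOfLiesOver p q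
  haveI : IsLocalHom (algebraMap (Localization.AtPrime p) (Localization.AtPrime q)) :=
    Localization.isLocalHom_localRingHom _ _ _ Ideal.LiesOver.over
  haveI : Module.Flat A B := inferInstance
  haveI : Module.Flat (Localization.AtPrime p) (Localization.AtPrime q) := inferInstance
  constructor
  · intro h
    haveI : Algebra.EssFiniteType (Localization.AtPrime p) (Localization.AtPrime q) :=
      .of_comp A _ _
    haveI : IsNoetherianRing (Localization.AtPrime q) :=
      Algebra.EssFiniteType.isNoetherianRing (Localization.AtPrime p) _
    haveI : Algebra.FormallyUnramified (Localization.AtPrime p) (Localization.AtPrime q) :=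
      .of_restrictScalars A _ _
    have hmap := ((Algebra.FormallyUnramified.iff_map_maximalIdeal_eq
      (R := Localization.AtPrime p) (S := Localization.AtPrime q)).mp inferInstance).2
    apply Groth.Agent.Helper2.RegFlat.isRegularLocalRing_of_flat_of_fibre
      (A := Localization.AtPrime p) (B := Localization.AtPrime q)
    rw [hmap]
    have hf : IsField (Localization.AtPrime q ⧸ maximalIdeal (Localization.AtPrime q)) :=
      (Ideal.Quotient.maximal_ideal_iff_isField_quotient _).mp inferInstance
    letI := hf.toField
    infer_instance
  · intro h
    haveI : Module.FaithfullyFlat (Localization.AtPrime p) (Localization.AtPrime q) :=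
      Module.FaithfullyFlat.of_flat_of_isLocalHom
    haveI : IsNoetherianRing (Localization.AtPrime p) :=
      Groth.Agent.Helper2.RkDescent.isNoetherianRing_of_faithfullyFlat _ (Localization.AtPrime q)
    exact Groth.Agent.Helper2.RegDescent.isRegularLocalRing_of_flat _ (Localization.AtPrime q)

end Groth.Agent.Helper8.RegEt
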