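import Mathlib
universe u
open TensorProduct

namespace Groth.Agent.Helper8.SymK

variable (A : Type u) [CommRing A] (M : Type u) [AddCommGroup M] [Module A M]

local notation "C" => SymmetricAlgebra A M
local notation "N" => SymmetricAlgebra A M ⊗[A] M

/-- The linear map `m ↦ (ι m, 1 ⊗ m)` into the trivial square-zero extension. -/
noncomputable def toTSZ : M →ₗ[A] TrivSqZeroExt C N :=
  (TrivSqZeroExt.inlAlgHom A C N).toLinearMap ∘ₗ SymmetricAlgebra.ι A M +
    ((TrivSqZeroExt.inrHom C N).restrictScalars A) ∘ₗ (TensorProduct.mk A C M 1)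

/-- The induced algebra map. -/
noncomputable def liftTSZ : C →ₐ[A] TrivSqZeroExt C N :=
  SymmetricAlgebra.lift (toTSZ A M)

theorem fst_liftTSZ (c : C) : (liftTSZ A M c).fst = c := by
  have : (TrivSqZeroExt.fstHom A C N).comp (liftTSZ A M) = AlgHom.id A C := by
    apply SymmetricAlgebra.algHom_ext
    ext m
    simp [liftTSZ, toTSZ, SymmetricAlgebra.lift_ι_apply]
  exact congr($this c)

theorem snd_liftTSZ_ι (m : M) : (liftTSZ A M (SymmetricAlgebra.ι A M m)).snd = 1 ⊗ₜ m := by
  simp [liftTSZ, toTSZ, SymmetricAlgebra.lift_ι_apply]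

/-- The derivation `Sym M → Sym M ⊗ M`. -/
noncomputable def deriv : Derivation A C N :=
  Derivation.mk' (((TrivSqZeroExt.sndHom C N).restrictScalars A) ∘ₗ (liftTSZ A M).toLinearMap)
    (fun a b => by
      simp only [LinearMap.coe_comp, LinearMap.coe_restrictScalars, Function.comp_apply,
        AlgHom.toLinearMap_apply, TrivSqZeroExt.sndHom_apply, map_mul, TrivSqZeroExt.snd_mul,
        fst_liftTSZ, op_smul_eq_smul])

theorem deriv_ι (m : M) : deriv A M (SymmetricAlgebra.ι A M m) = 1 ⊗ₜ m := by
  simp [deriv, snd_liftTSZ_ι]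

theorem s7237 :
    Function.Bijective (LinearMap.liftBaseChange (SymmetricAlgebra A M)
      ((KaehlerDifferential.D A (SymmetricAlgebra A M)).toLinearMap.restrictScalars A ∘ₗ
        SymmetricAlgebra.ι A M)) := by
  set Φ := LinearMap.liftBaseChange (SymmetricAlgebra A M)
      ((KaehlerDifferential.D A (SymmetricAlgebra A M)).toLinearMap.restrictScalars A ∘ₗ
        SymmetricAlgebra.ι A M) with hΦ
  constructor
  · have hleft : ∀ x, (deriv A M).liftKaehlerDifferential (Φ x) = x := by
      intro x
      induction x using TensorProduct.induction_on with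
      | zero => simp
      | tmul c m =>
        simp only [hΦ, LinearMap.liftBaseChange_tmul, LinearMap.coe_comp,
          LinearMap.coe_restrictScalars, Function.comp_apply, map_smul,
          Derivation.coeFn_coe, Derivation.liftKaehlerDifferential_comp_D, deriv_ι]
        rw [TensorProduct.smul_tmul', smul_eq_mul, mul_one]
      | add x y hx hy => rw [map_add, map_add, hx, hy]
    exact Function.LeftInverse.injective hleft
  · rw [← LinearMap.range_eq_top, eq_top_iff, ← KaehlerDifferential.span_range_derivation,
      Submodule.span_le]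
    rintro _ ⟨c, rfl⟩
    induction c using SymmetricAlgebra.induction with
    | algebraMap r => simp
    | ι x =>
      refine ⟨1 ⊗ₜ x, ?_⟩
      simp [hΦ]
    | mul a b ha hb =>
      rw [Derivation.leibniz]
      exact add_mem (Submodule.smul_mem _ _ hb) (Submodule.smul_mem _ _ ha)
    | add a b ha hb =>
      rw [map_add]
      exact add_mem ha hb

end Groth.Agent.Helper8.SymK
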