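import Mathlib

set_option autoImplicit false
universe u

namespace Groth.Agent.Helper8.CauchyBinet
open Set Set.powersetCard exteriorPower

variable {R : Type u} [CommRing R]

/-- Cauchy–Binet, with the sum over `Set.powersetCard`. -/
theorem cb_aux (e r : ℕ) (B : Matrix (Fin e) (Fin r) R) (N : Matrix (Fin r) (Fin e) R) :
    (B * N).det = ∑ s : powersetCard (Fin r) e,
      (B.submatrix id (ofFinEmbEquiv.symm s)).det *
        (N.submatrix (ofFinEmbEquiv.symm s) id).det := by
  classical
  set bas := Pi.basisFun R (Fin r) with hbas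
  set f : Fin e → Module.Dual R (Fin r → R) :=
    fun i => ∑ k, B i k • (LinearMap.proj k : (Fin r → R) →ₗ[R] R) with hf
  set v : Fin e → (Fin r → R) := fun j k => N k j with hv
  have hfv : ∀ i (w : Fin r → R), f i w = ∑ k, B i k * w k := by
    intro i w
    simp [hf, LinearMap.sum_apply]
  set y := ιMulti R e v with hy
  set basE := bas.exteriorPower e with hbasE
  have h1 : pairingDual R (Fin r → R) e (ιMulti R e f) y = (B * N).det := by
    rw [hy, pairingDual_ιMulti_ιMulti, ← Matrix.det_transpose]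
    congr 1
    ext i j
    simp [Matrix.mul_apply, hfv, hv]
  have h2 : y = ∑ s, basE.repr y s • basE s := (basE.sum_repr y).symm
  rw [← h1]
  conv_lhs => rw [h2]
  rw [map_sum]
  refine Finset.sum_congr rfl fun s _ => ?_
  rw [map_smul, smul_eq_mul, mul_comm]
  congr 1
  · rw [hbasE, exteriorPower.basis_apply, ιMulti_family, pairingDual_ιMulti_ιMulti,
      ← Matrix.det_transpose]
    congr 1
    ext i j
    simp [hfv, hbas, Pi.basisFun_apply, Pi.single_apply]
  · rw [hbasE, exteriorPower.basis_repr_apply, hy, ιMultiDual_apply_ιMulti,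
      ← Matrix.det_transpose]
    congr 1

/-- Cauchy–Binet, with the sum over the literal subtype. -/
theorem cb (e r : ℕ) [Fintype {s : Finset (Fin r) // s.card = e}]
    (B : Matrix (Fin e) (Fin r) R) (N : Matrix (Fin r) (Fin e) R) :
    (B * N).det = ∑ s : {s : Finset (Fin r) // s.card = e},
      (B.submatrix id (s.1.orderEmbOfFin s.2)).det *
        (N.submatrix (s.1.orderEmbOfFin s.2) id).det := by
  rw [cb_aux]
  let eqv : powersetCard (Fin r) e ≃ {s : Finset (Fin r) // s.card = e} :=
    ⟨fun s => ⟨s.1, s.2⟩, fun s => ⟨s.1, s.2⟩, fun _ => rfl, fun _ => rfl⟩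
  exact Fintype.sum_equiv eqv _ _ (fun s => rfl)

theorem main (e r n : ℕ)
    (M : Matrix (Fin r) (Fin n) R)
    (A : {s : Finset (Fin r) // s.card = e} → Matrix (Fin e) (Fin r) R)
    (hA : IsUnit (Matrix.det (Matrix.of fun i j : {s : Finset (Fin r) // s.card = e} =>
      ((A i).submatrix id (j.1.orderEmbOfFin j.2)).det))) :
    (⨆ i, Ideal.span (Set.range fun t : {s : Finset (Fin n) // s.card = e} =>
        ((A i * M).submatrix id (t.1.orderEmbOfFin t.2)).det)) =
      Ideal.span (Set.range fun p : {s : Finset (Fin r) // s.card = e} × {s : Finset (Fin n) // s.card = e} =>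
        (M.submatrix (p.1.1.orderEmbOfFin p.1.2) (p.2.1.orderEmbOfFin p.2.2)).det) := by
  classical
  set C : Matrix {s : Finset (Fin r) // s.card = e} {s : Finset (Fin r) // s.card = e} R :=
    Matrix.of fun i j => ((A i).submatrix id (j.1.orderEmbOfFin j.2)).det with hC
  set mm : {s : Finset (Fin r) // s.card = e} → {s : Finset (Fin n) // s.card = e} → R :=
    fun s t => (M.submatrix (s.1.orderEmbOfFin s.2) (t.1.orderEmbOfFin t.2)).det with hmm
  have hv : ∀ i t, ((A i * M).submatrix id (t.1.orderEmbOfFin t.2)).det = ∑ s, C i s * mm s t := by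
    intro i t
    have : (A i * M).submatrix id (t.1.orderEmbOfFin t.2) =
        A i * M.submatrix id (t.1.orderEmbOfFin t.2) := by
      ext a b; simp [Matrix.mul_apply]
    rw [this, cb]
    rfl
  apply le_antisymm
  · refine iSup_le fun i => ?_
    rw [Ideal.span_le]
    rintro _ ⟨t, rfl⟩
    simp only [SetLike.mem_coe]
    rw [hv]
    refine Ideal.sum_mem _ fun s _ => ?_
    exact Ideal.mul_mem_left _ _ (Ideal.subset_span ⟨(s, t), rfl⟩)
  · rw [Ideal.span_le]
    rintro _ ⟨⟨s, t⟩, rfl⟩
    simp only [SetLike.mem_coe]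
    have hinv : C⁻¹ * C = 1 := Matrix.nonsing_inv_mul C hA
    have : mm s t = ∑ i, C⁻¹ s i * ((A i * M).submatrix id (t.1.orderEmbOfFin t.2)).det := by
      simp_rw [hv, Finset.mul_sum]
      rw [Finset.sum_comm]
      simp_rw [← mul_assoc, ← Finset.sum_mul]
      have : ∀ s', ∑ i, C⁻¹ s i * C i s' = (1 : Matrix _ _ R) s s' := by
        intro s'
        rw [← hinv, Matrix.mul_apply]
      simp_rw [this, Matrix.one_apply]
      simp
    change mm s t ∈ _
    rw [this]
    refine Ideal.sum_mem _ fun i _ => ?_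
    refine Ideal.mul_mem_left _ _ ?_
    exact Ideal.mem_iSup_of_mem i (Ideal.subset_span ⟨t, rfl⟩)

end Groth.Agent.Helper8.CauchyBinet
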