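import Mathlib
import Groth.Agent.S0544
set_option autoImplicit false
universe u
open TensorProduct

namespace Groth.Agent.Helper8.CKae

theorem isHausdorff_ideal {B : Type u} [CommRing B] (𝔫 : Ideal B) [IsHausdorff 𝔫 B] :
    IsHausdorff 𝔫 (↥𝔫) := by
  refine ⟨fun x hx => ?_⟩
  apply Subtype.ext
  apply IsHausdorff.haus (inferInstance : IsHausdorff 𝔫 B)
  intro n
  have h1 := hx n
  rw [SModEq.zero] at h1 ⊢
  have h2 : (x : B) ∈ ((𝔫 ^ n • ⊤ : Submodule B 𝔫)).map 𝔫.subtype := ⟨x, h1, rfl⟩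
  rw [Submodule.map_smul''] at h2
  exact Submodule.smul_mono le_rfl le_top h2

theorem fg_of_cotangent {B : Type u} [CommRing B] (𝔫 : Ideal B) [IsAdicComplete 𝔫 B]
    (hc : Module.Finite B 𝔫.Cotangent) : 𝔫.FG := by
  haveI := isHausdorff_ideal 𝔫
  have : Module.Finite B ↥𝔫 := by
    apply Groth.Agent.S0544.result B 𝔫 ↥𝔫
    exact hc
  exact Module.Finite.iff_fg.mp this

theorem main {A B : Type u} [CommRing A] [CommRing B] [Algebra A B] (𝔫 : Ideal B)
    [IsAdicComplete 𝔫 B] [Module.Finite (B ⧸ 𝔫) (Ω[B ⧸ 𝔫⁄A])]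
    [Module.Finite (B ⧸ 𝔫) 𝔫.Cotangent] :
    Module.Finite B (AdicCompletion 𝔫 (Ω[B⁄A])) := by
  have hc : Module.Finite B 𝔫.Cotangent := Module.Finite.trans (B ⧸ 𝔫) _
  have hfg := fg_of_cotangent 𝔫 hc
  have hs : Function.Surjective (algebraMap B (B ⧸ 𝔫)) := Ideal.Quotient.mk_surjective
  -- the tensor product is finite
  have hT : Module.Finite B ((B ⧸ 𝔫) ⊗[B] Ω[B⁄A]) := by
    have hex := KaehlerDifferential.exact_kerCotangentToTensor_mapBaseChange A B (B ⧸ 𝔫) hs
    have hsurj := KaehlerDifferential.mapBaseChange_surjective A B (B ⧸ 𝔫) hs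
    have hk : ∀ J : Ideal B, J = 𝔫 → Module.Finite B J.Cotangent := by
      rintro _ rfl; exact hc
    haveI := hk (RingHom.ker (algebraMap B (B ⧸ 𝔫))) (by
      rw [Ideal.Quotient.algebraMap_eq, Ideal.mk_ker])
    haveI : Module.Finite B (Ω[B ⧸ 𝔫⁄A]) := Module.Finite.trans (B ⧸ 𝔫) _
    constructor
    apply Submodule.fg_of_fg_map_of_fg_inf_ker
      ((KaehlerDifferential.mapBaseChange A B (B ⧸ 𝔫)).restrictScalars B)
    · rw [Submodule.map_top, LinearMap.range_eq_top.mpr (by exact hsurj)]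
      exact Module.Finite.fg_top
    · rw [top_inf_eq]
      have : LinearMap.ker ((KaehlerDifferential.mapBaseChange A B (B ⧸ 𝔫)).restrictScalars B)
          = LinearMap.range (KaehlerDifferential.kerCotangentToTensor A B (B ⧸ 𝔫)) := by
        ext x
        exact hex x
      rw [this, LinearMap.range_eq_map]
      exact Module.Finite.fg_top.map _
  have hQ : Module.Finite B (Ω[B⁄A] ⧸ (𝔫 • ⊤ : Submodule B (Ω[B⁄A]))) :=
    Module.Finite.equiv (TensorProduct.quotTensorEquivQuotSMul (Ω[B⁄A]) 𝔫)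
  apply Groth.Agent.S0544.result B 𝔫
  -- quotient of completion
  have hker := AdicCompletion.pow_smul_top_eq_ker_eval (I := 𝔫) (M := Ω[B⁄A]) (n := 1) hfg
  have e1 := (AdicCompletion.eval 𝔫 (Ω[B⁄A]) 1).quotKerEquivOfSurjective
    (AdicCompletion.eval_surjective 𝔫 (Ω[B⁄A]) 1)
  rw [← hker] at e1
  have hQ1 : Module.Finite B (Ω[B⁄A] ⧸ (𝔫 ^ 1 • ⊤ : Submodule B (Ω[B⁄A]))) := by
    rw [pow_one]; exact hQ
  have h3 : Module.Finite B (AdicCompletion 𝔫 (Ω[B⁄A]) ⧸
      (𝔫 ^ 1 • ⊤ : Submodule B (AdicCompletion 𝔫 (Ω[B⁄A])))) := Module.Finite.equiv e1.symm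
  rw [pow_one] at h3
  exact h3


open IsLocalRing in
theorem residue {k A : Type u} [Field k] [CommRing A] [IsLocalRing A]
    [IsNoetherianRing A] [IsAdicComplete (maximalIdeal A) A] [Algebra k A]
    [Algebra.EssFiniteType k (ResidueField A)] :
    Module.Finite A (AdicCompletion (maximalIdeal A) (Ω[A⁄k])) := by
  haveI h1 : Module.Finite (ResidueField A) (Ω[ResidueField A⁄k]) := inferInstance
  haveI h2 : Module.Finite (A ⧸ maximalIdeal A) (Ω[A ⧸ maximalIdeal A⁄k]) := h1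
  haveI h3 : Module.Finite (A ⧸ maximalIdeal A) (maximalIdeal A).Cotangent := by
    have : Module.Finite (ResidueField A) (CotangentSpace A) := inferInstance
    exact this
  exact main (maximalIdeal A)

end Groth.Agent.Helper8.CKae
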