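import Mathlib
import Groth.Agent.Helper8.CKae
import Groth.Agent.Helper5.MvPSDim
set_option autoImplicit false
universe u
open TensorProduct IsLocalRing MvPowerSeries

namespace Groth.Agent.Helper8.CKaePS

variable (k : Type u) [Field k] (r : ℕ)

local notation "AA" => MvPowerSeries (Fin r) k
local notation "mm" => maximalIdeal (MvPowerSeries (Fin r) k)

instance complete : IsAdicComplete mm AA := by
  rw [Groth.Agent.Helper5.MvPSDim.maximalIdeal_eq]
  infer_instance

instance noeth : IsNoetherianRing AA :=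
  haveI := Groth.Agent.Helper5.MvPSDim.isRegular k r
  inferInstance

theorem residue_surj : Function.Surjective (algebraMap k (ResidueField AA)) := by
  intro x
  obtain ⟨f, rfl⟩ := IsLocalRing.residue_surjective x
  refine ⟨constantCoeff f, ?_⟩
  rw [IsScalarTower.algebraMap_apply k AA (ResidueField AA)]
  change residue AA _ = residue AA _
  rw [← sub_eq_zero, ← map_sub, residue_eq_zero_iff, IsLocalRing.mem_maximalIdeal, mem_nonunits_iff,
    MvPowerSeries.isUnit_iff_constantCoeff]
  rw [map_sub, MvPowerSeries.algebraMap_apply, Algebra.algebraMap_self, RingHom.id_apply,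
    MvPowerSeries.constantCoeff_C, sub_self]
  exact not_isUnit_zero

instance essft : Algebra.EssFiniteType k (ResidueField AA) := by
  haveI : Algebra.FiniteType k (ResidueField AA) :=
    Algebra.FiniteType.of_surjective (Algebra.ofId k (ResidueField AA)) (residue_surj k r)
  infer_instance

theorem finite : Module.Finite AA (AdicCompletion mm (Ω[AA⁄k])) :=
  Groth.Agent.Helper8.CKae.residue

/-- the generators -/
noncomputable def gen (i : Fin r) : AdicCompletion mm (Ω[AA⁄k]) :=
  AdicCompletion.of mm (Ω[AA⁄k]) (KaehlerDifferential.D k AA (X i))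

noncomputable def Phi : (Fin r → AA) →ₗ[AA] AdicCompletion mm (Ω[AA⁄k]) :=
  Fintype.linearCombination AA (gen k r)

noncomputable def Psi (i : Fin r) : AdicCompletion mm (Ω[AA⁄k]) →ₗ[AA] AA :=
  (AdicCompletion.ofLinearEquiv mm AA).symm.toLinearMap ∘ₗ
    (AdicCompletion.map mm ((MvPowerSeries.pderiv k i).liftKaehlerDifferential)).restrictScalars AA

theorem Psi_gen (i j : Fin r) : Psi k r i (gen k r j) = if j = i then 1 else 0 := by
  unfold Psi gen
  simp only [LinearMap.coe_comp, LinearEquiv.coe_coe, Function.comp_apply,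
    LinearMap.coe_restrictScalars]
  rw [AdicCompletion.map_of, AdicCompletion.ofLinearEquiv_symm_of,
    Derivation.liftKaehlerDifferential_comp_D]
  rw [MvPowerSeries.pderiv_X]
  by_cases h : j = i
  · subst h; simp
  · rw [if_neg h, Pi.single_eq_of_ne h]

theorem Psi_Phi (c : Fin r → AA) (i : Fin r) : Psi k r i (Phi k r c) = c i := by
  unfold Phi
  rw [Fintype.linearCombination_apply, map_sum]
  simp_rw [map_smul, Psi_gen]
  simp

theorem Phi_injective : Function.Injective (Phi k r) := by
  intro c c' h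
  funext i
  rw [← Psi_Phi k r c i, ← Psi_Phi k r c' i, h]

/-- every differential is a combination of the `dX i` modulo `m Ω` -/
theorem span_sup : (Submodule.span AA (Set.range fun i : Fin r => KaehlerDifferential.D k AA (X i)))
    ⊔ (mm • ⊤ : Submodule AA (Ω[AA⁄k])) = ⊤ := by
  rw [eq_top_iff]
  refine le_trans (le_of_eq (KaehlerDifferential.span_range_derivation k AA).symm) ?_
  rw [Submodule.span_le]
  rintro _ ⟨f, rfl⟩
  obtain ⟨g, hg, -⟩ := Groth.Agent.Helper5.MvPSIdeal.exists_decomp (f - C (constantCoeff f))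
    (by simp)
  have hf : f = C (constantCoeff f) + ∑ i, X i * g i := by
    rw [← hg]; ring
  rw [hf, map_add, map_sum]
  have h0 : KaehlerDifferential.D k AA (C (constantCoeff f)) = 0 := by
    have := (KaehlerDifferential.D k AA).map_algebraMap (constantCoeff f)
    rwa [MvPowerSeries.algebraMap_apply, Algebra.algebraMap_self, RingHom.id_apply] at this
  rw [h0, zero_add]
  refine Submodule.sum_mem _ fun i _ => ?_
  rw [Derivation.leibniz]
  refine Submodule.add_mem _ (Submodule.mem_sup_right ?_) (Submodule.mem_sup_left ?_)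
  · refine Submodule.smul_mem_smul ?_ Submodule.mem_top
    rw [Groth.Agent.Helper5.MvPSDim.maximalIdeal_eq]
    exact Ideal.subset_span ⟨i, rfl⟩
  · exact Submodule.smul_mem _ _ (Submodule.subset_span ⟨i, rfl⟩)

theorem of_mem (ω : Ω[AA⁄k]) : AdicCompletion.of mm (Ω[AA⁄k]) ω ∈
    LinearMap.range (Phi k r) ⊔ (mm • ⊤ : Submodule AA (AdicCompletion mm (Ω[AA⁄k]))) := by
  have h : ω ∈ (Submodule.span AA (Set.range fun i : Fin r => KaehlerDifferential.D k AA (X i)))
      ⊔ (mm • ⊤ : Submodule AA (Ω[AA⁄k])) := by rw [span_sup]; trivial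
  obtain ⟨s, hs, μ, hμ, rfl⟩ := Submodule.mem_sup.mp h
  rw [map_add]
  refine Submodule.add_mem _ (Submodule.mem_sup_left ?_) (Submodule.mem_sup_right ?_)
  · obtain ⟨c, rfl⟩ := (Submodule.mem_span_range_iff_exists_fun AA).mp hs
    refine ⟨c, ?_⟩
    unfold Phi gen
    rw [Fintype.linearCombination_apply, map_sum]
    simp_rw [map_smul]
  · have : (mm • ⊤ : Submodule AA (Ω[AA⁄k])).map (AdicCompletion.of mm (Ω[AA⁄k])) ≤
        (mm • ⊤ : Submodule AA (AdicCompletion mm (Ω[AA⁄k]))) := by
      rw [Submodule.map_smul'']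
      exact Submodule.smul_mono le_rfl le_top
    exact this ⟨μ, hμ, rfl⟩

theorem Phi_surjective : Function.Surjective (Phi k r) := by
  haveI := finite k r
  rw [← LinearMap.range_eq_top, eq_top_iff]
  have hfg : (mm : Ideal AA).FG := (inferInstance : IsNoetherianRing AA).noetherian _
  refine Submodule.le_of_le_smul_of_le_jacobson_bot Module.Finite.fg_top
    (IsLocalRing.maximalIdeal_le_jacobson _) ?_
  intro x _
  obtain ⟨ω, hω⟩ := Submodule.mkQ_surjective _ (AdicCompletion.eval mm (Ω[AA⁄k]) 1 x)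
  have hx : x - AdicCompletion.of mm (Ω[AA⁄k]) ω ∈
      (mm • ⊤ : Submodule AA (AdicCompletion mm (Ω[AA⁄k]))) := by
    have h1 : x - AdicCompletion.of mm (Ω[AA⁄k]) ω ∈
        LinearMap.ker (AdicCompletion.eval mm (Ω[AA⁄k]) 1) := by
      rw [LinearMap.mem_ker, map_sub, AdicCompletion.eval_of, hω, sub_self]
    rw [← AdicCompletion.pow_smul_top_eq_ker_eval hfg, pow_one] at h1
    exact h1
  have : x = (x - AdicCompletion.of mm (Ω[AA⁄k]) ω) + AdicCompletion.of mm (Ω[AA⁄k]) ω := by abel
  rw [this]
  exact Submodule.add_mem _ (Submodule.mem_sup_right hx) (of_mem k r ω)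

noncomputable def equiv : (Fin r → AA) ≃ₗ[AA] AdicCompletion mm (Ω[AA⁄k]) :=
  LinearEquiv.ofBijective (Phi k r) ⟨Phi_injective k r, Phi_surjective k r⟩

theorem main : Module.Finite AA (AdicCompletion mm (Ω[AA⁄k])) ∧
    Module.Free AA (AdicCompletion mm (Ω[AA⁄k])) ∧
    Module.finrank AA (AdicCompletion mm (Ω[AA⁄k])) = r :=
  ⟨finite k r, Module.Free.of_equiv (equiv k r),
    by rw [← (equiv k r).finrank_eq, Module.finrank_fin_fun]⟩

end Groth.Agent.Helper8.CKaePS
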