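import Mathlib
import Groth.Prelude.Def_CartDual
import Groth.Prelude.Def_ConstGrp

set_option autoImplicit false
universe u v

namespace Groth.Agent.Helper8.CartConst

open TensorProduct

section
variable (R : Type u) [CommRing R] (G : Type v) [Fintype G] [DecidableEq G]

/-- decomposition of a tensor in `F ⊗ F` along the basis `e a ⊗ e b` -/
theorem decomp2 [Group G] (t : ConstGrp.F R G ⊗[R] ConstGrp.F R G) :
    t = ∑ a : G, ∑ b : G, ConstGrp.pair R G t (a, b) • (ConstGrp.e R a ⊗ₜ[R] ConstGrp.e R b) := by
  induction t using TensorProduct.induction_on with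
  | zero => simp
  | tmul u v =>
    conv_lhs => rw [ConstGrp.eq_sum_smul_e u, ConstGrp.eq_sum_smul_e v, sum_tmul]
    apply Finset.sum_congr rfl
    intro a _
    rw [tmul_sum]
    apply Finset.sum_congr rfl
    intro b _
    rw [ConstGrp.pair_tmul, smul_tmul_smul]
  | add x y hx hy =>
    conv_lhs => rw [hx, hy]
    rw [← Finset.sum_add_distrib]
    apply Finset.sum_congr rfl
    intro a _
    rw [← Finset.sum_add_distrib]
    apply Finset.sum_congr rfl
    intro b _
    rw [map_add, ConstGrp.add_apply, add_smul]

theorem pair_injective [Group G] : Function.Injective (ConstGrp.pair R G) := by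
  intro s t h
  rw [decomp2 R G s, decomp2 R G t, h]

end

section
variable (R : Type u) [CommRing R] (G : Type v) [Group G] [Fintype G] [DecidableEq G]

/-- the linear equivalence `D(R[G]) ≃ F R G`. -/
noncomputable def lin : CartDual.D R (MonoidAlgebra R G) ≃ₗ[R] ConstGrp.F R G :=
  (CartDual.toDual R (MonoidAlgebra R G)) ≪≫ₗ ((MonoidAlgebra.basis G R).constr R).symm

theorem lin_apply (y : CartDual.D R (MonoidAlgebra R G)) (g : G) :
    lin R G y g = y (MonoidAlgebra.single g 1) := by
  show y.ofConv ((MonoidAlgebra.basis G R) g) = _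
  rw [MonoidAlgebra.basis_apply]

theorem lin_one : lin R G 1 = 1 := by
  ext g
  rw [lin_apply, ConstGrp.one_apply, LinearMap.convOne_apply]
  simp

theorem lin_mul (x y : CartDual.D R (MonoidAlgebra R G)) :
    lin R G (x * y) = lin R G x * lin R G y := by
  ext g
  rw [lin_apply, ConstGrp.mul_apply, lin_apply, lin_apply, LinearMap.convMul_apply,
    MonoidAlgebra.comul_single]
  simp [CartDual.coe_apply]

noncomputable def alg : CartDual.D R (MonoidAlgebra R G) ≃ₐ[R] ConstGrp.F R G :=
  AlgEquiv.ofLinearEquiv (lin R G) (lin_one R G) (lin_mul R G)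

theorem alg_apply (y : CartDual.D R (MonoidAlgebra R G)) (g : G) :
    alg R G y g = y (MonoidAlgebra.single g 1) := lin_apply R G y g

theorem pair_map (t : CartDual.D R (MonoidAlgebra R G) ⊗[R] CartDual.D R (MonoidAlgebra R G))
    (a b : G) :
    ConstGrp.pair R G (Algebra.TensorProduct.map (alg R G : _ →ₐ[R] _) (alg R G : _ →ₐ[R] _) t) (a, b) =
      CartDual.ev₂ R (MonoidAlgebra R G) t
        (MonoidAlgebra.single a 1 ⊗ₜ[R] MonoidAlgebra.single b 1) := by
  induction t using TensorProduct.induction_on with
  | zero => simp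
  | tmul x z =>
    rw [Algebra.TensorProduct.map_tmul, ConstGrp.pair_tmul, CartDual.ev₂_tmul]
    rfl
  | add x y hx hy =>
    rw [map_add, map_add, ConstGrp.add_apply, hx, hy, map_add, LinearMap.add_apply]

noncomputable def bialg : CartDual.D R (MonoidAlgebra R G) ≃ₐc[R] ConstGrp.F R G :=
  BialgEquiv.ofAlgEquiv (alg R G)
    (by
      ext y
      simp only [AlgHom.comp_apply, Bialgebra.counitAlgHom_apply, AlgHom.coe_coe,
        ConstGrp.counit_apply, CartDual.coalgebra_counit_apply]
      exact (alg_apply R G y 1).trans (by rw [MonoidAlgebra.one_def]))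
    (by
      ext y
      apply pair_injective R G
      ext ⟨a, b⟩
      simp only [AlgHom.comp_apply, Bialgebra.comulAlgHom_apply, AlgHom.coe_coe]
      rw [pair_map, ConstGrp.pair_comul, CartDual.ev₂_coalgebra_comul_tmul,
        MonoidAlgebra.single_mul_single, mul_one]
      exact (alg_apply R G y (a * b)).symm)

theorem main :
    ∃ e : CartDual.D R (MonoidAlgebra R G) ≃ₐc[R] ConstGrp.F R G,
      ∀ (y : CartDual.D R (MonoidAlgebra R G)) (g : G), e y g = y (MonoidAlgebra.single g 1) :=
  ⟨bialg R G, fun y g => alg_apply R G y g⟩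

end

end Groth.Agent.Helper8.CartConst
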