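import Mathlib

set_option autoImplicit false
universe u
open Submodule

namespace Groth.Agent.Helper8.ComplFlat

variable {R : Type u} [CommRing R]

/-- membership in `J • ⊤` of a free module is checked coordinatewise -/
theorem mem_smul_top_iff {α : Type*} (J : Ideal R) (v : α →₀ R) :
    v ∈ J • (⊤ : Submodule R (α →₀ R)) ↔ ∀ a, v a ∈ J := by
  constructor
  · intro hv
    refine Submodule.smul_induction_on hv ?_ ?_
    · intro r hr w _ a
      rw [Finsupp.smul_apply, smul_eq_mul]
      exact J.mul_mem_right _ hr
    · intro x y hx hy a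
      rw [Finsupp.add_apply]
      exact J.add_mem (hx a) (hy a)
  · intro h
    rw [← Finsupp.sum_single v]
    apply Submodule.sum_mem
    intro a _
    have : Finsupp.single a (v a) = (v a) • (Finsupp.single a (1 : R)) := by
      rw [Finsupp.smul_single, smul_eq_mul, mul_one]
    rw [this]
    exact Submodule.smul_mem_smul (h a) mem_top

/-- Artin–Rees in elementwise form -/
theorem artinRees [IsNoetherianRing R] (I : Ideal R) {M₀ : Type u} [AddCommGroup M₀] [Module R M₀]
    [Module.Finite R M₀] {k : ℕ} (z : Fin k → M₀) :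
    ∃ c : ℕ, ∀ (n : ℕ) (m : M₀), m ∈ I ^ (n + c) • (⊤ : Submodule R M₀) →
      m ∈ Submodule.span R (Set.range z) →
      ∃ t : Fin k → R, (∀ j, t j ∈ I ^ n) ∧ m = ∑ j, t j • z j := by
  obtain ⟨c, hc⟩ := Ideal.exists_pow_inf_eq_pow_smul I (Submodule.span R (Set.range z))
  refine ⟨c, fun n m hm1 hm2 => ?_⟩
  have h1 : m ∈ I ^ (n + c) • (⊤ : Submodule R M₀) ⊓ Submodule.span R (Set.range z) := ⟨hm1, hm2⟩
  rw [hc (n + c) (by omega), Nat.add_sub_cancel] at h1
  have h2 : m ∈ I ^ n • Submodule.span R (Set.range z) :=
    (smul_mono_right _ inf_le_right : I ^ n • (I ^ c • ⊤ ⊓ Submodule.span R (Set.range z)) ≤ _) h1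
  rw [Submodule.mem_ideal_smul_span_iff_exists_sum] at h2
  obtain ⟨a, ha, rfl⟩ := h2
  refine ⟨a, ha, ?_⟩
  rw [Finsupp.sum_fintype]
  intro j
  exact zero_smul _ _

/-- assemble coordinatewise choices into finitely supported functions -/
theorem assemble {α : Type*} {M₀ : Type*} [AddCommGroup M₀] [Module R M₀] {k : ℕ}
    (z : Fin k → M₀) (J : Ideal R) (w : α → M₀) (s : Finset α) (hs : ∀ a, a ∉ s → w a = 0)
    (h : ∀ a, ∃ t : Fin k → R, (∀ j, t j ∈ J) ∧ w a = ∑ j, t j • z j) :
    ∃ θ : Fin k → (α →₀ R), (∀ j a, θ j a ∈ J) ∧ ∀ a, w a = ∑ j, θ j a • z j := by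
  classical
  choose t ht1 ht2 using h
  refine ⟨fun j => Finsupp.onFinset s (fun a => if w a = 0 then 0 else t a j) ?_, ?_, ?_⟩
  · intro a ha
    by_contra has
    exact ha (by rw [if_pos (hs a has)])
  · intro j a
    rw [Finsupp.onFinset_apply]
    split_ifs
    · exact J.zero_mem
    · exact ht1 a j
  · intro a
    simp only [Finsupp.onFinset_apply]
    by_cases hw : w a = 0
    · simp [hw]
    · simp only [if_neg hw]
      exact ht2 a

theorem main (R : Type u) [CommRing R] [IsNoetherianRing R] (I : Ideal R) (α : Type u) :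
    Module.Flat R (AdicCompletion I (α →₀ R)) := by
  classical
  apply Module.Flat.of_forall_isTrivialRelation
  intro l f x hfx
  -- representatives
  choose u hu using fun i => AdicCompletion.mk_surjective I (α →₀ R) (x i)
  have hrel : ∀ n, ∑ i, f i • u i n ∈ I ^ n • (⊤ : Submodule R (α →₀ R)) := by
    intro n
    have h1 := congrArg (fun y => y.val n) hfx
    simp only [AdicCompletion.val_sum_apply, AdicCompletion.val_smul_apply,
      AdicCompletion.val_zero_apply] at h1
    rw [← Submodule.Quotient.mk_eq_zero, ← Submodule.mkQ_apply, map_sum]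
    rw [← h1]
    apply Finset.sum_congr rfl
    intro i _
    rw [← hu i, AdicCompletion.mk_apply_coe, map_smul]
  have hcauchy : ∀ i m n, m ≤ n → u i n - u i m ∈ I ^ m • (⊤ : Submodule R (α →₀ R)) := by
    intro i m n hmn
    have := (u i).property hmn
    rw [SModEq.sub_mem] at this
    have h2 := Submodule.neg_mem _ this
    rwa [neg_sub] at h2
  -- the syzygy module
  set φ : (Fin l →₀ R) →ₗ[R] R := Finsupp.linearCombination R f with hφ
  have hφapp : ∀ v : Fin l →₀ R, φ v = ∑ i, v i * f i := by
    intro v
    rw [hφ, Finsupp.linearCombination_apply,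
      Finsupp.sum_fintype v (fun i a => a • f i) (fun i => zero_smul R (f i))]
    rfl
  obtain ⟨k, z, hz⟩ := Submodule.fg_iff_exists_fin_generating_family.mp
    (IsNoetherian.noetherian (LinearMap.ker φ))
  have hzker : ∀ j, φ (z j) = 0 := by
    intro j
    have : z j ∈ LinearMap.ker φ := hz ▸ Submodule.subset_span (Set.mem_range_self j)
    exact this
  obtain ⟨c, hc⟩ := artinRees I f
  obtain ⟨c', hc'⟩ := artinRees I z
  -- the error terms ε
  have hε : ∀ n, ∃ ε : Fin l → (α →₀ R), (∀ i a, ε i a ∈ I ^ (n + c')) ∧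
      ∀ a, (∑ i, f i • u i (n + (c + c'))) a = ∑ i, ε i a • f i := by
    intro n
    apply assemble f (I ^ (n + c')) (fun a => (∑ i, f i • u i (n + (c + c'))) a)
      (∑ i, f i • u i (n + (c + c'))).support
    · intro a ha
      exact Finsupp.notMem_support_iff.mp ha
    · intro a
      apply hc (n + c')
      · have := (mem_smul_top_iff _ _).mp (hrel (n + (c + c'))) a
        rw [smul_eq_mul, Ideal.mul_top]
        have h2 : I ^ (n + (c + c')) = I ^ (n + c' + c) := by congr 1; omega
        rw [← h2]
        exact this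
      · rw [Finsupp.finsetSum_apply]
        apply Submodule.sum_mem
        intro i _
        rw [Finsupp.smul_apply, smul_eq_mul, mul_comm]
        exact Submodule.smul_mem _ _ (Submodule.subset_span (Set.mem_range_self i))
  choose ε hε1 hε2 using hε
  set v : ℕ → Fin l → (α →₀ R) := fun n i => u i (n + (c + c')) - ε n i with hv
  set V : ℕ → α → (Fin l →₀ R) := fun n a => Finsupp.equivFunOnFinite.symm (fun i => v n i a)
    with hV
  have hVapp : ∀ n a i, V n a i = v n i a := fun n a i => rfl
  have hVZ : ∀ n a, φ (V n a) = 0 := by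
    intro n a
    rw [hφapp]
    simp only [hVapp, hv, Finsupp.sub_apply, sub_mul, Finset.sum_sub_distrib]
    rw [sub_eq_zero]
    have := hε2 n a
    rw [Finsupp.finsetSum_apply] at this
    simp only [Finsupp.smul_apply, smul_eq_mul] at this
    rw [← this]
    apply Finset.sum_congr rfl
    intro i _
    ring
  have hVsupp : ∀ n a, a ∉ Finset.univ.biUnion (fun i => (v n i).support) → V n a = 0 := by
    intro n a ha
    ext i
    rw [hVapp, Finsupp.zero_apply]
    by_contra h
    apply ha
    rw [Finset.mem_biUnion]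
    exact ⟨i, Finset.mem_univ i, Finsupp.mem_support_iff.mpr h⟩
  -- the increments
  have hθ : ∀ n, ∃ θ : Fin k → (α →₀ R), (∀ j a, θ j a ∈ I ^ n) ∧
      ∀ a, V (n + 1) a - V n a = ∑ j, θ j a • z j := by
    intro n
    apply assemble z (I ^ n) (fun a => V (n + 1) a - V n a)
      (Finset.univ.biUnion (fun i => (v (n + 1) i).support) ∪
        Finset.univ.biUnion (fun i => (v n i).support))
    · intro a ha
      rw [Finset.notMem_union] at ha
      rw [hVsupp (n + 1) a ha.1, hVsupp n a ha.2, sub_self]
    · intro a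
      apply hc' n
      · rw [mem_smul_top_iff]
        intro i
        rw [Finsupp.sub_apply, hVapp, hVapp]
        simp only [hv, Finsupp.sub_apply]
        have h1 : u i (n + 1 + (c + c')) a - u i (n + (c + c')) a ∈ I ^ (n + c') := by
          have := (mem_smul_top_iff _ _).mp (hcauchy i (n + (c + c')) (n + 1 + (c + c'))
            (by omega)) a
          rw [Finsupp.sub_apply] at this
          exact Ideal.pow_le_pow_right (by omega) this
        have h2 : ε (n + 1) i a ∈ I ^ (n + c') :=
          Ideal.pow_le_pow_right (by omega) (hε1 (n + 1) i a)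
        have h3 := hε1 n i a
        have : u i (n + 1 + (c + c')) a - ε (n + 1) i a - (u i (n + (c + c')) a - ε n i a) =
            (u i (n + 1 + (c + c')) a - u i (n + (c + c')) a) - ε (n + 1) i a + ε n i a := by ring
        rw [this]
        exact Ideal.add_mem _ (Ideal.sub_mem _ h1 h2) h3
      · rw [hz, LinearMap.mem_ker, map_sub, hVZ, hVZ, sub_self]
  choose θ hθ1 hθ2 using hθ
  -- the base
  have hY0 : ∃ Y0 : Fin k → (α →₀ R), (∀ j a, Y0 j a ∈ (⊤ : Ideal R)) ∧
      ∀ a, V 0 a = ∑ j, Y0 j a • z j := by
    apply assemble z ⊤ (fun a => V 0 a) (Finset.univ.biUnion (fun i => (v 0 i).support))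
      (hVsupp 0)
    intro a
    have : V 0 a ∈ Submodule.span R (Set.range z) := by
      rw [hz, LinearMap.mem_ker]; exact hVZ 0 a
    rw [Submodule.mem_span_range_iff_exists_fun] at this
    obtain ⟨t, ht⟩ := this
    exact ⟨t, fun _ => Submodule.mem_top, ht.symm⟩
  obtain ⟨Y0, -, hY0⟩ := hY0
  set y : Fin k → ℕ → (α →₀ R) := fun j n => Y0 j + ∑ m ∈ Finset.range n, θ m j with hy
  have hinv : ∀ n a, V n a = ∑ j, (y j n a) • z j := by
    intro n
    induction n with
    | zero =>
      intro a
      simp only [hy, Finset.range_zero, Finset.sum_empty, add_zero]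
      exact hY0 a
    | succ n ih =>
      intro a
      have h1 : V (n + 1) a = V n a + ∑ j, θ n j a • z j := by rw [← hθ2 n a]; abel
      rw [h1, ih a, ← Finset.sum_add_distrib]
      apply Finset.sum_congr rfl
      intro j _
      rw [← add_smul]
      congr 1
      simp only [hy, Finset.sum_range_succ, Finsupp.add_apply]
      ring
  have hycauchy : ∀ j n, y j n ≡ y j (n + 1) [SMOD (I ^ n • ⊤ : Submodule R (α →₀ R))] := by
    intro j n
    rw [SModEq.sub_mem]
    have : y j n - y j (n + 1) = -θ n j := by
      simp only [hy, Finset.sum_range_succ]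
      abel
    rw [this]
    apply Submodule.neg_mem
    rw [mem_smul_top_iff]
    exact hθ1 n j
  refine ⟨k, fun i j => z j i, fun j => AdicCompletion.mk I (α →₀ R)
    (AdicCompletion.AdicCauchySequence.mk I (α →₀ R) (y j) (hycauchy j)), ?_, ?_⟩
  · intro i
    rw [← hu i]
    apply AdicCompletion.ext
    intro n
    rw [AdicCompletion.val_sum_apply]
    simp only [AdicCompletion.val_smul_apply, AdicCompletion.mk_apply_coe, Submodule.mkQ_apply,
      AdicCompletion.AdicCauchySequence.mk_coe]
    have e1 : ∑ j, (z j i) • (Submodule.Quotient.mk (y j n) :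
        (α →₀ R) ⧸ (I ^ n • ⊤ : Submodule R (α →₀ R))) =
        Submodule.Quotient.mk (∑ j, z j i • y j n) := by
      rw [← Submodule.mkQ_apply, map_sum]
      rfl
    rw [e1, Submodule.Quotient.eq]
    have hsum : ∑ j, z j i • y j n = v n i := by
      ext a
      rw [Finsupp.finsetSum_apply]
      simp only [Finsupp.smul_apply, smul_eq_mul]
      have := congrArg (fun w => w i) (hinv n a)
      simp only [Finsupp.finsetSum_apply, Finsupp.smul_apply, smul_eq_mul] at this
      rw [hVapp] at this
      rw [this]
      apply Finset.sum_congr rfl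
      intro j _
      ring
    rw [hsum]
    have : u i n - v n i = -(u i (n + (c + c')) - u i n) + ε n i := by
      simp only [hv]; abel
    rw [this]
    apply Submodule.add_mem
    · exact Submodule.neg_mem _ (hcauchy i n (n + (c + c')) (by omega))
    · rw [mem_smul_top_iff]
      intro a
      exact Ideal.pow_le_pow_right (by omega) (hε1 n i a)
  · intro j
    have := hzker j
    rw [hφapp] at this
    rw [← this]
    apply Finset.sum_congr rfl
    intro i _
    ring

end Groth.Agent.Helper8.ComplFlat
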