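import Mathlib
import Groth.Agent.Helper8.AdicProj

namespace Groth.Agent.Helper8.ChevMod

section Precomplete
variable {R : Type*} [CommRing R] (I : Ideal R)

/-- a surjective image of a precomplete module is precomplete -/
theorem isPrecomplete_of_surjective {F N : Type*} [AddCommGroup F] [Module R F] [AddCommGroup N]
    [Module R N] (π : F →ₗ[R] N) (hπ : Function.Surjective π) [IsPrecomplete I F] :
    IsPrecomplete I N := by
  refine ⟨fun x hx => ?_⟩
  -- differences lift
  have hd : ∀ n, ∃ d : F, d ∈ (I ^ n • ⊤ : Submodule R F) ∧ π d = x (n + 1) - x n := by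
    intro n
    have h := hx (Nat.le_succ n)
    rw [SModEq.sub_mem] at h
    have h' : x (n + 1) - x n ∈ (I ^ n • ⊤ : Submodule R N) := by
      have := Submodule.neg_mem _ h
      rwa [neg_sub] at this
    have hmap : (I ^ n • ⊤ : Submodule R N) = Submodule.map π (I ^ n • ⊤ : Submodule R F) := by
      rw [Submodule.map_smul'', Submodule.map_top, LinearMap.range_eq_top.mpr hπ]
    rw [hmap] at h'
    obtain ⟨d, hd, hd'⟩ := h'
    exact ⟨d, hd, hd'⟩
  choose d hdI hdπ using hd
  obtain ⟨y0, hy0⟩ := hπ (x 0)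
  let y : ℕ → F := fun n => Nat.rec y0 (fun i acc => acc + d i) n
  have hy_succ : ∀ n, y (n + 1) = y n + d n := fun n => rfl
  have hyπ : ∀ n, π (y n) = x n := by
    intro n
    induction n with
    | zero => exact hy0
    | succ n ih => rw [hy_succ, map_add, ih, hdπ]; abel
  have hy_diff : ∀ m n, m ≤ n → y n - y m ∈ (I ^ m • ⊤ : Submodule R F) := by
    intro m n hmn
    induction n, hmn using Nat.le_induction with
    | base => simp
    | succ n hmn ih =>
      have : y (n + 1) - y m = (y n - y m) + d n := by rw [hy_succ]; abel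
      rw [this]
      refine add_mem ih ?_
      exact Submodule.smul_mono_left (Ideal.pow_le_pow_right hmn) (hdI n)
  obtain ⟨L, hL⟩ := IsPrecomplete.prec' (I := I) y (by
    intro m n hmn
    rw [SModEq.sub_mem]
    have := Submodule.neg_mem _ (hy_diff m n hmn)
    rwa [neg_sub] at this)
  refine ⟨π L, fun n => ?_⟩
  have := hL n
  rw [SModEq.sub_mem] at this ⊢
  rw [← hyπ n, ← map_sub]
  exact Groth.Agent.Helper8.AdicProj.map_mem_smul_top π _ this

theorem isPrecomplete_of_finite [IsPrecomplete I R] (N : Type*) [AddCommGroup N] [Module R N]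
    [Module.Finite R N] : IsPrecomplete I N := by
  obtain ⟨k, f, hf⟩ := Module.Finite.exists_fin' R N
  have : IsPrecomplete I (Fin k → R) := Groth.Agent.Helper8.AdicProj.isPrecomplete_pi I k
  exact isPrecomplete_of_surjective I f hf

end Precomplete

section Chevalley
variable (R : Type*) [CommRing R] [IsNoetherianRing R] [IsLocalRing R]
variable (N : Type*) [AddCommGroup N] [Module R N] [Module.Finite R N]

theorem closed_aux (K : Submodule R N) (x : N)
    (hx : ∀ i : ℕ, x ∈ K ⊔ (IsLocalRing.maximalIdeal R ^ i • ⊤ : Submodule R N)) : x ∈ K := by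
  have h := Ideal.iInf_pow_smul_eq_bot_of_isLocalRing (R := R) (M := N ⧸ K)
    (IsLocalRing.maximalIdeal R) (Ideal.IsPrime.ne_top inferInstance)
  have hmem : K.mkQ x ∈
      (⨅ i : ℕ, IsLocalRing.maximalIdeal R ^ i • ⊤ : Submodule R (N ⧸ K)) := by
    rw [Submodule.mem_iInf]
    intro i
    obtain ⟨a, ha, b, hb, rfl⟩ := Submodule.mem_sup.mp (hx i)
    have ha0 : K.mkQ a = 0 := by
      rw [Submodule.mkQ_apply]; exact (Submodule.Quotient.mk_eq_zero K).mpr ha
    rw [map_add, ha0, zero_add]
    exact Groth.Agent.Helper8.AdicProj.map_mem_smul_top K.mkQ _ hb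
  rw [h, Submodule.mem_bot, Submodule.mkQ_apply] at hmem
  exact (Submodule.Quotient.mk_eq_zero K).mp hmem

theorem stab_aux (F : ℕ → Submodule R N) (hF : Antitone F) (k : ℕ) :
    ∃ s0, ∀ s, s0 ≤ s → F s ⊔ (IsLocalRing.maximalIdeal R ^ k • ⊤ : Submodule R N)
      = F s0 ⊔ (IsLocalRing.maximalIdeal R ^ k • ⊤ : Submodule R N) := by
  rcases Nat.eq_zero_or_pos k with rfl | hk
  · exact ⟨0, fun s _ => by simp⟩
  set m := IsLocalRing.maximalIdeal R with hm
  have hmin : m ∈ (m ^ k).minimalPrimes := by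
    refine ⟨⟨inferInstance, Ideal.pow_le_self hk.ne'⟩, fun q hq _ => ?_⟩
    have := hq.1
    exact (Ideal.IsPrime.pow_le_iff hk.ne').mp hq.2
  have hart : IsArtinianRing (R ⧸ m ^ k) :=
    IsLocalRing.quotient_artinian_of_mem_minimalPrimes_of_isLocalRing (m ^ k) hmin
  set Q := N ⧸ (m ^ k • ⊤ : Submodule R N) with hQ
  have hfin : Module.Finite (R ⧸ m ^ k) Q := Module.Finite.of_restrictScalars_finite R _ _
  have hartQ' : IsArtinian (R ⧸ m ^ k) Q := inferInstance
  have hartQ : IsArtinian R Q :=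
    isArtinian_of_surjective_algebraMap (S := R) (R := R ⧸ m ^ k) Ideal.Quotient.mk_surjective
  let f : ℕ →o (Submodule R Q)ᵒᵈ :=
    { toFun := fun s => OrderDual.toDual ((F s).map (m ^ k • ⊤ : Submodule R N).mkQ)
      monotone' := fun a b hab => Submodule.map_mono (hF hab) }
  obtain ⟨s0, hs0⟩ := IsArtinian.monotone_stabilizes f
  refine ⟨s0, fun s hs => ?_⟩
  have h1 : (F s).map (m ^ k • ⊤ : Submodule R N).mkQ = (F s0).map (m ^ k • ⊤ : Submodule R N).mkQ :=
    (congrArg OrderDual.ofDual (hs0 s hs)).symm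
  have h2 : ∀ K : Submodule R N, (K.map (m ^ k • ⊤ : Submodule R N).mkQ).comap
      (m ^ k • ⊤ : Submodule R N).mkQ = K ⊔ (m ^ k • ⊤ : Submodule R N) := by
    intro K
    rw [Submodule.comap_map_mkQ, sup_comm]
  rw [← h2, ← h2, h1]

theorem chevalley [IsPrecomplete (IsLocalRing.maximalIdeal R) R]
    (F : ℕ → Submodule R N) (hF : Antitone F) (hinf : ⨅ s, F s = ⊥) (n : ℕ) :
    ∃ s : ℕ, F s ≤ (IsLocalRing.maximalIdeal R ^ n • ⊤ : Submodule R N) := by
  set m := IsLocalRing.maximalIdeal R with hm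
  have hprec : IsPrecomplete m N := isPrecomplete_of_finite m N
  choose S hS using stab_aux R N F hF
  let J : ℕ → Submodule R N := fun k => F (S k) ⊔ (m ^ k • ⊤ : Submodule R N)
  have hJle : ∀ k s, J k ≤ F s ⊔ (m ^ k • ⊤ : Submodule R N) := by
    intro k s
    rcases le_total (S k) s with h | h
    · rw [hS k s h]
    · exact sup_le_sup_right (hF h) _
  have hpow : ∀ {a b : ℕ}, a ≤ b → (m ^ b • ⊤ : Submodule R N) ≤ (m ^ a • ⊤ : Submodule R N) :=
    fun h => Submodule.smul_mono_left (Ideal.pow_le_pow_right h)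
  have hJstep : ∀ k, J k ≤ J (k + 1) ⊔ (m ^ k • ⊤ : Submodule R N) := by
    intro k
    have h1 : J k = F (max (S k) (S (k + 1))) ⊔ (m ^ k • ⊤ : Submodule R N) :=
      (hS k _ (le_max_left _ _)).symm
    have h2 : J (k + 1) = F (max (S k) (S (k + 1))) ⊔ (m ^ (k + 1) • ⊤ : Submodule R N) :=
      (hS (k + 1) _ (le_max_right _ _)).symm
    rw [h1, h2]
    exact sup_le (le_sup_left.trans le_sup_left) le_sup_right
  suffices J n ≤ (m ^ n • ⊤ : Submodule R N) from ⟨S n, le_sup_left.trans this⟩
  intro x₀ hx₀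
  have hstep : ∀ (k : ℕ) (x : N), x ∈ J k → ∃ y ∈ J (k + 1), x - y ∈ (m ^ k • ⊤ : Submodule R N) := by
    intro k x hx
    obtain ⟨y, hy, z, hz, rfl⟩ := Submodule.mem_sup.mp (hJstep k hx)
    exact ⟨y, hy, by simpa using hz⟩
  choose! nxt hnxt1 hnxt2 using hstep
  let seq : ℕ → N := fun i => Nat.rec x₀ (fun i x => nxt (n + i) x) i
  have hseq0 : seq 0 = x₀ := rfl
  have hseqs : ∀ i, seq (i + 1) = nxt (n + i) (seq i) := fun i => rfl
  have hseq_mem : ∀ i, seq i ∈ J (n + i) := by
    intro i
    induction i with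
    | zero => exact hx₀
    | succ i ih => rw [hseqs]; exact hnxt1 _ _ ih
  have hseq_diff : ∀ i, seq i - seq (i + 1) ∈ (m ^ (n + i) • ⊤ : Submodule R N) := by
    intro i
    rw [hseqs]
    exact hnxt2 _ _ (hseq_mem i)
  have hseq_diff' : ∀ i j, i ≤ j → seq i - seq j ∈ (m ^ (n + i) • ⊤ : Submodule R N) := by
    intro i j hij
    induction j, hij using Nat.le_induction with
    | base => simp
    | succ j hij ih =>
      have : seq i - seq (j + 1) = (seq i - seq j) + (seq j - seq (j + 1)) := by abel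
      rw [this]
      exact add_mem ih (hpow (by omega) (hseq_diff j))
  obtain ⟨L, hL⟩ := IsPrecomplete.prec' (I := m) seq (by
    intro a b hab
    rw [SModEq.sub_mem]
    exact hpow (by omega) (hseq_diff' a b hab))
  have hL' : ∀ j, seq j - L ∈ (m ^ j • ⊤ : Submodule R N) := by
    intro j
    have := hL j
    rwa [SModEq.sub_mem] at this
  have hL2 : ∀ i, seq i - L ∈ (m ^ (n + i) • ⊤ : Submodule R N) := by
    intro i
    have : seq i - L = (seq i - seq (n + i)) + (seq (n + i) - L) := by abel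
    rw [this]
    exact add_mem (hseq_diff' i (n + i) (by omega)) (hL' (n + i))
  have hLJ : ∀ i, L ∈ J (n + i) := by
    intro i
    have : L = seq i - (seq i - L) := by abel
    rw [this]
    exact sub_mem (hseq_mem i) (le_sup_right (a := F (S (n + i))) (hL2 i))
  have hLI : ∀ s, L ∈ F s := by
    intro s
    apply closed_aux R N (F s) L
    intro i
    have h1 := hJle (n + i) s (hLJ i)
    exact (sup_le_sup_left (hpow (show i ≤ n + i by omega)) (F s)) h1
  have hL0 : L = 0 := by
    have : L ∈ ⨅ s, F s := by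
      rw [Submodule.mem_iInf]
      exact hLI
    rwa [hinf, Submodule.mem_bot] at this
  have := hL2 0
  rwa [hL0, sub_zero, hseq0, add_zero] at this

end Chevalley

end Groth.Agent.Helper8.ChevMod
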