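import Mathlib
import Groth.Agent.Helper8.ChevMod
import Groth.Agent.Helper9.Reynolds2
import Groth.Agent.Helper9.LRss
import Groth.Agent.Helper9.LRint
import Groth.Agent.Helper9.Integral
import Groth.Prelude.Def_HopfRep
import Groth.Prelude.Def_GLin
import Groth.Prelude.Def_W4c1tameactTame

set_option autoImplicit false
universe u v w w'

namespace Groth.Agent.Helper8.LunaAdic

open TensorProduct

section
variable (k : Type u) [Field k] (H : Type v) [CommRing H] [HopfAlgebra k H]
  (A : Type w) [CommRing A] [Algebra k A] [HopfRep.Comod k H A] [GLin.IsCoactAlg k H A]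
  (M : Type w') [AddCommGroup M] [Module k M] [Module A M] [IsScalarTower k A M]
  [HopfRep.Comod k H M] [TameAct.IsHopfMod k H A M]

/-- `a ↦ a • m` is a comodule map for an invariant `m` -/
theorem isComodHom_smul_invariant (m : M) (hm : m ∈ HopfRep.fixedPts k H M) :
    Hoch.IsComodHom H ((LinearMap.toSpanSingleton A M m).restrictScalars k) := by
  apply LinearMap.ext
  intro a
  have h : HopfRep.Comod.coact (k := k) (A := H) m = m ⊗ₜ[k] (1 : H) := hm
  simp only [LinearMap.comp_apply, LinearMap.restrictScalars_apply, LinearMap.toSpanSingleton_apply]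
  rw [TameAct.IsHopfMod.coact_smul, h]
  generalize HopfRep.Comod.coact (k := k) (A := H) a = z
  induction z using TensorProduct.induction_on with
  | zero => simp
  | tmul x y => simp
  | add x y hx hy => rw [map_add, LinearMap.add_apply, hx, hy, map_add]

/-- invariants times invariants are invariant -/
theorem smul_mem_fixedPts (b : A) (hb : b ∈ GLin.invariants k H A) (x : M)
    (hx : x ∈ HopfRep.fixedPts k H M) : b • x ∈ HopfRep.fixedPts k H M := by
  have h : HopfRep.Comod.coact (k := k) (A := H) x = x ⊗ₜ[k] (1 : H) := hx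
  have h' : HopfRep.Comod.coact (k := k) (A := H) b = b ⊗ₜ[k] (1 : H) := hb
  show HopfRep.Comod.coact (k := k) (A := H) (b • x) = (b • x) ⊗ₜ[k] (1 : H)
  rw [TameAct.IsHopfMod.coact_smul, h, h', TameAct.hmSMul_tmul, one_mul]

/-- the invariants of `M` as a module over the ring of invariants -/
def invMod : Submodule ↥(GLin.invariants k H A) M where
  carrier := HopfRep.fixedPts k H M
  add_mem' ha hb := (HopfRep.fixedPts k H M).add_mem ha hb
  zero_mem' := (HopfRep.fixedPts k H M).zero_mem
  smul_mem' b x hx := smul_mem_fixedPts k H A M b.1 b.2 x hx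

theorem mem_invMod (x : M) : x ∈ invMod k H A M ↔ x ∈ HopfRep.fixedPts k H M := Iff.rfl

variable (hssA : HopfRep.IsSemisimpleComod k H A) (hssM : HopfRep.IsSemisimpleComod k H M)

include hssA in
/-- the Reynolds operator preserves subcomodules -/
theorem reynolds_mem (E : A →ₗ[k] A) (hE₁ : Hoch.IsComodHom H E) (hE₂ : ∀ x, E (E x) = E x)
    (hE₃ : ∀ x : A, E x = x ↔ x ∈ HopfRep.fixedPts k H A)
    (W : Submodule k A) (hW : HopfRep.IsSubcomod (k := k) (A := H) W) (w : A) (hw : w ∈ W) :
    E w ∈ W := by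
  obtain ⟨W', hW', hc⟩ := hssA W hW
  have hP := Groth.Agent.Helper9.isComodHom_projection hW hW' hc
  have h1 := Groth.Agent.Helper9.reynolds_comm hssA E hE₁ hE₂ hE₃ E hE₁ hE₂ hE₃
    (W.projection W' hc) hP w
  rw [Submodule.projection_apply_of_mem_left hc hw] at h1
  rw [h1]
  exact Submodule.projection_apply_mem hc _

include hssA hssM in
theorem invMod_fg [IsNoetherianRing A] [Module.Finite A M] : (invMod k H A M).FG := by
  classical
  obtain ⟨E, hE₁, hE₂, hE₃⟩ := Groth.Agent.Helper9.exists_reynolds hssA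
  obtain ⟨E', hE'₁, hE'₂, hE'₃⟩ := Groth.Agent.Helper9.exists_reynolds hssM
  have hfg : (Submodule.span A (↑(HopfRep.fixedPts k H M) : Set M)).FG :=
    IsNoetherian.noetherian _
  obtain ⟨s, hs, hspan⟩ := (Submodule.fg_span_iff_fg_span_finset_subset _).mp hfg
  refine ⟨s, le_antisymm (Submodule.span_le.mpr fun x hx => hs hx) ?_⟩
  intro m hm
  have hm0 : m ∈ HopfRep.fixedPts k H M := hm
  have hm' : m ∈ Submodule.span A (↑s : Set M) := by
    rw [← hspan]
    exact Submodule.subset_span hm0
  obtain ⟨f, hf⟩ := Submodule.mem_span_finset'.mp hm'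
  have hEm : E' m = m := (hE'₃ m).mpr hm0
  have key : ∀ i : (s : Set M), E' (f i • (i : M)) =
      (⟨E (f i), (hE₃ _).mp (hE₂ (f i))⟩ : GLin.invariants k H A) • (i : M) := by
    intro i
    have hi : (i : M) ∈ HopfRep.fixedPts k H M := hs i.2
    have := Groth.Agent.Helper9.reynolds_comm hssA E hE₁ hE₂ hE₃ E' hE'₁ hE'₂ hE'₃
      ((LinearMap.toSpanSingleton A M (i : M)).restrictScalars k)
      (isComodHom_smul_invariant k H A M (i : M) hi) (f i)
    have h2 : E' (f i • (i : M)) = E (f i) • (i : M) := by simpa using this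
    rw [h2]
    rfl
  rw [← hEm, ← hf, map_sum]
  apply Submodule.sum_mem
  intro i _
  rw [key i]
  exact Submodule.smul_mem _ _ (Submodule.subset_span i.2)


include hssA hssM in
theorem main' [IsNoetherianRing A] (m : Ideal A) [m.IsMaximal]
    (hm : HopfRep.IsSubcomod (k := k) (A := H) (m.restrictScalars k))
    [IsLocalRing ↥(GLin.invariants k H A)] [IsNoetherianRing ↥(GLin.invariants k H A)]
    [IsAdicComplete (IsLocalRing.maximalIdeal ↥(GLin.invariants k H A)) ↥(GLin.invariants k H A)]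
    [Module.Finite A M] :
    (∀ x ∈ HopfRep.fixedPts k H M, (∀ n : ℕ, x ∈ (m ^ n • ⊤ : Submodule A M)) → x = 0) ∧
      ∀ x : ℕ → M, (∀ n, x n ∈ HopfRep.fixedPts k H M) →
        (∀ n, x (n + 1) - x n ∈ (m ^ n • ⊤ : Submodule A M)) →
          ∃ y ∈ HopfRep.fixedPts k H M, ∀ n, y - x n ∈ (m ^ n • ⊤ : Submodule A M) := by
  classical
  set B := GLin.invariants k H A with hB
  obtain ⟨E, hE₁, hE₂, hE₃⟩ := Groth.Agent.Helper9.exists_reynolds hssA
  obtain ⟨E', hE'₁, hE'₂, hE'₃⟩ := Groth.Agent.Helper9.exists_reynolds hssM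
  have hEinv : ∀ a, E a ∈ B := fun a => (hE₃ _).mp (hE₂ a)
  have hEm : ∀ a ∈ m, E a ∈ m := fun a ha =>
    reynolds_mem k H A hssA E hE₁ hE₂ hE₃ _ hm a ha
  have hEmul : ∀ b ∈ B, ∀ a, E (b * a) = b * E a := fun b hb a =>
    Groth.Agent.Helper9.reynolds_mul hssA E hE₁ hE₂ hE₃ b hb a
  have hE1 : E 1 = 1 := (hE₃ 1).mpr B.one_mem
  have hnonunit : ∀ b : B, (b : A) ∈ m → b ∈ IsLocalRing.maximalIdeal B := by
    intro b hb
    rw [IsLocalRing.mem_maximalIdeal, mem_nonunits_iff]
    intro hu
    have : IsUnit (b : A) := hu.map B.val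
    exact (Ideal.IsMaximal.ne_top inferInstance : m ≠ ⊤) (Ideal.eq_top_of_isUnit_mem _ hb this)
  have hR1 : ∀ (a : A) (x : M), x ∈ HopfRep.fixedPts k H M → E' (a • x) = E a • x := by
    intro a x hx
    have := Groth.Agent.Helper9.reynolds_comm hssA E hE₁ hE₂ hE₃ E' hE'₁ hE'₂ hE'₃
      ((LinearMap.toSpanSingleton A M x).restrictScalars k)
      (isComodHom_smul_invariant k H A M x hx) a
    simpa using this
  have part1 : ∀ x ∈ HopfRep.fixedPts k H M,
      (∀ n : ℕ, x ∈ (m ^ n • ⊤ : Submodule A M)) → x = 0 := by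
    intro x hx hxn
    have hmem : x ∈ (⨅ i : ℕ, m ^ i • ⊤ : Submodule A M) := by
      rw [Submodule.mem_iInf]; exact hxn
    obtain ⟨r, hr⟩ := (Ideal.mem_iInf_smul_pow_eq_bot_iff m x).mp hmem
    have h1 : E (r : A) • x = x := by
      rw [← hR1 _ x hx, hr]; exact (hE'₃ x).mpr hx
    set b : B := ⟨E (r : A), hEinv _⟩ with hbdef
    have hb : b ∈ IsLocalRing.maximalIdeal B := hnonunit b (hEm _ r.2)
    have hu : IsUnit (1 - b) := IsLocalRing.isUnit_one_sub_self_of_mem_nonunits b hb
    have h2 : (1 - b) • x = 0 := by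
      rw [sub_smul, one_smul]
      show x - E (r : A) • x = 0
      rw [h1, sub_self]
    exact (hu.smul_eq_zero).mp h2
  refine ⟨part1, ?_⟩
  have hnm : ∀ b : B, b ∈ IsLocalRing.maximalIdeal B → (b : A) ∈ m := by
    intro b hb
    by_contra hbm
    obtain ⟨a, c, hc, hac⟩ := Ideal.IsMaximal.exists_inv (inferInstance : m.IsMaximal) hbm
    have h1 : (b : A) * E a + E c = 1 := by
      have := congrArg E hac
      rw [map_add, hE1, mul_comm a, hEmul _ b.2] at this
      exact this
    set c' : B := ⟨E c, hEinv c⟩ with hc'def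
    have hc' : c' ∈ IsLocalRing.maximalIdeal B := hnonunit c' (hEm c hc)
    have hu : IsUnit (1 - c') := IsLocalRing.isUnit_one_sub_self_of_mem_nonunits c' hc'
    have h2 : b * ⟨E a, hEinv a⟩ = 1 - c' := by
      apply Subtype.ext
      show (b : A) * E a = 1 - E c
      rw [← h1]; ring
    rw [← h2] at hu
    exact hb (isUnit_of_mul_isUnit_left hu)
  set N := invMod k H A M with hN
  have hNfg : N.FG := invMod_fg k H A M hssA hssM
  have : Module.Finite B N := Module.Finite.iff_fg.mpr hNfg
  set 𝔫 := IsLocalRing.maximalIdeal B with h𝔫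
  let Fil : ℕ → Submodule B N := fun s =>
    Submodule.comap N.subtype ((m ^ s • ⊤ : Submodule A M).restrictScalars B)
  have hFil : ∀ s (x : N), x ∈ Fil s ↔ (x : M) ∈ (m ^ s • ⊤ : Submodule A M) :=
    fun s x => Iff.rfl
  have hanti : Antitone Fil := by
    intro a b hab x hx
    rw [hFil] at hx ⊢
    exact Submodule.smul_mono_left (Ideal.pow_le_pow_right hab) hx
  have hinf : ⨅ s, Fil s = ⊥ := by
    rw [eq_bot_iff]
    intro x hx
    rw [Submodule.mem_iInf] at hx
    rw [Submodule.mem_bot]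
    exact Subtype.ext (part1 x.1 x.2 (fun n => (hFil n x).mp (hx n)))
  have hchev := ChevMod.chevalley B N Fil hanti hinf
  have hpowle : ∀ j, (𝔫 ^ j • ⊤ : Submodule B N) ≤ Fil j := by
    intro j x hx
    refine Submodule.smul_induction_on hx ?_ ?_
    · intro b hb y _
      rw [hFil]
      have hbm : (b : A) ∈ m ^ j := by
        have : 𝔫 ≤ Ideal.comap B.val.toRingHom m := fun b hb => hnm b hb
        exact (Ideal.le_comap_pow _ j) (Ideal.pow_right_mono this j hb)
      exact Submodule.smul_mem_smul hbm Submodule.mem_top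
    · intro y z hy hz; exact add_mem hy hz
  intro x hxinv hxstep
  have htel : ∀ a b, a ≤ b → x b - x a ∈ (m ^ a • ⊤ : Submodule A M) := by
    intro a b hab
    induction b, hab using Nat.le_induction with
    | base => simp
    | succ b hab ih =>
      have : x (b + 1) - x a = (x (b + 1) - x b) + (x b - x a) := by abel
      rw [this]
      exact add_mem (Submodule.smul_mono_left (Ideal.pow_le_pow_right hab) (hxstep b)) ih
  choose s hs using hchev
  let t : ℕ → ℕ := fun j => j + (Finset.range (j + 1)).sup s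
  have ht_ge : ∀ j, j ≤ t j := fun j => Nat.le_add_right _ _
  have ht_s : ∀ j, s j ≤ t j := fun j =>
    (Finset.le_sup (f := s) (Finset.self_mem_range_succ j)).trans (Nat.le_add_left _ _)
  have ht_mono : Monotone t := by
    intro a b hab
    exact add_le_add hab (Finset.sup_mono (Finset.range_mono (by omega)))
  let z : ℕ → N := fun j => ⟨x (t j), hxinv _⟩
  have hz : ∀ a b, a ≤ b → z b - z a ∈ (𝔫 ^ a • ⊤ : Submodule B N) := by
    intro a b hab
    apply hs a
    apply hanti (ht_s a)
    rw [hFil]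
    exact htel _ _ (ht_mono hab)
  have hprecN : IsPrecomplete 𝔫 N := ChevMod.isPrecomplete_of_finite 𝔫 N
  obtain ⟨L, hL⟩ := IsPrecomplete.prec' (I := 𝔫) z (by
    intro a b hab
    rw [SModEq.sub_mem]
    have := Submodule.neg_mem _ (hz a b hab)
    rwa [neg_sub] at this)
  refine ⟨L.1, L.2, fun n => ?_⟩
  have h1 : z n - L ∈ Fil n := hpowle n (by have := hL n; rwa [SModEq.sub_mem] at this)
  rw [hFil] at h1
  have h2 : x (t n) - x n ∈ (m ^ n • ⊤ : Submodule A M) := htel n (t n) (ht_ge n)
  have : (L : M) - x n = (x (t n) - x n) - ((z n - L : N) : M) := by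
    show _ = _ - (x (t n) - (L : M)); abel
  rw [this]
  exact sub_mem h2 h1


theorem main (hG : HopfRep.IsLinearlyReductive k H) [IsNoetherianRing A] (m : Ideal A)
    [m.IsMaximal]
    (hm : HopfRep.IsSubcomod (k := k) (A := H) (m.restrictScalars k))
    [IsLocalRing ↥(GLin.invariants k H A)] [IsNoetherianRing ↥(GLin.invariants k H A)]
    [IsAdicComplete (IsLocalRing.maximalIdeal ↥(GLin.invariants k H A)) ↥(GLin.invariants k H A)]
    [Module.Finite A M] :
    (∀ x ∈ HopfRep.fixedPts k H M, (∀ n : ℕ, x ∈ (m ^ n • ⊤ : Submodule A M)) → x = 0) ∧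
      ∀ x : ℕ → M, (∀ n, x n ∈ HopfRep.fixedPts k H M) →
        (∀ n, x (n + 1) - x n ∈ (m ^ n • ⊤ : Submodule A M)) →
          ∃ y ∈ HopfRep.fixedPts k H M, ∀ n, y - x n ∈ (m ^ n • ⊤ : Submodule A M) := by
  obtain ⟨α, hα, h1⟩ := Groth.Agent.Helper9.exists_integral hG
  have hssA : HopfRep.IsSemisimpleComod k H A :=
    Groth.Agent.Helper9.Integral.semisimple α hα h1
  have hssM : HopfRep.IsSemisimpleComod k H M :=
    Groth.Agent.Helper9.Integral.semisimple α hα h1
  exact main' k H A M hssA hssM m hm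

end
end Groth.Agent.Helper8.LunaAdic
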