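import Mathlib

/-!
The antipode of a commutative Hopf algebra is anti-comultiplicative.
-/

set_option autoImplicit false
universe u v
open TensorProduct Coalgebra

namespace Groth.Agent.Helper8.HopfAnti

variable {R : Type u} {A : Type v} [CommRing R] [CommRing A] [HopfAlgebra R A]

/-- `Δ (S a) = Σ S a₂ ⊗ S a₁` in a commutative Hopf algebra. -/
theorem comul_antipode (a : A) :
    comul (R := R) (HopfAlgebra.antipode R a) =
      TensorProduct.map (HopfAlgebra.antipode R (A := A)) (HopfAlgebra.antipode R (A := A))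
        (TensorProduct.comm R A A (comul a)) := by
  let i₁ : WithConv (A →ₐ[R] A ⊗[R] A) := WithConv.toConv Algebra.TensorProduct.includeLeft
  let i₂ : WithConv (A →ₐ[R] A ⊗[R] A) := WithConv.toConv Algebra.TensorProduct.includeRight
  let δ : WithConv (A →ₐ[R] A ⊗[R] A) := WithConv.toConv (Bialgebra.comulAlgHom R A)
  have h1 : i₁ * i₂ = δ := by
    apply WithConv.ofConv_injective
    apply AlgHom.ext
    intro x
    change (i₁ * i₂) x = comul x
    rw [AlgHom.convMul_apply]
    generalize comul (R := R) x = t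
    induction t using TensorProduct.induction_on with
    | zero => simp
    | tmul p q =>
      simp [i₁, i₂]
    | add p q hp hq => rw [map_add, hp, hq]
  have h2 : δ⁻¹ = i₂⁻¹ * i₁⁻¹ := by
    rw [← h1]
    exact mul_inv_rev i₁ i₂
  have h3 : (δ⁻¹) a = (i₂⁻¹ * i₁⁻¹) a := by rw [h2]
  have h4 : (δ⁻¹) a = comul (R := R) (HopfAlgebra.antipode R a) := rfl
  rw [← h4, h3, AlgHom.convMul_apply]
  generalize comul (R := R) a = t
  induction t using TensorProduct.induction_on with
  | zero => simp
  | tmul p q =>
    change (Algebra.TensorProduct.lift (i₂⁻¹).ofConv (i₁⁻¹).ofConv _) (p ⊗ₜ[R] q) = _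
    rw [Algebra.TensorProduct.lift_tmul]
    change (1 : A) ⊗ₜ[R] (HopfAlgebra.antipode R p) * (HopfAlgebra.antipode R q) ⊗ₜ[R] (1 : A) = _
    rw [Algebra.TensorProduct.tmul_mul_tmul, one_mul, mul_one, TensorProduct.comm_tmul,
      TensorProduct.map_tmul]
  | add p q hp hq => rw [map_add, hp, hq, map_add, map_add]

end Groth.Agent.Helper8.HopfAnti
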