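import Mathlib
import Groth.Prelude.Def_ComodDual
import Groth.Agent.Helper8.HopfAnti

/-!
Existence of the contragredient comodule on the dual of a finite projective comodule over a
commutative Hopf algebra.
-/

set_option autoImplicit false
universe u v w
open TensorProduct

namespace Groth.Agent.Helper8.ComodDualAux

section general

variable {k : Type u} [CommRing k] {V : Type w} [AddCommGroup V] [Module k V]

theorem dualTensorHom_lTensor {X : Type*} {Y : Type*} [AddCommGroup X] [Module k X]
    [AddCommGroup Y] [Module k Y] (h : X →ₗ[k] Y) (v : V) (t : Module.Dual k V ⊗[k] X) :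
    dualTensorHom k V Y (h.lTensor (Module.Dual k V) t) v = h (dualTensorHom k V X t v) := by
  induction t using TensorProduct.induction_on with
  | zero => simp
  | tmul g x => simp [dualTensorHom_apply]
  | add p q hp hq => simp only [map_add, LinearMap.add_apply, hp, hq]

theorem dualTensorHom_assoc_tmul {X : Type*} {Y : Type*} [AddCommGroup X] [Module k X]
    [AddCommGroup Y] [Module k Y] (v : V) (s : Module.Dual k V ⊗[k] X) (y : Y) :
    dualTensorHom k V (X ⊗[k] Y) (TensorProduct.assoc k (Module.Dual k V) X Y (s ⊗ₜ[k] y)) v =
      dualTensorHom k V X s v ⊗ₜ[k] y := by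
  induction s using TensorProduct.induction_on with
  | zero => simp
  | tmul g b => simp [dualTensorHom_apply, TensorProduct.smul_tmul']
  | add p q hp hq =>
    simp only [map_add, LinearMap.add_apply, TensorProduct.add_tmul, hp, hq]

end general

section main

variable {k : Type u} [CommRing k] {A : Type v} [CommRing A] [HopfAlgebra k A]
  {V : Type w} [AddCommGroup V] [Module k V]

/-- `Θ ((w ⊗ b) ⊗ (g ⊗ a)) = g w • (S b ⊗ a)` -/
noncomputable def Θ : (V ⊗[k] A) ⊗[k] (Module.Dual k V ⊗[k] A) →ₗ[k] A ⊗[k] A :=
  ((TensorProduct.lid k (A ⊗[k] A)).toLinearMap.comp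
    (TensorProduct.map (contractRight k V)
      ((HopfAlgebraStruct.antipode (R := k) (A := A)).rTensor A))).comp
    (TensorProduct.tensorTensorTensorComm k V A (Module.Dual k V) A).toLinearMap

theorem Θ_tmul (w : V) (b : A) (g : Module.Dual k V) (a : A) :
    Θ (k := k) ((w ⊗ₜ[k] b) ⊗ₜ[k] (g ⊗ₜ[k] a)) =
      g w • (HopfAlgebraStruct.antipode (R := k) (A := A) b ⊗ₜ[k] a) := by
  simp [Θ, contractRight_apply]

/-- `Ξ f ((w' ⊗ b') ⊗ b) = f w' • (S b ⊗ S b')` -/
noncomputable def Ξ (f : Module.Dual k V) : (V ⊗[k] A) ⊗[k] A →ₗ[k] A ⊗[k] A :=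
  ((TensorProduct.lid k (A ⊗[k] A)).toLinearMap.comp
    (TensorProduct.map f ((TensorProduct.map (HopfAlgebraStruct.antipode (R := k) (A := A))
      (HopfAlgebraStruct.antipode (R := k) (A := A))).comp
        (TensorProduct.comm k A A).toLinearMap))).comp
    (TensorProduct.assoc k V A A).toLinearMap

theorem Ξ_tmul (f : Module.Dual k V) (w' : V) (b' b : A) :
    Ξ (k := k) f ((w' ⊗ₜ[k] b') ⊗ₜ[k] b) =
      f w' • (HopfAlgebraStruct.antipode (R := k) (A := A) b ⊗ₜ[k]
        HopfAlgebraStruct.antipode (R := k) (A := A) b') := by
  simp [Ξ]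

end main


section exist

variable {k : Type u} [CommRing k] {A : Type v} [CommRing A] [HopfAlgebra k A]
  {V : Type w} [AddCommGroup V] [Module k V] [Module.Finite k V] [Module.Projective k V]

theorem exists_isDual (c : HopfRep.Comod k A V) :
    ∃ d : HopfRep.Comod k A (Module.Dual k V), ComodTens.Comod.IsDual c d := by
  set S : A →ₗ[k] A := HopfAlgebraStruct.antipode (R := k) (A := A) with hS
  let φ : Module.Dual k V →ₗ[k] (V →ₗ[k] A) :=
    { toFun := fun f => ComodTens.dualCoactFun c f
      map_add' := ComodTens.dualCoactFun_add c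
      map_smul' := ComodTens.dualCoactFun_smul c }
  have hφ : ∀ f (s : V), φ f s = TensorProduct.lid k A (TensorProduct.map f S (c.coact s)) :=
    fun f s => rfl
  let E : Module.Dual k V ⊗[k] A ≃ₗ[k] (V →ₗ[k] A) :=
    LinearEquiv.ofBijective (dualTensorHom k V A) dualTensorHom_bijective
  let dco : Module.Dual k V →ₗ[k] Module.Dual k V ⊗[k] A := E.symm.toLinearMap.comp φ
  have hdco : ∀ f, dualTensorHom k V A (dco f) = φ f := by
    intro f
    change E (E.symm (φ f)) = φ f
    rw [LinearEquiv.apply_symm_apply]
  refine ⟨⟨dco, ?_, ?_⟩, fun f => hdco f⟩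
  · -- coassociativity
    apply LinearMap.ext
    intro f
    simp only [LinearMap.coe_comp, Function.comp_apply, LinearEquiv.coe_coe]
    apply (dualTensorHom_bijective (R := k) (M := V) (N := A ⊗[k] A)).1
    apply LinearMap.ext
    intro v
    rw [dualTensorHom_lTensor, hdco, hφ]
    -- A1
    have A1 : ∀ (s : V ⊗[k] A) (g : Module.Dual k V) (a : A),
        TensorProduct.lid k A (TensorProduct.map g S s) ⊗ₜ[k] a =
          Θ (k := k) (s ⊗ₜ[k] (g ⊗ₜ[k] a)) := by
      intro s g a
      induction s using TensorProduct.induction_on with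
      | zero => simp
      | tmul w b => rw [Θ_tmul]; simp [TensorProduct.smul_tmul', hS]
      | add p q hp hq =>
        rw [map_add, map_add, TensorProduct.add_tmul, hp, hq, TensorProduct.add_tmul, map_add]
    have A2 : ∀ t : Module.Dual k V ⊗[k] A,
        dualTensorHom k V (A ⊗[k] A)
          (TensorProduct.assoc k (Module.Dual k V) A A (dco.rTensor A t)) v =
        Θ (k := k) (c.coact v ⊗ₜ[k] t) := by
      intro t
      induction t using TensorProduct.induction_on with
      | zero => simp
      | tmul g a =>
        rw [LinearMap.rTensor_tmul, dualTensorHom_assoc_tmul, hdco, hφ, A1]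
      | add p q hp hq =>
        rw [map_add, map_add, map_add, LinearMap.add_apply, hp, hq, TensorProduct.tmul_add, map_add]
    have B1 : ∀ (w : V) (b : A) (t : Module.Dual k V ⊗[k] A),
        Θ (k := k) ((w ⊗ₜ[k] b) ⊗ₜ[k] t) = S b ⊗ₜ[k] dualTensorHom k V A t w := by
      intro w b t
      induction t using TensorProduct.induction_on with
      | zero => simp
      | tmul g a => rw [Θ_tmul]; simp [dualTensorHom_apply, TensorProduct.tmul_smul, hS]
      | add p q hp hq =>
        rw [TensorProduct.tmul_add, map_add, hp, hq, map_add, LinearMap.add_apply,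
          TensorProduct.tmul_add]
    have B2 : ∀ (f : Module.Dual k V) (s' : V ⊗[k] A) (b : A),
        S b ⊗ₜ[k] TensorProduct.lid k A (TensorProduct.map f S s') =
          Ξ (k := k) f (s' ⊗ₜ[k] b) := by
      intro f s' b
      induction s' using TensorProduct.induction_on with
      | zero => simp
      | tmul w' b' => rw [Ξ_tmul]; simp [TensorProduct.tmul_smul, hS]
      | add p q hp hq =>
        rw [map_add, map_add, TensorProduct.tmul_add, hp, hq, TensorProduct.add_tmul, map_add]
    have B3 : ∀ (f : Module.Dual k V) (s : V ⊗[k] A),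
        Θ (k := k) (s ⊗ₜ[k] dco f) = Ξ (k := k) f (c.coact.rTensor A s) := by
      intro f s
      induction s using TensorProduct.induction_on with
      | zero => simp
      | tmul w b => rw [B1, hdco, hφ, B2, LinearMap.rTensor_tmul]
      | add p q hp hq => rw [TensorProduct.add_tmul, map_add, hp, hq, map_add, map_add]
    have C1 : ∀ (f : Module.Dual k V) (w : V) (u : A ⊗[k] A),
        Ξ (k := k) f ((TensorProduct.assoc k V A A).symm (w ⊗ₜ[k] u)) =
          f w • TensorProduct.map S S (TensorProduct.comm k A A u) := by
      intro f w u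
      induction u using TensorProduct.induction_on with
      | zero => simp
      | tmul x y => simp [Ξ_tmul, hS]
      | add p q hp hq =>
        rw [TensorProduct.tmul_add, map_add, map_add, hp, hq, map_add, map_add, smul_add]
    have C2 : ∀ (f : Module.Dual k V) (s : V ⊗[k] A),
        Ξ (k := k) f ((TensorProduct.assoc k V A A).symm
          ((CoalgebraStruct.comul (R := k) (A := A)).lTensor V s)) =
        CoalgebraStruct.comul (R := k) (A := A)
          (TensorProduct.lid k A (TensorProduct.map f S s)) := by
      intro f s
      induction s using TensorProduct.induction_on with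
      | zero => simp
      | tmul w b =>
        rw [LinearMap.lTensor_tmul, C1, TensorProduct.map_tmul, TensorProduct.lid_tmul, map_smul,
          hS]
        congr 1
        exact (HopfAnti.comul_antipode (R := k) b).symm
      | add p q hp hq => simp only [map_add, hp, hq]
    rw [A2, B3]
    have h1 := LinearMap.congr_fun c.coassoc v
    simp only [LinearMap.coe_comp, Function.comp_apply, LinearEquiv.coe_coe] at h1
    rw [← C2, ← h1, LinearEquiv.symm_apply_apply]
  · -- counit
    apply LinearMap.ext
    intro f
    simp only [LinearMap.coe_comp, Function.comp_apply, LinearMap.flip_apply, TensorProduct.mk_apply]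
    apply (dualTensorHom_bijective (R := k) (M := V) (N := k)).1
    apply LinearMap.ext
    intro v
    rw [dualTensorHom_lTensor, hdco, hφ, dualTensorHom_apply]
    have D1 : ∀ s : V ⊗[k] A, CoalgebraStruct.counit (R := k) (A := A)
        (TensorProduct.lid k A (TensorProduct.map f S s)) =
        TensorProduct.lid k k (f.rTensor k
          ((CoalgebraStruct.counit (R := k) (A := A)).lTensor V s)) := by
      intro s
      induction s using TensorProduct.induction_on with
      | zero => simp
      | tmul w b =>
        simp only [TensorProduct.map_tmul, TensorProduct.lid_tmul, map_smul,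
          LinearMap.lTensor_tmul, LinearMap.rTensor_tmul, hS]
        congr 1
        exact HopfAlgebra.counit_antipode b
      | add p q hp hq => simp only [map_add, hp, hq]
    have h1 := LinearMap.congr_fun c.counit_comp v
    simp only [LinearMap.coe_comp, Function.comp_apply, LinearMap.flip_apply,
      TensorProduct.mk_apply] at h1
    rw [D1, h1, LinearMap.rTensor_tmul, TensorProduct.lid_tmul]

end exist

end Groth.Agent.Helper8.ComodDualAux
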