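import Mathlib

set_option autoImplicit false
universe u v w

namespace Groth.Agent.Helper8.DualTensorFlat

open TensorProduct

variable (k : Type u) [CommRing k] (M : Type v) [AddCommGroup M] [Module k M]
  (N : Type w) [AddCommGroup N] [Module k N]

/-- `M^* ⊗ N → Hom(M, N)` is bijective for `M` finitely presented and `N` flat. -/
theorem dualTensorHom_bijective_of_flat [Module.FinitePresentation k M] [Module.Flat k N] :
    Function.Bijective (dualTensorHom k M N) := by
  obtain ⟨n, m, f, g, hf, hex⟩ := Module.FinitePresentation.exists_fin' k M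
  have hτn : Function.Bijective (dualTensorHom k (Fin n → k) N) := dualTensorHom_bijective
  have hτm : Function.Bijective (dualTensorHom k (Fin m → k) N) := dualTensorHom_bijective
  have hnat_f : ∀ x : Module.Dual k M ⊗[k] N,
      dualTensorHom k (Fin n → k) N (LinearMap.rTensor N f.dualMap x) =
        (dualTensorHom k M N x) ∘ₗ f := by
    intro x
    exact LinearMap.congr_fun (dualTensorHom_comp_rTensor_dualMap (P := N) f) x
  have hnat_g : ∀ y : Module.Dual k (Fin n → k) ⊗[k] N,
      dualTensorHom k (Fin m → k) N (LinearMap.rTensor N g.dualMap y) =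
        (dualTensorHom k (Fin n → k) N y) ∘ₗ g := by
    intro y
    exact LinearMap.congr_fun (dualTensorHom_comp_rTensor_dualMap (P := N) g) y
  have hfinj : Function.Injective (LinearMap.rTensor N f.dualMap) :=
    Module.Flat.rTensor_preserves_injective_linearMap _
      (LinearMap.dualMap_injective_of_surjective hf)
  -- exactness of the dual sequence
  have hdual : Function.Exact f.dualMap g.dualMap := by
    intro φ
    constructor
    · intro hφ
      have hker : LinearMap.ker f ≤ LinearMap.ker φ := by
        intro x hx
        obtain ⟨z, rfl⟩ := (hex x).mp hx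
        have : g.dualMap φ z = 0 := by rw [hφ]; rfl
        exact this
      refine ⟨((LinearMap.ker f).liftQ φ hker) ∘ₗ
        (LinearMap.quotKerEquivOfSurjective f hf).symm.toLinearMap, ?_⟩
      apply LinearMap.ext
      intro x
      simp only [LinearMap.dualMap_apply, LinearMap.comp_apply, LinearEquiv.coe_coe]
      have : (LinearMap.quotKerEquivOfSurjective f hf).symm (f x) = Submodule.Quotient.mk x := by
        rw [LinearEquiv.symm_apply_eq]
        rfl
      rw [this, Submodule.liftQ_apply]
    · rintro ⟨ψ, rfl⟩
      apply LinearMap.ext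
      intro z
      simp only [LinearMap.dualMap_apply, LinearMap.zero_apply]
      rw [(hex (g z)).mpr ⟨z, rfl⟩, map_zero]
  have hexN := Module.Flat.rTensor_exact N hdual
  constructor
  · rw [injective_iff_map_eq_zero]
    intro x hx
    apply hfinj
    rw [map_zero]
    apply hτn.1
    rw [hnat_f, hx, map_zero, LinearMap.zero_comp]
  · intro h
    obtain ⟨y, hy⟩ := hτn.2 (h ∘ₗ f)
    have hy0 : LinearMap.rTensor N g.dualMap y = 0 := by
      apply hτm.1
      rw [hnat_g, hy, map_zero, LinearMap.comp_assoc]
      have : f ∘ₗ g = 0 := by
        apply LinearMap.ext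
        intro z
        exact (hex (g z)).mpr ⟨z, rfl⟩
      rw [this, LinearMap.comp_zero]
    obtain ⟨x, hx⟩ := (hexN y).mp hy0
    refine ⟨x, ?_⟩
    apply LinearMap.ext
    intro a
    obtain ⟨b, rfl⟩ := hf a
    have h1 := hnat_f x
    rw [hx, hy] at h1
    have := LinearMap.congr_fun h1 b
    simpa using this.symm

end Groth.Agent.Helper8.DualTensorFlat
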