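import Mathlib
import Groth.Prelude.Def_ComodTens
import Groth.Prelude.Def_ComodDual
import Groth.Prelude.Def_Hoch
import Groth.Agent.Helper8.DualTensorFlat

set_option autoImplicit false
universe u v w w'

namespace Groth.Agent.Helper8.FixHom

open TensorProduct

section defs
variable (k : Type u) [CommRing k] (A : Type v) [CommRing A] [HopfAlgebra k A]
  (B : Type w) [AddCommGroup B] [Module k B]

/-- right multiplication by `a` on the `A`-factor of `B ⊗ A` -/
noncomputable def RA : A →ₗ[k] (B ⊗[k] A →ₗ[k] B ⊗[k] A) :=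
  LinearMap.lTensorHom B ∘ₗ (LinearMap.mul k A).flip

@[simp] theorem RA_tmul (a : A) (b : B) (a' : A) : RA k A B a (b ⊗ₜ[k] a') = b ⊗ₜ[k] (a' * a) := by
  simp [RA, mul_comm]

theorem RA_one (y : B ⊗[k] A) : RA k A B 1 y = y := by
  induction y using TensorProduct.induction_on with
  | zero => simp
  | tmul b a => simp
  | add x y hx hy => rw [map_add, hx, hy]

theorem RA_RA (a a' : A) (y : B ⊗[k] A) : RA k A B a' (RA k A B a y) = RA k A B (a * a') y := by
  induction y using TensorProduct.induction_on with
  | zero => simp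
  | tmul b c => simp [mul_assoc]
  | add x y hx hy => rw [map_add, map_add, hx, hy, map_add]

/-- `(y ⊗ a) ↦ y · (1 ⊗ a)` -/
noncomputable def muR : (B ⊗[k] A) ⊗[k] A →ₗ[k] B ⊗[k] A :=
  TensorProduct.lift (RA k A B).flip

@[simp] theorem muR_tmul (y : B ⊗[k] A) (a : A) : muR k A B (y ⊗ₜ[k] a) = RA k A B a y := by
  simp [muR]

end defs

section main
variable {k : Type u} [CommRing k] {A : Type v} [CommRing A] [HopfAlgebra k A]
  {B : Type w} [AddCommGroup B] [Module k B] (cB : HopfRep.Comod k A B)
  {M : Type w'} [AddCommGroup M] [Module k M] (cM : HopfRep.Comod k A M)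

/-- `m ⊗ a ↦ ρ_B (h m) · (1 ⊗ S a)` -/
noncomputable def Th (h : M →ₗ[k] B) : M ⊗[k] A →ₗ[k] B ⊗[k] A :=
  muR k A B ∘ₗ TensorProduct.map (cB.coact ∘ₗ h) (HopfAlgebraStruct.antipode (R := k) (A := A))

@[simp] theorem Th_tmul (h : M →ₗ[k] B) (m : M) (a : A) :
    Th cB h (m ⊗ₜ[k] a) = RA k A B (HopfAlgebraStruct.antipode (R := k) a) (cB.coact (h m)) := by
  simp [Th]

theorem Th_add (h h' : M →ₗ[k] B) (w : M ⊗[k] A) : Th cB (h + h') w = Th cB h w + Th cB h' w := by
  induction w using TensorProduct.induction_on with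
  | zero => simp
  | tmul m a => simp
  | add x y hx hy => rw [map_add, hx, hy, map_add, map_add]; abel

theorem coassoc_apply (m : M) :
    (cM.coact.rTensor A) (cM.coact m) =
      (TensorProduct.assoc k M A A).symm
        ((CoalgebraStruct.comul (R := k) (A := A)).lTensor M (cM.coact m)) := by
  have := LinearMap.congr_fun cM.coassoc m
  simp only [LinearMap.comp_apply, LinearEquiv.coe_coe] at this
  rw [← this, LinearEquiv.symm_apply_apply]

theorem counit_apply (m : M) :
    (CoalgebraStruct.counit (R := k) (A := A)).lTensor M (cM.coact m) = m ⊗ₜ[k] (1 : k) := by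
  have := LinearMap.congr_fun cM.counit_comp m
  simpa using this

/-- a comodule map satisfies the twisted invariance identity -/
theorem T_of_hom (h : M →ₗ[k] B) (hh : cB.coact ∘ₗ h = h.rTensor A ∘ₗ cM.coact) (m : M) :
    Th cB h (cM.coact m) = h m ⊗ₜ[k] (1 : A) := by
  have h1 : ∀ w : M ⊗[k] A, Th cB h w =
      muR k A B (TensorProduct.map (h.rTensor A) (HopfAlgebraStruct.antipode (R := k) (A := A))
        ((cM.coact.rTensor A) w)) := by
    intro w
    induction w using TensorProduct.induction_on with
    | zero => simp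
    | tmul m' a =>
      simp only [Th_tmul, LinearMap.rTensor_tmul, TensorProduct.map_tmul, muR_tmul]
      have := LinearMap.congr_fun hh m'
      simp only [LinearMap.comp_apply] at this
      rw [this]
    | add x y hx hy => simp only [map_add, hx, hy]
  have h2 : ∀ t : M ⊗[k] (A ⊗[k] A),
      muR k A B (TensorProduct.map (h.rTensor A) (HopfAlgebraStruct.antipode (R := k) (A := A))
        ((TensorProduct.assoc k M A A).symm t)) =
      TensorProduct.map h (LinearMap.mul' k A ∘ₗ
        (HopfAlgebraStruct.antipode (R := k) (A := A)).lTensor A) t := by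
    intro t
    induction t using TensorProduct.induction_on with
    | zero => simp
    | tmul m' s =>
      induction s using TensorProduct.induction_on with
      | zero => simp
      | tmul a a' => simp
      | add x y hx hy =>
        simp only [TensorProduct.tmul_add, map_add, hx, hy]
    | add x y hx hy => simp only [map_add, hx, hy]
  have h3 : ∀ w : M ⊗[k] A,
      TensorProduct.map h (LinearMap.mul' k A ∘ₗ
        (HopfAlgebraStruct.antipode (R := k) (A := A)).lTensor A)
        ((CoalgebraStruct.comul (R := k) (A := A)).lTensor M w) =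
      TensorProduct.map h (Algebra.linearMap k A)
        ((CoalgebraStruct.counit (R := k) (A := A)).lTensor M w) := by
    intro w
    induction w using TensorProduct.induction_on with
    | zero => simp
    | tmul m' a =>
      simp only [LinearMap.lTensor_tmul, TensorProduct.map_tmul, LinearMap.comp_apply,
        HopfAlgebra.mul_antipode_lTensor_comul_apply, Algebra.linearMap_apply]
    | add x y hx hy => simp only [map_add, hx, hy]
  rw [h1, coassoc_apply, h2, h3, counit_apply]
  simp

/-- conversely the twisted invariance identity makes `h` a comodule map -/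
theorem hom_of_T (h : M →ₗ[k] B) (hst : ∀ m, Th cB h (cM.coact m) = h m ⊗ₜ[k] (1 : A)) :
    cB.coact ∘ₗ h = h.rTensor A ∘ₗ cM.coact := by
  -- U = muR ∘ rTensor (Th h ∘ ρ_M)
  have hU : ∀ w : M ⊗[k] A,
      muR k A B ((Th cB h ∘ₗ cM.coact).rTensor A w) = h.rTensor A w := by
    intro w
    induction w using TensorProduct.induction_on with
    | zero => simp
    | tmul m a =>
      simp only [LinearMap.rTensor_tmul, LinearMap.comp_apply, muR_tmul, hst, RA_tmul, one_mul]
    | add x y hx hy => simp only [map_add, hx, hy]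
  have h1 : ∀ w : M ⊗[k] A, (Th cB h ∘ₗ cM.coact).rTensor A w =
      (Th cB h).rTensor A ((cM.coact.rTensor A) w) := by
    intro w
    induction w using TensorProduct.induction_on with
    | zero => simp
    | tmul m a => simp
    | add x y hx hy => simp only [map_add, hx, hy]
  have h2 : ∀ t : M ⊗[k] (A ⊗[k] A),
      muR k A B ((Th cB h).rTensor A ((TensorProduct.assoc k M A A).symm t)) =
      muR k A B (TensorProduct.map (cB.coact ∘ₗ h) (LinearMap.mul' k A ∘ₗ
        (HopfAlgebraStruct.antipode (R := k) (A := A)).rTensor A) t) := by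
    intro t
    induction t using TensorProduct.induction_on with
    | zero => simp
    | tmul m' s =>
      induction s using TensorProduct.induction_on with
      | zero => simp
      | tmul a a' => simp [RA_RA]
      | add x y hx hy =>
        simp only [TensorProduct.tmul_add, map_add, hx, hy]
    | add x y hx hy => simp only [map_add, hx, hy]
  have h3 : ∀ w : M ⊗[k] A,
      TensorProduct.map (cB.coact ∘ₗ h) (LinearMap.mul' k A ∘ₗ
        (HopfAlgebraStruct.antipode (R := k) (A := A)).rTensor A)
        ((CoalgebraStruct.comul (R := k) (A := A)).lTensor M w) =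
      TensorProduct.map (cB.coact ∘ₗ h) (Algebra.linearMap k A)
        ((CoalgebraStruct.counit (R := k) (A := A)).lTensor M w) := by
    intro w
    induction w using TensorProduct.induction_on with
    | zero => simp
    | tmul m' a =>
      simp only [LinearMap.lTensor_tmul, TensorProduct.map_tmul, LinearMap.comp_apply,
        HopfAlgebra.mul_antipode_rTensor_comul_apply, Algebra.linearMap_apply]
    | add x y hx hy => simp only [map_add, hx, hy]
  apply LinearMap.ext
  intro m
  simp only [LinearMap.comp_apply]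
  rw [← hU, h1, coassoc_apply, h2, h3, counit_apply]
  simp [RA_one]

end main

section bij
variable {k : Type u} [CommRing k] {A : Type v} [CommRing A] [HopfAlgebra k A]
  {B : Type w} [AddCommGroup B] [Module k B] (cB : HopfRep.Comod k A B)
  {M : Type w'} [AddCommGroup M] [Module k M] (cM : HopfRep.Comod k A M)
  (d : HopfRep.Comod k A (Module.Dual k M))

variable (k A B M) in
/-- `(b ⊗ φ) ⊗ a ↦ φ ⊗ (b ⊗ a)` -/
noncomputable def eqv : (B ⊗[k] Module.Dual k M) ⊗[k] A ≃ₗ[k] Module.Dual k M ⊗[k] (B ⊗[k] A) :=
  (LinearEquiv.rTensor A (TensorProduct.comm k B (Module.Dual k M))).trans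
    (TensorProduct.assoc k (Module.Dual k M) B A)

variable (k A B M) in
/-- `(b ⊗ φ) ⊗ a ↦ (m ↦ φ m • (b ⊗ a))` -/
noncomputable def Psi : (B ⊗[k] Module.Dual k M) ⊗[k] A →ₗ[k] (M →ₗ[k] B ⊗[k] A) :=
  dualTensorHom k M (B ⊗[k] A) ∘ₗ (eqv k A B M).toLinearMap

@[simp] theorem Psi_tmul (b : B) (φ : Module.Dual k M) (a : A) (m : M) :
    Psi k A B M ((b ⊗ₜ[k] φ) ⊗ₜ[k] a) m = φ m • (b ⊗ₜ[k] a) := by
  simp [Psi, eqv, dualTensorHom_apply]

variable (k B M) in
/-- `b ⊗ φ ↦ (m ↦ φ m • b)` -/
noncomputable def Phi : B ⊗[k] Module.Dual k M →ₗ[k] (M →ₗ[k] B) :=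
  dualTensorHom k M B ∘ₗ (TensorProduct.comm k B (Module.Dual k M)).toLinearMap

@[simp] theorem Phi_tmul (b : B) (φ : Module.Dual k M) (m : M) :
    Phi k B M (b ⊗ₜ[k] φ) m = φ m • b := by
  simp [Phi, dualTensorHom_apply]

theorem Psi_tmul_one (x : B ⊗[k] Module.Dual k M) (m : M) :
    Psi k A B M (x ⊗ₜ[k] (1 : A)) m = Phi k B M x m ⊗ₜ[k] (1 : A) := by
  induction x using TensorProduct.induction_on with
  | zero => simp
  | tmul b φ => simp [TensorProduct.smul_tmul']
  | add x y hx hy =>
    rw [TensorProduct.add_tmul, map_add, LinearMap.add_apply, hx, hy, map_add,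
      LinearMap.add_apply, TensorProduct.add_tmul]

theorem Psi_tensor_gen (y : B ⊗[k] A) (z : Module.Dual k M ⊗[k] A) (m : M) :
    Psi k A B M (TensorProduct.map LinearMap.id (LinearMap.mul' k A)
      (AlgebraTensorModule.tensorTensorTensorComm k k k k B A (Module.Dual k M) A (y ⊗ₜ[k] z))) m =
      RA k A B (dualTensorHom k M A z m) y := by
  induction y using TensorProduct.induction_on with
  | zero => simp
  | tmul b₀ a₀ =>
    induction z using TensorProduct.induction_on with
    | zero => simp
    | tmul φ₀ a₁ =>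
      simp [dualTensorHom_apply, TensorProduct.tmul_smul]
    | add z₁ z₂ h₁ h₂ =>
      simp only [TensorProduct.tmul_add, map_add, LinearMap.add_apply, h₁, h₂]
  | add y₁ y₂ h₁ h₂ =>
    simp only [TensorProduct.add_tmul, map_add, LinearMap.add_apply, h₁, h₂]

theorem Th_Phi_gen (b : B) (φ : Module.Dual k M) (w : M ⊗[k] A) :
    Th cB (Phi k B M (b ⊗ₜ[k] φ)) w =
      RA k A B (TensorProduct.lid k A
        (TensorProduct.map φ (HopfAlgebraStruct.antipode (R := k) (A := A)) w)) (cB.coact b) := by
  induction w using TensorProduct.induction_on with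
  | zero => simp
  | tmul m a => simp
  | add x y hx hy => simp only [map_add, hx, hy, LinearMap.add_apply]

include cM in
theorem Psi_coact (hd : ComodTens.Comod.IsDual cM d) (x : B ⊗[k] Module.Dual k M) (m : M) :
    Psi k A B M ((ComodTens.Comod.tensor cB d).coact x) m = Th cB (Phi k B M x) (cM.coact m) := by
  induction x using TensorProduct.induction_on with
  | zero => simp [Th]
  | tmul b φ =>
    rw [ComodTens.tensor_coact_tmul, Psi_tensor_gen, hd φ, Th_Phi_gen]
    rfl
  | add x y hx hy =>
    rw [map_add, map_add, LinearMap.add_apply, hx, hy, map_add, Th_add]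

theorem main [Module.Flat k A] [Module.Flat k B] [Module.FinitePresentation k M]
    (hd : ComodTens.Comod.IsDual cM d) :
    Set.BijOn
      (fun x : B ⊗[k] Module.Dual k M => dualTensorHom k M B (TensorProduct.comm k B (Module.Dual k M) x))
      ((@HopfRep.fixedPts k A _ _ _ (B ⊗[k] Module.Dual k M) _ _ (ComodTens.Comod.tensor cB d)) :
        Set (B ⊗[k] Module.Dual k M))
      {h : M →ₗ[k] B | @Hoch.IsComodHom k _ A _ _ _ M _ _ cM B _ _ cB h} := by
  have hΦ : ∀ x, dualTensorHom k M B (TensorProduct.comm k B (Module.Dual k M) x) = Phi k B M x :=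
    fun x => rfl
  have hbijB : Function.Bijective (dualTensorHom k M B) :=
    DualTensorFlat.dualTensorHom_bijective_of_flat k M B
  have hbijBA : Function.Bijective (dualTensorHom k M (B ⊗[k] A)) :=
    DualTensorFlat.dualTensorHom_bijective_of_flat k M (B ⊗[k] A)
  have hΦbij : Function.Bijective (Phi k B M) := by
    show Function.Bijective (dualTensorHom k M B ∘ (TensorProduct.comm k B (Module.Dual k M)))
    exact hbijB.comp (TensorProduct.comm k B (Module.Dual k M)).bijective
  have hΨinj : Function.Injective (Psi k A B M) := by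
    show Function.Injective (dualTensorHom k M (B ⊗[k] A) ∘ (eqv k A B M))
    exact hbijBA.1.comp (eqv k A B M).injective
  refine ⟨?_, ?_, ?_⟩
  · intro x hx
    have hx' : (ComodTens.Comod.tensor cB d).coact x = x ⊗ₜ[k] (1 : A) := hx
    show cB.coact ∘ₗ (Phi k B M x) = LinearMap.rTensor A (Phi k B M x) ∘ₗ cM.coact
    apply hom_of_T cB cM
    intro m
    rw [← Psi_coact cB cM d hd, hx', Psi_tmul_one]
  · intro x _ y _ hxy
    simp only [hΦ] at hxy
    exact hΦbij.1 hxy
  · intro h hh
    obtain ⟨x, hx⟩ := hΦbij.2 h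
    refine ⟨x, ?_, hx⟩
    show (ComodTens.Comod.tensor cB d).coact x = x ⊗ₜ[k] (1 : A)
    apply hΨinj
    apply LinearMap.ext
    intro m
    rw [Psi_coact cB cM d hd, Psi_tmul_one, hx]
    exact T_of_hom cB cM h hh m

end bij

end Groth.Agent.Helper8.FixHom
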