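import Mathlib

/-!
# Flat descent of algebras: the algebraic core

`A → B` a flat ring map, `C` a `B`-algebra with a "coaction" `ρ : C → B ⊗_A C` (the ring form of a descent
datum): `ρ (b • 1) = b ⊗ 1`, counit `μ ∘ ρ = id` and coassociativity.  Then for the invariants
`C₀ = {c | ρ c = 1 ⊗ c}` the canonical map `B ⊗_A C₀ → C` is bijective.
-/

set_option autoImplicit false
universe u

namespace Groth.Agent.Helper8.DescAlg

open TensorProduct

variable {A B C : Type u} [CommRing A] [CommRing B] [CommRing C] [Algebra A B] [Algebra A C]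
  [Algebra B C] [IsScalarTower A B C]

variable (A B C) in
/-- multiplication `b ⊗ c ↦ b • c` -/
noncomputable def mu : B ⊗[A] C →ₐ[A] C :=
  Algebra.TensorProduct.lift (IsScalarTower.toAlgHom A B C) (AlgHom.id A C)
    (fun _ _ => Commute.all _ _)

@[simp] lemma mu_tmul (b : B) (c : C) : mu A B C (b ⊗ₜ c) = algebraMap B C b * c := by
  simp [mu]

variable (ρ : C →ₐ[A] B ⊗[A] C)

/-- the invariants -/
noncomputable abbrev inv : Subalgebra A C := AlgHom.equalizer ρ Algebra.TensorProduct.includeRight

/-- the comparison map -/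
noncomputable def kappa : B ⊗[A] (inv ρ) →ₐ[A] C :=
  Algebra.TensorProduct.lift (IsScalarTower.toAlgHom A B C) (inv ρ).val
    (fun _ _ => Commute.all _ _)

@[simp] lemma kappa_tmul (b : B) (c : inv ρ) : kappa ρ (b ⊗ₜ c) = algebraMap B C b * c.1 := by
  simp [kappa]

variable (h1 : ∀ b : B, ρ (algebraMap B C b) = b ⊗ₜ 1) (h2 : ∀ c : C, mu A B C (ρ c) = c)
  (h3 : ∀ c : C, Algebra.TensorProduct.map (AlgHom.id A B) ρ (ρ c) =
      Algebra.TensorProduct.map (AlgHom.id A B) Algebra.TensorProduct.includeRight (ρ c))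

include h1 in
lemma rho_kappa (z : B ⊗[A] (inv ρ)) :
    ρ (kappa ρ z) = LinearMap.lTensor B (inv ρ).val.toLinearMap z := by
  induction z using TensorProduct.induction_on with
  | zero => simp
  | tmul b c =>
    rw [kappa_tmul, map_mul, h1, LinearMap.lTensor_tmul]
    have hc : ρ c.1 = (1 : B) ⊗ₜ[A] c.1 := c.2
    rw [hc, Algebra.TensorProduct.tmul_mul_tmul, mul_one, one_mul]
    rfl
  | add x y hx hy => rw [map_add, map_add, hx, hy, map_add]

include h2 in
lemma rho_injective : Function.Injective ρ := fun c c' h => by rw [← h2 c, ← h2 c', h]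

include h1 in
theorem kappa_injective [Module.Flat A B] : Function.Injective (kappa ρ) := by
  intro z z' h
  have := congrArg ρ h
  rw [rho_kappa ρ h1, rho_kappa ρ h1] at this
  exact Module.Flat.lTensor_preserves_injective_linearMap _ Subtype.val_injective this

omit [Algebra B C] [IsScalarTower A B C] in
lemma map_id_eq_lTensor (φ : C →ₐ[A] B ⊗[A] C) (y : B ⊗[A] C) :
    Algebra.TensorProduct.map (AlgHom.id A B) φ y = LinearMap.lTensor B φ.toLinearMap y := by
  induction y using TensorProduct.induction_on with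
  | zero => simp
  | tmul b c => simp
  | add x y hx hy => rw [map_add, map_add, hx, hy]

include h1 h2 h3 in
theorem kappa_surjective [Module.Flat A B] : Function.Surjective (kappa ρ) := by
  intro c
  have hy : ρ c ∈ LinearMap.eqLocus
      (TensorProduct.AlgebraTensorModule.lTensor A B ρ.toLinearMap)
      (TensorProduct.AlgebraTensorModule.lTensor A B
        (Algebra.TensorProduct.includeRight : C →ₐ[A] B ⊗[A] C).toLinearMap) := by
    show LinearMap.lTensor B ρ.toLinearMap (ρ c) =
      LinearMap.lTensor B (Algebra.TensorProduct.includeRight : C →ₐ[A] B ⊗[A] C).toLinearMap (ρ c)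
    rw [← map_id_eq_lTensor, ← map_id_eq_lTensor]
    exact h3 c
  rw [Module.Flat.eqLocus_lTensor_eq] at hy
  obtain ⟨z, hz⟩ := hy
  let j : ↥(LinearMap.eqLocus ρ.toLinearMap
      (Algebra.TensorProduct.includeRight : C →ₐ[A] B ⊗[A] C).toLinearMap) →ₗ[A] ↥(inv ρ) :=
    { toFun := fun x => ⟨x.1, x.2⟩
      map_add' := fun _ _ => rfl
      map_smul' := fun _ _ => rfl }
  have hj : (inv ρ).val.toLinearMap ∘ₗ j = (LinearMap.eqLocus ρ.toLinearMap
      (Algebra.TensorProduct.includeRight : C →ₐ[A] B ⊗[A] C).toLinearMap).subtype := rfl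
  refine ⟨LinearMap.lTensor B j z, ?_⟩
  apply rho_injective ρ h2
  rw [rho_kappa ρ h1, ← LinearMap.comp_apply, ← LinearMap.lTensor_comp, hj]
  exact hz

include h1 h2 h3 in
theorem kappa_bijective [Module.Flat A B] : Function.Bijective (kappa ρ) :=
  ⟨kappa_injective ρ h1, kappa_surjective ρ h1 h2 h3⟩

include h1 h2 h3 in
open CategoryTheory in
/-- the square `A → B`, `A → C₀`, `B → C`, `C₀ → C` is a pushout of commutative rings -/
theorem isPushout [Module.Flat A B] :
    IsPushout (CommRingCat.ofHom (algebraMap A B)) (CommRingCat.ofHom (algebraMap A (inv ρ)))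
      (CommRingCat.ofHom (algebraMap B C)) (CommRingCat.ofHom (inv ρ).val.toRingHom) := by
  let e : B ⊗[A] (inv ρ) ≃+* C :=
    RingEquiv.ofBijective (kappa ρ).toRingHom (kappa_bijective ρ h1 h2 h3)
  refine (CommRingCat.isPushout_tensorProduct A B (inv ρ)).of_iso (Iso.refl _) (Iso.refl _)
    (Iso.refl _) e.toCommRingCatIso (by simp) (by simp) ?_ ?_
  · ext b
    simp [e]
  · ext c
    simp [e]

end Groth.Agent.Helper8.DescAlg
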