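import Mathlib
import Groth.Agent.Helper1.MonogenicLocal

set_option autoImplicit false
universe u

namespace Groth.Agent.Helper8.FEtRes

open Polynomial IsLocalRing

theorem main (A : Type u)
    [CommRing A] [IsLocalRing A] [IsNoetherianRing A] (l : Type u) [Field l]
    [Algebra (IsLocalRing.ResidueField A) l] [FiniteDimensional (IsLocalRing.ResidueField A) l]
    [Algebra.IsSeparable (IsLocalRing.ResidueField A) l] :
    ∃ (E : Type u) (_ : CommRing E) (_ : IsLocalRing E) (_ : Algebra A E)
      (_ : IsLocalHom (algebraMap A E)),
      Module.Finite A E ∧ Algebra.Etale A E ∧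
        Nonempty (IsLocalRing.ResidueField E ≃ₐ[IsLocalRing.ResidueField A] l) := by
  classical
  -- primitive element
  obtain ⟨α, hα⟩ := Field.exists_primitive_element (ResidueField A) l
  have hαint : IsIntegral (ResidueField A) α := Algebra.IsIntegral.isIntegral α
  set fbar : (ResidueField A)[X] := minpoly (ResidueField A) α with hfbar
  have hfmonic : fbar.Monic := minpoly.monic hαint
  have hfsep : fbar.Separable := Algebra.IsSeparable.isSeparable (ResidueField A) α
  -- lift
  obtain ⟨F, hFmap, -, hFmonic⟩ := Polynomial.lifts_and_degree_eq_and_monic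
    ((Polynomial.mem_lifts _).2 (Polynomial.map_surjective (residue A) residue_surjective fbar))
    hfmonic
  have hFsep : F.Separable :=
    Groth.Agent.Helper1.MonogenicLocal.separable_of_map_residue F hFmonic (hFmap ▸ hfsep)
  -- the algebra structure on l
  letI algAl : Algebra A l := ((algebraMap (ResidueField A) l).comp (residue A)).toAlgebra
  haveI : IsScalarTower A (ResidueField A) l := IsScalarTower.of_algebraMap_eq (fun _ => rfl)
  have hAl : ∀ a : A, algebraMap A l a = algebraMap (ResidueField A) l (residue A a) :=
    fun _ => rfl
  -- E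
  let E := A[X] ⧸ Ideal.span {F}
  have haevalF : aeval α F = 0 := by
    have h1 : aeval α F = aeval α (F.map (algebraMap A (ResidueField A))) := by
      rw [aeval_map_algebraMap]
    rw [h1]
    have : algebraMap A (ResidueField A) = residue A := rfl
    rw [this, hFmap]
    exact minpoly.aeval _ _
  have hker : ∀ a ∈ Ideal.span {F}, (aeval α : A[X] →ₐ[A] l) a = 0 := by
    intro a ha
    obtain ⟨c, rfl⟩ := Ideal.mem_span_singleton.1 ha
    rw [map_mul, haevalF, zero_mul]
  let ψ : E →ₐ[A] l := Ideal.Quotient.liftₐ _ (aeval α) hker
  have hψmk : ∀ p : A[X], ψ (Ideal.Quotient.mk _ p) = aeval α p := fun p => rfl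
  have haeval_map : ∀ p : A[X], aeval α p = aeval α (p.map (residue A)) := by
    intro p
    have : residue A = algebraMap A (ResidueField A) := rfl
    rw [this, aeval_map_algebraMap]
  have hψsurj : Function.Surjective ψ := by
    intro y
    have hy' : y ∈ Algebra.adjoin (ResidueField A) {α} := by
      have h2 : (IntermediateField.adjoin (ResidueField A) {α}).toSubalgebra =
          Algebra.adjoin (ResidueField A) {α} :=
        IntermediateField.adjoin_simple_toSubalgebra_of_isAlgebraic hαint.isAlgebraic
      have h3 : y ∈ (IntermediateField.adjoin (ResidueField A) {α}).toSubalgebra := by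
        rw [IntermediateField.mem_toSubalgebra, hα]; trivial
      rwa [h2] at h3
    rw [Algebra.adjoin_singleton_eq_range_aeval] at hy'
    obtain ⟨q, hq⟩ := hy'
    obtain ⟨p, rfl⟩ := Polynomial.map_surjective (residue A) residue_surjective q
    refine ⟨Ideal.Quotient.mk _ p, ?_⟩
    rw [hψmk, haeval_map]
    exact hq
  -- kernel
  let n : Ideal E := RingHom.ker ψ.toRingHom
  have hnmax : n.IsMaximal := RingHom.ker_isMaximal_of_surjective ψ.toRingHom hψsurj
  have hn_eq : n = Ideal.map (algebraMap A E) (maximalIdeal A) := by
    apply le_antisymm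
    · intro x hx
      obtain ⟨p, rfl⟩ := Ideal.Quotient.mk_surjective x
      have hx' : aeval α (p.map (residue A)) = 0 := by
        rw [← haeval_map, ← hψmk]
        exact hx
      obtain ⟨qbar, hq⟩ := minpoly.dvd (ResidueField A) α hx'
      obtain ⟨q, rfl⟩ := Polynomial.map_surjective (residue A) residue_surjective qbar
      have hdiff : (p - F * q).map (residue A) = 0 := by
        rw [Polynomial.map_sub, Polynomial.map_mul, hFmap, hq, sub_self]
      have hmem : p - F * q ∈ Ideal.map C (maximalIdeal A) := by
        rw [Ideal.mem_map_C_iff]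
        intro i
        have := congr(coeff $hdiff i)
        rw [coeff_map, coeff_zero] at this
        exact (residue_eq_zero_iff _).1 this
      have h1 : Ideal.Quotient.mk (Ideal.span {F}) p =
          Ideal.Quotient.mk (Ideal.span {F}) (p - F * q) := by
        rw [map_sub, map_mul]
        have : Ideal.Quotient.mk (Ideal.span {F}) F = 0 :=
          Ideal.Quotient.eq_zero_iff_mem.2 (Ideal.mem_span_singleton_self F)
        rw [this, zero_mul, sub_zero]
      rw [h1]
      have h2 : Ideal.map (algebraMap A E) (maximalIdeal A) =
          Ideal.map (Ideal.Quotient.mk (Ideal.span {F})) (Ideal.map C (maximalIdeal A)) := by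
        rw [Ideal.map_map]
        rfl
      rw [h2]
      exact Ideal.mem_map_of_mem _ hmem
    · rw [Ideal.map_le_iff_le_comap]
      intro a ha
      show ψ (algebraMap A E a) = 0
      rw [AlgHom.commutes, hAl, (residue_eq_zero_iff _).2 ha, map_zero]
  haveI hfin : Module.Finite A E := hFmonic.finite_quotient
  haveI : Algebra.IsIntegral A E := inferInstance
  haveI hloc : IsLocalRing E := by
    apply IsLocalRing.of_unique_max_ideal
    refine ⟨n, hnmax, ?_⟩
    intro n' hn'
    haveI := hn'
    have hcomap : (Ideal.comap (algebraMap A E) n').IsMaximal :=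
      Ideal.isMaximal_comap_of_isIntegral_of_isMaximal n'
    have hcm : Ideal.comap (algebraMap A E) n' = maximalIdeal A :=
      IsLocalRing.eq_maximalIdeal hcomap
    have hle : n ≤ n' := by
      rw [hn_eq, Ideal.map_le_iff_le_comap, hcm]
    exact (hnmax.eq_of_le hn'.ne_top hle).symm
  have hmaxE : maximalIdeal E = n := (IsLocalRing.eq_maximalIdeal hnmax).symm
  haveI hlochom : IsLocalHom (algebraMap A E) := by
    constructor
    intro a ha
    by_contra hna
    have ham : a ∈ maximalIdeal A := (IsLocalRing.mem_maximalIdeal a).2 hna
    have : algebraMap A E a ∈ maximalIdeal E := by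
      rw [hmaxE, hn_eq]
      exact Ideal.mem_map_of_mem _ ham
    exact ((IsLocalRing.mem_maximalIdeal _).1 this) ha
  refine ⟨E, inferInstance, hloc, inferInstance, hlochom, hfin, ?_, ?_⟩
  · haveI : Algebra.FormallyEtale A E :=
      Groth.Agent.Helper1.MonogenicLocal.formallyEtale_quotient F hFmonic hFsep
    haveI : Algebra.FinitePresentation A E :=
      Algebra.FinitePresentation.quotient ⟨{F}, by simp⟩
    exact {}
  · -- residue field iso
    have hkill : ∀ a ∈ maximalIdeal E, ψ.toRingHom a = 0 := by
      intro a ha
      rw [hmaxE] at ha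
      exact ha
    let ψbar : ResidueField E →+* l := Ideal.Quotient.lift (maximalIdeal E) ψ.toRingHom hkill
    have hψbar : ∀ x : E, ψbar (residue E x) = ψ x := fun x => rfl
    have hbij : Function.Bijective ψbar := by
      refine ⟨ψbar.injective, ?_⟩
      intro y
      obtain ⟨x, rfl⟩ := hψsurj y
      exact ⟨residue E x, hψbar x⟩
    refine ⟨AlgEquiv.ofBijective
      { ψbar with
        commutes' := by
          intro c
          obtain ⟨a, rfl⟩ := residue_surjective c
          show ψbar (algebraMap (ResidueField A) (ResidueField E) (residue A a)) = _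
          have : algebraMap (ResidueField A) (ResidueField E) (residue A a) =
              residue E (algebraMap A E a) := rfl
          rw [this, hψbar, AlgHom.commutes, hAl] } hbij⟩

end Groth.Agent.Helper8.FEtRes
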