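import Mathlib

namespace Groth.Agent.Helper8.FrobKer
open MvPolynomial

section Core
variable (k : Type*) [Field k] (p : ℕ) [Fact p.Prime] [CharP k p]

/-- The ideal generated by the `p`-th powers of the variables. -/
noncomputable def K (d : ℕ) : Ideal (MvPolynomial (Fin d) k) :=
  Ideal.span (Set.range fun i : Fin d => (X i : MvPolynomial (Fin d) k) ^ p)

variable {k}

omit [CharP k p] in
theorem exists_red (d : ℕ) (f : MvPolynomial (Fin d) k) :
    ∃ g ∈ restrictDegree (Fin d) k (p - 1), f - g ∈ K k p d := by
  have hp0 : 0 < p := (Fact.out : p.Prime).pos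
  induction f using MvPolynomial.induction_on' with
  | monomial e c =>
    by_cases h : ∀ i, e i ≤ p - 1
    · refine ⟨monomial e c, ?_, by simp⟩
      rw [mem_restrictDegree]
      intro s hs i
      have := support_monomial_subset hs
      rw [Finset.mem_singleton] at this
      subst this
      exact h i
    · push Not at h
      obtain ⟨i, hi⟩ := h
      refine ⟨0, zero_mem _, ?_⟩
      rw [sub_zero]
      have hpe : p ≤ e i := by omega
      have he : e - Finsupp.single i p + Finsupp.single i p = e := by
        ext j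
        rw [Finsupp.add_apply, Finsupp.tsub_apply, Finsupp.single_apply]
        split_ifs with hj
        · subst hj; omega
        · omega
      have : monomial e c = monomial (e - Finsupp.single i p) c * X i ^ p := by
        rw [X_pow_eq_monomial, monomial_mul, mul_one, he]
      rw [this]
      exact Ideal.mul_mem_left _ _ (Ideal.subset_span ⟨i, rfl⟩)
  | add f g hf hg =>
    obtain ⟨g1, h1, h1'⟩ := hf
    obtain ⟨g2, h2, h2'⟩ := hg
    refine ⟨g1 + g2, add_mem h1 h2, ?_⟩
    have : f + g - (g1 + g2) = (f - g1) + (g - g2) := by ring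
    rw [this]; exact add_mem h1' h2'

variable {B : Type*} [CommRing B] [Algebra k B] {d : ℕ}

omit [Fact p.Prime] [CharP k p] in
theorem chain (x : Fin d → B) (D : B →ₗ[k] B)
    (hD : ∀ a b, D (a * b) = a * D b + D a * b) (f : MvPolynomial (Fin d) k) :
    D (aeval x f) = ∑ i, aeval x (pderiv i f) * D (x i) := by
  classical
  have h1 : D 1 = 0 := by
    have := hD 1 1
    simpa using this
  induction f using MvPolynomial.induction_on with
  | C c =>
    simp [Algebra.algebraMap_eq_smul_one, h1]
  | add f g hf hg => simp [hf, hg, add_mul, Finset.sum_add_distrib]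
  | mul_X f j hf =>
    rw [map_mul, aeval_X, hD, hf]
    have : ∀ i, aeval x (pderiv i (f * X j)) * D (x i) =
        (aeval x (pderiv i f) * D (x i)) * x j + (if i = j then aeval x f * D (x j) else 0) := by
      intro i
      rw [pderiv_mul, pderiv_X, map_add, map_mul, map_mul, aeval_X]
      by_cases hij : i = j
      · subst hij; simp; ring
      · have hji : j ≠ i := fun h => hij h.symm
        simp [hij, hji]; ring
    simp_rw [this, Finset.sum_add_distrib, Finset.sum_ite_eq', Finset.mem_univ, if_true,
      Finset.sum_mul]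
    ring


omit [Fact p.Prime] [CharP k p] in
theorem K_le_ker (ε : B →ₐ[k] k) (x : Fin d → B) (hx : ∀ i, ε (x i) = 0)
    (hp : ∀ b, ε b = 0 → b ^ p = 0) :
    K k p d ≤ RingHom.ker (aeval x : MvPolynomial (Fin d) k →ₐ[k] B) := by
  rw [K, Ideal.span_le]
  rintro _ ⟨i, rfl⟩
  simp only [SetLike.mem_coe, RingHom.mem_ker, map_pow, aeval_X]
  exact hp _ (hx i)

omit [Fact p.Prime] [CharP k p] in
theorem const_case (ε : B →ₐ[k] k) (x : Fin d → B) (g : MvPolynomial (Fin d) k)
    (hg : ∀ e ∈ g.support, e = 0) (h0 : aeval x g = 0) : g = 0 := by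
  have hC : g = C (coeff 0 g) := by
    ext e
    by_cases he : e = 0
    · subst he; simp
    · rw [coeff_C, if_neg (fun h => he h.symm)]
      by_contra hne
      exact he (hg e (mem_support_iff.mpr hne))
  rw [hC] at h0 ⊢
  rw [aeval_C] at h0
  have := congrArg ε h0
  rw [AlgHom.commutes, map_zero] at this
  simp only [Algebra.algebraMap_self, RingHom.id_apply] at this
  rw [this, map_zero]

theorem red_ker (ε : B →ₐ[k] k) (x : Fin d → B) (D : Fin d → B →ₗ[k] B)
    (hp : ∀ b, ε b = 0 → b ^ p = 0)
    (hD : ∀ j a b, D j (a * b) = a * D j b + D j a * b)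
    (hDx : ∀ i j, ε (D j (x i)) = if i = j then 1 else 0) :
    ∀ n : ℕ, ∀ g ∈ restrictDegree (Fin d) k (p - 1), (∀ e ∈ g.support, e.degree < n) →
      aeval x g = 0 → g = 0 := by
  classical
  have hp0 : 0 < p := (Fact.out : p.Prime).pos
  -- the matrix
  let M : Matrix (Fin d) (Fin d) B := Matrix.of fun i j => D j (x i)
  have hM : IsUnit M := by
    rw [Matrix.isUnit_iff_isUnit_det]
    have h1 : ε (M.det - 1) = 0 := by
      rw [map_sub, map_one, AlgHom.map_det]
      have : (ε.mapMatrix M) = 1 := by
        ext i j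
        simp [M, hDx, Matrix.one_apply]
      rw [this, Matrix.det_one, sub_self]
    have h2 : IsNilpotent (M.det - 1) := ⟨p, hp _ h1⟩
    have := h2.isUnit_add_one
    rwa [sub_add_cancel] at this
  intro n
  induction n with
  | zero =>
    intro g _ hdeg _
    ext e
    rw [coeff_zero]
    by_contra hne
    exact absurd (hdeg e (mem_support_iff.mpr hne)) (Nat.not_lt_zero _)
  | succ n ih =>
    intro g hg hdeg h0
    -- all partial derivatives are killed
    have hu : ∀ i, aeval x (pderiv i g) = 0 := by
      have hv : Matrix.vecMul (fun i => aeval x (pderiv i g)) M = 0 := by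
        ext j
        have := chain x (D j) (hD j) g
        rw [h0, map_zero] at this
        simp only [Matrix.vecMul, dotProduct, M, Matrix.of_apply, Pi.zero_apply]
        exact this.symm
      have := Matrix.vecMul_injective_of_isUnit hM (hv.trans (Matrix.zero_vecMul M).symm)
      intro i
      exact congrFun this i
    have hpd : ∀ i, pderiv i g = 0 := by
      intro i
      apply ih _ _ _ (hu i)
      · rw [mem_restrictDegree]
        intro m hm j
        rw [mem_support_iff, coeff_pderiv] at hm
        have hm' : m + Finsupp.single i 1 ∈ g.support := by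
          rw [mem_support_iff]
          intro h
          rw [h, zero_mul] at hm
          exact hm rfl
        have := (mem_restrictDegree (σ := Fin d) g (p - 1)).mp hg _ hm' j
        rw [Finsupp.add_apply] at this
        omega
      · intro m hm
        rw [mem_support_iff, coeff_pderiv] at hm
        have hm' : m + Finsupp.single i 1 ∈ g.support := by
          rw [mem_support_iff]
          intro h
          rw [h, zero_mul] at hm
          exact hm rfl
        have := hdeg _ hm'
        rw [map_add, Finsupp.degree_single] at this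
        omega
    apply const_case ε x g _ h0
    intro e he
    by_contra hne
    obtain ⟨i, hi⟩ : ∃ i, e i ≠ 0 := by
      by_contra hall
      push Not at hall
      exact hne (Finsupp.ext hall)
    have hcoef := coeff_pderiv (i := i) g (e - Finsupp.single i 1)
    have he' : e - Finsupp.single i 1 + Finsupp.single i 1 = e := by
      ext j
      rw [Finsupp.add_apply, Finsupp.tsub_apply, Finsupp.single_apply]
      split_ifs with hj
      · subst hj; omega
      · omega
    rw [hpd i, coeff_zero, he'] at hcoef
    rw [mem_support_iff] at he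
    have hle := (mem_restrictDegree (σ := Fin d) g (p - 1)).mp hg e (mem_support_iff.mpr he) i
    have hcast : (((e - Finsupp.single i 1 : Fin d →₀ ℕ) i : ℕ) : k) + 1 = ((e i : ℕ) : k) := by
      rw [Finsupp.tsub_apply, Finsupp.single_eq_same, ← Nat.cast_one (R := k), ← Nat.cast_add]
      congr 1
      omega
    rw [hcast] at hcoef
    have hne0 : ((e i : ℕ) : k) ≠ 0 := by
      rw [Ne, CharP.cast_eq_zero_iff k p]
      intro hdvd
      have := Nat.le_of_dvd (Nat.pos_of_ne_zero hi) hdvd
      omega
    exact he ((mul_eq_zero.mp hcoef.symm).resolve_right hne0)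

omit [Fact p.Prime] [CharP k p] in
theorem aeval_surjective (ε : B →ₐ[k] k) (x : Fin d → B) (N : ℕ)
    (hN : (RingHom.ker ε) ^ N = ⊥) (hx : ∀ i, ε (x i) = 0)
    (hspan : ∀ a, ε a = 0 → ∃ c : Fin d → k, a - ∑ i, c i • x i ∈ (RingHom.ker ε) ^ 2) :
    Function.Surjective (aeval x : MvPolynomial (Fin d) k →ₐ[k] B) := by
  set m : Ideal B := RingHom.ker ε with hm
  set S : Subalgebra k B := (aeval x : MvPolynomial (Fin d) k →ₐ[k] B).range with hS
  have hxS : ∀ i, x i ∈ S := fun i => ⟨X i, aeval_X x i⟩
  have hxm : ∀ i, x i ∈ m := fun i => hx i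
  have step1 : ∀ n, ∀ t ∈ m ^ n, ∃ s ∈ S, t - s ∈ m ^ (n + 1) := by
    intro n
    induction n with
    | zero =>
      intro t _
      refine ⟨algebraMap k B (ε t), S.algebraMap_mem _, ?_⟩
      rw [zero_add, pow_one, hm, RingHom.mem_ker, map_sub, AlgHom.commutes]
      simp
    | succ n ih =>
      intro t ht
      rw [pow_succ'] at ht
      refine Submodule.mul_induction_on ht ?_ ?_
      · intro a ha b hb
        obtain ⟨c, hc⟩ := hspan a ha
        choose s hsS hs using fun i => ih (c i • b) (Submodule.smul_of_tower_mem _ (c i) hb)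
        refine ⟨∑ i, x i * s i, S.sum_mem fun i _ => S.mul_mem (hxS i) (hsS i), ?_⟩
        have : a * b - ∑ i, x i * s i =
            ∑ i, x i * (c i • b - s i) + (a - ∑ i, c i • x i) * b := by
          simp only [mul_sub, Finset.sum_sub_distrib, sub_mul, Finset.sum_mul]
          have : ∀ i, x i * c i • b = c i • x i * b := fun i => by
            rw [mul_smul_comm, smul_mul_assoc]
          simp_rw [this]
          ring
        rw [this]
        refine add_mem (sum_mem fun i _ => ?_) ?_
        · rw [pow_succ' m (n + 1)]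
          exact Ideal.mul_mem_mul (hxm i) (hs i)
        · have : n + 1 + 1 = 2 + n := by ring
          rw [this, pow_add]
          exact Ideal.mul_mem_mul hc hb
      · intro t t' ⟨s, hs, h⟩ ⟨s', hs', h'⟩
        refine ⟨s + s', S.add_mem hs hs', ?_⟩
        have : t + t' - (s + s') = (t - s) + (t' - s') := by ring
        rw [this]; exact add_mem h h'
  have step2 : ∀ n, ∀ b : B, ∃ s ∈ S, b - s ∈ m ^ n := by
    intro n
    induction n with
    | zero => intro b; exact ⟨0, S.zero_mem, by simp⟩
    | succ n ih =>
      intro b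
      obtain ⟨s, hs, h⟩ := ih b
      obtain ⟨s', hs', h'⟩ := step1 n _ h
      exact ⟨s + s', S.add_mem hs hs', by rwa [← sub_sub]⟩
  intro b
  obtain ⟨s, hs, h⟩ := step2 N b
  rw [hN, Ideal.mem_bot, sub_eq_zero] at h
  rw [h]
  exact hs

theorem ker_eq (ε : B →ₐ[k] k) (x : Fin d → B) (D : Fin d → B →ₗ[k] B)
    (hx : ∀ i, ε (x i) = 0)
    (hp : ∀ b, ε b = 0 → b ^ p = 0)
    (hD : ∀ j a b, D j (a * b) = a * D j b + D j a * b)
    (hDx : ∀ i j, ε (D j (x i)) = if i = j then 1 else 0) :
    RingHom.ker (aeval x : MvPolynomial (Fin d) k →ₐ[k] B) = K k p d := by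
  apply le_antisymm _ (K_le_ker p ε x hx hp)
  intro f hf
  obtain ⟨g, hg, hfg⟩ := exists_red p d f
  have hgk : aeval x g = 0 := by
    have h1 := K_le_ker p ε x hx hp hfg
    rw [RingHom.mem_ker] at hf h1
    rw [map_sub, hf, zero_sub, neg_eq_zero] at h1
    exact h1
  have : g = 0 := by
    obtain ⟨n, hn⟩ : ∃ n, ∀ e ∈ g.support, e.degree < n := by
      refine ⟨g.support.sup (fun e => e.degree) + 1, fun e he => ?_⟩
      exact Nat.lt_succ_of_le (Finset.le_sup (f := fun e : Fin d →₀ ℕ => e.degree) he)
    exact red_ker p ε x D hp hD hDx n g hg hn hgk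
  rw [this, sub_zero] at hfg
  exact hfg

theorem core (ε : B →ₐ[k] k) (x : Fin d → B) (D : Fin d → B →ₗ[k] B)
    (N : ℕ) (hN : (RingHom.ker ε) ^ N = ⊥)
    (hx : ∀ i, ε (x i) = 0)
    (hspan : ∀ a, ε a = 0 → ∃ c : Fin d → k, a - ∑ i, c i • x i ∈ (RingHom.ker ε) ^ 2)
    (hp : ∀ b, ε b = 0 → b ^ p = 0)
    (hD : ∀ j a b, D j (a * b) = a * D j b + D j a * b)
    (hDx : ∀ i j, ε (D j (x i)) = if i = j then 1 else 0) :
    Nonempty (B ≃ₐ[k] (MvPolynomial (Fin d) k ⧸ K k p d)) := by
  have hs := aeval_surjective ε x N hN hx hspan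
  have hk := ker_eq p ε x D hx hp hD hDx
  exact ⟨((Ideal.quotientEquivAlgOfEq k hk).symm.trans
    (Ideal.quotientKerAlgEquivOfSurjective hs)).symm⟩

end Core
end Groth.Agent.Helper8.FrobKer
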