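import Mathlib
import Groth.Agent.Helper8.FrobKer1

namespace Groth.Agent.Helper8.FrobKer
open TensorProduct

section Bialg
variable {k : Type*} [Field k] {A : Type*} [CommRing A] [Bialgebra k A]

/-- `T δ (u ⊗ v) = δ v • u`. -/
noncomputable def T (δ : A →ₗ[k] k) : A ⊗[k] A →ₗ[k] A :=
  (TensorProduct.rid k A).toLinearMap ∘ₗ LinearMap.lTensor A δ

@[simp] lemma T_tmul (δ : A →ₗ[k] k) (u v : A) : T δ (u ⊗ₜ[k] v) = δ v • u := by
  simp [T]

/-- The invariant operator attached to a functional. -/
noncomputable def invDer (δ : A →ₗ[k] k) : A →ₗ[k] A := T δ ∘ₗ Coalgebra.comul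

lemma T_mul (δ : A →ₗ[k] k)
    (hδ : ∀ a b, δ (a * b) = Coalgebra.counit (R := k) a * δ b + δ a * Coalgebra.counit (R := k) b)
    (z w : A ⊗[k] A) :
    T δ (z * w) = T (Coalgebra.counit (R := k) (A := A)) z * T δ w
      + T δ z * T (Coalgebra.counit (R := k) (A := A)) w := by
  induction z using TensorProduct.induction_on with
  | zero => simp
  | add z1 z2 h1 h2 => simp only [add_mul, map_add, h1, h2]; ring
  | tmul u v =>
    induction w using TensorProduct.induction_on with
    | zero => simp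
    | add w1 w2 h1 h2 => simp only [mul_add, map_add, h1, h2]; ring
    | tmul u' v' =>
      simp only [Algebra.TensorProduct.tmul_mul_tmul, T_tmul, hδ]
      simp only [Algebra.smul_def, map_add, map_mul]
      ring

lemma T_counit_comul (a : A) : T (Coalgebra.counit (R := k) (A := A)) (Coalgebra.comul a) = a := by
  rw [T, LinearMap.comp_apply, Coalgebra.lTensor_counit_comul]
  simp

lemma invDer_mul (δ : A →ₗ[k] k)
    (hδ : ∀ a b, δ (a * b) = Coalgebra.counit (R := k) a * δ b + δ a * Coalgebra.counit (R := k) b)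
    (a b : A) : invDer δ (a * b) = a * invDer δ b + invDer δ a * b := by
  simp only [invDer, LinearMap.comp_apply, Bialgebra.comul_mul, T_mul δ hδ, T_counit_comul]

lemma counit_T (δ : A →ₗ[k] k) (z : A ⊗[k] A) :
    Coalgebra.counit (R := k) (T δ z) =
      δ (TensorProduct.lid k A (LinearMap.rTensor A (Coalgebra.counit (R := k) (A := A)) z)) := by
  induction z using TensorProduct.induction_on with
  | zero => simp
  | add z1 z2 h1 h2 => simp only [map_add, h1, h2]
  | tmul u v => simp [mul_comm]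

lemma counit_invDer (δ : A →ₗ[k] k) (a : A) : Coalgebra.counit (R := k) (invDer δ a) = δ a := by
  rw [invDer, LinearMap.comp_apply, counit_T, Coalgebra.rTensor_counit_comul]
  simp


variable (I : Ideal A) (hI : ∀ a : A, a ∈ I ↔ Coalgebra.counit (R := k) a = 0)

include hI in
lemma sub_counit_mem (a : A) : a - algebraMap k A (Coalgebra.counit (R := k) a) ∈ I := by
  rw [hI, map_sub, Bialgebra.counit_algebraMap]
  simp

/-- the projection `a ↦ a - ε(a)` onto the augmentation ideal -/
noncomputable def proj : A →ₗ[k] I where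
  toFun a := ⟨a - algebraMap k A (Coalgebra.counit (R := k) a), sub_counit_mem I hI a⟩
  map_add' a b := by
    ext
    simp only [map_add, Submodule.coe_add]
    ring
  map_smul' c a := by
    ext
    simp only [RingHom.id_apply, Submodule.coe_smul_of_tower, Algebra.smul_def,
      Bialgebra.counit_mul, Bialgebra.counit_algebraMap, map_mul]
    ring

lemma proj_coe (a : A) : (proj I hI a : A) = a - algebraMap k A (Coalgebra.counit (R := k) a) := rfl

lemma proj_of_mem (a : A) (ha : a ∈ I) : proj I hI a = ⟨a, ha⟩ := by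
  ext
  rw [proj_coe, (hI a).mp ha, map_zero, sub_zero]

/-- the `ε`-derivation attached to a functional on the cotangent space -/
noncomputable def delta (ℓ : I.Cotangent →ₗ[k] k) : A →ₗ[k] k :=
  ℓ ∘ₗ (I.toCotangent.restrictScalars k) ∘ₗ proj I hI

lemma delta_mul (ℓ : I.Cotangent →ₗ[k] k) (a b : A) :
    delta I hI ℓ (a * b) = Coalgebra.counit (R := k) a * delta I hI ℓ b
      + delta I hI ℓ a * Coalgebra.counit (R := k) b := by
  have key : proj I hI (a * b) = (⟨(proj I hI a : A) * (proj I hI b : A),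
      I.mul_mem_left _ (proj I hI b).2⟩ : I) + Coalgebra.counit (R := k) a • proj I hI b
      + Coalgebra.counit (R := k) b • proj I hI a := by
    ext
    simp only [proj_coe, Submodule.coe_add, Submodule.coe_smul_of_tower, Algebra.smul_def,
      Bialgebra.counit_mul, map_mul]
    ring
  have hz : I.toCotangent (⟨(proj I hI a : A) * (proj I hI b : A),
      I.mul_mem_left _ (proj I hI b).2⟩ : I) = 0 := by
    rw [Ideal.toCotangent_eq_zero, pow_two]
    exact Ideal.mul_mem_mul (proj I hI a).2 (proj I hI b).2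
  simp only [delta, LinearMap.comp_apply, key, map_add, LinearMap.restrictScalars_apply, hz,
    zero_add, map_smul, smul_eq_mul]
  ring


include hI in
theorem exists_data [Module.Finite k A] (d : ℕ) (hd : Module.finrank k I.Cotangent = d) :
    ∃ (x : Fin d → A) (D : Fin d → A →ₗ[k] A),
      (∀ i, Coalgebra.counit (R := k) (x i) = 0) ∧
      (∀ a, Coalgebra.counit (R := k) a = 0 → ∃ c : Fin d → k, a - ∑ i, c i • x i ∈ I ^ 2) ∧
      (∀ j a b, D j (a * b) = a * D j b + D j a * b) ∧
      (∀ i j, Coalgebra.counit (R := k) (D j (x i)) = if i = j then 1 else 0) := by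
  have : Module.Finite k I :=
    Module.Finite.of_injective (I.subtype.restrictScalars k) Subtype.val_injective
  have : Module.Finite k I.Cotangent :=
    Module.Finite.of_surjective (I.toCotangent.restrictScalars k) I.toCotangent_surjective
  let b : Module.Basis (Fin d) k I.Cotangent := Module.finBasisOfFinrankEq k _ hd
  choose y hy using fun i => I.toCotangent_surjective (b i)
  refine ⟨fun i => (y i : A), fun j => invDer (delta I hI (b.coord j)),
    fun i => (hI _).mp (y i).2, ?_, fun j a b' => invDer_mul _ (delta_mul I hI _) a b', ?_⟩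
  · intro a ha
    have haI : a ∈ I := (hI a).mpr ha
    refine ⟨fun i => b.repr (I.toCotangent ⟨a, haI⟩) i, ?_⟩
    have : I.toCotangent (⟨a, haI⟩ - ∑ i, b.repr (I.toCotangent ⟨a, haI⟩) i • y i) = 0 := by
      rw [map_sub, map_sum]
      simp_rw [LinearMap.map_smul_of_tower, hy]
      rw [b.sum_repr, sub_self]
    rw [Ideal.toCotangent_eq_zero] at this
    simpa using this
  · intro i j
    rw [counit_invDer, delta, LinearMap.comp_apply, LinearMap.comp_apply,
      proj_of_mem I hI _ (y i).2]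
    simp [hy, Finsupp.single_apply]

end Bialg

section Quot
variable {k : Type*} [Field k] (p : ℕ) [Fact p.Prime] [CharP k p]
variable {A : Type*} [CommRing A] [Algebra k A]

/-- descend a `k`-linear endomorphism preserving an ideal to the quotient -/
noncomputable def quotMap (J : Ideal A) (D : A →ₗ[k] A) (h : ∀ a ∈ J, D a ∈ J) :
    (A ⧸ J) →ₗ[k] (A ⧸ J) :=
  (Submodule.Quotient.restrictScalarsEquiv k J).toLinearMap ∘ₗ
    (Submodule.mapQ (J.restrictScalars k) (J.restrictScalars k) D (fun a ha => h a ha)) ∘ₗ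
    (Submodule.Quotient.restrictScalarsEquiv k J).symm.toLinearMap

lemma quotMap_mk (J : Ideal A) (D : A →ₗ[k] A) (h : ∀ a ∈ J, D a ∈ J) (a : A) :
    quotMap J D h (Ideal.Quotient.mk J a) = Ideal.Quotient.mk J (D a) := rfl

omit [Fact p.Prime] in
lemma leib_pow (D : A →ₗ[k] A) (hD : ∀ a b, D (a * b) = a * D b + D a * b) (a : A) (n : ℕ) :
    D (a ^ (n + 1)) = ((n + 1 : ℕ) : A) * a ^ n * D a := by
  induction n with
  | zero => simp
  | succ n ih =>
    rw [pow_succ, hD, ih]
    push_cast
    ring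

omit [Fact p.Prime] in
lemma natCast_p_eq_zero (k : Type*) [Field k] (p : ℕ) [CharP k p] (A : Type*) [CommRing A]
    [Algebra k A] : ((p : ℕ) : A) = 0 := by
  rw [← map_natCast (algebraMap k A), CharP.cast_eq_zero, map_zero]

lemma D_pow_p (D : A →ₗ[k] A) (hD : ∀ a b, D (a * b) = a * D b + D a * b) (a : A) :
    D (a ^ p) = 0 := by
  have hp0 : 0 < p := (Fact.out : p.Prime).pos
  obtain ⟨n, rfl⟩ : ∃ n, p = n + 1 := ⟨p - 1, by omega⟩
  rw [leib_pow D hD, natCast_p_eq_zero k (n + 1) A, zero_mul, zero_mul]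

theorem quot_core (ε : A →ₐ[k] k) {d : ℕ} (x : Fin d → A) (D : Fin d → A →ₗ[k] A)
    (N : ℕ) (hN : (RingHom.ker ε) ^ N = ⊥)
    (hx : ∀ i, ε (x i) = 0)
    (hspan : ∀ a, ε a = 0 → ∃ c : Fin d → k, a - ∑ i, c i • x i ∈ (RingHom.ker ε) ^ 2)
    (hD : ∀ j a b, D j (a * b) = a * D j b + D j a * b)
    (hDx : ∀ i j, ε (D j (x i)) = if i = j then 1 else 0)
    (J : Ideal A) (hJ : J = Ideal.span ((fun a : A => a ^ p) '' {a | ε a = 0})) :
    Nonempty ((A ⧸ J) ≃ₐ[k] (MvPolynomial (Fin d) k ⧸ K k p d)) := by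
  have hp0 : 0 < p := (Fact.out : p.Prime).pos
  have hJε : ∀ a ∈ J, ε a = 0 := by
    intro a ha
    have : J ≤ RingHom.ker ε := by
      rw [hJ, Ideal.span_le]
      rintro _ ⟨a, ha, rfl⟩
      simp only [SetLike.mem_coe, RingHom.mem_ker, map_pow]
      rw [ha, zero_pow hp0.ne']
    exact this ha
  have hDJ : ∀ j, ∀ a ∈ J, D j a ∈ J := by
    intro j a ha
    rw [hJ] at ha ⊢
    refine Submodule.span_induction ?_ ?_ ?_ ?_ ha
    · rintro _ ⟨a, _, rfl⟩
      rw [D_pow_p p (D j) (hD j)]
      exact zero_mem _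
    · rw [map_zero]; exact zero_mem _
    · intro y z _ _ hy hz
      rw [map_add]; exact add_mem hy hz
    · intro c y hy hDy
      rw [smul_eq_mul, hD]
      exact add_mem (Ideal.mul_mem_left _ _ hDy) (Ideal.mul_mem_left _ _ hy)
  let ε' : (A ⧸ J) →ₐ[k] k := Ideal.Quotient.liftₐ J ε hJε
  have hε' : ∀ a, ε' (Ideal.Quotient.mk J a) = ε a := fun a => rfl
  let D' : Fin d → (A ⧸ J) →ₗ[k] (A ⧸ J) := fun j => quotMap J (D j) (hDJ j)
  have hmap_le : Ideal.map (Ideal.Quotient.mk J) (RingHom.ker ε) ≤ RingHom.ker ε' := by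
    rw [Ideal.map_le_iff_le_comap]
    intro a ha
    rw [Ideal.mem_comap, RingHom.mem_ker, hε']
    exact ha
  have hle_map : RingHom.ker ε' ≤ Ideal.map (Ideal.Quotient.mk J) (RingHom.ker ε) := by
    intro b hb
    obtain ⟨a, rfl⟩ := Ideal.Quotient.mk_surjective b
    rw [RingHom.mem_ker, hε'] at hb
    exact Ideal.mem_map_of_mem _ hb
  refine core p ε' (fun i => Ideal.Quotient.mk J (x i)) D' N ?_ (fun i => hx i) ?_ ?_ ?_ ?_
  · rw [eq_bot_iff]
    refine (Ideal.pow_right_mono hle_map N).trans ?_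
    rw [← Ideal.map_pow, hN, Ideal.map_bot]
  · intro b hb
    obtain ⟨a, rfl⟩ := Ideal.Quotient.mk_surjective b
    rw [hε'] at hb
    obtain ⟨c, hc⟩ := hspan a hb
    refine ⟨c, ?_⟩
    have h1 := Ideal.mem_map_of_mem (Ideal.Quotient.mk J) hc
    rw [Ideal.map_pow] at h1
    have h2 := Ideal.pow_right_mono hmap_le 2 h1
    have h3 : (Ideal.Quotient.mk J) (a - ∑ i, c i • x i) =
        (Ideal.Quotient.mk J) a - ∑ i, c i • (Ideal.Quotient.mk J) (x i) := by
      rw [map_sub, map_sum]
      congr 1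
    rw [← h3]
    exact h2
  · intro b hb
    obtain ⟨a, rfl⟩ := Ideal.Quotient.mk_surjective b
    rw [hε'] at hb
    rw [← map_pow, Ideal.Quotient.eq_zero_iff_mem, hJ]
    exact Ideal.subset_span ⟨a, hb, rfl⟩
  · intro j b b'
    obtain ⟨a, rfl⟩ := Ideal.Quotient.mk_surjective b
    obtain ⟨a', rfl⟩ := Ideal.Quotient.mk_surjective b'
    simp only [D', ← map_mul, quotMap_mk, hD, map_add]
  · intro i j
    simp only [D', quotMap_mk, hε', hDx]

end Quot


universe u

theorem main (k : Type u) [Field k] (p : ℕ) [Fact p.Prime] [CharP k p]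
    (A : Type u) [CommRing A] [HopfAlgebra k A] [FiniteDimensional k A] [IsLocalRing A]
    (d : ℕ) (hd : Module.finrank k
      (RingHom.ker (Bialgebra.counitAlgHom k A).toRingHom).Cotangent = d) :
    Nonempty ((A ⧸ Ideal.span ((fun a : A => a ^ p) ''
      (RingHom.ker (Bialgebra.counitAlgHom k A).toRingHom : Set A))) ≃ₐ[k]
      (MvPolynomial (Fin d) k ⧸ Ideal.span (Set.range fun i : Fin d =>
        (MvPolynomial.X i : MvPolynomial (Fin d) k) ^ p))) := by
  set I := RingHom.ker (Bialgebra.counitAlgHom k A).toRingHom with hIdef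
  have hI : ∀ a : A, a ∈ I ↔ Coalgebra.counit (R := k) a = 0 := fun a => Iff.rfl
  obtain ⟨x, D, hx, hspan, hD, hDx⟩ := exists_data I hI d hd
  have hsurj : Function.Surjective (Bialgebra.counitAlgHom k A).toRingHom := fun c =>
    ⟨algebraMap k A c, by simp⟩
  have hmax : I.IsMaximal := RingHom.ker_isMaximal_of_surjective _ hsurj
  have hIeq : I = IsLocalRing.maximalIdeal A := IsLocalRing.eq_maximalIdeal hmax
  obtain ⟨N, hN⟩ : ∃ N, I ^ N = ⊥ := by
    have hart : IsArtinianRing A := IsArtinianRing.of_finite k A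
    have := IsArtinianRing.isNilpotent_jacobson_bot (R := A)
    rw [IsLocalRing.jacobson_eq_maximalIdeal ⊥ bot_ne_top, ← hIeq] at this
    exact this
  exact quot_core p (Bialgebra.counitAlgHom k A) x D N hN hx hspan hD hDx _ rfl

end Groth.Agent.Helper8.FrobKer
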