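import Mathlib

set_option autoImplicit false
universe u
open TensorProduct

namespace Groth.Agent.Helper8.PiVal

variable {J : Type u} (A : J → Type u) [∀ j, CommRing (A j)] [∀ j, IsDomain (A j)]

theorem nonZeroDivisors_pi :
    Submonoid.pi Set.univ (fun j => nonZeroDivisors (A j)) = nonZeroDivisors (∀ j, A j) := by
  classical
  ext a
  simp only [Submonoid.mem_pi, Set.mem_univ, forall_const]
  constructor
  · intro h
    rw [mem_nonZeroDivisors_iff_right]
    intro x hx
    funext j
    exact (mem_nonZeroDivisors_iff_right.mp (h j)) _ (congr_fun hx j)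
  · intro h j
    rw [mem_nonZeroDivisors_iff_right]
    intro y hy
    have := (mem_nonZeroDivisors_iff_right.mp h) (Pi.single j y) (by
      funext k
      by_cases hk : k = j
      · subst hk; simpa using hy
      · simp [Pi.single_eq_of_ne hk])
    simpa using congr_fun this j

theorem isLocalization_pi (K : J → Type u) [∀ j, Field (K j)] [∀ j, Algebra (A j) (K j)]
    [∀ j, IsFractionRing (A j) (K j)] :
    IsLocalization (nonZeroDivisors (∀ j, A j)) (∀ j, K j) := by
  rw [← nonZeroDivisors_pi]
  infer_instance

variable [∀ j, ValuationRing (A j)]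

theorem pair_principal (a b : ∀ j, A j) : (Ideal.span {a, b}).IsPrincipal := by
  classical
  let T : Set J := {j | a j ∣ b j}
  let e : ∀ j, A j := fun j => if j ∈ T then 1 else 0
  let d : ∀ j, A j := fun j => if j ∈ T then a j else b j
  have hd : d = e * a + (1 - e) * b := by
    funext j
    by_cases hj : j ∈ T <;> simp [d, e, hj]
  have hb : ∀ j, j ∈ T → ∃ c, b j = c * a j := fun j hj => by
    obtain ⟨c, hc⟩ := (hj : a j ∣ b j); exact ⟨c, by rw [hc, mul_comm]⟩
  have ha : ∀ j, j ∉ T → ∃ c, a j = c * b j := fun j hj => by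
    have : b j ∣ a j := (ValuationRing.dvd_total (a j) (b j)).resolve_left hj
    obtain ⟨c, hc⟩ := this; exact ⟨c, by rw [hc, mul_comm]⟩
  refine ⟨d, ?_⟩
  apply le_antisymm
  · rw [Ideal.span_le]
    rintro x (rfl | rfl)
    · rw [Ideal.submodule_span_eq, SetLike.mem_coe, Ideal.mem_span_singleton']
      refine ⟨fun j => if hj : j ∈ T then 1 else (ha j hj).choose, ?_⟩
      funext j
      by_cases hj : j ∈ T
      · simp [d, hj]
      · simp only [Pi.mul_apply, d, hj, dite_false, if_false]
        exact (ha j hj).choose_spec.symm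
    · rw [Ideal.submodule_span_eq, SetLike.mem_coe, Ideal.mem_span_singleton']
      refine ⟨fun j => if hj : j ∈ T then (hb j hj).choose else 1, ?_⟩
      funext j
      by_cases hj : j ∈ T
      · simp only [Pi.mul_apply, d, hj, dite_true, if_true]
        exact (hb j hj).choose_spec.symm
      · simp [d, hj]
  · rw [Ideal.submodule_span_eq, Ideal.span_le, Set.singleton_subset_iff, hd]
    exact add_mem (Ideal.mul_mem_left _ _ (Ideal.subset_span (by simp)))
      (Ideal.mul_mem_left _ _ (Ideal.subset_span (by simp)))

instance isBezout_pi : IsBezout (∀ j, A j) :=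
  IsBezout.iff_span_pair_isPrincipal.mpr (pair_principal A)

end Groth.Agent.Helper8.PiVal
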