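import Mathlib

set_option autoImplicit false
universe u v w

namespace Groth.Agent.Helper8.PGroupFlag

open Module Submodule

section
variable {k : Type u} [Field k] (p : ℕ) [Fact p.Prime] [CharP k p]
variable {G : Type v} [Group G] [Finite G]

/-- A `p`-group acting linearly on a nontrivial vector space in characteristic `p` has a nonzero
fixed vector. -/
theorem exists_fixed (hG : IsPGroup p G) {V : Type w} [AddCommGroup V] [Module k V]
    (ρ : G →* (V →ₗ[k] V)) [Nontrivial V] :
    ∃ v : V, v ≠ 0 ∧ ∀ σ, ρ σ v = v := by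
  classical
  cases nonempty_fintype G
  haveI : NeZero p := ⟨(Fact.out : p.Prime).ne_zero⟩
  obtain ⟨v₀, hv₀⟩ := exists_ne (0 : V)
  let cast : ZMod p →+* k := ZMod.castHom (dvd_refl p) k
  let φ : (G → ZMod p) →+ V :=
    { toFun := fun c => ∑ σ, cast (c σ) • ρ σ v₀
      map_zero' := by simp
      map_add' := by
        intro c d
        simp [add_smul, Finset.sum_add_distrib] }
  have hφ : ∀ c, φ c = ∑ σ, cast (c σ) • ρ σ v₀ := fun c => rfl
  let W : AddSubgroup V := φ.range
  have hstab : ∀ (σ : G) (w : V), w ∈ W → ρ σ w ∈ W := by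
    rintro σ _ ⟨c, rfl⟩
    refine ⟨fun τ => c (σ⁻¹ * τ), ?_⟩
    rw [hφ, hφ, map_sum]
    refine (Fintype.sum_equiv (Equiv.mulLeft σ) _ _ (fun τ => ?_)).symm
    simp only [Equiv.coe_mulLeft, inv_mul_cancel_left, map_smul, map_mul, Module.End.mul_apply]
  have hv₀W : v₀ ∈ W := by
    refine ⟨Pi.single 1 1, ?_⟩
    rw [hφ, Finset.sum_eq_single (1 : G)]
    · simp
    · intro σ _ hσ
      simp [Pi.single_eq_of_ne hσ]
    · intro h
      exact absurd (Finset.mem_univ _) h
  letI act : MulAction G W :=
    { smul := fun σ w => ⟨ρ σ w.1, hstab σ w.1 w.2⟩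
      one_smul := fun w => Subtype.ext (by
        change ρ 1 w.1 = w.1
        simp)
      mul_smul := fun σ τ w => Subtype.ext (by
        change ρ (σ * τ) w.1 = ρ σ (ρ τ w.1)
        simp [map_mul]) }
  have hsmul : ∀ (σ : G) (w : W), ((σ • w : W) : V) = ρ σ w.1 := fun σ w => rfl
  haveI : Finite W := by
    have : Finite (Set.range φ) := Set.finite_range φ
    exact this
  have hcard : p ∣ Nat.card W := by
    have h1 : Nat.card W ∣ Nat.card (G → ZMod p) := AddSubgroup.card_range_dvd φ
    have h2 : Nat.card (G → ZMod p) = p ^ Fintype.card G := by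
      rw [Nat.card_eq_fintype_card, Fintype.card_fun, ZMod.card]
    rw [h2] at h1
    obtain ⟨j, _, hj⟩ := (Nat.dvd_prime_pow (Fact.out : p.Prime)).mp h1
    rcases Nat.eq_zero_or_pos j with h0 | hpos
    · exfalso
      rw [h0, pow_zero] at hj
      have hsub : Subsingleton W := (Nat.card_eq_one_iff_unique.mp hj).1
      have : (⟨v₀, hv₀W⟩ : W) = 0 := Subsingleton.elim _ _
      exact hv₀ (congrArg Subtype.val this)
    · rw [hj]
      exact dvd_pow_self p hpos.ne'
  have h0fix : (0 : W) ∈ MulAction.fixedPoints G W := by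
    intro σ
    apply Subtype.ext
    rw [hsmul]
    simp
  obtain ⟨b, hb, hb0⟩ := hG.exists_fixed_point_of_prime_dvd_card_of_fixed_point (α := W) hcard h0fix
  refine ⟨b.1, ?_, ?_⟩
  · intro h
    apply hb0
    apply Subtype.ext
    exact h.symm
  · intro σ
    have := hb σ
    rw [← hsmul, this]

/-- lifting membership in spans along `mkQ` -/
lemma mem_span_sup_of_mkQ_mem {V : Type w} [AddCommGroup V] [Module k V] (L : Submodule k V)
    (S : Set V) (x : V) (hx : L.mkQ x ∈ span k (L.mkQ '' S)) : x ∈ span k S ⊔ L := by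
  rw [← Submodule.map_span] at hx
  obtain ⟨y, hy, hyx⟩ := hx
  have hxy : x - y ∈ L := by
    rw [← Submodule.Quotient.mk_eq_zero, Submodule.Quotient.mk_sub]
    change L.mkQ x - L.mkQ y = 0
    rw [hyx, sub_self]
  have : x = y + (x - y) := by abel
  rw [this]
  exact Submodule.add_mem_sup hy hxy

theorem flag (hG : IsPGroup p G) : ∀ (n : ℕ) (V : Type w) [AddCommGroup V] [Module k V]
    [FiniteDimensional k V] (ρ : G →* (V →ₗ[k] V)), finrank k V = n →
    ∃ b : Fin n → V, span k (Set.range b) = ⊤ ∧
      ∀ (σ : G) (i : Fin n), ρ σ (b i) - b i ∈ span k (b '' {j | j < i}) := by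
  intro n
  induction n with
  | zero =>
    intro V _ _ _ ρ hV
    haveI : Subsingleton V := Module.finrank_zero_iff.mp hV
    exact ⟨Fin.elim0, Subsingleton.elim _ _, fun σ i => Fin.elim0 i⟩
  | succ n ih =>
    intro V _ _ _ ρ hV
    haveI : Nontrivial V := Module.nontrivial_of_finrank_pos (R := k) (by omega)
    obtain ⟨v, hv0, hv⟩ := exists_fixed p hG ρ
    set L : Submodule k V := span k {v} with hL
    have hLs : ∀ σ, L ≤ L.comap (ρ σ) := by
      intro σ
      rw [hL, span_le]
      intro x hx
      rw [Set.mem_singleton_iff] at hx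
      subst hx
      change ρ σ x ∈ span k {x}
      rw [hv]
      exact subset_span rfl
    let ρ' : G →* ((V ⧸ L) →ₗ[k] (V ⧸ L)) :=
      { toFun := fun σ => L.mapQ L (ρ σ) (hLs σ)
        map_one' := by
          apply Submodule.linearMap_qext
          ext x
          simp
        map_mul' := by
          intro σ τ
          apply Submodule.linearMap_qext
          ext x
          simp [map_mul] }
    have hρ' : ∀ σ x, ρ' σ (L.mkQ x) = L.mkQ (ρ σ x) := fun σ x => rfl
    have hfr : finrank k (V ⧸ L) = n := by
      have h1 := Submodule.finrank_quotient_add_finrank L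
      have h2 : finrank k L = 1 := finrank_span_singleton hv0
      omega
    obtain ⟨b', hb'span, hb'tri⟩ := ih (V ⧸ L) ρ' hfr
    choose b'' hb'' using fun i => Submodule.mkQ_surjective L (b' i)
    refine ⟨Fin.cons v b'', ?_, ?_⟩
    · rw [eq_top_iff]
      intro x _
      have hx : L.mkQ x ∈ span k (L.mkQ '' Set.range b'') := by
        have : L.mkQ '' Set.range b'' = Set.range b' := by
          rw [← Set.range_comp]
          congr 1
          funext i
          exact hb'' i
        rw [this, hb'span]
        trivial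
      have h1 := mem_span_sup_of_mkQ_mem L _ x hx
      suffices hle : span k (Set.range b'') ⊔ L ≤ span k (Set.range (Fin.cons v b'' : Fin (n + 1) → V)) from
        hle h1
      refine sup_le (span_mono ?_) ?_
      · rintro _ ⟨i, rfl⟩
        exact ⟨i.succ, by simp⟩
      · rw [hL]
        apply span_mono
        rintro _ rfl
        exact ⟨0, by simp⟩
    · intro σ i
      refine Fin.cases ?_ (fun j => ?_) i
      · simp only [Fin.cons_zero]
        rw [hv, sub_self]
        exact zero_mem _
      · simp only [Fin.cons_succ]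
        have hx : L.mkQ (ρ σ (b'' j) - b'' j) ∈ span k (L.mkQ '' (b'' '' {l | l < j})) := by
          have : L.mkQ '' (b'' '' {l | l < j}) = b' '' {l | l < j} := by
            rw [Set.image_image]
            apply Set.image_congr
            intro l _
            exact hb'' l
          rw [this, map_sub, ← hρ', hb'']
          exact hb'tri σ j
        have h1 := mem_span_sup_of_mkQ_mem L _ _ hx
        suffices hle : span k (b'' '' {l | l < j}) ⊔ L ≤
            span k ((Fin.cons v b'' : Fin (n + 1) → V) '' {l | l < j.succ}) from hle h1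
        refine sup_le (span_mono ?_) ?_
        · rintro _ ⟨l, hl, rfl⟩
          refine ⟨l.succ, ?_, by simp⟩
          exact Fin.succ_lt_succ_iff.mpr hl
        · rw [hL]
          apply span_mono
          rintro _ rfl
          exact ⟨0, Fin.succ_pos j, by simp⟩

theorem span_twist {V : Type w} [AddCommGroup V] [Module k V] (ρ : G →* (V →ₗ[k] V)) {n : ℕ}
    (b : Fin n → V) (hspan : span k (Set.range b) = ⊤)
    (htri : ∀ (σ : G) (i : Fin n), ρ σ (b i) - b i ∈ span k (b '' {j | j < i}))
    (τ : Fin n → G) :
    span k (Set.range fun i => ρ (τ i) (b i)) = ⊤ := by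
  set S := span k (Set.range fun i => ρ (τ i) (b i)) with hS
  have key : ∀ (m : ℕ) (i : Fin n), i.val = m → b i ∈ S := by
    intro m
    induction m using Nat.strong_induction_on with
    | _ m ih =>
      intro i hi
      have h1 : ρ (τ i) (b i) ∈ S := subset_span ⟨i, rfl⟩
      have h2 : ρ (τ i) (b i) - b i ∈ S := by
        refine (span_le.mpr ?_) (htri (τ i) i)
        rintro _ ⟨j, hj, rfl⟩
        exact ih j.val (by rw [← hi]; exact hj) j rfl
      have : b i = ρ (τ i) (b i) - (ρ (τ i) (b i) - b i) := by abel
      rw [this]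
      exact S.sub_mem h1 h2
  rw [eq_top_iff, ← hspan, span_le]
  rintro _ ⟨i, rfl⟩
  exact key i.val i rfl

end

end Groth.Agent.Helper8.PGroupFlag
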