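import Mathlib
import Groth.Agent.Helper8.PGroupFlag

set_option autoImplicit false
universe u v

namespace Groth.Agent.Helper8.AdmSys

open IsLocalRing

variable {A : Type u} [CommRing A] [IsLocalRing A]
variable {G : Type v} [Group G] [MulSemiringAction G A]

lemma smul_mem_max (σ : G) {x : A} (hx : x ∈ maximalIdeal A) : σ • x ∈ maximalIdeal A := by
  rw [mem_maximalIdeal, mem_nonunits_iff] at hx ⊢
  intro hu
  apply hx
  have := hu.map (MulSemiringAction.toRingHom G A σ⁻¹)
  simpa using this

lemma max_smul_cot (r : A) (hr : r ∈ maximalIdeal A) (y : CotangentSpace A) : r • y = 0 := by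
  obtain ⟨z, rfl⟩ := (maximalIdeal A).toCotangent_surjective y
  rw [← map_smul, Ideal.toCotangent_eq_zero]
  change r * (z : A) ∈ maximalIdeal A ^ 2
  rw [pow_two]
  exact Ideal.mul_mem_mul hr z.2

/-- the `A`-linear map `m → m/m²`, `x ↦ [σ x]` -/
noncomputable def fσ (hres : ∀ (σ : G) (a : A), σ • a - a ∈ maximalIdeal A) (σ : G) :
    maximalIdeal A →ₗ[A] CotangentSpace A where
  toFun x := (maximalIdeal A).toCotangent ⟨σ • (x : A), smul_mem_max σ x.2⟩
  map_add' x y := by
    rw [← map_add]
    congr 1
    apply Subtype.ext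
    simp [smul_add]
  map_smul' a x := by
    simp only [RingHom.id_apply]
    have h1 : (⟨σ • ((a • x : maximalIdeal A) : A), smul_mem_max σ (a • x).2⟩ : maximalIdeal A) =
        (σ • a) • (⟨σ • (x : A), smul_mem_max σ x.2⟩ : maximalIdeal A) := by
      apply Subtype.ext
      simp [smul_mul']
    rw [h1, map_smul]
    have h2 := max_smul_cot (σ • a - a) (hres σ a)
      ((maximalIdeal A).toCotangent ⟨σ • (x : A), smul_mem_max σ x.2⟩)
    rw [sub_smul, sub_eq_zero] at h2
    exact h2

lemma fσ_apply (hres : ∀ (σ : G) (a : A), σ • a - a ∈ maximalIdeal A) (σ : G)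
    (x : maximalIdeal A) :
    fσ hres σ x = (maximalIdeal A).toCotangent ⟨σ • (x : A), smul_mem_max σ x.2⟩ := rfl

lemma fσ_le (hres : ∀ (σ : G) (a : A), σ • a - a ∈ maximalIdeal A) (σ : G) :
    (maximalIdeal A • ⊤ : Submodule A (maximalIdeal A)) ≤ LinearMap.ker (fσ hres σ) := by
  rw [Submodule.smul_le]
  intro r hr x _
  rw [LinearMap.mem_ker, map_smul]
  exact max_smul_cot r hr _

/-- the induced `A`-linear endomorphism of the cotangent space -/
noncomputable def ρA (hres : ∀ (σ : G) (a : A), σ • a - a ∈ maximalIdeal A) (σ : G) :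
    CotangentSpace A →ₗ[A] CotangentSpace A :=
  Submodule.liftQ (maximalIdeal A • ⊤ : Submodule A (maximalIdeal A)) (fσ hres σ) (fσ_le hres σ)

lemma ρA_apply (hres : ∀ (σ : G) (a : A), σ • a - a ∈ maximalIdeal A) (σ : G)
    (x : maximalIdeal A) :
    ρA hres σ ((maximalIdeal A).toCotangent x) =
      (maximalIdeal A).toCotangent ⟨σ • (x : A), smul_mem_max σ x.2⟩ := rfl

lemma residue_surj : Function.Surjective (algebraMap A (ResidueField A)) :=
  Ideal.Quotient.mk_surjective

/-- the representation on the cotangent space -/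
noncomputable def rep (hres : ∀ (σ : G) (a : A), σ • a - a ∈ maximalIdeal A) :
    G →* (CotangentSpace A →ₗ[ResidueField A] CotangentSpace A) where
  toFun σ := LinearMap.extendScalarsOfSurjective residue_surj (ρA hres σ)
  map_one' := by
    apply LinearMap.ext
    intro y
    obtain ⟨x, rfl⟩ := (maximalIdeal A).toCotangent_surjective y
    rw [LinearMap.extendScalarsOfSurjective_apply, ρA_apply]
    simp
  map_mul' σ τ := by
    apply LinearMap.ext
    intro y
    obtain ⟨x, rfl⟩ := (maximalIdeal A).toCotangent_surjective y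
    rw [Module.End.mul_apply, LinearMap.extendScalarsOfSurjective_apply,
      LinearMap.extendScalarsOfSurjective_apply, LinearMap.extendScalarsOfSurjective_apply,
      ρA_apply, ρA_apply, ρA_apply]
    congr 1
    apply Subtype.ext
    simp [mul_smul]

lemma rep_apply (hres : ∀ (σ : G) (a : A), σ • a - a ∈ maximalIdeal A) (σ : G)
    (x : maximalIdeal A) :
    rep hres σ ((maximalIdeal A).toCotangent x) =
      (maximalIdeal A).toCotangent ⟨σ • (x : A), smul_mem_max σ x.2⟩ := rfl

end Groth.Agent.Helper8.AdmSys

namespace Groth.Agent.Helper8.AdmSys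

open IsLocalRing

theorem main (p : ℕ) [Fact p.Prime] (A : Type u) [CommRing A] [IsRegularLocalRing A] [CharP A p]
    (G : Type v) [Group G] [Finite G] [MulSemiringAction G A] (hG : IsPGroup p G)
    (hres : ∀ (σ : G) (a : A), σ • a - a ∈ IsLocalRing.maximalIdeal A)
    (n : ℕ) (hn : ringKrullDim A = n) :
    ∃ u : Fin n → A, ∀ τ : Fin n → G,
      Ideal.span (Set.range fun i => τ i • u i) = IsLocalRing.maximalIdeal A := by
  classical
  haveI : CharP (ResidueField A) p := by
    obtain ⟨q, hq⟩ := CharP.exists (ResidueField A)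
    have h0 : ((p : ℕ) : ResidueField A) = 0 := by
      rw [← map_natCast (algebraMap A (ResidueField A)) p, CharP.cast_eq_zero A p, map_zero]
    have hdvd : q ∣ p := (CharP.cast_eq_zero_iff (ResidueField A) q p).mp h0
    rcases (Nat.dvd_prime (Fact.out : p.Prime)).mp hdvd with h1 | h1
    · exfalso
      subst h1
      exact CharP.char_ne_one (ResidueField A) 1 rfl
    · subst h1
      exact hq
  have hfr : Module.finrank (ResidueField A) (CotangentSpace A) = n := by
    have h1 := IsRegularLocalRing.spanFinrank_maximalIdeal (R := A)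
    rw [hn, spanFinrank_maximalIdeal_eq_finrank_cotangentSpace] at h1
    exact_mod_cast h1
  obtain ⟨b, hspan, htri⟩ := PGroupFlag.flag p hG n (CotangentSpace A) (rep hres) hfr
  choose u hu using fun i => (maximalIdeal A).toCotangent_surjective (b i)
  refine ⟨fun i => (u i : A), fun τ => ?_⟩
  have h3 := PGroupFlag.span_twist (rep hres) b hspan htri τ
  set s : Set (maximalIdeal A) := Set.range fun i =>
    (⟨τ i • (u i : A), smul_mem_max (τ i) (u i).2⟩ : maximalIdeal A) with hs
  have h4 : Submodule.span (ResidueField A) ((maximalIdeal A).toCotangent '' s) = ⊤ := by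
    have hset : (maximalIdeal A).toCotangent '' s =
        Set.range fun i => rep hres (τ i) (b i) := by
      rw [hs, ← Set.range_comp]
      congr 1
      funext i
      rw [Function.comp_apply, ← hu i, rep_apply]
    rw [hset]
    exact h3
  have h5 := CotangentSpace.span_image_eq_top_iff.mp h4
  have h6 := congrArg (Submodule.map (maximalIdeal A).subtype) h5
  rw [Submodule.map_span, Submodule.map_top, Submodule.range_subtype, hs, ← Set.range_comp] at h6
  exact h6

end Groth.Agent.Helper8.AdmSys
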