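import Mathlib

set_option autoImplicit false

namespace Groth.Agent.Helper8.WildFix

open IsLocalRing

universe u v w

section

variable {A : Type u} [CommRing A] [IsLocalRing A]
  {G : Type w} [Group G] [MulSemiringAction G A]

lemma smul_mem_maximalIdeal (σ : G) {a : A} (ha : a ∈ maximalIdeal A) :
    σ • a ∈ maximalIdeal A := by
  rw [mem_maximalIdeal, mem_nonunits_iff] at ha ⊢
  intro hu
  apply ha
  have := hu.map (MulSemiringAction.toRingHom G A σ⁻¹)
  simpa using this

lemma smul_mem_pow (σ : G) (n : ℕ) {a : A} (ha : a ∈ maximalIdeal A ^ n) :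
    σ • a ∈ maximalIdeal A ^ n := by
  have hle : (maximalIdeal A).map (MulSemiringAction.toRingHom G A σ) ≤ maximalIdeal A := by
    rw [Ideal.map_le_iff_le_comap]
    intro x hx
    exact smul_mem_maximalIdeal σ hx
  have h1 : (maximalIdeal A ^ n).map (MulSemiringAction.toRingHom G A σ) ≤ maximalIdeal A ^ n := by
    rw [Ideal.map_pow]
    exact Ideal.pow_right_mono hle n
  exact h1 (Ideal.mem_map_of_mem _ ha)

/-- The subring of elements moved by `σ` only within `J`. -/
def fixSubring (σ : G) (J : Ideal A) : Subring A where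
  carrier := {a | σ • a - a ∈ J}
  mul_mem' {a b} ha hb := by
    have h : σ • (a * b) - a * b = σ • a * (σ • b - b) + (σ • a - a) * b := by
      rw [smul_mul']; ring
    rw [Set.mem_setOf_eq, h]
    exact J.add_mem (J.mul_mem_left _ hb) (J.mul_mem_right _ ha)
  one_mem' := by simp
  add_mem' {a b} ha hb := by
    have h : σ • (a + b) - (a + b) = (σ • a - a) + (σ • b - b) := by
      rw [smul_add]; ring
    rw [Set.mem_setOf_eq, h]
    exact J.add_mem ha hb
  zero_mem' := by simp
  neg_mem' {a} ha := by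
    have h : σ • (-a) - (-a) = -(σ • a - a) := by
      rw [smul_neg]; ring
    rw [Set.mem_setOf_eq, h]
    exact J.neg_mem ha

lemma mem_fixSubring (σ : G) (J : Ideal A) (a : A) : a ∈ fixSubring σ J ↔ σ • a - a ∈ J := Iff.rfl

variable {k : Type v} [Field k] [Algebra k A]

lemma approx_step (T : Subring A) (hTk : ∀ c : k, algebraMap k A c ∈ T) (s : Set A)
    (hsT : s ⊆ T) (hs : Ideal.span s = maximalIdeal A)
    (hk : Function.Surjective (residue A ∘ algebraMap k A)) :
    ∀ n : ℕ, ∀ a ∈ maximalIdeal A ^ n, ∃ t ∈ T, a - t ∈ maximalIdeal A ^ (n + 1) := by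
  intro n
  induction n with
  | zero =>
    intro a _
    obtain ⟨c, hc⟩ := hk (residue A a)
    refine ⟨algebraMap k A c, hTk c, ?_⟩
    rw [zero_add, pow_one, ← residue_eq_zero_iff, map_sub, sub_eq_zero]
    exact hc.symm
  | succ n ih =>
    have claim : ∀ y ∈ maximalIdeal A, ∀ r ∈ maximalIdeal A ^ n,
        ∃ t ∈ T, r * y - t ∈ maximalIdeal A ^ (n + 1 + 1) := by
      intro y hy
      rw [← hs] at hy
      induction hy using Submodule.span_induction with
      | mem y hys =>
        intro r hr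
        obtain ⟨t, ht, hrt⟩ := ih r hr
        refine ⟨t * y, T.mul_mem ht (hsT hys), ?_⟩
        have h : r * y - t * y = (r - t) * y := by ring
        rw [h, pow_succ (maximalIdeal A) (n + 1)]
        exact Ideal.mul_mem_mul hrt (hs ▸ Ideal.subset_span hys)
      | zero =>
        intro r _
        exact ⟨0, T.zero_mem, by simp⟩
      | add y₁ y₂ _ _ h₁ h₂ =>
        intro r hr
        obtain ⟨t₁, ht₁, h₁'⟩ := h₁ r hr
        obtain ⟨t₂, ht₂, h₂'⟩ := h₂ r hr
        refine ⟨t₁ + t₂, T.add_mem ht₁ ht₂, ?_⟩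
        have h : r * (y₁ + y₂) - (t₁ + t₂) = (r * y₁ - t₁) + (r * y₂ - t₂) := by ring
        rw [h]
        exact Ideal.add_mem _ h₁' h₂'
      | smul e y _ h₁ =>
        intro r hr
        obtain ⟨t, ht, h'⟩ := h₁ (r * e) (Ideal.mul_mem_right _ _ hr)
        refine ⟨t, ht, ?_⟩
        have h : r * (e • y) - t = r * e * y - t := by rw [smul_eq_mul]; ring
        rw [h]
        exact h'
    intro a ha
    rw [pow_succ] at ha
    refine Submodule.mul_induction_on ha (fun r hr y hy => claim y hy r hr)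
      (fun a₁ a₂ h₁ h₂ => ?_)
    · obtain ⟨t₁, ht₁, h₁'⟩ := h₁
      obtain ⟨t₂, ht₂, h₂'⟩ := h₂
      refine ⟨t₁ + t₂, T.add_mem ht₁ ht₂, ?_⟩
      have h : a₁ + a₂ - (t₁ + t₂) = (a₁ - t₁) + (a₂ - t₂) := by ring
      rw [h]
      exact Ideal.add_mem _ h₁' h₂'

lemma approx (T : Subring A) (hTk : ∀ c : k, algebraMap k A c ∈ T) (s : Set A)
    (hsT : s ⊆ T) (hs : Ideal.span s = maximalIdeal A)
    (hk : Function.Surjective (residue A ∘ algebraMap k A)) :
    ∀ n : ℕ, ∀ a : A, ∃ t ∈ T, a - t ∈ maximalIdeal A ^ n := by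
  intro n
  induction n with
  | zero =>
    intro a
    exact ⟨0, T.zero_mem, by simp⟩
  | succ n ih =>
    intro a
    obtain ⟨t, ht, hat⟩ := ih a
    obtain ⟨t', ht', hat'⟩ := approx_step T hTk s hsT hs hk n (a - t) hat
    refine ⟨t + t', T.add_mem ht ht', ?_⟩
    have h : a - (t + t') = a - t - t' := by ring
    rw [h]
    exact hat'

lemma mem_of_forall_mem_sup_pow [IsNoetherianRing A] (J : Ideal A) (x : A)
    (h : ∀ n : ℕ, x ∈ J ⊔ maximalIdeal A ^ n) : x ∈ J := by
  have hne : maximalIdeal A ≠ ⊤ := (maximalIdeal.isMaximal A).ne_top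
  have hbot := Ideal.iInf_pow_smul_eq_bot_of_isLocalRing (R := A) (M := A ⧸ J)
    (I := maximalIdeal A) hne
  have hx : (Ideal.Quotient.mk J x : A ⧸ J) ∈
      (⨅ i : ℕ, maximalIdeal A ^ i • ⊤ : Submodule A (A ⧸ J)) := by
    rw [Submodule.mem_iInf]
    intro i
    obtain ⟨j, hj, e, he, rfl⟩ := Submodule.mem_sup.1 (h i)
    have h1 : (Ideal.Quotient.mk J (j + e) : A ⧸ J) = e • (1 : A ⧸ J) := by
      rw [map_add, Ideal.Quotient.eq_zero_iff_mem.2 hj, zero_add, Algebra.smul_def, mul_one]
      rfl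
    rw [h1]
    exact Submodule.smul_mem_smul he Submodule.mem_top
  rw [hbot, Submodule.mem_bot] at hx
  exact Ideal.Quotient.eq_zero_iff_mem.1 hx

end

theorem main
    (p : ℕ) [Fact p.Prime] (A : Type u) [CommRing A] [IsRegularLocalRing A] [CharP A p]
    [IsAdicComplete (IsLocalRing.maximalIdeal A) A] (hdim : 2 ≤ ringKrullDim A)
    (k : Type v) [Field k] [Algebra k A]
    (hk : Function.Surjective (IsLocalRing.residue A ∘ algebraMap k A))
    (G : Type w) [Group G] [Finite G] [MulSemiringAction G A] (hcard : Nat.card G = p)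
    (hGk : ∀ (σ : G) (c : k), σ • algebraMap k A c = algebraMap k A c)
    (hram : ∀ P : Ideal A, P.IsPrime → P ≠ IsLocalRing.maximalIdeal A → P.inertia G = ⊥)
    (v : A) (hv : v ∈ IsLocalRing.maximalIdeal A) (hv2 : v ∉ IsLocalRing.maximalIdeal A ^ 2) :
    ∃ σ : G, σ • v ≠ v := by
  classical
  by_contra hcon
  push Not at hcon
  have hG : 1 < Nat.card G := by rw [hcard]; exact (Fact.out : p.Prime).one_lt
  haveI : Nontrivial G := Finite.one_lt_card_iff_nontrivial.1 hG
  obtain ⟨σ, hσ⟩ : ∃ σ : G, σ ≠ 1 := exists_ne 1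
  have hfg : (maximalIdeal A).FG := IsNoetherian.noetherian _
  obtain ⟨s, hscard, hsspan⟩ := Submodule.FG.exists_span_finset_card_eq_spanFinrank hfg
  have hsm : ∀ y ∈ s, y ∈ maximalIdeal A := fun y hy => by
    rw [← hsspan]; exact Submodule.subset_span hy
  have hvs : v ∈ Submodule.span A (s : Set A) := by rw [hsspan]; exact hv
  obtain ⟨f, -, hf⟩ := Submodule.mem_span_finset.1 hvs
  obtain ⟨x, hxs, hfx⟩ : ∃ x ∈ s, f x ∉ maximalIdeal A := by
    by_contra hall
    push Not at hall
    apply hv2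
    rw [← hf]
    refine Ideal.sum_mem _ fun y hy => ?_
    rw [pow_two, smul_eq_mul]
    exact Ideal.mul_mem_mul (hall y hy) (hsm y hy)
  have hu : IsUnit (f x) := by
    rwa [mem_maximalIdeal, mem_nonunits_iff, not_not] at hfx
  obtain ⟨s', hs'⟩ : ∃ s' : Finset A, s' = s.erase x := ⟨_, rfl⟩
  have hs's : ∀ y ∈ s', y ∈ s := fun y hy => Finset.mem_of_mem_erase (hs' ▸ hy)
  have hspan' : Ideal.span ((insert v s' : Finset A) : Set A) = maximalIdeal A := by
    apply le_antisymm
    · rw [Ideal.span_le]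
      intro y hy
      rcases Finset.mem_insert.1 (Finset.mem_coe.1 hy) with rfl | hy
      · exact hv
      · exact hsm y (hs's y hy)
    · have hx : x ∈ Ideal.span ((insert v s' : Finset A) : Set A) := by
        have h1 : f x • x = v - ∑ y ∈ s.erase x, f y • y := by
          rw [← hf, ← Finset.add_sum_erase s _ hxs]; ring
        have h2 : f x • x ∈ Ideal.span ((insert v s' : Finset A) : Set A) := by
          rw [h1]
          refine sub_mem (Ideal.subset_span (by simp)) (Ideal.sum_mem _ fun y hy => ?_)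
          exact Ideal.mul_mem_left _ _
            (Ideal.subset_span (Finset.mem_coe.2 (Finset.mem_insert_of_mem (hs' ▸ hy))))
        obtain ⟨u, hu'⟩ := hu
        have h3 : x = (↑u⁻¹ : A) * (f x • x) := by
          rw [smul_eq_mul, ← hu', ← mul_assoc, Units.inv_mul, one_mul]
        rw [h3]
        exact Ideal.mul_mem_left _ _ h2
      have : maximalIdeal A = Ideal.span (s : Set A) := hsspan.symm
      rw [this, Ideal.span_le]
      intro y hy
      by_cases hyx : y = x
      · rw [hyx]; exact hx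
      · exact Ideal.subset_span (by simp [hs', hyx, Finset.mem_coe.1 hy])
  obtain ⟨J, hJ⟩ : ∃ J : Ideal A,
      J = Ideal.span ((s'.image (fun u => σ • u - u) : Finset A) : Set A) := ⟨_, rfl⟩
  have hTk : ∀ c : k, algebraMap k A c ∈ fixSubring σ J := fun c => by
    rw [mem_fixSubring, hGk, sub_self]; exact J.zero_mem
  have hTs : ((insert v s' : Finset A) : Set A) ⊆ fixSubring σ J := by
    intro y hy
    rcases Finset.mem_insert.1 (Finset.mem_coe.1 hy) with rfl | hy
    · show σ • y - y ∈ J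
      rw [hcon σ, sub_self]; exact J.zero_mem
    · show σ • y - y ∈ J
      rw [hJ]
      exact Ideal.subset_span (Finset.mem_coe.2 (Finset.mem_image_of_mem _ hy))
  have hall : ∀ a : A, σ • a - a ∈ J := fun a => by
    refine mem_of_forall_mem_sup_pow J _ fun n => ?_
    obtain ⟨t, ht, hat⟩ := approx (fixSubring σ J) hTk _ hTs hspan' hk n a
    have h : σ • a - a = (σ • t - t) + (σ • (a - t) - (a - t)) := by rw [smul_sub]; ring
    rw [h]
    exact Submodule.add_mem_sup ht (sub_mem (smul_mem_pow σ n hat) hat)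
  have hJm : J ≤ maximalIdeal A := by
    rw [hJ, Ideal.span_le]
    intro y hy
    obtain ⟨u, hu, rfl⟩ := Finset.mem_image.1 (Finset.mem_coe.1 hy)
    have hum := hsm u (hs's u hu)
    exact sub_mem (smul_mem_maximalIdeal σ hum) hum
  have hJtop : J ≠ ⊤ := fun h =>
    (maximalIdeal.isMaximal A).ne_top (top_le_iff.1 (h ▸ hJm))
  obtain ⟨P, hP⟩ := Ideal.nonempty_minimalPrimes hJtop
  have hPprime : P.IsPrime := hP.1.1
  have hJP : J ≤ P := hP.1.2
  have hht : P.height ≤ (s'.card : ℕ∞) := by
    have h1 : P.height ≤ ((s'.image (fun u => σ • u - u)).card : ℕ∞) :=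
      Ideal.height_le_card_of_mem_minimalPrimes_span_finset (hJ ▸ hP)
    refine h1.trans ?_
    exact_mod_cast Finset.card_image_le
  have hPne : P ≠ maximalIdeal A := by
    rintro rfl
    have h1 : ((maximalIdeal A).height : WithBot ℕ∞) = ((s.card : ℕ∞) : WithBot ℕ∞) := by
      rw [maximalIdeal_height_eq_ringKrullDim, ← IsRegularLocalRing.spanFinrank_maximalIdeal,
        hscard]
      rfl
    have h2 : (maximalIdeal A).height = (s.card : ℕ∞) := WithBot.coe_injective h1
    rw [h2] at hht
    have h3 : s.card ≤ s'.card := by exact_mod_cast hht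
    rw [hs', Finset.card_erase_of_mem hxs] at h3
    have h4 : 0 < s.card := Finset.card_pos.2 ⟨x, hxs⟩
    omega
  have hbot := hram P hPprime hPne
  have hσP : σ ∈ P.inertia G := fun a => hJP (hall a)
  rw [hbot] at hσP
  exact hσ (Subgroup.mem_bot.1 hσP)

end Groth.Agent.Helper8.WildFix
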