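import Mathlib
import Groth.Agent.Lead.RegLocal
import Groth.Agent.Helper8.WildFix

/-!
# Non-flatness over invariants for an action ramified precisely at the closed point

For a finite group `G` acting on a local domain `A`, trivially on the residue field, with trivial
inertia at every non-maximal prime, generated by one element `τ₀ ≠ 1`, and such that the maximal
ideal contains a prime element `x` and an element `y` not divisible by `x`, the ring `A` is not flat
over the invariants `A^G`.  The proof studies `φ : A ⊗_{A^G} A → Map(G, A)`.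
-/

set_option autoImplicit false

namespace Groth.Agent.Helper8.WildFlat

open TensorProduct IsLocalRing

universe u v w

section Basic

variable (A : Type u) [CommRing A] (G : Type w) [Group G] [MulSemiringAction G A]

/-- `σ` as a linear map over the invariants. -/
noncomputable def act (σ : G) : A →ₗ[FixedPoints.subring A G] A :=
  (MulSemiringAction.toAlgHom (FixedPoints.subring A G) A σ).toLinearMap

@[simp] lemma act_apply (σ : G) (a : A) : act A G σ a = σ • a := rfl

/-- `a ↦ (σ ↦ σ a)`. -/
noncomputable def psi : A →ₗ[FixedPoints.subring A G] (G → A) :=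
  LinearMap.pi (fun σ => act A G σ)

@[simp] lemma psi_apply (a : A) (σ : G) : psi A G a σ = σ • a := rfl

/-- `a ⊗ a' ↦ (σ ↦ a σ(a'))`. -/
noncomputable def phi : A ⊗[FixedPoints.subring A G] A →ₗ[A] (G → A) :=
  LinearMap.liftBaseChange A (psi A G)

lemma phi_tmul (a a' : A) (σ : G) : phi A G (a ⊗ₜ a') σ = a * σ • a' := by
  simp [phi, LinearMap.liftBaseChange_tmul]

/-- `τ` acting on the left factor. -/
noncomputable def L (τ : G) : A ⊗[FixedPoints.subring A G] A →ₗ[FixedPoints.subring A G]
    A ⊗[FixedPoints.subring A G] A :=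
  LinearMap.rTensor A (act A G τ)

lemma L_tmul (τ : G) (a a' : A) : L A G τ (a ⊗ₜ a') = (τ • a) ⊗ₜ a' := rfl

lemma L_smul (τ : G) (a : A) (t : A ⊗[FixedPoints.subring A G] A) :
    L A G τ (a • t) = (τ • a) • L A G τ t := by
  induction t using TensorProduct.induction_on with
  | zero => simp
  | tmul x y => simp [L_tmul, TensorProduct.smul_tmul', smul_mul']
  | add x y hx hy => simp [smul_add, hx, hy]

lemma phi_L (τ : G) (t : A ⊗[FixedPoints.subring A G] A) (σ : G) :
    phi A G (L A G τ t) σ = τ • (phi A G t (τ⁻¹ * σ)) := by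
  induction t using TensorProduct.induction_on with
  | zero => simp
  | tmul x y => simp [L_tmul, phi_tmul, smul_mul', smul_smul]
  | add x y hx hy => simp [hx, hy, smul_add]

/-- Multiplication by `a` on the right factor. -/
noncomputable def Rm (a : A) : A ⊗[FixedPoints.subring A G] A →ₗ[FixedPoints.subring A G]
    A ⊗[FixedPoints.subring A G] A :=
  LinearMap.lTensor A (LinearMap.mulLeft (FixedPoints.subring A G) a)

lemma Rm_tmul (a x y : A) : Rm A G a (x ⊗ₜ y) = x ⊗ₜ (a * y) := rfl

lemma phi_Rm (a : A) (t : A ⊗[FixedPoints.subring A G] A) (ρ : G) :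
    phi A G (Rm A G a t) ρ = ρ • a * phi A G t ρ := by
  induction t using TensorProduct.induction_on with
  | zero => simp
  | tmul x y => simp only [Rm_tmul, phi_tmul, smul_mul']; ring
  | add x y hx hy => simp [hx, hy, mul_add]

lemma exists_prod (S : Finset G) (b : G → A) :
    ∃ t : A ⊗[FixedPoints.subring A G] A, ∀ ρ, phi A G t ρ = ∏ σ ∈ S, (ρ • b σ - σ • b σ) := by
  classical
  induction S using Finset.induction_on with
  | empty => exact ⟨1 ⊗ₜ 1, fun ρ => by simp [phi_tmul]⟩
  | insert σ₀ S hσ₀ ih =>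
    obtain ⟨t, ht⟩ := ih
    refine ⟨Rm A G (b σ₀) t - (σ₀ • b σ₀) • t, fun ρ => ?_⟩
    rw [Finset.prod_insert hσ₀, map_sub, map_smul, Pi.sub_apply, Pi.smul_apply, phi_Rm, ht,
      smul_eq_mul]
    ring

lemma phi_mem [IsLocalRing A] (hfix : ∀ (σ : G) (a : A), σ • a - a ∈ maximalIdeal A)
    (t : A ⊗[FixedPoints.subring A G] A) (σ : G) :
    phi A G t σ - phi A G t 1 ∈ maximalIdeal A := by
  induction t using TensorProduct.induction_on with
  | zero => simp
  | tmul x y =>
    rw [phi_tmul, phi_tmul, one_smul, ← mul_sub]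
    exact Ideal.mul_mem_left _ _ (hfix σ y)
  | add x y hx hy =>
    rw [map_add, Pi.add_apply, Pi.add_apply]
    have := add_mem hx hy
    convert this using 1
    ring

end Basic

section Inj

variable (A : Type u) [CommRing A] (G : Type w) [Group G] [MulSemiringAction G A]
  [Module.Flat (FixedPoints.subring A G) A]
  (τ₀ : G) (hgen : ∀ a : A, τ₀ • a = a → a ∈ FixedPoints.subring A G)

include hgen in
lemma fixed_eq (t : A ⊗[FixedPoints.subring A G] A) (ht : L A G τ₀ t = t) :
    ∃ a : A, t = 1 ⊗ₜ a := by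
  let f : FixedPoints.subring A G →ₗ[FixedPoints.subring A G] A :=
    Algebra.linearMap (FixedPoints.subring A G) A
  let g : A →ₗ[FixedPoints.subring A G] A := act A G τ₀ - LinearMap.id
  have hex : Function.Exact f g := by
    intro a
    constructor
    · intro h
      have h' : τ₀ • a = a := sub_eq_zero.mp h
      exact ⟨⟨a, hgen a h'⟩, rfl⟩
    · rintro ⟨b, rfl⟩
      show τ₀ • (b : A) - (b : A) = 0
      rw [b.2 τ₀, sub_self]
  have hex' := Module.Flat.rTensor_exact A hex
  have h0 : (g.rTensor A) t = 0 := by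
    simp only [g, LinearMap.rTensor_sub, LinearMap.rTensor_id, LinearMap.sub_apply,
      LinearMap.id_apply]
    exact sub_eq_zero.mpr ht
  obtain ⟨z, hz⟩ := (hex' t).mp h0
  refine ⟨TensorProduct.lid _ _ z, ?_⟩
  rw [← hz]
  conv_lhs => rw [← (TensorProduct.lid (FixedPoints.subring A G) A).symm_apply_apply z]
  rw [TensorProduct.lid_symm_apply, LinearMap.rTensor_tmul]
  simp [f]

variable [IsDomain A] [Finite G]

include hgen in
lemma inj_aux : ∀ (n : ℕ) (a a' : Fin n → A),
    phi A G (∑ i, a i ⊗ₜ[FixedPoints.subring A G] a' i) = 0 →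
      ∑ i, a i ⊗ₜ[FixedPoints.subring A G] a' i = 0 := by
  classical
  cases nonempty_fintype G
  intro n
  induction n with
  | zero => intro a a' _; simp
  | succ n ih =>
    intro a a' h
    set t := ∑ i, a i ⊗ₜ[FixedPoints.subring A G] a' i with ht
    by_cases hs : a 0 = 0
    · have ht' : t = ∑ i : Fin n, a i.succ ⊗ₜ[FixedPoints.subring A G] a' i.succ := by
        rw [ht, Fin.sum_univ_succ, hs, zero_tmul, zero_add]
      rw [ht'] at h ⊢
      exact ih _ _ h
    · have hLφ : ∀ τ : G, phi A G (L A G τ t) = 0 := by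
        intro τ
        funext σ
        rw [phi_L, h]
        simp
      have key : ∀ τ : G, a 0 • L A G τ t = (τ • a 0) • t := by
        intro τ
        have hu : a 0 • L A G τ t - (τ • a 0) • t =
            ∑ i : Fin n, (a 0 * τ • a i.succ - τ • a 0 * a i.succ)
              ⊗ₜ[FixedPoints.subring A G] a' i.succ := by
          rw [ht, map_sum, Finset.smul_sum, Finset.smul_sum, ← Finset.sum_sub_distrib,
            Fin.sum_univ_succ]
          have h0 : a 0 • L A G τ (a 0 ⊗ₜ a' 0) -
              (τ • a 0) • (a 0 ⊗ₜ[FixedPoints.subring A G] a' 0) = 0 := by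
            simp only [L_tmul, TensorProduct.smul_tmul', smul_eq_mul]
            rw [mul_comm, sub_self]
          rw [h0, zero_add]
          refine Finset.sum_congr rfl fun i _ => ?_
          simp only [L_tmul, TensorProduct.smul_tmul', smul_eq_mul, TensorProduct.sub_tmul]
        have hφ : phi A G (a 0 • L A G τ t - (τ • a 0) • t) = 0 := by
          rw [map_sub, map_smul, map_smul, h, hLφ τ, smul_zero, smul_zero, sub_zero]
        rw [hu] at hφ
        have := ih _ _ hφ
        rw [← hu] at this
        exact sub_eq_zero.mp this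
      set c : A := ∏ σ ∈ Finset.univ.erase (1 : G), σ • a 0 with hc
      set ν : A := ∏ σ : G, σ • a 0 with hν
      have hνc : ν = a 0 * c := by
        rw [hν, hc, ← Finset.mul_prod_erase Finset.univ _ (Finset.mem_univ (1 : G)), one_smul]
      have hνfix : ∀ τ : G, τ • ν = ν := by
        intro τ
        rw [hν, Finset.smul_prod']
        simp only [smul_smul]
        exact Fintype.prod_equiv (Equiv.mulLeft τ) _ _ (fun σ => rfl)
      have hσne : ∀ σ : G, σ • a 0 ≠ 0 := fun σ => (smul_ne_zero_iff_ne σ).mpr hs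
      have hc0 : c ≠ 0 := Finset.prod_ne_zero_iff.mpr fun σ _ => hσne σ
      have hν0 : ν ≠ 0 := Finset.prod_ne_zero_iff.mpr fun σ _ => hσne σ
      have hreg : ∀ r : A, r ≠ 0 →
          Function.Injective (fun x : A ⊗[FixedPoints.subring A G] A => r • x) := fun r hr =>
        Module.Flat.isSMulRegular_of_nonZeroDivisors (mem_nonZeroDivisors_of_ne_zero hr)
      have hν2 : τ₀ • a 0 * τ₀ • c = ν := by
        rw [← smul_mul', ← hνc, hνfix]
      have hfix : L A G τ₀ (c • t) = c • t := by
        apply hreg ν hν0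
        show ν • L A G τ₀ (c • t) = ν • (c • t)
        rw [L_smul]
        calc ν • (τ₀ • c) • L A G τ₀ t = (τ₀ • c * c) • (a 0 • L A G τ₀ t) := by
              simp only [smul_smul]; congr 1; rw [hνc]; ring
          _ = (τ₀ • c * c) • ((τ₀ • a 0) • t) := by rw [key]
          _ = ν • (c • t) := by
              simp only [smul_smul]; congr 1; rw [← hν2]; ring
      obtain ⟨a₀, ha₀⟩ := fixed_eq A G τ₀ hgen (c • t) hfix
      have h1 : phi A G (c • t) = 0 := by rw [map_smul, h, smul_zero]
      have h2 : a₀ = 0 := by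
        have := congrFun h1 1
        rw [ha₀, phi_tmul] at this
        simpa using this
      rw [h2, tmul_zero] at ha₀
      exact hreg c hc0 (by simpa using ha₀)

include hgen in
theorem phi_injective : Function.Injective (phi A G) := by
  rw [injective_iff_map_eq_zero]
  intro t ht
  obtain ⟨n, a, a', rfl⟩ := TensorProduct.exists_sum_tmul_eq t
  exact inj_aux A G τ₀ hgen n a a' ht

end Inj

section Main

variable (A : Type u) [CommRing A] [IsDomain A] [IsLocalRing A]
  (G : Type w) [Group G] [Finite G] [MulSemiringAction G A]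

theorem not_flat (τ₀ : G) (hτ₀ : τ₀ ≠ 1)
    (hgen : ∀ a : A, τ₀ • a = a → a ∈ FixedPoints.subring A G)
    (hfix : ∀ (σ : G) (a : A), σ • a - a ∈ maximalIdeal A)
    (hram : ∀ P : Ideal A, P.IsPrime → P ≠ maximalIdeal A → P.inertia G = ⊥)
    (x y : A) (hx : Prime x) (hxm : x ∈ maximalIdeal A) (hym : y ∈ maximalIdeal A)
    (hxy : ¬ x ∣ y) :
    ¬ Module.Flat (FixedPoints.subring A G) A := by
  intro hflat
  classical
  cases nonempty_fintype G
  have hinj := phi_injective A G τ₀ hgen
  set e₁ : G → A := Pi.single 1 1 with he₁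
  let J : Ideal A := Submodule.comap (LinearMap.toSpanSingleton A (G → A) e₁)
    (LinearMap.range (phi A G))
  have hJ : ∀ d, d ∈ J ↔ ∃ t, phi A G t = d • e₁ := by
    intro d
    simp [J, LinearMap.toSpanSingleton_apply]
  have hJP : ∀ P : Ideal A, P.IsPrime → J ≤ P → P = maximalIdeal A := by
    intro P hP hJP
    by_contra hne
    have hin := hram P hP hne
    have hex : ∀ σ : G, ∃ a : A, σ ≠ 1 → σ • a - a ∉ P := by
      intro σ
      by_cases hσ : σ = 1
      · exact ⟨0, fun h => absurd hσ h⟩
      · have h1 : σ ∉ P.inertia G := by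
          rw [hin, Subgroup.mem_bot]
          exact hσ
        have h2 : ¬ ∀ a, σ • a - a ∈ P := h1
        push Not at h2
        obtain ⟨a, ha⟩ := h2
        exact ⟨a, fun _ => ha⟩
    choose b hb using hex
    obtain ⟨t, ht⟩ := exists_prod A G (Finset.univ.erase 1) b
    set d := ∏ σ ∈ Finset.univ.erase (1 : G), (b σ - σ • b σ) with hd
    have hdJ : d ∈ J := by
      rw [hJ]
      refine ⟨t, ?_⟩
      funext ρ
      rw [ht]
      by_cases hρ : ρ = 1
      · subst hρ
        simp [he₁, hd]
      · have h0 : (d • e₁) ρ = 0 := by simp [he₁, Pi.single_apply, hρ]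
        rw [h0]
        exact Finset.prod_eq_zero (Finset.mem_erase.mpr ⟨hρ, Finset.mem_univ _⟩) (sub_self _)
    have hdP : d ∉ P := by
      rw [hd, hP.prod_mem_iff]
      rintro ⟨σ, hσ, hmem⟩
      have hσ1 : σ ≠ 1 := (Finset.mem_erase.mp hσ).1
      apply hb σ hσ1
      have := P.neg_mem hmem
      simpa using this
    exact hdP (hJP hdJ)
  have hrad : ∀ z ∈ maximalIdeal A, ∃ n : ℕ, z ^ n ∈ J := by
    intro z hz
    have : z ∈ J.radical := by
      rw [Ideal.radical_eq_sInf, Ideal.mem_sInf]
      rintro P ⟨hJP', hP⟩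
      rw [hJP P hP hJP']
      exact hz
    exact this
  obtain ⟨n, hn⟩ := hrad x hxm
  obtain ⟨m, hm⟩ := hrad y hym
  obtain ⟨u, hu⟩ := (hJ _).mp hn
  obtain ⟨v, hv⟩ := (hJ _).mp hm
  have hrel : y ^ m • u = x ^ n • v := by
    apply hinj
    rw [map_smul, map_smul, hu, hv, smul_smul, smul_smul, mul_comm]
  have hrel' : ∑ i : Fin 2, ![y ^ m, - x ^ n] i • ![u, v] i = 0 := by
    simp [Fin.sum_univ_two, hrel]
  obtain ⟨κ, aa, yy, h1, h2⟩ := Module.Flat.isTrivialRelation_of_sum_smul_eq_zero hrel'
  have hdiv : ∀ j, x ^ n ∣ aa 0 j := by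
    intro j
    have h3 := h2 j
    simp only [Fin.sum_univ_two, Matrix.cons_val_zero, Matrix.cons_val_one] at h3
    apply hx.pow_dvd_of_dvd_mul_left n (a := y ^ m) (fun h => hxy (hx.dvd_of_dvd_pow h))
    exact ⟨aa 1 j, by linear_combination h3⟩
  choose bb hbb using hdiv
  have hu' : u = x ^ n • ∑ j, bb j • yy j := by
    have h4 := h1 0
    simp only [Matrix.cons_val_zero] at h4
    rw [h4, Finset.smul_sum]
    refine Finset.sum_congr rfl fun j _ => ?_
    rw [smul_smul, ← hbb j]
  set w := ∑ j, bb j • yy j with hw_def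
  have hw : phi A G w = e₁ := by
    have h3 : x ^ n • phi A G w = x ^ n • e₁ := by rw [← map_smul, ← hu', hu]
    funext ρ
    have h4 := congrFun h3 ρ
    simp only [Pi.smul_apply, smul_eq_mul] at h4
    exact mul_left_cancel₀ (pow_ne_zero n hx.ne_zero) h4
  have h5 := phi_mem A G hfix w τ₀
  rw [hw] at h5
  simp only [he₁, Pi.single_apply, hτ₀, if_false, if_true, zero_sub] at h5
  have h6 : (1 : A) ∈ maximalIdeal A := by simpa using (maximalIdeal A).neg_mem h5
  exact (Ideal.ne_top_iff_one _).mp (IsLocalRing.maximalIdeal.isMaximal A).ne_top h6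

end Main

section Regular

theorem main (p : ℕ) [Fact p.Prime] (A : Type u) [CommRing A] [IsRegularLocalRing A]
    (hdim : 2 ≤ ringKrullDim A)
    (k : Type v) [Field k] [Algebra k A]
    (hk : Function.Surjective (IsLocalRing.residue A ∘ algebraMap k A))
    (G : Type w) [Group G] [Finite G] [MulSemiringAction G A] (hcard : Nat.card G = p)
    (hGk : ∀ (σ : G) (c : k), σ • algebraMap k A c = algebraMap k A c)
    (hram : ∀ P : Ideal A, P.IsPrime → P ≠ IsLocalRing.maximalIdeal A → P.inertia G = ⊥) :
    ¬ Module.Flat (FixedPoints.subring A G) A := by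
  haveI : IsDomain A := Lead.RegLocal.isDomain_of_isRegularLocalRing A
  have hnt : ∃ τ₀ : G, τ₀ ≠ 1 := by
    have : Nontrivial G := by
      rw [← Finite.one_lt_card_iff_nontrivial, hcard]
      exact (Fact.out : p.Prime).one_lt
    exact exists_ne 1
  obtain ⟨τ₀, hτ₀⟩ := hnt
  have hgen : ∀ a : A, τ₀ • a = a → a ∈ FixedPoints.subring A G := by
    intro a ha σ
    have hmem : σ ∈ Subgroup.zpowers τ₀ := mem_zpowers_of_prime_card hcard hτ₀
    obtain ⟨n, rfl⟩ := Subgroup.mem_zpowers_iff.mp hmem
    have h1 : τ₀ ∈ MulAction.stabilizer G a := ha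
    exact MulAction.mem_stabilizer_iff.mp (zpow_mem h1 n)
  have hfix : ∀ (σ : G) (a : A), σ • a - a ∈ maximalIdeal A := by
    intro σ a
    obtain ⟨c, hc⟩ := hk (residue A a)
    have h1 : a - algebraMap k A c ∈ maximalIdeal A := by
      rw [← residue_eq_zero_iff, map_sub, ← hc]
      simp
    have h2 := WildFix.smul_mem_maximalIdeal σ h1
    have h3 : σ • a - a = σ • (a - algebraMap k A c) - (a - algebraMap k A c) := by
      rw [smul_sub, hGk]
      ring
    rw [h3]
    exact sub_mem h2 h1
  have hd0 : ¬ ringKrullDim A ≤ 0 := fun h => by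
    have h1 := hdim.trans h
    norm_num at h1
  obtain ⟨x, hxm, hx2, -⟩ := Lead.RegLocal.exists_mem_notMem_sq_minimalPrimes hd0
  obtain ⟨hreg, -, -⟩ := Lead.RegLocal.quotient_isRegularLocalRing hxm hx2
  have hx0 : x ≠ 0 := fun h => hx2 (h ▸ zero_mem _)
  have hdom : IsDomain (A ⧸ Ideal.span {x}) := Lead.RegLocal.isDomain_of_isRegularLocalRing _
  have hxp : Prime x :=
    (Ideal.span_singleton_prime hx0).mp ((Ideal.Quotient.isDomain_iff_prime _).mp hdom)
  have hy : ∃ y ∈ maximalIdeal A, ¬ x ∣ y := by
    by_contra hcon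
    push Not at hcon
    have heq : maximalIdeal A = Ideal.span {x} :=
      le_antisymm (fun y hy => Ideal.mem_span_singleton.mpr (hcon y hy))
        ((Ideal.span_singleton_le_iff_mem _).mpr hxm)
    have h1 : (maximalIdeal A).spanFinrank = 1 := by
      rw [heq]
      exact Submodule.spanFinrank_singleton hx0
    have h2 := IsRegularLocalRing.spanFinrank_maximalIdeal (R := A)
    rw [h1] at h2
    rw [← h2] at hdim
    norm_cast at hdim
  obtain ⟨y, hym, hxy⟩ := hy
  exact not_flat A G τ₀ hτ₀ hgen hfix hram x y hxp hxm hym hxy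

end Regular

end Groth.Agent.Helper8.WildFlat
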