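import Mathlib
set_option autoImplicit false


namespace Groth.Agent.Helper8.ReflLoc

universe u v w

section gen
variable {R : Type u} [CommRing R] (S : Submonoid R) (Rₛ : Type v) [CommRing Rₛ] [Algebra R Rₛ]
  [IsLocalization S Rₛ]
  {M : Type w} {M' : Type*} [AddCommGroup M] [Module R M] [AddCommGroup M'] [Module R M']
  [Module Rₛ M'] [IsScalarTower R Rₛ M'] (f : M →ₗ[R] M') [IsLocalizedModule S f]
  [Module.FinitePresentation R M] [Module.FinitePresentation R (Module.Dual R M)]

/-- the localisation map on duals -/
noncomputable def d1 : Module.Dual R M →ₗ[R] Module.Dual Rₛ M' :=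
  IsLocalizedModule.mapExtendScalars S f (Algebra.linearMap R Rₛ) Rₛ

instance : IsLocalizedModule S (d1 S Rₛ f) :=
  Module.FinitePresentation.isLocalizedModule_mapExtendScalars S f (Algebra.linearMap R Rₛ) Rₛ

theorem d1_apply (ψ : Module.Dual R M) (m : M) : d1 S Rₛ f ψ (f m) = algebraMap R Rₛ (ψ m) := by
  rw [d1, IsLocalizedModule.mapExtendScalars_apply_apply, IsLocalizedModule.map_apply]
  rfl

/-- the localisation map on double duals -/
noncomputable def d2 : Module.Dual R (Module.Dual R M) →ₗ[R] Module.Dual Rₛ (Module.Dual Rₛ M') :=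
  IsLocalizedModule.mapExtendScalars S (d1 S Rₛ f) (Algebra.linearMap R Rₛ) Rₛ

instance : IsLocalizedModule S (d2 S Rₛ f) :=
  Module.FinitePresentation.isLocalizedModule_mapExtendScalars S (d1 S Rₛ f)
    (Algebra.linearMap R Rₛ) Rₛ

theorem d2_apply (φ : Module.Dual R (Module.Dual R M)) (ψ : Module.Dual R M) :
    d2 S Rₛ f φ (d1 S Rₛ f ψ) = algebraMap R Rₛ (φ ψ) := by
  rw [d2, IsLocalizedModule.mapExtendScalars_apply_apply, IsLocalizedModule.map_apply]
  rfl

theorem d2_eval (m : M) :
    d2 S Rₛ f (Module.Dual.eval R M m) = Module.Dual.eval Rₛ M' (f m) := by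
  apply LinearMap.restrictScalars_injective R
  apply IsLocalizedModule.linearMap_ext S (d1 S Rₛ f) (Algebra.linearMap R Rₛ)
  ext ψ
  simp only [LinearMap.coe_comp, Function.comp_apply, LinearMap.coe_restrictScalars]
  rw [d2_apply, Module.Dual.eval_apply, Module.Dual.eval_apply, d1_apply]

theorem map_eval :
    IsLocalizedModule.map S f (d2 S Rₛ f) (Module.Dual.eval R M) =
      (Module.Dual.eval Rₛ M').restrictScalars R := by
  apply IsLocalizedModule.linearMap_ext S f (d2 S Rₛ f)
  rw [IsLocalizedModule.map_comp]
  ext m : 1
  simp only [LinearMap.coe_comp, Function.comp_apply, LinearMap.coe_restrictScalars]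
  exact d2_eval S Rₛ f m

include S f in
theorem reflexive_loc [Module.IsReflexive R M] : Module.IsReflexive Rₛ M' := by
  constructor
  have h := Module.bijective_dual_eval R M
  have h1 := IsLocalizedModule.map_injective S f (d2 S Rₛ f) _ h.1
  have h2 := IsLocalizedModule.map_surjective S f (d2 S Rₛ f) _ h.2
  rw [map_eval] at h1 h2
  exact ⟨h1, h2⟩

end gen


section glob
variable (R : Type u) [CommRing R] [IsDomain R] [IsNoetherianRing R] (M : Type u) [AddCommGroup M]
  [Module R M] [Module.Finite R M]

theorem reflexive_of_maximal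
    (h : ∀ (m : Ideal R) (_ : m.IsMaximal),
      Module.IsReflexive (Localization.AtPrime m) (LocalizedModule m.primeCompl M)) :
    Module.IsReflexive R M := by
  constructor
  have : Module.FinitePresentation R M := Module.finitePresentation_of_finite R M
  have : Module.FinitePresentation R (Module.Dual R M) := Module.finitePresentation_of_finite R _
  refine bijective_of_isLocalized_maximal
    (fun P _ => LocalizedModule P.primeCompl M)
    (fun P _ => LocalizedModule.mkLinearMap P.primeCompl M)
    (fun P _ => Module.Dual (Localization.AtPrime P)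
      (Module.Dual (Localization.AtPrime P) (LocalizedModule P.primeCompl M)))
    (fun P _ => d2 P.primeCompl (Localization.AtPrime P)
      (LocalizedModule.mkLinearMap P.primeCompl M))
    (Module.Dual.eval R M) ?_
  intro P hP
  rw [map_eval]
  exact (h P hP).bijective_dual_eval'

theorem s6871 :
    (Module.IsReflexive R M ↔
      ∀ (p : Ideal R) [p.IsPrime],
        Module.IsReflexive (Localization.AtPrime p) (LocalizedModule p.primeCompl M)) ∧
    (Module.IsReflexive R M ↔
      ∀ (m : Ideal R) (_ : m.IsMaximal),
        Module.IsReflexive (Localization.AtPrime m) (LocalizedModule m.primeCompl M)) := by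
  have : Module.FinitePresentation R M := Module.finitePresentation_of_finite R M
  have : Module.FinitePresentation R (Module.Dual R M) := Module.finitePresentation_of_finite R _
  have hAB : Module.IsReflexive R M → ∀ (p : Ideal R) [p.IsPrime],
      Module.IsReflexive (Localization.AtPrime p) (LocalizedModule p.primeCompl M) := by
    intro hA p _
    exact reflexive_loc p.primeCompl (Localization.AtPrime p)
      (LocalizedModule.mkLinearMap p.primeCompl M)
  refine ⟨⟨hAB, fun hB => reflexive_of_maximal R M fun m hm => hB m⟩,
    ⟨fun hA m hm => hAB hA m, reflexive_of_maximal R M⟩⟩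

end glob

end Groth.Agent.Helper8.ReflLoc
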