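import Mathlib
import Groth.Prelude
import Groth.Agent.S15821

set_option autoImplicit false
open CategoryTheory AlgebraicGeometry TopologicalSpace RingTheory.Sequence
universe u

namespace Groth.Agent.Helper8.RegSeqK

variable {Z' Z X : Scheme.{u}}

/-- precomposition with an isomorphism preserves regular immersions of any kind. -/
theorem isRegularImmersion_iso_comp (e : Z' ⟶ Z) [IsIso e] (i : Z ⟶ X) (k : RegImm.Kind)
    (hi : RegImm.IsRegularImmersion k i) : RegImm.IsRegularImmersion k (e ≫ i) := by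
  obtain ⟨himm, hreg⟩ := hi
  haveI := himm
  refine ⟨inferInstance, fun z' => ?_⟩
  obtain ⟨U, hzU, hcl, rs, hrs, hker⟩ := hreg (e z')
  refine ⟨U, hzU, ?_, rs, hrs, ?_⟩
  · rw [morphismRestrict_comp]
    haveI := hcl
    haveI : IsIso (e ∣_ i ⁻¹ᵁ U.1) := inferInstance
    haveI : IsClosedImmersion (e ∣_ i ⁻¹ᵁ U.1) := inferInstance
    exact IsClosedImmersion.comp (e ∣_ i ⁻¹ᵁ U.1) (i ∣_ U.1)
  · rw [← hker]
    ext a
    rw [RingHom.mem_ker, RingHom.mem_ker]
    have h1 : ((e ≫ i).app U.1).hom a = (e.app (i ⁻¹ᵁ U.1)).hom ((i.app U.1).hom a) :=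
      congrArg (fun φ => φ.hom a) (Scheme.Hom.comp_app e i U.1)
    rw [h1]
    exact map_eq_zero_iff _ (ConcreteCategory.bijective_of_isIso (e.app (i ⁻¹ᵁ U.1))).1

/-- a regular immersion is Koszul-regular. -/
theorem koszul_of_regular (i : Z ⟶ X) (hi : RegImm.IsRegularImmersion RegImm.Kind.regular i) :
    RegImm.IsRegularImmersion RegImm.Kind.koszul i := by
  refine ⟨hi.1, fun z => ?_⟩
  obtain ⟨U, hzU, hcl, rs, hrs, hker⟩ := hi.2 z
  have hrs' : IsRegular Γ(X, U.1) rs := hrs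
  exact ⟨U, hzU, hcl, rs,
    (Groth.Agent.S15821.result Γ(X, U.1) rs hrs'.toIsWeaklyRegular).1, hker⟩

theorem s9773 (i : Z ⟶ X) (k : RegImm.Kind)
    (hk : k = RegImm.Kind.regular ∨ k = RegImm.Kind.koszul) (hi : RegImm.IsRegularImmersion k i)
    (z : Z) : Synt.IsKoszulAt i z := by
  have hkos : RegImm.IsRegularImmersion RegImm.Kind.koszul i := by
    rcases hk with rfl | rfl
    · exact koszul_of_regular i hi
    · exact hi
  haveI : IsImmersion i := hkos.1
  haveI : IsIso (⊤ : Z.Opens).ι := by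
    rw [← Scheme.topIso_hom]; infer_instance
  refine ⟨⊤, X, (⊤ : Z.Opens).ι ≫ i, 𝟙 X, trivial, inferInstance,
    isRegularImmersion_iso_comp _ i _ hkos, inferInstance, Category.comp_id _⟩

end Groth.Agent.Helper8.RegSeqK
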