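import Mathlib
import Groth.Prelude.Def_ActBC

/-!
# Torsors and fpqc base change

`isIso_of_isIso_pullback_map`: a morphism in `Over X` is an isomorphism if its base change along a
faithfully flat quasi-compact `f : X' ⟶ X` is.  `isTorsorFor_fpqc_of_bc`: an action whose base change
along such an `f` is an fpqc torsor is an fpqc torsor.
-/

set_option autoImplicit false

namespace Groth.Agent.Helper8.TorsorBC

open CategoryTheory CategoryTheory.Limits MonoidalCategory CartesianMonoidalCategory MonObj
  AlgebraicGeometry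

universe u

variable {X X' : Scheme.{u}} (f : X' ⟶ X)

/-- the base change square of a morphism of `X`-schemes -/
theorem isPullback_map {A B : Over X} (φ : A ⟶ B) :
    IsPullback ((Over.pullback f).map φ).left (pullback.fst A.hom f) (pullback.fst B.hom f)
      φ.left := by
  have h1 : ((Over.pullback f).map φ).left ≫ pullback.fst B.hom f = pullback.fst A.hom f ≫ φ.left :=
    ActBC.pullback_map_left_fst f φ
  have h2 : ((Over.pullback f).map φ).left ≫ pullback.snd B.hom f = pullback.snd A.hom f :=
    Over.w ((Over.pullback f).map φ)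
  refine IsPullback.of_right ?_ h1 (IsPullback.of_hasPullback B.hom f).flip
  rw [h2, Over.w φ]
  exact (IsPullback.of_hasPullback A.hom f).flip

variable [Flat f] [Surjective f] [QuasiCompact f]

theorem isIso_of_isIso_pullback_map {A B : Over X} (φ : A ⟶ B)
    (h : IsIso ((Over.pullback f).map φ)) : IsIso φ := by
  haveI : IsIso ((Over.pullback f).map φ).left :=
    (Over.forget X').map_isIso ((Over.pullback f).map φ)
  haveI : IsIso φ.left := by
    have := MorphismProperty.of_isPullback_of_descendsAlong
      (P := MorphismProperty.isomorphisms Scheme.{u})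
      (Q := @Surjective ⊓ @Flat ⊓ @QuasiCompact) (isPullback_map f φ)
      ⟨⟨inferInstance, inferInstance⟩, inferInstance⟩
      (show MorphismProperty.isomorphisms Scheme.{u} _ from ‹IsIso ((Over.pullback f).map φ).left›)
    exact this
  haveI : IsIso ((Over.forget X).map φ) := ‹IsIso φ.left›
  exact isIso_of_reflects_iso φ (Over.forget X)

variable {J P : Over X} [GrpObj J] (a : AlgGrp.Action J P)

theorem isPseudoTorsor_of_bc (h : NonAbH1.IsPseudoTorsorSch (a.bc f)) :
    NonAbH1.IsPseudoTorsorSch a := by
  have key : lift (a.bc f).act (snd _ _) ≫ Functor.LaxMonoidal.μ (Over.pullback f) P P =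
      Functor.LaxMonoidal.μ (Over.pullback f) J P ≫ (Over.pullback f).map (lift a.act (snd J P)) := by
    rw [← Functor.Monoidal.lift_μ, comp_lift_assoc, Functor.Monoidal.μ_snd, AlgGrp.Action.bc_act]
  haveI : IsIso (lift (a.bc f).act (snd (Red.bc f J) (Red.bc f P))) := h
  have h2 : IsIso ((Over.pullback f).map (lift a.act (snd J P))) := by
    have h3 : (Over.pullback f).map (lift a.act (snd J P)) =
        inv (Functor.LaxMonoidal.μ (Over.pullback f) J P) ≫
          lift (a.bc f).act (snd _ _) ≫ Functor.LaxMonoidal.μ (Over.pullback f) P P := by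
      rw [key, IsIso.inv_hom_id_assoc]
    rw [h3]
    infer_instance
  exact isIso_of_isIso_pullback_map f _ h2

omit [GrpObj J] in
theorem isLocallyTrivial_of_bc
    (h : NonAbH1.IsLocallyTrivialFor Scheme.fpqcPrecoverage (Red.bc f P)) :
    NonAbH1.IsLocallyTrivialFor Scheme.fpqcPrecoverage P := by
  obtain ⟨R', hR', hsec⟩ := h
  obtain ⟨I, Y, g, rfl⟩ := Presieve.exists_eq_ofArrows R'
  have hf : Presieve.ofArrows (fun _ : PUnit.{u + 2} => X') (fun _ => f) ∈
      Scheme.fpqcPrecoverage X := by
    rw [Presieve.ofArrows_pUnit]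
    exact f.singleton_mem_fpqcPrecoverage
  have hcomp := Precoverage.comp_mem_coverings (J := Scheme.fpqcPrecoverage.{u})
    (f := fun _ : PUnit.{u + 2} => f) hf (σ := fun _ => I) (Y := fun _ i => Y i)
    (g := fun _ i => g i) (fun _ => hR')
  refine ⟨_, hcomp, ?_⟩
  rintro T t ⟨p⟩
  obtain ⟨s, hs⟩ := hsec (g p.2) ⟨p.2⟩
  refine ⟨s ≫ pullback.fst P.hom f, ?_⟩
  rw [Category.assoc, pullback.condition, ← Category.assoc]
  congr 1

theorem isTorsorFor_fpqc_of_bc (h : NonAbH1.IsTorsorFor Scheme.fpqcPrecoverage (a.bc f)) :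
    NonAbH1.IsTorsorFor Scheme.fpqcPrecoverage a :=
  ⟨isPseudoTorsor_of_bc f a h.1, isLocallyTrivial_of_bc f h.2⟩

end Groth.Agent.Helper8.TorsorBC
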