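import Mathlib
import Groth.Prelude
import Groth.Agent.Helper2.InjFlatFin
import Groth.Agent.Helper2.FlatDescApp
import Groth.Agent.Helper2.EssFP

set_option autoImplicit false
open TensorProduct IsLocalRing
universe u

namespace Groth.Agent.Helper8.QFSec1

section Ker
variable {R S : Type u} [CommRing R] [CommRing S] [Algebra R S] (p : Ideal R) [p.IsPrime]

/-- elements of `pS` die in the fibre. -/
theorem tmul_eq_zero_of_mem_map {z : S} (hz : z ∈ p.map (algebraMap R S)) :
    (1 : p.ResidueField) ⊗ₜ[R] z = (0 : p.Fiber S) := by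
  rw [Ideal.map] at hz
  refine Submodule.span_induction ?_ ?_ ?_ ?_ hz
  · rintro _ ⟨a, ha, rfl⟩
    rw [Algebra.algebraMap_eq_smul_one, ← TensorProduct.smul_tmul, Algebra.smul_def, mul_one,
      Ideal.algebraMap_residueField_eq_zero.mpr ha, TensorProduct.zero_tmul]
  · rw [TensorProduct.tmul_zero]
  · intro x y _ _ hx hy
    rw [TensorProduct.tmul_add, hx, hy, add_zero]
  · intro s x _ hx
    have : (1 : p.ResidueField) ⊗ₜ[R] (s • x) =
        ((1 : p.ResidueField) ⊗ₜ[R] s) * ((1 : p.ResidueField) ⊗ₜ[R] x : p.Fiber S) := by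
      rw [Algebra.TensorProduct.tmul_mul_tmul, one_mul, smul_eq_mul]
    rw [this, hx, mul_zero]

/-- the kernel of `S → κ(p) ⊗ S`. -/
theorem ker_lemma (z : S) (hz : (1 : p.ResidueField) ⊗ₜ[R] z = (0 : p.Fiber S)) :
    ∃ r : R, r ∉ p ∧ algebraMap R S r * z ∈ p.map (algebraMap R S) := by
  letI : Algebra S (p.Fiber S) := Algebra.TensorProduct.rightAlgebra
  have e := Ideal.Fiber.algEquivAux₁ (R := R) (S := S) p
  have h1 : e (algebraMap S (p.Fiber S) z) = 0 := by
    have : algebraMap S (p.Fiber S) z = (1 : p.ResidueField) ⊗ₜ[R] z := rfl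
    rw [this, hz, map_zero]
  rw [e.commutes, ← Ideal.Quotient.mk_algebraMap, Ideal.Quotient.eq_zero_iff_mem] at h1
  obtain ⟨m, ⟨r, hr, rfl⟩, hm⟩ := (IsLocalization.algebraMap_mem_map_algebraMap_iff
    (Algebra.algebraMapSubmonoid S p.primeCompl) _ _ _).mp h1
  exact ⟨r, hr, hm⟩

/-- a fibrewise nonzerodivisor is a nonzerodivisor modulo `pS_q`. -/
theorem key (f : S) (hf : (1 : p.ResidueField) ⊗ₜ[R] f ∈ nonZeroDivisors (p.Fiber S))
    (q : Ideal S) [q.IsPrime] (hq : q.comap (algebraMap R S) = p)
    (x : Localization.AtPrime q)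
    (hx : algebraMap S (Localization.AtPrime q) f * x ∈
      (p.map (algebraMap R S)).map (algebraMap S (Localization.AtPrime q))) :
    x ∈ (p.map (algebraMap R S)).map (algebraMap S (Localization.AtPrime q)) := by
  obtain ⟨y, t, rfl⟩ := IsLocalization.exists_mk'_eq q.primeCompl x
  rw [IsLocalization.mul_mk'_eq_mk'_of_mul, IsLocalization.mk'_mem_map_algebraMap_iff] at hx
  obtain ⟨v, hv, hvfy⟩ := hx
  have h2 : (1 : p.ResidueField) ⊗ₜ[R] (v * (f * y)) = (0 : p.Fiber S) :=
    tmul_eq_zero_of_mem_map p hvfy
  have h3 : ((1 : p.ResidueField) ⊗ₜ[R] f : p.Fiber S) * ((1 : p.ResidueField) ⊗ₜ[R] (v * y)) = 0 := by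
    rw [Algebra.TensorProduct.tmul_mul_tmul, one_mul, ← h2]
    congr 1
    ring
  have h4 : (1 : p.ResidueField) ⊗ₜ[R] (v * y) = (0 : p.Fiber S) :=
    (mul_left_mem_nonZeroDivisors_eq_zero_iff hf).mp h3
  obtain ⟨r, hr, hrm⟩ := ker_lemma p (v * y) h4
  rw [IsLocalization.mk'_mem_map_algebraMap_iff]
  refine ⟨algebraMap R S r * v, ?_, by rw [mul_assoc]; exact hrm⟩
  refine q.primeCompl.mul_mem ?_ hv
  show algebraMap R S r ∉ q
  intro h
  exact hr (hq ▸ h)

end Ker

section Slice
variable {R S : Type u} [CommRing R] [CommRing S] [Algebra R S] [Algebra.FinitePresentation R S]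
  (p : Ideal R) [p.IsPrime]

open Groth.Agent.Helper2

/-- slicing by a fibrewise nonzerodivisor keeps flatness at the primes of the fibre. -/
theorem flat_quot_loc (f : S) (hf : (1 : p.ResidueField) ⊗ₜ[R] f ∈ nonZeroDivisors (p.Fiber S))
    (q : Ideal S) [q.IsPrime] (hq : q.comap (algebraMap R S) = p)
    (hflat : Module.Flat R (Localization.AtPrime q)) :
    Module.Flat R (Localization.AtPrime q ⧸
      (Ideal.span {f}).map (algebraMap S (Localization.AtPrime q))) := by
  letI algRpSq : Algebra (Localization.AtPrime p) (Localization.AtPrime q) :=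
    (Localization.localRingHom p q (algebraMap R S) hq.symm).toAlgebra
  haveI tw : IsScalarTower R (Localization.AtPrime p) (Localization.AtPrime q) :=
    IsScalarTower.of_algebraMap_eq (fun r => by
      show algebraMap R (Localization.AtPrime q) r =
        Localization.localRingHom p q (algebraMap R S) hq.symm
          (algebraMap R (Localization.AtPrime p) r)
      rw [Localization.localRingHom_to_map,
        IsScalarTower.algebraMap_apply R S (Localization.AtPrime q)])
  haveI : IsLocalHom (algebraMap (Localization.AtPrime p) (Localization.AtPrime q)) :=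
    Localization.isLocalHom_localRingHom _ _ _ _
  have hess : CAlgX.IsEssFinitePresentation (Localization.AtPrime p) (Localization.AtPrime q) :=
    EssFP.essFP_of_atPrime p q (fun a ha h => ha (hq ▸ h)) _ _
  haveI : Module.Flat (Localization.AtPrime p) (Localization.AtPrime q) :=
    (Module.flat_iff_of_isLocalization (Localization.AtPrime p) p.primeCompl _).mpr hflat
  have hJ : (maximalIdeal (Localization.AtPrime p)).map
      (algebraMap (Localization.AtPrime p) (Localization.AtPrime q)) =
      (p.map (algebraMap R S)).map (algebraMap S (Localization.AtPrime q)) := by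
    rw [← Localization.AtPrime.map_eq_maximalIdeal, Ideal.map_map, Ideal.map_map,
      ← IsScalarTower.algebraMap_eq, ← IsScalarTower.algebraMap_eq]
  have key' := InjFlatFin.s2107 hess (M := Localization.AtPrime q) (N := Localization.AtPrime q)
    (LinearMap.lsmul (Localization.AtPrime q) (Localization.AtPrime q)
      (algebraMap S (Localization.AtPrime q) f)) (by
      intro x hx
      rw [smul_eq_mul, Ideal.mul_top, hJ] at hx ⊢
      exact key p f hf q hq x hx)
  obtain ⟨-, hfl⟩ := key'
  have hrange : LinearMap.range (LinearMap.lsmul (Localization.AtPrime q) (Localization.AtPrime q)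
      (algebraMap S (Localization.AtPrime q) f)) =
      (Ideal.span {f}).map (algebraMap S (Localization.AtPrime q)) := by
    rw [Ideal.map_span, Set.image_singleton]
    ext z
    rw [LinearMap.mem_range, Ideal.mem_span_singleton']
    constructor
    · rintro ⟨a, rfl⟩
      exact ⟨a, mul_comm _ _⟩
    · rintro ⟨a, rfl⟩
      exact ⟨a, mul_comm _ _⟩
  have h1 : Module.Flat (Localization.AtPrime p) (Localization.AtPrime q ⧸
      (Ideal.span {f}).map (algebraMap S (Localization.AtPrime q))) :=
    Module.Flat.of_linearEquiv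
      ((Submodule.quotEquivOfEq _ _ hrange).restrictScalars (Localization.AtPrime p)).symm
  exact (Module.flat_iff_of_isLocalization (Localization.AtPrime p) p.primeCompl _).mp h1

end Slice

end Groth.Agent.Helper8.QFSec1
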