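import Mathlib
import Groth.Prelude
import Groth.Agent.Helper8.QFSec1

set_option autoImplicit false
open TensorProduct IsLocalRing
universe u

namespace Groth.Agent.Helper8.QFSec2

open Groth.Agent.Helper8.QFSec1 Groth.Agent.Helper2

section Quot
variable {R S : Type u} [CommRing R] [CommRing S] [Algebra R S] [Algebra.FinitePresentation R S]
  (p : Ideal R) [p.IsPrime]

/-- flatness along the fibre passes to the slice `S/(f)`. -/
theorem flat_quot_atPrime (f : S)
    (hf : (1 : p.ResidueField) ⊗ₜ[R] f ∈ nonZeroDivisors (p.Fiber S))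
    (hS : ∀ (q : Ideal S) [q.IsPrime], q.comap (algebraMap R S) = p →
      Module.Flat R (Localization.AtPrime q))
    (Q : Ideal (S ⧸ Ideal.span {f})) [Q.IsPrime]
    (hQ : Q.comap (algebraMap R (S ⧸ Ideal.span {f})) = p) :
    Module.Flat R (Localization.AtPrime Q) := by
  haveI hqp : (Q.comap (Ideal.Quotient.mk (Ideal.span {f}))).IsPrime := Ideal.comap_isPrime _ _
  have hq : (Q.comap (Ideal.Quotient.mk (Ideal.span {f}))).comap (algebraMap R S) = p := by
    rw [Ideal.comap_comap]
    exact hQ
  have h1 := flat_quot_loc p f hf (Q.comap (Ideal.Quotient.mk (Ideal.span {f}))) hq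
    (hS _ hq)
  have hM : Algebra.algebraMapSubmonoid (S ⧸ Ideal.span {f})
      (Q.comap (Ideal.Quotient.mk (Ideal.span {f}))).primeCompl = Q.primeCompl := by
    ext z
    constructor
    · rintro ⟨s, hs, rfl⟩
      exact hs
    · intro hz
      obtain ⟨s, rfl⟩ := Ideal.Quotient.mk_surjective z
      exact ⟨s, hz, rfl⟩
  haveI : IsLocalization.AtPrime
      (Localization.AtPrime (Q.comap (Ideal.Quotient.mk (Ideal.span {f}))) ⧸
        (Ideal.span {f}).map (algebraMap S
          (Localization.AtPrime (Q.comap (Ideal.Quotient.mk (Ideal.span {f})))))) Q := by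
    show IsLocalization Q.primeCompl _
    rw [← hM]
    infer_instance
  haveI : IsScalarTower R (S ⧸ Ideal.span {f})
      (Localization.AtPrime (Q.comap (Ideal.Quotient.mk (Ideal.span {f}))) ⧸
        (Ideal.span {f}).map (algebraMap S
          (Localization.AtPrime (Q.comap (Ideal.Quotient.mk (Ideal.span {f})))))) :=
    IsScalarTower.of_algebraMap_eq (fun r => by
      show Ideal.Quotient.mk _ (algebraMap R
          (Localization.AtPrime (Q.comap (Ideal.Quotient.mk (Ideal.span {f})))) r) =
        Ideal.Quotient.mk _ (algebraMap S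
          (Localization.AtPrime (Q.comap (Ideal.Quotient.mk (Ideal.span {f}))))
          (algebraMap R S r))
      rw [← IsScalarTower.algebraMap_apply R S
        (Localization.AtPrime (Q.comap (Ideal.Quotient.mk (Ideal.span {f}))))])
  let e := IsLocalization.algEquiv Q.primeCompl (Localization.AtPrime Q)
    (Localization.AtPrime (Q.comap (Ideal.Quotient.mk (Ideal.span {f}))) ⧸
        (Ideal.span {f}).map (algebraMap S
          (Localization.AtPrime (Q.comap (Ideal.Quotient.mk (Ideal.span {f}))))))
  exact Module.Flat.of_linearEquiv (e.toLinearEquiv.restrictScalars R)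

end Quot

section Away
variable {R S : Type u} [CommRing R] [CommRing S] [Algebra R S]

/-- flatness of a basic open from flatness at its points. -/
theorem flat_away (g : S)
    (h : ∀ (q : Ideal S) [q.IsPrime], g ∉ q → Module.Flat R (Localization.AtPrime q)) :
    Module.Flat R (Localization.Away g) := by
  refine Module.flat_of_isLocalized_maximal (Localization.Away g) (Localization.Away g)
    (fun P _ => Localization.AtPrime P) (fun P _ => Algebra.linearMap _ _) (fun P hP => ?_)
  haveI hqp : (P.comap (algebraMap S (Localization.Away g))).IsPrime := Ideal.comap_isPrime _ _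
  have hg : g ∉ P.comap (algebraMap S (Localization.Away g)) := fun hmem =>
    hP.ne_top (Ideal.eq_top_of_isUnit_mem _ hmem (IsLocalization.Away.algebraMap_isUnit g))
  haveI : IsLocalization.AtPrime (Localization.AtPrime P)
      (P.comap (algebraMap S (Localization.Away g))) :=
    IsLocalization.isLocalization_isLocalization_atPrime_isLocalization (Submonoid.powers g) _ P
  let e := IsLocalization.algEquiv (P.comap (algebraMap S (Localization.Away g))).primeCompl
    (Localization.AtPrime (P.comap (algebraMap S (Localization.Away g)))) (Localization.AtPrime P)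
  haveI := h _ hg
  exact Module.Flat.of_linearEquiv (e.symm.toLinearEquiv.restrictScalars R)

/-- comparison of the two models of the localization at a prime. -/
theorem flat_localizedModule_iff (q : Ideal S) [q.IsPrime] :
    Module.Flat R (LocalizedModule q.primeCompl S) ↔ Module.Flat R (Localization.AtPrime q) := by
  let e := IsLocalizedModule.iso q.primeCompl (Algebra.linearMap S (Localization.AtPrime q))
  exact ⟨fun h => Module.Flat.of_linearEquiv (e.symm.restrictScalars R),
    fun h => Module.Flat.of_linearEquiv (e.restrictScalars R)⟩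

variable [Algebra.FinitePresentation R S]

/-- a quasi-finite flat point has a quasi-finite flat basic open neighbourhood. -/
theorem exists_away (q : Ideal S) [q.IsPrime] [Algebra.QuasiFiniteAt R q]
    (hfl : Module.Flat R (Localization.AtPrime q)) :
    ∃ g : S, g ∉ q ∧ Algebra.QuasiFinite R (Localization.Away g) ∧
      Module.Flat R (Localization.Away g) := by
  obtain ⟨S', hS', r, hrq, hbij⟩ :=
    Algebra.QuasiFiniteAt.exists_fg_and_exists_notMem_and_awayMap_bijective (R := R) q
  haveI : Module.Finite R S' := ⟨(Submodule.fg_top _).mpr hS'⟩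
  haveI : Algebra.QuasiFinite R (Localization.Away r) := .trans _ S' _
  haveI hqf : Algebra.QuasiFinite R (Localization.Away r.1) :=
    .of_surjective_algHom (Localization.awayMapₐ S'.val r) hbij.2
  have hopen := FlatDescApp.isOpen_flatLocus_fp (R := R) (S := S) (M := S)
  have hqU : (⟨q, inferInstance⟩ : PrimeSpectrum S) ∈
      {q : PrimeSpectrum S | Module.Flat R (LocalizedModule q.asIdeal.primeCompl S)} :=
    (flat_localizedModule_iff q).mpr hfl
  obtain ⟨_, ⟨g₂, rfl⟩, hqg₂, hsub⟩ :=
    PrimeSpectrum.isTopologicalBasis_basic_opens.exists_subset_of_mem_open hqU hopen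
  have hg₂ : g₂ ∉ q := hqg₂
  refine ⟨r.1 * g₂, fun h => (Ideal.IsPrime.mem_or_mem inferInstance h).elim hrq hg₂, ?_, ?_⟩
  · have hunit : IsUnit (algebraMap S (Localization.Away (r.1 * g₂)) r.1) := by
      have h1 := IsLocalization.Away.algebraMap_isUnit (S := Localization.Away (r.1 * g₂))
        (r.1 * g₂)
      rw [map_mul] at h1
      exact isUnit_of_mul_isUnit_left h1
    let φ : Localization.Away r.1 →ₐ[R] Localization.Away (r.1 * g₂) :=
      IsLocalization.liftAlgHom (M := Submonoid.powers r.1)
        (f := IsScalarTower.toAlgHom R S (Localization.Away (r.1 * g₂))) (by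
          rintro ⟨_, n, rfl⟩
          simpa using hunit.pow n)
    have hφ : ∀ s : S, φ (algebraMap S (Localization.Away r.1) s) =
        algebraMap S (Localization.Away (r.1 * g₂)) s := fun s => by
      simp [φ]
    refine Algebra.QuasiFinite.of_forall_exists_mul_mem_range φ (fun x => ?_)
    obtain ⟨y, ⟨_, n, rfl⟩, rfl⟩ := IsLocalization.exists_mk'_eq (Submonoid.powers (r.1 * g₂)) x
    refine ⟨algebraMap S (Localization.Away r.1) ((r.1 * g₂) ^ n), ?_, ?_⟩
    · rw [hφ, map_pow]
      exact (IsLocalization.Away.algebraMap_isUnit (r.1 * g₂)).pow n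
    · rw [hφ]
      refine ⟨algebraMap S (Localization.Away r.1) y, ?_⟩
      show φ (algebraMap S (Localization.Away r.1) y) = _
      rw [hφ]
      exact (IsLocalization.mk'_spec (M := Submonoid.powers (r.1 * g₂)) _ y
        ⟨(r.1 * g₂) ^ n, ⟨n, rfl⟩⟩).symm
  · refine flat_away (r.1 * g₂) (fun q' _ hg' => ?_)
    refine (flat_localizedModule_iff q').mp (hsub (?_ : (⟨q', inferInstance⟩ : PrimeSpectrum S) ∈ _))
    exact fun h => hg' (Ideal.mul_mem_left _ _ h)

end Away

end Groth.Agent.Helper8.QFSec2
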