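import Mathlib
import Groth.Prelude
import Groth.Agent.Helper8.QFSec2

set_option autoImplicit false
open TensorProduct IsLocalRing
universe u

namespace Groth.Agent.Helper8.QFSec3

open Groth.Agent.Helper8.QFSec1 Groth.Agent.Helper8.QFSec2

theorem lt_of_add_one_le_of_lt {x y : WithBot ℕ∞} {d : ℕ} (h1 : x + 1 ≤ y)
    (h2 : y < ((d + 1 : ℕ) : WithBot ℕ∞)) : x < (d : WithBot ℕ∞) := by
  have h3 := lt_of_le_of_lt h1 h2
  induction x using WithBot.recBotCoe with
  | bot => exact WithBot.bot_lt_coe _
  | coe a =>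
    induction a using ENat.recTopCoe with
    | top =>
      exfalso
      have h4 : ((⊤ : ℕ∞) : WithBot ℕ∞) + 1 = ((⊤ : ℕ∞) : WithBot ℕ∞) := by
        rw [← WithBot.coe_one, ← WithBot.coe_add, top_add]
      rw [h4] at h3
      have h5 : (((d + 1 : ℕ) : ℕ∞) : WithBot ℕ∞) = ((d + 1 : ℕ) : WithBot ℕ∞) := rfl
      rw [← h5, WithBot.coe_lt_coe] at h3
      exact absurd h3 (not_lt.mpr le_top)
    | coe n =>
      have h5 : (((n : ℕ∞) : WithBot ℕ∞) + 1) = (((n + 1 : ℕ) : ℕ∞) : WithBot ℕ∞) := by
        push_cast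
        rfl
      have h6 : (((d + 1 : ℕ) : ℕ∞) : WithBot ℕ∞) = ((d + 1 : ℕ) : WithBot ℕ∞) := rfl
      have h7 : (((d : ℕ) : ℕ∞) : WithBot ℕ∞) = ((d : ℕ) : WithBot ℕ∞) := rfl
      rw [h5, ← h6, WithBot.coe_lt_coe, Nat.cast_lt] at h3
      rw [← h7, WithBot.coe_lt_coe, Nat.cast_lt]
      omega

theorem exists_dim_lt (k F : Type u) [Field k] [CommRing F] [Algebra k F]
    [Algebra.FiniteType k F] : ∃ d : ℕ, ringKrullDim F < (d : WithBot ℕ∞) := by
  obtain ⟨n, f, hf⟩ := Algebra.FiniteType.iff_quotient_mvPolynomial''.mp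
    (inferInstance : Algebra.FiniteType k F)
  refine ⟨n + 1, ?_⟩
  have h1 : ringKrullDim F ≤ ringKrullDim (MvPolynomial (Fin n) k) :=
    ringKrullDim_le_of_surjective f.toRingHom hf
  rw [MvPolynomial.ringKrullDim_of_isNoetherianRing, ringKrullDim_eq_zero_of_field, zero_add,
    Nat.card_fin] at h1
  refine lt_of_le_of_lt h1 ?_
  exact_mod_cast Nat.lt_succ_self n

/-- a nontrivial Noetherian Jacobson ring has an open point or a nonunit nonzerodivisor. -/
theorem exists_open_point_or_nzd (F : Type u) [CommRing F] [IsNoetherianRing F]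
    [IsJacobsonRing F] [Nontrivial F] :
    (∃ x : PrimeSpectrum F, IsOpen ({x} : Set (PrimeSpectrum F))) ∨
      ∃ z : F, z ∈ nonZeroDivisors F ∧ ¬ IsUnit z := by
  by_contra hcon
  push Not at hcon
  obtain ⟨hno, hunit⟩ := hcon
  have hass : ∀ m : Ideal F, m.IsMaximal → m ∈ associatedPrimes F F := by
    intro m hm
    have hfin := associatedPrimes.finite F F
    have hsub : (m : Set F) ⊆ ⋃ P ∈ (↑hfin.toFinset : Set (Ideal F)), ((id P : Ideal F) : Set F) := by
      rw [hfin.coe_toFinset]
      show (m : Set F) ⊆ ⋃ P ∈ associatedPrimes F F, (P : Set F)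
      rw [biUnion_associatedPrimes_eq_compl_nonZeroDivisors]
      intro z hz hnzd
      exact hm.ne_top (Ideal.eq_top_of_isUnit_mem _ hz (hunit z hnzd))
    obtain ⟨P, hP, hmP⟩ := (Ideal.subset_union_prime (s := hfin.toFinset) (f := id) ⊥ ⊥
      (fun i hi _ _ => by
        rw [hfin.mem_toFinset] at hi
        exact hi.isPrime)).mp hsub
    rw [hfin.mem_toFinset] at hP
    have hPprime : (P : Ideal F).IsPrime := hP.isPrime
    have : m = P := hm.eq_of_le hPprime.ne_top hmP
    rw [this]
    exact hP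
  have hfinmax : {m : Ideal F | m.IsMaximal}.Finite :=
    (associatedPrimes.finite F F).subset hass
  obtain ⟨M, hM⟩ := Ideal.exists_maximal F
  obtain ⟨P, hP, -⟩ := Ideal.exists_minimalPrimes_le (J := M) (I := ⊥) bot_le
  haveI hPprime : P.IsPrime := hP.1.1
  -- `P` is maximal
  have hPmax : P.IsMaximal := by
    have hjac : P.jacobson = P := IsJacobsonRing.out inferInstance hPprime.isRadical
    have hTfin : {J : Ideal F | P ≤ J ∧ J.IsMaximal}.Finite :=
      hfinmax.subset (fun J hJ => hJ.2)
    have h1 : hTfin.toFinset.inf id ≤ P := by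
      rw [Finset.inf_id_eq_sInf, hTfin.coe_toFinset]
      exact hjac.le
    obtain ⟨J, hJ, hJP⟩ := (Ideal.IsPrime.inf_le' hPprime).mp h1
    rw [hTfin.mem_toFinset] at hJ
    have : J = P := le_antisymm hJP hJ.1
    rw [← this]
    exact hJ.2
  refine hno (⟨P, hPprime⟩ : PrimeSpectrum F) ?_
  have h3 : IsClosed ({(⟨P, hPprime⟩ : PrimeSpectrum F)} : Set (PrimeSpectrum F)) ∧
      StableUnderGeneralization ({(⟨P, hPprime⟩ : PrimeSpectrum F)} : Set (PrimeSpectrum F)) := by
    refine ⟨?_, ?_⟩
    · exact (PrimeSpectrum.isClosed_singleton_iff_isMaximal _).mpr hPmax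
    · intro x y hyx hx
      rw [Set.mem_singleton_iff] at hx ⊢
      subst hx
      rw [← PrimeSpectrum.le_iff_specializes] at hyx
      have h2 : P ≤ y.asIdeal := hP.2 ⟨y.isPrime, bot_le⟩ hyx
      exact PrimeSpectrum.ext (le_antisymm hyx h2)
  exact ((PrimeSpectrum.isOpen_singleton_tfae_of_isNoetherian_of_isJacobsonRing
    (⟨P, hPprime⟩ : PrimeSpectrum F)).out 2 0).mp h3

section Ind
variable (R : Type u) [CommRing R] (p : Ideal R) [p.IsPrime]

theorem comap_fiber {S : Type u} [CommRing S] [Algebra R S] (n : Ideal (p.Fiber S)) [n.IsPrime] :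
    (n.comap Algebra.TensorProduct.includeRight.toRingHom).comap (algebraMap R S) = p := by
  rw [Ideal.comap_comap]
  have h1 : (Algebra.TensorProduct.includeRight.toRingHom :
      S →+* p.Fiber S).comp (algebraMap R S) = algebraMap R (p.Fiber S) := by
    ext r
    exact (Algebra.TensorProduct.includeRight (R := R) (A := p.ResidueField) (B := S)).commutes r
  rw [h1]
  exact (Ideal.over_def n p).symm

theorem exists_qf_point (d : ℕ) :
    ∀ (S : Type u) [CommRing S] [Algebra R S] [Algebra.FinitePresentation R S],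
      (∀ (q : Ideal S) [q.IsPrime], q.comap (algebraMap R S) = p →
        Module.Flat R (Localization.AtPrime q)) →
      Nontrivial (p.Fiber S) → ringKrullDim (p.Fiber S) < (d : WithBot ℕ∞) →
      ∃ (S₁ : Type u) (_ : CommRing S₁) (_ : Algebra R S₁), Algebra.FinitePresentation R S₁ ∧
        Nonempty (S →ₐ[R] S₁) ∧ ∃ (q₁ : Ideal S₁) (_ : q₁.IsPrime),
          q₁.comap (algebraMap R S₁) = p ∧ Algebra.QuasiFiniteAt R q₁ ∧
          Module.Flat R (Localization.AtPrime q₁) := by
  induction d with
  | zero =>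
    intro S _ _ _ hS hnt hdim
    exfalso
    have h0 := ringKrullDim_nonneg_of_nontrivial (R := p.Fiber S)
    exact absurd hdim (not_lt.mpr (by exact_mod_cast h0))
  | succ d ih =>
    intro S _ _ _ hS hnt hdim
    haveI : IsNoetherianRing (p.Fiber S) :=
      Algebra.FiniteType.isNoetherianRing p.ResidueField _
    haveI : IsJacobsonRing (p.Fiber S) := isJacobsonRing_of_finiteType (A := p.ResidueField)
    rcases exists_open_point_or_nzd (p.Fiber S) with ⟨x, hx⟩ | ⟨z, hz, hzu⟩
    · -- an isolated point of the fibre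
      haveI : Algebra.QuasiFiniteAt p.ResidueField x.asIdeal :=
        Algebra.QuasiFiniteAt.of_isOpen_singleton x hx
      have hq := comap_fiber R p x.asIdeal
      haveI : (x.asIdeal.comap Algebra.TensorProduct.includeRight.toRingHom :
          Ideal S).LiesOver p := ⟨hq.symm⟩
      haveI : Algebra.QuasiFiniteAt R
          (x.asIdeal.comap Algebra.TensorProduct.includeRight.toRingHom : Ideal S) :=
        Algebra.QuasiFiniteAt.of_quasiFiniteAt_residueField p _ x.asIdeal rfl
      exact ⟨S, _, _, inferInstance, ⟨AlgHom.id R S⟩, _, inferInstance, hq, inferInstance,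
        hS _ hq⟩
    · -- slice by a fibrewise nonzerodivisor
      obtain ⟨r, hr, f, hrf⟩ := Ideal.Fiber.exists_smul_eq_one_tmul p z
      have hru : IsUnit (algebraMap R (p.Fiber S) r) := by
        rw [IsScalarTower.algebraMap_apply R p.ResidueField (p.Fiber S)]
        refine IsUnit.map _ (isUnit_iff_ne_zero.mpr ?_)
        rw [Ne, Ideal.algebraMap_residueField_eq_zero]
        exact hr
      have hf : (1 : p.ResidueField) ⊗ₜ[R] f ∈ nonZeroDivisors (p.Fiber S) := by
        rw [← hrf, Algebra.smul_def]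
        exact mul_mem hru.mem_nonZeroDivisors hz
      have hfu : ¬ IsUnit ((1 : p.ResidueField) ⊗ₜ[R] f : p.Fiber S) := by
        rw [← hrf, Algebra.smul_def]
        intro h
        exact hzu (isUnit_of_mul_isUnit_right h)
      obtain ⟨n, hn, hfn⟩ := exists_max_ideal_of_mem_nonunits (mem_nonunits_iff.mpr hfu)
      haveI : n.IsPrime := hn.isPrime
      have hq := comap_fiber R p n
      have hfq : f ∈ (n.comap Algebra.TensorProduct.includeRight.toRingHom : Ideal S) := hfn
      -- the slice
      haveI hfpT : Algebra.FinitePresentation R (S ⧸ Ideal.span {f}) :=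
        Algebra.FinitePresentation.quotient (Submodule.fg_span_singleton f)
      have hT := flat_quot_atPrime p f hf hS
      -- a prime of the slice over `p`
      have hker : RingHom.ker (Ideal.Quotient.mk (Ideal.span {f})) ≤
          (n.comap Algebra.TensorProduct.includeRight.toRingHom : Ideal S) := by
        rw [Ideal.mk_ker, Ideal.span_singleton_le_iff_mem]
        exact hfq
      haveI hQ₀ : ((n.comap Algebra.TensorProduct.includeRight.toRingHom : Ideal S).map
          (Ideal.Quotient.mk (Ideal.span {f}))).IsPrime :=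
        Ideal.map_isPrime_of_surjective Ideal.Quotient.mk_surjective hker
      have hQ₀c : ((n.comap Algebra.TensorProduct.includeRight.toRingHom : Ideal S).map
          (Ideal.Quotient.mk (Ideal.span {f}))).comap (Ideal.Quotient.mk (Ideal.span {f})) =
          (n.comap Algebra.TensorProduct.includeRight.toRingHom : Ideal S) := by
        rw [Ideal.comap_map_of_surjective _ Ideal.Quotient.mk_surjective]
        exact sup_eq_left.mpr hker
      have hQ₀p : ((n.comap Algebra.TensorProduct.includeRight.toRingHom : Ideal S).map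
          (Ideal.Quotient.mk (Ideal.span {f}))).comap
          (algebraMap R (S ⧸ Ideal.span {f})) = p := by
        have : algebraMap R (S ⧸ Ideal.span {f}) =
            (Ideal.Quotient.mk (Ideal.span {f})).comp (algebraMap R S) := rfl
        rw [this, ← Ideal.comap_comap, hQ₀c, hq]
      have hntT : Nontrivial (p.Fiber (S ⧸ Ideal.span {f})) := by
        rw [← PrimeSpectrum.nonempty_iff_nontrivial]
        exact ⟨PrimeSpectrum.preimageEquivFiber R (S ⧸ Ideal.span {f}) ⟨p, inferInstance⟩
          ⟨⟨_, hQ₀⟩, PrimeSpectrum.ext hQ₀p⟩⟩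
      -- dimension drops
      let π : p.Fiber S →ₐ[p.ResidueField] p.Fiber (S ⧸ Ideal.span {f}) :=
        Algebra.TensorProduct.map (AlgHom.id p.ResidueField p.ResidueField)
          (Ideal.Quotient.mkₐ R (Ideal.span {f}))
      have hπsurj : Function.Surjective π := by
        intro t
        induction t using TensorProduct.induction_on with
        | zero => exact ⟨0, map_zero _⟩
        | tmul a b =>
          obtain ⟨s, rfl⟩ := Ideal.Quotient.mk_surjective b
          exact ⟨a ⊗ₜ s, by simp [π]⟩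
        | add t₁ t₂ h₁ h₂ =>
          obtain ⟨u₁, rfl⟩ := h₁
          obtain ⟨u₂, rfl⟩ := h₂
          exact ⟨u₁ + u₂, map_add _ _ _⟩
      have hπf : π.toRingHom ((1 : p.ResidueField) ⊗ₜ[R] f) = 0 := by
        show π ((1 : p.ResidueField) ⊗ₜ[R] f) = 0
        have h0 : Ideal.Quotient.mkₐ R (Ideal.span {f}) f = 0 := by
          rw [Ideal.Quotient.mkₐ_eq_mk, Ideal.Quotient.eq_zero_iff_mem]
          exact Ideal.mem_span_singleton_self f
        simp only [π, Algebra.TensorProduct.map_tmul, h0, TensorProduct.tmul_zero]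
      have hdim' := ringKrullDim_succ_le_of_surjective π.toRingHom hπsurj hf hπf
      have hdimT := lt_of_add_one_le_of_lt hdim' hdim
      obtain ⟨S₁, i1, i2, hfp₁, ⟨ψ⟩, q₁, hq₁, hq₁p, hqf, hfl⟩ :=
        ih (S ⧸ Ideal.span {f}) (fun Q _ hQ => hT Q hQ) hntT hdimT
      exact ⟨S₁, i1, i2, hfp₁, ⟨ψ.comp (Ideal.Quotient.mkₐ R (Ideal.span {f}))⟩, q₁, hq₁, hq₁p,
        hqf, hfl⟩

/-- the local statement. -/
theorem exists_local (S : Type u) [CommRing S] [Algebra R S] [Module.Flat R S]
    [Algebra.FinitePresentation R S] (hnt : Nontrivial (p.Fiber S)) :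
    ∃ (S' : Type u) (_ : CommRing S') (_ : Algebra R S'), Algebra.QuasiFinite R S' ∧
      Module.Flat R S' ∧ Algebra.FinitePresentation R S' ∧ Nonempty (S →ₐ[R] S') ∧
      (⟨p, inferInstance⟩ : PrimeSpectrum R) ∈
        Set.range (PrimeSpectrum.comap (algebraMap R S')) := by
  obtain ⟨d, hd⟩ := exists_dim_lt p.ResidueField (p.Fiber S)
  obtain ⟨S₁, i1, i2, hfp, ⟨ψ⟩, q₁, hq₁, hq₁p, hqf, hfl⟩ :=
    exists_qf_point R p d S (fun q _ _ => Module.Flat.trans R S _) hnt hd
  obtain ⟨g, hg, hqfg, hflg⟩ := exists_away q₁ hfl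
  have hdisj : Disjoint (Submonoid.powers g : Set S₁) (q₁ : Set S₁) :=
    Set.disjoint_left.mpr (by
      rintro _ ⟨n, rfl⟩ h
      exact hg (hq₁.mem_of_pow_mem n h))
  haveI : Algebra.FinitePresentation S₁ (Localization.Away g) :=
    IsLocalization.Away.finitePresentation g
  refine ⟨Localization.Away g, inferInstance, inferInstance, hqfg, hflg,
    Algebra.FinitePresentation.trans R S₁ _,
    ⟨(IsScalarTower.toAlgHom R S₁ (Localization.Away g)).comp ψ⟩, ?_⟩
  refine ⟨⟨q₁.map (algebraMap S₁ (Localization.Away g)),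
    IsLocalization.isPrime_of_isPrime_disjoint (Submonoid.powers g) _ q₁ hq₁ hdisj⟩, ?_⟩
  apply PrimeSpectrum.ext
  show (q₁.map (algebraMap S₁ (Localization.Away g))).comap
    (algebraMap R (Localization.Away g)) = p
  have h := IsLocalization.under_map_of_isPrime_disjoint (Submonoid.powers g)
    (Localization.Away g) hq₁ hdisj
  rw [Ideal.under_def] at h
  rw [IsScalarTower.algebraMap_eq R S₁ (Localization.Away g), ← Ideal.comap_comap, h, hq₁p]

end Ind

end Groth.Agent.Helper8.QFSec3
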