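import Mathlib
import Groth.Prelude
import Groth.Agent.Helper2.InjFlatFin

set_option autoImplicit false
open IsLocalRing RingTheory.Sequence Pointwise
universe u

namespace Groth.Agent.Helper8.SliceA

/-- cancellation of a natural number in `WithBot ℕ∞`. -/
theorem cancel_nat (x : WithBot ℕ∞) (n : ℕ)
    (h : x + ((n : ℕ∞) : WithBot ℕ∞) = ((n : ℕ∞) : WithBot ℕ∞)) : x = 0 := by
  induction x using WithBot.recBotCoe with
  | bot => simp at h
  | coe y =>
    rw [← WithBot.coe_add, WithBot.coe_inj] at h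
    induction y using ENat.recTopCoe with
    | top =>
      exfalso
      rw [top_add] at h
      exact ENat.top_ne_coe n h
    | coe m =>
      have h2 : m + n = n := by exact_mod_cast h
      have h3 : m = 0 := by omega
      subst h3
      rfl

/-- a Cohen–Macaulay local ring has a regular sequence in the maximal ideal cutting out the
closed point. -/
theorem exists_regular_of_cm (L : Type u) [CommRing L] (h : LocCoh.IsCohenMacaulayLocalRing L) :
    ∃ ls : List L, IsWeaklyRegular L ls ∧ (∀ l ∈ ls, l ∈ maximalIdeal L) ∧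
      ∀ P : Ideal L, P.IsPrime → Ideal.ofList ls ≤ P → P = maximalIdeal L := by
  haveI : IsNoetherianRing L := h.toIsNoetherian
  haveI : IsLocalRing L := h.toIsLocalRing
  have heq := h.supportDim_eq_depth
  rw [Module.supportDim_self_eq_ringKrullDim] at heq
  have hne : ¬ (maximalIdeal L) • (⊤ : Submodule L L) = ⊤ := by
    rw [smul_eq_mul, Ideal.mul_top]
    exact (maximalIdeal.isMaximal L).ne_top
  unfold LocCoh.depth LocCoh.idealDepth at heq
  rw [if_neg hne, iSup_subtype'] at heq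
  haveI : Nonempty {rs : List L // IsWeaklyRegular L rs ∧ ∀ r ∈ rs, r ∈ maximalIdeal L} :=
    ⟨⟨[], IsWeaklyRegular.nil L L, by simp⟩⟩
  have hlt : (⨆ x : {rs : List L // IsWeaklyRegular L rs ∧ ∀ r ∈ rs, r ∈ maximalIdeal L},
      (x.1.length : ℕ∞)) < ⊤ := by
    rw [lt_top_iff_ne_top]
    intro htop
    rw [htop] at heq
    exact ringKrullDim_ne_top heq
  obtain ⟨⟨ls, hwr, hmem⟩, hls⟩ := ENat.exists_eq_iSup_of_lt_top hlt
  rw [← hls] at heq
  have hreg : IsRegular L ls :=
    (IsLocalRing.isRegular_iff_isWeaklyRegular_of_subset_maximalIdeal hmem).mpr hwr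
  have hdim := ringKrullDim_add_length_eq_ringKrullDim_of_isRegular ls hreg
  rw [heq] at hdim
  have h0 : ringKrullDim (L ⧸ Ideal.ofList ls) = 0 :=
    cancel_nat _ ls.length (by exact_mod_cast hdim)
  haveI : Ring.KrullDimLE 0 (L ⧸ Ideal.ofList ls) := by
    rw [Ring.krullDimLE_iff]
    exact h0.le
  refine ⟨ls, hwr, hmem, fun P hP hle => ?_⟩
  have hker : RingHom.ker (Ideal.Quotient.mk (Ideal.ofList ls)) ≤ P := by rwa [Ideal.mk_ker]
  haveI hP' : (P.map (Ideal.Quotient.mk (Ideal.ofList ls))).IsPrime :=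
    Ideal.map_isPrime_of_surjective Ideal.Quotient.mk_surjective hker
  haveI hmax : (P.map (Ideal.Quotient.mk (Ideal.ofList ls))).IsMaximal :=
    Ideal.isMaximal_of_isPrime _
  have hc : (P.map (Ideal.Quotient.mk (Ideal.ofList ls))).comap
      (Ideal.Quotient.mk (Ideal.ofList ls)) = P := by
    rw [Ideal.comap_map_of_surjective _ Ideal.Quotient.mk_surjective]
    exact sup_eq_left.mpr hker
  haveI : P.IsMaximal := hc ▸ Ideal.comap_isMaximal_of_surjective _ Ideal.Quotient.mk_surjective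
  exact IsLocalRing.eq_maximalIdeal ‹_›

section Quot
variable {T : Type u} [CommRing T]

/-- membership in `K • ⊤` inside `T ⧸ J`. -/
theorem mk_mem_smul_top_iff (J K : Ideal T) (t : T) :
    (Ideal.Quotient.mk J t) ∈ (K • ⊤ : Submodule T (T ⧸ J)) ↔ t ∈ K ⊔ J := by
  have h1 : (K • ⊤ : Submodule T (T ⧸ J)) = Submodule.map (Submodule.mkQ J) K := by
    have h2 : Submodule.map (Submodule.mkQ J) (K • (⊤ : Submodule T T)) =
        K • Submodule.map (Submodule.mkQ J) ⊤ := Submodule.map_smul'' _ _ _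
    rw [Submodule.map_top, Submodule.range_mkQ] at h2
    rw [← h2, smul_eq_mul, Ideal.mul_top]
  rw [h1]
  constructor
  · rintro ⟨y, hy, hyt⟩
    have h3 : y - t ∈ J := by
      rw [← Ideal.Quotient.eq]
      exact hyt
    have ht : t = y - (y - t) := by ring
    rw [ht]
    exact Ideal.sub_mem _ (Ideal.mem_sup_left hy) (Ideal.mem_sup_right h3)
  · intro ht
    obtain ⟨y, hy, z, hz, rfl⟩ := Submodule.mem_sup.mp ht
    refine ⟨y, hy, ?_⟩
    show Ideal.Quotient.mk J y = Ideal.Quotient.mk J (y + z)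
    rw [map_add, Ideal.Quotient.eq_zero_iff_mem.mpr hz, add_zero]

/-- `(T/J)/x(T/J) ≅ T/(J + (x))`. -/
noncomputable def quotSMulTopEquiv (J : Ideal T) (x : T) :
    QuotSMulTop x (T ⧸ J) ≃ₗ[T] T ⧸ (J ⊔ Ideal.span {x}) :=
  (Submodule.quotEquivOfEq _ _ (by
    have e1 : (Ideal.span {x} : Ideal T) = x • (⊤ : Submodule T T) := by
      rw [← Submodule.ideal_span_singleton_smul, smul_eq_mul, Ideal.mul_top]
    rw [e1, Submodule.map_pointwise_smul, Submodule.map_top, Submodule.range_mkQ] :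
    x • (⊤ : Submodule T (T ⧸ J)) = Submodule.map J.mkQ (Ideal.span {x}))) ≪≫ₗ
    Submodule.quotientQuotientEquivQuotientSup J (Ideal.span {x})

theorem fp_quot (J : Ideal T) (hJ : J.FG) : Module.FinitePresentation T (T ⧸ J) := by
  refine Module.finitePresentation_of_surjective (Submodule.mkQ J) (Submodule.mkQ_surjective _) ?_
  rw [Submodule.ker_mkQ]
  exact hJ

end Quot

/-- the local step: a fibrewise nonzerodivisor on a flat quotient is a nonzerodivisor with flat
quotient. -/
theorem local_step {R₀ T : Type u} [CommRing R₀] [CommRing T] [IsLocalRing R₀] [IsLocalRing T]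
    [Algebra R₀ T] [IsLocalHom (algebraMap R₀ T)] (hess : CAlgX.IsEssFinitePresentation R₀ T)
    (J : Ideal T) (hJ : J.FG) [Module.Flat R₀ (T ⧸ J)] (x : T)
    (hreg : ∀ t : T, x * t ∈ J ⊔ (maximalIdeal R₀).map (algebraMap R₀ T) →
      t ∈ J ⊔ (maximalIdeal R₀).map (algebraMap R₀ T)) :
    (∀ t : T, x * t ∈ J → t ∈ J) ∧ Module.Flat R₀ (T ⧸ (J ⊔ Ideal.span {x})) := by
  haveI : Module.FinitePresentation T (T ⧸ J) := fp_quot J hJ
  have key := Groth.Agent.Helper2.InjFlatFin.s2107 hess (M := T ⧸ J) (N := T ⧸ J)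
    (LinearMap.lsmul T (T ⧸ J) x) (by
      intro m hm
      obtain ⟨t, rfl⟩ := Ideal.Quotient.mk_surjective m
      have e : (LinearMap.lsmul T (T ⧸ J) x) (Ideal.Quotient.mk J t) =
          Ideal.Quotient.mk J (x * t) := rfl
      rw [e, mk_mem_smul_top_iff, sup_comm] at hm
      rw [mk_mem_smul_top_iff, sup_comm]
      exact hreg t hm)
  obtain ⟨hinj, hfl⟩ := key
  refine ⟨fun t ht => ?_, ?_⟩
  · have h0 : (LinearMap.lsmul T (T ⧸ J) x) (Ideal.Quotient.mk J t) = 0 := by
      show Ideal.Quotient.mk J (x * t) = 0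
      exact Ideal.Quotient.eq_zero_iff_mem.mpr ht
    have h1 := hinj (h0.trans (map_zero _).symm)
    exact Ideal.Quotient.eq_zero_iff_mem.mp h1
  · have hrange : LinearMap.range (LinearMap.lsmul T (T ⧸ J) x) =
        x • (⊤ : Submodule T (T ⧸ J)) := by
      ext m
      rw [LinearMap.mem_range, Submodule.mem_smul_pointwise_iff_exists]
      constructor
      · rintro ⟨y, rfl⟩
        exact ⟨y, trivial, rfl⟩
      · rintro ⟨y, -, rfl⟩
        exact ⟨y, rfl⟩
    let e : ((T ⧸ J) ⧸ LinearMap.range (LinearMap.lsmul T (T ⧸ J) x)) ≃ₗ[T]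
        T ⧸ (J ⊔ Ideal.span {x}) :=
      (Submodule.quotEquivOfEq _ _ hrange) ≪≫ₗ quotSMulTopEquiv J x
    exact Module.Flat.of_linearEquiv (e.symm.restrictScalars R₀)

end Groth.Agent.Helper8.SliceA
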