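import Mathlib
import Groth.Prelude
import Groth.Agent.Helper2.FlatDescApp
import Groth.Agent.Helper8.QFSec2

set_option autoImplicit false
open IsLocalRing
universe u

namespace Groth.Agent.Helper8.SliceB

open Groth.Agent.Helper2 Groth.Agent.Helper8

section Gen
variable {R N N' : Type u} [CommRing R] [CommRing N] [CommRing N'] [Algebra R N] [Algebra N N']
  [Algebra R N'] [IsScalarTower R N N']

/-- flatness of a localization from flatness at the primes it contains. -/
theorem flat_of_isLocalization (M : Submonoid N) [IsLocalization M N']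
    (h : ∀ (P : Ideal N) [P.IsPrime], Disjoint (M : Set N) (P : Set N) →
      Module.Flat R (Localization.AtPrime P)) :
    Module.Flat R N' := by
  refine Module.flat_of_isLocalized_maximal N' N'
    (fun P _ => Localization.AtPrime P) (fun P _ => Algebra.linearMap _ _) (fun P hP => ?_)
  haveI hqp : (P.comap (algebraMap N N')).IsPrime := Ideal.comap_isPrime _ _
  have hdisj : Disjoint (M : Set N) (P.comap (algebraMap N N') : Set N) := by
    rw [Set.disjoint_left]
    intro m hm hmP
    exact hP.ne_top (Ideal.eq_top_of_isUnit_mem _ hmP (IsLocalization.map_units N' ⟨m, hm⟩))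
  haveI : IsLocalization.AtPrime (Localization.AtPrime P) (P.comap (algebraMap N N')) :=
    IsLocalization.isLocalization_isLocalization_atPrime_isLocalization M _ P
  let e := IsLocalization.algEquiv (P.comap (algebraMap N N')).primeCompl
    (Localization.AtPrime (P.comap (algebraMap N N'))) (Localization.AtPrime P)
  haveI := h _ hdisj
  exact Module.Flat.of_linearEquiv (e.symm.toLinearEquiv.restrictScalars R)

/-- quasi-finiteness of a localization in which `r` becomes invertible, from quasi-finiteness of
the localization away from `r`. -/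
theorem quasiFinite_of_isLocalization (M : Submonoid N) [IsLocalization M N'] (r : N)
    [Algebra.QuasiFinite R (Localization.Away r)] (hr : IsUnit (algebraMap N N' r)) :
    Algebra.QuasiFinite R N' := by
  let φ : Localization.Away r →ₐ[R] N' :=
    IsLocalization.liftAlgHom (M := Submonoid.powers r)
      (f := IsScalarTower.toAlgHom R N N') (by
        rintro ⟨_, n, rfl⟩
        simpa using hr.pow n)
  have hφ : ∀ s : N, φ (algebraMap N (Localization.Away r) s) = algebraMap N N' s := fun s => by
    simp [φ]
  refine Algebra.QuasiFinite.of_forall_exists_mul_mem_range φ (fun x => ?_)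
  obtain ⟨y, m, rfl⟩ := IsLocalization.exists_mk'_eq M x
  refine ⟨algebraMap N (Localization.Away r) m, ?_, ?_⟩
  · rw [hφ]
    exact IsLocalization.map_units N' m
  · rw [hφ]
    refine ⟨algebraMap N (Localization.Away r) y, ?_⟩
    show φ (algebraMap N (Localization.Away r) y) = _
    rw [hφ]
    exact (IsLocalization.mk'_spec (M := M) _ y m).symm

end Gen

section FS
variable {R A T : Type u} [CommRing R] [CommRing A] [CommRing T] [Algebra R A] [Algebra A T]
  [Algebra R T] [IsScalarTower R A T] (q : Ideal A) [q.IsPrime]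

theorem primeCompl_map_mk (I : Ideal A) (hI : I ≤ q) [(q.map (Ideal.Quotient.mk I)).IsPrime] :
    Algebra.algebraMapSubmonoid (A ⧸ I) q.primeCompl =
      (q.map (Ideal.Quotient.mk I)).primeCompl := by
  ext z
  constructor
  · rintro ⟨s, hs, rfl⟩
    intro hmem
    have h1 : s ∈ (q.map (Ideal.Quotient.mk I)).comap (Ideal.Quotient.mk I) := hmem
    rw [Ideal.comap_map_of_surjective _ Ideal.Quotient.mk_surjective] at h1
    have h2 : q ⊔ Ideal.comap (Ideal.Quotient.mk I) ⊥ = q := by
      refine sup_eq_left.mpr ?_
      have : RingHom.ker (Ideal.Quotient.mk I) ≤ q := by rwa [Ideal.mk_ker]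
      exact this
    rw [h2] at h1
    exact hs h1
  · intro hz
    obtain ⟨s, rfl⟩ := Ideal.Quotient.mk_surjective z
    exact ⟨s, fun hs => hz (Ideal.mem_map_of_mem _ hs), rfl⟩

theorem comap_map_mk (I : Ideal A) (hI : I ≤ q) :
    (q.map (Ideal.Quotient.mk I)).comap (Ideal.Quotient.mk I) = q := by
  rw [Ideal.comap_map_of_surjective _ Ideal.Quotient.mk_surjective]
  refine sup_eq_left.mpr ?_
  have : RingHom.ker (Ideal.Quotient.mk I) ≤ q := by rwa [Ideal.mk_ker]
  exact this

variable [Algebra.FinitePresentation R A] [IsLocalization.AtPrime T q]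

/-- spreading out flatness of a quotient from the local ring to a basic open. -/
theorem flat_spread (I : Ideal A) (hI : I.FG) (hIq : I ≤ q)
    (hF : Module.Flat R (T ⧸ I.map (algebraMap A T))) :
    ∃ g : A, g ∉ q ∧ ∀ (G : A), g ∣ G → ∀ (A' : Type u) [CommRing A'] [Algebra A A']
      [Algebra R A'] [IsScalarTower R A A'] [IsLocalization.Away G A'],
      Module.Flat R (A' ⧸ I.map (algebraMap A A')) := by
  haveI hfpN : Algebra.FinitePresentation R (A ⧸ I) := Algebra.FinitePresentation.quotient hI
  have hker : RingHom.ker (Ideal.Quotient.mk I) ≤ q := by rwa [Ideal.mk_ker]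
  haveI hqN : (q.map (Ideal.Quotient.mk I)).IsPrime :=
    Ideal.map_isPrime_of_surjective Ideal.Quotient.mk_surjective hker
  haveI : IsLocalization.AtPrime (T ⧸ I.map (algebraMap A T)) (q.map (Ideal.Quotient.mk I)) := by
    show IsLocalization (q.map (Ideal.Quotient.mk I)).primeCompl _
    rw [← primeCompl_map_mk q I hIq]
    infer_instance
  haveI : IsScalarTower R (A ⧸ I) (T ⧸ I.map (algebraMap A T)) :=
    IsScalarTower.of_algebraMap_eq (fun r => by
      show Ideal.Quotient.mk _ (algebraMap R T r) =
        Ideal.Quotient.mk _ (algebraMap A T (algebraMap R A r))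
      rw [← IsScalarTower.algebraMap_apply R A T])
  have hflN : Module.Flat R (Localization.AtPrime (q.map (Ideal.Quotient.mk I))) := by
    let e := IsLocalization.algEquiv (q.map (Ideal.Quotient.mk I)).primeCompl
      (Localization.AtPrime (q.map (Ideal.Quotient.mk I))) (T ⧸ I.map (algebraMap A T))
    exact Module.Flat.of_linearEquiv (e.toLinearEquiv.restrictScalars R)
  have hopen := FlatDescApp.isOpen_flatLocus_fp (R := R) (S := A ⧸ I) (M := A ⧸ I)
  have hqU : (⟨q.map (Ideal.Quotient.mk I), hqN⟩ : PrimeSpectrum (A ⧸ I)) ∈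
      {P : PrimeSpectrum (A ⧸ I) | Module.Flat R
        (LocalizedModule P.asIdeal.primeCompl (A ⧸ I))} :=
    (QFSec2.flat_localizedModule_iff _).mpr hflN
  obtain ⟨_, ⟨gN, rfl⟩, hqg, hsub⟩ :=
    PrimeSpectrum.isTopologicalBasis_basic_opens.exists_subset_of_mem_open hqU hopen
  obtain ⟨g, rfl⟩ := Ideal.Quotient.mk_surjective gN
  have hg : g ∉ q := fun h => hqg (Ideal.mem_map_of_mem _ h)
  refine ⟨g, hg, fun G hG A' _ _ _ _ _ => ?_⟩
  haveI : IsScalarTower R (A ⧸ I) (A' ⧸ I.map (algebraMap A A')) :=
    IsScalarTower.of_algebraMap_eq (fun r => by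
      show Ideal.Quotient.mk _ (algebraMap R A' r) =
        Ideal.Quotient.mk _ (algebraMap A A' (algebraMap R A r))
      rw [← IsScalarTower.algebraMap_apply R A A'])
  refine flat_of_isLocalization (R := R) (N := A ⧸ I) (N' := A' ⧸ I.map (algebraMap A A'))
    (Algebra.algebraMapSubmonoid (A ⧸ I) (Submonoid.powers G)) (fun P _ hdisj => ?_)
  have hgP : Ideal.Quotient.mk I g ∉ P := by
    intro hmem
    obtain ⟨c, rfl⟩ := hG
    have h1 : Ideal.Quotient.mk I (g * c) ∈ P := by
      rw [map_mul]
      exact Ideal.mul_mem_right _ _ hmem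
    exact Set.disjoint_left.mp hdisj ⟨g * c, Submonoid.mem_powers _, rfl⟩ h1
  exact (QFSec2.flat_localizedModule_iff P).mp
    (hsub (show (⟨P, inferInstance⟩ : PrimeSpectrum (A ⧸ I)) ∈ _ from hgP))

end FS

end Groth.Agent.Helper8.SliceB
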