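import Mathlib
import Groth.Prelude
import Groth.Agent.Helper2.KerFP
import Groth.Agent.Helper8.SliceA
import Groth.Agent.Helper8.SliceB

set_option autoImplicit false
open IsLocalRing RingTheory.Sequence Pointwise
universe u

namespace Groth.Agent.Helper8.SliceC

open Groth.Agent.Helper2 Groth.Agent.Helper8

/-- a finitely generated submodule whose elements are each killed by an element outside a prime
is killed by a single element outside the prime. -/
theorem exists_smul_eq_zero_of_fg {B M : Type u} [CommRing B] [AddCommGroup M] [Module B M]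
    (q : Ideal B) [q.IsPrime] (K : Submodule B M) (hK : K.FG)
    (H : ∀ m ∈ K, ∃ t : B, t ∉ q ∧ t • m = 0) :
    ∃ t : B, t ∉ q ∧ ∀ m ∈ K, t • m = 0 := by
  classical
  obtain ⟨S, hS⟩ := hK
  have hsub : ∀ g ∈ S, g ∈ K := fun g hg => hS ▸ Submodule.subset_span hg
  choose! τ hτ using H
  refine ⟨∏ g ∈ S, τ g, ?_, ?_⟩
  · intro hmem
    obtain ⟨g, hg, hgq⟩ := (Ideal.IsPrime.prod_mem_iff.mp hmem)
    exact (hτ g (hsub g hg)).1 hgq
  · intro m hm
    rw [← hS] at hm
    induction hm using Submodule.span_induction with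
    | mem g hg =>
      obtain ⟨c, hc⟩ := Finset.dvd_prod_of_mem τ hg
      rw [hc, mul_comm, mul_smul, (hτ g (hsub g hg)).2, smul_zero]
    | zero => exact smul_zero _
    | add a b _ _ ha hb => rw [smul_add, ha, hb, add_zero]
    | smul r a _ ha => rw [smul_comm, ha, smul_zero]

section Step
variable {R A T : Type u} [CommRing R] [CommRing A] [CommRing T] [Algebra R A] [Algebra A T]
  [Algebra R T] [IsScalarTower R A T] [Algebra.FinitePresentation R A] (q : Ideal A) [q.IsPrime]
  [IsLocalization.AtPrime T q]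

set_option maxHeartbeats 1000000 in
theorem one_step_aux (I : Ideal A) (hI : I.FG) (a : A) (g₁ : A) (hg₁ : g₁ ∉ q)
    (B : Type u) [CommRing B] [Algebra A B] [Algebra R B] [IsScalarTower R A B]
    [IsLocalization.Away g₁ B]
    [Module.Flat R (B ⧸ (I ⊔ Ideal.span {a}).map (algebraMap A B))]
    (hreg : ∀ t : T, algebraMap A T a * t ∈ I.map (algebraMap A T) →
      t ∈ I.map (algebraMap A T)) :
    ∃ g : A, g ∉ q ∧ ∀ b : A, a * b ∈ I → ∃ n : ℕ, g ^ n * b ∈ I := by
  haveI : Algebra.FinitePresentation A B := IsLocalization.Away.finitePresentation g₁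
  haveI : Algebra.FinitePresentation R B := Algebra.FinitePresentation.trans R A B
  have hle : I.map (algebraMap A B) ≤ (I ⊔ Ideal.span {a}).map (algebraMap A B) :=
    Ideal.map_mono le_sup_left
  have hIBfg : (I.map (algebraMap A B)).FG := hI.map _
  have hI'fg : (I ⊔ Ideal.span {a}).FG := Submodule.FG.sup hI (Submodule.fg_span_singleton a)
  have hI'Bfg : ((I ⊔ Ideal.span {a}).map (algebraMap A B)).FG := hI'fg.map _
  haveI : Module.FinitePresentation B (B ⧸ I.map (algebraMap A B)) := SliceA.fp_quot _ hIBfg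
  haveI : Module.FinitePresentation B (B ⧸ (I ⊔ Ideal.span {a}).map (algebraMap A B)) :=
    SliceA.fp_quot _ hI'Bfg
  let π : (B ⧸ I.map (algebraMap A B)) →ₗ[B] (B ⧸ (I ⊔ Ideal.span {a}).map (algebraMap A B)) :=
    Submodule.mapQ _ _ LinearMap.id (by rw [Submodule.comap_id]; exact hle)
  have hπ : Function.Surjective π := by
    intro c
    obtain ⟨b, rfl⟩ := Ideal.Quotient.mk_surjective c
    exact ⟨Ideal.Quotient.mk _ b, rfl⟩
  haveI hkfp : Module.FinitePresentation B (LinearMap.ker π) :=
    KerFP.fp_ker_of_flat (A := R) (B := B) (B ⧸ (I ⊔ Ideal.span {a}).map (algebraMap A B)) π hπ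
  have hμmem : ∀ m : B ⧸ I.map (algebraMap A B),
      (LinearMap.lsmul B (B ⧸ I.map (algebraMap A B)) (algebraMap A B a)) m ∈
        LinearMap.ker π := by
    intro m
    obtain ⟨b, rfl⟩ := Ideal.Quotient.mk_surjective m
    rw [LinearMap.mem_ker]
    show Ideal.Quotient.mk ((I ⊔ Ideal.span {a}).map (algebraMap A B)) (algebraMap A B a * b) = 0
    rw [Ideal.Quotient.eq_zero_iff_mem]
    exact Ideal.mul_mem_right _ _ (Ideal.mem_map_of_mem _
      (Ideal.mem_sup_right (Ideal.mem_span_singleton_self a)))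
  let μ : (B ⧸ I.map (algebraMap A B)) →ₗ[B] LinearMap.ker π :=
    LinearMap.codRestrict _ (LinearMap.lsmul B (B ⧸ I.map (algebraMap A B)) (algebraMap A B a))
      hμmem
  have hμsurj : Function.Surjective μ := by
    rintro ⟨c, hc⟩
    obtain ⟨b, rfl⟩ := Ideal.Quotient.mk_surjective c
    have hb : b ∈ I.map (algebraMap A B) ⊔ Ideal.span {algebraMap A B a} := by
      have h0 : Ideal.Quotient.mk ((I ⊔ Ideal.span {a}).map (algebraMap A B)) b = 0 := hc
      rw [Ideal.Quotient.eq_zero_iff_mem, Ideal.map_sup, Ideal.map_span,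
        Set.image_singleton] at h0
      exact h0
    obtain ⟨i, hi, z, hz, rfl⟩ := Submodule.mem_sup.mp hb
    obtain ⟨c', rfl⟩ := Ideal.mem_span_singleton'.mp hz
    refine ⟨Ideal.Quotient.mk _ c', Subtype.ext ?_⟩
    show Ideal.Quotient.mk (I.map (algebraMap A B)) (algebraMap A B a * c') =
      Ideal.Quotient.mk (I.map (algebraMap A B)) (i + c' * algebraMap A B a)
    rw [map_add, Ideal.Quotient.eq_zero_iff_mem.mpr hi, zero_add, mul_comm]
  have hKfg : (LinearMap.ker μ).FG := Module.FinitePresentation.fg_ker μ hμsurj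
  have hdisj : Disjoint (Submonoid.powers g₁ : Set A) (q : Set A) :=
    Set.disjoint_left.mpr (by
      rintro _ ⟨n, rfl⟩ h
      exact hg₁ (Ideal.IsPrime.mem_of_pow_mem inferInstance n h))
  haveI hqB : (q.map (algebraMap A B)).IsPrime :=
    IsLocalization.isPrime_of_isPrime_disjoint (Submonoid.powers g₁) B q inferInstance hdisj
  have hloc : ∀ m ∈ LinearMap.ker μ, ∃ t : B, t ∉ q.map (algebraMap A B) ∧ t • m = 0 := by
    intro m hm
    obtain ⟨b', rfl⟩ := Ideal.Quotient.mk_surjective m
    obtain ⟨b, ⟨_, k, rfl⟩, rfl⟩ := IsLocalization.exists_mk'_eq (Submonoid.powers g₁) b'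
    have h1 : algebraMap A B a * IsLocalization.mk' B b
        (⟨g₁ ^ k, k, rfl⟩ : Submonoid.powers g₁) ∈ I.map (algebraMap A B) := by
      have h0 := congrArg Subtype.val (LinearMap.mem_ker.mp hm)
      exact Ideal.Quotient.eq_zero_iff_mem.mp h0
    rw [IsLocalization.mul_mk'_eq_mk'_of_mul,
      IsLocalization.mk'_mem_map_algebraMap_iff (Submonoid.powers g₁)] at h1
    obtain ⟨_, ⟨j, rfl⟩, hj⟩ := h1
    have h2 : algebraMap A T a * algebraMap A T (g₁ ^ j * b) ∈ I.map (algebraMap A T) := by
      rw [← map_mul]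
      apply Ideal.mem_map_of_mem
      have : a * (g₁ ^ j * b) = g₁ ^ j * (a * b) := by ring
      rw [this]
      exact hj
    have h3 := hreg _ h2
    rw [IsLocalization.algebraMap_mem_map_algebraMap_iff q.primeCompl] at h3
    obtain ⟨s, hs, hsI⟩ := h3
    refine ⟨algebraMap A B s, ?_, ?_⟩
    · intro hmem
      have h4 : s ∈ (q.map (algebraMap A B)).comap (algebraMap A B) := hmem
      have h5 := IsLocalization.under_map_of_isPrime_disjoint (Submonoid.powers g₁) B
        (inferInstance : q.IsPrime) hdisj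
      rw [Ideal.under_def] at h5
      rw [h5] at h4
      exact hs h4
    · show Ideal.Quotient.mk (I.map (algebraMap A B)) (algebraMap A B s * IsLocalization.mk' B b
        (⟨g₁ ^ k, k, rfl⟩ : Submonoid.powers g₁)) = 0
      rw [Ideal.Quotient.eq_zero_iff_mem, IsLocalization.mul_mk'_eq_mk'_of_mul,
        IsLocalization.mk'_mem_map_algebraMap_iff (Submonoid.powers g₁)]
      refine ⟨g₁ ^ j, ⟨j, rfl⟩, ?_⟩
      have : g₁ ^ j * (s * b) = s * (g₁ ^ j * b) := by ring
      rw [this]
      exact hsI
  obtain ⟨t, ht, htK⟩ := exists_smul_eq_zero_of_fg (q.map (algebraMap A B)) (LinearMap.ker μ)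
    hKfg hloc
  obtain ⟨y, ⟨_, k, rfl⟩, rfl⟩ := IsLocalization.exists_mk'_eq (Submonoid.powers g₁) t
  have hy : y ∉ q := by
    intro hyq
    apply ht
    rw [IsLocalization.mk'_mem_map_algebraMap_iff (Submonoid.powers g₁)]
    exact ⟨1, Submonoid.one_mem _, by rw [one_mul]; exact hyq⟩
  refine ⟨g₁ * y, fun h => (Ideal.IsPrime.mem_or_mem inferInstance h).elim hg₁ hy,
    fun b hb => ?_⟩
  have hmem : Ideal.Quotient.mk (I.map (algebraMap A B)) (algebraMap A B b) ∈
      LinearMap.ker μ := by
    rw [LinearMap.mem_ker]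
    apply Subtype.ext
    show Ideal.Quotient.mk (I.map (algebraMap A B)) (algebraMap A B a * algebraMap A B b) = 0
    rw [Ideal.Quotient.eq_zero_iff_mem, ← map_mul]
    exact Ideal.mem_map_of_mem _ hb
  have h4 := htK _ hmem
  have h5 : IsLocalization.mk' B y (⟨g₁ ^ k, k, rfl⟩ : Submonoid.powers g₁) *
      algebraMap A B b ∈ I.map (algebraMap A B) := Ideal.Quotient.eq_zero_iff_mem.mp h4
  rw [mul_comm, IsLocalization.mul_mk'_eq_mk'_of_mul,
    IsLocalization.mk'_mem_map_algebraMap_iff (Submonoid.powers g₁)] at h5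
  obtain ⟨_, ⟨j, rfl⟩, hj⟩ := h5
  refine ⟨j + 1, ?_⟩
  have : (g₁ * y) ^ (j + 1) * b = (g₁ * y ^ j) * (g₁ ^ j * (b * y)) := by ring
  rw [this]
  exact Ideal.mul_mem_left _ _ hj

/-- spreading out a nonzerodivisor with flat quotient. -/
theorem one_step (I : Ideal A) (hI : I.FG) (hIq : I ≤ q) (a : A) (ha : a ∈ q)
    (hF : Module.Flat R (T ⧸ (I ⊔ Ideal.span {a}).map (algebraMap A T)))
    (hreg : ∀ t : T, algebraMap A T a * t ∈ I.map (algebraMap A T) →
      t ∈ I.map (algebraMap A T)) :
    ∃ g : A, g ∉ q ∧ ∀ b : A, a * b ∈ I → ∃ n : ℕ, g ^ n * b ∈ I := by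
  have hI' : (I ⊔ Ideal.span {a}).FG := Submodule.FG.sup hI (Submodule.fg_span_singleton a)
  have hI'q : I ⊔ Ideal.span {a} ≤ q :=
    sup_le hIq ((Ideal.span_singleton_le_iff_mem _).mpr ha)
  obtain ⟨g₁, hg₁, hfl⟩ := SliceB.flat_spread q (I ⊔ Ideal.span {a}) hI' hI'q hF
  haveI : Module.Flat R (Localization.Away g₁ ⧸
      (I ⊔ Ideal.span {a}).map (algebraMap A (Localization.Away g₁))) :=
    hfl g₁ dvd_rfl (Localization.Away g₁)
  exact one_step_aux (R := R) q I hI a g₁ hg₁ (Localization.Away g₁) hreg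

end Step

section Ind
variable {R A T : Type u} [CommRing R] [CommRing A] [CommRing T] [Algebra R A] [Algebra A T]
  [Algebra R T] [IsScalarTower R A T] [Algebra.FinitePresentation R A] (q : Ideal A) [q.IsPrime]
  [IsLocalization.AtPrime T q] (p : Ideal R) [p.IsPrime]
  [Algebra (Localization.AtPrime p) T] [IsScalarTower R (Localization.AtPrime p) T] [IsLocalRing T]
  [IsLocalHom (algebraMap (Localization.AtPrime p) T)]

set_option maxHeartbeats 1000000 in
/-- the main induction: lifting a fibrewise regular sequence of the local ring to a regular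
sequence on a basic open, with flat quotients. -/
theorem induction_step (hess : CAlgX.IsEssFinitePresentation (Localization.AtPrime p) T)
    (hpT : (maximalIdeal (Localization.AtPrime p)).map
      (algebraMap (Localization.AtPrime p) T) = p.map (algebraMap R T)) :
    ∀ (hs : List T) (I : Ideal A), I.FG → I ≤ q →
      Module.Flat R (T ⧸ I.map (algebraMap A T)) →
      IsWeaklyRegular (T ⧸ (I.map (algebraMap A T) ⊔ p.map (algebraMap R T))) hs →
      (∀ h ∈ hs, h ∈ maximalIdeal T) →
      ∃ (as : List A) (g : A), g ∉ q ∧ (∀ a ∈ as, a ∈ q) ∧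
        (I ⊔ Ideal.ofList as).map (algebraMap A T) =
          I.map (algebraMap A T) ⊔ Ideal.ofList hs ∧
        Module.Flat R (T ⧸ (I ⊔ Ideal.ofList as).map (algebraMap A T)) ∧
        ∀ (G : A), g ∣ G → ∀ (A' : Type u) [CommRing A'] [Algebra A A']
          [IsLocalization.Away G A'],
          IsWeaklyRegular (A' ⧸ I.map (algebraMap A A')) (as.map (algebraMap A A')) := by
  intro hs
  induction hs with
  | nil =>
    intro I hI hIq hF hwr hmem
    refine ⟨[], 1, ?_, ?_, ?_, ?_, ?_⟩
    · exact fun h => (inferInstance : q.IsPrime).ne_top ((Ideal.eq_top_iff_one _).mpr h)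
    · intro a ha
      simp at ha
    · rw [Ideal.ofList_nil, Ideal.ofList_nil, sup_bot_eq, sup_bot_eq]
    · rw [Ideal.ofList_nil, sup_bot_eq]
      exact hF
    · intro G _ A' _ _ _
      rw [List.map_nil]
      exact IsWeaklyRegular.nil _ _
  | cons x hs ih =>
    intro I hI hIq hF hwr hmem
    rw [isWeaklyRegular_cons_iff] at hwr
    obtain ⟨h1, h2⟩ := hwr
    have hx : x ∈ maximalIdeal T := hmem x (List.mem_cons_self ..)
    obtain ⟨⟨a, s⟩, has⟩ := IsLocalization.surj q.primeCompl x
    have hu : IsUnit (algebraMap A T (s : A)) := IsLocalization.map_units T s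
    have has' : x * algebraMap A T (s : A) = algebraMap A T a := has
    have ha : a ∈ q := by
      have h3 : algebraMap A T a ∈ maximalIdeal T := by
        rw [← has']
        exact Ideal.mul_mem_right _ _ hx
      exact (IsLocalization.AtPrime.to_map_mem_maximal_iff T q a).mp h3
    have hspan : Ideal.span {algebraMap A T a} = Ideal.span {x} := by
      rw [← has']
      exact Ideal.span_singleton_mul_right_unit hu x
    haveI hFp : Module.Flat (Localization.AtPrime p) (T ⧸ I.map (algebraMap A T)) :=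
      (Module.flat_iff_of_isLocalization (Localization.AtPrime p) p.primeCompl _).mpr hF
    have hregx : ∀ t : T, x * t ∈ I.map (algebraMap A T) ⊔
        (maximalIdeal (Localization.AtPrime p)).map (algebraMap (Localization.AtPrime p) T) →
        t ∈ I.map (algebraMap A T) ⊔
          (maximalIdeal (Localization.AtPrime p)).map (algebraMap (Localization.AtPrime p) T) := by
      rw [hpT]
      intro t ht
      have h3 : x • (Ideal.Quotient.mk (I.map (algebraMap A T) ⊔ p.map (algebraMap R T)) t) =
          x • (0 : T ⧸ (I.map (algebraMap A T) ⊔ p.map (algebraMap R T))) := by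
        rw [smul_zero]
        show Ideal.Quotient.mk _ (x * t) = 0
        exact Ideal.Quotient.eq_zero_iff_mem.mpr ht
      exact Ideal.Quotient.eq_zero_iff_mem.mp (h1 h3)
    obtain ⟨hReg, hFl'⟩ := SliceA.local_step hess (I.map (algebraMap A T)) (hI.map _) x hregx
    have hI'T : (I ⊔ Ideal.span {a}).map (algebraMap A T) =
        I.map (algebraMap A T) ⊔ Ideal.span {x} := by
      rw [Ideal.map_sup, Ideal.map_span, Set.image_singleton, hspan]
    have hI'fg : (I ⊔ Ideal.span {a}).FG := Submodule.FG.sup hI (Submodule.fg_span_singleton a)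
    have hI'q : I ⊔ Ideal.span {a} ≤ q :=
      sup_le hIq ((Ideal.span_singleton_le_iff_mem _).mpr ha)
    have hF' : Module.Flat R (T ⧸ (I ⊔ Ideal.span {a}).map (algebraMap A T)) := by
      rw [hI'T]
      exact (Module.flat_iff_of_isLocalization (Localization.AtPrime p) p.primeCompl _).mp hFl'
    have h2' : IsWeaklyRegular (T ⧸ ((I ⊔ Ideal.span {a}).map (algebraMap A T) ⊔
        p.map (algebraMap R T))) hs := by
      have h3 := ((SliceA.quotSMulTopEquiv (I.map (algebraMap A T) ⊔ p.map (algebraMap R T))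
        x).isWeaklyRegular_congr hs).mp h2
      rw [hI'T, sup_right_comm]
      exact h3
    obtain ⟨as', g', hg', has'', hmap', hFl2, hWR'⟩ := ih (I ⊔ Ideal.span {a}) hI'fg hI'q hF' h2'
      (fun h hh => hmem h (List.mem_cons_of_mem _ hh))
    have hreg' : ∀ t : T, algebraMap A T a * t ∈ I.map (algebraMap A T) →
        t ∈ I.map (algebraMap A T) := by
      intro t ht
      rw [← has', mul_assoc] at ht
      have h3 := hReg _ ht
      exact (Ideal.unit_mul_mem_iff_mem _ hu).mp h3
    obtain ⟨g₁, hg₁, hstep⟩ := one_step (R := R) q I hI hIq a ha hF' hreg'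
    refine ⟨a :: as', g₁ * g',
      fun h => (Ideal.IsPrime.mem_or_mem inferInstance h).elim hg₁ hg', ?_, ?_, ?_, ?_⟩
    · intro b hb
      rcases List.mem_cons.mp hb with rfl | hb
      · exact ha
      · exact has'' b hb
    · rw [Ideal.ofList_cons, Ideal.ofList_cons, ← sup_assoc, hmap', hI'T, sup_assoc]
    · rw [Ideal.ofList_cons, ← sup_assoc]
      exact hFl2
    · intro G hG A' _ _ _
      rw [List.map_cons]
      refine IsWeaklyRegular.cons ?_ ?_
      · rw [isSMulRegular_iff_right_eq_zero_of_smul]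
        intro m hm
        obtain ⟨b', rfl⟩ := Ideal.Quotient.mk_surjective m
        obtain ⟨b, ⟨_, k, rfl⟩, rfl⟩ := IsLocalization.exists_mk'_eq (Submonoid.powers G) b'
        have hm' : Ideal.Quotient.mk (I.map (algebraMap A A')) (algebraMap A A' a *
            IsLocalization.mk' A' b (⟨G ^ k, k, rfl⟩ : Submonoid.powers G)) = 0 := hm
        have h3 := Ideal.Quotient.eq_zero_iff_mem.mp hm'
        rw [IsLocalization.mul_mk'_eq_mk'_of_mul,
          IsLocalization.mk'_mem_map_algebraMap_iff (Submonoid.powers G)] at h3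
        obtain ⟨_, ⟨j, rfl⟩, hj⟩ := h3
        have h4 : a * (G ^ j * b) ∈ I := by
          have : a * (G ^ j * b) = G ^ j * (a * b) := by ring
          rw [this]
          exact hj
        obtain ⟨n, hn⟩ := hstep _ h4
        rw [Ideal.Quotient.eq_zero_iff_mem,
          IsLocalization.mk'_mem_map_algebraMap_iff (Submonoid.powers G)]
        obtain ⟨c, rfl⟩ := hG
        refine ⟨(g₁ * g' * c) ^ (n + j), ⟨n + j, rfl⟩, ?_⟩
        have : (g₁ * g' * c) ^ (n + j) * b =
            (g' * c) ^ n * (g₁ ^ n * ((g₁ * g' * c) ^ j * b)) := by ring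
        rw [this]
        exact Ideal.mul_mem_left _ _ hn
      · have h3 : (I ⊔ Ideal.span {a}).map (algebraMap A A') =
            I.map (algebraMap A A') ⊔ Ideal.span {algebraMap A A' a} := by
          rw [Ideal.map_sup, Ideal.map_span, Set.image_singleton]
        have h4 := hWR' G (dvd_trans (Dvd.intro_left g₁ rfl) hG) A'
        rw [h3] at h4
        exact ((SliceA.quotSMulTopEquiv (I.map (algebraMap A A')) (algebraMap A A' a)).isWeaklyRegular_congr
          _).mpr h4

end Ind

end Groth.Agent.Helper8.SliceC
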