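import Mathlib

namespace Groth.Agent.Helper8.EssLoc

universe u

open MvPolynomial

theorem main {A B : Type u} [CommRing A]
    [CommRing B] [IsLocalRing B] [Algebra A B] [Algebra.EssFiniteType A B] :
    ∃ (n : ℕ) (q : Ideal (MvPolynomial (Fin n) A)) (_ : q.IsPrime)
      (φ : Localization.AtPrime q →ₐ[A] B), Function.Surjective φ := by
  classical
  obtain ⟨σ, hσ⟩ := (Algebra.essFiniteType_iff (R := A) (S := B)).mp inferInstance
  let n := σ.card
  let g : Fin n → B := fun i => (σ.equivFin.symm i : B)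
  let φ₀ : MvPolynomial (Fin n) A →ₐ[A] B := aeval g
  have hrange : ∀ b ∈ Algebra.adjoin A (σ : Set B), ∃ P, φ₀ P = b := by
    intro b hb
    have h1 : (σ : Set B) = Set.range g := by
      ext x
      constructor
      · intro hx
        exact ⟨σ.equivFin ⟨x, hx⟩, by simp [g]⟩
      · rintro ⟨i, rfl⟩
        exact (σ.equivFin.symm i).2
    rw [h1, Algebra.adjoin_range_eq_range_aeval] at hb
    exact hb
  let q : Ideal (MvPolynomial (Fin n) A) := (IsLocalRing.maximalIdeal B).comap φ₀.toRingHom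
  have hq : q.IsPrime := Ideal.comap_isPrime _ _
  have hunit : ∀ y : q.primeCompl, IsUnit (φ₀ y) := by
    intro y
    have h2 : (y : MvPolynomial (Fin n) A) ∉ q := y.2
    have h3 : φ₀ y ∉ IsLocalRing.maximalIdeal B := h2
    rw [IsLocalRing.mem_maximalIdeal, mem_nonunits_iff, not_not] at h3
    exact h3
  refine ⟨n, q, hq, IsLocalization.liftAlgHom (M := q.primeCompl) hunit, ?_⟩
  intro b
  obtain ⟨t, ht, htu, hbt⟩ := hσ b
  obtain ⟨T, hT⟩ := hrange t ht
  obtain ⟨C, hC⟩ := hrange _ hbt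
  have hTq : T ∈ q.primeCompl := by
    change T ∉ q
    intro h4
    have h5 : φ₀ T ∈ IsLocalRing.maximalIdeal B := h4
    rw [hT, IsLocalRing.mem_maximalIdeal] at h5
    exact h5 htu
  refine ⟨IsLocalization.mk' (Localization.AtPrime q) C ⟨T, hTq⟩, ?_⟩
  rw [IsLocalization.coe_liftAlgHom, IsLocalization.lift_mk'_spec]
  change φ₀ C = φ₀ T * b
  rw [hC, hT, mul_comm]

end Groth.Agent.Helper8.EssLoc
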