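import Mathlib

/-!
# The rigidity lemma: abstract part

`g : X ⟶ T` proper, flat, locally of finite presentation, surjective, such that
`O_V → (g_V)_* O_{X_V}` is injective for every base change; `f : X ⟶ Y` with `Y ⟶ S` separated.
-/

set_option autoImplicit false
universe u

open CategoryTheory CategoryTheory.Limits AlgebraicGeometry

namespace Groth.Agent.Helper8.Rigid1

theorem isIso_map_eqToHom {X : Scheme.{u}} {U V : X.Opens} (h : U = V) :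
    IsIso (X.presheaf.map (eqToHom h).op) := inferInstance

theorem isIso_morphismRestrict_appTop {X Y : Scheme.{u}} (g : X ⟶ Y) (U : Y.Opens)
    (hiso : ∀ V : Y.Opens, IsIso (g.app V)) : IsIso (g ∣_ U).appTop := by
  rw [morphismRestrict_appTop]
  exact @IsIso.comp_isIso _ _ _ _ _ _ _ (hiso _) (isIso_map_eqToHom _)

theorem mono_morphismRestrict_appTop {X Y : Scheme.{u}} (g : X ⟶ Y) (U : Y.Opens)
    (hmono : ∀ V : Y.Opens, Mono (g.app V)) : Mono (g ∣_ U).appTop := by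
  rw [morphismRestrict_appTop]
  exact @mono_comp _ _ _ _ _ _ (hmono _) _
    (@IsIso.mono_of_iso _ _ _ _ _ (isIso_map_eqToHom _))

/-- a surjective morphism with injective comorphisms is an epimorphism -/
theorem cancel_of_app_mono {X' V Y : Scheme.{u}} (g' : X' ⟶ V) [Surjective g']
    (hmono : ∀ U : V.Opens, Mono (g'.app U)) (k₁ k₂ : V ⟶ Y)
    (h : g' ≫ k₁ = g' ≫ k₂) : k₁ = k₂ := by
  have hpt : ∀ v : V, k₁ v = k₂ v := by
    intro v
    obtain ⟨x, rfl⟩ := g'.surjective v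
    rw [← Scheme.Hom.comp_apply, ← Scheme.Hom.comp_apply, h]
  refine Scheme.hom_ext_of_forall k₁ k₂ (fun v => ?_)
  obtain ⟨Y₀, hY₀, hvY₀, -⟩ := exists_isAffineOpen_mem_and_subset (x := k₁ v)
    (U := (⊤ : Y.Opens)) trivial
  let V₀ : V.Opens := k₁ ⁻¹ᵁ Y₀ ⊓ k₂ ⁻¹ᵁ Y₀
  have hvV₀ : v ∈ V₀ := ⟨hvY₀, by
    show k₂ v ∈ Y₀
    rw [← hpt]
    exact hvY₀⟩
  refine ⟨V₀, hvV₀, ?_⟩
  haveI : IsAffine (Y₀ : Scheme.{u}) := hY₀
  have hr₁ : Set.range (V₀.ι ≫ k₁) ⊆ Set.range Y₀.ι := by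
    rintro _ ⟨z, rfl⟩
    rw [Scheme.Opens.range_ι]
    exact z.2.1
  have hr₂ : Set.range (V₀.ι ≫ k₂) ⊆ Set.range Y₀.ι := by
    rintro _ ⟨z, rfl⟩
    rw [Scheme.Opens.range_ι]
    exact z.2.2
  have e₁ : IsOpenImmersion.lift Y₀.ι (V₀.ι ≫ k₁) hr₁ ≫ Y₀.ι = V₀.ι ≫ k₁ :=
    IsOpenImmersion.lift_fac _ _ _
  have e₂ : IsOpenImmersion.lift Y₀.ι (V₀.ι ≫ k₂) hr₂ ≫ Y₀.ι = V₀.ι ≫ k₂ :=
    IsOpenImmersion.lift_fac _ _ _
  have hg₀ : (g' ∣_ V₀) ≫ IsOpenImmersion.lift Y₀.ι (V₀.ι ≫ k₁) hr₁ =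
      (g' ∣_ V₀) ≫ IsOpenImmersion.lift Y₀.ι (V₀.ι ≫ k₂) hr₂ := by
    rw [← cancel_mono Y₀.ι, Category.assoc, Category.assoc, e₁, e₂, ← Category.assoc,
      ← Category.assoc, morphismRestrict_ι, Category.assoc, Category.assoc, h]
  have happ : (IsOpenImmersion.lift Y₀.ι (V₀.ι ≫ k₁) hr₁).appTop =
      (IsOpenImmersion.lift Y₀.ι (V₀.ι ≫ k₂) hr₂).appTop := by
    have h1 := congrArg Scheme.Hom.appTop hg₀
    rw [Scheme.Hom.comp_appTop, Scheme.Hom.comp_appTop] at h1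
    haveI : Mono (g' ∣_ V₀).appTop := mono_morphismRestrict_appTop g' V₀ hmono
    exact (cancel_mono _).1 h1
  rw [← e₁, ← e₂, ext_of_isAffine happ]

section Fac

variable {T X Y : Scheme.{u}} (g : X ⟶ T) (f : X ⟶ Y)

/-- `κ : V ⟶ Y` factors `f` through `g` over `j : V ⟶ T` -/
def Fac {V : Scheme.{u}} (j : V ⟶ T) (κ : V ⟶ Y) : Prop :=
  ∀ (Z : Scheme.{u}) (a : Z ⟶ X) (b : Z ⟶ V), a ≫ g = b ≫ j → a ≫ f = b ≫ κ

variable {g f}

theorem Fac.comp {V V' : Scheme.{u}} {j : V ⟶ T} {κ : V ⟶ Y} (h : Fac g f j κ) (i : V' ⟶ V) :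
    Fac g f (i ≫ j) (i ≫ κ) := by
  intro Z a b hab
  rw [← Category.assoc] at hab
  rw [← Category.assoc]
  exact h Z a (b ≫ i) hab

theorem Fac.unique {V : Scheme.{u}} {j : V ⟶ T} {κ₁ κ₂ : V ⟶ Y}
    [Surjective (pullback.snd g j)] (hmono : ∀ U : V.Opens, Mono ((pullback.snd g j).app U))
    (h₁ : Fac g f j κ₁) (h₂ : Fac g f j κ₂) : κ₁ = κ₂ := by
  apply cancel_of_app_mono (pullback.snd g j) hmono
  rw [← h₁ _ (pullback.fst g j) (pullback.snd g j) pullback.condition,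
    ← h₂ _ (pullback.fst g j) (pullback.snd g j) pullback.condition]

/-- gluing of factorizations -/
theorem Fac.glue {V : Scheme.{u}} (j : V ⟶ T) (𝒰 : V.OpenCover)
    (hsurj : ∀ {V' : Scheme.{u}} (j' : V' ⟶ T), Surjective (pullback.snd g j'))
    (hmono : ∀ {V' : Scheme.{u}} (j' : V' ⟶ T) (U : V'.Opens), Mono ((pullback.snd g j').app U))
    (κ : ∀ i, 𝒰.X i ⟶ Y) (hκ : ∀ i, Fac g f (𝒰.f i ≫ j) (κ i)) :
    ∃ κ' : V ⟶ Y, Fac g f j κ' := by
  have hcompat : ∀ x y, pullback.fst (𝒰.f x) (𝒰.f y) ≫ κ x = pullback.snd _ _ ≫ κ y := by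
    intro x y
    have h1 := (hκ x).comp (pullback.fst (𝒰.f x) (𝒰.f y))
    have h2 := (hκ y).comp (pullback.snd (𝒰.f x) (𝒰.f y))
    rw [← Category.assoc] at h1 h2
    rw [← pullback.condition] at h2
    haveI := hsurj ((pullback.fst (𝒰.f x) (𝒰.f y) ≫ 𝒰.f x) ≫ j)
    exact Fac.unique (hmono _) h1 h2
  refine ⟨𝒰.glueMorphisms κ hcompat, ?_⟩
  intro Z a b hab
  refine Scheme.hom_ext_of_forall _ _ (fun z => ?_)
  obtain ⟨i, v, hv⟩ := 𝒰.exists_eq (b z)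
  let N : Z.Opens := b ⁻¹ᵁ (𝒰.f i).opensRange
  have hzN : z ∈ N := ⟨v, hv⟩
  refine ⟨N, hzN, ?_⟩
  have hr : Set.range (N.ι ≫ b) ⊆ Set.range (𝒰.f i) := by
    rintro _ ⟨w, rfl⟩
    exact w.2
  have e : IsOpenImmersion.lift (𝒰.f i) (N.ι ≫ b) hr ≫ 𝒰.f i = N.ι ≫ b :=
    IsOpenImmersion.lift_fac _ _ _
  have h3 := hκ i _ (N.ι ≫ a) (IsOpenImmersion.lift (𝒰.f i) (N.ι ≫ b) hr) (by
    rw [Category.assoc, hab, ← Category.assoc, ← Category.assoc, e])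
  rw [Category.assoc] at h3
  rw [h3]
  have h4 : IsOpenImmersion.lift (𝒰.f i) (N.ι ≫ b) hr ≫ κ i =
      (IsOpenImmersion.lift (𝒰.f i) (N.ι ≫ b) hr ≫ 𝒰.f i) ≫ 𝒰.glueMorphisms κ hcompat := by
    rw [Category.assoc, Scheme.Cover.ι_glueMorphisms]
  rw [h4, e, Category.assoc]

/-- restriction form of a factorization -/
theorem Fac.restrict {W : T.Opens} {κ : (W : Scheme.{u}) ⟶ Y} (h : Fac g f W.ι κ) :
    (g ⁻¹ᵁ W).ι ≫ f = (g ∣_ W) ≫ κ :=
  h _ _ _ (morphismRestrict_ι g W).symm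

/-- a factorization over an open in restriction form is a factorization -/
theorem Fac.of_restrict {U : T.Opens} {κ : (U : Scheme.{u}) ⟶ Y}
    (h : (g ⁻¹ᵁ U).ι ≫ f = (g ∣_ U) ≫ κ) : Fac g f U.ι κ := by
  intro Z a b hab
  have hr : Set.range a ⊆ Set.range (g ⁻¹ᵁ U).ι := by
    rintro _ ⟨z, rfl⟩
    rw [Scheme.Opens.range_ι]
    show g (a z) ∈ U
    rw [← Scheme.Hom.comp_apply, hab, Scheme.Hom.comp_apply]
    exact (b z).2
  have e : IsOpenImmersion.lift (g ⁻¹ᵁ U).ι a hr ≫ (g ⁻¹ᵁ U).ι = a :=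
    IsOpenImmersion.lift_fac _ _ _
  have e2 : IsOpenImmersion.lift (g ⁻¹ᵁ U).ι a hr ≫ (g ∣_ U) = b := by
    rw [← cancel_mono U.ι, Category.assoc, morphismRestrict_ι, ← Category.assoc, e, hab]
  rw [← e, Category.assoc, h, ← Category.assoc, e2]

end Fac

/-- local factorization near a collapsed fibre -/
theorem exists_local_factor {T X Y : Scheme.{u}} (g : X ⟶ T) [UniversallyClosed g]
    (hiso : ∀ V : T.Opens, IsIso (g.app V)) (f : X ⟶ Y) (t : T) (y : Y)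
    (hy : ∀ x : X, g x = t → f x = y) :
    ∃ (U : T.Opens) (k : (U : Scheme.{u}) ⟶ Y), t ∈ U ∧ (g ⁻¹ᵁ U).ι ≫ f = (g ∣_ U) ≫ k := by
  obtain ⟨Y₀, hY₀, hyY₀, -⟩ := exists_isAffineOpen_mem_and_subset (x := y)
    (U := (⊤ : Y.Opens)) trivial
  haveI : IsAffine (Y₀ : Scheme.{u}) := hY₀
  have hclosed : IsClosed (g '' ((f ⁻¹ᵁ Y₀ : X.Opens) : Set X)ᶜ) :=
    g.isClosedMap _ (f ⁻¹ᵁ Y₀).isOpen.isClosed_compl
  let U : T.Opens := ⟨(g '' ((f ⁻¹ᵁ Y₀ : X.Opens) : Set X)ᶜ)ᶜ, hclosed.isOpen_compl⟩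
  have htU : t ∈ U := by
    rintro ⟨x, hx, hgx⟩
    apply hx
    show f x ∈ Y₀
    rw [hy x hgx]
    exact hyY₀
  have hsub : ∀ x : X, g x ∈ U → f x ∈ Y₀ := by
    intro x hx
    by_contra hfx
    exact hx ⟨x, hfx, rfl⟩
  have hr : Set.range ((g ⁻¹ᵁ U).ι ≫ f) ⊆ Set.range Y₀.ι := by
    rintro _ ⟨z, rfl⟩
    rw [Scheme.Opens.range_ι]
    exact hsub z.1 z.2
  have e : IsOpenImmersion.lift Y₀.ι ((g ⁻¹ᵁ U).ι ≫ f) hr ≫ Y₀.ι = (g ⁻¹ᵁ U).ι ≫ f :=
    IsOpenImmersion.lift_fac _ _ _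
  haveI : IsIso (g ∣_ U).appTop := isIso_morphismRestrict_appTop g U hiso
  let φ : Γ((Y₀ : Scheme.{u}), ⊤) ⟶ Γ((U : Scheme.{u}), ⊤) :=
    (IsOpenImmersion.lift Y₀.ι ((g ⁻¹ᵁ U).ι ≫ f) hr).appTop ≫ inv (g ∣_ U).appTop
  let k₀ : (U : Scheme.{u}) ⟶ (Y₀ : Scheme.{u}) :=
    (U : Scheme.{u}).toSpecΓ ≫ Spec.map φ ≫ (Y₀ : Scheme.{u}).isoSpec.inv
  have hk₀ : (g ∣_ U) ≫ k₀ = IsOpenImmersion.lift Y₀.ι ((g ⁻¹ᵁ U).ι ≫ f) hr := by
    rw [← cancel_mono (Y₀ : Scheme.{u}).isoSpec.hom]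
    simp only [k₀, Category.assoc, Iso.inv_hom_id, Category.comp_id]
    rw [Scheme.isoSpec_hom, Scheme.toSpecΓ_naturality, ← Category.assoc,
      Scheme.toSpecΓ_naturality, Category.assoc, ← Spec.map_comp]
    simp only [φ, Category.assoc, IsIso.inv_hom_id, Category.comp_id]
  refine ⟨U, k₀ ≫ Y₀.ι, htU, ?_⟩
  rw [← Category.assoc, hk₀, e]

section Main

variable {S T X Y : Scheme.{u}} (p : T ⟶ S) (q : Y ⟶ S) [IsSeparated q]
  (g : X ⟶ T) [IsProper g] [Flat g] [LocallyOfFinitePresentation g] [Surjective g]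
  (f : X ⟶ Y) (hf : f ≫ q = g ≫ p)

include hf in
/-- **Rigidity lemma**, abstract form. -/
theorem rigidity
    (hsurj : ∀ {V' : Scheme.{u}} (j' : V' ⟶ T), Surjective (pullback.snd g j'))
    (hmono : ∀ {V' : Scheme.{u}} (j' : V' ⟶ T) (U : V'.Opens), Mono ((pullback.snd g j').app U))
    (hiso : ∀ V : T.Opens, IsIso (g.app V))
    (t : T) (ht : (f '' (g ⁻¹' {t})).Subsingleton) :
    ∃ W : T.Opens, IsClosed (W : Set T) ∧ t ∈ W ∧
      ∃ k : (W : Scheme.{u}) ⟶ Y, (g ⁻¹ᵁ W).ι ≫ f = (g ∣_ W) ≫ k := by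
  -- the double fibre product and the equalizer
  let π : pullback g g ⟶ T := pullback.fst g g ≫ g
  have hab : (pullback.fst g g ≫ f) ≫ q = (pullback.snd g g ≫ f) ≫ q := by
    rw [Category.assoc, Category.assoc, hf, ← Category.assoc, ← Category.assoc, pullback.condition]
  let ab : pullback g g ⟶ pullback q q := pullback.lift _ _ hab
  let ε : pullback ab (pullback.diagonal q) ⟶ pullback g g := pullback.fst _ _
  have hε : ε ≫ pullback.fst g g ≫ f = ε ≫ pullback.snd g g ≫ f := by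
    have h1 : ε ≫ ab = pullback.snd ab (pullback.diagonal q) ≫ pullback.diagonal q :=
      pullback.condition
    have h2 := congrArg (· ≫ pullback.fst q q) h1
    have h3 := congrArg (· ≫ pullback.snd q q) h1
    simp only [Category.assoc, pullback.diagonal_fst, pullback.diagonal_snd, Category.comp_id,
      ab, pullback.lift_fst, pullback.lift_snd] at h2 h3
    rw [h2, h3]
  have hEclosed : IsClosed (Set.range ε) := ε.isClosedEmbedding.isClosed_range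
  have hlift : ∀ {N : Scheme.{u}} (c : N ⟶ pullback g g),
      c ≫ pullback.fst g g ≫ f = c ≫ pullback.snd g g ≫ f → Set.range c ⊆ Set.range ε := by
    intro N c hc
    have h1 : c ≫ ab = (c ≫ pullback.fst g g ≫ f) ≫ pullback.diagonal q := by
      apply pullback.hom_ext
      · simp only [Category.assoc, ab, pullback.lift_fst, pullback.diagonal_fst, Category.comp_id]
      · simp only [Category.assoc, ab, pullback.lift_snd, pullback.diagonal_snd, Category.comp_id]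
        exact hc.symm
    rintro _ ⟨n, rfl⟩
    refine ⟨pullback.lift c _ h1 n, ?_⟩
    rw [← Scheme.Hom.comp_apply, pullback.lift_fst]
  have hπopen : IsOpenMap π := π.isOpenMap
  have hWclosed : IsClosed (π '' (Set.range ε)ᶜ)ᶜ :=
    (hπopen _ hEclosed.isOpen_compl).isClosed_compl
  -- collapse on the closed set
  have hA : ∀ t' : T, t' ∈ (π '' (Set.range ε)ᶜ)ᶜ → ∀ x₁ x₂ : X, g x₁ = t' → g x₂ = t' →
      f x₁ = f x₂ := by
    intro t' ht' x₁ x₂ h1 h2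
    obtain ⟨z, hz1, hz2⟩ := Scheme.Pullback.exists_preimage_pullback (f := g) (g := g) x₁ x₂
      (h1.trans h2.symm)
    have hzE : z ∈ Set.range ε := by
      by_contra hz
      apply ht'
      refine ⟨z, hz, ?_⟩
      show (pullback.fst g g ≫ g) z = t'
      rw [Scheme.Hom.comp_apply, hz1, h1]
    obtain ⟨e, rfl⟩ := hzE
    rw [← hz1, ← hz2, ← Scheme.Hom.comp_apply, ← Scheme.Hom.comp_apply, ← Scheme.Hom.comp_apply,
      ← Scheme.Hom.comp_apply, hε]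
  -- local factorizations
  have hB : ∀ t' : T, (f '' (g ⁻¹' {t'})).Subsingleton →
      ∃ (U : T.Opens) (k : (U : Scheme.{u}) ⟶ Y), t' ∈ U ∧ Fac g f U.ι k := by
    intro t' ht'
    obtain ⟨x₀, hx₀⟩ := g.surjective t'
    obtain ⟨U, k, htU, hk⟩ := exists_local_factor g hiso f t' (f x₀) (fun x hx =>
      ht' ⟨x, hx, rfl⟩ ⟨x₀, hx₀, rfl⟩)
    exact ⟨U, k, htU, Fac.of_restrict hk⟩
  -- a factorization forces membership in the closed set
  have hC : ∀ (U : T.Opens) (k : (U : Scheme.{u}) ⟶ Y), Fac g f U.ι k →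
      (U : Set T) ⊆ (π '' (Set.range ε)ᶜ)ᶜ := by
    rintro U k hk _ hu ⟨z, hz, rfl⟩
    apply hz
    let N : (pullback g g).Opens := π ⁻¹ᵁ U
    have hr : Set.range (N.ι ≫ π) ⊆ Set.range U.ι := by
      rintro _ ⟨w, rfl⟩
      rw [Scheme.Opens.range_ι]
      exact w.2
    have e : IsOpenImmersion.lift U.ι (N.ι ≫ π) hr ≫ U.ι = N.ι ≫ π :=
      IsOpenImmersion.lift_fac _ _ _
    have h1 := hk _ (N.ι ≫ pullback.fst g g) (IsOpenImmersion.lift U.ι (N.ι ≫ π) hr) (by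
      rw [e, Category.assoc])
    have h2 := hk _ (N.ι ≫ pullback.snd g g) (IsOpenImmersion.lift U.ι (N.ι ≫ π) hr) (by
      rw [e, Category.assoc, ← pullback.condition])
    have h3 : N.ι ≫ pullback.fst g g ≫ f = N.ι ≫ pullback.snd g g ≫ f := by
      have h3' := h1.trans h2.symm
      rw [Category.assoc, Category.assoc] at h3'
      exact h3'
    have h4 := hlift N.ι h3
    rw [Scheme.Opens.range_ι] at h4
    exact h4 hu
  have hcollapse : ∀ t' : T, t' ∈ (π '' (Set.range ε)ᶜ)ᶜ → (f '' (g ⁻¹' {t'})).Subsingleton := by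
    rintro t' ht' _ ⟨x₁, h1, rfl⟩ _ ⟨x₂, h2, rfl⟩
    exact hA t' ht' x₁ x₂ h1 h2
  have hWopen : IsOpen (π '' (Set.range ε)ᶜ)ᶜ := by
    rw [isOpen_iff_forall_mem_open]
    intro t' ht'
    obtain ⟨U, k, htU, hk⟩ := hB t' (hcollapse t' ht')
    exact ⟨U, hC U k hk, U.isOpen, htU⟩
  let W : T.Opens := ⟨(π '' (Set.range ε)ᶜ)ᶜ, hWopen⟩
  have htW : t ∈ W := by
    obtain ⟨U, k, htU, hk⟩ := hB t ht
    exact hC U k hk htU
  refine ⟨W, hWclosed, htW, ?_⟩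
  -- glue
  have hch : ∀ w : W, ∃ (U : T.Opens) (k : (U : Scheme.{u}) ⟶ Y), w.1 ∈ U ∧ Fac g f U.ι k :=
    fun w => hB w.1 (hcollapse w.1 w.2)
  choose U k hwU hk using hch
  have hcov : TopologicalSpace.IsOpenCover (fun w : W => W.ι ⁻¹ᵁ U w) := by
    apply TopologicalSpace.IsOpenCover.mk
    rw [eq_top_iff]
    intro w _
    rw [TopologicalSpace.Opens.mem_iSup]
    exact ⟨w, hwU w⟩
  obtain ⟨κ, hκ⟩ := Fac.glue (g := g) (f := f) W.ι
    ((W : Scheme.{u}).openCoverOfIsOpenCover _ hcov) hsurj hmono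
    (fun w => (W.ι ∣_ U w) ≫ k w) (fun w => by
      have h1 := (hk w).comp (W.ι ∣_ U w)
      rw [morphismRestrict_ι] at h1
      exact h1)
  exact ⟨κ, hκ.restrict⟩

end Main

end Groth.Agent.Helper8.Rigid1
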