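import Mathlib
import Groth.Prelude.Def_AlgGrp
import Groth.Agent.Helper1.ZarIso8
import Groth.Agent.Lead.MeroY
import Groth.Agent.Helper8.Rigid1

/-!
# Blanchard's lemma: descent of a group action along a proper morphism with `O_Y = f_* O_X`

* flat base change of the property `O_Y(U) ≅ O_X(f⁻¹U)` for all `U`;
* global factorization of a morphism constant on the fibres of such a proper surjection;
* descent of the action axioms by cancelling epimorphisms.
-/

set_option autoImplicit false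
universe u

open CategoryTheory CategoryTheory.Limits AlgebraicGeometry

namespace Groth.Agent.Helper8.Blanchard1

open Groth.Agent.Helper1.ZarIso Groth.Agent.Helper8.Rigid1

/-- a closed morphism with injective comorphisms is surjective -/
theorem surjective_of_injective_app {X Y : Scheme.{u}} (f : X ⟶ Y) (hcl : IsClosedMap f)
    (hinj : ∀ U : Y.Opens, Function.Injective (f.app U).hom) : Surjective f := by
  refine ⟨fun y => ?_⟩
  by_contra hy
  have hclosed : IsClosed (Set.range f) := by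
    rw [← Set.image_univ]
    exact hcl _ isClosed_univ
  let U : Y.Opens := ⟨(Set.range f)ᶜ, hclosed.isOpen_compl⟩
  have hyU : y ∈ U := hy
  have hpre : f ⁻¹ᵁ U = ⊥ := by
    ext x
    constructor
    · intro hx
      exact (hx ⟨x, rfl⟩).elim
    · intro hx
      exact hx.elim
  have h01 : (1 : Γ(Y, U)) = 0 := by
    apply hinj U
    haveI : Subsingleton Γ(X, f ⁻¹ᵁ U) := by
      rw [hpre]
      infer_instance
    exact Subsingleton.elim _ _
  have hb : Y.basicOpen (1 : Γ(Y, U)) = U := Scheme.basicOpen_of_isUnit _ isUnit_one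
  rw [h01, Scheme.basicOpen_zero] at hb
  rw [← hb] at hyU
  exact hyU

/-- flat base change of `O_Y ≅ f_* O_X` -/
theorem isIso_app_of_isPullback {X Y X' Y' : Scheme.{u}} {f : X ⟶ Y} {g : Y' ⟶ Y}
    {f' : X' ⟶ Y'} {g' : X' ⟶ X} (H : IsPullback g' f' f g) [Flat g] [QuasiCompact f]
    [QuasiSeparated f] (hiso : ∀ U : Y.Opens, IsIso (f.app U)) (V : Y'.Opens) :
    IsIso (f'.app V) := by
  haveI : QuasiCompact f' := MorphismProperty.of_isPullback (P := @QuasiCompact) H inferInstance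
  haveI : QuasiSeparated f' :=
    MorphismProperty.of_isPullback (P := @QuasiSeparated) H inferInstance
  have hloc : ∀ y' : Y', ∃ W : Y'.Opens, y' ∈ W ∧ IsAffineOpen W ∧ IsIso (f'.app W) := by
    intro y'
    obtain ⟨U, hU, hyU, -⟩ := exists_isAffineOpen_mem_and_subset (x := g y')
      (U := (⊤ : Y.Opens)) trivial
    obtain ⟨W, hW, hyW, hWU⟩ := exists_isAffineOpen_mem_and_subset (x := y')
      (U := g ⁻¹ᵁ U) hyU
    have hUY : f' ⁻¹ᵁ W = g' ⁻¹ᵁ (f ⁻¹ᵁ U) ⊓ f' ⁻¹ᵁ W := by
      refine (inf_eq_right.mpr ?_).symm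
      intro x hx
      show f (g' x) ∈ U
      rw [← Scheme.Hom.comp_apply, H.w, Scheme.Hom.comp_apply]
      exact hWU hx
    have hiso' := isIso_pushoutSection_of_isQuasiSeparated_of_flat_right H
      (US := U) (UT := W) (UX := f ⁻¹ᵁ U) (UY := f' ⁻¹ᵁ W) hWU le_rfl hUY hU hW
      (f.isCompact_preimage hU.isCompact) (f.isQuasiSeparated_preimage hU.isQuasiSeparated)
    have hpo := (isIso_pushoutSection_iff H hWU le_rfl hUY).mp hiso'
    haveI : IsIso (f.appLE U (f ⁻¹ᵁ U) le_rfl) := by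
      rw [Scheme.Hom.appLE_eq_app]
      exact hiso U
    have h2 := hpo.isIso_inr_of_isIso
    refine ⟨W, hyW, hW, ?_⟩
    rwa [Scheme.Hom.appLE_eq_app] at h2
  haveI : IsIso (unitToPush f') := by
    apply Groth.Agent.Lead.MeroY.isIso_of_locally_bijective
    intro y'
    obtain ⟨W, hyW, hW, hWiso⟩ := hloc y'
    refine ⟨W, hyW, fun V₁ hV₁ => ?_⟩
    rw [bijective_unitToPush_app_iff]
    have hb : Function.Bijective (f'.app W).hom :=
      (ConcreteCategory.isIso_iff_bijective _).mp hWiso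
    exact (ConcreteCategory.isIso_iff_bijective _).mp (isIso_app_of_le f' hW hb V₁ hV₁)
  have hb : Function.Bijective ((unitToPush f').app V) :=
    (ConcreteCategory.isIso_iff_bijective _).mp inferInstance
  exact (ConcreteCategory.isIso_iff_bijective _).mpr ((bijective_unitToPush_app_iff f' V).mp hb)

/-- a surjective morphism with injective comorphisms is an epimorphism of schemes -/
theorem epi_of_surjective_of_mono_app {X' V : Scheme.{u}} (g' : X' ⟶ V) [Surjective g']
    (hmono : ∀ U : V.Opens, Mono (g'.app U)) : Epi g' :=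
  ⟨fun k₁ k₂ h => cancel_of_app_mono g' hmono k₁ k₂ h⟩

section Glue

variable {T X Y : Scheme.{u}} {g : X ⟶ T} {f : X ⟶ Y}

/-- gluing of factorizations, flat case -/
theorem Fac.glue' {V : Scheme.{u}} (j : V ⟶ T) [Flat j] (𝒰 : V.OpenCover)
    [Surjective g] [QuasiCompact g] [QuasiSeparated g] (hiso : ∀ U : T.Opens, IsIso (g.app U))
    (κ : ∀ i, 𝒰.X i ⟶ Y) (hκ : ∀ i, Fac g f (𝒰.f i ≫ j) (κ i)) :
    ∃ κ' : V ⟶ Y, Fac g f j κ' := by
  have hmono : ∀ {V' : Scheme.{u}} (j' : V' ⟶ T) [Flat j'] (U : V'.Opens),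
      Mono ((pullback.snd g j').app U) := by
    intro V' j' _ U
    haveI := isIso_app_of_isPullback (IsPullback.of_hasPullback g j') hiso U
    infer_instance
  have hcompat : ∀ x y, pullback.fst (𝒰.f x) (𝒰.f y) ≫ κ x = pullback.snd _ _ ≫ κ y := by
    intro x y
    have h1 := (hκ x).comp (pullback.fst (𝒰.f x) (𝒰.f y))
    have h2 := (hκ y).comp (pullback.snd (𝒰.f x) (𝒰.f y))
    rw [← Category.assoc] at h1 h2
    rw [← pullback.condition] at h2
    exact Fac.unique (hmono _) h1 h2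
  refine ⟨𝒰.glueMorphisms κ hcompat, ?_⟩
  intro Z a b hab
  refine Scheme.hom_ext_of_forall _ _ (fun z => ?_)
  obtain ⟨i, v, hv⟩ := 𝒰.exists_eq (b z)
  let N : Z.Opens := b ⁻¹ᵁ (𝒰.f i).opensRange
  have hzN : z ∈ N := ⟨v, hv⟩
  refine ⟨N, hzN, ?_⟩
  have hr : Set.range (N.ι ≫ b) ⊆ Set.range (𝒰.f i) := by
    rintro _ ⟨w, rfl⟩
    exact w.2
  have e : IsOpenImmersion.lift (𝒰.f i) (N.ι ≫ b) hr ≫ 𝒰.f i = N.ι ≫ b :=
    IsOpenImmersion.lift_fac _ _ _
  have h3 := hκ i _ (N.ι ≫ a) (IsOpenImmersion.lift (𝒰.f i) (N.ι ≫ b) hr) (by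
    rw [Category.assoc, hab, ← Category.assoc, ← Category.assoc, e])
  rw [Category.assoc] at h3
  rw [h3]
  have h4 : IsOpenImmersion.lift (𝒰.f i) (N.ι ≫ b) hr ≫ κ i =
      (IsOpenImmersion.lift (𝒰.f i) (N.ι ≫ b) hr ≫ 𝒰.f i) ≫ 𝒰.glueMorphisms κ hcompat := by
    rw [Category.assoc, Scheme.Cover.ι_glueMorphisms]
  rw [h4, e, Category.assoc]

end Glue

/-- **global factorization**: a morphism constant on the fibres of a proper surjection `π` with
`O_T = π_* O_P` factors through `π`. -/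
theorem exists_factor {P T Y : Scheme.{u}} (π : P ⟶ T) [IsProper π] [Surjective π]
    (hiso : ∀ V : T.Opens, IsIso (π.app V)) (ψ : P ⟶ Y)
    (hconst : ∀ p q : P, π p = π q → ψ p = ψ q) : ∃ b : T ⟶ Y, π ≫ b = ψ := by
  have hloc : ∀ t : T, ∃ (U : T.Opens) (k : (U : Scheme.{u}) ⟶ Y),
      t ∈ U ∧ Fac π ψ U.ι k := by
    intro t
    obtain ⟨x, hx⟩ := π.surjective t
    obtain ⟨U, k, htU, hk⟩ := exists_local_factor π hiso ψ t (ψ x)
      (fun x' hx' => hconst x' x (hx'.trans hx.symm))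
    exact ⟨U, k, htU, Fac.of_restrict hk⟩
  choose U k htU hk using hloc
  have hcov : TopologicalSpace.IsOpenCover U := by
    refine TopologicalSpace.IsOpenCover.mk (eq_top_iff.mpr ?_)
    intro t _
    exact TopologicalSpace.Opens.mem_iSup.mpr ⟨t, htU t⟩
  obtain ⟨b, hb⟩ := Fac.glue' (g := π) (f := ψ) (𝟙 T) (T.openCoverOfIsOpenCover U hcov) hiso k
    (fun t => by
      have := hk t
      rw [← Category.comp_id (U t).ι] at this
      exact this)
  refine ⟨b, ?_⟩
  have := hb P (𝟙 P) π (by rw [Category.id_comp, Category.comp_id])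
  rw [Category.id_comp] at this
  exact this.symm

section Over

open MonoidalCategory CartesianMonoidalCategory MonObj

variable {S : Scheme.{u}}

/-- `Z ◁ f` is the base change of `f` along the second projection -/
theorem isPullback_whiskerLeft {X Y : Over S} (Z : Over S) (f : X ⟶ Y) :
    IsPullback (snd Z X).left (Z ◁ f).left f.left (snd Z Y).left := by
  have hr : IsPullback (fst Z Y).left (snd Z Y).left Z.hom Y.hom :=
    IsPullback.of_hasPullback Z.hom Y.hom
  have hb : IsPullback (fst Z X).left (snd Z X).left Z.hom X.hom :=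
    IsPullback.of_hasPullback Z.hom X.hom
  have e1 : (Z ◁ f).left ≫ (fst Z Y).left = (fst Z X).left := by
    rw [← Over.comp_left, whiskerLeft_fst]
  have e2 : f.left ≫ Y.hom = X.hom := Over.w f
  have e3 : (Z ◁ f).left ≫ (snd Z Y).left = (snd Z X).left ≫ f.left := by
    rw [← Over.comp_left, ← Over.comp_left, whiskerLeft_snd]
  refine (IsPullback.of_right ?_ e3 hr).flip
  rw [e1, e2]
  exact hb

theorem isIso_app_whiskerLeft {X Y : Over S} (Z : Over S) [Flat Z.hom] (f : X ⟶ Y)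
    [QuasiCompact f.left] [QuasiSeparated f.left]
    (hf : ∀ U : Y.left.Opens, IsIso (f.left.app U)) (V : (Z ⊗ Y).left.Opens) :
    IsIso ((Z ◁ f).left.app V) := by
  haveI : Flat (snd Z Y).left := by
    rw [Over.snd_left]
    infer_instance
  exact isIso_app_of_isPullback (isPullback_whiskerLeft Z f) hf V

theorem surjective_whiskerLeft {X Y : Over S} (Z : Over S) (f : X ⟶ Y) [Surjective f.left] :
    Surjective (Z ◁ f).left :=
  MorphismProperty.of_isPullback (P := @Surjective) (isPullback_whiskerLeft Z f) inferInstance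

theorem epi_whiskerLeft {X Y : Over S} (Z : Over S) [Flat Z.hom] (f : X ⟶ Y)
    [QuasiCompact f.left] [QuasiSeparated f.left] [Surjective f.left]
    (hf : ∀ U : Y.left.Opens, IsIso (f.left.app U)) : Epi (Z ◁ f) := by
  haveI := surjective_whiskerLeft Z f
  haveI : Epi (Z ◁ f).left := epi_of_surjective_of_mono_app _ (fun U => by
    haveI := isIso_app_whiskerLeft Z f hf U
    infer_instance)
  exact Over.epi_of_epi_left _

theorem surjective_of_isIso_app {X Y : Scheme.{u}} (f : X ⟶ Y) [UniversallyClosed f]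
    (hf : ∀ U : Y.Opens, IsIso (f.app U)) : Surjective f :=
  surjective_of_injective_app f f.isClosedMap (fun U => by
    have hb : Function.Bijective (f.app U).hom :=
      (ConcreteCategory.isIso_iff_bijective _).mp (hf U)
    exact hb.1)

/-- **(iii) ⇒ (i)**: descent of the action. -/
theorem exists_action {G X Y : Over S} [GrpObj G] [Flat G.hom] (f : X ⟶ Y) [IsProper f.left]
    (hf : ∀ U : Y.left.Opens, IsIso (f.left.app U)) (a : AlgGrp.Action G X)
    (hconst : ∀ p q : ↥(G ⊗ X).left, (G ◁ f).left p = (G ◁ f).left q →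
      (a.act ≫ f).left p = (a.act ≫ f).left q) :
    ∃ b : AlgGrp.Action G Y, (G ◁ f) ≫ b.act = a.act ≫ f := by
  haveI : Surjective f.left := surjective_of_isIso_app f.left hf
  haveI := surjective_whiskerLeft G f
  haveI : IsProper (G ◁ f).left :=
    MorphismProperty.of_isPullback (P := @IsProper) (isPullback_whiskerLeft G f) inferInstance
  obtain ⟨b₀, hb₀⟩ := exists_factor (G ◁ f).left (isIso_app_whiskerLeft G f hf)
    (a.act ≫ f).left hconst
  haveI hepiG := epi_whiskerLeft G f hf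
  haveI : Epi (G ◁ f).left := epi_of_surjective_of_mono_app _ (fun U => by
    haveI := isIso_app_whiskerLeft G f hf U
    infer_instance)
  have hw : b₀ ≫ Y.hom = (G ⊗ Y).hom := by
    rw [← cancel_epi (G ◁ f).left, ← Category.assoc, hb₀, Over.w, Over.w]
  let b : G ⊗ Y ⟶ Y := Over.homMk b₀ hw
  have hb : (G ◁ f) ≫ b = a.act ≫ f := Over.OverMorphism.ext hb₀
  refine ⟨⟨b, ?_, ?_⟩, hb⟩
  · haveI : Flat (𝟙_ (Over S)).hom := by
      rw [Over.tensorUnit_hom]
      exact MorphismProperty.id_mem _ _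
    haveI := epi_whiskerLeft (𝟙_ (Over S)) f hf
    rw [← cancel_epi ((𝟙_ (Over S)) ◁ f), ← Category.assoc, whisker_exchange, Category.assoc, hb,
      ← Category.assoc, a.one_act]
    exact (leftUnitor_naturality f).symm
  · haveI : Flat (G ⊗ G).hom := by
      rw [Over.tensorObj_hom]
      infer_instance
    haveI := epi_whiskerLeft (G ⊗ G) f hf
    rw [← cancel_epi ((G ⊗ G) ◁ f)]
    have e1 : ((G ⊗ G) ◁ f) ≫ (μ[G] ▷ Y) ≫ b =
        (α_ G G X).hom ≫ (G ◁ a.act) ≫ a.act ≫ f := by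
      rw [← Category.assoc, whisker_exchange, Category.assoc, hb, ← Category.assoc, a.mul_act]
      simp only [Category.assoc]
    have e2 : ((G ⊗ G) ◁ f) ≫ (α_ G G Y).hom ≫ (G ◁ b) ≫ b =
        (α_ G G X).hom ≫ (G ◁ a.act) ≫ a.act ≫ f := by
      rw [← Category.assoc, associator_naturality_right, Category.assoc,
        ← Category.assoc (G ◁ G ◁ f), ← MonoidalCategory.whiskerLeft_comp, hb,
        MonoidalCategory.whiskerLeft_comp, Category.assoc, hb]
    exact e1.trans e2.symm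

/-- **(i) ⇒ (ii)** -/
theorem points_of_action {G X Y : Over S} [GrpObj G] (f : X ⟶ Y) (a : AlgGrp.Action G X)
    (h : ∃ b : AlgGrp.Action G Y, (G ◁ f) ≫ b.act = a.act ≫ f)
    (T : Over S) (g : T ⟶ G) (x₁ x₂ : T ⟶ X) (hx : x₁ ≫ f = x₂ ≫ f) :
    lift g x₁ ≫ a.act ≫ f = lift g x₂ ≫ a.act ≫ f := by
  obtain ⟨b, hb⟩ := h
  rw [← hb, ← Category.assoc, ← Category.assoc, lift_whiskerLeft, lift_whiskerLeft, hx]

/-- **(ii) ⇒ (iii)** -/
theorem const_of_points {G X Y Y' : Over S} (f : X ⟶ Y) (ψ : G ⊗ X ⟶ Y')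
    (h : ∀ (T : Over S) (g : T ⟶ G) (x₁ x₂ : T ⟶ X), x₁ ≫ f = x₂ ≫ f →
      lift g x₁ ≫ ψ = lift g x₂ ≫ ψ)
    (p q : ↥(G ⊗ X).left) (hpq : (G ◁ f).left p = (G ◁ f).left q) : ψ.left p = ψ.left q := by
  obtain ⟨z, hz1, hz2⟩ := Scheme.Pullback.exists_preimage_pullback
    (f := (G ◁ f).left) (g := (G ◁ f).left) p q hpq
  let T : Over S := Over.mk (pullback.fst (G ◁ f).left (G ◁ f).left ≫ (G ⊗ X).hom)
  let u₁ : T ⟶ G ⊗ X := Over.homMk (pullback.fst _ _) rfl
  have hw2 : pullback.snd (G ◁ f).left (G ◁ f).left ≫ (G ⊗ X).hom = T.hom := by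
    show _ = pullback.fst (G ◁ f).left (G ◁ f).left ≫ (G ⊗ X).hom
    rw [← Over.w (G ◁ f), ← Category.assoc, ← Category.assoc, pullback.condition]
  let u₂ : T ⟶ G ⊗ X := Over.homMk (pullback.snd _ _) hw2
  have hu : u₁ ≫ (G ◁ f) = u₂ ≫ (G ◁ f) := Over.OverMorphism.ext pullback.condition
  have h1 : u₁ = lift (u₁ ≫ fst G X) (u₁ ≫ snd G X) := by
    rw [← comp_lift, lift_fst_snd, Category.comp_id]
  have h2 : u₂ = lift (u₁ ≫ fst G X) (u₂ ≫ snd G X) := by
    have h0 : u₁ ≫ fst G X = u₂ ≫ fst G X := by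
      rw [← whiskerLeft_fst G f, ← Category.assoc, hu, Category.assoc]
    rw [h0, ← comp_lift, lift_fst_snd, Category.comp_id]
  have h3 : (u₁ ≫ snd G X) ≫ f = (u₂ ≫ snd G X) ≫ f := by
    rw [Category.assoc, Category.assoc, ← whiskerLeft_snd G f, ← Category.assoc, hu,
      Category.assoc]
  have h4 := h T (u₁ ≫ fst G X) (u₁ ≫ snd G X) (u₂ ≫ snd G X) h3
  rw [← h1, ← h2] at h4
  have h5 : (u₁ ≫ ψ).left z = (u₂ ≫ ψ).left z := by rw [h4]
  rw [Over.comp_left, Over.comp_left, Scheme.Hom.comp_apply, Scheme.Hom.comp_apply] at h5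
  have h6 : u₁.left z = p := hz1
  have h7 : u₂.left z = q := hz2
  rw [h6, h7] at h5
  exact h5

end Over

end Groth.Agent.Helper8.Blanchard1
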