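import Groth.Agent.Helper8.Rigid1
import Groth.Agent.S0981

/-!
# The rigidity lemma (concrete form) and a corollary for morphisms with a section
-/

set_option autoImplicit false
universe u

open CategoryTheory CategoryTheory.Limits AlgebraicGeometry

namespace Groth.Agent.Helper8.Rigid2

theorem geom_hyp {X T : Scheme.{u}} (g : X ⟶ T) [GeometricallyConnected g]
    [GeometricallyReduced g] (K : Type u) [Field K] (y : Spec (CommRingCat.of K) ⟶ T) :
    IsReduced (pullback g y) ∧ ConnectedSpace ↥(pullback g y) :=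
  ⟨pullback_of_geometrically GeometricallyReduced.geometrically_isReduced K y,
   pullback_of_geometrically GeometricallyConnected.geometrically_connectedSpace K y⟩

theorem isIso_app {X T : Scheme.{u}} (g : X ⟶ T) [IsProper g] [Flat g]
    [LocallyOfFinitePresentation g] [GeometricallyConnected g] [GeometricallyReduced g]
    (V : T.Opens) : IsIso (g.app V) := by
  exact Groth.Agent.S0981.result g (fun K _ _ y => geom_hyp g K y) V

/-- **Rigidity lemma.** -/
theorem rigidity {S T X Y : Scheme.{u}} (p : T ⟶ S) (q : Y ⟶ S) [IsSeparated q]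
    (g : X ⟶ T) [IsProper g] [Flat g] [LocallyOfFinitePresentation g]
    [GeometricallyConnected g] [GeometricallyReduced g]
    (f : X ⟶ Y) (hf : f ≫ q = g ≫ p) (t : T) (ht : (f '' (g ⁻¹' {t})).Subsingleton) :
    ∃ W : T.Opens, IsClosed (W : Set T) ∧ t ∈ W ∧
      ∃ k : (W : Scheme.{u}) ⟶ Y, (g ⁻¹ᵁ W).ι ≫ f = (g ∣_ W) ≫ k :=
  Rigid1.rigidity p q g f hf (fun _ => inferInstance)
    (fun j' U => by
      haveI := isIso_app (pullback.snd g j') U
      infer_instance)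
    (isIso_app g) t ht

/-- Rigidity for a morphism with a section: near a collapsed fibre, `f` factors through the
section. -/
theorem rigidity_section {S T X Y : Scheme.{u}} (p : T ⟶ S) (q : Y ⟶ S) [IsSeparated q]
    (g : X ⟶ T) [IsProper g] [Flat g] [LocallyOfFinitePresentation g]
    [GeometricallyConnected g] [GeometricallyReduced g]
    (f : X ⟶ Y) (hf : f ≫ q = g ≫ p) (σ : T ⟶ X) (hσ : σ ≫ g = 𝟙 T)
    (t : T) (ht : (f '' (g ⁻¹' {t})).Subsingleton) :
    ∃ W : T.Opens, IsClosed (W : Set T) ∧ t ∈ W ∧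
      (g ⁻¹ᵁ W).ι ≫ f = (g ⁻¹ᵁ W).ι ≫ g ≫ σ ≫ f := by
  obtain ⟨W, hWc, htW, k, hk⟩ := rigidity p q g f hf t ht
  refine ⟨W, hWc, htW, ?_⟩
  have hr : Set.range (W.ι ≫ σ) ⊆ Set.range (g ⁻¹ᵁ W).ι := by
    rintro _ ⟨w, rfl⟩
    rw [Scheme.Opens.range_ι]
    show g ((W.ι ≫ σ) w) ∈ W
    rw [← Scheme.Hom.comp_apply, Category.assoc, hσ, Category.comp_id]
    exact w.2
  have e : IsOpenImmersion.lift (g ⁻¹ᵁ W).ι (W.ι ≫ σ) hr ≫ (g ⁻¹ᵁ W).ι = W.ι ≫ σ :=
    IsOpenImmersion.lift_fac _ _ _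
  have e2 : IsOpenImmersion.lift (g ⁻¹ᵁ W).ι (W.ι ≫ σ) hr ≫ (g ∣_ W) = 𝟙 _ := by
    rw [← cancel_mono W.ι, Category.assoc, morphismRestrict_ι, ← Category.assoc, e,
      Category.assoc, hσ, Category.comp_id, Category.id_comp]
  have hk2 : k = W.ι ≫ σ ≫ f := by
    calc k = (IsOpenImmersion.lift (g ⁻¹ᵁ W).ι (W.ι ≫ σ) hr ≫ (g ∣_ W)) ≫ k := by
          rw [e2, Category.id_comp]
      _ = IsOpenImmersion.lift (g ⁻¹ᵁ W).ι (W.ι ≫ σ) hr ≫ (g ⁻¹ᵁ W).ι ≫ f := by
          rw [Category.assoc, hk]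
      _ = W.ι ≫ σ ≫ f := by rw [← Category.assoc, e, Category.assoc]
  rw [hk, hk2, ← Category.assoc, morphismRestrict_ι, Category.assoc]

end Groth.Agent.Helper8.Rigid2
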