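import Mathlib
import Groth.Prelude.Def_AlgGrp
import Groth.Agent.Helper8.Blanchard1
import Groth.Agent.Helper8.Rigid2
import Groth.Agent.Helper3.ConnProd
import Groth.Agent.Helper3.SteinG5
import Groth.Agent.Helper5.RedGrp1
import Groth.Agent.Helper5.RedFib

/-!
# Blanchard's lemma II: the action of a connected group scheme descends

For `G` connected, the composite `G × X → X → Y` is constant on the fibres of `G × X → G × Y`
(rigidity applied to the reduced geometric fibres of `f`).
-/

set_option autoImplicit false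
universe u

open CategoryTheory CategoryTheory.Limits AlgebraicGeometry

namespace Groth.Agent.Helper8.Blanchard2

open Groth.Agent.Helper8.Blanchard1
open MonoidalCategory CartesianMonoidalCategory MonObj

/-- a reduced scheme over an algebraically closed field is geometrically reduced -/
theorem geometricallyReduced_of_isAlgClosed {Ω : Type u} [Field Ω] [IsAlgClosed Ω] {Z : Scheme.{u}}
    (h : Z ⟶ Spec (CommRingCat.of Ω)) [IsReduced Z] : GeometricallyReduced h := by
  refine ⟨fun K _ y W fst snd hpb => ?_⟩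
  haveI : IsReduced (Spec (CommRingCat.of K)) := inferInstance
  haveI : IsReduced (pullback h y) := Groth.Agent.Helper5.RedGrp.isReduced_pullback h y
  exact isReduced_of_isOpenImmersion hpb.isoPullback.hom

/-- precomposing a geometrically connected morphism with a surjective closed immersion -/
theorem geometricallyConnected_comp {W X Y : Scheme.{u}} (i : W ⟶ X) [IsClosedImmersion i]
    [Surjective i] (p : X ⟶ Y) [GeometricallyConnected p] : GeometricallyConnected (i ≫ p) := by
  refine ⟨geometrically_iff_of_isClosedUnderIsomorphisms.mpr fun K _ x ↦ ?_⟩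
  rw [← (pullbackRightPullbackFstIso p x i).hom.homeomorph.connectedSpace_iff]
  haveI : ConnectedSpace ↥(pullback p x) :=
    GeometricallyConnected.geometrically_connectedSpace x _ _ (.of_hasPullback p x)
  have hce : Topology.IsClosedEmbedding (pullback.snd i (pullback.fst p x)) :=
    (pullback.snd i (pullback.fst p x)).isClosedEmbedding
  have hsurj : Function.Surjective (pullback.snd i (pullback.fst p x)) :=
    (pullback.snd i (pullback.fst p x)).surjective
  exact (hce.toIsEmbedding.toHomeomorphOfSurjective hsurj).connectedSpace_iff.mpr inferInstance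

section

variable {S : Scheme.{u}}

theorem one_act_pt {G X : Over S} [GrpObj G] (a : AlgGrp.Action G X) {T : Over S} (x : T ⟶ X) :
    lift (toUnit T ≫ η[G]) x ≫ a.act = x := by
  have h1 : lift (toUnit T ≫ η[G]) x = lift (toUnit T) x ≫ (η[G] ▷ X) := by
    rw [lift_whiskerRight]
  rw [h1, Category.assoc, a.one_act, leftUnitor_hom, lift_snd]

end

section Rigid

variable {k : Type u} [Field k] {G X Y : Over (Spec (CommRingCat.of k))} [GrpObj G]

set_option maxHeartbeats 1600000 in
/-- **rigidity for actions**: the map `r ↦ f (ḡ · x(r))` is constant on a proper connected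
reduced `Ω`-scheme mapping into one geometric fibre of `f`. -/
theorem const_of_geometric_fibre [ConnectedSpace ↥G.left] [IsSeparated Y.hom] (f : X ⟶ Y)
    (a : AlgGrp.Action G X) {Ω : Type u} [Field Ω] [IsAlgClosed Ω]
    (sΩ : Spec (CommRingCat.of Ω) ⟶ Spec (CommRingCat.of k))
    {Fr : Scheme.{u}} (h : Fr ⟶ Spec (CommRingCat.of Ω)) [IsProper h] [IsReduced Fr]
    [GeometricallyConnected h]
    (gbar : Spec (CommRingCat.of Ω) ⟶ G.left) (hg : gbar ≫ G.hom = sΩ)
    (xF : Fr ⟶ X.left) (hx : xF ≫ X.hom = h ≫ sΩ)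
    (ybar : Spec (CommRingCat.of Ω) ⟶ Y.left) (hy : xF ≫ f.left = h ≫ ybar)
    (w : Fr ⟶ (G ⊗ X).left) (hw1 : w ≫ pullback.fst G.hom X.hom = h ≫ gbar)
    (hw2 : w ≫ pullback.snd G.hom X.hom = xF)
    (r₁ r₂ : Fr) : (a.act ≫ f).left (w r₁) = (a.act ≫ f).left (w r₂) := by
  have hη : η[G].left ≫ G.hom = 𝟙 (Spec (CommRingCat.of k)) := Over.w η[G]
  haveI hGgc : GeometricallyConnected G.hom :=
    Groth.Agent.Helper3.ConnProd.geometricallyConnected_of_section k G.left G.hom η[G].left hη
  haveI : ConnectedSpace ↥(pullback G.hom sΩ) :=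
    hGgc.geometrically_connectedSpace sΩ _ _ (.of_hasPullback G.hom sΩ)
  haveI : GeometricallyReduced h := geometricallyReduced_of_isAlgClosed h
  haveI : Flat h := inferInstance
  haveI : LocallyOfFinitePresentation h := inferInstance
  let pΩ : pullback G.hom sΩ ⟶ Spec (CommRingCat.of Ω) := pullback.snd G.hom sΩ
  let g : pullback pΩ h ⟶ pullback G.hom sΩ := pullback.fst pΩ h
  let p : pullback G.hom sΩ ⟶ Spec (CommRingCat.of k) := pullback.fst G.hom sΩ ≫ G.hom
  let XP : Over (Spec (CommRingCat.of k)) := Over.mk (g ≫ p)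
  let gG : XP ⟶ G := Over.homMk (g ≫ pullback.fst G.hom sΩ) (by
    show (g ≫ pullback.fst G.hom sΩ) ≫ G.hom = g ≫ pullback.fst G.hom sΩ ≫ G.hom
    rw [Category.assoc])
  have hxX : (pullback.snd pΩ h ≫ xF) ≫ X.hom = g ≫ p := by
    rw [Category.assoc, hx, ← Category.assoc, ← pullback.condition, Category.assoc]
    show g ≫ pullback.snd G.hom sΩ ≫ sΩ = g ≫ pullback.fst G.hom sΩ ≫ G.hom
    rw [pullback.condition]
  let xX : XP ⟶ X := Over.homMk (pullback.snd pΩ h ≫ xF) hxX
  let m : XP ⟶ G ⊗ X := lift gG xX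
  let dO : XP ⟶ Y := m ≫ a.act ≫ f
  let d : pullback pΩ h ⟶ Y.left := dO.left
  have hd : d ≫ Y.hom = g ≫ p := Over.w dO
  -- the unit point of `G_Ω`
  let eΩ : Spec (CommRingCat.of Ω) ⟶ pullback G.hom sΩ :=
    pullback.lift (sΩ ≫ η[G].left) (𝟙 _) (by rw [Category.assoc, hη, Category.comp_id,
      Category.id_comp])
  let pt : ↥(Spec (CommRingCat.of Ω)) := IsLocalRing.closedPoint Ω
  let t₀ : ↥(pullback G.hom sΩ) := eΩ pt
  have hsub : ∀ z z' : ↥(Spec (CommRingCat.of Ω)), z = z' := fun z z' =>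
    Subsingleton.elim (α := PrimeSpectrum Ω) z z'
  have key : ∀ x' : ↥(pullback pΩ h), g x' = t₀ → d x' = ybar pt := by
    intro x' hx'
    have hr : x' ∈ Set.range (pullback.fst g eΩ) := by
      rw [Scheme.Pullback.range_fst]
      exact ⟨pt, hx'.symm⟩
    obtain ⟨z, rfl⟩ := hr
    let j := pullback.fst g eΩ
    let FO : Over (Spec (CommRingCat.of k)) := Over.mk (j ≫ XP.hom)
    let jO : FO ⟶ XP := Over.homMk j rfl
    have hjg : jO ≫ gG = toUnit FO ≫ η[G] := by
      apply Over.OverMorphism.ext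
      show j ≫ g ≫ pullback.fst G.hom sΩ = (j ≫ g ≫ pullback.fst G.hom sΩ ≫ G.hom) ≫ η[G].left
      have e1 : j ≫ g = pullback.snd g eΩ ≫ eΩ := pullback.condition
      have e2 : eΩ ≫ pullback.fst G.hom sΩ = sΩ ≫ η[G].left := pullback.lift_fst _ _ _
      have e1' : j ≫ g ≫ pullback.fst G.hom sΩ = pullback.snd g eΩ ≫ sΩ ≫ η[G].left := by
        rw [← Category.assoc, e1, Category.assoc, e2]
      simp only [Category.assoc]
      rw [reassoc_of% e1', e1', reassoc_of% hη]
      erw [Category.id_comp]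
    have hjd : jO ≫ dO = jO ≫ xX ≫ f := by
      show jO ≫ m ≫ a.act ≫ f = _
      rw [← Category.assoc, ← Category.assoc, Category.assoc jO m]
      show (jO ≫ lift gG xX ≫ a.act) ≫ f = _
      rw [← Category.assoc jO, comp_lift, hjg, one_act_pt, Category.assoc]
    have hjd' : j ≫ d = (j ≫ pullback.snd pΩ h ≫ h) ≫ ybar := by
      have := congrArg (fun φ => φ.left) hjd
      simp only [Over.comp_left] at this
      show j ≫ dO.left = _
      rw [show jO.left = j from rfl] at this
      rw [this]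
      show j ≫ (pullback.snd pΩ h ≫ xF) ≫ f.left = _
      simp only [Category.assoc]
      rw [hy]
    show d (j z) = ybar pt
    rw [← Scheme.Hom.comp_apply, hjd', Scheme.Hom.comp_apply]
    exact congrArg _ (hsub _ _)
  have hcollapse : (d '' (g ⁻¹' {t₀})).Subsingleton := by
    rintro _ ⟨x₁, h1, rfl⟩ _ ⟨x₂, h2, rfl⟩
    rw [key x₁ h1, key x₂ h2]
  obtain ⟨W, hWc, htW, κ, hκ⟩ := Groth.Agent.Helper8.Rigid2.rigidity p Y.hom g d hd t₀ hcollapse
  have hWtop : (W : Set ↥(pullback G.hom sΩ)) = Set.univ :=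
    IsClopen.eq_univ ⟨hWc, W.isOpen⟩ ⟨t₀, htW⟩
  have hconstd : ∀ x₁ x₂ : ↥(pullback pΩ h), g x₁ = g x₂ → d x₁ = d x₂ := by
    intro x₁ x₂ h12
    have hx₁ : x₁ ∈ g ⁻¹ᵁ W := by
      show g x₁ ∈ (W : Set _)
      rw [hWtop]
      trivial
    have hx₂ : x₂ ∈ g ⁻¹ᵁ W := by
      show g x₂ ∈ (W : Set _)
      rw [hWtop]
      trivial
    have e1 : ∀ (x : ↥(pullback pΩ h)) (hx : x ∈ g ⁻¹ᵁ W), d x = κ ((g ∣_ W) ⟨x, hx⟩) := by
      intro x hx
      rw [← Scheme.Hom.comp_apply, ← hκ, Scheme.Hom.comp_apply]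
      rfl
    have e3 : (g ∣_ W) ⟨x₁, hx₁⟩ = (g ∣_ W) ⟨x₂, hx₂⟩ := by
      apply W.ι.isEmbedding.injective
      rw [← Scheme.Hom.comp_apply, ← Scheme.Hom.comp_apply, morphismRestrict_ι,
        Scheme.Hom.comp_apply, Scheme.Hom.comp_apply]
      exact h12
    rw [e1 x₁ hx₁, e1 x₂ hx₂, e3]
  -- the section
  let gΩ : Spec (CommRingCat.of Ω) ⟶ pullback G.hom sΩ :=
    pullback.lift gbar (𝟙 _) (by rw [hg, Category.id_comp])
  have hgΩ : gΩ ≫ pΩ = 𝟙 _ := pullback.lift_snd _ _ _
  let s : Fr ⟶ pullback pΩ h := pullback.lift (h ≫ gΩ) (𝟙 Fr) (by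
    rw [Category.assoc, hgΩ, Category.comp_id, Category.id_comp])
  have hsg : s ≫ g = h ≫ gΩ := pullback.lift_fst _ _ _
  have hss : s ≫ pullback.snd pΩ h = 𝟙 _ := pullback.lift_snd _ _ _
  have hm1 : m.left ≫ pullback.fst G.hom X.hom = gG.left := by
    rw [← Over.fst_left, ← Over.comp_left, lift_fst]
  have hm2 : m.left ≫ pullback.snd G.hom X.hom = xX.left := by
    rw [← Over.snd_left, ← Over.comp_left, lift_snd]
  have hsm : s ≫ m.left = w := by
    apply pullback.hom_ext
    · rw [Category.assoc, hm1, hw1]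
      show s ≫ g ≫ pullback.fst G.hom sΩ = _
      rw [← Category.assoc, hsg, Category.assoc, pullback.lift_fst]
    · rw [Category.assoc, hm2, hw2]
      show s ≫ pullback.snd pΩ h ≫ xF = _
      rw [← Category.assoc, hss, Category.id_comp]
  have hsd : s ≫ d = w ≫ (a.act ≫ f).left := by
    show s ≫ (m ≫ a.act ≫ f).left = _
    rw [Over.comp_left, ← Category.assoc, hsm]
  have hfin : d (s r₁) = d (s r₂) := by
    apply hconstd
    rw [← Scheme.Hom.comp_apply, ← Scheme.Hom.comp_apply, hsg, Scheme.Hom.comp_apply,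
      Scheme.Hom.comp_apply]
    exact congrArg _ (hsub _ _)
  rw [← Scheme.Hom.comp_apply, ← Scheme.Hom.comp_apply, hsd, Scheme.Hom.comp_apply,
    Scheme.Hom.comp_apply] at hfin
  exact hfin

set_option maxHeartbeats 1600000 in
/-- the composite `G × X → X → Y` is constant on the fibres of `G × X → G × Y` -/
theorem hconst_of_connected [ConnectedSpace ↥G.left] [IsSeparated Y.hom] (f : X ⟶ Y)
    [IsProper f.left] (hf : ∀ U : Y.left.Opens, IsIso (f.left.app U)) (a : AlgGrp.Action G X)
    (p q : ↥(G ⊗ X).left) (hpq : (G ◁ f).left p = (G ◁ f).left q) :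
    (a.act ≫ f).left p = (a.act ≫ f).left q := by
  haveI : Surjective f.left := surjective_of_isIso_app f.left hf
  haveI : GeometricallyConnected f.left :=
    Groth.Agent.Helper3.SteinG.geometricallyConnected_of_isIso_app f.left hf
  haveI : GeometricallyConnected (G ◁ f).left :=
    MorphismProperty.of_isPullback (P := @GeometricallyConnected) (isPullback_whiskerLeft G f)
      inferInstance
  haveI : IsProper (G ◁ f).left :=
    MorphismProperty.of_isPullback (P := @IsProper) (isPullback_whiskerLeft G f) inferInstance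
  let t : ↥(G ⊗ Y).left := (G ◁ f).left p
  let Ω := AlgebraicClosure ((G ⊗ Y).left.residueField t)
  let tbar : Spec (CommRingCat.of Ω) ⟶ (G ⊗ Y).left :=
    Spec.map (CommRingCat.ofHom (algebraMap ((G ⊗ Y).left.residueField t) Ω)) ≫
      (G ⊗ Y).left.fromSpecResidueField t
  have htbar : ∀ z, tbar z = t := fun z => by
    rw [Scheme.Hom.comp_apply, Scheme.fromSpecResidueField_apply]
  have hrange : Set.range tbar = {t} := by
    ext y
    constructor
    · rintro ⟨z, rfl⟩
      exact htbar z
    · intro hy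
      exact ⟨IsLocalRing.closedPoint Ω, (htbar _).trans hy.symm⟩
  let ired : (pullback (G ◁ f).left tbar).nilradical.subscheme ⟶ pullback (G ◁ f).left tbar :=
    (pullback (G ◁ f).left tbar).nilradical.subschemeι
  haveI : Surjective ired := ⟨by
    rw [← Set.range_eq_univ]
    show Set.range (pullback (G ◁ f).left tbar).nilradical.subschemeι = Set.univ
    rw [Scheme.IdealSheafData.range_subschemeι, Scheme.support_nilradical]
    rfl⟩
  let h : (pullback (G ◁ f).left tbar).nilradical.subscheme ⟶ Spec (CommRingCat.of Ω) :=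
    ired ≫ pullback.snd (G ◁ f).left tbar
  haveI : IsProper h := inferInstance
  haveI : GeometricallyConnected h := geometricallyConnected_comp ired _
  have hp : p ∈ Set.range (pullback.fst (G ◁ f).left tbar) := by
    rw [Scheme.Pullback.range_fst, hrange]
    rfl
  have hq : q ∈ Set.range (pullback.fst (G ◁ f).left tbar) := by
    rw [Scheme.Pullback.range_fst, hrange]
    exact hpq.symm
  obtain ⟨φ₁, hφ₁⟩ := hp
  obtain ⟨φ₂, hφ₂⟩ := hq
  obtain ⟨r₁, hr₁⟩ := ired.surjective φ₁
  obtain ⟨r₂, hr₂⟩ := ired.surjective φ₂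
  have hcond : pullback.fst (G ◁ f).left tbar ≫ (G ◁ f).left =
      pullback.snd (G ◁ f).left tbar ≫ tbar := pullback.condition
  have key := const_of_geometric_fibre f a (tbar ≫ (G ⊗ Y).hom) h
    (tbar ≫ (fst G Y).left) (by rw [Category.assoc, Over.w])
    (ired ≫ pullback.fst (G ◁ f).left tbar ≫ (snd G X).left) (by
      simp only [Category.assoc, h]
      rw [Over.w (snd G X), ← Over.w (G ◁ f), reassoc_of% hcond])
    (tbar ≫ (snd G Y).left) (by
      simp only [Category.assoc, h]
      rw [Over.snd_left, Over.snd_left, ← Over.whiskerLeft_left_snd, reassoc_of% hcond])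
    (ired ≫ pullback.fst (G ◁ f).left tbar) (by
      simp only [Category.assoc, h]
      rw [Over.fst_left, ← Over.whiskerLeft_left_fst (R := G) f, reassoc_of% hcond])
    (by
      simp only [Category.assoc]
      rw [Over.snd_left]) r₁ r₂
  rw [Scheme.Hom.comp_apply, Scheme.Hom.comp_apply, hr₁, hr₂, hφ₁, hφ₂] at key
  exact key

/-- **Blanchard's lemma** for connected group schemes. -/
theorem existsUnique_action [ConnectedSpace ↥G.left] [IsSeparated Y.hom] (f : X ⟶ Y)
    [IsProper f.left] (hf : ∀ U : Y.left.Opens, IsIso (f.left.app U)) (a : AlgGrp.Action G X) :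
    ∃! b : AlgGrp.Action G Y, (G ◁ f) ≫ b.act = a.act ≫ f := by
  haveI : Flat G.hom := inferInstance
  obtain ⟨b, hb⟩ := exists_action f hf a (fun p q hpq => hconst_of_connected f hf a p q hpq)
  refine ⟨b, hb, fun b' hb' => ?_⟩
  haveI : Surjective f.left := surjective_of_isIso_app f.left hf
  haveI := epi_whiskerLeft G f hf
  have hact : b'.act = b.act := by
    rw [← cancel_epi (G ◁ f), hb', hb]
  cases b
  cases b'
  simp only at hact
  subst hact
  rfl

end Rigid

end Groth.Agent.Helper8.Blanchard2
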