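import Mathlib

/-!
# Natural homomorphisms between character functors are locally induced by group homomorphisms

Pure algebra: let `B₀` be a ring, `M`, `N` commutative groups with `N` finitely generated, and
`û_B : Hom(M, B) → Hom(N, B)` a family of monoid homomorphisms, natural in the `B₀`-algebra `B`.
Then around every prime `p` of `B₀` there are `g ∉ p` and `φ : N → M` such that `û_B(ψ) = ψ ∘ φ`
for every `B₀`-algebra `B` in which `g` becomes a unit.
-/

set_option autoImplicit false
set_option linter.unusedSectionVars false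
set_option linter.unusedVariables false

universe u

noncomputable section

namespace Groth.Agent.Helper8.DHomA

open MonoidAlgebra

variable {M N : Type} [AddCommGroup M] [AddCommGroup N]

section Ev

variable {B₀ B B' : Type u} [CommRing B₀] [CommRing B] [CommRing B']

/-- evaluation `B₀[M] → B` at a ring homomorphism and a character -/
def ev (a : B₀ →+* B) (ψ : Multiplicative M →* B) :
    MonoidAlgebra B₀ (Multiplicative M) →+* B :=
  MonoidAlgebra.liftNCRingHom a ψ (fun _ _ => Commute.all _ _)

theorem ev_single (a : B₀ →+* B) (ψ : Multiplicative M →* B) (m : Multiplicative M) (b : B₀) :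
    ev a ψ (single m b) = a b * ψ m :=
  MonoidAlgebra.liftNCRingHom_single _ _ _ _ _

theorem ev_comp_ι (a : B₀ →+* B) (ψ : Multiplicative M →* B) :
    (ev a ψ).comp (singleOneRingHom : B₀ →+* MonoidAlgebra B₀ (Multiplicative M)) = a := by
  refine RingHom.ext fun r => ?_
  change ev a ψ (single 1 r) = a r
  rw [ev_single, map_one, mul_one]

theorem ev_comp_of (a : B₀ →+* B) (ψ : Multiplicative M →* B) :
    ((ev a ψ : MonoidAlgebra B₀ (Multiplicative M) →+* B) :
      MonoidAlgebra B₀ (Multiplicative M) →* B).comp (of B₀ (Multiplicative M)) = ψ := by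
  refine MonoidHom.ext fun m => ?_
  change ev a ψ (single m 1) = ψ m
  rw [ev_single, map_one, one_mul]

theorem ev_eq_comp_map (a : B₀ →+* B) (ψ : Multiplicative M →* B) :
    ev a ψ = (ev (RingHom.id B) ψ).comp (mapRingHom (Multiplicative M) a) := by
  refine MonoidAlgebra.ringHom_ext (fun r => ?_) (fun m => ?_)
  · rw [RingHom.comp_apply, mapRingHom_single, ev_single, ev_single, RingHom.id_apply]
  · rw [RingHom.comp_apply, mapRingHom_single, ev_single, ev_single, RingHom.id_apply, map_one]

theorem ev_id_one_eq_sum (x : MonoidAlgebra B₀ (Multiplicative M)) :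
    ev (RingHom.id B₀) (1 : Multiplicative M →* B₀) x = x.coeff.sum (fun _ r => r) := by
  induction x using MonoidAlgebra.induction_linear with
  | zero => simp
  | add x y hx hy =>
    rw [map_add, hx, hy, coeff_add, Finsupp.sum_add_index' (fun _ => rfl) (fun _ _ _ => rfl)]
  | single m r =>
    rw [ev_single, coeff_single, Finsupp.sum_single_index rfl, RingHom.id_apply,
      MonoidHom.one_apply, mul_one]

end Ev

section GrpLike

/-- the structure map `B₀ → B₀[M][M]` -/
def aD (B₀ : Type u) [CommRing B₀] (M : Type) [AddCommGroup M] :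
    B₀ →+* MonoidAlgebra (MonoidAlgebra B₀ (Multiplicative M)) (Multiplicative M) :=
  (singleOneRingHom :
    MonoidAlgebra B₀ (Multiplicative M) →+*
      MonoidAlgebra (MonoidAlgebra B₀ (Multiplicative M)) (Multiplicative M)).comp
    (singleOneRingHom : B₀ →+* MonoidAlgebra B₀ (Multiplicative M))

/-- the first universal character, with values in the inner copy -/
def ψ₁ (B₀ : Type u) [CommRing B₀] (M : Type) [AddCommGroup M] :
    Multiplicative M →* MonoidAlgebra (MonoidAlgebra B₀ (Multiplicative M)) (Multiplicative M) :=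
  ((singleOneRingHom :
    MonoidAlgebra B₀ (Multiplicative M) →+*
      MonoidAlgebra (MonoidAlgebra B₀ (Multiplicative M)) (Multiplicative M)) :
    MonoidAlgebra B₀ (Multiplicative M) →*
      MonoidAlgebra (MonoidAlgebra B₀ (Multiplicative M)) (Multiplicative M)).comp
    (of B₀ (Multiplicative M))

/-- the second universal character, with values in the outer copy -/
def ψ₂ (B₀ : Type u) [CommRing B₀] (M : Type) [AddCommGroup M] :
    Multiplicative M →* MonoidAlgebra (MonoidAlgebra B₀ (Multiplicative M)) (Multiplicative M) :=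
  of (MonoidAlgebra B₀ (Multiplicative M)) (Multiplicative M)

variable {B₀ : Type u} [CommRing B₀]

theorem aD_apply (r : B₀) : aD B₀ M r = single 1 (single 1 r) := rfl

theorem ψ₁_apply (m : Multiplicative M) : ψ₁ B₀ M m = single 1 (single m 1) := rfl

theorem ψ₂_apply (m : Multiplicative M) : ψ₂ B₀ M m = single m 1 := rfl

theorem ev_ψ₁ (x : MonoidAlgebra B₀ (Multiplicative M)) :
    ev (aD B₀ M) (ψ₁ B₀ M) x = single 1 x := by
  have h : ev (aD B₀ M) (ψ₁ B₀ M) = (singleOneRingHom :
      MonoidAlgebra B₀ (Multiplicative M) →+*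
        MonoidAlgebra (MonoidAlgebra B₀ (Multiplicative M)) (Multiplicative M)) := by
    refine MonoidAlgebra.ringHom_ext (fun r => ?_) (fun m => ?_)
    · rw [ev_single, map_one, mul_one, aD_apply]; rfl
    · rw [ev_single, map_one, one_mul, ψ₁_apply]; rfl
  rw [h]; rfl

theorem ev_ψ₂_coeff (x : MonoidAlgebra B₀ (Multiplicative M)) (k : Multiplicative M) :
    (ev (aD B₀ M) (ψ₂ B₀ M) x).coeff k = single 1 (x.coeff k) := by
  have h : ev (aD B₀ M) (ψ₂ B₀ M) =
      mapRingHom (Multiplicative M)
        (singleOneRingHom : B₀ →+* MonoidAlgebra B₀ (Multiplicative M)) := by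
    refine MonoidAlgebra.ringHom_ext (fun r => ?_) (fun m => ?_)
    · rw [ev_single, map_one, mul_one, mapRingHom_single, aD_apply]; rfl
    · rw [ev_single, map_one, one_mul, mapRingHom_single, map_one, ψ₂_apply]
  rw [h, coeff_mapRingHom]; rfl

theorem ev_ψ₁₂_single (m : Multiplicative M) (r : B₀) :
    ev (aD B₀ M) (ψ₁ B₀ M * ψ₂ B₀ M) (single m r) = single m (single m r) := by
  rw [ev_single, MonoidHom.mul_apply, aD_apply, ψ₁_apply, ψ₂_apply, single_mul_single,
    single_mul_single, one_mul, one_mul, mul_one, single_mul_single, one_mul, mul_one]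

theorem ev_ψ₁₂_coeff (x : MonoidAlgebra B₀ (Multiplicative M)) (k : Multiplicative M) :
    (ev (aD B₀ M) (ψ₁ B₀ M * ψ₂ B₀ M) x).coeff k = single k (x.coeff k) := by
  classical
  induction x using MonoidAlgebra.induction_linear with
  | zero => simp
  | add x y hx hy =>
    rw [map_add, coeff_add, Finsupp.add_apply, hx, hy, coeff_add, Finsupp.add_apply, single_add]
  | single m r =>
    rw [ev_ψ₁₂_single, coeff_single, coeff_single, Finsupp.single_apply, Finsupp.single_apply]
    split_ifs with hmk
    · rw [hmk]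
    · rw [single_zero]

/-- a group-like element of `B₀[M]` has orthogonal idempotent coefficients -/
theorem coeff_mul_coeff_of_groupLike (x : MonoidAlgebra B₀ (Multiplicative M))
    (h : ev (aD B₀ M) (ψ₁ B₀ M * ψ₂ B₀ M) x =
      ev (aD B₀ M) (ψ₁ B₀ M) x * ev (aD B₀ M) (ψ₂ B₀ M) x)
    (m k : Multiplicative M) :
    (k ≠ m → x.coeff m * x.coeff k = 0) ∧ x.coeff m * x.coeff m = x.coeff m := by
  classical
  have key : ∀ k : Multiplicative M,
      x.coeff m * x.coeff k = if k = m then x.coeff k else 0 := by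
    intro k
    have h1 : (ev (aD B₀ M) (ψ₁ B₀ M * ψ₂ B₀ M) x).coeff k =
        (ev (aD B₀ M) (ψ₁ B₀ M) x * ev (aD B₀ M) (ψ₂ B₀ M) x).coeff k := by rw [h]
    rw [ev_ψ₁₂_coeff, ev_ψ₁, coeff_single_one_mul, ev_ψ₂_coeff] at h1
    have h2 : (single k (x.coeff k) : MonoidAlgebra B₀ (Multiplicative M)).coeff m =
        (x * single 1 (x.coeff k)).coeff m := by rw [h1]
    rw [coeff_mul_single_one, coeff_single, Finsupp.single_apply] at h2
    exact h2.symm
  refine ⟨fun hkm => ?_, ?_⟩
  · rw [key k, if_neg hkm]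
  · rw [key m, if_pos rfl]

end GrpLike

section Local

variable {B₀ : Type u} [CommRing B₀]

variable (χ : Multiplicative N →* MonoidAlgebra B₀ (Multiplicative M))
  (h1o : ∀ (n : Multiplicative N) (m k : Multiplicative M), k ≠ m →
    (χ n).coeff m * (χ n).coeff k = 0)
  (h1i : ∀ (n : Multiplicative N) (m : Multiplicative M),
    (χ n).coeff m * (χ n).coeff m = (χ n).coeff m)
  (h2 : ∀ n, ev (RingHom.id B₀) (1 : Multiplicative M →* B₀) (χ n) = 1)
  (p : Ideal B₀) [hp : p.IsPrime]

include h2 in
theorem exists_coeff_not_mem (n : Multiplicative N) : ∃ m, (χ n).coeff m ∉ p := by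
  by_contra hcon
  push_neg at hcon
  have h := h2 n
  rw [ev_id_one_eq_sum] at h
  have hmem : (χ n).coeff.sum (fun _ r => r) ∈ p :=
    Ideal.sum_mem _ fun m _ => hcon m
  rw [h] at hmem
  exact hp.ne_top ((Ideal.eq_top_iff_one _).mpr hmem)

include h1o in
theorem coeff_unique (n : Multiplicative N) (m k : Multiplicative M)
    (hm : (χ n).coeff m ∉ p) (hk : (χ n).coeff k ∉ p) : k = m := by
  by_contra hne
  have h := h1o n m k hne
  have : (χ n).coeff m * (χ n).coeff k ∈ p := by rw [h]; exact p.zero_mem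
  rcases hp.mem_or_mem this with h' | h'
  · exact hm h'
  · exact hk h'

/-- the index of the coefficient of `χ n` which does not vanish at `p` -/
def φ₀ (n : Multiplicative N) : Multiplicative M :=
  Classical.choose (exists_coeff_not_mem χ h2 p n)

theorem φ₀_spec (n : Multiplicative N) : (χ n).coeff (φ₀ χ h2 p n) ∉ p :=
  Classical.choose_spec (exists_coeff_not_mem χ h2 p n)

include h1o in
theorem coeff_mem_of_ne (n : Multiplicative N) (m : Multiplicative M) (hm : m ≠ φ₀ χ h2 p n) :
    (χ n).coeff m ∈ p := by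
  by_contra hcon
  exact hm (coeff_unique χ h1o p n _ m (φ₀_spec χ h2 p n) hcon)

include h1i in
theorem mk_coeff_φ₀ (n : Multiplicative N) :
    Ideal.Quotient.mk p ((χ n).coeff (φ₀ χ h2 p n)) = 1 := by
  have hid : IsIdempotentElem (Ideal.Quotient.mk p ((χ n).coeff (φ₀ χ h2 p n))) := by
    change _ * _ = _
    rw [← map_mul, h1i]
  haveI : IsDomain (B₀ ⧸ p) := Ideal.Quotient.isDomain p
  rcases IsIdempotentElem.iff_eq_zero_or_one.mp hid with h | h
  · exact absurd (Ideal.Quotient.eq_zero_iff_mem.mp h) (φ₀_spec χ h2 p n)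
  · exact h

include h1o h1i in
theorem map_mk_eq_single (n : Multiplicative N) :
    mapRingHom (Multiplicative M) (Ideal.Quotient.mk p) (χ n) = single (φ₀ χ h2 p n) 1 := by
  classical
  apply coeff_injective
  ext m
  rw [coeff_mapRingHom, coeff_single, Finsupp.single_apply]
  split_ifs with hm
  · rw [← hm]; exact mk_coeff_φ₀ χ h1i h2 p n
  · exact Ideal.Quotient.eq_zero_iff_mem.mpr (coeff_mem_of_ne χ h1o h2 p n m (Ne.symm hm))

include h1o h1i in
theorem φ₀_mul (n n' : Multiplicative N) :
    φ₀ χ h2 p (n * n') = φ₀ χ h2 p n * φ₀ χ h2 p n' := by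
  haveI : IsDomain (B₀ ⧸ p) := Ideal.Quotient.isDomain p
  have e := map_mk_eq_single χ h1o h1i h2 p (n * n')
  rw [map_mul χ, map_mul, map_mk_eq_single χ h1o h1i h2 p n,
    map_mk_eq_single χ h1o h1i h2 p n', single_mul_single, mul_one] at e
  have e' : of (B₀ ⧸ p) (Multiplicative M) (φ₀ χ h2 p n * φ₀ χ h2 p n') =
      of (B₀ ⧸ p) (Multiplicative M) (φ₀ χ h2 p (n * n')) := by
    rw [of_apply, of_apply]; exact e
  exact (MonoidAlgebra.of_injective e').symm

/-- `φ₀` as a homomorphism -/
def φ' : Multiplicative N →* Multiplicative M :=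
  MonoidHom.mk' (φ₀ χ h2 p) (φ₀_mul χ h1o h1i h2 p)

theorem φ'_apply (n : Multiplicative N) : φ' χ h1o h1i h2 p n = φ₀ χ h2 p n := rfl

variable {B : Type u} [CommRing B] (a : B₀ →+* B)

include h1o h1i in
theorem map_eq_single_of_isUnit (n : Multiplicative N)
    (hu : IsUnit (a ((χ n).coeff (φ₀ χ h2 p n)))) :
    mapRingHom (Multiplicative M) a (χ n) = single (φ₀ χ h2 p n) 1 := by
  classical
  have hid : a ((χ n).coeff (φ₀ χ h2 p n)) * a ((χ n).coeff (φ₀ χ h2 p n)) =
      a ((χ n).coeff (φ₀ χ h2 p n)) := by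
    rw [← map_mul, h1i]
  have hone : a ((χ n).coeff (φ₀ χ h2 p n)) = 1 :=
    hu.mul_left_cancel (by rw [hid, mul_one])
  apply coeff_injective
  ext m
  rw [coeff_mapRingHom, coeff_single, Finsupp.single_apply]
  split_ifs with hm
  · rw [← hm]; exact hone
  · have h := h1o n m (φ₀ χ h2 p n) hm
    calc a ((χ n).coeff m) = a ((χ n).coeff m) * a ((χ n).coeff (φ₀ χ h2 p n)) := by
          rw [hone, mul_one]
      _ = 0 := by rw [← map_mul, h, map_zero]

include h1o h1i in
/-- the local structure: near `p` the family `χ` is given by the homomorphism `φ'` -/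
theorem exists_local (T : Finset (Multiplicative N))
    (hT : Subgroup.closure (T : Set (Multiplicative N)) = ⊤) :
    ∃ g : B₀, g ∉ p ∧ ∀ (B : Type u) [CommRing B] (a : B₀ →+* B), IsUnit (a g) →
      ∀ (ψ : Multiplicative M →* B) (n : Multiplicative N),
        ev a ψ (χ n) = ψ (φ' χ h1o h1i h2 p n) := by
  classical
  refine ⟨∏ n ∈ T, (χ n).coeff (φ₀ χ h2 p n), ?_, ?_⟩
  · rw [hp.prod_mem_iff]
    rintro ⟨n, -, hn⟩
    exact φ₀_spec χ h2 p n hn
  · intro B _ a hu ψ
    have hu' : ∀ n ∈ T, IsUnit (a ((χ n).coeff (φ₀ χ h2 p n))) := by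
      intro n hn
      rw [map_prod] at hu
      exact (IsUnit.prod_iff.mp hu) n hn
    have key : ((ev a ψ : MonoidAlgebra B₀ (Multiplicative M) →+* B) :
        MonoidAlgebra B₀ (Multiplicative M) →* B).comp χ = ψ.comp (φ' χ h1o h1i h2 p) := by
      refine MonoidHom.eq_of_eqOn_dense hT ?_
      intro n hn
      change ev a ψ (χ n) = ψ (φ₀ χ h2 p n)
      rw [ev_eq_comp_map, RingHom.comp_apply,
        map_eq_single_of_isUnit χ h1o h1i h2 p a n (hu' n hn), ev_single, RingHom.id_apply,
        one_mul]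
    intro n
    exact DFunLike.congr_fun key n

end Local

section Main

variable {B₀ : Type u} [CommRing B₀]

local notation "C" => MonoidAlgebra B₀ (Multiplicative M)

variable (U : ∀ (B : Type u) [CommRing B] (_ : B₀ →+* B),
    (Multiplicative M →* B) →* (Multiplicative N →* B))
  (hnat : ∀ (B B' : Type u) [CommRing B] [CommRing B'] (a : B₀ →+* B) (b : B →+* B')
    (ψ : Multiplicative M →* B),
    U B' (b.comp a) ((b : B →* B').comp ψ) = (b : B →* B').comp (U B a ψ))

/-- the universal value of the natural family -/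
def chiU : Multiplicative N →* C :=
  U C (singleOneRingHom : B₀ →+* C) (of B₀ (Multiplicative M))

include hnat in
theorem eval_formula (B : Type u) [CommRing B] (a : B₀ →+* B) (ψ : Multiplicative M →* B) :
    U B a ψ = ((ev a ψ : C →+* B) : C →* B).comp (chiU U) := by
  have h := hnat C B (singleOneRingHom : B₀ →+* C) (ev a ψ) (of B₀ (Multiplicative M))
  rw [ev_comp_ι, ev_comp_of] at h
  exact h

include hnat in
theorem chiU_h2 (n : Multiplicative N) :
    ev (RingHom.id B₀) (1 : Multiplicative M →* B₀) (chiU U n) = 1 := by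
  have h := eval_formula U hnat B₀ (RingHom.id B₀) 1
  rw [map_one] at h
  have := DFunLike.congr_fun h n
  exact this.symm

include hnat in
theorem chiU_h1 (n : Multiplicative N) (m k : Multiplicative M) :
    (k ≠ m → (chiU U n).coeff m * (chiU U n).coeff k = 0) ∧
      (chiU U n).coeff m * (chiU U n).coeff m = (chiU U n).coeff m := by
  apply coeff_mul_coeff_of_groupLike
  have e12 := eval_formula U hnat _ (aD B₀ M) (ψ₁ B₀ M * ψ₂ B₀ M)
  have e1 := eval_formula U hnat _ (aD B₀ M) (ψ₁ B₀ M)
  have e2 := eval_formula U hnat _ (aD B₀ M) (ψ₂ B₀ M)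
  have hm : U _ (aD B₀ M) (ψ₁ B₀ M * ψ₂ B₀ M) =
      U _ (aD B₀ M) (ψ₁ B₀ M) * U _ (aD B₀ M) (ψ₂ B₀ M) := map_mul _ _ _
  have := DFunLike.congr_fun hm n
  rw [MonoidHom.mul_apply, e12, e1, e2] at this
  exact this

include hnat in
/-- **Main algebraic theorem.** A natural family of homomorphisms `Hom(M, B) → Hom(N, B)` is, near
every prime of the base ring, composition with a homomorphism `N → M`. -/
theorem main [hN : AddGroup.FG N] (p : Ideal B₀) [hp : p.IsPrime] :
    ∃ (g : B₀) (φ : N →+ M), g ∉ p ∧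
      ∀ (B : Type u) [CommRing B] (a : B₀ →+* B), IsUnit (a g) →
        ∀ (ψ : Multiplicative M →* B) (n : Multiplicative N),
          U B a ψ n = ψ (AddMonoidHom.toMultiplicative φ n) := by
  classical
  have hfg : Group.FG (Multiplicative N) := GroupFG.iff_add_fg.mpr hN
  obtain ⟨T, hT⟩ := Group.fg_def.mp hfg
  obtain ⟨g, hg, hloc⟩ := exists_local (chiU U) (fun n m k => (chiU_h1 U hnat n m k).1)
    (fun n m => (chiU_h1 U hnat n m m).2) (fun n => chiU_h2 U hnat n) p T hT
  refine ⟨g, AddMonoidHom.toMultiplicative.symm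
    (φ' (chiU U) (fun n m k => (chiU_h1 U hnat n m k).1)
      (fun n m => (chiU_h1 U hnat n m m).2) (fun n => chiU_h2 U hnat n) p), hg, ?_⟩
  intro B _ a hu ψ n
  rw [Equiv.apply_symm_apply, eval_formula U hnat B a ψ]
  exact hloc B a hu ψ n

end Main

end Groth.Agent.Helper8.DHomA
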