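import Mathlib

set_option autoImplicit false
open CategoryTheory CategoryTheory.Limits AlgebraicGeometry TopologicalSpace
universe u

namespace Groth.Agent.Helper8.LieA

/-- restriction along an equality of opens and back is the identity -/
lemma res_res {Y : Scheme.{u}} {V W : Y.Opens} (e : V = W) (e' : W = V) (y : Γ(Y, W)) :
    (Y.presheaf.map (eqToHom e').op).hom ((Y.presheaf.map (eqToHom e).op).hom y) = y := by
  subst e
  simp

/-- joint injectivity on all opens from triviality of the intersection of kernels -/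
lemma joint_injective_of_ker_inf_eq_bot {X₁ X₂ Y : Scheme.{u}} (f₁ : X₁ ⟶ Y) (f₂ : X₂ ⟶ Y)
    [QuasiCompact f₁] [QuasiCompact f₂] (h : f₁.ker ⊓ f₂.ker = ⊥) (V : Y.Opens) (s : Γ(Y, V))
    (h₁ : f₁.app V s = 0) (h₂ : f₂.app V s = 0) : s = 0 := by
  let ι := {U : Y.affineOpens // U.1 ≤ V}
  have hcover : V ≤ ⨆ i : ι, i.1.1 := by
    intro x hx
    obtain ⟨U, hU, hxU, hUV⟩ := Opens.isBasis_iff_nbhd.1 Y.isBasis_affineOpens hx
    exact Opens.mem_iSup.2 ⟨⟨⟨U, hU⟩, hUV⟩, hxU⟩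
  refine Y.sheaf.eq_of_locally_eq' (fun i : ι => i.1.1) V (fun i => homOfLE i.2) hcover s 0
    (fun i => ?_)
  rw [map_zero]
  have hz : ∀ {X : Scheme.{u}} (f : X ⟶ Y), f.app V s = 0 →
      (Y.presheaf.map (homOfLE i.2).op).hom s ∈ RingHom.ker (f.app i.1.1).hom := by
    intro X f hf
    rw [RingHom.mem_ker]
    have := congrArg (fun φ => φ.hom s) (f.naturality (homOfLE i.2).op)
    simp only [CommRingCat.hom_comp, RingHom.comp_apply] at this
    rw [this]
    change (X.presheaf.map _).hom ((f.app V).hom s) = 0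
    rw [show (f.app V).hom s = 0 from hf, map_zero]
  have hmem : (Y.presheaf.map (homOfLE i.2).op).hom s ∈ (f₁.ker ⊓ f₂.ker).ideal i.1 := by
    rw [Scheme.IdealSheafData.ideal_inf]
    refine ⟨?_, ?_⟩
    · rw [Scheme.Hom.ker_apply]; exact hz f₁ h₁
    · rw [Scheme.Hom.ker_apply]; exact hz f₂ h₂
  rw [h] at hmem
  exact hmem

/-- a pair of morphisms, the first surjective, jointly injective on sections, is jointly epi -/
theorem joint_cancel {X₁ X₂ Y Z : Scheme.{u}} (f₁ : X₁ ⟶ Y) (f₂ : X₂ ⟶ Y)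
    (hsurj : Function.Surjective f₁.base)
    (hinj : ∀ (V : Y.Opens) (s : Γ(Y, V)), f₁.app V s = 0 → f₂.app V s = 0 → s = 0)
    (g₁ g₂ : Y ⟶ Z) (e₁ : f₁ ≫ g₁ = f₁ ≫ g₂) (e₂ : f₂ ≫ g₁ = f₂ ≫ g₂) : g₁ = g₂ := by
  have hb : g₁.base = g₂.base := by
    have h1 := congrArg (fun f : X₁ ⟶ Z => f.base) e₁
    simp only [Scheme.Hom.comp_base] at h1
    haveI : Epi f₁.base := (TopCat.epi_iff_surjective _).2 hsurj
    exact (cancel_epi f₁.base).1 h1
  refine Scheme.Hom.ext hb (fun U => ?_)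
  ext s
  have e : g₁ ⁻¹ᵁ U = g₂ ⁻¹ᵁ U := congr((Opens.map $hb).obj U)
  change (Y.presheaf.map (eqToHom e.symm).op).hom (g₁.app U s) = g₂.app U s
  -- it suffices to compare after restriction to `g₁ ⁻¹ᵁ U`
  have key : ∀ {X : Scheme.{u}} (f : X ⟶ Y), f ≫ g₁ = f ≫ g₂ →
      f.app (g₁ ⁻¹ᵁ U) (g₁.app U s - (Y.presheaf.map (eqToHom e).op).hom (g₂.app U s)) = 0 := by
    intro X f hf
    have happ := Scheme.Hom.congr_app hf U
    rw [Scheme.Hom.comp_app, Scheme.Hom.comp_app] at happ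
    have h1 := congrArg (fun φ => φ.hom s) happ
    simp only [CommRingCat.hom_comp, RingHom.comp_apply] at h1
    have h2 := congrArg (fun φ => φ.hom (g₂.app U s)) (f.naturality (eqToHom e).op)
    simp only [CommRingCat.hom_comp, RingHom.comp_apply] at h2
    rw [map_sub, sub_eq_zero]
    refine h1.trans ?_
    exact h2.symm
  have h3 := hinj _ _ (key f₁ e₁) (key f₂ e₂)
  rw [sub_eq_zero] at h3
  rw [h3]
  exact res_res e e.symm _

end Groth.Agent.Helper8.LieA

namespace Groth.Agent.Helper8.LieA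

/-- affine case: a pair of ring maps out of `E`, jointly injective, the first surjective on spectra,
gives a jointly epimorphic pair of morphisms of schemes into `Spec E` -/
theorem spec_joint_cancel {E D₁ D₂ : Type u} [CommRing E] [CommRing D₁] [CommRing D₂]
    (π₁ : E →+* D₁) (π₂ : E →+* D₂)
    (hsurj : Function.Surjective (PrimeSpectrum.comap π₁))
    (hinj : ∀ x : E, π₁ x = 0 → π₂ x = 0 → x = 0) {Z : Scheme.{u}}
    (g₁ g₂ : Spec (CommRingCat.of E) ⟶ Z)
    (e₁ : Spec.map (CommRingCat.ofHom π₁) ≫ g₁ = Spec.map (CommRingCat.ofHom π₁) ≫ g₂)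
    (e₂ : Spec.map (CommRingCat.ofHom π₂) ≫ g₁ = Spec.map (CommRingCat.ofHom π₂) ≫ g₂) :
    g₁ = g₂ := by
  have hker : (Spec.map (CommRingCat.ofHom π₁)).ker ⊓ (Spec.map (CommRingCat.ofHom π₂)).ker = ⊥ := by
    apply Scheme.IdealSheafData.ext_of_isAffine
    rw [Scheme.IdealSheafData.ideal_inf, Scheme.IdealSheafData.ideal_bot]
    change (Spec.map (CommRingCat.ofHom π₁)).ker.ideal ⟨⊤, isAffineOpen_top _⟩ ⊓
      (Spec.map (CommRingCat.ofHom π₂)).ker.ideal ⟨⊤, isAffineOpen_top _⟩ = ⊥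
    rw [Scheme.Hom.ker_apply, Scheme.Hom.ker_apply, eq_bot_iff]
    rintro s ⟨hs₁, hs₂⟩
    rw [SetLike.mem_coe, RingHom.mem_ker] at hs₁ hs₂
    have hz : ∀ {D : Type u} [CommRing D] (π : E →+* D),
        ((Spec.map (CommRingCat.ofHom π)).app ⊤).hom s = 0 →
        π ((Scheme.ΓSpecIso (CommRingCat.of E)).hom.hom s) = 0 := by
      intro D _ π hs
      have h1 := congrArg (fun φ => φ.hom s) (Scheme.ΓSpecIso_naturality (CommRingCat.ofHom π))
      simp only [CommRingCat.hom_comp, RingHom.comp_apply] at h1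
      rw [← CommRingCat.hom_ofHom π, ← h1]
      have h2 : ((Spec.map (CommRingCat.ofHom π)).appTop).hom s = 0 := hs
      rw [h2]
      exact map_zero (Scheme.ΓSpecIso (CommRingCat.of D)).hom.hom
    have hx := hinj _ (hz π₁ hs₁) (hz π₂ hs₂)
    have hinjE : Function.Injective (Scheme.ΓSpecIso (CommRingCat.of E)).hom.hom :=
      (ConcreteCategory.bijective_of_isIso (Scheme.ΓSpecIso (CommRingCat.of E)).hom).1
    exact hinjE (hx.trans (map_zero _).symm)
  refine joint_cancel (Spec.map (CommRingCat.ofHom π₁)) (Spec.map (CommRingCat.ofHom π₂)) ?_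
    (fun V s h₁ h₂ => joint_injective_of_ker_inf_eq_bot _ _ hker V s h₁ h₂) g₁ g₂ e₁ e₂
  intro P
  obtain ⟨Q, hQ⟩ := hsurj P
  exact ⟨Q, hQ⟩

/-- single ring map version -/
theorem spec_cancel {E D : Type u} [CommRing E] [CommRing D] (π : E →+* D)
    (hsurj : Function.Surjective (PrimeSpectrum.comap π))
    (hinj : Function.Injective π) {Z : Scheme.{u}}
    (g₁ g₂ : Spec (CommRingCat.of E) ⟶ Z)
    (e : Spec.map (CommRingCat.ofHom π) ≫ g₁ = Spec.map (CommRingCat.ofHom π) ≫ g₂) :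
    g₁ = g₂ :=
  spec_joint_cancel π π hsurj (fun _ hx _ => hinj (hx.trans (map_zero π).symm)) g₁ g₂ e e

end Groth.Agent.Helper8.LieA
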