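import Groth.Prelude.Def_LieS
import Groth.Agent.Helper8.LieA

set_option autoImplicit false
noncomputable section
universe u
open CategoryTheory MonObj AlgebraicGeometry
open LieS

namespace Groth.Agent.Helper8.LieC

/-- a surjective ring map whose kernel consists of square-zero elements is surjective on spectra -/
lemma comap_surjective_of_sq_zero {R R' : Type u} [CommRing R] [CommRing R'] (φ : R →+* R')
    (hs : Function.Surjective φ) (hk : ∀ x, φ x = 0 → x * x = 0) :
    Function.Surjective (PrimeSpectrum.comap φ) := by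
  intro P
  have : P ∈ Set.range (PrimeSpectrum.comap φ) := by
    rw [range_comap_of_surjective _ _ hs, PrimeSpectrum.mem_zeroLocus]
    intro x hx
    have hsq : x * x = 0 := hk x hx
    have : x * x ∈ P.asIdeal := by rw [hsq]; exact P.asIdeal.zero_mem
    rcases P.2.mem_or_mem this with h | h <;> exact h
  exact this

variable (B : Type u) [CommRing B]

/-- `B[e₁, e₂]/(e₁, e₂)²` -/
abbrev E : Type u := TrivSqZeroExt B (B × B)

variable {B}

/-- `ε ↦ m₁ e₁ + m₂ e₂` -/
def αm (m : B × B) : DualNumber B →+* E B :=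
  dualHom (algebraMap B (E B)) (TrivSqZeroExt.inr m) (by simp)

/-- kill `e₂` -/
def π₁ : E B →+* DualNumber B := (TrivSqZeroExt.map (LinearMap.fst B B B)).toRingHom
/-- kill `e₁` -/
def π₂ : E B →+* DualNumber B := (TrivSqZeroExt.map (LinearMap.snd B B B)).toRingHom
/-- `e₁, e₂ ↦ ε` -/
def δ : E B →+* DualNumber B :=
  (TrivSqZeroExt.map (LinearMap.fst B B B + LinearMap.snd B B B)).toRingHom

lemma αm_comp_algebraMap (m : B × B) :
    (αm m).comp (algebraMap B (DualNumber B)) = algebraMap B (E B) :=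
  dualHom_comp_algebraMap _ _ _

lemma π₁_comp_algebraMap : (π₁ (B := B)).comp (algebraMap B (E B)) = algebraMap B (DualNumber B) :=
  RingHom.ext fun b => by
    simp [π₁, TrivSqZeroExt.algebraMap_eq_inl']
lemma π₂_comp_algebraMap : (π₂ (B := B)).comp (algebraMap B (E B)) = algebraMap B (DualNumber B) :=
  RingHom.ext fun b => by
    simp [π₂, TrivSqZeroExt.algebraMap_eq_inl']
lemma δ_comp_algebraMap : (δ (B := B)).comp (algebraMap B (E B)) = algebraMap B (DualNumber B) :=
  RingHom.ext fun b => by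
    simp [δ, TrivSqZeroExt.algebraMap_eq_inl']

lemma π₁_comp_αm (m : B × B) : (π₁ (B := B)).comp (αm m) = scaleHom m.1 :=
  RingHom.ext fun x => by
    apply TrivSqZeroExt.ext <;>
    simp [π₁, αm, scaleHom, TrivSqZeroExt.algebraMap_eq_inl', mul_comm]
lemma π₂_comp_αm (m : B × B) : (π₂ (B := B)).comp (αm m) = scaleHom m.2 :=
  RingHom.ext fun x => by
    apply TrivSqZeroExt.ext <;>
    simp [π₂, αm, scaleHom, TrivSqZeroExt.algebraMap_eq_inl', mul_comm]
lemma δ_comp_αm (m : B × B) : (δ (B := B)).comp (αm m) = scaleHom (m.1 + m.2) :=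
  RingHom.ext fun x => by
    apply TrivSqZeroExt.ext <;>
    simp [δ, αm, scaleHom, TrivSqZeroExt.algebraMap_eq_inl', mul_add, add_mul, mul_comm]

lemma comap_π₁_surjective : Function.Surjective (PrimeSpectrum.comap (R := E B) (S := DualNumber B) π₁) := by
  apply comap_surjective_of_sq_zero
  · intro x
    refine ⟨TrivSqZeroExt.inl x.fst + TrivSqZeroExt.inr (x.snd, 0), ?_⟩
    apply TrivSqZeroExt.ext <;> simp [π₁]
  · intro x hx
    have h1 : x.fst = 0 := by simpa [π₁] using congrArg TrivSqZeroExt.fst hx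
    apply TrivSqZeroExt.ext <;> simp [h1]

lemma π_joint_injective (x : E B) (h₁ : π₁ x = 0) (h₂ : π₂ x = 0) : x = 0 := by
  have h1 : x.fst = 0 := by simpa [π₁] using congrArg TrivSqZeroExt.fst h₁
  have h2 : x.snd.1 = 0 := by simpa [π₁] using congrArg TrivSqZeroExt.snd h₁
  have h3 : x.snd.2 = 0 := by simpa [π₂] using congrArg TrivSqZeroExt.snd h₂
  apply TrivSqZeroExt.ext
  · simpa using h1
  · exact Prod.ext h2 h3

lemma scaleHom_zero : scaleHom (0 : B) =
    (algebraMap B (DualNumber B)).comp (TrivSqZeroExt.fstHom B B B).toRingHom :=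
  RingHom.ext fun x => by
    apply TrivSqZeroExt.ext <;> simp [scaleHom, TrivSqZeroExt.algebraMap_eq_inl']

lemma scaleHom_one : scaleHom (1 : B) = RingHom.id _ :=
  RingHom.ext fun x => by
    apply TrivSqZeroExt.ext <;> simp [scaleHom, TrivSqZeroExt.algebraMap_eq_inl']

section Schemes

variable {S : Scheme.{u}} (f : Spec (CommRingCat.of B) ⟶ S)

/-- `Spec E` over `S` -/
def ept : Over S := Over.mk (Spec.map (CommRingCat.ofHom (algebraMap B (E B))) ≫ f)

def A (m : B × B) : ept f ⟶ dpt B f :=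
  Over.homMk (Spec.map (CommRingCat.ofHom (αm m))) (by
    change Spec.map _ ≫ Spec.map _ ≫ f = Spec.map _ ≫ f
    rw [← Category.assoc, specMap_comp, αm_comp_algebraMap])

def P₁ : dpt B f ⟶ ept f :=
  Over.homMk (Spec.map (CommRingCat.ofHom π₁)) (by
    change Spec.map _ ≫ Spec.map _ ≫ f = Spec.map _ ≫ f
    rw [← Category.assoc, specMap_comp, π₁_comp_algebraMap])

def P₂ : dpt B f ⟶ ept f :=
  Over.homMk (Spec.map (CommRingCat.ofHom π₂)) (by
    change Spec.map _ ≫ Spec.map _ ≫ f = Spec.map _ ≫ f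
    rw [← Category.assoc, specMap_comp, π₂_comp_algebraMap])

def Δ : dpt B f ⟶ ept f :=
  Over.homMk (Spec.map (CommRingCat.ofHom δ)) (by
    change Spec.map _ ≫ Spec.map _ ≫ f = Spec.map _ ≫ f
    rw [← Category.assoc, specMap_comp, δ_comp_algebraMap])

lemma P₁_A (m : B × B) : P₁ f ≫ A f m = scale B f m.1 := by
  ext; change Spec.map _ ≫ Spec.map _ = Spec.map _
  rw [specMap_comp, π₁_comp_αm]

lemma P₂_A (m : B × B) : P₂ f ≫ A f m = scale B f m.2 := by
  ext; change Spec.map _ ≫ Spec.map _ = Spec.map _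
  rw [specMap_comp, π₂_comp_αm]

lemma Δ_A (m : B × B) : Δ f ≫ A f m = scale B f (m.1 + m.2) := by
  ext; change Spec.map _ ≫ Spec.map _ = Spec.map _
  rw [specMap_comp, δ_comp_αm]

lemma scale_zero : scale B f 0 = proj B f ≫ zeroSec B f := by
  ext; change Spec.map _ = Spec.map _ ≫ Spec.map _
  rw [specMap_comp, scaleHom_zero]

lemma scale_one : scale B f 1 = 𝟙 _ := by
  ext; change Spec.map _ = 𝟙 _
  rw [scaleHom_one, CommRingCat.ofHom_id]; erw [Spec.map_id]

variable {X : Over S}

variable [MonObj X]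

lemma scale_zero_comp (v : dpt B f ⟶ X) (hv : zeroSec B f ≫ v = 1) : scale B f 0 ≫ v = 1 := by
  rw [scale_zero, Category.assoc, hv, MonObj.comp_one]

omit [MonObj X] in
lemma ept_hom_ext (g₁ g₂ : ept f ⟶ X) (h₁ : P₁ f ≫ g₁ = P₁ f ≫ g₂) (h₂ : P₂ f ≫ g₁ = P₂ f ≫ g₂) :
    g₁ = g₂ := by
  apply Over.OverMorphism.ext
  have e₁ := congrArg (fun g => g.left) h₁
  have e₂ := congrArg (fun g => g.left) h₂
  simp only [Over.comp_left] at e₁ e₂
  have hl₁ : (P₁ f).left = Spec.map (CommRingCat.ofHom π₁) := rfl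
  have hl₂ : (P₂ f).left = Spec.map (CommRingCat.ofHom π₂) := rfl
  rw [hl₁] at e₁
  rw [hl₂] at e₂
  have := @LieA.spec_joint_cancel (E B) (DualNumber B) (DualNumber B) _ _ _ π₁ π₂
  have h2 := this comap_π₁_surjective π_joint_injective g₁.left g₂.left
  exact h2 e₁ e₂

/-- the key additivity: on points restricting to the unit, the product is addition of dual coordinates -/
theorem scale_mul_scale (v : dpt B f ⟶ X) (hv : zeroSec B f ≫ v = 1) (a b : B) :
    (scale B f a ≫ v) * (scale B f b ≫ v) = scale B f (a + b) ≫ v := by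
  have h0 := scale_zero_comp f v hv
  have key : A f (a, b) ≫ v = (A f (a, 0) ≫ v) * (A f (0, b) ≫ v) := by
    apply ept_hom_ext
    · rw [MonObj.comp_mul, ← Category.assoc, ← Category.assoc, ← Category.assoc, P₁_A, P₁_A, P₁_A]
      simp only []
      rw [h0, _root_.mul_one]
    · rw [MonObj.comp_mul, ← Category.assoc, ← Category.assoc, ← Category.assoc, P₂_A, P₂_A, P₂_A]
      simp only []
      rw [h0, _root_.one_mul]
  have e1 : scale B f a ≫ v = Δ f ≫ A f (a, 0) ≫ v := by
    rw [← Category.assoc, Δ_A]; simp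
  have e2 : scale B f b ≫ v = Δ f ≫ A f (0, b) ≫ v := by
    rw [← Category.assoc, Δ_A]; simp
  rw [e1, e2, ← MonObj.comp_mul, ← key, ← Category.assoc, Δ_A]

end Schemes

end Groth.Agent.Helper8.LieC
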