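import Groth.Prelude.Def_LieS
import Groth.Prelude.Def_Red
import Groth.Agent.Helper8.LieC

set_option autoImplicit false
noncomputable section
universe u
open CategoryTheory MonObj AlgebraicGeometry
open LieS

namespace Groth.Agent.Helper8.LieF

variable (R : Type u) [CommRing R] (M : Type) [AddCommGroup M]

/-- conv-algebra homs out of the group algebra into a commutative algebra are monoid homs -/
def convEquiv (T : Type u) [CommRing T] [Algebra R T] :
    WithConv (MonoidAlgebra R (Multiplicative M) →ₐ[R] T) ≃* (Multiplicative M →* T) where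
  toFun φ := (MonoidAlgebra.lift R T (Multiplicative M)).symm φ.ofConv
  invFun χ := WithConv.toConv (MonoidAlgebra.lift R T (Multiplicative M) χ)
  left_inv φ := by simp
  right_inv χ := by simp
  map_mul' φ ψ := by
    refine MonoidHom.ext fun g => ?_
    change (φ * ψ) (MonoidAlgebra.single g 1) =
      φ.ofConv (MonoidAlgebra.single g 1) * ψ.ofConv (MonoidAlgebra.single g 1)
    rw [AlgHom.convMul_apply,
      (MonoidAlgebra.isGroupLikeElem_single_one (R := R) (A := R) g).comul_eq_tmul_self]
    simp

lemma convEquiv_apply (T : Type u) [CommRing T] [Algebra R T]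
    (φ : WithConv (MonoidAlgebra R (Multiplicative M) →ₐ[R] T)) (g : Multiplicative M) :
    convEquiv R M T φ g = φ.ofConv (MonoidAlgebra.single g 1) := rfl


section Schemes

variable (B : Type u) [CommRing B] [Algebra R B]

/-- the structure map of `Spec B` -/
abbrev fB : Spec (CommRingCat.of B) ⟶ Spec (CommRingCat.of R) :=
  Spec.map (CommRingCat.ofHom (algebraMap R B))

lemma preimage_comp {A T T' : Type u} [CommRing A] [CommRing T] [CommRing T'] (a : T →+* T')
    (w : Spec (CommRingCat.of T) ⟶ Spec (CommRingCat.of A)) (x : A) :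
    (Spec.preimage (Spec.map (CommRingCat.ofHom a) ≫ w)).hom x = a ((Spec.preimage w).hom x) := by
  have : Spec.preimage (Spec.map (CommRingCat.ofHom a) ≫ w) = Spec.preimage w ≫ CommRingCat.ofHom a := by
    apply Spec.map_injective
    rw [Spec.map_preimage, Spec.map_comp, Spec.map_preimage]
  rw [this]
  rfl

/-- precomposition with `dptIso.inv` -/
def preIso : (dpt B (fB R B) ⟶ Red.diag R M) ≃*
    ((Spec (CommRingCat.of (DualNumber B))).asOver (Spec (CommRingCat.of R)) ⟶ Red.diag R M) where
  toFun v := (dptIso B).inv ≫ v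
  invFun w := (dptIso B).hom ≫ w
  left_inv v := by simp
  right_inv w := by simp
  map_mul' v w := MonObj.comp_mul _ _ _

/-- dual-number points of `D(M)` are characters with values in `B[ε]` -/
def Θ : (dpt B (fB R B) ⟶ Red.diag R M) ≃* (Multiplicative M →* DualNumber B) :=
  (preIso R M B).trans (Spec.mapMulEquiv.symm.trans (convEquiv R M (DualNumber B)))

lemma Θ_apply (v : dpt B (fB R B) ⟶ Red.diag R M) (g : Multiplicative M) :
    Θ R M B v g = ((Spec.mapMulEquiv.symm ((dptIso B).inv ≫ v)).ofConv :
      MonoidAlgebra R (Multiplicative M) →ₐ[R] DualNumber B) (MonoidAlgebra.single g 1) := rfl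

lemma Θ_apply' (v : dpt B (fB R B) ⟶ Red.diag R M) (g : Multiplicative M) :
    Θ R M B v g = (Spec.preimage v.left).hom (MonoidAlgebra.single g 1) := by
  rw [Θ_apply]
  change (Spec.preimage ((dptIso B).inv ≫ v).left).hom _ = _
  have : ((dptIso B).inv ≫ v).left = v.left := by
    rw [Over.comp_left]
    exact Category.id_comp _
  rw [this]

/-- `B`-points of `D(M)` are characters with values in `B` -/
def Θ₀ : (pt B (fB R B) ⟶ Red.diag R M) ≃* (Multiplicative M →* B) :=
  Spec.mapMulEquiv.symm.trans (convEquiv R M B)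

lemma Θ₀_apply' (v : pt B (fB R B) ⟶ Red.diag R M) (g : Multiplicative M) :
    Θ₀ R M B v g = (Spec.preimage v.left).hom (MonoidAlgebra.single g 1) := rfl

lemma fst_Θ (v : dpt B (fB R B) ⟶ Red.diag R M) (g : Multiplicative M) :
    (Θ R M B v g).fst = Θ₀ R M B (zeroSec B (fB R B) ≫ v) g := by
  rw [Θ_apply', Θ₀_apply']
  exact (preimage_comp (TrivSqZeroExt.fstHom B B B).toRingHom
    (show Spec (CommRingCat.of (DualNumber B)) ⟶
      Spec (CommRingCat.of (MonoidAlgebra R (Multiplicative M))) from v.left) _).symm

lemma Θ_scale (b : B) (v : dpt B (fB R B) ⟶ Red.diag R M) (g : Multiplicative M) :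
    Θ R M B (scale B (fB R B) b ≫ v) g = scaleHom b (Θ R M B v g) := by
  rw [Θ_apply', Θ_apply']
  exact preimage_comp (scaleHom b)
    (show Spec (CommRingCat.of (DualNumber B)) ⟶
      Spec (CommRingCat.of (MonoidAlgebra R (Multiplicative M))) from v.left) _

lemma mem_Lie_iff' (v : dpt B (fB R B) ⟶ Red.diag R M) :
    v ∈ LieS.LieR (Red.diag R M) B ↔ ∀ g, (Θ R M B v g).fst = 1 := by
  rw [LieS.mem_Lie_iff]
  constructor
  · intro h g
    rw [fst_Θ, h, map_one]
    rfl
  · intro h
    apply (Θ₀ R M B).injective
    rw [map_one]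
    refine MonoidHom.ext fun g => ?_
    rw [← fst_Θ, h]
    rfl


/-- the character `m ↦ 1 + χ(m) ε` -/
def charOf (χ : M →+ B) : Multiplicative M →* DualNumber B where
  toFun g := TrivSqZeroExt.inl 1 + TrivSqZeroExt.inr (χ g.toAdd)
  map_one' := by simp
  map_mul' g h := by
    apply TrivSqZeroExt.ext <;> simp [add_comm]

lemma snd_scaleHom (b : B) (x : DualNumber B) : (scaleHom b x).snd = b * x.snd := by
  simp [scaleHom, TrivSqZeroExt.algebraMap_eq_inl', mul_comm]

theorem main :
    ∃ e : LieS.LieR (Red.diag R M) B ≃* Multiplicative (M →+ B),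
      (∀ (v : LieS.LieR (Red.diag R M) B) (m : M),
        Multiplicative.toAdd (e v) m =
          TrivSqZeroExt.snd (((Spec.mapMulEquiv.symm ((LieS.dptIso B).inv ≫ v.1)).ofConv :
            MonoidAlgebra R (Multiplicative M) →ₐ[R] DualNumber B)
            (MonoidAlgebra.single (Multiplicative.ofAdd m) 1))) ∧
      ∀ (b : B) (v : LieS.LieR (Red.diag R M) B),
        e (b • v) = Multiplicative.ofAdd (b • Multiplicative.toAdd (e v)) := by
  have hfst : ∀ (v : LieS.LieR (Red.diag R M) B) (g : Multiplicative M), (Θ R M B v.1 g).fst = 1 :=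
    fun v => (mem_Lie_iff' R M B v.1).1 v.2
  let toF : LieS.LieR (Red.diag R M) B → Multiplicative (M →+ B) := fun v => Multiplicative.ofAdd
    { toFun := fun m => (Θ R M B v.1 (Multiplicative.ofAdd m)).snd
      map_zero' := by
        change (Θ R M B v.1 1).snd = 0
        rw [map_one]; simp
      map_add' := fun m m' => by
        change (Θ R M B v.1 (Multiplicative.ofAdd m * Multiplicative.ofAdd m')).snd = _
        rw [map_mul, DualNumber.snd_mul, hfst, hfst]; simp [add_comm] }
  have toF_apply : ∀ v m, Multiplicative.toAdd (toF v) m = (Θ R M B v.1 (Multiplicative.ofAdd m)).snd :=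
    fun v m => rfl
  let invF : Multiplicative (M →+ B) → LieS.LieR (Red.diag R M) B := fun χ =>
    ⟨(Θ R M B).symm (charOf M B (Multiplicative.toAdd χ)), by
      rw [mem_Lie_iff']; intro g; rw [MulEquiv.apply_symm_apply]; simp [charOf]⟩
  refine ⟨{ toFun := toF, invFun := invF, left_inv := ?_, right_inv := ?_, map_mul' := ?_ }, ?_, ?_⟩
  · intro v
    apply Subtype.ext
    change (Θ R M B).symm (charOf M B _) = v.1
    rw [MulEquiv.symm_apply_eq]
    refine MonoidHom.ext fun g => ?_
    apply TrivSqZeroExt.ext
    · simp [charOf, hfst]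
    · simp only [charOf, toF_apply]
      simp
  · intro χ
    apply Multiplicative.toAdd.injective
    refine AddMonoidHom.ext fun m => ?_
    rw [toF_apply]
    change ((Θ R M B) ((Θ R M B).symm (charOf M B (Multiplicative.toAdd χ))) (Multiplicative.ofAdd m)).snd = _
    rw [MulEquiv.apply_symm_apply]
    simp [charOf]
  · intro v w
    apply Multiplicative.toAdd.injective
    refine AddMonoidHom.ext fun m => ?_
    rw [toF_apply]
    change ((Θ R M B) (v.1 * w.1) (Multiplicative.ofAdd m)).snd = _
    rw [map_mul, MonoidHom.mul_apply, DualNumber.snd_mul, hfst, hfst]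
    simp [toF_apply, add_comm]
  · intro v m
    exact toF_apply v m
  · intro b v
    apply Multiplicative.toAdd.injective
    refine AddMonoidHom.ext fun m => ?_
    change Multiplicative.toAdd (toF (b • v)) m = b • Multiplicative.toAdd (toF v) m
    rw [toF_apply, toF_apply, smul_val, Θ_scale, snd_scaleHom]
    rfl

end Schemes

end Groth.Agent.Helper8.LieF
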