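import Mathlib
import Groth.Prelude
import Groth.Agent.Helper8.LieF

/-!
# Points of a base change, and points of `D_S(M)` with values in an affine scheme

* `adjPt g D t`: the point of `D` underlying a point `t` of the base change `Red.bc g D`;
  it is multiplicative, natural, injective and surjective.
* `chr M B f t`: the character `M → B` attached to a `Spec B`-valued point of `D_S(M)`.
-/

set_option autoImplicit false
set_option linter.unusedSectionVars false
set_option linter.style.haveILetI false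
set_option linter.unusedVariables false

universe u

open CategoryTheory CategoryTheory.Limits MonoidalCategory CartesianMonoidalCategory MonObj
  AlgebraicGeometry

noncomputable section

namespace Groth.Agent.Helper8.DSPts

section Adj

variable {S S' : Scheme.{u}} (g : S' ⟶ S) (D : Over S) [GrpObj D] {T T' : Over S'}

/-- the point of `D` underlying a point of the base change -/
def adjPt (t : T ⟶ Red.bc g D) : (Over.map g).obj T ⟶ D :=
  Over.homMk (t.left ≫ pullback.fst D.hom g) (by
    have h : t.left ≫ pullback.snd D.hom g = T.hom := Over.w t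
    change (t.left ≫ pullback.fst D.hom g) ≫ D.hom = T.hom ≫ g
    rw [Category.assoc, pullback.condition, ← Category.assoc, h])

theorem adjPt_left (t : T ⟶ Red.bc g D) :
    (adjPt g D t).left = t.left ≫ pullback.fst D.hom g := rfl

theorem adjPt_comp (p : T' ⟶ T) (t : T ⟶ Red.bc g D) :
    adjPt g D (p ≫ t) = (Over.map g).map p ≫ adjPt g D t := by
  apply Over.OverMorphism.ext
  change (p ≫ t).left ≫ pullback.fst D.hom g = p.left ≫ t.left ≫ pullback.fst D.hom g
  rw [Over.comp_left, Category.assoc]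

theorem adjPt_injective : Function.Injective (adjPt g D (T := T)) := by
  intro t t' h
  apply Over.OverMorphism.ext
  have h1 : t.left ≫ pullback.fst D.hom g = t'.left ≫ pullback.fst D.hom g :=
    congrArg (fun z => z.left) h
  have h2 : t.left ≫ pullback.snd D.hom g = t'.left ≫ pullback.snd D.hom g :=
    (Over.w t).trans (Over.w t').symm
  exact pullback.hom_ext h1 h2

theorem adjPt_surjective (z : (Over.map g).obj T ⟶ D) :
    ∃ t : T ⟶ Red.bc g D, adjPt g D t = z := by
  have hz : z.left ≫ D.hom = T.hom ≫ g := Over.w z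
  refine ⟨Over.homMk (pullback.lift z.left T.hom hz) ?_, ?_⟩
  · change pullback.lift z.left T.hom hz ≫ pullback.snd D.hom g = T.hom
    exact pullback.lift_snd _ _ _
  · apply Over.OverMorphism.ext
    change pullback.lift z.left T.hom hz ≫ pullback.fst D.hom g = z.left
    exact pullback.lift_fst _ _ _

/-- the pair of two points, as a morphism to the product over `S` -/
def pairPt (t t' : T ⟶ Red.bc g D) : T.left ⟶ (D ⊗ D).left :=
  (lift t t').left ≫ (Functor.LaxMonoidal.μ (Over.pullback g) D D).left ≫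
    pullback.fst (D ⊗ D).hom g

theorem left_mul (t t' : T ⟶ Red.bc g D) :
    (t * t').left ≫ pullback.fst D.hom g = pairPt g D t t' ≫ μ[D].left := by
  have h1 : t * t' = lift t t' ≫ μ[Red.bc g D] := Hom.mul_def t t'
  have h2 : μ[Red.bc g D] = Functor.LaxMonoidal.μ (Over.pullback g) D D ≫
      (Over.pullback g).map μ[D] := rfl
  have h3 : ((Over.pullback g).map μ[D]).left ≫ pullback.fst D.hom g =
      pullback.fst (D ⊗ D).hom g ≫ μ[D].left := by
    dsimp only [Over.pullback]
    exact pullback.lift_fst _ _ _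
  rw [pairPt, h1, h2, Over.comp_left, Over.comp_left]
  simp only [Category.assoc]
  exact _ ≫= (_ ≫= h3)

theorem pairPt_fst (t t' : T ⟶ Red.bc g D) :
    pairPt g D t t' ≫ pullback.fst D.hom D.hom = t.left ≫ pullback.fst D.hom g := by
  rw [pairPt, Category.assoc, Category.assoc, Over.μ_pullback_left_fst_fst, ← Category.assoc]
  congr 1
  rw [← Over.fst_left, ← Over.comp_left, lift_fst]

theorem pairPt_snd (t t' : T ⟶ Red.bc g D) :
    pairPt g D t t' ≫ pullback.snd D.hom D.hom = t'.left ≫ pullback.fst D.hom g := by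
  rw [pairPt, Category.assoc, Category.assoc, Over.μ_pullback_left_fst_snd, ← Category.assoc]
  congr 1
  rw [← Over.snd_left, ← Over.comp_left, lift_snd]

theorem adjPt_mul (t t' : T ⟶ Red.bc g D) :
    adjPt g D (t * t') = adjPt g D t * adjPt g D t' := by
  apply Over.OverMorphism.ext
  rw [Hom.mul_def (adjPt g D t) (adjPt g D t'), Over.comp_left]
  change (t * t').left ≫ pullback.fst D.hom g = _
  rw [left_mul]
  congr 1
  apply pullback.hom_ext
  · rw [pairPt_fst, ← Over.fst_left, ← Over.comp_left, lift_fst]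
    rfl
  · rw [pairPt_snd, ← Over.snd_left, ← Over.comp_left, lift_snd]
    rfl

end Adj

section DS

variable {S : Scheme.{u}} (M : Type) [AddCommGroup M]
  (B : Type u) [CommRing B] [Algebra (ULift.{u} ℤ) B] (f : Spec (CommRingCat.of B) ⟶ S)

/-- `Spec B` over `Spec ℤ`, two ways -/
def isoZ : LieS.pt B (LieF.fB (ULift.{u} ℤ) B) ≅
    (Over.map (GmPts.toBaseZ S)).obj (LieS.pt B f) :=
  Over.isoMk (Iso.refl _) (specULiftZIsTerminal.hom_ext _ _)

/-- the `ℤ`-point of `D_ℤ(M)` underlying a `Spec B`-point of `D_S(M)` -/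
def zpt (t : LieS.pt B f ⟶ Red.DS S M) :
    LieS.pt B (LieF.fB (ULift.{u} ℤ) B) ⟶ Red.diag (ULift.{u} ℤ) M :=
  (isoZ B f).hom ≫ adjPt (GmPts.toBaseZ S) (Red.diag (ULift.{u} ℤ) M) t

theorem zpt_left (t : LieS.pt B f ⟶ Red.DS S M) :
    (zpt M B f t).left = t.left ≫ pullback.fst _ _ := by
  rw [zpt, Over.comp_left, adjPt_left]
  exact Category.id_comp _

theorem zpt_mul (t t' : LieS.pt B f ⟶ Red.DS S M) :
    zpt M B f (t * t') = zpt M B f t * zpt M B f t' := by
  have h := adjPt_mul (GmPts.toBaseZ S) (Red.diag (ULift.{u} ℤ) M) t t'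
  have h' : zpt M B f (t * t') = (isoZ B f).hom ≫
      (adjPt (GmPts.toBaseZ S) (Red.diag (ULift.{u} ℤ) M) t *
        adjPt (GmPts.toBaseZ S) (Red.diag (ULift.{u} ℤ) M) t') := congrArg ((isoZ B f).hom ≫ ·) h
  rw [h', MonObj.comp_mul]
  rfl

theorem zpt_injective : Function.Injective (zpt M B f) := by
  intro t t' h
  apply adjPt_injective (GmPts.toBaseZ S) (Red.diag (ULift.{u} ℤ) M)
  exact (cancel_epi (isoZ B f).hom).mp h

theorem zpt_surjective (z : LieS.pt B (LieF.fB (ULift.{u} ℤ) B) ⟶ Red.diag (ULift.{u} ℤ) M) :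
    ∃ t, zpt M B f t = z := by
  obtain ⟨t, ht⟩ := adjPt_surjective (GmPts.toBaseZ S) (Red.diag (ULift.{u} ℤ) M)
    (T := LieS.pt B f) ((isoZ B f).inv ≫ z)
  exact ⟨t, by rw [zpt, ht, Iso.hom_inv_id_assoc]⟩

/-- the character attached to a `Spec B`-point of `D_S(M)` -/
def chr (t : LieS.pt B f ⟶ Red.DS S M) : Multiplicative M →* B :=
  LieF.Θ₀ (ULift.{u} ℤ) M B (zpt M B f t)

theorem chr_mul (t t' : LieS.pt B f ⟶ Red.DS S M) :
    chr M B f (t * t') = chr M B f t * chr M B f t' := by
  rw [chr, zpt_mul, map_mul]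
  rfl

theorem chr_injective : Function.Injective (chr M B f) := fun t t' h =>
  zpt_injective M B f ((LieF.Θ₀ (ULift.{u} ℤ) M B).injective h)

theorem chr_surjective (χ : Multiplicative M →* B) : ∃ t, chr M B f t = χ := by
  obtain ⟨t, ht⟩ := zpt_surjective M B f ((LieF.Θ₀ (ULift.{u} ℤ) M B).symm χ)
  exact ⟨t, by rw [chr, ht, MulEquiv.apply_symm_apply]⟩

theorem chr_apply (t : LieS.pt B f ⟶ Red.DS S M) (m : Multiplicative M) :
    chr M B f t m = (Spec.preimage (zpt M B f t).left).hom (MonoidAlgebra.single m 1) := rfl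

variable {B} {f} in
theorem chr_comp {B' : Type u} [CommRing B'] [Algebra (ULift.{u} ℤ) B']
    {f' : Spec (CommRingCat.of B') ⟶ S} (p : LieS.pt B' f' ⟶ LieS.pt B f) (a : B →+* B')
    (hp : p.left = Spec.map (CommRingCat.ofHom a)) (t : LieS.pt B f ⟶ Red.DS S M)
    (m : Multiplicative M) :
    chr M B' f' (p ≫ t) m = a (chr M B f t m) := by
  rw [chr_apply, chr_apply]
  have h : (zpt M B' f' (p ≫ t)).left = Spec.map (CommRingCat.ofHom a) ≫ (zpt M B f t).left := by
    rw [zpt_left, zpt_left, Over.comp_left, hp, Category.assoc]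
  rw [h]
  exact LieF.preimage_comp a _ _

end DS

end Groth.Agent.Helper8.DSPts
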