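import Mathlib
import Groth.Prelude
import Groth.Agent.Helper8.DSPts

/-!
# More on characters of points of `D_S(M)`: powers, functoriality in `M`
-/

set_option autoImplicit false
set_option linter.unusedSectionVars false
set_option linter.style.haveILetI false
set_option linter.unusedVariables false

universe u

open CategoryTheory CategoryTheory.Limits MonoidalCategory CartesianMonoidalCategory MonObj
  AlgebraicGeometry

noncomputable section

namespace Groth.Agent.Helper8.DSPts

variable {S : Scheme.{u}} (M : Type) [AddCommGroup M]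
  (B : Type u) [CommRing B] [Algebra (ULift.{u} ℤ) B] (f : Spec (CommRingCat.of B) ⟶ S)

/-- `zpt` as a monoid homomorphism -/
def zptHom : (LieS.pt B f ⟶ Red.DS S M) →*
    (LieS.pt B (LieF.fB (ULift.{u} ℤ) B) ⟶ Red.diag (ULift.{u} ℤ) M) :=
  MonoidHom.mk' (zpt M B f) (zpt_mul M B f)

/-- `chr` as a monoid homomorphism -/
def chrHom : (LieS.pt B f ⟶ Red.DS S M) →* (Multiplicative M →* B) :=
  (LieF.Θ₀ (ULift.{u} ℤ) M B).toMonoidHom.comp (zptHom M B f)

theorem chrHom_apply (t : LieS.pt B f ⟶ Red.DS S M) : chrHom M B f t = chr M B f t := rfl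

theorem chr_one : chr M B f 1 = 1 := (chrHom M B f).map_one

theorem chr_pow (t : LieS.pt B f ⟶ Red.DS S M) (j : ℕ) :
    chr M B f (t ^ j) = chr M B f t ^ j := (chrHom M B f).map_pow t j

variable {M} in
theorem chr_DSmap {N : Type} [AddCommGroup N] (φ : M →+ N) (t : LieS.pt B f ⟶ Red.DS S N)
    (m : Multiplicative M) :
    chr M B f (t ≫ Red.DSmap S φ) m = chr N B f t (AddMonoidHom.toMultiplicative φ m) := by
  rw [chr_apply, chr_apply]
  have h1 : (zpt M B f (t ≫ Red.DSmap S φ)).left =
      (zpt N B f t).left ≫ Spec.map (CommRingCat.ofHom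
        (MonoidAlgebra.mapDomainAlgHom (ULift.{u} ℤ) (ULift.{u} ℤ)
          (AddMonoidHom.toMultiplicative φ)).toRingHom) := by
    rw [zpt_left, zpt_left, Over.comp_left, Category.assoc, Category.assoc]
    congr 1
    exact GmPts.pullback_map_left_fst (S := S) (Red.diagMap (ULift.{u} ℤ) φ)
  have h2 : Spec.preimage ((zpt N B f t).left ≫ Spec.map (CommRingCat.ofHom
        (MonoidAlgebra.mapDomainAlgHom (ULift.{u} ℤ) (ULift.{u} ℤ)
          (AddMonoidHom.toMultiplicative φ)).toRingHom)) =
      CommRingCat.ofHom (MonoidAlgebra.mapDomainAlgHom (ULift.{u} ℤ) (ULift.{u} ℤ)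
          (AddMonoidHom.toMultiplicative φ)).toRingHom ≫ Spec.preimage (zpt N B f t).left := by
    apply Spec.map_injective
    rw [Spec.map_preimage, Spec.map_comp, Spec.map_preimage]
    rfl
  rw [h1, h2]
  change (Spec.preimage (zpt N B f t).left).hom
    (MonoidAlgebra.mapDomainAlgHom (ULift.{u} ℤ) (ULift.{u} ℤ)
      (AddMonoidHom.toMultiplicative φ) (MonoidAlgebra.single m 1)) = _
  rw [MonoidAlgebra.mapDomainAlgHom_apply, MonoidAlgebra.mapDomain_single]

end Groth.Agent.Helper8.DSPts
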