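import Mathlib
import Groth.Prelude
import Groth.Agent.Helper8.DSPts
import Groth.Agent.Helper8.DSPts2
import Groth.Agent.Helper8.DHomA

/-!
# Homomorphisms `D_Z(M) ⟶ D_Z(N)` are locally of the form `D(φ)` (`N` finitely generated)
-/

set_option autoImplicit false
set_option linter.unusedSectionVars false
set_option linter.style.haveILetI false
set_option linter.unusedVariables false

universe u

open CategoryTheory CategoryTheory.Limits MonoidalCategory CartesianMonoidalCategory MonObj
  AlgebraicGeometry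

noncomputable section

namespace Groth.Agent.Helper8.DHomB

open Groth.Agent.Helper8.DSPts

section PtsExt

variable {Z : Scheme.{u}}

/-- morphisms of `Z`-schemes are determined by their values on affine-valued points -/
theorem hom_ext_pts {A A' : Over Z} (v w : A ⟶ A')
    (h : ∀ (B : Type u) [CommRing B] (f' : Spec (CommRingCat.of B) ⟶ Z)
      (t : LieS.pt B f' ⟶ A), t ≫ v = t ≫ w) : v = w := by
  apply Over.OverMorphism.ext
  let 𝒰 := A.left.affineOpenCover.openCover
  apply Scheme.Cover.hom_ext 𝒰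
  intro i
  let R : Type u := A.left.affineOpenCover.X i
  let c : Spec (CommRingCat.of R) ⟶ A.left := 𝒰.f i
  let t₀ : LieS.pt R (c ≫ A.hom) ⟶ A := Over.homMk c rfl
  have h0 := h R (c ≫ A.hom) t₀
  exact congrArg (fun z => z.left) h0

end PtsExt

section Nat

variable {Z : Scheme.{u}} (M N : Type) [AddCommGroup M] [AddCommGroup N]
  (u : Red.DS Z M ⟶ Red.DS Z N) [IsMonHom u]
  (B₀ : Type u) [CommRing B₀] (j : Spec (CommRingCat.of B₀) ⟶ Z)

/-- the structure morphism of the test scheme `Spec B` attached to `a : B₀ → B` -/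
abbrev fa (B : Type u) [CommRing B] (a : B₀ →+* B) : Spec (CommRingCat.of B) ⟶ Z :=
  Spec.map (CommRingCat.ofHom a) ≫ j

section

variable (B : Type u) [CommRing B] [Algebra (ULift.{u} ℤ) B] (a : B₀ →+* B)

/-- the point with a given character -/
def pointOf (ψ : Multiplicative M →* B) : LieS.pt B (fa B₀ j B a) ⟶ Red.DS Z M :=
  Classical.choose (chr_surjective M B (fa B₀ j B a) ψ)

theorem chr_pointOf (ψ : Multiplicative M →* B) :
    chr M B (fa B₀ j B a) (pointOf M B₀ j B a ψ) = ψ :=
  Classical.choose_spec (chr_surjective M B (fa B₀ j B a) ψ)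

theorem pointOf_chr (t : LieS.pt B (fa B₀ j B a) ⟶ Red.DS Z M) :
    pointOf M B₀ j B a (chr M B (fa B₀ j B a) t) = t :=
  chr_injective M B (fa B₀ j B a) (chr_pointOf M B₀ j B a _)

theorem pointOf_one : pointOf M B₀ j B a 1 = 1 := by
  apply chr_injective M B (fa B₀ j B a)
  rw [chr_pointOf, chr_one]

theorem pointOf_mul (ψ ψ' : Multiplicative M →* B) :
    pointOf M B₀ j B a (ψ * ψ') = pointOf M B₀ j B a ψ * pointOf M B₀ j B a ψ' := by
  apply chr_injective M B (fa B₀ j B a)
  rw [chr_pointOf, chr_mul, chr_pointOf, chr_pointOf]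

/-- the map on characters induced by `u` -/
def Ufun : (Multiplicative M →* B) →* (Multiplicative N →* B) where
  toFun ψ := chr N B (fa B₀ j B a) (pointOf M B₀ j B a ψ ≫ u)
  map_one' := by
    rw [pointOf_one, MonObj.one_comp, chr_one]
  map_mul' ψ ψ' := by
    rw [pointOf_mul, MonObj.mul_comp, chr_mul]

theorem Ufun_apply (ψ : Multiplicative M →* B) :
    Ufun M N u B₀ j B a ψ = chr N B (fa B₀ j B a) (pointOf M B₀ j B a ψ ≫ u) := rfl

theorem Ufun_chr (t : LieS.pt B (fa B₀ j B a) ⟶ Red.DS Z M) :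
    Ufun M N u B₀ j B a (chr M B (fa B₀ j B a) t) = chr N B (fa B₀ j B a) (t ≫ u) := by
  rw [Ufun_apply, pointOf_chr]

end

/-- the transition morphism between test schemes -/
def trans {B B' : Type u} [CommRing B] [CommRing B'] (a : B₀ →+* B) (b : B →+* B') :
    LieS.pt B' (fa B₀ j B' (b.comp a)) ⟶ LieS.pt B (fa B₀ j B a) :=
  Over.homMk (Spec.map (CommRingCat.ofHom b)) (by
    change Spec.map (CommRingCat.ofHom b) ≫ Spec.map (CommRingCat.ofHom a) ≫ j =
      Spec.map (CommRingCat.ofHom (b.comp a)) ≫ j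
    rw [← Category.assoc, ← Spec.map_comp, ← CommRingCat.ofHom_comp])

theorem Ufun_nat {B B' : Type u} [CommRing B] [CommRing B'] [Algebra (ULift.{u} ℤ) B]
    [Algebra (ULift.{u} ℤ) B'] (a : B₀ →+* B) (b : B →+* B') (ψ : Multiplicative M →* B) :
    Ufun M N u B₀ j B' (b.comp a) ((b : B →* B').comp ψ) =
      (b : B →* B').comp (Ufun M N u B₀ j B a ψ) := by
  have hp : pointOf M B₀ j B' (b.comp a) ((b : B →* B').comp ψ) =
      trans B₀ j a b ≫ pointOf M B₀ j B a ψ := by
    apply chr_injective M B' (fa B₀ j B' (b.comp a))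
    refine MonoidHom.ext fun m => ?_
    rw [chr_pointOf, chr_comp M (trans B₀ j a b) b rfl, chr_pointOf]
    rfl
  refine MonoidHom.ext fun n => ?_
  rw [Ufun_apply, hp, Category.assoc, chr_comp N (trans B₀ j a b) b rfl, Ufun_apply]
  rfl

/-- the natural family of `DHomA`, with the canonical `ULift ℤ`-algebra structures -/
def U (B : Type u) [CommRing B] (a : B₀ →+* B) :
    (Multiplicative M →* B) →* (Multiplicative N →* B) :=
  letI := ULift.algebra' ℤ B
  Ufun M N u B₀ j B a

theorem U_nat (B B' : Type u) [CommRing B] [CommRing B'] (a : B₀ →+* B) (b : B →+* B')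
    (ψ : Multiplicative M →* B) :
    U M N u B₀ j B' (b.comp a) ((b : B →* B').comp ψ) =
      (b : B →* B').comp (U M N u B₀ j B a ψ) := by
  letI := ULift.algebra' ℤ B
  letI := ULift.algebra' ℤ B'
  exact Ufun_nat M N u B₀ j a b ψ

end Nat

section Local

variable {Z : Scheme.{u}} {M N : Type} [AddCommGroup M] [AddCommGroup N]
  (u : Red.DS Z M ⟶ Red.DS Z N) [IsMonHom u]

/-- points of test schemes of the form `fa a` with `a g` a unit -/
theorem pts_of_family (B₀ : Type u) [CommRing B₀] (j : Spec (CommRingCat.of B₀) ⟶ Z)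
    (φ : N →+ M) (B : Type u) [CommRing B] (a : B₀ →+* B)
    (h : ∀ (ψ : Multiplicative M →* B) (n : Multiplicative N),
      U M N u B₀ j B a ψ n = ψ (AddMonoidHom.toMultiplicative φ n))
    (t : LieS.pt B (fa B₀ j B a) ⟶ Red.DS Z M) : t ≫ u = t ≫ Red.DSmap Z φ := by
  letI := ULift.algebra' ℤ B
  apply chr_injective N B (fa B₀ j B a)
  refine MonoidHom.ext fun n => ?_
  have h1 := h (chr M B (fa B₀ j B a) t) n
  change Ufun M N u B₀ j B a (chr M B (fa B₀ j B a) t) n = _ at h1
  rw [Ufun_chr] at h1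
  rw [h1, chr_DSmap]

/-- **Local structure, on points.** -/
theorem local_pts [AddGroup.FG N] (B₀ : Type u) [CommRing B₀]
    (j : Spec (CommRingCat.of B₀) ⟶ Z) [IsOpenImmersion j] (z : Z)
    (hz : z ∈ Set.range j) :
    ∃ (W : Z.Opens) (φ : N →+ M), z ∈ W ∧
      ∀ (B : Type u) [CommRing B] (f' : Spec (CommRingCat.of B) ⟶ Z),
        Set.range f' ⊆ (W : Set Z) →
        ∀ t : LieS.pt B f' ⟶ Red.DS Z M, t ≫ u = t ≫ Red.DSmap Z φ := by
  obtain ⟨p, rfl⟩ := hz
  obtain ⟨g, φ, hg, hloc⟩ := DHomA.main (U M N u B₀ j) (U_nat M N u B₀ j) p.asIdeal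
  let jg : Spec (CommRingCat.of (Localization.Away g)) ⟶ Z :=
    Spec.map (CommRingCat.ofHom (algebraMap B₀ (Localization.Away g))) ≫ j
  refine ⟨jg.opensRange, φ, ?_, ?_⟩
  · have hp : p ∈ Set.range (PrimeSpectrum.comap (algebraMap B₀ (Localization.Away g))) := by
      rw [PrimeSpectrum.localization_away_comap_range (Localization.Away g) g]
      exact hg
    obtain ⟨q, hq⟩ := hp
    refine ⟨q, ?_⟩
    change j (Spec.map (CommRingCat.ofHom (algebraMap B₀ (Localization.Away g))) q) = j p
    congr 1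
  · intro B _ f' hf' t
    let l : Spec (CommRingCat.of B) ⟶ Spec (CommRingCat.of (Localization.Away g)) :=
      IsOpenImmersion.lift jg f' hf'
    have hl : l ≫ jg = f' := IsOpenImmersion.lift_fac jg f' hf'
    let a' : Localization.Away g →+* B := (Spec.preimage l).hom
    let a : B₀ →+* B := a'.comp (algebraMap B₀ (Localization.Away g))
    have hfa : fa B₀ j B a = f' := by
      rw [← hl]
      change Spec.map (CommRingCat.ofHom (a'.comp (algebraMap B₀ (Localization.Away g)))) ≫ j =
        l ≫ Spec.map (CommRingCat.ofHom (algebraMap B₀ (Localization.Away g))) ≫ j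
      rw [CommRingCat.ofHom_comp, Spec.map_comp, Category.assoc]
      congr 1
      exact Spec.map_preimage l
    have hu : IsUnit (a g) := by
      change IsUnit (a' (algebraMap B₀ (Localization.Away g) g))
      exact (IsLocalization.Away.algebraMap_isUnit g).map a'
    let e : LieS.pt B (fa B₀ j B a) ≅ LieS.pt B f' := Over.isoMk (Iso.refl _) (by
      change 𝟙 _ ≫ f' = fa B₀ j B a
      rw [Category.id_comp, hfa])
    have h1 := pts_of_family u B₀ j φ B a (hloc B a hu) (e.hom ≫ t)
    rw [Category.assoc, Category.assoc] at h1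
    exact (cancel_epi e.hom).mp h1

/-- adjoint points and base changed morphisms -/
theorem adjPt_map {S S' : Scheme.{u}} (g : S' ⟶ S) {D D' : Over S} [GrpObj D] [GrpObj D']
    (v : D ⟶ D') {T : Over S'} (t : T ⟶ Red.bc g D) :
    adjPt g D' (t ≫ (Over.pullback g).map v) = adjPt g D t ≫ v := by
  apply Over.OverMorphism.ext
  rw [adjPt_left, Over.comp_left, Over.comp_left, adjPt_left, Category.assoc, Category.assoc]
  congr 1
  exact pullback.lift_fst _ _ _

/-- **Local structure.** A homomorphism `D_Z(M) ⟶ D_Z(N)` with `N` finitely generated is, locally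
on `Z`, of the form `D(φ)`. -/
theorem local_eq [AddGroup.FG N] (z : Z) :
    ∃ (W : Z.Opens) (φ : N →+ M), z ∈ W ∧
      (Over.pullback W.ι).map u = (Over.pullback W.ι).map (Red.DSmap Z φ) := by
  let 𝒱 := Z.affineOpenCover.openCover
  let R : Type u := Z.affineOpenCover.X (𝒱.idx z)
  let j : Spec (CommRingCat.of R) ⟶ Z := 𝒱.f (𝒱.idx z)
  haveI : IsOpenImmersion j := inferInstanceAs (IsOpenImmersion (𝒱.f (𝒱.idx z)))
  obtain ⟨W, φ, hzW, hpts⟩ := local_pts u R j z (𝒱.covers z)
  refine ⟨W, φ, hzW, ?_⟩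
  apply hom_ext_pts
  intro B _ f' t
  apply adjPt_injective W.ι (Red.DS Z N)
  rw [adjPt_map, adjPt_map]
  have hr : Set.range (f' ≫ W.ι) ⊆ (W : Set Z) := by
    rintro _ ⟨x, rfl⟩
    rw [Scheme.Hom.comp_apply]
    exact (f' x).2
  exact hpts B (f' ≫ W.ι) hr (adjPt W.ι (Red.DS Z M) t)

end Local

end Groth.Agent.Helper8.DHomB
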