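import Mathlib
import Groth.Prelude
import Groth.Agent.Helper8.DSPts
import Groth.Agent.Helper8.DSPts2
import Groth.Agent.Helper8.DHomB

/-!
# Properties of the homomorphisms `D(φ) : D_Z(M) ⟶ D_Z(N)`

* `φ` surjective ⇒ all base changes of `D(φ)` are closed immersions (monomorphisms);
* `φ` bijective ⇒ all base changes are isomorphisms;
* `φ` injective ⇒ all base changes are flat and surjective (`R[M]` is free over `R[N]`);
* the converses, on a fibre over a field.
-/

set_option autoImplicit false
set_option linter.unusedSectionVars false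
set_option linter.style.haveILetI false
set_option linter.unusedVariables false

universe u

open CategoryTheory CategoryTheory.Limits MonoidalCategory CartesianMonoidalCategory MonObj
  AlgebraicGeometry

noncomputable section

namespace Groth.Agent.Helper8.DHomC

open Groth.Agent.Helper8.DSPts Groth.Agent.Helper8.DHomB

section BaseChangeSquare

variable {S S' : Scheme.{u}} (g : S' ⟶ S) {D D' : Over S} (v : D ⟶ D')

theorem map_left_fst :
    ((Over.pullback g).map v).left ≫ pullback.fst D'.hom g = pullback.fst D.hom g ≫ v.left := by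
  exact pullback.lift_fst _ _ _

theorem map_left_snd :
    ((Over.pullback g).map v).left ≫ pullback.snd D'.hom g = pullback.snd D.hom g := by
  exact pullback.lift_snd _ _ _

/-- the base change of a morphism of `S`-schemes is a base change of the underlying morphism -/
theorem isPullback_map_left :
    IsPullback (pullback.fst D.hom g) ((Over.pullback g).map v).left v.left
      (pullback.fst D'.hom g) := by
  have hr : IsPullback (pullback.snd D'.hom g) (pullback.fst D'.hom g) g D'.hom :=
    (IsPullback.of_hasPullback D'.hom g).flip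
  have ho : IsPullback (((Over.pullback g).map v).left ≫ pullback.snd D'.hom g)
      (pullback.fst D.hom g) g (v.left ≫ D'.hom) := by
    rw [map_left_snd, Over.w v]
    exact (IsPullback.of_hasPullback D.hom g).flip
  exact (IsPullback.of_right ho (map_left_fst g v) hr).flip

theorem prop_map_left (P : MorphismProperty Scheme.{u}) [P.IsStableUnderBaseChange]
    (h : P v.left) : P ((Over.pullback g).map v).left :=
  P.of_isPullback (isPullback_map_left g v) h

end BaseChangeSquare

section Free

variable (R : Type u) [CommRing R] {G H : Type} [CommGroup G] [CommGroup H] (f : H →* G)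

/-- the ring homomorphism `R[H] → R[G]` -/
def rf : MonoidAlgebra R H →+* MonoidAlgebra R G :=
  (MonoidAlgebra.mapDomainAlgHom R R f).toRingHom

theorem rf_single (h : H) (r : R) : rf R f (MonoidAlgebra.single h r) = MonoidAlgebra.single (f h) r := by
  change MonoidAlgebra.mapDomainAlgHom R R f (MonoidAlgebra.single h r) = _
  rw [MonoidAlgebra.mapDomainAlgHom_apply, MonoidAlgebra.mapDomain_single]

variable {f} (hf : Function.Injective f)

/-- a set-theoretic section of `G → G / f(H)` -/
def σ (c : G ⧸ f.range) : G := Quotient.out c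

theorem mk_σ (c : G ⧸ f.range) : (QuotientGroup.mk (σ c) : G ⧸ f.range) = c :=
  Quotient.out_eq' c

theorem exists_ν (g : G) : ∃ h : H, f h = g / σ (QuotientGroup.mk g : G ⧸ f.range) := by
  have h1 : ((g / σ (QuotientGroup.mk g : G ⧸ f.range) : G) : G ⧸ f.range) = 1 := by
    rw [QuotientGroup.mk_div, mk_σ, div_self']
  exact (QuotientGroup.eq_one_iff _).mp h1

/-- the `H`-coordinate -/
def ν (g : G) : H := Classical.choose (exists_ν (f := f) g)

theorem f_ν (g : G) : f (ν (f := f) g) = g / σ (QuotientGroup.mk g : G ⧸ f.range) :=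
  Classical.choose_spec (exists_ν (f := f) g)

include hf in
theorem ν_mul (h : H) (g : G) : ν (f := f) (f h * g) = h * ν (f := f) g := by
  apply hf
  have hq : (QuotientGroup.mk (f h * g) : G ⧸ f.range) = QuotientGroup.mk g := by
    rw [QuotientGroup.mk_mul]
    have : (QuotientGroup.mk (f h) : G ⧸ f.range) = 1 :=
      (QuotientGroup.eq_one_iff _).mpr ⟨h, rfl⟩
    rw [this, _root_.one_mul]
  rw [f_ν, map_mul, f_ν, hq, mul_div_assoc]

theorem mk_mul_left (h : H) (g : G) :
    (QuotientGroup.mk (f h * g) : G ⧸ f.range) = QuotientGroup.mk g := by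
  rw [QuotientGroup.mk_mul]
  have : (QuotientGroup.mk (f h) : G ⧸ f.range) = 1 :=
    (QuotientGroup.eq_one_iff _).mpr ⟨h, rfl⟩
  rw [this, _root_.one_mul]

include hf in
/-- the bijection `(G / f(H)) × H ≃ G` -/
def β : (G ⧸ f.range) × H ≃ G where
  toFun x := f x.2 * σ x.1
  invFun g := (QuotientGroup.mk g, ν (f := f) g)
  left_inv x := by
    obtain ⟨c, h⟩ := x
    have h1 : (QuotientGroup.mk (f h * σ c) : G ⧸ f.range) = c := by
      rw [mk_mul_left, mk_σ]
    refine Prod.ext h1 ?_
    apply hf
    change f (ν (f := f) (f h * σ c)) = f h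
    rw [f_ν, h1, mul_div_assoc, div_self', _root_.mul_one]
  right_inv g := by
    change f (ν (f := f) g) * σ (QuotientGroup.mk g : G ⧸ f.range) = g
    rw [f_ν, div_mul_cancel]

/-- the additive equivalence `R[G] ≃ ⊕_{G/H} R[H]` -/
def Ψ : MonoidAlgebra R G ≃+ ((G ⧸ f.range) →₀ MonoidAlgebra R H) :=
  (MonoidAlgebra.coeffAddEquiv (R := R) (M := G)).trans
    ((Finsupp.domCongr (β hf).symm).trans
      (Finsupp.curryAddEquiv.trans
        (Finsupp.mapRange.addEquiv (MonoidAlgebra.coeffAddEquiv (R := R) (M := H)).symm)))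

theorem Ψ_single (g : G) (r : R) :
    Ψ R hf (MonoidAlgebra.single g r) =
      Finsupp.single (QuotientGroup.mk g : G ⧸ f.range) (MonoidAlgebra.single (ν (f := f) g) r) := by
  change (Finsupp.mapRange.addEquiv (MonoidAlgebra.coeffAddEquiv (R := R) (M := H)).symm)
    (Finsupp.curry (Finsupp.equivMapDomain (β hf).symm (Finsupp.single g r))) = _
  rw [Finsupp.equivMapDomain_single, Finsupp.curry_single]
  refine Eq.trans (Finsupp.mapRange_single
    (f := (MonoidAlgebra.coeffAddEquiv (R := R) (M := H)).symm)
    (hf := map_zero _)) ?_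
  rfl

theorem Ψ_mul (x : MonoidAlgebra R H) (y : MonoidAlgebra R G) :
    Ψ R hf (rf R f x * y) = x • Ψ R hf y := by
  induction x using MonoidAlgebra.induction_linear with
  | zero => rw [map_zero, zero_mul, map_zero, zero_smul]
  | add x x' hx hx' => rw [map_add, add_mul, map_add, hx, hx', add_smul]
  | single h r =>
    induction y using MonoidAlgebra.induction_linear with
    | zero => rw [mul_zero, map_zero, smul_zero]
    | add y y' hy hy' => rw [mul_add, map_add, hy, hy', map_add, smul_add]
    | single g s =>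
      rw [rf_single, MonoidAlgebra.single_mul_single, Ψ_single, Ψ_single, mk_mul_left,
        ν_mul hf, Finsupp.smul_single, smul_eq_mul, MonoidAlgebra.single_mul_single]

include hf in
theorem free_of_injective :
    letI := (rf R f).toAlgebra
    Module.Free (MonoidAlgebra R H) (MonoidAlgebra R G) := by
  letI := (rf R f).toAlgebra
  let e : MonoidAlgebra R G ≃ₗ[MonoidAlgebra R H] ((G ⧸ f.range) →₀ MonoidAlgebra R H) :=
    { Ψ R hf with
      map_smul' := fun x y => by
        change Ψ R hf (x • y) = x • Ψ R hf y
        rw [Algebra.smul_def, RingHom.algebraMap_toAlgebra]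
        exact Ψ_mul R hf x y }
  exact Module.Free.of_equiv e.symm

include hf in
theorem flat_of_injective : (rf R f).Flat := by
  letI := (rf R f).toAlgebra
  haveI := free_of_injective R hf
  change Module.Flat (MonoidAlgebra R H) (MonoidAlgebra R G)
  infer_instance

include hf in
theorem comap_surjective_of_injective [Nontrivial R] :
    Function.Surjective (PrimeSpectrum.comap (rf R f)) := by
  letI := (rf R f).toAlgebra
  haveI := free_of_injective R hf
  haveI : Module.FaithfullyFlat (MonoidAlgebra R H) (MonoidAlgebra R G) := inferInstance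
  exact PrimeSpectrum.comap_surjective_of_faithfullyFlat (A := MonoidAlgebra R H)
    (B := MonoidAlgebra R G)

theorem rf_surjective (hs : Function.Surjective f) : Function.Surjective (rf R f) := by
  intro y
  induction y using MonoidAlgebra.induction_linear with
  | zero => exact ⟨0, map_zero _⟩
  | add y y' hy hy' =>
    obtain ⟨x, rfl⟩ := hy
    obtain ⟨x', rfl⟩ := hy'
    exact ⟨x + x', map_add _ _ _⟩
  | single g r =>
    obtain ⟨h, rfl⟩ := hs g
    exact ⟨MonoidAlgebra.single h r, rf_single R f h r⟩

theorem rf_injective (hi : Function.Injective f) : Function.Injective (rf R f) :=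
  MonoidAlgebra.mapDomain_injective hi

end Free

section Forward

variable {Z : Scheme.{u}} {M N : Type} [AddCommGroup M] [AddCommGroup N] (φ : N →+ M)

theorem diagMap_left (R : Type u) [CommRing R] :
    (Red.diagMap R φ).left =
      Spec.map (CommRingCat.ofHom (rf R (AddMonoidHom.toMultiplicative φ))) := rfl

theorem DSmap_eq : Red.DSmap Z φ =
    (Over.pullback (Limits.IsTerminal.from specULiftZIsTerminal Z)).map
      (Red.diagMap (ULift.{u} ℤ) φ) := rfl

/-- a property stable under base change which holds for `Spec ℤ[M] → Spec ℤ[N]` holds for all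
base changes of `D(φ)` -/
theorem prop_of_diag (P : MorphismProperty Scheme.{u}) [P.IsStableUnderBaseChange]
    (h : P (Spec.map (CommRingCat.ofHom (rf (ULift.{u} ℤ) (AddMonoidHom.toMultiplicative φ)))))
    {Z' : Scheme.{u}} (g : Z' ⟶ Z) : P ((Over.pullback g).map (Red.DSmap Z φ)).left := by
  apply prop_map_left
  rw [DSmap_eq]
  apply prop_map_left
  rw [diagMap_left]
  exact h

theorem isClosedImmersion_of_surjective (hφ : Function.Surjective φ) {Z' : Scheme.{u}}
    (g : Z' ⟶ Z) : IsClosedImmersion ((Over.pullback g).map (Red.DSmap Z φ)).left := by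
  apply prop_of_diag φ @IsClosedImmersion
  apply IsClosedImmersion.spec_of_surjective
  exact rf_surjective _ (f := AddMonoidHom.toMultiplicative φ) hφ

theorem mono_of_surjective (hφ : Function.Surjective φ) {Z' : Scheme.{u}}
    (g : Z' ⟶ Z) : Mono ((Over.pullback g).map (Red.DSmap Z φ)).left := by
  haveI := isClosedImmersion_of_surjective φ hφ g
  infer_instance

theorem flat_surjective_of_injective (hφ : Function.Injective φ) {Z' : Scheme.{u}}
    (g : Z' ⟶ Z) : Flat ((Over.pullback g).map (Red.DSmap Z φ)).left ∧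
      Surjective ((Over.pullback g).map (Red.DSmap Z φ)).left := by
  have hi : Function.Injective (AddMonoidHom.toMultiplicative φ) := hφ
  constructor
  · apply prop_of_diag φ @Flat
    rw [HasRingHomProperty.Spec_iff (P := @Flat), CommRingCat.hom_ofHom]
    exact flat_of_injective _ hi
  · apply prop_of_diag φ @Surjective
    exact ⟨comap_surjective_of_injective (ULift.{u} ℤ) hi⟩

theorem isIso_of_bijective (hφ : Function.Bijective φ) {Z' : Scheme.{u}}
    (g : Z' ⟶ Z) : IsIso ((Over.pullback g).map (Red.DSmap Z φ)).left := by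
  apply prop_of_diag φ (MorphismProperty.isomorphisms Scheme.{u})
  change IsIso (Spec.map _)
  have hb : Function.Bijective (rf (ULift.{u} ℤ) (AddMonoidHom.toMultiplicative φ)) :=
    ⟨rf_injective _ (f := AddMonoidHom.toMultiplicative φ) hφ.1,
      rf_surjective _ (f := AddMonoidHom.toMultiplicative φ) hφ.2⟩
  haveI : IsIso (CommRingCat.ofHom (rf (ULift.{u} ℤ) (AddMonoidHom.toMultiplicative φ))) := by
    rw [ConcreteCategory.isIso_iff_bijective]
    exact hb
  infer_instance

end Forward

section Converse

variable {Z : Scheme.{u}} {M N : Type} [AddCommGroup M] [AddCommGroup N] (φ : N →+ M)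
  (k : Type u) [Field k] (g : Spec (CommRingCat.of k) ⟶ Z)

/-- lifting a point of `D` over the composite to a point of the base change -/
theorem exists_lift {D : Over Z} [GrpObj D] (B : Type u) [CommRing B] (a : k →+* B)
    (t : LieS.pt B (Spec.map (CommRingCat.ofHom a) ≫ g) ⟶ D) :
    ∃ s : LieS.pt B (Spec.map (CommRingCat.ofHom a)) ⟶ Red.bc g D, adjPt g D s = t :=
  adjPt_surjective g D (T := LieS.pt B (Spec.map (CommRingCat.ofHom a))) t

theorem surjective_of_mono (h : Mono ((Over.pullback g).map (Red.DSmap Z φ)).left) :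
    Function.Surjective φ := by
  let Q := M ⧸ φ.range
  let π : M →+ Q := QuotientAddGroup.mk' φ.range
  let B := MonoidAlgebra k (Multiplicative Q)
  let a : k →+* B := MonoidAlgebra.singleOneRingHom
  letI : Algebra (ULift.{u} ℤ) B := ULift.algebra' ℤ B
  let f' : Spec (CommRingCat.of B) ⟶ Z := Spec.map (CommRingCat.ofHom a) ≫ g
  let ψ₁ : Multiplicative M →* B :=
    (MonoidAlgebra.of k (Multiplicative Q)).comp (AddMonoidHom.toMultiplicative π)
  obtain ⟨t₁, ht₁⟩ := chr_surjective M B f' ψ₁
  obtain ⟨t₂, ht₂⟩ := chr_surjective M B f' 1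
  obtain ⟨s₁, hs₁⟩ := exists_lift k g B a t₁
  obtain ⟨s₂, hs₂⟩ := exists_lift k g B a t₂
  have hπ : ∀ n, π (φ n) = 0 := fun n =>
    (QuotientAddGroup.eq_zero_iff _).mpr ⟨n, rfl⟩
  have e1 : s₁ ≫ (Over.pullback g).map (Red.DSmap Z φ) =
      s₂ ≫ (Over.pullback g).map (Red.DSmap Z φ) := by
    apply adjPt_injective g (Red.DS Z N)
    rw [adjPt_map, adjPt_map, hs₁, hs₂]
    apply chr_injective N B f'
    refine MonoidHom.ext fun n => ?_
    rw [chr_DSmap, chr_DSmap, ht₁, ht₂]
    change MonoidAlgebra.of k (Multiplicative Q) (Multiplicative.ofAdd (π (φ n.toAdd))) = 1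
    rw [hπ]
    rfl
  have e2 : s₁.left = s₂.left := by
    have := congrArg (fun z => z.left) e1
    simp only [Over.comp_left] at this
    exact (cancel_mono _).mp this
  have e3 : s₁ = s₂ := Over.OverMorphism.ext e2
  have e4 : ψ₁ = 1 := by rw [← ht₁, ← ht₂, ← hs₁, ← hs₂, e3]
  intro m
  have e5 : MonoidAlgebra.of k (Multiplicative Q) (Multiplicative.ofAdd (π m)) =
      MonoidAlgebra.of k (Multiplicative Q) 1 := by
    have := DFunLike.congr_fun e4 (Multiplicative.ofAdd m)
    rw [map_one]
    exact this
  have e6 : π m = 0 := by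
    have := MonoidAlgebra.of_injective e5
    exact this
  exact (QuotientAddGroup.eq_zero_iff _).mp e6

theorem injective_of_flat_surjective
    (h : Flat ((Over.pullback g).map (Red.DSmap Z φ)).left ∧
      Surjective ((Over.pullback g).map (Red.DSmap Z φ)).left) :
    Function.Injective φ := by
  haveI := h.1
  haveI := h.2
  haveI : Epi ((Over.pullback g).map (Red.DSmap Z φ)).left := Flat.epi_of_flat_of_surjective _
  rw [injective_iff_map_eq_zero]
  intro n₀ hn₀
  let ζ : ℤ →+ N := zmultiplesHom N n₀
  -- the two characters agree after `D(φ)`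
  have hcomp : Red.DSmap Z φ ≫ Red.DSmap Z ζ = Red.DSmap Z φ ≫ Red.DSmap Z (0 : ℤ →+ N) := by
    apply hom_ext_pts
    intro B _ f' t
    letI : Algebra (ULift.{u} ℤ) B := ULift.algebra' ℤ B
    apply chr_injective ℤ B f'
    refine MonoidHom.ext fun i => ?_
    rw [← Category.assoc, ← Category.assoc, chr_DSmap, chr_DSmap, chr_DSmap, chr_DSmap]
    congr 1
    change Multiplicative.ofAdd (φ (ζ i.toAdd)) = Multiplicative.ofAdd (φ ((0 : ℤ →+ N) i.toAdd))
    rw [AddMonoidHom.zero_apply, map_zero]
    change Multiplicative.ofAdd (φ (i.toAdd • n₀)) = _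
    rw [map_zsmul, hn₀, smul_zero]
  have hβ : pullback.fst (Red.DS Z N).hom g ≫ (Red.DSmap Z ζ).left =
      pullback.fst (Red.DS Z N).hom g ≫ (Red.DSmap Z (0 : ℤ →+ N)).left := by
    rw [← cancel_epi ((Over.pullback g).map (Red.DSmap Z φ)).left, ← Category.assoc,
      ← Category.assoc, map_left_fst, Category.assoc, Category.assoc, ← Over.comp_left,
      ← Over.comp_left, hcomp]
  -- test on the universal point
  let B := MonoidAlgebra k (Multiplicative N)
  let a : k →+* B := MonoidAlgebra.singleOneRingHom
  letI : Algebra (ULift.{u} ℤ) B := ULift.algebra' ℤ B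
  let f' : Spec (CommRingCat.of B) ⟶ Z := Spec.map (CommRingCat.ofHom a) ≫ g
  obtain ⟨ρ, hρ⟩ := chr_surjective N B f' (MonoidAlgebra.of k (Multiplicative N))
  obtain ⟨s, hs⟩ := exists_lift k g B a ρ
  have e1 : ρ ≫ Red.DSmap Z ζ = ρ ≫ Red.DSmap Z (0 : ℤ →+ N) := by
    apply Over.OverMorphism.ext
    rw [Over.comp_left, Over.comp_left, ← hs, adjPt_left, Category.assoc, Category.assoc, hβ]
  have e2 := DFunLike.congr_fun (congrArg (chr ℤ B f') e1) (Multiplicative.ofAdd (1 : ℤ))
  rw [chr_DSmap, chr_DSmap, hρ] at e2
  have e3 : Multiplicative.ofAdd (ζ 1) = Multiplicative.ofAdd ((0 : ℤ →+ N) 1) :=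
    MonoidAlgebra.of_injective e2
  have e4 : ζ 1 = 0 := e3
  rw [← e4]
  change n₀ = (1 : ℤ) • n₀
  rw [one_smul]

theorem bijective_of_isIso (h : IsIso ((Over.pullback g).map (Red.DSmap Z φ)).left) :
    Function.Bijective φ := by
  refine ⟨injective_of_flat_surjective φ k g ⟨inferInstance, inferInstance⟩,
    surjective_of_mono φ k g inferInstance⟩

end Converse

end Groth.Agent.Helper8.DHomC
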