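import Mathlib
import Groth.Prelude

/-!
# Restricting trivialisations of groups of multiplicative type

If `G ×_S U ≅ D_U(M)` as `U`-groups and `h : W ⟶ U`, then `G ×_S W ≅ D_W(M)` as `W`-groups.
-/

set_option autoImplicit false
set_option linter.unusedSectionVars false
set_option linter.style.haveILetI false
set_option linter.unusedVariables false

universe u

open CategoryTheory CategoryTheory.Limits MonoidalCategory CartesianMonoidalCategory MonObj
  AlgebraicGeometry

noncomputable section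

namespace Groth.Agent.Helper8.DHomD

variable {S U W : Scheme.{u}}

/-- base change in two steps, as an isomorphism of group objects -/
def grpComp (k : U ⟶ S) (h : W ⟶ U) (G : Over S) [GrpObj G] :
    Grp.mk (Red.bc (h ≫ k) G) ≅ Grp.mk (Red.bc h (Red.bc k G)) :=
  (Functor.mapGrpNatIso (Over.pullbackComp h k)).app (Grp.mk G) ≪≫
    (Functor.mapGrpCompIso (F := Over.pullback k) (G := Over.pullback h)).app (Grp.mk G)

/-- base change along equal morphisms -/
def grpCongr {k k' : W ⟶ S} (hk : k = k') (G : Over S) [GrpObj G] :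
    Grp.mk (Red.bc k G) ≅ Grp.mk (Red.bc k' G) := by
  subst hk
  exact Iso.refl _

/-- base change of a diagonalisable group -/
def grpDS (h : W ⟶ U) (M : Type) [AddCommGroup M] :
    Grp.mk (Red.bc h (Red.DS U M)) ≅ Grp.mk (Red.DS W M) :=
  (grpComp (Limits.IsTerminal.from specULiftZIsTerminal U) h
      (Red.diag (ULift.{u} ℤ) M)).symm ≪≫
    grpCongr (specULiftZIsTerminal.hom_ext _ _) (Red.diag (ULift.{u} ℤ) M)

/-- base change of an isomorphism of group objects -/
def grpMap (h : W ⟶ U) {A B : Over U} [GrpObj A] [GrpObj B] (e : Grp.mk A ≅ Grp.mk B) :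
    Grp.mk (Red.bc h A) ≅ Grp.mk (Red.bc h B) :=
  (Over.pullback h).mapGrp.mapIso e

/-- **Restriction of a trivialisation.** -/
theorem restrict_triv (k : U ⟶ S) (h : W ⟶ U) (k' : W ⟶ S) (hk : h ≫ k = k')
    (G : Over S) [GrpObj G] (M : Type) [AddCommGroup M]
    (e : Nonempty (Grp.mk (Red.bc k G) ≅ Grp.mk (Red.DS U M))) :
    Nonempty (Grp.mk (Red.bc k' G) ≅ Grp.mk (Red.DS W M)) := by
  obtain ⟨e⟩ := e
  exact ⟨(grpCongr hk.symm G) ≪≫ grpComp k h G ≪≫ grpMap h e ≪≫ grpDS h M⟩

/-- the underlying isomorphism of an isomorphism of group objects -/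
def overIso {A B : Over S} [GrpObj A] [GrpObj B] (e : Grp.mk A ≅ Grp.mk B) : A ≅ B :=
  (Grp.forget _).mapIso e

theorem overIso_hom {A B : Over S} [GrpObj A] [GrpObj B] (e : Grp.mk A ≅ Grp.mk B) :
    (overIso e).hom = e.hom.hom.hom := rfl

theorem overIso_inv {A B : Over S} [GrpObj A] [GrpObj B] (e : Grp.mk A ≅ Grp.mk B) :
    (overIso e).inv = e.inv.hom.hom := rfl

instance isMonHom_overIso_hom {A B : Over S} [GrpObj A] [GrpObj B] (e : Grp.mk A ≅ Grp.mk B) :
    IsMonHom (overIso e).hom := e.hom.hom.isMonHom_hom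

instance isMonHom_overIso_inv {A B : Over S} [GrpObj A] [GrpObj B] (e : Grp.mk A ≅ Grp.mk B) :
    IsMonHom (overIso e).inv := e.inv.hom.isMonHom_hom

end Groth.Agent.Helper8.DHomD
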