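import Mathlib
import Groth.Prelude.Def_Grpd
import Groth.Prelude.Def_Desc

/-!
# The groupoid scheme attached to a descent datum

For a descent datum `D = (V → X, φ)` relative to `p : X ⟶ Y` the scheme `R = V ×_Y X` carries a groupoid
structure on `V` (over `Y`): source `(v, x) ↦ v`, target `(v, x) ↦ φ(v) over x`.
-/

set_option autoImplicit false
universe u

namespace Groth.Agent.Helper8.DDGrpd

open CategoryTheory CategoryTheory.Limits AlgebraicGeometry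

variable {X Y : Scheme.{u}} {p : X ⟶ Y} (D : Desc.SchDD p)

/-- transport of a `T`-point of `V` over `x₀` to the point over `x₁` -/
def tr {T : Scheme.{u}} (x₀ x₁ : T ⟶ X) (h : x₀ ≫ p = x₁ ≫ p) (v : T ⟶ D.obj.left)
    (hv : v ≫ D.obj.hom = x₀) : T ⟶ D.obj.left :=
  (D.φ x₀ x₁ h ⟨v, hv⟩).1

lemma tr_hom {T : Scheme.{u}} (x₀ x₁ : T ⟶ X) (h : x₀ ≫ p = x₁ ≫ p) (v : T ⟶ D.obj.left)
    (hv : v ≫ D.obj.hom = x₀) : tr D x₀ x₁ h v hv ≫ D.obj.hom = x₁ :=
  (D.φ x₀ x₁ h ⟨v, hv⟩).2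

lemma tr_congr {T : Scheme.{u}} {x₀ x₀' x₁ x₁' : T ⟶ X} {v v' : T ⟶ D.obj.left}
    (e₀ : x₀ = x₀') (e₁ : x₁ = x₁') (ev : v = v') (h : x₀ ≫ p = x₁ ≫ p)
    (hv : v ≫ D.obj.hom = x₀) (h' : x₀' ≫ p = x₁' ≫ p) (hv' : v' ≫ D.obj.hom = x₀') :
    tr D x₀ x₁ h v hv = tr D x₀' x₁' h' v' hv' := by
  subst e₀ e₁ ev; rfl

lemma comp_tr {T T' : Scheme.{u}} (g : T' ⟶ T) (x₀ x₁ : T ⟶ X) (h : x₀ ≫ p = x₁ ≫ p)
    (v : T ⟶ D.obj.left) (hv : v ≫ D.obj.hom = x₀) :
    g ≫ tr D x₀ x₁ h v hv =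
      tr D (g ≫ x₀) (g ≫ x₁) (by rw [Category.assoc, Category.assoc, h]) (g ≫ v)
        (by rw [Category.assoc, hv]) :=
  (D.φ_natural g x₀ x₁ h (by rw [Category.assoc, Category.assoc, h]) ⟨v, hv⟩
    ⟨g ≫ v, by rw [Category.assoc, hv]⟩ rfl).symm

lemma tr_self {T : Scheme.{u}} (x : T ⟶ X) (v : T ⟶ D.obj.left) (hv : v ≫ D.obj.hom = x) :
    tr D x x rfl v hv = v :=
  congrArg Subtype.val (D.φ_self x ⟨v, hv⟩)

lemma tr_tr {T : Scheme.{u}} (x₀ x₁ x₂ : T ⟶ X) (h₀₁ : x₀ ≫ p = x₁ ≫ p) (h₁₂ : x₁ ≫ p = x₂ ≫ p)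
    (v : T ⟶ D.obj.left) (hv : v ≫ D.obj.hom = x₀) :
    tr D x₁ x₂ h₁₂ (tr D x₀ x₁ h₀₁ v hv) (tr_hom D x₀ x₁ h₀₁ v hv) =
      tr D x₀ x₂ (h₀₁.trans h₁₂) v hv :=
  congrArg Subtype.val (D.φ_comp x₀ x₁ x₂ h₀₁ h₁₂ ⟨v, hv⟩)

/-- the structure map `V → Y` -/
noncomputable abbrev f : D.obj.left ⟶ Y := D.obj.hom ≫ p

/-- arrows `R = V ×_Y X` -/
noncomputable abbrev R : Scheme.{u} := pullback (f D) p

/-- source -/
noncomputable abbrev sR : R D ⟶ D.obj.left := pullback.fst (f D) p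

/-- the `X`-component -/
noncomputable abbrev xR : R D ⟶ X := pullback.snd (f D) p

lemma cond : (sR D ≫ D.obj.hom) ≫ p = xR D ≫ p := by
  rw [Category.assoc]; exact pullback.condition

/-- target -/
noncomputable def tR : R D ⟶ D.obj.left :=
  tr D (sR D ≫ D.obj.hom) (xR D) (cond D) (sR D) rfl

lemma tR_hom : tR D ≫ D.obj.hom = xR D := tr_hom D _ _ _ _ _

lemma comp_cond {T : Scheme.{u}} (r : T ⟶ R D) (x₀ : T ⟶ X)
    (hx₀ : (r ≫ sR D) ≫ D.obj.hom = x₀) : x₀ ≫ p = (r ≫ xR D) ≫ p := by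
  rw [← hx₀, Category.assoc, Category.assoc, Category.assoc, ← Category.assoc (sR D), cond D]

lemma comp_tR {T : Scheme.{u}} (r : T ⟶ R D) (x₀ : T ⟶ X)
    (hx₀ : (r ≫ sR D) ≫ D.obj.hom = x₀) :
    r ≫ tR D = tr D x₀ (r ≫ xR D) (comp_cond D r x₀ hx₀) (r ≫ sR D) hx₀ := by
  unfold tR
  rw [comp_tr]
  exact tr_congr D (by rw [← hx₀, Category.assoc]) rfl rfl _ _ _ _

lemma hom_ext_R {T : Scheme.{u}} {r₁ r₂ : T ⟶ R D} (h₁ : r₁ ≫ sR D = r₂ ≫ sR D)
    (h₂ : r₁ ≫ xR D = r₂ ≫ xR D) : r₁ = r₂ :=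
  pullback.hom_ext h₁ h₂

/-- identity -/
noncomputable def eR : D.obj.left ⟶ R D :=
  pullback.lift (𝟙 _) D.obj.hom (by rw [Category.id_comp])

@[reassoc] lemma eR_s : eR D ≫ sR D = 𝟙 _ := pullback.lift_fst _ _ _
@[reassoc] lemma eR_x : eR D ≫ xR D = D.obj.hom := pullback.lift_snd _ _ _

lemma eR_t : eR D ≫ tR D = 𝟙 _ := by
  rw [comp_tR D (eR D) D.obj.hom (by rw [eR_s, Category.id_comp])]
  rw [tr_congr D rfl (eR_x D) (eR_s D) _ _ rfl (Category.id_comp _)]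
  exact tr_self D _ _ _

/-- inverse -/
noncomputable def iR : R D ⟶ R D :=
  pullback.lift (tR D) (sR D ≫ D.obj.hom) (by
    rw [← Category.assoc, tR_hom]; exact (cond D).symm)

@[reassoc] lemma iR_s : iR D ≫ sR D = tR D := pullback.lift_fst _ _ _
@[reassoc] lemma iR_x : iR D ≫ xR D = sR D ≫ D.obj.hom := pullback.lift_snd _ _ _

lemma iR_t : iR D ≫ tR D = sR D := by
  rw [comp_tR D (iR D) (xR D) (by rw [iR_s, tR_hom])]
  have e := tr_tr D (sR D ≫ D.obj.hom) (xR D) (sR D ≫ D.obj.hom) (cond D) (cond D).symm (sR D) rfl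
  rw [tr_self] at e
  refine Eq.trans ?_ e
  exact tr_congr D rfl (iR_x D) (iR_s D) _ _ _ _

lemma cR_cond : (pullback.snd (sR D) (tR D) ≫ sR D) ≫ f D =
    (pullback.fst (sR D) (tR D) ≫ xR D) ≫ p := by
  have h1 : pullback.fst (sR D) (tR D) ≫ sR D = pullback.snd (sR D) (tR D) ≫ tR D :=
    pullback.condition
  calc (pullback.snd (sR D) (tR D) ≫ sR D) ≫ f D
      = pullback.snd (sR D) (tR D) ≫ (sR D ≫ D.obj.hom) ≫ p := by simp only [Category.assoc]
    _ = pullback.snd (sR D) (tR D) ≫ (tR D ≫ D.obj.hom) ≫ p := by rw [cond D, tR_hom]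
    _ = (pullback.snd (sR D) (tR D) ≫ tR D) ≫ D.obj.hom ≫ p := by simp only [Category.assoc]
    _ = (pullback.fst (sR D) (tR D) ≫ sR D) ≫ D.obj.hom ≫ p := by rw [h1]
    _ = pullback.fst (sR D) (tR D) ≫ (sR D ≫ D.obj.hom) ≫ p := by simp only [Category.assoc]
    _ = (pullback.fst (sR D) (tR D) ≫ xR D) ≫ p := by rw [cond D, Category.assoc]

/-- composition -/
noncomputable def cR : pullback (sR D) (tR D) ⟶ R D :=
  pullback.lift (pullback.snd (sR D) (tR D) ≫ sR D) (pullback.fst (sR D) (tR D) ≫ xR D) (cR_cond D)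

lemma lift_cR_s {T : Scheme.{u}} (α β : T ⟶ R D) (h : α ≫ sR D = β ≫ tR D) :
    (pullback.lift α β h ≫ cR D) ≫ sR D = β ≫ sR D := by
  rw [Category.assoc, cR, pullback.lift_fst, pullback.lift_snd_assoc]

lemma lift_cR_x {T : Scheme.{u}} (α β : T ⟶ R D) (h : α ≫ sR D = β ≫ tR D) :
    (pullback.lift α β h ≫ cR D) ≫ xR D = α ≫ xR D := by
  rw [Category.assoc, cR, pullback.lift_snd, pullback.lift_fst_assoc]

lemma lift_cR_t {T : Scheme.{u}} (α β : T ⟶ R D) (h : α ≫ sR D = β ≫ tR D) :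
    (pullback.lift α β h ≫ cR D) ≫ tR D = α ≫ tR D := by
  rw [comp_tR D (pullback.lift α β h ≫ cR D) ((β ≫ sR D) ≫ D.obj.hom) (by rw [lift_cR_s])]
  rw [comp_tR D α (β ≫ xR D) (by rw [h, Category.assoc, tR_hom])]
  have hβ := comp_tR D β ((β ≫ sR D) ≫ D.obj.hom) rfl
  have e := tr_tr D ((β ≫ sR D) ≫ D.obj.hom) (β ≫ xR D) (α ≫ xR D)
    (comp_cond D β _ rfl) (comp_cond D α (β ≫ xR D) (by rw [h, Category.assoc, tR_hom]))
    (β ≫ sR D) rfl
  refine Eq.trans ?_ (e.symm.trans ?_)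
  · exact tr_congr D rfl (lift_cR_x D α β h) (lift_cR_s D α β h) _ _ _ _
  · exact tr_congr D rfl rfl (hβ.symm.trans h.symm) _ _ _ _

/-- the groupoid scheme of a descent datum -/
@[reducible] noncomputable def grpd : Grpd.GroupoidScheme Y where
  U := D.obj.left
  R := R D
  pU := f D
  pR := sR D ≫ f D
  s := sR D
  t := tR D
  e := eR D
  i := iR D
  c := cR D
  s_over := rfl
  t_over := by
    rw [f, ← Category.assoc, tR_hom, ← cond D, Category.assoc]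
  comp_s := fun α β h => lift_cR_s D α β h
  comp_t := fun α β h => lift_cR_t D α β h
  assoc := by
    intro T α β γ h₁ h₂
    apply hom_ext_R
    · rw [lift_cR_s, lift_cR_s, lift_cR_s]
    · rw [lift_cR_x, lift_cR_x, lift_cR_x]
  e_s := eR_s D
  e_t := eR_t D
  comp_e := by
    intro T α
    apply hom_ext_R
    · rw [lift_cR_s, Category.assoc, Category.assoc, eR_s, Category.comp_id]
    · rw [lift_cR_x]
  e_comp := by
    intro T α
    apply hom_ext_R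
    · rw [lift_cR_s]
    · rw [lift_cR_x, Category.assoc, Category.assoc, eR_x, tR_hom]
  i_s := iR_s D
  i_t := iR_t D
  comp_i := by
    intro T α
    apply hom_ext_R
    · rw [lift_cR_s, Category.assoc, iR_s, Category.assoc, Category.assoc, eR_s, Category.comp_id]
    · rw [lift_cR_x, Category.assoc, Category.assoc, eR_x, tR_hom]
  i_comp := by
    intro T α
    apply hom_ext_R
    · rw [lift_cR_s, Category.assoc, Category.assoc, eR_s, Category.comp_id]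
    · rw [lift_cR_x, Category.assoc, iR_x, Category.assoc, Category.assoc, eR_x]

instance mono_j : Mono (grpd D).j := by
  constructor
  intro T a b hab
  have ht : a ≫ tR D = b ≫ tR D := by
    have := congrArg (fun m => m ≫ pullback.fst _ _) hab
    simpa only [Category.assoc, Grpd.GroupoidScheme.j, pullback.lift_fst] using this
  have hs : a ≫ sR D = b ≫ sR D := by
    have := congrArg (fun m => m ≫ pullback.snd _ _) hab
    simpa only [Category.assoc, Grpd.GroupoidScheme.j, pullback.lift_snd] using this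
  apply hom_ext_R D hs
  rw [← tR_hom, ← Category.assoc, ht, Category.assoc]

end Groth.Agent.Helper8.DDGrpd
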