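import Mathlib
import Groth.Prelude.Def_Desc
import Groth.Agent.Helper8.DDGrpd
import Groth.Agent.Lead.DescDD

/-!
# Gluing locally effective descent data, part A: sub-descent data given by open immersions

`Eff D W`: the open `W` of the total space of the descent datum `D` is the range of an open immersion of
descent data from a canonical descent datum.  Such opens are stable under the descent datum, and the
intersection of such an open with a stable open is again of this form.
-/

set_option autoImplicit false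
universe u

namespace Groth.Agent.Helper8.DGlue

open CategoryTheory CategoryTheory.Limits AlgebraicGeometry
open Groth.Agent.Helper8.DDGrpd

variable {X S : Scheme.{u}} {p : X ⟶ S}

section General

set_option backward.isDefEq.respectTransparency false in
/-- a morphism which is injective and, locally on the source, an open immersion, is an open
immersion -/
theorem isOpenImmersion_of_local {X Y : Scheme.{u}} (f : X ⟶ Y) (hinj : Function.Injective f)
    (H : ∀ x : X, ∃ (T : Scheme.{u}) (j : T ⟶ X), IsOpenImmersion j ∧ IsOpenImmersion (j ≫ f) ∧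
      x ∈ Set.range j) : IsOpenImmersion f := by
  have hopen : IsOpenMap f := by
    intro O hO
    rw [isOpen_iff_forall_mem_open]
    rintro _ ⟨x, hx, rfl⟩
    obtain ⟨T, j, hj, hjf, z, rfl⟩ := H x
    haveI := hj
    haveI := hjf
    refine ⟨(j ≫ f) '' (j ⁻¹' O), ?_, ?_, ?_⟩
    · rintro _ ⟨z', hz', rfl⟩
      exact ⟨j z', hz', (Scheme.Hom.comp_apply j f z').symm⟩
    · exact (j ≫ f).isOpenEmbedding.isOpenMap _ (hO.preimage j.continuous)
    · exact ⟨z, hx, Scheme.Hom.comp_apply j f z⟩
  have hemb : Topology.IsOpenEmbedding f :=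
    .of_continuous_injective_isOpenMap f.continuous hinj hopen
  haveI : ∀ x, IsIso (f.stalkMap x) := by
    intro x
    obtain ⟨T, j, hj, hjf, z, rfl⟩ := H x
    haveI := hj
    haveI := hjf
    haveI : IsIso (f.stalkMap (j z) ≫ j.stalkMap z) := by
      rw [← Scheme.Hom.stalkMap_comp]
      infer_instance
    exact IsIso.of_isIso_comp_right _ (j.stalkMap z)
  exact IsOpenImmersion.of_isIso_stalkMap f hemb

lemma range_fst_of_isPullback {A X Y Z : Scheme.{u}} {fst : A ⟶ X} {snd : A ⟶ Y} {f : X ⟶ Z}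
    {g : Y ⟶ Z} (h : IsPullback fst snd f g) : Set.range fst = f ⁻¹' Set.range g := by
  rw [← Scheme.Pullback.range_fst, ← h.isoPullback_hom_fst]
  simp only [Scheme.Hom.comp_base, TopCat.hom_comp, ContinuousMap.coe_comp]
  rw [Set.range_comp, Set.range_eq_univ.mpr h.isoPullback.hom.surjective, Set.image_univ]

lemma range_comp_hom {A B C : Scheme.{u}} (f : A ⟶ B) (g : B ⟶ C) :
    Set.range (f ≫ g) = g '' Set.range f := by
  ext x
  constructor
  · rintro ⟨a, rfl⟩
    exact ⟨f a, ⟨a, rfl⟩, (Scheme.Hom.comp_apply f g a).symm⟩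
  · rintro ⟨_, ⟨a, rfl⟩, rfl⟩
    exact ⟨a, Scheme.Hom.comp_apply f g a⟩

end General

/-- transport commutes with morphisms of descent data -/
lemma tr_map {D D' : Desc.SchDD p} (c : D ⟶ D') {T : Scheme.{u}} (x₀ x₁ : T ⟶ X)
    (h : x₀ ≫ p = x₁ ≫ p) (v : T ⟶ D.obj.left) (hv : v ≫ D.obj.hom = x₀) :
    tr D' x₀ x₁ h (v ≫ c.hom.left) (by rw [Category.assoc, Over.w c.hom, hv]) =
      tr D x₀ x₁ h v hv ≫ c.hom.left :=
  c.comm x₀ x₁ h ⟨v, hv⟩ ⟨v ≫ c.hom.left, by rw [Category.assoc, Over.w c.hom, hv]⟩ rfl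

/-- a morphism over `X` compatible with the transports is a morphism of descent data -/
def mkHom {D D' : Desc.SchDD p} (c : D.obj ⟶ D'.obj)
    (hc : ∀ ⦃T : Scheme.{u}⦄ (x₀ x₁ : T ⟶ X) (h : x₀ ≫ p = x₁ ≫ p) (v : T ⟶ D.obj.left)
      (hv : v ≫ D.obj.hom = x₀),
      tr D' x₀ x₁ h (v ≫ c.left) (by rw [Category.assoc, Over.w c, hv]) =
        tr D x₀ x₁ h v hv ≫ c.left) : D ⟶ D' where
  hom := c
  comm := by
    intro T x₀ x₁ h v w hw
    obtain ⟨v, hv⟩ := v
    obtain ⟨w, hw'⟩ := w
    have hw2 : w = v ≫ c.left := hw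
    subst hw2
    exact hc x₀ x₁ h v hv

@[simp] lemma mkHom_hom {D D' : Desc.SchDD p} (c : D.obj ⟶ D'.obj) (hc) :
    (mkHom (D := D) (D' := D') c hc).hom = c := rfl

/-- cancellation of a morphism of descent data whose underlying morphism is a monomorphism -/
theorem hom_ext_of_mono {D₁ D₂ E : Desc.SchDD p} (b : D₂ ⟶ E) [Mono b.hom.left] {c c' : D₁ ⟶ D₂}
    (h : c ≫ b = c' ≫ b) : c = c' := by
  apply Desc.SchDD.hom_ext
  apply Over.OverMorphism.ext
  rw [← cancel_mono b.hom.left]
  exact congrArg (fun m : D₁ ⟶ E => m.hom.left) h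

/-- lifting a morphism of descent data through an open immersion of descent data -/
theorem exists_lift {D₁ D₂ E : Desc.SchDD p} (a : D₁ ⟶ E) (b : D₂ ⟶ E)
    [IsOpenImmersion b.hom.left] (hr : Set.range a.hom.left ⊆ Set.range b.hom.left) :
    ∃ c : D₁ ⟶ D₂, c ≫ b = a := by
  let cl : D₁.obj.left ⟶ D₂.obj.left := IsOpenImmersion.lift b.hom.left a.hom.left hr
  have hcl : cl ≫ b.hom.left = a.hom.left := IsOpenImmersion.lift_fac _ _ _
  have hover : cl ≫ D₂.obj.hom = D₁.obj.hom := by
    rw [← Over.w b.hom, ← Category.assoc, hcl, Over.w a.hom]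
  refine ⟨mkHom (Over.homMk cl hover) ?_, ?_⟩
  · intro T x₀ x₁ h v hv
    rw [← cancel_mono b.hom.left]
    have e1 := tr_map b x₀ x₁ h (v ≫ cl) (by rw [Category.assoc, hover, hv])
    have e2 := tr_map a x₀ x₁ h v hv
    calc tr D₂ x₀ x₁ h (v ≫ (Over.homMk cl hover : D₁.obj ⟶ D₂.obj).left) _ ≫ b.hom.left
        = tr E x₀ x₁ h ((v ≫ cl) ≫ b.hom.left) _ := e1.symm
      _ = tr E x₀ x₁ h (v ≫ a.hom.left) _ :=
          tr_congr E rfl rfl (by rw [Category.assoc, hcl]) _ _ _ _
      _ = tr D₁ x₀ x₁ h v hv ≫ a.hom.left := e2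
      _ = (tr D₁ x₀ x₁ h v hv ≫ cl) ≫ b.hom.left := by rw [Category.assoc, hcl]
  · apply Desc.SchDD.hom_ext
    apply Over.OverMorphism.ext
    exact hcl

section Canonical

variable (p)

/-- the square comparing the canonical descent data of two schemes over `S` is cartesian -/
theorem isPullback_toDD_map {U U' : Over S} (g : U ⟶ U') :
    IsPullback ((Desc.toDD p).map g).hom.left (pullback.snd p U.hom) (pullback.snd p U'.hom)
      g.left := by
  refine IsPullback.of_right ?_ (Groth.Agent.Lead.toDD_map_snd p g)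
    (IsPullback.of_hasPullback p U'.hom)
  rw [Groth.Agent.Lead.toDD_map_fst, Over.w g]
  exact IsPullback.of_hasPullback p U.hom

theorem range_toDD_map {U U' : Over S} (g : U ⟶ U') :
    Set.range ((Desc.toDD p).map g).hom.left = pullback.snd p U'.hom ⁻¹' Set.range g.left :=
  range_fst_of_isPullback (isPullback_toDD_map p g)

instance isOpenImmersion_toDD_map {U U' : Over S} (g : U ⟶ U') [IsOpenImmersion g.left] :
    IsOpenImmersion ((Desc.toDD p).map g).hom.left :=
  MorphismProperty.of_isPullback (P := @IsOpenImmersion) (isPullback_toDD_map p g).flip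
    (inferInstance : IsOpenImmersion g.left)

variable {p}

/-- in a canonical descent datum, the transport of `a` is any point `b` with the same image in `U` -/
lemma tr_canonical {U : Over S} {T : Scheme.{u}} (a b : T ⟶ pullback p U.hom)
    (hab : a ≫ pullback.snd p U.hom = b ≫ pullback.snd p U.hom)
    (hx : (a ≫ pullback.fst p U.hom) ≫ p = (b ≫ pullback.fst p U.hom) ≫ p) :
    tr ((Desc.toDD p).obj U) (a ≫ pullback.fst p U.hom) (b ≫ pullback.fst p U.hom) hx a rfl = b := by
  show pullback.lift _ _ _ = b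
  apply pullback.hom_ext
  · rw [pullback.lift_fst]
  · rw [pullback.lift_snd]; exact hab

lemma cond_of_same_image {U : Over S} {T : Scheme.{u}} (a b : T ⟶ pullback p U.hom)
    (hab : a ≫ pullback.snd p U.hom = b ≫ pullback.snd p U.hom) :
    (a ≫ pullback.fst p U.hom) ≫ p = (b ≫ pullback.fst p U.hom) ≫ p := by
  rw [Category.assoc, Category.assoc, pullback.condition, ← Category.assoc, ← Category.assoc, hab]

lemma w_left {D : Desc.SchDD p} {U : Over S} (e : (Desc.toDD p).obj U ⟶ D) :
    e.hom.left ≫ D.obj.hom = pullback.fst p U.hom := Over.w e.hom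

lemma comp_e_hom {D : Desc.SchDD p} {U : Over S} (e : (Desc.toDD p).obj U ⟶ D) {T : Scheme.{u}}
    (a : T ⟶ pullback p U.hom) : (a ≫ e.hom.left) ≫ D.obj.hom = a ≫ pullback.fst p U.hom := by
  rw [Category.assoc]
  exact congrArg (a ≫ ·) (w_left e)

/-- for a morphism from a canonical descent datum, points with the same image in `U` are transports of
each other -/
lemma tr_of_same_image {D : Desc.SchDD p} {U : Over S} (e : (Desc.toDD p).obj U ⟶ D)
    {T : Scheme.{u}} (a b : T ⟶ pullback p U.hom)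
    (hab : a ≫ pullback.snd p U.hom = b ≫ pullback.snd p U.hom) :
    tr D (a ≫ pullback.fst p U.hom) (b ≫ pullback.fst p U.hom) (cond_of_same_image a b hab)
      (a ≫ e.hom.left) (comp_e_hom e a) = b ≫ e.hom.left := by
  have e1 := tr_map e (a ≫ pullback.fst p U.hom) (b ≫ pullback.fst p U.hom)
    (cond_of_same_image a b hab) a rfl
  rw [tr_canonical a b hab] at e1
  exact e1

end Canonical

/-- stable opens of the total space of a descent datum -/
def IsSt (D : Desc.SchDD p) (W : D.obj.left.Opens) : Prop := ∀ r : R D, sR D r ∈ W ↔ tR D r ∈ W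

lemma IsSt.inf {D : Desc.SchDD p} {W W' : D.obj.left.Opens} (h : IsSt D W) (h' : IsSt D W') :
    IsSt D (W ⊓ W') := fun r => and_congr (h r) (h' r)

/-- transports do not leave a stable open -/
lemma tr_mem {D : Desc.SchDD p} {W : D.obj.left.Opens} (hW : IsSt D W) {T : Scheme.{u}}
    (x₀ x₁ : T ⟶ X) (h : x₀ ≫ p = x₁ ≫ p) (v : T ⟶ D.obj.left) (hv : v ≫ D.obj.hom = x₀) (t : T) :
    tr D x₀ x₁ h v hv t ∈ W ↔ v t ∈ W := by
  have hc : v ≫ f D = x₁ ≫ p := by rw [← Category.assoc, hv, h]
  have h1 : pullback.lift v x₁ hc ≫ sR D = v := pullback.lift_fst _ _ _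
  have h2 : pullback.lift v x₁ hc ≫ xR D = x₁ := pullback.lift_snd _ _ _
  have h3 : pullback.lift v x₁ hc ≫ tR D = tr D x₀ x₁ h v hv := by
    rw [comp_tR D _ x₀ (by rw [h1, hv])]
    exact tr_congr D rfl h2 h1 _ _ _ _
  have e1 : tr D x₀ x₁ h v hv t = tR D (pullback.lift v x₁ hc t) := by
    rw [← h3, Scheme.Hom.comp_apply]
  have e2 : v t = sR D (pullback.lift v x₁ hc t) := by
    rw [← Scheme.Hom.comp_apply, h1]
  rw [e1, e2]
  exact (hW _).symm

/-- the range of an open immersion from a canonical descent datum is stable -/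
theorem isSt_range {D : Desc.SchDD p} {U : Over S} (e : (Desc.toDD p).obj U ⟶ D)
    [IsOpenImmersion e.hom.left] (W : D.obj.left.Opens)
    (hW : Set.range e.hom.left = (W : Set D.obj.left)) : IsSt D W := by
  have key : ∀ r : R D, sR D r ∈ W → tR D r ∈ W := by
    intro r hr
    let Ω : (R D).Opens := sR D ⁻¹ᵁ W
    have hrΩ : r ∈ Ω := hr
    let a : Ω.toScheme ⟶ D.obj.left := Ω.ι ≫ sR D
    have hra : Set.range a ⊆ Set.range e.hom.left := by
      rintro _ ⟨ω, rfl⟩
      rw [hW]
      show (Ω.ι ≫ sR D) ω ∈ W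
      rw [Scheme.Hom.comp_apply]
      exact ω.2
    let el : pullback p U.hom ⟶ D.obj.left := e.hom.left
    haveI : IsOpenImmersion el := inferInstanceAs (IsOpenImmersion e.hom.left)
    let a' : Ω.toScheme ⟶ pullback p U.hom := IsOpenImmersion.lift el a hra
    have ha' : a' ≫ e.hom.left = a := IsOpenImmersion.lift_fac el a hra
    have hx₀ : (Ω.ι ≫ sR D) ≫ D.obj.hom = a' ≫ pullback.fst p U.hom :=
      (congrArg (· ≫ D.obj.hom) ha').symm.trans (comp_e_hom e a')
    have e1 := comp_tR D Ω.ι (a' ≫ pullback.fst p U.hom) hx₀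
    have e2 := tr_map e (a' ≫ pullback.fst p U.hom) (Ω.ι ≫ xR D)
      (comp_cond D Ω.ι _ hx₀) a' rfl
    have e3 : Ω.ι ≫ tR D =
        tr ((Desc.toDD p).obj U) (a' ≫ pullback.fst p U.hom) (Ω.ι ≫ xR D)
          (comp_cond D Ω.ι _ hx₀) a' rfl ≫ e.hom.left := by
      rw [e1, ← e2]
      exact tr_congr D rfl rfl ha'.symm _ _ _ _
    have e4 : tR D r = (Ω.ι ≫ tR D) ⟨r, hrΩ⟩ := by
      rw [Scheme.Hom.comp_apply]; rfl
    rw [e4, e3, Scheme.Hom.comp_apply]
    have : e.hom.left ((tr ((Desc.toDD p).obj U) (a' ≫ pullback.fst p U.hom) (Ω.ι ≫ xR D)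
          (comp_cond D Ω.ι _ hx₀) a' rfl) ⟨r, hrΩ⟩) ∈ Set.range e.hom.left := ⟨_, rfl⟩
    rw [hW] at this
    exact this
  intro r
  refine ⟨key r, fun hr => ?_⟩
  have h1 : sR D (iR D r) = tR D r := by rw [← Scheme.Hom.comp_apply, iR_s]
  have h2 : tR D (iR D r) = sR D r := by rw [← Scheme.Hom.comp_apply, iR_t]
  rw [← h2]
  exact key _ (by rw [h1]; exact hr)

/-- preimages of stable opens in a canonical descent datum are saturated -/
theorem mem_of_same_image {D : Desc.SchDD p} {U : Over S} (e : (Desc.toDD p).obj U ⟶ D)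
    {W : D.obj.left.Opens} (hW : IsSt D W) (z z' : ↥(pullback p U.hom))
    (hzz : pullback.snd p U.hom z = pullback.snd p U.hom z') (hz : e.hom.left z ∈ W) :
    e.hom.left z' ∈ W := by
  obtain ⟨ζ, hζ1, hζ2⟩ := Scheme.Pullback.exists_preimage_pullback z z' hzz
  have key := tr_of_same_image e (pullback.fst (pullback.snd p U.hom) (pullback.snd p U.hom))
    (pullback.snd (pullback.snd p U.hom) (pullback.snd p U.hom)) pullback.condition
  have h1 := tr_mem hW _ _ (cond_of_same_image _ _ pullback.condition)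
    (pullback.fst (pullback.snd p U.hom) (pullback.snd p U.hom) ≫ e.hom.left)
    (comp_e_hom e _) ζ
  rw [key] at h1
  rw [Scheme.Hom.comp_apply, Scheme.Hom.comp_apply, hζ1, hζ2] at h1
  exact h1.mpr hz

section Quot

variable [Surjective p] [Flat p] [QuasiCompact p]

/-- saturated opens of `X ×_S U` come from `U` -/
theorem exists_opens_of_saturated (U : Over S) (O : (pullback p U.hom).Opens)
    (hO : ∀ z z' : ↥(pullback p U.hom), pullback.snd p U.hom z = pullback.snd p U.hom z' →
      z ∈ O → z' ∈ O) : ∃ U₀ : U.left.Opens, pullback.snd p U.hom ⁻¹ᵁ U₀ = O := by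
  have hq : Topology.IsQuotientMap (pullback.snd p U.hom) :=
    Flat.isQuotientMap_of_surjective _
  have hpre : (pullback.snd p U.hom) ⁻¹' ((pullback.snd p U.hom) '' (O : Set _)) = (O : Set _) := by
    ext z
    constructor
    · rintro ⟨z', hz', hzz'⟩
      exact hO z' z hzz' hz'
    · intro hz
      exact ⟨z, hz, rfl⟩
  have hopen : IsOpen ((pullback.snd p U.hom) '' (O : Set _)) := by
    rw [← hq.isOpen_preimage, hpre]
    exact O.isOpen
  refine ⟨⟨_, hopen⟩, ?_⟩
  ext z
  exact Set.ext_iff.mp hpre z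

/-- `W` is the range of an open immersion of descent data from a canonical descent datum -/
def Eff (D : Desc.SchDD p) (W : D.obj.left.Opens) : Prop :=
  ∃ (U : Over S) (e : (Desc.toDD p).obj U ⟶ D), IsOpenImmersion e.hom.left ∧
    Set.range e.hom.left = (W : Set D.obj.left)

omit [Surjective p] [Flat p] [QuasiCompact p] in
theorem Eff.isSt {D : Desc.SchDD p} {W : D.obj.left.Opens} (h : Eff D W) : IsSt D W := by
  obtain ⟨U, e, he, hr⟩ := h
  exact isSt_range e W hr

theorem Eff.inf {D : Desc.SchDD p} {W₁ W₂ : D.obj.left.Opens} (h₁ : Eff D W₁) (h₂ : IsSt D W₂) :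
    Eff D (W₁ ⊓ W₂) := by
  obtain ⟨U, e, he, hr⟩ := h₁
  obtain ⟨U₀, hU₀⟩ := exists_opens_of_saturated U (e.hom.left ⁻¹ᵁ W₂)
    (fun z z' hzz hz => mem_of_same_image e h₂ z z' hzz hz)
  let U₀' : Over S := Over.mk (U₀.ι ≫ U.hom)
  let j : U₀' ⟶ U := Over.homMk U₀.ι rfl
  haveI : IsOpenImmersion j.left := inferInstanceAs (IsOpenImmersion U₀.ι)
  refine ⟨U₀', (Desc.toDD p).map j ≫ e, ?_, ?_⟩
  · show IsOpenImmersion (((Desc.toDD p).map j).hom.left ≫ e.hom.left)
    infer_instance
  · show Set.range (((Desc.toDD p).map j).hom.left ≫ e.hom.left) = _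
    rw [range_comp_hom]
    have h1 : Set.range ((Desc.toDD p).map j).hom.left = e.hom.left ⁻¹' (W₂ : Set _) := by
      rw [range_toDD_map]
      have : Set.range j.left = (U₀ : Set _) := Scheme.Opens.range_ι U₀
      rw [this]
      exact congrArg (fun O : (pullback p U.hom).Opens => (O : Set ↥(pullback p U.hom))) hU₀
    rw [h1, Set.image_preimage_eq_inter_range, hr]
    exact Set.inter_comm _ _

end Quot

end Groth.Agent.Helper8.DGlue
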