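import Mathlib
import Groth.Prelude.Def_Desc
import Groth.Agent.Helper8.DGlueA

/-!
# Gluing locally effective descent data for general covers, part A

The gluing of `DGlueA/B/C` only uses two properties of the cover `p : X ⟶ S`: every base change of `p` is a
topological quotient map (and `p` is surjective), and `Desc.toDD p` is fully faithful.  They are packaged
in the class `IsDescCover p`, which holds for fpqc morphisms, for fppf morphisms, and for the covers of
Mathlib's fpqc topology.
-/

set_option autoImplicit false
universe u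

namespace Groth.Agent.Helper8.DGlue2

open CategoryTheory CategoryTheory.Limits AlgebraicGeometry
open Groth.Agent.Helper8.DDGrpd Groth.Agent.Helper8.DGlue

variable {X S : Scheme.{u}} {p : X ⟶ S}

/-- the properties of a cover used in the gluing of descent data -/
class IsDescCover (p : X ⟶ S) : Prop where
  surj : Surjective p
  quot : ∀ U : Over S, Topology.IsQuotientMap (pullback.snd p U.hom)
  full : (Desc.toDD p).Full
  faithful : (Desc.toDD p).Faithful
  descOI : ∀ {U U' : Over S} (g : U ⟶ U'),
    IsOpenImmersion ((Desc.toDD p).map g).hom.left → IsOpenImmersion g.left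

instance (priority := 100) isDescCover_of_fpqc [Surjective p] [Flat p] [QuasiCompact p] :
    IsDescCover p where
  surj := inferInstance
  quot _ := Flat.isQuotientMap_of_surjective _
  full := Groth.Agent.Lead.toDD_full p
  faithful := Groth.Agent.Lead.toDD_faithful p
  descOI {U U'} g hg := by
    have hQ : (@Surjective ⊓ @Flat ⊓ @QuasiCompact : MorphismProperty Scheme.{u})
        (pullback.snd p U'.hom) := ⟨⟨inferInstance, inferInstance⟩, inferInstance⟩
    exact MorphismProperty.DescendsAlong.of_isPullback (P := @IsOpenImmersion)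
      (isPullback_toDD_map p g) hQ hg

section Quot

variable [IsDescCover p]

/-- saturated opens of `X ×_S U` come from `U` -/
theorem exists_opens_of_saturated (U : Over S) (O : (pullback p U.hom).Opens)
    (hO : ∀ z z' : ↥(pullback p U.hom), pullback.snd p U.hom z = pullback.snd p U.hom z' →
      z ∈ O → z' ∈ O) : ∃ U₀ : U.left.Opens, pullback.snd p U.hom ⁻¹ᵁ U₀ = O := by
  have hq : Topology.IsQuotientMap (pullback.snd p U.hom) := IsDescCover.quot U
  have hpre : (pullback.snd p U.hom) ⁻¹' ((pullback.snd p U.hom) '' (O : Set _)) = (O : Set _) := by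
    ext z
    constructor
    · rintro ⟨z', hz', hzz'⟩
      exact hO z' z hzz' hz'
    · intro hz
      exact ⟨z, hz, rfl⟩
  have hopen : IsOpen ((pullback.snd p U.hom) '' (O : Set _)) := by
    rw [← hq.isOpen_preimage, hpre]
    exact O.isOpen
  refine ⟨⟨_, hopen⟩, ?_⟩
  ext z
  exact Set.ext_iff.mp hpre z

theorem eff_inf {D : Desc.SchDD p} {W₁ W₂ : D.obj.left.Opens} (h₁ : Eff D W₁) (h₂ : IsSt D W₂) :
    Eff D (W₁ ⊓ W₂) := by
  obtain ⟨U, e, he, hr⟩ := h₁
  obtain ⟨U₀, hU₀⟩ := exists_opens_of_saturated U (e.hom.left ⁻¹ᵁ W₂)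
    (fun z z' hzz hz => mem_of_same_image e h₂ z z' hzz hz)
  let U₀' : Over S := Over.mk (U₀.ι ≫ U.hom)
  let j : U₀' ⟶ U := Over.homMk U₀.ι rfl
  haveI : IsOpenImmersion j.left := inferInstanceAs (IsOpenImmersion U₀.ι)
  refine ⟨U₀', (Desc.toDD p).map j ≫ e, ?_, ?_⟩
  · show IsOpenImmersion (((Desc.toDD p).map j).hom.left ≫ e.hom.left)
    infer_instance
  · show Set.range (((Desc.toDD p).map j).hom.left ≫ e.hom.left) = _
    rw [range_comp_hom]
    have h1 : Set.range ((Desc.toDD p).map j).hom.left = e.hom.left ⁻¹' (W₂ : Set _) := by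
      rw [range_toDD_map]
      have : Set.range j.left = (U₀ : Set _) := Scheme.Opens.range_ι U₀
      rw [this]
      exact congrArg (fun O : (pullback p U.hom).Opens => (O : Set ↥(pullback p U.hom))) hU₀
    rw [h1, Set.image_preimage_eq_inter_range, hr]
    exact Set.inter_comm _ _

end Quot

end Groth.Agent.Helper8.DGlue2
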