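import Groth.Agent.Helper8.DescB

set_option autoImplicit false
set_option backward.isDefEq.respectTransparency false
set_option backward.isDefEq.respectTransparency.types false

universe w' w u
open CategoryTheory CategoryTheory.Limits AlgebraicGeometry Opposite

namespace Groth.Agent.Helper8.DescC
open Desc Groth.Agent.Helper8.DescA Groth.Agent.Helper8.DescB

variable {S : Scheme.{u}} {ι : Type w} {V : ι → Scheme.{u}} {fV : ∀ j, V j ⟶ S}
  {ι' : Type w'} {U : ι' → Scheme.{u}} {fU : ∀ i, U i ⟶ S}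

lemma cover_mem (hu : Presieve.ofArrows U fU ∈ Scheme.fpqcPrecoverage S) {T : Scheme.{u}}
    (t : T ⟶ S) :
    (Sieve.generate (Presieve.ofArrows U fU)).pullback t ∈ Scheme.fpqcTopology T :=
  Scheme.fpqcTopology.pullback_stable _ (Precoverage.generate_mem_toGrothendieck hu)

lemma cover_lift {T T' : Scheme.{u}} (t : T ⟶ S) (r : T' ⟶ T)
    (hr : (Sieve.generate (Presieve.ofArrows U fU)).pullback t r) :
    ∃ (i : ι') (a : T' ⟶ U i), a ≫ fU i = r ≫ t := by
  obtain ⟨Y, a, b, ⟨i⟩, hab⟩ := hr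
  exact ⟨i, a, hab⟩

lemma hasLocalLifts_of_cover (hu : Presieve.ofArrows U fU ∈ Scheme.fpqcPrecoverage S) :
    HasLocalLifts fU fV := by
  intro j T y
  refine ⟨_, cover_mem hu (y ≫ fV j), ?_⟩
  intro T' r hr
  obtain ⟨i, a, ha⟩ := cover_lift _ r hr
  exact ⟨i, a, by rw [ha, Category.assoc]⟩

lemma hasLocalLifts_of_refine {α : ι' → ι} {g : ∀ i, U i ⟶ V (α i)}
    (w : ∀ i, g i ≫ fV (α i) = fU i ≫ 𝟙 S)
    (hcov : ∀ j, Presieve.ofArrows (fun i : {i // α i = j} => U i.1)
      (fun i => g i.1 ≫ eqToHom (congrArg V i.2)) ∈ Scheme.fpqcPrecoverage (V j)) :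
    HasLocalLifts fU fV := by
  intro j T y
  refine ⟨_, cover_mem (hcov j) y, ?_⟩
  intro T' r hr
  obtain ⟨⟨i, hi⟩, a, ha⟩ := cover_lift _ r hr
  subst hi
  refine ⟨i, a, ?_⟩
  have := w i
  simp only [eqToHom_refl, Category.comp_id] at ha this
  rw [← ha, Category.assoc, this]

section toDD

variable {X : ι → Scheme.{u}} (f : ∀ i, X i ⟶ S)

theorem toDDFam_faithful (hf : Presieve.ofArrows X f ∈ Scheme.fpqcPrecoverage S) :
    (toDDFam f).Faithful := by
  refine ⟨fun {A B} a b hab => ?_⟩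
  apply Over.OverMorphism.ext
  refine hom_ext_of_sieve _ (cover_mem hf A.hom) ?_
  intro T' r hr
  obtain ⟨i, a₀, h₀⟩ := cover_lift _ r hr
  have e : r = pullback.lift a₀ r h₀ ≫ pullback.snd (f i) A.hom := (pullback.lift_snd _ _ _).symm
  have m1 : pullback.snd (f i) A.hom ≫ a.left =
      (((toDDFam f).map a).hom i).left ≫ pullback.snd (f i) B.hom :=
    (pullback.lift_snd _ _ _).symm
  have m2 : pullback.snd (f i) A.hom ≫ b.left =
      (((toDDFam f).map b).hom i).left ≫ pullback.snd (f i) B.hom :=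
    (pullback.lift_snd _ _ _).symm
  rw [e, Category.assoc, m1, Category.assoc, m2, hab]

theorem toDDFam_full (hf : Presieve.ofArrows X f ∈ Scheme.fpqcPrecoverage S) :
    (toDDFam f).Full := by
  refine ⟨fun {A B} c => ?_⟩
  have hR := cover_mem hf A.hom
  -- the candidate on points
  let ψ : ∀ ⦃T' : Scheme.{u}⦄ (r : T' ⟶ A.left) (i : ι) (a : T' ⟶ X i),
      a ≫ f i = r ≫ A.hom → (T' ⟶ B.left) :=
    fun T' r i a ha => pullback.lift a r ha ≫ (c.hom i).left ≫ pullback.snd (f i) B.hom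
  have ψ_indep : ∀ ⦃T' : Scheme.{u}⦄ (r : T' ⟶ A.left) (i : ι) (a : T' ⟶ X i)
      (ha : a ≫ f i = r ≫ A.hom) (i' : ι) (a' : T' ⟶ X i') (ha' : a' ≫ f i' = r ≫ A.hom),
      ψ r i a ha = ψ r i' a' ha' := by
    intro T' r i a ha i' a' ha'
    have h : a ≫ f i = a' ≫ f i' := ha.trans ha'.symm
    have key := c.comm a a' h ⟨pullback.lift a r ha, pullback.lift_fst _ _ _⟩
      (SchDDFam.Hom.push c _) rfl
    have k2 := congrArg (· ≫ pullback.snd (f i') B.hom) key
    simpa [toDDFam, canonicalDDFam, SchDDFam.Hom.push, ψ] using k2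
  have ψ_nat : ∀ ⦃T' T'' : Scheme.{u}⦄ (s : T'' ⟶ T') (r : T' ⟶ A.left) (i : ι) (a : T' ⟶ X i)
      (ha : a ≫ f i = r ≫ A.hom),
      s ≫ ψ r i a ha = ψ (s ≫ r) i (s ≫ a) (by rw [Category.assoc, ha, Category.assoc]) := by
    intro T' T'' s r i a ha
    have e : pullback.lift (s ≫ a) (s ≫ r) (by rw [Category.assoc, ha, Category.assoc]) =
        s ≫ pullback.lift a r ha := by apply pullback.hom_ext <;> simp
    change s ≫ pullback.lift a r ha ≫ _ = pullback.lift (s ≫ a) (s ≫ r) _ ≫ _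
    rw [e, Category.assoc]
  have hl : ∀ ⦃T' : Scheme.{u}⦄ (r : T' ⟶ A.left),
      (Sieve.generate (Presieve.ofArrows X f)).pullback A.hom r →
      ∃ (i : ι) (a : T' ⟶ X i), a ≫ f i = r ≫ A.hom := fun T' r hr => cover_lift _ r hr
  choose iR aR haR using hl
  let fam : Presieve.FamilyOfElements (yoneda.obj B.left)
      ((Sieve.generate (Presieve.ofArrows X f)).pullback A.hom).arrows :=
    fun T' r hr => ψ r (iR r hr) (aR r hr) (haR r hr)
  have hcompat : fam.Compatible := by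
    rw [Presieve.compatible_iff_sieveCompatible]
    intro T₁ T₂ r s hr
    change ψ (s ≫ r) _ _ _ = s ≫ ψ r _ _ _
    rw [ψ_nat]
    exact ψ_indep _ _ _ _ _ _ _
  obtain ⟨c₀, hc₀, -⟩ := (yoneda_isSheafFor B.left _ hR) fam hcompat
  have hc' : ∀ ⦃T' : Scheme.{u}⦄ (r : T' ⟶ A.left) (i : ι) (a : T' ⟶ X i)
      (ha : a ≫ f i = r ≫ A.hom), r ≫ c₀ = ψ r i a ha := by
    intro T' r i a ha
    have hr : (Sieve.generate (Presieve.ofArrows X f)).pullback A.hom r :=
      ⟨_, a, f i, ⟨i⟩, ha⟩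
    exact (hc₀ r hr).trans (ψ_indep _ _ _ _ _ _ _)
  have hover : c₀ ≫ B.hom = A.hom := by
    refine hom_ext_of_sieve _ hR ?_
    intro T' r hr
    obtain ⟨i, a, ha⟩ := cover_lift _ r hr
    rw [← Category.assoc, hc' r i a ha]
    change (pullback.lift a r ha ≫ (c.hom i).left ≫ pullback.snd (f i) B.hom) ≫ B.hom = _
    have e1 : (c.hom i).left ≫ pullback.fst (f i) B.hom = pullback.fst (f i) A.hom :=
      Over.w (c.hom i)
    rw [Category.assoc, Category.assoc, ← pullback.condition, ← Category.assoc (c.hom i).left,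
      e1, pullback.lift_fst_assoc, ha]
  refine ⟨Over.homMk c₀ hover, ?_⟩
  apply SchDDFam.hom_ext; funext i
  apply Over.OverMorphism.ext
  change pullback.map (f i) A.hom (f i) B.hom (𝟙 _) c₀ (𝟙 S) (by simp) (by simp [hover]) =
    (c.hom i).left
  apply pullback.hom_ext
  · rw [pullback.lift_fst, Category.comp_id]
    exact (Over.w (c.hom i)).symm
  · rw [pullback.lift_snd]
    have key := hc' (pullback.snd (f i) A.hom) i (pullback.fst (f i) A.hom) pullback.condition
    rw [key]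
    change pullback.lift (pullback.fst (f i) A.hom) (pullback.snd (f i) A.hom) _ ≫ _ = _
    have e : pullback.lift (pullback.fst (f i) A.hom) (pullback.snd (f i) A.hom)
        pullback.condition = 𝟙 _ := by apply pullback.hom_ext <;> simp
    rw [e, Category.id_comp]

end toDD

end Groth.Agent.Helper8.DescC
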