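import Mathlib
import Groth.Prelude.Def_Desc
import Groth.Prelude.Def_DescFam
import Groth.Agent.Helper8.DGlue2C
import Groth.Agent.Helper8.DescC

/-!
# Covering morphisms of Mathlib's fpqc precoverage are descent covers

A morphism `p : X ⟶ S` is an `IsFpqcCov` if it is flat, surjective and every affine open of `S` is the
image of a quasi-compact open of `X` (i.e. `{p}` is covering for `Scheme.fpqcPrecoverage`).  Such a
morphism satisfies `DGlue2.IsDescCover`: its base changes are topological quotient maps, `Desc.toDD p`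
is fully faithful, and open immersions descend.
-/

set_option autoImplicit false
universe u

namespace Groth.Agent.Helper8.DGlue2

open CategoryTheory CategoryTheory.Limits AlgebraicGeometry
open Groth.Agent.Helper8.DGlue

variable {X S : Scheme.{u}}

/-- a covering morphism for the fpqc precoverage of Mathlib -/
class IsFpqcCov (p : X ⟶ S) : Prop where
  flat : Flat p
  surj : Surjective p
  qc : QuasiCompactCover (PreZeroHypercover.singleton.{u} p)

namespace IsFpqcCov

variable (p : X ⟶ S)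

lemma exists_affine [hp : IsFpqcCov p] {A : S.Opens} (hA : IsAffineOpen A) :
    ∃ (n : ℕ) (V : Fin n → X.Opens), (∀ k, IsAffineOpen (V k)) ∧
      ⋃ k, p '' (V k : Set X) = (A : Set S) := by
  haveI := hp.qc
  obtain ⟨n, a, V, hV, hU⟩ := QuasiCompactCover.exists_isAffineOpen_of_isCompact
    (PreZeroHypercover.singleton.{u} p) hA.isCompact
  exact ⟨n, V, hV, hU⟩

lemma exists_compact [hp : IsFpqcCov p] {A : S.Opens} (hA : IsAffineOpen A) :
    ∃ V : X.Opens, IsCompact (V : Set X) ∧ p '' (V : Set X) = (A : Set S) := by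
  obtain ⟨n, V, hV, hU⟩ := exists_affine p hA
  refine ⟨⨆ k, V k, ?_, ?_⟩
  · rw [TopologicalSpace.Opens.coe_iSup]
    exact isCompact_iUnion fun k => (hV k).isCompact
  · rw [TopologicalSpace.Opens.coe_iSup, Set.image_iUnion]
    exact hU

instance baseChange [hp : IsFpqcCov p] {S' : Scheme.{u}} (g : S' ⟶ S) :
    IsFpqcCov (pullback.snd p g) where
  flat := haveI := hp.flat; inferInstance
  surj := haveI := hp.surj; inferInstance
  qc := by
    haveI := hp.qc
    exact inferInstanceAs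
      (QuasiCompactCover ((PreZeroHypercover.singleton.{u} p).pullback₂ g))

lemma singleton_mem [hp : IsFpqcCov p] : Presieve.singleton p ∈ Scheme.fpqcPrecoverage S := by
  haveI := hp.qc
  refine ⟨?_, ?_⟩
  · rw [← PreZeroHypercover.presieve₀_singleton.{u}, Scheme.presieve₀_mem_qcPrecoverage_iff]
    infer_instance
  · rw [Scheme.singleton_mem_precoverage_iff]
    exact ⟨hp.surj.surj, hp.flat⟩

lemma of_singleton_mem (h : Presieve.singleton p ∈ Scheme.fpqcPrecoverage S) : IsFpqcCov p := by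
  obtain ⟨h1, h2⟩ := h
  rw [Scheme.singleton_mem_precoverage_iff] at h2
  rw [← PreZeroHypercover.presieve₀_singleton.{u}, Scheme.presieve₀_mem_qcPrecoverage_iff] at h1
  exact ⟨h2.2, ⟨h2.1⟩, h1⟩

section Restrict

variable {p} {A : S.Opens} {V : X.Opens} (hVA : p '' (V : Set X) = (A : Set S))

include hVA in
lemma range_subset : Set.range (V.ι ≫ p) ⊆ Set.range A.ι := by
  rintro _ ⟨z, rfl⟩
  rw [Scheme.Opens.range_ι, ← hVA]
  refine ⟨z.1, z.2, ?_⟩
  rw [Scheme.Hom.comp_apply]
  rfl

/-- the restriction of `p` to `V ⟶ A` -/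
noncomputable def restr : V.toScheme ⟶ A.toScheme :=
  IsOpenImmersion.lift A.ι (V.ι ≫ p) (range_subset hVA)

lemma restr_ι : restr hVA ≫ A.ι = V.ι ≫ p := IsOpenImmersion.lift_fac _ _ _

lemma flat_restr [Flat p] : Flat (restr hVA) := by
  refine MorphismProperty.of_postcomp (W := @Flat) (W' := @IsOpenImmersion) (restr hVA) A.ι
    inferInstance ?_
  rw [restr_ι]
  infer_instance

lemma surjective_restr : Surjective (restr hVA) := by
  refine ⟨fun a => ?_⟩
  have ha : (a.1 : S) ∈ p '' (V : Set X) := by rw [hVA]; exact a.2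
  obtain ⟨x, hxV, hx⟩ := ha
  refine ⟨⟨x, hxV⟩, ?_⟩
  apply A.ι.isOpenEmbedding.injective
  rw [← Scheme.Hom.comp_apply, restr_ι, Scheme.Hom.comp_apply]
  exact hx

lemma quasiCompact_restr (hA : IsAffineOpen A) (hV : IsCompact (V : Set X)) :
    QuasiCompact (restr hVA) := by
  haveI : IsAffine A.toScheme := hA
  haveI : CompactSpace ↥V.toScheme := isCompact_iff_compactSpace.mp hV
  infer_instance

end Restrict

/-- covering morphisms of the fpqc precoverage are topological quotient maps -/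
theorem isQuotientMap [hp : IsFpqcCov p] : Topology.IsQuotientMap p := by
  haveI := hp.flat
  haveI := hp.surj
  rw [Topology.isQuotientMap_iff]
  refine ⟨.of_isOpen_preimage_iff_isOpen fun s =>
    ⟨fun hs => ?_, fun hs => hs.preimage p.continuous⟩, p.surjective⟩
  rw [isOpen_iff_forall_mem_open]
  intro y hy
  obtain ⟨_, ⟨(A : S.Opens), hA, rfl⟩, hyA, -⟩ :=
    S.isBasis_affineOpens.exists_subset_of_mem_open (Set.mem_univ y) isOpen_univ
  replace hA : IsAffineOpen A := hA
  obtain ⟨V, hV, hVA⟩ := exists_compact p hA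
  haveI := flat_restr hVA
  haveI := surjective_restr hVA
  haveI := quasiCompact_restr hVA hA hV
  have hq : Topology.IsQuotientMap (restr hVA) := Flat.isQuotientMap_of_surjective _
  have h1 : IsOpen (A.ι ⁻¹' s) := by
    rw [← hq.isOpen_preimage, ← Set.preimage_comp]
    have e : (A.ι ∘ restr hVA : V.toScheme → S) = p ∘ V.ι := by
      funext z
      show A.ι (restr hVA z) = p (V.ι z)
      rw [← Scheme.Hom.comp_apply, restr_ι, Scheme.Hom.comp_apply]
    rw [e, Set.preimage_comp]
    exact hs.preimage V.ι.continuous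
  refine ⟨A.ι '' (A.ι ⁻¹' s), ?_, A.ι.isOpenEmbedding.isOpenMap _ h1, ?_⟩
  · rintro _ ⟨a, ha, rfl⟩
    exact ha
  · exact ⟨⟨y, hyA⟩, hy, rfl⟩

/-- open immersions descend along covering morphisms of the fpqc precoverage -/
theorem isOpenImmersion_of_isPullback {B C D E : Scheme.{u}} {g' : B ⟶ C} {q' : B ⟶ D}
    {q : C ⟶ E} {g : D ⟶ E} (h : IsPullback g' q' q g) [hq : IsFpqcCov q]
    [IsOpenImmersion g'] : IsOpenImmersion g := by
  haveI := hq.flat
  refine IsZariskiLocalAtTarget.of_iSup_eq_top (P := @IsOpenImmersion)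
    (fun a : E.affineOpens => (a : E.Opens)) (iSup_affineOpens_eq_top E) ?_
  rintro ⟨A, hA⟩
  show IsOpenImmersion (g ∣_ A)
  obtain ⟨V, hV, hVA⟩ := exists_compact q hA
  haveI := flat_restr hVA
  haveI := surjective_restr hVA
  haveI := quasiCompact_restr hVA hA hV
  -- the big rectangle
  have s1 : IsPullback (g' ⁻¹ᵁ V).ι (g' ∣_ V) g' V.ι := (isPullback_morphismRestrict g' V).flip
  have s2 : IsPullback ((g' ⁻¹ᵁ V).ι ≫ q') (g' ∣_ V) g (V.ι ≫ q) := s1.paste_horiz h.flip
  have t : IsPullback (g ⁻¹ᵁ A).ι (g ∣_ A) g A.ι := (isPullback_morphismRestrict g A).flip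
  have hr : Set.range ((g' ⁻¹ᵁ V).ι ≫ q') ⊆ Set.range (g ⁻¹ᵁ A).ι := by
    rintro _ ⟨z, rfl⟩
    rw [Scheme.Opens.range_ι]
    show g (((g' ⁻¹ᵁ V).ι ≫ q') z) ∈ A
    have e : g (((g' ⁻¹ᵁ V).ι ≫ q') z) = q (g' ((g' ⁻¹ᵁ V).ι z)) := by
      rw [← Scheme.Hom.comp_apply, ← Scheme.Hom.comp_apply, ← Scheme.Hom.comp_apply,
        Category.assoc, ← h.w]
    rw [e]
    have hz : g' ((g' ⁻¹ᵁ V).ι z) ∈ V := z.2
    have : q (g' ((g' ⁻¹ᵁ V).ι z)) ∈ q '' (V : Set C) := ⟨_, hz, rfl⟩
    rw [hVA] at this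
    exact this
  let k : (g' ⁻¹ᵁ V).toScheme ⟶ (g ⁻¹ᵁ A).toScheme :=
    IsOpenImmersion.lift (g ⁻¹ᵁ A).ι ((g' ⁻¹ᵁ V).ι ≫ q') hr
  have hk : k ≫ (g ⁻¹ᵁ A).ι = (g' ⁻¹ᵁ V).ι ≫ q' := IsOpenImmersion.lift_fac _ _ _
  have s3 : IsPullback (k ≫ (g ⁻¹ᵁ A).ι) (g' ∣_ V) g (restr hVA ≫ A.ι) := by
    rw [hk, restr_ι]
    exact s2
  have hcomm : k ≫ (g ∣_ A) = (g' ∣_ V) ≫ restr hVA := by
    rw [← cancel_mono A.ι, Category.assoc, Category.assoc, ← t.w, ← Category.assoc, hk,
      restr_ι, Category.assoc, ← h.w, ← Category.assoc, ← Category.assoc, s1.w]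
  have s4 : IsPullback k (g' ∣_ V) (g ∣_ A) (restr hVA) := IsPullback.of_right s3 hcomm t
  have hQ : (@Surjective ⊓ @Flat ⊓ @QuasiCompact : MorphismProperty Scheme.{u}) (restr hVA) :=
    ⟨⟨inferInstance, inferInstance⟩, inferInstance⟩
  haveI : IsOpenImmersion (g' ∣_ V) := IsZariskiLocalAtTarget.restrict (P := @IsOpenImmersion)
    inferInstance V
  exact MorphismProperty.DescendsAlong.of_isPullback (P := @IsOpenImmersion) s4.flip hQ
    (inferInstance : IsOpenImmersion (g' ∣_ V))

end IsFpqcCov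

open Desc in
/-- covering morphisms of the fpqc precoverage are descent covers -/
instance (priority := 80) isDescCover_of_isFpqcCov (p : X ⟶ S) [hp : IsFpqcCov p] :
    IsDescCover p where
  surj := hp.surj
  quot U := IsFpqcCov.isQuotientMap (pullback.snd p U.hom)
  full := by
    have hmem : Presieve.ofArrows (fun _ : PUnit.{u + 1} => X) (fun _ => p) ∈
        Scheme.fpqcPrecoverage S := by
      rw [Presieve.ofArrows_pUnit]
      exact IsFpqcCov.singleton_mem p
    haveI := Groth.Agent.Helper8.DescC.toDDFam_full (fun _ : PUnit.{u + 1} => p) hmem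
    haveI : (SchDDFam.toSchDD.{u} p).Full := (SchDDFam.oneEquiv.{u} p).fullyFaithfulFunctor.full
    rw [← toDDFam_comp_toSchDD.{u} p]
    infer_instance
  faithful := by
    have hmem : Presieve.ofArrows (fun _ : PUnit.{u + 1} => X) (fun _ => p) ∈
        Scheme.fpqcPrecoverage S := by
      rw [Presieve.ofArrows_pUnit]
      exact IsFpqcCov.singleton_mem p
    haveI := Groth.Agent.Helper8.DescC.toDDFam_faithful (fun _ : PUnit.{u + 1} => p) hmem
    haveI : (SchDDFam.toSchDD.{u} p).Faithful :=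
      (SchDDFam.oneEquiv.{u} p).fullyFaithfulFunctor.faithful
    rw [← toDDFam_comp_toSchDD.{u} p]
    infer_instance
  descOI {U U'} g hg := by
    exact @IsFpqcCov.isOpenImmersion_of_isPullback _ _ _ _ _ _ _ _ (isPullback_toDD_map p g)
      (IsFpqcCov.baseChange p U'.hom) hg

end Groth.Agent.Helper8.DGlue2
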