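import Mathlib
import Groth.Prelude
import Groth.Agent.Helper8.DHomC
import Groth.Agent.Helper8.FpqcCover

/-!
# Properties of base changes of a morphism of `S`-schemes

`BCP P u g` says that the base change of `u : G ⟶ H` along `g : Z ⟶ S` has the property `P`.
We record its behaviour under composition, conjugation by isomorphisms, fpqc descent, Zariski
localisation and passage to residue fields.
-/

set_option autoImplicit false
set_option linter.unusedSectionVars false
set_option linter.style.haveILetI false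
set_option linter.unusedVariables false

universe u

open CategoryTheory CategoryTheory.Limits MonoidalCategory CartesianMonoidalCategory MonObj
  AlgebraicGeometry

noncomputable section

namespace Groth.Agent.Helper8.DHomE

open Groth.Agent.Helper8.DHomC

section BCP

variable (P : MorphismProperty Scheme.{u}) {S : Scheme.{u}} {G H : Over S} (u : G ⟶ H)

/-- the base change of `u` along `g` has the property `P` -/
def BCP {Z : Scheme.{u}} (g : Z ⟶ S) : Prop := P ((Over.pullback g).map u).left

theorem BCP_iff {Z : Scheme.{u}} (g : Z ⟶ S) :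
    BCP P u g ↔ P ((Over.pullback g).map u).left := Iff.rfl

theorem isIso_left_of_isIso {A B : Over S} (f : A ⟶ B) [IsIso f] : IsIso f.left :=
  inferInstanceAs (IsIso ((Over.forget S).map f))

theorem BCP_comp [P.RespectsIso] {Z Z' : Scheme.{u}} (g : Z ⟶ S) (h : Z' ⟶ Z) :
    BCP P u (h ≫ g) ↔ BCP P ((Over.pullback g).map u) h := by
  have nat := (Over.pullbackComp h g).hom.naturality u
  have natl := congrArg (fun z => z.left) nat
  simp only [Over.comp_left, Functor.comp_map] at natl
  haveI : IsIso ((Over.pullbackComp h g).hom.app H).left := isIso_left_of_isIso _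
  haveI : IsIso ((Over.pullbackComp h g).hom.app G).left := isIso_left_of_isIso _
  unfold BCP
  rw [← P.cancel_right_of_respectsIso _ ((Over.pullbackComp h g).hom.app H).left, natl,
    P.cancel_left_of_respectsIso]

theorem BCP_conj [P.RespectsIso] {G' H' : Over S} (eG : G' ≅ G) (eH : H ≅ H')
    {Z : Scheme.{u}} (g : Z ⟶ S) :
    BCP P (eG.hom ≫ u ≫ eH.hom) g ↔ BCP P u g := by
  unfold BCP
  haveI : IsIso ((Over.pullback g).map eG.hom).left := isIso_left_of_isIso _
  haveI : IsIso ((Over.pullback g).map eH.hom).left := isIso_left_of_isIso _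
  rw [Functor.map_comp, Functor.map_comp, Over.comp_left, Over.comp_left,
    P.cancel_left_of_respectsIso, P.cancel_right_of_respectsIso]

theorem BCP_of_comp [P.RespectsIso] [P.IsStableUnderBaseChange] {Z Z' : Scheme.{u}}
    (g : Z ⟶ S) (h : Z' ⟶ Z) (hg : BCP P u g) : BCP P u (h ≫ g) :=
  (BCP_comp P u g h).mpr (prop_map_left h _ P hg)

theorem BCP_descend [P.RespectsIso] (Q : MorphismProperty Scheme.{u}) [P.DescendsAlong Q]
    [Q.IsStableUnderBaseChange] {Z Z' : Scheme.{u}} (g : Z ⟶ S) (h : Z' ⟶ Z) (hQ : Q h)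
    (hh : BCP P u (h ≫ g)) : BCP P u g := by
  have h1 := (BCP_comp P u g h).mp hh
  exact MorphismProperty.of_isPullback_of_descendsAlong (P := P) (Q := Q)
    (isPullback_map_left h ((Over.pullback g).map u)).flip
    (Q.pullback_fst _ _ hQ) h1

theorem BCP_of_openCover [IsZariskiLocalAtTarget P] {Z : Scheme.{u}} (z : Z ⟶ S)
    (𝒲 : Z.OpenCover) (h : ∀ i, BCP P u (𝒲.f i ≫ z)) : BCP P u z := by
  unfold BCP
  apply IsZariskiLocalAtTarget.of_openCover (P := P)
    (𝒰 := 𝒲.pullback₁ ((Over.pullback z).obj H).hom)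
  intro i
  have sq := isPullback_map_left (𝒲.f i) ((Over.pullback z).map u)
  have hi : P ((Over.pullback (𝒲.f i)).map ((Over.pullback z).map u)).left :=
    (BCP_comp P u z (𝒲.f i)).mp (h i)
  rw [← sq.isoPullback_hom_snd, P.cancel_left_of_respectsIso] at hi
  exact hi

end BCP

section Field

theorem fpqc_of_fields {K L : Type u} [Field K] [Field L] (φ : K →+* L) :
    (@Surjective ⊓ @Flat ⊓ @QuasiCompact : MorphismProperty Scheme.{u})
      (Spec.map (CommRingCat.ofHom φ)) := by
  refine ⟨⟨?_, ?_⟩, inferInstance⟩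
  · refine ⟨fun x => ?_⟩
    haveI : Subsingleton (PrimeSpectrum K) := inferInstance
    exact ⟨(⊥ : PrimeSpectrum L), Subsingleton.elim (α := PrimeSpectrum K) _ _⟩
  · rw [HasRingHomProperty.Spec_iff (P := @Flat), CommRingCat.hom_ofHom]
    letI := φ.toAlgebra
    change Module.Flat K L
    infer_instance

variable (P : MorphismProperty Scheme.{u}) {S : Scheme.{u}} {G H : Over S} (u : G ⟶ H)

theorem BCP_fibre_iff [P.RespectsIso] [P.IsStableUnderBaseChange]
    [P.DescendsAlong (@Surjective ⊓ @Flat ⊓ @QuasiCompact)] {Y : Scheme.{u}} (q : Y ⟶ S) (y : Y) :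
    BCP P u (Y.fromSpecResidueField y ≫ q) ↔ BCP P u (S.fromSpecResidueField (q y)) := by
  rw [← Scheme.Hom.SpecMap_residueFieldMap_fromSpecResidueField]
  constructor
  · intro h
    refine BCP_descend P u (@Surjective ⊓ @Flat ⊓ @QuasiCompact) _ _ ?_ h
    exact fpqc_of_fields (q.residueFieldMap y).hom
  · intro h
    exact BCP_of_comp P u _ _ h

end Field

section Fpqc

open Groth.Agent.Helper8.DGlue2

variable {X Y S : Scheme.{u}}

theorem isFpqcCov_of_compact (q : X ⟶ S) (hf : Flat q) (hs : Surjective q)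
    (h : ∀ V : S.Opens, IsAffineOpen V →
      ∃ W : X.Opens, IsCompact (W : Set X) ∧ q.base '' (W : Set X) = (V : Set S)) :
    IsFpqcCov q := by
  refine ⟨hf, hs, ⟨fun {V} hV => ?_⟩⟩
  rw [IsCompactOpenCovered.iff_of_unique]
  exact h V hV

theorem isFpqcCov_comp (p : X ⟶ Y) (p' : Y ⟶ S) [hp : IsFpqcCov p] [hp' : IsFpqcCov p'] :
    IsFpqcCov (p ≫ p') := by
  haveI := hp.flat
  haveI := hp'.flat
  haveI := hp.surj
  haveI := hp'.surj
  refine isFpqcCov_of_compact _ inferInstance inferInstance ?_
  intro A hA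
  obtain ⟨n, V, hV, hVA⟩ := IsFpqcCov.exists_affine p' hA
  have h2 : ∀ k, ∃ W : X.Opens, IsCompact (W : Set X) ∧ p '' (W : Set X) = (V k : Set Y) :=
    fun k => IsFpqcCov.exists_compact p (hV k)
  choose W hWc hW using h2
  refine ⟨⨆ k, W k, ?_, ?_⟩
  · rw [TopologicalSpace.Opens.coe_iSup]
    exact isCompact_iUnion fun k => hWc k
  · rw [TopologicalSpace.Opens.coe_iSup, ← hVA]
    ext s
    simp only [Set.mem_image, Set.mem_iUnion]
    constructor
    · rintro ⟨x, ⟨k, hx⟩, rfl⟩
      refine ⟨k, p x, ?_, rfl⟩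
      rw [← hW k]
      exact ⟨x, hx, rfl⟩
    · rintro ⟨k, y, hy, rfl⟩
      rw [← hW k] at hy
      obtain ⟨x, hx, rfl⟩ := hy
      exact ⟨x, ⟨k, hx⟩, rfl⟩

end Fpqc

end Groth.Agent.Helper8.DHomE
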