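import Mathlib
import Groth.Prelude
import Groth.Agent.Helper8.DHomB
import Groth.Agent.Helper8.DHomC
import Groth.Agent.Helper8.DHomD
import Groth.Agent.Helper8.DHomE

/-!
# Fibrewise properties of homomorphisms of groups of multiplicative type

For a homomorphism `u : G ⟶ H` of `S`-groups which are fpqc-locally diagonalisable (`H` of finite
type), and a property `P` of morphisms which, for the homomorphisms `D(φ)`, is decided by a
condition on `φ`, the set of points `s` such that `u_s` has `P` is open and closed, and `u` has `P`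
over it.
-/

set_option autoImplicit false
set_option linter.unusedSectionVars false
set_option linter.style.haveILetI false
set_option linter.unusedVariables false

universe u

open CategoryTheory CategoryTheory.Limits MonoidalCategory CartesianMonoidalCategory MonObj
  AlgebraicGeometry

noncomputable section

namespace Groth.Agent.Helper8.DHomF

open Groth.Agent.Helper8.DHomB Groth.Agent.Helper8.DHomC Groth.Agent.Helper8.DHomD
  Groth.Agent.Helper8.DHomE Groth.Agent.Helper8.DGlue2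

/-- a criterion deciding the property `P` for the homomorphisms `D(φ)` -/
structure Crit (P : MorphismProperty Scheme.{u}) where
  /-- the condition on `φ` -/
  C : ∀ {M N : Type} [AddCommGroup M] [AddCommGroup N], (N →+ M) → Prop
  fw : ∀ {Z : Scheme.{u}} {M N : Type} [AddCommGroup M] [AddCommGroup N] (φ : N →+ M), C φ →
    ∀ {Z' : Scheme.{u}} (g : Z' ⟶ Z), P ((Over.pullback g).map (Red.DSmap Z φ)).left
  bw : ∀ {Z : Scheme.{u}} {M N : Type} [AddCommGroup M] [AddCommGroup N] (φ : N →+ M)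
    (k : Type u) [Field k] (g : Spec (CommRingCat.of k) ⟶ Z),
    P ((Over.pullback g).map (Red.DSmap Z φ)).left → C φ

/-- monomorphisms are detected by surjectivity -/
def critMono : Crit (MorphismProperty.monomorphisms Scheme.{u}) where
  C φ := Function.Surjective φ
  fw φ hφ _ g := mono_of_surjective φ hφ g
  bw φ k _ g h := surjective_of_mono φ k g h

/-- isomorphisms are detected by bijectivity -/
def critIso : Crit (MorphismProperty.isomorphisms Scheme.{u}) where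
  C φ := Function.Bijective φ
  fw φ hφ _ g := isIso_of_bijective φ hφ g
  bw φ k _ g h := bijective_of_isIso φ k g h

/-- faithful flatness is detected by injectivity -/
def critFF : Crit (@Flat ⊓ @Surjective : MorphismProperty Scheme.{u}) where
  C φ := Function.Injective φ
  fw φ hφ _ g := flat_surjective_of_injective φ hφ g
  bw φ k _ g h := injective_of_flat_surjective φ k g h

section Dich

variable (P : MorphismProperty Scheme.{u}) {S : Scheme.{u}} {G H : Over S} (u : G ⟶ H)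

/-- around `y`, either `u` has `P` or no fibre of `u` has `P` -/
def Dich {Y : Scheme.{u}} (q : Y ⟶ S) (y : Y) : Prop :=
  ∃ (N : Scheme.{u}) (j : N ⟶ Y), IsOpenImmersion j ∧ y ∈ Set.range j ∧
    (BCP P u (j ≫ q) ∨
      ∀ (K : Type u) [Field K] (g : Spec (CommRingCat.of K) ⟶ N), ¬ BCP P u (g ≫ j ≫ q))

variable [GrpObj G] [GrpObj H] [IsMonHom u]

theorem dich_of_split (cr : Crit P) [P.RespectsIso] {Y : Scheme.{u}} (q : Y ⟶ S)
    (M N : Type) [AddCommGroup M] [AddCommGroup N] [AddGroup.FG N]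
    (eG : Grp.mk (Red.bc q G) ≅ Grp.mk (Red.DS Y M))
    (eH : Grp.mk (Red.bc q H) ≅ Grp.mk (Red.DS Y N)) (y : Y) : Dich P u q y := by
  let iG := overIso eG
  let iH := overIso eH
  haveI : IsMonHom ((Over.pullback q).map u) := inferInstance
  let u' : Red.DS Y M ⟶ Red.DS Y N := iG.inv ≫ (Over.pullback q).map u ≫ iH.hom
  haveI : IsMonHom u' := inferInstance
  obtain ⟨W, φ, hyW, hW⟩ := local_eq u' y
  refine ⟨W, W.ι, inferInstance, ⟨⟨y, hyW⟩, rfl⟩, ?_⟩
  have key : ∀ {Z' : Scheme.{u}} (g₀ : Z' ⟶ (W : Scheme.{u})),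
      BCP P u (g₀ ≫ W.ι ≫ q) ↔ BCP P (Red.DSmap Y φ) (g₀ ≫ W.ι) := by
    intro Z' g₀
    rw [← Category.assoc, BCP_comp P u q (g₀ ≫ W.ι),
      ← BCP_conj P ((Over.pullback q).map u) iG.symm iH (g₀ ≫ W.ι)]
    change BCP P u' (g₀ ≫ W.ι) ↔ _
    rw [BCP_comp P u' W.ι g₀, hW, ← BCP_comp P (Red.DSmap Y φ) W.ι g₀]
  by_cases hC : cr.C φ
  · left
    have h1 := (key (𝟙 _)).mpr (cr.fw φ hC _)
    rwa [Category.id_comp] at h1
  · right
    intro K _ g hg
    exact hC (cr.bw φ K (g ≫ W.ι) ((key g).mp hg))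

end Dich

section Locus

variable (P : MorphismProperty Scheme.{u}) [P.RespectsIso] [P.IsStableUnderBaseChange]
  [P.DescendsAlong (@Surjective ⊓ @Flat ⊓ @QuasiCompact)]
  {S : Scheme.{u}} {G H : Over S} (u : G ⟶ H)

/-- the set of points whose fibre has `P` -/
def locus : Set S := {s | BCP P u (S.fromSpecResidueField s)}

theorem mem_locus_of_BCP {Y : Scheme.{u}} (q : Y ⟶ S) (h : BCP P u q) (y : Y) :
    q y ∈ locus P u := by
  have h1 := BCP_of_comp P u q (Y.fromSpecResidueField y) h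
  rwa [BCP_fibre_iff P u q y] at h1

theorem dich_nbhd {Y : Scheme.{u}} (q : Y ⟶ S) (y : Y) (hd : Dich P u q y) :
    ∃ N : Set Y, IsOpen N ∧ y ∈ N ∧ (N ⊆ q ⁻¹' locus P u ∨ N ∩ q ⁻¹' locus P u = ∅) := by
  obtain ⟨N, j, hj, hy, h⟩ := hd
  refine ⟨Set.range j, j.isOpenEmbedding.isOpen_range, hy, ?_⟩
  rcases h with h | h
  · left
    rintro _ ⟨x, rfl⟩
    have := mem_locus_of_BCP P u (j ≫ q) h x
    rwa [Scheme.Hom.comp_apply] at this
  · right
    rw [Set.eq_empty_iff_forall_notMem]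
    rintro _ ⟨⟨x, rfl⟩, hx⟩
    have hx' : BCP P u (S.fromSpecResidueField ((j ≫ q) x)) := by
      rw [Scheme.Hom.comp_apply]; exact hx
    exact h (N.residueField x) (N.fromSpecResidueField x)
      ((BCP_fibre_iff P u (j ≫ q) x).mpr hx')

theorem dich_pos {Y : Scheme.{u}} (q : Y ⟶ S) (y : Y) (hd : Dich P u q y)
    (hy : q y ∈ locus P u) :
    ∃ (N : Scheme.{u}) (j : N ⟶ Y), IsOpenImmersion j ∧ y ∈ Set.range j ∧ BCP P u (j ≫ q) := by
  obtain ⟨N, j, hj, ⟨x, rfl⟩, h⟩ := hd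
  refine ⟨N, j, hj, ⟨x, rfl⟩, ?_⟩
  rcases h with h | h
  · exact h
  · exfalso
    have hx' : BCP P u (S.fromSpecResidueField ((j ≫ q) x)) := by
      rw [Scheme.Hom.comp_apply]; exact hy
    exact h (N.residueField x) (N.fromSpecResidueField x)
      ((BCP_fibre_iff P u (j ≫ q) x).mpr hx')

theorem dich_of_open {Y : Scheme.{u}} (q : Y ⟶ S) (Y' : Y.Opens) (y : Y')
    (hd : Dich P u (Y'.ι ≫ q) y) : Dich P u q (Y'.ι y) := by
  obtain ⟨N, j, hj, ⟨x, hx⟩, h⟩ := hd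
  haveI := hj
  refine ⟨N, j ≫ Y'.ι, inferInstance, ⟨x, by rw [Scheme.Hom.comp_apply, hx]⟩, ?_⟩
  rcases h with h | h
  · left
    rwa [Category.assoc]
  · right
    intro K _ g
    rw [Category.assoc]
    exact h K g

end Locus

theorem isClopen_of_locally {Y : Type*} [TopologicalSpace Y] (A : Set Y)
    (h : ∀ y, ∃ N : Set Y, IsOpen N ∧ y ∈ N ∧ (N ⊆ A ∨ N ∩ A = ∅)) : IsClopen A := by
  constructor
  · rw [← isOpen_compl_iff, isOpen_iff_forall_mem_open]
    intro y hy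
    obtain ⟨N, hN, hyN, h1 | h1⟩ := h y
    · exact absurd (h1 hyN) hy
    · refine ⟨N, ?_, hN, hyN⟩
      intro z hz hzA
      have : z ∈ N ∩ A := ⟨hz, hzA⟩
      rw [h1] at this
      exact this
  · rw [isOpen_iff_forall_mem_open]
    intro y hy
    obtain ⟨N, hN, hyN, h1 | h1⟩ := h y
    · exact ⟨N, h1, hN, hyN⟩
    · have : y ∈ N ∩ A := ⟨hyN, hy⟩
      rw [h1] at this
      exact absurd this (Set.notMem_empty y)

section Main

variable (P : MorphismProperty Scheme.{u}) [P.IsStableUnderBaseChange]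
  [P.DescendsAlong (@Surjective ⊓ @Flat ⊓ @QuasiCompact)] [IsZariskiLocalAtTarget P]
  {S : Scheme.{u}} {G H : Over S} [GrpObj G] [GrpObj H] (u : G ⟶ H) [IsMonHom u]

/-- the local triviality hypothesis on the source -/
def LocTriv (G : Over S) [GrpObj G] : Prop :=
  ∃ (S' : Scheme.{u}) (f : S' ⟶ S), Flat f ∧ Surjective f ∧
    (∀ V : S.Opens, IsAffineOpen V →
      ∃ W : S'.Opens, IsCompact (W : Set S') ∧ f.base '' (W : Set S') = (V : Set S)) ∧
    ∀ s' : S', ∃ U : S'.Opens, s' ∈ U ∧ ∃ (M : Type) (_ : AddCommGroup M),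
      Nonempty (Grp.mk (Red.bc (U.ι ≫ f) G) ≅ Grp.mk (Red.DS (U : Scheme.{u}) M))

theorem locTriv_of_multTypeFT (G : Over S) [GrpObj G] (hG : SGA3x.IsMultTypeFT G) :
    LocTriv G := by
  obtain ⟨S', f, h1, h2, h3, h4⟩ := hG
  refine ⟨S', f, h1, h2, h3, fun s' => ?_⟩
  obtain ⟨U, hU, M, i, -, e⟩ := h4 s'
  exact ⟨U, hU, M, i, e⟩

/-- the common refinement of the two trivialising covers, with the dichotomy at every point -/
theorem exists_cover (cr : Crit P) (hG : LocTriv G) (hH : SGA3x.IsMultTypeFT H) :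
    ∃ (Y : Scheme.{u}) (q : Y ⟶ S), IsFpqcCov q ∧ ∀ y : Y, Dich P u q y := by
  obtain ⟨S₁, f₁, hf₁, hs₁, hc₁, hG⟩ := hG
  obtain ⟨S₂, f₂, hf₂, hs₂, hc₂, hH⟩ := hH
  haveI c₁ : IsFpqcCov f₁ := isFpqcCov_of_compact f₁ hf₁ hs₁ hc₁
  haveI c₂ : IsFpqcCov f₂ := isFpqcCov_of_compact f₂ hf₂ hs₂ hc₂
  let Y := pullback f₂ f₁
  let pr₁ : Y ⟶ S₂ := pullback.fst f₂ f₁
  let pr₂ : Y ⟶ S₁ := pullback.snd f₂ f₁
  haveI : IsFpqcCov pr₂ := inferInstanceAs (IsFpqcCov (pullback.snd f₂ f₁))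
  let q : Y ⟶ S := pr₂ ≫ f₁
  have hq : pr₁ ≫ f₂ = q := pullback.condition
  refine ⟨Y, q, isFpqcCov_comp pr₂ f₁, fun y => ?_⟩
  obtain ⟨U₁, hx₁, M, _, ⟨eG⟩⟩ := hG (pr₂ y)
  obtain ⟨U₂, hx₂, N, _, hN, ⟨eH⟩⟩ := hH (pr₁ y)
  haveI := hN
  let Y' : Y.Opens := pr₂ ⁻¹ᵁ U₁ ⊓ pr₁ ⁻¹ᵁ U₂
  have hy : y ∈ Y' := ⟨hx₁, hx₂⟩
  have hr₁ : Set.range (Y'.ι ≫ pr₂) ⊆ Set.range U₁.ι := by
    rintro _ ⟨z, rfl⟩
    rw [Scheme.Opens.range_ι, Scheme.Hom.comp_apply]
    exact z.2.1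
  have hr₂ : Set.range (Y'.ι ≫ pr₁) ⊆ Set.range U₂.ι := by
    rintro _ ⟨z, rfl⟩
    rw [Scheme.Opens.range_ι, Scheme.Hom.comp_apply]
    exact z.2.2
  let r₁ : (Y' : Scheme.{u}) ⟶ (U₁ : Scheme.{u}) := IsOpenImmersion.lift U₁.ι (Y'.ι ≫ pr₂) hr₁
  let r₂ : (Y' : Scheme.{u}) ⟶ (U₂ : Scheme.{u}) := IsOpenImmersion.lift U₂.ι (Y'.ι ≫ pr₁) hr₂
  have h₁ : r₁ ≫ U₁.ι ≫ f₁ = Y'.ι ≫ q := by
    rw [← Category.assoc, IsOpenImmersion.lift_fac, Category.assoc]
  have h₂ : r₂ ≫ U₂.ι ≫ f₂ = Y'.ι ≫ q := by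
    rw [← Category.assoc, IsOpenImmersion.lift_fac, Category.assoc, hq]
  obtain ⟨eG'⟩ := restrict_triv (U₁.ι ≫ f₁) r₁ (Y'.ι ≫ q) h₁ G M ⟨eG⟩
  obtain ⟨eH'⟩ := restrict_triv (U₂.ι ≫ f₂) r₂ (Y'.ι ≫ q) h₂ H N ⟨eH⟩
  exact dich_of_open P u q Y' ⟨y, hy⟩ (dich_of_split P u cr (Y'.ι ≫ q) M N eG' eH' ⟨y, hy⟩)

/-- `P` holds over affine opens inside the locus -/
theorem BCP_affine {Y : Scheme.{u}} (q : Y ⟶ S) [hq : IsFpqcCov q]
    (hd : ∀ y : Y, Dich P u q y) (A : S.Opens) (hA : IsAffineOpen A)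
    (hAF : (A : Set S) ⊆ locus P u) : BCP P u A.ι := by
  haveI := hq.flat
  obtain ⟨V, hVc, hVA⟩ := IsFpqcCov.exists_compact q hA
  haveI := IsFpqcCov.flat_restr hVA
  refine BCP_descend P u (@Surjective ⊓ @Flat ⊓ @QuasiCompact) A.ι (IsFpqcCov.restr hVA)
    ⟨⟨IsFpqcCov.surjective_restr hVA, IsFpqcCov.flat_restr hVA⟩,
      IsFpqcCov.quasiCompact_restr hVA hA hVc⟩ ?_
  rw [IsFpqcCov.restr_ι]
  -- Zariski localisation on `V`
  have hpos : ∀ v : V, ∃ (N : Scheme.{u}) (j : N ⟶ Y), IsOpenImmersion j ∧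
      V.ι v ∈ Set.range j ∧ BCP P u (j ≫ q) := by
    intro v
    refine dich_pos P u q (V.ι v) (hd _) (hAF ?_)
    rw [← hVA]
    exact ⟨v.1, v.2, rfl⟩
  choose N j hj hv hN using hpos
  haveI := hj
  let 𝒲 : (V : Scheme.{u}).OpenCover :=
    Scheme.Cover.mkOfCovers (V : Scheme.{u}) (fun v => pullback V.ι (j v))
      (fun v => pullback.fst V.ι (j v)) (fun v => by
        obtain ⟨x, hx⟩ := hv v
        obtain ⟨z, hz1, -⟩ := Scheme.Pullback.exists_preimage_pullback (f := V.ι) (g := j v) v x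
          hx.symm
        exact ⟨v, z, hz1⟩) (fun v => inferInstance)
  apply BCP_of_openCover P u (V.ι ≫ q) 𝒲
  intro v
  change BCP P u (pullback.fst V.ι (j v) ≫ V.ι ≫ q)
  rw [← Category.assoc, pullback.condition, Category.assoc]
  exact BCP_of_comp P u _ _ (hN v)

/-- **Main theorem.** -/
theorem main (cr : Crit P) (hG : LocTriv G) (hH : SGA3x.IsMultTypeFT H) :
    ∃ U : S.Opens, IsClosed (U : Set S) ∧
      (∀ s : S, s ∈ U ↔ BCP P u (S.fromSpecResidueField s)) ∧ BCP P u U.ι := by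
  obtain ⟨Y, q, hq, hd⟩ := exists_cover P u cr hG hH
  haveI := hq
  have hcl : IsClopen (q ⁻¹' locus P u) :=
    isClopen_of_locally _ fun y => dich_nbhd P u q y (hd y)
  have hquot : Topology.IsQuotientMap q := IsFpqcCov.isQuotientMap q
  have hopen : IsOpen (locus P u) := hquot.isOpen_preimage.mp hcl.2
  have hclosed : IsClosed (locus P u) := hquot.isClosed_preimage.mp hcl.1
  let U : S.Opens := ⟨locus P u, hopen⟩
  refine ⟨U, hclosed, fun s => Iff.rfl, ?_⟩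
  apply BCP_of_openCover P u U.ι (U : Scheme.{u}).affineCover
  intro i
  let jj : (U : Scheme.{u}).affineCover.X i ⟶ S := (U : Scheme.{u}).affineCover.f i ≫ U.ι
  let A : S.Opens := jj.opensRange
  have hA : IsAffineOpen A := isAffineOpen_opensRange jj
  have hAF : (A : Set S) ⊆ locus P u := by
    rintro _ ⟨x, rfl⟩
    change (U.ι ((U : Scheme.{u}).affineCover.f i x)) ∈ locus P u
    exact ((U : Scheme.{u}).affineCover.f i x).2
  have h1 := BCP_affine P u q hd A hA hAF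
  have hr : Set.range jj ⊆ Set.range A.ι := by
    rw [Scheme.Opens.range_ι]
    rfl
  have h2 := BCP_of_comp P u A.ι (IsOpenImmersion.lift A.ι jj hr) h1
  rwa [IsOpenImmersion.lift_fac] at h2

end Main

end Groth.Agent.Helper8.DHomF
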