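import Mathlib
import Groth.Prelude
import Groth.Agent.Helper8.DHomF

/-!
# Open and closed loci for homomorphisms of groups of multiplicative type
-/

set_option autoImplicit false
set_option linter.unusedSectionVars false
set_option linter.style.haveILetI false
set_option linter.unusedVariables false

universe u

open CategoryTheory CategoryTheory.Limits MonoidalCategory CartesianMonoidalCategory MonObj
  AlgebraicGeometry MorphismProperty

noncomputable section

namespace Groth.Agent.Helper8.DHomG

open Groth.Agent.Helper8.DHomE Groth.Agent.Helper8.DHomF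

theorem flat_codescendsAlong_faithfullyFlat :
    RingHom.CodescendsAlong RingHom.Flat RingHom.FaithfullyFlat := by
  refine .mk _ RingHom.Flat.respectsIso fun R S T _ _ _ _ _ h h' ↦ ?_
  rw [RingHom.flat_algebraMap_iff] at h' ⊢
  rw [RingHom.faithfullyFlat_algebraMap_iff] at h
  exact Module.Flat.of_flat_tensorProduct R T S

theorem flat_descendsAlong :
    DescendsAlong (@Flat : MorphismProperty Scheme.{u}) (@Surjective ⊓ @Flat ⊓ @QuasiCompact) :=
  HasRingHomProperty.descendsAlong_flat flat_codescendsAlong_faithfullyFlat

theorem mono_descendsAlong :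
    (monomorphisms Scheme.{u}).DescendsAlong (@Surjective ⊓ @Flat ⊓ @QuasiCompact) := by
  rw [← MorphismProperty.diagonal_isomorphisms]
  infer_instance

variable {S : Scheme.{u}} (G H : Over S) [GrpObj G] [GrpObj H]

theorem mono_locus (hG : LocTriv G) (hH : SGA3x.IsMultTypeFT H) (u : G ⟶ H) [IsMonHom u] :
    ∃ U : S.Opens, IsClosed (U : Set S) ∧
      (∀ s : S, s ∈ U ↔ Mono ((Over.pullback (S.fromSpecResidueField s)).map u).left) ∧
      Mono ((Over.pullback U.ι).map u).left := by
  haveI := mono_descendsAlong.{u}
  exact main (monomorphisms Scheme.{u}) u critMono hG hH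

theorem iso_locus (hG : LocTriv G) (hH : SGA3x.IsMultTypeFT H) (u : G ⟶ H) [IsMonHom u] :
    ∃ U : S.Opens, IsClosed (U : Set S) ∧
      (∀ s : S, s ∈ U ↔ IsIso ((Over.pullback (S.fromSpecResidueField s)).map u).left) ∧
      IsIso ((Over.pullback U.ι).map u).left :=
  main (isomorphisms Scheme.{u}) u critIso hG hH

theorem ff_locus (hG : LocTriv G) (hH : SGA3x.IsMultTypeFT H) (u : G ⟶ H) [IsMonHom u] :
    ∃ U : S.Opens, IsClosed (U : Set S) ∧
      (∀ s : S, s ∈ U ↔ (Flat ((Over.pullback (S.fromSpecResidueField s)).map u).left ∧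
        Surjective ((Over.pullback (S.fromSpecResidueField s)).map u).left)) ∧
      (Flat ((Over.pullback U.ι).map u).left ∧ Surjective ((Over.pullback U.ι).map u).left) := by
  haveI := flat_descendsAlong.{u}
  exact main (@Flat ⊓ @Surjective : MorphismProperty Scheme.{u}) u critFF hG hH

end Groth.Agent.Helper8.DHomG
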