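import Mathlib
import Groth.Prelude
import Groth.Agent.Helper8.DHomG

/-!
# A monomorphism of tori of the same rank is an isomorphism
-/

set_option autoImplicit false
set_option linter.unusedSectionVars false
set_option linter.style.haveILetI false
set_option linter.unusedVariables false

universe u

open CategoryTheory CategoryTheory.Limits MonoidalCategory CartesianMonoidalCategory MonObj
  AlgebraicGeometry MorphismProperty

noncomputable section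

namespace Groth.Agent.Helper8.DHomH

open Groth.Agent.Helper8.DHomB Groth.Agent.Helper8.DHomC Groth.Agent.Helper8.DHomD
  Groth.Agent.Helper8.DHomE Groth.Agent.Helper8.DHomF Groth.Agent.Helper8.DGlue2

section SplitLocal

variable {S : Scheme.{u}} {G H : Over S} [GrpObj G] [GrpObj H] (u : G ⟶ H) [IsMonHom u]

/-- the local structure of a homomorphism between split groups, for all properties at once -/
theorem split_local {Y : Scheme.{u}} (q : Y ⟶ S)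
    (M N : Type) [AddCommGroup M] [AddCommGroup N] [AddGroup.FG N]
    (eG : Grp.mk (Red.bc q G) ≅ Grp.mk (Red.DS Y M))
    (eH : Grp.mk (Red.bc q H) ≅ Grp.mk (Red.DS Y N)) (y : Y) :
    ∃ (W : Y.Opens) (φ : N →+ M), y ∈ W ∧
      ∀ (P : MorphismProperty Scheme.{u}) [P.RespectsIso] {Z' : Scheme.{u}}
        (g₀ : Z' ⟶ (W : Scheme.{u})),
        BCP P u (g₀ ≫ W.ι ≫ q) ↔ BCP P (Red.DSmap Y φ) (g₀ ≫ W.ι) := by
  let iG := overIso eG
  let iH := overIso eH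
  haveI : IsMonHom ((Over.pullback q).map u) := inferInstance
  let u' : Red.DS Y M ⟶ Red.DS Y N := iG.inv ≫ (Over.pullback q).map u ≫ iH.hom
  haveI : IsMonHom u' := inferInstance
  obtain ⟨W, φ, hyW, hW⟩ := local_eq u' y
  refine ⟨W, φ, hyW, ?_⟩
  intro P _ Z' g₀
  rw [← Category.assoc, BCP_comp P u q (g₀ ≫ W.ι),
    ← BCP_conj P ((Over.pullback q).map u) iG.symm iH (g₀ ≫ W.ι)]
  change BCP P u' (g₀ ≫ W.ι) ↔ _
  rw [BCP_comp P u' W.ι g₀, hW, ← BCP_comp P (Red.DSmap Y φ) W.ι g₀]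

end SplitLocal

section RankEq

/-- isomorphic diagonalisable groups over a field have isomorphic character groups -/
theorem addEquiv_of_iso (Ω : Type u) [Field Ω] (M N : Type) [AddCommGroup M] [AddCommGroup N]
    [AddGroup.FG N]
    (e : Grp.mk (Red.DS (Spec (CommRingCat.of Ω)) M) ≅ Grp.mk (Red.DS (Spec (CommRingCat.of Ω)) N)) :
    Nonempty (N ≃+ M) := by
  let Z := Spec (CommRingCat.of Ω)
  let v : Red.DS Z M ⟶ Red.DS Z N := (overIso e).hom
  haveI : IsMonHom v := inferInstance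
  let z : Z := (⊥ : PrimeSpectrum Ω)
  obtain ⟨W, φ, hzW, hW⟩ := local_eq v z
  have hr : Set.range (𝟙 Z : Z ⟶ Z) ⊆ Set.range W.ι := by
    rintro _ ⟨x, rfl⟩
    rw [Scheme.Opens.range_ι]
    have : x = z := Subsingleton.elim (α := PrimeSpectrum Ω) _ _
    change x ∈ W
    rw [this]
    exact hzW
  let g₀ : Z ⟶ (W : Scheme.{u}) := IsOpenImmersion.lift W.ι (𝟙 Z) hr
  have hg₀ : g₀ ≫ W.ι = 𝟙 Z := IsOpenImmersion.lift_fac _ _ _
  have h1 : BCP (isomorphisms Scheme.{u}) v W.ι := by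
    change IsIso ((Over.pullback W.ι).map v).left
    haveI : IsIso v := inferInstanceAs (IsIso (overIso e).hom)
    exact isIso_left_of_isIso _
  have h2 : BCP (isomorphisms Scheme.{u}) (Red.DSmap Z φ) W.ι := by
    change IsIso ((Over.pullback W.ι).map (Red.DSmap Z φ)).left
    rw [← hW]
    exact h1
  have h3 := BCP_of_comp (isomorphisms Scheme.{u}) (Red.DSmap Z φ) W.ι g₀ h2
  rw [hg₀] at h3
  have hφ : Function.Bijective φ := bijective_of_isIso φ Ω (𝟙 Z) h3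
  exact ⟨AddEquiv.ofBijective φ hφ⟩

theorem rank_eq_of_addEquiv (r r' : ℕ) (e : (Fin r → ℤ) ≃+ (Fin r' → ℤ)) : r = r' := by
  have h := LinearEquiv.finrank_eq e.toIntLinearEquiv
  rwa [Module.finrank_fin_fun, Module.finrank_fin_fun] at h

end RankEq

section Tori

variable {S : Scheme.{u}} {T T' : Over S} [GrpObj T] [GrpObj T']

/-- common trivialising cover of two tori -/
theorem exists_cover_tori (hT : Red.IsTorus T) (hT' : Red.IsTorus T') :
    ∃ (Y : Scheme.{u}) (q : Y ⟶ S), IsFpqcCov q ∧ ∀ y : Y, ∃ Y' : Y.Opens, y ∈ Y' ∧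
      ∃ r₁ r₂ : ℕ,
        Nonempty (Grp.mk (Red.bc (Y'.ι ≫ q) T) ≅ Grp.mk (Red.DS (Y' : Scheme.{u}) (Fin r₁ → ℤ))) ∧
        Nonempty (Grp.mk (Red.bc (Y'.ι ≫ q) T') ≅
          Grp.mk (Red.DS (Y' : Scheme.{u}) (Fin r₂ → ℤ))) := by
  obtain ⟨S₁, f₁, hf₁, hs₁, hc₁, hG⟩ := hT
  obtain ⟨S₂, f₂, hf₂, hs₂, hc₂, hH⟩ := hT'
  haveI c₁ : IsFpqcCov f₁ := isFpqcCov_of_compact f₁ hf₁ hs₁ hc₁
  haveI c₂ : IsFpqcCov f₂ := isFpqcCov_of_compact f₂ hf₂ hs₂ hc₂
  let Y := pullback f₂ f₁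
  let pr₁ : Y ⟶ S₂ := pullback.fst f₂ f₁
  let pr₂ : Y ⟶ S₁ := pullback.snd f₂ f₁
  haveI : IsFpqcCov pr₂ := inferInstanceAs (IsFpqcCov (pullback.snd f₂ f₁))
  let q : Y ⟶ S := pr₂ ≫ f₁
  have hq : pr₁ ≫ f₂ = q := pullback.condition
  refine ⟨Y, q, isFpqcCov_comp pr₂ f₁, fun y => ?_⟩
  obtain ⟨U₁, hx₁, r₁, eG⟩ := hG (pr₂ y)
  obtain ⟨U₂, hx₂, r₂, eH⟩ := hH (pr₁ y)
  let Y' : Y.Opens := pr₂ ⁻¹ᵁ U₁ ⊓ pr₁ ⁻¹ᵁ U₂
  have hy : y ∈ Y' := ⟨hx₁, hx₂⟩
  have hr₁ : Set.range (Y'.ι ≫ pr₂) ⊆ Set.range U₁.ι := by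
    rintro _ ⟨z, rfl⟩
    rw [Scheme.Opens.range_ι, Scheme.Hom.comp_apply]
    exact z.2.1
  have hr₂ : Set.range (Y'.ι ≫ pr₁) ⊆ Set.range U₂.ι := by
    rintro _ ⟨z, rfl⟩
    rw [Scheme.Opens.range_ι, Scheme.Hom.comp_apply]
    exact z.2.2
  let r₁' : (Y' : Scheme.{u}) ⟶ (U₁ : Scheme.{u}) := IsOpenImmersion.lift U₁.ι (Y'.ι ≫ pr₂) hr₁
  let r₂' : (Y' : Scheme.{u}) ⟶ (U₂ : Scheme.{u}) := IsOpenImmersion.lift U₂.ι (Y'.ι ≫ pr₁) hr₂
  have h₁ : r₁' ≫ U₁.ι ≫ f₁ = Y'.ι ≫ q := by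
    rw [← Category.assoc, IsOpenImmersion.lift_fac, Category.assoc]
  have h₂ : r₂' ≫ U₂.ι ≫ f₂ = Y'.ι ≫ q := by
    rw [← Category.assoc, IsOpenImmersion.lift_fac, Category.assoc, hq]
  exact ⟨Y', hy, r₁, r₂, restrict_triv (U₁.ι ≫ f₁) r₁' (Y'.ι ≫ q) h₁ T _ eG,
    restrict_triv (U₂.ι ≫ f₂) r₂' (Y'.ι ≫ q) h₂ T' _ eH⟩

theorem locTriv_of_isTorus (hT : Red.IsTorus T) : LocTriv T := by
  obtain ⟨S', f, h1, h2, h3, h4⟩ := hT
  refine ⟨S', f, h1, h2, h3, fun s' => ?_⟩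
  obtain ⟨U, hU, r, e⟩ := h4 s'
  exact ⟨U, hU, Fin r → ℤ, inferInstance, e⟩

theorem multTypeFT_of_isTorus (hT : Red.IsTorus T) : SGA3x.IsMultTypeFT T := by
  obtain ⟨S', f, h1, h2, h3, h4⟩ := hT
  refine ⟨S', f, h1, h2, h3, fun s' => ?_⟩
  obtain ⟨U, hU, r, e⟩ := h4 s'
  refine ⟨U, hU, Fin r → ℤ, inferInstance, ?_, e⟩
  exact Module.Finite.iff_addGroup_fg.mp inferInstance

/-- a geometric point above a point of a scheme over `S`, compatible with `Red.geomPt` -/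
theorem exists_geom_point {Y' : Scheme.{u}} (q' : Y' ⟶ S) (y' : Y') :
    ∃ (Ω : Type u) (_ : Field Ω) (a : Spec (CommRingCat.of Ω) ⟶ Y')
      (b : Spec (CommRingCat.of Ω) ⟶
        Spec (CommRingCat.of (AlgebraicClosure (S.residueField (q' y'))))),
      a ≫ q' = b ≫ Red.geomPt (q' y') := by
  let κ := S.residueField (q' y')
  let L := Y'.residueField y'
  let ρ : κ →+* L := (q'.residueFieldMap y').hom
  let Ω := AlgebraicClosure L
  letI : Algebra κ Ω := ((algebraMap L Ω).comp ρ).toAlgebra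
  let l : AlgebraicClosure κ →ₐ[κ] Ω := IsAlgClosed.lift
  refine ⟨Ω, inferInstance,
    Spec.map (CommRingCat.ofHom (algebraMap L Ω)) ≫ Y'.fromSpecResidueField y',
    Spec.map (CommRingCat.ofHom l.toRingHom), ?_⟩
  have h1 : l.toRingHom.comp (algebraMap κ (AlgebraicClosure κ)) = (algebraMap L Ω).comp ρ := by
    rw [AlgHom.toRingHom_eq_coe, AlgHom.comp_algebraMap]
    rfl
  rw [Category.assoc, ← Scheme.Hom.SpecMap_residueFieldMap_fromSpecResidueField]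
  change _ = Spec.map _ ≫ Spec.map _ ≫ S.fromSpecResidueField (q' y')
  rw [← Category.assoc, ← Category.assoc, ← Spec.map_comp, ← Spec.map_comp]
  congr 2
  rw [← CommRingCat.ofHom_comp, h1, CommRingCat.ofHom_comp]
  rfl

theorem rank_eq {Y' : Scheme.{u}} (q' : Y' ⟶ S) (y' : Y') (X : Over S) [GrpObj X] (r₁ r : ℕ)
    (e₁ : Nonempty (Grp.mk (Red.bc q' X) ≅ Grp.mk (Red.DS Y' (Fin r₁ → ℤ))))
    (e : Red.IsSplitTorusWith (Fin r → ℤ) (Red.geomFibre (q' y') X)) : r₁ = r := by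
  obtain ⟨Ω, _, a, b, hab⟩ := exists_geom_point q' y'
  obtain ⟨e₁'⟩ := restrict_triv q' a (a ≫ q') rfl X _ e₁
  obtain ⟨e'⟩ := restrict_triv (Red.geomPt (q' y')) b (a ≫ q') hab.symm X _ e
  haveI : AddGroup.FG (Fin r → ℤ) := Module.Finite.iff_addGroup_fg.mp inferInstance
  obtain ⟨ee⟩ := addEquiv_of_iso Ω (Fin r₁ → ℤ) (Fin r → ℤ) (e₁'.symm ≪≫ e')
  exact (rank_eq_of_addEquiv r r₁ ee).symm

/-- **A monomorphism of tori of the same rank is an isomorphism.** -/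
theorem main (hT : Red.IsTorus T) (hT' : Red.IsTorus T') (f : T ⟶ T') [IsMonHom f] [Mono f]
    (hrk : ∀ s : ↥S, ∃ r : ℕ, Red.IsSplitTorusWith (Fin r → ℤ) (Red.geomFibre s T) ∧
      Red.IsSplitTorusWith (Fin r → ℤ) (Red.geomFibre s T')) : IsIso f := by
  obtain ⟨U, -, hU, hUiso⟩ := Groth.Agent.Helper8.DHomG.iso_locus T T' (locTriv_of_isTorus hT)
    (multTypeFT_of_isTorus hT') f
  obtain ⟨Y, q, hq, hY⟩ := exists_cover_tori hT hT'
  haveI := hq
  haveI := hq.surj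
  have hall : ∀ s : S, s ∈ U := by
    intro s
    obtain ⟨y, rfl⟩ := q.surjective s
    rw [hU]
    obtain ⟨Y', hy, r₁, r₂, ⟨eG⟩, ⟨eH⟩⟩ := hY y
    haveI : AddGroup.FG (Fin r₂ → ℤ) := Module.Finite.iff_addGroup_fg.mp inferInstance
    let y' : Y' := ⟨y, hy⟩
    obtain ⟨W, φ, hyW, key⟩ :=
      split_local f (Y'.ι ≫ q) (Fin r₁ → ℤ) (Fin r₂ → ℤ) eG eH y'
    let K := (Y' : Scheme.{u}).residueField y'
    have hr : Set.range ((Y' : Scheme.{u}).fromSpecResidueField y') ⊆ Set.range W.ι := by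
      rw [Scheme.range_fromSpecResidueField, Scheme.Opens.range_ι]
      simpa using hyW
    let g₀ : Spec K ⟶ (W : Scheme.{u}) :=
      IsOpenImmersion.lift W.ι ((Y' : Scheme.{u}).fromSpecResidueField y') hr
    have hg₀ : g₀ ≫ W.ι = (Y' : Scheme.{u}).fromSpecResidueField y' :=
      IsOpenImmersion.lift_fac _ _ _
    -- (1) `φ` is surjective
    haveI : Mono f.left := inferInstance
    have hmono : BCP (monomorphisms Scheme.{u}) f (g₀ ≫ W.ι ≫ Y'.ι ≫ q) :=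
      prop_map_left _ f (monomorphisms Scheme.{u}) (monomorphisms.infer_property f.left)
    have hsurj : Function.Surjective φ :=
      surjective_of_mono φ K (g₀ ≫ W.ι) ((key (monomorphisms Scheme.{u}) g₀).mp hmono)
    -- (2) the ranks agree
    obtain ⟨r, hr1, hr2⟩ := hrk ((Y'.ι ≫ q) y')
    have e1 : r₁ = r := rank_eq (Y'.ι ≫ q) y' T r₁ r ⟨eG⟩ hr1
    have e2 : r₂ = r := rank_eq (Y'.ι ≫ q) y' T' r₂ r ⟨eH⟩ hr2
    subst e1
    subst e2
    -- (3) `φ` is bijective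
    have hbij : Function.Bijective φ :=
      OrzechProperty.bijective_of_surjective_endomorphism φ.toIntLinearMap hsurj
    -- (4) conclusion
    have h4 : BCP (isomorphisms Scheme.{u}) f (𝟙 _ ≫ W.ι ≫ Y'.ι ≫ q) :=
      (key (isomorphisms Scheme.{u}) (𝟙 _)).mpr (isIso_of_bijective φ hbij _)
    rw [Category.id_comp] at h4
    exact mem_locus_of_BCP (isomorphisms Scheme.{u}) f (W.ι ≫ Y'.ι ≫ q) h4 ⟨y', hyW⟩
  have hUtop : U = ⊤ := by
    ext s
    simp [hall s]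
  subst hUtop
  have sq := isPullback_map_left (⊤ : S.Opens).ι f
  haveI : IsIso ((Over.pullback (⊤ : S.Opens).ι).map f).left := hUiso
  haveI : IsIso (⊤ : S.Opens).ι := inferInstanceAs (IsIso (Scheme.topIso S).hom)
  haveI : IsIso f.left := by
    have e : f.left = inv (pullback.fst T.hom (⊤ : S.Opens).ι) ≫
        ((Over.pullback (⊤ : S.Opens).ι).map f).left ≫ pullback.fst T'.hom (⊤ : S.Opens).ι := by
      rw [IsIso.eq_inv_comp]
      exact sq.w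
    rw [e]
    infer_instance
  haveI : IsIso ((Over.forget S).map f) := ‹IsIso f.left›
  exact isIso_of_reflects_iso f (Over.forget S)

end Tori

end Groth.Agent.Helper8.DHomH
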