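import Mathlib
import Groth.Prelude
import Groth.Agent.Helper8.DHomH

/-!
# Maximal split subtori of groups of multiplicative type
-/

set_option autoImplicit false
set_option linter.unusedSectionVars false
set_option linter.style.haveILetI false
set_option linter.unusedVariables false

universe u

open CategoryTheory CategoryTheory.Limits MonoidalCategory CartesianMonoidalCategory MonObj
  AlgebraicGeometry MorphismProperty

noncomputable section

namespace Groth.Agent.Helper8.DHomI

open Groth.Agent.Helper8.DHomB Groth.Agent.Helper8.DHomC Groth.Agent.Helper8.DHomD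
  Groth.Agent.Helper8.DHomE Groth.Agent.Helper8.DHomF Groth.Agent.Helper8.DHomH

section General

variable {C : Type*} [Category C] [CartesianMonoidalCategory C]

theorem isMonHom_of_comp {A B D : C} [MonObj A] [MonObj B] [MonObj D] (g : A ⟶ B) (j' : B ⟶ D)
    [IsMonHom j'] [Mono j'] (h : IsMonHom (g ≫ j')) : IsMonHom g where
  one_hom := by
    rw [← cancel_mono j', Category.assoc, IsMonHom.one_hom (g ≫ j'), IsMonHom.one_hom j']
  mul_hom := by
    rw [← cancel_mono j', Category.assoc, IsMonHom.mul_hom (g ≫ j'), Category.assoc,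
      IsMonHom.mul_hom j', ← Category.assoc, tensorHom_comp_tensorHom]

end General

variable {S : Scheme.{u}}

/-- a split group stays split after any base change -/
theorem splitBC {Y : Scheme.{u}} (q : Y ⟶ S) {M : Type} [AddCommGroup M] {T : Over S} [GrpObj T]
    (h : Red.IsSplitTorusWith M T) : Nonempty (Grp.mk (Red.bc q T) ≅ Grp.mk (Red.DS Y M)) := by
  obtain ⟨e⟩ := h
  exact ⟨grpMap q e ≪≫ grpDS q M⟩

theorem isTorus_of_split {T : Over S} [GrpObj T] (r : ℕ)
    (h : Red.IsSplitTorusWith (Fin r → ℤ) T) : Red.IsTorus T := by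
  refine ⟨S, 𝟙 S, inferInstance, inferInstance, fun V hV => ⟨V, hV.isCompact, by simp⟩,
    fun s => ⟨⊤, trivial, r, splitBC _ h⟩⟩

section Trivial

/-- `D_S(0)` is the trivial group: its structure morphism is an isomorphism -/
theorem isIso_DS_hom (M : Type) [AddCommGroup M] [Subsingleton M] : IsIso (Red.DS S M).hom := by
  have hb : Function.Bijective (algebraMap (ULift.{u} ℤ)
      (MonoidAlgebra (ULift.{u} ℤ) (Multiplicative M))) := by
    have : (algebraMap (ULift.{u} ℤ) (MonoidAlgebra (ULift.{u} ℤ) (Multiplicative M)) :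
        ULift.{u} ℤ → _) = (MonoidAlgebra.uniqueAlgEquiv (ULift.{u} ℤ) (Multiplicative M)).symm := by
      funext a
      exact ((MonoidAlgebra.uniqueAlgEquiv (ULift.{u} ℤ) (Multiplicative M)).symm.commutes a).symm
    rw [this]
    exact (MonoidAlgebra.uniqueAlgEquiv (ULift.{u} ℤ) (Multiplicative M)).symm.bijective
  haveI : IsIso (CommRingCat.ofHom (algebraMap (ULift.{u} ℤ)
      (MonoidAlgebra (ULift.{u} ℤ) (Multiplicative M)))) :=
    (ConcreteCategory.isIso_iff_bijective _).mpr hb
  haveI : IsIso (Red.diag (ULift.{u} ℤ) M).hom :=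
    inferInstanceAs (IsIso (Spec.map (CommRingCat.ofHom (algebraMap (ULift.{u} ℤ)
      (MonoidAlgebra (ULift.{u} ℤ) (Multiplicative M))))))
  exact inferInstanceAs (IsIso (pullback.snd (Red.diag (ULift.{u} ℤ) M).hom
    (Limits.IsTerminal.from specULiftZIsTerminal S)))

variable {G : Over S} [GrpObj G]

/-- the trivial subtorus -/
theorem exists_trivial : ∃ (T : Over S) (_ : GrpObj T) (j : T ⟶ G), IsMonHom j ∧ Mono j ∧
    Red.IsSplitTorusWith (Fin 0 → ℤ) T := by
  refine ⟨Red.DS S (Fin 0 → ℤ), inferInstance, toUnit _ ≫ η[G], inferInstance, ?_, ⟨Iso.refl _⟩⟩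
  haveI := isIso_DS_hom (S := S) (Fin 0 → ℤ)
  constructor
  intro Z a b _
  ext1
  rw [← cancel_mono (Red.DS S (Fin 0 → ℤ)).hom, CategoryTheory.Over.w, CategoryTheory.Over.w]

end Trivial

section Bound

variable {G : Over S} [GrpObj G]

/-- the rank of a split subtorus is bounded by the number of generators of the character group
of a trivialisation of `G` over a non-empty scheme -/
theorem rank_le {Y : Scheme.{u}} (q : Y ⟶ S) (y : Y) (M : Type) [AddCommGroup M] [AddGroup.FG M]
    (n : ℕ) (p : (Fin n → ℤ) →ₗ[ℤ] M) (hp : Function.Surjective p)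
    (eG : Grp.mk (Red.bc q G) ≅ Grp.mk (Red.DS Y M))
    {T : Over S} [GrpObj T] (j : T ⟶ G) [IsMonHom j] [Mono j] (r : ℕ)
    (hT : Red.IsSplitTorusWith (Fin r → ℤ) T) : r ≤ n := by
  obtain ⟨eT⟩ := splitBC q hT
  obtain ⟨W, φ, hyW, key⟩ := split_local j q (Fin r → ℤ) M eT eG y
  let K := Y.residueField y
  have hr : Set.range (Y.fromSpecResidueField y) ⊆ Set.range W.ι := by
    rw [Scheme.range_fromSpecResidueField, Scheme.Opens.range_ι]
    simpa using hyW
  let g₀ : Spec K ⟶ (W : Scheme.{u}) := IsOpenImmersion.lift W.ι (Y.fromSpecResidueField y) hr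
  haveI : Mono j.left := inferInstance
  have hmono : BCP (monomorphisms Scheme.{u}) j (g₀ ≫ W.ι ≫ q) :=
    prop_map_left _ j (monomorphisms Scheme.{u}) (monomorphisms.infer_property j.left)
  have hsurj : Function.Surjective φ :=
    surjective_of_mono φ K (g₀ ≫ W.ι) ((key (monomorphisms Scheme.{u}) g₀).mp hmono)
  exact le_of_fin_surjective (R := ℤ) (φ.toIntLinearMap ∘ₗ p) (hsurj.comp hp)

end Bound

section Main

variable {G : Over S} [GrpObj G]

/-- **Existence of a maximal split subtorus.** -/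
theorem main (hG : SGA3x.IsMultTypeFT G) :
    ∃ (T : Over S) (_ : GrpObj T) (j : T ⟶ G) (r : ℕ), IsMonHom j ∧ Mono j ∧
      Red.IsSplitTorusWith (Fin r → ℤ) T ∧
      ∀ (T' : Over S) [GrpObj T'] (j' : T' ⟶ G) [IsMonHom j'] [Mono j'] (r' : ℕ) (g : T ⟶ T'),
        Red.IsSplitTorusWith (Fin r' → ℤ) T' → g ≫ j' = j → IsIso g := by
  classical
  rcases isEmpty_or_nonempty S with hS | ⟨⟨s⟩⟩
  · obtain ⟨T, iT, j, h1, h2, h3⟩ := exists_trivial (G := G)
    refine ⟨T, iT, j, 0, h1, h2, h3, ?_⟩
    intro T' _ j' _ _ r' g _ _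
    haveI : IsEmpty T'.left := Function.isEmpty T'.hom.base
    haveI : IsIso g.left := isIso_of_isEmpty g.left
    haveI : IsIso ((Over.forget S).map g) := ‹IsIso g.left›
    exact isIso_of_reflects_iso g (Over.forget S)
  · let P : ℕ → Prop := fun r => ∃ (T : Over S) (_ : GrpObj T) (j : T ⟶ G), IsMonHom j ∧ Mono j ∧
      Red.IsSplitTorusWith (Fin r → ℤ) T
    obtain ⟨S', f, h1, h2, h3, h4⟩ := hG
    obtain ⟨y₀, rfl⟩ := f.surjective s
    obtain ⟨U, hU, M, iM, hM, ⟨eG⟩⟩ := h4 y₀
    haveI := hM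
    haveI : Module.Finite ℤ M := Module.Finite.iff_addGroup_fg.mpr hM
    obtain ⟨n, p, hp⟩ := Module.Finite.exists_fin' ℤ M
    have hbound : ∀ r, P r → r ≤ n := by
      rintro r ⟨T, iT, j, hj1, hj2, hT⟩
      exact rank_le (U.ι ≫ f) ⟨y₀, hU⟩ M n p hp eG j r hT
    have h0 : P 0 := exists_trivial (G := G)
    have hr₀ : P (Nat.findGreatest P n) := Nat.findGreatest_spec (Nat.zero_le n) h0
    obtain ⟨T, iT, j, hj1, hj2, hT⟩ := hr₀
    refine ⟨T, iT, j, Nat.findGreatest P n, hj1, hj2, hT, ?_⟩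
    intro T' _ j' _ _ r' g hT' hg
    have hP' : P r' := ⟨T', inferInstance, j', inferInstance, inferInstance, hT'⟩
    have hle : r' ≤ Nat.findGreatest P n := Nat.le_findGreatest (hbound r' hP') hP'
    haveI : IsMonHom (g ≫ j') := by rw [hg]; exact hj1
    haveI : IsMonHom g := isMonHom_of_comp g j' inferInstance
    haveI : Mono (g ≫ j') := by rw [hg]; exact hj2
    haveI : Mono g := mono_of_mono g j'
    -- the rank of `T` is at most that of `T'`
    obtain ⟨eT'⟩ := splitBC (𝟙 S) hT'
    haveI : AddGroup.FG (Fin r' → ℤ) := Module.Finite.iff_addGroup_fg.mp inferInstance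
    have hge : Nat.findGreatest P n ≤ r' :=
      rank_le (G := T') (𝟙 S) (f y₀) (Fin r' → ℤ) r' LinearMap.id Function.surjective_id eT' g _ hT
    have heq : r' = Nat.findGreatest P n := le_antisymm hle hge
    rw [← heq] at hT
    exact DHomH.main (isTorus_of_split r' hT) (isTorus_of_split r' hT') g
      (fun s => ⟨r', splitBC _ hT, splitBC _ hT'⟩)

end Main

end Groth.Agent.Helper8.DHomI
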