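import Mathlib
import Groth.Prelude.Def_SekSuwa
import Groth.Prelude.Def_Red2

set_option autoImplicit false

namespace Groth.Agent.Helper8.DiagMu

open CategoryTheory MonoidalCategory CartesianMonoidalCategory MonObj GrpObj AlgebraicGeometry
  CategoryTheory.Limits

universe u
variable {M N : Type} [AddCommGroup M] [AddCommGroup N]

theorem diagMap_eq (R : Type u) [CommRing R] (φ : M →+ N) :
    Red.diagMap R φ =
      SekSuwa.specHom (MonoidAlgebra.mapDomainBialgHom R (AddMonoidHom.toMultiplicative φ)) := by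
  apply Over.OverMorphism.ext; rfl

instance isMonHom_diagMap (R : Type u) [CommRing R] (φ : M →+ N) : IsMonHom (Red.diagMap R φ) := by
  rw [diagMap_eq]; infer_instance

instance isMonHom_DSmap (S : Scheme.{u}) (φ : M →+ N) : IsMonHom (Red.DSmap S φ) := by
  unfold Red.DSmap; infer_instance

theorem mapDomain_surjective (R : Type u) [CommRing R] {G H : Type} [Monoid G] [Monoid H]
    (f : G →* H) (hf : Function.Surjective f) :
    Function.Surjective (MonoidAlgebra.mapDomainAlgHom R R f) := by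
  intro x
  induction x using MonoidAlgebra.induction_on with
  | of g =>
    obtain ⟨g', rfl⟩ := hf g
    exact ⟨MonoidAlgebra.of R _ g', by simp [MonoidAlgebra.of_apply, MonoidAlgebra.mapDomain_single]⟩
  | add a b ha hb =>
    obtain ⟨a', rfl⟩ := ha
    obtain ⟨b', rfl⟩ := hb
    exact ⟨a' + b', map_add _ _ _⟩
  | smul r a ha =>
    obtain ⟨a', rfl⟩ := ha
    exact ⟨r • a', map_smul _ _ _⟩

theorem isClosedImmersion_DSmap (S : Scheme.{u}) (φ : M →+ N) (hφ : Function.Surjective φ) :
    IsClosedImmersion (Red.DSmap S φ).left := by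
  unfold Red.DSmap
  apply MorphismProperty.overPullbackMap (P := @IsClosedImmersion)
  apply IsClosedImmersion.spec_of_surjective
  exact mapDomain_surjective (ULift.{u} ℤ) (AddMonoidHom.toMultiplicative φ) hφ

theorem exists_surj (M : Type) [AddCommGroup M] [AddGroup.FG M] [Nontrivial M] :
    ∃ (r : ℕ) (_ : r.Prime) (φ : M →+ ZMod r), Function.Surjective φ := by
  haveI : Module.Finite ℤ M := Module.Finite.iff_addGroup_fg.mpr inferInstance
  obtain ⟨K, hK, -⟩ := (eq_top_or_exists_le_coatom (⊥ : Submodule ℤ M)).resolve_left bot_ne_top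
  haveI : IsSimpleModule ℤ (M ⧸ K) := isSimpleModule_iff_isCoatom.mpr hK
  obtain ⟨I, hI, ⟨e⟩⟩ := (isSimpleModule_iff_quot_maximal (R := ℤ) (M := M ⧸ K)).mp inferInstance
  obtain ⟨a, rfl⟩ : ∃ a : ℤ, I = Ideal.span {a} := ⟨_, (Ideal.span_singleton_generator I).symm⟩
  have ha0 : a ≠ 0 := by
    rintro rfl
    apply Ring.ne_bot_of_isMaximal_of_not_isField hI Int.not_isField
    simp
  have hprime : Prime a := (Ideal.span_singleton_prime ha0).mp hI.isPrime
  refine ⟨a.natAbs, Int.prime_iff_natAbs_prime.mp hprime,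
    (Int.quotientSpanEquivZMod a).toAddMonoidHom.comp
      (e.toLinearMap.toAddMonoidHom.comp K.mkQ.toAddMonoidHom), ?_⟩
  intro z
  obtain ⟨y, rfl⟩ := (Int.quotientSpanEquivZMod a).surjective z
  obtain ⟨x, rfl⟩ := e.surjective y
  obtain ⟨m, rfl⟩ := K.mkQ_surjective x
  exact ⟨m, rfl⟩

theorem main (S : Scheme.{u}) (M : Type) [AddCommGroup M] [AddGroup.FG M] [Nontrivial M] :
    ∃ (r : ℕ) (_ : r.Prime) (j : Red.DS S (ZMod r) ⟶ Red.DS S M),
      IsMonHom j ∧ IsClosedImmersion j.left := by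
  obtain ⟨r, hr, φ, hφ⟩ := exists_surj M
  exact ⟨r, hr, Red.DSmap S φ, inferInstance, isClosedImmersion_DSmap S φ hφ⟩

end Groth.Agent.Helper8.DiagMu
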