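import Mathlib
import Groth.Prelude
import Groth.Agent.Helper8.DHomI
import Groth.Agent.Helper8.DiagMu

/-!
# Functoriality of `D_Z(-)`, faithfulness, and splitting of exact sequences of split tori
-/

set_option autoImplicit false
set_option linter.unusedSectionVars false
set_option linter.style.haveILetI false
set_option linter.unusedVariables false

universe u

open CategoryTheory CategoryTheory.Limits MonoidalCategory CartesianMonoidalCategory MonObj
  AlgebraicGeometry MorphismProperty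

noncomputable section

namespace Groth.Agent.Helper8.DHomJ

open Groth.Agent.Helper8.DSPts Groth.Agent.Helper8.DHomB Groth.Agent.Helper8.DHomC
  Groth.Agent.Helper8.DHomD Groth.Agent.Helper8.DHomE Groth.Agent.Helper8.DHomF
  Groth.Agent.Helper8.DHomH Groth.Agent.Helper8.DHomI

section Functoriality

variable {Z : Scheme.{u}} {M N P : Type} [AddCommGroup M] [AddCommGroup N] [AddCommGroup P]

theorem DSmap_comp (φ : M →+ N) (ψ : N →+ P) :
    Red.DSmap Z ψ ≫ Red.DSmap Z φ = Red.DSmap Z (ψ.comp φ) := by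
  apply hom_ext_pts
  intro B _ f' t
  letI := ULift.algebra' ℤ B
  apply chr_injective M B f'
  refine MonoidHom.ext fun m => ?_
  rw [← Category.assoc, chr_DSmap, chr_DSmap, chr_DSmap]
  rfl

theorem DSmap_id : Red.DSmap Z (AddMonoidHom.id M) = 𝟙 _ := by
  apply hom_ext_pts
  intro B _ f' t
  letI := ULift.algebra' ℤ B
  apply chr_injective M B f'
  refine MonoidHom.ext fun m => ?_
  rw [chr_DSmap, Category.comp_id]
  rfl

theorem DSmap_zero : Red.DSmap Z (0 : M →+ N) = toUnit _ ≫ η[Red.DS Z M] := by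
  apply hom_ext_pts
  intro B _ f' t
  letI := ULift.algebra' ℤ B
  apply chr_injective M B f'
  refine MonoidHom.ext fun m => ?_
  rw [chr_DSmap]
  have h1 : t ≫ toUnit (Red.DS Z N) ≫ η[Red.DS Z M] = 1 := by
    rw [← Category.assoc, toUnit_unique (t ≫ toUnit _) (toUnit _)]
    exact Hom.one_def.symm
  rw [h1, chr_one]
  exact map_one _

/-- `D_Z(-)` is faithful over a non-empty base -/
theorem DSmap_injective (z : Z) (φ φ' : M →+ N) (h : Red.DSmap Z φ = Red.DSmap Z φ') :
    φ = φ' := by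
  let κ := Z.residueField z
  let B := MonoidAlgebra κ (Multiplicative N)
  let a : κ →+* B := MonoidAlgebra.singleOneRingHom
  letI : Algebra (ULift.{u} ℤ) B := ULift.algebra' ℤ B
  let f' : Spec (CommRingCat.of B) ⟶ Z := Spec.map (CommRingCat.ofHom a) ≫ Z.fromSpecResidueField z
  obtain ⟨t, ht⟩ := chr_surjective N B f' (MonoidAlgebra.of κ (Multiplicative N))
  ext m
  have h1 := chr_DSmap B f' φ t (Multiplicative.ofAdd m)
  have h2 := chr_DSmap B f' φ' t (Multiplicative.ofAdd m)
  rw [h, h2, ht] at h1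
  have h3 := MonoidAlgebra.of_injective h1
  exact (Multiplicative.ofAdd.injective h3).symm

end Functoriality

section Global

variable {Z : Scheme.{u}}

theorem eq_of_map_top {A A' : Over Z} (v w : A ⟶ A') (W : Z.Opens) (hW : W = ⊤)
    (h : (Over.pullback W.ι).map v = (Over.pullback W.ι).map w) : v = w := by
  subst hW
  haveI : IsIso (⊤ : Z.Opens).ι := inferInstanceAs (IsIso (Scheme.topIso Z).hom)
  apply Over.OverMorphism.ext
  have h1 := (isPullback_map_left (⊤ : Z.Opens).ι v).w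
  have h2 := (isPullback_map_left (⊤ : Z.Opens).ι w).w
  rw [h] at h1
  have h3 := h1.trans h2.symm
  exact (cancel_epi (pullback.fst A.hom (⊤ : Z.Opens).ι)).mp h3

/-- over a one-point base every homomorphism `D(M) ⟶ D(N)` is `D(φ)` -/
theorem global_eq [Subsingleton Z] (z : Z) {M N : Type} [AddCommGroup M] [AddCommGroup N]
    [AddGroup.FG N] (u : Red.DS Z M ⟶ Red.DS Z N) [IsMonHom u] :
    ∃ φ : N →+ M, u = Red.DSmap Z φ := by
  obtain ⟨W, φ, hz, hW⟩ := local_eq u z
  refine ⟨φ, eq_of_map_top u _ W ?_ hW⟩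
  ext x
  rw [Subsingleton.elim x z]
  simpa using hz

end Global

section Algebra

/-- a short exact sequence of `ℤ`-modules with torsion-free (here: embedded in a free module) cokernel
splits -/
theorem exists_retraction {A B C : Type} [AddCommGroup A] [AddCommGroup B] [AddCommGroup C]
    [Module.Finite ℤ C] [Module.Free ℤ C]
    (φ : A →+ B) (ψ : B →+ C) (hφ : Function.Injective φ)
    (h1 : ψ.comp φ = 0) (h2 : ∀ b, ψ b = 0 → ∃ a, φ a = b) :
    ∃ ρ : B →+ A, ρ.comp φ = AddMonoidHom.id A := by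
  let ψl : B →ₗ[ℤ] C := ψ.toIntLinearMap
  let R := LinearMap.range ψl
  let ψ' : B →ₗ[ℤ] R := ψl.rangeRestrict
  have hψ' : Function.Surjective ψ' := ψl.surjective_rangeRestrict
  haveI : Module.Free ℤ R := inferInstance
  obtain ⟨σ, hσ⟩ := Module.projective_lifting_property ψ' LinearMap.id hψ'
  have hσ' : ∀ x : R, ψ (σ x) = x := fun x => by
    have := congrArg (fun l => (l x : C)) hσ
    exact this
  have hp : ∀ b : B, ∃ a, φ a = b - σ (ψ' b) := by
    intro b
    apply h2
    rw [map_sub, hσ' (ψ' b)]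
    exact sub_self _
  choose ρ hρ using hp
  have hadd : ∀ x y, ρ (x + y) = ρ x + ρ y := by
    intro x y
    apply hφ
    rw [map_add, hρ, hρ, hρ, map_add, map_add]
    abel
  refine ⟨AddMonoidHom.mk' ρ hadd, ?_⟩
  ext a
  apply hφ
  change φ (ρ (φ a)) = φ a
  rw [hρ]
  have h0 : ψ' (φ a) = 0 := by
    apply Subtype.ext
    exact DFunLike.congr_fun h1 a
  rw [h0, map_zero, sub_zero]

end Algebra

section Main

variable (k : Type u) [Field k]

/-- **An exact sequence of split tori over a field splits.** -/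
theorem main (K G Q : Over (Spec (CommRingCat.of k))) [GrpObj K] [GrpObj G] [GrpObj Q]
    (nK nG nQ : ℕ)
    (hK : Red.IsSplitTorusWith (Fin nK → ℤ) K) (hG : Red.IsSplitTorusWith (Fin nG → ℤ) G)
    (hQ : Red.IsSplitTorusWith (Fin nQ → ℤ) Q)
    (i : K ⟶ G) [IsMonHom i] [IsClosedImmersion i.left]
    (π : G ⟶ Q) [IsMonHom π] [Flat π.left] [Surjective π.left] (hker : AlgGrp.IsKernel i π) :
    ∃ s : Q ⟶ G, IsMonHom s ∧ s ≫ π = 𝟙 Q := by
  let Z : Scheme.{u} := Spec (CommRingCat.of k)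
  haveI : Subsingleton Z := inferInstanceAs (Subsingleton (PrimeSpectrum k))
  let z : Z := (⊥ : PrimeSpectrum k)
  obtain ⟨eK⟩ := hK
  obtain ⟨eG⟩ := hG
  obtain ⟨eQ⟩ := hQ
  let iK := overIso eK
  let iG := overIso eG
  let iQ := overIso eQ
  haveI : ∀ n : ℕ, AddGroup.FG (Fin n → ℤ) := fun n =>
    Module.Finite.iff_addGroup_fg.mp inferInstance
  -- the two maps in coordinates
  let π' : Red.DS Z (Fin nG → ℤ) ⟶ Red.DS Z (Fin nQ → ℤ) := iG.inv ≫ π ≫ iQ.hom
  haveI : IsMonHom π' := inferInstance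
  let i' : Red.DS Z (Fin nK → ℤ) ⟶ Red.DS Z (Fin nG → ℤ) := iK.inv ≫ i ≫ iG.hom
  haveI : IsMonHom i' := inferInstance
  obtain ⟨φ, hφ⟩ := global_eq z π'
  obtain ⟨ψ, hψ⟩ := global_eq z i'
  -- `φ` is injective
  have hφinj : Function.Injective φ := by
    apply injective_of_flat_surjective φ k (𝟙 Z)
    rw [← hφ]
    have hfl : Flat π'.left := by
      change Flat (iG.inv.left ≫ π.left ≫ iQ.hom.left)
      infer_instance
    have hsu : Surjective π'.left := by
      change Surjective (iG.inv.left ≫ π.left ≫ iQ.hom.left)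
      infer_instance
    exact ⟨prop_map_left _ π' @Flat hfl, prop_map_left _ π' @Surjective hsu⟩
  -- `ψ ∘ φ = 0`
  have hcomp : i' ≫ π' = toUnit _ ≫ η[Red.DS Z (Fin nQ → ℤ)] := by
    change (iK.inv ≫ i ≫ iG.hom) ≫ iG.inv ≫ π ≫ iQ.hom = _
    rw [Category.assoc, Category.assoc, Iso.hom_inv_id_assoc, ← Category.assoc i, hker.w,
      Category.assoc, IsMonHom.one_hom, ← Category.assoc]
    congr 1
    exact toUnit_unique _ _
  have h1 : ψ.comp φ = 0 := by
    apply DSmap_injective z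
    rw [← DSmap_comp, ← hφ, ← hψ, hcomp, DSmap_zero]
  -- exactness in the middle
  let C := (Fin nG → ℤ) ⧸ φ.range
  let qC : (Fin nG → ℤ) →+ C := QuotientAddGroup.mk' φ.range
  have hq0 : qC.comp φ = 0 := by
    refine AddMonoidHom.ext fun a => ?_
    exact (QuotientAddGroup.eq_zero_iff _).mpr ⟨a, rfl⟩
  let c : Red.DS Z C ⟶ G := Red.DSmap Z qC ≫ iG.inv
  have hc : c ≫ π = toUnit _ ≫ η[Q] := by
    have e1 : Red.DSmap Z qC ≫ π' = toUnit _ ≫ η[Red.DS Z (Fin nQ → ℤ)] := by
      rw [hφ, DSmap_comp, hq0, DSmap_zero]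
    have e2 : c ≫ π = (Red.DSmap Z qC ≫ π') ≫ iQ.inv := by
      change _ = (Red.DSmap Z qC ≫ iG.inv ≫ π ≫ iQ.hom) ≫ iQ.inv
      simp only [Category.assoc, Iso.hom_inv_id, Category.comp_id]
      rfl
    rw [e2, e1, Category.assoc, IsMonHom.one_hom]
  let l : Red.DS Z C ⟶ K := hker.lift c (toUnit _) hc
  have hl : l ≫ i = c := hker.lift_fst c (toUnit _) hc
  let l' : Red.DS Z C ⟶ Red.DS Z (Fin nK → ℤ) := l ≫ iK.hom
  have hl' : l' ≫ i' = Red.DSmap Z qC := by
    change (l ≫ iK.hom) ≫ iK.inv ≫ i ≫ iG.hom = _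
    rw [Category.assoc, Iso.hom_inv_id_assoc, ← Category.assoc, hl]
    change (Red.DSmap Z qC ≫ iG.inv) ≫ iG.hom = _
    rw [Category.assoc, Iso.inv_hom_id, Category.comp_id]
  haveI : Mono i.left := inferInstance
  haveI : Mono i := by
    constructor
    intro X a b hab
    apply Over.OverMorphism.ext
    rw [← cancel_mono i.left, ← Over.comp_left, ← Over.comp_left, hab]
  haveI : Mono i' := by
    change Mono (iK.inv ≫ i ≫ iG.hom)
    infer_instance
  haveI : IsMonHom l' := by
    apply isMonHom_of_comp l' i'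
    rw [hl']
    infer_instance
  obtain ⟨θ, hθ⟩ := global_eq z l'
  have h2' : θ.comp ψ = qC := by
    apply DSmap_injective z
    rw [← DSmap_comp, ← hθ, ← hψ, hl']
  have h2 : ∀ b, ψ b = 0 → ∃ a, φ a = b := by
    intro b hb
    have : qC b = 0 := by rw [← h2']; change θ (ψ b) = 0; rw [hb, map_zero]
    exact (QuotientAddGroup.eq_zero_iff _).mp this
  obtain ⟨ρ, hρ⟩ := exists_retraction φ ψ hφinj h1 h2
  refine ⟨iQ.hom ≫ Red.DSmap Z ρ ≫ iG.inv, ?_, ?_⟩
  · infer_instance
  · have e : π = iG.hom ≫ π' ≫ iQ.inv := by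
      change π = iG.hom ≫ (iG.inv ≫ π ≫ iQ.hom) ≫ iQ.inv
      simp
    rw [e, hφ]
    simp only [Category.assoc, Iso.inv_hom_id_assoc]
    rw [← Category.assoc (Red.DSmap Z ρ), DSmap_comp, hρ, DSmap_id, Category.id_comp,
      Iso.hom_inv_id]

end Main

end Groth.Agent.Helper8.DHomJ
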