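import Mathlib
import Groth.Prelude
import Groth.Agent.Helper8.DHomJ

/-!
# Triviality of homomorphisms after base change, and characters of tori
-/

set_option autoImplicit false
set_option linter.unusedSectionVars false
set_option linter.style.haveILetI false
set_option linter.unusedVariables false

universe u

open CategoryTheory CategoryTheory.Limits MonoidalCategory CartesianMonoidalCategory MonObj
  AlgebraicGeometry MorphismProperty

noncomputable section

namespace Groth.Agent.Helper8.DHomK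

open Groth.Agent.Helper8.DSPts Groth.Agent.Helper8.DHomB Groth.Agent.Helper8.DHomC
  Groth.Agent.Helper8.DHomD Groth.Agent.Helper8.DHomE Groth.Agent.Helper8.DHomF
  Groth.Agent.Helper8.DHomH Groth.Agent.Helper8.DHomI Groth.Agent.Helper8.DHomJ

section TrivOn

variable {S : Scheme.{u}} {G H : Over S} [GrpObj G] [GrpObj H]

theorem adjPt_one {S' : Scheme.{u}} (g : S' ⟶ S) (D : Over S) [GrpObj D] (T : Over S') :
    adjPt g D (1 : T ⟶ Red.bc g D) = 1 :=
  (MonoidHom.mk' (adjPt g D (T := T)) (adjPt_mul g D)).map_one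

/-- `u` is trivial on all points lying over `S'` -/
def TrivOn (u : G ⟶ H) {S' : Scheme.{u}} (g : S' ⟶ S) : Prop :=
  ∀ (T : Over S') (z : (Over.map g).obj T ⟶ G), z ≫ u = 1

theorem trivOn_iff (u : G ⟶ H) {S' : Scheme.{u}} (g : S' ⟶ S) :
    TrivOn u g ↔ (Over.pullback g).map u = 1 := by
  constructor
  · intro h
    apply adjPt_injective g H
    have e := adjPt_map g u (𝟙 (Red.bc g G))
    rw [Category.id_comp] at e
    rw [e, h _ _, adjPt_one]
  · intro h T z
    obtain ⟨t, rfl⟩ := adjPt_surjective g G z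
    rw [← adjPt_map, h, MonObj.comp_one, adjPt_one]

/-- comparison of the two ways of viewing an `S''`-scheme as an `S`-scheme -/
def mapCompIso {S' S'' : Scheme.{u}} (g : S' ⟶ S) (h : S'' ⟶ S') (T : Over S'') :
    (Over.map g).obj ((Over.map h).obj T) ≅ (Over.map (h ≫ g)).obj T :=
  Over.isoMk (Iso.refl _) (by
    change 𝟙 _ ≫ T.hom ≫ h ≫ g = (T.hom ≫ h) ≫ g
    rw [Category.id_comp, Category.assoc])

theorem trivOn_comp (u : G ⟶ H) {S' S'' : Scheme.{u}} (g : S' ⟶ S) (h : S'' ⟶ S')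
    (hu : TrivOn u g) : TrivOn u (h ≫ g) := by
  intro T z
  have h1 := hu ((Over.map h).obj T) ((mapCompIso g h T).hom ≫ z)
  rw [Category.assoc] at h1
  have h2 : z ≫ u = (mapCompIso g h T).inv ≫ (mapCompIso g h T).hom ≫ z ≫ u := by
    rw [Iso.inv_hom_id_assoc]
  rw [h2, h1, MonObj.comp_one]

theorem trivOn_conj (u : G ⟶ H) {G' H' : Over S} [GrpObj G'] [GrpObj H'] (a : G' ⟶ G)
    (b : H ⟶ H') [IsMonHom b] {S' : Scheme.{u}} (g : S' ⟶ S) (hu : TrivOn u g) :
    TrivOn (a ≫ u ≫ b) g := by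
  intro T z
  have h1 := hu T (z ≫ a)
  calc z ≫ a ≫ u ≫ b = ((z ≫ a) ≫ u) ≫ b := by simp only [Category.assoc]
    _ = 1 ≫ b := by rw [h1]
    _ = 1 := MonObj.one_comp b

theorem trivOn_of_map (u : G ⟶ H) {Y S' : Scheme.{u}} (q : Y ⟶ S) (g : S' ⟶ Y)
    (hu : TrivOn ((Over.pullback q).map u) g) : TrivOn u (g ≫ q) := by
  intro T z
  let e := mapCompIso q g T
  obtain ⟨t, ht⟩ := adjPt_surjective q G (T := (Over.map g).obj T) (e.hom ≫ z)
  have h1 := hu T t
  have h2 : (e.hom ≫ z) ≫ u = 1 := by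
    rw [← ht, ← adjPt_map, h1, adjPt_one]
  have h3 : z ≫ u = e.inv ≫ (e.hom ≫ z) ≫ u := by
    rw [Category.assoc, Iso.inv_hom_id_assoc]
  rw [h3, h2, MonObj.comp_one]

theorem trivOn_descend (u : G ⟶ H) {S' S'' : Scheme.{u}} (g : S' ⟶ S) (h : S'' ⟶ S')
    [Flat h] [Surjective h] (hu : TrivOn u (h ≫ g)) : TrivOn u g := by
  intro T z
  let T'' : Over S'' := Over.mk (pullback.snd T.hom h)
  let p : pullback T.hom h ⟶ T.left := pullback.fst T.hom h
  haveI : Flat p := inferInstanceAs (Flat (pullback.fst T.hom h))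
  haveI : Surjective p := inferInstanceAs (Surjective (pullback.fst T.hom h))
  haveI : Epi p := Flat.epi_of_flat_of_surjective p
  let π : (Over.map (h ≫ g)).obj T'' ⟶ (Over.map g).obj T := Over.homMk p (by
    change p ≫ T.hom ≫ g = pullback.snd T.hom h ≫ h ≫ g
    rw [← Category.assoc, pullback.condition, Category.assoc])
  haveI : Epi π.left := ‹Epi p›
  haveI : Epi π := Over.epi_of_epi_left π
  have h1 := hu T'' (π ≫ z)
  rw [Category.assoc, ← MonObj.comp_one π] at h1
  exact (cancel_epi π).mp h1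

end TrivOn

section Fields

theorem flat_surj_of_fields (F Ω : Type u) [Field F] [Field Ω]
    (b : Spec (CommRingCat.of Ω) ⟶ Spec (CommRingCat.of F)) : Flat b ∧ Surjective b := by
  have hb : b = Spec.map (CommRingCat.ofHom (Spec.preimage b).hom) := by
    rw [CommRingCat.ofHom_hom, Spec.map_preimage]
  have h := fpqc_of_fields (Spec.preimage b).hom
  rw [← hb] at h
  exact ⟨h.1.2, h.1.1⟩

end Fields

section Main

variable (S : Scheme.{u}) (T : Over S) [GrpObj T]

theorem multTypeFT_DS (M : Type) [AddCommGroup M] (hM : AddGroup.FG M) :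
    SGA3x.IsMultTypeFT (Red.DS S M) := by
  refine ⟨S, 𝟙 S, inferInstance, inferInstance, fun V hV => ⟨V, hV.isCompact, by simp⟩,
    fun s => ⟨⊤, trivial, M, inferInstance, hM, ⟨grpDS _ M⟩⟩⟩

/-- a faithfully flat character is non-trivial after every non-empty base change -/
theorem not_triv_of_ff {S' : Scheme.{u}} (g : S' ⟶ S) (s' : S') (α : T ⟶ Red.Gm S) [IsMonHom α]
    (hff : Flat α.left ∧ Surjective α.left) : (Over.pullback g).map α ≠ 1 := by
  intro h
  haveI : Flat ((Over.pullback g).map α).left := prop_map_left g α @Flat hff.1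
  haveI : Surjective ((Over.pullback g).map α).left := prop_map_left g α @Surjective hff.2
  haveI : Epi ((Over.pullback g).map α).left := Flat.epi_of_flat_of_surjective _
  haveI : Epi ((Over.pullback g).map α) := Over.epi_of_epi_left _
  have h1 : (𝟙 (Red.bc g (Red.Gm S))) = 1 := by
    rw [← cancel_epi ((Over.pullback g).map α), Category.comp_id, MonObj.comp_one, h]
  let e := overIso (grpDS g ℤ)
  have h2 : (𝟙 (Red.DS S' ℤ)) = 1 := by
    have h3 : 𝟙 (Red.DS S' ℤ) = e.inv ≫ 𝟙 _ ≫ e.hom := by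
      rw [Category.id_comp, Iso.inv_hom_id]
    rw [h3, h1, MonObj.one_comp, MonObj.comp_one]
  have h4 : Red.DSmap S' (AddMonoidHom.id ℤ) = Red.DSmap S' (0 : ℤ →+ ℤ) := by
    rw [DSmap_id, DSmap_zero, h2]
    exact Hom.one_def
  have h5 := DFunLike.congr_fun (DSmap_injective s' _ _ h4) 1
  simp at h5

/-- a character of a torus which is non-trivial on all geometric fibres is faithfully flat -/
theorem ff_of_fibres (hT : Red.IsTorus T) (α : T ⟶ Red.Gm S) [IsMonHom α]
    (h : ∀ s : S, (Over.pullback (Red.geomPt s)).map α ≠ 1) :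
    Flat α.left ∧ Surjective α.left := by
  haveI := Groth.Agent.Helper8.DHomG.flat_descendsAlong.{u}
  have hZ : AddGroup.FG ℤ := Module.Finite.iff_addGroup_fg.mp inferInstance
  haveI := hZ
  obtain ⟨U, -, hU, hUff⟩ := Groth.Agent.Helper8.DHomG.ff_locus T (Red.Gm S)
    (locTriv_of_isTorus hT) (multTypeFT_DS S ℤ hZ) α
  obtain ⟨S₁, f₁, hf₁, hs₁, hc₁, hG⟩ := hT
  haveI := hs₁
  have hall : ∀ s : S, s ∈ U := by
    intro s
    obtain ⟨y, rfl⟩ := f₁.surjective s
    rw [hU]
    obtain ⟨Y', hy, r, ⟨eG⟩⟩ := hG y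
    let q' : (Y' : Scheme.{u}) ⟶ S := Y'.ι ≫ f₁
    let eH : Grp.mk (Red.bc q' (Red.Gm S)) ≅ Grp.mk (Red.DS (Y' : Scheme.{u}) ℤ) := grpDS q' ℤ
    let y' : Y' := ⟨y, hy⟩
    let iG := overIso eG
    let iH := overIso eH
    haveI : IsMonHom ((Over.pullback q').map α) := inferInstance
    let u' : Red.DS (Y' : Scheme.{u}) (Fin r → ℤ) ⟶ Red.DS (Y' : Scheme.{u}) ℤ :=
      iG.inv ≫ (Over.pullback q').map α ≫ iH.hom
    haveI : IsMonHom u' := inferInstance
    obtain ⟨W, φ, hyW, hW⟩ := local_eq u' y'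
    have key : ∀ (P : MorphismProperty Scheme.{u}) [P.RespectsIso] {Z' : Scheme.{u}}
        (g₀ : Z' ⟶ (W : Scheme.{u})),
        BCP P α (g₀ ≫ W.ι ≫ q') ↔ BCP P (Red.DSmap (Y' : Scheme.{u}) φ) (g₀ ≫ W.ι) := by
      intro P _ Z' g₀
      rw [← Category.assoc, BCP_comp P α q' (g₀ ≫ W.ι),
        ← BCP_conj P ((Over.pullback q').map α) iG.symm iH (g₀ ≫ W.ι)]
      change BCP P u' (g₀ ≫ W.ι) ↔ _
      rw [BCP_comp P u' W.ι g₀, hW, ← BCP_comp P (Red.DSmap (Y' : Scheme.{u}) φ) W.ι g₀]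
    by_cases hφ : φ = 0
    · exfalso
      have t1 : TrivOn u' W.ι := by
        rw [trivOn_iff, hW, hφ, DSmap_zero, ← Hom.one_def]
        exact Functor.map_one _
      have t2 : TrivOn ((Over.pullback q').map α) W.ι := by
        have h1 := trivOn_conj u' iG.hom iH.inv W.ι t1
        have e : iG.hom ≫ u' ≫ iH.inv = (Over.pullback q').map α := by
          change iG.hom ≫ (iG.inv ≫ (Over.pullback q').map α ≫ iH.hom) ≫ iH.inv = _
          simp only [Category.assoc, Iso.hom_inv_id, Category.comp_id, Iso.hom_inv_id_assoc]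
        rwa [e] at h1
      have t3 : TrivOn α (W.ι ≫ q') := trivOn_of_map α q' W.ι t2
      obtain ⟨Ω, _, a, b, hab⟩ := exists_geom_point (W.ι ≫ q') ⟨y', hyW⟩
      have t4 : TrivOn α (a ≫ W.ι ≫ q') := trivOn_comp α _ a t3
      rw [hab] at t4
      obtain ⟨hb1, hb2⟩ := flat_surj_of_fields _ _ b
      have t5 := trivOn_descend α _ b t4
      exact h _ ((trivOn_iff α _).mp t5)
    · have hinj : Function.Injective φ := by
        rw [injective_iff_map_eq_zero]
        intro n hn
        by_contra hn0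
        apply hφ
        have h1 : φ 1 = 0 := by
          have h2 : n • φ 1 = 0 := by rw [← map_zsmul, smul_eq_mul, _root_.mul_one, hn]
          exact (smul_eq_zero.mp h2).resolve_left hn0
        exact AddMonoidHom.ext_int (by rw [h1]; rfl)
      have h4 : BCP (@Flat ⊓ @Surjective : MorphismProperty Scheme.{u}) α
          (𝟙 _ ≫ W.ι ≫ q') :=
        (key (@Flat ⊓ @Surjective : MorphismProperty Scheme.{u}) (𝟙 _)).mpr
          (flat_surjective_of_injective φ hinj _)
      rw [Category.id_comp] at h4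
      exact mem_locus_of_BCP (@Flat ⊓ @Surjective : MorphismProperty Scheme.{u}) α
        (W.ι ≫ q') h4 ⟨y', hyW⟩
  have hUtop : U = ⊤ := by
    ext s
    simp [hall s]
  subst hUtop
  have sq := isPullback_map_left (⊤ : S.Opens).ι α
  haveI : IsIso (⊤ : S.Opens).ι := inferInstanceAs (IsIso (Scheme.topIso S).hom)
  have e : α.left = inv (pullback.fst T.hom (⊤ : S.Opens).ι) ≫
      ((Over.pullback (⊤ : S.Opens).ι).map α).left ≫
        pullback.fst (Red.Gm S).hom (⊤ : S.Opens).ι := by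
    rw [IsIso.eq_inv_comp]
    exact sq.w
  haveI := hUff.1
  haveI := hUff.2
  constructor
  · rw [e]
    infer_instance
  · rw [e]
    infer_instance

/-- **Characters of tori: fibrewise non-trivial iff universally non-trivial iff faithfully flat.** -/
theorem main (hT : Red.IsTorus T) (α : T ⟶ Red.Gm S) [IsMonHom α] :
    ((∀ s : S, (Over.pullback (Red.geomPt s)).map α ≠ 1) ↔
      (∀ (S' : Scheme.{u}) (g : S' ⟶ S), Nonempty ↥S' → (Over.pullback g).map α ≠ 1)) ∧
    ((∀ s : S, (Over.pullback (Red.geomPt s)).map α ≠ 1) ↔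
      (Flat α.left ∧ Surjective α.left)) := by
  have h13 := ff_of_fibres S T hT α
  have h32 : (Flat α.left ∧ Surjective α.left) →
      ∀ (S' : Scheme.{u}) (g : S' ⟶ S), Nonempty ↥S' → (Over.pullback g).map α ≠ 1 :=
    fun hff S' g ⟨s'⟩ => not_triv_of_ff S T g s' α hff
  have h21 : (∀ (S' : Scheme.{u}) (g : S' ⟶ S), Nonempty ↥S' → (Over.pullback g).map α ≠ 1) →
      ∀ s : S, (Over.pullback (Red.geomPt s)).map α ≠ 1 :=
    fun h s => h _ (Red.geomPt s)
      ⟨(⊥ : PrimeSpectrum (AlgebraicClosure (S.residueField s)))⟩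
  exact ⟨⟨fun h => h32 (h13 h), h21⟩, ⟨h13, fun hff => h21 (h32 hff)⟩⟩

end Main

end Groth.Agent.Helper8.DHomK
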