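import Mathlib

/-!
# General lemmas for "trivial inertia ⇒ unramified"
-/

namespace Groth.Agent.Helper8.Unram

open Polynomial IntermediateField
open scoped Pointwise

/-- In a finite field extension there is an element moved by every non-trivial automorphism. -/
theorem exists_free_element (κ E : Type*) [Field κ] [Field E] [Algebra κ E]
    [FiniteDimensional κ E] : ∃ θ : E, ∀ σ : E ≃ₐ[κ] E, σ θ = θ → σ = 1 := by
  obtain ⟨θ, hθ⟩ := Field.exists_primitive_element (FixedPoints.subfield (E ≃ₐ[κ] E) E) E
  refine ⟨θ, fun σ hσ => ?_⟩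
  have h1 : (⊤ : IntermediateField (FixedPoints.subfield (E ≃ₐ[κ] E) E) E) ≤
      FixedBy.intermediateField (FixedPoints.subfield (E ≃ₐ[κ] E) E) E σ := by
    rw [← hθ, IntermediateField.adjoin_simple_le_iff]
    exact hσ
  ext x
  exact h1 (IntermediateField.mem_top)

/-- If a finite family of `κ`-algebra endomorphisms moves `x` to pairwise distinct elements,
the minimal polynomial of `x` has degree at least the size of the family. -/
theorem card_le_natDegree_minpoly {κ E Γ : Type*} [Field κ] [Field E] [Algebra κ E] [Fintype Γ]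
    (act : Γ → E →ₐ[κ] E) (x : E) (hint : IsIntegral κ x)
    (hinj : Function.Injective (fun g => act g x)) :
    Fintype.card Γ ≤ (minpoly κ x).natDegree := by
  classical
  set p := minpoly κ x with hp
  have hroot : ∀ g : Γ, (p.map (algebraMap κ E)).IsRoot (act g x) := by
    intro g
    rw [Polynomial.IsRoot.def, Polynomial.eval_map, ← Polynomial.aeval_def,
      Polynomial.aeval_algHom_apply, minpoly.aeval, map_zero]
  have hp0 : p.map (algebraMap κ E) ≠ 0 :=
    (Polynomial.map_ne_zero_iff (algebraMap κ E).injective).mpr (minpoly.ne_zero hint)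
  calc Fintype.card Γ = (Finset.univ.image (fun g : Γ => act g x)).card := by
        rw [Finset.card_image_of_injective _ hinj, Finset.card_univ]
    _ ≤ (p.map (algebraMap κ E)).roots.toFinset.card := Finset.card_le_card (by
        intro y hy
        obtain ⟨g, -, rfl⟩ := Finset.mem_image.mp hy
        exact Multiset.mem_toFinset.mpr ((Polynomial.mem_roots hp0).mpr (hroot g)))
    _ ≤ Multiset.card (p.map (algebraMap κ E)).roots := Multiset.toFinset_card_le _
    _ ≤ (p.map (algebraMap κ E)).natDegree := Polynomial.card_roots' _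
    _ = p.natDegree := Polynomial.natDegree_map _

theorem adjoin_eq_top_of_free_orbit (K L G : Type*) [Field K] [Field L] [Algebra K L] [Group G]
    [Finite G] [MulSemiringAction G L] [IsGaloisGroup G K L] (x : L)
    (hx : ∀ g : G, g • x = x → g = 1) : K⟮x⟯ = ⊤ := by
  classical
  haveI : Fintype G := Fintype.ofFinite G
  haveI : IsGalois K L := IsGaloisGroup.isGalois G K L
  haveI : FiniteDimensional K L := IsGaloisGroup.finiteDimensional G K L
  haveI : SMulCommClass G K L := IsGaloisGroup.commutes
  have hint : IsIntegral K x := Algebra.IsIntegral.isIntegral x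
  have hinj : Function.Injective (fun g : G => (MulSemiringAction.toAlgHom K L g) x) := by
    intro g h hgh
    simp only [MulSemiringAction.toAlgHom_apply] at hgh
    have h1 : (h⁻¹ * g) • x = x := by rw [mul_smul, hgh, inv_smul_smul]
    exact (inv_mul_eq_one.mp (hx _ h1)).symm
  have h1 := card_le_natDegree_minpoly (fun g : G => MulSemiringAction.toAlgHom K L g) x hint hinj
  have hGL : Nat.card G = Module.finrank K L := IsGaloisGroup.card_eq_finrank G K L
  rw [Field.primitive_element_iff_minpoly_natDegree_eq]
  apply le_antisymm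
  · rw [← IntermediateField.adjoin.finrank hint]
    exact (K⟮x⟯).toSubalgebra.toSubmodule.finrank_le
  · rw [← hGL, Nat.card_eq_fintype_card]
    exact h1

theorem adjoin_eq_top_of_unit_derivative (R S K L : Type*) [CommRing R] [IsDomain R]
    [IsIntegrallyClosed R] [CommRing S] [Algebra R S] [Algebra.IsIntegral R S] [Field K]
    [Field L] [Algebra R K] [IsFractionRing R K] [Algebra S L] [Algebra K L] [Algebra R L]
    [IsScalarTower R K L] [IsScalarTower R S L] [FiniteDimensional K L] [Algebra.IsSeparable K L]
    (hSL : Function.Injective (algebraMap S L))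
    (θ : S) (hθ : K⟮algebraMap S L θ⟯ = ⊤) (f : R[X]) (hf : f.Monic)
    (hfθ : Polynomial.aeval θ f = 0) (hdeg : f.natDegree = Module.finrank K L)
    (hunit : IsUnit (Polynomial.aeval θ (derivative f))) :
    Algebra.adjoin R {θ} = ⊤ := by
  haveI : Nontrivial S := (algebraMap S L).domain_nontrivial
  set θL := algebraMap S L θ with hθL
  have hθint : IsIntegral R θL := (Algebra.IsIntegral.isIntegral θ).algebraMap
  have hKint : IsIntegral K θL := Algebra.IsIntegral.isIntegral _
  have hadjK : Algebra.adjoin K {θL} = ⊤ := by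
    rw [← IntermediateField.adjoin_simple_toSubalgebra_of_isAlgebraic hKint.isAlgebraic, hθ,
      IntermediateField.top_toSubalgebra]
  have hmin : minpoly K θL = f.map (algebraMap R K) := by
    have hdvd : minpoly K θL ∣ f.map (algebraMap R K) :=
      minpoly.dvd K θL (by
        rw [Polynomial.aeval_map_algebraMap, hθL, Polynomial.aeval_algebraMap_apply, hfθ,
          map_zero])
    have hdegmin : (minpoly K θL).natDegree = Module.finrank K L :=
      (Field.primitive_element_iff_minpoly_natDegree_eq K θL).mp hθ
    refine (Polynomial.eq_of_monic_of_dvd_of_natDegree_le (minpoly.monic hKint)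
      (hf.map _) hdvd ?_).symm
    rw [hf.natDegree_map, hdeg, hdegmin]
  set δ : L := Polynomial.aeval θL (derivative (minpoly K θL)) with hδ
  have hδ' : δ = algebraMap S L (Polynomial.aeval θ (derivative f)) := by
    rw [hδ, hmin, Polynomial.derivative_map, Polynomial.aeval_map_algebraMap, hθL,
      Polynomial.aeval_algebraMap_apply]
  have hdual := traceForm_dualSubmodule_adjoin R K hadjK hθint
  have key : ∀ s : S, algebraMap S L s ∈
      (Algebra.traceForm K L).dualSubmodule (Subalgebra.toSubmodule (Algebra.adjoin R {θL})) := by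
    intro s
    rw [LinearMap.BilinForm.mem_dualSubmodule]
    intro y hy
    have hyint : IsIntegral R y :=
      (Algebra.adjoin_le (S := integralClosure R L) (Set.singleton_subset_iff.mpr hθint)) hy
    have h1 : IsIntegral R (algebraMap S L s * y) :=
      ((Algebra.IsIntegral.isIntegral s).algebraMap).mul hyint
    have htr := Algebra.isIntegral_trace (L := K) h1
    obtain ⟨r, hr⟩ := IsIntegrallyClosed.isIntegral_iff.mp htr
    rw [Algebra.traceForm_apply]
    exact Submodule.mem_one.mpr ⟨r, hr⟩
  rw [hdual] at key
  rw [eq_top_iff]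
  intro s₀ _
  obtain ⟨u, hu⟩ := hunit
  have h2 := key ((↑u⁻¹ : S) * s₀)
  rw [Submodule.mem_smul_pointwise_iff_exists] at h2
  obtain ⟨y, hy, hy2⟩ := h2
  have hδ0 : δ ≠ 0 := by
    rw [hδ', ← hu]
    intro h0
    have : (u : S) = 0 := hSL (by rw [h0, map_zero])
    exact u.ne_zero this
  have hy3 : y = algebraMap S L s₀ := by
    have : y = δ * (δ⁻¹ • y) := by rw [smul_eq_mul, mul_inv_cancel_left₀ hδ0]
    rw [this, hy2, hδ', ← hu, ← map_mul, ← mul_assoc, Units.mul_inv, one_mul]
  rw [hy3] at hy
  have h3 : Algebra.adjoin R {θL} =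
      Subalgebra.map (IsScalarTower.toAlgHom R S L) (Algebra.adjoin R {θ}) := by
    rw [← Algebra.adjoin_algebraMap, Set.image_singleton]
  have hy' : algebraMap S L s₀ ∈ Algebra.adjoin R {θL} := hy
  rw [h3] at hy'
  obtain ⟨s', hs', hs'2⟩ := hy'
  have : s' = s₀ := hSL hs'2
  rwa [← this]

end Groth.Agent.Helper8.Unram
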