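import Groth.Agent.Helper8.NGC1
import Groth.Agent.Helper8.LocalUF
import Groth.Agent.Helper3.SteinG5
import Groth.Agent.S17963
import Groth.Agent.Lead.H0GeomA
import Groth.Agent.Helper1.Seesaw10
import Groth.Agent.S1335
import Groth.Agent.S1339
import Groth.Agent.S1363

/-!
# The number of geometric connected components is locally constant
(for proper flat finitely presented morphisms with geometrically reduced fibres)

Level sets are locally constructible (S1339), the count is lower semicontinuous (S1363) and
compatible with base change (S1335).  It remains to bound the generic count by the special one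
along a specialization; we base change to a valuation ring `V` with algebraically closed fraction
field.  Such a ring is henselian, so every connected component `D` of the total space has a
connected closed fibre (S17963); as that fibre is reduced over an algebraically closed field,
`H⁰(D₀, O) = κ`, hence `O → g_* O_D` is an isomorphism (local form of helper1's `UF8`), and then
all fibres of `D` are geometrically connected (helper3's `SteinG`).
-/

set_option autoImplicit false
set_option linter.style.haveILetI false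
set_option linter.unusedSectionVars false
set_option linter.unusedVariables false

universe u

open CategoryTheory CategoryTheory.Limits AlgebraicGeometry Topology TopologicalSpace

namespace Groth.Agent.Helper8.NGC

/-- pointwise version of `Helper1.UF.isIso_appTop_of_geometric` -/
theorem isIso_appTop_of_fiber {X S : Scheme.{u}} (f : X ⟶ S) [IsProper f] (s : S)
    [IsAlgClosed (S.residueField s)] [IsReduced (f.fiber s)] [ConnectedSpace ↥(f.fiber s)] :
    IsIso (f.fiberToSpecResidueField s).appTop := by
  haveI hfin : Module.Finite (S.residueField s) Γ(f.fiber s, ⊤) :=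
    Groth.Agent.Helper1.Seesaw.finite_Γ_fiber f s
  haveI : IsProper (f.fiberToSpecResidueField s) :=
    MorphismProperty.pullback_snd (P := @IsProper) f (S.fromSpecResidueField s) inferInstance
  haveI : CompactSpace ↥(f.fiber s) :=
    QuasiCompact.compactSpace_of_compactSpace (f.fiberToSpecResidueField s)
  haveI : Nontrivial Γ(f.fiber s, ⊤) := Groth.Agent.Lead.H0Geom.nontrivial_Γ _
  haveI : PreconnectedSpace (PrimeSpectrum Γ(f.fiber s, ⊤)) :=
    Groth.Agent.Lead.H0Geom.preconnectedSpace_spec_Γ _
  have h1 : Module.finrank (S.residueField s) Γ(f.fiber s, ⊤) = 1 :=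
    Groth.Agent.Lead.H0Geom.finrank_eq_one_of_reduced_connected (S.residueField s) _
  have hbij := Groth.Agent.Helper1.Seesaw.bijective_algebraMap_of_finrank_eq_one f s h1
  have hbij' : Function.Bijective ((f.fiberToSpecResidueField s).app ⊤).hom := by
    have hI : Function.Bijective (Scheme.ΓSpecIso (S.residueField s)).inv.hom :=
      ConcreteCategory.bijective_of_isIso (Scheme.ΓSpecIso (S.residueField s)).inv
    have : (algebraMap (S.residueField s) Γ(f.fiber s, ⊤) : S.residueField s → Γ(f.fiber s, ⊤)) =
        ((f.fiberToSpecResidueField s).app ⊤).hom ∘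
          (Scheme.ΓSpecIso (S.residueField s)).inv.hom := rfl
    rw [this] at hbij
    exact (Function.Bijective.of_comp_iff _ hI).mp hbij
  exact (ConcreteCategory.isIso_iff_bijective _).mpr hbij'

section Val

variable {Ω : Type u} [Field Ω] [IsAlgClosed Ω] (V : ValuationSubring Ω)

/-- the closed point of `Spec V` as a morphism -/
noncomputable abbrev ιk : Spec (CommRingCat.of (↥V ⧸ IsLocalRing.maximalIdeal ↥V)) ⟶
    Spec (CommRingCat.of ↥V) :=
  Spec.map (CommRingCat.ofHom (Ideal.Quotient.mk (IsLocalRing.maximalIdeal ↥V)))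

/-- the generic point of `Spec V` as a morphism -/
noncomputable abbrev ιΩ : Spec (CommRingCat.of Ω) ⟶ Spec (CommRingCat.of ↥V) :=
  Spec.map (CommRingCat.ofHom (algebraMap ↥V Ω))

theorem ιk_apply (x₀ : ↥(Spec (CommRingCat.of (↥V ⧸ IsLocalRing.maximalIdeal ↥V)))) :
    ιk V x₀ = IsLocalRing.closedPoint ↥V := by
  have hle : IsLocalRing.maximalIdeal ↥V ≤ (ιk V x₀).asIdeal := by
    intro a ha
    show Ideal.Quotient.mk (IsLocalRing.maximalIdeal ↥V) a ∈ x₀.asIdeal
    rw [Ideal.Quotient.eq_zero_iff_mem.mpr ha]
    exact zero_mem _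
  have heq := (IsLocalRing.maximalIdeal.isMaximal ↥V).eq_of_le (ιk V x₀).isPrime.ne_top hle
  exact PrimeSpectrum.ext heq.symm

theorem nonempty_Spec_k :
    Nonempty ↥(Spec (CommRingCat.of (↥V ⧸ IsLocalRing.maximalIdeal ↥V))) :=
  ⟨(⟨⊥, Ideal.isPrime_bot⟩ : PrimeSpectrum (↥V ⧸ IsLocalRing.maximalIdeal ↥V))⟩

theorem range_ιk : Set.range (ιk V) = {IsLocalRing.closedPoint ↥V} := by
  ext b
  constructor
  · rintro ⟨x₀, rfl⟩
    exact ιk_apply V x₀
  · rintro rfl
    obtain ⟨x₀⟩ := nonempty_Spec_k V
    exact ⟨x₀, ιk_apply V x₀⟩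

theorem closedPoint_mem_of_isClosed {Z : Set ↥(Spec (CommRingCat.of ↥V))} (hZ : IsClosed Z)
    (hne : Z.Nonempty) : IsLocalRing.closedPoint ↥V ∈ Z := by
  obtain ⟨b, hb⟩ := hne
  exact (IsLocalRing.specializes_closedPoint b).mem_closed hZ hb

theorem eq_top_of_closedPoint_mem (W : (Spec (CommRingCat.of ↥V)).Opens)
    (h : IsLocalRing.closedPoint ↥V ∈ W) : W = ⊤ := by
  ext b
  simp only [SetLike.mem_coe, Opens.coe_top, Set.mem_univ, iff_true]
  exact (IsLocalRing.specializes_closedPoint b).mem_open W.2 h

/-- a connected scheme, proper flat finitely presented with geometrically reduced fibres over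
`Spec V`, has geometrically connected fibres -/
theorem geometricallyConnected_of_connected {D : Scheme.{u}} (g : D ⟶ Spec (CommRingCat.of ↥V))
    [IsProper g] [Flat g] [LocallyOfFinitePresentation g] [GeometricallyReduced g]
    [ConnectedSpace ↥D] : GeometricallyConnected g := by
  haveI : HenselianRing ↥V (IsLocalRing.maximalIdeal ↥V) := henselianRing (A := ↥V) Ω
  have hk : ConnectedSpace ↥(pullback g (ιk V)) :=
    (Groth.Agent.S17963.result ↥V (IsLocalRing.maximalIdeal ↥V) g).mp inferInstance
  have hrange : Set.range (pullback.fst g (ιk V)) = g ⁻¹' {IsLocalRing.closedPoint ↥V} := by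
    rw [Scheme.Pullback.range_fst, range_ιk]
  have hconn : _root_.IsConnected (g ⁻¹' {IsLocalRing.closedPoint ↥V}) := by
    rw [← hrange]
    exact isConnected_range (pullback.fst g (ιk V)).continuous
  haveI : ConnectedSpace ↥(g ⁻¹' {IsLocalRing.closedPoint ↥V}) :=
    isConnected_iff_connectedSpace.mp hconn
  haveI : ConnectedSpace ↥(g.fiber (IsLocalRing.closedPoint ↥V)) :=
    (g.fiberHomeo (IsLocalRing.closedPoint ↥V)).symm.surjective.connectedSpace
      (g.fiberHomeo (IsLocalRing.closedPoint ↥V)).symm.continuous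
  obtain ⟨π, hπ⟩ := exists_surjective_to_residueField ↥V (IsLocalRing.closedPoint ↥V)
    (IsLocalRing.maximalIdeal.isMaximal ↥V)
  haveI : IsAlgClosed ((Spec (CommRingCat.of ↥V)).residueField (IsLocalRing.closedPoint ↥V)) :=
    isAlgClosed_of_surjective Ω π hπ
  have hiso := isIso_appTop_of_fiber g (IsLocalRing.closedPoint ↥V)
  obtain ⟨W, hyW, hW⟩ := Groth.Agent.Helper8.LocalUF.exists_nhd_bijective g
    (IsLocalRing.closedPoint ↥V) hiso
  have hWtop : W = ⊤ := eq_top_of_closedPoint_mem V W hyW
  have happ : ∀ V₁ : (Spec (CommRingCat.of ↥V)).Opens, IsIso (g.app V₁) := fun V₁ =>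
    (ConcreteCategory.isIso_iff_bijective _).mpr (hW V₁ (hWtop ▸ le_top))
  haveI : Surjective g := by
    refine ⟨fun b => ?_⟩
    have hcl : IsClosed (Set.range g) := g.isClosedMap.isClosed_range
    obtain ⟨c, hc⟩ := closedPoint_mem_of_isClosed V hcl (Set.range_nonempty g)
    have hb : b ⤳ g c := hc ▸ IsLocalRing.specializes_closedPoint b
    obtain ⟨c', -, hc'⟩ := (Flat.generalizingMap (f := g)) hb
    exact ⟨c', hc'⟩
  exact Groth.Agent.Helper3.SteinG.geometricallyConnected_of_isIso_app g happ

/-- the generic fibre has at most as many connected components as the closed fibre -/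
theorem card_generic_le_card_closed {Y : Scheme.{u}} (g : Y ⟶ Spec (CommRingCat.of ↥V))
    [IsProper g] [Flat g] [LocallyOfFinitePresentation g] [GeometricallyReduced g] :
    ENat.card (_root_.ConnectedComponents ↥(pullback g (ιΩ V))) ≤
      ENat.card (_root_.ConnectedComponents ↥(pullback g (ιk V))) := by
  by_cases hfin : Finite (_root_.ConnectedComponents ↥(pullback g (ιk V)))
  swap
  · haveI : Infinite (_root_.ConnectedComponents ↥(pullback g (ιk V))) :=
      not_finite_iff_infinite.mp hfin
    rw [ENat.card_eq_top_of_infinite (α := _root_.ConnectedComponents ↥(pullback g (ιk V)))]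
    exact le_top
  have h1 : ENat.card (_root_.ConnectedComponents ↥Y) ≤
      ENat.card (_root_.ConnectedComponents ↥(pullback g (ιk V))) := by
    apply card_cc_le_of_meets (pullback.fst g (ιk V)).continuous
    intro y
    have hcl : IsClosed (g '' connectedComponent y) :=
      g.isClosedMap _ isClosed_connectedComponent
    obtain ⟨c, hc, hgc⟩ := closedPoint_mem_of_isClosed V hcl
      ⟨g y, y, mem_connectedComponent, rfl⟩
    obtain ⟨x₀⟩ := nonempty_Spec_k V
    obtain ⟨w, hw, -⟩ := Scheme.Pullback.exists_preimage_pullback (f := g) (g := ιk V) c x₀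
      (hgc.trans (ιk_apply V x₀).symm)
    exact ⟨w, hw ▸ hc⟩
  haveI : Finite (_root_.ConnectedComponents ↥Y) :=
    ENat.card_lt_top.mp (lt_of_le_of_lt h1 (ENat.card_lt_top.mpr hfin))
  refine le_trans ?_ h1
  apply card_cc_le_of_preconnected_preimage (pullback.fst g (ιΩ V)).continuous
  intro x
  have hclopen := isClopen_connectedComponent_of_finite (pullback.fst g (ιΩ V) x)
  let U : Y.Opens := ⟨connectedComponent (pullback.fst g (ιΩ V) x), hclopen.isOpen⟩
  haveI : IsClosedImmersion U.ι := IsClosedImmersion.of_isPreimmersion _ (by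
    rw [Scheme.Opens.range_ι]
    exact hclopen.isClosed)
  haveI : ConnectedSpace ↥(U : Scheme.{u}) :=
    isConnected_iff_connectedSpace.mp isConnected_connectedComponent
  haveI : GeometricallyReduced (U.ι ≫ g) := geometricallyReduced_comp_of_isOpenImmersion U.ι g
  have hgc : GeometricallyConnected (U.ι ≫ g) := geometricallyConnected_of_connected V (U.ι ≫ g)
  have sq : IsPullback (pullback.fst g (ιΩ V) ∣_ U)
      ((pullback.fst g (ιΩ V) ⁻¹ᵁ U).ι ≫ pullback.snd g (ιΩ V)) (U.ι ≫ g) (ιΩ V) := by
    have s1 : IsPullback (pullback.fst g (ιΩ V) ⁻¹ᵁ U).ι (pullback.fst g (ιΩ V) ∣_ U)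
        (pullback.fst g (ιΩ V)) U.ι := (isPullback_morphismRestrict (pullback.fst g (ιΩ V)) U).flip
    have s2 : IsPullback (pullback.snd g (ιΩ V)) (pullback.fst g (ιΩ V)) (ιΩ V) g :=
      (IsPullback.of_hasPullback g (ιΩ V)).flip
    exact (s1.paste_horiz s2).flip
  have hcs : ConnectedSpace ↥((pullback.fst g (ιΩ V) ⁻¹ᵁ U : (pullback g (ιΩ V)).Opens) :
      Scheme.{u}) :=
    GeometricallyConnected.geometrically_connectedSpace (ιΩ V) _ _ sq
  have hc : _root_.IsConnected ((pullback.fst g (ιΩ V) ⁻¹ᵁ U : (pullback g (ιΩ V)).Opens) :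
      Set ↥(pullback g (ιΩ V))) := isConnected_iff_connectedSpace.mpr hcs
  exact hc.isPreconnected

end Val

/-- the count does not go up under generization -/
theorem le_of_specializes {X S : Scheme.{u}} (f : X ⟶ S) [IsProper f] [Flat f]
    [LocallyOfFinitePresentation f] [GeometricallyReduced f] {z y : S} (h : z ⤳ y) :
    MoreMor.nGeomConnComp f z ≤ MoreMor.nGeomConnComp f y := by
  obtain ⟨Ω, _, _, V, φ, hφy, hφz⟩ := exists_valuationRing_of_specializes h
  have key := card_generic_le_card_closed V (pullback.snd f φ)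
  -- the generic point
  have sqΩ : IsPullback (pullback.fst (pullback.snd f φ) (ιΩ V) ≫ pullback.fst f φ)
      (pullback.snd (pullback.snd f φ) (ιΩ V)) f (ιΩ V ≫ φ) :=
    (IsPullback.of_hasPullback (pullback.snd f φ) (ιΩ V)).paste_horiz
      (IsPullback.of_hasPullback f φ)
  have eΩ := Groth.Agent.S1335.result f _ _ _ sqΩ (IsLocalRing.closedPoint Ω)
  rw [hφz] at eΩ
  have cΩ := nGeomConnComp_of_isAlgClosed Ω (pullback.snd (pullback.snd f φ) (ιΩ V))
    (IsLocalRing.closedPoint Ω)
  -- the closed point
  letI : Field (↥V ⧸ IsLocalRing.maximalIdeal ↥V) := Ideal.Quotient.field _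
  haveI : IsAlgClosed (↥V ⧸ IsLocalRing.maximalIdeal ↥V) :=
    isAlgClosed_of_surjective Ω (Ideal.Quotient.mk (IsLocalRing.maximalIdeal ↥V))
      Ideal.Quotient.mk_surjective
  obtain ⟨x₀⟩ := nonempty_Spec_k V
  have sqk : IsPullback (pullback.fst (pullback.snd f φ) (ιk V) ≫ pullback.fst f φ)
      (pullback.snd (pullback.snd f φ) (ιk V)) f (ιk V ≫ φ) :=
    (IsPullback.of_hasPullback (pullback.snd f φ) (ιk V)).paste_horiz
      (IsPullback.of_hasPullback f φ)
  have ek := Groth.Agent.S1335.result f _ _ _ sqk x₀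
  have hx₀ : (ιk V ≫ φ) x₀ = y := by
    rw [Scheme.Hom.comp_apply, ιk_apply, hφy]
  rw [hx₀] at ek
  have ck := nGeomConnComp_of_isAlgClosed (↥V ⧸ IsLocalRing.maximalIdeal ↥V)
    (pullback.snd (pullback.snd f φ) (ιk V)) x₀
  rw [← eΩ, ← ek, cΩ, ck]
  exact key

/-- **S1364** -/
theorem main {X S : Scheme.{u}} (f : X ⟶ S) [IsProper f] [Flat f]
    [LocallyOfFinitePresentation f] [GeometricallyReduced f] :
    IsLocallyConstant (fun s : ↑S => MoreMor.nGeomConnComp f s) := by
  apply isLocallyConstant_of_constructible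
  · intro c
    exact Groth.Agent.S1339.result f c
  · intro z y h
    apply le_antisymm (le_of_specializes f h)
    by_contra hlt
    rw [not_le] at hlt
    have hl := Groth.Agent.S1363.result f y (MoreMor.nGeomConnComp f z) hlt
    have h2 : ∀ᶠ x' in 𝓝 z, MoreMor.nGeomConnComp f z < MoreMor.nGeomConnComp f x' := h hl
    exact lt_irrefl _ h2.self_of_nhds

end Groth.Agent.Helper8.NGC
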