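import Mathlib
import Groth.Prelude.Def_Grpd
import Groth.Agent.Helper7.CartierDual

/-!
# Cartier's theorem for groupoid schemes on the spectrum of a field of characteristic zero
-/

set_option linter.style.haveILetI false
set_option linter.unusedSectionVars false
set_option autoImplicit false

universe u

open CategoryTheory CategoryTheory.Limits AlgebraicGeometry IsLocalRing TrivSqZeroExt

namespace Groth.Agent.Helper8.GrpdCartier

section alg

variable {A K Q : Type u} [CommRing A] [CommRing K] [CommRing Q]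

/-- the ring hom `a ↦ ι(ε a) + ι(d a) ε` to the dual numbers attached to a point derivation -/
noncomputable def dualHom (ι : K →+* Q) (ε : A →+* K) (d : A →+ K)
    (hd : ∀ a b, d (a * b) = ε a * d b + ε b * d a) (h1 : d 1 = 0) :
    A →+* TrivSqZeroExt Q Q where
  toFun a := inl (ι (ε a)) + inr (ι (d a))
  map_one' := by
    apply TrivSqZeroExt.ext
    · simp
    · simp [h1]
  map_mul' a b := by
    apply TrivSqZeroExt.ext
    · simp
    · simp only [snd_add, snd_inl, snd_inr, zero_add, snd_mul, fst_add, fst_inl, fst_inr, add_zero,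
        hd, map_add, map_mul, smul_eq_mul, MulOpposite.smul_eq_mul_unop, MulOpposite.unop_op]
      ring
  map_zero' := by
    apply TrivSqZeroExt.ext
    · simp
    · simp
  map_add' a b := by
    apply TrivSqZeroExt.ext
    · simp
    · simp

theorem dualHom_fst (ι : K →+* Q) (ε : A →+* K) (d : A →+ K)
    (hd : ∀ a b, d (a * b) = ε a * d b + ε b * d a) (h1 : d 1 = 0) (a : A) :
    (dualHom ι ε d hd h1 a).fst = ι (ε a) := by
  change (inl (ι (ε a)) + inr (ι (d a)) : TrivSqZeroExt Q Q).fst = _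
  simp

theorem dualHom_snd (ι : K →+* Q) (ε : A →+* K) (d : A →+ K)
    (hd : ∀ a b, d (a * b) = ε a * d b + ε b * d a) (h1 : d 1 = 0) (a : A) :
    (dualHom ι ε d hd h1 a).snd = ι (d a) := by
  change (inl (ι (ε a)) + inr (ι (d a)) : TrivSqZeroExt Q Q).snd = _
  simp

/-- the map of dual numbers induced by a ring hom -/
noncomputable def tszeMap (ρ : Q →+* K) : TrivSqZeroExt Q Q →+* TrivSqZeroExt K K where
  toFun z := inl (ρ z.fst) + inr (ρ z.snd)
  map_one' := by
    apply TrivSqZeroExt.ext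
    · simp
    · simp
  map_mul' a b := by
    apply TrivSqZeroExt.ext
    · simp
    · simp only [snd_add, snd_inl, snd_inr, zero_add, snd_mul, fst_add, fst_inl, fst_inr, add_zero,
        map_add, map_mul, smul_eq_mul, MulOpposite.smul_eq_mul_unop, MulOpposite.unop_op]
  map_zero' := by
    apply TrivSqZeroExt.ext
    · simp
    · simp
  map_add' a b := by
    apply TrivSqZeroExt.ext
    · simp
    · simp

theorem tszeMap_fst (ρ : Q →+* K) (z : TrivSqZeroExt Q Q) : (tszeMap ρ z).fst = ρ z.fst := by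
  change (inl (ρ z.fst) + inr (ρ z.snd) : TrivSqZeroExt K K).fst = _
  simp

theorem tszeMap_snd (ρ : Q →+* K) (z : TrivSqZeroExt Q Q) : (tszeMap ρ z).snd = ρ z.snd := by
  change (inl (ρ z.fst) + inr (ρ z.snd) : TrivSqZeroExt K K).snd = _
  simp

end alg

section grpd

variable {S : Scheme.{u}} (G : Grpd.GroupoidScheme S)

/-- composition of `T`-points -/
noncomputable def comp {T : Scheme.{u}} (α β : T ⟶ G.R) (h : α ≫ G.s = β ≫ G.t) : T ⟶ G.R :=
  pullback.lift α β h ≫ G.c

theorem comp_congr {T : Scheme.{u}} {α α' β β' : T ⟶ G.R} (h : α ≫ G.s = β ≫ G.t)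
    (hα : α = α') (hβ : β = β') :
    comp G α β h = comp G α' β' (by rw [← hα, ← hβ]; exact h) := by
  subst hα hβ; rfl

theorem precomp {T T' : Scheme.{u}} (g : T' ⟶ T) (α β : T ⟶ G.R) (h : α ≫ G.s = β ≫ G.t) :
    g ≫ comp G α β h = comp G (g ≫ α) (g ≫ β) (by rw [Category.assoc, Category.assoc, h]) := by
  unfold comp
  rw [← Category.assoc]
  congr 1
  apply pullback.hom_ext
  · rw [Category.assoc, pullback.lift_fst, pullback.lift_fst]
  · rw [Category.assoc, pullback.lift_snd, pullback.lift_snd]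

theorem comp_t' {T : Scheme.{u}} (α β : T ⟶ G.R) (h : α ≫ G.s = β ≫ G.t) :
    comp G α β h ≫ G.t = α ≫ G.t := G.comp_t α β h

theorem comp_s' {T : Scheme.{u}} (α β : T ⟶ G.R) (h : α ≫ G.s = β ≫ G.t) :
    comp G α β h ≫ G.s = β ≫ G.s := G.comp_s α β h

theorem comp_e' {T : Scheme.{u}} (α β : T ⟶ G.R) (hβ : β = α ≫ G.s ≫ G.e) :
    comp G α β (by
      rw [hβ, Category.assoc, Category.assoc, G.e_t, Category.comp_id]) = α := by
  subst hβ
  exact G.comp_e α

theorem e_comp' {T : Scheme.{u}} (α β : T ⟶ G.R) (hα : α = β ≫ G.t ≫ G.e) :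
    comp G α β (by
      rw [hα, Category.assoc, Category.assoc, G.e_s, Category.comp_id]) = β := by
  subst hα
  exact G.e_comp β

variable {K : Type u} [Field K] (eU : G.U ≅ Spec (CommRingCat.of K))

/-- the identity point as a morphism from `Spec K` -/
noncomputable def eL : Spec (CommRingCat.of K) ⟶ G.R := eU.inv ≫ G.e

/-- the identity point -/
noncomputable def x0 : G.R := (eL G eU) (closedPoint K)

/-- the augmentation of the local ring at the identity point -/
noncomputable def epsA : G.R.presheaf.stalk (x0 G eU) ⟶ CommRingCat.of K :=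
  Scheme.stalkClosedPointTo (eL G eU)

theorem spec_epsA : Spec.map (epsA G eU) ≫ G.R.fromSpecStalk (x0 G eU) = eL G eU :=
  Scheme.Spec_stalkClosedPointTo_fromSpecStalk (eL G eU)

/-- the source structure map of the local ring at the identity point -/
noncomputable def sK : CommRingCat.of K ⟶ G.R.presheaf.stalk (x0 G eU) :=
  Spec.preimage (G.R.fromSpecStalk (x0 G eU) ≫ G.s ≫ eU.hom)

/-- the target structure map of the local ring at the identity point -/
noncomputable def tK : CommRingCat.of K ⟶ G.R.presheaf.stalk (x0 G eU) :=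
  Spec.preimage (G.R.fromSpecStalk (x0 G eU) ≫ G.t ≫ eU.hom)

theorem spec_sK : Spec.map (sK G eU) = G.R.fromSpecStalk (x0 G eU) ≫ G.s ≫ eU.hom :=
  Spec.map_preimage _

theorem spec_tK : Spec.map (tK G eU) = G.R.fromSpecStalk (x0 G eU) ≫ G.t ≫ eU.hom :=
  Spec.map_preimage _

theorem eL_s : eL G eU ≫ G.s = eU.inv := by
  rw [eL, Category.assoc, G.e_s, Category.comp_id]

theorem eL_t : eL G eU ≫ G.t = eU.inv := by
  rw [eL, Category.assoc, G.e_t, Category.comp_id]

theorem sK_epsA : sK G eU ≫ epsA G eU = 𝟙 _ := by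
  apply Spec.map_injective
  rw [Spec.map_comp, spec_sK, ← Category.assoc, spec_epsA, ← Category.assoc, eL_s,
    Iso.inv_hom_id, Spec.map_id]

theorem tK_epsA : tK G eU ≫ epsA G eU = 𝟙 _ := by
  apply Spec.map_injective
  rw [Spec.map_comp, spec_tK, ← Category.assoc, spec_epsA, ← Category.assoc, eL_t,
    Iso.inv_hom_id, Spec.map_id]

/-- the point of `R` attached to a ring map out of the local ring at the identity -/
noncomputable def pt {R' : CommRingCat.{u}} (φ : G.R.presheaf.stalk (x0 G eU) ⟶ R') :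
    Spec R' ⟶ G.R :=
  Spec.map φ ≫ G.R.fromSpecStalk (x0 G eU)

theorem pt_s {R' : CommRingCat.{u}} (φ : G.R.presheaf.stalk (x0 G eU) ⟶ R') :
    pt G eU φ ≫ G.s = Spec.map (sK G eU ≫ φ) ≫ eU.inv := by
  rw [Spec.map_comp, Category.assoc, spec_sK, pt]
  simp only [Category.assoc, Iso.hom_inv_id, Category.comp_id]

theorem pt_t {R' : CommRingCat.{u}} (φ : G.R.presheaf.stalk (x0 G eU) ⟶ R') :
    pt G eU φ ≫ G.t = Spec.map (tK G eU ≫ φ) ≫ eU.inv := by
  rw [Spec.map_comp, Category.assoc, spec_tK, pt]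
  simp only [Category.assoc, Iso.hom_inv_id, Category.comp_id]

theorem pt_epsA : pt G eU (epsA G eU) = eL G eU := spec_epsA G eU

theorem map_pt {R' R'' : CommRingCat.{u}} (g : R' ⟶ R'')
    (φ : G.R.presheaf.stalk (x0 G eU) ⟶ R') : Spec.map g ≫ pt G eU φ = pt G eU (φ ≫ g) := by
  rw [pt, pt, Spec.map_comp, Category.assoc]

theorem pt_injective {R' : CommRingCat.{u}} (φ φ' : G.R.presheaf.stalk (x0 G eU) ⟶ R')
    (h : pt G eU φ = pt G eU φ') : φ = φ' := by
  rw [pt, pt, cancel_mono] at h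
  exact Spec.map_injective h

theorem pt_s_e {R' : CommRingCat.{u}} (φ : G.R.presheaf.stalk (x0 G eU) ⟶ R') :
    pt G eU φ ≫ G.s ≫ G.e = pt G eU (epsA G eU ≫ sK G eU ≫ φ) := by
  rw [← Category.assoc, pt_s, Category.assoc, ← eL, ← pt_epsA, map_pt]

theorem pt_t_e {R' : CommRingCat.{u}} (φ : G.R.presheaf.stalk (x0 G eU) ⟶ R') :
    pt G eU φ ≫ G.t ≫ G.e = pt G eU (epsA G eU ≫ tK G eU ≫ φ) := by
  rw [← Category.assoc, pt_t, Category.assoc, ← eL, ← pt_epsA, map_pt]

theorem exists_pt {R' : CommRingCat.{u}} [IsLocalRing R'] (ψ : Spec R' ⟶ G.R)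
    (ρ : R' ⟶ CommRingCat.of K) [IsLocalHom ρ.hom] (h : Spec.map ρ ≫ ψ = eL G eU) :
    ∃ φ : G.R.presheaf.stalk (x0 G eU) ⟶ R', pt G eU φ = ψ := by
  have hcp : ψ (closedPoint R') = x0 G eU := by
    have h2 := congrArg (fun f => f (closedPoint K)) h
    change ψ ((Spec.map ρ) (closedPoint K)) = _ at h2
    rw [Spec_closedPoint] at h2
    exact h2
  have key : ∀ (x : G.R) (hx : ψ (closedPoint R') = x),
      ∃ φ : G.R.presheaf.stalk x ⟶ R', Spec.map φ ≫ G.R.fromSpecStalk x = ψ := by
    intro x hx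
    subst hx
    exact ⟨Scheme.stalkClosedPointTo ψ, Scheme.Spec_stalkClosedPointTo_fromSpecStalk ψ⟩
  exact key _ hcp

theorem comp_eL_eL :
    comp G (eL G eU) (eL G eU) (by rw [eL_s, eL_t]) = eL G eU := by
  apply comp_e'
  rw [← Category.assoc, eL_s, eL]

end grpd

section main

open Groth.Agent.Helper7.UnitSm Groth.Agent.Helper7.CartierAlg

variable {S : Scheme.{u}} (G : Grpd.GroupoidScheme S) {K : Type u} [Field K]
  (eU : G.U ≅ Spec (CommRingCat.of K))

/-- the carrier of the local ring at the identity point -/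
abbrev A : Type u := ↑(G.R.presheaf.stalk (x0 G eU))

/-- the `K`-algebra structure (through the target map) of the local ring at the identity point -/
@[reducible] noncomputable def algInst : Algebra K (A G eU) := (tK G eU).hom.toAlgebra

attribute [local instance] algInst

theorem algebraMap_eq : algebraMap K (A G eU) = (tK G eU).hom := rfl

theorem epsA_tK (c : K) : (epsA G eU).hom ((tK G eU).hom c) = c :=
  congrArg (fun f => f.hom c) (tK_epsA G eU)

theorem epsA_sK (c : K) : (epsA G eU).hom ((sK G eU).hom c) = c :=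
  congrArg (fun f => f.hom c) (sK_epsA G eU)

/-- the augmentation as an algebra map -/
noncomputable def eps : A G eU →ₐ[K] K :=
  { (epsA G eU).hom with
    commutes' := fun c => epsA_tK G eU c }

theorem eps_apply (a : A G eU) : eps G eU a = (epsA G eU).hom a := rfl

theorem hasTruncDer : HasTruncDer (eps G eU) := by
  intro N d hd
  have hJ : I (eps G eU) ^ (N + 1) ≤ I (eps G eU) := Ideal.pow_le_self (Nat.succ_ne_zero N)
  have hne : I (eps G eU) ≠ ⊤ := by
    intro h
    have h1 : (1 : A G eU) ∈ I (eps G eU) := h ▸ Submodule.mem_top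
    rw [RingHom.mem_ker, map_one] at h1
    exact one_ne_zero h1
  have hJne : I (eps G eU) ^ (N + 1) ≠ ⊤ := fun h => hne (top_le_iff.mp (h ▸ hJ))
  haveI : Nontrivial (A G eU ⧸ I (eps G eU) ^ (N + 1)) := Ideal.Quotient.nontrivial_iff.mpr hJne
  haveI : IsLocalRing (A G eU ⧸ I (eps G eU) ^ (N + 1)) :=
    IsLocalRing.of_surjective' (Ideal.Quotient.mk (I (eps G eU) ^ (N + 1)))
      Ideal.Quotient.mk_surjective
  haveI : IsLocalRing (TrivSqZeroExt (A G eU ⧸ I (eps G eU) ^ (N + 1))
      (A G eU ⧸ I (eps G eU) ^ (N + 1))) :=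
    Groth.Agent.Helper7.CartierDual.isLocalRing_tsze _
  -- notation
  let Q : Type u := A G eU ⧸ I (eps G eU) ^ (N + 1)
  let π : A G eU →+* Q := Ideal.Quotient.mk (I (eps G eU) ^ (N + 1))
  let ρQ : Q →+* K := Ideal.Quotient.lift (I (eps G eU) ^ (N + 1)) (epsA G eU).hom
    (fun a ha => hJ ha)
  have hρQ : ∀ a, ρQ (π a) = (epsA G eU).hom a := fun a => rfl
  let ι : K →+* Q := π.comp (sK G eU).hom
  have hρι : ∀ x, ρQ (ι x) = x := fun x => epsA_sK G eU x
  have hd1 : d 1 = 0 := Groth.Agent.Helper7.CartierDual.isEpsDer_one (eps G eU) d hd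
  have hdt : ∀ x : K, d ((tK G eU).hom x) = 0 := by
    intro x
    have : (tK G eU).hom x = x • (1 : A G eU) := by
      rw [Algebra.smul_def, mul_one]; rfl
    rw [this, map_smul, hd1, smul_zero]
  let p₁ : A G eU →+* TrivSqZeroExt Q Q := (inlHom Q Q).comp π
  let p₂ : A G eU →+* TrivSqZeroExt Q Q :=
    dualHom ι (epsA G eU).hom d.toAddMonoidHom hd hd1
  have hp₂fst : ∀ a, (p₂ a).fst = ι ((epsA G eU).hom a) := fun a => dualHom_fst _ _ _ _ _ a
  have hp₂snd : ∀ a, (p₂ a).snd = ι (d a) := fun a => dualHom_snd _ _ _ _ _ a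
  let P₁ : G.R.presheaf.stalk (x0 G eU) ⟶ CommRingCat.of (TrivSqZeroExt Q Q) :=
    CommRingCat.ofHom p₁
  let P₂ : G.R.presheaf.stalk (x0 G eU) ⟶ CommRingCat.of (TrivSqZeroExt Q Q) :=
    CommRingCat.ofHom p₂
  -- composability
  have hst : sK G eU ≫ P₁ = tK G eU ≫ P₂ := by
    refine CommRingCat.hom_ext (RingHom.ext fun x => ?_)
    change p₁ ((sK G eU).hom x) = p₂ ((tK G eU).hom x)
    apply TrivSqZeroExt.ext
    · rw [hp₂fst, epsA_tK]; rfl
    · rw [hp₂snd, hdt, map_zero]; rfl
  have hcomp : pt G eU P₁ ≫ G.s = pt G eU P₂ ≫ G.t := by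
    rw [pt_s, pt_t, hst]
  set ψ := comp G (pt G eU P₁) (pt G eU P₂) hcomp with hψ
  -- the augmentation of the dual numbers
  let ρT : CommRingCat.of (TrivSqZeroExt Q Q) ⟶ CommRingCat.of K :=
    CommRingCat.ofHom (ρQ.comp (fstHom Q Q Q).toRingHom)
  have hρTsurj : Function.Surjective ρT.hom := by
    intro c
    refine ⟨inl (ι c), ?_⟩
    change ρQ ((inl (ι c) : TrivSqZeroExt Q Q).fst) = c
    rw [fst_inl, hρι]
  haveI : IsLocalHom ρT.hom := hρTsurj.isLocalHom _
  have hP₁ρ : P₁ ≫ ρT = epsA G eU := by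
    ext a
    change ρQ ((inl (π a) : TrivSqZeroExt Q Q).fst) = _
    rw [fst_inl, hρQ]
  have hP₂ρ : P₂ ≫ ρT = epsA G eU := by
    ext a
    change ρQ ((p₂ a).fst) = _
    rw [hp₂fst, hρι]
  have hψρ : Spec.map ρT ≫ ψ = eL G eU := by
    rw [hψ, precomp]
    have e1 : Spec.map ρT ≫ pt G eU P₁ = eL G eU := by rw [map_pt, hP₁ρ, pt_epsA]
    have e2 : Spec.map ρT ≫ pt G eU P₂ = eL G eU := by rw [map_pt, hP₂ρ, pt_epsA]
    rw [comp_congr G _ e1 e2, comp_eL_eL]
  obtain ⟨Δ, hΔ⟩ := exists_pt G eU ψ ρT hψρ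
  -- first component
  let F : CommRingCat.of (TrivSqZeroExt Q Q) ⟶ CommRingCat.of Q :=
    CommRingCat.ofHom (fstHom Q Q Q).toRingHom
  have hfst : Δ ≫ F = CommRingCat.ofHom π := by
    apply pt_injective G eU
    rw [← map_pt, hΔ, hψ, precomp]
    have e1 : Spec.map F ≫ pt G eU P₁ = pt G eU (CommRingCat.ofHom π) := by
      rw [map_pt]; rfl
    have e2 : Spec.map F ≫ pt G eU P₂ = pt G eU (CommRingCat.ofHom π) ≫ G.s ≫ G.e := by
      rw [map_pt, pt_s_e]
      congr 1
      ext a
      change (p₂ a).fst = _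
      rw [hp₂fst]; rfl
    rw [comp_congr G _ e1 e2]
    exact comp_e' G _ _ rfl
  -- target
  have htar : tK G eU ≫ Δ = tK G eU ≫ P₁ := by
    have h1 : pt G eU Δ ≫ G.t = pt G eU P₁ ≫ G.t := by
      rw [hΔ, hψ, comp_t']
    rw [pt_t, pt_t] at h1
    have h2 := (cancel_mono eU.inv).mp h1
    exact Spec.map_injective h2
  -- reduction to the residue field
  let Θ : CommRingCat.of (TrivSqZeroExt Q Q) ⟶ CommRingCat.of (TrivSqZeroExt K K) :=
    CommRingCat.ofHom (tszeMap ρQ)
  have hΘ : Δ ≫ Θ = P₂ ≫ Θ := by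
    apply pt_injective G eU
    rw [← map_pt, hΔ, hψ, precomp]
    have e2 : Spec.map Θ ≫ pt G eU P₂ = pt G eU (P₂ ≫ Θ) := map_pt G eU _ _
    have e1 : Spec.map Θ ≫ pt G eU P₁ = pt G eU (P₂ ≫ Θ) ≫ G.t ≫ G.e := by
      rw [map_pt, pt_t_e]
      congr 1
      refine CommRingCat.hom_ext (RingHom.ext fun a => ?_)
      change tszeMap ρQ (p₁ a) = tszeMap ρQ (p₂ ((tK G eU).hom ((epsA G eU).hom a)))
      apply TrivSqZeroExt.ext
      · rw [tszeMap_fst, tszeMap_fst, hp₂fst, epsA_tK, hρι]
        change ρQ ((inl (π a) : TrivSqZeroExt Q Q).fst) = _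
        rw [fst_inl, hρQ]
      · rw [tszeMap_snd, tszeMap_snd, hp₂snd, hdt, map_zero, map_zero]
        change ρQ ((inl (π a) : TrivSqZeroExt Q Q).snd) = _
        rw [snd_inl, map_zero]
    rw [comp_congr G _ e1 e2]
    exact e_comp' G _ _ rfl
  have hfst' : ∀ a, (Δ.hom a).fst = π a := fun a =>
    congrArg (fun f => f.hom a) hfst
  have htar' : ∀ x : K, Δ.hom ((tK G eU).hom x) = inl (π ((tK G eU).hom x)) := fun x =>
    congrArg (fun f => f.hom x) htar
  have hsnd : ∀ a, ρQ (Δ.hom a).snd = d a := by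
    intro a
    have h1 := congrArg (fun f => (f.hom a).snd) hΘ
    change (tszeMap ρQ (Δ.hom a)).snd = (tszeMap ρQ (p₂ a)).snd at h1
    rw [tszeMap_snd, tszeMap_snd, hp₂snd, hρι] at h1
    exact h1
  let L : A G eU →ₗ[K] Q :=
    { toFun := fun a => (Δ.hom a).snd
      map_add' := fun a b => by rw [map_add, snd_add]
      map_smul' := fun c a => by
        have : c • a = (tK G eU).hom c * a := by rw [Algebra.smul_def]; rfl
        rw [this, map_mul, htar', snd_mul, fst_inl, snd_inl, RingHom.id_apply,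
          MulOpposite.smul_eq_mul_unop, MulOpposite.unop_op, zero_mul, add_zero, smul_eq_mul,
          Algebra.smul_def]
        rfl }
  let D : Derivation K (A G eU) Q := Derivation.mk' L (fun a b => by
    change (Δ.hom (a * b)).snd = a • (Δ.hom b).snd + b • (Δ.hom a).snd
    rw [map_mul, snd_mul, hfst', hfst', smul_quot, smul_quot, smul_eq_mul,
      MulOpposite.smul_eq_mul_unop, MulOpposite.unop_op]
    ring)
  refine ⟨D, fun a => ?_⟩
  obtain ⟨b, hb⟩ := Ideal.Quotient.mk_surjective (D a)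
  refine ⟨b - algebraMap K (A G eU) (d a), ?_, ?_⟩
  · rw [RingHom.mem_ker, map_sub, AlgHom.commutes, Algebra.algebraMap_self_apply, sub_eq_zero]
    have := hsnd a
    change ρQ (D a) = d a at this
    rw [← hb] at this
    exact this
  · rw [← hb]
    congr 1
    ring

/-- **Cartier's theorem for groupoids, local form**: the local ring at the identity point of a
groupoid scheme on the spectrum of a field of characteristic zero, with target map locally of
finite type, is reduced. -/
theorem isReduced_stalk [CharZero K] [LocallyOfFiniteType G.t] :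
    _root_.IsReduced (G.R.presheaf.stalk (x0 G eU)) := by
  haveI : IsLocallyNoetherian G.U := isLocallyNoetherian_of_isOpenImmersion eU.hom
  haveI : IsLocallyNoetherian G.R := LocallyOfFiniteType.isLocallyNoetherian G.t
  haveI : IsNoetherianRing (A G eU) := inferInstance
  exact Groth.Agent.Helper7.CartierAlg.isReduced (eps G eU) (hasTruncDer G eU)

end main

end Groth.Agent.Helper8.GrpdCartier
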