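import Mathlib

/-!
# Subfields of finitely generated domains over a field are algebraic
-/

set_option linter.style.haveILetI false
set_option linter.unusedSectionVars false
set_option autoImplicit false

universe u

open Polynomial

namespace Groth.Agent.Helper8.SubfieldAlg

/-- Let `B` be a domain of finite type over a field `k` and `τ : K' → B` a ring map from a field.
Then every element in the image of `τ` is algebraic over `k`. -/
theorem isAlgebraic_map_of_field {k B K' : Type u} [Field k] [CommRing B] [IsDomain B] [Algebra k B]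
    [Algebra.FiniteType k B] [Field K'] (τ : K' →+* B) (x : K') : IsAlgebraic k (τ x) := by
  by_contra htr
  set f := τ x with hf
  have hinj : Function.Injective (aeval (R := k) f) := transcendental_iff_injective.mp htr
  letI : Algebra k[X] B := (aeval (R := k) f).toRingHom.toAlgebra
  have halg : ∀ p : k[X], algebraMap k[X] B p = aeval f p := fun p => rfl
  haveI : IsScalarTower k k[X] B := IsScalarTower.of_algebraMap_eq (fun c => by
    rw [halg, ← Polynomial.C_eq_algebraMap, aeval_C])
  haveI : Module.IsTorsionFree k[X] B := .of_smul_eq_zero (fun r m h => by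
    rw [Algebra.smul_def, mul_eq_zero, halg] at h
    exact h.imp (fun h => hinj (by rw [h, map_zero])) id)
  haveI : Module.Flat k[X] B := inferInstance
  haveI : Algebra.HasGoingDown k[X] B := Algebra.HasGoingDown.of_flat
  haveI : Algebra.FiniteType k[X] B := Algebra.FiniteType.of_restrictScalars_finiteType k k[X] B
  haveI : Algebra.FinitePresentation k[X] B :=
    Algebra.FinitePresentation.of_finiteType.mp inferInstance
  have hopen := PrimeSpectrum.isOpenMap_comap_of_hasGoingDown_of_finitePresentation
    (R := k[X]) (S := B)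
  have hV : IsOpen (Set.range (PrimeSpectrum.comap (algebraMap k[X] B))) := hopen.isOpen_range
  obtain ⟨I, hI⟩ := (PrimeSpectrum.isClosed_iff_zeroLocus_ideal _).mp hV.isClosed_compl
  -- the generic point is in the image
  have hbot : (⊥ : PrimeSpectrum k[X]) ∈ Set.range (PrimeSpectrum.comap (algebraMap k[X] B)) := by
    refine ⟨⟨⊥, Ideal.isPrime_bot⟩, ?_⟩
    apply PrimeSpectrum.ext
    change Ideal.comap (algebraMap k[X] B) ⊥ = ⊥
    rw [← RingHom.ker_eq_comap_bot]
    exact (RingHom.injective_iff_ker_eq_bot _).mp hinj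
  have hIne : I ≠ ⊥ := by
    rintro rfl
    have : (⊥ : PrimeSpectrum k[X]) ∈ (Set.range (PrimeSpectrum.comap (algebraMap k[X] B)))ᶜ := by
      rw [hI]
      simp
    exact this hbot
  obtain ⟨g, hgI, hg0⟩ := Submodule.exists_mem_ne_zero_of_ne_bot hIne
  -- a large `n` invertible in `k`
  obtain ⟨n, hn1, hnk⟩ : ∃ n : ℕ, g.natDegree < n ∧ (n : k) ≠ 0 := by
    by_cases h : ((g.natDegree + 1 : ℕ) : k) = 0
    · refine ⟨g.natDegree + 2, by omega, ?_⟩
      have : ((g.natDegree + 2 : ℕ) : k) = ((g.natDegree + 1 : ℕ) : k) + 1 := by push_cast; ring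
      rw [this, h, zero_add]
      exact one_ne_zero
    · exact ⟨g.natDegree + 1, by omega, h⟩
  have hn0 : n ≠ 0 := by omega
  -- `f ^ n - 1` is a unit
  have hxn : x ^ n - 1 ≠ 0 := by
    intro h
    apply htr
    refine ⟨X ^ n - 1, (monic_X_pow_sub_C (1 : k) hn0).ne_zero, ?_⟩
    simp only [map_sub, map_pow, aeval_X, map_one]
    rw [hf, ← map_pow, ← map_one τ, ← map_sub, h, map_zero]
  have hunit : IsUnit (f ^ n - 1) := by
    have : f ^ n - 1 = τ (x ^ n - 1) := by rw [map_sub, map_pow, map_one]
    rw [this]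
    exact (IsUnit.mk0 _ hxn).map τ
  -- hence the zero locus of `X ^ n - 1` misses the image
  have hsub : PrimeSpectrum.zeroLocus {(X ^ n - 1 : k[X])} ⊆ PrimeSpectrum.zeroLocus (I : Set k[X]) := by
    rw [← hI]
    rintro q hq ⟨Q, rfl⟩
    rw [PrimeSpectrum.mem_zeroLocus, Set.singleton_subset_iff] at hq
    have h1 : algebraMap k[X] B (X ^ n - 1) ∈ Q.asIdeal := hq
    rw [halg] at h1
    simp only [map_sub, map_pow, aeval_X, map_one] at h1
    exact Q.2.ne_top (Ideal.eq_top_of_isUnit_mem _ h1 hunit)
  rw [← PrimeSpectrum.zeroLocus_span, PrimeSpectrum.zeroLocus_subset_zeroLocus_iff] at hsub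
  obtain ⟨N, hN⟩ := hsub hgI
  rw [Ideal.mem_span_singleton] at hN
  have hsep : (X ^ n - 1 : k[X]).Separable := by
    rw [← C_1]
    exact separable_X_pow_sub_C (1 : k) hnk one_ne_zero
  have hrad : IsRadical (X ^ n - 1 : k[X]) :=
    (isRadical_iff_squarefree_of_ne_zero (monic_X_pow_sub_C (1 : k) hn0).ne_zero).mpr
      hsep.squarefree
  have hdvd : (X ^ n - 1 : k[X]) ∣ g := hrad N g hN
  have hdeg := natDegree_le_of_dvd hdvd hg0
  have hnd : (X ^ n - 1 : k[X]).natDegree = n := by
    rw [← C_1]; exact natDegree_X_pow_sub_C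
  rw [hnd] at hdeg
  omega

/-- Two sections of an augmentation of a domain of finite type over a field, one of them the
structure map, agree. -/
theorem eq_algebraMap_of_augmentation {k B : Type u} [Field k] [CommRing B] [IsDomain B]
    [Algebra k B] [Algebra.FiniteType k B] (τ : k →+* B) (ε : B →+* k)
    (hσ : ∀ x, ε (algebraMap k B x) = x) (hτ : ∀ x, ε (τ x) = x) : τ = algebraMap k B := by
  ext x
  by_contra hne
  have hy0 : τ x - algebraMap k B x ≠ 0 := sub_ne_zero.mpr hne
  have halg : IsAlgebraic k (τ x - algebraMap k B x) :=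
    (isAlgebraic_map_of_field τ x).sub (isAlgebraic_algebraMap x)
  have hu : IsUnit (τ x - algebraMap k B x) := halg.isIntegral.isUnit hy0
  have := hu.map ε
  rw [map_sub, hσ, hτ, sub_self] at this
  exact not_isUnit_zero this

end Groth.Agent.Helper8.SubfieldAlg
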