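import Mathlib
import Groth.Prelude.Def_Grpd
import Groth.Prelude.Def_Flat
import Groth.Agent.Helper8.GrpdCartier
import Groth.Agent.Helper8.SubfieldAlg

/-!
# The dimension of a groupoid on a field equals the dimension of its stabilizer
-/

set_option linter.style.haveILetI false
set_option linter.unusedSectionVars false
set_option autoImplicit false

universe u

open CategoryTheory CategoryTheory.Limits AlgebraicGeometry IsLocalRing

namespace Groth.Agent.Helper8.GrpdDim

open Groth.Agent.Helper8.GrpdCartier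

/-- minimal primes below a prime `P` inject into the minimal primes of the localization at `P` -/
theorem subsingleton_minimalPrimes_le {R A : Type u} [CommRing R] [CommRing A] [Algebra R A]
    (P : Ideal R) [P.IsPrime] [IsLocalization.AtPrime A P]
    (h : (minimalPrimes A).Subsingleton) :
    {p ∈ minimalPrimes R | p ≤ P}.Subsingleton := by
  have key : ∀ p ∈ minimalPrimes R, p ≤ P →
      Ideal.map (algebraMap R A) p ∈ minimalPrimes A ∧
        Ideal.comap (algebraMap R A) (Ideal.map (algebraMap R A) p) = p := by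
    intro p hp hpP
    haveI := hp.1.1
    have hdisj : Disjoint (P.primeCompl : Set R) (p : Set R) := by
      rw [Set.disjoint_left]
      intro a ha hap
      exact ha (hpP hap)
    have hcm : Ideal.comap (algebraMap R A) (Ideal.map (algebraMap R A) p) = p :=
      IsLocalization.comap_map_of_isPrime_disjoint P.primeCompl A hp.1.1 hdisj
    refine ⟨?_, hcm⟩
    have := IsLocalization.minimalPrimes_map P.primeCompl A (⊥ : Ideal R)
    rw [Ideal.map_bot] at this
    change Ideal.map (algebraMap R A) p ∈ (⊥ : Ideal A).minimalPrimes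
    rw [this, Set.mem_preimage]
    change Ideal.comap (algebraMap R A) (Ideal.map (algebraMap R A) p) ∈ _
    rw [hcm]
    exact hp
  rintro p₁ ⟨hp₁, hp₁P⟩ p₂ ⟨hp₂, hp₂P⟩
  obtain ⟨h1, h1'⟩ := key p₁ hp₁ hp₁P
  obtain ⟨h2, h2'⟩ := key p₂ hp₂ hp₂P
  rw [← h1', ← h2', h h1 h2]

/-- a point of a locally noetherian scheme whose local ring has a unique minimal prime has an
irreducible affine open neighbourhood -/
theorem exists_affine_irreducible_nhd {X : Scheme.{u}} [IsLocallyNoetherian X] (x : X)
    (hx : (minimalPrimes (X.presheaf.stalk x)).Subsingleton) :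
    ∃ W : X.Opens, IsAffineOpen W ∧ x ∈ W ∧ (nilradical Γ(X, W)).IsPrime := by
  classical
  obtain ⟨_, ⟨V, hV, rfl⟩, hxV, -⟩ :=
    X.isBasis_affineOpens.exists_subset_of_mem_open (Set.mem_univ x) isOpen_univ
  haveI : IsNoetherianRing Γ(X, V) := IsLocallyNoetherian.component_noetherian ⟨V, hV⟩
  let _ := TopCat.Presheaf.algebra_section_stalk X.presheaf (⟨x, hxV⟩ : V)
  have hloc := hV.isLocalization_stalk ⟨x, hxV⟩
  set P := (hV.primeIdealOf ⟨x, hxV⟩).asIdeal with hP
  have hM₁ := subsingleton_minimalPrimes_le (A := X.presheaf.stalk x) P hx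
  have hfin : (minimalPrimes Γ(X, V)).Finite := minimalPrimes.finite_of_isNoetherianRing _
  -- elements of the bad minimal primes outside `P`
  have hex : ∀ p : Ideal Γ(X, V), ∃ a : Γ(X, V), (¬ p ≤ P → a ∈ p) ∧ a ∉ P := by
    intro p
    by_cases hp : p ≤ P
    · exact ⟨1, fun h => (h hp).elim, fun h => (hV.primeIdealOf ⟨x, hxV⟩).2.ne_top
        ((Ideal.eq_top_iff_one _).mpr h)⟩
    · obtain ⟨a, hap, haP⟩ := Set.not_subset.mp hp
      exact ⟨a, fun _ => hap, haP⟩
  choose a ha using hex
  set h : Γ(X, V) := ∏ p ∈ hfin.toFinset, a p with hh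
  have hhP : h ∉ P := by
    rw [hh, (hV.primeIdealOf ⟨x, hxV⟩).2.prod_mem_iff]
    push_neg
    exact fun p _ => (ha p).2
  have hhp : ∀ p ∈ minimalPrimes Γ(X, V), ¬ p ≤ P → h ∈ p := by
    intro p hp hpP
    rw [hh]
    exact Ideal.mem_of_dvd _ (Finset.dvd_prod_of_mem _ (hfin.mem_toFinset.mpr hp))
      ((ha p).1 hpP)
  have hxW : x ∈ X.basicOpen h := by
    rw [Scheme.mem_basicOpen _ _ _ hxV]
    exact IsLocalization.map_units (M := P.primeCompl) (X.presheaf.stalk x) ⟨h, hhP⟩
  refine ⟨X.basicOpen h, hV.basicOpen h, hxW, ?_⟩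
  have hloc2 : IsLocalization.Away h Γ(X, X.basicOpen h) := hV.isLocalization_basicOpen h
  haveI : Nonempty (X.basicOpen h) := ⟨⟨x, hxW⟩⟩
  haveI : Nontrivial Γ(X, X.basicOpen h) := inferInstance
  -- minimal primes of the localization
  have hmin : ∀ q ∈ minimalPrimes Γ(X, X.basicOpen h),
      Ideal.comap (algebraMap Γ(X, V) Γ(X, X.basicOpen h)) q ∈
        {p ∈ minimalPrimes Γ(X, V) | p ≤ P} := by
    intro q hq
    haveI := hq.1.1
    have h1 := IsLocalization.minimalPrimes_map (Submonoid.powers h) Γ(X, X.basicOpen h)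
      (⊥ : Ideal Γ(X, V))
    rw [Ideal.map_bot] at h1
    have h2 : q ∈ (⊥ : Ideal Γ(X, X.basicOpen h)).minimalPrimes := hq
    rw [h1, Set.mem_preimage] at h2
    refine ⟨h2, ?_⟩
    by_contra hle
    have h3 := hhp _ h2 hle
    have h4 : algebraMap Γ(X, V) Γ(X, X.basicOpen h) h ∈ q := h3
    exact hq.1.1.ne_top (Ideal.eq_top_of_isUnit_mem _ h4
      (IsLocalization.map_units (M := Submonoid.powers h) _ ⟨h, Submonoid.mem_powers h⟩))
  have hsub : (minimalPrimes Γ(X, X.basicOpen h)).Subsingleton := by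
    intro q₁ hq₁ q₂ hq₂
    have := hM₁ (hmin q₁ hq₁) (hmin q₂ hq₂)
    have e1 := IsLocalization.map_comap (Submonoid.powers h) Γ(X, X.basicOpen h) q₁
    have e2 := IsLocalization.map_comap (Submonoid.powers h) Γ(X, X.basicOpen h) q₂
    rw [← e1, ← e2]
    exact congrArg (Ideal.map (algebraMap Γ(X, V) Γ(X, X.basicOpen h))) this
  obtain ⟨⟨q, hq⟩⟩ := Ideal.nonempty_minimalPrimes
    (I := (⊥ : Ideal Γ(X, X.basicOpen h))) bot_ne_top
  have hsing : (⊥ : Ideal Γ(X, X.basicOpen h)).minimalPrimes = {q} :=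
    Set.eq_singleton_iff_unique_mem.mpr ⟨hq, fun q' hq' => hsub hq' hq⟩
  have : nilradical Γ(X, X.basicOpen h) = q := by
    change (⊥ : Ideal _).radical = q
    rw [← Ideal.sInf_minimalPrimes, hsing, sInf_singleton]
  rw [this]
  exact hq.1.1

section main

variable {S : Scheme.{u}} (G : Grpd.GroupoidScheme S) {K : Type u} [Field K]
  (eU : G.U ≅ Spec (CommRingCat.of K))

/-- near the identity point, on the reduction of an irreducible affine open neighbourhood, the
source and target maps of a groupoid on a field agree -/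
theorem exists_spec_s_eq_t [LocallyOfFiniteType G.s] (W : G.R.Opens) (hW : IsAffineOpen W)
    (hxW : x0 G eU ∈ W) (hprime : (nilradical Γ(G.R, W)).IsPrime) :
    ∃ (B : CommRingCat.{u}) (ι : Spec B ⟶ G.R), Topology.IsEmbedding ι ∧ Set.range ι = W ∧
      ι ≫ G.s = ι ≫ G.t := by
  let B : CommRingCat.{u} := CommRingCat.of (Γ(G.R, W) ⧸ nilradical Γ(G.R, W))
  let π : Γ(G.R, W) ⟶ B := CommRingCat.ofHom (Ideal.Quotient.mk _)
  have hπsurj : Function.Surjective π.hom := Ideal.Quotient.mk_surjective
  haveI : IsDomain B := Ideal.Quotient.isDomain _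
  haveI : IsClosedImmersion (Spec.map π) := IsClosedImmersion.spec_of_surjective π hπsurj
  let ι : Spec B ⟶ G.R := Spec.map π ≫ hW.fromSpec
  have hsurjπ : Function.Surjective (Spec.map π) := by
    intro p
    have hp : ∀ q : PrimeSpectrum Γ(G.R, W), q ∈ Set.range (PrimeSpectrum.comap π.hom) := by
      intro q
      rw [_root_.range_comap_of_surjective _ _ hπsurj, PrimeSpectrum.mem_zeroLocus]
      have : RingHom.ker π.hom = nilradical Γ(G.R, W) := Ideal.mk_ker
      rw [this]
      exact nilradical_le_prime q.asIdeal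
    exact hp p
  have hemb : Topology.IsEmbedding ι := by
    have h1 := (Spec.map π).isClosedEmbedding.isEmbedding
    have h2 := hW.fromSpec.isOpenEmbedding.isEmbedding
    have : (ι : Spec B → G.R) = hW.fromSpec ∘ Spec.map π := by
      ext p; rfl
    rw [this]
    exact h2.comp h1
  have hrange : Set.range ι = W := by
    have : (ι : Spec B → G.R) = hW.fromSpec ∘ Spec.map π := by
      ext p; rfl
    rw [this, Set.range_comp, hsurjπ.range_eq, Set.image_univ, hW.range_fromSpec]
  refine ⟨B, ι, hemb, hrange, ?_⟩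
  -- the identity point factors through `ι`
  have hrg : Set.range (eL G eU) ⊆ Set.range hW.fromSpec := by
    rw [hW.range_fromSpec]
    rintro _ ⟨p, rfl⟩
    have : p = closedPoint K := Subsingleton.elim _ _
    rw [this]
    exact hxW
  let ℓ : Spec (CommRingCat.of K) ⟶ Spec Γ(G.R, W) :=
    IsOpenImmersion.lift hW.fromSpec (eL G eU) hrg
  have hℓ : ℓ ≫ hW.fromSpec = eL G eU := IsOpenImmersion.lift_fac _ _ _
  let ε₀ : Γ(G.R, W) ⟶ CommRingCat.of K := Spec.preimage ℓ
  have hε₀ : Spec.map ε₀ = ℓ := Spec.map_preimage _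
  have hker : ∀ a ∈ nilradical Γ(G.R, W), ε₀.hom a = 0 := by
    intro a ha
    have h1 : IsNilpotent (ε₀.hom a) := (mem_nilradical.mp ha).map ε₀.hom
    exact h1.eq_zero
  let ε' : B ⟶ CommRingCat.of K :=
    CommRingCat.ofHom (Ideal.Quotient.lift (nilradical Γ(G.R, W)) ε₀.hom hker)
  have hπε : π ≫ ε' = ε₀ := by
    ext a
    rfl
  have hει : Spec.map ε' ≫ ι = eL G eU := by
    change Spec.map ε' ≫ Spec.map π ≫ hW.fromSpec = _
    rw [← Category.assoc, ← Spec.map_comp, hπε, hε₀, hℓ]
  -- the two structure maps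
  let σ : CommRingCat.of K ⟶ B := Spec.preimage (ι ≫ G.s ≫ eU.hom)
  let τ : CommRingCat.of K ⟶ B := Spec.preimage (ι ≫ G.t ≫ eU.hom)
  have hσ : Spec.map σ = ι ≫ G.s ≫ eU.hom := Spec.map_preimage _
  have hτ : Spec.map τ = ι ≫ G.t ≫ eU.hom := Spec.map_preimage _
  have hσε : σ ≫ ε' = 𝟙 _ := by
    apply Spec.map_injective
    rw [Spec.map_comp, hσ, ← Category.assoc, hει, ← Category.assoc, eL_s, Iso.inv_hom_id,
      Spec.map_id]
  have hτε : τ ≫ ε' = 𝟙 _ := by
    apply Spec.map_injective
    rw [Spec.map_comp, hτ, ← Category.assoc, hει, ← Category.assoc, eL_t, Iso.inv_hom_id,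
      Spec.map_id]
  have hft : LocallyOfFiniteType (Spec.map σ) := by
    rw [hσ]
    haveI : LocallyOfFiniteType ι := by
      change LocallyOfFiniteType (Spec.map π ≫ hW.fromSpec)
      infer_instance
    infer_instance
  have hft' : σ.hom.FiniteType := (HasRingHomProperty.Spec_iff (P := @LocallyOfFiniteType)).mp hft
  letI : Algebra K B := σ.hom.toAlgebra
  haveI : Algebra.FiniteType K B := hft'
  have key : τ.hom = algebraMap K B :=
    Groth.Agent.Helper8.SubfieldAlg.eq_algebraMap_of_augmentation τ.hom ε'.hom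
      (fun x => congrArg (fun f => f.hom x) hσε) (fun x => congrArg (fun f => f.hom x) hτε)
  have hστ : τ = σ := CommRingCat.hom_ext key
  have h1 : ι ≫ G.t ≫ eU.hom = ι ≫ G.s ≫ eU.hom := by rw [← hσ, ← hτ, hστ]
  have h2 : (ι ≫ G.t) ≫ eU.hom = (ι ≫ G.s) ≫ eU.hom := by
    simpa only [Category.assoc] using h1
  exact ((cancel_mono eU.hom).mp h2).symm

/-- the dimension of a groupoid on a field equals the dimension of its stabilizer, given the
uniqueness of the minimal prime at the identity and the local dimension there -/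
theorem dim_eq [LocallyOfFiniteType G.s] [LocallyOfFiniteType G.t]
    (h1882 : (minimalPrimes (G.R.presheaf.stalk (x0 G eU))).Subsingleton)
    (h7518 : FlatMor.localDim ↥G.R (x0 G eU) = topologicalKrullDim ↥G.R) :
    topologicalKrullDim G.R = topologicalKrullDim G.stabilizer := by
  haveI : IsLocallyNoetherian G.U := isLocallyNoetherian_of_isOpenImmersion eU.hom
  haveI : IsLocallyNoetherian G.R := LocallyOfFiniteType.isLocallyNoetherian G.s
  obtain ⟨W, hW, hxW, hprime⟩ := exists_affine_irreducible_nhd (x0 G eU) h1882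
  obtain ⟨B, ι, hemb, hrange, hst⟩ := exists_spec_s_eq_t G eU W hW hxW hprime
  apply le_antisymm
  · have h1 : topologicalKrullDim ↥G.R ≤ topologicalKrullDim ↥(W : Set G.R) := by
      rw [← h7518]
      exact iInf_le (fun U : {U : TopologicalSpace.Opens G.R // x0 G eU ∈ U} =>
        topologicalKrullDim ↥(U.1 : Set G.R)) ⟨W, hxW⟩
    let lam : Spec B ⟶ pullback G.j G.diag := pullback.lift ι (ι ≫ G.s) (by
      apply pullback.hom_ext
      · rw [Category.assoc, Grpd.GroupoidScheme.j, pullback.lift_fst, Category.assoc,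
          Grpd.GroupoidScheme.diag, pullback.lift_fst, Category.comp_id, hst]
      · rw [Category.assoc, Grpd.GroupoidScheme.j, pullback.lift_snd, Category.assoc,
          Grpd.GroupoidScheme.diag, pullback.lift_snd, Category.comp_id])
    have hlam : lam ≫ pullback.fst G.j G.diag = ι := pullback.lift_fst _ _ _
    have hind : Topology.IsInducing lam := by
      apply Topology.IsInducing.of_comp lam.continuous (pullback.fst G.j G.diag).continuous
      have : (pullback.fst G.j G.diag) ∘ lam = ι := by rw [← hlam]; rfl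
      rw [this]
      exact hemb.isInducing
    have h2 : topologicalKrullDim ↥(W : Set G.R) = topologicalKrullDim (Spec B) := by
      rw [← hrange]
      exact (IsHomeomorph.topologicalKrullDim_eq _ hemb.toHomeomorph.isHomeomorph).symm
    exact h1.trans (h2.le.trans hind.topologicalKrullDim_le)
  · haveI : IsImmersion G.diag := inferInstanceAs (IsImmersion (pullback.diagonal G.pU))
    exact (pullback.fst G.j G.diag).isEmbedding.isInducing.topologicalKrullDim_le

end main

end Groth.Agent.Helper8.GrpdDim
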