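import Mathlib

set_option autoImplicit false
universe u

namespace Groth.Agent.Helper8.EtDed

open IsLocalRing

/-- Noetherian local ring whose maximal ideal is generated by a nonzerodivisor is a domain. -/
theorem isDomain_of_maximalIdeal_eq_span (S : Type*) [CommRing S] [IsLocalRing S]
    [IsNoetherianRing S] (π : S) (hπ : maximalIdeal S = Ideal.span {π})
    (hreg : ∀ x : S, π * x = 0 → x = 0) : IsDomain S := by
  have hpow : ∀ (k : ℕ) (x : S), π ^ k * x = 0 → x = 0 := by
    intro k
    induction k with
    | zero => intro x hx; simpa using hx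
    | succ k ih =>
      intro x hx
      apply hreg
      apply ih
      rw [← mul_assoc, ← pow_succ]; exact hx
  have hfac : ∀ x : S, x ≠ 0 → ∃ (n : ℕ) (u : S), IsUnit u ∧ x = u * π ^ n := by
    intro x hx
    have hbot := Ideal.iInf_pow_eq_bot_of_isLocalRing (maximalIdeal S) Ideal.IsPrime.ne_top'
    have hex : ∃ n : ℕ, x ∉ maximalIdeal S ^ n := by
      by_contra hcon
      push Not at hcon
      apply hx
      have : x ∈ (⨅ n : ℕ, maximalIdeal S ^ n) := by
        rw [Ideal.mem_iInf]; exact hcon
      rw [hbot] at this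
      simpa using this
    classical
    let n := Nat.find hex
    have hn : x ∉ maximalIdeal S ^ n := Nat.find_spec hex
    have hn0 : n ≠ 0 := by
      intro h0
      rw [h0, pow_zero, Ideal.one_eq_top] at hn
      exact hn trivial
    obtain ⟨m, hm⟩ := Nat.exists_eq_succ_of_ne_zero hn0
    have hm' : x ∈ maximalIdeal S ^ m := by
      by_contra hcon
      have := Nat.find_min' hex hcon
      omega
    rw [hπ, Ideal.span_singleton_pow, Ideal.mem_span_singleton'] at hm'
    obtain ⟨u, hu⟩ := hm'
    refine ⟨m, u, ?_, hu.symm⟩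
    by_contra hnu
    have hmem : u ∈ maximalIdeal S := (mem_maximalIdeal u).mpr hnu
    apply hn
    rw [hm, pow_succ, ← hu, mul_comm u]
    refine Ideal.mul_mem_mul ?_ hmem
    rw [hπ, Ideal.span_singleton_pow]; exact Ideal.mem_span_singleton_self _
  have : NoZeroDivisors S := by
    constructor
    intro x y hxy
    by_contra hcon
    push Not at hcon
    obtain ⟨a, u, hu, rfl⟩ := hfac x hcon.1
    obtain ⟨b, v, hv, rfl⟩ := hfac y hcon.2
    have h1 : π ^ (a + b) * (u * v) = 0 := by
      rw [← hxy, pow_add]; ring
    have h2 := hpow _ _ h1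
    exact (hu.mul hv).ne_zero h2
  exact NoZeroDivisors.to_isDomain S

end Groth.Agent.Helper8.EtDed

namespace Groth.Agent.Helper8.EtDed
open IsLocalRing

theorem exists_span_eq_maximalIdeal (A : Type*) [CommRing A] [IsDedekindDomain A] (S : Type*)
    [CommRing S] [IsLocalRing S] [IsNoetherianRing S] [Algebra A S] (p : Ideal A) [p.IsPrime]
    (hp : p ≠ ⊥) (h : p.map (algebraMap A S) = maximalIdeal S) :
    ∃ π ∈ p, π ≠ 0 ∧ maximalIdeal S = Ideal.span {algebraMap A S π} := by
  have hlt : p ^ 2 < p := by
    have := Ideal.pow_succ_lt_pow hp 1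
    simpa using this
  obtain ⟨π, hπp, hπ2⟩ := SetLike.exists_of_lt hlt
  have hπ0 : π ≠ 0 := by
    rintro rfl
    exact hπ2 (Ideal.zero_mem _)
  have hI : Ideal.span {π} ⊔ p ^ 2 = p := by
    have h1 : p ^ (1 + 1) < Ideal.span {π} ⊔ p ^ 2 := by
      refine lt_of_le_of_ne le_sup_right ?_
      intro heq
      apply hπ2
      have : π ∈ Ideal.span {π} ⊔ p ^ 2 := Ideal.mem_sup_left (Ideal.mem_span_singleton_self π)
      rw [← heq] at this
      exact this
    have h2 : Ideal.span {π} ⊔ p ^ 2 ≤ p ^ 1 := by
      rw [pow_one]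
      exact sup_le ((Ideal.span_singleton_le_iff_mem _).mpr hπp) hlt.le
    have := Ideal.eq_prime_pow_of_succ_lt_of_le hp h1 h2
    rw [this, pow_one]
  refine ⟨π, hπp, hπ0, ?_⟩
  apply le_antisymm
  · have hmap : maximalIdeal S = Ideal.span {algebraMap A S π} ⊔ maximalIdeal S * maximalIdeal S := by
      conv_lhs => rw [← h, ← hI, Ideal.map_sup, Ideal.map_span, Set.image_singleton, Ideal.map_pow,
        h, pow_two]
    have := Submodule.le_of_le_smul_of_le_jacobson_bot (I := maximalIdeal S)
      (N := Ideal.span {algebraMap A S π}) (N' := maximalIdeal S)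
      (IsNoetherian.noetherian _) (IsLocalRing.maximalIdeal_le_jacobson _)
      (by rw [smul_eq_mul]; exact hmap.le)
    exact this
  · rw [Ideal.span_singleton_le_iff_mem, ← h]
    exact Ideal.mem_map_of_mem _ hπp

end Groth.Agent.Helper8.EtDed

namespace Groth.Agent.Helper8.EtDed
open IsLocalRing

theorem map_under_eq_maximalIdeal (A B : Type*) [CommRing A] [CommRing B] [Algebra A B]
    [Algebra.EssFiniteType A B] [Algebra.FormallyUnramified A B] (q : Ideal B) [q.IsPrime] :
    (q.under A).map (algebraMap A (Localization.AtPrime q)) = maximalIdeal _ := by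
  let p := q.under A
  letI := Localization.AtPrime.algebraOfLiesOver p q
  haveI : Algebra.IsUnramifiedAt A q :=
    (Algebra.formallyUnramified_iff_forall.mp inferInstance) ⟨q, inferInstance⟩
  exact ((Algebra.isUnramifiedAt_iff_map_eq A p q).mp inferInstance).2

/-- local structure: domain -/
theorem isDomain_localization (A B : Type*) [CommRing A] [IsDedekindDomain A] [CommRing B]
    [Algebra A B] [Algebra.FiniteType A B] [Algebra.FormallyUnramified A B] [Module.Flat A B]
    (q : Ideal B) [q.IsPrime] : IsDomain (Localization.AtPrime q) := by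
  have hmax := map_under_eq_maximalIdeal A B q
  haveI : IsNoetherianRing B := Algebra.FiniteType.isNoetherianRing A B
  haveI : IsNoetherianRing (Localization.AtPrime q) :=
    IsLocalization.isNoetherianRing q.primeCompl _ inferInstance
  by_cases hp : q.under A = ⊥
  · rw [hp, Ideal.map_bot] at hmax
    exact ((isField_iff_maximalIdeal_eq).mpr hmax.symm).isDomain
  · obtain ⟨π, hπp, hπ0, hπ⟩ := exists_span_eq_maximalIdeal A (Localization.AtPrime q)
      (q.under A) hp hmax
    refine isDomain_of_maximalIdeal_eq_span _ _ hπ ?_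
    intro x hx
    haveI : Module.Flat A (Localization.AtPrime q) :=
      Module.Flat.trans A B (Localization.AtPrime q)
    have : π • x = 0 := by rw [Algebra.smul_def]; exact hx
    exact (smul_eq_zero.mp this).resolve_left hπ0

end Groth.Agent.Helper8.EtDed
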