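import Mathlib
import Groth.Prelude.Def_EtRam
import Groth.Agent.Helper7.DomValD
import Groth.Agent.Helper8.EtDed1

/-!
# ShA: general lemmas for the strict henselization of an extension of discrete valuation rings

* a Noetherian local flat extension of a DVR in which the maximal ideal extends to the maximal ideal
  is a DVR;
* images of étale algebras over a field consist of separable elements;
* transitivity of geometric reducedness for field extensions;
* transitivity of the valuation-theoretic conditions `WU`, `GR`.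
-/

set_option autoImplicit false
universe u

namespace Groth.Agent.Helper8.Sh

open IsLocalRing TensorProduct Groth.Agent.Helper7

section DVR

theorem isDVR_of_flat (R S : Type*) [CommRing R] [IsDomain R] [IsDiscreteValuationRing R]
    [CommRing S] [IsLocalRing S] [IsNoetherianRing S] [Algebra R S] [Module.Flat R S]
    (hm : (maximalIdeal R).map (algebraMap R S) = maximalIdeal S) :
    ∃ _ : IsDomain S, IsDiscreteValuationRing S := by
  obtain ⟨π, hπ⟩ := IsDiscreteValuationRing.exists_irreducible R
  have hmax : maximalIdeal S = Ideal.span {algebraMap R S π} := by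
    rw [← hm, hπ.maximalIdeal_eq, Ideal.map_span, Set.image_singleton]
  have hregR : IsSMulRegular R π := (isRegular_of_ne_zero hπ.ne_zero).left.isSMulRegular
  have hreg : IsSMulRegular S (algebraMap R S π) := IsSMulRegular.of_flat hregR
  have hreg' : ∀ x : S, algebraMap R S π * x = 0 → x = 0 := by
    intro x hx
    apply hreg
    show algebraMap R S π • x = algebraMap R S π • (0 : S)
    rw [smul_eq_mul, smul_eq_mul, hx, mul_zero]
  haveI : IsDomain S := EtDed.isDomain_of_maximalIdeal_eq_span S _ hmax hreg'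
  refine ⟨inferInstance, ?_⟩
  have hπ0 : algebraMap R S π ≠ 0 := by
    intro h
    have := hreg' 1 (by rw [h, zero_mul])
    exact one_ne_zero this
  have hnf : ¬ IsField S := by
    rw [IsLocalRing.isField_iff_maximalIdeal_eq, hmax, Ideal.span_singleton_eq_bot]
    exact hπ0
  have hprin : (maximalIdeal S).IsPrincipal := ⟨⟨_, hmax⟩⟩
  exact ((IsDiscreteValuationRing.TFAE S hnf).out 4 0).mp hprin

end DVR

section Etale

/-- the image of an étale algebra over a field in a field extension consists of separable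
elements -/
theorem isSeparable_of_etale {K E K' : Type*} [Field K] [Field K'] [Algebra K K'] [CommRing E]
    [Algebra K E] [Algebra.Etale K E] (Φ : E →ₐ[K] K') (e : E) : IsSeparable K (Φ e) := by
  haveI : Module.Finite K E := Algebra.FormallyUnramified.finite_of_free K E
  haveI : IsArtinianRing E := IsArtinianRing.of_finite K E
  haveI hprime : (RingHom.ker Φ).IsPrime := RingHom.ker_isPrime Φ
  haveI hmaxI : (RingHom.ker Φ).IsMaximal := IsArtinianRing.isMaximal_of_isPrime _
  letI : Field (E ⧸ RingHom.ker Φ) := Ideal.Quotient.field _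
  haveI : Algebra.FormallyUnramified K (E ⧸ RingHom.ker Φ) :=
    Algebra.FormallyUnramified.of_surjective (Ideal.Quotient.mkₐ K (RingHom.ker Φ))
      (Ideal.Quotient.mkₐ_surjective K _)
  haveI : Algebra.IsSeparable K (E ⧸ RingHom.ker Φ) :=
    Algebra.FormallyUnramified.isSeparable K (E ⧸ RingHom.ker Φ)
  have h1 : IsSeparable K (Ideal.Quotient.mk (RingHom.ker Φ) e) :=
    Algebra.IsSeparable.isSeparable K _
  have h2 : Ideal.kerLiftAlg Φ (Ideal.Quotient.mk (RingHom.ker Φ) e) = Φ e :=
    Ideal.kerLiftAlg_mk Φ e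
  unfold IsSeparable at h1 ⊢
  rw [← h2, minpoly.algHom_eq (Ideal.kerLiftAlg Φ) (Ideal.kerLiftAlg_injective Φ)]
  exact h1

end Etale

section GR

theorem resAlg_eq (R S : Type*) [CommRing R] [IsLocalRing R] [CommRing S] [IsLocalRing S]
    [Algebra R S] [IsLocalHom (algebraMap R S)] :
    (ResidueField.instAlgebra : Algebra (ResidueField R) (ResidueField S)) =
      (ResidueField.map (algebraMap R S)).toAlgebra := by
  apply Algebra.algebra_ext
  intro r
  obtain ⟨r, rfl⟩ := residue_surjective r
  rfl

theorem isReduced_tensor_of_finite {k F T : Type*} [Field k] [Field F] [Algebra k F]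
    [Algebra.IsGeometricallyReduced k F] [CommRing T] [Algebra k T] [Module.Finite k T]
    [IsReduced T] : IsReduced (F ⊗[k] T) := by
  classical
  haveI : IsArtinianRing T := IsArtinianRing.of_finite k T
  haveI : Fintype (MaximalSpectrum T) := Fintype.ofFinite _
  let e₁ : T ≃ₐ[k] (∀ m : MaximalSpectrum T, T ⧸ m.asIdeal) :=
    (IsArtinianRing.equivPi T).restrictScalars k
  let e₂ : F ⊗[k] T ≃ₐ[k] F ⊗[k] (∀ m : MaximalSpectrum T, T ⧸ m.asIdeal) :=
    Algebra.TensorProduct.congr AlgEquiv.refl e₁
  let e₃ : F ⊗[k] (∀ m : MaximalSpectrum T, T ⧸ m.asIdeal) ≃ₐ[k]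
      (∀ m : MaximalSpectrum T, F ⊗[k] (T ⧸ m.asIdeal)) :=
    Algebra.TensorProduct.piRight k k F (fun m : MaximalSpectrum T => T ⧸ m.asIdeal)
  have hfac : ∀ m : MaximalSpectrum T, IsReduced (F ⊗[k] (T ⧸ m.asIdeal)) := by
    intro m
    haveI := m.isMaximal
    letI : Field (T ⧸ m.asIdeal) := Ideal.Quotient.field _
    haveI : Algebra.IsAlgebraic k (T ⧸ m.asIdeal) := Algebra.IsAlgebraic.of_finite k _
    have : IsReduced ((T ⧸ m.asIdeal) ⊗[k] F) := inferInstance
    exact isReduced_of_injective (Algebra.TensorProduct.comm k F (T ⧸ m.asIdeal)).toRingHom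
      (Algebra.TensorProduct.comm k F (T ⧸ m.asIdeal)).injective
  haveI : IsReduced (∀ m : MaximalSpectrum T, F ⊗[k] (T ⧸ m.asIdeal)) := inferInstance
  exact isReduced_of_injective (e₂.trans e₃).toRingHom (e₂.trans e₃).injective

/-- transitivity of geometric reducedness in a tower of fields -/
theorem isGeometricallyReduced_trans (k₀ k₁ k₂ : Type*) [Field k₀] [Field k₁] [Field k₂]
    [Algebra k₀ k₁] [Algebra k₁ k₂] [Algebra k₀ k₂] [IsScalarTower k₀ k₁ k₂]
    [Algebra.IsGeometricallyReduced k₀ k₁] [Algebra.IsGeometricallyReduced k₁ k₂] :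
    Algebra.IsGeometricallyReduced k₀ k₂ := by
  rw [Algebra.isGeometricallyReduced_field_iff]
  suffices h : IsReduced (k₂ ⊗[k₀] AlgebraicClosure k₀) from
    isReduced_of_injective (Algebra.TensorProduct.comm k₀ (AlgebraicClosure k₀) k₂).toRingHom
      (Algebra.TensorProduct.comm k₀ (AlgebraicClosure k₀) k₂).injective
  apply IsReduced.tensorProduct_of_flat_of_forall_fg
  intro B hB
  haveI : Algebra.IsIntegral k₀ B :=
    ⟨fun x => (isIntegral_algebraMap_iff (B := AlgebraicClosure k₀) Subtype.val_injective).1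
      (Algebra.IsIntegral.isIntegral (R := k₀) (x : AlgebraicClosure k₀))⟩
  haveI : Algebra.FiniteType k₀ B := ⟨(Subalgebra.fg_top B).2 hB⟩
  haveI : Module.Finite k₀ B := Algebra.IsIntegral.finite
  haveI : IsReduced (k₁ ⊗[k₀] B) := by
    have h0 : IsReduced (AlgebraicClosure k₀ ⊗[k₀] k₁) := inferInstance
    have h1 : IsReduced (k₁ ⊗[k₀] AlgebraicClosure k₀) :=
      isReduced_of_injective (Algebra.TensorProduct.comm k₀ k₁ (AlgebraicClosure k₀)).toRingHom
        (Algebra.TensorProduct.comm k₀ k₁ (AlgebraicClosure k₀)).injective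
    exact isReduced_of_injective (Algebra.TensorProduct.map (AlgHom.id k₀ k₁) B.val)
      (Module.Flat.lTensor_preserves_injective_linearMap _ Subtype.val_injective)
  haveI : IsReduced (k₂ ⊗[k₁] (k₁ ⊗[k₀] B)) :=
    isReduced_tensor_of_finite (k := k₁) (F := k₂) (T := k₁ ⊗[k₀] B)
  exact isReduced_of_injective
    (Algebra.TensorProduct.cancelBaseChange k₀ k₁ k₁ k₂ B).symm.toRingHom
    (Algebra.TensorProduct.cancelBaseChange k₀ k₁ k₁ k₂ B).symm.injective

end GR

section Trans

variable {K₂ F M : Type u} [Field K₂] [Field F] [Field M]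

theorem wu'_trans (f : K₂ →+* F) (ι : F →+* M) (W : ValuationSubring M)
    (h1 : DomVal.WU' (W.comap ι) f) (h2 : DomVal.WU' W ι) : DomVal.WU' W (ι.comp f) := by
  intro x hx
  obtain ⟨a, ha, w, hw, rfl⟩ := h2 x hx
  have ha' : a ∈ (W.comap ι).nonunits := by
    rw [ValuationSubring.mem_nonunits_iff, DomVal.valuation_comap_lt_one_iff,
      ← ValuationSubring.mem_nonunits_iff]
    exact ha
  obtain ⟨b, hb, v, hv, rfl⟩ := h1 a ha'
  refine ⟨b, ?_, ι v * w, W.mul_mem _ _ hv hw, ?_⟩
  · rw [ValuationSubring.mem_nonunits_iff, DomVal.valuation_comap_lt_one_iff,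
      ← ValuationSubring.mem_nonunits_iff] at hb
    exact hb
  · rw [map_mul, RingHom.comp_apply, mul_assoc]

theorem wu_trans (f : K₂ →+* F) (ι : F →+* M) (W : ValuationSubring M)
    (h1 : DomVal.WU (W.comap ι) f) (h2 : DomVal.WU W ι) : DomVal.WU W (ι.comp f) :=
  (DomVal.wu_iff _ _).2 (wu'_trans f ι W ((DomVal.wu_iff _ _).1 h1) ((DomVal.wu_iff _ _).1 h2))

theorem gr_trans (f : K₂ →+* F) (ι : F →+* M) (W : ValuationSubring M)
    (h1 : DomVal.GR (W.comap ι) f) (h2 : DomVal.GR W ι) : DomVal.GR W (ι.comp f) := by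
  unfold DomVal.GR at *
  letI a01 : Algebra (ResidueField ((W.comap ι).comap f)) (ResidueField (W.comap ι)) :=
    (ResidueField.map (EtRam.inclOfComap (W.comap ι) f)).toAlgebra
  letI a12 : Algebra (ResidueField (W.comap ι)) (ResidueField W) :=
    (ResidueField.map (EtRam.inclOfComap W ι)).toAlgebra
  letI a02 : Algebra (ResidueField ((W.comap ι).comap f)) (ResidueField W) :=
    (ResidueField.map (EtRam.inclOfComap W (ι.comp f))).toAlgebra
  haveI : IsScalarTower (ResidueField ((W.comap ι).comap f)) (ResidueField (W.comap ι))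
      (ResidueField W) := IsScalarTower.of_algebraMap_eq (fun x => by
        obtain ⟨x, rfl⟩ := IsLocalRing.residue_surjective x
        rfl)
  haveI : Algebra.IsGeometricallyReduced (ResidueField ((W.comap ι).comap f))
      (ResidueField (W.comap ι)) := h1
  haveI : Algebra.IsGeometricallyReduced (ResidueField (W.comap ι)) (ResidueField W) := h2
  exact isGeometricallyReduced_trans (ResidueField ((W.comap ι).comap f))
    (ResidueField (W.comap ι)) (ResidueField W)

end Trans

end Groth.Agent.Helper8.Sh
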