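import Mathlib
import Groth.Prelude.Def_EtRam
import Groth.Agent.Helper1.HensStrictNoeth
import Groth.Agent.Helper1.HensUniv
import Groth.Agent.Helper1.HensElts
import Groth.Agent.Helper1.HensStrict
import Groth.Agent.Helper8.ShA

/-!
# ShB: the strict henselization of a discrete valuation ring, functorially
-/

set_option autoImplicit false
set_option linter.dupNamespace false
universe u

noncomputable section

namespace Groth.Agent.Helper8.Sh

open IsLocalRing TensorProduct Groth.Agent.Helper1.Hens

/-- the strict henselization (along a fixed separable closure of the residue field) -/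
abbrev SH (R : Type u) [CommRing R] [IsLocalRing R] : Type u :=
  Hens R (SeparableClosure (ResidueField R))

section Basic

variable (R : Type u) [CommRing R] [IsLocalRing R]

theorem sh_strict : Hensel.IsStrictHenselization R (SH R) := inferInstance

theorem sh_isSepClosure : IsSepClosure (ResidueField R) (ResidueField (SH R)) :=
  (sh_strict R).isSepClosure

theorem sh_wu : EtRam.IsWeaklyUnramified R (SH R) := Hens.map_maximalIdeal

theorem sh_injective : Function.Injective (algebraMap R (SH R)) :=
  FaithfulSMul.algebraMap_injective R (SH R)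

end Basic

theorem sh_dvr (R : Type u) [CommRing R] [IsDomain R] [IsDiscreteValuationRing R] :
    ∃ _ : IsDomain (SH R), IsDiscreteValuationRing (SH R) := by
  haveI : IsNoetherianRing (SH R) := Hens.isNoetherianRing R _
  exact isDVR_of_flat R (SH R) Hens.map_maximalIdeal

section Map

variable (A B : Type u) [CommRing A] [IsLocalRing A] [CommRing B] [IsLocalRing B] [Algebra A B]
  [IsLocalHom (algebraMap A B)]

theorem exists_shMap :
    ∃ g : SH A →+* SH B,
      g.comp (algebraMap A (SH A)) = (algebraMap B (SH B)).comp (algebraMap A B) ∧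
        IsLocalHom g := by
  let f : A →+* SH B := (algebraMap B (SH B)).comp (algebraMap A B)
  haveI : IsLocalHom f := RingHom.isLocalHom_comp _ _
  have hS : Hensel.IsStrictHenselization A (SH A) := inferInstance
  haveI : IsSepClosure (ResidueField A) (ResidueField (SH A)) := sh_isSepClosure A
  haveI : IsSepClosure (ResidueField B) (ResidueField (SH B)) := sh_isSepClosure B
  haveI : IsSepClosed (ResidueField (SH B)) := IsSepClosure.sep_closed (ResidueField B)
  haveI : Algebra.IsSeparable (ResidueField A) (ResidueField (SH A)) := IsSepClosure.separable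
  letI : Algebra (ResidueField A) (ResidueField (SH B)) := (ResidueField.map f).toAlgebra
  let τ : ResidueField (SH A) →ₐ[ResidueField A] ResidueField (SH B) := IsSepClosed.lift
  have hτ : τ.toRingHom.comp (ResidueField.map (algebraMap A (SH A))) = ResidueField.map f := by
    ext x
    exact τ.commutes x
  obtain ⟨g, ⟨hg1, hg2⟩, -⟩ := hS.universal (SH B) f τ.toRingHom hτ
  refine ⟨g, hg1, ⟨fun x hx => ?_⟩⟩
  by_contra hnu
  have h0 : residue (SH A) x = 0 := (residue_eq_zero_iff x).2 ((mem_maximalIdeal x).2 hnu)
  have h1 := hg2 x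
  rw [h0, map_zero, residue_eq_zero_iff, mem_maximalIdeal] at h1
  exact h1 hx

end Map

section Inj

variable (A B : Type u) [CommRing A] [IsDomain A] [IsDiscreteValuationRing A] [CommRing B]
  [IsDomain B] [IsDiscreteValuationRing B] [Algebra A B]

theorem shMap_injective (hinj : Function.Injective (algebraMap A B))
    [IsDomain (SH A)] [IsDiscreteValuationRing (SH A)] [IsDomain (SH B)]
    (g : SH A →+* SH B)
    (hg : g.comp (algebraMap A (SH A)) = (algebraMap B (SH B)).comp (algebraMap A B)) :
    Function.Injective g := by
  rw [RingHom.injective_iff_ker_eq_bot]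
  by_contra hne
  haveI hp : (RingHom.ker g).IsPrime := RingHom.ker_isPrime g
  have hmax : (RingHom.ker g).IsMaximal := hp.isMaximal hne
  have heq : RingHom.ker g = maximalIdeal (SH A) := IsLocalRing.eq_maximalIdeal hmax
  obtain ⟨π, hπ⟩ := IsDiscreteValuationRing.exists_irreducible A
  have hπm : π ∈ maximalIdeal A := by
    rw [hπ.maximalIdeal_eq]
    exact Ideal.mem_span_singleton_self π
  have h1 : algebraMap A (SH A) π ∈ maximalIdeal (SH A) := by
    rw [← sh_wu A]
    exact Ideal.mem_map_of_mem _ hπm
  rw [← heq, RingHom.mem_ker] at h1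
  have h2 : g (algebraMap A (SH A) π) = algebraMap B (SH B) (algebraMap A B π) :=
    congr($hg π)
  rw [h2] at h1
  have h3 : algebraMap A B π = 0 := sh_injective B (by rw [h1, map_zero])
  exact hπ.ne_zero (hinj (by rw [h3, map_zero]))

end Inj

section Sep

variable (R : Type u) [CommRing R] [IsLocalRing R] [IsDomain R] [IsDomain (SH R)]
  (K K' : Type u) [Field K] [Field K'] [Algebra R K] [IsFractionRing R K]
  [Algebra (SH R) K'] [IsFractionRing (SH R) K'] [Algebra K K'] [Algebra R K']
  [IsScalarTower R K K'] [IsScalarTower R (SH R) K']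

include R in
theorem isSeparable_frac : Algebra.IsSeparable K K' := by
  rw [← separableClosure.eq_top_iff, eq_top_iff]
  intro x _
  have key : ∀ z : SH R, algebraMap (SH R) K' z ∈ separableClosure K K' := by
    intro z
    rw [mem_separableClosure_iff]
    obtain ⟨C, _, _, _, γ, c, rfl⟩ := Hens.exists_ι_eq z
    let φ : C →ₐ[R] K' := (IsScalarTower.toAlgHom R (SH R) K').comp (Hens.ι γ)
    let Φ : K ⊗[R] C →ₐ[K] K' :=
      Algebra.TensorProduct.lift (Algebra.ofId K K') φ (fun _ _ => Commute.all _ _)
    have hΦ : Φ ((1 : K) ⊗ₜ[R] c) = algebraMap (SH R) K' (Hens.ι γ c) := by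
      show Algebra.TensorProduct.lift (Algebra.ofId K K') φ (fun _ _ => Commute.all _ _)
        ((1 : K) ⊗ₜ[R] c) = _
      rw [Algebra.TensorProduct.lift_tmul, map_one, one_mul]
      rfl
    rw [← hΦ]
    exact isSeparable_of_etale Φ _
  obtain ⟨a, b, hb, rfl⟩ := IsFractionRing.div_surjective (A := SH R) x
  exact div_mem (key a) (key b)

end Sep

end Groth.Agent.Helper8.Sh
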