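import Mathlib

/-!
# Algebra for étale quasi-sections of affine space: the subschemes `V(T_i^q - T_i)`
-/

set_option autoImplicit false

namespace Groth.Agent.Helper8.QSecA

open MvPolynomial

universe u

/-- The ideal `(T_i^q - T_i : i)` of `R[T_1, …, T_n]`. -/
noncomputable def J (R : Type u) [CommRing R] (n q : ℕ) : Ideal (MvPolynomial (Fin n) R) :=
  Ideal.span (Set.range fun i : Fin n => (X i : MvPolynomial (Fin n) R) ^ q - X i)

/-- Exponent reduction modulo `T^q = T`. -/
def r (q x : ℕ) : ℕ := if x = 0 then 0 else (x - 1) % (q - 1) + 1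

lemma r_zero (q : ℕ) : r q 0 = 0 := by simp [r]

lemma r_of_lt {q x : ℕ} (h : x < q) : r q x = x := by
  unfold r
  split_ifs with h0
  · exact h0.symm
  · have h1 : x - 1 < q - 1 := by omega
    rw [Nat.mod_eq_of_lt h1]
    omega

lemma r_add (q x : ℕ) (hq : 2 ≤ q) : r q (x + q) = r q (x + 1) := by
  unfold r
  rw [if_neg (by omega), if_neg (by omega)]
  have h1 : x + q - 1 = x + (q - 1) := by omega
  rw [h1, Nat.add_mod_right, Nat.add_sub_cancel]

variable {n : ℕ}

/-- Reduction of exponent vectors. -/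
noncomputable def red (q : ℕ) (m : Fin n →₀ ℕ) : Fin n →₀ ℕ := m.mapRange (r q) (r_zero q)

lemma red_of_lt {q : ℕ} {m : Fin n →₀ ℕ} (h : ∀ i, m i < q) : red q m = m := by
  ext i
  simp [red, r_of_lt (h i)]

lemma red_add (q : ℕ) (hq : 2 ≤ q) (m : Fin n →₀ ℕ) (i : Fin n) :
    red q (m + Finsupp.single i q) = red q (m + Finsupp.single i 1) := by
  ext j
  simp only [red, Finsupp.mapRange_apply, Finsupp.add_apply, Finsupp.single_apply]
  by_cases hij : i = j
  · simp only [hij, if_true]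
    exact r_add q (m j) hq
  · simp only [hij, if_false]

variable (R : Type u) [CommRing R]

/-- The `R`-linear reduction map. -/
noncomputable def ρ (n q : ℕ) : MvPolynomial (Fin n) R →ₗ[R] MvPolynomial (Fin n) R :=
  (MvPolynomial.basisMonomials (Fin n) R).constr R (fun m => monomial (red q m) (1 : R))

variable {R}

lemma ρ_monomial (q : ℕ) (m : Fin n →₀ ℕ) (a : R) :
    ρ R n q (monomial m a) = monomial (red q m) a := by
  have h1 : monomial m a = a • (MvPolynomial.basisMonomials (Fin n) R) m := by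
    rw [MvPolynomial.coe_basisMonomials, smul_monomial, smul_eq_mul, mul_one]
  rw [h1, map_smul, ρ, Module.Basis.constr_basis, smul_monomial, smul_eq_mul, mul_one]

lemma ρ_mul_gen (q : ℕ) (hq : 2 ≤ q) (g : MvPolynomial (Fin n) R) (i : Fin n) :
    ρ R n q (g * (X i ^ q - X i)) = 0 := by
  induction g using MvPolynomial.induction_on' with
  | monomial m a =>
    have hX : (X i : MvPolynomial (Fin n) R) = monomial (Finsupp.single i 1) 1 := by
      rw [← X_pow_eq_monomial, pow_one]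
    have e1 : monomial m a * (X i ^ q - X i) =
        monomial (m + Finsupp.single i q) a - monomial (m + Finsupp.single i 1) a := by
      rw [mul_sub, X_pow_eq_monomial, monomial_mul, mul_one]
      congr 1
      rw [hX, monomial_mul, mul_one]
    rw [e1, map_sub, ρ_monomial, ρ_monomial, red_add q hq, sub_self]
  | add p₁ p₂ h₁ h₂ =>
    rw [add_mul, map_add, h₁, h₂, add_zero]

lemma ρ_mul_mem (q : ℕ) (hq : 2 ≤ q) {x : MvPolynomial (Fin n) R} (hx : x ∈ J R n q) :
    ∀ g : MvPolynomial (Fin n) R, ρ R n q (g * x) = 0 := by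
  unfold J at hx
  induction hx using Submodule.span_induction with
  | mem x hx =>
    obtain ⟨i, rfl⟩ := hx
    intro g
    exact ρ_mul_gen q hq g i
  | zero =>
    intro g
    rw [mul_zero, map_zero]
  | add x y _ _ hx hy =>
    intro g
    rw [mul_add, map_add, hx, hy, add_zero]
  | smul c x _ hx =>
    intro g
    rw [smul_eq_mul, ← mul_assoc]
    exact hx _

/-- Normal form: a polynomial with all exponents `< q` lying in `(T_i^q - T_i)` vanishes. -/
theorem eq_zero_of_mem_J (q : ℕ) (hq : 2 ≤ q) (h : MvPolynomial (Fin n) R)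
    (hdeg : ∀ m ∈ h.support, ∀ i, m i < q) (hmem : h ∈ J R n q) : h = 0 := by
  have h1 : ρ R n q h = 0 := by
    have := ρ_mul_mem q hq hmem 1
    rwa [one_mul] at this
  have h2 : ρ R n q h = h := by
    calc ρ R n q h = ρ R n q (∑ v ∈ h.support, monomial v (coeff v h)) := by
          rw [support_sum_monomial_coeff]
      _ = ∑ v ∈ h.support, monomial (red q v) (coeff v h) := by
          rw [map_sum]
          exact Finset.sum_congr rfl (fun m _ => ρ_monomial q m _)
      _ = ∑ v ∈ h.support, monomial v (coeff v h) :=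
          Finset.sum_congr rfl (fun m hm => by rw [red_of_lt (hdeg m hm)])
      _ = h := support_sum_monomial_coeff h
  rw [← h2, h1]

theorem not_mem_J (q : ℕ) (hq : 2 ≤ q) {h : MvPolynomial (Fin n) R} (hne : h ≠ 0)
    (hdeg : h.totalDegree < q) : h ∉ J R n q := by
  intro hmem
  apply hne
  refine eq_zero_of_mem_J q hq h (fun m hm i => ?_) hmem
  calc m i ≤ degreeOf i h := monomial_le_degreeOf i hm
    _ ≤ h.totalDegree := degreeOf_le_totalDegree h i
    _ < q := hdeg

/-! ### Étaleness -/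

lemma unit_aux {A : Type*} [CommRing A] (x c u : A) (q : ℕ) (hq : 2 ≤ q) (hx : x ^ q = x)
    (hu : (c - 1) * u = 1) : (c * x ^ (q - 1) - 1) * (c * u * x ^ (q - 1) - 1) = 1 := by
  have he : x ^ (q - 1) * x ^ (q - 1) = x ^ (q - 1) := by
    have h1 : x ^ (q - 1) * x ^ (q - 1) = x ^ q * x ^ (q - 2) := by
      rw [← pow_add, ← pow_add]
      congr 1
      omega
    rw [h1, hx, ← pow_succ']
    congr 1
    omega
  linear_combination (c ^ 2 * u) * he + (c * x ^ (q - 1)) * hu

variable (R)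

theorem etale (n q : ℕ) (hq : 2 ≤ q) (u : R) (hu : ((q : R) - 1) * u = 1) :
    Algebra.Etale R (MvPolynomial (Fin n) R ⧸ J R n q) := by
  classical
  let v : Fin n → MvPolynomial (Fin n) R := fun i => X i ^ q - X i
  let P : Algebra.PreSubmersivePresentation R
      (MvPolynomial (Fin n) R ⧸ Ideal.span (Set.range v)) (Fin n) (Fin n) :=
    Algebra.PreSubmersivePresentation.naive (R := R) (v := v) (id : Fin n → Fin n)
      Function.injective_id
  have hxq : ∀ j : Fin n, (Ideal.Quotient.mk (Ideal.span (Set.range v)) (X j)) ^ q =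
      Ideal.Quotient.mk (Ideal.span (Set.range v)) (X j) := by
    intro j
    rw [← map_pow, ← sub_eq_zero, ← map_sub, Ideal.Quotient.eq_zero_iff_mem]
    exact Ideal.subset_span ⟨j, rfl⟩
  have hjac : IsUnit P.jacobian := by
    rw [Algebra.PreSubmersivePresentation.jacobian_eq_jacobiMatrix_det]
    have hM : P.jacobiMatrix =
        Matrix.diagonal (fun j : Fin n => C (q : R) * X j ^ (q - 1) - 1) := by
      ext i j
      rw [Algebra.PreSubmersivePresentation.jacobiMatrix_naive]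
      by_cases hij : i = j
      · subst hij
        rw [Matrix.diagonal_apply_eq]
        simp only [v, id, map_sub, Derivation.leibniz_pow, pderiv_X_self, smul_eq_mul, mul_one]
        rw [nsmul_eq_mul, map_natCast]
      · rw [Matrix.diagonal_apply_ne _ hij]
        simp only [v, id, map_sub, Derivation.leibniz_pow, pderiv_X_of_ne (Ne.symm hij),
          smul_zero, sub_zero]
    rw [hM, Matrix.det_diagonal, map_prod]
    refine IsUnit.of_mul_eq_one
      (∏ j : Fin n, algebraMap _ (MvPolynomial (Fin n) R ⧸ Ideal.span (Set.range v))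
        (C ((q : R) * u) * X j ^ (q - 1) - 1)) ?_
    rw [← Finset.prod_mul_distrib]
    refine Finset.prod_eq_one (fun j _ => ?_)
    have h0 := unit_aux (Ideal.Quotient.mk (Ideal.span (Set.range v)) (X j))
      (Ideal.Quotient.mk (Ideal.span (Set.range v)) (C (q : R)))
      (Ideal.Quotient.mk (Ideal.span (Set.range v)) (C u)) q hq (hxq j)
      (by
        have h9 := congrArg (fun z : R => Ideal.Quotient.mk (Ideal.span (Set.range v)) (C z)) hu
        simpa only [map_mul, map_sub, map_one] using h9)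
    have e1 : algebraMap P.Ring (MvPolynomial (Fin n) R ⧸ Ideal.span (Set.range v)) =
        Ideal.Quotient.mk (Ideal.span (Set.range v)) := rfl
    rw [e1]
    simp only [map_sub, map_mul, map_pow, map_one]
    exact h0
  let P' : Algebra.SubmersivePresentation R
      (MvPolynomial (Fin n) R ⧸ Ideal.span (Set.range v)) (Fin n) (Fin n) := ⟨P, hjac⟩
  have hsm : Algebra.IsStandardSmoothOfRelativeDimension 0 R
      (MvPolynomial (Fin n) R ⧸ Ideal.span (Set.range v)) :=
    P'.isStandardSmoothOfRelativeDimension (by simp [Algebra.Presentation.dimension])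
  exact (inferInstance : Algebra.Etale R (MvPolynomial (Fin n) R ⧸ Ideal.span (Set.range v)))

theorem isReduced_quot (κ : Type u) [Field κ] (n q : ℕ) (hq : 2 ≤ q) (hne : (q : κ) - 1 ≠ 0) :
    IsReduced (MvPolynomial (Fin n) κ ⧸ J κ n q) := by
  haveI := etale κ n q hq ((q : κ) - 1)⁻¹ (mul_inv_cancel₀ hne)
  exact Algebra.FormallyUnramified.isReduced_of_field κ _

/-! ### Primes -/

variable {R}

theorem exists_prime (Λ : Type u) [CommRing Λ] (n : ℕ) (P : Ideal (MvPolynomial (Fin n) Λ))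
    [P.IsPrime] (h : MvPolynomial (Fin n) Λ) (hh : h ∉ P) :
    ∃ (k : ℕ) (Q : Ideal (MvPolynomial (Fin n) Λ)), Q.IsPrime ∧ h ∉ Q ∧
      Q.comap (C : Λ →+* MvPolynomial (Fin n) Λ) = P.comap C ∧ J Λ n (k + 2) ≤ Q ∧
      C (((k + 2 : ℕ) : Λ) - 1) ∉ Q := by
  classical
  let 𝔭 : Ideal Λ := P.comap (C : Λ →+* MvPolynomial (Fin n) Λ)
  haveI h𝔭 : 𝔭.IsPrime := Ideal.comap_isPrime _ _
  let κ := 𝔭.ResidueField
  let θ : Λ →+* κ := algebraMap Λ κ
  have hker : ∀ a : Λ, θ a = 0 ↔ a ∈ 𝔭 := fun a => Ideal.algebraMap_residueField_eq_zero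
  let Θ : MvPolynomial (Fin n) Λ →+* MvPolynomial (Fin n) κ := MvPolynomial.map θ
  have hne : Θ h ≠ 0 := by
    intro h0
    apply hh
    have hc : ∀ m, coeff m h ∈ 𝔭 := fun m => by
      have h1 : coeff m (Θ h) = 0 := by rw [h0, coeff_zero]
      rw [coeff_map] at h1
      exact (hker _).mp h1
    rw [← support_sum_monomial_coeff h]
    refine Ideal.sum_mem _ fun m _ => ?_
    have h2 : monomial m (coeff m h) = C (coeff m h) * monomial m 1 := by
      rw [C_mul_monomial, mul_one]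
    rw [h2]
    exact Ideal.mul_mem_right _ _ (hc m)
  obtain ⟨q, hq2, hqD, hqu⟩ : ∃ q : ℕ, 2 ≤ q ∧ (Θ h).totalDegree < q ∧ (q : κ) - 1 ≠ 0 := by
    by_cases hc : ∀ m : ℕ, 0 < m → (m : κ) ≠ 0
    · refine ⟨(Θ h).totalDegree + 2, by omega, by omega, ?_⟩
      have h1 := hc ((Θ h).totalDegree + 1) (by omega)
      intro h0
      apply h1
      push_cast at h0 ⊢
      linear_combination h0
    · push Not at hc
      obtain ⟨m, hm0, hm⟩ := hc
      have hm2 : 2 ≤ m := by
        rcases Nat.lt_or_ge m 2 with h1 | h1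
        · have h3 : m = 1 := by omega
          subst h3
          simp at hm
        · exact h1
      have h4 : (Θ h).totalDegree + 1 < m ^ ((Θ h).totalDegree + 1) :=
        Nat.lt_pow_self (by omega)
      refine ⟨m ^ ((Θ h).totalDegree + 1), by omega, by omega, ?_⟩
      rw [Nat.cast_pow, hm, zero_pow (by omega), zero_sub]
      exact neg_ne_zero.mpr one_ne_zero
  obtain ⟨k, rfl⟩ : ∃ k, q = k + 2 := ⟨q - 2, by omega⟩
  haveI hred : IsReduced (MvPolynomial (Fin n) κ ⧸ J κ n (k + 2)) :=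
    isReduced_quot κ n (k + 2) hq2 hqu
  have hnotin : Θ h ∉ J κ n (k + 2) := not_mem_J (k + 2) hq2 hne hqD
  let x : MvPolynomial (Fin n) κ ⧸ J κ n (k + 2) := Ideal.Quotient.mk _ (Θ h)
  have hx0 : x ≠ 0 := by
    intro h0
    exact hnotin (Ideal.Quotient.eq_zero_iff_mem.mp h0)
  have hxn : ¬ IsNilpotent x := fun hn => hx0 hn.eq_zero
  obtain ⟨Q'', hQ''prime, hxQ⟩ :
      ∃ Q'' : Ideal (MvPolynomial (Fin n) κ ⧸ J κ n (k + 2)), Q''.IsPrime ∧ x ∉ Q'' := by
    by_contra hcon
    push Not at hcon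
    apply hxn
    rw [← mem_nilradical, nilradical_eq_sInf, Ideal.mem_sInf]
    intro I hI
    exact hcon I hI
  let Q' : Ideal (MvPolynomial (Fin n) κ) := Q''.comap (Ideal.Quotient.mk (J κ n (k + 2)))
  haveI hQ'prime : Q'.IsPrime := Ideal.comap_isPrime _ _
  have hunit : ∀ c : κ, c ≠ 0 → (C c : MvPolynomial (Fin n) κ) ∉ Q' := by
    intro c hc hmem
    have h1 : IsUnit (C c : MvPolynomial (Fin n) κ) := (IsUnit.mk0 c hc).map C
    exact hQ'prime.ne_top (Ideal.eq_top_of_isUnit_mem _ hmem h1)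
  refine ⟨k, Q'.comap Θ, Ideal.comap_isPrime _ _, hxQ, ?_, ?_, ?_⟩
  · ext a
    simp only [Ideal.mem_comap]
    have h1 : Θ (C a) = C (θ a) := MvPolynomial.map_C θ a
    rw [h1]
    constructor
    · intro h2
      by_contra h3
      exact hunit (θ a) (fun h4 => h3 ((hker a).mp h4)) h2
    · intro h2
      rw [(hker a).mpr h2, map_zero]
      exact Q'.zero_mem
  · unfold J
    rw [Ideal.span_le]
    rintro _ ⟨i, rfl⟩
    show Θ (X i ^ (k + 2) - X i) ∈ Q'
    have h1 : Θ (X i ^ (k + 2) - X i) = X i ^ (k + 2) - X i := by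
      rw [map_sub, map_pow]
      simp only [Θ, MvPolynomial.map_X]
    rw [h1]
    show Ideal.Quotient.mk (J κ n (k + 2)) _ ∈ Q''
    have h2 : Ideal.Quotient.mk (J κ n (k + 2)) (X i ^ (k + 2) - X i) = 0 :=
      Ideal.Quotient.eq_zero_iff_mem.mpr (Ideal.subset_span ⟨i, rfl⟩)
    rw [h2]
    exact Q''.zero_mem
  · show Θ (C (((k + 2 : ℕ) : Λ) - 1)) ∉ Q'
    have h1 : Θ (C (((k + 2 : ℕ) : Λ) - 1)) = C (((k + 2 : ℕ) : κ) - 1) := by
      rw [show Θ (C (((k + 2 : ℕ) : Λ) - 1)) = C (θ (((k + 2 : ℕ) : Λ) - 1)) from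
        MvPolynomial.map_C θ _, map_sub, map_natCast, map_one]
    rw [h1]
    exact hunit _ hqu

/-- `Λ[1/(q-1)]`. -/
abbrev Λq (Λ : Type u) [CommRing Λ] (q : ℕ) : Type u := Localization.Away ((q : Λ) - 1)

/-- The étale `Λ`-algebra `Λ[1/(q-1)][T_1, …, T_n]/(T_i^q - T_i)`. -/
abbrev E (Λ : Type u) [CommRing Λ] (n q : ℕ) : Type u :=
  MvPolynomial (Fin n) (Λq Λ q) ⧸ J (Λq Λ q) n q

/-- The structure map `Λ[T] → E`. -/
noncomputable def φ (Λ : Type u) [CommRing Λ] (n q : ℕ) : MvPolynomial (Fin n) Λ →+* E Λ n q :=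
  (Ideal.Quotient.mk (J (Λq Λ q) n q)).comp (MvPolynomial.map (algebraMap Λ (Λq Λ q)))

attribute [local instance] MvPolynomial.algebraMvPolynomial

theorem isLocalizationAway (Λ : Type u) [CommRing Λ] (n q : ℕ) :
    IsLocalization.Away (C ((q : Λ) - 1) : MvPolynomial (Fin n) Λ)
      (MvPolynomial (Fin n) (Λq Λ q)) := by
  have h1 := MvPolynomial.isLocalization (σ := Fin n) (Submonoid.powers ((q : Λ) - 1)) (Λq Λ q)
  rwa [Submonoid.map_powers] at h1

theorem exists_prime_lift (Λ : Type u) [CommRing Λ] (n q : ℕ)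
    (Q : Ideal (MvPolynomial (Fin n) Λ)) [hQ : Q.IsPrime]
    (hJ : J Λ n q ≤ Q) (hq : C ((q : Λ) - 1) ∉ Q) :
    ∃ Q' : Ideal (E Λ n q), Q'.IsPrime ∧ Q'.comap (φ Λ n q) = Q := by
  haveI := isLocalizationAway Λ n q
  let L := MvPolynomial (Fin n) (Λq Λ q)
  let M : Submonoid (MvPolynomial (Fin n) Λ) := Submonoid.powers (C ((q : Λ) - 1))
  have hdisj : Disjoint (M : Set (MvPolynomial (Fin n) Λ)) (Q : Set (MvPolynomial (Fin n) Λ)) := by
    rw [Set.disjoint_left]
    rintro x ⟨m, rfl⟩ hx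
    exact hq (hQ.mem_of_pow_mem m hx)
  let QL : Ideal L := Q.map (algebraMap (MvPolynomial (Fin n) Λ) L)
  haveI hQL : QL.IsPrime := IsLocalization.isPrime_of_isPrime_disjoint M L Q hQ hdisj
  have hcomap : QL.comap (algebraMap (MvPolynomial (Fin n) Λ) L) = Q :=
    IsLocalization.comap_map_of_isPrime_disjoint M L hQ hdisj
  have hJL : J (Λq Λ q) n q ≤ QL := by
    unfold J
    rw [Ideal.span_le]
    rintro _ ⟨i, rfl⟩
    have h1 : (X i ^ q - X i : L) = algebraMap (MvPolynomial (Fin n) Λ) L (X i ^ q - X i) := by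
      rw [map_sub, map_pow, MvPolynomial.algebraMap_def, MvPolynomial.map_X]
    show (X i ^ q - X i : L) ∈ QL
    rw [h1]
    exact Ideal.mem_map_of_mem _ (hJ (Ideal.subset_span ⟨i, rfl⟩))
  have hsurj : Function.Surjective (Ideal.Quotient.mk (J (Λq Λ q) n q)) :=
    Ideal.Quotient.mk_surjective
  have hkerle : RingHom.ker (Ideal.Quotient.mk (J (Λq Λ q) n q)) ≤ QL := by
    rw [Ideal.mk_ker]
    exact hJL
  refine ⟨QL.map (Ideal.Quotient.mk (J (Λq Λ q) n q)),
    Ideal.map_isPrime_of_surjective hsurj hkerle, ?_⟩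
  have h2 : (QL.map (Ideal.Quotient.mk (J (Λq Λ q) n q))).comap
      (Ideal.Quotient.mk (J (Λq Λ q) n q)) = QL := by
    rw [Ideal.comap_map_of_surjective _ hsurj, sup_eq_left]
    exact hkerle
  unfold φ
  rw [← Ideal.comap_comap, h2]
  exact hcomap

theorem etale_comp (Λ : Type u) [CommRing Λ] (n q : ℕ) (hq : 2 ≤ q) :
    ((φ Λ n q).comp (C : Λ →+* MvPolynomial (Fin n) Λ)).Etale := by
  have hunit : IsUnit (algebraMap Λ (Λq Λ q) ((q : Λ) - 1)) :=
    IsLocalization.Away.algebraMap_isUnit _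
  obtain ⟨u, hu⟩ := hunit.exists_right_inv
  have hu' : ((q : Λq Λ q) - 1) * u = 1 := by
    calc ((q : Λq Λ q) - 1) * u = algebraMap Λ (Λq Λ q) ((q : Λ) - 1) * u := by
          rw [map_sub, map_natCast, map_one]
      _ = 1 := hu
  haveI h1 : Algebra.Etale (Λq Λ q) (E Λ n q) := etale (Λq Λ q) n q hq u hu'
  haveI h2 : Algebra.Etale Λ (Λq Λ q) := Algebra.Etale.of_isLocalizationAway ((q : Λ) - 1)
  have h3 : (φ Λ n q).comp (C : Λ →+* MvPolynomial (Fin n) Λ) =
      (algebraMap (Λq Λ q) (E Λ n q)).comp (algebraMap Λ (Λq Λ q)) := by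
    ext a
    simp only [φ, RingHom.comp_apply, MvPolynomial.map_C]
    rfl
  rw [h3]
  exact RingHom.Etale.stableUnderComposition _ _ (RingHom.etale_algebraMap.mpr h2)
    (RingHom.etale_algebraMap.mpr h1)

theorem mk_surjective' (Λ : Type u) [CommRing Λ] (n q : ℕ) :
    Function.Surjective (Ideal.Quotient.mk (J (Λq Λ q) n q)) := Ideal.Quotient.mk_surjective

end Groth.Agent.Helper8.QSecA
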