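import Mathlib
import Groth.Agent.Helper8.QSecA
import Groth.Agent.S4876
import Groth.Agent.S4875

/-!
# Étale quasi-sections of a smooth morphism are schematically dominant
-/

set_option autoImplicit false

namespace Groth.Agent.Helper8.QSecB

open CategoryTheory CategoryTheory.Limits AlgebraicGeometry MvPolynomial
open Groth.Agent.Helper8.QSecA

universe u

attribute [local instance] MvPolynomial.algebraMvPolynomial

/-- On a reduced scheme, a family of morphisms whose images meet every nonempty open is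
schematically dominant. -/
theorem dominant_of_dense {X : Scheme.{u}} [IsReduced X] {ι : Type*} (Z : ι → Scheme.{u})
    (f : ∀ i, Z i ⟶ X)
    (hd : ∀ (W : X.Opens) (w : X), w ∈ W → ∃ i, ∃ z : Z i, f i z ∈ W)
    (V : X.Opens) (t : Γ(X, V)) (ht : ∀ i, (f i).app V t = 0) : t = 0 := by
  by_contra hne
  have h1 : X.basicOpen t ≠ ⊥ := fun h => hne ((basicOpen_eq_bot_iff t).mp h)
  obtain ⟨w, hw⟩ := (TopologicalSpace.Opens.ne_bot_iff_nonempty _).mp h1
  obtain ⟨i, z, hz⟩ := hd _ w hw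
  have h2 : z ∈ (f i) ⁻¹ᵁ (X.basicOpen t) := hz
  rw [Scheme.preimage_basicOpen, ht i, Scheme.basicOpen_zero] at h2
  exact h2

/-- A section vanishing on an open cover (given by open immersions) vanishes. -/
theorem eq_zero_of_locally {X : Scheme.{u}} (V : X.Opens) (t : Γ(X, V))
    (h : ∀ x ∈ V, ∃ (U' : Scheme.{u}) (e : U' ⟶ X) (_ : IsOpenImmersion e),
      x ∈ Set.range e ∧ e.app V t = 0) : t = 0 := by
  refine TopCat.Presheaf.section_ext X.sheaf V t 0 (fun x hx => ?_)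
  obtain ⟨U', e, he, ⟨y, rfl⟩, h0⟩ := h x hx
  show X.presheaf.germ V (e y) hx t = X.presheaf.germ V (e y) hx 0
  have h1 := Scheme.Hom.germ_stalkMap_apply e V y hx t
  rw [h0, map_zero] at h1
  have hinj : Function.Injective (e.stalkMap y) :=
    (ConcreteCategory.bijective_of_isIso (e.stalkMap y)).injective
  apply hinj
  rw [h1, map_zero, map_zero]

/-- Affine space over `Λ`. -/
noncomputable abbrev X₀ (Λ : Type u) [CommRing Λ] (n : ℕ) : Scheme.{u} :=
  Spec (CommRingCat.of (MvPolynomial (Fin n) Λ))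

/-- Its structure morphism. -/
noncomputable abbrev p₀ (Λ : Type u) [CommRing Λ] (n : ℕ) : X₀ Λ n ⟶ Spec (CommRingCat.of Λ) :=
  Spec.map (CommRingCat.ofHom (C : Λ →+* MvPolynomial (Fin n) Λ))

theorem isPullback_mvPoly (Λ : Type u) [CommRing Λ] (n : ℕ) {K : CommRingCat.{u}}
    (θ : CommRingCat.of Λ ⟶ K) :
    IsPullback (Spec.map (CommRingCat.ofHom (MvPolynomial.map (σ := Fin n) θ.hom)))
      (Spec.map (CommRingCat.ofHom (C : K →+* MvPolynomial (Fin n) K))) (p₀ Λ n) (Spec.map θ) := by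
  letI : Algebra Λ K := θ.hom.toAlgebra
  have h1 := CommRingCat.isPushout_of_isPushout Λ K (MvPolynomial (Fin n) Λ)
    (MvPolynomial (Fin n) K)
  have h2 := isPullback_SpecMap_of_isPushout _ _ _ _ h1
  exact h2.flip

/-- The family of étale quasi-sections. -/
noncomputable abbrev Zf (Λ : Type u) [CommRing Λ] (n : ℕ) (i : ULift.{u} ℕ) : Scheme.{u} :=
  Spec (CommRingCat.of (E Λ n (i.down + 2)))

/-- The immersions of the family. -/
noncomputable abbrev ff (Λ : Type u) [CommRing Λ] (n : ℕ) (i : ULift.{u} ℕ) :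
    Zf Λ n i ⟶ X₀ Λ n :=
  Spec.map (CommRingCat.ofHom (φ Λ n (i.down + 2)))

variable (Λ : Type u) [CommRing Λ] (n : ℕ)

instance isImmersion_ff (i : ULift.{u} ℕ) : IsImmersion (ff Λ n i) := by
  have h1 : ff Λ n i =
      Spec.map (CommRingCat.ofHom (Ideal.Quotient.mk (J (Λq Λ (i.down + 2)) n (i.down + 2)))) ≫
      Spec.map (CommRingCat.ofHom (algebraMap (MvPolynomial (Fin n) Λ)
        (MvPolynomial (Fin n) (Λq Λ (i.down + 2))))) := by
    rw [← Spec.map_comp, ← CommRingCat.ofHom_comp]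
    rfl
  rw [h1]
  haveI := isLocalizationAway Λ n (i.down + 2)
  haveI : IsOpenImmersion (Spec.map (CommRingCat.ofHom (algebraMap (MvPolynomial (Fin n) Λ)
      (MvPolynomial (Fin n) (Λq Λ (i.down + 2)))))) :=
    IsOpenImmersion.of_isLocalization (C (((i.down + 2 : ℕ) : Λ) - 1))
  haveI : IsClosedImmersion (Spec.map (CommRingCat.ofHom
      (Ideal.Quotient.mk (J (Λq Λ (i.down + 2)) n (i.down + 2))))) :=
    IsClosedImmersion.spec_of_surjective _ Ideal.Quotient.mk_surjective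
  infer_instance

instance etale_ff (i : ULift.{u} ℕ) : Etale (ff Λ n i ≫ p₀ Λ n) := by
  have h1 : ff Λ n i ≫ p₀ Λ n = Spec.map (CommRingCat.ofHom
      ((φ Λ n (i.down + 2)).comp (C : Λ →+* MvPolynomial (Fin n) Λ))) := by
    rw [← Spec.map_comp, ← CommRingCat.ofHom_comp]
  rw [h1]
  exact HasRingHomProperty.Spec_iff.mpr (etale_comp Λ n (i.down + 2) (by omega))

theorem fiber_reduced (s : Spec (CommRingCat.of Λ)) : IsReduced ((p₀ Λ n).fiber s) := by
  let θ : CommRingCat.of Λ ⟶ (Spec (CommRingCat.of Λ)).residueField s :=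
    CommRingCat.ofHom (algebraMap Λ s.asIdeal.ResidueField) ≫
      (Scheme.Spec.residueFieldIso (CommRingCat.of Λ) s).inv
  have hθ : (Spec (CommRingCat.of Λ)).fromSpecResidueField s = Spec.map θ := by
    rw [Spec.map_comp]
    exact (Scheme.Spec.map_residueFieldIso_inv_eq_fromSpecResidueField _ _).symm
  have sq := isPullback_mvPoly Λ n θ
  let e : (p₀ Λ n).fiber s ≅ Spec (CommRingCat.of
      (MvPolynomial (Fin n) ((Spec (CommRingCat.of Λ)).residueField s))) :=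
    pullback.congrHom rfl hθ ≪≫ sq.isoPullback.symm
  exact isReduced_of_isOpenImmersion e.hom

theorem fiber_dense (s : Spec (CommRingCat.of Λ)) (W : ((p₀ Λ n).fiber s).Opens)
    (w : (p₀ Λ n).fiber s) (hw : w ∈ W) :
    ∃ i : ULift.{u} ℕ, ∃ z : (ff Λ n i ≫ p₀ Λ n).fiber s,
      MoreMor.fiberMap (ff Λ n i) (p₀ Λ n) s z ∈ W := by
  obtain ⟨ι₀, hι₀⟩ : ∃ ι₀ : (p₀ Λ n).fiber s ⟶ X₀ Λ n, ι₀ = (p₀ Λ n).fiberι s := ⟨_, rfl⟩
  obtain ⟨W', hW'open, hW'eq⟩ :=
    (hι₀ ▸ ((p₀ Λ n).fiberι s).isEmbedding : Topology.IsEmbedding ι₀).isInducing.isOpen_iff.mp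
      W.isOpen
  have hxW' : ι₀ w ∈ W' := by
    have h0 : w ∈ ι₀ ⁻¹' W' := by
      rw [hW'eq]
      exact hw
    exact h0
  obtain ⟨_, ⟨h, rfl⟩, hxh, hsub⟩ :=
    PrimeSpectrum.isTopologicalBasis_basic_opens.exists_subset_of_mem_open hxW' hW'open
  have hps : (p₀ Λ n) (ι₀ w) = s := by
    have h0 := (p₀ Λ n).range_fiberι s
    have h1 : ι₀ w ∈ Set.range ((p₀ Λ n).fiberι s) := ⟨w, by rw [hι₀]⟩
    rw [h0] at h1
    exact h1
  obtain ⟨k, Q, hQ, hhQ, hcomap, hJ, hqQ⟩ :=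
    exists_prime Λ n (ι₀ w).asIdeal h ((PrimeSpectrum.mem_basicOpen _ _).mp hxh)
  let x' : X₀ Λ n := (⟨Q, hQ⟩ : PrimeSpectrum (MvPolynomial (Fin n) Λ))
  haveI := hQ
  obtain ⟨Q', hQ', hQ'comap⟩ := exists_prime_lift Λ n (k + 2) Q hJ hqQ
  let z₀ : Zf Λ n ⟨k⟩ := (⟨Q', hQ'⟩ : PrimeSpectrum (E Λ n (k + 2)))
  have hz₀ : ff Λ n ⟨k⟩ z₀ = x' := PrimeSpectrum.ext hQ'comap
  have hx's : (p₀ Λ n) x' = s := by
    rw [← hps]
    exact PrimeSpectrum.ext hcomap
  have hz₀s : (ff Λ n ⟨k⟩ ≫ p₀ Λ n) z₀ = s := by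
    rw [Scheme.Hom.comp_apply, hz₀, hx's]
  obtain ⟨z, hz⟩ : z₀ ∈ Set.range ((ff Λ n ⟨k⟩ ≫ p₀ Λ n).fiberι s) := by
    rw [Scheme.Hom.range_fiberι]
    exact hz₀s
  refine ⟨⟨k⟩, z, ?_⟩
  have h1 : ι₀ (MoreMor.fiberMap (ff Λ n ⟨k⟩) (p₀ Λ n) s z) = x' := by
    have h2 : MoreMor.fiberMap (ff Λ n ⟨k⟩) (p₀ Λ n) s ≫ ι₀ =
        (ff Λ n ⟨k⟩ ≫ p₀ Λ n).fiberι s ≫ ff Λ n ⟨k⟩ := by
      rw [hι₀]
      exact pullback.lift_fst _ _ _
    rw [← Scheme.Hom.comp_apply, h2, Scheme.Hom.comp_apply, hz, hz₀]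
  have h3 : MoreMor.fiberMap (ff Λ n ⟨k⟩) (p₀ Λ n) s z ∈ ι₀ ⁻¹' W' := by
    show ι₀ _ ∈ W'
    rw [h1]
    exact hsub ((PrimeSpectrum.mem_basicOpen _ _).mpr hhQ)
  rw [hW'eq] at h3
  exact h3

theorem univ_dominant [IsNoetherianRing Λ] (S' : Scheme.{u})
    (g : S' ⟶ Spec (CommRingCat.of Λ))
    (V : (pullback (p₀ Λ n) g).Opens) (t : Γ(pullback (p₀ Λ n) g, V))
    (ht : ∀ i : ULift.{u} ℕ, (pullback.map (ff Λ n i ≫ p₀ Λ n) g (p₀ Λ n) g (ff Λ n i) (𝟙 S')
      (𝟙 _) (Category.comp_id _) ((Category.comp_id _).trans (Category.id_comp _).symm)).app V t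
        = 0) : t = 0 := by
  haveI : ∀ i, Flat (ff Λ n i ≫ p₀ Λ n) := fun i => inferInstance
  refine ((Groth.Agent.S4876.result (p₀ Λ n) (Zf Λ n) (ff Λ n)).mpr ?_) S' g V t ht
  intro s V t ht
  haveI : IsReduced ((p₀ Λ n).fiber s) := fiber_reduced Λ n s
  exact dominant_of_dense _ (fun i => MoreMor.fiberMap (ff Λ n i) (p₀ Λ n) s)
    (fiber_dense Λ n s) V t ht

omit Λ n in
theorem main_family {X S : Scheme.{u}} (p : X ⟶ S) [Smooth p] (x : X) :
    ∃ (U' : Scheme.{u}) (e : U' ⟶ X) (_ : IsOpenImmersion e) (ι' : Type u)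
      (Z : ι' → Scheme.{u}) (j : ∀ i, Z i ⟶ U'),
      x ∈ Set.range e ∧ (∀ i, IsImmersion (j i)) ∧ (∀ i, Etale (j i ≫ e ≫ p)) ∧
      ∀ (V : U'.Opens) (t : Γ(U', V)), (∀ i, (j i).app V t = 0) → t = 0 := by
  obtain ⟨W, hW, U, hU, hxU, hUW, hsm⟩ := Smooth.exists_isStandardSmooth p x
  obtain ⟨n, g, hgC, hg⟩ := hsm.exists_etale_mvPolynomial
  let Λ := ULift.{u} ℤ
  haveI : IsNoetherianRing Λ := isNoetherianRing_of_ringEquiv ℤ ULift.ringEquiv.symm
  let θ : CommRingCat.of Λ ⟶ Γ(S, W) :=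
    CommRingCat.ofHom ((Int.castRingHom _).comp (ULift.ringEquiv : ULift.{u} ℤ ≃+* ℤ).toRingHom)
  obtain ⟨g', hg'⟩ : ∃ g' : Spec Γ(S, W) ⟶ Spec (CommRingCat.of Λ), g' = Spec.map θ := ⟨_, rfl⟩
  have sq := isPullback_mvPoly Λ n θ
  rw [← hg'] at sq
  haveI : Etale (Spec.map (CommRingCat.ofHom g)) := HasRingHomProperty.Spec_iff.mpr hg
  obtain ⟨π, hπ⟩ : ∃ π : Spec Γ(X, U) ⟶ pullback (p₀ Λ n) g',
      π = Spec.map (CommRingCat.ofHom g) ≫ sq.isoPullback.hom := ⟨_, rfl⟩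
  haveI : Etale π := by
    rw [hπ]
    infer_instance
  have hπsnd : π ≫ pullback.snd (p₀ Λ n) g' = Spec.map (p.appLE W U hUW) := by
    rw [hπ, Category.assoc, sq.isoPullback_hom_snd, ← Spec.map_comp, ← CommRingCat.ofHom_comp,
      hgC]
    rfl
  obtain ⟨F, hF⟩ : ∃ F : ∀ i : ULift.{u} ℕ,
      pullback (ff Λ n i ≫ p₀ Λ n) g' ⟶ pullback (p₀ Λ n) g', F = fun i =>
      pullback.map (ff Λ n i ≫ p₀ Λ n) g' (p₀ Λ n) g' (ff Λ n i) (𝟙 _) (𝟙 _) (Category.comp_id _)
        ((Category.comp_id _).trans (Category.id_comp _).symm) := ⟨_, rfl⟩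
  have hdom := Groth.Agent.S4875.result (fun i => pullback (ff Λ n i ≫ p₀ Λ n) g') F π
    (fun V t ht => univ_dominant Λ n _ g' V t (fun i => by
      have := ht i
      rw [hF] at this
      exact this))
  have hFsnd : ∀ i, F i ≫ pullback.snd (p₀ Λ n) g' = pullback.snd (ff Λ n i ≫ p₀ Λ n) g' := by
    intro i
    rw [hF]
    simp only [pullback.map]
    rw [pullback.lift_snd, Category.comp_id]
  refine ⟨Spec Γ(X, U), hU.fromSpec, inferInstance, ULift.{u} ℕ, fun i => pullback (F i) π,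
    fun i => pullback.snd (F i) π, ?_, ?_, ?_, hdom⟩
  · rw [hU.range_fromSpec]
    exact hxU
  · intro i
    haveI : IsImmersion (F i) := by
      rw [hF]
      exact MorphismProperty.pullbackMap (P := @IsImmersion)
        (inferInstance : IsImmersion (ff Λ n i)) (inferInstance : IsImmersion (𝟙 _)) rfl
        (Category.id_comp _).symm
    infer_instance
  · intro i
    have h1 : pullback.snd (F i) π ≫ hU.fromSpec ≫ p =
        pullback.fst (F i) π ≫ pullback.snd (ff Λ n i ≫ p₀ Λ n) g' ≫ hW.fromSpec := by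
      calc pullback.snd (F i) π ≫ hU.fromSpec ≫ p
          = pullback.snd (F i) π ≫ Spec.map (p.appLE W U hUW) ≫ hW.fromSpec := by
            rw [IsAffineOpen.SpecMap_appLE_fromSpec]
        _ = pullback.snd (F i) π ≫ (π ≫ pullback.snd (p₀ Λ n) g') ≫ hW.fromSpec := by
            rw [hπsnd]
        _ = (pullback.snd (F i) π ≫ π) ≫ pullback.snd (p₀ Λ n) g' ≫ hW.fromSpec := by
            simp only [Category.assoc]
        _ = (pullback.fst (F i) π ≫ F i) ≫ pullback.snd (p₀ Λ n) g' ≫ hW.fromSpec := by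
            rw [pullback.condition]
        _ = pullback.fst (F i) π ≫ (F i ≫ pullback.snd (p₀ Λ n) g') ≫ hW.fromSpec := by
            simp only [Category.assoc]
        _ = pullback.fst (F i) π ≫ pullback.snd (ff Λ n i ≫ p₀ Λ n) g' ≫ hW.fromSpec := by
            rw [hFsnd]
    rw [h1]
    infer_instance

omit Λ n in
theorem main {X S : Scheme.{u}} (p : X ⟶ S) [Smooth p] (V : X.Opens) (t : Γ(X, V))
    (h : ∀ (Z : Scheme.{u}) (j : Z ⟶ X), IsImmersion j → Etale (j ≫ p) → j.app V t = 0) :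
    t = 0 := by
  refine eq_zero_of_locally V t (fun x _ => ?_)
  obtain ⟨U', e, he, ι', Z, j, hx, himm, het, hdom⟩ := main_family p x
  refine ⟨U', e, he, hx, ?_⟩
  refine hdom (e ⁻¹ᵁ V) (e.app V t) (fun i => ?_)
  haveI := himm i
  have h1 := h (Z i) (j i ≫ e) inferInstance (by rw [Category.assoc]; exact het i)
  exact h1

omit Λ n in
theorem main2 {S S' B' : Scheme.{u}} (g : S' ⟶ S) [Smooth g]
    (q : B' ⟶ S') [Flat q] [LocallyOfFinitePresentation q] (V : B'.Opens) (t : Γ(B', V))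
    (h : ∀ (Z : Scheme.{u}) (j : Z ⟶ S'), IsImmersion j → Etale (j ≫ g) →
      (pullback.snd j q).app V t = 0) : t = 0 := by
  refine eq_zero_of_locally V t (fun b _ => ?_)
  obtain ⟨U', e, he, ι', Z, j, hx, himm, het, hdom⟩ := main_family g (q b)
  haveI := he
  refine ⟨pullback e q, pullback.snd e q, inferInstance, ?_, ?_⟩
  · rw [Scheme.Pullback.range_snd]
    exact hx
  · have hdom' := Groth.Agent.S4875.result Z j (pullback.fst e q) hdom
    refine hdom' ((pullback.snd e q) ⁻¹ᵁ V) ((pullback.snd e q).app V t) (fun i => ?_)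
    haveI := himm i
    have h1 := h (Z i) (j i ≫ e) inferInstance (by rw [Category.assoc]; exact het i)
    let c : pullback (j i) (pullback.fst e q) ⟶ pullback (j i ≫ e) q :=
      pullback.lift (pullback.fst _ _) (pullback.snd _ _ ≫ pullback.snd e q)
        (by rw [← Category.assoc, pullback.condition, Category.assoc, Category.assoc,
          pullback.condition])
    have hc : c ≫ pullback.snd (j i ≫ e) q =
        pullback.snd (j i) (pullback.fst e q) ≫ pullback.snd e q := pullback.lift_snd _ _ _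
    have key : ∀ (m : pullback (j i) (pullback.fst e q) ⟶ B'),
        m = c ≫ pullback.snd (j i ≫ e) q → m.app V t = 0 := by
      rintro m rfl
      have h3 : (c ≫ pullback.snd (j i ≫ e) q).app V t =
          c.app ((pullback.snd (j i ≫ e) q) ⁻¹ᵁ V) ((pullback.snd (j i ≫ e) q).app V t) := rfl
      rw [h3, h1]
      exact map_zero _
    have h2 := key _ hc.symm
    exact h2

end Groth.Agent.Helper8.QSecB
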