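import Mathlib
import Groth.Prelude.Def_Neron
import Groth.Prelude.Def_NonAbH2
import Groth.Agent.Helper9.TorsorProps
import Groth.Agent.Helper5.RedDesc
import Groth.Agent.Helper8.TorsorBC
import Groth.Agent.Lead.SchDescent

/-!
# A torsor under a Néron model is a Néron model of its generic fibre
-/

set_option autoImplicit false

namespace Groth.Agent.Helper8.NeronTors

open CategoryTheory CategoryTheory.Limits MonoidalCategory CartesianMonoidalCategory MonObj
  AlgebraicGeometry

universe u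

variable (R : Type u) [CommRing R] [IsDomain R]

/-- the adjunction `Over.map j ⊣ Over.pullback j` for the generic point -/
noncomputable abbrev adj : Over.map (Neron.genPt R) ⊣ Neron.genericFibre R :=
  Over.mapPullbackAdj (Neron.genPt R)

/-- the generic fibre viewed over `Spec R`, as a functor -/
noncomputable abbrev LF : Over (Spec (CommRingCat.of R)) ⥤ Over (Spec (CommRingCat.of R)) :=
  Neron.genericFibre R ⋙ Over.map (Neron.genPt R)

/-- the inclusion of the generic fibre -/
noncomputable abbrev eps (Y : Over (Spec (CommRingCat.of R))) : (LF R).obj Y ⟶ Y :=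
  (adj R).counit.app Y

theorem eps_left (Y : Over (Spec (CommRingCat.of R))) :
    (eps R Y).left = pullback.fst Y.hom (Neron.genPt R) := by
  simp [eps, adj]

theorem eps_naturality {Y Z : Over (Spec (CommRingCat.of R))} (g : Y ⟶ Z) :
    (LF R).map g ≫ eps R Z = eps R Y ≫ g :=
  (adj R).counit.naturality g

theorem bij_iff (Y N : Over (Spec (CommRingCat.of R))) :
    Function.Bijective (fun g : Y ⟶ N => (Neron.genericFibre R).map g ≫
      (Iso.refl ((Neron.genericFibre R).obj N)).hom) ↔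
    Function.Bijective (fun g : Y ⟶ N => eps R Y ≫ g) := by
  have h : (fun g : Y ⟶ N => (Neron.genericFibre R).map g ≫
      (Iso.refl ((Neron.genericFibre R).obj N)).hom) =
      ((adj R).homEquiv _ _) ∘ (fun g : Y ⟶ N => eps R Y ≫ g) := by
    funext g
    simp only [Function.comp_apply, Iso.refl_hom, Category.comp_id, Adjunction.homEquiv_unit,
      Functor.map_comp]
    rw [← Category.assoc]
    erw [(adj R).right_triangle_components Y]
    rw [Category.id_comp]
  rw [h]
  exact ((adj R).homEquiv _ _).bijective.of_comp_iff' _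

theorem isDominant_fst (Y : Over (Spec (CommRingCat.of R))) [Flat Y.hom] :
    IsDominant (pullback.fst Y.hom (Neron.genPt R)) := by
  constructor
  intro y
  have hgen : GeneralizingMap Y.hom := Flat.generalizingMap Y.hom
  let gp : Spec (CommRingCat.of R) := (⟨⊥, Ideal.isPrime_bot⟩ : PrimeSpectrum R)
  have hgp : gp ⤳ Y.hom y := by
    exact (PrimeSpectrum.le_iff_specializes (⟨⊥, Ideal.isPrime_bot⟩ : PrimeSpectrum R)
      (Y.hom y)).mp bot_le
  obtain ⟨y', hy', hy'η⟩ := hgen hgp
  have hmem : y' ∈ Set.range (pullback.fst Y.hom (Neron.genPt R)) := by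
    rw [Scheme.Pullback.range_fst]
    refine ⟨(⟨⊥, Ideal.isPrime_bot⟩ : PrimeSpectrum (FractionRing R)), ?_⟩
    rw [hy'η]
    apply PrimeSpectrum.ext
    change Ideal.comap (algebraMap R (FractionRing R)) ⊥ = ⊥
    exact Ideal.comap_bot_of_injective _ (IsFractionRing.injective R (FractionRing R))
  exact closure_mono (Set.singleton_subset_iff.mpr hmem) hy'.mem_closure

theorem eps_cancel {W N : Over (Spec (CommRingCat.of R))} (hW : Smooth W.hom)
    (hN : IsSeparated N.hom) (g₁ g₂ : W ⟶ N) (h : eps R W ≫ g₁ = eps R W ≫ g₂) : g₁ = g₂ := by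
  haveI := hW
  haveI := hN
  haveI : IsReduced W.left := Groth.Agent.Helper5.RedDesc.isReduced_of_smooth W.hom
  haveI : IsDominant (pullback.fst W.hom (Neron.genPt R)) := isDominant_fst R W
  apply Over.OverMorphism.ext
  refine ext_of_isDominant_of_isSeparated N.hom (by rw [Over.w, Over.w])
    (pullback.fst W.hom (Neron.genPt R)) ?_
  have := congrArg (fun φ => φ.left) h
  simpa only [Over.comp_left, eps_left] using this

theorem smooth_tensor (A B : Over (Spec (CommRingCat.of R))) (hA : Smooth A.hom)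
    (hB : Smooth B.hom) : Smooth (A ⊗ B).hom := by
  haveI := hA
  haveI := hB
  rw [Over.tensorObj_hom]
  infer_instance

theorem main (X : Over (Spec (CommRingCat.of R))) [GrpObj X]
    (hX : Neron.IsNeronModelOf R X ((Neron.genericFibre R).obj X) (Iso.refl _))
    (P : NonAbH1.TorsorSch X Scheme.fppfPrecoverage) :
    Neron.IsNeronModelOf R P.X ((Neron.genericFibre R).obj P.X) (Iso.refl _) := by
  obtain ⟨hXsm, hXsep, hXft, hXqc, hXnmp⟩ := hX
  have hfpqc : NonAbH1.IsTorsorFor Scheme.fpqcPrecoverage P.act := by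
    obtain ⟨hps, Rr, hRr, hsec⟩ := P.isTorsor
    exact ⟨hps, Rr, Scheme.fppfPrecoverage_le_fpqcPrecoverage _ hRr, hsec⟩
  have hPsm : Smooth P.X.hom := Groth.Agent.Helper9.TorsorProps.smooth P.act hfpqc hXsm
  have hPsep : IsSeparated P.X.hom :=
    Groth.Agent.Helper9.TorsorTriv.descend P.act hfpqc.1 @IsSeparated hfpqc.2 hXsep
  have hPft : LocallyOfFiniteType P.X.hom :=
    Groth.Agent.Helper9.TorsorProps.locallyOfFiniteType P.act hfpqc hXft
  have hPqc : QuasiCompact P.X.hom :=
    Groth.Agent.Helper9.TorsorProps.quasiCompact P.act hfpqc hXqc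
  have hPsurj : Surjective P.X.hom := Groth.Agent.Helper9.TorsorProps.surjective P.act hfpqc
  refine ⟨hPsm, hPsep, hPft, hPqc, fun Y hY => ?_⟩
  rw [bij_iff]
  refine ⟨fun g₁ g₂ h => eps_cancel R hY hPsep g₁ g₂ h, fun v => ?_⟩
  -- notation
  let Q : Over (Spec (CommRingCat.of R)) := P.X
  have hps : IsIso (lift P.act.act (snd X Q)) := hfpqc.1
  let dvv : Q ⊗ Q ⟶ X := Groth.Agent.Helper9.TorsorTriv.dv P.act hps
  let Z : Over (Spec (CommRingCat.of R)) := Y ⊗ Q
  have hZ : Smooth Z.hom := smooth_tensor R Y Q hY hPsm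
  let w' : (LF R).obj Z ⟶ X :=
    lift ((LF R).map (fst Y Q) ≫ v) (eps R Z ≫ snd Y Q) ≫ dvv
  obtain ⟨w, hw⟩ : ∃ w : Z ⟶ X, eps R Z ≫ w = w' := ((bij_iff R Z X).mp (hXnmp Z hZ)).2 w'
  let ut : Z ⟶ Q := lift w (snd Y Q) ≫ P.act.act
  have claim1 : eps R Z ≫ ut = (LF R).map (fst Y Q) ≫ v := by
    change eps R Z ≫ lift w (snd Y Q) ≫ P.act.act = _
    rw [comp_lift_assoc, hw]
    exact Groth.Agent.Helper9.TorsorTriv.act_dv P.act hps _ _
  -- the double product
  let T₀ : Over (Spec (CommRingCat.of R)) := Y ⊗ (Q ⊗ Q)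
  have hT₀ : Smooth T₀.hom := smooth_tensor R Y (Q ⊗ Q) hY (smooth_tensor R Q Q hPsm hPsm)
  let q₁ : T₀ ⟶ Z := lift (fst Y (Q ⊗ Q)) (snd Y (Q ⊗ Q) ≫ fst Q Q)
  let q₂ : T₀ ⟶ Z := lift (fst Y (Q ⊗ Q)) (snd Y (Q ⊗ Q) ≫ snd Q Q)
  have claim3 : q₁ ≫ ut = q₂ ≫ ut := by
    apply eps_cancel R hT₀ hPsep
    have e1 : eps R T₀ ≫ q₁ ≫ ut = (LF R).map (fst Y (Q ⊗ Q)) ≫ v := by
      rw [← Category.assoc, ← eps_naturality, Category.assoc, claim1, ← Category.assoc,
        ← Functor.map_comp]
      congr 2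
      exact lift_fst _ _
    have e2 : eps R T₀ ≫ q₂ ≫ ut = (LF R).map (fst Y (Q ⊗ Q)) ≫ v := by
      rw [← Category.assoc, ← eps_naturality, Category.assoc, claim1, ← Category.assoc,
        ← Functor.map_comp]
      congr 2
      exact lift_fst _ _
    rw [e1, e2]
  -- descent along the fppf covering `fst : Y ⊗ Q ⟶ Y`
  haveI := hPsm
  haveI := hPsurj
  haveI : Flat (fst Y Q).left := by rw [Over.fst_left]; infer_instance
  haveI : Surjective (fst Y Q).left := by rw [Over.fst_left]; infer_instance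
  haveI : LocallyOfFinitePresentation (fst Y Q).left := by rw [Over.fst_left]; infer_instance
  have hdesc : ∀ {T : Scheme.{u}} (g₁ g₂ : T ⟶ Z.left),
      g₁ ≫ (fst Y Q).left = g₂ ≫ (fst Y Q).left → g₁ ≫ ut.left = g₂ ≫ ut.left := by
    intro T g₁ g₂ hg
    let T' : Over (Spec (CommRingCat.of R)) := Over.mk (g₁ ≫ Z.hom)
    let G₁ : T' ⟶ Z := Over.homMk g₁ rfl
    let G₂ : T' ⟶ Z := Over.homMk g₂ (by
      change g₂ ≫ Z.hom = g₁ ≫ Z.hom
      rw [← Over.w (fst Y Q), ← Category.assoc, ← hg, Category.assoc])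
    have hG : G₁ ≫ fst Y Q = G₂ ≫ fst Y Q := Over.OverMorphism.ext hg
    let t : T' ⟶ T₀ := lift (G₁ ≫ fst Y Q) (lift (G₁ ≫ snd Y Q) (G₂ ≫ snd Y Q))
    have ht1 : t ≫ q₁ = G₁ := by
      apply CartesianMonoidalCategory.hom_ext
      · simp [t, q₁]
      · simp [t, q₁]
    have ht2 : t ≫ q₂ = G₂ := by
      apply CartesianMonoidalCategory.hom_ext
      · simp [t, q₂, hG]
      · simp [t, q₂]
    have := congrArg (fun φ => (t ≫ φ).left) claim3
    simp only [← Category.assoc, ht1, ht2] at this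
    exact this
  let u₀ : Y.left ⟶ Q.left := EffectiveEpi.desc (fst Y Q).left ut.left hdesc
  have hfac : (fst Y Q).left ≫ u₀ = ut.left := EffectiveEpi.fac _ _ _
  haveI : Epi (fst Y Q).left := inferInstance
  let uu : Y ⟶ Q := Over.homMk u₀ (by
    rw [← cancel_epi (fst Y Q).left, ← Category.assoc, hfac, Over.w ut, Over.w (fst Y Q)])
  have hfu : fst Y Q ≫ uu = ut := Over.OverMorphism.ext hfac
  refine ⟨uu, ?_⟩
  change eps R Y ≫ uu = v
  have h4 : (LF R).map (fst Y Q) ≫ eps R Y ≫ uu = (LF R).map (fst Y Q) ≫ v := by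
    rw [← Category.assoc, eps_naturality, Category.assoc, hfu, claim1]
  -- `(LF R).map (fst Y Q)` is an epimorphism
  have hpb := TorsorBC.isPullback_map (Neron.genPt R) (fst Y Q)
  haveI : Flat ((Neron.genericFibre R).map (fst Y Q)).left :=
    MorphismProperty.of_isPullback (P := @Flat) hpb.flip inferInstance
  haveI : Surjective ((Neron.genericFibre R).map (fst Y Q)).left :=
    MorphismProperty.of_isPullback (P := @Surjective) hpb.flip inferInstance
  haveI : LocallyOfFinitePresentation ((Neron.genericFibre R).map (fst Y Q)).left :=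
    MorphismProperty.of_isPullback (P := @LocallyOfFinitePresentation) hpb.flip inferInstance
  haveI : Epi ((Neron.genericFibre R).map (fst Y Q)).left := inferInstance
  apply Over.OverMorphism.ext
  have h5 := congrArg (fun φ => φ.left) h4
  simp only [Over.comp_left, Functor.comp_map, Over.map_map_left] at h5
  exact (cancel_epi _).mp h5

end Groth.Agent.Helper8.NeronTors
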