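import Groth.Prelude.Def_SGA1
import Mathlib.AlgebraicGeometry.Morphisms.Etale
import Mathlib.AlgebraicGeometry.Morphisms.Finite
import Mathlib.AlgebraicGeometry.Morphisms.QuasiCompact
import Mathlib.AlgebraicGeometry.ZariskisMainTheorem
import Mathlib.AlgebraicGeometry.Morphisms.FormallyUnramified
import Mathlib.RingTheory.Unramified.LocalStructure

universe u

open CategoryTheory CategoryTheory.Limits AlgebraicGeometry

namespace Groth.Agent.Helper8.FinDesc

/-- An étale morphism is locally quasi-finite. -/
theorem lqf_of_etale {X Y : Scheme.{u}} (f : X ⟶ Y) [Etale f] : LocallyQuasiFinite f := by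
  refine ⟨fun {U} hU {V} hV e => ?_⟩
  have h := HasRingHomProperty.appLE (P := @Etale) f ‹_› ⟨U, hU⟩ ⟨V, hV⟩ e
  letI := (f.appLE U V e).hom.toAlgebra
  have h' : Algebra.Etale Γ(Y, U) Γ(X, V) := h
  show Algebra.QuasiFinite Γ(Y, U) Γ(X, V)
  infer_instance

/-- The base change of `g` along any `h` is a quotient map. -/
theorem quot_fst {S S' T : Scheme.{u}} (g : S' ⟶ S) (hg : SGA1.UnivSubmersive g) (h : T ⟶ S) :
    Topology.IsQuotientMap (pullback.fst h g) :=
  hg (pullback.snd h g) h (pullback.fst h g) (IsPullback.of_hasPullback h g)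

/-- A base change of `f` (along `h`), further base changed along `pullback.fst h g`, is a base
change of `pullback.snd f g`. -/
theorem finite_snd {X S S' T XT : Scheme.{u}} (g : S' ⟶ S) (f : X ⟶ S)
    [IsFinite (pullback.snd f g)] (h : T ⟶ S) (fT : XT ⟶ T) (i₁ : XT ⟶ X)
    (sq : IsPullback i₁ fT f h) :
    IsFinite (pullback.snd fT (pullback.fst h g)) := by
  have sqL : IsPullback (pullback.fst fT (pullback.fst h g)) (pullback.snd fT (pullback.fst h g))
      fT (pullback.fst h g) := .of_hasPullback _ _
  have outer := sqL.paste_horiz sq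
  rw [pullback.condition] at outer
  have key := IsPullback.of_right' outer (IsPullback.of_hasPullback f g)
  exact MorphismProperty.of_isPullback (P := @IsFinite) key ‹_›

theorem universallyClosed {X S S' : Scheme.{u}} (g : S' ⟶ S) (hg : SGA1.UnivSubmersive g)
    (f : X ⟶ S) [IsFinite (pullback.snd f g)] : UniversallyClosed f := by
  refine ⟨fun XT T i₁ h fT sq => ?_⟩
  intro Z hZ
  have hq := quot_fst g hg h
  have hfin := finite_snd g f h fT i₁ sq.flip
  rw [← hq.isClosed_preimage]
  have heq : (pullback.fst h g) ⁻¹' (fT '' Z) =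
      (pullback.snd fT (pullback.fst h g)) ''
        ((pullback.fst fT (pullback.fst h g)) ⁻¹' Z) := by
    ext t'
    constructor
    · rintro ⟨z, hz, hzt⟩
      obtain ⟨w, hw1, hw2⟩ := Scheme.Pullback.exists_preimage_pullback (f := fT)
        (g := pullback.fst h g) z t' hzt
      exact ⟨w, by simpa [hw1] using hz, hw2⟩
    · rintro ⟨w, hw, rfl⟩
      refine ⟨_, hw, ?_⟩
      rw [← Scheme.Hom.comp_apply, ← Scheme.Hom.comp_apply, pullback.condition]
  rw [heq]
  exact (pullback.snd fT (pullback.fst h g)).isClosedMap _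
    (hZ.preimage (pullback.fst fT (pullback.fst h g)).continuous)

theorem isSeparated {X S S' : Scheme.{u}} (g : S' ⟶ S) (hg : SGA1.UnivSubmersive g)
    (f : X ⟶ S) [Etale f] [IsFinite (pullback.snd f g)] : IsSeparated f := by
  -- notation
  set Δ := pullback.diagonal f with hΔ
  set pr₁ := pullback.fst f f with hpr₁
  set pr₂ := pullback.snd f f with hpr₂
  set p := pullback.fst f g with hp
  set f' := pullback.snd f g with hf'
  set pY := pr₁ ≫ f with hpY
  set π := pullback.fst pY g with hπ
  set ρ := pullback.snd pY g with hρ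
  have hcond : p ≫ f = f' ≫ g := pullback.condition
  have hcondY : π ≫ pY = ρ ≫ g := pullback.condition
  have hΔ1 : Δ ≫ pr₁ = 𝟙 _ := pullback.diagonal_fst f
  have hΔ2 : Δ ≫ pr₂ = 𝟙 _ := pullback.diagonal_snd f
  -- the map `a : Y' ⟶ X'`
  let a : pullback pY g ⟶ pullback f g :=
    pullback.lift (π ≫ pr₁) ρ (by rw [Category.assoc]; exact hcondY)
  have ha1 : a ≫ p = π ≫ pr₁ := pullback.lift_fst _ _ _
  have ha2 : a ≫ f' = ρ := pullback.lift_snd _ _ _
  let b : pullback pY g ⟶ pullback f g :=
    pullback.lift (π ≫ pr₂) ρ (by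
      rw [Category.assoc, ← pullback.condition (f := f) (g := f)]; exact hcondY)
  have hb1 : b ≫ p = π ≫ pr₂ := pullback.lift_fst _ _ _
  have hb2 : b ≫ f' = ρ := pullback.lift_snd _ _ _
  -- `a` is a base change of `f'`
  have sq1 : IsPullback π a pr₁ p := by
    refine IsPullback.of_bot ?_ ha1.symm (IsPullback.of_hasPullback f g)
    rw [ha2]
    exact IsPullback.of_hasPullback pY g
  have sq2 : IsPullback (π ≫ pr₂) a f (p ≫ f) :=
    sq1.paste_horiz (IsPullback.of_hasPullback f f).flip
  have sq3 : IsPullback b a f' f' := by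
    refine IsPullback.of_right ?_ (hb2.trans ha2.symm) (IsPullback.of_hasPullback f g)
    rw [hb1, ← hcond]
    exact sq2
  have hafin : IsFinite a := MorphismProperty.of_isPullback (P := @IsFinite) sq3 ‹_›
  -- the section
  let σ : pullback f g ⟶ pullback pY g :=
    pullback.lift (p ≫ Δ) f' (by
      rw [Category.assoc, hpY, ← Category.assoc Δ, hΔ1, Category.id_comp]; exact hcond)
  have hσ1 : σ ≫ π = p ≫ Δ := pullback.lift_fst _ _ _
  have hσ2 : σ ≫ ρ = f' := pullback.lift_snd _ _ _
  have hσa : σ ≫ a = 𝟙 _ := by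
    apply pullback.hom_ext
    · rw [Category.assoc, ha1, ← Category.assoc, hσ1, Category.assoc, hΔ1, Category.comp_id,
        Category.id_comp]
    · rw [Category.assoc, ha2, hσ2, Category.id_comp]
  have hσci : IsClosedImmersion σ := by
    have : IsClosedImmersion (σ ≫ a) := by rw [hσa]; infer_instance
    exact IsClosedImmersion.of_comp σ a
  -- the diagonal is an open immersion
  have hΔoi : IsOpenImmersion Δ := inferInstance
  -- preimage of the range of the diagonal is the range of the section
  have hq : Topology.IsQuotientMap π := quot_fst g hg pY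
  have hrange : π ⁻¹' (Set.range Δ) = Set.range σ := by
    apply Set.Subset.antisymm
    · intro y' hy'
      let W : (pullback pY g).Opens := π ⁻¹ᵁ Δ.opensRange
      have hyW : y' ∈ W := hy'
      have hsub : Set.range (W.ι ≫ π) ⊆ Set.range Δ := by
        rintro _ ⟨w, rfl⟩
        have : (W.ι w) ∈ W := by
          have := w.2
          simpa using this
        rw [Scheme.Hom.comp_apply]
        exact this
      let l := IsOpenImmersion.lift Δ (W.ι ≫ π) hsub
      have hl : l ≫ Δ = W.ι ≫ π := IsOpenImmersion.lift_fac _ _ _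
      have hkey : W.ι ≫ a ≫ σ = W.ι := by
        apply pullback.hom_ext
        · rw [Category.assoc, Category.assoc, hσ1, ← Category.assoc a, ha1, Category.assoc,
            ← Category.assoc W.ι, ← hl, Category.assoc, ← Category.assoc Δ,
            hΔ1, Category.id_comp]
        · rw [Category.assoc, Category.assoc, hσ2, ha2]
      refine ⟨a y', ?_⟩
      have h1 : (W.ι ≫ a ≫ σ) ⟨y', hyW⟩ = W.ι ⟨y', hyW⟩ := by rw [hkey]
      simpa [Scheme.Hom.comp_apply] using h1
    · rintro _ ⟨x', rfl⟩
      refine ⟨p x', ?_⟩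
      rw [← Scheme.Hom.comp_apply, ← Scheme.Hom.comp_apply, hσ1]
  have hclosed : IsClosed (Set.range Δ) := by
    rw [← hq.isClosed_preimage, hrange]
    exact σ.isClosedEmbedding.isClosed_range
  exact ⟨IsClosedImmersion.of_isPreimmersion Δ hclosed⟩

theorem main {X S S' : Scheme.{u}} (g : S' ⟶ S) (hg : SGA1.UnivSubmersive g)
    (f : X ⟶ S) [Etale f] [IsFinite (pullback.snd f g)] : IsFinite f := by
  have h1 := universallyClosed g hg f
  have h2 := isSeparated g hg f
  have h3 := lqf_of_etale f
  have h4 : IsProper f := { }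
  exact IsFinite.of_isProper_of_locallyQuasiFinite f

end Groth.Agent.Helper8.FinDesc
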