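import Mathlib

/-!
# Algebra and topology for `S9676` (Stacks 0AXP)
-/

namespace Groth.Agent.Helper8.NormDVR

open IsLocalRing Polynomial

/-- A constructible set either contains or misses a relatively open neighbourhood of `p` in
`closure {p}`. -/
theorem exists_open_of_isConstructible {X : Type*} [TopologicalSpace X] (p : X) {S : Set X}
    (hS : Topology.IsConstructible S) :
    ∃ O : Set X, IsOpen O ∧ p ∈ O ∧ (O ∩ closure {p} ⊆ S ∨ O ∩ closure {p} ∩ S = ∅) := by
  induction hS using Topology.IsConstructible.empty_union_induction with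
  | open_retrocompact U hUopen hUcomp =>
    by_cases hp : p ∈ U
    · exact ⟨U, hUopen, hp, Or.inl Set.inter_subset_left⟩
    · refine ⟨Set.univ, isOpen_univ, Set.mem_univ _, Or.inr ?_⟩
      rw [Set.univ_inter, Set.eq_empty_iff_forall_notMem]
      rintro y ⟨hy, hyU⟩
      obtain ⟨z, hzU, hz⟩ := mem_closure_iff.1 hy U hUopen hyU
      rw [Set.mem_singleton_iff] at hz
      exact hp (hz ▸ hzU)
  | union s hs t ht ihs iht =>
    obtain ⟨O₁, hO₁, hp₁, h₁⟩ := ihs
    obtain ⟨O₂, hO₂, hp₂, h₂⟩ := iht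
    refine ⟨O₁ ∩ O₂, hO₁.inter hO₂, ⟨hp₁, hp₂⟩, ?_⟩
    rcases h₁ with h₁ | h₁
    · left; intro y hy; exact Or.inl (h₁ ⟨hy.1.1, hy.2⟩)
    · rcases h₂ with h₂ | h₂
      · left; intro y hy; exact Or.inr (h₂ ⟨hy.1.2, hy.2⟩)
      · right
        rw [Set.eq_empty_iff_forall_notMem]
        rintro y ⟨⟨⟨hy₁, hy₂⟩, hyc⟩, hys | hyt⟩
        · exact (Set.eq_empty_iff_forall_notMem.1 h₁ y) ⟨⟨hy₁, hyc⟩, hys⟩
        · exact (Set.eq_empty_iff_forall_notMem.1 h₂ y) ⟨⟨hy₂, hyc⟩, hyt⟩
  | compl s hs ih =>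
    obtain ⟨O, hO, hp, h⟩ := ih
    refine ⟨O, hO, hp, ?_⟩
    rcases h with h | h
    · right
      rw [Set.eq_empty_iff_forall_notMem]
      rintro y ⟨hy, hys⟩
      exact hys (h hy)
    · left
      intro y hy hys
      exact (Set.eq_empty_iff_forall_notMem.1 h y) ⟨hy, hys⟩

/-- Near a minimal prime `p` over `(g)`, the zero locus of `g` is the closure of `p`. -/
theorem exists_notMem_forall_le {R : Type*} [CommRing R] [IsNoetherianRing R]
    (p : Ideal R) [hp' : p.IsPrime] (g : R) (hp : p ∈ (Ideal.span {g}).minimalPrimes) :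
    ∃ h : R, h ∉ p ∧ ∀ q : Ideal R, q.IsPrime → g ∈ q → h ∉ q → p ≤ q := by
  classical
  have hfin := Ideal.finite_minimalPrimes_of_isNoetherianRing R (Ideal.span {g})
  let F : Finset (Ideal R) := hfin.toFinset.erase p
  have hJ : ¬ (F.prod id) ≤ p := by
    intro hle
    obtain ⟨q, hqF, hqp⟩ := (Ideal.IsPrime.prod_le hp').1 hle
    rw [Finset.mem_erase, Set.Finite.mem_toFinset] at hqF
    have hq_min : q ∈ (Ideal.span {g}).minimalPrimes := hqF.2
    have : p ≤ q := hp.2 hq_min.1 hqp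
    exact hqF.1 (le_antisymm hqp this)
  obtain ⟨h, hhJ, hhp⟩ := SetLike.not_le_iff_exists.1 hJ
  refine ⟨h, hhp, fun q hq hgq hhq => ?_⟩
  haveI := hq
  obtain ⟨q₀, hq₀, hq₀q⟩ := Ideal.exists_minimalPrimes_le (I := Ideal.span {g}) (J := q)
    ((Ideal.span_singleton_le_iff_mem _).2 hgq)
  by_cases hq₀p : q₀ = p
  · exact hq₀p ▸ hq₀q
  · exfalso
    have hmem : q₀ ∈ F := Finset.mem_erase.2 ⟨hq₀p, hfin.mem_toFinset.2 hq₀⟩
    have : F.prod id ≤ q₀ := Ideal.prod_le_inf.trans (Finset.inf_le hmem)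
    exact hhq (hq₀q (this hhJ))

/-- A height one prime containing `g`, where `g` avoids all minimal primes, is minimal over `(g)`. -/
theorem mem_minimalPrimes_span_singleton {R : Type*} [CommRing R] (p : Ideal R) [p.IsPrime]
    (hht : p.height = 1) (g : R) (hg : g ∈ p) (hgmin : ∀ q ∈ minimalPrimes R, g ∉ q) :
    p ∈ (Ideal.span {g}).minimalPrimes := by
  refine ⟨⟨inferInstance, (Ideal.span_singleton_le_iff_mem _).2 hg⟩, fun q hq hqp => ?_⟩
  by_contra hpq
  haveI := hq.1
  have hlt : q < p := lt_of_le_of_ne hqp (fun h => hpq (h ▸ le_refl _))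
  haveI : p.FiniteHeight := ⟨Or.inr (by rw [hht]; exact ENat.one_ne_top)⟩
  have h0 : q.height < 1 := hht ▸ Ideal.height_strict_mono_of_isPrime_of_isPrime hlt
  have hq0 : q.height = 0 := Order.lt_one_iff.1 h0
  exact hgmin q (Ideal.height_eq_zero_iff.1 hq0) ((Ideal.span_singleton_le_iff_mem _).1 hq.2)

/-- Local criterion. -/
theorem isDVR_of_local (O : Type*) [CommRing O] [IsLocalRing O] [IsNoetherianRing O]
    (g : O) (hgm : g ∈ maximalIdeal O) (hgreg : ∀ a : O, g * a = 0 → a = 0)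
    (hrad : maximalIdeal O ≤ (Ideal.span {g}).radical)
    (hIC : ∀ y : O, (∀ x ∈ maximalIdeal O, ∃ c ∈ maximalIdeal O, y * x = g * c) →
      ∃ a, y = g * a) :
    ∃ _ : IsDomain O, IsDiscreteValuationRing O := by
  classical
  obtain ⟨N, hN⟩ := Ideal.exists_pow_le_of_le_radical_of_fg hrad
    (IsNoetherian.noetherian (maximalIdeal O))
  have hP : ∃ n, maximalIdeal O ^ n ≤ Ideal.span {g} := ⟨N, hN⟩
  have hk1 : maximalIdeal O ^ (Nat.find hP) ≤ Ideal.span {g} := Nat.find_spec hP
  have hk0 : Nat.find hP ≠ 0 := by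
    intro h0
    rw [h0, pow_zero, Ideal.one_eq_top] at hk1
    have h1 : (1 : O) ∈ Ideal.span {g} := hk1 Submodule.mem_top
    rw [Ideal.mem_span_singleton'] at h1
    obtain ⟨a, ha⟩ := h1
    exact (IsLocalRing.mem_maximalIdeal _).1 hgm (IsUnit.of_mul_eq_one_right a ha)
  obtain ⟨j, hj⟩ := Nat.exists_eq_succ_of_ne_zero hk0
  have hjnot : ¬ maximalIdeal O ^ j ≤ Ideal.span {g} := Nat.find_min hP (by omega)
  obtain ⟨y, hyj, hyg⟩ := SetLike.not_le_iff_exists.1 hjnot
  have hyx : ∀ x ∈ maximalIdeal O, ∃ c, y * x = g * c := by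
    intro x hx
    have h1 : y * x ∈ maximalIdeal O ^ (Nat.find hP) := by
      rw [hj, pow_succ]
      exact Ideal.mul_mem_mul hyj hx
    have h2 := hk1 h1
    rw [Ideal.mem_span_singleton'] at h2
    obtain ⟨c, hc⟩ := h2
    exact ⟨c, by rw [← hc, mul_comm]⟩
  have hex : ∃ x ∈ maximalIdeal O, ∃ c, c ∉ maximalIdeal O ∧ y * x = g * c := by
    by_contra hcon
    push_neg at hcon
    apply hyg
    obtain ⟨a, ha⟩ := hIC y (fun x hx => by
      obtain ⟨c, hc⟩ := hyx x hx
      refine ⟨c, ?_, hc⟩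
      by_contra hcm
      exact hcon x hx c hcm hc)
    rw [ha]
    exact Ideal.mul_mem_right _ _ (Ideal.mem_span_singleton_self g)
  obtain ⟨x₀, hx₀, c, hc, hyc⟩ := hex
  have hcu : IsUnit c := by
    by_contra h; exact hc ((IsLocalRing.mem_maximalIdeal _).2 h)
  obtain ⟨cu, rfl⟩ := hcu
  have htm : x₀ * ↑cu⁻¹ ∈ maximalIdeal O := Ideal.mul_mem_right _ _ hx₀
  have hgyt : g = y * (x₀ * ↑cu⁻¹) := by
    rw [← mul_assoc, hyc, mul_assoc, Units.mul_inv, mul_one]
  generalize x₀ * (↑cu⁻¹ : O) = t at htm hgyt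
  have hyreg : ∀ z : O, y * z = 0 → z = 0 := by
    intro z hz
    apply hgreg
    rw [hgyt, mul_right_comm, hz, zero_mul]
  have htreg : ∀ z : O, t * z = 0 → z = 0 := by
    intro z hz
    apply hgreg
    rw [hgyt, mul_assoc, hz, mul_zero]
  have hmt : maximalIdeal O = Ideal.span {t} := by
    apply le_antisymm
    · intro a ha
      obtain ⟨c', hc'⟩ := hyx a ha
      rw [Ideal.mem_span_singleton']
      refine ⟨c', ?_⟩
      have h1 : y * (a - t * c') = 0 := by
        rw [mul_sub, hc', hgyt]; ring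
      have h2 := hyreg _ h1
      rw [sub_eq_zero] at h2
      rw [h2, mul_comm]
    · rw [Ideal.span_singleton_le_iff_mem]; exact htm
  have hstruct : ∀ a : O, a ≠ 0 → ∃ (n : ℕ) (u : Oˣ), a = ↑u * t ^ n := by
    intro a ha
    have hne : ∃ i, a ∉ maximalIdeal O ^ i := by
      by_contra hcon
      push_neg at hcon
      have h1 : a ∈ (⨅ i, maximalIdeal O ^ i : Ideal O) := (Ideal.mem_iInf).2 hcon
      rw [Ideal.iInf_pow_eq_bot_of_isLocalRing (maximalIdeal O) Ideal.IsPrime.ne_top'] at h1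
      exact ha ((Submodule.mem_bot O).1 h1)
    have hi : a ∉ maximalIdeal O ^ (Nat.find hne) := Nat.find_spec hne
    have hi0 : Nat.find hne ≠ 0 := by
      intro h0; apply hi; rw [h0, pow_zero, Ideal.one_eq_top]; exact Submodule.mem_top
    obtain ⟨n, hn⟩ := Nat.exists_eq_succ_of_ne_zero hi0
    have han : a ∈ maximalIdeal O ^ n := by
      by_contra h; exact Nat.find_min hne (by omega : n < Nat.find hne) h
    have han' := han
    rw [hmt, Ideal.span_singleton_pow, Ideal.mem_span_singleton'] at han'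
    obtain ⟨u, hu⟩ := han'
    have hunit : IsUnit u := by
      by_contra hnu
      have hum : u ∈ maximalIdeal O := (IsLocalRing.mem_maximalIdeal _).2 hnu
      apply hi
      have h3 : u * t ^ n ∈ maximalIdeal O ^ n * maximalIdeal O := by
        rw [mul_comm u]
        exact Ideal.mul_mem_mul (Ideal.pow_mem_pow htm n) hum
      rw [hn, pow_succ, ← hu]
      exact h3
    obtain ⟨uu, rfl⟩ := hunit
    exact ⟨n, uu, hu.symm⟩
  have htpow : ∀ (n : ℕ) (z : O), t ^ n * z = 0 → z = 0 := by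
    intro n
    induction n with
    | zero => intro z hz; simpa using hz
    | succ n ih =>
      intro z hz
      apply ih
      apply htreg
      rw [← mul_assoc, ← pow_succ']
      exact hz
  haveI : NoZeroDivisors O := ⟨by
    intro a b hab
    by_contra hcon
    push_neg at hcon
    obtain ⟨n, u, rfl⟩ := hstruct a hcon.1
    obtain ⟨l, v, rfl⟩ := hstruct b hcon.2
    have h1 : t ^ (n + l) * (↑u * ↑v) = 0 := by rw [pow_add]; linear_combination hab
    have h2 := htpow _ _ h1
    exact (u * v).ne_zero (by simp at h2)⟩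
  haveI : IsDomain O := NoZeroDivisors.to_isDomain O
  refine ⟨inferInstance, ?_⟩
  have hg0 : g ≠ 0 := by
    intro h0
    have := hgreg 1 (by rw [h0, zero_mul])
    exact one_ne_zero this
  have hnf : ¬ IsField O := by
    rw [IsLocalRing.isField_iff_maximalIdeal_eq]
    intro hbot
    rw [hbot] at hgm
    exact hg0 ((Submodule.mem_bot O).1 hgm)
  have hprinc : (maximalIdeal O).IsPrincipal := ⟨⟨t, hmt⟩⟩
  exact ((IsDiscreteValuationRing.TFAE O hnf).out 0 4).2 hprinc

/-- Uniform denominators. -/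
theorem exists_uniform {A : Type*} [CommRing A] [IsNoetherianRing A] (p : Ideal A) [hp : p.IsPrime]
    (g y₀ : A) (h : ∀ x ∈ p, ∃ u ∉ p, ∃ d ∈ p, u * y₀ * x = g * d) :
    ∃ u ∉ p, ∀ x ∈ p, ∃ d ∈ p, u * y₀ * x = g * d := by
  classical
  obtain ⟨S, hS⟩ := (IsNoetherian.noetherian p : p.FG)
  have key : ∀ T : Finset A, (↑T : Set A) ⊆ p →
      ∃ u ∉ p, ∀ x ∈ Ideal.span (↑T : Set A), ∃ d ∈ p, u * y₀ * x = g * d := by
    intro T
    induction T using Finset.induction_on with
    | empty =>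
      intro _
      refine ⟨1, (Ideal.ne_top_iff_one p).1 hp.ne_top, fun x hx => ⟨0, p.zero_mem, ?_⟩⟩
      rw [Finset.coe_empty, Ideal.span_empty, Ideal.mem_bot] at hx
      rw [hx, mul_zero, mul_zero]
    | insert a T ha ih =>
      intro hsub
      obtain ⟨u₁, hu₁, h₁⟩ := ih (fun z hz => hsub (by
        rw [Finset.coe_insert]; exact Set.mem_insert_of_mem _ hz))
      obtain ⟨u₂, hu₂, d₂, hd₂, h₂⟩ := h a (hsub (by
        rw [Finset.coe_insert]; exact Set.mem_insert _ _))
      refine ⟨u₁ * u₂, ?_, ?_⟩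
      · exact fun hmem => (hp.mem_or_mem hmem).elim hu₁ hu₂
      · intro x hx
        rw [Finset.coe_insert, Ideal.mem_span_insert] at hx
        obtain ⟨r, x', hx', rfl⟩ := hx
        obtain ⟨d₁, hd₁, e₁⟩ := h₁ x' hx'
        refine ⟨r * u₁ * d₂ + u₂ * d₁, ?_, ?_⟩
        · exact p.add_mem (p.mul_mem_left _ hd₂) (p.mul_mem_left _ hd₁)
        · linear_combination (r * u₁) * h₂ + u₂ * e₁
  obtain ⟨u, hu, hux⟩ := key S (by rw [← hS]; exact Ideal.subset_span)
  exact ⟨u, hu, fun x hx => hux x (by rw [← hS] at hx; exact hx)⟩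


/-- **Key algebraic lemma.**  `A` Noetherian, integrally closed in `B` along the injective map `ψ`,
`p` a height one prime, `g ∈ p` avoiding all minimal primes and becoming a unit in `B` up to an
element `s ∉ p`.  Then `A_p` is a discrete valuation ring. -/
theorem isDVR_localization {A B : Type*} [CommRing A] [CommRing B] [IsNoetherianRing A]
    (ψ : A →+* B) (hinj : Function.Injective ψ)
    (hic : ∀ z : B, ψ.IsIntegralElem z → z ∈ ψ.range)
    (p : Ideal A) [hpp : p.IsPrime] (hht : p.height = 1)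
    (g : A) (hg : g ∈ p) (hgmin : ∀ q ∈ minimalPrimes A, g ∉ q)
    (b : B) (s : A) (hs : s ∉ p) (hb : ψ g * b = ψ s)
    (O : Type*) [CommRing O] [Algebra A O] [IsLocalization.AtPrime O p] :
    ∃ _ : IsDomain O, IsDiscreteValuationRing O := by
  classical
  haveI : IsLocalRing O := IsLocalization.AtPrime.isLocalRing O p
  haveI : IsNoetherianRing O := IsLocalization.isNoetherianRing p.primeCompl O inferInstance
  have hcancel : ∀ a : A, g * a = 0 → s * a = 0 := by
    intro a ha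
    apply hinj
    rw [map_mul, map_zero, ← hb, mul_right_comm, ← map_mul, ha, map_zero, zero_mul]
  refine isDVR_of_local O (algebraMap A O g) ?_ ?_ ?_ ?_
  · exact (IsLocalization.AtPrime.to_map_mem_maximal_iff O p g).2 hg
  · intro a' ha'
    obtain ⟨a, σ, rfl⟩ := IsLocalization.exists_mk'_eq p.primeCompl a'
    rw [IsLocalization.mul_mk'_eq_mk'_of_mul, IsLocalization.mk'_eq_zero_iff] at ha'
    obtain ⟨τ, hτ⟩ := ha'
    rw [IsLocalization.mk'_eq_zero_iff]
    refine ⟨⟨s, hs⟩ * τ, ?_⟩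
    have h1 := hcancel (τ * a) (by rw [← hτ]; ring)
    rw [Submonoid.coe_mul, mul_assoc]
    exact h1
  · rw [Ideal.radical_eq_sInf]
    refine le_sInf ?_
    rintro Q ⟨hgQ, hQ⟩
    haveI := hQ
    haveI : (Q.comap (algebraMap A O)).IsPrime := Ideal.comap_isPrime _ Q
    have hqp : Q.comap (algebraMap A O) ≤ p := by
      intro x hx
      by_contra hxp
      have hu : IsUnit (algebraMap A O x) := IsLocalization.map_units O (⟨x, hxp⟩ : p.primeCompl)
      exact hQ.ne_top (Ideal.eq_top_of_isUnit_mem _ hx hu)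
    have hgq : g ∈ Q.comap (algebraMap A O) := hgQ (Ideal.mem_span_singleton_self _)
    have hmin := mem_minimalPrimes_span_singleton p hht g hg hgmin
    have hpq : p ≤ Q.comap (algebraMap A O) :=
      hmin.2 ⟨inferInstance, (Ideal.span_singleton_le_iff_mem _).2 hgq⟩ hqp
    rw [← IsLocalization.AtPrime.map_eq_maximalIdeal p O, Ideal.map_le_iff_le_comap]
    exact hpq
  · intro y hy
    obtain ⟨y₀, σ₀, rfl⟩ := IsLocalization.exists_mk'_eq p.primeCompl y
    have hpt : ∀ x ∈ p, ∃ u ∉ p, ∃ d ∈ p, u * y₀ * x = g * d := by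
      intro x hx
      obtain ⟨c, hc, hyc⟩ := hy (algebraMap A O x)
        ((IsLocalization.AtPrime.to_map_mem_maximal_iff O p x).2 hx)
      obtain ⟨c₀, σ, rfl⟩ := IsLocalization.exists_mk'_eq p.primeCompl c
      have hc₀ : c₀ ∈ p := (IsLocalization.AtPrime.mk'_mem_maximal_iff O p c₀ σ).1 hc
      rw [mul_comm, IsLocalization.mul_mk'_eq_mk'_of_mul, IsLocalization.mul_mk'_eq_mk'_of_mul,
        IsLocalization.mk'_eq_iff_eq, IsLocalization.eq_iff_exists p.primeCompl] at hyc
      obtain ⟨τ, hτ⟩ := hyc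
      refine ⟨τ * σ, (τ * σ).2, τ * σ₀ * c₀, p.mul_mem_left _ hc₀, ?_⟩
      linear_combination hτ
    obtain ⟨u, hu, hux⟩ := exists_uniform p g y₀ hpt
    letI := ψ.toAlgebra
    let M : Submodule A B := Submodule.map (Algebra.linearMap A B) p
    haveI : Module.Finite A M := Module.Finite.iff_fg.2 ((IsNoetherian.noetherian p).map _)
    have hwM : ∀ v ∈ M, ψ (u * y₀) * b * v ∈ M := by
      rintro _ ⟨x, hx, rfl⟩
      obtain ⟨d, hd, e⟩ := hux x hx
      refine ⟨s * d, p.mul_mem_left _ hd, ?_⟩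
      change ψ (s * d) = ψ (u * y₀) * b * ψ x
      calc ψ (s * d) = ψ g * b * ψ d := by rw [hb, ← map_mul]
        _ = ψ (g * d) * b := by rw [map_mul]; ring
        _ = ψ (u * y₀ * x) * b := by rw [e]
        _ = ψ (u * y₀) * b * ψ x := by rw [map_mul]; ring
    let φ : Module.End A M := (LinearMap.mulLeft A (ψ (u * y₀) * b)).restrict hwM
    obtain ⟨P, hPm, hP⟩ := LinearMap.exists_monic_and_aeval_eq_zero A φ
    have hpow : ∀ (n : ℕ) (v : M), (((φ ^ n) v : M) : B) = (ψ (u * y₀) * b) ^ n * (v : B) := by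
      intro n
      induction n with
      | zero => intro v; simp
      | succ n ih =>
        intro v
        rw [pow_succ, Module.End.mul_apply, ih, pow_succ, mul_assoc]
        rfl
    have hact : ∀ (Q : A[X]) (v : M),
        ((Polynomial.aeval φ Q) v : B) = Polynomial.aeval (ψ (u * y₀) * b) Q * (v : B) := by
      intro Q v
      induction Q using Polynomial.induction_on' with
      | add Q₁ Q₂ h₁ h₂ =>
        rw [map_add, map_add, LinearMap.add_apply, Submodule.coe_add, h₁, h₂, add_mul]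
      | monomial n a =>
        rw [Polynomial.aeval_monomial, Polynomial.aeval_monomial, Module.End.mul_apply,
          Module.algebraMap_end_apply, Submodule.coe_smul, hpow, Algebra.smul_def, mul_assoc]
    have hPg : Polynomial.aeval (ψ (u * y₀) * b) P * ψ g = 0 := by
      have h1 := hact P ⟨ψ g, ⟨g, hg, rfl⟩⟩
      rw [hP] at h1
      exact h1.symm
    have hPs : Polynomial.aeval (ψ (u * y₀) * b) P * ψ s = 0 := by
      rw [← hb, ← mul_assoc, hPg, zero_mul]
    have hint : ψ.IsIntegralElem (ψ s * (ψ (u * y₀) * b)) := by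
      refine ⟨Polynomial.scaleRoots P s, (Polynomial.monic_scaleRoots_iff s).2 hPm, ?_⟩
      rw [Polynomial.scaleRoots_eval₂_mul]
      have hdeg : P.natDegree ≠ 0 := by
        intro h0
        have hP1 : P = 1 := hPm.natDegree_eq_zero.1 h0
        rw [hP1, map_one, one_mul] at hPs
        exact hs (by rw [hinj (hPs.trans (map_zero ψ).symm)]; exact p.zero_mem)
      obtain ⟨k, hk⟩ := Nat.exists_eq_succ_of_ne_zero hdeg
      have h2 : Polynomial.eval₂ ψ (ψ (u * y₀) * b) P = Polynomial.aeval (ψ (u * y₀) * b) P := rfl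
      rw [hk, pow_succ, mul_assoc, mul_comm (ψ s), h2, hPs, mul_zero]
    obtain ⟨a, ha⟩ := hic _ hint
    have hga : g * a = s * s * (u * y₀) := by
      apply hinj
      have e1 : ψ (g * a) = ψ g * (ψ s * (ψ (u * y₀) * b)) := by rw [map_mul, ha]
      have e2 : ψ (s * s * (u * y₀)) = ψ s * ψ s * ψ (u * y₀) := by rw [map_mul, map_mul]
      rw [e1, e2]
      linear_combination (ψ s * ψ (u * y₀)) * hb
    refine ⟨IsLocalization.mk' O a
      ((⟨s, hs⟩ : p.primeCompl) * ⟨s, hs⟩ * ⟨u, hu⟩ * σ₀), ?_⟩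
    rw [IsLocalization.mul_mk'_eq_mk'_of_mul, IsLocalization.mk'_eq_iff_eq]
    congr 1
    simp only [Submonoid.coe_mul]
    rw [hga]
    ring

end Groth.Agent.Helper8.NormDVR
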