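import Mathlib
import Groth.Prelude
import Groth.Agent.Helper8.NormDVRA
import Groth.Agent.Helper5.NormFin2

/-!
# `S9676` (Stacks 0AXP): dimension one points of the relative normalization outside the image
-/

namespace Groth.Agent.Helper8.NormDVR

open CategoryTheory CategoryTheory.Limits AlgebraicGeometry TopologicalSpace Topology

universe u

theorem mem_basicOpen_iff {N : Scheme.{u}} {W : N.Opens} (hW : IsAffineOpen W) (z : N)
    (hzW : z ∈ W) (f : Γ(N, W)) :
    z ∈ N.basicOpen f ↔ f ∉ (hW.primeIdealOf ⟨z, hzW⟩).asIdeal := by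
  letI := N.presheaf.algebra_section_stalk (⟨z, hzW⟩ : W)
  haveI := hW.isLocalization_stalk ⟨z, hzW⟩
  rw [N.mem_basicOpen f z hzW]
  exact IsLocalization.AtPrime.isUnit_to_map_iff (N.presheaf.stalk z)
    (hW.primeIdealOf ⟨z, hzW⟩).asIdeal f

section Geom

variable {N Y : Scheme.{u}} (t : Y ⟶ N)

/-- geometry step: Chevalley. -/
theorem exists_basicOpen_le [IsLocallyNoetherian N] [LocallyOfFiniteType t] [QuasiCompact t]
    {W : N.Opens} (hW : IsAffineOpen W) (x' : N) (hxW : x' ∈ W) (hx' : x' ∉ Set.range t)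
    (g : Γ(N, W))
    (hmin : (hW.primeIdealOf ⟨x', hxW⟩).asIdeal ∈ (Ideal.span {g}).minimalPrimes) :
    ∃ h : Γ(N, W), h ∉ (hW.primeIdealOf ⟨x', hxW⟩).asIdeal ∧
      t ⁻¹ᵁ N.basicOpen h ≤ t ⁻¹ᵁ N.basicOpen g := by
  haveI : IsNoetherianRing Γ(N, W) := IsLocallyNoetherian.component_noetherian ⟨W, hW⟩
  have hS : IsLocallyConstructible (Set.range t) := by
    have h1 := t.isLocallyConstructible_image (s := Set.univ)
      Topology.IsConstructible.univ.isLocallyConstructible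
    rwa [Set.image_univ] at h1
  let S' : Set (PrimeSpectrum Γ(N, W)) := hW.fromSpec ⁻¹' Set.range t
  have hS' : IsConstructible S' :=
    (hS.preimage_of_isOpenEmbedding hW.fromSpec.isOpenEmbedding).isConstructible
  have hp'S : hW.primeIdealOf ⟨x', hxW⟩ ∉ S' := by
    intro hmem
    apply hx'
    have h1 : hW.fromSpec (hW.primeIdealOf ⟨x', hxW⟩) = x' := hW.fromSpec_primeIdealOf ⟨x', hxW⟩
    rw [← h1]; exact hmem
  obtain ⟨O₁, hO₁, hpO₁, halt⟩ := exists_open_of_isConstructible (hW.primeIdealOf ⟨x', hxW⟩) hS'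
  have hdisj : O₁ ∩ closure {hW.primeIdealOf ⟨x', hxW⟩} ∩ S' = ∅ := by
    rcases halt with h | h
    · exact absurd (h ⟨hpO₁, subset_closure rfl⟩) hp'S
    · exact h
  obtain ⟨h₂, hh₂, hh₂'⟩ := exists_notMem_forall_le (hW.primeIdealOf ⟨x', hxW⟩).asIdeal g hmin
  obtain ⟨_, ⟨h₁, rfl⟩, hp1, h1sub⟩ :=
    PrimeSpectrum.isTopologicalBasis_basic_opens.exists_subset_of_mem_open hpO₁ hO₁
  refine ⟨h₁ * h₂, ?_, ?_⟩
  · intro hmem
    rcases ((hW.primeIdealOf ⟨x', hxW⟩).isPrime.mem_or_mem hmem) with h | h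
    · exact hp1 h
    · exact hh₂ h
  · intro y hy
    have hz : t y ∈ N.basicOpen (h₁ * h₂) := hy
    have hzW : t y ∈ W := N.basicOpen_le _ hz
    have hqz : hW.fromSpec (hW.primeIdealOf ⟨t y, hzW⟩) = t y :=
      hW.fromSpec_primeIdealOf ⟨_, hzW⟩
    have hq12 : h₁ * h₂ ∉ (hW.primeIdealOf ⟨t y, hzW⟩).asIdeal :=
      (mem_basicOpen_iff hW _ hzW _).1 hz
    have hq1 : h₁ ∉ (hW.primeIdealOf ⟨t y, hzW⟩).asIdeal :=
      fun h => hq12 (Ideal.mul_mem_right _ _ h)
    have hq2 : h₂ ∉ (hW.primeIdealOf ⟨t y, hzW⟩).asIdeal :=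
      fun h => hq12 (Ideal.mul_mem_left _ _ h)
    show t y ∈ N.basicOpen g
    rw [mem_basicOpen_iff hW _ hzW]
    intro hgq
    have hle : (hW.primeIdealOf ⟨x', hxW⟩).asIdeal ≤ (hW.primeIdealOf ⟨t y, hzW⟩).asIdeal :=
      hh₂' _ (hW.primeIdealOf ⟨t y, hzW⟩).isPrime hgq hq2
    have hcl : hW.primeIdealOf ⟨t y, hzW⟩ ∈ closure {hW.primeIdealOf ⟨x', hxW⟩} :=
      (PrimeSpectrum.le_iff_mem_closure _ _).1 hle
    have hqO : hW.primeIdealOf ⟨t y, hzW⟩ ∈ O₁ := h1sub hq1
    have hqS : hW.primeIdealOf ⟨t y, hzW⟩ ∈ S' := by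
      show hW.fromSpec (hW.primeIdealOf ⟨t y, hzW⟩) ∈ Set.range t
      rw [hqz]; exact ⟨y, rfl⟩
    have hmem : hW.primeIdealOf ⟨t y, hzW⟩ ∈
        O₁ ∩ closure {hW.primeIdealOf ⟨x', hxW⟩} ∩ S' := ⟨⟨hqO, hcl⟩, hqS⟩
    rw [hdisj] at hmem
    exact hmem

end Geom

/-- unit step: qcqs lemma. -/
theorem exists_mul_eq_pow {Y : Scheme.{u}} {V : Y.Opens} (hVc : IsCompact (V : Set Y))
    (hVq : IsQuasiSeparated (V : Set Y)) (g₁ h₁ : Γ(Y, V))
    (hle : Y.basicOpen h₁ ≤ Y.basicOpen g₁) :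
    ∃ (b : Γ(Y, V)) (n : ℕ), g₁ * b = h₁ ^ n := by
  have hu : IsUnit ((Y.presheaf.map (homOfLE (Y.basicOpen_le h₁)).op).hom g₁) := by
    have h1 := RingedSpace.isUnit_res_basicOpen Y.toRingedSpace g₁
    have h2 := h1.map (Y.presheaf.map (homOfLE hle).op).hom
    convert h2 using 1
    change _ = (Y.presheaf.map (homOfLE (Y.basicOpen_le g₁)).op ≫
      Y.presheaf.map (homOfLE hle).op).hom g₁
    rw [← Functor.map_comp]
    rfl
  obtain ⟨z, hz⟩ := hu.exists_right_inv
  obtain ⟨n, y₁, hy₁⟩ := exists_eq_pow_mul_of_isCompact_of_isQuasiSeparated Y V hVc hVq h₁ z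
  change (Y.presheaf.map (homOfLE (Y.basicOpen_le h₁)).op).hom y₁ =
    (Y.presheaf.map (homOfLE (Y.basicOpen_le h₁)).op).hom h₁ ^ n * z at hy₁
  have hzero : (Y.presheaf.map (homOfLE (Y.basicOpen_le h₁)).op).hom (g₁ * y₁ - h₁ ^ n) = 0 := by
    rw [map_sub, map_mul, map_pow, hy₁]
    linear_combination ((Y.presheaf.map (homOfLE (Y.basicOpen_le h₁)).op).hom h₁ ^ n) * hz
  obtain ⟨m, hm⟩ := exists_pow_mul_eq_zero_of_res_basicOpen_eq_zero_of_isCompact Y hVc
    (g₁ * y₁ - h₁ ^ n) h₁ hzero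
  refine ⟨h₁ ^ m * y₁, m + n, ?_⟩
  linear_combination hm

section Closed

variable {X Y : Scheme.{u}} (f : Y ⟶ X) [QuasiCompact f] [QuasiSeparated f]

/-- sections of the normalization over the preimage of an affine open form an integrally closed
subring of the sections of `Y`. -/
theorem app_injective_and_closed (U : X.affineOpens) :
    Function.Injective (f.toNormalization.app (f.fromNormalization ⁻¹ᵁ U.1)).hom ∧
    ∀ z, (f.toNormalization.app (f.fromNormalization ⁻¹ᵁ U.1)).hom.IsIntegralElem z →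
      z ∈ (f.toNormalization.app (f.fromNormalization ⁻¹ᵁ U.1)).hom.range := by
  letI := (f.app U.1).hom.toAlgebra
  have key := f.toNormalization_app_preimage U
  dsimp only at key
  rw [key]
  set e₁ := f.normalizationObjIso U.2 with he₁
  set e₂ : Γ(Y, f ⁻¹ᵁ U.1) ⟶ Γ(Y, f.toNormalization ⁻¹ᵁ f.fromNormalization ⁻¹ᵁ U.1) :=
    Y.presheaf.map (eqToHom (by simp [← Scheme.Hom.comp_preimage])).op with he₂
  haveI : IsIso e₂ := by rw [he₂]; infer_instance
  constructor
  · intro a a' haa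
    simp only [CommRingCat.hom_comp, RingHom.coe_comp, Function.comp_apply,
      CommRingCat.hom_ofHom] at haa
    have h1 := (ConcreteCategory.bijective_of_isIso e₂).1 haa
    have h2 : e₁.hom.hom a = e₁.hom.hom a' := Subtype.ext h1
    exact (ConcreteCategory.bijective_of_isIso e₁.hom).1 h2
  · rintro z ⟨P, hPm, hP⟩
    -- pull back to `Γ(Y, f⁻¹U)`
    obtain ⟨z₀, rfl⟩ := (ConcreteCategory.bijective_of_isIso e₂).2 z
    have hz₀ : IsIntegral (integralClosure Γ(X, U.1) Γ(Y, f ⁻¹ᵁ U.1)) z₀ := by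
      refine ⟨P.map e₁.hom.hom, hPm.map _, ?_⟩
      rw [Polynomial.eval₂_map]
      apply (ConcreteCategory.bijective_of_isIso e₂).1
      rw [map_zero, ← hP]
      simp only [CommRingCat.hom_comp, CommRingCat.hom_ofHom]
      rw [Polynomial.hom_eval₂]
      rfl
    have hz₀' : IsIntegral Γ(X, U.1) z₀ := isIntegral_trans _ hz₀
    obtain ⟨a, ha⟩ := (ConcreteCategory.bijective_of_isIso e₁.hom).2 ⟨z₀, hz₀'⟩
    refine ⟨a, ?_⟩
    simp only [CommRingCat.hom_comp, RingHom.coe_comp, Function.comp_apply, CommRingCat.hom_ofHom]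
    have : (e₁.hom.hom a : Γ(Y, f ⁻¹ᵁ U.1)) = z₀ := congrArg Subtype.val ha
    congr 1

end Closed


/-- **S9676** (Stacks 0AXP). -/
theorem main {X Y : Scheme.{u}} (f : Y ⟶ X)
    [LocallyOfFiniteType f] [QuasiCompact f] [QuasiSeparated f] [IsReduced Y]
    (hX : ∀ U : X.affineOpens, CAlg.IsNagata Γ(X, U))
    (x' : ↥f.normalization) (hdim : ringKrullDim (f.normalization.presheaf.stalk x') = 1)
    (hx' : x' ∉ Set.range f.toNormalization.base) :
    ∃ _ : IsDomain (f.normalization.presheaf.stalk x'),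
      IsDiscreteValuationRing (f.normalization.presheaf.stalk x') := by
  classical
  haveI : IsFinite f.fromNormalization := Groth.Agent.Helper5.NormFin.isFinite_of_isNagata f hX
  haveI : IsLocallyNoetherian X := ⟨fun U => (hX U).1⟩
  haveI : IsLocallyNoetherian f.normalization :=
    LocallyOfFiniteType.isLocallyNoetherian f.fromNormalization
  haveI : LocallyOfFiniteType f.toNormalization := by
    haveI : LocallyOfFiniteType (f.toNormalization ≫ f.fromNormalization) := by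
      rw [f.toNormalization_fromNormalization]; infer_instance
    exact locallyOfFiniteType_of_comp f.toNormalization f.fromNormalization
  obtain ⟨U₀, hU₀, hxU₀, -⟩ := exists_isAffineOpen_mem_and_subset
    (x := f.fromNormalization x') (U := ⊤) trivial
  let U : X.affineOpens := ⟨U₀, hU₀⟩
  have hW : IsAffineOpen (f.fromNormalization ⁻¹ᵁ U.1) := U.2.preimage f.fromNormalization
  have hxW : x' ∈ f.fromNormalization ⁻¹ᵁ U.1 := hxU₀
  haveI : IsNoetherianRing Γ(f.normalization, f.fromNormalization ⁻¹ᵁ U.1) :=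
    IsLocallyNoetherian.component_noetherian ⟨_, hW⟩
  letI := f.normalization.presheaf.algebra_section_stalk
    (⟨x', hxW⟩ : (f.fromNormalization ⁻¹ᵁ U.1 : f.normalization.Opens))
  haveI hloc := hW.isLocalization_stalk ⟨x', hxW⟩
  have hht : (hW.primeIdealOf ⟨x', hxW⟩).asIdeal.height = 1 := by
    have h1 := IsLocalization.AtPrime.ringKrullDim_eq_height (hW.primeIdealOf ⟨x', hxW⟩).asIdeal
      (f.normalization.presheaf.stalk x')
    rw [hdim] at h1
    exact_mod_cast h1.symm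
  obtain ⟨g, hgp, hgmin⟩ : ∃ g ∈ (hW.primeIdealOf ⟨x', hxW⟩).asIdeal,
      ∀ q ∈ minimalPrimes Γ(f.normalization, f.fromNormalization ⁻¹ᵁ U.1), g ∉ q := by
    have hfin := minimalPrimes.finite_of_isNoetherianRing
      Γ(f.normalization, f.fromNormalization ⁻¹ᵁ U.1)
    by_contra hcon
    push_neg at hcon
    obtain ⟨q, hq, hpq⟩ := (Ideal.subset_union_prime (s := hfin.toFinset) (f := id)
      (I := (hW.primeIdealOf ⟨x', hxW⟩).asIdeal) ⊥ ⊥
      (fun q hq _ _ => (hfin.mem_toFinset.1 hq).1.1)).1 (by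
        intro g hg
        obtain ⟨q, hq, hgq⟩ := hcon g hg
        exact Set.mem_biUnion (by simpa using hq) hgq)
    have hqmin : q ∈ minimalPrimes Γ(f.normalization, f.fromNormalization ⁻¹ᵁ U.1) :=
      hfin.mem_toFinset.1 hq
    have hqp : q ≤ (hW.primeIdealOf ⟨x', hxW⟩).asIdeal :=
      hqmin.2 ⟨(hW.primeIdealOf ⟨x', hxW⟩).isPrime, bot_le⟩ hpq
    have heq : (hW.primeIdealOf ⟨x', hxW⟩).asIdeal = q := le_antisymm hpq hqp
    have h0 : (hW.primeIdealOf ⟨x', hxW⟩).asIdeal.height = 0 :=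
      Ideal.height_eq_zero_iff.2 (heq ▸ hqmin)
    rw [hht] at h0
    exact one_ne_zero h0
  have hmin := mem_minimalPrimes_span_singleton _ hht g hgp hgmin
  obtain ⟨h, hhp, hle⟩ := exists_basicOpen_le f.toNormalization hW x' hxW hx' g hmin
  have hle' : Y.basicOpen ((f.toNormalization.app (f.fromNormalization ⁻¹ᵁ U.1)).hom h) ≤
      Y.basicOpen ((f.toNormalization.app (f.fromNormalization ⁻¹ᵁ U.1)).hom g) := by
    have e1 := Scheme.preimage_basicOpen f.toNormalization h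
    have e2 := Scheme.preimage_basicOpen f.toNormalization g
    rw [e1, e2] at hle
    exact hle
  obtain ⟨b, n, hb⟩ := exists_mul_eq_pow (f.toNormalization.isCompact_preimage hW.isCompact)
    (f.toNormalization.isQuasiSeparated_preimage hW.isQuasiSeparated) _ _ hle'
  obtain ⟨hinj, hic⟩ := app_injective_and_closed f U
  exact isDVR_localization (f.toNormalization.app (f.fromNormalization ⁻¹ᵁ U.1)).hom hinj hic
    (hW.primeIdealOf ⟨x', hxW⟩).asIdeal hht g hgp hgmin b (h ^ n)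
    (fun hmem => hhp ((hW.primeIdealOf ⟨x', hxW⟩).isPrime.mem_of_pow_mem n hmem))
    (by rw [map_pow]; exact hb)
    (f.normalization.presheaf.stalk x')

end Groth.Agent.Helper8.NormDVR
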