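import Mathlib

namespace Groth.Agent.Helper8.ProjRed

universe u

open CategoryTheory CategoryTheory.Limits AlgebraicGeometry HomogeneousLocalization

variable {R A : Type u} [CommRing R] [CommRing A] [Algebra R A] (𝒜 : ℕ → Submodule R A)
  [GradedAlgebra 𝒜]

theorem away_isReduced
    (hred : ∀ f ∈ (HomogeneousIdeal.irrelevant 𝒜).toIdeal, IsNilpotent f → f = 0)
    (f : A) (d : ℕ) (hd : 0 < d) (hf : f ∈ 𝒜 d) : _root_.IsReduced (Away 𝒜 f) := by
  constructor
  intro z hz
  obtain ⟨n, a, ha, rfl⟩ := Away.mk_surjective 𝒜 hf z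
  obtain ⟨k, hk⟩ := hz
  have h1 := congrArg HomogeneousLocalization.val hk
  rw [val_pow, Away.val_mk, val_zero, Localization.mk_pow, Localization.mk_eq_mk',
    IsLocalization.mk'_eq_zero_iff] at h1
  obtain ⟨⟨m, j, rfl⟩, hm⟩ := h1
  have hm' : f ^ j * a ^ k = 0 := hm
  have hfirr : f ∈ (HomogeneousIdeal.irrelevant 𝒜).toIdeal := by
    change f ∈ HomogeneousIdeal.irrelevant 𝒜
    rw [HomogeneousIdeal.mem_irrelevant_iff, GradedRing.proj_apply,
      DirectSum.decompose_of_mem_ne 𝒜 hf hd.ne']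
  have hfa : f * a = 0 := by
    apply hred _ (Ideal.mul_mem_right _ _ hfirr)
    refine ⟨j + k, ?_⟩
    calc (f * a) ^ (j + k) = f ^ k * a ^ j * (f ^ j * a ^ k) := by ring
      _ = 0 := by rw [hm', mul_zero]
  apply HomogeneousLocalization.val_injective
  rw [Away.val_mk, val_zero, Localization.mk_eq_mk', IsLocalization.mk'_eq_zero_iff]
  exact ⟨⟨f, 1, pow_one f⟩, hfa⟩

theorem main
    (hred : ∀ f ∈ (HomogeneousIdeal.irrelevant 𝒜).toIdeal, IsNilpotent f → f = 0) :
    AlgebraicGeometry.IsReduced (Proj 𝒜) := by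
  have : ∀ i, AlgebraicGeometry.IsReduced ((Proj.affineOpenCover 𝒜).openCover.X i) := by
    intro i
    have h := away_isReduced 𝒜 hred (i.2 : A) i.1 i.1.2 i.2.2
    change AlgebraicGeometry.IsReduced (Spec (CommRingCat.of (Away 𝒜 (i.2 : A))))
    infer_instance
  exact IsReduced.of_openCover _ (Proj.affineOpenCover 𝒜).openCover

end Groth.Agent.Helper8.ProjRed
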