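import Mathlib
import Groth.Agent.Helper1.RegGlobalDim

set_option autoImplicit false
universe u
open CategoryTheory TensorProduct

namespace Groth.Agent.Helper8.FFR

/-- `M` has a finite free resolution of length `≤ n` -/
def HasFFR (R : Type u) [CommRing R] : ℕ → ∀ (M : Type u) [AddCommGroup M] [Module R M], Prop
  | 0, M, _, _ => Module.Free R M ∧ Module.Finite R M
  | n + 1, M, _, _ => ∃ (F : Type u) (_ : AddCommGroup F) (_ : Module R F) (_ : Module.Free R F)
      (_ : Module.Finite R F) (f : F →ₗ[R] M), Function.Surjective f ∧ HasFFR R n (LinearMap.ker f)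

section stably
variable {R : Type u} [CommRing R]

/-- projection to the kernel associated to a section -/
noncomputable def kerProj {F P : Type u} [AddCommGroup F] [Module R F] [AddCommGroup P]
    [Module R P] (f : F →ₗ[R] P) (s : P →ₗ[R] F) (hs : f ∘ₗ s = LinearMap.id) :
    F →ₗ[R] LinearMap.ker f :=
  (LinearMap.id - s ∘ₗ f).codRestrict (LinearMap.ker f) (by
    intro x
    have := LinearMap.congr_fun hs (f x)
    simp only [LinearMap.comp_apply, LinearMap.id_apply] at this
    simp [LinearMap.mem_ker, this])

theorem kerProj_apply {F P : Type u} [AddCommGroup F] [Module R F] [AddCommGroup P]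
    [Module R P] (f : F →ₗ[R] P) (s : P →ₗ[R] F) (hs : f ∘ₗ s = LinearMap.id) (x : F) :
    ((kerProj f s hs x : LinearMap.ker f) : F) = x - s (f x) := rfl

/-- splitting of a surjection onto a projective module -/
noncomputable def splitEquiv {F P : Type u} [AddCommGroup F] [Module R F] [AddCommGroup P]
    [Module R P] (f : F →ₗ[R] P) (s : P →ₗ[R] F) (hs : f ∘ₗ s = LinearMap.id) :
    F ≃ₗ[R] (P × LinearMap.ker f) :=
  LinearEquiv.ofLinear
    (LinearMap.prod f (kerProj f s hs))
    (LinearMap.coprod s (LinearMap.ker f).subtype)
    (by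
      apply LinearMap.ext
      rintro ⟨p, ⟨k, hk⟩⟩
      have h1 : f (s p) = p := LinearMap.congr_fun hs p
      rw [LinearMap.mem_ker] at hk
      have h2 : f (s p + k) = p := by rw [map_add, h1, hk, add_zero]
      apply Prod.ext
      · exact h2
      · apply Subtype.ext
        show (s p + k) - s (f (s p + k)) = k
        rw [h2]
        abel)
    (by
      apply LinearMap.ext
      intro x
      show s (f x) + (x - s (f x)) = x
      abel)

theorem isStablyFree_of_hasFFR : ∀ (n : ℕ) (P : Type u) [AddCommGroup P] [Module R P]
    [Module.Projective R P], HasFFR R n P → Module.IsStablyFree R P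
  | 0, P, _, _, _, h => by
    obtain ⟨hf, _⟩ := h
    infer_instance
  | n + 1, P, _, _, _, ⟨F, _, _, hFfree, hFfin, f, hf, hK⟩ => by
    obtain ⟨s, hs⟩ := Module.projective_lifting_property f LinearMap.id hf
    let e := splitEquiv f s hs
    haveI : Module.Projective R (P × LinearMap.ker f) := Module.Projective.of_equiv e
    haveI : Module.Projective R (LinearMap.ker f) :=
      Module.Projective.of_split (LinearMap.inr R P (LinearMap.ker f))
        (LinearMap.snd R P (LinearMap.ker f)) (by ext; simp)
    haveI : Module.Finite R (LinearMap.ker f) :=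
      Module.Finite.of_surjective
        ((LinearMap.snd R P (LinearMap.ker f)) ∘ₗ e.toLinearMap : F →ₗ[R] LinearMap.ker f)
        (fun k => ⟨e.symm (0, k), by simp⟩)
    haveI := isStablyFree_of_hasFFR n (LinearMap.ker f) hK
    obtain ⟨N, _, _, _, _, hfree⟩ := Module.IsStablyFree.exist_free_prod R (LinearMap.ker f)
    haveI : Module.Free R (P × (LinearMap.ker f × N)) :=
      Module.Free.of_equiv ((e.prodCongr (LinearEquiv.refl R N)).trans
        (LinearEquiv.prodAssoc R P (LinearMap.ker f) N))
    exact Module.IsStablyFree.of_free_prod R P (LinearMap.ker f × N)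

end stably

section loc
variable {R : Type u} [CommRing R] (S : Submonoid R) (RS : Type u) [CommRing RS] [Algebra R RS]
  [IsLocalization S RS]

theorem hasFFR_of_isLocalizedModule : ∀ (n : ℕ) (M : Type u) [AddCommGroup M] [Module R M]
    (P : Type u) [AddCommGroup P] [Module R P] [Module RS P] [IsScalarTower R RS P]
    (g : M →ₗ[R] P) [IsLocalizedModule S g], HasFFR R n M → HasFFR RS n P
  | 0, M, _, _, P, _, _, _, _, g, _, h => by
    obtain ⟨hf, hfin⟩ := h
    exact ⟨Module.free_of_isLocalizedModule S g, Module.Finite.of_isLocalizedModule S g⟩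
  | n + 1, M, _, _, P, _, _, _, _, g, _, ⟨F, _, _, hFfree, hFfin, f, hf, hK⟩ => by
    let ι : F →ₗ[R] RS ⊗[R] F := TensorProduct.mk R RS F 1
    haveI : IsLocalizedModule S ι := IsLocalization.tensorProduct_isLocalizedModule S RS
    let f₀ : RS ⊗[R] F →ₗ[R] P := IsLocalizedModule.map S ι g f
    let f' : RS ⊗[R] F →ₗ[RS] P := f₀.extendScalarsOfIsLocalization S RS
    have hf' : Function.Surjective f' := IsLocalizedModule.map_surjective S ι g f hf
    refine ⟨RS ⊗[R] F, inferInstance, inferInstance, inferInstance, inferInstance, f', hf', ?_⟩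
    let e : LinearMap.ker f₀ ≃ₗ[R] LinearMap.ker f' :=
      { toFun := fun x => ⟨x.1, x.2⟩
        invFun := fun x => ⟨x.1, x.2⟩
        map_add' := fun _ _ => rfl
        map_smul' := fun _ _ => rfl
        left_inv := fun _ => rfl
        right_inv := fun _ => rfl }
    haveI h1 : IsLocalizedModule S (LinearMap.toKerIsLocalized S ι g f) :=
      LinearMap.toKerLocalized_isLocalizedModule RS S ι g f
    haveI : IsLocalizedModule S (e.toLinearMap ∘ₗ LinearMap.toKerIsLocalized S ι g f) :=
      IsLocalizedModule.of_linearEquiv S _ e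
    exact hasFFR_of_isLocalizedModule n (LinearMap.ker f) (LinearMap.ker f')
      (e.toLinearMap ∘ₗ LinearMap.toKerIsLocalized S ι g f) hK

end loc

section reg
variable {A : Type u} [CommRing A] [IsLocalRing A] [IsNoetherianRing A]

theorem hasFFR_of_pdLT : ∀ (n : ℕ) (M : Type u) [AddCommGroup M] [Module A M] [Module.Finite A M],
    HasProjectiveDimensionLT (ModuleCat.of A M) (n + 1) → HasFFR A n M
  | 0, M, _, _, _, h => by
    rw [zero_add, ← projective_iff_hasProjectiveDimensionLT_one,
      ← IsProjective.iff_projective] at h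
    haveI : Module.Projective A M := h
    exact ⟨Module.free_of_flat_of_isLocalRing, inferInstance⟩
  | n + 1, M, _, _, _, h => by
    obtain ⟨k, f, hf⟩ := Module.Finite.exists_fin' A M
    refine ⟨Fin k → A, inferInstance, inferInstance, inferInstance, inferInstance, f, hf, ?_⟩
    have hS := Groth.Agent.Helper1.TorLib.scOfLinear_shortExact (LinearMap.ker f).subtype f
      (LinearMap.ker f).injective_subtype hf (LinearMap.exact_subtype_ker_map f)
    have hF : HasProjectiveDimensionLT (ModuleCat.of A (Fin k → A)) (n + 1) := by
      haveI : Module.Projective A (Fin k → A) := inferInstance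
      haveI : Projective (ModuleCat.of A (Fin k → A)) :=
        (IsProjective.iff_projective (ModuleCat.of A (Fin k → A))).mp inferInstance
      have h1 : HasProjectiveDimensionLT (ModuleCat.of A (Fin k → A)) 1 :=
        projective_iff_hasProjectiveDimensionLT_one.mp inferInstance
      exact hasProjectiveDimensionLT_of_ge _ 1 _ (by omega)
    have hK := hS.hasProjectiveDimensionLT_X₁ (n + 1) hF h
    exact hasFFR_of_pdLT n (LinearMap.ker f) hK

theorem exists_hasFFR [IsRegularLocalRing A] (M : Type u) [AddCommGroup M] [Module A M]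
    [Module.Finite A M] : ∃ n, HasFFR A n M := by
  obtain ⟨d, hd⟩ : ∃ d : ℕ, ringKrullDim A = d :=
    ⟨(IsLocalRing.maximalIdeal A).spanFinrank,
      (IsRegularLocalRing.spanFinrank_maximalIdeal).symm⟩
  exact ⟨d, hasFFR_of_pdLT d M
    (Groth.Agent.Helper1.TorLib.hasProjectiveDimensionLT_of_isRegularLocalRing d hd _)⟩

end reg

/-- a finite projective module over a localization of a regular local ring is stably free -/
theorem isStablyFree_of_regular {A : Type u} [CommRing A] [IsRegularLocalRing A]
    (S : Submonoid A) (AS : Type u) [CommRing AS] [Algebra A AS] [IsLocalization S AS]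
    (P : Type u) [AddCommGroup P] [Module AS P] [Module.Finite AS P] [Module.Projective AS P] :
    Module.IsStablyFree AS P := by
  classical
  letI : Module A P := Module.compHom P (algebraMap A AS)
  haveI : IsScalarTower A AS P := IsScalarTower.of_algebraMap_smul fun r x => rfl
  obtain ⟨T, hT⟩ := (Module.Finite.fg_top : (⊤ : Submodule AS P).FG)
  let M : Submodule A P := Submodule.span A (T : Set P)
  haveI : Module.Finite A M := Module.Finite.span_of_finite A T.finite_toSet
  haveI : IsLocalizedModule S M.subtype := by
    refine ⟨?_, ?_, ?_⟩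
    · intro s
      rw [Module.End.isUnit_iff]
      have hu : IsUnit (algebraMap A AS s) := IsLocalization.map_units AS s
      constructor
      · intro x y hxy
        simp only [Module.algebraMap_end_apply] at hxy
        have : algebraMap A AS s • x = algebraMap A AS s • y := by
          rwa [algebraMap_smul, algebraMap_smul]
        exact hu.smul_left_cancel.mp this
      · intro y
        obtain ⟨v, hv⟩ := hu.exists_left_inv
        refine ⟨v • y, ?_⟩
        simp only [Module.algebraMap_end_apply]
        rw [← algebraMap_smul AS (s : A), smul_smul, mul_comm, hv, one_smul]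
    · intro y
      have hy : y ∈ Submodule.span AS (T : Set P) := by rw [hT]; trivial
      induction hy using Submodule.span_induction with
      | mem t ht => exact ⟨(⟨t, Submodule.subset_span ht⟩, 1), by simp⟩
      | zero => exact ⟨(0, 1), by simp⟩
      | add y z _ _ hy hz =>
        obtain ⟨⟨m₁, s₁⟩, h₁⟩ := hy
        obtain ⟨⟨m₂, s₂⟩, h₂⟩ := hz
        have h₁' : (s₁ : A) • y = (m₁ : P) := h₁
        have h₂' : (s₂ : A) • z = (m₂ : P) := h₂
        refine ⟨((s₂ : A) • m₁ + (s₁ : A) • m₂, s₁ * s₂), ?_⟩
        show ((s₁ * s₂ : S) : A) • (y + z) = ((s₂ : A) • (m₁ : P) + (s₁ : A) • (m₂ : P))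
        rw [← h₁', ← h₂', Submonoid.coe_mul, smul_add, mul_smul, mul_smul,
          smul_comm (s₁ : A) (s₂ : A) y]
      | smul a y _ hy =>
        obtain ⟨⟨m, s⟩, h⟩ := hy
        have h' : (s : A) • y = (m : P) := h
        obtain ⟨⟨b, t⟩, hb⟩ := IsLocalization.surj S a
        refine ⟨(b • m, t * s), ?_⟩
        show algebraMap A AS ((t * s : S) : A) • (a • y) = algebraMap A AS b • (m : P)
        rw [← h']
        show algebraMap A AS ((t * s : S) : A) • (a • y) =
          algebraMap A AS b • (algebraMap A AS (s : A) • y)
        simp only at hb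
        rw [← hb, smul_smul, smul_smul, Submonoid.coe_mul, map_mul]
        congr 1
        ring
    · intro x y hxy
      exact ⟨1, by rw [Submodule.injective_subtype _ hxy]⟩
  obtain ⟨n, hn⟩ := exists_hasFFR (A := A) M
  have := hasFFR_of_isLocalizedModule S AS n M P M.subtype hn
  exact isStablyFree_of_hasFFR n P this

theorem s9247 (R : Type u) [CommRing R]
    [IsRegularLocalRing R] (f : R) : Subsingleton (CommRing.Pic (Localization.Away f)) := by
  rw [CommRing.Pic.subsingleton_iff]
  intro M _ _ hM
  haveI := isStablyFree_of_regular (Submonoid.powers f) (Localization.Away f) M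
  exact Module.free_of_isStablyFree_of_invertible _ M

end Groth.Agent.Helper8.FFR
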