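import Mathlib
import Groth.Prelude
import Groth.Agent.Helper8.RegSeqE
import Groth.Agent.Helper8.RegSeqF

set_option autoImplicit false
open CategoryTheory AlgebraicGeometry TopologicalSpace RingTheory.Sequence
universe u

namespace Groth.Agent.Helper8.RegSeqL
open Groth.Agent.Helper8.RegSeqA Groth.Agent.Helper8.RegSeqB

section Alg

/-- quasi-regular sequences localize. -/
theorem isQuasiRegular_localization {A : Type u} [CommRing A] (M : Submonoid A) (S : Type u)
    [CommRing S] [Algebra A S] [IsLocalization M S] {c : ℕ} (f : Fin c → A)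
    (hq : CAlgX.IsQuasiRegular f) : CAlgX.IsQuasiRegular (fun i => algebraMap A S (f i)) := by
  classical
  intro n P hP hev d
  have hJ : Ideal.span (Set.range fun i => algebraMap A S (f i)) =
      (Ideal.span (Set.range f)).map (algebraMap A S) := by
    rw [Ideal.map_span, ← Set.range_comp]
    rfl
  rw [hJ] at hev ⊢
  obtain ⟨b, hb⟩ := IsLocalization.exist_integer_multiples_of_finset M
    (P.support.image (fun d => P.coeff d))
  have hb' : ∀ d' ∈ P.support, ∃ a : A, algebraMap A S a = algebraMap A S b * P.coeff d' := by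
    intro d' hd'
    obtain ⟨a, ha⟩ := hb (P.coeff d') (Finset.mem_image_of_mem _ hd')
    exact ⟨a, by rw [ha, Algebra.smul_def]⟩
  choose! c₀ hc₀ using hb'
  obtain ⟨P₀, hP₀def⟩ : ∃ P₀ : MvPolynomial (Fin c) A,
      P₀ = ∑ d' ∈ P.support, MvPolynomial.monomial d' (c₀ d') := ⟨_, rfl⟩
  have hcoeff : ∀ d', algebraMap A S (P₀.coeff d') = algebraMap A S b * P.coeff d' := by
    intro d'
    rw [hP₀def, MvPolynomial.coeff_sum]
    simp only [MvPolynomial.coeff_monomial]
    rw [Finset.sum_ite_eq' P.support d']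
    split_ifs with hd'
    · exact hc₀ d' hd'
    · rw [MvPolynomial.notMem_support_iff.mp hd', mul_zero, map_zero]
  have hmap : MvPolynomial.map (algebraMap A S) P₀ = MvPolynomial.C (algebraMap A S b) * P := by
    ext d'
    rw [MvPolynomial.coeff_map, MvPolynomial.coeff_C_mul, hcoeff]
  have hhom : P₀.IsHomogeneous n := by
    rw [hP₀def]
    apply MvPolynomial.IsHomogeneous.sum
    intro d' hd'
    exact MvPolynomial.isWeightedHomogeneous_monomial 1 d' _
      (hP (MvPolynomial.mem_support_iff.mp hd'))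
  have hev₀ : algebraMap A S (MvPolynomial.eval f P₀) ∈
      (Ideal.span (Set.range f) ^ (n + 1)).map (algebraMap A S) := by
    have e1 : algebraMap A S (MvPolynomial.eval f P₀) =
        algebraMap A S b * MvPolynomial.eval (fun i => algebraMap A S (f i)) P := by
      rw [MvPolynomial.eval₂_comp, ← MvPolynomial.eval_map, hmap, map_mul, MvPolynomial.eval_C]
      rfl
    rw [e1, Ideal.map_pow]
    exact Ideal.mul_mem_left _ _ hev
  rw [IsLocalization.algebraMap_mem_map_algebraMap_iff M] at hev₀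
  obtain ⟨t, ht, htmem⟩ := hev₀
  have hQ : (MvPolynomial.C t * P₀).IsHomogeneous n := by
    have := (MvPolynomial.isHomogeneous_C (Fin c) t).mul hhom
    rwa [zero_add] at this
  have hevQ : MvPolynomial.eval f (MvPolynomial.C t * P₀) ∈ Ideal.span (Set.range f) ^ (n + 1) := by
    rw [map_mul, MvPolynomial.eval_C]
    exact htmem
  have hmem := hq n _ hQ hevQ d
  rw [MvPolynomial.coeff_C_mul] at hmem
  have h3 := Ideal.mem_map_of_mem (algebraMap A S) hmem
  rw [map_mul, hcoeff, ← mul_assoc] at h3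
  have hu : IsUnit (algebraMap A S t * algebraMap A S b) :=
    (IsLocalization.map_units S (⟨t, ht⟩ : M)).mul (IsLocalization.map_units S b)
  exact (Ideal.unit_mul_mem_iff_mem _ hu).mp h3

/-- spreading out a quasi-regular sequence to a regular one near a prime (Noetherian case). -/
theorem colon_spread_of_quasi {A : Type u} [CommRing A] [IsNoetherianRing A] (p : Ideal A)
    [p.IsPrime] (Sp : Type u) [CommRing Sp] [Algebra A Sp] [IsLocalization.AtPrime Sp p]
    (rs : List A) (hq : CAlgX.IsQuasiRegular rs.get) (hle : Ideal.ofList rs ≤ p) :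
    ∃ g : A, g ∉ p ∧ ∀ G : A, g ∣ G → ∀ (A' : Type u) [CommRing A'] [Algebra A A']
      [IsLocalization.Away G A'], Colon (rs.map (algebraMap A A')) := by
  apply colon_spread p Sp rs
  haveI : IsLocalRing Sp := IsLocalization.AtPrime.isLocalRing Sp p
  haveI : IsNoetherianRing Sp := IsLocalization.isNoetherianRing p.primeCompl Sp inferInstance
  have hq' := isQuasiRegular_localization p.primeCompl Sp rs.get hq
  have hmem : ∀ i, algebraMap A Sp (rs.get i) ∈ Ring.jacobson Sp := by
    intro i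
    rw [IsLocalRing.ringJacobson_eq_maximalIdeal]
    have hi : rs.get i ∈ p := hle (Ideal.subset_span (List.get_mem rs i))
    exact (IsLocalization.AtPrime.to_map_mem_maximal_iff Sp p _).mpr hi
  have hw := Groth.Agent.Helper7.QRReg.isWeaklyRegular_of_isQuasiRegular _ Sp _ hmem hq'
  rw [isWeaklyRegular_iff_colon] at hw
  have hl : List.ofFn (fun i => algebraMap A Sp (rs.get i)) = rs.map (algebraMap A Sp) := by
    conv_rhs => rw [← List.ofFn_get rs]
    rw [List.map_ofFn]
    rfl
  rw [hl] at hw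
  exact hw

theorem loc_surjective {A B A' B' : Type*} [CommRing A] [CommRing B] [CommRing A'] [CommRing B']
    [Algebra A A'] [Algebra B B'] (φ : A →+* B) (g : A) [IsLocalization.Away g A']
    [IsLocalization.Away (φ g) B'] (φ' : A' →+* B')
    (hcomm : ∀ a, φ' (algebraMap A A' a) = algebraMap B B' (φ a))
    (hφ : Function.Surjective φ) : Function.Surjective φ' := by
  intro b'
  obtain ⟨⟨b, ⟨m, hm⟩⟩, hb⟩ := IsLocalization.surj (Submonoid.powers (φ g)) b'
  obtain ⟨n, rfl⟩ := (Submonoid.mem_powers_iff _ _).mp hm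
  obtain ⟨a, rfl⟩ := hφ b
  obtain ⟨u, hu'⟩ : IsUnit (algebraMap A A' g) := IsLocalization.Away.algebraMap_isUnit g
  have hv : IsUnit (algebraMap B B' (φ g) ^ n) :=
    (IsLocalization.Away.algebraMap_isUnit (φ g)).pow n
  have h1 : φ' ((u⁻¹ : A'ˣ) : A') * algebraMap B B' (φ g) = 1 := by
    rw [← hcomm, ← hu', ← map_mul, Units.inv_mul, map_one]
  have key : φ' (algebraMap A A' a * ((u⁻¹ : A'ˣ) : A') ^ n) * algebraMap B B' (φ g) ^ n =
      algebraMap B B' (φ a) := by
    rw [map_mul, map_pow, mul_assoc, ← mul_pow, h1, one_pow, mul_one, hcomm]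
  have hb' : b' * algebraMap B B' (φ g) ^ n = algebraMap B B' (φ a) := by
    rw [← map_pow]; exact hb
  exact ⟨_, hv.mul_left_inj.mp (key.trans hb'.symm)⟩

theorem loc_ker {A B A' B' : Type*} [CommRing A] [CommRing B] [CommRing A'] [CommRing B']
    [Algebra A A'] [Algebra B B'] (φ : A →+* B) (g : A) [IsLocalization.Away g A']
    [IsLocalization.Away (φ g) B'] (φ' : A' →+* B')
    (hcomm : ∀ a, φ' (algebraMap A A' a) = algebraMap B B' (φ a)) :
    RingHom.ker φ' = (RingHom.ker φ).map (algebraMap A A') := by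
  apply le_antisymm
  · intro a' ha'
    rw [RingHom.mem_ker] at ha'
    obtain ⟨⟨a, ⟨m, hm⟩⟩, ha⟩ := IsLocalization.surj (Submonoid.powers g) a'
    obtain ⟨n, rfl⟩ := (Submonoid.mem_powers_iff _ _).mp hm
    have ha2 : a' * algebraMap A A' (g ^ n) = algebraMap A A' a := ha
    have h0 : algebraMap B B' (φ a) = 0 := by
      rw [← hcomm, ← ha2, map_mul, ha', zero_mul]
    obtain ⟨⟨c, hc⟩, hc0⟩ :=
      (IsLocalization.map_eq_zero_iff (Submonoid.powers (φ g)) B' (φ a)).mp h0
    obtain ⟨k, rfl⟩ := (Submonoid.mem_powers_iff _ _).mp hc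
    have hc1 : φ g ^ k * φ a = 0 := hc0
    have hmem : g ^ k * a ∈ RingHom.ker φ := by
      rw [RingHom.mem_ker, map_mul, map_pow]; exact hc1
    have h3 := Ideal.mem_map_of_mem (algebraMap A A') hmem
    have e : a' * algebraMap A A' (g ^ k * g ^ n) = algebraMap A A' (g ^ k * a) := by
      rw [map_mul, map_mul, ← ha2]; ring
    rw [← e] at h3
    have hu : IsUnit (algebraMap A A' (g ^ k * g ^ n)) := by
      rw [← pow_add, map_pow]
      exact (IsLocalization.Away.algebraMap_isUnit g).pow _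
    exact (Ideal.mul_unit_mem_iff_mem _ hu).mp h3
  · rw [Ideal.map_le_iff_le_comap]
    intro a ha
    rw [Ideal.mem_comap, RingHom.mem_ker, hcomm, (RingHom.mem_ker).mp ha, map_zero]

end Alg

section Geo

variable {X Y : Scheme.{u}}

/-- membership in a basic open via the prime ideal of a point. -/
theorem mem_basicOpen_of_notMem {U : X.Opens} (hU : IsAffineOpen U) (x : X) (hxU : x ∈ U)
    (a : Γ(X, U)) (ha : a ∉ (hU.primeIdealOf ⟨x, hxU⟩).asIdeal) : x ∈ X.basicOpen a := by
  letI algS : Algebra Γ(X, U) (X.presheaf.stalk x) := X.presheaf.algebra_section_stalk ⟨x, hxU⟩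
  haveI locS : IsLocalization.AtPrime (X.presheaf.stalk x)
      (hU.primeIdealOf ⟨x, hxU⟩).asIdeal := hU.isLocalization_stalk ⟨x, hxU⟩
  rw [Scheme.mem_basicOpen X a x hxU]
  exact (IsLocalization.AtPrime.isUnit_to_map_iff (X.presheaf.stalk x)
    (hU.primeIdealOf ⟨x, hxU⟩).asIdeal a).mpr ha

theorem spread_geo [IsLocallyNoetherian X] {U : X.Opens} (hU : IsAffineOpen U) (x : X)
    (hxU : x ∈ U) (rs : List Γ(X, U)) (hq : CAlgX.IsQuasiRegular rs.get)
    (hle : Ideal.ofList rs ≤ (hU.primeIdealOf ⟨x, hxU⟩).asIdeal) :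
    ∃ g : Γ(X, U), x ∈ X.basicOpen g ∧
      Colon (rs.map (algebraMap Γ(X, U) Γ(X, X.basicOpen g))) := by
  letI algS : Algebra Γ(X, U) (X.presheaf.stalk x) := X.presheaf.algebra_section_stalk ⟨x, hxU⟩
  haveI locS : IsLocalization.AtPrime (X.presheaf.stalk x)
      (hU.primeIdealOf ⟨x, hxU⟩).asIdeal := hU.isLocalization_stalk ⟨x, hxU⟩
  haveI : IsNoetherianRing Γ(X, U) := IsLocallyNoetherian.component_noetherian ⟨U, hU⟩
  obtain ⟨g, hg, H⟩ := colon_spread_of_quasi (hU.primeIdealOf ⟨x, hxU⟩).asIdeal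
    (X.presheaf.stalk x) rs hq hle
  haveI locG := hU.isLocalization_basicOpen g
  exact ⟨g, mem_basicOpen_of_notMem hU x hxU g hg, H g dvd_rfl Γ(X, X.basicOpen g)⟩

theorem s5004 [IsLocallyNoetherian X] (I : X.IdealSheafData)
    (h : RegImm.IsRegularIdeal RegImm.Kind.quasi I) :
    RegImm.IsRegularIdeal RegImm.Kind.regular I := by
  intro x hx
  obtain ⟨⟨U, hU⟩, hxU, rs, hrs, hI⟩ := h x hx
  have hxU' : x ∈ U := hxU
  have hq : CAlgX.IsQuasiRegular rs.get := hrs
  have hle : Ideal.ofList rs ≤ (hU.primeIdealOf ⟨x, hxU'⟩).asIdeal := by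
    intro a ha
    by_contra hna
    have h1 := mem_basicOpen_of_notMem hU x hxU' a hna
    have h2 := (Scheme.IdealSheafData.mem_support_iff_of_mem (I := I) (U := ⟨U, hU⟩) hxU').mp hx
    rw [Scheme.mem_zeroLocus_iff] at h2
    exact h2 a (by rw [hI]; exact ha) h1
  obtain ⟨g, hxg, hc⟩ := spread_geo hU x hxU' rs hq hle
  have hIg : I.ideal (X.affineBasicOpen (U := ⟨U, hU⟩) g) =
      Ideal.ofList (rs.map (algebraMap Γ(X, U) Γ(X, X.basicOpen g))) := by
    rw [ofList_map, ← hI]
    exact (I.map_ideal_basicOpen ⟨U, hU⟩ g).symm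
  refine ⟨X.affineBasicOpen (U := ⟨U, hU⟩) g, hxg,
    rs.map (algebraMap Γ(X, U) Γ(X, X.basicOpen g)), ?_, hIg⟩
  show IsRegular _ _
  rw [isRegular_iff_colon]
  refine ⟨hc, ?_⟩
  intro htop
  have h2 := (Scheme.IdealSheafData.mem_support_iff_of_mem (I := I)
    (U := X.affineBasicOpen (U := ⟨U, hU⟩) g) hxg).mp hx
  rw [Scheme.mem_zeroLocus_iff] at h2
  have h1' : (1 : Γ(X, X.basicOpen g)) ∈
      Ideal.ofList (rs.map (algebraMap Γ(X, U) Γ(X, X.basicOpen g))) :=
    (Ideal.eq_top_iff_one _).mp htop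
  have h1 : (1 : Γ(X, X.basicOpen g)) ∈ I.ideal (X.affineBasicOpen (U := ⟨U, hU⟩) g) := by
    rw [hIg]; exact h1'
  apply h2 1 h1
  rw [Scheme.basicOpen_one]
  exact hxg

theorem s5003 [IsLocallyNoetherian X] (j : Y ⟶ X) :
    RegImm.IsRegularImmersion RegImm.Kind.regular j ↔
      RegImm.IsRegularImmersion RegImm.Kind.quasi j := by
  constructor
  · rintro ⟨himm, h⟩
    refine ⟨himm, fun y => ?_⟩
    obtain ⟨U, hyU, hcl, rs, hrs, hker⟩ := h y
    have hrs' : IsRegular Γ(X, U.1) rs := hrs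
    exact ⟨U, hyU, hcl, rs,
      RegSeqF.isQuasiRegular_get_of_colon ((isRegular_iff_colon rs).mp hrs').1, hker⟩
  · rintro ⟨himm, h⟩
    refine ⟨himm, fun y => ?_⟩
    obtain ⟨⟨U, hU⟩, hyU, hcl, rs, hrs, hker⟩ := h y
    have hyU' : j y ∈ U := hyU
    have hq : CAlgX.IsQuasiRegular rs.get := hrs
    have hcl' : IsClosedImmersion (j ∣_ U) := hcl
    have hker' : RingHom.ker (j.app U).hom = Ideal.ofList rs := hker
    haveI : IsAffine U.toScheme := hU
    have hV : IsAffineOpen (j ⁻¹ᵁ U) := isAffine_of_isAffineHom (j ∣_ U)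
    have hs0 : Function.Surjective ((j ∣_ U).app ⊤).hom :=
      (isClosedImmersion_iff_isAffineHom.mp hcl').2 ⊤ (isAffineOpen_top _)
    have hs1 := RegSeqC.restrict_app_surjective j U ⊤ hs0
    have hs : Function.Surjective (j.app U).hom :=
      RegSeqC.app_surjective_of_eq j U.ι_image_top hs1
    have hle : Ideal.ofList rs ≤ (hU.primeIdealOf ⟨j y, hyU'⟩).asIdeal := by
      intro a ha
      by_contra hna
      have h1 : j y ∈ X.basicOpen a := mem_basicOpen_of_notMem hU (j y) hyU' a hna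
      have h2 : y ∈ j ⁻¹ᵁ X.basicOpen a := h1
      rw [Scheme.preimage_basicOpen] at h2
      rw [← hker', RingHom.mem_ker] at ha
      have h3 : Y.basicOpen ((j.app U).hom a) = ⊥ := by
        rw [ha]; exact Scheme.basicOpen_zero _ _
      have h4 : y ∈ Y.basicOpen ((j.app U).hom a) := h2
      rw [h3] at h4
      exact h4
    obtain ⟨g, hyg, hc⟩ := spread_geo hU (j y) hyU' rs hq hle
    haveI locG := hU.isLocalization_basicOpen g
    have hpre : j ⁻¹ᵁ X.basicOpen g = Y.basicOpen ((j.app U).hom g) :=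
      Scheme.preimage_basicOpen j g
    have hV' : IsAffineOpen (j ⁻¹ᵁ X.basicOpen g) := by
      rw [hpre]; exact hV.basicOpen _
    have hleV : j ⁻¹ᵁ X.basicOpen g ≤ j ⁻¹ᵁ U := fun z hz => X.basicOpen_le g hz
    letI algB : Algebra Γ(Y, j ⁻¹ᵁ U) Γ(Y, j ⁻¹ᵁ X.basicOpen g) :=
      (Y.presheaf.map (homOfLE hleV).op).hom.toAlgebra
    haveI locB : IsLocalization.Away ((j.app U).hom g) Γ(Y, j ⁻¹ᵁ X.basicOpen g) :=
      hV.isLocalization_of_eq_basicOpen _ (homOfLE hleV) hpre
    have hcomm : ∀ a, (j.app (X.basicOpen g)).hom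
        (algebraMap Γ(X, U) Γ(X, X.basicOpen g) a) =
        algebraMap Γ(Y, j ⁻¹ᵁ U) Γ(Y, j ⁻¹ᵁ X.basicOpen g) ((j.app U).hom a) := fun a =>
      congrArg (fun φ => φ.hom a) (j.naturality (homOfLE (X.basicOpen_le g)).op)
    have hs' := loc_surjective (j.app U).hom g (j.app (X.basicOpen g)).hom hcomm hs
    have hk' := loc_ker (j.app U).hom g (j.app (X.basicOpen g)).hom hcomm
    refine ⟨⟨X.basicOpen g, hU.basicOpen g⟩, hyg,
      RegSeqE.isClosedImmersion_restrict_of_surjective j (hU.basicOpen g) hV' hs',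
      rs.map (algebraMap Γ(X, U) Γ(X, X.basicOpen g)), ?_, ?_⟩
    · show IsRegular _ _
      rw [isRegular_iff_colon]
      refine ⟨hc, ?_⟩
      rw [ofList_map, ← hker', ← hk']
      exact ker_app_ne_top j y hyg
    · show RingHom.ker (j.app (X.basicOpen g)).hom = _
      rw [ofList_map, ← hker']
      exact hk'

end Geo

end Groth.Agent.Helper8.RegSeqL
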