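import Mathlib

set_option autoImplicit false

namespace Groth.Agent.Helper8.SpanFF

open CategoryTheory Limits Pretriangulated

universe v v' u u'

section Gen

variable {D : Type u} [Category.{v} D] [Preadditive D] [HasZeroObject D] [HasShift D ℤ]
  [∀ n : ℤ, (shiftFunctor D n).Additive] [Pretriangulated D]

lemma isIso_of_bijective_comp (P : D → Prop) (hP : ∀ X, P X → P (X⟦(-1 : ℤ)⟧))
    (hzero : ∀ K : D, (∀ X, P X → ∀ f : X ⟶ K, f = 0) → IsZero K)
    {A B : D} (u : A ⟶ B)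
    (hu : ∀ X, P X → Function.Bijective (fun f : X ⟶ A => f ≫ u)) : IsIso u := by
  obtain ⟨C, g, h, hT⟩ := distinguished_cocone_triangle u
  have hC : IsZero C := by
    apply hzero
    intro X hX c
    have h1 : c ≫ h = 0 := by
      let adj : shiftFunctor D (-1 : ℤ) ⊣ shiftFunctor D (1 : ℤ) :=
        (shiftEquiv D (1 : ℤ)).symm.toAdjunction
      have e1 : (adj.homEquiv X A).symm (c ≫ h) ≫ u = (adj.homEquiv X B).symm 0 := by
        rw [← Adjunction.homEquiv_naturality_right_symm, Category.assoc]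
        have : h ≫ u⟦(1 : ℤ)⟧' = 0 := comp_distTriang_mor_zero₃₁ _ hT
        rw [this, comp_zero]
      have e2 : (adj.homEquiv X A).symm 0 ≫ u = (adj.homEquiv X B).symm 0 := by
        rw [← Adjunction.homEquiv_naturality_right_symm, zero_comp]
      have e3 := (hu _ (hP X hX)).1 (e1.trans e2.symm)
      exact (adj.homEquiv X A).symm.injective e3
    obtain ⟨(c' : X ⟶ B), (hc' : c = c' ≫ g)⟩ := Triangle.coyoneda_exact₃ _ hT c h1
    obtain ⟨x, (hx : x ≫ u = c')⟩ := (hu X hX).2 c'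
    have h12 : u ≫ g = 0 := comp_distTriang_mor_zero₁₂ _ hT
    rw [hc', ← hx, Category.assoc, h12, comp_zero]
  exact (Triangle.isZero₃_iff_isIso₁ _ hT).1 hC

lemma isIso_of_bijective_comp' (P : D → Prop) (hP : ∀ X, P X → P (X⟦(-1 : ℤ)⟧))
    (hzero : ∀ K : D, (∀ Y, P Y → ∀ f : K ⟶ Y, f = 0) → IsZero K)
    {A B : D} (u : A ⟶ B)
    (hu : ∀ Y, P Y → Function.Bijective (fun f : B ⟶ Y => u ≫ f)) : IsIso u := by
  obtain ⟨C, g, h, hT⟩ := distinguished_cocone_triangle u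
  have h12 : u ≫ g = 0 := comp_distTriang_mor_zero₁₂ _ hT
  have h31 : h ≫ u⟦(1 : ℤ)⟧' = 0 := comp_distTriang_mor_zero₃₁ _ hT
  have hC : IsZero C := by
    apply hzero
    intro Y hY c
    have h0 : g ≫ c = 0 := by
      apply (hu Y hY).1
      show u ≫ g ≫ c = u ≫ 0
      rw [← Category.assoc, h12, zero_comp, comp_zero]
    obtain ⟨(c' : A⟦(1 : ℤ)⟧ ⟶ Y), (hc' : c = h ≫ c')⟩ := Triangle.yoneda_exact₃ _ hT c h0
    let adj : shiftFunctor D (1 : ℤ) ⊣ shiftFunctor D (-1 : ℤ) :=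
      (shiftEquiv D (1 : ℤ)).toAdjunction
    obtain ⟨y', hy'⟩ := (hu _ (hP Y hY)).2 (adj.homEquiv A Y c')
    have e1 : c' = (shiftFunctor D (1 : ℤ)).map u ≫ (adj.homEquiv B Y).symm y' := by
      rw [← Adjunction.homEquiv_naturality_left_symm]
      have : u ≫ y' = adj.homEquiv A Y c' := hy'
      rw [this, Equiv.symm_apply_apply]
    rw [hc', e1, ← Category.assoc, h31, zero_comp]
  exact (Triangle.isZero₃_iff_isIso₁ _ hT).1 hC

end Gen

variable {D : Type u} [Category.{v} D] [Preadditive D] [HasZeroObject D] [HasShift D ℤ]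
  [∀ n : ℤ, (shiftFunctor D n).Additive] [Pretriangulated D]
  {D' : Type u'} [Category.{v'} D'] [Preadditive D'] [HasZeroObject D'] [HasShift D' ℤ]
  [∀ n : ℤ, (shiftFunctor D' n).Additive] [Pretriangulated D']
  (F : D ⥤ D')

/-- `F` is bijective on `Hom(X, Y)`. -/
def BijOn (X Y : D) : Prop := Function.Bijective (fun f : X ⟶ Y => F.map f)

lemma bijOn_of_iso {X X₀ Y Y₀ : D} (i : X ≅ X₀) (j : Y ≅ Y₀) (h : BijOn F X₀ Y₀) :
    BijOn F X Y := by
  constructor
  · intro f f' hff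
    have hff' : F.map f = F.map f' := hff
    have h1 : F.map (i.inv ≫ f ≫ j.hom) = F.map (i.inv ≫ f' ≫ j.hom) := by
      simp only [F.map_comp, hff']
    have h2 := h.1 h1
    rwa [cancel_epi, cancel_mono] at h2
  · intro k
    obtain ⟨f₀, hf₀⟩ := h.2 (F.map i.inv ≫ k ≫ F.map j.hom)
    have hf₀' : F.map f₀ = F.map i.inv ≫ k ≫ F.map j.hom := hf₀
    refine ⟨i.hom ≫ f₀ ≫ j.inv, ?_⟩
    show F.map (i.hom ≫ f₀ ≫ j.inv) = k
    rw [F.map_comp, F.map_comp, hf₀']
    simp only [Category.assoc, ← F.map_comp, Iso.hom_inv_id, F.map_id, Category.comp_id]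
    rw [← Category.assoc, ← F.map_comp, Iso.hom_inv_id, F.map_id, Category.id_comp]

variable [F.CommShift ℤ]

lemma bijOn_shift (n : ℤ) {X Y : D} (h : BijOn F X Y) : BijOn F (X⟦n⟧) (Y⟦n⟧) := by
  have key : ∀ f : X ⟶ Y, F.map (f⟦n⟧') =
      (F.commShiftIso n).hom.app X ≫ (F.map f)⟦n⟧' ≫ (F.commShiftIso n).inv.app Y := by
    intro f
    have := (F.commShiftIso n).hom.naturality f
    dsimp at this
    rw [← Category.assoc, ← this, Category.assoc, Iso.hom_inv_id_app]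
    dsimp
    rw [Category.comp_id]
  constructor
  · intro g g' hgg
    obtain ⟨f, rfl⟩ := (shiftFunctor D n).map_surjective g
    obtain ⟨f', rfl⟩ := (shiftFunctor D n).map_surjective g'
    have hgg' : F.map (f⟦n⟧') = F.map (f'⟦n⟧') := hgg
    rw [key, key, cancel_epi, cancel_mono] at hgg'
    have := (shiftFunctor D' n).map_injective hgg'
    rw [h.1 this]
  · intro k
    obtain ⟨m, hm⟩ := (shiftFunctor D' n).map_surjective
      ((F.commShiftIso n).inv.app X ≫ k ≫ (F.commShiftIso n).hom.app Y)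
    obtain ⟨f, hf⟩ := h.2 m
    have hf' : F.map f = m := hf
    refine ⟨f⟦n⟧', ?_⟩
    show F.map (f⟦n⟧') = k
    rw [key, hf', hm]
    simp

/-- The class of objects isomorphic to shifts of objects of `S`. -/
def Cls (S : Set D) (X : D) : Prop := ∃ E ∈ S, ∃ a : ℤ, Nonempty (X ≅ E⟦a⟧)

omit [∀ n : ℤ, (shiftFunctor D n).Additive] [Pretriangulated D] [HasZeroObject D] [Preadditive D] in
lemma cls_shift (S : Set D) (n : ℤ) (X : D) (hX : Cls S X) : Cls S (X⟦n⟧) := by
  obtain ⟨E, hE, a, ⟨i⟩⟩ := hX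
  exact ⟨E, hE, a + n, ⟨(shiftFunctor D n).mapIso i ≪≫
    ((shiftFunctorAdd' D a n (a + n) rfl).app E).symm⟩⟩

lemma bijOn_cls (S : Set D)
    (h4 : ∀ E ∈ S, ∀ E' ∈ S, ∀ i : ℤ,
      Function.Bijective (fun f : E ⟶ (shiftFunctor D i).obj E' => F.map f))
    (X Y : D) (hX : Cls S X) (hY : Cls S Y) : BijOn F X Y := by
  obtain ⟨E, hE, a, ⟨i⟩⟩ := hX
  obtain ⟨E', hE', b, ⟨j⟩⟩ := hY
  refine bijOn_of_iso F i (j ≪≫ (shiftFunctorAdd' D (b - a) a b (by omega)).app E') ?_
  exact bijOn_shift F a (h4 E hE E' hE' (b - a))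

theorem main
    {D : Type u} [Category.{v} D] [Preadditive D] [HasZeroObject D] [HasShift D ℤ]
    [∀ n : ℤ, (shiftFunctor D n).Additive] [Pretriangulated D] [IsTriangulated D]
    {D' : Type u'} [Category.{v'} D'] [Preadditive D'] [HasZeroObject D'] [HasShift D' ℤ]
    [∀ n : ℤ, (shiftFunctor D' n).Additive] [Pretriangulated D'] [IsTriangulated D']
    (F : D ⥤ D') [F.CommShift ℤ] [F.IsTriangulated] [F.IsLeftAdjoint] [F.IsRightAdjoint]
    (S : Set D)
    (h2 : ∀ K : D, (∀ E ∈ S, ∀ (i : ℤ) (f : E ⟶ (shiftFunctor D i).obj K), f = 0) → IsZero K)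
    (h3 : ∀ K : D, (∀ E ∈ S, ∀ (i : ℤ) (f : K ⟶ (shiftFunctor D i).obj E), f = 0) → IsZero K)
    (h4 : ∀ E ∈ S, ∀ E' ∈ S, ∀ i : ℤ,
      Function.Bijective (fun f : E ⟶ (shiftFunctor D i).obj E' => F.map f)) :
    F.Full ∧ F.Faithful := by
  have hP : ∀ X, Cls S X → Cls S (X⟦(-1 : ℤ)⟧) := fun X hX => cls_shift S (-1) X hX
  have hz2 : ∀ K : D, (∀ X, Cls S X → ∀ f : X ⟶ K, f = 0) → IsZero K := by
    intro K hK
    apply h2
    intro E hE i f
    let iso : (K⟦i⟧)⟦-i⟧ ≅ K := (shiftFunctorCompIsoId D i (-i) (add_neg_cancel i)).app K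
    have h0 := hK (E⟦-i⟧) ⟨E, hE, -i, ⟨Iso.refl _⟩⟩ (f⟦-i⟧' ≫ iso.hom)
    have h1 : f⟦-i⟧' = 0 := (cancel_mono iso.hom).1 (h0.trans zero_comp.symm)
    apply (shiftFunctor D (-i)).map_injective
    rw [h1, Functor.map_zero]
  have hz3 : ∀ K : D, (∀ Y, Cls S Y → ∀ f : K ⟶ Y, f = 0) → IsZero K := by
    intro K hK
    apply h3
    intro E hE i f
    exact hK _ ⟨E, hE, i, ⟨Iso.refl _⟩⟩ f
  have hF1 := bijOn_cls F S h4
  let adjR : F ⊣ F.rightAdjoint := Adjunction.ofIsLeftAdjoint F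
  let adjL : F.leftAdjoint ⊣ F := Adjunction.ofIsRightAdjoint F
  -- Step 1
  have step1 : ∀ Y, Cls S Y → IsIso (adjR.unit.app Y) := by
    intro Y hY
    refine isIso_of_bijective_comp (Cls S) hP hz2 _ fun X hX => ?_
    have hcomp : (fun f : X ⟶ Y => f ≫ adjR.unit.app Y) =
        (adjR.homEquiv X (F.obj Y)) ∘ (fun f : X ⟶ Y => F.map f) := by
      funext f
      simp [Adjunction.homEquiv_unit]
    exact (congrArg Function.Bijective hcomp).mpr
      ((adjR.homEquiv X (F.obj Y)).bijective.comp (hF1 X Y hX hY))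
  have step1' : ∀ A Y, Cls S Y → BijOn F A Y := by
    intro A Y hY
    haveI := step1 Y hY
    have hcomp : (fun f : A ⟶ Y => F.map f) =
        (adjR.homEquiv A (F.obj Y)).symm ∘ (fun f : A ⟶ Y => f ≫ adjR.unit.app Y) := by
      funext f
      simp [Adjunction.homEquiv_counit]
    show Function.Bijective (fun f : A ⟶ Y => F.map f)
    refine (congrArg Function.Bijective hcomp).mpr ?_
    refine (adjR.homEquiv A (F.obj Y)).symm.bijective.comp ?_
    constructor
    · intro f f' hff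
      exact (cancel_mono (adjR.unit.app Y)).1 hff
    · intro g
      exact ⟨g ≫ inv (adjR.unit.app Y), by simp⟩
  have step2 : ∀ A, IsIso (adjL.counit.app A) := by
    intro A
    refine isIso_of_bijective_comp' (Cls S) hP hz3 _ fun Y hY => ?_
    have hcomp : (fun f : A ⟶ Y => adjL.counit.app A ≫ f) =
        (adjL.homEquiv (F.obj A) Y).symm ∘ (fun f : A ⟶ Y => F.map f) := by
      funext f
      simp [Adjunction.homEquiv_counit]
    exact (congrArg Function.Bijective hcomp).mpr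
      ((adjL.homEquiv (F.obj A) Y).symm.bijective.comp (step1' A Y hY))
  haveI : IsIso adjL.counit := NatIso.isIso_of_isIso_app _
  have ff := adjL.fullyFaithfulROfIsIsoCounit
  exact ⟨ff.full, ff.faithful⟩

end Groth.Agent.Helper8.SpanFF
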