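import Mathlib

/-!
General lemmas on pretriangulated categories used for Mayer–Vietoris squares.
-/

set_option autoImplicit false
universe v u

open CategoryTheory CategoryTheory.Limits CategoryTheory.Pretriangulated

namespace Groth.Agent.Helper8.MVGen

variable {C : Type u} [Category.{v} C] [Preadditive C] [HasZeroObject C] [HasShift C ℤ]
  [∀ n : ℤ, (shiftFunctor C n).Additive] [Pretriangulated C]

/-- In a pretriangulated category, a morphism that is both mono and epi is an isomorphism. -/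
lemma isIso_of_mono_of_epi' {X Y : C} (f : X ⟶ Y) [Mono f] [Epi f] : IsIso f := by
  have : IsSplitMono f := isSplitMono_of_mono f
  exact isIso_of_epi_of_isSplitMono f

/-- Splitting lemma: in a distinguished triangle `X ⟶ Y ⟶ Z` where `Y` is a biproduct of
`Y₁` and `Y₂` (given through maps satisfying the biproduct identities), if the first component
of `X ⟶ Y` is an isomorphism, then the second component of `Y ⟶ Z` is an isomorphism. -/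
lemma isIso_inr_comp_of_isIso_comp_fst (T : Triangle C) (hT : T ∈ distTriang C)
    {Y₁ Y₂ : C} (π₁ : T.obj₂ ⟶ Y₁) (π₂ : T.obj₂ ⟶ Y₂) (ι₁ : Y₁ ⟶ T.obj₂) (ι₂ : Y₂ ⟶ T.obj₂)
    (h22 : ι₂ ≫ π₂ = 𝟙 _)
    (h21 : ι₂ ≫ π₁ = 0)
    (htot : π₁ ≫ ι₁ + π₂ ≫ ι₂ = 𝟙 _) (h : IsIso (T.mor₁ ≫ π₁)) :
    IsIso (ι₂ ≫ T.mor₂) := by
  have hmono : Mono T.mor₁ := by
    have : T.mor₁ ≫ π₁ ≫ inv (T.mor₁ ≫ π₁) = 𝟙 _ := by
      rw [← Category.assoc, IsIso.hom_inv_id]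
    exact mono_of_mono_fac this
  have hw : T.mor₃ = 0 := T.mor₃_eq_zero_of_mono₁ hT hmono
  have : Epi (ι₂ ≫ T.mor₂) := by
    constructor
    intro W z z' hz
    suffices H : ∀ z : T.obj₃ ⟶ W, (ι₂ ≫ T.mor₂) ≫ z = 0 → z = 0 by
      have := H (z - z') (by rw [Preadditive.comp_sub, hz, sub_self])
      exact sub_eq_zero.mp this
    intro z hz
    have h1 : T.mor₂ ≫ z = π₁ ≫ ι₁ ≫ T.mor₂ ≫ z := by
      rw [Category.assoc] at hz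
      calc T.mor₂ ≫ z = (π₁ ≫ ι₁ + π₂ ≫ ι₂) ≫ T.mor₂ ≫ z := by rw [htot, Category.id_comp]
        _ = π₁ ≫ ι₁ ≫ T.mor₂ ≫ z + π₂ ≫ ι₂ ≫ T.mor₂ ≫ z := by
          rw [Preadditive.add_comp, Category.assoc, Category.assoc]
        _ = π₁ ≫ ι₁ ≫ T.mor₂ ≫ z := by rw [hz, comp_zero, add_zero]
    have h2 : (T.mor₁ ≫ π₁) ≫ (ι₁ ≫ T.mor₂ ≫ z) = 0 := by
      rw [Category.assoc, ← h1, ← Category.assoc, comp_distTriang_mor_zero₁₂ _ hT, zero_comp]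
    have h3 : ι₁ ≫ T.mor₂ ≫ z = 0 :=
      (cancel_epi (T.mor₁ ≫ π₁)).mp (h2.trans comp_zero.symm)
    have h4 : T.mor₂ ≫ z = 0 := by rw [h1, h3, comp_zero]
    obtain ⟨g, hg⟩ := Triangle.yoneda_exact₃ T hT z h4
    rw [hg, hw, zero_comp]
  have : Mono (ι₂ ≫ T.mor₂) := by
    constructor
    intro W y y' hy
    suffices H : ∀ y : W ⟶ Y₂, y ≫ (ι₂ ≫ T.mor₂) = 0 → y = 0 by
      have := H (y - y') (by rw [Preadditive.sub_comp, hy, sub_self])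
      exact sub_eq_zero.mp this
    intro y hy
    obtain ⟨x, hx⟩ := Triangle.coyoneda_exact₂ T hT (y ≫ ι₂) (by rw [Category.assoc]; exact hy)
    have h1 : x ≫ (T.mor₁ ≫ π₁) = 0 := by
      rw [← Category.assoc, ← hx, Category.assoc, h21, comp_zero]
    have h2 : x = 0 :=
      (cancel_mono (T.mor₁ ≫ π₁)).mp (h1.trans zero_comp.symm)
    have h3 : y ≫ ι₂ = 0 := by rw [hx, h2, zero_comp]
    calc y = y ≫ ι₂ ≫ π₂ := by rw [h22, Category.comp_id]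
      _ = 0 := by rw [← Category.assoc, h3, zero_comp]
  exact isIso_of_mono_of_epi' _

/-- Dual splitting lemma: in a distinguished triangle `X ⟶ Y ⟶ Z` where `Y` is a biproduct of
`Y₁` and `Y₂`, if the second component of `Y ⟶ Z` is an isomorphism, then the first component of
`X ⟶ Y` is an isomorphism. -/
lemma isIso_comp_fst_of_isIso_inr_comp (T : Triangle C) (hT : T ∈ distTriang C)
    {Y₁ Y₂ : C} (π₁ : T.obj₂ ⟶ Y₁) (π₂ : T.obj₂ ⟶ Y₂) (ι₁ : Y₁ ⟶ T.obj₂) (ι₂ : Y₂ ⟶ T.obj₂)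
    (h11 : ι₁ ≫ π₁ = 𝟙 _)
    (h21 : ι₂ ≫ π₁ = 0)
    (htot : π₁ ≫ ι₁ + π₂ ≫ ι₂ = 𝟙 _) (h : IsIso (ι₂ ≫ T.mor₂)) :
    IsIso (T.mor₁ ≫ π₁) := by
  have hepi : Epi T.mor₂ := by
    have : (inv (ι₂ ≫ T.mor₂) ≫ ι₂) ≫ T.mor₂ = 𝟙 _ := by
      rw [Category.assoc, IsIso.inv_hom_id]
    exact epi_of_epi_fac this
  have hw : T.mor₃ = 0 := T.mor₃_eq_zero_of_epi₂ hT hepi
  have hmono1 : Mono T.mor₁ := T.mono₁ hT hw
  have : Mono (T.mor₁ ≫ π₁) := by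
    constructor
    intro W y y' hy
    suffices H : ∀ y : W ⟶ T.obj₁, y ≫ (T.mor₁ ≫ π₁) = 0 → y = 0 by
      have := H (y - y') (by rw [Preadditive.sub_comp, hy, sub_self])
      exact sub_eq_zero.mp this
    intro y hy
    -- y ≫ mor₁ = y ≫ mor₁ ≫ π₂ ≫ ι₂
    have h1 : y ≫ T.mor₁ = (y ≫ T.mor₁ ≫ π₂) ≫ ι₂ := by
      have : y ≫ T.mor₁ = (y ≫ T.mor₁) ≫ (π₁ ≫ ι₁ + π₂ ≫ ι₂) := by rw [htot, Category.comp_id]
      rw [this, Preadditive.comp_add]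
      rw [← Category.assoc] at hy
      rw [← Category.assoc (y ≫ T.mor₁) π₁, hy, zero_comp, zero_add]
      simp only [Category.assoc]
    have h2 : (y ≫ T.mor₁ ≫ π₂) ≫ (ι₂ ≫ T.mor₂) = 0 := by
      rw [← Category.assoc, ← h1, Category.assoc, comp_distTriang_mor_zero₁₂ _ hT, comp_zero]
    have h3 : y ≫ T.mor₁ ≫ π₂ = 0 :=
      (cancel_mono (ι₂ ≫ T.mor₂)).mp (h2.trans zero_comp.symm)
    have h4 : y ≫ T.mor₁ = 0 := by rw [h1, h3, zero_comp]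
    exact (cancel_mono T.mor₁).mp (by rw [h4, zero_comp])
  have : Epi (T.mor₁ ≫ π₁) := by
    constructor
    intro W z z' hz
    suffices H : ∀ z : Y₁ ⟶ W, (T.mor₁ ≫ π₁) ≫ z = 0 → z = 0 by
      have := H (z - z') (by rw [Preadditive.comp_sub, hz, sub_self])
      exact sub_eq_zero.mp this
    intro z hz
    obtain ⟨g, hg⟩ := Triangle.yoneda_exact₂ T hT (π₁ ≫ z) (by rw [← Category.assoc]; exact hz)
    have h1 : (ι₂ ≫ T.mor₂) ≫ g = 0 := by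
      rw [Category.assoc, ← hg, ← Category.assoc, h21, zero_comp]
    have h2 : g = 0 :=
      (cancel_epi (ι₂ ≫ T.mor₂)).mp (h1.trans comp_zero.symm)
    have h3 : π₁ ≫ z = 0 := by rw [hg, h2, comp_zero]
    calc z = (ι₁ ≫ π₁) ≫ z := by rw [h11, Category.id_comp]
      _ = 0 := by rw [Category.assoc, h3, comp_zero]
  exact isIso_of_mono_of_epi' _

/-- variant with explicit morphisms -/
lemma isIso_inr_comp_of_isIso_comp_fst' {X Y Z Y₁ Y₂ : C} (u : X ⟶ Y) (v : Y ⟶ Z)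
    (w : Z ⟶ X⟦(1 : ℤ)⟧) (hT : Triangle.mk u v w ∈ distTriang C)
    (π₁ : Y ⟶ Y₁) (π₂ : Y ⟶ Y₂) (ι₁ : Y₁ ⟶ Y) (ι₂ : Y₂ ⟶ Y)
    (h22 : ι₂ ≫ π₂ = 𝟙 _) (h21 : ι₂ ≫ π₁ = 0)
    (htot : π₁ ≫ ι₁ + π₂ ≫ ι₂ = 𝟙 _) (h : IsIso (u ≫ π₁)) :
    IsIso (ι₂ ≫ v) :=
  isIso_inr_comp_of_isIso_comp_fst (Triangle.mk u v w) hT π₁ π₂ ι₁ ι₂ h22 h21 htot h

/-- variant with explicit morphisms -/
lemma isIso_comp_fst_of_isIso_inr_comp' {X Y Z Y₁ Y₂ : C} (u : X ⟶ Y) (v : Y ⟶ Z)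
    (w : Z ⟶ X⟦(1 : ℤ)⟧) (hT : Triangle.mk u v w ∈ distTriang C)
    (π₁ : Y ⟶ Y₁) (π₂ : Y ⟶ Y₂) (ι₁ : Y₁ ⟶ Y) (ι₂ : Y₂ ⟶ Y)
    (h11 : ι₁ ≫ π₁ = 𝟙 _) (h21 : ι₂ ≫ π₁ = 0)
    (htot : π₁ ≫ ι₁ + π₂ ≫ ι₂ = 𝟙 _) (h : IsIso (ι₂ ≫ v)) :
    IsIso (u ≫ π₁) :=
  isIso_comp_fst_of_isIso_inr_comp (Triangle.mk u v w) hT π₁ π₂ ι₁ ι₂ h11 h21 htot h

end Groth.Agent.Helper8.MVGen
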