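import Groth.Prelude.Def_W4c3perfectstacksMV
import Groth.Agent.Helper8.MVGen
import Mathlib

/-!
Mayer–Vietoris squares of triangulated categories (single-square form): helper lemmas.
-/

set_option autoImplicit false
set_option linter.unusedSectionVars false
set_option linter.style.haveILetI false
universe v u

open CategoryTheory CategoryTheory.Limits CategoryTheory.Pretriangulated
open W4c3perfectstacks W4c3perfectstacks.MVSq

namespace Groth.Agent.Helper8.MV

variable {S S' R R' : Type u} [Category.{v} S] [Category.{v} S'] [Category.{v} R] [Category.{v} R']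
    [Preadditive S] [Preadditive S'] [Preadditive R] [Preadditive R']
    [HasZeroObject S] [HasZeroObject S'] [HasZeroObject R] [HasZeroObject R']
    [HasShift S ℤ] [HasShift S' ℤ] [HasShift R ℤ] [HasShift R' ℤ]
    [∀ n : ℤ, (shiftFunctor S n).Additive] [∀ n : ℤ, (shiftFunctor S' n).Additive]
    [∀ n : ℤ, (shiftFunctor R n).Additive] [∀ n : ℤ, (shiftFunctor R' n).Additive]
    [Pretriangulated S] [Pretriangulated S'] [Pretriangulated R] [Pretriangulated R']
    (q : W4c3perfectstacks.MVSq S S' R R')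

section plain

/-- naturality of the base-change map -/
lemma bcApp_naturality {M M' : S'} (m : M ⟶ M') :
    q.jst.map (q.fls.map m) ≫ q.bcApp M' = q.bcApp M ≫ q.gls.map (q.jpst.map m) := by
  unfold MVSq.bcApp
  have h1 := q.adjG.unit.naturality (q.jst.map (q.fls.map m))
  have h2 := q.e.hom.naturality (q.fls.map m)
  have h3 := q.adjF.counit.naturality m
  simp only [Functor.id_obj, Functor.comp_obj, Functor.id_map, Functor.comp_map] at h1 h2 h3
  rw [← Category.assoc, h1, Category.assoc, ← q.gls.map_comp_assoc, h2, q.gls.map_comp_assoc,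
    ← q.gls.map_comp, ← q.jpst.map_comp, h3]
  simp only [Functor.map_comp, Category.assoc]

/-- naturality of the exchange map -/
lemma bc2App_naturality {P P' : R} (m : P ⟶ P') :
    q.fst.map (q.jls.map m) ≫ q.bc2App P' = q.bc2App P ≫ q.jpls.map (q.gst.map m) := by
  unfold MVSq.bc2App
  have h1 := q.adjJp.unit.naturality (q.fst.map (q.jls.map m))
  have h2 := q.e.inv.naturality (q.jls.map m)
  have h3 := q.adjJ.counit.naturality m
  simp only [Functor.id_obj, Functor.comp_obj, Functor.id_map, Functor.comp_map] at h1 h2 h3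
  rw [← Category.assoc, h1, Category.assoc, ← q.jpls.map_comp_assoc, h2, q.jpls.map_comp_assoc,
    ← q.jpls.map_comp, ← q.gst.map_comp, h3]
  simp only [Functor.map_comp, Category.assoc]

/-- `j^*` of the unit of `j` is invertible when the counit is. -/
lemma isIso_jst_unit (hq : q.IsMV) (N : S) : IsIso (q.jst.map (q.adjJ.unit.app N)) := by
  haveI := hq.isIso_counitJ
  have h := q.adjJ.left_triangle_components N
  have : q.jst.map (q.adjJ.unit.app N) = inv (q.adjJ.counit.app (q.jst.obj N)) :=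
    IsIso.eq_inv_of_inv_hom_id h
  rw [this]; infer_instance

lemma isIso_jpst_unit (hq : q.IsMV) (N : S') : IsIso (q.jpst.map (q.adjJp.unit.app N)) := by
  haveI := hq.isIso_counitJp
  have h := q.adjJp.left_triangle_components N
  have : q.jpst.map (q.adjJp.unit.app N) = inv (q.adjJp.counit.app (q.jpst.obj N)) :=
    IsIso.eq_inv_of_inv_hom_id h
  rw [this]; infer_instance

/-- maps from an object killed by `j^*` to `j_* P` vanish -/
lemma eq_zero_of_isZero_jst {K : S} (hK : IsZero (q.jst.obj K)) {P : R} (x : K ⟶ q.jls.obj P) :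
    x = 0 := by
  apply (q.adjJ.homEquiv K P).symm.injective
  exact hK.eq_of_src _ _

/-- `j'^* f^* K` is zero if `j^* K` is (additivity of `g^*` assumed through zero morphisms). -/
lemma isZero_jpst_fst [q.gst.PreservesZeroMorphisms] {K : S} (hK : IsZero (q.jst.obj K)) :
    IsZero (q.jpst.obj (q.fst.obj K)) :=
  IsZero.of_iso (q.gst.map_isZero hK) (q.e.app K).symm

/-- maps from an object killed by `j^*` to `f_* j'_* Q` vanish -/
lemma eq_zero_of_isZero_jst' [q.gst.PreservesZeroMorphisms] {K : S} (hK : IsZero (q.jst.obj K))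
    {Q : R'} (x : K ⟶ q.fls.obj (q.jpls.obj Q)) : x = 0 := by
  apply (q.adjF.homEquiv K _).symm.injective
  apply (q.adjJp.homEquiv _ _).symm.injective
  exact (isZero_jpst_fst q hK).eq_of_src _ _

/-- maps from an object killed by `j^*` to `f_* f^* j_* P` vanish -/
lemma eq_zero_of_isZero_jst'' [q.gst.PreservesZeroMorphisms] (hq : q.IsMV)
    {K : S} (hK : IsZero (q.jst.obj K))
    {P : R} (x : K ⟶ q.fls.obj (q.fst.obj (q.jls.obj P))) : x = 0 := by
  haveI := hq.isIso_bc2App P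
  have h := eq_zero_of_isZero_jst' q hK (x ≫ q.fls.map (q.bc2App P))
  exact (cancel_mono (q.fls.map (q.bc2App P))).mp (h.trans zero_comp.symm)

/-- if `j^* x = 0` then `x ≫ k = 0` for any `k` with target `f_* j'_* Q`. -/
lemma comp_eq_zero_of_jst_map_eq_zero [q.gst.PreservesZeroMorphisms]
    [q.fst.PreservesZeroMorphisms] [q.jpst.PreservesZeroMorphisms] {W₁ W₂ : S} (x : W₁ ⟶ W₂)
    (hx : q.jst.map x = 0) {Q : R'} (k : W₂ ⟶ q.fls.obj (q.jpls.obj Q)) : x ≫ k = 0 := by
  apply (q.adjF.homEquiv _ _).symm.injective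
  apply (q.adjJp.homEquiv _ _).symm.injective
  rw [Adjunction.homEquiv_naturality_left_symm, Adjunction.homEquiv_naturality_left_symm]
  have h1 : q.jpst.map (q.fst.map x) = 0 := by
    have h2 := q.e.hom.naturality x
    simp only [Functor.comp_obj, Functor.comp_map] at h2
    have h3 : q.jpst.map (q.fst.map x) = q.e.inv.app _ ≫ q.gst.map (q.jst.map x) ≫ q.e.hom.app _ := by
      rw [h2, Iso.inv_hom_id_app_assoc]
    rw [h3, hx, q.gst.map_zero, zero_comp, comp_zero]
  rw [h1, zero_comp]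
  simp [Adjunction.homEquiv_counit]

/-- if `j^* x = 0` then `x ≫ k = 0` for any `k` with target `f_* f^* j_* P`. -/
lemma comp_eq_zero_of_jst_map_eq_zero' [q.gst.PreservesZeroMorphisms]
    [q.fst.PreservesZeroMorphisms] [q.jpst.PreservesZeroMorphisms] (hq : q.IsMV)
    {W₁ W₂ : S} (x : W₁ ⟶ W₂)
    (hx : q.jst.map x = 0) {P : R} (k : W₂ ⟶ q.fls.obj (q.fst.obj (q.jls.obj P))) : x ≫ k = 0 := by
  haveI := hq.isIso_bc2App P
  have h := comp_eq_zero_of_jst_map_eq_zero q x hx (k ≫ q.fls.map (q.bc2App P))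
  rw [← Category.assoc] at h
  exact (cancel_mono (q.fls.map (q.bc2App P))).mp (h.trans zero_comp.symm)

end plain

section tri

variable [q.jst.CommShift ℤ] [q.fst.CommShift ℤ] [q.jpst.CommShift ℤ] [q.gst.CommShift ℤ]
    [q.jst.IsTriangulated] [q.fst.IsTriangulated] [q.jpst.IsTriangulated] [q.gst.IsTriangulated]

/-- commutation with shifts on the right adjoint `j_*` -/
@[instance_reducible] noncomputable def jlsCommShift : q.jls.CommShift ℤ := q.adjJ.rightAdjointCommShift ℤ
/-- commutation with shifts on the right adjoint `f_*` -/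
@[instance_reducible] noncomputable def flsCommShift : q.fls.CommShift ℤ := q.adjF.rightAdjointCommShift ℤ
/-- commutation with shifts on the right adjoint `j'_*` -/
@[instance_reducible] noncomputable def jplsCommShift : q.jpls.CommShift ℤ := q.adjJp.rightAdjointCommShift ℤ
/-- commutation with shifts on the right adjoint `g_*` -/
@[instance_reducible] noncomputable def glsCommShift : q.gls.CommShift ℤ := q.adjG.rightAdjointCommShift ℤ

attribute [local instance] jlsCommShift flsCommShift jplsCommShift glsCommShift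

lemma adjJ_commShift : q.adjJ.CommShift ℤ := q.adjJ.commShift_of_leftAdjoint ℤ
lemma adjF_commShift : q.adjF.CommShift ℤ := q.adjF.commShift_of_leftAdjoint ℤ
lemma adjJp_commShift : q.adjJp.CommShift ℤ := q.adjJp.commShift_of_leftAdjoint ℤ
lemma adjG_commShift : q.adjG.CommShift ℤ := q.adjG.commShift_of_leftAdjoint ℤ

attribute [local instance] adjJ_commShift adjF_commShift adjJp_commShift adjG_commShift

lemma jls_isTriangulated : q.jls.IsTriangulated := q.adjJ.isTriangulated_rightAdjoint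
lemma fls_isTriangulated : q.fls.IsTriangulated := q.adjF.isTriangulated_rightAdjoint
lemma jpls_isTriangulated : q.jpls.IsTriangulated := q.adjJp.isTriangulated_rightAdjoint
lemma gls_isTriangulated : q.gls.IsTriangulated := q.adjG.isTriangulated_rightAdjoint

attribute [local instance] jls_isTriangulated fls_isTriangulated jpls_isTriangulated
  gls_isTriangulated

/-- the kernel of `j^*` is stable under shifts -/
lemma isZero_jst_shift {K : S} (hK : IsZero (q.jst.obj K)) (n : ℤ) :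
    IsZero (q.jst.obj (K⟦n⟧)) :=
  IsZero.of_iso ((shiftFunctor R n).map_isZero hK) ((q.jst.commShiftIso n).app K)

/-- right orthogonality to the kernel of `j^*` is stable under shifts -/
lemma eq_zero_shift_of_forall {Z : S}
    (hZ : ∀ K : S, IsZero (q.jst.obj K) → ∀ x : K ⟶ Z, x = 0) (n : ℤ)
    {K : S} (hK : IsZero (q.jst.obj K)) (x : K ⟶ Z⟦n⟧) : x = 0 := by
  apply (shiftFunctor S (-n)).map_injective
  have h := hZ (K⟦-n⟧) (isZero_jst_shift q hK (-n)) (x⟦-n⟧' ≫ (shiftShiftNeg Z n).hom)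
  rw [Functor.map_zero]
  exact (cancel_mono (shiftShiftNeg Z n).hom).mp (h.trans zero_comp.symm)

/-- Key lemma: for `K` killed by `j^*`, composition with the unit of `f` is bijective on
`Hom(K, N)`. -/
theorem key_bijective (hq : q.IsMV) (K N : S) (hK : IsZero (q.jst.obj K)) :
    Function.Bijective (fun g : K ⟶ N => g ≫ q.adjF.unit.app N) := by
  obtain ⟨A, i, dd, hT⟩ : ∃ (A : S) (i : A ⟶ N) (dd : q.jls.obj (q.jst.obj N) ⟶ A⟦(1 : ℤ)⟧),
      Triangle.mk i (q.adjJ.unit.app N) dd ∈ distTriang S :=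
    distinguished_cocone_triangle₁ (q.adjJ.unit.app N)
  set T₁ := Triangle.mk i (q.adjJ.unit.app N) dd with hT₁
  -- `A` is killed by `j^*`
  have hA : IsZero (q.jst.obj A) := by
    have h1 := q.jst.map_distinguished _ hT
    haveI : IsIso (q.jst.mapTriangle.obj T₁).mor₂ := by
      dsimp [T₁]; exact isIso_jst_unit q hq N
    exact Triangle.isZero₁_of_isIso₂ _ h1 this
  let ηA : A ⟶ q.fls.obj (q.fst.obj A) := q.adjF.unit.app A
  let ηN : N ⟶ q.fls.obj (q.fst.obj N) := q.adjF.unit.app N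
  haveI : IsIso ηA := hq.isIso_unitF A hA
  have hΦT := (q.fst ⋙ q.fls).map_distinguished _ hT
  have hnat : i ≫ ηN = ηA ≫ q.fls.map (q.fst.map i) :=
    q.adjF.unit.naturality i
  change Function.Bijective (fun g : K ⟶ N => g ≫ ηN)
  constructor
  · intro g g' hgg
    suffices H : ∀ g : K ⟶ N, g ≫ ηN = 0 → g = 0 by
      have := H (g - g') (by
        simp only at hgg
        rw [Preadditive.sub_comp, hgg, sub_self])
      exact sub_eq_zero.mp this
    intro g hg
    obtain ⟨g', hg'⟩ : ∃ g' : K ⟶ A, g = g' ≫ i :=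
      Triangle.coyoneda_exact₂ T₁ hT g (eq_zero_of_isZero_jst q hK _)
    have h1 : (g' ≫ ηA) ≫ q.fls.map (q.fst.map i) = 0 := by
      rw [Category.assoc, ← hnat, ← Category.assoc, ← hg', hg]
    obtain ⟨y, hy⟩ := Triangle.coyoneda_exact₂ _ (inv_rot_of_distTriang _ hΦT)
      (g' ≫ ηA) h1
    have hy0 : y = 0 :=
      eq_zero_shift_of_forall q (fun K' hK' x => eq_zero_of_isZero_jst'' q hq hK' x) (-1) hK y
    rw [hy0, zero_comp] at hy
    have : g' = 0 := (cancel_mono ηA).mp (hy.trans zero_comp.symm)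
    rw [hg', this, zero_comp]
  · intro h
    obtain ⟨h', hh'⟩ : ∃ h' : K ⟶ q.fls.obj (q.fst.obj A), h = h' ≫ q.fls.map (q.fst.map i) :=
      Triangle.coyoneda_exact₂ _ hΦT h (eq_zero_of_isZero_jst'' q hq hK _)
    refine ⟨h' ≫ inv ηA ≫ i, ?_⟩
    simp only [Category.assoc]
    rw [hnat, IsIso.inv_hom_id_assoc, hh']

/-- `f_* M` is killed by `j^*` when `M` is killed by `j'^*`. -/
lemma isZero_jst_fls (hq : q.IsMV) {M : S'} (hM : IsZero (q.jpst.obj M)) :
    IsZero (q.jst.obj (q.fls.obj M)) := by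
  haveI := hq.isIso_bcApp M
  exact IsZero.of_iso (q.gls.map_isZero hM) (asIso (q.bcApp M))

/-- S16409 -/
theorem map_bijective_of_isZero_pullback (hq : q.IsMV) (M : S') (hM : IsZero (q.jpst.obj M))
    (N : S) : Function.Bijective (fun g : q.fls.obj M ⟶ N => q.fst.map g) := by
  have h1 := key_bijective q hq (q.fls.obj M) N (isZero_jst_fls q hq hM)
  have h2 : (fun g : q.fls.obj M ⟶ N => q.fst.map g) =
      (q.adjF.homEquiv _ _).symm ∘ (fun g : q.fls.obj M ⟶ N => g ≫ q.adjF.unit.app N) := by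
    funext g
    simp [Adjunction.homEquiv_counit]
  rw [h2]
  exact (Equiv.bijective _).comp h1

/-- `j^* f_*` preserves morphisms inverted by `j'^*`. -/
lemma isIso_jst_fls_map (hq : q.IsMV) {M M' : S'} (m : M ⟶ M') [IsIso (q.jpst.map m)] :
    IsIso (q.jst.map (q.fls.map m)) := by
  have h3 := bcApp_naturality q m
  haveI := hq.isIso_bcApp M
  haveI := hq.isIso_bcApp M'
  have h4 : q.jst.map (q.fls.map m) = q.bcApp M ≫ q.gls.map (q.jpst.map m) ≫ inv (q.bcApp M') := by
    rw [← Category.assoc, ← h3, Category.assoc, IsIso.hom_inv_id, Category.comp_id]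
  rw [h4]; infer_instance

/-- first map of the Mayer–Vietoris triangle -/
noncomputable abbrev mvU (N : S) :
    N ⟶ q.jls.obj (q.jst.obj N) ⊞ q.fls.obj (q.fst.obj N) :=
  biprod.lift (q.adjJ.unit.app N) (q.adjF.unit.app N)

/-- second map of the Mayer–Vietoris triangle -/
noncomputable abbrev mvP (N : S) :
    q.jls.obj (q.jst.obj N) ⊞ q.fls.obj (q.fst.obj N) ⟶
      q.fls.obj (q.fst.obj (q.jls.obj (q.jst.obj N))) :=
  biprod.desc (q.adjF.unit.app (q.jls.obj (q.jst.obj N)))
    (-(q.fls.map (q.fst.map (q.adjJ.unit.app N))))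

lemma mvU_comp_mvP (N : S) : mvU q N ≫ mvP q N = 0 := by
  have h := q.adjF.unit.naturality (q.adjJ.unit.app N)
  simp only [Functor.id_obj, Functor.id_map, Functor.comp_obj, Functor.comp_map] at h
  rw [biprod.lift_desc, Preadditive.comp_neg, h, add_neg_cancel]

lemma isIso_neg' {C : Type*} [Category C] [Preadditive C] {X Y : C} (f : X ⟶ Y) [IsIso f] :
    IsIso (-f) := (-(asIso f)).isIso_hom

/-- `j^*` kills the connecting map of any Mayer–Vietoris triangle. -/
lemma jst_map_eq_zero_of_distinguished (hq : q.IsMV) (N : S)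
    (d : q.fls.obj (q.fst.obj (q.jls.obj (q.jst.obj N))) ⟶ N⟦(1 : ℤ)⟧)
    (hd : Triangle.mk (mvU q N) (mvP q N) d ∈ distTriang S) : q.jst.map d = 0 := by
  have h1 : d ≫ (mvU q N)⟦(1 : ℤ)⟧' = 0 := comp_distTriang_mor_zero₃₁ _ hd
  have h2 : d ≫ (q.adjJ.unit.app N)⟦(1 : ℤ)⟧' = 0 := by
    have : (q.adjJ.unit.app N)⟦(1 : ℤ)⟧' = (mvU q N)⟦(1 : ℤ)⟧' ≫ (biprod.fst)⟦(1 : ℤ)⟧' := by
      rw [← Functor.map_comp, biprod.lift_fst]
    rw [this, ← Category.assoc, h1, zero_comp]
  haveI := isIso_jst_unit q hq N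
  haveI h3 : IsIso (q.jst.map ((q.adjJ.unit.app N)⟦(1 : ℤ)⟧')) := by
    have := (NatIso.isIso_map_iff (q.jst.commShiftIso (1 : ℤ)) (q.adjJ.unit.app N)).mpr
      (by dsimp; infer_instance)
    exact this
  have h4 : q.jst.map d ≫ q.jst.map ((q.adjJ.unit.app N)⟦(1 : ℤ)⟧') = 0 := by
    rw [← Functor.map_comp, h2, Functor.map_zero]
  exact (cancel_mono (q.jst.map ((q.adjJ.unit.app N)⟦(1 : ℤ)⟧'))).mp (h4.trans zero_comp.symm)

/-- the connecting map of any Mayer–Vietoris triangle is killed by maps to `f_* j'_* Q`. -/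
lemma mvD_comp_eq_zero (hq : q.IsMV) (N : S)
    (d : q.fls.obj (q.fst.obj (q.jls.obj (q.jst.obj N))) ⟶ N⟦(1 : ℤ)⟧)
    (hd : Triangle.mk (mvU q N) (mvP q N) d ∈ distTriang S) {Q : R'}
    (k : N⟦(1 : ℤ)⟧ ⟶ q.fls.obj (q.jpls.obj Q)) : d ≫ k = 0 :=
  comp_eq_zero_of_jst_map_eq_zero q d (jst_map_eq_zero_of_distinguished q hq N d hd) k

/-- the connecting map of any Mayer–Vietoris triangle is killed by maps to `f_* f^* j_* P`. -/
lemma mvD_comp_eq_zero' (hq : q.IsMV) (N : S)
    (d : q.fls.obj (q.fst.obj (q.jls.obj (q.jst.obj N))) ⟶ N⟦(1 : ℤ)⟧)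
    (hd : Triangle.mk (mvU q N) (mvP q N) d ∈ distTriang S) {P : R}
    (k : N⟦(1 : ℤ)⟧ ⟶ q.fls.obj (q.fst.obj (q.jls.obj P))) : d ≫ k = 0 :=
  comp_eq_zero_of_jst_map_eq_zero' q hq d (jst_map_eq_zero_of_distinguished q hq N d hd) k

/-- S16408: naturality of the connecting maps. -/
theorem mv_naturality (hq : q.IsMV) (N₁ N₂ : S) (φ : N₁ ⟶ N₂)
    (d₁ : q.fls.obj (q.fst.obj (q.jls.obj (q.jst.obj N₁))) ⟶ N₁⟦(1 : ℤ)⟧)
    (d₂ : q.fls.obj (q.fst.obj (q.jls.obj (q.jst.obj N₂))) ⟶ N₂⟦(1 : ℤ)⟧)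
    (h₁ : Triangle.mk (mvU q N₁) (mvP q N₁) d₁ ∈ distTriang S)
    (h₂ : Triangle.mk (mvU q N₂) (mvP q N₂) d₂ ∈ distTriang S) :
    d₁ ≫ (shiftFunctor S (1 : ℤ)).map φ = q.fls.map (q.fst.map (q.jls.map (q.jst.map φ))) ≫ d₂ := by
  set y : q.jls.obj (q.jst.obj N₁) ⊞ q.fls.obj (q.fst.obj N₁) ⟶
      q.jls.obj (q.jst.obj N₂) ⊞ q.fls.obj (q.fst.obj N₂) :=
    biprod.map (q.jls.map (q.jst.map φ)) (q.fls.map (q.fst.map φ)) with hy
  set z₀ := q.fls.map (q.fst.map (q.jls.map (q.jst.map φ))) with hz₀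
  have hnatJ : q.adjJ.unit.app N₁ ≫ q.jls.map (q.jst.map φ) = φ ≫ q.adjJ.unit.app N₂ :=
    (q.adjJ.unit.naturality φ).symm
  have hnatF : q.adjF.unit.app N₁ ≫ q.fls.map (q.fst.map φ) = φ ≫ q.adjF.unit.app N₂ :=
    (q.adjF.unit.naturality φ).symm
  have hc1 : mvU q N₁ ≫ y = φ ≫ mvU q N₂ := by
    apply biprod.hom_ext
    · simp only [Category.assoc, hy, biprod.map_fst, biprod.lift_fst_assoc, biprod.lift_fst, hnatJ]
    · simp only [Category.assoc, hy, biprod.map_snd, biprod.lift_snd_assoc, biprod.lift_snd, hnatF]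
  obtain ⟨z, hz1, hz2⟩ : ∃ z : q.fls.obj (q.fst.obj (q.jls.obj (q.jst.obj N₁))) ⟶
      q.fls.obj (q.fst.obj (q.jls.obj (q.jst.obj N₂))),
      mvP q N₁ ≫ z = y ≫ mvP q N₂ ∧ d₁ ≫ (shiftFunctor S (1 : ℤ)).map φ = z ≫ d₂ :=
    complete_distinguished_triangle_morphism _ _ h₁ h₂ φ y hc1
  have hc2 : mvP q N₁ ≫ z₀ = y ≫ mvP q N₂ := by
    apply biprod.hom_ext'
    · have := q.adjF.unit.naturality (q.jls.map (q.jst.map φ))
      simp only [Functor.id_obj, Functor.id_map, Functor.comp_obj, Functor.comp_map] at this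
      simp only [biprod.inl_desc_assoc, hy, biprod.inl_map_assoc, biprod.inl_desc, hz₀, this]
    · simp only [biprod.inr_desc_assoc, hy, biprod.inr_map_assoc, biprod.inr_desc, hz₀,
        Preadditive.neg_comp, Preadditive.comp_neg, ← Functor.map_comp, hnatJ]
  have h3 : mvP q N₁ ≫ (z - z₀) = 0 := by
    rw [Preadditive.comp_sub, hz1, hc2, sub_self]
  obtain ⟨k, hk⟩ := Triangle.yoneda_exact₃ _ h₁ (z - z₀) h3
  have h4 : z - z₀ = 0 := by
    rw [hk]; exact mvD_comp_eq_zero' q hq N₁ d₁ h₁ k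
  rw [hz2, sub_eq_zero.mp h4]

/-- uniqueness of the connecting map of the Mayer–Vietoris triangle -/
theorem mv_unique (hq : q.IsMV) (N : S)
    (d d' : q.fls.obj (q.fst.obj (q.jls.obj (q.jst.obj N))) ⟶ N⟦(1 : ℤ)⟧)
    (hd : Triangle.mk (mvU q N) (mvP q N) d ∈ distTriang S)
    (hd' : Triangle.mk (mvU q N) (mvP q N) d' ∈ distTriang S) : d = d' := by
  have := mv_naturality q hq N N (𝟙 N) d d' hd hd'
  simpa using this

/-- shifted injectivity in the key lemma -/
lemma key_shift_injective (hq : q.IsMV) (K N : S) (hK : IsZero (q.jst.obj K)) (n : ℤ)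
    (x : K ⟶ N⟦n⟧) (hx : x ≫ (q.adjF.unit.app N)⟦n⟧' = 0) : x = 0 := by
  rw [← q.adjF.unit_app_commShiftIso_hom_app ℤ n N, ← Category.assoc] at hx
  have h1 : x ≫ q.adjF.unit.app (N⟦n⟧) = 0 :=
    (cancel_mono (((q.fst ⋙ q.fls).commShiftIso n).hom.app N)).mp (hx.trans zero_comp.symm)
  apply (key_bijective q hq K (N⟦n⟧) hK).1
  simp only [h1, zero_comp]

/-- existence of the Mayer–Vietoris triangle -/
theorem mv_exists (hq : q.IsMV) (N : S) :
    ∃ d : q.fls.obj (q.fst.obj (q.jls.obj (q.jst.obj N))) ⟶ N⟦(1 : ℤ)⟧,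
      Triangle.mk (mvU q N) (mvP q N) d ∈ distTriang S := by
  obtain ⟨T, v, w, hT⟩ := distinguished_cocone_triangle (mvU q N)
  obtain ⟨t, ht⟩ : ∃ t : T ⟶ q.fls.obj (q.fst.obj (q.jls.obj (q.jst.obj N))), mvP q N = v ≫ t :=
    Triangle.yoneda_exact₂ _ hT (mvP q N) (mvU_comp_mvP q N)
  -- `j^* t` is invertible
  have hjt : IsIso (q.jst.map t) := by
    have hT' : Triangle.mk (q.jst.map (mvU q N)) (q.jst.map v)
        (q.jst.map w ≫ (q.jst.commShiftIso (1 : ℤ)).hom.app N) ∈ distTriang R :=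
      q.jst.map_distinguished _ hT
    haveI := isIso_jst_unit q hq N
    have h1 : IsIso (q.jst.map biprod.inr ≫ q.jst.map v) := by
      refine MVGen.isIso_inr_comp_of_isIso_comp_fst' _ _ _ hT' (q.jst.map biprod.fst)
        (q.jst.map biprod.snd) (q.jst.map biprod.inl) (q.jst.map biprod.inr) ?_ ?_ ?_ ?_
      · rw [← Functor.map_comp, biprod.inr_snd, q.jst.map_id]
      · rw [← Functor.map_comp, biprod.inr_fst, Functor.map_zero]
      · rw [← Functor.map_comp, ← Functor.map_comp, ← Functor.map_add, biprod.total,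
          q.jst.map_id]
      · rw [← Functor.map_comp, biprod.lift_fst]
        infer_instance
    have h2 : IsIso (q.jst.map (q.fls.map (q.fst.map (q.adjJ.unit.app N)))) := by
      haveI : IsIso (q.jpst.map (q.fst.map (q.adjJ.unit.app N))) := by
        have := (NatIso.isIso_map_iff q.e (q.adjJ.unit.app N)).mp (by dsimp; infer_instance)
        exact this
      exact isIso_jst_fls_map q hq _
    have h5 : (q.jst.map biprod.inr ≫ q.jst.map v) ≫ q.jst.map t =
        -(q.jst.map (q.fls.map (q.fst.map (q.adjJ.unit.app N)))) := by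
      rw [← Functor.map_comp, ← Functor.map_comp, Category.assoc, ← ht, biprod.inr_desc,
        Functor.map_neg]
    haveI := isIso_neg' (q.jst.map (q.fls.map (q.fst.map (q.adjJ.unit.app N))))
    haveI : IsIso ((q.jst.map biprod.inr ≫ q.jst.map v) ≫ q.jst.map t) := by rw [h5]; infer_instance
    exact IsIso.of_isIso_comp_left (q.jst.map biprod.inr ≫ q.jst.map v) _
  -- the fibre of `t` vanishes
  have ht_iso : IsIso t := by
    obtain ⟨X, s, r, hX⟩ := distinguished_cocone_triangle₁ t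
    have hXj : IsZero (q.jst.obj X) := by
      have hX' := q.jst.map_distinguished _ hX
      exact Triangle.isZero₁_of_isIso₂ _ hX' hjt
    have hs : s = 0 := by
      have h1 : (s ≫ w) ≫ (mvU q N)⟦(1 : ℤ)⟧' = 0 := by
        rw [Category.assoc]
        have : w ≫ (mvU q N)⟦(1 : ℤ)⟧' = 0 := comp_distTriang_mor_zero₃₁ _ hT
        rw [this, comp_zero]
      have h2 : s ≫ w = 0 := by
        apply key_shift_injective q hq X N hXj 1
        have : (q.adjF.unit.app N)⟦(1 : ℤ)⟧' = (mvU q N)⟦(1 : ℤ)⟧' ≫ (biprod.snd)⟦(1 : ℤ)⟧' := by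
          rw [← Functor.map_comp, biprod.lift_snd]
        rw [this, ← Category.assoc, h1, zero_comp]
      obtain ⟨y, hy⟩ : ∃ y : X ⟶ q.jls.obj (q.jst.obj N) ⊞ q.fls.obj (q.fst.obj N), s = y ≫ v :=
        Triangle.coyoneda_exact₃ _ hT s h2
      obtain ⟨z, hz⟩ := (key_bijective q hq X N hXj).2 (y ≫ biprod.snd)
      simp only at hz
      have hyz : y = z ≫ mvU q N := by
        apply biprod.hom_ext
        · rw [Category.assoc, biprod.lift_fst]
          rw [eq_zero_of_isZero_jst q hXj (y ≫ biprod.fst),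
            eq_zero_of_isZero_jst q hXj (z ≫ q.adjJ.unit.app N)]
        · rw [Category.assoc, biprod.lift_snd, hz]
      have : (mvU q N) ≫ v = 0 := comp_distTriang_mor_zero₁₂ _ hT
      rw [hy, hyz, Category.assoc, this, comp_zero]
    have hid : 𝟙 X = 0 := by
      obtain ⟨y', hy'⟩ := Triangle.coyoneda_exact₂ _ (inv_rot_of_distTriang _ hX) (𝟙 X)
        (by change 𝟙 X ≫ s = 0; rw [hs, comp_zero])
      have hy0 : y' = 0 :=
        eq_zero_shift_of_forall q (fun K' hK' x => eq_zero_of_isZero_jst'' q hq hK' x) (-1) hXj y'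
      rw [hy', hy0, zero_comp]; rfl
    have hX0 : IsZero X := (IsZero.iff_id_eq_zero X).mpr hid
    exact (Triangle.isZero₁_iff_isIso₂ _ hX).mp hX0
  refine ⟨inv t ≫ w, ?_⟩
  refine isomorphic_distinguished _ hT _
    (Triangle.isoMk _ _ (Iso.refl _) (Iso.refl _) (asIso t).symm ?_ ?_ ?_)
  · change mvU q N ≫ 𝟙 _ = 𝟙 N ≫ mvU q N
    rw [Category.comp_id, Category.id_comp]
  · change mvP q N ≫ inv t = 𝟙 _ ≫ v
    rw [ht, Category.assoc, IsIso.hom_inv_id, Category.comp_id, Category.id_comp]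
  · change (inv t ≫ w) ≫ (shiftFunctor S (1 : ℤ)).map (𝟙 N) = inv t ≫ w
    rw [(shiftFunctor S (1 : ℤ)).map_id, Category.comp_id]

/-- `(j'^*, f_*)` is jointly conservative on `S'`. -/
lemma isIso_of_isIso_jpst_fls (hq : q.IsMV) {M₁ M₂ : S'} (m : M₁ ⟶ M₂)
    (h1 : IsIso (q.jpst.map m)) (h2 : IsIso (q.fls.map m)) : IsIso m := by
  obtain ⟨C', r, s, hC⟩ := distinguished_cocone_triangle m
  have hz1 : IsZero (q.jpst.obj C') :=
    Triangle.isZero₃_of_isIso₁ _ (q.jpst.map_distinguished _ hC) h1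
  have hz2 : IsZero (q.fls.obj C') :=
    Triangle.isZero₃_of_isIso₁ _ (q.fls.map_distinguished _ hC) h2
  haveI := hq.isIso_counitF C' hz1
  have hz3 : IsZero C' :=
    IsZero.of_iso (q.fst.map_isZero hz2) (asIso (q.adjF.counit.app C')).symm
  exact (Triangle.isZero₃_iff_isIso₁ _ hC).mp hz3

section glue

variable (hq : q.IsMV) (NU : R) (N' : S') (δ : q.jpst.obj N' ≅ q.gst.obj NU) (N : S)
    (a : N ⟶ q.jls.obj NU ⊞ q.fls.obj N')
    (d : q.fls.obj (q.jpls.obj (q.gst.obj NU)) ⟶ N⟦(1 : ℤ)⟧)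
    (hT : Triangle.mk a
      (biprod.desc (q.adjF.unit.app (q.jls.obj NU) ≫ q.fls.map (q.bc2App NU))
        (-(q.fls.map (q.adjJp.unit.app N' ≫ q.jpls.map δ.hom)))) d ∈ distTriang S)

include hT in
lemma glue_E1 : (a ≫ biprod.fst) ≫ q.adjF.unit.app (q.jls.obj NU) ≫ q.fls.map (q.bc2App NU) =
    (a ≫ biprod.snd) ≫ q.fls.map (q.adjJp.unit.app N' ≫ q.jpls.map δ.hom) := by
  have h0 : a ≫ (biprod.desc (q.adjF.unit.app (q.jls.obj NU) ≫ q.fls.map (q.bc2App NU))
        (-(q.fls.map (q.adjJp.unit.app N' ≫ q.jpls.map δ.hom)))) = 0 :=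
    comp_distTriang_mor_zero₁₂ _ hT
  have ha : a = biprod.lift (a ≫ biprod.fst) (a ≫ biprod.snd) := by
    apply biprod.hom_ext <;> simp
  rw [ha, biprod.lift_desc, Preadditive.comp_neg, ← sub_eq_add_neg, sub_eq_zero] at h0
  simpa using h0

include hT in
lemma glue_E2 : q.fst.map (a ≫ biprod.fst) ≫ q.bc2App NU =
    (q.adjF.homEquiv N N').symm (a ≫ biprod.snd) ≫ q.adjJp.unit.app N' ≫ q.jpls.map δ.hom := by
  have h := congrArg (q.adjF.homEquiv N _).symm (glue_E1 q NU N' δ N a d hT)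
  simpa [Adjunction.homEquiv_counit] using h

include hT in
lemma glue_E3 : q.jpst.map ((q.adjF.homEquiv N N').symm (a ≫ biprod.snd)) ≫ δ.hom =
    q.e.inv.app N ≫ q.gst.map ((q.adjJ.homEquiv N NU).symm (a ≫ biprod.fst)) := by
  have h := congrArg (q.adjJp.homEquiv _ _).symm (glue_E2 q NU N' δ N a d hT)
  have hnat := q.e.inv.naturality (a ≫ biprod.fst)
  simp only [Functor.comp_obj, Functor.comp_map, Functor.map_comp, Category.assoc] at hnat
  unfold MVSq.bc2App at h
  simp only [Adjunction.homEquiv_counit, Functor.map_comp, Category.assoc,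
    Adjunction.counit_naturality, Adjunction.left_triangle_components_assoc,
    Adjunction.counit_naturality_assoc] at h ⊢
  rw [← h, reassoc_of% hnat]

include hq hT in
/-- first half of S16410 -/
theorem glue_isIso_fst : IsIso ((q.adjJ.homEquiv N NU).symm (a ≫ biprod.fst)) := by
  have hT' : Triangle.mk (q.jst.map a)
      (q.jst.map (biprod.desc (q.adjF.unit.app (q.jls.obj NU) ≫ q.fls.map (q.bc2App NU))
        (-(q.fls.map (q.adjJp.unit.app N' ≫ q.jpls.map δ.hom)))))
      (q.jst.map d ≫ (q.jst.commShiftIso (1 : ℤ)).hom.app N) ∈ distTriang R :=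
    q.jst.map_distinguished _ hT
  haveI := isIso_jpst_unit q hq N'
  haveI : IsIso (q.jpst.map (q.adjJp.unit.app N' ≫ q.jpls.map δ.hom)) := by
    rw [Functor.map_comp]; infer_instance
  haveI := isIso_jst_fls_map q hq (q.adjJp.unit.app N' ≫ q.jpls.map δ.hom)
  haveI := isIso_neg' (q.jst.map (q.fls.map (q.adjJp.unit.app N' ≫ q.jpls.map δ.hom)))
  have h1 : IsIso (q.jst.map a ≫ q.jst.map biprod.fst) := by
    refine MVGen.isIso_comp_fst_of_isIso_inr_comp' _ _ _ hT' (q.jst.map biprod.fst)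
      (q.jst.map biprod.snd) (q.jst.map biprod.inl) (q.jst.map biprod.inr) ?_ ?_ ?_ ?_
    · rw [← Functor.map_comp, biprod.inl_fst, q.jst.map_id]
    · rw [← Functor.map_comp, biprod.inr_fst, Functor.map_zero]
    · rw [← Functor.map_comp, ← Functor.map_comp, ← Functor.map_add, biprod.total,
        q.jst.map_id]
    · rw [← Functor.map_comp, biprod.inr_desc, Functor.map_neg]
      infer_instance
  haveI := hq.isIso_counitJ
  rw [Adjunction.homEquiv_counit, Functor.map_comp]
  infer_instance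

include hq hT in
lemma glue_isIso_jpst_snd :
    IsIso (q.jpst.map ((q.adjF.homEquiv N N').symm (a ≫ biprod.snd))) := by
  haveI := glue_isIso_fst q hq NU N' δ N a d hT
  have h := glue_E3 q NU N' δ N a d hT
  have h' : q.jpst.map ((q.adjF.homEquiv N N').symm (a ≫ biprod.snd)) =
      (q.e.inv.app N ≫ q.gst.map ((q.adjJ.homEquiv N NU).symm (a ≫ biprod.fst))) ≫ δ.inv := by
    rw [← h, Category.assoc, Iso.hom_inv_id, Category.comp_id]
  rw [h']; infer_instance

include hq hT in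
lemma glue_isIso_fls_snd :
    IsIso (q.fls.map ((q.adjF.homEquiv N N').symm (a ≫ biprod.snd))) := by
  set mU := (q.adjJ.homEquiv N NU).symm (a ≫ biprod.fst) with hmU
  set m := (q.adjF.homEquiv N N').symm (a ≫ biprod.snd) with hm
  haveI : IsIso mU := glue_isIso_fst q hq NU N' δ N a d hT
  obtain ⟨dN, hdN⟩ := mv_exists q hq N
  have hU : q.adjJ.unit.app N ≫ q.jls.map mU = a ≫ biprod.fst := by
    have := (q.adjJ.homEquiv N NU).apply_symm_apply (a ≫ biprod.fst)
    rw [Adjunction.homEquiv_unit] at this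
    exact this
  have hF : q.adjF.unit.app N ≫ q.fls.map m = a ≫ biprod.snd := by
    have := (q.adjF.homEquiv N N').apply_symm_apply (a ≫ biprod.snd)
    rw [Adjunction.homEquiv_unit] at this
    exact this
  set y : q.jls.obj (q.jst.obj N) ⊞ q.fls.obj (q.fst.obj N) ⟶ q.jls.obj NU ⊞ q.fls.obj N' :=
    biprod.map (q.jls.map mU) (q.fls.map m) with hy
  have hc1 : mvU q N ≫ y = 𝟙 N ≫ a := by
    rw [Category.id_comp]
    apply biprod.hom_ext
    · simp only [Category.assoc, hy, biprod.map_fst, biprod.lift_fst_assoc, hU]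
    · simp only [Category.assoc, hy, biprod.map_snd, biprod.lift_snd_assoc, hF]
  obtain ⟨z, hz1, hz2⟩ : ∃ z : q.fls.obj (q.fst.obj (q.jls.obj (q.jst.obj N))) ⟶
      q.fls.obj (q.jpls.obj (q.gst.obj NU)),
      mvP q N ≫ z = y ≫ (biprod.desc (q.adjF.unit.app (q.jls.obj NU) ≫ q.fls.map (q.bc2App NU))
        (-(q.fls.map (q.adjJp.unit.app N' ≫ q.jpls.map δ.hom)))) ∧
      dN ≫ (shiftFunctor S (1 : ℤ)).map (𝟙 N) = z ≫ d :=
    complete_distinguished_triangle_morphism _ _ hdN hT (𝟙 N) y hc1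
  set z₀ : q.fls.obj (q.fst.obj (q.jls.obj (q.jst.obj N))) ⟶
      q.fls.obj (q.jpls.obj (q.gst.obj NU)) :=
    q.fls.map (q.fst.map (q.jls.map mU)) ≫ q.fls.map (q.bc2App NU) with hz₀
  have hE2 := glue_E2 q NU N' δ N a d hT
  have hc2 : mvP q N ≫ z₀ =
      y ≫ (biprod.desc (q.adjF.unit.app (q.jls.obj NU) ≫ q.fls.map (q.bc2App NU))
        (-(q.fls.map (q.adjJp.unit.app N' ≫ q.jpls.map δ.hom)))) := by
    apply biprod.hom_ext'
    · have := q.adjF.unit.naturality (q.jls.map mU)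
      simp only [Functor.id_obj, Functor.id_map, Functor.comp_obj, Functor.comp_map] at this
      simp only [biprod.inl_desc_assoc, hy, biprod.inl_map_assoc, biprod.inl_desc, hz₀]
      rw [← Category.assoc, ← this, Category.assoc]
    · have hkey : q.fls.map (q.fst.map (q.adjJ.unit.app N)) ≫
          q.fls.map (q.fst.map (q.jls.map mU)) ≫ q.fls.map (q.bc2App NU) =
          q.fls.map m ≫ q.fls.map (q.adjJp.unit.app N' ≫ q.jpls.map δ.hom) := by
        rw [← Functor.map_comp, ← Functor.map_comp, ← Functor.map_comp, ← Category.assoc,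
          ← Functor.map_comp, hU, hE2]
      rw [biprod.inr_desc_assoc, hy, biprod.inr_map_assoc, biprod.inr_desc, hz₀,
        Preadditive.neg_comp, Preadditive.comp_neg, hkey]
  have h3 : mvP q N ≫ (z - z₀) = 0 := by
    rw [Preadditive.comp_sub, hz1, hc2, sub_self]
  obtain ⟨k, hk⟩ := Triangle.yoneda_exact₃ _ hdN (z - z₀) h3
  have h4 : z - z₀ = 0 := by
    rw [hk]; exact mvD_comp_eq_zero q hq N dN hdN k
  have hzz : z = z₀ := sub_eq_zero.mp h4
  haveI := hq.isIso_bc2App NU
  haveI : IsIso z := by rw [hzz, hz₀]; infer_instance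
  let φ : Triangle.mk (mvU q N) (mvP q N) dN ⟶ Triangle.mk a
      (biprod.desc (q.adjF.unit.app (q.jls.obj NU) ≫ q.fls.map (q.bc2App NU))
        (-(q.fls.map (q.adjJp.unit.app N' ≫ q.jpls.map δ.hom)))) d :=
    Triangle.homMk _ _ (𝟙 N) y z hc1 hz1 hz2
  have hyiso : IsIso y :=
    isIso₂_of_isIso₁₃ φ hdN hT (by change IsIso (𝟙 N); infer_instance)
      (by change IsIso z; infer_instance)
  refine ⟨biprod.inr ≫ inv y ≫ biprod.snd, ?_, ?_⟩
  · have : q.fls.map m ≫ biprod.inr = biprod.inr ≫ y := by rw [hy, biprod.inr_map]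
    rw [← Category.assoc, this, Category.assoc, IsIso.hom_inv_id_assoc, biprod.inr_snd]
  · have : biprod.snd ≫ q.fls.map m = y ≫ biprod.snd := by rw [hy, biprod.map_snd]
    rw [Category.assoc, Category.assoc, this, IsIso.inv_hom_id_assoc, biprod.inr_snd]

include hq hT in
/-- S16410 -/
theorem glue_isIso : IsIso ((q.adjJ.homEquiv N NU).symm (a ≫ biprod.fst)) ∧
      IsIso ((q.adjF.homEquiv N N').symm (a ≫ biprod.snd)) :=
  ⟨glue_isIso_fst q hq NU N' δ N a d hT,
    isIso_of_isIso_jpst_fls q hq _ (glue_isIso_jpst_snd q hq NU N' δ N a d hT)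
      (glue_isIso_fls_snd q hq NU N' δ N a d hT)⟩

end glue

end tri

end Groth.Agent.Helper8.MV
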