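import Mathlib
import Groth.Prelude.Def_W4c6modpairsegaMP

set_option autoImplicit false
universe u

namespace Groth.Agent.Helper8.MPCoprod

open CategoryTheory CategoryTheory.Limits AlgebraicGeometry TopologicalSpace ModPair

section Sch

variable {σ : Type u} (X : σ → Scheme.{u}) (I : ∀ i, (X i).IdealSheafData)

/-- The coproduct of the closed subschemes mapping to the coproduct. -/
noncomputable def c : (∐ fun i => (I i).subscheme) ⟶ ∐ X :=
  Limits.Sigma.map (fun i => (I i).subschemeι)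

lemma ι_c (i : σ) :
    Sigma.ι (fun i => (I i).subscheme) i ≫ c X I = (I i).subschemeι ≫ Sigma.ι X i := by
  simp [c]

lemma exists_sigmaι_eq (Y : σ → Scheme.{u}) (z : ↥(∐ Y)) : ∃ (j : σ) (w : Y j), Sigma.ι Y j w = z := by
  obtain ⟨j, w, h⟩ := (sigmaOpenCover Y).exists_eq z
  exact ⟨j, w, h⟩

lemma preimage_c (i : σ) :
    (c X I) ⁻¹ᵁ (Sigma.ι X i).opensRange =
      (Sigma.ι (fun i => (I i).subscheme) i).opensRange := by
  ext z
  obtain ⟨j, w, rfl⟩ := exists_sigmaι_eq (fun i => (I i).subscheme) z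
  have hcw : (c X I) (Sigma.ι (fun i => (I i).subscheme) j w) =
      Sigma.ι X j ((I j).subschemeι w) := by
    rw [← Scheme.Hom.comp_apply, ι_c, Scheme.Hom.comp_apply]
  constructor
  · rintro ⟨x, hx⟩
    have hx' : Sigma.ι X i x = Sigma.ι X j ((I j).subschemeι w) := hx.trans hcw
    have := (sigmaι_eq_iff X i j x _).mp hx'
    obtain rfl : i = j := congrArg Sigma.fst this
    exact ⟨w, rfl⟩
  · rintro ⟨w', hw'⟩
    have := (sigmaι_eq_iff (fun i => (I i).subscheme) i j w' w).mp hw'
    obtain rfl : i = j := congrArg Sigma.fst this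
    exact ⟨(I i).subschemeι w, hcw.symm⟩

lemma isPullback_c (i : σ) :
    IsPullback (I i).subschemeι (Sigma.ι (fun i => (I i).subscheme) i) (Sigma.ι X i) (c X I) :=
  IsOpenImmersion.isPullback _ _ _ _ (ι_c X I i) (preimage_c X I i)

instance quasiCompact_c : QuasiCompact (c X I) := by
  refine (IsZariskiLocalAtTarget.iff_of_openCover (P := @QuasiCompact) (sigmaOpenCover X)).mpr ?_
  intro i
  have h := (isPullback_c X I i).flip
  -- `pullbackHom` is `pullback.snd (c X I) (Sigma.ι X i)`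
  have e : (h.isoPullback).hom ≫ pullback.snd (c X I) (Sigma.ι X i) = (I i).subschemeι :=
    h.isoPullback_hom_snd
  have : QuasiCompact ((h.isoPullback).hom ≫ pullback.snd (c X I) (Sigma.ι X i)) := by
    rw [e]; infer_instance
  exact (MorphismProperty.cancel_left_of_respectsIso (P := @QuasiCompact) _ _).mp this

/-- The ideal sheaf on the coproduct. -/
noncomputable def coprodIdeal : (∐ X).IdealSheafData := (c X I).ker

lemma comap_coprodIdeal (i : σ) : (coprodIdeal X I).comap (Sigma.ι X i) = I i := by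
  ext W : 2
  rw [Scheme.IdealSheafData.ideal_comap_of_isOpenImmersion, coprodIdeal,
    ← Scheme.ker_ideal_of_isPullback_of_isOpenImmersion (c X I) (I i).subschemeι
      (Sigma.ι (fun i => (I i).subscheme) i) (Sigma.ι X i) (isPullback_c X I i) W,
    Scheme.IdealSheafData.ker_subschemeι]

lemma le_of_forall_comap_le {J K : (∐ X).IdealSheafData}
    (h : ∀ i, J.comap (Sigma.ι X i) ≤ K.comap (Sigma.ι X i)) : J ≤ K := by
  refine Scheme.IdealSheafData.le_of_iSup_eq_top
    (ι := Σ i, (X i).affineOpens)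
    (fun p => ⟨(Sigma.ι X p.1) ''ᵁ p.2.1, p.2.2.image_of_isOpenImmersion _⟩) ?_ ?_
  · rw [eq_top_iff]
    intro z _
    obtain ⟨j, w, rfl⟩ := exists_sigmaι_eq X z
    obtain ⟨_, ⟨U, hU, rfl⟩, hwU, -⟩ := (X j).isBasis_affineOpens.exists_subset_of_mem_open
      (Set.mem_univ w) isOpen_univ
    refine Opens.mem_iSup.mpr ⟨⟨j, ⟨U, hU⟩⟩, ?_⟩
    exact ⟨w, hwU, rfl⟩
  · rintro ⟨i, W⟩
    have hi := h i W
    rw [Scheme.IdealSheafData.ideal_comap_of_isOpenImmersion,
      Scheme.IdealSheafData.ideal_comap_of_isOpenImmersion] at hi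
    intro s hs
    have hbij : Function.Bijective ((Sigma.ι X i).appIso W.1).inv.hom :=
      ConcreteCategory.bijective_of_isIso ((Sigma.ι X i).appIso W.1).inv
    obtain ⟨t, rfl⟩ := hbij.2 s
    exact hi hs

end Sch

end Groth.Agent.Helper8.MPCoprod
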