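import Mathlib
import Groth.Prelude.Def_W4c6modpairsegaMP
import Groth.Agent.Helper8.MPCoprodA

set_option autoImplicit false
universe u

namespace Groth.Agent.Helper8.MPCoprod

open CategoryTheory CategoryTheory.Limits AlgebraicGeometry TopologicalSpace ModPair

section Sch

variable {σ : Type u} (X : σ → Scheme.{u}) (I : ∀ i, (X i).IdealSheafData)

lemma isEffCartier_coprodIdeal (h : ∀ i, BlowUp.IsEffCartierIdeal (I i)) :
    BlowUp.IsEffCartierIdeal (coprodIdeal X I) := by
  intro z
  obtain ⟨j, w, rfl⟩ := exists_sigmaι_eq X z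
  obtain ⟨W, hwW, f, hf, hIf⟩ := h j w
  refine ⟨⟨(Sigma.ι X j) ''ᵁ W.1, W.2.image_of_isOpenImmersion _⟩, ⟨w, hwW, rfl⟩, ?_⟩
  have hbij : Function.Bijective ((Sigma.ι X j).appIso W.1).inv.hom :=
    ConcreteCategory.bijective_of_isIso ((Sigma.ι X j).appIso W.1).inv
  refine ⟨((Sigma.ι X j).appIso W.1).inv.hom f, ?_, ?_⟩
  · rw [mem_nonZeroDivisors_iff_right]
    intro y hy
    obtain ⟨t, rfl⟩ := hbij.2 y
    rw [← map_mul, map_eq_zero_iff _ hbij.1] at hy
    rw [(mem_nonZeroDivisors_iff_right.mp hf) t hy, map_zero]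
  · have h1 : (I j).ideal W = ((coprodIdeal X I).ideal
        ⟨(Sigma.ι X j) ''ᵁ W.1, W.2.image_of_isOpenImmersion _⟩).comap
          ((Sigma.ι X j).appIso W.1).inv.hom := by
      rw [← Scheme.IdealSheafData.ideal_comap_of_isOpenImmersion, comap_coprodIdeal]
    have h2 := Ideal.map_comap_of_surjective _ hbij.2 ((coprodIdeal X I).ideal
        ⟨(Sigma.ι X j) ''ᵁ W.1, W.2.image_of_isOpenImmersion _⟩)
    exact h2.symm.trans (by rw [← h1, hIf, Ideal.map_span, Set.image_singleton])

end Sch

variable {σ : Type u} (P : σ → Pair.{u})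

/-- The coproduct pair. -/
noncomputable def coprodPair : Pair.{u} where
  total := ∐ fun i => (P i).total
  mod := coprodIdeal (fun i => (P i).total) (fun i => (P i).mod)
  isEffCartier := isEffCartier_coprodIdeal _ _ (fun i => (P i).isEffCartier)

/-- The coprojections. -/
noncomputable def inj (i : σ) : P i ⟶ coprodPair P where
  hom := Sigma.ι (fun i => (P i).total) i
  cond := le_of_eq (comap_coprodIdeal (fun i => (P i).total) (fun i => (P i).mod) i).symm

/-- The cofan. -/
noncomputable def cofan : Cofan P := Cofan.mk (coprodPair P) (inj P)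

/-- Descent morphism. -/
noncomputable def desc (s : Cofan P) : coprodPair P ⟶ s.pt where
  hom := Sigma.desc (fun i => (s.inj i).hom)
  cond := by
    show coprodIdeal (fun i => (P i).total) (fun i => (P i).mod) ≤
      (s.pt.mod).comap (Sigma.desc (fun i => (s.inj i).hom))
    apply le_of_forall_comap_le
    intro i
    have h1 : (coprodIdeal (fun i => (P i).total) (fun i => (P i).mod)).comap
        (Sigma.ι (fun i => (P i).total) i) = (P i).mod := comap_coprodIdeal _ _ i
    have h2 : (s.pt.mod.comap (Sigma.desc fun i => (s.inj i).hom)).comap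
        (Sigma.ι (fun i => (P i).total) i) = s.pt.mod.comap (s.inj i).hom := by
      rw [← Scheme.IdealSheafData.comap_comp, Sigma.ι_desc]
    exact (le_of_eq h1).trans ((s.inj i).cond.trans (le_of_eq h2.symm))

/-- The cofan is a colimit. -/
noncomputable def isColimit : IsColimit (cofan P) :=
  Cofan.IsColimit.mk _ (fun s => desc P s)
    (fun s i => by
      apply Pair.Hom.ext
      exact Sigma.ι_desc _ _)
    (fun s m hm => by
      apply Pair.Hom.ext
      apply Sigma.hom_ext
      intro i
      have := congrArg Pair.Hom.hom (hm i)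
      exact this.trans (Sigma.ι_desc (fun i => (s.inj i).hom) i).symm)

/-- The image of the cofan under `forget` is a colimit. -/
noncomputable def isColimitMap : IsColimit (Pair.forget.mapCocone (cofan P)) := by
  refine (isColimitMapCoconeCofanMkEquiv Pair.forget P (inj P)).symm ?_
  exact coproductIsCoproduct (fun i => (P i).total)

theorem main (σ : Type u) :
    HasColimitsOfShape (Discrete σ) ModPair.Pair.{u} ∧
      PreservesColimitsOfShape (Discrete σ) ModPair.Pair.forget.{u} := by
  have hcol : ∀ F : Discrete σ ⥤ Pair.{u}, HasColimit F := fun F => by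
    have : HasColimit (Discrete.functor (F.obj ∘ Discrete.mk)) := ⟨⟨⟨_, isColimit _⟩⟩⟩
    exact hasColimit_of_iso (Discrete.natIsoFunctor (F := F))
  refine ⟨⟨hcol⟩, ⟨fun {F} => ?_⟩⟩
  have : PreservesColimit (Discrete.functor (F.obj ∘ Discrete.mk)) Pair.forget.{u} :=
    preservesColimit_of_preserves_colimit_cocone (isColimit _) (isColimitMap _)
  exact preservesColimit_of_iso_diagram _ (Discrete.natIsoFunctor (F := F)).symm

end Groth.Agent.Helper8.MPCoprod
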