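import Mathlib
import Groth.Prelude.Def_HTop
import Groth.Agent.Lead.HCovFlat
import Groth.Agent.Helper2.LfpComp

set_option autoImplicit false
universe u
open CategoryTheory CategoryTheory.Limits AlgebraicGeometry Opposite

namespace Groth.Agent.Helper8.HCart

/-- a sieve on a binary coproduct of schemes containing both inclusions is an h covering sieve -/
theorem mem_hTopology_coprod {A B : Scheme.{u}} (R : Sieve (A ⨿ B))
    (hl : R (coprod.inl : A ⟶ A ⨿ B)) (hr : R (coprod.inr : B ⟶ A ⨿ B)) :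
    R ∈ HTop.hTopology (A ⨿ B) := by
  let 𝒰 : Scheme.Cover Scheme.fpqcPrecoverage (A ⨿ B) :=
    (coprodOpenCover.{_, 0} A B).weaken Scheme.zariskiPrecoverage_le_fpqcPrecoverage
  have hV : HTop.IsVCover 𝒰.toPreZeroHypercover := Groth.Agent.Lead.HCov.isVCover_of_fpqc 𝒰
  have hH : HTop.IsHCover 𝒰.toPreZeroHypercover := by
    refine ⟨?_, hV⟩
    rintro (x | x)
    · exact inferInstanceAs (LocallyOfFinitePresentation (coprod.inl : A ⟶ A ⨿ B))
    · exact inferInstanceAs (LocallyOfFinitePresentation (coprod.inr : B ⟶ A ⨿ B))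
  have hmem : 𝒰.toPreZeroHypercover.presieve₀ ∈ HTop.hPrecoverage (A ⨿ B) :=
    (HTop.presieve₀_mem_hPrecoverage_iff _).mpr hH
  refine HTop.hTopology.superset_covering ?_ (Precoverage.generate_mem_toGrothendieck hmem)
  rw [Sieve.generate_le_iff]
  rintro Z g ⟨x⟩
  rcases x with x | x
  · exact hl
  · exact hr

/-- two closed immersions of finite presentation that are jointly surjective: any sieve containing
both is an h covering sieve -/
theorem mem_hTopology_of_closed_pair {T A B : Scheme.{u}} (a : A ⟶ T) (b : B ⟶ T)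
    [IsClosedImmersion a] [IsClosedImmersion b] [LocallyOfFinitePresentation a]
    [LocallyOfFinitePresentation b]
    (hsurj : ∀ t : T, t ∈ Set.range a.base ∨ t ∈ Set.range b.base) (Q : Sieve T)
    (ha : Q a) (hb : Q b) : Q ∈ HTop.hTopology T := by
  haveI : IsFinite (coprod.desc a b) := inferInstance
  haveI : LocallyOfFinitePresentation (coprod.desc a b) := by
    rw [IsZariskiLocalAtSource.iff_of_openCover (P := @LocallyOfFinitePresentation)
      (coprodOpenCover.{_, 0} A B)]
    rintro (x | x)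
    · show LocallyOfFinitePresentation (coprod.inl ≫ coprod.desc a b)
      rw [coprod.inl_desc]; infer_instance
    · show LocallyOfFinitePresentation (coprod.inr ≫ coprod.desc a b)
      rw [coprod.inr_desc]; infer_instance
  haveI : Surjective (coprod.desc a b) := ⟨fun t => by
    rcases hsurj t with ⟨x, rfl⟩ | ⟨y, rfl⟩
    · refine ⟨(coprod.inl : A ⟶ A ⨿ B) x, ?_⟩
      rw [← Scheme.Hom.comp_apply, coprod.inl_desc]
    · refine ⟨(coprod.inr : B ⟶ A ⨿ B) y, ?_⟩
      rw [← Scheme.Hom.comp_apply, coprod.inr_desc]⟩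
  have hc : Sieve.generate (Presieve.singleton (coprod.desc a b)) ∈ HTop.hTopology T := by
    apply Precoverage.generate_mem_toGrothendieck
    have h := (HTop.presieve₀_mem_hPrecoverage_iff
      (PreZeroHypercover.singleton.{0} (coprod.desc a b))).mpr
      (Groth.Agent.Lead.HCov.isHCover_singleton (coprod.desc a b))
    rw [PreZeroHypercover.presieve₀_singleton] at h
    exact h
  refine HTop.hTopology.transitive hc Q ?_
  rintro Y g ⟨W, h, k, ⟨⟩, rfl⟩
  rw [Sieve.pullback_comp]
  apply HTop.hTopology.pullback_stable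
  apply mem_hTopology_coprod
  · show Q (coprod.inl ≫ coprod.desc a b)
    rw [coprod.inl_desc]; exact ha
  · show Q (coprod.inr ≫ coprod.desc a b)
    rw [coprod.inr_desc]; exact hb

/-- an h sheaf is separated for a jointly surjective pair of closed immersions of finite
presentation -/
theorem eq_of_closed_pair (S : Scheme.{u}) (F : HTop.ShH S) {T A B : Over S} (a : A ⟶ T)
    (b : B ⟶ T) [IsClosedImmersion a.left] [IsClosedImmersion b.left]
    [LocallyOfFinitePresentation a.left] [LocallyOfFinitePresentation b.left]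
    (hsurj : ∀ t : T.left, t ∈ Set.range a.left.base ∨ t ∈ Set.range b.left.base)
    (x y : F.obj.obj (op T)) (ha : F.obj.map a.op x = F.obj.map a.op y)
    (hb : F.obj.map b.op x = F.obj.map b.op y) : x = y := by
  have hF : Presieve.IsSheaf (HTop.Jh S) F.obj := (isSheaf_iff_isSheaf_of_type _ _).mp F.cond
  let R : Sieve T :=
    { arrows := fun V g => F.obj.map g.op x = F.obj.map g.op y
      downward_closed := by
        intro V W g hg h
        show F.obj.map (h ≫ g).op x = F.obj.map (h ≫ g).op y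
        rw [op_comp, FunctorToTypes.map_comp_apply, FunctorToTypes.map_comp_apply]
        exact congrArg (F.obj.map h.op) hg }
  have hR : R ∈ HTop.Jh S T := by
    rw [GrothendieckTopology.mem_over_iff]
    apply mem_hTopology_of_closed_pair a.left b.left hsurj
    · have h1 : (Sieve.overEquiv T).symm (Sieve.overEquiv T R) a := by
        rw [OrderIso.symm_apply_apply]; exact ha
      exact (Sieve.overEquiv_symm_iff _ _).mp h1
    · have h1 : (Sieve.overEquiv T).symm (Sieve.overEquiv T R) b := by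
        rw [OrderIso.symm_apply_apply]; exact hb
      exact (Sieve.overEquiv_symm_iff _ _).mp h1
  exact (hF.isSeparated _ hR).ext (fun V g hg => hg)

theorem isSheafFor_singleton_of_proper (S : Scheme.{u}) (F : HTop.ShH S) {X Y : Over S}
    (f : X ⟶ Y) [IsProper f.left] [Surjective f.left] [LocallyOfFinitePresentation f.left] :
    Presieve.IsSheafFor F.obj (Presieve.singleton f) := by
  have hF : Presieve.IsSheaf (HTop.Jh S) F.obj := (isSheaf_iff_isSheaf_of_type _ _).mp F.cond
  rw [Presieve.isSheafFor_iff_generate]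
  apply hF
  apply Groth.Agent.Lead.HCov.generate_singleton_mem_over
  have h := (HTop.presieve₀_mem_hPrecoverage_iff (PreZeroHypercover.singleton.{0} f.left)).mpr
    (Groth.Agent.Lead.HCov.isHCover_singleton f.left)
  rw [PreZeroHypercover.presieve₀_singleton] at h
  exact h

/-- a point of `X ×_Y X` over an open `U` of `Y` over which `f` is a monomorphism lies on the
diagonal -/
theorem mem_range_diagonal {X Y : Scheme.{u}} (f : X ⟶ Y) (U : Y.Opens) [Mono (f ∣_ U)]
    (w : ↑(pullback f f)) (hw : f (pullback.fst f f w) ∈ U) :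
    w ∈ Set.range (pullback.diagonal f).base := by
  obtain ⟨φ, hφ⟩ : ∃ φ : Spec ((pullback f f).residueField w) ⟶ pullback f f, ∀ y, φ y = w :=
    ⟨(pullback f f).fromSpecResidueField w, fun y => Scheme.fromSpecResidueField_apply w y⟩
  have hcond : (φ ≫ pullback.fst f f) ≫ f = (φ ≫ pullback.snd f f) ≫ f := by
    rw [Category.assoc, Category.assoc, pullback.condition]
  have h1 : Set.range (φ ≫ pullback.fst f f) ⊆ Set.range (f ⁻¹ᵁ U).ι := by
    rw [Scheme.Opens.range_ι]
    rintro _ ⟨y, rfl⟩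
    show f ((φ ≫ pullback.fst f f) y) ∈ U
    rw [Scheme.Hom.comp_apply, hφ]
    exact hw
  have h2 : Set.range (φ ≫ pullback.snd f f) ⊆ Set.range (f ⁻¹ᵁ U).ι := by
    rw [Scheme.Opens.range_ι]
    rintro _ ⟨y, rfl⟩
    show f ((φ ≫ pullback.snd f f) y) ∈ U
    rw [← Scheme.Hom.comp_apply, ← hcond, Scheme.Hom.comp_apply, Scheme.Hom.comp_apply, hφ]
    exact hw
  obtain ⟨q₁, hq₁⟩ : ∃ q₁, q₁ ≫ (f ⁻¹ᵁ U).ι = φ ≫ pullback.fst f f :=
    ⟨IsOpenImmersion.lift _ _ h1, IsOpenImmersion.lift_fac _ _ _⟩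
  obtain ⟨q₂, hq₂⟩ : ∃ q₂, q₂ ≫ (f ⁻¹ᵁ U).ι = φ ≫ pullback.snd f f :=
    ⟨IsOpenImmersion.lift _ _ h2, IsOpenImmersion.lift_fac _ _ _⟩
  have hq : q₁ = q₂ := by
    rw [← cancel_mono (f ∣_ U), ← cancel_mono U.ι, Category.assoc, Category.assoc,
      morphismRestrict_ι, ← Category.assoc, ← Category.assoc, hq₁, hq₂]
    exact hcond
  have h12 : φ ≫ pullback.fst f f = φ ≫ pullback.snd f f := by rw [← hq₁, ← hq₂, hq]
  have hfac : φ = (φ ≫ pullback.fst f f) ≫ pullback.diagonal f := by
    apply pullback.hom_ext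
    · rw [Category.assoc, pullback.diagonal_fst, Category.comp_id]
    · rw [Category.assoc, pullback.diagonal_snd, Category.comp_id, h12]
  refine ⟨(φ ≫ pullback.fst f f) (IsLocalRing.closedPoint _), ?_⟩
  rw [← Scheme.Hom.comp_apply, ← hfac, hφ]

theorem cover_T {X Y Z T : Scheme.{u}} (f : X ⟶ Y) (i : Z ⟶ Y) (U : Y.Opens)
    (hU : (U : Set Y) = (Set.range i.base)ᶜ) [Mono (f ∣_ U)] (p₁ p₂ : T ⟶ X)
    (hp : p₁ ≫ f = p₂ ≫ f) (τ : T) :
    τ ∈ (pullback.lift p₁ p₂ hp).base ⁻¹' Set.range (pullback.diagonal f).base ∨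
      τ ∈ (p₁ ≫ f).base ⁻¹' Set.range i.base := by
  by_cases h : (p₁ ≫ f) τ ∈ Set.range i.base
  · right
    exact h
  · left
    have hτ : f (p₁ τ) ∈ U := by
      have h3 : (p₁ ≫ f) τ ∈ (U : Set Y) := by rw [hU]; exact h
      rwa [Scheme.Hom.comp_apply] at h3
    refine mem_range_diagonal f U (pullback.lift p₁ p₂ hp τ) ?_
    have h4 : (pullback.lift p₁ p₂ hp ≫ pullback.fst f f) τ = p₁ τ := by rw [pullback.lift_fst]
    rw [Scheme.Hom.comp_apply] at h4
    rw [h4]
    exact hτ

theorem lemmaD (S : Scheme.{u}) (F : HTop.ShH S) {E Z X : Over S} (e : E ⟶ X) (π : E ⟶ Z)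
    (t : F.obj.obj (op Z)) (s' : F.obj.obj (op X)) (hts : F.obj.map π.op t = F.obj.map e.op s')
    {T T₁ T₂ : Over S} (a : T₁ ⟶ T) (b : T₂ ⟶ T)
    (ha1 : IsClosedImmersion a.left) (hb1 : IsClosedImmersion b.left)
    (ha2 : LocallyOfFinitePresentation a.left) (hb2 : LocallyOfFinitePresentation b.left)
    (hsurj : ∀ τ : T.left, τ ∈ Set.range a.left.base ∨ τ ∈ Set.range b.left.base)
    (p₁ p₂ : T ⟶ X) (hap : a ≫ p₁ = a ≫ p₂)
    (q₁ q₂ : T₂ ⟶ E) (r : T₂ ⟶ Z)
    (h1e : q₁ ≫ e = b ≫ p₁) (h2e : q₂ ≫ e = b ≫ p₂) (h1π : q₁ ≫ π = r) (h2π : q₂ ≫ π = r) :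
    F.obj.map p₁.op s' = F.obj.map p₂.op s' := by
  apply eq_of_closed_pair S F a b hsurj
  · rw [← FunctorToTypes.map_comp_apply, ← FunctorToTypes.map_comp_apply, ← op_comp, ← op_comp,
      hap]
  · have key : ∀ (p : T ⟶ X) (q : T₂ ⟶ E), q ≫ e = b ≫ p → q ≫ π = r →
        F.obj.map b.op (F.obj.map p.op s') = F.obj.map r.op t := by
      intro p q he hπ
      rw [← FunctorToTypes.map_comp_apply, ← op_comp, ← he, op_comp,
        FunctorToTypes.map_comp_apply, ← hts, ← FunctorToTypes.map_comp_apply, ← op_comp, hπ]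
    rw [key p₁ q₁ h1e h1π, key p₂ q₂ h2e h2π]

theorem exists_T₂ {S : Scheme.{u}} {E Z X Y : Over S} (e : E ⟶ X) (π : E ⟶ Z) (f : X ⟶ Y)
    (i : Z ⟶ Y) [IsClosedImmersion i.left] [LocallyOfFinitePresentation i.left]
    (hsq : IsPullback e.left π.left f.left i.left) {T : Over S} (p₁ p₂ : T ⟶ X)
    (hp : p₁ ≫ f = p₂ ≫ f) :
    ∃ (T₂ : Over S) (b : T₂ ⟶ T) (q₁ q₂ : T₂ ⟶ E) (r : T₂ ⟶ Z),
      IsClosedImmersion b.left ∧ LocallyOfFinitePresentation b.left ∧
      Set.range b.left.base = (p₁.left ≫ f.left).base ⁻¹' Set.range i.left.base ∧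
      q₁ ≫ e = b ≫ p₁ ∧ q₂ ≫ e = b ≫ p₂ ∧ q₁ ≫ π = r ∧ q₂ ≫ π = r := by
  have hpl : p₁.left ≫ f.left = p₂.left ≫ f.left := by
    rw [← Over.comp_left, ← Over.comp_left, hp]
  have hc1 : (pullback.fst (p₁.left ≫ f.left) i.left ≫ p₁.left) ≫ f.left =
      pullback.snd (p₁.left ≫ f.left) i.left ≫ i.left := by
    rw [Category.assoc]; exact pullback.condition
  have hc2 : (pullback.fst (p₁.left ≫ f.left) i.left ≫ p₂.left) ≫ f.left =
      pullback.snd (p₁.left ≫ f.left) i.left ≫ i.left := by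
    rw [Category.assoc, ← hpl]; exact pullback.condition
  have hr : pullback.snd (p₁.left ≫ f.left) i.left ≫ Z.hom =
      pullback.fst (p₁.left ≫ f.left) i.left ≫ T.hom := by
    rw [← Over.w i, ← Category.assoc, ← hc1, Category.assoc, Category.assoc, Over.w f, Over.w p₁]
  refine ⟨Over.mk (pullback.fst (p₁.left ≫ f.left) i.left ≫ T.hom),
    Over.homMk (pullback.fst (p₁.left ≫ f.left) i.left) rfl,
    Over.homMk (hsq.lift _ _ hc1) ?_, Over.homMk (hsq.lift _ _ hc2) ?_,
    Over.homMk (pullback.snd (p₁.left ≫ f.left) i.left) hr, ?_, ?_, ?_, ?_, ?_, ?_, ?_⟩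
  · show hsq.lift _ _ hc1 ≫ E.hom = pullback.fst (p₁.left ≫ f.left) i.left ≫ T.hom
    rw [← Over.w e, ← Category.assoc, hsq.lift_fst, Category.assoc, Over.w p₁]
  · show hsq.lift _ _ hc2 ≫ E.hom = pullback.fst (p₁.left ≫ f.left) i.left ≫ T.hom
    rw [← Over.w e, ← Category.assoc, hsq.lift_fst, Category.assoc, Over.w p₂]
  · show IsClosedImmersion (pullback.fst (p₁.left ≫ f.left) i.left)
    infer_instance
  · show LocallyOfFinitePresentation (pullback.fst (p₁.left ≫ f.left) i.left)
    infer_instance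
  · exact Scheme.Pullback.range_fst (p₁.left ≫ f.left) i.left
  · apply Over.OverMorphism.ext
    show hsq.lift _ _ hc1 ≫ e.left = pullback.fst (p₁.left ≫ f.left) i.left ≫ p₁.left
    exact hsq.lift_fst _ _ _
  · apply Over.OverMorphism.ext
    show hsq.lift _ _ hc2 ≫ e.left = pullback.fst (p₁.left ≫ f.left) i.left ≫ p₂.left
    exact hsq.lift_fst _ _ _
  · apply Over.OverMorphism.ext
    show hsq.lift _ _ hc1 ≫ π.left = pullback.snd (p₁.left ≫ f.left) i.left
    exact hsq.lift_snd _ _ _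
  · apply Over.OverMorphism.ext
    show hsq.lift _ _ hc2 ≫ π.left = pullback.snd (p₁.left ≫ f.left) i.left
    exact hsq.lift_snd _ _ _

theorem exists_T₁ {S : Scheme.{u}} {X Y : Over S} (f : X ⟶ Y)
    [IsSeparated f.left] [LocallyOfFinitePresentation f.left] {T : Over S} (p₁ p₂ : T ⟶ X)
    (hpl : p₁.left ≫ f.left = p₂.left ≫ f.left) :
    ∃ (T₁ : Over S) (a : T₁ ⟶ T),
      IsClosedImmersion a.left ∧ LocallyOfFinitePresentation a.left ∧
      Set.range a.left.base = (pullback.lift p₁.left p₂.left hpl).base ⁻¹'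
        Set.range (pullback.diagonal f.left).base ∧
      a ≫ p₁ = a ≫ p₂ := by
  haveI : LocallyOfFinitePresentation (pullback.diagonal f.left) :=
    Groth.Agent.Helper2.LfpComp.locallyOfFinitePresentation_of_comp (pullback.diagonal f.left)
      (pullback.fst f.left f.left) (by rw [pullback.diagonal_fst]; infer_instance) inferInstance
  have hcond := pullback.condition (f := pullback.lift p₁.left p₂.left hpl)
    (g := pullback.diagonal f.left)
  have hd1 : pullback.fst (pullback.lift p₁.left p₂.left hpl) (pullback.diagonal f.left) ≫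
      p₁.left = pullback.snd _ _ := by
    have h := congrArg (fun m => m ≫ pullback.fst f.left f.left) hcond
    simp only [Category.assoc, pullback.diagonal_fst, Category.comp_id] at h
    rw [pullback.lift_fst] at h
    exact h
  have hd2 : pullback.fst (pullback.lift p₁.left p₂.left hpl) (pullback.diagonal f.left) ≫
      p₂.left = pullback.snd _ _ := by
    have h := congrArg (fun m => m ≫ pullback.snd f.left f.left) hcond
    simp only [Category.assoc, pullback.diagonal_snd, Category.comp_id] at h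
    rw [pullback.lift_snd] at h
    exact h
  refine ⟨Over.mk (pullback.fst (pullback.lift p₁.left p₂.left hpl)
      (pullback.diagonal f.left) ≫ T.hom),
    Over.homMk (pullback.fst (pullback.lift p₁.left p₂.left hpl) (pullback.diagonal f.left)) rfl,
    ?_, ?_, ?_, ?_⟩
  · show IsClosedImmersion (pullback.fst (pullback.lift p₁.left p₂.left hpl)
      (pullback.diagonal f.left))
    infer_instance
  · show LocallyOfFinitePresentation (pullback.fst (pullback.lift p₁.left p₂.left hpl)
      (pullback.diagonal f.left))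
    infer_instance
  · exact Scheme.Pullback.range_fst _ _
  · apply Over.OverMorphism.ext
    show pullback.fst (pullback.lift p₁.left p₂.left hpl) (pullback.diagonal f.left) ≫ p₁.left =
      pullback.fst (pullback.lift p₁.left p₂.left hpl) (pullback.diagonal f.left) ≫ p₂.left
    rw [hd1, hd2]

theorem compat (S : Scheme.{u}) (F : HTop.ShH S)
    {E Z X Y : Over S} (e : E ⟶ X) (π : E ⟶ Z) (f : X ⟶ Y) (i : Z ⟶ Y)
    [IsSeparated f.left] [LocallyOfFinitePresentation f.left]
    [IsClosedImmersion i.left] [LocallyOfFinitePresentation i.left]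
    (hsq : IsPullback e.left π.left f.left i.left)
    (U : Y.left.Opens) (hU : (U : Set Y.left) = (Set.range i.left.base)ᶜ) [Mono (f.left ∣_ U)]
    (t : F.obj.obj (op Z)) (s' : F.obj.obj (op X)) (hts : F.obj.map π.op t = F.obj.map e.op s')
    {T : Over S} (p₁ p₂ : T ⟶ X) (hp : p₁ ≫ f = p₂ ≫ f) :
    F.obj.map p₁.op s' = F.obj.map p₂.op s' := by
  have hpl : p₁.left ≫ f.left = p₂.left ≫ f.left := by
    rw [← Over.comp_left, ← Over.comp_left, hp]
  obtain ⟨T₂, b, q₁, q₂, r, hb1, hb2, hbr, h1e, h2e, h1π, h2π⟩ := exists_T₂ e π f i hsq p₁ p₂ hp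
  obtain ⟨T₁, a, ha1, ha2, har, hap⟩ := exists_T₁ f p₁ p₂ hpl
  refine lemmaD S F e π t s' hts a b ha1 hb1 ha2 hb2 ?_ p₁ p₂ hap q₁ q₂ r h1e h2e h1π h2π
  intro τ
  rw [har, hbr]
  exact cover_T f.left i.left U hU p₁.left p₂.left hpl τ

theorem main (S : Scheme.{u}) (F : HTop.ShH S)
    {E Z X Y : Over S} (e : E ⟶ X) (π : E ⟶ Z) (f : X ⟶ Y) (i : Z ⟶ Y)
    [IsProper f.left] [Surjective f.left] [LocallyOfFinitePresentation f.left]
    [IsClosedImmersion i.left] [LocallyOfFinitePresentation i.left]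
    (hsq : IsPullback e.left π.left f.left i.left)
    (U : Y.left.Opens) (hU : (U : Set Y.left) = (Set.range i.left.base)ᶜ)
    (hiso : IsIso (f.left ∣_ U))
    (t : F.obj.obj (op Z)) (s' : F.obj.obj (op X)) (hts : F.obj.map π.op t = F.obj.map e.op s') :
    ∃! s : F.obj.obj (op Y), F.obj.map i.op s = t ∧ F.obj.map f.op s = s' := by
  have hf := isSheafFor_singleton_of_proper S F f
  rw [Presieve.isSheafFor_singleton] at hf
  haveI : IsProper π.left := MorphismProperty.of_isPullback hsq ‹IsProper f.left›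
  haveI : Surjective π.left := MorphismProperty.of_isPullback hsq ‹Surjective f.left›
  haveI : LocallyOfFinitePresentation π.left :=
    MorphismProperty.of_isPullback hsq ‹LocallyOfFinitePresentation f.left›
  have hπ := (isSheafFor_singleton_of_proper S F π).isSeparatedFor
  rw [Presieve.isSeparatedFor_singleton] at hπ
  have hw : π ≫ i = e ≫ f := by
    apply Over.OverMorphism.ext
    exact hsq.w.symm
  obtain ⟨s, hs, huniq⟩ := hf s' (fun {T} p₁ p₂ hp => compat S F e π f i hsq U hU t s' hts p₁ p₂ hp)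
  refine ⟨s, ⟨?_, hs⟩, fun s₂ h₂ => huniq s₂ h₂.2⟩
  apply hπ
  rw [← FunctorToTypes.map_comp_apply, ← op_comp, hw, op_comp, FunctorToTypes.map_comp_apply, hs,
    hts]

end Groth.Agent.Helper8.HCart
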