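import Mathlib
import Groth.Prelude.Def_Fitting

/-!
# Quasi-affineness descends along a finite morphism admitting a norm
-/

set_option autoImplicit false
set_option linter.unusedSectionVars false
set_option linter.style.haveILetI false
universe u

open AlgebraicGeometry CategoryTheory Opposite TopologicalSpace

namespace Groth.Agent.Helper8.NormQAff

variable {X Y : Scheme.{u}} (π : X ⟶ Y) {d : ℕ} (N : Nrm.NormOfDegree π d)

/-- sections over a nonempty open form a nontrivial ring -/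
lemma nontrivial_of_mem {Y : Scheme.{u}} (U : Y.Opens) (y : Y) (hy : y ∈ U) :
    Nontrivial Γ(Y, U) :=
  (Y.presheaf.germ U y hy).hom.domain_nontrivial

include N in
/-- a morphism with a norm is surjective as soon as its image is closed -/
lemma surjective_of_norm (hcl : IsClosed (Set.range π)) : Function.Surjective π := by
  intro y
  by_contra hy
  let U : Y.Opens := ⟨(Set.range π)ᶜ, hcl.isOpen_compl⟩
  have hyU : y ∈ U := fun h => hy h
  have hbot : π ⁻¹ᵁ U = ⊥ := by
    ext x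
    simp only [Opens.coe_bot, Set.mem_empty_iff_false, iff_false]
    intro hx
    exact hx ⟨x, rfl⟩
  haveI : Subsingleton Γ(X, π ⁻¹ᵁ U) := by rw [hbot]; infer_instance
  haveI := nontrivial_of_mem U y hyU
  have h1 := N.norm_app U 0
  rw [zero_pow (by have := N.one_le; omega)] at h1
  have h2 : π.app U (0 : Γ(Y, U)) = 1 := Subsingleton.elim _ _
  rw [h2, map_one] at h1
  exact one_ne_zero h1

section

variable [IsFinite π]

include N in
lemma surjective : Function.Surjective π :=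
  surjective_of_norm π N π.isClosedMap.isClosed_range

include N in
/-- if `N s` does not vanish at `π x` then `s` does not vanish at `x` -/
lemma mem_basicOpen_of_norm (s : Γ(X, π ⁻¹ᵁ ⊤)) (x : X)
    (hx : π x ∈ Y.basicOpen (N.norm ⊤ s)) : x ∈ X.basicOpen s := by
  have hxt : x ∈ π ⁻¹ᵁ (⊤ : Y.Opens) := trivial
  have hyt : π x ∈ (⊤ : Y.Opens) := trivial
  rw [Scheme.mem_basicOpen X s x hxt]
  rw [Scheme.mem_basicOpen Y _ (π x) hyt] at hx
  by_contra hnu
  have := N.norm_mem ⊤ s x trivial ((IsLocalRing.mem_maximalIdeal _).2 hnu)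
  exact (IsLocalRing.mem_maximalIdeal _).1 this hx

include N in
/-- if `s` does not vanish on the fibre over `y` then `N s` does not vanish at `y` -/
lemma norm_mem_basicOpen (s : Γ(X, π ⁻¹ᵁ ⊤)) (y : Y)
    (hs : ∀ x, π x = y → x ∈ X.basicOpen s) : y ∈ Y.basicOpen (N.norm ⊤ s) := by
  have hC : IsClosed (π '' ((X.basicOpen s : Set X)ᶜ)) :=
    π.isClosedMap _ (X.basicOpen s).2.isClosed_compl
  let W : Y.Opens := ⟨(π '' ((X.basicOpen s : Set X)ᶜ))ᶜ, hC.isOpen_compl⟩
  have hyW : y ∈ W := by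
    rintro ⟨x, hx, hxy⟩
    exact hx (hs x hxy)
  have hW : π ⁻¹ᵁ W ≤ X.basicOpen s := by
    intro x hx
    by_contra hxs
    exact hx ⟨x, hxs, rfl⟩
  have hle : π ⁻¹ᵁ W ≤ π ⁻¹ᵁ ⊤ := fun _ _ => trivial
  -- the restriction of `s` to `π⁻¹W` is a unit
  have hu : IsUnit (X.presheaf.map ((Opens.map π.base).map (homOfLE (le_top : W ≤ ⊤))).op s) := by
    have h1 : IsUnit ((X.presheaf.map (homOfLE (X.basicOpen_le s)).op).hom s) :=
      X.toRingedSpace.isUnit_res_basicOpen s
    have h2 := h1.map (X.presheaf.map (homOfLE hW).op).hom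
    have e : (X.presheaf.map (homOfLE hW).op).hom
        ((X.presheaf.map (homOfLE (X.basicOpen_le s)).op).hom s) =
        (X.presheaf.map ((Opens.map π.base).map (homOfLE (le_top : W ≤ ⊤))).op).hom s := by
      show (X.presheaf.map (homOfLE (X.basicOpen_le s)).op ≫
        X.presheaf.map (homOfLE hW).op).hom s = _
      rw [← Functor.map_comp]
      rfl
    rw [e] at h2
    exact h2
  have hu2 := hu.map (N.norm W)
  rw [← N.norm_res (homOfLE (le_top : W ≤ ⊤)) s] at hu2
  have h3 := Y.basicOpen_of_isUnit hu2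
  rw [Y.basicOpen_res] at h3
  have : y ∈ W ⊓ Y.basicOpen (N.norm ⊤ s) := by rw [h3]; exact hyW
  exact this.2

/-- on a quasi-affine scheme a finite set of points inside an open has a basic open
neighbourhood inside the open -/
lemma exists_basicOpen [X.IsQuasiAffine] (O : X.Opens) (F : Set X) (hF : F.Finite) (hFO : F ⊆ O) :
    ∃ r : Γ(X, ⊤), F ⊆ X.basicOpen r ∧ X.basicOpen r ≤ O := by
  classical
  by_cases hne : F.Nonempty
  swap
  · refine ⟨0, ?_, ?_⟩
    · intro x hx; exact (hne ⟨x, hx⟩).elim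
    · rw [Scheme.basicOpen_zero]; exact bot_le
  obtain ⟨x₀, hx₀⟩ := hne
  let j := X.toSpecΓ
  let Oj : (Spec Γ(X, ⊤)).Opens := j ''ᵁ O
  let Z : Set (PrimeSpectrum Γ(X, ⊤)) := Oj.1ᶜ
  have hZ : IsClosed Z := Oj.2.isClosed_compl
  let I := PrimeSpectrum.vanishingIdeal Z
  have hZI : PrimeSpectrum.zeroLocus (I : Set Γ(X, ⊤)) = Z := by
    rw [PrimeSpectrum.zeroLocus_vanishingIdeal_eq_closure, hZ.closure_eq]
  have hnot : ¬ ((I : Set Γ(X, ⊤)) ⊆ ⋃ x ∈ (↑hF.toFinset : Set X), ((j x).asIdeal : Set Γ(X, ⊤))) := by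
    rw [Ideal.subset_union_prime x₀ x₀ (fun x _ _ _ => (j x).isPrime)]
    rintro ⟨x, hx, hIx⟩
    have hxF : x ∈ F := hF.mem_toFinset.1 hx
    have : j x ∈ Z := by
      rw [← hZI]
      exact hIx
    exact this ⟨x, hFO hxF, rfl⟩
  rw [Set.not_subset] at hnot
  obtain ⟨r, hrI, hr⟩ := hnot
  refine ⟨r, ?_, ?_⟩
  · intro x hx
    rw [← X.toSpecΓ_preimage_basicOpen r]
    show j x ∈ PrimeSpectrum.basicOpen r
    intro hmem
    apply hr
    simp only [Set.mem_iUnion]
    exact ⟨x, hF.mem_toFinset.2 hx, hmem⟩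
  · intro x hx
    rw [← X.toSpecΓ_preimage_basicOpen r] at hx
    have hx' : j x ∈ PrimeSpectrum.basicOpen r := hx
    by_contra hxO
    have hjZ : j x ∈ Z := by
      rintro ⟨x', hx'O, hxx'⟩
      have := j.isOpenEmbedding.injective hxx'
      exact hxO (this ▸ hx'O)
    rw [← hZI] at hjZ
    exact hx' (hjZ hrI)

include N in
theorem main (hX : X.IsQuasiAffine) : Y.IsQuasiAffine := by
  have hsurj := surjective π N
  haveI : CompactSpace Y := by
    rw [← isCompact_univ_iff, ← Set.range_eq_univ.2 hsurj, ← Set.image_univ]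
    exact isCompact_univ.image π.continuous
  refine Scheme.IsQuasiAffine.of_forall_exists_mem_basicOpen Y (fun y => ?_)
  obtain ⟨_, ⟨V, hV, rfl⟩, hyV, -⟩ :=
    Y.isBasis_affineOpens.exists_subset_of_mem_open (Set.mem_univ y) isOpen_univ
  obtain ⟨r, hFr, hrV⟩ := exists_basicOpen (π ⁻¹ᵁ V) (π ⁻¹' {y}) (π.finite_preimage_singleton y)
    (by rintro x (hx : π x = y); show π x ∈ V; rw [hx]; exact hyV)
  let s : Γ(X, π ⁻¹ᵁ ⊤) := r
  have hs : X.basicOpen s = X.basicOpen r := rfl
  let t : Γ(Y, ⊤) := N.norm ⊤ s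
  have hA : Y.basicOpen t ≤ V := by
    intro y' hy'
    obtain ⟨x', rfl⟩ := hsurj y'
    have := mem_basicOpen_of_norm π N s x' hy'
    exact hrV (hs ▸ this)
  have hB : y ∈ Y.basicOpen t :=
    norm_mem_basicOpen π N s y (fun x hx => hs ▸ hFr hx)
  refine ⟨t, ?_, hB⟩
  have h1 : Y.basicOpen (Y.presheaf.map (homOfLE (le_top : V ≤ ⊤)).op t) = Y.basicOpen t := by
    rw [Y.basicOpen_res]
    exact inf_eq_right.2 hA
  rw [← h1]
  exact hV.basicOpen _

end

end Groth.Agent.Helper8.NormQAff
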