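import Mathlib

/-!
# Algebra for the norm of a finite free algebra (localization, divisibility, spreading out bases)
-/

set_option autoImplicit false
set_option linter.unusedSectionVars false
set_option linter.style.haveILetI false
universe u

open Module Polynomial

namespace Groth.Agent.Helper8.NormFreeAlg

/-- Cayley–Hamilton: `b` divides the image of its norm. -/
lemma norm_dvd {A B : Type*} [CommRing A] [CommRing B] [Algebra A B] [Module.Free A B]
    [Module.Finite A B] (b : B) : ∃ c : B, algebraMap A B (Algebra.norm A b) = b * c := by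
  set χ := (Algebra.lmul A B b).charpoly with hχ
  have h0 : aeval b χ = 0 := Algebra.aeval_self_charpoly_lmul b
  have hdec : χ = divX χ * X + C (χ.coeff 0) := (divX_mul_X_add χ).symm
  have h1 : aeval b (divX χ) * b + algebraMap A B (χ.coeff 0) = 0 := by
    have := h0
    rw [hdec] at this
    simpa [aeval_C] using this
  have hn : Algebra.norm A b = (-1) ^ Module.finrank A B * χ.coeff 0 := by
    rw [Algebra.norm_apply, LinearMap.det_eq_sign_charpoly_coeff]
  refine ⟨(-1) ^ Module.finrank A B * (-(aeval b (divX χ))), ?_⟩
  have h2 : algebraMap A B (χ.coeff 0) = -(aeval b (divX χ) * b) := eq_neg_of_add_eq_zero_right h1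
  rw [hn, map_mul, map_pow, map_neg, map_one, h2]
  ring

section loc

variable {A B A' B' : Type*} [CommRing A] [CommRing B] [Algebra A B] [CommRing A'] [CommRing B']
  [Algebra A' B'] (φ : A →+* A') (ψ : B →+* B')
  (hcomm : ψ.comp (algebraMap A B) = (algebraMap A' B').comp φ) (r : A)
  (hφ : @IsLocalization.Away A _ r A' _ φ.toAlgebra)
  (hψ : @IsLocalization.Away B _ (algebraMap A B r) B' _ ψ.toAlgebra)

include hcomm hφ hψ in
lemma norm_loc [Module.Free A B] [Module.Finite A B] (s : B) :
    Algebra.norm A' (ψ s) = φ (Algebra.norm A s) := by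
  letI := φ.toAlgebra
  letI := ψ.toAlgebra
  letI : Algebra A B' := (ψ.comp (algebraMap A B)).toAlgebra
  haveI : IsScalarTower A B B' := .of_algebraMap_eq (fun _ => rfl)
  haveI : IsScalarTower A A' B' := .of_algebraMap_eq (fun x => congr($hcomm x))
  haveI : IsLocalization (Submonoid.powers r) A' := hφ
  haveI : IsLocalization (Algebra.algebraMapSubmonoid B (Submonoid.powers r)) B' := by
    rw [Algebra.algebraMapSubmonoid_powers]; exact hψ
  exact Algebra.norm_localization A (Submonoid.powers r) s

include hcomm hφ hψ in
lemma basis_loc {ι : Type*} (b : Basis ι A B) : Nonempty (Basis ι A' B') := by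
  letI := φ.toAlgebra
  letI := ψ.toAlgebra
  letI : Algebra A B' := (ψ.comp (algebraMap A B)).toAlgebra
  haveI : IsScalarTower A B B' := .of_algebraMap_eq (fun _ => rfl)
  haveI : IsScalarTower A A' B' := .of_algebraMap_eq (fun x => congr($hcomm x))
  haveI : IsLocalization (Submonoid.powers r) A' := hφ
  haveI : IsLocalization (Algebra.algebraMapSubmonoid B (Submonoid.powers r)) B' := by
    rw [Algebra.algebraMapSubmonoid_powers]; exact hψ
  exact ⟨b.localizationLocalization A' (Submonoid.powers r) B'⟩

include hcomm hφ hψ in
/-- transport a basis of the standard model of the localization to any model -/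
lemma basis_of_away {ι : Type*}
    (b : Basis ι (Localization (Submonoid.powers r)) (LocalizedModule.Away r B)) :
    Nonempty (Basis ι A' B') := by
  letI := φ.toAlgebra
  letI := ψ.toAlgebra
  letI : Algebra A B' := (ψ.comp (algebraMap A B)).toAlgebra
  haveI : IsScalarTower A B B' := .of_algebraMap_eq (fun _ => rfl)
  haveI : IsScalarTower A A' B' := .of_algebraMap_eq (fun x => congr($hcomm x))
  haveI : IsLocalization (Submonoid.powers r) A' := hφ
  haveI : IsLocalization (Algebra.algebraMapSubmonoid B (Submonoid.powers r)) B' := by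
    rw [Algebra.algebraMapSubmonoid_powers]; exact hψ
  haveI : IsLocalizedModule (Submonoid.powers r) (IsScalarTower.toAlgHom A B B').toLinearMap :=
    (isLocalizedModule_iff_isLocalization).mpr inferInstance
  let L := Localization (Submonoid.powers r)
  let LM := LocalizedModule.Away r B
  let σ : L ≃ₐ[A] A' := IsLocalization.algEquiv (Submonoid.powers r) L A'
  letI : Module A' LM := Module.compHom LM (σ.symm : A' →+* L)
  have hsm : ∀ (c : A') (x : LM), c • x = σ.symm c • x := fun _ _ => rfl
  haveI : IsScalarTower A A' LM := ⟨fun a a' x => by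
    rw [hsm, hsm, map_smul, smul_assoc]⟩
  let b1 : Basis ι A' LM := b.mapCoeffs σ.toRingEquiv (fun c x => by
    rw [hsm]; congr 1; exact σ.symm_apply_apply c)
  let e : LM ≃ₗ[A] B' := IsLocalizedModule.iso (Submonoid.powers r)
    (IsScalarTower.toAlgHom A B B').toLinearMap
  let e' : LM ≃ₗ[A'] B' := e.extendScalarsOfIsLocalization (Submonoid.powers r) A'
  exact ⟨b1.map e'⟩

end loc

/-- spreading out a basis at a prime to a basic open neighbourhood -/
lemma exists_basis_away {A B : Type u} [CommRing A] [CommRing B] [Algebra A B] [Module.Finite A B]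
    [Module.Flat A B] [Module.FinitePresentation A B] (p : PrimeSpectrum A) (d : ℕ)
    (hd : Module.rankAtStalk (R := A) B p = d) :
    ∃ r : A, r ∉ p.asIdeal ∧
      Nonempty (Basis (Fin d) (Localization (Submonoid.powers r)) (LocalizedModule.Away r B)) := by
  let Rp := Localization.AtPrime p.asIdeal
  let Mp := LocalizedModule p.asIdeal.primeCompl B
  haveI : Module.Free Rp Mp := Module.free_of_flat_of_isLocalRing
  have hfr : Module.finrank Rp Mp = d := hd
  let b : Basis (Fin d) Rp Mp := Module.finBasisOfFinrankEq Rp Mp hfr
  obtain ⟨r, hr, b', -⟩ := Module.FinitePresentation.exists_basis_localizedModule_powers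
    p.asIdeal.primeCompl (LocalizedModule.mkLinearMap p.asIdeal.primeCompl B) Rp b
  exact ⟨r, hr, ⟨b'⟩⟩

end Groth.Agent.Helper8.NormFreeAlg
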