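import Mathlib
import Groth.Prelude.Def_Fitting

/-!
# Gluing a norm of degree `d` from its values on a basis of opens of the target
-/

set_option autoImplicit false
set_option linter.unusedSectionVars false
set_option linter.style.haveILetI false
universe u

open AlgebraicGeometry CategoryTheory Opposite TopologicalSpace

namespace Groth.Agent.Helper8.NormGlue

variable {X Y : Scheme.{u}} (π : X ⟶ Y)

/-- restriction of functions on `Y` -/
noncomputable abbrev rY {U V : Y.Opens} (h : V ≤ U) : Γ(Y, U) →+* Γ(Y, V) :=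
  (Y.presheaf.map (homOfLE h).op).hom

/-- restriction of functions on `X` between preimages -/
noncomputable abbrev rX {U V : Y.Opens} (h : V ≤ U) : Γ(X, π ⁻¹ᵁ U) →+* Γ(X, π ⁻¹ᵁ V) :=
  (X.presheaf.map ((Opens.map π.base).map (homOfLE h)).op).hom

lemma rY_rY {U V W : Y.Opens} (h : V ≤ U) (h' : W ≤ V) (t : Γ(Y, U)) :
    rY h' (rY h t) = rY (h'.trans h) t := by
  show (Y.presheaf.map (homOfLE h).op ≫ Y.presheaf.map (homOfLE h').op).hom t = _
  rw [← Functor.map_comp]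
  rfl

lemma rX_rX {U V W : Y.Opens} (h : V ≤ U) (h' : W ≤ V) (s : Γ(X, π ⁻¹ᵁ U)) :
    rX π h' (rX π h s) = rX π (h'.trans h) s := by
  show (X.presheaf.map ((Opens.map π.base).map (homOfLE h)).op ≫
    X.presheaf.map ((Opens.map π.base).map (homOfLE h')).op).hom s = _
  rw [← Functor.map_comp]
  rfl

lemma rY_self {U : Y.Opens} (t : Γ(Y, U)) : rY (le_refl U) t = t := by
  show (Y.presheaf.map (𝟙 (op U))).hom t = t
  rw [Y.presheaf.map_id]
  rfl

lemma app_rY {U V : Y.Opens} (h : V ≤ U) (g : Γ(Y, U)) :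
    (π.app V).hom (rY h g) = rX π h ((π.app U).hom g) :=
  congr($(π.naturality (homOfLE h).op).hom g)

/-- norm data on a family `𝓑` of opens of `Y` -/
structure BasisNorm (𝓑 : Set Y.Opens) (d : ℕ) where
  n : ∀ V : 𝓑, Γ(X, π ⁻¹ᵁ V.1) →* Γ(Y, V.1)
  res : ∀ (V W : 𝓑) (h : W.1 ≤ V.1) (s : Γ(X, π ⁻¹ᵁ V.1)),
    rY h (n V s) = n W (rX π h s)
  app : ∀ (V : 𝓑) (g : Γ(Y, V.1)), n V ((π.app V.1).hom g) = g ^ d
  mem : ∀ (V : 𝓑) (s : Γ(X, π ⁻¹ᵁ V.1)) (x : X) (hx : π.base x ∈ V.1),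
    X.presheaf.germ (π ⁻¹ᵁ V.1) x hx s ∈ IsLocalRing.maximalIdeal (X.presheaf.stalk x) →
      Y.presheaf.germ V.1 (π.base x) hx (n V s) ∈
        IsLocalRing.maximalIdeal (Y.presheaf.stalk (π.base x))

variable {π} {𝓑 : Set Y.Opens} {d : ℕ} (D : BasisNorm π 𝓑 d)
  (h𝓑 : ∀ (U : Y.Opens) (y : Y), y ∈ U → ∃ V ∈ 𝓑, y ∈ V ∧ V ≤ U)

/-- the index type of basis elements inside `U` -/
abbrev Idx (𝓑 : Set Y.Opens) (U : Y.Opens) := {V : 𝓑 // V.1 ≤ U}

include h𝓑 in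
lemma cover (U : Y.Opens) : U ≤ ⨆ V : Idx 𝓑 U, V.1.1 := by
  intro y hy
  obtain ⟨V, hV, hyV, hVU⟩ := h𝓑 U y hy
  exact Opens.mem_iSup.2 ⟨⟨⟨V, hV⟩, hVU⟩, hyV⟩

include h𝓑 in
/-- two functions agreeing on all basis elements inside `U` are equal -/
lemma ext_basis (U : Y.Opens) (t t' : Γ(Y, U))
    (h : ∀ V : Idx 𝓑 U, rY V.2 t = rY V.2 t') : t = t' :=
  Y.sheaf.eq_of_locally_eq' (fun V : Idx 𝓑 U => V.1.1) U (fun V => homOfLE V.2)
    (cover h𝓑 U) t t' h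

include h𝓑 in
lemma exists_glue (U : Y.Opens) (s : Γ(X, π ⁻¹ᵁ U)) :
    ∃ t : Γ(Y, U), ∀ V : Idx 𝓑 U, rY V.2 t = D.n V.1 (rX π V.2 s) := by
  have hcompat : TopCat.Presheaf.IsCompatible Y.sheaf.1 (fun V : Idx 𝓑 U => V.1.1)
      (fun V => D.n V.1 (rX π V.2 s)) := by
    intro V V'
    refine ext_basis h𝓑 (V.1.1 ⊓ V'.1.1) _ _ (fun W => ?_)
    have hWV : W.1.1 ≤ V.1.1 := W.2.trans inf_le_left
    have hWV' : W.1.1 ≤ V'.1.1 := W.2.trans inf_le_right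
    have e1 : rY W.2 (rY (inf_le_left : V.1.1 ⊓ V'.1.1 ≤ V.1.1) (D.n V.1 (rX π V.2 s))) =
        D.n W.1 (rX π (hWV.trans V.2) s) := by
      rw [rY_rY, D.res V.1 W.1 hWV, rX_rX]
    have e2 : rY W.2 (rY (inf_le_right : V.1.1 ⊓ V'.1.1 ≤ V'.1.1) (D.n V'.1 (rX π V'.2 s))) =
        D.n W.1 (rX π (hWV'.trans V'.2) s) := by
      rw [rY_rY, D.res V'.1 W.1 hWV', rX_rX]
    exact e1.trans e2.symm
  obtain ⟨t, ht, -⟩ := Y.sheaf.existsUnique_gluing' (fun V : Idx 𝓑 U => V.1.1) U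
    (fun V => homOfLE V.2) (cover h𝓑 U) _ hcompat
  exact ⟨t, ht⟩

/-- the glued norm -/
noncomputable def glue (U : Y.Opens) (s : Γ(X, π ⁻¹ᵁ U)) : Γ(Y, U) :=
  (exists_glue D h𝓑 U s).choose

lemma glue_spec (U : Y.Opens) (s : Γ(X, π ⁻¹ᵁ U)) (V : Idx 𝓑 U) :
    rY V.2 (glue D h𝓑 U s) = D.n V.1 (rX π V.2 s) :=
  (exists_glue D h𝓑 U s).choose_spec V

lemma glue_unique (U : Y.Opens) (s : Γ(X, π ⁻¹ᵁ U)) (t : Γ(Y, U))
    (ht : ∀ V : Idx 𝓑 U, rY V.2 t = D.n V.1 (rX π V.2 s)) : t = glue D h𝓑 U s :=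
  ext_basis h𝓑 U _ _ (fun V => (ht V).trans (glue_spec D h𝓑 U s V).symm)

/-- the norm of degree `d` glued from the basis data -/
noncomputable def normOfDegree (hd : 1 ≤ d) : Nrm.NormOfDegree π d where
  one_le := hd
  norm U :=
    { toFun := glue D h𝓑 U
      map_one' := by
        symm
        refine glue_unique D h𝓑 U 1 1 (fun V => ?_)
        rw [map_one, map_one, map_one]
      map_mul' := fun s s' => by
        symm
        refine glue_unique D h𝓑 U (s * s') _ (fun V => ?_)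
        rw [map_mul, map_mul, map_mul, glue_spec, glue_spec] }
  norm_res := by
    intro U V i s
    have hVU : V ≤ U := i.le
    have hi : i = homOfLE hVU := Subsingleton.elim _ _
    subst hi
    show rY hVU (glue D h𝓑 U s) = glue D h𝓑 V (rX π hVU s)
    refine glue_unique D h𝓑 V _ _ (fun W => ?_)
    rw [rY_rY, rX_rX]
    exact glue_spec D h𝓑 U s ⟨W.1, W.2.trans hVU⟩
  norm_app := by
    intro U g
    show glue D h𝓑 U ((π.app U).hom g) = g ^ d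
    symm
    refine glue_unique D h𝓑 U _ _ (fun V => ?_)
    rw [map_pow, ← app_rY, D.app]
  norm_mem := by
    intro U s x hx hs
    obtain ⟨V, hV, hxV, hVU⟩ := h𝓑 U (π.base x) hx
    show Y.presheaf.germ U (π.base x) hx (glue D h𝓑 U s) ∈ _
    have e1 : Y.presheaf.germ U (π.base x) hx (glue D h𝓑 U s) =
        Y.presheaf.germ V (π.base x) hxV (D.n ⟨V, hV⟩ (rX π hVU s)) := by
      rw [← glue_spec D h𝓑 U s ⟨⟨V, hV⟩, hVU⟩]
      exact (Y.presheaf.germ_res_apply (homOfLE hVU) (π.base x) hxV _).symm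
    rw [e1]
    refine D.mem ⟨V, hV⟩ _ x hxV ?_
    have e2 : X.presheaf.germ (π ⁻¹ᵁ V) x hxV (rX π hVU s) =
        X.presheaf.germ (π ⁻¹ᵁ U) x hx s :=
      X.presheaf.germ_res_apply ((Opens.map π.base).map (homOfLE hVU)) x hxV s
    rw [e2]
    exact hs

end Groth.Agent.Helper8.NormGlue
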