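import Mathlib
import Groth.Prelude.Def_Fitting
import Groth.Prelude.Def_Mor2
import Groth.Agent.Helper8.NormGlue
import Groth.Agent.Helper8.NormFreeAlg

/-!
# The norm of a finite locally free morphism of constant degree
-/

set_option autoImplicit false
set_option linter.unusedSectionVars false
set_option linter.style.haveILetI false
universe u

open AlgebraicGeometry CategoryTheory Opposite TopologicalSpace Module

namespace Groth.Agent.Helper8.NormFree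

open Groth.Agent.Helper8.NormGlue

variable {X Y : Scheme.{u}} (π : X ⟶ Y)

/-- sections over the preimage as an algebra over sections on the base -/
noncomputable abbrev secAlg (V : Y.Opens) : Algebra Γ(Y, V) Γ(X, π ⁻¹ᵁ V) :=
  (π.app V).hom.toAlgebra

/-- the affine opens over which `π_* O_X` is free of rank `d` -/
def freeOpens (d : ℕ) : Set Y.Opens :=
  {V | IsAffineOpen V ∧ letI := secAlg π V; Nonempty (Basis (Fin d) Γ(Y, V) Γ(X, π ⁻¹ᵁ V))}

lemma ext_cover (W : Y.Opens) (t t' : Γ(Y, W))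
    (h : ∀ y ∈ W, ∃ (T : Y.Opens) (hT : T ≤ W), y ∈ T ∧ rY hT t = rY hT t') : t = t' := by
  choose T hT hy hres using h
  refine Y.sheaf.eq_of_locally_eq' (fun y : W => T y.1 y.2) W (fun y => homOfLE (hT y.1 y.2)) ?_
    t t' (fun y => hres y.1 y.2)
  intro y hyW
  exact Opens.mem_iSup.2 ⟨⟨y, hyW⟩, hy y hyW⟩

section loc

variable {π} {V T : Y.Opens} (hV : IsAffineOpen V) (r : Γ(Y, V)) (hT : T = Y.basicOpen r)
  (h : T ≤ V)

include hV hT in
lemma locY : @IsLocalization.Away _ _ r Γ(Y, T) _ (rY h).toAlgebra :=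
  hV.isLocalization_of_eq_basicOpen r (homOfLE h) hT

include hV hT in
lemma locX [IsAffineHom π] :
    letI := secAlg π V;
    @IsLocalization.Away _ _ (algebraMap Γ(Y, V) Γ(X, π ⁻¹ᵁ V) r) Γ(X, π ⁻¹ᵁ T) _
      (rX π h).toAlgebra :=
  (hV.preimage π).isLocalization_of_eq_basicOpen (π.app V r)
    ((Opens.map π.base).map (homOfLE h)) (by rw [hT, Scheme.preimage_basicOpen])

lemma comm_sq :
    letI := secAlg π V;
    letI := secAlg π T;
    (rX π h).comp (algebraMap Γ(Y, V) Γ(X, π ⁻¹ᵁ V)) =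
      (algebraMap Γ(Y, T) Γ(X, π ⁻¹ᵁ T)).comp (rY h) :=
  RingHom.ext fun g => (app_rY π h g).symm

include hV hT in
lemma res_basicOpen [IsAffineHom π] (d : ℕ)
    (b : letI := secAlg π V; Basis (Fin d) Γ(Y, V) Γ(X, π ⁻¹ᵁ V)) (s : Γ(X, π ⁻¹ᵁ V)) :
    letI := secAlg π V;
    letI := secAlg π T;
    rY h (Algebra.norm Γ(Y, V) s) = Algebra.norm Γ(Y, T) (rX π h s) := by
  letI := secAlg π V
  letI := secAlg π T
  haveI : Module.Free Γ(Y, V) Γ(X, π ⁻¹ᵁ V) := Module.Free.of_basis b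
  haveI : Module.Finite Γ(Y, V) Γ(X, π ⁻¹ᵁ V) := Module.Finite.of_basis b
  exact (NormFreeAlg.norm_loc (rY h) (rX π h) (comm_sq h) r (locY hV r hT h)
    (locX hV r hT h) s).symm

include hV hT h in
lemma mem_freeOpens_basicOpen [IsAffineHom π] (d : ℕ) (hVd : V ∈ freeOpens π d) :
    T ∈ freeOpens π d := by
  obtain ⟨-, ⟨b⟩⟩ := hVd
  refine ⟨by rw [hT]; exact hV.basicOpen r, ?_⟩
  letI := secAlg π V
  letI := secAlg π T
  exact NormFreeAlg.basis_loc (rY h) (rX π h) (comm_sq h) r (locY hV r hT h)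
    (locX hV r hT h) b

end loc

/-- compatibility of the norms on free affine opens with restriction -/
lemma res_free [IsAffineHom π] (d : ℕ) (V W : Y.Opens) (hV : V ∈ freeOpens π d)
    (hW : W ∈ freeOpens π d) (h : W ≤ V) (s : Γ(X, π ⁻¹ᵁ V)) :
    letI := secAlg π V;
    letI := secAlg π W;
    rY h (Algebra.norm Γ(Y, V) s) = Algebra.norm Γ(Y, W) (rX π h s) := by
  obtain ⟨hVa, ⟨bV⟩⟩ := hV
  obtain ⟨hWa, ⟨bW⟩⟩ := hW
  refine ext_cover W _ _ (fun y hy => ?_)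
  obtain ⟨f, g, e, hyf⟩ := exists_basicOpen_le_affine_inter hVa hWa y ⟨h hy, hy⟩
  have hTW : Y.basicOpen f ≤ W := e ▸ Y.basicOpen_le g
  have hTV : Y.basicOpen f ≤ V := Y.basicOpen_le f
  refine ⟨Y.basicOpen f, hTW, hyf, ?_⟩
  have e1 := res_basicOpen (π := π) hVa f rfl hTV d bV s
  have e2 := res_basicOpen (π := π) hWa g e hTW d bW (rX π h s)
  rw [rY_rY, e1, e2, rX_rX]

/-- points have free affine neighbourhoods -/
lemma exists_freeOpen [IsFinite π] [Flat π] [LocallyOfFinitePresentation π] (d : ℕ)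
    (hd : ∀ y : Y, π.finrank y = d) (U : Y.Opens) (y : Y) (hy : y ∈ U) :
    ∃ V ∈ freeOpens π d, y ∈ V ∧ V ≤ U := by
  obtain ⟨_, ⟨V₀, hV₀, rfl⟩, hyV₀, hV₀U⟩ :=
    Y.isBasis_affineOpens.exists_subset_of_mem_open hy U.2
  have hV₀' : IsAffineOpen (π ⁻¹ᵁ V₀) := hV₀.preimage π
  letI := secAlg π V₀
  have happ : π.app V₀ = π.appLE V₀ (π ⁻¹ᵁ V₀) le_rfl := π.app_eq_appLE
  have hf₁ : (π.app V₀).hom.Finite := π.finite_app V₀ hV₀
  have hf₂ : (π.app V₀).hom.Flat := happ ▸ π.flat_appLE hV₀ hV₀' le_rfl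
  have hf₃ : (π.app V₀).hom.FinitePresentation := happ ▸ π.finitePresentation_appLE hV₀ hV₀' le_rfl
  haveI : Module.Finite Γ(Y, V₀) Γ(X, π ⁻¹ᵁ V₀) := hf₁
  haveI : Module.Flat Γ(Y, V₀) Γ(X, π ⁻¹ᵁ V₀) := hf₂
  haveI : Algebra.FinitePresentation Γ(Y, V₀) Γ(X, π ⁻¹ᵁ V₀) := hf₃
  haveI : Module.FinitePresentation Γ(Y, V₀) Γ(X, π ⁻¹ᵁ V₀) :=
    Module.FinitePresentation.of_finite_of_finitePresentation _ _
  let p := hV₀.primeIdealOf ⟨y, hyV₀⟩
  have hp : hV₀.fromSpec p = y := hV₀.fromSpec_primeIdealOf ⟨y, hyV₀⟩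
  -- the rank at `p`
  have hpb : IsPullback hV₀'.fromSpec (Spec.map (π.app V₀)) π hV₀.fromSpec := by
    refine (IsOpenImmersion.isPullback (Spec.map (π.app V₀)) hV₀'.fromSpec hV₀.fromSpec π ?_
      ?_).flip
    · rw [happ, IsAffineOpen.SpecMap_appLE_fromSpec]
    · rw [hV₀.opensRange_fromSpec, hV₀'.opensRange_fromSpec]
  have hrk : Module.rankAtStalk (R := Γ(Y, V₀)) Γ(X, π ⁻¹ᵁ V₀) p = d := by
    have h1 := Scheme.Hom.finrank_of_isPullback _ _ _ _ hpb p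
    rw [hp, hd, Scheme.Hom.finrank_SpecMap_eq_finrank hf₁ hf₂] at h1
    exact h1
  obtain ⟨r, hr, ⟨b'⟩⟩ := NormFreeAlg.exists_basis_away p d hrk
  have hTV : Y.basicOpen r ≤ V₀ := Y.basicOpen_le r
  refine ⟨Y.basicOpen r, ⟨hV₀.basicOpen r, ?_⟩, ?_, hTV.trans hV₀U⟩
  · letI := secAlg π (Y.basicOpen r)
    exact NormFreeAlg.basis_of_away (rY hTV) (rX π hTV) (comm_sq hTV) r (locY hV₀ r rfl hTV)
      (locX hV₀ r rfl hTV) b'
  · have : p ∈ hV₀.fromSpec ⁻¹ᵁ Y.basicOpen r := by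
      rw [hV₀.fromSpec_preimage_basicOpen]
      exact hr
    rw [← hp]
    exact this

/-- the norm data on the free affine opens -/
noncomputable def basisNorm [IsAffineHom π] (d : ℕ) : BasisNorm π (freeOpens π d) d where
  n V := letI := secAlg π V.1; Algebra.norm Γ(Y, V.1)
  res V W h s := res_free π d V.1 W.1 V.2 W.2 h s
  app V g := by
    letI := secAlg π V.1
    obtain ⟨-, ⟨b⟩⟩ := V.2
    have := Algebra.norm_algebraMap_of_basis b g
    rw [Fintype.card_fin] at this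
    exact this
  mem V s x hx hs := by
    letI := secAlg π V.1
    obtain ⟨-, ⟨b⟩⟩ := V.2
    haveI : Module.Free Γ(Y, V.1) Γ(X, π ⁻¹ᵁ V.1) := Module.Free.of_basis b
    haveI : Module.Finite Γ(Y, V.1) Γ(X, π ⁻¹ᵁ V.1) := Module.Finite.of_basis b
    obtain ⟨c, hc⟩ := NormFreeAlg.norm_dvd (A := Γ(Y, V.1)) s
    by_contra hn
    have hu : IsUnit (Y.presheaf.germ V.1 (π.base x) hx (Algebra.norm Γ(Y, V.1) s)) := by
      by_contra hnu
      exact hn ((IsLocalRing.mem_maximalIdeal _).2 hnu)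
    have hu2 : IsUnit ((π.stalkMap x).hom
        (Y.presheaf.germ V.1 (π.base x) hx (Algebra.norm Γ(Y, V.1) s))) := hu.map _
    have e1 : (π.stalkMap x).hom (Y.presheaf.germ V.1 (π.base x) hx (Algebra.norm Γ(Y, V.1) s)) =
        X.presheaf.germ (π ⁻¹ᵁ V.1) x hx ((π.app V.1).hom (Algebra.norm Γ(Y, V.1) s)) :=
      Scheme.Hom.germ_stalkMap_apply π V.1 x hx _
    have e2 : (π.app V.1).hom (Algebra.norm Γ(Y, V.1) s) = s * c := hc
    rw [e1, e2, map_mul] at hu2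
    exact (IsLocalRing.mem_maximalIdeal _).1 hs (isUnit_of_mul_isUnit_left hu2)

theorem main (d : ℕ) (hd : 1 ≤ d) (hπ : Mor2.IsFinLocFreeOfDeg d π) : Nrm.HasNorm π d := by
  obtain ⟨⟨h1, h2, h3⟩, hrk⟩ := hπ
  exact ⟨normOfDegree (basisNorm π d) (exists_freeOpen π d hrk) hd⟩

end Groth.Agent.Helper8.NormFree
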