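import Mathlib

/-!
# The field norm on an integral extension of an integrally closed domain
-/

set_option autoImplicit false
set_option linter.unusedSectionVars false
set_option linter.style.haveILetI false
universe u

open Module Polynomial IntermediateField

namespace Groth.Agent.Helper8.NormNormalAlg

lemma norm_eq_coeff_pow {K L : Type*} [Field K] [Field L] [Algebra K L] (x : L)
    (hx : IsIntegral K x) :
    Algebra.norm K x =
      ((-1) ^ (minpoly K x).natDegree * (minpoly K x).coeff 0) ^ finrank K⟮x⟯ L := by
  rw [Algebra.norm_eq_norm_adjoin K x]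
  congr 1
  have := Algebra.PowerBasis.norm_gen_eq_coeff_zero_minpoly (adjoin.powerBasis hx)
  rw [adjoin.powerBasis_gen hx, IntermediateField.minpoly_gen, adjoin.powerBasis_dim] at this
  exact this

section

variable {A B K L : Type*} [CommRing A] [IsDomain A] [IsIntegrallyClosed A] [CommRing B]
  [IsDomain B] [Field K] [Field L] [Algebra K L] [FiniteDimensional K L]
  (f : A →+* B) (i : A →+* K) (j : B →+* L) (comm : j.comp f = (algebraMap K L).comp i)
  (hi : @IsFractionRing A _ K _ i.toAlgebra) (hf : f.IsIntegral)

include comm hi hf in
/-- the norm of an integral element lies in `A` and is divisible by the element -/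
theorem key (b : B) : ∃ (a : A) (c : B), i a = Algebra.norm K (j b) ∧ f a = b * c := by
  letI := f.toAlgebra
  letI := i.toAlgebra
  letI := j.toAlgebra
  letI : Algebra A L := (j.comp f).toAlgebra
  haveI : IsScalarTower A B L := .of_algebraMap_eq (fun _ => rfl)
  haveI : IsScalarTower A K L := .of_algebraMap_eq (fun x => congr($comm x))
  haveI : IsFractionRing A K := hi
  have hb : IsIntegral A b := hf b
  set x : L := algebraMap B L b with hxdef
  have hxA : IsIntegral A x := hb.map (IsScalarTower.toAlgHom A B L)
  have hxK : IsIntegral K x := hxA.tower_top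
  set μ := minpoly A b with hμdef
  have hμ : minpoly K x = μ.map (algebraMap A K) :=
    minpoly.isIntegrallyClosed_eq_field_fractions K L hb
  have hmonic : μ.Monic := minpoly.monic hb
  have he : 0 < finrank K⟮x⟯ L := Module.finrank_pos
  obtain ⟨e', he'⟩ : ∃ e', finrank K⟮x⟯ L = e' + 1 := Nat.exists_eq_succ_of_ne_zero he.ne'
  have h0 : aeval b μ = 0 := minpoly.aeval A b
  have hdec : μ = divX μ * X + C (μ.coeff 0) := (divX_mul_X_add μ).symm
  have h1 : aeval b (divX μ) * b + algebraMap A B (μ.coeff 0) = 0 := by
    have := h0
    rw [hdec] at this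
    simpa [aeval_C] using this
  have h2 : algebraMap A B (μ.coeff 0) = b * (-(aeval b (divX μ))) := by
    have := eq_neg_of_add_eq_zero_right h1
    rw [this]; ring
  refine ⟨((-1) ^ μ.natDegree * μ.coeff 0) ^ (e' + 1),
    ((-1) ^ μ.natDegree) ^ (e' + 1) * (-(aeval b (divX μ))) * (algebraMap A B (μ.coeff 0)) ^ e',
    ?_, ?_⟩
  · show algebraMap A K _ = Algebra.norm K x
    rw [norm_eq_coeff_pow x hxK, hμ, hmonic.natDegree_map, coeff_map, he']
    simp
  · show algebraMap A B _ = _
    rw [map_pow, map_mul, map_pow, map_neg, map_one, mul_pow, pow_succ (algebraMap A B (μ.coeff 0)),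
      h2]
    ring

end

/-- finiteness of the extension of fraction fields of a finite extension of domains -/
theorem finiteDimensional_of {A B K L : Type*} [CommRing A] [IsDomain A] [CommRing B]
    [IsDomain B] [Field K] [Field L] [Algebra K L]
    (f : A →+* B) (i : A →+* K) (j : B →+* L) (comm : j.comp f = (algebraMap K L).comp i)
    (hi : @IsFractionRing A _ K _ i.toAlgebra) (hj : @IsFractionRing B _ L _ j.toAlgebra)
    (hf : f.Finite) : FiniteDimensional K L := by
  letI := f.toAlgebra
  letI := i.toAlgebra
  letI := j.toAlgebra
  letI : Algebra A L := (j.comp f).toAlgebra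
  haveI : IsScalarTower A B L := .of_algebraMap_eq (fun _ => rfl)
  haveI : IsScalarTower A K L := .of_algebraMap_eq (fun x => congr($comm x))
  haveI : IsFractionRing A K := hi
  haveI : IsFractionRing B L := hj
  haveI : Module.Finite A B := hf
  have hinj : Function.Injective f := by
    have h1 : Function.Injective (j.comp f) := by
      rw [comm]
      exact (algebraMap K L).injective.comp (IsFractionRing.injective A K)
    exact Function.Injective.of_comp (f := j) h1
  haveI : FaithfulSMul A B := (faithfulSMul_iff_algebraMap_injective A B).mpr hinj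
  haveI : Algebra.IsIntegral A B := Algebra.IsIntegral.of_finite A B
  haveI : IsLocalization (Algebra.algebraMapSubmonoid B (nonZeroDivisors A)) L := inferInstance
  exact Module.Finite.of_isLocalization A B (nonZeroDivisors A)

end Groth.Agent.Helper8.NormNormalAlg
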