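import Mathlib
import Groth.Prelude.Def_Fitting
import Groth.Prelude.Def_Pi1
import Groth.Agent.Helper8.NormGlue
import Groth.Agent.Helper8.NormNormalAlg

/-!
# The norm of a finite surjective morphism of integral schemes with normal target
-/

set_option autoImplicit false
set_option linter.unusedSectionVars false
set_option linter.style.haveILetI false
universe u

open AlgebraicGeometry CategoryTheory Opposite TopologicalSpace Module

namespace Groth.Agent.Helper8.NormNormal

open Groth.Agent.Helper8.NormGlue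

/-- integrally closed coordinate rings from integrally closed stalks
(as in `Helper5/NormKA.isIntegrallyClosed_of_stalks`) -/
theorem isIntegrallyClosed_of_stalks {X : Scheme.{u}} (U : X.Opens) (hU : IsAffineOpen U)
    [IsDomain Γ(X, U)]
    (h : ∀ x ∈ U, IsIntegrallyClosed (X.presheaf.stalk x)) : IsIntegrallyClosed Γ(X, U) := by
  apply IsIntegrallyClosed.of_localization_maximal
  intro p _ hp
  have hmem : hU.fromSpec ⟨p, hp.isPrime⟩ ∈ U := by
    have : hU.fromSpec ⟨p, hp.isPrime⟩ ∈ Set.range hU.fromSpec := Set.mem_range_self _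
    rw [hU.range_fromSpec] at this
    exact this
  have hQ : hU.primeIdealOf ⟨hU.fromSpec ⟨p, hp.isPrime⟩, hmem⟩ = ⟨p, hp.isPrime⟩ :=
    hU.fromSpec.isOpenEmbedding.injective (hU.fromSpec_primeIdealOf ⟨_, hmem⟩)
  letI : Algebra Γ(X, U) (X.presheaf.stalk (hU.fromSpec ⟨p, hp.isPrime⟩)) :=
    X.presheaf.algebra_section_stalk ⟨_, hmem⟩
  haveI h1 : IsLocalization.AtPrime (X.presheaf.stalk (hU.fromSpec ⟨p, hp.isPrime⟩))
      (hU.primeIdealOf ⟨hU.fromSpec ⟨p, hp.isPrime⟩, hmem⟩).asIdeal :=
    hU.isLocalization_stalk ⟨_, hmem⟩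
  rw [hQ] at h1
  haveI : IsLocalization.AtPrime (X.presheaf.stalk (hU.fromSpec ⟨p, hp.isPrime⟩)) p := h1
  haveI := h _ hmem
  exact IsIntegrallyClosed.of_equiv
    (IsLocalization.algEquiv p.primeCompl (X.presheaf.stalk (hU.fromSpec ⟨p, hp.isPrime⟩))
      (Localization.AtPrime p)).toRingEquiv

variable {X Y : Scheme.{u}} (π : X ⟶ Y) [IsIntegral X] [IsIntegral Y] [Surjective π]

lemma map_genericPoint : π (genericPoint X) = genericPoint Y := by
  have h1 : IsGenericPoint (π (genericPoint X)) (closure (π '' Set.univ)) :=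
    (genericPoint_spec X).image π.continuous
  rw [Set.image_univ, Set.range_eq_univ.2 π.surjective, closure_univ] at h1
  exact h1.eq (genericPoint_spec Y)

/-- the map on function fields -/
noncomputable def ffMap : Y.functionField ⟶ X.functionField :=
  Y.presheaf.stalkSpecializes (specializes_of_eq (map_genericPoint π)) ≫
    π.stalkMap (genericPoint X)

/-- the function field of `X` as an algebra over that of `Y` -/
noncomputable abbrev ffAlg : Algebra Y.functionField X.functionField := (ffMap π).hom.toAlgebra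

lemma nonempty_preimage (V : Y.Opens) [h : Nonempty V] : Nonempty (π ⁻¹ᵁ V) := by
  obtain ⟨y⟩ := h
  obtain ⟨x, hx⟩ := π.surjective y.1
  exact ⟨⟨x, by show π x ∈ V; rw [hx]; exact y.2⟩⟩

/-- germ of a function on `Y` at the generic point -/
noncomputable abbrev iY (V : Y.Opens) [Nonempty V] : Γ(Y, V) →+* Y.functionField :=
  (Y.germToFunctionField V).hom

/-- germ of a function on `X` at the generic point -/
noncomputable abbrev jX (V : Y.Opens) [Nonempty V] : Γ(X, π ⁻¹ᵁ V) →+* X.functionField :=
  (@Scheme.germToFunctionField X _ (π ⁻¹ᵁ V) (nonempty_preimage π V)).hom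

lemma ffMap_germ (V : Y.Opens) [Nonempty V] (g : Γ(Y, V)) :
    (ffMap π).hom (iY V g) = jX π V ((π.app V).hom g) := by
  haveI := nonempty_preimage π V
  have hmem : genericPoint Y ∈ V :=
    ((genericPoint_spec Y).mem_open_set_iff V.isOpen).mpr (by simpa using ‹Nonempty V›)
  have hmem' : π (genericPoint X) ∈ V := by rw [map_genericPoint]; exact hmem
  have e1 : (Y.presheaf.stalkSpecializes (specializes_of_eq (map_genericPoint π))).hom
      (Y.presheaf.germ V (genericPoint Y) hmem g) =
      Y.presheaf.germ V (π (genericPoint X)) hmem' g :=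
    congr($(Y.presheaf.germ_stalkSpecializes hmem (specializes_of_eq (map_genericPoint π))).hom g)
  show (π.stalkMap (genericPoint X)).hom
    ((Y.presheaf.stalkSpecializes (specializes_of_eq (map_genericPoint π))).hom
      (Y.presheaf.germ V (genericPoint Y) hmem g)) = _
  rw [e1]
  exact Scheme.Hom.germ_stalkMap_apply π V (genericPoint X) hmem' g

lemma comm_sq (V : Y.Opens) [Nonempty V] :
    letI := ffAlg π;
    (jX π V).comp (π.app V).hom = (algebraMap Y.functionField X.functionField).comp (iY V) :=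
  RingHom.ext fun g => (ffMap_germ π V g).symm

lemma iY_res {V W : Y.Opens} [Nonempty V] [Nonempty W] (h : W ≤ V) (a : Γ(Y, V)) :
    iY W (rY h a) = iY V a :=
  Y.presheaf.germ_res_apply (homOfLE h) _ _ a

lemma jX_res {V W : Y.Opens} [Nonempty V] [Nonempty W] (h : W ≤ V) (s : Γ(X, π ⁻¹ᵁ V)) :
    jX π W (rX π h s) = jX π V s :=
  X.presheaf.germ_res_apply ((Opens.map π.base).map (homOfLE h)) _ _ s

lemma iY_injective (V : Y.Opens) [Nonempty V] : Function.Injective (iY V) :=
  Y.germToFunctionField_injective V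

variable [IsFinite π]

lemma finiteDimensional : letI := ffAlg π; FiniteDimensional Y.functionField X.functionField := by
  letI := ffAlg π
  obtain ⟨_, ⟨V, hV, rfl⟩, hyV, -⟩ :=
    Y.isBasis_affineOpens.exists_subset_of_mem_open (Set.mem_univ (genericPoint Y)) isOpen_univ
  haveI : Nonempty V := ⟨⟨_, hyV⟩⟩
  haveI := nonempty_preimage π V
  exact NormNormalAlg.finiteDimensional_of (π.app V).hom (iY V) (jX π V) (comm_sq π V)
    (functionField_isFractionRing_of_isAffineOpen Y V hV)
    (functionField_isFractionRing_of_isAffineOpen X (π ⁻¹ᵁ V) (hV.preimage π))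
    (π.finite_app V hV)

variable (hY : Pi1.IsNormalScheme Y)

include hY in
lemma exists_norm (V : Y.Opens) (hV : IsAffineOpen V) [Nonempty V] (b : Γ(X, π ⁻¹ᵁ V)) :
    letI := ffAlg π;
    ∃ (a : Γ(Y, V)) (c : Γ(X, π ⁻¹ᵁ V)),
      iY V a = Algebra.norm Y.functionField (jX π V b) ∧ (π.app V).hom a = b * c := by
  letI := ffAlg π
  haveI := nonempty_preimage π V
  haveI := finiteDimensional π
  haveI : IsIntegrallyClosed Γ(Y, V) := isIntegrallyClosed_of_stalks V hV (fun y _ => (hY y).2)
  exact NormNormalAlg.key (π.app V).hom (iY V) (jX π V) (comm_sq π V)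
    (functionField_isFractionRing_of_isAffineOpen Y V hV)
    (RingHom.Finite.to_isIntegral (π.finite_app V hV)) b

/-- the nonempty affine opens -/
def affOpens (Y : Scheme.{u}) : Set Y.Opens := {V | IsAffineOpen V ∧ Nonempty V}

/-- the norm on a nonempty affine open -/
noncomputable def nV (V : affOpens Y) (b : Γ(X, π ⁻¹ᵁ V.1)) : Γ(Y, V.1) :=
  haveI : Nonempty V.1 := V.2.2
  (exists_norm π hY V.1 V.2.1 b).choose

lemma nV_spec (V : affOpens Y) (b : Γ(X, π ⁻¹ᵁ V.1)) :
    letI := ffAlg π;
    haveI : Nonempty V.1 := V.2.2;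
    iY V.1 (nV π hY V b) = Algebra.norm Y.functionField (jX π V.1 b) := by
  haveI : Nonempty V.1 := V.2.2
  exact (exists_norm π hY V.1 V.2.1 b).choose_spec.choose_spec.1

lemma nV_dvd (V : affOpens Y) (b : Γ(X, π ⁻¹ᵁ V.1)) :
    ∃ c, (π.app V.1).hom (nV π hY V b) = b * c := by
  haveI : Nonempty V.1 := V.2.2
  exact ⟨_, (exists_norm π hY V.1 V.2.1 b).choose_spec.choose_spec.2⟩

/-- the norm data on the nonempty affine opens -/
noncomputable def basisNorm :
    letI := ffAlg π;
    BasisNorm π (affOpens Y) (Module.finrank Y.functionField X.functionField) := by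
  letI := ffAlg π
  exact
  { n := fun V =>
      { toFun := nV π hY V
        map_one' := by
          haveI : Nonempty V.1 := V.2.2
          apply iY_injective V.1
          rw [nV_spec, map_one, map_one, map_one]
        map_mul' := fun s s' => by
          haveI : Nonempty V.1 := V.2.2
          apply iY_injective V.1
          rw [nV_spec, map_mul, map_mul, map_mul, nV_spec, nV_spec] }
    res := fun V W h s => by
      haveI : Nonempty V.1 := V.2.2
      haveI : Nonempty W.1 := W.2.2
      apply iY_injective W.1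
      show iY W.1 (rY h (nV π hY V s)) = iY W.1 (nV π hY W (rX π h s))
      rw [iY_res, nV_spec, nV_spec, jX_res]
    app := fun V g => by
      haveI : Nonempty V.1 := V.2.2
      apply iY_injective V.1
      show iY V.1 (nV π hY V ((π.app V.1).hom g)) = iY V.1 (g ^ _)
      rw [nV_spec, ← ffMap_germ, map_pow]
      exact Algebra.norm_algebraMap (iY V.1 g)
    mem := fun V s x hx hs => by
      obtain ⟨c, hc⟩ := nV_dvd π hY V s
      show Y.presheaf.germ V.1 (π.base x) hx (nV π hY V s) ∈ _
      by_contra hn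
      have hu : IsUnit (Y.presheaf.germ V.1 (π.base x) hx (nV π hY V s)) := by
        by_contra hnu
        exact hn ((IsLocalRing.mem_maximalIdeal _).2 hnu)
      have hu2 : IsUnit ((π.stalkMap x).hom
          (Y.presheaf.germ V.1 (π.base x) hx (nV π hY V s))) := hu.map _
      have e1 : (π.stalkMap x).hom (Y.presheaf.germ V.1 (π.base x) hx (nV π hY V s)) =
          X.presheaf.germ (π ⁻¹ᵁ V.1) x hx ((π.app V.1).hom (nV π hY V s)) :=
        Scheme.Hom.germ_stalkMap_apply π V.1 x hx _
      rw [e1, hc, map_mul] at hu2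
      exact (IsLocalRing.mem_maximalIdeal _).1 hs (isUnit_of_mul_isUnit_left hu2) }

lemma exists_affOpen (U : Y.Opens) (y : Y) (hy : y ∈ U) : ∃ V ∈ affOpens Y, y ∈ V ∧ V ≤ U := by
  obtain ⟨_, ⟨V, hV, rfl⟩, hyV, hVU⟩ := Y.isBasis_affineOpens.exists_subset_of_mem_open hy U.2
  exact ⟨V, ⟨hV, ⟨⟨y, hyV⟩⟩⟩, hyV, hVU⟩

include hY in
theorem main : ∃ d : ℕ, Nrm.HasNorm π d := by
  letI := ffAlg π
  haveI := finiteDimensional π
  refine ⟨Module.finrank Y.functionField X.functionField,
    ⟨normOfDegree (basisNorm π hY) exists_affOpen ?_⟩⟩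
  exact Nat.succ_le_of_lt Module.finrank_pos

end Groth.Agent.Helper8.NormNormal
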