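import Mathlib

/-!
# Padded characteristic polynomial and norm for finite projective algebras

For an `A`-algebra `B` together with a retraction `F : Aⁿ → B`, `Gm : B → Aⁿ`, `F ∘ Gm = id`
(such data exist iff `B` is finite projective), we consider the `n × n` matrices of
`Gm ∘ (b ·) ∘ F` (multiplication by `b`, padded by `0` on the complement) and of
`1 + Gm ∘ ((b ·) - 1) ∘ F` (padded by the identity on the complement).
-/

set_option autoImplicit false

namespace Groth.Agent.Helper8.PNorm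

open Polynomial CategoryTheory Matrix

universe u

section Retract

variable {R : Type*} [CommRing R] {M : Type*} [AddCommGroup M] [Module R M] {n : ℕ}

theorem retract_eq₁ (F₁ F₂ : (Fin n → R) →ₗ[R] M) (G₁ G₂ : M →ₗ[R] (Fin n → R))
    (h₂ : F₂ ∘ₗ G₂ = LinearMap.id) (φ : M →ₗ[R] M) :
    G₁ ∘ₗ φ ∘ₗ F₁ = (G₁ ∘ₗ F₂) ∘ₗ ((G₂ ∘ₗ φ ∘ₗ F₂) ∘ₗ (G₂ ∘ₗ F₁)) := by
  have e2 : ∀ m, F₂ (G₂ m) = m := fun m => LinearMap.congr_fun h₂ m
  refine LinearMap.ext fun x => ?_
  simp [e2]

theorem retract_eq₂ (F₁ F₂ : (Fin n → R) →ₗ[R] M) (G₁ G₂ : M →ₗ[R] (Fin n → R))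
    (h₁ : F₁ ∘ₗ G₁ = LinearMap.id) (h₂ : F₂ ∘ₗ G₂ = LinearMap.id) (φ : M →ₗ[R] M) :
    G₂ ∘ₗ φ ∘ₗ F₂ = ((G₂ ∘ₗ φ ∘ₗ F₂) ∘ₗ (G₂ ∘ₗ F₁)) ∘ₗ (G₁ ∘ₗ F₂) := by
  have e1 : ∀ m, F₁ (G₁ m) = m := fun m => LinearMap.congr_fun h₁ m
  have e2 : ∀ m, F₂ (G₂ m) = m := fun m => LinearMap.congr_fun h₂ m
  refine LinearMap.ext fun x => ?_
  simp [e1, e2]

/-- The characteristic polynomial of `G ∘ φ ∘ F` does not depend on the retraction `(F, G)`. -/
theorem charpoly_retract_indep (F₁ F₂ : (Fin n → R) →ₗ[R] M) (G₁ G₂ : M →ₗ[R] (Fin n → R))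
    (h₁ : F₁ ∘ₗ G₁ = LinearMap.id) (h₂ : F₂ ∘ₗ G₂ = LinearMap.id) (φ : M →ₗ[R] M) :
    (LinearMap.toMatrix' (G₁ ∘ₗ φ ∘ₗ F₁)).charpoly =
      (LinearMap.toMatrix' (G₂ ∘ₗ φ ∘ₗ F₂)).charpoly := by
  rw [retract_eq₁ F₁ F₂ G₁ G₂ h₂ φ, LinearMap.toMatrix'_comp, Matrix.charpoly_mul_comm,
    ← LinearMap.toMatrix'_comp, ← retract_eq₂ F₁ F₂ G₁ G₂ h₁ h₂ φ]

/-- The determinant of `1 + G ∘ ψ ∘ F` does not depend on the retraction `(F, G)`. -/
theorem det_retract_indep (F₁ F₂ : (Fin n → R) →ₗ[R] M) (G₁ G₂ : M →ₗ[R] (Fin n → R))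
    (h₁ : F₁ ∘ₗ G₁ = LinearMap.id) (h₂ : F₂ ∘ₗ G₂ = LinearMap.id) (ψ : M →ₗ[R] M) :
    (1 + LinearMap.toMatrix' (G₁ ∘ₗ ψ ∘ₗ F₁)).det =
      (1 + LinearMap.toMatrix' (G₂ ∘ₗ ψ ∘ₗ F₂)).det := by
  rw [retract_eq₁ F₁ F₂ G₁ G₂ h₂ ψ, LinearMap.toMatrix'_comp, Matrix.det_one_add_mul_comm,
    ← LinearMap.toMatrix'_comp, ← retract_eq₂ F₁ F₂ G₁ G₂ h₁ h₂ ψ]

end Retract

section Defs

variable {A B : Type*} [CommRing A] [CommRing B] [Algebra A B] {n : ℕ}
  (F : (Fin n → A) →ₗ[A] B) (Gm : B →ₗ[A] (Fin n → A))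

/-- The matrix of `Gm ∘ ψ ∘ F`. -/
noncomputable def matOf (ψ : B →ₗ[A] B) : Matrix (Fin n) (Fin n) A :=
  LinearMap.toMatrix' (Gm ∘ₗ ψ ∘ₗ F)

/-- The padded matrix of multiplication by `b`. -/
noncomputable def mat (b : B) : Matrix (Fin n) (Fin n) A :=
  matOf F Gm (LinearMap.mulLeft A b)

/-- The padded characteristic polynomial of multiplication by `b`. -/
noncomputable def chi (b : B) : A[X] := (mat F Gm b).charpoly

/-- The norm of `b` (determinant of multiplication by `b`, padded by the identity). -/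
noncomputable def nrm (b : B) : A :=
  (1 + matOf F Gm (LinearMap.mulLeft A b - LinearMap.id)).det

theorem matOf_apply (ψ : B →ₗ[A] B) (i j : Fin n) :
    matOf F Gm ψ i j = Gm (ψ (F (Pi.single j 1))) i := rfl

theorem chi_monic (b : B) : (chi F Gm b).Monic := Matrix.charpoly_monic _

end Defs

section BC

/-- Base change of a retraction along a pushout square of commutative rings. -/
theorem exists_baseChange {A A' B P : Type u} [CommRing A] [CommRing A'] [CommRing B] [CommRing P]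
    [Algebra A B] [Algebra A' P] (ρ : A →+* A') (lam : B →+* P)
    (h : IsPushout (CommRingCat.ofHom ρ) (CommRingCat.ofHom (algebraMap A B))
      (CommRingCat.ofHom (algebraMap A' P)) (CommRingCat.ofHom lam))
    {n : ℕ} (F : (Fin n → A) →ₗ[A] B) (Gm : B →ₗ[A] (Fin n → A))
    (hFG : F ∘ₗ Gm = LinearMap.id) :
    ∃ (F' : (Fin n → A') →ₗ[A'] P) (G' : P →ₗ[A'] (Fin n → A')), F' ∘ₗ G' = LinearMap.id ∧
      (∀ b : B, matOf F' G' (LinearMap.mulLeft A' (lam b)) =
        (matOf F Gm (LinearMap.mulLeft A b)).map ρ) ∧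
      matOf F' G' LinearMap.id = (matOf F Gm LinearMap.id).map ρ := by
  classical
  letI := ρ.toAlgebra
  letI : Algebra B P := lam.toAlgebra
  letI : Algebra A P := ((algebraMap A' P).comp ρ).toAlgebra
  haveI : IsScalarTower A A' P := .of_algebraMap_eq' rfl
  have hw : (algebraMap A' P).comp ρ = lam.comp (algebraMap A B) := by
    have := h.w
    have h2 := congrArg CommRingCat.Hom.hom this
    simpa using h2
  haveI : IsScalarTower A B P := .of_algebraMap_eq' hw
  have hp : Algebra.IsPushout A A' B P := CommRingCat.isPushout_iff_isPushout.mp h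
  have hbc : IsBaseChange A' (IsScalarTower.toAlgHom A B P).toLinearMap := hp.out
  have hcomm : ∀ a : A, algebraMap A' P (ρ a) = lam (algebraMap A B a) :=
    fun a => RingHom.congr_fun hw a
  let rs : (Fin n → A) →ₗ[A] (Fin n → A') := (Algebra.linearMap A A').compLeft (Fin n)
  let G' : P →ₗ[A'] (Fin n → A') := hbc.lift (rs ∘ₗ Gm)
  let F' : (Fin n → A') →ₗ[A'] P :=
    (Pi.basisFun A' (Fin n)).constr A' (fun i => lam (F (Pi.single i 1)))
  have hG' : ∀ b : B, G' (lam b) = fun i => ρ (Gm b i) := fun b => hbc.lift_eq (rs ∘ₗ Gm) b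
  have hF' : ∀ v : Fin n → A', F' v = ∑ i, algebraMap A' P (v i) * lam (F (Pi.single i 1)) := by
    intro v
    simp [F', Module.Basis.constr_apply_fintype, Algebra.smul_def]
  have hFsum : ∀ w : Fin n → A, F w = ∑ i, w i • F (Pi.single i 1) := by
    intro w
    conv_lhs => rw [pi_eq_sum_univ' w]
    simp [map_sum]
  have hFG' : ∀ b : B, F' (G' (lam b)) = lam b := by
    intro b
    rw [hG', hF']
    have e1 : F (Gm b) = b := LinearMap.congr_fun hFG b
    conv_rhs => rw [← e1, hFsum (Gm b), map_sum]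
    refine Finset.sum_congr rfl fun i _ => ?_
    rw [hcomm, Algebra.smul_def, map_mul]
  have hid : F' ∘ₗ G' = LinearMap.id :=
    hbc.algHom_ext _ _ (fun b => hFG' b)
  have hF'single : ∀ j : Fin n, F' (Pi.single j 1) = lam (F (Pi.single j 1)) := by
    intro j
    rw [hF', Finset.sum_eq_single j]
    · simp
    · intro i _ hij
      simp [hij]
    · intro hj
      exact absurd (Finset.mem_univ j) hj
  refine ⟨F', G', hid, ?_, ?_⟩
  · intro b
    ext i j
    rw [Matrix.map_apply, matOf_apply, matOf_apply, hF'single]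
    simp only [LinearMap.mulLeft_apply]
    rw [← map_mul, hG']
  · ext i j
    rw [Matrix.map_apply, matOf_apply, matOf_apply, hF'single]
    simp only [LinearMap.id_apply]
    rw [hG']

end BC


section Inv

/-- Invariance: if `P` is the base change of `B` along both `τ` and `σ = algebraMap A B`
(via `lam₁`, `lam₂` respectively, same structure map `B → P`), and `lam₁ b = lam₂ b`, then the
padded characteristic polynomial and norm of `b` have the same image under `τ` and `σ`. -/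
theorem invariance_core {A B P : Type u} [CommRing A] [CommRing B] [CommRing P]
    [Algebra A B] [Algebra B P] (τ : A →+* B) (lam₁ lam₂ : B →+* P)
    (h₁ : IsPushout (CommRingCat.ofHom τ) (CommRingCat.ofHom (algebraMap A B))
      (CommRingCat.ofHom (algebraMap B P)) (CommRingCat.ofHom lam₁))
    (h₂ : IsPushout (CommRingCat.ofHom (algebraMap A B)) (CommRingCat.ofHom (algebraMap A B))
      (CommRingCat.ofHom (algebraMap B P)) (CommRingCat.ofHom lam₂))
    {n : ℕ} (F : (Fin n → A) →ₗ[A] B) (Gm : B →ₗ[A] (Fin n → A))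
    (hFG : F ∘ₗ Gm = LinearMap.id) (b : B) (hb : lam₁ b = lam₂ b) :
    (chi F Gm b).map τ = (chi F Gm b).map (algebraMap A B) ∧
      τ (nrm F Gm b) = algebraMap A B (nrm F Gm b) := by
  obtain ⟨F₁, G₁, hid₁, hm₁, hi₁⟩ := exists_baseChange τ lam₁ h₁ F Gm hFG
  obtain ⟨F₂, G₂, hid₂, hm₂, hi₂⟩ := exists_baseChange (algebraMap A B) lam₂ h₂ F Gm hFG
  constructor
  · unfold chi mat
    rw [← Matrix.charpoly_map, ← Matrix.charpoly_map, ← hm₁ b, ← hm₂ b, hb]
    exact charpoly_retract_indep F₁ F₂ G₁ G₂ hid₁ hid₂ _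
  · unfold nrm
    rw [RingHom.map_det, RingHom.map_det]
    have key : ∀ (ρ : A →+* B) (F' : (Fin n → B) →ₗ[B] P) (G' : P →ₗ[B] (Fin n → B))
        (lam : B →+* P),
        matOf F' G' (LinearMap.mulLeft B (lam b)) = (matOf F Gm (LinearMap.mulLeft A b)).map ρ →
        matOf F' G' LinearMap.id = (matOf F Gm LinearMap.id).map ρ →
        ρ.mapMatrix (1 + matOf F Gm (LinearMap.mulLeft A b - LinearMap.id)) =
          1 + matOf F' G' (LinearMap.mulLeft B (lam b) - LinearMap.id) := by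
      intro ρ F' G' lam e1 e2
      have s1 : matOf F Gm (LinearMap.mulLeft A b - LinearMap.id) =
          matOf F Gm (LinearMap.mulLeft A b) - matOf F Gm LinearMap.id := by
        unfold matOf
        rw [LinearMap.sub_comp, LinearMap.comp_sub, map_sub]
      have s2 : matOf F' G' (LinearMap.mulLeft B (lam b) - LinearMap.id) =
          matOf F' G' (LinearMap.mulLeft B (lam b)) - matOf F' G' LinearMap.id := by
        unfold matOf
        rw [LinearMap.sub_comp, LinearMap.comp_sub, map_sub]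
      rw [s1, s2, e1, e2, map_add, map_one, map_sub]
      rfl
    rw [key τ F₁ G₁ lam₁ (hm₁ b) hi₁, key (algebraMap A B) F₂ G₂ lam₂ (hm₂ b) hi₂, hb]
    exact det_retract_indep F₁ F₂ G₁ G₂ hid₁ hid₂ _

end Inv

section CH

variable {A B : Type*} [CommRing A] [CommRing B] [Algebra A B] {n : ℕ}
  (F : (Fin n → A) →ₗ[A] B) (Gm : B →ₗ[A] (Fin n → A))

/-- Cayley–Hamilton: `b` is a root of its padded characteristic polynomial. -/
theorem eval₂_chi (hFG : F ∘ₗ Gm = LinearMap.id) (b : B) :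
    Polynomial.eval₂ (algebraMap A B) b (chi F Gm b) = 0 := by
  set φ : B →ₗ[A] B := LinearMap.mulLeft A b with hφ
  set E : (Fin n → A) →ₗ[A] (Fin n → A) := Gm ∘ₗ φ ∘ₗ F with hE
  have hch : chi F Gm b = E.charpoly := by
    rw [← LinearMap.charpoly_toMatrix E (Pi.basisFun A (Fin n)), LinearMap.toMatrix_eq_toMatrix']
    rfl
  have h0 : Polynomial.aeval E E.charpoly = 0 := LinearMap.aeval_self_charpoly E
  have e1 : ∀ m, F (Gm m) = m := fun m => LinearMap.congr_fun hFG m
  have hEG : E ∘ₗ Gm = Gm ∘ₗ φ := LinearMap.ext fun m => by simp [hE, e1]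
  have hint : ∀ p : A[X], (Polynomial.aeval E p) ∘ₗ Gm = Gm ∘ₗ (Polynomial.aeval φ p) := by
    intro p
    induction p using Polynomial.induction_on with
    | C a =>
      refine LinearMap.ext fun m => ?_
      simp [Polynomial.aeval_C, Module.algebraMap_end_apply]
    | add p q hp hq =>
      rw [map_add, map_add, LinearMap.add_comp, LinearMap.comp_add, hp, hq]
    | monomial k a ih =>
      rw [pow_succ, ← mul_assoc,
        show Polynomial.aeval E (C a * X ^ k * X) = Polynomial.aeval E (C a * X ^ k) * E by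
          rw [map_mul, Polynomial.aeval_X],
        show Polynomial.aeval φ (C a * X ^ k * X) = Polynomial.aeval φ (C a * X ^ k) * φ by
          rw [map_mul, Polynomial.aeval_X]]
      calc (Polynomial.aeval E (C a * X ^ k) * E) ∘ₗ Gm
          = Polynomial.aeval E (C a * X ^ k) ∘ₗ (E ∘ₗ Gm) := rfl
        _ = Polynomial.aeval E (C a * X ^ k) ∘ₗ (Gm ∘ₗ φ) := by rw [hEG]
        _ = (Polynomial.aeval E (C a * X ^ k) ∘ₗ Gm) ∘ₗ φ := rfl
        _ = (Gm ∘ₗ Polynomial.aeval φ (C a * X ^ k)) ∘ₗ φ := by rw [ih]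
        _ = Gm ∘ₗ (Polynomial.aeval φ (C a * X ^ k) * φ) := rfl
  have h1 : Gm ∘ₗ Polynomial.aeval φ (chi F Gm b) = 0 := by
    rw [← hint, hch, h0, LinearMap.zero_comp]
  have h2 : Polynomial.aeval φ (chi F Gm b) = 0 := by
    have : F ∘ₗ (Gm ∘ₗ Polynomial.aeval φ (chi F Gm b)) = 0 := by rw [h1, LinearMap.comp_zero]
    rwa [← LinearMap.comp_assoc, hFG, LinearMap.id_comp] at this
  have hφ' : φ = Algebra.lmul A B b := LinearMap.ext fun x => rfl
  have h3 : Polynomial.aeval φ (chi F Gm b) = Algebra.lmul A B (Polynomial.aeval b (chi F Gm b)) := by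
    rw [hφ', Polynomial.aeval_algHom_apply]
  have h4 := LinearMap.congr_fun h2 1
  rw [h3] at h4
  have h5 : (Polynomial.aeval b (chi F Gm b)) * 1 = 0 := h4
  rw [mul_one] at h5
  rw [← Polynomial.aeval_def]
  exact h5

end CH


section Nrm

variable {A B : Type*} [CommRing A] [CommRing B] [Algebra A B] {n : ℕ}
  (F : (Fin n → A) →ₗ[A] B) (Gm : B →ₗ[A] (Fin n → A))

/-- The padded endomorphism `1 + Gm ∘ (b· - 1) ∘ F` of `Aⁿ`. -/
noncomputable def L (b : B) : (Fin n → A) →ₗ[A] (Fin n → A) :=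
  LinearMap.id + Gm ∘ₗ (LinearMap.mulLeft A b - LinearMap.id) ∘ₗ F

theorem L_apply (b : B) (w : Fin n → A) : L F Gm b w = w + Gm (b * F w - F w) := by simp [L]

theorem nrm_eq_det (b : B) : nrm F Gm b = (LinearMap.toMatrix' (L F Gm b)).det := by
  unfold nrm L matOf
  rw [map_add, LinearMap.toMatrix'_id]

theorem L_one : L F Gm 1 = LinearMap.id := by
  refine LinearMap.ext fun w => ?_
  simp [L_apply]

theorem nrm_one : nrm F Gm 1 = 1 := by
  rw [nrm_eq_det, L_one, LinearMap.toMatrix'_id, Matrix.det_one]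

theorem entries_mem (p : Ideal A) (y : B) (hy : y ∈ p.map (algebraMap A B)) (i : Fin n) :
    ∀ w : B, Gm (y * w) i ∈ p := by
  refine Submodule.span_induction (p := fun y _ => ∀ w, Gm (y * w) i ∈ p) ?_ ?_ ?_ ?_ hy
  · rintro _ ⟨a, ha, rfl⟩ w
    rw [← Algebra.smul_def, map_smul]
    exact p.mul_mem_right _ ha
  · intro w; simp
  · intro x y _ _ hx hy w
    rw [add_mul, map_add]
    exact p.add_mem (hx w) (hy w)
  · intro c x _ hx w
    rw [smul_eq_mul, mul_comm c x, mul_assoc]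
    exact hx (c * w)

theorem map_nrm_add {K : Type*} [CommRing K] (p : Ideal A) (π : A →+* K)
    (hπ : ∀ a ∈ p, π a = 0) (x y : B) (hy : y ∈ p.map (algebraMap A B)) :
    π (nrm F Gm (x + y)) = π (nrm F Gm x) := by
  have hsplit : matOf F Gm (LinearMap.mulLeft A (x + y) - LinearMap.id) =
      matOf F Gm (LinearMap.mulLeft A x - LinearMap.id) + matOf F Gm (LinearMap.mulLeft A y) := by
    ext i j
    simp only [matOf_apply, Matrix.add_apply, LinearMap.sub_apply, LinearMap.mulLeft_apply,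
      LinearMap.id_apply]
    have : (x + y) * F (Pi.single j 1) - F (Pi.single j 1) =
        (x * F (Pi.single j 1) - F (Pi.single j 1)) + y * F (Pi.single j 1) := by ring
    rw [this, map_add, Pi.add_apply]
  have hzero : π.mapMatrix (matOf F Gm (LinearMap.mulLeft A y)) = 0 := by
    ext i j
    simp [matOf_apply, hπ _ (entries_mem Gm p y hy i _)]
  unfold nrm
  rw [RingHom.map_det, RingHom.map_det, hsplit, ← add_assoc, map_add, hzero, add_zero]

variable (hFG : F ∘ₗ Gm = LinearMap.id)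
include hFG

theorem F_L (b : B) (w : Fin n → A) : F (L F Gm b w) = b * F w := by
  have e1 : ∀ m, F (Gm m) = m := fun m => LinearMap.congr_fun hFG m
  rw [L_apply, map_add, e1]; ring

theorem L_mul (b b' : B) : L F Gm (b * b') = L F Gm b ∘ₗ L F Gm b' := by
  refine LinearMap.ext fun w => ?_
  rw [LinearMap.comp_apply, L_apply, L_apply F Gm b, F_L F Gm hFG, L_apply]
  rw [add_assoc, ← map_add]
  congr 2
  ring

theorem nrm_mul (b b' : B) : nrm F Gm (b * b') = nrm F Gm b * nrm F Gm b' := by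
  rw [nrm_eq_det, nrm_eq_det, nrm_eq_det, L_mul F Gm hFG, LinearMap.toMatrix'_comp, Matrix.det_mul]

/-- `algebraMap (nrm b)` is a multiple of `b`. -/
theorem exists_mul_eq_nrm (b : B) : ∃ x : B, algebraMap A B (nrm F Gm b) = b * x := by
  set T := LinearMap.toMatrix' (L F Gm b) with hT
  refine ⟨F (T.adjugate *ᵥ Gm 1), ?_⟩
  have e1 : ∀ m, F (Gm m) = m := fun m => LinearMap.congr_fun hFG m
  have h1 : T *ᵥ (T.adjugate *ᵥ Gm 1) = nrm F Gm b • Gm 1 := by
    rw [Matrix.mulVec_mulVec, Matrix.mul_adjugate, Matrix.smul_mulVec, Matrix.one_mulVec,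
      nrm_eq_det]
  have h2 : T *ᵥ (T.adjugate *ᵥ Gm 1) = L F Gm b (T.adjugate *ᵥ Gm 1) :=
    LinearMap.toMatrix'_mulVec _ _
  rw [← F_L F Gm hFG, ← h2, h1, map_smul, e1, Algebra.smul_def, mul_one]

theorem nrm_mem_of_mem (p : Ideal A) (q : Ideal B) (hq : q.comap (algebraMap A B) = p) (b : B)
    (hb : b ∈ q) : nrm F Gm b ∈ p := by
  obtain ⟨x, hx⟩ := exists_mul_eq_nrm F Gm hFG b
  rw [← hq, Ideal.mem_comap, hx]
  exact q.mul_mem_right _ hb

theorem isUnit_map_nrm_algebraMap {K : Type*} [CommRing K] (π : A →+* K) (s : A)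
    (hs : IsUnit (π s)) : IsUnit (π (nrm F Gm (algebraMap A B s))) := by
  obtain ⟨u, hu⟩ := hs
  set e : Matrix (Fin n) (Fin n) A := LinearMap.toMatrix' (Gm ∘ₗ F) with he
  have e1 : ∀ m, F (Gm m) = m := fun m => LinearMap.congr_fun hFG m
  have hee : e * e = e := by
    rw [he, ← LinearMap.toMatrix'_comp]
    congr 1
    refine LinearMap.ext fun w => ?_
    simp [e1]
  set eb : Matrix (Fin n) (Fin n) K := e.map π with heb
  have hebb : eb * eb = eb := by
    rw [heb, ← Matrix.map_mul, hee]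
  have hmat : π.mapMatrix (1 + matOf F Gm (LinearMap.mulLeft A (algebraMap A B s) - LinearMap.id)) =
      1 + (π s - 1) • eb := by
    have h0 : matOf F Gm (LinearMap.mulLeft A (algebraMap A B s) - LinearMap.id) = (s - 1) • e := by
      ext i j
      simp only [matOf_apply, LinearMap.sub_apply, LinearMap.mulLeft_apply, LinearMap.id_apply,
        Matrix.smul_apply, he, LinearMap.toMatrix'_apply, LinearMap.comp_apply, smul_eq_mul]
      have : algebraMap A B s * F (Pi.single j 1) - F (Pi.single j 1) =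
          (s - 1) • F (Pi.single j 1) := by
        rw [sub_smul, one_smul, Algebra.smul_def]
      rw [this, map_smul, Pi.smul_apply, smul_eq_mul]
    rw [h0, map_add, map_one]
    congr 1
    ext i j
    simp [heb]
  have hprod : (1 + (π s - 1) • eb) * (1 + ((↑u⁻¹ : K) - 1) • eb) = 1 := by
    have hu' : π s * (↑u⁻¹ : K) = 1 := by rw [← hu]; exact u.mul_inv
    have hgen : ∀ a c : K, (1 + a • eb) * (1 + c • eb) = 1 + (a + c + a * c) • eb := by
      intro a c
      rw [add_mul, mul_add, mul_add, one_mul, mul_one, one_mul, Matrix.smul_mul, Matrix.mul_smul,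
        hebb, smul_smul, add_smul, add_smul]
      abel
    rw [hgen]
    have : (π s - 1) + ((↑u⁻¹ : K) - 1) + (π s - 1) * ((↑u⁻¹ : K) - 1) = 0 := by
      linear_combination hu'
    rw [this, zero_smul, add_zero]
  unfold nrm
  rw [RingHom.map_det, hmat]
  have := congrArg Matrix.det hprod
  rw [Matrix.det_mul, Matrix.det_one] at this
  exact IsUnit.of_mul_eq_one _ this

/-- If the norm of `b` lies in the prime `p`, then `b` lies in some prime of `B` over `p`. -/
theorem exists_prime_of_nrm_mem (p : Ideal A) [hp : p.IsPrime] (b : B) (hN : nrm F Gm b ∈ p) :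
    ∃ q : Ideal B, q.IsPrime ∧ q.comap (algebraMap A B) = p ∧ b ∈ q := by
  by_contra hcon
  push_neg at hcon
  set I : Ideal B := Ideal.span {b} ⊔ p.map (algebraMap A B) with hI
  set S : Submonoid B := p.primeCompl.map (algebraMap A B) with hS
  have hdisj : ¬ Disjoint (I : Set B) (S : Set B) := by
    intro hd
    obtain ⟨q, hqp, hIq, hqS⟩ := Ideal.exists_le_prime_disjoint I S hd
    refine hcon q hqp ?_ (hIq (Ideal.mem_sup_left (Ideal.mem_span_singleton_self b)))
    apply le_antisymm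
    · intro a ha
      by_contra hap
      exact Set.disjoint_left.mp hqS ha ⟨a, hap, rfl⟩
    · intro a ha
      exact hIq (Ideal.mem_sup_right (Ideal.mem_map_of_mem _ ha))
  rw [Set.not_disjoint_iff] at hdisj
  obtain ⟨z, hzI, ⟨s, hs, rfl⟩⟩ := hdisj
  obtain ⟨x, hx, y, hy, hxy⟩ := Submodule.mem_sup.mp hzI
  obtain ⟨b', rfl⟩ := Ideal.mem_span_singleton'.mp hx
  let K := FractionRing (A ⧸ p)
  let π : A →+* K := (algebraMap (A ⧸ p) K).comp (Ideal.Quotient.mk p)
  have hπ : ∀ a, π a = 0 ↔ a ∈ p := by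
    intro a
    simp only [π, RingHom.comp_apply]
    rw [map_eq_zero_iff _ (IsFractionRing.injective (A ⧸ p) K), Ideal.Quotient.eq_zero_iff_mem]
  have h1 : IsUnit (π (nrm F Gm (algebraMap A B s))) :=
    isUnit_map_nrm_algebraMap F Gm hFG π s (by
      rw [isUnit_iff_ne_zero, Ne, hπ]
      exact hs)
  have h2 : π (nrm F Gm (algebraMap A B s)) = 0 := by
    rw [← hxy, map_nrm_add F Gm p π (fun a ha => (hπ a).mpr ha) _ y hy, nrm_mul F Gm hFG, map_mul,
      (hπ _).mpr hN, mul_zero]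
  rw [h2] at h1
  exact not_isUnit_zero h1

end Nrm

end Groth.Agent.Helper8.PNorm
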