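import Mathlib
import Groth.Prelude.Def_Grpd
import Groth.Agent.Helper2.Grpd1
import Groth.Agent.Helper2.Grpd2
import Groth.Agent.Helper8.PNorm

/-!
# Invariance of the (padded) characteristic polynomial and norm for finite locally free groupoids
-/

set_option autoImplicit false

namespace Groth.Agent.Helper8.GrpdNormA

open CategoryTheory CategoryTheory.Limits AlgebraicGeometry Grpd Polynomial
open Groth.Agent.Helper8

universe u

section RingLevel

variable {A B P : Type u} [CommRing A] [CommRing B] [CommRing P] [Algebra A B] [Algebra B P]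
  (τ : A →+* B) (lam₁ lam₂ : B →+* P)

/-- Ring-level integrality statement. -/
theorem exists_monic_invariant
    (h₁ : IsPushout (CommRingCat.ofHom τ) (CommRingCat.ofHom (algebraMap A B))
      (CommRingCat.ofHom (algebraMap B P)) (CommRingCat.ofHom lam₁))
    (h₂ : IsPushout (CommRingCat.ofHom (algebraMap A B)) (CommRingCat.ofHom (algebraMap A B))
      (CommRingCat.ofHom (algebraMap B P)) (CommRingCat.ofHom lam₂))
    (hlam : ∀ a, lam₁ (τ a) = lam₂ (τ a)) (hτ : Function.Injective τ)
    [Module.Finite A B] [Module.Projective A B] (a : A) :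
    ∃ p : A[X], p.Monic ∧ (∀ k, algebraMap A B (p.coeff k) = τ (p.coeff k)) ∧ p.eval a = 0 := by
  obtain ⟨n, F, Gm, -, -, hFG⟩ := Module.Finite.exists_comp_eq_id_of_projective A B
  refine ⟨PNorm.chi F Gm (τ a), PNorm.chi_monic F Gm _, ?_, ?_⟩
  · intro k
    have := (PNorm.invariance_core τ lam₁ lam₂ h₁ h₂ F Gm hFG (τ a) (hlam a)).1
    have h := congrArg (fun q => q.coeff k) this
    simp only [Polynomial.coeff_map] at h
    exact h.symm
  · have h0 := PNorm.eval₂_chi F Gm hFG (τ a)
    have h1 := (PNorm.invariance_core τ lam₁ lam₂ h₁ h₂ F Gm hFG (τ a) (hlam a)).1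
    rw [← Polynomial.eval_map, ← h1, Polynomial.eval_map, Polynomial.eval₂_at_apply] at h0
    exact hτ (h0.trans (map_zero τ).symm)

end RingLevel

variable {S : Scheme.{u}} (G : Grpd.GroupoidScheme S)

theorem t_appTop_injective : Function.Injective G.t.appTop.hom := by
  have h : G.t.appTop ≫ G.e.appTop = 𝟙 _ := by
    rw [← Scheme.Hom.comp_appTop, G.e_t]
    rfl
  intro a b hab
  have h1 := congrArg (fun φ => φ.hom a) h
  have h2 := congrArg (fun φ => φ.hom b) h
  simp only [CommRingCat.hom_comp, RingHom.comp_apply, CommRingCat.hom_id, RingHom.id_apply] at h1 h2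
  rw [← h1, ← h2, hab]

variable [IsAffine G.U] [IsAffine G.R]

theorem isPushout₁ : IsPushout G.t.appTop G.s.appTop (pullback.snd G.s G.t).appTop
    (pullback.fst G.s G.t).appTop :=
  (isPushout_appTop_of_isPullback (IsPullback.of_hasPullback G.s G.t)).flip

theorem isPushout₂ : IsPushout G.s.appTop G.s.appTop (pullback.snd G.s G.t).appTop
    G.c.appTop :=
  (isPushout_appTop_of_isPullback (Groth.Agent.Helper2.Grpd2.isPullback_c G)).flip

theorem fst_t_eq_c_t (a : Γ(G.U, ⊤)) :
    (pullback.fst G.s G.t).appTop.hom (G.t.appTop.hom a) = G.c.appTop.hom (G.t.appTop.hom a) := by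
  have := Groth.Agent.Helper2.Grpd1.c_t G
  have h2 := congrArg (fun φ => φ.appTop.hom a) this
  simpa using h2.symm

section
variable [IsFinite G.s] [Flat G.s] [LocallyOfFinitePresentation G.s]

theorem finite_s : letI := G.s.appTop.hom.toAlgebra; Module.Finite Γ(G.U, ⊤) Γ(G.R, ⊤) :=
  Scheme.Hom.finite_appTop G.s

theorem projective_s : letI := G.s.appTop.hom.toAlgebra; Module.Projective Γ(G.U, ⊤) Γ(G.R, ⊤) := by
  letI := G.s.appTop.hom.toAlgebra
  haveI : Module.Finite Γ(G.U, ⊤) Γ(G.R, ⊤) := finite_s G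
  haveI : Module.Flat Γ(G.U, ⊤) Γ(G.R, ⊤) := Scheme.Hom.flat_appTop G.s
  haveI : Algebra.FinitePresentation Γ(G.U, ⊤) Γ(G.R, ⊤) := Scheme.Hom.finitePresentation_appTop G.s
  haveI : Module.FinitePresentation Γ(G.U, ⊤) Γ(G.R, ⊤) :=
    Module.FinitePresentation.of_finite_of_finitePresentation _ _
  exact Module.Flat.projective_of_finitePresentation

/-- Every global function on `U` is a root of a monic polynomial with invariant coefficients. -/
theorem exists_monic (a : Γ(G.U, ⊤)) :
    ∃ p : Γ(G.U, ⊤)[X], p.Monic ∧ (∀ k, p.coeff k ∈ G.invariants) ∧ p.eval a = 0 := by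
  letI := G.s.appTop.hom.toAlgebra
  letI : Algebra Γ(G.R, ⊤) Γ(pullback G.s G.t, ⊤) := (pullback.snd G.s G.t).appTop.hom.toAlgebra
  haveI : Module.Finite Γ(G.U, ⊤) Γ(G.R, ⊤) := finite_s G
  haveI : Module.Projective Γ(G.U, ⊤) Γ(G.R, ⊤) := projective_s G
  obtain ⟨p, hp, hc, he⟩ := exists_monic_invariant (A := Γ(G.U, ⊤)) (B := Γ(G.R, ⊤))
    (P := Γ(pullback G.s G.t, ⊤)) G.t.appTop.hom (pullback.fst G.s G.t).appTop.hom
    G.c.appTop.hom (isPushout₁ G) (isPushout₂ G) (fst_t_eq_c_t G) (t_appTop_injective G) a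
  exact ⟨p, hp, fun k => hc k, he⟩

theorem isIntegral : Algebra.IsIntegral G.invariants Γ(G.U, ⊤) := by
  refine ⟨fun a => ?_⟩
  obtain ⟨p, hp, hc, he⟩ := exists_monic G a
  have hsub : (↑p.coeffs : Set Γ(G.U, ⊤)) ⊆ G.invariants := by
    intro c hc'
    obtain ⟨k, -, rfl⟩ := Polynomial.mem_coeffs_iff.mp (Finset.mem_coe.mp hc')
    exact hc k
  refine ⟨p.toSubring G.invariants hsub, (Polynomial.monic_toSubring p G.invariants hsub).mpr hp, ?_⟩
  have : (p.toSubring G.invariants hsub).map (algebraMap G.invariants Γ(G.U, ⊤)) = p :=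
    Polynomial.map_toSubring p G.invariants hsub
  rw [← Polynomial.eval_map, this]
  exact he

end

end Groth.Agent.Helper8.GrpdNormA
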