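import Mathlib
import Groth.Prelude.Def_Grpd
import Groth.Agent.Helper2.Grpd1
import Groth.Agent.Helper4.SymOrbA
import Groth.Agent.Helper8.PNorm

/-!
# Invariant affine open neighbourhoods for finite locally free groupoids (norm argument)
-/

set_option autoImplicit false

namespace Groth.Agent.Helper8.GrpdNormB

open CategoryTheory CategoryTheory.Limits AlgebraicGeometry Grpd
open Groth.Agent.Helper8

universe u

section Aff

theorem injective_of_isIso {X Y : Scheme.{u}} (f : X ⟶ Y) [IsIso f] : Function.Injective f := by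
  intro a b hab
  have h : (f ≫ inv f) a = (f ≫ inv f) b := by
    simp only [Scheme.Hom.comp_apply, hab]
  simpa using h

variable {X Y : Scheme.{u}} [IsAffine X] [IsAffine Y] (φ : X ⟶ Y)

theorem mem_basicOpen_iff (x : X) (h : Γ(X, ⊤)) :
    x ∈ X.basicOpen h ↔ h ∉ (X.toSpecΓ x).asIdeal := by
  rw [← Scheme.toSpecΓ_preimage_basicOpen]
  rfl

theorem toSpecΓ_asIdeal_map (x : X) :
    (Y.toSpecΓ (φ x)).asIdeal = (X.toSpecΓ x).asIdeal.comap φ.appTop.hom := by
  have := Scheme.toSpecΓ_naturality φ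
  have h2 : (φ ≫ Y.toSpecΓ) x = (X.toSpecΓ ≫ Spec.map φ.appTop) x := by rw [this]
  simp only [Scheme.Hom.comp_apply] at h2
  rw [h2]
  rfl

/-- The norm of a function along a finite locally free morphism of affine schemes: its
non-vanishing locus consists of the points over which the function vanishes nowhere. -/
theorem exists_nrm [IsFinite φ] [Flat φ] [LocallyOfFinitePresentation φ] (h : Γ(X, ⊤)) :
    ∃ g : Γ(Y, ⊤), ∀ y : Y, y ∈ Y.basicOpen g ↔ ∀ x : X, φ x = y → x ∈ X.basicOpen h := by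
  letI := φ.appTop.hom.toAlgebra
  haveI : Module.Finite Γ(Y, ⊤) Γ(X, ⊤) := Scheme.Hom.finite_appTop φ
  haveI : Module.Flat Γ(Y, ⊤) Γ(X, ⊤) := Scheme.Hom.flat_appTop φ
  haveI : Algebra.FinitePresentation Γ(Y, ⊤) Γ(X, ⊤) := Scheme.Hom.finitePresentation_appTop φ
  haveI : Module.FinitePresentation Γ(Y, ⊤) Γ(X, ⊤) :=
    Module.FinitePresentation.of_finite_of_finitePresentation _ _
  haveI : Module.Projective Γ(Y, ⊤) Γ(X, ⊤) := Module.Flat.projective_of_finitePresentation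
  obtain ⟨n, F, Gm, -, -, hFG⟩ := Module.Finite.exists_comp_eq_id_of_projective Γ(Y, ⊤) Γ(X, ⊤)
  refine ⟨PNorm.nrm F Gm h, fun y => ?_⟩
  constructor
  · intro hy x hx
    rw [mem_basicOpen_iff] at hy ⊢
    intro hmem
    apply hy
    have := PNorm.nrm_mem_of_mem F Gm hFG _ (X.toSpecΓ x).asIdeal rfl h hmem
    rw [← hx, toSpecΓ_asIdeal_map]
    exact this
  · intro hall
    rw [mem_basicOpen_iff]
    intro hmem
    obtain ⟨q, hq, hqp, hhq⟩ :=
      PNorm.exists_prime_of_nrm_mem F Gm hFG (Y.toSpecΓ y).asIdeal h hmem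
    let x : X := (inv X.toSpecΓ) ⟨q, hq⟩
    have hx : X.toSpecΓ x = ⟨q, hq⟩ := by
      change (inv X.toSpecΓ ≫ X.toSpecΓ) ⟨q, hq⟩ = _
      rw [IsIso.inv_hom_id]
      rfl
    have hφx : φ x = y := by
      apply injective_of_isIso Y.toSpecΓ
      apply PrimeSpectrum.ext
      rw [toSpecΓ_asIdeal_map, hx]
      exact hqp
    have := hall x hφx
    rw [mem_basicOpen_iff, hx] at this
    exact this hhq

end Aff

variable {S : Scheme.{u}} (G : Grpd.GroupoidScheme S)

/-- The points all of whose `s`-fibre is mapped into `D` by `t`. -/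
def core (D : Set G.U) : Set G.U := {x | ∀ r : G.R, G.s r = x → G.t r ∈ D}

theorem e_s_apply (x : G.U) : G.s (G.e x) = x := by
  rw [← Scheme.Hom.comp_apply, G.e_s]
  rfl

theorem e_t_apply (x : G.U) : G.t (G.e x) = x := by
  rw [← Scheme.Hom.comp_apply, G.e_t]
  rfl

theorem i_s_apply (r : G.R) : G.s (G.i r) = G.t r := by
  rw [← Scheme.Hom.comp_apply, G.i_s]

theorem i_t_apply (r : G.R) : G.t (G.i r) = G.s r := by
  rw [← Scheme.Hom.comp_apply, G.i_t]

theorem core_subset (D : Set G.U) : core G D ⊆ D := fun x hx => by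
  have := hx (G.e x) (e_s_apply G x)
  rwa [e_t_apply] at this

theorem core_eq_compl (D : Set G.U) : core G D = (G.s '' (G.t ⁻¹' Dᶜ))ᶜ := by
  ext x
  simp only [core, Set.mem_setOf_eq, Set.mem_compl_iff, Set.mem_image, Set.mem_preimage, not_exists,
    not_and]
  constructor
  · intro h r hr hx
    exact hr (h r hx)
  · intro h r hx
    by_contra hr
    exact h r hr hx

theorem core_invariant (D : Set G.U) : G.s ⁻¹' core G D = G.t ⁻¹' core G D := by
  ext r0
  simp only [Set.mem_preimage]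
  constructor
  · intro h r' hr'
    obtain ⟨r'', h1, h2⟩ := Groth.Agent.Helper2.Grpd1.exists_comp G r' r0 hr'
    rw [← h2]
    exact h r'' h1
  · intro h r hr
    obtain ⟨r'', h1, h2⟩ := Groth.Agent.Helper2.Grpd1.exists_comp G r (G.i r0)
      (by rw [i_t_apply, hr])
    rw [← h2]
    exact h r'' (by rw [h1, i_s_apply])

theorem isOpen_core [IsFinite G.s] (D : Set G.U) (hD : IsOpen D) : IsOpen (core G D) := by
  rw [core_eq_compl]
  exact (G.s.isClosedMap _ (hD.isClosed_compl.preimage G.t.continuous)).isOpen_compl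

theorem main [IsFinite G.s] [Flat G.s] [LocallyOfFinitePresentation G.s]
    (u : G.U) (V : G.U.Opens) (hV : IsAffineOpen V) (huV : ∀ r : G.R, G.s r = u → G.t r ∈ V) :
    ∃ W : G.U.Opens, IsAffineOpen W ∧ u ∈ W ∧ G.s ⁻¹ᵁ W = G.t ⁻¹ᵁ W := by
  classical
  let W₀ : G.U.Opens := ⟨core G V, isOpen_core G V V.isOpen⟩
  have hW₀V : W₀ ≤ V := core_subset G V
  have huW₀ : u ∈ W₀ := fun r hr => huV r hr
  have hinv₀ := core_invariant G (V : Set G.U)
  let O : Finset G.U := (G.s.finite_preimage_singleton u).toFinset.image G.t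
  have hOmem : ∀ r : G.R, G.s r = u → G.t r ∈ O := by
    intro r hr
    refine Finset.mem_image.mpr ⟨r, ?_, rfl⟩
    simpa using hr
  have hO : ∀ x ∈ O, x ∈ V ∧ x ∈ W₀ := by
    intro x hx
    obtain ⟨r, hr, rfl⟩ := Finset.mem_image.mp hx
    have hr' : G.s r = u := by simpa using hr
    have h1 : r ∈ G.s ⁻¹' core G V := by
      show G.s r ∈ core G V
      rw [hr']
      exact huW₀
    rw [hinv₀] at h1
    exact ⟨hW₀V h1, h1⟩
  obtain ⟨f, hfW, hfO⟩ :=
    Groth.Agent.Helper4.SymOrbA.exists_basicOpen_le_of_finset hV W₀ O hO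
  set V' : G.U.Opens := G.U.basicOpen f with hV'def
  have hV' : IsAffineOpen V' := hV.basicOpen f
  haveI : IsAffine V'.toScheme := hV'
  haveI : IsAffine (G.s ⁻¹ᵁ V').toScheme := hV'.preimage G.s
  let φ : (G.s ⁻¹ᵁ V').toScheme ⟶ V'.toScheme := G.s ∣_ V'
  haveI : LocallyOfFinitePresentation φ := IsZariskiLocalAtTarget.restrict (P := @LocallyOfFinitePresentation)
    (inferInstance : LocallyOfFinitePresentation G.s) V'
  let ψ : (G.s ⁻¹ᵁ V').toScheme ⟶ G.U := (G.s ⁻¹ᵁ V').ι ≫ G.t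
  have hψ : ∀ x' : (G.s ⁻¹ᵁ V').toScheme, ψ x' = G.t x'.1 := fun x' => rfl
  have hle : (⊤ : (G.s ⁻¹ᵁ V').toScheme.Opens) ≤ ψ ⁻¹ᵁ V := by
    intro x' _
    show ψ x' ∈ V
    rw [hψ]
    have h1 : x'.1 ∈ G.s ⁻¹' core G V := hfW x'.2
    rw [hinv₀] at h1
    exact hW₀V h1
  let h : Γ((G.s ⁻¹ᵁ V').toScheme, ⊤) := ψ.appLE V ⊤ hle f
  have hh : ∀ x' : (G.s ⁻¹ᵁ V').toScheme,
      x' ∈ (G.s ⁻¹ᵁ V').toScheme.basicOpen h ↔ G.t x'.1 ∈ V' := by
    intro x'
    rw [Scheme.basicOpen_appLE]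
    simp only [TopologicalSpace.Opens.mem_inf, TopologicalSpace.Opens.mem_top, true_and]
    rfl
  obtain ⟨g, hg⟩ := exists_nrm φ h
  have hφ : ∀ x' : (G.s ⁻¹ᵁ V').toScheme, (φ x').1 = G.s x'.1 :=
    fun x' => morphismRestrict_base_coe G.s V' x'
  have hchar : ∀ x : G.U, x ∈ V'.ι ''ᵁ (V'.toScheme.basicOpen g) ↔ x ∈ core G V' := by
    intro x
    constructor
    · rintro ⟨y, hy, rfl⟩
      intro r hr
      have hrV : r ∈ G.s ⁻¹ᵁ V' := by
        show G.s r ∈ V'
        rw [hr]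
        exact y.2
      have := (hg y).mp hy ⟨r, hrV⟩ (Subtype.ext ((hφ _).trans hr))
      exact (hh ⟨r, hrV⟩).mp this
    · intro hx
      have hxV : x ∈ V' := core_subset G V' hx
      refine ⟨⟨x, hxV⟩, ?_, rfl⟩
      refine (hg ⟨x, hxV⟩).mpr fun x' hx' => ?_
      refine (hh x').mpr (hx x'.1 ?_)
      rw [← hφ, hx']
  refine ⟨V'.ι ''ᵁ (V'.toScheme.basicOpen g), ?_, ?_, ?_⟩
  · exact ((isAffineOpen_top V'.toScheme).basicOpen g).image_of_isOpenImmersion V'.ι
  · rw [hchar]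
    intro r hr
    exact hfO _ (hOmem r hr)
  · ext r
    show G.s r ∈ V'.ι ''ᵁ (V'.toScheme.basicOpen g) ↔ G.t r ∈ V'.ι ''ᵁ (V'.toScheme.basicOpen g)
    rw [hchar, hchar]
    have := core_invariant G (V' : Set G.U)
    exact Set.ext_iff.mp this r

end Groth.Agent.Helper8.GrpdNormB
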