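import Mathlib
import Groth.Agent.Helper8.PNorm

/-!
# Transitivity on points with values in an algebraically closed field (algebraic core)
-/

set_option autoImplicit false

namespace Groth.Agent.Helper8.PNormPt

open CategoryTheory CategoryTheory.Limits Polynomial
open Groth.Agent.Helper8

universe u

attribute [local instance] Polynomial.algebra

/-- The polynomial square of a ring homomorphism is a pushout. -/
theorem polySq {X Y : Type u} [CommRing X] [CommRing Y] (φ : X →+* Y) :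
    IsPushout (CommRingCat.ofHom (C : X →+* X[X])) (CommRingCat.ofHom φ)
      (CommRingCat.ofHom (mapRingHom φ)) (CommRingCat.ofHom (C : Y →+* Y[X])) := by
  letI := φ.toAlgebra
  exact CommRingCat.isPushout_iff_isPushout.mpr (inferInstance : Algebra.IsPushout X X[X] Y Y[X])

/-- Polynomial rings preserve pushout squares of commutative rings. -/
theorem isPushout_poly {A A' B P : Type u} [CommRing A] [CommRing A'] [CommRing B] [CommRing P]
    (ρ : A →+* A') (σ : A →+* B) (σ' : A' →+* P) (lam : B →+* P)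
    (h : IsPushout (CommRingCat.ofHom ρ) (CommRingCat.ofHom σ) (CommRingCat.ofHom σ')
      (CommRingCat.ofHom lam)) :
    IsPushout (CommRingCat.ofHom (mapRingHom ρ)) (CommRingCat.ofHom (mapRingHom σ))
      (CommRingCat.ofHom (mapRingHom σ')) (CommRingCat.ofHom (mapRingHom lam)) := by
  have hw : σ'.comp ρ = lam.comp σ := by
    have h2 := congrArg CommRingCat.Hom.hom h.w
    simpa using h2
  have big := h.paste_horiz (polySq σ')
  have e1 : CommRingCat.ofHom ρ ≫ CommRingCat.ofHom (C : A' →+* A'[X]) =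
      CommRingCat.ofHom (C : A →+* A[X]) ≫ CommRingCat.ofHom (mapRingHom ρ) := by
    ext x; simp
  have e2 : CommRingCat.ofHom lam ≫ CommRingCat.ofHom (C : P →+* P[X]) =
      CommRingCat.ofHom (C : B →+* B[X]) ≫ CommRingCat.ofHom (mapRingHom lam) := by
    ext x; simp
  rw [e1, e2] at big
  refine IsPushout.of_left big ?_ (polySq σ)
  rw [← CommRingCat.ofHom_comp, ← CommRingCat.ofHom_comp, mapRingHom_comp, mapRingHom_comp, hw]

section Lin

variable {A B : Type*} [CommRing A] [CommRing B] [Algebra A B] {n : ℕ}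
  (F : (Fin n → A) →ₗ[A] B) (Gm : B →ₗ[A] (Fin n → A))

theorem matOf_sum_smul {ι : Type*} (s : Finset ι) (p : ι → A) (b : ι → B) :
    PNorm.matOf F Gm (LinearMap.mulLeft A (∑ j ∈ s, p j • b j)) =
      ∑ j ∈ s, p j • PNorm.matOf F Gm (LinearMap.mulLeft A (b j)) := by
  ext i l
  rw [PNorm.matOf_apply, Matrix.sum_apply]
  simp only [LinearMap.mulLeft_apply, Finset.sum_mul, map_sum, Finset.sum_apply, smul_mul_assoc,
    map_smul, Pi.smul_apply, Matrix.smul_apply, PNorm.matOf_apply]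

end Lin

section Core

variable {A B P : Type u} [CommRing A] [CommRing B] [CommRing P] [Algebra A B] [Algebra B P]
  (τ : A →+* B) (lam₁ lam₂ : B →+* P)
  {n : ℕ} (F : (Fin n → A) →ₗ[A] B) (Gm : B →ₗ[A] (Fin n → A))

/-- The polynomial matrix `∑ⱼ Xʲ • mat (τ aⱼ)`. -/
noncomputable def polyMat (a : A[X]) : Matrix (Fin n) (Fin n) A[X] :=
  ∑ j ∈ a.support, (X ^ j : A[X]) • (PNorm.mat F Gm (τ (a.coeff j))).map C

theorem map_eq_sum (a : A[X]) :
    a.map τ = ∑ j ∈ a.support, (X ^ j : A[X]) • (C (τ (a.coeff j)) : B[X]) := by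
  conv_lhs => rw [a.as_sum_support, Polynomial.map_sum]
  refine Finset.sum_congr rfl fun j _ => ?_
  rw [Polynomial.map_monomial, Algebra.smul_def, Polynomial.algebraMap_def, coe_mapRingHom,
    Polynomial.map_pow, Polynomial.map_X, ← C_mul_X_pow_eq_monomial, mul_comm]

theorem poly_root
    (h₁ : IsPushout (CommRingCat.ofHom τ) (CommRingCat.ofHom (algebraMap A B))
      (CommRingCat.ofHom (algebraMap B P)) (CommRingCat.ofHom lam₁))
    (h₂ : IsPushout (CommRingCat.ofHom (algebraMap A B)) (CommRingCat.ofHom (algebraMap A B))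
      (CommRingCat.ofHom (algebraMap B P)) (CommRingCat.ofHom lam₂))
    (hlam : ∀ a, lam₁ (τ a) = lam₂ (τ a)) (hτ : Function.Injective τ)
    (hFG : F ∘ₗ Gm = LinearMap.id) (a : A[X]) :
    (∀ i j, τ (((polyMat τ F Gm a).charpoly.coeff i).coeff j) =
      algebraMap A B (((polyMat τ F Gm a).charpoly.coeff i).coeff j)) ∧
    (polyMat τ F Gm a).charpoly.eval a = 0 := by
  obtain ⟨F', G', hid, hm, -⟩ := PNorm.exists_baseChange (C : A →+* A[X]) (C : B →+* B[X])
    (polySq (algebraMap A B)) F Gm hFG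
  have hmat : PNorm.mat F' G' (a.map τ) = polyMat τ F Gm a := by
    unfold PNorm.mat polyMat
    rw [map_eq_sum, matOf_sum_smul]
    refine Finset.sum_congr rfl fun j _ => ?_
    rw [hm]
    rfl
  have h₁' := isPushout_poly τ (algebraMap A B) (algebraMap B P) lam₁ h₁
  have h₂' := isPushout_poly (algebraMap A B) (algebraMap A B) (algebraMap B P) lam₂ h₂
  have hβ : mapRingHom lam₁ (a.map τ) = mapRingHom lam₂ (a.map τ) := by
    simp only [coe_mapRingHom, Polynomial.map_map]
    ext j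
    simp [hlam]
  have hinv := (PNorm.invariance_core (A := A[X]) (B := B[X]) (P := P[X]) (mapRingHom τ)
    (mapRingHom lam₁) (mapRingHom lam₂) h₁' h₂' F' G' hid (a.map τ) hβ).1
  have hchi : PNorm.chi F' G' (a.map τ) = (polyMat τ F Gm a).charpoly := by
    unfold PNorm.chi
    rw [hmat]
  rw [hchi] at hinv
  constructor
  · intro i j
    have h := congrArg (fun q => (q.coeff i).coeff j) hinv
    simpa [Polynomial.coeff_map] using h
  · have h0 := PNorm.eval₂_chi F' G' hid (a.map τ)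
    rw [hchi, ← Polynomial.eval_map, ← hinv, Polynomial.eval_map] at h0
    have h1 : Polynomial.eval₂ (mapRingHom τ) (mapRingHom τ a) (polyMat τ F Gm a).charpoly = 0 := h0
    rw [Polynomial.eval₂_at_apply] at h1
    exact Polynomial.map_injective τ hτ (h1.trans (Polynomial.map_zero τ).symm)

end Core

section Eigen

variable {k B₁ : Type*} [Field k] [IsAlgClosed k] [CommRing B₁] [Algebra k B₁] {n : ℕ}
  (F₁ : (Fin n → k) →ₗ[k] B₁) (G₁ : B₁ →ₗ[k] (Fin n → k))

theorem exists_algHom_of_isRoot (hid : F₁ ∘ₗ G₁ = LinearMap.id) (β : B₁) (μ : k) (hμ : μ ≠ 0)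
    (hroot : (PNorm.matOf F₁ G₁ (LinearMap.mulLeft k β)).charpoly.eval μ = 0) :
    ∃ ρ : B₁ →ₐ[k] k, ρ β = μ := by
  set E : (Fin n → k) →ₗ[k] (Fin n → k) := G₁ ∘ₗ LinearMap.mulLeft k β ∘ₗ F₁ with hE
  have hch : (PNorm.matOf F₁ G₁ (LinearMap.mulLeft k β)).charpoly = E.charpoly := by
    rw [← LinearMap.charpoly_toMatrix E (Pi.basisFun k (Fin n)), LinearMap.toMatrix_eq_toMatrix']
    rfl
  rw [hch] at hroot
  have hev : Module.End.HasEigenvalue E μ :=
    (Module.End.hasEigenvalue_iff_isRoot_charpoly E μ).mpr hroot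
  obtain ⟨v, hv⟩ := hev.exists_hasEigenvector
  have hEv : E v = μ • v := hv.apply_eq_smul
  have hv0 : v ≠ 0 := hv.2
  have e1 : ∀ m, F₁ (G₁ m) = m := fun m => LinearMap.congr_fun hid m
  set w := F₁ v with hw
  have hβw : β * w = μ • w := by
    have := congrArg F₁ hEv
    simpa [hE, e1] using this
  have hw0 : w ≠ 0 := by
    intro h0
    have : E v = 0 := by simp [hE, ← hw, h0]
    rw [hEv] at this
    rcases smul_eq_zero.mp this with h | h
    · exact hμ h
    · exact hv0 h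
  have hnu : β - algebraMap k B₁ μ ∈ nonunits B₁ := by
    intro hu
    have h0 : (β - algebraMap k B₁ μ) * w = 0 := by
      rw [sub_mul, hβw, Algebra.smul_def, sub_self]
    exact hw0 ((hu.mul_right_eq_zero).mp h0)
  obtain ⟨𝔪, hmax, hmem⟩ := exists_max_ideal_of_mem_nonunits hnu
  haveI : Module.Finite k B₁ := by
    have hs : Function.Surjective F₁ := fun b => ⟨G₁ b, e1 b⟩
    exact Module.Finite.of_surjective F₁ hs
  letI : Field (B₁ ⧸ 𝔪) := Ideal.Quotient.field 𝔪
  haveI : Module.Finite k (B₁ ⧸ 𝔪) :=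
    Module.Finite.of_surjective (Ideal.Quotient.mkₐ k 𝔪).toLinearMap Ideal.Quotient.mk_surjective
  haveI : Algebra.IsIntegral k (B₁ ⧸ 𝔪) := Algebra.IsIntegral.of_finite k _
  have hbij : Function.Bijective (algebraMap k (B₁ ⧸ 𝔪)) :=
    IsAlgClosed.algebraMap_bijective_of_isIntegral
  let e : k ≃ₐ[k] (B₁ ⧸ 𝔪) := AlgEquiv.ofBijective (Algebra.ofId k (B₁ ⧸ 𝔪)) hbij
  refine ⟨(e.symm : (B₁ ⧸ 𝔪) →ₐ[k] k).comp (Ideal.Quotient.mkₐ k 𝔪), ?_⟩
  have h0 : (Ideal.Quotient.mkₐ k 𝔪) (β - algebraMap k B₁ μ) = 0 := by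
    simpa using Ideal.Quotient.eq_zero_iff_mem.mpr hmem
  have h1 : ((e.symm : (B₁ ⧸ 𝔪) →ₐ[k] k).comp (Ideal.Quotient.mkₐ k 𝔪))
      (β - algebraMap k B₁ μ) = 0 := by
    rw [AlgHom.comp_apply, h0, map_zero]
  rw [map_sub, AlgHom.commutes, sub_eq_zero] at h1
  simpa using h1

end Eigen


section Final

variable {A B P : Type u} [CommRing A] [CommRing B] [CommRing P] [Algebra A B] [Algebra B P]
  (τ : A →+* B) (lam₁ lam₂ : B →+* P)
  {n : ℕ} (F : (Fin n → A) →ₗ[A] B) (Gm : B →ₗ[A] (Fin n → A))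
  {k : Type u} [Field k] [IsAlgClosed k] (x₀ x₁ : A →+* k)
  {B₁ : Type u} [CommRing B₁] [Algebra k B₁] (lam : B →+* B₁)

include lam₁ lam₂ in
theorem exists_algHom_eval
    (h₁ : IsPushout (CommRingCat.ofHom τ) (CommRingCat.ofHom (algebraMap A B))
      (CommRingCat.ofHom (algebraMap B P)) (CommRingCat.ofHom lam₁))
    (h₂ : IsPushout (CommRingCat.ofHom (algebraMap A B)) (CommRingCat.ofHom (algebraMap A B))
      (CommRingCat.ofHom (algebraMap B P)) (CommRingCat.ofHom lam₂))
    (hlam : ∀ a, lam₁ (τ a) = lam₂ (τ a)) (hτ : Function.Injective τ)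
    (hFG : F ∘ₗ Gm = LinearMap.id)
    (hx : ∀ q, τ q = algebraMap A B q → x₀ q = x₁ q)
    (h₃ : IsPushout (CommRingCat.ofHom x₁) (CommRingCat.ofHom (algebraMap A B))
      (CommRingCat.ofHom (algebraMap k B₁)) (CommRingCat.ofHom lam))
    (a : A[X]) (c : k) (hc : (a.map x₀).eval c ≠ 0) :
    ∃ ρ : B₁ →ₐ[k] k,
      (a.map ((ρ : B₁ →+* k).comp (lam.comp τ))).eval c = (a.map x₀).eval c := by
  obtain ⟨F₁, G₁, hid₁, hm₁, -⟩ := PNorm.exists_baseChange x₁ lam h₃ F Gm hFG
  obtain ⟨hinv, hroot⟩ := poly_root τ lam₁ lam₂ F Gm h₁ h₂ hlam hτ hFG a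
  set M := polyMat τ F Gm a with hM
  set θ : A[X] →+* k := (evalRingHom c).comp (mapRingHom x₁) with hθ
  have hχ : M.charpoly.map (mapRingHom x₀) = M.charpoly.map (mapRingHom x₁) := by
    ext i j
    simp only [Polynomial.coeff_map, coe_mapRingHom]
    exact hx _ (hinv i j)
  have r1 : (M.charpoly.map (mapRingHom x₁)).eval (a.map x₀) = 0 := by
    rw [← hχ, Polynomial.eval_map]
    have : Polynomial.eval₂ (mapRingHom x₀) (mapRingHom x₀ a) M.charpoly = 0 := by
      rw [Polynomial.eval₂_at_apply, hroot, map_zero]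
    exact this
  have r2 : ((M.map θ).charpoly).eval ((a.map x₀).eval c) = 0 := by
    rw [Matrix.charpoly_map, hθ, ← Polynomial.map_map, Polynomial.eval_map]
    have : Polynomial.eval₂ (evalRingHom c) (evalRingHom c (a.map x₀))
        (M.charpoly.map (mapRingHom x₁)) = 0 := by
      rw [Polynomial.eval₂_at_apply, r1, map_zero]
    exact this
  set β : B₁ := (a.map (lam.comp τ)).eval (algebraMap k B₁ c) with hβ
  have hMθ : M.map θ = PNorm.matOf F₁ G₁ (LinearMap.mulLeft k β) := by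
    have e1 : β = ∑ j ∈ a.support, (c ^ j) • lam (τ (a.coeff j)) := by
      rw [hβ, Polynomial.eval_map, Polynomial.eval₂_eq_sum, Polynomial.sum_def]
      refine Finset.sum_congr rfl fun j _ => ?_
      rw [Algebra.smul_def, map_pow, mul_comm]
      rfl
    rw [e1, matOf_sum_smul, hM, polyMat]
    have hmapsum : ∀ (s : Finset ℕ) (g : ℕ → Matrix (Fin n) (Fin n) A[X]),
        (∑ j ∈ s, g j).map θ = ∑ j ∈ s, (g j).map θ := by
      intro s g
      ext i l
      simp [Matrix.sum_apply]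
    rw [hmapsum]
    refine Finset.sum_congr rfl fun j _ => ?_
    rw [hm₁]
    ext i l
    simp [hθ, PNorm.mat]
    exact mul_comm _ _
  rw [hMθ] at r2
  obtain ⟨ρ, hρ⟩ := exists_algHom_of_isRoot F₁ G₁ hid₁ β _ hc r2
  refine ⟨ρ, ?_⟩
  rw [← hρ, hβ, Polynomial.eval_map, Polynomial.eval_map]
  have := Polynomial.hom_eval₂ a (lam.comp τ) (ρ : B₁ →+* k) (algebraMap k B₁ c)
  rw [show ((ρ : B₁ →+* k) (algebraMap k B₁ c)) = c from by simp] at this
  exact this.symm

include lam₁ lam₂ in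
/-- Transitivity on `k`-points: two `k`-points of `A` agreeing on the invariants are related by a
`k`-point of the fibre. -/
theorem exists_algHom
    (h₁ : IsPushout (CommRingCat.ofHom τ) (CommRingCat.ofHom (algebraMap A B))
      (CommRingCat.ofHom (algebraMap B P)) (CommRingCat.ofHom lam₁))
    (h₂ : IsPushout (CommRingCat.ofHom (algebraMap A B)) (CommRingCat.ofHom (algebraMap A B))
      (CommRingCat.ofHom (algebraMap B P)) (CommRingCat.ofHom lam₂))
    (hlam : ∀ a, lam₁ (τ a) = lam₂ (τ a)) (hτ : Function.Injective τ)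
    (hFG : F ∘ₗ Gm = LinearMap.id)
    (hx : ∀ q, τ q = algebraMap A B q → x₀ q = x₁ q)
    (h₃ : IsPushout (CommRingCat.ofHom x₁) (CommRingCat.ofHom (algebraMap A B))
      (CommRingCat.ofHom (algebraMap k B₁)) (CommRingCat.ofHom lam)) :
    ∃ ρ : B₁ →ₐ[k] k, ∀ a, ρ (lam (τ a)) = x₀ a := by
  classical
  by_contra hne
  push Not at hne
  choose aρ haρ using hne
  obtain ⟨F₁, G₁, hid₁, -, -⟩ := PNorm.exists_baseChange x₁ lam h₃ F Gm hFG
  haveI : Module.Finite k B₁ := by
    have hs : Function.Surjective F₁ := fun b => ⟨G₁ b, LinearMap.congr_fun hid₁ b⟩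
    exact Module.Finite.of_surjective F₁ hs
  haveI : Finite (B₁ →ₐ[k] k) := Finite.algHom k B₁ k
  letI : Fintype (B₁ →ₐ[k] k) := Fintype.ofFinite _
  let e := Fintype.equivFin (B₁ →ₐ[k] k)
  let idx : (B₁ →ₐ[k] k) → ℕ := fun ρ => (e ρ : ℕ) + 1
  have hidx : Function.Injective idx := by
    intro ρ ρ' h
    have : (e ρ : ℕ) = e ρ' := Nat.succ_injective h
    exact e.injective (Fin.ext this)
  set a : A[X] := C 1 + ∑ ρ : B₁ →ₐ[k] k, monomial (idx ρ) (aρ ρ) with ha
  have hmap : ∀ ψ : A →+* k, a.map ψ = C 1 + ∑ ρ : B₁ →ₐ[k] k, monomial (idx ρ) (ψ (aρ ρ)) := by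
    intro ψ
    rw [ha, Polynomial.map_add, Polynomial.map_sum]
    simp
  have hcoeff0 : (a.map x₀).coeff 0 = 1 := by
    rw [hmap, Polynomial.coeff_add, Polynomial.finset_sum_coeff]
    simp [Polynomial.coeff_monomial, idx]
  have hne0 : a.map x₀ ≠ 0 := by
    intro h
    rw [h] at hcoeff0
    simp at hcoeff0
  let pp : (B₁ →ₐ[k] k) → k[X] := fun ρ' =>
    a.map x₀ - a.map ((ρ' : B₁ →+* k).comp (lam.comp τ))
  have hpp : ∀ ρ', pp ρ' ≠ 0 := by
    intro ρ' h
    have h2 := congrArg (fun q => q.coeff (idx ρ')) h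
    simp only [pp, hmap, Polynomial.coeff_sub, Polynomial.coeff_add, Polynomial.finset_sum_coeff,
      Polynomial.coeff_monomial, Polynomial.coeff_zero] at h2
    rw [Finset.sum_eq_single ρ', Finset.sum_eq_single ρ'] at h2
    · simp only [if_true] at h2
      apply haρ ρ'
      have h3 : x₀ (aρ ρ') = ρ' (lam (τ (aρ ρ'))) := by
        have := sub_eq_zero.mp h2
        simpa using this
      exact h3.symm
    · intro b _ hb
      rw [if_neg (fun h => hb (hidx h))]
    · intro h; exact absurd (Finset.mem_univ _) h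
    · intro b _ hb
      rw [if_neg (fun h => hb (hidx h))]
    · intro h; exact absurd (Finset.mem_univ _) h
  set Q : k[X] := a.map x₀ * ∏ ρ' : B₁ →ₐ[k] k, pp ρ' with hQ
  have hQ0 : Q ≠ 0 := mul_ne_zero hne0 (Finset.prod_ne_zero_iff.mpr fun ρ' _ => hpp ρ')
  have hQev : ∀ c : k, Q.eval c = 0 := by
    intro c
    rw [hQ, Polynomial.eval_mul]
    by_cases hc : (a.map x₀).eval c = 0
    · rw [hc, zero_mul]
    · obtain ⟨ρ', hρ'⟩ := exists_algHom_eval τ lam₁ lam₂ F Gm x₀ x₁ lam h₁ h₂ hlam hτ hFG hx h₃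
        a c hc
      rw [Polynomial.eval_prod, Finset.prod_eq_zero (Finset.mem_univ ρ'), mul_zero]
      simp only [pp, Polynomial.eval_sub, hρ', sub_self]
  exact hQ0 (Polynomial.funext fun c => by rw [hQev c, Polynomial.eval_zero])

end Final

end Groth.Agent.Helper8.PNormPt
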