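import Mathlib
import Groth.Prelude.Def_Grpd
import Groth.Agent.Helper2.Grpd1
import Groth.Agent.Helper2.Grpd2
import Groth.Agent.Helper8.PNorm
import Groth.Agent.Helper8.PNormPt
import Groth.Agent.Helper8.GrpdNormA
import Groth.Agent.Helper8.GrpdNormB

/-!
# The quotient map `U → Spec C` of a finite locally free groupoid: fibres and geometric points
-/

set_option autoImplicit false

namespace Groth.Agent.Helper8.GrpdQuot

open CategoryTheory CategoryTheory.Limits AlgebraicGeometry Grpd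
open Groth.Agent.Helper8

universe u

section Alg

/-- A ring homomorphism to an algebraically closed field extends along an injective integral
ring extension. -/
theorem exists_extension {C A k : Type*} [CommRing C] [CommRing A] [Algebra C A]
    [Algebra.IsIntegral C A] (hinj : Function.Injective (algebraMap C A)) [Field k] [IsAlgClosed k]
    (μ : C →+* k) : ∃ ν : A →+* k, ν.comp (algebraMap C A) = μ := by
  haveI : (RingHom.ker μ).IsPrime := RingHom.ker_isPrime μ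
  obtain ⟨Q, -, hQp, hQ⟩ := Ideal.exists_ideal_over_prime_of_isIntegral (S := A)
    (RingHom.ker μ) ⊥ (by
      rw [← RingHom.ker_eq_comap_bot, (RingHom.injective_iff_ker_eq_bot _).mp hinj]
      exact bot_le)
  haveI := hQp
  let μ' : (C ⧸ Q.comap (algebraMap C A)) →+* k :=
    Ideal.Quotient.lift _ μ (fun a ha => by rw [hQ] at ha; exact ha)
  have hμ' : Function.Injective μ' :=
    RingHom.lift_injective_of_ker_le_ideal _ _ (by rw [hQ])
  letI : Algebra (C ⧸ Q.comap (algebraMap C A)) k := μ'.toAlgebra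
  haveI : Module.IsTorsionFree (C ⧸ Q.comap (algebraMap C A)) k :=
    Module.isTorsionFree_iff_algebraMap_injective.mpr hμ'
  haveI : Module.IsTorsionFree (C ⧸ Q.comap (algebraMap C A)) (A ⧸ Q) :=
    Module.isTorsionFree_iff_algebraMap_injective.mpr Ideal.algebraMap_quotient_injective
  let f : (A ⧸ Q) →ₐ[C ⧸ Q.comap (algebraMap C A)] k := IsAlgClosed.lift
  refine ⟨(f : (A ⧸ Q) →+* k).comp (Ideal.Quotient.mk Q), ?_⟩
  ext c
  have h1 : (Ideal.Quotient.mk Q) (algebraMap C A c) =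
      algebraMap (C ⧸ Q.comap (algebraMap C A)) (A ⧸ Q) (Ideal.Quotient.mk _ c) := rfl
  simp only [RingHom.comp_apply]
  rw [h1]
  have h2 := f.commutes (Ideal.Quotient.mk _ c)
  rw [show ((f : (A ⧸ Q) →+* k) (algebraMap _ _ ((Ideal.Quotient.mk _) c))) = f (algebraMap _ _
    ((Ideal.Quotient.mk _) c)) from rfl, h2]
  rfl

end Alg

section Pt

variable {X : Scheme.{u}} [IsAffine X] {k : Type u} [Field k]

/-- The ring homomorphism of a `k`-point of an affine scheme. -/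
noncomputable def flat (x : Spec (CommRingCat.of k) ⟶ X) : Γ(X, ⊤) →+* k :=
  (x.appTop ≫ (Scheme.ΓSpecIso (CommRingCat.of k)).hom).hom

theorem pt_eq (x : Spec (CommRingCat.of k) ⟶ X) :
    x = Spec.map (CommRingCat.ofHom (flat x)) ≫ X.isoSpec.inv := by
  rw [Iso.eq_comp_inv, Scheme.isoSpec_hom, Scheme.toSpecΓ_naturality, ← SpecMap_ΓSpecIso_hom,
    ← Spec.map_comp]
  rfl

end Pt

variable {S : Scheme.{u}} (G : Grpd.GroupoidScheme S)

theorem t_toQuot : G.t ≫ G.toQuot = G.s ≫ G.toQuot := by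
  unfold GroupoidScheme.toQuot
  rw [← Category.assoc, ← Category.assoc, Scheme.toSpecΓ_naturality, Scheme.toSpecΓ_naturality,
    Category.assoc, Category.assoc, ← Spec.map_comp, ← Spec.map_comp]
  congr 2
  ext c
  exact c.2.symm

theorem toQuot_asIdeal (u : G.U) :
    (G.toQuot u).asIdeal = (G.U.toSpecΓ u).asIdeal.comap G.invariants.subtype := rfl

theorem toQuot_t_apply (r : G.R) : G.toQuot (G.t r) = G.toQuot (G.s r) := by
  rw [← Scheme.Hom.comp_apply, ← Scheme.Hom.comp_apply, t_toQuot]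

section Main

variable [IsAffine G.U] [IsAffine G.R] [IsFinite G.s] [Flat G.s] [LocallyOfFinitePresentation G.s]

/-- The norm of a function `f` on `U`: an invariant function whose non-vanishing locus is the set
of points whose whole orbit lies in the non-vanishing locus of `f`. -/
theorem exists_nrm_inv (f : Γ(G.U, ⊤)) :
    ∃ g ∈ G.invariants, ∀ u : G.U, g ∉ (G.U.toSpecΓ u).asIdeal ↔
      ∀ r : G.R, G.s r = u → f ∉ (G.U.toSpecΓ (G.t r)).asIdeal := by
  letI := G.s.appTop.hom.toAlgebra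
  letI : Algebra Γ(G.R, ⊤) Γ(pullback G.s G.t, ⊤) := (pullback.snd G.s G.t).appTop.hom.toAlgebra
  haveI : Module.Finite Γ(G.U, ⊤) Γ(G.R, ⊤) := GrpdNormA.finite_s G
  haveI : Module.Projective Γ(G.U, ⊤) Γ(G.R, ⊤) := GrpdNormA.projective_s G
  obtain ⟨n, F, Gm, -, -, hFG⟩ := Module.Finite.exists_comp_eq_id_of_projective Γ(G.U, ⊤) Γ(G.R, ⊤)
  refine ⟨PNorm.nrm F Gm (G.t.appTop.hom f), ?_, fun u => ?_⟩
  · have := (PNorm.invariance_core (A := Γ(G.U, ⊤)) (B := Γ(G.R, ⊤)) (P := Γ(pullback G.s G.t, ⊤))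
      G.t.appTop.hom (pullback.fst G.s G.t).appTop.hom G.c.appTop.hom (GrpdNormA.isPushout₁ G)
      (GrpdNormA.isPushout₂ G) F Gm hFG (G.t.appTop.hom f) (GrpdNormA.fst_t_eq_c_t G f)).2
    exact this.symm
  · constructor
    · intro hg r hr hmem
      apply hg
      rw [GrpdNormB.toSpecΓ_asIdeal_map G.t] at hmem
      have := PNorm.nrm_mem_of_mem F Gm hFG _ (G.R.toSpecΓ r).asIdeal rfl (G.t.appTop.hom f) hmem
      rw [← hr, GrpdNormB.toSpecΓ_asIdeal_map G.s]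
      exact this
    · intro hall hmem
      obtain ⟨q, hq, hqp, hhq⟩ :=
        PNorm.exists_prime_of_nrm_mem F Gm hFG (G.U.toSpecΓ u).asIdeal (G.t.appTop.hom f) hmem
      let r : G.R := (inv G.R.toSpecΓ) ⟨q, hq⟩
      have hr : G.R.toSpecΓ r = ⟨q, hq⟩ := by
        change (inv G.R.toSpecΓ ≫ G.R.toSpecΓ) ⟨q, hq⟩ = _
        rw [IsIso.inv_hom_id]
        rfl
      have hsr : G.s r = u := by
        apply GrpdNormB.injective_of_isIso G.U.toSpecΓ
        apply PrimeSpectrum.ext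
        rw [GrpdNormB.toSpecΓ_asIdeal_map G.s, hr]
        exact hqp
      apply hall r hsr
      rw [GrpdNormB.toSpecΓ_asIdeal_map G.t, hr]
      exact hhq

theorem toQuot_surjective : Function.Surjective G.toQuot := by
  intro m
  haveI : Algebra.IsIntegral G.invariants Γ(G.U, ⊤) := GrpdNormA.isIntegral G
  obtain ⟨Q, -, hQp, hQ⟩ := Ideal.exists_ideal_over_prime_of_isIntegral
    (R := G.invariants) (S := Γ(G.U, ⊤)) m.asIdeal ⊥ (by
      rw [← RingHom.ker_eq_comap_bot, (RingHom.injective_iff_ker_eq_bot _).mp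
        (Subtype.val_injective : Function.Injective (algebraMap G.invariants Γ(G.U, ⊤)))]
      exact bot_le)
  let u : G.U := (inv G.U.toSpecΓ) ⟨Q, hQp⟩
  have hu : G.U.toSpecΓ u = ⟨Q, hQp⟩ := by
    change (inv G.U.toSpecΓ ≫ G.U.toSpecΓ) ⟨Q, hQp⟩ = _
    rw [IsIso.inv_hom_id]
    rfl
  refine ⟨u, ?_⟩
  apply PrimeSpectrum.ext
  rw [toQuot_asIdeal, hu]
  exact hQ

theorem exists_of_toQuot_eq (u₀ u₁ : G.U) (h : G.toQuot u₀ = G.toQuot u₁) :
    ∃ r : G.R, G.t r = u₀ ∧ G.s r = u₁ := by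
  classical
  by_contra hno
  haveI : Algebra.IsIntegral G.invariants Γ(G.U, ⊤) := GrpdNormA.isIntegral G
  have hC : ∀ c : Γ(G.U, ⊤), c ∈ G.invariants →
      (c ∈ (G.U.toSpecΓ u₀).asIdeal ↔ c ∈ (G.U.toSpecΓ u₁).asIdeal) := by
    intro c hc
    have h1 := congrArg PrimeSpectrum.asIdeal h
    rw [toQuot_asIdeal, toQuot_asIdeal] at h1
    have h2 := Ideal.ext_iff.mp h1 ⟨c, hc⟩
    simpa [Ideal.mem_comap] using h2
  let O₀ : Finset G.U := (G.s.finite_preimage_singleton u₀).toFinset.image G.t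
  have hO₀ : ∀ r : G.R, G.s r = u₀ → G.t r ∈ O₀ := by
    intro r hr
    refine Finset.mem_image.mpr ⟨r, ?_, rfl⟩
    simpa using hr
  have hnle : ¬ ∃ x ∈ O₀, (G.U.toSpecΓ u₁).asIdeal ≤ (G.U.toSpecΓ x).asIdeal := by
    rintro ⟨x, hx, hle⟩
    obtain ⟨r, hr, rfl⟩ := Finset.mem_image.mp hx
    have hr' : G.s r = u₀ := by simpa using hr
    have hq : G.toQuot (G.t r) = G.toQuot u₁ := by rw [toQuot_t_apply, hr', h]
    have hq' := congrArg PrimeSpectrum.asIdeal hq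
    rw [toQuot_asIdeal, toQuot_asIdeal] at hq'
    have heq : (G.U.toSpecΓ u₁).asIdeal = (G.U.toSpecΓ (G.t r)).asIdeal := by
      rcases lt_or_eq_of_le hle with hlt | heq
      · exfalso
        have := Ideal.IsIntegral.comap_lt_comap (R := G.invariants) hlt
        exact (ne_of_lt this) hq'.symm
      · exact heq
    have hx1 : u₁ = G.t r := by
      apply GrpdNormB.injective_of_isIso G.U.toSpecΓ
      exact PrimeSpectrum.ext heq
    exact hno ⟨G.i r, by rw [GrpdNormB.i_t_apply, hr'], by rw [GrpdNormB.i_s_apply, ← hx1]⟩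
  have hns : ¬ (((G.U.toSpecΓ u₁).asIdeal : Set Γ(G.U, ⊤)) ⊆
      ⋃ x ∈ (O₀ : Set G.U), ((G.U.toSpecΓ x).asIdeal : Set Γ(G.U, ⊤))) := by
    rw [Ideal.subset_union_prime u₁ u₁ (fun x _ _ _ => (G.U.toSpecΓ x).isPrime)]
    exact hnle
  obtain ⟨f, hf1, hf2⟩ := Set.not_subset.mp hns
  obtain ⟨g, hgC, hg⟩ := exists_nrm_inv G f
  have hg1 : g ∈ (G.U.toSpecΓ u₁).asIdeal := by
    by_contra hgn
    have := (hg u₁).mp hgn (G.e u₁) (GrpdNormB.e_s_apply G u₁)
    rw [GrpdNormB.e_t_apply] at this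
    exact this hf1
  have hg0 : g ∉ (G.U.toSpecΓ u₀).asIdeal := by
    refine (hg u₀).mpr fun r hr hmem => hf2 ?_
    simp only [Set.mem_iUnion]
    exact ⟨G.t r, Finset.mem_coe.mpr (hO₀ r hr), hmem⟩
  exact hg0 ((hC g hgC).mpr hg1)


variable {k : Type u} [Field k] [IsAlgClosed k]

omit [IsAffine G.R] [IsFinite G.s] [Flat G.s] [LocallyOfFinitePresentation G.s] [IsAlgClosed k] in
theorem comp_toQuot (x : Spec (CommRingCat.of k) ⟶ G.U) :
    x ≫ G.toQuot = Spec.map (CommRingCat.ofHom ((flat x).comp G.invariants.subtype)) := by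
  unfold GroupoidScheme.toQuot
  rw [← Category.assoc, Scheme.toSpecΓ_naturality, ← SpecMap_ΓSpecIso_hom, ← Spec.map_comp,
    ← Spec.map_comp]
  rfl

theorem exists_lift (m : Spec (CommRingCat.of k) ⟶ Spec (CommRingCat.of G.invariants)) :
    ∃ x : Spec (CommRingCat.of k) ⟶ G.U, x ≫ G.toQuot = m := by
  haveI : Algebra.IsIntegral G.invariants Γ(G.U, ⊤) := GrpdNormA.isIntegral G
  obtain ⟨ν, hν⟩ := exists_extension (C := G.invariants) (A := Γ(G.U, ⊤)) (k := k)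
    Subtype.val_injective (Spec.preimage m).hom
  refine ⟨Spec.map (CommRingCat.ofHom ν) ≫ G.U.isoSpec.inv, ?_⟩
  unfold GroupoidScheme.toQuot
  rw [Category.assoc, ← Category.assoc G.U.isoSpec.inv, Scheme.isoSpec_inv_toSpecΓ,
    Category.id_comp, ← Spec.map_comp]
  conv_rhs => rw [← Spec.map_preimage m]
  congr 1
  ext c
  exact RingHom.congr_fun hν c

theorem exists_point_of_toQuot_eq (x₀ x₁ : Spec (CommRingCat.of k) ⟶ G.U)
    (h : x₀ ≫ G.toQuot = x₁ ≫ G.toQuot) :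
    ∃ r : Spec (CommRingCat.of k) ⟶ G.R, r ≫ G.t = x₀ ∧ r ≫ G.s = x₁ := by
  letI := G.s.appTop.hom.toAlgebra
  letI : Algebra Γ(G.R, ⊤) Γ(pullback G.s G.t, ⊤) := (pullback.snd G.s G.t).appTop.hom.toAlgebra
  haveI : Module.Finite Γ(G.U, ⊤) Γ(G.R, ⊤) := GrpdNormA.finite_s G
  haveI : Module.Projective Γ(G.U, ⊤) Γ(G.R, ⊤) := GrpdNormA.projective_s G
  obtain ⟨n, F, Gm, -, -, hFG⟩ := Module.Finite.exists_comp_eq_id_of_projective Γ(G.U, ⊤) Γ(G.R, ⊤)
  have hx : ∀ q : Γ(G.U, ⊤), G.t.appTop.hom q = algebraMap Γ(G.U, ⊤) Γ(G.R, ⊤) q →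
      flat x₀ q = flat x₁ q := by
    intro q hq
    rw [comp_toQuot, comp_toQuot] at h
    have h2 := Spec.map_injective h
    have h3 := congrArg (fun φ => φ.hom ⟨q, hq.symm⟩) h2
    exact h3
  letI : Algebra Γ(G.U, ⊤) k := (flat x₁).toAlgebra
  have h₃ := CommRingCat.isPushout_tensorProduct Γ(G.U, ⊤) k Γ(G.R, ⊤)
  obtain ⟨ρ, hρ⟩ := PNormPt.exists_algHom (A := Γ(G.U, ⊤)) (B := Γ(G.R, ⊤))
    (P := Γ(pullback G.s G.t, ⊤)) G.t.appTop.hom (pullback.fst G.s G.t).appTop.hom G.c.appTop.hom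
    F Gm (flat x₀) (flat x₁)
    (Algebra.TensorProduct.includeRight.toRingHom :
      Γ(G.R, ⊤) →+* TensorProduct Γ(G.U, ⊤) k Γ(G.R, ⊤))
    (GrpdNormA.isPushout₁ G) (GrpdNormA.isPushout₂ G) (GrpdNormA.fst_t_eq_c_t G)
    (GrpdNormA.t_appTop_injective G) hFG hx h₃
  let r' : Γ(G.R, ⊤) →+* k := (ρ : TensorProduct Γ(G.U, ⊤) k Γ(G.R, ⊤) →+* k).comp
    Algebra.TensorProduct.includeRight.toRingHom
  refine ⟨Spec.map (CommRingCat.ofHom r') ≫ G.R.isoSpec.inv, ?_, ?_⟩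
  · rw [Category.assoc, ← Scheme.isoSpec_inv_naturality, ← Category.assoc, ← Spec.map_comp]
    conv_rhs => rw [pt_eq x₀]
    congr 2
    ext a
    exact hρ a
  · rw [Category.assoc, ← Scheme.isoSpec_inv_naturality, ← Category.assoc, ← Spec.map_comp]
    conv_rhs => rw [pt_eq x₁]
    congr 2
    ext a
    show ρ ((1 : k) ⊗ₜ[Γ(G.U, ⊤)] (algebraMap Γ(G.U, ⊤) Γ(G.R, ⊤) a)) = flat x₁ a
    have e1 : (1 : k) ⊗ₜ[Γ(G.U, ⊤)] (algebraMap Γ(G.U, ⊤) Γ(G.R, ⊤) a) =
        algebraMap k (TensorProduct Γ(G.U, ⊤) k Γ(G.R, ⊤)) (flat x₁ a) := by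
      rw [Algebra.TensorProduct.algebraMap_apply, Algebra.algebraMap_eq_smul_one,
        ← TensorProduct.smul_tmul, Algebra.smul_def, mul_one]
      rfl
    rw [e1, AlgHom.commutes]
    rfl

variable [IsFinite G.t] [Flat G.t] [LocallyOfFinitePresentation G.t]

include G in
theorem main : (Function.Surjective G.toQuot ∧ ∀ u₀ u₁ : G.U, G.toQuot u₀ = G.toQuot u₁ ↔
      ∃ r : G.R, G.t r = u₀ ∧ G.s r = u₁) ∧
    ∀ (k : Type u) [Field k] [IsAlgClosed k],
      (∀ m : Spec (CommRingCat.of k) ⟶ Spec (CommRingCat.of G.invariants),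
        ∃ x : Spec (CommRingCat.of k) ⟶ G.U, x ≫ G.toQuot = m) ∧
      ∀ x₀ x₁ : Spec (CommRingCat.of k) ⟶ G.U, x₀ ≫ G.toQuot = x₁ ≫ G.toQuot ↔
        ∃ r : Spec (CommRingCat.of k) ⟶ G.R, r ≫ G.t = x₀ ∧ r ≫ G.s = x₁ := by
  refine ⟨⟨toQuot_surjective G, fun u₀ u₁ => ⟨exists_of_toQuot_eq G u₀ u₁, ?_⟩⟩, fun k _ _ =>
    ⟨exists_lift G, fun x₀ x₁ => ⟨exists_point_of_toQuot_eq G x₀ x₁, ?_⟩⟩⟩
  · rintro ⟨r, rfl, rfl⟩
    exact toQuot_t_apply G r
  · rintro ⟨r, rfl, rfl⟩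
    rw [Category.assoc, Category.assoc, t_toQuot]

end Main

end Groth.Agent.Helper8.GrpdQuot
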