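import Mathlib
import Groth.Prelude.Def_Grpd
import Groth.Agent.Helper2.Grpd1
import Groth.Agent.Helper2.Grpd19
import Groth.Agent.Helper2.Grpd23
import Groth.Agent.Helper8.GrpdQuot
import Groth.Agent.Helper8.GrpdNormA
import Groth.Agent.Helper8.GrpdNormB
import Groth.Agent.Helper7.GQ9

/-!
# Quotients by finite locally free groupoids: the restriction to an invariant affine open

For an open `W` of `U` we compare the restricted groupoid `restrict G W.ι` (helper2's `Grpd23`) with
the open subschemes `W ⊆ U`, `O W = s⁻¹W ∩ t⁻¹W ⊆ R`.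
-/

set_option autoImplicit false
universe u

namespace Groth.Agent.Helper8.GrpdGlue

open CategoryTheory CategoryTheory.Limits AlgebraicGeometry Grpd
open Groth.Agent.Helper2 Groth.Agent.Helper2.Grpd23

variable {S : Scheme.{u}} (G : Grpd.GroupoidScheme S)

/-- an open of `U` is invariant if `s⁻¹W = t⁻¹W` (pointwise form) -/
def IsInv (W : G.U.Opens) : Prop := ∀ r : G.R, G.s r ∈ W ↔ G.t r ∈ W

/-- `s⁻¹W ∩ t⁻¹W` -/
def O (W : G.U.Opens) : G.R.Opens := G.s ⁻¹ᵁ W ⊓ G.t ⁻¹ᵁ W

/-- the restricted groupoid -/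
noncomputable abbrev GW (W : G.U.Opens) : Grpd.GroupoidScheme S := Grpd23.restrict G W.ι

variable {G}

theorem mem_O {W : G.U.Opens} {r : G.R} : r ∈ O G W ↔ G.s r ∈ W ∧ G.t r ∈ W := Iff.rfl

theorem O_mono {W₁ W₂ : G.U.Opens} (h : W₁ ≤ W₂) : O G W₁ ≤ O G W₂ :=
  fun _ hr => ⟨h hr.1, h hr.2⟩

theorem IsInv.inf {W W' : G.U.Opens} (h : IsInv G W) (h' : IsInv G W') : IsInv G (W ⊓ W') :=
  fun r => and_congr (h r) (h' r)

theorem IsInv.preimage {W : G.U.Opens} (h : IsInv G W) : G.s ⁻¹ᵁ W = G.t ⁻¹ᵁ W := by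
  ext r
  exact h r

theorem IsInv.O_eq {W : G.U.Opens} (h : IsInv G W) : O G W = G.s ⁻¹ᵁ W := by
  ext r
  exact ⟨fun hr => hr.1, fun hr => ⟨hr, (h r).mp hr⟩⟩

theorem IsInv.of_comp {Z : Scheme.{u}} (f : G.U ⟶ Z) (hf : G.s ≫ f = G.t ≫ f) (V : Z.Opens) :
    IsInv G (f ⁻¹ᵁ V) := by
  intro r
  show f (G.s r) ∈ V ↔ f (G.t r) ∈ V
  rw [← Scheme.Hom.comp_apply, ← Scheme.Hom.comp_apply, hf]

variable (G)

theorem s_i_apply (r : G.R) : G.s (G.i r) = G.t r := by
  rw [← Scheme.Hom.comp_apply, G.i_s]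

theorem t_i_apply (r : G.R) : G.t (G.i r) = G.s r := by
  rw [← Scheme.Hom.comp_apply, G.i_t]

theorem isFinite_t [IsFinite G.s] : IsFinite G.t := by
  rw [← G.i_s]; infer_instance

theorem flat_t [Flat G.s] : Flat G.t := by
  rw [← G.i_s]; infer_instance

theorem lfp_t [LocallyOfFinitePresentation G.s] : LocallyOfFinitePresentation G.t := by
  rw [← G.i_s]; infer_instance

section Restr

variable (W : G.U.Opens)

instance : IsOpenImmersion (π G W.ι) := by
  unfold π
  infer_instance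

theorem π_s_apply (r' : ↥(R' G W.ι)) : G.s (π G W.ι r') = (s' G W.ι r').1 := by
  rw [← Scheme.Hom.comp_apply, π_s, Scheme.Hom.comp_apply]
  rfl

theorem π_t_apply (r' : ↥(R' G W.ι)) : G.t (π G W.ι r') = (t' G W.ι r').1 := by
  rw [← Scheme.Hom.comp_apply, π_t, Scheme.Hom.comp_apply]
  rfl

theorem exists_π_eq (r : G.R) (hr : r ∈ O G W) : ∃ r' : ↥(R' G W.ι), π G W.ι r' = r := by
  obtain ⟨z₁, hz₁, hz₁'⟩ := Scheme.Pullback.exists_preimage_pullback (f := W.ι) (g := G.t)
    ⟨G.t r, hr.2⟩ r rfl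
  obtain ⟨z₂, hz₂, hz₂'⟩ := Scheme.Pullback.exists_preimage_pullback
    (f := pullback.snd W.ι G.t ≫ G.s) (g := W.ι) z₁ ⟨G.s r, hr.1⟩ (by
      rw [Scheme.Hom.comp_apply, hz₁']
      rfl)
  refine ⟨z₂, ?_⟩
  unfold π
  rw [Scheme.Hom.comp_apply, hz₂, hz₁']

theorem opensRange_π : (π G W.ι).opensRange = O G W := by
  ext r
  constructor
  · rintro ⟨r', rfl⟩
    refine mem_O.mpr ⟨?_, ?_⟩
    · rw [π_s_apply]; exact (s' G W.ι r').2
    · rw [π_t_apply]; exact (t' G W.ι r').2
  · intro hr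
    exact exists_π_eq G W r hr

variable {W}

theorem sq_s (hW : IsInv G W) : IsPullback (π G W.ι) (s' G W.ι) G.s W.ι :=
  (IsOpenImmersion.isPullback (s' G W.ι) (π G W.ι) W.ι G.s (π_s G W.ι) (by
    rw [Scheme.Opens.opensRange_ι, opensRange_π, hW.O_eq])).flip

theorem sq_t (hW : IsInv G W) : IsPullback (π G W.ι) (t' G W.ι) G.t W.ι :=
  (IsOpenImmersion.isPullback (t' G W.ι) (π G W.ι) W.ι G.t (π_t G W.ι) (by
    rw [Scheme.Opens.opensRange_ι, opensRange_π, hW.O_eq, hW.preimage])).flip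

theorem isFinite_s' (hW : IsInv G W) [IsFinite G.s] : IsFinite (GW G W).s :=
  MorphismProperty.of_isPullback (P := @IsFinite) (sq_s G hW) inferInstance

theorem flat_s' (hW : IsInv G W) [Flat G.s] : Flat (GW G W).s :=
  MorphismProperty.of_isPullback (P := @Flat) (sq_s G hW) inferInstance

theorem lfp_s' (hW : IsInv G W) [LocallyOfFinitePresentation G.s] :
    LocallyOfFinitePresentation (GW G W).s :=
  MorphismProperty.of_isPullback (P := @LocallyOfFinitePresentation) (sq_s G hW) inferInstance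

theorem isFinite_t' (hW : IsInv G W) [IsFinite G.s] : IsFinite (GW G W).t :=
  MorphismProperty.of_isPullback (P := @IsFinite) (sq_t G hW) (isFinite_t G)

theorem flat_t' (hW : IsInv G W) [Flat G.s] : Flat (GW G W).t :=
  MorphismProperty.of_isPullback (P := @Flat) (sq_t G hW) (flat_t G)

theorem lfp_t' (hW : IsInv G W) [LocallyOfFinitePresentation G.s] :
    LocallyOfFinitePresentation (GW G W).t :=
  MorphismProperty.of_isPullback (P := @LocallyOfFinitePresentation) (sq_t G hW) (lfp_t G)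

theorem isAffine_U' (hA : IsAffineOpen W) : IsAffine (GW G W).U := hA

theorem isAffine_R' (hW : IsInv G W) (hA : IsAffineOpen W) [IsFinite G.s] : IsAffine (GW G W).R := by
  haveI := isFinite_s' G hW
  haveI : IsAffine (GW G W).U := hA
  exact isAffine_of_isAffineHom (GW G W).s

end Restr

section Loc

variable (W : G.U.Opens)

/-- restriction of `s` to `O W ⟶ W` -/
noncomputable def sW : (O G W).toScheme ⟶ W.toScheme := G.s.resLE W (O G W) inf_le_left

/-- restriction of `t` to `O W ⟶ W` -/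
noncomputable def tW : (O G W).toScheme ⟶ W.toScheme := G.t.resLE W (O G W) inf_le_right

theorem sW_ι : sW G W ≫ W.ι = (O G W).ι ≫ G.s := Scheme.Hom.resLE_comp_ι _ _

theorem tW_ι : tW G W ≫ W.ι = (O G W).ι ≫ G.t := Scheme.Hom.resLE_comp_ι _ _

theorem sW_apply (r : ↥(O G W)) : (sW G W r).1 = G.s r.1 := Scheme.Hom.coe_resLE_apply ..

theorem tW_apply (r : ↥(O G W)) : (tW G W r).1 = G.t r.1 := Scheme.Hom.coe_resLE_apply ..

/-- the arrows of the restricted groupoid are the open subscheme `O W` of `R` -/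
noncomputable def θ : R' G W.ι ≅ (O G W).toScheme :=
  IsOpenImmersion.isoOfRangeEq (π G W.ι) (O G W).ι (by
    rw [Scheme.Opens.range_ι, ← opensRange_π]; rfl)

theorem θ_ι : (θ G W).hom ≫ (O G W).ι = π G W.ι := by
  unfold θ
  exact IsOpenImmersion.isoOfRangeEq_hom_fac _ _ _

theorem θ_sW : (θ G W).hom ≫ sW G W = s' G W.ι := by
  rw [← cancel_mono W.ι, Category.assoc, sW_ι, ← Category.assoc, θ_ι]
  exact π_s G W.ι

theorem θ_tW : (θ G W).hom ≫ tW G W = t' G W.ι := by
  rw [← cancel_mono W.ι, Category.assoc, tW_ι, ← Category.assoc, θ_ι]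
  exact π_t G W.ι

theorem mem_inv_iff (a : Γ(W.toScheme, ⊤)) :
    a ∈ (GW G W).invariants ↔ (sW G W).appTop.hom a = (tW G W).appTop.hom a := by
  have hs : (s' G W.ι).appTop = (sW G W).appTop ≫ (θ G W).hom.appTop := by
    rw [← Scheme.Hom.comp_appTop, θ_sW]
  have ht : (t' G W.ι).appTop = (tW G W).appTop ≫ (θ G W).hom.appTop := by
    rw [← Scheme.Hom.comp_appTop, θ_tW]
  haveI : IsIso (θ G W).hom.appTop := inferInstanceAs (IsIso ((θ G W).hom.app ⊤))
  have hinj : Function.Injective (θ G W).hom.appTop.hom :=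
    (ConcreteCategory.bijective_of_isIso (θ G W).hom.appTop).1
  show (s' G W.ι).appTop.hom a = (t' G W.ι).appTop.hom a ↔ _
  rw [hs, ht]
  exact hinj.eq_iff

theorem j_fst : G.j ≫ pullback.fst G.pU G.pU = G.t := by
  unfold GroupoidScheme.j
  exact pullback.lift_fst _ _ _

theorem j_snd : G.j ≫ pullback.snd G.pU G.pU = G.s := by
  unfold GroupoidScheme.j
  exact pullback.lift_snd _ _ _

theorem mono_aux [Mono G.j] {T : Scheme.{u}} (α β : T ⟶ R' G W.ι)
    (ht : α ≫ t' G W.ι = β ≫ t' G W.ι) (hs : α ≫ s' G W.ι = β ≫ s' G W.ι) : α = β := by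
  have hπ : α ≫ π G W.ι = β ≫ π G W.ι := by
    rw [← cancel_mono G.j]
    apply pullback.hom_ext
    · rw [Category.assoc, Category.assoc, Category.assoc, Category.assoc, j_fst, π_t,
        ← Category.assoc, ← Category.assoc, ht]
    · rw [Category.assoc, Category.assoc, Category.assoc, Category.assoc, j_snd, π_s,
        ← Category.assoc, ← Category.assoc, hs]
  exact hom_ext' ht hπ hs

theorem mono_j' [Mono G.j] : Mono (GW G W).j := by
  constructor
  intro T α β h
  have ht : α ≫ (GW G W).t = β ≫ (GW G W).t := by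
    have := congrArg (· ≫ pullback.fst (GW G W).pU (GW G W).pU) h
    simp only [Category.assoc] at this
    rwa [j_fst] at this
  have hs : α ≫ (GW G W).s = β ≫ (GW G W).s := by
    have := congrArg (· ≫ pullback.snd (GW G W).pU (GW G W).pU) h
    simp only [Category.assoc] at this
    rwa [j_snd] at this
  exact mono_aux G W α β ht hs

variable {W}
variable [IsFinite G.s] [Flat G.s] [LocallyOfFinitePresentation G.s]

theorem toQuot_surjective (hW : IsInv G W) (hA : IsAffineOpen W) :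
    Function.Surjective (GW G W).toQuot := by
  haveI := isAffine_U' G hA
  haveI := isAffine_R' G hW hA
  haveI := isFinite_s' G hW
  haveI := flat_s' G hW
  haveI := lfp_s' G hW
  exact GrpdQuot.toQuot_surjective (GW G W)

theorem toQuot_eq_iff (hW : IsInv G W) (hA : IsAffineOpen W) (x y : W.toScheme) :
    (GW G W).toQuot x = (GW G W).toQuot y ↔ ∃ r : G.R, G.s r = x.1 ∧ G.t r = y.1 := by
  haveI := isAffine_U' G hA
  haveI := isAffine_R' G hW hA
  haveI := isFinite_s' G hW
  haveI := flat_s' G hW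
  haveI := lfp_s' G hW
  constructor
  · intro h
    obtain ⟨r', hr't, hr's⟩ := GrpdQuot.exists_of_toQuot_eq (GW G W) y x h.symm
    refine ⟨π G W.ι r', ?_, ?_⟩
    · rw [π_s_apply]; exact congrArg Subtype.val hr's
    · rw [π_t_apply]; exact congrArg Subtype.val hr't
  · rintro ⟨r, hs, ht⟩
    obtain ⟨r', rfl⟩ := exists_π_eq G W r
      ⟨by show G.s r ∈ W; rw [hs]; exact x.2, by show G.t r ∈ W; rw [ht]; exact y.2⟩
    have h1 : (GW G W).s r' = x := Subtype.ext ((π_s_apply G W r').symm.trans hs)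
    have h2 : (GW G W).t r' = y := Subtype.ext ((π_t_apply G W r').symm.trans ht)
    have := GrpdQuot.toQuot_t_apply (GW G W) r'
    rw [h1, h2] at this
    exact this.symm

theorem isIntegralHom_toQuot (hW : IsInv G W) (hA : IsAffineOpen W) :
    IsIntegralHom (GW G W).toQuot := by
  haveI := isAffine_U' G hA
  haveI := isAffine_R' G hW hA
  haveI := isFinite_s' G hW
  haveI := flat_s' G hW
  haveI := lfp_s' G hW
  haveI : Algebra.IsIntegral (GW G W).invariants Γ((GW G W).U, ⊤) := GrpdNormA.isIntegral _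
  unfold GroupoidScheme.toQuot
  rw [MorphismProperty.cancel_left_of_respectsIso @IsIntegralHom, IsIntegralHom.SpecMap_iff]
  intro x
  exact Algebra.IsIntegral.isIntegral (R := (GW G W).invariants) x

theorem exists_geom_point (hW : IsInv G W) (hA : IsAffineOpen W) {k : Type u} [Field k]
    [IsAlgClosed k] (x y : Spec (CommRingCat.of k) ⟶ W.toScheme)
    (h : x ≫ (GW G W).toQuot = y ≫ (GW G W).toQuot) :
    ∃ r : Spec (CommRingCat.of k) ⟶ G.R, r ≫ G.t = x ≫ W.ι ∧ r ≫ G.s = y ≫ W.ι := by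
  haveI := isAffine_U' G hA
  haveI := isAffine_R' G hW hA
  haveI := isFinite_s' G hW
  haveI := flat_s' G hW
  haveI := lfp_s' G hW
  obtain ⟨r', h1, h2⟩ := GrpdQuot.exists_point_of_toQuot_eq (GW G W) x y h
  let r'' : Spec (CommRingCat.of k) ⟶ R' G W.ι := r'
  have h1' : r'' ≫ t' G W.ι = x := h1
  have h2' : r'' ≫ s' G W.ι = y := h2
  refine ⟨r'' ≫ π G W.ι, ?_, ?_⟩
  · rw [Category.assoc, π_t, ← Category.assoc, h1']
  · rw [Category.assoc, π_s, ← Category.assoc, h2']

theorem mono_case (hW : IsInv G W) (hA : IsAffineOpen W) [Mono G.j] :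
    (IsFinite (GW G W).toQuot ∧ Flat (GW G W).toQuot ∧
      LocallyOfFinitePresentation (GW G W).toQuot) ∧
    IsPullback (GW G W).t (GW G W).s (GW G W).toQuot (GW G W).toQuot := by
  haveI := isAffine_U' G hA
  haveI := isAffine_R' G hW hA
  haveI := isFinite_s' G hW
  haveI := flat_s' G hW
  haveI := lfp_s' G hW
  haveI := isFinite_t' G hW
  haveI := flat_t' G hW
  haveI := lfp_t' G hW
  haveI := mono_j' G W
  exact ⟨(Groth.Agent.Helper7.GQ8.main (GW G W)).1, Groth.Agent.Helper7.GQ8.isPullback_toQuot (GW G W)⟩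

end Loc

end Groth.Agent.Helper8.GrpdGlue
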