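import Mathlib
import Groth.Agent.Helper8.GrpdGlueA

/-!
# Quotients by finite locally free groupoids: the local quotients and their transition maps
-/

set_option autoImplicit false
universe u

namespace Groth.Agent.Helper8.GrpdGlue

open CategoryTheory CategoryTheory.Limits AlgebraicGeometry Grpd
open Groth.Agent.Helper2 Groth.Agent.Helper2.Grpd23

section General

set_option backward.isDefEq.respectTransparency false in
/-- a morphism which is injective and, locally on the source, an open immersion, is an open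
immersion -/
theorem isOpenImmersion_of_local {X Y : Scheme.{u}} (f : X ⟶ Y) (hinj : Function.Injective f)
    (H : ∀ x : X, ∃ (T : Scheme.{u}) (j : T ⟶ X), IsOpenImmersion j ∧ IsOpenImmersion (j ≫ f) ∧
      x ∈ Set.range j) : IsOpenImmersion f := by
  have hopen : IsOpenMap f := by
    intro O hO
    rw [isOpen_iff_forall_mem_open]
    rintro _ ⟨x, hx, rfl⟩
    obtain ⟨T, j, hj, hjf, z, rfl⟩ := H x
    haveI := hj
    haveI := hjf
    refine ⟨(j ≫ f) '' (j ⁻¹' O), ?_, ?_, ?_⟩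
    · rintro _ ⟨z', hz', rfl⟩
      exact ⟨j z', hz', (Scheme.Hom.comp_apply j f z').symm⟩
    · exact (j ≫ f).isOpenEmbedding.isOpenMap _ (hO.preimage j.continuous)
    · exact ⟨z, hx, Scheme.Hom.comp_apply j f z⟩
  have hemb : Topology.IsOpenEmbedding f :=
    .of_continuous_injective_isOpenMap f.continuous hinj hopen
  haveI : ∀ x, IsIso (f.stalkMap x) := by
    intro x
    obtain ⟨T, j, hj, hjf, z, rfl⟩ := H x
    haveI := hj
    haveI := hjf
    haveI : IsIso (f.stalkMap (j z) ≫ j.stalkMap z) := by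
      rw [← Scheme.Hom.stalkMap_comp]
      infer_instance
    exact IsIso.of_isIso_comp_right _ (j.stalkMap z)
  exact IsOpenImmersion.of_isIso_stalkMap f hemb

/-- localisation on an open subscheme -/
theorem isLocalization_homOfLE {X : Scheme.{u}} {U V : X.Opens} (h : V ≤ U) (hU : IsAffineOpen U)
    (c : Γ(U.toScheme, ⊤)) (hV : V = U.ι ''ᵁ (U.toScheme.basicOpen c)) :
    @IsLocalization.Away Γ(U.toScheme, ⊤) _ c Γ(V.toScheme, ⊤) _
      (X.homOfLE h).appTop.hom.toAlgebra := by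
  haveI : IsAffine U.toScheme := hU
  let B : U.toScheme.Opens := U.toScheme.basicOpen c
  have hrange : Set.range (X.homOfLE h) = Set.range B.ι := by
    rw [Scheme.Opens.range_ι]
    ext y
    constructor
    · rintro ⟨z, rfl⟩
      have hz : z.1 ∈ U.ι ''ᵁ B := by
        rw [← hV]
        exact z.2
      obtain ⟨b, hb, hbz⟩ : ∃ b ∈ B, U.ι b = z.1 := hz
      have : b = X.homOfLE h z := Subtype.ext (hbz.trans (Scheme.homOfLE_apply h z).symm)
      rw [← this]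
      exact hb
    · intro hy
      have : y.1 ∈ V := by
        rw [hV]
        exact ⟨y, hy, rfl⟩
      exact ⟨⟨y.1, this⟩, Subtype.ext (Scheme.homOfLE_apply h _)⟩
  let e : V.toScheme ≅ B.toScheme := IsOpenImmersion.isoOfRangeEq (X.homOfLE h) B.ι hrange
  have he : e.hom ≫ B.ι = X.homOfLE h := IsOpenImmersion.isoOfRangeEq_hom_fac _ _ _
  haveI : IsIso e.hom.appTop := inferInstanceAs (IsIso (e.hom.app ⊤))
  let ρ : Γ(B.toScheme, ⊤) ≃+* Γ(V.toScheme, ⊤) :=
    RingEquiv.ofBijective e.hom.appTop.hom (ConcreteCategory.bijective_of_isIso e.hom.appTop)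
  letI : Algebra Γ(U.toScheme, ⊤) Γ(V.toScheme, ⊤) := (X.homOfLE h).appTop.hom.toAlgebra
  haveI : IsLocalization.Away c Γ(B.toScheme, ⊤) := Γ_restrict_isLocalization U.toScheme c
  let ρ' : Γ(B.toScheme, ⊤) ≃ₐ[Γ(U.toScheme, ⊤)] Γ(V.toScheme, ⊤) :=
    AlgEquiv.ofRingEquiv (f := ρ) (by
      intro a
      show e.hom.appTop.hom (B.ι.appTop.hom a) = (X.homOfLE h).appTop.hom a
      rw [← he, Scheme.Hom.comp_appTop]
      rfl)
  exact IsLocalization.isLocalization_of_algEquiv (Submonoid.powers c) ρ'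

/-- the equaliser of two ring maps commutes with localisation at an invariant element -/
theorem isLocalization_eqLocus {A B A' B' : Type u} [CommRing A] [CommRing B] [CommRing A']
    [CommRing B'] (σ τ : A →+* B) (σ' τ' : A' →+* B') (α : A →+* A') (β : B →+* B')
    (hσ : β.comp σ = σ'.comp α) (hτ : β.comp τ = τ'.comp α)
    (C : Subring A) (C' : Subring A') (hC : ∀ a, a ∈ C ↔ σ a = τ a)
    (hC' : ∀ a, a ∈ C' ↔ σ' a = τ' a) (c : A) (hc : c ∈ C)
    (hα : @IsLocalization.Away A _ c A' _ α.toAlgebra)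
    (hβ : @IsLocalization.Away B _ (σ c) B' _ β.toAlgebra)
    (γ : C →+* C') (hγ : ∀ x : C, (γ x : A') = α x) :
    @IsLocalization.Away C _ ⟨c, hc⟩ C' _ γ.toAlgebra := by
  letI := α.toAlgebra
  letI := β.toAlgebra
  letI := γ.toAlgebra
  haveI := hα
  haveI := hβ
  have hσ' : ∀ a, β (σ a) = σ' (α a) := fun a => RingHom.congr_fun hσ a
  have hτ' : ∀ a, β (τ a) = τ' (α a) := fun a => RingHom.congr_fun hτ a
  have hcc : σ c = τ c := (hC c).mp hc
  refine IsLocalization.Away.mk (⟨c, hc⟩ : C) ?_ ?_ ?_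
  · obtain ⟨u, hu⟩ := (IsLocalization.Away.algebraMap_isUnit (S := A') c).exists_right_inv
    have hu' : α c * u = 1 := hu
    have hum : u ∈ C' := by
      rw [hC']
      have h1 : σ' (α c) * σ' u = 1 := by rw [← map_mul, hu', map_one]
      have h2 : σ' (α c) * τ' u = 1 := by rw [← hσ', hcc, hτ', ← map_mul, hu', map_one]
      calc σ' u = σ' u * (σ' (α c) * τ' u) := by rw [h2, mul_one]
        _ = (σ' (α c) * σ' u) * τ' u := by ring
        _ = τ' u := by rw [h1, one_mul]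
    refine IsUnit.of_mul_eq_one (⟨u, hum⟩ : C') ?_
    apply Subtype.ext
    show (γ ⟨c, hc⟩ : A') * u = 1
    rw [hγ]
    exact hu'
  · intro z
    obtain ⟨n, a, hna⟩ := IsLocalization.Away.surj c (z : A')
    have hna' : (z : A') * α c ^ n = α a := hna
    have hz : σ' (z : A') = τ' (z : A') := (hC' _).mp z.2
    have h1 : β (σ a) = β (τ a) := by
      rw [hσ', hτ', ← hna', map_mul, map_mul, map_pow, map_pow, hz, ← hσ', ← hτ', hcc]
    obtain ⟨m, hm⟩ := IsLocalization.Away.exists_of_eq (S := B') (σ c) h1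
    have hmem : c ^ m * a ∈ C := by
      rw [hC, map_mul, map_mul, map_pow, map_pow, ← hcc]
      exact hm
    refine ⟨n + m, ⟨c ^ m * a, hmem⟩, ?_⟩
    apply Subtype.ext
    show (z : A') * (γ ⟨c, hc⟩ : A') ^ (n + m) = (γ ⟨c ^ m * a, hmem⟩ : A')
    rw [hγ, hγ]
    show (z : A') * α c ^ (n + m) = α (c ^ m * a)
    rw [map_mul, map_pow, pow_add, ← mul_assoc, hna']
    ring
  · intro x y hxy
    have hxy' : α x = α y := by
      have := congrArg Subtype.val hxy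
      rw [← hγ, ← hγ]
      exact this
    obtain ⟨n, hn⟩ := IsLocalization.Away.exists_of_eq (S := A') c hxy'
    exact ⟨n, Subtype.ext hn⟩

end General

variable {S : Scheme.{u}} (G : Grpd.GroupoidScheme S)

/-- the local quotient `Spec` of the invariants -/
noncomputable abbrev M (W : G.U.Opens) : Scheme.{u} := Spec (CommRingCat.of (GW G W).invariants)

/-- the inclusion of the invariant functions -/
noncomputable def incl (W : G.U.Opens) : CommRingCat.of (GW G W).invariants ⟶ Γ(W.toScheme, ⊤) :=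
  CommRingCat.ofHom (GW G W).invariants.subtype

/-- the local quotient map -/
noncomputable def qW (W : G.U.Opens) : W.toScheme ⟶ M G W :=
  W.toScheme.toSpecΓ ≫ Spec.map (incl G W)

theorem qW_eq_toQuot (W : G.U.Opens) : qW G W = (GW G W).toQuot := rfl

section Res

variable {W₁ W₂ W₃ : G.U.Opens}

theorem rR_sW (h : W₁ ≤ W₂) :
    G.R.homOfLE (O_mono h) ≫ sW G W₂ = sW G W₁ ≫ G.U.homOfLE h := by
  rw [← cancel_mono W₂.ι, Category.assoc, sW_ι, Scheme.homOfLE_ι_assoc, Category.assoc,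
    Scheme.homOfLE_ι, sW_ι]

theorem rR_tW (h : W₁ ≤ W₂) :
    G.R.homOfLE (O_mono h) ≫ tW G W₂ = tW G W₁ ≫ G.U.homOfLE h := by
  rw [← cancel_mono W₂.ι, Category.assoc, tW_ι, Scheme.homOfLE_ι_assoc, Category.assoc,
    Scheme.homOfLE_ι, tW_ι]

theorem appTop_sW (h : W₁ ≤ W₂) :
    (G.R.homOfLE (O_mono h)).appTop.hom.comp (sW G W₂).appTop.hom =
      (sW G W₁).appTop.hom.comp (G.U.homOfLE h).appTop.hom := by
  have := congrArg (fun f => (Scheme.Hom.appTop f).hom) (rR_sW G h)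
  simpa only [Scheme.Hom.comp_appTop, CommRingCat.hom_comp] using this

theorem appTop_tW (h : W₁ ≤ W₂) :
    (G.R.homOfLE (O_mono h)).appTop.hom.comp (tW G W₂).appTop.hom =
      (tW G W₁).appTop.hom.comp (G.U.homOfLE h).appTop.hom := by
  have := congrArg (fun f => (Scheme.Hom.appTop f).hom) (rR_tW G h)
  simpa only [Scheme.Hom.comp_appTop, CommRingCat.hom_comp] using this

theorem res_mem (h : W₁ ≤ W₂) (a : Γ(W₂.toScheme, ⊤)) (ha : a ∈ (GW G W₂).invariants) :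
    (G.U.homOfLE h).appTop.hom a ∈ (GW G W₁).invariants := by
  rw [mem_inv_iff] at ha ⊢
  have h1 := RingHom.congr_fun (appTop_sW G h) a
  have h2 := RingHom.congr_fun (appTop_tW G h) a
  simp only [RingHom.comp_apply] at h1 h2
  rw [← h1, ← h2, ha]

/-- restriction of invariant functions -/
noncomputable def resInv (h : W₁ ≤ W₂) : (GW G W₂).invariants →+* (GW G W₁).invariants :=
  ((G.U.homOfLE h).appTop.hom.comp (GW G W₂).invariants.subtype).codRestrict (GW G W₁).invariants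
    (fun a => res_mem G h a.1 a.2)

theorem resInv_coe (h : W₁ ≤ W₂) (a : (GW G W₂).invariants) :
    (resInv G h a).1 = (G.U.homOfLE h).appTop.hom a.1 := rfl

/-- the transition maps of the local quotients -/
noncomputable def Fmap (h : W₁ ≤ W₂) : M G W₁ ⟶ M G W₂ :=
  Spec.map (CommRingCat.ofHom (resInv G h))

theorem incl_res (h : W₁ ≤ W₂) :
    incl G W₂ ≫ (G.U.homOfLE h).appTop = CommRingCat.ofHom (resInv G h) ≫ incl G W₁ := by
  ext a
  rfl

theorem qW_natural (h : W₁ ≤ W₂) : G.U.homOfLE h ≫ qW G W₂ = qW G W₁ ≫ Fmap G h := by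
  unfold qW Fmap
  rw [← Category.assoc, Scheme.toSpecΓ_naturality, Category.assoc, Category.assoc,
    ← Spec.map_comp, ← Spec.map_comp, incl_res]

theorem Fmap_qW_apply (h : W₁ ≤ W₂) (x : W₁.toScheme) :
    Fmap G h (qW G W₁ x) = qW G W₂ (G.U.homOfLE h x) := by
  rw [← Scheme.Hom.comp_apply, ← Scheme.Hom.comp_apply, qW_natural]

theorem resInv_id (W : G.U.Opens) : resInv G (le_refl W) = RingHom.id _ := by
  ext a
  show (resInv G (le_refl W) a).1 = a.1
  rw [resInv_coe]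
  have : G.U.homOfLE (le_refl W) = 𝟙 _ := Scheme.homOfLE_rfl _ _
  rw [this]
  rfl

theorem resInv_comp (h₁₂ : W₁ ≤ W₂) (h₂₃ : W₂ ≤ W₃) :
    (resInv G h₁₂).comp (resInv G h₂₃) = resInv G (h₁₂.trans h₂₃) := by
  ext a
  show (resInv G h₁₂ (resInv G h₂₃ a)).1 = (resInv G (h₁₂.trans h₂₃) a).1
  rw [resInv_coe, resInv_coe, resInv_coe,
    ← Scheme.homOfLE_homOfLE G.U h₁₂ h₂₃, Scheme.Hom.comp_appTop]
  rfl

theorem Fmap_id (W : G.U.Opens) : Fmap G (le_refl W) = 𝟙 _ := by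
  unfold Fmap
  rw [resInv_id]
  exact Spec.map_id _

theorem Fmap_comp (h₁₂ : W₁ ≤ W₂) (h₂₃ : W₂ ≤ W₃) :
    Fmap G h₁₂ ≫ Fmap G h₂₃ = Fmap G (h₁₂.trans h₂₃) := by
  unfold Fmap
  rw [← Spec.map_comp, ← CommRingCat.ofHom_comp, resInv_comp]

end Res

section Basic

variable (W : G.U.Opens)

/-- the basic open of `W` defined by a function on `W`, as an open of `U` -/
noncomputable def Db (c : Γ(W.toScheme, ⊤)) : G.U.Opens := W.ι ''ᵁ (W.toScheme.basicOpen c)

variable {W}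

theorem Db_le (c : Γ(W.toScheme, ⊤)) : Db G W c ≤ W := Scheme.Opens.ι_image_le _ _

theorem mem_Db {c : Γ(W.toScheme, ⊤)} {x : G.U} :
    x ∈ Db G W c ↔ ∃ hx : x ∈ W, (⟨x, hx⟩ : W.toScheme) ∈ W.toScheme.basicOpen c := by
  constructor
  · rintro ⟨y, hy, rfl⟩
    exact ⟨y.2, hy⟩
  · rintro ⟨hx, h⟩
    exact ⟨⟨x, hx⟩, h, rfl⟩

theorem isAffineOpen_Db (hA : IsAffineOpen W) (c : Γ(W.toScheme, ⊤)) : IsAffineOpen (Db G W c) := by
  haveI : IsAffine W.toScheme := hA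
  exact ((isAffineOpen_top W.toScheme).basicOpen c).image_of_isOpenImmersion W.ι

theorem preimage_basicOpen_eq (c : Γ(W.toScheme, ⊤)) (hc : c ∈ (GW G W).invariants) :
    sW G W ⁻¹ᵁ (W.toScheme.basicOpen c) = tW G W ⁻¹ᵁ (W.toScheme.basicOpen c) := by
  have e : (sW G W).appTop c = (tW G W).appTop c := (mem_inv_iff G W c).mp hc
  rw [Scheme.preimage_basicOpen_top, Scheme.preimage_basicOpen_top, e]

theorem sW_mem_iff (c : Γ(W.toScheme, ⊤)) (hc : c ∈ (GW G W).invariants) (r : ↥(O G W)) :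
    sW G W r ∈ W.toScheme.basicOpen c ↔ tW G W r ∈ W.toScheme.basicOpen c :=
  SetLike.ext_iff.mp (preimage_basicOpen_eq G c hc) r

theorem sW_eq (r : G.R) (hr : r ∈ O G W) : sW G W ⟨r, hr⟩ = ⟨G.s r, hr.1⟩ :=
  Subtype.ext (sW_apply G W ⟨r, hr⟩)

theorem tW_eq (r : G.R) (hr : r ∈ O G W) : tW G W ⟨r, hr⟩ = ⟨G.t r, hr.2⟩ :=
  Subtype.ext (tW_apply G W ⟨r, hr⟩)

theorem isInv_Db (hW : IsInv G W) (c : Γ(W.toScheme, ⊤)) (hc : c ∈ (GW G W).invariants) :
    IsInv G (Db G W c) := by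
  intro r
  rw [mem_Db, mem_Db]
  constructor
  · rintro ⟨hx, h⟩
    have hr : r ∈ O G W := ⟨hx, (hW r).mp hx⟩
    refine ⟨hr.2, ?_⟩
    rw [← sW_eq G r hr] at h
    rw [← tW_eq G r hr]
    exact (sW_mem_iff G c hc ⟨r, hr⟩).mp h
  · rintro ⟨hx, h⟩
    have hr : r ∈ O G W := ⟨(hW r).mpr hx, hx⟩
    refine ⟨hr.1, ?_⟩
    rw [← tW_eq G r hr] at h
    rw [← sW_eq G r hr]
    exact (sW_mem_iff G c hc ⟨r, hr⟩).mpr h

theorem O_Db (c : Γ(W.toScheme, ⊤)) (hc : c ∈ (GW G W).invariants) :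
    O G (Db G W c) = (O G W).ι ''ᵁ ((O G W).toScheme.basicOpen ((sW G W).appTop c)) := by
  rw [← Scheme.preimage_basicOpen_top]
  ext r
  constructor
  · rintro ⟨hs, ht⟩
    obtain ⟨hx, h⟩ := (mem_Db G).mp hs
    obtain ⟨hy, -⟩ := (mem_Db G).mp ht
    have hr : r ∈ O G W := ⟨hx, hy⟩
    refine ⟨⟨r, hr⟩, ?_, rfl⟩
    show sW G W ⟨r, hr⟩ ∈ W.toScheme.basicOpen c
    rw [sW_eq G r hr]
    exact h
  · rintro ⟨r₀, hr₀, rfl⟩
    have h1 : sW G W r₀ ∈ W.toScheme.basicOpen c := hr₀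
    have h2 := (sW_mem_iff G c hc r₀).mp h1
    rw [show r₀ = ⟨r₀.1, r₀.2⟩ from rfl, sW_eq G r₀.1 r₀.2] at h1
    rw [show r₀ = ⟨r₀.1, r₀.2⟩ from rfl, tW_eq G r₀.1 r₀.2] at h2
    exact ⟨(mem_Db G).mpr ⟨_, h1⟩, (mem_Db G).mpr ⟨_, h2⟩⟩

theorem Db_res {W₁ W₂ : G.U.Opens} (h : W₁ ≤ W₂) (c : Γ(W₂.toScheme, ⊤)) :
    Db G W₁ ((G.U.homOfLE h).appTop c) = W₁ ⊓ Db G W₂ c := by
  ext y
  show y ∈ Db G W₁ ((G.U.homOfLE h).appTop c) ↔ y ∈ W₁ ∧ y ∈ Db G W₂ c
  rw [mem_Db]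
  constructor
  · rintro ⟨hy₁, hyb⟩
    rw [← Scheme.preimage_basicOpen_top] at hyb
    have h1 : G.U.homOfLE h ⟨y, hy₁⟩ ∈ W₂.toScheme.basicOpen c := hyb
    rw [Scheme.homOfLE_apply'] at h1
    exact ⟨hy₁, (mem_Db G).mpr ⟨_, h1⟩⟩
  · rintro ⟨hy₁, hyD⟩
    obtain ⟨hy₂, hyb⟩ := (mem_Db G).mp hyD
    refine ⟨hy₁, ?_⟩
    rw [← Scheme.preimage_basicOpen_top]
    show G.U.homOfLE h ⟨y, hy₁⟩ ∈ W₂.toScheme.basicOpen c
    rw [Scheme.homOfLE_apply']
    exact hyb

end Basic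

end Groth.Agent.Helper8.GrpdGlue
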