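import Mathlib
import Groth.Agent.Helper8.GrpdGlueB

/-!
# Quotients by finite locally free groupoids: gluing the local quotients
-/

set_option autoImplicit false
universe u

namespace Groth.Agent.Helper8.GrpdGlue

open CategoryTheory CategoryTheory.Limits AlgebraicGeometry Grpd
open Groth.Agent.Helper2 Groth.Agent.Helper2.Grpd23

variable {S : Scheme.{u}} (G : Grpd.GroupoidScheme S)

section OpenImm

variable [IsFinite G.s] [Flat G.s] [LocallyOfFinitePresentation G.s]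

theorem isOpenImmersion_Fmap_basic {W D : G.U.Opens} (h : D ≤ W) (hW : IsInv G W)
    (hA : IsAffineOpen W) (c : Γ(W.toScheme, ⊤)) (hc : c ∈ (GW G W).invariants)
    (hD : D = Db G W c) : IsOpenImmersion (Fmap G h) := by
  have hOA : IsAffineOpen (O G W) := by
    rw [hW.O_eq]
    exact hA.preimage G.s
  have hOD : O G D = (O G W).ι ''ᵁ ((O G W).toScheme.basicOpen ((sW G W).appTop c)) := by
    rw [hD]
    exact O_Db G c hc
  have hα := isLocalization_homOfLE h hA c hD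
  have hβ := isLocalization_homOfLE (O_mono h) hOA ((sW G W).appTop c) hOD
  have key := isLocalization_eqLocus (sW G W).appTop.hom (tW G W).appTop.hom
    (sW G D).appTop.hom (tW G D).appTop.hom (G.U.homOfLE h).appTop.hom
    (G.R.homOfLE (O_mono h)).appTop.hom (appTop_sW G h) (appTop_tW G h)
    (GW G W).invariants (GW G D).invariants (mem_inv_iff G W) (mem_inv_iff G D) c hc hα hβ
    (resInv G h) (fun x => rfl)
  exact @IsOpenImmersion.of_isLocalization _ _ _ _ (resInv G h).toAlgebra ⟨c, hc⟩ key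

theorem qW_preimage_basicOpen (W : G.U.Opens) (c' : (GW G W).invariants) :
    qW G W ⁻¹ᵁ (PrimeSpectrum.basicOpen c') = W.toScheme.basicOpen c'.1 :=
  Scheme.toSpecΓ_preimage_basicOpen W.toScheme c'.1

theorem exists_basic_le {W : G.U.Opens} (hW : IsInv G W) (hA : IsAffineOpen W) (O' : G.U.Opens)
    (hO' : IsInv G O') (x : G.U) (hxW : x ∈ W) (hxO : x ∈ O') :
    ∃ c : Γ(W.toScheme, ⊤), c ∈ (GW G W).invariants ∧ x ∈ Db G W c ∧ Db G W c ≤ O' := by
  haveI : IsIntegralHom (qW G W) := isIntegralHom_toQuot G hW hA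
  have hcl : IsClosedMap (qW G W) := (qW G W).isClosedMap
  let Z : Set W.toScheme := {y | y.1 ∉ O'}
  have hZ : IsClosed Z := (W.ι ⁻¹ᵁ O').isOpen.isClosed_compl
  have hx₀ : qW G W ⟨x, hxW⟩ ∉ qW G W '' Z := by
    rintro ⟨z, hz, hzx⟩
    obtain ⟨r, hr1, hr2⟩ := (toQuot_eq_iff G hW hA ⟨x, hxW⟩ z).mp hzx.symm
    apply hz
    rw [← hr2]
    apply (hO' r).mp
    rw [hr1]
    exact hxO
  obtain ⟨_, ⟨c', rfl⟩, hxc, hcZ⟩ :=
    PrimeSpectrum.isTopologicalBasis_basic_opens.exists_subset_of_mem_open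
      (show qW G W ⟨x, hxW⟩ ∈ (qW G W '' Z)ᶜ from hx₀) (hcl Z hZ).isOpen_compl
  have hpre := qW_preimage_basicOpen G W c'
  refine ⟨c'.1, c'.2, (mem_Db G).mpr ⟨hxW, ?_⟩, ?_⟩
  · have h1 : (⟨x, hxW⟩ : W.toScheme) ∈ qW G W ⁻¹ᵁ PrimeSpectrum.basicOpen c' := hxc
    rw [hpre] at h1
    exact h1
  · intro y hy
    obtain ⟨hyW, hyb⟩ := (mem_Db G).mp hy
    have h1 : (⟨y, hyW⟩ : W.toScheme) ∈ W.toScheme.basicOpen c'.1 := hyb
    rw [← hpre] at h1
    by_contra hyO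
    exact hcZ h1 ⟨⟨y, hyW⟩, hyO, rfl⟩

theorem Fmap_injective {W₁ W₂ : G.U.Opens} (h : W₁ ≤ W₂) (hW₁ : IsInv G W₁)
    (hA₁ : IsAffineOpen W₁) (hW₂ : IsInv G W₂) (hA₂ : IsAffineOpen W₂) :
    Function.Injective (Fmap G h) := by
  intro m m' hmm
  obtain ⟨x, rfl⟩ := toQuot_surjective G hW₁ hA₁ m
  obtain ⟨x', rfl⟩ := toQuot_surjective G hW₁ hA₁ m'
  change Fmap G h (qW G W₁ x) = Fmap G h (qW G W₁ x') at hmm
  rw [Fmap_qW_apply, Fmap_qW_apply] at hmm
  obtain ⟨r, hr1, hr2⟩ := (toQuot_eq_iff G hW₂ hA₂ _ _).mp hmm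
  rw [Scheme.homOfLE_apply] at hr1 hr2
  exact (toQuot_eq_iff G hW₁ hA₁ x x').mpr ⟨r, hr1, hr2⟩

theorem isOpenImmersion_Fmap {W₁ W₂ : G.U.Opens} (h : W₁ ≤ W₂) (hW₁ : IsInv G W₁)
    (hA₁ : IsAffineOpen W₁) (hW₂ : IsInv G W₂) (hA₂ : IsAffineOpen W₂) :
    IsOpenImmersion (Fmap G h) := by
  apply isOpenImmersion_of_local _ (Fmap_injective G h hW₁ hA₁ hW₂ hA₂)
  intro m
  obtain ⟨x, rfl⟩ := toQuot_surjective G hW₁ hA₁ m
  obtain ⟨c, hc, hxD, hDle⟩ := exists_basic_le G hW₂ hA₂ W₁ hW₁ x.1 (h x.2) x.2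
  have hD' : Db G W₂ c = Db G W₁ ((G.U.homOfLE h).appTop c) := by
    rw [Db_res G h c]
    exact (inf_eq_right.mpr hDle).symm
  refine ⟨M G (Db G W₂ c), Fmap G hDle, ?_, ?_, ?_⟩
  · exact isOpenImmersion_Fmap_basic G hDle hW₁ hA₁ _ (res_mem G h c hc) hD'
  · rw [Fmap_comp]
    exact isOpenImmersion_Fmap_basic G (hDle.trans h) hW₂ hA₂ c hc rfl
  · refine ⟨qW G (Db G W₂ c) ⟨x.1, hxD⟩, ?_⟩
    rw [Fmap_qW_apply]
    show qW G W₁ _ = qW G W₁ x
    congr 1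
    exact Subtype.ext (Scheme.homOfLE_apply _ _)

end OpenImm

/-- the hypotheses of the quotient theorem -/
class QuotHyp (G : Grpd.GroupoidScheme S) : Prop where
  isFinite : IsFinite G.s
  flat : Flat G.s
  lfp : LocallyOfFinitePresentation G.s
  haff : ∀ x : G.U, ∃ V : G.U.Opens, IsAffineOpen V ∧
    G.t.base '' (G.s.base ⁻¹' {x}) ⊆ (V : Set G.U)

attribute [instance] QuotHyp.isFinite QuotHyp.flat QuotHyp.lfp

variable [QuotHyp G]

theorem exists_invAffine_le (O' : G.U.Opens) (hO' : IsInv G O') (x : G.U) (hx : x ∈ O') :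
    ∃ W : G.U.Opens, IsAffineOpen W ∧ IsInv G W ∧ x ∈ W ∧ W ≤ O' := by
  obtain ⟨V, hV, hVx⟩ := QuotHyp.haff (G := G) x
  obtain ⟨W, hWA, hxW, hWinv⟩ := GrpdNormB.main G x V hV (fun r hr => hVx ⟨r, hr, rfl⟩)
  have hWinv' : IsInv G W := fun r => SetLike.ext_iff.mp hWinv r
  obtain ⟨c, hc, hxD, hDle⟩ := exists_basic_le G hWinv' hWA O' hO' x hxW hx
  exact ⟨Db G W c, isAffineOpen_Db G hWA c, isInv_Db G hWinv' c hc, hxD, hDle⟩

/-- the invariant affine opens -/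
def J : Type u := {W : G.U.Opens // IsAffineOpen W ∧ IsInv G W}

instance : Preorder (J G) := inferInstanceAs (Preorder {W : G.U.Opens // IsAffineOpen W ∧ IsInv G W})

variable {G} in
theorem J.le_iff {W₁ W₂ : J G} : W₁ ≤ W₂ ↔ W₁.1 ≤ W₂.1 := Iff.rfl

/-- the diagram of local quotients -/
noncomputable def F : J G ⥤ Scheme.{u} where
  obj W := M G W.1
  map {W₁ W₂} f := Fmap G (show W₁.1 ≤ W₂.1 from leOfHom f)
  map_id W := Fmap_id G W.1
  map_comp f g := (Fmap_comp G _ _).symm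

instance {W₁ W₂ : J G} (f : W₁ ⟶ W₂) : IsOpenImmersion ((F G).map f) :=
  isOpenImmersion_Fmap G _ W₁.2.2 W₁.2.1 W₂.2.2 W₂.2.1

theorem F_map_qW_apply {W₁ W₂ : J G} (f : W₁ ⟶ W₂) (x : W₁.1.toScheme) :
    (F G).map f (qW G W₁.1 x) = qW G W₂.1 (G.U.homOfLE (leOfHom f) x) :=
  Fmap_qW_apply G _ x

theorem qW_surjective (W : J G) : Function.Surjective (qW G W.1) :=
  toQuot_surjective G W.2.2 W.2.1

theorem qW_eq_iff (W : J G) (x y : W.1.toScheme) :
    qW G W.1 x = qW G W.1 y ↔ ∃ r : G.R, G.s r = x.1 ∧ G.t r = y.1 :=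
  toQuot_eq_iff G W.2.2 W.2.1 x y

instance : ((F G) ⋙ Scheme.forget).IsLocallyDirected where
  cond {i j k} fi fj xi xj h := by
    change (F G).map fi xi = (F G).map fj xj at h
    obtain ⟨ui, rfl⟩ := qW_surjective G i xi
    obtain ⟨uj, rfl⟩ := qW_surjective G j xj
    rw [F_map_qW_apply, F_map_qW_apply] at h
    obtain ⟨r, hr1, hr2⟩ := (qW_eq_iff G k _ _).mp h
    rw [Scheme.homOfLE_apply] at hr1 hr2
    have huj : uj.1 ∈ i.1 := by
      rw [← hr2]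
      apply (i.2.2 r).mp
      rw [hr1]
      exact ui.2
    obtain ⟨W, hA, hinv, hxW, hle⟩ := exists_invAffine_le G (i.1 ⊓ j.1) (i.2.2.inf j.2.2) uj.1
      ⟨huj, uj.2⟩
    let l : J G := ⟨W, hA, hinv⟩
    have hli : l ≤ i := hle.trans inf_le_left
    have hlj : l ≤ j := hle.trans inf_le_right
    refine ⟨l, homOfLE hli, homOfLE hlj, qW G W ⟨uj.1, hxW⟩, ?_, ?_⟩
    · change (F G).map (homOfLE hli) (qW G l.1 ⟨uj.1, hxW⟩) = qW G i.1 ui
      rw [F_map_qW_apply]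
      refine (qW_eq_iff G i _ _).mpr ⟨G.i r, ?_, ?_⟩
      · rw [s_i_apply, hr2, Scheme.homOfLE_apply]
      · rw [t_i_apply, hr1]
    · change (F G).map (homOfLE hlj) (qW G l.1 ⟨uj.1, hxW⟩) = qW G j.1 uj
      rw [F_map_qW_apply]
      congr 1
      exact Subtype.ext (Scheme.homOfLE_apply _ _)

/-- the quotient scheme -/
noncomputable def Y : Scheme.{u} := colimit (F G)

/-- the canonical open immersions of the local quotients into the quotient -/
noncomputable def ιY (W : J G) : M G W.1 ⟶ Y G := colimit.ι (F G) W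

instance (W : J G) : IsOpenImmersion (ιY G W) :=
  inferInstanceAs (IsOpenImmersion (colimit.ι (F G) W))

theorem F_map_ιY {W₁ W₂ : J G} (f : W₁ ⟶ W₂) : (F G).map f ≫ ιY G W₂ = ιY G W₁ :=
  colimit.w (F G) f

/-- the cover of `U` by invariant affine opens -/
@[reducible] noncomputable def coverU : G.U.OpenCover where
  I₀ := J G
  X W := W.1.toScheme
  f W := W.1.ι
  mem₀ := by
    rw [Scheme.presieve₀_mem_precoverage_iff]
    refine ⟨fun x => ?_, fun W => inferInstanceAs (IsOpenImmersion W.1.ι)⟩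
    obtain ⟨W, hA, hinv, hxW, -⟩ := exists_invAffine_le G ⊤ (fun _ => Iff.rfl) x trivial
    exact ⟨⟨W, hA, hinv⟩, ⟨x, hxW⟩, rfl⟩

instance : Preorder (coverU G).I₀ := inferInstanceAs (Preorder (J G))

noncomputable instance : (coverU G).LocallyDirected where
  trans {W₁ W₂} f := G.U.homOfLE (show W₁.1 ≤ W₂.1 from leOfHom f)
  trans_id W := Scheme.homOfLE_rfl _ _
  trans_comp f g := (Scheme.homOfLE_homOfLE _ _ _).symm
  w f := Scheme.homOfLE_ι _ _
  directed {W₁ W₂} z := by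
    let x : G.U := (pullback.fst W₁.1.ι W₂.1.ι ≫ W₁.1.ι) z
    have hx1 : x ∈ W₁.1 := (pullback.fst W₁.1.ι W₂.1.ι z).2
    have hx2 : x ∈ W₂.1 := by
      have : x = (pullback.snd W₁.1.ι W₂.1.ι ≫ W₂.1.ι) z := by
        show (pullback.fst W₁.1.ι W₂.1.ι ≫ W₁.1.ι) z = _
        rw [pullback.condition]
      rw [this]
      exact (pullback.snd W₁.1.ι W₂.1.ι z).2
    obtain ⟨W, hA, hinv, hxW, hle⟩ := exists_invAffine_le G (W₁.1 ⊓ W₂.1) (W₁.2.2.inf W₂.2.2) x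
      ⟨hx1, hx2⟩
    let l : J G := ⟨W, hA, hinv⟩
    have hl1 : l ≤ W₁ := hle.trans inf_le_left
    have hl2 : l ≤ W₂ := hle.trans inf_le_right
    refine ⟨l, homOfLE hl1, homOfLE hl2, ⟨x, hxW⟩, ?_⟩
    apply (pullback.fst W₁.1.ι W₂.1.ι ≫ W₁.1.ι).isOpenEmbedding.injective
    rw [← Scheme.Hom.comp_apply, pullback.lift_fst_assoc]
    exact congrArg (fun f : l.1.toScheme ⟶ G.U => f ⟨x, hxW⟩) (Scheme.homOfLE_ι G.U hl1)
  property_trans f := inferInstance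

theorem q_compat {W₁ W₂ : (coverU G).I₀} (f : W₁ ⟶ W₂) :
    (coverU G).trans f ≫ qW G W₂.1 ≫ ιY G W₂ = qW G W₁.1 ≫ ιY G W₁ := by
  show G.U.homOfLE (show W₁.1 ≤ W₂.1 from leOfHom f) ≫ qW G W₂.1 ≫ ιY G W₂ =
    qW G W₁.1 ≫ ιY G W₁
  rw [← Category.assoc, qW_natural, Category.assoc]
  congr 1
  exact F_map_ιY G f

/-- the quotient morphism -/
noncomputable def q : G.U ⟶ Y G :=
  (coverU G).glueMorphismsOfLocallyDirected (fun W => qW G W.1 ≫ ιY G W) (q_compat G)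

theorem ι_q (W : J G) : W.1.ι ≫ q G = qW G W.1 ≫ ιY G W :=
  (coverU G).map_glueMorphismsOfLocallyDirected (fun W => qW G W.1 ≫ ιY G W) (q_compat G) W

end Groth.Agent.Helper8.GrpdGlue
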