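import Mathlib
import Groth.Agent.Helper8.GrpdGlueC

/-!
# Quotients by finite locally free groupoids: properties of the quotient morphism
-/

set_option autoImplicit false
universe u

namespace Groth.Agent.Helper8.GrpdGlue

open CategoryTheory CategoryTheory.Limits AlgebraicGeometry Grpd
open Groth.Agent.Helper2 Groth.Agent.Helper2.Grpd23

/-- a property local on the target can be checked on pullback squares over an open cover -/
theorem of_openCover_isPullback {P : MorphismProperty Scheme.{u}} [IsZariskiLocalAtTarget P]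
    {X Y : Scheme.{u}} (f : X ⟶ Y) (𝒰 : Y.OpenCover) (X' : 𝒰.I₀ → Scheme.{u})
    (i' : ∀ i, X' i ⟶ X) (f' : ∀ i, X' i ⟶ 𝒰.X i)
    (sq : ∀ i, IsPullback (i' i) (f' i) f (𝒰.f i)) (H : ∀ i, P (f' i)) : P f := by
  apply IsZariskiLocalAtTarget.of_openCover 𝒰
  intro i
  have e : (sq i).isoPullback.hom ≫ pullback.snd f (𝒰.f i) = f' i := (sq i).isoPullback_hom_snd
  have h1 : P ((sq i).isoPullback.hom ≫ pullback.snd f (𝒰.f i)) := by
    rw [e]
    exact H i
  exact (P.cancel_left_of_respectsIso (sq i).isoPullback.hom _).mp h1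

variable {S : Scheme.{u}} (G : Grpd.GroupoidScheme S) [QuotHyp G]

theorem q_apply (W : J G) (x : W.1.toScheme) : q G x.1 = ιY G W (qW G W.1 x) := by
  show q G (W.1.ι x) = _
  rw [← Scheme.Hom.comp_apply, ι_q, Scheme.Hom.comp_apply]

theorem exists_J_mem (x : G.U) : ∃ W : J G, x ∈ W.1 := by
  obtain ⟨W, hA, hinv, hxW, -⟩ := exists_invAffine_le G ⊤ (fun _ => Iff.rfl) x trivial
  exact ⟨⟨W, hA, hinv⟩, hxW⟩

theorem exists_ιY_eq (y : Y G) : ∃ (W : J G) (m : M G W.1), ιY G W m = y :=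
  Scheme.IsLocallyDirected.ι_jointly_surjective (F G) y

theorem q_surjective : Function.Surjective (q G) := by
  intro y
  obtain ⟨W, m, rfl⟩ := exists_ιY_eq G y
  obtain ⟨u, rfl⟩ := qW_surjective G W m
  exact ⟨u.1, q_apply G W u⟩

theorem q_eq_iff (x x' : G.U) : q G x = q G x' ↔ ∃ r : G.R, G.s r = x ∧ G.t r = x' := by
  constructor
  · intro h
    obtain ⟨W, hxW⟩ := exists_J_mem G x
    obtain ⟨W', hxW'⟩ := exists_J_mem G x'
    rw [q_apply G W ⟨x, hxW⟩, q_apply G W' ⟨x', hxW'⟩] at h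
    obtain ⟨k, fi, fj, m, hm1, hm2⟩ := (Scheme.IsLocallyDirected.ι_eq_ι_iff (F G)).mp h
    obtain ⟨u, rfl⟩ := qW_surjective G k m
    rw [F_map_qW_apply] at hm1 hm2
    obtain ⟨r₁, hr₁s, hr₁t⟩ := (qW_eq_iff G W _ _).mp hm1
    obtain ⟨r₂, hr₂s, hr₂t⟩ := (qW_eq_iff G W' _ _).mp hm2
    rw [Scheme.homOfLE_apply] at hr₁s hr₂s
    obtain ⟨r, hrs, hrt⟩ := Grpd1.exists_comp G r₂ (G.i r₁) (by rw [t_i_apply, hr₂s, hr₁s])
    refine ⟨r, ?_, ?_⟩
    · rw [hrs, s_i_apply, hr₁t]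
    · rw [hrt, hr₂t]
  · rintro ⟨r, rfl, rfl⟩
    obtain ⟨W, hxW⟩ := exists_J_mem G (G.s r)
    have hxW' : G.t r ∈ W.1 := (W.2.2 r).mp hxW
    rw [q_apply G W ⟨G.s r, hxW⟩, q_apply G W ⟨G.t r, hxW'⟩]
    congr 1
    exact (qW_eq_iff G W _ _).mpr ⟨r, rfl, rfl⟩

theorem q_preimage_range (W : J G) : q G ⁻¹ᵁ (ιY G W).opensRange = W.1 := by
  ext x
  constructor
  · rintro ⟨m, hm⟩
    obtain ⟨u, rfl⟩ := qW_surjective G W m
    rw [← q_apply G W u] at hm
    obtain ⟨r, hr1, hr2⟩ := (q_eq_iff G _ _).mp hm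
    show x ∈ W.1
    rw [← hr2]
    apply (W.2.2 r).mp
    rw [hr1]
    exact u.2
  · intro hx
    exact ⟨qW G W.1 ⟨x, hx⟩, (q_apply G W ⟨x, hx⟩).symm⟩

theorem isPullback_q (W : J G) : IsPullback W.1.ι (qW G W.1) (q G) (ιY G W) :=
  (IsOpenImmersion.isPullback (qW G W.1) W.1.ι (ιY G W) (q G) (ι_q G W) (by
    rw [q_preimage_range, Scheme.Opens.opensRange_ι])).flip

/-- the open cover of the quotient by the local quotients -/
noncomputable def coverY : (Y G).OpenCover := Scheme.IsLocallyDirected.openCover (F G)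

theorem of_local {P : MorphismProperty Scheme.{u}} [IsZariskiLocalAtTarget P]
    (H : ∀ W : J G, P (qW G W.1)) : P (q G) :=
  of_openCover_isPullback (q G) (coverY G) (fun W : J G => W.1.toScheme) (fun W => W.1.ι)
    (fun W => qW G W.1) (fun W => isPullback_q G W) H

instance isIntegralHom_q : IsIntegralHom (q G) :=
  of_local G (P := @IsIntegralHom) (fun W => isIntegralHom_toQuot G W.2.2 W.2.1)

instance surjective_q : Surjective (q G) := ⟨q_surjective G⟩

theorem sW_qW (W : G.U.Opens) : sW G W ≫ qW G W = tW G W ≫ qW G W := by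
  have e : incl G W ≫ (sW G W).appTop = incl G W ≫ (tW G W).appTop := by
    ext a
    exact (mem_inv_iff G W a.1).mp a.2
  unfold qW
  rw [← Category.assoc, ← Category.assoc, Scheme.toSpecΓ_naturality, Scheme.toSpecΓ_naturality,
    Category.assoc, Category.assoc, ← Spec.map_comp, ← Spec.map_comp, e]

theorem s_q : G.s ≫ q G = G.t ≫ q G := by
  apply Scheme.hom_ext_of_forall
  intro r
  obtain ⟨W, hxW⟩ := exists_J_mem G (G.s r)
  have hr : r ∈ O G W.1 := ⟨hxW, (W.2.2 r).mp hxW⟩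
  refine ⟨O G W.1, hr, ?_⟩
  calc (O G W.1).ι ≫ G.s ≫ q G = (sW G W.1 ≫ W.1.ι) ≫ q G := by rw [sW_ι, Category.assoc]
    _ = (sW G W.1 ≫ qW G W.1) ≫ ιY G W := by rw [Category.assoc, ι_q, Category.assoc]
    _ = (tW G W.1 ≫ qW G W.1) ≫ ιY G W := by rw [sW_qW]
    _ = (tW G W.1 ≫ W.1.ι) ≫ q G := by rw [Category.assoc, Category.assoc, ι_q]
    _ = (O G W.1).ι ≫ G.t ≫ q G := by rw [tW_ι, Category.assoc]

end Groth.Agent.Helper8.GrpdGlue
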