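import Mathlib
import Groth.Agent.Helper8.GrpdGlueD

/-!
# Quotients by finite locally free groupoids: the universal property
-/

set_option autoImplicit false
universe u

namespace Groth.Agent.Helper8.GrpdGlue

open CategoryTheory CategoryTheory.Limits AlgebraicGeometry Grpd
open Groth.Agent.Helper2 Groth.Agent.Helper2.Grpd23

/-- a surjective, quasi-compact, scheme-theoretically dominant morphism is an epimorphism -/
theorem epi_of_surjective_of_dominant {X M : Scheme.{u}} (p : X ⟶ M) [Surjective p]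
    [IsSchemeTheoreticallyDominant p] [QuasiCompact p] : Epi p := by
  constructor
  intro Z h h' e
  apply Scheme.hom_ext_of_forall
  intro m
  obtain ⟨_, ⟨(Z' : Z.Opens), hZ', rfl⟩, hmZ', -⟩ :=
    Z.isBasis_affineOpens.exists_subset_of_mem_open (Set.mem_univ (h m)) isOpen_univ
  let V : M.Opens := h ⁻¹ᵁ Z'
  have hV' : ∀ v : M, v ∈ V → h' v ∈ Z' := by
    intro v hv
    obtain ⟨x, rfl⟩ := p.surjective v
    have : h' (p x) = h (p x) := by
      rw [← Scheme.Hom.comp_apply, ← Scheme.Hom.comp_apply, e]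
    rw [this]
    exact hv
  refine ⟨V, hmZ', ?_⟩
  have hr1 : Set.range (V.ι ≫ h) ⊆ Set.range Z'.ι := by
    rintro _ ⟨v, rfl⟩
    rw [Scheme.Opens.range_ι]
    exact v.2
  have hr2 : Set.range (V.ι ≫ h') ⊆ Set.range Z'.ι := by
    rintro _ ⟨v, rfl⟩
    rw [Scheme.Opens.range_ι]
    exact hV' v.1 v.2
  let h₁ : V.toScheme ⟶ Z'.toScheme := IsOpenImmersion.lift Z'.ι (V.ι ≫ h) hr1
  let h₁' : V.toScheme ⟶ Z'.toScheme := IsOpenImmersion.lift Z'.ι (V.ι ≫ h') hr2
  have e1 : h₁ ≫ Z'.ι = V.ι ≫ h := IsOpenImmersion.lift_fac _ _ _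
  have e1' : h₁' ≫ Z'.ι = V.ι ≫ h' := IsOpenImmersion.lift_fac _ _ _
  suffices h₁ = h₁' by rw [← e1, ← e1', this]
  haveI : IsAffine Z'.toScheme := hZ'
  let pV : (p ⁻¹ᵁ V).toScheme ⟶ V.toScheme := p ∣_ V
  have hpV : pV ≫ h₁ = pV ≫ h₁' := by
    rw [← cancel_mono Z'.ι, Category.assoc, Category.assoc, e1, e1', ← Category.assoc,
      ← Category.assoc, morphismRestrict_ι, Category.assoc, Category.assoc, e]
  haveI : IsSchemeTheoreticallyDominant pV :=
    IsSchemeTheoreticallyDominant.of_isPullback (isPullback_morphismRestrict p V).flip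
  haveI : QuasiCompact pV :=
    MorphismProperty.of_isPullback (P := @QuasiCompact) (isPullback_morphismRestrict p V).flip
      inferInstance
  have hinj : Function.Injective pV.appTop.hom := pV.app_injective ⊤
  apply ext_of_isAffine
  have := congrArg Scheme.Hom.appTop hpV
  rw [Scheme.Hom.comp_appTop, Scheme.Hom.comp_appTop] at this
  ext a
  apply hinj
  exact congrArg (fun f => f.hom a) this

variable {S : Scheme.{u}} (G : Grpd.GroupoidScheme S)

theorem qW_appTop_injective (W : G.U.Opens) : Function.Injective (qW G W).appTop.hom := by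
  have e : (qW G W).appTop = (Scheme.ΓSpecIso _).hom ≫ incl G W := by
    unfold qW
    rw [Scheme.Hom.comp_appTop, Scheme.toSpecΓ_appTop, Scheme.ΓSpecIso_naturality]
  rw [e]
  exact (Subtype.val_injective).comp
    (ConcreteCategory.bijective_of_isIso (Scheme.ΓSpecIso _).hom).1

theorem exists_factor_affine (W : G.U.Opens) {Z : Scheme.{u}} [IsAffine Z] (f : W.toScheme ⟶ Z)
    (hf : sW G W ≫ f = tW G W ≫ f) : ∃ g : M G W ⟶ Z, qW G W ≫ g = f := by
  have hmem : ∀ z : Γ(Z, ⊤), f.appTop.hom z ∈ (GW G W).invariants := by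
    intro z
    rw [mem_inv_iff]
    have := congrArg (fun φ => (Scheme.Hom.appTop φ).hom z) hf
    simpa only [Scheme.Hom.comp_appTop, CommRingCat.hom_comp, RingHom.comp_apply] using this
  let φ₀ : Γ(Z, ⊤) →+* (GW G W).invariants := f.appTop.hom.codRestrict _ hmem
  refine ⟨Spec.map (CommRingCat.ofHom φ₀) ≫ Z.isoSpec.inv, ?_⟩
  have e : CommRingCat.ofHom φ₀ ≫ incl G W = f.appTop := by
    ext z
    rfl
  unfold qW
  rw [Category.assoc, ← Category.assoc (Spec.map _), ← Spec.map_comp, e, ← Category.assoc,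
    ← Scheme.toSpecΓ_naturality, Category.assoc, Scheme.toSpecΓ_isoSpec_inv, Category.comp_id]

theorem exists_factor (W : G.U.Opens) {Z : Scheme.{u}} (f₀ : G.U ⟶ Z)
    (hf₀ : G.s ≫ f₀ = G.t ≫ f₀) (Z' : Z.Opens) (hZ' : IsAffineOpen Z') (hle : W ≤ f₀ ⁻¹ᵁ Z') :
    ∃ g : M G W ⟶ Z, qW G W ≫ g = W.ι ≫ f₀ := by
  haveI : IsAffine Z'.toScheme := hZ'
  obtain ⟨g, hg⟩ := exists_factor_affine G W (f₀.resLE Z' W hle) (by
    rw [← cancel_mono Z'.ι, Category.assoc, Category.assoc, Scheme.Hom.resLE_comp_ι,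
      ← Category.assoc, ← Category.assoc, sW_ι, tW_ι, Category.assoc, Category.assoc, hf₀])
  exact ⟨g ≫ Z'.ι, by rw [← Category.assoc, hg, Scheme.Hom.resLE_comp_ι]⟩

variable [QuotHyp G]

theorem dominant_qW (W : J G) : IsSchemeTheoreticallyDominant (qW G W.1) := by
  haveI : IsIntegralHom (qW G W.1) := isIntegralHom_toQuot G W.2.2 W.2.1
  constructor
  apply Scheme.IdealSheafData.ext_of_isAffine
  rw [Scheme.Hom.ker_apply, Scheme.IdealSheafData.ideal_bot]
  exact (RingHom.injective_iff_ker_eq_bot _).mp (qW_appTop_injective G W.1)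

theorem epi_qW (W : J G) : Epi (qW G W.1) := by
  haveI : IsIntegralHom (qW G W.1) := isIntegralHom_toQuot G W.2.2 W.2.1
  haveI := dominant_qW G W
  haveI : Surjective (qW G W.1) := ⟨qW_surjective G W⟩
  exact epi_of_surjective_of_dominant _

instance epi_q : Epi (q G) := by
  constructor
  intro Z g g' h
  have key : ∀ W : J G, ιY G W ≫ g = ιY G W ≫ g' := by
    intro W
    haveI := epi_qW G W
    rw [← cancel_epi (qW G W.1), ← Category.assoc, ← ι_q, Category.assoc, h, ← Category.assoc,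
      ι_q, Category.assoc]
  exact colimit.hom_ext key

section Desc

variable (P : J G → Prop) (hcov : ∀ x : G.U, ∃ W : J G, P W ∧ x ∈ W.1)

/-- the open cover of the quotient by the local quotients for a covering family of invariant
affine opens -/
@[reducible] noncomputable def coverYP : (Y G).OpenCover where
  I₀ := {W : J G // P W}
  X W := M G W.1.1
  f W := ιY G W.1
  mem₀ := by
    rw [Scheme.presieve₀_mem_precoverage_iff]
    refine ⟨fun y => ?_, fun W => inferInstanceAs (IsOpenImmersion (ιY G W.1))⟩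
    obtain ⟨u, rfl⟩ := q_surjective G y
    obtain ⟨W, hPW, huW⟩ := hcov u
    exact ⟨⟨W, hPW⟩, qW G W.1 ⟨u, huW⟩, (q_apply G W ⟨u, huW⟩).symm⟩

instance : Preorder (coverYP G P hcov).I₀ := inferInstanceAs (Preorder {W : J G // P W})

variable (hlow : ∀ {W W' : J G}, W' ≤ W → P W → P W')

include hlow in
/-- the cover `coverYP` is locally directed when `P` is a lower set -/
@[reducible] noncomputable def locallyDirectedYP : (coverYP G P hcov).LocallyDirected where
  trans {W₁ W₂} f := Fmap G (show W₁.1.1 ≤ W₂.1.1 from leOfHom f)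
  trans_id W := Fmap_id G W.1.1
  trans_comp f g := (Fmap_comp G _ _).symm
  w {W₁ W₂} f := F_map_ιY G (homOfLE (show W₁.1 ≤ W₂.1 from leOfHom f))
  directed {W₁ W₂} z := by
    have hz : ιY G W₁.1 (pullback.fst (ιY G W₁.1) (ιY G W₂.1) z) =
        ιY G W₂.1 (pullback.snd (ιY G W₁.1) (ιY G W₂.1) z) := by
      rw [← Scheme.Hom.comp_apply, ← Scheme.Hom.comp_apply, pullback.condition]
    obtain ⟨k, fi, fj, m, hm1, hm2⟩ := (Scheme.IsLocallyDirected.ι_eq_ι_iff (F G)).mp hz
    have hPk : P k := hlow (leOfHom fi) W₁.2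
    let k' : {W : J G // P W} := ⟨k, hPk⟩
    have hk1 : k' ≤ W₁ := leOfHom fi
    have hk2 : k' ≤ W₂ := leOfHom fj
    refine ⟨k', homOfLE hk1, homOfLE hk2, m, ?_⟩
    apply (pullback.fst (ιY G W₁.1) (ιY G W₂.1)).isOpenEmbedding.injective
    rw [← Scheme.Hom.comp_apply, pullback.lift_fst]
    exact hm1
  property_trans {W₁ W₂} f :=
    isOpenImmersion_Fmap G _ W₁.1.2.2 W₁.1.2.1 W₂.1.2.2 W₂.1.2.1

end Desc

theorem exists_desc {Z : Scheme.{u}} (f₀ : G.U ⟶ Z) (hf₀ : G.s ≫ f₀ = G.t ≫ f₀) :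
    ∃ g : Y G ⟶ Z, q G ≫ g = f₀ := by
  let P : J G → Prop := fun W => ∃ Z' : Z.Opens, IsAffineOpen Z' ∧ W.1 ≤ f₀ ⁻¹ᵁ Z'
  have hcov : ∀ x : G.U, ∃ W : J G, P W ∧ x ∈ W.1 := by
    intro x
    obtain ⟨_, ⟨(Z' : Z.Opens), hZ', rfl⟩, hxZ', -⟩ :=
      Z.isBasis_affineOpens.exists_subset_of_mem_open (Set.mem_univ (f₀ x)) isOpen_univ
    obtain ⟨W, hA, hinv, hxW, hle⟩ := exists_invAffine_le G (f₀ ⁻¹ᵁ Z')
      (IsInv.of_comp f₀ hf₀ Z') x hxZ'
    exact ⟨⟨W, hA, hinv⟩, ⟨Z', hZ', hle⟩, hxW⟩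
  have hlow : ∀ {W W' : J G}, W' ≤ W → P W → P W' := by
    rintro W W' hle ⟨Z', hZ', hWZ'⟩
    exact ⟨Z', hZ', le_trans (show W'.1 ≤ W.1 from hle) hWZ'⟩
  letI := locallyDirectedYP G P hcov hlow
  have hex : ∀ W : {W : J G // P W}, ∃ g : M G W.1.1 ⟶ Z, qW G W.1.1 ≫ g = W.1.1.ι ≫ f₀ := by
    rintro ⟨W, Z', hZ', hle⟩
    exact exists_factor G W.1 f₀ hf₀ Z' hZ' hle
  choose gW hgW using hex
  have hcompat : ∀ {i j : (coverYP G P hcov).I₀} (hij : i ⟶ j),
      (coverYP G P hcov).trans hij ≫ gW j = gW i := by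
    intro i j hij
    haveI := epi_qW G i.1
    rw [← cancel_epi (qW G i.1.1), hgW i]
    show qW G i.1.1 ≫ Fmap G (show i.1.1 ≤ j.1.1 from leOfHom hij) ≫ gW j = _
    rw [← Category.assoc, ← qW_natural, Category.assoc, hgW j, ← Category.assoc,
      Scheme.homOfLE_ι]
  refine ⟨(coverYP G P hcov).glueMorphismsOfLocallyDirected gW hcompat, ?_⟩
  apply Scheme.hom_ext_of_forall
  intro x
  obtain ⟨W, hPW, hxW⟩ := hcov x
  refine ⟨W.1, hxW, ?_⟩
  rw [← Category.assoc, ι_q, Category.assoc]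
  have := (coverYP G P hcov).map_glueMorphismsOfLocallyDirected gW hcompat ⟨W, hPW⟩
  show qW G W.1 ≫ ιY G W ≫ _ = _
  rw [this]
  exact hgW ⟨W, hPW⟩

/-- the quotient is a coequaliser of `s` and `t` -/
noncomputable def isColimit_q : IsColimit (Cofork.ofπ (q G) (s_q G)) :=
  Cofork.IsColimit.mk _ (fun c => (exists_desc G c.π c.condition).choose)
    (fun c => (exists_desc G c.π c.condition).choose_spec)
    (fun c m hm => by
      rw [← cancel_epi (q G)]
      exact hm.trans (exists_desc G c.π c.condition).choose_spec.symm)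

/-- the quotient is a coequaliser of `t` and `s` -/
noncomputable def isColimit_q' : IsColimit (Cofork.ofπ (q G) (s_q G).symm) :=
  Cofork.IsColimit.mk _ (fun c => (exists_desc G c.π c.condition.symm).choose)
    (fun c => (exists_desc G c.π c.condition.symm).choose_spec)
    (fun c m hm => by
      rw [← cancel_epi (q G)]
      exact hm.trans (exists_desc G c.π c.condition.symm).choose_spec.symm)

end Groth.Agent.Helper8.GrpdGlue
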