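import Mathlib
import Groth.Agent.Helper8.GrpdGlueE

/-!
# Quotients by finite locally free groupoids: the free case and further properties
-/

set_option autoImplicit false
universe u

namespace Groth.Agent.Helper8.GrpdGlue

open CategoryTheory CategoryTheory.Limits AlgebraicGeometry Grpd
open Groth.Agent.Helper2 Groth.Agent.Helper2.Grpd23

variable {S : Scheme.{u}} (G : Grpd.GroupoidScheme S) [QuotHyp G]

/-- the canonical morphism `R ⟶ U ×_Y U` -/
noncomputable def φ : G.R ⟶ pullback (q G) (q G) := pullback.lift G.t G.s (s_q G).symm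

theorem φ_fst : φ G ≫ pullback.fst (q G) (q G) = G.t := pullback.lift_fst _ _ _

theorem φ_snd : φ G ≫ pullback.snd (q G) (q G) = G.s := pullback.lift_snd _ _ _

/-- the open immersion of the local fibre product into the global one -/
noncomputable def κ (W : J G) : pullback (qW G W.1) (qW G W.1) ⟶ pullback (q G) (q G) :=
  pullback.map (qW G W.1) (qW G W.1) (q G) (q G) W.1.ι W.1.ι (ιY G W) (ι_q G W).symm
    (ι_q G W).symm

instance (W : J G) : IsOpenImmersion (κ G W) := by
  unfold κ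
  infer_instance

theorem κ_fst (W : J G) : κ G W ≫ pullback.fst (q G) (q G) =
    pullback.fst (qW G W.1) (qW G W.1) ≫ W.1.ι := pullback.lift_fst _ _ _

theorem κ_snd (W : J G) : κ G W ≫ pullback.snd (q G) (q G) =
    pullback.snd (qW G W.1) (qW G W.1) ≫ W.1.ι := pullback.lift_snd _ _ _

theorem mem_range_κ (W : J G) (z : ↥(pullback (q G) (q G))) :
    z ∈ Set.range (κ G W) ↔
      pullback.fst (q G) (q G) z ∈ W.1 ∧ pullback.snd (q G) (q G) z ∈ W.1 := by
  unfold κ
  rw [Scheme.Pullback.range_map]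
  simp only [Set.mem_inter_iff, Set.mem_preimage, Scheme.Opens.range_ι, SetLike.mem_coe]

theorem snd_mem_of_fst_mem (W : J G) (z : ↥(pullback (q G) (q G)))
    (h : pullback.fst (q G) (q G) z ∈ W.1) : pullback.snd (q G) (q G) z ∈ W.1 := by
  have e : q G (pullback.fst (q G) (q G) z) = q G (pullback.snd (q G) (q G) z) := by
    rw [← Scheme.Hom.comp_apply, ← Scheme.Hom.comp_apply, pullback.condition]
  obtain ⟨r, hr1, hr2⟩ := (q_eq_iff G _ _).mp e
  rw [← hr2]
  apply (W.2.2 r).mp
  rw [hr1]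
  exact h

/-- the cover of `U ×_Y U` by the local fibre products -/
noncomputable def coverPP : (pullback (q G) (q G)).OpenCover :=
  Scheme.Cover.mkOfCovers (J G) (fun W => pullback (qW G W.1) (qW G W.1)) (κ G) (fun z => by
    obtain ⟨W, hW⟩ := exists_J_mem G (pullback.fst (q G) (q G) z)
    obtain ⟨y, hy⟩ := (mem_range_κ G W z).mpr ⟨hW, snd_mem_of_fst_mem G W z hW⟩
    exact ⟨W, y, hy⟩) (fun W => inferInstanceAs (IsOpenImmersion (κ G W)))

section Mono

variable [Mono G.j]

theorem isPullback_local (W : J G) :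
    IsPullback (GW G W.1).t (GW G W.1).s (qW G W.1) (qW G W.1) :=
  (mono_case G W.2.2 W.2.1).2

/-- the local version of `φ` -/
noncomputable def φW (W : J G) : R' G W.1.ι ⟶ pullback (qW G W.1) (qW G W.1) :=
  (isPullback_local G W).isoPullback.hom

instance (W : J G) : IsIso (φW G W) := by
  unfold φW
  infer_instance

theorem φW_fst (W : J G) : φW G W ≫ pullback.fst (qW G W.1) (qW G W.1) = t' G W.1.ι :=
  (isPullback_local G W).isoPullback_hom_fst

theorem φW_snd (W : J G) : φW G W ≫ pullback.snd (qW G W.1) (qW G W.1) = s' G W.1.ι :=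
  (isPullback_local G W).isoPullback_hom_snd

theorem π_φ (W : J G) : π G W.1.ι ≫ φ G = φW G W ≫ κ G W := by
  apply pullback.hom_ext
  · rw [Category.assoc, φ_fst, Category.assoc, κ_fst, ← Category.assoc, φW_fst, π_t]
  · rw [Category.assoc, φ_snd, Category.assoc, κ_snd, ← Category.assoc, φW_snd, π_s]

theorem isPullback_φ (W : J G) : IsPullback (π G W.1.ι) (φW G W) (φ G) (κ G W) :=
  (IsOpenImmersion.isPullback (φW G W) (π G W.1.ι) (κ G W) (φ G) (π_φ G W) (by
    rw [opensRange_π]
    ext r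
    show φ G r ∈ Set.range (κ G W) ↔ r ∈ O G W.1
    rw [mem_range_κ, ← Scheme.Hom.comp_apply, ← Scheme.Hom.comp_apply, φ_fst, φ_snd]
    exact and_comm)).flip

theorem isIso_φ : IsIso (φ G) :=
  of_openCover_isPullback (P := MorphismProperty.isomorphisms Scheme.{u}) (φ G) (coverPP G)
    (fun W : J G => R' G W.1.ι) (fun W => π G W.1.ι) (fun W => φW G W)
    (fun W => isPullback_φ G W) (fun W => inferInstanceAs (IsIso (φW G W)))

theorem isFinite_q : IsFinite (q G) :=
  of_local G (P := @IsFinite) (fun W => (mono_case G W.2.2 W.2.1).1.1)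

theorem flat_q : Flat (q G) :=
  of_local G (P := @Flat) (fun W => (mono_case G W.2.2 W.2.1).1.2.1)

theorem lfp_q : LocallyOfFinitePresentation (q G) :=
  of_local G (P := @LocallyOfFinitePresentation) (fun W => (mono_case G W.2.2 W.2.1).1.2.2)

end Mono

theorem isOpenMap_q : IsOpenMap (q G) := by
  have hq : Topology.IsQuotientMap (q G) :=
    (q G).isClosedMap.isQuotientMap (q G).continuous (q_surjective G)
  haveI := flat_t G
  haveI := lfp_t G
  have ht : IsOpenMap G.t := G.t.isOpenMap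
  intro O hO
  rw [← hq.isOpen_preimage]
  have : (q G) ⁻¹' ((q G) '' O) = G.t '' (G.s ⁻¹' O) := by
    ext x
    constructor
    · rintro ⟨x', hx', hxx'⟩
      obtain ⟨r, hr1, hr2⟩ := (q_eq_iff G x' x).mp hxx'
      exact ⟨r, by show G.s r ∈ O; rw [hr1]; exact hx', hr2⟩
    · rintro ⟨r, hr, rfl⟩
      exact ⟨G.s r, hr, (q_eq_iff G _ _).mpr ⟨r, rfl, rfl⟩⟩
  rw [this]
  exact ht _ (hO.preimage G.s.continuous)

theorem isAffine_Y [IsAffine G.U] : IsAffine (Y G) := by
  let W₀ : J G := ⟨⊤, isAffineOpen_top G.U, fun _ => Iff.rfl⟩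
  haveI : Surjective (ιY G W₀) := by
    constructor
    intro y
    obtain ⟨u, rfl⟩ := q_surjective G y
    exact ⟨qW G W₀.1 ⟨u, trivial⟩, (q_apply G W₀ ⟨u, trivial⟩).symm⟩
  haveI : IsIso (ιY G W₀) :=
    (isIso_iff_isOpenImmersion_and_surjective _).mpr ⟨inferInstance, inferInstance⟩
  exact IsAffine.of_isIso (inv (ιY G W₀))

theorem φ_surjective : Function.Surjective (φ G) := by
  intro z
  let PP := pullback (q G) (q G)
  let Ω := AlgebraicClosure (PP.residueField z)
  obtain ⟨zbar, hzbar⟩ : ∃ zbar : Spec (CommRingCat.of Ω) ⟶ PP,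
      ∀ s : Spec (CommRingCat.of Ω), zbar s = z := by
    refine ⟨Spec.map (CommRingCat.ofHom (algebraMap (PP.residueField z) Ω)) ≫
      PP.fromSpecResidueField z, fun s => ?_⟩
    rw [Scheme.Hom.comp_apply, Scheme.fromSpecResidueField_apply]
  obtain ⟨W, hW⟩ := exists_J_mem G (pullback.fst (q G) (q G) z)
  have hW' := snd_mem_of_fst_mem G W z hW
  have hr1 : Set.range (zbar ≫ pullback.fst (q G) (q G)) ⊆ Set.range W.1.ι := by
    rintro _ ⟨s, rfl⟩
    rw [Scheme.Opens.range_ι, Scheme.Hom.comp_apply, hzbar]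
    exact hW
  have hr2 : Set.range (zbar ≫ pullback.snd (q G) (q G)) ⊆ Set.range W.1.ι := by
    rintro _ ⟨s, rfl⟩
    rw [Scheme.Opens.range_ι, Scheme.Hom.comp_apply, hzbar]
    exact hW'
  let x : Spec (CommRingCat.of Ω) ⟶ W.1.toScheme := IsOpenImmersion.lift W.1.ι _ hr1
  let y : Spec (CommRingCat.of Ω) ⟶ W.1.toScheme := IsOpenImmersion.lift W.1.ι _ hr2
  have hx : x ≫ W.1.ι = zbar ≫ pullback.fst (q G) (q G) := IsOpenImmersion.lift_fac _ _ _
  have hy : y ≫ W.1.ι = zbar ≫ pullback.snd (q G) (q G) := IsOpenImmersion.lift_fac _ _ _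
  have hxy : x ≫ (GW G W.1).toQuot = y ≫ (GW G W.1).toQuot := by
    show x ≫ qW G W.1 = y ≫ qW G W.1
    rw [← cancel_mono (ιY G W), Category.assoc, Category.assoc, ← ι_q, ← Category.assoc,
      ← Category.assoc, hx, hy, Category.assoc, Category.assoc, pullback.condition]
  obtain ⟨r, hrt, hrs⟩ := exists_geom_point G W.2.2 W.2.1 x y hxy
  have hrφ : r ≫ φ G = zbar := by
    apply pullback.hom_ext
    · rw [Category.assoc, φ_fst, hrt, hx]
    · rw [Category.assoc, φ_snd, hrs, hy]
  let s₀ : Spec (CommRingCat.of Ω) := IsLocalRing.closedPoint Ω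
  refine ⟨r s₀, ?_⟩
  rw [← Scheme.Hom.comp_apply, hrφ, hzbar]

end Groth.Agent.Helper8.GrpdGlue
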