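import Mathlib
import Groth.Prelude.Def_Grpd
import Groth.Agent.Helper2.Grpd2

/-!
# Sub-groupoids of a groupoid scheme: the groupoid of `T`-points and arrows of the sub-groupoid

For a groupoid scheme `G` and a scheme `T`, `Pt G T` is the (honest) groupoid of `T`-points.
For a sub-groupoid `P ⟶ R` which is an equivalence relation with quotient `q : U ⟶ Ū`
(`P = U ×_Ū U`), `arP x y` is the unique arrow of `P` between two `T`-points with the same image.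
-/

set_option autoImplicit false
universe u

namespace Groth.Agent.Helper8.SubGrpd

open CategoryTheory CategoryTheory.Limits AlgebraicGeometry
open Grpd Groth.Agent.Helper2

variable {S : Scheme.{u}} {G : Grpd.GroupoidScheme S}

/-- `T`-points of the object scheme. -/
structure Pt (G : Grpd.GroupoidScheme S) (T : Scheme.{u}) where
  /-- the point -/
  pt : T ⟶ G.U

/-- `T`-points of the arrow scheme with prescribed source and target -/
@[ext] structure PHom {T : Scheme.{u}} (x y : Pt G T) where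
  /-- the arrow -/
  ar : T ⟶ G.R
  hs : ar ≫ G.s = x.pt
  ht : ar ≫ G.t = y.pt

noncomputable instance instGroupoidPt {T : Scheme.{u}} : Groupoid (Pt G T) where
  Hom x y := PHom x y
  id x := ⟨x.pt ≫ G.e, Grpd2.e_s' G _, Grpd2.e_t' G _⟩
  comp {x y z} f g := ⟨Grpd2.mul G g.ar f.ar (g.hs.trans f.ht.symm),
    (Grpd2.mul_s G _ _ _).trans f.hs, (Grpd2.mul_t G _ _ _).trans g.ht⟩
  id_comp {x y} f := by
    apply PHom.ext
    show Grpd2.mul G f.ar (x.pt ≫ G.e) _ = f.ar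
    have h0 : f.ar ≫ G.s = (f.ar ≫ G.s ≫ G.e) ≫ G.t := by
      rw [← Category.assoc]; exact (Grpd2.e_t' G _).symm
    refine (Grpd2.mul_congr G _ h0 rfl ?_).trans (Grpd2.mul_e G f.ar h0)
    rw [← f.hs, Category.assoc]
  comp_id {x y} f := by
    apply PHom.ext
    show Grpd2.mul G (y.pt ≫ G.e) f.ar _ = f.ar
    have h0 : (f.ar ≫ G.t ≫ G.e) ≫ G.s = f.ar ≫ G.t := by
      rw [← Category.assoc]; exact Grpd2.e_s' G _
    refine (Grpd2.mul_congr G _ h0 ?_ rfl).trans (Grpd2.e_mul G f.ar h0)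
    rw [← f.ht, Category.assoc]
  assoc {w x y z} f g h := by
    apply PHom.ext
    exact (Grpd2.mul_assoc G h.ar g.ar f.ar _ _ _ _).symm
  inv {x y} f := ⟨f.ar ≫ G.i, (Grpd2.i_s' G _).trans f.ht, (Grpd2.i_t' G _).trans f.hs⟩
  inv_comp {x y} f := by
    apply PHom.ext
    show Grpd2.mul G f.ar (f.ar ≫ G.i) _ = y.pt ≫ G.e
    rw [Grpd2.mul_i, ← f.ht, Category.assoc]
  comp_inv {x y} f := by
    apply PHom.ext
    show Grpd2.mul G (f.ar ≫ G.i) f.ar _ = x.pt ≫ G.e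
    rw [Grpd2.i_mul, ← f.hs, Category.assoc]

section basic

variable {T : Scheme.{u}}

lemma comp_ar {x y z : Pt G T} (f : x ⟶ y) (g : y ⟶ z) :
    (f ≫ g).ar = Grpd2.mul G g.ar f.ar (g.hs.trans f.ht.symm) := rfl

lemma id_ar (x : Pt G T) : (𝟙 x : x ⟶ x).ar = x.pt ≫ G.e := rfl

lemma inv_ar {x y : Pt G T} (f : x ⟶ y) : (inv f).ar = f.ar ≫ G.i := by
  rw [← Groupoid.inv_eq_inv]; rfl

@[ext] lemma hom_ext' {x y : Pt G T} {f f' : x ⟶ y} (h : f.ar = f'.ar) : f = f' := PHom.ext h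

/-- the arrow given by a `T`-point of `R` -/
def ofR (v : T ⟶ G.R) : (⟨v ≫ G.s⟩ : Pt G T) ⟶ ⟨v ≫ G.t⟩ := ⟨v, rfl, rfl⟩

@[simp] lemma ofR_ar (v : T ⟶ G.R) : (ofR v).ar = v := rfl

lemma comp_ar_congr {x y z x' y' z' : Pt G T} (f : x ⟶ y) (g : y ⟶ z) (f' : x' ⟶ y')
    (g' : y' ⟶ z') (hf : f.ar = f'.ar) (hg : g.ar = g'.ar) : (f ≫ g).ar = (f' ≫ g').ar :=
  Grpd2.mul_congr G _ _ hg hf

lemma comp3_ar_congr {x y z w x' y' z' w' : Pt G T} (f : x ⟶ y) (g : y ⟶ z) (h : z ⟶ w)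
    (f' : x' ⟶ y') (g' : y' ⟶ z') (h' : z' ⟶ w') (hf : f.ar = f'.ar) (hg : g.ar = g'.ar)
    (hh : h.ar = h'.ar) : (f ≫ g ≫ h).ar = (f' ≫ g' ≫ h').ar :=
  comp_ar_congr _ _ _ _ hf (comp_ar_congr _ _ _ _ hg hh)

lemma inv_ar_congr {x y x' y' : Pt G T} (f : x ⟶ y) (f' : x' ⟶ y') (hf : f.ar = f'.ar) :
    (inv f).ar = (inv f').ar := by
  rw [inv_ar, inv_ar, hf]

/-- base change of points -/
noncomputable def pullF {T' : Scheme.{u}} (g : T' ⟶ T) : Pt G T ⥤ Pt G T' where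
  obj x := ⟨g ≫ x.pt⟩
  map {x y} f := ⟨g ≫ f.ar, by rw [Category.assoc, f.hs], by rw [Category.assoc, f.ht]⟩
  map_id x := by
    apply PHom.ext
    show g ≫ x.pt ≫ G.e = (g ≫ x.pt) ≫ G.e
    rw [Category.assoc]
  map_comp {x y z} f f' := by
    apply PHom.ext
    exact Grpd2.comp_mul G g _ _ _ _

@[simp] lemma pullF_obj_pt {T' : Scheme.{u}} (g : T' ⟶ T) (x : Pt G T) :
    ((pullF g).obj x).pt = g ≫ x.pt := rfl

@[simp] lemma pullF_map_ar {T' : Scheme.{u}} (g : T' ⟶ T) {x y : Pt G T} (f : x ⟶ y) :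
    ((pullF g).map f).ar = g ≫ f.ar := rfl

end basic

/-- A sub-groupoid `P ⟶ R` (closed under identities, inverses and composition). -/
structure SubData (G : Grpd.GroupoidScheme S) where
  P : Scheme.{u}
  ι : P ⟶ G.R
  eP : G.U ⟶ P
  he : eP ≫ ι = G.e
  iP : P ⟶ P
  hi : iP ≫ ι = ι ≫ G.i
  cP : pullback (ι ≫ G.s) (ι ≫ G.t) ⟶ P
  hc : cP ≫ ι = pullback.map (ι ≫ G.s) (ι ≫ G.t) G.s G.t ι ι (𝟙 G.U) (Category.comp_id _)
    (Category.comp_id _) ≫ G.c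

section sub

variable (d : SubData G)

lemma cP_ι {T : Scheme.{u}} (α β : T ⟶ d.P) (h : α ≫ d.ι ≫ G.s = β ≫ d.ι ≫ G.t)
    (h' : (α ≫ d.ι) ≫ G.s = (β ≫ d.ι) ≫ G.t) :
    (pullback.lift α β h ≫ d.cP) ≫ d.ι = Grpd2.mul G (α ≫ d.ι) (β ≫ d.ι) h' := by
  rw [Category.assoc, d.hc, ← Category.assoc]
  unfold Grpd2.mul
  congr 1
  apply pullback.hom_ext
  · rw [Category.assoc, pullback.lift_fst, pullback.lift_fst_assoc, pullback.lift_fst]
  · rw [Category.assoc, pullback.lift_snd, pullback.lift_snd_assoc, pullback.lift_snd]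

variable [Mono d.ι]

/-- the sub-groupoid as a groupoid scheme -/
@[reducible] noncomputable def gp : Grpd.GroupoidScheme S where
  U := G.U
  R := d.P
  pU := G.pU
  pR := d.ι ≫ G.pR
  s := d.ι ≫ G.s
  t := d.ι ≫ G.t
  e := d.eP
  i := d.iP
  c := d.cP
  s_over := by rw [Category.assoc, G.s_over]
  t_over := by rw [Category.assoc, G.t_over]
  comp_s α β h := by
    have h' : (α ≫ d.ι) ≫ G.s = (β ≫ d.ι) ≫ G.t := by simpa only [Category.assoc] using h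
    rw [← Category.assoc, cP_ι d α β h h', Grpd2.mul_s, Category.assoc]
  comp_t α β h := by
    have h' : (α ≫ d.ι) ≫ G.s = (β ≫ d.ι) ≫ G.t := by simpa only [Category.assoc] using h
    rw [← Category.assoc, cP_ι d α β h h', Grpd2.mul_t, Category.assoc]
  assoc α β γ h₁ h₂ := by
    have h₁' : (α ≫ d.ι) ≫ G.s = (β ≫ d.ι) ≫ G.t := by simpa only [Category.assoc] using h₁
    have h₂' : (β ≫ d.ι) ≫ G.s = (γ ≫ d.ι) ≫ G.t := by simpa only [Category.assoc] using h₂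
    rw [← cancel_mono d.ι]
    have e1 : (pullback.lift α β h₁ ≫ d.cP) ≫ d.ι = Grpd2.mul G (α ≫ d.ι) (β ≫ d.ι) h₁' :=
      cP_ι d α β h₁ h₁'
    have e2 : (pullback.lift β γ h₂ ≫ d.cP) ≫ d.ι = Grpd2.mul G (β ≫ d.ι) (γ ≫ d.ι) h₂' :=
      cP_ι d β γ h₂ h₂'
    have k1 : ((pullback.lift α β h₁ ≫ d.cP) ≫ d.ι) ≫ G.s = (γ ≫ d.ι) ≫ G.t := by
      rw [e1, Grpd2.mul_s, h₂']
    have k2 : (α ≫ d.ι) ≫ G.s = ((pullback.lift β γ h₂ ≫ d.cP) ≫ d.ι) ≫ G.t := by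
      rw [e2, Grpd2.mul_t, h₁']
    rw [cP_ι d _ γ _ k1, cP_ι d α _ _ k2]
    have k1' : Grpd2.mul G (α ≫ d.ι) (β ≫ d.ι) h₁' ≫ G.s = (γ ≫ d.ι) ≫ G.t := by
      rw [Grpd2.mul_s, h₂']
    have k2' : (α ≫ d.ι) ≫ G.s = Grpd2.mul G (β ≫ d.ι) (γ ≫ d.ι) h₂' ≫ G.t := by
      rw [Grpd2.mul_t, h₁']
    rw [Grpd2.mul_congr G k1 k1' e1 rfl, Grpd2.mul_congr G k2 k2' rfl e2]
    exact Grpd2.mul_assoc G _ _ _ h₁' h₂' k1' k2'
  e_s := by rw [← Category.assoc, d.he, G.e_s]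
  e_t := by rw [← Category.assoc, d.he, G.e_t]
  comp_e α := by
    rw [← cancel_mono d.ι]
    have k : (α ≫ d.ι) ≫ G.s = ((α ≫ (d.ι ≫ G.s) ≫ d.eP) ≫ d.ι) ≫ G.t := by
      simp only [Category.assoc, d.he, G.e_t, Category.comp_id]
    rw [cP_ι d α _ _ k]
    have k' : (α ≫ d.ι) ≫ G.s = ((α ≫ d.ι) ≫ G.s ≫ G.e) ≫ G.t := by
      simp only [Category.assoc, G.e_t, Category.comp_id]
    rw [Grpd2.mul_congr G k k' rfl (by simp only [Category.assoc, d.he])]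
    exact Grpd2.mul_e G _ k'
  e_comp α := by
    rw [← cancel_mono d.ι]
    have k : ((α ≫ (d.ι ≫ G.t) ≫ d.eP) ≫ d.ι) ≫ G.s = (α ≫ d.ι) ≫ G.t := by
      simp only [Category.assoc, d.he, G.e_s, Category.comp_id]
    rw [cP_ι d _ α _ k]
    have k' : ((α ≫ d.ι) ≫ G.t ≫ G.e) ≫ G.s = (α ≫ d.ι) ≫ G.t := by
      simp only [Category.assoc, G.e_s, Category.comp_id]
    rw [Grpd2.mul_congr G k k' (by simp only [Category.assoc, d.he]) rfl]
    exact Grpd2.e_mul G _ k'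
  i_s := by rw [← Category.assoc, d.hi, Category.assoc, G.i_s]
  i_t := by rw [← Category.assoc, d.hi, Category.assoc, G.i_t]
  comp_i α := by
    rw [← cancel_mono d.ι]
    have k : (α ≫ d.ι) ≫ G.s = ((α ≫ d.iP) ≫ d.ι) ≫ G.t := by
      simp only [Category.assoc, d.hi, G.i_t]
    rw [cP_ι d α _ _ k]
    have k' : (α ≫ d.ι) ≫ G.s = ((α ≫ d.ι) ≫ G.i) ≫ G.t := by
      simp only [Category.assoc, G.i_t]
    rw [Grpd2.mul_congr G k k' rfl (by simp only [Category.assoc, d.hi])]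
    rw [Grpd2.mul_i G _ k']
    simp only [Category.assoc, d.he]
  i_comp α := by
    rw [← cancel_mono d.ι]
    have k : ((α ≫ d.iP) ≫ d.ι) ≫ G.s = (α ≫ d.ι) ≫ G.t := by
      simp only [Category.assoc, d.hi, G.i_s]
    rw [cP_ι d _ α _ k]
    have k' : ((α ≫ d.ι) ≫ G.i) ≫ G.s = (α ≫ d.ι) ≫ G.t := by
      simp only [Category.assoc, G.i_s]
    rw [Grpd2.mul_congr G k k' (by simp only [Category.assoc, d.hi]) rfl]
    rw [Grpd2.i_mul G _ k']
    simp only [Category.assoc, d.he]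

lemma gp_j : (gp d).j = d.ι ≫ G.j := by
  apply pullback.hom_ext
  · rw [Category.assoc]
    exact (pullback.lift_fst _ _ _).trans (congrArg (d.ι ≫ ·) (pullback.lift_fst _ _ _)).symm
  · rw [Category.assoc]
    exact (pullback.lift_snd _ _ _).trans (congrArg (d.ι ≫ ·) (pullback.lift_snd _ _ _)).symm

instance mono_gp_j [Mono (d.ι ≫ G.j)] : Mono (gp d).j := by
  rw [gp_j]; infer_instance

end sub

section arrows

variable (d : SubData G) {Ub : Scheme.{u}} {q : G.U ⟶ Ub}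
  (hP : IsPullback (d.ι ≫ G.t) (d.ι ≫ G.s) q q) {T : Scheme.{u}}

/-- an arrow of `T`-points lies in `P` -/
def InP {x y : Pt G T} (f : x ⟶ y) : Prop := ∃ p : T ⟶ d.P, p ≫ d.ι = f.ar

lemma inP_id (x : Pt G T) : InP d (𝟙 x) :=
  ⟨x.pt ≫ d.eP, by rw [Category.assoc, d.he]; rfl⟩

lemma inP_inv {x y : Pt G T} {f : x ⟶ y} (h : InP d f) : InP d (inv f) := by
  obtain ⟨p, hp⟩ := h
  exact ⟨p ≫ d.iP, by rw [Category.assoc, d.hi, ← Category.assoc, hp, inv_ar]⟩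

lemma inP_comp {x y z : Pt G T} {f : x ⟶ y} {g : y ⟶ z} (hf : InP d f) (hg : InP d g) :
    InP d (f ≫ g) := by
  obtain ⟨p, hp⟩ := hf
  obtain ⟨p', hp'⟩ := hg
  have h : p' ≫ d.ι ≫ G.s = p ≫ d.ι ≫ G.t := by
    rw [← Category.assoc, hp', ← Category.assoc, hp, g.hs, f.ht]
  have h' : (p' ≫ d.ι) ≫ G.s = (p ≫ d.ι) ≫ G.t := by
    simpa only [Category.assoc] using h
  refine ⟨pullback.lift p' p h ≫ d.cP, ?_⟩
  rw [cP_ι d p' p h h', comp_ar]
  exact Grpd2.mul_congr G _ _ hp' hp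

lemma inP_map {T' : Scheme.{u}} (g : T' ⟶ T) {x y : Pt G T} {f : x ⟶ y} (h : InP d f) :
    InP d ((pullF g).map f) := by
  obtain ⟨p, hp⟩ := h
  exact ⟨g ≫ p, by rw [Category.assoc, hp]; rfl⟩

include hP in
lemma q_of_inP {x y : Pt G T} {f : x ⟶ y} (h : InP d f) : x.pt ≫ q = y.pt ≫ q := by
  obtain ⟨p, hp⟩ := h
  rw [← f.hs, ← f.ht, ← hp]
  have hw := hP.w
  simp only [Category.assoc] at hw ⊢
  rw [hw]

include hP in
lemma eq_of_inP {x y : Pt G T} {f f' : x ⟶ y} (h : InP d f) (h' : InP d f') : f = f' := by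
  obtain ⟨p, hp⟩ := h
  obtain ⟨p', hp'⟩ := h'
  have e : p = p' := by
    apply hP.hom_ext
    · rw [← Category.assoc, hp, ← Category.assoc, hp', f.ht, f'.ht]
    · rw [← Category.assoc, hp, ← Category.assoc, hp', f.hs, f'.hs]
  apply PHom.ext
  rw [← hp, ← hp', e]

/-- the arrow of `P` between two points with the same image in the quotient -/
noncomputable def arP (x y : Pt G T) (h : x.pt ≫ q = y.pt ≫ q) : x ⟶ y :=
  ⟨hP.lift y.pt x.pt h.symm ≫ d.ι, by rw [Category.assoc]; exact hP.lift_snd _ _ _,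
    by rw [Category.assoc]; exact hP.lift_fst _ _ _⟩

lemma inP_arP (x y : Pt G T) (h : x.pt ≫ q = y.pt ≫ q) : InP d (arP d hP x y h) := ⟨_, rfl⟩

@[simp] lemma arP_self (x : Pt G T) : arP d hP x x rfl = 𝟙 x :=
  eq_of_inP d hP (inP_arP d hP x x rfl) (inP_id d x)

@[simp] lemma arP_comp (x y z : Pt G T) (h : x.pt ≫ q = y.pt ≫ q) (h' : y.pt ≫ q = z.pt ≫ q) :
    arP d hP x y h ≫ arP d hP y z h' = arP d hP x z (h.trans h') :=
  eq_of_inP d hP (inP_comp d (inP_arP d hP x y h) (inP_arP d hP y z h')) (inP_arP d hP x z _)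

@[simp] lemma arP_comp_assoc (x y z : Pt G T) (h : x.pt ≫ q = y.pt ≫ q)
    (h' : y.pt ≫ q = z.pt ≫ q) {w : Pt G T} (f : z ⟶ w) :
    arP d hP x y h ≫ arP d hP y z h' ≫ f = arP d hP x z (h.trans h') ≫ f := by
  rw [← Category.assoc, arP_comp]

@[simp] lemma inv_arP (x y : Pt G T) (h : x.pt ≫ q = y.pt ≫ q) :
    inv (arP d hP x y h) = arP d hP y x h.symm :=
  eq_of_inP d hP (inP_inv d (inP_arP d hP x y h)) (inP_arP d hP y x _)

lemma map_arP {T' : Scheme.{u}} (g : T' ⟶ T) (x y : Pt G T) (h : x.pt ≫ q = y.pt ≫ q)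
    (h' : ((pullF g).obj x).pt ≫ q = ((pullF g).obj y).pt ≫ q) :
    (pullF g).map (arP d hP x y h) = arP d hP ((pullF g).obj x) ((pullF g).obj y) h' :=
  eq_of_inP d hP (inP_map d g (inP_arP d hP x y h)) (inP_arP d hP _ _ _)

lemma arP_ar_congr {x y x' y' : Pt G T} (hx : x.pt = x'.pt) (hy : y.pt = y'.pt)
    (h : x.pt ≫ q = y.pt ≫ q) (h' : x'.pt ≫ q = y'.pt ≫ q) :
    (arP d hP x y h).ar = (arP d hP x' y' h').ar := by
  cases x; cases x'; cases y; cases y'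
  simp only at hx hy
  subst hx hy
  rfl

lemma comp_arP_ar {T' : Scheme.{u}} (g : T' ⟶ T) (x y : Pt G T) (h : x.pt ≫ q = y.pt ≫ q)
    (x' y' : Pt G T') (hx : x'.pt = g ≫ x.pt) (hy : y'.pt = g ≫ y.pt)
    (h' : x'.pt ≫ q = y'.pt ≫ q) :
    g ≫ (arP d hP x y h).ar = (arP d hP x' y' h').ar := by
  have h'' : ((pullF g).obj x).pt ≫ q = ((pullF g).obj y).pt ≫ q := by
    simp only [pullF_obj_pt, Category.assoc, h]
  have := congrArg PHom.ar (map_arP d hP g x y h h'')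
  rw [pullF_map_ar] at this
  rw [this]
  exact arP_ar_congr d hP hx.symm hy.symm _ _

end arrows

end Groth.Agent.Helper8.SubGrpd
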