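import Mathlib
import Groth.Agent.Helper6.CharpolyRevExp
import Groth.Agent.Helper6.LogDeriv
import Groth.Prelude.Def_W4c1zetahwZeta

set_option autoImplicit false
universe u v

namespace Groth.Agent.Helper8.ZAlg

open CategoryTheory AlgebraicGeometry
open PowerSeries Groth.Agent.Helper6.LogDeriv Groth.Agent.Helper6

variable {K : Type v} [Field K] [CharZero K]

/-- the logarithmic derivative of the reversed characteristic polynomial of an endomorphism. -/
theorem hasLD_charpoly_reverse {V : Type*} [AddCommGroup V] [Module K V] [Module.Finite K V]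
    (φ : Module.End K V) :
    HasLD ((φ.charpoly.reverse : Polynomial K) : PowerSeries K)
      (-(PowerSeries.mk fun m => LinearMap.trace K V (φ ^ (m + 1)))) := by
  classical
  let b := Module.finBasis K V
  set M := LinearMap.toMatrix b b φ with hM
  have h1 : φ.charpoly.reverse = M.charpolyRev := by
    rw [← LinearMap.charpoly_toMatrix φ b, Matrix.reverse_charpoly]
  have h2 : ∀ m, LinearMap.trace K V (φ ^ m) = Matrix.trace (M ^ m) := fun m => by
    rw [LinearMap.trace_eq_matrix_trace K b, LinearMap.toMatrix_pow]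
  unfold HasLD
  rw [h1, CharpolyRevExp.derivative_charpolyRev, mul_neg]
  simp only [h2]

theorem constantCoeff_charpoly_reverse {V : Type*} [AddCommGroup V] [Module K V]
    [Module.Finite K V] (φ : Module.End K V) :
    PowerSeries.constantCoeff ((φ.charpoly.reverse : Polynomial K) : PowerSeries K) = 1 := by
  rw [Polynomial.constantCoeff_coe, Polynomial.coeff_zero_reverse, (LinearMap.charpoly_monic φ)]

theorem derivative_map (A : PowerSeries ℚ) :
    PowerSeries.derivative K (PowerSeries.map (algebraMap ℚ K) A) =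
      PowerSeries.map (algebraMap ℚ K) (PowerSeries.derivative ℚ A) := by
  ext m
  rw [PowerSeries.coeff_derivative, PowerSeries.coeff_map, PowerSeries.coeff_map,
    PowerSeries.coeff_derivative, map_mul, map_add, map_natCast, map_one]

section zeta

variable {k₀ : Type u} [Field k₀] {X : Scheme.{u}} (f : X ⟶ Spec (CommRingCat.of k₀))

theorem constantCoeff_logZeta : PowerSeries.constantCoeff (Zeta.logZeta f) = 0 := by
  rw [← PowerSeries.coeff_zero_eq_constantCoeff_apply, Zeta.logZeta, PowerSeries.coeff_mk,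
    Nat.cast_zero, div_zero]

theorem hasLD_zeta :
    HasLD (PowerSeries.map (algebraMap ℚ K) (Zeta.zetaFun f))
      (PowerSeries.mk fun m => (Zeta.nPts f (m + 1) : K)) := by
  have hq : HasLD (Zeta.zetaFun f) (PowerSeries.derivative ℚ (Zeta.logZeta f)) :=
    HasLD.exp_subst (constantCoeff_logZeta f)
  unfold HasLD at hq ⊢
  rw [derivative_map, hq, map_mul]
  congr 1
  ext m
  rw [PowerSeries.coeff_map, PowerSeries.coeff_derivative, Zeta.logZeta, PowerSeries.coeff_mk,
    PowerSeries.coeff_mk]
  have h1 : ((m + 1 : ℕ) : ℚ) ≠ 0 := Nat.cast_ne_zero.mpr (Nat.succ_ne_zero m)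
  have h2 : (Zeta.nPts f (m + 1) : ℚ) / ((m + 1 : ℕ) : ℚ) * ((m : ℚ) + 1) =
      (Zeta.nPts f (m + 1) : ℚ) := by
    have : ((m : ℚ) + 1) = ((m + 1 : ℕ) : ℚ) := by push_cast; ring
    rw [this, div_mul_cancel₀ _ h1]
  rw [h2, map_natCast]

theorem constantCoeff_zeta :
    PowerSeries.constantCoeff (PowerSeries.map (algebraMap ℚ K) (Zeta.zetaFun f)) = 1 := by
  rw [← PowerSeries.coeff_zero_eq_constantCoeff_apply, PowerSeries.coeff_map,
    PowerSeries.coeff_zero_eq_constantCoeff_apply]
  have := constantCoeff_exp_subst (K := ℚ) (constantCoeff_logZeta f)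
  rw [Zeta.zetaFun, this, map_one]

end zeta

theorem alt_sum_split {R : Type*} [CommRing R] (a : ℕ → R) (n : ℕ) :
    ∑ i ∈ Finset.range (2 * n + 1), (-1) ^ i * a i =
      ∑ i ∈ Finset.range (n + 1), a (2 * i) - ∑ i ∈ Finset.range n, a (2 * i + 1) := by
  induction n with
  | zero => simp
  | succ n ih =>
    have e : 2 * (n + 1) + 1 = (2 * n + 1) + 1 + 1 := by ring
    rw [e, Finset.sum_range_succ, Finset.sum_range_succ, ih,
      Finset.sum_range_succ (fun i => a (2 * i)) (n + 1),
      Finset.sum_range_succ (fun i => a (2 * i + 1)) n]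
    have h1 : (-1 : R) ^ (2 * n + 1) = -1 := by rw [pow_succ, pow_mul]; simp
    have h2 : (-1 : R) ^ (2 * n + 1 + 1) = 1 := by rw [pow_succ, h1]; simp
    rw [h1, h2]
    have e2 : 2 * (n + 1) = 2 * n + 1 + 1 := by ring
    rw [e2]
    ring

section identity

variable {k₀ : Type u} [Field k₀] {X : Scheme.{u}} (f : X ⟶ Spec (CommRingCat.of k₀))

/-- The zeta function as an alternating product of reversed characteristic polynomials, given the
trace formula for the numbers of points. -/
theorem zeta_identity (n : ℕ) {V : ℕ → Type*} [∀ i, AddCommGroup (V i)] [∀ i, Module K (V i)]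
    [∀ i, Module.Finite K (V i)] (φ : ∀ i, Module.End K (V i))
    (htr : ∀ m, 1 ≤ m → ∑ i ∈ Finset.range (2 * n + 1),
      (-1 : K) ^ i * LinearMap.trace K (V i) (φ i ^ m) = (Zeta.nPts f m : K)) :
    PowerSeries.map (algebraMap ℚ K) (Zeta.zetaFun f) *
        (∏ i ∈ Finset.range (n + 1), (((φ (2 * i)).charpoly.reverse : Polynomial K) : PowerSeries K)) =
      ∏ i ∈ Finset.range n, (((φ (2 * i + 1)).charpoly.reverse : Polynomial K) : PowerSeries K) := by
  set trs : ℕ → PowerSeries K := fun i =>
    PowerSeries.mk fun m => LinearMap.trace K (V i) (φ i ^ (m + 1)) with htrs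
  have hB : HasLD (∏ i ∈ Finset.range n,
      (((φ (2 * i + 1)).charpoly.reverse : Polynomial K) : PowerSeries K))
      (∑ i ∈ Finset.range n, -(trs (2 * i + 1))) :=
    HasLD.prod _ _ _ fun i _ => hasLD_charpoly_reverse (φ (2 * i + 1))
  have hA0 : HasLD (∏ i ∈ Finset.range (n + 1),
      (((φ (2 * i)).charpoly.reverse : Polynomial K) : PowerSeries K))
      (∑ i ∈ Finset.range (n + 1), -(trs (2 * i))) :=
    HasLD.prod _ _ _ fun i _ => hasLD_charpoly_reverse (φ (2 * i))
  have hA := (hasLD_zeta (K := K) f).mul hA0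
  have hT : (PowerSeries.mk fun m => (Zeta.nPts f (m + 1) : K)) +
      ∑ i ∈ Finset.range (n + 1), -(trs (2 * i)) = ∑ i ∈ Finset.range n, -(trs (2 * i + 1)) := by
    ext m
    rw [map_add, map_sum, map_sum, PowerSeries.coeff_mk, ← htr (m + 1) (by omega),
      alt_sum_split (fun i => LinearMap.trace K (V i) (φ i ^ (m + 1))) n]
    simp only [map_neg, htrs, PowerSeries.coeff_mk, Finset.sum_neg_distrib]
    ring
  rw [hT] at hA
  refine eq_of_HasLD hA hB ?_
  rw [map_mul, map_prod, map_prod, constantCoeff_zeta, one_mul]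
  rw [Finset.prod_congr rfl fun i _ => constantCoeff_charpoly_reverse (φ (2 * i)),
    Finset.prod_congr rfl fun i _ => constantCoeff_charpoly_reverse (φ (2 * i + 1))]
  simp

end identity

/-- a product of coerced polynomials. -/
theorem coe_prod {ι : Type*} (s : Finset ι) (g : ι → Polynomial K) :
    ∏ i ∈ s, ((g i : Polynomial K) : PowerSeries K) =
      ((∏ i ∈ s, g i : Polynomial K) : PowerSeries K) := by
  rw [← Polynomial.coeToPowerSeries.ringHom_apply, map_prod]
  rfl

theorem charpoly_reverse_ne_zero {V : Type*} [AddCommGroup V] [Module K V] [Module.Finite K V]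
    (φ : Module.End K V) : φ.charpoly.reverse ≠ 0 := by
  intro h
  have := Polynomial.coeff_zero_reverse φ.charpoly
  rw [h, Polynomial.coeff_zero, (LinearMap.charpoly_monic φ)] at this
  exact zero_ne_one this

end Groth.Agent.Helper8.ZAlg
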