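import Mathlib
import Groth.Agent.Helper5.IntegralDim

set_option autoImplicit false
universe u

namespace Groth.Agent.Helper8.FrobDeg

open MvPolynomial

/-- The rank of `B` over `A` along a ring homomorphism. -/
noncomputable def frk {A B : Type u} [CommRing A] [CommRing B] (f : A →+* B) : ℕ :=
  @Module.finrank A B _ _ (@Algebra.toModule A B _ _ f.toAlgebra)

/-- Tower law. -/
theorem frk_mul {A B C : Type u} [CommRing A] [CommRing B] [CommRing C] [IsDomain C]
    (f : A →+* B) (g : B →+* C) (hg : Function.Injective g) :
    frk f * frk g = frk (g.comp f) := by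
  letI := f.toAlgebra
  letI := g.toAlgebra
  letI := (g.comp f).toAlgebra
  haveI : IsScalarTower A B C := IsScalarTower.of_algebraMap_eq (fun x => rfl)
  haveI : FaithfulSMul B C := (faithfulSMul_iff_algebraMap_injective B C).2 hg
  exact Module.finrank_mul_finrank' C

/-- Invariance under isomorphisms. -/
theorem frk_equiv {A B A' B' : Type u} [CommRing A] [CommRing B] [CommRing A'] [CommRing B']
    (f : A →+* B) (f' : A' →+* B') (i : A ≃+* A') (j : B ≃+* B')
    (hc : f'.comp i.toRingHom = j.toRingHom.comp f) : frk f = frk f' := by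
  letI := f.toAlgebra
  letI := f'.toAlgebra
  have := Algebra.rank_eq_of_equiv_equiv (R := A) (S := B) (R' := A') (S' := B') i j hc
  unfold frk Module.finrank
  rw [this]

section Expand

variable (k : Type u) [CommRing k] [Nontrivial k] (s q : ℕ) [NeZero q]

/-- The exponent vector attached to a residue vector. -/
noncomputable def hat (e : Fin s → Fin q) : Fin s →₀ ℕ :=
  Finsupp.equivFunOnFinite.symm (fun i => (e i : ℕ))

@[simp] theorem hat_apply (e : Fin s → Fin q) (i : Fin s) : hat s q e i = (e i : ℕ) := rfl

theorem coeff_key (r : MvPolynomial (Fin s) k) (e e0 : Fin s → Fin q) (m' : Fin s →₀ ℕ) :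
    coeff (q • m' + hat s q e0) (expand q r * monomial (hat s q e) 1) =
      if e = e0 then coeff m' r else 0 := by
  have hq : q ≠ 0 := NeZero.ne q
  rw [coeff_mul_monomial', mul_one]
  by_cases he : e = e0
  · subst he
    rw [if_pos rfl, if_pos (le_add_self), add_tsub_cancel_right, coeff_expand_smul q hq]
  · rw [if_neg he]
    split_ifs with hle
    · obtain ⟨i, hi⟩ : ∃ i, e i ≠ e0 i := by
        by_contra hcon
        push Not at hcon
        exact he (funext hcon)
      apply coeff_expand_of_not_dvd (i := i)
      have h1 := hle i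
      simp only [Finsupp.coe_add, Finsupp.coe_smul, Pi.add_apply, Pi.smul_apply, hat_apply,
        smul_eq_mul, Finsupp.coe_tsub, Pi.sub_apply] at h1 ⊢
      have h2 : (e i : ℕ) < q := (e i).2
      have h3 : (e0 i : ℕ) < q := (e0 i).2
      have h4 : (e i : ℕ) ≠ (e0 i : ℕ) := fun h => hi (Fin.ext h)
      intro hdvd
      obtain ⟨c, hc⟩ := hdvd
      rcases lt_or_gt_of_ne h4 with hlt | hgt
      · -- e i < e0 i : q m' + (e0 - e) with 0 < e0 - e < q
        have : q * m' i + (e0 i : ℕ) - (e i : ℕ) = q * m' i + ((e0 i : ℕ) - (e i : ℕ)) := by omega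
        rw [this] at hc
        have h5 : q ∣ ((e0 i : ℕ) - (e i : ℕ)) := by
          have : q ∣ q * m' i + ((e0 i : ℕ) - (e i : ℕ)) := ⟨c, hc⟩
          exact (Nat.dvd_add_right (Dvd.intro _ rfl)).1 this
        have := Nat.le_of_dvd (by omega) h5
        omega
      · -- e0 i < e i ≤ q m' + e0 i
        have hm : 1 ≤ m' i := by
          by_contra hcon
          have : m' i = 0 := by omega
          rw [this] at h1
          omega
        have : q * m' i + (e0 i : ℕ) - (e i : ℕ) =
            q * (m' i - 1) + (q - ((e i : ℕ) - (e0 i : ℕ))) := by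
          have : q * m' i = q * (m' i - 1) + q := by
            conv_lhs => rw [← Nat.sub_add_cancel hm]
            ring
          omega
        rw [this] at hc
        have h5 : q ∣ (q - ((e i : ℕ) - (e0 i : ℕ))) := by
          have : q ∣ q * (m' i - 1) + (q - ((e i : ℕ) - (e0 i : ℕ))) := ⟨c, hc⟩
          exact (Nat.dvd_add_right (Dvd.intro _ rfl)).1 this
        have := Nat.le_of_dvd (by omega) h5
        omega
    · rfl

/-- A copy of the polynomial ring, used as the ring of scalars acting through `expand`. -/
def Src (k : Type u) [CommRing k] (s : ℕ) : Type u := MvPolynomial (Fin s) k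

noncomputable instance : CommRing (Src k s) := inferInstanceAs (CommRing (MvPolynomial (Fin s) k))

noncomputable def srcExpand : Src k s →+* MvPolynomial (Fin s) k :=
  (expand q : MvPolynomial (Fin s) k →ₐ[k] MvPolynomial (Fin s) k).toRingHom

theorem frk_srcExpand : frk (srcExpand k s q) = q ^ s := by
  classical
  have hq : q ≠ 0 := NeZero.ne q
  letI alg : Algebra (Src k s) (MvPolynomial (Fin s) k) := (srcExpand k s q).toAlgebra
  have hsm : ∀ (c : Src k s) (x : MvPolynomial (Fin s) k),
      c • x = expand q (c : MvPolynomial (Fin s) k) * x := fun c x => rfl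
  let v : (Fin s → Fin q) → MvPolynomial (Fin s) k := fun e => monomial (hat s q e) 1
  let Ψ := Fintype.linearCombination (Src k s) v
  have hΨ : ∀ c : (Fin s → Fin q) → Src k s,
      Ψ c = ∑ e, expand q (c e : MvPolynomial (Fin s) k) * monomial (hat s q e) 1 := by
    intro c
    rw [Fintype.linearCombination_apply]
    rfl
  have hinj : Function.Injective Ψ := by
    rw [injective_iff_map_eq_zero]
    intro c hc
    funext e0
    show (c e0 : MvPolynomial (Fin s) k) = 0
    apply MvPolynomial.ext
    intro m'
    have h1 : coeff (q • m' + hat s q e0) (Ψ c) = 0 := by rw [hc]; simp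
    rw [hΨ, coeff_sum] at h1
    simp only [coeff_key] at h1
    rw [Finset.sum_ite_eq' Finset.univ e0] at h1
    refine (?_ : coeff m' (c e0 : MvPolynomial (Fin s) k) = 0).trans (coeff_zero m').symm
    simpa using h1
  have hsurj : Function.Surjective Ψ := by
    intro f
    induction f using MvPolynomial.induction_on' with
    | monomial m a =>
      let e : Fin s → Fin q := fun i => ⟨m i % q, Nat.mod_lt _ (Nat.pos_of_ne_zero hq)⟩
      let m' : Fin s →₀ ℕ := Finsupp.equivFunOnFinite.symm (fun i => m i / q)
      refine ⟨Pi.single e (monomial m' a : MvPolynomial (Fin s) k), ?_⟩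
      rw [hΨ, Finset.sum_eq_single e]
      · have hm : q • m' + hat s q e = m := by
          ext i
          show q * (m i / q) + m i % q = m i
          exact Nat.div_add_mod _ _
        rw [Pi.single_eq_same, expand_monomial, monomial_mul, mul_one, hm]
      · intro b _ hb
        rw [Pi.single_eq_of_ne hb]
        show expand q (0 : MvPolynomial (Fin s) k) * _ = 0
        rw [map_zero, zero_mul]
      · intro h; exact absurd (Finset.mem_univ e) h
    | add p r hp hr =>
      obtain ⟨c1, h1⟩ := hp
      obtain ⟨c2, h2⟩ := hr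
      exact ⟨c1 + c2, by rw [map_add, h1, h2]⟩
  let E := LinearEquiv.ofBijective Ψ ⟨hinj, hsurj⟩
  have h := E.finrank_eq
  haveI : Nontrivial (Src k s) := inferInstanceAs (Nontrivial (MvPolynomial (Fin s) k))
  rw [Module.finrank_pi] at h
  show Module.finrank (Src k s) (MvPolynomial (Fin s) k) = q ^ s
  rw [← h]
  simp

theorem frk_expand :
    frk (expand q : MvPolynomial (Fin s) k →ₐ[k] MvPolynomial (Fin s) k).toRingHom = q ^ s :=
  frk_srcExpand k s q

end Expand


section Frob

/-- Cancellation in towers: a finite injective map commuting with endomorphisms. -/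
theorem frk_eq_of_finite {R B : Type u} [CommRing R] [IsDomain R] [CommRing B] [IsDomain B]
    (g : R →+* B) (hg : Function.Injective g) (hfin : g.Finite) (fR : R →+* R) (fB : B →+* B)
    (hfB : Function.Injective fB) (hcomm : fB.comp g = g.comp fR) : frk fR = frk fB := by
  have h1 := frk_mul fR g hg
  have h2 := frk_mul g fB hfB
  rw [hcomm] at h2
  have hpos : 0 < frk g := by
    letI := g.toAlgebra
    haveI : Module.Finite R B := hfin
    haveI : Module.IsTorsionFree R B := by
      haveI : FaithfulSMul R B := (faithfulSMul_iff_algebraMap_injective R B).2 hg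
      infer_instance
    exact Module.finrank_pos
  have h3 : frk fR * frk g = frk g * frk fB := h1.trans h2.symm
  rw [mul_comm] at h3
  exact Nat.eq_of_mul_eq_mul_left hpos h3

variable (p : ℕ) [Fact p.Prime] (k : Type u) [Field k] [CharP k p] [PerfectRing k p]

theorem frk_frob_mvPolynomial (s e : ℕ) :
    frk (iterateFrobenius (MvPolynomial (Fin s) k) p e) = (p ^ e) ^ s := by
  haveI : NeZero (p ^ e) := ⟨pow_ne_zero _ (Fact.out : p.Prime).ne_zero⟩
  rw [← frk_expand k s (p ^ e)]
  symm
  refine frk_equiv _ _ (RingEquiv.refl _)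
    (MvPolynomial.mapEquiv (Fin s) (iterateFrobeniusEquiv k p e)) ?_
  apply RingHom.ext
  intro f
  show f ^ p ^ e = MvPolynomial.map (iterateFrobenius k p e) (expand (p ^ e) f)
  rw [map_iterateFrobenius_expand]

theorem frk_of_fg (B : Type u) [CommRing B] [IsDomain B] [Algebra k B] [Algebra.FiniteType k B]
    (e : ℕ) (φ : B →+* B) (ψ : B ≃+* B) (hφ : ∀ b, φ b = (ψ b) ^ (p ^ e)) (s : ℕ)
    (hs : ringKrullDim B = s) : frk φ = (p ^ e) ^ s := by
  haveI : CharP B p := charP_of_injective_algebraMap (algebraMap k B).injective p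
  have h1 : frk φ = frk (iterateFrobenius B p e) := by
    refine frk_equiv _ _ ψ (RingEquiv.refl B) ?_
    apply RingHom.ext
    intro b
    show (ψ b) ^ p ^ e = φ b
    rw [hφ]
  obtain ⟨s', g, hginj, hgfin⟩ := exists_finite_inj_algHom_of_fg k B
  have hs' : s' = s := by
    letI := g.toRingHom.toAlgebra
    haveI : Module.Finite (MvPolynomial (Fin s') k) B := hgfin
    haveI : Algebra.IsIntegral (MvPolynomial (Fin s') k) B := Algebra.IsIntegral.of_finite _ _
    have h := Groth.Agent.Helper5.IntegralDim.ringKrullDim_eq_of_isIntegral_of_injective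
      (R := MvPolynomial (Fin s') k) (S := B) hginj
    rw [hs, MvPolynomial.ringKrullDim_of_isNoetherianRing, ringKrullDim_eq_zero_of_field,
      zero_add, Nat.card_eq_fintype_card, Fintype.card_fin] at h
    exact_mod_cast h.symm
  subst hs'
  have h2 : frk (iterateFrobenius (MvPolynomial (Fin s') k) p e) = frk (iterateFrobenius B p e) := by
    refine frk_eq_of_finite g.toRingHom hginj hgfin _ _ ?_ ?_
    · exact iterateFrobenius_inj B p e
    · apply RingHom.ext
      intro r
      show (g r) ^ p ^ e = g (r ^ p ^ e)
      rw [map_pow]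
  rw [h1, ← h2, frk_frob_mvPolynomial]

end Frob

end Groth.Agent.Helper8.FrobDeg
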