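import Mathlib
import Groth.Agent.Helper8.FrobDeg1

set_option autoImplicit false
universe u

namespace Groth.Agent.Helper8.FrobDeg

open CategoryTheory CategoryTheory.Limits

/-- Abstract ring lemma: on a pushout `A ⊗_{A0} K`, an endomorphism which is the `q`-th power on
`A` and the identity on `K` is the `q`-th power of an automorphism, if `K` is perfect. -/
theorem exists_equiv_pow {A0 A K B : CommRingCat.{u}} (a : A0 ⟶ A) (j : A0 ⟶ K) (ιA : A ⟶ B)
    (ιK : K ⟶ B) (hpo : IsPushout a j ιA ιK) (q : ℕ) (σ : K ≃+* K) (hσ : ∀ c : K, σ c = c ^ q)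
    (hj : ∀ c : A0, (j.hom c) ^ q = j.hom c)
    (frob : B →+* B) (hfrob : ∀ b : B, frob b = b ^ q)
    (φ : B ⟶ B) (hφA : ∀ x : A, φ.hom (ιA.hom x) = (ιA.hom x) ^ q)
    (hφK : ∀ c : K, φ.hom (ιK.hom c) = ιK.hom c) :
    ∃ ψ : B ≃+* B, ∀ b : B, φ.hom b = (ψ b) ^ q := by
  -- the two twists of `K`
  let τ : K ⟶ K := CommRingCat.ofHom σ.symm.toRingHom
  let τ' : K ⟶ K := CommRingCat.ofHom σ.toRingHom
  have hjτ : j ≫ τ = j := by
    ext c
    show σ.symm (j.hom c) = j.hom c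
    rw [RingEquiv.symm_apply_eq, hσ, hj]
  have hjτ' : j ≫ τ' = j := by
    ext c
    show σ (j.hom c) = j.hom c
    rw [hσ, hj]
  have hττ' : τ ≫ τ' = 𝟙 K := by
    ext c
    show σ (σ.symm c) = c
    simp
  have hτ'τ : τ' ≫ τ = 𝟙 K := by
    ext c
    show σ.symm (σ c) = c
    simp
  have w1 : a ≫ ιA = j ≫ (τ ≫ ιK) := by rw [← Category.assoc, hjτ, hpo.w]
  have w2 : a ≫ ιA = j ≫ (τ' ≫ ιK) := by rw [← Category.assoc, hjτ', hpo.w]
  let ψ1 : B ⟶ B := hpo.desc ιA (τ ≫ ιK) w1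
  let ψ2 : B ⟶ B := hpo.desc ιA (τ' ≫ ιK) w2
  have h12 : ψ1 ≫ ψ2 = 𝟙 B := by
    apply hpo.hom_ext
    · rw [← Category.assoc, hpo.inl_desc, hpo.inl_desc, Category.comp_id]
    · rw [← Category.assoc, hpo.inr_desc, Category.assoc, hpo.inr_desc, ← Category.assoc, hττ',
        Category.id_comp, Category.comp_id]
  have h21 : ψ2 ≫ ψ1 = 𝟙 B := by
    apply hpo.hom_ext
    · rw [← Category.assoc, hpo.inl_desc, hpo.inl_desc, Category.comp_id]
    · rw [← Category.assoc, hpo.inr_desc, Category.assoc, hpo.inr_desc, ← Category.assoc, hτ'τ,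
        Category.id_comp, Category.comp_id]
  let Ψ : B ≅ B := ⟨ψ1, ψ2, h12, h21⟩
  refine ⟨Ψ.commRingCatIsoToRingEquiv, ?_⟩
  have key : φ = ψ1 ≫ CommRingCat.ofHom frob := by
    apply hpo.hom_ext
    · rw [← Category.assoc, hpo.inl_desc]
      ext x
      show φ.hom (ιA.hom x) = frob (ιA.hom x)
      rw [hφA, hfrob]
    · rw [← Category.assoc, hpo.inr_desc]
      ext c
      show φ.hom (ιK.hom c) = frob (ιK.hom (σ.symm c))
      rw [hφK, hfrob, ← map_pow, ← hσ, RingEquiv.apply_symm_apply]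
  intro b
  rw [key]
  show frob (ψ1.hom b) = _
  rw [hfrob]
  rfl

end Groth.Agent.Helper8.FrobDeg
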