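import Mathlib
import Groth.Agent.Helper8.FrobDeg2
import Groth.Agent.Helper5.VarDim

set_option autoImplicit false
universe u

namespace Groth.Agent.Helper8.FrobDeg

open CategoryTheory CategoryTheory.Limits AlgebraicGeometry

/-- Ranks of fraction fields. -/
theorem frk_fraction {A B K L : Type u} [CommRing A] [CommRing B] [CommRing K] [CommRing L]
    (φ : A →+* B) (evA : A →+* K) (evB : B →+* L) (ρ : K →+* L)
    (hcomm : ρ.comp evA = evB.comp φ)
    (hA : @IsFractionRing A _ K _ evA.toAlgebra) (hB : @IsFractionRing B _ L _ evB.toAlgebra) :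
    frk ρ = frk φ := by
  letI a1 : Algebra A B := φ.toAlgebra
  letI a2 : Algebra K L := ρ.toAlgebra
  letI a3 : Algebra A K := evA.toAlgebra
  letI a4 : Algebra B L := evB.toAlgebra
  letI a5 : Algebra A L := (evB.comp φ).toAlgebra
  haveI : IsScalarTower A K L := IsScalarTower.of_algebraMap_eq (fun x => by
    show (evB.comp φ) x = (ρ.comp evA) x
    rw [hcomm])
  haveI : IsScalarTower A B L := IsScalarTower.of_algebraMap_eq (fun x => rfl)
  exact IsFractionRing.finrank_eq A K B L

section Scheme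

variable {Y : Scheme.{u}} [IsIntegral Y]

/-- The residue field at the generic point is the fraction field of the sections on any affine
open. -/
theorem isFractionRing_residueField {U : Y.Opens} (hU : IsAffineOpen U) (y : Y) (hyU : y ∈ U)
    (hy : y = genericPoint Y) :
    @IsFractionRing Γ(Y, U) _ (Y.residueField y) _ (Y.evaluation U y hyU).hom.toAlgebra := by
  subst hy
  haveI : Nonempty U := ⟨⟨_, hyU⟩⟩
  haveI h0 := functionField_isFractionRing_of_isAffineOpen Y U hU
  letI : Algebra Γ(Y, U) (Y.residueField (genericPoint Y)) :=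
    (Y.evaluation U (genericPoint Y) hyU).hom.toAlgebra
  have hbij : Function.Bijective (Y.residue (genericPoint Y)).hom := by
    refine ⟨?_, Y.residue_surjective _⟩
    exact (Y.residue (genericPoint Y)).hom.injective
  let E : Y.functionField ≃+* Y.residueField (genericPoint Y) := RingEquiv.ofBijective _ hbij
  let E' : Y.functionField ≃ₐ[Γ(Y, U)] Y.residueField (genericPoint Y) :=
    AlgEquiv.ofRingEquiv (f := E) (fun a => rfl)
  exact IsLocalization.isLocalization_of_algEquiv _ E'

theorem evaluation_injective {U : Y.Opens} (y : Y) (hyU : y ∈ U)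
    (hy : y = genericPoint Y) : Function.Injective (Y.evaluation U y hyU).hom := by
  subst hy
  intro a b hab
  have h1 : (Y.residue (genericPoint Y)).hom (Y.presheaf.germ U _ hyU a) =
      (Y.residue (genericPoint Y)).hom (Y.presheaf.germ U _ hyU b) := hab
  exact germ_injective_of_isIntegral Y _ hyU ((Y.residue (genericPoint Y)).hom.injective h1)

/-- A point of an affine open at which evaluation is injective is the generic point. -/
theorem eq_genericPoint_of_evaluation_injective {U : Y.Opens} (hU : IsAffineOpen U) (y : Y)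
    (hyU : y ∈ U) (hinj : Function.Injective (Y.evaluation U y hyU).hom) :
    y = genericPoint Y := by
  by_contra hne
  have hspec : genericPoint Y ⤳ y := (genericPoint_spec Y).specializes trivial
  have hns : ¬ (y ⤳ genericPoint Y) := fun h => hne (hspec.antisymm h).eq.symm
  rw [specializes_iff_forall_open] at hns
  push Not at hns
  obtain ⟨W, hWo, hηW, hyW⟩ := hns
  have hηU : genericPoint Y ∈ U :=
    ((genericPoint_spec Y).mem_open_set_iff U.isOpen).2 ⟨y, trivial, hyU⟩
  obtain ⟨s, hsW, hηs⟩ := hU.exists_basicOpen_le (V := ⟨W, hWo⟩) ⟨genericPoint Y, hηW⟩ hηU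
  have hys : y ∉ Y.basicOpen s := fun h => hyW (hsW h)
  have h0 : (Y.evaluation U y hyU).hom s = 0 :=
    (Y.evaluation_eq_zero_iff_notMem_basicOpen y hyU s).2 hys
  have hs0 : s = 0 := hinj (by rw [h0, map_zero])
  rw [hs0, Scheme.basicOpen_zero] at hηs
  exact hηs

end Scheme


theorem tkd_affineOpen {X : Scheme.{u}} {U : X.Opens} (hU : IsAffineOpen U) :
    topologicalKrullDim ↥(U : Set X) = ringKrullDim Γ(X, U) := by
  rw [← PrimeSpectrum.topologicalKrullDim_eq_ringKrullDim]
  exact IsHomeomorph.topologicalKrullDim_eq _ (Scheme.homeoOfIso hU.isoSpec).isHomeomorph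

section Main

variable (k₀ : Type u) [Field k₀] [Finite k₀] (k : Type u) [Field k] [IsAlgClosed k] [Algebra k₀ k]

/-- The degree of the relative Frobenius of a variety of dimension `n` is `q ^ n`. -/
theorem main {X Y : Scheme.{u}} (f : X ⟶ Spec (CommRingCat.of k₀))
    (g : Y ⟶ Spec (CommRingCat.of k)) [LocallyOfFiniteType g] [IsIntegral Y]
    (π : Y ⟶ X) (hπ : IsPullback π g f (Spec.map (CommRingCat.ofHom (algebraMap k₀ k))))
    (FX : X ⟶ X) (hle : ∀ U : X.Opens, U ≤ FX ⁻¹ᵁ U)
    (hFapp : ∀ (U : X.Opens) (s : Γ(X, U)), (FX.appLE U U (hle U)).hom s = s ^ Nat.card k₀)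
    (F : Y ⟶ Y) (hF : F ≫ π = π ≫ FX) (hFg : F ≫ g = g) (n : ℕ)
    (hn : topologicalKrullDim Y = n) :
    F (genericPoint Y) = genericPoint Y ∧
      F.residueDegree (genericPoint Y) = (Nat.card k₀) ^ n := by
  classical
  -- characteristic
  letI : Fintype k₀ := Fintype.ofFinite k₀
  obtain ⟨p, hp⟩ := CharP.exists k₀
  haveI : Fact p.Prime := ⟨CharP.char_is_prime k₀ p⟩
  obtain ⟨e', -, he'⟩ := FiniteField.card k₀ p
  have hq : Nat.card k₀ = p ^ (e' : ℕ) := by rw [Nat.card_eq_fintype_card, he']
  haveI : CharP k p := charP_of_injective_algebraMap (algebraMap k₀ k).injective p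
  rw [hq]
  simp only [hq] at hFapp
  set q := p ^ (e' : ℕ) with hqdef
  -- the affine charts
  set η := genericPoint Y with hη
  obtain ⟨_, ⟨V, hV, rfl⟩, hxV, -⟩ :=
    X.isBasis_affineOpens.exists_subset_of_mem_open (Set.mem_univ (π η)) isOpen_univ
  haveI : IsAffineHom π := MorphismProperty.of_isPullback (P := @IsAffineHom) hπ.flip inferInstance
  set U : Y.Opens := π ⁻¹ᵁ V with hUdef
  have hU : IsAffineOpen U := hV.preimage π
  have hηU : η ∈ U := hxV
  haveI : Nonempty U := ⟨⟨η, hηU⟩⟩
  have hUST : (⊤ : (Spec (CommRingCat.of k)).Opens) ≤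
      (Spec.map (CommRingCat.ofHom (algebraMap k₀ k))) ⁻¹ᵁ ⊤ := le_top
  have hUSX : V ≤ f ⁻¹ᵁ ⊤ := le_top
  have hUY : U = π ⁻¹ᵁ V ⊓ g ⁻¹ᵁ ⊤ := by simp [hUdef]
  have hpo := (isIso_pushoutSection_iff hπ hUST hUSX hUY).1
    (isIso_pushoutSection_of_isAffineOpen hπ hUST hUSX hUY (isAffineOpen_top _)
      (isAffineOpen_top _) hV)
  -- the endomorphism
  have hUF : U ≤ F ⁻¹ᵁ U := by
    intro x hx
    show π (F x) ∈ V
    have h1 : π (F x) = FX (π x) := by
      rw [← Scheme.Hom.comp_apply, hF, Scheme.Hom.comp_apply]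
    rw [h1]
    exact hle V hx
  set φ := F.appLE U U hUF with hφdef
  have hφA : ∀ x : Γ(X, V), φ.hom ((π.appLE V U le_rfl).hom x) = ((π.appLE V U le_rfl).hom x) ^ q := by
    intro x
    have h1 : π.appLE V U le_rfl ≫ φ = FX.appLE V V (hle V) ≫ π.appLE V U le_rfl := by
      rw [hφdef, Scheme.Hom.appLE_comp_appLE, Scheme.Hom.appLE_comp_appLE]
      simp only [hF]
    have h2 := congrArg (fun t => t.hom x) h1
    simp only [CommRingCat.hom_comp, RingHom.comp_apply] at h2
    rw [h2, hFapp, map_pow]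
  have hφK : ∀ c : Γ(Spec (CommRingCat.of k), ⊤),
      φ.hom ((g.appLE ⊤ U le_top).hom c) = (g.appLE ⊤ U le_top).hom c := by
    intro c
    have h1 : g.appLE ⊤ U le_top ≫ φ = g.appLE ⊤ U le_top := by
      rw [hφdef, Scheme.Hom.appLE_comp_appLE]
      simp only [hFg]
    have h2 := congrArg (fun t => t.hom c) h1
    simpa using h2
  -- the field structure on the base
  let ek : Γ(Spec (CommRingCat.of k), ⊤) ≃+* k :=
    (Scheme.ΓSpecIso (CommRingCat.of k)).commRingCatIsoToRingEquiv
  let ek₀ : Γ(Spec (CommRingCat.of k₀), ⊤) ≃+* k₀ :=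
    (Scheme.ΓSpecIso (CommRingCat.of k₀)).commRingCatIsoToRingEquiv
  let σ : Γ(Spec (CommRingCat.of k), ⊤) ≃+* Γ(Spec (CommRingCat.of k), ⊤) :=
    ek.trans ((iterateFrobeniusEquiv k p e').trans ek.symm)
  have hσ : ∀ c, σ c = c ^ q := by
    intro c
    show ek.symm ((ek c) ^ p ^ (e' : ℕ)) = c ^ q
    rw [← map_pow, RingEquiv.symm_apply_apply]
  have hj : ∀ c : Γ(Spec (CommRingCat.of k₀), ⊤),
      (((Spec.map (CommRingCat.ofHom (algebraMap k₀ k))).appLE ⊤ ⊤ hUST).hom c) ^ q =
        ((Spec.map (CommRingCat.ofHom (algebraMap k₀ k))).appLE ⊤ ⊤ hUST).hom c := by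
    intro c
    rw [← map_pow]
    congr 1
    apply ek₀.injective
    rw [map_pow]
    have h := FiniteField.pow_card (ek₀ c)
    rw [he'] at h
    exact h
  -- characteristic of the coordinate ring
  let ιk : k →+* Γ(Y, U) := (g.appLE ⊤ U le_top).hom.comp ek.symm.toRingHom
  haveI : CharP Γ(Y, U) p := charP_of_injective_ringHom ιk.injective p
  obtain ⟨ψ, hψ⟩ := exists_equiv_pow _ _ _ _ hpo q σ hσ hj (iterateFrobenius Γ(Y, U) p e')
    (fun b => rfl) φ hφA hφK
  -- finite type and dimension
  letI algkB : Algebra k Γ(Y, U) := ιk.toAlgebra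
  haveI : Algebra.FiniteType k Γ(Y, U) := by
    have h1 := LocallyOfFiniteType.finiteType_appLE g (isAffineOpen_top _) hU le_top
    exact RingHom.FiniteType.comp h1 (RingHom.FiniteType.of_surjective _ ek.symm.surjective)
  have hdimB : ringKrullDim Γ(Y, U) = n := by
    rw [← tkd_affineOpen hU, Groth.Agent.Helper5.VarDim.dim_open_eq k g U ⟨η, hηU⟩, hn]
  have hfrk := frk_of_fg p k Γ(Y, U) e' φ.hom ψ hψ n hdimB
  -- injectivity of `φ`
  have hφinj : Function.Injective φ.hom := by
    rw [injective_iff_map_eq_zero]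
    intro b hb
    rw [hψ] at hb
    have := pow_eq_zero_iff (pow_ne_zero _ (Fact.out : p.Prime).ne_zero) |>.1 hb
    exact (map_eq_zero_iff ψ ψ.injective).1 this
  -- compatibility with evaluation
  have hFηU : F η ∈ U := hUF hηU
  have hcomm : (F.residueFieldMap η).hom.comp (Y.evaluation U (F η) hFηU).hom =
      (Y.evaluation U η hηU).hom.comp φ.hom := by
    have h1 : Y.evaluation U (F η) hFηU ≫ F.residueFieldMap η = φ ≫ Y.evaluation U η hηU := by
      rw [Scheme.evaluation_naturality, hφdef, Scheme.Hom.appLE, Category.assoc]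
      congr 1
      show _ = Y.presheaf.map _ ≫ Y.presheaf.germ U η hηU ≫ Y.residue η
      rw [← Category.assoc, Y.presheaf.germ_res]
      rfl
    have h2 := congrArg CommRingCat.Hom.hom h1
    simpa using h2
  -- `F η = η`
  have hFη : F η = η := by
    apply eq_genericPoint_of_evaluation_injective hU (F η) hFηU
    intro a b hab
    have h1 := congrArg (F.residueFieldMap η).hom hab
    have h2 : ∀ t, (F.residueFieldMap η).hom ((Y.evaluation U (F η) hFηU).hom t) =
        (Y.evaluation U η hηU).hom (φ.hom t) := fun t => congrArg (fun r => r t) hcomm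
    rw [h2, h2] at h1
    exact hφinj (evaluation_injective η hηU rfl h1)
  refine ⟨hFη, ?_⟩
  have h3 := frk_fraction φ.hom (Y.evaluation U (F η) hFηU).hom (Y.evaluation U η hηU).hom
    (F.residueFieldMap η).hom hcomm (isFractionRing_residueField hU (F η) hFηU hFη)
    (isFractionRing_residueField hU η hηU rfl)
  rw [← hfrk, ← h3]
  rfl

end Main

end Groth.Agent.Helper8.FrobDeg
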