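import Mathlib
import Groth.Agent.Helper8.FrobDeg2

set_option autoImplicit false
universe u
open CategoryTheory CategoryTheory.Limits

namespace Groth.Agent.Helper8.ZFix

section algebra

/-- a pushout of commutative rings is generated by the two images. -/
theorem closure_eq_top_of_isPushout {A0 A K B : CommRingCat.{u}} (a : A0 ⟶ A) (j : A0 ⟶ K)
    (ιA : A ⟶ B) (ιK : K ⟶ B) (hpo : IsPushout a j ιA ιK) :
    Subring.closure (Set.range ιA.hom ∪ Set.range ιK.hom) = ⊤ := by
  set S := Subring.closure (Set.range ιA.hom ∪ Set.range ιK.hom) with hS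
  let ιA' : A ⟶ CommRingCat.of S := CommRingCat.ofHom
    (ιA.hom.codRestrict S (fun x => Subring.subset_closure (Or.inl ⟨x, rfl⟩)))
  let ιK' : K ⟶ CommRingCat.of S := CommRingCat.ofHom
    (ιK.hom.codRestrict S (fun x => Subring.subset_closure (Or.inr ⟨x, rfl⟩)))
  let incl : CommRingCat.of S ⟶ B := CommRingCat.ofHom S.subtype
  have w : a ≫ ιA' = j ≫ ιK' := by
    ext c
    exact congrArg (fun t => t.hom c) hpo.w
  let r : B ⟶ CommRingCat.of S := hpo.desc ιA' ιK' w
  have hr : r ≫ incl = 𝟙 B := by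
    apply hpo.hom_ext
    · rw [← Category.assoc, hpo.inl_desc, Category.comp_id]
      rfl
    · rw [← Category.assoc, hpo.inr_desc, Category.comp_id]
      rfl
  rw [eq_top_iff]
  intro b _
  have h := congrArg (fun t => t.hom b) hr
  have h2 : ((r.hom b : S) : B) = b := h
  rw [← h2]
  exact (r.hom b).2

/-- the cotangent map of a Frobenius-like endomorphism vanishes. -/
theorem le_span_sup_sq {B : Type*} [CommRing B] (Q : ℕ) (hQ : 2 ≤ Q) (φ : B →+* B) (ψ : B ≃+* B)
    (hφ : ∀ b, φ b = ψ b ^ Q) (𝔭 : Ideal B) [𝔭.IsPrime] (h𝔭 : ∀ b, b - φ b ∈ 𝔭) :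
    𝔭 ≤ Ideal.span (Set.range fun b => b - φ b) ⊔ 𝔭 ^ 2 := by
  intro b hb
  have h1 : φ b ∈ 𝔭 := by
    have := 𝔭.sub_mem hb (h𝔭 b)
    simpa using this
  have h2 : ψ b ∈ 𝔭 := by
    rw [hφ] at h1
    exact Ideal.IsPrime.mem_of_pow_mem inferInstance Q h1
  have h3 : φ b ∈ 𝔭 ^ 2 := by
    rw [hφ]
    exact Ideal.pow_le_pow_right hQ (Ideal.pow_mem_pow h2 Q)
  have h4 : b = (b - φ b) + φ b := by ring
  rw [h4]
  exact Submodule.add_mem_sup (Ideal.subset_span ⟨b, rfl⟩) h3

/-- Nakayama: an ideal of a Noetherian local ring which generates the cotangent space is the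
maximal ideal. -/
theorem eq_maximalIdeal_of_le_sup_sq {R : Type*} [CommRing R] [IsLocalRing R] [IsNoetherianRing R]
    (J : Ideal R) (hJ : J ≤ IsLocalRing.maximalIdeal R)
    (h : IsLocalRing.maximalIdeal R ≤ J ⊔ IsLocalRing.maximalIdeal R ^ 2) :
    J = IsLocalRing.maximalIdeal R := by
  refine le_antisymm hJ ?_
  apply Submodule.le_of_le_smul_of_le_jacobson_bot (I := IsLocalRing.maximalIdeal R)
    (IsNoetherian.noetherian _)
  · rw [IsLocalRing.jacobson_eq_maximalIdeal ⊥ bot_ne_top]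
  · rw [smul_eq_mul, ← pow_two]
    exact h

/-- a prime of a pushout `A ⊗ K` over which every element of `A` satisfies `t ^ Q = t` is
maximal. -/
theorem isMaximal_of_pow_sub_mem {A0 A K B : CommRingCat.{u}} (a : A0 ⟶ A) (j : A0 ⟶ K)
    (ιA : A ⟶ B) (ιK : K ⟶ B) (hpo : IsPushout a j ιA ιK) (hK : IsField K) (Q : ℕ) (hQ : 2 ≤ Q)
    (𝔭 : Ideal B) [𝔭.IsPrime] (h : ∀ x : A, ιA.hom x ^ Q - ιA.hom x ∈ 𝔭) : 𝔭.IsMaximal := by
  letI : Field K := hK.toField
  letI : Algebra K (B ⧸ 𝔭) := ((Ideal.Quotient.mk 𝔭).comp ιK.hom).toAlgebra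
  have hgen : Algebra.adjoin K (Set.range ((Ideal.Quotient.mk 𝔭).comp ιA.hom)) = ⊤ := by
    rw [eq_top_iff]
    rintro y -
    obtain ⟨b, rfl⟩ := Ideal.Quotient.mk_surjective y
    have hb : b ∈ Subring.closure (Set.range ιA.hom ∪ Set.range ιK.hom) := by
      rw [closure_eq_top_of_isPushout a j ιA ιK hpo]; trivial
    induction hb using Subring.closure_induction with
    | mem x hx =>
      rcases hx with ⟨x, rfl⟩ | ⟨c, rfl⟩
      · exact Algebra.subset_adjoin ⟨x, rfl⟩
      · exact Subalgebra.algebraMap_mem _ c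
    | zero => simp
    | one => simp
    | add x y _ _ hx hy => rw [map_add]; exact Subalgebra.add_mem _ hx hy
    | neg x _ hx => rw [map_neg]; exact Subalgebra.neg_mem _ hx
    | mul x y _ _ hx hy => rw [map_mul]; exact Subalgebra.mul_mem _ hx hy
  haveI : Algebra.IsIntegral K (B ⧸ 𝔭) := by
    have h1 : Algebra.adjoin K (Set.range ((Ideal.Quotient.mk 𝔭).comp ιA.hom)) ≤
        integralClosure K (B ⧸ 𝔭) := by
      apply Algebra.adjoin_le
      rintro _ ⟨x, rfl⟩
      show IsIntegral K _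
      refine ⟨Polynomial.X ^ Q - Polynomial.X, ?_, ?_⟩
      · apply Polynomial.monic_X_pow_sub
        rw [Polynomial.degree_X]
        exact_mod_cast hQ
      · simp only [RingHom.coe_comp, Function.comp_apply, Polynomial.eval₂_sub,
          Polynomial.eval₂_pow, Polynomial.eval₂_X]
        rw [← map_pow, ← map_sub]
        exact Ideal.Quotient.eq_zero_iff_mem.mpr (h x)
    rw [hgen] at h1
    exact ⟨fun y => h1 trivial⟩
  have hfield : IsField (B ⧸ 𝔭) := isField_of_isIntegral_of_isField' (R := K) hK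
  exact Ideal.Quotient.maximal_of_isField 𝔭 hfield

end algebra

end Groth.Agent.Helper8.ZFix
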