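import Mathlib
import Groth.Agent.Helper8.ZFixA
import Groth.Agent.Helper8.FrobDeg3
import Groth.Prelude.Def_WeilCoh

set_option autoImplicit false
universe u
open CategoryTheory CategoryTheory.Limits AlgebraicGeometry
open Groth.Agent.Helper8.FrobDeg

namespace Groth.Agent.Helper8.ZFix

section chart

variable {k₀ k : Type u} [Field k₀] [Field k] [IsAlgClosed k] [Algebra k₀ k]
variable {X W : Scheme.{u}} (f : X ⟶ Spec (CommRingCat.of k₀)) (g : W ⟶ Spec (CommRingCat.of k))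
  (π : W ⟶ X)
  (hπ : IsPullback π g f (Spec.map (CommRingCat.ofHom (algebraMap k₀ k))))
  (FXQ : X ⟶ X) (Q : ℕ) (hle : ∀ U : X.Opens, U ≤ FXQ ⁻¹ᵁ U)
  (hFapp : ∀ (U : X.Opens) (s : Γ(X, U)), (FXQ.appLE U U (hle U)).hom s = s ^ Q)
  (p₀ E : ℕ) [Fact p₀.Prime] [CharP k₀ p₀] (hQ : Q = p₀ ^ E) (hQk : ∀ c : k₀, c ^ Q = c)
  (Φ : W ⟶ W) (hΦπ : Φ ≫ π = π ≫ FXQ) (hΦg : Φ ≫ g = g)

include hΦπ hle in
theorem preimage_le (V : X.Opens) : π ⁻¹ᵁ V ≤ Φ ⁻¹ᵁ (π ⁻¹ᵁ V) := by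
  intro x hx
  show π (Φ x) ∈ V
  have h1 : π (Φ x) = FXQ (π x) := by
    rw [← Scheme.Hom.comp_apply, hΦπ, Scheme.Hom.comp_apply]
  rw [h1]
  exact hle V hx

include hπ in
theorem isAffineOpen_preimage (V : X.Opens) (hV : IsAffineOpen V) : IsAffineOpen (π ⁻¹ᵁ V) := by
  haveI : IsAffineHom π := MorphismProperty.of_isPullback (P := @IsAffineHom) hπ.flip inferInstance
  exact hV.preimage π

include hπ in
theorem isPushout_chart (V : X.Opens) (hV : IsAffineOpen V) :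
    IsPushout (f.appLE ⊤ V le_top)
      ((Spec.map (CommRingCat.ofHom (algebraMap k₀ k))).appLE ⊤ ⊤ le_top)
      (π.appLE V (π ⁻¹ᵁ V) le_rfl) (g.appLE ⊤ (π ⁻¹ᵁ V) le_top) := by
  have hUST : (⊤ : (Spec (CommRingCat.of k)).Opens) ≤
      (Spec.map (CommRingCat.ofHom (algebraMap k₀ k))) ⁻¹ᵁ ⊤ := le_top
  have hUSX : V ≤ f ⁻¹ᵁ ⊤ := le_top
  have hUY : π ⁻¹ᵁ V = π ⁻¹ᵁ V ⊓ g ⁻¹ᵁ ⊤ := by simp
  exact (isIso_pushoutSection_iff hπ hUST hUSX hUY).1
    (isIso_pushoutSection_of_isAffineOpen hπ hUST hUSX hUY (isAffineOpen_top _)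
      (isAffineOpen_top _) hV)

include hΦπ hFapp in
theorem appLE_π (V : X.Opens) (x : Γ(X, V)) :
    (Φ.appLE (π ⁻¹ᵁ V) (π ⁻¹ᵁ V) (preimage_le π FXQ hle Φ hΦπ V)).hom
        ((π.appLE V (π ⁻¹ᵁ V) le_rfl).hom x) =
      ((π.appLE V (π ⁻¹ᵁ V) le_rfl).hom x) ^ Q := by
  have h1 : π.appLE V (π ⁻¹ᵁ V) le_rfl ≫
      Φ.appLE (π ⁻¹ᵁ V) (π ⁻¹ᵁ V) (preimage_le π FXQ hle Φ hΦπ V) =
      FXQ.appLE V V (hle V) ≫ π.appLE V (π ⁻¹ᵁ V) le_rfl := by
    rw [Scheme.Hom.appLE_comp_appLE, Scheme.Hom.appLE_comp_appLE]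
    simp only [hΦπ]
  have h2 := congrArg (fun t => t.hom x) h1
  simp only [CommRingCat.hom_comp, RingHom.comp_apply] at h2
  rw [h2, hFapp, map_pow]

include hΦg in
theorem appLE_g (U : W.Opens) (hU : U ≤ Φ ⁻¹ᵁ U) (c : Γ(Spec (CommRingCat.of k), ⊤)) :
    (Φ.appLE U U hU).hom ((g.appLE ⊤ U le_top).hom c) = (g.appLE ⊤ U le_top).hom c := by
  have h1 : g.appLE ⊤ U le_top ≫ Φ.appLE U U hU = g.appLE ⊤ U le_top := by
    rw [Scheme.Hom.appLE_comp_appLE]
    simp only [hΦg]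
  have h2 := congrArg (fun t => t.hom c) h1
  simpa using h2

include hπ hΦπ hΦg hFapp hQ hQk in
/-- on a chart the endomorphism is the `Q`-th power of an automorphism. -/
theorem exists_equiv_pow_chart (V : X.Opens) (hV : IsAffineOpen V) (w : W) (hw : w ∈ π ⁻¹ᵁ V) :
    ∃ ψ : Γ(W, π ⁻¹ᵁ V) ≃+* Γ(W, π ⁻¹ᵁ V), ∀ b,
      (Φ.appLE (π ⁻¹ᵁ V) (π ⁻¹ᵁ V) (preimage_le π FXQ hle Φ hΦπ V)).hom b = ψ b ^ Q := by
  haveI : CharP k p₀ := charP_of_injective_algebraMap (algebraMap k₀ k).injective p₀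
  set U := π ⁻¹ᵁ V with hUdef
  have hpo := isPushout_chart f g π hπ V hV
  let ek : Γ(Spec (CommRingCat.of k), ⊤) ≃+* k :=
    (Scheme.ΓSpecIso (CommRingCat.of k)).commRingCatIsoToRingEquiv
  let ek₀ : Γ(Spec (CommRingCat.of k₀), ⊤) ≃+* k₀ :=
    (Scheme.ΓSpecIso (CommRingCat.of k₀)).commRingCatIsoToRingEquiv
  let σ : Γ(Spec (CommRingCat.of k), ⊤) ≃+* Γ(Spec (CommRingCat.of k), ⊤) :=
    ek.trans ((iterateFrobeniusEquiv k p₀ E).trans ek.symm)
  have hσ : ∀ c, σ c = c ^ Q := by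
    intro c
    show ek.symm ((ek c) ^ p₀ ^ E) = c ^ Q
    rw [← map_pow, RingEquiv.symm_apply_apply, hQ]
  have hj : ∀ c : Γ(Spec (CommRingCat.of k₀), ⊤),
      (((Spec.map (CommRingCat.ofHom (algebraMap k₀ k))).appLE ⊤ ⊤ le_top).hom c) ^ Q =
        ((Spec.map (CommRingCat.ofHom (algebraMap k₀ k))).appLE ⊤ ⊤ le_top).hom c := by
    intro c
    rw [← map_pow]
    congr 1
    apply ek₀.injective
    rw [map_pow]
    exact hQk _
  let ιk : k →+* Γ(W, U) := (g.appLE ⊤ U le_top).hom.comp ek.symm.toRingHom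
  haveI : Nonempty U := ⟨⟨w, hw⟩⟩
  haveI : Nontrivial Γ(W, U) := Scheme.component_nontrivial W U
  haveI : CharP Γ(W, U) p₀ := charP_of_injective_ringHom ιk.injective p₀
  have hfrob : ∀ b : Γ(W, U), iterateFrobenius Γ(W, U) p₀ E b = b ^ Q := by
    intro b
    rw [iterateFrobenius_def, hQ]
  exact exists_equiv_pow _ _ _ _ hpo Q σ hσ hj (iterateFrobenius Γ(W, U) p₀ E) hfrob _
    (appLE_π π FXQ Q hle hFapp Φ hΦπ V) (appLE_g g Φ hΦg U _)

end chart


section graph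

variable {W P : Scheme.{u}} (Φ : W ⟶ W) (p q : P ⟶ W) (j d : W ⟶ P)
  (hjp : j ≫ p = 𝟙 W) (hjq : j ≫ q = Φ) (hdp : d ≫ p = 𝟙 W) (hdq : d ≫ q = 𝟙 W)

theorem id_appLE_hom (U : W.Opens) (e : U ≤ (𝟙 W) ⁻¹ᵁ U) (b : Γ(W, U)) :
    ((𝟙 W : W ⟶ W).appLE U U e).hom b = b := by
  have : (𝟙 W : W ⟶ W).appLE U U e = 𝟙 _ := by
    rw [Scheme.Hom.appLE, Scheme.Hom.id_app]
    erw [Category.id_comp]
    exact W.presheaf.map_id (Opposite.op U)
  rw [this]
  rfl

theorem evaluation_res (U U' : W.Opens) (hUU' : U ≤ U') (x : W) (hx : x ∈ U) (s : Γ(W, U')) :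
    (W.evaluation U x hx).hom ((W.presheaf.map (homOfLE hUU').op).hom s) =
      (W.evaluation U' x (hUU' hx)).hom s := by
  have h : W.presheaf.map (homOfLE hUU').op ≫ W.evaluation U x hx =
      W.evaluation U' x (hUU' hx) := by
    unfold Scheme.evaluation
    rw [← Category.assoc, W.presheaf.germ_res]
  exact congrArg (fun t => t.hom s) h

include hjp hjq hdp hdq in
/-- the pulled-back ideal of the graph contains the germs of `b - Φ^* b`. -/
theorem germ_sub_mem (ξ₀ : W) (U : W.Opens) (hUΦ : U ≤ Φ ⁻¹ᵁ U) (hξ₀ : ξ₀ ∈ U) (w : W) (hw : w ∈ U)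
    (hsp : j ξ₀ ⤳ d w) (b : Γ(W, U)) :
    W.presheaf.germ U w hw (b - (Φ.appLE U U hUΦ).hom b) ∈
      Ideal.map (d.stalkMap w).hom (RingHom.ker (Cyc.specMap (d w) (j ξ₀) hsp)) := by
  set O : P.Opens := p ⁻¹ᵁ U ⊓ q ⁻¹ᵁ U with hO
  have hO1 : O ≤ q ⁻¹ᵁ U := inf_le_right
  have hO2 : O ≤ p ⁻¹ᵁ U := inf_le_left
  have hpj : ∀ x : W, p (j x) = x := fun x => by
    rw [← Scheme.Hom.comp_apply, hjp]; rfl
  have hqj : ∀ x : W, q (j x) = Φ x := fun x => by
    rw [← Scheme.Hom.comp_apply, hjq]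
  have hpd : ∀ x : W, p (d x) = x := fun x => by
    rw [← Scheme.Hom.comp_apply, hdp]; rfl
  have hqd : ∀ x : W, q (d x) = x := fun x => by
    rw [← Scheme.Hom.comp_apply, hdq]; rfl
  have hUjO : U ≤ j ⁻¹ᵁ O := by
    intro x hx
    refine ⟨?_, ?_⟩
    · show p (j x) ∈ U
      rw [hpj]; exact hx
    · show q (j x) ∈ U
      rw [hqj]; exact hUΦ hx
  have hUdO : U ≤ d ⁻¹ᵁ O := by
    intro x hx
    refine ⟨?_, ?_⟩
    · show p (d x) ∈ U
      rw [hpd]; exact hx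
    · show q (d x) ∈ U
      rw [hqd]; exact hx
  set φb := (Φ.appLE U U hUΦ).hom b with hφb
  set G : Γ(P, O) := (q.appLE U O hO1).hom b - (p.appLE U O hO2).hom φb with hG
  -- pull-back along the graph
  have hjG : (j.appLE O U hUjO).hom G = 0 := by
    rw [hG, map_sub]
    have h1 : q.appLE U O hO1 ≫ j.appLE O U hUjO = Φ.appLE U U hUΦ := by
      rw [Scheme.Hom.appLE_comp_appLE]
      simp only [hjq]
    have h2 : p.appLE U O hO2 ≫ j.appLE O U hUjO = (𝟙 W : W ⟶ W).appLE U U le_rfl := by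
      rw [Scheme.Hom.appLE_comp_appLE]
      simp only [hjp]
    have h1' := congrArg (fun t => t.hom b) h1
    have h2' := congrArg (fun t => t.hom φb) h2
    simp only [CommRingCat.hom_comp, RingHom.comp_apply] at h1' h2'
    rw [h1', h2', id_appLE_hom, sub_self]
  -- pull-back along the diagonal
  have hdG : (d.appLE O U hUdO).hom G = b - φb := by
    rw [hG, map_sub]
    have h1 : q.appLE U O hO1 ≫ d.appLE O U hUdO = (𝟙 W : W ⟶ W).appLE U U le_rfl := by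
      rw [Scheme.Hom.appLE_comp_appLE]
      simp only [hdq]
    have h2 : p.appLE U O hO2 ≫ d.appLE O U hUdO = (𝟙 W : W ⟶ W).appLE U U le_rfl := by
      rw [Scheme.Hom.appLE_comp_appLE]
      simp only [hdp]
    have h1' := congrArg (fun t => t.hom b) h1
    have h2' := congrArg (fun t => t.hom φb) h2
    simp only [CommRingCat.hom_comp, RingHom.comp_apply] at h1' h2'
    rw [h1', h2', id_appLE_hom, id_appLE_hom]
  have hdwO : d w ∈ O := hUdO hw
  have hjξO : j ξ₀ ∈ O := hUjO hξ₀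
  -- the germ of `G` vanishes at the generic point of the graph
  have hker : P.presheaf.germ O (d w) hdwO G ∈ RingHom.ker (Cyc.specMap (d w) (j ξ₀) hsp) := by
    rw [RingHom.mem_ker]
    show (P.residue (j ξ₀)).hom ((P.presheaf.stalkSpecializes hsp).hom
      ((P.presheaf.germ O (d w) hdwO).hom G)) = 0
    have e1 := TopCat.Presheaf.germ_stalkSpecializes_apply P.presheaf hdwO hsp G
    erw [e1]
    show (P.evaluation O (j ξ₀) hjξO).hom G = 0
    apply (j.residueFieldMap ξ₀).hom.injective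
    rw [map_zero]
    have e2 := Scheme.evaluation_naturality_apply j ξ₀ hjξO G
    erw [e2]
    have e3 := evaluation_res U (j ⁻¹ᵁ O) hUjO ξ₀ hξ₀ ((j.app O).hom G)
    erw [← e3]
    have e4 : (W.presheaf.map (homOfLE hUjO).op).hom ((j.app O).hom G) =
        (j.appLE O U hUjO).hom G := rfl
    rw [e4, hjG, map_zero]
  have hst : (d.stalkMap w).hom (P.presheaf.germ O (d w) hdwO G) =
      W.presheaf.germ U w hw (b - φb) := by
    have e1 := Scheme.Hom.germ_stalkMap_apply d O w hdwO G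
    erw [e1]
    rw [← hdG]
    have e2 := W.presheaf.germ_res_apply (homOfLE hUdO) w hw ((d.app O).hom G)
    exact e2.symm
  rw [← hst]
  exact Ideal.mem_map_of_mem _ hker

end graph


section local_structure

theorem map_ker_le_maximalIdeal {W P : Scheme.{u}} (d : W ⟶ P) (w : W) (ξ : P) (hsp : ξ ⤳ d w) :
    Ideal.map (d.stalkMap w).hom (RingHom.ker (Cyc.specMap (d w) ξ hsp)) ≤
      IsLocalRing.maximalIdeal (W.presheaf.stalk w) := by
  rw [Ideal.map_le_iff_le_comap]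
  intro x hx
  have h1 : x ∈ IsLocalRing.maximalIdeal (P.presheaf.stalk (d w)) :=
    IsLocalRing.le_maximalIdeal (RingHom.ker_ne_top _) hx
  exact map_nonunit (d.stalkMap w).hom x h1

theorem isClosed_of_isMaximal_primeIdealOf {W : Scheme.{u}} [JacobsonSpace W] {U : W.Opens}
    (hU : IsAffineOpen U) (x : U) (h : (hU.primeIdealOf x).asIdeal.IsMaximal) :
    IsClosed ({(x : W)} : Set W) := by
  have h1 : IsClosed ({hU.primeIdealOf x} : Set (PrimeSpectrum Γ(W, U))) :=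
    (hU.primeIdealOf x).isClosed_singleton_iff_isMaximal.mpr h
  have hhomeo : IsHomeomorph (hU.isoSpec.hom : (U : Scheme.{u}) ⟶ Spec Γ(W, U)) :=
    (TopCat.isIso_iff_isHomeomorph _).mp inferInstance
  have h2 : IsClosed ({x} : Set U) := by
    have h3 : ({x} : Set U) = (hU.isoSpec.hom : (U : Scheme.{u}) ⟶ Spec Γ(W, U)) ⁻¹'
        {hU.primeIdealOf x} := by
      ext y
      simp only [Set.mem_preimage]
      constructor
      · rintro rfl; rfl
      · intro hy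
        exact hhomeo.injective hy
    rw [h3]
    exact h1.preimage hhomeo.continuous
  apply isClosed_singleton_of_isLocallyClosed_singleton
  obtain ⟨Z, hZ, hZx⟩ := isClosed_induced_iff.mp h2
  refine ⟨U, Z, U.isOpen, hZ, ?_⟩
  ext y
  simp only [Set.mem_singleton_iff, Set.mem_inter_iff, SetLike.mem_coe]
  constructor
  · rintro rfl
    refine ⟨x.2, ?_⟩
    exact (Set.ext_iff.mp hZx x).mpr rfl
  · rintro ⟨hyU, hyZ⟩
    have := (Set.ext_iff.mp hZx ⟨y, hyU⟩).mp hyZ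
    exact congrArg Subtype.val this

end local_structure


section main_local

variable {k₀ k : Type u} [Field k₀] [Field k] [IsAlgClosed k] [Algebra k₀ k]
variable {X W P : Scheme.{u}} (f : X ⟶ Spec (CommRingCat.of k₀))
  (g : W ⟶ Spec (CommRingCat.of k)) (π : W ⟶ X)
  (hπ : IsPullback π g f (Spec.map (CommRingCat.ofHom (algebraMap k₀ k))))
  (FXQ : X ⟶ X) (Q : ℕ) (hle : ∀ U : X.Opens, U ≤ FXQ ⁻¹ᵁ U)
  (hFapp : ∀ (U : X.Opens) (s : Γ(X, U)), (FXQ.appLE U U (hle U)).hom s = s ^ Q)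
  (p₀ E : ℕ) [Fact p₀.Prime] [CharP k₀ p₀] (hQ : Q = p₀ ^ E) (hQ2 : 2 ≤ Q)
  (hQk : ∀ c : k₀, c ^ Q = c)
  (Φ : W ⟶ W) (hΦπ : Φ ≫ π = π ≫ FXQ) (hΦg : Φ ≫ g = g)
  (p q : P ⟶ W) (j d : W ⟶ P)
  (hjp : j ≫ p = 𝟙 W) (hjq : j ≫ q = Φ) (hdp : d ≫ p = 𝟙 W) (hdq : d ≫ q = 𝟙 W)
  [IsIntegral W] [LocallyOfFiniteType g]

include hπ hle hFapp hQ hQ2 hQk hΦπ hΦg hjp hjq hdp hdq in
/-- a point of the diagonal lying on the graph of `Φ` is closed and the graph meets the diagonal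
transversally there. -/
theorem isClosed_and_map_ker_eq (w : W) (hsp : j (genericPoint W) ⤳ d w) :
    IsClosed ({w} : Set W) ∧
      Ideal.map (d.stalkMap w).hom (RingHom.ker (Cyc.specMap (d w) (j (genericPoint W)) hsp)) =
        IsLocalRing.maximalIdeal (W.presheaf.stalk w) ∧ Φ w = w := by
  haveI : JacobsonSpace W := LocallyOfFiniteType.jacobsonSpace g
  haveI : IsLocallyNoetherian W := LocallyOfFiniteType.isLocallyNoetherian g
  set η := genericPoint W with hη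
  set J := Ideal.map (d.stalkMap w).hom (RingHom.ker (Cyc.specMap (d w) (j η) hsp)) with hJ
  obtain ⟨_, ⟨V, hV, rfl⟩, hxV, -⟩ :=
    X.isBasis_affineOpens.exists_subset_of_mem_open (Set.mem_univ (π w)) isOpen_univ
  set U : W.Opens := π ⁻¹ᵁ V with hUdef
  have hU : IsAffineOpen U := isAffineOpen_preimage f g π hπ V hV
  have hwU : w ∈ U := hxV
  have hηU : η ∈ U := by
    apply ((genericPoint_spec W).mem_open_set_iff U.isOpen).mpr
    exact ⟨w, Set.mem_univ _, hwU⟩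
  have hUΦ : U ≤ Φ ⁻¹ᵁ U := preimage_le π FXQ hle Φ hΦπ V
  set φ := Φ.appLE U U hUΦ with hφdef
  obtain ⟨ψ, hψ⟩ := exists_equiv_pow_chart f g π hπ FXQ Q hle hFapp p₀ E hQ hQk Φ hΦπ hΦg V hV w hwU
  have hgerm : ∀ b : Γ(W, U), W.presheaf.germ U w hwU (b - φ.hom b) ∈ J := fun b =>
    germ_sub_mem Φ p q j d hjp hjq hdp hdq η U hUΦ hηU w hwU hsp b
  have hJle : J ≤ IsLocalRing.maximalIdeal (W.presheaf.stalk w) :=
    map_ker_le_maximalIdeal d w (j η) hsp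
  set 𝔭 := (hU.primeIdealOf ⟨w, hwU⟩).asIdeal with h𝔭def
  have hmem𝔭 : ∀ b : Γ(W, U), b ∈ 𝔭 ↔
      W.presheaf.germ U w hwU b ∈ IsLocalRing.maximalIdeal (W.presheaf.stalk w) := by
    intro b
    rw [h𝔭def, hU.primeIdealOf_eq_map_closedPoint]
    rfl
  have h𝔭 : ∀ b, b - φ.hom b ∈ 𝔭 := fun b => (hmem𝔭 _).mpr (hJle (hgerm b))
  refine ⟨?_, ?_, ?_⟩
  · -- closedness
    apply isClosed_of_isMaximal_primeIdealOf hU ⟨w, hwU⟩
    have hpo := isPushout_chart f g π hπ V hV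
    have hK : IsField Γ(Spec (CommRingCat.of k), ⊤) :=
      MulEquiv.isField (Field.toIsField k)
        (Scheme.ΓSpecIso (CommRingCat.of k)).commRingCatIsoToRingEquiv.toMulEquiv
    apply isMaximal_of_pow_sub_mem _ _ _ _ hpo hK Q hQ2
    intro x
    have h1 := h𝔭 ((π.appLE V U le_rfl).hom x)
    rw [hφdef, appLE_π π FXQ Q hle hFapp Φ hΦπ V x] at h1
    have h2 := 𝔭.neg_mem h1
    rwa [neg_sub] at h2
  · -- transversality
    apply eq_maximalIdeal_of_le_sup_sq J hJle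
    letI : Algebra Γ(W, U) (W.presheaf.stalk w) :=
      TopCat.Presheaf.algebra_section_stalk W.presheaf (U := U) ⟨w, hwU⟩
    haveI hloc : IsLocalization.AtPrime (W.presheaf.stalk w) 𝔭 :=
      hU.isLocalization_stalk ⟨w, hwU⟩
    have hmax : IsLocalRing.maximalIdeal (W.presheaf.stalk w) =
        𝔭.map (algebraMap Γ(W, U) (W.presheaf.stalk w)) :=
      (IsLocalization.AtPrime.map_eq_maximalIdeal 𝔭 (W.presheaf.stalk w)).symm
    have h1 := le_span_sup_sq Q hQ2 φ.hom ψ hψ 𝔭 h𝔭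
    have h2 := Ideal.map_mono (f := algebraMap Γ(W, U) (W.presheaf.stalk w)) h1
    rw [Ideal.map_sup, Ideal.map_pow, ← hmax] at h2
    conv_lhs => rw [hmax, ← hmax]
    refine h2.trans (sup_le_sup_right ?_ _)
    rw [Ideal.map_span, Ideal.span_le]
    rintro _ ⟨_, ⟨b, rfl⟩, rfl⟩
    exact hgerm b
  · -- the point is fixed
    have h1 := IsAffineOpen.comap_primeIdealOf_appLE (f := Φ) (x := w) U hU U hU hUΦ hwU
    have h2 : hU.primeIdealOf ⟨Φ w, hUΦ hwU⟩ = hU.primeIdealOf ⟨w, hwU⟩ := by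
      rw [← h1]
      apply PrimeSpectrum.ext
      ext b
      show φ.hom b ∈ 𝔭 ↔ b ∈ 𝔭
      constructor
      · intro hb
        have := 𝔭.add_mem hb (h𝔭 b)
        simpa using this
      · intro hb
        have := 𝔭.sub_mem hb (h𝔭 b)
        simpa using this
    have hhomeo : IsHomeomorph (hU.isoSpec.hom : (U : Scheme.{u}) ⟶ Spec Γ(W, U)) :=
      (TopCat.isIso_iff_isHomeomorph _).mp inferInstance
    have h3 : (⟨Φ w, hUΦ hwU⟩ : U) = ⟨w, hwU⟩ := hhomeo.injective h2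
    exact congrArg Subtype.val h3

end main_local

end Groth.Agent.Helper8.ZFix
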