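import Mathlib
import Groth.Prelude.Def_W4c1zetahwZeta
import Groth.Prelude.Def_SgaExt

set_option autoImplicit false
universe u
open CategoryTheory AlgebraicGeometry

namespace Groth.Agent.Helper8.ZPts

section general

/-- a generic equivalence for fibres of sigma types -/
def sigmaFibreEquiv {α : Type*} {β : α → Type*} (a : α) (Q : Sigma β → Prop) :
    {s : Sigma β // s.1 = a ∧ Q s} ≃ {b : β a // Q ⟨a, b⟩} where
  toFun s := ⟨s.2.1 ▸ s.1.2, by
    obtain ⟨⟨y, b⟩, h, q⟩ := s
    subst h
    exact q⟩
  invFun b := ⟨⟨a, b.1⟩, rfl, b.2⟩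
  left_inv := by
    rintro ⟨⟨y, b⟩, h, q⟩
    subst h
    rfl
  right_inv := by
    rintro ⟨b, q⟩
    rfl

end general

variable {k₀ : Type u} [Field k₀] {X : Scheme.{u}} (f : X ⟶ Spec (CommRingCat.of k₀))

/-- the structure map `k₀ ⟶ κ(x)`. -/
noncomputable def strκ (x : X) : CommRingCat.of k₀ ⟶ X.residueField x :=
  Spec.preimage (X.fromSpecResidueField x ≫ f)

theorem SpecMap_strκ (x : X) : Spec.map (strκ f x) = X.fromSpecResidueField x ≫ f :=
  Spec.map_preimage _

variable (L : Type u) [Field L] [Algebra k₀ L]

/-- `L`-valued points over `k₀`. -/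
abbrev Pts : Type u :=
  {g : Spec (CommRingCat.of L) ⟶ X // g ≫ f = Spec.map (CommRingCat.ofHom (algebraMap k₀ L))}

/-- embeddings over `k₀`. -/
abbrev Emb (x : X) : Type u :=
  {ι : X.residueField x ⟶ CommRingCat.of L //
    strκ f x ≫ ι = CommRingCat.ofHom (algebraMap k₀ L)}

theorem comp_eq_iff (x : X) (ι : X.residueField x ⟶ CommRingCat.of L) :
    (Spec.map ι ≫ X.fromSpecResidueField x) ≫ f =
        Spec.map (CommRingCat.ofHom (algebraMap k₀ L)) ↔
      strκ f x ≫ ι = CommRingCat.ofHom (algebraMap k₀ L) := by
  rw [Category.assoc, ← SpecMap_strκ, ← Spec.map_comp]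
  exact Spec.map_injective.eq_iff

/-- the fibre of the point map -/
noncomputable def fibreEquiv (x : X) :
    {g : Pts f L // g.1 (IsLocalRing.closedPoint L) = x} ≃ Emb f L x :=
  calc {g : Pts f L // g.1 (IsLocalRing.closedPoint L) = x}
      ≃ {g : Spec (CommRingCat.of L) ⟶ X // g (IsLocalRing.closedPoint L) = x ∧
          g ≫ f = Spec.map (CommRingCat.ofHom (algebraMap k₀ L))} :=
        { toFun := fun g => ⟨g.1.1, g.2, g.1.2⟩
          invFun := fun g => ⟨⟨g.1, g.2.2⟩, g.2.1⟩
          left_inv := fun _ => rfl
          right_inv := fun _ => rfl }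
    _ ≃ {s : (Σ y : X, X.residueField y ⟶ CommRingCat.of L) // s.1 = x ∧
          (Spec.map s.2 ≫ X.fromSpecResidueField s.1) ≫ f =
            Spec.map (CommRingCat.ofHom (algebraMap k₀ L))} :=
        (Scheme.SpecToEquivOfField L X).subtypeEquiv (fun g => by
          have h := (Scheme.SpecToEquivOfField L X).symm_apply_apply g
          constructor
          · rintro ⟨h1, h2⟩
            refine ⟨h1, ?_⟩
            rw [← h2]
            congr 1
          · rintro ⟨h1, h2⟩
            refine ⟨h1, ?_⟩
            rw [← h2]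
            congr 1
            exact h.symm)
    _ ≃ {ι : X.residueField x ⟶ CommRingCat.of L //
          (Spec.map ι ≫ X.fromSpecResidueField x) ≫ f =
            Spec.map (CommRingCat.ofHom (algebraMap k₀ L))} :=
        sigmaFibreEquiv x _
    _ ≃ Emb f L x := Equiv.subtypeEquivRight (fun ι => comp_eq_iff f L x ι)


/-- the `k₀`-algebra structure on `κ(x)`. -/
noncomputable abbrev algκ (x : X) : Algebra k₀ (X.residueField x) := (strκ f x).hom.toAlgebra

/-- embeddings are algebra homomorphisms. -/
noncomputable def embEquivAlgHom (x : X) :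
    Emb f L x ≃ (letI := algκ f x; X.residueField x →ₐ[k₀] L) :=
  letI := algκ f x
  { toFun := fun ι => { ι.1.hom with
      commutes' := fun c => by
        have h := ι.2
        have h2 := congrArg (fun t => t.hom c) h
        exact h2 }
    invFun := fun φ => ⟨CommRingCat.ofHom φ.toRingHom, by
      ext c
      exact φ.commutes c⟩
    left_inv := fun ι => by
      apply Subtype.ext
      rfl
    right_inv := fun φ => by
      ext a
      rfl }

theorem card_fibre (x : X) :
    Nat.card {g : Pts f L // g.1 (IsLocalRing.closedPoint L) = x} =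
      (letI := algκ f x; Nat.card (X.residueField x →ₐ[k₀] L)) :=
  Nat.card_congr ((fibreEquiv f L x).trans (embEquivAlgHom f L x))


section degree

theorem surjective_of_isClosedImmersion_SpecMap {R S : CommRingCat.{u}} (φ : R ⟶ S)
    [IsClosedImmersion (Spec.map φ)] : Function.Surjective φ.hom := by
  have h := (IsClosedImmersion.isAffine_surjective_of_isAffine (Spec.map φ)).2
  have h2 : φ = (Scheme.ΓSpecIso R).inv ≫ (Spec.map φ).appTop ≫ (Scheme.ΓSpecIso S).hom := by
    rw [Scheme.ΓSpecIso_naturality, Iso.inv_hom_id_assoc]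
  rw [h2]
  simp only [CommRingCat.hom_comp, RingHom.coe_comp]
  exact (ConcreteCategory.bijective_of_isIso (Scheme.ΓSpecIso S).hom).2.comp
    (h.comp (ConcreteCategory.bijective_of_isIso (Scheme.ΓSpecIso R).inv).2)

/-- the residue field of the point of `Spec k₀` is `k₀`. -/
theorem bijective_strκ_id (y : Spec (CommRingCat.of k₀)) :
    Function.Bijective (strκ (𝟙 (Spec (CommRingCat.of k₀))) y).hom := by
  refine ⟨(strκ (𝟙 (Spec (CommRingCat.of k₀))) y).hom.injective, ?_⟩
  haveI : IsClosedImmersion (Spec.map (strκ (𝟙 (Spec (CommRingCat.of k₀))) y)) := by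
    rw [SpecMap_strκ, Category.comp_id]
    rw [← isClosed_singleton_iff_isClosedImmersion]
    have : ({y} : Set (Spec (CommRingCat.of k₀))) = Set.univ := by
      ext z
      simp only [Set.mem_singleton_iff, Set.mem_univ, iff_true]
      exact Subsingleton.elim _ _
    rw [this]
    exact isClosed_univ
  exact surjective_of_isClosedImmersion_SpecMap _

theorem strκ_eq (x : X) :
    strκ f x = strκ (𝟙 (Spec (CommRingCat.of k₀))) (f x) ≫ f.residueFieldMap x := by
  apply Spec.map_injective
  rw [Spec.map_comp, SpecMap_strκ, SpecMap_strκ, Category.comp_id,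
    Scheme.Hom.SpecMap_residueFieldMap_fromSpecResidueField]

theorem residueDegree_eq (x : X) :
    EGA4loc.residueDegree f x = (letI := algκ f x; Module.finrank k₀ (X.residueField x)) := by
  letI := algκ f x
  unfold EGA4loc.residueDegree
  letI a2 : Algebra ((Spec (CommRingCat.of k₀)).residueField (f x)) (X.residueField x) :=
    (f.residueFieldMap x).hom.toAlgebra
  show Module.finrank ((Spec (CommRingCat.of k₀)).residueField (f x)) (X.residueField x) = _
  unfold Module.finrank
  congr 1
  symm
  apply rank_eq_of_equiv_equiv (strκ (𝟙 (Spec (CommRingCat.of k₀))) (f x)).hom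
    (AddEquiv.refl _) (bijective_strκ_id (f x))
  intro r m
  show (strκ f x).hom r * m = (f.residueFieldMap x).hom
    ((strκ (𝟙 (Spec (CommRingCat.of k₀))) (f x)).hom r) * m
  rw [strκ_eq]
  rfl

end degree


section closed

variable [LocallyOfFiniteType f]

include f in
theorem jacobson : JacobsonSpace X := LocallyOfFiniteType.jacobsonSpace f

theorem isClosed_of_finite (x : X)
    (h : letI := algκ f x; Module.Finite k₀ (X.residueField x)) : IsClosed ({x} : Set X) := by
  letI := algκ f x
  haveI := jacobson f
  rw [isClosed_singleton_iff_locallyOfFiniteType]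
  haveI : LocallyOfFiniteType (X.fromSpecResidueField x ≫ f) := by
    rw [← SpecMap_strκ, HasRingHomProperty.Spec_iff (P := @LocallyOfFiniteType)]
    show Algebra.FiniteType k₀ (X.residueField x)
    infer_instance
  exact locallyOfFiniteType_of_comp _ f

theorem finite_of_isClosed (x : X) (hx : IsClosed ({x} : Set X)) :
    letI := algκ f x; Module.Finite k₀ (X.residueField x) := by
  letI := algκ f x
  haveI := jacobson f
  haveI : LocallyOfFiniteType (X.fromSpecResidueField x) :=
    isClosed_singleton_iff_locallyOfFiniteType.mp hx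
  have h : LocallyOfFiniteType (Spec.map (strκ f x)) := by
    rw [SpecMap_strκ]; infer_instance
  rw [HasRingHomProperty.Spec_iff (P := @LocallyOfFiniteType)] at h
  haveI : Algebra.FiniteType k₀ (X.residueField x) := h
  exact finite_of_finite_type_of_isJacobsonRing k₀ (X.residueField x)

end closed

end Groth.Agent.Helper8.ZPts
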