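import Mathlib
import Groth.Agent.Helper8.ZPtsA

set_option autoImplicit false
universe u
open CategoryTheory AlgebraicGeometry

namespace Groth.Agent.Helper8.ZPts

section finiteness

theorem finite_algHom_of_finiteType (R A L : Type*) [CommRing R] [CommRing A] [CommRing L]
    [Algebra R A] [Algebra R L] [Algebra.FiniteType R A] [Finite L] : Finite (A →ₐ[R] L) := by
  obtain ⟨s, hs⟩ := (Algebra.FiniteType.out : (⊤ : Subalgebra R A).FG)
  let F : (A →ₐ[R] L) → (s → L) := fun φ a => φ a.1
  apply Finite.of_injective F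
  intro φ₁ φ₂ h
  apply AlgHom.ext_of_adjoin_eq_top hs
  intro a ha
  exact congrFun h ⟨a, ha⟩

theorem finite_ringHom_of_finiteType {R A L : Type*} [CommRing R] [CommRing A] [CommRing L]
    [Finite L] (a : R →+* A) (ha : a.FiniteType) (b : R →+* L) :
    Finite {ψ : A →+* L // ψ.comp a = b} := by
  algebraize [a, b]
  haveI := finite_algHom_of_finiteType R A L
  let F : {ψ : A →+* L // ψ.comp a = b} → (A →ₐ[R] L) := fun ψ =>
    { ψ.1 with commutes' := fun c => RingHom.congr_fun ψ.2 c }
  apply Finite.of_injective F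
  intro ψ₁ ψ₂ h
  apply Subtype.ext
  ext x
  exact congrArg (fun φ : A →ₐ[R] L => φ x) h

variable {k₀ : Type u} [Field k₀] {X : Scheme.{u}} (f : X ⟶ Spec (CommRingCat.of k₀))
variable (L : Type u) [Field L] [Algebra k₀ L]

theorem top_le_preimage (g : Spec (CommRingCat.of L) ⟶ X) (V : X.Opens)
    (h : g (IsLocalRing.closedPoint L) ∈ V) : (⊤ : (Spec (CommRingCat.of L)).Opens) ≤ g ⁻¹ᵁ V := by
  intro z _
  have : z = IsLocalRing.closedPoint L := Subsingleton.elim _ _
  rw [this]
  exact h

theorem eq_of_appLE_eq (g₁ g₂ : Spec (CommRingCat.of L) ⟶ X) (V : X.Opens) (hV : IsAffineOpen V)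
    (h₁ : (⊤ : (Spec (CommRingCat.of L)).Opens) ≤ g₁ ⁻¹ᵁ V)
    (h₂ : (⊤ : (Spec (CommRingCat.of L)).Opens) ≤ g₂ ⁻¹ᵁ V)
    (h : g₁.appLE V ⊤ h₁ = g₂.appLE V ⊤ h₂) : g₁ = g₂ := by
  have e1 := IsAffineOpen.SpecMap_appLE_fromSpec g₁ hV (isAffineOpen_top _) h₁
  have e2 := IsAffineOpen.SpecMap_appLE_fromSpec g₂ hV (isAffineOpen_top _) h₂
  rw [h] at e1
  have e3 := e1.symm.trans e2
  rw [IsAffineOpen.fromSpec_top] at e3
  exact (cancel_epi _).mp e3

variable [LocallyOfFiniteType f] [QuasiCompact f] [Finite L]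

theorem finite_pts : Finite (Pts f L) := by
  haveI : CompactSpace X := QuasiCompact.compactSpace_of_compactSpace f
  -- a finite affine cover
  obtain ⟨S, hS⟩ : ∃ S : Finset X.affineOpens, ∀ x : X, ∃ V ∈ S, x ∈ V.1 := by
    have hcov : (Set.univ : Set X) ⊆ ⋃ V : X.affineOpens, (V.1 : Set X) := by
      intro x _
      obtain ⟨_, ⟨V, hV, rfl⟩, hxV, -⟩ :=
        X.isBasis_affineOpens.exists_subset_of_mem_open (Set.mem_univ x) isOpen_univ
      exact Set.mem_iUnion.mpr ⟨⟨V, hV⟩, hxV⟩
    obtain ⟨S, hS⟩ := isCompact_univ.elim_finite_subcover (fun V : X.affineOpens => (V.1 : Set X))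
      (fun V => V.1.2) hcov
    refine ⟨S, fun x => ?_⟩
    have := hS (Set.mem_univ x)
    simp only [Set.mem_iUnion] at this
    obtain ⟨V, hV, hx⟩ := this
    exact ⟨V, hV, hx⟩
  let b : Γ(Spec (CommRingCat.of k₀), ⊤) →+* Γ(Spec (CommRingCat.of L), ⊤) :=
    ((Spec.map (CommRingCat.ofHom (algebraMap k₀ L))).appLE ⊤ ⊤ le_top).hom
  haveI : Finite Γ(Spec (CommRingCat.of L), ⊤) :=
    Finite.of_equiv L (Scheme.ΓSpecIso (CommRingCat.of L)).commRingCatIsoToRingEquiv.symm.toEquiv
  have hfin : ∀ V : X.affineOpens,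
      Finite {g : Pts f L // g.1 (IsLocalRing.closedPoint L) ∈ V.1} := by
    intro V
    haveI : Finite {ψ : Γ(X, V.1) →+* Γ(Spec (CommRingCat.of L), ⊤) //
        ψ.comp (f.appLE ⊤ V.1 le_top).hom = b} :=
      finite_ringHom_of_finiteType _
        (LocallyOfFiniteType.finiteType_appLE f (isAffineOpen_top _) V.2 le_top) b
    let F : {g : Pts f L // g.1 (IsLocalRing.closedPoint L) ∈ V.1} →
        {ψ : Γ(X, V.1) →+* Γ(Spec (CommRingCat.of L), ⊤) //
          ψ.comp (f.appLE ⊤ V.1 le_top).hom = b} := fun g =>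
      ⟨(g.1.1.appLE V.1 ⊤ (top_le_preimage L g.1.1 _ g.2)).hom, by
        rw [← CommRingCat.hom_comp, Scheme.Hom.appLE_comp_appLE]
        simp only [g.1.2]
        rfl⟩
    apply Finite.of_injective F
    intro g₁ g₂ h
    apply Subtype.ext
    apply Subtype.ext
    have h2 : (g₁.1.1.appLE V.1 ⊤ (top_le_preimage L g₁.1.1 _ g₁.2)).hom =
        (g₂.1.1.appLE V.1 ⊤ (top_le_preimage L g₂.1.1 _ g₂.2)).hom := congrArg Subtype.val h
    exact eq_of_appLE_eq L _ _ V.1 V.2 _ _ (CommRingCat.hom_ext h2)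
  rw [← Set.finite_univ_iff]
  have hsub : (Set.univ : Set (Pts f L)) ⊆
      ⋃ V ∈ S, {g : Pts f L | g.1 (IsLocalRing.closedPoint L) ∈ V.1} := by
    intro g _
    obtain ⟨V, hVS, hV⟩ := hS (g.1 (IsLocalRing.closedPoint L))
    exact Set.mem_biUnion hVS hV
  refine Set.Finite.subset ?_ hsub
  apply Set.Finite.biUnion S.finite_toSet
  intro V _
  exact Set.finite_coe_iff.mp (hfin V)

end finiteness


section count

variable {k₀ : Type u} [Field k₀] [Finite k₀] {X : Scheme.{u}}
  (f : X ⟶ Spec (CommRingCat.of k₀))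
variable (L : Type u) [Field L] [Algebra k₀ L] [Finite L]

/-- the number of embeddings of the residue field. -/
theorem card_algHom (x : X) :
    letI := algκ f x
    Nat.card (X.residueField x →ₐ[k₀] L) =
      if EGA4loc.residueDegree f x ∣ Module.finrank k₀ L then EGA4loc.residueDegree f x else 0 := by
  letI := algκ f x
  rw [residueDegree_eq]
  split_ifs with h
  · exact FiniteField.natCard_algHom_of_finrank_dvd h
  · rw [← FiniteField.nonempty_algHom_iff_finrank_dvd, not_nonempty_iff] at h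
    exact Nat.card_of_isEmpty

variable [LocallyOfFiniteType f]

theorem isClosed_of_dvd (x : X)
    (h : EGA4loc.residueDegree f x ∣ Module.finrank k₀ L) : IsClosed ({x} : Set X) := by
  letI := algκ f x
  apply isClosed_of_finite f x
  haveI : Module.Finite k₀ L := Module.Finite.of_finite
  have hpos : 0 < Module.finrank k₀ L := Module.finrank_pos
  rw [residueDegree_eq] at h
  exact Module.finite_of_finrank_pos (Nat.pos_of_dvd_of_pos h hpos)

variable [QuasiCompact f]

/-- S13050. -/
theorem pointCount_eq_nPts :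
    SgaExt.pointCount f L = Zeta.nPts f (Module.finrank k₀ L) := by
  classical
  haveI : Module.Finite k₀ L := Module.Finite.of_finite
  have hpos : 0 < Module.finrank k₀ L := Module.finrank_pos
  set r := Module.finrank k₀ L with hr
  haveI := finite_pts f L
  letI : Fintype (Pts f L) := Fintype.ofFinite _
  let pt : Pts f L → X := fun g => g.1 (IsLocalRing.closedPoint L)
  let R : Finset X := Finset.univ.image pt
  let deg : X → ℕ := fun x => EGA4loc.residueDegree f x
  -- fibres
  have hfib : ∀ x : X, Nat.card {g : Pts f L // pt g = x} = if deg x ∣ r then deg x else 0 := by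
    intro x
    rw [card_fibre]
    exact card_algHom f L x
  have hR : ∀ x ∈ R, deg x ∣ r := by
    intro x hx
    obtain ⟨g, -, rfl⟩ := Finset.mem_image.mp hx
    by_contra hnd
    have h0 := hfib (pt g)
    rw [if_neg hnd] at h0
    haveI : Nonempty {g' : Pts f L // pt g' = pt g} := ⟨⟨g, rfl⟩⟩
    exact (Nat.card_pos (α := {g' : Pts f L // pt g' = pt g})).ne' h0
  have hmemR : ∀ x : X, deg x ∣ r → x ∈ R := by
    intro x hx
    have h0 := hfib x
    rw [if_pos hx] at h0
    have hd : 0 < deg x := Nat.pos_of_dvd_of_pos hx hpos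
    rw [← h0] at hd
    obtain ⟨g, hg⟩ := (Nat.card_pos_iff.mp hd).1
    exact Finset.mem_image.mpr ⟨g, Finset.mem_univ _, hg⟩
  -- the left-hand side
  have h1 : SgaExt.pointCount f L = ∑ x ∈ R, deg x := by
    show Nat.card (Pts f L) = _
    rw [Nat.card_eq_fintype_card, ← Finset.card_univ,
      Finset.card_eq_sum_card_image pt Finset.univ]
    refine Finset.sum_congr rfl fun x hx => ?_
    have h2 := hfib x
    rw [if_pos (hR x hx)] at h2
    rw [← h2, Nat.card_eq_fintype_card, Fintype.card_subtype]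
  -- the right-hand side
  have h2 : ∀ e ∈ r.divisors, Zeta.degCount f e = (R.filter (fun x => deg x = e)).card := by
    intro e he
    unfold Zeta.degCount
    rw [← Nat.card_eq_finsetCard]
    apply Nat.card_congr
    refine Equiv.subtypeEquivRight fun x => ?_
    rw [Finset.mem_filter]
    constructor
    · rintro ⟨-, hx⟩
      refine ⟨hmemR x ?_, hx⟩
      show EGA4loc.residueDegree f x ∣ r
      rw [hx]
      exact (Nat.mem_divisors.mp he).1
    · rintro ⟨hxR, hx⟩
      exact ⟨isClosed_of_dvd f L x (hR x hxR), hx⟩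
  rw [h1]
  unfold Zeta.nPts
  rw [← Finset.sum_fiberwise_of_maps_to (s := R) (t := r.divisors) (g := deg)
    (fun x hx => Nat.mem_divisors.mpr ⟨hR x hx, hpos.ne'⟩)]
  refine Finset.sum_congr rfl fun e he => ?_
  rw [h2 e he, Finset.sum_const_nat (m := e)]
  · ring
  · intro x hx
    exact (Finset.mem_filter.mp hx).2

end count

end Groth.Agent.Helper8.ZPts
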