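import Mathlib
import Groth.Agent.Helper8.ZFixB
import Groth.Agent.Helper8.ZPtsB

set_option autoImplicit false
universe u
open CategoryTheory CategoryTheory.Limits AlgebraicGeometry
open Groth.Agent.Helper8.ZPts

namespace Groth.Agent.Helper8.ZFix

section fixedField

variable (k₀ k : Type u) [Field k₀] [Field k] [Algebra k₀ k] (p₀ E : ℕ) [Fact p₀.Prime]
  [CharP k₀ p₀] (Q : ℕ) (hQ : Q = p₀ ^ E) (hE : 1 ≤ E) (hQk : ∀ c : k₀, c ^ Q = c)

/-- the subfield of the elements fixed by the `Q`-th power map. -/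
def fixedField : IntermediateField k₀ k :=
  haveI : CharP k p₀ := charP_of_injective_algebraMap (algebraMap k₀ k).injective p₀
  have hQ0 : Q ≠ 0 := by rw [hQ]; exact pow_ne_zero _ (Fact.out : p₀.Prime).ne_zero
  { carrier := {c | c ^ Q = c}
    mul_mem' := fun {a b} ha hb => by
      show (a * b) ^ Q = a * b
      rw [mul_pow, ha, hb]
    one_mem' := one_pow Q
    add_mem' := fun {a b} ha hb => by
      show (a + b) ^ Q = a + b
      have ha' : a ^ p₀ ^ E = a := by rw [← hQ]; exact ha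
      have hb' : b ^ p₀ ^ E = b := by rw [← hQ]; exact hb
      rw [hQ, add_pow_char_pow, ha', hb']
    zero_mem' := zero_pow hQ0
    algebraMap_mem' := fun c => by
      show (algebraMap k₀ k c) ^ Q = _
      rw [← map_pow, hQk]
    inv_mem' := fun a ha => by
      show (a⁻¹) ^ Q = a⁻¹
      have ha' : a ^ Q = a := ha
      rw [inv_pow, ha'] }

theorem mem_fixedField (c : k) : c ∈ fixedField k₀ k p₀ E Q hQ hQk ↔ c ^ Q = c := Iff.rfl

variable [IsAlgClosed k]

include hE in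
theorem card_fixedField : Nat.card (fixedField k₀ k p₀ E Q hQ hQk) = Q := by
  haveI : CharP k p₀ := charP_of_injective_algebraMap (algebraMap k₀ k).injective p₀
  have hp : p₀.Prime := Fact.out
  have hQ1 : 1 < Q := by
    rw [hQ]
    exact Nat.one_lt_pow (by omega) hp.one_lt
  have hdvd : p₀ ∣ Q := by rw [hQ]; exact dvd_pow_self _ (by omega)
  have hsep : (Polynomial.X ^ Q - Polynomial.X : Polynomial k).Separable :=
    galois_poly_separable p₀ Q hdvd
  have hne : (Polynomial.X ^ Q - Polynomial.X : Polynomial k) ≠ 0 :=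
    FiniteField.X_pow_card_sub_X_ne_zero k hQ1
  have hcard := Polynomial.card_rootSet_eq_natDegree (K := k) hsep (IsAlgClosed.splits _)
  rw [FiniteField.X_pow_card_sub_X_natDegree_eq k hQ1] at hcard
  refine Eq.trans ?_ hcard
  rw [← Nat.card_eq_fintype_card]
  apply Nat.card_congr
  refine Equiv.subtypeEquivRight fun c => ?_
  rw [Polynomial.mem_rootSet]
  simp only [hne, ne_eq, not_false_eq_true, map_sub, map_pow, Polynomial.aeval_X, true_and]
  show c ^ Q = c ↔ _
  rw [sub_eq_zero]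

include hE in
theorem finite_fixedField : Finite (fixedField k₀ k p₀ E Q hQ hQk) := by
  apply Nat.finite_of_card_ne_zero
  rw [card_fixedField k₀ k p₀ E Q hQ hE hQk, hQ]
  exact pow_ne_zero _ (Fact.out : p₀.Prime).ne_zero

include hE in
theorem finrank_fixedField [Finite k₀] (m : ℕ) (hm : Q = Nat.card k₀ ^ m) :
    Module.finrank k₀ (fixedField k₀ k p₀ E Q hQ hQk) = m := by
  haveI := finite_fixedField k₀ k p₀ E Q hQ hE hQk
  have h1 : Nat.card k₀ ^ m =
      Nat.card k₀ ^ Module.finrank k₀ (fixedField k₀ k p₀ E Q hQ hQk) :=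
    hm.symm.trans ((card_fixedField k₀ k p₀ E Q hQ hE hQk).symm.trans
      (Module.natCard_eq_pow_finrank (K := k₀) (V := fixedField k₀ k p₀ E Q hQ hQk)))
  have hq : 2 ≤ Nat.card k₀ := by
    have := Finite.one_lt_card (α := k₀)
    omega
  exact (Nat.pow_right_injective hq h1).symm

end fixedField


section naturality

variable {k : Type u} [Field k] {X : Scheme.{u}}
  (FXQ : X ⟶ X) (Q : ℕ) (hle : ∀ U : X.Opens, U ≤ FXQ ⁻¹ᵁ U)
  (hFapp : ∀ (U : X.Opens) (s : Γ(X, U)), (FXQ.appLE U U (hle U)).hom s = s ^ Q)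

theorem SpecMap_appLE_top {R S : CommRingCat.{u}} (φ : R ⟶ S) (y : Γ(Spec R, ⊤)) :
    ((Spec.map φ).appLE ⊤ ⊤ le_top).hom y =
      (Scheme.ΓSpecIso S).inv.hom (φ.hom ((Scheme.ΓSpecIso R).hom.hom y)) := by
  have h := Scheme.ΓSpecIso_naturality φ
  have h2 : (Spec.map φ).appLE ⊤ ⊤ le_top = (Spec.map φ).appTop := by
    rw [Scheme.Hom.appTop, Scheme.Hom.app_eq_appLE]
    rfl
  rw [h2]
  have h3 : (Spec.map φ).appTop = (Scheme.ΓSpecIso R).hom ≫ φ ≫ (Scheme.ΓSpecIso S).inv := by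
    rw [← Category.assoc, ← h, Category.assoc, Iso.hom_inv_id, Category.comp_id]
  rw [h3]
  rfl

include hFapp in
/-- naturality of the Frobenius on field-valued points. -/
theorem comp_frob (φQ : k →+* k) (hφQ : ∀ c, φQ c = c ^ Q)
    (t : Spec (CommRingCat.of k) ⟶ X) :
    t ≫ FXQ = Spec.map (CommRingCat.ofHom φQ) ≫ t := by
  obtain ⟨_, ⟨V, hV, rfl⟩, hxV, -⟩ :=
    X.isBasis_affineOpens.exists_subset_of_mem_open
      (Set.mem_univ (t (IsLocalRing.closedPoint k))) isOpen_univ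
  have h0 : (⊤ : (Spec (CommRingCat.of k)).Opens) ≤ t ⁻¹ᵁ V := top_le_preimage k t V hxV
  have h1 : (⊤ : (Spec (CommRingCat.of k)).Opens) ≤ (t ≫ FXQ) ⁻¹ᵁ V := by
    apply top_le_preimage
    rw [Scheme.Hom.comp_apply]
    exact hle V hxV
  have h2 : (⊤ : (Spec (CommRingCat.of k)).Opens) ≤
      (Spec.map (CommRingCat.ofHom φQ) ≫ t) ⁻¹ᵁ V := by
    apply top_le_preimage
    rw [Scheme.Hom.comp_apply]
    have : (Spec.map (CommRingCat.ofHom φQ)) (IsLocalRing.closedPoint k) =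
        IsLocalRing.closedPoint k := Subsingleton.elim _ _
    rw [this]
    exact hxV
  apply eq_of_appLE_eq k _ _ V hV h1 h2
  have e1 : (t ≫ FXQ).appLE V ⊤ h1 = FXQ.appLE V V (hle V) ≫ t.appLE V ⊤ h0 := by
    rw [Scheme.Hom.appLE_comp_appLE]
  have e2 : (Spec.map (CommRingCat.ofHom φQ) ≫ t).appLE V ⊤ h2 =
      t.appLE V ⊤ h0 ≫ (Spec.map (CommRingCat.ofHom φQ)).appLE ⊤ ⊤ le_top := by
    rw [Scheme.Hom.appLE_comp_appLE]
  rw [e1, e2]
  ext s
  simp only [CommRingCat.hom_comp, RingHom.comp_apply]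
  rw [hFapp, map_pow, SpecMap_appLE_top]
  simp only [CommRingCat.hom_ofHom, hφQ, map_pow]
  congr 1
  exact (congrArg (fun f => f.hom ((t.appLE V ⊤ h0).hom s))
    (Scheme.ΓSpecIso (CommRingCat.of k)).hom_inv_id).symm

end naturality


section fixedPts

variable {k₀ k : Type u} [Field k₀] [Field k] [Algebra k₀ k] {X : Scheme.{u}}
  (f : X ⟶ Spec (CommRingCat.of k₀))
  (L : IntermediateField k₀ k) (φQ : k →+* k) (hL : ∀ c : k, c ∈ L ↔ φQ c = c)

theorem SpecMap_fromSpecResidueField_inj {K : Type u} [Field K] (x : X)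
    (ι₁ ι₂ : X.residueField x ⟶ CommRingCat.of K)
    (h : Spec.map ι₁ ≫ X.fromSpecResidueField x = Spec.map ι₂ ≫ X.fromSpecResidueField x) :
    ι₁ = ι₂ := by
  have h1 : (Scheme.SpecToEquivOfField K X).symm ⟨x, ι₁⟩ =
      (Scheme.SpecToEquivOfField K X).symm ⟨x, ι₂⟩ := h
  have h2 := (Scheme.SpecToEquivOfField K X).symm.injective h1
  obtain ⟨e, he⟩ := Scheme.SpecToEquivOfField_eq_iff.mp h2
  have he' : ι₁ = (X.residueFieldCongr e).hom ≫ ι₂ := he
  rw [he']
  have : X.residueFieldCongr e = Iso.refl _ := Scheme.residueFieldCongr_refl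
  rw [this]
  simp

include hL in
/-- points with values in the fixed field are the points fixed by the Frobenius of `k`. -/
theorem equiv_pts_fixedField :
    Nonempty (Pts f L ≃ {t : Pts f k // Spec.map (CommRingCat.ofHom φQ) ≫ t.1 = t.1}) := by
  let ιL : CommRingCat.of L ⟶ CommRingCat.of k := CommRingCat.ofHom (algebraMap L k)
  have hιL : Function.Injective ιL.hom := (algebraMap L k).injective
  have hιLφ : ιL ≫ CommRingCat.ofHom φQ = ιL := by
    ext c
    exact (hL c.1).mp c.2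
  have htower : CommRingCat.ofHom (algebraMap k₀ L) ≫ ιL = CommRingCat.ofHom (algebraMap k₀ k) := by
    ext c
    rfl
  let F : Pts f L → {t : Pts f k // Spec.map (CommRingCat.ofHom φQ) ≫ t.1 = t.1} := fun t' =>
    ⟨⟨Spec.map ιL ≫ t'.1, by
      rw [Category.assoc, t'.2, ← Spec.map_comp, htower]⟩, by
      show Spec.map (CommRingCat.ofHom φQ) ≫ Spec.map ιL ≫ t'.1 = Spec.map ιL ≫ t'.1
      rw [← Category.assoc, ← Spec.map_comp, hιLφ]⟩
  refine ⟨Equiv.ofBijective F ⟨?_, ?_⟩⟩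
  · -- injectivity
    intro t₁ t₂ h
    have h1 : Spec.map ιL ≫ t₁.1 = Spec.map ιL ≫ t₂.1 :=
      congrArg (fun t : {t : Pts f k // _} => t.1.1) h
    apply Subtype.ext
    have e1 := (Scheme.SpecToEquivOfField L X).symm_apply_apply t₁.1
    have e2 := (Scheme.SpecToEquivOfField L X).symm_apply_apply t₂.1
    set a₁ := Scheme.SpecToEquivOfField L X t₁.1 with ha₁
    set a₂ := Scheme.SpecToEquivOfField L X t₂.1 with ha₂
    have e1' : Spec.map a₁.2 ≫ X.fromSpecResidueField a₁.1 = t₁.1 := e1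
    have e2' : Spec.map a₂.2 ≫ X.fromSpecResidueField a₂.1 = t₂.1 := e2
    rw [← e1', ← e2', ← Category.assoc, ← Category.assoc, ← Spec.map_comp, ← Spec.map_comp] at h1
    have h2 : (Scheme.SpecToEquivOfField k X).symm ⟨a₁.1, a₁.2 ≫ ιL⟩ =
        (Scheme.SpecToEquivOfField k X).symm ⟨a₂.1, a₂.2 ≫ ιL⟩ := h1
    have h3 := (Scheme.SpecToEquivOfField k X).symm.injective h2
    obtain ⟨e, he⟩ := Scheme.SpecToEquivOfField_eq_iff.mp h3
    have h4 : a₁ = a₂ := by
      rw [Scheme.SpecToEquivOfField_eq_iff]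
      refine ⟨e, ?_⟩
      ext c
      exact congrArg (fun t => t.hom c) he
    rw [← e1, ← e2, h4]
  · -- surjectivity
    rintro ⟨t, ht⟩
    have e1 := (Scheme.SpecToEquivOfField k X).symm_apply_apply t.1
    set a := Scheme.SpecToEquivOfField k X t.1 with ha
    have e1' : Spec.map a.2 ≫ X.fromSpecResidueField a.1 = t.1 := e1
    have hfix : a.2 ≫ CommRingCat.ofHom φQ = a.2 := by
      apply SpecMap_fromSpecResidueField_inj a.1
      rw [Spec.map_comp, Category.assoc, e1', ht]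
    have hmem : ∀ c, a.2.hom c ∈ L := fun c => by
      rw [hL]
      exact congrArg (fun t => t.hom c) hfix
    let ι' : X.residueField a.1 ⟶ CommRingCat.of L :=
      CommRingCat.ofHom (a.2.hom.codRestrict L hmem)
    have hι' : ι' ≫ ιL = a.2 := by
      ext c
      rfl
    have hstr : strκ f a.1 ≫ a.2 = CommRingCat.ofHom (algebraMap k₀ k) := by
      rw [← comp_eq_iff, e1']
      exact t.2
    have hstr' : strκ f a.1 ≫ ι' = CommRingCat.ofHom (algebraMap k₀ L) := by
      ext c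
      have := congrArg (fun t => t.hom c) hstr
      rw [← hι'] at this
      exact this
    refine ⟨⟨Spec.map ι' ≫ X.fromSpecResidueField a.1, (comp_eq_iff f L a.1 ι').mpr hstr'⟩, ?_⟩
    apply Subtype.ext
    apply Subtype.ext
    show Spec.map ιL ≫ Spec.map ι' ≫ X.fromSpecResidueField a.1 = t.1
    rw [← Category.assoc, ← Spec.map_comp, hι', e1']

end fixedPts


section count

variable {k₀ k : Type u} [Field k₀] [Finite k₀] [Field k] [IsAlgClosed k] [Algebra k₀ k]
variable {X W P : Scheme.{u}} (f : X ⟶ Spec (CommRingCat.of k₀))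
  [LocallyOfFiniteType f] [QuasiCompact f]
  (g : W ⟶ Spec (CommRingCat.of k)) (π : W ⟶ X)
  (hπ : IsPullback π g f (Spec.map (CommRingCat.ofHom (algebraMap k₀ k))))
  (FXQ : X ⟶ X) (Q : ℕ) (hle : ∀ U : X.Opens, U ≤ FXQ ⁻¹ᵁ U)
  (hFapp : ∀ (U : X.Opens) (s : Γ(X, U)), (FXQ.appLE U U (hle U)).hom s = s ^ Q)
  (p₀ E : ℕ) [Fact p₀.Prime] [CharP k₀ p₀] (hQ : Q = p₀ ^ E) (hE : 1 ≤ E)
  (hQk : ∀ c : k₀, c ^ Q = c) (m : ℕ) (hm : Q = Nat.card k₀ ^ m)
  (Φ : W ⟶ W) (hΦπ : Φ ≫ π = π ≫ FXQ) (hΦg : Φ ≫ g = g)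
  (p q : P ⟶ W) (hP : IsPullback p q g g) (j d : W ⟶ P)
  (hjp : j ≫ p = 𝟙 W) (hjq : j ≫ q = Φ) (hdp : d ≫ p = 𝟙 W) (hdq : d ≫ q = 𝟙 W)
  [IsIntegral W] [LocallyOfFiniteType g]

include hπ hΦπ hΦg in
/-- fixed sections correspond to fixed points of `X`. -/
theorem equiv_fixedSections :
    Nonempty ({s : {s : Spec (CommRingCat.of k) ⟶ W // s ≫ g = 𝟙 _} // s.1 ≫ Φ = s.1} ≃
      {t : Pts f k // t.1 ≫ FXQ = t.1}) := by
  refine ⟨
    { toFun := fun s => ⟨⟨s.1.1 ≫ π, by
          rw [Category.assoc, hπ.w, ← Category.assoc, s.1.2, Category.id_comp]⟩, by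
          show (s.1.1 ≫ π) ≫ FXQ = s.1.1 ≫ π
          rw [Category.assoc, ← hΦπ, ← Category.assoc, s.2]⟩
      invFun := fun t => ⟨⟨hπ.lift t.1.1 (𝟙 _) (by rw [t.1.2, Category.id_comp]),
          hπ.lift_snd _ _ _⟩, by
          apply hπ.hom_ext
          · rw [Category.assoc, hΦπ, ← Category.assoc, hπ.lift_fst, t.2]
          · rw [Category.assoc, hΦg]⟩
      left_inv := fun s => by
        apply Subtype.ext
        apply Subtype.ext
        apply hπ.hom_ext
        · exact hπ.lift_fst _ _ _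
        · rw [hπ.lift_snd]; exact s.1.2.symm
      right_inv := fun t => by
        apply Subtype.ext
        apply Subtype.ext
        exact hπ.lift_fst _ _ _ }⟩

include hπ hle hFapp hQ hE hQk hΦπ hΦg hP hjp hjq hdp hdq in
/-- the points of the diagonal on the graph correspond to the fixed sections. -/
theorem equiv_graph_inter_diag :
    Nonempty ({s : {s : Spec (CommRingCat.of k) ⟶ W // s ≫ g = 𝟙 _} // s.1 ≫ Φ = s.1} ≃
      {w : W // j (genericPoint W) ⤳ d w}) := by
  have hQ2 : 2 ≤ Q := by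
    rw [hQ]
    calc 2 ≤ p₀ := (Fact.out : p₀.Prime).two_le
      _ = p₀ ^ 1 := (pow_one _).symm
      _ ≤ p₀ ^ E := Nat.pow_le_pow_right (Fact.out : p₀.Prime).pos hE
  have hloc := fun w hsp => isClosed_and_map_ker_eq f g π hπ FXQ Q hle hFapp p₀ E hQ hQ2 hQk
    Φ hΦπ hΦg p q j d hjp hjq hdp hdq w hsp
  refine ⟨((pointEquivClosedPoint g).subtypeEquiv (p := fun s => s.1 ≫ Φ = s.1)
    (q := fun c => j (genericPoint W) ⤳ d c.1) ?_).trans
    (Equiv.subtypeSubtypeEquivSubtype (p := fun w => w ∈ closedPoints W)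
      (q := fun w => j (genericPoint W) ⤳ d w) (fun {w} hw => (hloc w hw).1))⟩
  intro s
  constructor
  · intro hs
    have h1 : s.1 ≫ d = s.1 ≫ j := by
      apply hP.hom_ext
      · rw [Category.assoc, Category.assoc, hdp, hjp]
      · rw [Category.assoc, Category.assoc, hdq, hjq, hs, Category.comp_id]
    show j (genericPoint W) ⤳ d (s.1 (IsLocalRing.closedPoint k))
    rw [← Scheme.Hom.comp_apply, h1, Scheme.Hom.comp_apply]
    exact ((genericPoint_spec W).specializes (Set.mem_univ _)).map j.continuous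
  · intro hs
    have hs' : j (genericPoint W) ⤳ d (s.1 (IsLocalRing.closedPoint k)) := hs
    have hfix := (hloc _ hs').2.2
    apply ext_of_apply_closedPoint_eq g (by rw [Category.assoc, hΦg, s.2]) s.2
    rw [Scheme.Hom.comp_apply, hfix]

include hπ hle hFapp hQ hE hQk hm hΦπ hΦg hP hjp hjq hdp hdq in
/-- the number of points of the diagonal on the graph of the `Q`-Frobenius is `N_m`. -/
theorem finite_and_card_eq_nPts :
    Finite {w : W // j (genericPoint W) ⤳ d w} ∧
      Nat.card {w : W // j (genericPoint W) ⤳ d w} = Zeta.nPts f m := by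
  haveI : CharP k p₀ := charP_of_injective_algebraMap (algebraMap k₀ k).injective p₀
  obtain ⟨e1⟩ := equiv_graph_inter_diag f g π hπ FXQ Q hle hFapp p₀ E hQ hE hQk Φ hΦπ hΦg p q hP
    j d hjp hjq hdp hdq
  obtain ⟨e2⟩ := equiv_fixedSections f g π hπ FXQ Φ hΦπ hΦg
  set φQ : k →+* k := iterateFrobenius k p₀ E with hφQdef
  have hφQ : ∀ c, φQ c = c ^ Q := fun c => by
    rw [hφQdef, iterateFrobenius_def, hQ]
  let e3 : {t : Pts f k // t.1 ≫ FXQ = t.1} ≃
      {t : Pts f k // Spec.map (CommRingCat.ofHom φQ) ≫ t.1 = t.1} :=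
    Equiv.subtypeEquivRight fun t => by
      rw [comp_frob FXQ Q hle hFapp φQ hφQ t.1]
  set L := fixedField k₀ k p₀ E Q hQ hQk with hLdef
  have hL : ∀ c : k, c ∈ L ↔ φQ c = c := fun c => by
    rw [hφQ]
    rfl
  obtain ⟨e4⟩ := equiv_pts_fixedField f L φQ hL
  haveI : Finite L := finite_fixedField k₀ k p₀ E Q hQ hE hQk
  haveI : Finite (Pts f L) := finite_pts f L
  let e : Pts f L ≃ {w : W // j (genericPoint W) ⤳ d w} :=
    e4.trans (e3.symm.trans (e2.symm.trans e1))
  refine ⟨Finite.of_equiv _ e, ?_⟩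
  rw [← Nat.card_congr e]
  have h2 : Nat.card (Pts f L) = SgaExt.pointCount f L := rfl
  rw [h2, pointCount_eq_nPts f L, finrank_fixedField k₀ k p₀ E Q hQ hE hQk m hm]

end count

end Groth.Agent.Helper8.ZFix
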