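import Mathlib
import Groth.Agent.Helper8.ZPtsB
import Groth.Agent.Helper8.ZFixC
import Groth.Agent.Helper5.VarDim5
import Groth.Agent.Helper6.LogDeriv

set_option autoImplicit false
universe u
open CategoryTheory CategoryTheory.Limits AlgebraicGeometry
open Groth.Agent.Helper8.ZPts Groth.Agent.Helper8.ZFix

namespace Groth.Agent.Helper8.ZMul

section ext

/-- a finite field has an extension of every positive degree, in the same universe. -/
theorem exists_extension (k₀ : Type u) [Field k₀] [Finite k₀] (m : ℕ) (hm : 1 ≤ m) :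
    ∃ (L : Type u) (_ : Field L) (_ : Algebra k₀ L) (_ : Finite L), Module.finrank k₀ L = m := by
  obtain ⟨p₀, hp₀⟩ := CharP.exists k₀
  haveI : CharP k₀ p₀ := hp₀
  haveI : Fact p₀.Prime := ⟨CharP.char_is_prime k₀ p₀⟩
  letI : Fintype k₀ := Fintype.ofFinite k₀
  obtain ⟨e, -, he⟩ := FiniteField.card k₀ p₀
  have hcard : Nat.card k₀ = p₀ ^ (e : ℕ) := by rw [Nat.card_eq_fintype_card]; exact he
  set Q := Nat.card k₀ ^ m with hQdef
  have hQ : Q = p₀ ^ ((e : ℕ) * m) := by rw [hQdef, hcard, pow_mul]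
  have hE : 1 ≤ (e : ℕ) * m :=
    Nat.one_le_iff_ne_zero.mpr (Nat.mul_ne_zero e.ne_zero (by omega))
  have hQk : ∀ c : k₀, c ^ Q = c := fun c => by
    rw [hQdef, Nat.card_eq_fintype_card]; exact FiniteField.pow_card_pow m c
  exact ⟨fixedField k₀ (AlgebraicClosure k₀) p₀ ((e : ℕ) * m) Q hQ hQk, inferInstance,
    inferInstance, finite_fixedField k₀ (AlgebraicClosure k₀) p₀ _ Q hQ hE hQk,
    finrank_fixedField k₀ (AlgebraicClosure k₀) p₀ _ Q hQ hE hQk m hQdef⟩

end ext

variable {k₀ : Type u} [Field k₀] {X Y : Scheme.{u}} (f : X ⟶ Spec (CommRingCat.of k₀))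

section immersion

variable (g : Y ⟶ X)

theorem strκ_comp (y : Y) : strκ f (g y) ≫ g.residueFieldMap y = strκ (g ≫ f) y := by
  apply Spec.map_injective
  rw [Spec.map_comp, SpecMap_strκ, SpecMap_strκ, ← Category.assoc,
    Scheme.Hom.SpecMap_residueFieldMap_fromSpecResidueField, Category.assoc]

/-- the residue field map as a `k₀`-linear equivalence. -/
noncomputable def resEquiv (y : Y) (hb : Function.Bijective (g.residueFieldMap y).hom) :
    letI := algκ (g ≫ f) y
    letI := algκ f (g y)
    X.residueField (g y) ≃ₗ[k₀] Y.residueField y :=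
  letI := algκ (g ≫ f) y
  letI := algκ f (g y)
  { RingEquiv.ofBijective (g.residueFieldMap y).hom hb with
    map_smul' := fun c a => by
      show (g.residueFieldMap y).hom (c • a) = c • (g.residueFieldMap y).hom a
      rw [Algebra.smul_def, Algebra.smul_def, map_mul]
      congr 1
      exact congrArg (fun t => t.hom c) (strκ_comp f g y) }

theorem residueDegree_comp (y : Y) (hb : Function.Bijective (g.residueFieldMap y).hom) :
    EGA4loc.residueDegree (g ≫ f) y = EGA4loc.residueDegree f (g y) := by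
  rw [residueDegree_eq, residueDegree_eq]
  letI := algκ (g ≫ f) y
  letI := algκ f (g y)
  exact (LinearEquiv.finrank_eq (resEquiv f g y hb)).symm

variable [LocallyOfFiniteType f] [IsImmersion g]

include f in
theorem isClosed_map (y : Y) (hy : IsClosed ({y} : Set Y)) : IsClosed ({g y} : Set X) := by
  have hb := Groth.Agent.Helper5.VarDim.residueFieldMap_bijective_of_surjectiveOnStalks g y
  apply isClosed_of_finite f (g y)
  have h1 := finite_of_isClosed (g ≫ f) y hy
  letI := algκ (g ≫ f) y
  letI := algκ f (g y)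
  exact Module.Finite.equiv (resEquiv f g y hb).symm

theorem isClosed_of_isClosed_map (y : Y) (hy : IsClosed ({g y} : Set X)) :
    IsClosed ({y} : Set Y) := by
  have hinj : Function.Injective g := g.isEmbedding.injective
  have : ({y} : Set Y) = g ⁻¹' {g y} := by
    ext z
    simp only [Set.mem_singleton_iff, Set.mem_preimage]
    exact ⟨fun h => by rw [h], fun h => hinj h⟩
  rw [this]
  exact hy.preimage g.continuous

end immersion

section finiteness

variable [Finite k₀] [LocallyOfFiniteType f] [QuasiCompact f]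

theorem finite_closedPts (e : ℕ) (he : 0 < e) :
    Finite {x : X // IsClosed ({x} : Set X) ∧ EGA4loc.residueDegree f x = e} := by
  obtain ⟨L, _, _, _, hL⟩ := exists_extension k₀ e he
  haveI := finite_pts f L
  let pt : Pts f L → X := fun g => g.1 (IsLocalRing.closedPoint L)
  have hsub : {x : X | IsClosed ({x} : Set X) ∧ EGA4loc.residueDegree f x = e} ⊆ Set.range pt := by
    rintro x ⟨-, hx⟩
    have h1 := card_fibre f L x
    have h2 := card_algHom f L x
    rw [hL, hx, if_pos dvd_rfl] at h2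
    rw [h2] at h1
    have : 0 < Nat.card {g : Pts f L // g.1 (IsLocalRing.closedPoint L) = x} := by
      rw [h1]; exact he
    obtain ⟨g, hg⟩ := (Nat.card_pos_iff.mp this).1
    exact ⟨g, hg⟩
  exact ((Set.finite_range pt).subset hsub).to_subtype

end finiteness

section partition

variable [Finite k₀] [LocallyOfFiniteType f] [QuasiCompact f]
variable {ι : Type*} [Fintype ι] (Ys : ι → Scheme.{u}) (g : ∀ i, Ys i ⟶ X)
  [∀ i, IsImmersion (g i)]
  (hpart : ∀ x : X, IsClosed ({x} : Set X) → ∃! i, x ∈ Set.range (g i).base)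

include hpart in
theorem degCount_eq_sum (e : ℕ) (he : 0 < e) :
    Zeta.degCount f e = ∑ i, Zeta.degCount (g i ≫ f) e := by
  haveI := finite_closedPts f e he
  have hb := fun i y =>
    Groth.Agent.Helper5.VarDim.residueFieldMap_bijective_of_surjectiveOnStalks (g i) y
  let Φ : (Σ i, {y : Ys i // IsClosed ({y} : Set (Ys i)) ∧
        EGA4loc.residueDegree (g i ≫ f) y = e}) →
      {x : X // IsClosed ({x} : Set X) ∧ EGA4loc.residueDegree f x = e} :=
    fun s => ⟨g s.1 s.2.1, isClosed_map f (g s.1) s.2.1 s.2.2.1, by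
      rw [← residueDegree_comp f (g s.1) s.2.1 (hb _ _)]; exact s.2.2.2⟩
  have hΦinj : Function.Injective Φ := by
    rintro ⟨i, y, hy⟩ ⟨i', y', hy'⟩ h
    have h1 : g i y = g i' y' := congrArg Subtype.val h
    have hcl : IsClosed ({g i y} : Set X) := isClosed_map f (g i) y hy.1
    obtain ⟨i₀, -, huniq⟩ := hpart _ hcl
    have e1 : i = i₀ := huniq i ⟨y, rfl⟩
    have e2 : i' = i₀ := huniq i' ⟨y', h1.symm⟩
    obtain rfl : i = i' := e1.trans e2.symm
    have : y = y' := (g i).isEmbedding.injective h1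
    subst this
    rfl
  have hΦsurj : Function.Surjective Φ := by
    rintro ⟨x, hx, hdeg⟩
    obtain ⟨i, ⟨y, rfl⟩, -⟩ := hpart x hx
    refine ⟨⟨i, y, isClosed_of_isClosed_map (g i) y hx, ?_⟩, rfl⟩
    rw [residueDegree_comp f (g i) y (hb _ _)]
    exact hdeg
  haveI : ∀ i, Finite {y : Ys i // IsClosed ({y} : Set (Ys i)) ∧
      EGA4loc.residueDegree (g i ≫ f) y = e} := fun i =>
    Finite.of_injective (fun y => Φ ⟨i, y⟩) (fun y y' h => by
      have := hΦinj h
      exact eq_of_heq (Sigma.mk.inj this).2)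
  unfold Zeta.degCount
  rw [← Nat.card_congr (Equiv.ofBijective Φ ⟨hΦinj, hΦsurj⟩), Nat.card_sigma]

include hpart in
theorem nPts_eq_sum (m : ℕ) : Zeta.nPts f m = ∑ i, Zeta.nPts (g i ≫ f) m := by
  unfold Zeta.nPts
  rw [Finset.sum_comm]
  refine Finset.sum_congr rfl fun e he => ?_
  rw [degCount_eq_sum f Ys g hpart e (Nat.pos_of_mem_divisors he), Finset.mul_sum]

include hpart in
theorem logZeta_eq_sum : Zeta.logZeta f = ∑ i, Zeta.logZeta (g i ≫ f) := by
  ext m
  rw [map_sum]
  simp only [Zeta.logZeta, PowerSeries.coeff_mk]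
  rw [nPts_eq_sum f Ys g hpart m, Nat.cast_sum, Finset.sum_div]

end partition

section expsum

open PowerSeries Groth.Agent.Helper6.LogDeriv

theorem subst_exp_sum {ι : Type*} (s : Finset ι) (L : ι → PowerSeries ℚ)
    (h0 : ∀ i ∈ s, PowerSeries.constantCoeff (L i) = 0) :
    PowerSeries.subst (∑ i ∈ s, L i) (PowerSeries.exp ℚ) =
      ∏ i ∈ s, PowerSeries.subst (L i) (PowerSeries.exp ℚ) := by
  have h0' : PowerSeries.constantCoeff (∑ i ∈ s, L i) = 0 := by
    rw [map_sum]; exact Finset.sum_eq_zero h0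
  refine eq_of_HasLD (HasLD.exp_subst h0') ?_ ?_
  · have := HasLD.prod s (fun i => PowerSeries.subst (L i) (PowerSeries.exp ℚ))
      (fun i => PowerSeries.derivative ℚ (L i)) (fun i hi => HasLD.exp_subst (h0 i hi))
    rwa [← map_sum] at this
  · rw [constantCoeff_exp_subst h0', map_prod]
    exact (Finset.prod_eq_one fun i hi => constantCoeff_exp_subst (h0 i hi)).symm

theorem constantCoeff_logZeta {k₀ : Type u} [Field k₀] {X : Scheme.{u}}
    (f : X ⟶ Spec (CommRingCat.of k₀)) : PowerSeries.constantCoeff (Zeta.logZeta f) = 0 := by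
  rw [← PowerSeries.coeff_zero_eq_constantCoeff_apply, Zeta.logZeta, PowerSeries.coeff_mk,
    Nat.cast_zero, div_zero]

end expsum

section main

variable [Finite k₀] [LocallyOfFiniteType f] [QuasiCompact f]
variable {ι : Type*} [Fintype ι] (Ys : ι → Scheme.{u}) (g : ∀ i, Ys i ⟶ X)
  [∀ i, IsImmersion (g i)]
  (hpart : ∀ x : X, IsClosed ({x} : Set X) → ∃! i, x ∈ Set.range (g i).base)

include hpart in
/-- S14459. -/
theorem zetaFun_eq_prod : Zeta.zetaFun f = ∏ i, Zeta.zetaFun (g i ≫ f) := by
  unfold Zeta.zetaFun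
  rw [logZeta_eq_sum f Ys g hpart, subst_exp_sum]
  intro i _
  exact constantCoeff_logZeta _

end main

end Groth.Agent.Helper8.ZMul
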