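import Mathlib

set_option autoImplicit false
universe u v

namespace Groth.Agent.Helper8.FrobKerRed

open TensorProduct

section shear
variable (k : Type u) (A : Type v) [Field k] [CommRing A] [HopfAlgebra k A]

/-- `a ⊗ b ↦ Σ a S(b₁) ⊗ b₂` -/
noncomputable def psi : A ⊗[k] A →ₐ[k] A ⊗[k] A :=
  Algebra.TensorProduct.lift (Algebra.TensorProduct.includeLeft (R := k) (S := k) (A := A) (B := A))
    ((Algebra.TensorProduct.map (HopfAlgebra.antipodeAlgHom k A) (AlgHom.id k A)).comp
      (Bialgebra.comulAlgHom k A))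
    (fun _ _ => Commute.all _ _)

/-- `a ⊗ b ↦ Σ a b₁ ⊗ b₂` -/
noncomputable def psi' : A ⊗[k] A →ₐ[k] A ⊗[k] A :=
  Algebra.TensorProduct.lift (Algebra.TensorProduct.includeLeft (R := k) (S := k) (A := A) (B := A))
    (Bialgebra.comulAlgHom k A)
    (fun _ _ => Commute.all _ _)

/-- `(x ⊗ y) ⊗ z ↦ x S(y) ⊗ z` -/
noncomputable def Theta' : (A ⊗[k] A) ⊗[k] A →ₗ[k] A ⊗[k] A :=
  TensorProduct.map (LinearMap.mul' k A ∘ₗ (HopfAlgebra.antipode k).lTensor A) (LinearMap.id : A →ₗ[k] A)

theorem psi_tmul (a c : A) :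
    psi k A (a ⊗ₜ c) = Theta' k A ((TensorProduct.assoc k A A A).symm (a ⊗ₜ Coalgebra.comul c)) := by
  have h : ∀ t : A ⊗[k] A, (a ⊗ₜ[k] (1 : A)) *
      (Algebra.TensorProduct.map (HopfAlgebra.antipodeAlgHom k A) (AlgHom.id k A)) t =
      Theta' k A ((TensorProduct.assoc k A A A).symm (a ⊗ₜ t)) := by
    intro t
    induction t using TensorProduct.induction_on with
    | zero => simp
    | tmul x y =>
      simp only [Algebra.TensorProduct.map_tmul, Algebra.TensorProduct.tmul_mul_tmul, one_mul,
        TensorProduct.assoc_symm_tmul, Theta', TensorProduct.map_tmul, LinearMap.comp_apply,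
        LinearMap.lTensor_tmul, LinearMap.mul'_apply, LinearMap.id_apply, AlgHom.id_apply]
      rfl
    | add x y hx hy =>
      rw [map_add, mul_add, hx, hy, TensorProduct.tmul_add, map_add, map_add]
  rw [psi, Algebra.TensorProduct.lift_tmul]
  exact h _

theorem Theta'_rTensor (t : A ⊗[k] A) :
    Theta' k A ((LinearMap.rTensor A (Coalgebra.comul (R := k) (A := A))) t) =
      TensorProduct.map (Algebra.linearMap k A ∘ₗ Coalgebra.counit) (LinearMap.id : A →ₗ[k] A) t := by
  induction t using TensorProduct.induction_on with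
  | zero => simp
  | tmul x y =>
    simp only [LinearMap.rTensor_tmul, Theta', TensorProduct.map_tmul, LinearMap.comp_apply,
      LinearMap.id_apply, HopfAlgebra.mul_antipode_lTensor_comul_apply, Algebra.linearMap_apply]
  | add x y hx hy => rw [map_add, map_add, hx, hy, map_add]

theorem psi_comul (b : A) : psi k A (Coalgebra.comul b) = (1 : A) ⊗ₜ[k] b := by
  have h1 : ∀ t : A ⊗[k] A, psi k A t =
      Theta' k A ((TensorProduct.assoc k A A A).symm
        ((LinearMap.lTensor A (Coalgebra.comul (R := k) (A := A))) t)) := by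
    intro t
    induction t using TensorProduct.induction_on with
    | zero => simp
    | tmul x y => rw [psi_tmul, LinearMap.lTensor_tmul]
    | add x y hx hy => rw [map_add, hx, hy, map_add, map_add, map_add]
  rw [h1, Coalgebra.coassoc_symm_apply, Theta'_rTensor]
  have h2 : ∀ t : A ⊗[k] A,
      TensorProduct.map (Algebra.linearMap k A ∘ₗ Coalgebra.counit) (LinearMap.id : A →ₗ[k] A) t =
      TensorProduct.map (Algebra.linearMap k A) (LinearMap.id : A →ₗ[k] A)
        ((LinearMap.rTensor A (Coalgebra.counit (R := k) (A := A))) t) := by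
    intro t
    induction t using TensorProduct.induction_on with
    | zero => simp
    | tmul x y => simp
    | add x y hx hy => rw [map_add, hx, hy, map_add, map_add]
  rw [h2, Coalgebra.rTensor_counit_comul]
  simp

theorem psi_psi' (x : A ⊗[k] A) : psi k A (psi' k A x) = x := by
  induction x using TensorProduct.induction_on with
  | zero => simp
  | tmul a b =>
    rw [psi', Algebra.TensorProduct.lift_tmul, map_mul]
    have h1 : psi k A (Algebra.TensorProduct.includeLeft (R := k) (S := k) (A := A) (B := A) a) = a ⊗ₜ[k] (1 : A) := by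
      rw [psi]
      show Algebra.TensorProduct.lift _ _ _ (a ⊗ₜ[k] (1 : A)) = _
      rw [Algebra.TensorProduct.lift_tmul, map_one, mul_one]
      rfl
    have h2 : psi k A (Bialgebra.comulAlgHom k A b) = (1 : A) ⊗ₜ[k] b := psi_comul k A b
    rw [h1, h2, Algebra.TensorProduct.tmul_mul_tmul, mul_one, one_mul]
  | add x y hx hy => rw [map_add, map_add, hx, hy]

theorem psi_surjective : Function.Surjective (psi k A) := fun x => ⟨psi' k A x, psi_psi' k A x⟩

/-- `a ⊗ b ↦ ε(b) a` -/
noncomputable def nu : A ⊗[k] A →ₐ[k] A :=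
  (Algebra.TensorProduct.rid k k A).toAlgHom.comp
    (Algebra.TensorProduct.map (AlgHom.id k A) (Bialgebra.counitAlgHom k A))

theorem mu_psi : (Algebra.TensorProduct.lmul' k (S := A)).comp (psi k A) = nu k A := by
  apply Algebra.TensorProduct.ext'
  intro a b
  rw [AlgHom.comp_apply, psi, Algebra.TensorProduct.lift_tmul, map_mul]
  have h1 : Algebra.TensorProduct.lmul' k (S := A) (Algebra.TensorProduct.includeLeft (R := k) (S := k) (A := A) (B := A) a) = a := by
    show Algebra.TensorProduct.lmul' k (S := A) (a ⊗ₜ[k] (1 : A)) = a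
    rw [Algebra.TensorProduct.lmul'_apply_tmul, mul_one]
  have h2 : ∀ t : A ⊗[k] A, Algebra.TensorProduct.lmul' k (S := A)
      ((Algebra.TensorProduct.map (HopfAlgebra.antipodeAlgHom k A) (AlgHom.id k A)) t) =
      LinearMap.mul' k A ((HopfAlgebra.antipode k).rTensor A t) := by
    intro t
    induction t using TensorProduct.induction_on with
    | zero => simp
    | tmul x y =>
      simp only [Algebra.TensorProduct.map_tmul, Algebra.TensorProduct.lmul'_apply_tmul,
        LinearMap.rTensor_tmul, LinearMap.mul'_apply, AlgHom.id_apply]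
      rfl
    | add x y hx hy => rw [map_add, map_add, hx, hy, map_add, map_add]
  rw [h1, AlgHom.comp_apply, h2]
  have h3 : (Bialgebra.comulAlgHom k A) b = Coalgebra.comul b := rfl
  rw [h3, HopfAlgebra.mul_antipode_rTensor_comul_apply]
  simp only [nu, AlgHom.comp_apply, Algebra.TensorProduct.map_tmul, AlgHom.id_apply]
  have h4 : (Algebra.TensorProduct.rid k k A) (a ⊗ₜ[k] (Bialgebra.counitAlgHom k A) b) =
      (Bialgebra.counitAlgHom k A) b • a := Algebra.TensorProduct.rid_tmul _ _ _
  show _ = (Algebra.TensorProduct.rid k k A) (a ⊗ₜ[k] (Bialgebra.counitAlgHom k A) b)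
  rw [h4, Algebra.smul_def, mul_comm]
  rfl

theorem ker_nu : RingHom.ker (nu k A) =
    (RingHom.ker (Bialgebra.counitAlgHom k A)).map
      (Algebra.TensorProduct.includeRight : A →ₐ[k] A ⊗[k] A) := by
  have hsurj : Function.Surjective (Bialgebra.counitAlgHom k A) := by
    intro c
    refine ⟨algebraMap k A c, ?_⟩
    simp
  rw [← Algebra.TensorProduct.lTensor_ker (A := A) (Bialgebra.counitAlgHom k A) hsurj]
  ext x
  simp only [RingHom.mem_ker, nu, AlgHom.comp_apply]
  exact (Algebra.TensorProduct.rid k k A).map_eq_zero_iff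

theorem ideal_idem (h : RingHom.ker (Bialgebra.counitAlgHom k A) *
    RingHom.ker (Bialgebra.counitAlgHom k A) = RingHom.ker (Bialgebra.counitAlgHom k A)) :
    IsIdempotentElem (KaehlerDifferential.ideal k A) := by
  have h1 : KaehlerDifferential.ideal k A = (RingHom.ker (nu k A)).map (psi k A) := by
    apply le_antisymm
    · intro y hy
      obtain ⟨x, rfl⟩ := psi_surjective k A y
      apply Ideal.mem_map_of_mem
      rw [RingHom.mem_ker, ← mu_psi]
      exact hy
    · rw [Ideal.map_le_iff_le_comap]
      intro x hx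
      rw [Ideal.mem_comap]
      show Algebra.TensorProduct.lmul' k (S := A) (psi k A x) = 0
      have := hx
      rw [RingHom.mem_ker, ← mu_psi] at this
      exact this
  rw [h1, ker_nu, IsIdempotentElem, ← Ideal.map_mul, ← Ideal.map_mul, h]

theorem reduced_of_idem [Module.Finite k A] (h : RingHom.ker (Bialgebra.counitAlgHom k A) *
    RingHom.ker (Bialgebra.counitAlgHom k A) = RingHom.ker (Bialgebra.counitAlgHom k A)) :
    IsReduced A := by
  haveI : Subsingleton (Ω[A⁄k]) := (Ideal.cotangent_subsingleton_iff _).mpr (ideal_idem k A h)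
  haveI : Algebra.FormallyUnramified k A := ⟨inferInstance⟩
  exact Algebra.FormallyUnramified.isReduced_of_field k A

end shear

section frob

theorem exists_root (k : Type u) [Field k] [IsAlgClosed k] (p : ℕ) [hp : Fact p.Prime] [CharP k p]
    (A : Type v) [CommRing A] [Algebra k A] [Module.Finite k A] [IsReduced A] (n : ℕ) (g : A) :
    ∃ f : A, f ^ p ^ n = g := by
  classical
  rcases subsingleton_or_nontrivial A with hA | hA
  · exact ⟨0, Subsingleton.elim _ _⟩
  haveI : CharP A p := charP_of_injective_algebraMap (algebraMap k A).injective p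
  have hq : 0 < p ^ n := pow_pos hp.out.pos n
  let b := Module.finBasis k A
  have hroot : ∀ c : k, ∃ d : k, d ^ p ^ n = c := fun c => IsAlgClosed.exists_pow_nat_eq c hq
  choose rt hrt using hroot
  have hsum : ∀ (c : Fin (Module.finrank k A) → k),
      ∑ i, c i • (b i) ^ p ^ n = (∑ i, rt (c i) • b i) ^ p ^ n := by
    intro c
    rw [sum_pow_char_pow]
    apply Finset.sum_congr rfl
    intro i _
    rw [smul_pow, hrt]
  have hli : LinearIndependent k (fun i => (b i) ^ p ^ n) := by
    rw [Fintype.linearIndependent_iff]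
    intro c hc i
    rw [hsum] at hc
    have h0 : ∑ i, rt (c i) • b i = 0 := IsNilpotent.eq_zero ⟨_, hc⟩
    have h1 := Fintype.linearIndependent_iff.mp b.linearIndependent (fun i => rt (c i)) h0 i
    rw [← hrt (c i), h1, zero_pow hq.ne']
  have hspan := hli.span_eq_top_of_card_eq_finrank' (by simp)
  have hg : g ∈ Submodule.span k (Set.range fun i => (b i) ^ p ^ n) := by rw [hspan]; trivial
  obtain ⟨c, hc⟩ := (Submodule.mem_span_range_iff_exists_fun k).mp hg
  exact ⟨∑ i, rt (c i) • b i, by rw [← hsum, hc]⟩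

theorem main (k : Type u) [Field k] [IsAlgClosed k]
    (p : ℕ) [hp : Fact p.Prime] [CharP k p] (A : Type v) [CommRing A] [HopfAlgebra k A] [Module.Finite k A]
    (n : ℕ) (hn : 1 ≤ n) :
    Ideal.span ((fun f : A => f ^ p ^ n) '' (RingHom.ker (Bialgebra.counitAlgHom k A) : Set A)) =
      RingHom.ker (Bialgebra.counitAlgHom k A) ↔ IsReduced A := by
  set I := RingHom.ker (Bialgebra.counitAlgHom k A) with hI
  have hq2 : 2 ≤ p ^ n := by
    calc 2 ≤ p := hp.out.two_le
      _ = p ^ 1 := (pow_one p).symm
      _ ≤ p ^ n := Nat.pow_le_pow_right hp.out.pos hn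
  have hle : Ideal.span ((fun f : A => f ^ p ^ n) '' (I : Set A)) ≤ I := by
    rw [Ideal.span_le]
    rintro _ ⟨f, hf, rfl⟩
    exact Ideal.pow_mem_of_mem I hf _ (by omega)
  constructor
  · intro h
    apply reduced_of_idem k A
    apply le_antisymm Ideal.mul_le_right
    rw [← hI]
    conv_lhs => rw [← h]
    rw [Ideal.span_le]
    rintro _ ⟨f, hf, rfl⟩
    obtain ⟨m, hm⟩ := Nat.exists_eq_add_of_le hq2
    have : f ^ p ^ n = f * f ^ (1 + m) := by rw [hm, ← pow_succ']; congr 1; omega
    show f ^ p ^ n ∈ I * I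
    rw [this]
    exact Ideal.mul_mem_mul hf (Ideal.pow_mem_of_mem I hf _ (by omega))
  · intro hred
    apply le_antisymm hle
    intro g hg
    obtain ⟨f, hf⟩ := exists_root k p A n g
    have hfI : f ∈ I := by
      rw [hI, RingHom.mem_ker]
      have h1 : (Bialgebra.counitAlgHom k A) g = 0 := hg
      rw [← hf, map_pow] at h1
      exact eq_zero_of_pow_eq_zero h1
    exact Ideal.subset_span ⟨f, hfI, hf⟩

end frob

end Groth.Agent.Helper8.FrobKerRed
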