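import Mathlib
import Groth.Agent.Helper8.FrobKerRed
import Groth.Prelude.Def_HopfRep
import Groth.Prelude.Def_GLin

set_option autoImplicit false
universe u v w w'

namespace Groth.Agent.Helper8.HopfNorm

open TensorProduct

section matmap
variable {k : Type u} [CommRing k] {A : Type v} [CommRing A] [Algebra k A]
  {ι : Type*} [Fintype ι] [DecidableEq ι] (b : Module.Basis ι k A)
  {R : Type w} [CommRing R] [Algebra k R] {T : Type w'} [CommRing T] [Algebra k T]

/-- matrices of left multiplication are compatible with base change of the coefficient ring -/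
theorem leftMulMatrix_map (φ : R →ₐ[k] T) (y : R ⊗[k] A) :
    Algebra.leftMulMatrix (Algebra.TensorProduct.basis T b)
      (Algebra.TensorProduct.map φ (AlgHom.id k A) y) =
    (Algebra.leftMulMatrix (Algebra.TensorProduct.basis R b) y).map φ := by
  set bR := Algebra.TensorProduct.basis R b with hbR
  set bT := Algebra.TensorProduct.basis T b with hbT
  set Φ := Algebra.TensorProduct.map φ (AlgHom.id k A) with hΦ
  set M := Algebra.leftMulMatrix bR y with hM
  ext i j
  rw [Algebra.leftMulMatrix_eq_repr_mul, Matrix.map_apply]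
  have h1 : y * bR j = ∑ i, M i j • bR i := by
    rw [← bR.sum_repr (y * bR j)]
    apply Finset.sum_congr rfl
    intro i _
    rw [hM, Algebra.leftMulMatrix_eq_repr_mul]
  have hΦb : ∀ i, Φ (bR i) = bT i := by
    intro i
    rw [hbR, hbT, Algebra.TensorProduct.basis_apply, Algebra.TensorProduct.basis_apply, hΦ,
      Algebra.TensorProduct.map_tmul, map_one, AlgHom.id_apply]
  have hΦs : ∀ (r : R) i, Φ (r • bR i) = φ r • bT i := by
    intro r i
    rw [hbR, hbT, Algebra.TensorProduct.basis_repr_symm_apply', Algebra.TensorProduct.basis_repr_symm_apply',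
      hΦ, Algebra.TensorProduct.map_tmul, AlgHom.id_apply]
  have h2 : Φ y * bT j = ∑ i, φ (M i j) • bT i := by
    rw [← hΦb, ← map_mul, h1, map_sum]
    apply Finset.sum_congr rfl
    intro i _
    exact hΦs _ _
  rw [h2, map_sum, Finset.sum_apply']
  simp only [map_smul, Module.Basis.repr_self, Finsupp.smul_apply, Finsupp.single_apply, smul_eq_mul,
    mul_ite, mul_one, mul_zero]
  rw [Finset.sum_ite_eq' Finset.univ i]
  simp

end matmap

open Groth.Agent.Helper8.FrobKerRed

section shear
variable (k : Type u) [Field k] (A : Type v) [CommRing A] [HopfAlgebra k A]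
  (T : Type w) [CommRing T] [Algebra k T] (j : A →ₐ[k] T)

/-- the `T`-algebra endomorphism `t ⊗ b ↦ Σ t j(b₁) ⊗ b₂` of `T ⊗ A` -/
noncomputable def sigma : T ⊗[k] A →ₐ[T] T ⊗[k] A :=
  Algebra.TensorProduct.lift (Algebra.ofId T (T ⊗[k] A))
    ((Algebra.TensorProduct.map j (AlgHom.id k A)).comp (Bialgebra.comulAlgHom k A))
    (fun _ _ => Commute.all _ _)

theorem sigma_tmul (t : T) (b : A) :
    sigma k A T j (t ⊗ₜ[k] b) =
      (t ⊗ₜ[k] (1 : A)) * Algebra.TensorProduct.map j (AlgHom.id k A) (Coalgebra.comul (R := k) b) := by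
  rw [sigma, Algebra.TensorProduct.lift_tmul]
  rfl

theorem sigma_map (w : A ⊗[k] A) :
    sigma k A T j (Algebra.TensorProduct.map j (AlgHom.id k A) w) =
      Algebra.TensorProduct.map j (AlgHom.id k A) (psi' k A w) := by
  induction w using TensorProduct.induction_on with
  | zero => simp
  | tmul a b =>
    rw [Algebra.TensorProduct.map_tmul, sigma_tmul, psi', Algebra.TensorProduct.lift_tmul, map_mul]
    congr 1
  | add x y hx hy => rw [map_add, map_add, hx, hy, map_add, map_add]

variable [Module.Finite k A]

theorem psi'_surjective : Function.Surjective (psi' k A) := by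
  have hinj : Function.Injective (psi' k A).toLinearMap := by
    intro x y h
    have := congrArg (psi k A) h
    simp only [AlgHom.toLinearMap_apply] at this
    rwa [psi_psi', psi_psi'] at this
  exact LinearMap.surjective_of_injective hinj

theorem sigma_surjective : Function.Surjective (sigma k A T j) := by
  have hrange : LinearMap.range (sigma k A T j).toLinearMap = ⊤ := by
    rw [eq_top_iff]
    rintro x -
    induction x using TensorProduct.induction_on with
    | zero => exact Submodule.zero_mem _
    | tmul t b =>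
      obtain ⟨w, hw⟩ := psi'_surjective k A ((1 : A) ⊗ₜ[k] b)
      have h1 : sigma k A T j (Algebra.TensorProduct.map j (AlgHom.id k A) w) = (1 : T) ⊗ₜ[k] b := by
        rw [sigma_map, hw, Algebra.TensorProduct.map_tmul, map_one, AlgHom.id_apply]
      have h2 : t ⊗ₜ[k] b = t • ((1 : T) ⊗ₜ[k] b) := by
        rw [TensorProduct.smul_tmul', smul_eq_mul, mul_one]
      rw [h2]
      apply Submodule.smul_mem
      exact ⟨_, h1⟩
    | add x y hx hy => exact Submodule.add_mem _ hx hy
  intro x
  have : x ∈ LinearMap.range (sigma k A T j).toLinearMap := by rw [hrange]; trivial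
  exact this

theorem sigma_bijective : Function.Bijective (sigma k A T j) := by
  refine ⟨?_, sigma_surjective k A T j⟩
  exact OrzechProperty.injective_of_surjective_endomorphism (sigma k A T j).toLinearMap
    (sigma_surjective k A T j)

end shear

section main
variable (k : Type u) [Field k] (A : Type v) [CommRing A] [HopfAlgebra k A] [Module.Finite k A]
  (R : Type w) [CommRing R] [Algebra k R] [HopfRep.Comod k A R] [GLin.IsCoactAlg k A R]

/-- the characteristic polynomial of `ρ x` acting on `R ⊗ A` over `R` -/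
noncomputable def chi (x : R) : Polynomial R :=
  (Algebra.leftMulMatrix (Algebra.TensorProduct.basis R (Module.finBasis k A))
    (GLin.coactAlgHom k A R x)).charpoly

theorem chi_monic (x : R) : (chi k A R x).Monic := Matrix.charpoly_monic _

/-- `r ⊗ a ↦ ε(a) r` -/
noncomputable def eta : R ⊗[k] A →ₐ[R] R :=
  Algebra.TensorProduct.lift (AlgHom.id R R) ((Algebra.ofId k R).comp (Bialgebra.counitAlgHom k A))
    (fun _ _ => Commute.all _ _)

theorem eta_apply (t : R ⊗[k] A) :
    eta k A R t = TensorProduct.rid k R ((Coalgebra.counit (R := k) (A := A)).lTensor R t) := by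
  induction t using TensorProduct.induction_on with
  | zero => simp
  | tmul r a =>
    rw [eta, Algebra.TensorProduct.lift_tmul, LinearMap.lTensor_tmul, TensorProduct.rid_tmul]
    simp only [AlgHom.id_apply, AlgHom.comp_apply, Algebra.ofId_apply, Bialgebra.counitAlgHom_apply]
    rw [Algebra.smul_def, mul_comm]
  | add x y hx hy => rw [map_add, hx, hy, map_add, map_add]

theorem eta_coact (x : R) : eta k A R (GLin.coactAlgHom k A R x) = x := by
  rw [eta_apply, GLin.coactAlgHom_apply]
  have h := LinearMap.congr_fun (HopfRep.Comod.counit_comp (k := k) (A := A) (V := R)) x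
  simp only [LinearMap.comp_apply] at h
  rw [h]
  simp

theorem aeval_chi (x : R) : Polynomial.aeval x (chi k A R x) = 0 := by
  set bR := Algebra.TensorProduct.basis R (Module.finBasis k A) with hbR
  set y := GLin.coactAlgHom k A R x with hy
  have h1 : Polynomial.aeval (Algebra.leftMulMatrix bR y) (chi k A R x) = 0 :=
    Matrix.aeval_self_charpoly _
  rw [Polynomial.aeval_algHom_apply] at h1
  have h2 : Polynomial.aeval y (chi k A R x) = 0 :=
    Algebra.leftMulMatrix_injective bR (by rw [h1, map_zero])
  have h3 := congrArg (eta k A R) h2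
  rw [← Polynomial.aeval_algHom_apply, map_zero, hy, eta_coact] at h3
  exact h3

end main

section main2
variable (k : Type u) [Field k] (A : Type v) [CommRing A] [HopfAlgebra k A] [Module.Finite k A]
  (R : Type w) [CommRing R] [Algebra k R] [HopfRep.Comod k A R] [GLin.IsCoactAlg k A R]

/-- `j : A → R ⊗ A` -/
noncomputable abbrev jj : A →ₐ[k] R ⊗[k] A := Algebra.TensorProduct.includeRight

/-- `ι : R → R ⊗ A` -/
noncomputable abbrev ii : R →ₐ[k] R ⊗[k] A := Algebra.TensorProduct.includeLeft

omit [Module.Finite k A] [HopfRep.Comod k A R] [GLin.IsCoactAlg k A R] in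
theorem sigma_ii (t : R ⊗[k] A) :
    sigma k A (R ⊗[k] A) (jj k A R) (Algebra.TensorProduct.map (ii k A R) (AlgHom.id k A) t) =
      (TensorProduct.assoc k R A A).symm ((Coalgebra.comul (R := k) (A := A)).lTensor R t) := by
  have sub : ∀ (r : R) (s : A ⊗[k] A),
      ((r ⊗ₜ[k] (1 : A)) ⊗ₜ[k] (1 : A) : (R ⊗[k] A) ⊗[k] A) *
        Algebra.TensorProduct.map (jj k A R) (AlgHom.id k A) s =
      (TensorProduct.assoc k R A A).symm (r ⊗ₜ[k] s) := by
    intro r s
    induction s using TensorProduct.induction_on with
    | zero => simp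
    | tmul a₁ a₂ =>
      rw [Algebra.TensorProduct.map_tmul, TensorProduct.assoc_symm_tmul, AlgHom.id_apply]
      show ((r ⊗ₜ[k] (1 : A)) ⊗ₜ[k] (1 : A) : (R ⊗[k] A) ⊗[k] A) * (((1 : R) ⊗ₜ[k] a₁) ⊗ₜ[k] a₂) = _
      rw [Algebra.TensorProduct.tmul_mul_tmul, Algebra.TensorProduct.tmul_mul_tmul, one_mul, one_mul,
        mul_one]
    | add x y hx hy => rw [map_add, mul_add, hx, hy, TensorProduct.tmul_add, map_add]
  induction t using TensorProduct.induction_on with
  | zero => simp
  | tmul r a =>
    rw [Algebra.TensorProduct.map_tmul, AlgHom.id_apply, sigma_tmul, LinearMap.lTensor_tmul]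
    exact sub r _
  | add x y hx hy => simp only [map_add, hx, hy]

omit [Module.Finite k A] in
theorem map_coact_coact (x : R) :
    Algebra.TensorProduct.map (GLin.coactAlgHom k A R) (AlgHom.id k A) (GLin.coactAlgHom k A R x) =
      (TensorProduct.assoc k R A A).symm ((Coalgebra.comul (R := k) (A := A)).lTensor R
        (GLin.coactAlgHom k A R x)) := by
  have h := LinearMap.congr_fun (HopfRep.Comod.coassoc (k := k) (A := A) (V := R)) x
  simp only [LinearMap.comp_apply, LinearEquiv.coe_coe] at h
  rw [GLin.coactAlgHom_apply, ← h, LinearEquiv.symm_apply_apply]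
  have : ∀ t : R ⊗[k] A, Algebra.TensorProduct.map (GLin.coactAlgHom k A R) (AlgHom.id k A) t =
      (HopfRep.Comod.coact (k := k) (A := A) (V := R)).rTensor A t := by
    intro t
    induction t using TensorProduct.induction_on with
    | zero => simp
    | tmul r a => simp
    | add x y hx hy => simp only [map_add, hx, hy]
  exact this _

theorem charpoly_sigma (z : (R ⊗[k] A) ⊗[k] A) :
    (Algebra.leftMulMatrix (Algebra.TensorProduct.basis (R ⊗[k] A) (Module.finBasis k A))
      (sigma k A (R ⊗[k] A) (jj k A R) z)).charpoly =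
    (Algebra.leftMulMatrix (Algebra.TensorProduct.basis (R ⊗[k] A) (Module.finBasis k A)) z).charpoly := by
  set σ := sigma k A (R ⊗[k] A) (jj k A R) with hσ
  let e : ((R ⊗[k] A) ⊗[k] A) ≃ₗ[R ⊗[k] A] ((R ⊗[k] A) ⊗[k] A) :=
    LinearEquiv.ofBijective σ.toLinearMap (sigma_bijective k A (R ⊗[k] A) (jj k A R))
  have he : ∀ u, e u = σ u := fun u => rfl
  rw [Algebra.leftMulMatrix_apply, Algebra.leftMulMatrix_apply, LinearMap.charpoly_toMatrix,
    LinearMap.charpoly_toMatrix]
  have hconj : Algebra.lmul (R ⊗[k] A) ((R ⊗[k] A) ⊗[k] A) (σ z) =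
      e.conj (Algebra.lmul (R ⊗[k] A) ((R ⊗[k] A) ⊗[k] A) z) := by
    apply LinearMap.ext
    intro u
    rw [LinearEquiv.conj_apply_apply, he]
    simp only [Algebra.coe_lmul_eq_mul, LinearMap.mul_apply', map_mul]
    congr 1
    rw [← he, LinearEquiv.apply_symm_apply]
  rw [hconj, LinearEquiv.charpoly_conj]

theorem coeff_chi_mem (x : R) (n : ℕ) : (chi k A R x).coeff n ∈ GLin.invariants k A R := by
  have h1 : (chi k A R x).map (GLin.coactAlgHom k A R : R →+* R ⊗[k] A) =
      (chi k A R x).map (ii k A R : R →+* R ⊗[k] A) := by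
    unfold chi
    rw [← Matrix.charpoly_map, ← Matrix.charpoly_map]
    have e1 := leftMulMatrix_map (Module.finBasis k A) (GLin.coactAlgHom k A R) (GLin.coactAlgHom k A R x)
    have e2 := leftMulMatrix_map (Module.finBasis k A) (ii k A R) (GLin.coactAlgHom k A R x)
    have e1' : (Algebra.leftMulMatrix (Algebra.TensorProduct.basis R (Module.finBasis k A))
        (GLin.coactAlgHom k A R x)).map ⇑(GLin.coactAlgHom k A R : R →+* R ⊗[k] A) = _ := e1.symm
    have e2' : (Algebra.leftMulMatrix (Algebra.TensorProduct.basis R (Module.finBasis k A))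
        (GLin.coactAlgHom k A R x)).map ⇑(ii k A R : R →+* R ⊗[k] A) = _ := e2.symm
    rw [e1', e2', map_coact_coact, ← sigma_ii, charpoly_sigma]
  rw [GLin.mem_invariants_iff]
  have h2 := congrArg (fun p => p.coeff n) h1
  simp only [Polynomial.coeff_map] at h2
  exact h2

end main2

theorem main (k : Type u) [Field k] (A : Type v) [CommRing A] [HopfAlgebra k A] [Module.Finite k A]
    (R : Type w) [CommRing R] [Algebra k R] [Algebra.FiniteType k R]
    [HopfRep.Comod k A R] [GLin.IsCoactAlg k A R] :
    Algebra.FiniteType k ↥(GLin.invariants k A R) ∧ Module.Finite ↥(GLin.invariants k A R) R := by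
  have hint : Algebra.IsIntegral ↥(GLin.invariants k A R) R := ⟨fun x => by
    rcases subsingleton_or_nontrivial R with hs | hn
    · exact ⟨1, Polynomial.monic_one, Subsingleton.elim _ _⟩
    have hl : chi k A R x ∈ Polynomial.lifts (algebraMap ↥(GLin.invariants k A R) R) := by
      rw [Polynomial.lifts_iff_coeff_lifts]
      intro n
      exact ⟨⟨_, coeff_chi_mem k A R x n⟩, rfl⟩
    obtain ⟨q, hq, -, hqm⟩ := Polynomial.lifts_and_degree_eq_and_monic hl (chi_monic k A R x)
    refine ⟨q, hqm, ?_⟩
    rw [← Polynomial.eval_map, hq]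
    have := aeval_chi k A R x
    rwa [Polynomial.coe_aeval_eq_eval] at this⟩
  haveI : Algebra.FiniteType ↥(GLin.invariants k A R) R :=
    Algebra.FiniteType.of_restrictScalars_finiteType k ↥(GLin.invariants k A R) R
  haveI : Module.Finite ↥(GLin.invariants k A R) R := Algebra.IsIntegral.finite
  refine ⟨⟨?_⟩, inferInstance⟩
  exact fg_of_fg_of_fg k ↥(GLin.invariants k A R) R (Algebra.FiniteType.out) (Module.Finite.fg_top)
    Subtype.val_injective

end Groth.Agent.Helper8.HopfNorm
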