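import Mathlib
import Groth.Prelude.Def_AlgGrp
import Groth.Agent.Helper1.EtRed

set_option autoImplicit false
set_option linter.style.haveILetI false
universe u

namespace Groth.Agent.Helper8.StabPts

open CategoryTheory CategoryTheory.Limits AlgebraicGeometry TopologicalSpace Topology
open MonoidalCategory CartesianMonoidalCategory MonObj

/-- A scheme smooth over a reduced scheme is reduced (as in `Helper5.RedDesc`). -/
theorem isReduced_of_smooth {A B : Scheme.{u}} (g : A ⟶ B) [Smooth g] [IsReduced B] :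
    IsReduced A := by
  have : ∀ x : A, _root_.IsReduced (A.presheaf.stalk x) := by
    intro x
    obtain ⟨_, ⟨V, hV, rfl⟩, hxV, -⟩ :=
      B.isBasis_affineOpens.exists_subset_of_mem_open (Set.mem_univ (g x)) isOpen_univ
    obtain ⟨_, ⟨U, hU, rfl⟩, hxU, hUV⟩ :=
      A.isBasis_affineOpens.exists_subset_of_mem_open (show x ∈ (g ⁻¹ᵁ V : Set A) from hxV)
        (g ⁻¹ᵁ V).isOpen
    have e : U ≤ g ⁻¹ᵁ V := hUV
    have hsm : (g.appLE V U e).hom.Smooth :=
      (HasRingHomProperty.iff_appLE (P := @Smooth)).1 inferInstance ⟨V, hV⟩ ⟨U, hU⟩ e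
    have hredV : _root_.IsReduced Γ(B, V) := inferInstance
    have hredU : _root_.IsReduced Γ(A, U) := by
      algebraize [(g.appLE V U e).hom]
      exact Groth.Agent.Helper1.EtRed.isReduced_of_smooth Γ(B, V) Γ(A, U)
    let _ := TopCat.Presheaf.algebra_section_stalk A.presheaf (⟨x, hxU⟩ : U)
    have hloc := hU.isLocalization_stalk ⟨x, hxU⟩
    exact isReduced_localizationPreserves (hU.primeIdealOf ⟨x, hxU⟩).asIdeal.primeCompl _ hredU
  exact isReduced_of_isReduced_stalk A

/-- A morphism from a reduced scheme landing set-theoretically in a closed subscheme factors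
through it. -/
theorem lift_of_reduced {T Z G : Scheme.{u}} [IsReduced T] (z : Z ⟶ G) [IsClosedImmersion z]
    (φ : T ⟶ G) (h : Set.range φ.base ⊆ Set.range z.base) : ∃ ψ : T ⟶ Z, ψ ≫ z = φ := by
  let p := pullback.fst φ z
  haveI : IsClosedImmersion p := inferInstance
  haveI : AlgebraicGeometry.Surjective p := ⟨fun t => by
    obtain ⟨w, hw⟩ := h ⟨t, rfl⟩
    obtain ⟨a, ha, -⟩ := Scheme.Pullback.exists_preimage_pullback t w hw.symm
    exact ⟨a, ha⟩⟩
  haveI : IsIso p := isIso_of_isClosedImmersion_of_surjective p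
  refine ⟨inv p ≫ pullback.snd φ z, ?_⟩
  rw [Category.assoc, ← pullback.condition, IsIso.inv_hom_id_assoc]

/-- every nonempty open of a scheme locally of finite type over `k` contains a `K`-point, for `K`
an algebraically closed extension of `k`. -/
theorem exists_point_mem (k K : Type u) [Field k] [Field K] [Algebra k K] [IsAlgClosed K]
    {W : Scheme.{u}} (g : W ⟶ Spec (CommRingCat.of k)) [LocallyOfFiniteType g]
    (O : W.Opens) (hO : (O : Set W).Nonempty) :
    ∃ y : Spec (CommRingCat.of K) ⟶ W,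
      y ≫ g = Spec.map (CommRingCat.ofHom (algebraMap k K)) ∧
      y.base (IsLocalRing.closedPoint K) ∈ O := by
  haveI : JacobsonSpace W := LocallyOfFiniteType.jacobsonSpace g
  obtain ⟨w, hwO, hwcl⟩ : ∃ w ∈ (O : Set W), IsClosed ({w} : Set W) := by
    have h1 := JacobsonSpace.closure_inter_closedPoints_eq_closure O.isOpen.isLocallyClosed
    have h2 : ((O : Set W) ∩ closedPoints W).Nonempty := by
      by_contra h
      rw [Set.not_nonempty_iff_eq_empty] at h
      rw [h, closure_empty] at h1
      obtain ⟨z, hz⟩ := hO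
      have : z ∈ closure (O : Set W) := subset_closure hz
      rw [← h1] at this
      exact this
    obtain ⟨w, h3, h4⟩ := h2
    exact ⟨w, h3, h4⟩
  haveI := isClosed_singleton_iff_isClosedImmersion.mp hwcl
  have hfin : IsFinite (W.fromSpecResidueField w ≫ g) :=
    isFinite_iff_locallyOfFiniteType_of_jacobsonSpace.mpr inferInstance
  obtain ⟨φ, hφ⟩ := Spec.map_surjective (W.fromSpecResidueField w ≫ g)
  rw [← hφ, IsFinite.SpecMap_iff] at hfin
  letI : Algebra k (W.residueField w) := φ.hom.toAlgebra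
  haveI : Module.Finite k (W.residueField w) := hfin
  let τ : W.residueField w →ₐ[k] K := IsAlgClosed.lift
  refine ⟨Spec.map (CommRingCat.ofHom τ.toRingHom) ≫ W.fromSpecResidueField w, ?_, ?_⟩
  · rw [Category.assoc, ← hφ, ← Spec.map_comp]
    congr 1
    ext r
    exact τ.commutes r
  · rw [Scheme.Hom.comp_apply]
    have := W.fromSpecResidueField_apply w
      ((Spec.map (CommRingCat.ofHom τ.toRingHom)).base (IsLocalRing.closedPoint K))
    rw [this]
    exact hwO

theorem main (k K : Type u) [Field k] [Field K] [Algebra k K]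
    [IsAlgClosed K] (G X Y : Over (Spec (CommRingCat.of k))) [GrpObj G]
    [LocallyOfFiniteType G.hom] [Smooth G.hom] [LocallyOfFiniteType X.hom]
    [IsReduced Y.left] (c : Y ⟶ X) [IsClosedImmersion c.left] (a : AlgGrp.Action G X) :
    (∃ act' : G ⊗ Y ⟶ Y, act' ≫ c = (G ◁ c) ≫ a.act) ↔
      ∀ (g : Over.mk (Spec.map (CommRingCat.ofHom (algebraMap k K))) ⟶ G)
        (y : Over.mk (Spec.map (CommRingCat.ofHom (algebraMap k K))) ⟶ Y),
        ∃ y' : Over.mk (Spec.map (CommRingCat.ofHom (algebraMap k K))) ⟶ Y,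
          lift g (y ≫ c) ≫ a.act = y' ≫ c := by
  constructor
  · rintro ⟨act', h⟩ g y
    refine ⟨lift g y ≫ act', ?_⟩
    rw [Category.assoc, h, ← Category.assoc, lift_whiskerLeft]
  · intro h
    haveI : Smooth (snd G Y).left := by
      rw [Over.snd_left]
      infer_instance
    haveI : IsReduced (G ⊗ Y).left := isReduced_of_smooth (snd G Y).left
    let φ : G ⊗ Y ⟶ X := (G ◁ c) ≫ a.act
    haveI : LocallyOfFiniteType Y.hom := by
      rw [← Over.w c]
      infer_instance
    haveI : LocallyOfFiniteType (G ⊗ Y).hom := by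
      rw [Over.tensorObj_hom]
      infer_instance
    have hsub : Set.range φ.left.base ⊆ Set.range c.left.base := by
      rintro _ ⟨w, rfl⟩
      by_contra hw
      let O : (G ⊗ Y).left.Opens := ⟨(φ.left.base ⁻¹' Set.range c.left.base)ᶜ,
        (c.left.isClosedEmbedding.isClosed_range.preimage φ.left.continuous).isOpen_compl⟩
      obtain ⟨y, hy, hyO⟩ := exists_point_mem k K (G ⊗ Y).hom O ⟨w, hw⟩
      let yy : Over.mk (Spec.map (CommRingCat.ofHom (algebraMap k K))) ⟶ G ⊗ Y := Over.homMk y hy
      obtain ⟨y', hy'⟩ := h (yy ≫ fst G Y) (yy ≫ snd G Y)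
      apply hyO
      show φ.left.base (y.base (IsLocalRing.closedPoint K)) ∈ Set.range c.left.base
      refine ⟨y'.left.base (IsLocalRing.closedPoint K), ?_⟩
      have h0 : yy ≫ φ = y' ≫ c := by
        rw [← hy']
        change yy ≫ (G ◁ c) ≫ a.act = _
        rw [← Category.assoc]
        congr 1
        apply CartesianMonoidalCategory.hom_ext <;> simp
      have h1 : y'.left ≫ c.left = y ≫ φ.left := congr(($h0).left).symm
      rw [← Scheme.Hom.comp_apply, h1, Scheme.Hom.comp_apply]
    obtain ⟨ψ, hψ⟩ := lift_of_reduced c.left φ.left hsub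
    refine ⟨Over.homMk ψ ?_, ?_⟩
    · rw [← Over.w c, ← Category.assoc, hψ, Over.w φ]
    · ext
      exact hψ

end Groth.Agent.Helper8.StabPts
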