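import Groth.Agent.Helper8.NGC2
import Groth.Agent.Helper8.StabPts
import Groth.Agent.Helper3.ConnProd
import Groth.Agent.Helper4.SN42
import Groth.Agent.Helper5.SecCompC
import Groth.Agent.Helper5.SecCompH
import Groth.Agent.Helper5.SecNbK

/-!
# A proper smooth morphism with a section and connected source has geometrically integral fibres

Let `f : X ⟶ S` be proper, flat, finitely presented with geometrically reduced fibres, and let
`σ` be a section.  The union `X°` of the connected components of the fibres meeting the section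
is open (helper5's `SecNb.s1327`) and locally constructible (`SecComp.s1326`).  We show that it
is stable under specialization by base changing to a valuation ring with algebraically closed
fraction field (where connected components of the total space have geometrically connected
fibres, `NGC.geometricallyConnected_of_connected`); hence `X°` is clopen.  If `X` is connected,
`X° = X`, i.e. all fibres are connected, hence geometrically connected (they have a rational
point).  For smooth `f` the geometric fibres are then connected and regular, so integral.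
-/

set_option autoImplicit false
set_option linter.style.haveILetI false
set_option linter.unusedSectionVars false
set_option linter.unusedVariables false

universe u

open CategoryTheory CategoryTheory.Limits AlgebraicGeometry Topology TopologicalSpace

namespace Groth.Agent.Helper8.NGC

/-! ## Topology -/

theorem finite_cc_of_noetherianSpace (X : Type*) [TopologicalSpace X] [NoetherianSpace X] :
    Finite (_root_.ConnectedComponents X) := by
  have hfin : (irreducibleComponents X).Finite := NoetherianSpace.finite_irreducibleComponents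
  haveI : Finite ↥(irreducibleComponents X) := hfin.to_subtype
  let φ : ↥(irreducibleComponents X) → _root_.ConnectedComponents X := fun Z =>
    ConnectedComponents.mk (Z.2.prop.nonempty.some)
  apply Finite.of_surjective φ
  intro c
  obtain ⟨x, rfl⟩ := ConnectedComponents.surjective_coe c
  refine ⟨⟨irreducibleComponent x, irreducibleComponent_mem_irreducibleComponents x⟩, ?_⟩
  apply ConnectedComponents.coe_eq_coe'.mpr
  exact irreducibleComponent_subset_connectedComponent (Set.Nonempty.some_mem _)

theorem isLocallyConstructible_compl {X : Type*} [TopologicalSpace X] {s : Set X}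
    (hs : IsLocallyConstructible s) : IsLocallyConstructible sᶜ := by
  intro x
  obtain ⟨U, hU, hUo, hc⟩ := hs x
  refine ⟨U, hU, hUo, ?_⟩
  have h1 : (Subtype.val ⁻¹' sᶜ : Set ↥U) = (Subtype.val ⁻¹' s : Set ↥U)ᶜ := rfl
  rw [h1]
  exact hc.compl

section Val

variable {Ω : Type u} [Field Ω] [IsAlgClosed Ω] (V : ValuationSubring Ω)

theorem finite_cc_closedFibre {Y : Scheme.{u}} (g : Y ⟶ Spec (CommRingCat.of ↥V))
    [IsProper g] :
    Finite (_root_.ConnectedComponents ↥(pullback g (ιk V))) := by
  letI : Field (↥V ⧸ IsLocalRing.maximalIdeal ↥V) := Ideal.Quotient.field _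
  haveI : IsLocallyNoetherian (pullback g (ιk V)) := inferInstance
  haveI : IsProper (pullback.snd g (ιk V)) :=
    MorphismProperty.pullback_snd (P := @IsProper) g (ιk V) inferInstance
  haveI : CompactSpace ↥(pullback g (ιk V)) :=
    QuasiCompact.compactSpace_of_compactSpace (pullback.snd g (ιk V))
  haveI : IsNoetherian (pullback g (ιk V)) := {}
  exact finite_cc_of_noetherianSpace _

theorem finite_cc_total {Y : Scheme.{u}} (g : Y ⟶ Spec (CommRingCat.of ↥V)) [IsProper g] :
    Finite (_root_.ConnectedComponents ↥Y) := by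
  have hfin := finite_cc_closedFibre V g
  have h1 : ENat.card (_root_.ConnectedComponents ↥Y) ≤
      ENat.card (_root_.ConnectedComponents ↥(pullback g (ιk V))) := by
    apply card_cc_le_of_meets (pullback.fst g (ιk V)).continuous
    intro y
    have hcl : IsClosed (g '' connectedComponent y) :=
      g.isClosedMap _ isClosed_connectedComponent
    obtain ⟨c, hc, hgc⟩ := closedPoint_mem_of_isClosed V hcl
      ⟨g y, y, mem_connectedComponent, rfl⟩
    obtain ⟨x₀⟩ := nonempty_Spec_k V
    obtain ⟨w, hw, -⟩ := Scheme.Pullback.exists_preimage_pullback (f := g) (g := ιk V) c x₀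
      (hgc.trans (ιk_apply V x₀).symm)
    exact ⟨w, hw ▸ hc⟩
  exact ENat.card_lt_top.mp (lt_of_le_of_lt h1 (ENat.card_lt_top.mpr hfin))

/-- every connected component of the total space is clopen with geometrically connected fibres -/
theorem exists_component {Y : Scheme.{u}} (g : Y ⟶ Spec (CommRingCat.of ↥V))
    [IsProper g] [Flat g] [LocallyOfFinitePresentation g] [GeometricallyReduced g] (y : Y) :
    ∃ U : Y.Opens, (U : Set Y) = connectedComponent y ∧
      GeometricallyConnected (U.ι ≫ g) := by
  haveI := finite_cc_total V g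
  have hclopen := isClopen_connectedComponent_of_finite y
  let U : Y.Opens := ⟨connectedComponent y, hclopen.isOpen⟩
  haveI : IsClosedImmersion U.ι := IsClosedImmersion.of_isPreimmersion _ (by
    rw [Scheme.Opens.range_ι]
    exact hclopen.isClosed)
  haveI : ConnectedSpace ↥(U : Scheme.{u}) :=
    isConnected_iff_connectedSpace.mp isConnected_connectedComponent
  haveI : GeometricallyReduced (U.ι ≫ g) := geometricallyReduced_comp_of_isOpenImmersion U.ι g
  exact ⟨U, rfl, geometricallyConnected_of_connected V (U.ι ≫ g)⟩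

/-- over a valuation ring with algebraically closed fraction field, a second section which meets
the section components somewhere meets them at the closed point -/
theorem mem_sectionComponents_closedPoint {Y : Scheme.{u}} (g : Y ⟶ Spec (CommRingCat.of ↥V))
    [IsProper g] [Flat g] [LocallyOfFinitePresentation g] [GeometricallyReduced g]
    (σ τ : Spec (CommRingCat.of ↥V) ⟶ Y) (hσ : σ ≫ g = 𝟙 _) (hτ : τ ≫ g = 𝟙 _)
    (b : ↥(Spec (CommRingCat.of ↥V))) (hb : τ b ∈ MoreMor.sectionComponents g σ) :
    τ (IsLocalRing.closedPoint ↥V) ∈ MoreMor.sectionComponents g σ := by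
  have hgσ : ∀ x, g (σ x) = x := fun x => by
    rw [← Scheme.Hom.comp_apply, hσ]; rfl
  have hgτ : ∀ x, g (τ x) = x := fun x => by
    rw [← Scheme.Hom.comp_apply, hτ]; rfl
  obtain ⟨U, hU, hUgc⟩ := exists_component V g (σ (IsLocalRing.closedPoint ↥V))
  have hbc : b ⤳ IsLocalRing.closedPoint ↥V := IsLocalRing.specializes_closedPoint b
  have h1 : σ b ∈ connectedComponent (σ (IsLocalRing.closedPoint ↥V)) := by
    have hsp : σ b ⤳ σ (IsLocalRing.closedPoint ↥V) := hbc.map σ.continuous
    have hpre : _root_.IsPreconnected (closure {σ b}) := isPreconnected_singleton.closure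
    have hmem : σ (IsLocalRing.closedPoint ↥V) ∈ closure {σ b} :=
      specializes_iff_mem_closure.mp hsp
    exact hpre.subset_connectedComponent hmem (subset_closure rfl)
  have h2 : τ b ∈ connectedComponent (σ (IsLocalRing.closedPoint ↥V)) := by
    have hb' : τ b ∈ connectedComponentIn (g ⁻¹' {b}) (σ b) := by
      have hb1 : τ b ∈ connectedComponentIn (g ⁻¹' {g (τ b)}) (σ (g (τ b))) := hb
      rwa [hgτ b] at hb1
    have hpre : _root_.IsPreconnected (connectedComponentIn (g ⁻¹' {b}) (σ b)) :=
      isPreconnected_connectedComponentIn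
    have hσb : σ b ∈ connectedComponentIn (g ⁻¹' {b}) (σ b) :=
      mem_connectedComponentIn (hgσ b)
    rw [connectedComponent_eq h1]
    exact hpre.subset_connectedComponent hσb hb'
  have h3 : τ (IsLocalRing.closedPoint ↥V) ∈
      connectedComponent (σ (IsLocalRing.closedPoint ↥V)) := by
    have hsp : τ b ⤳ τ (IsLocalRing.closedPoint ↥V) := hbc.map τ.continuous
    exact hsp.mem_closed isClosed_connectedComponent h2
  have h4 : _root_.IsPreconnected (connectedComponent (σ (IsLocalRing.closedPoint ↥V)) ∩
      g ⁻¹' {IsLocalRing.closedPoint ↥V}) := by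
    have hconn : _root_.IsConnected ((U.ι ≫ g) ⁻¹' {IsLocalRing.closedPoint ↥V}) :=
      Scheme.Hom.isConnected_preimage_singleton (U.ι ≫ g) _
    have himg : connectedComponent (σ (IsLocalRing.closedPoint ↥V)) ∩
        g ⁻¹' {IsLocalRing.closedPoint ↥V} =
        U.ι '' ((U.ι ≫ g) ⁻¹' {IsLocalRing.closedPoint ↥V}) := by
      ext x
      constructor
      · rintro ⟨hx1, hx2⟩
        have hxU : x ∈ (U : Set Y) := by rw [hU]; exact hx1
        refine ⟨⟨x, hxU⟩, ?_, rfl⟩
        show (U.ι ≫ g) ⟨x, hxU⟩ = IsLocalRing.closedPoint ↥V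
        rw [Scheme.Hom.comp_apply]
        exact hx2
      · rintro ⟨w, hw, rfl⟩
        refine ⟨?_, ?_⟩
        · rw [← hU]
          exact w.2
        · have hw' : (U.ι ≫ g) w = IsLocalRing.closedPoint ↥V := hw
          rw [Scheme.Hom.comp_apply] at hw'
          exact hw'
    rw [himg]
    exact (hconn.image _ U.ι.continuous.continuousOn).isPreconnected
  show τ (IsLocalRing.closedPoint ↥V) ∈
    connectedComponentIn (g ⁻¹' {g (τ (IsLocalRing.closedPoint ↥V))})
      (σ (g (τ (IsLocalRing.closedPoint ↥V))))
  rw [hgτ]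
  have hsub := h4.subset_connectedComponentIn
    (x := σ (IsLocalRing.closedPoint ↥V)) (F := g ⁻¹' {IsLocalRing.closedPoint ↥V})
    ⟨mem_connectedComponent, hgσ _⟩ Set.inter_subset_right
  exact hsub ⟨h3, hgτ _⟩

end Val

/-! ## Section components are stable under specialization -/

theorem specializes_mem_sectionComponents {X S : Scheme.{u}} (f : X ⟶ S) [IsProper f] [Flat f]
    [LocallyOfFinitePresentation f] [GeometricallyReduced f] (σ : S ⟶ X) (hσ : σ ≫ f = 𝟙 S)
    {x' x : X} (h : x' ⤳ x) (hx' : x' ∈ MoreMor.sectionComponents f σ) :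
    x ∈ MoreMor.sectionComponents f σ := by
  obtain ⟨Ω, _, _, V, ψ, hψx, hψx'⟩ := exists_valuationRing_of_specializes h
  have hσV_cond : ((ψ ≫ f) ≫ σ) ≫ f = 𝟙 _ ≫ (ψ ≫ f) := by
    rw [Category.assoc (ψ ≫ f) σ f, hσ, Category.comp_id, Category.id_comp]
  have hτ_cond : ψ ≫ f = 𝟙 _ ≫ (ψ ≫ f) := by rw [Category.id_comp]
  let σV : Spec (CommRingCat.of ↥V) ⟶ pullback f (ψ ≫ f) :=
    pullback.lift ((ψ ≫ f) ≫ σ) (𝟙 _) hσV_cond
  let τ : Spec (CommRingCat.of ↥V) ⟶ pullback f (ψ ≫ f) := pullback.lift ψ (𝟙 _) hτ_cond
  have hσV : σV ≫ pullback.snd f (ψ ≫ f) = 𝟙 _ := pullback.lift_snd _ _ _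
  have hτ : τ ≫ pullback.snd f (ψ ≫ f) = 𝟙 _ := pullback.lift_snd _ _ _
  have hτfst : τ ≫ pullback.fst f (ψ ≫ f) = ψ := pullback.lift_fst _ _ _
  have key := Groth.Agent.Helper5.SecComp.s1324 f σ hσ (pullback.snd f (ψ ≫ f))
    (pullback.fst f (ψ ≫ f)) (ψ ≫ f) (IsPullback.of_hasPullback f (ψ ≫ f)) σV hσV
    (pullback.lift_fst _ _ _)
  have hb : τ (ιΩ V (IsLocalRing.closedPoint Ω)) ∈
      MoreMor.sectionComponents (pullback.snd f (ψ ≫ f)) σV := by
    rw [key]
    show (pullback.fst f (ψ ≫ f)) (τ (ιΩ V (IsLocalRing.closedPoint Ω))) ∈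
      MoreMor.sectionComponents f σ
    rw [← Scheme.Hom.comp_apply, hτfst]
    have h1 : ψ (ιΩ V (IsLocalRing.closedPoint Ω)) = x' := by
      rw [← Scheme.Hom.comp_apply]
      exact hψx'
    rw [h1]
    exact hx'
  have hc := mem_sectionComponents_closedPoint V (pullback.snd f (ψ ≫ f)) σV τ hσV hτ _ hb
  rw [key] at hc
  have h2 : (pullback.fst f (ψ ≫ f)) (τ (IsLocalRing.closedPoint ↥V)) = x := by
    rw [← Scheme.Hom.comp_apply, hτfst]
    exact hψx
  rw [← h2]
  exact hc

/-! ## Connected source: all fibres are connected -/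

theorem sectionComponents_eq_univ {X S : Scheme.{u}} (f : X ⟶ S) [IsProper f] [Flat f]
    [LocallyOfFinitePresentation f] [GeometricallyReduced f] [ConnectedSpace ↥X]
    (σ : S ⟶ X) (hσ : σ ≫ f = 𝟙 S) : MoreMor.sectionComponents f σ = Set.univ := by
  have hgσ : ∀ s, f (σ s) = s := fun s => by
    rw [← Scheme.Hom.comp_apply, hσ]; rfl
  have hopen : IsOpen (MoreMor.sectionComponents f σ) := by
    rw [← subset_interior_iff_isOpen]
    intro x hx
    have hy : GeometricallyReduced (f.fiberToSpecResidueField (f x)) := inferInstance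
    exact Groth.Agent.Helper5.SecNb.s1327 f σ hσ (f x) hy hx
  have hcl : IsClosed (MoreMor.sectionComponents f σ) := by
    rw [← isOpen_compl_iff]
    apply isOpen_of_isLocallyConstructible (S := X)
    · have hlc : IsLocallyConstructible (MoreMor.sectionComponents f σ) :=
        Groth.Agent.Helper5.SecComp.s1326 f σ hσ
      exact isLocallyConstructible_compl hlc
    · intro x x' h hx hx'
      exact hx (specializes_mem_sectionComponents f σ hσ h hx')
  have hne : (MoreMor.sectionComponents f σ).Nonempty := by
    obtain ⟨x⟩ := (inferInstance : Nonempty ↥X)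
    refine ⟨σ (f x), ?_⟩
    show σ (f x) ∈ connectedComponentIn (f ⁻¹' {f (σ (f x))}) (σ (f (σ (f x))))
    rw [hgσ]
    exact mem_connectedComponentIn (hgσ _)
  exact IsClopen.eq_univ ⟨hcl, hopen⟩ hne

theorem connectedSpace_fiber {X S : Scheme.{u}} (f : X ⟶ S) [IsProper f] [Flat f]
    [LocallyOfFinitePresentation f] [GeometricallyReduced f] [ConnectedSpace ↥X]
    (σ : S ⟶ X) (hσ : σ ≫ f = 𝟙 S) (s : S) : ConnectedSpace ↥(f.fiber s) := by
  have hgσ : ∀ s, f (σ s) = s := fun s => by
    rw [← Scheme.Hom.comp_apply, hσ]; rfl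
  have huniv := sectionComponents_eq_univ f σ hσ
  have hfib : f ⁻¹' {s} ⊆ connectedComponentIn (f ⁻¹' {s}) (σ s) := by
    intro x hx
    have hxE : x ∈ MoreMor.sectionComponents f σ := huniv ▸ Set.mem_univ x
    have hfx : f x = s := hx
    have h1 : x ∈ connectedComponentIn (f ⁻¹' {f x}) (σ (f x)) := hxE
    rwa [hfx] at h1
  have heq : connectedComponentIn (f ⁻¹' {s}) (σ s) = f ⁻¹' {s} :=
    Set.Subset.antisymm (connectedComponentIn_subset _ _) hfib
  have hconn : _root_.IsConnected (f ⁻¹' {s}) := by
    rw [← heq]
    exact isConnected_connectedComponentIn_iff.mpr (hgσ s)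
  haveI : ConnectedSpace ↥(f ⁻¹' {s}) := isConnected_iff_connectedSpace.mp hconn
  exact (f.fiberHomeo s).symm.surjective.connectedSpace (f.fiberHomeo s).symm.continuous

/-! ## The smooth case -/

/-- a smooth morphism is geometrically reduced -/
theorem geometricallyReduced_of_smooth {X S : Scheme.{u}} (f : X ⟶ S) [Smooth f] :
    GeometricallyReduced f := by
  refine ⟨fun K _ y Z fst snd h => ?_⟩
  haveI : Smooth snd := MorphismProperty.of_isPullback (P := @Smooth) h inferInstance
  exact Groth.Agent.Helper8.StabPts.isReduced_of_smooth snd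

/-- connected fibres and a section give geometrically connected fibres -/
theorem geometricallyConnected_of_section {X S : Scheme.{u}} (f : X ⟶ S) (e : S ⟶ X)
    (he : e ≫ f = 𝟙 S) (hconn : ∀ s : S, ConnectedSpace ↥(f.fiber s)) :
    GeometricallyConnected f := by
  rw [GeometricallyConnected.iff_geometricallyConnected_fiber]
  intro s
  haveI := hconn s
  refine Groth.Agent.Helper3.ConnProd.geometricallyConnected_of_section (S.residueField s)
    (f.fiber s) (f.fiberToSpecResidueField s)
    (pullback.lift (S.fromSpecResidueField s ≫ e) (𝟙 _)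
      (by rw [Category.assoc, he, Category.comp_id, Category.id_comp])) ?_
  exact pullback.lift_snd _ _ _

/-- **S7791** -/
theorem geometricallyIntegral_of_section {X S : Scheme.{u}} (f : X ⟶ S) [Smooth f] [IsProper f]
    [ConnectedSpace ↥X] (σ : S ⟶ X) (hσ : σ ≫ f = 𝟙 S) : GeometricallyIntegral f := by
  haveI : GeometricallyReduced f := geometricallyReduced_of_smooth f
  haveI : GeometricallyConnected f :=
    geometricallyConnected_of_section f σ hσ (fun s => connectedSpace_fiber f σ hσ s)
  refine ⟨fun K _ y Z fst snd h => ?_⟩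
  letI : Z.Over (Spec (CommRingCat.of K)) := ⟨snd⟩
  haveI : IsProper (Z ↘ Spec (CommRingCat.of K)) :=
    MorphismProperty.of_isPullback (P := @IsProper) h inferInstance
  haveI : Smooth (Z ↘ Spec (CommRingCat.of K)) :=
    MorphismProperty.of_isPullback (P := @Smooth) h inferInstance
  haveI : GeometricallyConnected (Z ↘ Spec (CommRingCat.of K)) :=
    MorphismProperty.of_isPullback (P := @GeometricallyConnected) h inferInstance
  exact Groth.Agent.Helper4.SN.isIntegral_of_smooth_of_geometricallyConnected K Z

end Groth.Agent.Helper8.NGC
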