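import Mathlib
import Groth.Agent.S2818

/-!
# Algebra behind the étale-local structure of a smooth closed subscheme

* `exists_min_gens`: a finitely generated ideal `J` has, at a prime `q`, a generating family
  `g : Fin r → J` of `J B_q` with `r = dim_{k(q)} k(q) ⊗ J`.
* `ker_map_away`: the kernel of a localised ring map is the extension of the kernel.
* `main_alg`: combination with helper3's `S2818`.
-/

set_option autoImplicit false
universe u
open scoped TensorProduct

namespace Groth.Agent.Helper8.SmSubA

section A1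

variable {B : Type u} [CommRing B] (J : Ideal B) (q : Ideal B) [q.IsPrime]

/-- `J → J B_q` as a `B`-linear map. -/
noncomputable def toNJ : J →ₗ[B] (J.map (algebraMap B (Localization.AtPrime q))) where
  toFun j := ⟨algebraMap B (Localization.AtPrime q) j, Ideal.mem_map_of_mem _ j.2⟩
  map_add' x y := by
    apply Subtype.ext
    simp
  map_smul' b x := by
    apply Subtype.ext
    simp [Algebra.smul_def]

@[simp]
theorem toNJ_coe (j : J) :
    ((toNJ J q j : J.map (algebraMap B (Localization.AtPrime q))) : Localization.AtPrime q) =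
      algebraMap B (Localization.AtPrime q) j := rfl

/-- The comparison map `k(q) ⊗_B J → k(q) ⊗_{B_q} J B_q`. -/
noncomputable def Phi : q.ResidueField ⊗[B] J →ₗ[q.ResidueField]
    q.ResidueField ⊗[Localization.AtPrime q] (J.map (algebraMap B (Localization.AtPrime q))) :=
  (TensorProduct.mapOfCompatibleSMul (Localization.AtPrime q) B q.ResidueField q.ResidueField
    (J.map (algebraMap B (Localization.AtPrime q)))) ∘ₗ
    (LinearMap.baseChange q.ResidueField (toNJ J q))

theorem Phi_tmul (c : q.ResidueField) (j : J) :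
    Phi J q (c ⊗ₜ[B] j) = c ⊗ₜ[Localization.AtPrime q] toNJ J q j := by
  simp [Phi]

theorem exists_min_gens (hJ : J.FG) :
    ∃ (r : ℕ) (g : Fin r → B), (∀ i, g i ∈ J) ∧
      J.map (algebraMap B (Localization.AtPrime q)) =
        Ideal.span (Set.range fun i => algebraMap B (Localization.AtPrime q) (g i)) ∧
      r = Module.finrank q.ResidueField (q.ResidueField ⊗[B] J) := by
  classical
  let s : Set (q.ResidueField ⊗[B] J) := Set.range fun j : J => (1 : q.ResidueField) ⊗ₜ[B] j
  have hs : ⊤ ≤ Submodule.span q.ResidueField s := by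
    rintro x -
    induction x using TensorProduct.induction_on with
    | zero => exact zero_mem _
    | tmul c j =>
      have : c ⊗ₜ[B] j = c • ((1 : q.ResidueField) ⊗ₜ[B] j) := by
        rw [TensorProduct.smul_tmul', smul_eq_mul, mul_one]
      rw [this]
      exact Submodule.smul_mem _ _ (Submodule.subset_span ⟨j, rfl⟩)
    | add x y hx hy => exact add_mem hx hy
  haveI : Module.Finite B J := Module.Finite.iff_fg.mpr hJ
  haveI : Module.Finite q.ResidueField (q.ResidueField ⊗[B] J) := inferInstance
  obtain ⟨ι, bs, hbs⟩ : ∃ (ι : Type u) (bs : Module.Basis ι q.ResidueField (q.ResidueField ⊗[B] J)),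
      ∀ i, bs i ∈ s :=
    ⟨_, Module.Basis.ofSpan hs, fun i => Module.Basis.ofSpan_subset hs ⟨i, rfl⟩⟩
  haveI hfin : Finite ι := Module.Finite.finite_basis bs
  haveI : Fintype ι := Fintype.ofFinite ι
  choose jj hjj using hbs
  let e : Fin (Nat.card ι) ≃ ι := (Finite.equivFin ι).symm
  refine ⟨Nat.card ι, fun a => (jj (e a) : B), fun a => (jj (e a)).2, ?_,
    (Module.finrank_eq_nat_card_basis bs).symm⟩
  have hle : Ideal.span (Set.range fun a : Fin (Nat.card ι) =>
      algebraMap B (Localization.AtPrime q) (jj (e a) : B)) ≤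
      J.map (algebraMap B (Localization.AtPrime q)) :=
    Ideal.span_le.mpr (by rintro _ ⟨a, rfl⟩; exact Ideal.mem_map_of_mem _ (jj (e a)).2)
  refine le_antisymm ?_ hle
  have hNfg : (J.map (algebraMap B (Localization.AtPrime q))).FG := hJ.map _
  apply Submodule.le_of_le_smul_of_le_jacobson_bot
    (I := IsLocalRing.maximalIdeal (Localization.AtPrime q)) hNfg
    (IsLocalRing.maximalIdeal_le_jacobson _)
  have hgoal : ∀ j ∈ J, algebraMap B (Localization.AtPrime q) j ∈
      Ideal.span (Set.range fun a : Fin (Nat.card ι) =>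
        algebraMap B (Localization.AtPrime q) (jj (e a) : B)) ⊔
      IsLocalRing.maximalIdeal (Localization.AtPrime q) •
        J.map (algebraMap B (Localization.AtPrime q)) := by
    intro j hj
    obtain ⟨x, hx⟩ : ∃ x : q.ResidueField ⊗[B] J, x = (1 : q.ResidueField) ⊗ₜ[B] (⟨j, hj⟩ : J) :=
      ⟨_, rfl⟩
    have hβ : ∀ i, ∃ β : Localization.AtPrime q,
        IsLocalRing.residue (Localization.AtPrime q) β = bs.repr x i :=
      fun i => IsLocalRing.residue_surjective _
    choose β hβ using hβ
    have hterm : ∀ i, bs.repr x i • ((1 : q.ResidueField) ⊗ₜ[Localization.AtPrime q]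
          toNJ J q (jj i)) =
        (1 : q.ResidueField) ⊗ₜ[Localization.AtPrime q] (β i • toNJ J q (jj i)) := by
      intro i
      rw [TensorProduct.smul_tmul', smul_eq_mul, mul_one, ← hβ i,
        ← IsLocalRing.ResidueField.algebraMap_eq, Algebra.algebraMap_eq_smul_one,
        TensorProduct.smul_tmul]
    have key : (1 : q.ResidueField) ⊗ₜ[Localization.AtPrime q]
        (toNJ J q ⟨j, hj⟩ - ∑ i, β i • toNJ J q (jj i)) = 0 := by
      rw [TensorProduct.tmul_sub, TensorProduct.tmul_sum, sub_eq_zero]
      have h1 := congrArg (Phi J q) (bs.sum_repr x)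
      rw [map_sum] at h1
      simp only [map_smul] at h1
      rw [hx, Phi_tmul] at h1
      rw [← h1]
      refine Finset.sum_congr rfl fun i _ => ?_
      rw [← hterm i, ← hx, ← hjj i, Phi_tmul]
    have hmem := Groth.Agent.Helper3.EtAdapted.mem_smul_top_of_tmul_eq_zero
      (R := Localization.AtPrime q) _ key
    have h2 : (J.map (algebraMap B (Localization.AtPrime q))).subtype
        (toNJ J q ⟨j, hj⟩ - ∑ i, β i • toNJ J q (jj i)) ∈
        (IsLocalRing.maximalIdeal (Localization.AtPrime q) •
          (⊤ : Submodule (Localization.AtPrime q)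
            (J.map (algebraMap B (Localization.AtPrime q))))).map
          (J.map (algebraMap B (Localization.AtPrime q))).subtype :=
      Submodule.mem_map_of_mem hmem
    rw [Submodule.map_smul'', Submodule.map_subtype_top] at h2
    have h3 : (J.map (algebraMap B (Localization.AtPrime q))).subtype
        (toNJ J q ⟨j, hj⟩ - ∑ i, β i • toNJ J q (jj i)) =
        algebraMap B (Localization.AtPrime q) j -
          ∑ i, β i * algebraMap B (Localization.AtPrime q) (jj i : B) := by
      simp
    rw [h3] at h2
    refine Submodule.mem_sup.mpr ⟨∑ i, β i * algebraMap B (Localization.AtPrime q) (jj i : B),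
      ?_, _, h2, by ring⟩
    refine Ideal.sum_mem _ fun i _ => Ideal.mul_mem_left _ _ (Ideal.subset_span ⟨e.symm i, ?_⟩)
    simp
  rw [Ideal.map, Ideal.span_le]
  rintro _ ⟨j, hj, rfl⟩
  exact hgoal j hj

end A1

section A2

theorem ker_map_away {B C B' C' : Type*} [CommRing B] [CommRing C] [CommRing B'] [CommRing C']
    [Algebra B B'] [Algebra C C'] (φ : B →+* C) (f : B)
    [IsLocalization.Away f B'] [IsLocalization.Away (φ f) C'] (ψ : B' →+* C')
    (hψ : ψ.comp (algebraMap B B') = (algebraMap C C').comp φ) :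
    RingHom.ker ψ = (RingHom.ker φ).map (algebraMap B B') := by
  apply le_antisymm
  · intro x hx
    obtain ⟨⟨b, ⟨_, n, rfl⟩⟩, hb⟩ := IsLocalization.surj (Submonoid.powers f) x
    simp only at hb
    have h2 : ∀ b : B, ψ (algebraMap B B' b) = algebraMap C C' (φ b) := fun b =>
      RingHom.congr_fun hψ b
    have h1 : algebraMap C C' (φ b) = 0 := by
      have := congrArg ψ hb
      rw [map_mul, (RingHom.mem_ker).mp hx, zero_mul] at this
      rw [← h2, ← this]
    obtain ⟨⟨_, m, rfl⟩, hm⟩ :=
      (IsLocalization.map_eq_zero_iff (Submonoid.powers (φ f)) C' (φ b)).mp h1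
    simp only at hm
    have h3 : f ^ m * b ∈ RingHom.ker φ := by
      rw [RingHom.mem_ker, map_mul, map_pow]; exact hm
    have hu : IsUnit (algebraMap B B' (f ^ (n + m))) :=
      IsLocalization.map_units B' (⟨f ^ (n + m), n + m, rfl⟩ : Submonoid.powers f)
    have h4 : x * algebraMap B B' (f ^ (n + m)) ∈ (RingHom.ker φ).map (algebraMap B B') := by
      have : x * algebraMap B B' (f ^ (n + m)) = algebraMap B B' (f ^ m * b) := by
        rw [pow_add, map_mul, ← mul_assoc, hb, map_mul, mul_comm]
      rw [this]; exact Ideal.mem_map_of_mem _ h3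
    exact (Ideal.mul_unit_mem_iff_mem _ hu).mp h4
  · rw [Ideal.map_le_iff_le_comap]
    intro b hb
    rw [Ideal.mem_comap, RingHom.mem_ker]
    have h2 := RingHom.congr_fun hψ b
    simp only [RingHom.comp_apply] at h2
    rw [h2, (RingHom.mem_ker).mp hb, map_zero]

end A2

section Main

theorem main_alg_aux (A B C : Type u) [CommRing A] [CommRing B] [CommRing C] [Algebra A B]
    [Algebra A C] [Algebra.Smooth A B] [Algebra.Smooth A C] (φ : B →ₐ[A] C)
    (hφ : Function.Surjective φ) (q' : Ideal C) [q'.IsPrime] :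
    ∃ (f : B) (_ : φ f ∉ q') (m n : ℕ), ∀ (B' : Type u) [CommRing B'] [Algebra B B'] [Algebra A B']
      [IsScalarTower A B B'] [IsLocalization.Away f B'],
      ∃ t : ULift.{u} (Fin m ⊕ Fin n) → B',
        (MvPolynomial.aeval t : MvPolynomial (ULift.{u} (Fin m ⊕ Fin n)) A →ₐ[A] B').toRingHom.Etale ∧
        (RingHom.ker φ.toRingHom).map (algebraMap B B') =
          Ideal.span (Set.range fun j : Fin n => t ⟨Sum.inr j⟩) := by
  classical
  obtain ⟨J, hJdef⟩ : ∃ J : Ideal B, J = RingHom.ker φ.toRingHom := ⟨_, rfl⟩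
  have hJ : J.FG := hJdef ▸ Algebra.FinitePresentation.ker_fG_of_surjective φ hφ
  let q : Ideal B := q'.comap φ.toRingHom
  haveI : q.IsPrime := Ideal.comap_isPrime _ _
  have hJq : J ≤ q := fun x hx => by
    rw [hJdef, RingHom.mem_ker] at hx
    simp only [q, Ideal.mem_comap]
    rw [hx]; exact zero_mem _
  subst hJdef
  let e : (B ⧸ RingHom.ker φ.toRingHom) ≃ₐ[A] C := Ideal.quotientKerAlgEquivOfSurjective hφ
  have he : ∀ b : B, e (Ideal.Quotient.mk _ b) = φ b := fun b => rfl
  let Q : Ideal (B ⧸ RingHom.ker φ.toRingHom) := q'.comap (e : _ →+* C)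
  haveI : Q.IsPrime := Ideal.comap_isPrime _ _
  have hQ : Q.comap (Ideal.Quotient.mk (RingHom.ker φ.toRingHom)) = q := by
    ext x
    simp only [Q, q, Ideal.mem_comap]
    exact Iff.rfl
  haveI : Algebra.Smooth A (B ⧸ RingHom.ker φ.toRingHom) := Algebra.Smooth.of_equiv e.symm
  haveI hsB : Algebra.IsSmoothAt A q := by
    have := Set.eq_univ_iff_forall.mp (Algebra.smoothLocus_eq_univ (R := A) (A := B)) ⟨q, inferInstance⟩
    exact this
  haveI hsQ : Algebra.IsSmoothAt A Q := by
    have := Set.eq_univ_iff_forall.mp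
      (Algebra.smoothLocus_eq_univ (R := A) (A := B ⧸ RingHom.ker φ.toRingHom)) ⟨Q, inferInstance⟩
    exact this
  obtain ⟨r, g, hg, hgen, hmin⟩ := exists_min_gens (RingHom.ker φ.toRingHom) q hJ
  obtain ⟨f, hf, m, g', het, hspan⟩ :=
    Groth.Agent.S2818.result A B (RingHom.ker φ.toRingHom) hJ q hJq Q hQ r g hg hgen hmin
  refine ⟨f, fun h => hf h, m, r, ?_⟩
  intro B' _ _ _ _ _
  let ε : Localization.Away f ≃ₐ[B] B' := IsLocalization.algEquiv (Submonoid.powers f) _ _
  have hε : ∀ b : B, ε (algebraMap B (Localization.Away f) b) = algebraMap B B' b := fun b =>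
    ε.commutes b
  let t : ULift.{u} (Fin m ⊕ Fin r) → B' := fun l =>
    Sum.elim (fun a => ε (g' a)) (fun j => algebraMap B B' (g j)) l.down
  refine ⟨t, ?_, ?_⟩
  · let σ : ULift.{u} (Fin m ⊕ Fin r) → Fin r ⊕ Fin m := fun l => Sum.swap l.down
    have hσ : Function.Bijective σ := by
      constructor
      · intro a b hab
        exact ULift.ext _ _ (Sum.swap_leftInverse.injective hab)
      · intro c
        exact ⟨⟨Sum.swap c⟩, by simp [σ]⟩
    have hcomp : (MvPolynomial.aeval t : MvPolynomial (ULift.{u} (Fin m ⊕ Fin r)) A →ₐ[A] B').toRingHom =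
        ((ε : Localization.Away f →+* B').comp
          (MvPolynomial.aeval (Sum.elim (fun i => algebraMap B (Localization.Away f) (g i)) g') :
            MvPolynomial (Fin r ⊕ Fin m) A →ₐ[A] Localization.Away f).toRingHom).comp
          (MvPolynomial.rename σ : MvPolynomial (ULift.{u} (Fin m ⊕ Fin r)) A →ₐ[A] _).toRingHom := by
      apply MvPolynomial.ringHom_ext
      · intro a
        simp only [AlgHom.toRingHom_eq_coe, RingHom.coe_coe,
          RingHom.comp_apply, MvPolynomial.algHom_C]
        rw [AlgHom.commutes, IsScalarTower.algebraMap_apply A B (Localization.Away f), hε,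
          ← IsScalarTower.algebraMap_apply]
      · rintro ⟨a | j⟩
        · simp only [AlgHom.toRingHom_eq_coe, RingHom.coe_coe, MvPolynomial.aeval_X,
            RingHom.comp_apply, MvPolynomial.rename_X]
          rfl
        · simp only [AlgHom.toRingHom_eq_coe, RingHom.coe_coe, MvPolynomial.aeval_X,
            RingHom.comp_apply, MvPolynomial.rename_X]
          exact (hε (g j)).symm
    rw [hcomp]
    refine RingHom.Etale.stableUnderComposition _ _ ?_
      (RingHom.Etale.stableUnderComposition _ _ het ?_)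
    · apply RingHom.Etale.of_bijective
      exact (MvPolynomial.renameEquiv A (Equiv.ofBijective σ hσ)).bijective
    · apply RingHom.Etale.of_bijective
      exact ε.bijective
  · have h1 := congrArg (Ideal.map (ε : Localization.Away f →+* B')) hspan
    rw [Ideal.map_map, Ideal.map_span, ← Set.range_comp] at h1
    have h2 : (ε : Localization.Away f →+* B').comp (algebraMap B (Localization.Away f)) =
        algebraMap B B' := by
      ext b; exact hε b
    rw [h2] at h1
    rw [h1]
    congr 2
    ext j
    exact hε (g j)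

/-- Ring-hom version of `main_alg_aux`. -/
theorem main_alg {A B C : Type u} [CommRing A] [CommRing B] [CommRing C] (α : A →+* B)
    (hα : α.Smooth) (φ : B →+* C) (hφα : (φ.comp α).Smooth) (hφ : Function.Surjective φ)
    (q' : Ideal C) [q'.IsPrime] :
    ∃ (f : B) (_ : φ f ∉ q') (m n : ℕ), ∀ (B' : Type u) [CommRing B'] (β : B →+* B'),
      (letI := β.toAlgebra; IsLocalization.Away f B') →
      ∃ t : ULift.{u} (Fin m ⊕ Fin n) → B',
        (MvPolynomial.eval₂Hom (β.comp α) t).Etale ∧
        (RingHom.ker φ).map β = Ideal.span (Set.range fun j : Fin n => t ⟨Sum.inr j⟩) := by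
  letI : Algebra A B := α.toAlgebra
  letI : Algebra A C := (φ.comp α).toAlgebra
  haveI : Algebra.Smooth A B := hα
  haveI : Algebra.Smooth A C := hφα
  let φ' : B →ₐ[A] C := { φ with commutes' := fun a => rfl }
  obtain ⟨f, hf, m, n, H⟩ := main_alg_aux A B C φ' hφ q'
  refine ⟨f, hf, m, n, ?_⟩
  intro B' _ β hloc
  letI : Algebra B B' := β.toAlgebra
  letI : Algebra A B' := (β.comp α).toAlgebra
  haveI : IsScalarTower A B B' := IsScalarTower.of_algebraMap_eq (fun _ => rfl)
  haveI : IsLocalization.Away f B' := hloc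
  obtain ⟨t, ht1, ht2⟩ := H B'
  exact ⟨t, ht1, ht2⟩

end Main

end Groth.Agent.Helper8.SmSubA
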