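import Mathlib
import Groth.Agent.Helper8.SmSubA

/-!
# Étale-local structure of a smooth closed subscheme of a smooth scheme (geometry)
-/

set_option autoImplicit false
universe u
open AlgebraicGeometry CategoryTheory Limits

namespace Groth.Agent.Helper8.SmSubB

section PB

variable {S W Z : Scheme.{u}}

/-- If the ideal of the closed subscheme `κ : Z → W` of the affine scheme `W` is generated by the
last `n` coordinates of `π : W → 𝔸^{m+n}_S`, then `Z` is the pullback of the coordinate subspace. -/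
theorem isPullback_of_ker_eq [IsAffine W] (m n : ℕ) (κ : Z ⟶ W) [IsClosedImmersion κ]
    (pW : W ⟶ S) (π : W ⟶ 𝔸(ULift.{u} (Fin m ⊕ Fin n); S))
    (hπ : π ≫ (𝔸(ULift.{u} (Fin m ⊕ Fin n); S) ↘ S) = pW)
    (hker : RingHom.ker κ.appTop.hom = Ideal.span (Set.range fun j : Fin n =>
      π.appTop (AffineSpace.coord S (ULift.up (Sum.inr j))))) :
    IsPullback
      (AffineSpace.homOfVector (κ ≫ pW) (fun a : ULift.{u} (Fin m) =>
        κ.appTop (π.appTop (AffineSpace.coord S (ULift.up (Sum.inl a.down))))))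
      κ
      (AffineSpace.homOfVector (𝔸(ULift.{u} (Fin m); S) ↘ S)
        (fun j : ULift.{u} (Fin m ⊕ Fin n) =>
          Sum.elim (fun a => AffineSpace.coord S (ULift.up a)) (fun _ => 0) j.down))
      π := by
  obtain ⟨z, hz⟩ : ∃ z, z = AffineSpace.homOfVector (𝔸(ULift.{u} (Fin m); S) ↘ S)
        (fun j : ULift.{u} (Fin m ⊕ Fin n) =>
          Sum.elim (fun a => AffineSpace.coord S (ULift.up a)) (fun _ => 0) j.down) := ⟨_, rfl⟩
  obtain ⟨ρ, hρ⟩ : ∃ ρ, ρ = AffineSpace.homOfVector (κ ≫ pW) (fun a : ULift.{u} (Fin m) =>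
        κ.appTop (π.appTop (AffineSpace.coord S (ULift.up (Sum.inl a.down))))) := ⟨_, rfl⟩
  rw [← hz, ← hρ]
  have hz_over : z ≫ (𝔸(ULift.{u} (Fin m ⊕ Fin n); S) ↘ S) = 𝔸(ULift.{u} (Fin m); S) ↘ S := by
    rw [hz, AffineSpace.homOfVector_over]
  have hρ_over : ρ ≫ (𝔸(ULift.{u} (Fin m); S) ↘ S) = κ ≫ pW := by
    rw [hρ, AffineSpace.homOfVector_over]
  have hz_inl : ∀ a : Fin m, z.appTop (AffineSpace.coord S (ULift.up (Sum.inl a))) =
      AffineSpace.coord S (ULift.up a) := fun a => by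
    rw [hz, AffineSpace.homOfVector_appTop_coord]; rfl
  have hz_inr : ∀ j : Fin n, z.appTop (AffineSpace.coord S (ULift.up (Sum.inr j))) = 0 := fun j => by
    rw [hz, AffineSpace.homOfVector_appTop_coord]; rfl
  have hρ_coord : ∀ a : Fin m, ρ.appTop (AffineSpace.coord S (ULift.up a)) =
      κ.appTop (π.appTop (AffineSpace.coord S (ULift.up (Sum.inl a)))) := fun a => by
    rw [hρ, AffineSpace.homOfVector_appTop_coord]
  have hκ0 : ∀ j : Fin n, κ.appTop (π.appTop (AffineSpace.coord S (ULift.up (Sum.inr j)))) = 0 := by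
    intro j
    have : π.appTop (AffineSpace.coord S (ULift.up (Sum.inr j))) ∈ RingHom.ker κ.appTop.hom := by
      rw [hker]; exact Ideal.subset_span ⟨j, rfl⟩
    exact this
  have comm : ρ ≫ z = κ ≫ π := by
    apply AffineSpace.hom_ext
    · rw [Category.assoc, Category.assoc, hz_over, hρ_over, hπ]
    · rintro ⟨a | j⟩
      · change ρ.appTop (z.appTop _) = κ.appTop (π.appTop _)
        rw [hz_inl, hρ_coord]
      · change ρ.appTop (z.appTop _) = κ.appTop (π.appTop _)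
        rw [hz_inr, hκ0, map_zero]
  have H : ∀ s : PullbackCone z π, κ.ker ≤ s.snd.ker := fun s => by
    rw [Scheme.ker_of_isAffine κ, Scheme.ker_of_isAffine s.snd]
    apply Scheme.IdealSheafData.le_of_isAffine
    simp only [Scheme.IdealSheafData.ofIdealTop_ideal]
    apply Ideal.map_mono
    rw [hker, Ideal.span_le]
    rintro _ ⟨j, rfl⟩
    change s.snd.appTop (π.appTop _) = 0
    have h1 : (s.fst ≫ z).appTop (AffineSpace.coord S (ULift.up (Sum.inr j))) =
        (s.snd ≫ π).appTop (AffineSpace.coord S (ULift.up (Sum.inr j))) := by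
      rw [s.condition]
    change s.fst.appTop (z.appTop _) = s.snd.appTop (π.appTop _) at h1
    rw [← h1, hz_inr, map_zero]
  refine ⟨⟨comm⟩, ⟨PullbackCone.IsLimit.mk comm
    (fun s => IsClosedImmersion.lift κ s.snd (H s)) ?_
    (fun s => IsClosedImmersion.lift_fac κ s.snd (H s)) ?_⟩⟩
  · intro s
    apply AffineSpace.hom_ext
    · rw [Category.assoc, hρ_over, IsClosedImmersion.lift_fac_assoc, ← hπ, ← Category.assoc,
        ← s.condition, Category.assoc, hz_over]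
    · rintro ⟨a⟩
      have h1 : (s.fst ≫ z).appTop (AffineSpace.coord S (ULift.up (Sum.inl a))) =
          (s.snd ≫ π).appTop (AffineSpace.coord S (ULift.up (Sum.inl a))) := by
        rw [s.condition]
      change s.fst.appTop (z.appTop _) = s.snd.appTop (π.appTop _) at h1
      rw [hz_inl] at h1
      rw [h1]
      change (IsClosedImmersion.lift κ s.snd (H s)).appTop (ρ.appTop _) = _
      rw [hρ_coord]
      have h2 : (IsClosedImmersion.lift κ s.snd (H s) ≫ κ).appTop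
          (π.appTop (AffineSpace.coord S (ULift.up (Sum.inl a)))) =
          s.snd.appTop (π.appTop (AffineSpace.coord S (ULift.up (Sum.inl a)))) := by
        rw [IsClosedImmersion.lift_fac]
      exact h2
  · intro s l _ h2
    rw [← cancel_mono κ, IsClosedImmersion.lift_fac]
    exact h2

end PB

section B2

variable {S X : Scheme.{u}} (pX : X ⟶ S) {V : S.Opens} (hV : IsAffineOpen V) {U : X.Opens}
  (hU : IsAffineOpen U) (e : U ≤ pX ⁻¹ᵁ V) {Λ : Type u} (t : Λ → Γ(X, U))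

/-- The ring map `Γ(S,V)[Λ] → Γ(X,U)` given by the sections `t`. -/
noncomputable def psi : MvPolynomial Λ Γ(S, V) →+* Γ(X, U) :=
  MvPolynomial.eval₂Hom (pX.appLE V U e).hom t

/-- The morphism `U → 𝔸^Λ_S` given by the sections `t`, written as a composite through
`Spec Γ(S,V)[Λ]`. -/
noncomputable def piHom : (U : Scheme.{u}) ⟶ 𝔸(Λ; S) :=
  hU.isoSpec.hom ≫ Spec.map (CommRingCat.ofHom (psi pX e t)) ≫
    (AffineSpace.SpecIso Λ Γ(S, V)).inv ≫ AffineSpace.map Λ hV.fromSpec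

theorem piHom_over : piHom pX hV hU e t ≫ (𝔸(Λ; S) ↘ S) = U.ι ≫ pX := by
  have h1 : CommRingCat.ofHom (MvPolynomial.C (σ := Λ) (R := Γ(S, V))) ≫
      CommRingCat.ofHom (psi pX e t) = pX.appLE V U e := by
    ext x
    simp [psi]
  simp only [piHom, Category.assoc, AffineSpace.map_over, AffineSpace.SpecIso_inv_over_assoc]
  rw [← Spec.map_comp_assoc, h1, IsAffineOpen.SpecMap_appLE_fromSpec pX hV hU e,
    IsAffineOpen.isoSpec_hom_fromSpec_assoc]

theorem piHom_appTop_coord (l : Λ) :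
    (piHom pX hV hU e t).appTop (AffineSpace.coord S l) = U.topIso.inv (t l) := by
  change hU.isoSpec.hom.appTop ((Spec.map (CommRingCat.ofHom (psi pX e t))).appTop
    ((AffineSpace.SpecIso Λ Γ(S, V)).inv.appTop
      ((AffineSpace.map Λ hV.fromSpec).appTop (AffineSpace.coord S l)))) = _
  rw [AffineSpace.map_appTop_coord, AffineSpace.SpecIso_inv_appTop_coord]
  have h2 := Scheme.ΓSpecIso_inv_naturality (CommRingCat.ofHom (psi pX e t))
  have h3 := congrArg (fun f => f.hom (MvPolynomial.X l)) h2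
  simp only [CommRingCat.hom_comp, RingHom.comp_apply] at h3
  erw [← h3]
  rw [IsAffineOpen.isoSpec_hom_appTop]
  have h4 : (Scheme.ΓSpecIso Γ(X, U)).hom ((Scheme.ΓSpecIso Γ(X, U)).inv (t l)) = t l := by
    rw [← CommRingCat.comp_apply, Iso.inv_hom_id]; rfl
  have h5 : psi pX e t (MvPolynomial.X l) = t l := by simp [psi]
  change U.topIso.inv ((Scheme.ΓSpecIso Γ(X, U)).hom
    ((Scheme.ΓSpecIso Γ(X, U)).inv (psi pX e t (MvPolynomial.X l)))) = _
  rw [h5, h4]

theorem piHom_etale (hψ : (psi pX e t).Etale) : Etale (piHom pX hV hU e t) := by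
  haveI : Etale (Spec.map (CommRingCat.ofHom (psi pX e t))) := by
    rw [HasRingHomProperty.Spec_iff (P := @Etale)]
    exact hψ
  haveI : Etale (AffineSpace.map Λ hV.fromSpec) :=
    MorphismProperty.of_isPullback (P := @Etale)
      (AffineSpace.isPullback_map hV.fromSpec).flip inferInstance
  unfold piHom
  infer_instance

end B2

section Restrict

variable {X Y : Scheme.{u}}

theorem restrict_appTop (i : Y ⟶ X) (U : X.Opens) :
    (i ∣_ U).appTop = U.topIso.hom ≫ i.app U ≫ (i ⁻¹ᵁ U).topIso.inv := by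
  have h1 := morphismRestrict_appTop i U
  have h2 : X.presheaf.map (eqToHom U.ι_image_top.symm).op ≫ i.app U =
      i.app (U.ι ''ᵁ ⊤) ≫ Y.presheaf.map
        ((TopologicalSpace.Opens.map i.base).map (eqToHom U.ι_image_top.symm)).op :=
    i.naturality _
  refine h1.trans ?_
  change _ = X.presheaf.map (eqToHom U.ι_image_top.symm).op ≫ i.app U ≫
    Y.presheaf.map (eqToHom ((i ⁻¹ᵁ U).ι_image_top)).op
  rw [reassoc_of% h2, ← Functor.map_comp]
  rfl

theorem ker_restrict_appTop (i : Y ⟶ X) (U : X.Opens) {ι : Type*} (v : ι → Γ(X, U))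
    (h : RingHom.ker (i.app U).hom = Ideal.span (Set.range v)) :
    RingHom.ker (i ∣_ U).appTop.hom = Ideal.span (Set.range fun j => U.topIso.inv (v j)) := by
  have h1 : (i ∣_ U).appTop = U.topIso.hom ≫ i.app U ≫ (i ⁻¹ᵁ U).topIso.inv :=
    restrict_appTop i U
  let E : Γ(↑U, ⊤) ≃+* Γ(X, U) := U.topIso.commRingCatIsoToRingEquiv
  have h2 : RingHom.ker (i ∣_ U).appTop.hom =
      (RingHom.ker (i.app U).hom).comap E := by
    ext x
    rw [RingHom.mem_ker, Ideal.mem_comap, RingHom.mem_ker, h1]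
    change (i ⁻¹ᵁ U).topIso.inv (i.app U (U.topIso.hom x)) = 0 ↔ i.app U (U.topIso.hom x) = 0
    have hinj : Function.Injective (i ⁻¹ᵁ U).topIso.inv.hom :=
      (i ⁻¹ᵁ U).topIso.symm.commRingCatIsoToRingEquiv.injective
    exact map_eq_zero_iff (i ⁻¹ᵁ U).topIso.inv.hom hinj
  rw [h2, h, ← Ideal.map_symm, Ideal.map_span, ← Set.range_comp]
  rfl

end Restrict

section Main

theorem main {S X Y : Scheme.{u}} (pX : X ⟶ S) (pY : Y ⟶ S) [Smooth pX] [Smooth pY]
    (i : Y ⟶ X) [IsClosedImmersion i] (w : i ≫ pX = pY) (y : Y) :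
    ∃ (U : X.Opens) (m n : ℕ) (π : (U : Scheme.{u}) ⟶ 𝔸(ULift.{u} (Fin m ⊕ Fin n); S))
      (ρ : (↑(i ⁻¹ᵁ U) : Scheme.{u}) ⟶ 𝔸(ULift.{u} (Fin m); S)),
      i y ∈ U ∧ Etale π ∧ π ≫ (𝔸(ULift.{u} (Fin m ⊕ Fin n); S) ↘ S) = U.ι ≫ pX ∧
      IsPullback ρ (i ∣_ U)
        (AffineSpace.homOfVector (𝔸(ULift.{u} (Fin m); S) ↘ S)
          (fun j : ULift.{u} (Fin m ⊕ Fin n) =>
            Sum.elim (fun a => AffineSpace.coord S (ULift.up a)) (fun _ => 0) j.down))
        π := by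
  subst w
  obtain ⟨V, hV, hsV, -⟩ := exists_isAffineOpen_mem_and_subset (x := pX (i y)) (U := ⊤) trivial
  obtain ⟨U₀, hU₀, hxU₀, hU₀V⟩ :=
    exists_isAffineOpen_mem_and_subset (x := i y) (U := pX ⁻¹ᵁ V) hsV
  have e : U₀ ≤ pX ⁻¹ᵁ V := hU₀V
  have hW₀ : IsAffineOpen (i ⁻¹ᵁ U₀) := hU₀.preimage i
  have hyW₀ : y ∈ i ⁻¹ᵁ U₀ := hxU₀
  have eY : i ⁻¹ᵁ U₀ ≤ (i ≫ pX) ⁻¹ᵁ V := fun z hz => e hz
  have hα : (pX.appLE V U₀ e).hom.Smooth := Smooth.smooth_appLE pX hV hU₀ e
  have hcomp : (i ≫ pX).appLE V (i ⁻¹ᵁ U₀) eY = pX.appLE V U₀ e ≫ i.app U₀ := by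
    rw [Scheme.Hom.app_eq_appLE, Scheme.Hom.appLE_comp_appLE]
  have hφα : ((i.app U₀).hom.comp (pX.appLE V U₀ e).hom).Smooth := by
    have h := Smooth.smooth_appLE (i ≫ pX) hV hW₀ eY
    rw [hcomp, CommRingCat.hom_comp] at h
    exact h
  have hφ : Function.Surjective (i.app U₀).hom := i.app_surjective U₀ hU₀
  obtain ⟨f, hf, m, n, H⟩ := SmSubA.main_alg (pX.appLE V U₀ e).hom hα (i.app U₀).hom hφα hφ
    (hW₀.primeIdealOf ⟨y, hyW₀⟩).asIdeal
  have hU : IsAffineOpen (X.basicOpen f) := hU₀.basicOpen f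
  have e' : X.basicOpen f ≤ pX ⁻¹ᵁ V := (X.basicOpen_le f).trans e
  obtain ⟨t, ht1, ht2⟩ := H Γ(X, X.basicOpen f)
    (X.presheaf.map (homOfLE (X.basicOpen_le f)).op).hom (hU₀.isLocalization_basicOpen f)
  have hβα : (X.presheaf.map (homOfLE (X.basicOpen_le f)).op).hom.comp (pX.appLE V U₀ e).hom =
      (pX.appLE V (X.basicOpen f) e').hom := by
    rw [← CommRingCat.hom_comp, Scheme.Hom.appLE_map]
  rw [hβα] at ht1
  have hx : i y ∈ X.basicOpen f := by
    have h0 := hW₀.fromSpec_preimage_basicOpen ((i.app U₀).hom f)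
    have h1 : hW₀.primeIdealOf ⟨y, hyW₀⟩ ∈ hW₀.fromSpec ⁻¹ᵁ Y.basicOpen ((i.app U₀).hom f) := by
      rw [h0]; exact hf
    have h2 : hW₀.fromSpec (hW₀.primeIdealOf ⟨y, hyW₀⟩) ∈ Y.basicOpen ((i.app U₀).hom f) := h1
    rw [hW₀.fromSpec_primeIdealOf] at h2
    change y ∈ i ⁻¹ᵁ X.basicOpen f
    rw [Scheme.preimage_basicOpen]
    exact h2
  have hkerU : RingHom.ker (i.app (X.basicOpen f)).hom =
      Ideal.span (Set.range fun j : Fin n => t ⟨Sum.inr j⟩) := by
    rw [← ht2]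
    have hle : i ⁻¹ᵁ X.basicOpen f ≤ i ⁻¹ᵁ U₀ := fun z hz => X.basicOpen_le f hz
    letI : Algebra Γ(Y, i ⁻¹ᵁ U₀) Γ(Y, i ⁻¹ᵁ X.basicOpen f) :=
      (Y.presheaf.map (homOfLE hle).op).hom.toAlgebra
    haveI : IsLocalization.Away f Γ(X, X.basicOpen f) := hU₀.isLocalization_basicOpen f
    haveI : IsLocalization.Away ((i.app U₀).hom f) Γ(Y, i ⁻¹ᵁ X.basicOpen f) :=
      hW₀.isLocalization_of_eq_basicOpen _ (homOfLE hle) (Scheme.preimage_basicOpen i f)
    exact SmSubA.ker_map_away (i.app U₀).hom f (i.app (X.basicOpen f)).hom (by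
      rw [RingHom.algebraMap_toAlgebra, RingHom.algebraMap_toAlgebra, ← CommRingCat.hom_comp,
        ← CommRingCat.hom_comp, i.naturality]
      rfl)
  haveI : IsAffine (X.basicOpen f : Scheme.{u}) := hU
  have hpb := isPullback_of_ker_eq m n (i ∣_ X.basicOpen f) ((X.basicOpen f).ι ≫ pX)
    (piHom pX hV hU e' t) (piHom_over pX hV hU e' t) (by
      simp_rw [piHom_appTop_coord]
      exact ker_restrict_appTop i (X.basicOpen f) _ hkerU)
  exact ⟨X.basicOpen f, m, n, piHom pX hV hU e' t, _, hx, piHom_etale pX hV hU e' t ht1,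
    piHom_over pX hV hU e' t, hpb⟩

end Main

end Groth.Agent.Helper8.SmSubB
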