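import Mathlib
import Groth.Prelude.Def_CAlg
import Groth.Agent.Helper2.Depth
set_option autoImplicit false


namespace Groth.Agent.Helper8.BijDepth

universe u v

/-- extracting a usable "regular pair" from `2 ≤ depth_I M` (module version). -/
theorem exists_pair {R : Type u} [CommRing R] (I : Ideal R) (M : Type v) [AddCommGroup M]
    [Module R M] (htop : I • (⊤ : Submodule R M) = ⊤ → Subsingleton M)
    (h : 2 ≤ LocCoh.idealDepth I M) :
    ∃ x ∈ I, ∃ y ∈ I, (∀ m : M, x • m = 0 → m = 0) ∧
      ∀ m n : M, y • m = x • n → ∃ u, m = x • u := by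
  unfold LocCoh.idealDepth at h
  split_ifs at h with htop'
  · have := htop htop'
    exact ⟨0, I.zero_mem, 0, I.zero_mem, fun m _ => Subsingleton.elim _ _,
      fun m n _ => ⟨0, Subsingleton.elim _ _⟩⟩
  · have hex : ∃ rs : List R, (RingTheory.Sequence.IsWeaklyRegular M rs ∧ ∀ r ∈ rs, r ∈ I) ∧
        2 ≤ rs.length := by
      by_contra hcon
      push Not at hcon
      have : (⨆ (rs : List R) (_ : RingTheory.Sequence.IsWeaklyRegular M rs ∧ ∀ r ∈ rs, r ∈ I),
          (rs.length : ℕ∞)) ≤ 1 := by
        apply iSup₂_le
        intro rs hrs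
        have := hcon rs hrs
        have h1 : rs.length ≤ 1 := by omega
        exact_mod_cast h1
      have := h.trans this
      norm_num at this
    obtain ⟨rs, ⟨hreg, hmem⟩, hlen⟩ := hex
    match rs, hreg, hmem, hlen with
    | x :: y :: rest, hreg, hmem, _ =>
      rw [RingTheory.Sequence.isWeaklyRegular_cons_iff,
        RingTheory.Sequence.isWeaklyRegular_cons_iff] at hreg
      obtain ⟨hx, hy, -⟩ := hreg
      refine ⟨x, hmem x (by simp), y, hmem y (by simp), ?_, ?_⟩
      · intro m hm
        apply hx
        simpa using hm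
      · intro m n hmn
        have h0 : y • (Submodule.Quotient.mk m : QuotSMulTop x M) = 0 := by
          rw [← Submodule.Quotient.mk_smul, Submodule.Quotient.mk_eq_zero]
          rw [Submodule.mem_smul_pointwise_iff_exists]
          exact ⟨n, Submodule.mem_top, hmn.symm⟩
        have h1 : (Submodule.Quotient.mk m : QuotSMulTop x M) = 0 := by
          apply hy
          simpa using h0
        rw [Submodule.Quotient.mk_eq_zero, Submodule.mem_smul_pointwise_iff_exists] at h1
        obtain ⟨u, -, hu⟩ := h1
        exact ⟨u, hu.symm⟩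


section main
open Groth.Agent.Helper2.Depth

variable {R : Type u} [CommRing R] [IsNoetherianRing R] {M N : Type u} [AddCommGroup M] [Module R M]
  [AddCommGroup N] [Module R N]

omit [IsNoetherianRing R] in
/-- if `ann x = p` then `depth M_p = 0`. -/
theorem depth_zero_of_ann [Module.Finite R M] (p : Ideal R) [p.IsPrime] (x : M)
    (hmem : ∀ r : R, r • x = 0 → r ∈ p) (hmem' : ∀ r ∈ p, r • x = 0) :
    LocCoh.depth (Localization.AtPrime p) (LocalizedModule p.primeCompl M) = 0 := by
  have hx1 : LocalizedModule.mk x (1 : p.primeCompl) ≠ 0 := by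
    intro h
    rw [← LocalizedModule.zero_mk (1 : p.primeCompl), LocalizedModule.mk_eq] at h
    obtain ⟨s, hs⟩ := h
    simp only [one_smul, smul_zero] at hs
    exact s.2 (hmem _ hs)
  have hnt : Nontrivial (LocalizedModule p.primeCompl M) := ⟨⟨_, 0, hx1⟩⟩
  rw [depth_eq_zero_iff]
  intro y hy hreg
  obtain ⟨a, s, rfl⟩ := IsLocalization.exists_mk'_eq p.primeCompl y
  rw [IsLocalization.AtPrime.mk'_mem_maximal_iff (Localization.AtPrime p) p] at hy
  have hax : a • x = 0 := hmem' a hy
  have h1 : IsLocalization.mk' (Localization.AtPrime p) a s •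
      LocalizedModule.mk x (1 : p.primeCompl) = 0 := by
    rw [← Localization.mk_eq_mk'_apply, LocalizedModule.mk_smul_mk, hax, LocalizedModule.zero_mk]
  exact hx1 (hreg (h1.trans (smul_zero _).symm))

variable (φ : M →ₗ[R] N)
  (h : ∀ (p : Ideal R) [p.IsPrime],
      Function.Bijective (LocalizedModule.map p.primeCompl φ) ∨
        (2 ≤ LocCoh.depth (Localization.AtPrime p) (LocalizedModule p.primeCompl M) ∧
          p ∉ associatedPrimes R N))

include h

theorem injective_of [Module.Finite R M] : Function.Injective φ := by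
  rw [← LinearMap.ker_eq_bot]
  by_contra hK
  have : Nontrivial (LinearMap.ker φ) := Submodule.nontrivial_iff_ne_bot.2 hK
  obtain ⟨p, hp⟩ := associatedPrimes.nonempty R (LinearMap.ker φ)
  rw [AssociatedPrimes.mem_iff, isAssociatedPrime_iff] at hp
  obtain ⟨hprime, ⟨x, hxK⟩, hx⟩ := hp
  have hmem : ∀ r : R, r • x = 0 → r ∈ p := by
    intro r hr
    rw [hx, Submodule.mem_colon_singleton, Submodule.mem_bot]
    ext
    simpa using hr
  have hmem' : ∀ r ∈ p, r • x = 0 := by
    intro r hr
    rw [hx, Submodule.mem_colon_singleton, Submodule.mem_bot] at hr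
    simpa using congrArg Subtype.val hr
  clear hx
  rcases h p with hb | ⟨hd, -⟩
  · have h0 : LocalizedModule.mk x (1 : p.primeCompl) = 0 := by
      apply hb.1
      rw [LocalizedModule.map_mk, LinearMap.mem_ker.1 hxK, LocalizedModule.zero_mk, map_zero]
    rw [← LocalizedModule.zero_mk (1 : p.primeCompl), LocalizedModule.mk_eq] at h0
    obtain ⟨s, hs⟩ := h0
    simp only [one_smul, smul_zero] at hs
    exact s.2 (hmem _ hs)
  · rw [depth_zero_of_ann p x hmem hmem'] at hd
    norm_num at hd

theorem surjective_of [Module.Finite R M] : Function.Surjective φ := by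
  have hinj := injective_of φ h
  rw [← LinearMap.range_eq_top]
  by_contra hQ
  have : Nontrivial (N ⧸ LinearMap.range φ) := Submodule.Quotient.nontrivial_iff.2 hQ
  obtain ⟨p, hp⟩ := associatedPrimes.nonempty R (N ⧸ LinearMap.range φ)
  rw [AssociatedPrimes.mem_iff, isAssociatedPrime_iff] at hp
  obtain ⟨hprime, z, hz⟩ := hp
  obtain ⟨n, rfl⟩ := Submodule.Quotient.mk_surjective _ z
  have hmem : ∀ r : R, r • n ∈ LinearMap.range φ → r ∈ p := by
    intro r hr
    rw [hz, Submodule.mem_colon_singleton, Submodule.mem_bot, ← Submodule.Quotient.mk_smul,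
      Submodule.Quotient.mk_eq_zero]
    exact hr
  have hmem' : ∀ r ∈ p, r • n ∈ LinearMap.range φ := by
    intro r hr
    rw [hz, Submodule.mem_colon_singleton, Submodule.mem_bot, ← Submodule.Quotient.mk_smul,
      Submodule.Quotient.mk_eq_zero] at hr
    exact hr
  clear hz
  set ψ := LocalizedModule.map p.primeCompl φ with hψ
  have hnot : LocalizedModule.mk n (1 : p.primeCompl) ∉ LinearMap.range ψ := by
    rintro ⟨y, hy⟩
    induction y using LocalizedModule.induction_on with
    | h m s =>
      rw [hψ, LocalizedModule.map_mk, LocalizedModule.mk_eq] at hy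
      obtain ⟨t, ht⟩ := hy
      simp only [one_smul] at ht
      have h1 : ((t : R) * (s : R)) • n ∈ LinearMap.range φ := by
        refine ⟨(t : R) • m, ?_⟩
        rw [map_smul, mul_smul]
        exact ht
      exact (t * s).2 (hmem _ h1)
  rcases h p with hb | ⟨hd, hass⟩
  · exact hnot (LinearMap.mem_range.2 (hb.2 _))
  · apply hass
    have hψinj : Function.Injective ψ := LocalizedModule.map_injective p.primeCompl φ hinj
    -- a regular pair
    obtain ⟨a, ha, b, hb, hreg1, hreg2⟩ := exists_pair
      (IsLocalRing.maximalIdeal (Localization.AtPrime p)) (LocalizedModule p.primeCompl M)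
      (by
        intro htop
        by_contra hns
        rw [not_subsingleton_iff_nontrivial] at hns
        exact smul_top_ne_top (Localization.AtPrime p) (LocalizedModule p.primeCompl M) htop) hd
    -- key claim
    have hkey : ∀ c ∈ IsLocalRing.maximalIdeal (Localization.AtPrime p),
        c • LocalizedModule.mk n (1 : p.primeCompl) ∈ LinearMap.range ψ := by
      intro c hc
      obtain ⟨c', s, rfl⟩ := IsLocalization.exists_mk'_eq p.primeCompl c
      rw [IsLocalization.AtPrime.mk'_mem_maximal_iff (Localization.AtPrime p) p] at hc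
      obtain ⟨m, hm⟩ := hmem' c' hc
      refine ⟨LocalizedModule.mk m (s * 1), ?_⟩
      rw [hψ, LocalizedModule.map_mk, hm, ← Localization.mk_eq_mk'_apply,
        LocalizedModule.mk_smul_mk]
    obtain ⟨ma, hma⟩ := hkey a ha
    obtain ⟨mb, hmb⟩ := hkey b hb
    have h1 : b • ma = a • mb := by
      apply hψinj
      rw [map_smul, map_smul, hma, hmb, smul_smul, smul_smul, mul_comm]
    obtain ⟨u, hu⟩ := hreg2 ma mb h1
    set n' := LocalizedModule.mk n (1 : p.primeCompl) - ψ u with hn'
    have han' : a • n' = 0 := by
      rw [hn', smul_sub, ← map_smul, ← hu, hma, sub_self]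
    have hn'0 : n' ≠ 0 := by
      intro h0
      apply hnot
      rw [hn', sub_eq_zero] at h0
      exact ⟨u, h0.symm⟩
    have hkill : ∀ c ∈ IsLocalRing.maximalIdeal (Localization.AtPrime p), c • n' = 0 := by
      intro c hc
      obtain ⟨w0, hw0⟩ := hkey c hc
      have hw : c • n' = ψ (w0 - c • u) := by
        rw [hn', smul_sub, map_sub, map_smul, hw0]
      have h2 : ψ (a • (w0 - c • u)) = 0 := by
        rw [map_smul, ← hw, smul_smul, mul_comm, ← smul_smul, han', smul_zero]
      have h3 : a • (w0 - c • u) = 0 := hψinj (h2.trans (map_zero _).symm)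
      rw [hw, hreg1 _ h3, map_zero]
    -- maximal ideal is associated to N_p
    have hassloc : IsLocalRing.maximalIdeal (Localization.AtPrime p) ∈
        associatedPrimes (Localization.AtPrime p) (LocalizedModule p.primeCompl N) := by
      rw [AssociatedPrimes.mem_iff, isAssociatedPrime_iff]
      refine ⟨inferInstance, n', ?_⟩
      ext c
      rw [Submodule.mem_colon_singleton, Submodule.mem_bot]
      constructor
      · exact hkill c
      · intro hc
        by_contra hcm
        have hu : IsUnit c := by
          by_contra hnu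
          exact hcm ((IsLocalRing.mem_maximalIdeal c).2 hnu)
        exact hn'0 ((hu.smul_eq_zero).1 hc)
    have := Module.associatedPrimes.comap_mem_associatedPrimes_of_mem_associatedPrimes_of_isLocalizedModule_of_fg
      p.primeCompl (LocalizedModule.mkLinearMap p.primeCompl N)
      (IsLocalRing.maximalIdeal (Localization.AtPrime p)) hassloc
      ((isNoetherianRing_iff_ideal_fg R).mp ‹_› _)
    rwa [← Ideal.under_def, IsLocalization.AtPrime.under_maximalIdeal (Localization.AtPrime p) p]
      at this

theorem s2090 [Module.Finite R M] : Function.Bijective φ :=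
  ⟨injective_of φ h, surjective_of φ h⟩

end main

end Groth.Agent.Helper8.BijDepth
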