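import Mathlib
import Groth.Prelude.Def_CAlg
import Groth.Agent.Helper8.ReflLoc
import Groth.Agent.Helper8.BijDepth
set_option autoImplicit false


namespace Groth.Agent.Helper8.ReflDepth

open Groth.Agent.Helper8.ReflLoc

universe u

variable (R : Type u) [CommRing R] [IsDomain R] [IsNoetherianRing R] (M : Type u) [AddCommGroup M]
  [Module R M] [Module.Finite R M]

/-- If `M_p` is reflexive then the localisation of `eval` is bijective. -/
theorem bijective_map_eval (p : Ideal R) [p.IsPrime]
    (hrefl : Module.IsReflexive (Localization.AtPrime p) (LocalizedModule p.primeCompl M)) :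
    Function.Bijective (LocalizedModule.map p.primeCompl (Module.Dual.eval R M)) := by
  have : Module.FinitePresentation R M := Module.finitePresentation_of_finite R M
  have : Module.FinitePresentation R (Module.Dual R M) := Module.finitePresentation_of_finite R _
  set S := p.primeCompl
  set f := LocalizedModule.mkLinearMap S M
  set g1 := LocalizedModule.mkLinearMap S (Module.Dual R (Module.Dual R M))
  set g2 := d2 S (Localization.AtPrime p) f
  let e := IsLocalizedModule.linearEquiv S g1 g2
  have hcomp : e.toLinearMap ∘ₗ IsLocalizedModule.map S f g1 (Module.Dual.eval R M) =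
      IsLocalizedModule.map S f g2 (Module.Dual.eval R M) := by
    apply IsLocalizedModule.linearMap_ext S f g2
    refine LinearMap.ext fun m => ?_
    simp only [LinearMap.coe_comp, LinearEquiv.coe_coe, Function.comp_apply,
      IsLocalizedModule.map_apply]
    exact IsLocalizedModule.linearEquiv_apply S g1 g2 _
  rw [map_eval] at hcomp
  have hb : Function.Bijective (IsLocalizedModule.map S f g1 (Module.Dual.eval R M)) := by
    have h1 : Function.Bijective (e.toLinearMap ∘ₗ
        IsLocalizedModule.map S f g1 (Module.Dual.eval R M)) := by
      rw [hcomp]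
      exact hrefl.bijective_dual_eval'
    have h2 : (IsLocalizedModule.map S f g1 (Module.Dual.eval R M) : _ → _) =
        e.symm ∘ (e.toLinearMap ∘ₗ IsLocalizedModule.map S f g1 (Module.Dual.eval R M)) := by
      funext x
      simp
    rw [h2]
    exact e.symm.bijective.comp h1
  exact hb


/-- the double dual is torsion free, so its associated primes are `⊥`. -/
theorem ass_dual_eq_bot (N : Type u) [AddCommGroup N] [Module R N] (p : Ideal R)
    (hp : p ∈ associatedPrimes R (Module.Dual R N)) : p = ⊥ := by
  rw [AssociatedPrimes.mem_iff, isAssociatedPrime_iff] at hp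
  obtain ⟨hprime, f, hf⟩ := hp
  have hf0 : f ≠ 0 := by
    rintro rfl
    have : (1 : R) ∈ p := by
      rw [hf, Submodule.mem_colon_singleton]; simp
    exact (Ideal.ne_top_iff_one _).mp hprime.ne_top this
  rw [eq_bot_iff]
  intro r hr
  rw [hf, Submodule.mem_colon_singleton, Submodule.mem_bot] at hr
  rw [Submodule.mem_bot]
  by_contra hr0
  apply hf0
  ext x
  have := LinearMap.congr_fun hr x
  simp only [LinearMap.smul_apply, smul_eq_mul, LinearMap.zero_apply, mul_eq_zero] at this
  exact this.resolve_left hr0

theorem reflexive_bot (p : Ideal R) [p.IsPrime] (hp : p = ⊥) :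
    Module.IsReflexive (Localization.AtPrime p) (LocalizedModule p.primeCompl M) := by
  have hmax : IsLocalRing.maximalIdeal (Localization.AtPrime p) = ⊥ := by
    rw [← Localization.AtPrime.map_eq_maximalIdeal, eq_bot_iff, Ideal.map_le_iff_le_comap]
    intro x hx
    rw [hp, Submodule.mem_bot] at hx
    rw [hx]
    exact Ideal.zero_mem _
  have hfield : IsField (Localization.AtPrime p) :=
    IsLocalRing.isField_iff_maximalIdeal_eq.2 hmax
  let _ := hfield.toField
  infer_instance

theorem s6879 :
    Module.IsReflexive R M ↔ ∀ (p : Ideal R) [p.IsPrime],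
      Module.IsReflexive (Localization.AtPrime p) (LocalizedModule p.primeCompl M) ∨
        2 ≤ LocCoh.depth (Localization.AtPrime p) (LocalizedModule p.primeCompl M) := by
  constructor
  · intro h p _
    exact Or.inl ((ReflLoc.s6871 R M).1.1 h p)
  · intro h
    constructor
    apply BijDepth.s2090 (Module.Dual.eval R M)
    intro p _
    rcases h p with h1 | h2
    · exact Or.inl (bijective_map_eval R M p h1)
    · by_cases hp : p ∈ associatedPrimes R (Module.Dual R (Module.Dual R M))
      · exact Or.inl (bijective_map_eval R M p
          (reflexive_bot R M p (ass_dual_eq_bot R (Module.Dual R M) p hp)))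
      · exact Or.inr ⟨h2, hp⟩

end Groth.Agent.Helper8.ReflDepth
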