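import Groth.Agent.Helper1.CechBasic

/-!
# The Čech complex of a single object: components, extra degeneracy

For an object `X` of a category `D` with finite products and a presheaf of abelian groups `P`,
the Čech complex of the one-member family `X` has terms `P (X^{n+1})`.  We describe it by
components, show that for presheaves of the form `P (X × -)` the complex is exact in positive
degrees (extra degeneracy), and transfer exactness along natural transformations which are
bijective on the powers of `X`.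
-/

namespace Groth.Agent.Helper8.CechED

open CategoryTheory Limits Opposite
open Groth.Agent.Helper1.Cech

universe w v u

variable {D : Type u} [Category.{v} D] [HasFiniteProducts D] (X : D)

/-- the constant family on `PUnit` -/
abbrev UX : PUnit.{w + 1} → D := fun _ => X

/-- the unique index -/
abbrev x0 (n : ℕ) : Fin (n + 1) → PUnit.{w + 1} := fun _ => PUnit.unit

/-- the `(n+1)`-fold power of `X` -/
noncomputable abbrev T (n : ℕ) : D := ∏ᶜ (fun _ : Fin (n + 1) => X)

/-- the `j`-th face `X^{n+2} → X^{n+1}` -/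
noncomputable def fc (n : ℕ) (j : Fin (n + 2)) : T X (n + 1) ⟶ T X n :=
  Pi.lift (fun k => Pi.π (fun _ : Fin (n + 2) => X) (j.succAbove k))

@[reassoc]
lemma fc_π (n : ℕ) (j : Fin (n + 2)) (k : Fin (n + 1)) :
    fc X n j ≫ Pi.π (fun _ : Fin (n + 1) => X) k =
      Pi.π (fun _ : Fin (n + 2) => X) (j.succAbove k) := by
  unfold fc
  exact Pi.lift_π _ _

lemma face_eq (n : ℕ) (j : Fin (n + 2)) :
    face (UX.{w} X) j (x0 (n + 1)) = fc X n j := rfl

variable {X}
variable (P : Dᵒᵖ ⥤ AddCommGrpCat.{w})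

/-- the Čech differential in components -/
noncomputable def dC (n : ℕ) : P.obj (op (T X n)) →+ P.obj (op (T X (n + 1))) :=
  ∑ j : Fin (n + 2), (-1 : ℤ) ^ (j : ℕ) • (P.map (fc X n j).op).hom

lemma dC_apply (n : ℕ) (y : P.obj (op (T X n))) :
    dC P n y = ∑ j : Fin (n + 2), (-1 : ℤ) ^ (j : ℕ) • P.map (fc X n j).op y := by
  unfold dC
  rw [AddMonoidHom.finset_sum_apply]
  rfl

/-- the differential of the Čech complex in components -/
lemma comp_d_eq (n : ℕ) (c : (cx (UX.{w} X) P).X n) :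
    comp (UX.{w} X) P (n + 1) (x0 (n + 1)) ((cx (UX.{w} X) P).d n (n + 1) c) =
      dC P n (comp (UX.{w} X) P n (x0 n) c) := by
  rw [comp_d, dC_apply]
  rfl

lemma ext0 {n : ℕ} {c c' : (cx (UX.{w} X) P).X n}
    (h : comp (UX.{w} X) P n (x0 n) c = comp (UX.{w} X) P n (x0 n) c') : c = c' := by
  apply ext
  intro x
  obtain rfl : x = x0 n := Subsingleton.elim _ _
  exact h

/-- the cochain with a given component -/
noncomputable def mk0 {n : ℕ} (y : P.obj (op (T X n))) : (cx (UX.{w} X) P).X n :=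
  mk (fun _ => y)

lemma comp_mk0 {n : ℕ} (y : P.obj (op (T X n))) :
    comp (UX.{w} X) P n (x0 n) (mk0 P y) = y :=
  comp_mk _ _

lemma dC_dC (n : ℕ) (y : P.obj (op (T X n))) : dC P (n + 1) (dC P n y) = 0 := by
  have h1 := comp_d_eq P n (mk0 P y)
  rw [comp_mk0] at h1
  rw [← h1, ← comp_d_eq]
  have h2 : (cx (UX.{w} X) P).d (n + 1) (n + 1 + 1) ((cx (UX.{w} X) P).d n (n + 1) (mk0 P y)) = 0 := by
    rw [← ConcreteCategory.comp_apply, HomologicalComplex.d_comp_d]
    rfl
  rw [h2, map_zero]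

/-- exactness of the Čech complex in degree `n+1` from exactness in components -/
theorem exactAt_of_comp (n : ℕ)
    (h : ∀ c₀ : P.obj (op (T X (n + 1))), dC P (n + 1) c₀ = 0 → ∃ b₀, dC P n b₀ = c₀) :
    (cx (UX.{w} X) P).ExactAt (n + 1) := by
  rw [HomologicalComplex.exactAt_iff_isZero_homology]
  apply isZero_homology_of_exists
  intro c hc
  obtain ⟨b₀, hb₀⟩ := h (comp (UX.{w} X) P (n + 1) (x0 (n + 1)) c) (by
    rw [← comp_d_eq, hc, map_zero])
  refine ⟨mk0 P b₀, ?_⟩
  apply ext0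
  rw [comp_d_eq, comp_mk0, hb₀]

/-- naturality of the component differential -/
lemma dC_natural {P₁ P₂ : Dᵒᵖ ⥤ AddCommGrpCat.{w}} (Φ : P₁ ⟶ P₂) (n : ℕ)
    (y : P₁.obj (op (T X n))) :
    Φ.app (op (T X (n + 1))) (dC P₁ n y) = dC P₂ n (Φ.app (op (T X n)) y) := by
  rw [dC_apply, dC_apply, map_sum]
  refine Finset.sum_congr rfl (fun j _ => ?_)
  rw [map_zsmul]
  congr 1
  exact NatTrans.naturality_apply Φ (fc X n j).op y

/-- transfer of exactness in components along a natural transformation which is bijective on the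
powers of `X` -/
theorem transfer {P₁ P₂ : Dᵒᵖ ⥤ AddCommGrpCat.{w}} (Φ : P₁ ⟶ P₂)
    (hΦ : ∀ n, Function.Bijective (Φ.app (op (T X n)))) (n : ℕ)
    (h : ∀ c₀ : P₁.obj (op (T X (n + 1))), dC P₁ (n + 1) c₀ = 0 → ∃ b₀, dC P₁ n b₀ = c₀) :
    ∀ c₀ : P₂.obj (op (T X (n + 1))), dC P₂ (n + 1) c₀ = 0 → ∃ b₀, dC P₂ n b₀ = c₀ := by
  intro p hp
  obtain ⟨c, rfl⟩ := (hΦ (n + 1)).2 p
  have hc : dC P₁ (n + 1) c = 0 := by
    apply (hΦ (n + 1 + 1)).1
    rw [dC_natural, hp, map_zero]
  obtain ⟨b, hb⟩ := h c hc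
  exact ⟨Φ.app (op (T X n)) b, by rw [← dC_natural, hb]⟩

section ExtraDegeneracy

variable (X)

/-- the extra degeneracy `(x, y) ↦ (x, (x, y))` -/
noncomputable def sdeg (n : ℕ) : X ⨯ T X n ⟶ X ⨯ T X (n + 1) :=
  prod.lift prod.fst (Pi.lift (fun i : Fin (n + 2) =>
    Fin.cases (motive := fun _ => (X ⨯ T X n ⟶ X)) prod.fst
      (fun k => prod.snd ≫ Pi.π (fun _ : Fin (n + 1) => X) k) i))

@[reassoc]
lemma sdeg_fst (n : ℕ) : sdeg X n ≫ prod.fst = prod.fst := by
  unfold sdeg
  exact prod.lift_fst _ _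

@[reassoc]
lemma sdeg_snd_π_zero (n : ℕ) :
    sdeg X n ≫ prod.snd ≫ Pi.π (fun _ : Fin (n + 2) => X) 0 = prod.fst := by
  unfold sdeg
  rw [prod.lift_snd_assoc]
  exact Pi.lift_π _ _

@[reassoc]
lemma sdeg_snd_π_succ (n : ℕ) (k : Fin (n + 1)) :
    sdeg X n ≫ prod.snd ≫ Pi.π (fun _ : Fin (n + 2) => X) k.succ =
      prod.snd ≫ Pi.π (fun _ : Fin (n + 1) => X) k := by
  unfold sdeg
  rw [prod.lift_snd_assoc]
  exact Pi.lift_π _ _

lemma sdeg_face_zero (n : ℕ) : sdeg X n ≫ prod.map (𝟙 X) (fc X n 0) = 𝟙 _ := by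
  apply Limits.prod.hom_ext
  · rw [Category.assoc, prod.map_fst, Category.comp_id, sdeg_fst, Category.id_comp]
  · rw [Category.assoc, prod.map_snd, Category.id_comp]
    apply Pi.hom_ext
    intro k
    rw [Category.assoc, Category.assoc, fc_π, Fin.succAbove_zero]
    exact sdeg_snd_π_succ X n k

lemma sdeg_face_succ (n : ℕ) (j : Fin (n + 2)) :
    sdeg X (n + 1) ≫ prod.map (𝟙 X) (fc X (n + 1) j.succ) =
      prod.map (𝟙 X) (fc X n j) ≫ sdeg X n := by
  apply Limits.prod.hom_ext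
  · rw [Category.assoc, prod.map_fst, Category.comp_id, sdeg_fst, Category.assoc, sdeg_fst,
      prod.map_fst, Category.comp_id]
  · rw [Category.assoc, prod.map_snd, Category.assoc]
    apply Pi.hom_ext
    intro k
    rw [Category.assoc, Category.assoc, fc_π, Category.assoc, Category.assoc]
    induction k using Fin.cases with
    | zero =>
      rw [Fin.succ_succAbove_zero, sdeg_snd_π_zero, sdeg_snd_π_zero, prod.map_fst,
        Category.comp_id]
    | succ k =>
      rw [Fin.succ_succAbove_succ, sdeg_snd_π_succ, sdeg_snd_π_succ, prod.map_snd_assoc, fc_π]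

/-- `X × X^{n+1} ≅ X^{n+2}` -/
noncomputable def kappa (n : ℕ) : X ⨯ T X n ≅ T X (n + 1) where
  hom := sdeg X n ≫ prod.snd
  inv := prod.lift (Pi.π (fun _ : Fin (n + 2) => X) 0)
    (Pi.lift (fun k : Fin (n + 1) => Pi.π (fun _ : Fin (n + 2) => X) k.succ))
  hom_inv_id := by
    apply Limits.prod.hom_ext
    · rw [Category.assoc, prod.lift_fst, Category.assoc, sdeg_snd_π_zero, Category.id_comp]
    · rw [Category.assoc, prod.lift_snd, Category.id_comp]
      apply Pi.hom_ext
      intro k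
      rw [Category.assoc, Category.assoc, Pi.lift_π, sdeg_snd_π_succ]
  inv_hom_id := by
    apply Pi.hom_ext
    intro k
    rw [Category.id_comp, Category.assoc, Category.assoc]
    induction k using Fin.cases with
    | zero => rw [sdeg_snd_π_zero, prod.lift_fst]
    | succ k => rw [sdeg_snd_π_succ, prod.lift_snd_assoc, Pi.lift_π]

/-- induction principle for properties of the powers of `X` -/
theorem prop_T (Pr : D → Prop) (hiso : ∀ {A B : D}, (A ≅ B) → Pr A → Pr B) (h0 : Pr X)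
    (hs : ∀ A, Pr A → Pr (X ⨯ A)) : ∀ n, Pr (T X n)
  | 0 => hiso (productUniqueIso (fun _ : Fin 1 => X)).symm h0
  | n + 1 => hiso (kappa X n) (hs _ (prop_T Pr hiso h0 hs n))

variable {X}

/-- the presheaf `T ↦ P (X × T)` -/
noncomputable abbrev Qp : Dᵒᵖ ⥤ AddCommGrpCat.{w} := (prod.functor.obj X).op ⋙ P

lemma map_map_apply {A B C : D} (f : A ⟶ B) (g : B ⟶ C) (y : P.obj (op C)) :
    P.map f.op (P.map g.op y) = P.map (f ≫ g).op y := by
  rw [op_comp, P.map_comp]
  rfl

/-- pulling back along the extra degeneracy, as a map of the values of `Qp P` -/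
noncomputable def sH (n : ℕ) :
    (Qp (X := X) P).obj (op (T X (n + 1))) →+ (Qp (X := X) P).obj (op (T X n)) :=
  (P.map (sdeg X n).op).hom

lemma sH_face_zero (n : ℕ) (w₀ : (Qp (X := X) P).obj (op (T X n))) :
    sH P n ((Qp (X := X) P).map (fc X n 0).op w₀) = w₀ := by
  change P.map (sdeg X n).op (P.map (prod.map (𝟙 X) (fc X n 0)).op w₀) = w₀
  rw [map_map_apply, sdeg_face_zero]
  simp

lemma sH_face_succ (n : ℕ) (i : Fin (n + 2)) (w₀ : (Qp (X := X) P).obj (op (T X (n + 1)))) :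
    sH P (n + 1) ((Qp (X := X) P).map (fc X (n + 1) i.succ).op w₀) =
      (Qp (X := X) P).map (fc X n i).op (sH P n w₀) := by
  change P.map (sdeg X (n + 1)).op (P.map (prod.map (𝟙 X) (fc X (n + 1) i.succ)).op w₀) =
    P.map (prod.map (𝟙 X) (fc X n i)).op (P.map (sdeg X n).op w₀)
  rw [map_map_apply, map_map_apply, sdeg_face_succ]

/-- extra degeneracy: the Čech complex of `P (X × -)` is exact in positive degrees -/
theorem extraDeg (n : ℕ) (w₀ : (Qp (X := X) P).obj (op (T X (n + 1))))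
    (hw : dC (Qp (X := X) P) (n + 1) w₀ = 0) :
    dC (Qp (X := X) P) n (sH P n w₀) = w₀ := by
  have h1 := congrArg (sH P (n + 1)) hw
  rw [map_zero, dC_apply, map_sum, Fin.sum_univ_succ] at h1
  rw [dC_apply]
  have e0 : sH P (n + 1)
      ((-1 : ℤ) ^ ((0 : Fin (n + 1 + 2)) : ℕ) • (Qp (X := X) P).map (fc X (n + 1) 0).op w₀) = w₀ := by
    rw [Fin.val_zero, pow_zero, one_smul, sH_face_zero]
  have es : ∀ i : Fin (n + 2), sH P (n + 1)
      ((-1 : ℤ) ^ ((i.succ : Fin (n + 1 + 2)) : ℕ) • (Qp (X := X) P).map (fc X (n + 1) i.succ).op w₀) =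
      - ((-1 : ℤ) ^ (i : ℕ) • (Qp (X := X) P).map (fc X n i).op (sH P n w₀)) := by
    intro i
    rw [map_zsmul, Fin.val_succ, pow_succ, mul_neg_one, neg_smul, sH_face_succ]
  rw [e0, Finset.sum_congr rfl (fun i _ => es i), Finset.sum_neg_distrib] at h1
  exact (neg_add_eq_zero.1 ((add_comm _ _).trans h1))

end ExtraDegeneracy

end Groth.Agent.Helper8.CechED
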