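import Groth.Agent.Helper8.CechED
import Groth.Prelude.Def_Adeq

/-!
# The presheaf `W ↦ Γ(W) ⊗_R N` on schemes over `Spec R` and faithfully flat descent of exactness
-/

namespace Groth.Agent.Helper8.CechFF

open CategoryTheory Limits Opposite AlgebraicGeometry TensorProduct
open Adeq
open Groth.Agent.Helper8.CechED

universe u

section Descent

variable {R : Type*} [CommRing R] {B : Type*} [AddCommGroup B] [Module R B]
  [Module.FaithfullyFlat R B]
  {M1 M2 M3 : Type*} [AddCommGroup M1] [Module R M1] [AddCommGroup M2] [Module R M2]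
  [AddCommGroup M3] [Module R M3]
  (d1 : M1 →ₗ[R] M2) (d2 : M2 →ₗ[R] M3)
  {Q1 Q2 Q3 : Type*} [AddCommGroup Q1] [AddCommGroup Q2] [AddCommGroup Q3]
  (e1 : B ⊗[R] M1 →+ Q1) (e2 : B ⊗[R] M2 →+ Q2) (e3 : B ⊗[R] M3 →+ Q3)
  (δ1 : Q1 →+ Q2) (δ2 : Q2 →+ Q3)

/-- descent of exactness along a faithfully flat module, with the tensored complex identified
with another exact one -/
theorem exact_of_lTensor (h0 : ∀ y, d2 (d1 y) = 0)
    (c1 : ∀ z, e2 (d1.lTensor B z) = δ1 (e1 z)) (c2 : ∀ z, e3 (d2.lTensor B z) = δ2 (e2 z))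
    (hs : Function.Surjective e1) (hi : Function.Injective e2)
    (hex : ∀ w, δ2 w = 0 → ∃ v, δ1 v = w) : Function.Exact d1 d2 := by
  apply Module.FaithfullyFlat.lTensor_reflects_exact R B
  intro z
  constructor
  · intro hz
    have h1 : δ2 (e2 z) = 0 := by rw [← c2, hz, map_zero]
    obtain ⟨v, hv⟩ := hex _ h1
    obtain ⟨v', rfl⟩ := hs v
    exact ⟨v', hi (by rw [c1, hv])⟩
  · rintro ⟨v, rfl⟩
    have h : d2 ∘ₗ d1 = 0 := LinearMap.ext h0
    rw [← LinearMap.comp_apply, ← LinearMap.lTensor_comp, h, LinearMap.lTensor_zero,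
      LinearMap.zero_apply]

end Descent

variable {R : CommRingCat.{u}}

/-- the `R`-algebra structure on the global functions of an object over `Spec R` -/
@[instance_reducible]
noncomputable def algO (W : Over (Spec R)) : Algebra R Γ(W.left, ⊤) :=
  ((Scheme.ΓSpecIso R).inv ≫ W.hom.appTop).hom.toAlgebra

/-- the `R`-algebra of global functions of an object over `Spec R` -/
noncomputable def Gam0 (W : Over (Spec R)) : Alg R :=
  @CommAlgCat.of R _ Γ(W.left, ⊤) _ (algO W)

lemma algebraMap_Gam0 (W : Over (Spec R)) (r : R) :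
    algebraMap R (Gam0 W) r = W.hom.appTop.hom ((Scheme.ΓSpecIso R).inv.hom r) := rfl

/-- pullback of functions along a morphism over `Spec R` -/
noncomputable def pbA {W W' : Over (Spec R)} (g : W' ⟶ W) : Gam0 W →ₐ[R] Gam0 W' where
  toRingHom := g.left.appTop.hom
  commutes' := fun r => by
    change g.left.appTop.hom (W.hom.appTop.hom ((Scheme.ΓSpecIso R).inv.hom r)) =
      W'.hom.appTop.hom ((Scheme.ΓSpecIso R).inv.hom r)
    rw [← Over.w g, Scheme.Hom.comp_appTop]
    rfl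

lemma pbA_apply {W W' : Over (Spec R)} (g : W' ⟶ W) (s : Gam0 W) :
    pbA g s = g.left.appTop.hom s := rfl

lemma pbA_id (W : Over (Spec R)) : pbA (𝟙 W) = AlgHom.id R (Gam0 W) := by
  apply AlgHom.ext
  intro s
  change (𝟙 W.left : W.left ⟶ W.left).appTop.hom s = s
  rw [Scheme.Hom.id_appTop]
  rfl

lemma pbA_comp {W W' W'' : Over (Spec R)} (g' : W'' ⟶ W') (g : W' ⟶ W) :
    pbA (g' ≫ g) = (pbA g').comp (pbA g) := by
  apply AlgHom.ext
  intro s
  change (g'.left ≫ g.left).appTop.hom s = g'.left.appTop.hom (g.left.appTop.hom s)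
  rw [Scheme.Hom.comp_appTop]
  rfl

lemma pbA_comp_apply {W W' W'' : Over (Spec R)} (g' : W'' ⟶ W') (g : W' ⟶ W) (s : Gam0 W) :
    pbA g' (pbA g s) = pbA (g' ≫ g) s := by
  rw [pbA_comp]
  rfl

/-- global functions as a functor to `R`-algebras -/
noncomputable def Gam : (Over (Spec R))ᵒᵖ ⥤ Alg R where
  obj W := Gam0 W.unop
  map {W W'} g := ConcreteCategory.ofHom (C := Alg R) (X := Gam0 W.unop) (Y := Gam0 W'.unop)
    (pbA g.unop)
  map_id W := by
    apply CommAlgCat.hom_ext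
    exact pbA_id W.unop
  map_comp g g' := by
    apply CommAlgCat.hom_ext
    exact pbA_comp g'.unop g.unop

/-- the presheaf `W ↦ Γ(W) ⊗_R N` -/
noncomputable def GN (N : ModuleCat.{u + 1} R) : (Over (Spec R))ᵒᵖ ⥤ AddCommGrpCat.{u + 1} :=
  Gam ⋙ opOp (Alg R) ⋙ underlineAb R N

lemma GN_map_apply (N : ModuleCat.{u + 1} R) {W W' : Over (Spec R)} (g : W' ⟶ W)
    (z : Gam0 W ⊗[R] N) :
    (GN N).map g.op z = (pbA g).toLinearMap.rTensor N z := rfl

variable (B : Type u) [CommRing B] [Algebra R B]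

/-- `Spec B` over `Spec R` -/
noncomputable abbrev XB : Over (Spec R) :=
  Over.mk (Spec.map (CommRingCat.ofHom (algebraMap R B)))

/-- the canonical identification of `B` with the functions on `Spec B` -/
noncomputable def canB : B →ₐ[R] Gam0 (XB (R := R) B) where
  toRingHom := (Scheme.ΓSpecIso (CommRingCat.of B)).inv.hom
  commutes' := fun r => by
    change (Scheme.ΓSpecIso (CommRingCat.of B)).inv.hom (algebraMap R B r) =
      (Spec.map (CommRingCat.ofHom (algebraMap R B))).appTop.hom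
        ((Scheme.ΓSpecIso R).inv.hom r)
    exact ConcreteCategory.congr_hom
      (Scheme.ΓSpecIso_inv_naturality (CommRingCat.ofHom (algebraMap R B))) r

lemma canB_bijective : Function.Bijective (canB (R := R) B) :=
  ConcreteCategory.bijective_of_isIso (Scheme.ΓSpecIso (CommRingCat.of B)).inv

/-- functions of `B` pulled back to `Spec B × T` -/
noncomputable def fstA (T : Over (Spec R)) : B →ₐ[R] Gam0 (XB (R := R) B ⨯ T) :=
  (pbA (prod.fst : XB (R := R) B ⨯ T ⟶ XB (R := R) B)).comp (canB B)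

/-- functions of `T` pulled back to `Spec B × T` -/
noncomputable def sndA (T : Over (Spec R)) : Gam0 T →ₐ[R] Gam0 (XB (R := R) B ⨯ T) :=
  pbA (prod.snd : XB (R := R) B ⨯ T ⟶ T)

/-- `B ⊗ Γ(T) → Γ(Spec B × T)` -/
noncomputable def mu (T : Over (Spec R)) : B ⊗[R] Gam0 T →ₐ[R] Gam0 (XB (R := R) B ⨯ T) :=
  Algebra.TensorProduct.productMap (fstA B T) (sndA B T)

lemma mu_tmul (T : Over (Spec R)) (b : B) (s : Gam0 T) :
    mu B T (b ⊗ₜ s) = fstA B T b * sndA B T s := rfl

lemma fstA_natural {T T' : Over (Spec R)} (g : T' ⟶ T) (b : B) :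
    pbA (prod.map (𝟙 (XB (R := R) B)) g) (fstA B T b) = fstA B T' b := by
  unfold fstA
  rw [AlgHom.comp_apply, AlgHom.comp_apply, pbA_comp_apply, prod.map_fst, Category.comp_id]

lemma sndA_natural {T T' : Over (Spec R)} (g : T' ⟶ T) (s : Gam0 T) :
    pbA (prod.map (𝟙 (XB (R := R) B)) g) (sndA B T s) = sndA B T' (pbA g s) := by
  unfold sndA
  rw [pbA_comp_apply, pbA_comp_apply, prod.map_snd]

lemma mu_natural {T T' : Over (Spec R)} (g : T' ⟶ T) (z : B ⊗[R] Gam0 T) :
    pbA (prod.map (𝟙 (XB (R := R) B)) g) (mu B T z) =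
      mu B T' ((pbA g).toLinearMap.lTensor B z) := by
  induction z using TensorProduct.induction_on with
  | zero => simp
  | tmul b s =>
    rw [mu_tmul, map_mul, fstA_natural, sndA_natural, LinearMap.lTensor_tmul, mu_tmul]
    rfl
  | add z z' h h' => rw [map_add, map_add, h, h', map_add, map_add]

omit [Algebra R B] [CommRing B] in
lemma toSpecΓ_algebraMap (W : Over (Spec R)) :
    W.left.toSpecΓ ≫ Spec.map ((Scheme.ΓSpecIso R).inv ≫ W.hom.appTop) = W.hom := by
  rw [Spec.map_comp, ← Scheme.toSpecΓ_naturality_assoc, toSpecΓ_SpecMap_ΓSpecIso_inv,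
    Category.comp_id]

/-- `B ⊗ Γ(T) → Γ(Spec B × T)` is bijective for affine `T` -/
theorem mu_bijective (T : Over (Spec R)) [IsAffine T.left] : Function.Bijective (mu B T) := by
  letI : Algebra R Γ(T.left, ⊤) := algO T
  have H1 : IsPullback (prod.fst : XB (R := R) B ⨯ T ⟶ XB (R := R) B).left
      (prod.snd : XB (R := R) B ⨯ T ⟶ T).left (XB (R := R) B).hom T.hom :=
    Over.isPullback_of_binaryFan_isLimit _ (limit.isLimit (pair (XB (R := R) B) T))
  have H2 : IsPullback (prod.fst : XB (R := R) B ⨯ T ⟶ XB (R := R) B).left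
      ((prod.snd : XB (R := R) B ⨯ T ⟶ T).left ≫ T.left.toSpecΓ)
      (Spec.map (CommRingCat.ofHom (algebraMap R B)))
      (Spec.map ((Scheme.ΓSpecIso R).inv ≫ T.hom.appTop)) :=
    H1.of_iso (Iso.refl _) (Iso.refl _) T.left.isoSpec (Iso.refl _) (by simp)
      (by simp [Scheme.isoSpec_hom]) (by simp)
      (by
        rw [Iso.refl_hom, Category.comp_id, Scheme.isoSpec_hom]
        exact (toSpecΓ_algebraMap T).symm)
  have H3 : IsPullback
      (Spec.map (CommRingCat.ofHom
        (Algebra.TensorProduct.includeLeftRingHom : B →+* B ⊗[R] Γ(T.left, ⊤))))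
      (Spec.map (CommRingCat.ofHom
        (Algebra.TensorProduct.includeRight : Γ(T.left, ⊤) →ₐ[R] B ⊗[R] Γ(T.left, ⊤)).toRingHom))
      (Spec.map (CommRingCat.ofHom (algebraMap R B)))
      (Spec.map ((Scheme.ΓSpecIso R).inv ≫ T.hom.appTop)) :=
    isPullback_SpecMap_of_isPushout _ _ _ _
      (CommRingCat.isPushout_tensorProduct R B Γ(T.left, ⊤))
  obtain ⟨e, he1, he2⟩ :
      ∃ e : (XB (R := R) B ⨯ T).left ≅ Spec (CommRingCat.of (B ⊗[R] Γ(T.left, ⊤))),
      e.hom ≫ Spec.map (CommRingCat.ofHom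
        (Algebra.TensorProduct.includeLeftRingHom : B →+* B ⊗[R] Γ(T.left, ⊤))) =
        (prod.fst : XB (R := R) B ⨯ T ⟶ XB (R := R) B).left ∧
      e.hom ≫ Spec.map (CommRingCat.ofHom
        (Algebra.TensorProduct.includeRight :
          Γ(T.left, ⊤) →ₐ[R] B ⊗[R] Γ(T.left, ⊤)).toRingHom) =
        (prod.snd : XB (R := R) B ⨯ T ⟶ T).left ≫ T.left.toSpecΓ :=
    ⟨H2.isoIsPullback _ _ H3, H2.isoIsPullback_hom_fst _ _ H3, H2.isoIsPullback_hom_snd _ _ H3⟩
  -- the ring isomorphism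
  haveI : IsIso e.hom.appTop := inferInstanceAs (IsIso (e.hom.app ⊤))
  have hε : Function.Bijective
      ((Scheme.ΓSpecIso (CommRingCat.of (B ⊗[R] Γ(T.left, ⊤)))).inv ≫ e.hom.appTop) :=
    ConcreteCategory.bijective_of_isIso _
  have hl : ∀ b : B,
      ((Scheme.ΓSpecIso (CommRingCat.of (B ⊗[R] Γ(T.left, ⊤)))).inv ≫ e.hom.appTop)
      (b ⊗ₜ[R] (1 : Γ(T.left, ⊤))) = fstA B T b := by
    intro b
    have h1 := ConcreteCategory.congr_hom (Scheme.ΓSpecIso_inv_naturality (CommRingCat.ofHom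
        (Algebra.TensorProduct.includeLeftRingHom : B →+* B ⊗[R] Γ(T.left, ⊤)))) b
    have h2 : (Spec.map (CommRingCat.ofHom
        (Algebra.TensorProduct.includeLeftRingHom : B →+* B ⊗[R] Γ(T.left, ⊤)))).appTop ≫
          e.hom.appTop =
        (prod.fst : XB (R := R) B ⨯ T ⟶ XB (R := R) B).left.appTop := by
      rw [← Scheme.Hom.comp_appTop, he1]
    rw [CommRingCat.comp_apply, CommRingCat.comp_apply] at h1
    rw [CommRingCat.comp_apply]
    change e.hom.appTop ((Scheme.ΓSpecIso (CommRingCat.of (B ⊗[R] Γ(T.left, ⊤)))).inv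
      ((CommRingCat.ofHom
        (Algebra.TensorProduct.includeLeftRingHom : B →+* B ⊗[R] Γ(T.left, ⊤))) b)) = _
    rw [h1, ← CommRingCat.comp_apply, h2]
    rfl
  have hr : ∀ s : Γ(T.left, ⊤),
      ((Scheme.ΓSpecIso (CommRingCat.of (B ⊗[R] Γ(T.left, ⊤)))).inv ≫ e.hom.appTop)
      ((1 : B) ⊗ₜ[R] s) = sndA B T s := by
    intro s
    have h1 := ConcreteCategory.congr_hom (Scheme.ΓSpecIso_inv_naturality (CommRingCat.ofHom
        (Algebra.TensorProduct.includeRight :
          Γ(T.left, ⊤) →ₐ[R] B ⊗[R] Γ(T.left, ⊤)).toRingHom)) s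
    have h2 : (Spec.map (CommRingCat.ofHom
        (Algebra.TensorProduct.includeRight :
          Γ(T.left, ⊤) →ₐ[R] B ⊗[R] Γ(T.left, ⊤)).toRingHom)).appTop ≫ e.hom.appTop =
        (Scheme.ΓSpecIso Γ(T.left, ⊤)).hom ≫
          (prod.snd : XB (R := R) B ⨯ T ⟶ T).left.appTop := by
      rw [← Scheme.Hom.comp_appTop, he2, Scheme.Hom.comp_appTop, Scheme.toSpecΓ_appTop]
    rw [CommRingCat.comp_apply, CommRingCat.comp_apply] at h1
    rw [CommRingCat.comp_apply]
    change e.hom.appTop ((Scheme.ΓSpecIso (CommRingCat.of (B ⊗[R] Γ(T.left, ⊤)))).inv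
      ((CommRingCat.ofHom
        (Algebra.TensorProduct.includeRight :
          Γ(T.left, ⊤) →ₐ[R] B ⊗[R] Γ(T.left, ⊤)).toRingHom) s)) = _
    rw [h1, ← CommRingCat.comp_apply, h2]
    have h3 : (Scheme.ΓSpecIso Γ(T.left, ⊤)).hom ((Scheme.ΓSpecIso Γ(T.left, ⊤)).inv s) = s := by
      rw [← CommRingCat.comp_apply, Iso.inv_hom_id]
      rfl
    change (prod.snd : XB (R := R) B ⨯ T ⟶ T).left.appTop
      ((Scheme.ΓSpecIso Γ(T.left, ⊤)).hom ((Scheme.ΓSpecIso Γ(T.left, ⊤)).inv s)) =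
      (prod.snd : XB (R := R) B ⨯ T ⟶ T).left.appTop s
    rw [h3]
  have hmu : ∀ z : B ⊗[R] Γ(T.left, ⊤), mu B T z =
      ((Scheme.ΓSpecIso (CommRingCat.of (B ⊗[R] Γ(T.left, ⊤)))).inv ≫ e.hom.appTop) z := by
    intro z
    induction z using TensorProduct.induction_on with
    | zero => exact (map_zero (mu B T)).trans (map_zero _).symm
    | tmul b s =>
      have hbs : b ⊗ₜ[R] s = (b ⊗ₜ[R] (1 : Γ(T.left, ⊤))) * ((1 : B) ⊗ₜ[R] s) := by
        rw [Algebra.TensorProduct.tmul_mul_tmul, mul_one, one_mul]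
      rw [hbs, map_mul, hl, hr]
      exact (map_mul (mu B T) _ _).trans (by
        congr 1
        · exact (mu_tmul B T b 1).trans (by rw [map_one, mul_one])
        · exact (mu_tmul B T 1 s).trans (by rw [map_one, one_mul]))
    | add z z' h h' =>
      exact (map_add (mu B T) z z').trans ((congrArg₂ (· + ·) h h').trans (map_add _ z z').symm)
  constructor
  · intro z z' hz
    apply hε.1
    rw [← hmu, ← hmu]
    exact hz
  · intro y
    obtain ⟨z, hz⟩ := hε.2 y
    exact ⟨z, (hmu z).trans hz⟩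

section AffineFlat

omit [Algebra R B] [CommRing B] in
lemma pbA_bijective_of_iso {W W' : Over (Spec R)} (i : W ≅ W') :
    Function.Bijective (pbA i.hom) := by
  refine Function.bijective_iff_has_inverse.2 ⟨pbA i.inv, fun s => ?_, fun s => ?_⟩
  · rw [pbA_comp_apply, Iso.inv_hom_id, pbA_id]
    rfl
  · rw [pbA_comp_apply, Iso.hom_inv_id, pbA_id]
    rfl

/-- the property: affine with flat algebra of functions -/
def AffFlat (W : Over (Spec R)) : Prop := IsAffine W.left ∧ Module.Flat R (Gam0 W)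

omit [Algebra R B] [CommRing B] in
lemma affFlat_of_iso {W W' : Over (Spec R)} (i : W ≅ W') (h : AffFlat W) : AffFlat W' := by
  obtain ⟨h1, h2⟩ := h
  refine ⟨?_, ?_⟩
  · haveI : IsIso i.inv.left := (Over.forget _).map_isIso i.inv
    exact IsAffine.of_isIso i.inv.left
  · exact Module.Flat.of_linearEquiv
      (LinearEquiv.ofBijective (pbA i.hom).toLinearMap (pbA_bijective_of_iso i))

lemma affFlat_XB [Module.Flat R B] : AffFlat (XB (R := R) B) := by
  refine ⟨inferInstanceAs (IsAffine (Spec (CommRingCat.of B))), ?_⟩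
  exact Module.Flat.of_linearEquiv
    (LinearEquiv.ofBijective (canB (R := R) B).toLinearMap (canB_bijective B)).symm

lemma affFlat_prod [Module.Flat R B] (W : Over (Spec R)) (h : AffFlat W) :
    AffFlat (XB (R := R) B ⨯ W) := by
  obtain ⟨h1, h2⟩ := h
  haveI : IsAffine (XB (R := R) B).left := inferInstanceAs (IsAffine (Spec (CommRingCat.of B)))
  refine ⟨?_, ?_⟩
  · exact IsAffine.of_isIso (Over.prodLeftIsoPullback (XB (R := R) B) W).hom
  · exact Module.Flat.of_linearEquiv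
      (LinearEquiv.ofBijective (mu B W).toLinearMap (mu_bijective B W)).symm

lemma affFlat_T [Module.Flat R B] (n : ℕ) : AffFlat (T (XB (R := R) B) n) :=
  prop_T (XB (R := R) B) AffFlat (fun i h => affFlat_of_iso i h) (affFlat_XB B)
    (fun W h => affFlat_prod B W h) n

end AffineFlat

section ET

variable (N : ModuleCat.{u + 1} R)

/-- `B ⊗ (Γ(T) ⊗ N) → Γ(Spec B × T) ⊗ N` -/
noncomputable def eT (T : Over (Spec R)) :
    B ⊗[R] (Gam0 T ⊗[R] N) →ₗ[R] Gam0 (XB (R := R) B ⨯ T) ⊗[R] N :=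
  ((mu B T).toLinearMap.rTensor N) ∘ₗ (TensorProduct.assoc R B (Gam0 T) N).symm.toLinearMap

lemma eT_tmul (T : Over (Spec R)) (b : B) (s : Gam0 T) (m : N) :
    eT B N T (b ⊗ₜ (s ⊗ₜ m)) = (mu B T (b ⊗ₜ s)) ⊗ₜ m := by
  simp [eT]

theorem eT_bijective (T : Over (Spec R)) [IsAffine T.left] : Function.Bijective (eT B N T) := by
  have h1 : Function.Bijective ((mu B T).toLinearMap.rTensor N) :=
    (LinearEquiv.rTensor N (LinearEquiv.ofBijective (mu B T).toLinearMap
      (mu_bijective B T))).bijective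
  exact h1.comp (TensorProduct.assoc R B (Gam0 T) N).symm.bijective

lemma eT_natural {T T' : Over (Spec R)} (g : T' ⟶ T) (z : B ⊗[R] (Gam0 T ⊗[R] N)) :
    eT B N T' (((pbA g).toLinearMap.rTensor N).lTensor B z) =
      (pbA (prod.map (𝟙 (XB (R := R) B)) g)).toLinearMap.rTensor N (eT B N T z) := by
  induction z using TensorProduct.induction_on with
  | zero => simp
  | tmul b y =>
    induction y using TensorProduct.induction_on with
    | zero => simp
    | tmul s m =>
      rw [LinearMap.lTensor_tmul, LinearMap.rTensor_tmul, eT_tmul, eT_tmul,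
        LinearMap.rTensor_tmul, AlgHom.toLinearMap_apply, AlgHom.toLinearMap_apply, mu_natural,
        LinearMap.lTensor_tmul, AlgHom.toLinearMap_apply]
    | add y y' h h' =>
      rw [TensorProduct.tmul_add, map_add, map_add, map_add, map_add, h, h']
  | add z z' h h' => rw [map_add, map_add, map_add, map_add, h, h']

/-- the component differential of `GN N` as a linear map -/
noncomputable def DL (n : ℕ) :
    Gam0 (T (XB (R := R) B) n) ⊗[R] N →ₗ[R] Gam0 (T (XB (R := R) B) (n + 1)) ⊗[R] N :=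
  ∑ j : Fin (n + 2), (-1 : ℤ) ^ (j : ℕ) • (pbA (fc (XB (R := R) B) n j)).toLinearMap.rTensor N

lemma DL_apply (n : ℕ) (z : Gam0 (T (XB (R := R) B) n) ⊗[R] N) :
    DL B N n z = dC (GN N) n z := by
  rw [dC_apply]
  unfold DL
  rw [LinearMap.sum_apply]
  refine Finset.sum_congr rfl (fun j _ => ?_)
  rw [LinearMap.smul_apply]
  rfl

lemma DL_lTensor (n : ℕ) (z : B ⊗[R] (Gam0 (T (XB (R := R) B) n) ⊗[R] N)) :
    (DL B N n).lTensor B z = ∑ j : Fin (n + 2), (-1 : ℤ) ^ (j : ℕ) •
      (((pbA (fc (XB (R := R) B) n j)).toLinearMap.rTensor N).lTensor B z) := by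
  unfold DL
  rw [← LinearMap.coe_lTensorHom, map_sum, LinearMap.sum_apply]
  refine Finset.sum_congr rfl (fun j _ => ?_)
  rw [map_zsmul, LinearMap.smul_apply]

lemma eT_DL (n : ℕ) (z : B ⊗[R] (Gam0 (T (XB (R := R) B) n) ⊗[R] N)) :
    eT B N (T (XB (R := R) B) (n + 1)) ((DL B N n).lTensor B z) =
      dC (Qp (X := XB (R := R) B) (GN N)) n (eT B N (T (XB (R := R) B) n) z) := by
  rw [DL_lTensor, map_sum, dC_apply]
  refine Finset.sum_congr rfl (fun j _ => ?_)
  rw [map_zsmul, eT_natural]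
  rfl

/-- exactness in components of the Čech complex of `Γ(-) ⊗ N` for a faithfully flat algebra -/
theorem compExact_GN [Module.FaithfullyFlat R B] (n : ℕ)
    (c₀ : (GN N).obj (op (T (XB (R := R) B) (n + 1)))) (hc : dC (GN N) (n + 1) c₀ = 0) :
    ∃ b₀, dC (GN N) n b₀ = c₀ := by
  haveI := (affFlat_T (R := R) B n).1
  haveI := (affFlat_T (R := R) B (n + 1)).1
  have hex : Function.Exact (DL B N n) (DL B N (n + 1)) :=
    exact_of_lTensor (B := B) (DL B N n) (DL B N (n + 1))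
      (eT B N (T (XB (R := R) B) n)).toAddMonoidHom
      (eT B N (T (XB (R := R) B) (n + 1))).toAddMonoidHom
      (eT B N (T (XB (R := R) B) (n + 1 + 1))).toAddMonoidHom
      (dC (Qp (X := XB (R := R) B) (GN N)) n) (dC (Qp (X := XB (R := R) B) (GN N)) (n + 1))
      (fun y => by rw [DL_apply, DL_apply]; exact dC_dC (GN N) n y)
      (fun z => eT_DL B N n z) (fun z => eT_DL B N (n + 1) z)
      (eT_bijective B N _).2 (eT_bijective B N _).1
      (fun w hw => ⟨sH (GN N) n w, extraDeg (GN N) n w hw⟩)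
  obtain ⟨b₀, hb₀⟩ := (hex c₀).1 ((DL_apply B N (n + 1) c₀).trans hc)
  exact ⟨b₀, (DL_apply B N n b₀).symm.trans hb₀⟩

end ET

end Groth.Agent.Helper8.CechFF
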