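import Mathlib.RingTheory.PowerSeries.Basic
import Mathlib.RingTheory.PowerSeries.Substitution
import Mathlib.RingTheory.PowerSeries.Trunc
import Mathlib.RingTheory.PowerSeries.Inverse

set_option autoImplicit false

namespace Groth.Agent.Helper8.PSInvol

open scoped PowerSeries
open PowerSeries

variable {k : Type*} [Field k]

/-- the image of `X` under an algebra endomorphism has zero constant coefficient -/
theorem constantCoeff_algHom_X (τ : k⟦X⟧ →ₐ[k] k⟦X⟧) : constantCoeff (τ X) = 0 := by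
  by_contra hc
  set c := constantCoeff (τ X) with hcdef
  -- X - C c is a unit
  have h1 : IsUnit (X - C c : k⟦X⟧) := by
    rw [PowerSeries.isUnit_iff_constantCoeff]
    simp only [map_sub, constantCoeff_X, constantCoeff_C, zero_sub, isUnit_iff_ne_zero, ne_eq,
      neg_eq_zero]
    exact hc
  have h2 : IsUnit (τ (X - C c)) := h1.map τ
  rw [PowerSeries.isUnit_iff_constantCoeff] at h2
  have h3 : τ (C c) = C c := by
    have : (C c : k⟦X⟧) = algebraMap k k⟦X⟧ c := rfl
    rw [this, τ.commutes]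
  rw [map_sub, h3, map_sub, constantCoeff_C, ← hcdef, sub_self] at h2
  exact not_isUnit_zero h2

/-- algebra endomorphisms of `k⟦X⟧` are substitutions -/
theorem algHom_eq_subst (τ : k⟦X⟧ →ₐ[k] k⟦X⟧) (f : k⟦X⟧) : τ f = subst (τ X) f := by
  have ha : HasSubst (τ X) := HasSubst.of_constantCoeff_zero' (constantCoeff_algHom_X τ)
  have hdvd : ∀ n : ℕ, (X : k⟦X⟧) ^ n ∣ (τ X) ^ n := by
    intro n
    exact pow_dvd_pow_of_dvd (X_dvd_iff.mpr (constantCoeff_algHom_X τ)) n
  have hpoly : ∀ p : Polynomial k, τ (p : k⟦X⟧) = subst (τ X) (p : k⟦X⟧) := by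
    intro p
    rw [subst_coe ha]
    have : (τ.comp (Polynomial.coeToPowerSeries.algHom k)) = Polynomial.aeval (τ X) := by
      apply Polynomial.algHom_ext
      simp
    have h2 := AlgHom.congr_fun this p
    simpa using h2
  ext n
  have hf := eq_shift_mul_X_pow_add_trunc (n + 1) f
  set g : k⟦X⟧ := mk fun i ↦ coeff (i + (n + 1)) f with hg
  have h1 : τ f = τ g * (τ X) ^ (n + 1) + τ ((f.trunc (n + 1) : Polynomial k) : k⟦X⟧) := by
    conv_lhs => rw [hf]
    rw [map_add, map_mul, map_pow]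
  have h2 : subst (τ X) f = subst (τ X) g * (τ X) ^ (n + 1) +
      subst (τ X) ((f.trunc (n + 1) : Polynomial k) : k⟦X⟧) := by
    conv_lhs => rw [hf]
    rw [subst_add ha, subst_mul ha, subst_pow ha, subst_X ha]
  obtain ⟨q, hq⟩ := hdvd (n + 1)
  rw [h1, h2, hpoly, map_add, map_add, hq]
  congr 1
  rw [show τ g * (X ^ (n + 1) * q) = X ^ (n + 1) * (τ g * q) by ring,
    show subst (τ X) g * (X ^ (n + 1) * q) = X ^ (n + 1) * (subst (τ X) g * q) by ring,
    coeff_X_pow_mul', coeff_X_pow_mul', if_neg (by omega), if_neg (by omega)]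

/-- linear coefficient of a composition -/
theorem coeff_one_subst (a f : k⟦X⟧) (ha0 : constantCoeff a = 0) :
    coeff 1 (subst a f) = coeff 1 f * coeff 1 a := by
  have ha : HasSubst a := HasSubst.of_constantCoeff_zero' ha0
  obtain ⟨b, rfl⟩ := X_dvd_iff.mpr ha0
  have hf := eq_X_mul_shift_add_const f
  set g : k⟦X⟧ := mk fun p => coeff (p + 1) f with hg
  have hg' := eq_X_mul_shift_add_const g
  set g2 : k⟦X⟧ := mk fun p => coeff (p + 1) g with hg2
  have h1 : subst (X * b) f = X ^ 2 * (b ^ 2 * subst (X * b) g2) +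
      C (constantCoeff g) * (X * b) + C (constantCoeff f) := by
    conv_lhs => rw [hf, hg']
    rw [subst_add ha, subst_mul ha, subst_add ha, subst_mul ha, subst_X ha, subst_C, subst_C]
    have : (MvPowerSeries.C (constantCoeff g) : k⟦X⟧) = C (constantCoeff g) := rfl
    have h' : (MvPowerSeries.C (constantCoeff f) : k⟦X⟧) = C (constantCoeff f) := rfl
    rw [this, h']
    ring
  rw [h1, map_add, map_add, coeff_X_pow_mul', if_neg (by norm_num), coeff_C_mul]
  have h3 : constantCoeff g = coeff 1 f := by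
    rw [hg, ← coeff_zero_eq_constantCoeff_apply, coeff_mk]
  rw [h3]
  simp

/-- the automorphism given by substitution of a series with unit linear coefficient -/
noncomputable def substEquiv (P : k⟦X⟧) (hP : constantCoeff P = 0) (hP' : IsUnit (coeff 1 P)) :
    k⟦X⟧ ≃ₐ[k] k⟦X⟧ :=
  AlgEquiv.ofAlgHom (substAlgHom (HasSubst.of_constantCoeff_zero' hP))
    (substAlgHom (HasSubst.substInvOfIsUnit P hP'))
    (by
      have hP1 : HasSubst P := HasSubst.of_constantCoeff_zero' hP
      have hQ : HasSubst (P.substInvOfIsUnit hP') := HasSubst.substInvOfIsUnit P hP'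
      ext f : 1
      rw [AlgHom.comp_apply, coe_substAlgHom, coe_substAlgHom,
        subst_comp_subst_apply hQ hP1, subst_substInvOfIsUnit_left P hP hP']
      simp)
    (by
      have hP1 : HasSubst P := HasSubst.of_constantCoeff_zero' hP
      have hQ : HasSubst (P.substInvOfIsUnit hP') := HasSubst.substInvOfIsUnit P hP'
      ext f : 1
      rw [AlgHom.comp_apply, coe_substAlgHom, coe_substAlgHom,
        subst_comp_subst_apply hP1 hQ, subst_substInvOfIsUnit_right P hP hP']
      simp)

theorem substEquiv_apply (P : k⟦X⟧) (hP : constantCoeff P = 0) (hP' : IsUnit (coeff 1 P))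
    (f : k⟦X⟧) : substEquiv P hP hP' f = subst P f := by
  simp [substEquiv, coe_substAlgHom]

theorem main (h2 : (2 : k) ≠ 0)
    (σ : PowerSeries k ≃ₐ[k] PowerSeries k) (hσ : ∀ f, σ (σ f) = f) :
    (PowerSeries.coeff 1 (σ PowerSeries.X)) ^ 2 = 1 ∧
    ∃ φ : PowerSeries k ≃ₐ[k] PowerSeries k,
      φ PowerSeries.X = PowerSeries.C (2⁻¹ : k) *
        (PowerSeries.X + PowerSeries.C (PowerSeries.coeff 1 (σ PowerSeries.X)) * σ PowerSeries.X) ∧
      ∀ f, φ.symm (σ (φ f)) = PowerSeries.rescale (PowerSeries.coeff 1 (σ PowerSeries.X)) f := by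
  set s : k⟦X⟧ := σ X with hs
  set ξ : k := coeff 1 s with hξ
  have hs0 : constantCoeff s = 0 := constantCoeff_algHom_X σ.toAlgHom
  have hsub : ∀ f, σ f = subst s f := fun f => algHom_eq_subst σ.toAlgHom f
  have hss : subst s s = X := by rw [← hsub s]; exact hσ X
  have hξ2 : ξ ^ 2 = 1 := by
    have := coeff_one_subst s s hs0
    rw [hss, coeff_one_X] at this
    rw [pow_two]; exact this.symm
  refine ⟨hξ2, ?_⟩
  set P : k⟦X⟧ := C (2⁻¹ : k) * (X + C ξ * s) with hPdef
  have hP : constantCoeff P = 0 := by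
    simp [hPdef, hs0]
  have hP1 : coeff 1 P = 1 := by
    rw [hPdef, coeff_C_mul, map_add, coeff_one_X, coeff_C_mul, ← hξ, ← pow_two, hξ2]
    rw [show (1 : k) + 1 = 2 by norm_num]
    exact inv_mul_cancel₀ h2
  have hP' : IsUnit (coeff 1 P) := by rw [hP1]; exact isUnit_one
  have hPs : HasSubst P := HasSubst.of_constantCoeff_zero' hP
  have hss' : HasSubst s := HasSubst.of_constantCoeff_zero' hs0
  refine ⟨substEquiv P hP hP', ?_, ?_⟩
  · rw [substEquiv_apply, subst_X hPs]
  · intro f
    rw [AlgEquiv.symm_apply_eq, substEquiv_apply, substEquiv_apply, hsub,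
      subst_comp_subst_apply hPs hss', rescale_eq_subst,
      subst_comp_subst_apply (HasSubst.smul_X' ξ) hPs]
    congr 1
    -- subst s P = ξ • P
    have h1 : subst s P = C (2⁻¹ : k) * (s + C ξ * X) := by
      rw [hPdef, subst_mul hss', subst_add hss', subst_mul hss', subst_X hss', hss, subst_C,
        subst_C]
      rfl
    have h3 : subst P (ξ • X : k⟦X⟧) = ξ • P := by
      rw [subst_smul hPs, subst_X hPs]
    rw [h1, h3, hPdef, smul_eq_C_mul]
    have h4 : (C ξ : k⟦X⟧) * C ξ = 1 := by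
      rw [← map_mul, ← pow_two, hξ2, map_one]
    calc C (2⁻¹ : k) * (s + C ξ * X) = C (2⁻¹ : k) * ((C ξ * C ξ) * s + C ξ * X) := by
          rw [h4, one_mul]
      _ = C ξ * (C 2⁻¹ * (X + C ξ * s)) := by ring

end Groth.Agent.Helper8.PSInvol
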