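import Mathlib

/-!
# Lifting sections of étale morphisms along universal homeomorphisms

* `unique_lift`: two points of an unramified scheme over the same point of the base which agree after a
  surjective morphism are equal.
* `exists_lift`: points of an étale scheme lift uniquely along surjective, universally injective,
  universally open morphisms (e.g. surjective immersions).
-/

set_option autoImplicit false
universe u

namespace Groth.Agent.Helper8.EtLift

open CategoryTheory CategoryTheory.Limits AlgebraicGeometry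

/-- a surjective immersion is universally open -/
lemma universallyOpen_of_isImmersion_of_surjective {X Y : Scheme.{u}} (c : X ⟶ Y) [IsImmersion c]
    [Surjective c] : UniversallyOpen c := by
  rw [UniversallyOpen.eq]
  intro X' Y' i₁ i₂ f' hf
  have h1 : IsImmersion f' := MorphismProperty.of_isPullback hf.flip inferInstance
  have h2 : Surjective f' := MorphismProperty.of_isPullback hf.flip inferInstance
  exact (f'.isEmbedding.toHomeomorphOfSurjective f'.surjective).isOpenMap

theorem unique_lift {V S T T₀ : Scheme.{u}} (hom : V ⟶ S) [FormallyUnramified hom]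
    [LocallyOfFiniteType hom] (c : T₀ ⟶ T) [Surjective c] (w w' : T ⟶ V)
    (h : w ≫ hom = w' ≫ hom) (hc : c ≫ w = c ≫ w') : w = w' := by
  let l : T ⟶ pullback hom hom := pullback.lift w w' h
  have hl1 : l ≫ pullback.fst hom hom = w := pullback.lift_fst _ _ _
  have hl2 : l ≫ pullback.snd hom hom = w' := pullback.lift_snd _ _ _
  let ι : pullback l (pullback.diagonal hom) ⟶ T := pullback.fst l (pullback.diagonal hom)
  have hι : IsOpenImmersion ι := inferInstance
  let k : T₀ ⟶ pullback l (pullback.diagonal hom) := pullback.lift c (c ≫ w) (by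
    apply pullback.hom_ext
    · rw [Category.assoc, hl1, Category.assoc, pullback.diagonal_fst, Category.comp_id]
    · rw [Category.assoc, hl2, Category.assoc, pullback.diagonal_snd, Category.comp_id, hc])
  have hk : k ≫ ι = c := pullback.lift_fst _ _ _
  have hs : Surjective ι := by
    have : Surjective (k ≫ ι) := by rw [hk]; infer_instance
    exact Surjective.of_comp k ι
  have hiso : IsIso ι := (isIso_iff_isOpenImmersion_and_surjective _).2 ⟨hι, hs⟩
  have hcond : ι ≫ l = pullback.snd l (pullback.diagonal hom) ≫ pullback.diagonal hom :=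
    pullback.condition
  have e1 : ι ≫ w = pullback.snd l (pullback.diagonal hom) := by
    have := congrArg (fun m => m ≫ pullback.fst hom hom) hcond
    simpa [hl1] using this
  have e2 : ι ≫ w' = pullback.snd l (pullback.diagonal hom) := by
    have := congrArg (fun m => m ≫ pullback.snd hom hom) hcond
    simpa [hl2] using this
  exact (cancel_epi ι).1 (e1.trans e2.symm)

theorem exists_lift {V S T T₀ : Scheme.{u}} (hom : V ⟶ S) [Etale hom] (x : T ⟶ S) (c : T₀ ⟶ T)
    [Surjective c] [UniversallyInjective c] [UniversallyOpen c] (v₀ : T₀ ⟶ V)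
    (hv₀ : v₀ ≫ hom = c ≫ x) : ∃ w : T ⟶ V, w ≫ hom = x ∧ c ≫ w = v₀ := by
  let π : pullback x hom ⟶ T := pullback.fst x hom
  let ρ : pullback x hom ⟶ V := pullback.snd x hom
  have hπρ : π ≫ x = ρ ≫ hom := pullback.condition
  let π₀ : pullback c π ⟶ T₀ := pullback.fst c π
  let j : pullback c π ⟶ pullback x hom := pullback.snd c π
  have hπ₀j : π₀ ≫ c = j ≫ π := pullback.condition
  let s : T₀ ⟶ pullback x hom := pullback.lift c v₀ hv₀.symm
  have hsπ : s ≫ π = c := pullback.lift_fst _ _ _
  have hsρ : s ≫ ρ = v₀ := pullback.lift_snd _ _ _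
  let σ : T₀ ⟶ pullback c π := pullback.lift (𝟙 T₀) s (by rw [Category.id_comp, hsπ])
  have hσπ : σ ≫ π₀ = 𝟙 T₀ := pullback.lift_fst _ _ _
  have hσj : σ ≫ j = s := pullback.lift_snd _ _ _
  have hπet : Etale π := inferInstance
  have hπ₀et : Etale π₀ := inferInstance
  have hσet : Etale σ := by
    have h1 : Etale (σ ≫ π₀) := by rw [hσπ]; infer_instance
    exact MorphismProperty.of_postcomp (W := @Etale) (W' := @Etale) σ π₀ hπ₀et h1
  have hσmono : Mono σ := mono_of_mono_fac hσπ
  have hσoi : IsOpenImmersion σ := IsOpenImmersion.of_flat_of_mono σ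
  have hjui : UniversallyInjective j := MorphismProperty.pullback_snd _ _ ‹UniversallyInjective c›
  have hjuo : UniversallyOpen j := inferInstance
  have hjopen : IsOpenMap j := j.isOpenMap
  have hjinj : Function.Injective j := j.injective
  let W : (pullback x hom).Opens := ⟨j '' Set.range σ, hjopen _ σ.isOpenEmbedding.isOpen_range⟩
  have hWmem : ∀ y : ↥(pullback x hom), y ∈ W ↔ ∃ t : T₀, j (σ t) = y := by
    intro y
    constructor
    · rintro ⟨_, ⟨t, rfl⟩, rfl⟩
      exact ⟨t, rfl⟩
    · rintro ⟨t, rfl⟩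
      exact ⟨σ t, ⟨t, rfl⟩, rfl⟩
  let lam : T₀ ⟶ W := IsOpenImmersion.lift W.ι s (by
    rw [Scheme.Opens.range_ι]
    rintro _ ⟨t, rfl⟩
    refine (hWmem _).2 ⟨t, ?_⟩
    rw [← Scheme.Hom.comp_apply, hσj])
  have hlam : lam ≫ W.ι = s := IsOpenImmersion.lift_fac _ _ _
  let q : (W : Scheme.{u}) ⟶ T := W.ι ≫ π
  have hlamq : lam ≫ q = c := by
    show lam ≫ W.ι ≫ π = c
    rw [← Category.assoc, hlam, hsπ]
  have claimC : ∀ {Z : Scheme.{u}} (ζ : Z ⟶ T₀) (a : Z ⟶ (W : Scheme.{u})), a ≫ q = ζ ≫ c →
      a = ζ ≫ lam := by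
    intro Z ζ a ha
    let a₀ : Z ⟶ pullback c π := pullback.lift ζ (a ≫ W.ι) (by
      rw [Category.assoc]; exact ha.symm)
    have ha₀j : a₀ ≫ j = a ≫ W.ι := pullback.lift_snd _ _ _
    have ha₀π : a₀ ≫ π₀ = ζ := pullback.lift_fst _ _ _
    have hr : Set.range a₀ ⊆ Set.range σ := by
      rintro _ ⟨z, rfl⟩
      have hz : j (a₀ z) ∈ W := by
        rw [← Scheme.Hom.comp_apply, ha₀j, Scheme.Hom.comp_apply]
        exact (a z).2
      obtain ⟨t, ht⟩ := (hWmem _).1 hz
      exact ⟨t, hjinj ht⟩
    let a₁ : Z ⟶ T₀ := IsOpenImmersion.lift σ a₀ hr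
    have ha₁ : a₁ ≫ σ = a₀ := IsOpenImmersion.lift_fac _ _ _
    have ha₁ζ : a₁ = ζ := by
      calc a₁ = a₁ ≫ σ ≫ π₀ := by rw [hσπ, Category.comp_id]
        _ = a₀ ≫ π₀ := by rw [← Category.assoc, ha₁]
        _ = ζ := ha₀π
    rw [← cancel_mono W.ι, Category.assoc, hlam, ← ha₀j, ← ha₁, ha₁ζ, Category.assoc, hσj]
  have hqet : Etale q := inferInstance
  have hqs : Surjective q := by
    have : Surjective (lam ≫ q) := by rw [hlamq]; infer_instance
    exact Surjective.of_comp lam q
  have hdiag : Surjective (pullback.diagonal q) := by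
    constructor
    intro z
    let pz : pullback (pullback.fst q q ≫ q) c ⟶ pullback q q := pullback.fst _ _
    let ζ : pullback (pullback.fst q q ≫ q) c ⟶ T₀ := pullback.snd _ _
    have hpzζ : pz ≫ pullback.fst q q ≫ q = ζ ≫ c := pullback.condition
    obtain ⟨z₀, rfl⟩ := pz.surjective z
    have ha : (pz ≫ pullback.fst q q) ≫ q = ζ ≫ c := by rw [Category.assoc]; exact hpzζ
    have hb : (pz ≫ pullback.snd q q) ≫ q = ζ ≫ c := by
      rw [Category.assoc, ← pullback.condition]; exact hpzζ
    have e1 := claimC ζ _ ha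
    have e2 := claimC ζ _ hb
    have hpz : pz = (pz ≫ pullback.fst q q) ≫ pullback.diagonal q := by
      apply pullback.hom_ext
      · rw [Category.assoc, pullback.diagonal_fst, Category.comp_id]
      · rw [Category.assoc, pullback.diagonal_snd, Category.comp_id, e1, ← e2]
    refine ⟨(pz ≫ pullback.fst q q) z₀, ?_⟩
    rw [← Scheme.Hom.comp_apply, ← hpz]
  have hdiso : IsIso (pullback.diagonal q) :=
    (isIso_iff_isOpenImmersion_and_surjective _).2 ⟨inferInstance, hdiag⟩
  have hqmono : Mono q := (pullback.isIso_diagonal_iff q).1 hdiso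
  have hqoi : IsOpenImmersion q := IsOpenImmersion.of_flat_of_mono q
  have hqiso : IsIso q := (isIso_iff_isOpenImmersion_and_surjective _).2 ⟨hqoi, hqs⟩
  refine ⟨inv q ≫ W.ι ≫ ρ, ?_, ?_⟩
  · rw [Category.assoc, Category.assoc, IsIso.inv_comp_eq]
    show W.ι ≫ ρ ≫ hom = (W.ι ≫ π) ≫ x
    rw [Category.assoc, hπρ]
  · have e : c ≫ inv q = lam := by rw [IsIso.comp_inv_eq, hlamq]
    rw [← Category.assoc, e, ← Category.assoc, hlam, hsρ]

end Groth.Agent.Helper8.EtLift
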