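import Groth.Agent.Helper8.FLFSecB
import Groth.Agent.Helper8.EtLiftA
import Groth.Prelude.Def_FEt

/-!
# Base change of finite étale covers along `f` with `O_S ≅ f_* O_X` is fully faithful
-/

set_option autoImplicit false
universe u

namespace Groth.Agent.Helper8.FEtFF

open CategoryTheory CategoryTheory.Limits AlgebraicGeometry Opposite TopologicalSpace

section lemmas

variable {X S : Scheme.{u}} (f : X ⟶ S) (hf : ∀ U : S.Opens, Function.Bijective (f.app U))

include hf in
/-- an open subset of an open `S`-scheme whose base change to `X` is empty is empty -/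
theorem eq_empty_of_preimage_eq_empty {Y : Scheme.{u}} (h : Y ⟶ S) [UniversallyOpen h]
    (C : Set Y) (hC : IsOpen C) (hCX : (pullback.fst h f) ⁻¹' C = ∅) : C = ∅ := by
  let U : S.Opens := ⟨h '' C, h.isOpenMap C hC⟩
  have hU : f ⁻¹ᵁ U = ⊥ := by
    ext x
    constructor
    · rintro ⟨y, hyC, hyx⟩
      obtain ⟨z, hz1, hz2⟩ := Scheme.Pullback.exists_preimage_pullback (f := h) (g := f) y x hyx
      have hz : z ∈ (pullback.fst h f) ⁻¹' C := by
        show pullback.fst h f z ∈ C
        rw [hz1]
        exact hyC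
      rw [hCX] at hz
      exact hz.elim
    · intro hx
      exact hx.elim
  have hsub : Subsingleton Γ(S, U) := by
    haveI : Subsingleton Γ(X, f ⁻¹ᵁ U) := by
      rw [hU]
      infer_instance
    exact (hf U).1.subsingleton
  have hUbot : U = ⊥ := by
    have h1 : S.basicOpen (1 : Γ(S, U)) = U := Scheme.basicOpen_of_isUnit _ isUnit_one
    have h0 : S.basicOpen (0 : Γ(S, U)) = ⊥ := Scheme.basicOpen_zero _ _
    rw [← h1, Subsingleton.elim (1 : Γ(S, U)) 0, h0]
  ext y
  constructor
  · intro hy
    have : h y ∈ U := ⟨y, hy, rfl⟩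
    rw [hUbot] at this
    exact this.elim
  · intro hy
    exact hy.elim

include hf in
/-- a finite locally free morphism to an open `S`-scheme which has rank one over the base change to
`X` is an isomorphism -/
theorem isIso_of_finrank {Y T : Scheme.{u}} (h : Y ⟶ S) [UniversallyOpen h] (t : T ⟶ Y)
    [IsFinite t] [Flat t] [LocallyOfFinitePresentation t]
    (hrank : ∀ z : ↑(pullback h f), t.finrank (pullback.fst h f z) = 1) : IsIso t := by
  rw [Scheme.Hom.isIso_iff_finrank_eq]
  have hlc : IsLocallyConstant t.finrank := Scheme.Hom.isLocallyConstant_finrank t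
  let C : Set Y := t.finrank ⁻¹' {m | m ≠ 1}
  have hC : IsOpen C := hlc {m | m ≠ 1}
  have hCX : (pullback.fst h f) ⁻¹' C = ∅ := by
    ext z
    constructor
    · intro hz
      exact (hz (hrank z)).elim
    · intro hz
      exact hz.elim
  have hCe := eq_empty_of_preimage_eq_empty f hf h C hC hCX
  funext y
  by_contra hy
  have : y ∈ C := hy
  rw [hCe] at this
  exact this

include hf in
/-- faithfulness -/
theorem eq_of_comp_eq {Y Z : Scheme.{u}} (hY : Y ⟶ S) [UniversallyOpen hY] (hZ : Z ⟶ S)
    [FormallyUnramified hZ] [LocallyOfFiniteType hZ] [IsSeparated hZ] (a b : Y ⟶ Z)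
    (ha : a ≫ hZ = hY) (hb : b ≫ hZ = hY)
    (hab : pullback.fst hY f ≫ a = pullback.fst hY f ≫ b) : a = b := by
  have hab' : a ≫ hZ = b ≫ hZ := ha.trans hb.symm
  let l : Y ⟶ pullback hZ hZ := pullback.lift a b hab'
  have hl1 : l ≫ pullback.fst hZ hZ = a := pullback.lift_fst _ _ _
  have hl2 : l ≫ pullback.snd hZ hZ = b := pullback.lift_snd _ _ _
  let ι : pullback l (pullback.diagonal hZ) ⟶ Y := pullback.fst l (pullback.diagonal hZ)
  haveI hιc : IsClosedImmersion ι := inferInstance
  have hcond : ι ≫ l = pullback.snd l (pullback.diagonal hZ) ≫ pullback.diagonal hZ :=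
    pullback.condition
  have e1 : ι ≫ a = pullback.snd l (pullback.diagonal hZ) := by
    have := congrArg (fun m => m ≫ pullback.fst hZ hZ) hcond
    simpa [hl1] using this
  have e2 : ι ≫ b = pullback.snd l (pullback.diagonal hZ) := by
    have := congrArg (fun m => m ≫ pullback.snd hZ hZ) hcond
    simpa [hl2] using this
  let C : Set Y := (Set.range ι)ᶜ
  have hC : IsOpen C := ι.isClosedEmbedding.isClosed_range.isOpen_compl
  have hCX : (pullback.fst hY f) ⁻¹' C = ∅ := by
    let k : pullback hY f ⟶ pullback l (pullback.diagonal hZ) :=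
      pullback.lift (pullback.fst hY f) (pullback.fst hY f ≫ a) (by
        apply pullback.hom_ext
        · rw [Category.assoc, hl1, Category.assoc, pullback.diagonal_fst, Category.comp_id]
        · rw [Category.assoc, hl2, Category.assoc, pullback.diagonal_snd, Category.comp_id, hab])
    have hk : k ≫ ι = pullback.fst hY f := pullback.lift_fst _ _ _
    ext z
    constructor
    · intro hz
      apply hz
      show pullback.fst hY f z ∈ Set.range ι
      rw [← hk, Scheme.Hom.comp_apply]
      exact ⟨_, rfl⟩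
    · intro hz
      exact hz.elim
  have hCe := eq_empty_of_preimage_eq_empty f hf hY C hC hCX
  haveI hs : Surjective ι := ⟨fun y => by
    by_contra hy
    have : y ∈ C := hy
    rw [hCe] at this
    exact this⟩
  exact EtLift.unique_lift hZ ι a b hab' (e1.trans e2.symm)

include hf in
/-- fullness -/
theorem exists_of_baseChange {Y Z : Scheme.{u}} (hY : Y ⟶ S) (hZ : Z ⟶ S) [IsFinite hY]
    [Etale hY] [IsFinite hZ] [Etale hZ] (c : pullback hY f ⟶ pullback hZ f)
    (hc : c ≫ pullback.snd hZ f = pullback.snd hY f) :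
    ∃ a : Y ⟶ Z, a ≫ hZ = hY ∧ pullback.fst hY f ≫ a = c ≫ pullback.fst hZ f := by
  -- notation
  let pW : pullback hY hZ ⟶ Y := pullback.fst hY hZ
  let pZ : pullback hY hZ ⟶ Z := pullback.snd hY hZ
  let fstY : pullback hY f ⟶ Y := pullback.fst hY f
  let sndY : pullback hY f ⟶ X := pullback.snd hY f
  have hγ : fstY ≫ hY = (c ≫ pullback.fst hZ f) ≫ hZ := by
    have h1 : pullback.fst hZ f ≫ hZ = pullback.snd hZ f ≫ f := pullback.condition
    have h2 : fstY ≫ hY = sndY ≫ f := pullback.condition
    rw [Category.assoc, h1, ← Category.assoc, hc]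
    exact h2
  let γ : pullback hY f ⟶ pullback hY hZ := pullback.lift fstY (c ≫ pullback.fst hZ f) hγ
  have hγ1 : γ ≫ pW = fstY := pullback.lift_fst _ _ _
  have hγ2 : γ ≫ pZ = c ≫ pullback.fst hZ f := pullback.lift_snd _ _ _
  let p1 : pullback pW fstY ⟶ pullback hY hZ := pullback.fst pW fstY
  let p2 : pullback pW fstY ⟶ pullback hY f := pullback.snd pW fstY
  let Γ : pullback hY f ⟶ pullback pW fstY := pullback.lift γ (𝟙 _) (by rw [hγ1, Category.id_comp])
  have hΓ1 : Γ ≫ p1 = γ := pullback.lift_fst _ _ _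
  have hΓ2 : Γ ≫ p2 = 𝟙 _ := pullback.lift_snd _ _ _
  -- `Γ` is an open and closed immersion
  haveI : Etale pW := inferInstanceAs (Etale (pullback.fst hY hZ))
  haveI : IsFinite pW := inferInstanceAs (IsFinite (pullback.fst hY hZ))
  haveI : Etale p2 := inferInstanceAs (Etale (pullback.snd pW fstY))
  haveI : IsFinite p2 := inferInstanceAs (IsFinite (pullback.snd pW fstY))
  haveI : IsClosedImmersion Γ := by
    haveI : IsClosedImmersion (Γ ≫ p2) := by rw [hΓ2]; infer_instance
    exact IsClosedImmersion.of_comp Γ p2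
  haveI : Etale Γ := by
    haveI : Etale (Γ ≫ p2) := by rw [hΓ2]; infer_instance
    exact Etale.of_comp Γ p2
  haveI : Mono Γ := mono_of_mono_fac hΓ2
  haveI : IsOpenImmersion Γ := IsOpenImmersion.of_flat_of_mono Γ
  have hclopen : IsClopen (Set.range Γ) :=
    ⟨Γ.isClosedEmbedding.isClosed_range, Γ.isOpenEmbedding.isOpen_range⟩
  obtain ⟨e', he', hDe'⟩ :=
    Groth.Agent.Helper1.ClopenIdem.exists_idempotent_of_isClopen (Set.range Γ) hclopen
  -- transfer the idempotent
  have H' : IsPullback p1 (p2 ≫ sndY) (pW ≫ hY) f :=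
    (IsPullback.of_hasPullback pW fstY).paste_vert (IsPullback.of_hasPullback hY f)
  haveI : IsFinite (pW ≫ hY) := inferInstance
  haveI : Flat (pW ≫ hY) := inferInstance
  haveI : LocallyOfFinitePresentation (pW ≫ hY) := inferInstance
  have hbij : Function.Bijective p1.appTop := FLFSec.bijective_app H' hf ⊤
  obtain ⟨e, hee'⟩ := hbij.2 e'
  have he : e * e = e := by
    apply hbij.1
    rw [map_mul, hee', he']
  let T : (pullback hY hZ).Opens := (pullback hY hZ).basicOpen e
  have hTclopen : IsClopen (T : Set ↥(pullback hY hZ)) :=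
    Groth.Agent.Helper1.ClopenIdem.isClopen_basicOpen_of_idempotent e he
  have hp1T : (p1 ⁻¹ᵁ T : Set ↥(pullback pW fstY)) = Set.range Γ := by
    rw [← hDe']
    congr 1
    show p1 ⁻¹ᵁ (pullback hY hZ).basicOpen e = (pullback pW fstY).basicOpen e'
    rw [Scheme.preimage_basicOpen_top, hee']
  -- the morphism `t : T ⟶ Y`
  haveI : IsClosedImmersion T.ι :=
    IsClosedImmersion.of_isPreimmersion T.ι (by rw [Scheme.Opens.range_ι]; exact hTclopen.1)
  let t : T.toScheme ⟶ Y := T.ι ≫ pW
  haveI : IsFinite t := inferInstanceAs (IsFinite (T.ι ≫ pW))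
  haveI : Etale t := inferInstanceAs (Etale (T.ι ≫ pW))
  have hγT : Set.range γ ⊆ Set.range T.ι := by
    rw [Scheme.Opens.range_ι]
    rintro _ ⟨z, rfl⟩
    have h1 : Γ z ∈ (p1 ⁻¹ᵁ T : Set ↥(pullback pW fstY)) := by
      rw [hp1T]
      exact ⟨z, rfl⟩
    have h2 : p1 (Γ z) ∈ T := h1
    rw [← Scheme.Hom.comp_apply, hΓ1] at h2
    exact h2
  let γ' : pullback hY f ⟶ T.toScheme := IsOpenImmersion.lift T.ι γ hγT
  have hγ' : γ' ≫ T.ι = γ := IsOpenImmersion.lift_fac _ _ _
  have hcomm : γ' ≫ t = 𝟙 _ ≫ fstY := by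
    rw [Category.id_comp, ← hγ1, ← hγ', Category.assoc]
  have hpb : IsPullback γ' (𝟙 (pullback hY f)) t fstY := by
    refine IsPullback.mk ⟨hcomm⟩ ⟨PullbackCone.IsLimit.mk hcomm (fun s => s.snd) (fun s => ?_)
      (fun s => Category.comp_id _) (fun s m _ h2 => by rw [← h2, Category.comp_id])⟩
    -- `s.snd ≫ γ' = s.fst`
    have hs : (s.fst ≫ T.ι) ≫ pW = s.snd ≫ fstY := by
      rw [Category.assoc]
      exact s.condition
    let m : s.pt ⟶ pullback pW fstY := pullback.lift (s.fst ≫ T.ι) s.snd hs
    have hm1 : m ≫ p1 = s.fst ≫ T.ι := pullback.lift_fst _ _ _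
    have hm2 : m ≫ p2 = s.snd := pullback.lift_snd _ _ _
    have hmΓ : Set.range m ⊆ Set.range Γ := by
      rintro _ ⟨x, rfl⟩
      rw [← hp1T]
      show p1 (m x) ∈ T
      rw [← Scheme.Hom.comp_apply, hm1, Scheme.Hom.comp_apply]
      exact (s.fst x).2
    let u : s.pt ⟶ pullback hY f := IsOpenImmersion.lift Γ m hmΓ
    have hu : u ≫ Γ = m := IsOpenImmersion.lift_fac _ _ _
    have hu' : u = s.snd := by
      have := congrArg (fun k => k ≫ p2) hu
      simp only [Category.assoc, hΓ2, Category.comp_id, hm2] at this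
      exact this
    rw [← cancel_mono T.ι, Category.assoc, hγ', ← hΓ1, ← Category.assoc, ← hu', hu, hm1]
  have hrank : ∀ z : ↑(pullback hY f), t.finrank (pullback.fst hY f z) = 1 := by
    intro z
    have h1 := Scheme.Hom.finrank_of_isPullback γ' (𝟙 (pullback hY f)) t fstY hpb z
    rw [← h1]
    exact congrFun (Scheme.Hom.finrank_eq_one_of_isIso (𝟙 (pullback hY f))) z
  haveI : IsIso t := isIso_of_finrank f hf hY t hrank
  refine ⟨inv t ≫ T.ι ≫ pZ, ?_, ?_⟩
  · have h1 : pZ ≫ hZ = pW ≫ hY := pullback.condition.symm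
    rw [Category.assoc, Category.assoc, h1, ← Category.assoc T.ι, IsIso.inv_hom_id_assoc]
  · have h1 : fstY ≫ inv t = γ' := by
      rw [IsIso.comp_inv_eq, hcomm, Category.id_comp]
    show fstY ≫ inv t ≫ T.ι ≫ pZ = _
    rw [← Category.assoc, h1, ← Category.assoc, hγ', hγ2]

end lemmas

theorem main {X S : Scheme.{u}} (f : X ⟶ S) (hf : ∀ U : S.Opens, Function.Bijective (f.app U)) :
    (FEt.restrict f).Full ∧ (FEt.restrict f).Faithful := by
  constructor
  · constructor
    intro Y Z c
    haveI : IsFinite Y.hom := Y.prop.1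
    haveI : Etale Y.hom := Y.prop.2
    haveI : IsFinite Z.hom := Z.prop.1
    haveI : Etale Z.hom := Z.prop.2
    have hc : c.left ≫ pullback.snd Z.hom f = pullback.snd Y.hom f :=
      MorphismProperty.Over.w c
    obtain ⟨a, ha1, ha2⟩ := exists_of_baseChange f hf Y.hom Z.hom c.left hc
    refine ⟨MorphismProperty.Over.homMk a ha1 trivial, ?_⟩
    apply MorphismProperty.Over.Hom.ext
    show pullback.lift (pullback.fst Y.hom f ≫ a) (pullback.snd Y.hom f) _ = c.left
    apply pullback.hom_ext
    · rw [pullback.lift_fst]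
      exact ha2
    · rw [pullback.lift_snd]
      exact hc.symm
  · constructor
    intro Y Z a b hab
    haveI : IsFinite Y.hom := Y.prop.1
    haveI : Etale Y.hom := Y.prop.2
    haveI : IsFinite Z.hom := Z.prop.1
    haveI : Etale Z.hom := Z.prop.2
    have h1 : pullback.fst Y.hom f ≫ a.left = pullback.fst Y.hom f ≫ b.left := by
      have h2 := congrArg (fun m => m.left ≫ pullback.fst Z.hom f) hab
      have h3 : ((FEt.restrict f).map a).left ≫ pullback.fst Z.hom f =
          pullback.fst Y.hom f ≫ a.left := pullback.lift_fst _ _ _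
      have h4 : ((FEt.restrict f).map b).left ≫ pullback.fst Z.hom f =
          pullback.fst Y.hom f ≫ b.left := pullback.lift_fst _ _ _
      exact h3.symm.trans (h2.trans h4)
    apply MorphismProperty.Over.Hom.ext
    exact eq_of_comp_eq f hf Y.hom Z.hom a.left b.left (MorphismProperty.Over.w a)
      (MorphismProperty.Over.w b) h1

end Groth.Agent.Helper8.FEtFF
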