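import Mathlib
import Groth.Agent.Lead.PuncSec

/-!
# The Hartogs property `O_Y ≅ j_* O_U` of an open immersion and its flat base change

* `HasH j`: all `j.app W` are bijective.
* `hasH_of_depth`: on a locally Noetherian scheme, an open immersion whose complement consists of
  points of depth `≥ 2` has the Hartogs property (from `Lead.Hartogs2.bijective_res`).
* `hasH_of_flat`: the Hartogs property of a quasi-compact open immersion is stable under flat base change.
-/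

set_option autoImplicit false
set_option linter.unusedSectionVars false
universe u

open AlgebraicGeometry CategoryTheory CategoryTheory.Limits TopologicalSpace Opposite

namespace Groth.Agent.Helper8.PurDesc

/-- the Hartogs property of a morphism: `O_Y → j_* O_U` is bijective -/
def HasH {U Y : Scheme.{u}} (j : U ⟶ Y) : Prop := ∀ W : Y.Opens, Function.Bijective (j.app W)

lemma isIso_map_of_le {X : Scheme.{u}} {A B : X.Opens} (h : A ≤ B) (h' : B ≤ A) :
    IsIso (X.presheaf.map (homOfLE h).op) := by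
  have e : A = B := le_antisymm h h'
  subst e
  have : homOfLE h = 𝟙 A := Subsingleton.elim _ _
  rw [this]
  infer_instance

lemma bij_congr {X : Scheme.{u}} {V₁ V₂ V₂' : X.Opens} (e2 : V₂ = V₂') (h : V₂ ≤ V₁)
    (h' : V₂' ≤ V₁) :
    Function.Bijective (X.presheaf.map (homOfLE h).op) ↔
      Function.Bijective (X.presheaf.map (homOfLE h').op) := by
  subst e2
  rfl

theorem app_bijective_iff {U Y : Scheme.{u}} (j : U ⟶ Y) [IsOpenImmersion j] (W : Y.Opens) :
    Function.Bijective (j.app W) ↔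
      Function.Bijective (Y.presheaf.map (homOfLE (inf_le_left : W ⊓ j.opensRange ≤ W)).op) := by
  have h1 : j.app W ≫ (j.appIso (j ⁻¹ᵁ W)).inv =
      Y.presheaf.map (homOfLE (j.image_preimage_le W)).op := j.app_appIso_inv W
  have e2 : j ''ᵁ (j ⁻¹ᵁ W) = W ⊓ j.opensRange := by
    rw [Scheme.Hom.image_preimage_eq_opensRange_inf, inf_comm]
  rw [← bij_congr e2 (j.image_preimage_le W) inf_le_left, ← h1,
    ← ConcreteCategory.isIso_iff_bijective, ← ConcreteCategory.isIso_iff_bijective]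
  exact (isIso_comp_right_iff _ _).symm

theorem hasH_of_depth {U Y : Scheme.{u}} [IsLocallyNoetherian Y] (j : U ⟶ Y) [IsOpenImmersion j]
    (hd : ∀ y : Y, y ∉ Set.range j →
      (2 : ℕ∞) ≤ LocCoh.depth (Y.presheaf.stalk y) (Y.presheaf.stalk y)) :
    HasH j := fun W => (app_bijective_iff j W).mpr
  (Groth.Agent.Lead.Hartogs2.bijective_res j.opensRange (fun y hy => hd y hy) W)

theorem hasH_of_flat {U Y T TU : Scheme.{u}} (j : U ⟶ Y) [IsOpenImmersion j] [QuasiCompact j]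
    (hj : HasH j) (g : T ⟶ Y) [Flat g] (jT : TU ⟶ T) (gU : TU ⟶ U)
    (H : IsPullback gU jT j g) : HasH jT := by
  haveI : IsOpenImmersion jT :=
    MorphismProperty.of_isPullback (P := @IsOpenImmersion) H inferInstance
  intro W'
  let ι := {V : T.Opens // IsAffineOpen V ∧ ∃ W : Y.Opens, IsAffineOpen W ∧ V ≤ g ⁻¹ᵁ W}
  let B : ι → T.Opens := fun V => V.1
  have hbasis : Opens.IsBasis (Set.range B) := by
    rw [Opens.isBasis_iff_nbhd]
    intro O x hx
    obtain ⟨_, ⟨W, hW : IsAffineOpen W, rfl⟩, hxW, -⟩ :=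
      Y.isBasis_affineOpens.exists_subset_of_mem_open (Set.mem_univ (g x)) isOpen_univ
    obtain ⟨_, ⟨V, hV : IsAffineOpen V, rfl⟩, hxV, hVO⟩ :=
      T.isBasis_affineOpens.exists_subset_of_mem_open
        (show x ∈ ((O ⊓ g ⁻¹ᵁ W : T.Opens) : Set T) from ⟨hx, hxW⟩) (O ⊓ g ⁻¹ᵁ W).isOpen
    exact ⟨V, ⟨⟨V, hV, W, hW, fun y hy => (hVO hy).2⟩, rfl⟩, hxV, fun y hy => (hVO hy).1⟩
  let F : TopCat.Sheaf CommRingCat T := T.sheaf
  let G : TopCat.Sheaf CommRingCat T := (TopCat.Sheaf.pushforward CommRingCat jT.base).obj TU.sheaf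
  let φ : F ⟶ G := ⟨jT.c⟩
  have hi : ∀ i : ι, IsIso (φ.hom.app (op (B i))) := by
    rintro ⟨V, hV, W, hW, hVW⟩
    show IsIso (jT.app V)
    have hUX : IsCompact ((j ⁻¹ᵁ W : U.Opens) : Set U) := j.isCompact_preimage hW.isCompact
    have hUX' : IsQuasiSeparated ((j ⁻¹ᵁ W : U.Opens) : Set U) :=
      j.isQuasiSeparated_preimage hW.isQuasiSeparated
    have hiso := isIso_pushoutSection_of_isQuasiSeparated_of_flat_right H hVW
      (le_refl (j ⁻¹ᵁ W)) rfl hW hV hUX hUX'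
    have hpo := (isIso_pushoutSection_iff H hVW (le_refl (j ⁻¹ᵁ W)) rfl).mp hiso
    haveI : IsIso (j.appLE W (j ⁻¹ᵁ W) (le_refl (j ⁻¹ᵁ W))) := by
      rw [← Scheme.Hom.app_eq_appLE]
      exact (ConcreteCategory.isIso_iff_bijective _).mpr (hj W)
    have h3 := hpo.isIso_inr_of_isIso
    have hle : jT ⁻¹ᵁ V ≤ gU ⁻¹ᵁ (j ⁻¹ᵁ W) ⊓ jT ⁻¹ᵁ V := by
      refine le_inf ?_ le_rfl
      rw [← Scheme.Hom.comp_preimage, H.w, Scheme.Hom.comp_preimage]
      exact jT.preimage_mono hVW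
    haveI := isIso_map_of_le (X := TU) (inf_le_right : gU ⁻¹ᵁ (j ⁻¹ᵁ W) ⊓ jT ⁻¹ᵁ V ≤ jT ⁻¹ᵁ V) hle
    have h4 : IsIso (jT.app V ≫ TU.presheaf.map
        (homOfLE (inf_le_right : gU ⁻¹ᵁ (j ⁻¹ᵁ W) ⊓ jT ⁻¹ᵁ V ≤ jT ⁻¹ᵁ V)).op) := h3
    exact IsIso.of_isIso_comp_right (jT.app V) (TU.presheaf.map
        (homOfLE (inf_le_right : gU ⁻¹ᵁ (j ⁻¹ᵁ W) ⊓ jT ⁻¹ᵁ V ≤ jT ⁻¹ᵁ V)).op)
  haveI : IsIso φ := TopCat.Sheaf.isIso_iff_isIso_basis hbasis hi
  haveI : IsIso φ.hom := by
    have : IsIso ((TopCat.Sheaf.forget CommRingCat T).map φ) := inferInstance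
    exact this
  have h3 : IsIso (φ.hom.app (op W')) := inferInstance
  have h4 : IsIso (jT.app W') := h3
  exact ConcreteCategory.bijective_of_isIso _

end Groth.Agent.Helper8.PurDesc
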