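import Mathlib
import Groth.Prelude.Def_FEt
import Groth.Agent.Lead.LimIsoDesc

/-!
# Extension of finite étale covers across a point: preliminaries
-/

set_option autoImplicit false
universe u

namespace Groth.Agent.Helper8.PurExt

open CategoryTheory CategoryTheory.Limits AlgebraicGeometry Topology

/-- a nonempty closed subset of a quasi-sober `T₀` space has a point without proper generizations
inside the subset -/
theorem exists_max_point {X : Type*} [TopologicalSpace X] [QuasiSober X] [T0Space X] (Z : Set X)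
    (hZ : IsClosed Z) (hne : Z.Nonempty) : ∃ x ∈ Z, ∀ y, y ⤳ x → y ∈ Z → y = x := by
  obtain ⟨z₀, hz₀⟩ := hne
  haveI : QuasiSober Z := hZ.isClosedEmbedding_subtypeVal.quasiSober
  obtain ⟨ζ, hζ⟩ := QuasiSober.sober
    (isIrreducible_irreducibleComponent (x := (⟨z₀, hz₀⟩ : Z))) isClosed_irreducibleComponent
  refine ⟨ζ.1, ζ.2, fun y hy hyZ => ?_⟩
  have h1 : (⟨y, hyZ⟩ : Z) ⤳ ζ := IsInducing.subtypeVal.specializes_iff.mp hy
  have h2 : irreducibleComponent (⟨z₀, hz₀⟩ : Z) ⊆ closure {(⟨y, hyZ⟩ : Z)} := by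
    rw [← hζ.def]
    exact specializes_iff_closure_subset.mp h1
  have hmax : Maximal IsIrreducible (irreducibleComponent (⟨z₀, hz₀⟩ : Z)) :=
    irreducibleComponent_mem_irreducibleComponents _
  have h3 : irreducibleComponent (⟨z₀, hz₀⟩ : Z) = closure {(⟨y, hyZ⟩ : Z)} :=
    hmax.eq_of_subset isIrreducible_singleton.closure h2
  have h4 : ζ ⤳ (⟨y, hyZ⟩ : Z) := by
    rw [specializes_iff_mem_closure, hζ.def, h3]
    exact subset_closure rfl
  exact (congrArg Subtype.val (h1.antisymm h4).eq)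

/-- the preimage of `U` in the local scheme at a maximal point of the complement is the punctured
spectrum -/
theorem preimage_eq_puncturedSpec {X : Scheme.{u}} (U : X.Opens) (x : X) (hx : x ∉ U)
    (hgen : ∀ y : X, y ⤳ x → y ∉ U → y = x) :
    X.fromSpecStalk x ⁻¹ᵁ U = FEt.puncturedSpec (X.presheaf.stalk x) := by
  ext p
  change X.fromSpecStalk x p ∈ U ↔ p ∈ ({IsLocalRing.closedPoint (X.presheaf.stalk x)}ᶜ : Set _)
  constructor
  · intro hp hpc
    apply hx
    rw [Set.mem_singleton_iff] at hpc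
    rw [hpc, Scheme.fromSpecStalk_closedPoint] at hp
    exact hp
  · intro hp
    by_contra hpU
    apply hp
    have hsp : X.fromSpecStalk x p ⤳ x := by
      have : X.fromSpecStalk x p ∈ Set.range (X.fromSpecStalk x) := ⟨p, rfl⟩
      rw [Scheme.range_fromSpecStalk] at this
      exact this
    have heq : X.fromSpecStalk x p = x := hgen _ hsp hpU
    rw [Set.mem_singleton_iff]
    apply (X.fromSpecStalk x).isEmbedding.injective
    rw [heq, Scheme.fromSpecStalk_closedPoint]

section Descend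

open Groth.Agent.Lead.LimPullback Groth.Agent.Lead.LimIsoDesc

variable {I : Type u} [SmallCategory I] [IsCofiltered I] {D : I ⥤ Scheme.{u}} {c : Cone D}
  (hc : IsLimit c) [∀ {i j : I} (f : i ⟶ j), IsAffineHom (D.map f)] (i : I)
  {X₀ Y₀ : Scheme.{u}} (a₀ : X₀ ⟶ D.obj i) (b₀ : Y₀ ⟶ D.obj i)

include hc in
/-- model-agnostic descent of isomorphisms -/
theorem exists_iso_descend' [CompactSpace X₀] [QuasiSeparatedSpace X₀] [CompactSpace Y₀]
    [QuasiSeparatedSpace Y₀] [LocallyOfFinitePresentation a₀] [LocallyOfFinitePresentation b₀]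
    {X' Y' : Scheme.{u}} {fX : X' ⟶ c.pt} {sX : X' ⟶ X₀} {fY : Y' ⟶ c.pt} {sY : Y' ⟶ Y₀}
    (hX : IsPullback fX sX (c.π.app i) a₀) (hY : IsPullback fY sY (c.π.app i) b₀)
    (e : X' ≅ Y') (he : e.hom ≫ fY = fX) :
    ∃ (j : Over i) (ej : pullback (D.map j.hom) a₀ ≅ pullback (D.map j.hom) b₀),
      ej.hom ≫ pullback.fst (D.map j.hom) b₀ = pullback.fst (D.map j.hom) a₀ := by
  let e' : pullback (c.π.app i) a₀ ≅ pullback (c.π.app i) b₀ :=
    hX.isoPullback.symm ≪≫ e ≪≫ hY.isoPullback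
  have he' : e'.hom ≫ pullback.fst (c.π.app i) b₀ = pullback.fst (c.π.app i) a₀ := by
    simp only [e', Iso.trans_hom, Iso.symm_hom, Category.assoc, IsPullback.isoPullback_hom_fst]
    rw [he, IsPullback.isoPullback_inv_fst]
  obtain ⟨j, ej, h1, -⟩ := exists_iso_descend hc i a₀ b₀ e' he'
  exact ⟨j, ej, h1⟩

end Descend

section Pullback

variable {C : Type*} [Category C]

/-- the pullback of `w ≫ ι` along a monomorphism `ι` -/
theorem isPullback_id_of_mono {W U X : C} (w : W ⟶ U) (ι : U ⟶ X) [Mono ι] :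
    IsPullback (𝟙 W) w (w ≫ ι) ι := by
  have s1 : IsPullback (𝟙 W) w w (𝟙 U) := IsPullback.of_horiz_isIso ⟨by simp⟩
  have s2 : IsPullback (𝟙 U) (𝟙 U) ι ι := (IsKernelPair.id_of_mono ι)
  have := s1.paste_vert s2
  simpa using this

end Pullback

/-- points of a pullback square -/
theorem exists_preimage_of_isPullback {P X Y Z : Scheme.{u}} {fst : P ⟶ X} {snd : P ⟶ Y}
    {f : X ⟶ Z} {g : Y ⟶ Z} (h : IsPullback fst snd f g) (x : X) (y : Y) (hxy : f x = g y) :
    ∃ p : P, fst p = x ∧ snd p = y := by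
  obtain ⟨z, hz1, hz2⟩ := Scheme.Pullback.exists_preimage_pullback (f := f) (g := g) x y hxy
  refine ⟨h.isoPullback.inv z, ?_, ?_⟩
  · rw [← Scheme.Hom.comp_apply, IsPullback.isoPullback_inv_fst, hz1]
  · rw [← Scheme.Hom.comp_apply, IsPullback.isoPullback_inv_snd, hz2]

end Groth.Agent.Helper8.PurExt
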