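import Mathlib
import Groth.Agent.Lead.Glue2
import Groth.Agent.Helper8.PurExtA

/-!
# Gluing two finite étale covers along an open overlap
-/

set_option autoImplicit false
universe u

namespace Groth.Agent.Helper8.PurExt

open CategoryTheory CategoryTheory.Limits AlgebraicGeometry Topology Groth.Agent.Lead.Glue2

section Glue

variable {X V W T W₁₂ : Scheme.{u}} (U : X.Opens) (v : V ⟶ X) [IsOpenImmersion v]
  (w : W ⟶ U.toScheme) (t : T ⟶ V) (α : W₁₂ ⟶ W) (β : W₁₂ ⟶ T)

/-- a property local on the target holds if it holds over two open subschemes covering the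
target -/
theorem prop_of_cover2_target (P : MorphismProperty Scheme.{u}) [IsZariskiLocalAtTarget P]
    {G Y A B : Scheme.{u}} (γ : G ⟶ Y) (a : A ⟶ Y) (b : B ⟶ Y) [IsOpenImmersion a]
    [IsOpenImmersion b] (hab : ∀ y : Y, y ∈ Set.range a ∨ y ∈ Set.range b)
    {GA GB : Scheme.{u}} {iA : GA ⟶ G} {pA : GA ⟶ A} {iB : GB ⟶ G} {pB : GB ⟶ B}
    (sqA : IsPullback iA pA γ a) (sqB : IsPullback iB pB γ b) (hA : P pA) (hB : P pB) : P γ := by
  refine IsZariskiLocalAtTarget.of_openCover (cover2 a b hab) ?_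
  rintro (_ | _)
  · change P (pullback.snd γ b)
    exact (P.cancel_left_of_respectsIso sqB.isoPullback.hom _).mp
      (by rw [sqB.isoPullback_hom_snd]; exact hB)
  · change P (pullback.snd γ a)
    exact (P.cancel_left_of_respectsIso sqA.isoPullback.hom _).mp
      (by rw [sqA.isoPullback_hom_snd]; exact hA)

include U v w t α β in
/-- gluing a finite étale cover of `U` and a finite étale cover of `V` along an identification over
`U ∩ V` -/
theorem exists_glue [IsFinite w] [Etale w] [IsFinite t] [Etale t]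
    (hα : IsPullback α (β ≫ t) (w ≫ U.ι) v) (hβ : IsPullback β (α ≫ w) (t ≫ v) U.ι) :
    ∃ (G : Scheme.{u}) (γ : G ⟶ (U ⊔ v.opensRange).toScheme) (j : W ⟶ G),
      IsFinite γ ∧ Etale γ ∧ IsPullback j w γ (X.homOfLE le_sup_left) := by
  haveI : IsOpenImmersion α :=
    MorphismProperty.of_isPullback (P := @IsOpenImmersion) hα.flip inferInstance
  haveI : IsOpenImmersion β :=
    MorphismProperty.of_isPullback (P := @IsOpenImmersion) hβ.flip inferInstance
  have compat : α ≫ (w ≫ U.ι) = β ≫ (t ≫ v) := by rw [hα.w, Category.assoc]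
  let G := pushout α β
  let il : W ⟶ G := pushout.inl α β
  let ir : T ⟶ G := pushout.inr α β
  let γ : G ⟶ X := pushout.desc (w ≫ U.ι) (t ≫ v) compat
  have hil : il ≫ γ = w ≫ U.ι := pushout.inl_desc _ _ _
  have hir : ir ≫ γ = t ≫ v := pushout.inr_desc _ _ _
  have hcond : α ≫ il = β ≫ ir := pushout.condition
  let U₁ : X.Opens := U ⊔ v.opensRange
  have hrange : Set.range γ ⊆ Set.range U₁.ι := by
    rw [Scheme.Opens.range_ι]
    rintro _ ⟨g, rfl⟩
    rcases inl_or_inr α β g with ⟨w', rfl⟩ | ⟨t', rfl⟩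
    · left
      change γ (il w') ∈ U
      rw [← Scheme.Hom.comp_apply, hil, Scheme.Hom.comp_apply]
      exact (w w').2
    · right
      change γ (ir t') ∈ v.opensRange
      rw [← Scheme.Hom.comp_apply, hir, Scheme.Hom.comp_apply]
      exact ⟨t t', rfl⟩
  let γ₁ : G ⟶ U₁.toScheme := IsOpenImmersion.lift U₁.ι γ hrange
  have hγ₁ : γ₁ ≫ U₁.ι = γ := IsOpenImmersion.lift_fac _ _ _
  let a : U.toScheme ⟶ U₁.toScheme := X.homOfLE le_sup_left
  have ha : a ≫ U₁.ι = U.ι := X.homOfLE_ι _
  have hvr : Set.range v ⊆ Set.range U₁.ι := by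
    rw [Scheme.Opens.range_ι]
    rintro _ ⟨z, rfl⟩
    exact Or.inr ⟨z, rfl⟩
  let b : V ⟶ U₁.toScheme := IsOpenImmersion.lift U₁.ι v hvr
  have hb : b ≫ U₁.ι = v := IsOpenImmersion.lift_fac _ _ _
  haveI : IsOpenImmersion (b ≫ U₁.ι) := by rw [hb]; infer_instance
  haveI : IsOpenImmersion b := IsOpenImmersion.of_comp b U₁.ι
  have hinj : Function.Injective U₁.ι := U₁.ι.isOpenEmbedding.injective
  have hab : ∀ y : U₁.toScheme, y ∈ Set.range a ∨ y ∈ Set.range b := by
    intro y
    rcases y.2 with hy | ⟨z, hz⟩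
    · refine Or.inl ⟨⟨y.1, hy⟩, hinj ?_⟩
      rw [← Scheme.Hom.comp_apply, ha]
      rfl
    · refine Or.inr ⟨z, hinj ?_⟩
      rw [← Scheme.Hom.comp_apply, hb]
      exact hz
  -- membership in the ranges of `a` and `b`
  have mem_a : ∀ y : U₁.toScheme, y ∈ Set.range a ↔ U₁.ι y ∈ U := by
    intro y
    constructor
    · rintro ⟨z, rfl⟩
      rw [← Scheme.Hom.comp_apply, ha]
      exact z.2
    · intro hy
      refine ⟨⟨U₁.ι y, hy⟩, hinj ?_⟩
      rw [← Scheme.Hom.comp_apply, ha]
      rfl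
  have mem_b : ∀ y : U₁.toScheme, y ∈ Set.range b ↔ U₁.ι y ∈ Set.range v := by
    intro y
    constructor
    · rintro ⟨z, rfl⟩
      rw [← Scheme.Hom.comp_apply, hb]
      exact ⟨z, rfl⟩
    · rintro ⟨z, hz⟩
      refine ⟨z, hinj ?_⟩
      rw [← Scheme.Hom.comp_apply, hb]
      exact hz
  have γ₁_apply : ∀ g : G, U₁.ι (γ₁ g) = γ g := by
    intro g
    rw [← Scheme.Hom.comp_apply, hγ₁]
  -- the two cartesian squares
  have sqU : IsPullback w il a γ₁ := by
    refine IsOpenImmersion.isPullback w il a γ₁ ?_ ?_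
    · rw [← cancel_mono U₁.ι, Category.assoc, hγ₁, hil, Category.assoc, ha]
    · ext g
      change γ₁ g ∈ Set.range a ↔ g ∈ Set.range il
      rw [mem_a, γ₁_apply]
      constructor
      · intro hg
        rcases inl_or_inr α β g with hg' | ⟨t', rfl⟩
        · exact hg'
        · have h1 : γ (ir t') = v (t t') := by
            rw [← Scheme.Hom.comp_apply, hir, Scheme.Hom.comp_apply]
          rw [h1] at hg
          obtain ⟨z, hz1, -⟩ := exists_preimage_of_isPullback hβ t' ⟨v (t t'), hg⟩ (by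
            rw [Scheme.Hom.comp_apply]; rfl)
          refine ⟨α z, ?_⟩
          rw [← hz1]
          change (α ≫ il) z = (β ≫ ir) z
          rw [hcond]
      · rintro ⟨w', rfl⟩
        rw [← Scheme.Hom.comp_apply, hil, Scheme.Hom.comp_apply]
        exact (w w').2
  have sqV : IsPullback t ir b γ₁ := by
    refine IsOpenImmersion.isPullback t ir b γ₁ ?_ ?_
    · rw [← cancel_mono U₁.ι, Category.assoc, hγ₁, hir, Category.assoc, hb]
    · ext g
      change γ₁ g ∈ Set.range b ↔ g ∈ Set.range ir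
      rw [mem_b, γ₁_apply]
      constructor
      · intro hg
        rcases inl_or_inr α β g with ⟨w', rfl⟩ | hg'
        · have h1 : γ (il w') = U.ι (w w') := by
            rw [← Scheme.Hom.comp_apply, hil, Scheme.Hom.comp_apply]
          rw [h1] at hg
          obtain ⟨y, hy⟩ := hg
          obtain ⟨z, hz1, -⟩ := exists_preimage_of_isPullback hα w' y (by
            rw [Scheme.Hom.comp_apply]; exact hy.symm)
          refine ⟨β z, ?_⟩
          rw [← hz1]
          change (β ≫ ir) z = (α ≫ il) z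
          rw [hcond]
        · exact hg'
      · rintro ⟨t', rfl⟩
        rw [← Scheme.Hom.comp_apply, hir, Scheme.Hom.comp_apply]
        exact ⟨t t', rfl⟩
  refine ⟨G, γ₁, il, ?_, ?_, sqU.flip⟩
  · exact prop_of_cover2_target @IsFinite γ₁ a b hab sqU.flip sqV.flip inferInstance inferInstance
  · exact prop_of_cover2_target @Etale γ₁ a b hab sqU.flip sqV.flip inferInstance inferInstance

end Glue

end Groth.Agent.Helper8.PurExt
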