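import Mathlib
import Groth.Prelude.Def_FEt
import Groth.Agent.Lead.HomGlueB
import Groth.Agent.Lead.LimFEt
import Groth.Agent.Lead.LimIso
import Groth.Agent.Helper8.PurExtA
import Groth.Agent.Helper8.PurExtB

/-!
# Extension of finite étale covers across the points where purity holds
-/

set_option autoImplicit false
universe u

namespace Groth.Agent.Helper8.PurExt

open CategoryTheory CategoryTheory.Limits AlgebraicGeometry Topology
open Groth.Agent.Lead.HomGlueB Groth.Agent.Lead.LimIso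

section Cubes

theorem isPullback_cubeP {T T₀ SA B₀ Pn Y₀ : Scheme.{u}} {g : T ⟶ T₀} {τ : T ⟶ SA}
    {t₀ : T₀ ⟶ B₀} {π₀ : SA ⟶ B₀} (hmodel : IsPullback g τ t₀ π₀) {ρ' : Pn ⟶ Y₀} {ιP : Pn ⟶ SA}
    {ιY : Y₀ ⟶ B₀} (sqY : IsPullback ρ' ιP ιY π₀) (sP : pullback τ ιP ⟶ pullback t₀ ιY)
    (h1 : sP ≫ pullback.fst t₀ ιY = pullback.fst τ ιP ≫ g)
    (h2 : sP ≫ pullback.snd t₀ ιY = pullback.snd τ ιP ≫ ρ') :
    IsPullback (pullback.snd τ ιP ≫ ιP) sP π₀ (pullback.fst t₀ ιY ≫ t₀) := by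
  have big : IsPullback (pullback.fst τ ιP ≫ g) (pullback.snd τ ιP) t₀ (ιP ≫ π₀) :=
    (IsPullback.of_hasPullback τ ιP).paste_horiz hmodel
  rw [← h1, ← sqY.w] at big
  have s1 : IsPullback sP (pullback.snd τ ιP) (pullback.snd t₀ ιY) ρ' :=
    IsPullback.of_right big h2 (IsPullback.of_hasPullback t₀ ιY)
  have s2 := (s1.paste_vert sqY).flip
  rw [← pullback.condition (f := t₀) (g := ιY)] at s2
  exact s2

theorem isPullback_cubeQ {W U SA B₀ Pn Y₀ : Scheme.{u}} {w : W ⟶ U} {ρ : Pn ⟶ U} {ρ₀ : Y₀ ⟶ U}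
    {ρ' : Pn ⟶ Y₀} {ιP : Pn ⟶ SA} {ιY : Y₀ ⟶ B₀} {π₀ : SA ⟶ B₀} (hρ : ρ' ≫ ρ₀ = ρ)
    (sqY : IsPullback ρ' ιP ιY π₀) (sQ : pullback w ρ ⟶ pullback w ρ₀)
    (h1 : sQ ≫ pullback.fst w ρ₀ = pullback.fst w ρ)
    (h2 : sQ ≫ pullback.snd w ρ₀ = pullback.snd w ρ ≫ ρ') :
    IsPullback (pullback.snd w ρ ≫ ιP) sQ π₀ (pullback.snd w ρ₀ ≫ ιY) := by
  have big : IsPullback (sQ ≫ pullback.fst w ρ₀) (pullback.snd w ρ) w (ρ' ≫ ρ₀) := by
    rw [hρ, h1]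
    exact IsPullback.of_hasPullback w ρ
  have s1 : IsPullback sQ (pullback.snd w ρ) (pullback.snd w ρ₀) ρ' :=
    IsPullback.of_right big h2 (IsPullback.of_hasPullback w ρ₀)
  exact (s1.paste_vert sqY).flip

end Cubes

set_option maxHeartbeats 1600000 in
/-- the key step: extension across a maximal point of the complement at which purity holds -/
theorem extend_at_point {X : Scheme.{u}} [IsNoetherian X] (U : X.Opens) (x : X) (hx : x ∉ U)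
    (hgen : ∀ y : X, y ⤳ x → y ∉ U → y = x)
    (hpur : FEt.PurityHolds (X.presheaf.stalk x))
    {W : Scheme.{u}} (w : W ⟶ U.toScheme) [IsFinite w] [Etale w] :
    ∃ (U₁ : X.Opens) (hUU₁ : U ≤ U₁) (_ : x ∈ U₁) (G : Scheme.{u}) (γ : G ⟶ U₁.toScheme)
      (j : W ⟶ G), IsFinite γ ∧ Etale γ ∧ IsPullback j w γ (X.homOfLE hUU₁) := by
  have hpre : X.fromSpecStalk x ⁻¹ᵁ U = FEt.puncturedSpec (X.presheaf.stalk x) :=
    preimage_eq_puncturedSpec U x hx hgen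
  let Pn : (Spec (X.presheaf.stalk x)).Opens := FEt.puncturedSpec (X.presheaf.stalk x)
  let σ : Spec (X.presheaf.stalk x) ⟶ X := X.fromSpecStalk x
  have hpre' : σ ⁻¹ᵁ U = Pn := hpre
  -- the map from the punctured spectrum to `U`
  have hρr : Set.range (Pn.ι ≫ σ) ⊆ Set.range U.ι := by
    rw [Scheme.Opens.range_ι]
    rintro _ ⟨p, rfl⟩
    have : Pn.ι p ∈ σ ⁻¹ᵁ U := by rw [hpre']; exact p.2
    rw [Scheme.Hom.comp_apply]
    exact this
  let ρ : Pn.toScheme ⟶ U.toScheme := IsOpenImmersion.lift U.ι (Pn.ι ≫ σ) hρr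
  have hρ : ρ ≫ U.ι = Pn.ι ≫ σ := IsOpenImmersion.lift_fac _ _ _
  -- the pulled back cover and purity
  let WA : FEt.Cat Pn.toScheme := MorphismProperty.Over.mk ⊤ (pullback.snd w ρ)
    ⟨MorphismProperty.pullback_snd _ _ inferInstance,
      MorphismProperty.pullback_snd _ _ inferInstance⟩
  have hpur' : (FEt.restrict Pn.ι).EssSurj := hpur
  obtain ⟨Tobj, ⟨ε⟩⟩ := hpur'.mem_essImage WA
  haveI : IsFinite Tobj.hom := Tobj.prop.1
  haveI : Etale Tobj.hom := Tobj.prop.2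
  let εL : pullback Tobj.hom Pn.ι ≅ pullback w ρ :=
    (MorphismProperty.Over.forget FEt.prop ⊤ Pn.toScheme ⋙ Over.forget Pn.toScheme).mapIso ε
  have hεL : εL.hom ≫ pullback.snd w ρ = pullback.snd Tobj.hom Pn.ι := Over.w ε.hom.hom
  -- a model over an affine neighbourhood
  obtain ⟨hc⟩ := cone_isLimit x
  let τ' : Tobj.left ⟶ (cone x).pt := Tobj.hom
  haveI : IsFinite τ' := Tobj.prop.1
  haveI : Etale τ' := Tobj.prop.2
  obtain ⟨V₀, T₀, t₀, g, ht₀f, ht₀e, hmodel'⟩ :=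
    Groth.Agent.Lead.LimFEt.exists_fet_model hc (v := τ')
  haveI := ht₀f
  haveI := ht₀e
  let τ : Tobj.left ⟶ Spec (X.presheaf.stalk x) := Tobj.hom
  let π₀ : Spec (X.presheaf.stalk x) ⟶ (D x).obj V₀ := (cone x).π.app V₀
  have hmodel : IsPullback (P := Tobj.left) (X := T₀) (Y := Spec (X.presheaf.stalk x))
      (Z := (D x).obj V₀) g τ t₀ π₀ := hmodel'
  have hπ₀ : π₀ ≫ fs x V₀ = σ := cone_π_fs x V₀
  let Y₀ : ((D x).obj V₀).Opens := fs x V₀ ⁻¹ᵁ U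
  let ρ₀ : Y₀.toScheme ⟶ U.toScheme := fs x V₀ ∣_ U
  have hρ₀ : ρ₀ ≫ U.ι = Y₀.ι ≫ fs x V₀ := morphismRestrict_ι _ _
  have sqMR : IsPullback ρ₀ Y₀.ι U.ι (fs x V₀) := isPullback_morphismRestrict _ _
  have hpre₀ : π₀ ⁻¹ᵁ Y₀ = Pn := by
    rw [← hpre', ← hπ₀]
    rfl
  have hρ'r : Set.range (Pn.ι ≫ π₀) ⊆ Set.range Y₀.ι := by
    rw [Scheme.Opens.range_ι]
    rintro _ ⟨p, rfl⟩
    have : Pn.ι p ∈ π₀ ⁻¹ᵁ Y₀ := by rw [hpre₀]; exact p.2
    rw [Scheme.Hom.comp_apply]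
    exact this
  let ρ' : Pn.toScheme ⟶ Y₀.toScheme := IsOpenImmersion.lift Y₀.ι (Pn.ι ≫ π₀) hρ'r
  have hρ' : ρ' ≫ Y₀.ι = Pn.ι ≫ π₀ := IsOpenImmersion.lift_fac _ _ _
  have sqY : IsPullback ρ' Pn.ι Y₀.ι π₀ := by
    refine IsOpenImmersion.isPullback ρ' Pn.ι Y₀.ι π₀ hρ'.symm ?_
    rw [Scheme.Opens.opensRange_ι, Scheme.Opens.opensRange_ι, hpre₀]
  have hρρ : ρ' ≫ ρ₀ = ρ := by
    rw [← cancel_mono U.ι, Category.assoc, hρ₀, ← Category.assoc, hρ', Category.assoc, hπ₀, hρ]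
  -- the two covers of `Y₀`
  let f₀ : pullback t₀ Y₀.ι ⟶ T₀ := pullback.fst t₀ Y₀.ι
  let a₀ : pullback t₀ Y₀.ι ⟶ (D x).obj V₀ := f₀ ≫ t₀
  let b₀ : pullback w ρ₀ ⟶ (D x).obj V₀ := pullback.snd w ρ₀ ≫ Y₀.ι
  haveI : IsNoetherianRing Γ(X, V₀.1) :=
    IsLocallyNoetherian.component_noetherian ⟨V₀.1, V₀.aff⟩
  haveI : IsLocallyNoetherian ((D x).obj V₀) :=
    inferInstanceAs (IsLocallyNoetherian (Spec Γ(X, V₀.1)))
  haveI : IsLocallyNoetherian T₀ := LocallyOfFiniteType.isLocallyNoetherian t₀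
  haveI : IsOpenImmersion f₀ := inferInstanceAs (IsOpenImmersion (pullback.fst t₀ Y₀.ι))
  haveI : IsFinite (pullback.snd w ρ₀) := MorphismProperty.pullback_snd _ _ inferInstance
  haveI : Etale (pullback.snd w ρ₀) := MorphismProperty.pullback_snd _ _ inferInstance
  haveI : LocallyOfFinitePresentation a₀ :=
    inferInstanceAs (LocallyOfFinitePresentation (f₀ ≫ t₀))
  haveI : LocallyOfFinitePresentation b₀ :=
    inferInstanceAs (LocallyOfFinitePresentation (pullback.snd w ρ₀ ≫ Y₀.ι))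
  haveI : QuasiCompact a₀ := inferInstanceAs (QuasiCompact (f₀ ≫ t₀))
  haveI : QuasiCompact b₀ := inferInstanceAs (QuasiCompact (pullback.snd w ρ₀ ≫ Y₀.ι))
  haveI : CompactSpace ↥(pullback t₀ Y₀.ι) := QuasiCompact.compactSpace_of_compactSpace a₀
  haveI : CompactSpace ↥(pullback w ρ₀) := QuasiCompact.compactSpace_of_compactSpace b₀
  haveI : IsLocallyNoetherian (pullback t₀ Y₀.ι) := LocallyOfFiniteType.isLocallyNoetherian a₀
  haveI : IsLocallyNoetherian (pullback w ρ₀) := LocallyOfFiniteType.isLocallyNoetherian b₀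
  -- the limit squares
  let sP : pullback Tobj.hom Pn.ι ⟶ pullback t₀ Y₀.ι :=
    pullback.lift (pullback.fst Tobj.hom Pn.ι ≫ g) (pullback.snd Tobj.hom Pn.ι ≫ ρ') (by
      have h1 : pullback.fst Tobj.hom Pn.ι ≫ τ = pullback.snd Tobj.hom Pn.ι ≫ Pn.ι :=
        pullback.condition
      have h2 : g ≫ t₀ = τ ≫ π₀ := hmodel.w
      calc (pullback.fst Tobj.hom Pn.ι ≫ g) ≫ t₀
          = pullback.fst Tobj.hom Pn.ι ≫ (τ ≫ π₀) := by rw [Category.assoc, h2]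
        _ = (pullback.fst Tobj.hom Pn.ι ≫ τ) ≫ π₀ := (Category.assoc _ _ _).symm
        _ = (pullback.snd Tobj.hom Pn.ι ≫ Pn.ι) ≫ π₀ := by rw [h1]
        _ = pullback.snd Tobj.hom Pn.ι ≫ (Pn.ι ≫ π₀) := Category.assoc _ _ _
        _ = pullback.snd Tobj.hom Pn.ι ≫ (ρ' ≫ Y₀.ι) := by rw [hρ']
        _ = (pullback.snd Tobj.hom Pn.ι ≫ ρ') ≫ Y₀.ι := (Category.assoc _ _ _).symm)
  have sqP : IsPullback (pullback.snd Tobj.hom Pn.ι ≫ Pn.ι) sP π₀ a₀ :=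
    isPullback_cubeP hmodel sqY sP (pullback.lift_fst _ _ _) (pullback.lift_snd _ _ _)
  let sQ : pullback w ρ ⟶ pullback w ρ₀ :=
    pullback.lift (pullback.fst w ρ) (pullback.snd w ρ ≫ ρ') (by
      rw [Category.assoc, hρρ, pullback.condition])
  have sqQ : IsPullback (pullback.snd w ρ ≫ Pn.ι) sQ π₀ b₀ :=
    isPullback_cubeQ hρρ sqY sQ (pullback.lift_fst _ _ _) (pullback.lift_snd _ _ _)
  -- descent of the isomorphism
  have hεL' : εL.hom ≫ (pullback.snd w ρ ≫ Pn.ι) = pullback.snd Tobj.hom Pn.ι ≫ Pn.ι := by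
    rw [← Category.assoc, hεL]
  obtain ⟨j, ej, hej⟩ := exists_iso_descend' hc V₀ a₀ b₀ sqP sqQ εL hεL'
  let V₁ : Nb x := j.left
  let δ : (D x).obj V₁ ⟶ (D x).obj V₀ := (D x).map j.hom
  have hδ : δ ≫ fs x V₀ = fs x V₁ := D_map_fs x j.hom
  let v : (D x).obj V₁ ⟶ X := fs x V₁
  let t₁ : pullback δ t₀ ⟶ (D x).obj V₁ := pullback.fst δ t₀
  haveI : IsFinite t₁ := MorphismProperty.pullback_fst _ _ inferInstance
  haveI : Etale t₁ := MorphismProperty.pullback_fst _ _ inferInstance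
  let α : pullback δ b₀ ⟶ W := pullback.snd δ b₀ ≫ pullback.fst w ρ₀
  let β : pullback δ b₀ ⟶ pullback δ t₀ := ej.inv ≫ bcMap δ f₀ t₀
  have hej' : ej.inv ≫ pullback.fst δ a₀ = pullback.fst δ b₀ := by
    rw [← hej, Iso.inv_hom_id_assoc]
  have hbc : bcMap δ f₀ t₀ ≫ pullback.fst δ t₀ = pullback.fst δ a₀ := by
    change bcMap δ f₀ t₀ ≫ pullback.fst δ t₀ = pullback.fst δ (f₀ ≫ t₀)
    simp [bcMap, pullback.lift_fst]
  have hβt : β ≫ t₁ = pullback.fst δ b₀ := by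
    change (ej.inv ≫ bcMap δ f₀ t₀) ≫ pullback.fst δ t₀ = _
    rw [Category.assoc, hbc, hej']
  have s2 : IsPullback (pullback.fst w ρ₀) b₀ (w ≫ U.ι) (fs x V₀) :=
    (IsPullback.of_hasPullback w ρ₀).paste_vert sqMR
  have hα : IsPullback α (β ≫ t₁) (w ≫ U.ι) v := by
    rw [hβt]
    have := (IsPullback.of_hasPullback δ b₀).flip.paste_horiz s2
    rw [hδ] at this
    exact this
  have s3 : IsPullback f₀ (pullback.snd t₀ Y₀.ι ≫ ρ₀) (t₀ ≫ fs x V₀) U.ι :=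
    (IsPullback.of_hasPullback t₀ Y₀.ι).paste_vert sqMR.flip
  have s4 : IsPullback (bcMap δ f₀ t₀) (pullback.snd δ a₀) (pullback.snd δ t₀) f₀ :=
    (isPullback_bcMap δ f₀ t₀).flip
  have s5 := s4.paste_vert s3
  have e5 : pullback.snd δ t₀ ≫ t₀ ≫ fs x V₀ = t₁ ≫ v := by
    rw [← Category.assoc, ← pullback.condition, Category.assoc, hδ]
  rw [e5] at s5
  have s6 : IsPullback ej.inv (ej.inv ≫ pullback.snd δ a₀ ≫ pullback.snd t₀ Y₀.ι ≫ ρ₀)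
      (pullback.snd δ a₀ ≫ pullback.snd t₀ Y₀.ι ≫ ρ₀) (𝟙 _) :=
    IsPullback.of_horiz_isIso ⟨by simp⟩
  have s7 := s6.paste_horiz s5
  rw [Category.id_comp] at s7
  have hL : ej.inv ≫ pullback.snd δ a₀ ≫ pullback.snd t₀ Y₀.ι ≫ ρ₀ = α ≫ w := by
    rw [← cancel_mono U.ι, ← s7.w]
    calc (ej.inv ≫ bcMap δ f₀ t₀) ≫ t₁ ≫ v = (β ≫ t₁) ≫ v := (Category.assoc _ _ _).symm
      _ = α ≫ w ≫ U.ι := hα.w.symm
      _ = (α ≫ w) ≫ U.ι := (Category.assoc _ _ _).symm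
  have hβ : IsPullback β (α ≫ w) (t₁ ≫ v) U.ι := by
    rw [← hL]
    exact s7
  obtain ⟨G, γ, jj, hγf, hγe, sq⟩ := exists_glue U v w t₁ α β hα hβ
  refine ⟨U ⊔ v.opensRange, le_sup_left, Or.inr ?_, G, γ, jj, hγf, hγe, sq⟩
  change x ∈ (fs x V₁).opensRange
  rw [opensRange_fs]
  exact V₁.mem

/-- the extension property of an open subset -/
def ExtProp {X : Scheme.{u}} (U : X.Opens) : Prop :=
  (∀ x : X, x ∉ U → FEt.PurityHolds (X.presheaf.stalk x)) →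
  ∀ {W : Scheme.{u}} (w : W ⟶ U.toScheme) [IsFinite w] [Etale w],
    ∃ (G : Scheme.{u}) (γ : G ⟶ X) (j : W ⟶ G), IsFinite γ ∧ Etale γ ∧ IsPullback j w γ U.ι

theorem extProp_all {X : Scheme.{u}} [IsNoetherian X] (U : X.Opens) : ExtProp U := by
  haveI : WellFoundedGT X.Opens := (inferInstance : TopologicalSpace.NoetherianSpace X)
  refine WellFoundedGT.induction (motive := fun U : X.Opens => ExtProp U) U ?_
  intro U ih hU W w _ _
  by_cases htop : U = ⊤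
  · subst htop
    haveI : IsIso (⊤ : X.Opens).ι := by
      rw [← Scheme.topIso_hom]
      infer_instance
    exact ⟨W, w ≫ (⊤ : X.Opens).ι, 𝟙 W, inferInstance, inferInstance,
      isPullback_id_of_mono w _⟩
  · have hne : ((U : Set X)ᶜ).Nonempty := by
      rw [Set.nonempty_compl]
      intro h'
      apply htop
      ext1
      rw [h']
      rfl
    obtain ⟨x, hxZ, hmax⟩ := exists_max_point ((U : Set X)ᶜ) U.isOpen.isClosed_compl hne
    obtain ⟨U₁, hUU₁, hx₁, G₁, γ₁, j₁, hf₁, he₁, sq₁⟩ :=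
      extend_at_point U x hxZ (fun y hy hyU => hmax y hy hyU) (hU x hxZ) w
    have hlt : U < U₁ := lt_of_le_of_ne hUU₁ (fun h' => hxZ (h' ▸ hx₁))
    haveI := hf₁
    haveI := he₁
    obtain ⟨G, γ, j, hf, he, sq⟩ :=
      ih U₁ hlt (fun x' hx' => hU x' (fun hx'' => hx' (hUU₁ hx''))) γ₁
    refine ⟨G, γ, j₁ ≫ j, hf, he, ?_⟩
    have := sq₁.paste_horiz sq
    rwa [X.homOfLE_ι] at this

/-- **S0250** -/
theorem main {X : Scheme.{u}} [IsNoetherian X] (U : X.Opens)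
    (h : ∀ x : X, x ∉ U → FEt.PurityHolds (X.presheaf.stalk x)) :
    (FEt.restrict U.ι).EssSurj := by
  constructor
  intro Wobj
  haveI : IsFinite Wobj.hom := Wobj.prop.1
  haveI : Etale Wobj.hom := Wobj.prop.2
  obtain ⟨G, γ, j, hf, he, sq⟩ := extProp_all U h Wobj.hom
  exact ⟨MorphismProperty.Over.mk ⊤ γ ⟨hf, he⟩,
    ⟨MorphismProperty.Over.isoMk sq.isoPullback.symm sq.isoPullback_inv_snd⟩⟩

end Groth.Agent.Helper8.PurExt
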