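import Groth.Agent.Helper8.FEtDenseA

/-!
# Restriction of finite étale covers to a dense open, "connected at infinity"

`FEt(X) → FEt(U)` is fully faithful for a dense open `U` such that the punctured spectra of the strict
henselizations at the points outside `U` are connected, provided closures of clopen pieces of the
restricted covers are specialization closures (retrocompactness of `U`, or local finiteness of the
irreducible components).
-/

set_option autoImplicit false
set_option linter.unusedSectionVars false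
universe u
open AlgebraicGeometry CategoryTheory CategoryTheory.Limits IsLocalRing

namespace Groth.Agent.Helper8.FEtDense

/-- existence of a strict henselization with the needed properties -/
theorem exists_strictHens (S : Type u) [CommRing S] [IsLocalRing S] :
    ∃ (R : Type u) (_ : CommRing R) (_ : IsLocalRing R) (_ : Algebra S R)
      (_ : IsLocalHom (algebraMap S R)),
      Hensel.IsStrictHenselization S R ∧ Module.FaithfullyFlat S R ∧
        (maximalIdeal S).map (algebraMap S R) = maximalIdeal R := by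
  let Ω := SeparableClosure (ResidueField S)
  letI : Algebra S Ω :=
    ((algebraMap (ResidueField S) Ω).comp (algebraMap S (ResidueField S))).toAlgebra
  haveI : IsScalarTower S (ResidueField S) Ω := IsScalarTower.of_algebraMap_eq (fun _ => rfl)
  haveI : IsSepClosure (ResidueField S) Ω := inferInstance
  exact ⟨Groth.Agent.Helper1.Hens.Hens S Ω, inferInstance, inferInstance, inferInstance,
    inferInstance, Groth.Agent.Helper1.Hens.isStrictHenselization, inferInstance,
    Groth.Agent.Helper1.Hens.Hens.map_maximalIdeal⟩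

theorem isPreconnected_punctured (R : Type u) [CommRing R] [IsLocalRing R]
    [ConnectedSpace (FEt.puncturedSpec R : Scheme.{u})] :
    _root_.IsPreconnected ({closedPoint R}ᶜ : Set (PrimeSpectrum R)) := by
  have h := (isConnected_range (FEt.puncturedSpec R).ι.continuous).isPreconnected
  rw [Scheme.Opens.range_ι] at h
  exact h

section phi

variable {W : Scheme.{u}} (w : W) (R : Type u) [CommRing R] [IsLocalRing R]
  [Algebra (W.presheaf.stalk w) R] [IsLocalHom (algebraMap (W.presheaf.stalk w) R)]

/-- the canonical map from the spectrum of a local algebra over the stalk -/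
noncomputable def phi : Spec (CommRingCat.of R) ⟶ W :=
  Spec.map (CommRingCat.ofHom (algebraMap (W.presheaf.stalk w) R)) ≫ W.fromSpecStalk w

omit [IsLocalRing R] [IsLocalHom (algebraMap (W.presheaf.stalk w) R)] in
theorem phi_apply (p : Spec (CommRingCat.of R)) :
    phi w R p =
      W.fromSpecStalk w (PrimeSpectrum.comap (algebraMap (W.presheaf.stalk w) R) p) := rfl

theorem phi_specializes (p : Spec (CommRingCat.of R)) : phi w R p ⤳ w := by
  have h : phi w R p ∈ Set.range (W.fromSpecStalk w) := ⟨_, (phi_apply w R p).symm⟩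
  rw [Scheme.range_fromSpecStalk] at h
  exact h

theorem phi_closedPoint : phi w R (closedPoint R) = w := by
  rw [phi_apply, IsLocalRing.comap_closedPoint, Scheme.fromSpecStalk_closedPoint]

theorem phi_surj [Module.FaithfullyFlat (W.presheaf.stalk w) R] (y : W) (hy : y ⤳ w) :
    ∃ p, phi w R p = y := by
  have h : y ∈ Set.range (W.fromSpecStalk w) := by
    rw [Scheme.range_fromSpecStalk]
    exact hy
  obtain ⟨p', rfl⟩ := h
  obtain ⟨p, hp⟩ := PrimeSpectrum.comap_surjective_of_faithfullyFlat
    (A := W.presheaf.stalk w) (B := R) p'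
  exact ⟨p, by rw [phi_apply, hp]⟩

theorem phi_eq
    (hmax : (maximalIdeal (W.presheaf.stalk w)).map (algebraMap (W.presheaf.stalk w) R) =
      maximalIdeal R)
    (p : Spec (CommRingCat.of R)) (hp : phi w R p = w) : p = closedPoint R := by
  rw [phi_apply] at hp
  have hinj : Function.Injective (W.fromSpecStalk w) :=
    (W.fromSpecStalk w).isEmbedding.injective
  have h1 : PrimeSpectrum.comap (algebraMap (W.presheaf.stalk w) R) p =
      closedPoint (W.presheaf.stalk w) :=
    hinj (hp.trans Scheme.fromSpecStalk_closedPoint.symm)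
  have h2 : p.asIdeal.comap (algebraMap (W.presheaf.stalk w) R) =
      maximalIdeal (W.presheaf.stalk w) := congrArg PrimeSpectrum.asIdeal h1
  have h3 : maximalIdeal R ≤ p.asIdeal := by
    rw [← hmax, Ideal.map_le_iff_le_comap, h2]
  apply PrimeSpectrum.ext
  exact ((IsLocalRing.maximalIdeal.isMaximal R).eq_of_le p.isPrime.ne_top h3).symm

end phi

section main

variable {X : Scheme.{u}} (U : X.Opens)

theorem closure_inter_eq_empty (hU : Dense (U : Set X))
    (hsh : ∀ x : X, x ∉ U → ∀ (R : Type u) [CommRing R] [IsLocalRing R]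
      [Algebra (X.presheaf.stalk x) R] [IsLocalHom (algebraMap (X.presheaf.stalk x) R)]
      [Hensel.IsStrictHenselization (X.presheaf.stalk x) R],
      ConnectedSpace (FEt.puncturedSpec R : Scheme.{u}))
    {W : Scheme.{u}} (q : W ⟶ X) [IsFinite q] [Etale q] (A B : Set W) (hA : IsOpen A)
    (hB : IsOpen B) (hAB : Disjoint A B) (hcov : A ∪ B = q ⁻¹' (U : Set X))
    (hsA : ∀ w ∈ closure A, ∃ a ∈ A, a ⤳ w) (hsB : ∀ w ∈ closure B, ∃ b ∈ B, b ⤳ w) :
    closure A ∩ closure B = ∅ := by
  by_contra hne
  obtain ⟨w, ⟨hwA, hwB⟩, hmin⟩ := exists_minimal_of_isClosed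
    (isClosed_closure.inter isClosed_closure) (Set.nonempty_iff_ne_empty.2 hne)
  obtain ⟨a, haA, haw⟩ := hsA w hwA
  obtain ⟨b, hbB, hbw⟩ := hsB w hwB
  have hwnA : w ∉ A := fun h => Set.disjoint_left.1 hAB (hbw.mem_open hA h) hbB
  have hwnB : w ∉ B := fun h => Set.disjoint_left.1 hAB haA (haw.mem_open hB h)
  have hane : a ≠ w := fun h => hwnA (h ▸ haA)
  have hbne : b ≠ w := fun h => hwnB (h ▸ hbB)
  have hxU : q w ∉ U := fun h => by
    have h' : w ∈ A ∪ B := by rw [hcov]; exact h
    exact h'.elim hwnA hwnB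
  obtain ⟨R, _, _, _, _, hSR, hff, hmax⟩ := exists_strictHens (W.presheaf.stalk w)
  letI algX : Algebra (X.presheaf.stalk (q w)) R :=
    ((algebraMap (W.presheaf.stalk w) R).comp (q.stalkMap w).hom).toAlgebra
  obtain ⟨hloc, hXR⟩ := (Groth.Agent.Helper2.Oliv.s1467 q).1 inferInstance w R
  haveI := hloc
  haveI := hXR
  haveI hconn : ConnectedSpace (FEt.puncturedSpec R : Scheme.{u}) := hsh (q w) hxU R
  have hpre := isPreconnected_punctured R
  have hcovcl : closure A ∪ closure B = Set.univ := by
    rw [← closure_union, hcov]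
    exact (hU.preimage q.isOpenMap).closure_eq
  exact false_of_connected (phi w R) (phi w R).continuous (closedPoint R) w (phi_surj w R)
    (phi_eq w R hmax) (phi_closedPoint w R) (phi_specializes w R) hpre (closure A) (closure B)
    isClosed_closure isClosed_closure hcovcl (fun y h1 h2 h3 => hmin y ⟨h1, h2⟩ h3)
    a (subset_closure haA) haw hane b (subset_closure hbB) hbw hbne

theorem main_of_specCl (hU : Dense (U : Set X))
    (hsh : ∀ x : X, x ∉ U → ∀ (R : Type u) [CommRing R] [IsLocalRing R]
      [Algebra (X.presheaf.stalk x) R] [IsLocalHom (algebraMap (X.presheaf.stalk x) R)]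
      [Hensel.IsStrictHenselization (X.presheaf.stalk x) R],
      ConnectedSpace (FEt.puncturedSpec R : Scheme.{u}))
    (hspec : ∀ {W P : Scheme.{u}} (q : W ⟶ X) [IsFinite q] [Etale q] (p1 : P ⟶ W)
      (p2 : P ⟶ (U : Scheme.{u})), IsPullback p1 p2 q U.ι → ∀ T : Set P, IsClopen T →
        ∀ w ∈ closure (p1 '' T), ∃ a ∈ p1 '' T, a ⤳ w) :
    (FEt.restrict U.ι).Full ∧ (FEt.restrict U.ι).Faithful := by
  refine FEtClopen.main (f := U.ι) ?_ ?_
  · intro Y h _ _ C hC hCX
    by_contra hne
    obtain ⟨y, hy⟩ := Set.nonempty_iff_ne_empty.2 hne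
    have hopen : IsOpen (h '' C) := h.isOpenMap _ hC.isOpen
    obtain ⟨x, ⟨y', hy'C, rfl⟩, hxU⟩ := hU.inter_open_nonempty _ hopen ⟨h y, y, hy, rfl⟩
    obtain ⟨u, hu⟩ : h y' ∈ Set.range U.ι := by
      rw [Scheme.Opens.range_ι]
      exact hxU
    obtain ⟨z, hz1, -⟩ :=
      Scheme.Pullback.exists_preimage_pullback (f := h) (g := U.ι) y' u hu.symm
    have hz : z ∈ (pullback.fst h U.ι) ⁻¹' C := by
      show pullback.fst h U.ι z ∈ C
      rw [hz1]
      exact hy'C
    rw [hCX] at hz
    exact hz
  · intro W P q _ _ p1 p2 H T₀ hT₀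
    haveI : IsOpenImmersion p1 :=
      MorphismProperty.of_isPullback (P := @IsOpenImmersion) H.flip inferInstance
    have hemb : Topology.IsOpenEmbedding p1 := p1.isOpenEmbedding
    have hrange : Set.range p1 = q ⁻¹' (U : Set X) := by
      have h1 := Scheme.image_preimage_eq_of_isPullback H.flip Set.univ
      rw [Set.preimage_univ, Set.image_univ, Set.image_univ] at h1
      rw [← Scheme.Opens.range_ι U]
      exact h1
    have hA : IsOpen (p1 '' T₀) := hemb.isOpenMap _ hT₀.isOpen
    have hB : IsOpen (p1 '' T₀ᶜ) := hemb.isOpenMap _ hT₀.compl.isOpen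
    have hAB : Disjoint (p1 '' T₀) (p1 '' T₀ᶜ) := by
      rw [Set.disjoint_image_iff hemb.injective]
      exact disjoint_compl_right
    have hcov : p1 '' T₀ ∪ p1 '' T₀ᶜ = q ⁻¹' (U : Set X) := by
      rw [← hrange, ← Set.image_union, Set.union_compl_self, Set.image_univ]
    have hdisj : closure (p1 '' T₀) ∩ closure (p1 '' T₀ᶜ) = ∅ :=
      closure_inter_eq_empty U hU hsh q _ _ hA hB hAB hcov
        (hspec q p1 p2 H T₀ hT₀) (hspec q p1 p2 H T₀ᶜ hT₀.compl)
    have hcovcl : closure (p1 '' T₀) ∪ closure (p1 '' T₀ᶜ) = Set.univ := by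
      rw [← closure_union, hcov]
      exact (hU.preimage q.isOpenMap).closure_eq
    have hcompl : closure (p1 '' T₀) = (closure (p1 '' T₀ᶜ))ᶜ := by
      apply Set.Subset.antisymm
      · intro x hx hx'
        have : x ∈ closure (p1 '' T₀) ∩ closure (p1 '' T₀ᶜ) := ⟨hx, hx'⟩
        rw [hdisj] at this
        exact this
      · intro x hx
        have : x ∈ closure (p1 '' T₀) ∪ closure (p1 '' T₀ᶜ) := by
          rw [hcovcl]
          exact Set.mem_univ x
        exact this.resolve_right hx
    refine ⟨closure (p1 '' T₀), ⟨isClosed_closure, ?_⟩, ?_⟩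
    · rw [hcompl]
      exact isClosed_closure.isOpen_compl
    · apply Set.Subset.antisymm
      · intro z hz
        by_contra hzT
        have hzB : p1 z ∈ p1 '' T₀ᶜ := ⟨z, hzT, rfl⟩
        have : p1 z ∈ closure (p1 '' T₀) ∩ closure (p1 '' T₀ᶜ) := ⟨hz, subset_closure hzB⟩
        rw [hdisj] at this
        exact this
      · intro z hz
        exact subset_closure ⟨z, hz, rfl⟩

/-- quasi-compact dense open, connected at infinity -/
theorem main_qc (hU : Dense (U : Set X)) [QuasiCompact U.ι]
    (hsh : ∀ x : X, x ∉ U → ∀ (R : Type u) [CommRing R] [IsLocalRing R]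
      [Algebra (X.presheaf.stalk x) R] [IsLocalHom (algebraMap (X.presheaf.stalk x) R)]
      [Hensel.IsStrictHenselization (X.presheaf.stalk x) R],
      ConnectedSpace (FEt.puncturedSpec R : Scheme.{u})) :
    (FEt.restrict U.ι).Full ∧ (FEt.restrict U.ι).Faithful := by
  refine main_of_specCl U hU hsh ?_
  intro W P q _ _ p1 p2 H T hT w hw
  haveI : IsOpenImmersion p1 :=
    MorphismProperty.of_isPullback (P := @IsOpenImmersion) H.flip inferInstance
  haveI : QuasiCompact p1 :=
    MorphismProperty.of_isPullback (P := @QuasiCompact) H.flip inferInstance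
  refine exists_specializes_of_retrocompact (p1.isOpenEmbedding.isOpenMap _ hT.isOpen) ?_ hw
  intro N hN
  have h1 : p1 '' T ∩ N = p1 '' (T ∩ p1 ⁻¹' N) := (Set.image_inter_preimage _ _ _).symm
  rw [h1]
  have hc : IsCompact (p1 ⁻¹' (N : Set W)) :=
    QuasiCompact.isCompact_preimage _ N.2 hN.isCompact
  exact (hc.inter_left hT.isClosed).image p1.continuous

theorem exists_finite_gen {W : Scheme.{u}} (q : W ⟶ X) [IsFinite q] [Flat q] [UniversallyOpen q]
    (hirr : ∀ V : X.Opens, IsCompact (V : Set X) → (irreducibleComponents ↥V).Finite)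
    (N : W.Opens) (hN : IsCompact (N : Set W)) :
    ∃ G : Set W, G.Finite ∧ ∀ n ∈ N, ∃ g ∈ G, g ⤳ n := by
  let V : X.Opens := ⟨q '' N, q.isOpenMap _ N.2⟩
  have hV : IsCompact (V : Set X) := hN.image q.continuous
  haveI : QuasiSober ↥V := V.isOpenEmbedding'.quasiSober
  obtain ⟨G0, hG0, hG0V⟩ := exists_finite_gen_of_irreducibleComponents (hirr V hV)
  refine ⟨q ⁻¹' (Subtype.val '' G0), ?_, ?_⟩
  · have h1 : q ⁻¹' (Subtype.val '' G0) = ⋃ x ∈ Subtype.val '' G0, q ⁻¹' {x} := by
      ext z
      simp only [Set.mem_preimage, Set.mem_iUnion, Set.mem_singleton_iff, exists_prop,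
        exists_eq_right']
    rw [h1]
    exact (hG0.image _).biUnion (fun x _ => q.finite_preimage_singleton x)
  · intro n hn
    obtain ⟨g, hg, hgv⟩ := hG0V ⟨q n, n, hn, rfl⟩
    have hgv' : (g : X) ⤳ q n := (subtype_specializes_iff _ _).1 hgv
    obtain ⟨n', hn'n, hn'g⟩ := (Flat.generalizingMap q) hgv'
    exact ⟨n', ⟨g, hg, hn'g.symm⟩, hn'n⟩

/-- dense open, locally finitely many irreducible components, connected at infinity -/
theorem main_irr (hU : Dense (U : Set X))
    (hirr : ∀ V : X.Opens, IsCompact (V : Set X) → (irreducibleComponents ↥V).Finite)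
    (hsh : ∀ x : X, x ∉ U → ∀ (R : Type u) [CommRing R] [IsLocalRing R]
      [Algebra (X.presheaf.stalk x) R] [IsLocalHom (algebraMap (X.presheaf.stalk x) R)]
      [Hensel.IsStrictHenselization (X.presheaf.stalk x) R],
      ConnectedSpace (FEt.puncturedSpec R : Scheme.{u})) :
    (FEt.restrict U.ι).Full ∧ (FEt.restrict U.ι).Faithful := by
  refine main_of_specCl U hU hsh ?_
  intro W P q _ _ p1 p2 H T hT w hw
  haveI : IsOpenImmersion p1 :=
    MorphismProperty.of_isPullback (P := @IsOpenImmersion) H.flip inferInstance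
  have hA : IsOpen (p1 '' T) := p1.isOpenEmbedding.isOpenMap _ hT.isOpen
  obtain ⟨N, hN, hwN⟩ : ∃ N : W.Opens, IsAffineOpen N ∧ w ∈ N := by
    obtain ⟨_, ⟨N, hN, rfl⟩, hwN, -⟩ :=
      W.isBasis_affineOpens.exists_subset_of_mem_open (Set.mem_univ w) isOpen_univ
    exact ⟨N, hN, hwN⟩
  obtain ⟨G, hG, hGN⟩ := exists_finite_gen q hirr N hN.isCompact
  exact exists_specializes_of_finite_gen hA hw N N.2 hwN G hG hGN

end main

end Groth.Agent.Helper8.FEtDense
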