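import Groth.Agent.Helper8.AdeqA

universe u

open CategoryTheory Opposite Limits TensorProduct

namespace Groth.Agent.Helper8.AdeqD

open Adeq AdeqA

theorem flat_bc_bijective {R : Type*} [CommRing R] {T : Type*} [AddCommGroup T] [Module R T]
    [Module.Flat R T]
    {X P Q : Type*} [AddCommGroup X] [AddCommGroup P] [AddCommGroup Q]
    [Module R X] [Module R P] [Module R Q]
    (i : X →ₗ[R] P) (p : P →ₗ[R] Q) (hi : Function.Injective i) (hex : Function.Exact i p)
    {X' P' Q' : Type*} [AddCommGroup X'] [AddCommGroup P'] [AddCommGroup Q']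
    (i' : X' →+ P') (p' : P' →+ Q') (hi' : Function.Injective i')
    (hex' : ∀ y, p' y = 0 ↔ ∃ x, i' x = y)
    (Ti : T ⊗[R] X →+ T ⊗[R] P) (hTi : ∀ t x, Ti (t ⊗ₜ x) = t ⊗ₜ i x)
    (Tp : T ⊗[R] P →+ T ⊗[R] Q) (hTp : ∀ t x, Tp (t ⊗ₜ x) = t ⊗ₜ p x)
    (bX : T ⊗[R] X →+ X') (bP : T ⊗[R] P →+ P') (bQ : T ⊗[R] Q →+ Q')
    (h1 : ∀ z, i' (bX z) = bP (Ti z)) (h2 : ∀ w, p' (bP w) = bQ (Tp w))
    (hbP : Function.Bijective bP) (hbQ : Function.Injective bQ) :
    Function.Bijective bX := by
  have eTi : ∀ z, Ti z = i.lTensor T z := by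
    intro z
    induction z using TensorProduct.induction_on with
    | zero => simp
    | tmul t x => rw [hTi, LinearMap.lTensor_tmul]
    | add a b ha hb => rw [map_add, map_add, ha, hb]
  have eTp : ∀ z, Tp z = p.lTensor T z := by
    intro z
    induction z using TensorProduct.induction_on with
    | zero => simp
    | tmul t x => rw [hTp, LinearMap.lTensor_tmul]
    | add a b ha hb => rw [map_add, map_add, ha, hb]
  have hinjTi : Function.Injective (i.lTensor T) :=
    Module.Flat.lTensor_preserves_injective_linearMap i hi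
  have hexT : Function.Exact (i.lTensor T) (p.lTensor T) := Module.Flat.lTensor_exact T hex
  constructor
  · rw [injective_iff_map_eq_zero]
    intro z hz
    have h3 : bP (Ti z) = 0 := by rw [← h1, hz, map_zero]
    have h4 : Ti z = 0 := hbP.1 (h3.trans (map_zero bP).symm)
    rw [eTi] at h4
    exact hinjTi (h4.trans (map_zero _).symm)
  · intro y'
    obtain ⟨w, hw⟩ := hbP.2 (i' y')
    have h3 : bQ (Tp w) = 0 := by
      rw [← h2, hw]
      exact (hex' _).2 ⟨y', rfl⟩
    have h4 : Tp w = 0 := hbQ (h3.trans (map_zero bQ).symm)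
    rw [eTp] at h4
    obtain ⟨z, hz⟩ := (hexT w).1 h4
    refine ⟨z, hi' ?_⟩
    rw [h1, eTi, hz, hw]

/-- bijectivity of `t ⊗ (b ⊗ m) ↦ (τ t * g b) ⊗ m`. -/
theorem cancel_bijective {A B B' : Type*} [CommRing A] [CommRing B] [CommRing B'] [Algebra A B]
    [Algebra A B'] (g : B →ₐ[A] B') {T : Type*} [AddCommGroup T] [Module B T]
    (τ : T ≃+ B') (hτ : ∀ (b : B) (t : T), τ (b • t) = g b * τ t)
    {M : Type*} [AddCommGroup M] [Module A M]
    (bP : T ⊗[B] (B ⊗[A] M) →+ B' ⊗[A] M)
    (hbP : ∀ (t : T) (b : B) (m : M), bP (t ⊗ₜ (b ⊗ₜ m)) = (τ t * g b) ⊗ₜ m) :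
    Function.Bijective bP := by
  have hτ' : ∀ (b : B) (s : B'), τ.symm (g b * s) = b • τ.symm s := by
    intro b s
    apply τ.injective
    rw [hτ, AddEquiv.apply_symm_apply, AddEquiv.apply_symm_apply]
  let inv : B' ⊗[A] M →+ T ⊗[B] (B ⊗[A] M) :=
    TensorProduct.liftAddHom
      { toFun := fun s =>
          { toFun := fun m => τ.symm s ⊗ₜ[B] ((1 : B) ⊗ₜ[A] m)
            map_zero' := by rw [TensorProduct.tmul_zero, TensorProduct.tmul_zero]
            map_add' := fun m₁ m₂ => by rw [TensorProduct.tmul_add, TensorProduct.tmul_add] }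
        map_zero' := by
          ext m
          simp
        map_add' := fun s₁ s₂ => by
          ext m
          simp [TensorProduct.add_tmul] }
      (by
        intro a s m
        change τ.symm (a • s) ⊗ₜ[B] ((1 : B) ⊗ₜ[A] m) = τ.symm s ⊗ₜ[B] ((1 : B) ⊗ₜ[A] (a • m))
        have h1 : a • s = g (algebraMap A B a) * s := by
          rw [AlgHom.commutes, Algebra.smul_def]
        rw [h1, hτ', TensorProduct.smul_tmul, TensorProduct.smul_tmul', smul_eq_mul, mul_one,
          Algebra.algebraMap_eq_smul_one, TensorProduct.smul_tmul])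
  have hinv : ∀ s m, inv (s ⊗ₜ m) = τ.symm s ⊗ₜ[B] ((1 : B) ⊗ₜ[A] m) := fun s m => rfl
  have h1 : ∀ x, bP (inv x) = x := by
    intro x
    induction x using TensorProduct.induction_on with
    | zero => simp
    | tmul s m => rw [hinv, hbP, AddEquiv.apply_symm_apply, map_one, mul_one]
    | add a b ha hb => rw [map_add, map_add, ha, hb]
  have h2 : ∀ z, inv (bP z) = z := by
    intro z
    induction z using TensorProduct.induction_on with
    | zero => simp
    | tmul t w =>
      induction w using TensorProduct.induction_on with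
      | zero => simp
      | tmul b m =>
        rw [hbP, hinv, mul_comm, hτ', AddEquiv.symm_apply_apply, TensorProduct.smul_tmul,
          TensorProduct.smul_tmul', smul_eq_mul, mul_one]
      | add a b ha hb => rw [TensorProduct.tmul_add, map_add, map_add, ha, hb]
    | add a b ha hb => rw [map_add, map_add, ha, hb]
  exact ⟨Function.LeftInverse.injective h2, Function.RightInverse.surjective h1⟩

variable {A : Type u} [CommRing A]

open ChangeOfRings

lemma bc_natural {F G : MVF A} (α : F ⟶ G) {B B' : Alg A} (f : B ⟶ B') :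
    (ModuleCat.extendScalars.{u, u, u+1} f.hom.toRingHom).map (α.app (pt B)) ≫ G.bc f =
      F.bc f ≫ α.app (pt B') := by
  unfold MVF.bc
  rw [← Adjunction.homEquiv_naturality_left_symm, ← Adjunction.homEquiv_naturality_right_symm]
  congr 1
  exact (α.naturality (ptHom f)).symm

lemma bc_tmul (F : MVF A) {B B' : Alg A} (f : B ⟶ B') (s : B') (x : F.obj (pt B)) :
    F.bc f (s ⊗ₜ[B, f.hom.toRingHom] x) = s • F.map (ptHom f) x := rfl

theorem isIso_bc (F : MVF A) (hF : adequate A F) {B B' : Alg A} (f : B ⟶ B')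
    (hf : f.hom.toRingHom.Flat) : IsIso (F.bc f) := by
  rw [adequate_iff] at hF
  obtain ⟨M, N, φ, ι, h⟩ := hF
  rw [ConcreteCategory.isIso_iff_bijective]
  let T : ModuleCat B := (ModuleCat.restrictScalars f.hom.toRingHom).obj (ModuleCat.of B' B')
  haveI : Module.Flat B T := hf
  let τ : T ≃+ B' :=
    { toFun := fun t => t, invFun := fun s => s, left_inv := fun _ => rfl,
      right_inv := fun _ => rfl, map_add' := fun _ _ => rfl }
  have hτ : ∀ (b : B) (t : T), τ (b • t) = f.hom b * τ t := fun b t => rfl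
  have hbij : ∀ (K : ModuleCat.{u+1} A),
      Function.Bijective (((underline A).obj K).bc f) := by
    intro K
    refine cancel_bijective (A := A) (B := B) (B' := B') f.hom τ hτ (M := K)
      (((underline A).obj K).bc f).hom.toAddMonoidHom ?_
    intro t b m
    change (τ t) • ((f.hom b) ⊗ₜ[A] m) = _
    rw [TensorProduct.smul_tmul', smul_eq_mul]
  refine flat_bc_bijective (T := T)
    (ι.app (pt B)).hom (((underline A).map φ).app (pt B)).hom (h.inj _) ?hex
    (ι.app (pt B')).hom.toAddMonoidHom (((underline A).map φ).app (pt B')).hom.toAddMonoidHom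
    (h.inj _) (h.exact _)
    ((ModuleCat.extendScalars.{u, u, u+1} f.hom.toRingHom).map (ι.app (pt B))).hom.toAddMonoidHom
    (fun t x => rfl)
    ((ModuleCat.extendScalars.{u, u, u+1} f.hom.toRingHom).map
      (((underline A).map φ).app (pt B))).hom.toAddMonoidHom
    (fun t x => rfl)
    (F.bc f).hom.toAddMonoidHom (((underline A).obj M).bc f).hom.toAddMonoidHom
    (((underline A).obj N).bc f).hom.toAddMonoidHom
    ?h1 ?h2 (hbij M) (hbij N).1
  case hex =>
    intro x
    rw [Set.mem_range]
    exact h.exact _ x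
  case h1 =>
    intro z
    have := congrArg (fun t => t.hom z) (bc_natural ι f)
    exact this.symm
  case h2 =>
    intro w
    have := congrArg (fun t => t.hom w) (bc_natural ((underline A).map φ) f)
    exact this.symm

end Groth.Agent.Helper8.AdeqD
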