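import Groth.Agent.Helper8.AdeqS
import Groth.Agent.Helper8.AdeqD

universe v u

open CategoryTheory Opposite Limits TensorProduct

namespace Groth.Agent.Helper8.Adeq2L

open Adeq AdeqA AdeqE AdeqJ AdeqS

section Descent2

variable (R : Type u) [CommRing R] (B : Type u) [CommRing B] [Algebra R B]
  (M : Type v) [AddCommGroup M] [Module R M]

/-- coface `b ⊗ b' ↦ (1 ⊗ b) ⊗ b'` -/
noncomputable def d0 : B ⊗[R] B →ₐ[R] (B ⊗[R] B) ⊗[R] B :=
  Algebra.TensorProduct.map (Algebra.TensorProduct.includeRight : B →ₐ[R] B ⊗[R] B) (AlgHom.id R B)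

/-- coface `b ⊗ b' ↦ (b ⊗ 1) ⊗ b'` -/
noncomputable def d1 : B ⊗[R] B →ₐ[R] (B ⊗[R] B) ⊗[R] B :=
  Algebra.TensorProduct.map (Algebra.TensorProduct.includeLeft : B →ₐ[R] B ⊗[R] B) (AlgHom.id R B)

/-- coface `b ⊗ b' ↦ (b ⊗ b') ⊗ 1` -/
noncomputable def d2 : B ⊗[R] B →ₐ[R] (B ⊗[R] B) ⊗[R] B :=
  Algebra.TensorProduct.includeLeft

/-- the second Amitsur differential tensored with `M` -/
noncomputable def g2 : (B ⊗[R] B) ⊗[R] M →ₗ[R] ((B ⊗[R] B) ⊗[R] B) ⊗[R] M :=
  ((d0 R B).toLinearMap - (d1 R B).toLinearMap + (d2 R B).toLinearMap).rTensor M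

lemma d0_tmul (b b' : B) : d0 R B (b ⊗ₜ b') = (1 ⊗ₜ b) ⊗ₜ b' := by
  simp [d0]

lemma d1_tmul (b b' : B) : d1 R B (b ⊗ₜ b') = (b ⊗ₜ 1) ⊗ₜ b' := by
  simp [d1]

lemma d2_tmul (b b' : B) : d2 R B (b ⊗ₜ b') = (b ⊗ₜ b') ⊗ₜ 1 := by
  simp [d2]

lemma g2_tmul (b b' : B) (m : M) :
    g2 R B M ((b ⊗ₜ b') ⊗ₜ m) =
      ((1 ⊗ₜ b) ⊗ₜ b') ⊗ₜ m - ((b ⊗ₜ 1) ⊗ₜ b') ⊗ₜ m + ((b ⊗ₜ b') ⊗ₜ 1) ⊗ₜ m := by
  unfold g2
  rw [LinearMap.rTensor_tmul, LinearMap.add_apply, LinearMap.sub_apply, AlgHom.toLinearMap_apply,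
    AlgHom.toLinearMap_apply, AlgHom.toLinearMap_apply, d0_tmul, d1_tmul, d2_tmul,
    TensorProduct.add_tmul, TensorProduct.sub_tmul]

lemma g1_tmul (b : B) (m : M) :
    g1 R B M (b ⊗ₜ m) = (b ⊗ₜ 1) ⊗ₜ m - (1 ⊗ₜ b) ⊗ₜ m := by
  simp [g1, TensorProduct.sub_tmul]

lemma g2_g1 : g2 R B M ∘ₗ g1 R B M = 0 := by
  ext b m
  simp only [TensorProduct.AlgebraTensorModule.curry_apply, TensorProduct.curry_apply,
    LinearMap.coe_restrictScalars, LinearMap.comp_apply, LinearMap.zero_apply]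
  rw [g1_tmul, map_sub, g2_tmul, g2_tmul]
  abel

/-- `t ⊗ ((b ⊗ b') ⊗ b'') ↦ tb ⊗ (b' ⊗ b'')` -/
noncomputable def mu3 : B ⊗[R] ((B ⊗[R] B) ⊗[R] B) →ₗ[R] B ⊗[R] (B ⊗[R] B) :=
  (TensorProduct.assoc R B B B).toLinearMap ∘ₗ ((LinearMap.mul' R B).rTensor B).rTensor B ∘ₗ
    ((TensorProduct.assoc R B B B).symm.toLinearMap).rTensor B ∘ₗ
      (TensorProduct.assoc R B (B ⊗[R] B) B).symm.toLinearMap

lemma mu3_tmul (t b b' b'' : B) :
    mu3 R B (t ⊗ₜ ((b ⊗ₜ b') ⊗ₜ b'')) = (t * b) ⊗ₜ (b' ⊗ₜ b'') := by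
  simp [mu3]

noncomputable def s2 :
    B ⊗[R] (((B ⊗[R] B) ⊗[R] B) ⊗[R] M) →ₗ[R] B ⊗[R] ((B ⊗[R] B) ⊗[R] M) :=
  (TensorProduct.assoc R B (B ⊗[R] B) M).toLinearMap ∘ₗ (mu3 R B).rTensor M ∘ₗ
    (TensorProduct.assoc R B ((B ⊗[R] B) ⊗[R] B) M).symm.toLinearMap

lemma s2_tmul (t b b' b'' : B) (m : M) :
    s2 R B M (t ⊗ₜ (((b ⊗ₜ b') ⊗ₜ b'') ⊗ₜ m)) = (t * b) ⊗ₜ ((b' ⊗ₜ b'') ⊗ₜ m) := by
  simp [s2, mu3_tmul]

lemma s1_tmul (t b b' : B) (m : M) :
    s1 R B M (t ⊗ₜ ((b ⊗ₜ b') ⊗ₜ m)) = (t * b) ⊗ₜ (b' ⊗ₜ m) := by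
  simp [s1]

lemma homotopy2_apply (t b b' : B) (m : M) :
    s2 R B M ((g2 R B M).lTensor B (t ⊗ₜ ((b ⊗ₜ b') ⊗ₜ m))) -
      (g1 R B M).lTensor B (s1 R B M (t ⊗ₜ ((b ⊗ₜ b') ⊗ₜ m))) = t ⊗ₜ ((b ⊗ₜ b') ⊗ₜ m) := by
  have e1 : (g2 R B M).lTensor B (t ⊗ₜ ((b ⊗ₜ b') ⊗ₜ m)) =
      t ⊗ₜ ((((1 : B) ⊗ₜ b) ⊗ₜ b') ⊗ₜ m) - t ⊗ₜ (((b ⊗ₜ (1 : B)) ⊗ₜ b') ⊗ₜ m) +
        t ⊗ₜ (((b ⊗ₜ b') ⊗ₜ (1 : B)) ⊗ₜ m) := by
    rw [LinearMap.lTensor_tmul, g2_tmul]
    exact (TensorProduct.tmul_add t _ _).trans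
      (congrArg (fun w => w + t ⊗ₜ[R] (((b ⊗ₜ[R] b') ⊗ₜ[R] (1 : B)) ⊗ₜ[R] m))
        (TensorProduct.tmul_sub t _ _))
  have e2 : (g1 R B M).lTensor B (s1 R B M (t ⊗ₜ ((b ⊗ₜ b') ⊗ₜ m))) =
      (t * b) ⊗ₜ ((b' ⊗ₜ (1 : B)) ⊗ₜ m) - (t * b) ⊗ₜ (((1 : B) ⊗ₜ b') ⊗ₜ m) := by
    rw [s1_tmul, LinearMap.lTensor_tmul, g1_tmul]
    exact TensorProduct.tmul_sub _ _ _
  rw [e1, e2, map_add, map_sub, s2_tmul, s2_tmul, s2_tmul, mul_one]
  abel

lemma homotopy2 (z : B ⊗[R] ((B ⊗[R] B) ⊗[R] M)) :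
    s2 R B M ((g2 R B M).lTensor B z) - (g1 R B M).lTensor B (s1 R B M z) = z := by
  induction z using TensorProduct.induction_on with
  | zero => simp
  | tmul t y =>
    induction y using TensorProduct.induction_on with
    | zero => simp
    | tmul x m =>
      induction x using TensorProduct.induction_on with
      | zero => simp
      | tmul b b' => exact homotopy2_apply R B M t b b' m
      | add x x' hx hx' =>
        rw [TensorProduct.add_tmul, TensorProduct.tmul_add, map_add, map_add, map_add, map_add,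
          add_sub_add_comm, hx, hx']
    | add y y' hy hy' =>
      rw [TensorProduct.tmul_add, map_add, map_add, map_add, map_add]
      rw [add_sub_add_comm, hy, hy']
  | add z z' hz hz' =>
    rw [map_add, map_add, map_add, map_add, add_sub_add_comm, hz, hz']

theorem exact_g1_g2 [Module.FaithfullyFlat R B] : Function.Exact (g1 R B M) (g2 R B M) := by
  intro z
  constructor
  · intro hz
    let q := (LinearMap.range (g1 R B M)).mkQ
    have hq : q ∘ₗ g1 R B M = 0 := LinearMap.range_mkQ_comp _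
    have e1 : (g2 R B M).lTensor B ((1 : B) ⊗ₜ z) = 0 := by
      rw [LinearMap.lTensor_tmul, hz]
      exact TensorProduct.tmul_zero _ _
    have h := homotopy2 R B M ((1 : B) ⊗ₜ z)
    rw [e1, map_zero, zero_sub] at h
    have h2 : q.lTensor B ((1 : B) ⊗ₜ z) = 0 := by
      rw [← h, map_neg, ← LinearMap.comp_apply, ← LinearMap.lTensor_comp, hq,
        LinearMap.lTensor_zero, LinearMap.zero_apply, neg_zero]
    rw [LinearMap.lTensor_tmul] at h2
    have h3 : q z = 0 := f1_injective R B _ (h2.trans (map_zero (f1 R B _)).symm)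
    have h4 : z ∈ LinearMap.range (g1 R B M) := (Submodule.Quotient.mk_eq_zero _).1 h3
    exact LinearMap.mem_range.1 h4
  · rintro ⟨w, rfl⟩
    exact LinearMap.congr_fun (g2_g1 R B M) w

end Descent2

variable {A : Type u} [CommRing A]

section Theta

open AdeqD

variable (F : MVF A) (C : Type u) [CommRing C] [Algebra A C]

/-- the structure map `A → C` in `Alg A` -/
noncomputable def e0 : algOf A A ⟶ algOf A C := CommAlgCat.ofHom (Algebra.ofId A C)

lemma e0_comp {C' : Type u} [CommRing C'] [Algebra A C'] (g : algOf A C ⟶ algOf A C') :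
    e0 C ≫ g = e0 C' := by
  apply CommAlgCat.hom_ext
  apply AlgHom.ext
  intro a
  exact (g.hom.comp (Algebra.ofId A C)).commutes a

/-- `c ⊗ x ↦ c • F(A → C)(x)` -/
noncomputable def theta : C ⊗[A] (F.obj (pt (algOf A A))) →+ F.obj (pt (algOf A C)) :=
  TensorProduct.liftAddHom
    { toFun := fun c =>
        { toFun := fun x => c • tr F (e0 C) x
          map_zero' := by rw [tr_zero, smul_zero]
          map_add' := fun x y => by rw [tr_add, smul_add] }
      map_zero' := by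
        ext x
        exact zero_smul C (tr F (e0 C) x)
      map_add' := fun c c' => by
        ext x
        exact add_smul c c' (tr F (e0 C) x) }
    (by
      intro a c x
      change (a • c) • tr F (e0 C) x = c • tr F (e0 C) (a • x)
      rw [tr_smul, ← mul_smul]
      congr 1
      change a • c = c * algebraMap A C a
      rw [Algebra.smul_def, mul_comm])

lemma theta_tmul (c : C) (x : F.obj (pt (algOf A A))) :
    theta F C (c ⊗ₜ x) = c • tr F (e0 C) x := rfl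

lemma theta_natural {C' : Type u} [CommRing C'] [Algebra A C'] (g : C →ₐ[A] C')
    (z : C ⊗[A] F.obj (pt (algOf A A))) :
    tr F (CommAlgCat.ofHom g : algOf A C ⟶ algOf A C') (theta F C z) =
      theta F C' (g.toLinearMap.rTensor _ z) := by
  induction z using TensorProduct.induction_on with
  | zero => rw [map_zero, tr_zero, map_zero, map_zero]
  | tmul c x =>
    rw [theta_tmul, tr_smul, ← tr_comp, e0_comp, LinearMap.rTensor_tmul, theta_tmul]
    rfl
  | add z z' h h' => rw [map_add, tr_add, h, h', map_add, map_add]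

theorem theta_bijective (hF : adequate A F) [Module.Flat A C] :
    Function.Bijective (theta F C) := by
  obtain ⟨M, N, φ, ι, hK⟩ := (adequate_iff F).1 hF
  refine flat_bc_bijective (R := A) (T := C)
    (ι.app (pt (algOf A A))).hom (((underline A).map φ).app (pt (algOf A A))).hom (hK.inj _) ?hex
    (ι.app (pt (algOf A C))).hom.toAddMonoidHom
    (((underline A).map φ).app (pt (algOf A C))).hom.toAddMonoidHom
    (hK.inj _) (hK.exact _)
    ((ι.app (pt (algOf A A))).hom.lTensor C).toAddMonoidHom (fun t x => rfl)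
    ((((underline A).map φ).app (pt (algOf A A))).hom.lTensor C).toAddMonoidHom (fun t x => rfl)
    (theta F C) (LinearEquiv.lTensor C (TensorProduct.lid A M)).toLinearMap.toAddMonoidHom
    (LinearEquiv.lTensor C (TensorProduct.lid A N)).toLinearMap.toAddMonoidHom
    ?h1 ?h2 (LinearEquiv.lTensor C (TensorProduct.lid A M)).bijective
    (LinearEquiv.lTensor C (TensorProduct.lid A N)).injective
  case hex =>
    intro x
    rw [Set.mem_range]
    exact hK.exact _ x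
  case h1 =>
    intro z
    induction z using TensorProduct.induction_on with
    | zero => simp
    | tmul c x =>
      change ι.app (pt (algOf A C)) (c • tr F (e0 C) x) =
        c ⊗ₜ[A] (TensorProduct.lid A M (ι.app (pt (algOf A A)) x))
      rw [app_smul, tr_nat, tr_underline]
      change c • ((Algebra.ofId A C).toLinearMap.rTensor M (ι.app (pt (algOf A A)) x)) = _
      rw [ofId_rTensor]
      change c • ((1 : C) ⊗ₜ[A] (TensorProduct.lid A M (ι.app (pt (algOf A A)) x))) = _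
      rw [TensorProduct.smul_tmul', smul_eq_mul, mul_one]
    | add z z' h h' =>
      rw [map_add, map_add, map_add, map_add, h, h']
  case h2 =>
    intro w
    induction w using TensorProduct.induction_on with
    | zero => simp
    | tmul c y =>
      change (φ.hom.baseChange C) (c ⊗ₜ[A] (TensorProduct.lid A M y)) =
        c ⊗ₜ[A] (TensorProduct.lid A N ((φ.hom.baseChange A) y))
      rw [LinearMap.baseChange_tmul]
      congr 1
      induction y using TensorProduct.induction_on with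
      | zero => simp
      | tmul a m => simp
      | add y y' h h' => rw [map_add, map_add, map_add, map_add, h, h']
    | add w w' h h' =>
      rw [map_add, map_add, map_add, map_add, h, h']

end Theta

theorem amitsur1_adequate (F : MVF A) (hF : adequate A F) (B : Type u) [CommRing B] [Algebra A B]
    [Module.FaithfullyFlat A B] (c : F.obj (pt (algOf A (B ⊗[A] B))))
    (hc : tr F (CommAlgCat.ofHom (d0 A B) : algOf A (B ⊗[A] B) ⟶ algOf A ((B ⊗[A] B) ⊗[A] B)) c -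
        tr F (CommAlgCat.ofHom (d1 A B) : algOf A (B ⊗[A] B) ⟶ algOf A ((B ⊗[A] B) ⊗[A] B)) c +
        tr F (CommAlgCat.ofHom (d2 A B) : algOf A (B ⊗[A] B) ⟶ algOf A ((B ⊗[A] B) ⊗[A] B)) c = 0) :
    ∃ b : F.obj (pt (algOf A B)),
      c = tr F (CommAlgCat.ofHom (Algebra.TensorProduct.includeLeft : B →ₐ[A] B ⊗[A] B) :
            algOf A B ⟶ algOf A (B ⊗[A] B)) b -
          tr F (CommAlgCat.ofHom (Algebra.TensorProduct.includeRight : B →ₐ[A] B ⊗[A] B) :
            algOf A B ⟶ algOf A (B ⊗[A] B)) b := by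
  obtain ⟨z, hz⟩ := (theta_bijective F (B ⊗[A] B) hF).2 c
  have h1 : theta F ((B ⊗[A] B) ⊗[A] B) (g2 A B (F.obj (pt (algOf A A))) z) = 0 := by
    have hg2 : g2 A B (F.obj (pt (algOf A A))) z =
        (d0 A B).toLinearMap.rTensor _ z - (d1 A B).toLinearMap.rTensor _ z +
          (d2 A B).toLinearMap.rTensor _ z := by
      unfold g2
      rw [LinearMap.rTensor_add, LinearMap.rTensor_sub]
      rfl
    rw [hg2, map_add, map_sub, ← theta_natural, ← theta_natural, ← theta_natural, hz]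
    exact hc
  have h2 : g2 A B (F.obj (pt (algOf A A))) z = 0 :=
    (theta_bijective F ((B ⊗[A] B) ⊗[A] B) hF).1 (h1.trans (map_zero _).symm)
  obtain ⟨y, hy⟩ := (exact_g1_g2 A B (F.obj (pt (algOf A A))) z).1 h2
  refine ⟨theta F B y, ?_⟩
  rw [← hz, ← hy]
  have hg1 : g1 A B (F.obj (pt (algOf A A))) y =
      (Algebra.TensorProduct.includeLeft : B →ₐ[A] B ⊗[A] B).toLinearMap.rTensor _ y -
        (Algebra.TensorProduct.includeRight : B →ₐ[A] B ⊗[A] B).toLinearMap.rTensor _ y := by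
    unfold g1 Algebra.TensorProduct.includeLeftSubRight
    rw [LinearMap.rTensor_sub]
    rfl
  rw [hg1, map_sub, ← theta_natural, ← theta_natural]

end Groth.Agent.Helper8.Adeq2L
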