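import Groth.Agent.Helper8.Adeq2K
import Groth.Agent.Helper8.Adeq2L

universe u

open CategoryTheory CategoryTheory.Limits AlgebraicGeometry Opposite TensorProduct

namespace Groth.Agent.Helper8.Adeq2M

open Adeq Adeq2A Adeq2B Adeq2C AdeqE AdeqJ Adeq2D Adeq2F Adeq2I Adeq2J

section General

variable (K : Precoverage Scheme.{u}) [BigSite.OSh K] {S : Scheme.{u}}

/-- the value of a morphism of modules on sections -/
noncomputable def ap {M N : BigSite.Mod K S} (φ : M ⟶ N) (W : Over S) (y : M.val.obj (op W)) :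
    N.val.obj (op W) := φ.val.app (op W) y

lemma ap_res {M N : BigSite.Mod K S} (φ : M ⟶ N) {W W' : Over S} (e : W' ⟶ W)
    (y : M.val.obj (op W)) : ap K φ W' (res K M e y) = res K N e (ap K φ W y) :=
  PresheafOfModules.naturality_apply φ.val e.op y

lemma ap_sub {M N : BigSite.Mod K S} (φ : M ⟶ N) (W : Over S) (y y' : M.val.obj (op W)) :
    ap K φ W (y - y') = ap K φ W y - ap K φ W y' := map_sub (φ.val.app (op W)).hom y y'

lemma ap_add {M N : BigSite.Mod K S} (φ : M ⟶ N) (W : Over S) (y y' : M.val.obj (op W)) :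
    ap K φ W (y + y') = ap K φ W y + ap K φ W y' := map_add (φ.val.app (op W)).hom y y'

lemma ap_zero {M N : BigSite.Mod K S} (φ : M ⟶ N) (W : Over S) :
    ap K φ W (0 : M.val.obj (op W)) = 0 := map_zero (φ.val.app (op W)).hom

lemma res_add (M : BigSite.Mod K S) {W W' : Over S} (e : W' ⟶ W) (y y' : M.val.obj (op W)) :
    res K M e (y + y') = res K M e y + res K M e y' := map_add (M.val.map e.op).hom y y'

lemma res_zero (M : BigSite.Mod K S) {W W' : Over S} (e : W' ⟶ W) :
    res K M e (0 : M.val.obj (op W)) = 0 := map_zero (M.val.map e.op).hom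

/-- exactness of a short complex of presheaves of modules can be checked on sections -/
lemma exact_of_pointwise {C₀ : Type*} [Category C₀] {R₀ : C₀ᵒᵖ ⥤ RingCat.{u}}
    (T : ShortComplex (PresheafOfModules.{u+1} R₀))
    (hex : ∀ X (y : T.X₂.obj X), T.g.app X y = 0 → ∃ x, T.f.app X x = y) : T.Exact := by
  rw [ShortComplex.exact_iff_epi_kernel_lift]
  apply PresheafOfModules.epi_of_surjective
  intro X z
  have hz : T.g.app X ((kernel.ι T.g).app X z) = 0 := by
    have h2 := congrArg (fun t => (t.app X) z) (kernel.condition T.g)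
    simpa only [PresheafOfModules.comp_app, ModuleCat.comp_apply, PresheafOfModules.zero_app,
      ModuleCat.hom_zero, LinearMap.zero_apply] using h2
  obtain ⟨y, hy⟩ := hex X _ hz
  refine ⟨y, ?_⟩
  apply PresheafOfModules.injective_of_mono (kernel.ι T.g) X
  have h2 := congrArg (fun t => (t.app X) y) (kernel.lift_ι T.g T.f T.zero)
  simp only [PresheafOfModules.comp_app, ModuleCat.comp_apply] at h2
  exact h2.trans hy

/-- an epimorphism of sheaves of modules is locally surjective -/
lemma exists_cover_lift_epi {M N : BigSite.Mod K S} (φ : M ⟶ N) [Epi φ] (U : Over S)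
    (s : N.val.obj (op U)) :
    ∃ T : Sieve U, T ∈ QuotSh.J K S U ∧ ∀ ⦃V : Over S⦄ (h : V ⟶ U), T h →
      ∃ t : M.val.obj (op V), ap K φ V t = res K N h s := by
  haveI : Epi ((SheafOfModules.toSheaf _).map φ) := inferInstance
  haveI : Sheaf.IsLocallySurjective ((SheafOfModules.toSheaf _).map φ) :=
    (Sheaf.isLocallySurjective_iff_epi' _ _).2 inferInstance
  let s'' : ToType (((SheafOfModules.toSheaf (BigSite.ORing K S)).obj N).obj.obj (op U)) := s
  have hmem := Presheaf.IsLocallySurjective.imageSieve_mem (J := QuotSh.J K S)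
    (f := ((SheafOfModules.toSheaf _).map φ).hom) (U := U) s''
  refine ⟨Presheaf.imageSieve ((SheafOfModules.toSheaf _).map φ).hom s'', hmem, ?_⟩
  intro V h ⟨t, ht⟩
  exact ⟨t, ht⟩

variable {K}

lemma g_f (C : ShortComplex (BigSite.Mod K S)) (W : Over S) (x : C.X₁.val.obj (op W)) :
    ap K C.g W (ap K C.f W x) = 0 := by
  have h1 : (SheafOfModules.forget _).map C.f ≫ (SheafOfModules.forget _).map C.g = 0 := by
    rw [← Functor.map_comp, C.zero, Functor.map_zero]
  have h2 := congrArg (fun t => t.app (op W) x) h1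
  simp only [PresheafOfModules.comp_app, ModuleCat.comp_apply, PresheafOfModules.zero_app,
    ModuleCat.hom_zero, LinearMap.zero_apply] at h2
  exact h2

lemma f_injective (C : ShortComplex (BigSite.Mod K S)) (hC : C.ShortExact) (W : Over S)
    (x : C.X₁.val.obj (op W)) (hx : ap K C.f W x = 0) : x = 0 := by
  haveI := hC.mono_f
  haveI : Mono ((SheafOfModules.forget _).map C.f) := inferInstance
  apply PresheafOfModules.injective_of_mono ((SheafOfModules.forget _).map C.f) (op W)
  exact hx.trans (map_zero (C.f.val.app (op W)).hom).symm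

lemma exists_of_g_eq_zero (C : ShortComplex (BigSite.Mod K S)) (hC : C.ShortExact) (W : Over S)
    (y : C.X₂.val.obj (op W)) (hy : ap K C.g W y = 0) : ∃ x, ap K C.f W x = y := by
  haveI := hC.mono_f
  have hS' := hC.exact.map_of_mono_of_preservesKernel (SheafOfModules.forget _) inferInstance
    inferInstance
  exact exact_app' _ _ _ hS' (op W) y hy

end General

section Fppf

variable {S : Scheme.{u}} (M : BigSite.Mod Scheme.fppfPrecoverage S)

/-- sections over an empty object vanish -/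
lemma eq_zero_of_isEmpty (Z : Over S) [IsEmpty Z.left] (x : M.val.obj (op Z)) : x = 0 := by
  obtain ⟨sep, -⟩ := sheaf_arrows Scheme.fppfPrecoverage M Z (fun j : PEmpty.{1} => j.elim)
    (fun j => j.elim) (mem_fppf_iff.2 ⟨fun x => isEmptyElim x, fun j => j.elim⟩)
  exact sep x (fun j => j.elim)

variable {R : CommRingCat.{u}} (a : Spec R ⟶ S)

section Product

variable {ι : Type} [Fintype ι] [DecidableEq ι] (Ck : ι → Type u) [∀ k, CommRing (Ck k)]
  [∀ k, Algebra R (Ck k)]

lemma mono_prK (k : ι) : Mono ((specOver a).map (prK Ck k).op).left := by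
  have h : IsClosedImmersion (Spec.map (CommRingCat.ofHom (Pi.evalRingHom Ck k))) :=
    IsClosedImmersion.spec_of_surjective _ (Function.surjective_eval k)
  exact (inferInstance : Mono (Spec.map (CommRingCat.ofHom (Pi.evalRingHom Ck k))))

/-- the sheaf condition for the covering of `Spec ∏ C_k` by the `Spec C_k` -/
theorem sheaf_product :
    (∀ z : M.val.obj (op ((specOver a).obj (op (algOf R (∀ k, Ck k))))),
      (∀ k, res Scheme.fppfPrecoverage M ((specOver a).map (prK Ck k).op) z = 0) → z = 0) ∧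
    ∀ xk : ∀ k, M.val.obj (op ((specOver a).obj (op (algOf R (Ck k))))),
      ∃ z : M.val.obj (op ((specOver a).obj (op (algOf R (∀ k, Ck k))))),
        ∀ k, res Scheme.fppfPrecoverage M ((specOver a).map (prK Ck k).op) z = xk k := by
  obtain ⟨sep, glue⟩ := sheaf_arrows Scheme.fppfPrecoverage M
    ((specOver a).obj (op (algOf R (∀ k, Ck k))))
    (fun k => (specOver a).obj (op (algOf R (Ck k)))) (fun k => (specOver a).map (prK Ck k).op)
    (cover_pi Ck)
  refine ⟨fun z hz => sep z hz, fun xk => glue xk ?_⟩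
  intro k l Z g g' hgg
  by_cases hkl : k = l
  · subst hkl
    have hg : g = g' := by
      apply Over.OverMorphism.ext
      haveI := mono_prK a Ck k
      exact (cancel_mono ((specOver a).map (prK Ck k).op).left).1
        (congrArg CommaMorphism.left hgg)
    rw [hg]
  · haveI : IsEmpty Z.left := by
      constructor
      intro z
      apply hkl
      have h1 : PrimeSpectrum.comap (Pi.evalRingHom Ck k) (g.left z) =
          PrimeSpectrum.comap (Pi.evalRingHom Ck l) (g'.left z) :=
        congrArg (fun f : Z.left ⟶ _ => f z) (congrArg CommaMorphism.left hgg)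
      have h2 : PrimeSpectrum.sigmaToPi Ck ⟨k, g.left z⟩ = PrimeSpectrum.sigmaToPi Ck ⟨l, g'.left z⟩ :=
        h1
      exact congrArg Sigma.fst (PrimeSpectrum.sigmaToPi_injective Ck h2)
    exact (eq_zero_of_isEmpty M Z _).trans (eq_zero_of_isEmpty M Z _).symm

end Product

section Lift

variable (B : Type u) [CommRing B] [Algebra R B]

/-- the first coprojection `B → B ⊗ B` in `Alg R` -/
noncomputable abbrev φ₁ : algOf R B ⟶ algOf R (B ⊗[R] B) :=
  CommAlgCat.ofHom (Algebra.TensorProduct.includeLeft : B →ₐ[R] B ⊗[R] B)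

/-- the second coprojection `B → B ⊗ B` in `Alg R` -/
noncomputable abbrev φ₂ : algOf R B ⟶ algOf R (B ⊗[R] B) :=
  CommAlgCat.ofHom (Algebra.TensorProduct.includeRight : B →ₐ[R] B ⊗[R] B)

lemma isPullback_incl :
    IsPullback
      (Spec.map (CommRingCat.ofHom (Algebra.TensorProduct.includeLeftRingHom : B →+* B ⊗[R] B)))
      (Spec.map (CommRingCat.ofHom
        (Algebra.TensorProduct.includeRight : B →ₐ[R] B ⊗[R] B).toRingHom))
      (Spec.map (CommRingCat.ofHom (algebraMap R B)))
      (Spec.map (CommRingCat.ofHom (algebraMap R B))) :=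
  isPullback_SpecMap_of_isPushout _ _ _ _ (CommRingCat.isPushout_tensorProduct R B B)

lemma over_lift (Z : Over S) (g g' : Z ⟶ (specOver a).obj (op (algOf R B)))
    (hgg : g ≫ strB a (algOf R B) = g' ≫ strB a (algOf R B)) :
    ∃ zo : Z ⟶ (specOver a).obj (op (algOf R (B ⊗[R] B))),
      zo ≫ (specOver a).map (φ₁ B).op = g ∧ zo ≫ (specOver a).map (φ₂ B).op = g' := by
  have h0 : g.left ≫ Spec.map (CommRingCat.ofHom (algebraMap R B)) =
      g'.left ≫ Spec.map (CommRingCat.ofHom (algebraMap R B)) :=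
    congrArg CommaMorphism.left hgg
  obtain ⟨w, hw1, hw2⟩ : ∃ w : Z.left ⟶ Spec (CommRingCat.of (B ⊗[R] B)),
      w ≫ Spec.map (CommRingCat.ofHom
        (Algebra.TensorProduct.includeLeftRingHom : B →+* B ⊗[R] B)) = g.left ∧
      w ≫ Spec.map (CommRingCat.ofHom
        (Algebra.TensorProduct.includeRight : B →ₐ[R] B ⊗[R] B).toRingHom) = g'.left :=
    ⟨(isPullback_incl B).lift g.left g'.left h0, (isPullback_incl B).lift_fst _ _ _,
      (isPullback_incl B).lift_snd _ _ _⟩
  have hcomp : Spec.map (CommRingCat.ofHom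
        (Algebra.TensorProduct.includeLeftRingHom : B →+* B ⊗[R] B)) ≫
      Spec.map (CommRingCat.ofHom (algebraMap R B)) =
      Spec.map (CommRingCat.ofHom (algebraMap R (B ⊗[R] B))) := by
    rw [← Spec.map_comp, ← CommRingCat.ofHom_comp]
  have hwo : w ≫ ((specOver a).obj (op (algOf R (B ⊗[R] B)))).hom = Z.hom := by
    have hg := Over.w g
    rw [← hg, ← hw1]
    change w ≫ Spec.map (CommRingCat.ofHom (algebraMap R (B ⊗[R] B))) ≫ a =
      (w ≫ Spec.map (CommRingCat.ofHom
        (Algebra.TensorProduct.includeLeftRingHom : B →+* B ⊗[R] B))) ≫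
        Spec.map (CommRingCat.ofHom (algebraMap R B)) ≫ a
    rw [← hcomp, Category.assoc, Category.assoc]
  refine ⟨Over.homMk (show Z.left ⟶ ((specOver a).obj (op (algOf R (B ⊗[R] B)))).left from w)
    hwo, ?_, ?_⟩
  · exact Over.OverMorphism.ext hw1
  · exact Over.OverMorphism.ext hw2

/-- the three cofaces as morphisms of `Alg R` -/
noncomputable abbrev D0 : algOf R (B ⊗[R] B) ⟶ algOf R ((B ⊗[R] B) ⊗[R] B) :=
  CommAlgCat.ofHom (Adeq2L.d0 R B)

noncomputable abbrev D1 : algOf R (B ⊗[R] B) ⟶ algOf R ((B ⊗[R] B) ⊗[R] B) :=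
  CommAlgCat.ofHom (Adeq2L.d1 R B)

noncomputable abbrev D2 : algOf R (B ⊗[R] B) ⟶ algOf R ((B ⊗[R] B) ⊗[R] B) :=
  CommAlgCat.ofHom (Adeq2L.d2 R B)

lemma rel02 : φ₁ (R := R) B ≫ D0 (R := R) B = φ₂ (R := R) B ≫ D2 (R := R) B := by
  apply CommAlgCat.hom_ext
  apply AlgHom.ext
  intro b
  change Adeq2L.d0 R B (b ⊗ₜ[R] (1 : B)) = Adeq2L.d2 R B ((1 : B) ⊗ₜ[R] b)
  rw [Adeq2L.d0_tmul, Adeq2L.d2_tmul]

lemma rel01 : φ₂ (R := R) B ≫ D0 (R := R) B = φ₂ (R := R) B ≫ D1 (R := R) B := by
  apply CommAlgCat.hom_ext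
  apply AlgHom.ext
  intro b
  change Adeq2L.d0 R B ((1 : B) ⊗ₜ[R] b) = Adeq2L.d1 R B ((1 : B) ⊗ₜ[R] b)
  rw [Adeq2L.d0_tmul, Adeq2L.d1_tmul]

lemma rel12 : φ₁ (R := R) B ≫ D1 (R := R) B = φ₁ (R := R) B ≫ D2 (R := R) B := by
  apply CommAlgCat.hom_ext
  apply AlgHom.ext
  intro b
  change Adeq2L.d1 R B (b ⊗ₜ[R] (1 : B)) = Adeq2L.d2 R B (b ⊗ₜ[R] (1 : B))
  rw [Adeq2L.d1_tmul, Adeq2L.d2_tmul]

end Lift

section Core

variable (C : ShortComplex (BigSite.Mod Scheme.fppfPrecoverage S)) (hC : C.ShortExact)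
  (hF : adequate R ((toMVF Scheme.fppfPrecoverage a).obj C.X₁))
  {ι : Type} [Fintype ι] [DecidableEq ι] (Ck : ι → Type u) [∀ k, CommRing (Ck k)]
  [∀ k, Algebra R (Ck k)] [Module.FaithfullyFlat R (∀ k, Ck k)]

include hC hF in
theorem core_lift
    (hcovπ : Presieve.ofArrows (fun k => ((specOver a).obj (op (algOf R (Ck k)))).left)
      (fun k => (strB a (algOf R (Ck k))).left) ∈
        Scheme.fppfPrecoverage.coverings (Over.mk a).left)
    (s : C.X₃.val.obj (op (Over.mk a)))
    (tk : ∀ k, C.X₂.val.obj (op ((specOver a).obj (op (algOf R (Ck k))))))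
    (htk : ∀ k, ap Scheme.fppfPrecoverage C.g _ (tk k) =
      res Scheme.fppfPrecoverage C.X₃ (strB a (algOf R (Ck k))) s) :
    ∃ t : C.X₂.val.obj (op (Over.mk a)), ap Scheme.fppfPrecoverage C.g _ t = s := by
  -- step a: glue the local lifts over the product
  obtain ⟨-, glueρ₂⟩ := sheaf_product C.X₂ a Ck
  obtain ⟨sepρ₃, -⟩ := sheaf_product C.X₃ a Ck
  obtain ⟨t', ht'⟩ := glueρ₂ tk
  have hgt' : ap Scheme.fppfPrecoverage C.g _ t' =
      res Scheme.fppfPrecoverage C.X₃ (strB a (algOf R (∀ k, Ck k))) s := by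
    apply sub_eq_zero.1
    apply sepρ₃
    intro k
    rw [res_sub, ← ap_res, ht' k, ← res_comp, strB_natural, htk k, sub_self]
  -- step c: the cocycle
  have hgc' : ap Scheme.fppfPrecoverage C.g _
      (res Scheme.fppfPrecoverage C.X₂ ((specOver a).map (φ₁ (R := R) (∀ k, Ck k)).op) t' -
        res Scheme.fppfPrecoverage C.X₂ ((specOver a).map (φ₂ (R := R) (∀ k, Ck k)).op) t') = 0 := by
    rw [ap_sub, ap_res, ap_res, hgt', ← res_comp, ← res_comp,
      incl_comp_eq a (∀ k, Ck k) (strB a (algOf R (∀ k, Ck k))) rfl, sub_self]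
  obtain ⟨c, hc⟩ := exists_of_g_eq_zero C hC _ _ hgc'
  have hcoc : res Scheme.fppfPrecoverage C.X₁ ((specOver a).map (D0 (R := R) (∀ k, Ck k)).op) c -
      res Scheme.fppfPrecoverage C.X₁ ((specOver a).map (D1 (R := R) (∀ k, Ck k)).op) c +
      res Scheme.fppfPrecoverage C.X₁ ((specOver a).map (D2 (R := R) (∀ k, Ck k)).op) c = 0 := by
    apply f_injective C hC
    have e02 : (specOver a).map (D0 (R := R) (∀ k, Ck k)).op ≫
        (specOver a).map (φ₁ (R := R) (∀ k, Ck k)).op =
        (specOver a).map (D2 (R := R) (∀ k, Ck k)).op ≫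
          (specOver a).map (φ₂ (R := R) (∀ k, Ck k)).op := by
      rw [← Functor.map_comp, ← Functor.map_comp, ← op_comp, ← op_comp, rel02]
    have e01 : (specOver a).map (D0 (R := R) (∀ k, Ck k)).op ≫
        (specOver a).map (φ₂ (R := R) (∀ k, Ck k)).op =
        (specOver a).map (D1 (R := R) (∀ k, Ck k)).op ≫
          (specOver a).map (φ₂ (R := R) (∀ k, Ck k)).op := by
      rw [← Functor.map_comp, ← Functor.map_comp, ← op_comp, ← op_comp, rel01]
    have e12 : (specOver a).map (D1 (R := R) (∀ k, Ck k)).op ≫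
        (specOver a).map (φ₁ (R := R) (∀ k, Ck k)).op =
        (specOver a).map (D2 (R := R) (∀ k, Ck k)).op ≫
          (specOver a).map (φ₁ (R := R) (∀ k, Ck k)).op := by
      rw [← Functor.map_comp, ← Functor.map_comp, ← op_comp, ← op_comp, rel12]
    rw [ap_add, ap_sub, ap_res, ap_res, ap_res, hc, res_sub, res_sub, res_sub,
      ← res_comp, ← res_comp, ← res_comp, ← res_comp, ← res_comp, ← res_comp, e02, e01, e12]
    abel
  -- step f: the cocycle is a coboundary
  obtain ⟨b, hb⟩ := Adeq2L.amitsur1_adequate ((toMVF Scheme.fppfPrecoverage a).obj C.X₁) hF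
    (∀ k, Ck k) c hcoc
  have hb' : c = res Scheme.fppfPrecoverage C.X₁ ((specOver a).map (φ₁ (R := R) (∀ k, Ck k)).op) b -
      res Scheme.fppfPrecoverage C.X₁ ((specOver a).map (φ₂ (R := R) (∀ k, Ck k)).op) b := hb
  -- step g: correct the lift
  have ht'' : res Scheme.fppfPrecoverage C.X₂ ((specOver a).map (φ₁ (R := R) (∀ k, Ck k)).op)
        (t' - ap Scheme.fppfPrecoverage C.f _ b) =
      res Scheme.fppfPrecoverage C.X₂ ((specOver a).map (φ₂ (R := R) (∀ k, Ck k)).op)
        (t' - ap Scheme.fppfPrecoverage C.f _ b) := by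
    apply sub_eq_zero.1
    have h1 : ap Scheme.fppfPrecoverage C.f _ c =
        res Scheme.fppfPrecoverage C.X₂ ((specOver a).map (φ₁ (R := R) (∀ k, Ck k)).op)
          (ap Scheme.fppfPrecoverage C.f _ b) -
        res Scheme.fppfPrecoverage C.X₂ ((specOver a).map (φ₂ (R := R) (∀ k, Ck k)).op)
          (ap Scheme.fppfPrecoverage C.f _ b) := by
      rw [hb', ap_sub, ap_res, ap_res]
    rw [res_sub, res_sub, sub_sub_sub_comm, ← h1, hc, sub_self]
  -- step h: glue along the original covering family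
  obtain ⟨-, glueπ₂⟩ := sheaf_arrows Scheme.fppfPrecoverage C.X₂ (Over.mk a)
    (fun k => (specOver a).obj (op (algOf R (Ck k)))) (fun k => strB a (algOf R (Ck k))) hcovπ
  obtain ⟨sepπ₃, -⟩ := sheaf_arrows Scheme.fppfPrecoverage C.X₃ (Over.mk a)
    (fun k => (specOver a).obj (op (algOf R (Ck k)))) (fun k => strB a (algOf R (Ck k))) hcovπ
  obtain ⟨t, ht⟩ := glueπ₂
    (fun k => res Scheme.fppfPrecoverage C.X₂ ((specOver a).map (prK Ck k).op)
      (t' - ap Scheme.fppfPrecoverage C.f _ b)) (by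
    intro k l Z g g' hgg
    change res Scheme.fppfPrecoverage C.X₂ g
        (res Scheme.fppfPrecoverage C.X₂ ((specOver a).map (prK Ck k).op)
          (t' - ap Scheme.fppfPrecoverage C.f _ b)) =
      res Scheme.fppfPrecoverage C.X₂ g'
        (res Scheme.fppfPrecoverage C.X₂ ((specOver a).map (prK Ck l).op)
          (t' - ap Scheme.fppfPrecoverage C.f _ b))
    rw [← res_comp, ← res_comp]
    have hGG : (g ≫ (specOver a).map (prK Ck k).op) ≫ strB a (algOf R (∀ k, Ck k)) =
        (g' ≫ (specOver a).map (prK Ck l).op) ≫ strB a (algOf R (∀ k, Ck k)) := by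
      rw [Category.assoc, Category.assoc, strB_natural, strB_natural]
      exact hgg
    obtain ⟨zo, hz1, hz2⟩ := over_lift a (∀ k, Ck k) Z _ _ hGG
    rw [← hz1, ← hz2, res_comp, res_comp, ht''])
  have ht2 : ∀ k, res Scheme.fppfPrecoverage C.X₂ (strB a (algOf R (Ck k))) t =
      res Scheme.fppfPrecoverage C.X₂ ((specOver a).map (prK Ck k).op)
        (t' - ap Scheme.fppfPrecoverage C.f _ b) := ht
  refine ⟨t, ?_⟩
  apply sub_eq_zero.1
  apply sepπ₃
  intro k
  change res Scheme.fppfPrecoverage C.X₃ (strB a (algOf R (Ck k)))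
    (ap Scheme.fppfPrecoverage C.g _ t - s) = 0
  rw [res_sub, ← ap_res, ht2 k, ap_res, ap_sub, g_f, sub_zero, hgt', ← res_comp, strB_natural,
    sub_self]

end Core

section Final

variable (C : ShortComplex (BigSite.Mod Scheme.fppfPrecoverage S)) (hC : C.ShortExact)
  (had : ∀ (R : CommRingCat.{u}) (a : Spec R ⟶ S),
    adequate R ((toMVF Scheme.fppfPrecoverage a).obj C.X₁))

include hC had in
theorem surj_affine (R : CommRingCat.{u}) (a : Spec R ⟶ S) (s : C.X₃.val.obj (op (Over.mk a))) :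
    ∃ t : C.X₂.val.obj (op (Over.mk a)), ap Scheme.fppfPrecoverage C.g _ t = s := by
  haveI := hC.epi_g
  obtain ⟨T, hT, hTs⟩ := exists_cover_lift_epi Scheme.fppfPrecoverage C.g (Over.mk a) s
  obtain ⟨n, Aring, g, hP, hs, hTg⟩ := exists_finite_refinement a T hT
  letI : ∀ k, Algebra R (Aring k) := fun k => (g k).hom.toAlgebra
  haveI : Module.FaithfullyFlat R (∀ k, Aring k) := faithfullyFlat_of_family Aring g hP hs
  choose tk htk using fun k => hTs _ (hTg k)
  exact core_lift a C hC (had R a) (fun k => (Aring k : Type u)) (mem_fppf_iff.2 ⟨hs, hP⟩) s tk htk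

include hC had in
theorem shortExact_toMVF (R : CommRingCat.{u}) (a : Spec R ⟶ S) :
    (C.map (toMVF Scheme.fppfPrecoverage a)).ShortExact := by
  have hex : (C.map (toMVF Scheme.fppfPrecoverage a)).Exact := by
    apply exact_of_pointwise
    intro X y hy
    exact exists_of_g_eq_zero C hC ((specOver a).obj (op X.unop.unop)) y hy
  haveI : Mono (C.map (toMVF Scheme.fppfPrecoverage a)).f := by
    apply PresheafOfModules.mono_of_injective
    intro X
    rw [injective_iff_map_eq_zero]
    intro x hx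
    exact f_injective C hC ((specOver a).obj (op X.unop.unop)) x hx
  haveI : Epi (C.map (toMVF Scheme.fppfPrecoverage a)).g := by
    apply PresheafOfModules.epi_of_surjective
    intro X s
    exact surj_affine C hC had (CommRingCat.of X.unop.unop)
      (Spec.map (CommRingCat.ofHom (algebraMap R X.unop.unop)) ≫ a) s
  exact { exact := hex }

end Final

/-- an extension of adequate modules on the big fppf site is adequate -/
theorem adequateMod_of_shortExact (C : ShortComplex (BigSite.Mod Scheme.fppfPrecoverage S))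
    (hC : C.ShortExact) (h₁ : adequateMod Scheme.fppfPrecoverage S C.X₁)
    (h₃ : adequateMod Scheme.fppfPrecoverage S C.X₃) :
    adequateMod Scheme.fppfPrecoverage S C.X₂ := by
  have had₁ := main_fppf C.X₁ h₁
  have had₃ := main_fppf C.X₃ h₃
  have had : ∀ (R : CommRingCat.{u}) (a : Spec R ⟶ S),
      adequate R ((toMVF Scheme.fppfPrecoverage a).obj C.X₂) := by
    intro R a
    exact AdeqO.adequate_ext (C.map (toMVF Scheme.fppfPrecoverage a))
      (shortExact_toMVF C hC had₁ R a) (had₁ R a) (had₃ R a)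
  obtain ⟨I, A, c, hc, hcs⟩ := exists_affine_cover S
  exact ⟨I, A, c, mem_fppf_iff.2 ⟨hcs, fun i => ⟨inferInstance, inferInstance⟩⟩,
    fun i => had _ _⟩

end Fppf

end Groth.Agent.Helper8.Adeq2M
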