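import Groth.Agent.Helper8.CechFF
import Groth.Agent.Helper8.Adeq2M

/-!
# Exactness of the Čech complex of an adequate module for a faithfully flat affine covering
-/

namespace Groth.Agent.Helper8.CechFG

open CategoryTheory Limits Opposite AlgebraicGeometry TensorProduct
open Adeq AdeqE AdeqJ Adeq2F Adeq2M
open Groth.Agent.Helper8.CechED Groth.Agent.Helper8.CechFF

universe u

variable {S : Scheme.{u}} (M : BigSite.Mod Scheme.fppfPrecoverage S)
  {R : CommRingCat.{u}} (a : Spec R ⟶ S)

/-- the presheaf `W ↦ M(W → Spec R → S)` on schemes over `Spec R` -/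
noncomputable abbrev PP : (Over (Spec R))ᵒᵖ ⥤ AddCommGrpCat.{u + 1} :=
  (Over.map a).op ⋙ ((BigSite.toAbMod Scheme.fppfPrecoverage S).obj M).obj

/-- the module-valued functor of `M` at `a` -/
noncomputable abbrev FF : MVF R := (toMVF Scheme.fppfPrecoverage a).obj M

/-- its value at `R` -/
noncomputable abbrev NN : ModuleCat.{u + 1} R :=
  ModuleCat.of R ((FF M a).obj (pt (algOf R R)))

/-- pullback of functions as a morphism of `Alg R` -/
noncomputable abbrev pbH {W W' : Over (Spec R)} (g : W' ⟶ W) : Gam0 W ⟶ Gam0 W' :=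
  ConcreteCategory.ofHom (C := Alg R) (X := Gam0 W) (Y := Gam0 W') (pbA g)

/-- the canonical morphism `W → Spec Γ(W)` over `S` -/
noncomputable def rho (W : Over (Spec R)) :
    (Over.map a).obj W ⟶ (specOver a).obj (op (Gam0 W)) :=
  Over.homMk (show ((Over.map a).obj W).left ⟶ ((specOver a).obj (op (Gam0 W))).left from
    W.left.toSpecΓ) (by
    change W.left.toSpecΓ ≫ (Spec.map (CommRingCat.ofHom (algebraMap R (Gam0 W))) ≫ a) =
      W.hom ≫ a
    rw [← Category.assoc]
    congr 1
    exact toSpecΓ_algebraMap W)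

lemma rho_natural {W W' : Over (Spec R)} (g : W' ⟶ W) :
    rho a W' ≫ (specOver a).map (pbH g).op = (Over.map a).map g ≫ rho a W := by
  apply Over.OverMorphism.ext
  change W'.left.toSpecΓ ≫ Spec.map g.left.appTop = g.left ≫ W.left.toSpecΓ
  exact (Scheme.toSpecΓ_naturality g.left).symm

instance rho_isIso (W : Over (Spec R)) [IsAffine W.left] : IsIso (rho a W) := by
  haveI : IsIso ((Over.forget S).map (rho a W)) := by
    change IsIso W.left.toSpecΓ
    infer_instance
  exact isIso_of_reflects_iso (rho a W) (Over.forget S)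

/-- restriction as an additive map -/
noncomputable def resHom {W W' : Over S} (e : W' ⟶ W) : M.val.obj (op W) →+ M.val.obj (op W') :=
  AddMonoidHom.mk' (res Scheme.fppfPrecoverage M e) (res_add Scheme.fppfPrecoverage M e)

lemma resHom_bijective {W W' : Over S} (e : W' ⟶ W) [IsIso e] :
    Function.Bijective (resHom M e) := by
  refine Function.bijective_iff_has_inverse.2 ⟨resHom M (inv e), fun y => ?_, fun y => ?_⟩
  · change res Scheme.fppfPrecoverage M (inv e) (res Scheme.fppfPrecoverage M e y) = y
    rw [← res_comp, IsIso.inv_hom_id, Adeq2H.res_id]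
  · change res Scheme.fppfPrecoverage M e (res Scheme.fppfPrecoverage M (inv e) y) = y
    rw [← res_comp, IsIso.hom_inv_id, Adeq2H.res_id]

/-- `Γ(W) ⊗ M(Spec R) → M(W)` -/
noncomputable def ThetaW (W : Over (Spec R)) :
    Gam0 W ⊗[R] NN M a →+ M.val.obj (op ((Over.map a).obj W)) :=
  (resHom M (rho a W)).comp (Adeq2L.theta (FF M a) (Gam0 W))

lemma ThetaW_natural {W W' : Over (Spec R)} (g : W' ⟶ W) (z : Gam0 W ⊗[R] NN M a) :
    ThetaW M a W' ((pbA g).toLinearMap.rTensor (NN M a) z) =
      res Scheme.fppfPrecoverage M ((Over.map a).map g) (ThetaW M a W z) := by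
  change res Scheme.fppfPrecoverage M (rho a W')
      (Adeq2L.theta (FF M a) (Gam0 W') ((pbA g).toLinearMap.rTensor _ z)) =
    res Scheme.fppfPrecoverage M ((Over.map a).map g)
      (res Scheme.fppfPrecoverage M (rho a W) (Adeq2L.theta (FF M a) (Gam0 W) z))
  rw [← Adeq2L.theta_natural (FF M a) (Gam0 W) (pbA g) z]
  change res Scheme.fppfPrecoverage M (rho a W')
      (res Scheme.fppfPrecoverage M ((specOver a).map (pbH g).op)
        (Adeq2L.theta (FF M a) (Gam0 W) z)) = _
  rw [← res_comp, rho_natural, res_comp]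

/-- the comparison `Γ(-) ⊗ M(Spec R) ⟶ M` of presheaves on schemes over `Spec R` -/
noncomputable def Theta : GN (NN M a) ⟶ PP M a where
  app W := AddCommGrpCat.ofHom (ThetaW M a W.unop)
  naturality W W' g := by
    ext z
    exact ThetaW_natural M a g.unop z

theorem ThetaW_bijective (hF : adequate R (FF M a)) (W : Over (Spec R)) (hW : AffFlat W) :
    Function.Bijective (ThetaW M a W) := by
  obtain ⟨h1, h2⟩ := hW
  haveI := h1
  haveI := h2
  exact (resHom_bijective M (rho a W)).comp (Adeq2L.theta_bijective (FF M a) (Gam0 W) hF)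

/-- Čech exactness in positive degrees for an adequate module and a faithfully flat algebra -/
theorem main (hM : adequateMod Scheme.fppfPrecoverage S M) (B : Type u) [CommRing B]
    [Algebra R B] [Module.FaithfullyFlat R B] (n : ℕ) (hn : 0 < n) :
    ((cechComplexFunctor (A := AddCommGrpCat.{u + 1})
        (fun _ : PUnit.{u + 2} =>
          (Over.mk (Spec.map (CommRingCat.ofHom (algebraMap R B))) : Over (Spec R)))).obj
      ((Over.map a).op ⋙ ((BigSite.toAbMod Scheme.fppfPrecoverage S).obj M).obj)).ExactAt n := by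
  obtain ⟨m, rfl⟩ : ∃ m, n = m + 1 := Nat.exists_eq_succ_of_ne_zero hn.ne'
  have hF := Adeq2D.main_fppf M hM R a
  apply exactAt_of_comp (X := XB (R := R) B) (PP M a) m
  apply transfer (Theta M a) (fun k => ThetaW_bijective M a hF _ (affFlat_T B k)) m
  exact compExact_GN B (NN M a) m

end Groth.Agent.Helper8.CechFG
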