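import Mathlib
import Groth.Prelude.Def_CAlg
import Groth.Agent.Helper2.Depth
set_option autoImplicit false


namespace Groth.Agent.Helper8.TFAss

universe u

variable (R : Type u) [CommRing R] [IsDomain R] [IsNoetherianRing R] (M : Type u) [AddCommGroup M]
  [Module R M] [Module.Finite R M] [Nontrivial M]

theorem tf_iff_ass : Module.IsTorsionFree R M ↔ associatedPrimes R M = {⊥} := by
  constructor
  · intro h
    apply Set.eq_singleton_iff_nonempty_unique_mem.2
    refine ⟨associatedPrimes.nonempty R M, ?_⟩
    intro p hp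
    rw [AssociatedPrimes.mem_iff, isAssociatedPrime_iff] at hp
    obtain ⟨hprime, x, hx⟩ := hp
    have hx0 : x ≠ 0 := by
      rintro rfl
      have : (1 : R) ∈ p := by
        rw [hx, Submodule.mem_colon_singleton]; simp
      exact (Ideal.ne_top_iff_one _).mp hprime.ne_top this
    rw [eq_bot_iff]
    intro r hr
    rw [hx, Submodule.mem_colon_singleton, Submodule.mem_bot] at hr
    rw [Submodule.mem_bot]
    exact (smul_eq_zero.1 hr).resolve_right hx0
  · intro h
    rw [Module.isTorsionFree_iff_smul_eq_zero]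
    intro r m hrm
    by_contra hcon
    push Not at hcon
    obtain ⟨P, hP, hle⟩ := exists_le_isAssociatedPrime_of_isNoetherianRing R m hcon.2
    have hP' : P ∈ associatedPrimes R M := hP
    rw [h, Set.mem_singleton_iff] at hP'
    have : r ∈ P := hle (by rw [Submodule.mem_colon_singleton]; simpa using hrm)
    rw [hP', Submodule.mem_bot] at this
    exact hcon.1 this


section part2
open Groth.Agent.Helper2.Depth

theorem hasSk_of_tf [Module.IsTorsionFree R M] : LocCoh.HasSk 1 R M := by
  intro p _
  have hinj : Function.Injective (LocalizedModule.mkLinearMap p.primeCompl M) := by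
    rw [← LinearMap.ker_eq_bot, LinearMap.ker_eq_bot']
    intro m hm
    rw [IsLocalizedModule.eq_zero_iff p.primeCompl] at hm
    obtain ⟨s, hs⟩ := hm
    have hs0 : (s : R) ≠ 0 := fun h => s.2 (h ▸ p.zero_mem)
    exact (smul_eq_zero.1 hs).resolve_left hs0
  have hnt : Nontrivial (LocalizedModule p.primeCompl M) := hinj.nontrivial
  by_cases hmax : IsLocalRing.maximalIdeal (Localization.AtPrime p) = ⊥
  · have hfield : IsField (Localization.AtPrime p) :=
      IsLocalRing.isField_iff_maximalIdeal_eq.2 hmax
    have h1 : Module.supportDim (Localization.AtPrime p) (LocalizedModule p.primeCompl M) ≤ 0 :=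
      (Module.supportDim_le_ringKrullDim _ _).trans (ringKrullDim_eq_zero_of_isField hfield).le
    refine (min_le_right _ _).trans (h1.trans ?_)
    have h00 : (0 : ℕ∞) ≤ LocCoh.depth (Localization.AtPrime p)
        (LocalizedModule p.primeCompl M) := by simp
    exact_mod_cast h00
  · obtain ⟨y, hy, hy0⟩ := Submodule.exists_mem_ne_zero_of_ne_bot hmax
    have hreg : IsSMulRegular (LocalizedModule p.primeCompl M) y :=
      (IsRegular.of_ne_zero hy0).isSMulRegular
    have hd : LocCoh.depth (Localization.AtPrime p) (LocalizedModule p.primeCompl M) ≠ 0 :=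
      fun h => (depth_eq_zero_iff _ _).1 h y hy hreg
    have h1 : (1 : ℕ∞) ≤ LocCoh.depth (Localization.AtPrime p)
        (LocalizedModule p.primeCompl M) := Order.one_le_iff_ne_zero.2 hd
    refine (min_le_left _ _).trans ?_
    exact_mod_cast h1

theorem tf_of_hasSk (h0 : (⟨⊥, Ideal.isPrime_bot⟩ : PrimeSpectrum R) ∈ Module.support R M)
    (hS : LocCoh.HasSk 1 R M) : Module.IsTorsionFree R M := by
  rw [tf_iff_ass]
  apply Set.eq_singleton_iff_nonempty_unique_mem.2
  refine ⟨associatedPrimes.nonempty R M, ?_⟩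
  intro p hp
  rw [AssociatedPrimes.mem_iff, isAssociatedPrime_iff] at hp
  obtain ⟨hprime, x, hx⟩ := hp
  have hmem : ∀ r : R, r • x = 0 → r ∈ p := by
    intro r hr
    rw [hx, Submodule.mem_colon_singleton]; simpa using hr
  have hmem' : ∀ r : R, r ∈ p → r • x = 0 := by
    intro r hr
    rw [hx, Submodule.mem_colon_singleton] at hr
    simpa using hr
  clear hx
  have hx1 : LocalizedModule.mk x (1 : p.primeCompl) ≠ 0 := by
    intro h
    rw [← LocalizedModule.zero_mk (1 : p.primeCompl), LocalizedModule.mk_eq] at h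
    obtain ⟨s, hs⟩ := h
    simp only [one_smul, smul_zero] at hs
    exact s.2 (hmem _ hs)
  have hnt : Nontrivial (LocalizedModule p.primeCompl M) := ⟨⟨_, 0, hx1⟩⟩
  have hdepth : LocCoh.depth (Localization.AtPrime p) (LocalizedModule p.primeCompl M) = 0 := by
    rw [depth_eq_zero_iff]
    intro y hy hreg
    obtain ⟨a, s, rfl⟩ := IsLocalization.exists_mk'_eq p.primeCompl y
    rw [IsLocalization.AtPrime.mk'_mem_maximal_iff (Localization.AtPrime p) p] at hy
    have hax : a • x = 0 := hmem' a hy
    have h1 : IsLocalization.mk' (Localization.AtPrime p) a s •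
        LocalizedModule.mk x (1 : p.primeCompl) = 0 := by
      rw [← Localization.mk_eq_mk'_apply, LocalizedModule.mk_smul_mk, hax, LocalizedModule.zero_mk]
    exact hx1 (hreg (h1.trans (smul_zero _).symm))
  have hS1 := hS p
  rw [hdepth] at hS1
  have hsd : Module.supportDim (Localization.AtPrime p) (LocalizedModule p.primeCompl M) ≤ 0 := by
    rcases min_le_iff.1 hS1 with h | h
    · exact absurd h (by norm_num)
    · exact_mod_cast h
  rw [Module.supportDim, Order.krullDim_nonpos_iff_forall_isMin] at hsd
  obtain ⟨m0, hm0⟩ := (Module.mem_support_iff').1 h0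
  have hq0 : (⟨⊥, Ideal.isPrime_bot⟩ : PrimeSpectrum (Localization.AtPrime p)) ∈
      Module.support (Localization.AtPrime p) (LocalizedModule p.primeCompl M) := by
    rw [Module.mem_support_iff']
    refine ⟨LocalizedModule.mk m0 (1 : p.primeCompl), ?_⟩
    intro y hy hzero
    obtain ⟨a, s, rfl⟩ := IsLocalization.exists_mk'_eq p.primeCompl y
    rw [← Localization.mk_eq_mk'_apply, LocalizedModule.mk_smul_mk,
      ← LocalizedModule.zero_mk (1 : p.primeCompl), LocalizedModule.mk_eq] at hzero
    obtain ⟨t, ht⟩ := hzero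
    simp only [one_smul, smul_zero] at ht
    have ha0 : a ≠ 0 := by
      rintro rfl
      apply hy
      simp
    have ht0 : (t : R) ≠ 0 := fun h => t.2 (h ▸ p.zero_mem)
    have : ((t : R) * a) • m0 = 0 := by
      rw [mul_smul]; exact ht
    exact hm0 ((t : R) * a) (by simpa using mul_ne_zero ht0 ha0) this
  have hq1 := IsLocalRing.closedPoint_mem_support (Localization.AtPrime p)
    (LocalizedModule p.primeCompl M)
  have hmin := hsd ⟨IsLocalRing.closedPoint (Localization.AtPrime p), hq1⟩
  have hle : (⟨IsLocalRing.closedPoint (Localization.AtPrime p), hq1⟩ :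
      Module.support (Localization.AtPrime p) (LocalizedModule p.primeCompl M)) ≤
      ⟨⟨⊥, Ideal.isPrime_bot⟩, hq0⟩ := hmin (b := ⟨⟨⊥, Ideal.isPrime_bot⟩, hq0⟩)
        (show (⊥ : Ideal (Localization.AtPrime p)) ≤ _ from bot_le)
  have hle' : IsLocalRing.maximalIdeal (Localization.AtPrime p) ≤ ⊥ := hle
  rw [eq_bot_iff]
  intro a ha
  have h1 : algebraMap R (Localization.AtPrime p) a ∈
      IsLocalRing.maximalIdeal (Localization.AtPrime p) :=
    (IsLocalization.AtPrime.to_map_mem_maximal_iff (Localization.AtPrime p) p a).2 ha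
  have h2 := hle' h1
  rw [Submodule.mem_bot] at h2 ⊢
  have hle2 : p.primeCompl ≤ nonZeroDivisors R := by
    intro s hs
    exact mem_nonZeroDivisors_of_ne_zero (fun h => hs (by rw [h]; exact p.zero_mem))
  exact (IsLocalization.injective (Localization.AtPrime p) hle2) (h2.trans (map_zero _).symm)

theorem s6868 :
    (Module.IsTorsionFree R M ↔ associatedPrimes R M = {⊥}) ∧
    (Module.IsTorsionFree R M ↔
      (⟨⊥, Ideal.isPrime_bot⟩ : PrimeSpectrum R) ∈ Module.support R M ∧ LocCoh.HasSk 1 R M) := by
  refine ⟨tf_iff_ass R M, ?_, fun h => tf_of_hasSk R M h.1 h.2⟩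
  intro h
  refine ⟨?_, hasSk_of_tf R M⟩
  rw [Module.support_of_noZeroSMulDivisors]
  exact Set.mem_univ _

end part2

end Groth.Agent.Helper8.TFAss
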