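import Groth.Prelude.Def_W4c4cptpiccptjacBI
import Mathlib.Tactic

/-! Edge-wise bookkeeping for the Basic Inequality on a dual graph. -/

set_option autoImplicit false

universe u

namespace Groth.Agent.Helper8

open LabGraph

variable {V E : Type u} [Fintype V] [Fintype E] [DecidableEq V] [DecidableEq E]

/-- the cut as a sum of indicators over edges -/
theorem cut_eq_sum (ends : E → V × V) (Y : Finset V) :
    (cut ends Y : ℤ) = ∑ e : E,
      (if ((ends e).1 ∈ Y ∧ (ends e).2 ∉ Y) ∨ ((ends e).1 ∉ Y ∧ (ends e).2 ∈ Y) then (1 : ℤ) else 0) := by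
  rw [cut, Finset.card_filter]
  push_cast
  rfl

/-- the twist summed over a vertex set, as a sum over edges -/
theorem sum_twist_eq_sum (ends : E → V × V) (φ : V → ℤ) (Y : Finset V) :
    ∑ v ∈ Y, twist ends φ v = ∑ e : E,
      ((if (ends e).1 ∈ Y then φ (ends e).2 - φ (ends e).1 else 0) +
       (if (ends e).2 ∈ Y then φ (ends e).1 - φ (ends e).2 else 0)) := by
  simp only [twist]
  rw [Finset.sum_comm]
  refine Finset.sum_congr rfl fun e _ => ?_
  rw [Finset.sum_add_distrib]
  congr 1
  · rw [Finset.sum_ite_eq Y ((ends e).1)]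
  · rw [Finset.sum_ite_eq Y ((ends e).2)]

theorem sum_twist_univ (ends : E → V × V) (φ : V → ℤ) : ∑ v : V, twist ends φ v = 0 := by
  rw [sum_twist_eq_sum]
  refine Finset.sum_eq_zero fun e _ => ?_
  simp

theorem sum_endCount_univ (ends : E → V × V) :
    ∑ v : V, (endCount ends Finset.univ v : ℤ) = 2 * (Fintype.card E : ℤ) := by
  simp only [endCount]
  push_cast
  rw [Finset.sum_comm]
  have : ∀ e : E, ∑ v : V, (((if (ends e).1 = v then (1 : ℤ) else 0)) +
      (if (ends e).2 = v then (1 : ℤ) else 0)) = 2 := by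
    intro e
    rw [Finset.sum_add_distrib]
    simp
  rw [Finset.sum_congr rfl (fun e _ => this e)]
  simp [mul_comm]

theorem canDeg_univ (ends : E → V × V) (w : V → ℕ) :
    canDeg ends w Finset.univ = 2 * genus ends w - 2 := by
  rw [canDeg, genus, Finset.sum_add_distrib, Finset.sum_sub_distrib, sum_endCount_univ,
    ← Finset.mul_sum]
  simp
  ring

end Groth.Agent.Helper8
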