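import Mathlib
import Groth.Agent.Helper8.DGlueA

/-!
# Gluing locally effective descent data, part B: the glued scheme

For a descent datum `D` relative to an fpqc morphism `p : X ⟶ S`, the effective opens `W` of its total
space (`Eff D W`) form a preorder `J D`; the descended schemes `U_W` form a locally directed diagram of
open immersions, whose colimit `Y` is a scheme over `S`.
-/

set_option autoImplicit false
universe u

namespace Groth.Agent.Helper8.DGlue

open CategoryTheory CategoryTheory.Limits AlgebraicGeometry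
open Groth.Agent.Helper8.DDGrpd

variable {X S : Scheme.{u}} {p : X ⟶ S} [Surjective p] [Flat p] [QuasiCompact p]
  (D : Desc.SchDD p)

/-- the effective opens -/
def J : Type u := {W : D.obj.left.Opens // Eff D W}

instance : Preorder (J D) := inferInstanceAs (Preorder {W : D.obj.left.Opens // Eff D W})

variable {D} in
theorem J.le_iff {W₁ W₂ : J D} : W₁ ≤ W₂ ↔ W₁.1 ≤ W₂.1 := Iff.rfl

/-- the descended scheme -/
noncomputable def UW (W : J D) : Over S := W.2.choose

/-- the open immersion of descent data -/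
noncomputable def eW (W : J D) : (Desc.toDD p).obj (UW D W) ⟶ D := W.2.choose_spec.choose

instance (W : J D) : IsOpenImmersion (eW D W).hom.left := W.2.choose_spec.choose_spec.1

theorem range_eW (W : J D) : Set.range (eW D W).hom.left = (W.1 : Set D.obj.left) :=
  W.2.choose_spec.choose_spec.2

theorem isSt_J (W : J D) : IsSt D W.1 := W.2.isSt

/-- the total space of the canonical descent datum -/
noncomputable abbrev VW (W : J D) : Scheme.{u} := pullback p (UW D W).hom

/-- the quotient map -/
noncomputable abbrev pr (W : J D) : VW D W ⟶ (UW D W).left := pullback.snd p (UW D W).hom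

/-- the open immersion on total spaces -/
noncomputable def el (W : J D) : VW D W ⟶ D.obj.left := (eW D W).hom.left

instance (W : J D) : IsOpenImmersion (el D W) :=
  inferInstanceAs (IsOpenImmersion (eW D W).hom.left)

theorem range_el (W : J D) : Set.range (el D W) = (W.1 : Set D.obj.left) := range_eW D W

theorem el_mem (W : J D) (z : ↥(VW D W)) : el D W z ∈ W.1 := by
  rw [← SetLike.mem_coe, ← range_el]
  exact ⟨z, rfl⟩

theorem exists_el_eq (W : J D) (v : D.obj.left) (hv : v ∈ W.1) : ∃ z : ↥(VW D W), el D W z = v := by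
  rw [← SetLike.mem_coe, ← range_el] at hv
  exact hv

theorem el_hom (W : J D) : el D W ≫ D.obj.hom = pullback.fst p (UW D W).hom := w_left (eW D W)

section Maps

variable {D}
variable {W₁ W₂ : J D}

theorem exists_cmap (h : W₁ ≤ W₂) :
    ∃ c : (Desc.toDD p).obj (UW D W₁) ⟶ (Desc.toDD p).obj (UW D W₂), c ≫ eW D W₂ = eW D W₁ :=
  exists_lift _ _ (by rw [range_eW, range_eW]; exact SetLike.coe_subset_coe.mpr h)

/-- the transition morphism of descent data -/
noncomputable def cmap (h : W₁ ≤ W₂) :
    (Desc.toDD p).obj (UW D W₁) ⟶ (Desc.toDD p).obj (UW D W₂) := (exists_cmap h).choose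

theorem cmap_eW (h : W₁ ≤ W₂) : cmap h ≫ eW D W₂ = eW D W₁ := (exists_cmap h).choose_spec

/-- the transition morphism of the descended schemes -/
noncomputable def gmap (h : W₁ ≤ W₂) : UW D W₁ ⟶ UW D W₂ :=
  haveI := Groth.Agent.Lead.toDD_full p
  (Desc.toDD p).preimage (cmap h)

theorem map_gmap (h : W₁ ≤ W₂) : (Desc.toDD p).map (gmap h) = cmap h := by
  haveI := Groth.Agent.Lead.toDD_full p
  exact (Desc.toDD p).map_preimage _

theorem map_gmap_eW (h : W₁ ≤ W₂) : (Desc.toDD p).map (gmap h) ≫ eW D W₂ = eW D W₁ := by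
  rw [map_gmap, cmap_eW]

theorem gmap_unique (h : W₁ ≤ W₂) (g : UW D W₁ ⟶ UW D W₂)
    (hg : (Desc.toDD p).map g ≫ eW D W₂ = eW D W₁) : g = gmap h := by
  haveI := Groth.Agent.Lead.toDD_faithful p
  apply (Desc.toDD p).map_injective
  exact hom_ext_of_mono (eW D W₂) (hg.trans (map_gmap_eW h).symm)

/-- the transition morphism on total spaces -/
noncomputable def cl (h : W₁ ≤ W₂) : VW D W₁ ⟶ VW D W₂ := ((Desc.toDD p).map (gmap h)).hom.left

theorem cl_el (h : W₁ ≤ W₂) : cl h ≫ el D W₂ = el D W₁ :=
  congrArg (fun m : (Desc.toDD p).obj (UW D W₁) ⟶ D => m.hom.left) (map_gmap_eW h)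

theorem cl_pr (h : W₁ ≤ W₂) : cl h ≫ pr D W₂ = pr D W₁ ≫ (gmap h).left :=
  Groth.Agent.Lead.toDD_map_snd p (gmap h)

theorem cl_el_apply (h : W₁ ≤ W₂) (z : ↥(VW D W₁)) : el D W₂ (cl h z) = el D W₁ z := by
  rw [← Scheme.Hom.comp_apply, cl_el]

theorem cl_pr_apply (h : W₁ ≤ W₂) (z : ↥(VW D W₁)) :
    pr D W₂ (cl h z) = (gmap h).left (pr D W₁ z) := by
  rw [← Scheme.Hom.comp_apply, cl_pr, Scheme.Hom.comp_apply]

theorem range_cl (h : W₁ ≤ W₂) : Set.range (cl h) = pr D W₂ ⁻¹' Set.range (gmap h).left :=
  range_toDD_map p (gmap h)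

instance isOpenImmersion_cl (h : W₁ ≤ W₂) : IsOpenImmersion (cl h) := by
  have h1 : IsOpenImmersion (cl h ≫ el D W₂) := by rw [cl_el]; infer_instance
  exact IsOpenImmersion.of_comp (cl h) (el D W₂)

instance isOpenImmersion_gmap (h : W₁ ≤ W₂) : IsOpenImmersion (gmap h).left := by
  have hQ : (@Surjective ⊓ @Flat ⊓ @QuasiCompact : MorphismProperty Scheme.{u}) (pr D W₂) :=
    ⟨⟨inferInstance, inferInstance⟩, inferInstance⟩
  exact MorphismProperty.DescendsAlong.of_isPullback (P := @IsOpenImmersion)
    (isPullback_toDD_map p (gmap h)) hQ (isOpenImmersion_cl h)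

theorem gmap_refl (W : J D) : gmap (le_refl W) = 𝟙 (UW D W) :=
  (gmap_unique _ _ (by rw [CategoryTheory.Functor.map_id, Category.id_comp])).symm

theorem gmap_trans {W₃ : J D} (h₁₂ : W₁ ≤ W₂) (h₂₃ : W₂ ≤ W₃) :
    gmap h₁₂ ≫ gmap h₂₃ = gmap (h₁₂.trans h₂₃) :=
  gmap_unique _ _ (by rw [CategoryTheory.Functor.map_comp, Category.assoc, map_gmap_eW, map_gmap_eW])

end Maps

/-- the diagram of descended schemes -/
noncomputable def F : J D ⥤ Scheme.{u} where
  obj W := (UW D W).left
  map {W₁ W₂} f := (gmap (show W₁ ≤ W₂ from leOfHom f)).left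
  map_id W := congrArg CommaMorphism.left (gmap_refl W)
  map_comp f g := congrArg CommaMorphism.left (gmap_trans _ _).symm

instance {W₁ W₂ : J D} (f : W₁ ⟶ W₂) : IsOpenImmersion ((F D).map f) :=
  isOpenImmersion_gmap _

instance : ((F D) ⋙ Scheme.forget).IsLocallyDirected where
  cond {i j k} fi fj xi xj h := by
    have hik : i ≤ k := leOfHom fi
    have hjk : j ≤ k := leOfHom fj
    change (gmap hik).left xi = (gmap hjk).left xj at h
    obtain ⟨zi, rfl⟩ := (pr D i).surjective xi
    obtain ⟨zj, rfl⟩ := (pr D j).surjective xj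
    have h3 : pr D k (cl hjk zj) = pr D k (cl hik zi) := by
      rw [cl_pr_apply, cl_pr_apply]; exact h.symm
    have hvj : el D i zi ∈ j.1 := by
      have h4 : el D k (cl hjk zj) ∈ j.1 := by rw [cl_el_apply]; exact el_mem D j zj
      have h5 := mem_of_same_image (eW D k) (isSt_J D j) (cl hjk zj) (cl hik zi) h3 h4
      have h6 : el D k (cl hik zi) = el D i zi := cl_el_apply hik zi
      rw [← h6]
      exact h5
    let l : J D := ⟨i.1 ⊓ j.1, i.2.inf (isSt_J D j)⟩
    have hli : l ≤ i := J.le_iff.mpr inf_le_left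
    have hlj : l ≤ j := J.le_iff.mpr inf_le_right
    obtain ⟨zl, hzl⟩ := exists_el_eq D l (el D i zi) ⟨el_mem D i zi, hvj⟩
    have hzi : cl hli zl = zi := by
      apply (el D i).isOpenEmbedding.injective
      rw [cl_el_apply]; exact hzl
    refine ⟨l, homOfLE hli, homOfLE hlj, pr D l zl, ?_, ?_⟩
    · change (gmap hli).left (pr D l zl) = pr D i zi
      rw [← cl_pr_apply, hzi]
    · change (gmap hlj).left (pr D l zl) = pr D j zj
      rw [← cl_pr_apply]
      apply (gmap hjk).left.isOpenEmbedding.injective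
      rw [← cl_pr_apply, ← cl_pr_apply]
      have h7 : cl hjk (cl hlj zl) = cl hik zi := by
        apply (el D k).isOpenEmbedding.injective
        rw [cl_el_apply, cl_el_apply, cl_el_apply]; exact hzl
      rw [h7]
      exact h3.symm

/-- the glued scheme -/
noncomputable def Y : Scheme.{u} := colimit (F D)

/-- the open immersions into the glued scheme -/
noncomputable def ιY (W : J D) : (UW D W).left ⟶ Y D := colimit.ι (F D) W

instance (W : J D) : IsOpenImmersion (ιY D W) :=
  inferInstanceAs (IsOpenImmersion (colimit.ι (F D) W))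

theorem gmap_ιY {W₁ W₂ : J D} (h : W₁ ≤ W₂) : (gmap h).left ≫ ιY D W₂ = ιY D W₁ :=
  colimit.w (F D) (homOfLE h)

/-- the structure morphism of the glued scheme -/
noncomputable def yS : Y D ⟶ S :=
  colimit.desc (F D) ⟨S, { app := fun W => (UW D W).hom
                           naturality := fun W₁ W₂ f => by
                            simp only [Functor.const_obj_obj, Functor.const_obj_map, Category.comp_id]
                            exact Over.w (gmap (show W₁ ≤ W₂ from leOfHom f)) }⟩

theorem ιY_yS (W : J D) : ιY D W ≫ yS D = (UW D W).hom := colimit.ι_desc _ _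

/-- the glued scheme over `S` -/
noncomputable abbrev YS : Over S := Over.mk (yS D)

/-- the open immersions over `S` -/
noncomputable def ιO (W : J D) : UW D W ⟶ YS D := Over.homMk (ιY D W) (ιY_yS D W)

instance (W : J D) : IsOpenImmersion (ιO D W).left := inferInstanceAs (IsOpenImmersion (ιY D W))

theorem gmap_ιO {W₁ W₂ : J D} (h : W₁ ≤ W₂) : gmap h ≫ ιO D W₂ = ιO D W₁ := by
  apply Over.OverMorphism.ext
  exact gmap_ιY D h

/-- the open immersions of the total spaces -/
noncomputable def tl (W : J D) : VW D W ⟶ pullback p (yS D) := ((Desc.toDD p).map (ιO D W)).hom.left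

instance (W : J D) : IsOpenImmersion (tl D W) :=
  inferInstanceAs (IsOpenImmersion ((Desc.toDD p).map (ιO D W)).hom.left)

theorem cl_tl {W₁ W₂ : J D} (h : W₁ ≤ W₂) : cl h ≫ tl D W₂ = tl D W₁ := by
  have := congrArg (fun m : (Desc.toDD p).obj (UW D W₁) ⟶ (Desc.toDD p).obj (YS D) => m.hom.left)
    (congrArg (Desc.toDD p).map (gmap_ιO D h))
  rw [CategoryTheory.Functor.map_comp] at this
  exact this

theorem tl_fst (W : J D) : tl D W ≫ pullback.fst p (yS D) = pullback.fst p (UW D W).hom :=
  Groth.Agent.Lead.toDD_map_fst p (ιO D W)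

theorem tl_snd (W : J D) : tl D W ≫ pullback.snd p (yS D) = pr D W ≫ ιY D W :=
  Groth.Agent.Lead.toDD_map_snd p (ιO D W)

theorem range_tl (W : J D) :
    Set.range (tl D W) = pullback.snd p (yS D) ⁻¹' Set.range (ιY D W) :=
  range_toDD_map p (ιO D W)

end Groth.Agent.Helper8.DGlue
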