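import Mathlib
import Groth.Agent.Helper8.DGlueB

/-!
# Gluing locally effective descent data, part C: the comparison isomorphism

If the effective opens cover the total space of the descent datum `D`, the glued scheme `Y` descends `D`.
-/

set_option autoImplicit false
universe u

namespace Groth.Agent.Helper8.DGlue

open CategoryTheory CategoryTheory.Limits AlgebraicGeometry
open Groth.Agent.Helper8.DDGrpd

variable {X S : Scheme.{u}} {p : X ⟶ S}

/-- a morphism of descent data whose underlying morphism of schemes is an isomorphism is an isomorphism -/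
lemma isIso_of_isIso_left {D D' : Desc.SchDD p} (g : D ⟶ D') [IsIso g.hom.left] : IsIso g := by
  haveI : IsIso ((Over.forget X).map g.hom) := (inferInstance : IsIso g.hom.left)
  haveI : IsIso g.hom := isIso_of_reflects_iso _ (Over.forget X)
  have hgi : g.hom.left ≫ (inv g.hom).left = 𝟙 _ := by
    rw [← Over.comp_left, IsIso.hom_inv_id]; rfl
  have hig : (inv g.hom).left ≫ g.hom.left = 𝟙 _ := by
    rw [← Over.comp_left, IsIso.inv_hom_id]; rfl
  refine ⟨⟨⟨inv g.hom, ?_⟩, ?_, ?_⟩⟩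
  · intro T x₀ x₁ h v w hw
    have h1 := g.comm x₀ x₁ h w v (by rw [hw, Category.assoc, hig, Category.comp_id])
    rw [h1, Category.assoc, hgi, Category.comp_id]
  · apply Desc.SchDD.hom_ext
    exact IsIso.hom_inv_id g.hom
  · apply Desc.SchDD.hom_ext
    exact IsIso.inv_hom_id g.hom

variable [Surjective p] [Flat p] [QuasiCompact p] (D : Desc.SchDD p)
  (hcov : ∀ v : D.obj.left, ∃ W : J D, v ∈ W.1)

/-- the cover of the total space by the effective opens -/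
@[reducible] noncomputable def coverV : D.obj.left.OpenCover where
  I₀ := J D
  X W := W.1.toScheme
  f W := W.1.ι
  mem₀ := by
    rw [Scheme.presieve₀_mem_precoverage_iff]
    refine ⟨fun x => ?_, fun W => inferInstanceAs (IsOpenImmersion W.1.ι)⟩
    obtain ⟨W, hxW⟩ := hcov x
    exact ⟨W, ⟨x, hxW⟩, rfl⟩

instance : Preorder (coverV D hcov).I₀ := inferInstanceAs (Preorder (J D))

noncomputable instance : (coverV D hcov).LocallyDirected where
  trans {W₁ W₂} f := D.obj.left.homOfLE (show W₁.1 ≤ W₂.1 from leOfHom f)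
  trans_id W := Scheme.homOfLE_rfl _ _
  trans_comp f g := (Scheme.homOfLE_homOfLE _ _ _).symm
  w f := Scheme.homOfLE_ι _ _
  directed {W₁ W₂} z := by
    let x : D.obj.left := (pullback.fst W₁.1.ι W₂.1.ι ≫ W₁.1.ι) z
    have hx1 : x ∈ W₁.1 := (pullback.fst W₁.1.ι W₂.1.ι z).2
    have hx2 : x ∈ W₂.1 := by
      have : x = (pullback.snd W₁.1.ι W₂.1.ι ≫ W₂.1.ι) z := by
        show (pullback.fst W₁.1.ι W₂.1.ι ≫ W₁.1.ι) z = _
        rw [pullback.condition]
      rw [this]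
      exact (pullback.snd W₁.1.ι W₂.1.ι z).2
    let l : J D := ⟨W₁.1 ⊓ W₂.1, W₁.2.inf (isSt_J D W₂)⟩
    have hl1 : l ≤ W₁ := J.le_iff.mpr inf_le_left
    have hl2 : l ≤ W₂ := J.le_iff.mpr inf_le_right
    refine ⟨l, homOfLE hl1, homOfLE hl2, ⟨x, hx1, hx2⟩, ?_⟩
    apply (pullback.fst W₁.1.ι W₂.1.ι ≫ W₁.1.ι).isOpenEmbedding.injective
    rw [← Scheme.Hom.comp_apply, pullback.lift_fst_assoc]
    exact congrArg (fun f : l.1.toScheme ⟶ D.obj.left => f ⟨x, hx1, hx2⟩)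
      (Scheme.homOfLE_ι D.obj.left (J.le_iff.mp hl1))
  property_trans f := inferInstance

/-- the total space of the canonical datum of `U_W` is `W` -/
noncomputable def eIso (W : J D) : VW D W ≅ W.1.toScheme :=
  IsOpenImmersion.isoOfRangeEq (el D W) W.1.ι (by rw [range_el, Scheme.Opens.range_ι])

theorem eIso_hom_ι (W : J D) : (eIso D W).hom ≫ W.1.ι = el D W :=
  IsOpenImmersion.isoOfRangeEq_hom_fac _ _ _

theorem eIso_inv_el (W : J D) : (eIso D W).inv ≫ el D W = W.1.ι := by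
  rw [← eIso_hom_ι, Iso.inv_hom_id_assoc]

/-- the local pieces of the comparison morphism -/
noncomputable def θW (W : J D) : W.1.toScheme ⟶ pullback p (yS D) := (eIso D W).inv ≫ tl D W

theorem cl_eIso {W₁ W₂ : J D} (h : W₁ ≤ W₂) :
    cl h ≫ (eIso D W₂).hom = (eIso D W₁).hom ≫ D.obj.left.homOfLE (J.le_iff.mp h) := by
  rw [← cancel_mono W₂.1.ι, Category.assoc, Category.assoc, eIso_hom_ι, cl_el, Scheme.homOfLE_ι,
    eIso_hom_ι]

theorem θW_compat {W₁ W₂ : J D} (h : W₁ ≤ W₂) :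
    D.obj.left.homOfLE (J.le_iff.mp h) ≫ θW D W₂ = θW D W₁ := by
  unfold θW
  have h1 : D.obj.left.homOfLE (J.le_iff.mp h) ≫ (eIso D W₂).inv = (eIso D W₁).inv ≫ cl h := by
    rw [Iso.eq_inv_comp, ← Category.assoc, ← cl_eIso, Category.assoc, Iso.hom_inv_id,
      Category.comp_id]
  rw [← Category.assoc, h1, Category.assoc, cl_tl]

/-- the comparison morphism -/
noncomputable def θ : D.obj.left ⟶ pullback p (yS D) :=
  (coverV D hcov).glueMorphismsOfLocallyDirected (fun W => θW D W)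
    (fun {W₁ W₂} f => θW_compat D (show W₁ ≤ W₂ from leOfHom f))

theorem ι_θ (W : J D) : W.1.ι ≫ θ D hcov = θW D W :=
  (coverV D hcov).map_glueMorphismsOfLocallyDirected (fun W => θW D W)
    (fun {W₁ W₂} f => θW_compat D (show W₁ ≤ W₂ from leOfHom f)) W

theorem el_θ (W : J D) : el D W ≫ θ D hcov = tl D W := by
  rw [← eIso_hom_ι, Category.assoc, ι_θ, θW, Iso.hom_inv_id_assoc]

theorem el_θ_apply (W : J D) (z : ↥(VW D W)) : θ D hcov (el D W z) = tl D W z := by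
  rw [← Scheme.Hom.comp_apply, el_θ]

theorem θ_fst : θ D hcov ≫ pullback.fst p (yS D) = D.obj.hom := by
  apply (coverV D hcov).hom_ext
  intro W
  show W.1.ι ≫ θ D hcov ≫ pullback.fst p (yS D) = W.1.ι ≫ D.obj.hom
  rw [← Category.assoc, ι_θ, θW, Category.assoc, tl_fst, ← el_hom, ← Category.assoc, eIso_inv_el]

theorem θ_snd_apply (W : J D) (z : ↥(VW D W)) :
    pullback.snd p (yS D) (tl D W z) = ιY D W (pr D W z) := by
  rw [← Scheme.Hom.comp_apply, tl_snd, Scheme.Hom.comp_apply]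

theorem θ_injective : Function.Injective (θ D hcov) := by
  intro v₁ v₂ hθ
  obtain ⟨W₁, hv₁⟩ := hcov v₁
  obtain ⟨W₂, hv₂⟩ := hcov v₂
  obtain ⟨z₁, rfl⟩ := exists_el_eq D W₁ v₁ hv₁
  obtain ⟨z₂, rfl⟩ := exists_el_eq D W₂ v₂ hv₂
  rw [el_θ_apply, el_θ_apply] at hθ
  have h1 : ιY D W₁ (pr D W₁ z₁) = ιY D W₂ (pr D W₂ z₂) := by
    rw [← θ_snd_apply, ← θ_snd_apply, hθ]
  obtain ⟨k, fi, fj, x, hx1, hx2⟩ := (Scheme.IsLocallyDirected.ι_eq_ι_iff (F D)).mp h1
  have hk1 : k ≤ W₁ := leOfHom fi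
  have hk2 : k ≤ W₂ := leOfHom fj
  change (gmap hk1).left x = pr D W₁ z₁ at hx1
  change (gmap hk2).left x = pr D W₂ z₂ at hx2
  obtain ⟨y₁, rfl⟩ : z₁ ∈ Set.range (cl hk1) := by
    rw [range_cl]; exact ⟨x, hx1⟩
  obtain ⟨y₂, rfl⟩ : z₂ ∈ Set.range (cl hk2) := by
    rw [range_cl]; exact ⟨x, hx2⟩
  have e1 : tl D W₁ (cl hk1 y₁) = tl D k y₁ := by rw [← Scheme.Hom.comp_apply, cl_tl]
  have e2 : tl D W₂ (cl hk2 y₂) = tl D k y₂ := by rw [← Scheme.Hom.comp_apply, cl_tl]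
  rw [e1, e2] at hθ
  have hy : y₁ = y₂ := (tl D k).isOpenEmbedding.injective hθ
  rw [cl_el_apply, cl_el_apply, hy]

theorem θ_surjective : Function.Surjective (θ D hcov) := by
  intro z
  obtain ⟨W, u, hu⟩ := Scheme.IsLocallyDirected.ι_jointly_surjective (F D) (pullback.snd p (yS D) z)
  have hz : z ∈ Set.range (tl D W) := by
    rw [range_tl]; exact ⟨u, hu⟩
  obtain ⟨z', rfl⟩ := hz
  exact ⟨el D W z', el_θ_apply D hcov W z'⟩

instance isOpenImmersion_θ : IsOpenImmersion (θ D hcov) := by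
  apply isOpenImmersion_of_local _ (θ_injective D hcov)
  intro v
  obtain ⟨W, hv⟩ := hcov v
  refine ⟨W.1.toScheme, W.1.ι, inferInstance, ?_, ?_⟩
  · rw [ι_θ, θW]; infer_instance
  · rw [Scheme.Opens.range_ι]; exact hv

instance isIso_θ : IsIso (θ D hcov) :=
  (isIso_iff_isOpenImmersion_and_surjective _).mpr ⟨inferInstance, ⟨θ_surjective D hcov⟩⟩

theorem θ_comm ⦃T : Scheme.{u}⦄ (x₀ x₁ : T ⟶ X) (h : x₀ ≫ p = x₁ ≫ p) (v : T ⟶ D.obj.left)
    (hv : v ≫ D.obj.hom = x₀)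
    (hvθ : (v ≫ θ D hcov) ≫ ((Desc.toDD p).obj (YS D)).obj.hom = x₀) :
    tr ((Desc.toDD p).obj (YS D)) x₀ x₁ h (v ≫ θ D hcov) hvθ = tr D x₀ x₁ h v hv ≫ θ D hcov := by
  apply ((coverV D hcov).pullback₁ v).hom_ext
  intro (W : J D)
  show pullback.fst v W.1.ι ≫ tr ((Desc.toDD p).obj (YS D)) x₀ x₁ h (v ≫ θ D hcov) hvθ =
    pullback.fst v W.1.ι ≫ tr D x₀ x₁ h v hv ≫ θ D hcov
  have hab : pullback.fst v W.1.ι ≫ v = pullback.snd v W.1.ι ≫ W.1.ι := pullback.condition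
  let v' : pullback v W.1.ι ⟶ VW D W := pullback.snd v W.1.ι ≫ (eIso D W).inv
  have hv'el : v' ≫ el D W = pullback.fst v W.1.ι ≫ v := by
    rw [Category.assoc, eIso_inv_el, hab]
  have hv'x : v' ≫ ((Desc.toDD p).obj (UW D W)).obj.hom = pullback.fst v W.1.ι ≫ x₀ := by
    show v' ≫ pullback.fst p (UW D W).hom = _
    rw [← el_hom, ← Category.assoc, hv'el, Category.assoc, hv]
  have hx : (pullback.fst v W.1.ι ≫ x₀) ≫ p = (pullback.fst v W.1.ι ≫ x₁) ≫ p := by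
    rw [Category.assoc, Category.assoc, h]
  have hvθ1 : (pullback.fst v W.1.ι ≫ v ≫ θ D hcov) ≫ ((Desc.toDD p).obj (YS D)).obj.hom =
      pullback.fst v W.1.ι ≫ x₀ := by rw [Category.assoc, hvθ]
  have hav : (pullback.fst v W.1.ι ≫ v) ≫ D.obj.hom = pullback.fst v W.1.ι ≫ x₀ := by
    rw [Category.assoc, hv]
  have e : pullback.fst v W.1.ι ≫ v ≫ θ D hcov = v' ≫ ((Desc.toDD p).map (ιO D W)).hom.left := by
    rw [← Category.assoc, ← hv'el, Category.assoc, el_θ]; rfl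
  have hv'tl : (v' ≫ ((Desc.toDD p).map (ιO D W)).hom.left) ≫
      ((Desc.toDD p).obj (YS D)).obj.hom = pullback.fst v W.1.ι ≫ x₀ :=
    (congrArg (· ≫ ((Desc.toDD p).obj (YS D)).obj.hom) e.symm).trans hvθ1
  have hv'el' : (v' ≫ (eW D W).hom.left) ≫ D.obj.hom = pullback.fst v W.1.ι ≫ x₀ := by
    show (v' ≫ el D W) ≫ D.obj.hom = _
    rw [hv'el, hav]
  have L1 : pullback.fst v W.1.ι ≫ tr ((Desc.toDD p).obj (YS D)) x₀ x₁ h (v ≫ θ D hcov) hvθ =
      tr ((Desc.toDD p).obj (YS D)) (pullback.fst v W.1.ι ≫ x₀) (pullback.fst v W.1.ι ≫ x₁) hx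
        (pullback.fst v W.1.ι ≫ v ≫ θ D hcov) hvθ1 :=
    comp_tr ((Desc.toDD p).obj (YS D)) (pullback.fst v W.1.ι) x₀ x₁ h (v ≫ θ D hcov) hvθ
  have L1b : tr ((Desc.toDD p).obj (YS D)) (pullback.fst v W.1.ι ≫ x₀) (pullback.fst v W.1.ι ≫ x₁)
      hx (pullback.fst v W.1.ι ≫ v ≫ θ D hcov) hvθ1 =
      tr ((Desc.toDD p).obj (YS D)) (pullback.fst v W.1.ι ≫ x₀) (pullback.fst v W.1.ι ≫ x₁) hx
        (v' ≫ ((Desc.toDD p).map (ιO D W)).hom.left) hv'tl :=
    tr_congr _ rfl rfl e _ _ _ _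
  have L2 : tr ((Desc.toDD p).obj (YS D)) (pullback.fst v W.1.ι ≫ x₀) (pullback.fst v W.1.ι ≫ x₁)
      hx (v' ≫ ((Desc.toDD p).map (ιO D W)).hom.left) hv'tl =
      tr ((Desc.toDD p).obj (UW D W)) (pullback.fst v W.1.ι ≫ x₀) (pullback.fst v W.1.ι ≫ x₁) hx
        v' hv'x ≫ ((Desc.toDD p).map (ιO D W)).hom.left :=
    tr_map ((Desc.toDD p).map (ιO D W)) _ _ hx v' hv'x
  have R2 : tr D (pullback.fst v W.1.ι ≫ x₀) (pullback.fst v W.1.ι ≫ x₁) hx
      (v' ≫ (eW D W).hom.left) hv'el' =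
      tr ((Desc.toDD p).obj (UW D W)) (pullback.fst v W.1.ι ≫ x₀) (pullback.fst v W.1.ι ≫ x₁) hx
        v' hv'x ≫ (eW D W).hom.left :=
    tr_map (eW D W) _ _ hx v' hv'x
  have R1b : tr D (pullback.fst v W.1.ι ≫ x₀) (pullback.fst v W.1.ι ≫ x₁) hx
      (pullback.fst v W.1.ι ≫ v) hav =
      tr D (pullback.fst v W.1.ι ≫ x₀) (pullback.fst v W.1.ι ≫ x₁) hx
        (v' ≫ (eW D W).hom.left) hv'el' :=
    tr_congr D rfl rfl hv'el.symm _ _ _ _
  have R1 : pullback.fst v W.1.ι ≫ tr D x₀ x₁ h v hv =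
      tr D (pullback.fst v W.1.ι ≫ x₀) (pullback.fst v W.1.ι ≫ x₁) hx
        (pullback.fst v W.1.ι ≫ v) hav :=
    comp_tr D (pullback.fst v W.1.ι) x₀ x₁ h v hv
  have hθW : (eW D W).hom.left ≫ θ D hcov = ((Desc.toDD p).map (ιO D W)).hom.left := el_θ D hcov W
  rw [L1, L1b, L2, ← Category.assoc, R1, R1b, R2, Category.assoc, hθW]
  rfl

/-- the comparison morphism of descent data -/
noncomputable def θDD : D ⟶ (Desc.toDD p).obj (YS D) :=
  mkHom (Over.homMk (θ D hcov) (θ_fst D hcov)) (fun T x₀ x₁ h v hv =>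
    θ_comm D hcov x₀ x₁ h v hv _)

include hcov in
/-- a descent datum whose effective opens cover the total space is effective -/
theorem effective_of_cover : ∃ U : Over S, Nonempty ((Desc.toDD p).obj U ≅ D) := by
  haveI : IsIso (θDD D hcov).hom.left := isIso_θ D hcov
  haveI := isIso_of_isIso_left (θDD D hcov)
  exact ⟨YS D, ⟨(asIso (θDD D hcov)).symm⟩⟩

/-- a descent datum covered by open sub-descent data which are effective is effective -/
theorem effective_of_locally_effective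
    (h : ∀ v : D.obj.left, ∃ (D' : Desc.SchDD p) (j : D' ⟶ D), IsOpenImmersion j.hom.left ∧
      v ∈ Set.range j.hom.left ∧ ∃ U' : Over S, Nonempty ((Desc.toDD p).obj U' ≅ D')) :
    ∃ U : Over S, Nonempty ((Desc.toDD p).obj U ≅ D) := by
  apply effective_of_cover D
  intro v
  obtain ⟨D', j, hj, ⟨y, hy⟩, U', ⟨i⟩⟩ := h v
  haveI := hj
  haveI : IsIso i.hom.hom.left :=
    ⟨i.inv.hom.left,
      congrArg (fun m : (Desc.toDD p).obj U' ⟶ (Desc.toDD p).obj U' => m.hom.left) i.hom_inv_id,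
      congrArg (fun m : D' ⟶ D' => m.hom.left) i.inv_hom_id⟩
  let e : (Desc.toDD p).obj U' ⟶ D := i.hom ≫ j
  haveI he : IsOpenImmersion e.hom.left := by
    show IsOpenImmersion (i.hom.hom.left ≫ j.hom.left)
    infer_instance
  refine ⟨⟨e.hom.left.opensRange, U', e, he, rfl⟩, ?_⟩
  refine ⟨i.inv.hom.left y, ?_⟩
  show (i.hom.hom.left ≫ j.hom.left) (i.inv.hom.left y) = v
  rw [Scheme.Hom.comp_apply, ← Scheme.Hom.comp_apply i.inv.hom.left i.hom.hom.left]
  have h1 : i.inv.hom.left ≫ i.hom.hom.left = 𝟙 _ :=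
    congrArg (fun m : D' ⟶ D' => m.hom.left) i.inv_hom_id
  rw [h1]
  exact hy

end Groth.Agent.Helper8.DGlue
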