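import Mathlib
import Groth.Prelude.Def_Desc
import Groth.Agent.Helper8.DDGrpd
import Groth.Agent.Helper8.DGlueA
import Groth.Agent.Helper8.DGlueC
import Groth.Agent.Helper8.DescAlgA

/-!
# Affine flat descent of schemes

A descent datum relative to `p : X ⟶ S` whose total space `V` is affine and lies over an affine open
`X₁ = p⁻¹(S₁)` of `X`, with `S₁` an affine open of `S` and `X₁ ⟶ S₁` flat, is effective: the ring of
invariants of the coaction `Γ(V) ⟶ Γ(X₁) ⊗_{Γ(S₁)} Γ(V)` descends `V`.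
-/

set_option autoImplicit false
universe u

namespace Groth.Agent.Helper8.DescAff

open CategoryTheory CategoryTheory.Limits AlgebraicGeometry TensorProduct
open Groth.Agent.Helper8.DDGrpd Groth.Agent.Helper8.DGlue

section Points

variable (V : Scheme.{u}) [IsAffine V] {T' T'' : CommRingCat.{u}}

/-- the point of an affine scheme given by a ring map -/
noncomputable def ptOf (a : Γ(V, ⊤) ⟶ T') : Spec T' ⟶ V := Spec.map a ≫ V.isoSpec.inv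

/-- the ring map of a point of an affine scheme -/
noncomputable def ringOf (v : Spec T' ⟶ V) : Γ(V, ⊤) ⟶ T' := Spec.preimage (v ≫ V.isoSpec.hom)

lemma ptOf_ringOf (v : Spec T' ⟶ V) : ptOf V (ringOf V v) = v := by
  unfold ptOf ringOf
  rw [Spec.map_preimage, Category.assoc, Iso.hom_inv_id, Category.comp_id]

lemma ringOf_ptOf (a : Γ(V, ⊤) ⟶ T') : ringOf V (ptOf V a) = a := by
  unfold ptOf ringOf
  rw [Category.assoc, Iso.inv_hom_id, Category.comp_id, Spec.preimage_map]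

lemma ptOf_injective : Function.Injective (ptOf V (T' := T')) := fun a b h => by
  rw [← ringOf_ptOf V a, ← ringOf_ptOf V b, h]

lemma comp_ptOf (a : Γ(V, ⊤) ⟶ T') (g : T' ⟶ T'') : Spec.map g ≫ ptOf V a = ptOf V (a ≫ g) := by
  unfold ptOf
  rw [Spec.map_comp, Category.assoc]

variable {V} in
lemma ptOf_comp {V' : Scheme.{u}} [IsAffine V'] (f : V ⟶ V') (a : Γ(V, ⊤) ⟶ T') :
    ptOf V a ≫ f = ptOf V' (f.appTop ≫ a) := by
  unfold ptOf
  rw [Category.assoc, ← Scheme.isoSpec_inv_naturality, Spec.map_comp, Category.assoc]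

lemma ptOf_isoSpec (a : Γ(V, ⊤) ⟶ T') {C₀ : CommRingCat.{u}} (i : C₀ ⟶ Γ(V, ⊤)) :
    ptOf V a ≫ V.isoSpec.hom ≫ Spec.map i = Spec.map (i ≫ a) := by
  unfold ptOf
  rw [Category.assoc, Iso.inv_hom_id_assoc, Spec.map_comp]

/-- morphisms of schemes can be compared on ring-valued points -/
lemma hom_ext_spec {T Y : Scheme.{u}} (f₁ f₂ : T ⟶ Y)
    (h : ∀ (R : CommRingCat.{u}) (g : Spec R ⟶ T), g ≫ f₁ = g ≫ f₂) : f₁ = f₂ :=
  T.affineOpenCover.openCover.hom_ext _ _ (fun i => h _ (T.affineOpenCover.f i))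

end Points

section General

variable {X S : Scheme.{u}} {p : X ⟶ S}

lemma tr_toDD_snd {U : Over S} {T : Scheme.{u}} (x₀ x₁ : T ⟶ X) (h : x₀ ≫ p = x₁ ≫ p)
    (w : T ⟶ pullback p U.hom) (hw : w ≫ pullback.fst p U.hom = x₀) :
    tr ((Desc.toDD p).obj U) x₀ x₁ h w hw ≫ pullback.snd p U.hom = w ≫ pullback.snd p U.hom := by
  show pullback.lift _ _ _ ≫ _ = _
  rw [pullback.lift_snd]

lemma tr_toDD_fst {U : Over S} {T : Scheme.{u}} (x₀ x₁ : T ⟶ X) (h : x₀ ≫ p = x₁ ≫ p)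
    (w : T ⟶ pullback p U.hom) (hw : w ≫ pullback.fst p U.hom = x₀) :
    tr ((Desc.toDD p).obj U) x₀ x₁ h w hw ≫ pullback.fst p U.hom = x₁ :=
  tr_hom ((Desc.toDD p).obj U) x₀ x₁ h w hw

/-- a descent datum whose total space is the base change of `U`, with projection to `U` invariant under
the transports, is the canonical descent datum of `U` -/
theorem iso_of_isPullback (D : Desc.SchDD p) (U : Over S) (q : D.obj.left ⟶ U.left)
    (hpb : IsPullback D.obj.hom q p U.hom)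
    (hinv : ∀ ⦃T : Scheme.{u}⦄ (x₀ x₁ : T ⟶ X) (h : x₀ ≫ p = x₁ ≫ p) (v : T ⟶ D.obj.left)
      (hv : v ≫ D.obj.hom = x₀), tr D x₀ x₁ h v hv ≫ q = v ≫ q) :
    Nonempty ((Desc.toDD p).obj U ≅ D) := by
  let θ : D.obj.left ⟶ pullback p U.hom := pullback.lift D.obj.hom q hpb.w
  have hθ1 : θ ≫ pullback.fst p U.hom = D.obj.hom := pullback.lift_fst _ _ _
  have hθ2 : θ ≫ pullback.snd p U.hom = q := pullback.lift_snd _ _ _
  haveI : IsIso θ := by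
    have : θ = hpb.isoPullback.hom := by
      apply pullback.hom_ext
      · rw [hθ1, IsPullback.isoPullback_hom_fst]
      · rw [hθ2, IsPullback.isoPullback_hom_snd]
    rw [this]; infer_instance
  let c : D.obj ⟶ ((Desc.toDD p).obj U).obj := Over.homMk θ hθ1
  have hc : c.left = θ := rfl
  let θDD : D ⟶ (Desc.toDD p).obj U := mkHom c (by
    intro T x₀ x₁ h v hv
    have hvθ : (v ≫ θ) ≫ pullback.fst p U.hom = x₀ := by rw [Category.assoc, hθ1, hv]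
    show tr ((Desc.toDD p).obj U) x₀ x₁ h (v ≫ θ) hvθ = tr D x₀ x₁ h v hv ≫ θ
    have e1 : (tr D x₀ x₁ h v hv ≫ θ) ≫ pullback.fst p U.hom = x₁ := by
      rw [Category.assoc, hθ1, tr_hom]
    have e2 : (tr D x₀ x₁ h v hv ≫ θ) ≫ pullback.snd p U.hom =
        (v ≫ θ) ≫ pullback.snd p U.hom := by
      rw [Category.assoc, Category.assoc, hθ2, hinv]
    apply pullback.hom_ext
    · exact (tr_toDD_fst x₀ x₁ h (v ≫ θ) hvθ).trans e1.symm
    · exact (tr_toDD_snd x₀ x₁ h (v ≫ θ) hvθ).trans e2.symm)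
  haveI : IsIso θDD.hom.left := (inferInstance : IsIso θ)
  haveI := isIso_of_isIso_left θDD
  exact ⟨(asIso θDD).symm⟩

end General

section Phi

variable {X S : Scheme.{u}} {p : X ⟶ S} (D : Desc.SchDD p) [IsAffine D.obj.left]
  {X₁ S₁ : Scheme.{u}} [IsAffine X₁] [IsAffine S₁] {ι : X₁ ⟶ X} {p₁ : X₁ ⟶ S₁} {ιS : S₁ ⟶ S}
  (hsq : ι ≫ p = p₁ ≫ ιS) {h₁ : D.obj.left ⟶ X₁} (hh : h₁ ≫ ι = D.obj.hom)
  {T' T'' : CommRingCat.{u}}

omit [IsAffine X₁] in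
include hsq hh in
lemma pt_V (a : Γ(D.obj.left, ⊤) ⟶ T') :
    (ptOf D.obj.left a ≫ D.obj.hom) ≫ p = ptOf S₁ (p₁.appTop ≫ h₁.appTop ≫ a) ≫ ιS := by
  rw [← hh, Category.assoc, Category.assoc, hsq, ← Category.assoc h₁,
    ← Category.assoc (ptOf D.obj.left a), ptOf_comp (h₁ ≫ p₁), Scheme.Hom.comp_appTop,
    Category.assoc]

include hsq in
lemma pt_X (b : Γ(X₁, ⊤) ⟶ T') :
    (ptOf X₁ b ≫ ι) ≫ p = ptOf S₁ (p₁.appTop ≫ b) ≫ ιS := by
  rw [Category.assoc, hsq, ← Category.assoc, ptOf_comp p₁]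

include hsq hh in
lemma cond_pt (a : Γ(D.obj.left, ⊤) ⟶ T') (b : Γ(X₁, ⊤) ⟶ T')
    (hab : p₁.appTop ≫ h₁.appTop ≫ a = p₁.appTop ≫ b) :
    (ptOf D.obj.left a ≫ D.obj.hom) ≫ p = (ptOf X₁ b ≫ ι) ≫ p := by
  rw [pt_V D hsq hh, pt_X hsq, hab]

include hsq hh in
lemma cond_of_pt [Mono ιS] (a : Γ(D.obj.left, ⊤) ⟶ T') (b : Γ(X₁, ⊤) ⟶ T')
    (h : (ptOf D.obj.left a ≫ D.obj.hom) ≫ p = (ptOf X₁ b ≫ ι) ≫ p) :
    p₁.appTop ≫ h₁.appTop ≫ a = p₁.appTop ≫ b := by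
  rw [pt_V D hsq hh, pt_X hsq, cancel_mono] at h
  exact ptOf_injective S₁ h

include hsq in
lemma cond_pt' (b c : Γ(X₁, ⊤) ⟶ T') (hbc : p₁.appTop ≫ b = p₁.appTop ≫ c) :
    (ptOf X₁ b ≫ ι) ≫ p = (ptOf X₁ c ≫ ι) ≫ p := by
  rw [pt_X hsq, pt_X hsq, hbc]

/-- the transport on ring-valued points -/
noncomputable def Φ (a : Γ(D.obj.left, ⊤) ⟶ T') (b : Γ(X₁, ⊤) ⟶ T')
    (hab : p₁.appTop ≫ h₁.appTop ≫ a = p₁.appTop ≫ b) : Γ(D.obj.left, ⊤) ⟶ T' :=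
  ringOf D.obj.left (tr D (ptOf D.obj.left a ≫ D.obj.hom) (ptOf X₁ b ≫ ι) (cond_pt D hsq hh a b hab)
    (ptOf D.obj.left a) rfl)

lemma ptOf_Φ (a : Γ(D.obj.left, ⊤) ⟶ T') (b : Γ(X₁, ⊤) ⟶ T')
    (hab : p₁.appTop ≫ h₁.appTop ≫ a = p₁.appTop ≫ b) :
    ptOf D.obj.left (Φ D hsq hh a b hab) =
      tr D (ptOf D.obj.left a ≫ D.obj.hom) (ptOf X₁ b ≫ ι) (cond_pt D hsq hh a b hab)
        (ptOf D.obj.left a) rfl :=
  ptOf_ringOf _ _

lemma Φ_congr {a a' : Γ(D.obj.left, ⊤) ⟶ T'} {b b' : Γ(X₁, ⊤) ⟶ T'} (ea : a = a') (eb : b = b')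
    (hab : p₁.appTop ≫ h₁.appTop ≫ a = p₁.appTop ≫ b)
    (hab' : p₁.appTop ≫ h₁.appTop ≫ a' = p₁.appTop ≫ b') :
    Φ D hsq hh a b hab = Φ D hsq hh a' b' hab' := by
  subst ea eb; rfl

lemma Φ_B [Mono ι] (a : Γ(D.obj.left, ⊤) ⟶ T') (b : Γ(X₁, ⊤) ⟶ T')
    (hab : p₁.appTop ≫ h₁.appTop ≫ a = p₁.appTop ≫ b) :
    h₁.appTop ≫ Φ D hsq hh a b hab = b := by
  apply ptOf_injective X₁
  rw [← ptOf_comp, ← cancel_mono ι, Category.assoc, hh, ptOf_Φ, tr_hom]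

omit [IsAffine D.obj.left] [IsAffine X₁] [IsAffine S₁] in
lemma hab_comp {a : Γ(D.obj.left, ⊤) ⟶ T'} {b : Γ(X₁, ⊤) ⟶ T'}
    (hab : p₁.appTop ≫ h₁.appTop ≫ a = p₁.appTop ≫ b) (g : T' ⟶ T'') :
    p₁.appTop ≫ h₁.appTop ≫ a ≫ g = p₁.appTop ≫ b ≫ g := by
  simpa only [Category.assoc] using congrArg (fun m => m ≫ g) hab

lemma Φ_nat (a : Γ(D.obj.left, ⊤) ⟶ T') (b : Γ(X₁, ⊤) ⟶ T')
    (hab : p₁.appTop ≫ h₁.appTop ≫ a = p₁.appTop ≫ b) (g : T' ⟶ T'') :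
    Φ D hsq hh a b hab ≫ g = Φ D hsq hh (a ≫ g) (b ≫ g) (hab_comp D hab g) := by
  apply ptOf_injective D.obj.left
  rw [← comp_ptOf, ptOf_Φ, ptOf_Φ, comp_tr]
  exact tr_congr D (by rw [← Category.assoc, comp_ptOf]) (by rw [← Category.assoc, comp_ptOf])
    (comp_ptOf _ _ _) _ _ _ _

lemma Φ_self (a : Γ(D.obj.left, ⊤) ⟶ T') : Φ D hsq hh a (h₁.appTop ≫ a) rfl = a := by
  apply ptOf_injective D.obj.left
  rw [ptOf_Φ]
  have e : ptOf X₁ (h₁.appTop ≫ a) ≫ ι = ptOf D.obj.left a ≫ D.obj.hom := by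
    rw [← ptOf_comp, Category.assoc, hh]
  exact (tr_congr D rfl e rfl _ _ rfl rfl).trans (tr_self D _ _ rfl)

lemma Φ_Φ [Mono ι] (a : Γ(D.obj.left, ⊤) ⟶ T') (b : Γ(X₁, ⊤) ⟶ T')
    (hab : p₁.appTop ≫ h₁.appTop ≫ a = p₁.appTop ≫ b) (c : Γ(X₁, ⊤) ⟶ T')
    (hbc : p₁.appTop ≫ b = p₁.appTop ≫ c) :
    Φ D hsq hh (Φ D hsq hh a b hab) c (by rw [Φ_B]; exact hbc) =
      Φ D hsq hh a c (hab.trans hbc) := by
  apply ptOf_injective D.obj.left
  refine (ptOf_Φ D hsq hh _ _ _).trans ?_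
  refine Eq.trans ?_ (ptOf_Φ D hsq hh _ _ _).symm
  have e0 : ptOf D.obj.left (Φ D hsq hh a b hab) ≫ D.obj.hom = ptOf X₁ b ≫ ι := by
    rw [ptOf_Φ, tr_hom]
  exact (tr_congr D e0 rfl (ptOf_Φ D hsq hh a b hab) _ _ (cond_pt' hsq b c hbc)
    (tr_hom D _ _ _ _ _)).trans
    (tr_tr D _ _ _ (cond_pt D hsq hh a b hab) (cond_pt' hsq b c hbc) (ptOf D.obj.left a) rfl)

end Phi

section Invariants

variable {X S : Scheme.{u}} {p : X ⟶ S} (D : Desc.SchDD p) [IsAffine D.obj.left]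
  {X₁ S₁ : Scheme.{u}} [IsAffine X₁] [IsAffine S₁] {ι : X₁ ⟶ X} {p₁ : X₁ ⟶ S₁} {ιS : S₁ ⟶ S}
  (hsq : ι ≫ p = p₁ ≫ ιS) {h₁ : D.obj.left ⟶ X₁} (hh : h₁ ≫ ι = D.obj.hom)

/-- the ring of invariants of the descent datum: it descends `Γ(V)`, and is invariant under the
transports -/
theorem exists_invariants [Mono ι] [Flat p₁] :
    ∃ (C₀ : CommRingCat.{u}) (a₀ : Γ(S₁, ⊤) ⟶ C₀) (i₀ : C₀ ⟶ Γ(D.obj.left, ⊤)),
      IsPushout p₁.appTop a₀ h₁.appTop i₀ ∧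
      ∀ (T' : CommRingCat.{u}) (a : Γ(D.obj.left, ⊤) ⟶ T') (b : Γ(X₁, ⊤) ⟶ T')
        (hab : p₁.appTop ≫ h₁.appTop ≫ a = p₁.appTop ≫ b),
        i₀ ≫ Φ D hsq hh a b hab = i₀ ≫ a := by
  let RA : CommRingCat.{u} := Γ(S₁, ⊤)
  let RB : CommRingCat.{u} := Γ(X₁, ⊤)
  let RC : CommRingCat.{u} := Γ(D.obj.left, ⊤)
  let pA : RA ⟶ RB := p₁.appTop
  let hB : RB ⟶ RC := h₁.appTop
  letI algAB : Algebra RA RB := pA.hom.toAlgebra
  letI algBC : Algebra RB RC := hB.hom.toAlgebra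
  letI algAC : Algebra RA RC := (pA ≫ hB).hom.toAlgebra
  haveI : IsScalarTower RA RB RC := IsScalarTower.of_algebraMap_eq' rfl
  haveI : Module.Flat RA RB := by
    have := (HasRingHomProperty.iff_of_isAffine (P := @Flat) (f := p₁)).mp inferInstance
    exact this
  let T₂ : CommRingCat.{u} := CommRingCat.of (RB ⊗[RA] RC)
  let incL : RB ⟶ T₂ := CommRingCat.ofHom Algebra.TensorProduct.includeLeftRingHom
  let incR : RC ⟶ T₂ := CommRingCat.ofHom Algebra.TensorProduct.includeRight.toRingHom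
  have hPO : IsPushout pA (pA ≫ hB) incL incR := CommRingCat.isPushout_tensorProduct RA RB RC
  have hab₀ : pA ≫ hB ≫ incR = pA ≫ incL := by rw [← Category.assoc]; exact hPO.w.symm
  let ρ₀ : RC ⟶ T₂ := Φ D hsq hh incR incL hab₀
  have hρB : hB ≫ ρ₀ = incL := Φ_B D hsq hh incR incL hab₀
  let ρ : RC →ₐ[RA] RB ⊗[RA] RC :=
    { toRingHom := ρ₀.hom
      commutes' := fun r => by
        have := congrArg (fun m => m.hom (pA.hom r)) hρB
        exact this }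
  have h1 : ∀ b : RB, ρ (algebraMap RB RC b) = b ⊗ₜ 1 := fun b =>
    congrArg (fun m => m.hom b) hρB
  -- the counit
  let μ₀ : T₂ ⟶ RC := CommRingCat.ofHom (DescAlg.mu RA RB RC).toRingHom
  have hμR : incR ≫ μ₀ = 𝟙 RC := by
    ext c
    show DescAlg.mu RA RB RC ((1 : RB) ⊗ₜ[RA] c) = c
    rw [DescAlg.mu_tmul, map_one, one_mul]
  have hμL : incL ≫ μ₀ = hB := by
    ext b
    show DescAlg.mu RA RB RC (b ⊗ₜ[RA] (1 : RC)) = hB.hom b
    rw [DescAlg.mu_tmul, mul_one]; rfl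
  have h2 : ∀ c : RC, DescAlg.mu RA RB RC (ρ c) = c := by
    have e : ρ₀ ≫ μ₀ = 𝟙 RC :=
      (Φ_nat D hsq hh incR incL hab₀ μ₀).trans
        ((Φ_congr D hsq hh hμR (hμL.trans (Category.comp_id hB).symm) _ rfl).trans
          (Φ_self D hsq hh (𝟙 RC)))
    intro c
    exact congrArg (fun m => m.hom c) e
  -- the coassociativity
  let T₃ : CommRingCat.{u} := CommRingCat.of (RB ⊗[RA] (RB ⊗[RA] RC))
  let g₁ : T₂ ⟶ T₃ :=
    CommRingCat.ofHom (Algebra.TensorProduct.map (AlgHom.id RA RB) ρ).toRingHom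
  let g₂ : T₂ ⟶ T₃ := CommRingCat.ofHom (Algebra.TensorProduct.map (AlgHom.id RA RB)
    (Algebra.TensorProduct.includeRight : RC →ₐ[RA] RB ⊗[RA] RC)).toRingHom
  let k : T₂ ⟶ T₃ := CommRingCat.ofHom
    (Algebra.TensorProduct.includeRight : (RB ⊗[RA] RC) →ₐ[RA] RB ⊗[RA] (RB ⊗[RA] RC)).toRingHom
  have hR1 : incR ≫ g₁ = ρ₀ ≫ k := by
    ext c
    show Algebra.TensorProduct.map (AlgHom.id RA RB) ρ ((1 : RB) ⊗ₜ[RA] c) =
      (1 : RB) ⊗ₜ[RA] (ρ c)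
    rw [Algebra.TensorProduct.map_tmul]; rfl
  have hL1 : incL ≫ g₁ = incL ≫ g₂ := by
    ext b
    show Algebra.TensorProduct.map (AlgHom.id RA RB) ρ (b ⊗ₜ[RA] (1 : RC)) =
      Algebra.TensorProduct.map (AlgHom.id RA RB)
        (Algebra.TensorProduct.includeRight : RC →ₐ[RA] RB ⊗[RA] RC) (b ⊗ₜ[RA] (1 : RC))
    rw [Algebra.TensorProduct.map_tmul, Algebra.TensorProduct.map_tmul, map_one, map_one]
  have hR2 : incR ≫ g₂ = incR ≫ k := by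
    ext c
    show Algebra.TensorProduct.map (AlgHom.id RA RB)
        (Algebra.TensorProduct.includeRight : RC →ₐ[RA] RB ⊗[RA] RC) ((1 : RB) ⊗ₜ[RA] c) =
      (1 : RB) ⊗ₜ[RA] ((1 : RB) ⊗ₜ[RA] c)
    rw [Algebra.TensorProduct.map_tmul]; rfl
  have hbc : pA ≫ incL ≫ k = pA ≫ incL ≫ g₂ := by
    ext r
    show (Algebra.TensorProduct.includeRight :
        (RB ⊗[RA] RC) →ₐ[RA] RB ⊗[RA] (RB ⊗[RA] RC)) (algebraMap RA (RB ⊗[RA] RC) r) =
      (Algebra.TensorProduct.map (AlgHom.id RA RB)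
        (Algebra.TensorProduct.includeRight : RC →ₐ[RA] RB ⊗[RA] RC))
        (algebraMap RA (RB ⊗[RA] RC) r)
    rw [AlgHom.commutes, AlgHom.commutes]
  have h3' : ρ₀ ≫ g₁ = ρ₀ ≫ g₂ :=
    (Φ_nat D hsq hh incR incL hab₀ g₁).trans
      ((Φ_congr D hsq hh (hR1.trans (Φ_nat D hsq hh incR incL hab₀ k)) hL1 _ _).trans
        ((Φ_Φ D hsq hh (incR ≫ k) (incL ≫ k) (hab_comp D hab₀ k) (incL ≫ g₂) hbc).trans
          ((Φ_congr D hsq hh hR2.symm rfl _ _).trans (Φ_nat D hsq hh incR incL hab₀ g₂).symm)))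
  have h3 : ∀ c : RC, Algebra.TensorProduct.map (AlgHom.id RA RB) ρ (ρ c) =
      Algebra.TensorProduct.map (AlgHom.id RA RB) Algebra.TensorProduct.includeRight (ρ c) :=
    fun c => congrArg (fun m => m.hom c) h3'
  have hpo := DescAlg.isPushout ρ h1 h2 h3
  let C₀ : CommRingCat.{u} := CommRingCat.of (DescAlg.inv ρ)
  let a₀ : RA ⟶ C₀ := CommRingCat.ofHom (algebraMap RA (DescAlg.inv ρ))
  let i₀ : C₀ ⟶ RC := CommRingCat.ofHom (DescAlg.inv ρ).val.toRingHom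
  refine ⟨C₀, a₀, i₀, hpo, ?_⟩
  intro T' a b hab
  have hi : i₀ ≫ ρ₀ = i₀ ≫ incR := by
    ext c
    exact (AlgHom.mem_equalizer _ _ _).mp c.2
  let d : T₂ ⟶ T' := hPO.desc b a (by rw [Category.assoc]; exact hab.symm)
  have hd1 : incL ≫ d = b := hPO.inl_desc _ _ _
  have hd2 : incR ≫ d = a := hPO.inr_desc _ _ _
  have e2 : Φ D hsq hh a b hab = ρ₀ ≫ d :=
    ((Φ_nat D hsq hh incR incL hab₀ d).trans (Φ_congr D hsq hh hd2 hd1 _ _)).symm
  rw [e2, ← Category.assoc, hi, Category.assoc, hd2]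

end Invariants

section Main

variable {X S : Scheme.{u}} {p : X ⟶ S} (D : Desc.SchDD p) [IsAffine D.obj.left]
  {X₁ S₁ : Scheme.{u}} [IsAffine X₁] [IsAffine S₁] {ι : X₁ ⟶ X} {p₁ : X₁ ⟶ S₁} {ιS : S₁ ⟶ S}

/-- **Affine flat descent** (relative form): a descent datum with affine total space lying over an affine
`X₁ = X ×_S S₁`, `S₁` affine with `S₁ ⟶ S` a monomorphism and `X₁ ⟶ S₁` flat, is effective. -/
theorem rel_affine_effective (hX : IsPullback ι p₁ p ιS) [Mono ιS] [Mono ι] [Flat p₁]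
    (h₁ : D.obj.left ⟶ X₁) (hh : h₁ ≫ ι = D.obj.hom) :
    ∃ U : Over S, Nonempty ((Desc.toDD p).obj U ≅ D) := by
  have hsq : ι ≫ p = p₁ ≫ ιS := hX.w
  obtain ⟨C₀, a₀, i₀, hpo, hinv⟩ := exists_invariants D hsq hh
  let U : Over S := Over.mk ((Spec.map a₀ ≫ S₁.isoSpec.inv) ≫ ιS)
  let q : D.obj.left ⟶ U.left := D.obj.left.isoSpec.hom ≫ Spec.map i₀
  have hpb0 : IsPullback (Spec.map h₁.appTop) (Spec.map i₀) (Spec.map p₁.appTop) (Spec.map a₀) :=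
    isPullback_SpecMap_of_isPushout _ _ _ _ hpo
  have hpb1 : IsPullback h₁ q p₁ (Spec.map a₀ ≫ S₁.isoSpec.inv) :=
    hpb0.of_iso D.obj.left.isoSpec.symm X₁.isoSpec.symm (Iso.refl _) S₁.isoSpec.symm
      (Scheme.isoSpec_inv_naturality h₁)
      (by rw [Iso.refl_hom, Category.comp_id, Iso.symm_hom, Iso.inv_hom_id_assoc])
      (Scheme.isoSpec_inv_naturality p₁)
      (by rw [Iso.refl_hom, Category.id_comp, Iso.symm_hom])
  have hpb : IsPullback D.obj.hom q p U.hom := by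
    have := hpb1.paste_horiz hX
    rw [hh] at this
    exact this
  refine ⟨U, iso_of_isPullback D U q hpb ?_⟩
  intro T x₀ x₁ h v hv
  apply hom_ext_spec
  intro R g
  rw [← Category.assoc, ← Category.assoc, comp_tr]
  -- reduce to ring-valued points
  subst hv
  have h' : v ≫ D.obj.hom ≫ p = x₁ ≫ p := by rw [← Category.assoc]; exact h
  have hx₁ : (g ≫ x₁) ≫ p = ((g ≫ v) ≫ h₁ ≫ p₁) ≫ ιS := by
    rw [Category.assoc, ← h', ← hh]; simp only [Category.assoc]; rw [hsq]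
  let x₁' : Spec R ⟶ X₁ := hX.lift (g ≫ x₁) ((g ≫ v) ≫ h₁ ≫ p₁) hx₁
  have hx₁' : x₁' ≫ ι = g ≫ x₁ := hX.lift_fst _ _ _
  have hab : p₁.appTop ≫ h₁.appTop ≫ ringOf D.obj.left (g ≫ v) = p₁.appTop ≫ ringOf X₁ x₁' := by
    apply cond_of_pt D hsq hh
    rw [ptOf_ringOf, ptOf_ringOf, hx₁']
    simp only [Category.assoc]
    rw [h']
  have e1 : ∀ hc hv', tr D (g ≫ v ≫ D.obj.hom) (g ≫ x₁) hc (g ≫ v) hv' =
      ptOf D.obj.left (Φ D hsq hh (ringOf D.obj.left (g ≫ v)) (ringOf X₁ x₁') hab) := by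
    intro hc hv'
    rw [ptOf_Φ]
    exact tr_congr D (by rw [ptOf_ringOf, Category.assoc]) (by rw [ptOf_ringOf, hx₁'])
      (ptOf_ringOf _ _).symm _ _ _ _
  have hq : q = D.obj.left.isoSpec.hom ≫ Spec.map i₀ := rfl
  rw [e1, hq]
  simp only [Category.assoc]
  rw [ptOf_isoSpec, hinv, ← ptOf_isoSpec, ptOf_ringOf, Category.assoc]

/-- **Affine flat descent**: a descent datum with affine total space relative to a flat morphism of
affine schemes is effective. -/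
theorem affine_effective [IsAffine X] [IsAffine S] [Flat p] :
    ∃ U : Over S, Nonempty ((Desc.toDD p).obj U ≅ D) :=
  rel_affine_effective D (ι := 𝟙 X) (p₁ := p) (ιS := 𝟙 S)
    (IsPullback.of_horiz_isIso ⟨by simp⟩) D.obj.hom (Category.comp_id _)

end Main

end Groth.Agent.Helper8.DescAff
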