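import Mathlib
import Groth.Agent.Helper8.DescAffA

/-!
# Sub-descent data, and effectivity of descent data for universally injective fpqc morphisms

* `subDD D j hl`: the sub-descent datum of `D` on a monomorphism `j : W ⟶ V` preserved by the transports,
  with its inclusion `subι`.
* `effective_of_universallyInjective`: descent data relative to a flat, surjective, quasi-compact and
  universally injective morphism are effective.
-/

set_option autoImplicit false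
universe u

namespace Groth.Agent.Helper8.DescAff

open CategoryTheory CategoryTheory.Limits AlgebraicGeometry
open Groth.Agent.Helper8.DDGrpd Groth.Agent.Helper8.DGlue

section Sub

variable {X S : Scheme.{u}} {p : X ⟶ S} (D : Desc.SchDD p) {W : Scheme.{u}} (j : W ⟶ D.obj.left)
  [Mono j]
  (hl : ∀ ⦃T : Scheme.{u}⦄ (x₀ x₁ : T ⟶ X) (h : x₀ ≫ p = x₁ ≫ p) (v : T ⟶ W)
    (hv : (v ≫ j) ≫ D.obj.hom = x₀), ∃ w : T ⟶ W, w ≫ j = tr D x₀ x₁ h (v ≫ j) hv)

/-- the restricted transport -/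
noncomputable def trS {T : Scheme.{u}} (x₀ x₁ : T ⟶ X) (h : x₀ ≫ p = x₁ ≫ p) (v : T ⟶ W)
    (hv : (v ≫ j) ≫ D.obj.hom = x₀) : T ⟶ W := (hl x₀ x₁ h v hv).choose

omit [Mono j] in
lemma trS_j {T : Scheme.{u}} (x₀ x₁ : T ⟶ X) (h : x₀ ≫ p = x₁ ≫ p) (v : T ⟶ W)
    (hv : (v ≫ j) ≫ D.obj.hom = x₀) :
    trS D j hl x₀ x₁ h v hv ≫ j = tr D x₀ x₁ h (v ≫ j) hv :=
  (hl x₀ x₁ h v hv).choose_spec

omit [Mono j] in
lemma trS_hom {T : Scheme.{u}} (x₀ x₁ : T ⟶ X) (h : x₀ ≫ p = x₁ ≫ p) (v : T ⟶ W)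
    (hv : (v ≫ j) ≫ D.obj.hom = x₀) :
    (trS D j hl x₀ x₁ h v hv ≫ j) ≫ D.obj.hom = x₁ := by
  rw [trS_j, tr_hom]

omit [Mono j] in
lemma trS_congr {T : Scheme.{u}} {x₀ x₀' x₁ x₁' : T ⟶ X} {v v' : T ⟶ W}
    (e₀ : x₀ = x₀') (e₁ : x₁ = x₁') (ev : v = v') (h : x₀ ≫ p = x₁ ≫ p)
    (hv : (v ≫ j) ≫ D.obj.hom = x₀) (h' : x₀' ≫ p = x₁' ≫ p)
    (hv' : (v' ≫ j) ≫ D.obj.hom = x₀') :
    trS D j hl x₀ x₁ h v hv = trS D j hl x₀' x₁' h' v' hv' := by
  subst e₀ e₁ ev; rfl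

lemma trS_trS {T : Scheme.{u}} (x₀ x₁ x₂ : T ⟶ X) (h₀₁ : x₀ ≫ p = x₁ ≫ p)
    (h₁₂ : x₁ ≫ p = x₂ ≫ p) (v : T ⟶ W) (hv : (v ≫ j) ≫ D.obj.hom = x₀) :
    trS D j hl x₁ x₂ h₁₂ (trS D j hl x₀ x₁ h₀₁ v hv) (trS_hom D j hl x₀ x₁ h₀₁ v hv) =
      trS D j hl x₀ x₂ (h₀₁.trans h₁₂) v hv := by
  rw [← cancel_mono j]
  refine (trS_j D j hl _ _ _ _ _).trans ?_
  refine Eq.trans ?_ (trS_j D j hl _ _ _ _ _).symm
  exact (tr_congr D rfl rfl (trS_j D j hl x₀ x₁ h₀₁ v hv) _ _ _ (tr_hom D _ _ _ _ _)).trans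
    (tr_tr D x₀ x₁ x₂ h₀₁ h₁₂ (v ≫ j) hv)

lemma trS_self {T : Scheme.{u}} (x : T ⟶ X) (v : T ⟶ W) (hv : (v ≫ j) ≫ D.obj.hom = x) :
    trS D j hl x x rfl v hv = v := by
  rw [← cancel_mono j, trS_j]
  exact tr_self D x (v ≫ j) hv

lemma comp_trS {T T' : Scheme.{u}} (g : T' ⟶ T) (x₀ x₁ : T ⟶ X) (h : x₀ ≫ p = x₁ ≫ p) (v : T ⟶ W)
    (hv : (v ≫ j) ≫ D.obj.hom = x₀) :
    g ≫ trS D j hl x₀ x₁ h v hv =
      trS D j hl (g ≫ x₀) (g ≫ x₁) (by rw [Category.assoc, Category.assoc, h]) (g ≫ v)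
        (by rw [Category.assoc, Category.assoc, ← Category.assoc v, hv]) := by
  rw [← cancel_mono j, Category.assoc, trS_j, trS_j, comp_tr]
  exact tr_congr D rfl rfl (Category.assoc _ _ _).symm _ _ _ _

/-- the sub-descent datum on a monomorphism preserved by the transports -/
noncomputable def subDD : Desc.SchDD p where
  obj := Over.mk (j ≫ D.obj.hom)
  φ T x₀ x₁ h :=
    { toFun := fun v => ⟨trS D j hl x₀ x₁ h v.1 ((Category.assoc _ _ _).trans v.2),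
        (Category.assoc _ _ _).symm.trans (trS_hom D j hl x₀ x₁ h v.1 _)⟩
      invFun := fun v => ⟨trS D j hl x₁ x₀ h.symm v.1 ((Category.assoc _ _ _).trans v.2),
        (Category.assoc _ _ _).symm.trans (trS_hom D j hl x₁ x₀ h.symm v.1 _)⟩
      left_inv := fun v => Subtype.ext
        ((trS_trS D j hl x₀ x₁ x₀ h h.symm v.1 ((Category.assoc _ _ _).trans v.2)).trans
          (trS_self D j hl x₀ v.1 _))
      right_inv := fun v => Subtype.ext
        ((trS_trS D j hl x₁ x₀ x₁ h.symm h v.1 ((Category.assoc _ _ _).trans v.2)).trans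
          (trS_self D j hl x₁ v.1 _)) }
  φ_natural T T' g x₀ x₁ h h' v v' hv' := by
    show trS D j hl (g ≫ x₀) (g ≫ x₁) h' v'.1 _ = g ≫ trS D j hl x₀ x₁ h v.1 _
    rw [comp_trS]
    exact trS_congr D j hl rfl rfl hv' _ _ _ _
  φ_self T x v := Subtype.ext (trS_self D j hl x v.1 _)
  φ_comp T x₀ x₁ x₂ h₀₁ h₁₂ v := Subtype.ext (trS_trS D j hl x₀ x₁ x₂ h₀₁ h₁₂ v.1 _)

/-- the inclusion of the sub-descent datum -/
noncomputable def subι : subDD D j hl ⟶ D :=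
  mkHom (D := subDD D j hl) (D' := D) (Over.homMk j rfl) (by
    intro T x₀ x₁ h v hv
    exact (trS_j D j hl x₀ x₁ h v ((Category.assoc _ _ _).trans hv)).symm)

lemma subι_left : (subι D j hl).hom.left = j := rfl

end Sub

section Open

variable {X S : Scheme.{u}} {p : X ⟶ S} (D : Desc.SchDD p)

/-- stable opens are preserved by the transports -/
lemma hl_of_isSt {W : D.obj.left.Opens} (hW : IsSt D W) :
    ∀ ⦃T : Scheme.{u}⦄ (x₀ x₁ : T ⟶ X) (h : x₀ ≫ p = x₁ ≫ p) (v : T ⟶ W.toScheme)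
      (hv : (v ≫ W.ι) ≫ D.obj.hom = x₀), ∃ w : T ⟶ W.toScheme,
        w ≫ W.ι = tr D x₀ x₁ h (v ≫ W.ι) hv := by
  intro T x₀ x₁ h v hv
  have hr : Set.range (tr D x₀ x₁ h (v ≫ W.ι) hv) ⊆ Set.range W.ι := by
    rintro _ ⟨t, rfl⟩
    rw [Scheme.Opens.range_ι]
    apply (tr_mem hW x₀ x₁ h (v ≫ W.ι) hv t).mpr
    rw [Scheme.Hom.comp_apply]
    exact (v t).2
  exact ⟨IsOpenImmersion.lift W.ι _ hr, IsOpenImmersion.lift_fac _ _ _⟩

/-- for a universally injective `p`, source and target of the groupoid of a descent datum agree on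
points -/
lemma tR_eq_sR [UniversallyInjective p] (r : R D) : tR D r = sR D r := by
  haveI : UniversallyInjective (sR D) :=
    MorphismProperty.pullback_fst (P := @UniversallyInjective) _ _ inferInstance
  have hinj : Function.Injective (sR D) := (sR D).injective
  have e : r = eR D (sR D r) := by
    apply hinj
    rw [← Scheme.Hom.comp_apply, eR_s]
    rfl
  calc tR D r = tR D (eR D (sR D r)) := congrArg _ e
    _ = (eR D ≫ tR D) (sR D r) := (Scheme.Hom.comp_apply _ _ _).symm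
    _ = sR D r := by rw [eR_t]; rfl

lemma isSt_of_universallyInjective [UniversallyInjective p] (W : D.obj.left.Opens) : IsSt D W :=
  fun r => by rw [tR_eq_sR D r]

end Open

section Main

/-- descent data relative to a flat, surjective, quasi-compact, universally injective morphism are
effective -/
theorem effective_of_universallyInjective {S' S : Scheme.{u}} (g : S' ⟶ S) [Flat g] [Surjective g]
    [QuasiCompact g] [UniversallyInjective g] (D : Desc.SchDD g) :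
    ∃ U : Over S, Nonempty ((Desc.toDD g).obj U ≅ D) := by
  apply effective_of_locally_effective D
  intro v
  have hq : Topology.IsQuotientMap g := Flat.isQuotientMap_of_surjective _
  have hinj : Function.Injective g := g.injective
  -- choose opens
  obtain ⟨_, ⟨(S₁ : S.Opens), hS₁, rfl⟩, hsS₁, -⟩ :=
    S.isBasis_affineOpens.exists_subset_of_mem_open (Set.mem_univ (g (D.obj.hom v))) isOpen_univ
  replace hS₁ : IsAffineOpen S₁ := hS₁
  obtain ⟨_, ⟨(X₁ : S'.Opens), hX₁, rfl⟩, hsX₁, hX₁S₁⟩ :=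
    S'.isBasis_affineOpens.exists_subset_of_mem_open
      (show D.obj.hom v ∈ (g ⁻¹ᵁ S₁ : Set S') from hsS₁) (g ⁻¹ᵁ S₁).isOpen
  replace hX₁ : IsAffineOpen X₁ := hX₁
  have hX₁le : X₁ ≤ g ⁻¹ᵁ S₁ := hX₁S₁
  -- the image of `X₁` is open
  have hO : IsOpen (g '' (X₁ : Set S')) := by
    rw [← hq.isOpen_preimage, Set.preimage_image_eq _ hinj]
    exact X₁.isOpen
  let O : S.Opens := ⟨_, hO⟩
  have hsO : g (D.obj.hom v) ∈ O := ⟨D.obj.hom v, hsX₁, rfl⟩
  obtain ⟨f, hfO, hsf⟩ := hS₁.exists_basicOpen_le (V := O) ⟨g (D.obj.hom v), hsO⟩ hsS₁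
  have hS₃ : IsAffineOpen (S.basicOpen f) := hS₁.basicOpen f
  have hX₃le : g ⁻¹ᵁ (S.basicOpen f) ≤ X₁ := by
    intro x hx
    obtain ⟨x', hx', hxx'⟩ := hfO hx
    have : x' = x := hinj hxx'
    rw [← this]
    exact hx'
  have hX₃ : IsAffineOpen (g ⁻¹ᵁ (S.basicOpen f)) := by
    have e : g ⁻¹ᵁ (S.basicOpen f) =
        S'.basicOpen (S'.presheaf.map (homOfLE hX₁le).op (g.app S₁ f)) := by
      rw [Scheme.basicOpen_res, ← Scheme.preimage_basicOpen]
      exact (inf_eq_right.mpr hX₃le).symm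
    rw [e]
    exact hX₁.basicOpen _
  -- an affine neighbourhood of `v`
  obtain ⟨_, ⟨(W : D.obj.left.Opens), hW, rfl⟩, hvW, hWX₃⟩ :=
    D.obj.left.isBasis_affineOpens.exists_subset_of_mem_open
      (show v ∈ (D.obj.hom ⁻¹ᵁ (g ⁻¹ᵁ (S.basicOpen f)) : Set _) from hsf)
      (D.obj.hom ⁻¹ᵁ (g ⁻¹ᵁ (S.basicOpen f))).isOpen
  replace hW : IsAffineOpen W := hW
  have hlW := hl_of_isSt D (isSt_of_universallyInjective D W)
  refine ⟨subDD D W.ι hlW, subι D W.ι hlW, (inferInstance : IsOpenImmersion W.ι),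
    ⟨⟨v, hvW⟩, rfl⟩, ?_⟩
  haveI : IsAffine (subDD D W.ι hlW).obj.left := hW
  haveI : IsAffine (g ⁻¹ᵁ (S.basicOpen f)).toScheme := hX₃
  haveI : IsAffine (S.basicOpen f).toScheme := hS₃
  have hr : Set.range (W.ι ≫ D.obj.hom) ⊆ Set.range (g ⁻¹ᵁ (S.basicOpen f)).ι := by
    rintro _ ⟨w, rfl⟩
    rw [Scheme.Opens.range_ι]
    rw [Scheme.Hom.comp_apply]
    exact hWX₃ w.2
  let h₁ : (subDD D W.ι hlW).obj.left ⟶ (g ⁻¹ᵁ (S.basicOpen f)).toScheme :=
    IsOpenImmersion.lift (g ⁻¹ᵁ (S.basicOpen f)).ι (W.ι ≫ D.obj.hom) hr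
  exact rel_affine_effective (subDD D W.ι hlW) (isPullback_morphismRestrict g (S.basicOpen f)).flip
    h₁ (IsOpenImmersion.lift_fac _ _ _)

end Main

end Groth.Agent.Helper8.DescAff
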