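import Groth.Agent.Helper8.DescA

set_option autoImplicit false
set_option backward.isDefEq.respectTransparency false
set_option backward.isDefEq.respectTransparency.types false

universe w' w u
open CategoryTheory CategoryTheory.Limits AlgebraicGeometry Opposite

namespace Groth.Agent.Helper8.DescB
open Desc Groth.Agent.Helper8.DescA

variable {S : Scheme.{u}} {ι : Type w} {V : ι → Scheme.{u}} {fV : ∀ j, V j ⟶ S}
  {ι' : Type w'} {U : ι' → Scheme.{u}} {fU : ∀ i, U i ⟶ S}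

/-- every point of every `V j` lifts, locally for the fpqc topology, to the family `U` over `S` -/
def HasLocalLifts (fU : ∀ i, U i ⟶ S) (fV : ∀ j, V j ⟶ S) : Prop :=
  ∀ (j : ι) (T : Scheme.{u}) (y : T ⟶ V j), ∃ R : Sieve T, R ∈ Scheme.fpqcTopology T ∧
    ∀ ⦃T' : Scheme.{u}⦄ (r : T' ⟶ T), R r →
      ∃ (i : ι') (a : T' ⟶ U i), a ≫ fU i = (r ≫ y) ≫ fV j

variable {α : ι' → ι} {g : ∀ i, U i ⟶ V (α i)} (w : ∀ i, g i ≫ fV (α i) = fU i ≫ 𝟙 S)
  {D E : SchDDFam fV}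

theorem exists_glue (H : HasLocalLifts fU fV) (d : (pullDDFam w).obj D ⟶ (pullDDFam w).obj E)
    (j : ι) :
    ∃ c : (D.obj j).left ⟶ (E.obj j).left, c ≫ (E.obj j).hom = (D.obj j).hom ∧
      ∀ ⦃T' : Scheme.{u}⦄ (y' : T' ⟶ V j) (n' : Lifts (D.obj j) y') (i : ι') (a : T' ⟶ U i)
        (ha : a ≫ fU i = y' ≫ fV j), n'.1 ≫ c = (Θ w d y' i a ha n').1 := by
  obtain ⟨R, hR, hl⟩ := H j (D.obj j).left (D.obj j).hom
  choose iR aR haR using hl
  let fam : Presieve.FamilyOfElements (yoneda.obj (E.obj j).left) R.arrows :=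
    fun T' r hr => (Θ w d (r ≫ (D.obj j).hom) (iR r hr) (aR r hr) (haR r hr) ⟨r, rfl⟩).1
  have hcompat : fam.Compatible := by
    rw [Presieve.compatible_iff_sieveCompatible]
    intro T₁ T₂ r s hr
    change (Θ w d ((s ≫ r) ≫ (D.obj j).hom) _ _ _ ⟨s ≫ r, rfl⟩).1 =
      s ≫ (Θ w d (r ≫ (D.obj j).hom) _ _ _ ⟨r, rfl⟩).1
    have e := congrArg Subtype.val (Θ_res w d s (r ≫ (D.obj j).hom) (iR r hr) (aR r hr)
      (haR r hr) ⟨r, rfl⟩ ((s ≫ r) ≫ (D.obj j).hom) (Category.assoc _ _ _).symm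
      (s ≫ aR r hr) rfl (by rw [Category.assoc, haR r hr]; simp))
    rw [res_val] at e
    rw [← e]
    exact Θ_indep' w d rfl _ _ _ _ _ _ _ _ rfl
  obtain ⟨c, hc, -⟩ := (yoneda_isSheafFor (E.obj j).left R hR) fam hcompat
  have hc' : ∀ ⦃T' : Scheme.{u}⦄ (r : T' ⟶ (D.obj j).left) (hr : R r), r ≫ c = fam r hr :=
    fun T' r hr => hc r hr
  have KP : ∀ ⦃T' : Scheme.{u}⦄ (y' : T' ⟶ V j) (n' : Lifts (D.obj j) y') (i : ι')
      (a : T' ⟶ U i) (ha : a ≫ fU i = y' ≫ fV j), n'.1 ≫ c = (Θ w d y' i a ha n').1 := by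
    intro T' y' n' i a ha
    refine hom_ext_of_sieve (R.pullback n'.1) (Scheme.fpqcTopology.pullback_stable n'.1 hR) ?_
    intro T'' s hs
    have e1 : s ≫ n'.1 ≫ c = fam (s ≫ n'.1) hs := by
      rw [← Category.assoc]; exact hc' (s ≫ n'.1) hs
    have e2 := congrArg Subtype.val (Θ_res w d s y' i a ha n' (s ≫ y') rfl (s ≫ a) rfl
      (by rw [Category.assoc, ha, Category.assoc]))
    rw [res_val] at e2
    rw [e1, ← e2]
    exact Θ_indep' w d (by rw [Category.assoc, n'.2]) _ _ _ _ _ _ _ _ rfl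
  refine ⟨c, ?_, KP⟩
  refine hom_ext_of_sieve R hR ?_
  intro T' r hr
  rw [← Category.assoc, hc' r hr]
  exact (Θ w d (r ≫ (D.obj j).hom) _ _ _ ⟨r, rfl⟩).2

theorem full (H : HasLocalLifts fU fV) : (pullDDFam w).Full := by
  refine ⟨fun {D E} d => ?_⟩
  choose c hc1 hc2 using fun j => exists_glue w H d j
  have hcomm : ∀ ⦃T : Scheme.{u}⦄ ⦃j j' : ι⦄ (y₀ : T ⟶ V j) (y₁ : T ⟶ V j')
      (h : y₀ ≫ fV j = y₁ ≫ fV j') (n : Lifts (D.obj j) y₀) (n' : Lifts (E.obj j) y₀),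
      n'.1 = n.1 ≫ c j → (E.φ y₀ y₁ h n').1 = (D.φ y₀ y₁ h n).1 ≫ c j' := by
    intro T j j' y₀ y₁ h n n' hn'
    obtain ⟨R₀, hR₀, hl⟩ := H j T y₀
    refine hom_ext_of_sieve R₀ hR₀ ?_
    intro T' s hs
    obtain ⟨i, a, ha⟩ := hl s hs
    have ha₁ : a ≫ fU i = (s ≫ y₁) ≫ fV j' := by rw [ha, Category.assoc, h, Category.assoc]
    have h' : (s ≫ y₀) ≫ fV j = (s ≫ y₁) ≫ fV j' := by rw [Category.assoc, h, Category.assoc]
    have e1 := congrArg Subtype.val (φ_res E s y₀ y₁ h (s ≫ y₀) (s ≫ y₁) rfl rfl h' n')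
    rw [res_val] at e1
    have e2 : res (E.obj j) s n' (s ≫ y₀) rfl =
        Θ w d (s ≫ y₀) i a ha (res (D.obj j) s n (s ≫ y₀) rfl) := by
      apply Subtype.ext
      rw [← hc2 j (s ≫ y₀) (res (D.obj j) s n (s ≫ y₀) rfl) i a ha, res_val, res_val, hn',
        Category.assoc]
    have e3 := congrArg Subtype.val (φ_res D s y₀ y₁ h (s ≫ y₀) (s ≫ y₁) rfl rfl h' n)
    rw [res_val] at e3
    rw [← e1, e2, Θ_φ w d (s ≫ y₀) (s ≫ y₁) h' i a ha ha₁, ← hc2 j' (s ≫ y₁) _ i a ha₁, e3,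
      Category.assoc]
  let cc : D ⟶ E := ⟨fun j => Over.homMk (c j) (hc1 j), fun T j j' y₀ y₁ h n n' hn' => by
    simpa using hcomm y₀ y₁ h n n' (by simpa using hn')⟩
  refine ⟨cc, ?_⟩
  apply SchDDFam.hom_ext; funext i
  apply Over.OverMorphism.ext
  change pullback.map (D.obj (α i)).hom (g i) (E.obj (α i)).hom (g i) (c (α i)) (𝟙 _) (𝟙 _)
    (by rw [Category.comp_id, hc1]) (by simp) = dl w d i
  apply pullback.hom_ext
  · rw [pullback.lift_fst]
    have key := hc2 (α i) (pullback.snd (D.obj (α i)).hom (g i) ≫ g i)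
      ⟨pullback.fst _ _, pullback.condition⟩ i (pullback.snd _ _)
      (by rw [Category.assoc, w, Category.comp_id])
    rw [Θ_self, act_val] at key
    have e : pullback.lift (pullback.fst (D.obj (α i)).hom (g i)) (pullback.snd _ _)
        pullback.condition = 𝟙 _ := by apply pullback.hom_ext <;> simp
    rw [key, e, Category.id_comp]
  · simp [dl_snd]

theorem faithful (H : HasLocalLifts fU fV) : (pullDDFam w).Faithful := by
  refine ⟨fun {D E} c c' hcc => ?_⟩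
  apply SchDDFam.hom_ext; funext j
  apply Over.OverMorphism.ext
  obtain ⟨R, hR, hl⟩ := H j (D.obj j).left (D.obj j).hom
  refine hom_ext_of_sieve R hR ?_
  intro T' r hr
  obtain ⟨i, a, ha⟩ := hl r hr
  let n : Lifts (D.obj j) (r ≫ (D.obj j).hom) := ⟨r, rfl⟩
  have hh := (hag w ha).symm
  have k1 := c.comm (r ≫ (D.obj j).hom) (a ≫ g i) hh n (SchDDFam.Hom.push c n) rfl
  have k2 := c'.comm (r ≫ (D.obj j).hom) (a ≫ g i) hh n (SchDDFam.Hom.push c' n) rfl
  have k3 : (D.φ (r ≫ (D.obj j).hom) (a ≫ g i) hh n).1 ≫ (c.hom (α i)).left =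
      (D.φ (r ≫ (D.obj j).hom) (a ≫ g i) hh n).1 ≫ (c'.hom (α i)).left := by
    have e : (D.φ (r ≫ (D.obj j).hom) (a ≫ g i) hh n).1 =
        pullback.lift (D.φ (r ≫ (D.obj j).hom) (a ≫ g i) hh n).1 a
          (D.φ (r ≫ (D.obj j).hom) (a ≫ g i) hh n).2 ≫
          pullback.fst (D.obj (α i)).hom (g i) := (pullback.lift_fst _ _ _).symm
    have m1 : pullback.fst (D.obj (α i)).hom (g i) ≫ (c.hom (α i)).left =
        (((pullDDFam w).map c).hom i).left ≫ pullback.fst (E.obj (α i)).hom (g i) :=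
      (pullback.lift_fst _ _ _).symm
    have m2 : pullback.fst (D.obj (α i)).hom (g i) ≫ (c'.hom (α i)).left =
        (((pullDDFam w).map c').hom i).left ≫ pullback.fst (E.obj (α i)).hom (g i) :=
      (pullback.lift_fst _ _ _).symm
    rw [e, Category.assoc, m1, Category.assoc, m2, hcc]
  have k4 : SchDDFam.Hom.push c n = SchDDFam.Hom.push c' n :=
    (E.φ _ _ hh).injective (Subtype.ext (by rw [k1, k2, k3]))
  exact congrArg Subtype.val k4

theorem full_faithful (H : HasLocalLifts fU fV) :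
    (pullDDFam w).Full ∧ (pullDDFam w).Faithful := ⟨full w H, faithful w H⟩

end Groth.Agent.Helper8.DescB
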