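import Mathlib
import Groth.Prelude.Def_DescFam
import Groth.Agent.Helper8.DescAffB
import Groth.Agent.Helper8.DescB
import Groth.Agent.Helper8.DescC

/-!
# Descent of schemes affine over the cover

* `mkDD`: a descent datum from a transport operation.
* `restrBase`: a descent datum relative to `p : X ⟶ S` whose total space lies over `X₁ = X ×_S S₁`
  (`S₁ ⟶ S` a monomorphism) as a descent datum relative to `X₁ ⟶ S₁`; `effective_of_restrBase`.
* `effective_of_affine_base`: descent data with `V ⟶ X` affine, relative to an fpqc morphism with affine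
  target, are effective (refinement to a finite disjoint union of affine opens).
* `effective_of_isAffineHom`: descent data with `V ⟶ X` affine relative to an fpqc morphism are effective.
-/

set_option autoImplicit false
universe u

namespace Groth.Agent.Helper8.DescAff

open CategoryTheory CategoryTheory.Limits AlgebraicGeometry
open Groth.Agent.Helper8.DDGrpd Groth.Agent.Helper8.DGlue

section MkDD

variable {X S : Scheme.{u}} {p : X ⟶ S}

/-- a descent datum from a transport operation -/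
def mkDD (obj : Over X)
    (t : ∀ ⦃T : Scheme.{u}⦄ (x₀ x₁ : T ⟶ X), x₀ ≫ p = x₁ ≫ p → ∀ v : T ⟶ obj.left,
      v ≫ obj.hom = x₀ → (T ⟶ obj.left))
    (t_hom : ∀ ⦃T : Scheme.{u}⦄ (x₀ x₁ : T ⟶ X) (h : x₀ ≫ p = x₁ ≫ p) (v : T ⟶ obj.left)
      (hv : v ≫ obj.hom = x₀), t x₀ x₁ h v hv ≫ obj.hom = x₁)
    (t_nat : ∀ ⦃T T' : Scheme.{u}⦄ (g : T' ⟶ T) (x₀ x₁ : T ⟶ X) (h : x₀ ≫ p = x₁ ≫ p)
      (v : T ⟶ obj.left) (hv : v ≫ obj.hom = x₀) (h' : (g ≫ x₀) ≫ p = (g ≫ x₁) ≫ p)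
      (hv' : (g ≫ v) ≫ obj.hom = g ≫ x₀),
      g ≫ t x₀ x₁ h v hv = t (g ≫ x₀) (g ≫ x₁) h' (g ≫ v) hv')
    (t_self : ∀ ⦃T : Scheme.{u}⦄ (x : T ⟶ X) (v : T ⟶ obj.left) (hv : v ≫ obj.hom = x),
      t x x rfl v hv = v)
    (t_comp : ∀ ⦃T : Scheme.{u}⦄ (x₀ x₁ x₂ : T ⟶ X) (h₀₁ : x₀ ≫ p = x₁ ≫ p)
      (h₁₂ : x₁ ≫ p = x₂ ≫ p) (v : T ⟶ obj.left) (hv : v ≫ obj.hom = x₀),
      t x₁ x₂ h₁₂ (t x₀ x₁ h₀₁ v hv) (t_hom x₀ x₁ h₀₁ v hv) = t x₀ x₂ (h₀₁.trans h₁₂) v hv) :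
    Desc.SchDD p where
  obj := obj
  φ T x₀ x₁ h :=
    { toFun := fun v => ⟨t x₀ x₁ h v.1 v.2, t_hom x₀ x₁ h v.1 v.2⟩
      invFun := fun v => ⟨t x₁ x₀ h.symm v.1 v.2, t_hom x₁ x₀ h.symm v.1 v.2⟩
      left_inv := fun v => Subtype.ext
        ((t_comp x₀ x₁ x₀ h h.symm v.1 v.2).trans (t_self x₀ v.1 v.2))
      right_inv := fun v => Subtype.ext
        ((t_comp x₁ x₀ x₁ h.symm h v.1 v.2).trans (t_self x₁ v.1 v.2)) }
  φ_natural T T' g x₀ x₁ h h' v v' hv' := by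
    obtain ⟨v', hv'2⟩ := v'
    have e : v' = g ≫ v.1 := hv'
    subst e
    exact (t_nat g x₀ x₁ h v.1 v.2 h' hv'2).symm
  φ_self T x v := Subtype.ext (t_self x v.1 v.2)
  φ_comp T x₀ x₁ x₂ h₀₁ h₁₂ v := Subtype.ext (t_comp x₀ x₁ x₂ h₀₁ h₁₂ v.1 v.2)

end MkDD

section Base

variable {X S : Scheme.{u}} {p : X ⟶ S} (D : Desc.SchDD p) {X₁ S₁ : Scheme.{u}} {ι : X₁ ⟶ X}
  {p₁ : X₁ ⟶ S₁} {ιS : S₁ ⟶ S} (hsq : ι ≫ p = p₁ ≫ ιS) [Mono ι] {h₁ : D.obj.left ⟶ X₁}
  (hh : h₁ ≫ ι = D.obj.hom)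

include hsq in
omit [Mono ι] in
lemma base_cond {T : Scheme.{u}} {x₀ x₁ : T ⟶ X₁} (h : x₀ ≫ p₁ = x₁ ≫ p₁) :
    (x₀ ≫ ι) ≫ p = (x₁ ≫ ι) ≫ p := by
  rw [Category.assoc, Category.assoc, hsq, ← Category.assoc, ← Category.assoc, h]

include hh in
omit [Mono ι] in
lemma base_hv {T : Scheme.{u}} {x₀ : T ⟶ X₁} {v : T ⟶ D.obj.left} (hv : v ≫ h₁ = x₀) :
    v ≫ D.obj.hom = x₀ ≫ ι := by
  rw [← hh, ← Category.assoc, hv]

/-- a descent datum relative to `p` with total space over `X₁ = X ×_S S₁`, as a descent datum relative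
to `p₁ : X₁ ⟶ S₁` -/
noncomputable def restrBase : Desc.SchDD p₁ :=
  mkDD (Over.mk h₁)
    (fun T x₀ x₁ h v hv => tr D (x₀ ≫ ι) (x₁ ≫ ι) (base_cond hsq h) v (base_hv D hh hv))
    (fun T x₀ x₁ h v hv => by
      show tr D (x₀ ≫ ι) (x₁ ≫ ι) _ v _ ≫ h₁ = x₁
      rw [← cancel_mono ι, Category.assoc, hh, tr_hom])
    (fun T T' g x₀ x₁ h v hv h' hv' => by
      rw [comp_tr]
      exact tr_congr D (Category.assoc _ _ _).symm (Category.assoc _ _ _).symm rfl _ _ _ _)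
    (fun T x v hv => tr_self D _ _ _)
    (fun T x₀ x₁ x₂ h₀₁ h₁₂ v hv => tr_tr D _ _ _ _ _ _ _)

lemma tr_restrBase {T : Scheme.{u}} (x₀ x₁ : T ⟶ X₁) (h : x₀ ≫ p₁ = x₁ ≫ p₁) (v : T ⟶ D.obj.left)
    (hv : v ≫ h₁ = x₀) :
    tr (restrBase D hsq hh) x₀ x₁ h v hv =
      tr D (x₀ ≫ ι) (x₁ ≫ ι) (base_cond hsq h) v (base_hv D hh hv) := rfl

/-- if the restriction to the base `S₁` is effective, so is the descent datum -/
theorem effective_of_restrBase (hX : IsPullback ι p₁ p ιS) (U₁ : Over S₁)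
    (e : (Desc.toDD p₁).obj U₁ ≅ restrBase D hX.w hh) :
    Nonempty ((Desc.toDD p).obj (Over.mk (U₁.hom ≫ ιS)) ≅ D) := by
  have hsq : ι ≫ p = p₁ ≫ ιS := hX.w
  let el : D.obj.left ⟶ pullback p₁ U₁.hom := e.inv.hom.left
  let el' : pullback p₁ U₁.hom ⟶ D.obj.left := e.hom.hom.left
  have h1 : el ≫ el' = 𝟙 _ :=
    congrArg (fun m : restrBase D hX.w hh ⟶ restrBase D hX.w hh => m.hom.left) e.inv_hom_id
  have h2 : el' ≫ el = 𝟙 _ :=
    congrArg (fun m : (Desc.toDD p₁).obj U₁ ⟶ (Desc.toDD p₁).obj U₁ => m.hom.left) e.hom_inv_id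
  have hw : el ≫ pullback.fst p₁ U₁.hom = h₁ := Over.w e.inv.hom
  let q : D.obj.left ⟶ U₁.left := el ≫ pullback.snd p₁ U₁.hom
  let eiso : pullback p₁ U₁.hom ≅ D.obj.left := ⟨el', el, h2, h1⟩
  have hpb1 : IsPullback h₁ q p₁ U₁.hom :=
    (IsPullback.of_hasPullback p₁ U₁.hom).of_iso eiso (Iso.refl _) (Iso.refl _) (Iso.refl _)
      (by
        show pullback.fst p₁ U₁.hom ≫ 𝟙 _ = el' ≫ h₁
        rw [Category.comp_id, ← hw, ← Category.assoc, h2, Category.id_comp])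
      (by
        show pullback.snd p₁ U₁.hom ≫ 𝟙 _ = el' ≫ el ≫ pullback.snd p₁ U₁.hom
        rw [Category.comp_id, ← Category.assoc, h2, Category.id_comp])
      (by simp)
      (by simp)
  have hpb : IsPullback D.obj.hom q p (U₁.hom ≫ ιS) := by
    have := hpb1.paste_horiz hX
    rw [hh] at this
    exact this
  refine iso_of_isPullback D (Over.mk (U₁.hom ≫ ιS)) q hpb ?_
  intro T x₀ x₁ h v hv
  subst hv
  have hx₁ : x₁ ≫ p = (v ≫ h₁ ≫ p₁) ≫ ιS := by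
    rw [← h, ← hh]; simp only [Category.assoc]; rw [hsq]
  let x₁' : T ⟶ X₁ := hX.lift x₁ (v ≫ h₁ ≫ p₁) hx₁
  have hx₁' : x₁' ≫ ι = x₁ := hX.lift_fst _ _ _
  have hx₁'' : x₁' ≫ p₁ = v ≫ h₁ ≫ p₁ := hX.lift_snd _ _ _
  have hc : (v ≫ h₁) ≫ p₁ = x₁' ≫ p₁ := by rw [hx₁'', Category.assoc]
  -- the transport in `D` is the transport in the restriction
  have e1 : tr D (v ≫ D.obj.hom) x₁ h v rfl = tr (restrBase D hX.w hh) (v ≫ h₁) x₁' hc v rfl := by
    rw [tr_restrBase]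
    exact tr_congr D (by rw [← hh, Category.assoc]) hx₁'.symm rfl _ _ _ _
  -- the isomorphism is compatible with the transports
  have key := tr_map e.inv (v ≫ h₁) x₁' hc v rfl
  have hvel : (v ≫ el) ≫ pullback.fst p₁ U₁.hom = v ≫ h₁ := by rw [Category.assoc, hw]
  have key2 : tr ((Desc.toDD p₁).obj U₁) (v ≫ h₁) x₁' hc (v ≫ el) hvel =
      tr (restrBase D hX.w hh) (v ≫ h₁) x₁' hc v rfl ≫ el := key
  have key3 := tr_toDD_snd (v ≫ h₁) x₁' hc (v ≫ el) hvel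
  have key4 : (tr (restrBase D hX.w hh) (v ≫ h₁) x₁' hc v rfl ≫ el) ≫ pullback.snd p₁ U₁.hom =
      (v ≫ el) ≫ pullback.snd p₁ U₁.hom :=
    (congrArg (fun m => m ≫ pullback.snd p₁ U₁.hom) key2).symm.trans key3
  exact (congrArg (fun m => m ≫ q) e1).trans
    ((Category.assoc _ _ _).symm.trans (key4.trans (Category.assoc _ _ _)))

end Base

section Refine

open Desc

variable {X S : Scheme.{u}} (p : X ⟶ S)

/-- the pullback of a canonical descent datum along a morphism `r : X' ⟶ X` over `S` is canonical -/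
theorem pull_toDD_iso {X' : Scheme.{u}} (r : X' ⟶ X) (p' : X' ⟶ S) (w : r ≫ p = p' ≫ 𝟙 S)
    (U : Over S) :
    Nonempty ((Desc.toDD p').obj U ≅
      (SchDDFam.toSchDD p').obj
        ((pullDDFam (f := fun _ : PUnit.{1} => p) (f' := fun _ : PUnit.{1} => p') (α := fun i => i)
          (p := 𝟙 S) (p' := fun _ => r) (fun _ => w)).obj ((toDDFam (fun _ : PUnit.{1} => p)).obj U))) := by
  let D'' := (SchDDFam.toSchDD p').obj
    ((pullDDFam (f := fun _ : PUnit.{1} => p) (f' := fun _ : PUnit.{1} => p') (α := fun i => i)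
      (p := 𝟙 S) (p' := fun _ => r) (fun _ => w)).obj ((toDDFam (fun _ : PUnit.{1} => p)).obj U))
  let q : pullback (pullback.fst p U.hom) r ⟶ U.left :=
    pullback.fst (pullback.fst p U.hom) r ≫ pullback.snd p U.hom
  have hpb : IsPullback (pullback.snd (pullback.fst p U.hom) r) q p' U.hom := by
    have h1 : IsPullback (pullback.snd (pullback.fst p U.hom) r)
        (pullback.fst (pullback.fst p U.hom) r) r (pullback.fst p U.hom) :=
      (IsPullback.of_hasPullback (pullback.fst p U.hom) r).flip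
    have h2 : IsPullback (pullback.fst p U.hom) (pullback.snd p U.hom) p U.hom :=
      IsPullback.of_hasPullback p U.hom
    have h3 := h1.paste_vert h2
    have e : r ≫ p = p' := by rw [w, Category.comp_id]
    rw [e] at h3
    exact h3
  refine iso_of_isPullback D'' U q hpb ?_
  intro T x₀ x₁ h v hv
  let v' : T ⟶ pullback (pullback.fst p U.hom) r := v
  have e_fst : ∃ m₁ : T ⟶ pullback p U.hom,
      tr D'' x₀ x₁ h v hv ≫ pullback.fst (pullback.fst p U.hom) r = m₁ ∧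
      m₁ ≫ pullback.snd p U.hom =
        (v' ≫ pullback.fst (pullback.fst p U.hom) r) ≫ pullback.snd p U.hom :=
    ⟨_, pullback.lift_fst _ _ _, pullback.lift_snd _ _ _⟩
  obtain ⟨m₁, hm₁, hm₁'⟩ := e_fst
  exact (Category.assoc _ _ _).symm.trans
    ((congrArg (fun m => m ≫ pullback.snd p U.hom) hm₁).trans
      (hm₁'.trans (Category.assoc _ _ _)))

variable [Surjective p] [Flat p] [QuasiCompact p]

/-- descent data with `V ⟶ X` affine relative to an fpqc morphism with affine target are effective -/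
theorem effective_of_affine_base [IsAffine S] (D : Desc.SchDD p) [IsAffineHom D.obj.hom] :
    ∃ U : Over S, Nonempty ((Desc.toDD p).obj U ≅ D) := by
  -- a finite affine open cover of `X`
  haveI : CompactSpace X := QuasiCompact.compactSpace_of_compactSpace p
  obtain ⟨s, hfin, hs⟩ := (isCompact_iff_finite_and_eq_biUnion_affineOpens (X := X) (U := ⊤)).mp
    (by simpa using isCompact_univ)
  haveI : Finite s := hfin.to_subtype
  haveI : ∀ W : s, IsAffine ((W.1.1 : X.Opens) : Scheme.{u}) := fun W => W.1.2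
  let X' : Scheme.{u} := ∐ (fun W : s => ((W.1.1 : X.Opens) : Scheme.{u}))
  let r : X' ⟶ X := Sigma.desc (fun W : s => (W.1.1 : X.Opens).ι)
  haveI : IsAffine X' := inferInstance
  haveI : Flat r := IsZariskiLocalAtSource.sigmaDesc (fun W => inferInstance)
  haveI : Surjective r := by
    refine ⟨fun x => ?_⟩
    have hx : x ∈ (⊤ : X.Opens) := trivial
    rw [hs] at hx
    simp only [TopologicalSpace.Opens.mem_iSup] at hx
    obtain ⟨W, hW, hxW⟩ := hx
    refine ⟨Sigma.ι (fun W : s => ((W.1.1 : X.Opens) : Scheme.{u})) ⟨W, hW⟩ ⟨x, hxW⟩, ?_⟩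
    rw [← Scheme.Hom.comp_apply, Sigma.ι_desc]
    rfl
  let p' : X' ⟶ S := r ≫ p
  haveI : Flat p' := inferInstance
  haveI : Surjective p' := inferInstance
  haveI : QuasiCompact p' := inferInstance
  have w : r ≫ p = p' ≫ 𝟙 S := (Category.comp_id _).symm
  -- the pullback functor is fully faithful
  let F := pullDDFam (f := fun _ : PUnit.{1} => p) (f' := fun _ : PUnit.{1} => p') (α := fun i => i)
    (p := 𝟙 S) (p' := fun _ => r) (fun _ => w)
  have hF : F.Full ∧ F.Faithful := by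
    refine Groth.Agent.Helper8.DescB.full_faithful _
      (Groth.Agent.Helper8.DescC.hasLocalLifts_of_cover ?_)
    rw [Presieve.ofArrows_pUnit]
    exact Scheme.Hom.singleton_mem_fpqcPrecoverage p'
  haveI := hF.1
  haveI := hF.2
  -- the pulled back descent datum has affine total space
  let D' : Desc.SchDD p' := (SchDDFam.toSchDD p').obj (F.obj ((SchDDFam.ofSchDD p).obj D))
  haveI : IsAffine D'.obj.left := inferInstanceAs (IsAffine (pullback D.obj.hom r))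
  obtain ⟨U, ⟨e'⟩⟩ := affine_effective D'
  obtain ⟨κ⟩ := pull_toDD_iso p r p' w U
  let i' : D' ≅ (SchDDFam.toSchDD p').obj (F.obj ((toDDFam (fun _ : PUnit.{1} => p)).obj U)) :=
    e'.symm ≪≫ κ
  let i'' : F.obj ((SchDDFam.ofSchDD p).obj D) ≅ F.obj ((toDDFam (fun _ : PUnit.{1} => p)).obj U) :=
    (SchDDFam.ofSchDD p').mapIso i'
  let j := F.preimageIso i''
  exact ⟨U, ⟨(SchDDFam.toSchDD p).mapIso j.symm⟩⟩

/-- **fpqc descent for schemes affine over the cover** -/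
theorem effective_of_isAffineHom (D : Desc.SchDD p) [IsAffineHom D.obj.hom] :
    ∃ U : Over S, Nonempty ((Desc.toDD p).obj U ≅ D) := by
  apply effective_of_locally_effective D
  intro v
  obtain ⟨_, ⟨(S₁ : S.Opens), hS₁, rfl⟩, hsS₁, -⟩ :=
    S.isBasis_affineOpens.exists_subset_of_mem_open (Set.mem_univ (p (D.obj.hom v))) isOpen_univ
  replace hS₁ : IsAffineOpen S₁ := hS₁
  -- the preimage of `S₁` in the total space is stable
  have hst : IsSt D (D.obj.hom ⁻¹ᵁ (p ⁻¹ᵁ S₁)) := by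
    intro r
    show p (D.obj.hom (sR D r)) ∈ S₁ ↔ p (D.obj.hom (tR D r)) ∈ S₁
    have e : p (D.obj.hom (sR D r)) = p (D.obj.hom (tR D r)) := by
      have h1 : (sR D ≫ D.obj.hom) ≫ p = (tR D ≫ D.obj.hom) ≫ p := by
        rw [tR_hom]; exact cond D
      have := congrArg (fun m : R D ⟶ S => m r) h1
      simpa [Scheme.Hom.comp_apply] using this
    rw [e]
  have hlW := hl_of_isSt D hst
  let D₁ := subDD D (D.obj.hom ⁻¹ᵁ (p ⁻¹ᵁ S₁)).ι hlW
  refine ⟨D₁, subι D _ hlW, (inferInstance : IsOpenImmersion (D.obj.hom ⁻¹ᵁ (p ⁻¹ᵁ S₁)).ι),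
    ⟨⟨v, hsS₁⟩, rfl⟩, ?_⟩
  have hX : IsPullback (p ⁻¹ᵁ S₁).ι (p ∣_ S₁) p S₁.ι := (isPullback_morphismRestrict p S₁).flip
  have hh : (D.obj.hom ∣_ (p ⁻¹ᵁ S₁)) ≫ (p ⁻¹ᵁ S₁).ι = D₁.obj.hom := morphismRestrict_ι _ _
  let D₂ : Desc.SchDD (p ∣_ S₁) := restrBase D₁ hX.w hh
  haveI : IsAffine (S₁ : Scheme.{u}) := hS₁
  haveI : Surjective (p ∣_ S₁) := IsZariskiLocalAtTarget.restrict (P := @Surjective) inferInstance S₁
  haveI : Flat (p ∣_ S₁) := IsZariskiLocalAtTarget.restrict (P := @Flat) inferInstance S₁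
  haveI : QuasiCompact (p ∣_ S₁) :=
    IsZariskiLocalAtTarget.restrict (P := @QuasiCompact) inferInstance S₁
  haveI : IsAffineHom D₂.obj.hom :=
    IsZariskiLocalAtTarget.restrict (P := @IsAffineHom) (inferInstance : IsAffineHom D.obj.hom)
      (p ⁻¹ᵁ S₁)
  obtain ⟨U₁, ⟨e₁⟩⟩ := effective_of_affine_base (p ∣_ S₁) D₂
  exact ⟨_, effective_of_restrBase D₁ hh hX U₁ e₁⟩

end Refine

end Groth.Agent.Helper8.DescAff
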