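import Mathlib
import Groth.Prelude.Def_Desc
import Groth.Agent.Helper8.DescAffB
import Groth.Agent.Helper8.DescAffC
import Groth.Agent.Helper8.DGlueC

/-!
# Descent data relative to a morphism with (local) sections are effective
-/

set_option autoImplicit false
universe u

namespace Groth.Agent.Helper8.DescSec

open CategoryTheory CategoryTheory.Limits AlgebraicGeometry
open Groth.Agent.Helper8.DDGrpd Groth.Agent.Helper8.DGlue Groth.Agent.Helper8.DescAff

section Section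

variable {X S : Scheme.{u}} {p : X ⟶ S} (D : Desc.SchDD p) (s : S ⟶ X) (hs : s ≫ p = 𝟙 S)

include hs in
lemma cond_s {T : Scheme.{u}} (x : T ⟶ X) : x ≫ p = (x ≫ p ≫ s) ≫ p := by
  rw [Category.assoc, Category.assoc, hs, Category.comp_id]

/-- transport of a point to the point over the section -/
noncomputable def toSec {T : Scheme.{u}} (x : T ⟶ X) (v : T ⟶ D.obj.left)
    (hv : v ≫ D.obj.hom = x) : T ⟶ D.obj.left :=
  tr D x (x ≫ p ≫ s) (cond_s s hs x) v hv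

lemma toSec_hom {T : Scheme.{u}} (x : T ⟶ X) (v : T ⟶ D.obj.left) (hv : v ≫ D.obj.hom = x) :
    toSec D s hs x v hv ≫ D.obj.hom = x ≫ p ≫ s :=
  tr_hom D _ _ _ _ _

/-- the map to the pullback of the total space along the section -/
noncomputable def q : D.obj.left ⟶ pullback D.obj.hom s :=
  pullback.lift (toSec D s hs D.obj.hom (𝟙 _) (Category.id_comp _)) (D.obj.hom ≫ p)
    (by rw [toSec_hom, Category.assoc])

lemma comp_q_fst {T : Scheme.{u}} (x : T ⟶ X) (v : T ⟶ D.obj.left) (hv : v ≫ D.obj.hom = x) :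
    v ≫ q D s hs ≫ pullback.fst D.obj.hom s = toSec D s hs x v hv := by
  unfold q
  rw [pullback.lift_fst]
  unfold toSec
  rw [comp_tr]
  exact tr_congr D hv (by rw [← hv, Category.assoc]) (Category.comp_id v) _ _ _ _

lemma comp_q_snd {T : Scheme.{u}} (x : T ⟶ X) (v : T ⟶ D.obj.left) (hv : v ≫ D.obj.hom = x) :
    v ≫ q D s hs ≫ pullback.snd D.obj.hom s = x ≫ p := by
  unfold q
  rw [pullback.lift_snd, ← Category.assoc, hv]

theorem q_inv ⦃T : Scheme.{u}⦄ (x₀ x₁ : T ⟶ X) (h : x₀ ≫ p = x₁ ≫ p) (v : T ⟶ D.obj.left)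
    (hv : v ≫ D.obj.hom = x₀) : tr D x₀ x₁ h v hv ≫ q D s hs = v ≫ q D s hs := by
  apply pullback.hom_ext
  · rw [Category.assoc, Category.assoc, comp_q_fst D s hs x₁ _ (tr_hom D x₀ x₁ h v hv),
      comp_q_fst D s hs x₀ v hv]
    unfold toSec
    rw [tr_tr]
    exact tr_congr D rfl (by rw [← Category.assoc, ← Category.assoc, h]) rfl _ _ _ _
  · rw [Category.assoc, Category.assoc, comp_q_snd D s hs x₁ _ (tr_hom D x₀ x₁ h v hv),
      comp_q_snd D s hs x₀ v hv, h]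

theorem isPullback_q : IsPullback D.obj.hom (q D s hs) p (pullback.snd D.obj.hom s) := by
  have hw : D.obj.hom ≫ p = q D s hs ≫ pullback.snd D.obj.hom s := by
    have := comp_q_snd D s hs D.obj.hom (𝟙 _) (Category.id_comp _)
    rw [Category.id_comp] at this
    exact this.symm
  have hv' : ∀ c : PullbackCone p (pullback.snd D.obj.hom s),
      (c.snd ≫ pullback.fst D.obj.hom s) ≫ D.obj.hom = c.snd ≫ pullback.snd D.obj.hom s ≫ s := by
    intro c
    rw [Category.assoc, pullback.condition]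
  have h' : ∀ c : PullbackCone p (pullback.snd D.obj.hom s),
      (c.snd ≫ pullback.snd D.obj.hom s ≫ s) ≫ p = c.fst ≫ p := by
    intro c
    rw [Category.assoc, Category.assoc, hs, Category.comp_id, c.condition]
  have hcs : ∀ c : PullbackCone p (pullback.snd D.obj.hom s),
      c.fst ≫ p ≫ s = c.snd ≫ pullback.snd D.obj.hom s ≫ s := by
    intro c
    rw [← Category.assoc, c.condition, Category.assoc]
  refine ⟨⟨hw⟩, ⟨PullbackCone.IsLimit.mk _
    (fun c => tr D (c.snd ≫ pullback.snd D.obj.hom s ≫ s) c.fst (h' c)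
      (c.snd ≫ pullback.fst D.obj.hom s) (hv' c))
    (fun c => tr_hom D _ _ _ _ _) ?_ ?_⟩⟩
  · intro c
    apply pullback.hom_ext
    · rw [Category.assoc, comp_q_fst D s hs c.fst _ (tr_hom D _ _ _ _ _)]
      unfold toSec
      rw [tr_tr]
      rw [tr_congr D rfl (hcs c) rfl _ _ rfl (hv' c)]
      exact tr_self D _ _ _
    · rw [Category.assoc, comp_q_snd D s hs c.fst _ (tr_hom D _ _ _ _ _)]
      exact c.condition
  · intro c m hm1 hm2
    have e1 : c.snd ≫ pullback.fst D.obj.hom s = toSec D s hs c.fst m hm1 := by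
      rw [← hm2, Category.assoc, comp_q_fst D s hs c.fst m hm1]
    have e2 : tr D (c.snd ≫ pullback.snd D.obj.hom s ≫ s) c.fst (h' c)
        (c.snd ≫ pullback.fst D.obj.hom s) (hv' c) =
        tr D (c.fst ≫ p ≫ s) c.fst (cond_s s hs c.fst).symm (toSec D s hs c.fst m hm1)
          (toSec_hom D s hs c.fst m hm1) :=
      tr_congr D (hcs c).symm rfl e1 _ _ _ _
    refine Eq.trans ?_ e2.symm
    unfold toSec
    rw [tr_tr]
    exact (tr_self D _ _ _).symm

include hs in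
/-- descent data relative to a morphism with a section are effective -/
theorem effective_of_section : ∃ U : Over S, Nonempty ((Desc.toDD p).obj U ≅ D) :=
  ⟨Over.mk (pullback.snd D.obj.hom s),
    iso_of_isPullback D (Over.mk (pullback.snd D.obj.hom s)) (q D s hs) (isPullback_q D s hs)
      (q_inv D s hs)⟩

end Section

section Local

variable {X S : Scheme.{u}} {p : X ⟶ S}

lemma isSt_preimage (D : Desc.SchDD p) (W : S.Opens) : IsSt D ((D.obj.hom ≫ p) ⁻¹ᵁ W) := by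
  intro r
  have h1 : tR D ≫ D.obj.hom ≫ p = sR D ≫ D.obj.hom ≫ p := by
    rw [← Category.assoc, tR_hom, ← Category.assoc]
    exact (cond D).symm
  have e : (D.obj.hom ≫ p) (tR D r) = (D.obj.hom ≫ p) (sR D r) := by
    calc (D.obj.hom ≫ p) (tR D r) = (tR D ≫ D.obj.hom ≫ p) r :=
          (Scheme.Hom.comp_apply _ _ _).symm
      _ = (sR D ≫ D.obj.hom ≫ p) r := by rw [h1]
      _ = _ := Scheme.Hom.comp_apply _ _ _
  show (D.obj.hom ≫ p) (sR D r) ∈ W ↔ (D.obj.hom ≫ p) (tR D r) ∈ W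
  rw [e]

/-- descent data relative to a flat surjective quasi-compact morphism with local sections are
effective -/
theorem effective_of_local_section [Surjective p] [Flat p] [QuasiCompact p] (D : Desc.SchDD p)
    (h : ∀ y : S, ∃ (W : S.Opens) (s : W.toScheme ⟶ X), y ∈ W ∧ s ≫ p = W.ι) :
    ∃ U : Over S, Nonempty ((Desc.toDD p).obj U ≅ D) := by
  apply effective_of_locally_effective D
  intro v
  obtain ⟨W, s, hyW, hsW⟩ := h ((D.obj.hom ≫ p) v)
  have hSt : IsSt D ((D.obj.hom ≫ p) ⁻¹ᵁ W) := isSt_preimage D W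
  have hl := hl_of_isSt D hSt
  refine ⟨subDD D ((D.obj.hom ≫ p) ⁻¹ᵁ W).ι hl, subι D ((D.obj.hom ≫ p) ⁻¹ᵁ W).ι hl, ?_, ?_, ?_⟩
  · show IsOpenImmersion ((D.obj.hom ≫ p) ⁻¹ᵁ W).ι
    infer_instance
  · show v ∈ Set.range ((D.obj.hom ≫ p) ⁻¹ᵁ W).ι
    rw [Scheme.Opens.range_ι]
    exact hyW
  · have hX : IsPullback (p ⁻¹ᵁ W).ι (p ∣_ W) p W.ι := (isPullback_morphismRestrict p W).flip
    have hr : Set.range (((D.obj.hom ≫ p) ⁻¹ᵁ W).ι ≫ D.obj.hom) ⊆ Set.range (p ⁻¹ᵁ W).ι := by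
      rintro _ ⟨z, rfl⟩
      rw [Scheme.Opens.range_ι]
      have hz : (D.obj.hom ≫ p) (((D.obj.hom ≫ p) ⁻¹ᵁ W).ι z) ∈ W := z.2
      rw [Scheme.Hom.comp_apply] at hz
      rw [Scheme.Hom.comp_apply]
      exact hz
    obtain ⟨h₁, hh⟩ : ∃ h₁ : (subDD D ((D.obj.hom ≫ p) ⁻¹ᵁ W).ι hl).obj.left ⟶ (p ⁻¹ᵁ W).toScheme,
        h₁ ≫ (p ⁻¹ᵁ W).ι = (subDD D ((D.obj.hom ≫ p) ⁻¹ᵁ W).ι hl).obj.hom :=
      ⟨IsOpenImmersion.lift (p ⁻¹ᵁ W).ι (((D.obj.hom ≫ p) ⁻¹ᵁ W).ι ≫ D.obj.hom) hr,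
        IsOpenImmersion.lift_fac _ _ _⟩
    have hrs : Set.range s ⊆ Set.range (p ⁻¹ᵁ W).ι := by
      rintro _ ⟨w, rfl⟩
      rw [Scheme.Opens.range_ι]
      show p (s w) ∈ W
      rw [← Scheme.Hom.comp_apply, hsW]
      exact w.2
    obtain ⟨s₁, hs₁'⟩ : ∃ s₁ : W.toScheme ⟶ (p ⁻¹ᵁ W).toScheme, s₁ ≫ (p ⁻¹ᵁ W).ι = s :=
      ⟨IsOpenImmersion.lift (p ⁻¹ᵁ W).ι s hrs, IsOpenImmersion.lift_fac _ _ _⟩
    have hs₁ : s₁ ≫ (p ∣_ W) = 𝟙 _ := by
      rw [← cancel_mono W.ι, Category.assoc, ← hX.w, ← Category.assoc, hs₁', hsW,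
        Category.id_comp]
    obtain ⟨U₁, ⟨e⟩⟩ := effective_of_section
      (restrBase (subDD D ((D.obj.hom ≫ p) ⁻¹ᵁ W).ι hl) hX.w hh) s₁ hs₁
    exact ⟨_, effective_of_restrBase (subDD D ((D.obj.hom ≫ p) ⁻¹ᵁ W).ι hl) hh hX U₁ e⟩

end Local

end Groth.Agent.Helper8.DescSec
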