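import Groth.Agent.Helper8.DescB

set_option autoImplicit false
set_option backward.isDefEq.respectTransparency false
set_option backward.isDefEq.respectTransparency.types false

universe w' w u
open CategoryTheory CategoryTheory.Limits AlgebraicGeometry Opposite

namespace Groth.Agent.Helper8.DescD
open Desc Groth.Agent.Helper8.DescA Groth.Agent.Helper8.DescB

lemma lpe_res {Y Y' : Scheme.{u}} (W : Over Y) (q : Y' ⟶ Y) {T T' : Scheme.{u}} (r : T' ⟶ T)
    (x : T ⟶ Y') (x' : T' ⟶ Y') (hx : r ≫ x = x')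
    (n : Lifts (Over.mk (pullback.snd W.hom q)) x) (h1 : r ≫ x ≫ q = x' ≫ q) :
    liftsPullbackEquiv W q x' (res _ r n x' hx) =
      res W r (liftsPullbackEquiv W q x n) (x' ≫ q) h1 := by
  apply Subtype.ext
  simp [liftsPullbackEquiv, res]

variable {S : Scheme.{u}} {ι : Type w} {V : ι → Scheme.{u}} {fV : ∀ j, V j ⟶ S}

/-- an isomorphism of descent data given on points -/
structure PtIso (D D' : SchDDFam fV) where
  β : ∀ ⦃T : Scheme.{u}⦄ ⦃j : ι⦄ (y : T ⟶ V j), Lifts (D.obj j) y ≃ Lifts (D'.obj j) y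
  nat : ∀ ⦃T T' : Scheme.{u}⦄ (r : T' ⟶ T) ⦃j : ι⦄ (y : T ⟶ V j) (y' : T' ⟶ V j)
    (hy : r ≫ y = y') (n : Lifts (D.obj j) y),
    β y' (res _ r n y' hy) = res _ r (β y n) y' hy
  compat : ∀ ⦃T : Scheme.{u}⦄ ⦃j j' : ι⦄ (y₀ : T ⟶ V j) (y₁ : T ⟶ V j')
    (h : y₀ ≫ fV j = y₁ ≫ fV j') (n : Lifts (D.obj j) y₀),
    D'.φ y₀ y₁ h (β y₀ n) = β y₁ (D.φ y₀ y₁ h n)

namespace PtIso

variable {D D' : SchDDFam fV} (P : PtIso D D')

/-- the universal point -/
def univ (D : SchDDFam fV) (j : ι) : Lifts (D.obj j) (D.obj j).hom := ⟨𝟙 _, Category.id_comp _⟩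

lemma res_univ {T : Scheme.{u}} {j : ι} {y : T ⟶ V j} (n : Lifts (D.obj j) y) :
    res (D.obj j) n.1 (univ D j) y n.2 = n := Subtype.ext (Category.comp_id _)

lemma key {T : Scheme.{u}} {j : ι} {y : T ⟶ V j} (n : Lifts (D.obj j) y) :
    n.1 ≫ (P.β (D.obj j).hom (univ D j)).1 = (P.β y n).1 := by
  have := congrArg Subtype.val (P.nat n.1 (D.obj j).hom y n.2 (univ D j))
  rw [res_univ, res_val] at this
  exact this.symm

/-- the morphism of descent data -/
def hom : D ⟶ D' :=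
  ⟨fun j => Over.homMk (P.β (D.obj j).hom (univ D j)).1 (P.β (D.obj j).hom (univ D j)).2,
    fun T j j' y₀ y₁ h n n' hn' => by
      have e : n' = P.β y₀ n := Subtype.ext (by rw [hn']; exact P.key n)
      subst e
      rw [P.compat]
      exact (P.key _).symm⟩

lemma push_hom {T : Scheme.{u}} {j : ι} {y : T ⟶ V j} (n : Lifts (D.obj j) y) :
    SchDDFam.Hom.push P.hom n = P.β y n := Subtype.ext (P.key n)

/-- the inverse point-isomorphism -/
def symm : PtIso D' D where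
  β T j y := (P.β y).symm
  nat T T' r j y y' hy n := by
    apply (P.β y').injective
    rw [Equiv.apply_symm_apply, P.nat, Equiv.apply_symm_apply]
  compat T j j' y₀ y₁ h n := by
    apply (P.β y₁).injective
    rw [Equiv.apply_symm_apply, ← P.compat, Equiv.apply_symm_apply]

lemma hom_symm_hom : P.hom ≫ P.symm.hom = 𝟙 D := by
  apply SchDDFam.hom_ext; funext j
  apply Over.OverMorphism.ext
  change (P.β (D.obj j).hom (univ D j)).1 ≫ (P.symm.β (D'.obj j).hom (univ D' j)).1 = 𝟙 _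
  rw [P.symm.key (P.β (D.obj j).hom (univ D j))]
  change ((P.β (D.obj j).hom).symm (P.β (D.obj j).hom (univ D j))).1 = 𝟙 _
  rw [Equiv.symm_apply_apply]
  rfl

/-- the isomorphism of descent data -/
def iso : D ≅ D' where
  hom := P.hom
  inv := P.symm.hom
  hom_inv_id := P.hom_symm_hom
  inv_hom_id := by
    have := P.symm.hom_symm_hom
    exact this

end PtIso

lemma hom_ext_push {A B : SchDDFam fV} {m₁ m₂ : A ⟶ B}
    (h : ∀ (j : ι), SchDDFam.Hom.push m₁ (PtIso.univ A j) = SchDDFam.Hom.push m₂ (PtIso.univ A j)) :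
    m₁ = m₂ := by
  apply SchDDFam.hom_ext; funext j
  apply Over.OverMorphism.ext
  have := congrArg Subtype.val (h j)
  simpa [SchDDFam.Hom.push, PtIso.univ] using this

lemma push_comp {A B C : SchDDFam fV} (m₁ : A ⟶ B) (m₂ : B ⟶ C) {T : Scheme.{u}} {j : ι}
    {y : T ⟶ V j} (n : Lifts (A.obj j) y) :
    SchDDFam.Hom.push (m₁ ≫ m₂) n = SchDDFam.Hom.push m₂ (SchDDFam.Hom.push m₁ n) :=
  Subtype.ext (by simp [SchDDFam.Hom.push])

lemma push_φ {A B : SchDDFam fV} (c : A ⟶ B) {T : Scheme.{u}} {j j' : ι} (y₀ : T ⟶ V j)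
    (y₁ : T ⟶ V j') (h : y₀ ≫ fV j = y₁ ≫ fV j') (n : Lifts (A.obj j) y₀) :
    B.φ y₀ y₁ h (SchDDFam.Hom.push c n) = SchDDFam.Hom.push c (A.φ y₀ y₁ h n) :=
  Subtype.ext (c.comm y₀ y₁ h n _ rfl)

section pullpush

variable {ι' : Type w'} {U : ι' → Scheme.{u}} {fU : ∀ i, U i ⟶ S} {α : ι' → ι}
  {g : ∀ i, U i ⟶ V (α i)} (w : ∀ i, g i ≫ fV (α i) = fU i ≫ 𝟙 S)

lemma lpe_push_pull {D D' : SchDDFam fV} (c : D ⟶ D') {T : Scheme.{u}} {i : ι'} (x : T ⟶ U i)
    (n : Lifts (((pullDDFam w).obj D).obj i) x) :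
    liftsPullbackEquiv (D'.obj (α i)) (g i) x (SchDDFam.Hom.push ((pullDDFam w).map c) n) =
      SchDDFam.Hom.push c (liftsPullbackEquiv (D.obj (α i)) (g i) x n) := by
  apply Subtype.ext
  simp [liftsPullbackEquiv, SchDDFam.Hom.push, pullDDFam]

end pullpush

section selfmap

variable (p : ∀ j, V j ⟶ V j) (wp : ∀ j, p j ≫ fV j = fV j ≫ 𝟙 S)

include wp in
lemma hself {T : Scheme.{u}} {j : ι} (x : T ⟶ V j) : (x ≫ p j) ≫ fV j = x ≫ fV j := by
  rw [Category.assoc, wp, Category.comp_id]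

/-- pulling back along a self-map of the family (over the base) does nothing, on points -/
noncomputable def selfPt (D : SchDDFam fV) :
    PtIso ((pullDDFam (f' := fV) (α := fun j => j) (p := 𝟙 S) (p' := p) wp).obj D) D where
  β T j x := (liftsPullbackEquiv (D.obj j) (p j) x).trans (D.φ (x ≫ p j) x (hself p wp x))
  nat T T' r j y y' hy n := by
    subst hy
    have h1 : r ≫ y ≫ p j = (r ≫ y) ≫ p j := (Category.assoc _ _ _).symm
    have e1 : liftsPullbackEquiv (D.obj j) (p j) (r ≫ y) (res _ r n (r ≫ y) rfl) =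
        res (D.obj j) r (liftsPullbackEquiv (D.obj j) (p j) y n) ((r ≫ y) ≫ p j) h1 :=
      lpe_res (D.obj j) (p j) r y (r ≫ y) rfl n h1
    exact (congrArg (D.φ ((r ≫ y) ≫ p j) (r ≫ y) (hself p wp (r ≫ y))) e1).trans
      (φ_res D r (y ≫ p j) y (hself p wp y) ((r ≫ y) ≫ p j) (r ≫ y) h1 rfl
        (hself p wp (r ≫ y)) _)
  compat T j j' y₀ y₁ h n := by
    change D.φ y₀ y₁ h (D.φ (y₀ ≫ p j) y₀ _ (liftsPullbackEquiv (D.obj j) (p j) y₀ n)) =
      D.φ (y₁ ≫ p j') y₁ _ (liftsPullbackEquiv (D.obj j') (p j') y₁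
        ((liftsPullbackEquiv (D.obj j') (p j') y₁).symm
          (D.φ (y₀ ≫ p j) (y₁ ≫ p j') _ (liftsPullbackEquiv (D.obj j) (p j) y₀ n))))
    rw [Equiv.apply_symm_apply, D.φ_comp, D.φ_comp]

lemma selfPt_β (D : SchDDFam fV) {T : Scheme.{u}} {j : ι} (x : T ⟶ V j)
    (n : Lifts (((pullDDFam (f' := fV) (α := fun j => j) (p := 𝟙 S) (p' := p) wp).obj D).obj j) x) :
    (selfPt p wp D).β x n =
      D.φ (x ≫ p j) x (hself p wp x) (liftsPullbackEquiv (D.obj j) (p j) x n) := rfl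

/-- the pullback functor along a self-map of the family is isomorphic to the identity -/
noncomputable def selfIso :
    pullDDFam (f' := fV) (α := fun j => j) (p := 𝟙 S) (p' := p) wp ≅ 𝟭 (SchDDFam fV) :=
  NatIso.ofComponents (fun D => (selfPt p wp D).iso) (by
    intro D D' c
    apply hom_ext_push
    intro j
    change SchDDFam.Hom.push ((pullDDFam wp).map c ≫ (selfPt p wp D').hom) _ =
      SchDDFam.Hom.push ((selfPt p wp D).hom ≫ c) _
    rw [push_comp, push_comp, PtIso.push_hom, PtIso.push_hom, selfPt_β, selfPt_β]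
    exact (congrArg (D'.φ _ _ _) (lpe_push_pull wp c _ _)).trans (push_φ c _ _ _ _))

end selfmap

end Groth.Agent.Helper8.DescD

namespace Groth.Agent.Helper8.DescD
open Desc Groth.Agent.Helper8.DescA Groth.Agent.Helper8.DescB

section back

variable {S : Scheme.{u}} {ι : Type w} {V : ι → Scheme.{u}} {fV : ∀ j, V j ⟶ S}
  {ι' : Type w'} {U : ι' → Scheme.{u}} {fU : ∀ i, U i ⟶ S} {α : ι' → ι}
  {g : ∀ i, U i ⟶ V (α i)} (w : ∀ i, g i ≫ fV (α i) = fU i ≫ 𝟙 S)
  {β : ι → ι'} {k : ∀ j, V j ⟶ U (β j)} (wk : ∀ j, k j ≫ fU (β j) = fV j ≫ 𝟙 S)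

include wk in
lemma hasLocalLifts_of_back : HasLocalLifts fU fV := by
  intro j T y
  refine ⟨⊤, Scheme.fpqcTopology.top_mem T, ?_⟩
  intro T' r _
  refine ⟨β j, (r ≫ y) ≫ k j, ?_⟩
  rw [Category.assoc, wk, Category.comp_id]

include w wk in
lemma hback {T : Scheme.{u}} {i : ι'} (x : T ⟶ U i) :
    ((x ≫ g i) ≫ k (α i)) ≫ fU (β (α i)) = x ≫ fU i := by
  rw [Category.assoc, wk, Category.comp_id, Category.assoc, w, Category.comp_id]

/-- pulling back along `k` and then along `g` does nothing, on points -/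
noncomputable def backPt (D' : SchDDFam fU) :
    PtIso ((pullDDFam w).obj ((pullDDFam wk).obj D')) D' where
  β T i x :=
    ((liftsPullbackEquiv (((pullDDFam wk).obj D').obj (α i)) (g i) x).trans
      (liftsPullbackEquiv (D'.obj (β (α i))) (k (α i)) (x ≫ g i))).trans
      (D'.φ ((x ≫ g i) ≫ k (α i)) x (hback w wk x))
  nat T T' r i y y' hy n := by
    subst hy
    have h1 : r ≫ y ≫ g i = (r ≫ y) ≫ g i := (Category.assoc _ _ _).symm
    have h2 : r ≫ (y ≫ g i) ≫ k (α i) = ((r ≫ y) ≫ g i) ≫ k (α i) := by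
      simp only [Category.assoc]
    have e1 : liftsPullbackEquiv (((pullDDFam wk).obj D').obj (α i)) (g i) (r ≫ y)
        (res _ r n (r ≫ y) rfl) =
        res _ r (liftsPullbackEquiv (((pullDDFam wk).obj D').obj (α i)) (g i) y n)
          ((r ≫ y) ≫ g i) h1 :=
      lpe_res _ (g i) r y (r ≫ y) rfl n h1
    have e2 : liftsPullbackEquiv (D'.obj (β (α i))) (k (α i)) ((r ≫ y) ≫ g i)
        (res _ r (liftsPullbackEquiv (((pullDDFam wk).obj D').obj (α i)) (g i) y n)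
          ((r ≫ y) ≫ g i) h1) =
        res _ r (liftsPullbackEquiv (D'.obj (β (α i))) (k (α i)) (y ≫ g i)
          (liftsPullbackEquiv (((pullDDFam wk).obj D').obj (α i)) (g i) y n))
          (((r ≫ y) ≫ g i) ≫ k (α i)) h2 :=
      lpe_res (D'.obj (β (α i))) (k (α i)) r (y ≫ g i) ((r ≫ y) ≫ g i) h1 _ h2
    exact (congrArg (D'.φ (((r ≫ y) ≫ g i) ≫ k (α i)) (r ≫ y) (hback w wk (r ≫ y)))
      ((congrArg (liftsPullbackEquiv (D'.obj (β (α i))) (k (α i)) ((r ≫ y) ≫ g i)) e1).trans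
        e2)).trans
      (φ_res D' r ((y ≫ g i) ≫ k (α i)) y (hback w wk y) (((r ≫ y) ≫ g i) ≫ k (α i)) (r ≫ y)
        h2 rfl (hback w wk (r ≫ y)) _)
  compat T i i' y₀ y₁ h n := by
    change D'.φ y₀ y₁ h (D'.φ ((y₀ ≫ g i) ≫ k (α i)) y₀ _
        (liftsPullbackEquiv (D'.obj (β (α i))) (k (α i)) (y₀ ≫ g i)
          (liftsPullbackEquiv (((pullDDFam wk).obj D').obj (α i)) (g i) y₀ n))) =
      D'.φ ((y₁ ≫ g i') ≫ k (α i')) y₁ _
        (liftsPullbackEquiv (D'.obj (β (α i'))) (k (α i')) (y₁ ≫ g i')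
          (liftsPullbackEquiv (((pullDDFam wk).obj D').obj (α i')) (g i') y₁
            ((liftsPullbackEquiv (((pullDDFam wk).obj D').obj (α i')) (g i') y₁).symm
              ((liftsPullbackEquiv (D'.obj (β (α i'))) (k (α i')) (y₁ ≫ g i')).symm
                (D'.φ ((y₀ ≫ g i) ≫ k (α i)) ((y₁ ≫ g i') ≫ k (α i')) _
                  (liftsPullbackEquiv (D'.obj (β (α i))) (k (α i)) (y₀ ≫ g i)
                    (liftsPullbackEquiv (((pullDDFam wk).obj D').obj (α i)) (g i) y₀ n)))))))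
    rw [Equiv.apply_symm_apply, Equiv.apply_symm_apply, D'.φ_comp, D'.φ_comp]

include wk in
theorem isEquivalence_of_back : (pullDDFam w).IsEquivalence where
  faithful := faithful w (hasLocalLifts_of_back wk)
  full := full w (hasLocalLifts_of_back wk)
  essSurj := ⟨fun D' => ⟨(pullDDFam wk).obj D', ⟨(backPt w wk D').iso⟩⟩⟩

end back

end Groth.Agent.Helper8.DescD
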