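import Mathlib
import Groth.Prelude.Def_Models
import Groth.Agent.Helper1.Models

set_option autoImplicit false
open Finset

namespace Groth.Agent.Helper8.NumB

open _root_.Models

variable {n : ℕ} (T : Models.NumericalType n)

/-- the local contribution `2 w_i (g_i - 1) - a_ii` to `2g - 2` (before multiplying by `m_i`) -/
def U (i : Fin n) : ℤ := 2 * T.w i * (T.g i - 1) - T.a i i

theorem two_genus : 2 * T.genus - 2 = ∑ i, T.m i * U T i := by
  unfold Models.NumericalType.genus
  obtain ⟨c, hc⟩ := Groth.Agent.Helper1.Models.two_dvd_sum T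
  rw [hc, Int.mul_ediv_cancel_left _ (by norm_num : (2 : ℤ) ≠ 0)]
  have h1 : ∑ i, T.m i * U T i =
      2 * ∑ i, T.m i * T.w i * (T.g i - 1) - ∑ i, T.m i * T.a i i := by
    rw [Finset.mul_sum, ← Finset.sum_sub_distrib]
    apply Finset.sum_congr rfl
    intro i _
    unfold U
    ring
  rw [h1, hc]
  ring

/-- in a minimal type with `n > 1`, an index with `g_i = 0` has `a_ii = w_i k` with `k ≤ -2` -/
theorem diag_eq (hn : 1 < n) (hmin : T.IsMinimal) (i : Fin n) (hg : T.g i = 0) :
    ∃ k : ℤ, T.a i i = T.w i * k ∧ k ≤ -2 := by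
  have hneg := Groth.Agent.Helper1.Models.diag_neg T hn i
  obtain ⟨k, hk⟩ := T.w_dvd i i
  have hw := T.w_pos i
  refine ⟨k, hk, ?_⟩
  have hk1 : k ≤ -1 := by
    by_contra h
    have h0 : 0 ≤ k := by omega
    have : 0 ≤ T.w i * k := mul_nonneg hw.le h0
    linarith
  by_contra h
  have hk' : k = -1 := by omega
  apply hmin i
  refine ⟨hg, ?_⟩
  rw [hk, hk']; ring

theorem U_nonneg (hn : 1 < n) (hmin : T.IsMinimal) (i : Fin n) : 0 ≤ U T i := by
  unfold U
  have hneg := Groth.Agent.Helper1.Models.diag_neg T hn i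
  have hw := T.w_pos i
  rcases (T.g_nonneg i).lt_or_eq with hg | hg
  · have hg1 : 1 ≤ T.g i := hg
    have : 0 ≤ 2 * T.w i * (T.g i - 1) := by nlinarith
    linarith
  · obtain ⟨k, hk, hk2⟩ := diag_eq T hn hmin i hg.symm
    rw [hk, ← hg]
    nlinarith

theorem U_pos (hn : 1 < n) (hmin : T.IsMinimal) (i : Fin n) (h2 : ¬ T.IsMinusTwo i) :
    1 ≤ U T i := by
  unfold U
  have hneg := Groth.Agent.Helper1.Models.diag_neg T hn i
  have hw := T.w_pos i
  rcases (T.g_nonneg i).lt_or_eq with hg | hg
  · have hg1 : 1 ≤ T.g i := hg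
    have : 0 ≤ 2 * T.w i * (T.g i - 1) := by nlinarith
    linarith
  · obtain ⟨k, hk, hk2⟩ := diag_eq T hn hmin i hg.symm
    have hk3 : k ≤ -3 := by
      by_contra h
      have hk' : k = -2 := by omega
      apply h2
      refine ⟨hg.symm, ?_⟩
      rw [hk, hk']; ring
    rw [hk, ← hg]
    nlinarith

theorem term_le (hn : 1 < n) (hmin : T.IsMinimal) (j : Fin n) :
    T.m j * U T j ≤ 2 * T.genus - 2 := by
  rw [two_genus]
  exact Finset.single_le_sum (f := fun i => T.m i * U T i)
    (fun i _ => mul_nonneg (T.m_pos i).le (U_nonneg T hn hmin i)) (Finset.mem_univ j)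

open Classical in
theorem main (hmin : T.IsMinimal) (hn : 1 < n) (hg : 2 ≤ T.genus) :
    ((univ.filter fun j => ¬T.IsMinusTwo j).card : ℤ) ≤ 2 * T.genus - 2 ∧
      ∀ j, ¬T.IsMinusTwo j →
        T.g j < T.genus ∧ T.m j * |T.a j j| ≤ 6 * T.genus - 6 ∧
          ∀ i, T.m i * T.a i j ≤ 6 * T.genus - 6 := by
  constructor
  · rw [two_genus]
    have h1 : ((univ.filter fun j => ¬T.IsMinusTwo j).card : ℤ) =
        ∑ i ∈ univ.filter (fun j => ¬T.IsMinusTwo j), (1 : ℤ) := by
      rw [Finset.sum_const]; simp
    rw [h1]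
    calc ∑ i ∈ univ.filter (fun j => ¬T.IsMinusTwo j), (1 : ℤ)
        ≤ ∑ i ∈ univ.filter (fun j => ¬T.IsMinusTwo j), T.m i * U T i := by
          apply Finset.sum_le_sum
          intro i hi
          have hi' := (Finset.mem_filter.1 hi).2
          have h1 := U_pos T hn hmin i hi'
          have h2 := T.m_pos i
          nlinarith
      _ ≤ ∑ i, T.m i * U T i := by
          apply Finset.sum_le_sum_of_subset_of_nonneg (Finset.filter_subset _ _)
          intro i _ _
          exact mul_nonneg (T.m_pos i).le (U_nonneg T hn hmin i)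
  · intro j hj
    have hU := U_pos T hn hmin j hj
    have hm := T.m_pos j
    have hw := T.w_pos j
    have hle := term_le T hn hmin j
    have hneg := Groth.Agent.Helper1.Models.diag_neg T hn j
    have habs : |T.a j j| = - T.a j j := abs_of_neg hneg
    have hmU : U T j ≤ T.m j * U T j := by nlinarith
    have h6 : T.m j * |T.a j j| ≤ 6 * T.genus - 6 := by
      rw [habs]
      rcases (T.g_nonneg j).lt_or_eq with hgj | hgj
      · have hg1 : 1 ≤ T.g j := hgj
        have h1 : - T.a j j ≤ U T j := by
          unfold U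
          have : 0 ≤ 2 * T.w j * (T.g j - 1) := by nlinarith
          linarith
        have h2 : T.m j * (- T.a j j) ≤ T.m j * U T j :=
          mul_le_mul_of_nonneg_left h1 hm.le
        linarith
      · obtain ⟨k, hk, hk2⟩ := diag_eq T hn hmin j hgj.symm
        have hk3 : k ≤ -3 := by
          by_contra h
          have hk' : k = -2 := by omega
          apply hj
          refine ⟨hgj.symm, ?_⟩
          rw [hk, hk']; ring
        have h1 : - T.a j j ≤ 3 * U T j := by
          unfold U
          rw [hk, ← hgj]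
          nlinarith
        have h2 : T.m j * (- T.a j j) ≤ T.m j * (3 * U T j) :=
          mul_le_mul_of_nonneg_left h1 hm.le
        linarith
    refine ⟨?_, h6, ?_⟩
    · rcases (T.g_nonneg j).lt_or_eq with hgj | hgj
      · have hg1 : 1 ≤ T.g j := hgj
        have h1 : 2 * (T.g j - 1) + 1 ≤ U T j := by
          unfold U
          have : 2 * (T.g j - 1) ≤ 2 * T.w j * (T.g j - 1) := by nlinarith
          linarith
        omega
      · rw [← hgj]; omega
    · intro i
      by_cases hij : i = j
      · subst hij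
        have : T.m i * T.a i i ≤ 0 := by nlinarith
        have : (0 : ℤ) ≤ 6 * T.genus - 6 := by omega
        linarith
      · have h1 := Groth.Agent.Helper1.Models.offDiag_term_le T j i hij
        have hsymm : T.a j i = T.a i j := Matrix.IsSymm.apply T.symm i j
        rw [hsymm] at h1
        rw [habs] at h6
        nlinarith

end Groth.Agent.Helper8.NumB
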