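import Mathlib
import Groth.Prelude.Def_Models
import Groth.Agent.Helper1.Models
import Groth.Agent.Helper8.NumB

set_option autoImplicit false
open Finset

namespace Groth.Agent.Helper8.NumG

open _root_.Models Groth.Agent.Helper8.NumB

variable {n : ℕ} (T : Models.NumericalType n)

theorem a_symm (i j : Fin n) : T.a i j = T.a j i := (Matrix.IsSymm.apply T.symm i j).symm

/-- the sum of all entries of the intersection matrix is nonpositive (AM-GM) -/
theorem sum_all_nonpos : ∑ i, ∑ j, T.a i j ≤ 0 := by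
  have hQ : (∑ i, ∑ j, (T.a i j : ℚ)) ≤ 0 := by
    set m : Fin n → ℚ := fun i => (T.m i : ℚ) with hmdef
    have hm : ∀ i, 0 < m i := fun i => by
      have := T.m_pos i
      simp only [hmdef]
      exact_mod_cast this
    have h1 : ∑ i, ∑ j, (T.a i j : ℚ) * (m j / m i - 1) = - ∑ i, ∑ j, (T.a i j : ℚ) := by
      rw [← Finset.sum_neg_distrib]
      apply Finset.sum_congr rfl
      intro i _
      have hrow : ∑ j, (T.a i j : ℚ) * m j = 0 := by
        have := Groth.Agent.Helper1.Models.row_sum T i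
        simp only [hmdef]
        exact_mod_cast this
      have h : ∑ j, (T.a i j : ℚ) * (m j / m i - 1) =
          (∑ j, (T.a i j : ℚ) * m j) / m i - ∑ j, (T.a i j : ℚ) := by
        rw [Finset.sum_div, ← Finset.sum_sub_distrib]
        apply Finset.sum_congr rfl
        intro j _
        ring
      rw [h, hrow, zero_div, zero_sub]
    have h2 : ∑ i, ∑ j, (T.a i j : ℚ) * (m j / m i - 1) =
        ∑ i, ∑ j, (T.a i j : ℚ) * (m i / m j - 1) := by
      rw [Finset.sum_comm]
      apply Finset.sum_congr rfl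
      intro i _
      apply Finset.sum_congr rfl
      intro j _
      rw [a_symm T j i]
    have h3 : 0 ≤ ∑ i, ∑ j, ((T.a i j : ℚ) * (m j / m i - 1) + (T.a i j : ℚ) * (m i / m j - 1)) := by
      apply Finset.sum_nonneg
      intro i _
      apply Finset.sum_nonneg
      intro j _
      by_cases hij : i = j
      · subst hij
        rw [div_self (hm i).ne']
        simp
      · have ha : (0 : ℚ) ≤ T.a i j := by exact_mod_cast T.offDiag_nonneg i j hij
        have hpos : 0 ≤ m j / m i + m i / m j - 2 := by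
          have h : m j / m i + m i / m j - 2 = (m i - m j) ^ 2 / (m i * m j) := by
            have := (hm i).ne'
            have := (hm j).ne'
            field_simp
            ring
          rw [h]
          have := hm i
          have := hm j
          positivity
        nlinarith
    have h4 : ∑ i, ∑ j, ((T.a i j : ℚ) * (m j / m i - 1) + (T.a i j : ℚ) * (m i / m j - 1)) =
        ∑ i, ∑ j, (T.a i j : ℚ) * (m j / m i - 1) + ∑ i, ∑ j, (T.a i j : ℚ) * (m i / m j - 1) := by
      rw [← Finset.sum_add_distrib]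
      apply Finset.sum_congr rfl
      intro i _
      rw [← Finset.sum_add_distrib]
    rw [h4, ← h2, h1] at h3
    linarith
  exact_mod_cast hQ

/-- the set of edges -/
def edges : Finset (Fin n × Fin n) :=
  univ.filter fun p : Fin n × Fin n => p.1 < p.2 ∧ 0 < T.a p.1 p.2

theorem edgeCount_eq : T.edgeCount = (edges T).card := rfl

theorem upper_eq : ∑ i, ∑ j, (if i < j then T.a i j else 0) = ∑ p ∈ edges T, T.a p.1 p.2 := by
  unfold edges
  rw [Finset.sum_filter, ← Finset.univ_product_univ, Finset.sum_product]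
  apply Finset.sum_congr rfl
  intro i _
  apply Finset.sum_congr rfl
  intro j _
  by_cases hij : i < j
  · have hnn := T.offDiag_nonneg i j hij.ne
    rcases hnn.lt_or_eq with h | h
    · rw [if_pos hij, if_pos ⟨hij, h⟩]
    · rw [if_pos hij, if_neg (by rw [← h]; simp), ← h]
  · rw [if_neg hij, if_neg (fun h => hij h.1)]

theorem sum_all_eq : ∑ i, ∑ j, T.a i j = ∑ i, T.a i i + 2 * ∑ p ∈ edges T, T.a p.1 p.2 := by
  have hpt : ∀ i j : Fin n, T.a i j = (if i < j then T.a i j else 0) +
      (if i = j then T.a i j else 0) + (if j < i then T.a i j else 0) := by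
    intro i j
    rcases lt_trichotomy i j with h | h | h
    · rw [if_pos h, if_neg h.ne, if_neg (not_lt.2 h.le)]; ring
    · subst h; simp
    · rw [if_neg (not_lt.2 h.le), if_neg h.ne', if_pos h]; ring
  have h1 : ∑ i, ∑ j, T.a i j = ∑ i, ∑ j, (if i < j then T.a i j else 0) +
      ∑ i, ∑ j, (if i = j then T.a i j else 0) + ∑ i, ∑ j, (if j < i then T.a i j else 0) := by
    rw [← Finset.sum_add_distrib, ← Finset.sum_add_distrib]
    apply Finset.sum_congr rfl
    intro i _
    rw [← Finset.sum_add_distrib, ← Finset.sum_add_distrib]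
    apply Finset.sum_congr rfl
    intro j _
    exact hpt i j
  have h2 : ∑ i, ∑ j, (if j < i then T.a i j else 0) = ∑ i, ∑ j, (if i < j then T.a i j else 0) := by
    rw [Finset.sum_comm]
    apply Finset.sum_congr rfl
    intro i _
    apply Finset.sum_congr rfl
    intro j _
    rw [a_symm T j i]
  have h3 : ∑ i, ∑ j, (if i = j then T.a i j else 0) = ∑ i, T.a i i := by
    apply Finset.sum_congr rfl
    intro i _
    rw [Finset.sum_ite_eq]
    simp
  rw [h1, h2, h3, upper_eq]
  ring

/-- edges inside a set of indices -/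
def edgesIn (I : Finset (Fin n)) : Finset (Fin n × Fin n) :=
  (edges T).filter fun p => p.1 ∈ I ∧ p.2 ∈ I

/-- the inductive inequality -/
def PI (r : Fin n) (I : Finset (Fin n)) : Prop :=
  ∑ i ∈ I, (T.w i - 1) + (((edgesIn T I).card : ℤ) - (I.card : ℤ)) * (T.w r - 1) ≤
    ∑ p ∈ edgesIn T I, (T.a p.1 p.2 - 1)

theorem mem_edges (p : Fin n × Fin n) : p ∈ edges T ↔ p.1 < p.2 ∧ 0 < T.a p.1 p.2 := by
  unfold edges
  simp

theorem PI_base (r : Fin n) : PI T r {r} := by
  unfold PI
  have h : edgesIn T {r} = ∅ := by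
    unfold edgesIn
    rw [Finset.filter_eq_empty_iff]
    intro p hp
    rw [mem_edges] at hp
    rw [Finset.mem_singleton, Finset.mem_singleton]
    rintro ⟨h1, h2⟩
    rw [h1, h2] at hp
    exact lt_irrefl _ hp.1
  rw [h]
  simp

theorem PI_step (r : Fin n) (hr : ∀ j, T.w r ≤ T.w j) (I : Finset (Fin n)) (hrI : r ∈ I)
    (hP : PI T r I) (hne : I ≠ univ) : ∃ j, j ∉ I ∧ PI T r (insert j I) := by
  obtain ⟨i, hi, j, hj, hij⟩ := T.connected I ⟨r, hrI⟩ hne
  refine ⟨j, hj, ?_⟩
  have hne' : i ≠ j := fun h => hj (h ▸ hi)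
  have hpos : 0 < T.a i j := lt_of_le_of_ne (T.offDiag_nonneg i j hne') (Ne.symm hij)
  set N : Finset (Fin n × Fin n) :=
    (edges T).filter fun p => (p.1 = j ∧ p.2 ∈ I) ∨ (p.2 = j ∧ p.1 ∈ I) with hN
  have hunion : edgesIn T (insert j I) = edgesIn T I ∪ N := by
    ext p
    unfold edgesIn
    simp only [hN, Finset.mem_filter, Finset.mem_union, Finset.mem_insert]
    constructor
    · rintro ⟨hp, h1, h2⟩
      have hlt := ((mem_edges T p).1 hp).1
      rcases h1 with h1 | h1
      · rcases h2 with h2 | h2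
        · exfalso; rw [h1, h2] at hlt; exact lt_irrefl _ hlt
        · exact Or.inr ⟨hp, Or.inl ⟨h1, h2⟩⟩
      · rcases h2 with h2 | h2
        · exact Or.inr ⟨hp, Or.inr ⟨h2, h1⟩⟩
        · exact Or.inl ⟨hp, h1, h2⟩
    · rintro (⟨hp, h1, h2⟩ | ⟨hp, ⟨h1, h2⟩ | ⟨h1, h2⟩⟩)
      · exact ⟨hp, Or.inr h1, Or.inr h2⟩
      · exact ⟨hp, Or.inl h1, Or.inr h2⟩
      · exact ⟨hp, Or.inr h2, Or.inl h1⟩
  have hdisj : Disjoint (edgesIn T I) N := by
    rw [Finset.disjoint_left]
    intro p hp hpN
    unfold edgesIn at hp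
    simp only [hN, Finset.mem_filter] at hp hpN
    rcases hpN.2 with ⟨h1, _⟩ | ⟨h1, _⟩
    · exact hj (h1 ▸ hp.2.1)
    · exact hj (h1 ▸ hp.2.2)
  have hNne : 1 ≤ (N.card : ℤ) := by
    have : N.Nonempty := by
      rcases lt_or_gt_of_ne hne' with h | h
      · refine ⟨(i, j), ?_⟩
        rw [hN]
        exact Finset.mem_filter.2 ⟨(mem_edges T _).2 ⟨h, hpos⟩, Or.inr ⟨rfl, hi⟩⟩
      · refine ⟨(j, i), ?_⟩
        rw [hN]
        refine Finset.mem_filter.2 ⟨(mem_edges T _).2 ⟨h, ?_⟩, Or.inl ⟨rfl, hi⟩⟩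
        show 0 < T.a j i
        rw [← a_symm T i j]; exact hpos
    have := Finset.card_pos.2 this
    exact_mod_cast this
  have hNge : ∀ p ∈ N, T.w j - 1 ≤ T.a p.1 p.2 - 1 := by
    intro p hp
    simp only [hN, Finset.mem_filter] at hp
    have hap := ((mem_edges T p).1 hp.1).2
    have : T.w j ≤ T.a p.1 p.2 := by
      rcases hp.2 with ⟨h1, _⟩ | ⟨h1, _⟩
      · apply Int.le_of_dvd hap
        rw [← h1]; exact T.w_dvd p.1 p.2
      · apply Int.le_of_dvd hap
        rw [a_symm T p.1 p.2, ← h1]; exact T.w_dvd p.2 p.1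
    linarith
  have hNsum : (N.card : ℤ) * (T.w j - 1) ≤ ∑ p ∈ N, (T.a p.1 p.2 - 1) := by
    have := Finset.card_nsmul_le_sum N (fun p => T.a p.1 p.2 - 1) (T.w j - 1) hNge
    simpa using this
  unfold PI at hP ⊢
  rw [hunion, Finset.sum_union hdisj, Finset.card_union_of_disjoint hdisj,
    Finset.sum_insert hj, Finset.card_insert_of_notMem hj]
  push_cast
  have hrj := hr j
  have hwr : 1 ≤ T.w r := T.w_pos r
  have hmul : ((N.card : ℤ) - 1) * (T.w r - 1) ≤ ((N.card : ℤ) - 1) * (T.w j - 1) :=
    mul_le_mul_of_nonneg_left (by linarith) (by linarith)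
  nlinarith

theorem PI_univ (r : Fin n) (hr : ∀ j, T.w r ≤ T.w j) : PI T r univ := by
  have key : ∀ k : ℕ, ∀ I : Finset (Fin n), r ∈ I → PI T r I → n - I.card = k → PI T r univ := by
    intro k
    induction k with
    | zero =>
      intro I _ hP hk
      have hle := Finset.card_le_univ I
      rw [Fintype.card_fin] at hle
      have : I = univ := by
        apply Finset.eq_univ_of_card
        rw [Fintype.card_fin]; omega
      rwa [this] at hP
    | succ k ih =>
      intro I hrI hP hk
      have hne : I ≠ univ := by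
        intro h
        rw [h, Finset.card_univ, Fintype.card_fin] at hk
        omega
      obtain ⟨j, hj, hP'⟩ := PI_step T r hr I hrI hP hne
      apply ih (insert j I) (Finset.mem_insert_of_mem hrI) hP'
      rw [Finset.card_insert_of_notMem hj]
      omega
  exact key _ {r} (Finset.mem_singleton_self r) (PI_base T r) rfl

theorem edgesIn_univ : edgesIn T univ = edges T := by
  unfold edgesIn
  apply Finset.filter_true_of_mem
  intro p _
  exact ⟨Finset.mem_univ _, Finset.mem_univ _⟩

theorem main (hmin : T.IsMinimal) (hn : 1 < n) : T.topGenus ≤ T.genus := by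
  have hne : (univ : Finset (Fin n)).Nonempty := ⟨⟨0, by omega⟩, Finset.mem_univ _⟩
  obtain ⟨r, -, hr⟩ := Finset.exists_min_image univ T.w hne
  have hr' : ∀ j, T.w r ≤ T.w j := fun j => hr j (Finset.mem_univ j)
  have hPI := PI_univ T r hr'
  unfold PI at hPI
  rw [edgesIn_univ, Finset.card_univ, Fintype.card_fin] at hPI
  -- step A
  have hA : ∑ i, (-2 * T.w i - T.a i i) ≤ 2 * T.genus - 2 := by
    rw [two_genus]
    apply Finset.sum_le_sum
    intro i _
    have h1 := U_nonneg T hn hmin i
    have h2 := T.m_pos i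
    have h3 : U T i ≤ T.m i * U T i := by nlinarith
    have h4 : -2 * T.w i - T.a i i ≤ U T i := by
      unfold U
      have := T.g_nonneg i
      have := T.w_pos i
      nlinarith
    linarith
  have hB := sum_all_nonpos T
  rw [sum_all_eq] at hB
  have hA' : ∑ i, (-2 * T.w i - T.a i i) = -2 * ∑ i, T.w i - ∑ i, T.a i i := by
    rw [Finset.mul_sum, ← Finset.sum_sub_distrib]
  rw [hA'] at hA
  have hsumE : ∑ p ∈ edges T, (T.a p.1 p.2 - 1) = ∑ p ∈ edges T, T.a p.1 p.2 - ((edges T).card : ℤ) := by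
    rw [Finset.sum_sub_distrib]
    simp
  have hsumW : ∑ i : Fin n, (T.w i - 1) = ∑ i, T.w i - (n : ℤ) := by
    rw [Finset.sum_sub_distrib]
    simp
  rw [hsumE, hsumW] at hPI
  unfold Models.NumericalType.topGenus
  rw [edgeCount_eq]
  have hwr : 1 ≤ T.w r := T.w_pos r
  have hgen : 0 ≤ 2 * T.genus - 2 := by
    rw [two_genus]
    exact Finset.sum_nonneg fun i _ => mul_nonneg (T.m_pos i).le (U_nonneg T hn hmin i)
  by_cases hen : (n : ℤ) ≤ ((edges T).card : ℤ)
  · have : 0 ≤ (((edges T).card : ℤ) - (n : ℤ)) * (T.w r - 1) :=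
      mul_nonneg (by linarith) (by linarith)
    linarith
  · push Not at hen
    linarith

end Groth.Agent.Helper8.NumG
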