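import Mathlib
import Groth.Prelude.Def_Models
import Groth.Agent.Helper8.NumB
import Groth.Agent.Helper8.NumG

set_option autoImplicit false
open Finset

namespace Groth.Agent.Helper8.NumContr

open _root_.Models

variable {n : ℕ} (T : Models.NumericalType (n + 1))

/-- `c_i = a_{il} / w_l` -/
def cc (i : Fin n) : ℤ := T.a i.castSucc (Fin.last n) / T.w (Fin.last n)

/-- `d_i = a_{il} / w_i` -/
def dd (i : Fin n) : ℤ := T.a i.castSucc (Fin.last n) / T.w i.castSucc

def wNew (i : Fin n) : ℤ :=
  if 2 ∣ T.a i.castSucc (Fin.last n) / T.w (Fin.last n) ∧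
      ¬ 2 ∣ T.a i.castSucc (Fin.last n) / T.w i.castSucc
  then T.w i.castSucc / 2 else T.w i.castSucc

def aNew (i j : Fin n) : ℤ := T.a i.castSucc j.castSucc -
  T.a i.castSucc (Fin.last n) * T.a j.castSucc (Fin.last n) / T.a (Fin.last n) (Fin.last n)

def gNew (i : Fin n) : ℤ := T.w i.castSucc / wNew T i * (T.g i.castSucc - 1) + 1 +
  (T.a i.castSucc (Fin.last n) ^ 2 - T.w (Fin.last n) * T.a i.castSucc (Fin.last n)) /
    (2 * wNew T i * T.w (Fin.last n))

theorem a_symm (i j : Fin (n + 1)) : T.a i j = T.a j i := NumG.a_symm T i j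

theorem a_last (i : Fin n) :
    T.a i.castSucc (Fin.last n) = T.w (Fin.last n) * cc T i := by
  unfold cc
  have h : T.w (Fin.last n) ∣ T.a i.castSucc (Fin.last n) := by
    rw [a_symm]; exact T.w_dvd _ _
  exact (Int.mul_ediv_cancel' h).symm

theorem a_last' (i : Fin n) :
    T.a i.castSucc (Fin.last n) = T.w i.castSucc * dd T i :=
  (Int.mul_ediv_cancel' (T.w_dvd _ _)).symm

theorem cc_nonneg (i : Fin n) : 0 ≤ cc T i := by
  have h := T.offDiag_nonneg i.castSucc (Fin.last n) (Fin.castSucc_lt_last i).ne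
  rw [a_last] at h
  by_contra hneg
  push Not at hneg
  nlinarith [T.w_pos (Fin.last n)]

theorem dd_nonneg (i : Fin n) : 0 ≤ dd T i := by
  have h := T.offDiag_nonneg i.castSucc (Fin.last n) (Fin.castSucc_lt_last i).ne
  rw [a_last'] at h
  by_contra hneg
  push Not at hneg
  nlinarith [T.w_pos i.castSucc]

theorem aNew_eq (h : T.IsMinusOne (Fin.last n)) (i j : Fin n) :
    aNew T i j = T.a i.castSucc j.castSucc + T.w (Fin.last n) * cc T i * cc T j := by
  unfold aNew
  rw [h.2, a_last T i, a_last T j]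
  have e : T.w (Fin.last n) * cc T i * (T.w (Fin.last n) * cc T j) =
      (-(T.w (Fin.last n) * cc T i * cc T j)) * (-T.w (Fin.last n)) := by ring
  rw [e, Int.mul_ediv_cancel _ (neg_ne_zero.2 (T.w_pos _).ne')]
  ring

/-- the key arithmetic about the new `w` and `g`. -/
theorem spec (i : Fin n) : ∃ r q : ℤ, 1 ≤ r ∧ r * wNew T i = T.w i.castSucc ∧ 0 < wNew T i ∧
    gNew T i = r * (T.g i.castSucc - 1) + 1 + q ∧
    2 * wNew T i * q = T.w (Fin.last n) * cc T i * (cc T i - 1) ∧ 0 ≤ 1 - r + q := by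
  have hW := T.w_pos (Fin.last n)
  have hw := T.w_pos i.castSucc
  have hc := cc_nonneg T i
  have hd := dd_nonneg T i
  have hA := a_last T i
  have hA' := a_last' T i
  have hcd : T.w (Fin.last n) * cc T i = T.w i.castSucc * dd T i := by rw [← hA, ← hA']
  have hnum : T.a i.castSucc (Fin.last n) ^ 2 - T.w (Fin.last n) * T.a i.castSucc (Fin.last n)
      = T.w (Fin.last n) * (T.w (Fin.last n) * cc T i) * (cc T i - 1) := by
    rw [hA]; ring
  by_cases hP : 2 ∣ cc T i ∧ ¬ 2 ∣ dd T i
  · -- halved case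
    have hwN : wNew T i = T.w i.castSucc / 2 := by
      unfold wNew; rw [if_pos]; exact hP
    obtain ⟨k, hk⟩ := hP.1
    have h2 : (2 : ℤ) ∣ T.w i.castSucc * dd T i := ⟨T.w (Fin.last n) * k, by rw [← hcd, hk]; ring⟩
    have hwe : (2 : ℤ) ∣ T.w i.castSucc := by
      rcases Int.prime_two.dvd_or_dvd h2 with h3 | h3
      · exact h3
      · exact absurd h3 hP.2
    obtain ⟨w', hw'⟩ := hwe
    have hwN' : wNew T i = w' := by
      rw [hwN, hw', Int.mul_ediv_cancel_left _ (by norm_num : (2 : ℤ) ≠ 0)]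
    have hw'pos : 0 < w' := by omega
    -- d odd, c ≥ 2
    have hd1 : 1 ≤ dd T i := by
      rcases hd.lt_or_eq with h4 | h4
      · omega
      · exact absurd (h4 ▸ dvd_zero (2 : ℤ)) hP.2
    have hc2 : 1 ≤ cc T i - 1 := by
      have : cc T i ≠ 0 := by
        intro h0
        have : T.w i.castSucc * dd T i = 0 := by rw [← hcd, h0, mul_zero]
        rcases mul_eq_zero.1 this with h5 | h5
        · omega
        · omega
      omega
    refine ⟨2, dd T i * (cc T i - 1), by norm_num, ?_, ?_, ?_, ?_, ?_⟩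
    · rw [hwN', hw']
    · rw [hwN']; exact hw'pos
    · unfold gNew
      rw [hnum, hwN']
      have e1 : T.w i.castSucc / w' = 2 := by
        rw [hw', Int.mul_ediv_cancel _ hw'pos.ne']
      have e2 : T.w (Fin.last n) * (T.w (Fin.last n) * cc T i) * (cc T i - 1)
          = (dd T i * (cc T i - 1)) * (2 * w' * T.w (Fin.last n)) := by
        rw [hcd, hw']; ring
      rw [e1, e2, Int.mul_ediv_cancel _ (by positivity)]
    · rw [hwN']
      have : 2 * w' * (dd T i * (cc T i - 1)) = (T.w i.castSucc * dd T i) * (cc T i - 1) := by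
        rw [hw']; ring
      rw [this, ← hcd]
    · nlinarith
  · -- unchanged case
    have hwN : wNew T i = T.w i.castSucc := by
      unfold wNew; rw [if_neg]; exact hP
    -- find q with 2 w q = W c (c-1)
    have hq : ∃ q : ℤ, 0 ≤ q ∧ 2 * T.w i.castSucc * q = T.w (Fin.last n) * cc T i * (cc T i - 1) := by
      by_cases hce : 2 ∣ cc T i
      · have hde : 2 ∣ dd T i := by
          by_contra hno
          exact hP ⟨hce, hno⟩
        obtain ⟨e, he⟩ := hde
        rcases hc.lt_or_eq with hc0 | hc0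
        · refine ⟨e * (cc T i - 1), ?_, ?_⟩
          · have : 0 ≤ e := by omega
            have : 0 ≤ cc T i - 1 := by omega
            positivity
          · rw [hcd, he]; ring
        · refine ⟨0, le_refl _, ?_⟩
          rw [← hc0]; ring
      · have hodd : ∃ k, cc T i - 1 = 2 * k := by
          have := Int.emod_two_eq_zero_or_one (cc T i)
          have h6 : ¬ cc T i % 2 = 0 := fun h7 => hce (Int.dvd_of_emod_eq_zero h7)
          exact ⟨(cc T i - 1) / 2, by omega⟩
        obtain ⟨k, hk⟩ := hodd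
        refine ⟨dd T i * k, ?_, ?_⟩
        · have : 0 ≤ k := by
            have : cc T i ≠ 0 := fun h0 => hce (h0 ▸ dvd_zero _)
            omega
          positivity
        · rw [hcd, hk]; ring
    obtain ⟨q, hq0, hq⟩ := hq
    refine ⟨1, q, le_refl _, ?_, ?_, ?_, ?_, ?_⟩
    · rw [hwN, one_mul]
    · rw [hwN]; exact hw
    · unfold gNew
      rw [hnum, hwN, Int.ediv_self hw.ne']
      have e2 : T.w (Fin.last n) * (T.w (Fin.last n) * cc T i) * (cc T i - 1)
          = q * (2 * T.w i.castSucc * T.w (Fin.last n)) := by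
        linear_combination (-T.w (Fin.last n)) * hq
      rw [e2, Int.mul_ediv_cancel _ (by positivity)]
    · rw [hwN]; exact hq
    · linarith

theorem wNew_pos (i : Fin n) : 0 < wNew T i := by
  obtain ⟨r, q, _, _, h, _⟩ := spec T i
  exact h

theorem wNew_dvd (i : Fin n) : wNew T i ∣ T.w i.castSucc := by
  obtain ⟨r, q, _, h, _⟩ := spec T i
  exact Dvd.intro_left r h

theorem gNew_nonneg (i : Fin n) : 0 ≤ gNew T i := by
  obtain ⟨r, q, h1, _, _, h4, _, h6⟩ := spec T i
  rw [h4]
  have := T.g_nonneg i.castSucc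
  nlinarith

theorem two_wg (i : Fin n) : 2 * wNew T i * (gNew T i - 1) =
    2 * T.w i.castSucc * (T.g i.castSucc - 1) + T.w (Fin.last n) * cc T i * (cc T i - 1) := by
  obtain ⟨r, q, _, h2, _, h4, h5, _⟩ := spec T i
  rw [h4]
  linear_combination (2 * (T.g i.castSucc - 1)) * h2 + h5

theorem row (x : Fin (n + 1)) :
    ∑ j : Fin n, T.a x j.castSucc * T.m j.castSucc + T.a x (Fin.last n) * T.m (Fin.last n) = 0 := by
  have h := congrFun T.mulVec_m x
  simp only [Matrix.mulVec, dotProduct, Pi.zero_apply] at h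
  rw [Fin.sum_univ_castSucc] at h
  exact h

theorem n_pos (h : T.IsMinusOne (Fin.last n)) : 0 < n := by
  by_contra hn0
  have hn : n = 0 := by omega
  subst hn
  have h1 := row T (Fin.last 0)
  simp only [Finset.univ_eq_empty, Finset.sum_empty, zero_add] at h1
  rw [h.2] at h1
  have := T.w_pos (Fin.last 0)
  have := T.m_pos (Fin.last 0)
  nlinarith

theorem aNew_pos_of (h : T.IsMinusOne (Fin.last n)) (i j : Fin n) (hij : i ≠ j)
    (hne : T.a i.castSucc j.castSucc ≠ 0 ∨ (cc T i ≠ 0 ∧ cc T j ≠ 0)) : aNew T i j ≠ 0 := by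
  rw [aNew_eq T h]
  have h0 := T.offDiag_nonneg i.castSucc j.castSucc (fun e => hij (Fin.castSucc_injective _ e))
  have hW := T.w_pos (Fin.last n)
  have hci := cc_nonneg T i
  have hcj := cc_nonneg T j
  have h1 : 0 ≤ T.w (Fin.last n) * cc T i * cc T j := by positivity
  rcases hne with h2 | ⟨h2, h3⟩
  · have : 0 < T.a i.castSucc j.castSucc := lt_of_le_of_ne h0 (Ne.symm h2)
    omega
  · have hci' : 0 < cc T i := lt_of_le_of_ne hci (Ne.symm h2)
    have hcj' : 0 < cc T j := lt_of_le_of_ne hcj (Ne.symm h3)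
    have : 0 < T.w (Fin.last n) * cc T i * cc T j := by positivity
    omega

theorem cc_ne_zero_of (i : Fin n) (h : T.a i.castSucc (Fin.last n) ≠ 0) : cc T i ≠ 0 := by
  intro h0
  apply h
  rw [a_last, h0, mul_zero]

theorem connected' (h : T.IsMinusOne (Fin.last n)) (I : Finset (Fin n)) (hI : I.Nonempty)
    (hI' : I ≠ univ) : ∃ i ∈ I, ∃ j ∉ I, aNew T i j ≠ 0 := by
  classical
  obtain ⟨j0, hj0⟩ : ∃ j0, j0 ∉ I := by
    by_contra hall
    push Not at hall
    exact hI' (Finset.eq_univ_iff_forall.2 hall)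
  have mem_map : ∀ x : Fin n, x.castSucc ∈ I.map Fin.castSuccEmb ↔ x ∈ I := by
    intro x
    rw [Finset.mem_map]
    constructor
    · rintro ⟨y, hy, hxy⟩
      have : y = x := Fin.castSucc_injective _ hxy
      rwa [← this]
    · intro hx; exact ⟨x, hx, rfl⟩
  have last_not : Fin.last n ∉ I.map Fin.castSuccEmb := by
    rw [Finset.mem_map]
    rintro ⟨y, _, hy⟩
    exact (Fin.castSucc_lt_last y).ne hy
  have h1 : (I.map Fin.castSuccEmb).Nonempty := hI.map
  have h2 : I.map Fin.castSuccEmb ≠ univ := fun e => last_not (e ▸ Finset.mem_univ _)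
  obtain ⟨x, hx, y, hy, hxy⟩ := T.connected _ h1 h2
  obtain ⟨i, hi, rfl⟩ := Finset.mem_map.1 hx
  change T.a i.castSucc y ≠ 0 at hxy
  rcases Fin.eq_castSucc_or_eq_last y with ⟨j, rfl⟩ | rfl
  · have hj : j ∉ I := fun hj => hy ((mem_map j).2 hj)
    exact ⟨i, hi, j, hj, aNew_pos_of T h i j (fun e => hj (e ▸ hi)) (Or.inl hxy)⟩
  · -- only connection through the last index
    have hci := cc_ne_zero_of T i hxy
    have h3 : (insert (Fin.last n) (I.map Fin.castSuccEmb)).Nonempty := Finset.insert_nonempty _ _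
    have h4 : insert (Fin.last n) (I.map Fin.castSuccEmb) ≠ univ := by
      intro e
      have : j0.castSucc ∈ insert (Fin.last n) (I.map Fin.castSuccEmb) := e ▸ Finset.mem_univ _
      rcases Finset.mem_insert.1 this with h5 | h5
      · exact (Fin.castSucc_lt_last j0).ne h5
      · exact hj0 ((mem_map j0).1 h5)
    obtain ⟨x', hx', y', hy', hxy'⟩ := T.connected _ h3 h4
    have hy'l : y' ≠ Fin.last n := fun e => hy' (e ▸ Finset.mem_insert_self _ _)
    rcases Fin.eq_castSucc_or_eq_last y' with ⟨j', rfl⟩ | rfl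
    · have hj' : j' ∉ I := fun hj => hy' (Finset.mem_insert_of_mem ((mem_map j').2 hj))
      rcases Finset.mem_insert.1 hx' with rfl | hx''
      · -- x' = last
        have hcj : cc T j' ≠ 0 := cc_ne_zero_of T j' (by rw [a_symm]; exact hxy')
        exact ⟨i, hi, j', hj', aNew_pos_of T h i j' (fun e => hj' (e ▸ hi)) (Or.inr ⟨hci, hcj⟩)⟩
      · obtain ⟨i', hi', rfl⟩ := Finset.mem_map.1 hx''
        change T.a i'.castSucc j'.castSucc ≠ 0 at hxy'
        exact ⟨i', hi', j', hj', aNew_pos_of T h i' j' (fun e => hj' (e ▸ hi')) (Or.inl hxy')⟩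
    · exact absurd rfl hy'l

theorem mulVec' (h : T.IsMinusOne (Fin.last n)) (i : Fin n) :
    ∑ j : Fin n, aNew T i j * T.m j.castSucc = 0 := by
  have h1 := row T i.castSucc
  have h2 := row T (Fin.last n)
  have e : ∑ j : Fin n, aNew T i j * T.m j.castSucc =
      ∑ j : Fin n, T.a i.castSucc j.castSucc * T.m j.castSucc +
        cc T i * ∑ j : Fin n, T.a (Fin.last n) j.castSucc * T.m j.castSucc := by
    rw [Finset.mul_sum, ← Finset.sum_add_distrib]
    apply Finset.sum_congr rfl
    intro j _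
    rw [aNew_eq T h, a_symm T (Fin.last n) j.castSucc, a_last T j]
    ring
  rw [e]
  have h1' : ∑ j : Fin n, T.a i.castSucc j.castSucc * T.m j.castSucc =
      -(T.a i.castSucc (Fin.last n) * T.m (Fin.last n)) := by linarith
  have h2' : ∑ j : Fin n, T.a (Fin.last n) j.castSucc * T.m j.castSucc =
      -(T.a (Fin.last n) (Fin.last n) * T.m (Fin.last n)) := by linarith
  rw [h1', h2', h.2, a_last T i]
  ring

/-- the contracted numerical type -/
def contr (h : T.IsMinusOne (Fin.last n)) : Models.NumericalType n where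
  m := fun i => T.m i.castSucc
  a := Matrix.of (aNew T)
  w := wNew T
  g := gNew T
  pos := n_pos T h
  m_pos := fun i => T.m_pos _
  w_pos := wNew_pos T
  g_nonneg := gNew_nonneg T
  symm := by
    apply Matrix.IsSymm.ext
    intro i j
    simp only [Matrix.of_apply]
    rw [aNew_eq T h, aNew_eq T h, a_symm T j.castSucc i.castSucc]
    ring
  offDiag_nonneg := by
    intro i j hij
    simp only [Matrix.of_apply]
    rw [aNew_eq T h]
    have h0 := T.offDiag_nonneg i.castSucc j.castSucc (fun e => hij (Fin.castSucc_injective _ e))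
    have hW := T.w_pos (Fin.last n)
    have hci := cc_nonneg T i
    have hcj := cc_nonneg T j
    have h1 : 0 ≤ T.w (Fin.last n) * cc T i * cc T j := by positivity
    omega
  connected := by
    intro I hI hI'
    simpa only [Matrix.of_apply] using connected' T h I hI hI'
  mulVec_m := by
    funext i
    simp only [Matrix.mulVec, dotProduct, Matrix.of_apply, Pi.zero_apply]
    exact mulVec' T h i
  w_dvd := by
    intro i j
    simp only [Matrix.of_apply]
    rw [aNew_eq T h]
    have h1 : wNew T i ∣ T.a i.castSucc j.castSucc := dvd_trans (wNew_dvd T i) (T.w_dvd _ _)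
    have h2 : wNew T i ∣ T.w (Fin.last n) * cc T i * cc T j := by
      rw [← a_last T i]
      exact dvd_mul_of_dvd_left (dvd_trans (wNew_dvd T i) (T.w_dvd _ _)) _
    exact dvd_add h1 h2

theorem isContraction_contr (h : T.IsMinusOne (Fin.last n)) : T.IsContraction (contr T h) :=
  ⟨fun _ => rfl, fun _ _ => rfl, fun _ => rfl, fun _ => rfl⟩

theorem genus_eq (h : T.IsMinusOne (Fin.last n)) (T' : Models.NumericalType n)
    (hT' : T.IsContraction T') : T'.genus = T.genus := by
  obtain ⟨hm, ha, hw, hg⟩ := hT'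
  have hw' : ∀ i, T'.w i = wNew T i := fun i => hw i
  have ha' : ∀ i j, T'.a i j = aNew T i j := fun i j => ha i j
  have hg' : ∀ i, T'.g i = gNew T i := by
    intro i
    have := hg i
    rw [hw' i] at this
    exact this
  have e1 := NumB.two_genus T'
  have e2 := NumB.two_genus T
  rw [Fin.sum_univ_castSucc] at e2
  have hUl : NumB.U T (Fin.last n) = -T.w (Fin.last n) := by
    unfold NumB.U
    rw [h.1, h.2]; ring
  have hU : ∀ i : Fin n, T'.m i * NumB.U T' i =
      T.m i.castSucc * NumB.U T i.castSucc - T.a (Fin.last n) i.castSucc * T.m i.castSucc := by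
    intro i
    unfold NumB.U
    rw [hm i, hw' i, hg' i, ha' i i, two_wg T i, aNew_eq T h, a_symm T (Fin.last n) i.castSucc,
      a_last T i]
    ring
  have e3 : ∑ i : Fin n, T'.m i * NumB.U T' i =
      ∑ i : Fin n, T.m i.castSucc * NumB.U T i.castSucc -
        ∑ i : Fin n, T.a (Fin.last n) i.castSucc * T.m i.castSucc := by
    rw [← Finset.sum_sub_distrib]
    exact Finset.sum_congr rfl (fun i _ => hU i)
  have h2 := row T (Fin.last n)
  rw [h.2] at h2
  rw [e3] at e1
  rw [hUl] at e2
  linarith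

end Groth.Agent.Helper8.NumContr
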