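import Mathlib
import Groth.Prelude.Def_Models
import Groth.Agent.Helper8.NumContr

/-!
# Picard group of a numerical type under contraction of a (-1)-index (helper8)
-/

set_option autoImplicit false
open Finset

namespace Groth.Agent.Helper8.NumPic

open _root_.Models Groth.Agent.Helper8.NumContr

variable {n : ℕ} (T : Models.NumericalType (n + 1))

theorem wNew_cases (i : Fin n) :
    ∃ r s : ℤ, r * wNew T i = T.w i.castSucc ∧ r * s = 2 := by
  have hA := a_last T i
  have hA' := a_last' T i
  have hcd : T.w (Fin.last n) * cc T i = T.w i.castSucc * dd T i := by rw [← hA, ← hA']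
  by_cases hP : 2 ∣ cc T i ∧ ¬ 2 ∣ dd T i
  · have hwN : wNew T i = T.w i.castSucc / 2 := by
      unfold wNew; rw [if_pos]; exact hP
    obtain ⟨k, hk⟩ := hP.1
    have h2 : (2 : ℤ) ∣ T.w i.castSucc * dd T i := ⟨T.w (Fin.last n) * k, by rw [← hcd, hk]; ring⟩
    have hwe : (2 : ℤ) ∣ T.w i.castSucc := by
      rcases Int.prime_two.dvd_or_dvd h2 with h3 | h3
      · exact h3
      · exact absurd h3 hP.2
    refine ⟨2, 1, ?_, by norm_num⟩
    rw [hwN]; exact Int.mul_ediv_cancel' hwe
  · have hwN : wNew T i = T.w i.castSucc := by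
      unfold wNew; rw [if_neg]; exact hP
    exact ⟨1, 2, by rw [hwN]; ring, by norm_num⟩

theorem main (h : T.IsMinusOne (Fin.last n))
    (T' : Models.NumericalType n) (hT' : T.IsContraction T') :
    ∃ f : T.Pic →+ T'.Pic, Function.Injective f ∧ ∀ y : T'.Pic, ∃ x : T.Pic, 2 • y = f x := by
  obtain ⟨-, ha, hw, -⟩ := hT'
  have hw' : ∀ i, T'.w i = wNew T i := fun i => hw i
  have ha' : ∀ i j, T'.a i j = aNew T i j := fun i j => ha i j
  choose r s hr hs using wNew_cases T
  have hW := T.w_pos (Fin.last n)
  have hrne : ∀ i, r i ≠ 0 := fun i hi => by have := hs i; rw [hi, zero_mul] at this; omega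
  -- a_il = w'_i * (r_i d_i)
  have hal : ∀ i : Fin n, T.a i.castSucc (Fin.last n) = wNew T i * (r i * dd T i) := fun i => by
    rw [a_last' T i, ← hr i]; ring
  -- entries of the two Picard matrices
  have hP_last_last : T.picMatrix (Fin.last n) (Fin.last n) = -1 := by
    unfold NumericalType.picMatrix
    rw [h.2, Int.neg_ediv_of_dvd (dvd_refl _), Int.ediv_self hW.ne']
  have hP_cast_last : ∀ i : Fin n, T.picMatrix i.castSucc (Fin.last n) = dd T i := fun i => rfl
  have hP_last_cast : ∀ j : Fin n, T.picMatrix (Fin.last n) j.castSucc = cc T j := fun j => by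
    unfold NumericalType.picMatrix cc
    rw [a_symm T (Fin.last n) j.castSucc]
  have hP_cast_cast : ∀ i j : Fin n, T'.picMatrix i j =
      r i * T.picMatrix i.castSucc j.castSucc + r i * dd T i * cc T j := fun i j => by
    unfold NumericalType.picMatrix
    rw [hw' i, ha' i j, aNew_eq T h]
    have hwpos := wNew_pos T i
    have hdiv : T.a i.castSucc j.castSucc =
        T.w i.castSucc * (T.a i.castSucc j.castSucc / T.w i.castSucc) :=
      (Int.mul_ediv_cancel' (T.w_dvd _ _)).symm
    have e : T.a i.castSucc j.castSucc + T.w (Fin.last n) * cc T i * cc T j =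
        wNew T i * (r i * (T.a i.castSucc j.castSucc / T.w i.castSucc) + r i * dd T i * cc T j) := by
      have h1 : T.w (Fin.last n) * cc T i = wNew T i * (r i * dd T i) := by
        rw [← a_last T i, hal i]
      calc T.a i.castSucc j.castSucc + T.w (Fin.last n) * cc T i * cc T j
          = T.w i.castSucc * (T.a i.castSucc j.castSucc / T.w i.castSucc) +
            (T.w (Fin.last n) * cc T i) * cc T j := by rw [← hdiv]
        _ = wNew T i * (r i * (T.a i.castSucc j.castSucc / T.w i.castSucc) +
              r i * dd T i * cc T j) := by rw [h1, ← hr i]; ring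
    rw [e, Int.mul_ediv_cancel_left _ hwpos.ne']
  -- the linear map
  let F : (Fin (n + 1) → ℤ) →ₗ[ℤ] (Fin n → ℤ) :=
    { toFun := fun d i => r i * d i.castSucc + r i * dd T i * d (Fin.last n)
      map_add' := by intro x y; ext i; simp only [Pi.add_apply]; ring
      map_smul' := by
        intro c x; ext i
        simp only [Pi.smul_apply, smul_eq_mul, RingHom.id_apply]; ring }
  have hF : ∀ d i, F d i = r i * d i.castSucc + r i * dd T i * d (Fin.last n) := fun _ _ => rfl
  -- F ∘ P = P' ∘ restriction
  have hFP : ∀ x : Fin (n + 1) → ℤ,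
      F (T.picMatrix.mulVec x) = T'.picMatrix.mulVec (fun j => x j.castSucc) := by
    intro x
    ext i
    rw [hF]
    simp only [Matrix.mulVec, dotProduct]
    rw [Fin.sum_univ_castSucc, Fin.sum_univ_castSucc, hP_last_last, hP_cast_last]
    simp only [hP_last_cast, hP_cast_cast]
    have e1 : ∑ j : Fin n, (r i * T.picMatrix i.castSucc j.castSucc + r i * dd T i * cc T j) *
        x j.castSucc = r i * ∑ j : Fin n, T.picMatrix i.castSucc j.castSucc * x j.castSucc +
          r i * dd T i * ∑ j : Fin n, cc T j * x j.castSucc := by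
      rw [Finset.mul_sum, Finset.mul_sum, ← Finset.sum_add_distrib]
      exact Finset.sum_congr rfl fun j _ => by ring
    rw [e1]; ring
  have hsingle : ∀ (t : ℤ) (k : Fin (n + 1)),
      T.picMatrix.mulVec (Pi.single (Fin.last n) t) k = T.picMatrix k (Fin.last n) * t := by
    intro t k
    simp [Matrix.mulVec, dotProduct, Pi.single_apply]
  have hle : LinearMap.range (Matrix.mulVecLin T.picMatrix) ≤
      (LinearMap.range (Matrix.mulVecLin T'.picMatrix)).comap F := by
    rintro _ ⟨x, rfl⟩
    rw [Submodule.mem_comap, Matrix.mulVecLin_apply, hFP]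
    exact ⟨_, rfl⟩
  refine ⟨(Submodule.mapQ _ _ F hle).toAddMonoidHom, ?_, ?_⟩
  · -- injectivity
    rw [injective_iff_map_eq_zero]
    intro x hx
    induction x using Submodule.Quotient.induction_on with
    | H d =>
      rw [LinearMap.toAddMonoidHom_coe, Submodule.mapQ_apply,
        Submodule.Quotient.mk_eq_zero] at hx
      rw [Submodule.Quotient.mk_eq_zero]
      obtain ⟨y, hy⟩ := hx
      rw [Matrix.mulVecLin_apply] at hy
      -- extend y by zero
      have hy' : F (T.picMatrix.mulVec (Fin.snoc y 0 : Fin (n + 1) → ℤ)) = F d := by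
        rw [hFP, ← hy]
        congr 1
        ext j
        simp
      set d' : Fin (n + 1) → ℤ := d - T.picMatrix.mulVec (Fin.snoc y 0 : Fin (n + 1) → ℤ)
        with hd'
      have hFd' : F d' = 0 := by rw [hd', map_sub, hy', sub_self]
      have hd'eq : d' = T.picMatrix.mulVec (Pi.single (Fin.last n) (- d' (Fin.last n))) := by
        ext k
        rw [hsingle]
        refine Fin.lastCases ?_ (fun i => ?_) k
        · rw [hP_last_last]; ring
        · rw [hP_cast_last]
          have h0 := congrFun hFd' i
          rw [hF, Pi.zero_apply] at h0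
          have h1 : r i * (d' i.castSucc + dd T i * d' (Fin.last n)) = 0 := by
            rw [← h0]; ring
          rcases mul_eq_zero.mp h1 with h2 | h2
          · exact absurd h2 (hrne i)
          · linarith
      have : d = T.picMatrix.mulVec ((Fin.snoc y 0 : Fin (n + 1) → ℤ) +
          Pi.single (Fin.last n) (- d' (Fin.last n))) := by
        rw [Matrix.mulVec_add, ← hd'eq, hd']; abel
      exact ⟨_, by rw [Matrix.mulVecLin_apply]; exact this.symm⟩
  · intro y
    induction y using Submodule.Quotient.induction_on with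
    | H y =>
      refine ⟨Submodule.Quotient.mk (Fin.snoc (fun i => s i * y i) 0), ?_⟩
      rw [LinearMap.toAddMonoidHom_coe, Submodule.mapQ_apply, ← Submodule.Quotient.mk_smul]
      congr 1
      ext i
      rw [hF]
      simp only [Pi.smul_apply, Fin.snoc_castSucc, Fin.snoc_last, mul_zero, add_zero]
      rw [← mul_assoc, hs i, two_nsmul]; ring

end Groth.Agent.Helper8.NumPic
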