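import Mathlib
import Groth.Prelude.Def_Models
import Groth.Agent.Helper8.NumPic

/-!
# Permuting the indices of a numerical type; `Pic ≃ ℤ` when the genus is `≤ 0` (helper8)
-/

set_option autoImplicit false
open Finset

namespace Groth.Agent.Helper8.NumPerm

open _root_.Models Groth.Agent.Helper8.NumContr

variable {n : ℕ} (T : Models.NumericalType n) (σ : Equiv.Perm (Fin n))

/-- reindexing a numerical type along a permutation -/
def perm : Models.NumericalType n where
  m := fun i => T.m (σ i)
  a := T.a.submatrix σ σ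
  w := fun i => T.w (σ i)
  g := fun i => T.g (σ i)
  pos := T.pos
  m_pos := fun i => T.m_pos _
  w_pos := fun i => T.w_pos _
  g_nonneg := fun i => T.g_nonneg _
  symm := T.symm.submatrix σ
  offDiag_nonneg := fun i j hij => T.offDiag_nonneg _ _ (fun h => hij (σ.injective h))
  connected := by
    intro I hI hI'
    have h1 : (I.map σ.toEmbedding).Nonempty := hI.map
    have h2 : I.map σ.toEmbedding ≠ univ := by
      intro h
      apply hI'
      rw [Finset.eq_univ_iff_forall] at h ⊢
      intro x
      have := h (σ x)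
      rw [Finset.mem_map] at this
      obtain ⟨y, hy, hyx⟩ := this
      have : y = x := σ.injective hyx
      exact this ▸ hy
    obtain ⟨i, hi, j, hj, hij⟩ := T.connected _ h1 h2
    rw [Finset.mem_map] at hi
    obtain ⟨i0, hi0, rfl⟩ := hi
    refine ⟨i0, hi0, σ.symm j, ?_, ?_⟩
    · intro hj'
      apply hj
      rw [Finset.mem_map]
      exact ⟨σ.symm j, hj', by simp⟩
    · simpa [Matrix.submatrix_apply] using hij
  mulVec_m := by
    funext i
    have h := Groth.Agent.Helper1.Models.row_sum T (σ i)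
    simp only [Matrix.mulVec, dotProduct, Matrix.submatrix_apply, Pi.zero_apply]
    rw [← h]
    exact Equiv.sum_comp σ (fun k => T.a (σ i) k * T.m k)
  w_dvd := fun i j => T.w_dvd _ _

theorem genus_perm : (perm T σ).genus = T.genus := by
  unfold Models.NumericalType.genus
  have h1 : ∑ i, (perm T σ).m i * (perm T σ).w i * ((perm T σ).g i - 1) =
      ∑ i, T.m i * T.w i * (T.g i - 1) :=
    Equiv.sum_comp σ (fun k => T.m k * T.w k * (T.g k - 1))
  have h2 : ∑ i, (perm T σ).m i * (perm T σ).a i i = ∑ i, T.m i * T.a i i :=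
    Equiv.sum_comp σ (fun k => T.m k * T.a k k)
  rw [h1, h2]

theorem isMinusOne_perm (i : Fin n) : (perm T σ).IsMinusOne i ↔ T.IsMinusOne (σ i) := Iff.rfl

theorem picMatrix_perm : (perm T σ).picMatrix = T.picMatrix.submatrix σ σ := rfl

/-- an injective homomorphism `Pic T → Pic (perm T σ)` -/
theorem exists_pic_perm : ∃ f : T.Pic →+ (perm T σ).Pic, Function.Injective f := by
  have hL : ∀ x : Fin n → ℤ, (perm T σ).picMatrix.mulVec (x ∘ σ) = (T.picMatrix.mulVec x) ∘ σ := by
    intro x
    rw [picMatrix_perm, Matrix.submatrix_mulVec_equiv]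
    congr 2
    ext k
    simp
  have hle : LinearMap.range (Matrix.mulVecLin T.picMatrix) ≤
      (LinearMap.range (Matrix.mulVecLin (perm T σ).picMatrix)).comap
        (LinearMap.funLeft ℤ ℤ σ) := by
    rintro _ ⟨x, rfl⟩
    rw [Submodule.mem_comap, Matrix.mulVecLin_apply]
    refine ⟨x ∘ σ, ?_⟩
    rw [Matrix.mulVecLin_apply, hL]
    rfl
  refine ⟨(Submodule.mapQ _ _ (LinearMap.funLeft ℤ ℤ σ) hle).toAddMonoidHom, ?_⟩
  rw [injective_iff_map_eq_zero]
  intro x hx
  induction x using Submodule.Quotient.induction_on with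
  | H d =>
    rw [LinearMap.toAddMonoidHom_coe, Submodule.mapQ_apply, Submodule.Quotient.mk_eq_zero] at hx
    rw [Submodule.Quotient.mk_eq_zero]
    obtain ⟨y, hy⟩ := hx
    rw [Matrix.mulVecLin_apply] at hy
    refine ⟨y ∘ σ.symm, ?_⟩
    rw [Matrix.mulVecLin_apply]
    have h1 := hL (y ∘ σ.symm)
    have h2 : (y ∘ σ.symm) ∘ σ = y := by ext k; simp
    rw [h2, hy] at h1
    ext k
    have := congrFun h1 (σ.symm k)
    simp only [Function.comp_apply, LinearMap.funLeft_apply, Equiv.apply_symm_apply] at this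
    exact this.symm

/-- the degree functional `d ↦ ∑ w_i m_i d_i` on `Pic T` -/
theorem exists_deg : ∃ ψ : T.Pic →+ ℤ, ∀ d : Fin n → ℤ,
    ψ (Submodule.Quotient.mk d) = ∑ i, T.w i * T.m i * d i := by
  let ψ0 : (Fin n → ℤ) →ₗ[ℤ] ℤ :=
    { toFun := fun d => ∑ i, T.w i * T.m i * d i
      map_add' := by
        intro x y
        rw [← Finset.sum_add_distrib]
        exact Finset.sum_congr rfl fun i _ => by simp only [Pi.add_apply]; ring
      map_smul' := by
        intro c x
        simp only [Pi.smul_apply, smul_eq_mul, RingHom.id_apply]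
        rw [Finset.mul_sum]
        exact Finset.sum_congr rfl fun i _ => by ring }
  have hker : LinearMap.range (Matrix.mulVecLin T.picMatrix) ≤ LinearMap.ker ψ0 := by
    rintro _ ⟨x, rfl⟩
    rw [LinearMap.mem_ker, Matrix.mulVecLin_apply]
    change ∑ i, T.w i * T.m i * (T.picMatrix.mulVec x) i = 0
    simp only [Matrix.mulVec, dotProduct, Finset.mul_sum]
    rw [Finset.sum_comm]
    apply Finset.sum_eq_zero
    intro j _
    have h1 : ∀ i, T.w i * T.m i * (T.picMatrix i j * x j) = x j * (T.a j i * T.m i) := by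
      intro i
      have : T.w i * T.picMatrix i j = T.a i j := Int.mul_ediv_cancel' (T.w_dvd i j)
      rw [NumG.a_symm T j i, ← this]; ring
    rw [Finset.sum_congr rfl fun i _ => h1 i, ← Finset.mul_sum,
      Groth.Agent.Helper1.Models.row_sum T j, mul_zero]
  exact ⟨(Submodule.liftQ _ ψ0 hker).toAddMonoidHom, fun d => rfl⟩

theorem infinite_pic : Infinite T.Pic := by
  obtain ⟨ψ, hψ⟩ := exists_deg T
  by_contra hfin
  rw [not_infinite_iff_finite] at hfin
  let i0 : Fin n := ⟨0, T.pos⟩
  set x : T.Pic := Submodule.Quotient.mk (Pi.single i0 1) with hx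
  have hord := isOfFinAddOrder_of_finite x
  obtain ⟨k, hk, hkx⟩ := hord.exists_nsmul_eq_zero
  have h1 : ψ (k • x) = 0 := by rw [hkx, map_zero]
  rw [map_nsmul, hx, hψ] at h1
  have h2 : ∑ i, T.w i * T.m i * (Pi.single i0 (1 : ℤ) : Fin n → ℤ) i = T.w i0 * T.m i0 := by
    simp [Pi.single_apply]
  rw [h2] at h1
  have h3 : 0 < T.w i0 * T.m i0 := mul_pos (T.w_pos _) (T.m_pos _)
  have h4 : (k : ℤ) * (T.w i0 * T.m i0) = 0 := by simpa using h1
  have hk' : (0 : ℤ) < k := by exact_mod_cast hk
  nlinarith

theorem exists_injective_one (T : Models.NumericalType 1) :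
    ∃ j : T.Pic →+ ℤ, Function.Injective j := by
  have ha : T.a 0 0 = 0 := by
    have h := Groth.Agent.Helper1.Models.row_sum T 0
    simp only [Fin.sum_univ_one] at h
    rcases mul_eq_zero.mp h with h | h
    · exact h
    · exact absurd h (T.m_pos 0).ne'
  have hP : ∀ x : Fin 1 → ℤ, T.picMatrix.mulVec x = 0 := by
    intro x
    ext i
    have hi : i = 0 := Subsingleton.elim _ _
    subst hi
    simp [Matrix.mulVec, dotProduct, Models.NumericalType.picMatrix, ha]
  let ψ0 : (Fin 1 → ℤ) →ₗ[ℤ] ℤ := LinearMap.proj 0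
  have hker : LinearMap.range (Matrix.mulVecLin T.picMatrix) ≤ LinearMap.ker ψ0 := by
    rintro _ ⟨x, rfl⟩
    rw [LinearMap.mem_ker, Matrix.mulVecLin_apply, hP]
    rfl
  refine ⟨(Submodule.liftQ _ ψ0 hker).toAddMonoidHom, ?_⟩
  rw [injective_iff_map_eq_zero]
  intro x hx
  induction x using Submodule.Quotient.induction_on with
  | H d =>
    have hd0 : d 0 = 0 := hx
    have : d = 0 := by
      ext i
      have hi : i = 0 := Subsingleton.elim _ _
      subst hi
      exact hd0
    rw [this]; rfl

theorem exists_injective : ∀ (n : ℕ) (T : Models.NumericalType n), T.genus ≤ 0 →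
    ∃ j : T.Pic →+ ℤ, Function.Injective j := by
  intro n
  induction n with
  | zero => intro T; exact absurd T.pos (lt_irrefl 0)
  | succ n ih =>
    intro T hg
    by_cases hn : n = 0
    · subst hn
      exact exists_injective_one T
    · have hn1 : 1 < n + 1 := by omega
      have hnm : ¬ T.IsMinimal := by
        intro hmin
        have h1 := NumB.two_genus T
        have h2 : 0 ≤ ∑ i, T.m i * NumB.U T i :=
          Finset.sum_nonneg fun i _ => mul_nonneg (T.m_pos i).le (NumB.U_nonneg T hn1 hmin i)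
        omega
      unfold Models.NumericalType.IsMinimal at hnm
      push Not at hnm
      obtain ⟨i0, hi0⟩ := hnm
      set σ : Equiv.Perm (Fin (n + 1)) := Equiv.swap i0 (Fin.last n) with hσ
      have hlast : (perm T σ).IsMinusOne (Fin.last n) := by
        rw [isMinusOne_perm, hσ, Equiv.swap_apply_right]
        exact hi0
      set T' := contr (perm T σ) hlast with hT'
      have hgen : T'.genus ≤ 0 := by
        rw [genus_eq (perm T σ) hlast T' (isContraction_contr (perm T σ) hlast), genus_perm]
        exact hg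
      obtain ⟨j', hj'⟩ := ih T' hgen
      obtain ⟨f, hf, -⟩ := NumPic.main (perm T σ) hlast T' (isContraction_contr (perm T σ) hlast)
      obtain ⟨p, hp⟩ := exists_pic_perm T σ
      exact ⟨j'.comp (f.comp p), hj'.comp (hf.comp hp)⟩

theorem main (hg : T.genus ≤ 0) : Nonempty (T.Pic ≃+ ℤ) := by
  obtain ⟨j, hj⟩ := exists_injective n T hg
  have : IsAddCyclic T.Pic := isAddCyclic_of_injective j hj
  have : Infinite T.Pic := infinite_pic T
  exact ⟨(intCyclicAddEquiv (G := T.Pic)).symm⟩

end Groth.Agent.Helper8.NumPerm
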