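import Mathlib.FieldTheory.PerfectClosure
import Mathlib.RingTheory.RingHom.FaithfullyFlat
import Mathlib.Algebra.BigOperators.Finsupp.Basic
import Mathlib.RingTheory.Flat.EquationalCriterion

universe u
open PerfectClosure

namespace Groth.Agent.Helper8.PerfFlat

theorem flat_of_semilinear_basis {R S : Type*} [CommRing R] [CommRing S] (f : R →+* S)
    {E : Type*} (b : E → S)
    (hb : Function.Bijective (fun c : E →₀ R => c.sum (fun e r => f r * b e))) : f.Flat := by
  algebraize [f]
  have : Module.Free R S := by
    let L : (E →₀ R) →ₗ[R] S := Finsupp.linearCombination R b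
    have hL : ⇑L = fun c : E →₀ R => c.sum (fun e r => f r * b e) := by
      ext c
      simp only [L, Finsupp.linearCombination_apply, Algebra.smul_def]
      rfl
    exact Module.Free.of_equiv (LinearEquiv.ofBijective L (hL ▸ hb))
  exact inferInstanceAs (Module.Flat R S)

theorem trivial_relation_of_flat {R S : Type*} [CommRing R] [CommRing S] (g : R →+* S)
    (hg : g.Flat) {l : ℕ} (f : Fin l → R) (r : Fin l → S) (h : ∑ i, g (f i) * r i = 0) :
    ∃ (k : ℕ) (a : Fin l → Fin k → R) (y : Fin k → S),
      (∀ i, r i = ∑ j, g (a i j) * y j) ∧ ∀ j, ∑ i, f i * a i j = 0 := by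
  algebraize [g]
  have : Module.Flat R S := hg
  have h' : ∑ i, f i • r i = 0 := by
    simpa only [Algebra.smul_def, RingHom.algebraMap_toAlgebra] using h
  obtain ⟨k, a, y, h1, h2⟩ := Module.Flat.isTrivialRelation_of_sum_smul_eq_zero h'
  exact ⟨k, a, y, fun i => by rw [h1 i]; simp only [Algebra.smul_def]; rfl, h2⟩

section
variable (p : ℕ) [Fact p.Prime] (R : Type u) [CommRing R] [CharP R p]

theorem iterateFrobenius_flat (h : (frobenius R p).Flat) (n : ℕ) :
    (iterateFrobenius R p n).Flat := by
  induction n with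
  | zero => rw [iterateFrobenius_zero]; exact RingHom.Flat.id R
  | succ n ih =>
    have : iterateFrobenius R p (n + 1) = (frobenius R p).comp (iterateFrobenius R p n) := by
      ext a
      simp [iterateFrobenius_def, frobenius_def, pow_succ, pow_mul]
    rw [this]
    exact ih.comp h

theorem exists_common (l : ℕ) (x : Fin l → PerfectClosure R p) :
    ∃ (n : ℕ) (r : Fin l → R), ∀ i, x i = mk R p (n, r i) := by
  choose s hs using fun i => mk_surjective R p (x i)
  refine ⟨Finset.univ.sup fun i => (s i).1,
    fun i => (frobenius R p)^[Finset.univ.sup (fun i => (s i).1) - (s i).1] (s i).2, fun i => ?_⟩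
  have hle : (s i).1 ≤ Finset.univ.sup fun i => (s i).1 :=
    Finset.le_sup (f := fun i => (s i).1) (Finset.mem_univ i)
  rw [← hs i]
  have := PerfectClosure.R.sound R p (Finset.univ.sup (fun i => (s i).1) - (s i).1) (s i).1 (s i).2 _ rfl
  rw [Nat.sub_add_cancel hle] at this
  exact this

theorem of_injective (hinj : Function.Injective (frobenius R p)) :
    Function.Injective (of R p) := by
  intro a b hab
  rw [of_apply, of_apply, mk_eq_iff] at hab
  obtain ⟨z, hz⟩ := hab
  exact (hinj.iterate _) hz

theorem iterFrob_mk (n : ℕ) (y : R) :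
    iterateFrobenius (PerfectClosure R p) p n (mk R p (n, y)) = of R p y := by
  rw [← iterate_frobenius_mk R p n y, coe_iterateFrobenius]

theorem iterFrob_of (n : ℕ) (a : R) :
    iterateFrobenius (PerfectClosure R p) p n (of R p a) = of R p (iterateFrobenius R p n a) := by
  simp [iterateFrobenius_def]

theorem iterFrob_injective (n : ℕ) :
    Function.Injective (iterateFrobenius (PerfectClosure R p) p n) := by
  rw [coe_iterateFrobenius]
  exact (injective_frobenius (PerfectClosure R p) p).iterate n

theorem of_flat (hinj : Function.Injective (frobenius R p))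
    (hfl : ∀ n, (iterateFrobenius R p n).Flat) : (of R p).Flat := by
  algebraize [of R p]
  have hsm : ∀ (a : R) (y : PerfectClosure R p), a • y = of R p a * y := fun a y => rfl
  suffices Module.Flat R (PerfectClosure R p) from this
  apply Module.Flat.of_forall_isTrivialRelation
  intro l f x h
  obtain ⟨n, r, hr⟩ := exists_common p R l x
  have h2 : ∑ i, iterateFrobenius R p n (f i) * r i = 0 := by
    apply of_injective p R hinj
    have := congrArg (iterateFrobenius (PerfectClosure R p) p n) h
    simp only [hsm, map_sum, map_mul, map_zero, hr, iterFrob_mk, iterFrob_of] at this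
    simpa only [map_sum, map_mul, map_zero] using this
  obtain ⟨k, a, y, h3, h4⟩ := trivial_relation_of_flat (iterateFrobenius R p n) (hfl n) f r h2
  refine ⟨k, a, fun j => mk R p (n, y j), fun i => ?_, h4⟩
  apply iterFrob_injective p R n
  simp only [hsm, map_sum, map_mul, hr, iterFrob_mk, iterFrob_of]
  rw [h3 i]
  simp only [map_sum, map_mul]

theorem map_ne_top (m : Ideal R) (hm : m ≠ ⊤) : Ideal.map (of R p) m ≠ ⊤ := by
  intro h
  have hp : 0 < p := (Fact.out : p.Prime).pos
  have key : ∀ y ∈ Ideal.map (of R p) m, ∃ n, ∃ r ∈ m, y = mk R p (n, r) := by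
    intro y hy
    refine Submodule.span_induction ?_ ?_ ?_ ?_ hy
    · rintro _ ⟨a, ha, rfl⟩; exact ⟨0, a, ha, rfl⟩
    · exact ⟨0, 0, m.zero_mem, rfl⟩
    · rintro y z _ _ ⟨n, r, hr, rfl⟩ ⟨n', r', hr', rfl⟩
      refine ⟨n + n', _, m.add_mem ?_ ?_, mk_add_mk R p _ _⟩
      · rw [iterate_frobenius]; exact Ideal.pow_mem_of_mem _ hr _ (pow_pos hp _)
      · rw [iterate_frobenius]; exact Ideal.pow_mem_of_mem _ hr' _ (pow_pos hp _)
    · rintro c y _ ⟨n, r, hr, rfl⟩
      induction c using PerfectClosure.induction_on with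
      | h c =>
        obtain ⟨n', s⟩ := c
        refine ⟨n' + n, _, m.mul_mem_left _ ?_, by rw [smul_eq_mul, mk_mul_mk]⟩
        rw [iterate_frobenius]; exact Ideal.pow_mem_of_mem _ hr _ (pow_pos hp _)
  obtain ⟨n, r, hr, h1⟩ := key 1 (h ▸ Submodule.mem_top)
  rw [one_def, mk_eq_iff] at h1
  obtain ⟨z, hz⟩ := h1
  apply hm
  rw [Ideal.eq_top_iff_one]
  simp only [iterate_frobenius, one_pow] at hz
  rw [hz]
  exact Ideal.pow_mem_of_mem _ hr _ (pow_pos hp _)

end

theorem main (p : ℕ) [Fact p.Prime]
    (R : Type u) [CommRing R] [CharP R p] (ι : Type u) (x : ι → R)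
    (hx : Function.Bijective
      (fun c : {e : ι →₀ ℕ // ∀ i, e i < p} →₀ R =>
        c.sum (fun e r => r ^ p * e.1.prod (fun i n => x i ^ n)))) :
    (PerfectClosure.of R p).FaithfullyFlat := by
  have hp : 0 < p := (Fact.out : p.Prime).pos
  have hF : (frobenius R p).Flat :=
    flat_of_semilinear_basis (frobenius R p)
      (fun e : {e : ι →₀ ℕ // ∀ i, e i < p} => e.1.prod fun i n => x i ^ n)
      (by simpa only [frobenius_def] using hx)
  have hinj : Function.Injective (frobenius R p) := by
    intro a b hab
    let e0 : {e : ι →₀ ℕ // ∀ i, e i < p} := ⟨0, fun i => by simpa using hp⟩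
    have := hx.1 (a₁ := Finsupp.single e0 a) (a₂ := Finsupp.single e0 b) (by
      simp only [frobenius_def] at hab
      beta_reduce
      rw [Finsupp.sum_single_index (by simp [hp.ne']),
        Finsupp.sum_single_index (by simp [hp.ne']), hab])
    exact Finsupp.single_injective _ this
  have hfl := of_flat p R hinj (iterateFrobenius_flat p R hF)
  rw [RingHom.FaithfullyFlat]
  let _ : Algebra R (PerfectClosure R p) := (of R p).toAlgebra
  refine @Module.FaithfullyFlat.mk _ _ _ _ _ hfl ?_
  intro m hm htop
  rw [Ideal.smul_top_eq_map] at htop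
  apply map_ne_top p R m hm.ne_top
  apply Submodule.restrictScalars_injective R
  exact htop

end Groth.Agent.Helper8.PerfFlat
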