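import Mathlib
import Groth.Agent.Helper8.GeomReg6
set_option autoImplicit false
universe u

namespace Groth.Agent.Helper8.ArtLift
open Groth.Agent.Helper8.GeomReg IsLocalRing

section
variable (R S : Type u) [CommRing R] [CommRing S] [Algebra R S] (𝔫 : Ideal S)

/-- lifting along square-zero surjections for surjective `g`, kernel killed by `𝔫`. -/
def SurjSmallLift : Prop :=
  ∀ (E F : Type u) [CommRing E] [CommRing F] [Algebra R E] [Algebra R F] (π : E →ₐ[R] F),
    Function.Surjective π → (RingHom.ker (π : E →+* F)) ^ 2 = ⊥ →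
    ∀ g : S →ₐ[R] F, Function.Surjective g → (∃ t : ℕ, ∀ x ∈ 𝔫 ^ t, g x = 0) →
      (∀ a ∈ 𝔫, ∀ e : E, π e = g a → ∀ j ∈ RingHom.ker (π : E →+* F), e * j = 0) →
      ∃ v : S →ₐ[R] E, π.comp v = g

variable {R S 𝔫}

theorem smallLift_of_surjSmallLift (H : SurjSmallLift R S 𝔫) : SmallLift R S 𝔫 1 := by
  intro E F _ _ _ _ π hπ hsq g ht hcond
  let F' : Subalgebra R F := g.range
  let E' : Subalgebra R E := F'.comap π
  have hE' : ∀ e : E', π (e : E) ∈ F' := fun e => e.2
  let π' : E' →ₐ[R] F' := (π.comp E'.val).codRestrict F' (fun e => hE' e)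
  have hπ' : Function.Surjective π' := by
    rintro ⟨y, hy⟩
    obtain ⟨s, rfl⟩ := hy
    obtain ⟨e, he⟩ := hπ (g s)
    exact ⟨⟨e, by change π e ∈ F'; rw [he]; exact ⟨s, rfl⟩⟩, Subtype.ext he⟩
  have hker : ∀ x : E', x ∈ RingHom.ker (π' : E' →+* F') ↔
      (x : E) ∈ RingHom.ker (π : E →+* F) := by
    intro x
    rw [RingHom.mem_ker, RingHom.mem_ker]
    constructor
    · intro h; exact congrArg Subtype.val h
    · intro h; exact Subtype.ext h
  have hsq' : (RingHom.ker (π' : E' →+* F')) ^ 2 = ⊥ := by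
    rw [eq_bot_iff, pow_two, Ideal.mul_le]
    intro x hx y hy
    rw [Ideal.mem_bot]
    apply Subtype.ext
    have : (x : E) * (y : E) ∈ (RingHom.ker (π : E →+* F)) ^ 2 := by
      rw [pow_two]; exact Ideal.mul_mem_mul ((hker x).mp hx) ((hker y).mp hy)
    rw [hsq] at this
    exact this
  let g' : S →ₐ[R] F' := g.rangeRestrict
  have hg' : Function.Surjective g' := g.rangeRestrict_surjective
  obtain ⟨t, ht⟩ := ht
  obtain ⟨v', hv'⟩ := H E' F' π' hπ' hsq' g' hg' ⟨t, fun x hx => Subtype.ext (ht x hx)⟩ (by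
    intro a ha e he j hj
    apply Subtype.ext
    have he' : π (e : E) = g a := congrArg Subtype.val he
    exact hcond a (by rwa [pow_one]) e he' j ((hker j).mp hj))
  refine ⟨E'.val.comp v', ?_⟩
  ext s
  exact congrArg (fun φ => ((φ s : F') : F)) hv'

theorem isAdicFormallySmooth_of_surjSmallLift (H : SurjSmallLift R S 𝔫) :
    CAlgX.IsAdicFormallySmooth R S 𝔫 :=
  isAdicFormallySmooth_of_smallLift (smallLift_of_surjSmallLift H)

end

section hyper
variable {E : Type u} [CommRing E] [IsLocalRing E]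

theorem exists_hyperplane (N : Ideal E) (hkill : ∀ e ∈ maximalIdeal E, ∀ j ∈ N, e * j = 0)
    (n : E) (hn : n ∈ N) (hn0 : n ≠ 0) :
    ∃ N' : Ideal E, N' ≤ N ∧ n ∉ N' ∧ N = N' ⊔ Ideal.span {n} := by
  let s : Set (Ideal E) := {I | I ≤ N ∧ n ∉ I}
  have hbot : (⊥ : Ideal E) ∈ s := ⟨bot_le, by simpa using hn0⟩
  obtain ⟨N', -, hmax⟩ := zorn_le_nonempty₀ s (by
    intro c hc hchain y hy
    refine ⟨sSup c, ⟨sSup_le fun I hI => (hc hI).1, ?_⟩, fun z hz => le_sSup hz⟩
    intro hmem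
    obtain ⟨I, hI, hnI⟩ := (Submodule.mem_sSup_of_directed ⟨y, hy⟩ hchain.directedOn).mp hmem
    exact (hc hI).2 hnI) ⊥ hbot
  obtain ⟨⟨hN'le, hnN'⟩, hmax'⟩ := hmax
  refine ⟨N', hN'le, hnN', le_antisymm ?_ (sup_le hN'le ((Ideal.span_singleton_le_iff_mem _).mpr hn))⟩
  intro v hv
  by_cases hvN' : v ∈ N'
  · exact Submodule.mem_sup_left hvN'
  · have hN'' : N' ⊔ Ideal.span {v} ≤ N := sup_le hN'le ((Ideal.span_singleton_le_iff_mem _).mpr hv)
    have hnN'' : n ∈ N' ⊔ Ideal.span {v} := by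
      by_contra hcon
      have := hmax' ⟨hN'', hcon⟩ le_sup_left
      exact hvN' (this (Submodule.mem_sup_right (Ideal.subset_span rfl)))
    obtain ⟨n', hn', w, hw, hsum⟩ := Submodule.mem_sup.mp hnN''
    obtain ⟨a, rfl⟩ := Ideal.mem_span_singleton'.mp hw
    by_cases ha : a ∈ maximalIdeal E
    · exfalso
      rw [hkill a ha v hv, add_zero] at hsum
      exact hnN' (hsum ▸ hn')
    · have hau : IsUnit a := by
        by_contra h
        exact ha ((mem_maximalIdeal a).mpr h)
      obtain ⟨u, rfl⟩ := hau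
      have hv' : v = ↑u⁻¹ * n - ↑u⁻¹ * n' := by
        have h1 : ((↑u⁻¹ : E)) * ↑u = 1 := Units.inv_mul u
        rw [← hsum]; linear_combination (-v) * h1
      rw [hv']
      refine Submodule.sub_mem _ (Submodule.mem_sup_right ?_) (Submodule.mem_sup_left ?_)
      · exact Ideal.mul_mem_left _ _ (Ideal.subset_span rfl)
      · exact Ideal.mul_mem_left _ _ hn'

end hyper

section KL
variable {R S E F : Type u} [CommRing R] [CommRing S] [CommRing E] [CommRing F]
  [Algebra R S] [Algebra R E] [Algebra R F] [IsLocalRing E]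

theorem exists_lift_of_hyperplanes_aux {P : Type u} [CommRing P] [Algebra R P]
    (p₁ : P →ₐ[R] E) (p₂ : P →ₐ[R] S) (hp₂ : Function.Surjective p₂)
    (hjoint : ∀ x : P, p₁ x = 0 → p₂ x = 0 → x = 0)
    (𝔪 : Ideal S) [𝔪.IsMaximal] (π : E →ₐ[R] F)
    (hsq : (RingHom.ker (π : E →+* F)) ^ 2 = ⊥) (g : S →ₐ[R] F)
    (hPmem : ∀ x : P, π (p₁ x) = g (p₂ x))
    (hkillS : ∀ a ∈ 𝔪, ∀ e : E, π e = g a → ∀ j ∈ RingHom.ker (π : E →+* F), e * j = 0)
    (hkillE : ∀ e ∈ maximalIdeal E, ∀ j ∈ RingHom.ker (π : E →+* F), e * j = 0)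
    (H : ∀ (N' : Ideal E) (hN' : N' ≤ RingHom.ker (π : E →+* F)) (n : E),
      n ∈ RingHom.ker (π : E →+* F) → n ∉ N' →
      RingHom.ker (π : E →+* F) = N' ⊔ Ideal.span {n} →
      ∃ χ' : S →ₐ[R] E ⧸ N', ∀ s, Ideal.Quotient.liftₐ N' π (fun x hx => hN' hx) (χ' s) = g s) :
    ∃ χ : S →ₐ[R] E, π.comp χ = g := by
  classical
  set N : Ideal E := RingHom.ker (π : E →+* F) with hN
  have hNN : ∀ x ∈ N, ∀ y ∈ N, x * y = 0 := by
    intro x hx y hy
    have : x * y ∈ N ^ 2 := by rw [pow_two]; exact Ideal.mul_mem_mul hx hy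
    rwa [hsq] at this
  set NP : Ideal P := RingHom.ker (p₂ : P →+* S) with hNP
  have hNPmem : ∀ x : P, x ∈ NP ↔ p₂ x = 0 := fun x => RingHom.mem_ker
  have hNP1 : ∀ x ∈ NP, p₁ x ∈ N := by
    intro x hx
    rw [hN, RingHom.mem_ker]
    change π (p₁ x) = 0
    rw [hPmem, (hNPmem x).mp hx, map_zero]
  set MP : Ideal P := 𝔪.comap (p₂ : P →+* S) with hMP
  haveI : MP.IsMaximal := Ideal.comap_isMaximal_of_surjective _ hp₂
  have hNM : NP ≤ MP := fun x hx => by
    rw [hMP, Ideal.mem_comap, RingHom.mem_ker.mp hx]; exact 𝔪.zero_mem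
  have hkillP : ∀ a ∈ MP, ∀ x ∈ NP, a * x = 0 := by
    intro a ha x hx
    apply hjoint
    · rw [map_mul]
      exact hkillS _ ha _ (hPmem a) _ (hNP1 x hx)
    · rw [map_mul, (hNPmem x).mp hx, mul_zero]
  letI : Field (P ⧸ MP) := Ideal.Quotient.field MP
  have htors : Module.IsTorsionBySet P NP (MP : Set P) :=
    fun x a => Subtype.ext (hkillP a.1 a.2 x.1 x.2)
  letI : Module (P ⧸ MP) NP := htors.module
  haveI : IsScalarTower P (P ⧸ MP) NP := htors.isScalarTower
  let ι₀ : NP →ₗ[P] Ω[P⁄R] ⧸ (MP • (⊤ : Submodule P Ω[P⁄R])) :=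
    { toFun := fun x => Submodule.Quotient.mk (KaehlerDifferential.D R P x.1)
      map_add' := fun x y => by
        rw [Submodule.coe_add, map_add, Submodule.Quotient.mk_add]
      map_smul' := fun a x => by
        rw [RingHom.id_apply, Submodule.coe_smul, smul_eq_mul, Derivation.leibniz,
          Submodule.Quotient.mk_add, Submodule.Quotient.mk_smul]
        have : Submodule.Quotient.mk (p := MP • (⊤ : Submodule P Ω[P⁄R]))
            ((x : P) • KaehlerDifferential.D R P a) = 0 := by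
          rw [Submodule.Quotient.mk_eq_zero]
          exact Submodule.smul_mem_smul (hNM x.2) Submodule.mem_top
        rw [this, add_zero] }
  have hι₀ : ∀ x : NP, ι₀ x = Submodule.Quotient.mk (KaehlerDifferential.D R P x.1) := fun _ => rfl
  -- injectivity of ι₀
  have hinj : Function.Injective ι₀ := by
    rw [injective_iff_map_eq_zero]
    intro x hx
    by_contra hne
    set n : E := p₁ x.1 with hn
    have hnN : n ∈ N := hNP1 x.1 x.2
    have hn0 : n ≠ 0 := by
      intro h0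
      apply hne
      apply Subtype.ext
      exact hjoint _ h0 ((hNPmem x.1).mp x.2)
    obtain ⟨N', hN'le, hnN', hspan⟩ := exists_hyperplane N hkillE n hnN hn0
    obtain ⟨χ', hχ'⟩ := H N' hN'le n hnN hnN' hspan
    let πb : E ⧸ N' →ₐ[R] F := Ideal.Quotient.liftₐ N' π (fun x hx => hN'le hx)
    have hπb : ∀ e, πb (Ideal.Quotient.mk N' e) = π e := fun e => rfl
    have hkerb : ∀ u v : E ⧸ N', πb u = 0 → πb v = 0 → u * v = 0 := by
      intro u v hu hv
      obtain ⟨e₁, rfl⟩ := Ideal.Quotient.mk_surjective u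
      obtain ⟨e₂, rfl⟩ := Ideal.Quotient.mk_surjective v
      rw [← map_mul, hNN e₁ hu e₂ hv, map_zero]
    letI : Algebra P E := p₁.toRingHom.toAlgebra
    haveI : IsScalarTower R P E := IsScalarTower.of_algebraMap_eq (fun r => (p₁.commutes r).symm)
    have hsm : ∀ (a : P) (y : E ⧸ N'), a • y = Ideal.Quotient.mk N' (p₁ a) * y := fun a y => by
      rw [Algebra.smul_def]; rfl
    let D'l : P →ₗ[R] E ⧸ N' :=
      ((Ideal.Quotient.mkₐ R N').comp p₁).toLinearMap - (χ'.comp p₂).toLinearMap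
    have hD'l : ∀ a, D'l a = Ideal.Quotient.mk N' (p₁ a) - χ' (p₂ a) := fun a => rfl
    have hD'ker : ∀ a, πb (D'l a) = 0 := by
      intro a
      rw [hD'l, map_sub, hπb, hχ']
      exact sub_eq_zero.mpr (hPmem a)
    let d' : Derivation R P (E ⧸ N') := Derivation.mk' D'l (by
      intro a b
      rw [hsm, hsm]
      have h0 := hkerb _ _ (hD'ker a) (hD'ker b)
      rw [hD'l, hD'l] at h0 ⊢
      rw [hD'l, map_mul, map_mul, map_mul, map_mul]
      linear_combination (-1 : E ⧸ N') * h0)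
    have hd' : ∀ a, d' a = Ideal.Quotient.mk N' (p₁ a) - χ' (p₂ a) := fun a => rfl
    let Λ' : Ω[P⁄R] →ₗ[P] E ⧸ N' := d'.liftKaehlerDifferential
    have hΛ'D : ∀ a, Λ' (KaehlerDifferential.D R P a) = d' a := fun a =>
      Derivation.liftKaehlerDifferential_comp_D d' a
    have hrange : ∀ ω, πb (Λ' ω) = 0 := by
      intro ω
      have hω : ω ∈ Submodule.span P (Set.range (KaehlerDifferential.D R P)) := by
        rw [KaehlerDifferential.span_range_derivation]; trivial
      induction hω using Submodule.span_induction with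
      | mem y hy =>
        obtain ⟨a, rfl⟩ := hy
        rw [hΛ'D]
        exact hD'ker a
      | zero => rw [map_zero, map_zero]
      | add y z _ _ hy hz => rw [map_add, map_add, hy, hz, add_zero]
      | smul a y _ hy => rw [map_smul, hsm, map_mul, hy, mul_zero]
    have hΛ0 : ∀ ω ∈ MP • (⊤ : Submodule P Ω[P⁄R]), Λ' ω = 0 := by
      intro ω hω
      refine Submodule.smul_induction_on hω ?_ ?_
      · intro a ha ω' _
        rw [map_smul, hsm]
        obtain ⟨e₂, he₂⟩ := Ideal.Quotient.mk_surjective (Λ' ω')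
        have h2 : e₂ ∈ N := by
          have := hrange ω'
          rw [← he₂, hπb] at this
          exact this
        rw [← he₂, ← map_mul, hkillS _ ha _ (hPmem a) _ h2, map_zero]
      · intro y z hy hz
        rw [map_add, hy, hz, add_zero]
    have h3 : KaehlerDifferential.D R P x.1 ∈ MP • (⊤ : Submodule P Ω[P⁄R]) := by
      rw [hι₀] at hx
      exact (Submodule.Quotient.mk_eq_zero _).mp hx
    have h4 := hΛ0 _ h3
    rw [hΛ'D, hd', (hNPmem x.1).mp x.2, map_zero, sub_zero] at h4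
    exact hnN' (Ideal.Quotient.eq_zero_iff_mem.mp h4)
  -- the retraction
  let ι : NP →ₗ[P ⧸ MP] Ω[P⁄R] ⧸ (MP • (⊤ : Submodule P Ω[P⁄R])) :=
    LinearMap.extendScalarsOfSurjective Ideal.Quotient.mk_surjective ι₀
  have hιinj : Function.Injective ι := hinj
  obtain ⟨r, hr⟩ := LinearMap.exists_leftInverse_of_injective ι (LinearMap.ker_eq_bot.mpr hιinj)
  let d : Derivation R P NP :=
    ((r.restrictScalars P) ∘ₗ (MP • (⊤ : Submodule P Ω[P⁄R])).mkQ).compDer (KaehlerDifferential.D R P)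
  have hd : ∀ x : NP, d x.1 = x := fun x => congr($hr x)
  have hsmulNP : ∀ (a : P) (y : NP), ((a • y : NP) : P) = a * (y : P) := fun a y => rfl
  let θ : P →ₐ[R] P :=
    { toFun := fun a => a - (d a : P)
      map_one' := by rw [Derivation.map_one_eq_zero]; simp
      map_mul' := fun a b => by
        rw [Derivation.leibniz, Submodule.coe_add, hsmulNP, hsmulNP]
        have : ((d a : NP) : P) * ((d b : NP) : P) = 0 := by
          have h1 : ((d a : NP) : P) * ((d b : NP) : P) ∈ NP ^ 2 := by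
            rw [pow_two]; exact Ideal.mul_mem_mul (d a).2 (d b).2
          have h2 : NP ^ 2 = ⊥ := by
            rw [eq_bot_iff, pow_two, Ideal.mul_le]
            intro u hu v hv
            rw [Ideal.mem_bot]
            apply hjoint
            · rw [map_mul]; exact hNN _ (hNP1 u hu) _ (hNP1 v hv)
            · rw [map_mul, (hNPmem u).mp hu, zero_mul]
          rwa [h2] at h1
        linear_combination (-1 : P) * this
      map_zero' := by rw [map_zero]; simp
      map_add' := fun a b => by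
        rw [map_add, Submodule.coe_add]; ring
      commutes' := fun a => by
        rw [Derivation.map_algebraMap]; simp }
  have hθ : ∀ a, θ a = a - (d a : P) := fun a => rfl
  have hθN : ∀ a ∈ NP, θ a = 0 := by
    intro a ha
    rw [hθ, hd ⟨a, ha⟩, sub_self]
  have hθp : ∀ a, p₂ (θ a) = p₂ a := by
    intro a
    rw [hθ, map_sub, (hNPmem _).mp (d a).2, sub_zero]
  let eqv := Ideal.quotientKerAlgEquivOfSurjective hp₂
  let σ : S →ₐ[R] P := (Ideal.Quotient.liftₐ NP θ hθN).comp eqv.symm.toAlgHom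
  have hσ : ∀ a : P, σ (p₂ a) = θ a := by
    intro a
    have : eqv.symm (p₂ a) = Ideal.Quotient.mk NP a := by
      apply eqv.injective
      rw [AlgEquiv.apply_symm_apply]
      rfl
    change Ideal.Quotient.liftₐ NP θ hθN (eqv.symm (p₂ a)) = θ a
    rw [this]
    rfl
  refine ⟨p₁.comp σ, ?_⟩
  ext s
  obtain ⟨a, rfl⟩ := hp₂ s
  change π (p₁ (σ (p₂ a))) = g (p₂ a)
  rw [hσ]
  rw [hPmem (θ a), hθp]


theorem exists_lift_of_hyperplanes (𝔪 : Ideal S) [𝔪.IsMaximal] (π : E →ₐ[R] F)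
    (hπ : Function.Surjective π)
    (hsq : (RingHom.ker (π : E →+* F)) ^ 2 = ⊥) (g : S →ₐ[R] F)
    (hkillS : ∀ a ∈ 𝔪, ∀ e : E, π e = g a → ∀ j ∈ RingHom.ker (π : E →+* F), e * j = 0)
    (hkillE : ∀ e ∈ maximalIdeal E, ∀ j ∈ RingHom.ker (π : E →+* F), e * j = 0)
    (H : ∀ (N' : Ideal E) (hN' : N' ≤ RingHom.ker (π : E →+* F)) (n : E),
      n ∈ RingHom.ker (π : E →+* F) → n ∉ N' →
      RingHom.ker (π : E →+* F) = N' ⊔ Ideal.span {n} →
      ∃ χ' : S →ₐ[R] E ⧸ N', ∀ s, Ideal.Quotient.liftₐ N' π (fun x hx => hN' hx) (χ' s) = g s) :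
    ∃ χ : S →ₐ[R] E, π.comp χ = g := by
  let P : Subalgebra R (E × S) :=
    AlgHom.equalizer (π.comp (AlgHom.fst R E S)) (g.comp (AlgHom.snd R E S))
  have hPmem : ∀ x : P, π (x : E × S).1 = g (x : E × S).2 := fun x => x.2
  let p₁ : P →ₐ[R] E := (AlgHom.fst R E S).comp P.val
  let p₂ : P →ₐ[R] S := (AlgHom.snd R E S).comp P.val
  have hp₂ : Function.Surjective p₂ := by
    intro s
    obtain ⟨e, he⟩ := hπ (g s)
    exact ⟨⟨(e, s), he⟩, rfl⟩
  refine exists_lift_of_hyperplanes_aux p₁ p₂ hp₂ ?_ 𝔪 π hsq g hPmem hkillS hkillE H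
  intro x h1 h2
  apply Subtype.ext
  exact Prod.ext h1 h2

end KL

section loc
variable {E F : Type u} [CommRing E] [CommRing F]

theorem isLocalHom_of_sq_zero (π : E →+* F) (hπ : Function.Surjective π)
    (hsq : (RingHom.ker π) ^ 2 = ⊥) : IsLocalHom π := by
  refine ⟨fun a ha => ?_⟩
  obtain ⟨c, hc⟩ := ha.exists_right_inv
  obtain ⟨b, rfl⟩ := hπ c
  have h1 : a * b - 1 ∈ RingHom.ker π := by
    rw [RingHom.mem_ker, map_sub, map_mul, hc, map_one, sub_self]
  have h2 : (a * b - 1) * (a * b - 1) = 0 := by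
    have : (a * b - 1) * (a * b - 1) ∈ (RingHom.ker π) ^ 2 := by
      rw [pow_two]; exact Ideal.mul_mem_mul h1 h1
    rwa [hsq] at this
  have h3 : IsNilpotent (a * b - 1) := ⟨2, by rw [pow_two]; exact h2⟩
  have h4 : IsUnit (a * b) := by
    have := h3.isUnit_add_one
    rwa [sub_add_cancel] at this
  exact isUnit_of_mul_isUnit_left h4

theorem subsingleton_of_sq_zero (π : E →+* F) (hsq : (RingHom.ker π) ^ 2 = ⊥) [Subsingleton F] :
    Subsingleton E := by
  have h1 : (1 : E) ∈ RingHom.ker π := by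
    rw [RingHom.mem_ker]; exact Subsingleton.elim _ _
  have h2 : (1 : E) * 1 ∈ (RingHom.ker π) ^ 2 := by
    rw [pow_two]; exact Ideal.mul_mem_mul h1 h1
  rw [hsq, Ideal.mem_bot, mul_one] at h2
  exact subsingleton_of_zero_eq_one h2.symm

variable {S : Type u} [CommRing S] [IsLocalRing S]

theorem isLocalRing_of_surjective_sq_zero [Nontrivial F] (π : E →+* F) (hπ : Function.Surjective π)
    (hsq : (RingHom.ker π) ^ 2 = ⊥) (g : S →+* F) (hg : Function.Surjective g) :
    IsLocalRing E := by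
  haveI : IsLocalRing F := IsLocalRing.of_surjective' g hg
  haveI := isLocalHom_of_sq_zero π hπ hsq
  exact RingHom.domain_isLocalRing π

theorem exists_of_mem_maximalIdeal [IsLocalRing E] [IsLocalRing F] (π : E →+* F)
    (g : S →+* F) (hg : Function.Surjective g) [IsLocalHom π] (e : E) (he : e ∈ maximalIdeal E) :
    ∃ a ∈ maximalIdeal S, π e = g a := by
  have h1 : π e ∈ maximalIdeal F := map_nonunit π e he
  rw [← map_maximalIdeal_of_surjective g hg, Ideal.mem_map_iff_of_surjective g hg] at h1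
  obtain ⟨a, ha, h⟩ := h1
  exact ⟨a, ha, h.symm⟩

theorem maximalIdeal_pow_eq_bot_of_surjective [IsLocalRing F] (g : S →+* F)
    (hg : Function.Surjective g) (t : ℕ) (ht : ∀ x ∈ maximalIdeal S ^ t, g x = 0) :
    maximalIdeal F ^ t = ⊥ := by
  rw [← map_maximalIdeal_of_surjective g hg, ← Ideal.map_pow, eq_bot_iff, Ideal.map_le_iff_le_comap]
  intro x hx
  rw [Ideal.mem_comap, Ideal.mem_bot]
  exact ht x hx

theorem maximalIdeal_pow_eq_bot_of_sq_zero [IsLocalRing E] [IsLocalRing F] (π : E →+* F)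
    [IsLocalHom π] (hsq : (RingHom.ker π) ^ 2 = ⊥) (t : ℕ) (ht : maximalIdeal F ^ t = ⊥) :
    maximalIdeal E ^ (t * 2) = ⊥ := by
  have h1 : maximalIdeal E ^ t ≤ RingHom.ker π := by
    intro x hx
    rw [RingHom.mem_ker]
    have : π x ∈ maximalIdeal F ^ t := by
      have h2 := Ideal.mem_map_of_mem π hx
      rw [Ideal.map_pow] at h2
      exact Ideal.pow_right_mono (map_maximalIdeal_le π) t h2
    rwa [ht] at this
  rw [pow_mul, eq_bot_iff, ← hsq]
  exact Ideal.pow_right_mono h1 2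

theorem isArtinianRing_of_surjective [IsNoetherianRing S] [Nontrivial F] (g : S →+* F)
    (hg : Function.Surjective g) (t : ℕ) (ht : ∀ x ∈ maximalIdeal S ^ t, g x = 0) :
    IsArtinianRing F := by
  haveI : IsLocalRing F := IsLocalRing.of_surjective' g hg
  haveI : IsNoetherianRing F := isNoetherianRing_of_surjective S F g hg
  rw [isArtinianRing_iff_isNilpotent_maximalIdeal]
  exact ⟨t, maximalIdeal_pow_eq_bot_of_surjective g hg t ht⟩

end loc

section atom
variable {A : Type u} [CommRing A] [IsLocalRing A]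

theorem isAtom_span_singleton (x : A) (hx : x ≠ 0) (hkill : ∀ a ∈ maximalIdeal A, a * x = 0) :
    IsAtom (Ideal.span {x}) := by
  refine ⟨by rwa [Ne, Ideal.span_singleton_eq_bot], ?_⟩
  intro b hb
  by_contra hne
  obtain ⟨y, hyb, hy0⟩ := Submodule.exists_mem_ne_zero_of_ne_bot hne
  obtain ⟨a, rfl⟩ := Ideal.mem_span_singleton'.mp (hb.le hyb)
  have ha : IsUnit a := by
    by_contra h
    exact hy0 (hkill a ((mem_maximalIdeal a).mpr h))
  obtain ⟨u, rfl⟩ := ha
  have hxb : x ∈ b := by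
    have : x = ↑u⁻¹ * (↑u * x) := by rw [← mul_assoc, Units.inv_mul, one_mul]
    rw [this]
    exact Ideal.mul_mem_left _ _ hyb
  exact hb.not_ge ((Ideal.span_singleton_le_iff_mem _).mpr hxb)

theorem length_eq_one_of_isAtom (J : Ideal A) (hJ : IsAtom J) : Module.length A J = 1 :=
  Module.length_eq_one_iff.mpr (isSimpleModule_iff_isAtom.mpr hJ)

theorem isArtinianRing_of_isAtom (J : Ideal A) (hJ : IsAtom J) [IsArtinianRing (A ⧸ J)] :
    IsArtinianRing A := by
  rw [isArtinianRing_iff, isArtinian_iff_submodule_quotient J]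
  constructor
  · have h1 : Module.length A J ≠ ⊤ := by rw [length_eq_one_of_isAtom J hJ]; simp
    rw [Module.length_ne_top_iff, isFiniteLength_iff_isNoetherian_isArtinian] at h1
    exact h1.2
  · exact isArtinian_of_surjective_algebraMap (R := A ⧸ J) (S := A) Ideal.Quotient.mk_surjective

end atom

end Groth.Agent.Helper8.ArtLift
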