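import Mathlib
import Groth.Agent.Helper8.ArtLift1
set_option autoImplicit false
universe u

namespace Groth.Agent.Helper8.ArtLift
open Groth.Agent.Helper8.GeomReg IsLocalRing

section conv
variable {R S A F : Type u} [CommRing R] [CommRing S] [CommRing A] [CommRing F]
  [Algebra R S] [Algebra R A] [Algebra R F] [IsLocalRing S]

/-- trivial lift to a zero ring -/
theorem exists_lift_of_subsingleton [Subsingleton A] (π : A →ₐ[R] F) (g : S →ₐ[R] F)
    [Subsingleton F] : ∃ v : S →ₐ[R] A, π.comp v = g := by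
  let v : S →ₐ[R] A :=
    { toFun := fun _ => 0
      map_one' := Subsingleton.elim _ _
      map_mul' := fun _ _ => Subsingleton.elim _ _
      map_zero' := rfl
      map_add' := fun _ _ => Subsingleton.elim _ _
      commutes' := fun _ => Subsingleton.elim _ _ }
  exact ⟨v, AlgHom.ext fun _ => Subsingleton.elim _ _⟩

theorem isLocalHom_algebraMap_of_surjective [IsLocalRing R] [IsLocalHom (algebraMap R S)]
    [Nontrivial F] (ρ : A →ₐ[R] F) (g : S →ₐ[R] F) (hg : Function.Surjective g) :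
    IsLocalHom (algebraMap R A) := by
  refine ⟨fun r hr => ?_⟩
  have h1 : IsUnit (ρ (algebraMap R A r)) := hr.map ρ
  rw [AlgHom.commutes, ← g.commutes] at h1
  haveI : IsLocalHom (g : S →+* F) := IsLocalHom.of_surjective _ hg
  have h2 : IsUnit (algebraMap R S r) := isUnit_of_map_unit (g : S →+* F) _ h1
  exact isUnit_of_map_unit (algebraMap R S) r h2

theorem lift_of_quotient_lift [IsLocalRing A] [Nontrivial F] (π : A →ₐ[R] F)
    (hπ : Function.Surjective π) (g : S →ₐ[R] F) (hg : Function.Surjective g)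
    (h : ∀ [IsLocalRing (A ⧸ RingHom.ker (π : A →+* F))]
        (ψ : S →ₐ[R] A ⧸ RingHom.ker (π : A →+* F)) [IsLocalHom ψ.toRingHom],
        Function.Bijective (ResidueField.map ψ.toRingHom) →
        ∃ χ : S →ₐ[R] A, (Ideal.Quotient.mkₐ R (RingHom.ker (π : A →+* F))).comp χ = ψ) :
    ∃ v : S →ₐ[R] A, π.comp v = g := by
  let e := Ideal.quotientKerAlgEquivOfSurjective hπ
  haveI : Nontrivial (A ⧸ RingHom.ker (π : A →+* F)) := e.toEquiv.nontrivial
  haveI : IsLocalRing (A ⧸ RingHom.ker (π : A →+* F)) :=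
    IsLocalRing.of_surjective' (Ideal.Quotient.mk _) Ideal.Quotient.mk_surjective
  let ψ : S →ₐ[R] A ⧸ RingHom.ker (π : A →+* F) := e.symm.toAlgHom.comp g
  have hψ : Function.Surjective ψ := e.symm.surjective.comp hg
  haveI : IsLocalHom ψ.toRingHom := IsLocalHom.of_surjective _ hψ
  have hbij : Function.Bijective (ResidueField.map ψ.toRingHom) := by
    refine ⟨(ResidueField.map ψ.toRingHom).injective, fun y => ?_⟩
    obtain ⟨z, rfl⟩ := residue_surjective y
    obtain ⟨s, rfl⟩ := hψ z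
    exact ⟨residue S s, ResidueField.map_residue _ _⟩
  obtain ⟨χ, hχ⟩ := h ψ hbij
  refine ⟨χ, ?_⟩
  ext s
  have h1 : Ideal.Quotient.mk _ (χ s) = e.symm (g s) := congr($hχ s)
  have h2 : e (Ideal.Quotient.mk _ (χ s)) = π (χ s) := rfl
  change π (χ s) = g s
  rw [← h2, h1, AlgEquiv.apply_symm_apply]

/-- adic formal smoothness gives lifts along local nilpotent thickenings -/
theorem lift_of_adic [IsLocalRing A] (hfs : CAlgX.IsAdicFormallySmooth R S (maximalIdeal S))
    (J : Ideal A) (hJ : J ^ 2 = ⊥) (hn : ∃ n : ℕ, maximalIdeal A ^ n = ⊥)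
    [IsLocalRing (A ⧸ J)] (ψ : S →ₐ[R] A ⧸ J) [IsLocalHom ψ.toRingHom] :
    ∃ χ : S →ₐ[R] A, (Ideal.Quotient.mkₐ R J).comp χ = ψ := by
  obtain ⟨n, hn⟩ := hn
  refine hfs A J hJ ψ ⟨n, fun x hx => ?_⟩
  have h1 : maximalIdeal (A ⧸ J) ^ n = ⊥ := by
    rw [← map_maximalIdeal_of_surjective (Ideal.Quotient.mk J) Ideal.Quotient.mk_surjective,
      ← Ideal.map_pow, hn, Ideal.map_bot]
  have h2 : ψ.toRingHom x ∈ maximalIdeal (A ⧸ J) ^ n := by
    have h3 := Ideal.mem_map_of_mem ψ.toRingHom hx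
    rw [Ideal.map_pow] at h3
    exact Ideal.pow_right_mono (map_maximalIdeal_le ψ.toRingHom) n h3
  rw [h1] at h2
  exact h2

end conv

end Groth.Agent.Helper8.ArtLift
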