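import Mathlib
import Groth.Agent.Helper8.ArtLift1
import Groth.Agent.Helper8.ArtLift2
set_option autoImplicit false
universe u

namespace Groth.Agent.Helper8.ArtLift
open Groth.Agent.Helper8.GeomReg IsLocalRing

section hyp
variable {R E F : Type u} [CommRing R] [CommRing E] [CommRing F] [Algebra R E] [Algebra R F]
  [IsLocalRing E]

theorem quot_ne_top [Nontrivial F] (π : E →ₐ[R] F) (N' : Ideal E)
    (hN' : N' ≤ RingHom.ker (π : E →+* F)) : N' ≠ ⊤ := by
  intro h
  have h1 : (1 : E) ∈ RingHom.ker (π : E →+* F) := hN' (h ▸ Submodule.mem_top)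
  rw [RingHom.mem_ker, map_one] at h1
  exact one_ne_zero h1

variable (π : E →ₐ[R] F) (N' : Ideal E) (hN' : N' ≤ RingHom.ker (π : E →+* F))

theorem liftₐ_surjective (hπ : Function.Surjective π) :
    Function.Surjective (Ideal.Quotient.liftₐ N' π (fun x hx => hN' hx)) := by
  intro y
  obtain ⟨e, rfl⟩ := hπ y
  exact ⟨Ideal.Quotient.mk N' e, rfl⟩

theorem ker_liftₐ_sq (hsq : (RingHom.ker (π : E →+* F)) ^ 2 = ⊥) :
    (RingHom.ker (Ideal.Quotient.liftₐ N' π (fun x hx => hN' hx) : E ⧸ N' →+* F)) ^ 2 = ⊥ := by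
  rw [eq_bot_iff, pow_two, Ideal.mul_le]
  intro u hu v hv
  obtain ⟨e₁, rfl⟩ := Ideal.Quotient.mk_surjective u
  obtain ⟨e₂, rfl⟩ := Ideal.Quotient.mk_surjective v
  have h1 : e₁ ∈ RingHom.ker (π : E →+* F) := hu
  have h2 : e₂ ∈ RingHom.ker (π : E →+* F) := hv
  have h3 : e₁ * e₂ ∈ (RingHom.ker (π : E →+* F)) ^ 2 := by
    rw [pow_two]; exact Ideal.mul_mem_mul h1 h2
  rw [hsq, Ideal.mem_bot] at h3
  rw [Ideal.mem_bot, ← map_mul, h3, map_zero]

theorem ker_liftₐ_eq_span (n : E) (hn : n ∈ RingHom.ker (π : E →+* F))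
    (hspan : RingHom.ker (π : E →+* F) = N' ⊔ Ideal.span {n}) :
    RingHom.ker (Ideal.Quotient.liftₐ N' π (fun x hx => hN' hx) : E ⧸ N' →+* F) =
      Ideal.span {Ideal.Quotient.mk N' n} := by
  apply le_antisymm
  · intro u hu
    obtain ⟨e, rfl⟩ := Ideal.Quotient.mk_surjective u
    have h1 : e ∈ RingHom.ker (π : E →+* F) := hu
    rw [hspan] at h1
    obtain ⟨n', hn', w, hw, rfl⟩ := Submodule.mem_sup.mp h1
    obtain ⟨a, rfl⟩ := Ideal.mem_span_singleton'.mp hw
    rw [map_add, Ideal.Quotient.eq_zero_iff_mem.mpr hn', zero_add, map_mul]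
    exact Ideal.mul_mem_left _ _ (Ideal.subset_span rfl)
  · rw [Ideal.span_singleton_le_iff_mem]
    exact hn

theorem isAtom_ker_liftₐ [IsLocalRing (E ⧸ N')]
    (hkillE : ∀ e ∈ maximalIdeal E, ∀ j ∈ RingHom.ker (π : E →+* F), e * j = 0)
    (n : E) (hn : n ∈ RingHom.ker (π : E →+* F)) (hnN' : n ∉ N')
    (hspan : RingHom.ker (π : E →+* F) = N' ⊔ Ideal.span {n}) :
    IsAtom (RingHom.ker (Ideal.Quotient.liftₐ N' π (fun x hx => hN' hx) : E ⧸ N' →+* F)) := by
  rw [ker_liftₐ_eq_span π N' hN' n hn hspan]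
  refine isAtom_span_singleton _ ?_ ?_
  · intro h
    exact hnN' (Ideal.Quotient.eq_zero_iff_mem.mp h)
  · intro a ha
    obtain ⟨e, rfl⟩ := Ideal.Quotient.mk_surjective a
    have he : e ∈ maximalIdeal E := by
      rw [mem_maximalIdeal] at ha ⊢
      intro hu
      exact ha (hu.map (Ideal.Quotient.mk N'))
    rw [← map_mul, hkillE e he n hn, map_zero]

end hyp

section s9315
variable {R S : Type u} [CommRing R] [CommRing S] [IsLocalRing R] [IsLocalRing S] [Algebra R S]
  [IsLocalHom (algebraMap R S)]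

theorem s9315 :
    CAlgX.IsAdicFormallySmooth R S (maximalIdeal S) ↔
      ∀ (A : Type u) [CommRing A] [IsLocalRing A] [Algebra R A] [IsLocalHom (algebraMap R A)]
        (J : Ideal A), J ^ 2 = ⊥ → (∃ n : ℕ, maximalIdeal A ^ n = ⊥) →
        ∀ [IsLocalRing (A ⧸ J)] (ψ : S →ₐ[R] A ⧸ J) [IsLocalHom ψ.toRingHom],
          Function.Bijective (ResidueField.map ψ.toRingHom) →
          ∃ χ : S →ₐ[R] A, (Ideal.Quotient.mkₐ R J).comp χ = ψ := by
  constructor
  · intro hfs A _ _ _ _ J hJ hn _ ψ _ _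
    exact lift_of_adic hfs J hJ hn ψ
  · intro H
    apply isAdicFormallySmooth_of_surjSmallLift
    intro E F _ _ _ _ π hπ hsq g hg ⟨t, ht⟩ _
    rcases subsingleton_or_nontrivial F with hF | hF
    · haveI := subsingleton_of_sq_zero (π : E →+* F) hsq
      exact exists_lift_of_subsingleton π g
    · haveI : IsLocalRing F := IsLocalRing.of_surjective' (g : S →+* F) hg
      haveI : IsLocalRing E :=
        isLocalRing_of_surjective_sq_zero (π : E →+* F) hπ hsq (g : S →+* F) hg
      haveI : IsLocalHom (π : E →+* F) := isLocalHom_of_sq_zero _ hπ hsq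
      haveI : IsLocalHom (algebraMap R E) := isLocalHom_algebraMap_of_surjective π g hg
      have hmF := maximalIdeal_pow_eq_bot_of_surjective (g : S →+* F) hg t ht
      have hmE := maximalIdeal_pow_eq_bot_of_sq_zero (π : E →+* F) hsq t hmF
      exact lift_of_quotient_lift π hπ g hg
        (@fun _ ψ _ hb => H E (RingHom.ker (π : E →+* F)) hsq ⟨_, hmE⟩ ψ hb)

theorem s9316 [IsNoetherianRing S] :
    CAlgX.IsAdicFormallySmooth R S (maximalIdeal S) ↔
      ∀ (A : Type u) [CommRing A] [IsLocalRing A] [IsArtinianRing A] [Algebra R A]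
        [IsLocalHom (algebraMap R A)] (J : Ideal A), J ^ 2 = ⊥ → Module.length A J = 1 →
        ∀ [IsLocalRing (A ⧸ J)] (ψ : S →ₐ[R] A ⧸ J) [IsLocalHom ψ.toRingHom],
          Function.Bijective (ResidueField.map ψ.toRingHom) →
          ∃ χ : S →ₐ[R] A, (Ideal.Quotient.mkₐ R J).comp χ = ψ := by
  constructor
  · intro hfs A _ _ _ _ _ J hJ _ _ ψ _ _
    have hnil : IsNilpotent (maximalIdeal A) := by
      rw [← IsLocalRing.jacobson_eq_maximalIdeal (⊥ : Ideal A) bot_ne_top]
      exact IsArtinianRing.isNilpotent_jacobson_bot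
    obtain ⟨n, hn⟩ := hnil
    exact lift_of_adic hfs J hJ ⟨n, hn⟩ ψ
  · intro H
    apply isAdicFormallySmooth_of_surjSmallLift
    intro E F _ _ _ _ π hπ hsq g hg ⟨t, ht⟩ hkill
    rcases subsingleton_or_nontrivial F with hF | hF
    · haveI := subsingleton_of_sq_zero (π : E →+* F) hsq
      exact exists_lift_of_subsingleton π g
    · haveI : IsLocalRing F := IsLocalRing.of_surjective' (g : S →+* F) hg
      haveI : IsLocalRing E :=
        isLocalRing_of_surjective_sq_zero (π : E →+* F) hπ hsq (g : S →+* F) hg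
      haveI : IsLocalHom (π : E →+* F) := isLocalHom_of_sq_zero _ hπ hsq
      haveI : IsArtinianRing F := isArtinianRing_of_surjective (g : S →+* F) hg t ht
      have hkillE : ∀ e ∈ maximalIdeal E, ∀ j ∈ RingHom.ker (π : E →+* F), e * j = 0 := by
        intro e he j hj
        obtain ⟨a, ha, hea⟩ := exists_of_mem_maximalIdeal (π : E →+* F) (g : S →+* F) hg e he
        exact hkill a ha e hea j hj
      apply exists_lift_of_hyperplanes (maximalIdeal S) π hπ hsq g hkill hkillE
      intro N' hN' n hnN hnN' hspan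
      haveI : Nontrivial (E ⧸ N') := Ideal.Quotient.nontrivial_iff.mpr (quot_ne_top π N' hN')
      haveI : IsLocalRing (E ⧸ N') :=
        IsLocalRing.of_surjective' (Ideal.Quotient.mk N') Ideal.Quotient.mk_surjective
      have hatom := isAtom_ker_liftₐ π N' hN' hkillE n hnN hnN' hspan
      have hsurj := liftₐ_surjective π N' hN' hπ
      haveI : IsArtinianRing ((E ⧸ N') ⧸
          RingHom.ker (Ideal.Quotient.liftₐ N' π (fun x hx => hN' hx) : E ⧸ N' →+* F)) :=
        (Ideal.quotientKerAlgEquivOfSurjective hsurj).symm.toRingEquiv.isArtinianRing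
      haveI : IsArtinianRing (E ⧸ N') := isArtinianRing_of_isAtom _ hatom
      haveI : IsLocalHom (algebraMap R (E ⧸ N')) :=
        isLocalHom_algebraMap_of_surjective (Ideal.Quotient.liftₐ N' π (fun x hx => hN' hx)) g hg
      obtain ⟨χ', hχ'⟩ := lift_of_quotient_lift (Ideal.Quotient.liftₐ N' π (fun x hx => hN' hx))
        hsurj g hg
        (@fun _ ψ _ hb => H (E ⧸ N') _ (ker_liftₐ_sq π N' hN' hsq)
          (length_eq_one_of_isAtom _ hatom) ψ hb)
      exact ⟨χ', fun s => congr($hχ' s)⟩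

end s9315

end Groth.Agent.Helper8.ArtLift
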