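import Mathlib
import Groth.Agent.Helper8.ArtLift3
import Groth.Agent.Helper2.H1Inj
import Groth.Agent.Helper6.ArtFunFibre
import Groth.Prelude.Def_ArtFun2
set_option autoImplicit false
universe u v

namespace Groth.Agent.Helper8.ArtLift
open Groth.Agent.Helper8.GeomReg IsLocalRing CategoryTheory ArtFun ArtFun.Art

section artfun
variable {Λ : Type u} {k : Type u} [CommRing Λ] [Field k] [Algebra Λ k]

theorem cring_mem_maximalIdeal_iff (R : CRing Λ k) (x : R.carrier) :
    x ∈ maximalIdeal R.carrier ↔ R.res x = 0 := by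
  have hmax : (RingHom.ker (R.res : R.carrier →+* k)).IsMaximal :=
    RingHom.ker_isMaximal_of_surjective (R.res : R.carrier →+* k) R.res_surjective
  rw [← IsLocalRing.eq_maximalIdeal hmax, RingHom.mem_ker]
  rfl

/-- adic formal smoothness gives smoothness of `h_R`. -/
theorem isSmoothFunctor_hR_of_adic (R : CRing Λ k)
    (hfs : CAlgX.IsAdicFormallySmooth Λ R.carrier (maximalIdeal R.carrier)) :
    IsSmoothFunctor (hR R.carrier R.res) := by
  intro B A μ hμ
  revert hμ
  revert μ
  suffices H : ∀ ⦃A B : Art Λ k⦄ (μ : B ⟶ A), Function.Surjective μ →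
      Function.Surjective (HomSet.map (R := R.carrier) (resR := R.res) μ) by
    intro μ hμ φ
    obtain ⟨ψ, hψ⟩ := H μ hμ φ
    exact ⟨ψ, hψ⟩
  intro A B μ hμ
  refine Groth.Agent.Helper6.surjective_induction_smallExt
    (fun A B μ => Function.Surjective (HomSet.map (R := R.carrier) (resR := R.res) μ))
    ?_ ?_ ?_ μ hμ
  · intro A B e he φ
    refine ⟨HomSet.map (inv e) φ, ?_⟩
    apply Subtype.ext
    apply AlgHom.ext
    intro r
    change (inv e ≫ e) (φ.1 r) = φ.1 r
    rw [IsIso.inv_hom_id]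
    rfl
  · intro A B p hp φ
    have hsq : (RingHom.ker (p.toAlgHom : B →+* A)) ^ 2 = ⊥ := by
      rw [eq_bot_iff, pow_two, ← hp.2.2.2]
      exact Ideal.mul_mono_left (Groth.Agent.Helper6.ker_le_maximalIdeal p)
    obtain ⟨n, hn⟩ := Groth.Agent.Helper6.exists_maximalIdeal_pow_eq_bot A
    obtain ⟨v, hv⟩ := Groth.Agent.Helper2.H1Inj.lift_of_surjective _ hfs p.toAlgHom hp.1 hsq φ.1
      ⟨n, by
        intro x hx
        have h1 : φ.1 x ∈ maximalIdeal A ^ n := by
          have h2 := Ideal.mem_map_of_mem (φ.1 : R.carrier →+* A) hx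
          rw [Ideal.map_pow] at h2
          refine Ideal.pow_right_mono ?_ n h2
          rw [Ideal.map_le_iff_le_comap]
          intro y hy
          rw [Ideal.mem_comap, Art.mem_maximalIdeal_iff]
          have h3 : A.res (φ.1 y) = R.res y := congr($(φ.2) y)
          change A.res (φ.1 y) = 0
          rw [h3, ← cring_mem_maximalIdeal_iff]
          exact hy
        rw [hn] at h1
        exact h1⟩
    refine ⟨⟨v, ?_⟩, Subtype.ext hv⟩
    rw [← p.res_comp, AlgHom.comp_assoc, hv]
    exact φ.2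
  · intro A B C p q hp hq φ
    obtain ⟨ψ, hψ⟩ := hq φ
    obtain ⟨χ, hχ⟩ := hp ψ
    refine ⟨χ, ?_⟩
    rw [← hψ, ← hχ]
    rfl

/-- smoothness of `h_R` gives adic formal smoothness. -/
theorem adic_of_isSmoothFunctor_hR (R : CRing Λ k) (hs : IsSmoothFunctor (hR R.carrier R.res)) :
    CAlgX.IsAdicFormallySmooth Λ R.carrier (maximalIdeal R.carrier) := by
  apply isAdicFormallySmooth_of_surjSmallLift
  intro E F _ _ _ _ π hπ hsq g hg ⟨t, ht⟩ hkill
  rcases subsingleton_or_nontrivial F with hF | hF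
  · haveI := subsingleton_of_sq_zero (π : E →+* F) hsq
    exact exists_lift_of_subsingleton π g
  · haveI : IsLocalRing F := IsLocalRing.of_surjective' (g : R.carrier →+* F) hg
    haveI : IsLocalRing E :=
      isLocalRing_of_surjective_sq_zero (π : E →+* F) hπ hsq (g : R.carrier →+* F) hg
    haveI : IsLocalHom (π : E →+* F) := isLocalHom_of_sq_zero _ hπ hsq
    haveI : IsArtinianRing F := isArtinianRing_of_surjective (g : R.carrier →+* F) hg t ht
    have hkillE : ∀ e ∈ maximalIdeal E, ∀ j ∈ RingHom.ker (π : E →+* F), e * j = 0 := by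
      intro e he j hj
      obtain ⟨a, ha, hea⟩ :=
        exists_of_mem_maximalIdeal (π : E →+* F) (g : R.carrier →+* F) hg e he
      exact hkill a ha e hea j hj
    have hker : ∀ x ∈ RingHom.ker (g : R.carrier →+* F), R.res x = 0 := by
      intro x hx
      have : x ∈ maximalIdeal R.carrier :=
        IsLocalRing.le_maximalIdeal (RingHom.ker_ne_top (g : R.carrier →+* F)) hx
      exact (cring_mem_maximalIdeal_iff R x).mp this
    let eg := Ideal.quotientKerAlgEquivOfSurjective hg
    let resF : F →ₐ[Λ] k :=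
      (Ideal.Quotient.liftₐ (RingHom.ker (g : R.carrier →+* F)) R.res hker).comp eg.symm.toAlgHom
    have hresF : ∀ r, resF (g r) = R.res r := by
      intro r
      have : eg.symm (g r) = Ideal.Quotient.mk _ r := by
        apply eg.injective
        rw [AlgEquiv.apply_symm_apply]
        rfl
      change Ideal.Quotient.liftₐ _ R.res hker (eg.symm (g r)) = R.res r
      rw [this]
      rfl
    have hresFsurj : Function.Surjective resF := fun c => by
      obtain ⟨r, rfl⟩ := R.res_surjective c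
      exact ⟨g r, hresF r⟩
    apply exists_lift_of_hyperplanes (maximalIdeal R.carrier) π hπ hsq g hkill hkillE
    intro N' hN' n hnN hnN' hspan
    haveI : Nontrivial (E ⧸ N') := Ideal.Quotient.nontrivial_iff.mpr (quot_ne_top π N' hN')
    haveI : IsLocalRing (E ⧸ N') :=
      IsLocalRing.of_surjective' (Ideal.Quotient.mk N') Ideal.Quotient.mk_surjective
    have hatom := isAtom_ker_liftₐ π N' hN' hkillE n hnN hnN' hspan
    have hsurj := liftₐ_surjective π N' hN' hπ
    haveI : IsArtinianRing ((E ⧸ N') ⧸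
        RingHom.ker (Ideal.Quotient.liftₐ N' π (fun x hx => hN' hx) : E ⧸ N' →+* F)) :=
      (Ideal.quotientKerAlgEquivOfSurjective hsurj).symm.toRingEquiv.isArtinianRing
    haveI : IsArtinianRing (E ⧸ N') := isArtinianRing_of_isAtom _ hatom
    let πb : E ⧸ N' →ₐ[Λ] F := Ideal.Quotient.liftₐ N' π (fun x hx => hN' hx)
    let FA : Art Λ k := Art.of F resF hresFsurj
    let EA : Art Λ k := Art.of (E ⧸ N') (resF.comp πb) (hresFsurj.comp hsurj)
    let μ : EA ⟶ FA := Art.homMk πb rfl
    let φ : HomSet R.carrier R.res FA := ⟨g, AlgHom.ext hresF⟩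
    obtain ⟨ψ, hψ⟩ := hs μ hsurj φ
    have hψ' : HomSet.map μ ψ = φ := hψ
    exact ⟨ψ.1, fun s => congr($(congrArg Subtype.val hψ') s)⟩

theorem s12721 [IsNoetherianRing Λ] [Module.Finite Λ k] (R : CRing Λ k) :
    IsSmoothFunctor (hR R.carrier R.res) ↔
      CAlgX.IsAdicFormallySmooth Λ R.carrier (maximalIdeal R.carrier) :=
  ⟨adic_of_isSmoothFunctor_hR R, isSmoothFunctor_hR_of_adic R⟩

theorem s12723 [IsNoetherianRing Λ] [Module.Finite Λ k]
    {F : Art Λ k ⥤ Type v} (h0 : H0 F)
    (R : CRing Λ k) (ξ : Family R.carrier R.res F) (hξ : IsVersal ξ) :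
    IsSmoothFunctor F ↔
      CAlgX.IsAdicFormallySmooth Λ R.carrier (maximalIdeal R.carrier) := by
  rw [← s12721 R]
  constructor
  · intro hF B A μ hμ φ
    obtain ⟨y', hy'⟩ := hF μ hμ (ξ.app A φ)
    obtain ⟨ψ, hψ1, _⟩ := hξ μ hμ φ y' hy'
    exact ⟨ψ, hψ1⟩
  · intro hR B A μ hμ y
    obtain ⟨φ, rfl⟩ := Groth.Agent.Helper6.surjective_app_of_isVersal ξ hξ h0 A y
    obtain ⟨(ψ : HomSet R.carrier R.res B), hψ⟩ := hR μ hμ φ
    have hψ' : HomSet.map μ ψ = φ := hψ
    refine ⟨ξ.app B ψ, ?_⟩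
    rw [← hψ']
    exact (ξ.natural μ ψ).symm

end artfun

end Groth.Agent.Helper8.ArtLift
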