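import Mathlib
import Groth.Agent.Helper8.ArtLift4
import Groth.Agent.Helper8.AdicFS
import Groth.Agent.S0543
set_option autoImplicit false
universe u v

namespace Groth.Agent.Helper8.ArtLift
open Groth.Agent.Helper8.GeomReg IsLocalRing CategoryTheory ArtFun ArtFun.Art

theorem adic_of_formallySmooth {R S : Type u} [CommRing R] [CommRing S] [Algebra R S]
    [Algebra.FormallySmooth R S] (𝔫 : Ideal S) : CAlgX.IsAdicFormallySmooth R S 𝔫 := by
  intro A _ _ J hJ ψ _
  exact Algebra.FormallySmooth.comp_surjective R S J hJ ψ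

section
variable {Λ : Type u} {k : Type u} [CommRing Λ] [Field k] [Algebra Λ k]

theorem s12737 [IsNoetherianRing Λ] [Module.Finite Λ k] :
    ∃ R : CRing Λ k, IsSmoothFunctor (hR R.carrier R.res) := by
  haveI : Algebra.FiniteType Λ k := inferInstance
  obtain ⟨n, f, hf⟩ := Algebra.FiniteType.iff_quotient_mvPolynomial''.mp
    (inferInstance : Algebra.FiniteType Λ k)
  set I : Ideal (MvPolynomial (Fin n) Λ) := RingHom.ker f with hI
  have fg : I.FG := IsNoetherian.noetherian I
  haveI hImax : I.IsMaximal := RingHom.ker_isMaximal_of_surjective (f : MvPolynomial (Fin n) Λ →+* k) hf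
  haveI hmaxC : (I.map (algebraMap _ (AdicCompletion I (MvPolynomial (Fin n) Λ)))).IsMaximal :=
    AdicCompletion.isMaximal_map_of_le I I le_rfl fg
  haveI hcomp : IsAdicComplete (I.map (algebraMap _ (AdicCompletion I (MvPolynomial (Fin n) Λ))))
      (AdicCompletion I (MvPolynomial (Fin n) Λ)) :=
    AdicCompletion.isAdicComplete_self I fg
  haveI hloc : IsLocalRing (AdicCompletion I (MvPolynomial (Fin n) Λ)) :=
    isLocalRing_of_isAdicComplete_maximal
      (I.map (algebraMap _ (AdicCompletion I (MvPolynomial (Fin n) Λ))))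
  have hm : maximalIdeal (AdicCompletion I (MvPolynomial (Fin n) Λ)) =
      I.map (algebraMap _ (AdicCompletion I (MvPolynomial (Fin n) Λ))) :=
    (IsLocalRing.eq_maximalIdeal hmaxC).symm
  haveI hnoeth : IsNoetherianRing (AdicCompletion I (MvPolynomial (Fin n) Λ)) :=
    Groth.Agent.S0543.result _ I
  let R : CRing Λ k :=
    { carrier := AdicCompletion I (MvPolynomial (Fin n) Λ)
      res := AdicCompletion.kerProj hf
      res_surjective := AdicCompletion.kerProj_surjective hf
      isAdicComplete := by rw [hm]; exact hcomp }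
  refine ⟨R, isSmoothFunctor_hR_of_adic R ?_⟩
  change CAlgX.IsAdicFormallySmooth Λ (AdicCompletion I (MvPolynomial (Fin n) Λ))
    (maximalIdeal (AdicCompletion I (MvPolynomial (Fin n) Λ)))
  rw [hm]
  exact (Groth.Agent.Helper8.AdicFS.s9318 I fg).mp (adic_of_formallySmooth I)

end

end Groth.Agent.Helper8.ArtLift
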