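import Mathlib
import Groth.Agent.Helper6.ArtFunProYoneda
import Groth.Agent.Helper6.ArtFunLeast
import Groth.Agent.Helper8.ChevMod
set_option autoImplicit false
universe u v

namespace Groth.Agent.Helper8.Schl
open ArtFun ArtFun.Art IsLocalRing CategoryTheory Groth.Agent.Helper6

variable {Λ : Type u} {k : Type u} [CommRing Λ] [Field k] [Algebra Λ k]

section Chevalley

/-- Chevalley's lemma for a decreasing sequence of ideals in a complete Noetherian local ring. -/
theorem chevalley_ideal {S : Type u} [CommRing S] [IsNoetherianRing S] [IsLocalRing S]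
    [IsAdicComplete (maximalIdeal S) S] (a : ℕ → Ideal S) (ha : Antitone a) (n : ℕ) :
    ∃ s, a s ≤ (⨅ i, a i) ⊔ maximalIdeal S ^ n := by
  set b : Ideal S := ⨅ i, a i with hb
  have hanti : Antitone (fun s => Submodule.map b.mkQ (a s)) := fun s t hst =>
    Submodule.map_mono (ha hst)
  have hinf : ⨅ s, Submodule.map b.mkQ (a s) = ⊥ := by
    rw [eq_bot_iff]
    intro x hx
    rw [Submodule.mem_iInf] at hx
    obtain ⟨x, rfl⟩ := Submodule.mkQ_surjective b x
    have hxb : x ∈ b := by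
      rw [hb, Submodule.mem_iInf]
      intro s
      obtain ⟨y, hy, hyx⟩ := hx s
      have h1 : y - x ∈ b := by
        rw [← Submodule.Quotient.eq]
        exact hyx
      have h2 : y - x ∈ a s := (iInf_le a s) h1
      have : x = y - (y - x) := by ring
      rw [this]
      exact sub_mem hy h2
    rw [Submodule.mem_bot, Submodule.mkQ_apply]
    exact (Submodule.Quotient.mk_eq_zero b).mpr hxb
  obtain ⟨s, hs⟩ := Groth.Agent.Helper8.ChevMod.chevalley S (S ⧸ b)
    (fun s => Submodule.map b.mkQ (a s)) hanti hinf n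
  refine ⟨s, fun x hx => ?_⟩
  have h1 : b.mkQ x ∈ (maximalIdeal S ^ n • ⊤ : Submodule S (S ⧸ b)) := hs ⟨x, hx, rfl⟩
  have hmap : (maximalIdeal S ^ n • ⊤ : Submodule S (S ⧸ b)) =
      Submodule.map b.mkQ (maximalIdeal S ^ n • ⊤ : Submodule S S) := by
    rw [Submodule.map_smul'', Submodule.map_top, Submodule.range_mkQ]
  rw [hmap] at h1
  obtain ⟨y, hy, hyx⟩ := h1
  have hy' : y ∈ maximalIdeal S ^ n := by
    have : (maximalIdeal S ^ n • ⊤ : Submodule S S) = maximalIdeal S ^ n := by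
      rw [smul_eq_mul, Ideal.mul_top]
    rw [this] at hy
    exact hy
  have h2 : y - x ∈ b := by
    rw [← Submodule.Quotient.eq]
    exact hyx
  have : x = -(y - x) + y := by ring
  rw [this]
  exact Submodule.add_mem_sup (neg_mem h2) hy'

end Chevalley

section HomSetBasics
variable {R : Type u} [CommRing R] [Algebra Λ R] {resR : R →ₐ[Λ] k}

theorem homSet_res_apply {A : Art Λ k} (φ : HomSet R resR A) (r : R) : A.res (φ.1 r) = resR r :=
  congrArg (fun t : R →ₐ[Λ] k => t r) φ.2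

theorem homSet_map_apply {A B : Art Λ k} (f : A ⟶ B) (φ : HomSet R resR A) (r : R) :
    (HomSet.map f φ).1 r = f (φ.1 r) := rfl

/-- A quotient of `R` in the category: an object with a surjective point. -/
structure SQuot (R : Type u) [CommRing R] [Algebra Λ R] (resR : R →ₐ[Λ] k) where
  A : Art Λ k
  π : HomSet R resR A
  surj : Function.Surjective π.1

namespace SQuot

variable (Q : SQuot R resR)

/-- the kernel of the quotient map -/
abbrev ker : Ideal R := RingHom.ker Q.π.1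

theorem mem_ker (r : R) : r ∈ Q.ker ↔ Q.π.1 r = 0 := RingHom.mem_ker

/-- a point killing the kernel descends -/
noncomputable def desc {B : Art Λ k} (ψ : HomSet R resR B) (h : Q.ker ≤ RingHom.ker ψ.1) : Q.A ⟶ B :=
  ⟨AlgHom.liftOfSurjective Q.π.1 Q.surj ψ.1 h, by
    apply AlgHom.ext
    intro x
    obtain ⟨r, rfl⟩ := Q.surj x
    have h1 : AlgHom.liftOfSurjective Q.π.1 Q.surj ψ.1 h (Q.π.1 r) = ψ.1 r :=
      AlgHom.liftOfSurjective_apply Q.π.1 Q.surj ψ.1 h r
    exact (congrArg B.res h1).trans ((homSet_res_apply ψ r).trans (homSet_res_apply Q.π r).symm)⟩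

theorem desc_apply {B : Art Λ k} (ψ : HomSet R resR B) (h : Q.ker ≤ RingHom.ker ψ.1) (r : R) :
    Q.desc ψ h (Q.π.1 r) = ψ.1 r :=
  AlgHom.liftOfSurjective_apply Q.π.1 Q.surj ψ.1 h r

theorem map_desc {B : Art Λ k} (ψ : HomSet R resR B) (h : Q.ker ≤ RingHom.ker ψ.1) :
    HomSet.map (Q.desc ψ h) Q.π = ψ :=
  Subtype.ext (AlgHom.ext fun r => Q.desc_apply ψ h r)

theorem hom_ext {B : Art Λ k} (f g : Q.A ⟶ B) (h : HomSet.map f Q.π = HomSet.map g Q.π) : f = g := by
  apply Art.hom_ext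
  apply AlgHom.ext
  intro x
  obtain ⟨r, rfl⟩ := Q.surj x
  exact congrArg (fun t : HomSet R resR B => t.1 r) h

theorem desc_eq {B : Art Λ k} (ψ : HomSet R resR B) (h : Q.ker ≤ RingHom.ker ψ.1) (f : Q.A ⟶ B)
    (hf : HomSet.map f Q.π = ψ) : Q.desc ψ h = f :=
  Q.hom_ext _ _ ((Q.map_desc ψ h).trans hf.symm)

theorem ker_le_of_map {B : Art Λ k} (f : Q.A ⟶ B) : Q.ker ≤ RingHom.ker (HomSet.map f Q.π).1 := by
  intro r hr
  rw [RingHom.mem_ker, homSet_map_apply, (Q.mem_ker r).1 hr]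
  exact map_zero f.toAlgHom

theorem desc_self : Q.desc Q.π le_rfl = 𝟙 Q.A :=
  Q.desc_eq _ _ _ (homSet_map_id _)

theorem desc_comp {B C : Art Λ k} (ψ : HomSet R resR B) (h : Q.ker ≤ RingHom.ker ψ.1) (g : B ⟶ C)
    (h' : Q.ker ≤ RingHom.ker (HomSet.map g ψ).1) :
    Q.desc (HomSet.map g ψ) h' = Q.desc ψ h ≫ g :=
  Q.desc_eq _ _ _ (by rw [homSet_map_comp, Q.map_desc])

theorem desc_surjective {B : Art Λ k} (ψ : HomSet R resR B) (h : Q.ker ≤ RingHom.ker ψ.1)
    (hψ : Function.Surjective ψ.1) : Function.Surjective (Q.desc ψ h) := by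
  intro b
  obtain ⟨r, rfl⟩ := hψ b
  exact ⟨Q.π.1 r, Q.desc_apply ψ h r⟩

theorem ker_desc {B : Art Λ k} (ψ : HomSet R resR B) (h : Q.ker ≤ RingHom.ker ψ.1) :
    RingHom.ker (Q.desc ψ h).toAlgHom = (RingHom.ker ψ.1).map Q.π.1 := by
  apply le_antisymm
  · intro x hx
    obtain ⟨r, rfl⟩ := Q.surj x
    rw [RingHom.mem_ker] at hx
    have : ψ.1 r = 0 := (Q.desc_apply ψ h r).symm.trans hx
    exact Ideal.mem_map_of_mem _ (RingHom.mem_ker.2 this)
  · rw [Ideal.map_le_iff_le_comap]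
    intro r hr
    rw [Ideal.mem_comap, RingHom.mem_ker]
    exact (Q.desc_apply ψ h r).trans (RingHom.mem_ker.1 hr)

end SQuot

end HomSetBasics

end Groth.Agent.Helper8.Schl
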