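import Mathlib
import Groth.Agent.Helper8.Schl1
set_option autoImplicit false
universe u v

namespace Groth.Agent.Helper8.Schl
open ArtFun ArtFun.Art IsLocalRing CategoryTheory Groth.Agent.Helper6

variable {Λ : Type u} {k : Type u} [CommRing Λ] [Field k] [Algebra Λ k]

/-- a quotient of a complete Noetherian local ring is complete -/
theorem isAdicComplete_quotient' {S : Type u} [CommRing S] [IsLocalRing S] [IsNoetherianRing S]
    [IsAdicComplete (maximalIdeal S) S] (J : Ideal S) [IsLocalRing (S ⧸ J)] :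
    IsAdicComplete (maximalIdeal (S ⧸ J)) (S ⧸ J) := by
  have h1 : IsPrecomplete (maximalIdeal S) (S ⧸ J) :=
    Groth.Agent.Helper8.ChevMod.isPrecomplete_of_finite (maximalIdeal S) (S ⧸ J)
  have h2 : IsHausdorff (maximalIdeal S) (S ⧸ J) := inferInstance
  have h3 : IsAdicComplete (maximalIdeal S) (S ⧸ J) := { }
  have h4 : (maximalIdeal S).map (algebraMap S (S ⧸ J)) = maximalIdeal (S ⧸ J) :=
    IsLocalRing.map_maximalIdeal_of_surjective _ Ideal.Quotient.mk_surjective
  rw [← h4, IsAdicComplete.map_algebraMap_iff]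
  exact h3

section CRingQuot

variable (S : CRing Λ k)

theorem cring_res_eq_zero {a : Ideal S.carrier} (ha : a ≤ maximalIdeal S.carrier) {x : S.carrier}
    (hx : x ∈ a) : S.res x = 0 := (CRing.mem_maximalIdeal_iff S x).1 (ha hx)

/-- the quotient of a coefficient ring by an ideal contained in the maximal ideal -/
noncomputable def quotCRing (a : Ideal S.carrier) (ha : a ≤ maximalIdeal S.carrier) : CRing Λ k :=
  haveI : Nontrivial (S.carrier ⧸ a) := Ideal.Quotient.nontrivial_iff.2
    (fun h => (IsLocalRing.maximalIdeal.isMaximal S.carrier).ne_top (top_le_iff.1 (h ▸ ha)))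
  haveI : IsLocalRing (S.carrier ⧸ a) :=
    IsLocalRing.of_surjective' (Ideal.Quotient.mk a) Ideal.Quotient.mk_surjective
  haveI := S.isAdicComplete
  { carrier := S.carrier ⧸ a
    res := Ideal.Quotient.liftₐ a S.res (fun _ hx => cring_res_eq_zero S ha hx)
    res_surjective := fun c => by
      obtain ⟨s, hs⟩ := S.res_surjective c
      exact ⟨Ideal.Quotient.mk a s, hs⟩
    isAdicComplete := isAdicComplete_quotient' a }

variable {S}
variable {a : Ideal S.carrier} {ha : a ≤ maximalIdeal S.carrier}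

/-- a point of the quotient, as a point of `S` -/
noncomputable def ofQuot {A : Art Λ k} (φ : HomSet (quotCRing S a ha).carrier (quotCRing S a ha).res A) :
    HomSet S.carrier S.res A :=
  ⟨φ.1.comp (Ideal.Quotient.mkₐ Λ a), by
    apply AlgHom.ext
    intro s
    exact homSet_res_apply φ (Ideal.Quotient.mk a s)⟩

theorem ofQuot_apply {A : Art Λ k} (φ : HomSet (quotCRing S a ha).carrier (quotCRing S a ha).res A)
    (s : S.carrier) : (ofQuot φ).1 s = φ.1 (Ideal.Quotient.mk a s) := rfl

theorem le_ker_ofQuot {A : Art Λ k} (φ : HomSet (quotCRing S a ha).carrier (quotCRing S a ha).res A) :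
    a ≤ RingHom.ker (ofQuot φ).1 := by
  intro s hs
  rw [RingHom.mem_ker, ofQuot_apply, Ideal.Quotient.eq_zero_iff_mem.2 hs]
  exact map_zero φ.1

theorem ofQuot_map {A B : Art Λ k} (f : A ⟶ B)
    (φ : HomSet (quotCRing S a ha).carrier (quotCRing S a ha).res A) :
    ofQuot (HomSet.map f φ) = HomSet.map f (ofQuot φ) := rfl

/-- a point of `S` killing `a`, as a point of the quotient -/
noncomputable def toQuot {A : Art Λ k} (ψ : HomSet S.carrier S.res A) (h : a ≤ RingHom.ker ψ.1) :
    HomSet (quotCRing S a ha).carrier (quotCRing S a ha).res A :=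
  ⟨Ideal.Quotient.liftₐ a ψ.1 (fun _ hx => h hx), by
    apply AlgHom.ext
    intro x
    obtain ⟨s, rfl⟩ := Ideal.Quotient.mk_surjective x
    exact homSet_res_apply ψ s⟩

theorem ofQuot_toQuot {A : Art Λ k} (ψ : HomSet S.carrier S.res A) (h : a ≤ RingHom.ker ψ.1) :
    ofQuot (toQuot (ha := ha) ψ h) = ψ := Subtype.ext (AlgHom.ext fun _ => rfl)

theorem toQuot_ofQuot {A : Art Λ k} (φ : HomSet (quotCRing S a ha).carrier (quotCRing S a ha).res A) :
    toQuot (ofQuot φ) (le_ker_ofQuot φ) = φ := by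
  apply Subtype.ext
  apply AlgHom.ext
  intro x
  obtain ⟨s, rfl⟩ := Ideal.Quotient.mk_surjective x
  rfl

theorem map_toQuot {A B : Art Λ k} (f : A ⟶ B) (ψ : HomSet S.carrier S.res A) (h : a ≤ RingHom.ker ψ.1)
    (h' : a ≤ RingHom.ker (HomSet.map f ψ).1) :
    HomSet.map f (toQuot (ha := ha) ψ h) = toQuot (HomSet.map f ψ) h' := by
  apply Subtype.ext
  apply AlgHom.ext
  intro x
  obtain ⟨s, rfl⟩ := Ideal.Quotient.mk_surjective x
  rfl

end CRingQuot

section Points

variable (S : CRing Λ k)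

theorem maximalIdeal_le_comap {A : Art Λ k} (ψ : HomSet S.carrier S.res A) :
    maximalIdeal S.carrier ≤ (maximalIdeal A).comap ψ.1 := by
  intro s hs
  rw [Ideal.mem_comap, Art.mem_maximalIdeal_iff, homSet_res_apply]
  exact (CRing.mem_maximalIdeal_iff S s).1 hs

theorem ker_le_maximalIdeal_of_point {A : Art Λ k} (ψ : HomSet S.carrier S.res A) :
    RingHom.ker ψ.1 ≤ maximalIdeal S.carrier := by
  intro s hs
  rw [CRing.mem_maximalIdeal_iff, ← homSet_res_apply ψ s, RingHom.mem_ker.1 hs]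
  exact map_zero A.res

theorem exists_pow_le_ker {A : Art Λ k} (ψ : HomSet S.carrier S.res A) :
    ∃ N : ℕ, maximalIdeal S.carrier ^ N ≤ RingHom.ker ψ.1 := by
  obtain ⟨N, hN⟩ := exists_maximalIdeal_pow_eq_bot A
  refine ⟨N, fun s hs => ?_⟩
  have h1 : Ideal.map ψ.1 (maximalIdeal S.carrier ^ N) ≤ maximalIdeal A ^ N := by
    rw [Ideal.map_pow]
    exact Ideal.pow_right_mono (Ideal.map_le_iff_le_comap.2 (maximalIdeal_le_comap S ψ)) _
  have h2 := h1 (Ideal.mem_map_of_mem ψ.1 hs)
  rw [hN] at h2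
  exact RingHom.mem_ker.2 ((Submodule.mem_bot _).1 h2)

theorem isArtinianRing_quot_of_pow_le (b : Ideal S.carrier) (N : ℕ)
    (hN : maximalIdeal S.carrier ^ N ≤ b) [IsLocalRing (S.carrier ⧸ b)] :
    IsArtinianRing (S.carrier ⧸ b) := by
  rw [isArtinianRing_iff_isNilpotent_maximalIdeal]
  refine ⟨N, ?_⟩
  rw [Ideal.zero_eq_bot, ← le_bot_iff]
  have h4 : (maximalIdeal S.carrier).map (Ideal.Quotient.mk b) = maximalIdeal (S.carrier ⧸ b) :=
    IsLocalRing.map_maximalIdeal_of_surjective _ Ideal.Quotient.mk_surjective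
  rw [← h4, ← Ideal.map_pow]
  intro x hx
  rw [Ideal.mem_bot]
  have : Ideal.map (Ideal.Quotient.mk b) (maximalIdeal S.carrier ^ N) ≤ Ideal.map (Ideal.Quotient.mk b) b :=
    Ideal.map_mono hN
  have h5 := this hx
  rw [Ideal.map_quotient_self] at h5
  exact (Submodule.mem_bot _).1 h5

/-- the quotient of `S` by an open ideal, as a quotient object -/
noncomputable def SQuot.ofIdeal (b : Ideal S.carrier) (hb : b ≤ maximalIdeal S.carrier) (N : ℕ)
    (hN : maximalIdeal S.carrier ^ N ≤ b) : SQuot S.carrier S.res :=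
  haveI : Nontrivial (S.carrier ⧸ b) := Ideal.Quotient.nontrivial_iff.2
    (fun h => (IsLocalRing.maximalIdeal.isMaximal S.carrier).ne_top (top_le_iff.1 (h ▸ hb)))
  haveI : IsLocalRing (S.carrier ⧸ b) :=
    IsLocalRing.of_surjective' (Ideal.Quotient.mk b) Ideal.Quotient.mk_surjective
  { A :=
      { carrier := S.carrier ⧸ b
        isArtinianRing := isArtinianRing_quot_of_pow_le S b N hN
        res := Ideal.Quotient.liftₐ b S.res (fun _ hx => cring_res_eq_zero S hb hx)
        res_surjective := fun c => by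
          obtain ⟨s, hs⟩ := S.res_surjective c
          exact ⟨Ideal.Quotient.mk b s, hs⟩ }
    π := ⟨Ideal.Quotient.mkₐ Λ b, Ideal.Quotient.liftₐ_comp b S.res _⟩
    surj := Ideal.Quotient.mk_surjective }

theorem SQuot.ker_ofIdeal (b : Ideal S.carrier) (hb : b ≤ maximalIdeal S.carrier) (N : ℕ)
    (hN : maximalIdeal S.carrier ^ N ≤ b) : (SQuot.ofIdeal S b hb N hN).ker = b := by
  ext s
  rw [SQuot.mem_ker]
  exact Ideal.Quotient.eq_zero_iff_mem

theorem SQuot.map_maximalIdeal (Q : SQuot S.carrier S.res) :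
    (maximalIdeal S.carrier).map Q.π.1 = maximalIdeal Q.A := by
  apply le_antisymm (Ideal.map_le_iff_le_comap.2 (maximalIdeal_le_comap S Q.π))
  intro x hx
  obtain ⟨s, rfl⟩ := Q.surj x
  apply Ideal.mem_map_of_mem
  rw [CRing.mem_maximalIdeal_iff, ← homSet_res_apply Q.π s]
  exact (Art.mem_maximalIdeal_iff _ _).1 hx

end Points

end Groth.Agent.Helper8.Schl
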