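import Mathlib
import Groth.Agent.Helper8.Schl2
set_option autoImplicit false
universe u v

namespace Groth.Agent.Helper8.Schl
open ArtFun ArtFun.Art IsLocalRing CategoryTheory Groth.Agent.Helper6

variable {Λ : Type u} {k : Type u} [CommRing Λ] [Field k] [Algebra Λ k]

/-- a compatible tower of quotients of `S` with elements of `F` -/
structure Tower (S : CRing Λ k) (F : Art Λ k ⥤ Type v) where
  Q : ℕ → SQuot S.carrier S.res
  x : ∀ n, F.obj (Q n).A
  anti : ∀ n, (Q (n + 1)).ker ≤ (Q n).ker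
  compat : ∀ n, F.map ((Q (n + 1)).desc (Q n).π (anti n)) (x (n + 1)) = x n

namespace Tower

variable {S : CRing Λ k} {F : Art Λ k ⥤ Type v} (T : Tower S F)

theorem ker_antitone : Antitone (fun n => (T.Q n).ker) := antitone_nat_of_succ_le T.anti

theorem ker_le {n n' : ℕ} (h : n ≤ n') : (T.Q n').ker ≤ (T.Q n).ker := T.ker_antitone h

/-- transition maps -/
noncomputable def trans {n n' : ℕ} (h : n ≤ n') : (T.Q n').A ⟶ (T.Q n).A :=
  (T.Q n').desc (T.Q n).π (T.ker_le h)

theorem map_trans {n n' : ℕ} (h : n ≤ n') : F.map (T.trans h) (T.x n') = T.x n := by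
  induction n', h using Nat.le_induction with
  | base =>
    have : T.trans (le_refl n) = 𝟙 _ := (T.Q n).desc_self
    rw [this, Functor.map_id_apply]
  | succ m hm ih =>
    have : T.trans (Nat.le_succ_of_le hm) = (T.Q (m + 1)).desc (T.Q m).π (T.anti m) ≫ T.trans hm := by
      apply (T.Q (m + 1)).hom_ext
      rw [homSet_map_comp]
      unfold trans
      rw [SQuot.map_desc, SQuot.map_desc, SQuot.map_desc]
    rw [this, Functor.map_comp_apply, T.compat, ih]

/-- the value of the tower at a point of `S` killing the `n`-th kernel -/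
noncomputable def val {A : Art Λ k} (ψ : HomSet S.carrier S.res A) (n : ℕ)
    (h : (T.Q n).ker ≤ RingHom.ker ψ.1) : F.obj A :=
  F.map ((T.Q n).desc ψ h) (T.x n)

theorem val_eq_of_le {A : Art Λ k} (ψ : HomSet S.carrier S.res A) {n n' : ℕ} (hn : n ≤ n')
    (h : (T.Q n).ker ≤ RingHom.ker ψ.1) :
    T.val ψ n' ((T.ker_le hn).trans h) = T.val ψ n h := by
  unfold val
  have : (T.Q n').desc ψ ((T.ker_le hn).trans h) = T.trans hn ≫ (T.Q n).desc ψ h := by
    apply (T.Q n').hom_ext
    rw [homSet_map_comp]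
    unfold trans
    rw [SQuot.map_desc, SQuot.map_desc, SQuot.map_desc]
  rw [this, Functor.map_comp_apply, T.map_trans]

theorem val_eq_val {A : Art Λ k} (ψ : HomSet S.carrier S.res A) (n n' : ℕ)
    (h : (T.Q n).ker ≤ RingHom.ker ψ.1) (h' : (T.Q n').ker ≤ RingHom.ker ψ.1) :
    T.val ψ n h = T.val ψ n' h' := by
  rcases le_total n n' with hn | hn
  · exact (T.val_eq_of_le ψ hn h).symm
  · exact T.val_eq_of_le ψ hn h'

theorem map_val {A B : Art Λ k} (f : A ⟶ B) (ψ : HomSet S.carrier S.res A) (n : ℕ)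
    (h : (T.Q n).ker ≤ RingHom.ker ψ.1) (h' : (T.Q n).ker ≤ RingHom.ker (HomSet.map f ψ).1) :
    F.map f (T.val ψ n h) = T.val (HomSet.map f ψ) n h' := by
  unfold val
  rw [← Functor.map_comp_apply, ← SQuot.desc_comp]

/-- the intersection of the kernels -/
def inf : Ideal S.carrier := ⨅ n, (T.Q n).ker

theorem inf_le (n : ℕ) : T.inf ≤ (T.Q n).ker := iInf_le _ n

theorem inf_le_maximalIdeal : T.inf ≤ maximalIdeal S.carrier :=
  (T.inf_le 0).trans (ker_le_maximalIdeal_of_point S (T.Q 0).π)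

theorem exists_ker_le {A : Art Λ k} (ψ : HomSet S.carrier S.res A) (h : T.inf ≤ RingHom.ker ψ.1) :
    ∃ n, (T.Q n).ker ≤ RingHom.ker ψ.1 := by
  obtain ⟨N, hN⟩ := exists_pow_le_ker S ψ
  haveI := S.isAdicComplete
  obtain ⟨s, hs⟩ := chevalley_ideal (fun n => (T.Q n).ker) T.ker_antitone N
  exact ⟨s, hs.trans (sup_le h hN)⟩

/-- the coefficient ring of the tower -/
noncomputable def ring : CRing Λ k := quotCRing S T.inf T.inf_le_maximalIdeal

/-- the family over the limit ring -/
noncomputable def family : Family T.ring.carrier T.ring.res F where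
  app A φ := T.val (ofQuot φ) (Classical.choose (T.exists_ker_le (ofQuot φ) (le_ker_ofQuot φ)))
    (Classical.choose_spec (T.exists_ker_le (ofQuot φ) (le_ker_ofQuot φ)))
  natural := by
    intro A B f φ
    rw [T.map_val f (ofQuot φ) _ _
      ((Classical.choose_spec (T.exists_ker_le (ofQuot φ) (le_ker_ofQuot φ))).trans (by
        intro s hs
        rw [RingHom.mem_ker] at hs ⊢
        rw [homSet_map_apply, hs]
        exact map_zero f.toAlgHom))]
    exact T.val_eq_val _ _ _ _ _

theorem family_app {A : Art Λ k} (φ : HomSet T.ring.carrier T.ring.res A) (n : ℕ)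
    (h : (T.Q n).ker ≤ RingHom.ker (ofQuot φ).1) : T.family.app A φ = T.val (ofQuot φ) n h :=
  T.val_eq_val _ _ _ _ _

theorem val_congr {A : Art Λ k} {ψ ψ' : HomSet S.carrier S.res A} (e : ψ = ψ') (n : ℕ)
    (h : (T.Q n).ker ≤ RingHom.ker ψ.1) (h' : (T.Q n).ker ≤ RingHom.ker ψ'.1) :
    T.val ψ n h = T.val ψ' n h' := by
  subst e
  rfl

theorem family_app_toQuot {A : Art Λ k} (ψ : HomSet S.carrier S.res A) (n : ℕ)
    (h : (T.Q n).ker ≤ RingHom.ker ψ.1) :
    T.family.app A (toQuot (ha := T.inf_le_maximalIdeal) ψ ((T.inf_le n).trans h)) = T.val ψ n h := by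
  have e : ofQuot (toQuot (ha := T.inf_le_maximalIdeal) ψ ((T.inf_le n).trans h)) = ψ :=
    ofQuot_toQuot ψ _
  have h' : (T.Q n).ker ≤
      RingHom.ker (ofQuot (toQuot (ha := T.inf_le_maximalIdeal) ψ ((T.inf_le n).trans h))).1 := by
    rw [e]; exact h
  exact (T.family_app _ n h').trans (T.val_congr e n h' h)

end Tower

end Groth.Agent.Helper8.Schl
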