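import Mathlib
import Groth.Agent.Helper8.Schl3
set_option autoImplicit false
universe u v

namespace Groth.Agent.Helper8.Schl
open ArtFun ArtFun.Art IsLocalRing CategoryTheory Groth.Agent.Helper6

variable {Λ : Type u} {k : Type u} [CommRing Λ] [Field k] [Algebra Λ k]

variable {S : CRing Λ k} {F : Art Λ k ⥤ Type v}

/-- a stage of the construction: a quotient of `S` with an element of `F` over it -/
structure Stage (S : CRing Λ k) (F : Art Λ k ⥤ Type v) where
  Q : SQuot S.carrier S.res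
  x : F.obj Q.A

/-- `σ'` is the next stage after `σ`: the least quotient between `S/𝔪𝔞` and `S/𝔞` to which `x` lifts. -/
def IsNext (σ σ' : Stage S F) : Prop :=
  ∃ hle : σ'.Q.ker ≤ σ.Q.ker, maximalIdeal S.carrier * σ.Q.ker ≤ σ'.Q.ker ∧
    F.map (σ'.Q.desc σ.Q.π hle) σ'.x = σ.x ∧
    ∀ (Q'' : SQuot S.carrier S.res) (hle'' : Q''.ker ≤ σ.Q.ker),
      maximalIdeal S.carrier * σ.Q.ker ≤ Q''.ker →
      (∃ y : F.obj Q''.A, F.map (Q''.desc σ.Q.π hle'') y = σ.x) → σ'.Q.ker ≤ Q''.ker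

theorem SQuot.exists_pow_le (Q : SQuot S.carrier S.res) :
    ∃ N : ℕ, maximalIdeal S.carrier ^ N ≤ Q.ker := exists_pow_le_ker S Q.π

theorem SQuot.ker_le_maximalIdeal (Q : SQuot S.carrier S.res) : Q.ker ≤ maximalIdeal S.carrier :=
  ker_le_maximalIdeal_of_point S Q.π

theorem exists_isNext (h1 : S1 F) (σ : Stage S F) : ∃ σ' : Stage S F, IsNext σ σ' := by
  obtain ⟨N, hN⟩ := σ.Q.exists_pow_le
  have hb : maximalIdeal S.carrier * σ.Q.ker ≤ maximalIdeal S.carrier := Ideal.mul_le_left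
  have hbN : maximalIdeal S.carrier ^ (N + 1) ≤ maximalIdeal S.carrier * σ.Q.ker := by
    rw [pow_succ']
    exact Ideal.mul_mono_right hN
  set B := SQuot.ofIdeal S (maximalIdeal S.carrier * σ.Q.ker) hb (N + 1) hbN with hB
  have hBker : B.ker = maximalIdeal S.carrier * σ.Q.ker := SQuot.ker_ofIdeal S _ hb _ hbN
  have hBle : B.ker ≤ σ.Q.ker := by rw [hBker]; exact Ideal.mul_le_right
  set p : B.A ⟶ σ.Q.A := B.desc σ.Q.π hBle with hp
  have hpsurj : Function.Surjective p := B.desc_surjective _ _ σ.Q.surj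
  have hpsemi : IsSemismallExt p := by
    refine ⟨hpsurj, ?_⟩
    rw [hp, SQuot.ker_desc, ← SQuot.map_maximalIdeal S B, ← Ideal.map_mul, ← hBker]
    rw [eq_bot_iff]
    rw [Ideal.map_le_iff_le_comap]
    intro s hs
    rw [Ideal.mem_comap, Ideal.mem_bot]
    exact (B.mem_ker s).1 hs
  obtain ⟨J₀, hJ₀, hJ₀', ⟨y₀, hy₀⟩, hmin⟩ := exists_least p h1 hpsemi σ.x
  let Q' : SQuot S.carrier S.res :=
    { A := Art.quot B.A J₀ hJ₀'
      π := HomSet.map (Art.quotMk B.A J₀ hJ₀') B.π
      surj := fun z => by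
        obtain ⟨b, rfl⟩ := Art.quotMk_surjective B.A J₀ hJ₀' z
        obtain ⟨s, rfl⟩ := B.surj b
        exact ⟨s, rfl⟩ }
  have hQ'ker : ∀ s, s ∈ Q'.ker ↔ B.π.1 s ∈ J₀ := by
    intro s
    rw [SQuot.mem_ker]
    exact Ideal.Quotient.eq_zero_iff_mem
  have hle : Q'.ker ≤ σ.Q.ker := by
    intro s hs
    have h2 := hJ₀ ((hQ'ker s).1 hs)
    rw [RingHom.mem_ker] at h2
    rw [SQuot.mem_ker]
    exact (B.desc_apply σ.Q.π hBle s).symm.trans h2
  have hdesc : Q'.desc σ.Q.π hle = Art.quotFactor hJ₀' p hJ₀ := by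
    apply Q'.desc_eq
    apply Subtype.ext
    apply AlgHom.ext
    intro s
    exact B.desc_apply σ.Q.π hBle s
  refine ⟨⟨Q', y₀⟩, hle, ?_, ?_, ?_⟩
  · intro s hs
    rw [hQ'ker]
    rw [← hBker] at hs
    rw [(B.mem_ker s).1 hs]
    exact zero_mem _
  · change F.map (Q'.desc σ.Q.π hle) y₀ = σ.x
    rw [hdesc, hy₀]
  · intro Q'' hle'' hm'' ⟨y, hy⟩
    have hBQ'' : B.ker ≤ Q''.ker := by rw [hBker]; exact hm''
    set r : B.A ⟶ Q''.A := B.desc Q''.π hBQ'' with hr
    have hrsurj : Function.Surjective r := B.desc_surjective _ _ Q''.surj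
    have hrp : r ≫ Q''.desc σ.Q.π hle'' = p := by
      apply B.hom_ext
      rw [homSet_map_comp, hr, hp, SQuot.map_desc, SQuot.map_desc, SQuot.map_desc]
    have hJ : RingHom.ker r.toAlgHom ≤ RingHom.ker p.toAlgHom := by
      intro b hb
      rw [RingHom.mem_ker] at hb ⊢
      have : p b = (Q''.desc σ.Q.π hle'') (r b) := by rw [← hrp]; rfl
      change p b = 0
      rw [this]
      have hb' : r b = 0 := hb
      rw [hb']
      exact map_zero (Q''.desc σ.Q.π hle'').toAlgHom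
    have hJ' : RingHom.ker r.toAlgHom ≤ maximalIdeal B.A := ker_le_maximalIdeal r
    have hbij : Function.Bijective (Art.quotFactor hJ' r le_rfl) := by
      constructor
      · intro z z' h
        obtain ⟨b, rfl⟩ := Ideal.Quotient.mk_surjective z
        obtain ⟨b', rfl⟩ := Ideal.Quotient.mk_surjective z'
        rw [quotFactor_mk, quotFactor_mk] at h
        refine Ideal.Quotient.eq.2 ?_
        rw [RingHom.mem_ker, map_sub]
        exact sub_eq_zero.2 h
      · intro a
        obtain ⟨b, rfl⟩ := hrsurj a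
        exact ⟨Ideal.Quotient.mk _ b, rfl⟩
    haveI := isIso_of_bijective _ hbij
    have hcomp : Art.quotFactor hJ' r le_rfl ≫ Q''.desc σ.Q.π hle'' = Art.quotFactor hJ' p hJ := by
      apply Art.hom_ext
      apply AlgHom.ext
      intro z
      obtain ⟨b, rfl⟩ := Ideal.Quotient.mk_surjective z
      change (Q''.desc σ.Q.π hle'') (r b) = p b
      rw [← hrp]; rfl
    have hlift : ∃ y' : F.obj (Art.quot B.A (RingHom.ker r.toAlgHom) hJ'),
        F.map (Art.quotFactor hJ' p hJ) y' = σ.x := by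
      refine ⟨F.map (inv (Art.quotFactor hJ' r le_rfl)) y, ?_⟩
      rw [← hcomp, ← Functor.map_comp_apply, IsIso.inv_hom_id_assoc, hy]
    have hJ₀le := hmin _ hJ hJ' hlift
    intro s hs
    have h3 := hJ₀le ((hQ'ker s).1 hs)
    rw [RingHom.mem_ker] at h3
    rw [SQuot.mem_ker]
    exact (B.desc_apply Q''.π hBQ'' s).symm.trans h3

/-- the next stage -/
noncomputable def next (h1 : S1 F) (σ : Stage S F) : Stage S F := Classical.choose (exists_isNext h1 σ)

theorem isNext_next (h1 : S1 F) (σ : Stage S F) : IsNext σ (next h1 σ) :=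
  Classical.choose_spec (exists_isNext h1 σ)

/-- the sequence of stages -/
noncomputable def stages (h1 : S1 F) (σ₀ : Stage S F) : ℕ → Stage S F
  | 0 => σ₀
  | n + 1 => next h1 (stages h1 σ₀ n)

theorem isNext_stages (h1 : S1 F) (σ₀ : Stage S F) (n : ℕ) :
    IsNext (stages h1 σ₀ n) (stages h1 σ₀ (n + 1)) := isNext_next h1 _

/-- the tower of stages -/
noncomputable def tower (h1 : S1 F) (σ₀ : Stage S F) : Tower S F where
  Q n := (stages h1 σ₀ n).Q
  x n := (stages h1 σ₀ n).x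
  anti n := (isNext_stages h1 σ₀ n).1
  compat n := (isNext_stages h1 σ₀ n).2.2.1

end Groth.Agent.Helper8.Schl
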