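import Mathlib
import Groth.Agent.Helper8.Schl4
set_option autoImplicit false
universe u v

namespace Groth.Agent.Helper8.Schl
open ArtFun ArtFun.Art IsLocalRing CategoryTheory Groth.Agent.Helper6

variable {Λ : Type u} {k : Type u} [CommRing Λ] [Field k] [Algebra Λ k]

variable {S : CRing Λ k} {F : Art Λ k ⥤ Type v}

theorem point_mem_maximalIdeal {B : Art Λ k} (ψ : HomSet S.carrier S.res B) {t : S.carrier}
    (ht : t ∈ maximalIdeal S.carrier) : ψ.1 t ∈ maximalIdeal B := maximalIdeal_le_comap S ψ ht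

theorem mul_eq_zero_of_small {B A : Art Λ k} {μ : B ⟶ A} (hμ : maximalIdeal B * RingHom.ker μ.toAlgHom = ⊥)
    {x y : B} (hx : x ∈ maximalIdeal B) (hy : μ y = 0) : x * y = 0 := by
  have : x * y ∈ maximalIdeal B * RingHom.ker μ.toAlgHom :=
    Ideal.mul_mem_mul hx (RingHom.mem_ker.2 hy)
  rw [hμ] at this
  exact (Ideal.mem_bot).1 this

theorem isFibreProd_of_small (Q : SQuot S.carrier S.res) {B A : Art Λ k} (μ : B ⟶ A) (hμ : IsSmallExt μ)
    (f : Q.A ⟶ A) (ψ : HomSet S.carrier S.res B) (hψ : HomSet.map μ ψ = HomSet.map f Q.π)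
    (Q'' : SQuot S.carrier S.res) (h₁ : Q''.ker ≤ Q.ker) (h₂ : Q''.ker ≤ RingHom.ker ψ.1)
    (hinf : Q.ker ⊓ RingHom.ker ψ.1 ≤ Q''.ker) (hne : ¬ Q.ker ≤ RingHom.ker ψ.1) :
    IsFibreProd (Q''.desc Q.π h₁) (Q''.desc ψ h₂) f μ := by
  have hμψ : ∀ s, μ (ψ.1 s) = f (Q.π.1 s) := fun s =>
    congrArg (fun t : HomSet S.carrier S.res A => t.1 s) hψ
  refine ⟨?_, ?_, ?_⟩
  · apply Q''.hom_ext
    rw [homSet_map_comp, homSet_map_comp, SQuot.map_desc, SQuot.map_desc, hψ]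
  · intro b₁ b₂ e₁ e₂
    obtain ⟨s₁, rfl⟩ := Q''.surj b₁
    obtain ⟨s₂, rfl⟩ := Q''.surj b₂
    rw [SQuot.desc_apply, SQuot.desc_apply] at e₁ e₂
    have hk : s₁ - s₂ ∈ Q''.ker := by
      apply hinf
      refine ⟨?_, ?_⟩
      · show s₁ - s₂ ∈ Q.ker
        exact (Q.mem_ker _).2 (by rw [map_sub, e₁, sub_self])
      · show s₁ - s₂ ∈ RingHom.ker ψ.1
        exact RingHom.mem_ker.2 (by rw [map_sub, e₂, sub_self])
    rw [SQuot.mem_ker, map_sub, sub_eq_zero] at hk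
    exact hk
  · intro a' b'' hab
    obtain ⟨s₁, rfl⟩ := Q.surj a'
    have hd : μ (ψ.1 s₁ - b'') = 0 := by
      have : μ (ψ.1 s₁ - b'') = μ (ψ.1 s₁) - μ b'' := map_sub μ.toAlgHom _ _
      rw [this, hμψ, hab, sub_self]
    obtain ⟨s, hs, hsψ⟩ := Set.not_subset.1 hne
    have hsψ' : ψ.1 s ≠ 0 := fun h => hsψ (RingHom.mem_ker.2 h)
    have hsμ : μ (ψ.1 s) = 0 := by
      rw [hμψ, (Q.mem_ker s).1 hs]
      exact map_zero f.toAlgHom
    obtain ⟨hμsurj, hμne, ⟨t, ht⟩, hμm⟩ := hμ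
    have hmem : ∀ x : B, μ x = 0 → ∃ c : B, x = c * t := by
      intro x hx
      have : x ∈ RingHom.ker μ.toAlgHom := RingHom.mem_ker.2 hx
      rw [ht] at this
      obtain ⟨c, hc⟩ := (Submodule.mem_span_singleton).1 this
      exact ⟨c, hc.symm⟩
    have htμ : μ t = 0 := by
      have : t ∈ RingHom.ker μ.toAlgHom := by
        rw [ht]; exact Submodule.mem_span_singleton_self t
      exact RingHom.mem_ker.1 this
    obtain ⟨u, hu⟩ := hmem _ hsμ
    obtain ⟨c, hc⟩ := hmem _ hd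
    have huunit : IsUnit u := by
      by_contra hnu
      have : u ∈ maximalIdeal B := (IsLocalRing.mem_maximalIdeal u).2 hnu
      exact hsψ' (hu.trans (mul_eq_zero_of_small hμm this htμ))
    obtain ⟨u', rfl⟩ := huunit
    set e : B := c * ↑u'⁻¹ with he
    have hde : ψ.1 s₁ - b'' = e * ψ.1 s := by
      rw [hc, hu, he]
      have : c * ↑u'⁻¹ * (↑u' * t) = c * t * (↑u'⁻¹ * ↑u') := by ring
      rw [this, Units.inv_mul, mul_one]
    obtain ⟨s₂, hs₂⟩ := S.res_surjective (B.res e)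
    have hm : ψ.1 s₂ - e ∈ maximalIdeal B := by
      rw [Art.mem_maximalIdeal_iff, map_sub, homSet_res_apply, hs₂, sub_self]
    have hz : (ψ.1 s₂ - e) * ψ.1 s = 0 := mul_eq_zero_of_small hμm hm hsμ
    have hprod : ψ.1 (s₂ * s) = e * ψ.1 s := by
      rw [map_mul]
      have : ψ.1 s₂ * ψ.1 s = (ψ.1 s₂ - e) * ψ.1 s + e * ψ.1 s := by ring
      rw [this, hz, zero_add]
    refine ⟨Q''.π.1 (s₁ - s₂ * s), ?_, ?_⟩
    · rw [SQuot.desc_apply, map_sub, map_mul, (Q.mem_ker s).1 hs, mul_zero, sub_zero]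
    · rw [SQuot.desc_apply, map_sub, hprod, ← hde]
      ring

theorem tower_lifting (h1 : S1 F) (hS : IsSmoothFunctor (hR S.carrier S.res)) (T : Tower S F)
    (hT : ∀ n, IsNext ⟨T.Q n, T.x n⟩ ⟨T.Q (n + 1), T.x (n + 1)⟩)
    ⦃B A : Art Λ k⦄ (μ : B ⟶ A) (hμ : IsSmallExt μ)
    (φ : HomSet T.ring.carrier T.ring.res A) (y : F.obj B)
    (hy : F.map μ y = T.family.app A φ) :
    ∃ ψ : HomSet T.ring.carrier T.ring.res B, HomSet.map μ ψ = φ := by
  obtain ⟨n, hn⟩ := T.exists_ker_le (ofQuot φ) (le_ker_ofQuot φ)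
  have happ : T.family.app A φ = T.val (ofQuot φ) n hn := T.family_app φ n hn
  set f : (T.Q n).A ⟶ A := (T.Q n).desc (ofQuot φ) hn with hf
  have hfπ : HomSet.map f (T.Q n).π = ofQuot φ := SQuot.map_desc _ _ _
  obtain ⟨(ψS : HomSet S.carrier S.res B), hψS⟩ := hS μ hμ.1 (ofQuot φ)
  have hψS' : HomSet.map μ ψS = ofQuot φ := hψS
  have hnext := hT n
  obtain ⟨hle, hmul, hcompat, hmin⟩ := hnext
  have hkey : (T.Q (n + 1)).ker ≤ RingHom.ker ψS.1 := by
    by_cases hne : (T.Q n).ker ≤ RingHom.ker ψS.1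
    · exact (T.anti n).trans hne
    · obtain ⟨N, hN⟩ := (T.Q n).exists_pow_le
      have hmulψ : maximalIdeal S.carrier * (T.Q n).ker ≤ RingHom.ker ψS.1 := by
        rw [Ideal.mul_le]
        intro t ht s hs
        rw [RingHom.mem_ker, map_mul]
        refine mul_eq_zero_of_small hμ.2.2.2 (point_mem_maximalIdeal ψS ht) ?_
        have : μ (ψS.1 s) = (ofQuot φ).1 s := congrArg (fun t : HomSet S.carrier S.res A => t.1 s) hψS'
        rw [this]
        exact RingHom.mem_ker.1 (hn hs)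
      have hb : (T.Q n).ker ⊓ RingHom.ker ψS.1 ≤ maximalIdeal S.carrier :=
        inf_le_left.trans (T.Q n).ker_le_maximalIdeal
      have hbN : maximalIdeal S.carrier ^ (N + 1) ≤ (T.Q n).ker ⊓ RingHom.ker ψS.1 := by
        rw [pow_succ']
        exact le_inf ((Ideal.mul_mono_right hN).trans Ideal.mul_le_right)
          ((Ideal.mul_mono_right hN).trans hmulψ)
      set Q'' := SQuot.ofIdeal S ((T.Q n).ker ⊓ RingHom.ker ψS.1) hb (N + 1) hbN with hQ''
      have hQ''ker : Q''.ker = (T.Q n).ker ⊓ RingHom.ker ψS.1 := SQuot.ker_ofIdeal S _ hb _ hbN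
      have h₁ : Q''.ker ≤ (T.Q n).ker := by rw [hQ''ker]; exact inf_le_left
      have h₂ : Q''.ker ≤ RingHom.ker ψS.1 := by rw [hQ''ker]; exact inf_le_right
      have hfp := isFibreProd_of_small (T.Q n) μ hμ f ψS (hψS'.trans hfπ.symm) Q'' h₁ h₂
        (le_of_eq hQ''ker.symm) hne
      obtain ⟨z, hz⟩ := h1 _ _ _ _ hfp hμ.1 ⟨(T.x n, y), by
        change F.map f (T.x n) = F.map μ y
        rw [hy, happ]
        rfl⟩
      have hz1 : F.map (Q''.desc (T.Q n).π h₁) z = T.x n := congrArg (fun w => w.1.1) hz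
      have := hmin Q'' h₁ (by
        rw [hQ''ker]
        exact le_inf Ideal.mul_le_right hmulψ) ⟨z, hz1⟩
      exact this.trans h₂
  have hinf : T.inf ≤ RingHom.ker ψS.1 := (T.inf_le (n + 1)).trans hkey
  refine ⟨toQuot ψS hinf, ?_⟩
  have h3 : HomSet.map μ (toQuot (ha := T.inf_le_maximalIdeal) ψS hinf) =
      toQuot (HomSet.map μ ψS) (by rw [hψS']; exact le_ker_ofQuot φ) := map_toQuot μ ψS hinf _
  refine h3.trans ?_
  have h4 : toQuot (ha := T.inf_le_maximalIdeal) (ofQuot φ) (le_ker_ofQuot φ) = φ := toQuot_ofQuot φ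
  refine Eq.trans ?_ h4
  congr 1

end Groth.Agent.Helper8.Schl
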