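import Mathlib
import Groth.Agent.Helper8.Schl5
import Groth.Agent.Helper8.ArtLift5
import Groth.Agent.Helper6.ArtFunPullback2
set_option autoImplicit false
universe u v

namespace Groth.Agent.Helper8.Schl
open ArtFun ArtFun.Art IsLocalRing CategoryTheory Groth.Agent.Helper6

variable {Λ : Type u} {k : Type u} [CommRing Λ] [Field k] [Algebra Λ k]

theorem art_finite [Module.Finite Λ k] (A : Art Λ k) : Module.Finite Λ A := by
  refine Module.finite_of_surjective_of_ker_le_nilradical A.res A.res_surjective ?_
    (IsNoetherian.noetherian _)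
  intro x hx
  rw [mem_nilradical]
  exact art_isNilpotent_of_res_eq_zero A x (RingHom.mem_ker.1 hx)

section Poly

variable [IsNoetherianRing Λ] {n : ℕ} (f : MvPolynomial (Fin n) Λ →ₐ[Λ] k) (hf : Function.Surjective f)

/-- the completion of a polynomial ring at the kernel of a surjection to `k`, as a coefficient ring -/
noncomputable def polyCRing : CRing Λ k :=
  have fg : (RingHom.ker f).FG := IsNoetherian.noetherian _
  haveI hImax : (RingHom.ker f).IsMaximal :=
    RingHom.ker_isMaximal_of_surjective (f : MvPolynomial (Fin n) Λ →+* k) hf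
  haveI hmaxC : ((RingHom.ker f).map
      (algebraMap _ (AdicCompletion (RingHom.ker f) (MvPolynomial (Fin n) Λ)))).IsMaximal :=
    AdicCompletion.isMaximal_map_of_le (RingHom.ker f) (RingHom.ker f) le_rfl fg
  haveI hcomp : IsAdicComplete ((RingHom.ker f).map
      (algebraMap _ (AdicCompletion (RingHom.ker f) (MvPolynomial (Fin n) Λ))))
      (AdicCompletion (RingHom.ker f) (MvPolynomial (Fin n) Λ)) :=
    AdicCompletion.isAdicComplete_self (RingHom.ker f) fg
  haveI hloc : IsLocalRing (AdicCompletion (RingHom.ker f) (MvPolynomial (Fin n) Λ)) :=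
    isLocalRing_of_isAdicComplete_maximal
      ((RingHom.ker f).map (algebraMap _ (AdicCompletion (RingHom.ker f) (MvPolynomial (Fin n) Λ))))
  have hm : maximalIdeal (AdicCompletion (RingHom.ker f) (MvPolynomial (Fin n) Λ)) =
      (RingHom.ker f).map (algebraMap _ (AdicCompletion (RingHom.ker f) (MvPolynomial (Fin n) Λ))) :=
    (IsLocalRing.eq_maximalIdeal hmaxC).symm
  haveI hnoeth : IsNoetherianRing (AdicCompletion (RingHom.ker f) (MvPolynomial (Fin n) Λ)) :=
    Groth.Agent.S0543.result _ (RingHom.ker f)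
  { carrier := AdicCompletion (RingHom.ker f) (MvPolynomial (Fin n) Λ)
    res := AdicCompletion.kerProj hf
    res_surjective := AdicCompletion.kerProj_surjective hf
    isAdicComplete := by rw [hm]; exact hcomp }

theorem polyCRing_maximalIdeal :
    maximalIdeal (polyCRing f hf).carrier = (RingHom.ker f).map
      (algebraMap (MvPolynomial (Fin n) Λ) (AdicCompletion (RingHom.ker f) (MvPolynomial (Fin n) Λ))) := by
  have fg : (RingHom.ker f).FG := IsNoetherian.noetherian _
  haveI hImax : (RingHom.ker f).IsMaximal :=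
    RingHom.ker_isMaximal_of_surjective (f : MvPolynomial (Fin n) Λ →+* k) hf
  haveI hmaxC : ((RingHom.ker f).map
      (algebraMap _ (AdicCompletion (RingHom.ker f) (MvPolynomial (Fin n) Λ)))).IsMaximal :=
    AdicCompletion.isMaximal_map_of_le (RingHom.ker f) (RingHom.ker f) le_rfl fg
  haveI : IsLocalRing (AdicCompletion (RingHom.ker f) (MvPolynomial (Fin n) Λ)) :=
    (polyCRing f hf).isLocalRing
  exact (IsLocalRing.eq_maximalIdeal hmaxC).symm

theorem polyCRing_smooth : IsSmoothFunctor (hR (polyCRing f hf).carrier (polyCRing f hf).res) := by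
  have fg : (RingHom.ker f).FG := IsNoetherian.noetherian _
  refine Groth.Agent.Helper8.ArtLift.isSmoothFunctor_hR_of_adic (polyCRing f hf) ?_
  rw [polyCRing_maximalIdeal]
  exact (Groth.Agent.Helper8.AdicFS.s9318 (RingHom.ker f) fg).mp
    (Groth.Agent.Helper8.ArtLift.adic_of_formallySmooth (RingHom.ker f))

/-- the canonical map from the polynomial ring -/
noncomputable def polyOf : MvPolynomial (Fin n) Λ →ₐ[Λ] (polyCRing f hf).carrier :=
  (Algebra.ofId (MvPolynomial (Fin n) Λ)
    (AdicCompletion (RingHom.ker f) (MvPolynomial (Fin n) Λ))).restrictScalars Λ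

theorem polyCRing_res_of (p : MvPolynomial (Fin n) Λ) : (polyCRing f hf).res (polyOf f hf p) = f p :=
  AdicCompletion.kerProj_of hf p

end Poly

section Cover

variable [IsNoetherianRing Λ] {n : ℕ}

/-- a surjection from a polynomial ring onto an Artinian object extends to the completion -/
theorem exists_polyPoint (A : Art Λ k) (g : MvPolynomial (Fin n) Λ →ₐ[Λ] A) (hg : Function.Surjective g) :
    ∃ π : HomSet (polyCRing (A.res.comp g) (A.res_surjective.comp hg)).carrier
        (polyCRing (A.res.comp g) (A.res_surjective.comp hg)).res A,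
      Function.Surjective π.1 ∧ ∀ p, π.1 (polyOf _ (A.res_surjective.comp hg) p) = g p := by
  set f := A.res.comp g with hf'
  have hf : Function.Surjective f := A.res_surjective.comp hg
  set I := RingHom.ker f with hI
  obtain ⟨N, hN⟩ := exists_maximalIdeal_pow_eq_bot A
  have hImap : Ideal.map g I ≤ maximalIdeal A := by
    rw [Ideal.map_le_iff_le_comap]
    intro x hx
    rw [Ideal.mem_comap, Art.mem_maximalIdeal_iff]
    exact RingHom.mem_ker.1 hx
  have hker : ∀ x ∈ I ^ N, g x = 0 := by
    intro x hx
    have h1 : Ideal.map g (I ^ N) ≤ maximalIdeal A ^ N := by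
      rw [Ideal.map_pow]
      exact Ideal.pow_right_mono hImap _
    have h2 := h1 (Ideal.mem_map_of_mem g hx)
    rw [hN] at h2
    exact (Submodule.mem_bot _).1 h2
  let πalg : AdicCompletion I (MvPolynomial (Fin n) Λ) →ₐ[Λ] A :=
    (Ideal.Quotient.liftₐ (I ^ N) g hker).comp ((AdicCompletion.evalₐ I N).restrictScalars Λ)
  have hπmk : ∀ c : AdicCompletion.AdicCauchySequence I (MvPolynomial (Fin n) Λ),
      πalg (AdicCompletion.mk I _ c) = g (c.val N) := by
    intro c
    change Ideal.Quotient.liftₐ (I ^ N) g hker (AdicCompletion.evalₐ I N (AdicCompletion.mk I _ c)) = _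
    rw [AdicCompletion.evalₐ_mk]
    rfl
  have hresmk : ∀ c : AdicCompletion.AdicCauchySequence I (MvPolynomial (Fin n) Λ),
      AdicCompletion.kerProj hf (AdicCompletion.mk I _ c) = f (c.val 1) := by
    intro c
    change (Ideal.quotientKerAlgEquivOfSurjective hf)
      (AdicCompletion.evalOneₐ I (AdicCompletion.mk I _ c)) = _
    rw [← AdicCompletion.factorₐ_evalₐ_one, AdicCompletion.evalₐ_mk]
    rfl
  refine ⟨⟨πalg, ?_⟩, ?_, ?_⟩
  · apply AlgHom.ext
    intro x
    obtain ⟨c, rfl⟩ := AdicCompletion.mk_surjective I _ x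
    change A.res (πalg (AdicCompletion.mk I _ c)) = AdicCompletion.kerProj hf (AdicCompletion.mk I _ c)
    rw [hπmk, hresmk]
    change f (c.val N) = f (c.val 1)
    rcases Nat.eq_zero_or_pos N with hN0 | hNpos
    · -- N = 0 : A is trivial, impossible
      exfalso
      rw [hN0, pow_zero] at hN
      exact (Ideal.one_eq_top (R := A) ▸ hN ▸ (bot_ne_top (α := Ideal A))) rfl
    · have hc := c.2 hNpos
      rw [SModEq.sub_mem] at hc
      have : c.val 1 - c.val N ∈ I := by
        have h3 : (I ^ 1 • ⊤ : Submodule _ (MvPolynomial (Fin n) Λ)) ≤ I := by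
          rw [pow_one, smul_eq_mul, Ideal.mul_top]
        exact h3 hc
      have h4 : f (c.val 1 - c.val N) = 0 := RingHom.mem_ker.1 this
      rw [map_sub, sub_eq_zero] at h4
      exact h4.symm
  · intro a
    obtain ⟨p, rfl⟩ := hg a
    refine ⟨AdicCompletion.of I _ p, ?_⟩
    change Ideal.Quotient.liftₐ (I ^ N) g hker (AdicCompletion.evalₐ I N (AdicCompletion.of I _ p)) = _
    rw [AdicCompletion.evalₐ_of]
    rfl
  · intro p
    change Ideal.Quotient.liftₐ (I ^ N) g hker (AdicCompletion.evalₐ I N (AdicCompletion.of I _ p)) = _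
    rw [AdicCompletion.evalₐ_of]
    rfl

theorem exists_smooth_cover [Module.Finite Λ k] (A : Art Λ k) :
    ∃ (S : CRing Λ k), IsSmoothFunctor (hR S.carrier S.res) ∧
      ∃ π : HomSet S.carrier S.res A, Function.Surjective π.1 := by
  haveI : Module.Finite Λ A := art_finite A
  obtain ⟨n, g, hg⟩ := Algebra.FiniteType.iff_quotient_mvPolynomial''.mp
    (inferInstance : Algebra.FiniteType Λ A)
  obtain ⟨π, hπ, -⟩ := exists_polyPoint A g hg
  exact ⟨_, polyCRing_smooth _ _, π, hπ⟩

end Cover

end Groth.Agent.Helper8.Schl
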