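import Mathlib
import Groth.Agent.Helper8.Schl6
import Groth.Agent.Helper6.ArtFunTangentLinear
import Groth.Agent.Helper6.ArtFunPullback
import Groth.Agent.S12728
set_option autoImplicit false
universe u v

namespace Groth.Agent.Helper8.Schl
open ArtFun ArtFun.Art IsLocalRing CategoryTheory Groth.Agent.Helper6

variable {Λ : Type u} {k : Type u} [CommRing Λ] [Field k] [Algebra Λ k]

variable {F : Art Λ k ⥤ Type v}

theorem exists_elt_of_finset (h0 : H0 F) (h1 : S1 F) (s : Finset (F.obj (dual Λ k))) :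
    ∃ (A : Art Λ k) (x : F.obj A), ∀ e ∈ s, ∃ τ : A ⟶ dual Λ k, F.map τ x = e := by
  classical
  induction s using Finset.induction_on with
  | empty =>
    obtain ⟨⟨x⟩, -⟩ := h0
    exact ⟨base Λ k, x, fun e he => absurd he (Finset.notMem_empty e)⟩
  | insert e s hes ih =>
    obtain ⟨A, x, hx⟩ := ih
    have hsurj : Function.Surjective (toBase (dual Λ k)) := dual_toBase_surjective
    have hfp := pb_isFibreProd (toBase A) (toBase (dual Λ k)) hsurj
    haveI := h0.2
    obtain ⟨z, hz⟩ := h1 _ _ _ _ hfp hsurj ⟨(x, e), Subsingleton.elim _ _⟩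
    have hz1 : F.map (pbFst (toBase A) (toBase (dual Λ k)) hsurj) z = x := congrArg (fun w => w.1.1) hz
    have hz2 : F.map (pbSnd (toBase A) (toBase (dual Λ k)) hsurj) z = e := congrArg (fun w => w.1.2) hz
    refine ⟨pbObj (toBase A) (toBase (dual Λ k)) hsurj, z, ?_⟩
    intro e' he'
    rcases Finset.mem_insert.1 he' with rfl | he'
    · exact ⟨_, hz2⟩
    · obtain ⟨τ, hτ⟩ := hx e' he'
      exact ⟨pbFst (toBase A) (toBase (dual Λ k)) hsurj ≫ τ, by
        rw [Functor.map_comp_apply, hz1, hτ]⟩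

theorem surjective_of_span {R : CRing Λ k} [TangentStr F] (ξ : Family R.carrier R.res F)
    (s : Set (TangentSpace F)) (hs : Submodule.span k s = ⊤)
    (h : ∀ e ∈ s, ∃ φ : HomSet R.carrier R.res (dual Λ k), ξ.app (dual Λ k) φ = e) :
    Function.Surjective (TangentSpace.ofFamily ξ) := by
  letI : Algebra R.carrier k := R.res.toRingHom.toAlgebra
  have hle : Submodule.span k s ≤ LinearMap.range (tangentLinearMap R ξ) := by
    rw [Submodule.span_le]
    intro e he
    obtain ⟨φ, hφ⟩ := h e he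
    refine ⟨derivationOfHomSet R φ, ?_⟩
    change ξ.app (dual Λ k) (homSetOfDerivation R (derivationOfHomSet R φ)) = e
    rw [homSetOfDerivation_derivationOfHomSet, hφ]
  rw [hs, top_le_iff] at hle
  intro e
  have : e ∈ LinearMap.range (tangentLinearMap R ξ) := by rw [hle]; trivial
  obtain ⟨D, hD⟩ := this
  exact ⟨homSetOfDerivation R D, hD⟩

theorem hasVersal [IsNoetherianRing Λ] [Module.Finite Λ k] [TangentStr F]
    (h0 : H0 F) (h1 : S1 F) (h2 : Heps F) (h3 : Hfin F) : HasVersal F := by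
  haveI : Module.Finite k (TangentSpace F) := h3
  obtain ⟨s, hs⟩ := (Module.finite_def (R := k) (M := TangentSpace F)).1 inferInstance
  obtain ⟨A₁, x₁, hx₁⟩ := exists_elt_of_finset h0 h1 s
  obtain ⟨S, hS, π₀, hπ₀⟩ := exists_smooth_cover A₁
  let σ₀ : Stage S F := ⟨⟨A₁, π₀, hπ₀⟩, x₁⟩
  let T : Tower S F := tower h1 σ₀
  refine ⟨⟨T.ring, T.family, ?_⟩⟩
  rw [Groth.Agent.S12728.result h0 h1 h2 T.ring T.family]
  refine ⟨?_, ?_⟩
  · apply surjective_of_span T.family (s : Set (TangentSpace F)) hs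
    intro e he
    obtain ⟨τ, hτ⟩ := hx₁ e he
    have hk : (T.Q 0).ker ≤ RingHom.ker (HomSet.map τ (T.Q 0).π).1 := (T.Q 0).ker_le_of_map τ
    refine ⟨toQuot (HomSet.map τ (T.Q 0).π) ((T.inf_le 0).trans hk), ?_⟩
    rw [T.family_app_toQuot _ 0 hk]
    unfold Tower.val
    rw [(T.Q 0).desc_eq _ hk τ rfl]
    exact hτ
  · intro B A μ hμ φ y hy
    exact tower_lifting h1 hS T (fun n => isNext_stages h1 σ₀ n) μ hμ φ y hy

end Groth.Agent.Helper8.Schl
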