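import Mathlib
import Groth.Agent.Helper8.Schl7
set_option autoImplicit false
universe u v

namespace Groth.Agent.Helper8.Schl
open ArtFun ArtFun.Art IsLocalRing CategoryTheory Groth.Agent.Helper6

variable {Λ : Type u} {k : Type u} [CommRing Λ] [Field k] [Algebra Λ k]

variable {F : Art Λ k ⥤ Type v}

section Restrict

variable (R : CRing Λ k) (a : Ideal R.carrier) (ha : a ≤ maximalIdeal R.carrier)
  (ξ : Family R.carrier R.res F)

/-- restriction of a family to a quotient of the coefficient ring -/
noncomputable def restrictFamily : Family (quotCRing R a ha).carrier (quotCRing R a ha).res F where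
  app A φ := ξ.app A (ofQuot φ)
  natural f φ := by rw [ofQuot_map, ξ.natural]

theorem restrictFamily_app {A : Art Λ k} (φ : HomSet (quotCRing R a ha).carrier (quotCRing R a ha).res A) :
    (restrictFamily R a ha ξ).app A φ = ξ.app A (ofQuot φ) := rfl

end Restrict

/-- along a small extension, a lift can be changed by a tangent vector so as to kill a given element
of the maximal ideal on which the tangent vector does not vanish. -/
theorem exists_lift_killing (R : CRing Λ k) {B A : Art Λ k} (μ : B ⟶ A) (hμ : IsSmallExt μ)
    (ψ : HomSet R.carrier R.res B) (y : R.carrier) (hy : y ∈ maximalIdeal R.carrier)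
    (hμy : μ (ψ.1 y) = 0)
    (τ₀ : HomSet R.carrier R.res (dual Λ k))
    (hτ₀ : TrivSqZeroExt.snd (show DualNumber k from τ₀.1 y) = 1) :
    ∃ ψ' : HomSet R.carrier R.res B, HomSet.map μ ψ' = HomSet.map μ ψ ∧ ψ'.1 y = 0 := by
  obtain ⟨D, pr₁, pr₂, α, hD1, hD2, -⟩ := exists_torsor_square μ hμ
  have hresy : R.res y = 0 := (CRing.mem_maximalIdeal_iff R y).1 hy
  obtain ⟨d₀, hd₀1, hd₀2⟩ := hD2.surj (ψ.1 y) 0 (by rw [hμy]; exact (map_zero μ.toAlgHom).symm)
  set c₀ : k := TrivSqZeroExt.snd (show DualNumber k from pr₂ d₀) with hc₀
  set τ : HomSet R.carrier R.res (dual Λ k) := HomSet.map (scale c₀) τ₀ with hτ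
  obtain ⟨χ, hχ1, hχ2⟩ := IsFibreProd.exists_homSet_lift hD1 ψ τ
    ((homSet_base_eq _).trans (homSet_base_eq _).symm)
  have hχy : χ.1 y = d₀ := by
    apply hD1.inj
    · have : pr₁ (χ.1 y) = ψ.1 y := congrArg (fun t : HomSet R.carrier R.res B => t.1 y) hχ1
      rw [this, hd₀1]
    · have h1 : pr₂ (χ.1 y) = τ.1 y := congrArg (fun t : HomSet R.carrier R.res (dual Λ k) => t.1 y) hχ2
      rw [h1]
      apply TrivSqZeroExt.ext
      · have e1 : TrivSqZeroExt.fst (show DualNumber k from τ.1 y) = R.res y := homSet_res_apply τ y
        have e2 : TrivSqZeroExt.fst (show DualNumber k from pr₂ d₀) = D.res d₀ := Art.res_app pr₂ d₀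
        have e3 : B.res (pr₁ d₀) = D.res d₀ := Art.res_app pr₁ d₀
        have e4 : B.res (ψ.1 y) = R.res y := homSet_res_apply ψ y
        change TrivSqZeroExt.fst (show DualNumber k from τ.1 y) =
          TrivSqZeroExt.fst (show DualNumber k from pr₂ d₀)
        rw [e1, e2, ← e3, hd₀1, e4]
      · change c₀ • TrivSqZeroExt.snd (show DualNumber k from τ₀.1 y) =
          TrivSqZeroExt.snd (show DualNumber k from pr₂ d₀)
        rw [hτ₀, smul_eq_mul, mul_one]
  refine ⟨HomSet.map α χ, ?_, ?_⟩
  · rw [← homSet_map_comp, ← hD2.w, homSet_map_comp, hχ1]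
  · change α (χ.1 y) = 0
    rw [hχy, hd₀2]

section Der

variable (R : CRing Λ k) (a : Ideal R.carrier) (ha : a ≤ maximalIdeal R.carrier)

/-- the quotient map, typed into the quotient coefficient ring -/
noncomputable def qmk : R.carrier →ₐ[Λ] (quotCRing R a ha).carrier := Ideal.Quotient.mkₐ Λ a

theorem qmk_surjective : Function.Surjective (qmk R a ha) := Ideal.Quotient.mk_surjective

theorem qres (r : R.carrier) : (quotCRing R a ha).res (qmk R a ha r) = R.res r := rfl

/-- pull back a derivation of the quotient -/
noncomputable def derPull :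
    letI : Algebra R.carrier k := R.res.toRingHom.toAlgebra
    letI : Algebra (quotCRing R a ha).carrier k := (quotCRing R a ha).res.toRingHom.toAlgebra
    Derivation Λ (quotCRing R a ha).carrier k →ₗ[k] Derivation Λ R.carrier k :=
  letI : Algebra R.carrier k := R.res.toRingHom.toAlgebra
  letI : Algebra (quotCRing R a ha).carrier k := (quotCRing R a ha).res.toRingHom.toAlgebra
  { toFun := fun D' =>
      { toFun := fun r => D' (qmk R a ha r)
        map_add' := fun r r' => by rw [map_add, map_add]
        map_smul' := fun c r => by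
          rw [map_smul (qmk R a ha), D'.map_smul]
          rfl
        map_one_eq_zero' := by
          change D' (qmk R a ha 1) = 0
          rw [map_one]
          exact D'.map_one_eq_zero
        leibniz' := fun r r' => by
          change D' (qmk R a ha (r * r')) = r • D' (qmk R a ha r') + r' • D' (qmk R a ha r)
          rw [map_mul, D'.leibniz]
          rfl }
    map_add' := fun D₁ D₂ => by ext r; rfl
    map_smul' := fun c D₁ => by ext r; rfl }

theorem derPull_apply
    (D' : letI : Algebra (quotCRing R a ha).carrier k := (quotCRing R a ha).res.toRingHom.toAlgebra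
      Derivation Λ (quotCRing R a ha).carrier k) (r : R.carrier) :
    letI : Algebra R.carrier k := R.res.toRingHom.toAlgebra
    letI : Algebra (quotCRing R a ha).carrier k := (quotCRing R a ha).res.toRingHom.toAlgebra
    derPull R a ha D' r = D' (qmk R a ha r) := rfl

theorem derPull_injective :
    letI : Algebra R.carrier k := R.res.toRingHom.toAlgebra
    letI : Algebra (quotCRing R a ha).carrier k := (quotCRing R a ha).res.toRingHom.toAlgebra
    Function.Injective (derPull R a ha) := by
  letI : Algebra R.carrier k := R.res.toRingHom.toAlgebra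
  letI : Algebra (quotCRing R a ha).carrier k := (quotCRing R a ha).res.toRingHom.toAlgebra
  intro D₁ D₂ h
  ext x
  obtain ⟨r, rfl⟩ := qmk_surjective R a ha x
  exact congrArg (fun D : Derivation Λ R.carrier k => D r) h

theorem ofQuot_homSetOfDerivation
    (D' : letI : Algebra (quotCRing R a ha).carrier k := (quotCRing R a ha).res.toRingHom.toAlgebra
      Derivation Λ (quotCRing R a ha).carrier k) :
    letI : Algebra R.carrier k := R.res.toRingHom.toAlgebra
    letI : Algebra (quotCRing R a ha).carrier k := (quotCRing R a ha).res.toRingHom.toAlgebra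
    ofQuot (homSetOfDerivation (quotCRing R a ha) D') = homSetOfDerivation R (derPull R a ha D') :=
  Subtype.ext (AlgHom.ext fun _ => rfl)

variable [TangentStr F] (ξ : Family R.carrier R.res F)

theorem tangentLinearMap_restrict
    (D' : letI : Algebra (quotCRing R a ha).carrier k := (quotCRing R a ha).res.toRingHom.toAlgebra
      Derivation Λ (quotCRing R a ha).carrier k) :
    letI : Algebra R.carrier k := R.res.toRingHom.toAlgebra
    letI : Algebra (quotCRing R a ha).carrier k := (quotCRing R a ha).res.toRingHom.toAlgebra
    tangentLinearMap (quotCRing R a ha) (restrictFamily R a ha ξ) D' =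
      tangentLinearMap R ξ (derPull R a ha D') := by
  letI : Algebra R.carrier k := R.res.toRingHom.toAlgebra
  letI : Algebra (quotCRing R a ha).carrier k := (quotCRing R a ha).res.toRingHom.toAlgebra
  change ξ.app (dual Λ k) (ofQuot (homSetOfDerivation (quotCRing R a ha) D')) =
    ξ.app (dual Λ k) (homSetOfDerivation R (derPull R a ha D'))
  rw [ofQuot_homSetOfDerivation]

end Der

end Groth.Agent.Helper8.Schl
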