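import Mathlib
import Groth.Agent.Helper8.Schl8
import Groth.Agent.S12715
set_option autoImplicit false
universe u v

namespace Groth.Agent.Helper8.Schl
open ArtFun ArtFun.Art IsLocalRing CategoryTheory Groth.Agent.Helper6

variable {Λ : Type u} {k : Type u} [CommRing Λ] [Field k] [Algebra Λ k]

variable {F : Art Λ k ⥤ Type v}

theorem ofQuot_injective {S : CRing Λ k} {a : Ideal S.carrier} {ha : a ≤ maximalIdeal S.carrier}
    {A : Art Λ k} (φ₁ φ₂ : HomSet (quotCRing S a ha).carrier (quotCRing S a ha).res A)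
    (h : ofQuot φ₁ = ofQuot φ₂) : φ₁ = φ₂ := by
  apply Subtype.ext
  apply AlgHom.ext
  intro x
  obtain ⟨s, rfl⟩ := Ideal.Quotient.mk_surjective x
  exact congrArg (fun t : HomSet S.carrier S.res A => t.1 s) h

theorem homSetOfDerivation_apply (R : CRing Λ k)
    (D : letI : Algebra R.carrier k := R.res.toRingHom.toAlgebra; Derivation Λ R.carrier k) (r : R.carrier) :
    letI : Algebra R.carrier k := R.res.toRingHom.toAlgebra
    (homSetOfDerivation R D).1 r = (TrivSqZeroExt.inl (R.res r) + TrivSqZeroExt.inr (D r) : DualNumber k) := rfl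

section Minimal

variable [TangentStr F]

/-- the dimension of the kernel of the tangent map of a family -/
noncomputable def kerRank (R : CRing Λ k) (ξ : Family R.carrier R.res F) : ℕ :=
  letI : Algebra R.carrier k := R.res.toRingHom.toAlgebra
  Module.finrank k (LinearMap.ker (tangentLinearMap R ξ))

/-- every tangent vector of `R` killed by the family vanishes on the maximal ideal -/
def IsMinimalFam (R : CRing Λ k) (ξ : Family R.carrier R.res F) : Prop :=
  letI : Algebra R.carrier k := R.res.toRingHom.toAlgebra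
  ∀ D ∈ LinearMap.ker (tangentLinearMap R ξ), ∀ y ∈ maximalIdeal R.carrier, D y = 0

variable [IsNoetherianRing Λ] [Module.Finite Λ k]

theorem finite_der (R : CRing Λ k) :
    letI : Algebra R.carrier k := R.res.toRingHom.toAlgebra
    Module.Finite k (Derivation Λ R.carrier k) := by
  letI : Algebra R.carrier k := R.res.toRingHom.toAlgebra
  haveI : IsScalarTower Λ R.carrier k := IsScalarTower.of_algebraMap_eq fun a => (R.res.commutes a).symm
  haveI := R.isAdicComplete
  exact Groth.Agent.S12715.result R.carrier R.res_surjective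

theorem step (h0 : H0 F) (h1 : S1 F) (h2 : Heps F) (R : CRing Λ k) (ξ : Family R.carrier R.res F)
    (hξ : IsVersal ξ) (hnm : ¬ IsMinimalFam R ξ) :
    ∃ (R' : CRing Λ k) (ξ' : Family R'.carrier R'.res F), IsVersal ξ' ∧ kerRank R' ξ' < kerRank R ξ := by
  letI : Algebra R.carrier k := R.res.toRingHom.toAlgebra
  unfold IsMinimalFam at hnm
  push Not at hnm
  obtain ⟨D₁, hD₁, y, hy, hD₁y⟩ := hnm
  set D₀ : Derivation Λ R.carrier k := (D₁ y)⁻¹ • D₁ with hD₀def
  have hD₀ : D₀ ∈ LinearMap.ker (tangentLinearMap R ξ) := Submodule.smul_mem _ _ hD₁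
  have hD₀y : D₀ y = 1 := by
    change (D₁ y)⁻¹ • D₁ y = 1
    rw [smul_eq_mul, inv_mul_cancel₀ hD₁y]
  have hresy : R.res y = 0 := (CRing.mem_maximalIdeal_iff R y).1 hy
  set a : Ideal R.carrier := Ideal.span {y} with ha_def
  have ha : a ≤ maximalIdeal R.carrier := by
    rw [ha_def, Ideal.span_le, Set.singleton_subset_iff]; exact hy
  have hale : ∀ {A : Art Λ k} (ψ : HomSet R.carrier R.res A), ψ.1 y = 0 → a ≤ RingHom.ker ψ.1 := by
    intro A ψ h
    rw [ha_def, Ideal.span_le, Set.singleton_subset_iff]
    exact RingHom.mem_ker.2 h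
  letI : Algebra (quotCRing R a ha).carrier k := (quotCRing R a ha).res.toRingHom.toAlgebra
  obtain ⟨hsurj, -⟩ := (Groth.Agent.S12728.result h0 h1 h2 R ξ).1 hξ
  refine ⟨quotCRing R a ha, restrictFamily R a ha ξ, ?_, ?_⟩
  · rw [Groth.Agent.S12728.result h0 h1 h2 (quotCRing R a ha) (restrictFamily R a ha ξ)]
    refine ⟨?_, ?_⟩
    · intro e
      obtain ⟨(τ₁ : HomSet R.carrier R.res (dual Λ k)), hτ₁⟩ := hsurj e
      have hτ₁' : ξ.app (dual Λ k) τ₁ = e := hτ₁
      set D₁' := derivationOfHomSet R τ₁ with hD₁'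
      set D₂ : Derivation Λ R.carrier k := D₁' - (D₁' y) • D₀ with hD₂
      have hT : tangentLinearMap R ξ D₂ = e := by
        rw [hD₂, map_sub, map_smul, LinearMap.mem_ker.1 hD₀, smul_zero, sub_zero]
        change ξ.app (dual Λ k) (homSetOfDerivation R (derivationOfHomSet R τ₁)) = e
        rw [homSetOfDerivation_derivationOfHomSet, hτ₁']
      have hD₂y : D₂ y = 0 := by
        change D₁' y - (D₁' y) • D₀ y = 0
        rw [hD₀y, smul_eq_mul, mul_one, sub_self]
      have hkill : (homSetOfDerivation R D₂).1 y = 0 := by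
        rw [homSetOfDerivation_apply, hresy, hD₂y, TrivSqZeroExt.inl_zero, TrivSqZeroExt.inr_zero,
          add_zero]
        rfl
      refine ⟨toQuot (homSetOfDerivation R D₂) (hale _ hkill), ?_⟩
      change ξ.app (dual Λ k) (ofQuot (toQuot (homSetOfDerivation R D₂) (hale _ hkill))) = e
      rw [ofQuot_toQuot]
      exact hT
    · intro B A μ hμ φ' y' hy'
      have hy'' : F.map μ y' = ξ.app A (ofQuot φ') := hy'
      obtain ⟨ψ, hψ1, -⟩ := hξ μ hμ.1 (ofQuot φ') y' hy''
      have hμy : μ (ψ.1 y) = 0 := by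
        have : μ (ψ.1 y) = (ofQuot φ').1 y := congrArg (fun t : HomSet R.carrier R.res A => t.1 y) hψ1
        rw [this]
        exact RingHom.mem_ker.1 (le_ker_ofQuot φ' (Ideal.subset_span rfl))
      obtain ⟨ψ', hψ'1, hψ'2⟩ := exists_lift_killing R μ hμ ψ y hy hμy (homSetOfDerivation R D₀) (by
        rw [homSetOfDerivation_snd]; exact hD₀y)
      refine ⟨toQuot ψ' (hale _ hψ'2), ?_⟩
      apply ofQuot_injective
      rw [ofQuot_map, ofQuot_toQuot, hψ'1, hψ1]
  · -- the kernel drops
    haveI hfin : Module.Finite k (Derivation Λ R.carrier k) := finite_der R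
    have hmaps : ∀ D' ∈ LinearMap.ker (tangentLinearMap (quotCRing R a ha) (restrictFamily R a ha ξ)),
        derPull R a ha D' ∈ LinearMap.ker (tangentLinearMap R ξ) := by
      intro D' hD'
      rw [LinearMap.mem_ker, ← tangentLinearMap_restrict]
      exact LinearMap.mem_ker.1 hD'
    set j := (derPull R a ha).restrict hmaps with hj
    have hjinj : Function.Injective j := by
      intro x x' h
      apply Subtype.ext
      apply derPull_injective R a ha
      exact congrArg Subtype.val h
    have hlt : LinearMap.range j < ⊤ := by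
      rw [lt_top_iff_ne_top]
      intro htop
      have : (⟨D₀, hD₀⟩ : LinearMap.ker (tangentLinearMap R ξ)) ∈ LinearMap.range j := by
        rw [htop]; trivial
      obtain ⟨D', hD'⟩ := this
      have h1 : derPull R a ha D'.1 = D₀ := congrArg Subtype.val hD'
      have h2 : derPull R a ha D'.1 y = D₀ y := by rw [h1]
      rw [derPull_apply, hD₀y] at h2
      have h3 : qmk R a ha y = 0 := Ideal.Quotient.eq_zero_iff_mem.2 (Ideal.subset_span rfl)
      rw [h3, map_zero] at h2
      exact zero_ne_one h2
    have e1 : Module.finrank k (LinearMap.range j) = Module.finrank k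
        (LinearMap.ker (tangentLinearMap (quotCRing R a ha) (restrictFamily R a ha ξ))) :=
      LinearMap.finrank_range_of_inj hjinj
    haveI hfin' : Module.Finite k (LinearMap.ker (tangentLinearMap R ξ)) :=
      FiniteDimensional.finiteDimensional_submodule _
    have e2 : Module.finrank k (LinearMap.range j) < Module.finrank k
        (LinearMap.ker (tangentLinearMap R ξ)) :=
      Submodule.finrank_lt (K := k) (V := LinearMap.ker (tangentLinearMap R ξ)) hlt.ne
    exact lt_of_eq_of_lt e1.symm e2

theorem exists_minimal (h0 : H0 F) (h1 : S1 F) (h2 : Heps F) (n : ℕ) :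
    ∀ (R : CRing Λ k) (ξ : Family R.carrier R.res F), IsVersal ξ → kerRank R ξ = n →
      ∃ (R' : CRing Λ k) (ξ' : Family R'.carrier R'.res F), IsVersal ξ' ∧ IsMinimalFam R' ξ' := by
  induction n using Nat.strong_induction_on with
  | _ n ih =>
    intro R ξ hξ hn
    by_cases hmin : IsMinimalFam R ξ
    · exact ⟨R, ξ, hξ, hmin⟩
    · obtain ⟨R', ξ', hξ', hlt⟩ := step h0 h1 h2 R ξ hξ hmin
      exact ih _ (hn ▸ hlt) R' ξ' hξ' rfl

end Minimal

section Hull

theorem der_eq_zero_of_vanish (hk : Subsingleton (Derivation Λ k k)) (R : CRing Λ k)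
    (D : letI : Algebra R.carrier k := R.res.toRingHom.toAlgebra; Derivation Λ R.carrier k)
    (hD : ∀ y ∈ maximalIdeal R.carrier, (letI : Algebra R.carrier k := R.res.toRingHom.toAlgebra; D y) = 0) :
    D = 0 := by
  letI : Algebra R.carrier k := R.res.toRingHom.toAlgebra
  let s : k → R.carrier := Function.surjInv R.res_surjective
  have hs : ∀ c, R.res (s c) = c := Function.surjInv_eq R.res_surjective
  have hwd : ∀ r r' : R.carrier, R.res r = R.res r' → D r = D r' := by
    intro r r' h
    have hm : r - r' ∈ maximalIdeal R.carrier := by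
      rw [CRing.mem_maximalIdeal_iff, map_sub, h, sub_self]
    have := hD _ hm
    rwa [map_sub, sub_eq_zero] at this
  have hsmul : ∀ (r : R.carrier) (c : k), r • c = R.res r * c := fun r c => rfl
  let d : Derivation Λ k k :=
    { toFun := fun c => D (s c)
      map_add' := fun c c' => by
        rw [← map_add]
        exact hwd _ _ (by rw [hs, map_add, hs, hs])
      map_smul' := fun a c => by
        have : D (s (a • c)) = D (a • s c) := hwd _ _ (by rw [hs, map_smul, hs])
        rw [this, D.map_smul]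
        rfl
      map_one_eq_zero' := by
        change D (s 1) = 0
        rw [hwd (s 1) 1 (by rw [hs, map_one]), D.map_one_eq_zero]
      leibniz' := fun c c' => by
        change D (s (c * c')) = c • D (s c') + c' • D (s c)
        rw [hwd (s (c * c')) (s c * s c') (by rw [hs, map_mul, hs, hs]), D.leibniz, hsmul, hsmul, hs, hs]
        rfl }
  have hd0 : d = 0 := Subsingleton.elim _ _
  ext r
  have h1 : D r = D (s (R.res r)) := hwd _ _ (hs _).symm
  have h2 : d (R.res r) = 0 := by rw [hd0]; rfl
  rw [h1]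
  exact h2

variable [TangentStr F] [IsNoetherianRing Λ] [Module.Finite Λ k]

theorem hasHull (hk : Subsingleton (Derivation Λ k k))
    (h0 : H0 F) (h1 : S1 F) (h2 : Heps F) (h3 : Hfin F) : HasHull F := by
  obtain ⟨V⟩ := hasVersal h0 h1 h2 h3
  obtain ⟨R', ξ', hv', hmin'⟩ := exists_minimal h0 h1 h2 _ V.ring V.family V.versal rfl
  refine ⟨⟨R', ξ', hv', ?_, ?_⟩⟩
  · letI : Algebra R'.carrier k := R'.res.toRingHom.toAlgebra
    intro τ₁ τ₂ h
    have e1 : tangentLinearMap R' ξ' (derivationOfHomSet R' τ₁) = ξ'.app (dual Λ k) τ₁ := by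
      change ξ'.app (dual Λ k) (homSetOfDerivation R' (derivationOfHomSet R' τ₁)) = _
      rw [homSetOfDerivation_derivationOfHomSet]
    have e2 : tangentLinearMap R' ξ' (derivationOfHomSet R' τ₂) = ξ'.app (dual Λ k) τ₂ := by
      change ξ'.app (dual Λ k) (homSetOfDerivation R' (derivationOfHomSet R' τ₂)) = _
      rw [homSetOfDerivation_derivationOfHomSet]
    have h' : tangentLinearMap R' ξ' (derivationOfHomSet R' τ₁) =
        tangentLinearMap R' ξ' (derivationOfHomSet R' τ₂) := e1.trans (h.trans e2.symm)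
    have hker : derivationOfHomSet R' τ₁ - derivationOfHomSet R' τ₂ ∈
        LinearMap.ker (tangentLinearMap R' ξ') := by
      rw [LinearMap.mem_ker, map_sub, h', sub_self]
    have hz := der_eq_zero_of_vanish hk R' _ (hmin' _ hker)
    rw [sub_eq_zero] at hz
    rw [← homSetOfDerivation_derivationOfHomSet R' τ₁, ← homSetOfDerivation_derivationOfHomSet R' τ₂, hz]
  · exact ((Groth.Agent.S12728.result h0 h1 h2 R' ξ').1 hv').1

end Hull

end Groth.Agent.Helper8.Schl
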