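import Mathlib
import Groth.Agent.Helper8.Schl9
set_option autoImplicit false
universe u v

namespace Groth.Agent.Helper8.Schl
open ArtFun ArtFun.Art IsLocalRing CategoryTheory Groth.Agent.Helper6

variable {Λ : Type u} {k : Type u} [CommRing Λ] [Field k] [Algebra Λ k]

variable {F : Art Λ k ⥤ Type v}

section Inj

variable {R : Type u} [CommRing R] [Algebra Λ R] {resR : R →ₐ[Λ] k}

/-- Injectivity of a family propagates along small extensions when the functor satisfies (RS) and the
family is injective on tangent spaces. -/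
theorem family_injective_of_smallExt (hF : RS F) (ξ : Family R resR F)
    (hd : Function.Injective (ξ.app (dual Λ k)))
    {B A : Art Λ k} (μ : B ⟶ A) (hμ : IsSmallExt μ) (hA : Function.Injective (ξ.app A)) :
    Function.Injective (ξ.app B) := by
  intro f₁ f₂ h12
  obtain ⟨D, pr₁, pr₂, α, hD1, hD2, hα⟩ := exists_torsor_square μ hμ
  have hbase : Function.Surjective (toBase (dual Λ k)) := dual_toBase_surjective
  have hfib : HomSet.map μ f₁ = HomSet.map μ f₂ := by
    apply hA
    rw [ξ.natural, ξ.natural, h12]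
  obtain ⟨dF, hdF1, hdF2⟩ := IsFibreProd.exists_homSet_lift hD2 f₁ f₂ hfib
  obtain ⟨σ, hσ1, hσ2⟩ := IsFibreProd.exists_hom_lift hD1 (𝟙 B) (toBase B ≫ baseToDual)
    (by rw [eq_toBase (𝟙 B ≫ toBase B), eq_toBase ((toBase B ≫ baseToDual) ≫ toBase _)])
  have hσ3 : σ ≫ α = 𝟙 B := by
    apply Art.hom_ext
    apply AlgHom.ext
    intro b
    have h1 : pr₁ (σ b) = b := congrArg (fun t : B ⟶ B => t.toAlgHom b) hσ1
    have h2 : pr₂ (σ b) = (toBase B ≫ baseToDual) b := congrArg (fun t : B ⟶ dual Λ k => t.toAlgHom b) hσ2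
    have h3 : TrivSqZeroExt.snd (show DualNumber k from pr₂ (σ b)) = 0 := by
      rw [h2]
      rfl
    have := hα (σ b) h3
    change α (σ b) = b
    rw [this, h1]
  have hφd : ξ.app D dF = F.map σ (ξ.app B f₁) := by
    apply (hF pr₁ α μ μ hD2 hμ.1).1
    apply Subtype.ext
    apply Prod.ext
    · change F.map pr₁ (ξ.app D dF) = F.map pr₁ (F.map σ (ξ.app B f₁))
      rw [← Functor.map_comp_apply F σ pr₁, hσ1, Functor.map_id_apply, ← ξ.natural, hdF1]
    · change F.map α (ξ.app D dF) = F.map α (F.map σ (ξ.app B f₁))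
      rw [← Functor.map_comp_apply F σ α, hσ3, Functor.map_id_apply, ← ξ.natural, hdF2, h12]
  have hw : HomSet.map pr₂ dF = HomSet.map pr₂ (HomSet.map σ f₁) := by
    apply hd
    rw [ξ.natural, hφd, ξ.natural, ξ.natural]
  have hdFσ : dF = HomSet.map σ f₁ := by
    apply IsFibreProd.homSet_ext hD1
    · rw [hdF1, ← homSet_map_comp, hσ1, homSet_map_id]
    · exact hw
  rw [← hdF2, hdFσ, ← homSet_map_comp, hσ3, homSet_map_id]

/-- A family over a functor with (RS) which is injective on tangent spaces is injective on every object. -/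
theorem family_injective (hF : RS F) (ξ : Family R resR F)
    (hd : Function.Injective (ξ.app (dual Λ k))) (A : Art Λ k) :
    Function.Injective (ξ.app A) := by
  have key := surjective_induction_smallExt
    (fun (A B : Art Λ k) (_ : B ⟶ A) => Function.Injective (ξ.app A) → Function.Injective (ξ.app B))
    ?_ ?_ ?_ (toBase A) A.res_surjective
  · apply key
    intro a b _
    rw [homSet_base_eq a, homSet_base_eq b]
  · intro A B e he hA f₁ f₂ h12
    have h1 : HomSet.map e f₁ = HomSet.map e f₂ := by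
      apply hA
      rw [ξ.natural, ξ.natural, h12]
    have e1 : HomSet.map (inv e) (HomSet.map e f₁) = f₁ := by
      rw [← homSet_map_comp, IsIso.hom_inv_id, homSet_map_id]
    have e2 : HomSet.map (inv e) (HomSet.map e f₂) = f₂ := by
      rw [← homSet_map_comp, IsIso.hom_inv_id, homSet_map_id]
    rw [← e1, ← e2, h1]
  · intro A B μ hμ hA
    exact family_injective_of_smallExt hF ξ hd μ hμ hA
  · intro A B C p q hp hq hA
    exact hp (hq hA)

/-- A miniversal family over a functor with (H0) and (RS) is universal. -/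
theorem isUniversal_of_isMiniversal (h0 : H0 F) (hF : RS F) (ξ : Family R resR F)
    (hξ : IsMiniversal ξ) : IsUniversal ξ := fun A =>
  ⟨family_injective hF ξ hξ.2.1 A, surjective_app_of_isVersal ξ hξ.1 h0 A⟩

/-- the functor `h_R` has bijective comparison maps, transported to a universal family -/
theorem rs_of_isUniversal (ξ : Family R resR F) (hξ : IsUniversal ξ) :
    ∀ ⦃B A A' A'' : Art Λ k⦄ (p' : B ⟶ A') (p'' : B ⟶ A'') (f' : A' ⟶ A) (f'' : A'' ⟶ A)
      (h : IsFibreProd p' p'' f' f''), Function.Bijective (cmp F h) := by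
  intro B A A' A'' p' p'' f' f'' h
  constructor
  · intro z₁ z₂ hz
    have hz1 : F.map p' z₁ = F.map p' z₂ := congrArg (fun t => t.1.1) hz
    have hz2 : F.map p'' z₁ = F.map p'' z₂ := congrArg (fun t => t.1.2) hz
    obtain ⟨χ₁, rfl⟩ := (hξ B).2 z₁
    obtain ⟨χ₂, rfl⟩ := (hξ B).2 z₂
    rw [← ξ.natural, ← ξ.natural] at hz1 hz2
    rw [IsFibreProd.homSet_ext h χ₁ χ₂ ((hξ A').1 hz1) ((hξ A'').1 hz2)]
  · rintro ⟨⟨a', a''⟩, hy⟩
    have hy' : F.map f' a' = F.map f'' a'' := hy
    obtain ⟨φ', rfl⟩ := (hξ A').2 a'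
    obtain ⟨φ'', rfl⟩ := (hξ A'').2 a''
    rw [← ξ.natural, ← ξ.natural] at hy'
    obtain ⟨χ, hχ1, hχ2⟩ := IsFibreProd.exists_homSet_lift h φ' φ'' ((hξ A).1 hy')
    refine ⟨ξ.app B χ, Subtype.ext (Prod.ext ?_ ?_)⟩
    · change F.map p' (ξ.app B χ) = ξ.app A' φ'
      rw [← ξ.natural, hχ1]
    · change F.map p'' (ξ.app B χ) = ξ.app A'' φ''
      rw [← ξ.natural, hχ2]

theorem h0_of_isUniversal (ξ : Family R resR F) (hξ : IsUniversal ξ) : H0 F := by
  refine ⟨⟨ξ.app _ (basePt R resR)⟩, ⟨fun a b => ?_⟩⟩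
  obtain ⟨φ, rfl⟩ := (hξ (base Λ k)).2 a
  obtain ⟨ψ, rfl⟩ := (hξ (base Λ k)).2 b
  rw [homSet_base_eq φ, homSet_base_eq ψ]

end Inj

end Groth.Agent.Helper8.Schl
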