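import Mathlib
import Groth.Agent.Helper8.Schl10
import Groth.Agent.Helper7.ArtHomog
import Groth.Agent.S12724
set_option autoImplicit false
universe u v

namespace Groth.Agent.Helper8.Schl
open ArtFun ArtFun.Art IsLocalRing CategoryTheory Groth.Agent.Helper6

variable {Λ : Type u} {k : Type u} [CommRing Λ] [Field k] [Algebra Λ k]

variable {F : Art Λ k ⥤ Type v}

section Prorep

theorem isLeftExact_of_prorep (hP : IsProrepresentable F) : IsLeftExact F := by
  obtain ⟨P⟩ := hP
  exact rs_of_isUniversal P.family P.universal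

theorem h0_of_prorep (hP : IsProrepresentable F) : H0 F := by
  obtain ⟨P⟩ := hP
  exact h0_of_isUniversal P.family P.universal

theorem rs_of_isLeftExact (h : IsLeftExact F) : RS F := fun _ _ _ _ p' p'' f' f'' hfp _ =>
  h p' p'' f' f'' hfp

theorem s1_of_rs (h : RS F) : S1 F := fun _ _ _ _ p' p'' f' f'' hfp hs => (h p' p'' f' f'' hfp hs).2

theorem heps_of_rs (h : RS F) : Heps F := fun _ _ p' p'' hfp =>
  h p' p'' _ _ hfp dual_toBase_surjective

theorem hbar_of_s1 (h : S1 F) : Hbar F := fun _ _ _ _ p' p'' f' f'' hfp hs => h p' p'' f' f'' hfp hs.1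

theorem hsq_of_isLeftExact (h : IsLeftExact F) : HSq F := fun _ _ _ p₁ p₂ f hfp _ => h p₁ p₂ f f hfp

variable [TangentStr F] [IsNoetherianRing Λ] [Module.Finite Λ k]

theorem hfin_of_prorep (hP : IsProrepresentable F) : Hfin F := by
  obtain ⟨P⟩ := hP
  exact hfin_of_surjective_family P.ring P.family (P.universal _).2

/-- Schlessinger's criterion, when `Λ → k` is surjective. -/
theorem prorep_of_conditions (hsurj : Function.Surjective (algebraMap Λ k))
    (h0 : H0 F) (hbar : Hbar F) (h2 : Heps F) (h3 : Hfin F) (h4 : HSq F) : IsProrepresentable F := by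
  have h1 : S1 F := (Groth.Agent.S12724.result F).mpr hbar
  have hRS : RS F := fun B A A' A'' p' p'' f' f'' hfp hs =>
    ⟨Groth.Agent.Helper7.ArtHomog.injective_cmp F h0 h1 h2 h4 p' p'' f' f'' hfp hs,
      h1 p' p'' f' f'' hfp hs⟩
  have hk : Subsingleton (Derivation Λ k k) := by
    refine ⟨fun d d' => ?_⟩
    ext c
    obtain ⟨a, rfl⟩ := hsurj c
    rw [Derivation.map_algebraMap, Derivation.map_algebraMap]
  obtain ⟨H⟩ := hasHull hk h0 h1 h2 h3
  exact ⟨⟨H.ring, H.family, isUniversal_of_isMiniversal h0 hRS H.family H.miniversal⟩⟩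

theorem conditions_of_prorep (hP : IsProrepresentable F) :
    Hbar F ∧ Heps F ∧ Hfin F ∧ HSq F := by
  have hle := isLeftExact_of_prorep hP
  have hRS := rs_of_isLeftExact hle
  exact ⟨hbar_of_s1 (s1_of_rs hRS), heps_of_rs hRS, hfin_of_prorep hP, hsq_of_isLeftExact hle⟩

end Prorep

section Classical

theorem s12248
    {k Λ : Type u} [Field k] [CommRing Λ] [IsNoetherianRing Λ]
    [Algebra k Λ] [Algebra Λ k] [IsScalarTower k Λ k]
    (F : ArtFun.Art Λ k ⥤ Type v) [ArtFun.TangentStr F] (h0 : ArtFun.H0 F) :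
    ArtFun.IsProrepresentable F ↔
      (ArtFun.Hbar F ∧ ArtFun.Heps F ∧ ArtFun.Hfin F ∧ ArtFun.HSq F) := by
  have hsurj : Function.Surjective (algebraMap Λ k) := by
    intro c
    refine ⟨algebraMap k Λ c, ?_⟩
    rw [← IsScalarTower.algebraMap_apply k Λ k c]
    rfl
  haveI : Module.Finite Λ k := Module.Finite.of_surjective (Algebra.linearMap Λ k) hsurj
  constructor
  · exact conditions_of_prorep
  · rintro ⟨hbar, h2, h3, h4⟩
    exact prorep_of_conditions hsurj h0 hbar h2 h3 h4

theorem s12253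
    {k Λ : Type u} [Field k] [CommRing Λ] [IsNoetherianRing Λ]
    [Algebra k Λ] [Algebra Λ k] [IsScalarTower k Λ k]
    (F : ArtFun.Art Λ k ⥤ Type v) [ArtFun.TangentStr F] (h0 : ArtFun.H0 F) :
    ArtFun.IsProrepresentable F ↔ (ArtFun.IsLeftExact F ∧ ArtFun.Hfin F) := by
  have hsurj : Function.Surjective (algebraMap Λ k) := by
    intro c
    refine ⟨algebraMap k Λ c, ?_⟩
    rw [← IsScalarTower.algebraMap_apply k Λ k c]
    rfl
  haveI : Module.Finite Λ k := Module.Finite.of_surjective (Algebra.linearMap Λ k) hsurj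
  constructor
  · intro hP
    exact ⟨isLeftExact_of_prorep hP, hfin_of_prorep hP⟩
  · rintro ⟨hle, h3⟩
    have hRS := rs_of_isLeftExact hle
    exact prorep_of_conditions hsurj h0 (hbar_of_s1 (s1_of_rs hRS)) (heps_of_rs hRS) h3
      (hsq_of_isLeftExact hle)

end Classical

end Groth.Agent.Helper8.Schl
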