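import Mathlib
import Groth.Agent.Helper8.Schl11
set_option autoImplicit false
universe u v

namespace Groth.Agent.Helper8.Schl
open ArtFun ArtFun.Art IsLocalRing CategoryTheory Groth.Agent.Helper6

variable {Λ : Type u} {k : Type u} [CommRing Λ] [Field k] [Algebra Λ k]

variable {F : Art Λ k ⥤ Type v}

theorem der_eq_zero_of_vanish' [TangentStr F] (R : CRing Λ k) (ξ : Family R.carrier R.res F)
    (hc : ∀ x₀ : F.obj (base Λ k),
      Function.Injective (fun σ : base Λ k ⟶ dual Λ k => F.map σ x₀))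
    (D : letI : Algebra R.carrier k := R.res.toRingHom.toAlgebra; Derivation Λ R.carrier k)
    (hD : ∀ y ∈ maximalIdeal R.carrier, (letI : Algebra R.carrier k := R.res.toRingHom.toAlgebra; D y) = 0)
    (hT : (letI : Algebra R.carrier k := R.res.toRingHom.toAlgebra; tangentLinearMap R ξ D) = 0) :
    D = 0 := by
  letI : Algebra R.carrier k := R.res.toRingHom.toAlgebra
  set τ := homSetOfDerivation R D with hτ
  set τ₀ := homSetOfDerivation R (0 : Derivation Λ R.carrier k) with hτ₀
  have hker : RingHom.ker R.res.toRingHom ≤ RingHom.ker τ.1.toRingHom := by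
    intro r hr
    have hr' : R.res r = 0 := hr
    have hm : r ∈ maximalIdeal R.carrier := (CRing.mem_maximalIdeal_iff R r).2 hr'
    change τ.1 r = 0
    rw [hτ, homSetOfDerivation_apply, hr', hD r hm, TrivSqZeroExt.inl_zero, TrivSqZeroExt.inr_zero,
      add_zero]
    rfl
  let σalg : k →ₐ[Λ] DualNumber k := AlgHom.liftOfSurjective R.res R.res_surjective τ.1 hker
  have hσalg : ∀ r, σalg (R.res r) = τ.1 r := fun r =>
    AlgHom.liftOfSurjective_apply R.res R.res_surjective τ.1 hker r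
  let σ : base Λ k ⟶ dual Λ k := ⟨σalg, by
    apply AlgHom.ext
    intro c
    obtain ⟨r, rfl⟩ := R.res_surjective c
    change (dual Λ k).res (σalg (R.res r)) = R.res r
    rw [hσalg]
    exact homSet_res_apply τ r⟩
  have hστ : HomSet.map σ (basePt R.carrier R.res) = τ :=
    Subtype.ext (AlgHom.ext fun r => hσalg r)
  have hτ₀' : HomSet.map baseToDual (basePt R.carrier R.res) = τ₀ := by
    apply Subtype.ext
    apply AlgHom.ext
    intro r
    change (algebraMap k (DualNumber k) (R.res r)) = τ₀.1 r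
    rw [hτ₀, homSetOfDerivation_apply, TrivSqZeroExt.algebraMap_eq_inl]
    change TrivSqZeroExt.inl (R.res r) = TrivSqZeroExt.inl (R.res r) + TrivSqZeroExt.inr (0 : k)
    rw [TrivSqZeroExt.inr_zero, add_zero]
  set x₀ := ξ.app (base Λ k) (basePt R.carrier R.res) with hx₀
  have e1 : F.map σ x₀ = ξ.app (dual Λ k) τ := by rw [hx₀, ← ξ.natural, hστ]
  have e2 : F.map baseToDual x₀ = ξ.app (dual Λ k) τ₀ := by rw [hx₀, ← ξ.natural, hτ₀']
  have e3 : ξ.app (dual Λ k) τ = ξ.app (dual Λ k) τ₀ := by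
    have h1 : tangentLinearMap R ξ D = ξ.app (dual Λ k) τ := rfl
    have h2 : tangentLinearMap R ξ (0 : Derivation Λ R.carrier k) = ξ.app (dual Λ k) τ₀ := rfl
    rw [← h1, ← h2, hT, map_zero]
  have hσ : σ = baseToDual := hc x₀ (e1.trans (e3.trans e2.symm))
  have hττ₀ : τ = τ₀ := by rw [← hστ, hσ, hτ₀']
  ext r
  have h3 := homSetOfDerivation_snd R D r
  have h4 := homSetOfDerivation_snd R (0 : Derivation Λ R.carrier k) r
  rw [← hτ, hττ₀] at h3
  rw [← h3]
  exact h4

theorem s12734 [IsNoetherianRing Λ] [Module.Finite Λ k] (F : Art Λ k ⥤ Type v) [TangentStr F] :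
    IsProrepresentable F ↔
      ((H0 F ∧ (∀ ⦃B A A' A'' : Art Λ k⦄ (p' : B ⟶ A') (p'' : B ⟶ A'') (f' : A' ⟶ A) (f'' : A'' ⟶ A)
        (h : IsFibreProd p' p'' f' f''), Function.Surjective f'' → Function.Bijective (cmp F h))) ∧
        Hfin F ∧
        ∀ x₀ : F.obj (base Λ k),
          Function.Injective (fun σ : base Λ k ⟶ dual Λ k => F.map σ x₀)) := by
  constructor
  · intro hP
    refine ⟨⟨h0_of_prorep hP, rs_of_isLeftExact (isLeftExact_of_prorep hP)⟩, hfin_of_prorep hP, ?_⟩
    obtain ⟨P⟩ := hP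
    intro x₀ σ₁ σ₂ h
    have h' : F.map σ₁ x₀ = F.map σ₂ x₀ := h
    obtain ⟨φ, rfl⟩ := (P.universal (base Λ k)).2 x₀
    rw [← P.family.natural, ← P.family.natural] at h'
    have h2 := (P.universal (dual Λ k)).1 h'
    apply Art.hom_ext
    apply AlgHom.ext
    intro c
    obtain ⟨r, hr⟩ := P.ring.res_surjective c
    have h3 : φ.1 r = c := (homSet_res_apply φ r).trans hr
    have h4 : (HomSet.map σ₁ φ).1 r = (HomSet.map σ₂ φ).1 r := by rw [h2]
    rw [homSet_map_apply, homSet_map_apply, h3] at h4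
    exact h4
  · rintro ⟨⟨h0, hRS⟩, h3, hc⟩
    have hRS' : RS F := hRS
    have h1 := s1_of_rs hRS'
    have h2 := heps_of_rs hRS'
    obtain ⟨V⟩ := hasVersal h0 h1 h2 h3
    obtain ⟨R', ξ', hv', hmin'⟩ := exists_minimal h0 h1 h2 _ V.ring V.family V.versal rfl
    refine ⟨⟨R', ξ', isUniversal_of_isMiniversal h0 hRS' ξ' ⟨hv', ?_, ?_⟩⟩⟩
    · letI : Algebra R'.carrier k := R'.res.toRingHom.toAlgebra
      intro τ₁ τ₂ h
      have e1 : tangentLinearMap R' ξ' (derivationOfHomSet R' τ₁) = ξ'.app (dual Λ k) τ₁ := by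
        change ξ'.app (dual Λ k) (homSetOfDerivation R' (derivationOfHomSet R' τ₁)) = _
        rw [homSetOfDerivation_derivationOfHomSet]
      have e2 : tangentLinearMap R' ξ' (derivationOfHomSet R' τ₂) = ξ'.app (dual Λ k) τ₂ := by
        change ξ'.app (dual Λ k) (homSetOfDerivation R' (derivationOfHomSet R' τ₂)) = _
        rw [homSetOfDerivation_derivationOfHomSet]
      have h' : tangentLinearMap R' ξ' (derivationOfHomSet R' τ₁) =
          tangentLinearMap R' ξ' (derivationOfHomSet R' τ₂) := e1.trans (h.trans e2.symm)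
      have hker : derivationOfHomSet R' τ₁ - derivationOfHomSet R' τ₂ ∈
          LinearMap.ker (tangentLinearMap R' ξ') := by
        rw [LinearMap.mem_ker, map_sub, h', sub_self]
      have hz := der_eq_zero_of_vanish' R' ξ' hc _ (hmin' _ hker) (LinearMap.mem_ker.1 hker)
      rw [sub_eq_zero] at hz
      rw [← homSetOfDerivation_derivationOfHomSet R' τ₁, ← homSetOfDerivation_derivationOfHomSet R' τ₂, hz]
    · exact ((Groth.Agent.S12728.result h0 h1 h2 R' ξ').1 hv').1

end Groth.Agent.Helper8.Schl
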