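import Mathlib
import Groth.Agent.Helper8.Schl12
import Groth.Agent.S12720
import Groth.Agent.S12727
import Groth.Prelude.Def_W4sfdMinVersal
set_option autoImplicit false
universe u v

namespace Groth.Agent.Helper8.Schl
open ArtFun ArtFun.Art IsLocalRing CategoryTheory Groth.Agent.Helper6

variable {Λ : Type u} {k : Type u} [CommRing Λ] [Field k] [Algebra Λ k]

variable {F : Art Λ k ⥤ Type v}

section

variable [TangentStr F] [IsNoetherianRing Λ] [Module.Finite Λ k]

/-- restricting a versal family to `R/(y)` keeps it versal, when `y ∈ 𝔪` and some tangent vector in the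
kernel of the tangent map takes the value `1` on `y`. -/
theorem versal_restrict (h0 : H0 F) (h1 : S1 F) (h2 : Heps F) (R : CRing Λ k)
    (ξ : Family R.carrier R.res F) (hξ : IsVersal ξ) (y : R.carrier) (hy : y ∈ maximalIdeal R.carrier)
    (D₀ : letI : Algebra R.carrier k := R.res.toRingHom.toAlgebra; Derivation Λ R.carrier k)
    (hD₀ : (letI : Algebra R.carrier k := R.res.toRingHom.toAlgebra; tangentLinearMap R ξ D₀) = 0)
    (hD₀y : (letI : Algebra R.carrier k := R.res.toRingHom.toAlgebra; D₀ y) = 1)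
    (ha : Ideal.span {y} ≤ maximalIdeal R.carrier) :
    IsVersal (restrictFamily R (Ideal.span {y}) ha ξ) := by
  letI : Algebra R.carrier k := R.res.toRingHom.toAlgebra
  have hresy : R.res y = 0 := (CRing.mem_maximalIdeal_iff R y).1 hy
  have hale : ∀ {A : Art Λ k} (ψ : HomSet R.carrier R.res A), ψ.1 y = 0 →
      Ideal.span {y} ≤ RingHom.ker ψ.1 := by
    intro A ψ h
    rw [Ideal.span_le, Set.singleton_subset_iff]
    exact RingHom.mem_ker.2 h
  obtain ⟨hsurj, -⟩ := (Groth.Agent.S12728.result h0 h1 h2 R ξ).1 hξ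
  rw [Groth.Agent.S12728.result h0 h1 h2 (quotCRing R (Ideal.span {y}) ha)
    (restrictFamily R (Ideal.span {y}) ha ξ)]
  refine ⟨?_, ?_⟩
  · intro e
    obtain ⟨(τ₁ : HomSet R.carrier R.res (dual Λ k)), hτ₁⟩ := hsurj e
    have hτ₁' : ξ.app (dual Λ k) τ₁ = e := hτ₁
    set D₁' := derivationOfHomSet R τ₁ with hD₁'
    set D₂ : Derivation Λ R.carrier k := D₁' - (D₁' y) • D₀ with hD₂
    have hT : tangentLinearMap R ξ D₂ = e := by
      rw [hD₂, map_sub, map_smul, hD₀, smul_zero, sub_zero]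
      change ξ.app (dual Λ k) (homSetOfDerivation R (derivationOfHomSet R τ₁)) = e
      rw [homSetOfDerivation_derivationOfHomSet, hτ₁']
    have hD₂y : D₂ y = 0 := by
      change D₁' y - (D₁' y) • D₀ y = 0
      rw [hD₀y, smul_eq_mul, mul_one, sub_self]
    have hkill : (homSetOfDerivation R D₂).1 y = 0 := by
      rw [homSetOfDerivation_apply, hresy, hD₂y, TrivSqZeroExt.inl_zero, TrivSqZeroExt.inr_zero,
        add_zero]
      rfl
    refine ⟨toQuot (homSetOfDerivation R D₂) (hale _ hkill), ?_⟩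
    change ξ.app (dual Λ k) (ofQuot (toQuot (homSetOfDerivation R D₂) (hale _ hkill))) = e
    rw [ofQuot_toQuot]
    exact hT
  · intro B A μ hμ φ' y' hy'
    have hy'' : F.map μ y' = ξ.app A (ofQuot φ') := hy'
    obtain ⟨ψ, hψ1, -⟩ := hξ μ hμ.1 (ofQuot φ') y' hy''
    have hμy : μ (ψ.1 y) = 0 := by
      have : μ (ψ.1 y) = (ofQuot φ').1 y := congrArg (fun t : HomSet R.carrier R.res A => t.1 y) hψ1
      rw [this]
      exact RingHom.mem_ker.1 (le_ker_ofQuot φ' (Ideal.subset_span rfl))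
    obtain ⟨ψ', hψ'1, hψ'2⟩ := exists_lift_killing R μ hμ ψ y hy hμy (homSetOfDerivation R D₀) (by
      rw [homSetOfDerivation_snd]; exact hD₀y)
    refine ⟨toQuot ψ' (hale _ hψ'2), ?_⟩
    apply ofQuot_injective
    rw [ofQuot_map, ofQuot_toQuot, hψ'1, hψ1]

theorem isMiniversal_of_isMinimalVersal (hk : Subsingleton (Derivation Λ k k))
    (h0 : H0 F) (h2 : Heps F)
    {R : CRing Λ k} (ξ : Family R.carrier R.res F) (hξ : ξ.IsMinimalVersal) : IsMiniversal ξ := by
  letI : Algebra R.carrier k := R.res.toRingHom.toAlgebra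
  have h1 : S1 F := Groth.Agent.S12727.result F h0 ⟨⟨R, ξ, hξ.1⟩⟩
  refine ⟨hξ.1, ?_, surjective_app_of_isVersal ξ hξ.1 h0 _⟩
  intro τ₁ τ₂ h
  by_contra hne
  have e1 : tangentLinearMap R ξ (derivationOfHomSet R τ₁) = ξ.app (dual Λ k) τ₁ := by
    change ξ.app (dual Λ k) (homSetOfDerivation R (derivationOfHomSet R τ₁)) = _
    rw [homSetOfDerivation_derivationOfHomSet]
  have e2 : tangentLinearMap R ξ (derivationOfHomSet R τ₂) = ξ.app (dual Λ k) τ₂ := by
    change ξ.app (dual Λ k) (homSetOfDerivation R (derivationOfHomSet R τ₂)) = _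
    rw [homSetOfDerivation_derivationOfHomSet]
  have h' : tangentLinearMap R ξ (derivationOfHomSet R τ₁) =
      tangentLinearMap R ξ (derivationOfHomSet R τ₂) := e1.trans (h.trans e2.symm)
  set D₁ : Derivation Λ R.carrier k := derivationOfHomSet R τ₁ - derivationOfHomSet R τ₂ with hD₁def
  have hD₁ : tangentLinearMap R ξ D₁ = 0 := by
    rw [hD₁def, map_sub, h', sub_self]
  have hD₁ne : D₁ ≠ 0 := by
    intro hz
    rw [hD₁def, sub_eq_zero] at hz
    apply hne
    rw [← homSetOfDerivation_derivationOfHomSet R τ₁, ← homSetOfDerivation_derivationOfHomSet R τ₂, hz]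
  have hex : ∃ y ∈ maximalIdeal R.carrier, D₁ y ≠ 0 := by
    by_contra hcon
    push Not at hcon
    exact hD₁ne (der_eq_zero_of_vanish hk R D₁ hcon)
  obtain ⟨y, hy, hD₁y⟩ := hex
  set D₀ : Derivation Λ R.carrier k := (D₁ y)⁻¹ • D₁ with hD₀def
  have hD₀ : tangentLinearMap R ξ D₀ = 0 := by
    rw [hD₀def, map_smul, hD₁, smul_zero]
  have hD₀y : D₀ y = 1 := by
    change (D₁ y)⁻¹ • D₁ y = 1
    rw [smul_eq_mul, inv_mul_cancel₀ hD₁y]
  have ha : Ideal.span {y} ≤ maximalIdeal R.carrier := by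
    rw [Ideal.span_le, Set.singleton_subset_iff]; exact hy
  have hv₁ := versal_restrict h0 h1 h2 R ξ hξ.1 y hy D₀ hD₀ hD₀y ha
  obtain ⟨g, hg, hgξ⟩ := Groth.Agent.S12720.result h0 (quotCRing R (Ideal.span {y}) ha)
    (restrictFamily R (Ideal.span {y}) ha ξ) hv₁ R ξ.toFormalElt
  rw [along_toFormalElt_eq_push] at hgξ
  have hgsurj : Function.Surjective g := hξ.2 _ _ g hg hgξ
  have hcomp : Function.Surjective ((g : (quotCRing R (Ideal.span {y}) ha).carrier →+* R.carrier).comp
      (qmk R (Ideal.span {y}) ha : R.carrier →+* (quotCRing R (Ideal.span {y}) ha).carrier)) := by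
    intro r
    obtain ⟨x, rfl⟩ := hgsurj r
    obtain ⟨r', rfl⟩ := qmk_surjective R (Ideal.span {y}) ha x
    exact ⟨r', rfl⟩
  have hinj := injective_of_surjective_endo _ hcomp
  have hy0 : y = 0 := by
    apply hinj
    rw [map_zero]
    change g (qmk R (Ideal.span {y}) ha y) = 0
    have h3 : qmk R (Ideal.span {y}) ha y = 0 := Ideal.Quotient.eq_zero_iff_mem.2 (Ideal.subset_span rfl)
    rw [h3, map_zero]
  rw [hy0, map_zero] at hD₀y
  exact zero_ne_one hD₀y

end

end Groth.Agent.Helper8.Schl
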