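import Mathlib
import Groth.Agent.Helper8.Schl13
import Groth.Agent.Helper7.CohenP1
set_option autoImplicit false
universe u v

namespace Groth.Agent.Helper8.Schl
open ArtFun ArtFun.Art IsLocalRing CategoryTheory Groth.Agent.Helper6

variable {Λ : Type u} {k : Type u} [CommRing Λ] [Field k] [Algebra Λ k]

variable {F : Art Λ k ⥤ Type v}

/-- an Artinian object, as a coefficient ring -/
noncomputable def artCRing (A : Art Λ k) : CRing Λ k :=
  haveI : IsNoetherianRing A := inferInstance
  { carrier := A
    res := A.res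
    res_surjective := A.res_surjective
    isAdicComplete := by
      apply Groth.Agent.Helper7.Cohen.isAdicComplete_of_isNilpotent
      obtain ⟨n, hn⟩ := exists_maximalIdeal_pow_eq_bot A
      exact ⟨n, hn⟩ }

/-- the Yoneda family of an element -/
def yonedaFamily (A : Art Λ k) (w : F.obj A) : Family A.carrier A.res F where
  app B φ := F.map (⟨φ.1, φ.2⟩ : A ⟶ B) w
  natural f φ := by
    rw [← Functor.map_comp_apply]
    rfl

theorem exists_elt_of_finset' (h0 : H0 F) (h2 : Heps F) (s : Finset (F.obj (dual Λ k))) :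
    ∃ (A : Art Λ k) (x : F.obj A), ∀ e ∈ s, ∃ τ : A ⟶ dual Λ k, F.map τ x = e := by
  classical
  induction s using Finset.induction_on with
  | empty =>
    obtain ⟨⟨x⟩, -⟩ := h0
    exact ⟨base Λ k, x, fun e he => absurd he (Finset.notMem_empty e)⟩
  | insert e s hes ih =>
    obtain ⟨A, x, hx⟩ := ih
    have hsurj : Function.Surjective (toBase (dual Λ k)) := dual_toBase_surjective
    have hfp := pb_isFibreProd (toBase A) (toBase (dual Λ k)) hsurj
    haveI := h0.2
    obtain ⟨z, hz⟩ := (h2 _ _ hfp).2 ⟨(x, e), Subsingleton.elim _ _⟩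
    have hz1 : F.map (pbFst (toBase A) (toBase (dual Λ k)) hsurj) z = x := congrArg (fun w => w.1.1) hz
    have hz2 : F.map (pbSnd (toBase A) (toBase (dual Λ k)) hsurj) z = e := congrArg (fun w => w.1.2) hz
    refine ⟨pbObj (toBase A) (toBase (dual Λ k)) hsurj, z, ?_⟩
    intro e' he'
    rcases Finset.mem_insert.1 he' with rfl | he'
    · exact ⟨_, hz2⟩
    · obtain ⟨τ, hτ⟩ := hx e' he'
      exact ⟨pbFst (toBase A) (toBase (dual Λ k)) hsurj ≫ τ, by
        rw [Functor.map_comp_apply, hz1, hτ]⟩

section Ops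

variable (h0 : H0 F) (h2 : Heps F)

/-- addition on the tangent space -/
noncomputable def tAdd (x y : F.obj (dual Λ k)) : F.obj (dual Λ k) :=
  F.map plus ((Equiv.ofBijective _ (h2 pr₁ pr₂ isFibreProd_dual2)).symm
    ⟨(x, y), @Subsingleton.elim _ h0.2 _ _⟩)

/-- zero of the tangent space -/
noncomputable def tZero : F.obj (dual Λ k) := F.map baseToDual (Classical.choice h0.1)

theorem tAdd_eq (z : F.obj (dual2 Λ k)) : tAdd h0 h2 (F.map pr₁ z) (F.map pr₂ z) = F.map plus z := by
  unfold tAdd
  congr 1
  exact (Equiv.symm_apply_eq _).2 (FibProd.ext rfl rfl)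

variable (R : CRing Λ k) (ξ : Family R.carrier R.res F)

/-- the tangent map of a family on derivations, as a plain map -/
noncomputable def tPi
    (D : letI : Algebra R.carrier k := R.res.toRingHom.toAlgebra; Derivation Λ R.carrier k) :
    F.obj (dual Λ k) := ξ.app (dual Λ k) (homSetOfDerivation R D)

theorem tPi_add
    (D₁ D₂ : letI : Algebra R.carrier k := R.res.toRingHom.toAlgebra; Derivation Λ R.carrier k) :
    letI : Algebra R.carrier k := R.res.toRingHom.toAlgebra
    tPi R ξ (D₁ + D₂) = tAdd h0 h2 (tPi R ξ D₁) (tPi R ξ D₂) := by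
  letI : Algebra R.carrier k := R.res.toRingHom.toAlgebra
  obtain ⟨χ, h1, h2'⟩ := IsFibreProd.exists_homSet_lift (isFibreProd_dual2 (Λ := Λ) (k := k))
    (homSetOfDerivation R D₁) (homSetOfDerivation R D₂)
    ((homSet_base_eq _).trans (homSet_base_eq _).symm)
  unfold tPi
  rw [homSetOfDerivation_add R D₁ D₂ χ h1 h2', ξ.natural, ← h1, ← h2', ξ.natural, ξ.natural, tAdd_eq]

theorem tPi_smul (c : k)
    (D : letI : Algebra R.carrier k := R.res.toRingHom.toAlgebra; Derivation Λ R.carrier k) :
    letI : Algebra R.carrier k := R.res.toRingHom.toAlgebra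
    tPi R ξ (c • D) = F.map (scale c) (tPi R ξ D) := by
  letI : Algebra R.carrier k := R.res.toRingHom.toAlgebra
  unfold tPi
  rw [homSetOfDerivation_smul, ξ.natural]

theorem tPi_zero :
    letI : Algebra R.carrier k := R.res.toRingHom.toAlgebra
    tPi R ξ (0 : Derivation Λ R.carrier k) = tZero h0 := by
  letI : Algebra R.carrier k := R.res.toRingHom.toAlgebra
  have hτ₀' : HomSet.map baseToDual (basePt R.carrier R.res) =
      homSetOfDerivation R (0 : Derivation Λ R.carrier k) := by
    apply Subtype.ext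
    apply AlgHom.ext
    intro r
    change (algebraMap k (DualNumber k) (R.res r)) = (homSetOfDerivation R (0 : Derivation Λ R.carrier k)).1 r
    rw [homSetOfDerivation_apply, TrivSqZeroExt.algebraMap_eq_inl]
    change TrivSqZeroExt.inl (R.res r) = TrivSqZeroExt.inl (R.res r) + TrivSqZeroExt.inr (0 : k)
    rw [TrivSqZeroExt.inr_zero, add_zero]
  unfold tPi tZero
  rw [← hτ₀', ξ.natural]
  congr 1
  exact @Subsingleton.elim _ h0.2 _ _

end Ops

/-- any finite set of tangent vectors is in the image of the tangent map of some family -/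
theorem exists_family_of_finset (h0 : H0 F) (h2 : Heps F) (s : Finset (F.obj (dual Λ k))) :
    ∃ (R : CRing Λ k) (ξ : Family R.carrier R.res F), ∀ e ∈ s,
      ∃ D : (letI : Algebra R.carrier k := R.res.toRingHom.toAlgebra; Derivation Λ R.carrier k),
        tPi R ξ D = e := by
  obtain ⟨A, w, hw⟩ := exists_elt_of_finset' h0 h2 s
  refine ⟨artCRing A, yonedaFamily A w, ?_⟩
  intro e he
  obtain ⟨τ, hτ⟩ := hw e he
  let φ : HomSet (artCRing A).carrier (artCRing A).res (dual Λ k) := ⟨τ.toAlgHom, τ.res_comp⟩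
  refine ⟨derivationOfHomSet (artCRing A) φ, ?_⟩
  unfold tPi
  rw [homSetOfDerivation_derivationOfHomSet]
  exact hτ

end Groth.Agent.Helper8.Schl
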