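import Mathlib
import Groth.Agent.Helper8.Schl14
set_option autoImplicit false
universe u v

namespace Groth.Agent.Helper8.Schl
open ArtFun ArtFun.Art IsLocalRing CategoryTheory Groth.Agent.Helper6

variable {Λ : Type u} {k : Type u} [CommRing Λ] [Field k] [Algebra Λ k]

variable {F : Art Λ k ⥤ Type v}

theorem exists3 (h0 : H0 F) (h2 : Heps F) (x y z : F.obj (dual Λ k)) :
    ∃ (R : CRing Λ k) (ξ : Family R.carrier R.res F)
      (Dx Dy Dz : (letI : Algebra R.carrier k := R.res.toRingHom.toAlgebra; Derivation Λ R.carrier k)),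
      tPi R ξ Dx = x ∧ tPi R ξ Dy = y ∧ tPi R ξ Dz = z := by
  classical
  obtain ⟨R, ξ, h⟩ := exists_family_of_finset h0 h2 {x, y, z}
  obtain ⟨Dx, hx⟩ := h x (by simp)
  obtain ⟨Dy, hy⟩ := h y (by simp)
  obtain ⟨Dz, hz⟩ := h z (by simp)
  exact ⟨R, ξ, Dx, Dy, Dz, hx, hy, hz⟩

/-- the additive group structure on the tangent space -/
@[reducible] noncomputable def tAddCommGroup (h0 : H0 F) (h2 : Heps F) : AddCommGroup (F.obj (dual Λ k)) where
  add := tAdd h0 h2
  zero := tZero h0
  neg x := F.map (scale (-1)) x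
  nsmul := @nsmulRec _ ⟨tZero h0⟩ ⟨tAdd h0 h2⟩
  zsmul := @zsmulRec _ ⟨tZero h0⟩ ⟨tAdd h0 h2⟩ ⟨fun x => F.map (scale (-1)) x⟩
    (@nsmulRec _ ⟨tZero h0⟩ ⟨tAdd h0 h2⟩)
  add_assoc x y z := by
    change tAdd h0 h2 (tAdd h0 h2 x y) z = tAdd h0 h2 x (tAdd h0 h2 y z)
    obtain ⟨R, ξ, Dx, Dy, Dz, rfl, rfl, rfl⟩ := exists3 h0 h2 x y z
    letI : Algebra R.carrier k := R.res.toRingHom.toAlgebra
    rw [← tPi_add, ← tPi_add, ← tPi_add, ← tPi_add, add_assoc]
  zero_add x := by
    change tAdd h0 h2 (tZero h0) x = x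
    obtain ⟨R, ξ, Dx, -, -, rfl, -, -⟩ := exists3 h0 h2 x x x
    letI : Algebra R.carrier k := R.res.toRingHom.toAlgebra
    rw [← tPi_zero h0 R ξ, ← tPi_add, zero_add]
  add_zero x := by
    change tAdd h0 h2 x (tZero h0) = x
    obtain ⟨R, ξ, Dx, -, -, rfl, -, -⟩ := exists3 h0 h2 x x x
    letI : Algebra R.carrier k := R.res.toRingHom.toAlgebra
    rw [← tPi_zero h0 R ξ, ← tPi_add, add_zero]
  neg_add_cancel x := by
    change tAdd h0 h2 (F.map (scale (-1)) x) x = tZero h0
    obtain ⟨R, ξ, Dx, -, -, rfl, -, -⟩ := exists3 h0 h2 x x x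
    letI : Algebra R.carrier k := R.res.toRingHom.toAlgebra
    rw [← tPi_smul, ← tPi_add, neg_one_smul k Dx, neg_add_cancel, tPi_zero h0]
  add_comm x y := by
    change tAdd h0 h2 x y = tAdd h0 h2 y x
    obtain ⟨R, ξ, Dx, Dy, -, rfl, rfl, -⟩ := exists3 h0 h2 x y y
    letI : Algebra R.carrier k := R.res.toRingHom.toAlgebra
    rw [← tPi_add, ← tPi_add, add_comm]

/-- the vector space structure on the tangent space -/
@[reducible] noncomputable def tModule (h0 : H0 F) (h2 : Heps F) :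
    @Module k (F.obj (dual Λ k)) _ (tAddCommGroup h0 h2).toAddCommMonoid :=
  letI := tAddCommGroup h0 h2
  { smul := fun c x => F.map (scale c) x
    one_smul := fun x => by
      change F.map (scale 1) x = x
      obtain ⟨R, ξ, Dx, -, -, rfl, -, -⟩ := exists3 h0 h2 x x x
      letI : Algebra R.carrier k := R.res.toRingHom.toAlgebra
      rw [← tPi_smul, one_smul]
    mul_smul := fun c c' x => by
      change F.map (scale (c * c')) x = F.map (scale c) (F.map (scale c') x)
      obtain ⟨R, ξ, Dx, -, -, rfl, -, -⟩ := exists3 h0 h2 x x x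
      letI : Algebra R.carrier k := R.res.toRingHom.toAlgebra
      rw [← tPi_smul, ← tPi_smul, ← tPi_smul, mul_smul]
    smul_zero := fun c => by
      change F.map (scale c) (tZero h0) = tZero h0
      obtain ⟨R, ξ, -, -, -, -, -, -⟩ := exists3 h0 h2 (tZero h0) (tZero h0) (tZero h0)
      letI : Algebra R.carrier k := R.res.toRingHom.toAlgebra
      rw [← tPi_zero h0 R ξ, ← tPi_smul, smul_zero]
    smul_add := fun c x y => by
      change F.map (scale c) (tAdd h0 h2 x y) = tAdd h0 h2 (F.map (scale c) x) (F.map (scale c) y)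
      obtain ⟨R, ξ, Dx, Dy, -, rfl, rfl, -⟩ := exists3 h0 h2 x y y
      letI : Algebra R.carrier k := R.res.toRingHom.toAlgebra
      rw [← tPi_add, ← tPi_smul, ← tPi_smul, ← tPi_smul, ← tPi_add, smul_add]
    add_smul := fun c c' x => by
      change F.map (scale (c + c')) x = tAdd h0 h2 (F.map (scale c) x) (F.map (scale c') x)
      obtain ⟨R, ξ, Dx, -, -, rfl, -, -⟩ := exists3 h0 h2 x x x
      letI : Algebra R.carrier k := R.res.toRingHom.toAlgebra
      rw [← tPi_smul, ← tPi_smul, ← tPi_smul, ← tPi_add, add_smul]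
    zero_smul := fun x => by
      change F.map (scale 0) x = tZero h0
      obtain ⟨R, ξ, Dx, -, -, rfl, -, -⟩ := exists3 h0 h2 x x x
      letI : Algebra R.carrier k := R.res.toRingHom.toAlgebra
      rw [← tPi_smul, zero_smul, tPi_zero h0] }

/-- the natural tangent structure of a functor with `(H0)` and `(S2)` -/
@[reducible] noncomputable def tangentStr (h0 : H0 F) (h2 : Heps F) : TangentStr F where
  addCommGroup := tAddCommGroup h0 h2
  module := tModule h0 h2
  smul_eq := fun _ _ => rfl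
  add_eq := fun z => tAdd_eq h0 h2 z

theorem s12726 (F : Art Λ k ⥤ Type v) (h0 : H0 F) (h2 : Heps F) : Nonempty (TangentStr F) :=
  ⟨tangentStr h0 h2⟩

theorem s12749 [IsNoetherianRing Λ] [Module.Finite Λ k] (hk : Subsingleton (Derivation Λ k k))
    (h0 : H0 F) (h2 : Heps F)
    {R : CRing Λ k} (ξ : Family R.carrier R.res F) (hξ : ξ.IsMinimalVersal) : IsMiniversal ξ := by
  letI := tangentStr h0 h2
  exact isMiniversal_of_isMinimalVersal hk h0 h2 ξ hξ

end Groth.Agent.Helper8.Schl
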