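import Mathlib
import Groth.Agent.Helper8.Schl15
set_option autoImplicit false
universe u v

namespace Groth.Agent.Helper8.Schl
open ArtFun ArtFun.Art IsLocalRing CategoryTheory Groth.Agent.Helper6

variable {Λ : Type u} {k : Type u} [CommRing Λ] [Field k] [Algebra Λ k]

section CHom

/-- augmentation-preserving algebra maps between coefficient rings -/
@[reducible] def CHom (R T : CRing Λ k) : Type u := {g : R.carrier →ₐ[Λ] T.carrier // T.res.comp g = R.res}

variable {R T : CRing Λ k}

/-- truncation of a map of coefficient rings -/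
noncomputable def CHom.trunc (g : CHom R T) (n : ℕ) : HomSet R.carrier R.res (T.trunc n) :=
  ⟨(T.truncHom n).1.comp g.1, by rw [← AlgHom.comp_assoc, (T.truncHom n).2, g.2]⟩

theorem CHom.trunc_compat (g : CHom R T) (n : ℕ) :
    HomSet.map (T.truncMap n) (g.trunc (n + 1)) = g.trunc n := by
  apply Subtype.ext
  have h := congrArg Subtype.val (CRing.truncMap_truncHom T n)
  change (T.truncMap n).toAlgHom.comp ((T.truncHom (n + 1)).1.comp g.1) = (T.truncHom n).1.comp g.1
  rw [← AlgHom.comp_assoc]
  exact congrArg (fun t => AlgHom.comp t g.1) h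

theorem CHom.ext_trunc {g h : CHom R T} (H : ∀ n, g.trunc n = h.trunc n) : g = h := by
  apply Subtype.ext
  apply AlgHom.ext
  intro r
  apply CRing.eq_of_forall_mk_eq T
  intro n
  exact congrArg (fun t => t.1 r) (H n)

theorem CHom.exists_of_compat (φ : ∀ n, HomSet R.carrier R.res (T.trunc n))
    (hφ : ∀ n, HomSet.map (T.truncMap n) (φ (n + 1)) = φ n) :
    ∃ g : CHom R T, ∀ n, g.trunc n = φ n := by
  obtain ⟨g, hg⟩ := CRing.exists_algHom_lift T (fun n => (φ n).1)
    (fun n => congrArg Subtype.val (hφ n))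
  have hres : T.res.comp g = R.res := by
    have h1 : T.res = (T.trunc 0).res.comp (T.truncHom 0).1 := (T.truncHom 0).2.symm
    rw [h1, AlgHom.comp_assoc, hg 0]
    exact (φ 0).2
  exact ⟨⟨g, hres⟩, fun n => Subtype.ext (hg n)⟩

end CHom

section Univ

variable {F : Art Λ k ⥤ Type v} {P T : CRing Λ k}

/-- a universal family identifies maps of coefficient rings with formal elements -/
theorem existsUnique_chom_of_isUniversal (ξ : Family P.carrier P.res F) (hξ : IsUniversal ξ)
    (y : FormalElt F T) : ∃! g : CHom P T, ∀ n, ξ.app _ (g.trunc n) = y.elt n := by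
  choose φ hφ using fun n => (hξ (T.trunc n)).2 (y.elt n)
  have hc : ∀ n, HomSet.map (T.truncMap n) (φ (n + 1)) = φ n := by
    intro n
    apply (hξ _).1
    rw [ξ.natural, hφ, hφ, y.compat]
  obtain ⟨g, hg⟩ := CHom.exists_of_compat φ hc
  refine ⟨g, fun n => by rw [hg n, hφ n], ?_⟩
  intro g' hg'
  apply CHom.ext_trunc
  intro n
  apply (hξ _).1
  rw [hg' n, hg n, hφ n]

end Univ

section Prod

variable (R S : CRing Λ k)

/-- the product of two representable functors -/
def prodF : Art Λ k ⥤ Type u := FunctorToTypes.prod (hR R.carrier R.res) (hR S.carrier S.res)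

theorem prodF_map {A B : Art Λ k} (f : A ⟶ B) (x : (prodF R S).obj A) :
    (prodF R S).map f x = (HomSet.map f x.1, HomSet.map f x.2) := rfl

theorem prodF_h0 : H0 (prodF R S) := by
  refine ⟨⟨(basePt _ _, basePt _ _)⟩, ⟨fun x y => ?_⟩⟩
  exact Prod.ext ((homSet_base_eq _).trans (homSet_base_eq _).symm)
    ((homSet_base_eq _).trans (homSet_base_eq _).symm)

theorem prodF_isLeftExact : IsLeftExact (prodF R S) := by
  intro B A A' A'' p' p'' f' f'' h
  constructor
  · intro z₁ z₂ hz
    have h1 : (prodF R S).map p' z₁ = (prodF R S).map p' z₂ := congrArg (fun t => t.1.1) hz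
    have h2 : (prodF R S).map p'' z₁ = (prodF R S).map p'' z₂ := congrArg (fun t => t.1.2) hz
    rw [prodF_map, prodF_map] at h1 h2
    exact Prod.ext
      (IsFibreProd.homSet_ext h _ _ (congrArg Prod.fst h1) (congrArg Prod.fst h2))
      (IsFibreProd.homSet_ext h _ _ (congrArg Prod.snd h1) (congrArg Prod.snd h2))
  · rintro ⟨⟨a', a''⟩, hc⟩
    have hc' : (prodF R S).map f' a' = (prodF R S).map f'' a'' := hc
    rw [prodF_map, prodF_map] at hc'
    obtain ⟨χ₁, h11, h12⟩ := IsFibreProd.exists_homSet_lift h a'.1 a''.1 (congrArg Prod.fst hc')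
    obtain ⟨χ₂, h21, h22⟩ := IsFibreProd.exists_homSet_lift h a'.2 a''.2 (congrArg Prod.snd hc')
    refine ⟨(χ₁, χ₂), Subtype.ext (Prod.ext ?_ ?_)⟩
    · exact Prod.ext h11 h21
    · exact Prod.ext h12 h22

end Prod

section Tangent

variable (R S : CRing Λ k)

/-- `h_R(k[ε])` is the space of derivations -/
noncomputable def derEquiv :
    letI : Algebra R.carrier k := R.res.toRingHom.toAlgebra
    HomSet R.carrier R.res (dual Λ k) ≃ Derivation Λ R.carrier k :=
  letI : Algebra R.carrier k := R.res.toRingHom.toAlgebra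
  { toFun := derivationOfHomSet R
    invFun := homSetOfDerivation R
    left_inv := homSetOfDerivation_derivationOfHomSet R
    right_inv := fun D => Derivation.ext fun r => homSetOfDerivation_snd R D r }

noncomputable def prodEquiv :
    letI : Algebra R.carrier k := R.res.toRingHom.toAlgebra
    letI : Algebra S.carrier k := S.res.toRingHom.toAlgebra
    (prodF R S).obj (dual Λ k) ≃ Derivation Λ R.carrier k × Derivation Λ S.carrier k :=
  letI : Algebra R.carrier k := R.res.toRingHom.toAlgebra
  letI : Algebra S.carrier k := S.res.toRingHom.toAlgebra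
  Equiv.prodCongr (derEquiv R) (derEquiv S)

@[reducible] noncomputable def prodTangentStr : TangentStr (prodF R S) :=
  letI : Algebra R.carrier k := R.res.toRingHom.toAlgebra
  letI : Algebra S.carrier k := S.res.toRingHom.toAlgebra
  letI acg : AddCommGroup ((prodF R S).obj (dual Λ k)) := (prodEquiv R S).addCommGroup
  { addCommGroup := acg
    module := (prodEquiv R S).module k
    smul_eq := fun c x => by
      change (prodEquiv R S).symm (c • (prodEquiv R S) x) = _
      rw [prodF_map]
      refine Prod.ext ?_ ?_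
      · change homSetOfDerivation R (c • derivationOfHomSet R x.1) = _
        rw [homSetOfDerivation_smul]
        exact congrArg (HomSet.map (scale c)) (homSetOfDerivation_derivationOfHomSet R _)
      · change homSetOfDerivation S (c • derivationOfHomSet S x.2) = _
        rw [homSetOfDerivation_smul]
        exact congrArg (HomSet.map (scale c)) (homSetOfDerivation_derivationOfHomSet S _)
    add_eq := fun z => by
      change (prodEquiv R S).symm ((prodEquiv R S) ((prodF R S).map pr₁ z) +
        (prodEquiv R S) ((prodF R S).map pr₂ z)) = _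
      rw [prodF_map, prodF_map, prodF_map]
      refine Prod.ext ?_ ?_
      · change homSetOfDerivation R (derivationOfHomSet R (HomSet.map pr₁ z.1) +
          derivationOfHomSet R (HomSet.map pr₂ z.1)) = _
        exact homSetOfDerivation_add R _ _ z.1 (homSetOfDerivation_derivationOfHomSet R _).symm
          (homSetOfDerivation_derivationOfHomSet R _).symm
      · change homSetOfDerivation S (derivationOfHomSet S (HomSet.map pr₁ z.2) +
          derivationOfHomSet S (HomSet.map pr₂ z.2)) = _
        exact homSetOfDerivation_add S _ _ z.2 (homSetOfDerivation_derivationOfHomSet S _).symm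
          (homSetOfDerivation_derivationOfHomSet S _).symm }

theorem homSet_base_inj (a : HomSet R.carrier R.res (base Λ k)) (σ₁ σ₂ : base Λ k ⟶ dual Λ k)
    (h2 : HomSet.map σ₁ a = HomSet.map σ₂ a) : σ₁ = σ₂ := by
  apply Art.hom_ext
  apply AlgHom.ext
  intro c
  obtain ⟨r, hr⟩ := R.res_surjective c
  have h3 : a.1 r = c := (homSet_res_apply a r).trans hr
  have h4 : (HomSet.map σ₁ a).1 r = (HomSet.map σ₂ a).1 r := by rw [h2]
  rw [homSet_map_apply, homSet_map_apply, h3] at h4
  exact h4

theorem prodF_hfin [IsNoetherianRing Λ] [Module.Finite Λ k] :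
    letI := prodTangentStr R S
    Hfin (prodF R S) := by
  letI := prodTangentStr R S
  letI : Algebra R.carrier k := R.res.toRingHom.toAlgebra
  letI : Algebra S.carrier k := S.res.toRingHom.toAlgebra
  have : IsScalarTower Λ R.carrier k := IsScalarTower.of_algebraMap_eq fun a => (R.res.commutes a).symm
  have : IsScalarTower Λ S.carrier k := IsScalarTower.of_algebraMap_eq fun a => (S.res.commutes a).symm
  have := R.isAdicComplete
  have := S.isAdicComplete
  have hR : Module.Finite k (Derivation Λ R.carrier k) :=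
    Groth.Agent.S12715.result R.carrier R.res_surjective
  have hS : Module.Finite k (Derivation Λ S.carrier k) :=
    Groth.Agent.S12715.result S.carrier S.res_surjective
  let l : (Derivation Λ R.carrier k × Derivation Λ S.carrier k) →ₗ[k] TangentSpace (prodF R S) :=
    { toFun := (prodEquiv R S).symm
      map_add' := fun a b => by
        change _ = (prodEquiv R S).symm ((prodEquiv R S) ((prodEquiv R S).symm a) +
          (prodEquiv R S) ((prodEquiv R S).symm b))
        rw [Equiv.apply_symm_apply, Equiv.apply_symm_apply]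
      map_smul' := fun c a => by
        change _ = (prodEquiv R S).symm (c • (prodEquiv R S) ((prodEquiv R S).symm a))
        rw [Equiv.apply_symm_apply] }
  exact Module.Finite.of_surjective l (prodEquiv R S).symm.surjective

theorem prodF_prorep [IsNoetherianRing Λ] [Module.Finite Λ k] : IsProrepresentable (prodF R S) := by
  letI := prodTangentStr R S
  refine (s12734 (prodF R S)).mpr ⟨⟨prodF_h0 R S, fun B A A' A'' p' p'' f' f'' h _ =>
    prodF_isLeftExact R S p' p'' f' f'' h⟩, prodF_hfin R S, ?_⟩
  intro x₀ σ₁ σ₂ h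
  have h' : (prodF R S).map σ₁ x₀ = (prodF R S).map σ₂ x₀ := h
  rw [prodF_map, prodF_map] at h'
  exact homSet_base_inj R x₀.1 σ₁ σ₂ (congrArg Prod.fst h')

end Tangent

section Coprod

variable {R T : CRing Λ k}

/-- composition of a map of coefficient rings with an element of `h_T(A)` -/
def CHom.pull (g : CHom R T) {A : Art Λ k} (φ : HomSet T.carrier T.res A) : HomSet R.carrier R.res A :=
  ⟨φ.1.comp g.1, by rw [← AlgHom.comp_assoc, φ.2, g.2]⟩

theorem CHom.trunc_eq_pull (g : CHom R T) (n : ℕ) : g.trunc n = g.pull (T.truncHom n) := rfl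

theorem CHom.map_pull (g : CHom R T) {A B : Art Λ k} (f : A ⟶ B) (φ : HomSet T.carrier T.res A) :
    HomSet.map f (g.pull φ) = g.pull (HomSet.map f φ) := Subtype.ext (AlgHom.ext fun _ => rfl)

/-- composition of maps of coefficient rings -/
def CHom.comp {P : CRing Λ k} (h : CHom T P) (g : CHom R T) : CHom R P :=
  ⟨h.1.comp g.1, by rw [← AlgHom.comp_assoc, h.2, g.2]⟩

theorem CHom.pull_trunc {P : CRing Λ k} (h : CHom T P) (g : CHom R T) (n : ℕ) :
    g.pull (h.trunc n) = (h.comp g).trunc n := Subtype.ext (AlgHom.ext fun _ => rfl)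

theorem coprod_exists [IsNoetherianRing Λ] [Module.Finite Λ k] (R S : CRing Λ k) :
    ∃ (P : CRing Λ k) (i₁ : R.carrier →ₐ[Λ] P.carrier) (i₂ : S.carrier →ₐ[Λ] P.carrier),
      P.res.comp i₁ = R.res ∧ P.res.comp i₂ = S.res ∧
      ∀ (T : CRing Λ k) (g₁ : R.carrier →ₐ[Λ] T.carrier) (g₂ : S.carrier →ₐ[Λ] T.carrier),
        T.res.comp g₁ = R.res → T.res.comp g₂ = S.res →
          ∃! h : P.carrier →ₐ[Λ] T.carrier, T.res.comp h = P.res ∧ h.comp i₁ = g₁ ∧ h.comp i₂ = g₂ := by
  obtain ⟨⟨P, ξ, hξ⟩⟩ := prodF_prorep R S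
  -- the two structure maps
  have hc1 : ∀ n, HomSet.map (P.truncMap n) (ξ.toFormalElt.elt (n + 1)).1 = (ξ.toFormalElt.elt n).1 :=
    fun n => congrArg Prod.fst (ξ.toFormalElt.compat n)
  have hc2 : ∀ n, HomSet.map (P.truncMap n) (ξ.toFormalElt.elt (n + 1)).2 = (ξ.toFormalElt.elt n).2 :=
    fun n => congrArg Prod.snd (ξ.toFormalElt.compat n)
  obtain ⟨i₁, hi₁⟩ := CHom.exists_of_compat (R := R) (T := P) (fun n => (ξ.toFormalElt.elt n).1) hc1
  obtain ⟨i₂, hi₂⟩ := CHom.exists_of_compat (R := S) (T := P) (fun n => (ξ.toFormalElt.elt n).2) hc2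
  have key : ∀ (A : Art Λ k) (φ : HomSet P.carrier P.res A), ξ.app A φ = (i₁.pull φ, i₂.pull φ) := by
    intro A φ
    obtain ⟨n, ū, hū⟩ := exists_trunc_factor P φ
    rw [← hū, ξ.natural, prodF_map]
    refine Prod.ext ?_ ?_
    · change HomSet.map ū (ξ.toFormalElt.elt n).1 = _
      rw [← hi₁ n, CHom.trunc_eq_pull, CHom.map_pull]
    · change HomSet.map ū (ξ.toFormalElt.elt n).2 = _
      rw [← hi₂ n, CHom.trunc_eq_pull, CHom.map_pull]
  refine ⟨P, i₁.1, i₂.1, i₁.2, i₂.2, ?_⟩
  intro T g₁ g₂ hg₁ hg₂
  let G₁ : CHom R T := ⟨g₁, hg₁⟩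
  let G₂ : CHom S T := ⟨g₂, hg₂⟩
  let y : FormalElt (prodF R S) T :=
    { elt := fun n => (G₁.trunc n, G₂.trunc n)
      compat := fun n => Prod.ext (G₁.trunc_compat n) (G₂.trunc_compat n) }
  obtain ⟨h, hh, huniq⟩ := existsUnique_chom_of_isUniversal ξ hξ y
  have hiff : ∀ h' : CHom P T, (∀ n, ξ.app _ (h'.trunc n) = y.elt n) ↔
      (h'.comp i₁ = G₁ ∧ h'.comp i₂ = G₂) := by
    intro h'
    constructor
    · intro H
      constructor
      · apply CHom.ext_trunc
        intro n
        rw [← CHom.pull_trunc]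
        have := H n
        rw [key] at this
        exact congrArg Prod.fst this
      · apply CHom.ext_trunc
        intro n
        rw [← CHom.pull_trunc]
        have := H n
        rw [key] at this
        exact congrArg Prod.snd this
    · rintro ⟨H1, H2⟩ n
      rw [key, CHom.pull_trunc, CHom.pull_trunc, H1, H2]
      rfl
  obtain ⟨hh1, hh2⟩ := (hiff h).1 hh
  refine ⟨h.1, ⟨h.2, congrArg Subtype.val hh1, congrArg Subtype.val hh2⟩, ?_⟩
  rintro h' ⟨e0, e1, e2⟩
  have := huniq ⟨h', e0⟩ ((hiff ⟨h', e0⟩).2 ⟨Subtype.ext e1, Subtype.ext e2⟩)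
  exact congrArg Subtype.val this

end Coprod

end Groth.Agent.Helper8.Schl
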