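import Mathlib
import Groth.Agent.Helper8.Schl16
set_option autoImplicit false
universe u v

namespace Groth.Agent.Helper8.Schl
open ArtFun ArtFun.Art IsLocalRing CategoryTheory Groth.Agent.Helper6

variable {Λ : Type u} {k : Type u} [CommRing Λ] [Field k] [Algebra Λ k]

theorem pushout_exists [IsNoetherianRing Λ] [Module.Finite Λ k]
    (R S₁ S₂ : CRing Λ k) (f₁ : R.carrier →ₐ[Λ] S₁.carrier) (hf₁ : S₁.res.comp f₁ = R.res)
    (f₂ : R.carrier →ₐ[Λ] S₂.carrier) (hf₂ : S₂.res.comp f₂ = R.res) :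
    ∃ (P : CRing Λ k) (i₁ : S₁.carrier →ₐ[Λ] P.carrier) (i₂ : S₂.carrier →ₐ[Λ] P.carrier),
      P.res.comp i₁ = S₁.res ∧ P.res.comp i₂ = S₂.res ∧ i₁.comp f₁ = i₂.comp f₂ ∧
      ∀ (T : CRing Λ k) (g₁ : S₁.carrier →ₐ[Λ] T.carrier) (g₂ : S₂.carrier →ₐ[Λ] T.carrier),
        T.res.comp g₁ = S₁.res → T.res.comp g₂ = S₂.res → g₁.comp f₁ = g₂.comp f₂ →
          ∃! h : P.carrier →ₐ[Λ] T.carrier, T.res.comp h = P.res ∧ h.comp i₁ = g₁ ∧ h.comp i₂ = g₂ := by
  obtain ⟨C, j₁, j₂, hj₁, hj₂, hC⟩ := coprod_exists S₁ S₂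
  let a : Ideal C.carrier := Ideal.span (Set.range fun r : R.carrier => j₁ (f₁ r) - j₂ (f₂ r))
  have e1 : ∀ s, C.res (j₁ s) = S₁.res s := fun s => congrArg (fun t : S₁.carrier →ₐ[Λ] k => t s) hj₁
  have e2 : ∀ s, C.res (j₂ s) = S₂.res s := fun s => congrArg (fun t : S₂.carrier →ₐ[Λ] k => t s) hj₂
  have e3 : ∀ r, S₁.res (f₁ r) = R.res r := fun r => congrArg (fun t : R.carrier →ₐ[Λ] k => t r) hf₁
  have e4 : ∀ r, S₂.res (f₂ r) = R.res r := fun r => congrArg (fun t : R.carrier →ₐ[Λ] k => t r) hf₂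
  have ha : a ≤ maximalIdeal C.carrier := by
    rw [Ideal.span_le]
    rintro _ ⟨r, rfl⟩
    rw [SetLike.mem_coe, CRing.mem_maximalIdeal_iff, map_sub, sub_eq_zero, e1, e2, e3, e4]
  refine ⟨quotCRing C a ha, (qmk C a ha).comp j₁, (qmk C a ha).comp j₂, ?_, ?_, ?_, ?_⟩
  · apply AlgHom.ext
    intro s
    exact e1 s
  · apply AlgHom.ext
    intro s
    exact e2 s
  · apply AlgHom.ext
    intro r
    exact Ideal.Quotient.eq.2 (Ideal.subset_span ⟨r, rfl⟩)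
  · intro T g₁ g₂ hg₁ hg₂ hg
    obtain ⟨h, ⟨h0, h1, h2⟩, huniq⟩ := hC T g₁ g₂ hg₁ hg₂
    have hle : a ≤ RingHom.ker h.toRingHom := by
      rw [Ideal.span_le]
      rintro _ ⟨r, rfl⟩
      rw [SetLike.mem_coe, RingHom.mem_ker]
      change h (j₁ (f₁ r) - j₂ (f₂ r)) = 0
      have t1 : h (j₁ (f₁ r)) = g₁ (f₁ r) := congrArg (fun t : S₁.carrier →ₐ[Λ] T.carrier => t (f₁ r)) h1
      have t2 : h (j₂ (f₂ r)) = g₂ (f₂ r) := congrArg (fun t : S₂.carrier →ₐ[Λ] T.carrier => t (f₂ r)) h2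
      have t3 : g₁ (f₁ r) = g₂ (f₂ r) := congrArg (fun t : R.carrier →ₐ[Λ] T.carrier => t r) hg
      rw [map_sub, t1, t2, t3, sub_self]
    have hker : ∀ x ∈ a, h x = 0 := fun x hx => hle hx
    let hb : (quotCRing C a ha).carrier →ₐ[Λ] T.carrier := Ideal.Quotient.liftₐ a h hker
    have hhb : ∀ c, hb (qmk C a ha c) = h c := fun c => rfl
    refine ⟨hb, ⟨?_, ?_, ?_⟩, ?_⟩
    · apply AlgHom.ext
      intro x
      obtain ⟨c, rfl⟩ := qmk_surjective C a ha x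
      change T.res (hb (qmk C a ha c)) = C.res c
      rw [hhb]
      exact congrArg (fun t : C.carrier →ₐ[Λ] k => t c) h0
    · apply AlgHom.ext
      intro s
      exact congrArg (fun t : S₁.carrier →ₐ[Λ] T.carrier => t s) h1
    · apply AlgHom.ext
      intro s
      exact congrArg (fun t : S₂.carrier →ₐ[Λ] T.carrier => t s) h2
    · rintro h' ⟨u0, u1, u2⟩
      have := huniq (h'.comp (qmk C a ha)) ⟨?_, ?_, ?_⟩
      · apply AlgHom.ext
        intro x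
        obtain ⟨c, rfl⟩ := qmk_surjective C a ha x
        rw [hhb]
        exact congrArg (fun t : C.carrier →ₐ[Λ] T.carrier => t c) this
      · apply AlgHom.ext
        intro c
        exact congrArg (fun t : (quotCRing C a ha).carrier →ₐ[Λ] k => t (qmk C a ha c)) u0
      · rw [AlgHom.comp_assoc]
        exact u1
      · rw [AlgHom.comp_assoc]
        exact u2

end Groth.Agent.Helper8.Schl
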