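import Mathlib
import Groth.Agent.Helper8.Schl17
import Groth.Agent.Helper6.ArtFunNakayama
set_option autoImplicit false
universe u v

namespace Groth.Agent.Helper8.Schl
open ArtFun ArtFun.Art IsLocalRing CategoryTheory Groth.Agent.Helper6

section Cot

variable {A' A : Type*} [CommRing A'] [CommRing A] [IsLocalRing A'] [IsLocalRing A] [IsNoetherianRing A']

/-- killing an element of `𝔪 ∖ 𝔪²` lowers the embedding dimension -/
theorem spanFinrank_lt_of_not_mem_sq (f : A' →+* A) (hf : Function.Surjective f) (x : A') (hx : f x = 0)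
    (hx2 : x ∉ maximalIdeal A' ^ 2) :
    (maximalIdeal A).spanFinrank < (maximalIdeal A').spanFinrank := by
  classical
  have hxm : x ∈ maximalIdeal A' := by
    rw [mem_maximalIdeal, mem_nonunits_iff]
    intro hu
    have := hu.map f
    rw [hx] at this
    exact not_isUnit_zero this
  set v : CotangentSpace A' := (maximalIdeal A').toCotangent ⟨x, hxm⟩ with hv
  have hv0 : v ≠ 0 := by
    rw [hv, Ne, Ideal.toCotangent_eq_zero]
    exact hx2
  have hli : LinearIndepOn (ResidueField A') id ({v} : Set (CotangentSpace A')) :=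
    (linearIndepOn_singleton_iff (ResidueField A')).2 hv0
  set B : Set (CotangentSpace A') := hli.extend (Set.subset_univ _) with hB
  let b : Module.Basis B (ResidueField A') (CotangentSpace A') := Module.Basis.extend hli
  have hvB : v ∈ B := Module.Basis.subset_extend hli rfl
  have hBfin : B.Finite := by
    have : Finite B := Module.Finite.finite_basis b
    exact Set.toFinite B
  have hcard : B.ncard = (maximalIdeal A').spanFinrank := by
    rw [spanFinrank_maximalIdeal_eq_finrank_cotangentSpace, Module.finrank_eq_nat_card_basis b]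
    rfl
  have hspanB : Submodule.span (ResidueField A') B = ⊤ := by
    have := b.span_eq
    rwa [Module.Basis.range_extend] at this
  let g : CotangentSpace A' → maximalIdeal A' := Function.surjInv (maximalIdeal A').toCotangent_surjective
  have hg : ∀ w, (maximalIdeal A').toCotangent (g w) = w :=
    Function.surjInv_eq (maximalIdeal A').toCotangent_surjective
  set T : Set (maximalIdeal A') := g '' (B \ {v}) ∪ {⟨x, hxm⟩} with hT
  have himg : (maximalIdeal A').toCotangent '' T = B := by
    rw [hT, Set.image_union, Set.image_singleton, Set.image_image]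
    simp only [hg, Set.image_id']
    rw [← hv, Set.sdiff_union_self, Set.union_eq_left.2 (Set.singleton_subset_iff.2 hvB)]
  have hspanT : Submodule.span A' T = ⊤ := by
    rw [← CotangentSpace.span_image_eq_top_iff, himg, hspanB]
  -- the maximal ideal of `A` is generated by the image of `g '' (B \ {v})`
  have hmap : Ideal.map f (maximalIdeal A') = maximalIdeal A :=
    IsLocalRing.map_maximalIdeal_of_surjective f hf
  have hm' : maximalIdeal A' = Ideal.span (Subtype.val '' T) := by
    have h1 := congrArg (Submodule.map (maximalIdeal A').subtype) hspanT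
    rw [Submodule.map_span, Submodule.map_subtype_top] at h1
    exact h1.symm
  have hm : maximalIdeal A = Ideal.span ((fun w => f (g w : A')) '' (B \ {v})) := by
    have h2 : Ideal.map f (maximalIdeal A') = Ideal.map f (Ideal.span (Subtype.val '' T)) :=
      congrArg (Ideal.map f) hm'
    rw [← hmap, h2, Ideal.map_span, hT, Set.union_singleton, Set.image_insert_eq, Set.image_insert_eq,
      hx, Ideal.span_insert_zero, Set.image_image, Set.image_image]
  rw [hm]
  have hfin : (B \ {v}).Finite := hBfin.subset Set.sdiff_subset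
  calc (Ideal.span ((fun w => f (g w : A')) '' (B \ {v}))).spanFinrank
      ≤ ((fun w => f (g w : A')) '' (B \ {v})).ncard :=
        Submodule.spanFinrank_span_le_ncard_of_finite (hfin.image _)
    _ ≤ (B \ {v}).ncard := Set.ncard_image_le hfin
    _ < B.ncard := Set.ncard_sdiff_singleton_lt_of_mem hvB hBfin
    _ = (maximalIdeal A').spanFinrank := hcard

end Cot

section Lift

variable {Λ : Type u} {k : Type u} [CommRing Λ] [Field k] [Algebra Λ k]

theorem ker_le_sq_of_spanFinrank_le {A' A : Art Λ k} (f : A' ⟶ A) (hf : Function.Surjective f)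
    (he : (maximalIdeal A').spanFinrank ≤ (maximalIdeal A).spanFinrank) (x : A') (hx : f x = 0) :
    x ∈ maximalIdeal A' ^ 2 := by
  by_contra hx2
  exact absurd (spanFinrank_lt_of_not_mem_sq f.toAlgHom.toRingHom hf x hx hx2) (not_lt.2 he)

theorem spanFinrank_mono {A' A : Art Λ k} (f : A' ⟶ A) (hf : Function.Surjective f) :
    (maximalIdeal A).spanFinrank ≤ (maximalIdeal A').spanFinrank := by
  have h1 : Ideal.map f.toAlgHom.toRingHom (maximalIdeal A') = maximalIdeal A :=
    IsLocalRing.map_maximalIdeal_of_surjective f.toAlgHom.toRingHom hf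
  rw [← h1]
  exact Ideal.spanFinrank_map_le_of_fg _ (IsNoetherian.noetherian _)

/-- a lift of a surjective point along a surjection whose kernel lies in the square of the maximal ideal is
surjective -/
theorem surjective_of_lift {P : CRing Λ k} {A' A : Art Λ k} (f : A' ⟶ A)
    (hker : ∀ x : A', f x = 0 → x ∈ maximalIdeal A' ^ 2)
    (φ' : HomSet P.carrier P.res A') (hs : Function.Surjective (HomSet.map f φ').1) :
    Function.Surjective φ'.1 := by
  obtain ⟨N, ū, hū⟩ := exists_trunc_factor P φ'
  have hφ : ∀ p, φ'.1 p = ū ((P.truncHom N).1 p) := fun p => by rw [← hū]; rfl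
  have hsf : Function.Surjective (ū ≫ f) := by
    intro a
    obtain ⟨p, hp⟩ := hs a
    refine ⟨(P.truncHom N).1 p, ?_⟩
    rw [← hp]
    change f (ū ((P.truncHom N).1 p)) = f (φ'.1 p)
    rw [hφ]
  have hū_surj : Function.Surjective ū := by
    apply surjective_of_map_maximalIdeal_sup_sq
    apply le_antisymm (sup_le (map_maximalIdeal_le ū) (Ideal.pow_le_self two_ne_zero))
    intro y hy
    have hfy : f y ∈ maximalIdeal A := by
      rw [Art.mem_maximalIdeal_iff, Art.res_app]
      exact (Art.mem_maximalIdeal_iff _ _).1 hy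
    rw [← map_maximalIdeal_eq_of_surjective (ū ≫ f) hsf] at hfy
    obtain ⟨q, hq, hqy⟩ := (Ideal.mem_map_iff_of_surjective (ū ≫ f).toAlgHom hsf).1 hfy
    have h0 : f (y - ū q) = 0 := by
      have : f (y - ū q) = f y - f (ū q) := map_sub f.toAlgHom y (ū q)
      rw [this, sub_eq_zero]
      exact hqy.symm
    have h1 := hker _ h0
    have h2 : y = ū q + (y - ū q) := by ring
    rw [h2]
    exact Ideal.add_mem _ (Ideal.mem_sup_left (Ideal.mem_map_of_mem ū.toAlgHom hq)) (Ideal.mem_sup_right h1)
  intro a
  obtain ⟨t, ht⟩ := hū_surj a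
  obtain ⟨p, rfl⟩ := Ideal.Quotient.mk_surjective t
  exact ⟨p, (hφ p).trans ht⟩

/-- a bounded monotone sequence of natural numbers is eventually constant -/
theorem exists_stable (e : ℕ → ℕ) (hmono : Monotone e) (d : ℕ) (hd : ∀ n, e n ≤ d) :
    ∃ n₀, ∀ n, n₀ ≤ n → e n = e n₀ := by
  induction d with
  | zero =>
    exact ⟨0, fun n _ => by rw [Nat.le_zero.1 (hd n), Nat.le_zero.1 (hd 0)]⟩
  | succ d ih =>
    by_cases h : ∃ n, e n = d + 1
    · obtain ⟨n₀, hn₀⟩ := h
      exact ⟨n₀, fun n hn => le_antisymm (by rw [hn₀]; exact hd n) (hmono hn)⟩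
    · push Not at h
      exact ih (fun n => Nat.le_of_lt_succ (lt_of_le_of_ne (hd n) (h n)))

end Lift

end Groth.Agent.Helper8.Schl
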