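import Mathlib
import Groth.Agent.Helper8.Schl18
set_option autoImplicit false
universe u v

namespace Groth.Agent.Helper8.Schl
open ArtFun ArtFun.Art IsLocalRing CategoryTheory Groth.Agent.Helper6

variable {Λ : Type u} {k : Type u} [CommRing Λ] [Field k] [Algebra Λ k]

section Trans

variable (A : ℕ → Art Λ k) (f : ∀ n, A (n + 1) ⟶ A n)

/-- composite transition maps -/
noncomputable def tr (n : ℕ) {m : ℕ} (h : n ≤ m) : A m ⟶ A n :=
  Nat.leRec (motive := fun m _ => A m ⟶ A n) (𝟙 (A n)) (fun {m} _ t => f m ≫ t) h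

theorem tr_self (n : ℕ) : tr A f n (le_refl n) = 𝟙 (A n) := Nat.leRec_self _ _

theorem tr_succ (n m : ℕ) (h : n ≤ m) : tr A f n (Nat.le_succ_of_le h) = f m ≫ tr A f n h :=
  Nat.leRec_succ _ _ _

theorem tr_comp (n m : ℕ) (h : n + 1 ≤ m) : tr A f (n + 1) h ≫ f n = tr A f n (Nat.le_of_succ_le h) := by
  induction m, h using Nat.le_induction with
  | base =>
    rw [tr_self, Category.id_comp]
    have := tr_succ A f n n le_rfl
    rw [tr_self, Category.comp_id] at this
    exact this.symm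
  | succ m hm ih =>
    rw [tr_succ A f (n + 1) m hm, Category.assoc, ih, ← tr_succ]

theorem tr_surjective (hf : ∀ n, Function.Surjective (f n)) (n m : ℕ) (h : n ≤ m) :
    Function.Surjective (tr A f n h) := by
  induction m, h using Nat.le_induction with
  | base =>
    rw [tr_self]
    exact Function.surjective_id
  | succ m hm ih =>
    rw [tr_succ A f n m hm]
    exact ih.comp (hf m)

end Trans

theorem homSet_map_map {R : Type u} [CommRing R] [Algebra Λ R] {resR : R →ₐ[Λ] k} {A B C : Art Λ k}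
    (f : A ⟶ B) (g : B ⟶ C) (φ : HomSet R resR A) :
    HomSet.map g (HomSet.map f φ) = HomSet.map (f ≫ g) φ := Subtype.ext (AlgHom.ext fun _ => rfl)

theorem exists_surjective_family [IsNoetherianRing Λ] [Module.Finite Λ k]
    (A : ℕ → Art Λ k) (f : ∀ n, A (n + 1) ⟶ A n) (hf : ∀ n, Function.Surjective (f n))
    (d : ℕ) (hd : ∀ n, (maximalIdeal (A n)).spanFinrank ≤ d) :
    ∃ (P : CRing Λ k) (φ : ∀ n, HomSet P.carrier P.res (A n)),
      (∀ n, HomSet.map (f n) (φ (n + 1)) = φ n) ∧ ∀ n, Function.Surjective (φ n).1 := by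
  classical
  have hmono : Monotone (fun n => (maximalIdeal (A n)).spanFinrank) :=
    monotone_nat_of_le_succ fun n => spanFinrank_mono (f n) (hf n)
  obtain ⟨n₀, hn₀⟩ := exists_stable _ hmono d hd
  obtain ⟨P, hsm, π₀, hπ₀⟩ := exists_smooth_cover (A n₀)
  have hstep : ∀ (j : ℕ) (ψ : HomSet P.carrier P.res (A (n₀ + j))),
      ∃ ψ' : HomSet P.carrier P.res (A (n₀ + j + 1)), HomSet.map (f (n₀ + j)) ψ' = ψ :=
    fun j ψ => hsm (f (n₀ + j)) (hf _) ψ
  let Ψ : ∀ j : ℕ, HomSet P.carrier P.res (A (n₀ + j)) := fun j =>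
    Nat.rec (motive := fun j => HomSet P.carrier P.res (A (n₀ + j))) π₀
      (fun j ψ => Classical.choose (hstep j ψ)) j
  have hΨ : ∀ j, HomSet.map (f (n₀ + j)) (Ψ (j + 1)) = Ψ j := fun j =>
    Classical.choose_spec (hstep j (Ψ j))
  have hΨs : ∀ j, Function.Surjective (Ψ j).1 := by
    intro j
    induction j with
    | zero => exact hπ₀
    | succ j ih =>
      apply surjective_of_lift (f (n₀ + j))
        (ker_le_sq_of_spanFinrank_le (f (n₀ + j)) (hf _) ?_) (Ψ (j + 1))
      · rw [hΨ]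
        exact ih
      · have h1 := hn₀ (n₀ + j + 1) (by omega)
        have h2 := hn₀ (n₀ + j) (by omega)
        exact le_of_eq (h1.trans h2.symm)
  refine ⟨P, fun n => HomSet.map (tr A f n (Nat.le_add_left n n₀)) (Ψ n), ?_, ?_⟩
  · intro n
    rw [homSet_map_map, tr_comp A f n (n₀ + (n + 1)) (Nat.le_add_left (n + 1) n₀)]
    have := tr_succ A f n (n₀ + n) (Nat.le_add_left n n₀)
    rw [this, ← homSet_map_map, hΨ]
  · intro n
    exact (tr_surjective A f hf n _ _).comp (hΨs n)

end Groth.Agent.Helper8.Schl
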