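import Mathlib
import Groth.Agent.Helper8.Schl19
import Groth.Agent.Helper6.CRingNakayama
set_option autoImplicit false
universe u v

namespace Groth.Agent.Helper8.Schl
open ArtFun ArtFun.Art IsLocalRing CategoryTheory Groth.Agent.Helper6

variable {Λ : Type u} {k : Type u} [CommRing Λ] [Field k] [Algebra Λ k]

/-- a complete local ring with a compatible system of points whose kernels are cofinal with the powers of the
maximal ideal is the limit of the system -/
theorem existsUnique_of_cofinal (A : ℕ → Art Λ k) (f : ∀ n, A (n + 1) ⟶ A n)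
    (S : CRing Λ k) (π : ∀ n, HomSet S.carrier S.res (A n))
    (hπ : ∀ n, HomSet.map (f n) (π (n + 1)) = π n) (hs : ∀ n, Function.Surjective (π n).1)
    (h3 : ∀ t, ∃ N, RingHom.ker (π N).1 ≤ maximalIdeal S.carrier ^ t)
    (a : ∀ n, A n) (ha : ∀ n, f n (a (n + 1)) = a n) :
    ∃! s : S.carrier, ∀ n, (π n).1 s = a n := by
  classical
  have hπ' : ∀ n (s : S.carrier), f n ((π (n + 1)).1 s) = (π n).1 s := fun n s =>
    congrArg (fun t => t.1 s) (hπ n)
  have hanti : Antitone (fun n => RingHom.ker (π n).1) := by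
    apply antitone_nat_of_succ_le
    intro n s hs'
    rw [RingHom.mem_ker] at hs' ⊢
    rw [← hπ', hs']
    exact map_zero (f n).toAlgHom
  choose s hs' using fun n => hs n (a n)
  have hdiff : ∀ n m, n ≤ m → s m - s n ∈ RingHom.ker (π n).1 := by
    intro n m h
    induction m, h using Nat.le_induction with
    | base => rw [sub_self]; exact Ideal.zero_mem _
    | succ m hm ih =>
      have h1 : s (m + 1) - s m ∈ RingHom.ker (π m).1 := by
        rw [RingHom.mem_ker, map_sub, sub_eq_zero, ← hπ', hs', ha, hs']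
      have h2 : s (m + 1) - s n = (s (m + 1) - s m) + (s m - s n) := by ring
      rw [h2]
      exact Ideal.add_mem _ (hanti hm h1) ih
  choose N hN using h3
  let σ : ℕ → ℕ := fun t => t + ∑ i ∈ Finset.range (t + 1), N i
  have hσmono : Monotone σ := by
    intro t t' h
    apply Nat.add_le_add h
    apply Finset.sum_le_sum_of_subset
    intro i hi
    rw [Finset.mem_range] at hi ⊢
    omega
  have hσN : ∀ t, N t ≤ σ t := fun t =>
    (Finset.single_le_sum (f := N) (fun i _ => Nat.zero_le _) (Finset.mem_range.2 (Nat.lt_succ_self t))).trans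
      (Nat.le_add_left _ _)
  have hσt : ∀ t, t ≤ σ t := fun t => Nat.le_add_right _ _
  have hS := S.isAdicComplete
  have hcauchy : ∀ {m n : ℕ}, m ≤ n →
      s (σ m) ≡ s (σ n) [SMOD (maximalIdeal S.carrier ^ m • ⊤ : Submodule S.carrier S.carrier)] := by
    intro m n h
    rw [SModEq.comm, SModEq.sub_mem, smul_eq_mul, Ideal.mul_top]
    exact hN m (hanti (hσN m) (hdiff _ _ (hσmono h)))
  obtain ⟨L, hL⟩ := hS.toIsPrecomplete.prec' (fun t => s (σ t)) hcauchy
  have hL' : ∀ t, s (σ t) - L ∈ maximalIdeal S.carrier ^ t := by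
    intro t
    have := hL t
    rwa [SModEq.sub_mem, smul_eq_mul, Ideal.mul_top] at this
  have hLa : ∀ n, (π n).1 L = a n := by
    intro n
    obtain ⟨T, hT⟩ := exists_pow_le_ker S (π n)
    have h1 : s (σ (max T n)) - L ∈ RingHom.ker (π n).1 :=
      hT (Ideal.pow_le_pow_right (le_max_left T n) (hL' _))
    have h2 : s (σ (max T n)) - s n ∈ RingHom.ker (π n).1 :=
      hdiff _ _ ((le_max_right T n).trans (hσt _))
    rw [RingHom.mem_ker, map_sub, sub_eq_zero] at h1 h2
    rw [← h1, h2, hs']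
  refine ⟨L, hLa, ?_⟩
  intro L' hL'
  apply CRing.eq_of_forall_mk_eq S
  intro n
  rw [Ideal.Quotient.eq]
  apply hN (n + 1)
  rw [RingHom.mem_ker, map_sub, sub_eq_zero, hL', hLa]

theorem limit_of_family (A : ℕ → Art Λ k) (f : ∀ n, A (n + 1) ⟶ A n)
    (P : CRing Λ k) (φ : ∀ n, HomSet P.carrier P.res (A n))
    (hφ : ∀ n, HomSet.map (f n) (φ (n + 1)) = φ n) (hs : ∀ n, Function.Surjective (φ n).1) :
    ∃ (S : CRing Λ k) (π : ∀ n, HomSet S.carrier S.res (A n)),
      (∀ n, HomSet.map (f n) (π (n + 1)) = π n) ∧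
      (∀ n, Function.Surjective (π n).1) ∧
      (∀ a : ∀ n, A n, (∀ n, f n (a (n + 1)) = a n) → ∃! s : S.carrier, ∀ n, (π n).1 s = a n) ∧
      (∀ n, ∃ N, RingHom.ker (π N).1 ≤ maximalIdeal S.carrier ^ n) ∧
      (∀ n, ∃ N, maximalIdeal S.carrier ^ N ≤ RingHom.ker (π n).1) := by
  have hφ' : ∀ n (p : P.carrier), f n ((φ (n + 1)).1 p) = (φ n).1 p := fun n p =>
    congrArg (fun t => t.1 p) (hφ n)
  have hanti : Antitone (fun n => RingHom.ker (φ n).1) := by
    apply antitone_nat_of_succ_le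
    intro n p hp
    rw [RingHom.mem_ker] at hp ⊢
    rw [← hφ', hp]
    exact map_zero (f n).toAlgHom
  set K : Ideal P.carrier := ⨅ n, RingHom.ker (φ n).1 with hKdef
  have hK : K ≤ maximalIdeal P.carrier := (iInf_le _ 0).trans (ker_le_maximalIdeal_of_point P (φ 0))
  have hKn : ∀ n, K ≤ RingHom.ker (φ n).1 := fun n => iInf_le _ n
  let S : CRing Λ k := quotCRing P K hK
  let π : ∀ n, HomSet S.carrier S.res (A n) := fun n => toQuot (φ n) (hKn n)
  have hπq : ∀ n (p : P.carrier), (π n).1 (qmk P K hK p) = (φ n).1 p := fun n p => rfl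
  have hcompat : ∀ n, HomSet.map (f n) (π (n + 1)) = π n := by
    intro n
    apply Subtype.ext
    apply AlgHom.ext
    intro x
    obtain ⟨p, rfl⟩ := qmk_surjective P K hK x
    change f n ((π (n + 1)).1 (qmk P K hK p)) = (π n).1 (qmk P K hK p)
    rw [hπq, hπq, hφ']
  have hsurj : ∀ n, Function.Surjective (π n).1 := by
    intro n a
    obtain ⟨p, hp⟩ := hs n a
    exact ⟨qmk P K hK p, hp⟩
  have hqres : S.res.comp (qmk P K hK) = P.res := AlgHom.ext fun p => rfl
  have h3 : ∀ t, ∃ N, RingHom.ker (π N).1 ≤ maximalIdeal S.carrier ^ t := by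
    intro t
    have := P.isAdicComplete
    obtain ⟨N, hN⟩ := chevalley_ideal (fun n => RingHom.ker (φ n).1) hanti t
    refine ⟨N, ?_⟩
    intro x hx
    obtain ⟨p, rfl⟩ := qmk_surjective P K hK x
    rw [RingHom.mem_ker, hπq] at hx
    obtain ⟨κ, hκ, μ, hμ, rfl⟩ := Submodule.mem_sup.1 (hN hx)
    have h1 : qmk P K hK κ = 0 := Ideal.Quotient.eq_zero_iff_mem.2 hκ
    rw [map_add, h1, zero_add]
    have h2 : Ideal.map (qmk P K hK) (maximalIdeal P.carrier ^ t) ≤ maximalIdeal S.carrier ^ t := by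
      rw [Ideal.map_pow]
      exact Ideal.pow_right_mono (CRing.map_maximalIdeal_le (qmk P K hK) hqres) t
    exact h2 (Ideal.mem_map_of_mem _ hμ)
  refine ⟨S, π, hcompat, hsurj, ?_, h3, fun n => exists_pow_le_ker S (π n)⟩
  intro a ha
  exact existsUnique_of_cofinal A f S π hcompat hsurj h3 a ha

theorem s12739 [IsNoetherianRing Λ] [Module.Finite Λ k]
    (A : ℕ → Art Λ k) (f : ∀ n, A (n + 1) ⟶ A n) (hf : ∀ n, Function.Surjective (f n))
    (d : ℕ) (hd : ∀ n, Module.finrank (IsLocalRing.ResidueField (A n)) (IsLocalRing.CotangentSpace (A n)) ≤ d) :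
    ∃ (S : CRing Λ k) (π : ∀ n, HomSet S.carrier S.res (A n)),
      (∀ n, HomSet.map (f n) (π (n + 1)) = π n) ∧
      (∀ n, Function.Surjective (π n).1) ∧
      (∀ a : ∀ n, A n, (∀ n, f n (a (n + 1)) = a n) → ∃! s : S.carrier, ∀ n, (π n).1 s = a n) ∧
      (∀ n, ∃ N, RingHom.ker (π N).1 ≤ maximalIdeal S.carrier ^ n) ∧
      (∀ n, ∃ N, maximalIdeal S.carrier ^ N ≤ RingHom.ker (π n).1) := by
  have hd' : ∀ n, (maximalIdeal (A n)).spanFinrank ≤ d := fun n => by
    rw [spanFinrank_maximalIdeal_eq_finrank_cotangentSpace]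
    exact hd n
  obtain ⟨P, φ, hφ, hs⟩ := exists_surjective_family A f hf d hd'
  exact limit_of_family A f P φ hφ hs

end Groth.Agent.Helper8.Schl
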