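import Mathlib
import Groth.Agent.Helper8.Schl20
import Groth.Agent.Helper7.CohenT3
import Groth.Agent.Helper2.AdicCompleteLe
import Groth.Agent.Helper5.MvPSIdeal
import Groth.Agent.Helper7.CohenR
set_option autoImplicit false
universe u v

namespace Groth.Agent.Helper8.Schl
open ArtFun ArtFun.Art IsLocalRing CategoryTheory Groth.Agent.Helper6

section PSRing

open MvPowerSeries

variable {A : Type u} [CommRing A] [IsLocalRing A] [IsNoetherianRing A] (n : ℕ)

omit [IsNoetherianRing A] in
theorem ps_mem_maximalIdeal_iff (f : MvPowerSeries (Fin n) A) :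
    f ∈ maximalIdeal (MvPowerSeries (Fin n) A) ↔ constantCoeff f ∈ maximalIdeal A := by
  rw [mem_maximalIdeal, mem_nonunits_iff, MvPowerSeries.isUnit_iff_constantCoeff, mem_maximalIdeal,
    mem_nonunits_iff]

omit [IsNoetherianRing A] in
theorem ps_maximalIdeal :
    maximalIdeal (MvPowerSeries (Fin n) A) =
      Ideal.map (C (σ := Fin n) (R := A)) (maximalIdeal A) ⊔
        Ideal.span (Set.range (X : Fin n → MvPowerSeries (Fin n) A)) := by
  apply le_antisymm
  · intro f hf
    rw [ps_mem_maximalIdeal_iff] at hf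
    have h2 : f - C (constantCoeff f) ∈ Ideal.span (Set.range (X : Fin n → MvPowerSeries (Fin n) A)) := by
      apply Groth.Agent.Helper5.MvPSIdeal.mem_span_X
      simp
    have h3 : f = C (constantCoeff f) + (f - C (constantCoeff f)) := by ring
    rw [h3]
    exact Ideal.add_mem _ (Ideal.mem_sup_left (Ideal.mem_map_of_mem _ hf)) (Ideal.mem_sup_right h2)
  · apply sup_le
    · rw [Ideal.map_le_iff_le_comap]
      intro a ha
      rw [Ideal.mem_comap, ps_mem_maximalIdeal_iff, constantCoeff_C]
      exact ha
    · rw [Ideal.span_le]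
      rintro _ ⟨i, rfl⟩
      rw [SetLike.mem_coe, ps_mem_maximalIdeal_iff, constantCoeff_X]
      exact Ideal.zero_mem _

omit [IsNoetherianRing A] in
theorem ps_isPrecomplete_span_image [IsAdicComplete (maximalIdeal A) A] (s : Finset A)
    (hs : ∀ a ∈ s, a ∈ maximalIdeal A) :
    IsPrecomplete (Ideal.span ((C (σ := Fin n) (R := A)) '' (s : Set A))) (MvPowerSeries (Fin n) A) := by
  classical
  induction s using Finset.induction_on with
  | empty =>
    rw [Finset.coe_empty, Set.image_empty, Ideal.span_empty]
    infer_instance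
  | insert a s _ ih =>
    rw [Finset.coe_insert, Set.image_insert_eq, Ideal.span_insert]
    haveI := ih (fun b hb => hs b (Finset.mem_insert_of_mem hb))
    haveI : IsPrecomplete (Ideal.span {a}) A :=
      Groth.Agent.Helper2.AdicCompleteLe.isPrecomplete_of_le (Ideal.span {a}) (maximalIdeal A)
        ((Ideal.span_singleton_le_iff_mem _).2 (hs a (Finset.mem_insert_self a s)))
        ⟨{a}, by rw [Finset.coe_singleton]⟩ A
    haveI := Groth.Agent.Helper7.Cohen.isPrecomplete_span_C (σ := Fin n) a
    exact Groth.Agent.Helper7.Cohen.isPrecomplete_sup _ _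

theorem ps_isAdicComplete [IsAdicComplete (maximalIdeal A) A] :
    IsAdicComplete (maximalIdeal (MvPowerSeries (Fin n) A)) (MvPowerSeries (Fin n) A) := by
  classical
  obtain ⟨s, hs⟩ := (IsNoetherian.noetherian (maximalIdeal A) : (maximalIdeal A).FG)
  have hs' : ∀ a ∈ s, a ∈ maximalIdeal A := fun a ha => hs ▸ Ideal.subset_span ha
  haveI := ps_isPrecomplete_span_image n s hs'
  have hm : maximalIdeal (MvPowerSeries (Fin n) A) =
      Ideal.span ((C (σ := Fin n) (R := A)) '' (s : Set A)) ⊔
        Ideal.span (Set.range (X : Fin n → MvPowerSeries (Fin n) A)) := by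
    have hs2 : Ideal.span (s : Set A) = maximalIdeal A := hs
    rw [ps_maximalIdeal, ← Ideal.map_span, hs2]
  haveI : IsPrecomplete (maximalIdeal (MvPowerSeries (Fin n) A)) (MvPowerSeries (Fin n) A) := by
    rw [hm]
    exact Groth.Agent.Helper7.Cohen.isPrecomplete_sup _ _
  exact { }

end PSRing

section PSCRing

open MvPowerSeries

variable {Λ : Type u} {k : Type u} [CommRing Λ] [Field k] [Algebra Λ k]
variable (R : CRing Λ k) (n : ℕ)

/-- the constant coefficient as a `Λ`-algebra map -/
noncomputable def psConst : MvPowerSeries (Fin n) R.carrier →ₐ[Λ] R.carrier :=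
  { (constantCoeff : MvPowerSeries (Fin n) R.carrier →+* R.carrier) with
    commutes' := fun a => by
      change constantCoeff (algebraMap Λ (MvPowerSeries (Fin n) R.carrier) a) = _
      rw [MvPowerSeries.algebraMap_apply, constantCoeff_C] }

/-- the power series ring over a coefficient ring -/
@[reducible] noncomputable def psCRing : CRing Λ k :=
  haveI := R.isAdicComplete
  { carrier := MvPowerSeries (Fin n) R.carrier
    res := R.res.comp (psConst R n)
    res_surjective := fun c => by
      obtain ⟨r, hr⟩ := R.res_surjective c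
      refine ⟨C r, ?_⟩
      change R.res (constantCoeff (C r)) = c
      rw [constantCoeff_C, hr]
    isAdicComplete := ps_isAdicComplete n }

theorem psCRing_res (f : MvPowerSeries (Fin n) R.carrier) :
    (psCRing R n).res f = R.res (constantCoeff f) := rfl

/-- the constants -/
noncomputable def psC : CHom R (psCRing R n) :=
  ⟨(Algebra.ofId R.carrier (MvPowerSeries (Fin n) R.carrier)).restrictScalars Λ, by
    apply AlgHom.ext
    intro r
    change R.res (constantCoeff (algebraMap R.carrier (MvPowerSeries (Fin n) R.carrier) r)) = R.res r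
    rw [MvPowerSeries.algebraMap_apply, constantCoeff_C]
    rfl⟩

theorem psC_apply (r : R.carrier) : (psC R n).1 r = C r := by
  change algebraMap R.carrier (MvPowerSeries (Fin n) R.carrier) r = C r
  rw [MvPowerSeries.algebraMap_apply]
  rfl

/-- evaluation: algebra maps out of a power series ring into an adically complete ring -/
theorem ps_exists_algHom {B : Type u} [CommRing B] [Algebra Λ B] (I : Ideal B) [IsAdicComplete I B]
    (y : R.carrier →ₐ[Λ] B) (b : Fin n → B) (hb : ∀ i, b i ∈ I) :
    ∃ ψ : MvPowerSeries (Fin n) R.carrier →ₐ[Λ] B, (∀ r, ψ (C r) = y r) ∧ ∀ i, ψ (X i) = b i := by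
  letI : Algebra R.carrier B := y.toRingHom.toAlgebra
  haveI : IsScalarTower Λ R.carrier B := IsScalarTower.of_algebraMap_eq fun a => (y.commutes a).symm
  obtain ⟨ψ, hψ⟩ := Groth.Agent.Helper7.PSEval.exists_algHom_X (k := R.carrier) I b hb
  refine ⟨ψ.restrictScalars Λ, fun r => ?_, hψ⟩
  have : ψ (algebraMap R.carrier (MvPowerSeries (Fin n) R.carrier) r) = algebraMap R.carrier B r :=
    ψ.commutes r
  rw [MvPowerSeries.algebraMap_apply] at this
  exact this

theorem ps_algHom_ext {B : Type u} [CommRing B] [Algebra Λ B] (I : Ideal B) (hI : ⨅ m, I ^ m = ⊥)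
    (ψ ψ' : MvPowerSeries (Fin n) R.carrier →ₐ[Λ] B) (hC : ∀ r, ψ (C r) = ψ' (C r))
    (hX : ∀ i, ψ (X i) = ψ' (X i)) (hI' : ∀ i, ψ (X i) ∈ I) : ψ = ψ' := by
  have := Groth.Agent.Helper7.Cohen.ringHom_ext_mvPowerSeries I hI ψ.toRingHom ψ'.toRingHom hC hX hI'
  exact AlgHom.ext fun f => congrArg (fun t : MvPowerSeries (Fin n) R.carrier →+* B => t f) this

end PSCRing

end Groth.Agent.Helper8.Schl
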