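import Mathlib
import Groth.Prelude.Def_EGA41
import Groth.Agent.Helper1.FieldSmooth8
set_option autoImplicit false

universe u

namespace Groth.Agent.Helper8.SepImp

open TensorProduct Groth.Agent.Helper1.FieldSmooth

variable {k K : Type u} [Field k] [Field K] [Algebra k K]

/-- separable iff `K ⊗ Ω_{k/ℤ} → Ω_{K/ℤ}` injective. -/
theorem geomReduced_iff_injective :
    Algebra.IsGeometricallyReduced k K ↔
      Function.Injective (KaehlerDifferential.mapBaseChange ℤ k K) := by
  obtain ⟨p, hp⟩ := CharP.exists k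
  rcases CharP.char_is_prime_or_zero k p with hpp | hp0
  · haveI : Fact p.Prime := ⟨hpp⟩
    letI : Algebra (PF.{u} p) k := (pfHom p k).toAlgebra
    letI : Algebra (PF.{u} p) K := ((algebraMap k K).comp (pfHom p k)).toAlgebra
    haveI : IsScalarTower (PF.{u} p) k K := IsScalarTower.of_algebraMap_eq fun _ => rfl
    have h := formallySmooth_iff_of_perfect p (k := k) (K := K) (F := PF.{u} p) (pf_perfect p)
    have hsurj : Function.Surjective (algebraMap ℤ (PF.{u} p)) := by
      intro a
      obtain ⟨n, hn⟩ := ZMod.intCast_surjective a.down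
      refine ⟨n, ?_⟩
      apply ULift.ext
      rw [← hn]
      simp
    rw [injective_mapBaseChange_iff ℤ (PF.{u} p) k K hsurj, ← h.2, h.1]
  · subst hp0
    haveI : CharZero k := CharP.charP_to_charZero k
    haveI : CharZero K := charZero_of_injective_algebraMap (algebraMap k K).injective
    constructor
    · intro _
      haveI : Algebra.FormallySmooth k K := formallySmooth_of_charZero
      haveI : Subsingleton (Algebra.H1Cotangent k K) :=
        Algebra.FormallySmooth.subsingleton_h1Cotangent
      have e2 := Algebra.H1Cotangent.exact_δ_mapBaseChange ℤ k K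
      rw [injective_iff_map_eq_zero]
      intro x hx
      obtain ⟨w, hw⟩ := (e2 x).1 hx
      have : w = 0 := Subsingleton.elim _ _
      rw [this, map_zero] at hw
      exact hw.symm
    · intro _
      exact isGeometricallyReduced_of_perfectField

/-- the derivation attached to a `K`-linear functional on `K ⊗ Ω_{k/ℤ}`. -/
noncomputable def derOf (ℓ : K ⊗[k] Ω[k⁄ℤ] →ₗ[K] K) : Derivation ℤ k K :=
  ((ℓ.restrictScalars k) ∘ₗ (TensorProduct.mk k K (Ω[k⁄ℤ]) 1)).compDer (KaehlerDifferential.D ℤ k)

theorem derOf_apply (ℓ : K ⊗[k] Ω[k⁄ℤ] →ₗ[K] K) (a : k) :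
    derOf ℓ a = ℓ ((1 : K) ⊗ₜ[k] KaehlerDifferential.D ℤ k a) := rfl

/-- the functional attached to a derivation. -/
noncomputable def funOf (D : Derivation ℤ k K) : K ⊗[k] Ω[k⁄ℤ] →ₗ[K] K :=
  LinearMap.liftBaseChange K D.liftKaehlerDifferential

theorem funOf_tmul (D : Derivation ℤ k K) (c : K) (a : k) :
    funOf D (c ⊗ₜ[k] KaehlerDifferential.D ℤ k a) = c * D a := by
  unfold funOf
  rw [LinearMap.liftBaseChange_tmul, Derivation.liftKaehlerDifferential_comp_D, smul_eq_mul]

/-- a `K`-linear map out of `K ⊗ Ω_{k/ℤ}` is determined by its values on `1 ⊗ da`. -/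
theorem ext_tensor {V : Type*} [AddCommGroup V] [Module K V]
    (f g : K ⊗[k] Ω[k⁄ℤ] →ₗ[K] V)
    (h : ∀ a : k, f ((1 : K) ⊗ₜ[k] KaehlerDifferential.D ℤ k a) =
      g ((1 : K) ⊗ₜ[k] KaehlerDifferential.D ℤ k a)) : f = g := by
  have key : ∀ ω : Ω[k⁄ℤ], f ((1 : K) ⊗ₜ[k] ω) = g ((1 : K) ⊗ₜ[k] ω) := by
    intro ω
    have hω : ω ∈ Submodule.span k (Set.range (KaehlerDifferential.D ℤ k)) := by
      rw [KaehlerDifferential.span_range_derivation]; trivial
    induction hω using Submodule.span_induction with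
    | mem y hy =>
      obtain ⟨a, rfl⟩ := hy
      exact h a
    | zero => rw [TensorProduct.tmul_zero, map_zero, map_zero]
    | add x y _ _ hx hy => rw [TensorProduct.tmul_add, map_add, map_add, hx, hy]
    | smul a x _ hx =>
      rw [TensorProduct.tmul_smul, ← algebraMap_smul K a ((1 : K) ⊗ₜ[k] x), map_smul, map_smul, hx]
  apply LinearMap.ext
  intro z
  induction z using TensorProduct.induction_on with
  | zero => rw [map_zero, map_zero]
  | add x y hx hy => rw [map_add, map_add, hx, hy]
  | tmul c ω =>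
    have hc : c ⊗ₜ[k] ω = c • ((1 : K) ⊗ₜ[k] ω) := by
      rw [TensorProduct.smul_tmul', smul_eq_mul, mul_one]
    rw [hc, map_smul, map_smul, key]

theorem injective_iff_extends :
    Function.Injective (KaehlerDifferential.mapBaseChange ℤ k K) ↔
      ∀ D : Derivation ℤ k K, ∃ D' : Derivation ℤ K K, ∀ a : k, D' (algebraMap k K a) = D a := by
  constructor
  · intro hinj D
    obtain ⟨r, hr⟩ := LinearMap.exists_leftInverse_of_injective
      (KaehlerDifferential.mapBaseChange ℤ k K) (LinearMap.ker_eq_bot.mpr hinj)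
    refine ⟨((funOf D) ∘ₗ r).compDer (KaehlerDifferential.D ℤ K), ?_⟩
    intro a
    show funOf D (r (KaehlerDifferential.D ℤ K (algebraMap k K a))) = D a
    have h1 : KaehlerDifferential.D ℤ K (algebraMap k K a) =
        KaehlerDifferential.mapBaseChange ℤ k K ((1 : K) ⊗ₜ[k] KaehlerDifferential.D ℤ k a) := by
      rw [KaehlerDifferential.mapBaseChange_tmul, one_smul, KaehlerDifferential.map_D]
    have h2 := LinearMap.congr_fun hr ((1 : K) ⊗ₜ[k] KaehlerDifferential.D ℤ k a)
    simp only [LinearMap.comp_apply, LinearMap.id_apply] at h2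
    rw [h1, h2, funOf_tmul, one_mul]
  · intro hext
    rw [injective_iff_map_eq_zero]
    intro z hz
    by_contra hne
    obtain ⟨ℓ, hℓ⟩ : ∃ ℓ : Module.Dual K (K ⊗[k] Ω[k⁄ℤ]), ℓ z ≠ 0 := by
      by_contra hcon
      push Not at hcon
      exact hne ((Module.forall_dual_apply_eq_zero_iff K z).mp hcon)
    obtain ⟨D', hD'⟩ := hext (derOf ℓ)
    have hcomp : D'.liftKaehlerDifferential ∘ₗ (KaehlerDifferential.mapBaseChange ℤ k K) = ℓ := by
      apply ext_tensor
      intro a
      rw [LinearMap.comp_apply, KaehlerDifferential.mapBaseChange_tmul, one_smul,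
        KaehlerDifferential.map_D, Derivation.liftKaehlerDifferential_comp_D, hD', derOf_apply]
    apply hℓ
    rw [← hcomp, LinearMap.comp_apply, hz, map_zero]

theorem s4523 :
    (Algebra.IsGeometricallyReduced k K ↔ EGA41.imperfection ℤ k K = ⊥) ∧
    (Algebra.IsGeometricallyReduced k K ↔
      ∀ D : Derivation ℤ k K, ∃ D' : Derivation ℤ K K, ∀ a : k, D' (algebraMap k K a) = D a) := by
  refine ⟨?_, ?_⟩
  · rw [geomReduced_iff_injective]
    unfold EGA41.imperfection
    exact LinearMap.ker_eq_bot.symm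
  · rw [geomReduced_iff_injective, injective_iff_extends]

end Groth.Agent.Helper8.SepImp
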