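import Mathlib
set_option autoImplicit false
open TensorProduct

namespace Groth.Agent.Helper8.PSGeomRed

universe u

section
variable (k : Type u) [Field k] (L : Type u) [Field L] [Algebra k L] (σ : Type)

/-- The comparison map `L ⊗[k] k⟦σ⟧ → L⟦σ⟧`. -/
noncomputable def Φ : L ⊗[k] MvPowerSeries σ k →ₐ[k] MvPowerSeries σ L :=
  Algebra.TensorProduct.productMap
    ((Algebra.ofId L (MvPowerSeries σ L)).restrictScalars k)
    (MvPowerSeries.mapAlgHom (Algebra.ofId k L))

lemma Φ_tmul (a : L) (p : MvPowerSeries σ k) :
    Φ k L σ (a ⊗ₜ p) = MvPowerSeries.C a * MvPowerSeries.map (algebraMap k L) p := by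
  simp only [Φ, Algebra.TensorProduct.productMap_apply_tmul, AlgHom.coe_restrictScalars',
    Algebra.ofId_apply, MvPowerSeries.algebraMap_apply, Algebra.algebraMap_self, RingHom.id_apply]
  rfl

lemma Φ_injective : Function.Injective (Φ k L σ) := by
  rw [injective_iff_map_eq_zero]
  intro x hx
  let e := Module.Free.chooseBasis k L
  obtain ⟨c, rfl⟩ := TensorProduct.eq_repr_basis_left e x
  have hc : c = 0 := by
    ext i m
    rw [Finsupp.sum, map_sum] at hx
    have h1 := congrArg (MvPowerSeries.coeff m) hx
    rw [map_sum, map_zero] at h1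
    have h2 : ∑ j ∈ c.support, (MvPowerSeries.coeff m (c j)) • e j = 0 := by
      rw [← h1]
      refine Finset.sum_congr rfl fun j _ => ?_
      rw [Φ_tmul, MvPowerSeries.coeff_C_mul, MvPowerSeries.coeff_map, Algebra.smul_def, mul_comm]
    by_cases hi : i ∈ c.support
    · have := linearIndependent_iff'.1 e.linearIndependent c.support
        (fun j => MvPowerSeries.coeff m (c j)) h2 i hi
      simpa using this
    · rw [Finsupp.notMem_support_iff] at hi
      rw [hi]; rfl
  rw [hc]; simp

end

lemma red_frac (k L P : Type u) [Field k] [Field L] [Algebra k L] [CommRing P] [IsDomain P]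
    [Algebra k P] (F : Type u) [Field F] [Algebra P F] [Algebra k F] [IsScalarTower k P F]
    [IsFractionRing P F] [IsReduced (L ⊗[k] P)] : IsReduced (L ⊗[k] F) := by
  let _ : Algebra (L ⊗[k] P) (L ⊗[k] F) :=
    (Algebra.TensorProduct.map (AlgHom.id L L) (IsScalarTower.toAlgHom k P F)).toRingHom.toAlgebra
  have : IsScalarTower L (L ⊗[k] P) (L ⊗[k] F) :=
    IsScalarTower.of_algebraMap_eq' (by
      ext x
      simp [RingHom.algebraMap_toAlgebra])
  have := IsLocalization.tensorProduct_tensorProduct_right k L (nonZeroDivisors P) F (by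
      ext x
      simp [RingHom.algebraMap_toAlgebra])
  exact isReduced_localizationPreserves
    ((nonZeroDivisors P).map (Algebra.TensorProduct.includeRight (R := k) (A := L)))
    (L ⊗[k] F) (inferInstance : IsReduced (L ⊗[k] P))

theorem s4551 (k : Type u) [Field k] (r : ℕ) :
    Algebra.IsGeometricallyReduced k (FractionRing (MvPowerSeries (Fin r) k)) := by
  rw [Algebra.isGeometricallyReduced_field_iff]
  have : IsReduced (AlgebraicClosure k ⊗[k] MvPowerSeries (Fin r) k) :=
    isReduced_of_injective (Φ k (AlgebraicClosure k) (Fin r)) (Φ_injective k _ _)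
  have : IsDomain (MvPowerSeries (Fin r) k) := NoZeroDivisors.to_isDomain _
  exact red_frac k (AlgebraicClosure k) (MvPowerSeries (Fin r) k) _

end Groth.Agent.Helper8.PSGeomRed
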