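import Mathlib
set_option autoImplicit false

namespace Groth.Agent.Helper8.AltDet

open Matrix

/-- In characteristic two, a symmetric matrix of odd size with zero diagonal has determinant zero. -/
theorem det_eq_zero_of_isSymm_of_diag_zero_of_odd {K : Type*} [CommRing K] [CharP K 2] {n : ℕ}
    (hn : Odd n) (M : Matrix (Fin n) (Fin n) K) (hs : M.IsSymm) (hd : ∀ i, M i i = 0) :
    M.det = 0 := by
  rw [Matrix.det_apply']
  refine Finset.sum_ninvolution (fun σ : Equiv.Perm (Fin n) => σ⁻¹) ?_ ?_ (fun _ => Finset.mem_univ _)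
    (fun σ => inv_inv σ)
  · intro σ
    have h1 : ∏ i, M (σ⁻¹ i) i = ∏ i, M (σ i) i := by
      rw [← Equiv.prod_comp σ (fun i => M (σ⁻¹ i) i)]
      refine Finset.prod_congr rfl fun i _ => ?_
      rw [← Equiv.Perm.mul_apply, inv_mul_cancel, Equiv.Perm.one_apply]
      exact hs.apply _ _
    rw [Equiv.Perm.sign_inv, h1]
    exact CharTwo.add_self_eq_zero _
  · intro σ hne hσ
    apply hne
    have hsq : σ ^ 2 = 1 := by
      rw [pow_two]
      nth_rw 1 [← hσ]
      exact inv_mul_cancel σ
    have h2 := Equiv.Perm.two_dvd_card_support hsq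
    have hex : ∃ i, i ∉ σ.support := by
      by_contra hall
      push Not at hall
      have : σ.support = Finset.univ := Finset.eq_univ_iff_forall.mpr hall
      rw [this, Finset.card_univ, Fintype.card_fin] at h2
      exact (Nat.not_even_iff_odd.mpr hn) (even_iff_two_dvd.mpr h2)
    obtain ⟨i, hi⟩ := hex
    rw [Equiv.Perm.notMem_support] at hi
    have : ∏ j, M (σ j) j = 0 := Finset.prod_eq_zero (Finset.mem_univ i) (by rw [hi]; exact hd i)
    rw [this, mul_zero]

/-- For odd `n`, the determinant of the universal polar matrix is divisible by `2`. -/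
theorem two_dvd_det_univ (n : ℕ) (hn : Odd n) :
    (2 : MvPolynomial (Sym2 (Fin n)) ℤ) ∣
      (Matrix.of fun i j : Fin n =>
        if i = j then 2 * MvPolynomial.X (R := ℤ) (σ := Sym2 (Fin n)) (Sym2.mk i j)
        else MvPolynomial.X (R := ℤ) (σ := Sym2 (Fin n)) (Sym2.mk i j)).det := by
  set M := (Matrix.of fun i j : Fin n =>
        if i = j then 2 * MvPolynomial.X (R := ℤ) (σ := Sym2 (Fin n)) (Sym2.mk i j)
        else MvPolynomial.X (R := ℤ) (σ := Sym2 (Fin n)) (Sym2.mk i j)) with hM
  let φ : MvPolynomial (Sym2 (Fin n)) ℤ →+* MvPolynomial (Sym2 (Fin n)) (ZMod 2) :=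
    MvPolynomial.map (Int.castRingHom (ZMod 2))
  have hker : M.det ∈ RingHom.ker φ := by
    rw [RingHom.mem_ker, RingHom.map_det]
    apply det_eq_zero_of_isSymm_of_diag_zero_of_odd hn
    · ext i j
      simp only [RingHom.mapMatrix_apply, Matrix.transpose_apply, Matrix.map_apply, hM, Matrix.of_apply]
      by_cases h : i = j
      · subst h; rfl
      · rw [if_neg h, if_neg (Ne.symm h), Sym2.eq_swap]
    · intro i
      simp only [RingHom.mapMatrix_apply, Matrix.map_apply, hM, Matrix.of_apply, if_true, map_mul]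
      have : φ 2 = 0 := by
        rw [map_ofNat]; exact CharTwo.two_eq_zero
      rw [this, zero_mul]
  rw [MvPolynomial.ker_map, ZMod.ker_intCastRingHom, Ideal.map_span, Set.image_singleton,
    Ideal.mem_span_singleton] at hker
  simpa using hker

end Groth.Agent.Helper8.AltDet
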