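import Mathlib
import Groth.Prelude.Def_QuadGrp
import Groth.Agent.Helper8.AltDet
set_option autoImplicit false

namespace Groth.Agent.Helper8.HalfDisc

open QuadGrp Matrix

variable {n : ℕ}

lemma discUniv_eq_two_mul (hn : Odd n) : discUniv n = 2 * halfDiscUniv n := by
  obtain ⟨q, hq⟩ := Groth.Agent.Helper8.AltDet.two_dvd_det_univ n hn
  have hd : discUniv n = 2 * q := hq
  have : halfDiscUniv n = q := by
    ext s
    rw [coeff_halfDiscUniv, hd]
    have h2 : MvPolynomial.coeff s (2 * q) = 2 * MvPolynomial.coeff s q := by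
      rw [show (2 : MvPolynomial (Sym2 (Fin n)) ℤ) = MvPolynomial.C 2 from
        (map_ofNat (MvPolynomial.C (R := ℤ) (σ := Sym2 (Fin n))) 2).symm, MvPolynomial.coeff_C_mul]
    rw [h2, Int.mul_ediv_cancel_left _ two_ne_zero]
  rw [this, hd]

section General

variable {R : Type*} [CommRing R]

/-- triangular coefficient matrix -/
def beta (a : Sym2 (Fin n) → R) (k l : Fin n) : R :=
  if k = l then a s(k, l) else if k < l then a s(k, l) else 0

/-- polar matrix -/
def pol (a : Sym2 (Fin n) → R) : Matrix (Fin n) (Fin n) R :=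
  Matrix.of fun k l => if k = l then 2 * a s(k, l) else a s(k, l)

lemma pol_symm (a : Sym2 (Fin n) → R) (k l : Fin n) : pol a k l = pol a l k := by
  simp only [pol, Matrix.of_apply]
  by_cases h : k = l
  · subst h; rfl
  · rw [if_neg h, if_neg (Ne.symm h), Sym2.eq_swap]

/-- transformed coefficients -/
def Tfun (a : Sym2 (Fin n) → R) (G : Matrix (Fin n) (Fin n) R) (i j : Fin n) : R :=
  if i = j then ∑ k, ∑ l, G k i * G l i * beta a k l else ∑ k, ∑ l, G k i * G l j * pol a k l

lemma Tfun_symm (a : Sym2 (Fin n) → R) (G : Matrix (Fin n) (Fin n) R) (i j : Fin n) :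
    Tfun a G i j = Tfun a G j i := by
  unfold Tfun
  by_cases h : i = j
  · subst h; rfl
  · rw [if_neg h, if_neg (Ne.symm h), Finset.sum_comm]
    refine Finset.sum_congr rfl fun l _ => Finset.sum_congr rfl fun k _ => ?_
    rw [pol_symm a k l]; ring

def T (a : Sym2 (Fin n) → R) (G : Matrix (Fin n) (Fin n) R) : Sym2 (Fin n) → R :=
  Sym2.lift ⟨Tfun a G, Tfun_symm a G⟩

lemma T_mk (a : Sym2 (Fin n) → R) (G : Matrix (Fin n) (Fin n) R) (i j : Fin n) :
    T a G s(i, j) = Tfun a G i j := rfl

variable {R' : Type*} [CommRing R']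

lemma map_beta (ψ : R →+* R') (a : Sym2 (Fin n) → R) (k l : Fin n) :
    ψ (beta a k l) = beta (ψ ∘ a) k l := by
  unfold beta; split_ifs <;> simp

lemma map_pol (ψ : R →+* R') (a : Sym2 (Fin n) → R) (k l : Fin n) :
    ψ (pol a k l) = pol (ψ ∘ a) k l := by
  simp only [pol, Matrix.of_apply]; split_ifs <;> simp [map_mul, map_ofNat]

lemma map_T (ψ : R →+* R') (a : Sym2 (Fin n) → R) (G : Matrix (Fin n) (Fin n) R) :
    ψ ∘ T a G = T (ψ ∘ a) (G.map ψ) := by
  funext s
  induction s using Sym2.ind with
  | _ i j =>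
    simp only [Function.comp_apply, T_mk, Tfun]
    split_ifs <;> simp [map_sum, map_mul, map_beta, map_pol]

/-- the half discriminant polynomial evaluated -/
noncomputable def H (a : Sym2 (Fin n) → R) : R :=
  MvPolynomial.eval₂ (Int.castRingHom R) a (halfDiscUniv n)

/-- the discriminant polynomial evaluated -/
noncomputable def D (a : Sym2 (Fin n) → R) : R :=
  MvPolynomial.eval₂ (Int.castRingHom R) a (discUniv n)

lemma D_eq_det (a : Sym2 (Fin n) → R) : D a = (pol a).det := by
  unfold D discUniv
  have h := RingHom.map_det (MvPolynomial.eval₂Hom (Int.castRingHom R) a) (univPolarMat n)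
  rw [MvPolynomial.coe_eval₂Hom] at h
  rw [h]
  congr 1
  ext k l
  simp only [RingHom.mapMatrix_apply, Matrix.map_apply, univPolarMat, pol, Matrix.of_apply,
    MvPolynomial.coe_eval₂Hom]
  split_ifs <;> simp

lemma D_eq_two_H (hn : Odd n) (a : Sym2 (Fin n) → R) : D a = 2 * H a := by
  unfold D H
  rw [discUniv_eq_two_mul hn, MvPolynomial.eval₂_mul]
  congr 1
  have := map_ofNat (MvPolynomial.eval₂Hom (Int.castRingHom R) a) 2
  simpa using this

lemma map_H (ψ : R →+* R') (a : Sym2 (Fin n) → R) : ψ (H a) = H (ψ ∘ a) := by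
  unfold H
  rw [MvPolynomial.eval₂_comp_left]
  congr 1
  exact RingHom.ext_int _ _

lemma two_beta_sub_pol (a : Sym2 (Fin n) → R) (k l : Fin n) :
    2 * beta a k l - pol a k l = -(2 * beta a l k - pol a l k) := by
  simp only [beta, pol, Matrix.of_apply]
  rcases lt_trichotomy k l with h | h | h
  · have h1 : k ≠ l := h.ne
    have h2 : ¬ l < k := h.asymm
    rw [if_neg h1, if_pos h, if_neg h1, if_neg (Ne.symm h1), if_neg h2, if_neg (Ne.symm h1),
      Sym2.eq_swap]
    ring
  · subst h
    rw [if_pos rfl, if_pos rfl]; ring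
  · have h1 : l ≠ k := h.ne
    have h2 : ¬ k < l := h.asymm
    rw [if_neg (Ne.symm h1), if_neg h2, if_neg (Ne.symm h1), if_neg h1, if_pos h, if_neg h1,
      Sym2.eq_swap]
    ring

lemma pol_T [IsDomain R] [CharZero R] (a : Sym2 (Fin n) → R) (G : Matrix (Fin n) (Fin n) R) :
    pol (T a G) = Gᵀ * pol a * G := by
  ext i j
  rw [Matrix.mul_apply]
  simp_rw [Matrix.mul_apply, Matrix.transpose_apply, Finset.sum_mul]
  by_cases h : i = j
  · subst h
    simp only [pol, Matrix.of_apply, if_true, T_mk, Tfun]
    -- x := ΣΣ G k i * G l i * (2 β - P) = 0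
    have hx : ∑ k, ∑ l, G k i * G l i * (2 * beta a k l - pol a k l) = 0 := by
      have hneg : ∑ k, ∑ l, G k i * G l i * (2 * beta a k l - pol a k l) =
          -∑ k, ∑ l, G k i * G l i * (2 * beta a k l - pol a k l) := by
        conv_lhs => rw [Finset.sum_comm]
        rw [← Finset.sum_neg_distrib]
        refine Finset.sum_congr rfl fun k _ => ?_
        rw [← Finset.sum_neg_distrib]
        refine Finset.sum_congr rfl fun l _ => ?_
        rw [two_beta_sub_pol a l k]; ring
      have h2 : (2 : R) * ∑ k, ∑ l, G k i * G l i * (2 * beta a k l - pol a k l) = 0 := by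
        rw [two_mul]; nth_rw 1 [hneg]; exact neg_add_cancel _
      exact (mul_eq_zero.mp h2).resolve_left two_ne_zero
    have hP : ∀ k l : Fin n, (if k = l then 2 * a s(k, l) else a s(k, l)) = pol a k l := fun k l => rfl
    simp_rw [hP]
    conv_rhs => rw [Finset.sum_comm]
    have : 2 * ∑ k, ∑ l, G k i * G l i * beta a k l - ∑ k, ∑ l, G k i * pol a k l * G l i =
        ∑ k, ∑ l, G k i * G l i * (2 * beta a k l - pol a k l) := by
      rw [Finset.mul_sum, ← Finset.sum_sub_distrib]
      refine Finset.sum_congr rfl fun k _ => ?_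
      rw [Finset.mul_sum, ← Finset.sum_sub_distrib]
      refine Finset.sum_congr rfl fun l _ => ?_
      ring
    rw [hx] at this
    exact sub_eq_zero.mp this
  · simp only [pol, Matrix.of_apply, if_neg h, T_mk, Tfun]
    rw [Finset.sum_comm]
    refine Finset.sum_congr rfl fun k _ => Finset.sum_congr rfl fun l _ => ?_
    ring

lemma H_T_of_domain [IsDomain R] [CharZero R] (hn : Odd n) (a : Sym2 (Fin n) → R)
    (G : Matrix (Fin n) (Fin n) R) : H (T a G) = G.det ^ 2 * H a := by
  have h1 : D (T a G) = G.det ^ 2 * D a := by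
    rw [D_eq_det, D_eq_det, pol_T, Matrix.det_mul, Matrix.det_mul, Matrix.det_transpose]; ring
  rw [D_eq_two_H hn, D_eq_two_H hn] at h1
  have h2 : (2 : R) * H (T a G) = 2 * (G.det ^ 2 * H a) := by rw [h1]; ring
  exact mul_left_cancel₀ two_ne_zero h2

/-- the polynomial identity in any commutative ring -/
theorem H_T (hn : Odd n) (a : Sym2 (Fin n) → R) (G : Matrix (Fin n) (Fin n) R) :
    H (T a G) = G.det ^ 2 * H a := by
  let U := MvPolynomial (Sym2 (Fin n) ⊕ (Fin n × Fin n)) ℤ
  let aU : Sym2 (Fin n) → U := fun s => MvPolynomial.X (Sum.inl s)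
  let GU : Matrix (Fin n) (Fin n) U := Matrix.of fun k l => MvPolynomial.X (Sum.inr (k, l))
  let ψ : U →+* R := MvPolynomial.eval₂Hom (Int.castRingHom R) (Sum.elim a (fun p => G p.1 p.2))
  have ha : ψ ∘ aU = a := by
    funext s
    change MvPolynomial.eval₂ _ _ (MvPolynomial.X _) = _
    rw [MvPolynomial.eval₂_X]; rfl
  have hG : GU.map ψ = G := by
    ext k l
    change MvPolynomial.eval₂ _ _ (MvPolynomial.X _) = _
    rw [MvPolynomial.eval₂_X]; rfl
  have hU := H_T_of_domain (R := U) hn aU GU
  have h := congrArg ψ hU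
  rw [map_H, map_T, ha, hG, map_mul, map_pow, RingHom.map_det, RingHom.mapMatrix_apply, hG, map_H, ha] at h
  exact h

end General

section Module

variable {R : Type*} [CommRing R] {M : Type*} [AddCommGroup M] [Module R M]

lemma coeffs_comp_aux (b : Module.Basis (Fin n) R M) (Q : QuadraticForm R M) (g : M →ₗ[R] M)
    (G : Fin n → Fin n → R) (hg : ∀ i, g (b i) = ∑ k, G k i • b k) :
    coeffs b (LinearEquiv.refl R R) (Q.comp g) =
      T (coeffs b (LinearEquiv.refl R R) Q) (Matrix.of G) := by
  funext s
  induction s using Sym2.ind with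
  | _ i j =>
    rw [coeffs_mk, T_mk, Tfun]
    simp only [Matrix.of_apply]
    by_cases h : i = j
    · subst h
      rw [if_pos rfl, if_pos rfl]
      simp only [LinearEquiv.refl_apply, QuadraticMap.comp_apply]
      rw [hg i]
      have hQ := QuadraticMap.toQuadraticMap_toBilin Q b
      conv_lhs => rw [← hQ, LinearMap.BilinMap.toQuadraticMap_apply]
      simp only [map_sum, LinearMap.sum_apply, map_smul, LinearMap.smul_apply,
        QuadraticMap.toBilin_apply, smul_eq_mul]
      conv_rhs => rw [Finset.sum_comm]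
      refine Finset.sum_congr rfl fun l _ => ?_
      rw [Finset.mul_sum]
      refine Finset.sum_congr rfl fun k _ => ?_
      have : (if k = l then Q (b k) else if k < l then QuadraticMap.polar Q (b k) (b l) else 0) =
          beta (coeffs b (LinearEquiv.refl R R) Q) k l := by
        unfold beta
        rw [coeffs_mk]
        by_cases hkl : k = l
        · subst hkl; simp
        · simp [hkl]
      rw [this]; ring
    · rw [if_neg h, if_neg h]
      simp only [LinearEquiv.refl_apply]
      have hpol : QuadraticMap.polar (Q.comp g) (b i) (b j) = QuadraticMap.polar Q (g (b i)) (g (b j)) := by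
        simp [QuadraticMap.polar, QuadraticMap.comp_apply]
      rw [hpol, hg i, hg j]
      have hB : ∀ x y, QuadraticMap.polar Q x y = QuadraticMap.polarBilin Q x y := fun _ _ => rfl
      rw [hB]
      simp only [map_sum, LinearMap.sum_apply, map_smul, LinearMap.smul_apply, smul_eq_mul]
      conv_rhs => rw [Finset.sum_comm]
      refine Finset.sum_congr rfl fun l _ => ?_
      rw [Finset.mul_sum]
      refine Finset.sum_congr rfl fun k _ => ?_
      have : QuadraticMap.polarBilin Q (b k) (b l) = pol (coeffs b (LinearEquiv.refl R R) Q) k l := by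
        simp only [pol, Matrix.of_apply, coeffs_mk, LinearEquiv.refl_apply]
        by_cases hkl : k = l
        · subst hkl
          simp [QuadraticMap.polar_self]
        · simp [hkl]
      rw [this]; ring

lemma coeffs_comp (b : Module.Basis (Fin n) R M) (Q : QuadraticForm R M) (g : M →ₗ[R] M) :
    coeffs b (LinearEquiv.refl R R) (Q.comp g) =
      T (coeffs b (LinearEquiv.refl R R) Q) (LinearMap.toMatrix b b g) := by
  have := coeffs_comp_aux b Q g (fun k i => b.repr (g (b i)) k) (fun i => (b.sum_repr (g (b i))).symm)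
  rw [this]
  congr 1
  ext k i
  rw [LinearMap.toMatrix_apply, Matrix.of_apply]

theorem halfDisc_comp (hn : Odd n) (b : Module.Basis (Fin n) R M) (Q : QuadraticForm R M)
    (g : M →ₗ[R] M) :
    halfDisc b (LinearEquiv.refl R R) (Q.comp g) =
      LinearMap.det g ^ 2 * halfDisc b (LinearEquiv.refl R R) Q := by
  have h := H_T hn (coeffs b (LinearEquiv.refl R R) Q) (LinearMap.toMatrix b b g)
  rw [← coeffs_comp, LinearMap.det_toMatrix] at h
  exact h

end Module

end Groth.Agent.Helper8.HalfDisc
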