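import Mathlib

namespace Groth.Agent.Helper8.SmithVal

open Matrix

variable (R : Type*) [CommRing R] [IsDomain R] [ValuationRing R]
  {K : Type*} [Field K] [Algebra R K] [IsFractionRing R K]

/-- generalized Smith form with unit determinants -/
def GSF {ι : Type*} [Fintype ι] [DecidableEq ι] (Ξ : Matrix ι ι K) : Prop :=
  ∃ (A B : Matrix ι ι R) (d : ι → K), IsUnit A.det ∧ IsUnit B.det ∧
    Ξ = A.map (algebraMap R K) * Matrix.diagonal d * B.map (algebraMap R K)

section general
variable {ι κ : Type*} [Fintype ι] [DecidableEq ι] [Fintype κ] [DecidableEq κ]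

omit [IsDomain R] [ValuationRing R] [IsFractionRing R K] in
lemma GSF_of_mul {Ξ : Matrix ι ι K} (P Q : Matrix ι ι R) (hP : IsUnit P.det) (hQ : IsUnit Q.det)
    (h : GSF R (P.map (algebraMap R K) * Ξ * Q.map (algebraMap R K))) : GSF R Ξ := by
  obtain ⟨A, B, d, hA, hB, h⟩ := h
  refine ⟨P⁻¹ * A, B * Q⁻¹, d, ?_, ?_, ?_⟩
  · rw [Matrix.det_mul]; exact (Matrix.isUnit_nonsing_inv_det P hP).mul hA
  · rw [Matrix.det_mul]; exact hB.mul (Matrix.isUnit_nonsing_inv_det Q hQ)
  · have h1 : (P⁻¹).map (algebraMap R K) * P.map (algebraMap R K) = 1 := by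
      rw [← Matrix.map_mul, Matrix.nonsing_inv_mul P hP, Matrix.map_one _ (map_zero _) (map_one _)]
    have h2 : Q.map (algebraMap R K) * (Q⁻¹).map (algebraMap R K) = 1 := by
      rw [← Matrix.map_mul, Matrix.mul_nonsing_inv Q hQ, Matrix.map_one _ (map_zero _) (map_one _)]
    calc Ξ = ((P⁻¹).map (algebraMap R K) * P.map (algebraMap R K)) * Ξ *
          (Q.map (algebraMap R K) * (Q⁻¹).map (algebraMap R K)) := by
            rw [h1, h2, Matrix.one_mul, Matrix.mul_one]
      _ = (P⁻¹).map (algebraMap R K) * (P.map (algebraMap R K) * Ξ * Q.map (algebraMap R K)) *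
          (Q⁻¹).map (algebraMap R K) := by simp only [Matrix.mul_assoc]
      _ = _ := by
            rw [h, Matrix.map_mul, Matrix.map_mul]
            simp only [Matrix.mul_assoc]

omit [IsDomain R] [ValuationRing R] [IsFractionRing R K] in
lemma GSF_reindex (e : ι ≃ κ) (Ξ : Matrix κ κ K) (h : GSF R (Ξ.submatrix e e)) : GSF R Ξ := by
  obtain ⟨A, B, d, hA, hB, h⟩ := h
  refine ⟨A.submatrix e.symm e.symm, B.submatrix e.symm e.symm, d ∘ e.symm, ?_, ?_, ?_⟩
  · rwa [Matrix.det_submatrix_equiv_self]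
  · rwa [Matrix.det_submatrix_equiv_self]
  · have h1 : Ξ = (Ξ.submatrix e e).submatrix e.symm e.symm := by
      ext i j; simp
    rw [h1, h, ← Matrix.submatrix_diagonal_equiv, ← Matrix.submatrix_map, ← Matrix.submatrix_map,
      Matrix.submatrix_mul_equiv, Matrix.submatrix_mul_equiv]

omit [IsDomain R] [ValuationRing R] [IsFractionRing R K] in
lemma GSF_zero : GSF R (0 : Matrix ι ι K) :=
  ⟨1, 1, 0, by simp, by simp, by simp⟩

end general

section step
variable {ι' : Type*} [Fintype ι'] [DecidableEq ι']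

omit [IsDomain R] [ValuationRing R] [IsFractionRing R K] in
/-- assembling from a block-diagonal form -/
lemma GSF_blockDiag (x : K) (Y : Matrix ι' ι' K) (hY : GSF R Y) :
    GSF R (fromBlocks (Matrix.of fun (_ _ : Unit) => x) 0 0 Y) := by
  obtain ⟨A, B, d, hA, hB, h⟩ := hY
  refine ⟨fromBlocks 1 0 0 A, fromBlocks 1 0 0 B, Sum.elim (fun _ => x) d, ?_, ?_, ?_⟩
  · rw [Matrix.det_fromBlocks_zero₂₁, Matrix.det_one, one_mul]; exact hA
  · rw [Matrix.det_fromBlocks_zero₂₁, Matrix.det_one, one_mul]; exact hB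
  · rw [Matrix.fromBlocks_map, Matrix.fromBlocks_map, ← Matrix.fromBlocks_diagonal,
      Matrix.fromBlocks_multiply, Matrix.fromBlocks_multiply, h]
    congr 1
    · ext i j
      simp [Matrix.map_one _ (map_zero (algebraMap R K)) (map_one (algebraMap R K))]
    · simp
    · simp
    · simp [Matrix.map_zero]

omit [IsDomain R] [ValuationRing R] [IsFractionRing R K] in
/-- clearing step: pivot at the corner dividing its row and column -/
lemma GSF_clear (IH : ∀ Y : Matrix ι' ι' K, GSF R Y)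
    (X : Matrix (Unit ⊕ ι') (Unit ⊕ ι') K)
    (hdiv : ∀ i j, ∃ r : R, X i j = algebraMap R K r * X (Sum.inl ()) (Sum.inl ())) :
    GSF R X := by
  choose r hr using hdiv
  set π := X (Sum.inl ()) (Sum.inl ()) with hπ
  let P : Matrix (Unit ⊕ ι') (Unit ⊕ ι') R :=
    fromBlocks 1 0 (Matrix.of fun i _ => - r (Sum.inr i) (Sum.inl ())) 1
  let Q : Matrix (Unit ⊕ ι') (Unit ⊕ ι') R :=
    fromBlocks 1 (Matrix.of fun _ j => - r (Sum.inl ()) (Sum.inr j)) 0 1
  have hP : IsUnit P.det := by
    simp only [P]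
    rw [Matrix.det_fromBlocks_zero₁₂, Matrix.det_one, Matrix.det_one, one_mul]
    exact isUnit_one
  have hQ : IsUnit Q.det := by
    simp only [Q]
    rw [Matrix.det_fromBlocks_zero₂₁, Matrix.det_one, Matrix.det_one, one_mul]
    exact isUnit_one
  apply GSF_of_mul R P Q hP hQ
  have hX : X = fromBlocks X.toBlocks₁₁ X.toBlocks₁₂ X.toBlocks₂₁ X.toBlocks₂₂ :=
    (Matrix.fromBlocks_toBlocks X).symm
  have key : ∃ Y : Matrix ι' ι' K, P.map (algebraMap R K) * X * Q.map (algebraMap R K) =
      fromBlocks (Matrix.of fun (_ _ : Unit) => π) 0 0 Y := by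
    refine ⟨((Matrix.of fun (i : ι') (_ : Unit) => - r (Sum.inr i) (Sum.inl ())).map
        (algebraMap R K) * X.toBlocks₁₁ + X.toBlocks₂₁) *
        (Matrix.of fun (_ : Unit) (j : ι') => - r (Sum.inl ()) (Sum.inr j)).map (algebraMap R K) +
      ((Matrix.of fun (i : ι') (_ : Unit) => - r (Sum.inr i) (Sum.inl ())).map (algebraMap R K) *
          X.toBlocks₁₂ + X.toBlocks₂₂), ?_⟩
    conv_lhs => rw [hX]
    simp only [P, Q]
    rw [Matrix.fromBlocks_map, Matrix.fromBlocks_map, Matrix.fromBlocks_multiply,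
      Matrix.fromBlocks_multiply]
    simp only [Matrix.map_one _ (map_zero (algebraMap R K)) (map_one (algebraMap R K)),
      Matrix.map_zero _ (map_zero (algebraMap R K)), Matrix.one_mul, Matrix.mul_one,
      Matrix.zero_mul, Matrix.mul_zero, add_zero]
    congr 1
    · ext i j
      simp only [Matrix.add_apply, Matrix.mul_apply, Matrix.toBlocks₁₁, Matrix.toBlocks₁₂,
        Matrix.of_apply, Matrix.map_apply, Finset.univ_unique, Finset.sum_singleton,
        Matrix.zero_apply, map_neg]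
      rw [hr (Sum.inl ()) (Sum.inr j)]
      ring
    · ext i j
      simp only [Matrix.add_apply, Matrix.mul_apply, Matrix.toBlocks₁₁, Matrix.toBlocks₂₁,
        Matrix.of_apply, Matrix.map_apply, Finset.univ_unique, Finset.sum_singleton,
        Matrix.zero_apply, map_neg]
      rw [hr (Sum.inr i) (Sum.inl ())]
      ring
  obtain ⟨Y, key⟩ := key
  rw [key]
  exact GSF_blockDiag R π _ (IH _)

end step

section pivot
variable {ι : Type*} [Fintype ι] [DecidableEq ι]

omit [IsDomain R] [ValuationRing R] in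
lemma isUnit_sign (σ : Equiv.Perm ι) : IsUnit (((Equiv.Perm.sign σ : ℤˣ) : ℤ) : R) := by
  rcases Int.units_eq_one_or (Equiv.Perm.sign σ) with h | h <;> simp [h]

omit [IsDomain R] [ValuationRing R] [IsFractionRing R K] in
lemma GSF_perm (Ξ : Matrix ι ι K) (σ τ : Equiv.Perm ι) (h : GSF R (Ξ.submatrix σ τ)) :
    GSF R Ξ := by
  apply GSF_of_mul R ((1 : Matrix ι ι R).submatrix σ id) ((1 : Matrix ι ι R).submatrix id τ)
  · rw [Matrix.det_permute, Matrix.det_one, mul_one]; exact isUnit_sign R σ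
  · rw [Matrix.det_permute', Matrix.det_one, mul_one]; exact isUnit_sign R τ
  · have : ((1 : Matrix ι ι R).submatrix σ id).map (algebraMap R K) * Ξ *
        ((1 : Matrix ι ι R).submatrix id τ).map (algebraMap R K) = Ξ.submatrix σ τ := by
      ext i j
      simp [Matrix.mul_apply, Matrix.one_apply]
    rwa [this]

end pivot

section step2
variable {ι' : Type*} [Fintype ι'] [DecidableEq ι']

lemma GSF_step (IH : ∀ Y : Matrix ι' ι' K, GSF R Y)
    (Ξ : Matrix (Unit ⊕ ι') (Unit ⊕ ι') K) : GSF R Ξ := by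
  classical
  by_cases h0 : Ξ = 0
  · rw [h0]; exact GSF_zero R
  obtain ⟨p, -, hmax⟩ := Finset.exists_max_image
    (Finset.univ : Finset ((Unit ⊕ ι') × (Unit ⊕ ι')))
    (fun p => ValuationRing.valuation R K (Ξ p.1 p.2))
    ⟨(Sum.inl (), Sum.inl ()), Finset.mem_univ _⟩
  obtain ⟨π, hπdef⟩ : ∃ π, π = Ξ p.1 p.2 := ⟨_, rfl⟩
  have hπ : π ≠ 0 := by
    intro hπ0
    apply h0
    ext i j
    have := hmax (i, j) (Finset.mem_univ _)
    simp only [← hπdef, hπ0, map_zero, le_zero_iff, Valuation.zero_iff] at this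
    simpa using this
  have hdiv : ∀ i j, ∃ r : R, Ξ i j = algebraMap R K r * π := by
    intro i j
    have h1 := hmax (i, j) (Finset.mem_univ _)
    simp only [← hπdef] at h1
    have hvπ : ValuationRing.valuation R K π ≠ 0 := by
      rw [Valuation.ne_zero_iff]; exact hπ
    have h2 : Ξ i j / π ∈ (ValuationRing.valuation R K).integer := by
      rw [Valuation.mem_integer_iff, map_div₀]
      exact (div_le_one₀ (zero_lt_iff.2 hvπ)).2 h1
    obtain ⟨r, hr⟩ := (ValuationRing.mem_integer_iff R K _).1 h2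
    exact ⟨r, by rw [hr, div_mul_cancel₀ _ hπ]⟩
  apply GSF_perm R Ξ (Equiv.swap (Sum.inl ()) p.1) (Equiv.swap (Sum.inl ()) p.2)
  apply GSF_clear R IH
  intro i j
  obtain ⟨r, hr⟩ := hdiv (Equiv.swap (Sum.inl ()) p.1 i) (Equiv.swap (Sum.inl ()) p.2 j)
  refine ⟨r, ?_⟩
  simp only [Matrix.submatrix_apply, Equiv.swap_apply_left]
  rw [← hπdef]
  exact hr

end step2

theorem gsf_fin : ∀ (n : ℕ) (Ξ : Matrix (Fin n) (Fin n) K), GSF R Ξ
  | 0, Ξ => by
    have : Ξ = 0 := Subsingleton.elim _ _
    rw [this]; exact GSF_zero R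
  | n + 1, Ξ => by
    let e : Unit ⊕ Fin n ≃ Fin (n + 1) := Fintype.equivOfCardEq (by simp [add_comm])
    exact GSF_reindex R e Ξ (GSF_step R (gsf_fin n) _)

omit [IsDomain R] [ValuationRing R] [IsFractionRing R K] in
lemma det_diag_update {n : ℕ} (x : R) :
    (Matrix.diagonal (Function.update (1 : Fin (n + 1) → R) 0 x)).det = x := by
  rw [Matrix.det_diagonal, Finset.prod_update_of_mem (Finset.mem_univ _)]
  simp

theorem main (n : ℕ) (Ξ : Matrix (Fin n) (Fin n) K) :
    ∃ (A B : Matrix (Fin n) (Fin n) R) (d : Fin n → K), A.det = 1 ∧ B.det = 1 ∧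
      Ξ = A.map (algebraMap R K) * Matrix.diagonal d * B.map (algebraMap R K) := by
  obtain ⟨A, B, d, hA, hB, h⟩ := gsf_fin R n Ξ
  rcases n with _ | n
  · exact ⟨A, B, d, Matrix.det_isEmpty, Matrix.det_isEmpty, h⟩
  obtain ⟨a, ha⟩ := hA
  obtain ⟨b, hb⟩ := hB
  let ua : Fin (n + 1) → R := Function.update 1 0 (a : R)
  let ua' : Fin (n + 1) → R := Function.update 1 0 ((a⁻¹ : Rˣ) : R)
  let ub : Fin (n + 1) → R := Function.update 1 0 (b : R)
  let ub' : Fin (n + 1) → R := Function.update 1 0 ((b⁻¹ : Rˣ) : R)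
  have hua : ∀ i, ua' i * ua i = 1 := by
    intro i
    by_cases hi : i = 0
    · subst hi; simp [ua, ua']
    · simp [ua, ua', Function.update_of_ne hi]
  have hub : ∀ i, ub i * ub' i = 1 := by
    intro i
    by_cases hi : i = 0
    · subst hi; simp [ub, ub']
    · simp [ub, ub', Function.update_of_ne hi]
  refine ⟨A * Matrix.diagonal ua', Matrix.diagonal ub' * B,
    fun i => algebraMap R K (ua i) * d i * algebraMap R K (ub i), ?_, ?_, ?_⟩
  · rw [Matrix.det_mul, det_diag_update, ← ha, Units.mul_inv]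
  · rw [Matrix.det_mul, det_diag_update, ← hb, Units.inv_mul]
  · rw [h, Matrix.map_mul, Matrix.map_mul, Matrix.diagonal_map (map_zero _),
      Matrix.diagonal_map (map_zero _)]
    have : Matrix.diagonal d =
        Matrix.diagonal (fun i => algebraMap R K (ua' i)) *
          Matrix.diagonal (fun i => algebraMap R K (ua i) * d i * algebraMap R K (ub i)) *
          Matrix.diagonal (fun i => algebraMap R K (ub' i)) := by
      rw [Matrix.diagonal_mul_diagonal, Matrix.diagonal_mul_diagonal]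
      congr 1
      funext i
      have h1 : algebraMap R K (ua' i) * algebraMap R K (ua i) = 1 := by
        rw [← map_mul, hua, map_one]
      have h2 : algebraMap R K (ub i) * algebraMap R K (ub' i) = 1 := by
        rw [← map_mul, hub, map_one]
      calc d i = (algebraMap R K (ua' i) * algebraMap R K (ua i)) * d i *
            (algebraMap R K (ub i) * algebraMap R K (ub' i)) := by rw [h1, h2, one_mul, mul_one]
        _ = _ := by ring
    rw [this]
    simp only [Matrix.mul_assoc]

end Groth.Agent.Helper8.SmithVal
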