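import Mathlib
import Groth.Prelude.Def_HopfRep
import Groth.Prelude.Def_GLin3
import Groth.Prelude.Def_ComodSub
import Groth.Agent.Helper9.LocFin

set_option autoImplicit false
universe u v w

namespace Groth.Agent.Helper8.GLnEmb

open TensorProduct CoordGrp

section coef
variable {k : Type*} [CommRing k] {V : Type*} [AddCommGroup V] [Module k V]
  {N : Type*} [AddCommGroup N] [Module k N] {ι : Type*} [Fintype ι] [DecidableEq ι]
  (b : Module.Basis ι k V)

theorem coef_sum (x : ι → N) (l : ι) :
    TensorProduct.equivFinsuppOfBasisLeft b (∑ i, b i ⊗ₜ[k] x i) l = x l := by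
  rw [map_sum, Finsupp.finset_sum_apply]
  simp only [TensorProduct.equivFinsuppOfBasisLeft_apply_tmul_apply, Module.Basis.repr_self,
    Finsupp.single_apply, ite_smul, one_smul, zero_smul]
  rw [Finset.sum_ite_eq' Finset.univ l]
  simp

theorem eq_sum_coef (y : V ⊗[k] N) :
    y = ∑ i, b i ⊗ₜ[k] (TensorProduct.equivFinsuppOfBasisLeft b y i) := by
  apply (TensorProduct.equivFinsuppOfBasisLeft b).injective
  ext l
  rw [coef_sum]

end coef

section fd
variable {k : Type u} [Field k] {A : Type v} [CommRing A] [Bialgebra k A]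

theorem exists_fd (hA : Algebra.FiniteType k A) :
    ∃ V : Submodule k A, Module.Finite k V ∧ HopfRep.IsSubcomod (k := k) (A := A) V ∧
      Algebra.adjoin k (V : Set A) = ⊤ := by
  classical
  obtain ⟨s, hs⟩ := hA.out
  refine ⟨⨆ f : s, Groth.Agent.Helper9.gen k A (f : A), ?_, ?_, ?_⟩
  · haveI : ∀ f : s, Module.Finite k (Groth.Agent.Helper9.gen k A (f : A)) :=
      fun f => Groth.Agent.Helper9.finite_gen _
    exact Submodule.finite_iSup _
  · exact Groth.Agent.Helper9.isSubcomod_iSup fun f => Groth.Agent.Helper9.isSubcomod_gen _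
  · rw [eq_top_iff, ← hs]
    apply Algebra.adjoin_mono
    intro f hf
    have : Groth.Agent.Helper9.gen k A f ≤ ⨆ f : s, Groth.Agent.Helper9.gen k A (f : A) :=
      le_iSup (fun f : s => Groth.Agent.Helper9.gen k A (f : A)) ⟨f, hf⟩
    exact this (Groth.Agent.Helper9.mem_gen f)

end fd

section mat
variable {k : Type u} [Field k] {A : Type v} [CommRing A] [HopfAlgebra k A]

/-- matrix coefficients of a finite-dimensional comodule -/
theorem exists_matrix {V : Type w} [AddCommGroup V] [Module k V] (c : HopfRep.Comod k A V)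
    {n : ℕ} (b : Module.Basis (Fin n) k V) :
    ∃ M : Matrix (Fin n) (Fin n) A, (∀ j, c.coact (b j) = ∑ i, b i ⊗ₜ[k] M i j) ∧
      (∀ l j, Coalgebra.comul (R := k) (M l j) = ∑ i, M l i ⊗ₜ[k] M i j) ∧
      (∀ l j, Coalgebra.counit (R := k) (M l j) = if l = j then 1 else 0) := by
  classical
  set M : Matrix (Fin n) (Fin n) A :=
    fun i j => TensorProduct.equivFinsuppOfBasisLeft b (c.coact (b j)) i with hM
  have hcoact : ∀ j, c.coact (b j) = ∑ i, b i ⊗ₜ[k] M i j := fun j => eq_sum_coef b _
  refine ⟨M, hcoact, ?_, ?_⟩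
  · intro l j
    have h := LinearMap.congr_fun c.coassoc (b j)
    simp only [LinearMap.comp_apply] at h
    rw [hcoact j] at h
    simp only [map_sum, LinearMap.rTensor_tmul, LinearMap.lTensor_tmul, hcoact, TensorProduct.sum_tmul,
      LinearEquiv.coe_coe, TensorProduct.assoc_tmul] at h
    rw [Finset.sum_comm] at h
    simp only [← TensorProduct.tmul_sum] at h
    have h2 := congrArg (fun y => TensorProduct.equivFinsuppOfBasisLeft b y l) h
    simp only [coef_sum] at h2
    exact h2.symm
  · intro l j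
    have h := LinearMap.congr_fun c.counit_comp (b j)
    simp only [LinearMap.comp_apply] at h
    rw [hcoact j] at h
    simp only [map_sum, LinearMap.lTensor_tmul, LinearMap.flip_apply, TensorProduct.mk_apply] at h
    have h2 := congrArg (fun y => TensorProduct.equivFinsuppOfBasisLeft b y l) h
    simp only [coef_sum, TensorProduct.equivFinsuppOfBasisLeft_apply_tmul_apply,
      Module.Basis.repr_self, Finsupp.single_apply, smul_eq_mul, mul_one] at h2
    rw [h2]
    simp only [eq_comm]

end mat

section hom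
variable {k : Type u} [Field k] {A : Type u} [CommRing A] [HopfAlgebra k A]

/-- a "multiplicative" matrix is invertible with inverse given by the antipode -/
theorem mul_map_antipode {n : ℕ} (M : Matrix (Fin n) (Fin n) A)
    (hΔ : ∀ l j, Coalgebra.comul (R := k) (M l j) = ∑ i, M l i ⊗ₜ[k] M i j)
    (hε : ∀ l j, Coalgebra.counit (R := k) (M l j) = if l = j then 1 else 0) :
    M * M.map (HopfAlgebra.antipode k) = 1 := by
  ext i j
  rw [Matrix.mul_apply]
  have h := HopfAlgebra.mul_antipode_lTensor_comul_apply (R := k) (M i j)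
  rw [hΔ, map_sum, map_sum, hε] at h
  simp only [LinearMap.lTensor_tmul, LinearMap.mul'_apply] at h
  simp only [Matrix.map_apply]
  rw [h, Matrix.one_apply]
  split_ifs <;> simp

/-- the bialgebra map from GL_n attached to a multiplicative matrix -/
theorem exists_bialgHom {n : ℕ} (M : Matrix (Fin n) (Fin n) A)
    (hΔ : ∀ l j, Coalgebra.comul (R := k) (M l j) = ∑ i, M l i ⊗ₜ[k] M i j)
    (hε : ∀ l j, Coalgebra.counit (R := k) (M l j) = if l = j then 1 else 0) :
    ∃ π : CoordGrp.GLn n k →ₐc[k] A, ∀ i j, π (GLn.X i j) = M i j := by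
  classical
  set d : A := (M.map (HopfAlgebra.antipode k)).det with hd
  have hMd : M.det * d = 1 := by
    rw [hd, ← Matrix.det_mul, mul_map_antipode M hΔ hε, Matrix.det_one]
  set f₀ : GLb n k →ₐ[k] A := GLb.aeval n k M d with hf₀
  have hX : ∀ i j, f₀ (GLb.X i j) = M i j := fun i j => GLb.aeval_X _ _ _ _
  have hD : f₀ GLb.D = d := GLb.aeval_D _ _
  have hf₀det : f₀ (GLb.det n k) = M.det := by
    rw [GLb.det, AlgHom.map_det, hf₀, GLb.aeval_mapMatrix_genMat]
  have hrel : ∀ a ∈ GLb.relIdeal n k, f₀ a = 0 := by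
    intro a ha
    obtain ⟨c, rfl⟩ := Ideal.mem_span_singleton'.mp ha
    rw [map_mul, GLb.rel, map_sub, map_mul, map_one, hf₀det]
    have : f₀ GLb.D = d := GLb.aeval_D _ _
    rw [this, hMd, sub_self, mul_zero]
  let f : CoordGrp.GLn n k →ₐ[k] A := Ideal.Quotient.liftₐ (GLb.relIdeal n k) f₀ hrel
  have hfmk : ∀ x, f (GLn.mk n k x) = f₀ x := fun x => rfl
  -- counit of M.det
  have hεM : (Bialgebra.counitAlgHom k A).mapMatrix M = 1 := by
    ext i j
    simp only [AlgHom.mapMatrix_apply, Matrix.map_apply, Matrix.one_apply]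
    exact hε i j
  have hεdet : Bialgebra.counitAlgHom k A M.det = 1 := by
    rw [AlgHom.map_det, hεM, Matrix.det_one]
  have hεd : Bialgebra.counitAlgHom k A d = 1 := by
    have := congrArg (Bialgebra.counitAlgHom k A) hMd
    rw [map_mul, hεdet, one_mul, map_one] at this
    exact this
  -- comul of M.det
  have hΔM : (Bialgebra.comulAlgHom k A).mapMatrix M =
      (Algebra.TensorProduct.includeLeft : A →ₐ[k] A ⊗[k] A).mapMatrix M *
      (Algebra.TensorProduct.includeRight : A →ₐ[k] A ⊗[k] A).mapMatrix M := by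
    ext i j
    rw [Matrix.mul_apply]
    simp only [AlgHom.mapMatrix_apply, Matrix.map_apply, Algebra.TensorProduct.includeLeft_apply,
      Algebra.TensorProduct.includeRight_apply, Algebra.TensorProduct.tmul_mul_tmul, mul_one, one_mul]
    exact hΔ i j
  have hΔdet : Bialgebra.comulAlgHom k A M.det = M.det ⊗ₜ[k] M.det := by
    rw [AlgHom.map_det, hΔM, Matrix.det_mul, ← AlgHom.map_det, ← AlgHom.map_det]
    simp [Algebra.TensorProduct.tmul_mul_tmul]
  have hΔd : Bialgebra.comulAlgHom k A d = d ⊗ₜ[k] d := by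
    have h1 := congrArg (Bialgebra.comulAlgHom k A) hMd
    rw [map_mul, hΔdet, map_one] at h1
    have h2 : (M.det ⊗ₜ[k] M.det : A ⊗[k] A) * (d ⊗ₜ[k] d) = 1 := by
      rw [Algebra.TensorProduct.tmul_mul_tmul, hMd, Algebra.TensorProduct.one_def]
    calc Bialgebra.comulAlgHom k A d
        = Bialgebra.comulAlgHom k A d * ((M.det ⊗ₜ[k] M.det : A ⊗[k] A) * (d ⊗ₜ[k] d)) := by
          rw [h2, mul_one]
      _ = ((M.det ⊗ₜ[k] M.det : A ⊗[k] A) * Bialgebra.comulAlgHom k A d) * (d ⊗ₜ[k] d) := by ring
      _ = d ⊗ₜ[k] d := by rw [h1, one_mul]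
  have hcounit : (Bialgebra.counitAlgHom k A).comp f = Bialgebra.counitAlgHom k (CoordGrp.GLn n k) := by
    apply Ideal.Quotient.algHom_ext
    apply GLb.algHom_ext
    · intro i j
      show Bialgebra.counitAlgHom k A (f₀ (GLb.X i j)) = Coalgebra.counit (R := k) (GLb.X i j : GLb n k)
      rw [hf₀, GLb.aeval_X, GLb.counit_X]
      exact hε i j
    · show Bialgebra.counitAlgHom k A (f₀ GLb.D) = Coalgebra.counit (R := k) (GLb.D : GLb n k)
      rw [hf₀, GLb.aeval_D, GLb.counit_D]
      exact hεd
  have hcomul : (Algebra.TensorProduct.map f f).comp (Bialgebra.comulAlgHom k (CoordGrp.GLn n k)) =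
      (Bialgebra.comulAlgHom k A).comp f := by
    apply Ideal.Quotient.algHom_ext
    apply GLb.algHom_ext
    · intro i j
      show Algebra.TensorProduct.map f f (TensorProduct.map (GLn.mk n k).toLinearMap (GLn.mk n k).toLinearMap
        (Coalgebra.comul (R := k) (GLb.X i j : GLb n k))) = Bialgebra.comulAlgHom k A (f₀ (GLb.X i j))
      rw [GLb.comul_X, hX]
      simp only [map_sum, TensorProduct.map_tmul, AlgHom.toLinearMap_apply, Algebra.TensorProduct.map_tmul,
        hfmk, hX]
      exact (hΔ i j).symm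
    · show Algebra.TensorProduct.map f f (TensorProduct.map (GLn.mk n k).toLinearMap (GLn.mk n k).toLinearMap
        (Coalgebra.comul (R := k) (GLb.D : GLb n k))) = Bialgebra.comulAlgHom k A (f₀ GLb.D)
      rw [GLb.comul_D, hD]
      simp only [TensorProduct.map_tmul, AlgHom.toLinearMap_apply, Algebra.TensorProduct.map_tmul,
        hfmk, hD]
      exact hΔd.symm
  refine ⟨BialgHom.ofAlgHom f hcounit hcomul, ?_⟩
  intro i j
  show f (GLn.mk n k (GLb.X i j)) = M i j
  rw [hfmk, hf₀, GLb.aeval_X]

end hom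

theorem main (k A : Type u) [Field k] [CommRing A] [HopfAlgebra k A] [Algebra.FiniteType k A] :
    ∃ (n : ℕ) (π : CoordGrp.GLn n k →ₐc[k] A), Function.Surjective π := by
  classical
  obtain ⟨V, hVfin, hVsub, hVadj⟩ := exists_fd (k := k) (A := A) inferInstance
  haveI := hVfin
  let b := Module.finBasis k V
  let c : HopfRep.Comod k A V := ComodSub.Comod.restr (HopfRep.Comod.regular k A) V hVsub
  obtain ⟨M, hM, hΔ, hε⟩ := exists_matrix c b
  obtain ⟨π, hπ⟩ := exists_bialgHom M hΔ hε
  refine ⟨_, π, ?_⟩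
  have hrange : ∀ j, (b j : A) ∈ (π : GLn (Module.finrank k V) k →ₐ[k] A).range := by
    intro j
    have h1 : Coalgebra.comul (R := k) (b j : A) = ∑ i, (b i : A) ⊗ₜ[k] M i j := by
      have := ComodSub.restr_coact_coe (HopfRep.Comod.regular k A) V hVsub (b j)
      have hM' := hM j
      rw [hM'] at this
      simp only [map_sum, LinearMap.rTensor_tmul, Submodule.subtype_apply] at this
      exact this.symm
    have h2 := Coalgebra.rTensor_counit_comul (R := k) (b j : A)
    rw [h1, map_sum] at h2
    simp only [LinearMap.rTensor_tmul] at h2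
    have h3 := congrArg (TensorProduct.lid k A) h2
    simp only [map_sum, TensorProduct.lid_tmul, one_smul] at h3
    rw [← h3]
    apply Subalgebra.sum_mem
    intro i _
    apply Subalgebra.smul_mem
    exact ⟨GLn.X i j, hπ i j⟩
  have hV : (V : Set A) ⊆ ((π : GLn (Module.finrank k V) k →ₐ[k] A).range : Set A) := by
    intro v hv
    have h := b.sum_repr ⟨v, hv⟩
    have h' : v = ∑ j, b.repr ⟨v, hv⟩ j • (b j : A) := by
      have := congrArg (V.subtype) h
      simp only [map_sum, map_smul, Submodule.subtype_apply] at this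
      exact this.symm
    rw [h']
    apply Subalgebra.sum_mem
    intro j _
    exact Subalgebra.smul_mem _ (hrange j) _
  have htop : (π : GLn (Module.finrank k V) k →ₐ[k] A).range = ⊤ := by
    rw [eq_top_iff, ← hVadj]
    exact Algebra.adjoin_le hV
  intro a
  have : a ∈ (π : GLn (Module.finrank k V) k →ₐ[k] A).range := by rw [htop]; trivial
  obtain ⟨x, hx⟩ := this
  exact ⟨x, hx⟩

end Groth.Agent.Helper8.GLnEmb
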