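import Mathlib
import Groth.Prelude.Def_HopfRep
import Groth.Prelude.Def_ComodSub
import Groth.Prelude.Def_ComodTens
import Groth.Prelude.Def_ComodDual
import Groth.Agent.Helper8.FixHom
import Groth.Agent.Helper8.ComodDualAux
import Groth.Agent.Helper9.Reynolds2
import Groth.Agent.Helper9.LRss

set_option autoImplicit false
universe u v w w' w''

namespace Groth.Agent.Helper8.LRExact

open TensorProduct

section abbrevs
variable {k : Type u} [CommRing k] {A : Type v} [CommRing A] [Bialgebra k A]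

/-- fixed points for an explicit comodule structure -/
abbrev fixed {X : Type w} [AddCommGroup X] [Module k X] (c : HopfRep.Comod k A X) : Submodule k X :=
  @HopfRep.fixedPts k A _ _ _ X _ _ c

/-- comodule maps for explicit structures -/
abbrev IsHom {X : Type w} [AddCommGroup X] [Module k X] {Y : Type w'} [AddCommGroup Y] [Module k Y]
    (c : HopfRep.Comod k A X) (c' : HopfRep.Comod k A Y) (f : X →ₗ[k] Y) : Prop :=
  c'.coact ∘ₗ f = f.rTensor A ∘ₗ c.coact

/-- subcomodules for an explicit structure -/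
abbrev IsSub {X : Type w} [AddCommGroup X] [Module k X] (c : HopfRep.Comod k A X)
    (W : Submodule k X) : Prop :=
  @HopfRep.IsSubcomod k A _ _ _ _ X _ _ c W

theorem mem_fixed {X : Type w} [AddCommGroup X] [Module k X] (c : HopfRep.Comod k A X) (x : X) :
    x ∈ fixed c ↔ c.coact x = x ⊗ₜ[k] (1 : A) := Iff.rfl

/-- rTensor of a comodule map is a comodule map of tensor comodules -/
theorem isHom_rTensor {V : Type w} [AddCommGroup V] [Module k V] {V' : Type w'} [AddCommGroup V']
    [Module k V'] {W : Type w''} [AddCommGroup W] [Module k W]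
    (c : HopfRep.Comod k A V) (c' : HopfRep.Comod k A V') (d : HopfRep.Comod k A W)
    (g : V →ₗ[k] V') (hg : IsHom c c' g) :
    IsHom (ComodTens.Comod.tensor c d) (ComodTens.Comod.tensor c' d) (g.rTensor W) := by
  have gen : ∀ (y : V ⊗[k] A) (z : W ⊗[k] A),
      TensorProduct.map LinearMap.id (LinearMap.mul' k A)
        (AlgebraTensorModule.tensorTensorTensorComm k k k k V' A W A ((g.rTensor A y) ⊗ₜ[k] z)) =
      (g.rTensor W).rTensor A (TensorProduct.map LinearMap.id (LinearMap.mul' k A)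
        (AlgebraTensorModule.tensorTensorTensorComm k k k k V A W A (y ⊗ₜ[k] z))) := by
    intro y z
    induction y using TensorProduct.induction_on with
    | zero => simp
    | tmul v a =>
      induction z using TensorProduct.induction_on with
      | zero => simp
      | tmul w a' => simp
      | add z₁ z₂ h₁ h₂ => simp only [TensorProduct.tmul_add, map_add, h₁, h₂]
    | add y₁ y₂ h₁ h₂ => simp only [TensorProduct.add_tmul, map_add, h₁, h₂]
  apply TensorProduct.ext'
  intro v w
  simp only [LinearMap.comp_apply, LinearMap.rTensor_tmul]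
  rw [ComodTens.tensor_coact_tmul, ComodTens.tensor_coact_tmul]
  have := LinearMap.congr_fun hg v
  simp only [LinearMap.comp_apply] at this
  rw [this, gen]

/-- transport of fixed points along `ofEquiv` -/
theorem mem_fixed_ofEquiv {X : Type w} [AddCommGroup X] [Module k X] {X' : Type w'} [AddCommGroup X']
    [Module k X'] (e : X ≃ₗ[k] X') (c : HopfRep.Comod k A X) (x : X) :
    e x ∈ fixed (ComodTens.Comod.ofEquiv e c) ↔ x ∈ fixed c := by
  rw [mem_fixed, mem_fixed, ComodTens.ofEquiv_coact_apply]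
  constructor
  · intro h
    have h2 : (e : X →ₗ[k] X').rTensor A (c.coact x) = (e : X →ₗ[k] X').rTensor A (x ⊗ₜ[k] (1 : A)) := by
      rw [h]; simp
    have hinj : Function.Injective ((e : X →ₗ[k] X').rTensor A) :=
      (LinearEquiv.rTensor A e).injective
    exact hinj h2
  · intro h
    rw [h]; simp

end abbrevs

section field
variable {k : Type u} [Field k] {A : Type v} [CommRing A] [HopfAlgebra k A]

theorem phi_rTensor {V : Type w} [AddCommGroup V] [Module k V] {Q : Type w'} [AddCommGroup Q]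
    [Module k Q] (g : V →ₗ[k] Q) (x : V ⊗[k] Module.Dual k Q) :
    dualTensorHom k Q Q (TensorProduct.comm k Q (Module.Dual k Q) (g.rTensor (Module.Dual k Q) x)) =
      g ∘ₗ dualTensorHom k Q V (TensorProduct.comm k V (Module.Dual k Q) x) := by
  induction x using TensorProduct.induction_on with
  | zero => simp
  | tmul v φ =>
    apply LinearMap.ext
    intro q
    simp [dualTensorHom_apply]
  | add x y hx hy => simp only [map_add, hx, hy, LinearMap.comp_add]

/-- a lift of the invariant `id` along `V ⊗ Q^* → Q ⊗ Q^*` produces a complement -/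
theorem exists_compl_of_lift {V : Type w} [AddCommGroup V] [Module k V] [Module.Finite k V]
    (cV : HopfRep.Comod k A V) (W₀ : Submodule k V) (hW₀ : IsSub cV W₀)
    (dQ : HopfRep.Comod k A (Module.Dual k (V ⧸ W₀)))
    (hdQ : ComodTens.Comod.IsDual (ComodSub.Comod.quot cV W₀ hW₀) dQ)
    (lift : ∀ y ∈ fixed (ComodTens.Comod.tensor (ComodSub.Comod.quot cV W₀ hW₀) dQ),
       ∃ x ∈ fixed (ComodTens.Comod.tensor cV dQ),
        (W₀.mkQ).rTensor (Module.Dual k (V ⧸ W₀)) x = y) :
    ∃ W' : Submodule k V, IsSub cV W' ∧ IsCompl W₀ W' := by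
  set cQ := ComodSub.Comod.quot cV W₀ hW₀ with hcQ
  haveI : Module.FinitePresentation k (V ⧸ W₀) := Module.finitePresentation_of_finite k _
  have bijY := FixHom.main cQ cQ dQ hdQ
  have bijX := FixHom.main cV cQ dQ hdQ
  have hid : (LinearMap.id : (V ⧸ W₀) →ₗ[k] (V ⧸ W₀)) ∈
      {h | @Hoch.IsComodHom k _ A _ _ _ _ _ _ cQ _ _ _ cQ h} := by
    show cQ.coact ∘ₗ LinearMap.id = (LinearMap.id).rTensor A ∘ₗ cQ.coact
    rw [LinearMap.rTensor_id, LinearMap.comp_id, LinearMap.id_comp]
  obtain ⟨y₀, hy₀, hy₀id⟩ := bijY.surjOn hid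
  obtain ⟨x, hx, hrx⟩ := lift y₀ hy₀
  have hs := bijX.mapsTo hx
  set s : (V ⧸ W₀) →ₗ[k] V :=
    dualTensorHom k (V ⧸ W₀) V (TensorProduct.comm k V (Module.Dual k (V ⧸ W₀)) x) with hsdef
  have hqs : W₀.mkQ ∘ₗ s = LinearMap.id := by
    rw [hsdef, ← phi_rTensor, hrx]
    exact hy₀id
  have hqs' : ∀ t, W₀.mkQ (s t) = t := fun t => LinearMap.congr_fun hqs t
  refine ⟨LinearMap.range s, ?_, ?_⟩
  · letI := cV
    letI := cQ
    exact Groth.Agent.Helper9.isSubcomod_range hs
  · rw [Groth.Agent.Helper9.isCompl_iff_mem']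
    constructor
    · rintro _ hx0 ⟨t, rfl⟩
      have h1 : W₀.mkQ (s t) = 0 := (Submodule.Quotient.mk_eq_zero W₀).mpr hx0
      rw [hqs'] at h1
      rw [h1, map_zero]
    · intro v
      refine ⟨v - s (W₀.mkQ v), ?_, s (W₀.mkQ v), ⟨_, rfl⟩, by abel⟩
      rw [← Submodule.Quotient.mk_eq_zero W₀]
      show W₀.mkQ (v - s (W₀.mkQ v)) = 0
      rw [map_sub, hqs', sub_self]

/-- transport of the lifting property to comodules in other universes -/
theorem lift_transport {X : Type w} [AddCommGroup X] [Module k X] {Y : Type w'} [AddCommGroup Y]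
    [Module k Y] (cX : HopfRep.Comod k A X) (cY : HopfRep.Comod k A Y) (r : X →ₗ[k] Y)
    (hr : IsHom cX cY r) (hrs : Function.Surjective r)
    {X' : Type v} [AddCommGroup X'] [Module k X'] {Y' : Type v} [AddCommGroup Y'] [Module k Y']
    (eX : X ≃ₗ[k] X') (eY : Y ≃ₗ[k] Y')
    (P : ∀ (V W : Type v) [AddCommGroup V] [Module k V] [HopfRep.Comod k A V]
        [AddCommGroup W] [Module k W] [HopfRep.Comod k A W] (φ : V →ₗ[k] W),
        LinearMap.rTensor A φ ∘ₗ HopfRep.Comod.coact (k := k) (A := A) (V := V) =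
            HopfRep.Comod.coact (k := k) (A := A) (V := W) ∘ₗ φ →
          Function.Surjective φ →
            ∀ w ∈ HopfRep.fixedPts k A W, ∃ v ∈ HopfRep.fixedPts k A V, φ v = w)
    (y : Y) (hy : y ∈ fixed cY) : ∃ x ∈ fixed cX, r x = y := by
  set cX' := ComodTens.Comod.ofEquiv eX cX with hcX'
  set cY' := ComodTens.Comod.ofEquiv eY cY with hcY'
  set r' : X' →ₗ[k] Y' := (eY : Y →ₗ[k] Y') ∘ₗ r ∘ₗ (eX.symm : X' →ₗ[k] X) with hr'def
  have hr'eX : ∀ x, r' (eX x) = eY (r x) := by
    intro x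
    simp [hr'def]
  have hr' : LinearMap.rTensor A r' ∘ₗ cX'.coact = cY'.coact ∘ₗ r' := by
    apply LinearMap.ext
    intro x'
    obtain ⟨x, rfl⟩ := eX.surjective x'
    simp only [LinearMap.comp_apply]
    rw [hr'eX, ComodTens.ofEquiv_coact_apply, ComodTens.ofEquiv_coact_apply]
    have h1 := LinearMap.congr_fun hr x
    simp only [LinearMap.comp_apply] at h1
    rw [h1]
    have h2 : ∀ t : X ⊗[k] A, (LinearMap.rTensor A r') ((LinearMap.rTensor A (eX : X →ₗ[k] X')) t) =
        (LinearMap.rTensor A (eY : Y →ₗ[k] Y')) ((LinearMap.rTensor A r) t) := by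
      intro t
      induction t using TensorProduct.induction_on with
      | zero => simp
      | tmul z a => simp [hr'eX]
      | add t₁ t₂ h₁ h₂ => simp only [map_add, h₁, h₂]
    exact h2 _
  have hr's : Function.Surjective r' := by
    intro y'
    obtain ⟨y1, rfl⟩ := eY.surjective y'
    obtain ⟨x1, rfl⟩ := hrs y1
    exact ⟨eX x1, hr'eX x1⟩
  obtain ⟨x', hx', hx'y⟩ := @P X' Y' _ _ cX' _ _ cY' r' hr' hr's (eY y)
    ((mem_fixed_ofEquiv eY cY y).mpr hy)
  obtain ⟨x, rfl⟩ := eX.surjective x'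
  refine ⟨x, (mem_fixed_ofEquiv eX cX x).mp hx', ?_⟩
  rw [hr'eX] at hx'y
  exact eY.injective hx'y

theorem main (k : Type u) [Field k] (A : Type v) [CommRing A] [HopfAlgebra k A] :
    HopfRep.IsLinearlyReductive k A ↔
      ∀ (V W : Type v) [AddCommGroup V] [Module k V] [HopfRep.Comod k A V]
        [AddCommGroup W] [Module k W] [HopfRep.Comod k A W] (φ : V →ₗ[k] W),
        LinearMap.rTensor A φ ∘ₗ HopfRep.Comod.coact (k := k) (A := A) (V := V) =
            HopfRep.Comod.coact (k := k) (A := A) (V := W) ∘ₗ φ →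
          Function.Surjective φ →
            ∀ w ∈ HopfRep.fixedPts k A W, ∃ v ∈ HopfRep.fixedPts k A V, φ v = w := by
  constructor
  · intro hG V W _ _ _ _ _ _ φ hφ hsurj w hw
    have hssV : HopfRep.IsSemisimpleComod k A V :=
      Groth.Agent.Helper9.semisimple_of_finite (fun V' _ _ _ hf => hG V' hf)
    have hssW : HopfRep.IsSemisimpleComod k A W :=
      Groth.Agent.Helper9.semisimple_of_finite (fun V' _ _ _ hf => hG V' hf)
    obtain ⟨E, hE₁, hE₂, hE₃⟩ := Groth.Agent.Helper9.exists_reynolds hssV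
    obtain ⟨E', hE'₁, hE'₂, hE'₃⟩ := Groth.Agent.Helper9.exists_reynolds hssW
    obtain ⟨v₀, rfl⟩ := hsurj w
    refine ⟨E v₀, (hE₃ _).mp (hE₂ v₀), ?_⟩
    have h1 := Groth.Agent.Helper9.reynolds_comm hssV E hE₁ hE₂ hE₃ E' hE'₁ hE'₂ hE'₃ φ hφ.symm v₀
    rw [← h1]
    exact (hE'₃ _).mpr hw
  · intro P V _ _ cV hfin W₀ hW₀
    haveI : Module.Finite k V := hfin
    set cQ := ComodSub.Comod.quot cV W₀ hW₀ with hcQ
    obtain ⟨dQ, hdQ⟩ := ComodDualAux.exists_isDual cQ
    apply exists_compl_of_lift cV W₀ hW₀ dQ hdQ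
    intro y hy
    let b := Module.finBasis k (V ⧸ W₀)
    let e : Module.Dual k (V ⧸ W₀) ≃ₗ[k] (V ⧸ W₀) := b.toDualEquiv.symm
    exact lift_transport (ComodTens.Comod.tensor cV dQ) (ComodTens.Comod.tensor cQ dQ)
      ((W₀.mkQ).rTensor (Module.Dual k (V ⧸ W₀)))
      (isHom_rTensor cV cQ dQ W₀.mkQ (ComodSub.isComodHom_mkQ cV W₀ hW₀))
      (LinearMap.rTensor_surjective _ W₀.mkQ_surjective)
      (TensorProduct.congr (LinearEquiv.refl k V) e)
      (TensorProduct.congr (LinearEquiv.refl k (V ⧸ W₀)) e) P y hy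

end field

end Groth.Agent.Helper8.LRExact
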