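import Mathlib
import Groth.Prelude.Def_HopfRep
import Groth.Prelude.Def_ComodSub
import Groth.Prelude.Def_ComodTens
import Groth.Prelude.Def_ComodDual
import Groth.Agent.Helper8.LRExact

set_option autoImplicit false
universe u v w w' w''

namespace Groth.Agent.Helper8.LRFix

open TensorProduct
open Groth.Agent.Helper8.LRExact

variable {k : Type u} [Field k] {A : Type v} [CommRing A] [HopfAlgebra k A]

/-- the "invariant vector not killed by an invariant functional" property gives lifting of invariants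
along surjections of finite-dimensional comodules -/
theorem lift_of_fixedPt
    (P' : ∀ (V : Type v) [AddCommGroup V] [Module k V] [HopfRep.Comod k A V], Module.Finite k V →
        ∀ π : V →ₗ[k] k, Function.Surjective π →
          LinearMap.rTensor A π ∘ₗ HopfRep.Comod.coact (k := k) (A := A) (V := V) =
            (TensorProduct.mk k k A).flip (1 : A) ∘ₗ π →
          ∃ v ∈ HopfRep.fixedPts k A V, π v ≠ 0)
    {X' : Type v} [AddCommGroup X'] [Module k X'] [Module.Finite k X']
    {Y' : Type w} [AddCommGroup Y'] [Module k Y']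
    (cX' : HopfRep.Comod k A X') (cY' : HopfRep.Comod k A Y') (r' : X' →ₗ[k] Y')
    (hr' : IsHom cX' cY' r') (hrs : Function.Surjective r')
    (y' : Y') (hy' : y' ∈ fixed cY') : ∃ x' ∈ fixed cX', r' x' = y' := by
  by_cases hy0 : y' = 0
  · exact ⟨0, Submodule.zero_mem _, by rw [map_zero, hy0]⟩
  -- a functional with φ y' = 1
  obtain ⟨φ, hφ⟩ : ∃ φ : Module.Dual k Y', φ y' = 1 := by
    have h := (Module.forall_dual_apply_eq_zero_iff k y').not.mpr hy0
    push_neg at h
    obtain ⟨ψ, hψ⟩ := h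
    refine ⟨(ψ y')⁻¹ • ψ, ?_⟩
    simp [hψ]
  set L : Submodule k Y' := Submodule.span k {y'} with hL
  have hLsub : IsSub cY' L := by
    intro z hz
    obtain ⟨c, rfl⟩ := Submodule.mem_span_singleton.mp hz
    refine ⟨(⟨c • y', hz⟩ : L) ⊗ₜ[k] (1 : A), ?_⟩
    rw [LinearMap.rTensor_tmul, map_smul]
    have : cY'.coact y' = y' ⊗ₜ[k] (1 : A) := hy'
    rw [this, TensorProduct.smul_tmul']
    rfl
  set X₁ : Submodule k X' := L.comap r' with hX₁
  have hX₁sub : IsSub cX' X₁ := by
    letI := cX'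
    letI := cY'
    exact Groth.Agent.Helper9.isSubcomod_comap hr' hLsub
  set c₁ := ComodSub.Comod.restr cX' X₁ hX₁sub with hc₁
  set π₁ : X₁ →ₗ[k] k := φ ∘ₗ r' ∘ₗ X₁.subtype with hπ₁
  have hπ₁r : ∀ x : X₁, r' x.1 = π₁ x • y' := by
    intro x
    obtain ⟨c, hc⟩ := Submodule.mem_span_singleton.mp x.2
    simp only [hπ₁, LinearMap.comp_apply, Submodule.subtype_apply]
    rw [← hc, map_smul, hφ, smul_eq_mul, mul_one]
  -- x with r' x = y'
  obtain ⟨x0, hx0⟩ := hrs y'
  have hx0mem : x0 ∈ X₁ := by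
    show r' x0 ∈ L
    rw [hx0]
    exact Submodule.mem_span_singleton_self y'
  have hπ₁surj : Function.Surjective π₁ := by
    intro c
    refine ⟨c • ⟨x0, hx0mem⟩, ?_⟩
    rw [map_smul]
    simp only [hπ₁, LinearMap.comp_apply, Submodule.subtype_apply, hx0, hφ, smul_eq_mul, mul_one]
  have hπ₁hom : LinearMap.rTensor A π₁ ∘ₗ c₁.coact = (TensorProduct.mk k k A).flip (1 : A) ∘ₗ π₁ := by
    apply LinearMap.ext
    intro x
    simp only [LinearMap.comp_apply, LinearMap.flip_apply, TensorProduct.mk_apply]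
    have h1 : X₁.subtype.rTensor A (c₁.coact x) = cX'.coact (x : X') :=
      ComodSub.restr_coact_coe cX' X₁ hX₁sub x
    have h2 : r'.rTensor A (cX'.coact (x : X')) = cY'.coact (r' x.1) := by
      have := LinearMap.congr_fun hr' x.1
      simp only [LinearMap.comp_apply] at this
      exact this.symm
    have h3 : cY'.coact (r' x.1) = (π₁ x • y') ⊗ₜ[k] (1 : A) := by
      rw [hπ₁r, map_smul]
      have : cY'.coact y' = y' ⊗ₜ[k] (1 : A) := hy'
      rw [this, TensorProduct.smul_tmul']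
    have h4 : LinearMap.rTensor A π₁ (c₁.coact x) =
        φ.rTensor A (r'.rTensor A (X₁.subtype.rTensor A (c₁.coact x))) := by
      rw [hπ₁, LinearMap.rTensor_comp, LinearMap.rTensor_comp]
      rfl
    rw [h4, h1, h2, h3, LinearMap.rTensor_tmul, map_smul, hφ, smul_eq_mul, mul_one]
  haveI : Module.Finite k X₁ := inferInstance
  obtain ⟨x₁, hx₁, hx₁ne⟩ := @P' X₁ _ _ c₁ inferInstance π₁ hπ₁surj hπ₁hom
  have hx₁fix : (x₁ : X') ∈ fixed cX' := by
    letI := cX'
    letI := c₁
    exact Groth.Agent.Helper9.map_mem_fixedPts (u := X₁.subtype)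
      (ComodSub.isComodHom_subtype cX' X₁ hX₁sub) hx₁
  refine ⟨(π₁ x₁)⁻¹ • (x₁ : X'), Submodule.smul_mem _ _ hx₁fix, ?_⟩
  rw [map_smul, hπ₁r, smul_smul, inv_mul_cancel₀ hx₁ne, one_smul]

/-- transport of the lifting property (for finite-dimensional sources) to comodules in other universes -/
theorem lift_transport_fin {X : Type w} [AddCommGroup X] [Module k X] [Module.Finite k X]
    {Y : Type w'} [AddCommGroup Y]
    [Module k Y] (cX : HopfRep.Comod k A X) (cY : HopfRep.Comod k A Y) (r : X →ₗ[k] Y)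
    (hr : IsHom cX cY r) (hrs : Function.Surjective r)
    {X' : Type v} [AddCommGroup X'] [Module k X'] {Y' : Type v} [AddCommGroup Y'] [Module k Y']
    (eX : X ≃ₗ[k] X') (eY : Y ≃ₗ[k] Y')
    (P' : ∀ (V : Type v) [AddCommGroup V] [Module k V] [HopfRep.Comod k A V], Module.Finite k V →
        ∀ π : V →ₗ[k] k, Function.Surjective π →
          LinearMap.rTensor A π ∘ₗ HopfRep.Comod.coact (k := k) (A := A) (V := V) =
            (TensorProduct.mk k k A).flip (1 : A) ∘ₗ π →
          ∃ v ∈ HopfRep.fixedPts k A V, π v ≠ 0)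
    (y : Y) (hy : y ∈ fixed cY) : ∃ x ∈ fixed cX, r x = y := by
  set cX' := ComodTens.Comod.ofEquiv eX cX with hcX'
  set cY' := ComodTens.Comod.ofEquiv eY cY with hcY'
  set r' : X' →ₗ[k] Y' := (eY : Y →ₗ[k] Y') ∘ₗ r ∘ₗ (eX.symm : X' →ₗ[k] X) with hr'def
  have hr'eX : ∀ x, r' (eX x) = eY (r x) := by
    intro x
    simp [hr'def]
  have hr' : LinearMap.rTensor A r' ∘ₗ cX'.coact = cY'.coact ∘ₗ r' := by
    apply LinearMap.ext
    intro x'
    obtain ⟨x, rfl⟩ := eX.surjective x'
    simp only [LinearMap.comp_apply]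
    rw [hr'eX, ComodTens.ofEquiv_coact_apply, ComodTens.ofEquiv_coact_apply]
    have h1 := LinearMap.congr_fun hr x
    simp only [LinearMap.comp_apply] at h1
    rw [h1]
    have h2 : ∀ t : X ⊗[k] A, (LinearMap.rTensor A r') ((LinearMap.rTensor A (eX : X →ₗ[k] X')) t) =
        (LinearMap.rTensor A (eY : Y →ₗ[k] Y')) ((LinearMap.rTensor A r) t) := by
      intro t
      induction t using TensorProduct.induction_on with
      | zero => simp
      | tmul z a => simp [hr'eX]
      | add t₁ t₂ h₁ h₂ => simp only [map_add, h₁, h₂]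
    exact h2 _
  have hr's : Function.Surjective r' := by
    intro y'
    obtain ⟨y1, rfl⟩ := eY.surjective y'
    obtain ⟨x1, rfl⟩ := hrs y1
    exact ⟨eX x1, hr'eX x1⟩
  haveI : Module.Finite k X' := Module.Finite.equiv eX
  obtain ⟨x', hx', hx'y⟩ := lift_of_fixedPt P' cX' cY' r' hr'.symm hr's (eY y)
    ((mem_fixed_ofEquiv eY cY y).mpr hy)
  obtain ⟨x, rfl⟩ := eX.surjective x'
  refine ⟨x, (mem_fixed_ofEquiv eX cX x).mp hx', ?_⟩
  rw [hr'eX] at hx'y
  exact eY.injective hx'y

theorem main (k : Type u) [Field k] (A : Type v) [CommRing A] [HopfAlgebra k A] :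
    HopfRep.IsLinearlyReductive k A ↔
      ∀ (V : Type v) [AddCommGroup V] [Module k V] [HopfRep.Comod k A V], Module.Finite k V →
        ∀ π : V →ₗ[k] k, Function.Surjective π →
          LinearMap.rTensor A π ∘ₗ HopfRep.Comod.coact (k := k) (A := A) (V := V) =
            (TensorProduct.mk k k A).flip (1 : A) ∘ₗ π →
          ∃ v ∈ HopfRep.fixedPts k A V, π v ≠ 0 := by
  constructor
  · intro hG V _ _ cV hfin π hπs hπ
    have hssV : HopfRep.IsSemisimpleComod k A V := hG V hfin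
    obtain ⟨E, hE₁, hE₂, hE₃⟩ := Groth.Agent.Helper9.exists_reynolds hssV
    obtain ⟨v₀, hv₀⟩ := hπs 1
    refine ⟨E v₀, (hE₃ _).mp (hE₂ v₀), ?_⟩
    letI ck : HopfRep.Comod k A k := HopfRep.Comod.trivial k A k
    have hπ' : Hoch.IsComodHom A π := hπ.symm
    have hid : Hoch.IsComodHom A (LinearMap.id : k →ₗ[k] k) := by
      show _ ∘ₗ LinearMap.id = (LinearMap.id).rTensor A ∘ₗ _
      rw [LinearMap.rTensor_id, LinearMap.comp_id, LinearMap.id_comp]
    have h1 := Groth.Agent.Helper9.reynolds_comm hssV E hE₁ hE₂ hE₃ (LinearMap.id : k →ₗ[k] k) hid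
      (fun _ => rfl) (fun y => ⟨fun _ => rfl, fun _ => rfl⟩) π hπ' v₀
    rw [LinearMap.id_apply, hv₀] at h1
    rw [← h1]
    exact one_ne_zero
  · intro P' V _ _ cV hfin W₀ hW₀
    haveI : Module.Finite k V := hfin
    set cQ := ComodSub.Comod.quot cV W₀ hW₀ with hcQ
    obtain ⟨dQ, hdQ⟩ := ComodDualAux.exists_isDual cQ
    apply exists_compl_of_lift cV W₀ hW₀ dQ hdQ
    intro y hy
    let b := Module.finBasis k (V ⧸ W₀)
    let e : Module.Dual k (V ⧸ W₀) ≃ₗ[k] (V ⧸ W₀) := b.toDualEquiv.symm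
    exact lift_transport_fin (ComodTens.Comod.tensor cV dQ) (ComodTens.Comod.tensor cQ dQ)
      ((W₀.mkQ).rTensor (Module.Dual k (V ⧸ W₀)))
      (isHom_rTensor cV cQ dQ W₀.mkQ (ComodSub.isComodHom_mkQ cV W₀ hW₀))
      (LinearMap.rTensor_surjective _ W₀.mkQ_surjective)
      (TensorProduct.congr (LinearEquiv.refl k V) e)
      (TensorProduct.congr (LinearEquiv.refl k (V ⧸ W₀)) e) P' y hy

end Groth.Agent.Helper8.LRFix
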