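import Mathlib.FieldTheory.IsSepClosed
import Mathlib.Algebra.CharP.Lemmas
import Mathlib.LinearAlgebra.FiniteDimensional.Defs
import Mathlib.LinearAlgebra.FiniteDimensional.Lemmas
import Mathlib.LinearAlgebra.Dimension.Constructions
import Mathlib.LinearAlgebra.Basis.VectorSpace
import Mathlib.FieldTheory.Separable
import Mathlib.RingTheory.Artinian.Module
import Mathlib.LinearAlgebra.Dimension.OrzechProperty
import Mathlib.LinearAlgebra.LinearIndependent.Lemmas

set_option autoImplicit false

namespace Groth.Agent.Helper8.QLin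

open Polynomial

section poly

variable {k : Type*} [Field k] [IsSepClosed k] (p : ℕ) [Fact p.Prime] [CharP k p]

/-- Artin–Schreier: `t - t^q = c` is solvable. -/
theorem exists_AS (r : ℕ) (hr : 0 < r) (c : k) : ∃ t : k, t - t ^ (p ^ r) = c := by
  have hp : p.Prime := Fact.out
  have h2 : 2 ≤ p ^ r := by
    calc 2 ≤ p := hp.two_le
      _ = p ^ 1 := (pow_one p).symm
      _ ≤ p ^ r := Nat.pow_le_pow_right hp.pos hr
  obtain ⟨t, ht⟩ := IsSepClosed.exists_root_C_mul_X_pow_add_C_mul_X_add_C' p (p ^ r) (-1 : k) 1 (-c)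
    (dvd_pow_self p hr.ne') h2 one_ne_zero
  refine ⟨t, ?_⟩
  linear_combination ht

/-- auxiliary polynomials -/
noncomputable def Raux (q : ℕ) (d : ℕ → k) : ℕ → k[X]
  | 0 => 1
  | (i + 1) => X ^ (q - 1) * (Raux q d i) ^ q + C (d (i + 1))

theorem Raux_monic (q : ℕ) (hq : 2 ≤ q) (d : ℕ → k) (i : ℕ) : (Raux q d i).Monic := by
  induction i with
  | zero => exact monic_one
  | succ i ih =>
    have h1 : (X ^ (q - 1) * (Raux q d i) ^ q : k[X]).Monic := (monic_X_pow _).mul (ih.pow q)
    have h2 : (X ^ (q - 1) * (Raux q d i) ^ q : k[X]).natDegree = (q - 1) + q * (Raux q d i).natDegree := by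
      rw [Monic.natDegree_mul (monic_X_pow _) (ih.pow q), natDegree_X_pow, Monic.natDegree_pow ih]
    apply Monic.add_of_left h1
    rw [degree_eq_natDegree h1.ne_zero, h2]
    calc (C (d (i + 1)) : k[X]).degree ≤ 0 := degree_C_le
      _ < ((q - 1 + q * (Raux q d i).natDegree : ℕ) : WithBot ℕ) := by
        exact_mod_cast (by omega : 0 < q - 1 + q * (Raux q d i).natDegree)

/-- the key existence of a nonzero solution of the cyclic system -/
theorem exists_cyclic_solution (r : ℕ) (hr : 0 < r) (c : ℕ → k) (hc0 : c 0 ≠ 0) (m' : ℕ) :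
    ∃ t : ℕ → k, t 0 ≠ 0 ∧ (∀ i, t (i + 1) = t i ^ (p ^ r) + (c (i + 1) / c 0) * t 0) ∧
      c 0 * t m' ^ (p ^ r) = t 0 := by
  have hp : p.Prime := Fact.out
  set q := p ^ r with hq
  have h2 : 2 ≤ q := by
    calc 2 ≤ p := hp.two_le
      _ = p ^ 1 := (pow_one p).symm
      _ ≤ p ^ r := Nat.pow_le_pow_right hp.pos hr
  have hq0 : ((q : ℕ) : k) = 0 := by
    rw [hq, CharP.cast_eq_zero_iff k p]; exact dvd_pow_self p hr.ne'
  set d : ℕ → k := fun i => c i / c 0 with hd
  set R := Raux q d with hR
  have hmonic := Raux_monic q h2 d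
  -- M and L
  set M : k[X] := X ^ (q - 1) * (R m') ^ q - C (1 / c 0) with hM
  have hL : X * M = (X * R m') ^ q - C (1 / c 0) * X := by
    rw [hM, mul_pow]
    have : (X : k[X]) ^ q = X * X ^ (q - 1) := by
      rw [← pow_succ']; congr 1; omega
    rw [this]; ring
  have hsepL : (X * M).Separable := by
    rw [hL, separable_def]
    have hder : derivative ((X * R m') ^ q - C (1 / c 0) * X) = - C (1 / c 0) := by
      rw [derivative_sub, derivative_pow, hq0, derivative_C_mul, derivative_X]
      simp
    rw [hder]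
    have hu : IsUnit (- C (1 / c 0) : k[X]) := by
      apply IsUnit.neg
      exact isUnit_C.mpr (isUnit_iff_ne_zero.mpr (one_div_ne_zero hc0))
    obtain ⟨u, hu⟩ := hu
    refine ⟨0, ↑u⁻¹, ?_⟩
    rw [← hu]; simp
  have hsepM : M.Separable := hsepL.of_mul_right
  have h1 : (X ^ (q - 1) * (R m') ^ q : k[X]).Monic := (monic_X_pow _).mul ((hmonic m').pow q)
  have h2' : (X ^ (q - 1) * (R m') ^ q : k[X]).natDegree = (q - 1) + q * (R m').natDegree := by
    rw [Monic.natDegree_mul (monic_X_pow _) ((hmonic m').pow q), natDegree_X_pow,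
      Monic.natDegree_pow (hmonic m')]
  have hdeg : M.degree ≠ 0 := by
    rw [hM, degree_sub_C, degree_eq_natDegree h1.ne_zero, h2']
    · exact_mod_cast (by omega : q - 1 + q * (R m').natDegree ≠ 0)
    · rw [degree_eq_natDegree h1.ne_zero, h2']
      exact_mod_cast (by omega : 0 < q - 1 + q * (R m').natDegree)
  obtain ⟨z, hz⟩ := IsSepClosed.exists_root M hdeg hsepM
  rw [IsRoot, hM, eval_sub, eval_mul, eval_pow, eval_X, eval_pow, eval_C] at hz
  have hz0 : z ≠ 0 := by
    rintro rfl
    rw [zero_pow (by omega), zero_mul, zero_sub, neg_eq_zero] at hz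
    exact one_div_ne_zero hc0 hz
  refine ⟨fun i => z * eval z (R i), ?_, ?_, ?_⟩
  · simp only [hR, Raux, eval_one, mul_one]; exact hz0
  · intro i
    simp only [hR, Raux, eval_add, eval_mul, eval_pow, eval_X, eval_C, eval_one, mul_one]
    have : z ^ q = z * z ^ (q - 1) := by
      rw [← pow_succ']; congr 1; omega
    rw [mul_pow, this, hd]; ring
  · simp only [hR, Raux, eval_one, mul_one]
    have : z ^ q = z * z ^ (q - 1) := by
      rw [← pow_succ']; congr 1; omega
    rw [mul_pow, this]
    have hz' : z ^ (q - 1) * eval z (R m') ^ q = 1 / c 0 := by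
      rw [← sub_eq_zero]; exact hz
    rw [hR] at hz'
    rw [mul_assoc, hz']
    field_simp

end poly

section semilinear

open Module Submodule

variable {k : Type*} [Field k] {σ : k →+* k}
  {V : Type*} [AddCommGroup V] [Module k V] (g : V →ₛₗ[σ] V)

theorem map_mem_span_image (S : Set V) {x : V} (hx : x ∈ span k S) : g x ∈ span k (g '' S) := by
  induction hx using Submodule.span_induction with
  | mem x hx => exact subset_span ⟨x, hx, rfl⟩
  | zero => rw [map_zero]; exact zero_mem _
  | add x y _ _ hx hy => rw [map_add]; exact add_mem hx hy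
  | smul c x _ hx => rw [map_smulₛₗ]; exact smul_mem _ _ hx

theorem finrank_span_image_le [FiniteDimensional k V] (H : Submodule k V) :
    finrank k (span k (g '' (H : Set V))) ≤ finrank k H := by
  let b := Module.finBasis k H
  have h1 : span k (g '' (H : Set V)) ≤ span k (Set.range fun j => g (b j : V)) := by
    rw [span_le]
    rintro _ ⟨x, hx, rfl⟩
    have hx' : x ∈ span k (Set.range fun j => (b j : V)) := by
      have := b.mem_span ⟨x, hx⟩
      have h2 : (⟨x, hx⟩ : H) ∈ span k (Set.range b) := this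
      have h3 := Submodule.apply_mem_span_image_of_mem_span H.subtype h2
      rw [← Set.range_comp] at h3
      exact h3
    have := map_mem_span_image g _ hx'
    rw [← Set.range_comp] at this
    exact this
  calc finrank k (span k (g '' (H : Set V))) ≤ finrank k (span k (Set.range fun j => g (b j : V))) :=
        Submodule.finrank_mono h1
    _ ≤ Fintype.card (Fin (finrank k H)) := finrank_range_le_card _
    _ = finrank k H := Fintype.card_fin _

theorem linearIndependent_map [FiniteDimensional k V] (hss : span k (Set.range g) = ⊤)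
    {ι : Type*} [Fintype ι] (v : ι → V) (hv : LinearIndependent k v) :
    LinearIndependent k (fun i => g (v i)) := by
  rw [linearIndependent_iff_card_eq_finrank_span]
  set H := span k (Set.range v) with hH
  have hHr : finrank k H = Fintype.card ι := finrank_span_eq_card hv
  obtain ⟨H', hc⟩ := Submodule.exists_isCompl H
  have hsum := Submodule.finrank_add_eq_of_isCompl hc
  have h1 : (⊤ : Submodule k V) ≤ span k (g '' (H : Set V)) ⊔ span k (g '' (H' : Set V)) := by
    rw [← hss, span_le]
    rintro _ ⟨x, rfl⟩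
    have hx : x ∈ H ⊔ H' := by rw [hc.sup_eq_top]; trivial
    obtain ⟨h, hh, h', hh', rfl⟩ := Submodule.mem_sup.mp hx
    rw [map_add]
    exact add_mem (mem_sup_left (subset_span ⟨h, hh, rfl⟩)) (mem_sup_right (subset_span ⟨h', hh', rfl⟩))
  have h2 : finrank k V ≤ finrank k (span k (g '' (H : Set V))) + finrank k H' := by
    calc finrank k V = finrank k (⊤ : Submodule k V) := (finrank_top k V).symm
      _ ≤ finrank k ↥(span k (g '' (H : Set V)) ⊔ span k (g '' (H' : Set V))) :=
        Submodule.finrank_mono h1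
      _ ≤ finrank k (span k (g '' (H : Set V))) + finrank k (span k (g '' (H' : Set V))) :=
        Submodule.finrank_add_le_finrank_add_finrank _ _
      _ ≤ finrank k (span k (g '' (H : Set V))) + finrank k H' :=
        Nat.add_le_add_left (finrank_span_image_le g H') _
  have h3 : span k (g '' (H : Set V)) ≤ span k (Set.range fun i => g (v i)) := by
    rw [span_le]
    rintro _ ⟨x, hx, rfl⟩
    have := map_mem_span_image g _ hx
    rw [← Set.range_comp] at this
    exact this
  have h4 : finrank k (span k (g '' (H : Set V))) ≤ finrank k (span k (Set.range fun i => g (v i))) :=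
    Submodule.finrank_mono h3
  have h5 : finrank k (span k (Set.range fun i => g (v i))) ≤ Fintype.card ι :=
    finrank_range_le_card _
  show Fintype.card ι = finrank k (span k (Set.range fun i => g (v i)))
  omega

theorem exists_fixed_ne_zero [IsSepClosed k] (p : ℕ) [Fact p.Prime] [CharP k p] (r : ℕ) (hr : 0 < r)
    (hσ : ∀ c, σ c = c ^ (p ^ r)) [FiniteDimensional k V] [Nontrivial V]
    (hss : span k (Set.range g) = ⊤) : ∃ x : V, x ≠ 0 ∧ g x = x := by
  obtain ⟨x₀, hx₀⟩ := exists_ne (0 : V)
  set u : ℕ → V := fun i => g^[i] x₀ with hu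
  have hu0 : u 0 = x₀ := rfl
  have hus : ∀ i, u (i + 1) = g (u i) := fun i => Function.iterate_succ_apply' g i x₀
  let D : ℕ → Prop := fun m => u m ∈ span k (Set.range fun i : Fin m => u i)
  have hstep : ∀ j, (∀ i, i < j → ¬ D i) → LinearIndependent k (fun i : Fin j => u i) := by
    intro j
    induction j with
    | zero => intro _; exact linearIndependent_empty_type
    | succ j ih =>
      intro h
      rw [linearIndependent_finSucc']
      exact ⟨ih (fun i hi => h i (by omega)), h j (by omega)⟩
  have hex : ∃ m, D m := by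
    by_contra hne
    push Not at hne
    have := (hstep (finrank k V + 1) (fun i _ => hne i)).fintype_card_le_finrank
    rw [Fintype.card_fin] at this
    omega
  classical
  set m := Nat.find hex with hmdef
  have hm : D m := Nat.find_spec hex
  have hmin : ∀ i, i < m → ¬ D i := fun i hi => Nat.find_min hex hi
  have hindep : LinearIndependent k (fun i : Fin m => u i) := hstep m hmin
  have hm0 : m ≠ 0 := by
    intro h0
    rw [h0] at hm
    have : u 0 ∈ span k (Set.range fun i : Fin 0 => u i) := hm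
    have hempty : (Set.range fun i : Fin 0 => u i) = ∅ := Set.range_eq_empty _
    rw [hempty, span_empty, mem_bot] at this
    exact hx₀ this
  obtain ⟨m', hm'⟩ := Nat.exists_eq_succ_of_ne_zero hm0
  obtain ⟨c, hc⟩ := (mem_span_range_iff_exists_fun k).mp hm
  set c' : ℕ → k := fun i => if h : i < m then c ⟨i, h⟩ else 0 with hc'
  have hrel : u m = ∑ i ∈ Finset.range m, c' i • u i := by
    rw [Finset.sum_range, ← hc]
    refine Finset.sum_congr rfl (fun i _ => ?_)
    simp [hc', i.2]
  rw [hm'] at hrel hindep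
  have hrel' : u (m' + 1) = ∑ i ∈ Finset.range m', c' (i + 1) • u (i + 1) + c' 0 • u 0 := by
    rw [hrel, Finset.sum_range_succ']
  -- c' 0 ≠ 0
  have hindep2 : LinearIndependent k (fun i : Fin (m' + 1) => u ((i : ℕ) + 1)) := by
    have := linearIndependent_map g hss _ hindep
    simpa only [hus] using this
  have hc0 : c' 0 ≠ 0 := by
    intro h0
    rw [h0, zero_smul, add_zero] at hrel'
    have h2 := (linearIndependent_finSucc'.mp hindep2).2
    apply h2
    show u (m' + 1) ∈ _
    rw [hrel', Finset.sum_range]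
    refine Submodule.sum_mem _ (fun i _ => Submodule.smul_mem _ _ (subset_span ⟨i, ?_⟩))
    simp [Fin.init]
  obtain ⟨t, ht0, hts, htm⟩ := exists_cyclic_solution p r hr c' hc0 m'
  refine ⟨∑ i ∈ Finset.range (m' + 1), t i • u i, ?_, ?_⟩
  · intro hx
    rw [Finset.sum_range] at hx
    have := Fintype.linearIndependent_iff.mp hindep (fun i => t i) hx ⟨0, by omega⟩
    exact ht0 this
  · have h1 : g (∑ i ∈ Finset.range (m' + 1), t i • u i) =
        ∑ i ∈ Finset.range (m' + 1), (t i) ^ (p ^ r) • u (i + 1) := by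
      rw [map_sum]
      refine Finset.sum_congr rfl (fun i _ => ?_)
      rw [map_smulₛₗ, hσ, hus]
    rw [h1, Finset.sum_range_succ, hrel', Finset.sum_range_succ' (fun i => t i • u i), smul_add,
      Finset.smul_sum, ← add_assoc, ← Finset.sum_add_distrib, smul_smul, mul_comm, htm]
    congr 1
    refine Finset.sum_congr rfl (fun i _ => ?_)
    rw [smul_smul, ← add_smul, hts i]
    congr 1
    have : t m' ^ p ^ r = t 0 / c' 0 := by
      rw [← htm]; field_simp
    rw [this]; ring

/-- the `k`-span of the fixed vectors -/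
def fixSpan : Submodule k V := span k {x | g x = x}

theorem map_mem_fixSpan {x : V} (hx : x ∈ fixSpan g) : g x ∈ fixSpan g := by
  have := map_mem_span_image g _ hx
  refine span_mono ?_ this
  rintro _ ⟨b, hb, rfl⟩
  have hb' : g b = b := hb
  show g (g b) = g b
  rw [hb', hb']

theorem exists_sub_map_eq_of_mem_fixSpan [IsSepClosed k] (p : ℕ) [Fact p.Prime] [CharP k p] (r : ℕ)
    (hr : 0 < r) (hσ : ∀ c, σ c = c ^ (p ^ r)) {w : V} (hw : w ∈ fixSpan g) :
    ∃ y ∈ fixSpan g, y - g y = w := by
  have key : ∀ c : k, ∃ y ∈ fixSpan g, y - g y = c • w := by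
    induction hw using Submodule.span_induction with
    | mem b hb =>
      intro c
      obtain ⟨t, ht⟩ := exists_AS p r hr c
      refine ⟨t • b, smul_mem _ _ (subset_span hb), ?_⟩
      have hb' : g b = b := hb
      rw [map_smulₛₗ, hσ, hb', ← sub_smul, ht]
    | zero => intro c; exact ⟨0, zero_mem _, by simp⟩
    | add x y _ _ hx hy =>
      intro c
      obtain ⟨y1, h1, e1⟩ := hx c
      obtain ⟨y2, h2, e2⟩ := hy c
      refine ⟨y1 + y2, add_mem h1 h2, ?_⟩
      rw [map_add, smul_add, ← e1, ← e2]; abel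
    | smul a x _ hx =>
      intro c
      obtain ⟨y, h, e⟩ := hx (c * a)
      exact ⟨y, h, by rw [e, mul_smul]⟩
  obtain ⟨y, hy, e⟩ := key 1
  exact ⟨y, hy, by rw [e, one_smul]⟩

theorem fixSpan_eq_top [IsSepClosed k] (p : ℕ) [Fact p.Prime] [CharP k p] (r : ℕ) (hr : 0 < r)
    (hσ : ∀ c, σ c = c ^ (p ^ r)) [FiniteDimensional k V]
    (hss : span k (Set.range g) = ⊤) : fixSpan g = ⊤ := by
  by_contra hne
  set W := fixSpan g with hW
  have hWc : W ≤ W.comap g := fun x hx => map_mem_fixSpan g hx
  set gq : (V ⧸ W) →ₛₗ[σ] (V ⧸ W) := W.mapQ W g hWc with hgq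
  have : Nontrivial (V ⧸ W) := Submodule.Quotient.nontrivial_iff.mpr hne
  have hssq : span k (Set.range gq) = ⊤ := by
    rw [eq_top_iff]
    intro y _
    obtain ⟨y, rfl⟩ := Submodule.mkQ_surjective W y
    have hy : y ∈ span k (Set.range g) := by rw [hss]; trivial
    have := Submodule.apply_mem_span_image_of_mem_span W.mkQ hy
    refine span_mono ?_ this
    rintro _ ⟨_, ⟨x, rfl⟩, rfl⟩
    exact ⟨W.mkQ x, by simp [hgq, Submodule.mapQ_apply]⟩
  obtain ⟨xq, hxq0, hxq⟩ := exists_fixed_ne_zero gq p r hr hσ hssq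
  obtain ⟨x₀, rfl⟩ := Submodule.mkQ_surjective W xq
  have h1 : g x₀ - x₀ ∈ W := by
    have : W.mkQ (g x₀) = W.mkQ x₀ := by
      have := hxq
      simpa [hgq, Submodule.mapQ_apply] using this
    rw [Submodule.mkQ_apply, Submodule.mkQ_apply, Submodule.Quotient.eq] at this
    exact this
  obtain ⟨y, hy, e⟩ := exists_sub_map_eq_of_mem_fixSpan g p r hr hσ h1
  have hfix : g (x₀ + y) = x₀ + y := by
    rw [map_add]
    have : g y = y - (g x₀ - x₀) := by rw [← e]; abel
    rw [this]; abel
  have hmem : x₀ + y ∈ W := subset_span hfix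
  have hx₀ : x₀ ∈ W := by
    have := sub_mem hmem hy
    simpa using this
  apply hxq0
  rw [Submodule.mkQ_apply, Submodule.Quotient.mk_eq_zero]
  exact hx₀

theorem exists_basis_fixed [IsSepClosed k] (p : ℕ) [Fact p.Prime] [CharP k p] (r : ℕ) (hr : 0 < r)
    (hσ : ∀ c, σ c = c ^ (p ^ r)) [FiniteDimensional k V]
    (hss : span k (Set.range g) = ⊤) :
    ∃ b : Basis (Fin (finrank k V)) k V, ∀ i, g (b i) = b i := by
  have htop := fixSpan_eq_top g p r hr hσ hss
  obtain ⟨B, hBsub, hBspan, hBli⟩ := exists_linearIndependent k {x : V | g x = x}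
  have hBtop : ⊤ ≤ span k (Set.range ((↑) : B → V)) := by
    rw [Subtype.range_coe, hBspan]
    exact htop.ge
  let b0 : Basis B k V := Basis.mk hBli hBtop
  have : Fintype B := (hBli.setFinite).fintype
  have hcard : Fintype.card B = finrank k V := (Module.finrank_eq_card_basis b0).symm
  let e : B ≃ Fin (finrank k V) := Fintype.equivFinOfCardEq hcard
  refine ⟨b0.reindex e, fun i => ?_⟩
  rw [Basis.reindex_apply, Basis.mk_apply]
  exact hBsub (e.symm i).2

theorem repr_fixed {ι : Type*} [Fintype ι] (b : Basis ι k V)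
    (hb : ∀ i, g (b i) = b i) (v : V) (hv : g v = v) (i : ι) : σ (b.repr v i) = b.repr v i := by
  have h1 : g v = ∑ j, σ (b.repr v j) • b j := by
    conv_lhs => rw [← b.sum_repr v]
    rw [map_sum]
    refine Finset.sum_congr rfl (fun j _ => ?_)
    rw [map_smulₛₗ, hb]
  have h2 : b.repr (g v) i = b.repr v i := by rw [hv]
  rw [h1, b.repr_sum_self] at h2
  exact h2

/-- restriction of a semilinear endomorphism to a stable subspace -/
def restr (S : Submodule k V) (hS : ∀ x ∈ S, g x ∈ S) : S →ₛₗ[σ] S :=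
  (g.domRestrict S).codRestrict S (fun x => hS x x.2)

@[simp] theorem restr_apply (S : Submodule k V) (hS : ∀ x ∈ S, g x ∈ S) (x : S) :
    ((restr g S hS x : S) : V) = g x := rfl

theorem sub_map_surjective [IsSepClosed k] (p : ℕ) [Fact p.Prime] [CharP k p] (r : ℕ) (hr : 0 < r)
    (hσ : ∀ c, σ c = c ^ (p ^ r)) [FiniteDimensional k V] :
    ∀ b : V, ∃ x : V, x - g x = b := by
  induction hn : finrank k V using Nat.strong_induction_on generalizing V with
  | _ n ih =>
    intro b
    by_cases hss : span k (Set.range g) = ⊤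
    · have htop := fixSpan_eq_top g p r hr hσ hss
      obtain ⟨y, _, e⟩ := exists_sub_map_eq_of_mem_fixSpan g p r hr hσ (w := b) (by rw [htop]; trivial)
      exact ⟨y, e⟩
    · set S := span k (Set.range g) with hSdef
      have hS : ∀ x ∈ S, g x ∈ S := fun x _ => subset_span ⟨x, rfl⟩
      have hlt : finrank k S < n := by
        rw [← hn]
        exact Submodule.finrank_lt hss
      have hgb : g b ∈ S := subset_span ⟨b, rfl⟩
      obtain ⟨w, hw⟩ := ih (finrank k S) hlt (restr g S hS) rfl ⟨g b, hgb⟩
      have hw' : (w : V) - g w = g b := by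
        have := congrArg (Subtype.val) hw
        simpa using this
      refine ⟨b + w, ?_⟩
      rw [map_add]
      have : g (w : V) = w - g b := by rw [← hw']; abel
      rw [this]; abel

/-- the decreasing chain of spans of images of iterates -/
def iterSpan (j : ℕ) : Submodule k V := span k (Set.range (g^[j]))

theorem iterSpan_succ_le (j : ℕ) : iterSpan g (j + 1) ≤ iterSpan g j := by
  apply span_mono
  rintro _ ⟨y, rfl⟩
  exact ⟨g y, (Function.iterate_succ_apply g j y).symm⟩

theorem iterSpan_antitone : Antitone (iterSpan g) := antitone_nat_of_succ_le (iterSpan_succ_le g)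

theorem span_image_iterSpan (j : ℕ) : span k (g '' (iterSpan g j : Set V)) = iterSpan g (j + 1) := by
  apply le_antisymm
  · rw [span_le]
    rintro _ ⟨x, hx, rfl⟩
    have := map_mem_span_image g _ hx
    refine span_mono ?_ this
    rintro _ ⟨_, ⟨y, rfl⟩, rfl⟩
    exact ⟨y, Function.iterate_succ_apply' g j y⟩
  · apply span_mono
    rintro _ ⟨y, rfl⟩
    exact ⟨g^[j] y, subset_span ⟨y, rfl⟩, (Function.iterate_succ_apply' g j y).symm⟩

/-- the semisimple part -/
def ssPart : Submodule k V := ⨅ n : ℕ, iterSpan g (n + 1)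

theorem exists_ssPart_eq [FiniteDimensional k V] :
    ∃ N, 1 ≤ N ∧ ssPart g = iterSpan g N ∧ iterSpan g (N + 1) = iterSpan g N := by
  obtain ⟨N, hN⟩ := IsArtinian.monotone_stabilizes
    (⟨fun j => OrderDual.toDual (iterSpan g j), fun i j hij => iterSpan_antitone g hij⟩ :
      ℕ →o (Submodule k V)ᵒᵈ)
  have hN' : ∀ j, N ≤ j → iterSpan g N = iterSpan g j := fun j hj => hN j hj
  refine ⟨max N 1, le_max_right _ _, ?_, ?_⟩
  · apply le_antisymm
    · have : max N 1 = (max N 1 - 1) + 1 := by omega
      rw [this]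
      exact iInf_le _ _
    · apply le_iInf
      intro n
      by_cases h : n + 1 ≤ max N 1
      · exact iterSpan_antitone g h
      · rw [← hN' (n + 1) (by omega), ← hN' (max N 1) (le_max_left _ _)]
  · rw [← hN' (max N 1 + 1) (by omega), ← hN' (max N 1) (le_max_left _ _)]

theorem map_mem_ssPart [FiniteDimensional k V] {x : V} (hx : x ∈ ssPart g) : g x ∈ ssPart g := by
  obtain ⟨N, _, h1, h2⟩ := exists_ssPart_eq g
  rw [h1] at hx ⊢
  rw [← h2, ← span_image_iterSpan]
  exact subset_span ⟨x, hx, rfl⟩

theorem ssPart_semisimple [FiniteDimensional k V] :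
    span k (Set.range (restr g (ssPart g) (fun _ hx => map_mem_ssPart g hx))) = ⊤ := by
  obtain ⟨N, _, h1, h2⟩ := exists_ssPart_eq g
  rw [eq_top_iff]
  rintro ⟨x, hx⟩ _
  have hx' : x ∈ span k (g '' (ssPart g : Set V)) := by
    rw [h1, span_image_iterSpan, h2, ← h1]; exact hx
  -- transfer to the subtype
  have key : ∀ y (hy : y ∈ span k (g '' (ssPart g : Set V))), ∀ hy' : y ∈ ssPart g,
      (⟨y, hy'⟩ : ssPart g) ∈
        span k (Set.range (restr g (ssPart g) (fun _ hx => map_mem_ssPart g hx))) := by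
    intro y hy
    induction hy using Submodule.span_induction with
    | mem y hy =>
      intro hy'
      obtain ⟨z, hz, rfl⟩ := hy
      exact subset_span ⟨⟨z, hz⟩, rfl⟩
    | zero => intro _; exact zero_mem _
    | add a b ha hb iha ihb =>
      intro hy'
      have ha' : a ∈ ssPart g := by
        rw [h1, ← h2, ← span_image_iterSpan, ← h1]; exact ha
      have hb' : b ∈ ssPart g := by
        rw [h1, ← h2, ← span_image_iterSpan, ← h1]; exact hb
      have : (⟨a + b, hy'⟩ : ssPart g) = ⟨a, ha'⟩ + ⟨b, hb'⟩ := rfl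
      rw [this]
      exact add_mem (iha ha') (ihb hb')
    | smul c a ha iha =>
      intro hy'
      have ha' : a ∈ ssPart g := by
        rw [h1, ← h2, ← span_image_iterSpan, ← h1]; exact ha
      have : (⟨c • a, hy'⟩ : ssPart g) = c • ⟨a, ha'⟩ := rfl
      rw [this]
      exact smul_mem _ _ (iha ha')
  exact key x hx' hx

end semilinear

section final

open Module Submodule

variable {k : Type*} [Field k] [IsSepClosed k] (p : ℕ) [Fact p.Prime] [CharP k p]
  (r : ℕ) {V : Type*} [AddCommGroup V] [Module k V]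
  (φ : V →+ V) (hφ : ∀ (c : k) (v : V), φ (c • v) = c ^ (p ^ r) • φ v)

/-- the semilinear map attached to `φ` -/
def toSemi : V →ₛₗ[iterateFrobenius k p r] V where
  toFun := φ
  map_add' := φ.map_add
  map_smul' := fun c v => by rw [hφ, iterateFrobenius_def]

theorem toSemi_apply (v : V) : toSemi p r φ hφ v = φ v := rfl

theorem coe_toSemi : ⇑(toSemi p r φ hφ) = ⇑φ := rfl

theorem hσ (c : k) : iterateFrobenius k p r c = c ^ (p ^ r) := iterateFrobenius_def p r c

include hφ in
theorem iter_sum (n : ℕ) {ι : Type*} (s : Finset ι) (f : ι → V) :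
    φ^[n] (∑ i ∈ s, f i) = ∑ i ∈ s, φ^[n] (f i) := by
  induction n with
  | zero => rfl
  | succ n ih =>
    simp only [Function.iterate_succ_apply', ih, map_sum]

include hφ in
theorem iter_smul (n : ℕ) (c : k) (v : V) : φ^[n] (c • v) = c ^ ((p ^ r) ^ n) • φ^[n] v := by
  induction n with
  | zero => simp
  | succ n ih =>
    rw [Function.iterate_succ_apply', ih, hφ, Function.iterate_succ_apply', ← pow_mul, ← pow_succ]

variable [FiniteDimensional k V] (hr : 0 < r)

include hr hφ in
theorem main_3212 (hss : span k (Set.range φ) = ⊤) :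
    ∃ b : Basis (Fin (finrank k V)) k V, (∀ i, φ (b i) = b i) ∧
      ∀ v : V, φ v = v → ∀ i, (b.repr v i) ^ (p ^ r) = b.repr v i := by
  obtain ⟨b, hb⟩ := exists_basis_fixed (toSemi p r φ hφ) p r hr (hσ p r) hss
  refine ⟨b, hb, fun v hv i => ?_⟩
  have := repr_fixed (toSemi p r φ hφ) b hb v hv i
  rw [hσ] at this
  exact this

include hr hφ in
theorem main_3213 : Function.Surjective (fun v : V => v - φ v) :=
  sub_map_surjective (toSemi p r φ hφ) p r hr (hσ p r)

include hr hφ in
theorem main_8721 :
    ∃ b : Basis (Fin (finrank k ↥(⨅ n : ℕ, span k (Set.range (φ^[n + 1])))))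
        k ↥(⨅ n : ℕ, span k (Set.range (φ^[n + 1]))),
      (∀ i, φ (b i : V) = (b i : V)) ∧
      ∀ v : V, φ v = v → ∃ c : Fin (finrank k ↥(⨅ n : ℕ, span k (Set.range (φ^[n + 1])))) → k,
        (∀ i, c i ^ (p ^ r) = c i) ∧ v = ∑ i, c i • (b i : V) := by
  set g := toSemi p r φ hφ with hg
  have hVss : (⨅ n : ℕ, span k (Set.range (φ^[n + 1]))) = ssPart g := rfl
  rw [hVss]
  set g' := restr g (ssPart g) (fun _ hx => map_mem_ssPart g hx) with hg'
  obtain ⟨b, hb⟩ := exists_basis_fixed g' p r hr (hσ p r) (ssPart_semisimple g)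
  refine ⟨b, fun i => ?_, fun v hv => ?_⟩
  · have := congrArg Subtype.val (hb i)
    exact this
  · have hmem : v ∈ ssPart g := by
      refine (Submodule.mem_iInf _).mpr (fun n => subset_span ⟨v, ?_⟩)
      exact Function.iterate_fixed hv (n + 1)
    have hfix : g' ⟨v, hmem⟩ = ⟨v, hmem⟩ := Subtype.ext hv
    refine ⟨fun i => b.repr ⟨v, hmem⟩ i, fun i => ?_, ?_⟩
    · have := repr_fixed g' b hb ⟨v, hmem⟩ hfix i
      rw [hσ] at this
      exact this
    · have := congrArg Subtype.val (b.sum_repr ⟨v, hmem⟩)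
      rw [Submodule.coe_sum] at this
      simpa using this.symm

include hr hφ in
theorem main_8722 (hss : span k (Set.range φ) = ⊤) (n : ℕ) (v : V) :
    φ^[n] v = v ↔ ∃ (s : Finset V) (c : V → k), (∀ w ∈ s, φ w = w) ∧
      (∀ w ∈ s, c w ^ ((p ^ r) ^ n) = c w) ∧ v = ∑ w ∈ s, c w • w := by
  classical
  constructor
  · intro hv
    obtain ⟨b, hb⟩ := exists_basis_fixed (toSemi p r φ hφ) p r hr (hσ p r) hss
    have hb' : ∀ i, φ (b i) = b i := hb
    have h1 : φ^[n] v = ∑ i, (b.repr v i) ^ ((p ^ r) ^ n) • b i := by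
      conv_lhs => rw [← b.sum_repr v]
      rw [iter_sum p r φ hφ]
      refine Finset.sum_congr rfl (fun i _ => ?_)
      rw [iter_smul p r φ hφ, Function.iterate_fixed (hb' i)]
    have h2 : ∀ i, (b.repr v i) ^ ((p ^ r) ^ n) = b.repr v i := by
      intro i
      have h3 : b.repr (φ^[n] v) i = b.repr v i := by rw [hv]
      rw [h1, b.repr_sum_self] at h3
      exact h3
    refine ⟨Finset.univ.image b, fun w => if h : ∃ i, b i = w then b.repr v h.choose else 0, ?_, ?_, ?_⟩
    · intro w hw
      obtain ⟨i, _, rfl⟩ := Finset.mem_image.mp hw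
      exact hb' i
    · intro w hw
      obtain ⟨i, _, rfl⟩ := Finset.mem_image.mp hw
      have hex : ∃ j, b j = b i := ⟨i, rfl⟩
      beta_reduce
      rw [dif_pos hex]
      exact h2 _
    · rw [Finset.sum_image (fun i _ j _ h => b.injective h)]
      conv_lhs => rw [← b.sum_repr v]
      refine Finset.sum_congr rfl (fun i _ => ?_)
      have hex : ∃ j, b j = b i := ⟨i, rfl⟩
      beta_reduce
      rw [dif_pos hex]
      have : hex.choose = i := b.injective hex.choose_spec
      rw [this]
  · rintro ⟨s, c, hs, hc, rfl⟩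
    rw [iter_sum p r φ hφ]
    refine Finset.sum_congr rfl (fun w hw => ?_)
    rw [iter_smul p r φ hφ, Function.iterate_fixed (hs w hw), hc w hw]

end final

end Groth.Agent.Helper8.QLin
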