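import Mathlib
import Groth.Prelude.Def_CycDet

namespace Groth.Agent.Helper8.CycD

open CycDet IsLocalRing

universe u v

variable (R : Type u) [CommRing R] [IsLocalRing R] (M : Type v) [AddCommGroup M] [Module R M]

section spanBefore
variable {l : ℕ} (e : Fin l → M)

lemma spanBefore_mono {i j : ℕ} (h : i ≤ j) : spanBefore R M e i ≤ spanBefore R M e j := by
  apply Submodule.span_mono
  apply Set.image_mono
  intro t ht
  exact lt_of_lt_of_le ht h

lemma mem_spanBefore_of_lt {i : ℕ} (j : Fin l) (h : (j : ℕ) < i) : e j ∈ spanBefore R M e i :=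
  Submodule.subset_span ⟨j, h, rfl⟩

lemma spanBefore_le {i : ℕ} {N : Submodule R M} (h : ∀ j : Fin l, (j : ℕ) < i → e j ∈ N) :
    spanBefore R M e i ≤ N := by
  apply Submodule.span_le.2
  rintro _ ⟨j, hj, rfl⟩
  exact h j hj

lemma spanBefore_congr {e' : Fin l → M} {i : ℕ} (h : ∀ j : Fin l, (j : ℕ) < i → e j = e' j) :
    spanBefore R M e i = spanBefore R M e' i := by
  apply le_antisymm
  · apply spanBefore_le
    intro j hj
    rw [h j hj]
    exact mem_spanBefore_of_lt R M e' j hj
  · apply spanBefore_le
    intro j hj
    rw [← h j hj]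
    exact mem_spanBefore_of_lt R M e j hj

lemma spanBefore_succ (i : Fin l) :
    spanBefore R M e ((i : ℕ) + 1) = spanBefore R M e i ⊔ Submodule.span R {e i} := by
  apply le_antisymm
  · apply spanBefore_le
    intro j hj
    rcases Nat.lt_succ_iff_lt_or_eq.1 hj with h | h
    · exact Submodule.mem_sup_left (mem_spanBefore_of_lt R M e j h)
    · have : j = i := Fin.ext h
      rw [this]
      exact Submodule.mem_sup_right (Submodule.mem_span_singleton_self _)
  · apply sup_le
    · exact spanBefore_mono R M e (Nat.le_succ _)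
    · rw [Submodule.span_singleton_le_iff_mem]
      exact mem_spanBefore_of_lt R M e i (Nat.lt_succ_self _)

lemma spanBefore_comp_perm (σ : Equiv.Perm (Fin l)) {j : ℕ}
    (hσ : ∀ t : Fin l, (t : ℕ) < j ↔ ((σ t : Fin l) : ℕ) < j) :
    spanBefore R M (e ∘ σ) j = spanBefore R M e j := by
  apply le_antisymm
  · apply spanBefore_le
    intro t ht
    exact mem_spanBefore_of_lt R M e (σ t) ((hσ t).1 ht)
  · apply spanBefore_le
    intro t ht
    have h1 : ((σ.symm t : Fin l) : ℕ) < j := by
      rw [hσ]; simpa using ht
    have := mem_spanBefore_of_lt R M (e ∘ σ) (σ.symm t) h1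
    simpa using this

end spanBefore

/-- a strict chain forces the total span to be everything -/
lemma spanBefore_top_of_strict {l : ℕ} (e : Fin l → M) (hl : Module.length R M ≤ l)
    (hs : ∀ i : Fin l, e i ∉ spanBefore R M e i) : spanBefore R M e l = ⊤ := by
  by_contra hne
  have hlt : spanBefore R M e l < ⊤ := lt_top_iff_ne_top.2 hne
  let g : Fin (l + 1 + 1) → Submodule R M := fun i =>
    if (i : ℕ) ≤ l then spanBefore R M e i else ⊤
  have hg : StrictMono g := by
    apply Fin.strictMono_iff_lt_succ.2
    intro i
    have hi : (i : ℕ) < l + 1 := i.2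
    have h1 : ((Fin.castSucc i : Fin (l+1+1)) : ℕ) = i := rfl
    have h2 : ((Fin.succ i : Fin (l+1+1)) : ℕ) = i + 1 := rfl
    simp only [g, h1, h2]
    rw [if_pos (Nat.lt_succ_iff.1 hi)]
    by_cases h3 : (i : ℕ) + 1 ≤ l
    · rw [if_pos h3]
      let i' : Fin l := ⟨i, h3⟩
      apply lt_of_le_of_ne (spanBefore_mono R M e (Nat.le_succ _))
      intro heq
      apply hs i'
      have : e i' ∈ spanBefore R M e ((i : ℕ) + 1) :=
        mem_spanBefore_of_lt R M e i' (Nat.lt_succ_self _)
      rw [← heq] at this
      exact this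
    · rw [if_neg h3]
      have : (i : ℕ) = l := by omega
      rw [this]
      exact hlt
  let p : LTSeries (Submodule R M) := ⟨l + 1, g, fun i => hg (Fin.castSucc_lt_succ (i := i))⟩
  have h1 := Order.LTSeries.length_le_krullDim p
  rw [← Module.coe_length] at h1
  have h2 : ((l + 1 : ℕ) : ℕ∞) ≤ Module.length R M := by
    have : ((p.length : ℕ∞) : WithBot ℕ∞) ≤ (Module.length R M : WithBot ℕ∞) := h1
    exact_mod_cast this
  have h3 : ((l + 1 : ℕ) : ℕ∞) ≤ (l : ℕ∞) := h2.trans hl
  have : l + 1 ≤ l := by exact_mod_cast h3
  omega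

section rels
variable {l : ℕ}

/-- class of a symbol in `DetOfLen`. -/
noncomputable def sb (e : Adm R M l) : DetOfLen R M l :=
  Submodule.Quotient.mk (sym R M e)

lemma relA (e : Adm R M l) (a : Fin l) (h : e.1 a ∈ spanBefore R M e.1 a) : sb R M e = 0 := by
  unfold sb
  rw [Submodule.Quotient.mk_eq_zero]
  apply Submodule.subset_span
  exact Or.inl (Or.inl ⟨e, a, h, rfl⟩)

lemma relB (e e' : Adm R M l) (a : Fin l) (c : Rˣ) (h1 : ∀ j, j ≠ a → e.1 j = e'.1 j)
    (h2 : e.1 a - (c : R) • e'.1 a ∈ spanBefore R M e.1 a) :
    sb R M e = IsLocalRing.residue R (c : R) • sb R M e' := by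
  unfold sb
  rw [← Submodule.Quotient.mk_smul, Submodule.Quotient.eq]
  apply Submodule.subset_span
  exact Or.inl (Or.inr ⟨e, e', a, c, h1, h2, rfl⟩)

lemma relC (e e' : Adm R M l) (a b : Fin l) (hab : (b : ℕ) + 1 = (a : ℕ))
    (h1 : ∀ r ∈ maximalIdeal R, r • e.1 a ∈ spanBefore R M e.1 b)
    (h2 : e'.1 = e.1 ∘ Equiv.swap a b) :
    sb R M e = - sb R M e' := by
  unfold sb
  rw [← Submodule.Quotient.mk_neg, Submodule.Quotient.eq, sub_neg_eq_add]
  apply Submodule.subset_span
  exact Or.inr ⟨e, e', a, b, hab, h1, h2, rfl⟩

end rels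

section sort
variable {l : ℕ}

lemma adm_swap (e : Adm R M l) (a b : Fin l) (hab : (b : ℕ) + 1 = (a : ℕ))
    (h1 : ∀ r ∈ maximalIdeal R, r • e.1 a ∈ spanBefore R M e.1 b) :
    IsAdmissible R M (e.1 ∘ Equiv.swap a b) := by
  intro j r hr
  have hne : a ≠ b := by intro h; rw [h] at hab; omega
  have key : ∀ n : ℕ, n ≠ (a : ℕ) →
      spanBefore R M (e.1 ∘ Equiv.swap a b) n = spanBefore R M e.1 n := by
    intro n hn
    apply spanBefore_comp_perm
    intro t
    by_cases hta : t = a
    · subst hta; rw [Equiv.swap_apply_left]; omega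
    · by_cases htb : t = b
      · subst htb; rw [Equiv.swap_apply_right]; omega
      · rw [Equiv.swap_apply_of_ne_of_ne hta htb]
  have hbne : (b : ℕ) ≠ (a : ℕ) := by omega
  by_cases hja : j = a
  · rw [hja]
    have h2 : (e.1 ∘ Equiv.swap a b) a = e.1 b := by simp
    rw [h2]
    have h3 := e.2 b r hr
    rw [← key b hbne] at h3
    exact spanBefore_mono R M _ (by omega) h3
  · by_cases hjb : j = b
    · rw [hjb]
      have h2 : (e.1 ∘ Equiv.swap a b) b = e.1 a := by simp
      rw [h2, key b hbne]
      exact h1 r hr
    · have h2 : (e.1 ∘ Equiv.swap a b) j = e.1 j := by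
        simp [Equiv.swap_apply_of_ne_of_ne hja hjb]
      rw [h2, key j (fun h => hja (Fin.ext h))]
      exact e.2 j r hr

lemma adm_update (e : Adm R M l) (i : Fin l) (y x : M) (u : Rˣ)
    (hy : y = x + (u : R) • e.1 i) (hx : x ∈ spanBefore R M e.1 i)
    (hmy : ∀ r ∈ maximalIdeal R, r • y ∈ spanBefore R M e.1 i) :
    IsAdmissible R M (Function.update e.1 i y) := by
  classical
  intro j r hr
  have hsame : ∀ n : ℕ, n ≤ (i : ℕ) →
      spanBefore R M (Function.update e.1 i y) n = spanBefore R M e.1 n := by
    intro n hn
    apply spanBefore_congr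
    intro t ht
    have : t ≠ i := by intro h; rw [h] at ht; omega
    rw [Function.update_of_ne this]
  have hei : ∀ n : ℕ, (i : ℕ) < n → e.1 i ∈ spanBefore R M (Function.update e.1 i y) n := by
    intro n hn
    have h1 : e.1 i = ((u⁻¹ : Rˣ) : R) • (y - x) := by
      rw [hy, add_sub_cancel_left, smul_smul, Units.inv_mul, one_smul]
    rw [h1]
    apply Submodule.smul_mem
    apply Submodule.sub_mem
    · have := mem_spanBefore_of_lt R M (Function.update e.1 i y) i hn
      rwa [Function.update_self] at this
    · have h2 : x ∈ spanBefore R M (Function.update e.1 i y) i := by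
        rw [hsame i le_rfl]; exact hx
      exact spanBefore_mono R M _ hn.le h2
  have hle : ∀ n : ℕ, spanBefore R M e.1 n ≤ spanBefore R M (Function.update e.1 i y) n := by
    intro n
    by_cases hn : n ≤ (i : ℕ)
    · rw [hsame n hn]
    · push Not at hn
      apply spanBefore_le
      intro t ht
      by_cases hti : t = i
      · rw [hti]; exact hei n hn
      · have := mem_spanBefore_of_lt R M (Function.update e.1 i y) t ht
        rwa [Function.update_of_ne hti] at this
  by_cases hji : j = i
  · rw [hji, Function.update_self, hsame i le_rfl]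
    exact hmy r hr
  · rw [Function.update_of_ne hji]
    exact hle j (e.2 j r hr)

theorem sort_main (hl : Module.length R M ≤ l) (f : Adm R M l)
    (hf : ∀ k : Fin l, f.1 k ∉ spanBefore R M f.1 k) :
    ∀ e : Adm R M l, ∃ c : ResidueField R, sb R M e = c • sb R M f := by
  classical
  have P : ∀ d k : ℕ, k + d = l → ∀ e : Adm R M l,
      (∀ j : Fin l, (j : ℕ) < k → e.1 j = f.1 j) → ∃ c : ResidueField R, sb R M e = c • sb R M f := by
    intro d
    induction d with
    | zero =>
      intro k hk e he
      have : e = f := by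
        apply Subtype.ext
        funext j
        exact he j (by have := j.2; omega)
      exact ⟨1, by rw [this, one_smul]⟩
    | succ d ih =>
      intro k hk e he
      have hkl : k < l := by omega
      have Pk1 := ih (k + 1) (by omega)
      set fk : M := f.1 ⟨k, hkl⟩ with hfk
      have hmfk : ∀ r ∈ maximalIdeal R, ∀ e : Adm R M l,
          (∀ j : Fin l, (j : ℕ) < k → e.1 j = f.1 j) → r • fk ∈ spanBefore R M e.1 k := by
        intro r hr e he
        rw [spanBefore_congr R M e.1 he]
        exact f.2 ⟨k, hkl⟩ r hr
      have bubble : ∀ n : ℕ, ∀ e : Adm R M l, ∀ i : Fin l, (i : ℕ) = k + n →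
          (∀ j : Fin l, (j : ℕ) < k → e.1 j = f.1 j) → e.1 i = fk →
          ∃ c : ResidueField R, sb R M e = c • sb R M f := by
        intro n
        induction n with
        | zero =>
          intro e i hi he hei
          apply Pk1 e
          intro j hj
          rcases Nat.lt_succ_iff_lt_or_eq.1 hj with h | h
          · exact he j h
          · have hji : j = i := Fin.ext (by omega)
            have hjk : j = ⟨k, hkl⟩ := Fin.ext h
            rw [hji, hei, hfk, ← hjk, hji]
        | succ n ihn =>
          intro e i hi he hei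
          let b : Fin l := ⟨k + n, by have := i.2; omega⟩
          have hab : (b : ℕ) + 1 = (i : ℕ) := by simp only [b]; omega
          have h1 : ∀ r ∈ maximalIdeal R, r • e.1 i ∈ spanBefore R M e.1 b := by
            intro r hr
            rw [hei]
            exact spanBefore_mono R M _ (by simp only [b]; omega) (hmfk r hr e he)
          let e' : Adm R M l := ⟨e.1 ∘ Equiv.swap i b, adm_swap R M e i b hab h1⟩
          have hrel := relC R M e e' i b hab h1 rfl
          have he' : ∀ j : Fin l, (j : ℕ) < k → e'.1 j = f.1 j := by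
            intro j hj
            have hji : j ≠ i := by intro h; rw [h] at hj; omega
            have hjb : j ≠ b := by intro h; rw [h] at hj; simp only [b] at hj; omega
            change e.1 (Equiv.swap i b j) = _
            rw [Equiv.swap_apply_of_ne_of_ne hji hjb]
            exact he j hj
          have he'b : e'.1 b = fk := by
            change e.1 (Equiv.swap i b b) = _
            rw [Equiv.swap_apply_right]; exact hei
          obtain ⟨c, hc⟩ := ihn e' b rfl he' he'b
          exact ⟨-c, by rw [hrel, hc, neg_smul]⟩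
      by_cases hstrict : ∃ a : Fin l, e.1 a ∈ spanBefore R M e.1 a
      · obtain ⟨a, ha⟩ := hstrict
        exact ⟨0, by rw [relA R M e a ha, zero_smul]⟩
      · push Not at hstrict
        have htop := spanBefore_top_of_strict R M e.1 hl hstrict
        have hex : ∃ n : ℕ, fk ∈ spanBefore R M e.1 n := ⟨l, by rw [htop]; trivial⟩
        have hn := Nat.find_spec hex
        have hmin := fun m (hm : m < Nat.find hex) => Nat.find_min hex hm
        have hnl : Nat.find hex ≤ l := Nat.find_min' hex (by rw [htop]; trivial)
        have hkn : k < Nat.find hex := by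
          by_contra hcon
          push Not at hcon
          have h2 := spanBefore_mono R M e.1 hcon hn
          rw [spanBefore_congr R M e.1 he] at h2
          exact hf ⟨k, hkl⟩ h2
        obtain ⟨n, hnn⟩ : ∃ n, n = Nat.find hex := ⟨_, rfl⟩
        rw [← hnn] at hn hmin hnl hkn
        let i : Fin l := ⟨n - 1, by omega⟩
        have hi1 : (i : ℕ) + 1 = n := by simp only [i]; omega
        rw [← hi1, spanBefore_succ] at hn
        obtain ⟨x, hx, z, hz, hxz⟩ := Submodule.mem_sup.1 hn
        obtain ⟨r, rfl⟩ := Submodule.mem_span_singleton.1 hz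
        have hnot : fk ∉ spanBefore R M e.1 i := hmin i (by omega)
        have hr : IsUnit r := by
          by_contra h
          have hrm : r ∈ maximalIdeal R := (IsLocalRing.mem_maximalIdeal r).2 h
          apply hnot
          rw [← hxz]
          exact Submodule.add_mem _ hx (e.2 i r hrm)
        obtain ⟨u, rfl⟩ := hr
        have hadm : IsAdmissible R M (Function.update e.1 i fk) := by
          apply adm_update R M e i fk x u hxz.symm hx
          intro r hr
          exact spanBefore_mono R M _ (by simp only [i]; omega) (hmfk r hr e he)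
        let e' : Adm R M l := ⟨Function.update e.1 i fk, hadm⟩
        have hrel : sb R M e = IsLocalRing.residue R ((u⁻¹ : Rˣ) : R) • sb R M e' := by
          apply relB R M e e' i u⁻¹
          · intro j hj
            change _ = Function.update e.1 i fk j
            rw [Function.update_of_ne hj]
          · change e.1 i - ((u⁻¹ : Rˣ) : R) • Function.update e.1 i fk i ∈ _
            rw [Function.update_self, ← hxz, smul_add, smul_smul, Units.inv_mul, one_smul,
              sub_add_cancel_right]
            exact Submodule.neg_mem _ (Submodule.smul_mem _ _ hx)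
        have he' : ∀ j : Fin l, (j : ℕ) < k → e'.1 j = f.1 j := by
          intro j hj
          have hji : j ≠ i := by intro h; rw [h] at hj; simp only [i] at hj; omega
          change Function.update e.1 i fk j = _
          rw [Function.update_of_ne hji]
          exact he j hj
        have he'i : e'.1 i = fk := by
          change Function.update e.1 i fk i = _
          rw [Function.update_self]
        obtain ⟨c, hc⟩ := bubble (n - 1 - k) e' i (by simp only [i]; omega) he' he'i
        exact ⟨IsLocalRing.residue R ((u⁻¹ : Rˣ) : R) * c, by rw [hrel, hc, mul_smul]⟩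
  intro e
  exact P l 0 (by omega) e (fun j hj => absurd hj (Nat.not_lt_zero _))

end sort

section final

theorem exists_gen' (l : ℕ) (hlen : Module.length R M ≤ l) :
    ∃ v₀ : DetOfLen R M l, ∀ v : DetOfLen R M l, ∃ r : ResidueField R, r • v₀ = v := by
  classical
  have claim : ∃ v₀ : DetOfLen R M l, ∀ e : Adm R M l, ∃ c : ResidueField R,
      sb R M e = c • v₀ := by
    by_cases h : ∃ f : Adm R M l, ∀ k : Fin l, f.1 k ∉ spanBefore R M f.1 k
    · obtain ⟨f, hf⟩ := h
      exact ⟨sb R M f, sort_main R M hlen f hf⟩
    · push Not at h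
      refine ⟨0, fun e => ?_⟩
      obtain ⟨a, ha⟩ := h e
      exact ⟨0, by rw [relA R M e a ha, zero_smul]⟩
  obtain ⟨v₀, hv₀⟩ := claim
  refine ⟨v₀, fun v => ?_⟩
  induction v using Submodule.Quotient.induction_on with
  | H x =>
    induction x using Finsupp.induction_linear with
    | zero => exact ⟨0, by simp⟩
    | add x y hx hy =>
      obtain ⟨r1, h1⟩ := hx
      obtain ⟨r2, h2⟩ := hy
      exact ⟨r1 + r2, by rw [add_smul, h1, h2, Submodule.Quotient.mk_add]⟩
    | single e c =>
      obtain ⟨c', hc'⟩ := hv₀ e
      refine ⟨c * c', ?_⟩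
      have : (Finsupp.single e c : Free R M l) = c • sym R M e := by
        unfold sym
        rw [Finsupp.smul_single, smul_eq_mul, mul_one]
      rw [this, Submodule.Quotient.mk_smul, mul_smul, ← hc']
      rfl

theorem exists_gen (hM : IsFiniteLength R M) :
    ∃ v₀ : Det R M, ∀ v : Det R M, ∃ r : ResidueField R, r • v₀ = v :=
  exists_gen' R M _ (by rw [ENat.coe_toNat (Module.length_ne_top_iff.2 hM)])

theorem rank_le_one (hM : IsFiniteLength R M) :
    Module.rank (ResidueField R) (Det R M) ≤ 1 :=
  rank_le_one_iff.2 (exists_gen R M hM)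

end final

end Groth.Agent.Helper8.CycD
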