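import Mathlib
import Groth.Prelude.Def_CAlg
import Groth.Agent.Helper6.DepthLemma
import Groth.Agent.Helper2.DepthCM4
import Groth.Agent.Helper2.RegCM
import Groth.Agent.Helper6.FlatCM
import Groth.Agent.Helper8.GrLG

/-!
# Gluing Cohen–Macaulay quotients of a local ring

`CMq 𝔟 e` says that the quotient of the Noetherian local ring `B` by `𝔟` has dimension and depth `e`.
We prove: the residue field is `CMq` of dimension `0`; if `x` is regular modulo `𝔟` and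
`𝔟 + (x)` is `CMq e` then `𝔟` is `CMq (e + 1)`; if `𝔟₁`, `𝔟₂` are `CMq e` and `𝔟₁ + 𝔟₂` is
`CMq (e - 1)` then `𝔟₁ ∩ 𝔟₂` is `CMq e`.  Finally, `CMq` of the extension of an ideal to the
localization at a prime gives the Cohen–Macaulay property of the local ring of the quotient.
-/

set_option autoImplicit false

universe u

open IsLocalRing Pointwise

namespace Groth.Agent.Helper8.CMGlue

section dim

variable {R : Type*} [CommRing R]

theorem dim_quotient_inf_le (I J : Ideal R) (c : WithBot ℕ∞) (hI : ringKrullDim (R ⧸ I) ≤ c)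
    (hJ : ringKrullDim (R ⧸ J) ≤ c) : ringKrullDim (R ⧸ (I ⊓ J)) ≤ c := by
  rw [ringKrullDim_quotient]
  unfold Order.krullDim
  refine iSup_le fun p => ?_
  have hhead : I ⊓ J ≤ (p.head).1.asIdeal := by
    have h1 := (p.head).2
    rw [PrimeSpectrum.mem_zeroLocus] at h1
    exact h1
  have key : ∀ (L : Ideal R), L ≤ (p.head).1.asIdeal → ringKrullDim (R ⧸ L) ≤ c →
      (p.length : WithBot ℕ∞) ≤ c := by
    intro L hle hL
    have hmem : ∀ k, (p k).1 ∈ PrimeSpectrum.zeroLocus (R := R) L := by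
      intro k
      rw [PrimeSpectrum.mem_zeroLocus]
      have h2 : p.head ≤ p k := LTSeries.head_le p k
      have h3 : (p.head).1.asIdeal ≤ (p k).1.asIdeal := h2
      exact le_trans hle h3
    obtain ⟨q, hq⟩ : ∃ q : LTSeries (PrimeSpectrum.zeroLocus (R := R) L),
        q.length = p.length :=
      ⟨{ length := p.length, toFun := fun k => ⟨(p k).1, hmem k⟩, step := fun k => p.step k }, rfl⟩
    have h4 := Order.LTSeries.length_le_krullDim q
    rw [← ringKrullDim_quotient, hq] at h4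
    exact le_trans h4 hL
  rcases (Ideal.IsPrime.inf_le (p.head).1.2).mp hhead with h | h
  · exact key I h hI
  · exact key J h hJ

end dim

variable {B : Type u} [CommRing B] [IsLocalRing B] [IsNoetherianRing B]

/-- The quotient by `𝔟` has dimension `e` and depth `e`. -/
def CMq (𝔟 : Ideal B) (e : ℕ) : Prop :=
  Module.supportDim B (B ⧸ 𝔟) = (e : WithBot ℕ∞) ∧ LocCoh.depth B (B ⧸ 𝔟) = (e : ℕ∞)

lemma CMq.ne_top {𝔟 : Ideal B} {e : ℕ} (h : CMq 𝔟 e) : 𝔟 ≠ ⊤ := by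
  intro htop
  have h1 : Module.supportDim B (B ⧸ 𝔟) ≠ ⊥ := by
    rw [h.1]
    exact WithBot.coe_ne_bot
  rw [Module.supportDim_ne_bot_iff_nontrivial] at h1
  haveI : Subsingleton (B ⧸ 𝔟) := by
    rw [htop]
    exact Submodule.Quotient.subsingleton_iff.mpr rfl
  exact not_subsingleton (B ⧸ 𝔟) inferInstance

lemma nontrivial_quot {𝔟 : Ideal B} (h : 𝔟 ≠ ⊤) : Nontrivial (B ⧸ 𝔟) :=
  Ideal.Quotient.nontrivial_iff.mpr h

/-! ### The residue field -/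

theorem cmq_maximalIdeal : CMq (maximalIdeal B) 0 := by
  haveI : Nontrivial (B ⧸ maximalIdeal B) := nontrivial_quot (Ideal.IsPrime.ne_top inferInstance)
  constructor
  · rw [Module.supportDim_quotient_eq_ringKrullDim]
    have hf : IsField (B ⧸ maximalIdeal B) :=
      (Ideal.Quotient.maximal_ideal_iff_isField_quotient _).mp inferInstance
    rw [ringKrullDim_eq_zero_of_isField hf]
    rfl
  · rw [Nat.cast_zero, Groth.Agent.Helper2.Depth.depth_eq_zero_iff]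
    intro x hx hreg
    have h1 : x • (Ideal.Quotient.mk (maximalIdeal B) 1 : B ⧸ maximalIdeal B) =
        x • (0 : B ⧸ maximalIdeal B) := by
      rw [smul_zero]
      show Ideal.Quotient.mk (maximalIdeal B) (x * 1) = 0
      rw [mul_one, Ideal.Quotient.eq_zero_iff_mem]
      exact hx
    have h2 := hreg h1
    rw [map_one] at h2
    exact one_ne_zero h2

/-! ### Modding out a regular element -/

section regular

variable (𝔟 : Ideal B) (x : B)

lemma smul_top_eq_map :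
    x • (⊤ : Submodule B (B ⧸ 𝔟)) = Submodule.map (Submodule.mkQ 𝔟) (Ideal.span {x}) := by
  ext m
  rw [Submodule.mem_smul_pointwise_iff_exists, Submodule.mem_map]
  constructor
  · rintro ⟨m', -, rfl⟩
    obtain ⟨b, rfl⟩ := Submodule.mkQ_surjective 𝔟 m'
    refine ⟨b * x, Ideal.mem_span_singleton'.mpr ⟨b, rfl⟩, ?_⟩
    rw [mul_comm, ← smul_eq_mul, map_smul]
  · rintro ⟨c, hc, rfl⟩
    obtain ⟨b, rfl⟩ := Ideal.mem_span_singleton'.mp hc
    refine ⟨Submodule.mkQ 𝔟 b, Submodule.mem_top, ?_⟩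
    rw [mul_comm, ← smul_eq_mul, map_smul]

/-- The quotient of `B ⧸ 𝔟` by `x` is `B ⧸ (𝔟 + (x))`. -/
noncomputable def quotEquiv : QuotSMulTop x (B ⧸ 𝔟) ≃ₗ[B] B ⧸ (𝔟 ⊔ Ideal.span {x}) :=
  (Submodule.quotEquivOfEq _ _ (smul_top_eq_map 𝔟 x)).trans
    (Submodule.quotientQuotientEquivQuotientSup 𝔟 (Ideal.span {x}))

theorem cmq_of_regular (hx : x ∈ maximalIdeal B) (hreg : ∀ y : B, x * y ∈ 𝔟 → y ∈ 𝔟) (e : ℕ)
    (h : CMq (𝔟 ⊔ Ideal.span {x}) e) : CMq 𝔟 (e + 1) := by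
  have hne : 𝔟 ≠ ⊤ := fun htop => h.ne_top (by rw [htop, top_sup_eq])
  haveI : Nontrivial (B ⧸ 𝔟) := nontrivial_quot hne
  have hsreg : IsSMulRegular (B ⧸ 𝔟) x := by
    intro a b hab
    obtain ⟨a, rfl⟩ := Ideal.Quotient.mk_surjective a
    obtain ⟨b, rfl⟩ := Ideal.Quotient.mk_surjective b
    have h1 : Ideal.Quotient.mk 𝔟 (x * a) = Ideal.Quotient.mk 𝔟 (x * b) := hab
    rw [Ideal.Quotient.eq, ← mul_sub] at h1
    rw [Ideal.Quotient.eq]
    exact hreg _ h1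
  constructor
  · rw [← Module.supportDim_quotSMulTop_succ_eq_supportDim hsreg hx,
      Module.supportDim_eq_of_equiv (quotEquiv 𝔟 x), h.1]
    rfl
  · have hIM := Groth.Agent.Helper2.Depth.smul_top_ne_top B (B ⧸ 𝔟)
    have h1 := Groth.Agent.Helper2.DepthCM.idealDepth_quotSMulTop (maximalIdeal B) (B ⧸ 𝔟) hIM x hx
      hsreg
    have h2 : LocCoh.idealDepth (maximalIdeal B) (QuotSMulTop x (B ⧸ 𝔟)) = (e : ℕ∞) := by
      rw [Groth.Agent.Helper2.DepthCM.idealDepth_congr (maximalIdeal B) (quotEquiv 𝔟 x)]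
      exact h.2
    rw [h2] at h1
    show LocCoh.idealDepth (maximalIdeal B) (B ⧸ 𝔟) = _
    rw [← h1]
    push_cast
    rfl

end regular

/-! ### Gluing along an intersection -/

section glue

variable (𝔟₁ 𝔟₂ : Ideal B)

/-- The diagonal map. -/
noncomputable def diag : (B ⧸ (𝔟₁ ⊓ 𝔟₂)) →ₗ[B] (B ⧸ 𝔟₁) × (B ⧸ 𝔟₂) :=
  LinearMap.prod (Submodule.mapQ (𝔟₁ ⊓ 𝔟₂) 𝔟₁ LinearMap.id inf_le_left)
    (Submodule.mapQ (𝔟₁ ⊓ 𝔟₂) 𝔟₂ LinearMap.id inf_le_right)

/-- The difference map. -/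
noncomputable def diff : (B ⧸ 𝔟₁) × (B ⧸ 𝔟₂) →ₗ[B] B ⧸ (𝔟₁ ⊔ 𝔟₂) :=
  (Submodule.mapQ 𝔟₁ (𝔟₁ ⊔ 𝔟₂) LinearMap.id le_sup_left).comp (LinearMap.fst B _ _) -
    (Submodule.mapQ 𝔟₂ (𝔟₁ ⊔ 𝔟₂) LinearMap.id le_sup_right).comp (LinearMap.snd B _ _)

lemma diag_mk (a : B) : diag 𝔟₁ 𝔟₂ (Submodule.Quotient.mk a) =
    (Submodule.Quotient.mk a, Submodule.Quotient.mk a) := rfl

lemma diff_mk (a b : B) : diff 𝔟₁ 𝔟₂ (Submodule.Quotient.mk a, Submodule.Quotient.mk b) =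
    Submodule.Quotient.mk (a - b) := rfl

lemma diag_injective : Function.Injective (diag 𝔟₁ 𝔟₂) := by
  rw [← LinearMap.ker_eq_bot, LinearMap.ker_eq_bot']
  intro m hm
  obtain ⟨a, rfl⟩ := Submodule.Quotient.mk_surjective _ m
  rw [diag_mk, Prod.mk_eq_zero, Submodule.Quotient.mk_eq_zero, Submodule.Quotient.mk_eq_zero] at hm
  rw [Submodule.Quotient.mk_eq_zero]
  exact ⟨hm.1, hm.2⟩

lemma diff_surjective : Function.Surjective (diff 𝔟₁ 𝔟₂) := by
  intro m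
  obtain ⟨c, rfl⟩ := Submodule.Quotient.mk_surjective _ m
  refine ⟨(Submodule.Quotient.mk c, Submodule.Quotient.mk 0), ?_⟩
  rw [diff_mk, sub_zero]

lemma exact_diag_diff : Function.Exact (diag 𝔟₁ 𝔟₂) (diff 𝔟₁ 𝔟₂) := by
  intro y
  constructor
  · intro hy
    obtain ⟨y1, y2⟩ := y
    obtain ⟨a, rfl⟩ := Submodule.Quotient.mk_surjective _ y1
    obtain ⟨b, rfl⟩ := Submodule.Quotient.mk_surjective _ y2
    rw [diff_mk, Submodule.Quotient.mk_eq_zero] at hy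
    obtain ⟨i, hi, j, hj, hij⟩ := Submodule.mem_sup.mp hy
    refine ⟨Submodule.Quotient.mk (a - i), ?_⟩
    rw [diag_mk, Prod.mk.injEq]
    constructor
    · rw [Submodule.Quotient.eq]
      have : a - i - a = -i := by ring
      rw [this]
      exact Submodule.neg_mem _ hi
    · rw [Submodule.Quotient.eq]
      have : a - i - b = j := by linear_combination -hij
      rw [this]
      exact hj
  · rintro ⟨m, rfl⟩
    obtain ⟨a, rfl⟩ := Submodule.Quotient.mk_surjective _ m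
    rw [diag_mk, diff_mk, sub_self]
    rfl

lemma exact_inl_snd (M N : Type*) [AddCommGroup M] [Module B M] [AddCommGroup N] [Module B N] :
    Function.Exact (LinearMap.inl B M N) (LinearMap.snd B M N) := by
  intro y
  constructor
  · intro hy
    refine ⟨y.1, ?_⟩
    rw [LinearMap.snd_apply] at hy
    rw [LinearMap.inl_apply]
    exact Prod.ext rfl hy.symm
  · rintro ⟨m, rfl⟩
    rfl

theorem cmq_inf (e : ℕ) (he : 1 ≤ e) (h1 : CMq 𝔟₁ e) (h2 : CMq 𝔟₂ e)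
    (h3 : CMq (𝔟₁ ⊔ 𝔟₂) (e - 1)) : CMq (𝔟₁ ⊓ 𝔟₂) e := by
  have hne : 𝔟₁ ⊓ 𝔟₂ ≠ ⊤ := fun htop => h1.ne_top (top_le_iff.mp (htop ▸ inf_le_left))
  haveI : Nontrivial (B ⧸ (𝔟₁ ⊓ 𝔟₂)) := nontrivial_quot hne
  -- depth of the product
  have hd2 : (e : ℕ∞) ≤ LocCoh.idealDepth (maximalIdeal B) ((B ⧸ 𝔟₁) × (B ⧸ 𝔟₂)) := by
    refine Groth.Agent.Helper6.DepthLemma.le_idealDepth_mid (maximalIdeal B)
      (LinearMap.inl B (B ⧸ 𝔟₁) (B ⧸ 𝔟₂)) (LinearMap.snd B (B ⧸ 𝔟₁) (B ⧸ 𝔟₂))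
      LinearMap.inl_injective LinearMap.snd_surjective (exact_inl_snd _ _) e ?_ ?_
    · exact le_of_eq h1.2.symm
    · exact le_of_eq h2.2.symm
  have hd3 : (e : ℕ∞) ≤ LocCoh.idealDepth (maximalIdeal B) (B ⧸ (𝔟₁ ⊔ 𝔟₂)) + 1 := by
    have h4 : LocCoh.idealDepth (maximalIdeal B) (B ⧸ (𝔟₁ ⊔ 𝔟₂)) = ((e - 1 : ℕ) : ℕ∞) := h3.2
    rw [h4]
    have : ((e - 1 : ℕ) : ℕ∞) + 1 = ((e - 1 + 1 : ℕ) : ℕ∞) := by push_cast; rfl
    rw [this, Nat.sub_add_cancel he]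
  have hd1 : (e : ℕ∞) ≤ LocCoh.idealDepth (maximalIdeal B) (B ⧸ (𝔟₁ ⊓ 𝔟₂)) :=
    Groth.Agent.Helper6.DepthLemma.le_idealDepth_left (maximalIdeal B) (diag 𝔟₁ 𝔟₂) (diff 𝔟₁ 𝔟₂)
      (diag_injective 𝔟₁ 𝔟₂) (diff_surjective 𝔟₁ 𝔟₂) (exact_diag_diff 𝔟₁ 𝔟₂) e hd2 hd3
  -- dimension
  have hdim : Module.supportDim B (B ⧸ (𝔟₁ ⊓ 𝔟₂)) ≤ (e : WithBot ℕ∞) := by
    rw [Module.supportDim_quotient_eq_ringKrullDim]
    apply dim_quotient_inf_le
    · rw [← Module.supportDim_quotient_eq_ringKrullDim, h1.1]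
    · rw [← Module.supportDim_quotient_eq_ringKrullDim, h2.1]
  have hle := Groth.Agent.Helper2.DepthCM4.depth_le_supportDim (A := B) (B ⧸ (𝔟₁ ⊓ 𝔟₂))
  have hd1' : ((e : ℕ∞) : WithBot ℕ∞) ≤ ((LocCoh.depth B (B ⧸ (𝔟₁ ⊓ 𝔟₂)) : ℕ∞) : WithBot ℕ∞) :=
    WithBot.coe_le_coe.mpr hd1
  constructor
  · exact le_antisymm hdim (le_trans hd1' hle)
  · apply le_antisymm _ hd1
    have h5 := le_trans hle hdim
    exact WithBot.coe_le_coe.mp h5

end glue

/-! ### The local ring of a quotient -/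

section bridge

variable {S : Type u} [CommRing S] [IsNoetherianRing S] (M₀ : Ideal S) [M₀.IsPrime]

theorem cmLocal_quot (𝔟 : Ideal (Localization.AtPrime M₀)) (e : ℕ) (h : CMq 𝔟 e) :
    LocCoh.IsCohenMacaulayLocalRing (Localization.AtPrime M₀ ⧸ 𝔟) := by
  have hne := h.ne_top
  haveI : Nontrivial (Localization.AtPrime M₀ ⧸ 𝔟) := nontrivial_quot hne
  haveI : IsLocalRing (Localization.AtPrime M₀ ⧸ 𝔟) :=
    IsLocalRing.of_surjective' (Ideal.Quotient.mk 𝔟) Ideal.Quotient.mk_surjective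
  haveI : IsLocalHom (algebraMap (Localization.AtPrime M₀) (Localization.AtPrime M₀ ⧸ 𝔟)) :=
    IsLocalHom.of_surjective _ Ideal.Quotient.mk_surjective
  refine { supportDim_eq_depth := ?_ }
  rw [Module.supportDim_self_eq_ringKrullDim, ← Module.supportDim_quotient_eq_ringKrullDim, h.1,
    ← Groth.Agent.Helper2.RegCM.depth_eq_of_isLocalHom (Localization.AtPrime M₀)
      (Localization.AtPrime M₀ ⧸ 𝔟) (Localization.AtPrime M₀ ⧸ 𝔟), h.2]
  rfl

theorem primeCompl_eq (𝔞 : Ideal S) (h𝔞 : 𝔞 ≤ M₀) [hm : (M₀.map (Ideal.Quotient.mk 𝔞)).IsPrime] :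
    Algebra.algebraMapSubmonoid (S ⧸ 𝔞) M₀.primeCompl =
      (M₀.map (Ideal.Quotient.mk 𝔞)).primeCompl := by
  ext s
  constructor
  · rintro ⟨x, hx, rfl⟩
    intro hmem
    apply hx
    have h1 : x ∈ (M₀.map (Ideal.Quotient.mk 𝔞)).comap (Ideal.Quotient.mk 𝔞) := hmem
    rw [Ideal.comap_map_of_surjective _ Ideal.Quotient.mk_surjective, ← RingHom.ker_eq_comap_bot,
      Ideal.mk_ker, sup_eq_left.mpr h𝔞] at h1
    exact h1
  · intro hs
    obtain ⟨x, rfl⟩ := Ideal.Quotient.mk_surjective s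
    refine ⟨x, ?_, rfl⟩
    intro hx
    exact hs (Ideal.mem_map_of_mem _ hx)

theorem cmLocal_of_cmq (𝔞 : Ideal S) (h𝔞 : 𝔞 ≤ M₀) [hm : (M₀.map (Ideal.Quotient.mk 𝔞)).IsPrime]
    (e : ℕ) (h : CMq (𝔞.map (algebraMap S (Localization.AtPrime M₀))) e) :
    LocCoh.IsCohenMacaulayLocalRing (Localization.AtPrime (M₀.map (Ideal.Quotient.mk 𝔞))) := by
  have h1 := cmLocal_quot M₀ _ e h
  haveI hloc : IsLocalization (Algebra.algebraMapSubmonoid (S ⧸ 𝔞) M₀.primeCompl)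
      (Localization.AtPrime M₀ ⧸ 𝔞.map (algebraMap S (Localization.AtPrime M₀))) := inferInstance
  rw [primeCompl_eq M₀ 𝔞 h𝔞] at hloc
  exact GrLG.cmLocal_of_ringEquiv
    (IsLocalization.algEquiv (M₀.map (Ideal.Quotient.mk 𝔞)).primeCompl
      (Localization.AtPrime M₀ ⧸ 𝔞.map (algebraMap S (Localization.AtPrime M₀)))
      (Localization.AtPrime (M₀.map (Ideal.Quotient.mk 𝔞)))).toRingEquiv h1

end bridge

end Groth.Agent.Helper8.CMGlue
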