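import Mathlib

namespace Groth.Agent.Helper8.Shear

open Polynomial

universe u v

/-- product lemma: degrees and top coefficients of a finite product -/
theorem prod_top {R : Type*} [CommRing R] {ι : Type*} (S : Finset ι) (f : ι → R[X]) (d : ι → ℕ)
    (h : ∀ i ∈ S, (f i).natDegree ≤ d i) :
    (∏ i ∈ S, f i).natDegree ≤ ∑ i ∈ S, d i ∧
      (∏ i ∈ S, f i).coeff (∑ i ∈ S, d i) = ∏ i ∈ S, (f i).coeff (d i) := by
  classical
  induction S using Finset.induction_on with
  | empty => simp
  | insert a S ha ih =>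
    obtain ⟨ih1, ih2⟩ := ih (fun i hi => h i (Finset.mem_insert_of_mem hi))
    have ha' := h a (Finset.mem_insert_self a S)
    rw [Finset.prod_insert ha, Finset.sum_insert ha, Finset.prod_insert ha]
    refine ⟨(natDegree_mul_le).trans (add_le_add ha' ih1), ?_⟩
    rw [coeff_mul_add_eq_of_natDegree_le ha' ih1, ih2]

section

variable {k : Type u} [Field k] {K : Type v} [Field K] [Algebra k K] {r : ℕ}

/-- the substitution `x_i ↦ x_i + g_i t^N` -/
noncomputable def φ (g : Fin r → K) (N : ℕ) :
    MvPolynomial (Fin r) k →ₐ[k] Polynomial (MvPolynomial (Fin r) K) :=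
  MvPolynomial.aeval (fun i : Fin r =>
    Polynomial.C (MvPolynomial.X i) + Polynomial.C (MvPolynomial.C (g i)) * Polynomial.X ^ N)

theorem lin_natDegree (g : Fin r → K) (N : ℕ) (i : Fin r) :
    (Polynomial.C (MvPolynomial.X i : MvPolynomial (Fin r) K) +
      Polynomial.C (MvPolynomial.C (g i)) * Polynomial.X ^ N).natDegree ≤ N := by
  refine (natDegree_add_le _ _).trans (max_le ?_ ?_)
  · simp
  · exact (natDegree_C_mul_X_pow_le _ _)

theorem lin_coeff (g : Fin r → K) (N : ℕ) (hN : 0 < N) (i : Fin r) :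
    (Polynomial.C (MvPolynomial.X i : MvPolynomial (Fin r) K) +
      Polynomial.C (MvPolynomial.C (g i)) * Polynomial.X ^ N).coeff N = MvPolynomial.C (g i) := by
  rw [coeff_add, coeff_C_mul, coeff_X_pow_self, mul_one, coeff_C, if_neg hN.ne', zero_add]

theorem mono (g : Fin r → K) (N : ℕ) (hN : 0 < N) (d : Fin r →₀ ℕ) (a : k) :
    (φ g N (MvPolynomial.monomial d a)).natDegree ≤ N * d.degree ∧
      (φ g N (MvPolynomial.monomial d a)).coeff (N * d.degree) =
        MvPolynomial.C (MvPolynomial.aeval g (MvPolynomial.monomial d a)) := by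
  have h1 : φ g N (MvPolynomial.monomial d a) =
      algebraMap k _ a * ∏ i ∈ d.support,
        (Polynomial.C (MvPolynomial.X i : MvPolynomial (Fin r) K) +
          Polynomial.C (MvPolynomial.C (g i)) * Polynomial.X ^ N) ^ (d i) := by
    rw [φ, MvPolynomial.aeval_monomial]; rfl
  have hpow : ∀ i ∈ d.support, ((Polynomial.C (MvPolynomial.X i : MvPolynomial (Fin r) K) +
          Polynomial.C (MvPolynomial.C (g i)) * Polynomial.X ^ N) ^ (d i)).natDegree ≤ d i * N :=
    fun i _ => natDegree_pow_le_of_le _ (lin_natDegree g N i)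
  obtain ⟨p1, p2⟩ := prod_top d.support _ (fun i => d i * N) hpow
  have hsum : ∑ i ∈ d.support, d i * N = N * d.degree := by
    rw [Finsupp.degree, ← Finset.sum_mul, mul_comm]; rfl
  rw [hsum] at p1 p2
  have halg : (algebraMap k (Polynomial (MvPolynomial (Fin r) K)) a) =
      Polynomial.C (MvPolynomial.C (algebraMap k K a)) := by
    rw [IsScalarTower.algebraMap_apply k (MvPolynomial (Fin r) K) (Polynomial (MvPolynomial (Fin r) K)),
      IsScalarTower.algebraMap_apply k K (MvPolynomial (Fin r) K)]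
    rfl
  rw [h1, halg]
  refine ⟨(natDegree_C_mul_le _ _).trans p1, ?_⟩
  rw [coeff_C_mul, p2]
  have : ∀ i ∈ d.support, ((Polynomial.C (MvPolynomial.X i : MvPolynomial (Fin r) K) +
          Polynomial.C (MvPolynomial.C (g i)) * Polynomial.X ^ N) ^ (d i)).coeff (d i * N) =
      MvPolynomial.C (g i ^ d i) := by
    intro i _
    rw [coeff_pow_of_natDegree_le (lin_natDegree g N i), lin_coeff g N hN i, map_pow]
  rw [Finset.prod_congr rfl this, MvPolynomial.aeval_monomial, map_mul, Finsupp.prod, map_prod]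

theorem general (g : Fin r → K) (N : ℕ) (hN : 0 < N) (q : MvPolynomial (Fin r) k) :
    (φ g N q).natDegree ≤ N * q.totalDegree ∧
      (φ g N q).coeff (N * q.totalDegree) =
        MvPolynomial.C (MvPolynomial.aeval g
          (MvPolynomial.homogeneousComponent q.totalDegree q)) := by
  have hq : φ g N q = ∑ d ∈ q.support, φ g N (MvPolynomial.monomial d (q.coeff d)) := by
    conv_lhs => rw [q.as_sum]
    rw [map_sum]
  have hdeg : ∀ d ∈ q.support, d.degree ≤ q.totalDegree :=
    fun d hd => MvPolynomial.le_totalDegree hd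
  constructor
  · rw [hq]
    refine natDegree_sum_le_of_forall_le _ _ (fun d hd => ?_)
    exact (mono g N hN d _).1.trans (Nat.mul_le_mul_left _ (hdeg d hd))
  · rw [hq, finset_sum_coeff, MvPolynomial.homogeneousComponent_apply, map_sum, map_sum,
      Finset.sum_filter]
    refine Finset.sum_congr rfl (fun d hd => ?_)
    split_ifs with h
    · rw [← h]; exact (mono g N hN d _).2
    · apply coeff_eq_zero_of_natDegree_lt
      refine lt_of_le_of_lt (mono g N hN d _).1 ?_
      exact Nat.mul_lt_mul_of_pos_left (lt_of_le_of_ne (hdeg d hd) h) hN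

theorem hc_ne_zero (q : MvPolynomial (Fin r) k) (hq : q ≠ 0) :
    MvPolynomial.homogeneousComponent q.totalDegree q ≠ 0 := by
  have hne : q.support.Nonempty := by
    rwa [Finset.nonempty_iff_ne_empty, Ne, MvPolynomial.support_eq_empty]
  obtain ⟨d, hd, hdeg⟩ := Finset.exists_mem_eq_sup q.support hne (fun s => s.sum fun _ e => e)
  intro h0
  have h1 := MvPolynomial.coeff_homogeneousComponent q.totalDegree q d
  rw [h0, MvPolynomial.coeff_zero] at h1
  have h2 : d.degree = q.totalDegree := hdeg.symm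
  rw [if_pos h2] at h1
  exact (MvPolynomial.mem_support_iff.mp hd) h1.symm

end

theorem main {k : Type u} [Field k] (r m : ℕ)
    (f : Polynomial (MvPolynomial (Fin r) k)) (hf : f ≠ 0) :
    ∃ h : MvPolynomial (Fin r) k, h ≠ 0 ∧ ∃ s₀ : ℕ, ∀ s : ℕ, s₀ ≤ s →
      ∀ (K : Type v) [Field K] [Algebra k K] (g : Fin r → K), MvPolynomial.aeval g h ≠ 0 →
        ∃ c : K, c ≠ 0 ∧
          (Polynomial.eval₂ (MvPolynomial.aeval (fun i : Fin r => Polynomial.C (MvPolynomial.X i) + Polynomial.C (MvPolynomial.C (g i)) * Polynomial.X ^ (s * (m + 1))) : MvPolynomial (Fin r) k →ₐ[k] Polynomial (MvPolynomial (Fin r) K)).toRingHom Polynomial.X f).leadingCoeff = MvPolynomial.C c := by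
  classical
  have hsupp : f.support.Nonempty := by
    rwa [Finset.nonempty_iff_ne_empty, Ne, Polynomial.support_eq_empty]
  obtain ⟨D, hD⟩ : ∃ D, D = f.support.sup (fun j => (f.coeff j).totalDegree) := ⟨_, rfl⟩
  have hJ : (f.support.filter (fun j => (f.coeff j).totalDegree = D)).Nonempty := by
    obtain ⟨j, hj, hjD⟩ := Finset.exists_mem_eq_sup f.support hsupp
      (fun j => (f.coeff j).totalDegree)
    exact ⟨j, Finset.mem_filter.mpr ⟨hj, by rw [hD, hjD]⟩⟩
  obtain ⟨j₀, hj₀⟩ : ∃ j₀, j₀ = (f.support.filter (fun j => (f.coeff j).totalDegree = D)).max' hJ :=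
    ⟨_, rfl⟩
  have hj₀mem : j₀ ∈ f.support.filter (fun j => (f.coeff j).totalDegree = D) := by
    rw [hj₀]; exact Finset.max'_mem _ _
  obtain ⟨hj₀s, hj₀D⟩ := Finset.mem_filter.mp hj₀mem
  have hfj₀ : f.coeff j₀ ≠ 0 := Polynomial.mem_support_iff.mp hj₀s
  refine ⟨MvPolynomial.homogeneousComponent D (f.coeff j₀), ?_, f.natDegree + 1, ?_⟩
  · rw [← hj₀D]; exact hc_ne_zero _ hfj₀
  intro s hs K _ _ g hg
  obtain ⟨N, hN⟩ : ∃ N, N = s * (m + 1) := ⟨_, rfl⟩
  have hNf : f.natDegree < N := by
    rw [hN]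
    calc f.natDegree < s := hs
      _ = s * 1 := (mul_one s).symm
      _ ≤ s * (m + 1) := Nat.mul_le_mul_left _ (by omega)
  have hNpos : 0 < N := lt_of_le_of_lt (Nat.zero_le _) hNf
  rw [← hN]
  change ∃ c : K, c ≠ 0 ∧ (Polynomial.eval₂ (φ (k := k) g N).toRingHom Polynomial.X f).leadingCoeff
    = MvPolynomial.C c
  refine ⟨MvPolynomial.aeval g (MvPolynomial.homogeneousComponent D (f.coeff j₀)), hg, ?_⟩
  have hF : Polynomial.eval₂ (φ (k := k) g N).toRingHom Polynomial.X f =
      ∑ j ∈ f.support, φ g N (f.coeff j) * Polynomial.X ^ j := by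
    rw [Polynomial.eval₂_eq_sum, Polynomial.sum_def]; rfl
  have hterm : ∀ j ∈ f.support, (φ (k := k) g N (f.coeff j) * Polynomial.X ^ j).natDegree ≤ N * D + j₀ ∧
      (j ≠ j₀ → (φ (k := k) g N (f.coeff j) * Polynomial.X ^ j).natDegree < N * D + j₀) := by
    intro j hj
    have h1 : (φ (k := k) g N (f.coeff j) * Polynomial.X ^ j).natDegree ≤ N * (f.coeff j).totalDegree + j :=
      (natDegree_mul_le).trans (add_le_add (general g N hNpos _).1 (natDegree_X_pow_le _))
    have htd : (f.coeff j).totalDegree ≤ D := by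
      rw [hD]; exact Finset.le_sup (f := fun j => (f.coeff j).totalDegree) hj
    have hjf : j ≤ f.natDegree := Polynomial.le_natDegree_of_mem_supp _ hj
    rcases eq_or_lt_of_le htd with htd' | htd'
    · have hjJ : j ∈ f.support.filter (fun j => (f.coeff j).totalDegree = D) :=
        Finset.mem_filter.mpr ⟨hj, htd'⟩
      have hle : j ≤ j₀ := by rw [hj₀]; exact Finset.le_max' _ _ hjJ
      rw [htd'] at h1
      exact ⟨h1.trans (by omega), fun hne => lt_of_le_of_lt h1 (by omega)⟩
    · have h2 : N * (f.coeff j).totalDegree + N ≤ N * D := by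
        calc N * (f.coeff j).totalDegree + N = N * ((f.coeff j).totalDegree + 1) := by ring
          _ ≤ N * D := Nat.mul_le_mul_left _ htd'
      exact ⟨by omega, fun _ => by omega⟩
  have hdegF : (Polynomial.eval₂ (φ (k := k) g N).toRingHom Polynomial.X f).natDegree ≤ N * D + j₀ := by
    rw [hF]
    exact natDegree_sum_le_of_forall_le _ _ (fun j hj => (hterm j hj).1)
  have hcoeffF : (Polynomial.eval₂ (φ (k := k) g N).toRingHom Polynomial.X f).coeff (N * D + j₀) =
      MvPolynomial.C (MvPolynomial.aeval g (MvPolynomial.homogeneousComponent D (f.coeff j₀))) := by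
    rw [hF, finset_sum_coeff, Finset.sum_eq_single_of_mem j₀ hj₀s]
    · rw [coeff_mul_X_pow]
      have := (general (k := k) g N hNpos (f.coeff j₀)).2
      rw [hj₀D] at this
      exact this
    · intro j hj hne
      exact coeff_eq_zero_of_natDegree_lt ((hterm j hj).2 hne)
  have hne0 : (Polynomial.eval₂ (φ (k := k) g N).toRingHom Polynomial.X f).coeff (N * D + j₀) ≠ 0 := by
    rw [hcoeffF]
    intro h0
    exact hg ((MvPolynomial.C_injective (Fin r) K) (h0.trans (map_zero _).symm))
  have hnat : (Polynomial.eval₂ (φ (k := k) g N).toRingHom Polynomial.X f).natDegree = N * D + j₀ :=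
    le_antisymm hdegF (le_natDegree_of_ne_zero hne0)
  rw [Polynomial.leadingCoeff, hnat, hcoeffF]

end Groth.Agent.Helper8.Shear
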