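import Mathlib
import Groth.Prelude.Def_PLie

namespace Groth.Agent.Helper8.PLieJac

open Polynomial

attribute [local instance 100] LieRing.ofAssociativeRing

section charp
variable {R : Type*} [CommRing R] (p : ℕ) [hp : Fact p.Prime] [CharP R p]

lemma choose_pred_cast (m : ℕ) (hm : m ≤ p - 1) : (((p-1).choose m : ℕ) : R) = (-1)^m := by
  induction m with
  | zero => simp
  | succ m ih =>
    have hpos := hp.out.pos
    have h1 : (p - 1).choose m + (p-1).choose (m+1) = p.choose (m+1) := by
      have : p = (p - 1) + 1 := by omega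
      conv_rhs => rw [this]
      rw [Nat.choose_succ_succ]
    have h2 : ((p.choose (m+1) : ℕ) : R) = 0 := by
      have : p ∣ p.choose (m+1) := hp.out.dvd_choose_self (by omega) (by omega)
      exact (CharP.cast_eq_zero_iff R p _).mpr this
    have := congrArg (Nat.cast (R := R)) h1
    rw [Nat.cast_add, h2, ih (by omega)] at this
    rw [pow_succ]; linear_combination this

lemma neg_one_pow_pred : ((-1 : R))^(p-1) = 1 := by
  have hpos := hp.out.pos
  have h := neg_one_pow_char R p
  have : p = (p - 1) + 1 := by omega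
  rw [this, pow_succ] at h
  linear_combination (-1 : R) * h

lemma choose_mul_neg_one_pow (m : ℕ) (hm : m ≤ p - 1) :
    (((p-1).choose m : ℕ) : R) * (-1)^(p-1-m) = 1 := by
  rw [choose_pred_cast p m hm, ← pow_add, show m + (p - 1 - m) = p - 1 by omega, neg_one_pow_pred]

lemma sum_pow_mul_pow {B : Type*} [Ring B] [Algebra R B] (c g : B) :
    ((LinearMap.mulLeft R c - LinearMap.mulRight R c)^(p-1)) g
      = ∑ j ∈ Finset.range p, c^j * g * c^(p-1-j) := by
  have hpos := hp.out.pos
  have hc : Commute (LinearMap.mulLeft R c) ((-1 : R) • LinearMap.mulRight R c) :=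
    (LinearMap.commute_mulLeft_right c c).smul_right _
  have e1 : LinearMap.mulLeft R c - LinearMap.mulRight R c
      = LinearMap.mulLeft R c + ((-1 : R) • LinearMap.mulRight R c) := by
    rw [neg_one_smul, sub_eq_add_neg]
  rw [e1, hc.add_pow, show p - 1 + 1 = p by omega, LinearMap.sum_apply]
  refine Finset.sum_congr rfl fun m hm => ?_
  have hm' : m ≤ p - 1 := by have := Finset.mem_range.mp hm; omega
  rw [_root_.smul_pow, Module.End.mul_apply, Module.End.mul_apply, LinearMap.smul_apply,
    LinearMap.pow_mulLeft, LinearMap.pow_mulRight, LinearMap.mulLeft_apply,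
    LinearMap.mulRight_apply, Module.End.natCast_apply, ← Nat.cast_smul_eq_nsmul R,
    smul_mul_assoc, smul_smul, mul_smul_comm, mul_comm, choose_mul_neg_one_pow p m hm', one_smul,
    mul_assoc]

end charp

section leibniz
variable {A : Type*} [Ring A]

lemma derivative_pow_noncomm (f : A[X]) (n : ℕ) :
    derivative (f^n) = ∑ j ∈ Finset.range n, f^j * derivative f * f^(n-1-j) := by
  induction n with
  | zero => simp
  | succ n ih =>
    rw [pow_succ, derivative_mul, ih, Finset.sum_range_succ, Finset.sum_mul]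
    congr 1
    · refine Finset.sum_congr rfl fun j hj => ?_
      have := Finset.mem_range.mp hj
      rw [mul_assoc, ← pow_succ]
      congr 2
      omega
    · simp

end leibniz


section main
variable {R : Type*} [CommRing R] (p : ℕ) [hp : Fact p.Prime] [CharP R p]
variable {A : Type*} [Ring A] [Algebra R A]

/-- number of `true` values -/
def cT {n : ℕ} (t : Fin n → Bool) : ℕ := Fintype.card {i // t i = true}
/-- number of `false` values -/
def cF {n : ℕ} (t : Fin n → Bool) : ℕ := Fintype.card {i // t i = false}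

lemma cT_eq_sum {n : ℕ} (t : Fin n → Bool) : cT t = ∑ i, if t i = true then 1 else 0 := by
  rw [cT, Fintype.card_subtype, Finset.card_filter]

lemma cF_eq_sum {n : ℕ} (t : Fin n → Bool) : cF t = ∑ i, if t i = false then 1 else 0 := by
  rw [cF, Fintype.card_subtype, Finset.card_filter]

lemma cT_cons {n : ℕ} (s : Bool) (t : Fin n → Bool) :
    cT (Fin.cons s t : Fin (n+1) → Bool) = cT t + (if s = true then 1 else 0) := by
  rw [cT_eq_sum, cT_eq_sum, Fin.sum_univ_succ]
  simp [add_comm]

lemma cT_add_cF {n : ℕ} (t : Fin n → Bool) : cT t + cF t = n := by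
  rw [cT_eq_sum, cF_eq_sum, ← Finset.sum_add_distrib]
  have : ∀ i : Fin n, ((if t i = true then 1 else 0) + (if t i = false then 1 else 0) : ℕ) = 1 := by
    intro i; cases t i <;> simp
  simp [this]

lemma ad_apply_C_mul_X_pow (a b v : A) (k : ℕ) :
    (LinearMap.mulLeft R (C a + C b * X : A[X]) - LinearMap.mulRight R (C a + C b * X : A[X]))
      (C v * X^k) = C (a * v - v * a) * X^k + C (b * v - v * b) * X^(k+1) := by
  rw [LinearMap.sub_apply, LinearMap.mulLeft_apply, LinearMap.mulRight_apply]
  have h1 : (X : A[X]) * (C v * X^k) = C v * X^(k+1) := by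
    rw [← mul_assoc, X_mul_C, mul_assoc, ← pow_succ']
  have h2 : (X : A[X])^k * C a = C a * X^k := X_pow_mul_C _ _
  have h3 : (X : A[X])^k * (C b * X) = C b * X^(k+1) := by
    rw [← mul_assoc, X_pow_mul_C, mul_assoc, ← pow_succ]
  rw [add_mul, mul_add, mul_assoc (C b) X, h1, mul_assoc (C v), mul_assoc (C v), h2, h3,
    ← mul_assoc, ← mul_assoc, ← mul_assoc, ← mul_assoc, ← C_mul, ← C_mul, ← C_mul, ← C_mul,
    C_sub, C_sub, sub_mul, sub_mul]
  abel

lemma ad_pow_C (a b w : A) (n : ℕ) :
    ((LinearMap.mulLeft R (C a + C b * X : A[X]) - LinearMap.mulRight R (C a + C b * X : A[X]))^n)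
      (C w)
      = ∑ t : Fin n → Bool, C (PLie.bracketWord (PLie.pair a b) w (List.ofFn t)) * X^(cT t) := by
  induction n with
  | zero => simp [cT]
  | succ n ih =>
    rw [pow_succ', Module.End.mul_apply, ih, map_sum,
      ← (Fin.consEquiv (fun _ => Bool)).sum_comp, Fintype.sum_prod_type, Fintype.sum_bool,
      ← Finset.sum_add_distrib]
    refine Finset.sum_congr rfl fun t _ => ?_
    rw [ad_apply_C_mul_X_pow, add_comm]
    simp [Fin.consEquiv, List.ofFn_succ, cT_cons, PLie.pair, Ring.lie_def]


lemma natDegree_lin_le (a b : A) : (C a + C b * X : A[X]).natDegree ≤ 1 := by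
  refine (natDegree_add_le _ _).trans ?_
  rw [natDegree_C]
  exact max_le (Nat.zero_le _) ((natDegree_C_mul_le b X).trans natDegree_X_le)

lemma coeff_zero_pow' (f : A[X]) (n : ℕ) : (f^n).coeff 0 = (f.coeff 0)^n := by
  induction n with
  | zero => simp
  | succ n ih => rw [pow_succ, mul_coeff_zero, ih, pow_succ]

lemma kappa_mul (k : ℕ) (hk : k + 1 < p) :
    (ZMod.castHom (dvd_refl p) R) (((p - 1 - k : ℕ) : ZMod p)⁻¹) * ((k + 1 : ℕ) : R) = -1 := by
  have hpos := hp.out.pos
  have h0 : ((k + 1 : ℕ) : ZMod p) ≠ 0 := by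
    intro h
    rw [ZMod.natCast_eq_zero_iff] at h
    exact absurd (Nat.le_of_dvd (by omega) h) (by omega)
  have h1 : ((p - 1 - k : ℕ) : ZMod p) = -((k + 1 : ℕ) : ZMod p) := by
    rw [eq_neg_iff_add_eq_zero, ← Nat.cast_add, show p - 1 - k + (k + 1) = p by omega]
    exact ZMod.natCast_self p
  have h2 : ((k + 1 : ℕ) : R) = (ZMod.castHom (dvd_refl p) R) ((k + 1 : ℕ) : ZMod p) := by
    rw [map_natCast]
  rw [h2, ← map_mul, h1, inv_neg, neg_mul, inv_mul_cancel₀ h0, map_neg, map_one]

theorem assoc_jacobson (a b : A) : (a + b)^p = a^p + b^p - PLie.jacobson R p a b := by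
  have hpos := hp.out.pos
  set f : A[X] := C a + C b * X with hf
  set W : (Fin (p-1) → Bool) → A := fun t => PLie.bracketWord (PLie.pair a b) b (List.ofFn t) with hW
  have hdf : derivative f = C b := by simp [hf]
  have hder : derivative (f^p) = ∑ t : Fin (p-1) → Bool, C (W t) * X^(cT t) := by
    rw [derivative_pow_noncomm, hdf, ← sum_pow_mul_pow (R := R) p f (C b), hf, ad_pow_C]
  have hcoeff : ∀ k : ℕ, (f^p).coeff (k+1) * ((k + 1 : ℕ) : A)
      = ∑ t : Fin (p-1) → Bool, if cT t = k then W t else 0 := by
    intro k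
    have := congrArg (fun g => coeff g k) hder
    simp only [coeff_derivative, finsetSum_coeff, coeff_C_mul_X_pow] at this
    rw [Nat.cast_add, Nat.cast_one, this]
    refine Finset.sum_congr rfl fun t _ => ?_
    by_cases h : k = cT t
    · simp [h]
    · simp [h, Ne.symm h]
  have hdeg : (f^p).natDegree < p + 1 := by
    have := (natDegree_pow_le (p := f) (n := p)).trans (Nat.mul_le_mul_left p (natDegree_lin_le a b))
    omega
  have hev : (a + b)^p = ∑ i ∈ Finset.range (p+1), (f^p).coeff i := by
    have h1 : eval₂RingHom' (RingHom.id A) 1 (fun _ => Commute.one_right _) f = a + b := by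
      simp [eval₂RingHom', hf]
    have h2 := map_pow (eval₂RingHom' (RingHom.id A) 1 (fun _ => Commute.one_right _)) f p
    rw [h1] at h2
    rw [← h2]
    change eval₂ (RingHom.id A) 1 (f^p) = _
    rw [eval₂_eq_sum_range' (RingHom.id A) hdeg]
    simp
  have c0 : (f^p).coeff 0 = a^p := by
    rw [coeff_zero_pow']; simp [hf]
  have cp : (f^p).coeff p = b^p := by
    have := coeff_pow_of_natDegree_le (m := p) (natDegree_lin_le a b)
    rw [mul_one] at this
    rw [← hf] at this
    rw [this]; simp [hf]
  -- Jacobson's sum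
  have hJ : PLie.jacobson R p a b = - ∑ k ∈ Finset.range (p-1), (f^p).coeff (k+1) := by
    unfold PLie.jacobson
    have hmaps : ∀ t ∈ (Finset.univ : Finset (Fin (p-1) → Bool)), cT t ∈ Finset.range p := by
      intro t _
      have := cT_add_cF t
      rw [Finset.mem_range]; omega
    have hr : Finset.range p = Finset.range ((p - 1) + 1) := by congr 1; omega
    rw [← Finset.sum_fiberwise_of_maps_to hmaps, hr, Finset.sum_range_succ]
    have hlast : ∑ t ∈ (Finset.univ : Finset (Fin (p-1) → Bool)) with cT t = p - 1,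
        ((ZMod.castHom (dvd_refl p) R) ((Fintype.card {i // t i = false} : ZMod p)⁻¹)) •
          PLie.bracketWord (PLie.pair a b) b (List.ofFn t) = 0 := by
      refine Finset.sum_eq_zero fun t ht => ?_
      have h1 := cT_add_cF t
      have h2 : cT t = p - 1 := (Finset.mem_filter.mp ht).2
      have h3 : Fintype.card {i // t i = false} = 0 := by
        change cF t = 0; omega
      rw [h3]; simp
    rw [hlast, add_zero, ← Finset.sum_neg_distrib]
    refine Finset.sum_congr rfl fun k hk => ?_
    have hk' : k + 1 < p := by have := Finset.mem_range.mp hk; omega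
    have hkap := kappa_mul (R := R) p k hk'
    have : ∀ t ∈ (Finset.univ : Finset (Fin (p-1) → Bool)).filter (fun t => cT t = k),
        ((ZMod.castHom (dvd_refl p) R) ((Fintype.card {i // t i = false} : ZMod p)⁻¹)) •
          PLie.bracketWord (PLie.pair a b) b (List.ofFn t)
        = ((ZMod.castHom (dvd_refl p) R) (((p - 1 - k : ℕ) : ZMod p)⁻¹)) • W t := by
      intro t ht
      have h1 := cT_add_cF t
      have h2 : cT t = k := (Finset.mem_filter.mp ht).2
      have h3 : Fintype.card {i // t i = false} = p - 1 - k := by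
        change cF t = _; omega
      rw [h3]
    rw [Finset.sum_congr rfl this, ← Finset.smul_sum, Finset.sum_filter, ← hcoeff k,
      ← nsmul_eq_mul', ← Nat.cast_smul_eq_nsmul R, smul_smul, hkap, neg_one_smul]
  have hr : Finset.range p = Finset.range ((p - 1) + 1) := by congr 1; omega
  rw [hev, Finset.sum_range_succ, hr, Finset.sum_range_succ', c0, cp, hJ]
  abel

end main


section ofAssoc
variable {R : Type*} [CommRing R] (p : ℕ) [hp : Fact p.Prime] [CharP R p]
variable {L : Type*} [LieRing L] [LieAlgebra R L] {A : Type*} [Ring A] [Algebra R A]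

lemma map_bracketWord (e : L →ₗ[R] A) (he : ∀ x y : L, e ⁅x, y⁆ = e x * e y - e y * e x)
    {ι : Type*} (x : ι → L) (w : L) (l : List ι) :
    e (PLie.bracketWord x w l) = PLie.bracketWord (fun i => e (x i)) (e w) l := by
  induction l with
  | nil => rfl
  | cons i l ih =>
    rw [PLie.bracketWord_cons, PLie.bracketWord_cons, he, ih, Ring.lie_def]

lemma map_jacobson (e : L →ₗ[R] A) (he : ∀ x y : L, e ⁅x, y⁆ = e x * e y - e y * e x)
    (x₀ x₁ : L) : e (PLie.jacobson R p x₀ x₁) = PLie.jacobson R p (e x₀) (e x₁) := by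
  unfold PLie.jacobson
  rw [map_sum]
  refine Finset.sum_congr rfl fun t _ => ?_
  rw [map_smul, map_bracketWord e he]
  congr 2
  funext i
  cases i <;> rfl

omit [CharP R p] in
lemma map_ad_pow (e : L →ₗ[R] A) (he : ∀ x y : L, e ⁅x, y⁆ = e x * e y - e y * e x)
    (x y : L) (n : ℕ) :
    e ((LieAlgebra.ad R L x ^ n) y)
      = ((LinearMap.mulLeft R (e x) - LinearMap.mulRight R (e x))^n) (e y) := by
  induction n generalizing y with
  | zero => simp
  | succ n ih =>
    rw [pow_succ, Module.End.mul_apply, ih, pow_succ, Module.End.mul_apply, LieAlgebra.ad_apply, he]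
    rfl

lemma ad_pow_char (c y : A) :
    ((LinearMap.mulLeft R c - LinearMap.mulRight R c)^p) y = c^p * y - y * c^p := by
  have hpos := hp.out.pos
  have hp1 : p = (p - 1) + 1 := by omega
  conv_lhs => rw [hp1, pow_succ, Module.End.mul_apply, sum_pow_mul_pow]
  rw [LinearMap.sub_apply, LinearMap.mulLeft_apply, LinearMap.mulRight_apply]
  have : ∀ j ∈ Finset.range p, c^j * (c * y - y * c) * c^(p-1-j)
      = (fun j => c^j * y * c^(p-j)) (j+1) - (fun j => c^j * y * c^(p-j)) j := by
    intro j hj
    have hj' := Finset.mem_range.mp hj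
    have h1 : p - j = (p - 1 - j) + 1 := by omega
    simp only
    rw [show p - (j+1) = p - 1 - j by omega, h1, pow_succ, pow_succ']
    noncomm_ring
  rw [Finset.sum_congr rfl this, Finset.sum_range_sub (fun j => c^j * y * c^(p-j)) p]
  simp

/-- A `p`-map from an embedding into an associative algebra whose image is stable under
`p`-th powers. -/
noncomputable def ofAssoc (e : L →ₗ[R] A) (hinj : Function.Injective e)
    (he : ∀ x y : L, e ⁅x, y⁆ = e x * e y - e y * e x)
    (ψ : L → L) (hψ : ∀ x, e (ψ x) = e x ^ p) : PLie.PMap R p L where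
  toFun := ψ
  map_smul c x := by
    apply hinj
    rw [hψ, map_smul, map_smul, hψ, _root_.smul_pow]
  ad_map x := by
    apply LinearMap.ext
    intro y
    apply hinj
    rw [map_ad_pow e he, ad_pow_char, LieAlgebra.ad_apply, he, hψ]
  map_add x₀ x₁ := by
    apply hinj
    rw [hψ, map_add, assoc_jacobson (R := R) p, map_sub, map_add, hψ, hψ, map_jacobson p e he]

end ofAssoc

end Groth.Agent.Helper8.PLieJac
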