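import Mathlib
import Groth.Prelude.Def_ComodSub
import Groth.Agent.Helper8.DualTensorFlat
import Groth.Agent.Helper8.ComodDualAux

set_option autoImplicit false
universe u v w

namespace Groth.Agent.Helper8.LDual

open TensorProduct
open Groth.Agent.Helper8.ComodDualAux

variable {k : Type u} [CommRing k] {A : Type v} [AddCommGroup A] [Module k A] [Coalgebra k A]
  [Module.Flat k A] {M : Type w} [AddCommGroup M] [Module k M] [Module.FinitePresentation k M]

/-- `g ↦ (m ↦ Σ g(m₀) m₁)` as a linear map -/
noncomputable def L (c : HopfRep.Comod k A M) : Module.Dual k M →ₗ[k] (M →ₗ[k] A) where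
  toFun g := ComodSub.ldualFun c g
  map_add' g h := by
    apply LinearMap.ext
    intro m
    simp only [ComodSub.ldualFun_apply, LinearMap.rTensor_add, LinearMap.add_apply, map_add]
  map_smul' r g := by
    apply LinearMap.ext
    intro m
    simp only [ComodSub.ldualFun_apply, LinearMap.rTensor_smul, LinearMap.smul_apply, map_smul,
      RingHom.id_apply]

variable (k M) in
/-- `M^* ⊗ N ≃ Hom(M, N)` for `N` flat -/
noncomputable def θ (N : Type*) [AddCommGroup N] [Module k N] [Module.Flat k N] :
    Module.Dual k M ⊗[k] N ≃ₗ[k] (M →ₗ[k] N) :=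
  LinearEquiv.ofBijective (dualTensorHom k M N)
    (Groth.Agent.Helper8.DualTensorFlat.dualTensorHom_bijective_of_flat k M N)

theorem θ_apply (N : Type*) [AddCommGroup N] [Module k N] [Module.Flat k N]
    (x : Module.Dual k M ⊗[k] N) : θ k M N x = dualTensorHom k M N x := rfl

/-- the left coaction on the dual -/
noncomputable def lam (c : HopfRep.Comod k A M) : Module.Dual k M →ₗ[k] A ⊗[k] Module.Dual k M :=
  (TensorProduct.comm k (Module.Dual k M) A).toLinearMap ∘ₗ (θ k M A).symm.toLinearMap ∘ₗ L c

theorem read_lam (c : HopfRep.Comod k A M) (g : Module.Dual k M) :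
    dualTensorHom k M A (TensorProduct.comm k A (Module.Dual k M) (lam c g)) = ComodSub.ldualFun c g := by
  simp only [lam, LinearMap.comp_apply, LinearEquiv.coe_coe]
  rw [← TensorProduct.comm_symm, LinearEquiv.symm_apply_apply, ← θ_apply, LinearEquiv.apply_symm_apply]
  rfl

theorem L_apply (c : HopfRep.Comod k A M) (g : Module.Dual k M) (m : M) :
    L c g m = TensorProduct.lid k A (g.rTensor A (c.coact m)) := rfl

theorem counit_L (c : HopfRep.Comod k A M) (g : Module.Dual k M) (m : M) :
    Coalgebra.counit (R := k) (L c g m) = g m := by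
  have h1 : ∀ y : M ⊗[k] A, Coalgebra.counit (R := k) (TensorProduct.lid k A (g.rTensor A y)) =
      g (TensorProduct.rid k M ((Coalgebra.counit (R := k) (A := A)).lTensor M y)) := by
    intro y
    induction y using TensorProduct.induction_on with
    | zero => simp
    | tmul m' a => simp [mul_comm]
    | add x y hx hy => simp only [map_add, hx, hy]
  rw [L_apply, h1]
  have h := LinearMap.congr_fun c.counit_comp m
  simp only [LinearMap.comp_apply] at h
  rw [h]
  simp

theorem lam_counit (c : HopfRep.Comod k A M) :
    (Coalgebra.counit (R := k) (A := A)).rTensor (Module.Dual k M) ∘ₗ lam c =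
      TensorProduct.mk k k (Module.Dual k M) 1 := by
  apply LinearMap.ext
  intro g
  simp only [LinearMap.comp_apply, TensorProduct.mk_apply]
  set x := (θ k M A).symm (L c g) with hx
  have hlam : lam c g = TensorProduct.comm k (Module.Dual k M) A x := rfl
  have hθx : ∀ m, dualTensorHom k M A x m = L c g m := by
    intro m
    rw [← θ_apply, hx, LinearEquiv.apply_symm_apply]
  have h1 : ∀ y : Module.Dual k M ⊗[k] A,
      (Coalgebra.counit (R := k) (A := A)).rTensor (Module.Dual k M)
        (TensorProduct.comm k (Module.Dual k M) A y) =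
      TensorProduct.comm k (Module.Dual k M) k
        ((Coalgebra.counit (R := k) (A := A)).lTensor (Module.Dual k M) y) := by
    intro y
    induction y using TensorProduct.induction_on with
    | zero => simp
    | tmul φ a => simp
    | add x y hx hy => simp only [map_add, hx, hy]
  rw [hlam, h1]
  have h2 : (Coalgebra.counit (R := k) (A := A)).lTensor (Module.Dual k M) x = g ⊗ₜ[k] (1 : k) := by
    apply (θ k M k).injective
    apply LinearMap.ext
    intro m
    rw [θ_apply, θ_apply, dualTensorHom_lTensor, hθx, counit_L]
    simp [dualTensorHom_apply]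
  rw [h2, TensorProduct.comm_tmul]

theorem L_apply' (c : HopfRep.Comod k A M) (g : Module.Dual k M) (m : M) :
    L c g m = TensorProduct.lid k A (g.rTensor A (c.coact m)) := rfl

variable (k A M) in
/-- reading map `A ⊗ (A ⊗ M^*) → Hom(M, A ⊗ A)` -/
noncomputable def Φ : A ⊗[k] (A ⊗[k] Module.Dual k M) ≃ₗ[k] (M →ₗ[k] A ⊗[k] A) :=
  ((TensorProduct.assoc k A A (Module.Dual k M)).symm.trans
    (TensorProduct.comm k (A ⊗[k] A) (Module.Dual k M))).trans (θ k M (A ⊗[k] A))

theorem Φ_apply (z : A ⊗[k] (A ⊗[k] Module.Dual k M)) :
    Φ k A M z = dualTensorHom k M (A ⊗[k] A)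
      (TensorProduct.comm k (A ⊗[k] A) (Module.Dual k M)
        ((TensorProduct.assoc k A A (Module.Dual k M)).symm z)) := rfl

/-- `Φ (a ⊗ comm w) m = a ⊗ θ w m` -/
theorem Φ_tmul_comm (a : A) (w : Module.Dual k M ⊗[k] A) (m : M) :
    Φ k A M (a ⊗ₜ[k] TensorProduct.comm k (Module.Dual k M) A w) m =
      a ⊗ₜ[k] dualTensorHom k M A w m := by
  induction w using TensorProduct.induction_on with
  | zero => simp
  | tmul ψ b =>
    rw [Φ_apply]
    simp [dualTensorHom_apply, TensorProduct.tmul_smul]
  | add x y hx hy =>
    simp only [map_add, TensorProduct.tmul_add, LinearMap.add_apply, hx, hy]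

theorem Φ_left (c : HopfRep.Comod k A M) (x : Module.Dual k M ⊗[k] A) (m : M) :
    Φ k A M ((lam c).lTensor A (TensorProduct.comm k (Module.Dual k M) A x)) m =
      (dualTensorHom k M A x).rTensor A (c.coact m) := by
  induction x using TensorProduct.induction_on with
  | zero => simp
  | tmul φ a =>
    rw [TensorProduct.comm_tmul, LinearMap.lTensor_tmul]
    have hl : lam c φ = TensorProduct.comm k (Module.Dual k M) A ((θ k M A).symm (L c φ)) := rfl
    rw [hl, Φ_tmul_comm, ← θ_apply, LinearEquiv.apply_symm_apply, L_apply']
    have : ∀ y : M ⊗[k] A, a ⊗ₜ[k] TensorProduct.lid k A (φ.rTensor A y) =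
        (dualTensorHom k M A (φ ⊗ₜ[k] a)).rTensor A y := by
      intro y
      induction y using TensorProduct.induction_on with
      | zero => simp
      | tmul m' b => simp [dualTensorHom_apply, TensorProduct.smul_tmul, TensorProduct.tmul_smul]
      | add y z hy hz => simp only [map_add, TensorProduct.tmul_add, hy, hz]
    exact this _
  | add x y hx hy =>
    simp only [map_add, LinearMap.add_apply, LinearMap.rTensor_add, hx, hy]

theorem Φ_right (x : Module.Dual k M ⊗[k] A) (m : M) :
    Φ k A M (TensorProduct.assoc k A A (Module.Dual k M)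
      ((Coalgebra.comul (R := k) (A := A)).rTensor (Module.Dual k M)
        (TensorProduct.comm k (Module.Dual k M) A x))) m =
      Coalgebra.comul (R := k) (dualTensorHom k M A x m) := by
  rw [Φ_apply, LinearEquiv.symm_apply_apply]
  have h1 : ∀ y : Module.Dual k M ⊗[k] A,
      TensorProduct.comm k (A ⊗[k] A) (Module.Dual k M)
        ((Coalgebra.comul (R := k) (A := A)).rTensor (Module.Dual k M)
          (TensorProduct.comm k (Module.Dual k M) A y)) =
      (Coalgebra.comul (R := k) (A := A)).lTensor (Module.Dual k M) y := by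
    intro y
    induction y using TensorProduct.induction_on with
    | zero => simp
    | tmul φ a => simp
    | add x y hx hy => simp only [map_add, hx, hy]
  rw [h1, dualTensorHom_lTensor]

theorem L_coassoc (c : HopfRep.Comod k A M) (g : Module.Dual k M) (m : M) :
    (L c g).rTensor A (c.coact m) = Coalgebra.comul (R := k) (L c g m) := by
  have hF : ∀ t : (M ⊗[k] A) ⊗[k] A,
      ((TensorProduct.lid k A).toLinearMap ∘ₗ g.rTensor A).rTensor A t =
      TensorProduct.lid k (A ⊗[k] A) (g.rTensor (A ⊗[k] A) (TensorProduct.assoc k M A A t)) := by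
    intro t
    induction t using TensorProduct.induction_on with
    | zero => simp
    | tmul y b =>
      induction y using TensorProduct.induction_on with
      | zero => simp
      | tmul m' a => simp [TensorProduct.smul_tmul']
      | add y z hy hz => simp only [TensorProduct.add_tmul, map_add, hy, hz]
    | add x y hx hy => simp only [map_add, hx, hy]
  have hG : ∀ y : M ⊗[k] A,
      TensorProduct.lid k (A ⊗[k] A) (g.rTensor (A ⊗[k] A)
        ((Coalgebra.comul (R := k) (A := A)).lTensor M y)) =
      Coalgebra.comul (R := k) (TensorProduct.lid k A (g.rTensor A y)) := by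
    intro y
    induction y using TensorProduct.induction_on with
    | zero => simp
    | tmul m' a => simp
    | add x y hx hy => simp only [map_add, hx, hy]
  have hL : (L c g).rTensor A (c.coact m) =
      ((TensorProduct.lid k A).toLinearMap ∘ₗ g.rTensor A).rTensor A (c.coact.rTensor A (c.coact m)) := by
    have hLg : L c g = ((TensorProduct.lid k A).toLinearMap ∘ₗ g.rTensor A) ∘ₗ c.coact := rfl
    rw [hLg, LinearMap.rTensor_comp, LinearMap.comp_apply]
  rw [hL, hF]
  have h := LinearMap.congr_fun c.coassoc m
  simp only [LinearMap.comp_apply, LinearEquiv.coe_coe] at h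
  rw [h, hG]
  rfl

theorem lam_coassoc (c : HopfRep.Comod k A M) :
    (lam c).lTensor A ∘ₗ lam c =
      (TensorProduct.assoc k A A (Module.Dual k M)).toLinearMap ∘ₗ
        (Coalgebra.comul (R := k) (A := A)).rTensor (Module.Dual k M) ∘ₗ lam c := by
  apply LinearMap.ext
  intro g
  simp only [LinearMap.comp_apply, LinearEquiv.coe_coe]
  apply (Φ k A M).injective
  apply LinearMap.ext
  intro m
  set x := (θ k M A).symm (L c g) with hx
  have hlam : lam c g = TensorProduct.comm k (Module.Dual k M) A x := rfl
  have hθx : dualTensorHom k M A x = L c g := by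
    rw [← θ_apply, hx, LinearEquiv.apply_symm_apply]
  rw [hlam, Φ_left, Φ_right, hθx, L_coassoc]


theorem main (k : Type u) [CommRing k]
    (A : Type v) [AddCommGroup A] [Module k A] [Coalgebra k A] [Module.Flat k A]
    (M : Type w) [AddCommGroup M] [Module k M] [Module.FinitePresentation k M]
    (c : HopfRep.Comod k A M) :
    ∃ l : ComodSub.LComod k A (Module.Dual k M), ComodSub.LComod.IsLDual c l :=
  ⟨{ coact := lam c, coassoc := lam_coassoc c, counit_comp := lam_counit c }, fun g => read_lam c g⟩

end Groth.Agent.Helper8.LDual
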