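import Mathlib

set_option autoImplicit false
universe u v w

namespace Groth.Agent.Helper8.GrJordan

section proj

variable {k : Type u} [Field k] {Λ : Type v} [AddCommGroup Λ] [DecidableEq Λ]
  {V : Type w} [AddCommGroup V] [Module k V]
  (𝒱 : Λ → Submodule k V) [DirectSum.Decomposition 𝒱]

/-- projection onto the component of weight `μ` -/
noncomputable def pr (μ : Λ) : V →ₗ[k] V :=
  (𝒱 μ).subtype ∘ₗ (DirectSum.component k Λ (fun i => 𝒱 i) μ) ∘ₗ
    (DirectSum.decomposeLinearEquiv 𝒱).toLinearMap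

theorem pr_apply (μ : Λ) (x : V) : pr 𝒱 μ x = ((DirectSum.decompose 𝒱 x) μ : V) := rfl

theorem pr_mem (μ : Λ) (x : V) : pr 𝒱 μ x ∈ 𝒱 μ := by
  rw [pr_apply]; exact Submodule.coe_mem _

theorem pr_of_mem {μ : Λ} {x : V} (h : x ∈ 𝒱 μ) : pr 𝒱 μ x = x := by
  rw [pr_apply]; exact DirectSum.decompose_of_mem_same 𝒱 h

theorem pr_of_mem_ne {μ ν : Λ} {x : V} (h : x ∈ 𝒱 ν) (hne : ν ≠ μ) : pr 𝒱 μ x = 0 := by
  rw [pr_apply]; exact DirectSum.decompose_of_mem_ne 𝒱 h hne

theorem exists_sum_pr (x : V) : ∃ s : Finset Λ, ∑ μ ∈ s, pr 𝒱 μ x = x := by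
  classical
  exact ⟨_, DirectSum.sum_support_decompose 𝒱 x⟩

/-- graded submodules -/
def IsGr (W : Submodule k V) : Prop := ∀ μ, ∀ x ∈ W, pr 𝒱 μ x ∈ W

theorem mem_span_homog {W : Submodule k V} (hW : IsGr 𝒱 W) {x : V} (hx : x ∈ W) :
    x ∈ Submodule.span k {y | y ∈ W ∧ ∃ μ, y ∈ 𝒱 μ} := by
  obtain ⟨s, hs⟩ := exists_sum_pr 𝒱 x
  rw [← hs]
  exact Submodule.sum_mem _ (fun μ _ => Submodule.subset_span ⟨hW μ x hx, μ, pr_mem 𝒱 μ x⟩)

variable (A : Module.End k V) (χ : Λ)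
  (hhom : ∀ (μ : Λ) (x : V), x ∈ 𝒱 μ → A x ∈ 𝒱 (μ + χ))

include hhom in
theorem pr_comm (μ : Λ) (x : V) : pr 𝒱 (μ + χ) (A x) = A (pr 𝒱 μ x) := by
  have htop : x ∈ ⨆ i, 𝒱 i := by
    rw [(DirectSum.Decomposition.isInternal 𝒱).submodule_iSup_eq_top]; exact Submodule.mem_top
  refine Submodule.iSup_induction 𝒱
    (motive := fun x => pr 𝒱 (μ + χ) (A x) = A (pr 𝒱 μ x)) htop ?_ ?_ ?_
  · intro ν y hy
    by_cases h : ν = μ
    · subst h
      rw [pr_of_mem 𝒱 hy, pr_of_mem 𝒱 (hhom _ _ hy)]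
    · rw [pr_of_mem_ne 𝒱 hy h, map_zero,
        pr_of_mem_ne 𝒱 (hhom _ _ hy) (fun h' => h (add_right_cancel h'))]
  · simp
  · intro y z hy hz
    simp only [map_add, hy, hz]

include hhom in
theorem isGr_map {W : Submodule k V} (hW : IsGr 𝒱 W) : IsGr 𝒱 (W.map A) := by
  rintro μ _ ⟨x, hx, rfl⟩
  refine ⟨pr 𝒱 (μ - χ) x, hW _ x hx, ?_⟩
  rw [← pr_comm 𝒱 A χ hhom, sub_add_cancel]

include hhom in
theorem isGr_inf_ker {W : Submodule k V} (hW : IsGr 𝒱 W) : IsGr 𝒱 (W ⊓ LinearMap.ker A) := by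
  intro μ x hx
  obtain ⟨hxW, hxk⟩ := Submodule.mem_inf.mp hx
  refine Submodule.mem_inf.mpr ⟨hW μ x hxW, ?_⟩
  rw [LinearMap.mem_ker] at hxk ⊢
  rw [← pr_comm 𝒱 A χ hhom, hxk, map_zero]

include hhom in
theorem exists_homog_preimage {W : Submodule k V} (hW : IsGr 𝒱 W) {y : V} {μ : Λ}
    (hy : y ∈ W.map A) (hμ : y ∈ 𝒱 μ) :
    ∃ f, f ∈ W ∧ f ∈ 𝒱 (μ - χ) ∧ A f = y := by
  obtain ⟨x, hx, rfl⟩ := hy
  refine ⟨pr 𝒱 (μ - χ) x, hW _ x hx, pr_mem 𝒱 _ x, ?_⟩
  rw [← pr_comm 𝒱 A χ hhom, sub_add_cancel, pr_of_mem 𝒱 hμ]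

omit [DecidableEq Λ] [DirectSum.Decomposition 𝒱] in
theorem map_lt_of_nilpotent (hA : IsNilpotent A) {W : Submodule k V} (hAW : W.map A ≤ W)
    (hW : W ≠ ⊥) : W.map A < W := by
  refine lt_of_le_of_ne hAW (fun heq => hW ?_)
  obtain ⟨m, hm⟩ := hA
  have key : ∀ j : ℕ, W.map (A ^ j) = W := by
    intro j
    induction j with
    | zero => rw [pow_zero]; exact Submodule.map_id W
    | succ j ih => rw [pow_succ, Module.End.mul_eq_comp, Submodule.map_comp, heq, ih]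
  have h1 := key m
  rw [hm] at h1
  rw [← h1]
  exact Submodule.map_zero W

end proj

section indep

variable {k : Type u} [Field k] {V : Type w} [AddCommGroup V] [Module k V]

theorem linearIndependent_sum_of_ker {P Z : Type*} (A : V →ₗ[k] V) (u : P → V) (z : Z → V)
    (hu : LinearIndependent k (A ∘ u)) (hz : LinearIndependent k z) (hAz : ∀ j, A (z j) = 0) :
    LinearIndependent k (Sum.elim u z) := by
  rw [linearIndependent_sum]
  refine ⟨LinearIndependent.of_comp A hu, hz, ?_⟩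
  rw [Submodule.disjoint_def]
  intro x hx1 hx2
  have hker : Submodule.span k (Set.range (Sum.elim u z ∘ Sum.inr)) ≤ LinearMap.ker A :=
    Submodule.span_le.mpr (by rintro _ ⟨j, rfl⟩; exact hAz j)
  have hx2' : A x = 0 := hker hx2
  obtain ⟨c, rfl⟩ := (Finsupp.mem_span_range_iff_exists_finsupp).mp hx1
  have hc : c = 0 := by
    apply (linearIndependent_iff.mp hu) c
    rw [Finsupp.linearCombination_apply]
    rw [← hx2', map_finsuppSum]
    simp
  rw [hc]; simp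

end indep


section psi

/-- reindexing map used for linear independence in the inductive step -/
def psi {ι T B : Type*} (n : ι → ℕ) (c0 : ι → B) (cT : T → B) :
    {p : (ι ⊕ T) × ℕ // p.2 ≤ Sum.elim (fun i => n i + 1) (fun _ => 0) p.1} →
      {p : ι × ℕ // p.2 ≤ n p.1} ⊕ B
  | ⟨(Sum.inl i, 0), _⟩ => Sum.inr (c0 i)
  | ⟨(Sum.inl i, l + 1), h⟩ => Sum.inl ⟨(i, l), Nat.le_of_succ_le_succ h⟩
  | ⟨(Sum.inr g, _), _⟩ => Sum.inr (cT g)

theorem psi_injective {ι T B : Type*} (n : ι → ℕ) (c0 : ι → B) (cT : T → B)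
    (hc0 : Function.Injective c0) (hcT : Function.Injective cT) (hne : ∀ i g, c0 i ≠ cT g) :
    Function.Injective (psi n c0 cT) := by
  rintro ⟨⟨j, l⟩, h⟩ ⟨⟨j', l'⟩, h'⟩ heq
  rcases j with i | g <;> rcases j' with i' | g'
  · rcases l with _ | l <;> rcases l' with _ | l'
    · have h1 : c0 i = c0 i' := Sum.inr.inj heq
      have h2 := hc0 h1
      subst h2; rfl
    · exact absurd heq (by simp [psi])
    · exact absurd heq (by simp [psi])
    · have h1 := Sum.inl.inj heq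
      simp only [Subtype.mk.injEq, Prod.mk.injEq] at h1
      obtain ⟨rfl, rfl⟩ := h1; rfl
  · rcases l with _ | l
    · exact absurd (Sum.inr.inj heq) (hne i g')
    · exact absurd heq (by simp [psi])
  · rcases l' with _ | l'
    · exact absurd (Sum.inr.inj heq).symm (hne i' g)
    · exact absurd heq (by simp [psi])
  · have hl : l = 0 := Nat.le_zero.mp h
    have hl' : l' = 0 := Nat.le_zero.mp h'
    subst hl; subst hl'
    have h1 : cT g = cT g' := Sum.inr.inj heq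
    have h2 := hcT h1
    subst h2; rfl

end psi


section jf

variable {k : Type u} [Field k] {Λ : Type v} {V : Type w} [AddCommGroup V] [Module k V]

/-- index type of a Jordan family -/
abbrev Idx {ι : Type*} (n : ι → ℕ) : Type _ := {p : ι × ℕ // p.2 ≤ n p.1}

/-- the family -/
def fam {ι : Type*} (n : ι → ℕ) (e : ι → ℕ → V) : Idx n → V := fun p => e p.1.1 p.1.2

/-- homogeneous Jordan family for `A` spanning `W` -/
structure JF (𝒱 : Λ → Submodule k V) (A : Module.End k V) (W : Submodule k V) {ι : Type w}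
    (n : ι → ℕ) (e : ι → ℕ → V) : Prop where
  li : LinearIndependent k (fam n e)
  span : Submodule.span k (Set.range (fam n e)) = W
  homog : ∀ i l, l ≤ n i → ∃ μ, e i l ∈ 𝒱 μ
  zero : ∀ i, A (e i 0) = 0
  succ : ∀ i l, l < n i → A (e i (l + 1)) = e i l

/-- new lengths -/
abbrev n1 {ι T : Type*} (n : ι → ℕ) : ι ⊕ T → ℕ := Sum.elim (fun i => n i + 1) (fun _ => 0)

/-- new family -/
def e1 {ι T : Type*} (n : ι → ℕ) (e : ι → ℕ → V) (f : ι → V) (g : T → V) : ι ⊕ T → ℕ → V :=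
  Sum.elim (fun i l => if l ≤ n i then e i l else f i) (fun t _ => g t)

end jf

section main

variable {k : Type u} [Field k] {Λ : Type v} [AddCommGroup Λ] [DecidableEq Λ]
  {V : Type w} [AddCommGroup V] [Module k V]
  (𝒱 : Λ → Submodule k V) [DirectSum.Decomposition 𝒱]
  (A : Module.End k V) (χ : Λ)
  (hhom : ∀ (μ : Λ) (x : V), x ∈ 𝒱 μ → A x ∈ 𝒱 (μ + χ))

include hhom in
theorem step {W : Submodule k V} (hgr : IsGr 𝒱 W) (hst : W.map A ≤ W)
    {ι : Type w} {n : ι → ℕ} {e : ι → ℕ → V} (he : JF 𝒱 A (W.map A) n e) :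
    ∃ (ι' : Type w) (n' : ι' → ℕ) (e' : ι' → ℕ → V), JF 𝒱 A W n' e' := by
  classical
  have hmemW' : ∀ i l, l ≤ n i → e i l ∈ W.map A := by
    intro i l hl
    rw [← he.span]
    exact Submodule.subset_span ⟨⟨(i, l), hl⟩, rfl⟩
  have htop : ∀ i : ι, ∃ f : V, f ∈ W ∧ (∃ μ, f ∈ 𝒱 μ) ∧ A f = e i (n i) := by
    intro i
    obtain ⟨μ, hμ⟩ := he.homog i (n i) le_rfl
    obtain ⟨f, hfW, hfμ, hAf⟩ :=
      exists_homog_preimage 𝒱 A χ hhom hgr (hmemW' i (n i) le_rfl) hμ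
    exact ⟨f, hfW, ⟨_, hfμ⟩, hAf⟩
  choose f hfW hfH hAf using htop
  have hst' : Set.range (fun i : ι => e i 0) ⊆ {x | x ∈ W ∧ A x = 0 ∧ ∃ μ, x ∈ 𝒱 μ} := by
    rintro _ ⟨i, rfl⟩
    exact ⟨hst (hmemW' i 0 (Nat.zero_le _)), he.zero i, he.homog i 0 (Nat.zero_le _)⟩
  have hinj0 : Function.Injective (fun i : ι => (⟨(i, 0), Nat.zero_le _⟩ : Idx n)) := by
    intro i j h
    exact congrArg (fun p : Idx n => p.1.1) h
  have hli0 : LinearIndependent k (fun i : ι => e i 0) := he.li.comp _ hinj0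
  have hsli : LinearIndepOn k id (Set.range (fun i : ι => e i 0)) := hli0.linearIndepOn_id
  obtain ⟨b, hbt, hsb, htb, hb⟩ := exists_linearIndepOn_id_extension hsli hst'
  -- the key computation
  have hA1 : ∀ i l, l ≤ n i → A (if l + 1 ≤ n i then e i (l + 1) else f i) = e i l := by
    intro i l hl
    by_cases h : l + 1 ≤ n i
    · rw [if_pos h]; exact he.succ i l h
    · rw [if_neg h]
      have hln : l = n i := by omega
      rw [hAf, hln]
  refine ⟨ι ⊕ ↥(b \ Set.range (fun i : ι => e i 0)), n1 n,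
    e1 n e f (fun g : ↥(b \ Set.range (fun i : ι => e i 0)) => (g : V)), ?_⟩
  -- every member of the new family lies in `W`
  have h_le : Submodule.span k (Set.range (fam (n1 n)
      (e1 n e f (fun g : ↥(b \ Set.range (fun i : ι => e i 0)) => (g : V))))) ≤ W := by
    rw [Submodule.span_le]
    rintro _ ⟨⟨⟨j, l⟩, hl⟩, rfl⟩
    rcases j with i | g
    · show (if l ≤ n i then e i l else f i) ∈ W
      split_ifs with h
      · exact hst (hmemW' i l h)
      · exact hfW i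
    · exact (hbt g.2.1).1
  refine
    { li := ?_
      span := ?_
      homog := ?_
      zero := ?_
      succ := ?_ }
  · -- linear independence
    have hu : LinearIndependent k (A ∘ fun p : Idx n =>
        e1 n e f (fun g : ↥(b \ Set.range (fun i : ι => e i 0)) => (g : V))
          (Sum.inl p.1.1) (p.1.2 + 1)) := by
      have hfe : (A ∘ fun p : Idx n =>
          e1 n e f (fun g : ↥(b \ Set.range (fun i : ι => e i 0)) => (g : V))
            (Sum.inl p.1.1) (p.1.2 + 1)) = fam n e := by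
        funext p
        obtain ⟨⟨i, l⟩, hl⟩ := p
        exact hA1 i l hl
      rw [hfe]; exact he.li
    have hz : LinearIndependent k (fun x : ↥b => (x : V)) := hb
    have hLI := linearIndependent_sum_of_ker A _ _ hu hz (fun x => (hbt x.2).2.1)
    have hc0 : Function.Injective (fun i : ι => (⟨e i 0, hsb ⟨i, rfl⟩⟩ : ↥b)) := by
      intro i j h
      exact hli0.injective (congrArg Subtype.val h)
    have hcT : Function.Injective
        (fun g : ↥(b \ Set.range (fun i : ι => e i 0)) => (⟨g.1, g.2.1⟩ : ↥b)) := by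
      intro g g' h
      have h' : (g : V) = (g' : V) := congrArg (fun x : ↥b => (x : V)) h
      exact Subtype.ext h'
    have hne : ∀ (i : ι) (g : ↥(b \ Set.range (fun i : ι => e i 0))),
        (⟨e i 0, hsb ⟨i, rfl⟩⟩ : ↥b) ≠ ⟨g.1, g.2.1⟩ := by
      intro i g h
      exact g.2.2 ⟨i, congrArg Subtype.val h⟩
    have hcomp : fam (n1 n) (e1 n e f (fun g : ↥(b \ Set.range (fun i : ι => e i 0)) => (g : V))) =
        (Sum.elim (fun p : Idx n =>
          e1 n e f (fun g : ↥(b \ Set.range (fun i : ι => e i 0)) => (g : V))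
            (Sum.inl p.1.1) (p.1.2 + 1)) (fun x : ↥b => (x : V))) ∘
          psi n (fun i : ι => (⟨e i 0, hsb ⟨i, rfl⟩⟩ : ↥b))
            (fun g : ↥(b \ Set.range (fun i : ι => e i 0)) => (⟨g.1, g.2.1⟩ : ↥b)) := by
      funext p
      obtain ⟨⟨j, l⟩, hl⟩ := p
      rcases j with i | g
      · rcases l with _ | l
        · show (if 0 ≤ n i then e i 0 else f i) = e i 0
          rw [if_pos (Nat.zero_le _)]
        · rfl
      · rfl
    rw [hcomp]
    exact hLI.comp _ (psi_injective n _ _ hc0 hcT hne)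
  · -- span
    apply le_antisymm h_le
    obtain ⟨S', hS'⟩ : ∃ S' : Submodule k V, S' = Submodule.span k (Set.range (fam (n1 n)
      (e1 n e f (fun g : ↥(b \ Set.range (fun i : ι => e i 0)) => (g : V))))) := ⟨_, rfl⟩
    rw [← hS'] at h_le ⊢
    have hsub : ∀ p, fam (n1 n)
        (e1 n e f (fun g : ↥(b \ Set.range (fun i : ι => e i 0)) => (g : V))) p ∈ S' :=
      fun p => hS' ▸ Submodule.subset_span ⟨p, rfl⟩
    have hmem1 : ∀ i l, l ≤ n i + 1 → (if l ≤ n i then e i l else f i) ∈ S' :=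
      fun i l hl => hsub ⟨(Sum.inl i, l), hl⟩
    have hbS' : b ⊆ S' := by
      intro x hxb
      by_cases hxs : x ∈ Set.range (fun i : ι => e i 0)
      · obtain ⟨i, rfl⟩ := hxs
        have h0 := hmem1 i 0 (Nat.zero_le _)
        rwa [if_pos (Nat.zero_le _)] at h0
      · exact hsub ⟨(Sum.inr ⟨x, hxb, hxs⟩, 0), le_rfl⟩
    have hW'S' : W.map A ≤ S'.map A := by
      rw [← he.span, Submodule.span_le]
      rintro _ ⟨⟨⟨i, l⟩, hl⟩, rfl⟩
      exact ⟨_, hmem1 i (l + 1) (Nat.succ_le_succ hl), hA1 i l hl⟩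
    intro x hx
    obtain ⟨y, hyS', hAy⟩ := hW'S' (Submodule.mem_map_of_mem hx)
    have hxy : x - y ∈ W ⊓ LinearMap.ker A :=
      Submodule.mem_inf.mpr ⟨W.sub_mem hx (h_le hyS'),
        by rw [LinearMap.mem_ker, map_sub, hAy, sub_self]⟩
    have h1 := mem_span_homog 𝒱 (isGr_inf_ker 𝒱 A χ hhom hgr) hxy
    have h2 : Submodule.span k {y | y ∈ W ⊓ LinearMap.ker A ∧ ∃ μ, y ∈ 𝒱 μ} ≤ S' := by
      rw [Submodule.span_le]
      rintro z ⟨hz, hzμ⟩
      obtain ⟨hzW, hzk⟩ := Submodule.mem_inf.mp hz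
      have hzt : z ∈ {x | x ∈ W ∧ A x = 0 ∧ ∃ μ, x ∈ 𝒱 μ} :=
        ⟨hzW, LinearMap.mem_ker.mp hzk, hzμ⟩
      exact (Submodule.span_le.mpr hbS') (htb hzt)
    have h3 := S'.add_mem (h2 h1) hyS'
    rwa [sub_add_cancel] at h3
  · -- homogeneity
    rintro (i | g) l hl
    · show ∃ μ, (if l ≤ n i then e i l else f i) ∈ 𝒱 μ
      split_ifs with h
      · exact he.homog i l h
      · exact hfH i
    · exact (hbt g.2.1).2.2
  · -- bottom
    rintro (i | g)
    · show A (if 0 ≤ n i then e i 0 else f i) = 0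
      rw [if_pos (Nat.zero_le _)]; exact he.zero i
    · exact (hbt g.2.1).2.1
  · -- chain
    rintro (i | g) l hl
    · have hl' : l ≤ n i := Nat.lt_succ_iff.mp hl
      show A (if l + 1 ≤ n i then e i (l + 1) else f i) = (if l ≤ n i then e i l else f i)
      rw [if_pos hl']
      exact hA1 i l hl'
    · exact absurd hl (Nat.not_lt_zero _)

include hhom in
theorem exists_JF [FiniteDimensional k V] (hA : IsNilpotent A) :
    ∀ (d : ℕ) (W : Submodule k V), Module.finrank k W = d → IsGr 𝒱 W → W.map A ≤ W →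
      ∃ (ι : Type w) (n : ι → ℕ) (e : ι → ℕ → V), JF 𝒱 A W n e := by
  intro d
  induction d using Nat.strong_induction_on with
  | _ d ih =>
    intro W hd hgr hst
    by_cases hW : W = ⊥
    · refine ⟨PEmpty, fun i => i.elim, fun i => i.elim, ?_⟩
      haveI : IsEmpty (Idx (fun i : PEmpty.{w+1} => (i.elim : ℕ))) := ⟨fun p => p.1.1.elim⟩
      refine ⟨linearIndependent_empty_type, ?_, fun i => i.elim, fun i => i.elim,
        fun i => i.elim⟩
      rw [hW, Set.range_eq_empty, Submodule.span_empty]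
    · have hlt := map_lt_of_nilpotent A hA hst hW
      have hfr : Module.finrank k ↥(W.map A) < d := by
        rw [← hd]; exact Submodule.finrank_lt_finrank_of_lt hlt
      obtain ⟨ι, n, e, he⟩ :=
        ih _ hfr (W.map A) rfl (isGr_map 𝒱 A χ hhom hgr) (Submodule.map_mono hst)
      exact step 𝒱 A χ hhom hgr hst he

end main

theorem main (k : Type u) [Field k] (Λ : Type v) [AddCommGroup Λ] [DecidableEq Λ]
    (V : Type w) [AddCommGroup V] [Module k V] [FiniteDimensional k V]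
    (𝒱 : Λ → Submodule k V) (h𝒱 : DirectSum.IsInternal 𝒱)
    (A : Module.End k V) (hA : IsNilpotent A) (χ : Λ)
    (hhom : ∀ (μ : Λ) (v : V), v ∈ 𝒱 μ → A v ∈ 𝒱 (μ + χ)) :
    ∃ (ι : Type w) (_ : Finite ι) (n : ι → ℕ) (b : Module.Basis (Σ i : ι, Fin (n i + 1)) k V),
      (∀ (i : ι) (l : Fin (n i + 1)), ∃ μ : Λ, b ⟨i, l⟩ ∈ 𝒱 μ) ∧
      (∀ i : ι, A (b ⟨i, 0⟩) = 0) ∧
      ∀ (i : ι) (l : Fin (n i)), A (b ⟨i, l.succ⟩) = b ⟨i, l.castSucc⟩ := by
  letI := h𝒱.chooseDecomposition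
  have htop_gr : IsGr 𝒱 (⊤ : Submodule k V) := fun μ x _ => Submodule.mem_top
  obtain ⟨ι, n, e, he⟩ := exists_JF 𝒱 A χ hhom hA _ ⊤ rfl htop_gr le_top
  obtain ⟨φ, hφ⟩ : ∃ φ : (Σ i : ι, Fin (n i + 1)) → Idx n,
      φ = fun x => ⟨(x.1, x.2.val), Nat.lt_succ_iff.mp x.2.isLt⟩ := ⟨_, rfl⟩
  have hφinj : Function.Injective φ := by
    rintro ⟨i, l⟩ ⟨j, m⟩ h
    rw [hφ] at h
    have h1 : i = j := congrArg (fun p : Idx n => p.1.1) h
    subst h1
    have h2 : l.val = m.val := congrArg (fun p : Idx n => p.1.2) h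
    rw [Fin.ext h2]
  have hφsurj : Function.Surjective φ := by
    rintro ⟨⟨i, l⟩, hl⟩
    exact ⟨⟨i, ⟨l, Nat.lt_succ_of_le hl⟩⟩, by rw [hφ]⟩
  have hli : LinearIndependent k (fam n e ∘ φ) := he.li.comp φ hφinj
  have hsp : ⊤ ≤ Submodule.span k (Set.range (fam n e ∘ φ)) := by
    rw [hφsurj.range_comp, he.span]
  obtain ⟨b, hbdef⟩ : ∃ b : Module.Basis (Σ i : ι, Fin (n i + 1)) k V,
      b = Module.Basis.mk hli hsp := ⟨_, rfl⟩
  have hb : ∀ x : (Σ i : ι, Fin (n i + 1)), b x = e x.1 x.2.val := by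
    intro x
    rw [hbdef, Module.Basis.mk_apply, hφ]
    rfl
  haveI : Finite (Σ i : ι, Fin (n i + 1)) := Module.Finite.finite_basis b
  have hfin : Finite ι :=
    Finite.of_injective (fun i => (⟨i, 0⟩ : Σ i : ι, Fin (n i + 1)))
      (fun i j h => congrArg Sigma.fst h)
  refine ⟨ι, hfin, n, b, ?_, ?_, ?_⟩
  · intro i l
    rw [hb]
    exact he.homog i l.val (Nat.lt_succ_iff.mp l.isLt)
  · intro i
    rw [hb]
    exact he.zero i
  · intro i l
    rw [hb, hb]
    show A (e i (l.succ.val)) = e i (l.castSucc.val)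
    rw [Fin.val_succ, Fin.val_castSucc]
    exact he.succ i l.val l.isLt

end Groth.Agent.Helper8.GrJordan
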