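import Mathlib

/-!
# Sections of the structure sheaf as morphisms to the affine line, and fpqc descent of sections
-/

set_option autoImplicit false
universe u

namespace Groth.Agent.Helper8.A1Dict

open CategoryTheory CategoryTheory.Limits AlgebraicGeometry Opposite

/-- the ring `ℤ[T]` in the universe `u` -/
noncomputable abbrev R1 : CommRingCat.{u} := CommRingCat.of (Polynomial (ULift.{u} ℤ))

/-- the affine line over `ℤ` -/
noncomputable abbrev A1 : Scheme.{u} := Spec R1.{u}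

theorem ringHom_ext_ulift {A : Type*} [Semiring A] (f g : ULift.{u} ℤ →+* A) : f = g := by
  have h : f.comp (ULift.ringEquiv.{0, u} (R := ℤ)).symm.toRingHom =
      g.comp (ULift.ringEquiv.{0, u} (R := ℤ)).symm.toRingHom := Subsingleton.elim _ _
  ext x
  exact RingHom.congr_fun h x.down

theorem iso_hom_inv_apply {A B : CommRingCat.{u}} (e : A ≅ B) (x : A) :
    e.inv.hom (e.hom.hom x) = x := by
  rw [← RingHom.comp_apply, ← CommRingCat.hom_comp, e.hom_inv_id]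
  rfl

theorem iso_inv_hom_apply {A B : CommRingCat.{u}} (e : A ≅ B) (y : B) :
    e.hom.hom (e.inv.hom y) = y := by
  rw [← RingHom.comp_apply, ← CommRingCat.hom_comp, e.inv_hom_id]
  rfl

/-- evaluation at an element -/
noncomputable def evalHom (A : CommRingCat.{u}) (z : A) : R1.{u} ⟶ A :=
  CommRingCat.ofHom (Polynomial.eval₂RingHom
    ((Int.castRingHom A).comp (ULift.ringEquiv.{0, u} (R := ℤ)).toRingHom) z)

theorem evalHom_X (A : CommRingCat.{u}) (z : A) :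
    (evalHom A z).hom (Polynomial.X : Polynomial (ULift.{u} ℤ)) = z := by
  simp [evalHom]

theorem hom_ext_R1 {A : CommRingCat.{u}} (ψ ψ' : R1.{u} ⟶ A)
    (h : ψ.hom (Polynomial.X : Polynomial (ULift.{u} ℤ)) = ψ'.hom Polynomial.X) : ψ = ψ' := by
  apply CommRingCat.hom_ext
  exact Polynomial.ringHom_ext' (ringHom_ext_ulift _ _) h

theorem evalHom_comp {A B : CommRingCat.{u}} (z : A) (ψ : A ⟶ B) :
    evalHom A z ≫ ψ = evalHom B (ψ.hom z) := by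
  apply hom_ext_R1
  rw [CommRingCat.hom_comp, RingHom.comp_apply, evalHom_X, evalHom_X]

/-- the morphism to the affine line attached to a global function -/
noncomputable def toA1 {Z : Scheme.{u}} (z : Γ(Z, ⊤)) : Z ⟶ A1.{u} :=
  Z.toSpecΓ ≫ Spec.map (evalHom Γ(Z, ⊤) z)

theorem toA1_appTop {Z : Scheme.{u}} (z : Γ(Z, ⊤)) :
    (toA1 z).appTop = (Scheme.ΓSpecIso R1.{u}).hom ≫ evalHom Γ(Z, ⊤) z := by
  rw [toA1, Scheme.Hom.comp_appTop, Scheme.toSpecΓ_appTop, Scheme.ΓSpecIso_naturality]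

/-- the global function attached to a morphism to the affine line -/
noncomputable def fromA1 {Z : Scheme.{u}} (n : Z ⟶ A1.{u}) : Γ(Z, ⊤) :=
  ((Scheme.ΓSpecIso R1.{u}).inv ≫ n.appTop).hom (Polynomial.X : Polynomial (ULift.{u} ℤ))

theorem fromA1_toA1 {Z : Scheme.{u}} (z : Γ(Z, ⊤)) : fromA1 (toA1 z) = z := by
  rw [fromA1, toA1_appTop, Iso.inv_hom_id_assoc, evalHom_X]

theorem toA1_fromA1 {Z : Scheme.{u}} (n : Z ⟶ A1.{u}) : toA1 (fromA1 n) = n := by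
  apply ext_of_isAffine
  rw [toA1_appTop, ← Iso.eq_inv_comp]
  apply hom_ext_R1
  rw [evalHom_X]
  rfl

theorem toA1_injective {Z : Scheme.{u}} : Function.Injective (toA1 (Z := Z)) := by
  intro z z' h
  rw [← fromA1_toA1 z, h, fromA1_toA1]

theorem comp_toA1 {Z' Z : Scheme.{u}} (h : Z' ⟶ Z) (z : Γ(Z, ⊤)) :
    h ≫ toA1 z = toA1 (h.appTop.hom z) := by
  rw [toA1, ← Category.assoc, Scheme.toSpecΓ_naturality, Category.assoc, ← Spec.map_comp,
    evalHom_comp]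
  rfl

/-- descent of global functions along an effective epimorphism -/
theorem exists_section_of_effectiveEpi {P Q : Scheme.{u}} (π : P ⟶ Q) [EffectiveEpi π]
    (s : Γ(P, ⊤))
    (hs : ∀ {Z : Scheme.{u}} (g₁ g₂ : Z ⟶ P), g₁ ≫ π = g₂ ≫ π →
      g₁.appTop.hom s = g₂.appTop.hom s) :
    ∃ t : Γ(Q, ⊤), π.appTop.hom t = s := by
  let n : Q ⟶ A1.{u} := EffectiveEpi.desc π (toA1 s) (fun g₁ g₂ h => by
    rw [comp_toA1, comp_toA1, hs g₁ g₂ h])
  have hn : π ≫ n = toA1 s := EffectiveEpi.fac π _ _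
  refine ⟨fromA1 n, ?_⟩
  apply toA1_injective
  rw [← comp_toA1, toA1_fromA1, hn]

theorem injective_appTop_of_epi {P Q : Scheme.{u}} (π : P ⟶ Q) [Epi π] :
    Function.Injective π.appTop.hom := by
  intro t t' h
  apply toA1_injective
  rw [← cancel_epi π, comp_toA1, comp_toA1, h]

section Restrict

variable {X Y : Scheme.{u}} (φ : X ⟶ Y)

theorem morphismRestrict_appTop' (U : Y.Opens) :
    (φ ∣_ U).appTop = U.topIso.hom ≫ φ.app U ≫ (φ ⁻¹ᵁ U).topIso.inv := by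
  rw [← Scheme.Hom.resLE_eq_morphismRestrict, Scheme.Hom.appTop, Scheme.Hom.resLE_app_top,
    Scheme.Hom.appLE_eq_app]

theorem comp_ι_appLE_top {Z : Scheme.{u}} (V : X.Opens) (g : Z ⟶ V.toScheme)
    (e : (⊤ : Z.Opens) ≤ (g ≫ V.ι) ⁻¹ᵁ V) :
    (g ≫ V.ι).appLE V ⊤ e = V.topIso.inv ≫ g.appTop := by
  have h1 : V.ι.appLE V ⊤ (by rw [Scheme.Opens.ι_preimage_self]) = V.topIso.inv := by
    rw [Scheme.Opens.ι_appLE, Scheme.Opens.topIso_inv]
    rfl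
  have h2 : g.appLE ⊤ ⊤ le_top = g.appTop := by
    simp [Scheme.Hom.appLE]
  rw [← h1, ← h2, Scheme.Hom.appLE_comp_appLE]

instance surjective_morphismRestrict [Surjective φ] (U : Y.Opens) : Surjective (φ ∣_ U) := by
  constructor
  intro u
  obtain ⟨x, hx⟩ := φ.surjective u.1
  refine ⟨⟨x, by change φ x ∈ U; rw [hx]; exact u.2⟩, ?_⟩
  apply Subtype.ext
  rw [morphismRestrict_base_coe]
  exact hx

theorem injective_app_of_flat_surjective [Flat φ] [Surjective φ] (U : Y.Opens) :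
    Function.Injective (φ.app U).hom := by
  haveI : Epi (φ ∣_ U) := Flat.epi_of_flat_of_surjective _
  have h := injective_appTop_of_epi (φ ∣_ U)
  intro t t' htt
  have h1 : (φ ∣_ U).appTop.hom (U.topIso.inv.hom t) = (φ ∣_ U).appTop.hom (U.topIso.inv.hom t') := by
    rw [morphismRestrict_appTop']
    change (φ ⁻¹ᵁ U).topIso.inv.hom ((φ.app U).hom (U.topIso.hom.hom (U.topIso.inv.hom t))) =
      (φ ⁻¹ᵁ U).topIso.inv.hom ((φ.app U).hom (U.topIso.hom.hom (U.topIso.inv.hom t')))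
    rw [iso_inv_hom_apply, iso_inv_hom_apply, htt]
  have h2 := h h1
  have h3 := congrArg U.topIso.hom.hom h2
  rwa [iso_inv_hom_apply, iso_inv_hom_apply] at h3

/-- fpqc descent of sections over an open subset -/
theorem exists_app_eq_of_fpqc [Flat φ] [Surjective φ] [QuasiCompact φ] (U : Y.Opens)
    (f : Γ(X, φ ⁻¹ᵁ U))
    (hf : ∀ {Z : Scheme.{u}} (g₁ g₂ : Z ⟶ X) (e₁ : (⊤ : Z.Opens) ≤ g₁ ⁻¹ᵁ (φ ⁻¹ᵁ U))
      (e₂ : (⊤ : Z.Opens) ≤ g₂ ⁻¹ᵁ (φ ⁻¹ᵁ U)), g₁ ≫ φ = g₂ ≫ φ →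
      (g₁.appLE (φ ⁻¹ᵁ U) ⊤ e₁).hom f = (g₂.appLE (φ ⁻¹ᵁ U) ⊤ e₂).hom f) :
    ∃ t : Γ(Y, U), (φ.app U).hom t = f := by
  obtain ⟨t, ht⟩ := exists_section_of_effectiveEpi (φ ∣_ U) ((φ ⁻¹ᵁ U).topIso.inv.hom f) (by
    intro Z g₁ g₂ h
    have e₁ : (⊤ : Z.Opens) ≤ (g₁ ≫ (φ ⁻¹ᵁ U).ι) ⁻¹ᵁ (φ ⁻¹ᵁ U) := by
      intro z _
      exact (g₁ z).2
    have e₂ : (⊤ : Z.Opens) ≤ (g₂ ≫ (φ ⁻¹ᵁ U).ι) ⁻¹ᵁ (φ ⁻¹ᵁ U) := by
      intro z _
      exact (g₂ z).2
    have key := hf (g₁ ≫ (φ ⁻¹ᵁ U).ι) (g₂ ≫ (φ ⁻¹ᵁ U).ι) e₁ e₂ (by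
      rw [Category.assoc, Category.assoc, ← morphismRestrict_ι, ← Category.assoc,
        ← Category.assoc, h])
    rw [comp_ι_appLE_top, comp_ι_appLE_top] at key
    exact key)
  refine ⟨U.topIso.hom.hom t, ?_⟩
  rw [morphismRestrict_appTop'] at ht
  have h3 := congrArg (φ ⁻¹ᵁ U).topIso.hom.hom ht
  change (φ ⁻¹ᵁ U).topIso.hom.hom ((φ ⁻¹ᵁ U).topIso.inv.hom
    ((φ.app U).hom (U.topIso.hom.hom t))) =
      (φ ⁻¹ᵁ U).topIso.hom.hom ((φ ⁻¹ᵁ U).topIso.inv.hom f) at h3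
  rwa [iso_inv_hom_apply, iso_inv_hom_apply] at h3

end Restrict

end Groth.Agent.Helper8.A1Dict
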