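import Mathlib
set_option autoImplicit false
open TensorProduct

namespace Groth.Agent.Helper8.ARbc

universe u
variable {A B : Type u} [CommRing A] [CommRing B] [Algebra A B]
variable {M N : Type u} [AddCommGroup M] [Module A M] [AddCommGroup N] [Module A N]

lemma bc_map (f : M →ₗ[A] N) (p : Submodule A M) :
    (p.map f).baseChange B = (p.baseChange B).map (f.baseChange B) := by
  rw [Submodule.baseChange_eq_span, Submodule.baseChange_eq_span, Submodule.map_span]
  congr 1
  ext y
  constructor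
  · rintro ⟨x, ⟨m, hm, rfl⟩, rfl⟩
    exact ⟨1 ⊗ₜ m, ⟨m, hm, rfl⟩, by simp⟩
  · rintro ⟨z, ⟨m, hm, rfl⟩, rfl⟩
    exact ⟨f m, ⟨m, hm, rfl⟩, by simp⟩

lemma algebraMap_smul_tmul (a : A) (b' : B) (x : N) :
    algebraMap A B a • (b' ⊗ₜ[A] x) = b' ⊗ₜ[A] (a • x) := by
  rw [TensorProduct.smul_tmul', TensorProduct.tmul_smul, TensorProduct.smul_tmul', smul_eq_mul,
    Algebra.smul_def]

lemma bc_smul_top (J : Ideal A) :
    (J • (⊤ : Submodule A N)).baseChange B =
      J.map (algebraMap A B) • (⊤ : Submodule B (B ⊗[A] N)) := by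
  apply le_antisymm
  · rw [Submodule.baseChange_eq_span, Submodule.span_le]
    rintro _ ⟨x, hx, rfl⟩
    simp only [SetLike.mem_coe] at hx ⊢
    refine Submodule.smul_induction_on hx ?_ ?_
    · intro a ha n _
      have : (TensorProduct.mk A B N 1) (a • n) = algebraMap A B a • ((1 : B) ⊗ₜ[A] n) := by
        rw [algebraMap_smul_tmul]; rfl
      rw [this]
      exact Submodule.smul_mem_smul (Ideal.mem_map_of_mem _ ha) trivial
    · intro x y hx hy
      rw [map_add]; exact add_mem hx hy
  · rw [Submodule.smul_le]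
    intro b hb y hy
    clear hy
    induction hb using Submodule.span_induction generalizing y with
    | mem b hb =>
      obtain ⟨a, ha, rfl⟩ := hb
      induction y using TensorProduct.induction_on with
      | zero => simp
      | tmul b' x =>
        rw [algebraMap_smul_tmul]
        exact Submodule.tmul_mem_baseChange_of_mem _ (Submodule.smul_mem_smul ha trivial)
      | add y z hy hz => rw [smul_add]; exact add_mem hy hz
    | zero => simp
    | add b c _ _ hb hc => rw [add_smul]; exact add_mem (hb y) (hc y)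
    | smul r b _ hb => rw [smul_assoc]; exact Submodule.smul_mem _ r (hb y)

lemma bc_inf [Module.Flat A B] (P Q : Submodule A N) :
    P.baseChange B ⊓ Q.baseChange B ≤ (P ⊓ Q).baseChange B := by
  rintro y ⟨hyP, hyQ⟩
  obtain ⟨z, rfl⟩ := hyP
  -- h : P → N/Q
  obtain ⟨h, hh⟩ : ∃ h : P →ₗ[A] N ⧸ Q, h = Q.mkQ ∘ₗ P.subtype := ⟨_, rfl⟩
  have hex : Function.Exact (LinearMap.ker h).subtype h := LinearMap.exact_subtype_ker_map h
  have hexB := Module.Flat.lTensor_exact B hex
  have hQex : Function.Exact (Q.subtype.lTensor B) (Q.mkQ.lTensor B) :=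
    lTensor_exact B (LinearMap.exact_subtype_mkQ Q) (Submodule.mkQ_surjective Q)
  have hz : (h.lTensor B) z = 0 := by
    rw [hh, LinearMap.lTensor_comp, LinearMap.comp_apply]
    rw [hQex]
    obtain ⟨w, hw⟩ := hyQ
    exact ⟨w, hw⟩
  obtain ⟨w, rfl⟩ := (hexB z).1 hz
  -- j : ker h → P ⊓ Q
  let j : LinearMap.ker h →ₗ[A] (P ⊓ Q : Submodule A N) :=
    LinearMap.codRestrict _ (P.subtype ∘ₗ (LinearMap.ker h).subtype) (by
      intro x
      refine ⟨x.1.2, ?_⟩
      have h2 : (Q.mkQ ∘ₗ P.subtype) x.1 = 0 := by rw [← hh]; exact x.2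
      rw [LinearMap.comp_apply, Submodule.mkQ_apply,
        Submodule.Quotient.mk_eq_zero] at h2
      exact h2)
  have hj : (P ⊓ Q).subtype ∘ₗ j = P.subtype ∘ₗ (LinearMap.ker h).subtype := rfl
  refine ⟨j.lTensor B w, ?_⟩
  show ((P ⊓ Q).subtype.lTensor B) (j.lTensor B w) = (P.subtype.lTensor B) ((LinearMap.ker h).subtype.lTensor B w)
  rw [← LinearMap.comp_apply, ← LinearMap.lTensor_comp, hj, LinearMap.lTensor_comp,
    LinearMap.comp_apply]

theorem s6911 [IsNoetherianRing A] [IsNoetherianRing B] [Module.Flat A B] (I : Ideal A)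
    [Module.Finite A M] [Module.Finite A N] (f : M →ₗ[A] N) (c : ℕ)
    (hf : (∀ n : ℕ, c ≤ n → LinearMap.range f ⊓ (I ^ n • (⊤ : Submodule A N)) ≤ Submodule.map f (I ^ (n - c) • (⊤ : Submodule A M)))) :
    ∀ n : ℕ, c ≤ n →
      LinearMap.range (f.baseChange B) ⊓ ((I.map (algebraMap A B)) ^ n • (⊤ : Submodule B (B ⊗[A] N))) ≤
        Submodule.map (f.baseChange B) ((I.map (algebraMap A B)) ^ (n - c) • (⊤ : Submodule B (B ⊗[A] M))) := by
  intro n hn
  have h1 : LinearMap.range (f.baseChange B) = (LinearMap.range f).baseChange B := by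
    rw [← Submodule.map_top, ← Submodule.map_top, bc_map, Submodule.baseChange_top]
  rw [h1, ← Ideal.map_pow, ← Ideal.map_pow, ← bc_smul_top, ← bc_smul_top, ← bc_map]
  exact (bc_inf _ _).trans (Submodule.baseChange_mono B (hf n hn))

end Groth.Agent.Helper8.ARbc
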