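import Groth.Agent.Helper8.Rigid2

/-!
# Consequences of the rigidity lemma for abelian schemes
-/

set_option autoImplicit false
universe u

open CategoryTheory CategoryTheory.Limits MonoidalCategory CartesianMonoidalCategory MonObj GrpObj
  AlgebraicGeometry

namespace Groth.Agent.Helper8.Rigid3

theorem subsingleton_of_preconnected_of_discrete {α : Type*} [TopologicalSpace α] {C D : Set α}
    (hC : IsPreconnected C) (hD : IsDiscrete D) (h : C ⊆ D) : C.Subsingleton := by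
  haveI : DiscreteTopology C := (hD.mono h).to_subtype
  haveI : PreconnectedSpace C := Subtype.preconnectedSpace hC
  have := (isPreconnected_univ : IsPreconnected (Set.univ : Set C)).subsingleton
  intro x hx y hy
  exact congrArg Subtype.val (this (Set.mem_univ ⟨x, hx⟩) (Set.mem_univ ⟨y, hy⟩))

/-- scheme-level form of the main consequence of rigidity for `X ×_S X`. -/
theorem lemmaR_scheme {S A B : Scheme.{u}} (a : A ⟶ S) [IsProper a] [Flat a]
    [LocallyOfFinitePresentation a] [GeometricallyReduced a] [GeometricallyConnected a]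
    (ε : S ⟶ A) (hε : ε ≫ a = 𝟙 S) (q : B ⟶ S) [IsSeparated q] (c : S ⟶ B)
    (φ : pullback a a ⟶ B) (hφ : φ ≫ q = pullback.fst a a ≫ a)
    (h1 : pullback.lift (a ≫ ε) (𝟙 A)
      (by rw [Category.assoc, hε, Category.comp_id, Category.id_comp]) ≫ φ = a ≫ c)
    (h2 : pullback.lift (𝟙 A) (a ≫ ε)
      (by rw [Category.assoc, hε, Category.comp_id, Category.id_comp]) ≫ φ = a ≫ c) :
    φ = pullback.fst a a ≫ a ≫ c := by
  have hw : a ≫ ε ≫ a = 𝟙 A ≫ a := by rw [hε, Category.comp_id, Category.id_comp]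
  have hw' : 𝟙 A ≫ a = (a ≫ ε) ≫ a := by rw [Category.assoc, hε, Category.comp_id, Category.id_comp]
  have hjf : pullback.lift (a ≫ ε) (𝟙 A) (by rw [Category.assoc]; exact hw) ≫ pullback.fst a a
      = a ≫ ε := pullback.lift_fst _ _ _
  have hjs : pullback.lift (a ≫ ε) (𝟙 A) (by rw [Category.assoc]; exact hw) ≫ pullback.snd a a
      = 𝟙 A := pullback.lift_snd _ _ _
  have hj₂f : pullback.lift (𝟙 A) (a ≫ ε) hw' ≫ pullback.fst a a = 𝟙 A := pullback.lift_fst _ _ _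
  have c2 : pullback.fst a a ≫ a = pullback.snd a a ≫ a := pullback.condition
  -- collapse of the fibres over the section
  have hcollapse : ∀ s : S, ∀ z : ↥(pullback a a), pullback.fst a a z = ε s → φ z = c s := by
    intro s z hz
    have hz' : z ∈ Set.range (pullback.fst (pullback.fst a a) ε) := by
      rw [Scheme.Pullback.range_fst]
      exact ⟨s, hz.symm⟩
    obtain ⟨w, rfl⟩ := hz'
    have c1 : pullback.fst (pullback.fst a a) ε ≫ pullback.fst a a =
        pullback.snd (pullback.fst a a) ε ≫ ε := pullback.condition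
    have c3 : pullback.fst (pullback.fst a a) ε ≫ pullback.snd a a ≫ a =
        pullback.snd (pullback.fst a a) ε := by
      rw [← c2, ← Category.assoc, c1, Category.assoc, hε, Category.comp_id]
    have hu : pullback.fst (pullback.fst a a) ε =
        (pullback.fst (pullback.fst a a) ε ≫ pullback.snd a a) ≫
          pullback.lift (a ≫ ε) (𝟙 A) (by rw [Category.assoc]; exact hw) := by
      apply pullback.hom_ext
      · rw [Category.assoc, hjf, Category.assoc, ← Category.assoc (pullback.snd a a),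
          ← Category.assoc, c3, c1]
      · rw [Category.assoc, hjs, Category.comp_id]
    have e1 : pullback.fst (pullback.fst a a) ε ≫ φ = pullback.snd (pullback.fst a a) ε ≫ c := by
      conv_lhs => rw [hu]
      rw [Category.assoc, h1, Category.assoc, ← Category.assoc (pullback.snd a a),
        ← Category.assoc, c3]
    have e2 : ε (pullback.snd (pullback.fst a a) ε w) = ε s := by
      rw [← hz, ← Scheme.Hom.comp_apply, ← Scheme.Hom.comp_apply, c1]
    have h4 : ∀ s' : S, a (ε s') = s' := fun s' => by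
      rw [← Scheme.Hom.comp_apply, hε]
      rfl
    have e3 : pullback.snd (pullback.fst a a) ε w = s := by
      rw [← h4 (pullback.snd (pullback.fst a a) ε w), e2, h4]
    rw [← Scheme.Hom.comp_apply, e1, Scheme.Hom.comp_apply, e3]
  -- local statement from rigidity
  have hloc : ∀ s : S, ∃ W : A.Opens, IsClosed (W : Set A) ∧ ε s ∈ W ∧
      (pullback.fst a a ⁻¹ᵁ W).ι ≫ φ = (pullback.fst a a ⁻¹ᵁ W).ι ≫ pullback.fst a a ≫ a ≫ c := by
    intro s
    obtain ⟨W, hWc, hsW, hW⟩ := Rigid2.rigidity_section a q (pullback.fst a a) φ hφ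
      (pullback.lift (𝟙 A) (a ≫ ε) hw') hj₂f (ε s) (by
        rintro _ ⟨z₁, hz₁, rfl⟩ _ ⟨z₂, hz₂, rfl⟩
        rw [hcollapse s z₁ hz₁, hcollapse s z₂ hz₂])
    refine ⟨W, hWc, hsW, ?_⟩
    rw [hW, h2]
  refine Scheme.hom_ext_of_forall _ _ (fun z => ?_)
  obtain ⟨W, hWc, hsW, hW⟩ := hloc (a (pullback.fst a a z))
  refine ⟨pullback.fst a a ⁻¹ᵁ W, ?_, hW⟩
  show pullback.fst a a z ∈ W
  have hconn := (a.isConnected_preimage_singleton (a (pullback.fst a a z))).isPreconnected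
  have hmem : ε (a (pullback.fst a a z)) ∈ a ⁻¹' {a (pullback.fst a a z)} := by
    show a (ε (a (pullback.fst a a z))) = a (pullback.fst a a z)
    rw [← Scheme.Hom.comp_apply ε a, hε]
    rfl
  have hsub := hconn.subset_isClopen ⟨hWc, W.isOpen⟩ ⟨_, hmem, hsW⟩
  exact hsub rfl

variable {S : Scheme.{u}}

section Base

variable (X : Over S) [IsProper X.hom] [Flat X.hom] [LocallyOfFinitePresentation X.hom]
  [GeometricallyReduced X.hom] [GeometricallyConnected X.hom] (e : 𝟙_ (Over S) ⟶ X)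

theorem section_w : e.left ≫ X.hom = 𝟙 S := Over.w e

theorem eq_on_nhd_of_collapsed (Y : Over S) [IsSeparated Y.hom] (d : X ⟶ Y) (s : S)
    (hs : (d.left '' (X.hom ⁻¹' {s})).Subsingleton) :
    ∃ W : S.Opens, IsClosed (W : Set S) ∧ s ∈ W ∧
      (X.hom ⁻¹ᵁ W).ι ≫ d.left = (X.hom ⁻¹ᵁ W).ι ≫ (toUnit X ≫ e ≫ d).left := by
  obtain ⟨W, hWc, hsW, hW⟩ := Rigid2.rigidity_section (𝟙 S) Y.hom X.hom d.left
    (by rw [Over.w d, Category.comp_id]) e.left (section_w X e) s hs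
  refine ⟨W, hWc, hsW, ?_⟩
  rw [hW]
  rfl

theorem eq_of_fibres_collapsed (Y : Over S) [IsSeparated Y.hom] (d : X ⟶ Y)
    (h : ∀ s : S, (d.left '' (X.hom ⁻¹' {s})).Subsingleton) : d = toUnit X ≫ e ≫ d := by
  apply Over.OverMorphism.ext
  refine Scheme.hom_ext_of_forall _ _ (fun x => ?_)
  obtain ⟨W, -, hsW, hW⟩ := eq_on_nhd_of_collapsed X e Y d (X.hom x) (h _)
  exact ⟨X.hom ⁻¹ᵁ W, hsW, hW⟩

/-- **Main consequence of rigidity**: a morphism `X ×_S X ⟶ Y` to a separated group scheme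
which is trivial on both axes is trivial. -/
theorem lemmaR (Y : Over S) [GrpObj Y] [IsSeparated Y.hom] (h : X ⊗ X ⟶ Y)
    (h1 : e ▷ X ≫ h = 1) (h2 : X ◁ e ≫ h = 1) : h = 1 := by
  have hε := section_w X e
  have hj : lift (toUnit X ≫ e) (𝟙 X) ≫ h = 1 := by
    have : lift (toUnit X ≫ e) (𝟙 X) = lift (toUnit X) (𝟙 X) ≫ e ▷ X := by simp
    rw [this, Category.assoc, h1, MonObj.comp_one]
  have hj₂ : lift (𝟙 X) (toUnit X ≫ e) ≫ h = 1 := by
    have : lift (𝟙 X) (toUnit X ≫ e) = lift (𝟙 X) (toUnit X) ≫ X ◁ e := by simp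
    rw [this, Category.assoc, h2, MonObj.comp_one]
  apply Over.OverMorphism.ext
  have key := lemmaR_scheme X.hom e.left hε Y.hom η[Y].left h.left (Over.w h)
    (congrArg CommaMorphism.left hj) (congrArg CommaMorphism.left hj₂)
  rw [key]
  rfl

end Base

section Group

variable (X : Over S) [GrpObj X] [IsProper X.hom] [Flat X.hom] [LocallyOfFinitePresentation X.hom]
  [GeometricallyReduced X.hom] [GeometricallyConnected X.hom]

theorem fst_unit_eq_one (Y : Over S) [GrpObj Y] (Z : Over S) :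
    fst (𝟙_ (Over S)) Z ≫ η[Y] = 1 := by
  rw [Hom.one_def, toUnit_unique (fst (𝟙_ (Over S)) Z) (toUnit _)]

theorem snd_unit_eq_one (Y : Over S) [GrpObj Y] (Z : Over S) :
    snd Z (𝟙_ (Over S)) ≫ η[Y] = 1 := by
  rw [Hom.one_def, toUnit_unique (snd Z (𝟙_ (Over S))) (toUnit _)]

/-- S7784 -/
theorem isMonHom_of_one (Y : Over S) [GrpObj Y] [IsSeparated Y.hom] (f : X ⟶ Y)
    (hf : η[X] ≫ f = η[Y]) : IsMonHom f := by
  have key : (μ[X] ≫ f) * ((fst X X ≫ f) * (snd X X ≫ f))⁻¹ = 1 := by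
    apply lemmaR X η[X] Y
    · rw [MonObj.comp_mul, GrpObj.comp_inv, MonObj.comp_mul, ← Category.assoc, MonObj.one_mul,
        ← Category.assoc (η[X] ▷ X), whiskerRight_fst, ← Category.assoc (η[X] ▷ X),
        whiskerRight_snd, Category.assoc, hf, leftUnitor_hom, fst_unit_eq_one, _root_.one_mul,
        mul_inv_cancel]
    · rw [MonObj.comp_mul, GrpObj.comp_inv, MonObj.comp_mul, ← Category.assoc, MonObj.mul_one,
        ← Category.assoc (X ◁ η[X]), whiskerLeft_fst, ← Category.assoc (X ◁ η[X]),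
        whiskerLeft_snd, Category.assoc, hf, rightUnitor_hom, snd_unit_eq_one, _root_.mul_one,
        mul_inv_cancel]
  rw [mul_inv_eq_one] at key
  refine ⟨hf, ?_⟩
  rw [key, Hom.mul_def, lift_fst_comp_snd_comp]

/-- S7785 -/
theorem isCommMonObj : IsCommMonObj X := by
  rw [isCommMonObj_iff_commutator_eq_toUnit_η]
  exact lemmaR X η[X] X (GrpObj.commutator X) GrpObj.η_whiskerRight_commutator
    GrpObj.whiskerLeft_η_commutator

/-- S7794 -/
theorem hom_eq_on_clopen (Y : Over S) [GrpObj Y] [IsSeparated Y.hom] (f g : X ⟶ Y)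
    (hf1 : η[X] ≫ f = η[Y]) (hg1 : η[X] ≫ g = η[Y]) (s : S)
    (hs : X.hom.fiberι s ≫ f.left = X.hom.fiberι s ≫ g.left) :
    ∃ W : S.Opens, IsClosed (W : Set S) ∧ s ∈ W ∧
      (X.hom ⁻¹ᵁ W).ι ≫ f.left = (X.hom ⁻¹ᵁ W).ι ≫ g.left := by
  have hd1 : η[X] ≫ (f * g⁻¹) = η[Y] := by
    rw [MonObj.comp_mul, GrpObj.comp_inv, hf1, hg1, mul_inv_cancel, MonObj.one_eq_one]
  have key : ∀ {Z : Over S} (ψ : Z ⟶ X), ψ ≫ (f * g⁻¹) = 1 ↔ ψ ≫ f = ψ ≫ g := by
    intro Z ψ
    rw [MonObj.comp_mul, GrpObj.comp_inv, mul_inv_eq_one]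
  have hcol : ((f * g⁻¹).left '' (X.hom ⁻¹' {s})).Subsingleton := by
    let φ : Over.mk (X.hom.fiberι s ≫ X.hom) ⟶ X := Over.homMk (X.hom.fiberι s) rfl
    have hφ : φ ≫ (f * g⁻¹) = 1 := (key φ).mpr (Over.OverMorphism.ext hs)
    have hφl : X.hom.fiberι s ≫ (f * g⁻¹).left = (X.hom.fiberι s ≫ X.hom) ≫ η[Y].left :=
      congrArg CommaMorphism.left hφ
    have hpt : ∀ x ∈ X.hom ⁻¹' {s}, (f * g⁻¹).left x = η[Y].left s := by
      intro x hx
      have hx' := hx
      rw [← X.hom.range_fiberι] at hx'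
      obtain ⟨w, rfl⟩ := hx'
      rw [← Scheme.Hom.comp_apply, hφl, Scheme.Hom.comp_apply, Scheme.Hom.comp_apply]
      congr 1
    rintro _ ⟨x₁, h₁, rfl⟩ _ ⟨x₂, h₂, rfl⟩
    rw [hpt x₁ h₁, hpt x₂ h₂]
  obtain ⟨W, hWc, hsW, hW⟩ := eq_on_nhd_of_collapsed X η[X] Y (f * g⁻¹) s hcol
  refine ⟨W, hWc, hsW, ?_⟩
  let ψ : Over.mk ((X.hom ⁻¹ᵁ W).ι ≫ X.hom) ⟶ X := Over.homMk (X.hom ⁻¹ᵁ W).ι rfl
  have hψ : ψ ≫ (f * g⁻¹) = 1 := by
    apply Over.OverMorphism.ext
    show (X.hom ⁻¹ᵁ W).ι ≫ (f * g⁻¹).left = _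
    rw [hW, hd1]
    rfl
  exact congrArg CommaMorphism.left ((key ψ).mp hψ)

end Group

section Isogeny

/-- S7793, second half -/
theorem cancel_right_isogeny (X Y Z : Over S) [GrpObj X] [IsSeparated X.hom] [GrpObj Y]
    [GrpObj Z] [IsProper Z.hom] [Flat Z.hom] [LocallyOfFinitePresentation Z.hom]
    [GeometricallyReduced Z.hom] [GeometricallyConnected Z.hom]
    (f : X ⟶ Y) [IsMonHom f] [LocallyQuasiFinite f.left] (h₁ h₂ : Z ⟶ X)
    (hh₁ : η[Z] ≫ h₁ = η[X]) (hh₂ : η[Z] ≫ h₂ = η[X]) (hc : h₁ ≫ f = h₂ ≫ f) : h₁ = h₂ := by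
  have hdf : (h₁ * h₂⁻¹) ≫ f = 1 := by
    rw [MonObj.mul_comp, GrpObj.inv_comp, hc, mul_inv_cancel]
  have hd1 : η[Z] ≫ (h₁ * h₂⁻¹) = η[X] := by
    rw [MonObj.comp_mul, GrpObj.comp_inv, hh₁, hh₂, mul_inv_cancel, MonObj.one_eq_one]
  have hcol : ∀ s : S, ((h₁ * h₂⁻¹).left '' (Z.hom ⁻¹' {s})).Subsingleton := by
    intro s
    have hconn : _root_.IsPreconnected ((h₁ * h₂⁻¹).left '' (Z.hom ⁻¹' {s})) :=
      (Z.hom.isConnected_preimage_singleton s).isPreconnected.image _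
        (h₁ * h₂⁻¹).left.continuous.continuousOn
    have hsub : (h₁ * h₂⁻¹).left '' (Z.hom ⁻¹' {s}) ⊆ f.left ⁻¹' {η[Y].left s} := by
      rintro _ ⟨z, hz, rfl⟩
      show f.left ((h₁ * h₂⁻¹).left z) = η[Y].left s
      have e : (h₁ * h₂⁻¹).left ≫ f.left = Z.hom ≫ η[Y].left := congrArg CommaMorphism.left hdf
      rw [← Scheme.Hom.comp_apply, e, Scheme.Hom.comp_apply]
      congr 1
    exact subsingleton_of_preconnected_of_discrete hconn
      (f.left.isDiscrete_preimage_singleton _) hsub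
  have hd := eq_of_fibres_collapsed Z η[Z] X (h₁ * h₂⁻¹) hcol
  rw [hd1] at hd
  have hd' : h₁ * h₂⁻¹ = 1 := hd
  exact mul_inv_eq_one.mp hd'

/-- S7793, first half -/
theorem cancel_left_isogeny {X Y Z : Over S} (f : X ⟶ Y) [Flat f.left] [Surjective f.left]
    (g₁ g₂ : Y ⟶ Z) (hc : f ≫ g₁ = f ≫ g₂) : g₁ = g₂ := by
  haveI : Epi f.left := Flat.epi_of_flat_of_surjective f.left
  apply Over.OverMorphism.ext
  rw [← cancel_epi f.left]
  exact congrArg CommaMorphism.left hc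

end Isogeny

section Unique

theorem grpObj_ext {C : Type*} [Category C] [CartesianMonoidalCategory C] {X : C}
    (h₁ h₂ : GrpObj X) (h1 : h₁.one = h₂.one) (hm : h₁.mul = h₂.mul) : h₁ = h₂ := by
  have hi : h₁.inv = h₂.inv := by
    letI := h₂
    have e1 : (h₁.inv : X ⟶ X) * (𝟙 X) = 1 := by
      rw [Hom.mul_def, Hom.one_def]
      have := @GrpObj.left_inv _ _ _ X h₁
      rw [hm, h1] at this
      exact this
    have e2 : (h₂.inv : X ⟶ X) * 𝟙 X = 1 := by
      rw [Hom.mul_def, Hom.one_def]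
      exact @GrpObj.left_inv _ _ _ X h₂
    exact mul_right_cancel (e1.trans e2.symm)
  cases h₁ with
  | @mk M₁ i₁ l₁ r₁ =>
  cases h₂ with
  | @mk M₂ i₂ l₂ r₂ =>
  cases M₁ with
  | mk o₁ m₁ a₁ b₁ c₁ =>
  cases M₂ with
  | mk o₂ m₂ a₂ b₂ c₂ =>
  simp only at h1 hm hi
  subst h1 hm hi
  rfl

/-- S7786 -/
theorem grpObj_unique (X : Over S) [IsProper X.hom] [Flat X.hom]
    [LocallyOfFinitePresentation X.hom] [GeometricallyReduced X.hom]
    [GeometricallyConnected X.hom] (h₁ h₂ : GrpObj X) (he : h₁.one = h₂.one) : h₁ = h₂ := by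
  apply grpObj_ext h₁ h₂ he
  letI := h₂
  have e1 : h₂.one ▷ X ≫ h₁.mul = (λ_ X).hom := by
    rw [← he]
    exact @MonObj.one_mul _ _ _ X h₁.toMonObj
  have e2 : h₂.one ▷ X ≫ h₂.mul = (λ_ X).hom := @MonObj.one_mul _ _ _ X h₂.toMonObj
  have e3 : X ◁ h₂.one ≫ h₁.mul = (ρ_ X).hom := by
    rw [← he]
    exact @MonObj.mul_one _ _ _ X h₁.toMonObj
  have e4 : X ◁ h₂.one ≫ h₂.mul = (ρ_ X).hom := @MonObj.mul_one _ _ _ X h₂.toMonObj
  have key : (h₁.mul : X ⊗ X ⟶ X) * (h₂.mul : X ⊗ X ⟶ X)⁻¹ = 1 := by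
    apply lemmaR X h₂.one X
    · rw [MonObj.comp_mul, GrpObj.comp_inv, e1, e2, mul_inv_cancel]
    · rw [MonObj.comp_mul, GrpObj.comp_inv, e3, e4, mul_inv_cancel]
  exact mul_inv_eq_one.mp key

end Unique

end Groth.Agent.Helper8.Rigid3
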