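import Mathlib
import Groth.Prelude
import Groth.Agent.Helper8.Rigid3
import Groth.Agent.Helper8.FinDesc
import Groth.Agent.Helper3.PowComm
import Groth.Agent.Helper5.FibGrp1
import Groth.Agent.Helper5.FibFlat4
import Groth.Agent.Helper2.UnramFib
import Groth.Agent.Helper2.LfpComp

/-!
# Multiplication by an invertible integer on an abelian scheme is finite étale

Assembled from: étaleness of `[n]` on commutative algebraic groups over a field (helper3),
the fibrewise flatness criterion (helper5/helper2), the fibrewise criterion for unramifiedness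
(helper2), commutativity of abelian schemes by rigidity (Rigid3) and Zariski's main theorem.
-/

set_option autoImplicit false
set_option linter.style.haveILetI false
set_option linter.unusedSectionVars false

universe u

open CategoryTheory CategoryTheory.Limits MonoidalCategory CartesianMonoidalCategory MonObj GrpObj
  AlgebraicGeometry

namespace Groth.Agent.Helper8.AbMul

/-- over a field, `[d]` is étale on a commutative algebraic group when `d` is invertible -/
theorem etale_zpow_field (K : Type u) [Field K] (A : Over (Spec (CommRingCat.of K))) [GrpObj A]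
    [IsCommMonObj A] [LocallyOfFiniteType A.hom] (d : ℤ) (hd : (d : K) ≠ 0) :
    Etale ((𝟙 A : A ⟶ A) ^ d).left := by
  rcases Int.eq_nat_or_neg d with ⟨n, rfl | rfl⟩
  · rw [zpow_natCast]
    rw [Int.cast_natCast] at hd
    exact Groth.Agent.Helper3.PowComm.etale_pow (k := K) (G := A) n hd
  · rw [zpow_neg, zpow_natCast, Hom.inv_def, Over.comp_left]
    rw [Int.cast_neg, Int.cast_natCast, neg_ne_zero] at hd
    haveI : IsIso (ι[A] : A ⟶ A).left := inferInstanceAs (IsIso ((Over.forget _).map ι[A]))
    haveI := Groth.Agent.Helper3.PowComm.etale_pow (k := K) (G := A) n hd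
    infer_instance

/-- an integer invertible in the global sections is nonzero in every residue field -/
theorem intCast_ne_zero_residueField {S : Scheme.{u}} (n : ℤ) (hn : IsUnit (n : Γ(S, ⊤))) (s : S) :
    ((n : ℤ) : ↑(S.residueField s)) ≠ 0 := by
  have h := hn.map (S.evaluation ⊤ s trivial).hom
  rw [map_intCast] at h
  exact h.ne_zero

variable {S : Scheme.{u}} (X : Over S) [GrpObj X] [IsProper X.hom] [Flat X.hom]
  [LocallyOfFinitePresentation X.hom] [GeometricallyReduced X.hom] [GeometricallyConnected X.hom]

/-- base change commutes with integer powers of endomorphisms -/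
theorem map_zpow_id {S' : Scheme.{u}} (j : S' ⟶ S) (n : ℤ) :
    (Over.pullback j).map ((𝟙 X : X ⟶ X) ^ n) =
      (𝟙 (Red.bc j X) : Red.bc j X ⟶ Red.bc j X) ^ n := by
  have h := map_zpow ((Over.pullback j).homMonoidHom (X := X) (M := X)) (𝟙 X) n
  simpa using h

theorem etale_fb (n : ℤ) (hn : IsUnit (n : Γ(S, ⊤))) (s : S) :
    Etale (Groth.Agent.Helper5.FibGrp.fb X X ((𝟙 X : X ⟶ X) ^ n) s) := by
  let j := S.fromSpecResidueField s
  let X' : Over (Spec (CommRingCat.of ↑(S.residueField s))) := Red.bc j X
  haveI : IsProper X'.hom := inferInstanceAs (IsProper (pullback.snd X.hom j))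
  haveI : Flat X'.hom := inferInstanceAs (Flat (pullback.snd X.hom j))
  haveI : LocallyOfFinitePresentation X'.hom :=
    inferInstanceAs (LocallyOfFinitePresentation (pullback.snd X.hom j))
  haveI : GeometricallyReduced X'.hom :=
    inferInstanceAs (GeometricallyReduced (pullback.snd X.hom j))
  haveI : GeometricallyConnected X'.hom :=
    inferInstanceAs (GeometricallyConnected (pullback.snd X.hom j))
  haveI : IsCommMonObj X' := Groth.Agent.Helper8.Rigid3.isCommMonObj X'
  show Etale ((Over.pullback j).map ((𝟙 X : X ⟶ X) ^ n)).left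
  rw [map_zpow_id X j n]
  exact etale_zpow_field _ X' n (intCast_ne_zero_residueField n hn s)

/-- **S7789** -/
theorem main (n : ℤ) (hn : IsUnit (n : Γ(S, ⊤))) :
    IsFinite ((𝟙 X : X ⟶ X) ^ n).left ∧ Etale ((𝟙 X : X ⟶ X) ^ n).left := by
  set P : X ⟶ X := (𝟙 X : X ⟶ X) ^ n with hP
  have hw : P.left ≫ X.hom = X.hom := Over.w P
  have hfib : ∀ s : S, Etale (pullback.snd P.left (X.hom.fiberι s)) := fun s =>
    Groth.Agent.Helper5.FibGrp.fibreMap_of_bc X X P @Etale s (etale_fb X n hn s)
  haveI : LocallyOfFinitePresentation (P.left ≫ X.hom) := by rw [hw]; infer_instance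
  haveI : Flat (P.left ≫ X.hom) := by rw [hw]; infer_instance
  haveI : IsProper (P.left ≫ X.hom) := by rw [hw]; infer_instance
  haveI : LocallyOfFinitePresentation P.left :=
    Groth.Agent.Helper2.LfpComp.locallyOfFinitePresentation_of_comp P.left X.hom
      inferInstance inferInstance
  haveI : Flat P.left := Groth.Agent.Helper5.FibFlat.flat_of_fibres P.left X.hom
    (fun s => by haveI := hfib s; infer_instance)
  haveI : FormallyUnramified P.left :=
    (Groth.Agent.Helper2.UnramFib.formallyUnramified_iff_fibres X.hom P.left).mpr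
      (fun s => by haveI := hfib s; infer_instance)
  haveI : Etale P.left := Etale.of_formallyUnramified_of_flat P.left
  haveI : IsProper P.left := IsProper.of_comp P.left X.hom
  haveI : LocallyQuasiFinite P.left := Groth.Agent.Helper8.FinDesc.lqf_of_etale P.left
  exact ⟨IsFinite.of_isProper_of_locallyQuasiFinite P.left, inferInstance⟩

/-- `[n]` is surjective when it is étale -/
theorem surjective_zpow (n : ℤ) (hn : IsUnit (n : Γ(S, ⊤))) :
    Surjective ((𝟙 X : X ⟶ X) ^ n).left := by
  obtain ⟨hfin, het⟩ := main X n hn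
  set P : X ⟶ X := (𝟙 X : X ⟶ X) ^ n with hP
  haveI := hfin
  haveI := het
  have hopen : IsOpen (Set.range P.left) := P.left.isOpenMap.isOpen_range
  have hclosed : IsClosed (Set.range P.left) := P.left.isClosedMap.isClosed_range
  refine ⟨fun x => ?_⟩
  have hconn := (X.hom.isConnected_preimage_singleton (X.hom x)).isPreconnected
  have hPη : η[X] ≫ P = η[X] := by
    rw [hP, GrpObj.comp_zpow, Category.comp_id, MonObj.one_eq_one, one_zpow]
  have hηw : η[X].left ≫ X.hom = 𝟙 S := Over.w η[X]
  have hu1 : η[X].left (X.hom x) ∈ X.hom ⁻¹' {X.hom x} := by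
    show X.hom (η[X].left (X.hom x)) = X.hom x
    rw [← Scheme.Hom.comp_apply, hηw]
    rfl
  have hu2 : η[X].left (X.hom x) ∈ Set.range P.left := by
    refine ⟨η[X].left (X.hom x), ?_⟩
    rw [← Scheme.Hom.comp_apply, ← Over.comp_left, hPη]
  exact hconn.subset_isClopen ⟨hclosed, hopen⟩ ⟨_, hu1, hu2⟩ rfl

/-- **S17252** -/
theorem etaleLocallySurjective (n : ℤ) (hn : IsUnit (n : Γ(S, ⊤))) (T : Over S) (α : T ⟶ X) :
    ∃ (T' : Over S) (φ : T' ⟶ T) (β : T' ⟶ X),
      Etale φ.left ∧ Surjective φ.left ∧ β ≫ ((𝟙 X : X ⟶ X) ^ n) = φ ≫ α := by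
  obtain ⟨hfin, het⟩ := main X n hn
  haveI := het
  haveI := surjective_zpow X n hn
  set P : X ⟶ X := (𝟙 X : X ⟶ X) ^ n with hP
  have hw : pullback.snd α.left P.left ≫ X.hom = pullback.fst α.left P.left ≫ T.hom := by
    have h1 : P.left ≫ X.hom = X.hom := Over.w P
    have h2 : α.left ≫ X.hom = T.hom := Over.w α
    rw [← h1, ← Category.assoc, ← pullback.condition, Category.assoc, h2]
  refine ⟨Over.mk (pullback.fst α.left P.left ≫ T.hom),
    Over.homMk (pullback.fst α.left P.left) rfl,
    Over.homMk (pullback.snd α.left P.left) hw, ?_, ?_, ?_⟩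
  · show Etale (pullback.fst α.left P.left)
    infer_instance
  · show Surjective (pullback.fst α.left P.left)
    infer_instance
  · apply Over.OverMorphism.ext
    show pullback.snd α.left P.left ≫ P.left = pullback.fst α.left P.left ≫ α.left
    exact pullback.condition.symm

end Groth.Agent.Helper8.AbMul
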