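import Mathlib

/-!
# One step: adjoin a root of every monic polynomial of positive degree, injectively
-/

namespace Groth.Agent.Helper8.AbsIntClosed

open Polynomial

universe u

section OneStep

variable (A : Type u) [CommRing A]

/-- Monic polynomials of positive degree. -/
def Idx : Type u := {f : A[X] // f.Monic ∧ 0 < f.natDegree}

/-- The relation `f(X_f)`. -/
noncomputable def gen (f : Idx A) : MvPolynomial (Idx A) A :=
  Polynomial.aeval (MvPolynomial.X f : MvPolynomial (Idx A) A) f.1

/-- The ideal of relations. -/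
noncomputable def J : Ideal (MvPolynomial (Idx A) A) := Ideal.span (Set.range (gen A))

/-- One step of the construction. -/
abbrev Step : Type u := MvPolynomial (Idx A) A ⧸ J A

theorem exists_tower (T : Finset (Idx A)) :
    ∃ (B : Type u) (_ : CommRing B) (_ : Algebra A B), Function.Injective (algebraMap A B) ∧
      ∀ f ∈ T, ∃ b : B, Polynomial.aeval b f.1 = 0 := by
  classical
  induction T using Finset.induction_on with
  | empty => exact ⟨A, inferInstance, inferInstance, fun _ _ h => h, by simp⟩
  | insert f T hf ih =>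
    obtain ⟨B, _, _, hinj, hroots⟩ := ih
    have hA : Nontrivial A := by
      by_contra h
      rw [not_nontrivial_iff_subsingleton] at h
      have := f.2.2
      rw [Polynomial.natDegree_of_subsingleton] at this
      exact lt_irrefl _ this
    have hB : Nontrivial B := hinj.nontrivial
    let f' : B[X] := f.1.map (algebraMap A B)
    have hf'm : f'.Monic := f.2.1.map _
    have hf'd : 0 < f'.natDegree := by
      rw [f.2.1.natDegree_map]; exact f.2.2
    have hof : Function.Injective (AdjoinRoot.of f') := by
      rw [injective_iff_map_eq_zero]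
      intro b hb
      by_contra hne
      have h1 : AdjoinRoot.mk f' (C b) ≠ 0 :=
        AdjoinRoot.mk_ne_zero_of_natDegree_lt hf'm (by simpa using hne) (by simpa using hf'd)
      exact h1 hb
    refine ⟨AdjoinRoot f', inferInstance, inferInstance, ?_, ?_⟩
    · rw [AdjoinRoot.algebraMap_eq']
      exact hof.comp hinj
    · intro g hg
      rcases Finset.mem_insert.mp hg with rfl | hg
      · refine ⟨AdjoinRoot.root f', ?_⟩
        rw [AdjoinRoot.aeval_eq_of_algebra]
        exact AdjoinRoot.mk_self
      · obtain ⟨b, hb⟩ := hroots g hg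
        refine ⟨algebraMap B (AdjoinRoot f') b, ?_⟩
        rw [Polynomial.aeval_algebraMap_apply, hb, map_zero]

theorem step_injective : Function.Injective (algebraMap A (Step A)) := by
  classical
  rw [injective_iff_map_eq_zero]
  intro a ha
  have h1 : (MvPolynomial.C a : MvPolynomial (Idx A) A) ∈ J A := by
    rw [← Ideal.Quotient.eq_zero_iff_mem]; exact ha
  rw [J, Ideal.span, Finsupp.mem_span_range_iff_exists_finsupp] at h1
  obtain ⟨c, hc⟩ := h1
  obtain ⟨B, _, _, hinj, hroots⟩ := exists_tower A c.support
  choose! r hr using hroots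
  let ψ : MvPolynomial (Idx A) A →ₐ[A] B := MvPolynomial.aeval r
  have hψ : ∀ f ∈ c.support, ψ (gen A f) = 0 := by
    intro f hf
    rw [gen, ← Polynomial.aeval_algHom_apply]
    simp [ψ, hr f hf]
  have h2 : ψ (MvPolynomial.C a) = 0 := by
    rw [← hc, Finsupp.sum, map_sum]
    refine Finset.sum_eq_zero (fun f hf => ?_)
    rw [smul_eq_mul, map_mul, hψ f hf, mul_zero]
  have h3 : ψ (MvPolynomial.C a) = algebraMap A B a := by
    simp [ψ]
  rw [h3] at h2
  exact hinj (by rw [h2, map_zero])

theorem step_root (f : A[X]) (hm : f.Monic) (hd : 0 < f.natDegree) :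
    ∃ b : Step A, f.eval₂ (algebraMap A (Step A)) b = 0 := by
  let i : Idx A := ⟨f, hm, hd⟩
  refine ⟨Ideal.Quotient.mk (J A) (MvPolynomial.X i), ?_⟩
  have h1 := Polynomial.aeval_algHom_apply (Ideal.Quotient.mkₐ A (J A))
    (MvPolynomial.X i : MvPolynomial (Idx A) A) f
  rw [Polynomial.aeval_def] at h1
  rw [Ideal.Quotient.mkₐ_eq_mk] at h1
  rw [h1]
  exact Ideal.Quotient.eq_zero_iff_mem.mpr (Ideal.subset_span ⟨i, rfl⟩)

end OneStep

end Groth.Agent.Helper8.AbsIntClosed
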