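import Mathlib
import Groth.Agent.Helper8.AbsIntClosedA

/-!
# Iterating the one-step construction and passing to the colimit
-/

namespace Groth.Agent.Helper8.AbsIntClosed

open Polynomial CategoryTheory CategoryTheory.Limits

universe u

variable (A : Type u) [CommRing A]

/-- The tower of rings. -/
noncomputable def seq : ℕ → CommRingCat.{u}
  | 0 => CommRingCat.of A
  | n + 1 => CommRingCat.of (Step (seq n))

/-- The transition maps. -/
noncomputable def seqMap (n : ℕ) : seq A n ⟶ seq A (n + 1) :=
  CommRingCat.ofHom (algebraMap (seq A n) (Step (seq A n)))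

/-- The tower as a functor. -/
noncomputable def F : ℕ ⥤ CommRingCat.{u} := Functor.ofSequence (seqMap A)

theorem seqMap_injective (n : ℕ) : Function.Injective (seqMap A n).hom :=
  step_injective (seq A n)

theorem F_map_injective {m n : ℕ} (h : m ⟶ n) : Function.Injective ((F A).map h).hom := by
  have hmn : m ≤ n := leOfHom h
  induction n, hmn using Nat.le_induction with
  | base =>
    have : h = 𝟙 m := Subsingleton.elim _ _
    rw [this, CategoryTheory.Functor.map_id]
    exact fun _ _ h => h
  | succ n hmn ih =>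
    have : h = homOfLE hmn ≫ homOfLE (Nat.le_add_right n 1) := Subsingleton.elim _ _
    rw [this, Functor.map_comp, F, Functor.ofSequence_map_homOfLE_succ]
    rw [CommRingCat.hom_comp, RingHom.coe_comp]
    exact (seqMap_injective A n).comp (ih (homOfLE hmn))

/-- The colimit ring. -/
noncomputable def B : CommRingCat.{u} := colimit (F A)

instance : PreservesColimit (F A) (forget CommRingCat.{u}) := by
  haveI : PreservesFilteredColimitsOfSize.{0, 0} (forget CommRingCat.{u}) :=
    preservesSmallestFilteredColimits_of_preservesFilteredColimits _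
  infer_instance

/-- The structure maps. -/
noncomputable def ι (n : ℕ) : seq A n →+* B A := (colimit.ι (F A) n).hom

/-- The transition maps `m ⟶ n`. -/
noncomputable def tr {m n : ℕ} (h : m ⟶ n) : seq A m →+* seq A n := ((F A).map h).hom

theorem tr_injective {m n : ℕ} (h : m ⟶ n) : Function.Injective (tr A h) := F_map_injective A h

theorem tr_succ (n : ℕ) : tr A (homOfLE (Nat.le_add_right n 1)) = (seqMap A n).hom := by
  have e : (F A).map (homOfLE (Nat.le_add_right n 1)) = seqMap A n :=
    Functor.ofSequence_map_homOfLE_succ _ n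
  exact congrArg CommRingCat.Hom.hom e

theorem ι_map {m n : ℕ} (h : m ⟶ n) (x : seq A m) : ι A n (tr A h x) = ι A m x := by
  have h1 : (F A).map h ≫ colimit.ι (F A) n = colimit.ι (F A) m := colimit.w _ h
  have h2 := congrArg (fun φ => φ.hom x) h1
  exact h2

theorem exists_rep (x : B A) : ∃ (n : ℕ) (y : seq A n), ι A n y = x := by
  obtain ⟨j, y, hy⟩ := Concrete.colimit_exists_rep (F A) x
  exact ⟨j, y, hy⟩

theorem ι_injective (n : ℕ) : Function.Injective (ι A n) := by
  rw [injective_iff_map_eq_zero]
  intro y hy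
  have h1 : (colimit.ι (F A) n) (y : (F A).obj n) = (colimit.ι (F A) n) (0 : (F A).obj n) := by
    change ι A n y = ι A n 0
    rw [hy, map_zero]
  obtain ⟨k, f, g, hfg⟩ := Concrete.colimit_exists_of_rep_eq (F A) (y : (F A).obj n)
    (0 : (F A).obj n) h1
  have h2 : tr A f y = tr A g 0 := hfg
  rw [map_zero] at h2
  exact (injective_iff_map_eq_zero _).mp (tr_injective A f) y h2

theorem range_mono {m n : ℕ} (h : m ≤ n) : (ι A m).range ≤ (ι A n).range := by
  rintro _ ⟨y, rfl⟩
  exact ⟨tr A (homOfLE h) y, ι_map A (homOfLE h) y⟩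

theorem exists_stage (s : Finset (B A)) : ∃ n, ∀ x ∈ s, x ∈ (ι A n).range := by
  classical
  induction s using Finset.induction_on with
  | empty => exact ⟨0, by simp⟩
  | insert a s _ ih =>
    obtain ⟨n, hn⟩ := ih
    obtain ⟨m, y, hy⟩ := exists_rep A a
    refine ⟨max n m, fun x hx => ?_⟩
    rcases Finset.mem_insert.mp hx with rfl | hx
    · exact range_mono A (le_max_right n m) ⟨y, hy⟩
    · exact range_mono A (le_max_left n m) (hn x hx)

theorem exists_root (g : (B A)[X]) (hm : g.Monic) (hd : 0 < g.natDegree) :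
    ∃ b : B A, g.eval b = 0 := by
  classical
  obtain ⟨n, hn⟩ := exists_stage A (g.coeffs)
  have hl : g ∈ Polynomial.lifts (ι A n) := by
    rw [Polynomial.lifts_iff_coeff_lifts]
    intro i
    by_cases hi : g.coeff i = 0
    · rw [hi]; exact ⟨0, map_zero _⟩
    · exact hn _ (Polynomial.coeff_mem_coeffs hi)
  obtain ⟨q, hq, hqd, hqm⟩ := Polynomial.lifts_and_natDegree_eq_and_monic hl hm
  obtain ⟨b, hb⟩ := step_root (seq A n) q hqm (by rw [hqd]; exact hd)
  refine ⟨ι A (n + 1) b, ?_⟩
  have h1 : ι A n = (ι A (n + 1)).comp (seqMap A n).hom := by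
    ext x
    have := ι_map A (homOfLE (Nat.le_add_right n 1)) x
    rw [tr_succ] at this
    exact this.symm
  rw [← hq, Polynomial.eval_map, h1, ← Polynomial.hom_eval₂]
  have : Polynomial.eval₂ (seqMap A n).hom b q = 0 := hb
  rw [this, map_zero]

theorem splits_of_monic : ∀ (d : ℕ) (g : (B A)[X]), g.Monic → g.natDegree = d →
    ∃ s : Multiset (B A), g = (s.map fun b => X - C b).prod := by
  intro d
  induction d with
  | zero =>
    intro g hm hd
    refine ⟨0, ?_⟩
    rw [Multiset.map_zero, Multiset.prod_zero]
    exact (Polynomial.Monic.natDegree_eq_zero hm).mp hd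
  | succ d ih =>
    intro g hm hd
    have hnt : Nontrivial (B A) := by
      by_contra h
      rw [not_nontrivial_iff_subsingleton] at h
      rw [Polynomial.natDegree_of_subsingleton] at hd
      omega
    obtain ⟨b, hb⟩ := exists_root A g hm (by omega)
    obtain ⟨q, hq⟩ : X - C b ∣ g := Polynomial.dvd_iff_isRoot.mpr hb
    have hqm : q.Monic := Polynomial.Monic.of_mul_monic_left (Polynomial.monic_X_sub_C b) (hq ▸ hm)
    have hqd : q.natDegree = d := by
      have := Polynomial.Monic.natDegree_mul (Polynomial.monic_X_sub_C b) hqm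
      rw [← hq, hd, Polynomial.natDegree_X_sub_C] at this
      omega
    obtain ⟨s, hs⟩ := ih q hqm hqd
    refine ⟨b ::ₘ s, ?_⟩
    rw [Multiset.map_cons, Multiset.prod_cons, ← hs, hq]

theorem main : ∃ (B : Type u) (_ : CommRing B) (_ : Algebra A B),
    Function.Injective (algebraMap A B) ∧
      ∀ f : B[X], f.Monic → ∃ s : Multiset B, f = (s.map fun b => X - C b).prod := by
  refine ⟨B A, inferInstance, RingHom.toAlgebra (ι A 0), ?_, ?_⟩
  · exact ι_injective A 0
  · intro f hf
    exact splits_of_monic A f.natDegree f hf rfl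

end Groth.Agent.Helper8.AbsIntClosed
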