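import Mathlib
import Groth.Prelude.Def_Grpd
import Groth.Prelude.Def_AlgGrp
import Groth.Agent.Helper2.HS2

/-!
# The action groupoid `(X, G × X, pr₂, act)` of a group scheme action
-/

set_option autoImplicit false
universe u

namespace Groth.Agent.Helper8.ActGrpd

open CategoryTheory CategoryTheory.Limits MonoidalCategory CartesianMonoidalCategory MonObj GrpObj
  AlgebraicGeometry
open Groth.Agent.Helper2.HS2

variable {S : Scheme.{u}} {G X : Over S} [GrpObj G] (a : AlgGrp.Action G X)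

/-- source -/
noncomputable abbrev sL : (G ⊗ X).left ⟶ X.left := (snd G X).left

/-- target -/
noncomputable abbrev tL : (G ⊗ X).left ⟶ X.left := a.act.left

omit [GrpObj G] in
lemma sL_hom : sL (G := G) (X := X) ≫ X.hom = (G ⊗ X).hom := Over.w (snd G X)

lemma tL_hom : tL a ≫ X.hom = (G ⊗ X).hom := Over.w a.act

lemma hom_eq {T : Scheme.{u}} {α β : T ⟶ (G ⊗ X).left} (h : α ≫ sL = β ≫ tL a) :
    β ≫ (G ⊗ X).hom = α ≫ (G ⊗ X).hom := by
  calc β ≫ (G ⊗ X).hom = (β ≫ tL a) ≫ X.hom := by rw [Category.assoc, tL_hom]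
    _ = (α ≫ sL) ≫ X.hom := by rw [h]
    _ = α ≫ (G ⊗ X).hom := by rw [Category.assoc, sL_hom]

lemma comp_act {T : Over S} (p : T ⟶ G ⊗ X) :
    p ≫ a.act = Groth.Agent.Helper2.HS2.smul a (p ≫ fst G X) (p ≫ snd G X) := by
  conv_lhs => rw [act_eq a, comp_smul]

/-- the pullback `R ×_{s,U,t} R` as an object over `S` -/
noncomputable abbrev PP : Over S :=
  Over.mk (pullback.fst (sL (G := G) (X := X)) (tL a) ≫ (G ⊗ X).hom)

noncomputable def p₁ : PP a ⟶ G ⊗ X := Over.homMk (pullback.fst _ _) rfl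

noncomputable def p₂ : PP a ⟶ G ⊗ X := Over.homMk (pullback.snd _ _) (hom_eq a pullback.condition)

/-- multiplication on `T`-points: `((g₁, x₁), (g₂, x₂)) ↦ (g₁ g₂, x₂)` -/
noncomputable def mulPt {T : Over S} (p q : T ⟶ G ⊗ X) : T ⟶ G ⊗ X :=
  lift ((p ≫ fst G X) * (q ≫ fst G X)) (q ≫ snd G X)

@[simp] lemma mulPt_fst {T : Over S} (p q : T ⟶ G ⊗ X) :
    mulPt p q ≫ fst G X = (p ≫ fst G X) * (q ≫ fst G X) := lift_fst _ _

@[simp] lemma mulPt_snd {T : Over S} (p q : T ⟶ G ⊗ X) :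
    mulPt p q ≫ snd G X = q ≫ snd G X := lift_snd _ _

lemma comp_mulPt {T T' : Over S} (f : T' ⟶ T) (p q : T ⟶ G ⊗ X) :
    f ≫ mulPt p q = mulPt (f ≫ p) (f ≫ q) := by
  unfold mulPt
  rw [comp_lift, MonObj.comp_mul, Category.assoc, Category.assoc, Category.assoc]

/-- composition -/
noncomputable def cc : PP a ⟶ G ⊗ X := mulPt (p₁ a) (p₂ a)

/-- identity -/
noncomputable def ee : X ⟶ G ⊗ X := lift (1 : X ⟶ G) (𝟙 X)

lemma key {T : Over S} (p q : T ⟶ G ⊗ X) (h : p.left ≫ sL = q.left ≫ tL a) :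
    pullback.lift p.left q.left h ≫ (cc a).left = (mulPt p q).left := by
  let ℓ : T ⟶ PP a := Over.homMk (pullback.lift p.left q.left h) (by
    show pullback.lift p.left q.left h ≫ pullback.fst _ _ ≫ (G ⊗ X).hom = T.hom
    rw [pullback.lift_fst_assoc, Over.w])
  have h1 : ℓ ≫ p₁ a = p := by
    apply Over.OverMorphism.ext
    exact pullback.lift_fst _ _ _
  have h2 : ℓ ≫ p₂ a = q := by
    apply Over.OverMorphism.ext
    exact pullback.lift_snd _ _ _
  have h3 : ℓ ≫ cc a = mulPt p q := by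
    rw [cc, comp_mulPt, h1, h2]
  exact congrArg (fun m => m.left) h3

lemma key' {T : Scheme.{u}} (m : T ⟶ S) (α β : T ⟶ (G ⊗ X).left) (hα : α ≫ (G ⊗ X).hom = m)
    (hβ : β ≫ (G ⊗ X).hom = m) (h : α ≫ sL = β ≫ tL a) :
    pullback.lift α β h ≫ (cc a).left =
      (mulPt (Over.homMk α hα : Over.mk m ⟶ G ⊗ X) (Over.homMk β hβ)).left :=
  key a (Over.homMk α hα : Over.mk m ⟶ G ⊗ X) (Over.homMk β hβ) h

lemma key'' {T : Over S} (p q : T ⟶ G ⊗ X) {α β : T.left ⟶ (G ⊗ X).left} (hα : p.left = α)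
    (hβ : q.left = β) (h : α ≫ sL = β ≫ tL a) :
    pullback.lift α β h ≫ (cc a).left = (mulPt p q).left := by
  subst hα hβ
  exact key a p q h

omit [GrpObj G] in
lemma lift_congr {T : Scheme.{u}} {α α' β β' : T ⟶ (G ⊗ X).left} {f g : (G ⊗ X).left ⟶ X.left}
    (h : α ≫ f = β ≫ g) (h' : α' ≫ f = β' ≫ g) (hα : α = α') (hβ : β = β') :
    pullback.lift α β h = pullback.lift α' β' h' := by
  subst hα hβ; rfl

omit [GrpObj G] in
lemma homMk_congr {T : Scheme.{u}} {m : T ⟶ S} {α α' : T ⟶ (G ⊗ X).left}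
    (hα : α ≫ (G ⊗ X).hom = m) (hα' : α' ≫ (G ⊗ X).hom = m) (h : α = α') :
    (Over.homMk α hα : Over.mk m ⟶ G ⊗ X) = Over.homMk α' hα' := by
  subst h; rfl

/-- the action groupoid -/
@[reducible] noncomputable def actGrpd : Grpd.GroupoidScheme S where
  U := X.left
  R := (G ⊗ X).left
  pU := X.hom
  pR := (G ⊗ X).hom
  s := sL
  t := tL a
  e := (ee (G := G) (X := X)).left
  i := (σ a).left
  c := (cc a).left
  s_over := sL_hom
  t_over := tL_hom a
  comp_s := by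
    intro T α β h
    rw [key' a (α ≫ (G ⊗ X).hom) α β rfl (hom_eq a h) h, ← Over.comp_left, mulPt_snd]
    rfl
  comp_t := by
    intro T α β h
    rw [key' a (α ≫ (G ⊗ X).hom) α β rfl (hom_eq a h) h, ← Over.comp_left]
    have hrel : (Over.homMk α rfl : Over.mk (α ≫ (G ⊗ X).hom) ⟶ G ⊗ X) ≫ snd G X =
        (Over.homMk β (hom_eq a h) : Over.mk (α ≫ (G ⊗ X).hom) ⟶ G ⊗ X) ≫ a.act := by
      apply Over.OverMorphism.ext
      exact h
    have : mulPt (Over.homMk α rfl : Over.mk (α ≫ (G ⊗ X).hom) ⟶ G ⊗ X)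
        (Over.homMk β (hom_eq a h)) ≫ a.act =
        (Over.homMk α rfl : Over.mk (α ≫ (G ⊗ X).hom) ⟶ G ⊗ X) ≫ a.act := by
      rw [comp_act, mulPt_fst, mulPt_snd, Groth.Agent.Helper2.HS2.mul_smul, ← comp_act, ← hrel, ← comp_act]
    rw [this]
    rfl
  assoc := by
    intro T α β p h₁ h₂
    have hβ := hom_eq a h₁
    have hp : p ≫ (G ⊗ X).hom = α ≫ (G ⊗ X).hom := (hom_eq a h₂).trans hβ
    obtain ⟨α', hα'⟩ : ∃ α' : Over.mk (α ≫ (G ⊗ X).hom) ⟶ G ⊗ X, α'.left = α :=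
      ⟨Over.homMk α rfl, rfl⟩
    obtain ⟨β', hβ'⟩ : ∃ β' : Over.mk (α ≫ (G ⊗ X).hom) ⟶ G ⊗ X, β'.left = β :=
      ⟨Over.homMk β hβ, rfl⟩
    obtain ⟨p', hp'⟩ : ∃ p' : Over.mk (α ≫ (G ⊗ X).hom) ⟶ G ⊗ X, p'.left = p :=
      ⟨Over.homMk p hp, rfl⟩
    have r1 : α' ≫ snd G X = β' ≫ a.act := by
      apply Over.OverMorphism.ext
      rw [Over.comp_left, Over.comp_left, hα', hβ']
      exact h₁
    have r2 : β' ≫ snd G X = p' ≫ a.act := by
      apply Over.OverMorphism.ext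
      rw [Over.comp_left, Over.comp_left, hβ', hp']
      exact h₂
    have k1 := key'' a α' β' hα' hβ' h₁
    have k2 := key'' a β' p' hβ' hp' h₂
    have hA : (mulPt α' β').left ≫ sL = p ≫ tL a := by
      rw [← hp', ← Over.comp_left, ← Over.comp_left, mulPt_snd, r2]
    have hB' : α'.left ≫ sL = (mulPt β' p').left ≫ tL a := by
      rw [← Over.comp_left, ← Over.comp_left, r1, comp_act a (mulPt β' p'), mulPt_fst,
        mulPt_snd, Groth.Agent.Helper2.HS2.mul_smul, ← comp_act, ← r2, ← comp_act]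
    have hB : α ≫ sL = (mulPt β' p').left ≫ tL a :=
      (congrArg (fun x => x ≫ sL) hα'.symm).trans hB'
    have e1 := key'' a (mulPt α' β') p' rfl hp' hA
    have e2 := key'' a α' (mulPt β' p') hα' rfl hB
    rw [lift_congr _ hA k1 rfl, e1, lift_congr _ hB rfl k2, e2]
    congr 1
    apply CartesianMonoidalCategory.hom_ext
    · rw [mulPt_fst, mulPt_fst, mulPt_fst, mulPt_fst, _root_.mul_assoc]
    · rw [mulPt_snd, mulPt_snd, mulPt_snd]
  e_s := by
    rw [← Over.comp_left, ee, lift_snd]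
    rfl
  e_t := by
    rw [← Over.comp_left, comp_act, ee, lift_fst, lift_snd, Groth.Agent.Helper2.HS2.one_smul]
    rfl
  comp_e := by
    intro T α
    have hε : (α ≫ sL ≫ (ee (G := G) (X := X)).left) ≫ (G ⊗ X).hom = α ≫ (G ⊗ X).hom := by
      rw [Category.assoc, Category.assoc, Over.w, sL_hom]
    refine (key' a (α ≫ (G ⊗ X).hom) α _ rfl hε _).trans ?_
    have e1 : (Over.homMk (α ≫ sL ≫ (ee (G := G) (X := X)).left) hε :
        Over.mk (α ≫ (G ⊗ X).hom) ⟶ G ⊗ X) =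
        ((Over.homMk α rfl : Over.mk (α ≫ (G ⊗ X).hom) ⟶ G ⊗ X) ≫ snd G X) ≫ ee := by
      apply Over.OverMorphism.ext
      simp
    have : mulPt (Over.homMk α rfl : Over.mk (α ≫ (G ⊗ X).hom) ⟶ G ⊗ X)
        (Over.homMk (α ≫ sL ≫ (ee (G := G) (X := X)).left) hε) = Over.homMk α rfl := by
      rw [e1]
      apply CartesianMonoidalCategory.hom_ext
      · rw [mulPt_fst, ee, Category.assoc, lift_fst, MonObj.comp_one, _root_.mul_one]
      · rw [mulPt_snd, ee, Category.assoc, lift_snd, Category.comp_id]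
    exact congrArg (fun m => m.left) this
  e_comp := by
    intro T α
    have hε : (α ≫ tL a ≫ (ee (G := G) (X := X)).left) ≫ (G ⊗ X).hom = α ≫ (G ⊗ X).hom := by
      rw [Category.assoc, Category.assoc, Over.w, tL_hom]
    refine (key' a (α ≫ (G ⊗ X).hom) _ α hε rfl _).trans ?_
    have e1 : (Over.homMk (α ≫ tL a ≫ (ee (G := G) (X := X)).left) hε :
        Over.mk (α ≫ (G ⊗ X).hom) ⟶ G ⊗ X) =
        ((Over.homMk α rfl : Over.mk (α ≫ (G ⊗ X).hom) ⟶ G ⊗ X) ≫ a.act) ≫ ee := by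
      apply Over.OverMorphism.ext
      simp
    have : mulPt (Over.homMk (α ≫ tL a ≫ (ee (G := G) (X := X)).left) hε)
        (Over.homMk α rfl : Over.mk (α ≫ (G ⊗ X).hom) ⟶ G ⊗ X) = Over.homMk α rfl := by
      rw [e1]
      apply CartesianMonoidalCategory.hom_ext
      · rw [mulPt_fst, ee, Category.assoc, lift_fst, MonObj.comp_one, _root_.one_mul]
      · rw [mulPt_snd]
    exact congrArg (fun m => m.left) this
  i_s := by
    rw [← Over.comp_left, σ_snd]
  i_t := by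
    rw [← Over.comp_left, σ_act]
  comp_i := by
    intro T α
    have hι : (α ≫ (σ a).left) ≫ (G ⊗ X).hom = α ≫ (G ⊗ X).hom := by
      rw [Category.assoc, Over.w]
    refine (key' a (α ≫ (G ⊗ X).hom) α _ rfl hι _).trans ?_
    have e1 : (Over.homMk (α ≫ (σ a).left) hι : Over.mk (α ≫ (G ⊗ X).hom) ⟶ G ⊗ X) =
        (Over.homMk α rfl : Over.mk (α ≫ (G ⊗ X).hom) ⟶ G ⊗ X) ≫ σ a := by
      apply Over.OverMorphism.ext
      simp
    have : mulPt (Over.homMk α rfl : Over.mk (α ≫ (G ⊗ X).hom) ⟶ G ⊗ X)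
        (Over.homMk (α ≫ (σ a).left) hι) =
        ((Over.homMk α rfl : Over.mk (α ≫ (G ⊗ X).hom) ⟶ G ⊗ X) ≫ a.act) ≫ ee := by
      rw [e1]
      apply CartesianMonoidalCategory.hom_ext
      · simp only [mulPt_fst, ee, Category.assoc, lift_fst, MonObj.comp_one, σ_fst,
          GrpObj.comp_inv, mul_inv_cancel]
      · simp only [mulPt_snd, ee, Category.assoc, lift_snd, Category.comp_id, σ_snd]
    refine (congrArg (fun m => m.left) this).trans ?_
    simp
  i_comp := by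
    intro T α
    have hι : (α ≫ (σ a).left) ≫ (G ⊗ X).hom = α ≫ (G ⊗ X).hom := by
      rw [Category.assoc, Over.w]
    refine (key' a (α ≫ (G ⊗ X).hom) _ α hι rfl _).trans ?_
    have e1 : (Over.homMk (α ≫ (σ a).left) hι : Over.mk (α ≫ (G ⊗ X).hom) ⟶ G ⊗ X) =
        (Over.homMk α rfl : Over.mk (α ≫ (G ⊗ X).hom) ⟶ G ⊗ X) ≫ σ a := by
      apply Over.OverMorphism.ext
      simp
    have : mulPt (Over.homMk (α ≫ (σ a).left) hι)
        (Over.homMk α rfl : Over.mk (α ≫ (G ⊗ X).hom) ⟶ G ⊗ X) =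
        ((Over.homMk α rfl : Over.mk (α ≫ (G ⊗ X).hom) ⟶ G ⊗ X) ≫ snd G X) ≫ ee := by
      rw [e1]
      apply CartesianMonoidalCategory.hom_ext
      · simp only [mulPt_fst, ee, Category.assoc, lift_fst, MonObj.comp_one, σ_fst,
          GrpObj.comp_inv, inv_mul_cancel]
      · simp only [mulPt_snd, ee, Category.assoc, lift_snd, Category.comp_id]
    refine (congrArg (fun m => m.left) this).trans ?_
    simp

end Groth.Agent.Helper8.ActGrpd
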