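import Mathlib
import Groth.Agent.Helper8.ActGrpd
import Groth.Agent.Helper8.GrpdGlueF
import Groth.Agent.Helper4.SymOrbA

/-!
# Quotients by free actions of finite locally free group schemes
-/

set_option autoImplicit false
universe u

namespace Groth.Agent.Helper8.ActQuot

open CategoryTheory CategoryTheory.Limits MonoidalCategory CartesianMonoidalCategory MonObj GrpObj
  AlgebraicGeometry
open Groth.Agent.Helper2.HS2 Groth.Agent.Helper8.ActGrpd Groth.Agent.Helper8.GrpdGlue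

variable {S : Scheme.{u}} {G X : Over S} [GrpObj G] (a : AlgGrp.Action G X)

theorem s_eq : (actGrpd a).s = pullback.snd G.hom X.hom := rfl

theorem isFinite_s (h : IsFinite G.hom) : IsFinite (actGrpd a).s :=
  MorphismProperty.pullback_snd (P := @IsFinite) _ _ h

theorem flat_s (h : Flat G.hom) : Flat (actGrpd a).s :=
  MorphismProperty.pullback_snd (P := @Flat) _ _ h

theorem lfp_s (h : LocallyOfFinitePresentation G.hom) :
    LocallyOfFinitePresentation (actGrpd a).s :=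
  MorphismProperty.pullback_snd (P := @LocallyOfFinitePresentation) _ _ h

omit [GrpObj G] in
theorem s_hom_apply (r : (G ⊗ X).left) : X.hom (sL r) = (G ⊗ X).hom r := by
  rw [← Scheme.Hom.comp_apply]
  exact congrArg (fun f : (G ⊗ X).left ⟶ S => f r) (sL_hom (G := G) (X := X))

theorem t_hom_apply (r : (G ⊗ X).left) : X.hom (tL a r) = (G ⊗ X).hom r := by
  rw [← Scheme.Hom.comp_apply]
  exact congrArg (fun f : (G ⊗ X).left ⟶ S => f r) (tL_hom a)

/-- freeness on `T`-points gives that `(t, s)` is a monomorphism -/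
theorem mono_j_of_free
    (hfree : ∀ (T : Over S) (g : T ⟶ G) (x : T ⟶ X), lift g x ≫ a.act = x → g = toUnit T ≫ η[G]) :
    Mono (actGrpd a).j := by
  constructor
  intro T α₀ β₀ hαβ
  obtain ⟨α, hα⟩ : ∃ α : T ⟶ (G ⊗ X).left, α = α₀ := ⟨α₀, rfl⟩
  obtain ⟨β, hβ₀⟩ : ∃ β : T ⟶ (G ⊗ X).left, β = β₀ := ⟨β₀, rfl⟩
  suffices α = β by rw [← hα, ← hβ₀]; exact this
  have ht : α ≫ tL a = β ≫ tL a := by
    have h1 : (actGrpd a).j ≫ pullback.fst (actGrpd a).pU (actGrpd a).pU = (actGrpd a).t :=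
      j_fst (actGrpd a)
    have h2 : (α₀ ≫ (actGrpd a).j) ≫ pullback.fst (actGrpd a).pU (actGrpd a).pU =
        (β₀ ≫ (actGrpd a).j) ≫ pullback.fst (actGrpd a).pU (actGrpd a).pU := by rw [hαβ]
    rw [hα, hβ₀]
    exact (congrArg (α₀ ≫ ·) h1).symm.trans ((Category.assoc _ _ _).symm.trans
      (h2.trans ((Category.assoc _ _ _).trans (congrArg (β₀ ≫ ·) h1))))
  have hs : α ≫ sL = β ≫ sL := by
    have h1 : (actGrpd a).j ≫ pullback.snd (actGrpd a).pU (actGrpd a).pU = (actGrpd a).s :=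
      j_snd (actGrpd a)
    have h2 : (α₀ ≫ (actGrpd a).j) ≫ pullback.snd (actGrpd a).pU (actGrpd a).pU =
        (β₀ ≫ (actGrpd a).j) ≫ pullback.snd (actGrpd a).pU (actGrpd a).pU := by rw [hαβ]
    rw [hα, hβ₀]
    exact (congrArg (α₀ ≫ ·) h1).symm.trans ((Category.assoc _ _ _).symm.trans
      (h2.trans ((Category.assoc _ _ _).trans (congrArg (β₀ ≫ ·) h1))))
  have hβ : β ≫ (G ⊗ X).hom = α ≫ (G ⊗ X).hom := by
    calc β ≫ (G ⊗ X).hom = (β ≫ sL) ≫ X.hom := by rw [Category.assoc, sL_hom]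
      _ = (α ≫ sL) ≫ X.hom := by rw [hs]
      _ = α ≫ (G ⊗ X).hom := by rw [Category.assoc, sL_hom]
  obtain ⟨α', hα'⟩ : ∃ α' : Over.mk (α ≫ (G ⊗ X).hom) ⟶ G ⊗ X, α'.left = α :=
    ⟨Over.homMk α rfl, rfl⟩
  obtain ⟨β', hβ'⟩ : ∃ β' : Over.mk (α ≫ (G ⊗ X).hom) ⟶ G ⊗ X, β'.left = β :=
    ⟨Over.homMk β hβ, rfl⟩
  have r1 : α' ≫ snd G X = β' ≫ snd G X := by
    apply Over.OverMorphism.ext
    rw [Over.comp_left, Over.comp_left, hα', hβ']
    exact hs
  have r2 : α' ≫ a.act = β' ≫ a.act := by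
    apply Over.OverMorphism.ext
    rw [Over.comp_left, Over.comp_left, hα', hβ']
    exact ht
  have r3 : Groth.Agent.Helper2.HS2.smul a (α' ≫ fst G X) (α' ≫ snd G X) =
      Groth.Agent.Helper2.HS2.smul a (β' ≫ fst G X) (α' ≫ snd G X) := by
    rw [← comp_act, r2, comp_act, r1]
  have r4 := smul_inv_mul_eq a _ _ _ _ r3
  have r5 := hfree _ _ _ r4
  have r6 : α' ≫ fst G X = β' ≫ fst G X := by
    have : (β' ≫ fst G X)⁻¹ * (α' ≫ fst G X) = 1 := r5
    rw [inv_mul_eq_one] at this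
    exact this.symm
  have : α' = β' := CartesianMonoidalCategory.hom_ext _ _ r6 r1
  rw [← hα', ← hβ', this]

section Haff

theorem haff_of_isAffineHom [IsAffineHom X.hom] (x : X.left) :
    ∃ V : X.left.Opens, IsAffineOpen V ∧
      (tL a).base '' ((sL (G := G) (X := X)).base ⁻¹' {x}) ⊆ (V : Set X.left) := by
  obtain ⟨_, ⟨(V₀ : S.Opens), hV₀, rfl⟩, hxV₀, -⟩ :=
    S.isBasis_affineOpens.exists_subset_of_mem_open (Set.mem_univ (X.hom x)) isOpen_univ
  refine ⟨X.hom ⁻¹ᵁ V₀, hV₀.preimage X.hom, ?_⟩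
  rintro _ ⟨r, hr, rfl⟩
  have hr' : sL (G := G) (X := X) r = x := hr
  show X.hom (tL a r) ∈ V₀
  rw [t_hom_apply, ← s_hom_apply, hr']
  exact hxV₀

theorem haff_of_isOpenImmersion [IsFinite (sL (G := G) (X := X))] {R : CommRingCat.{u}}
    (i : X.left ⟶ Spec R) [IsOpenImmersion i] (x : X.left) :
    ∃ V : X.left.Opens, IsAffineOpen V ∧
      (tL a).base '' ((sL (G := G) (X := X)).base ⁻¹' {x}) ⊆ (V : Set X.left) := by
  classical
  let O : Finset (Spec R) := ((sL (G := G) (X := X)).finite_preimage_singleton x).toFinset.image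
    (fun r => i (tL a r))
  obtain ⟨f, hf1, hf2⟩ := Groth.Agent.Helper4.SymOrbA.exists_basicOpen_le_of_finset
    (isAffineOpen_top (Spec R)) i.opensRange O (by
      intro y hy
      obtain ⟨r, -, rfl⟩ := Finset.mem_image.mp hy
      exact ⟨trivial, ⟨_, rfl⟩⟩)
  refine ⟨i ⁻¹ᵁ (Spec R).basicOpen f,
    ((isAffineOpen_top (Spec R)).basicOpen f).preimage_of_isOpenImmersion i hf1, ?_⟩
  rintro _ ⟨r, hr, rfl⟩
  apply hf2
  refine Finset.mem_image.mpr ⟨r, ?_, rfl⟩
  simpa using hr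

theorem haff_of_universallyInjective [UniversallyInjective G.hom] (x : X.left) :
    ∃ V : X.left.Opens, IsAffineOpen V ∧
      (tL a).base '' ((sL (G := G) (X := X)).base ⁻¹' {x}) ⊆ (V : Set X.left) := by
  haveI : UniversallyInjective (sL (G := G) (X := X)) :=
    MorphismProperty.pullback_snd (P := @UniversallyInjective) _ _ ‹_›
  obtain ⟨_, ⟨(V : X.left.Opens), hV, rfl⟩, hxV, -⟩ :=
    X.left.isBasis_affineOpens.exists_subset_of_mem_open (Set.mem_univ x) isOpen_univ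
  refine ⟨V, hV, ?_⟩
  rintro _ ⟨r, hr, rfl⟩
  have hr' : sL (G := G) (X := X) r = x := hr
  have h1 : sL (G := G) (X := X) ((ee (G := G) (X := X)).left x) = x := by
    rw [← Scheme.Hom.comp_apply]
    exact congrArg (fun f : X.left ⟶ X.left => f x) (actGrpd a).e_s
  have h2 : r = (ee (G := G) (X := X)).left x :=
    (sL (G := G) (X := X)).injective (hr'.trans h1.symm)
  have h3 : tL a ((ee (G := G) (X := X)).left x) = x := by
    rw [← Scheme.Hom.comp_apply]
    exact congrArg (fun f : X.left ⟶ X.left => f x) (actGrpd a).e_t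
  show tL a r ∈ V
  rw [h2, h3]
  exact hxV

end Haff

end Groth.Agent.Helper8.ActQuot
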