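import Groth.Agent.Helper8.AdeqO
import Groth.Agent.Helper4.AdeqFree

universe w v u' u

open CategoryTheory Opposite Limits TensorProduct

namespace Groth.Agent.Helper8.AdeqP

open Adeq AdeqA AdeqE AdeqF AdeqG AdeqH AdeqI AdeqJ AdeqN AdeqO

/-- a full subcategory of a well-powered category whose inclusion preserves monomorphisms is
well-powered -/
theorem wellPowered_fullSubcategory {C : Type u'} [Category.{v} C] (P : ObjectProperty C)
    [LocallySmall.{w} C] [WellPowered.{w} C] [LocallySmall.{w} P.FullSubcategory]
    [P.ι.PreservesMonomorphisms] :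
    WellPowered.{w} P.FullSubcategory where
  subobject_small X := by
    let F : Subobject X → Subobject (P.ι.obj X) :=
      Subobject.lift (fun A f _ => Subobject.mk (P.ι.map f)) (by
        intro A B f g _ _ i hi
        apply Subobject.mk_eq_mk_of_comm _ _ (P.ι.mapIso i)
        rw [← hi]
        simp)
    apply small_of_injective (f := F)
    intro a b hab
    induction a using Subobject.ind with | _ f =>
    induction b using Subobject.ind with | _ g =>
    simp only [F, Subobject.lift_mk] at hab
    let e := Subobject.isoOfMkEqMk _ _ hab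
    have he : e.hom ≫ P.ι.map g = P.ι.map f := by
      simp only [e, Subobject.isoOfMkEqMk_hom, Subobject.ofMkLEMk_comp]
    apply Subobject.mk_eq_mk_of_comm _ _ (P.fullyFaithfulι.preimageIso e)
    apply P.ι.map_injective
    rw [Functor.map_comp]
    simpa using he

variable {A : Type u} [CommRing A]

lemma adequate_biprod (X Y : MVF A) (hX : adequate A X) (hY : adequate A Y) :
    adequate A (X ⊞ Y) :=
  adequate_ext _ (ShortComplex.Splitting.ofHasBinaryBiproduct X Y).shortExact hX hY

instance containsZero : (adequate A).ContainsZero where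
  exists_zero := ⟨kernel (𝟙 ((underline A).obj (ModuleCat.of A PUnit.{u+2}))),
    isZero_kernel_of_mono _, adequate_kernel _ (adequate_underline _) (adequate_underline _)⟩

instance closedKernels : (adequate A).IsClosedUnderKernels where
  kernels_le := by
    rintro _ ⟨f, k, hk, hX, hY⟩
    exact (adequate A).prop_of_iso (IsLimit.conePointUniqueUpToIso (kernelIsKernel f) hk)
      (adequate_kernel f hX hY)

instance closedCokernels : (adequate A).IsClosedUnderCokernels where
  cokernels_le := by
    rintro _ ⟨f, k, hk, hX, hY⟩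
    exact (adequate A).prop_of_iso
      (IsColimit.coconePointUniqueUpToIso (cokernelIsCokernel f) hk)
      (adequate_cokernel f hX hY)

instance closedBinaryProducts : (adequate A).IsClosedUnderBinaryProducts where
  limitsOfShape_le := by
    rintro X ⟨p⟩
    have h1 := p.prop_diag_obj ⟨WalkingPair.left⟩
    have h2 := p.prop_diag_obj ⟨WalkingPair.right⟩
    let e1 : X ≅ limit p.diag := IsLimit.conePointUniqueUpToIso p.isLimit (limit.isLimit _)
    let e2 : limit p.diag ≅ (p.diag.obj ⟨WalkingPair.left⟩) ⨯ (p.diag.obj ⟨WalkingPair.right⟩) :=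
      HasLimit.isoOfNatIso (diagramIsoPair p.diag)
    let e3 := biprod.isoProd (p.diag.obj ⟨WalkingPair.left⟩) (p.diag.obj ⟨WalkingPair.right⟩)
    exact (adequate A).prop_of_iso (e3 ≪≫ e2.symm ≪≫ e1.symm) (adequate_biprod _ _ h1 h2)

instance closedFiniteProducts : (adequate A).IsClosedUnderFiniteProducts :=
  ObjectProperty.IsClosedUnderFiniteProducts.mk'

instance closedColimits (J : Type (u+1)) [SmallCategory J] :
    (adequate A).IsClosedUnderColimitsOfShape J where
  colimitsOfShape_le := by
    rintro X ⟨p⟩
    exact (adequate A).prop_of_iso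
      (IsColimit.coconePointUniqueUpToIso (colimit.isColimit p.diag) p.isColimit)
      (adequate_colimit p.diag p.prop_diag_obj)

/-- the category of adequate functors is abelian (Mathlib's instance for full subcategories) -/
noncomputable instance abelianAdequate : Abelian (Adequate A) := inferInstance

/-- `MVF A` is a Grothendieck abelian category (argument of helper4, S8754) -/
theorem isGrothendieckAbelian_MVF : IsGrothendieckAbelian.{u + 1} (MVF A) := by
  classical
  have hsep : ObjectProperty.IsSeparating
      (ObjectProperty.ofObj (fun D : Adeq.Alg A => Groth.Agent.Helper4.AdeqFree.freeMVF D)) := by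
    intro M N f₁ f₂ h
    apply PresheafOfModules.hom_ext
    intro X
    apply ModuleCat.hom_ext
    apply LinearMap.ext
    intro x
    have hx := h _ ⟨X.unop.unop⟩ (Groth.Agent.Helper4.AdeqFree.yon M (D := X.unop.unop) x)
    have h2 := congrArg (fun φ : Groth.Agent.Helper4.AdeqFree.freeMVF X.unop.unop ⟶ N =>
      φ.app (Adeq.pt X.unop.unop)
        (Finsupp.single (ULift.up (𝟙 X.unop.unop)) 1 :
          Groth.Agent.Helper4.AdeqFree.Car X.unop.unop X.unop.unop)) hx
    simp only [PresheafOfModules.comp_app] at h2
    have h3 : (Groth.Agent.Helper4.AdeqFree.yon M (D := X.unop.unop) x).app (Adeq.pt X.unop.unop)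
        (Finsupp.single (ULift.up (𝟙 X.unop.unop)) 1 :
          Groth.Agent.Helper4.AdeqFree.Car X.unop.unop X.unop.unop) = x := by
      rw [Groth.Agent.Helper4.AdeqFree.yon_app, Groth.Agent.Helper4.AdeqFree.lc_single, one_smul]
      exact Groth.Agent.Helper4.AdeqFree.mp_id M x
    change f₁.app X ((Groth.Agent.Helper4.AdeqFree.yon M (D := X.unop.unop) x).app _ _) =
      f₂.app X ((Groth.Agent.Helper4.AdeqFree.yon M (D := X.unop.unop) x).app _ _) at h2
    rw [h3] at h2
    exact h2
  haveI : HasSeparator (Adeq.MVF A) :=
    ⟨⟨∐ (fun D : Adeq.Alg A => Groth.Agent.Helper4.AdeqFree.freeMVF D), hsep.isSeparator_coproduct⟩⟩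
  haveI : AB5OfSize.{u + 1, u + 1} (Adeq.MVF A) :=
    ⟨fun J _ _ => HasExactColimitsOfShape.domain_of_functor J
      (PresheafOfModules.toPresheaf.{u + 1} (Adeq.ringOf A))⟩
  exact {}

instance wellPowered_MVF : WellPowered.{u + 1} (MVF A) := by
  haveI := isGrothendieckAbelian_MVF (A := A)
  infer_instance

instance preservesMono_ι : (adequate A).ι.PreservesMonomorphisms :=
  (adequate A).preservesMonomorphisms_ι_of_isNormalEpiCategory

instance wellPowered_adequate : WellPowered.{u + 1} (Adequate A) :=
  wellPowered_fullSubcategory _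

/-- the linearly adequate functors given by matrices -/
noncomputable def sepFam (i : Σ n k : ℕ, Fin n → Fin k → A) : Adequate A :=
  ⟨kernel ((underline A).map (matMap i.2.2)), ⟨_, _, matMap i.2.2, ⟨Iso.refl _⟩⟩⟩

theorem hom_eq_of_family {X Y : MVF A} (hX : adequate A X) (f g : X ⟶ Y)
    (h : ∀ (n k : ℕ) (a : Fin n → Fin k → A) (t : kernel ((underline A).map (matMap a)) ⟶ X),
      t ≫ f = t ≫ g) : f = g := by
  apply PresheafOfModules.hom_ext
  intro B
  apply ModuleCat.hom_ext
  apply LinearMap.ext
  intro x
  obtain ⟨I, n, k, a, lam, hlam⟩ := exists_family X hX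
  obtain ⟨i, l, rfl⟩ := hlam B x
  have h1 := h (n i) (k i) (a i) (lam i)
  have h2 := app_congr h1 B l
  simpa only [PresheafOfModules.comp_app, ModuleCat.comp_apply] using h2

theorem isSeparating : (ObjectProperty.ofObj (sepFam (A := A))).IsSeparating := by
  intro X Y f g h
  have h1 := fun (i : Σ n k : ℕ, Fin n → Fin k → A) =>
    h (sepFam i) (ObjectProperty.ofObj_apply sepFam i)
  apply ObjectProperty.hom_ext
  apply hom_eq_of_family X.property
  intro n k a t
  exact congrArg (fun t => t.hom) (h1 ⟨n, k, a⟩ (ObjectProperty.homMk t))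

/-- the inclusion of adequate functors has a right adjoint -/
theorem isLeftAdjoint_ι : (adequate A).ι.IsLeftAdjoint := by
  haveI : HasColimitsOfSize.{u + 1, u + 1} (Adequate A) := ⟨fun J _ => inferInstance⟩
  haveI : PreservesColimitsOfSize.{u + 1, u + 1} (adequate A).ι := ⟨fun {J} _ => inferInstance⟩
  exact isLeftAdjoint_of_preservesColimits_of_isSeparating isSeparating _

end Groth.Agent.Helper8.AdeqP
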