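import Groth.Prelude.Def_Adeq2
import Mathlib
import Groth.Agent.Helper8.AdeqP

universe u

open CategoryTheory CategoryTheory.Limits AlgebraicGeometry Opposite TensorProduct

namespace Groth.Agent.Helper8.Adeq2A

open Adeq

variable (K : Precoverage Scheme.{u}) {S T : Scheme.{u}} [BigSite.OSh K]

section Restr

variable {R R' : CommRingCat.{u}} (g : R ⟶ R') (a : Spec R ⟶ S)

/-- the objects `Spec B' → Spec R' → Spec R → S` computed in two ways -/
noncomputable def restrIso (B' : Alg R') :
    letI : Algebra R R' := g.hom.toAlgebra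
    (specOver (Spec.map g ≫ a)).obj (op B') ≅
      (specOver a).obj (op ((Alg.restr R R').obj B')) :=
  letI : Algebra R R' := g.hom.toAlgebra
  Over.isoMk (show ((specOver (Spec.map g ≫ a)).obj (op B')).left ≅
      ((specOver a).obj (op ((Alg.restr R R').obj B'))).left from
        Iso.refl (Spec (CommRingCat.of ↑B'))) (by
    have h : CommRingCat.ofHom (algebraMap R ((Alg.restr R R').obj B')) =
        g ≫ CommRingCat.ofHom (algebraMap R' B') := rfl
    change 𝟙 _ ≫ Spec.map (CommRingCat.ofHom (algebraMap R ((Alg.restr R R').obj B'))) ≫ a =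
      Spec.map (CommRingCat.ofHom (algebraMap R' B')) ≫ Spec.map g ≫ a
    rw [Category.id_comp, h, Spec.map_comp, Category.assoc])

/-- the natural isomorphism of functors to `Over S` -/
noncomputable def restrNatIso :
    letI : Algebra R R' := g.hom.toAlgebra
    specOver (Spec.map g ≫ a) ≅ (Alg.restr R R').op ⋙ specOver a :=
  letI : Algebra R R' := g.hom.toAlgebra
  NatIso.ofComponents (fun B => restrIso g a B.unop) (by
    intro B B' φ
    apply Over.OverMorphism.ext
    have h : ((Alg.restr R R').map φ.unop).hom.toRingHom = φ.unop.hom.toRingHom := rfl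
    change Spec.map (CommRingCat.ofHom φ.unop.hom.toRingHom) ≫ 𝟙 _ =
      𝟙 _ ≫ Spec.map (CommRingCat.ofHom ((Alg.restr R R').map φ.unop).hom.toRingHom)
    rw [Category.comp_id, Category.id_comp, h])

variable (P : PresheafOfModules.{u + 1} (BigSite.ORing K S).obj)

/-- the comparison map on underlying presheaves -/
noncomputable def restrPre :
    letI : Algebra R R' := g.hom.toAlgebra
    sectAb K (Spec.map g ≫ a) P ⟶ (Alg.restr R R').op.op ⋙ sectAb K a P :=
  letI : Algebra R R' := g.hom.toAlgebra
  (Functor.isoWhiskerRight (NatIso.op (restrNatIso g a))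
    ((PresheafOfModules.toPresheaf (BigSite.ORing K S).obj).obj P)).inv

/-- `F_{P,R'}` maps to the restriction of `F_{P,R}` -/
noncomputable def restrHom :
    letI : Algebra R R' := g.hom.toAlgebra
    (toMVFPre K (Spec.map g ≫ a)).obj P ⟶ (restr R R').obj ((toMVFPre K a).obj P) :=
  letI : Algebra R R' := g.hom.toAlgebra
  PresheafOfModules.homMk (restrPre K g a P) (by
    intro X r m
    have h1 := P.map_smul ((restrNatIso g a).inv.app X.unop).op
      (toSect K (Spec.map g ≫ a) X.unop.unop r) m
    refine h1.trans ?_
    congr 1)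

instance : letI : Algebra R R' := g.hom.toAlgebra; IsIso (restrPre K g a P) := by
  unfold restrPre
  infer_instance

lemma restrHom_bijective (X : (Alg R')ᵒᵖᵒᵖ) :
    Function.Bijective ((restrHom K g a P).app X) := by
  letI : Algebra R R' := g.hom.toAlgebra
  exact ConcreteCategory.bijective_of_isIso ((restrPre K g a P).app X)

instance : letI : Algebra R R' := g.hom.toAlgebra; IsIso (restrHom K g a P) := by
  letI : Algebra R R' := g.hom.toAlgebra
  haveI : Mono (restrHom K g a P) :=
    PresheafOfModules.mono_of_injective (fun X => (restrHom_bijective K g a P X).1)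
  haveI : Epi (restrHom K g a P) :=
    PresheafOfModules.epi_of_surjective (fun X => (restrHom_bijective K g a P X).2)
  exact isIso_of_mono_of_epi _

/-- `F_{P, R'}` is the restriction of `F_{P,R}`, hence adequate if the latter is -/
theorem adequate_of_restr (hP : adequate R ((toMVFPre K a).obj P)) :
    adequate R' ((toMVFPre K (Spec.map g ≫ a)).obj P) := by
  letI : Algebra R R' := g.hom.toAlgebra
  exact (adequate R').prop_of_iso (asIso (restrHom K g a P)).symm
    (Groth.Agent.Helper8.AdeqB.adequate_restr _ hP)

/-- variant: any morphism of affine schemes over `S` -/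
theorem adequate_of_factor (a' : Spec R' ⟶ S) (h : Spec R' ⟶ Spec R) (hh : h ≫ a = a')
    (hP : adequate R ((toMVFPre K a).obj P)) :
    adequate R' ((toMVFPre K a').obj P) := by
  have h1 : a' = Spec.map (Spec.preimage h) ≫ a := by rw [Spec.map_preimage, hh]
  rw [h1]
  exact adequate_of_restr K _ a P hP

end Restr

section Pull

variable {R : CommRingCat.{u}} (b : Spec R ⟶ T) (f : T ⟶ S)

noncomputable def pullIso (B : Alg R) :
    (Over.map f).obj ((specOver b).obj (op B)) ≅ (specOver (b ≫ f)).obj (op B) :=
  Over.isoMk (show ((Over.map f).obj ((specOver b).obj (op B))).left ≅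
      ((specOver (b ≫ f)).obj (op B)).left from Iso.refl (Spec (CommRingCat.of ↑B))) (by
    change 𝟙 _ ≫ Spec.map (CommRingCat.ofHom (algebraMap R B)) ≫ b ≫ f =
      (Spec.map (CommRingCat.ofHom (algebraMap R B)) ≫ b) ≫ f
    rw [Category.id_comp, Category.assoc])

noncomputable def pullNatIso : specOver b ⋙ Over.map f ≅ specOver (b ≫ f) :=
  NatIso.ofComponents (fun B => pullIso b f B.unop) (by
    intro B B' φ
    apply Over.OverMorphism.ext
    change Spec.map (CommRingCat.ofHom φ.unop.hom.toRingHom) ≫ 𝟙 _ =
      𝟙 _ ≫ Spec.map (CommRingCat.ofHom φ.unop.hom.toRingHom)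
    rw [Category.comp_id, Category.id_comp])

variable (M : BigSite.Mod K S)

/-- the comparison map on underlying presheaves -/
noncomputable def pullPre :
    sectAb K (b ≫ f) M.val ⟶ sectAb K b ((BigSite.pullMod K f).obj M).val :=
  (Functor.isoWhiskerRight (NatIso.op (pullNatIso b f))
    ((PresheafOfModules.toPresheaf (BigSite.ORing K S).obj).obj M.val)).hom

noncomputable def pullHom :
    (toMVF K (b ≫ f)).obj M ⟶ (toMVF K b).obj ((BigSite.pullMod K f).obj M) :=
  PresheafOfModules.homMk (pullPre K b f M) (by
    intro X r m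
    have h1 := M.val.map_smul ((pullNatIso b f).hom.app X.unop).op
      (toSect K (b ≫ f) X.unop.unop r) m
    refine h1.trans ?_
    congr 1)

instance : IsIso (pullPre K b f M) := by
  unfold pullPre
  infer_instance

lemma pullHom_bijective (X : (Alg R)ᵒᵖᵒᵖ) :
    Function.Bijective ((pullHom K b f M).app X) :=
  ConcreteCategory.bijective_of_isIso ((pullPre K b f M).app X)

instance : IsIso (pullHom K b f M) := by
  haveI : Mono (pullHom K b f M) :=
    PresheafOfModules.mono_of_injective (fun X => (pullHom_bijective K b f M X).1)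
  haveI : Epi (pullHom K b f M) :=
    PresheafOfModules.epi_of_surjective (fun X => (pullHom_bijective K b f M X).2)
  exact isIso_of_mono_of_epi _

theorem adequate_pull_iff :
    adequate R ((toMVF K b).obj ((BigSite.pullMod K f).obj M)) ↔
      adequate R ((toMVF K (b ≫ f)).obj M) :=
  ⟨fun h => (adequate R).prop_of_iso (asIso (pullHom K b f M)).symm h,
    fun h => (adequate R).prop_of_iso (asIso (pullHom K b f M)) h⟩

end Pull

section Cover

/-- every scheme has a cover by spectra of rings, by open immersions -/
theorem exists_affine_cover (X : Scheme.{u}) :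
    ∃ (I : Type u) (A : I → CommRingCat.{u}) (c : ∀ i, Spec (A i) ⟶ X),
      (∀ i, IsOpenImmersion (c i)) ∧ ∀ x : X, ∃ i, x ∈ Set.range (c i) := by
  refine ⟨X.affineCover.I₀, fun i => Γ(X.affineCover.X i, ⊤),
    fun i => (X.affineCover.X i).isoSpec.inv ≫ X.affineCover.f i, fun i => inferInstance, ?_⟩
  intro x
  obtain ⟨i, y, hy⟩ := X.affineCover.exists_eq x
  refine ⟨i, (X.affineCover.X i).isoSpec.hom y, ?_⟩
  rw [← hy]
  simp [← Scheme.Hom.comp_apply]

end Cover

end Groth.Agent.Helper8.Adeq2A
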