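import Groth.Agent.Helper8.Adeq2A

universe w v u

open CategoryTheory CategoryTheory.Limits AlgebraicGeometry Opposite TensorProduct

namespace Groth.Agent.Helper8.Adeq2B

open Adeq Adeq2A

theorem exact_app' {C : Type*} [Category C] {R : Cᵒᵖ ⥤ RingCat.{w}}
    {F G H : PresheafOfModules.{v} R} (f : F ⟶ G) (g : G ⟶ H) (w : f ≫ g = 0)
    (hS : (ShortComplex.mk f g w).Exact) (X : Cᵒᵖ) (x : G.obj X) (hx : g.app X x = 0) :
    ∃ y, f.app X y = x := by
  have hS' := hS.map (PresheafOfModules.evaluation.{v} R X)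
  rw [ShortComplex.moduleCat_exact_iff] at hS'
  exact hS' x hx

variable (K : Precoverage Scheme.{u}) {S T : Scheme.{u}} [BigSite.OSh K]

section Kernel

variable {R : CommRingCat.{u}} (e : Spec R ⟶ S) {M N : BigSite.Mod K S} (φ : M ⟶ N)

theorem toMVF_kernel :
    Nonempty ((toMVF K e).obj (kernel φ) ≅ kernel ((toMVF K e).map φ)) := by
  apply AdeqJ.iso_kernel_of_pointwise ((toMVF K e).map (kernel.ι φ)) ((toMVF K e).map φ)
  · intro X
    haveI : Mono ((SheafOfModules.forget _).map (kernel.ι φ)) := inferInstance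
    exact PresheafOfModules.injective_of_mono ((SheafOfModules.forget _).map (kernel.ι φ))
      (op ((specOver e).obj (op X.unop.unop)))
  · intro X y
    constructor
    · intro hy
      have hS : (ShortComplex.mk (kernel.ι φ) φ (kernel.condition φ)).Exact :=
        ShortComplex.exact_of_f_is_kernel _ (kernelIsKernel _)
      have hS' := hS.map_of_mono_of_preservesKernel (SheafOfModules.forget _) inferInstance
        inferInstance
      exact exact_app' _ _ _ hS' (op ((specOver e).obj (op X.unop.unop))) y hy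
    · rintro ⟨x, rfl⟩
      have h1 : (toMVF K e).map (kernel.ι φ) ≫ (toMVF K e).map φ = 0 := by
        rw [← Functor.map_comp, kernel.condition, Functor.map_zero]
      have h2 := congrArg (fun t => t.app X x) h1
      simpa only [PresheafOfModules.comp_app, ModuleCat.comp_apply, PresheafOfModules.zero_app,
        ModuleCat.hom_zero, LinearMap.zero_apply] using h2

end Kernel

section Fppf

abbrev Pfppf : MorphismProperty Scheme.{u} := @Flat ⊓ @LocallyOfFinitePresentation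

lemma mem_fppf_iff {S : Scheme.{u}} {ι : Type*} {X : ι → Scheme.{u}} {f : ∀ i, X i ⟶ S} :
    Presieve.ofArrows X f ∈ Scheme.fppfPrecoverage.coverings S ↔
      (∀ x, ∃ i, x ∈ Set.range (f i)) ∧ ∀ i, Pfppf (f i) :=
  Scheme.ofArrows_mem_precoverage_iff (P := Pfppf)

theorem adequateMod_of_cover (S : Scheme.{u}) (M : BigSite.Mod Scheme.fppfPrecoverage S)
    (ι : Type u) (T : ι → Scheme.{u}) (f : ∀ i, T i ⟶ S)
    (hcov : Presieve.ofArrows T f ∈ Scheme.fppfPrecoverage.coverings S)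
    (h : ∀ i, adequateMod Scheme.fppfPrecoverage (T i)
      ((BigSite.pullMod Scheme.fppfPrecoverage (f i)).obj M)) :
    adequateMod Scheme.fppfPrecoverage S M := by
  choose J R a hcovi hadi using h
  rw [mem_fppf_iff] at hcov
  refine ⟨Σ i, J i, fun p => R p.1 p.2, fun p => a p.1 p.2 ≫ f p.1, ?_, ?_⟩
  · rw [mem_fppf_iff]
    refine ⟨fun x => ?_, fun p => ?_⟩
    · obtain ⟨i, y, hy⟩ := hcov.1 x
      obtain ⟨j, z, hz⟩ := ((mem_fppf_iff.1 (hcovi i)).1 y)
      refine ⟨⟨i, j⟩, z, ?_⟩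
      rw [Scheme.Hom.comp_apply, hz, hy]
    · exact Pfppf.comp_mem _ _ ((mem_fppf_iff.1 (hcovi p.1)).2 p.2) (hcov.2 p.1)
  · intro p
    exact (adequate_pull_iff _ _ _ _).1 (hadi p.1 p.2)

theorem adequateMod_pullMod {S T : Scheme.{u}} (f : T ⟶ S)
    (M : BigSite.Mod Scheme.fppfPrecoverage S)
    (hM : adequateMod Scheme.fppfPrecoverage S M) :
    adequateMod Scheme.fppfPrecoverage T ((BigSite.pullMod Scheme.fppfPrecoverage f).obj M) := by
  obtain ⟨ι, R, a, hcov, had⟩ := hM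
  rw [mem_fppf_iff] at hcov
  choose I A c hc hcs using fun i => exists_affine_cover (pullback f (a i))
  refine ⟨Σ i, I i, fun p => A p.1 p.2, fun p => c p.1 p.2 ≫ pullback.fst f (a p.1), ?_, ?_⟩
  · rw [mem_fppf_iff]
    refine ⟨fun t => ?_, fun p => ?_⟩
    · obtain ⟨i, y, hy⟩ := hcov.1 (f t)
      obtain ⟨z, hz1, hz2⟩ := Scheme.Pullback.exists_preimage_pullback t y hy.symm
      obtain ⟨j, w, hw⟩ := hcs i z
      exact ⟨⟨i, j⟩, w, by rw [Scheme.Hom.comp_apply, hw, hz1]⟩
    · have h1 : Pfppf (pullback.fst f (a p.1)) := Pfppf.pullback_fst _ _ (hcov.2 p.1)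
      haveI := hc p.1 p.2
      have h2 : Pfppf (c p.1 p.2) := ⟨inferInstance, inferInstance⟩
      exact Pfppf.comp_mem _ _ h2 h1
  · intro p
    rw [adequate_pull_iff]
    have h3 : (c p.1 p.2 ≫ pullback.snd f (a p.1)) ≫ a p.1 =
        (c p.1 p.2 ≫ pullback.fst f (a p.1)) ≫ f := by
      rw [Category.assoc, Category.assoc, pullback.condition]
    exact adequate_of_factor _ (a p.1) M.val _ (c p.1 p.2 ≫ pullback.snd f (a p.1)) h3 (had p.1)

theorem adequateMod_kernel (S : Scheme.{u}) {M N : BigSite.Mod Scheme.fppfPrecoverage S}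
    (φ : M ⟶ N) (hM : adequateMod Scheme.fppfPrecoverage S M)
    (hN : adequateMod Scheme.fppfPrecoverage S N) :
    adequateMod Scheme.fppfPrecoverage S (kernel φ) := by
  obtain ⟨ι, R, a, hcov, had⟩ := hM
  obtain ⟨ι', R', a', hcov', had'⟩ := hN
  rw [mem_fppf_iff] at hcov hcov'
  choose I A c hc hcs using
    fun p : ι × ι' => exists_affine_cover (pullback (a p.1) (a' p.2))
  refine ⟨Σ p : ι × ι', I p, fun q => A q.1 q.2,
    fun q => c q.1 q.2 ≫ pullback.fst (a q.1.1) (a' q.1.2) ≫ a q.1.1, ?_, ?_⟩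
  · rw [mem_fppf_iff]
    refine ⟨fun s => ?_, fun q => ?_⟩
    · obtain ⟨i, y, hy⟩ := hcov.1 s
      obtain ⟨j, y', hy'⟩ := hcov'.1 s
      obtain ⟨z, hz1, hz2⟩ :=
        Scheme.Pullback.exists_preimage_pullback y y' (hy.trans hy'.symm)
      obtain ⟨l, w, hw⟩ := hcs (i, j) z
      exact ⟨⟨(i, j), l⟩, w, by
        rw [Scheme.Hom.comp_apply, Scheme.Hom.comp_apply, hw, hz1, hy]⟩
    · have h1 : Pfppf (pullback.fst (a q.1.1) (a' q.1.2)) :=
        Pfppf.pullback_fst _ _ (hcov'.2 q.1.2)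
      haveI := hc q.1 q.2
      have h2 : Pfppf (c q.1 q.2) := ⟨inferInstance, inferInstance⟩
      exact Pfppf.comp_mem _ _ h2 (Pfppf.comp_mem _ _ h1 (hcov.2 q.1.1))
  · intro q
    obtain ⟨e⟩ := toMVF_kernel Scheme.fppfPrecoverage
      (c q.1 q.2 ≫ pullback.fst (a q.1.1) (a' q.1.2) ≫ a q.1.1) φ
    have hMq : adequate (A q.1 q.2) ((toMVF Scheme.fppfPrecoverage
        (c q.1 q.2 ≫ pullback.fst (a q.1.1) (a' q.1.2) ≫ a q.1.1)).obj M) :=
      adequate_of_factor _ (a q.1.1) M.val _ (c q.1 q.2 ≫ pullback.fst (a q.1.1) (a' q.1.2))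
        (Category.assoc _ _ _) (had q.1.1)
    have hNq : adequate (A q.1 q.2) ((toMVF Scheme.fppfPrecoverage
        (c q.1 q.2 ≫ pullback.fst (a q.1.1) (a' q.1.2) ≫ a q.1.1)).obj N) :=
      adequate_of_factor _ (a' q.1.2) N.val _ (c q.1 q.2 ≫ pullback.snd (a q.1.1) (a' q.1.2))
        (by rw [Category.assoc, ← pullback.condition]) (had' q.1.2)
    exact (adequate _).prop_of_iso e.symm (AdeqH.adequate_kernel _ hMq hNq)

end Fppf

end Groth.Agent.Helper8.Adeq2B
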