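import Groth.Agent.Helper8.Adeq2B

universe u

open CategoryTheory CategoryTheory.Limits AlgebraicGeometry Opposite TensorProduct

namespace Groth.Agent.Helper8.Adeq2C

open Adeq Adeq2A Adeq2B

variable (K : Precoverage Scheme.{u}) (S : Scheme.{u}) [BigSite.OSh K]

lemma toSheaf_preservesColimitsOfShape (L : Type) [SmallCategory L] [FinCategory L] :
    PreservesColimitsOfShape L (SheafOfModules.toSheaf.{u+1} (BigSite.ORing K S)) := by
  constructor
  intro D
  let Sf := PresheafOfModules.sheafification.{u+1} (𝟙 (BigSite.ORing K S).obj)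
  let e' : D ≅ (D ⋙ SheafOfModules.forget (BigSite.ORing K S)) ⋙ Sf :=
    Functor.isoWhiskerLeft D
      (asIso (PresheafOfModules.sheafificationAdjunction (𝟙 (BigSite.ORing K S).obj)).counit).symm
  have h0 : PreservesColimit ((D ⋙ SheafOfModules.forget (BigSite.ORing K S)) ⋙ Sf)
      (SheafOfModules.toSheaf.{u+1} (BigSite.ORing K S)) := by
    have h1 : PreservesColimit (D ⋙ SheafOfModules.forget (BigSite.ORing K S))
        (Sf ⋙ SheafOfModules.toSheaf.{u+1} (BigSite.ORing K S)) :=
      (inferInstance : PreservesColimit (D ⋙ SheafOfModules.forget (BigSite.ORing K S))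
        (PresheafOfModules.toPresheaf (BigSite.ORing K S).obj ⋙
          presheafToSheaf (QuotSh.J K S) AddCommGrpCat.{u+1}))
    let c := colimit.cocone (D ⋙ SheafOfModules.forget (BigSite.ORing K S))
    have hc : IsColimit c := colimit.isColimit _
    have hSc : IsColimit (Sf.mapCocone c) := isColimitOfPreserves Sf hc
    refine preservesColimit_of_preserves_colimit_cocone hSc ?_
    exact IsColimit.ofIsoColimit
      (isColimitOfPreserves (Sf ⋙ SheafOfModules.toSheaf.{u+1} (BigSite.ORing K S)) hc)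
      (Cocone.ext (Iso.refl _) (by intro j; simp))
  exact preservesColimit_of_iso_diagram _ e'.symm

instance : PreservesFiniteColimits (SheafOfModules.toSheaf.{u+1} (BigSite.ORing K S)) :=
  ⟨fun L _ _ => toSheaf_preservesColimitsOfShape K S L⟩

variable {K S}

lemma kernel_sections {M N : BigSite.Mod K S} (φ : M ⟶ N) (U : (Over S)ᵒᵖ) (x : M.val.obj U)
    (hx : φ.val.app U x = 0) : ∃ y : (kernel φ).val.obj U, (kernel.ι φ).val.app U y = x := by
  have hS : (ShortComplex.mk (kernel.ι φ) φ (kernel.condition φ)).Exact :=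
    ShortComplex.exact_of_f_is_kernel _ (kernelIsKernel _)
  have hS' := hS.map_of_mono_of_preservesKernel (SheafOfModules.forget _) inferInstance
    inferInstance
  exact exact_app' _ _ _ hS' U x hx

lemma kernel_ι_injective {M N : BigSite.Mod K S} (φ : M ⟶ N) (U : (Over S)ᵒᵖ) :
    Function.Injective ((kernel.ι φ).val.app U) := by
  haveI : Mono ((SheafOfModules.forget _).map (kernel.ι φ)) := inferInstance
  exact PresheafOfModules.injective_of_mono ((SheafOfModules.forget _).map (kernel.ι φ)) U

lemma exists_cover_lift (C : ShortComplex (BigSite.Mod K S)) (hC : C.Exact) (U : Over S)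
    (s : C.X₂.val.obj (op U)) (hs : C.g.val.app (op U) s = 0) :
    ∃ T : Sieve U, T ∈ QuotSh.J K S U ∧ ∀ ⦃V : Over S⦄ (h : V ⟶ U), T h →
      ∃ t : C.X₁.val.obj (op V), C.f.val.app (op V) t = C.X₂.val.map h.op s := by
  haveI : Epi (kernel.lift C.g C.f C.zero) := (ShortComplex.exact_iff_epi_kernel_lift _).1 hC
  let l := kernel.lift C.g C.f C.zero
  have hl : l ≫ kernel.ι C.g = C.f := kernel.lift_ι _ _ _
  haveI : Epi ((SheafOfModules.toSheaf _).map l) := inferInstance
  haveI : Sheaf.IsLocallySurjective ((SheafOfModules.toSheaf _).map l) :=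
    (Sheaf.isLocallySurjective_iff_epi' _ _).2 inferInstance
  obtain ⟨s', hs'⟩ := kernel_sections C.g (op U) s hs
  let s'' : ToType (((SheafOfModules.toSheaf (BigSite.ORing K S)).obj (kernel C.g)).obj.obj
    (op U)) := s'
  have hmem := Presheaf.IsLocallySurjective.imageSieve_mem (J := QuotSh.J K S)
    (f := ((SheafOfModules.toSheaf _).map l).hom) (U := U) s''
  refine ⟨Presheaf.imageSieve ((SheafOfModules.toSheaf _).map l).hom s'', hmem, ?_⟩
  intro V h ⟨t, ht⟩
  refine ⟨t, ?_⟩
  have h1 : l.val.app (op V) t = (kernel C.g).val.map h.op s' := ht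
  have h2 : C.f.val.app (op V) t = (kernel.ι C.g).val.app (op V) (l.val.app (op V) t) := by
    rw [← hl]
    rfl
  rw [h2, h1, PresheafOfModules.naturality_apply, hs']

instance : (Pfppf.{u}).ContainsIdentities := ⟨fun _ => ⟨inferInstance, inferInstance⟩⟩

theorem parasitic_of_exact (C : ShortComplex (BigSite.Mod Scheme.fppfPrecoverage S))
    (hC : C.Exact) (p₁ : parasitic Scheme.fppfPrecoverage S C.X₁)
    (p₃ : parasitic Scheme.fppfPrecoverage S C.X₃) :
    parasitic Scheme.fppfPrecoverage S C.X₂ := by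
  intro U hU
  suffices h : ∀ s : BigSite.sectMod Scheme.fppfPrecoverage C.X₂ U, s = 0 from
    ⟨fun a b => (h a).trans (h b).symm⟩
  intro s
  haveI := p₃ U hU
  have hs : C.g.val.app (op U) s = 0 := Subsingleton.elim _ _
  obtain ⟨T, hT, hlift⟩ := exists_cover_lift C hC U s hs
  rw [GrothendieckTopology.mem_over_iff] at hT
  haveI : (Scheme.fppfPrecoverage.{u}).HasIsos :=
    inferInstanceAs (Scheme.precoverage Pfppf).HasIsos
  haveI : (Scheme.fppfPrecoverage.{u}).HasPullbacks :=
    inferInstanceAs (Scheme.precoverage Pfppf).HasPullbacks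
  obtain ⟨R, hR, hle⟩ := (Precoverage.mem_toGrothendieck_iff_of_isStableUnderComposition).1 hT
  let Z : Sieve U :=
    { arrows := fun V h => C.X₂.val.map h.op s = 0
      downward_closed := by
        intro V W h hh k
        change C.X₂.val.map (k ≫ h).op s = 0
        rw [op_comp, PresheafOfModules.map_comp_apply, hh]
        exact map_zero (C.X₂.val.map k.op).hom }
  have hZ : Z ∈ QuotSh.J Scheme.fppfPrecoverage S U := by
    rw [GrothendieckTopology.mem_over_iff]
    apply (Precoverage.mem_toGrothendieck_iff_of_isStableUnderComposition).2 ⟨R, hR, ?_⟩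
    intro V g hg
    rw [Sieve.overEquiv_iff]
    obtain ⟨t, ht⟩ := hlift (Over.homMk g : Over.mk (g ≫ U.hom) ⟶ U)
      ((Sieve.overEquiv_iff _ _).1 (hle V g hg))
    have hg' : Pfppf g := hR.2 hg
    haveI : Flat g := hg'.1
    haveI : Flat U.hom := hU
    haveI := p₁ (Over.mk (g ≫ U.hom)) (inferInstance : Flat (g ≫ U.hom))
    have ht0 : t = 0 := Subsingleton.elim _ _
    change C.X₂.val.map (Over.homMk g : Over.mk (g ≫ U.hom) ⟶ U).op s = 0
    rw [← ht, ht0]
    exact map_zero (C.f.val.app (op (Over.mk (g ≫ U.hom)))).hom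
  have hsh : Presheaf.IsSheaf (QuotSh.J Scheme.fppfPrecoverage S) C.X₂.val.presheaf :=
    C.X₂.isSheaf
  rw [Presheaf.isSheaf_iff_isSheaf_forget _ _ (forget AddCommGrpCat.{u+1}),
    isSheaf_iff_isSheaf_of_type] at hsh
  apply (hsh Z hZ).isSeparatedFor.ext
  intro V h hh
  change C.X₂.val.map h.op s = C.X₂.val.map h.op 0
  exact hh.trans (map_zero (C.X₂.val.map h.op).hom).symm

end Groth.Agent.Helper8.Adeq2C
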