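import Groth.Agent.Helper8.AdeqP

universe u

open CategoryTheory Opposite Limits TensorProduct

namespace Groth.Agent.Helper8.AdeqR

open Adeq AdeqA AdeqE AdeqF AdeqG AdeqH AdeqI AdeqJ AdeqN AdeqO AdeqP

variable {A : Type u} [CommRing A]

attribute [local instance] Abelian.hasFiniteBiproducts

section Biprod

variable {ι : Type} [Fintype ι] (U : ι → MVF A)

omit [Fintype ι] in
lemma sum_app {F G : MVF A} (s : Finset ι) (f : ι → (F ⟶ G)) (X : (Alg A)ᵒᵖᵒᵖ) (x : F.obj X) :
    (∑ j ∈ s, f j).app X x = ∑ j ∈ s, (f j).app X x := by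
  classical
  induction s using Finset.induction_on with
  | empty => simp
  | insert a s ha ih =>
    rw [Finset.sum_insert ha, Finset.sum_insert ha, ← ih]
    rfl

lemma biprod_ext (X : (Alg A)ᵒᵖᵒᵖ) (y y' : (⨁ U).obj X)
    (h : ∀ j, (biproduct.π U j).app X y = (biproduct.π U j).app X y') : y = y' := by
  have key : ∀ z : (⨁ U).obj X,
      z = ∑ j, (biproduct.ι U j).app X ((biproduct.π U j).app X z) := by
    intro z
    have h0 : ∑ j, biproduct.π U j ≫ biproduct.ι U j = 𝟙 (⨁ U) := biproduct.total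
    have h1 := congrArg (fun t : (⨁ U) ⟶ (⨁ U) => t.app X z) h0
    simp only at h1
    rw [sum_app] at h1
    exact h1.symm
  rw [key y, key y']
  exact Finset.sum_congr rfl fun j _ => by rw [h j]

lemma biprod_exists (X : (Alg A)ᵒᵖᵒᵖ) (z : ∀ j, (U j).obj X) :
    ∃ y : (⨁ U).obj X, ∀ j, (biproduct.π U j).app X y = z j := by
  classical
  refine ⟨∑ j, (biproduct.ι U j).app X (z j), fun j' => ?_⟩
  rw [map_sum]
  rw [Finset.sum_eq_single j']
  · have h1 := congrArg (fun t : U j' ⟶ U j' => t.app X (z j')) (biproduct.ι_π_self U j')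
    exact h1
  · intro j _ hj
    have h1 := congrArg (fun t : U j ⟶ U j' => t.app X (z j)) (biproduct.ι_π_ne U hj)
    exact h1
  · intro h
    exact absurd (Finset.mem_univ _) h

lemma adequate_biproduct (h : ∀ j, adequate A (U j)) : adequate A (⨁ U) :=
  (adequate A).prop_of_isLimit_fan (biproduct.isLimit U) h

end Biprod

/-- abstract kernel criterion with finite families -/
theorem adequate_of_family {ι : Type} {κ : Type} [Fintype ι] [Fintype κ] (F : MVF A)
    (U : ι → MVF A) (V : κ → MVF A) (hU : ∀ j, adequate A (U j)) (hV : ∀ k, adequate A (V k))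
    (a : ∀ j, F ⟶ U j) (s t : κ → ι) (b₁ : ∀ k, U (s k) ⟶ V k) (b₂ : ∀ k, U (t k) ⟶ V k)
    (hinj : ∀ (X : (Alg A)ᵒᵖᵒᵖ) (x : F.obj X), (∀ j, (a j).app X x = 0) → x = 0)
    (hex : ∀ (X : (Alg A)ᵒᵖᵒᵖ) (y : ∀ j, (U j).obj X),
      (∀ k, (b₁ k).app X (y (s k)) = (b₂ k).app X (y (t k))) ↔ ∃ x, ∀ j, (a j).app X x = y j) :
    adequate A F := by
  have hG₁ : adequate A (⨁ U) := adequate_biproduct U hU
  have hG₂ : adequate A (⨁ V) := adequate_biproduct V hV
  obtain ⟨α, hα'⟩ : ∃ α : F ⟶ ⨁ U, ∀ j, α ≫ biproduct.π U j = a j :=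
    ⟨biproduct.lift a, fun j => biproduct.lift_π a j⟩
  obtain ⟨β₁, hβ₁'⟩ : ∃ β : (⨁ U) ⟶ ⨁ V, ∀ k, β ≫ biproduct.π V k = biproduct.π U (s k) ≫ b₁ k :=
    ⟨biproduct.lift fun k => biproduct.π U (s k) ≫ b₁ k, fun k => biproduct.lift_π _ k⟩
  obtain ⟨β₂, hβ₂'⟩ : ∃ β : (⨁ U) ⟶ ⨁ V, ∀ k, β ≫ biproduct.π V k = biproduct.π U (t k) ≫ b₂ k :=
    ⟨biproduct.lift fun k => biproduct.π U (t k) ≫ b₂ k, fun k => biproduct.lift_π _ k⟩
  have hα : ∀ (X : (Alg A)ᵒᵖᵒᵖ) (x : F.obj X) (j : ι),
      (biproduct.π U j).app X (α.app X x) = (a j).app X x := fun X x j =>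
    congrArg (fun t : F ⟶ U j => t.app X x) (hα' j)
  have hb₁ : ∀ (X : (Alg A)ᵒᵖᵒᵖ) (y : (⨁ U).obj X) (k : κ),
      (biproduct.π V k).app X (β₁.app X y) = (b₁ k).app X ((biproduct.π U (s k)).app X y) :=
    fun X y k => congrArg (fun t : (⨁ U) ⟶ V k => t.app X y) (hβ₁' k)
  have hb₂ : ∀ (X : (Alg A)ᵒᵖᵒᵖ) (y : (⨁ U).obj X) (k : κ),
      (biproduct.π V k).app X (β₂.app X y) = (b₂ k).app X ((biproduct.π U (t k)).app X y) :=
    fun X y k => congrArg (fun t : (⨁ U) ⟶ V k => t.app X y) (hβ₂' k)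
  obtain ⟨e⟩ := iso_kernel_of_pointwise α (β₁ - β₂) (by
    intro X
    refine (injective_iff_map_eq_zero (α.app X).hom).2 fun x hx => ?_
    refine hinj X x fun j => ?_
    rw [← hα X x j]
    have : (α.app X) x = 0 := hx
    rw [this]
    exact map_zero ((biproduct.π U j).app X).hom) (by
    intro X y
    have hsub : (β₁ - β₂).app X y = β₁.app X y - β₂.app X y := rfl
    rw [hsub, sub_eq_zero]
    constructor
    · intro h
      obtain ⟨x, hx⟩ := (hex X (fun j => (biproduct.π U j).app X y)).1 (by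
        intro k
        have h1 := hb₁ X y k
        have h2 := hb₂ X y k
        exact h1.symm.trans ((congrArg (fun t => (biproduct.π V k).app X t) h).trans h2))
      refine ⟨x, biprod_ext U X _ _ fun j => ?_⟩
      rw [hα, hx]
    · rintro ⟨x, rfl⟩
      refine biprod_ext V X _ _ fun k => ?_
      have h3 := (hex X (fun j => (a j).app X x)).2 ⟨x, fun j => rfl⟩ k
      rw [hb₁, hb₂, hα, hα]
      exact h3)
  exact (adequate A).prop_of_iso e.symm (adequate_kernel _ hG₁ hG₂)

variable {ι : Type} [Fintype ι] (A' : ι → Type u) [∀ j, CommRing (A' j)]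
  [∀ j, Algebra A (A' j)]

/-- descent of adequacy along a finite family `A → A' j` -/
theorem adequate_descent_family (F : MVF A)
    (h₁ : ∀ j, adequate (A' j) ((restr A (A' j)).obj F))
    (hinj : ∀ (B : Alg A) (x : F.obj (pt B)),
      (∀ j, tr F (Alg.unit A (A' j) B) x = 0) → x = 0)
    (hglue : ∀ (B : Alg A)
      (y : ∀ j, F.obj (pt ((Alg.restr A (A' j)).obj ((Alg.baseChange A (A' j)).obj B)))),
      (∀ j j', tr F ((Alg.restr A (A' j)).map ((Alg.baseChange A (A' j)).map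
            (Alg.unit A (A' j') B))) (y j) =
          tr F (Alg.unit A (A' j) ((Alg.restr A (A' j')).obj
            ((Alg.baseChange A (A' j')).obj B))) (y j')) →
      ∃ x, ∀ j, tr F (Alg.unit A (A' j) B) x = y j) :
    adequate A F := by
  let U : ι → MVF A := fun j => (push A (A' j)).obj ((restr A (A' j)).obj F)
  let V : ι × ι → MVF A := fun p => (push A (A' p.2)).obj ((restr A (A' p.2)).obj (U p.1))
  have hU : ∀ j, adequate A (U j) := fun j => AdeqC.adequate_push _ (h₁ j)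
  have hV : ∀ p, adequate A (V p) := fun p =>
    AdeqC.adequate_push _ (AdeqB.adequate_restr _ (hU p.1))
  refine adequate_of_family F U V hU hV (fun j => unitMap (A' j) F) Prod.fst Prod.snd
    (fun p => unitMap (A' p.2) (U p.1))
    (fun p => (push A (A' p.2)).map ((restr A (A' p.2)).map (unitMap (A' p.1) F)))
    (fun X x hx => hinj X.unop.unop x hx) ?_
  intro X y
  constructor
  · intro h
    exact hglue X.unop.unop y fun j j' => h (j, j')
  · rintro ⟨x, hx⟩ p
    have hx1 : y p.1 = tr F (Alg.unit A (A' p.1) X.unop.unop) x := (hx p.1).symm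
    have hx2 : y p.2 = tr F (Alg.unit A (A' p.2) X.unop.unop) x := (hx p.2).symm
    change tr F ((Alg.restr A (A' p.1)).map ((Alg.baseChange A (A' p.1)).map
            (Alg.unit A (A' p.2) X.unop.unop))) (y p.1) =
          tr F (Alg.unit A (A' p.1) ((Alg.restr A (A' p.2)).obj
            ((Alg.baseChange A (A' p.2)).obj X.unop.unop))) (y p.2)
    rw [hx1, hx2, ← tr_comp, ← tr_comp, unit_natural]

end Groth.Agent.Helper8.AdeqR
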