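import Groth.Agent.Helper8.Adeq2C
import Groth.Agent.Helper8.AdeqR

universe u

open CategoryTheory CategoryTheory.Limits AlgebraicGeometry Opposite TensorProduct

namespace Groth.Agent.Helper8.Adeq2D

open Adeq Adeq2A Adeq2B AdeqE AdeqJ

section Sheaf

variable (K : Precoverage Scheme.{u}) {S : Scheme.{u}} [BigSite.OSh K]

/-- the sheaf condition of a module on the big site, for a family of arrows whose underlying family
of scheme morphisms is a covering -/
theorem sheaf_arrows (M : BigSite.Mod K S) (X : Over S) {ι : Type*} (Y : ι → Over S)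
    (π : ∀ j, Y j ⟶ X)
    (hcov : Presieve.ofArrows (fun j => (Y j).left) (fun j => (π j).left) ∈ K.coverings X.left) :
    (∀ x : M.val.obj (op X), (∀ j, M.val.map (π j).op x = 0) → x = 0) ∧
    (∀ y : ∀ j, M.val.obj (op (Y j)),
      (∀ j j' (Z : Over S) (g : Z ⟶ Y j) (g' : Z ⟶ Y j'), g ≫ π j = g' ≫ π j' →
        M.val.map g.op (y j) = M.val.map g'.op (y j')) →
      ∃ x : M.val.obj (op X), ∀ j, M.val.map (π j).op x = y j) := by
  have hT : Sieve.ofArrows Y π ∈ QuotSh.J K S X := by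
    rw [GrothendieckTopology.mem_over_iff, Sieve.overEquiv_ofArrows]
    exact Precoverage.generate_mem_toGrothendieck hcov
  have hsh : Presheaf.IsSheaf (QuotSh.J K S) M.val.presheaf := M.isSheaf
  rw [Presheaf.isSheaf_iff_isSheaf_forget _ _ (forget AddCommGrpCat.{u+1}),
    isSheaf_iff_isSheaf_of_type] at hsh
  have h1 : Presieve.IsSheafFor (M.val.presheaf ⋙ forget AddCommGrpCat.{u+1})
      (Presieve.ofArrows Y π) :=
    (Presieve.isSheafFor_iff_generate _).2 (hsh _ hT)
  rw [Presieve.isSheafFor_arrows_iff] at h1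
  constructor
  · intro x hx
    obtain ⟨t, -, htu⟩ := h1 (fun j => (0 : M.val.obj (op (Y j)))) (by
      intro j j' Z g g' _
      change M.val.map g.op 0 = M.val.map g'.op 0
      exact (map_zero (M.val.map g.op).hom).trans (map_zero (M.val.map g'.op).hom).symm)
    have e1 : x = t := htu x (fun j => hx j)
    have e2 : (0 : M.val.obj (op X)) = t := htu 0 (fun j => map_zero (M.val.map (π j).op).hom)
    exact e1.trans e2.symm
  · intro y hy
    obtain ⟨t, ht, -⟩ := h1 y (fun j j' Z g g' hgg => hy j j' Z g g' hgg)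
    exact ⟨t, ht⟩

end Sheaf

section Pushout

variable {R : Type u} [CommRing R] (A₁ A₂ : Type u) [CommRing A₁] [CommRing A₂]
  [Algebra R A₁] [Algebra R A₂] (B : Alg R)

/-- `A₁ ⊗ B` as an `R`-algebra -/
abbrev Rj : Alg R := (Alg.restr R A₁).obj ((Alg.baseChange R A₁).obj B)

/-- `A₁ ⊗ B → A₁ ⊗ (A₂ ⊗ B)` -/
abbrev u1 : Rj A₁ B ⟶ Rj A₁ (Rj A₂ B) :=
  (Alg.restr R A₁).map ((Alg.baseChange R A₁).map (Alg.unit R A₂ B))

/-- `A₂ ⊗ B → A₁ ⊗ (A₂ ⊗ B)` -/
abbrev u2 : Rj A₂ B ⟶ Rj A₁ (Rj A₂ B) := Alg.unit R A₁ (Rj A₂ B)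

/-- underlying morphism of commutative rings of a morphism of algebras -/
def ringHomOf {B C : Alg R} (f : B ⟶ C) : CommRingCat.of B ⟶ CommRingCat.of C :=
  CommRingCat.ofHom f.hom.toRingHom

/-- the structure morphism as a morphism of commutative rings -/
def algMapOf (B : Alg R) : CommRingCat.of R ⟶ CommRingCat.of B :=
  CommRingCat.ofHom (algebraMap R B)

/-- `A₁ → A₁ ⊗ B` -/
def inclL (B : Alg R) : CommRingCat.of A₁ ⟶ CommRingCat.of ↑(Rj A₁ B) :=
  CommRingCat.ofHom (Algebra.TensorProduct.includeLeftRingHom : A₁ →+* A₁ ⊗[R] B)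

lemma isPushout_unit :
    IsPushout (CommRingCat.ofHom (algebraMap R A₁)) (algMapOf B) (inclL A₁ B)
      (ringHomOf (Alg.unit R A₁ B)) :=
  CommRingCat.isPushout_tensorProduct R A₁ B

lemma isPushout_map {B C : Alg R} (f : B ⟶ C) :
    IsPushout (ringHomOf f) (ringHomOf (Alg.unit R A₁ B)) (ringHomOf (Alg.unit R A₁ C))
      (ringHomOf ((Alg.restr R A₁).map ((Alg.baseChange R A₁).map f))) := by
  have t := (isPushout_unit A₁ B).flip
  have s0 := (isPushout_unit A₁ C).flip
  have h1 : algMapOf B ≫ ringHomOf f = algMapOf C := by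
    ext r
    exact f.hom.commutes r
  have h3 : inclL A₁ B ≫ ringHomOf ((Alg.restr R A₁).map ((Alg.baseChange R A₁).map f)) =
      inclL A₁ C := by
    ext x
    change Algebra.TensorProduct.map (AlgHom.id A₁ A₁) f.hom (x ⊗ₜ 1) = x ⊗ₜ 1
    rw [Algebra.TensorProduct.map_tmul, map_one]
    rfl
  rw [← h1, ← h3] at s0
  refine IsPushout.of_left s0 ?_ t
  ext b
  change (1 : A₁) ⊗ₜ[R] (f.hom b) =
    Algebra.TensorProduct.map (AlgHom.id A₁ A₁) f.hom ((1 : A₁) ⊗ₜ b)
  rw [Algebra.TensorProduct.map_tmul]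
  rfl

end Pushout

section Family

variable (K : Precoverage Scheme.{u}) {S : Scheme.{u}} [BigSite.OSh K]
variable {R : CommRingCat.{u}} (a : Spec R ⟶ S) (M : BigSite.Mod K S)
variable {ι : Type} (A' : ι → Type u) [∀ j, CommRing (A' j)] [∀ j, Algebra R (A' j)]

theorem family_cond (B : Alg R)
    (hcov : Presieve.ofArrows (fun j => ((specOver a).obj (op (Rj (A' j) B))).left)
        (fun j => ((specOver a).map (Alg.unit R (A' j) B).op).left) ∈
      K.coverings ((specOver a).obj (op B)).left) :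
    (∀ x : ((toMVF K a).obj M).obj (pt B),
      (∀ j, tr ((toMVF K a).obj M) (Alg.unit R (A' j) B) x = 0) → x = 0) ∧
    (∀ y : ∀ j, ((toMVF K a).obj M).obj (pt (Rj (A' j) B)),
      (∀ j j', tr ((toMVF K a).obj M) (u1 (A' j) (A' j') B) (y j) =
          tr ((toMVF K a).obj M) (u2 (A' j) (A' j') B) (y j')) →
      ∃ x, ∀ j, tr ((toMVF K a).obj M) (Alg.unit R (A' j) B) x = y j) := by
  obtain ⟨h1, h2⟩ := sheaf_arrows K M ((specOver a).obj (op B))
    (fun j => (specOver a).obj (op (Rj (A' j) B)))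
    (fun j => (specOver a).map (Alg.unit R (A' j) B).op) hcov
  refine ⟨fun x hx => h1 x hx, fun y hy => h2 y ?_⟩
  intro j j' Z g g' hgg
  have hpb := isPullback_SpecMap_of_isPushout _ _ _ _ (isPushout_map (A' j) (Alg.unit R (A' j') B))
  have hw : g'.left ≫ Spec.map (ringHomOf (Alg.unit R (A' j') B)) =
      g.left ≫ Spec.map (ringHomOf (Alg.unit R (A' j) B)) :=
    (congrArg CommaMorphism.left hgg).symm
  let p1 : (specOver a).obj (op (Rj (A' j) (Rj (A' j') B))) ⟶ (specOver a).obj (op (Rj (A' j) B)) :=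
    (specOver a).map (u1 (A' j) (A' j') B).op
  let p2 : (specOver a).obj (op (Rj (A' j) (Rj (A' j') B))) ⟶ (specOver a).obj (op (Rj (A' j') B)) :=
    (specOver a).map (u2 (A' j) (A' j') B).op
  let tl : Z.left ⟶ ((specOver a).obj (op (Rj (A' j) (Rj (A' j') B)))).left :=
    hpb.lift g'.left g.left hw
  have ht1 : tl ≫ p2.left = g'.left := hpb.lift_fst _ _ _
  have ht2 : tl ≫ p1.left = g.left := hpb.lift_snd _ _ _
  let t : Z ⟶ (specOver a).obj (op (Rj (A' j) (Rj (A' j') B))) := Over.homMk tl (by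
    have h := Over.w p1
    rw [← h, ← Category.assoc, ht2]
    exact Over.w g)
  have e1 : t ≫ p1 = g := Over.OverMorphism.ext ht2
  have e2 : t ≫ p2 = g' := Over.OverMorphism.ext ht1
  have hc : M.val.map p1.op (y j) = M.val.map p2.op (y j') := hy j j'
  rw [← e1, ← e2, op_comp, op_comp, PresheafOfModules.map_comp_apply,
    PresheafOfModules.map_comp_apply, hc]

theorem adequate_restr_of {R' : CommRingCat.{u}} (g : R ⟶ R')
    (P : PresheafOfModules.{u + 1} (BigSite.ORing K S).obj)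
    (h : adequate R' ((toMVFPre K (Spec.map g ≫ a)).obj P)) :
    letI : Algebra R R' := g.hom.toAlgebra
    adequate R' ((restr R R').obj ((toMVFPre K a).obj P)) := by
  letI : Algebra R R' := g.hom.toAlgebra
  exact (adequate R').prop_of_iso (asIso (restrHom K g a P)) h

/-- descent of adequacy of `F_{M,R}` along a finite covering family of affine schemes -/
theorem adequate_of_finite_family (P : MorphismProperty Scheme.{u}) [P.IsStableUnderBaseChange]
    (hK : ∀ {X : Scheme.{u}} {κ : Type} (Y : κ → Scheme.{u}) (f : ∀ j, Y j ⟶ X),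
      (∀ x, ∃ j, x ∈ Set.range (f j)) → (∀ j, P (f j)) → Presieve.ofArrows Y f ∈ K.coverings X)
    [Fintype ι] (Aring : ι → CommRingCat.{u}) (g : ∀ j, R ⟶ Aring j)
    (hP : ∀ j, P (Spec.map (g j)))
    (hsurj : ∀ x : Spec R, ∃ j, x ∈ Set.range (Spec.map (g j)))
    (had : ∀ j, adequate (Aring j) ((toMVF K (Spec.map (g j) ≫ a)).obj M)) :
    adequate R ((toMVF K a).obj M) := by
  letI : ∀ j, Algebra R (Aring j) := fun j => (g j).hom.toAlgebra
  have hcovB : ∀ B : Alg R,
      Presieve.ofArrows (fun j => ((specOver a).obj (op (Rj (Aring j) B))).left)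
        (fun j => ((specOver a).map (Alg.unit R (Aring j) B).op).left) ∈
      K.coverings ((specOver a).obj (op B)).left := by
    intro B
    have hpb : ∀ j, IsPullback (Spec.map (inclL (Aring j) B))
        (Spec.map (ringHomOf (Alg.unit R (Aring j) B))) (Spec.map (g j))
        (Spec.map (algMapOf B)) := fun j =>
      isPullback_SpecMap_of_isPushout _ _ _ _ (isPushout_unit (Aring j) B)
    refine hK _ _ ?_ ?_
    · intro y
      obtain ⟨j, z, hz⟩ := hsurj ((Spec.map (algMapOf B)) y)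
      obtain ⟨w, hw1, hw2⟩ := Scheme.Pullback.exists_preimage_pullback z y hz
      refine ⟨j, (hpb j).isoPullback.inv w, ?_⟩
      have h3 := (hpb j).isoPullback_inv_snd
      have h4 := congrArg (fun q => q w) h3
      exact h4.trans hw2
    · intro j
      exact MorphismProperty.of_isPullback (hpb j) (hP j)
  refine AdeqR.adequate_descent_family (fun j => (Aring j : Type u)) _ ?_ ?_ ?_
  · intro j
    exact adequate_restr_of K a (g j) M.val (had j)
  · intro B x hx
    exact (family_cond K a M _ B (hcovB B)).1 x hx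
  · intro B y hy
    exact (family_cond K a M _ B (hcovB B)).2 y hy

end Family

section Refine

variable {S : Scheme.{u}}

theorem exists_refinement (P : MorphismProperty Scheme.{u}) [P.IsStableUnderBaseChange]
    [P.IsStableUnderComposition]
    (hoi : ∀ {X Y : Scheme.{u}} (f : X ⟶ Y), IsOpenImmersion f → P f)
    (hopen : ∀ {X Y : Scheme.{u}} (f : X ⟶ Y), P f → IsOpenMap f)
    {ι : Type u} (Ri : ι → CommRingCat.{u}) (ai : ∀ i, Spec (Ri i) ⟶ S)
    (hsurj : ∀ s : S, ∃ i, s ∈ Set.range (ai i)) (hPi : ∀ i, P (ai i))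
    {R : CommRingCat.{u}} (a : Spec R ⟶ S) :
    ∃ (n : ℕ) (Aring : Fin n → CommRingCat.{u}) (g : ∀ k, R ⟶ Aring k),
      (∀ k, P (Spec.map (g k))) ∧ (∀ x : Spec R, ∃ k, x ∈ Set.range (Spec.map (g k))) ∧
      ∀ k, ∃ (i : ι) (h : Spec (Aring k) ⟶ Spec (Ri i)), h ≫ ai i = Spec.map (g k) ≫ a := by
  choose I A c hc hcs using fun i => exists_affine_cover (pullback a (ai i))
  let d : ∀ p : Σ i, I i, Spec (A p.1 p.2) ⟶ Spec R :=
    fun p => c p.1 p.2 ≫ pullback.fst a (ai p.1)
  have hd : ∀ p, P (d p) := fun p =>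
    P.comp_mem _ _ (hoi _ (hc p.1 p.2)) (P.pullback_fst _ _ (hPi p.1))
  have hds : ∀ x : Spec R, ∃ p, x ∈ Set.range (d p) := by
    intro t
    obtain ⟨i, y, hy⟩ := hsurj (a t)
    obtain ⟨z, hz1, hz2⟩ := Scheme.Pullback.exists_preimage_pullback t y hy.symm
    obtain ⟨j, w, hw⟩ := hcs i z
    exact ⟨⟨i, j⟩, w, by
      change (c i j ≫ pullback.fst a (ai i)) w = t
      rw [Scheme.Hom.comp_apply, hw, hz1]⟩
  obtain ⟨t, ht⟩ := (isCompact_univ (X := Spec R)).elim_finite_subcover
    (fun p : Σ i, I i => Set.range (d p)) (fun p => (hopen _ (hd p)).isOpen_range) (by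
      intro x _
      obtain ⟨p, hp⟩ := hds x
      exact Set.mem_iUnion.2 ⟨p, hp⟩)
  let e := t.equivFin
  refine ⟨t.card, fun k => A (e.symm k).1.1 (e.symm k).1.2,
    fun k => Spec.preimage (d (e.symm k).1), ?_, ?_, ?_⟩
  · intro k
    rw [Spec.map_preimage]
    exact hd _
  · intro x
    have h1 := ht (Set.mem_univ x)
    simp only [Set.mem_iUnion] at h1
    obtain ⟨p, hp, hx⟩ := h1
    obtain ⟨k, hk⟩ : ∃ k, e.symm k = ⟨p, hp⟩ := ⟨e ⟨p, hp⟩, e.symm_apply_apply _⟩
    refine ⟨k, ?_⟩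
    rw [Spec.map_preimage]
    show x ∈ Set.range (d (e.symm k).1)
    rw [hk]
    exact hx
  · intro k
    refine ⟨(e.symm k).1.1, c _ _ ≫ pullback.snd _ _, ?_⟩
    rw [Spec.map_preimage]
    change _ = (c _ _ ≫ pullback.fst a (ai _)) ≫ a
    rw [Category.assoc, Category.assoc, pullback.condition]

end Refine

section Final

variable {S : Scheme.{u}}

theorem main_fppf (M : BigSite.Mod Scheme.fppfPrecoverage S)
    (hM : adequateMod Scheme.fppfPrecoverage S M) (R : CommRingCat.{u}) (a : Spec R ⟶ S) :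
    adequate R ((toMVF Scheme.fppfPrecoverage a).obj M) := by
  obtain ⟨ι, Ri, ai, hcov, had⟩ := hM
  rw [mem_fppf_iff] at hcov
  obtain ⟨n, Aring, g, hP, hs, hfac⟩ := exists_refinement Pfppf
    (fun f hf => ⟨inferInstance, inferInstance⟩)
    (fun f hf => by
      haveI : Flat f := hf.1
      haveI : LocallyOfFinitePresentation f := hf.2
      exact f.isOpenMap) Ri ai hcov.1 hcov.2 a
  refine adequate_of_finite_family Scheme.fppfPrecoverage a M Pfppf
    (fun Y f h1 h2 => mem_fppf_iff.2 ⟨h1, h2⟩) Aring g hP hs ?_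
  intro k
  obtain ⟨i, h, hh⟩ := hfac k
  exact adequate_of_factor _ (ai i) M.val _ h hh (had i)

lemma mem_zariski_iff {S : Scheme.{u}} {ι : Type*} {X : ι → Scheme.{u}} {f : ∀ i, X i ⟶ S} :
    Presieve.ofArrows X f ∈ Scheme.zariskiPrecoverage.coverings S ↔
      (∀ x, ∃ i, x ∈ Set.range (f i)) ∧ ∀ i, IsOpenImmersion (f i) :=
  Scheme.ofArrows_mem_precoverage_iff (P := @IsOpenImmersion)

theorem main_zariski (M : BigSite.Mod Scheme.zariskiPrecoverage S)
    (hM : adequateMod Scheme.zariskiPrecoverage S M) (R : CommRingCat.{u}) (a : Spec R ⟶ S) :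
    adequate R ((toMVF Scheme.zariskiPrecoverage a).obj M) := by
  obtain ⟨ι, Ri, ai, hcov, had⟩ := hM
  rw [mem_zariski_iff] at hcov
  obtain ⟨n, Aring, g, hP, hs, hfac⟩ := exists_refinement @IsOpenImmersion
    (fun f hf => hf)
    (fun f hf => by
      haveI : IsOpenImmersion f := hf
      exact f.isOpenEmbedding.isOpenMap) Ri ai hcov.1 hcov.2 a
  refine adequate_of_finite_family Scheme.zariskiPrecoverage a M @IsOpenImmersion
    (fun Y f h1 h2 => mem_zariski_iff.2 ⟨h1, h2⟩) Aring g hP hs ?_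
  intro k
  obtain ⟨i, h, hh⟩ := hfac k
  exact adequate_of_factor _ (ai i) M.val _ h hh (had i)

end Final

end Groth.Agent.Helper8.Adeq2D
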