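import Groth.Agent.Helper8.Adeq2D

universe u

open CategoryTheory CategoryTheory.Limits AlgebraicGeometry Opposite TensorProduct

namespace Groth.Agent.Helper8.Adeq2E

open Adeq Adeq2A Adeq2B AdeqE AdeqJ Adeq2D

variable (K : Precoverage Scheme.{u}) [BigSite.OSh K] {S T : Scheme.{u}} (f : T ⟶ S)
  (M : BigSite.Mod K T) {R : CommRingCat.{u}} (a : Spec R ⟶ S)

section Alpha

variable {A : Type u} [CommRing A] [Algebra R A] (v : Spec (CommRingCat.of A) ⟶ pullback a f)
  (hv : v ≫ pullback.fst a f = Spec.map (CommRingCat.ofHom (algebraMap R A)))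

/-- `Spec (A ⊗ B) → Spec B ×_S T` on underlying schemes -/
noncomputable def piLeft (B : Alg R) :
    Spec (CommRingCat.of ↑((Alg.baseChange R A).obj B)) ⟶
      pullback (Spec.map (algMapOf B) ≫ a) f :=
  pullback.lift (Spec.map (ringHomOf (Alg.unit R A B)))
    (Spec.map (CommRingCat.ofHom (algebraMap A ((Alg.baseChange R A).obj B))) ≫
      v ≫ pullback.snd a f) (by
    have h1 : algMapOf B ≫ ringHomOf (Alg.unit R A B) =
        CommRingCat.ofHom (algebraMap R A) ≫
          CommRingCat.ofHom (algebraMap A ((Alg.baseChange R A).obj B)) := by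
      ext r
      change (1 : A) ⊗ₜ[R] (algebraMap R B r) = (algebraMap R A r) ⊗ₜ[R] (1 : B)
      rw [Algebra.algebraMap_eq_smul_one, Algebra.algebraMap_eq_smul_one (A := A),
        TensorProduct.tmul_smul, TensorProduct.smul_tmul']
    rw [Category.assoc, Category.assoc, ← pullback.condition, ← Category.assoc v, hv,
      ← Category.assoc, ← Category.assoc, ← Spec.map_comp, ← Spec.map_comp, h1])

lemma piLeft_fst (B : Alg R) :
    piLeft f a v hv B ≫ pullback.fst _ _ = Spec.map (ringHomOf (Alg.unit R A B)) :=
  pullback.lift_fst _ _ _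

lemma piLeft_snd (B : Alg R) :
    piLeft f a v hv B ≫ pullback.snd _ _ =
      Spec.map (CommRingCat.ofHom (algebraMap A ((Alg.baseChange R A).obj B))) ≫
        v ≫ pullback.snd a f :=
  pullback.lift_snd _ _ _

/-- `Spec (A ⊗ B) → Spec B ×_S T` as a morphism over `T` -/
noncomputable def piB (B : Alg R) :
    (specOver (v ≫ pullback.snd a f)).obj (op ((Alg.baseChange R A).obj B)) ⟶
      (Over.pullback f).obj ((specOver a).obj (op B)) :=
  Over.homMk (show ((specOver (v ≫ pullback.snd a f)).obj
      (op ((Alg.baseChange R A).obj B))).left ⟶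
        ((Over.pullback f).obj ((specOver a).obj (op B))).left from piLeft f a v hv B)
    (piLeft_snd f a v hv B)

lemma piB_natural {B B' : Alg R} (φ : B ⟶ B') :
    piB f a v hv B' ≫ (Over.pullback f).map ((specOver a).map φ.op) =
      (specOver (v ≫ pullback.snd a f)).map ((Alg.baseChange R A).map φ).op ≫ piB f a v hv B := by
  apply Over.OverMorphism.ext
  change piLeft f a v hv B' ≫ pullback.lift (pullback.fst _ _ ≫ Spec.map (ringHomOf φ))
      (pullback.snd _ _) _ =
    Spec.map (ringHomOf ((Alg.baseChange R A).map φ)) ≫ piLeft f a v hv B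
  apply pullback.hom_ext
  · rw [Category.assoc, pullback.lift_fst, ← Category.assoc, piLeft_fst, Category.assoc,
      piLeft_fst, ← Spec.map_comp, ← Spec.map_comp]
    congr 1
  · rw [Category.assoc, pullback.lift_snd, piLeft_snd, Category.assoc, piLeft_snd]
    have h : CommRingCat.ofHom (algebraMap A ((Alg.baseChange R A).obj B)) ≫
        ringHomOf ((Alg.baseChange R A).map φ) =
          CommRingCat.ofHom (algebraMap A ((Alg.baseChange R A).obj B')) := by
      ext x
      exact ((Alg.baseChange R A).map φ).hom.commutes x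
    rw [← h, Spec.map_comp, Category.assoc]

/-- restriction from `Spec B ×_S T` to `Spec (A ⊗ B)` -/
noncomputable def alpha :
    (toMVF K a).obj ((BigSite.pushMod K f).obj M) ⟶
      (push R A).obj ((toMVF K (v ≫ pullback.snd a f)).obj M) :=
  PresheafOfModules.homMk
    { app := fun X => M.val.presheaf.map (piB f a v hv X.unop.unop).op
      naturality := by
        intro X Y φ
        change M.val.presheaf.map ((Over.pullback f).map ((specOver a).map φ.unop)).op ≫
            M.val.presheaf.map (piB f a v hv Y.unop.unop).op =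
          M.val.presheaf.map (piB f a v hv X.unop.unop).op ≫
            M.val.presheaf.map ((specOver (v ≫ pullback.snd a f)).map
              ((Alg.baseChange R A).map φ.unop.unop).op).op
        rw [← Functor.map_comp, ← Functor.map_comp, ← op_comp, ← op_comp]
        congr 2
        exact piB_natural f a v hv φ.unop.unop }
    (by
      intro X r m
      have h1 := M.val.map_smul (piB f a v hv X.unop.unop).op
        (((Sheaf.toPushforwardOverPullback (BigSite.ORingAbs K) f).hom.app
          (op ((specOver a).obj (op X.unop.unop)))).hom (toSect K a X.unop.unop r)) m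
      refine h1.trans ?_
      congr 1
      apply ULift.ext
      change ((Scheme.ΓSpecIso (CommRingCat.of X.unop.unop)).inv ≫
          (pullback.fst (Spec.map (algMapOf X.unop.unop) ≫ a) f).appTop ≫
            (piLeft f a v hv X.unop.unop).appTop) r =
        (ringHomOf (Alg.unit R A X.unop.unop) ≫
          (Scheme.ΓSpecIso (CommRingCat.of ↑((Alg.baseChange R A).obj X.unop.unop))).inv) r
      rw [← Scheme.Hom.comp_appTop, piLeft_fst, Scheme.ΓSpecIso_inv_naturality])

lemma alpha_app (X : (Alg R)ᵒᵖᵒᵖ)
    (m : ((toMVF K a).obj ((BigSite.pushMod K f).obj M)).obj X) :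
    (alpha K f M a v hv).app X m = M.val.map (piB f a v hv X.unop.unop).op m := rfl

end Alpha

section Beta

variable {A A' : Type u} [CommRing A] [CommRing A'] [Algebra R A] [Algebra R A']
  (h : A →ₐ[R] A') (t : Spec (CommRingCat.of A) ⟶ T) (t' : Spec (CommRingCat.of A') ⟶ T)
  (ht : Spec.map (CommRingCat.ofHom h.toRingHom) ≫ t = t')

/-- `h ⊗ B` as a morphism of commutative rings -/
noncomputable def tensMap (B : Alg R) :
    CommRingCat.of ↑((Alg.baseChange R A).obj B) ⟶ CommRingCat.of ↑((Alg.baseChange R A').obj B) :=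
  CommRingCat.ofHom (Algebra.TensorProduct.map h (AlgHom.id R B)).toRingHom

/-- `Spec (A' ⊗ B) → Spec (A ⊗ B)` over `T` -/
noncomputable def epsB (B : Alg R) :
    (specOver t').obj (op ((Alg.baseChange R A').obj B)) ⟶
      (specOver t).obj (op ((Alg.baseChange R A).obj B)) :=
  Over.homMk (show ((specOver t').obj (op ((Alg.baseChange R A').obj B))).left ⟶
      ((specOver t).obj (op ((Alg.baseChange R A).obj B))).left from Spec.map (tensMap h B)) (by
    have h1 : CommRingCat.ofHom (algebraMap A ((Alg.baseChange R A).obj B)) ≫ tensMap h B =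
        CommRingCat.ofHom h.toRingHom ≫
          CommRingCat.ofHom (algebraMap A' ((Alg.baseChange R A').obj B)) := by
      ext x
      change Algebra.TensorProduct.map h (AlgHom.id R B) (x ⊗ₜ[R] (1 : B)) = (h x) ⊗ₜ[R] (1 : B)
      rw [Algebra.TensorProduct.map_tmul, AlgHom.id_apply]
    change Spec.map (tensMap h B) ≫
        Spec.map (CommRingCat.ofHom (algebraMap A ((Alg.baseChange R A).obj B))) ≫ t =
      Spec.map (CommRingCat.ofHom (algebraMap A' ((Alg.baseChange R A').obj B))) ≫ t'
    rw [← ht, ← Category.assoc, ← Category.assoc, ← Spec.map_comp, ← Spec.map_comp, h1])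

lemma epsB_natural {B B' : Alg R} (φ : B ⟶ B') :
    epsB h t t' ht B' ≫ (specOver t).map ((Alg.baseChange R A).map φ).op =
      (specOver t').map ((Alg.baseChange R A').map φ).op ≫ epsB h t t' ht B := by
  apply Over.OverMorphism.ext
  change Spec.map (tensMap h B') ≫ Spec.map (ringHomOf ((Alg.baseChange R A).map φ)) =
    Spec.map (ringHomOf ((Alg.baseChange R A').map φ)) ≫ Spec.map (tensMap h B)
  rw [← Spec.map_comp, ← Spec.map_comp]
  congr 1
  refine CommRingCat.hom_ext (RingHom.ext fun x => ?_)
  change Algebra.TensorProduct.map h (AlgHom.id R B')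
      (Algebra.TensorProduct.map (AlgHom.id A A) φ.hom x) =
    Algebra.TensorProduct.map (AlgHom.id A' A') φ.hom
      (Algebra.TensorProduct.map h (AlgHom.id R B) x)
  induction x using TensorProduct.induction_on with
  | zero => simp
  | tmul x b => simp
  | add x y hx hy => rw [map_add, map_add, map_add, map_add, hx, hy]

/-- the map `F_{M,A}(A ⊗ -) → F_{M,A'}(A' ⊗ -)` induced by `h : A → A'` -/
noncomputable def beta :
    (push R A).obj ((toMVF K t).obj M) ⟶ (push R A').obj ((toMVF K t').obj M) :=
  PresheafOfModules.homMk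
    { app := fun X => M.val.presheaf.map (epsB h t t' ht X.unop.unop).op
      naturality := by
        intro X Y φ
        change M.val.presheaf.map ((specOver t).map
              ((Alg.baseChange R A).map φ.unop.unop).op).op ≫
            M.val.presheaf.map (epsB h t t' ht Y.unop.unop).op =
          M.val.presheaf.map (epsB h t t' ht X.unop.unop).op ≫
            M.val.presheaf.map ((specOver t').map
              ((Alg.baseChange R A').map φ.unop.unop).op).op
        rw [← Functor.map_comp, ← Functor.map_comp, ← op_comp, ← op_comp]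
        congr 2
        exact epsB_natural h t t' ht φ.unop.unop }
    (by
      intro X r m
      have h1 := M.val.map_smul (epsB h t t' ht X.unop.unop).op
        (toSect K t ((Alg.baseChange R A).obj X.unop.unop)
          ((Algebra.TensorProduct.includeRight (R := R) (A := A) (B := X.unop.unop)) r)) m
      refine h1.trans ?_
      congr 1
      apply ULift.ext
      change ((Scheme.ΓSpecIso (CommRingCat.of ↑((Alg.baseChange R A).obj X.unop.unop))).inv ≫
          (Spec.map (tensMap h X.unop.unop)).appTop) ((1 : A) ⊗ₜ[R] r) =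
        (Scheme.ΓSpecIso (CommRingCat.of ↑((Alg.baseChange R A').obj X.unop.unop))).inv
          ((1 : A') ⊗ₜ[R] r)
      rw [← Scheme.ΓSpecIso_inv_naturality]
      change (Scheme.ΓSpecIso (CommRingCat.of ↑((Alg.baseChange R A').obj X.unop.unop))).inv
          (Algebra.TensorProduct.map h (AlgHom.id R X.unop.unop) ((1 : A) ⊗ₜ[R] r)) = _
      rw [Algebra.TensorProduct.map_tmul, map_one, AlgHom.id_apply])

lemma beta_app (X : (Alg R)ᵒᵖᵒᵖ) (m : ((push R A).obj ((toMVF K t).obj M)).obj X) :
    (beta K M h t t' ht).app X m = M.val.map (epsB h t t' ht X.unop.unop).op m := rfl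

end Beta

section Geom

variable {A : Type u} [CommRing A] [Algebra R A] (v : Spec (CommRingCat.of A) ⟶ pullback a f)
  (hv : v ≫ pullback.fst a f = Spec.map (CommRingCat.ofHom (algebraMap R A)))

lemma inclL_eq (B : Alg R) :
    inclL A B = CommRingCat.ofHom (algebraMap A ((Alg.baseChange R A).obj B)) := by
  ext x
  rfl

lemma unit_algMap (B : Alg R) :
    algMapOf B ≫ ringHomOf (Alg.unit R A B) =
      CommRingCat.ofHom (algebraMap R A) ≫
        CommRingCat.ofHom (algebraMap A ((Alg.baseChange R A).obj B)) := by
  ext r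
  change (1 : A) ⊗ₜ[R] (algebraMap R B r) = (algebraMap R A r) ⊗ₜ[R] (1 : B)
  rw [Algebra.algebraMap_eq_smul_one, Algebra.algebraMap_eq_smul_one (A := A),
    TensorProduct.tmul_smul, TensorProduct.smul_tmul']

/-- `Spec B ×_S T → Spec R ×_S T` -/
noncomputable def rhoB (B : Alg R) :
    pullback (Spec.map (algMapOf B) ≫ a) f ⟶ pullback a f :=
  pullback.lift (pullback.fst _ _ ≫ Spec.map (algMapOf B)) (pullback.snd _ _) (by
    rw [Category.assoc, pullback.condition])

lemma rhoB_fst (B : Alg R) :
    rhoB f a B ≫ pullback.fst a f = pullback.fst _ _ ≫ Spec.map (algMapOf B) :=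
  pullback.lift_fst _ _ _

lemma rhoB_snd (B : Alg R) : rhoB f a B ≫ pullback.snd a f = pullback.snd _ _ :=
  pullback.lift_snd _ _ _

lemma isPullback_rhoB (B : Alg R) :
    IsPullback (pullback.fst (Spec.map (algMapOf B) ≫ a) f) (rhoB f a B)
      (Spec.map (algMapOf B)) (pullback.fst a f) := by
  have outer : IsPullback (rhoB f a B ≫ pullback.snd a f)
      (pullback.fst (Spec.map (algMapOf B) ≫ a) f) f (Spec.map (algMapOf B) ≫ a) := by
    rw [rhoB_snd]
    exact (IsPullback.of_hasPullback _ _).flip
  have right : IsPullback (pullback.snd a f) (pullback.fst a f) f a :=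
    (IsPullback.of_hasPullback a f).flip
  exact (IsPullback.of_right outer (rhoB_fst f a B) right).flip

lemma piLeft_rhoB (B : Alg R) :
    piLeft f a v hv B ≫ rhoB f a B =
      Spec.map (CommRingCat.ofHom (algebraMap A ((Alg.baseChange R A).obj B))) ≫ v := by
  apply pullback.hom_ext
  · rw [Category.assoc, rhoB_fst, ← Category.assoc, piLeft_fst, Category.assoc, hv,
      ← Spec.map_comp, ← Spec.map_comp, unit_algMap]
  · rw [Category.assoc, rhoB_snd, piLeft_snd, Category.assoc]

lemma isPullback_piLeft (B : Alg R) :
    IsPullback (piLeft f a v hv B)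
      (Spec.map (CommRingCat.ofHom (algebraMap A ((Alg.baseChange R A).obj B))))
      (rhoB f a B) v := by
  have outer : IsPullback (piLeft f a v hv B ≫ pullback.fst _ _)
      (Spec.map (CommRingCat.ofHom (algebraMap A ((Alg.baseChange R A).obj B))))
      (Spec.map (algMapOf B)) (v ≫ pullback.fst a f) := by
    rw [piLeft_fst, hv, ← inclL_eq]
    exact (isPullback_SpecMap_of_isPushout _ _ _ _ (isPushout_unit A B)).flip
  exact IsPullback.of_right outer (piLeft_rhoB f a v hv B) (isPullback_rhoB f a B)

end Geom

end Groth.Agent.Helper8.Adeq2E
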