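import Groth.Agent.Helper8.Adeq2E

universe u

open CategoryTheory CategoryTheory.Limits AlgebraicGeometry Opposite TensorProduct

namespace Groth.Agent.Helper8.Adeq2F

open Adeq Adeq2A Adeq2B AdeqE AdeqJ Adeq2D Adeq2E

variable (K : Precoverage Scheme.{u}) [BigSite.OSh K] {S T : Scheme.{u}} (f : T ⟶ S)
  (M : BigSite.Mod K T) {R : CommRingCat.{u}} (a : Spec R ⟶ S)

section Rings

variable {A A' : Type u} [CommRing A] [CommRing A'] [Algebra R A] [Algebra R A']
  (h : A →ₐ[R] A') (B : Alg R)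

lemma incl_tensMap :
    inclL A B ≫ tensMap h B = CommRingCat.ofHom h.toRingHom ≫ inclL A' B := by
  ext x
  change Algebra.TensorProduct.map h (AlgHom.id R B) (x ⊗ₜ[R] (1 : B)) = (h x) ⊗ₜ[R] (1 : B)
  rw [Algebra.TensorProduct.map_tmul, AlgHom.id_apply]

lemma unit_tensMap :
    ringHomOf (Alg.unit R A B) ≫ tensMap h B = ringHomOf (Alg.unit R A' B) := by
  ext b
  change Algebra.TensorProduct.map h (AlgHom.id R B) ((1 : A) ⊗ₜ[R] b) = (1 : A') ⊗ₜ[R] b
  rw [Algebra.TensorProduct.map_tmul, AlgHom.id_apply, map_one]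

lemma isPullback_tensor :
    IsPullback (Spec.map (inclL A B)) (Spec.map (ringHomOf (Alg.unit R A B)))
      (Spec.map (CommRingCat.ofHom (algebraMap R A))) (Spec.map (algMapOf B)) :=
  isPullback_SpecMap_of_isPushout _ _ _ _ (isPushout_unit A B)

end Rings

variable {A A' : Type u} [CommRing A] [CommRing A'] [Algebra R A] [Algebra R A']
  (v : Spec (CommRingCat.of A) ⟶ pullback a f)
  (hv : v ≫ pullback.fst a f = Spec.map (CommRingCat.ofHom (algebraMap R A)))
  (v' : Spec (CommRingCat.of A') ⟶ pullback v v)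
  (h₁ h₂ : A →ₐ[R] A')
  (hh₁ : Spec.map (CommRingCat.ofHom h₁.toRingHom) = v' ≫ pullback.fst v v)
  (hh₂ : Spec.map (CommRingCat.ofHom h₂.toRingHom) = v' ≫ pullback.snd v v)

include hh₁ hh₂ in
lemma chase (P : MorphismProperty Scheme.{u}) [P.IsStableUnderBaseChange] (hP' : P v')
    (hs' : ∀ x, ∃ y, v' y = x) (B : Alg R) {Z₀ : Scheme.{u}}
    (g₀ g₀' : Z₀ ⟶ Spec (CommRingCat.of ↑((Alg.baseChange R A).obj B)))
    (hgg : g₀ ≫ piLeft f a v hv B = g₀' ≫ piLeft f a v hv B) :
    ∃ (Z' : Scheme.{u}) (z : Z' ⟶ Z₀)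
      (w : Z' ⟶ Spec (CommRingCat.of ↑((Alg.baseChange R A').obj B))),
      P z ∧ (∀ x, ∃ y, z y = x) ∧ w ≫ Spec.map (tensMap h₁ B) = z ≫ g₀ ∧
        w ≫ Spec.map (tensMap h₂ B) = z ≫ g₀' := by
  let iA := inclL A B
  let iA' := inclL A' B
  have hrho : Spec.map iA ≫ v = piLeft f a v hv B ≫ rhoB f a B := by
    rw [piLeft_rhoB f a v hv B, ← inclL_eq]
  let uA := ringHomOf (Alg.unit R A B)
  let uA' := ringHomOf (Alg.unit R A' B)
  have hγ : (g₀ ≫ Spec.map iA) ≫ v = (g₀' ≫ Spec.map iA) ≫ v := by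
    rw [Category.assoc, Category.assoc, hrho, ← Category.assoc,
      ← Category.assoc, hgg]
  let δ : Z₀ ⟶ pullback v v := pullback.lift (g₀ ≫ Spec.map iA) (g₀' ≫ Spec.map iA) hγ
  have hδ1 : δ ≫ pullback.fst v v = g₀ ≫ Spec.map iA := pullback.lift_fst _ _ _
  have hδ2 : δ ≫ pullback.snd v v = g₀' ≫ Spec.map iA := pullback.lift_snd _ _ _
  let z : pullback δ v' ⟶ Z₀ := pullback.fst δ v'
  let s : pullback δ v' ⟶ Spec (CommRingCat.of A') := pullback.snd δ v'
  have hzs : z ≫ δ = s ≫ v' := pullback.condition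
  have hu : g₀ ≫ Spec.map uA = g₀' ≫ Spec.map uA := by
    rw [← piLeft_fst f a v hv B, ← Category.assoc, ← Category.assoc, hgg]
  have hpbA := isPullback_tensor (A := A) B
  have hpbA' := isPullback_tensor (A := A') B
  have hcompat : s ≫ Spec.map (CommRingCat.ofHom (algebraMap R A')) =
      (z ≫ g₀ ≫ Spec.map uA) ≫ Spec.map (algMapOf B) := by
    have e1 : CommRingCat.ofHom (algebraMap R A) ≫ CommRingCat.ofHom h₁.toRingHom =
        CommRingCat.ofHom (algebraMap R A') := by
      ext r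
      exact h₁.commutes r
    rw [Category.assoc, Category.assoc, ← Spec.map_comp, unit_algMap, ← inclL_eq, Spec.map_comp,
      ← Category.assoc g₀, ← hδ1, ← Category.assoc z, ← Category.assoc z, hzs, ← e1,
      Spec.map_comp, hh₁]
    simp only [Category.assoc]
  let w : pullback δ v' ⟶ Spec (CommRingCat.of ↑((Alg.baseChange R A').obj B)) :=
    hpbA'.lift s (z ≫ g₀ ≫ Spec.map uA) hcompat
  have hw1 : w ≫ Spec.map iA' = s := hpbA'.lift_fst _ _ _
  have hw2 : w ≫ Spec.map uA' = z ≫ g₀ ≫ Spec.map uA := hpbA'.lift_snd _ _ _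
  refine ⟨pullback δ v', z, w, P.pullback_fst _ _ hP', ?_, ?_, ?_⟩
  · haveI : Surjective v' := ⟨hs'⟩
    exact (inferInstance : Surjective (pullback.fst δ v')).surj
  · apply hpbA.hom_ext
    · rw [Category.assoc, ← Spec.map_comp, incl_tensMap, Spec.map_comp, ← Category.assoc, hw1,
        hh₁, ← Category.assoc, ← hzs, Category.assoc, hδ1, Category.assoc]
    · rw [Category.assoc, ← Spec.map_comp, unit_tensMap, hw2, Category.assoc]
  · apply hpbA.hom_ext
    · rw [Category.assoc, ← Spec.map_comp, incl_tensMap, Spec.map_comp, ← Category.assoc, hw1,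
        hh₂, ← Category.assoc, ← hzs, Category.assoc, hδ2, Category.assoc]
    · rw [Category.assoc, ← Spec.map_comp, unit_tensMap, hw2, Category.assoc, hu]

include hh₁ hh₂ in
lemma eps_pi (B : Alg R) (t' : Spec (CommRingCat.of A') ⟶ T)
    (ht₁ : Spec.map (CommRingCat.ofHom h₁.toRingHom) ≫ v ≫ pullback.snd a f = t')
    (ht₂ : Spec.map (CommRingCat.ofHom h₂.toRingHom) ≫ v ≫ pullback.snd a f = t') :
    epsB h₁ (v ≫ pullback.snd a f) t' ht₁ B ≫ piB f a v hv B =
      epsB h₂ (v ≫ pullback.snd a f) t' ht₂ B ≫ piB f a v hv B := by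
  apply Over.OverMorphism.ext
  change Spec.map (tensMap h₁ B) ≫ piLeft f a v hv B = Spec.map (tensMap h₂ B) ≫ piLeft f a v hv B
  apply pullback.hom_ext
  · rw [Category.assoc, Category.assoc, piLeft_fst, ← Spec.map_comp, ← Spec.map_comp,
      unit_tensMap, unit_tensMap]
  · have e : ∀ (h : A →ₐ[R] A'), Spec.map (tensMap h B) ≫ Spec.map (inclL A B) =
        Spec.map (inclL A' B) ≫ Spec.map (CommRingCat.ofHom h.toRingHom) := fun h => by
      rw [← Spec.map_comp, ← Spec.map_comp, incl_tensMap]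
    rw [Category.assoc, Category.assoc, piLeft_snd, ← inclL_eq, ← Category.assoc, e h₁,
      ← Category.assoc (Spec.map (tensMap h₂ B)), e h₂, hh₁, hh₂]
    simp only [Category.assoc]
    rw [pullback.condition_assoc]

/-- restriction of sections along a morphism of the big site -/
noncomputable def res {W W' : Over T} (e : W' ⟶ W) (y : M.val.obj (op W)) : M.val.obj (op W') :=
  M.val.map e.op y

omit f a in
lemma res_comp {W W' W'' : Over T} (e : W' ⟶ W) (e' : W'' ⟶ W') (y : M.val.obj (op W)) :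
    res K M (e' ≫ e) y = res K M e' (res K M e y) :=
  PresheafOfModules.map_comp_apply M.val e.op e'.op y

omit f a in
lemma res_sub {W W' : Over T} (e : W' ⟶ W) (y y' : M.val.obj (op W)) :
    res K M e (y - y') = res K M e y - res K M e y' :=
  map_sub (M.val.map e.op).hom y y'

section Main

variable (P : MorphismProperty Scheme.{u}) [P.IsStableUnderBaseChange]
    (hK : ∀ {X : Scheme.{u}} {κ : Type} (Y : κ → Scheme.{u}) (f : ∀ j, Y j ⟶ X),
      (∀ x, ∃ j, x ∈ Set.range (f j)) → (∀ j, P (f j)) → Presieve.ofArrows Y f ∈ K.coverings X)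
    (hPv : P v) (hsv : ∀ x, ∃ y, v y = x) (hPv' : P v') (hsv' : ∀ x, ∃ y, v' y = x)
    (t' : Spec (CommRingCat.of A') ⟶ T)
    (ht₁ : Spec.map (CommRingCat.ofHom h₁.toRingHom) ≫ v ≫ pullback.snd a f = t')
    (ht₂ : Spec.map (CommRingCat.ofHom h₂.toRingHom) ≫ v ≫ pullback.snd a f = t')

include hK hPv hsv in
lemma cover_piB (B : Alg R) : Presieve.ofArrows
      (fun _ : Unit => ((specOver (v ≫ pullback.snd a f)).obj
        (op ((Alg.baseChange R A).obj B))).left)
      (fun _ : Unit => (piB f a v hv B).left) ∈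
        K.coverings ((Over.pullback f).obj ((specOver a).obj (op B))).left := by
  refine hK _ _ ?_ ?_
  · intro x
    obtain ⟨y, hy⟩ := hsv ((rhoB f a B) x)
    obtain ⟨w, hw1, hw2⟩ := Scheme.Pullback.exists_preimage_pullback x y hy.symm
    refine ⟨(), (isPullback_piLeft f a v hv B).isoPullback.inv w, ?_⟩
    have h3 := (isPullback_piLeft f a v hv B).isoPullback_inv_fst
    have h4 := congrArg (fun q => q w) h3
    exact h4.trans hw1
  · intro _
    exact MorphismProperty.of_isPullback (isPullback_piLeft f a v hv B).flip hPv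

include hK hPv hsv in
lemma sheaf_piB (B : Alg R) :
    (∀ x : M.val.obj (op ((Over.pullback f).obj ((specOver a).obj (op B)))),
      res K M (piB f a v hv B) x = 0 → x = 0) ∧
    (∀ y : M.val.obj (op ((specOver (v ≫ pullback.snd a f)).obj
        (op ((Alg.baseChange R A).obj B)))),
      (∀ (Z : Over T) (g g' : Z ⟶ (specOver (v ≫ pullback.snd a f)).obj
        (op ((Alg.baseChange R A).obj B))), g ≫ piB f a v hv B = g' ≫ piB f a v hv B →
        res K M g y = res K M g' y) →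
      ∃ x : M.val.obj (op ((Over.pullback f).obj ((specOver a).obj (op B)))),
        res K M (piB f a v hv B) x = y) := by
  obtain ⟨s1, s2⟩ := sheaf_arrows K M ((Over.pullback f).obj ((specOver a).obj (op B)))
    (fun _ : Unit => (specOver (v ≫ pullback.snd a f)).obj (op ((Alg.baseChange R A).obj B)))
    (fun _ : Unit => piB f a v hv B) (cover_piB K f a v hv P hK hPv hsv B)
  refine ⟨fun x hx => s1 x (fun _ => hx), fun y hy => ?_⟩
  obtain ⟨x, hx⟩ := s2 (fun _ => y) (fun _ _ Z g g' hgg => hy Z g g' hgg)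
  exact ⟨x, hx ()⟩

omit [BigSite.OSh K] in
include hK hPv' hsv' hh₁ hh₂ in
lemma over_chase (B : Alg R) (Z : Over T) (g g' : Z ⟶ (specOver (v ≫ pullback.snd a f)).obj
        (op ((Alg.baseChange R A).obj B))) (hgg : g ≫ piB f a v hv B = g' ≫ piB f a v hv B) :
    ∃ (Z'o : Over T) (zo : Z'o ⟶ Z)
      (wo : Z'o ⟶ (specOver t').obj (op ((Alg.baseChange R A').obj B))),
      Presieve.ofArrows (fun _ : Unit => Z'o.left) (fun _ : Unit => zo.left) ∈
        K.coverings Z.left ∧
      wo ≫ epsB h₁ (v ≫ pullback.snd a f) t' ht₁ B = zo ≫ g ∧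
      wo ≫ epsB h₂ (v ≫ pullback.snd a f) t' ht₂ B = zo ≫ g' := by
  obtain ⟨Z', z, w, hPz, hsz, e1, e2⟩ := chase f a v hv v' h₁ h₂ hh₁ hh₂ P hPv' hsv'
    B g.left g'.left (congrArg CommaMorphism.left hgg)
  have hwo : w ≫ ((specOver t').obj (op ((Alg.baseChange R A').obj B))).hom = z ≫ Z.hom := by
    have hw := Over.w (epsB h₁ (v ≫ pullback.snd a f) t' ht₁ B)
    have hg := Over.w g
    rw [← hw, ← hg]
    exact (Category.assoc _ _ _).symm.trans
      ((congrArg (fun q => q ≫ ((specOver (v ≫ pullback.snd a f)).obj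
        (op ((Alg.baseChange R A).obj B))).hom) e1).trans (Category.assoc _ _ _))
  refine ⟨Over.mk (z ≫ Z.hom), Over.homMk z rfl,
    Over.homMk (show (Over.mk (z ≫ Z.hom)).left ⟶ ((specOver t').obj
      (op ((Alg.baseChange R A').obj B))).left from w) hwo, ?_, ?_, ?_⟩
  · exact hK _ _ (fun x => by
      obtain ⟨y, hy⟩ := hsz x
      exact ⟨(), y, hy⟩) (fun _ => hPz)
  · exact Over.OverMorphism.ext e1
  · exact Over.OverMorphism.ext e2

omit f a in
lemma sep_transfer {W W' Z Z' : Over T} (e₁ e₂ : W' ⟶ W) (g g' : Z ⟶ W) (zo : Z' ⟶ Z)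
    (wo : Z' ⟶ W')
    (hcov : Presieve.ofArrows (fun _ : Unit => Z'.left) (fun _ : Unit => zo.left) ∈
        K.coverings Z.left)
    (eo1 : wo ≫ e₁ = zo ≫ g) (eo2 : wo ≫ e₂ = zo ≫ g') (y : M.val.obj (op W))
    (h' : res K M e₁ y = res K M e₂ y) :
    res K M g y = res K M g' y := by
  obtain ⟨s1, -⟩ := sheaf_arrows K M Z (fun _ : Unit => Z') (fun _ : Unit => zo) hcov
  have key : res K M zo (res K M g y) = res K M zo (res K M g' y) := by
    rw [← res_comp, ← res_comp, ← eo1, ← eo2, res_comp, res_comp, h']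
  have hzero := s1 (res K M g y - res K M g' y) (fun _ => by
    change res K M zo (res K M g y - res K M g' y) = 0
    rw [res_sub, key, sub_self])
  exact sub_eq_zero.1 hzero

include hK hPv' hsv' hh₁ hh₂ in
lemma compat_piB (B : Alg R)
    (y : M.val.obj (op ((specOver (v ≫ pullback.snd a f)).obj
        (op ((Alg.baseChange R A).obj B)))))
    (h' : res K M (epsB h₁ (v ≫ pullback.snd a f) t' ht₁ B) y =
      res K M (epsB h₂ (v ≫ pullback.snd a f) t' ht₂ B) y)
    (Z : Over T) (g g' : Z ⟶ (specOver (v ≫ pullback.snd a f)).obj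
        (op ((Alg.baseChange R A).obj B))) (hgg : g ≫ piB f a v hv B = g' ≫ piB f a v hv B) :
    res K M g y = res K M g' y := by
  obtain ⟨Z'o, zo, wo, hcov, eo1, eo2⟩ := over_chase K f a v hv v' h₁ h₂ hh₁ hh₂ P hK hPv' hsv'
    t' ht₁ ht₂ B Z g g' hgg
  exact sep_transfer K M _ _ g g' zo wo hcov eo1 eo2 y h'

lemma alpha_res (X : (Alg R)ᵒᵖᵒᵖ)
    (m : ((toMVF K a).obj ((BigSite.pushMod K f).obj M)).obj X) :
    (alpha K f M a v hv).app X m = res K M (piB f a v hv X.unop.unop) m := rfl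

omit f a in
lemma beta_res {A A' : Type u} [CommRing A] [CommRing A'] [Algebra R A] [Algebra R A']
    (h : A →ₐ[R] A') (t : Spec (CommRingCat.of A) ⟶ T) (t' : Spec (CommRingCat.of A') ⟶ T)
    (ht : Spec.map (CommRingCat.ofHom h.toRingHom) ≫ t = t') (X : (Alg R)ᵒᵖᵒᵖ)
    (m : ((push R A).obj ((toMVF K t).obj M)).obj X) :
    (beta K M h t t' ht).app X m = res K M (epsB h t t' ht X.unop.unop) m := rfl

include hv hh₁ hh₂ hK hPv hsv hPv' hsv' ht₁ ht₂ in
/-- the key step: `F_{f_* M, R}` is the kernel of `F_{M,A}(A ⊗ -) ⇉ F_{M,A'}(A' ⊗ -)` -/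
theorem adequate_push_aux
    (hU : adequate R ((push R A).obj ((toMVF K (v ≫ pullback.snd a f)).obj M)))
    (hV : adequate R ((push R A').obj ((toMVF K t').obj M))) :
    adequate R ((toMVF K a).obj ((BigSite.pushMod K f).obj M)) := by
  obtain ⟨e⟩ := iso_kernel_of_pointwise (alpha K f M a v hv)
    (beta K M h₁ (v ≫ pullback.snd a f) t' ht₁ - beta K M h₂ (v ≫ pullback.snd a f) t' ht₂) (by
    intro X
    refine (injective_iff_map_eq_zero ((alpha K f M a v hv).app X).hom).2 fun x hx => ?_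
    exact (sheaf_piB K f M a v hv P hK hPv hsv X.unop.unop).1 x
      ((alpha_res K f M a v hv X x).symm.trans hx)) (by
    intro X y
    have hsub : (beta K M h₁ (v ≫ pullback.snd a f) t' ht₁ -
        beta K M h₂ (v ≫ pullback.snd a f) t' ht₂).app X y =
      (beta K M h₁ (v ≫ pullback.snd a f) t' ht₁).app X y -
        (beta K M h₂ (v ≫ pullback.snd a f) t' ht₂).app X y := rfl
    rw [hsub, sub_eq_zero, beta_res, beta_res]
    constructor
    · intro h
      obtain ⟨x, hx⟩ := (sheaf_piB K f M a v hv P hK hPv hsv X.unop.unop).2 y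
        (compat_piB K f M a v hv v' h₁ h₂ hh₁ hh₂ P hK hPv' hsv' t' ht₁ ht₂ X.unop.unop y h)
      exact ⟨x, (alpha_res K f M a v hv X x).trans hx⟩
    · rintro ⟨x, rfl⟩
      rw [alpha_res, ← res_comp, ← res_comp,
        eps_pi f a v hv v' h₁ h₂ hh₁ hh₂ X.unop.unop t' ht₁ ht₂])
  exact (adequate R).prop_of_iso e.symm (AdeqH.adequate_kernel _ hU hV)

end Main

end Groth.Agent.Helper8.Adeq2F
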