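import Groth.Agent.Helper8.Adeq2F

universe u

open CategoryTheory CategoryTheory.Limits AlgebraicGeometry Opposite TensorProduct

namespace Groth.Agent.Helper8.Adeq2G

open Adeq Adeq2A Adeq2B AdeqE AdeqJ Adeq2D Adeq2E Adeq2F

/-- a quasi-compact scheme is dominated by an affine scheme via a surjective fppf map -/
lemma exists_affine_fppf (X : Scheme.{u}) [CompactSpace X] :
    ∃ (A : CommRingCat.{u}) (v : Spec A ⟶ X), Pfppf v ∧ ∀ x, ∃ y, v y = x := by
  obtain ⟨Y, p, hs, hP, hA⟩ := Scheme.exists_hom_isAffine_of_isZariskiLocalAtSource Pfppf X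
  refine ⟨Γ(Y, ⊤), Y.isoSpec.inv ≫ p, ?_, ?_⟩
  · exact (MorphismProperty.cancel_left_of_respectsIso Pfppf Y.isoSpec.inv p).2 hP
  · intro x
    obtain ⟨y, hy⟩ := hs.surj x
    refine ⟨Y.isoSpec.hom y, ?_⟩
    rw [← hy]
    simp [← Scheme.Hom.comp_apply]

lemma compactSpace_pullback_self {X : Scheme.{u}} {R A : CommRingCat.{u}} (p : X ⟶ Spec R)
    [QuasiSeparated p] (v : Spec A ⟶ X) : CompactSpace ↥(pullback v v) := by
  let e := pullbackDiagonalMapIdIso v v p
  haveI : CompactSpace ↥(pullback (pullback.diagonal p)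
      (pullback.map (v ≫ p) (v ≫ p) p p v v (𝟙 _) (by simp) (by simp))) := inferInstance
  exact (Scheme.homeoOfIso e).compactSpace

variable {S T : Scheme.{u}} (f : T ⟶ S) [QuasiCompact f] [QuasiSeparated f]

theorem adequate_push_affine (M : BigSite.Mod Scheme.fppfPrecoverage T)
    (hM : adequateMod Scheme.fppfPrecoverage T M) (R : CommRingCat.{u}) (a : Spec R ⟶ S) :
    adequate R ((toMVF Scheme.fppfPrecoverage a).obj
      ((BigSite.pushMod Scheme.fppfPrecoverage f).obj M)) := by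
  haveI : CompactSpace ↥(pullback a f) :=
    QuasiCompact.compactSpace_of_compactSpace (pullback.fst a f)
  obtain ⟨A, v, hPv, hsv⟩ := exists_affine_fppf (pullback a f)
  haveI : CompactSpace ↥(pullback v v) := compactSpace_pullback_self (pullback.fst a f) v
  obtain ⟨A', v', hPv', hsv'⟩ := exists_affine_fppf (pullback v v)
  let g₀ : R ⟶ A := Spec.preimage (v ≫ pullback.fst a f)
  let k₁ : A ⟶ A' := Spec.preimage (v' ≫ pullback.fst v v)
  let k₂ : A ⟶ A' := Spec.preimage (v' ≫ pullback.snd v v)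
  have hg₀ : Spec.map g₀ = v ≫ pullback.fst a f := Spec.map_preimage _
  have hk₁ : Spec.map k₁ = v' ≫ pullback.fst v v := Spec.map_preimage _
  have hk₂ : Spec.map k₂ = v' ≫ pullback.snd v v := Spec.map_preimage _
  have hk : g₀ ≫ k₂ = g₀ ≫ k₁ := by
    apply Spec.map_injective
    rw [Spec.map_comp, Spec.map_comp, hg₀, hk₁, hk₂, Category.assoc, Category.assoc,
      pullback.condition_assoc]
  letI : Algebra R A := g₀.hom.toAlgebra
  letI : Algebra R A' := (g₀ ≫ k₁).hom.toAlgebra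
  let h₁ : A →ₐ[R] A' := { toRingHom := k₁.hom, commutes' := fun r => rfl }
  let h₂ : A →ₐ[R] A' :=
    { toRingHom := k₂.hom
      commutes' := fun r => congrArg (fun q => q.hom r) hk }
  have hv : v ≫ pullback.fst a f = Spec.map (CommRingCat.ofHom (algebraMap R A)) := hg₀.symm
  have hh₁ : Spec.map (CommRingCat.ofHom h₁.toRingHom) = v' ≫ pullback.fst v v := hk₁
  have hh₂ : Spec.map (CommRingCat.ofHom h₂.toRingHom) = v' ≫ pullback.snd v v := hk₂
  have ht₂ : Spec.map (CommRingCat.ofHom h₂.toRingHom) ≫ v ≫ pullback.snd a f =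
      Spec.map (CommRingCat.ofHom h₁.toRingHom) ≫ v ≫ pullback.snd a f := by
    rw [hh₁, hh₂, Category.assoc, Category.assoc, pullback.condition_assoc]
  refine adequate_push_aux Scheme.fppfPrecoverage f M a v hv v' h₁ h₂ hh₁ hh₂ Pfppf
    (fun Y f h1 h2 => mem_fppf_iff.2 ⟨h1, h2⟩) hPv hsv hPv' hsv' _ rfl ht₂ ?_ ?_
  · exact AdeqC.adequate_push _ (Adeq2D.main_fppf M hM _ _)
  · exact AdeqC.adequate_push _ (Adeq2D.main_fppf M hM _ _)

theorem main_push (M : BigSite.Mod Scheme.fppfPrecoverage T)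
    (hM : adequateMod Scheme.fppfPrecoverage T M) :
    adequateMod Scheme.fppfPrecoverage S ((BigSite.pushMod Scheme.fppfPrecoverage f).obj M) := by
  obtain ⟨I, Rr, c, hc, hcs⟩ := exists_affine_cover S
  refine ⟨I, Rr, c, mem_fppf_iff.2 ⟨hcs, fun i => ?_⟩, fun i => adequate_push_affine f M hM _ _⟩
  haveI := hc i
  exact ⟨inferInstance, inferInstance⟩

end Groth.Agent.Helper8.Adeq2G
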