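import Groth.Agent.Helper8.AdeqJ
import Mathlib.RingTheory.TensorProduct.IncludeLeftSubRight
import Mathlib.RingTheory.Flat.FaithfullyFlat.Algebra

universe v u

open CategoryTheory Opposite Limits TensorProduct

namespace Groth.Agent.Helper8.AdeqS

open Adeq AdeqA AdeqE AdeqJ

section Descent

variable (R : Type u) [CommRing R] (B : Type u) [CommRing B] [Algebra R B]
  (M : Type v) [AddCommGroup M] [Module R M]

/-- `m ↦ 1 ⊗ m` -/
noncomputable def f1 : M →ₗ[R] B ⊗[R] M := TensorProduct.mk R B M 1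

/-- `(b ↦ b ⊗ 1 - 1 ⊗ b) ⊗ M` -/
noncomputable def g1 : B ⊗[R] M →ₗ[R] (B ⊗[R] B) ⊗[R] M :=
  (Algebra.TensorProduct.includeLeftSubRight R B).rTensor M

lemma g1_f1 : g1 R B M ∘ₗ f1 R B M = 0 := by
  ext m
  simp [f1, g1]

noncomputable def s0 : B ⊗[R] (B ⊗[R] M) →ₗ[R] B ⊗[R] M :=
  (LinearMap.mul' R B).rTensor M ∘ₗ (TensorProduct.assoc R B B M).symm.toLinearMap

noncomputable def s1 : B ⊗[R] ((B ⊗[R] B) ⊗[R] M) →ₗ[R] B ⊗[R] (B ⊗[R] M) :=
  (TensorProduct.assoc R B B M).toLinearMap ∘ₗ ((LinearMap.mul' R B).rTensor B).rTensor M ∘ₗ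
    ((TensorProduct.assoc R B B B).symm.toLinearMap).rTensor M ∘ₗ
      (TensorProduct.assoc R B (B ⊗[R] B) M).symm.toLinearMap

lemma homotopy_apply (t b : B) (m : M) :
    (f1 R B M).lTensor B (s0 R B M (t ⊗ₜ (b ⊗ₜ m))) -
      s1 R B M ((g1 R B M).lTensor B (t ⊗ₜ (b ⊗ₜ m))) = t ⊗ₜ (b ⊗ₜ m) := by
  simp [f1, g1, s0, s1, TensorProduct.tmul_sub, TensorProduct.sub_tmul]

lemma homotopy (z : B ⊗[R] (B ⊗[R] M)) :
    (f1 R B M).lTensor B (s0 R B M z) - s1 R B M ((g1 R B M).lTensor B z) = z := by
  induction z using TensorProduct.induction_on with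
  | zero => simp
  | tmul t y =>
    induction y using TensorProduct.induction_on with
    | zero => simp
    | tmul b m => exact homotopy_apply R B M t b m
    | add y y' hy hy' =>
      rw [TensorProduct.tmul_add, map_add, map_add, map_add, map_add]
      rw [add_sub_add_comm, hy, hy']
  | add z z' hz hz' =>
    rw [map_add, map_add, map_add, map_add, add_sub_add_comm, hz, hz']

theorem exact_f1_g1 [Module.FaithfullyFlat R B] : Function.Exact (f1 R B M) (g1 R B M) := by
  apply Module.FaithfullyFlat.lTensor_reflects_exact R B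
  intro z
  constructor
  · intro hz
    refine ⟨s0 R B M z, ?_⟩
    have h := homotopy R B M z
    rw [hz, map_zero, sub_zero] at h
    exact h
  · rintro ⟨w, rfl⟩
    rw [← LinearMap.comp_apply, ← LinearMap.lTensor_comp, g1_f1, LinearMap.lTensor_zero,
      LinearMap.zero_apply]

lemma f1_injective [Module.FaithfullyFlat R B] : Function.Injective (f1 R B M) :=
  Module.FaithfullyFlat.tensorProduct_mk_injective (A := R) (B := B) M

lemma ofId_rTensor (w : R ⊗[R] M) :
    (Algebra.ofId R B).toLinearMap.rTensor M w = f1 R B M (TensorProduct.lid R M w) := by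
  induction w using TensorProduct.induction_on with
  | zero => simp
  | tmul a m =>
    simp only [LinearMap.rTensor_tmul, AlgHom.toLinearMap_apply, TensorProduct.lid_tmul, f1,
      TensorProduct.mk_apply, TensorProduct.tmul_smul]
    rw [Algebra.ofId_apply, Algebra.algebraMap_eq_smul_one, TensorProduct.smul_tmul']
  | add w w' h h' => rw [map_add, map_add, map_add, h, h']

end Descent

variable {A : Type u} [CommRing A]

theorem amitsur_adequate (F : MVF A) (hF : adequate A F) (B : Type u) [CommRing B] [Algebra A B]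
    [Module.FaithfullyFlat A B] :
    Function.Injective (F.map
        (ptHom (CommAlgCat.ofHom (Algebra.ofId A B) : algOf A A ⟶ algOf A B))) ∧
      ∀ y : F.obj (pt (algOf A B)),
        F.map (ptHom (CommAlgCat.ofHom
            (Algebra.TensorProduct.includeLeft : B →ₐ[A] B ⊗[A] B) :
              algOf A B ⟶ algOf A (B ⊗[A] B))) y =
          F.map (ptHom (CommAlgCat.ofHom
            (Algebra.TensorProduct.includeRight : B →ₐ[A] B ⊗[A] B) :
              algOf A B ⟶ algOf A (B ⊗[A] B))) y →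
        y ∈ Set.range (F.map
          (ptHom (CommAlgCat.ofHom (Algebra.ofId A B) : algOf A A ⟶ algOf A B))) := by
  obtain ⟨M, N, φ, ι, hK⟩ := (adequate_iff F).1 hF
  let e₀ : algOf A A ⟶ algOf A B := CommAlgCat.ofHom (Algebra.ofId A B)
  let eL : algOf A B ⟶ algOf A (B ⊗[A] B) :=
    CommAlgCat.ofHom (Algebra.TensorProduct.includeLeft : B →ₐ[A] B ⊗[A] B)
  let eR : algOf A B ⟶ algOf A (B ⊗[A] B) :=
    CommAlgCat.ofHom (Algebra.TensorProduct.includeRight : B →ₐ[A] B ⊗[A] B)
  have hnat : ∀ x : F.obj (pt (algOf A A)),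
      ι.app (pt (algOf A B)) (tr F e₀ x) =
        f1 A B M (TensorProduct.lid A M (ι.app (pt (algOf A A)) x)) := by
    intro x
    rw [tr_nat, tr_underline]
    exact ofId_rTensor A B M _
  constructor
  · intro x x' hxx
    have h1 : tr F e₀ x = tr F e₀ x' := hxx
    have h2 := congrArg (fun t => ι.app (pt (algOf A B)) t) h1
    simp only [hnat] at h2
    exact hK.inj _ ((TensorProduct.lid A M).injective (f1_injective A B M h2))
  · intro y hy
    have hy' : tr F eL y = tr F eR y := hy
    let z : B ⊗[A] M := ι.app (pt (algOf A B)) y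
    have hz : g1 A B M z = 0 := by
      have h2 : ι.app (pt (algOf A (B ⊗[A] B))) (tr F eL y) =
          ι.app (pt (algOf A (B ⊗[A] B))) (tr F eR y) := congrArg _ hy'
      rw [tr_nat, tr_nat, tr_underline, tr_underline] at h2
      change ((Algebra.TensorProduct.includeLeft : B →ₐ[A] B ⊗[A] B).toLinearMap.rTensor M) z =
        ((Algebra.TensorProduct.includeRight : B →ₐ[A] B ⊗[A] B).toLinearMap.rTensor M) z at h2
      unfold g1 Algebra.TensorProduct.includeLeftSubRight
      rw [LinearMap.rTensor_sub, LinearMap.sub_apply, h2, sub_self]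
    obtain ⟨m, hm⟩ := (exact_f1_g1 A B M z).1 hz
    have hφ : φ.hom m = 0 := by
      have h3 : ((underline A).map φ).app (pt (algOf A B)) z = 0 :=
        (hK.exact (pt (algOf A B)) z).2 ⟨y, rfl⟩
      have h4 : (φ.hom.baseChange B) z = 0 := h3
      rw [← hm] at h4
      have h5 : f1 A B N (φ.hom m) = 0 := by
        simpa [f1] using h4
      exact f1_injective A B N (h5.trans (map_zero _).symm)
    let w : A ⊗[A] M := (1 : A) ⊗ₜ m
    have hw : ((underline A).map φ).app (pt (algOf A A)) w = 0 := by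
      change (φ.hom.baseChange A) ((1 : A) ⊗ₜ m) = 0
      rw [LinearMap.baseChange_tmul, hφ, TensorProduct.tmul_zero]
    obtain ⟨x, hx⟩ := (hK.exact (pt (algOf A A)) w).1 hw
    refine ⟨x, ?_⟩
    apply hK.inj (pt (algOf A B))
    change ι.app (pt (algOf A B)) (tr F e₀ x) = z
    rw [hnat, hx, ← hm]
    simp [w]

end Groth.Agent.Helper8.AdeqS
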