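import Groth.Agent.Helper8.SigSheaf
import Groth.Agent.Helper8.Adeq2G
import Groth.Agent.Helper8.AdeqS
import Mathlib.AlgebraicGeometry.Sites.SheafQuasiCompact
import Mathlib.AlgebraicGeometry.Sites.Fpqc

universe u

open CategoryTheory CategoryTheory.Limits AlgebraicGeometry Opposite TensorProduct

namespace Groth.Agent.Helper8.Adeq2H

open Adeq Adeq2A Adeq2B AdeqE AdeqJ Adeq2D Adeq2F

variable (K : Precoverage Scheme.{u}) [BigSite.OSh K] {S : Scheme.{u}} (M : BigSite.Mod K S)
  {R : CommRingCat.{u}} (a : Spec R ⟶ S)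

lemma res_id {W : Over S} (y : M.val.obj (op W)) : res K M (𝟙 W) y = y := by
  unfold res
  rw [show (𝟙 W).op = 𝟙 (op W) from rfl, M.val.map_id]
  rfl

/-- `F.map` in terms of restriction -/
lemma toMVF_map_res {B B' : Alg R} (φ : B ⟶ B') (y : ((toMVF K a).obj M).obj (pt B)) :
    ((toMVF K a).obj M).map (ptHom φ) y = res K M ((specOver a).map φ.op) y := rfl

/-- the comparison `Over.mk a ⟶ specOver a R` -/
noncomputable def e0 : Over.mk a ⟶ (specOver a).obj (op (algOf R R)) :=
  Over.homMk (show (Over.mk a).left ⟶ ((specOver a).obj (op (algOf R R))).left from 𝟙 (Spec R)) (by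
    have h : Spec.map (CommRingCat.ofHom (algebraMap R R)) = 𝟙 (Spec R) := Spec.map_id R
    change 𝟙 (Spec R) ≫ Spec.map (CommRingCat.ofHom (algebraMap R R)) ≫ a = a
    rw [h, Category.id_comp, Category.id_comp])

/-- the comparison `specOver a R ⟶ Over.mk a` -/
noncomputable def e0' : (specOver a).obj (op (algOf R R)) ⟶ Over.mk a :=
  Over.homMk (show ((specOver a).obj (op (algOf R R))).left ⟶ (Over.mk a).left from 𝟙 (Spec R)) (by
    have h : Spec.map (CommRingCat.ofHom (algebraMap R R)) = 𝟙 (Spec R) := Spec.map_id R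
    change 𝟙 (Spec R) ≫ a = Spec.map (CommRingCat.ofHom (algebraMap R R)) ≫ a
    rw [h])

lemma e0_e0' : e0 a ≫ e0' a = 𝟙 _ := by
  apply Over.OverMorphism.ext
  exact Category.id_comp _

lemma e0'_e0 : e0' a ≫ e0 a = 𝟙 _ := by
  apply Over.OverMorphism.ext
  exact Category.id_comp _

/-- faithfully flat descent for the sections of a module whose associated functor is adequate -/
theorem descent_affine (hF : adequate R ((toMVF K a).obj M)) (B : Type u) [CommRing B]
    [Algebra R B] [Module.FaithfullyFlat R B]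
    (π : (specOver a).obj (op (algOf R B)) ⟶ Over.mk a)
    (hπ : π.left = Spec.map (CommRingCat.ofHom (algebraMap R B))) :
    (∀ x x' : M.val.obj (op (Over.mk a)), res K M π x = res K M π x' → x = x') ∧
    (∀ y : M.val.obj (op ((specOver a).obj (op (algOf R B)))),
      (∀ (Z : Over S) (g g' : Z ⟶ (specOver a).obj (op (algOf R B))), g ≫ π = g' ≫ π →
        res K M g y = res K M g' y) →
      ∃ x : M.val.obj (op (Over.mk a)), res K M π x = y) := by
  obtain ⟨hinj, hglue⟩ := AdeqS.amitsur_adequate ((toMVF K a).obj M) hF B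
  let φ₀ : algOf R R ⟶ algOf R B := CommAlgCat.ofHom (Algebra.ofId R B)
  let φ₁ : algOf R B ⟶ algOf R (B ⊗[R] B) :=
    CommAlgCat.ofHom (Algebra.TensorProduct.includeLeft : B →ₐ[R] B ⊗[R] B)
  let φ₂ : algOf R B ⟶ algOf R (B ⊗[R] B) :=
    CommAlgCat.ofHom (Algebra.TensorProduct.includeRight : B →ₐ[R] B ⊗[R] B)
  let ρ : (specOver a).obj (op (algOf R B)) ⟶ (specOver a).obj (op (algOf R R)) :=
    (specOver a).map φ₀.op
  have hρ : π = ρ ≫ e0' a := by
    apply Over.OverMorphism.ext
    rw [hπ]
    exact (Category.comp_id _).symm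
  have h2 : ∀ z : M.val.obj (op (Over.mk a)), res K M (e0 a) (res K M (e0' a) z) = z := by
    intro z
    rw [← res_comp, e0_e0', res_id]
  have h2' : ∀ z : M.val.obj (op ((specOver a).obj (op (algOf R R)))),
      res K M (e0' a) (res K M (e0 a) z) = z := by
    intro z
    rw [← res_comp, e0'_e0, res_id]
  constructor
  · intro x x' hxx
    have h1 : res K M (e0' a) x = res K M (e0' a) x' := by
      apply hinj
      change res K M ρ (res K M (e0' a) x) = res K M ρ (res K M (e0' a) x')
      rw [← res_comp, ← res_comp, ← hρ]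
      exact hxx
    rw [← h2 x, ← h2 x', h1]
  · intro y hy
    have h12 : φ₀ ≫ φ₁ = φ₀ ≫ φ₂ := by
      apply CommAlgCat.hom_ext
      exact Subsingleton.elim _ _
    have h3 : (specOver a).map φ₁.op ≫ π = (specOver a).map φ₂.op ≫ π := by
      rw [hρ, ← Category.assoc, ← Category.assoc]
      congr 1
      change (specOver a).map φ₁.op ≫ (specOver a).map φ₀.op =
        (specOver a).map φ₂.op ≫ (specOver a).map φ₀.op
      rw [← Functor.map_comp, ← Functor.map_comp, ← op_comp, ← op_comp, h12]
    obtain ⟨z, hz⟩ := hglue y (hy _ _ _ h3)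
    refine ⟨res K M (e0 a) z, ?_⟩
    rw [hρ, res_comp, h2']
    exact hz

omit [BigSite.OSh K] in
lemma yoneda_isSheafFor {R' S' : CommRingCat.{u}} (f : R' ⟶ S') (hf : Flat (Spec.map f))
    (hs : Surjective (Spec.map f)) (X : Scheme.{u}) :
    Presieve.IsSheafFor (yoneda.obj X) (Presieve.singleton (Spec.map f)) := by
  have h : Presieve.IsSheaf (Scheme.propQCTopology @Flat) (yoneda.obj X) :=
    GrothendieckTopology.Subcanonical.isSheaf_of_isRepresentable
      (J := Scheme.fpqcTopology) (yoneda.obj X)
  exact ((isSheaf_type_propQCTopology_iff _).1 h).2 f hf hs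

/-- an `O`-module on a big site finer than the Zariski site, all of whose associated functors on
affine objects are adequate, is a sheaf for the fpqc topology -/
theorem isSheaf_fpqc (hzar : Scheme.zariskiPrecoverage ≤ K)
    (had : ∀ (R : CommRingCat.{u}) (a : Spec R ⟶ S), adequate R ((toMVF K a).obj M)) :
    Presheaf.IsSheaf (QuotSh.J Scheme.fpqcPrecoverage S) ((BigSite.toAbMod K S).obj M).obj := by
  have hsh : Presheaf.IsSheaf (QuotSh.J K S) M.val.presheaf := M.isSheaf
  rw [Presheaf.isSheaf_iff_isSheaf_forget _ _ (forget AddCommGrpCat.{u+1}),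
    isSheaf_iff_isSheaf_of_type] at hsh ⊢
  apply SigSheaf.isSheaf_over_of_sigF S _ Scheme.fpqcTopology
  · exact (GrothendieckTopology.Subcanonical.isSheaf_of_isRepresentable
      (J := Scheme.fpqcTopology) (yoneda.obj S)).isSeparated
  · rw [Scheme.fpqcTopology_eq_propQCTopology, isSheaf_type_propQCTopology_iff]
    constructor
    · apply SigSheaf.isSheaf_sigF_of_over S _ Scheme.zariskiTopology
      · exact GrothendieckTopology.Subcanonical.isSheaf_of_isRepresentable
          (J := Scheme.zariskiTopology) (yoneda.obj S)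
      · exact Presieve.isSheaf_of_le _ (BigSite.J_mono hzar S) hsh
    · intro R' S' f hf hs
      apply SigSheaf.isSheafFor_sigF_singleton
      · exact yoneda_isSheafFor f hf hs S
      · intro g
        rw [Presieve.isSheafFor_arrows_iff]
        intro y hy
        letI : Algebra R' S' := f.hom.toAlgebra
        haveI : Module.FaithfullyFlat R' S' := (flat_and_surjective_SpecMap_iff f).1 ⟨hf, hs⟩
        obtain ⟨hinj, hglue⟩ := descent_affine K M g (had R' g) S'
          (Over.homMk (Spec.map f) rfl : Over.mk (Spec.map f ≫ g) ⟶ Over.mk g) rfl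
        obtain ⟨x, hx⟩ := hglue (y ()) (fun Z k k' hkk => hy () () Z k k' hkk)
        refine ⟨x, fun _ => hx, fun x' hx' => ?_⟩
        exact hinj x' x ((hx' ()).trans hx.symm)

end Groth.Agent.Helper8.Adeq2H
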