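import Groth.Agent.Helper8.AdeqS
import Mathlib.LinearAlgebra.TensorProduct.Pi
import Mathlib.RingTheory.RingHom.FaithfullyFlat

universe u

open CategoryTheory Opposite Limits TensorProduct

namespace Groth.Agent.Helper8.Adeq2I

open Adeq AdeqA AdeqE AdeqJ

variable {A : Type u} [CommRing A] {ι : Type} [Fintype ι] [DecidableEq ι] (C : ι → Type u)
  [∀ k, CommRing (C k)] [∀ k, Algebra A (C k)]

/-- projection `∏ C → C k` as a morphism of `Alg A` -/
def prK (k : ι) : algOf A (∀ k, C k) ⟶ algOf A (C k) := CommAlgCat.ofHom (Pi.evalAlgHom A C k)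

lemma piLeft_apply (M : Type*) [AddCommGroup M] [Module A M] (z : (∀ k, C k) ⊗[A] M) (k : ι) :
    TensorProduct.piLeft A M C z k = (Pi.evalAlgHom A C k).toLinearMap.rTensor M z := by
  induction z using TensorProduct.induction_on with
  | zero => simp
  | tmul f m => simp
  | add w w' h h' => rw [map_add, map_add, Pi.add_apply, h, h']

lemma rTensor_joint_injective (M : Type*) [AddCommGroup M] [Module A M] (z : (∀ k, C k) ⊗[A] M)
    (hz : ∀ k, (Pi.evalAlgHom A C k).toLinearMap.rTensor M z = 0) : z = 0 := by
  apply (TensorProduct.piLeft A M C).injective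
  rw [map_zero]
  funext k
  rw [piLeft_apply, hz k]
  rfl

lemma rTensor_joint_surjective (M : Type*) [AddCommGroup M] [Module A M]
    (w : ∀ k, C k ⊗[A] M) :
    ∃ z : (∀ k, C k) ⊗[A] M, ∀ k, (Pi.evalAlgHom A C k).toLinearMap.rTensor M z = w k := by
  refine ⟨(TensorProduct.piLeft A M C).symm w, fun k => ?_⟩
  rw [← piLeft_apply, LinearEquiv.apply_symm_apply]

/-- an adequate functor commutes with finite products of algebras -/
theorem product_property (F : MVF A) (hF : adequate A F) :
    (∀ z : F.obj (pt (algOf A (∀ k, C k))), (∀ k, tr F (prK C k) z = 0) → z = 0) ∧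
    (∀ y : ∀ k, F.obj (pt (algOf A (C k))),
      ∃ z : F.obj (pt (algOf A (∀ k, C k))), ∀ k, tr F (prK C k) z = y k) := by
  obtain ⟨M, N, φ, ι', hK⟩ := (adequate_iff F).1 hF
  constructor
  · intro z hz
    apply hK.inj (pt (algOf A (∀ k, C k)))
    rw [map_zero]
    apply rTensor_joint_injective C M
    intro k
    have h1 := tr_nat ι' (prK C k) z
    rw [hz k, map_zero, tr_underline] at h1
    exact h1.symm
  · intro y
    obtain ⟨w, hw⟩ := rTensor_joint_surjective C M (fun k => ι'.app (pt (algOf A (C k))) (y k))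
    have h0 : ((underline A).map φ).app (pt (algOf A (∀ k, C k))) w = 0 := by
      apply rTensor_joint_injective C N
      intro k
      have h1 := tr_nat ((underline A).map φ) (prK C k) w
      rw [tr_underline, tr_underline] at h1
      change (Pi.evalAlgHom A C k).toLinearMap.rTensor N
        (((underline A).map φ).app (pt (algOf A (∀ k, C k))) w) = 0
      have h2 : (prK C k).hom.toLinearMap.rTensor M w = ι'.app (pt (algOf A (C k))) (y k) := hw k
      rw [h2] at h1
      exact h1.symm.trans ((hK.exact (pt (algOf A (C k))) _).2 ⟨y k, rfl⟩)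
    obtain ⟨z, hz⟩ := (hK.exact (pt (algOf A (∀ k, C k))) w).1 h0
    refine ⟨z, fun k => ?_⟩
    apply hK.inj (pt (algOf A (C k)))
    rw [tr_nat, hz, tr_underline]
    exact hw k

/-- a finite product of flat algebras which is jointly surjective on spectra is faithfully flat -/
theorem faithfullyFlat_pi (hflat : ∀ k, Module.Flat A (C k))
    (hsurj : ∀ p : PrimeSpectrum A, ∃ (k : ι) (q : PrimeSpectrum (C k)),
      PrimeSpectrum.comap (algebraMap A (C k)) q = p) :
    Module.FaithfullyFlat A (∀ k, C k) := by
  haveI : Module.Flat A (∀ k, C k) :=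
    Module.Flat.of_linearEquiv (DFinsupp.linearEquivFunOnFintype (R := A) (M := C)).symm
  apply Module.FaithfullyFlat.of_comap_surjective
  intro p
  obtain ⟨k, q, hq⟩ := hsurj p
  refine ⟨PrimeSpectrum.comap (Pi.evalRingHom C k) q, ?_⟩
  rw [← PrimeSpectrum.comap_comp_apply]
  exact hq

end Groth.Agent.Helper8.Adeq2I
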