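import Groth.Agent.Helper8.Adeq2H
import Groth.Agent.Helper8.Adeq2I
import Mathlib.Algebra.Category.ModuleCat.Presheaf.Sheafification

universe u

open CategoryTheory CategoryTheory.Limits AlgebraicGeometry Opposite TensorProduct

namespace Groth.Agent.Helper8.Adeq2J

open Adeq Adeq2A Adeq2B AdeqE AdeqJ Adeq2D Adeq2F Adeq2H Adeq2I

section Pre

variable (K : Precoverage Scheme.{u}) [BigSite.OSh K] {S : Scheme.{u}}
  (P : PresheafOfModules.{u+1} (BigSite.ORing K S).obj)

/-- restriction of sections of a presheaf of modules on the big site -/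
noncomputable def resP {W W' : Over S} (e : W' ⟶ W) (y : P.obj (op W)) : P.obj (op W') :=
  P.map e.op y

lemma resP_comp {W W' W'' : Over S} (e : W' ⟶ W) (e' : W'' ⟶ W') (y : P.obj (op W)) :
    resP K P (e' ≫ e) y = resP K P e' (resP K P e y) :=
  PresheafOfModules.map_comp_apply P e.op e'.op y

lemma resP_id {W : Over S} (y : P.obj (op W)) : resP K P (𝟙 W) y = y := by
  unfold resP
  rw [show (𝟙 W).op = 𝟙 (op W) from rfl, P.map_id]
  rfl

lemma resP_sub {W W' : Over S} (e : W' ⟶ W) (y y' : P.obj (op W)) :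
    resP K P e (y - y') = resP K P e y - resP K P e y' :=
  map_sub (P.map e.op).hom y y'

lemma resP_zero {W W' : Over S} (e : W' ⟶ W) : resP K P e (0 : P.obj (op W)) = 0 :=
  map_zero (P.map e.op).hom

variable {R : CommRingCat.{u}} (a : Spec R ⟶ S)

lemma toMVFPre_map_resP {B B' : Alg R} (φ : B ⟶ B') (y : ((toMVFPre K a).obj P).obj (pt B)) :
    ((toMVFPre K a).obj P).map (ptHom φ) y = resP K P ((specOver a).map φ.op) y := rfl

/-- the two inclusions into the tensor square become equal after the structure map -/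
lemma incl_comp_eq (B : Type u) [CommRing B] [Algebra R B]
    (π : (specOver a).obj (op (algOf R B)) ⟶ Over.mk a)
    (hπ : π.left = Spec.map (CommRingCat.ofHom (algebraMap R B))) :
    (specOver a).map (CommAlgCat.ofHom
        (Algebra.TensorProduct.includeLeft : B →ₐ[R] B ⊗[R] B) :
          algOf R B ⟶ algOf R (B ⊗[R] B)).op ≫ π =
      (specOver a).map (CommAlgCat.ofHom
        (Algebra.TensorProduct.includeRight : B →ₐ[R] B ⊗[R] B) :
          algOf R B ⟶ algOf R (B ⊗[R] B)).op ≫ π := by
  let φ₀ : algOf R R ⟶ algOf R B := CommAlgCat.ofHom (Algebra.ofId R B)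
  let φ₁ : algOf R B ⟶ algOf R (B ⊗[R] B) :=
    CommAlgCat.ofHom (Algebra.TensorProduct.includeLeft : B →ₐ[R] B ⊗[R] B)
  let φ₂ : algOf R B ⟶ algOf R (B ⊗[R] B) :=
    CommAlgCat.ofHom (Algebra.TensorProduct.includeRight : B →ₐ[R] B ⊗[R] B)
  have hρ : π = (specOver a).map φ₀.op ≫ e0' a := by
    apply Over.OverMorphism.ext
    rw [hπ]
    exact (Category.comp_id _).symm
  have h12 : φ₀ ≫ φ₁ = φ₀ ≫ φ₂ := by
    apply CommAlgCat.hom_ext
    exact Subsingleton.elim _ _
  rw [hρ, ← Category.assoc, ← Category.assoc]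
  congr 1
  change (specOver a).map φ₁.op ≫ (specOver a).map φ₀.op =
    (specOver a).map φ₂.op ≫ (specOver a).map φ₀.op
  rw [← Functor.map_comp, ← Functor.map_comp, ← op_comp, ← op_comp, h12]

/-- faithfully flat descent for sections of a presheaf of modules with adequate `F_{P,R}` -/
theorem descent_affine_pre (hF : adequate R ((toMVFPre K a).obj P)) (B : Type u) [CommRing B]
    [Algebra R B] [Module.FaithfullyFlat R B]
    (π : (specOver a).obj (op (algOf R B)) ⟶ Over.mk a)
    (hπ : π.left = Spec.map (CommRingCat.ofHom (algebraMap R B))) :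
    (∀ x : P.obj (op (Over.mk a)), resP K P π x = 0 → x = 0) ∧
    (∀ y : P.obj (op ((specOver a).obj (op (algOf R B)))),
      resP K P ((specOver a).map (CommAlgCat.ofHom
        (Algebra.TensorProduct.includeLeft : B →ₐ[R] B ⊗[R] B) :
          algOf R B ⟶ algOf R (B ⊗[R] B)).op) y =
      resP K P ((specOver a).map (CommAlgCat.ofHom
        (Algebra.TensorProduct.includeRight : B →ₐ[R] B ⊗[R] B) :
          algOf R B ⟶ algOf R (B ⊗[R] B)).op) y →
      ∃ x : P.obj (op (Over.mk a)), resP K P π x = y) := by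
  obtain ⟨hinj, hglue⟩ := AdeqS.amitsur_adequate ((toMVFPre K a).obj P) hF B
  let φ₀ : algOf R R ⟶ algOf R B := CommAlgCat.ofHom (Algebra.ofId R B)
  let ρ : (specOver a).obj (op (algOf R B)) ⟶ (specOver a).obj (op (algOf R R)) :=
    (specOver a).map φ₀.op
  have hρ : π = ρ ≫ e0' a := by
    apply Over.OverMorphism.ext
    rw [hπ]
    exact (Category.comp_id _).symm
  have h2 : ∀ z : P.obj (op (Over.mk a)), resP K P (e0 a) (resP K P (e0' a) z) = z := by
    intro z
    rw [← resP_comp, e0_e0', resP_id]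
  have h2' : ∀ z : P.obj (op ((specOver a).obj (op (algOf R R)))),
      resP K P (e0' a) (resP K P (e0 a) z) = z := by
    intro z
    rw [← resP_comp, e0'_e0, resP_id]
  constructor
  · intro x hx
    have h1 : resP K P (e0' a) x = resP K P (e0' a) 0 := by
      apply hinj
      change resP K P ρ (resP K P (e0' a) x) = resP K P ρ (resP K P (e0' a) 0)
      rw [← resP_comp, ← resP_comp, ← hρ, hx, resP_zero]
    rw [← h2 x, h1, resP_zero, resP_zero]
  · intro y hy
    obtain ⟨z, hz⟩ := hglue y hy
    refine ⟨resP K P (e0 a) z, ?_⟩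
    rw [hρ, resP_comp, h2']
    exact hz

/-- sections of a presheaf of modules with adequate `F_{P,R}` over a finite product of algebras -/
theorem product_pre (hF : adequate R ((toMVFPre K a).obj P)) {ι : Type} [Fintype ι]
    [DecidableEq ι] (C : ι → Type u) [∀ k, CommRing (C k)] [∀ k, Algebra R (C k)] :
    (∀ z : P.obj (op ((specOver a).obj (op (algOf R (∀ k, C k))))),
      (∀ k, resP K P ((specOver a).map (prK C k).op) z = 0) → z = 0) ∧
    (∀ y : ∀ k, P.obj (op ((specOver a).obj (op (algOf R (C k))))),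
      ∃ z : P.obj (op ((specOver a).obj (op (algOf R (∀ k, C k))))),
        ∀ k, resP K P ((specOver a).map (prK C k).op) z = y k) :=
  product_property C ((toMVFPre K a).obj P) hF

end Pre

section Sheafification

variable (K : Precoverage Scheme.{u}) [BigSite.OSh K] {S : Scheme.{u}}
  (P : PresheafOfModules.{u+1} (BigSite.ORing K S).obj)

/-- the sheafification of a presheaf of modules on the big site -/
noncomputable abbrev shf : BigSite.Mod K S :=
  (PresheafOfModules.sheafification (𝟙 (BigSite.ORing K S).obj)).obj P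

/-- the canonical map to the sheafification on sections -/
noncomputable def etaAt (W : Over S) (x : P.obj (op W)) : (shf K P).val.obj (op W) :=
  (CategoryTheory.toSheafify (QuotSh.J K S) P.presheaf).app (op W) x

/-- the canonical map to the sheafification as a morphism of presheaves of modules -/
noncomputable def psi : P ⟶ (shf K P).val :=
  PresheafOfModules.homMk (CategoryTheory.toSheafify (QuotSh.J K S) P.presheaf) (fun X r m =>
    ((PresheafOfModules.toSheafify (𝟙 (BigSite.ORing K S).obj)
      (CategoryTheory.toSheafify (QuotSh.J K S) P.presheaf)).app X).hom.map_smul r m)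

lemma psi_app (W : Over S) (x : P.obj (op W)) : (psi K P).app (op W) x = etaAt K P W x := rfl

lemma etaAt_res {W W' : Over S} (e : W' ⟶ W) (x : P.obj (op W)) :
    etaAt K P W' (resP K P e x) = res K (shf K P) e (etaAt K P W x) :=
  NatTrans.naturality_apply (CategoryTheory.toSheafify (QuotSh.J K S) P.presheaf) e.op x

lemma etaAt_sub (W : Over S) (x x' : P.obj (op W)) :
    etaAt K P W (x - x') = etaAt K P W x - etaAt K P W x' :=
  map_sub ((CategoryTheory.toSheafify (QuotSh.J K S) P.presheaf).app (op W)).hom x x'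

lemma etaAt_zero (W : Over S) : etaAt K P W 0 = 0 :=
  map_zero ((CategoryTheory.toSheafify (QuotSh.J K S) P.presheaf).app (op W)).hom

lemma etaAt_locinj (W : Over S) (x : P.obj (op W)) (h : etaAt K P W x = 0) :
    ∃ T : Sieve W, T ∈ QuotSh.J K S W ∧
      ∀ {V : Over S} (f : V ⟶ W), T f → resP K P f x = 0 := by
  refine ⟨Presheaf.equalizerSieve (F := P.presheaf) (X := op W) x 0,
    Presheaf.equalizerSieve_mem (QuotSh.J K S)
      (CategoryTheory.toSheafify (QuotSh.J K S) P.presheaf) x 0 ?_, ?_⟩
  · exact h.trans (etaAt_zero K P W).symm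
  · intro V f hf
    have h1 : resP K P f x = resP K P f 0 := hf
    rw [h1, resP_zero]

lemma etaAt_locsurj (W : Over S) (y : (shf K P).val.obj (op W)) :
    ∃ T : Sieve W, T ∈ QuotSh.J K S W ∧
      ∀ {V : Over S} (f : V ⟶ W), T f → ∃ x : P.obj (op V),
        etaAt K P V x = res K (shf K P) f y := by
  refine ⟨Presheaf.imageSieve (CategoryTheory.toSheafify (QuotSh.J K S) P.presheaf) (U := W) y,
    Presheaf.imageSieve_mem (QuotSh.J K S)
      (CategoryTheory.toSheafify (QuotSh.J K S) P.presheaf) (U := op W) y, ?_⟩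
  intro V f hf
  obtain ⟨t, ht⟩ := hf
  exact ⟨t, ht⟩

variable {R : CommRingCat.{u}} (a : Spec R ⟶ S)

/-- if `P → P^#` is bijective on all affine objects over `Spec R` then `F_{P,R} ≅ F_{P^#,R}` -/
theorem isIso_map_psi
    (hbij : ∀ B : Alg R, Function.Bijective (etaAt K P ((specOver a).obj (op B)))) :
    IsIso ((toMVFPre K a).map (psi K P)) := by
  haveI : Mono ((toMVFPre K a).map (psi K P)) := by
    apply PresheafOfModules.mono_of_injective
    intro X
    exact (hbij X.unop.unop).1
  haveI : Epi ((toMVFPre K a).map (psi K P)) := by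
    apply PresheafOfModules.epi_of_surjective
    intro X
    exact (hbij X.unop.unop).2
  exact isIso_of_mono_of_epi _

end Sheafification

section Core

variable {S : Scheme.{u}} {R : CommRingCat.{u}} (a : Spec R ⟶ S)

/-- the structure morphism `Spec B → Spec R` as a morphism of the big site -/
noncomputable def strB (B : Alg R) : (specOver a).obj (op B) ⟶ Over.mk a :=
  Over.homMk (show ((specOver a).obj (op B)).left ⟶ (Over.mk a).left from
    Spec.map (CommRingCat.ofHom (algebraMap R B))) rfl

lemma strB_left (B : Alg R) :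
    (strB a B).left = Spec.map (CommRingCat.ofHom (algebraMap R B)) := rfl

lemma strB_natural {B B' : Alg R} (φ : B ⟶ B') :
    (specOver a).map φ.op ≫ strB a B = strB a B' := by
  apply Over.OverMorphism.ext
  change Spec.map (CommRingCat.ofHom φ.hom.toRingHom) ≫
      Spec.map (CommRingCat.ofHom (algebraMap R B)) =
    Spec.map (CommRingCat.ofHom (algebraMap R B'))
  rw [← Spec.map_comp, ← CommRingCat.ofHom_comp, AlgHom.toRingHom_eq_coe,
    AlgHom.comp_algebraMap]

variable (K : Precoverage Scheme.{u}) [BigSite.OSh K]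
  (P : PresheafOfModules.{u+1} (BigSite.ORing K S).obj)
  (hF : adequate R ((toMVFPre K a).obj P))
  {ι : Type} [Fintype ι] [DecidableEq ι] (C : ι → Type u) [∀ k, CommRing (C k)]
  [∀ k, Algebra R (C k)] [Module.FaithfullyFlat R (∀ k, C k)]

include hF in
theorem core_inj (x : P.obj (op (Over.mk a)))
    (hx : ∀ k, resP K P (strB a (algOf R (C k))) x = 0) : x = 0 := by
  obtain ⟨hsep, -⟩ := descent_affine_pre K P a hF (∀ k, C k) (strB a (algOf R (∀ k, C k))) rfl
  obtain ⟨hpi, -⟩ := product_pre K P a hF C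
  apply hsep
  apply hpi
  intro k
  rw [← resP_comp, strB_natural]
  exact hx k

include hF in
theorem core_surj
    (hinj : ∀ (R' : CommRingCat.{u}) (a' : Spec R' ⟶ S) (x : P.obj (op (Over.mk a'))),
      etaAt K P (Over.mk a') x = 0 → x = 0)
    (hcovρ : Presieve.ofArrows (fun k => ((specOver a).obj (op (algOf R (C k)))).left)
      (fun k => ((specOver a).map (prK C k).op).left) ∈
        K.coverings ((specOver a).obj (op (algOf R (∀ k, C k)))).left)
    (hcovπ : Presieve.ofArrows (fun k => ((specOver a).obj (op (algOf R (C k)))).left)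
      (fun k => (strB a (algOf R (C k))).left) ∈ K.coverings (Over.mk a).left)
    (y : (shf K P).val.obj (op (Over.mk a)))
    (xk : ∀ k, P.obj (op ((specOver a).obj (op (algOf R (C k))))))
    (hxk : ∀ k, etaAt K P _ (xk k) = res K (shf K P) (strB a (algOf R (C k))) y) :
    ∃ x : P.obj (op (Over.mk a)), etaAt K P (Over.mk a) x = y := by
  obtain ⟨-, hglue⟩ := descent_affine_pre K P a hF (∀ k, C k) (strB a (algOf R (∀ k, C k))) rfl
  obtain ⟨-, hpi⟩ := product_pre K P a hF C
  obtain ⟨z, hz⟩ := hpi xk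
  obtain ⟨sepρ, -⟩ := sheaf_arrows K (shf K P) _
    (fun k => (specOver a).obj (op (algOf R (C k)))) (fun k => (specOver a).map (prK C k).op) hcovρ
  obtain ⟨sepπ, -⟩ := sheaf_arrows K (shf K P) (Over.mk a)
    (fun k => (specOver a).obj (op (algOf R (C k)))) (fun k => strB a (algOf R (C k))) hcovπ
  have hA : etaAt K P _ z = res K (shf K P) (strB a (algOf R (∀ k, C k))) y := by
    apply sub_eq_zero.1
    apply sepρ
    intro k
    change res K (shf K P) ((specOver a).map (prK C k).op)
      (etaAt K P _ z - res K (shf K P) (strB a (algOf R (∀ k, C k))) y) = 0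
    rw [res_sub, ← etaAt_res, hz k, ← res_comp, strB_natural, hxk k, sub_self]
  have hB : resP K P ((specOver a).map (CommAlgCat.ofHom
        (Algebra.TensorProduct.includeLeft : (∀ k, C k) →ₐ[R] (∀ k, C k) ⊗[R] (∀ k, C k)) :
          algOf R (∀ k, C k) ⟶ algOf R ((∀ k, C k) ⊗[R] (∀ k, C k))).op) z =
      resP K P ((specOver a).map (CommAlgCat.ofHom
        (Algebra.TensorProduct.includeRight : (∀ k, C k) →ₐ[R] (∀ k, C k) ⊗[R] (∀ k, C k)) :
          algOf R (∀ k, C k) ⟶ algOf R ((∀ k, C k) ⊗[R] (∀ k, C k))).op) z := by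
    apply sub_eq_zero.1
    have h0 : etaAt K P ((specOver a).obj (op (algOf R ((∀ k, C k) ⊗[R] (∀ k, C k)))))
        (resP K P ((specOver a).map (CommAlgCat.ofHom
          (Algebra.TensorProduct.includeLeft : (∀ k, C k) →ₐ[R] (∀ k, C k) ⊗[R] (∀ k, C k)) :
            algOf R (∀ k, C k) ⟶ algOf R ((∀ k, C k) ⊗[R] (∀ k, C k))).op) z -
        resP K P ((specOver a).map (CommAlgCat.ofHom
          (Algebra.TensorProduct.includeRight : (∀ k, C k) →ₐ[R] (∀ k, C k) ⊗[R] (∀ k, C k)) :
            algOf R (∀ k, C k) ⟶ algOf R ((∀ k, C k) ⊗[R] (∀ k, C k))).op) z) = 0 := by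
      rw [etaAt_sub, etaAt_res, etaAt_res, hA, ← res_comp, ← res_comp,
        incl_comp_eq a (∀ k, C k) (strB a (algOf R (∀ k, C k))) rfl, sub_self]
    exact hinj (CommRingCat.of ((∀ k, C k) ⊗[R] (∀ k, C k)))
      (Spec.map (CommRingCat.ofHom (algebraMap R ((∀ k, C k) ⊗[R] (∀ k, C k)))) ≫ a) _ h0
  obtain ⟨x, hx⟩ := hglue z hB
  refine ⟨x, ?_⟩
  apply sub_eq_zero.1
  apply sepπ
  intro k
  change res K (shf K P) (strB a (algOf R (C k))) (etaAt K P _ x - y) = 0
  have h1 : resP K P (strB a (algOf R (C k))) x = xk k := by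
    rw [← strB_natural a (prK C k), resP_comp, hx, hz k]
  rw [res_sub, ← etaAt_res, h1, hxk k, sub_self]

end Core

section Fppf

variable {S : Scheme.{u}}

instance : MorphismProperty.ContainsIdentities @LocallyOfFinitePresentation :=
  ⟨fun _ => inferInstance⟩

instance : MorphismProperty.IsMultiplicative @LocallyOfFinitePresentation where

/-- every fppf covering sieve of an affine scheme contains a finite affine fppf covering family -/
lemma exists_finite_refinement_spec {R : CommRingCat.{u}} (T : Sieve (Spec R))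
    (hT : T ∈ Scheme.fppfTopology (Spec R)) :
    ∃ (n : ℕ) (Aring : Fin n → CommRingCat.{u}) (g : ∀ k, R ⟶ Aring k),
      (∀ k, Pfppf (Spec.map (g k))) ∧ (∀ x : Spec R, ∃ k, x ∈ Set.range (Spec.map (g k))) ∧
      ∀ k, T (Spec.map (g k)) := by
  have hT' : T ∈ Scheme.grothendieckTopology Pfppf (Spec R) := hT
  obtain ⟨𝒰, h𝒰⟩ := Scheme.exists_cover_of_mem_grothendieckTopology hT'
  choose I A c hc hcs using fun i => exists_affine_cover (𝒰.X i)
  obtain ⟨n, Aring, g, hP, hs, hfac⟩ := exists_refinement Pfppf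
    (fun f hf => ⟨inferInstance, inferInstance⟩)
    (fun f hf => by
      haveI : Flat f := hf.1
      haveI : LocallyOfFinitePresentation f := hf.2
      exact f.isOpenMap) (S := Spec R) (ι := Σ i, I i) (fun p => A p.1 p.2)
    (fun p => c p.1 p.2 ≫ 𝒰.f p.1)
    (by
      intro s
      obtain ⟨i, y, hy⟩ := 𝒰.exists_eq s
      obtain ⟨j, w, hw⟩ := hcs i y
      exact ⟨⟨i, j⟩, w, by
        change (c i j ≫ 𝒰.f i) w = s
        rw [Scheme.Hom.comp_apply, hw, hy]⟩)
    (fun p => by
      haveI : IsOpenImmersion (c p.1 p.2) := hc p.1 p.2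
      exact MorphismProperty.comp_mem _ _ _ ⟨inferInstance, inferInstance⟩ (𝒰.map_prop p.1))
    (𝟙 (Spec R))
  refine ⟨n, Aring, g, hP, hs, fun k => ?_⟩
  obtain ⟨p, h, hh⟩ := hfac k
  rw [Category.comp_id] at hh
  rw [← hh, ← Category.assoc]
  exact T.downward_closed (h𝒰 _ _ (Presieve.ofArrows.mk p.1)) _

/-- the same for an affine object of the big site -/
lemma exists_finite_refinement {R : CommRingCat.{u}} (a : Spec R ⟶ S) (T : Sieve (Over.mk a))
    (hT : T ∈ QuotSh.J Scheme.fppfPrecoverage S (Over.mk a)) :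
    ∃ (n : ℕ) (Aring : Fin n → CommRingCat.{u}) (g : ∀ k, R ⟶ Aring k),
      (∀ k, Pfppf (Spec.map (g k))) ∧ (∀ x : Spec R, ∃ k, x ∈ Set.range (Spec.map (g k))) ∧
      ∀ k, T (Over.homMk (Spec.map (g k)) rfl : Over.mk (Spec.map (g k) ≫ a) ⟶ Over.mk a) := by
  have h1 : Sieve.overEquiv (Over.mk a) T ∈ Scheme.fppfTopology (Spec R) :=
    (GrothendieckTopology.mem_over_iff _ _).1 hT
  obtain ⟨n, Aring, g, hP, hs, hTg⟩ := exists_finite_refinement_spec _ h1
  refine ⟨n, Aring, g, hP, hs, fun k => ?_⟩
  exact (Sieve.overEquiv_iff _ _).1 (hTg k)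

/-- the projections of a finite product of rings form a covering -/
lemma cover_pi {ι : Type} [Finite ι] (C : ι → Type u) [∀ k, CommRing (C k)] :
    Presieve.ofArrows (fun k => Spec (CommRingCat.of (C k)))
      (fun k => Spec.map (CommRingCat.ofHom (Pi.evalRingHom C k))) ∈
        Scheme.fppfPrecoverage.coverings (Spec (CommRingCat.of (∀ k, C k))) := by
  rw [mem_fppf_iff]
  refine ⟨fun x => ?_, fun k => ⟨inferInstance, inferInstance⟩⟩
  obtain ⟨k, q, hq⟩ := PrimeSpectrum.exists_comap_evalRingHom_eq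
    (show PrimeSpectrum (∀ k, C k) from x)
  exact ⟨k, q, hq⟩

/-- faithful flatness of the product of a finite fppf covering family of an affine scheme -/
lemma faithfullyFlat_of_family {R : CommRingCat.{u}} {n : ℕ} (Aring : Fin n → CommRingCat.{u})
    (g : ∀ k, R ⟶ Aring k) (hP : ∀ k, Pfppf (Spec.map (g k)))
    (hs : ∀ x : Spec R, ∃ k, x ∈ Set.range (Spec.map (g k))) :
    letI : ∀ k, Algebra R (Aring k) := fun k => (g k).hom.toAlgebra
    Module.FaithfullyFlat R (∀ k, Aring k) := by
  letI : ∀ k, Algebra R (Aring k) := fun k => (g k).hom.toAlgebra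
  apply faithfullyFlat_pi (fun k => (Aring k : Type u))
  · intro k
    have h1 : Flat (Spec.map (g k)) := (hP k).1
    exact (HasRingHomProperty.Spec_iff (P := @Flat)).1 h1
  · intro p
    obtain ⟨k, q, hq⟩ := hs p
    exact ⟨k, q, hq⟩

variable (P : PresheafOfModules.{u+1} (BigSite.ORing Scheme.fppfPrecoverage S).obj)
  (h : ∀ (R : CommRingCat.{u}) (a : Spec R ⟶ S),
    adequate R ((toMVFPre Scheme.fppfPrecoverage a).obj P))

include h in
theorem main_inj (R : CommRingCat.{u}) (a : Spec R ⟶ S) (x : P.obj (op (Over.mk a)))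
    (hx : etaAt Scheme.fppfPrecoverage P (Over.mk a) x = 0) : x = 0 := by
  obtain ⟨T, hT, hTx⟩ := etaAt_locinj _ P (Over.mk a) x hx
  obtain ⟨n, Aring, g, hP, hs, hTg⟩ := exists_finite_refinement a T hT
  letI : ∀ k, Algebra R (Aring k) := fun k => (g k).hom.toAlgebra
  haveI : Module.FaithfullyFlat R (∀ k, Aring k) := faithfullyFlat_of_family Aring g hP hs
  refine core_inj a _ P (h R a) (fun k => (Aring k : Type u)) x (fun k => ?_)
  exact hTx _ (hTg k)

include h in
theorem main_surj (R : CommRingCat.{u}) (a : Spec R ⟶ S)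
    (y : (shf Scheme.fppfPrecoverage P).val.obj (op (Over.mk a))) :
    ∃ x : P.obj (op (Over.mk a)), etaAt Scheme.fppfPrecoverage P (Over.mk a) x = y := by
  obtain ⟨T, hT, hTy⟩ := etaAt_locsurj _ P (Over.mk a) y
  obtain ⟨n, Aring, g, hP, hs, hTg⟩ := exists_finite_refinement a T hT
  letI : ∀ k, Algebra R (Aring k) := fun k => (g k).hom.toAlgebra
  haveI : Module.FaithfullyFlat R (∀ k, Aring k) := faithfullyFlat_of_family Aring g hP hs
  choose xk hxk using fun k => hTy _ (hTg k)
  exact core_surj a _ P (h R a) (fun k => (Aring k : Type u)) (main_inj P h)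
    (cover_pi (fun k => (Aring k : Type u))) (mem_fppf_iff.2 ⟨hs, hP⟩) y xk hxk

include h in
/-- the sheafification of a presheaf of modules all of whose `F_{P,R}` are adequate is adequate -/
theorem adequateMod_shf :
    adequateMod Scheme.fppfPrecoverage S (shf Scheme.fppfPrecoverage P) := by
  have had : ∀ (R : CommRingCat.{u}) (a : Spec R ⟶ S),
      adequate R ((toMVF Scheme.fppfPrecoverage a).obj (shf Scheme.fppfPrecoverage P)) := by
    intro R a
    have hiso : IsIso ((toMVFPre Scheme.fppfPrecoverage a).map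
        (psi Scheme.fppfPrecoverage P)) := isIso_map_psi Scheme.fppfPrecoverage P a (fun B => by
      constructor
      · intro x x' hxx
        have h0 : etaAt Scheme.fppfPrecoverage P ((specOver a).obj (op B)) (x - x') = 0 := by
          rw [etaAt_sub, hxx, sub_self]
        exact sub_eq_zero.1 (main_inj P h (CommRingCat.of B)
          (Spec.map (CommRingCat.ofHom (algebraMap R B)) ≫ a) _ h0)
      · intro y
        exact main_surj P h (CommRingCat.of B)
          (Spec.map (CommRingCat.ofHom (algebraMap R B)) ≫ a) y)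
    exact (adequate R).prop_of_iso (@asIso _ _ _ _ _ hiso) (h R a)
  obtain ⟨I, A, c, hc, hcs⟩ := exists_affine_cover S
  exact ⟨I, A, c, mem_fppf_iff.2 ⟨hcs, fun i => ⟨inferInstance, inferInstance⟩⟩,
    fun i => had _ _⟩

end Fppf

end Groth.Agent.Helper8.Adeq2J
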