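import Groth.Agent.Helper8.AdeqG

universe u

open CategoryTheory Opposite Limits TensorProduct

namespace Groth.Agent.Helper8.AdeqH

open Adeq AdeqA AdeqE AdeqF AdeqG

section LinAlg

variable {A : Type*} [CommRing A] (C : Type*) [CommRing C] [Algebra A C]
  {M N K : Type*} [AddCommGroup M] [AddCommGroup N] [AddCommGroup K] [Module A M] [Module A N]
  [Module A K]

lemma fst_inl_inr (x : C ⊗[A] M) (y : C ⊗[A] N) :
    (LinearMap.fst A M N).baseChange C
      ((LinearMap.inl A M N).baseChange C x + (LinearMap.inr A M N).baseChange C y) = x := by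
  rw [map_add, baseChange_comp_apply, baseChange_comp_apply]
  have e1 : LinearMap.fst A M N ∘ₗ LinearMap.inl A M N = LinearMap.id := by ext; simp
  have e2 : LinearMap.fst A M N ∘ₗ LinearMap.inr A M N = 0 := by ext; simp
  rw [e1, e2, LinearMap.baseChange_id, LinearMap.baseChange_zero, LinearMap.id_apply,
    LinearMap.zero_apply, add_zero]

lemma snd_inl_inr (x : C ⊗[A] M) (y : C ⊗[A] N) :
    (LinearMap.snd A M N).baseChange C
      ((LinearMap.inl A M N).baseChange C x + (LinearMap.inr A M N).baseChange C y) = y := by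
  rw [map_add, baseChange_comp_apply, baseChange_comp_apply]
  have e1 : LinearMap.snd A M N ∘ₗ LinearMap.inl A M N = 0 := by ext; simp
  have e2 : LinearMap.snd A M N ∘ₗ LinearMap.inr A M N = LinearMap.id := by ext; simp
  rw [e1, e2, LinearMap.baseChange_id, LinearMap.baseChange_zero, LinearMap.id_apply,
    LinearMap.zero_apply, zero_add]

lemma prod_snd_eq_zero_iff (k : M × N →ₗ[A] K) (z : C ⊗[A] (M × N)) :
    (k.prod (LinearMap.snd A M N)).baseChange C z = 0 ↔
      k.baseChange C z = 0 ∧ (LinearMap.snd A M N).baseChange C z = 0 := by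
  have e1 : LinearMap.fst A K N ∘ₗ k.prod (LinearMap.snd A M N) = k := by ext <;> simp
  have e2 : LinearMap.snd A K N ∘ₗ k.prod (LinearMap.snd A M N) = LinearMap.snd A M N := by
    ext <;> simp
  constructor
  · intro h
    constructor
    · have := congrArg ((LinearMap.fst A K N).baseChange C) h
      rwa [baseChange_comp_apply, e1, map_zero] at this
    · have := congrArg ((LinearMap.snd A K N).baseChange C) h
      rwa [baseChange_comp_apply, e2, map_zero] at this
  · rintro ⟨h1, h2⟩
    rw [baseChange_prod_ext C ((k.prod (LinearMap.snd A M N)).baseChange C z),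
      baseChange_comp_apply C _ (LinearMap.fst A K N),
      baseChange_comp_apply C _ (LinearMap.snd A K N), e1, e2, h1, h2, map_zero, map_zero,
      add_zero]

end LinAlg

variable {A : Type u} [CommRing A]

lemma kernel_exact {F G : MVF A} (φ : F ⟶ G) (X : (Alg A)ᵒᵖᵒᵖ) (f : F.obj X) :
    φ.app X f = 0 ↔ ∃ f', (kernel.ι φ).app X f' = f := by
  constructor
  · intro hf
    have hS : (ShortComplex.mk (kernel.ι φ) φ (kernel.condition _)).Exact :=
      ShortComplex.exact_of_f_is_kernel _ (kernelIsKernel _)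
    exact exact_app _ _ _ hS X f hf
  · rintro ⟨f', rfl⟩
    have h2 := congrArg (fun t => (t.app X) f') (kernel.condition φ)
    simpa only [PresheafOfModules.comp_app, ModuleCat.comp_apply, PresheafOfModules.zero_app,
      ModuleCat.hom_zero, LinearMap.zero_apply] using h2

theorem adequate_cokernel {F G : MVF A} (φ : F ⟶ G) (hF : adequate A F) (hG : adequate A G) :
    adequate A (cokernel φ) := by
  obtain ⟨M, N, θ, ⟨e⟩⟩ := hG
  have hKG := isKer_of_iso θ e
  obtain ⟨Q, q, hq⟩ := exists_coker_module F hF M (φ ≫ e.hom ≫ kernel.ι ((underline A).map θ))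
  obtain ⟨Q₂, q₂, hq₂⟩ := exists_coker_module G ⟨M, N, θ, ⟨e⟩⟩ Q
    ((e.hom ≫ kernel.ι ((underline A).map θ)) ≫ (underline A).map q)
  have w : φ ≫ ((e.hom ≫ kernel.ι ((underline A).map θ)) ≫ (underline A).map q) = 0 := by
    ext X f
    have := (hq X ((φ ≫ e.hom ≫ kernel.ι ((underline A).map θ)).app X f)).2 ⟨f, rfl⟩
    simpa only [PresheafOfModules.comp_app, ModuleCat.comp_apply, PresheafOfModules.zero_app,
      ModuleCat.hom_zero, LinearMap.zero_apply, Category.assoc] using this
  have hdesc : ∀ (X : (Alg A)ᵒᵖᵒᵖ) (g : G.obj X),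
      (cokernel.desc φ _ w).app X ((cokernel.π φ).app X g) =
        ((e.hom ≫ kernel.ι ((underline A).map θ)) ≫ (underline A).map q).app X g := by
    intro X g
    have := congrArg (fun t => t.app X g) (cokernel.π_desc φ _ w)
    simpa only [PresheafOfModules.comp_app, ModuleCat.comp_apply] using this
  rw [adequate_iff]
  refine ⟨Q, Q₂, q₂, cokernel.desc φ _ w, ?_, ?_⟩
  · intro X
    rw [injective_iff_map_eq_zero]
    intro z hz
    obtain ⟨g, rfl⟩ := PresheafOfModules.surjective_of_epi (cokernel.π φ) X z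
    rw [hdesc] at hz
    simp only [PresheafOfModules.comp_app, ModuleCat.comp_apply] at hz
    obtain ⟨f, hf⟩ := (hq X _).1 hz
    have hfg : φ.app X f = g := by
      apply hKG.inj X
      simp only [PresheafOfModules.comp_app, ModuleCat.comp_apply] at hf ⊢
      exact hf
    rw [← hfg]
    have := congrArg (fun t => t.app X f) (cokernel.condition φ)
    simpa only [PresheafOfModules.comp_app, ModuleCat.comp_apply, PresheafOfModules.zero_app,
      ModuleCat.hom_zero, LinearMap.zero_apply] using this
  · intro X y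
    rw [hq₂ X y]
    constructor
    · rintro ⟨g, hg⟩
      exact ⟨(cokernel.π φ).app X g, (hdesc X g).trans hg⟩
    · rintro ⟨z, hz⟩
      obtain ⟨g, rfl⟩ := PresheafOfModules.surjective_of_epi (cokernel.π φ) X z
      exact ⟨g, (hdesc X g).symm.trans hz⟩

theorem adequate_kernel {F G : MVF A} (φ : F ⟶ G) (hF : adequate A F) (hG : adequate A G) :
    adequate A (kernel φ) := by
  have hF' := hF
  obtain ⟨M, N', θF, ⟨eF⟩⟩ := hF
  obtain ⟨N, N'', θG, ⟨eG⟩⟩ := hG
  have hKF := isKer_of_iso θF eF
  have hKG := isKer_of_iso θG eG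
  let MN : ModuleCat.{u+1} A := ModuleCat.of A (M × N)
  let inl : M ⟶ MN := ModuleCat.ofHom (LinearMap.inl A M N)
  let inr : N ⟶ MN := ModuleCat.ofHom (LinearMap.inr A M N)
  let δ : F ⟶ (underline A).obj MN :=
    (eF.hom ≫ kernel.ι ((underline A).map θF)) ≫ (underline A).map inl +
      (φ ≫ eG.hom ≫ kernel.ι ((underline A).map θG)) ≫ (underline A).map inr
  have hδ : ∀ (X : (Alg A)ᵒᵖᵒᵖ) (f : F.obj X), δ.app X f =
      (LinearMap.inl A M N).baseChange X.unop.unop
        ((eF.hom ≫ kernel.ι ((underline A).map θF)).app X f) +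
      (LinearMap.inr A M N).baseChange X.unop.unop
        ((eG.hom ≫ kernel.ι ((underline A).map θG)).app X (φ.app X f)) := by
    intro X f
    simp only [δ, PresheafOfModules.add_app, PresheafOfModules.comp_app, ModuleCat.hom_add,
      ModuleCat.hom_comp, LinearMap.add_apply, LinearMap.comp_apply]
    rfl
  obtain ⟨K, k, hk⟩ := exists_coker_module F hF' MN δ
  let KN : ModuleCat.{u+1} A := ModuleCat.of A (K × N)
  let κ : MN ⟶ KN := ModuleCat.ofHom (k.hom.prod (LinearMap.snd A M N))
  rw [adequate_iff]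
  refine ⟨MN, KN, κ, kernel.ι φ ≫ δ, ?_, ?_⟩
  · intro X f₁ f₂ h
    simp only [PresheafOfModules.comp_app, ModuleCat.comp_apply] at h
    apply PresheafOfModules.injective_of_mono (kernel.ι φ) X
    apply hKF.inj X
    have := congrArg ((LinearMap.fst A M N).baseChange X.unop.unop) h
    rwa [hδ, hδ, fst_inl_inr, fst_inl_inr] at this
  · intro X z
    have h1 : ((underline A).map κ).app X z = 0 ↔
        ((underline A).map k).app X z = 0 ∧
          (LinearMap.snd A M N).baseChange X.unop.unop z = 0 :=
      prod_snd_eq_zero_iff X.unop.unop k.hom z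
    rw [h1, hk X z]
    constructor
    · rintro ⟨⟨f, rfl⟩, h2⟩
      rw [hδ, snd_inl_inr] at h2
      have h3 : φ.app X f = 0 := by
        apply hKG.inj X
        rw [h2, map_zero]
        rfl
      obtain ⟨f', rfl⟩ := (kernel_exact φ X f).1 h3
      exact ⟨f', by simp only [PresheafOfModules.comp_app, ModuleCat.comp_apply]⟩
    · rintro ⟨f', rfl⟩
      simp only [PresheafOfModules.comp_app, ModuleCat.comp_apply]
      refine ⟨⟨_, rfl⟩, ?_⟩
      rw [hδ, snd_inl_inr, (kernel_exact φ X _).2 ⟨f', rfl⟩, map_zero]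
      rfl

end Groth.Agent.Helper8.AdeqH
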