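import Groth.Agent.Helper8.AdeqH

universe u

open CategoryTheory Opposite Limits TensorProduct

namespace Groth.Agent.Helper8.AdeqI

open Adeq AdeqA AdeqE AdeqF AdeqG AdeqH

section General

variable {C : Type*} [Category C] {R : Cᵒᵖ ⥤ RingCat.{u}} {I : Type (u+1)}
  (L : I → PresheafOfModules.{u+1} R)

lemma sigma_obj_eq_sum (X : Cᵒᵖ) (z : (∐ L).obj X) :
    ∃ (S : Finset I) (l : ∀ i, (L i).obj X), z = ∑ i ∈ S, (Sigma.ι L i).app X (l i) := by
  classical
  have h1 : IsColimit (Cofan.mk ((∐ L).obj X) fun i => (Sigma.ι L i).app X) :=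
    isColimitOfHasCoproductOfPreservesColimit (PresheafOfModules.evaluation.{u+1} R X) L
  have h2 := ModuleCat.coproductCoconeIsColimit.{u, u+1, u+1} (fun i => (L i).obj X)
  let e := h2.coconePointUniqueUpToIso h1
  let E : (DirectSum I fun i => (L i).obj X) →ₗ[R.obj X] ((∐ L).obj X) := e.hom.hom
  have he : ∀ i (y : (L i).obj X),
      E (DirectSum.lof (R.obj X) I (fun i => (L i).obj X) i y) = (Sigma.ι L i).app X y := by
    intro i y
    have := h2.comp_coconePointUniqueUpToIso_hom h1 ⟨i⟩
    exact congrArg (fun t => t.hom y) this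
  let w : DirectSum I (fun i => (L i).obj X) := e.inv z
  refine ⟨DFinsupp.support w, fun i => w i, ?_⟩
  have hz : z = E w := by
    change z = e.hom (e.inv z)
    simp
  rw [hz]
  conv_lhs => rw [← DirectSum.sum_support_of w]
  rw [map_sum]
  refine Finset.sum_congr rfl fun i _ => ?_
  rw [← he i]
  rfl

end General

section LinAlg

variable {A : Type*} [CommRing A] {I : Type*} [DecidableEq I] (P : I → Type*)
  [∀ i, AddCommGroup (P i)] [∀ i, Module A (P i)]

lemma comp_lof_self (i : I) :
    DirectSum.component A I P i ∘ₗ DirectSum.lof A I P i = LinearMap.id := by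
  ext b
  simp

lemma comp_lof_ne {i j : I} (h : j ≠ i) :
    DirectSum.component A I P i ∘ₗ DirectSum.lof A I P j = 0 := by
  ext b
  simp [DirectSum.component.of, h]

end LinAlg

variable {A : Type u} [CommRing A]

theorem adequate_coproduct {I : Type (u+1)} (L : I → MVF A) (hL : ∀ i, adequate A (L i)) :
    adequate A (∐ L) := by
  classical
  choose M N θ e using hL
  have e' := fun i => (e i).some
  have hK := fun i => isKer_of_iso (θ i) (e' i)
  let MM : ModuleCat.{u+1} A := ModuleCat.of A (DirectSum I fun i => M i)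
  let NN : ModuleCat.{u+1} A := ModuleCat.of A (DirectSum I fun i => N i)
  let Θ : MM ⟶ NN := ModuleCat.ofHom (DirectSum.lmap fun i => (θ i).hom)
  let lofM : ∀ i, M i ⟶ MM := fun i => ModuleCat.ofHom (DirectSum.lof A I (fun i => M i) i)
  let lofN : ∀ i, N i ⟶ NN := fun i => ModuleCat.ofHom (DirectSum.lof A I (fun i => N i) i)
  let ι : ∐ L ⟶ (underline A).obj MM :=
    Sigma.desc fun i => ((e' i).hom ≫ kernel.ι ((underline A).map (θ i))) ≫
      (underline A).map (lofM i)
  have hι : ∀ (X : (Alg A)ᵒᵖᵒᵖ) (i : I) (l : (L i).obj X),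
      ι.app X ((Sigma.ι L i).app X l) =
        (DirectSum.lof A I (fun i => M i) i).baseChange X.unop.unop
          (((e' i).hom ≫ kernel.ι ((underline A).map (θ i))).app X l) := by
    intro X i l
    have := congrArg (fun t => t.app X l) (Sigma.ι_desc (fun i =>
      ((e' i).hom ≫ kernel.ι ((underline A).map (θ i))) ≫ (underline A).map (lofM i)) i)
    simp only [PresheafOfModules.comp_app, ModuleCat.comp_apply] at this ⊢
    exact this
  have hcomm : ∀ i, lofM i ≫ Θ = θ i ≫ lofN i := by
    intro i
    refine ModuleCat.hom_ext (LinearMap.ext fun x => ?_)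
    exact DirectSum.lmap_lof (fun i => (θ i).hom) i x
  have w : ι ≫ (underline A).map Θ = 0 := by
    apply Sigma.hom_ext
    intro i
    rw [comp_zero, ← Category.assoc, Sigma.ι_desc, Category.assoc, ← Functor.map_comp,
      hcomm i, Functor.map_comp, Category.assoc, ← Category.assoc (kernel.ι _),
      kernel.condition, zero_comp, comp_zero]
  rw [adequate_iff]
  refine ⟨MM, NN, Θ, ι, ?_, ?_⟩
  · intro X
    rw [injective_iff_map_eq_zero]
    intro z hz
    obtain ⟨S, l, rfl⟩ := sigma_obj_eq_sum L X z
    rw [map_sum] at hz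
    have hz' : ∑ j ∈ S, (DirectSum.lof A I (fun i => M i) j).baseChange X.unop.unop
        (((e' j).hom ≫ kernel.ι ((underline A).map (θ j))).app X (l j)) =
        (0 : X.unop.unop ⊗[A] (DirectSum I fun i => M i)) := by
      exact (Finset.sum_congr rfl fun j _ => (hι X j (l j)).symm).trans hz
    have hl0 : ∀ i ∈ S, l i = 0 := by
      intro i hi
      apply (hK i).inj X
      rw [map_zero]
      have h3 := congrArg
        ((DirectSum.component A I (fun i => M i) i).baseChange X.unop.unop) hz'
      rw [map_sum, map_zero, Finset.sum_eq_single i] at h3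
      · rw [baseChange_comp_apply, comp_lof_self, LinearMap.baseChange_id,
          LinearMap.id_apply] at h3
        exact h3
      · intro j _ hj
        rw [baseChange_comp_apply, comp_lof_ne _ hj, LinearMap.baseChange_zero,
          LinearMap.zero_apply]
      · intro h
        exact absurd hi h
    apply Finset.sum_eq_zero
    intro i hi
    rw [hl0 i hi, map_zero]
  · intro X y
    constructor
    · intro hy
      obtain ⟨S, hS⟩ := exists_finset_decomp X.unop.unop (fun i => M i) y
      have hyi : ∀ i, ((underline A).map (θ i)).app X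
          ((DirectSum.component A I (fun i => M i) i).baseChange X.unop.unop y) = 0 := by
        intro i
        change (θ i).hom.baseChange X.unop.unop
          ((DirectSum.component A I (fun i => M i) i).baseChange X.unop.unop y) = 0
        rw [baseChange_comp_apply]
        have e1 : (θ i).hom ∘ₗ DirectSum.component A I (fun i => M i) i =
            DirectSum.component A I (fun i => N i) i ∘ₗ
              DirectSum.lmap fun i => (θ i).hom := by
          ext q
          rfl
        rw [e1, ← baseChange_comp_apply]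
        have hy' : (DirectSum.lmap fun i => (θ i).hom).baseChange X.unop.unop y = 0 := hy
        rw [hy', map_zero]
      choose l hl using fun i => ((hK i).exact X _).1 (hyi i)
      refine ⟨∑ i ∈ S, (Sigma.ι L i).app X (l i), ?_⟩
      rw [map_sum]
      conv_rhs => rw [← hS S (Finset.Subset.refl S)]
      refine Finset.sum_congr rfl fun i _ => ?_
      rw [hι, hl]
    · rintro ⟨z, rfl⟩
      have := congrArg (fun t => t.app X z) w
      simpa only [PresheafOfModules.comp_app, ModuleCat.comp_apply, PresheafOfModules.zero_app,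
        ModuleCat.hom_zero, LinearMap.zero_apply] using this

theorem adequate_colimit {J : Type (u+1)} [SmallCategory J] (D : J ⥤ MVF A)
    (hD : ∀ j, adequate A (D.obj j)) : adequate A (colimit D) := by
  let c₁ : Cofan (fun f : Σ p : J × J, p.1 ⟶ p.2 => D.obj f.1.1) :=
    Cofan.mk (∐ fun f : Σ p : J × J, p.1 ⟶ p.2 => D.obj f.1.1) (Sigma.ι _)
  let c₂ : Cofan D.obj := Cofan.mk (∐ D.obj) (Sigma.ι D.obj)
  let s : c₁.pt ⟶ c₂.pt := Sigma.desc fun f => D.map f.2 ≫ Sigma.ι D.obj f.1.2
  let t : c₁.pt ⟶ c₂.pt := Sigma.desc fun f => Sigma.ι D.obj f.1.1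
  have hs : ∀ f : Σ p : J × J, p.1 ⟶ p.2, c₁.ι.app ⟨f⟩ ≫ s = D.map f.2 ≫ c₂.ι.app ⟨f.1.2⟩ := by
    intro f
    simp [c₁, c₂, s]
  have ht : ∀ f : Σ p : J × J, p.1 ⟶ p.2, c₁.ι.app ⟨f⟩ ≫ t = c₂.ι.app ⟨f.1.1⟩ := by
    intro f
    simp [c₁, c₂, t]
  let cc : CokernelCofork (s - t) :=
    CokernelCofork.ofπ (cokernel.π (s - t)) (cokernel.condition _)
  have hcc : IsColimit cc := cokernelIsCokernel (s - t)
  have hi : IsColimit (Preadditive.coforkOfCokernelCofork cc) :=
    Preadditive.isColimitCoforkOfCokernelCofork hcc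
  have hcol := HasColimitOfHasCoproductsOfHasCoequalizers.buildIsColimit s t hs ht
    (coproductIsCoproduct _) (coproductIsCoproduct _) hi
  let e : colimit D ≅ cokernel (s - t) := (colimit.isColimit D).coconePointUniqueUpToIso hcol
  have h1 : adequate A c₁.pt := adequate_coproduct _ (fun f => hD _)
  have h2 : adequate A c₂.pt := adequate_coproduct _ hD
  have h3 : adequate A (cokernel (s - t)) := adequate_cokernel _ h1 h2
  exact (adequate A).prop_of_iso e.symm h3

end Groth.Agent.Helper8.AdeqI
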