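import Groth.Agent.Helper8.Adeq2J
import Groth.Agent.Helper8.AdeqI
import Groth.Agent.Helper8.AdeqH
import Mathlib.Algebra.Category.ModuleCat.Sheaf.Colimits
import Mathlib.Algebra.Category.ModuleCat.Presheaf.Colimits

universe w' w u

open CategoryTheory CategoryTheory.Limits AlgebraicGeometry Opposite TensorProduct

namespace Groth.Agent.Helper8.Adeq2K

open Adeq Adeq2A Adeq2B AdeqE AdeqJ Adeq2D Adeq2F Adeq2H Adeq2I Adeq2J

section Preserve

variable (K : Precoverage Scheme.{u}) [BigSite.OSh K] {S : Scheme.{u}}
  {R : CommRingCat.{u}} (a : Spec R ⟶ S)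

/-- evaluating `F_{P,R}` at `B` is evaluating `P` at `Spec B`, on underlying abelian groups -/
noncomputable def evalIso (X : (Alg R)ᵒᵖᵒᵖ) :
    toMVFPre K a ⋙ PresheafOfModules.evaluation (ringOf R) X ⋙
        forget₂ (ModuleCat _) AddCommGrpCat.{u+1} ≅
      PresheafOfModules.toPresheaf (BigSite.ORing K S).obj ⋙
        (CategoryTheory.evaluation _ _).obj (op ((specOver a).obj (op X.unop.unop))) :=
  NatIso.ofComponents (fun P => Iso.refl _) (fun f => by
    rfl)

instance preservesColimitsOfShape_toMVFPre (J : Type w) [Category.{w'} J]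
    [HasColimitsOfShape J AddCommGrpCat.{u+1}] :
    PreservesColimitsOfShape J (toMVFPre K a) where
  preservesColimit {F'} := by
    constructor
    intro c hc
    constructor
    apply PresheafOfModules.evaluationJointlyReflectsColimits
    intro X
    apply isColimitOfReflects (forget₂ (ModuleCat _) AddCommGrpCat.{u+1})
    exact IsColimit.mapCoconeEquiv (evalIso K a X).symm (isColimitOfPreserves _ hc)

end Preserve

section Colim

variable {S : Scheme.{u}}

/-- a colimit of adequate modules, computed in all modules, is adequate, provided colimits of that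
shape of adequate module-valued functors are adequate -/
theorem adequateMod_colimit_gen {J : Type w} [Category.{w'} J]
    [HasColimitsOfShape J AddCommGrpCat.{u+1}]
    (D : J ⥤ BigSite.Mod Scheme.fppfPrecoverage S)
    (hD : ∀ j, adequateMod Scheme.fppfPrecoverage S (D.obj j))
    (hcolim : ∀ (R : CommRingCat.{u}) (G : J ⥤ MVF R), (∀ j, adequate R (G.obj j)) →
      adequate R (colimit G)) :
    adequateMod Scheme.fppfPrecoverage S (colimit D) := by
  let L := PresheafOfModules.sheafification.{u+1}
    (𝟙 (BigSite.ORing Scheme.fppfPrecoverage S).obj)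
  let F' := D ⋙ SheafOfModules.forget _
  let e : D ≅ F' ⋙ L := Functor.isoWhiskerLeft D
    (asIso (PresheafOfModules.sheafificationAdjunction
      (𝟙 (BigSite.ORing Scheme.fppfPrecoverage S).obj)).counit).symm
  have i1 : colimit D ≅ colimit (F' ⋙ L) := HasColimit.isoOfNatIso e
  have i2 : L.obj (colimit F') ≅ colimit (F' ⋙ L) := preservesColimitIso L F'
  have h1 : adequateMod Scheme.fppfPrecoverage S (L.obj (colimit F')) := by
    apply adequateMod_shf
    intro R a
    have i3 : (toMVFPre Scheme.fppfPrecoverage a).obj (colimit F') ≅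
        colimit (F' ⋙ toMVFPre Scheme.fppfPrecoverage a) :=
      preservesColimitIso (toMVFPre Scheme.fppfPrecoverage a) F'
    refine (adequate R).prop_of_iso i3.symm (hcolim R _ (fun j => ?_))
    exact main_fppf (D.obj j) (hD j) R a
  exact (adequateMod Scheme.fppfPrecoverage S).prop_of_iso (i2 ≪≫ i1.symm) h1

/-- S8764 -/
theorem adequateMod_colimit {J : Type (u + 1)} [SmallCategory J]
    (D : J ⥤ BigSite.Mod Scheme.fppfPrecoverage S)
    (hD : ∀ j, adequateMod Scheme.fppfPrecoverage S (D.obj j)) :
    adequateMod Scheme.fppfPrecoverage S (colimit D) :=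
  adequateMod_colimit_gen D hD (fun _ G hG => AdeqI.adequate_colimit G hG)

/-- colimits of adequate functors indexed by a small category in universe zero -/
theorem adequate_colimit_small {A : Type u} [CommRing A] {J : Type} [SmallCategory J]
    (G : J ⥤ MVF A) (hG : ∀ j, adequate A (G.obj j)) : adequate A (colimit G) := by
  let E : J ≌ ULiftHom.{u+1} (ULift.{u+1} J) := ULiftHomULiftCategory.equiv.{u+1, u+1} J
  have i : colimit (E.inverse ⋙ G) ≅ colimit G := HasColimit.isoOfEquivalence E.symm (Iso.refl _)
  refine (adequate A).prop_of_iso i ?_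
  exact AdeqI.adequate_colimit (E.inverse ⋙ G) (fun j => hG _)

/-- S8762 -/
theorem adequateMod_cokernel {M N : BigSite.Mod Scheme.fppfPrecoverage S} (φ : M ⟶ N)
    (hM : adequateMod Scheme.fppfPrecoverage S M) (hN : adequateMod Scheme.fppfPrecoverage S N) :
    adequateMod Scheme.fppfPrecoverage S (cokernel φ) := by
  refine adequateMod_colimit_gen (parallelPair φ 0) ?_
    (fun _ G hG => adequate_colimit_small G hG)
  intro j
  cases j
  · exact hM
  · exact hN

end Colim

end Groth.Agent.Helper8.Adeq2K
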