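import Groth.Agent.Helper8.Adeq2M

universe u

open CategoryTheory CategoryTheory.Limits AlgebraicGeometry Opposite TensorProduct

namespace Groth.Agent.Helper8.Adeq2N

open Adeq Adeq2A Adeq2B Adeq2C AdeqE AdeqJ Adeq2D Adeq2F Adeq2H Adeq2I Adeq2J

variable {S : Scheme.{u}} (M : BigSite.Mod Scheme.fppfPrecoverage S)

lemma subsingleton_of_retract {W₁ W₂ : Over S} (i : W₂ ⟶ W₁) (r : W₁ ⟶ W₂) (h : i ≫ r = 𝟙 W₂)
    (h₁ : Subsingleton (M.val.obj (op W₁))) : Subsingleton (M.val.obj (op W₂)) := by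
  refine ⟨fun x y => ?_⟩
  have hx : ∀ z : M.val.obj (op W₂), z = res Scheme.fppfPrecoverage M i
      (res Scheme.fppfPrecoverage M r z) := by
    intro z
    rw [← res_comp, h, res_id]
  rw [hx x, hx y, Subsingleton.elim (res Scheme.fppfPrecoverage M r x)
    (res Scheme.fppfPrecoverage M r y)]

/-- for an adequate module, vanishing of sections propagates along flat maps of affine objects -/
lemma subsingleton_of_flat {A : CommRingCat.{u}} (a : Spec A ⟶ S)
    (had : adequate A ((toMVF Scheme.fppfPrecoverage a).obj M))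
    (hA : Subsingleton (M.val.obj (op (Over.mk a)))) {B : CommRingCat.{u}} (ψ : A ⟶ B)
    (hψ : Flat (Spec.map ψ)) : Subsingleton (M.val.obj (op (Over.mk (Spec.map ψ ≫ a)))) := by
  letI : Algebra A B := ψ.hom.toAlgebra
  haveI : Module.Flat A B := (HasRingHomProperty.Spec_iff (P := @Flat)).1 hψ
  have h0 : Subsingleton (((toMVF Scheme.fppfPrecoverage a).obj M).obj (pt (algOf A A))) :=
    subsingleton_of_retract M (e0' a) (e0 a) (e0'_e0 a) hA
  have hbij := Adeq2L.theta_bijective ((toMVF Scheme.fppfPrecoverage a).obj M) B had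
  have hz : ∀ z : B ⊗[A] ((toMVF Scheme.fppfPrecoverage a).obj M).obj (pt (algOf A A)), z = 0 := by
    intro z
    induction z using TensorProduct.induction_on with
    | zero => rfl
    | tmul c x => rw [Subsingleton.elim x 0, TensorProduct.tmul_zero]
    | add z z' h h' => rw [h, h', add_zero]
  have hs : Subsingleton (((toMVF Scheme.fppfPrecoverage a).obj M).obj (pt (algOf A B))) := by
    refine ⟨fun x y => ?_⟩
    obtain ⟨zx, rfl⟩ := hbij.2 x
    obtain ⟨zy, rfl⟩ := hbij.2 y
    rw [hz zx, hz zy]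
  exact hs

theorem parasitic_of_affine_cover (hM : adequateMod Scheme.fppfPrecoverage S M) {ι : Type u}
    (U : ι → S.Opens) (hU : ∀ i, IsAffineOpen (U i)) (hcov : (⨆ i, U i) = ⊤)
    (h0 : ∀ i, Subsingleton (BigSite.sectMod Scheme.fppfPrecoverage M ((BigSite.zarIncl S).obj (U i)))) :
    parasitic Scheme.fppfPrecoverage S M := by
  intro V hV
  have had := main_fppf M hM
  have hpt : ∀ x : V.left, ∃ (i : ι) (W : V.left.Opens), IsAffineOpen W ∧ x ∈ W ∧
      W ≤ V.hom ⁻¹ᵁ (U i) := by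
    intro x
    have hx : V.hom x ∈ (⨆ i, U i) := by
      rw [hcov]
      trivial
    obtain ⟨i, hi⟩ := TopologicalSpace.Opens.mem_iSup.1 hx
    obtain ⟨W, hW, hxW, hWU⟩ := TopologicalSpace.Opens.isBasis_iff_nbhd.1
      (V.left.isBasis_affineOpens) (show x ∈ V.hom ⁻¹ᵁ (U i) from hi)
    exact ⟨i, W, hW, hxW, hWU⟩
  choose i W hW hxW hWU using hpt
  obtain ⟨sep, -⟩ := sheaf_arrows Scheme.fppfPrecoverage M V
    (fun x => Over.mk ((W x).ι ≫ V.hom))
    (fun x => Over.homMk (show (Over.mk ((W x).ι ≫ V.hom)).left ⟶ V.left from (W x).ι) rfl)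
    (mem_fppf_iff.2 ⟨fun x => ⟨x, ⟨⟨x, hxW x⟩, rfl⟩⟩, fun x =>
      ⟨(inferInstance : Flat (W x).ι), (inferInstance : LocallyOfFinitePresentation (W x).ι)⟩⟩)
  have key : ∀ x, Subsingleton (M.val.obj (op (Over.mk ((W x).ι ≫ V.hom)))) := by
    intro x
    let a : Spec Γ(S, U (i x)) ⟶ S := (hU (i x)).fromSpec
    let r : (W x).toScheme ⟶ (U (i x)).toScheme := V.hom.resLE (U (i x)) (W x) (hWU x)
    have hr : r ≫ (U (i x)).ι = (W x).ι ≫ V.hom := Scheme.Hom.resLE_comp_ι _ _
    let h : Spec Γ(V.left, W x) ⟶ Spec Γ(S, U (i x)) :=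
      (hW x).isoSpec.inv ≫ r ≫ (hU (i x)).isoSpec.hom
    let ψ : Γ(S, U (i x)) ⟶ Γ(V.left, W x) := Spec.preimage h
    have hψ : Spec.map ψ = h := Spec.map_preimage h
    have hcomp : Spec.map ψ ≫ a = (hW x).isoSpec.inv ≫ (W x).ι ≫ V.hom := by
      rw [hψ]
      change ((hW x).isoSpec.inv ≫ r ≫ (hU (i x)).isoSpec.hom) ≫ (hU (i x)).fromSpec = _
      rw [Category.assoc, Category.assoc, IsAffineOpen.isoSpec_hom_fromSpec, hr]
    have hflat : Flat (Spec.map ψ ≫ a) := by
      rw [hcomp]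
      haveI : Flat V.hom := hV
      infer_instance
    have hψflat : Flat (Spec.map ψ) :=
      MorphismProperty.of_postcomp (W := @Flat) (W' := MorphismProperty.monomorphisms Scheme.{u})
        (Spec.map ψ) a (inferInstance : Mono a) hflat
    have hA : Subsingleton (M.val.obj (op (Over.mk a))) := by
      refine subsingleton_of_retract M
        (W₁ := (BigSite.zarIncl S).obj (U (i x))) (W₂ := Over.mk a)
        (Over.homMk (show (Over.mk a).left ⟶ ((BigSite.zarIncl S).obj (U (i x))).left from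
          (hU (i x)).isoSpec.inv) rfl)
        (Over.homMk (show ((BigSite.zarIncl S).obj (U (i x))).left ⟶ (Over.mk a).left from
          (hU (i x)).isoSpec.hom) (IsAffineOpen.isoSpec_hom_fromSpec _)) ?_ (h0 (i x))
      apply Over.OverMorphism.ext
      exact (hU (i x)).isoSpec.inv_hom_id
    have h1 := subsingleton_of_flat M a (had _ a) hA ψ hψflat
    refine subsingleton_of_retract M
      (W₁ := Over.mk (Spec.map ψ ≫ a)) (W₂ := Over.mk ((W x).ι ≫ V.hom))
      (Over.homMk (show (Over.mk ((W x).ι ≫ V.hom)).left ⟶ (Over.mk (Spec.map ψ ≫ a)).left from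
        (hW x).isoSpec.hom) ?_)
      (Over.homMk (show (Over.mk (Spec.map ψ ≫ a)).left ⟶ (Over.mk ((W x).ι ≫ V.hom)).left from
        (hW x).isoSpec.inv) ?_) ?_ h1
    · change (hW x).isoSpec.hom ≫ Spec.map ψ ≫ a = (W x).ι ≫ V.hom
      rw [hcomp, Iso.hom_inv_id_assoc]
    · change (hW x).isoSpec.inv ≫ (W x).ι ≫ V.hom = Spec.map ψ ≫ a
      rw [hcomp]
    · apply Over.OverMorphism.ext
      exact (hW x).isoSpec.hom_inv_id
  refine ⟨fun s s' => ?_⟩
  apply sub_eq_zero.1
  apply sep
  intro x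
  exact @Subsingleton.elim _ (key x) _ _

theorem tfae (hM : adequateMod Scheme.fppfPrecoverage S M) :
    List.TFAE [Adeq.parasitic Scheme.fppfPrecoverage S M, Adeq.parasiticFor Scheme.fppfPrecoverage S M,
      ∀ U : S.Opens, Subsingleton (BigSite.sectMod Scheme.fppfPrecoverage M ((BigSite.zarIncl S).obj U)),
      ∃ (ι : Type u) (U : ι → S.Opens), (∀ i, IsAffineOpen (U i)) ∧ (⨆ i, U i) = ⊤ ∧
        ∀ i, Subsingleton (BigSite.sectMod Scheme.fppfPrecoverage M ((BigSite.zarIncl S).obj (U i)))] := by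
  tfae_have 1 → 2 := by
    intro h P hP V g hg
    have hg' : Pfppf g := hP.2 hg
    exact h (Over.mk g) hg'.1
  tfae_have 2 → 3 := by
    intro h U
    let X : Bool → Scheme.{u} := fun b => match b with
      | true => U.toScheme
      | false => S
    let f : ∀ b, X b ⟶ S := fun b => match b with
      | true => U.ι
      | false => 𝟙 S
    have hcov : Presieve.ofArrows X f ∈ Scheme.fppfPrecoverage.coverings S := by
      rw [mem_fppf_iff]
      refine ⟨fun x => ⟨false, x, rfl⟩, fun b => ?_⟩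
      cases b
      · exact ⟨(inferInstance : Flat (𝟙 S)), (inferInstance : LocallyOfFinitePresentation (𝟙 S))⟩
      · exact ⟨(inferInstance : Flat U.ι), (inferInstance : LocallyOfFinitePresentation U.ι)⟩
    exact h hcov U.ι (Presieve.ofArrows.mk true)
  tfae_have 3 → 4 := by
    intro h
    exact ⟨S.affineOpens, fun i => i.1, fun i => i.2, iSup_affineOpens_eq_top S, fun i => h i.1⟩
  tfae_have 4 → 1 := by
    rintro ⟨ι, U, hU, hcov, h0⟩
    exact parasitic_of_affine_cover M hM U hU hcov h0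
  tfae_finish

end Groth.Agent.Helper8.Adeq2N
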