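import Groth.Prelude.Def_Adeq
import Mathlib

universe u

open CategoryTheory Opposite Limits TensorProduct

namespace Groth.Agent.Helper8.AdeqA

open Adeq

variable {A : Type u} [CommRing A]

theorem exact_app {C : Type*} [Category C] {R : Cᵒᵖ ⥤ RingCat.{u}}
    {F G H : PresheafOfModules.{u+1} R} (f : F ⟶ G) (g : G ⟶ H) (w : f ≫ g = 0)
    (hS : (ShortComplex.mk f g w).Exact) (X : Cᵒᵖ) (x : G.obj X) (hx : g.app X x = 0) :
    ∃ y, f.app X y = x := by
  have hS' := hS.map (PresheafOfModules.evaluation.{u+1} R X)
  rw [ShortComplex.moduleCat_exact_iff] at hS'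
  exact hS' x hx

/-- pointwise kernel presentation -/
structure IsKer (F : MVF A) {M N : ModuleCat.{u+1} A} (φ : M ⟶ N)
    (ι : F ⟶ (underline A).obj M) : Prop where
  inj : ∀ X, Function.Injective (ι.app X)
  exact : ∀ X (x : ((underline A).obj M).obj X),
    ((underline A).map φ).app X x = 0 ↔ ∃ y, ι.app X y = x

theorem isKer_of_iso {F : MVF A} {M N : ModuleCat.{u+1} A} (φ : M ⟶ N)
    (e : F ≅ kernel ((underline A).map φ)) :
    IsKer F φ (e.hom ≫ kernel.ι _) := by
  constructor
  · intro X
    exact PresheafOfModules.injective_of_mono _ X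
  · intro X x
    constructor
    · intro hx
      have hS : (ShortComplex.mk (kernel.ι ((underline A).map φ)) ((underline A).map φ)
          (kernel.condition _)).Exact :=
        ShortComplex.exact_of_f_is_kernel _ (kernelIsKernel _)
      obtain ⟨z, hz⟩ := exact_app _ _ _ hS X x hx
      refine ⟨e.inv.app X z, ?_⟩
      have h1 : e.inv ≫ e.hom ≫ kernel.ι ((underline A).map φ) = kernel.ι _ := by simp
      have h2 := congrArg (fun t => (t.app X) z) h1
      simp only [PresheafOfModules.comp_app, ModuleCat.comp_apply] at h2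
      exact h2.trans hz
    · rintro ⟨y, rfl⟩
      have h1 : (e.hom ≫ kernel.ι ((underline A).map φ)) ≫ (underline A).map φ = 0 := by simp
      have h2 := congrArg (fun t => (t.app X) y) h1
      simpa only [PresheafOfModules.comp_app, ModuleCat.comp_apply, PresheafOfModules.zero_app,
        ModuleCat.hom_zero, LinearMap.zero_apply] using h2

theorem iso_of_isKer {F : MVF A} {M N : ModuleCat.{u+1} A} (φ : M ⟶ N)
    (ι : F ⟶ (underline A).obj M) (h : IsKer F φ ι) :
    Nonempty (F ≅ kernel ((underline A).map φ)) := by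
  have w : ι ≫ (underline A).map φ = 0 := by
    ext X y
    simp only [PresheafOfModules.comp_app, ModuleCat.comp_apply]
    exact (h.exact X _).2 ⟨y, rfl⟩
  let k : F ⟶ kernel ((underline A).map φ) := kernel.lift _ ι w
  have hk : k ≫ kernel.ι _ = ι := kernel.lift_ι _ _ _
  haveI : Mono ι := PresheafOfModules.mono_of_injective (fun X => h.inj X)
  haveI : Mono k := by
    haveI : Mono (k ≫ kernel.ι ((underline A).map φ)) := by rw [hk]; infer_instance
    exact mono_of_mono k (kernel.ι _)
  haveI : Epi k := by
    apply PresheafOfModules.epi_of_surjective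
    intro X z
    have hz : ((underline A).map φ).app X ((kernel.ι ((underline A).map φ)).app X z) = 0 := by
      have h1 : kernel.ι ((underline A).map φ) ≫ (underline A).map φ = 0 := kernel.condition _
      have h2 := congrArg (fun t => (t.app X) z) h1
      simpa only [PresheafOfModules.comp_app, ModuleCat.comp_apply, PresheafOfModules.zero_app,
        ModuleCat.hom_zero, LinearMap.zero_apply] using h2
    obtain ⟨y, hy⟩ := (h.exact X _).1 hz
    refine ⟨y, ?_⟩
    apply PresheafOfModules.injective_of_mono (kernel.ι ((underline A).map φ)) X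
    have h2 := congrArg (fun t => (t.app X) y) hk
    simp only [PresheafOfModules.comp_app, ModuleCat.comp_apply] at h2
    exact h2.trans hy
  haveI : IsIso k := isIso_of_mono_of_epi k
  exact ⟨asIso k⟩

theorem adequate_iff (F : MVF A) :
    adequate A F ↔ ∃ (M N : ModuleCat.{u+1} A) (φ : M ⟶ N) (ι : F ⟶ (underline A).obj M),
      IsKer F φ ι := by
  constructor
  · rintro ⟨M, N, φ, ⟨e⟩⟩
    exact ⟨M, N, φ, _, isKer_of_iso φ e⟩
  · rintro ⟨M, N, φ, ι, h⟩
    exact ⟨M, N, φ, iso_of_isKer φ ι h⟩

end Groth.Agent.Helper8.AdeqA
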