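import Groth.Agent.Helper8.AdeqA

universe u

open CategoryTheory Opposite Limits TensorProduct

namespace Groth.Agent.Helper8.AdeqB

open Adeq AdeqA

section General

variable (A A' B' : Type u) [CommRing A] [CommRing A'] [CommRing B'] [Algebra A A']
  [Algebra A' B'] [Algebra A B'] [IsScalarTower A A' B']
variable (M : Type (u+1)) [AddCommGroup M] [Module A M]

/-- `B' ⊗[A] M ≃ B' ⊗[A'] (A' ⊗[A] M)` -/
noncomputable def thetaEquiv : B' ⊗[A] M ≃ₗ[B'] B' ⊗[A'] (A' ⊗[A] M) :=
  (TensorProduct.AlgebraTensorModule.cancelBaseChange A A' B' B' M).symm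

lemma thetaEquiv_tmul (b : B') (m : M) :
    thetaEquiv A A' B' M (b ⊗ₜ m) = b ⊗ₜ ((1 : A') ⊗ₜ m) := rfl

variable {A A' B' M}

lemma thetaEquiv_natural {C' : Type u} [CommRing C'] [Algebra A' C'] [Algebra A C']
    [IsScalarTower A A' C'] (g : B' →ₐ[A'] C') (g₀ : B' →ₐ[A] C') (hg : ∀ b, g₀ b = g b)
    (x : B' ⊗[A] M) :
    thetaEquiv A A' C' M (g₀.toLinearMap.rTensor M x) =
      g.toLinearMap.rTensor (A' ⊗[A] M) (thetaEquiv A A' B' M x) := by
  induction x using TensorProduct.induction_on with
  | zero => simp
  | tmul b m =>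
    rw [LinearMap.rTensor_tmul, thetaEquiv_tmul, thetaEquiv_tmul, LinearMap.rTensor_tmul]
    simp [hg]
  | add x y hx hy => simp only [map_add, hx, hy]

lemma thetaEquiv_map {N : Type (u+1)} [AddCommGroup N] [Module A N] (φ : M →ₗ[A] N)
    (x : B' ⊗[A] M) :
    thetaEquiv A A' B' N (φ.baseChange B' x) =
      (φ.baseChange A').baseChange B' (thetaEquiv A A' B' M x) := by
  induction x using TensorProduct.induction_on with
  | zero => simp
  | tmul b m =>
    rw [LinearMap.baseChange_tmul, thetaEquiv_tmul, thetaEquiv_tmul, LinearMap.baseChange_tmul,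
      LinearMap.baseChange_tmul]
  | add x y hx hy => simp only [map_add, hx, hy]

end General

variable {A A' : Type u} [CommRing A] [CommRing A'] [Algebra A A']

/-- the `A`-algebra structure on an `A'`-algebra used by `Alg.restr`. -/
@[reducible] def algRestr (A : Type u) [CommRing A] {A' : Type u} [CommRing A'] [Algebra A A']
    (B' : Type u) [CommRing B'] [Algebra A' B'] : Algebra A B' :=
  ((algebraMap A' B').comp (algebraMap A A')).toAlgebra

lemma tower_algRestr (B' : Type u) [CommRing B'] [Algebra A' B'] :
    letI := algRestr A (A' := A') B'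
    IsScalarTower A A' B' :=
  letI := algRestr A (A' := A') B'
  IsScalarTower.of_algebraMap_eq fun _ => rfl

/-- comparison `restr (U M) ⟶ U (A' ⊗ M)` -/
noncomputable def theta (M : ModuleCat.{u+1} A) :
    (restr A A').obj ((underline A).obj M) ⟶
      (underline A').obj (ModuleCat.of A' (A' ⊗[A] M)) :=
  PresheafOfModules.homMk
    { app := fun X' =>
        letI := algRestr A (A' := A') X'.unop.unop
        haveI := tower_algRestr (A := A) (A' := A') X'.unop.unop
        AddCommGrpCat.ofHom (thetaEquiv A A' X'.unop.unop M).toLinearMap.toAddMonoidHom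
      naturality := by
        intro X' Y' f
        letI := algRestr A (A' := A') X'.unop.unop
        haveI := tower_algRestr (A := A) (A' := A') X'.unop.unop
        letI := algRestr A (A' := A') Y'.unop.unop
        haveI := tower_algRestr (A := A) (A' := A') Y'.unop.unop
        ext x
        exact thetaEquiv_natural (M := M) f.unop.unop.hom
          ((Alg.restr A A').map f.unop.unop).hom (fun _ => rfl) x }
    (by
      intro X' r m
      letI := algRestr A (A' := A') X'.unop.unop
      haveI := tower_algRestr (A := A) (A' := A') X'.unop.unop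
      exact (thetaEquiv A A' X'.unop.unop M).map_smul r m)

theorem adequate_restr (F : MVF A) (hF : adequate A F) :
    adequate A' ((restr A A').obj F) := by
  rw [adequate_iff] at hF ⊢
  obtain ⟨M, N, φ, ι, h⟩ := hF
  refine ⟨ModuleCat.of A' (A' ⊗[A] M), ModuleCat.of A' (A' ⊗[A] N),
    ModuleCat.ofHom (φ.hom.baseChange A'), (restr A A').map ι ≫ theta M, ?_, ?_⟩
  · intro X'
    letI := algRestr A (A' := A') X'.unop.unop
    haveI := tower_algRestr (A := A) (A' := A') X'.unop.unop
    intro y₁ y₂ hy
    simp only [PresheafOfModules.comp_app, ModuleCat.comp_apply] at hy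
    have hy' : thetaEquiv A A' X'.unop.unop M
        (ι.app (pt ((Alg.restr A A').obj X'.unop.unop)) y₁) =
        thetaEquiv A A' X'.unop.unop M (ι.app (pt ((Alg.restr A A').obj X'.unop.unop)) y₂) := hy
    exact h.inj _ ((thetaEquiv A A' X'.unop.unop M).injective hy')
  · intro X' x'
    letI := algRestr A (A' := A') X'.unop.unop
    haveI := tower_algRestr (A := A) (A' := A') X'.unop.unop
    obtain ⟨x, rfl⟩ : ∃ x, thetaEquiv A A' X'.unop.unop M x = x' :=
      (thetaEquiv A A' X'.unop.unop M).surjective x'
    have key : ((underline A').map (ModuleCat.ofHom (φ.hom.baseChange A'))).app X'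
        (thetaEquiv A A' X'.unop.unop M x) =
        thetaEquiv A A' X'.unop.unop N
          (((underline A).map φ).app (pt ((Alg.restr A A').obj X'.unop.unop)) x) :=
      (thetaEquiv_map φ.hom x).symm
    rw [key]
    have hz : ∀ z : X'.unop.unop ⊗[A] N, thetaEquiv A A' X'.unop.unop N z = 0 ↔ z = 0 :=
      fun z => LinearEquiv.map_eq_zero_iff _
    refine (hz _).trans ((h.exact (pt ((Alg.restr A A').obj X'.unop.unop)) x).trans ?_)
    constructor
    · rintro ⟨y, hy⟩
      refine ⟨y, ?_⟩
      simp only [PresheafOfModules.comp_app, ModuleCat.comp_apply]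
      exact congrArg (thetaEquiv A A' X'.unop.unop M) hy
    · rintro ⟨y, hy⟩
      refine ⟨y, (thetaEquiv A A' X'.unop.unop M).injective ?_⟩
      simp only [PresheafOfModules.comp_app, ModuleCat.comp_apply] at hy
      exact hy

end Groth.Agent.Helper8.AdeqB
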