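import Groth.Agent.Helper8.AdeqA

universe u

open CategoryTheory Opposite Limits TensorProduct

namespace Groth.Agent.Helper8.AdeqC

open Adeq AdeqA

section General

variable (A A' B : Type u) [CommRing A] [CommRing A'] [CommRing B] [Algebra A A'] [Algebra A B]
variable (M' : Type (u+1)) [AddCommGroup M'] [Module A' M'] [Module A M'] [IsScalarTower A A' M']

/-- `(A' ⊗[A] B) ⊗[A'] M' ≃ B ⊗[A] M'` -/
noncomputable def pushAddEquiv : (A' ⊗[A] B) ⊗[A'] M' ≃+ B ⊗[A] M' :=
  ((TensorProduct.comm A' (A' ⊗[A] B) M').toAddEquiv.trans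
    (TensorProduct.AlgebraTensorModule.cancelBaseChange A A' A' M' B).toAddEquiv).trans
    (TensorProduct.comm A M' B).toAddEquiv

lemma pushAddEquiv_tmul (a' : A') (b : B) (m : M') :
    pushAddEquiv A A' B M' ((a' ⊗ₜ b) ⊗ₜ m) = b ⊗ₜ (a' • m) := rfl

variable {A A' B M'}

lemma pushAddEquiv_smul (b₀ : B) (x : (A' ⊗[A] B) ⊗[A'] M') :
    pushAddEquiv A A' B M' (((1 : A') ⊗ₜ[A] b₀) • x) = b₀ • pushAddEquiv A A' B M' x := by
  induction x using TensorProduct.induction_on with
  | zero => simp
  | tmul t m =>
    induction t using TensorProduct.induction_on with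
    | zero => simp
    | tmul a' b =>
      rw [TensorProduct.smul_tmul', smul_eq_mul, Algebra.TensorProduct.tmul_mul_tmul,
        pushAddEquiv_tmul, pushAddEquiv_tmul, TensorProduct.smul_tmul', one_mul, smul_eq_mul]
    | add t₁ t₂ h₁ h₂ =>
      rw [TensorProduct.add_tmul, smul_add, map_add, map_add, smul_add, h₁, h₂]
  | add x y hx hy => rw [smul_add, map_add, map_add, smul_add, hx, hy]

lemma pushAddEquiv_natural {C : Type u} [CommRing C] [Algebra A C] (g : B →ₐ[A] C)
    (x : (A' ⊗[A] B) ⊗[A'] M') :
    pushAddEquiv A A' C M'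
      ((Algebra.TensorProduct.map (AlgHom.id A' A') g).toLinearMap.rTensor M' x) =
      g.toLinearMap.rTensor M' (pushAddEquiv A A' B M' x) := by
  induction x using TensorProduct.induction_on with
  | zero => simp
  | tmul t m =>
    induction t using TensorProduct.induction_on with
    | zero => simp
    | tmul a' b =>
      rw [LinearMap.rTensor_tmul, pushAddEquiv_tmul, LinearMap.rTensor_tmul]
      simp [pushAddEquiv_tmul]
    | add t₁ t₂ h₁ h₂ =>
      rw [TensorProduct.add_tmul, map_add, map_add, map_add, map_add, h₁, h₂]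
  | add x y hx hy => rw [map_add, map_add, map_add, map_add, hx, hy]

lemma pushAddEquiv_map {N' : Type (u+1)} [AddCommGroup N'] [Module A' N'] [Module A N']
    [IsScalarTower A A' N'] (φ' : M' →ₗ[A'] N') (x : (A' ⊗[A] B) ⊗[A'] M') :
    pushAddEquiv A A' B N' (φ'.baseChange (A' ⊗[A] B) x) =
      (φ'.restrictScalars A).baseChange B (pushAddEquiv A A' B M' x) := by
  induction x using TensorProduct.induction_on with
  | zero => simp
  | tmul t m =>
    induction t using TensorProduct.induction_on with
    | zero => simp
    | tmul a' b =>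
      rw [LinearMap.baseChange_tmul, pushAddEquiv_tmul, pushAddEquiv_tmul,
        LinearMap.baseChange_tmul]
      simp
    | add t₁ t₂ h₁ h₂ =>
      rw [TensorProduct.add_tmul, map_add, map_add, map_add, map_add, h₁, h₂]
  | add x y hx hy => rw [map_add, map_add, map_add, map_add, hx, hy]

end General

variable {A A' : Type u} [CommRing A] [CommRing A'] [Algebra A A']

/-- the `A`-module structure on an `A'`-module. -/
@[reducible] def modRestr (A : Type u) [CommRing A] {A' : Type u} [CommRing A'] [Algebra A A']
    (M' : Type*) [AddCommGroup M'] [Module A' M'] : Module A M' :=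
  Module.compHom M' (algebraMap A A')

lemma tower_modRestr (M' : Type*) [AddCommGroup M'] [Module A' M'] :
    letI := modRestr A (A' := A') M'
    IsScalarTower A A' M' :=
  letI := modRestr A (A' := A') M'
  ⟨fun a a' m => by
    change (a • a') • m = algebraMap A A' a • (a' • m)
    rw [Algebra.smul_def, mul_smul]⟩

/-- comparison `push (U M') ⟶ U (M' as A-module)` -/
noncomputable def theta' (M' : ModuleCat.{u+1} A') :
    letI := modRestr A (A' := A') M'
    (push A A').obj ((underline A').obj M') ⟶ (underline A).obj (ModuleCat.of A M') :=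
  letI := modRestr A (A' := A') M'
  haveI := tower_modRestr (A := A) (A' := A') M'
  PresheafOfModules.homMk
    { app := fun X => AddCommGrpCat.ofHom (pushAddEquiv A A' X.unop.unop M').toAddMonoidHom
      naturality := by
        intro X Y f
        ext x
        exact pushAddEquiv_natural f.unop.unop.hom x }
    (by
      intro X r m
      exact pushAddEquiv_smul r m)

theorem adequate_push (F' : MVF A') (hF' : adequate A' F') :
    adequate A ((push A A').obj F') := by
  rw [adequate_iff] at hF' ⊢
  obtain ⟨M', N', φ', ι', h⟩ := hF'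
  letI iM := modRestr A (A' := A') M'
  haveI tM := tower_modRestr (A := A) (A' := A') M'
  letI iN := modRestr A (A' := A') N'
  haveI tN := tower_modRestr (A := A) (A' := A') N'
  refine ⟨ModuleCat.of A M', ModuleCat.of A N', ModuleCat.ofHom (φ'.hom.restrictScalars A),
    (push A A').map ι' ≫ theta' M', ?_, ?_⟩
  · intro X
    intro y₁ y₂ hy
    simp only [PresheafOfModules.comp_app, ModuleCat.comp_apply] at hy
    have hy' : pushAddEquiv A A' X.unop.unop M'
        (ι'.app (pt ((Alg.baseChange A A').obj X.unop.unop)) y₁) =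
        pushAddEquiv A A' X.unop.unop M'
          (ι'.app (pt ((Alg.baseChange A A').obj X.unop.unop)) y₂) := hy
    exact h.inj _ ((pushAddEquiv A A' X.unop.unop M').injective hy')
  · intro X x'
    obtain ⟨x, rfl⟩ : ∃ x, pushAddEquiv A A' X.unop.unop M' x = x' :=
      (pushAddEquiv A A' X.unop.unop M').surjective x'
    have key : ((underline A).map (ModuleCat.ofHom (φ'.hom.restrictScalars A))).app X
        (pushAddEquiv A A' X.unop.unop M' x) =
        pushAddEquiv A A' X.unop.unop N'
          (((underline A').map φ').app (pt ((Alg.baseChange A A').obj X.unop.unop)) x) :=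
      (pushAddEquiv_map φ'.hom x).symm
    rw [key]
    have hz : ∀ z : (A' ⊗[A] X.unop.unop) ⊗[A'] N',
        pushAddEquiv A A' X.unop.unop N' z = 0 ↔ z = 0 :=
      fun z => AddEquiv.map_eq_zero_iff _
    refine (hz _).trans ((h.exact (pt ((Alg.baseChange A A').obj X.unop.unop)) x).trans ?_)
    constructor
    · rintro ⟨y, hy⟩
      refine ⟨y, ?_⟩
      simp only [PresheafOfModules.comp_app, ModuleCat.comp_apply]
      exact congrArg (pushAddEquiv A A' X.unop.unop M') hy
    · rintro ⟨y, hy⟩
      refine ⟨y, (pushAddEquiv A A' X.unop.unop M').injective ?_⟩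
      simp only [PresheafOfModules.comp_app, ModuleCat.comp_apply] at hy
      exact hy

end Groth.Agent.Helper8.AdeqC
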