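import Groth.Agent.Helper8.AdeqA

universe u

open CategoryTheory Opposite Limits TensorProduct

namespace Groth.Agent.Helper8.AdeqE

open Adeq AdeqA

section Algebra

variable {A : Type u} [CommRing A] {n m : ℕ} (a : Fin n → Fin m → A)

/-- the ideal of linear relations -/
noncomputable def relIdeal : Ideal (MvPolynomial (Fin n) A) :=
  Ideal.span (Set.range fun j : Fin m => ∑ i, MvPolynomial.C (a i j) * MvPolynomial.X i)

/-- universal algebra -/
abbrev UB : Type u := MvPolynomial (Fin n) A ⧸ relIdeal a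

/-- the universal coordinates -/
noncomputable def xB (i : Fin n) : UB a := Ideal.Quotient.mk _ (MvPolynomial.X i)

lemma smul_xB (r : A) (i : Fin n) :
    r • xB a i = Ideal.Quotient.mk (relIdeal a) (MvPolynomial.C r * MvPolynomial.X i) := by
  rw [← MvPolynomial.smul_eq_C_mul]
  rfl

lemma rel_xB (j : Fin m) : ∑ i, a i j • xB a i = 0 := by
  have h1 : (∑ i, MvPolynomial.C (a i j) * MvPolynomial.X i) ∈ relIdeal a :=
    Ideal.subset_span ⟨j, rfl⟩
  have h := Ideal.Quotient.eq_zero_iff_mem.2 h1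
  rw [map_sum] at h
  rw [← h]
  exact Finset.sum_congr rfl fun i _ => smul_xB a _ i

/-- the classifying map -/
noncomputable def classify {C : Type*} [CommRing C] [Algebra A C] (c : Fin n → C)
    (hc : ∀ j, ∑ i, a i j • c i = 0) : UB a →ₐ[A] C :=
  Ideal.Quotient.liftₐ (relIdeal a) (MvPolynomial.aeval c) (by
    intro p hp
    have hle : relIdeal a ≤ RingHom.ker (MvPolynomial.aeval c : MvPolynomial (Fin n) A →ₐ[A] C) := by
      refine Ideal.span_le.2 ?_
      rintro _ ⟨j, rfl⟩
      rw [SetLike.mem_coe, RingHom.mem_ker, map_sum, ← hc j]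
      refine Finset.sum_congr rfl fun i _ => ?_
      rw [map_mul, MvPolynomial.aeval_C, MvPolynomial.aeval_X, Algebra.smul_def]
    exact hle hp)

lemma classify_mk {C : Type*} [CommRing C] [Algebra A C] (c : Fin n → C)
    (hc : ∀ j, ∑ i, a i j • c i = 0) (q : MvPolynomial (Fin n) A) :
    classify a c hc (Ideal.Quotient.mk _ q) = MvPolynomial.aeval c q := rfl

lemma classify_xB {C : Type*} [CommRing C] [Algebra A C] (c : Fin n → C)
    (hc : ∀ j, ∑ i, a i j • c i = 0) (i : Fin n) :
    classify a c hc (xB a i) = c i := by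
  rw [xB, classify_mk, MvPolynomial.aeval_X]

open Polynomial in
lemma sigma_rel (j : Fin m) :
    ∑ i, a i j • ((X : (UB a)[X]) * C (xB a i)) = 0 := by
  have : ∑ i, a i j • ((X : (UB a)[X]) * C (xB a i)) = X * C (∑ i, a i j • xB a i) := by
    rw [map_sum, Finset.mul_sum]
    refine Finset.sum_congr rfl fun i _ => ?_
    rw [← mul_smul_comm, Polynomial.smul_C]
  rw [this, rel_xB, map_zero, mul_zero]

open Polynomial in
/-- the scaling map `x_i ↦ t x_i` -/
noncomputable def sigma : UB a →ₐ[A] (UB a)[X] :=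
  classify a (fun i => (X : (UB a)[X]) * C (xB a i)) (sigma_rel a)

open Polynomial in
/-- polynomials with constant coefficient in `A` and linear coefficient in the span of the `x_i` -/
def degSub : Subalgebra A (UB a)[X] where
  carrier := {p | p.coeff 0 ∈ Set.range (algebraMap A (UB a)) ∧
    p.coeff 1 ∈ Submodule.span A (Set.range (xB a))}
  mul_mem' := by
    rintro p q ⟨⟨r, hr⟩, hp1⟩ ⟨⟨s, hs⟩, hq1⟩
    refine ⟨⟨r * s, ?_⟩, ?_⟩
    · rw [Polynomial.mul_coeff_zero, map_mul, hr, hs]
    · rw [Polynomial.mul_coeff_one, ← hr, ← hs, ← Algebra.smul_def, mul_comm, ← Algebra.smul_def]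
      exact Submodule.add_mem _ (Submodule.smul_mem _ _ hq1) (Submodule.smul_mem _ _ hp1)
  add_mem' := by
    rintro p q ⟨⟨r, hr⟩, hp1⟩ ⟨⟨s, hs⟩, hq1⟩
    refine ⟨⟨r + s, ?_⟩, ?_⟩
    · rw [Polynomial.coeff_add, map_add, hr, hs]
    · rw [Polynomial.coeff_add]
      exact Submodule.add_mem _ hp1 hq1
  algebraMap_mem' := by
    intro r
    refine ⟨⟨r, ?_⟩, ?_⟩
    · rw [Polynomial.algebraMap_apply, Polynomial.coeff_C_zero]
    · rw [Polynomial.algebraMap_apply, Polynomial.coeff_C_ne_zero one_ne_zero]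
      exact Submodule.zero_mem _

open Polynomial in
lemma sigma_mem (b : UB a) : sigma a b ∈ degSub a := by
  obtain ⟨q, rfl⟩ := Ideal.Quotient.mk_surjective b
  rw [sigma, classify_mk]
  induction q using MvPolynomial.induction_on with
  | C r =>
    rw [MvPolynomial.aeval_C]
    exact Subalgebra.algebraMap_mem _ r
  | add p q hp hq =>
    rw [map_add]
    exact Subalgebra.add_mem _ hp hq
  | mul_X p i hp =>
    rw [map_mul, MvPolynomial.aeval_X]
    refine Subalgebra.mul_mem _ hp ⟨⟨0, ?_⟩, ?_⟩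
    · rw [map_zero, Polynomial.mul_coeff_zero, Polynomial.coeff_X_zero, zero_mul]
    · rw [Polynomial.coeff_X_mul, Polynomial.coeff_C_zero]
      exact Submodule.subset_span ⟨i, rfl⟩

open Polynomial in
theorem exists_linear_repr {M : Type*} [AddCommGroup M] [Module A M] (θ : UB a ⊗[A] M)
    (hθ : (sigma a).toLinearMap.rTensor M θ =
      (X : (UB a)[X]) • (CAlgHom (R := A) (A := UB a)).toLinearMap.rTensor M θ) :
    ∃ mm : Fin n → M, θ = ∑ i, xB a i ⊗ₜ[A] mm i := by
  let c₁ : (UB a)[X] →ₗ[A] UB a := (Polynomial.lcoeff (UB a) 1).restrictScalars A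
  have hR : ∀ z : UB a ⊗[A] M, c₁.rTensor M ((X : (UB a)[X]) •
      (CAlgHom (R := A) (A := UB a)).toLinearMap.rTensor M z) = z := by
    intro z
    induction z using TensorProduct.induction_on with
    | zero => simp
    | tmul b mm =>
      rw [LinearMap.rTensor_tmul, TensorProduct.smul_tmul', LinearMap.rTensor_tmul]
      congr 1
      change ((X : (UB a)[X]) * C b).coeff 1 = b
      rw [Polynomial.coeff_X_mul, Polynomial.coeff_C_zero]
    | add x y hx hy => rw [map_add, smul_add, map_add, hx, hy]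
  have h1 : θ = (c₁ ∘ₗ (sigma a).toLinearMap).rTensor M θ := by
    rw [LinearMap.rTensor_comp_apply, hθ, hR]
  have h2 : ∀ z : UB a ⊗[A] M, ∃ mm : Fin n → M,
      (c₁ ∘ₗ (sigma a).toLinearMap).rTensor M z = ∑ i, xB a i ⊗ₜ[A] mm i := by
    intro z
    induction z using TensorProduct.induction_on with
    | zero => exact ⟨0, by simp⟩
    | tmul b mm =>
      have hb : (sigma a b).coeff 1 ∈ Submodule.span A (Set.range (xB a)) := (sigma_mem a b).2
      obtain ⟨r, hr⟩ := (Submodule.mem_span_range_iff_exists_fun A).1 hb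
      refine ⟨fun i => r i • mm, ?_⟩
      rw [LinearMap.rTensor_tmul]
      change (sigma a b).coeff 1 ⊗ₜ[A] mm = _
      rw [← hr, TensorProduct.sum_tmul]
      exact Finset.sum_congr rfl fun i _ => TensorProduct.smul_tmul _ _ _
    | add x y hx hy =>
      obtain ⟨m1, h1⟩ := hx
      obtain ⟨m2, h2⟩ := hy
      refine ⟨m1 + m2, ?_⟩
      rw [map_add, h1, h2, ← Finset.sum_add_distrib]
      exact Finset.sum_congr rfl fun i _ => (TensorProduct.tmul_add _ _ _).symm
  obtain ⟨mm, hmm⟩ := h2 θ
  exact ⟨mm, h1.trans hmm⟩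

end Algebra

section Basis

variable {A : Type u} [CommRing A] {P P' : Type*} [AddCommGroup P] [Module A P]
  [AddCommGroup P'] [Module A P']
  {n m : ℕ} (e : Module.Basis (Fin n) A P) (e' : Module.Basis (Fin m) A P') (φ₀ : P →ₗ[A] P')

/-- matrix of `φ₀` -/
noncomputable def mat : Fin n → Fin m → A := fun i j => e'.repr (φ₀ (e i)) j

lemma baseChange_sum {C : Type*} [CommRing C] [Algebra A C] (c : Fin n → C) :
    φ₀.baseChange C (∑ i, c i ⊗ₜ[A] e i) = ∑ j, (∑ i, mat e e' φ₀ i j • c i) ⊗ₜ[A] e' j := by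
  rw [map_sum]
  simp_rw [LinearMap.baseChange_tmul, TensorProduct.sum_tmul]
  rw [Finset.sum_comm]
  refine Finset.sum_congr rfl fun i _ => ?_
  conv_lhs => rw [← e'.sum_repr (φ₀ (e i)), TensorProduct.tmul_sum]
  refine Finset.sum_congr rfl fun j _ => ?_
  rw [TensorProduct.tmul_smul, TensorProduct.smul_tmul']
  rfl

lemma sum_tmul_eq_zero {C : Type*} [CommRing C] [Algebra A C] (d : Fin m → C)
    (h : ∑ j, d j ⊗ₜ[A] e' j = 0) : ∀ j, d j = 0 := by
  have hb := (Algebra.TensorProduct.basis C e').linearIndependent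
  rw [Fintype.linearIndependent_iff] at hb
  apply hb
  rw [← h]
  refine Finset.sum_congr rfl fun j _ => ?_
  rw [Algebra.TensorProduct.basis_apply, TensorProduct.smul_tmul', smul_eq_mul, mul_one]

lemma exists_coords {C : Type*} [CommRing C] [Algebra A C] (y : C ⊗[A] P) :
    ∃ c : Fin n → C, y = ∑ i, c i ⊗ₜ[A] e i := by
  refine ⟨fun i => (Algebra.TensorProduct.basis C e).repr y i, ?_⟩
  conv_lhs => rw [← (Algebra.TensorProduct.basis C e).sum_repr y]
  refine Finset.sum_congr rfl fun i _ => ?_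
  rw [Algebra.TensorProduct.basis_apply, TensorProduct.smul_tmul', smul_eq_mul, mul_one]

end Basis

variable {A : Type u} [CommRing A]

/-- transition map as a function into the plain value -/
noncomputable def tr (F : MVF A) {B C : Alg A} (f : B ⟶ C) (x : F.obj (pt B)) : F.obj (pt C) :=
  F.map (ptHom f) x

lemma tr_nat {F G : MVF A} (α : F ⟶ G) {B C : Alg A} (f : B ⟶ C) (x : F.obj (pt B)) :
    α.app (pt C) (tr F f x) = tr G f (α.app (pt B) x) :=
  PresheafOfModules.naturality_apply α (ptHom f) x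

lemma tr_underline (M : ModuleCat.{u+1} A) {B C : Alg A} (f : B ⟶ C) (z : B ⊗[A] M) :
    tr ((underline A).obj M) f z = f.hom.toLinearMap.rTensor M z := rfl

lemma app_smul {F G : MVF A} (α : F ⟶ G) (C : Alg A) (c : C) (y : F.obj (pt C)) :
    α.app (pt C) (c • y) = c • α.app (pt C) y := (α.app (pt C)).hom.map_smul c y

theorem lift_exists (P P' M : ModuleCat.{u+1} A) [Module.Finite A P] [Module.Free A P]
    [Module.Finite A P'] [Module.Free A P'] (φ₀ : P ⟶ P')
    (φ : kernel ((underline A).map φ₀) ⟶ (underline A).obj M) :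
    ∃ g : P ⟶ M, kernel.ι ((underline A).map φ₀) ≫ (underline A).map g = φ := by
  have hK : IsKer (kernel ((underline A).map φ₀)) φ₀ (kernel.ι ((underline A).map φ₀)) := by
    have := isKer_of_iso φ₀ (Iso.refl (kernel ((underline A).map φ₀)))
    simpa using this
  let e := (Module.Free.chooseBasis A P).reindex (Fintype.equivFin _)
  let e' := (Module.Free.chooseBasis A P').reindex (Fintype.equivFin _)
  let a := mat e e' φ₀.hom
  let B : Alg A := algOf A (UB a)
  let Bt : Alg A := algOf A (Polynomial (UB a))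
  -- universal element
  have hξ : ((underline A).map φ₀).app (pt B) (∑ i, xB a i ⊗ₜ[A] e i) = 0 := by
    change φ₀.hom.baseChange (UB a) (∑ i, xB a i ⊗ₜ[A] e i) = 0
    rw [baseChange_sum e e']
    simp only [a, rel_xB, TensorProduct.zero_tmul, Finset.sum_const_zero]
  obtain ⟨lu, hlu⟩ := (hK.exact (pt B) _).1 hξ
  let θ : UB a ⊗[A] M := φ.app (pt B) lu
  let σ : B ⟶ Bt := CommAlgCat.ofHom (sigma a)
  let inc : B ⟶ Bt := CommAlgCat.ofHom (Polynomial.CAlgHom (R := A) (A := UB a))
  have hsc : tr (kernel ((underline A).map φ₀)) σ lu =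
      (Polynomial.X : Polynomial (UB a)) • tr (kernel ((underline A).map φ₀)) inc lu := by
    apply hK.inj (pt Bt)
    rw [tr_nat, app_smul, tr_nat, hlu, tr_underline, tr_underline]
    change (sigma a).toLinearMap.rTensor P (∑ i, xB a i ⊗ₜ[A] e i) =
      (Polynomial.X : Polynomial (UB a)) •
        (Polynomial.CAlgHom (R := A) (A := UB a)).toLinearMap.rTensor P (∑ i, xB a i ⊗ₜ[A] e i)
    rw [map_sum, map_sum, Finset.smul_sum]
    refine Finset.sum_congr rfl fun i _ => ?_
    rw [LinearMap.rTensor_tmul, LinearMap.rTensor_tmul, TensorProduct.smul_tmul']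
    congr 1
    exact classify_xB a _ (sigma_rel a) i
  have hθ : (sigma a).toLinearMap.rTensor M θ = (Polynomial.X : Polynomial (UB a)) •
      (Polynomial.CAlgHom (R := A) (A := UB a)).toLinearMap.rTensor M θ := by
    have := congrArg (φ.app (pt Bt)) hsc
    rw [tr_nat, app_smul, tr_nat, tr_underline, tr_underline] at this
    exact this
  obtain ⟨mm, hmm⟩ := exists_linear_repr a θ hθ
  refine ⟨ModuleCat.ofHom (e.constr A mm), ?_⟩
  ext X l
  let C : Alg A := X.unop.unop
  obtain ⟨c, hc⟩ := exists_coords e (C := C) ((kernel.ι ((underline A).map φ₀)).app X l)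
  have hz : ((underline A).map φ₀).app X ((kernel.ι ((underline A).map φ₀)).app X l) = 0 :=
    (hK.exact X _).2 ⟨l, rfl⟩
  rw [hc] at hz
  change φ₀.hom.baseChange C (∑ i, c i ⊗ₜ[A] e i) = 0 at hz
  rw [baseChange_sum e e'] at hz
  have hrel := sum_tmul_eq_zero e' _ hz
  let ψ : B ⟶ C := CommAlgCat.ofHom (classify a c hrel)
  have hl : tr (kernel ((underline A).map φ₀)) ψ lu = l := by
    apply hK.inj X
    rw [tr_nat, hlu, tr_underline, hc]
    change (classify a c hrel).toLinearMap.rTensor P (∑ i, xB a i ⊗ₜ[A] e i) =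
      ∑ i, c i ⊗ₜ[A] e i
    rw [map_sum]
    refine Finset.sum_congr rfl fun i _ => ?_
    rw [LinearMap.rTensor_tmul]
    congr 1
    exact classify_xB a c hrel i
  have h1 : φ.app X l = (classify a c hrel).toLinearMap.rTensor M θ := by
    rw [← hl]
    exact tr_nat φ ψ lu
  rw [h1, hmm, map_sum]
  simp only [PresheafOfModules.comp_app, ModuleCat.comp_apply]
  rw [hc]
  change (e.constr A mm).baseChange C (∑ i, c i ⊗ₜ[A] e i) = _
  rw [map_sum]
  refine Finset.sum_congr rfl fun i _ => ?_
  rw [LinearMap.baseChange_tmul, Module.Basis.constr_basis, LinearMap.rTensor_tmul]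
  congr 1
  exact (classify_xB a c hrel i).symm

end Groth.Agent.Helper8.AdeqE
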