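import Groth.Agent.Helper8.AdeqE

universe u

open CategoryTheory Opposite Limits TensorProduct

namespace Groth.Agent.Helper8.AdeqF

open Adeq AdeqA AdeqE

theorem exists_presentation {A : Type*} [CommRing A] {C M N : Type*} [CommRing C] [Algebra A C]
    [AddCommGroup M] [Module A M] [AddCommGroup N] [Module A N]
    (φ : M →ₗ[A] N) (x : C ⊗[A] M) (hx : φ.baseChange C x = 0) :
    ∃ (n k : ℕ) (a : Fin n → Fin k → A) (mm : Fin n → M) (y : Fin k → N) (b : Fin n → C),
      (∀ i, φ (mm i) = ∑ j, a i j • y j) ∧ (∀ j, ∑ i, a i j • b i = 0) ∧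
        x = ∑ i, b i ⊗ₜ[A] mm i := by
  obtain ⟨k₀, b₀, m₀, rfl⟩ := TensorProduct.exists_sum_tmul_eq x
  let J₀ : Submodule A C := Submodule.span A (Set.range b₀)
  have hJ₀ : J₀.FG := Submodule.fg_span (Set.finite_range b₀)
  let z : J₀ ⊗[A] N := ∑ i, (⟨b₀ i, Submodule.subset_span ⟨i, rfl⟩⟩ : J₀) ⊗ₜ[A] φ (m₀ i)
  have hz : J₀.subtype.rTensor N z = J₀.subtype.rTensor N 0 := by
    rw [map_zero, map_sum]
    simp only [LinearMap.rTensor_tmul, Submodule.subtype_apply]
    rw [← hx, map_sum]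
    simp only [LinearMap.baseChange_tmul]
  obtain ⟨J, hJ, hle, hJz⟩ := hJ₀.exists_rTensor_fg_inclusion_eq hz
  obtain ⟨k₁, b₁, hb₁⟩ := Submodule.fg_iff_exists_fin_generating_family.1 hJ
  let b : Fin (k₀ + k₁) → C := Fin.append b₀ b₁
  let mm : Fin (k₀ + k₁) → M := Fin.append m₀ (fun _ => 0)
  have hbJ : ∀ i, b i ∈ J := by
    intro i
    refine Fin.addCases (fun i => ?_) (fun i => ?_) i
    · simp only [b, Fin.append_left]
      exact hle (Submodule.subset_span ⟨i, rfl⟩)
    · simp only [b, Fin.append_right]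
      rw [← hb₁]
      exact Submodule.subset_span ⟨i, rfl⟩
  let c : Fin (k₀ + k₁) → J := fun i => ⟨b i, hbJ i⟩
  have hc : Submodule.span A (Set.range c) = ⊤ := by
    apply Submodule.map_injective_of_injective J.injective_subtype
    rw [Submodule.map_span, Submodule.map_top, Submodule.range_subtype, ← Set.range_comp]
    apply le_antisymm
    · rw [Submodule.span_le]
      rintro _ ⟨i, rfl⟩
      exact hbJ i
    · have h3 : Submodule.span A (Set.range b₁) ≤
          Submodule.span A (Set.range (⇑J.subtype ∘ c)) := by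
        apply Submodule.span_mono
        rintro _ ⟨i, rfl⟩
        exact ⟨Fin.natAdd k₀ i, by simp [c, b]⟩
      rwa [hb₁] at h3
  have hsum : ∑ i, c i ⊗ₜ[A] φ (mm i) = (0 : J ⊗[A] N) := by
    rw [Fin.sum_univ_add]
    have h2 : ∀ i : Fin k₁, c (Fin.natAdd k₀ i) ⊗ₜ[A] φ (mm (Fin.natAdd k₀ i)) = 0 := by
      intro i
      simp [mm]
    rw [Finset.sum_eq_zero (fun i _ => h2 i), add_zero]
    rw [map_zero] at hJz
    rw [← hJz, map_sum]
    refine Finset.sum_congr rfl fun i _ => ?_
    rw [LinearMap.rTensor_tmul]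
    have e1 : mm (Fin.castAdd k₁ i) = m₀ i := by simp [mm]
    have e2 : c (Fin.castAdd k₁ i) = Submodule.inclusion hle
        (⟨b₀ i, Submodule.subset_span ⟨i, rfl⟩⟩ : J₀) := by
      apply Subtype.ext
      simp [c, b]
    rw [e1, e2]
  obtain ⟨k, a, y, h1, h2⟩ := TensorProduct.vanishesTrivially_of_sum_tmul_eq_zero A hc hsum
  refine ⟨k₀ + k₁, k, a, mm, y, b, h1, ?_, ?_⟩
  · intro j
    have := congrArg J.subtype (h2 j)
    simpa [c] using this
  · rw [Fin.sum_univ_add]
    simp [b, mm]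

section Basis

variable {A : Type u} [CommRing A] {P P' : Type*} [AddCommGroup P] [Module A P]
  [AddCommGroup P'] [Module A P']
  {n m : ℕ} (e : Module.Basis (Fin n) A P) (e' : Module.Basis (Fin m) A P') (φ₀ : P →ₗ[A] P')

lemma baseChange_sum' (a : Fin n → Fin m → A) (h : ∀ i, φ₀ (e i) = ∑ j, a i j • e' j)
    {C : Type*} [CommRing C] [Algebra A C] (c : Fin n → C) :
    φ₀.baseChange C (∑ i, c i ⊗ₜ[A] e i) = ∑ j, (∑ i, a i j • c i) ⊗ₜ[A] e' j := by
  rw [map_sum]
  simp_rw [LinearMap.baseChange_tmul, TensorProduct.sum_tmul]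
  rw [Finset.sum_comm]
  refine Finset.sum_congr rfl fun i _ => ?_
  rw [h i, TensorProduct.tmul_sum]
  refine Finset.sum_congr rfl fun j _ => ?_
  rw [TensorProduct.tmul_smul, TensorProduct.smul_tmul']

end Basis

variable {A : Type u} [CommRing A]

/-- standard free module in universe `u+1` -/
abbrev stdFree (A : Type u) [CommRing A] (n : ℕ) : ModuleCat.{u+1} A :=
  ModuleCat.of A (ULift.{u+1} (Fin n → A))

/-- its standard basis -/
noncomputable def stdBasis (n : ℕ) : Module.Basis (Fin n) A (ULift.{u+1} (Fin n → A)) :=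
  (Pi.basisFun A (Fin n)).map ULift.moduleEquiv.symm

instance (n : ℕ) : Module.Free A (stdFree A n) := Module.Free.of_basis (stdBasis n)

instance (n : ℕ) : Module.Finite A (stdFree A n) := Module.Finite.of_basis (stdBasis n)

/-- linear map of a matrix -/
noncomputable def matMap {n k : ℕ} (a : Fin n → Fin k → A) : stdFree A n ⟶ stdFree A k :=
  ModuleCat.ofHom ((stdBasis n).constr A fun i => ∑ j, a i j • stdBasis k j)

lemma matMap_basis {n k : ℕ} (a : Fin n → Fin k → A) (i : Fin n) :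
    (matMap a).hom (stdBasis n i) = ∑ j, a i j • stdBasis k j := by
  simp [matMap]

theorem exists_epi (F : MVF A) (hF : adequate A F) :
    ∃ (ι : Type (u + 1)) (L : ι → MVF A), (∀ i, linAdequate A (L i)) ∧
      ∃ (c : Cofan L) (_ : IsColimit c) (π : c.pt ⟶ F), Epi π := by
  obtain ⟨M, N, φ, ⟨e⟩⟩ := hF
  have hK := isKer_of_iso φ e
  let I := Σ X : (Alg A)ᵒᵖᵒᵖ, F.obj X
  have hdata : ∀ i : I, ∃ (n k : ℕ) (a : Fin n → Fin k → A) (mm : Fin n → M) (y : Fin k → N)
      (b : Fin n → i.1.unop.unop), (∀ i', φ.hom (mm i') = ∑ j, a i' j • y j) ∧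
      (∀ j, ∑ i', a i' j • b i' = 0) ∧
      (e.hom ≫ kernel.ι ((underline A).map φ)).app i.1 i.2 = ∑ i', b i' ⊗ₜ[A] mm i' := by
    intro i
    apply exists_presentation φ.hom ((e.hom ≫ kernel.ι ((underline A).map φ)).app i.1 i.2)
    exact (hK.exact i.1 _).2 ⟨i.2, rfl⟩
  choose n k a mm y b h1 h2 h3 using hdata
  let L : I → MVF A := fun i => kernel ((underline A).map (matMap (a i)))
  let μ : ∀ i, stdFree A (n i) ⟶ M := fun i => ModuleCat.ofHom ((stdBasis (n i)).constr A (mm i))
  let ν : ∀ i, stdFree A (k i) ⟶ N := fun i => ModuleCat.ofHom ((stdBasis (k i)).constr A (y i))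
  have hcomm : ∀ i, matMap (a i) ≫ ν i = μ i ≫ φ := by
    intro i
    ext : 1
    apply (stdBasis (n i)).ext
    intro i'
    rw [ModuleCat.hom_comp, ModuleCat.hom_comp, LinearMap.comp_apply, LinearMap.comp_apply,
      matMap_basis]
    simp only [μ, ν, ModuleCat.hom_ofHom, map_sum, map_smul, Module.Basis.constr_basis]
    exact (h1 i i').symm
  have hw : ∀ i, (kernel.ι ((underline A).map (matMap (a i))) ≫ (underline A).map (μ i)) ≫
      (underline A).map φ = 0 := by
    intro i
    rw [Category.assoc, ← Functor.map_comp, ← hcomm i, Functor.map_comp, ← Category.assoc,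
      kernel.condition, zero_comp]
  let lam : ∀ i, L i ⟶ F := fun i => kernel.lift ((underline A).map φ) _ (hw i) ≫ e.inv
  have hlam : ∀ i, lam i ≫ e.hom ≫ kernel.ι ((underline A).map φ) =
      kernel.ι ((underline A).map (matMap (a i))) ≫ (underline A).map (μ i) := by
    intro i
    simp [lam]
  refine ⟨I, L, fun i => ⟨stdFree A (n i), stdFree A (k i), matMap (a i), inferInstance,
    inferInstance, inferInstance, inferInstance, ⟨Iso.refl _⟩⟩, Cofan.mk (∐ L) (Sigma.ι L),
    coproductIsCoproduct L, Sigma.desc lam, ?_⟩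
  apply PresheafOfModules.epi_of_surjective
  intro X ξ
  let i : I := ⟨X, ξ⟩
  have hKi : IsKer (L i) (matMap (a i)) (kernel.ι ((underline A).map (matMap (a i)))) := by
    have := isKer_of_iso (matMap (a i)) (Iso.refl (kernel ((underline A).map (matMap (a i)))))
    simpa using this
  have hβ : ((underline A).map (matMap (a i))).app X
      (∑ i', b i i' ⊗ₜ[A] stdBasis (n i) i') = 0 := by
    change (matMap (a i)).hom.baseChange X.unop.unop (∑ i', b i i' ⊗ₜ[A] stdBasis (n i) i') = 0
    rw [baseChange_sum' (stdBasis (n i)) (stdBasis (k i)) _ (a i) (matMap_basis (a i))]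
    simp only [h2 i, TensorProduct.zero_tmul, Finset.sum_const_zero]
  obtain ⟨l, hl⟩ := (hKi.exact X _).1 hβ
  refine ⟨(Sigma.ι L i).app X l, ?_⟩
  have h4 : (Sigma.desc lam).app X ((Sigma.ι L i).app X l) = (lam i).app X l := by
    have := congrArg (fun t => t.app X l) (Sigma.ι_desc lam i)
    simpa only [PresheafOfModules.comp_app, ModuleCat.comp_apply] using this
  rw [h4]
  apply hK.inj X
  have h5 := congrArg (fun t => t.app X l) (hlam i)
  simp only [PresheafOfModules.comp_app, ModuleCat.comp_apply] at h5 ⊢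
  have h3' : (kernel.ι ((underline A).map φ)).app X (e.hom.app X ξ) =
      ∑ i', b i i' ⊗ₜ[A] mm i i' := by
    have := h3 i
    simpa only [PresheafOfModules.comp_app, ModuleCat.comp_apply] using this
  rw [h5, hl, h3']
  change ((μ i).hom.baseChange X.unop.unop) (∑ i', b i i' ⊗ₜ[A] stdBasis (n i) i') = _
  rw [map_sum]
  refine Finset.sum_congr rfl fun i' _ => ?_
  rw [LinearMap.baseChange_tmul]
  simp [μ]

end Groth.Agent.Helper8.AdeqF
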