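import Groth.Agent.Helper8.AdeqF

universe u

open CategoryTheory Opposite Limits TensorProduct

namespace Groth.Agent.Helper8.AdeqG

open Adeq AdeqA AdeqE AdeqF

section LinAlg

variable {A : Type*} [CommRing A] (C : Type*) [CommRing C] [Algebra A C]

/-- right exactness of base change, elementwise -/
lemma baseChange_mkQ_eq_zero {M P : Type*} [AddCommGroup M] [AddCommGroup P] [Module A M]
    [Module A P] (f : P →ₗ[A] M) (x : C ⊗[A] M) :
    (LinearMap.range f).mkQ.baseChange C x = 0 ↔ ∃ p, f.baseChange C p = x := by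
  have h := lTensor_exact C (LinearMap.exact_map_mkQ_range f) (Submodule.mkQ_surjective _)
  exact (h x).trans ⟨fun ⟨p, hp⟩ => ⟨p, hp⟩, fun ⟨p, hp⟩ => ⟨p, hp⟩⟩

lemma baseChange_comp_apply {M N P : Type*} [AddCommGroup M] [AddCommGroup N] [AddCommGroup P]
    [Module A M] [Module A N] [Module A P] (f : M →ₗ[A] N) (g : N →ₗ[A] P) (x : C ⊗[A] M) :
    g.baseChange C (f.baseChange C x) = (g ∘ₗ f).baseChange C x := by
  rw [LinearMap.baseChange_comp]
  rfl

lemma baseChange_prod_ext {M N : Type*} [AddCommGroup M] [AddCommGroup N] [Module A M]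
    [Module A N] (z : C ⊗[A] (M × N)) :
    z = (LinearMap.inl A M N).baseChange C ((LinearMap.fst A M N).baseChange C z) +
      (LinearMap.inr A M N).baseChange C ((LinearMap.snd A M N).baseChange C z) := by
  rw [baseChange_comp_apply, baseChange_comp_apply, ← LinearMap.add_apply,
    ← LinearMap.baseChange_add]
  have : LinearMap.inl A M N ∘ₗ LinearMap.fst A M N + LinearMap.inr A M N ∘ₗ LinearMap.snd A M N =
      LinearMap.id := by
    ext <;> simp
  rw [this, LinearMap.baseChange_id, LinearMap.id_apply]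

variable {I : Type*} [DecidableEq I] (P : I → Type*) [∀ i, AddCommGroup (P i)]
  [∀ i, Module A (P i)]

lemma exists_finset_decomp (p : C ⊗[A] (DirectSum I P)) :
    ∃ S : Finset I, ∀ S' : Finset I, S ⊆ S' →
      ∑ i ∈ S', (DirectSum.lof A I P i).baseChange C
        ((DirectSum.component A I P i).baseChange C p) = p := by
  classical
  induction p using TensorProduct.induction_on with
  | zero => exact ⟨∅, fun S' _ => by simp⟩
  | tmul c q =>
    refine ⟨DFinsupp.support q, fun S' hS' => ?_⟩
    simp only [LinearMap.baseChange_tmul]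
    rw [← TensorProduct.tmul_sum]
    congr 1
    have h0 : ∀ i ∈ S', i ∉ DFinsupp.support q →
        DirectSum.lof A I P i (DirectSum.component A I P i q) = 0 := by
      intro i _ hi
      have : q i = 0 := DFinsupp.notMem_support_iff.1 hi
      rw [← DirectSum.apply_eq_component, this, map_zero]
    rw [← Finset.sum_subset hS' h0]
    exact DirectSum.sum_support_of q
  | add x y hx hy =>
    obtain ⟨S₁, h₁⟩ := hx
    obtain ⟨S₂, h₂⟩ := hy
    refine ⟨S₁ ∪ S₂, fun S' hS' => ?_⟩
    simp only [map_add, Finset.sum_add_distrib]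
    rw [h₁ S' (Finset.union_subset_left hS'), h₂ S' (Finset.union_subset_right hS')]

variable {P} {P' : I → Type*} [∀ i, AddCommGroup (P' i)] [∀ i, Module A (P' i)]
  {M : Type*} [AddCommGroup M] [Module A M]
  (a : ∀ i, P i →ₗ[A] P' i) (g : ∀ i, P i →ₗ[A] M)

/-- the presenting map `P → M × P'` -/
noncomputable def presMap : DirectSum I P →ₗ[A] M × DirectSum I P' :=
  (DirectSum.toModule A I M g).prod (DirectSum.lmap a)

/-- the module `Q` -/
abbrev QMod : Type _ := (M × DirectSum I P') ⧸ LinearMap.range (presMap a g)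

/-- the map `M → Q` -/
noncomputable def qMap : M →ₗ[A] QMod a g :=
  (LinearMap.range (presMap a g)).mkQ ∘ₗ LinearMap.inl A M (DirectSum I P')

lemma core_mp (x : C ⊗[A] M) (hx : (qMap a g).baseChange C x = 0) :
    ∃ (S : Finset I) (w : ∀ i, C ⊗[A] P i), (∀ i, (a i).baseChange C (w i) = 0) ∧
      x = ∑ i ∈ S, (g i).baseChange C (w i) := by
  rw [qMap, ← baseChange_comp_apply, baseChange_mkQ_eq_zero] at hx
  obtain ⟨p, hp⟩ := hx
  have h1 : (DirectSum.toModule A I M g).baseChange C p = x := by
    have := congrArg ((LinearMap.fst A M (DirectSum I P')).baseChange C) hp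
    rw [baseChange_comp_apply, baseChange_comp_apply] at this
    have e1 : LinearMap.fst A M (DirectSum I P') ∘ₗ presMap a g = DirectSum.toModule A I M g := by
      ext; simp [presMap]
    have e2 : LinearMap.fst A M (DirectSum I P') ∘ₗ LinearMap.inl A M (DirectSum I P') =
        LinearMap.id := by
      ext; simp
    rw [e1, e2, LinearMap.baseChange_id, LinearMap.id_apply] at this
    exact this
  have h2 : (DirectSum.lmap a).baseChange C p = 0 := by
    have := congrArg ((LinearMap.snd A M (DirectSum I P')).baseChange C) hp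
    rw [baseChange_comp_apply, baseChange_comp_apply] at this
    have e1 : LinearMap.snd A M (DirectSum I P') ∘ₗ presMap a g = DirectSum.lmap a := by
      ext; simp [presMap]
    have e2 : LinearMap.snd A M (DirectSum I P') ∘ₗ LinearMap.inl A M (DirectSum I P') = 0 := by
      ext; simp
    rw [e1, e2, LinearMap.baseChange_zero, LinearMap.zero_apply] at this
    exact this
  obtain ⟨S, hS⟩ := exists_finset_decomp C P p
  refine ⟨S, fun i => (DirectSum.component A I P i).baseChange C p, fun i => ?_, ?_⟩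
  · rw [baseChange_comp_apply]
    have e : a i ∘ₗ DirectSum.component A I P i =
        DirectSum.component A I P' i ∘ₗ DirectSum.lmap a := by
      ext q
      rfl
    rw [e, ← baseChange_comp_apply, h2, map_zero]
  · rw [← h1]
    conv_lhs => rw [← hS S (Finset.Subset.refl S)]
    rw [map_sum]
    refine Finset.sum_congr rfl fun i _ => ?_
    rw [baseChange_comp_apply]
    congr 2
    ext q
    simp

lemma core_mpr (i : I) (w : C ⊗[A] P i) (hw : (a i).baseChange C w = 0) :
    (qMap a g).baseChange C ((g i).baseChange C w) = 0 := by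
  rw [qMap, ← baseChange_comp_apply, baseChange_mkQ_eq_zero]
  refine ⟨(DirectSum.lof A I P i).baseChange C w, ?_⟩
  rw [baseChange_prod_ext C ((presMap a g).baseChange C _)]
  rw [baseChange_comp_apply C _ (LinearMap.fst A M (DirectSum I P')),
    baseChange_comp_apply C _ (LinearMap.snd A M (DirectSum I P')),
    baseChange_comp_apply C _ (LinearMap.fst A M (DirectSum I P') ∘ₗ presMap a g),
    baseChange_comp_apply C _ (LinearMap.snd A M (DirectSum I P') ∘ₗ presMap a g)]
  have e1 : (LinearMap.fst A M (DirectSum I P') ∘ₗ presMap a g) ∘ₗ DirectSum.lof A I P i = g i := by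
    ext q
    simp [presMap]
  have e2 : (LinearMap.snd A M (DirectSum I P') ∘ₗ presMap a g) ∘ₗ DirectSum.lof A I P i =
      DirectSum.lof A I P' i ∘ₗ a i := by
    ext q
    simp [presMap]
  rw [e1, e2, ← baseChange_comp_apply C (a i), hw, map_zero, map_zero, add_zero]

end LinAlg

variable {A : Type u} [CommRing A]

lemma isKer_kernel {M N : ModuleCat.{u+1} A} (φ : M ⟶ N) :
    IsKer (kernel ((underline A).map φ)) φ (kernel.ι ((underline A).map φ)) := by
  have := isKer_of_iso φ (Iso.refl (kernel ((underline A).map φ)))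
  simpa using this

theorem exists_family (F : MVF A) (hF : adequate A F) :
    ∃ (I : Type (u + 1)) (n k : I → ℕ) (a : ∀ i, Fin (n i) → Fin (k i) → A)
      (lam : ∀ i, kernel ((underline A).map (matMap (a i))) ⟶ F),
      ∀ (X : (Alg A)ᵒᵖᵒᵖ) (ξ : F.obj X), ∃ i l, (lam i).app X l = ξ := by
  obtain ⟨M, N, φ, ⟨e⟩⟩ := hF
  have hK := isKer_of_iso φ e
  let I := Σ X : (Alg A)ᵒᵖᵒᵖ, F.obj X
  have hdata : ∀ i : I, ∃ (n k : ℕ) (a : Fin n → Fin k → A) (mm : Fin n → M) (y : Fin k → N)
      (b : Fin n → i.1.unop.unop), (∀ i', φ.hom (mm i') = ∑ j, a i' j • y j) ∧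
      (∀ j, ∑ i', a i' j • b i' = 0) ∧
      (e.hom ≫ kernel.ι ((underline A).map φ)).app i.1 i.2 = ∑ i', b i' ⊗ₜ[A] mm i' := by
    intro i
    apply exists_presentation φ.hom ((e.hom ≫ kernel.ι ((underline A).map φ)).app i.1 i.2)
    exact (hK.exact i.1 _).2 ⟨i.2, rfl⟩
  choose n k a mm y b h1 h2 h3 using hdata
  let μ : ∀ i, stdFree A (n i) ⟶ M := fun i => ModuleCat.ofHom ((stdBasis (n i)).constr A (mm i))
  let ν : ∀ i, stdFree A (k i) ⟶ N := fun i => ModuleCat.ofHom ((stdBasis (k i)).constr A (y i))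
  have hcomm : ∀ i, matMap (a i) ≫ ν i = μ i ≫ φ := by
    intro i
    ext : 1
    apply (stdBasis (n i)).ext
    intro i'
    rw [ModuleCat.hom_comp, ModuleCat.hom_comp, LinearMap.comp_apply, LinearMap.comp_apply,
      matMap_basis]
    simp only [μ, ν, ModuleCat.hom_ofHom, map_sum, map_smul, Module.Basis.constr_basis]
    exact (h1 i i').symm
  have hw : ∀ i, (kernel.ι ((underline A).map (matMap (a i))) ≫ (underline A).map (μ i)) ≫
      (underline A).map φ = 0 := by
    intro i
    rw [Category.assoc, ← Functor.map_comp, ← hcomm i, Functor.map_comp, ← Category.assoc,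
      kernel.condition, zero_comp]
  let lam : ∀ i, kernel ((underline A).map (matMap (a i))) ⟶ F :=
    fun i => kernel.lift ((underline A).map φ) _ (hw i) ≫ e.inv
  have hlam : ∀ i, lam i ≫ e.hom ≫ kernel.ι ((underline A).map φ) =
      kernel.ι ((underline A).map (matMap (a i))) ≫ (underline A).map (μ i) := by
    intro i
    simp [lam]
  refine ⟨I, n, k, a, lam, ?_⟩
  intro X ξ
  let i : I := ⟨X, ξ⟩
  have hKi := isKer_kernel (matMap (a i))
  have hβ : ((underline A).map (matMap (a i))).app X
      (∑ i', b i i' ⊗ₜ[A] stdBasis (n i) i') = 0 := by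
    change (matMap (a i)).hom.baseChange X.unop.unop (∑ i', b i i' ⊗ₜ[A] stdBasis (n i) i') = 0
    rw [baseChange_sum' (stdBasis (n i)) (stdBasis (k i)) _ (a i) (matMap_basis (a i))]
    simp only [h2 i, TensorProduct.zero_tmul, Finset.sum_const_zero]
  obtain ⟨l, hl⟩ := (hKi.exact X _).1 hβ
  refine ⟨i, l, ?_⟩
  apply hK.inj X
  have h5 := congrArg (fun t => t.app X l) (hlam i)
  simp only [PresheafOfModules.comp_app, ModuleCat.comp_apply] at h5 ⊢
  have h3' : (kernel.ι ((underline A).map φ)).app X (e.hom.app X ξ) =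
      ∑ i', b i i' ⊗ₜ[A] mm i i' := by
    have := h3 i
    simpa only [PresheafOfModules.comp_app, ModuleCat.comp_apply] using this
  rw [h5, hl, h3']
  change ((μ i).hom.baseChange X.unop.unop) (∑ i', b i i' ⊗ₜ[A] stdBasis (n i) i') = _
  rw [map_sum]
  refine Finset.sum_congr rfl fun i' _ => ?_
  rw [LinearMap.baseChange_tmul]
  simp [μ]

theorem exists_coker_module (F : MVF A) (hF : adequate A F) (M : ModuleCat.{u+1} A)
    (ψ : F ⟶ (underline A).obj M) :
    ∃ (Q : ModuleCat.{u+1} A) (q : M ⟶ Q),
      ∀ (X : (Alg A)ᵒᵖᵒᵖ) (x : ((underline A).obj M).obj X),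
        ((underline A).map q).app X x = 0 ↔ ∃ f, ψ.app X f = x := by
  classical
  obtain ⟨I, n, k, a, lam, hlam⟩ := exists_family F hF
  have hg : ∀ i, ∃ g : stdFree A (n i) ⟶ M,
      kernel.ι ((underline A).map (matMap (a i))) ≫ (underline A).map g = lam i ≫ ψ :=
    fun i => lift_exists _ _ _ _ _
  choose g hg using hg
  let aL : ∀ i, (stdFree A (n i)) →ₗ[A] (stdFree A (k i)) := fun i => (matMap (a i)).hom
  let gL : ∀ i, (stdFree A (n i)) →ₗ[A] M := fun i => (g i).hom
  refine ⟨ModuleCat.of A (QMod aL gL), ModuleCat.ofHom (qMap aL gL), fun X x => ?_⟩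
  have hKi := fun i => isKer_kernel (matMap (a i))
  constructor
  · intro hx
    obtain ⟨S, w, hw, rfl⟩ := core_mp X.unop.unop aL gL x hx
    have : ∀ i, ∃ l, (kernel.ι ((underline A).map (matMap (a i)))).app X l = w i :=
      fun i => ((hKi i).exact X _).1 (hw i)
    choose l hl using this
    refine ⟨∑ i ∈ S, (lam i).app X (l i), ?_⟩
    rw [map_sum]
    refine Finset.sum_congr rfl fun i _ => ?_
    have h5 := congrArg (fun t => t.app X (l i)) (hg i)
    simp only [PresheafOfModules.comp_app, ModuleCat.comp_apply] at h5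
    rw [← h5, hl]
    rfl
  · rintro ⟨f, rfl⟩
    obtain ⟨i, l, rfl⟩ := hlam X f
    have h5 := congrArg (fun t => t.app X l) (hg i)
    simp only [PresheafOfModules.comp_app, ModuleCat.comp_apply] at h5
    rw [← h5]
    exact core_mpr X.unop.unop aL gL i _ (((hKi i).exact X _).2 ⟨l, rfl⟩)

end Groth.Agent.Helper8.AdeqG
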