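import Groth.Agent.Helper8.AdeqI
import Groth.Agent.Helper8.AdeqB
import Groth.Agent.Helper8.AdeqC

universe u

open CategoryTheory Opposite Limits TensorProduct

namespace Groth.Agent.Helper8.AdeqJ

open Adeq AdeqA AdeqE AdeqF AdeqG AdeqH AdeqI

variable {A : Type u} [CommRing A]

lemma tr_add (F : MVF A) {B C : Alg A} (f : B ⟶ C) (x y : F.obj (pt B)) :
    tr F f (x + y) = tr F f x + tr F f y :=
  map_add (F.map (ptHom f)).hom x y

lemma tr_zero (F : MVF A) {B C : Alg A} (f : B ⟶ C) : tr F f 0 = 0 :=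
  map_zero (F.map (ptHom f)).hom

lemma tr_smul (F : MVF A) {B C : Alg A} (f : B ⟶ C) (b : B) (x : F.obj (pt B)) :
    tr F f (b • x) = f.hom b • tr F f x :=
  PresheafOfModules.map_smul F (ptHom f) b x

lemma tr_comp (F : MVF A) {B C D : Alg A} (f : B ⟶ C) (g : C ⟶ D) (x : F.obj (pt B)) :
    tr F (f ≫ g) x = tr F g (tr F f x) :=
  PresheafOfModules.map_comp_apply F (ptHom f) (ptHom g) x

/-- pointwise criterion for being a kernel -/
theorem iso_kernel_of_pointwise {F G H : MVF A} (α : F ⟶ G) (γ : G ⟶ H)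
    (hinj : ∀ X, Function.Injective (α.app X))
    (hex : ∀ X (y : G.obj X), γ.app X y = 0 ↔ ∃ x, α.app X x = y) :
    Nonempty (F ≅ kernel γ) := by
  have w : α ≫ γ = 0 := by
    ext X y
    simp only [PresheafOfModules.comp_app, ModuleCat.comp_apply]
    exact (hex X _).2 ⟨y, rfl⟩
  let k : F ⟶ kernel γ := kernel.lift _ α w
  have hk : k ≫ kernel.ι _ = α := kernel.lift_ι _ _ _
  haveI : Mono α := PresheafOfModules.mono_of_injective (fun X => hinj X)
  haveI : Mono k := by
    haveI : Mono (k ≫ kernel.ι γ) := by rw [hk]; infer_instance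
    exact mono_of_mono k (kernel.ι _)
  haveI : Epi k := by
    apply PresheafOfModules.epi_of_surjective
    intro X z
    have hz : γ.app X ((kernel.ι γ).app X z) = 0 := by
      have h2 := congrArg (fun t => (t.app X) z) (kernel.condition γ)
      simpa only [PresheafOfModules.comp_app, ModuleCat.comp_apply, PresheafOfModules.zero_app,
        ModuleCat.hom_zero, LinearMap.zero_apply] using h2
    obtain ⟨y, hy⟩ := (hex X _).1 hz
    refine ⟨y, ?_⟩
    apply PresheafOfModules.injective_of_mono (kernel.ι γ) X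
    have h2 := congrArg (fun t => (t.app X) y) hk
    simp only [PresheafOfModules.comp_app, ModuleCat.comp_apply] at h2
    exact h2.trans hy
  haveI : IsIso k := isIso_of_mono_of_epi k
  exact ⟨asIso k⟩

variable {A' : Type u} [CommRing A'] [Algebra A A']

lemma unit_natural {B C : Alg A} (f : B ⟶ C) :
    Alg.unit A A' B ≫ (Alg.restr A A').map ((Alg.baseChange A A').map f) =
      f ≫ Alg.unit A A' C := by
  ext
  rfl

variable (A') in
/-- the unit `F ⟶ push (restr F)`, `F(B) → F(A' ⊗ B)` -/
noncomputable def unitMap (F : MVF A) : F ⟶ (push A A').obj ((restr A A').obj F) :=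
  PresheafOfModules.homMk
    { app := fun X => AddCommGrpCat.ofHom
        { toFun := fun x => tr F (Alg.unit A A' X.unop.unop) x
          map_zero' := tr_zero F _
          map_add' := fun x y => tr_add F _ x y }
      naturality := by
        intro X Y f
        ext x
        change tr F (Alg.unit A A' Y.unop.unop) (tr F f.unop.unop x) =
          tr F ((Alg.restr A A').map ((Alg.baseChange A A').map f.unop.unop))
            (tr F (Alg.unit A A' X.unop.unop) x)
        rw [← tr_comp, ← tr_comp, unit_natural] }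
    (by
      intro X r m
      exact tr_smul F (Alg.unit A A' X.unop.unop) r m)

lemma unitMap_app (F : MVF A) (X : (Alg A)ᵒᵖᵒᵖ) (x : F.obj X) :
    (unitMap A' F).app X x = tr F (Alg.unit A A' X.unop.unop) x := rfl

theorem adequate_descent (F : MVF A) (h₁ : adequate A' ((restr A A').obj F))
    (h₂ : ∀ B : Alg A, Function.Injective (F.map (ptHom (Alg.unit A A' B))) ∧
      ∀ y : F.obj (pt ((Alg.restr A A').obj ((Alg.baseChange A A').obj B))),
        F.map (ptHom (Alg.unit A A' ((Alg.restr A A').obj ((Alg.baseChange A A').obj B)))) y =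
          F.map (ptHom ((Alg.restr A A').map ((Alg.baseChange A A').map (Alg.unit A A' B)))) y →
        y ∈ Set.range (F.map (ptHom (Alg.unit A A' B)))) :
    adequate A F := by
  let G₁ := (push A A').obj ((restr A A').obj F)
  let G₂ := (push A A').obj ((restr A A').obj G₁)
  have hG₁ : adequate A G₁ := AdeqC.adequate_push _ h₁
  have hG₂ : adequate A G₂ := AdeqC.adequate_push _ (AdeqB.adequate_restr _ hG₁)
  let α : F ⟶ G₁ := unitMap A' F
  let β₁ : G₁ ⟶ G₂ := (push A A').map ((restr A A').map α)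
  let β₂ : G₁ ⟶ G₂ := unitMap A' G₁
  have hβ₁ : ∀ (X : (Alg A)ᵒᵖᵒᵖ) (y : G₁.obj X), β₁.app X y =
      tr F (Alg.unit A A' ((Alg.restr A A').obj ((Alg.baseChange A A').obj X.unop.unop))) y :=
    fun X y => rfl
  have hβ₂ : ∀ (X : (Alg A)ᵒᵖᵒᵖ) (y : G₁.obj X), β₂.app X y =
      tr F ((Alg.restr A A').map ((Alg.baseChange A A').map (Alg.unit A A' X.unop.unop))) y :=
    fun X y => rfl
  obtain ⟨e⟩ := iso_kernel_of_pointwise α (β₁ - β₂) (fun X => (h₂ X.unop.unop).1) (by
    intro X y
    have hsub : (β₁ - β₂).app X y = β₁.app X y - β₂.app X y := rfl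
    rw [hsub, sub_eq_zero, hβ₁, hβ₂]
    constructor
    · intro h
      obtain ⟨x, hx⟩ := (h₂ X.unop.unop).2 y h
      exact ⟨x, hx⟩
    · rintro ⟨x, rfl⟩
      change tr F _ (tr F (Alg.unit A A' X.unop.unop) x) = tr F _ (tr F (Alg.unit A A' X.unop.unop) x)
      rw [← tr_comp, ← tr_comp, unit_natural])
  exact (adequate A).prop_of_iso e.symm (adequate_kernel _ hG₁ hG₂)

end Groth.Agent.Helper8.AdeqJ
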