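import Groth.Agent.Helper8.AdeqJ

universe u

open CategoryTheory Opposite Limits TensorProduct

namespace Groth.Agent.Helper8.AdeqK

open Adeq AdeqA AdeqE AdeqJ AdeqG

section Algebra

variable {A : Type u} [CommRing A] {ι κ : Type} [Fintype ι] [Fintype κ] (a : ι → κ → A)

/-- the ideal of linear relations -/
noncomputable def relIdeal : Ideal (MvPolynomial ι A) :=
  Ideal.span (Set.range fun j : κ => ∑ i, MvPolynomial.C (a i j) * MvPolynomial.X i)

/-- universal algebra -/
abbrev UB : Type u := MvPolynomial ι A ⧸ relIdeal a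

/-- the universal coordinates -/
noncomputable def xB (i : ι) : UB a := Ideal.Quotient.mk _ (MvPolynomial.X i)

lemma smul_xB (r : A) (i : ι) :
    r • xB a i = Ideal.Quotient.mk (relIdeal a) (MvPolynomial.C r * MvPolynomial.X i) := by
  rw [← MvPolynomial.smul_eq_C_mul]
  rfl

lemma rel_xB (j : κ) : ∑ i, a i j • xB a i = 0 := by
  have h1 : (∑ i, MvPolynomial.C (a i j) * MvPolynomial.X i) ∈ relIdeal a :=
    Ideal.subset_span ⟨j, rfl⟩
  have h := Ideal.Quotient.eq_zero_iff_mem.2 h1
  rw [map_sum] at h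
  rw [← h]
  exact Finset.sum_congr rfl fun i _ => smul_xB a _ i

/-- the classifying map -/
noncomputable def classify {C : Type*} [CommRing C] [Algebra A C] (c : ι → C)
    (hc : ∀ j, ∑ i, a i j • c i = 0) : UB a →ₐ[A] C :=
  Ideal.Quotient.liftₐ (relIdeal a) (MvPolynomial.aeval c) (by
    intro p hp
    have hle : relIdeal a ≤ RingHom.ker (MvPolynomial.aeval c : MvPolynomial ι A →ₐ[A] C) := by
      refine Ideal.span_le.2 ?_
      rintro _ ⟨j, rfl⟩
      rw [SetLike.mem_coe, RingHom.mem_ker, map_sum, ← hc j]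
      refine Finset.sum_congr rfl fun i _ => ?_
      rw [map_mul, MvPolynomial.aeval_C, MvPolynomial.aeval_X, Algebra.smul_def]
    exact hle hp)

lemma classify_mk {C : Type*} [CommRing C] [Algebra A C] (c : ι → C)
    (hc : ∀ j, ∑ i, a i j • c i = 0) (q : MvPolynomial ι A) :
    classify a c hc (Ideal.Quotient.mk _ q) = MvPolynomial.aeval c q := rfl

lemma classify_xB {C : Type*} [CommRing C] [Algebra A C] (c : ι → C)
    (hc : ∀ j, ∑ i, a i j • c i = 0) (i : ι) :
    classify a c hc (xB a i) = c i := by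
  rw [xB, classify_mk, MvPolynomial.aeval_X]

lemma algHom_ext {C : Type*} [CommRing C] [Algebra A C] (f g : UB a →ₐ[A] C)
    (h : ∀ i, f (xB a i) = g (xB a i)) : f = g := by
  apply Ideal.Quotient.algHom_ext
  apply MvPolynomial.algHom_ext
  intro i
  exact h i

open Polynomial in
lemma sigma_rel (j : κ) :
    ∑ i, a i j • ((X : (UB a)[X]) * C (xB a i)) = 0 := by
  have : ∑ i, a i j • ((X : (UB a)[X]) * C (xB a i)) = X * C (∑ i, a i j • xB a i) := by
    rw [map_sum, Finset.mul_sum]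
    refine Finset.sum_congr rfl fun i _ => ?_
    rw [← mul_smul_comm, Polynomial.smul_C]
  rw [this, rel_xB, map_zero, mul_zero]

open Polynomial in
/-- the scaling map `x_i ↦ t x_i` -/
noncomputable def sigma : UB a →ₐ[A] (UB a)[X] :=
  classify a (fun i => (X : (UB a)[X]) * C (xB a i)) (sigma_rel a)

open Polynomial in
lemma sigma_xB (i : ι) : sigma a (xB a i) = (X : (UB a)[X]) * C (xB a i) :=
  classify_xB a _ (sigma_rel a) i

open Polynomial in
/-- polynomials with constant coefficient in `A` and linear coefficient in the span of the `x_i` -/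
def degSub : Subalgebra A (UB a)[X] where
  carrier := {p | p.coeff 0 ∈ Set.range (algebraMap A (UB a)) ∧
    p.coeff 1 ∈ Submodule.span A (Set.range (xB a))}
  mul_mem' := by
    rintro p q ⟨⟨r, hr⟩, hp1⟩ ⟨⟨s, hs⟩, hq1⟩
    refine ⟨⟨r * s, ?_⟩, ?_⟩
    · rw [Polynomial.mul_coeff_zero, map_mul, hr, hs]
    · rw [Polynomial.mul_coeff_one, ← hr, ← hs, ← Algebra.smul_def, mul_comm, ← Algebra.smul_def]
      exact Submodule.add_mem _ (Submodule.smul_mem _ _ hq1) (Submodule.smul_mem _ _ hp1)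
  add_mem' := by
    rintro p q ⟨⟨r, hr⟩, hp1⟩ ⟨⟨s, hs⟩, hq1⟩
    refine ⟨⟨r + s, ?_⟩, ?_⟩
    · rw [Polynomial.coeff_add, map_add, hr, hs]
    · rw [Polynomial.coeff_add]
      exact Submodule.add_mem _ hp1 hq1
  algebraMap_mem' := by
    intro r
    refine ⟨⟨r, ?_⟩, ?_⟩
    · rw [Polynomial.algebraMap_apply, Polynomial.coeff_C_zero]
    · rw [Polynomial.algebraMap_apply, Polynomial.coeff_C_ne_zero one_ne_zero]
      exact Submodule.zero_mem _

open Polynomial in
lemma sigma_mem (b : UB a) : sigma a b ∈ degSub a := by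
  obtain ⟨q, rfl⟩ := Ideal.Quotient.mk_surjective b
  rw [sigma, classify_mk]
  induction q using MvPolynomial.induction_on with
  | C r =>
    rw [MvPolynomial.aeval_C]
    exact Subalgebra.algebraMap_mem _ r
  | add p q hp hq =>
    rw [map_add]
    exact Subalgebra.add_mem _ hp hq
  | mul_X p i hp =>
    rw [map_mul, MvPolynomial.aeval_X]
    refine Subalgebra.mul_mem _ hp ⟨⟨0, ?_⟩, ?_⟩
    · rw [map_zero, Polynomial.mul_coeff_zero, Polynomial.coeff_X_zero, zero_mul]
    · rw [Polynomial.coeff_X_mul, Polynomial.coeff_C_zero]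
      exact Submodule.subset_span ⟨i, rfl⟩

open Polynomial in
/-- taking the `t`-linear coefficient after `t • incl` is the identity -/
lemma coeff_one_X_smul {B : Type*} [CommRing B] [Algebra A B] {M : Type*} [AddCommGroup M]
    [Module A M] (z : B ⊗[A] M) :
    ((Polynomial.lcoeff B 1).restrictScalars A).rTensor M ((X : B[X]) •
      (CAlgHom (R := A) (A := B)).toLinearMap.rTensor M z) = z := by
  induction z using TensorProduct.induction_on with
  | zero => simp
  | tmul b mm =>
    rw [LinearMap.rTensor_tmul, TensorProduct.smul_tmul', LinearMap.rTensor_tmul]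
    congr 1
    change ((X : B[X]) * C b).coeff 1 = b
    rw [Polynomial.coeff_X_mul, Polynomial.coeff_C_zero]
  | add x y hx hy => rw [map_add, smul_add, map_add, hx, hy]

open Polynomial in
theorem exists_linear_repr {M : Type*} [AddCommGroup M] [Module A M] (θ : UB a ⊗[A] M)
    (hθ : (sigma a).toLinearMap.rTensor M θ =
      (X : (UB a)[X]) • (CAlgHom (R := A) (A := UB a)).toLinearMap.rTensor M θ) :
    ∃ mm : ι → M, θ = ∑ i, xB a i ⊗ₜ[A] mm i := by
  let c₁ : (UB a)[X] →ₗ[A] UB a := (Polynomial.lcoeff (UB a) 1).restrictScalars A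
  have h1 : θ = (c₁ ∘ₗ (sigma a).toLinearMap).rTensor M θ := by
    rw [LinearMap.rTensor_comp_apply, hθ, coeff_one_X_smul]
  have h2 : ∀ z : UB a ⊗[A] M, ∃ mm : ι → M,
      (c₁ ∘ₗ (sigma a).toLinearMap).rTensor M z = ∑ i, xB a i ⊗ₜ[A] mm i := by
    intro z
    induction z using TensorProduct.induction_on with
    | zero => exact ⟨0, by simp⟩
    | tmul b mm =>
      have hb : (sigma a b).coeff 1 ∈ Submodule.span A (Set.range (xB a)) := (sigma_mem a b).2
      obtain ⟨r, hr⟩ := (Submodule.mem_span_range_iff_exists_fun A).1 hb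
      refine ⟨fun i => r i • mm, ?_⟩
      rw [LinearMap.rTensor_tmul]
      change (sigma a b).coeff 1 ⊗ₜ[A] mm = _
      rw [← hr, TensorProduct.sum_tmul]
      exact Finset.sum_congr rfl fun i _ => TensorProduct.smul_tmul _ _ _
    | add x y hx hy =>
      obtain ⟨m1, h1⟩ := hx
      obtain ⟨m2, h2⟩ := hy
      refine ⟨m1 + m2, ?_⟩
      rw [map_add, h1, h2, ← Finset.sum_add_distrib]
      exact Finset.sum_congr rfl fun i _ => (TensorProduct.tmul_add _ _ _).symm
  obtain ⟨mm, hmm⟩ := h2 θ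
  exact ⟨mm, h1.trans hmm⟩

end Algebra

section Basis

variable {A : Type u} [CommRing A] {P P' : Type*} [AddCommGroup P] [Module A P]
  [AddCommGroup P'] [Module A P']
  {ι κ : Type} [Fintype ι] [Fintype κ] (e : Module.Basis ι A P) (e' : Module.Basis κ A P')
  (φ₀ : P →ₗ[A] P')

lemma baseChange_sum' (a : ι → κ → A) (h : ∀ i, φ₀ (e i) = ∑ j, a i j • e' j)
    {C : Type*} [CommRing C] [Algebra A C] (c : ι → C) :
    φ₀.baseChange C (∑ i, c i ⊗ₜ[A] e i) = ∑ j, (∑ i, a i j • c i) ⊗ₜ[A] e' j := by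
  rw [map_sum]
  simp_rw [LinearMap.baseChange_tmul, TensorProduct.sum_tmul]
  rw [Finset.sum_comm]
  refine Finset.sum_congr rfl fun i _ => ?_
  rw [h i, TensorProduct.tmul_sum]
  refine Finset.sum_congr rfl fun j _ => ?_
  rw [TensorProduct.tmul_smul, TensorProduct.smul_tmul']

lemma sum_tmul_eq_zero {C : Type*} [CommRing C] [Algebra A C] (d : κ → C)
    (h : ∑ j, d j ⊗ₜ[A] e' j = 0) : ∀ j, d j = 0 := by
  have hb := (Algebra.TensorProduct.basis C e').linearIndependent
  rw [Fintype.linearIndependent_iff] at hb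
  apply hb
  rw [← h]
  refine Finset.sum_congr rfl fun j _ => ?_
  rw [Algebra.TensorProduct.basis_apply, TensorProduct.smul_tmul', smul_eq_mul, mul_one]

lemma sum_tmul_injective {C : Type*} [CommRing C] [Algebra A C] (c c' : ι → C)
    (h : ∑ i, c i ⊗ₜ[A] e i = ∑ i, c' i ⊗ₜ[A] e i) : c = c' := by
  funext i
  have h0 : ∑ i, (c i - c' i) ⊗ₜ[A] e i = 0 := by
    simp_rw [TensorProduct.sub_tmul]
    rw [Finset.sum_sub_distrib, h, sub_self]
  exact sub_eq_zero.1 (sum_tmul_eq_zero e _ h0 i)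

lemma exists_coords {C : Type*} [CommRing C] [Algebra A C] (y : C ⊗[A] P) :
    ∃ c : ι → C, y = ∑ i, c i ⊗ₜ[A] e i := by
  refine ⟨fun i => (Algebra.TensorProduct.basis C e).repr y i, ?_⟩
  conv_lhs => rw [← (Algebra.TensorProduct.basis C e).sum_repr y]
  refine Finset.sum_congr rfl fun i _ => ?_
  rw [Algebra.TensorProduct.basis_apply, TensorProduct.smul_tmul', smul_eq_mul, mul_one]

end Basis

/-- data presenting a linearly adequate functor -/
structure Pres (A : Type u) [CommRing A] where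
  ι : Type
  κ : Type
  [fι : Fintype ι]
  [fκ : Fintype κ]
  P : ModuleCat.{u+1} A
  P' : ModuleCat.{u+1} A
  e : Module.Basis ι A P
  e' : Module.Basis κ A P'
  φ₀ : P ⟶ P'
  a : ι → κ → A
  ha : ∀ i, φ₀.hom (e i) = ∑ j, a i j • e' j

attribute [instance] Pres.fι Pres.fκ

namespace Pres

variable {A : Type u} [CommRing A] (p : Pres A)

/-- the linearly adequate functor -/
noncomputable abbrev K : MVF A := kernel ((underline A).map p.φ₀)

/-- its inclusion -/
noncomputable abbrev iK : p.K ⟶ (underline A).obj p.P := kernel.ι ((underline A).map p.φ₀)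

lemma hK : IsKer p.K p.φ₀ p.iK := isKer_kernel p.φ₀

/-- the universal algebra -/
noncomputable abbrev B : Alg A := algOf A (UB p.a)

/-- the inclusion as a linear map into the tensor product -/
noncomputable def iKL (C : Alg A) : p.K.obj (pt C) →ₗ[C] (C ⊗[A] p.P) := (p.iK.app (pt C)).hom

variable {p}

lemma iKL_apply {C : Alg A} (l : p.K.obj (pt C)) : p.iKL C l = p.iK.app (pt C) l := rfl

lemma iKL_injective (C : Alg A) : Function.Injective (p.iKL C) := p.hK.inj (pt C)

lemma exists_mk {C : Alg A} (c : p.ι → C) (hc : ∀ j, ∑ i, p.a i j • c i = 0) :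
    ∃ l : p.K.obj (pt C), p.iKL C l = ∑ i, c i ⊗ₜ[A] p.e i := by
  apply (p.hK.exact (pt C) _).1
  change p.φ₀.hom.baseChange C (∑ i, c i ⊗ₜ[A] p.e i) = 0
  rw [baseChange_sum' p.e p.e' _ p.a p.ha]
  simp only [hc, TensorProduct.zero_tmul, Finset.sum_const_zero]

/-- element with given coordinates -/
noncomputable def mkK {C : Alg A} (c : p.ι → C) (hc : ∀ j, ∑ i, p.a i j • c i = 0) :
    p.K.obj (pt C) := (exists_mk c hc).choose

lemma iKL_mkK {C : Alg A} (c : p.ι → C) (hc : ∀ j, ∑ i, p.a i j • c i = 0) :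
    p.iKL C (mkK c hc) = ∑ i, c i ⊗ₜ[A] p.e i := (exists_mk c hc).choose_spec

lemma exists_coords' {C : Alg A} (l : p.K.obj (pt C)) :
    ∃ c : p.ι → C, p.iKL C l = ∑ i, c i ⊗ₜ[A] p.e i :=
  exists_coords p.e (C := C) (p.iKL C l)

/-- coordinates of an element -/
noncomputable def coords {C : Alg A} (l : p.K.obj (pt C)) : p.ι → C := (exists_coords' l).choose

lemma iKL_eq {C : Alg A} (l : p.K.obj (pt C)) :
    p.iKL C l = ∑ i, coords l i ⊗ₜ[A] p.e i := (exists_coords' l).choose_spec

lemma coords_rel {C : Alg A} (l : p.K.obj (pt C)) (j : p.κ) :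
    ∑ i, p.a i j • coords l i = 0 := by
  have hz : ((underline A).map p.φ₀).app (pt C) (p.iK.app (pt C) l) = 0 :=
    (p.hK.exact _ _).2 ⟨l, rfl⟩
  change p.φ₀.hom.baseChange C (p.iKL C l) = 0 at hz
  rw [iKL_eq, baseChange_sum' p.e p.e' _ p.a p.ha] at hz
  exact sum_tmul_eq_zero p.e' _ hz j

lemma coords_eq_of {C : Alg A} (l : p.K.obj (pt C)) (c : p.ι → C)
    (h : p.iKL C l = ∑ i, c i ⊗ₜ[A] p.e i) : coords l = c :=
  sum_tmul_injective p.e _ _ ((iKL_eq l).symm.trans h)

lemma coords_mkK {C : Alg A} (c : p.ι → C) (hc : ∀ j, ∑ i, p.a i j • c i = 0) :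
    coords (mkK c hc) = c := coords_eq_of _ _ (iKL_mkK c hc)

lemma ext_coords {C : Alg A} {l l' : p.K.obj (pt C)} (h : coords l = coords l') : l = l' := by
  apply iKL_injective C
  rw [iKL_eq, iKL_eq, h]

lemma coords_add {C : Alg A} (l l' : p.K.obj (pt C)) :
    coords (l + l') = coords l + coords l' := by
  apply coords_eq_of
  rw [map_add, iKL_eq, iKL_eq, ← Finset.sum_add_distrib]
  exact Finset.sum_congr rfl fun i _ => (TensorProduct.add_tmul _ _ _).symm

lemma coords_zero {C : Alg A} : coords (0 : p.K.obj (pt C)) = 0 := by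
  apply coords_eq_of
  rw [map_zero]
  simp

lemma coords_smul {C : Alg A} (r : C) (l : p.K.obj (pt C)) :
    coords (r • l) = r • coords l := by
  apply coords_eq_of
  rw [map_smul, iKL_eq, Finset.smul_sum]
  exact Finset.sum_congr rfl fun i _ => TensorProduct.smul_tmul' _ _ _

lemma iKL_tr {C C' : Alg A} (φ : C ⟶ C') (l : p.K.obj (pt C)) :
    p.iKL C' (tr p.K φ l) = φ.hom.toLinearMap.rTensor p.P (p.iKL C l) :=
  tr_nat p.iK φ l

lemma coords_tr {C C' : Alg A} (φ : C ⟶ C') (l : p.K.obj (pt C)) :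
    coords (tr p.K φ l) = fun i => φ.hom (coords l i) := by
  apply coords_eq_of
  rw [iKL_tr, iKL_eq, map_sum]
  exact Finset.sum_congr rfl fun i _ => LinearMap.rTensor_tmul _ _ _ _

variable (p) in
/-- the universal element -/
noncomputable def lu : p.K.obj (pt p.B) := mkK (xB p.a) (rel_xB p.a)

/-- the classifying map of an element -/
noncomputable def cl {C : Alg A} (l : p.K.obj (pt C)) : p.B ⟶ C :=
  CommAlgCat.ofHom (classify p.a (coords l) (coords_rel l))

lemma cl_xB {C : Alg A} (l : p.K.obj (pt C)) (i : p.ι) :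
    (cl l).hom (xB p.a i) = coords l i := classify_xB p.a _ (coords_rel l) i

lemma coords_lu : coords p.lu = xB p.a := coords_mkK _ _

lemma tr_cl {C : Alg A} (l : p.K.obj (pt C)) : tr p.K (cl l) p.lu = l := by
  apply ext_coords
  rw [coords_tr, coords_lu]
  funext i
  exact cl_xB l i

lemma hom_ext' {C : Alg A} (ψ ψ' : p.B ⟶ C)
    (h : ∀ i, ψ.hom (xB p.a i) = ψ'.hom (xB p.a i)) : ψ = ψ' := by
  ext : 1
  exact algHom_ext p.a _ _ h

lemma cl_tr {C : Alg A} (ψ : p.B ⟶ C) : cl (tr p.K ψ p.lu) = ψ := by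
  apply hom_ext'
  intro i
  rw [cl_xB, coords_tr, coords_lu]

lemma cl_natural {C C' : Alg A} (φ : C ⟶ C') (l : p.K.obj (pt C)) :
    cl (tr p.K φ l) = cl l ≫ φ := by
  apply hom_ext'
  intro i
  rw [cl_xB, coords_tr, CommAlgCat.hom_comp, AlgHom.comp_apply, cl_xB]

end Pres

end Groth.Agent.Helper8.AdeqK
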