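import Groth.Agent.Helper8.AdeqK

universe u

open CategoryTheory Opposite Limits TensorProduct

namespace Groth.Agent.Helper8.AdeqL

open Adeq AdeqA AdeqE AdeqJ AdeqG AdeqK AdeqK.Pres

section Poly

open Polynomial

variable {A : Type*} [CommRing A] {B C : Type*} [CommRing B] [CommRing C] [Algebra A B]
  [Algebra A C]

lemma coeff_one_aevalTower (ψ : B →ₐ[A] C) (r₀ : C) (q : B[X]) :
    (aevalTower ((CAlgHom (R := A) (A := C)).comp ψ) ((X : C[X]) * Polynomial.C r₀) q).coeff 1 =
      r₀ * ψ (q.coeff 1) := by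
  induction q using Polynomial.induction_on' with
  | add p q hp hq => rw [map_add, coeff_add, hp, hq, coeff_add, map_add, mul_add]
  | monomial n b =>
    rw [← C_mul_X_pow_eq_monomial, map_mul, map_pow, aevalTower_X, aevalTower_C,
      AlgHom.comp_apply, mul_pow, ← C_pow]
    change (Polynomial.C (ψ b) * (X ^ n * Polynomial.C (r₀ ^ n))).coeff 1 = _
    rw [mul_comm (X ^ n), ← mul_assoc, ← C_mul, coeff_C_mul_X_pow, coeff_C_mul_X_pow]
    by_cases h : 1 = n
    · subst h
      rw [if_pos rfl, if_pos rfl, pow_one, mul_comm]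
    · rw [if_neg h, if_neg h, map_zero, mul_zero]

variable {M : Type*} [AddCommGroup M] [Module A M]

/-- multiplication by an element of `C` on `C ⊗ M` as `rTensor` -/
lemma coeff_one_rho (ψ : B →ₐ[A] C) (r₀ : C) (z : B[X] ⊗[A] M) :
    ((lcoeff C 1).restrictScalars A).rTensor M
      ((aevalTower ((CAlgHom (R := A) (A := C)).comp ψ)
        ((X : C[X]) * Polynomial.C r₀)).toLinearMap.rTensor M z) =
      r₀ • ψ.toLinearMap.rTensor M (((lcoeff B 1).restrictScalars A).rTensor M z) := by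
  induction z using TensorProduct.induction_on with
  | zero => simp
  | tmul q m =>
    rw [LinearMap.rTensor_tmul, LinearMap.rTensor_tmul, LinearMap.rTensor_tmul,
      LinearMap.rTensor_tmul, TensorProduct.smul_tmul']
    congr 1
    exact coeff_one_aevalTower ψ r₀ q
  | add x y hx hy => rw [map_add, map_add, map_add, map_add, smul_add, hx, hy]

end Poly

variable {A : Type u} [CommRing A]

lemma tr_sub (F : MVF A) {B C : Alg A} (f : B ⟶ C) (x y : F.obj (pt B)) :
    tr F f (x - y) = tr F f x - tr F f y :=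
  map_sub (F.map (ptHom f)).hom x y

/-- an extension of a linearly adequate functor by `underline M` -/
structure Ext (p : Pres A) (M : ModuleCat.{u+1} A) where
  G : MVF A
  f : (underline A).obj M ⟶ G
  g : G ⟶ p.K
  f_inj : ∀ X, Function.Injective (f.app X)
  g_surj : ∀ X, Function.Surjective (g.app X)
  exact : ∀ X (y : G.obj X), g.app X y = 0 → ∃ z, f.app X z = y
  zero : f ≫ g = 0

namespace Ext

variable {p : Pres A} {M : ModuleCat.{u+1} A} (E : Ext p M)

/-- `f` as a linear map -/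
noncomputable def fL (C : Alg A) : (C ⊗[A] M) →ₗ[C] E.G.obj (pt C) := (E.f.app (pt C)).hom

/-- `g` as a linear map -/
noncomputable def gL (C : Alg A) : E.G.obj (pt C) →ₗ[C] p.K.obj (pt C) := (E.g.app (pt C)).hom

lemma gL_fL (C : Alg A) (z : C ⊗[A] M) : E.gL C (E.fL C z) = 0 := by
  have := congrArg (fun t => t.app (pt C) z) E.zero
  simp only [PresheafOfModules.comp_app, ModuleCat.comp_apply, PresheafOfModules.zero_app,
    ModuleCat.hom_zero, LinearMap.zero_apply] at this
  exact this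

lemma fL_injective (C : Alg A) : Function.Injective (E.fL C) := E.f_inj (pt C)

lemma gL_surjective (C : Alg A) : Function.Surjective (E.gL C) := E.g_surj (pt C)

lemma exists_of_gL_eq_zero (C : Alg A) (y : E.G.obj (pt C)) (hy : E.gL C y = 0) :
    ∃ z, E.fL C z = y := E.exact (pt C) y hy

lemma fL_tr {C C' : Alg A} (φ : C ⟶ C') (z : C ⊗[A] M) :
    tr E.G φ (E.fL C z) = E.fL C' (φ.hom.toLinearMap.rTensor M z) :=
  (tr_nat E.f φ z).symm

lemma gL_tr {C C' : Alg A} (φ : C ⟶ C') (y : E.G.obj (pt C)) :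
    E.gL C' (tr E.G φ y) = tr p.K φ (E.gL C y) :=
  tr_nat E.g φ y

end Ext

/-- natural set-theoretic sections of `g` -/
structure NatSec {p : Pres A} {M : ModuleCat.{u+1} A} (E : Ext p M) where
  s : ∀ C : Alg A, p.K.obj (pt C) → E.G.obj (pt C)
  g_s : ∀ C l, E.gL C (s C l) = l
  nat : ∀ {C C' : Alg A} (φ : C ⟶ C') (l : p.K.obj (pt C)),
    tr E.G φ (s C l) = s C' (tr p.K φ l)

variable {p : Pres A} {M : ModuleCat.{u+1} A} (E : Ext p M)

theorem exists_natSec : Nonempty (NatSec E) := by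
  obtain ⟨h, hh⟩ := E.gL_surjective p.B p.lu
  refine ⟨{ s := fun C l => tr E.G (cl l) h, g_s := ?_, nat := ?_ }⟩
  · intro C l
    rw [E.gL_tr, hh, tr_cl]
  · intro C C' φ l
    rw [← tr_comp, ← cl_natural]

variable {E}

/-- the family `l ↦ (cl l ⊗ M) θ` -/
noncomputable def del (θ : UB p.a ⊗[A] M) (C : Alg A) (l : p.K.obj (pt C)) : C ⊗[A] M :=
  (cl l).hom.toLinearMap.rTensor M θ

lemma del_nat (θ : UB p.a ⊗[A] M) {C C' : Alg A} (φ : C ⟶ C') (l : p.K.obj (pt C)) :
    φ.hom.toLinearMap.rTensor M (del θ C l) = del θ C' (tr p.K φ l) := by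
  rw [del, del, cl_natural, ← LinearMap.rTensor_comp_apply]
  rfl

/-- modify a natural section by an element of `B ⊗ M` -/
noncomputable def NatSec.modify (σ : NatSec E) (θ : UB p.a ⊗[A] M) : NatSec E where
  s := fun C l => σ.s C l + E.fL C (del θ C l)
  g_s := by
    intro C l
    rw [map_add, σ.g_s, E.gL_fL, add_zero]
  nat := by
    intro C C' φ l
    rw [tr_add, σ.nat, E.fL_tr, del_nat]

lemma exists_D (σ : NatSec E) (C : Alg A) (r : C) (l : p.K.obj (pt C)) :
    ∃ z : C ⊗[A] M, E.fL C z = σ.s C (r • l) - r • σ.s C l := by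
  apply E.exists_of_gL_eq_zero
  rw [map_sub, map_smul, σ.g_s, σ.g_s, sub_self]

/-- the scalar defect -/
noncomputable def D (σ : NatSec E) (C : Alg A) (r : C) (l : p.K.obj (pt C)) : C ⊗[A] M :=
  (exists_D σ C r l).choose

lemma fL_D (σ : NatSec E) (C : Alg A) (r : C) (l : p.K.obj (pt C)) :
    E.fL C (D σ C r l) = σ.s C (r • l) - r • σ.s C l := (exists_D σ C r l).choose_spec

lemma D_nat (σ : NatSec E) {C C' : Alg A} (φ : C ⟶ C') (r : C) (l : p.K.obj (pt C)) :
    φ.hom.toLinearMap.rTensor M (D σ C r l) = D σ C' (φ.hom r) (tr p.K φ l) := by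
  apply E.fL_injective C'
  rw [← E.fL_tr, fL_D, fL_D, tr_sub, σ.nat, tr_smul p.K, tr_smul E.G, σ.nat]

lemma D_mul (σ : NatSec E) (C : Alg A) (r r' : C) (l : p.K.obj (pt C)) :
    D σ C (r * r') l = D σ C r (r' • l) + r • D σ C r' l := by
  apply E.fL_injective C
  rw [map_add, map_smul, fL_D, fL_D, fL_D, mul_smul, smul_sub, mul_smul]
  abel

/-- polynomial algebra over `C` as an object -/
noncomputable abbrev Pt (C : Alg A) : Alg A := algOf A (Polynomial C)

/-- the constant inclusion -/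
noncomputable abbrev incl (C : Alg A) : C ⟶ Pt C :=
  CommAlgCat.ofHom (Polynomial.CAlgHom (R := A) (A := C))

/-- evaluation map `C[t] → C'` -/
noncomputable def rho {C C' : Alg A} (ψ : C ⟶ C') (r : C') : Pt C ⟶ C' :=
  CommAlgCat.ofHom (Polynomial.aevalTower ψ.hom r)

lemma incl_rho {C C' : Alg A} (ψ : C ⟶ C') (r : C') : incl C ≫ rho ψ r = ψ := by
  ext b
  exact Polynomial.aevalTower_C ψ.hom r b

lemma rho_X {C C' : Alg A} (ψ : C ⟶ C') (r : C') :
    (rho ψ r).hom (Polynomial.X : Polynomial C) = r :=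
  Polynomial.aevalTower_X ψ.hom r

/-- universal scalar defect -/
noncomputable def D₀ (σ : NatSec E) : (Polynomial (UB p.a)) ⊗[A] M :=
  D σ (Pt p.B) (Polynomial.X : Polynomial (UB p.a)) (tr p.K (incl p.B) p.lu)

lemma D_eq_rho (σ : NatSec E) (C : Alg A) (r : C) (l : p.K.obj (pt C)) :
    D σ C r l = (rho (cl l) r).hom.toLinearMap.rTensor M (D₀ σ) := by
  rw [D₀, D_nat, rho_X, ← tr_comp, incl_rho, tr_cl]

/-- the correction term -/
noncomputable def theta (σ : NatSec E) : UB p.a ⊗[A] M :=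
  ((Polynomial.lcoeff (UB p.a) 1).restrictScalars A).rTensor M (D₀ σ)

lemma key (σ : NatSec E) (C : Alg A) (r : C) (l' : p.K.obj (pt C)) :
    ((Polynomial.lcoeff C 1).restrictScalars A).rTensor M
      (D σ (Pt C) ((Polynomial.X : Polynomial C) * Polynomial.C r) (tr p.K (incl C) l')) =
      r • del (theta σ) C l' := by
  rw [D_eq_rho, cl_natural]
  exact coeff_one_rho (cl l').hom r (D₀ σ)

theorem scal_identity (σ : NatSec E) (C : Alg A) (r₀ : C) (l₀ : p.K.obj (pt C)) :
    r₀ • del (theta σ) C l₀ = del (theta σ) C (r₀ • l₀) + D σ C r₀ l₀ := by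
  have h1 := D_mul σ (Pt C) (Polynomial.X : Polynomial C) (Polynomial.C r₀)
    (tr p.K (incl C) l₀)
  have h2 : D σ (Pt C) (Polynomial.C r₀ : Polynomial C) (tr p.K (incl C) l₀) =
      (incl C).hom.toLinearMap.rTensor M (D σ C r₀ l₀) := (D_nat σ (incl C) r₀ l₀).symm
  have h3 : (Polynomial.C r₀ : Polynomial C) • tr p.K (incl C) l₀ =
      tr p.K (incl C) (r₀ • l₀) := (tr_smul p.K (incl C) r₀ l₀).symm
  rw [h2, h3] at h1
  have h4 := congrArg (((Polynomial.lcoeff C 1).restrictScalars A).rTensor M) h1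
  rw [map_add, key] at h4
  have h6 : ((Polynomial.lcoeff C 1).restrictScalars A).rTensor M
      ((Polynomial.X : Polynomial C) • (incl C).hom.toLinearMap.rTensor M (D σ C r₀ l₀)) =
      D σ C r₀ l₀ := coeff_one_X_smul (A := A) (B := C) (D σ C r₀ l₀)
  rw [h6] at h4
  have h5 := key σ C 1 (r₀ • l₀)
  rw [map_one, mul_one, one_smul] at h5
  rw [h5] at h4
  exact h4

theorem exists_homogeneous (E : Ext p M) :
    ∃ σ : NatSec E, ∀ (C : Alg A) (r : C) (l : p.K.obj (pt C)), σ.s C (r • l) = r • σ.s C l := by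
  obtain ⟨σ⟩ := exists_natSec E
  refine ⟨σ.modify (theta σ), fun C r l => ?_⟩
  change σ.s C (r • l) + E.fL C (del (theta σ) C (r • l)) =
    r • (σ.s C l + E.fL C (del (theta σ) C l))
  have h := scal_identity σ C r l
  have hD := fL_D σ C r l
  rw [smul_add, ← map_smul, h, map_add, hD]
  abel

end Groth.Agent.Helper8.AdeqL
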