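import Groth.Agent.Helper8.AdeqL

universe u

open CategoryTheory Opposite Limits TensorProduct

namespace Groth.Agent.Helper8.AdeqM

open Adeq AdeqA AdeqE AdeqJ AdeqG AdeqK AdeqK.Pres AdeqL

variable {A : Type u} [CommRing A]

/-- doubled matrix -/
def a₂ (p : Pres A) : p.ι ⊕ p.ι → p.κ ⊕ p.κ → A
  | Sum.inl i, Sum.inl j => p.a i j
  | Sum.inr i, Sum.inr j => p.a i j
  | Sum.inl _, Sum.inr _ => 0
  | Sum.inr _, Sum.inl _ => 0

/-- the universal algebra for pairs -/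
noncomputable abbrev B₂ (p : Pres A) : Alg A := algOf A (UB (a₂ p))

variable {p : Pres A}

lemma sum_a₂_inl {C : Type*} [CommRing C] [Algebra A C] (c : p.ι ⊕ p.ι → C) (j : p.κ) :
    ∑ i', a₂ p i' (Sum.inl j) • c i' = ∑ i, p.a i j • c (Sum.inl i) := by
  rw [Fintype.sum_sum_type]
  simp [a₂]

lemma sum_a₂_inr {C : Type*} [CommRing C] [Algebra A C] (c : p.ι ⊕ p.ι → C) (j : p.κ) :
    ∑ i', a₂ p i' (Sum.inr j) • c i' = ∑ i, p.a i j • c (Sum.inr i) := by
  rw [Fintype.sum_sum_type]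
  simp [a₂]

lemma rel_inl (j : p.κ) : ∑ i, p.a i j • xB (a₂ p) (Sum.inl i) = 0 := by
  rw [← sum_a₂_inl (xB (a₂ p)) j]
  exact rel_xB (a₂ p) (Sum.inl j)

lemma rel_inr (j : p.κ) : ∑ i, p.a i j • xB (a₂ p) (Sum.inr i) = 0 := by
  rw [← sum_a₂_inr (xB (a₂ p)) j]
  exact rel_xB (a₂ p) (Sum.inr j)

variable (p) in
/-- first universal element -/
noncomputable def l₁ : p.K.obj (pt (B₂ p)) := mkK (fun i => xB (a₂ p) (Sum.inl i)) rel_inl

variable (p) in
/-- second universal element -/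
noncomputable def l₂ : p.K.obj (pt (B₂ p)) := mkK (fun i => xB (a₂ p) (Sum.inr i)) rel_inr

lemma rel_elim {C : Alg A} (l l' : p.K.obj (pt C)) (j' : p.κ ⊕ p.κ) :
    ∑ i', a₂ p i' j' • Sum.elim (coords l) (coords l') i' = 0 := by
  cases j' with
  | inl j =>
    rw [sum_a₂_inl]
    exact coords_rel l j
  | inr j =>
    rw [sum_a₂_inr]
    exact coords_rel l' j

/-- classifying map of a pair -/
noncomputable def cl₂ {C : Alg A} (l l' : p.K.obj (pt C)) : B₂ p ⟶ C :=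
  CommAlgCat.ofHom (classify (a₂ p) (Sum.elim (coords l) (coords l')) (rel_elim l l'))

lemma cl₂_xB {C : Alg A} (l l' : p.K.obj (pt C)) (i' : p.ι ⊕ p.ι) :
    (cl₂ l l').hom (xB (a₂ p) i') = Sum.elim (coords l) (coords l') i' :=
  classify_xB (a₂ p) _ (rel_elim l l') i'

lemma tr_cl₂_l₁ {C : Alg A} (l l' : p.K.obj (pt C)) : tr p.K (cl₂ l l') (l₁ p) = l := by
  apply ext_coords
  rw [coords_tr, l₁, coords_mkK]
  funext i
  exact cl₂_xB l l' (Sum.inl i)

lemma tr_cl₂_l₂ {C : Alg A} (l l' : p.K.obj (pt C)) : tr p.K (cl₂ l l') (l₂ p) = l' := by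
  apply ext_coords
  rw [coords_tr, l₂, coords_mkK]
  funext i
  exact cl₂_xB l l' (Sum.inr i)

variable {M : ModuleCat.{u+1} A} {E : Ext p M}

lemma exists_eps (σ : NatSec E) (C : Alg A) (l l' : p.K.obj (pt C)) :
    ∃ z : C ⊗[A] M, E.fL C z = σ.s C (l + l') - σ.s C l - σ.s C l' := by
  apply E.exists_of_gL_eq_zero
  rw [map_sub, map_sub, σ.g_s, σ.g_s, σ.g_s]
  abel

/-- the additive defect -/
noncomputable def eps (σ : NatSec E) (C : Alg A) (l l' : p.K.obj (pt C)) : C ⊗[A] M :=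
  (exists_eps σ C l l').choose

lemma fL_eps (σ : NatSec E) (C : Alg A) (l l' : p.K.obj (pt C)) :
    E.fL C (eps σ C l l') = σ.s C (l + l') - σ.s C l - σ.s C l' :=
  (exists_eps σ C l l').choose_spec

lemma eps_nat (σ : NatSec E) {C C' : Alg A} (φ : C ⟶ C') (l l' : p.K.obj (pt C)) :
    φ.hom.toLinearMap.rTensor M (eps σ C l l') = eps σ C' (tr p.K φ l) (tr p.K φ l') := by
  apply E.fL_injective C'
  rw [← E.fL_tr, fL_eps, fL_eps, tr_sub, tr_sub, σ.nat, σ.nat, σ.nat, tr_add]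

variable (σ : NatSec E)
  (hσ : ∀ (C : Alg A) (r : C) (l : p.K.obj (pt C)), σ.s C (r • l) = r • σ.s C l)

include hσ

lemma s_zero (C : Alg A) : σ.s C 0 = 0 := by
  have := hσ C 0 0
  rwa [zero_smul, zero_smul] at this

lemma eps_smul (C : Alg A) (r : C) (l l' : p.K.obj (pt C)) :
    eps σ C (r • l) (r • l') = r • eps σ C l l' := by
  apply E.fL_injective C
  rw [map_smul, fL_eps, fL_eps, ← smul_add, hσ, hσ, hσ, smul_sub, smul_sub]

lemma eps_zero_left (C : Alg A) (l' : p.K.obj (pt C)) : eps σ C 0 l' = 0 := by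
  apply E.fL_injective C
  rw [fL_eps, zero_add, s_zero σ hσ, map_zero]
  abel

lemma eps_zero_right (C : Alg A) (l : p.K.obj (pt C)) : eps σ C l 0 = 0 := by
  apply E.fL_injective C
  rw [fL_eps, add_zero, s_zero σ hσ, map_zero]
  abel

omit hσ in
/-- universal additive defect -/
noncomputable def eps₀ : UB (a₂ p) ⊗[A] M := eps σ (B₂ p) (l₁ p) (l₂ p)

omit hσ in
lemma eps_eq (C : Alg A) (l l' : p.K.obj (pt C)) :
    eps σ C l l' = (cl₂ l l').hom.toLinearMap.rTensor M (eps₀ σ) := by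
  rw [eps₀, eps_nat, tr_cl₂_l₁, tr_cl₂_l₂]

omit hσ in
lemma tr_sigma_l₁ :
    tr p.K (CommAlgCat.ofHom (sigma (a₂ p)) : B₂ p ⟶ Pt (B₂ p)) (l₁ p) =
      (Polynomial.X : Polynomial (UB (a₂ p))) • tr p.K (incl (B₂ p)) (l₁ p) := by
  apply ext_coords
  rw [coords_tr, coords_smul, coords_tr, l₁, coords_mkK]
  funext i
  exact sigma_xB (a₂ p) (Sum.inl i)

omit hσ in
lemma tr_sigma_l₂ :
    tr p.K (CommAlgCat.ofHom (sigma (a₂ p)) : B₂ p ⟶ Pt (B₂ p)) (l₂ p) =
      (Polynomial.X : Polynomial (UB (a₂ p))) • tr p.K (incl (B₂ p)) (l₂ p) := by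
  apply ext_coords
  rw [coords_tr, coords_smul, coords_tr, l₂, coords_mkK]
  funext i
  exact sigma_xB (a₂ p) (Sum.inr i)

lemma eps₀_homog :
    (sigma (a₂ p)).toLinearMap.rTensor M (eps₀ σ) =
      (Polynomial.X : Polynomial (UB (a₂ p))) •
        (Polynomial.CAlgHom (R := A) (A := UB (a₂ p))).toLinearMap.rTensor M (eps₀ σ) := by
  have h1 := eps_nat σ (CommAlgCat.ofHom (sigma (a₂ p)) : B₂ p ⟶ Pt (B₂ p)) (l₁ p) (l₂ p)
  have h2 := eps_nat σ (incl (B₂ p)) (l₁ p) (l₂ p)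
  rw [tr_sigma_l₁, tr_sigma_l₂, eps_smul σ hσ, ← h2] at h1
  exact h1

theorem eps_eq_zero (C : Alg A) (l l' : p.K.obj (pt C)) : eps σ C l l' = 0 := by
  obtain ⟨mm, hmm⟩ := exists_linear_repr (a₂ p) (eps₀ σ) (eps₀_homog σ hσ)
  have hrep : ∀ (l l' : p.K.obj (pt C)), eps σ C l l' =
      ∑ i, coords l i ⊗ₜ[A] mm (Sum.inl i) + ∑ i, coords l' i ⊗ₜ[A] mm (Sum.inr i) := by
    intro l l'
    rw [eps_eq σ, hmm, map_sum, Fintype.sum_sum_type]
    congr 1
    · refine Finset.sum_congr rfl fun i _ => ?_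
      rw [LinearMap.rTensor_tmul]
      congr 1
      exact cl₂_xB l l' (Sum.inl i)
    · refine Finset.sum_congr rfl fun i _ => ?_
      rw [LinearMap.rTensor_tmul]
      congr 1
      exact cl₂_xB l l' (Sum.inr i)
  have h1 : ∀ l' : p.K.obj (pt C), ∑ i, coords l' i ⊗ₜ[A] mm (Sum.inr i) = 0 := by
    intro l'
    have := hrep 0 l'
    rw [eps_zero_left σ hσ, coords_zero] at this
    simpa using this.symm
  have h2 : ∀ l : p.K.obj (pt C), ∑ i, coords l i ⊗ₜ[A] mm (Sum.inl i) = 0 := by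
    intro l
    have := hrep l 0
    rw [eps_zero_right σ hσ, coords_zero] at this
    simpa using this.symm
  rw [hrep, h1, h2, add_zero]

theorem s_add (C : Alg A) (l l' : p.K.obj (pt C)) : σ.s C (l + l') = σ.s C l + σ.s C l' := by
  have := fL_eps σ C l l'
  rw [eps_eq_zero σ hσ, map_zero, eq_comm, sub_sub, sub_eq_zero] at this
  exact this

omit hσ σ in
theorem exists_section (E : Ext p M) : ∃ s : p.K ⟶ E.G, s ≫ E.g = 𝟙 _ := by
  obtain ⟨σ, hσ⟩ := exists_homogeneous E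
  have hadd := s_add σ hσ
  refine ⟨PresheafOfModules.homMk
    { app := fun X => AddCommGrpCat.ofHom
        { toFun := fun l => σ.s X.unop.unop l
          map_zero' := s_zero σ hσ _
          map_add' := fun l l' => hadd _ l l' }
      naturality := by
        intro X Y f
        ext l
        exact (σ.nat f.unop.unop l).symm }
    (by
      intro X r m
      exact hσ X.unop.unop r m), ?_⟩
  ext X l
  exact σ.g_s X.unop.unop l

end Groth.Agent.Helper8.AdeqM
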