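import Groth.Agent.Helper8.AdeqM

universe u

open CategoryTheory Opposite Limits TensorProduct

namespace Groth.Agent.Helper8.AdeqN

open Adeq AdeqA AdeqE AdeqJ AdeqG AdeqH AdeqK AdeqK.Pres AdeqL AdeqM

variable {A : Type u} [CommRing A]

lemma app_congr {F G : MVF A} {α β : F ⟶ G} (h : α = β) (X : (Alg A)ᵒᵖᵒᵖ) (w : F.obj X) :
    α.app X w = β.app X w := by rw [h]

theorem main (S : ShortComplex (MVF A)) (hS : S.ShortExact) (M : ModuleCat.{u+1} A)
    (e : S.X₁ ≅ (underline A).obj M) (hL : linAdequate A S.X₃) :
    Nonempty S.Splitting ∧ adequate A S.X₂ := by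
  obtain ⟨P, P', φ₀, hP1, hP2, hP'1, hP'2, ⟨eL⟩⟩ := hL
  let eP := (Module.Free.chooseBasis A P).reindex (Fintype.equivFin _)
  let eP' := (Module.Free.chooseBasis A P').reindex (Fintype.equivFin _)
  let p : Pres A :=
    { ι := Fin _, κ := Fin _, P := P, P' := P', e := eP, e' := eP', φ₀ := φ₀
      a := fun i j => eP'.repr (φ₀.hom (eP i)) j
      ha := fun i => (eP'.sum_repr _).symm }
  haveI := hS.mono_f
  haveI := hS.epi_g
  have hfz : S.f ≫ S.g = 0 := S.zero
  let E : Ext p M :=
    { G := S.X₂
      f := e.inv ≫ S.f
      g := S.g ≫ eL.hom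
      f_inj := fun X => PresheafOfModules.injective_of_mono (e.inv ≫ S.f) X
      g_surj := fun X => PresheafOfModules.surjective_of_epi (S.g ≫ eL.hom) X
      exact := by
        intro X y hy
        have hy' : S.g.app X y = 0 := by
          apply PresheafOfModules.injective_of_mono eL.hom X
          rw [map_zero]
          simpa only [PresheafOfModules.comp_app, ModuleCat.comp_apply] using hy
        obtain ⟨x, hx⟩ := exact_app S.f S.g S.zero hS.exact X y hy'
        refine ⟨e.hom.app X x, ?_⟩
        simp only [PresheafOfModules.comp_app, ModuleCat.comp_apply]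
        have := app_congr e.hom_inv_id X x
        simp only [PresheafOfModules.comp_app, ModuleCat.comp_apply] at this
        rw [this]
        exact hx
      zero := by
        rw [Category.assoc, ← Category.assoc S.f, hfz, zero_comp, comp_zero] }
  obtain ⟨s, hs⟩ := exists_section E
  have hs' : s ≫ S.g ≫ eL.hom = 𝟙 _ := hs
  have hsec : (eL.hom ≫ s) ≫ S.g = 𝟙 S.X₃ := by
    have h1 : (eL.hom ≫ s) ≫ S.g = eL.hom ≫ (s ≫ S.g ≫ eL.hom) ≫ eL.inv := by simp
    rw [h1, hs', Category.id_comp, Iso.hom_inv_id]
  let sp : S.Splitting :=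
    ShortComplex.Splitting.ofExactOfSection S hS.exact (eL.hom ≫ s) hsec inferInstance
  refine ⟨⟨sp⟩, ?_⟩
  -- adequacy of the middle term
  let MP : ModuleCat.{u+1} A := ModuleCat.of A (M × P)
  let inl : M ⟶ MP := ModuleCat.ofHom (LinearMap.inl A M P)
  let inr : P ⟶ MP := ModuleCat.ofHom (LinearMap.inr A M P)
  let κ : MP ⟶ P' := ModuleCat.ofHom (φ₀.hom ∘ₗ LinearMap.snd A M P)
  let ι : S.X₂ ⟶ (underline A).obj MP :=
    (sp.r ≫ e.hom) ≫ (underline A).map inl +
      (S.g ≫ eL.hom ≫ kernel.ι ((underline A).map φ₀)) ≫ (underline A).map inr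
  have hι : ∀ (X : (Alg A)ᵒᵖᵒᵖ) (y : S.X₂.obj X), ι.app X y =
      (LinearMap.inl A M P).baseChange X.unop.unop (e.hom.app X (sp.r.app X y)) +
      (LinearMap.inr A M P).baseChange X.unop.unop
        ((kernel.ι ((underline A).map φ₀)).app X (eL.hom.app X (S.g.app X y))) := by
    intro X y
    simp only [ι, PresheafOfModules.add_app, PresheafOfModules.comp_app, ModuleCat.hom_add,
      ModuleCat.hom_comp, LinearMap.add_apply, LinearMap.comp_apply]
    rfl
  have hKer := isKer_kernel φ₀
  have hid : ∀ (X : (Alg A)ᵒᵖᵒᵖ) (y : S.X₂.obj X),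
      S.f.app X (sp.r.app X y) + sp.s.app X (S.g.app X y) = y := by
    intro X y
    have := app_congr sp.id X y
    simpa only [PresheafOfModules.add_app, PresheafOfModules.comp_app, ModuleCat.hom_add,
      ModuleCat.hom_comp, LinearMap.add_apply, LinearMap.comp_apply,
      PresheafOfModules.id_app, ModuleCat.hom_id, LinearMap.id_apply] using this
  rw [adequate_iff]
  refine ⟨MP, P', κ, ι, ?_, ?_⟩
  · intro X
    rw [injective_iff_map_eq_zero]
    intro y hy
    rw [hι] at hy
    have h1 : e.hom.app X (sp.r.app X y) = 0 := by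
      have := congrArg ((LinearMap.fst A M P).baseChange X.unop.unop) hy
      rw [fst_inl_inr] at this
      exact this.trans (map_zero _)
    have h2 : (kernel.ι ((underline A).map φ₀)).app X (eL.hom.app X (S.g.app X y)) = 0 := by
      have := congrArg ((LinearMap.snd A M P).baseChange X.unop.unop) hy
      rw [snd_inl_inr] at this
      exact this.trans (map_zero _)
    have h3 : sp.r.app X y = 0 := by
      apply PresheafOfModules.injective_of_mono e.hom X
      rw [map_zero]
      exact h1
    have h4 : S.g.app X y = 0 := by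
      apply PresheafOfModules.injective_of_mono eL.hom X
      apply hKer.inj X
      rw [map_zero, map_zero]
      exact h2
    rw [← hid X y, h3, h4, map_zero, map_zero, add_zero]
  · intro X z
    have hκ : ((underline A).map κ).app X z =
        ((underline A).map φ₀).app X ((LinearMap.snd A M P).baseChange X.unop.unop z) :=
      (baseChange_comp_apply X.unop.unop (LinearMap.snd A M P) φ₀.hom z).symm
    rw [hκ]
    constructor
    · intro hz
      obtain ⟨k, hk⟩ := (hKer.exact X _).1 hz
      refine ⟨S.f.app X (e.inv.app X ((LinearMap.fst A M P).baseChange X.unop.unop z)) +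
        sp.s.app X (eL.inv.app X k), ?_⟩
      have e1 : sp.r.app X (S.f.app X (e.inv.app X
          ((LinearMap.fst A M P).baseChange X.unop.unop z)) + sp.s.app X (eL.inv.app X k)) =
          e.inv.app X ((LinearMap.fst A M P).baseChange X.unop.unop z) := by
        rw [map_add]
        have a1 := app_congr sp.f_r X (e.inv.app X
          ((LinearMap.fst A M P).baseChange X.unop.unop z))
        have a2 := app_congr sp.s_r X (eL.inv.app X k)
        simp only [PresheafOfModules.comp_app, ModuleCat.comp_apply, PresheafOfModules.id_app,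
          ModuleCat.hom_id, LinearMap.id_apply, PresheafOfModules.zero_app, ModuleCat.hom_zero,
          LinearMap.zero_apply] at a1 a2
        rw [a1, a2, add_zero]
      have e2 : S.g.app X (S.f.app X (e.inv.app X
          ((LinearMap.fst A M P).baseChange X.unop.unop z)) + sp.s.app X (eL.inv.app X k)) =
          eL.inv.app X k := by
        rw [map_add]
        have a1 := app_congr hfz X (e.inv.app X
          ((LinearMap.fst A M P).baseChange X.unop.unop z))
        have a2 := app_congr sp.s_g X (eL.inv.app X k)
        simp only [PresheafOfModules.comp_app, ModuleCat.comp_apply, PresheafOfModules.id_app,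
          ModuleCat.hom_id, LinearMap.id_apply, PresheafOfModules.zero_app, ModuleCat.hom_zero,
          LinearMap.zero_apply] at a1 a2
        rw [a1, a2, zero_add]
      have e3 : e.hom.app X (e.inv.app X ((LinearMap.fst A M P).baseChange X.unop.unop z)) =
          (LinearMap.fst A M P).baseChange X.unop.unop z := by
        have := app_congr e.inv_hom_id X ((LinearMap.fst A M P).baseChange X.unop.unop z)
        simpa only [PresheafOfModules.comp_app, ModuleCat.comp_apply, PresheafOfModules.id_app,
          ModuleCat.hom_id, LinearMap.id_apply] using this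
      have e4 : eL.hom.app X (eL.inv.app X k) = k := by
        have := app_congr eL.inv_hom_id X k
        simpa only [PresheafOfModules.comp_app, ModuleCat.comp_apply, PresheafOfModules.id_app,
          ModuleCat.hom_id, LinearMap.id_apply] using this
      rw [hι, e1, e2, e3, e4, hk]
      exact (baseChange_prod_ext X.unop.unop z).symm
    · rintro ⟨y, rfl⟩
      rw [hι, snd_inl_inr]
      exact (hKer.exact X _).2 ⟨_, rfl⟩

end Groth.Agent.Helper8.AdeqN
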