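import Groth.Agent.Helper8.AdeqN

universe u

open CategoryTheory Opposite Limits TensorProduct

namespace Groth.Agent.Helper8.AdeqO

open Adeq AdeqA AdeqE AdeqF AdeqG AdeqH AdeqI AdeqJ AdeqN

variable {A : Type u} [CommRing A]

/-- `underline M` is adequate -/
lemma adequate_underline (M : ModuleCat.{u+1} A) : adequate A ((underline A).obj M) := by
  rw [adequate_iff]
  refine ⟨M, M, 0, 𝟙 _, ⟨fun X => ?_, fun X x => ?_⟩⟩
  · intro x y h
    simpa using h
  · constructor
    · intro _
      exact ⟨x, by simp⟩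
    · intro _
      rw [Functor.map_zero]
      rfl

/-- lifting a map from a linearly adequate functor along an epi with kernel `underline M` -/
lemma exists_lift (S : ShortComplex (MVF A)) (hS : S.ShortExact) (M : ModuleCat.{u+1} A)
    (e : S.X₁ ≅ (underline A).obj M) {L : MVF A} (hL : linAdequate A L) (lam : L ⟶ S.X₃) :
    ∃ μ : L ⟶ S.X₂, μ ≫ S.g = lam := by
  haveI := hS.mono_f
  haveI := hS.epi_g
  have sq := IsPullback.of_hasPullback S.g lam
  haveI : Epi (pullback.snd S.g lam) := inferInstance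
  haveI : IsIso (kernel.map (pullback.snd S.g lam) S.g (pullback.fst S.g lam) lam sq.flip.w) :=
    isIso_kernel_map_of_isPullback sq.flip
  let S' : ShortComplex (MVF A) :=
    ShortComplex.mk (kernel.ι (pullback.snd S.g lam)) (pullback.snd S.g lam) (kernel.condition _)
  have hS' : S'.ShortExact :=
    { exact := ShortComplex.exact_of_f_is_kernel _ (kernelIsKernel _)
      mono_f := by dsimp [S']; infer_instance
      epi_g := by dsimp [S']; infer_instance }
  let e₁ : kernel S.g ≅ S.X₁ :=
    IsLimit.conePointUniqueUpToIso (kernelIsKernel S.g) hS.exact.fIsKernel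
  let e' : S'.X₁ ≅ (underline A).obj M :=
    asIso (kernel.map (pullback.snd S.g lam) S.g (pullback.fst S.g lam) lam sq.flip.w) ≪≫ e₁ ≪≫ e
  obtain ⟨⟨sp⟩, -⟩ := main S' hS' M e' hL
  refine ⟨sp.s ≫ pullback.fst S.g lam, ?_⟩
  have h1 : sp.s ≫ pullback.snd S.g lam = 𝟙 _ := sp.s_g
  rw [Category.assoc, pullback.condition, ← Category.assoc, h1, Category.id_comp]

/-- a family indexed by `Option I` -/
def fam (X : MVF A) {I : Type (u+1)} (L : I → MVF A) : Option I → MVF A
  | none => X
  | some i => L i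

/-- maps out of the family -/
def famDesc {X Y : MVF A} {I : Type (u+1)} {L : I → MVF A} (f : X ⟶ Y) (μ : ∀ i, L i ⟶ Y) :
    ∀ o, fam X L o ⟶ Y
  | none => f
  | some i => μ i

theorem adequate_of_ext_underline (S : ShortComplex (MVF A)) (hS : S.ShortExact)
    (M : ModuleCat.{u+1} A) (e : S.X₁ ≅ (underline A).obj M) (h₃ : adequate A S.X₃) :
    adequate A S.X₂ := by
  classical
  haveI := hS.mono_f
  haveI := hS.epi_g
  have h₁ : adequate A S.X₁ := (adequate A).prop_of_iso e.symm (adequate_underline M)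
  obtain ⟨I, n, k, a, lam, hlam⟩ := exists_family S.X₃ h₃
  have hlin : ∀ i, linAdequate A (kernel ((underline A).map (matMap (a i)))) := fun i =>
    ⟨stdFree A (n i), stdFree A (k i), matMap (a i), inferInstance, inferInstance, inferInstance,
      inferInstance, ⟨Iso.refl _⟩⟩
  have hadL : ∀ i, adequate A (kernel ((underline A).map (matMap (a i)))) := fun i =>
    ⟨stdFree A (n i), stdFree A (k i), matMap (a i), ⟨Iso.refl _⟩⟩
  have hμ' : ∀ i, ∃ μ : kernel ((underline A).map (matMap (a i))) ⟶ S.X₂, μ ≫ S.g = lam i :=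
    fun i => exists_lift S hS M e (hlin i) (lam i)
  choose μ hμ using hμ'
  let L : I → MVF A := fun i => kernel ((underline A).map (matMap (a i)))
  let Φ : ∐ (fam S.X₁ L) ⟶ S.X₂ := Sigma.desc (famDesc S.f μ)
  have hΦn : Sigma.ι (fam S.X₁ L) none ≫ Φ = S.f := Sigma.ι_desc (famDesc S.f μ) none
  have hΦs : ∀ i, Sigma.ι (fam S.X₁ L) (some i) ≫ Φ = μ i :=
    fun i => Sigma.ι_desc (famDesc S.f μ) (some i)
  have hcop : adequate A (∐ (fam S.X₁ L)) := by
    apply adequate_coproduct
    rintro (_ | i)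
    · exact h₁
    · exact hadL i
  haveI : Epi Φ := by
    apply PresheafOfModules.epi_of_surjective
    intro X y
    obtain ⟨i, l, hl⟩ := hlam X (S.g.app X y)
    have h2 : S.g.app X ((μ i).app X l) = (lam i).app X l := by
      have := app_congr (hμ i) X l
      simpa only [PresheafOfModules.comp_app, ModuleCat.comp_apply] using this
    have h3 : S.g.app X (y - (μ i).app X l) = 0 := by
      rw [map_sub, h2, hl, sub_self]
    obtain ⟨x, hx⟩ := exact_app S.f S.g S.zero hS.exact X _ h3
    refine ⟨(Sigma.ι (fam S.X₁ L) none).app X x + (Sigma.ι (fam S.X₁ L) (some i)).app X l, ?_⟩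
    rw [map_add]
    have h4 := app_congr hΦn X x
    have h5 := app_congr (hΦs i) X l
    simp only [PresheafOfModules.comp_app, ModuleCat.comp_apply] at h4 h5
    rw [h4, h5]
    exact eq_sub_iff_add_eq.mp hx
  -- the kernel of Φ
  have hK' : adequate A (kernel (Φ ≫ S.g)) := adequate_kernel (Φ ≫ S.g) hcop h₃
  let Ψ : kernel (Φ ≫ S.g) ⟶ S.X₁ :=
    hS.exact.lift (kernel.ι (Φ ≫ S.g) ≫ Φ) (by rw [Category.assoc, kernel.condition])
  have hΨ : Ψ ≫ S.f = kernel.ι (Φ ≫ S.g) ≫ Φ := hS.exact.lift_f _ _
  let α : kernel Φ ⟶ kernel (Φ ≫ S.g) :=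
    kernel.lift (Φ ≫ S.g) (kernel.ι Φ) (by rw [← Category.assoc, kernel.condition, zero_comp])
  have hα : α ≫ kernel.ι (Φ ≫ S.g) = kernel.ι Φ := kernel.lift_ι _ _ _
  haveI : Mono α := by
    haveI : Mono (α ≫ kernel.ι (Φ ≫ S.g)) := by rw [hα]; infer_instance
    exact mono_of_mono α (kernel.ι _)
  have hαΨ : α ≫ Ψ = 0 := by
    rw [← cancel_mono S.f, Category.assoc, hΨ, ← Category.assoc, hα, kernel.condition, zero_comp]
  obtain ⟨eK⟩ : Nonempty (kernel Φ ≅ kernel Ψ) := by
    apply iso_kernel_of_pointwise α Ψ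
    · intro X
      exact PresheafOfModules.injective_of_mono α X
    · intro X y
      constructor
      · intro hy
        have h1 := app_congr hΨ X y
        simp only [PresheafOfModules.comp_app, ModuleCat.comp_apply] at h1
        rw [hy, map_zero] at h1
        obtain ⟨x', hx'⟩ := (kernel_exact Φ X _).1 h1.symm
        refine ⟨x', ?_⟩
        apply PresheafOfModules.injective_of_mono (kernel.ι (Φ ≫ S.g)) X
        have h2 := app_congr hα X x'
        simp only [PresheafOfModules.comp_app, ModuleCat.comp_apply] at h2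
        rw [h2, hx']
      · rintro ⟨x, rfl⟩
        have h1 := app_congr hαΨ X x
        simpa only [PresheafOfModules.comp_app, ModuleCat.comp_apply, PresheafOfModules.zero_app,
          ModuleCat.hom_zero, LinearMap.zero_apply] using h1
  have hKΦ : adequate A (kernel Φ) :=
    (adequate A).prop_of_iso eK.symm (adequate_kernel Ψ hK' h₁)
  have hcok : adequate A (cokernel (kernel.ι Φ)) := adequate_cokernel (kernel.ι Φ) hKΦ hcop
  have hcolim := Abelian.epiIsCokernelOfKernel _ (kernelIsKernel Φ)
  let eC : cokernel (kernel.ι Φ) ≅ S.X₂ :=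
    IsColimit.coconePointUniqueUpToIso (cokernelIsCokernel (kernel.ι Φ)) hcolim
  exact (adequate A).prop_of_iso eC hcok

theorem adequate_ext (S : ShortComplex (MVF A)) (hS : S.ShortExact)
    (h₁ : adequate A S.X₁) (h₃ : adequate A S.X₃) : adequate A S.X₂ := by
  haveI := hS.mono_f
  haveI := hS.epi_g
  obtain ⟨M, N, θ, ⟨e⟩⟩ := h₁
  let ιF : S.X₁ ⟶ (underline A).obj M := e.hom ≫ kernel.ι ((underline A).map θ)
  haveI : Mono ιF := mono_comp _ _
  have sq := IsPushout.of_hasPushout S.f ιF
  haveI : Mono (pushout.inr S.f ιF) := inferInstance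
  haveI : Mono (pushout.inl S.f ιF) := inferInstance
  haveI : IsIso (cokernel.map S.f (pushout.inr S.f ιF) ιF (pushout.inl S.f ιF) sq.w) :=
    isIso_cokernel_map_of_isPushout sq
  haveI : IsIso (cokernel.map ιF (pushout.inl S.f ιF) S.f (pushout.inr S.f ιF) sq.flip.w) :=
    isIso_cokernel_map_of_isPushout sq.flip
  -- cokernel of inr is S.X₃
  let e₃ : cokernel S.f ≅ S.X₃ :=
    IsColimit.coconePointUniqueUpToIso (cokernelIsCokernel S.f) hS.exact.gIsCokernel
  have hcok₁ : adequate A (cokernel (pushout.inr S.f ιF)) :=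
    (adequate A).prop_of_iso
      (e₃.symm ≪≫ asIso (cokernel.map S.f (pushout.inr S.f ιF) ιF (pushout.inl S.f ιF) sq.w)) h₃
  let S' : ShortComplex (MVF A) :=
    ShortComplex.mk (pushout.inr S.f ιF) (cokernel.π (pushout.inr S.f ιF)) (cokernel.condition _)
  have hS' : S'.ShortExact :=
    { exact := ShortComplex.exact_of_g_is_cokernel _ (cokernelIsCokernel _)
      mono_f := by dsimp [S']; infer_instance
      epi_g := by dsimp [S']; infer_instance }
  have hP : adequate A (pushout S.f ιF) :=
    adequate_of_ext_underline S' hS' M (Iso.refl _) hcok₁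
  -- cokernel of inl is cokernel ιF
  have hcokι : adequate A (cokernel ιF) :=
    adequate_cokernel ιF ⟨M, N, θ, ⟨e⟩⟩ (adequate_underline M)
  have hcok₂ : adequate A (cokernel (pushout.inl S.f ιF)) :=
    (adequate A).prop_of_iso
      (asIso (cokernel.map ιF (pushout.inl S.f ιF) S.f (pushout.inr S.f ιF) sq.flip.w)) hcokι
  have hker : adequate A (kernel (cokernel.π (pushout.inl S.f ιF))) :=
    adequate_kernel _ hP hcok₂
  have hlim := Abelian.monoIsKernelOfCokernel _ (cokernelIsCokernel (pushout.inl S.f ιF))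
  let eK : kernel (cokernel.π (pushout.inl S.f ιF)) ≅ S.X₂ :=
    IsLimit.conePointUniqueUpToIso (kernelIsKernel _) hlim
  exact (adequate A).prop_of_iso eK hker

end Groth.Agent.Helper8.AdeqO
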