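import Groth.Agent.Helper8.AdeqJ
import Mathlib

universe u

open CategoryTheory Opposite Limits TensorProduct

namespace Groth.Agent.Helper8.AdeqQ

open Adeq AdeqA AdeqE AdeqJ

section General

variable {J : Type u} [SmallCategory J] [IsFiltered J]

instance presAb : PreservesColimitsOfShape J (forget AddCommGrpCat.{u+1}) := by
  haveI : PreservesFilteredColimitsOfSize.{u, u} (forget AddCommGrpCat.{u+1}) :=
    preservesFilteredColimitsOfSize_shrink.{u, u+1, u, u+1} _
  infer_instance

instance reflAb : ReflectsColimitsOfShape J (forget AddCommGrpCat.{u+1}) :=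
  reflectsColimitsOfShape_of_reflectsIsomorphisms

theorem isColimit_ab_of (G : J ⥤ AddCommGrpCat.{u+1}) (t : Cocone G)
    (hsurj : ∀ x : t.pt, ∃ j, ∃ y : G.obj j, t.ι.app j y = x)
    (hinj : ∀ j (x : G.obj j), t.ι.app j x = 0 → ∃ k, ∃ f : j ⟶ k, G.map f x = 0) :
    Nonempty (IsColimit t) := by
  refine ⟨isColimitOfReflects (forget AddCommGrpCat.{u+1}) ?_⟩
  apply Types.FilteredColimit.isColimitOf'
  · intro x
    obtain ⟨j, y, hy⟩ := hsurj x
    exact ⟨j, y, hy.symm⟩
  · intro i x' y' hxy
    obtain ⟨x, rfl⟩ : ∃ x : G.obj i, x = x' := ⟨x', rfl⟩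
    obtain ⟨y, rfl⟩ : ∃ y : G.obj i, y = y' := ⟨y', rfl⟩
    have hxy' : t.ι.app i x = t.ι.app i y := hxy
    have h1 : t.ι.app i (x - y) = 0 := by
      rw [map_sub]
      exact sub_eq_zero.2 hxy'
    obtain ⟨k, f, hf⟩ := hinj i _ h1
    refine ⟨k, f, ?_⟩
    rw [map_sub] at hf
    exact sub_eq_zero.1 hf

theorem ab_eq_zero (G : J ⥤ AddCommGrpCat.{u+1}) (t : Cocone G) (ht : IsColimit t) (j : J)
    (x : G.obj j) (hx : t.ι.app j x = 0) : ∃ k, ∃ f : j ⟶ k, G.map f x = 0 := by
  have h1 : t.ι.app j x = t.ι.app j 0 := by rw [hx, map_zero]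
  obtain ⟨k, f, hf⟩ := (IsColimit.eq_iff' ht x 0).1 h1
  exact ⟨k, f, by rw [hf, map_zero]⟩

end General

section Algebra

variable {A : Type u} [CommRing A] {J : Type u} [SmallCategory J] [IsFiltered J]

instance presAlg : PreservesColimitsOfShape J (forget (CommAlgCat.{u} A)) := by
  let e : forget (CommAlgCat.{u} A) ≅
      (commAlgCatEquivUnder (CommRingCat.of A)).functor ⋙ Under.forget _ ⋙ forget CommRingCat :=
    NatIso.ofComponents (fun B => Iso.refl _) (by intros; rfl)
  haveI : IsConnected J := IsFiltered.isConnected J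
  exact preservesColimitsOfShape_of_natIso e.symm

variable {D : J ⥤ Alg A} {c : Cocone D} (hc : IsColimit c)

include hc in
theorem alg_surj (b : c.pt) : ∃ j, ∃ y : D.obj j, (c.ι.app j).hom y = b :=
  Concrete.isColimit_exists_rep D hc b

include hc in
theorem alg_inj (j : J) (x y : D.obj j) (h : (c.ι.app j).hom x = (c.ι.app j).hom y) :
    ∃ k, ∃ f : j ⟶ k, (D.map f).hom x = (D.map f).hom y :=
  (IsColimit.eq_iff' hc x y).1 h

omit [IsFiltered J] in
lemma cw {j k : J} (f : j ⟶ k) (x : D.obj j) :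
    (c.ι.app k).hom ((D.map f).hom x) = (c.ι.app j).hom x := by
  have := congrArg (fun t => t.hom x) (c.w f)
  simpa only [CommAlgCat.hom_comp, AlgHom.comp_apply] using this

omit [IsFiltered J] in
lemma cw_lin {j k : J} (f : j ⟶ k) :
    (c.ι.app k).hom.toLinearMap ∘ₗ (D.map f).hom.toLinearMap = (c.ι.app j).hom.toLinearMap := by
  ext x
  exact cw f x

omit [IsFiltered J] in
lemma dcomp_lin {i j k : J} (f : i ⟶ j) (g : j ⟶ k) :
    (D.map g).hom.toLinearMap ∘ₗ (D.map f).hom.toLinearMap = (D.map (f ≫ g)).hom.toLinearMap := by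
  ext x
  simp

include hc in
theorem exists_addDesc {Q : Type*} [AddCommGroup Q] (h : ∀ j, D.obj j →+ Q)
    (hcompat : ∀ {j k : J} (f : j ⟶ k) (x : D.obj j), h k ((D.map f).hom x) = h j x) :
    ∃ g : c.pt →+ Q, ∀ j (x : D.obj j), g ((c.ι.app j).hom x) = h j x := by
  classical
  choose jj yy hyy using alg_surj hc
  have key : ∀ j (x : D.obj j) j' (x' : D.obj j'),
      (c.ι.app j).hom x = (c.ι.app j').hom x' → h j x = h j' x' := by
    intro j x j' x' hxx'
    have h1 : (c.ι.app (IsFiltered.max j j')).hom ((D.map (IsFiltered.leftToMax j j')).hom x) =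
        (c.ι.app (IsFiltered.max j j')).hom ((D.map (IsFiltered.rightToMax j j')).hom x') := by
      rw [cw, cw, hxx']
    obtain ⟨k, f, hf⟩ := alg_inj hc _ _ _ h1
    calc h j x = h _ ((D.map (IsFiltered.leftToMax j j')).hom x) := (hcompat _ x).symm
      _ = h k ((D.map f).hom ((D.map (IsFiltered.leftToMax j j')).hom x)) := (hcompat f _).symm
      _ = h k ((D.map f).hom ((D.map (IsFiltered.rightToMax j j')).hom x')) := by rw [hf]
      _ = h _ ((D.map (IsFiltered.rightToMax j j')).hom x') := hcompat f _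
      _ = h j' x' := hcompat _ x'
  have hg : ∀ j (x : D.obj j), h (jj ((c.ι.app j).hom x)) (yy ((c.ι.app j).hom x)) = h j x :=
    fun j x => key _ _ _ _ (hyy _)
  refine ⟨{ toFun := fun b => h (jj b) (yy b), map_zero' := ?_, map_add' := ?_ }, hg⟩
  · have j0 : J := IsFiltered.nonempty.some
    have := hg j0 0
    rw [map_zero] at this
    rw [this, map_zero]
  · intro b b'
    have hb : b = (c.ι.app (IsFiltered.max (jj b) (jj b'))).hom
        ((D.map (IsFiltered.leftToMax (jj b) (jj b'))).hom (yy b)) := by rw [cw, hyy]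
    have hb' : b' = (c.ι.app (IsFiltered.max (jj b) (jj b'))).hom
        ((D.map (IsFiltered.rightToMax (jj b) (jj b'))).hom (yy b')) := by rw [cw, hyy]
    have hbb' : b + b' = (c.ι.app (IsFiltered.max (jj b) (jj b'))).hom
        ((D.map (IsFiltered.leftToMax (jj b) (jj b'))).hom (yy b) +
          (D.map (IsFiltered.rightToMax (jj b) (jj b'))).hom (yy b')) := by
      rw [map_add, ← hb, ← hb']
    change h (jj (b + b')) (yy (b + b')) = h (jj b) (yy b) + h (jj b') (yy b')
    rw [hbb', hg, map_add, hcompat, hcompat]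

end Algebra

section Tensor

variable {A : Type u} [CommRing A] {J : Type u} [SmallCategory J] [IsFiltered J]
variable {D : J ⥤ Alg A} {c : Cocone D} (hc : IsColimit c) (M : ModuleCat.{u+1} A)

/-- the diagram `j ↦ D j ⊗ M` of abelian groups -/
noncomputable def T (D : J ⥤ Alg A) (M : ModuleCat.{u+1} A) : J ⥤ AddCommGrpCat.{u+1} where
  obj j := AddCommGrpCat.of (D.obj j ⊗[A] M)
  map f := AddCommGrpCat.ofHom ((D.map f).hom.toLinearMap.rTensor M).toAddMonoidHom
  map_id j := by
    ext x
    change ((D.map (𝟙 j)).hom.toLinearMap.rTensor M) x = x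
    rw [D.map_id, CommAlgCat.hom_id, AlgHom.toLinearMap_id, LinearMap.rTensor_id,
      LinearMap.id_apply]
  map_comp f g := by
    ext x
    change ((D.map (f ≫ g)).hom.toLinearMap.rTensor M) x =
      ((D.map g).hom.toLinearMap.rTensor M) (((D.map f).hom.toLinearMap.rTensor M) x)
    rw [← LinearMap.comp_apply, ← LinearMap.rTensor_comp, dcomp_lin]

include hc in
theorem tensor_surj (z : c.pt ⊗[A] M) :
    ∃ j, ∃ y : D.obj j ⊗[A] M, (c.ι.app j).hom.toLinearMap.rTensor M y = z := by
  induction z using TensorProduct.induction_on with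
  | zero => exact ⟨IsFiltered.nonempty.some, 0, map_zero _⟩
  | tmul b m =>
    obtain ⟨j, y, rfl⟩ := alg_surj hc b
    exact ⟨j, y ⊗ₜ m, by rw [LinearMap.rTensor_tmul]; rfl⟩
  | add z z' hz hz' =>
    obtain ⟨j, y, rfl⟩ := hz
    obtain ⟨j', y', rfl⟩ := hz'
    refine ⟨IsFiltered.max j j', (D.map (IsFiltered.leftToMax j j')).hom.toLinearMap.rTensor M y +
      (D.map (IsFiltered.rightToMax j j')).hom.toLinearMap.rTensor M y', ?_⟩
    rw [map_add, ← LinearMap.comp_apply, ← LinearMap.comp_apply, ← LinearMap.rTensor_comp,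
      ← LinearMap.rTensor_comp, cw_lin, cw_lin]

include hc in
theorem tensor_inj (j : J) (z : D.obj j ⊗[A] M)
    (hz : (c.ι.app j).hom.toLinearMap.rTensor M z = 0) :
    ∃ k, ∃ f : j ⟶ k, (D.map f).hom.toLinearMap.rTensor M z = 0 := by
  -- the colimit of the `D j ⊗ M`
  let L : AddCommGrpCat.{u+1} := colimit (T D M)
  let ιL : ∀ j, (D.obj j ⊗[A] M) →+ L := fun j => (colimit.ι (T D M) j).hom
  have hιL : ∀ {j k : J} (f : j ⟶ k) (w : D.obj j ⊗[A] M),
      ιL k ((D.map f).hom.toLinearMap.rTensor M w) = ιL j w := by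
    intro j k f w
    have := congrArg (fun t => t.hom w) (colimit.w (T D M) f)
    exact this
  let h : ∀ j, D.obj j →+ (M →+ L) := fun j =>
    { toFun := fun b => (ιL j).comp (TensorProduct.mk A (D.obj j) M b).toAddMonoidHom
      map_zero' := by
        ext m
        simp
      map_add' := by
        intro b b'
        ext m
        simp }
  have hh : ∀ j (b : D.obj j) (m : M), h j b m = ιL j (b ⊗ₜ m) := fun j b m => rfl
  obtain ⟨β, hβ⟩ := exists_addDesc hc h (by
    intro j k f x
    ext m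
    rw [hh, hh, ← hιL f, LinearMap.rTensor_tmul]
    rfl)
  let Φ : c.pt ⊗[A] M →+ L := TensorProduct.liftAddHom β (by
    intro r b m
    obtain ⟨j, y, rfl⟩ := alg_surj hc b
    rw [← map_smul, hβ, hβ, hh, hh, TensorProduct.smul_tmul])
  have hΦ : ∀ j (w : D.obj j ⊗[A] M), Φ ((c.ι.app j).hom.toLinearMap.rTensor M w) = ιL j w := by
    intro j w
    induction w using TensorProduct.induction_on with
    | zero => rw [map_zero, map_zero, map_zero]
    | tmul b m =>
      rw [LinearMap.rTensor_tmul]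
      change β ((c.ι.app j).hom b) m = _
      rw [hβ, hh]
    | add w w' hw hw' => rw [map_add, map_add, map_add, hw, hw']
  have h0 : (colimit.ι (T D M) j) z = 0 := by
    have := hΦ j z
    rw [hz, map_zero] at this
    exact this.symm
  exact ab_eq_zero (T D M) (colimit.cocone (T D M)) (colimit.isColimit _) j z h0

end Tensor

section Main

variable {A : Type u} [CommRing A] {J : Type u} [SmallCategory J] [IsFiltered J]

theorem main (F : MVF A) (hF : adequate A F) (D : J ⥤ Alg A) (c : Cocone D) (hc : IsColimit c) :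
    Nonempty (IsColimit (F.toAb.mapCocone c)) := by
  obtain ⟨M, N, φ, ι, hK⟩ := (adequate_iff F).1 hF
  apply isColimit_ab_of
  · intro x'
    obtain ⟨x, rfl⟩ : ∃ x : F.obj (pt c.pt), x = x' := ⟨x', rfl⟩
    obtain ⟨j, z, hz⟩ := tensor_surj hc M (ι.app (pt c.pt) x)
    have h0 : ((underline A).map φ).app (pt c.pt) (ι.app (pt c.pt) x) = 0 :=
      (hK.exact _ _).2 ⟨x, rfl⟩
    have h1 : (c.ι.app j).hom.toLinearMap.rTensor N
        (((underline A).map φ).app (pt (D.obj j)) z) = 0 := by
      have := tr_nat ((underline A).map φ) (c.ι.app j) z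
      rw [tr_underline, tr_underline, hz] at this
      exact this.symm.trans h0
    obtain ⟨k, f, hf⟩ := tensor_inj hc N j _ h1
    have h2 : ((underline A).map φ).app (pt (D.obj k))
        ((D.map f).hom.toLinearMap.rTensor M z) = 0 := by
      have := tr_nat ((underline A).map φ) (D.map f) z
      rw [tr_underline, tr_underline, hf] at this
      exact this
    obtain ⟨y, hy⟩ := (hK.exact (pt (D.obj k)) _).1 h2
    refine ⟨k, y, ?_⟩
    apply hK.inj
    change ι.app (pt c.pt) (tr F (c.ι.app k) y) = _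
    rw [tr_nat, hy, tr_underline]
    refine Eq.trans ?_ hz
    rw [← LinearMap.comp_apply, ← LinearMap.rTensor_comp, cw_lin]
  · intro j x' hx'
    obtain ⟨x, rfl⟩ : ∃ x : F.obj (pt (D.obj j)), x = x' := ⟨x', rfl⟩
    have hx : tr F (c.ι.app j) x = 0 := hx'
    have h1 : (c.ι.app j).hom.toLinearMap.rTensor M (ι.app (pt (D.obj j)) x) = 0 := by
      have := tr_nat ι (c.ι.app j) x
      rw [hx, map_zero, tr_underline] at this
      exact this.symm
    obtain ⟨k, f, hf⟩ := tensor_inj hc M j _ h1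
    refine ⟨k, f, ?_⟩
    apply hK.inj
    change ι.app (pt (D.obj k)) (tr F (D.map f) x) = _
    rw [tr_nat, tr_underline, hf]
    exact (map_zero (ι.app (pt (D.obj k))).hom).symm

end Main

end Groth.Agent.Helper8.AdeqQ
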