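import Mathlib
import Groth.Prelude.Def_CAlgX
import Groth.Agent.Helper8.AdicFS
set_option autoImplicit false

namespace Groth.Agent.Helper8.AdicFS

universe u

section
variable {R : Type u} [CommRing R] (𝔪 : Ideal R)

/-- Two ring maps out of the completion agreeing on `R` and killing a power of `𝔪R̂` agree. -/
lemma ringHom_ext_of_kill (h𝔪 : 𝔪.FG) {B : Type*} [CommRing B]
    (α β : AdicCompletion 𝔪 R →+* B) (N : ℕ)
    (hof : ∀ r : R, α (AdicCompletion.of 𝔪 R r) = β (AdicCompletion.of 𝔪 R r))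
    (hα : ∀ x ∈ (𝔪.map (algebraMap R (AdicCompletion 𝔪 R))) ^ N, α x = 0)
    (hβ : ∀ x ∈ (𝔪.map (algebraMap R (AdicCompletion 𝔪 R))) ^ N, β x = 0) : α = β := by
  ext x
  obtain ⟨r, hr⟩ := Ideal.Quotient.mk_surjective (AdicCompletion.evalₐ 𝔪 N x)
  have hy : AdicCompletion.evalₐ 𝔪 N (x - AdicCompletion.of 𝔪 R r) = 0 := by
    rw [map_sub, ← hr, AdicCompletion.evalₐ_of, sub_self]
  have hy' := (evalₐ_eq_zero_iff 𝔪 h𝔪 N _).1 hy
  have h1 := hα _ hy'
  have h2 := hβ _ hy'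
  rw [map_sub, sub_eq_zero] at h1 h2
  rw [h1, h2, hof]

end

section
variable {R T : Type u} [CommRing R] [CommRing T] [Algebra R T] (𝔪 : Ideal R)
  [Algebra (AdicCompletion 𝔪 R) T] [IsScalarTower R (AdicCompletion 𝔪 R) T] (𝔑 : Ideal T)

omit [IsScalarTower R (AdicCompletion 𝔪 R) T] in
/-- `(𝔪R̂)^(ck)` maps into `𝔑^k`. -/
lemma map_pow_le (c : ℕ) (hc : (𝔪 ^ c).map (algebraMap R T) ≤ 𝔑)
    (hof : ∀ r : R, algebraMap (AdicCompletion 𝔪 R) T (AdicCompletion.of 𝔪 R r) =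
      algebraMap R T r) (k : ℕ) :
    (𝔪.map (algebraMap R (AdicCompletion 𝔪 R))) ^ (c * k) ≤
      (𝔑 ^ k).comap (algebraMap (AdicCompletion 𝔪 R) T) := by
  rw [pow_mul, ← Ideal.map_pow]
  refine le_trans (Ideal.pow_right_mono ?_ k) (Ideal.le_comap_pow _ k)
  rw [Ideal.map_le_iff_le_comap]
  intro r hr
  rw [Ideal.mem_comap, Ideal.mem_comap]
  have := hc (Ideal.mem_map_of_mem _ hr)
  rw [← hof] at this
  exact this

theorem forward (h𝔪 : 𝔪.FG) (c : ℕ) (hc : (𝔪 ^ c).map (algebraMap R T) ≤ 𝔑)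
    (h : CAlgX.IsAdicFormallySmooth R T 𝔑) :
    CAlgX.IsAdicFormallySmooth (AdicCompletion 𝔪 R) T 𝔑 := by
  intro A _ _ J hJ φ ⟨k, hk⟩
  have hof : ∀ r : R, algebraMap (AdicCompletion 𝔪 R) T (AdicCompletion.of 𝔪 R r) =
      algebraMap R T r := fun r => by
    rw [IsScalarTower.algebraMap_apply R (AdicCompletion 𝔪 R) T]; rfl
  let _ : Algebra R A := ((algebraMap (AdicCompletion 𝔪 R) A).comp
    (algebraMap R (AdicCompletion 𝔪 R))).toAlgebra
  have : IsScalarTower R (AdicCompletion 𝔪 R) A := IsScalarTower.of_algebraMap_eq (fun _ => rfl)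
  obtain ⟨χ, hχ⟩ := h A J hJ (φ.restrictScalars R) ⟨k, fun x hx => hk x hx⟩
  have hχJ : 𝔑 ^ k ≤ J.comap χ.toRingHom := by
    intro x hx
    rw [Ideal.mem_comap]
    have h1 := AlgHom.congr_fun hχ x
    have h2 : (φ.restrictScalars R) x = 0 := hk x hx
    rw [h2] at h1
    exact Ideal.Quotient.eq_zero_iff_mem.1 h1
  have hle := map_pow_le 𝔪 𝔑 c hc hof k
  -- the two ring maps R̂ → A
  have hcomm : χ.toRingHom.comp (algebraMap (AdicCompletion 𝔪 R) T) =
      algebraMap (AdicCompletion 𝔪 R) A := by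
    apply ringHom_ext_of_kill 𝔪 h𝔪 _ _ (c * k + c * k)
    · intro r
      rw [RingHom.comp_apply, hof]
      exact χ.commutes r
    · intro x hx
      rw [pow_add] at hx
      refine Submodule.mul_induction_on hx ?_ ?_
      · intro a ha b hb
        rw [map_mul]
        have ha' : (χ.toRingHom.comp (algebraMap (AdicCompletion 𝔪 R) T)) a ∈ J :=
          hχJ (hle ha)
        have hb' : (χ.toRingHom.comp (algebraMap (AdicCompletion 𝔪 R) T)) b ∈ J :=
          hχJ (hle hb)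
        have : (χ.toRingHom.comp (algebraMap (AdicCompletion 𝔪 R) T)) a *
            (χ.toRingHom.comp (algebraMap (AdicCompletion 𝔪 R) T)) b ∈ J ^ 2 := by
          rw [pow_two]; exact Ideal.mul_mem_mul ha' hb'
        rwa [hJ, Ideal.mem_bot] at this
      · intro a b ha hb
        rw [map_add, ha, hb, add_zero]
    · intro x hx
      have hJmem : ∀ a ∈ (𝔪.map (algebraMap R (AdicCompletion 𝔪 R))) ^ (c * k),
          algebraMap (AdicCompletion 𝔪 R) A a ∈ J := by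
        intro a ha
        have h1 : φ (algebraMap (AdicCompletion 𝔪 R) T a) = 0 := hk _ (hle ha)
        rw [φ.commutes] at h1
        rw [← Ideal.Quotient.eq_zero_iff_mem]
        exact h1
      rw [pow_add] at hx
      refine Submodule.mul_induction_on hx ?_ ?_
      · intro a ha b hb
        rw [map_mul]
        have : algebraMap (AdicCompletion 𝔪 R) A a * algebraMap (AdicCompletion 𝔪 R) A b ∈
            J ^ 2 := by
          rw [pow_two]; exact Ideal.mul_mem_mul (hJmem a ha) (hJmem b hb)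
        rwa [hJ, Ideal.mem_bot] at this
      · intro a b ha hb
        rw [map_add, ha, hb, add_zero]
  refine ⟨{ χ.toRingHom with commutes' := fun x => RingHom.congr_fun hcomm x }, ?_⟩
  ext x
  exact AlgHom.congr_fun hχ x

theorem backward (h𝔪 : 𝔪.FG) (c : ℕ) (hc : (𝔪 ^ c).map (algebraMap R T) ≤ 𝔑)
    (h : CAlgX.IsAdicFormallySmooth (AdicCompletion 𝔪 R) T 𝔑) :
    CAlgX.IsAdicFormallySmooth R T 𝔑 := by
  intro A _ _ J hJ φ ⟨k, hk⟩
  have hof : ∀ r : R, algebraMap (AdicCompletion 𝔪 R) T (AdicCompletion.of 𝔪 R r) =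
      algebraMap R T r := fun r => by
    rw [IsScalarTower.algebraMap_apply R (AdicCompletion 𝔪 R) T]; rfl
  have hle := map_pow_le 𝔪 𝔑 c hc hof k
  have hRJ : ∀ r ∈ 𝔪 ^ (c * k), algebraMap R A r ∈ J := by
    intro r hr
    have h1 : algebraMap R T r ∈ 𝔑 ^ k := by
      rw [pow_mul] at hr
      have := Ideal.mem_map_of_mem (algebraMap R T) hr
      rw [Ideal.map_pow] at this
      exact Ideal.pow_right_mono hc k this
    have h2 := hk _ h1
    rw [φ.commutes] at h2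
    exact Ideal.Quotient.eq_zero_iff_mem.1 h2
  have hR0 : ∀ r ∈ 𝔪 ^ (c * k + c * k), algebraMap R A r = 0 := by
    intro x hx
    rw [pow_add] at hx
    refine Submodule.mul_induction_on hx ?_ ?_
    · intro a ha b hb
      rw [map_mul]
      have : algebraMap R A a * algebraMap R A b ∈ J ^ 2 := by
        rw [pow_two]; exact Ideal.mul_mem_mul (hRJ a ha) (hRJ b hb)
      rwa [hJ, Ideal.mem_bot] at this
    · intro a b ha hb
      rw [map_add, ha, hb, add_zero]
  let β : AdicCompletion 𝔪 R →+* A :=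
    (Ideal.Quotient.lift (𝔪 ^ (c * k + c * k)) (algebraMap R A) hR0).comp
      (AdicCompletion.evalₐ 𝔪 (c * k + c * k)).toRingHom
  have hβ : ∀ x, β x = (Ideal.Quotient.lift (𝔪 ^ (c * k + c * k)) (algebraMap R A) hR0)
      (AdicCompletion.evalₐ 𝔪 (c * k + c * k) x) := fun _ => rfl
  have hβof : ∀ r, β (AdicCompletion.of 𝔪 R r) = algebraMap R A r := by
    intro r
    rw [hβ, AdicCompletion.evalₐ_of, Ideal.Quotient.lift_mk]
  let _ : Algebra (AdicCompletion 𝔪 R) A := β.toAlgebra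
  have : IsScalarTower R (AdicCompletion 𝔪 R) A :=
    IsScalarTower.of_algebraMap_eq (fun r => (hβof r).symm)
  have hφ : φ.toRingHom.comp (algebraMap (AdicCompletion 𝔪 R) T) =
      algebraMap (AdicCompletion 𝔪 R) (A ⧸ J) := by
    apply ringHom_ext_of_kill 𝔪 h𝔪 _ _ (c * k + c * k)
    · intro r
      rw [RingHom.comp_apply, hof]
      have h1 : φ.toRingHom (algebraMap R T r) = algebraMap R (A ⧸ J) r := φ.commutes r
      rw [h1, IsScalarTower.algebraMap_apply R (AdicCompletion 𝔪 R) (A ⧸ J)]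
      rfl
    · intro x hx
      exact hk _ (hle (Ideal.pow_le_pow_right (Nat.le_add_right _ _) hx))
    · intro x hx
      have h0 : AdicCompletion.evalₐ 𝔪 (c * k + c * k) x = 0 :=
        (evalₐ_eq_zero_iff 𝔪 h𝔪 _ x).2 hx
      show Ideal.Quotient.mk J (β x) = 0
      rw [hβ, h0, map_zero, map_zero]
  obtain ⟨χ', hχ'⟩ := h A J hJ
    { φ.toRingHom with commutes' := fun x => RingHom.congr_fun hφ x } ⟨k, hk⟩
  refine ⟨χ'.restrictScalars R, ?_⟩
  ext x
  exact AlgHom.congr_fun hχ' x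

end

theorem s9317 {R S : Type u} [CommRing R] [CommRing S]
    [Algebra R S] (𝔪 : Ideal R) (𝔫 : Ideal S) (h𝔪 : 𝔪.FG) (h𝔫 : 𝔫.FG)
    (hc : ∃ c : ℕ, (𝔪 ^ c).map (algebraMap R S) ≤ 𝔫)
    (ψ : AdicCompletion 𝔪 R →+* AdicCompletion 𝔫 S)
    (hψ : ψ.comp (algebraMap R (AdicCompletion 𝔪 R)) =
      (algebraMap S (AdicCompletion 𝔫 S)).comp (algebraMap R S)) :
    CAlgX.IsAdicFormallySmooth R S 𝔫 ↔
      letI : Algebra (AdicCompletion 𝔪 R) (AdicCompletion 𝔫 S) := ψ.toAlgebra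
      CAlgX.IsAdicFormallySmooth (AdicCompletion 𝔪 R) (AdicCompletion 𝔫 S)
        (𝔫.map (algebraMap S (AdicCompletion 𝔫 S))) := by
  let _ : Algebra (AdicCompletion 𝔪 R) (AdicCompletion 𝔫 S) := ψ.toAlgebra
  have : IsScalarTower R (AdicCompletion 𝔪 R) (AdicCompletion 𝔫 S) :=
    IsScalarTower.of_algebraMap_eq (fun r => (RingHom.congr_fun hψ r).symm)
  obtain ⟨c, hc⟩ := hc
  have hc' : (𝔪 ^ c).map (algebraMap R (AdicCompletion 𝔫 S)) ≤
      𝔫.map (algebraMap S (AdicCompletion 𝔫 S)) := by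
    rw [IsScalarTower.algebraMap_eq R S (AdicCompletion 𝔫 S), ← Ideal.map_map]
    exact Ideal.map_mono hc
  rw [s9318 𝔫 h𝔫]
  exact ⟨forward 𝔪 _ h𝔪 c hc', backward 𝔪 _ h𝔪 c hc'⟩

end Groth.Agent.Helper8.AdicFS
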