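import Mathlib
import Groth.Prelude.Def_AssocGrMod
set_option autoImplicit false
universe u

namespace Groth.Agent.Helper8.AdicGrM

theorem smodEq_iff' {A : Type u} [CommRing A] (I : Ideal A) (n : ℕ) (x y : A) :
    x ≡ y [SMOD (I ^ n • ⊤ : Submodule A A)] ↔ x - y ∈ I ^ n := by
  rw [SModEq.sub_mem, smul_eq_mul, Ideal.mul_top]

theorem antidiag_sum {A M : Type u} [CommRing A] [AddCommGroup M] [Module A M] (c : ℕ → A) (x : M)
    (d n : ℕ) :
    ∑ p ∈ Finset.HasAntidiagonal.antidiagonal n, c p.1 • (if d = p.2 then x else 0) =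
      if d ≤ n then c (n - d) • x else 0 := by
  split_ifs with h
  · rw [Finset.sum_eq_single (n - d, d)]
    · simp
    · rintro ⟨p, q⟩ hp hne
      rw [Finset.HasAntidiagonal.mem_antidiagonal] at hp
      simp only at hp
      have : d ≠ q := by
        rintro rfl
        apply hne
        ext <;> simp <;> omega
      simp [this]
    · intro hn
      exfalso
      apply hn
      rw [Finset.HasAntidiagonal.mem_antidiagonal]
      simp
      omega
  · apply Finset.sum_eq_zero
    rintro ⟨p, q⟩ hp
    rw [Finset.HasAntidiagonal.mem_antidiagonal] at hp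
    simp only at hp
    have : d ≠ q := by omega
    simp [this]

open AssocGr in
theorem stepM (A : Type u) [CommRing A] (I : Ideal A)
    (M : Type u) [AddCommGroup M] [Module A M] (F : I.Filtration M)
    {k : ℕ} (d : Fin k → ℕ) (x : (i : Fin k) → ↥(F.N (d i)))
    (hgen : Submodule.span (AssocGr.GrRing (FiltBl.IdealFiltration.adic I))
      (Set.range fun i => (AssocGr.inDegM F (d i) (x i) : AssocGr.GrMod F)) = ⊤)
    (n : ℕ) (y : M) (hy : y ∈ F.N n) :
    ∃ a : Fin k → A, (∀ i, a i ∈ I ^ (n - d i)) ∧ y - ∑ i, a i • (x i : M) ∈ F.N (n + 1) := by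
  have hmem : (inDegM F n ⟨y, hy⟩ : GrMod F) ∈ Submodule.span (GrRing (FiltBl.IdealFiltration.adic I))
      (Set.range fun i => (inDegM F (d i) (x i) : GrMod F)) := by rw [hgen]; trivial
  obtain ⟨c, hc⟩ := (Submodule.mem_span_range_iff_exists_fun _).mp hmem
  choose f hf using fun i => mkG_surjective (FiltBl.IdealFiltration.adic I) (c i)
  have h1 : mkGM F (monomM F n ⟨y, hy⟩ - ∑ i, f i • monomM F (d i) (x i)) = 0 := by
    rw [map_sub, map_sum, sub_eq_zero, ← coe_inDegM, ← hc]
    refine Finset.sum_congr rfl fun i _ => ?_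
    rw [← hf i, coe_inDegM, mkG_smul_mkGM]
  rw [mkGM_eq_zero_iff, mem_succMod_iff] at h1
  have h2 := h1 n
  refine ⟨fun i => if d i ≤ n then ((f i : Polynomial A)).coeff (n - d i) else 0, fun i => ?_, ?_⟩
  · dsimp only
    split_ifs
    · exact (f i).2 (n - d i)
    · exact Ideal.zero_mem _
  · convert h2 using 1
    rw [← ReesM.coeffHom_apply, map_sub, map_sum, ReesM.coeffHom_apply, ReesM.coeff_monomM, if_pos rfl]
    congr 1
    refine Finset.sum_congr rfl fun i _ => ?_
    rw [ReesM.coeffHom_apply, ReesM.coeff_smul]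
    simp only [ReesM.coeff_monomM]
    rw [antidiag_sum]
    split_ifs <;> simp

theorem mainM (A : Type u) [CommRing A] (I : Ideal A)
    [IsPrecomplete I A] (M : Type u) [AddCommGroup M] [Module A M] (F : I.Filtration M)
    (h0 : F.N 0 = ⊤) (hsep : ⨅ n, F.N n = ⊥) {k : ℕ} (d : Fin k → ℕ) (x : (i : Fin k) → ↥(F.N (d i)))
    (hgen : Submodule.span (AssocGr.GrRing (FiltBl.IdealFiltration.adic I))
      (Set.range fun i => (AssocGr.inDegM F (d i) (x i) : AssocGr.GrMod F)) = ⊤) :
    Submodule.span A (Set.range fun i => ((x i : ↥(F.N (d i))) : M)) = ⊤ := by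
  classical
  rw [eq_top_iff]
  intro y _
  have hstep := stepM A I M F d x hgen
  -- recursive sequence of coefficient vectors
  let G : (n : ℕ) → {c : Fin k → A // y - ∑ i, c i • (x i : M) ∈ F.N n} := fun n =>
    Nat.rec ⟨0, by rw [h0]; trivial⟩
      (fun n p => ⟨p.1 + (hstep n _ p.2).choose, by
        have := (hstep n _ p.2).choose_spec.2
        simp only [Pi.add_apply, add_smul, Finset.sum_add_distrib]
        rw [← sub_sub]
        exact this⟩) n
  let c : ℕ → Fin k → A := fun n => (G n).1
  have hc : ∀ n, y - ∑ i, c n i • (x i : M) ∈ F.N n := fun n => (G n).2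
  have hcd : ∀ n i, c (n + 1) i - c n i ∈ I ^ (n - d i) := by
    intro n i
    have : c (n + 1) = c n + (hstep n _ (G n).2).choose := rfl
    rw [this, Pi.add_apply, add_sub_cancel_left]
    exact (hstep n _ (G n).2).choose_spec.1 i
  let D : ℕ := Finset.univ.sup d
  have hD : ∀ i, d i ≤ D := fun i => Finset.le_sup (f := d) (Finset.mem_univ i)
  have hcauchy : ∀ i, ∀ {m n}, m ≤ n →
      c (m + D) i ≡ c (n + D) i [SMOD (I ^ m • ⊤ : Submodule A A)] := by
    intro i m n hmn
    rw [smodEq_iff']
    induction n, hmn using Nat.le_induction with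
    | base => simp
    | succ n hmn ih =>
      have : c (m + D) i - c (n + 1 + D) i =
          (c (m + D) i - c (n + D) i) - (c (n + D + 1) i - c (n + D) i) := by
        rw [show n + 1 + D = n + D + 1 by ring]; ring
      rw [this]
      refine Ideal.sub_mem _ ih (Ideal.pow_le_pow_right ?_ (hcd (n + D) i))
      have := hD i
      omega
  choose L hL using fun i => IsPrecomplete.prec ‹IsPrecomplete I A› (hcauchy i)
  have hy : y = ∑ i, L i • (x i : M) := by
    rw [← sub_eq_zero]
    have : y - ∑ i, L i • (x i : M) ∈ ⨅ n, F.N n := by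
      rw [Submodule.mem_iInf]
      intro m
      have h1 : y - ∑ i, L i • (x i : M) =
          (y - ∑ i, c (m + D) i • (x i : M)) - ∑ i, (L i - c (m + D) i) • (x i : M) := by
        simp only [sub_smul, Finset.sum_sub_distrib]
        abel
      rw [h1]
      refine Submodule.sub_mem _ (F.antitone (Nat.le_add_right m D) (hc (m + D)))
        (Submodule.sum_mem _ fun i _ => ?_)
      have h2 := hL i m
      rw [smodEq_iff'] at h2
      have h3 : L i - c (m + D) i ∈ I ^ m := by
        have : L i - c (m + D) i = -(c (m + D) i - L i) := by ring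
        rw [this]; exact neg_mem h2
      have h4 : (x i : M) ∈ F.N 0 := by rw [h0]; trivial
      exact F.pow_smul_le m 0 (Submodule.smul_mem_smul h3 h4)
    rw [hsep] at this
    exact this
  rw [hy]
  exact Submodule.sum_mem _ fun i _ => Submodule.smul_mem _ _ (Submodule.subset_span ⟨i, rfl⟩)


open AssocGr in
theorem finiteM (A : Type u) [CommRing A] (I : Ideal A)
    [IsPrecomplete I A] (M : Type u) [AddCommGroup M] [Module A M] (F : I.Filtration M)
    (h0 : F.N 0 = ⊤) (hsep : ⨅ n, F.N n = ⊥)
    [Module.Finite (AssocGr.GrRing (FiltBl.IdealFiltration.adic I)) (AssocGr.GrMod F)] :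
    Module.Finite A M := by
  classical
  obtain ⟨S, hS⟩ := (Module.Finite.fg_top :
    (⊤ : Submodule (GrRing (FiltBl.IdealFiltration.adic I)) (GrMod F)).FG)
  choose y hy using mkGM_surjective F
  let supp : ReesM F → Finset ℕ := fun w =>
    ((toReesM F).symm w : PolynomialModule A M).coeff.support
  let T : Finset (Σ n : ℕ, F.N n) :=
    S.biUnion fun z => (supp (y z)).image fun n => ⟨n, ⟨ReesM.coeff F (y z) n, ReesM.coeff_mem F (y z) n⟩⟩
  let e : Fin T.card ≃ T := T.equivFin.symm
  let d : Fin T.card → ℕ := fun i => (e i).1.1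
  let x : (i : Fin T.card) → F.N (d i) := fun i => (e i).1.2
  have hgen : Submodule.span (GrRing (FiltBl.IdealFiltration.adic I))
      (Set.range fun i => (inDegM F (d i) (x i) : GrMod F)) = ⊤ := by
    rw [eq_top_iff, ← hS, Submodule.span_le]
    intro z hz
    have h1 : z = ∑ n ∈ supp (y z), mkGM F (termM F (y z) n) := by
      rw [← map_sum, sum_termM, hy]
    rw [h1]
    refine Submodule.sum_mem _ fun n hn => Submodule.subset_span ?_
    have hmem : (⟨n, ⟨ReesM.coeff F (y z) n, ReesM.coeff_mem F (y z) n⟩⟩ : Σ n : ℕ, F.N n) ∈ T := by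
      refine Finset.mem_biUnion.mpr ⟨z, hz, Finset.mem_image.mpr ⟨n, hn, rfl⟩⟩
    refine ⟨e.symm ⟨_, hmem⟩, ?_⟩
    have key : ∀ t : T, (fun i => (inDegM F (d i) (x i) : GrMod F)) (e.symm t) =
        (inDegM F t.1.1 t.1.2 : GrMod F) := by
      intro t
      change (inDegM F (e (e.symm t)).1.1 (e (e.symm t)).1.2 : GrMod F) = _
      rw [Equiv.apply_symm_apply]
    rw [key]
    rfl
  have hspan := mainM A I M F h0 hsep d x hgen
  exact ⟨by rw [← hspan]; exact Submodule.fg_span (Set.finite_range _)⟩

end Groth.Agent.Helper8.AdicGrM
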