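import Mathlib
import Groth.Agent.Helper8.AdicGrM
set_option autoImplicit false
universe u

namespace Groth.Agent.Helper8.AdicGrM

open AssocGr in
theorem stepM2 (A : Type u) [CommRing A] (I : Ideal A)
    (M : Type u) [AddCommGroup M] [Module A M] (F : I.Filtration M)
    {k : ℕ} (d : Fin k → ℕ) (x : (i : Fin k) → ↥(F.N (d i)))
    (n : ℕ) (y : M) (hy : y ∈ F.N n)
    (hmem : (inDegM F n ⟨y, hy⟩ : GrMod F) ∈ Submodule.span (GrRing (FiltBl.IdealFiltration.adic I))
      (Set.range fun i => (inDegM F (d i) (x i) : GrMod F))) :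
    ∃ a : Fin k → A, (∀ i, a i ∈ I ^ (n - d i)) ∧ y - ∑ i, a i • (x i : M) ∈ F.N (n + 1) := by
  obtain ⟨c, hc⟩ := (Submodule.mem_span_range_iff_exists_fun _).mp hmem
  choose f hf using fun i => mkG_surjective (FiltBl.IdealFiltration.adic I) (c i)
  have h1 : mkGM F (monomM F n ⟨y, hy⟩ - ∑ i, f i • monomM F (d i) (x i)) = 0 := by
    rw [map_sub, map_sum, sub_eq_zero, ← coe_inDegM, ← hc]
    refine Finset.sum_congr rfl fun i _ => ?_
    rw [← hf i, coe_inDegM, mkG_smul_mkGM]
  rw [mkGM_eq_zero_iff, mem_succMod_iff] at h1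
  have h2 := h1 n
  refine ⟨fun i => if d i ≤ n then ((f i : Polynomial A)).coeff (n - d i) else 0, fun i => ?_, ?_⟩
  · dsimp only
    split_ifs
    · exact (f i).2 (n - d i)
    · exact Ideal.zero_mem _
  · convert h2 using 1
    rw [← ReesM.coeffHom_apply, map_sub, map_sum, ReesM.coeffHom_apply, ReesM.coeff_monomM, if_pos rfl]
    congr 1
    refine Finset.sum_congr rfl fun i _ => ?_
    rw [ReesM.coeffHom_apply, ReesM.coeff_smul]
    simp only [ReesM.coeff_monomM]
    rw [antidiag_sum]
    split_ifs <;> simp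

open AssocGr in
theorem approxM (A : Type u) [CommRing A] (I : Ideal A)
    [IsPrecomplete I A] (M : Type u) [AddCommGroup M] [Module A M] (F : I.Filtration M)
    (h0 : F.N 0 = ⊤) (hsep : ⨅ n, F.N n = ⊥) {k : ℕ} (d : Fin k → ℕ) (x : (i : Fin k) → ↥(F.N (d i)))
    (y : M)
    (hyp : ∀ (n : ℕ) (c : Fin k → A) (h : y - ∑ i, c i • (x i : M) ∈ F.N n),
      (inDegM F n ⟨y - ∑ i, c i • (x i : M), h⟩ : GrMod F) ∈
        Submodule.span (GrRing (FiltBl.IdealFiltration.adic I))
          (Set.range fun i => (inDegM F (d i) (x i) : GrMod F))) :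
    y ∈ Submodule.span A (Set.range fun i => ((x i : ↥(F.N (d i))) : M)) := by
  classical
  have hstep : ∀ (n : ℕ) (c : Fin k → A) (h : y - ∑ i, c i • (x i : M) ∈ F.N n),
      ∃ a : Fin k → A, (∀ i, a i ∈ I ^ (n - d i)) ∧
        (y - ∑ i, c i • (x i : M)) - ∑ i, a i • (x i : M) ∈ F.N (n + 1) :=
    fun n c h => stepM2 A I M F d x n _ h (hyp n c h)
  let G : (n : ℕ) → {c : Fin k → A // y - ∑ i, c i • (x i : M) ∈ F.N n} := fun n =>
    Nat.rec ⟨0, by rw [h0]; trivial⟩
      (fun n p => ⟨p.1 + (hstep n p.1 p.2).choose, by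
        have := (hstep n p.1 p.2).choose_spec.2
        simp only [Pi.add_apply, add_smul, Finset.sum_add_distrib]
        rw [← sub_sub]
        exact this⟩) n
  let c : ℕ → Fin k → A := fun n => (G n).1
  have hc : ∀ n, y - ∑ i, c n i • (x i : M) ∈ F.N n := fun n => (G n).2
  have hcd : ∀ n i, c (n + 1) i - c n i ∈ I ^ (n - d i) := by
    intro n i
    have : c (n + 1) = c n + (hstep n (G n).1 (G n).2).choose := rfl
    rw [this, Pi.add_apply, add_sub_cancel_left]
    exact (hstep n (G n).1 (G n).2).choose_spec.1 i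
  let D : ℕ := Finset.univ.sup d
  have hD : ∀ i, d i ≤ D := fun i => Finset.le_sup (f := d) (Finset.mem_univ i)
  have hcauchy : ∀ i, ∀ {m n}, m ≤ n →
      c (m + D) i ≡ c (n + D) i [SMOD (I ^ m • ⊤ : Submodule A A)] := by
    intro i m n hmn
    rw [smodEq_iff']
    induction n, hmn using Nat.le_induction with
    | base => simp
    | succ n hmn ih =>
      have : c (m + D) i - c (n + 1 + D) i =
          (c (m + D) i - c (n + D) i) - (c (n + D + 1) i - c (n + D) i) := by
        rw [show n + 1 + D = n + D + 1 by ring]; ring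
      rw [this]
      refine Ideal.sub_mem _ ih (Ideal.pow_le_pow_right ?_ (hcd (n + D) i))
      have := hD i
      omega
  choose L hL using fun i => IsPrecomplete.prec ‹IsPrecomplete I A› (hcauchy i)
  have hy : y = ∑ i, L i • (x i : M) := by
    rw [← sub_eq_zero]
    have : y - ∑ i, L i • (x i : M) ∈ ⨅ n, F.N n := by
      rw [Submodule.mem_iInf]
      intro m
      have h1 : y - ∑ i, L i • (x i : M) =
          (y - ∑ i, c (m + D) i • (x i : M)) - ∑ i, (L i - c (m + D) i) • (x i : M) := by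
        simp only [sub_smul, Finset.sum_sub_distrib]
        abel
      rw [h1]
      refine Submodule.sub_mem _ (F.antitone (Nat.le_add_right m D) (hc (m + D)))
        (Submodule.sum_mem _ fun i _ => ?_)
      have h2 := hL i m
      rw [smodEq_iff'] at h2
      have h3 : L i - c (m + D) i ∈ I ^ m := by
        have : L i - c (m + D) i = -(c (m + D) i - L i) := by ring
        rw [this]; exact neg_mem h2
      have h4 : (x i : M) ∈ F.N 0 := by rw [h0]; trivial
      exact F.pow_smul_le m 0 (Submodule.smul_mem_smul h3 h4)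
    rw [hsep] at this
    exact this
  rw [hy]
  exact Submodule.sum_mem _ fun i _ => Submodule.smul_mem _ _ (Submodule.subset_span ⟨i, rfl⟩)

open AssocGr in
theorem noethM (A : Type u) [CommRing A]
    (I : Ideal A) [IsPrecomplete I A] (M : Type u) [AddCommGroup M] [Module A M] (F : I.Filtration M)
    (h0 : F.N 0 = ⊤) (hsep : ⨅ n, F.N n = ⊥)
    [IsNoetherian (AssocGr.GrRing (FiltBl.IdealFiltration.adic I)) (AssocGr.GrMod F)] :
    IsNoetherian A M ∧ ∀ M' : Submodule A M, ⨅ n, M' ⊔ F.N n = M' := by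
  classical
  have key : ∀ M' : Submodule A M, (⨅ n, M' ⊔ F.N n ≤ M') ∧ M'.FG := by
    intro M'
    let U : Set (GrMod F) := {z | ∃ n, ∃ m : F.N n, (m : M) ∈ M' ∧ z = (inDegM F n m : GrMod F)}
    have hfg : (Submodule.span (GrRing (FiltBl.IdealFiltration.adic I)) U).FG :=
      IsNoetherian.noetherian _
    obtain ⟨U₀, hU₀sub, hU₀⟩ := (Submodule.fg_span_iff_fg_span_finset_subset U).mp hfg
    choose nn mm hmm hz using fun z : U₀ => hU₀sub z.2
    let e : Fin U₀.card ≃ U₀ := U₀.equivFin.symm
    let d : Fin U₀.card → ℕ := fun i => nn (e i)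
    let x : (i : Fin U₀.card) → F.N (d i) := fun i => mm (e i)
    have hxM' : ∀ i, (x i : M) ∈ M' := fun i => hmm (e i)
    have hrange : (Set.range fun i => (inDegM F (d i) (x i) : GrMod F)) = (U₀ : Set (GrMod F)) := by
      ext z
      constructor
      · rintro ⟨i, rfl⟩
        change (inDegM F (nn (e i)) (mm (e i)) : GrMod F) ∈ _
        rw [← hz (e i)]
        exact (e i).2
      · intro hzU
        refine ⟨e.symm ⟨z, hzU⟩, ?_⟩
        change (inDegM F (nn (e (e.symm ⟨z, hzU⟩))) (mm (e (e.symm ⟨z, hzU⟩))) : GrMod F) = _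
        rw [Equiv.apply_symm_apply]
        exact (hz ⟨z, hzU⟩).symm
    have hspanle : Submodule.span A (Set.range fun i => ((x i : ↥(F.N (d i))) : M)) ≤ M' := by
      rw [Submodule.span_le]
      rintro _ ⟨i, rfl⟩
      exact hxM' i
    have hcl : ∀ y ∈ ⨅ n, M' ⊔ F.N n,
        y ∈ Submodule.span A (Set.range fun i => ((x i : ↥(F.N (d i))) : M)) := by
      intro y hy
      apply approxM A I M F h0 hsep d x y
      intro n c h
      rw [hrange, ← hU₀]
      -- r = y - Σ c x ∈ closure
      set r := y - ∑ i, c i • (x i : M) with hr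
      have hrcl : r ∈ M' ⊔ F.N (n + 1) := by
        have h1 : y ∈ M' ⊔ F.N (n + 1) := (Submodule.mem_iInf _).mp hy (n + 1)
        have h2 : ∑ i, c i • (x i : M) ∈ M' ⊔ F.N (n + 1) :=
          Submodule.mem_sup_left (Submodule.sum_mem _ fun i _ => Submodule.smul_mem _ _ (hxM' i))
        exact Submodule.sub_mem _ h1 h2
      obtain ⟨m', hm', ν, hν, hsum⟩ := Submodule.mem_sup.mp hrcl
      have hm'n : m' ∈ F.N n := by
        have : m' = r - ν := by rw [← hsum]; abel
        rw [this]
        exact Submodule.sub_mem _ h (F.antitone (Nat.le_succ n) hν)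
      have heq : (inDegM F n ⟨r, h⟩ : GrMod F) = (inDegM F n ⟨m', hm'n⟩ : GrMod F) := by
        rw [← sub_eq_zero, ← AddSubgroup.coe_sub, ← map_sub, ZeroMemClass.coe_eq_zero,
          inDegM_eq_zero_iff]
        change r - m' ∈ _
        have : r - m' = ν := by rw [← hsum]; abel
        rw [this]
        exact hν
      rw [heq]
      exact Submodule.subset_span ⟨n, ⟨m', hm'n⟩, hm', rfl⟩
    refine ⟨fun y hy => hspanle (hcl y hy), ?_⟩
    have : M' = Submodule.span A (Set.range fun i => ((x i : ↥(F.N (d i))) : M)) :=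
      le_antisymm (fun y hy => hcl y ((Submodule.mem_iInf _).mpr fun n => Submodule.mem_sup_left hy))
        hspanle
    rw [this]
    exact Submodule.fg_span (Set.finite_range _)
  refine ⟨isNoetherian_def.mpr fun M' => (key M').2, fun M' => ?_⟩
  exact le_antisymm (key M').1 (le_iInf fun n => le_sup_left)

end Groth.Agent.Helper8.AdicGrM
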