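import Mathlib
import Groth.Agent.Helper8.Idx13
import Groth.Agent.Helper8.Cot6
import Groth.Agent.Helper2.H1Inj
set_option autoImplicit false
universe u

namespace Groth.Agent.Helper8.AdicReg
open IsLocalRing TensorProduct Cardinal

section h1cot

variable (A : Type u) [CommRing A] [IsLocalRing A]

/-- the canonical extension `A → K` -/
noncomputable abbrev resExt : Algebra.Extension.{u} A (ResidueField A) where
  Ring := A
  σ := Function.surjInv (IsLocalRing.residue_surjective)
  algebraMap_σ := Function.surjInv_eq (IsLocalRing.residue_surjective)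

theorem resExt_ker : (resExt A).ker = maximalIdeal A := by
  ext x
  change algebraMap A (ResidueField A) x = 0 ↔ x ∈ maximalIdeal A
  exact IsLocalRing.residue_eq_zero_iff x

/-- `H¹(L_{K/A}) ≅ m/m²`, `A`-linearly -/
noncomputable def h1Equiv : Algebra.H1Cotangent A (ResidueField A) ≃ₗ[A] CotangentSpace A :=
  ((resExt A).h1CotangentEquivCotangent.restrictScalars A) ≪≫ₗ
    (resExt A).cotangentEquivCotangentKer ≪≫ₗ
    Groth.Agent.Helper8.Cot.cotEquiv (resExt_ker A)

variable [IsNoetherianRing A]

theorem rank_h1 : Module.rank (ResidueField A) (Algebra.H1Cotangent A (ResidueField A)) =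
    (Module.finrank (ResidueField A) (CotangentSpace A) : Cardinal) := by
  have h1 : Module.length (ResidueField A) (Algebra.H1Cotangent A (ResidueField A)) =
      Module.length (ResidueField A) (CotangentSpace A) := by
    rw [← Module.length_eq_of_surjective (S := A) (R := ResidueField A)
      (M := Algebra.H1Cotangent A (ResidueField A)) IsLocalRing.residue_surjective,
      ← Module.length_eq_of_surjective (S := A) (R := ResidueField A)
      (M := CotangentSpace A) IsLocalRing.residue_surjective]
    exact (h1Equiv A).length_eq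
  rw [Module.length_eq_rank, Module.length_eq_finrank] at h1
  exact Cardinal.toENat_eq_natCast.mp h1

end h1cot

section count

variable {k₀ A : Type u} [Field k₀] [CommRing A] [IsLocalRing A] [IsNoetherianRing A]
  [Algebra k₀ A]

theorem finrank_fibre (h : CAlgX.IsAdicFormallySmooth k₀ A (maximalIdeal A))
    [Algebra.EssFiniteType k₀ (ResidueField A)] :
    Module.Finite (ResidueField A) (ResidueField A ⊗[A] Ω[A⁄k₀]) ∧
      (Module.finrank (ResidueField A) (ResidueField A ⊗[A] Ω[A⁄k₀]) : ℤ) =
        Module.finrank (ResidueField A) (CotangentSpace A) +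
          Cardinal.toNat (Algebra.trdeg k₀ (ResidueField A)) := by
  obtain ⟨hfinΩ, hfinH, hcart⟩ :=
    Groth.Agent.Helper8.Idx.cartier_h1 (K := k₀) (L := ResidueField A)
  have hinj := Groth.Agent.Helper2.H1Inj.h1_injective k₀ A h
  have ex12 : Function.Exact (Algebra.H1Cotangent.map k₀ A (ResidueField A) (ResidueField A))
      (Algebra.H1Cotangent.δ k₀ A (ResidueField A)) :=
    Algebra.H1Cotangent.exact_map_δ k₀ A (ResidueField A)
  have ex23 : Function.Exact (Algebra.H1Cotangent.δ k₀ A (ResidueField A))
      (KaehlerDifferential.mapBaseChange k₀ A (ResidueField A)) :=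
    Algebra.H1Cotangent.exact_δ_mapBaseChange k₀ A (ResidueField A)
  have hs3 : Function.Surjective (KaehlerDifferential.mapBaseChange k₀ A (ResidueField A)) :=
    KaehlerDifferential.mapBaseChange_surjective k₀ A (ResidueField A)
      IsLocalRing.residue_surjective
  have hV2 := rank_h1 A
  haveI hfinV2 : Module.Finite (ResidueField A) (Algebra.H1Cotangent A (ResidueField A)) := by
    rw [← Module.rank_lt_aleph0_iff, hV2]
    exact Cardinal.natCast_lt_aleph0
  have hV2' : Module.finrank (ResidueField A) (Algebra.H1Cotangent A (ResidueField A)) =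
      Module.finrank (ResidueField A) (CotangentSpace A) := by
    have := congrArg Cardinal.toNat hV2
    rw [Cardinal.toNat_natCast] at this
    exact this
  -- rank of V3
  have hr3 := LinearMap.rank_range_add_rank_ker
    (KaehlerDifferential.mapBaseChange k₀ A (ResidueField A))
  rw [LinearMap.range_eq_top.mpr hs3, rank_top] at hr3
  have hker3 : LinearMap.ker (KaehlerDifferential.mapBaseChange k₀ A (ResidueField A)) =
      LinearMap.range (Algebra.H1Cotangent.δ k₀ A (ResidueField A)) := (LinearMap.exact_iff.mp ex23)
  have hfin3 : Module.Finite (ResidueField A) (ResidueField A ⊗[A] Ω[A⁄k₀]) := by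
    rw [← Module.rank_lt_aleph0_iff, ← hr3]
    refine Cardinal.add_lt_aleph0 (Module.rank_lt_aleph0 (ResidueField A) _) ?_
    rw [hker3]
    exact lt_of_le_of_lt (rank_range_le _) (Module.rank_lt_aleph0 (ResidueField A) _)
  refine ⟨hfin3, ?_⟩
  have e3 := LinearMap.finrank_range_add_finrank_ker
    (KaehlerDifferential.mapBaseChange k₀ A (ResidueField A))
  rw [LinearMap.range_eq_top.mpr hs3, finrank_top, hker3] at e3
  have e2 := LinearMap.finrank_range_add_finrank_ker (Algebra.H1Cotangent.δ k₀ A (ResidueField A))
  have hker2 : LinearMap.ker (Algebra.H1Cotangent.δ k₀ A (ResidueField A)) =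
      LinearMap.range (Algebra.H1Cotangent.map k₀ A (ResidueField A) (ResidueField A)) :=
    (LinearMap.exact_iff.mp ex12)
  rw [hker2, LinearMap.finrank_range_of_inj hinj, hV2'] at e2
  omega

end count

end Groth.Agent.Helper8.AdicReg
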