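import Mathlib
import Groth.Prelude.Def_CAlgX
set_option autoImplicit false
universe u

namespace Groth.Agent.Helper8.AdicReg
open TensorProduct

section dpow

variable {R S : Type u} [CommRing R] [CommRing S] [Algebra R S] (𝔫 : Ideal S)

/-- `d(𝔫^(t+1)) ⊆ 𝔫^t Ω` -/
theorem D_mem_pow_smul (t : ℕ) : ∀ x ∈ 𝔫 ^ (t + 1),
    KaehlerDifferential.D R S x ∈ (𝔫 ^ t • ⊤ : Submodule S Ω[S⁄R]) := by
  induction t with
  | zero =>
    intro x _
    rw [pow_zero, Ideal.one_eq_top, Submodule.top_smul]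
    trivial
  | succ t ih =>
    intro x hx
    rw [pow_succ] at hx
    refine Submodule.mul_induction_on hx ?_ ?_
    · intro a ha b hb
      rw [Derivation.leibniz]
      refine Submodule.add_mem _ ?_ ?_
      · exact Submodule.smul_mem_smul ha Submodule.mem_top
      · have h1 := ih a ha
        have : b • KaehlerDifferential.D R S a ∈ (𝔫 • (𝔫 ^ t • ⊤) : Submodule S Ω[S⁄R]) :=
          Submodule.smul_mem_smul hb h1
        rw [← Submodule.mul_smul, ← pow_succ'] at this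
        exact this
    · intro a b ha hb
      rw [map_add]
      exact Submodule.add_mem _ ha hb

end dpow

section proj

variable {R S : Type u} [CommRing R] [CommRing S] [Algebra R S] (𝔫 : Ideal S)

set_option maxHeartbeats 800000 in
theorem projective_quot_aux (h : CAlgX.IsAdicFormallySmooth R S 𝔫) (I : Ideal S) (t : ℕ)
    (hI1 : 𝔫 ^ t ≤ I)
    (hI2 : ∀ x ∈ 𝔫 ^ t, KaehlerDifferential.D R S x ∈ (I • ⊤ : Submodule S Ω[S⁄R])) :
    Module.Projective (S ⧸ I) (Ω[S⁄R] ⧸ (I • ⊤ : Submodule S Ω[S⁄R])) := by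
  apply Module.Projective.of_lifting_property''
  intro f hf
  -- the derivation into P
  let dbar : S → (Ω[S⁄R] ⧸ (I • ⊤ : Submodule S Ω[S⁄R])) := fun x =>
    Submodule.Quotient.mk (KaehlerDifferential.D R S x)
  let σ := Function.surjInv hf
  have hσ : ∀ p, f (σ p) = p := Function.surjInv_eq hf
  -- the ideal J
  let J : Ideal (TrivSqZeroExt (S ⧸ I) ((Ω[S⁄R] ⧸ (I • ⊤ : Submodule S Ω[S⁄R])) →₀ (S ⧸ I))) :=
    { carrier := {x | x.fst = 0 ∧ f x.snd = 0}
      add_mem' := by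
        rintro a b ⟨ha1, ha2⟩ ⟨hb1, hb2⟩
        exact ⟨by rw [TrivSqZeroExt.fst_add, ha1, hb1, add_zero],
          by rw [TrivSqZeroExt.snd_add, map_add, ha2, hb2, add_zero]⟩
      zero_mem' := ⟨rfl, by rw [TrivSqZeroExt.snd_zero, map_zero]⟩
      smul_mem' := by
        rintro c x ⟨hx1, hx2⟩
        refine ⟨?_, ?_⟩
        · rw [smul_eq_mul, TrivSqZeroExt.fst_mul, hx1, mul_zero]
        · rw [smul_eq_mul, TrivSqZeroExt.snd_mul, hx1, MulOpposite.op_zero, zero_smul, add_zero,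
            map_smul, hx2, smul_zero] }
  have hJmem : ∀ x, x ∈ J ↔ x.fst = 0 ∧ f x.snd = 0 := fun x => Iff.rfl
  have hJsq : J ^ 2 = ⊥ := by
    rw [pow_two, eq_bot_iff, Ideal.mul_le]
    rintro x ⟨hx1, hx2⟩ y ⟨hy1, hy2⟩
    rw [Ideal.mem_bot]
    apply TrivSqZeroExt.ext
    · rw [TrivSqZeroExt.fst_mul, hx1, zero_mul, TrivSqZeroExt.fst_zero]
    · rw [TrivSqZeroExt.snd_mul, hx1, hy1, MulOpposite.op_zero, zero_smul, zero_smul, add_zero,
        TrivSqZeroExt.snd_zero]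
  -- notation
  have hprod : ∀ (a b : S ⧸ I) (u v : (Ω[S⁄R] ⧸ (I • ⊤ : Submodule S Ω[S⁄R])) →₀ (S ⧸ I)),
      (TrivSqZeroExt.inl a + TrivSqZeroExt.inr u) * (TrivSqZeroExt.inl b + TrivSqZeroExt.inr v) =
        TrivSqZeroExt.inl (a * b) + TrivSqZeroExt.inr (a • v + b • u) := by
    intro a b u v
    apply TrivSqZeroExt.ext
    · simp
    · simp
  have key : ∀ (b b' : S ⧸ I) (v v' : (Ω[S⁄R] ⧸ (I • ⊤ : Submodule S Ω[S⁄R])) →₀ (S ⧸ I)),
      b = b' → f v = f v' →
      Ideal.Quotient.mk J (TrivSqZeroExt.inl b + TrivSqZeroExt.inr v) =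
        Ideal.Quotient.mk J (TrivSqZeroExt.inl b' + TrivSqZeroExt.inr v') := by
    intro b b' v v' hb hv
    rw [Ideal.Quotient.eq, hJmem]
    constructor
    · simp [hb]
    · simp [hv]
  have hsmul : ∀ (x : S) (p : Ω[S⁄R] ⧸ (I • ⊤ : Submodule S Ω[S⁄R])),
      (Ideal.Quotient.mk I x) • p = x • p := fun x p => algebraMap_smul (S ⧸ I) x p
  have hdbar_mul : ∀ x y, dbar (x * y) = x • dbar y + y • dbar x := by
    intro x y
    change Submodule.Quotient.mk _ = _
    rw [Derivation.leibniz]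
    rfl
  let ψ : S →ₐ[R] (TrivSqZeroExt (S ⧸ I) ((Ω[S⁄R] ⧸ (I • ⊤ : Submodule S Ω[S⁄R])) →₀ (S ⧸ I))) ⧸ J :=
    { toFun := fun x => Ideal.Quotient.mk J
        (TrivSqZeroExt.inl (Ideal.Quotient.mk I x) + TrivSqZeroExt.inr (σ (dbar x)))
      map_one' := by
        have h1 : (1 : TrivSqZeroExt (S ⧸ I) ((Ω[S⁄R] ⧸ (I • ⊤ : Submodule S Ω[S⁄R])) →₀ (S ⧸ I))) =
            TrivSqZeroExt.inl 1 + TrivSqZeroExt.inr 0 := by simp
        rw [← map_one (Ideal.Quotient.mk J), h1]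
        apply key _ _ _ _ (map_one _)
        rw [hσ, map_zero]
        change Submodule.Quotient.mk _ = _
        rw [Derivation.map_one_eq_zero]
        rfl
      map_mul' := by
        intro x y
        rw [← map_mul (Ideal.Quotient.mk J), hprod]
        apply key _ _ _ _ (map_mul _ _ _)
        rw [hσ, map_add, map_smul, map_smul, hσ, hσ, hdbar_mul, hsmul, hsmul]
      map_zero' := by
        have h1 : (0 : TrivSqZeroExt (S ⧸ I) ((Ω[S⁄R] ⧸ (I • ⊤ : Submodule S Ω[S⁄R])) →₀ (S ⧸ I))) =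
            TrivSqZeroExt.inl 0 + TrivSqZeroExt.inr 0 := by simp
        rw [← map_zero (Ideal.Quotient.mk J), h1]
        apply key _ _ _ _ (map_zero _)
        rw [hσ, map_zero]
        change Submodule.Quotient.mk _ = _
        rw [map_zero]
        rfl
      map_add' := by
        intro x y
        rw [← map_add (Ideal.Quotient.mk J)]
        have h1 : (TrivSqZeroExt.inl (Ideal.Quotient.mk I x) + TrivSqZeroExt.inr (σ (dbar x)) +
            (TrivSqZeroExt.inl (Ideal.Quotient.mk I y) + TrivSqZeroExt.inr (σ (dbar y))) :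
            TrivSqZeroExt (S ⧸ I) ((Ω[S⁄R] ⧸ (I • ⊤ : Submodule S Ω[S⁄R])) →₀ (S ⧸ I))) =
            TrivSqZeroExt.inl (Ideal.Quotient.mk I x + Ideal.Quotient.mk I y) +
              TrivSqZeroExt.inr (σ (dbar x) + σ (dbar y)) := by
          rw [TrivSqZeroExt.inl_add, TrivSqZeroExt.inr_add]; abel
        rw [h1]
        apply key _ _ _ _ (map_add _ _ _)
        rw [hσ, map_add, hσ, hσ]
        change Submodule.Quotient.mk _ = _
        rw [map_add]
        rfl
      commutes' := by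
        intro r
        change Ideal.Quotient.mk J _ = Ideal.Quotient.mk J (algebraMap R (TrivSqZeroExt (S ⧸ I)
            ((Ω[S⁄R] ⧸ (I • ⊤ : Submodule S Ω[S⁄R])) →₀ (S ⧸ I))) r)
        have h1 : algebraMap R (TrivSqZeroExt (S ⧸ I)
            ((Ω[S⁄R] ⧸ (I • ⊤ : Submodule S Ω[S⁄R])) →₀ (S ⧸ I))) r =
            TrivSqZeroExt.inl (algebraMap R (S ⧸ I) r) + TrivSqZeroExt.inr 0 := by
          rw [TrivSqZeroExt.inr_zero, add_zero, TrivSqZeroExt.algebraMap_eq_inl']
        rw [h1]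
        apply key _ _ _ _ rfl
        rw [hσ, map_zero]
        change Submodule.Quotient.mk _ = _
        rw [Derivation.map_algebraMap]
        rfl }
  have hψ : ∀ x, ψ x = Ideal.Quotient.mk J
      (TrivSqZeroExt.inl (Ideal.Quotient.mk I x) + TrivSqZeroExt.inr (σ (dbar x))) := fun x => rfl
  have hkill : ∃ k : ℕ, ∀ x ∈ 𝔫 ^ k, ψ x = 0 := by
    refine ⟨t, fun x hx => ?_⟩
    rw [hψ, Ideal.Quotient.eq_zero_iff_mem, hJmem]
    constructor
    · simp only [TrivSqZeroExt.fst_add, TrivSqZeroExt.fst_inl, TrivSqZeroExt.fst_inr, add_zero]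
      exact Ideal.Quotient.eq_zero_iff_mem.mpr (hI1 hx)
    · simp only [TrivSqZeroExt.snd_add, TrivSqZeroExt.snd_inl, TrivSqZeroExt.snd_inr, zero_add]
      rw [hσ]
      exact (Submodule.Quotient.mk_eq_zero _).mpr (hI2 x hx)
  obtain ⟨χ, hχ⟩ := h _ J hJsq ψ hkill
  have hχ1 : ∀ x, (χ x).fst = Ideal.Quotient.mk I x ∧ f (χ x).snd = dbar x := by
    intro x
    have h1 : Ideal.Quotient.mk J (χ x) = ψ x := congr($hχ x)
    rw [hψ, Ideal.Quotient.eq, hJmem] at h1
    obtain ⟨h2, h3⟩ := h1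
    constructor
    · simpa [sub_eq_zero] using h2
    · simp only [TrivSqZeroExt.snd_sub, TrivSqZeroExt.snd_add, TrivSqZeroExt.snd_inl,
        TrivSqZeroExt.snd_inr, zero_add, map_sub, hσ, sub_eq_zero] at h3
      exact h3
  -- the derivation
  let v₁ : S →ₗ[R] ((Ω[S⁄R] ⧸ (I • ⊤ : Submodule S Ω[S⁄R])) →₀ (S ⧸ I)) :=
    { toFun := fun x => (χ x).snd
      map_add' := fun x y => by rw [map_add, TrivSqZeroExt.snd_add]
      map_smul' := fun r x => by rw [map_smul, TrivSqZeroExt.snd_smul, RingHom.id_apply] }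
  let D' : Derivation R S ((Ω[S⁄R] ⧸ (I • ⊤ : Submodule S Ω[S⁄R])) →₀ (S ⧸ I)) :=
    Derivation.mk' v₁ (by
      intro a b
      change (χ (a * b)).snd = a • (χ b).snd + b • (χ a).snd
      rw [map_mul, TrivSqZeroExt.snd_mul, (hχ1 a).1, (hχ1 b).1, op_smul_eq_smul]
      rfl)
  have hD' : ∀ x, D' x = (χ x).snd := fun x => rfl
  let hΩ := D'.liftKaehlerDifferential
  have hle : (I • ⊤ : Submodule S Ω[S⁄R]) ≤ LinearMap.ker hΩ := by
    rw [Submodule.smul_le]
    intro a ha ω _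
    rw [LinearMap.mem_ker, map_smul]
    have : a • hΩ ω = (Ideal.Quotient.mk I a) • hΩ ω := (algebraMap_smul (S ⧸ I) a (hΩ ω)).symm
    rw [this, Ideal.Quotient.eq_zero_iff_mem.mpr ha, zero_smul]
  let hP := (I • ⊤ : Submodule S Ω[S⁄R]).liftQ hΩ hle
  let hB := LinearMap.extendScalarsOfSurjective (Ideal.Quotient.mk_surjective (I := I)) hP
  have hBP : ∀ p, hB p = hP p := fun p =>
    LinearMap.extendScalarsOfSurjective_apply (Ideal.Quotient.mk_surjective (I := I)) hP p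
  have hPmk : ∀ ω, hP (Submodule.Quotient.mk ω) = hΩ ω := fun ω =>
    Submodule.liftQ_apply _ _ _
  refine ⟨hB, LinearMap.ext fun p => ?_⟩
  obtain ⟨ω, rfl⟩ := Submodule.Quotient.mk_surjective _ p
  rw [LinearMap.comp_apply, LinearMap.id_apply, hBP, hPmk]
  have hω : ω ∈ Submodule.span S (Set.range (KaehlerDifferential.D R S)) := by
    rw [KaehlerDifferential.span_range_derivation]; trivial
  induction hω using Submodule.span_induction with
  | mem ω hω =>
    obtain ⟨x, rfl⟩ := hω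
    change f (D'.liftKaehlerDifferential _) = _
    rw [Derivation.liftKaehlerDifferential_comp_D, hD', (hχ1 x).2]
  | zero => rw [map_zero, map_zero]; rfl
  | add x y _ _ hx hy =>
    rw [map_add, map_add, hx, hy]; rfl
  | smul a x _ hx =>
    rw [map_smul, ← algebraMap_smul (S ⧸ I) a (hΩ x), map_smul, hx, algebraMap_smul]
    rfl

theorem projective_quot (h : CAlgX.IsAdicFormallySmooth R S 𝔫) (t : ℕ) :
    Module.Projective (S ⧸ 𝔫 ^ t) (Ω[S⁄R] ⧸ (𝔫 ^ t • ⊤ : Submodule S Ω[S⁄R])) :=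
  projective_quot_aux 𝔫 h (𝔫 ^ t) (t + 1) (Ideal.pow_le_pow_right (Nat.le_succ t))
    (D_mem_pow_smul 𝔫 t)

end proj

end Groth.Agent.Helper8.AdicReg
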