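import Mathlib
import Groth.Agent.S0544
import Groth.Agent.Helper8.Cot6
set_option autoImplicit false
universe u

namespace Groth.Agent.Helper8.AdicReg
open TensorProduct IsLocalRing

section fibre

variable {A : Type u} [CommRing A] [IsLocalRing A] (K : Type u) [Field K] [Algebra A K]
  (hK : Function.Surjective (algebraMap A K))
  (M : Type u) [AddCommGroup M] [Module A M]

include hK in
theorem mem_of_one_tmul_eq_zero (ω : M) (h : (1 : K) ⊗ₜ[A] ω = 0) :
    ω ∈ (maximalIdeal A • ⊤ : Submodule A M) := by
  have hker := Groth.Agent.Helper8.Cot.ker_eq_maximalIdeal A K hK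
  have hex : Function.Exact (maximalIdeal A).subtype (Algebra.linearMap A K) := by
    intro a
    rw [Algebra.linearMap_apply, ← RingHom.mem_ker, hker]
    simp
  have hex2 := rTensor_exact M hex hK
  have h1 : (Algebra.linearMap A K).rTensor M ((1 : A) ⊗ₜ[A] ω) = 0 := by
    rw [LinearMap.rTensor_tmul, Algebra.linearMap_apply, map_one, h]
  obtain ⟨z, hz⟩ := (hex2 _).mp h1
  have h2 : ∀ z : (maximalIdeal A) ⊗[A] M,
      TensorProduct.lid A M ((maximalIdeal A).subtype.rTensor M z) ∈
        (maximalIdeal A • ⊤ : Submodule A M) := by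
    intro z
    induction z using TensorProduct.induction_on with
    | zero => simp
    | tmul a μ =>
      rw [LinearMap.rTensor_tmul, TensorProduct.lid_tmul]
      exact Submodule.smul_mem_smul a.2 Submodule.mem_top
    | add x y hx hy => rw [map_add, map_add]; exact Submodule.add_mem _ hx hy
  have := h2 z
  rw [hz, TensorProduct.lid_tmul, one_smul] at this
  exact this

include hK in
/-- the map to the fibre -/
noncomputable def qmap : AdicCompletion (maximalIdeal A) M →ₗ[A] K ⊗[A] M :=
  ((maximalIdeal A ^ 1 • ⊤ : Submodule A M).liftQ (TensorProduct.mk A K M 1) (by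
    rw [Submodule.smul_le]
    intro a ha ω _
    rw [pow_one] at ha
    rw [LinearMap.mem_ker, map_smul, TensorProduct.mk_apply, TensorProduct.smul_tmul',
      Algebra.smul_def, mul_one]
    have : algebraMap A K a = 0 := by
      have hker := Groth.Agent.Helper8.Cot.ker_eq_maximalIdeal A K hK
      rw [← RingHom.mem_ker, hker]; exact ha
    rw [this, TensorProduct.zero_tmul])) ∘ₗ AdicCompletion.eval (maximalIdeal A) M 1

theorem qmap_of (ω : M) :
    qmap K hK M (AdicCompletion.of (maximalIdeal A) M ω) = (1 : K) ⊗ₜ[A] ω := by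
  unfold qmap
  rw [LinearMap.comp_apply, AdicCompletion.eval_of]
  rfl

theorem qmap_surjective : Function.Surjective (qmap K hK M) := by
  intro v
  induction v using TensorProduct.induction_on with
  | zero => exact ⟨0, map_zero _⟩
  | tmul c ω =>
    obtain ⟨a, rfl⟩ := hK c
    refine ⟨a • AdicCompletion.of (maximalIdeal A) M ω, ?_⟩
    rw [map_smul, qmap_of, TensorProduct.smul_tmul', Algebra.smul_def, mul_one]
  | add x y hx hy =>
    obtain ⟨x', rfl⟩ := hx
    obtain ⟨y', rfl⟩ := hy
    exact ⟨x' + y', map_add _ _ _⟩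

theorem qmap_eq_zero_iff (x : AdicCompletion (maximalIdeal A) M) :
    qmap K hK M x = 0 ↔ AdicCompletion.eval (maximalIdeal A) M 1 x = 0 := by
  constructor
  · intro h
    obtain ⟨ω, hω⟩ := Submodule.Quotient.mk_surjective _ (AdicCompletion.eval (maximalIdeal A) M 1 x)
    unfold qmap at h
    rw [LinearMap.comp_apply, ← hω, Submodule.liftQ_apply, TensorProduct.mk_apply] at h
    have := mem_of_one_tmul_eq_zero K hK M ω h
    rw [← hω, Submodule.Quotient.mk_eq_zero, pow_one]
    exact this
  · intro h
    unfold qmap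
    rw [LinearMap.comp_apply, h, map_zero]

theorem qmap_eq_zero_of_eval {t : ℕ} (ht : 1 ≤ t) (x : AdicCompletion (maximalIdeal A) M)
    (hx : AdicCompletion.eval (maximalIdeal A) M t x = 0) : qmap K hK M x = 0 := by
  rw [qmap_eq_zero_iff]
  have h1 := congrArg (fun φ => φ x) (AdicCompletion.transitionMap_comp_eval
    (I := maximalIdeal A) (M := M) ht)
  simp only [LinearMap.comp_apply] at h1
  rw [← h1, hx, map_zero]

theorem ker_qmap_le (hfg : (maximalIdeal A).FG) :
    LinearMap.ker (qmap K hK M) ≤
      (maximalIdeal A • ⊤ : Submodule A (AdicCompletion (maximalIdeal A) M)) := by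
  intro x hx
  rw [LinearMap.mem_ker, qmap_eq_zero_iff] at hx
  have h1 : x ∈ (maximalIdeal A ^ 1 • ⊤ : Submodule A (AdicCompletion (maximalIdeal A) M)) := by
    rw [AdicCompletion.pow_smul_top_eq_ker_eval hfg]
    exact hx
  rwa [pow_one] at h1

end fibre

section free

variable {A : Type u} [CommRing A] [IsLocalRing A] [IsNoetherianRing A]
  (K : Type u) [Field K] [Algebra A K] (hK : Function.Surjective (algebraMap A K))
  (M : Type u) [AddCommGroup M] [Module A M]

/-- a surjection from a finite free module onto a projective module whose kernel lies in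
`J • ⊤` for a nilpotent ideal `J` is injective -/
theorem injective_of_ker_le {B : Type u} [CommRing B] {n : ℕ} {P : Type u} [AddCommGroup P]
    [Module B P] [Module.Projective B P] (J : Ideal B) (t : ℕ) (hJ : J ^ t = ⊥)
    (Φ : (Fin n → B) →ₗ[B] P) (hΦ : Function.Surjective Φ)
    (hker : ∀ c, Φ c = 0 → ∀ i, c i ∈ J) : Function.Injective Φ := by
  obtain ⟨s, hs⟩ := Module.projective_lifting_property Φ LinearMap.id hΦ
  set Q := LinearMap.ker Φ with hQ
  let g : (Fin n → B) →ₗ[B] (Fin n → B) := LinearMap.id - s ∘ₗ Φ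
  have hgQ : ∀ c, g c ∈ Q := by
    intro c
    rw [hQ, LinearMap.mem_ker]
    have : Φ (s (Φ c)) = Φ c := congr($hs (Φ c))
    simp [g, this]
  have hg : ∀ c ∈ Q, g c = c := by
    intro c hc
    rw [hQ, LinearMap.mem_ker] at hc
    simp [g, hc]
  have hstep : Q ≤ J • Q := by
    intro c hc
    have hcJ : c ∈ (J • ⊤ : Submodule B (Fin n → B)) :=
      (Groth.Agent.S0544.mem_smul_top_pi_iff J c).mpr (hker c (by rwa [hQ, LinearMap.mem_ker] at hc))
    have h1 : g c ∈ (J • ⊤ : Submodule B (Fin n → B)).map g := ⟨c, hcJ, rfl⟩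
    rw [Submodule.map_smul'', Submodule.map_top] at h1
    rw [hg c hc] at h1
    refine Submodule.smul_mono le_rfl ?_ h1
    rintro _ ⟨c', rfl⟩
    exact hgQ c'
  have hpow : ∀ j : ℕ, Q ≤ J ^ j • Q := by
    intro j
    induction j with
    | zero => rw [pow_zero, Ideal.one_eq_top, Submodule.top_smul]
    | succ j ih =>
      refine hstep.trans ?_
      rw [pow_succ', Submodule.mul_smul]
      exact Submodule.smul_mono le_rfl ih
  have hQbot : Q = ⊥ := by
    rw [eq_bot_iff]
    refine (hpow t).trans ?_
    rw [hJ, Submodule.bot_smul]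
  exact LinearMap.ker_eq_bot.mp hQbot

variable [Module.Finite A (AdicCompletion (maximalIdeal A) M)] [Module.Finite K (K ⊗[A] M)]

include hK in
theorem exists_equiv_completion
    (hproj : ∀ t, Module.Projective (A ⧸ maximalIdeal A ^ t)
      (M ⧸ (maximalIdeal A ^ t • ⊤ : Submodule A M))) :
    Nonempty ((Fin (Module.finrank K (K ⊗[A] M)) → A) ≃ₗ[A]
      AdicCompletion (maximalIdeal A) M) := by
  classical
  set n := Module.finrank K (K ⊗[A] M) with hn
  have hfg : (maximalIdeal A).FG := IsNoetherian.noetherian _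
  let b : Module.Basis (Fin n) K (K ⊗[A] M) := Module.finBasis K (K ⊗[A] M)
  choose ω hω using fun i => qmap_surjective K hK M (b i)
  let Φ : (Fin n → A) →ₗ[A] AdicCompletion (maximalIdeal A) M := Fintype.linearCombination A ω
  have hΦ : ∀ a, Φ a = ∑ i, a i • ω i := fun a => Fintype.linearCombination_apply A ω a
  have hqΦ : ∀ a, qmap K hK M (Φ a) = ∑ i, algebraMap A K (a i) • b i := by
    intro a
    rw [hΦ, map_sum]
    refine Finset.sum_congr rfl fun i _ => ?_
    rw [map_smul, hω, algebraMap_smul]
  -- surjectivity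
  have hsurj : Function.Surjective Φ := by
    rw [← LinearMap.range_eq_top, eq_top_iff]
    refine Submodule.le_of_le_smul_of_le_jacobson_bot Module.Finite.fg_top
      (IsLocalRing.maximalIdeal_le_jacobson _) ?_
    intro x _
    obtain ⟨a, ha⟩ : ∃ a : Fin n → A, ∀ i, algebraMap A K (a i) = b.repr (qmap K hK M x) i := by
      choose a ha using fun i => hK (b.repr (qmap K hK M x) i)
      exact ⟨a, ha⟩
    have hx : x - Φ a ∈ LinearMap.ker (qmap K hK M) := by
      rw [LinearMap.mem_ker, map_sub, hqΦ, sub_eq_zero]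
      conv_lhs => rw [← b.sum_repr (qmap K hK M x)]
      exact Finset.sum_congr rfl fun i _ => by rw [ha]
    have hx' := ker_qmap_le K hK M hfg hx
    have : x = (x - Φ a) + Φ a := by abel
    rw [this]
    exact Submodule.add_mem _ (Submodule.mem_sup_right hx') (Submodule.mem_sup_left ⟨a, rfl⟩)
  -- injectivity
  have hinj : Function.Injective Φ := by
    rw [injective_iff_map_eq_zero]
    intro a ha
    have hat : ∀ t : ℕ, 1 ≤ t → ∀ i, a i ∈ maximalIdeal A ^ t := by
      intro t ht
      haveI := hproj t
      let ωt : Fin n → (M ⧸ (maximalIdeal A ^ t • ⊤ : Submodule A M)) := fun i =>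
        AdicCompletion.eval (maximalIdeal A) M t (ω i)
      let Φt : (Fin n → A ⧸ maximalIdeal A ^ t) →ₗ[A ⧸ maximalIdeal A ^ t]
          (M ⧸ (maximalIdeal A ^ t • ⊤ : Submodule A M)) :=
        Fintype.linearCombination (A ⧸ maximalIdeal A ^ t) ωt
      have hΦt : ∀ a' : Fin n → A, Φt (fun i => Ideal.Quotient.mk _ (a' i)) =
          AdicCompletion.eval (maximalIdeal A) M t (Φ a') := by
        intro a'
        rw [Fintype.linearCombination_apply, hΦ, map_sum]
        refine Finset.sum_congr rfl fun i _ => ?_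
        rw [map_smul]
        exact algebraMap_smul (A ⧸ maximalIdeal A ^ t) (a' i) (ωt i)
      have hlift : ∀ c : Fin n → A ⧸ maximalIdeal A ^ t, ∃ a' : Fin n → A,
          c = fun i => Ideal.Quotient.mk _ (a' i) := by
        intro c
        choose a' ha' using fun i => Ideal.Quotient.mk_surjective (c i)
        exact ⟨a', funext fun i => (ha' i).symm⟩
      have hΦts : Function.Surjective Φt := by
        intro p
        obtain ⟨x, rfl⟩ := AdicCompletion.eval_surjective (maximalIdeal A) M t p
        obtain ⟨a', rfl⟩ := hsurj x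
        exact ⟨_, hΦt a'⟩
      have hkert : ∀ c, Φt c = 0 → ∀ i, c i ∈ (maximalIdeal A).map
          (Ideal.Quotient.mk (maximalIdeal A ^ t)) := by
        intro c hc i
        obtain ⟨a', rfl⟩ := hlift c
        rw [hΦt] at hc
        have h1 := qmap_eq_zero_of_eval K hK M ht _ hc
        rw [hqΦ] at h1
        have h2 := Fintype.linearIndependent_iff.mp b.linearIndependent _ h1 i
        apply Ideal.mem_map_of_mem
        have hker := Groth.Agent.Helper8.Cot.ker_eq_maximalIdeal A K hK
        rw [← hker]
        exact h2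
      have hJ : ((maximalIdeal A).map (Ideal.Quotient.mk (maximalIdeal A ^ t))) ^ t = ⊥ := by
        rw [← Ideal.map_pow, Ideal.map_quotient_self]
      have hinjt := injective_of_ker_le _ t hJ Φt hΦts hkert
      have h0 : Φt (fun i => Ideal.Quotient.mk _ (a i)) = 0 := by
        rw [hΦt, ha, map_zero]
      have h1 := hinjt (h0.trans (map_zero Φt).symm)
      intro i
      have := congrFun h1 i
      exact Ideal.Quotient.eq_zero_iff_mem.mp this
    funext i
    have hmem : a i ∈ ⨅ t : ℕ, maximalIdeal A ^ t := by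
      rw [Ideal.mem_iInf]
      intro t
      rcases Nat.eq_zero_or_pos t with rfl | ht
      · rw [pow_zero, Ideal.one_eq_top]; trivial
      · exact hat t ht i
    rw [Ideal.iInf_pow_eq_bot_of_isLocalRing _ (IsLocalRing.maximalIdeal.isMaximal A).ne_top] at hmem
    exact hmem
  exact ⟨LinearEquiv.ofBijective Φ ⟨hinj, hsurj⟩⟩

end free

end Groth.Agent.Helper8.AdicReg
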