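import Mathlib
import Groth.Agent.Helper8.AdicReg2
import Groth.Agent.Helper8.AdicReg3
import Groth.Agent.Helper8.AdicReg4
import Groth.Agent.Helper8.AdicReg5
import Groth.Agent.Helper8.CKae
set_option autoImplicit false
universe u

namespace Groth.Agent.Helper8.AdicReg
open TensorProduct IsLocalRing

theorem s2476 {k₀ A : Type u} [Field k₀] [CommRing A] [IsLocalRing A] [IsNoetherianRing A]
    [Algebra k₀ A] [IsAdicComplete (maximalIdeal A) A]
    (hfs : CAlgX.IsAdicFormallySmooth k₀ A (maximalIdeal A))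
    [Algebra.EssFiniteType k₀ (ResidueField A)] :
    Module.Finite A (AdicCompletion (maximalIdeal A) (Ω[A⁄k₀])) ∧
      Module.Free A (AdicCompletion (maximalIdeal A) (Ω[A⁄k₀])) ∧
      (Module.finrank A (AdicCompletion (maximalIdeal A) (Ω[A⁄k₀])) : WithBot ℕ∞) =
        ringKrullDim A + (Cardinal.toNat (Algebra.trdeg k₀ (ResidueField A)) : WithBot ℕ∞) := by
  haveI hfin : Module.Finite A (AdicCompletion (maximalIdeal A) (Ω[A⁄k₀])) :=
    Groth.Agent.Helper8.CKae.residue
  haveI hreg : IsRegularLocalRing A := isRegularLocalRing hfs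
  obtain ⟨hfinV, hcount⟩ := finrank_fibre hfs
  haveI := hfinV
  have hK : Function.Surjective (algebraMap A (ResidueField A)) := IsLocalRing.residue_surjective
  obtain ⟨e⟩ := exists_equiv_completion (ResidueField A) hK (Ω[A⁄k₀])
    (fun t => projective_quot (maximalIdeal A) hfs t)
  refine ⟨hfin, Module.Free.of_equiv e, ?_⟩
  have h1 : Module.finrank A (AdicCompletion (maximalIdeal A) (Ω[A⁄k₀])) =
      Module.finrank (ResidueField A) (ResidueField A ⊗[A] Ω[A⁄k₀]) := by
    rw [← e.finrank_eq, Module.finrank_fin_fun]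
  have h2 : Module.finrank (ResidueField A) (CotangentSpace A) = (maximalIdeal A).spanFinrank :=
    (IsLocalRing.spanFinrank_maximalIdeal_eq_finrank_cotangentSpace A).symm
  have h3 : ((maximalIdeal A).spanFinrank : WithBot ℕ∞) = ringKrullDim A :=
    hreg.spanFinrank_maximalIdeal
  have h4 : Module.finrank A (AdicCompletion (maximalIdeal A) (Ω[A⁄k₀])) =
      (maximalIdeal A).spanFinrank + Cardinal.toNat (Algebra.trdeg k₀ (ResidueField A)) := by
    rw [h1, ← h2]
    exact_mod_cast hcount
  rw [h4, ← h3]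
  push_cast
  rfl

end Groth.Agent.Helper8.AdicReg
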