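import Groth.Prelude.Def_FSch3
import Groth.Agent.S3861
import Mathlib

set_option autoImplicit false
set_option backward.isDefEq.respectTransparency false
set_option backward.isDefEq.respectTransparency.types false
universe u

open CategoryTheory AlgebraicGeometry Limits

namespace Groth.Agent.Helper8.AdicSys

section Ring

variable {A : Type*} [CommRing A]

theorem le_sup_pow_of_le_sup_sq (I J : Ideal A) (h : I ≤ J ⊔ I ^ 2) (k : ℕ) (hk : 1 ≤ k) :
    I ≤ J ⊔ I ^ k := by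
  induction k, hk using Nat.le_induction with
  | base => rw [pow_one]; exact le_sup_right
  | succ k hk ih =>
    have h2 : I ^ 2 ≤ J ⊔ I ^ (k + 1) := by
      rw [pow_two]
      calc I * I ≤ (J ⊔ I ^ k) * I := Ideal.mul_mono_left ih
        _ = J * I ⊔ I ^ k * I := Ideal.sup_mul _ _ _
        _ ≤ J ⊔ I ^ (k + 1) := sup_le_sup Ideal.mul_le_left (by rw [pow_succ])
    exact h.trans (sup_le le_sup_left h2)

theorem eq_of_le_sup_sq_of_nilpotent (I J : Ideal A) (hJ : J ≤ I) (h : I ≤ J ⊔ I ^ 2) {k : ℕ}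
    (hk : I ^ k = ⊥) : I = J := by
  rcases Nat.eq_zero_or_pos k with rfl | hpos
  · have h0 : (⊤ : Ideal A) = ⊥ := by simpa using hk
    exact le_antisymm (le_top.trans (h0.le.trans bot_le)) hJ
  · have := le_sup_pow_of_le_sup_sq I J h k hpos
    rw [hk, sup_bot_eq] at this
    exact le_antisymm this hJ

theorem exists_fg_le_sup (I K : Ideal A) (h : (I.map (Ideal.Quotient.mk K)).FG) :
    ∃ J : Ideal A, J.FG ∧ J ≤ I ∧ I ≤ J ⊔ K := by
  classical
  obtain ⟨s, hs⟩ := h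
  have hmem : ∀ x ∈ s, ∃ a ∈ I, Ideal.Quotient.mk K a = x := by
    intro x hx
    have : x ∈ I.map (Ideal.Quotient.mk K) := hs ▸ Ideal.subset_span hx
    exact (Ideal.mem_map_iff_of_surjective _ Ideal.Quotient.mk_surjective).mp this
  choose! g hgI hg using hmem
  refine ⟨Ideal.span (g '' s), ⟨s.image g, by simp⟩, Ideal.span_le.mpr ?_, ?_⟩
  · rintro _ ⟨x, hx, rfl⟩
    exact hgI x hx
  · have e : (Ideal.span (g '' (s : Set (A ⧸ K)))).map (Ideal.Quotient.mk K) =
        I.map (Ideal.Quotient.mk K) := by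
      rw [Ideal.map_span, ← hs, ← Set.image_comp]
      congr 1
      ext y
      constructor
      · rintro ⟨x, hx, rfl⟩
        rw [Function.comp, hg x hx]
        exact hx
      · intro hy
        exact ⟨y, hy, hg y hy⟩
    intro a ha
    have h1 : Ideal.Quotient.mk K a ∈
        (Ideal.span (g '' (s : Set (A ⧸ K)))).map (Ideal.Quotient.mk K) :=
      e ▸ Ideal.mem_map_of_mem _ ha
    obtain ⟨b, hb, hba⟩ := (Ideal.mem_map_iff_of_surjective _ Ideal.Quotient.mk_surjective).mp h1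
    have h2 : a - b ∈ K := by
      rw [← Ideal.Quotient.eq]
      exact hba.symm
    have h3 : a = b + (a - b) := by ring
    rw [h3]
    exact Ideal.add_mem _ (Ideal.mem_sup_left hb) (Ideal.mem_sup_right h2)

theorem isNoetherianRing_of_fg_nil (I : Ideal A) (hfg : I.FG) {k : ℕ} (hk : I ^ k = ⊥)
    [IsNoetherianRing (A ⧸ I)] : IsNoetherianRing A := by
  refine IsNoetherianRing.of_prime fun P hP => ?_
  have hIP : I ≤ P := by
    intro x hx
    refine hP.mem_of_pow_mem k ?_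
    have : x ^ k ∈ I ^ k := Ideal.pow_mem_pow hx k
    rw [hk] at this
    rw [(Ideal.mem_bot).mp this]
    exact P.zero_mem
  refine Ideal.fg_of_fg_map_of_fg_inf_ker_of_surjective (f := Ideal.Quotient.mk I)
    (IsNoetherian.noetherian _) ?_ Ideal.Quotient.mk_surjective
  rw [Ideal.mk_ker, inf_eq_right.mpr hIP]
  exact hfg

theorem isNoetherianRing_step (I : Ideal A) (m : ℕ) (hm : 1 ≤ m) (hI : I ^ (m + 1) = ⊥)
    [IsNoetherianRing (A ⧸ I ^ m)] (h1 : m = 1 → I.FG) : IsNoetherianRing A := by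
  have hfg : I.FG := by
    rcases Nat.lt_or_ge 1 m with h2 | h2
    · obtain ⟨J, hJfg, hJI, hIJ⟩ := exists_fg_le_sup I (I ^ m) (IsNoetherian.noetherian _)
      have : I = J := eq_of_le_sup_sq_of_nilpotent I J hJI
        (hIJ.trans (sup_le_sup_left (Ideal.pow_le_pow_right h2) _)) hI
      exact this ▸ hJfg
    · exact h1 (le_antisymm h2 hm)
  haveI : IsNoetherianRing (A ⧸ I) :=
    isNoetherianRing_of_surjective (A ⧸ I ^ m) (A ⧸ I)
      (Ideal.Quotient.factor (Ideal.pow_le_self (by omega)))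
      (Ideal.Quotient.factor_surjective _)
  exact isNoetherianRing_of_fg_nil I hfg hI

end Ring

/-- The Noetherian induction step for adic systems of thickenings. -/
theorem isLocallyNoetherian_step {X₀ X X' X'' : Scheme.{u}} (t : X₀ ⟶ X') (ι : X ⟶ X')
    (ι' : X' ⟶ X'') [IsClosedImmersion t] [IsClosedImmersion ι] [IsClosedImmersion ι']
    [IsLocallyNoetherian X] (m : ℕ) (hm : 1 ≤ m) (hι : ι.ker = t.ker ^ m)
    (hι' : ι'.ker = (t ≫ ι').ker ^ (m + 1))
    {J : Type*} (W : J → X''.affineOpens) (hW : ⨆ j, ι' ⁻¹ᵁ (W j).1 = ⊤)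
    (h1 : m = 1 → ∀ j, (t.ker.ideal ⟨ι' ⁻¹ᵁ (W j).1, (W j).2.preimage ι'⟩).FG) :
    IsLocallyNoetherian X' := by
  refine isLocallyNoetherian_of_affine_cover
    (S := fun j => ⟨ι' ⁻¹ᵁ (W j).1, (W j).2.preimage ι'⟩) hW fun j => ?_
  obtain ⟨U', hU'⟩ : ∃ U' : X'.affineOpens, U' = ⟨ι' ⁻¹ᵁ (W j).1, (W j).2.preimage ι'⟩ := ⟨_, rfl⟩
  have hU'1 : U'.1 = ι' ⁻¹ᵁ (W j).1 := by rw [hU']
  have h1' : m = 1 → (t.ker.ideal U').FG := fun h => hU' ▸ h1 h j
  rw [← hU']
  -- the ideal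
  have hsurj : Function.Surjective (ι'.app (W j).1).hom := ι'.app_surjective _ (W j).2
  have hI'1 : (t.ker.ideal U') ^ (m + 1) = ⊥ := by
    have e1 : ι'.ker.ideal (W j) = RingHom.ker (ι'.app (W j).1).hom := Scheme.Hom.ker_apply ι' (W j)
    have e2 : (t ≫ ι').ker.ideal (W j) = RingHom.ker ((t ≫ ι').app (W j).1).hom :=
      Scheme.Hom.ker_apply _ _
    have e3 : t.ker.ideal ⟨ι' ⁻¹ᵁ (W j).1, (W j).2.preimage ι'⟩ =
        RingHom.ker (t.app (ι' ⁻¹ᵁ (W j).1)).hom := Scheme.Hom.ker_apply t _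
    have e4 : (t ≫ ι').app (W j).1 = ι'.app (W j).1 ≫ t.app (ι' ⁻¹ᵁ (W j).1) :=
      Scheme.Hom.comp_app _ _ _
    have e5 : RingHom.ker ((t ≫ ι').app (W j).1).hom =
        (RingHom.ker (t.app (ι' ⁻¹ᵁ (W j).1)).hom).comap (ι'.app (W j).1).hom := by
      rw [e4, CommRingCat.hom_comp, RingHom.comap_ker]
    have e6 : ι'.ker.ideal (W j) =
        ((RingHom.ker (t.app (ι' ⁻¹ᵁ (W j).1)).hom).comap (ι'.app (W j).1).hom) ^ (m + 1) := by
      rw [hι', Scheme.IdealSheafData.ideal_pow, Pi.pow_apply, e2, e5]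
    rw [hU', e3]
    have e7 : (RingHom.ker (t.app (ι' ⁻¹ᵁ (W j).1)).hom) ^ (m + 1) =
        (((RingHom.ker (t.app (ι' ⁻¹ᵁ (W j).1)).hom).comap (ι'.app (W j).1).hom) ^ (m + 1)).map
          (ι'.app (W j).1).hom := by
      rw [Ideal.map_pow, Ideal.map_comap_of_surjective _ hsurj]
    rw [e7, ← e6, e1, Ideal.map_eq_bot_iff_le_ker]
  -- quotient is noetherian
  have hsurj2 : Function.Surjective (ι.app U'.1).hom := ι.app_surjective _ U'.2
  have hk : (t.ker.ideal U') ^ m = RingHom.ker (ι.app U'.1).hom := by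
    rw [← Scheme.Hom.ker_apply ι U', hι, Scheme.IdealSheafData.ideal_pow, Pi.pow_apply]
  haveI : IsNoetherianRing Γ(X, ι ⁻¹ᵁ U'.1) :=
    IsLocallyNoetherian.component_noetherian ⟨ι ⁻¹ᵁ U'.1, U'.2.preimage ι⟩
  haveI : IsNoetherianRing (Γ(X', U'.1) ⧸ (t.ker.ideal U') ^ m) := by
    rw [hk]
    exact isNoetherianRing_of_ringEquiv _ (RingHom.quotientKerEquivOfSurjective hsurj2).symm
  exact isNoetherianRing_step (t.ker.ideal U') m hm hI'1 h1'

theorem toX_isClosedImmersion (𝔛 : FSch.Sys.{u}) (hF : 𝔛.IsFormal) (n : ℕ) :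
    IsClosedImmersion (𝔛.toX n) := by
  induction n with
  | zero =>
    change IsClosedImmersion (𝟙 _)
    infer_instance
  | succ n ih =>
    haveI := ih
    haveI := (hF n).1
    change IsClosedImmersion (𝔛.toX n ≫ 𝔛.ι n)
    infer_instance

theorem iSup_preimage_affineOpens {X Y : Scheme.{u}} (f : X ⟶ Y) :
    ⨆ W : Y.affineOpens, f ⁻¹ᵁ W.1 = ⊤ := by
  rw [← Scheme.Hom.preimage_iSup, iSup_affineOpens_eq_top]
  rfl

/-- S3853 -/
theorem isLocallyNoetherian_level (𝔛 : FSch.Sys.{u}) (hF : 𝔛.IsFormal) (hA : 𝔛.IsAdic)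
    [IsLocallyNoetherian (𝔛.X 0)] (hft : FSch.IdealFT (𝔛.ι 0).ker) (n : ℕ) :
    IsLocallyNoetherian (𝔛.X n) := by
  induction n with
  | zero => infer_instance
  | succ n ih =>
    haveI := ih
    haveI := toX_isClosedImmersion 𝔛 hF (n + 1)
    haveI := (hF n).1
    haveI := (hF (n + 1)).1
    refine isLocallyNoetherian_step (𝔛.toX (n + 1)) (𝔛.ι n) (𝔛.ι (n + 1)) (n + 1) (by omega)
      (hA n) (hA (n + 1)) (fun W : (𝔛.X (n + 1 + 1)).affineOpens => W)
      (iSup_preimage_affineOpens _) ?_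
    intro hn j
    have h0 : n = 0 := by omega
    subst h0
    have e : 𝔛.toX (0 + 1) = 𝔛.ι 0 := Category.id_comp _
    rw [e]
    exact hft _

end Groth.Agent.Helper8.AdicSys
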