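import Groth.Agent.Helper8.AdicSys

set_option autoImplicit false
set_option backward.isDefEq.respectTransparency false
set_option backward.isDefEq.respectTransparency.types false
universe u

open CategoryTheory AlgebraicGeometry Limits

namespace Groth.Agent.Helper8.AdicSys

/-- The kernel of a base change of a closed immersion is the pulled back ideal sheaf. -/
theorem ker_eq_comap_of_isPullback {P X Y Z : Scheme.{u}} {i' : P ⟶ X} {g : P ⟶ Z} {f : X ⟶ Y}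
    {i : Z ⟶ Y} [IsClosedImmersion i] (h : IsPullback i' g f i) : i'.ker = i.ker.comap f := by
  rw [← Scheme.IdealSheafData.ker_fst_of_isClosedImmersion i f, ← h.isoPullback_hom_fst,
    Scheme.Hom.ker_comp_of_isIso]

theorem comap_pow {X Y : Scheme.{u}} (f : X ⟶ Y) (K : Y.IdealSheafData) (n : ℕ) :
    (K ^ n).comap f = (K.comap f) ^ n := by
  induction n with
  | zero =>
    rw [pow_zero, pow_zero, Scheme.IdealSheafData.one_eq_top, Scheme.IdealSheafData.one_eq_top,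
      Scheme.IdealSheafData.comap_top]
  | succ n ih => rw [pow_succ, pow_succ, Groth.Agent.S3861.result, ih]

theorem isPullback_toX {𝔛 𝔖 : FSch.Sys.{u}} (f : 𝔛 ⟶ 𝔖) (hf : FSch.IsAdicHom f) (n : ℕ) :
    IsPullback (𝔛.toX n) ((f : FSch.Hom 𝔛 𝔖).app 0) ((f : FSch.Hom 𝔛 𝔖).app n) (𝔖.toX n) := by
  induction n with
  | zero =>
    change IsPullback (𝟙 _) ((f : FSch.Hom 𝔛 𝔖).app 0) ((f : FSch.Hom 𝔛 𝔖).app 0) (𝟙 _)
    exact IsPullback.of_horiz_isIso ⟨by simp⟩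
  | succ n ih => exact ih.paste_horiz (hf n)

theorem isFormal_of_isAdicHom {𝔛 𝔖 : FSch.Sys.{u}} (f : 𝔛 ⟶ 𝔖) (h𝔖 : 𝔖.IsFormal)
    (hf : FSch.IsAdicHom f) : 𝔛.IsFormal := by
  intro n
  have h1 : IsClosedImmersion (𝔛.ι n) :=
    MorphismProperty.of_isPullback (P := @IsClosedImmersion) (hf n).flip (h𝔖 n).1
  have h2 : Surjective (𝔛.ι n) :=
    MorphismProperty.of_isPullback (P := @Surjective) (hf n).flip ⟨(h𝔖 n).2⟩
  exact ⟨h1, h2.surj⟩

theorem isAdic_of_isAdicHom {𝔛 𝔖 : FSch.Sys.{u}} (f : 𝔛 ⟶ 𝔖) (h𝔖 : 𝔖.IsFormal)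
    (h𝔖A : 𝔖.IsAdic) (hf : FSch.IsAdicHom f) : 𝔛.IsAdic := by
  intro n
  haveI := (h𝔖 n).1
  haveI := toX_isClosedImmersion 𝔖 h𝔖 (n + 1)
  rw [ker_eq_comap_of_isPullback (hf n), h𝔖A n, comap_pow,
    ← ker_eq_comap_of_isPullback (isPullback_toX f hf (n + 1))]

theorem fg_congr {X : Scheme.{u}} (I : X.IdealSheafData) {U U' : X.affineOpens} (h : U = U') :
    (I.ideal U).FG ↔ (I.ideal U').FG := by
  subst h
  rfl

/-- finite generation of the pulled back ideal over an affine open lying over an affine open -/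
theorem fg_ideal_comap {X Y : Scheme.{u}} (f : X ⟶ Y) (K : Y.IdealSheafData)
    (U : X.affineOpens) (V : Y.affineOpens) (e : U.1 ≤ f ⁻¹ᵁ V.1) (hK : (K.ideal V).FG) :
    ((K.comap f).ideal U).FG := by
  haveI : IsAffine (U.1 : Scheme.{u}) := U.2
  haveI : IsAffine (V.1 : Scheme.{u}) := V.2
  have hfac : U.1.ι ≫ f = f.resLE V.1 U.1 e ≫ V.1.ι := (Scheme.Hom.resLE_comp_ι f e).symm
  have key : (K.comap f).comap U.1.ι = (K.comap V.1.ι).comap (f.resLE V.1 U.1 e) := by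
    rw [← Scheme.IdealSheafData.comap_comp, ← Scheme.IdealSheafData.comap_comp, hfac]
  have h1 := congrArg (fun M => M.ideal ⟨⊤, isAffineOpen_top _⟩) key
  simp only [Scheme.IdealSheafData.ideal_comap_of_isOpenImmersion,
    Groth.Agent.S3861.ideal_comap_of_isAffine] at h1
  -- RHS is finitely generated
  have hV : (⟨V.1.ι ''ᵁ ⊤, (isAffineOpen_top _).image_of_isOpenImmersion _⟩ : Y.affineOpens) = V :=
    Subtype.ext (by simp)
  have hU : (⟨U.1.ι ''ᵁ ⊤, (isAffineOpen_top _).image_of_isOpenImmersion _⟩ : X.affineOpens) = U :=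
    Subtype.ext (by simp)
  have hK' := (fg_congr K hV).mpr hK
  have hsurjV : Function.Surjective (V.1.ι.appIso ⊤).hom.hom :=
    (ConcreteCategory.bijective_of_isIso (V.1.ι.appIso ⊤).hom).2
  have hsurjU : Function.Surjective (U.1.ι.appIso ⊤).inv.hom :=
    (ConcreteCategory.bijective_of_isIso (U.1.ι.appIso ⊤).inv).2
  have e2 : ∀ (L : Ideal Γ(Y, V.1.ι ''ᵁ ⊤)), L.comap (V.1.ι.appIso ⊤).inv.hom =
      L.map (V.1.ι.appIso ⊤).hom.hom := by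
    intro L
    refine le_antisymm (Ideal.comap_le_map_of_inverse _ _ _ ?_)
      (Ideal.map_le_comap_of_inverse _ _ _ ?_)
    · intro a
      change ((V.1.ι.appIso ⊤).inv ≫ (V.1.ι.appIso ⊤).hom).hom a = a
      rw [Iso.inv_hom_id]; rfl
    · intro a
      change ((V.1.ι.appIso ⊤).hom ≫ (V.1.ι.appIso ⊤).inv).hom a = a
      rw [Iso.hom_inv_id]; rfl
  rw [e2] at h1
  have hR : (((K.ideal ⟨V.1.ι ''ᵁ ⊤, (isAffineOpen_top _).image_of_isOpenImmersion _⟩).map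
      (V.1.ι.appIso ⊤).hom.hom).map (f.resLE V.1 U.1 e).appTop.hom).FG :=
    (hK'.map _).map _
  rw [← h1] at hR
  have hL := hR.map (U.1.ι.appIso ⊤).inv.hom
  rw [Ideal.map_comap_of_surjective _ hsurjU] at hL
  exact (fg_congr (K.comap f) hU).mp hL

/-- S3857 -/
theorem isLocNoethFormal_of_isAdicHom {𝔛 𝔖 : FSch.Sys.{u}} (f : 𝔛 ⟶ 𝔖)
    (h𝔖 : 𝔖.IsLocNoethFormal) (hf : FSch.IsAdicHom f) [IsLocallyNoetherian (𝔛.X 0)] :
    𝔛.IsLocNoethFormal := by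
  have hF := isFormal_of_isAdicHom f h𝔖.1 hf
  have hA := isAdic_of_isAdicHom f h𝔖.1 h𝔖.2.1 hf
  refine ⟨hF, hA, fun n => ?_⟩
  induction n with
  | zero => infer_instance
  | succ n ih =>
    haveI := ih
    haveI := toX_isClosedImmersion 𝔛 hF (n + 1)
    haveI := (hF n).1
    haveI := (hF (n + 1)).1
    let J := {p : (𝔛.X (n + 1 + 1)).affineOpens × (𝔖.X (n + 1 + 1)).affineOpens //
      p.1.1 ≤ ((f : FSch.Hom 𝔛 𝔖).app (n + 1 + 1)) ⁻¹ᵁ p.2.1}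
    refine isLocallyNoetherian_step (𝔛.toX (n + 1)) (𝔛.ι n) (𝔛.ι (n + 1)) (n + 1) (by omega)
      (hA n) (hA (n + 1)) (fun p : J => p.1.1) ?_ ?_
    · rw [eq_top_iff]
      intro x _
      obtain ⟨V, hV, hxV, -⟩ := exists_isAffineOpen_mem_and_subset
        (x := ((f : FSch.Hom 𝔛 𝔖).app (n + 1 + 1)) ((𝔛.ι (n + 1)) x)) (U := ⊤) trivial
      obtain ⟨U, hU, hxU, hUV⟩ := exists_isAffineOpen_mem_and_subset (x := (𝔛.ι (n + 1)) x)
        (U := ((f : FSch.Hom 𝔛 𝔖).app (n + 1 + 1)) ⁻¹ᵁ V) hxV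
      exact TopologicalSpace.Opens.mem_iSup.mpr ⟨⟨(⟨U, hU⟩, ⟨V, hV⟩), hUV⟩, hxU⟩
    · intro hn p
      have h0 : n = 0 := by omega
      subst h0
      haveI := toX_isClosedImmersion 𝔖 h𝔖.1 (0 + 1)
      rw [ker_eq_comap_of_isPullback (isPullback_toX f hf (0 + 1))]
      haveI := (h𝔖.1 (0 + 1)).1
      haveI := h𝔖.2.2 (0 + 1)
      haveI : IsNoetherianRing Γ(𝔖.X (0 + 1), (𝔖.ι (0 + 1)) ⁻¹ᵁ p.1.2.1) :=
        IsLocallyNoetherian.component_noetherian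
          ⟨(𝔖.ι (0 + 1)) ⁻¹ᵁ p.1.2.1, p.1.2.2.preimage _⟩
      refine fg_ideal_comap ((f : FSch.Hom 𝔛 𝔖).app (0 + 1)) _ _
        ⟨(𝔖.ι (0 + 1)) ⁻¹ᵁ p.1.2.1, p.1.2.2.preimage _⟩ ?_ (IsNoetherian.noetherian _)
      intro x hx
      have hx2 : ((f : FSch.Hom 𝔛 𝔖).app (0 + 1 + 1)) ((𝔛.ι (0 + 1)) x) ∈ p.1.2.1 := p.2 hx
      have hc : (𝔖.ι (0 + 1)) (((f : FSch.Hom 𝔛 𝔖).app (0 + 1)) x) =
          ((f : FSch.Hom 𝔛 𝔖).app (0 + 1 + 1)) ((𝔛.ι (0 + 1)) x) := by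
        rw [← Scheme.Hom.comp_apply, ← Scheme.Hom.comp_apply, (f : FSch.Hom 𝔛 𝔖).comm (0 + 1)]
      change (𝔖.ι (0 + 1)) (((f : FSch.Hom 𝔛 𝔖).app (0 + 1)) x) ∈ p.1.2.1
      rw [hc]
      exact hx2

end Groth.Agent.Helper8.AdicSys
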