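import Groth.Agent.Helper8.AdicSys2

set_option autoImplicit false
set_option backward.isDefEq.respectTransparency false
set_option backward.isDefEq.respectTransparency.types false
universe u

open CategoryTheory AlgebraicGeometry Limits

namespace Groth.Agent.Helper8.AdicSys

/-- S3858 -/
theorem pullbackSys_main {𝔛 𝔖 𝔖' : FSch.Sys.{u}} (f : 𝔛 ⟶ 𝔖) (g : 𝔖' ⟶ 𝔖)
    (h𝔖' : 𝔖'.IsLocNoethFormal) (hf : FSch.IsAdicHom f)
    [LocallyOfFiniteType ((f : FSch.Hom 𝔛 𝔖).app 0)] :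
    (FSch.pullbackSys f g).IsLocNoethFormal ∧ FSch.IsAdicHom (FSch.pullbackSnd f g) ∧
      LocallyOfFiniteType ((FSch.pullbackSnd f g : FSch.Hom _ _).app 0) := by
  have hlft : LocallyOfFiniteType ((FSch.pullbackSnd f g : FSch.Hom _ _).app 0) := by
    change LocallyOfFiniteType (pullback.snd _ _)
    infer_instance
  have hadic : FSch.IsAdicHom (FSch.pullbackSnd f g) := by
    intro n
    change IsPullback (pullback.map _ _ _ _ (𝔛.ι n) (𝔖'.ι n) (𝔖.ι n)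
      ((f : FSch.Hom 𝔛 𝔖).comm n) ((g : FSch.Hom 𝔖' 𝔖).comm n))
      (pullback.snd _ _) (pullback.snd _ _) (𝔖'.ι n)
    have hA : IsPullback (pullback.fst ((f : FSch.Hom 𝔛 𝔖).app n) ((g : FSch.Hom 𝔖' 𝔖).app n))
        (pullback.snd _ _) ((f : FSch.Hom 𝔛 𝔖).app n) ((g : FSch.Hom 𝔖' 𝔖).app n) :=
      IsPullback.of_hasPullback _ _
    have hAB := hA.paste_horiz (hf n)
    have hC : IsPullback
        (pullback.fst ((f : FSch.Hom 𝔛 𝔖).app (n + 1)) ((g : FSch.Hom 𝔖' 𝔖).app (n + 1)))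
        (pullback.snd _ _) ((f : FSch.Hom 𝔛 𝔖).app (n + 1)) ((g : FSch.Hom 𝔖' 𝔖).app (n + 1)) :=
      IsPullback.of_hasPullback _ _
    refine IsPullback.of_right ?_ ?_ hC
    · have e1 : pullback.map _ _ _ _ (𝔛.ι n) (𝔖'.ι n) (𝔖.ι n)
          ((f : FSch.Hom 𝔛 𝔖).comm n) ((g : FSch.Hom 𝔖' 𝔖).comm n) ≫
          pullback.fst ((f : FSch.Hom 𝔛 𝔖).app (n + 1)) ((g : FSch.Hom 𝔖' 𝔖).app (n + 1)) =
          pullback.fst ((f : FSch.Hom 𝔛 𝔖).app n) ((g : FSch.Hom 𝔖' 𝔖).app n) ≫ 𝔛.ι n :=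
        pullback.lift_fst _ _ _
      have e2 : 𝔖'.ι n ≫ (g : FSch.Hom 𝔖' 𝔖).app (n + 1) =
          (g : FSch.Hom 𝔖' 𝔖).app n ≫ 𝔖.ι n := ((g : FSch.Hom 𝔖' 𝔖).comm n).symm
      rw [e1, e2]
      exact hAB
    · exact pullback.lift_snd _ _ _
  refine ⟨?_, hadic, hlft⟩
  haveI := h𝔖'.2.2 0
  haveI : IsLocallyNoetherian ((FSch.pullbackSys f g).X 0) :=
    LocallyOfFiniteType.isLocallyNoetherian ((FSch.pullbackSnd f g : FSch.Hom _ _).app 0)
  exact isLocNoethFormal_of_isAdicHom (FSch.pullbackSnd f g) h𝔖' hadic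

/-- S3865 -/
theorem subSys_main (𝔛 : FSch.Sys.{u}) (h𝔛 : 𝔛.IsLocNoethFormal)
    (𝒜 : ∀ n, (𝔛.X n).IdealSheafData) (h : ∀ n, (𝒜 (n + 1)).comap (𝔛.ι n) = 𝒜 n) :
    (FSch.subSys 𝔛 𝒜 (fun n ↦ (h n).le)).IsLocNoethFormal ∧
      FSch.IsAdicHom (FSch.subSysι 𝔛 𝒜 (fun n ↦ (h n).le)) := by
  have hadic : FSch.IsAdicHom (FSch.subSysι 𝔛 𝒜 (fun n ↦ (h n).le)) := by
    intro n
    change IsPullback (Scheme.IdealSheafData.subschemeMap (𝒜 n) (𝒜 (n + 1)) (𝔛.ι n)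
      (Scheme.IdealSheafData.le_map_iff_comap_le.mpr (h n).le))
      (𝒜 n).subschemeι (𝒜 (n + 1)).subschemeι (𝔛.ι n)
    refine (isPullback_of_isClosedImmersion (𝒜 n).subschemeι (𝒜 (n + 1)).subschemeι _ (𝔛.ι n)
      ?_ ?_).flip
    · exact (Scheme.IdealSheafData.subschemeMap_subschemeι _ _ _ _).symm
    · rw [Scheme.IdealSheafData.ker_subschemeι, Scheme.IdealSheafData.ker_subschemeι, h n]
  refine ⟨?_, hadic⟩
  haveI := h𝔛.2.2 0
  haveI : IsLocallyNoetherian ((FSch.subSys 𝔛 𝒜 (fun n ↦ (h n).le)).X 0) :=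
    LocallyOfFiniteType.isLocallyNoetherian (𝒜 0).subschemeι
  exact isLocNoethFormal_of_isAdicHom _ h𝔛 hadic

theorem ker_eq_comap_of_comp_eq {X : Scheme.{u}} {I J : X.IdealSheafData} {Z : Scheme.{u}}
    (t : Z ⟶ J.subscheme) (s : Z ⟶ I.subscheme) [IsIso s]
    (w : t ≫ J.subschemeι = s ≫ I.subschemeι) : t.ker = I.comap J.subschemeι := by
  have hp : IsPullback t s J.subschemeι I.subschemeι :=
    IsPullback.of_vert_isIso_mono ⟨w⟩
  rw [ker_eq_comap_of_isPullback hp, Scheme.IdealSheafData.ker_subschemeι]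

theorem completionAlong_toX (X : Scheme.{u}) (𝓘 : X.IdealSheafData) (n : ℕ) :
    (FSch.completionAlong X 𝓘).toX n ≫ (𝓘 ^ (n + 1)).subschemeι = (𝓘 ^ (0 + 1)).subschemeι := by
  induction n with
  | zero => exact Category.id_comp _
  | succ n ih =>
    change ((FSch.completionAlong X 𝓘).toX n ≫
      Scheme.IdealSheafData.inclusion (FSch.pow_succ_le X 𝓘 n)) ≫ _ = _
    rw [Category.assoc, Scheme.IdealSheafData.inclusion_subschemeι, ih]

/-- S3854 -/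
theorem completionAlong_main (X : Scheme.{u}) [IsLocallyNoetherian X] (𝓘 : X.IdealSheafData) :
    (FSch.completionAlong X 𝓘).IsLocNoethFormal := by
  refine ⟨fun n => ⟨?_, ?_⟩, fun n => ?_, fun n => ?_⟩
  · change IsClosedImmersion (Scheme.IdealSheafData.inclusion (FSch.pow_succ_le X 𝓘 n))
    haveI : IsClosedImmersion (Scheme.IdealSheafData.inclusion (FSch.pow_succ_le X 𝓘 n) ≫
        (𝓘 ^ (n + 2)).subschemeι) := by
      rw [Scheme.IdealSheafData.inclusion_subschemeι]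
      infer_instance
    exact IsClosedImmersion.of_comp_isClosedImmersion _ (𝓘 ^ (n + 2)).subschemeι
  · intro y
    change ↥((𝓘 ^ (n + 2)).subscheme) at y
    have hy : (𝓘 ^ (n + 2)).subschemeι y ∈ (𝓘 ^ (n + 1)).support := by
      have h1 : (𝓘 ^ (n + 2)).subschemeι y ∈ (𝓘 ^ (n + 2)).support := by
        rw [← SetLike.mem_coe, ← Scheme.IdealSheafData.range_subschemeι]
        exact ⟨y, rfl⟩
      rwa [Scheme.IdealSheafData.support_pow_succ, ← Scheme.IdealSheafData.support_pow_succ 𝓘 n]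
        at h1
    rw [← SetLike.mem_coe, ← Scheme.IdealSheafData.range_subschemeι] at hy
    obtain ⟨z, hz⟩ := hy
    refine ⟨z, ?_⟩
    apply (𝓘 ^ (n + 2)).subschemeι.isClosedEmbedding.injective
    change (𝓘 ^ (n + 2)).subschemeι
      ((Scheme.IdealSheafData.inclusion (FSch.pow_succ_le X 𝓘 n)) z) = _
    rw [← Scheme.Hom.comp_apply, Scheme.IdealSheafData.inclusion_subschemeι]
    exact hz
  · have h1 : ((FSch.completionAlong X 𝓘).ι n).ker =
        (𝓘 ^ (n + 1)).comap (𝓘 ^ (n + 1 + 1)).subschemeι := by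
      refine ker_eq_comap_of_comp_eq (I := 𝓘 ^ (n + 1)) (J := 𝓘 ^ (n + 1 + 1)) _ (𝟙 _) ?_
      rw [Category.id_comp]
      exact Scheme.IdealSheafData.inclusion_subschemeι _
    have h2 : ((FSch.completionAlong X 𝓘).toX (n + 1)).ker =
        (𝓘 ^ (0 + 1)).comap (𝓘 ^ (n + 1 + 1)).subschemeι := by
      refine ker_eq_comap_of_comp_eq (I := 𝓘 ^ (0 + 1)) (J := 𝓘 ^ (n + 1 + 1)) _ (𝟙 _) ?_
      rw [Category.id_comp]
      exact completionAlong_toX X 𝓘 (n + 1)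
    rw [h1, h2, ← comap_pow, ← pow_mul, zero_add, one_mul]
  · change IsLocallyNoetherian ((𝓘 ^ (n + 1)).subscheme)
    exact LocallyOfFiniteType.isLocallyNoetherian (𝓘 ^ (n + 1)).subschemeι

end Groth.Agent.Helper8.AdicSys
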