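import Mathlib

set_option autoImplicit false

namespace Groth.Agent.Helper8.AdjAlt

open Function

variable {R : Type*} [CommRing R] {M N : Type*} [AddCommGroup M] [Module R M]
  [AddCommGroup N] [Module R N]

/-- A multilinear map vanishing whenever the arguments at `a ≠ b` agree changes sign under the
swap of `a` and `b`. -/
theorem swap_neg {ι : Type*} [DecidableEq ι] (f : MultilinearMap R (fun _ : ι => M) N)
    (a b : ι) (hab : a ≠ b) (h : ∀ v : ι → M, v a = v b → f v = 0) (v : ι → M) :
    f (v ∘ Equiv.swap a b) = - f v := by
  have h0 : f (update (update v a (v a + v b)) b (v a + v b)) = 0 := by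
    apply h
    rw [update_of_ne hab, update_self, update_self]
  rw [f.map_update_add] at h0
  rw [update_comm hab (v a + v b) (v a) v, update_comm hab (v a + v b) (v b) v,
    f.map_update_add, f.map_update_add] at h0
  have T1 : f (update (update v b (v a)) a (v a)) = 0 :=
    h _ (by rw [update_self, update_of_ne hab.symm, update_self])
  have T4 : f (update (update v b (v b)) a (v b)) = 0 :=
    h _ (by rw [update_self, update_of_ne hab.symm, update_self])
  rw [T1, T4, update_eq_self, update_eq_self, ← Equiv.comp_swap_eq_update, zero_add,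
    add_zero] at h0
  exact eq_neg_of_add_eq_zero_left h0

/-- A multilinear map in `m + 1` arguments vanishing when two adjacent arguments agree vanishes
when any two arguments agree. -/
theorem vanish_of_adjacent {m : ℕ} (f : MultilinearMap R (fun _ : Fin (m + 1) => M) N)
    (hadj : ∀ (k : Fin m) (v : Fin (m + 1) → M), v k.castSucc = v k.succ → f v = 0) :
    ∀ (g : ℕ) (v : Fin (m + 1) → M) (a b : Fin (m + 1)), b.val = a.val + g + 1 →
      v a = v b → f v = 0 := by
  intro g
  induction g with
  | zero =>
    intro v a b hab hv
    have hk : a.val < m := by have := b.isLt; omega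
    have ha : (⟨a.val, hk⟩ : Fin m).castSucc = a := Fin.ext rfl
    have hb : (⟨a.val, hk⟩ : Fin m).succ = b := Fin.ext (by
      show a.val + 1 = b.val
      omega)
    exact hadj ⟨a.val, hk⟩ v (by rw [ha, hb]; exact hv)
  | succ g ih =>
    intro v a b hab hv
    have hk : b.val - 1 < m := by have := b.isLt; omega
    obtain ⟨k, hk'⟩ : ∃ k : Fin m, k = ⟨b.val - 1, hk⟩ := ⟨_, rfl⟩
    have hc : k.castSucc.val = b.val - 1 := by rw [hk']; rfl
    have hb : k.succ = b := Fin.ext (by
      rw [hk']
      show b.val - 1 + 1 = b.val
      omega)
    have hcb : k.castSucc ≠ k.succ := by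
      intro e
      have e' := congrArg Fin.val e
      rw [hc, hb] at e'
      omega
    have hsw := swap_neg f k.castSucc k.succ hcb (hadj k) v
    have hac : a ≠ k.castSucc := by
      intro e
      have e' := congrArg Fin.val e
      rw [hc] at e'
      omega
    have hab' : a ≠ k.succ := by
      rw [hb]
      intro e
      rw [e] at hab
      omega
    have h1 : (v ∘ Equiv.swap k.castSucc k.succ) a = v a := by
      rw [comp_apply, Equiv.swap_apply_of_ne_of_ne hac hab']
    have h2 : (v ∘ Equiv.swap k.castSucc k.succ) k.castSucc = v b := by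
      rw [comp_apply, Equiv.swap_apply_left, hb]
    have h3 := ih (v ∘ Equiv.swap k.castSucc k.succ) a k.castSucc (by rw [hc]; omega)
      (by rw [h1, h2]; exact hv)
    rw [hsw, neg_eq_zero] at h3
    exact h3

/-- The alternating map attached to a multilinear map vanishing on adjacent equal arguments. -/
def altOfAdj {m : ℕ} (f : MultilinearMap R (fun _ : Fin (m + 1) => M) N)
    (hadj : ∀ (k : Fin m) (v : Fin (m + 1) → M), v k.castSucc = v k.succ → f v = 0) :
    M [⋀^Fin (m + 1)]→ₗ[R] N :=
  { f with
    map_eq_zero_of_eq' := by
      intro v a b hv hab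
      rcases lt_or_gt_of_ne hab with h | h
      · exact vanish_of_adjacent f hadj (b.val - a.val - 1) v a b
          (by rw [Fin.lt_def] at h; omega) hv
      · exact vanish_of_adjacent f hadj (a.val - b.val - 1) v b a
          (by rw [Fin.lt_def] at h; omega) hv.symm }

/-- A multilinear function of `d + 1` vectors of `R ^ d` that vanishes when two adjacent vectors
agree is zero. -/
theorem eq_zero_of_adjacent {d : ℕ} (f : MultilinearMap R (fun _ : Fin (d + 1) => Fin d → R) R)
    (hadj : ∀ (k : Fin d) (v : Fin (d + 1) → Fin d → R), v k.castSucc = v k.succ → f v = 0)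
    (v : Fin (d + 1) → Fin d → R) : f v = 0 := by
  have h0 : altOfAdj f hadj = 0 :=
    Module.Basis.ext_alternating (Pi.basisFun R (Fin d)) (fun w hw => by
      exfalso
      have := Fintype.card_le_of_injective w hw
      simp at this)
  have h2 := DFunLike.congr_fun h0 v
  exact h2

end Groth.Agent.Helper8.AdjAlt
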