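import Mathlib

/-!
# Sheaves on the basis of affine opens of a scheme

A presheaf of sets on the affine opens extends to a sheaf on the scheme iff it sends the empty open
to a singleton and satisfies the gluing condition for the binary standard covers
`U = D(f) ∪ D(g)`.  The proof goes through the finest topology for which the presheaf is a sheaf
(transitivity gives all finite standard covers by induction) and the comparison lemma for the dense
subsite of affine opens.
-/

universe u
open AlgebraicGeometry CategoryTheory TopologicalSpace Opposite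

namespace Groth.Agent.Helper8.AffBasis

variable (X : Scheme.{u})

/-- the sieve of affine opens contained in some `D(f)`, `f ∈ T`. -/
def stdSieve (U : X.affineOpens) (T : Set Γ(X, (U : X.Opens))) : Sieve U where
  arrows V _ := ∃ f ∈ T, (V : X.Opens) ≤ X.basicOpen f
  downward_closed := by
    rintro V W h ⟨f, hf, hle⟩ g
    exact ⟨f, hf, (show (W : X.Opens) ≤ V from leOfHom g).trans hle⟩

variable {X}

lemma stdSieve_mono (U : X.affineOpens) {T T' : Set Γ(X, (U : X.Opens))} (h : T ⊆ T') :
    stdSieve X U T ≤ stdSieve X U T' := by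
  rintro V k ⟨f, hf, hle⟩
  exact ⟨f, h hf, hle⟩

variable (F : (X.affineOpens)ᵒᵖ ⥤ Type u)

/-- hypothesis (b) of the statement. -/
def PairGlue : Prop :=
  ∀ (U V W VW : X.affineOpens) (f g : Γ(X, (U : X.Opens))),
        (V : X.Opens) = X.basicOpen f → (W : X.Opens) = X.basicOpen g →
        (VW : X.Opens) = X.basicOpen (f * g) → (U : X.Opens) = (V : X.Opens) ⊔ (W : X.Opens) →
        ∀ (hV : V ≤ U) (hW : W ≤ U) (h1 : VW ≤ V) (h2 : VW ≤ W),
        Function.Injective (fun s : F.obj (op U) => (F.map (homOfLE hV).op s, F.map (homOfLE hW).op s)) ∧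
        Set.range (fun s : F.obj (op U) => (F.map (homOfLE hV).op s, F.map (homOfLE hW).op s)) =
          {p | F.map (homOfLE h1).op p.1 = F.map (homOfLE h2).op p.2}

variable {F}

lemma map_map {A B C : X.affineOpens} (h1 : A ≤ B) (h2 : B ≤ C) (s : F.obj (op C)) :
    F.map (homOfLE h1).op (F.map (homOfLE h2).op s) = F.map (homOfLE (h1.trans h2)).op s := by
  rw [← Functor.map_comp_apply]
  rfl

/-- sheaf condition for the sieve generated by a binary standard cover. -/
lemma isSheafFor_pair (hb : PairGlue F) (Y : X.affineOpens) (f g : Γ(X, (Y : X.Opens)))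
    (hfg : Ideal.span ({f, g} : Set Γ(X, (Y : X.Opens))) = ⊤) :
    Presieve.IsSheafFor F (stdSieve X Y {f, g} : Presieve Y) := by
  have hcov : (Y : X.Opens) = X.basicOpen f ⊔ X.basicOpen g := by
    have := iSup_basicOpen_of_span_eq_top (Y : X.Opens) _ hfg
    rw [iSup_pair] at this
    exact this.symm
  have hV : X.affineBasicOpen f ≤ Y := X.affineBasicOpen_le f
  have hW : X.affineBasicOpen g ≤ Y := X.affineBasicOpen_le g
  have h1 : X.affineBasicOpen (f * g) ≤ X.affineBasicOpen f := by
    change X.basicOpen (f * g) ≤ X.basicOpen f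
    rw [Scheme.basicOpen_mul]; exact inf_le_left
  have h2 : X.affineBasicOpen (f * g) ≤ X.affineBasicOpen g := by
    change X.basicOpen (f * g) ≤ X.basicOpen g
    rw [Scheme.basicOpen_mul]; exact inf_le_right
  obtain ⟨hinj, hrange⟩ := hb Y (X.affineBasicOpen f) (X.affineBasicOpen g)
    (X.affineBasicOpen (f * g)) f g rfl rfl rfl hcov hV hW h1 h2
  have hVS : (stdSieve X Y {f, g}).arrows (homOfLE hV) := ⟨f, by simp, le_rfl⟩
  have hWS : (stdSieve X Y {f, g}).arrows (homOfLE hW) := ⟨g, by simp, le_rfl⟩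
  intro x hx
  have hcompat : F.map (homOfLE h1).op (x (homOfLE hV) hVS) =
      F.map (homOfLE h2).op (x (homOfLE hW) hWS) :=
    hx (homOfLE h1) (homOfLE h2) hVS hWS (Subsingleton.elim _ _)
  have hmem : (x (homOfLE hV) hVS, x (homOfLE hW) hWS) ∈
      {p : F.obj (op (X.affineBasicOpen f)) × F.obj (op (X.affineBasicOpen g)) |
        F.map (homOfLE h1).op p.1 = F.map (homOfLE h2).op p.2} := hcompat
  rw [← hrange] at hmem
  obtain ⟨s, hs⟩ := hmem
  have hs1 : F.map (homOfLE hV).op s = x (homOfLE hV) hVS := congrArg Prod.fst hs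
  have hs2 : F.map (homOfLE hW).op s = x (homOfLE hW) hWS := congrArg Prod.snd hs
  have hsc := (Presieve.compatible_iff_sieveCompatible x).1 hx
  refine ⟨s, ?_, ?_⟩
  · rintro Z k ⟨φ, hφ, hle⟩
    rcases hφ with rfl | rfl
    · have hZV : Z ≤ X.affineBasicOpen φ := hle
      have hk : k = homOfLE hZV ≫ homOfLE hV := Subsingleton.elim _ _
      subst hk
      rw [op_comp, Functor.map_comp_apply, hs1]
      exact (hsc (homOfLE hV) (homOfLE hZV) hVS).symm
    · have hZW : Z ≤ X.affineBasicOpen φ := hle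
      have hk : k = homOfLE hZW ≫ homOfLE hW := Subsingleton.elim _ _
      subst hk
      rw [op_comp, Functor.map_comp_apply, hs2]
      exact (hsc (homOfLE hW) (homOfLE hZW) hWS).symm
  · intro s' hs'
    apply hinj
    have e1 : F.map (homOfLE hV).op s' = x (homOfLE hV) hVS := hs' _ hVS
    have e2 : F.map (homOfLE hW).op s' = x (homOfLE hW) hWS := hs' _ hWS
    exact Prod.ext (e1.trans hs1.symm) (e2.trans hs2.symm)

/-- restriction of sections along an inequality of affine opens. -/
noncomputable def res {U Y : X.affineOpens} (k : Y ⟶ U) :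
    Γ(X, (U : X.Opens)) →+* Γ(X, (Y : X.Opens)) :=
  (X.presheaf.map (homOfLE (show (Y : X.Opens) ≤ U from leOfHom k)).op).hom

lemma basicOpen_res {U Y : X.affineOpens} (k : Y ⟶ U) (φ : Γ(X, (U : X.Opens))) :
    X.basicOpen (res k φ) = (Y : X.Opens) ⊓ X.basicOpen φ :=
  Scheme.basicOpen_res _ _ _

lemma pullback_stdSieve {U Y : X.affineOpens} (k : Y ⟶ U) (T : Set Γ(X, (U : X.Opens))) :
    (stdSieve X U T).pullback k = stdSieve X Y (res k '' T) := by
  ext Z m
  constructor
  · rintro ⟨φ, hφ, hle⟩
    refine ⟨res k φ, ⟨φ, hφ, rfl⟩, ?_⟩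
    rw [basicOpen_res]
    exact le_inf (leOfHom m) hle
  · rintro ⟨_, ⟨φ, hφ, rfl⟩, hle⟩
    rw [basicOpen_res] at hle
    exact ⟨φ, hφ, hle.trans inf_le_right⟩

lemma isUnit_res {U Y : X.affineOpens} (k : Y ⟶ U) (g : Γ(X, (U : X.Opens)))
    (hle : (Y : X.Opens) ≤ X.basicOpen g) : IsUnit (res k g) := by
  have h1 : IsUnit (X.presheaf.map (homOfLE (X.basicOpen_le g)).op g) :=
    RingedSpace.isUnit_res_basicOpen X.toRingedSpace g
  have h2 := h1.map (X.presheaf.map (homOfLE hle).op).hom
  have e : res k g = (X.presheaf.map (homOfLE hle).op).hom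
      (X.presheaf.map (homOfLE (X.basicOpen_le g)).op g) :=
    ConcreteCategory.congr_hom
      (X.presheaf.map_comp (homOfLE (X.basicOpen_le g)).op (homOfLE hle).op) g
  rw [e]; exact h2

lemma pair_mem (hb : PairGlue F) (U : X.affineOpens) (f g : Γ(X, (U : X.Opens)))
    (hfg : Ideal.span ({f, g} : Set Γ(X, (U : X.Opens))) = ⊤) :
    stdSieve X U {f, g} ∈ Sheaf.finestTopologySingle F U := by
  intro Y k
  rw [pullback_stdSieve, Set.image_pair]
  apply isSheafFor_pair hb
  rw [← Set.image_pair, ← Ideal.map_span, hfg, Ideal.map_top]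

lemma bot_mem {E : X.affineOpens} (hE : (E : X.Opens) = ⊥)
    (ha : Nonempty (F.obj (op E)) ∧ Subsingleton (F.obj (op E)))
    (U : X.affineOpens) (hU : (U : X.Opens) = ⊥) :
    (⊥ : Sieve U) ∈ Sheaf.finestTopologySingle F U := by
  intro Y k
  have hY : Y = E := by
    apply Subtype.ext
    rw [hE]
    exact le_bot_iff.1 ((show (Y : X.Opens) ≤ U from leOfHom k).trans_eq hU)
  subst hY
  rw [Sieve.pullback_bot]
  intro x _
  obtain ⟨⟨t⟩, hsub⟩ := ha
  exact ⟨t, fun Z m hm => hm.elim, fun t' _ => Subsingleton.elim _ _⟩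

lemma eq_bot_of_span_empty (U : X.affineOpens)
    (h : Ideal.span (∅ : Set Γ(X, (U : X.Opens))) = ⊤) : (U : X.Opens) = ⊥ := by
  rw [Ideal.span_empty] at h
  have h1 : (1 : Γ(X, (U : X.Opens))) ∈ (⊥ : Ideal Γ(X, (U : X.Opens))) := by rw [h]; trivial
  have h10 : (1 : Γ(X, (U : X.Opens))) = 0 := h1
  rw [← X.basicOpen_one (U := (U : X.Opens)), h10, Scheme.basicOpen_zero]

lemma std_mem {E : X.affineOpens} (hE : (E : X.Opens) = ⊥)
    (ha : Nonempty (F.obj (op E)) ∧ Subsingleton (F.obj (op E))) (hb : PairGlue F) :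
    ∀ (n : ℕ) (U : X.affineOpens) (T : Finset Γ(X, (U : X.Opens))), T.card ≤ n →
      Ideal.span (T : Set Γ(X, (U : X.Opens))) = ⊤ →
      stdSieve X U (T : Set Γ(X, (U : X.Opens))) ∈ Sheaf.finestTopologySingle F U := by
  classical
  intro n
  induction n with
  | zero =>
    intro U T hT hspan
    have hT0 : T = ∅ := Finset.card_eq_zero.1 (Nat.le_zero.1 hT)
    subst hT0
    rw [Finset.coe_empty] at hspan
    exact (Sheaf.finestTopologySingle F).superset_covering bot_le
      (bot_mem hE ha U (eq_bot_of_span_empty U hspan))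
  | succ n ih =>
    intro U T hT hspan
    rcases T.eq_empty_or_nonempty with rfl | ⟨f₁, hf₁⟩
    · rw [Finset.coe_empty] at hspan
      exact (Sheaf.finestTopologySingle F).superset_covering bot_le
        (bot_mem hE ha U (eq_bot_of_span_empty U hspan))
    · have hins : (T : Set Γ(X, (U : X.Opens))) =
          insert f₁ ((T.erase f₁ : Finset Γ(X, (U : X.Opens))) : Set Γ(X, (U : X.Opens))) := by
        rw [← Finset.coe_insert, Finset.insert_erase hf₁]
      have h1 : (1 : Γ(X, (U : X.Opens))) ∈ Ideal.span (insert f₁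
          ((T.erase f₁ : Finset Γ(X, (U : X.Opens))) : Set Γ(X, (U : X.Opens)))) := by
        rw [← hins, hspan]; trivial
      obtain ⟨a, g, hg, h1eq⟩ := Ideal.mem_span_insert.1 h1
      have hfg : Ideal.span ({f₁, g} : Set Γ(X, (U : X.Opens))) = ⊤ := by
        rw [Ideal.eq_top_iff_one, h1eq]
        exact add_mem (Ideal.mul_mem_left _ _ (Ideal.subset_span (by simp)))
          (Ideal.subset_span (by simp))
      refine (Sheaf.finestTopologySingle F).transitive (pair_mem hb U f₁ g hfg) _ ?_
      rintro Y k ⟨φ, hφ, hle⟩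
      rcases hφ with h | h
      · have hk : (stdSieve X U (T : Set Γ(X, (U : X.Opens)))).arrows k :=
          ⟨f₁, hf₁, h ▸ hle⟩
        rw [Sieve.pullback_eq_top_of_mem _ hk]
        exact (Sheaf.finestTopologySingle F).top_mem _
      · have hφg : φ = g := h
        rw [hφg] at hle
        rw [pullback_stdSieve]
        have hcard : ((T.erase f₁).image (res k)).card ≤ n := by
          refine Finset.card_image_le.trans ?_
          rw [Finset.card_erase_of_mem hf₁]; omega
        have hspan' : Ideal.span (((T.erase f₁).image (res k) : Finset Γ(X, (Y : X.Opens))) :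
            Set Γ(X, (Y : X.Opens))) = ⊤ := by
          rw [Finset.coe_image, ← Ideal.map_span]
          exact Ideal.eq_top_of_isUnit_mem _ (Ideal.mem_map_of_mem (res k) hg) (isUnit_res k g hle)
        refine (Sheaf.finestTopologySingle F).superset_covering ?_ (ih Y _ hcard hspan')
        rw [Finset.coe_image]
        refine stdSieve_mono Y (Set.image_mono ?_)
        rw [Finset.coe_erase]
        exact Set.sdiff_subset

variable (X) in
/-- the inclusion of affine opens into opens. -/
abbrev incl : X.affineOpens ⥤ X.Opens :=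
  Monotone.functor (f := fun U : X.affineOpens => (U : X.Opens)) (fun _ _ h => h)

instance : (incl X).Full where
  map_surjective f := ⟨homOfLE (leOfHom f), Subsingleton.elim _ _⟩

instance : (incl X).Faithful where
  map_injective _ := Subsingleton.elim _ _

instance : (incl X).IsCoverDense (Opens.grothendieckTopology X) :=
  (TopCat.Opens.coverDense_iff_isBasis (incl X)).2 (by
    have : Set.range (incl X).obj = X.affineOpens := Subtype.range_coe
    rw [this]; exact X.isBasis_affineOpens)

lemma le_finest {E : X.affineOpens} (hE : (E : X.Opens) = ⊥)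
    (ha : Nonempty (F.obj (op E)) ∧ Subsingleton (F.obj (op E))) (hb : PairGlue F) :
    (incl X).inducedTopology (Opens.grothendieckTopology X) ≤ Sheaf.finestTopologySingle F := by
  intro U S hS
  rw [Functor.mem_inducedTopology_iff_of_isCoverDense] at hS
  obtain ⟨T, hTdef⟩ : ∃ T : Set Γ(X, (U : X.Opens)),
      T = {f | S.arrows (homOfLE (X.affineBasicOpen_le f))} := ⟨_, rfl⟩
  have hT : Ideal.span T = ⊤ := by
    rw [← U.2.self_le_iSup_basicOpen_iff]
    intro x hx
    obtain ⟨V', m, ⟨Z, g, h, hg, -⟩, hxV'⟩ := hS x hx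
    have hxZ : x ∈ (Z : X.Opens) := leOfHom h hxV'
    obtain ⟨f, hfle, hxf⟩ := U.2.exists_basicOpen_le ⟨x, hxZ⟩ hx
    have hfT : f ∈ T := by
      have hfZ : X.affineBasicOpen f ≤ Z := hfle
      have e : (homOfLE (X.affineBasicOpen_le f) : X.affineBasicOpen f ⟶ U) = homOfLE hfZ ≫ g :=
        Subsingleton.elim _ _
      rw [hTdef]
      change S.arrows _
      rw [e]; exact S.downward_closed hg _
    exact Opens.mem_iSup.2 ⟨⟨f, hfT⟩, hxf⟩
  obtain ⟨T₀, hT₀sub, hT₀⟩ := (Ideal.span_eq_top_iff_finite T).1 hT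
  refine (Sheaf.finestTopologySingle F).superset_covering ?_
    (std_mem hE ha hb T₀.card U T₀ le_rfl hT₀)
  rintro Z m ⟨f, hf, hle⟩
  have hfT : f ∈ T := hT₀sub hf
  rw [hTdef] at hfT
  have hZf : Z ≤ X.affineBasicOpen f := hle
  have e : m = homOfLE hZf ≫ homOfLE (X.affineBasicOpen_le f) := Subsingleton.elim _ _
  rw [e]; exact S.downward_closed hfT _

theorem exists_sheaf {E : X.affineOpens} (hE : (E : X.Opens) = ⊥)
    (ha : Nonempty (F.obj (op E)) ∧ Subsingleton (F.obj (op E))) (hb : PairGlue F) :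
    ∃ G : TopCat.Sheaf (Type u) X.carrier, Nonempty ((incl X).op ⋙ G.1 ≅ F) := by
  have hF : Presheaf.IsSheaf ((incl X).inducedTopology (Opens.grothendieckTopology X)) F := by
    rw [isSheaf_iff_isSheaf_of_type]
    refine Presieve.isSheaf_of_le F (le_finest hE ha hb) ?_
    intro U S hS
    have := hS U (𝟙 U)
    rwa [Sieve.pullback_id] at this
  let e := Functor.IsDenseSubsite.sheafEquiv
    ((incl X).inducedTopology (Opens.grothendieckTopology X)) (Opens.grothendieckTopology X)
    (incl X) (Type u)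
  refine ⟨e.functor.obj ⟨F, hF⟩, ⟨?_⟩⟩
  have i := ((sheafToPresheaf _ _).mapIso (e.unitIso.app ⟨F, hF⟩)).symm
  have h : (e.inverse.obj (e.functor.obj ⟨F, hF⟩)).obj =
      (incl X).op ⋙ (e.functor.obj ⟨F, hF⟩).obj := rfl
  exact i

/-- binary gluing in a sheaf of types. -/
lemma glue₂ {T : TopCat.{u}} (G : TopCat.Sheaf (Type u) T) {U₁ U₂ V : Opens T}
    (i₁ : U₁ ⟶ V) (i₂ : U₂ ⟶ V) (hcover : V ≤ U₁ ⊔ U₂)
    (s₁ : G.1.obj (op U₁)) (s₂ : G.1.obj (op U₂))
    (h : G.1.map (Opens.infLELeft U₁ U₂).op s₁ = G.1.map (Opens.infLERight U₁ U₂).op s₂) :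
    ∃ s : G.1.obj (op V), G.1.map i₁.op s = s₁ ∧ G.1.map i₂.op s = s₂ := by
  let Ufam : Bool → Opens T := fun b => match b with | true => U₁ | false => U₂
  let sf : ∀ b, G.1.obj (op (Ufam b)) := fun b => match b with | true => s₁ | false => s₂
  let iUV : ∀ b, Ufam b ⟶ V := fun b => match b with | true => i₁ | false => i₂
  have hcover' : V ≤ iSup Ufam := by
    refine hcover.trans ?_
    rw [iSup_bool_eq]
  have hcompat : TopCat.Presheaf.IsCompatible G.1 Ufam sf := by
    intro i j
    match i, j with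
    | true, true => rfl
    | false, false => rfl
    | true, false => exact h
    | false, true =>
      have hle : U₂ ⊓ U₁ ≤ U₁ ⊓ U₂ := le_of_eq (inf_comm _ _)
      have := congrArg (G.1.map (homOfLE hle).op) h
      rw [← Functor.map_comp_apply, ← Functor.map_comp_apply] at this
      exact this.symm
  obtain ⟨s, hs, -⟩ := G.existsUnique_gluing' Ufam V iUV hcover' sf hcompat
  exact ⟨s, hs true, hs false⟩

lemma G_map_map {T : TopCat.{u}} (G : TopCat.Sheaf (Type u) T) {A B C : Opens T}
    (h1 : A ≤ B) (h2 : B ≤ C) (s : G.1.obj (op C)) :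
    G.1.map (homOfLE h1).op (G.1.map (homOfLE h2).op s) =
      G.1.map (homOfLE (h1.trans h2)).op s := by
  rw [← Functor.map_comp_apply]; rfl

variable (G : TopCat.Sheaf (Type u) X.carrier) (α : (incl X).op ⋙ G.1 ≅ F)

include α in
lemma cond_a {E : X.affineOpens} (hE : (E : X.Opens) = ⊥) :
    Nonempty (F.obj (op E)) ∧ Subsingleton (F.obj (op E)) := by
  have ht : Limits.IsTerminal (G.1.obj (op (E : X.Opens))) := G.isTerminalOfEqEmpty hE
  have hu : Unique (G.1.obj (op (E : X.Opens))) := (Limits.Types.isTerminalEquivUnique _).1 ht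
  let eqv : G.1.obj (op (E : X.Opens)) ≃ F.obj (op E) := (α.app (op E)).toEquiv
  exact ⟨⟨eqv default⟩, eqv.symm.subsingleton⟩

lemma nat_hom {A B : X.affineOpens} (h : A ≤ B) (t : G.1.obj (op (B : X.Opens))) :
    F.map (homOfLE h).op (α.hom.app (op B) t) =
      α.hom.app (op A) (G.1.map (homOfLE (show (A : X.Opens) ≤ B from h)).op t) :=
  (ConcreteCategory.congr_hom (α.hom.naturality (homOfLE h).op) t).symm

lemma nat_inv {A B : X.affineOpens} (h : A ≤ B) (s : F.obj (op B)) :
    G.1.map (homOfLE (show (A : X.Opens) ≤ B from h)).op (α.inv.app (op B) s) =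
      α.inv.app (op A) (F.map (homOfLE h).op s) :=
  (ConcreteCategory.congr_hom (α.inv.naturality (homOfLE h).op) s).symm

lemma hom_inv (A : X.affineOpens) (s : F.obj (op A)) :
    α.hom.app (op A) (α.inv.app (op A) s) = s :=
  ConcreteCategory.congr_hom (α.inv_hom_id_app (op A)) s

lemma inv_hom (A : X.affineOpens) (t : G.1.obj (op (A : X.Opens))) :
    α.inv.app (op A) (α.hom.app (op A) t) = t :=
  ConcreteCategory.congr_hom (α.hom_inv_id_app (op A)) t

include α in
lemma cond_b : PairGlue F := by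
  intro U V W VW f g hVf hWg hVWfg hU hV hW h1 h2
  have hcover : (U : X.Opens) ≤ (V : X.Opens) ⊔ W := le_of_eq hU
  have hVW : (V : X.Opens) ⊓ W ≤ VW := by rw [hVf, hWg, hVWfg, Scheme.basicOpen_mul]
  constructor
  · intro s s' hss'
    have e1 : F.map (homOfLE hV).op s = F.map (homOfLE hV).op s' := congrArg Prod.fst hss'
    have e2 : F.map (homOfLE hW).op s = F.map (homOfLE hW).op s' := congrArg Prod.snd hss'
    have ht : α.inv.app (op U) s = α.inv.app (op U) s' := by
      refine G.eq_of_locally_eq₂ (homOfLE (show (V : X.Opens) ≤ U from hV))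
        (homOfLE (show (W : X.Opens) ≤ U from hW)) hcover _ _ ?_ ?_
      · rw [nat_inv G α hV, nat_inv G α hV, e1]
      · rw [nat_inv G α hW, nat_inv G α hW, e2]
    have := congrArg (α.hom.app (op U)) ht
    rwa [hom_inv, hom_inv] at this
  · ext p
    constructor
    · rintro ⟨s, rfl⟩
      change F.map (homOfLE h1).op (F.map (homOfLE hV).op s) =
        F.map (homOfLE h2).op (F.map (homOfLE hW).op s)
      rw [map_map, map_map]
    · intro hp
      have hp' : F.map (homOfLE h1).op p.1 = F.map (homOfLE h2).op p.2 := hp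
      have hcompat : G.1.map (Opens.infLELeft (V : X.Opens) W).op (α.inv.app (op V) p.1) =
          G.1.map (Opens.infLERight (V : X.Opens) W).op (α.inv.app (op W) p.2) := by
        have e3 : G.1.map (homOfLE (show (VW : X.Opens) ≤ V from h1)).op
            (α.inv.app (op V) p.1) =
            G.1.map (homOfLE (show (VW : X.Opens) ≤ W from h2)).op (α.inv.app (op W) p.2) := by
          rw [nat_inv G α h1, nat_inv G α h2, hp']
        have e4 := congrArg (G.1.map (homOfLE hVW).op) e3
        exact (G_map_map G hVW _ _).symm.trans (e4.trans (G_map_map G hVW _ _))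
      obtain ⟨t, ht1, ht2⟩ := glue₂ G (homOfLE (show (V : X.Opens) ≤ U from hV))
        (homOfLE (show (W : X.Opens) ≤ U from hW)) hcover (α.inv.app (op V) p.1)
        (α.inv.app (op W) p.2) hcompat
      refine ⟨α.hom.app (op U) t, Prod.ext ?_ ?_⟩
      · change F.map (homOfLE hV).op (α.hom.app (op U) t) = p.1
        rw [nat_hom G α hV, ht1, hom_inv]
      · change F.map (homOfLE hW).op (α.hom.app (op U) t) = p.2
        rw [nat_hom G α hW, ht2, hom_inv]

/-- A presheaf of sets on the affine opens of a scheme extends to a sheaf iff its value on the empty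
open is a singleton and it satisfies gluing for binary standard covers. -/
theorem main (X : Scheme.{u}) (F : (X.affineOpens)ᵒᵖ ⥤ Type u) (E : X.affineOpens)
    (hE : (E : X.Opens) = ⊥) :
    (∃ G : TopCat.Sheaf (Type u) X.carrier, Nonempty ((incl X).op ⋙ G.1 ≅ F)) ↔
      ((Nonempty (F.obj (op E)) ∧ Subsingleton (F.obj (op E))) ∧ PairGlue F) := by
  constructor
  · rintro ⟨G, ⟨α⟩⟩
    exact ⟨cond_a G α hE, cond_b G α⟩
  · rintro ⟨ha, hb⟩
    exact exists_sheaf hE ha hb

end Groth.Agent.Helper8.AffBasis
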