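import Mathlib
import Groth.Agent.Helper5.Rigid3

/-!
# Albanese of a product
-/

set_option autoImplicit false
universe u

open AlgebraicGeometry CategoryTheory CategoryTheory.Limits
open MonoidalCategory CartesianMonoidalCategory MonObj GrpObj

namespace Groth.Agent.Helper8.AlbProd

variable {k : Type u} [Field k] {X' Y' A B C : Over (Spec (CommRingCat.of k))}

/-- a morphism from a product, pointed, into a separated group scheme splits -/
theorem split [IsProper X'.hom] [GeometricallyIntegral X'.hom] [LocallyOfFiniteType Y'.hom]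
    [GeometricallyIntegral Y'.hom] [GrpObj C] [IsSeparated C.hom]
    (x₀ : 𝟙_ (Over (Spec (CommRingCat.of k))) ⟶ X') (y₀ : 𝟙_ (Over (Spec (CommRingCat.of k))) ⟶ Y')
    (g : X' ⊗ Y' ⟶ C) (hg : lift x₀ y₀ ≫ g = η[C]) :
    g = (fst X' Y' ≫ lift (𝟙 X') (toUnit X' ≫ y₀) ≫ g) *
      (snd X' Y' ≫ lift (toUnit Y' ≫ x₀) (𝟙 Y') ≫ g) := by
  set g₁ : X' ⟶ C := lift (𝟙 X') (toUnit X' ≫ y₀) ≫ g with hg₁
  set g₂ : Y' ⟶ C := lift (toUnit Y' ≫ x₀) (𝟙 Y') ≫ g with hg₂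
  have hx₀u : x₀ ≫ toUnit X' = 𝟙 _ := toUnit_unique _ _
  have hy₀u : y₀ ≫ toUnit Y' = 𝟙 _ := toUnit_unique _ _
  have h1 : x₀ ≫ g₁ = η[C] := by
    rw [hg₁, ← Category.assoc, comp_lift, Category.comp_id, ← Category.assoc, hx₀u,
      Category.id_comp, hg]
  have h2 : y₀ ≫ g₂ = η[C] := by
    rw [hg₂, ← Category.assoc, comp_lift, Category.comp_id, ← Category.assoc, hy₀u,
      Category.id_comp, hg]
  let F : X' ⊗ Y' ⟶ C := g * ((fst X' Y' ≫ g₁) * (snd X' Y' ≫ g₂))⁻¹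
  have hV : lift (𝟙 X') (toUnit X' ≫ y₀) ≫ F = toUnit X' ≫ η[C] := by
    show lift (𝟙 X') (toUnit X' ≫ y₀) ≫ (g * ((fst X' Y' ≫ g₁) * (snd X' Y' ≫ g₂))⁻¹) = _
    rw [MonObj.comp_mul, GrpObj.comp_inv, MonObj.comp_mul, ← Category.assoc _ (fst X' Y'),
      lift_fst, ← Category.assoc _ (snd X' Y'), lift_snd, Category.id_comp, Category.assoc, h2,
      ← Hom.one_def, _root_.mul_one, ← hg₁, mul_inv_cancel]
  have hW : lift (toUnit Y' ≫ x₀) (𝟙 Y') ≫ F = toUnit Y' ≫ η[C] := by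
    show lift (toUnit Y' ≫ x₀) (𝟙 Y') ≫ (g * ((fst X' Y' ≫ g₁) * (snd X' Y' ≫ g₂))⁻¹) = _
    rw [MonObj.comp_mul, GrpObj.comp_inv, MonObj.comp_mul, ← Category.assoc _ (fst X' Y'),
      lift_fst, ← Category.assoc _ (snd X' Y'), lift_snd, Category.id_comp, Category.assoc, h1,
      ← Hom.one_def, _root_.one_mul, ← hg₂, mul_inv_cancel]
  have hF : F = toUnit (X' ⊗ Y') ≫ η[C] :=
    Groth.Agent.Helper5.Rigid.s8117 F x₀ y₀ η[C] hV hW
  rw [← Hom.one_def] at hF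
  have : g * ((fst X' Y' ≫ g₁) * (snd X' Y' ≫ g₂))⁻¹ = 1 := hF
  exact mul_inv_eq_one.1 this

/-- images of two abelian varieties in a separated group scheme commute -/
theorem commute [GrpObj A] [IsProper A.hom] [GeometricallyIntegral A.hom]
    [GrpObj B] [LocallyOfFiniteType B.hom] [GeometricallyIntegral B.hom]
    [GrpObj C] [IsSeparated C.hom] (a : A ⟶ C) (b : B ⟶ C) [IsMonHom a] [IsMonHom b] :
    (fst A B ≫ a) * (snd A B ≫ b) = (snd A B ≫ b) * (fst A B ≫ a) := by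
  let K : A ⊗ B ⟶ C := (fst A B ≫ a) * (snd A B ≫ b) * (fst A B ≫ a)⁻¹ * (snd A B ≫ b)⁻¹
  have ha : η[A] ≫ a = η[C] := IsMonHom.one_hom a
  have hb : η[B] ≫ b = η[C] := IsMonHom.one_hom b
  have hV : lift (𝟙 A) (toUnit A ≫ η[B]) ≫ K = toUnit A ≫ η[C] := by
    show lift (𝟙 A) (toUnit A ≫ η[B]) ≫
      ((fst A B ≫ a) * (snd A B ≫ b) * (fst A B ≫ a)⁻¹ * (snd A B ≫ b)⁻¹) = _
    rw [MonObj.comp_mul, MonObj.comp_mul, MonObj.comp_mul, GrpObj.comp_inv, GrpObj.comp_inv,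
      ← Category.assoc _ (fst A B), lift_fst, ← Category.assoc _ (snd A B), lift_snd,
      Category.id_comp, Category.assoc, hb, ← Hom.one_def, _root_.mul_one, mul_inv_cancel,
      inv_one, _root_.mul_one]
  have hW : lift (toUnit B ≫ η[A]) (𝟙 B) ≫ K = toUnit B ≫ η[C] := by
    show lift (toUnit B ≫ η[A]) (𝟙 B) ≫
      ((fst A B ≫ a) * (snd A B ≫ b) * (fst A B ≫ a)⁻¹ * (snd A B ≫ b)⁻¹) = _
    rw [MonObj.comp_mul, MonObj.comp_mul, MonObj.comp_mul, GrpObj.comp_inv, GrpObj.comp_inv,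
      ← Category.assoc _ (fst A B), lift_fst, ← Category.assoc _ (snd A B), lift_snd,
      Category.id_comp, Category.assoc, ha, ← Hom.one_def, _root_.one_mul, inv_one,
      _root_.mul_one, mul_inv_cancel]
  have hK : K = toUnit (A ⊗ B) ≫ η[C] :=
    Groth.Agent.Helper5.Rigid.s8117 K η[A] η[B] η[C] hV hW
  rw [← Hom.one_def] at hK
  have : (fst A B ≫ a) * (snd A B ≫ b) * (fst A B ≫ a)⁻¹ * (snd A B ≫ b)⁻¹ = 1 := hK
  rw [mul_inv_eq_one, mul_inv_eq_iff_eq_mul] at this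
  exact this

/-- `(fst ≫ a) * (snd ≫ b)` is a homomorphism -/
theorem isMonHom_mul [GrpObj A] [IsProper A.hom] [GeometricallyIntegral A.hom]
    [GrpObj B] [LocallyOfFiniteType B.hom] [GeometricallyIntegral B.hom]
    [GrpObj C] [IsSeparated C.hom] (a : A ⟶ C) (b : B ⟶ C) [IsMonHom a] [IsMonHom b] :
    IsMonHom ((fst A B ≫ a) * (snd A B ≫ b)) := by
  have ha : η[A] ≫ a = η[C] := IsMonHom.one_hom a
  have hb : η[B] ≫ b = η[C] := IsMonHom.one_hom b
  have hcomm := commute a b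
  refine ⟨?_, ?_⟩
  · rw [MonObj.comp_mul, ← Category.assoc, IsMonHom.one_hom (fst A B), ha, ← Category.assoc,
      IsMonHom.one_hom (snd A B), hb, MonObj.one_eq_one, _root_.mul_one]
  · set p₁ := fst (A ⊗ B) (A ⊗ B) with hp₁
    set p₂ := snd (A ⊗ B) (A ⊗ B) with hp₂
    have hR : (((fst A B ≫ a) * (snd A B ≫ b)) ⊗ₘ ((fst A B ≫ a) * (snd A B ≫ b))) ≫ μ[C] =
        (p₁ ≫ ((fst A B ≫ a) * (snd A B ≫ b))) * (p₂ ≫ ((fst A B ≫ a) * (snd A B ≫ b))) := by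
      rw [Hom.mul_def (p₁ ≫ _), lift_fst_comp_snd_comp]
    have hcomm' : (p₂ ≫ fst A B ≫ a) * (p₁ ≫ snd A B ≫ b) =
        (p₁ ≫ snd A B ≫ b) * (p₂ ≫ fst A B ≫ a) := by
      have := congrArg (fun t => lift (p₂ ≫ fst A B) (p₁ ≫ snd A B) ≫ t) hcomm
      simp only [MonObj.comp_mul] at this
      rw [← Category.assoc _ (fst A B), lift_fst, ← Category.assoc _ (snd A B), lift_snd,
        Category.assoc, Category.assoc] at this
      exact this
    rw [hR, MonObj.mul_eq_mul, MonObj.comp_mul, MonObj.comp_mul, MonObj.comp_mul,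
      MonObj.mul_comp, MonObj.mul_comp]
    exact Commute.mul_mul_mul_comm hcomm' _ _

/-- the Albanese of a product -/
theorem main [IsProper X'.hom] [GeometricallyIntegral X'.hom]
    [IsProper Y'.hom] [GeometricallyIntegral Y'.hom]
    (x₀ : 𝟙_ (Over (Spec (CommRingCat.of k))) ⟶ X') (y₀ : 𝟙_ (Over (Spec (CommRingCat.of k))) ⟶ Y')
    [GrpObj A] [IsProper A.hom] [GeometricallyIntegral A.hom]
    (albX : X' ⟶ A) (halbX : x₀ ≫ albX = η[A])
    (hunivA : ∀ (C : Over (Spec (CommRingCat.of k))) [GrpObj C] [IsProper C.hom]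
      [GeometricallyReduced C.hom] [ConnectedSpace ↥C.left]
      (g : X' ⟶ C), x₀ ≫ g = η[C] → ∃! h : A ⟶ C, IsMonHom h ∧ albX ≫ h = g)
    [GrpObj B] [IsProper B.hom] [GeometricallyIntegral B.hom]
    (albY : Y' ⟶ B) (halbY : y₀ ≫ albY = η[B])
    (hunivB : ∀ (C : Over (Spec (CommRingCat.of k))) [GrpObj C] [IsProper C.hom]
      [GeometricallyReduced C.hom] [ConnectedSpace ↥C.left]
      (g : Y' ⟶ C), y₀ ≫ g = η[C] → ∃! h : B ⟶ C, IsMonHom h ∧ albY ≫ h = g)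
    (C : Over (Spec (CommRingCat.of k))) [GrpObj C] [IsProper C.hom] [GeometricallyReduced C.hom]
    [ConnectedSpace ↥C.left]
    (g : X' ⊗ Y' ⟶ C) (hg : lift x₀ y₀ ≫ g = η[C]) :
    ∃! h : A ⊗ B ⟶ C, IsMonHom h ∧ (albX ⊗ₘ albY) ≫ h = g := by
  have hx₀u : x₀ ≫ toUnit X' = 𝟙 _ := toUnit_unique _ _
  have hy₀u : y₀ ≫ toUnit Y' = 𝟙 _ := toUnit_unique _ _
  have h1 : x₀ ≫ lift (𝟙 X') (toUnit X' ≫ y₀) ≫ g = η[C] := by
    rw [← Category.assoc, comp_lift, Category.comp_id, ← Category.assoc, hx₀u,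
      Category.id_comp, hg]
  have h2 : y₀ ≫ lift (toUnit Y' ≫ x₀) (𝟙 Y') ≫ g = η[C] := by
    rw [← Category.assoc, comp_lift, Category.comp_id, ← Category.assoc, hy₀u,
      Category.id_comp, hg]
  obtain ⟨a, ⟨hma, haa⟩, hua⟩ := hunivA C _ h1
  obtain ⟨b, ⟨hmb, hbb⟩, hub⟩ := hunivB C _ h2
  have hsplit := split x₀ y₀ g hg
  have hmh : IsMonHom ((fst A B ≫ a) * (snd A B ≫ b)) := isMonHom_mul a b
  have hfac : (albX ⊗ₘ albY) ≫ ((fst A B ≫ a) * (snd A B ≫ b)) = g := by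
    have e1 : (albX ⊗ₘ albY) ≫ fst A B ≫ a =
        fst X' Y' ≫ lift (𝟙 X') (toUnit X' ≫ y₀) ≫ g := by
      rw [← Category.assoc, tensorHom_fst, Category.assoc, haa]
    have e2 : (albX ⊗ₘ albY) ≫ snd A B ≫ b =
        snd X' Y' ≫ lift (toUnit Y' ≫ x₀) (𝟙 Y') ≫ g := by
      rw [← Category.assoc, tensorHom_snd, Category.assoc, hbb]
    rw [MonObj.comp_mul, e1, e2]
    exact hsplit.symm
  refine ⟨(fst A B ≫ a) * (snd A B ≫ b), ⟨hmh, hfac⟩, ?_⟩
  rintro u ⟨hmu, hu⟩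
  have halbXu : albX ≫ toUnit A = toUnit X' := toUnit_unique _ _
  have halbYu : albY ≫ toUnit B = toUnit Y' := toUnit_unique _ _
  have hu₁ : lift (𝟙 A) (toUnit A ≫ η[B]) ≫ u = a := by
    refine hua _ ⟨inferInstance, ?_⟩
    rw [← hu, ← Category.assoc _ (albX ⊗ₘ albY), lift_map, Category.id_comp, Category.assoc,
      halbY, ← Category.assoc albX, comp_lift, Category.comp_id, ← Category.assoc albX,
      halbXu]
  have hu₂ : lift (toUnit B ≫ η[A]) (𝟙 B) ≫ u = b := by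
    refine hub _ ⟨inferInstance, ?_⟩
    rw [← hu, ← Category.assoc _ (albX ⊗ₘ albY), lift_map, Category.id_comp, Category.assoc,
      halbX, ← Category.assoc albY, comp_lift, Category.comp_id, ← Category.assoc albY,
      halbYu]
  rw [← hu₁, ← hu₂, ← Category.assoc (fst A B), ← Category.assoc (snd A B), ← MonObj.mul_comp]
  have hst : (fst A B ≫ lift (𝟙 A) (toUnit A ≫ η[B])) * (snd A B ≫ lift (toUnit B ≫ η[A]) (𝟙 B)) =
      𝟙 (A ⊗ B) := by
    apply CartesianMonoidalCategory.hom_ext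
    · rw [MonObj.mul_comp, Category.assoc, lift_fst, Category.assoc, lift_fst, Category.comp_id,
        Category.id_comp, ← Category.assoc, toUnit_unique (snd A B ≫ toUnit B) (toUnit _),
        ← Hom.one_def, _root_.mul_one]
    · rw [MonObj.mul_comp, Category.assoc, lift_snd, Category.assoc, lift_snd, Category.comp_id,
        Category.id_comp, ← Category.assoc, toUnit_unique (fst A B ≫ toUnit A) (toUnit _),
        ← Hom.one_def, _root_.one_mul]
  rw [hst, Category.id_comp]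

end Groth.Agent.Helper8.AlbProd
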