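import Mathlib

set_option autoImplicit false
universe u
open TensorProduct Cardinal

namespace Groth.Agent.Helper8.AlgClIso

/-- Two algebraically closed fields over a common base ring with the same transcendence degree
are isomorphic over the base. -/
theorem exists_equiv (R : Type u) [CommRing R] (K L : Type u) [Field K] [Field L]
    [Algebra R K] [Algebra R L] [IsAlgClosed K] [IsAlgClosed L]
    [FaithfulSMul R K] [FaithfulSMul R L]
    (h : Algebra.trdeg R K = Algebra.trdeg R L) :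
    ∃ e : K ≃+* L, ∀ r : R, e (algebraMap R K r) = algebraMap R L r := by
  have : Nontrivial R := RingHom.domain_nontrivial (algebraMap R K)
  obtain ⟨s, hs⟩ := exists_isTranscendenceBasis R K
  obtain ⟨t, ht⟩ := exists_isTranscendenceBasis R L
  have hc : #s = #t := by
    rw [hs.cardinalMk_eq_trdeg, ht.cardinalMk_eq_trdeg, h]
  obtain ⟨e⟩ := Cardinal.eq.mp hc
  letI := IsAlgClosed.isAlgClosure_of_transcendence_basis _ hs
  letI := IsAlgClosed.isAlgClosure_of_transcendence_basis _ ht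
  let e1 : Algebra.adjoin R (Set.range ((↑) : s → K)) ≃ₐ[R]
      Algebra.adjoin R (Set.range ((↑) : t → L)) :=
    hs.1.aevalEquiv.symm.trans ((MvPolynomial.renameEquiv R e).trans ht.1.aevalEquiv)
  refine ⟨IsAlgClosure.equivOfEquiv K L e1.toRingEquiv, fun r => ?_⟩
  have h1 : algebraMap R K r = algebraMap (Algebra.adjoin R (Set.range ((↑) : s → K))) K
      (algebraMap R _ r) := rfl
  rw [h1, IsAlgClosure.equivOfEquiv_algebraMap]
  have h2 : e1.toRingEquiv (algebraMap R _ r) = algebraMap R _ r := e1.commutes r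
  rw [h2]
  rfl

theorem card_aux (a b c : Cardinal.{u}) (h : a + b = c) (ha : a < ℵ₀) (hc : ℵ₀ ≤ c) : b = c := by
  have hb : ℵ₀ ≤ b := by
    by_contra hb
    rw [not_le] at hb
    exact absurd hc (not_le.mpr (h ▸ Cardinal.add_lt_aleph0 ha hb))
  rw [← h, Cardinal.add_eq_right hb (ha.le.trans hb)]

end Groth.Agent.Helper8.AlgClIso

namespace Groth.Agent.Helper8.AlgClIso

theorem main' (k₀ k : Type u)
    [Field k₀] [Field k] [Algebra k₀ k] [IsAlgClosed k] (hinf : ∃ x : ℕ → k, AlgebraicIndependent k₀ x)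
    (R₀ : Type u) [CommRing R₀] [Algebra k₀ R₀] [Algebra.FiniteType k₀ R₀]
    (A : Type u) [CommRing A] [IsDomain A] [Algebra k A] [Algebra k₀ A] [IsScalarTower k₀ k A]
    [Algebra.FiniteType k A]
    (incl : R₀ →ₐ[k₀] A) (hincl : Function.Injective incl)
    (Ω : Type u) [Field Ω] [IsAlgClosed Ω] [Algebra A Ω] [Algebra.IsAlgebraic A Ω]
    [FaithfulSMul A Ω]
    (ev : A →ₐ[k] k) (hP : Function.Injective fun r : R₀ => ev (incl r)) :
    ∃ e : Ω ≃+* k, ∀ r : R₀, e (algebraMap A Ω (incl r)) = ev (incl r) := by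
  letI algRk : Algebra R₀ k := (ev.toRingHom.comp incl.toRingHom).toAlgebra
  letI algRΩ : Algebra R₀ Ω := ((algebraMap A Ω).comp incl.toRingHom).toAlgebra
  letI algkΩ : Algebra k Ω := ((algebraMap A Ω).comp (algebraMap k A)).toAlgebra
  letI algk₀Ω : Algebra k₀ Ω := ((algebraMap A Ω).comp (algebraMap k₀ A)).toAlgebra
  have hRk : ∀ r, algebraMap R₀ k r = ev (incl r) := fun r => rfl
  have hRΩ : ∀ r, algebraMap R₀ Ω r = algebraMap A Ω (incl r) := fun r => rfl
  have hkΩ : ∀ r, algebraMap k Ω r = algebraMap A Ω (algebraMap k A r) := fun r => rfl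
  have hk₀Ω : ∀ r, algebraMap k₀ Ω r = algebraMap A Ω (algebraMap k₀ A r) := fun r => rfl
  haveI : Nontrivial R₀ := by
    by_contra hn
    rw [not_nontrivial_iff_subsingleton] at hn
    have : (1 : A) = 0 := by
      rw [← map_one incl, Subsingleton.elim (1 : R₀) 0, map_zero]
    exact one_ne_zero this
  haveI t1 : IsScalarTower k₀ R₀ k := IsScalarTower.of_algebraMap_eq fun c => by
    rw [hRk, incl.commutes, IsScalarTower.algebraMap_apply k₀ k A, ev.commutes]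
    rfl
  haveI t2 : IsScalarTower k₀ R₀ Ω := IsScalarTower.of_algebraMap_eq fun c => by
    rw [hRΩ, incl.commutes, hk₀Ω]
  haveI t3 : IsScalarTower k₀ k Ω := IsScalarTower.of_algebraMap_eq fun c => by
    rw [hkΩ, hk₀Ω, ← IsScalarTower.algebraMap_apply k₀ k A]
  haveI t4 : IsScalarTower k A Ω := IsScalarTower.of_algebraMap_eq fun c => by
    rw [hkΩ]
  haveI f1 : FaithfulSMul R₀ k := (faithfulSMul_iff_algebraMap_injective R₀ k).mpr hP
  haveI f2 : FaithfulSMul R₀ Ω := (faithfulSMul_iff_algebraMap_injective R₀ Ω).mpr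
    ((FaithfulSMul.algebraMap_injective A Ω).comp hincl)
  haveI f3 : FaithfulSMul k₀ R₀ := inferInstance
  -- trdeg computations
  have c1 : Algebra.trdeg k₀ R₀ < ℵ₀ := trdeg_lt_aleph0_of_finiteType
  have c2 : Algebra.trdeg k₀ R₀ + Algebra.trdeg R₀ k = Algebra.trdeg k₀ k :=
    trdeg_add_eq k₀ R₀ (A := k)
  have c3 : ℵ₀ ≤ Algebra.trdeg k₀ k := by
    obtain ⟨x, hx⟩ := hinf
    have := hx.lift_cardinalMk_le_trdeg
    simpa using this
  have c4 : Algebra.trdeg R₀ k = Algebra.trdeg k₀ k := card_aux _ _ _ c2 c1 c3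
  have c5 : Algebra.trdeg k₀ R₀ + Algebra.trdeg R₀ Ω = Algebra.trdeg k₀ Ω :=
    trdeg_add_eq k₀ R₀ (A := Ω)
  have c6 : Algebra.trdeg k₀ k + Algebra.trdeg k Ω = Algebra.trdeg k₀ Ω :=
    trdeg_add_eq k₀ k (A := Ω)
  have c7 : Algebra.trdeg k A + Algebra.trdeg A Ω = Algebra.trdeg k Ω :=
    trdeg_add_eq k A (A := Ω)
  have c8 : Algebra.trdeg A Ω = 0 := trdeg_eq_zero
  have c9 : Algebra.trdeg k A < ℵ₀ := trdeg_lt_aleph0_of_finiteType
  have c10 : Algebra.trdeg k Ω < ℵ₀ := by rw [← c7, c8, add_zero]; exact c9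
  have c11 : Algebra.trdeg k₀ Ω = Algebra.trdeg k₀ k := by
    rw [← c6, Cardinal.add_eq_left c3 (c10.le.trans c3)]
  have c12 : Algebra.trdeg R₀ Ω = Algebra.trdeg k₀ Ω := card_aux _ _ _ c5 c1 (c11 ▸ c3)
  obtain ⟨e, he⟩ := exists_equiv R₀ Ω k (by rw [c12, c11, c4])
  exact ⟨e, fun r => he r⟩

theorem main (k₀ k : Type u)
    [Field k₀] [Field k] [Algebra k₀ k] [IsAlgClosed k] (hinf : ∃ x : ℕ → k, AlgebraicIndependent k₀ x)
    (R₀ : Type u) [CommRing R₀] [Algebra k₀ R₀] [Algebra.FiniteType k₀ R₀] [IsDomain (k ⊗[k₀] R₀)]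
    (ev : k ⊗[k₀] R₀ →ₐ[k] k) (hP : Function.Injective fun r : R₀ => ev (1 ⊗ₜ[k₀] r)) :
    ∃ e : AlgebraicClosure (FractionRing (k ⊗[k₀] R₀)) ≃+* k,
      ∀ r : R₀, e (algebraMap (k ⊗[k₀] R₀) (AlgebraicClosure (FractionRing (k ⊗[k₀] R₀)))
        (1 ⊗ₜ[k₀] r)) = ev (1 ⊗ₜ[k₀] r) := by
  haveI : Algebra.IsAlgebraic (k ⊗[k₀] R₀) (FractionRing (k ⊗[k₀] R₀)) :=
    IsLocalization.isAlgebraic _ (nonZeroDivisors (k ⊗[k₀] R₀))
  haveI : Algebra.IsAlgebraic (k ⊗[k₀] R₀) (AlgebraicClosure (FractionRing (k ⊗[k₀] R₀))) :=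
    Algebra.IsAlgebraic.trans _ (FractionRing (k ⊗[k₀] R₀)) _
  haveI : FaithfulSMul (k ⊗[k₀] R₀) (AlgebraicClosure (FractionRing (k ⊗[k₀] R₀))) :=
    (faithfulSMul_iff_algebraMap_injective _ _).mpr (by
      rw [IsScalarTower.algebraMap_eq (k ⊗[k₀] R₀) (FractionRing (k ⊗[k₀] R₀))]
      exact (RingHom.injective (algebraMap (FractionRing (k ⊗[k₀] R₀)) _)).comp
        (IsFractionRing.injective (k ⊗[k₀] R₀) (FractionRing (k ⊗[k₀] R₀))))
  exact main' k₀ k hinf R₀ (k ⊗[k₀] R₀) Algebra.TensorProduct.includeRight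
    (Algebra.TensorProduct.includeRight_injective (FaithfulSMul.algebraMap_injective k₀ k))
    _ ev hP

end Groth.Agent.Helper8.AlgClIso
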