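import Mathlib

/-!
# An algebraically closed overfield with an automorphism exchanging two embeddings of a subfield
-/

set_option linter.style.haveILetI false
set_option linter.unusedSectionVars false
set_option autoImplicit false

universe u

open Cardinal

namespace Groth.Agent.Helper8.AlgClosedAut

/-- a transcendence basis of a large algebraically closed field has the cardinality of the field -/
theorem mk_transcendenceBasis {R K : Type u} [Field R] [Field K] [Algebra R K] [IsAlgClosed K]
    (hK : max #R ℵ₀ < #K) (s : Set K) (hs : IsTranscendenceBasis R ((↑) : s → K)) : #s = #K := by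
  apply le_antisymm (mk_set_le s)
  by_contra hlt
  push_neg at hlt
  have h1 := IsAlgClosed.cardinal_le_max_transcendence_basis' ((↑) : s → K) hs
  have h2 : max (max #R #s) ℵ₀ < #K := by
    apply max_lt (max_lt ((le_max_left _ _).trans_lt hK) hlt) ((le_max_right _ _).trans_lt hK)
  exact absurd h1 (not_le.mpr h2)

/-- two large algebraically closed fields of the same cardinality over a field are isomorphic over
it -/
theorem exists_ringEquiv {R K L : Type u} [Field R] [Field K] [Field L] [Algebra R K] [Algebra R L]
    [IsAlgClosed K] [IsAlgClosed L] (hK : max #R ℵ₀ < #K) (hKL : #K = #L) :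
    ∃ e : K ≃+* L, ∀ r, e (algebraMap R K r) = algebraMap R L r := by
  obtain ⟨s, hs⟩ := exists_isTranscendenceBasis R K
  obtain ⟨t, ht⟩ := exists_isTranscendenceBasis R L
  have h1 : #s = #K := mk_transcendenceBasis hK s hs
  have h2 : #t = #L := mk_transcendenceBasis (hKL ▸ hK) t ht
  obtain ⟨e₀⟩ : Nonempty (s ≃ t) := Cardinal.eq.mp (by rw [h1, h2, hKL])
  letI := IsAlgClosed.isAlgClosure_of_transcendence_basis ((↑) : s → K) hs
  letI := IsAlgClosed.isAlgClosure_of_transcendence_basis ((↑) : t → L) ht
  let E : Algebra.adjoin R (Set.range ((↑) : s → K)) ≃ₐ[R]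
      Algebra.adjoin R (Set.range ((↑) : t → L)) :=
    hs.1.aevalEquiv.symm.trans ((MvPolynomial.renameEquiv R e₀).trans ht.1.aevalEquiv)
  refine ⟨IsAlgClosure.equivOfEquiv K L E.toRingEquiv, fun r => ?_⟩
  have h3 : algebraMap R K r =
      algebraMap (Algebra.adjoin R (Set.range ((↑) : s → K))) K (algebraMap R _ r) := rfl
  rw [h3, IsAlgClosure.equivOfEquiv_algebraMap]
  change algebraMap _ L (E (algebraMap R _ r)) = _
  rw [E.commutes]
  rfl

/-- for two embeddings `σ τ : k → κ` of fields there is an algebraically closed overfield `L` of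
`κ` with an automorphism carrying `τ` to `σ` -/
theorem exists_aut (k κ : Type u) [Field k] [Field κ] (σ τ : k →+* κ) :
    ∃ (L : Type u) (_ : Field L) (_ : IsAlgClosed L) (j : κ →+* L) (φ : L ≃+* L),
      ∀ c, φ (j (τ c)) = j (σ c) := by
  let I : Type u := Set (k ⊕ ULift.{u} ℕ)
  let L : Type u := AlgebraicClosure (FractionRing (MvPolynomial I κ))
  let j : κ →+* L := (algebraMap (FractionRing (MvPolynomial I κ)) L).comp
    ((algebraMap (MvPolynomial I κ) (FractionRing (MvPolynomial I κ))).comp
      (MvPolynomial.C))
  have hinj : Function.Injective (fun i : I => algebraMap (FractionRing (MvPolynomial I κ)) L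
      (algebraMap (MvPolynomial I κ) (FractionRing (MvPolynomial I κ)) (MvPolynomial.X i))) := by
    intro a b hab
    have h1 := (algebraMap (FractionRing (MvPolynomial I κ)) L).injective hab
    have h2 := IsFractionRing.injective (MvPolynomial I κ) (FractionRing (MvPolynomial I κ)) h1
    exact MvPolynomial.X_injective h2
  have hIL : #I ≤ #L := Cardinal.mk_le_of_injective hinj
  have hI : max #k ℵ₀ < #I := by
    have h1 : #I = 2 ^ #(k ⊕ ULift.{u} ℕ) := Cardinal.mk_set
    have h2 : #(k ⊕ ULift.{u} ℕ) = #k + ℵ₀ := by
      rw [Cardinal.mk_sum]; simp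
    rw [h1, h2]
    refine lt_of_le_of_lt ?_ (Cardinal.cantor _)
    exact max_le (self_le_add_right _ _) (self_le_add_left _ _)
  have hL : max #k ℵ₀ < #L := hI.trans_le hIL
  obtain ⟨e, he⟩ := @exists_ringEquiv k L L _ _ _ (j.comp τ).toAlgebra (j.comp σ).toAlgebra
    _ _ hL rfl
  exact ⟨L, inferInstance, inferInstance, j, e, fun c => he c⟩

end Groth.Agent.Helper8.AlgClosedAut
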