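import Mathlib
import Groth.Agent.Helper5.FtDim4

/-!
# Algebraic independence of a generic linear combination (S7199)
-/

namespace Groth.Agent.Helper8.AlgIndSpec

noncomputable section

universe u

section Krull

variable {k A : Type u} [Field k] [CommRing A] [IsDomain A] [Algebra k A]

/-- from a nontrivial relation `F(g1, g0) = 0` one gets `u * g1 ^ b ∈ (g0)` with `u ∉ p`. -/
lemma exists_unit_mul_pow_mem (g0 g1 : A) (p : Ideal A) [hp : p.IsPrime] (h1 : g1 ∈ p)
    (hg0 : g0 ≠ 0) :
    ∀ (d : ℕ) (F : Polynomial (Polynomial k)), F.natDegree ≤ d → F ≠ 0 →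
      Polynomial.aevalAeval g1 g0 F = 0 →
      ∃ (b : ℕ) (u : A), u ∉ p ∧ u * g1 ^ b ∈ Ideal.span {g0} := by
  intro d
  induction d with
  | zero =>
    intro F hd hF hev
    have hF' : F = Polynomial.C (F.coeff 0) := Polynomial.eq_C_of_natDegree_le_zero hd
    have hb0 : F.coeff 0 ≠ 0 := by
      intro h
      rw [h, map_zero] at hF'
      exact hF hF'
    exact aux F hF hev hb0
  | succ d ih =>
    intro F hd hF hev
    by_cases hb0 : F.coeff 0 = 0
    · have hdec : F.divX * Polynomial.X = F := by
        have := Polynomial.divX_mul_X_add F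
        rwa [hb0, map_zero, add_zero] at this
      have hne : F.divX ≠ 0 := by
        intro h
        rw [h, zero_mul] at hdec
        exact hF hdec.symm
      have hev' : Polynomial.aevalAeval g1 g0 F.divX = 0 := by
        rw [← hdec, map_mul, Polynomial.aevalAeval_Y] at hev
        exact (mul_eq_zero.1 hev).resolve_right hg0
      refine ih F.divX ?_ hne hev'
      rw [Polynomial.natDegree_divX_eq_natDegree_tsub_one]
      omega
    · exact aux F hF hev hb0
where
  aux (F : Polynomial (Polynomial k)) (_hF : F ≠ 0)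
      (hev : Polynomial.aevalAeval g1 g0 F = 0) (hb0 : F.coeff 0 ≠ 0) :
      ∃ (b : ℕ) (u : A), u ∉ p ∧ u * g1 ^ b ∈ Ideal.span {g0} := by
    obtain ⟨w, hw1, hw2⟩ :=
      Polynomial.exists_eq_pow_rootMultiplicity_mul_and_not_dvd (F.coeff 0) hb0 0
    rw [map_zero, sub_zero] at hw1 hw2
    set b := Polynomial.rootMultiplicity 0 (F.coeff 0)
    have hw0 : w.coeff 0 ≠ 0 := fun h => hw2 (Polynomial.X_dvd_iff.2 h)
    refine ⟨b, Polynomial.aeval g1 w, ?_, ?_⟩
    · intro hmem
      have h2 : w = w.divX * Polynomial.X + Polynomial.C (w.coeff 0) :=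
        (Polynomial.divX_mul_X_add w).symm
      have h3 : Polynomial.aeval g1 w =
          Polynomial.aeval g1 w.divX * g1 + algebraMap k A (w.coeff 0) := by
        conv_lhs => rw [h2]
        rw [map_add, map_mul, Polynomial.aeval_X, Polynomial.aeval_C]
      have h4 : algebraMap k A (w.coeff 0) ∈ p := by
        have h5 : algebraMap k A (w.coeff 0) =
            Polynomial.aeval g1 w - Polynomial.aeval g1 w.divX * g1 := by
          rw [h3]; ring
        rw [h5]
        exact Ideal.sub_mem _ hmem (Ideal.mul_mem_left _ _ h1)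
      have h6 : IsUnit (algebraMap k A (w.coeff 0)) := (IsUnit.mk0 _ hw0).map _
      exact hp.ne_top (Ideal.eq_top_of_isUnit_mem _ h4 h6)
    · have hdec := Polynomial.divX_mul_X_add F
      have h2 : Polynomial.aevalAeval g1 g0 F =
          Polynomial.aevalAeval g1 g0 F.divX * g0 + Polynomial.aeval g1 (F.coeff 0) := by
        conv_lhs => rw [← hdec]
        rw [map_add, map_mul, Polynomial.aevalAeval_Y, Polynomial.aevalAeval_C]
      have h3 : Polynomial.aeval g1 (F.coeff 0) = g1 ^ b * Polynomial.aeval g1 w := by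
        conv_lhs => rw [hw1]
        rw [map_mul, map_pow, Polynomial.aeval_X]
      have h4 : Polynomial.aeval g1 w * g1 ^ b =
          -(Polynomial.aevalAeval g1 g0 F.divX) * g0 := by
        rw [mul_comm, ← h3]
        rw [hev] at h2
        linear_combination -h2
      rw [h4]
      exact Ideal.mul_mem_left _ _ (Ideal.mem_span_singleton_self g0)

/-- a minimal prime over `(g0, g1)` has height at most one if `g0, g1` satisfy a nontrivial
polynomial relation. -/
theorem height_le_one_of_relation [IsNoetherianRing A] (g0 g1 : A) (p : Ideal A)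
    (hp : p ∈ (Ideal.span {g0, g1}).minimalPrimes)
    (F : Polynomial (Polynomial k)) (hF : F ≠ 0)
    (hev : Polynomial.aevalAeval g1 g0 F = 0) : p.height ≤ 1 := by
  haveI hpp : p.IsPrime := hp.1.1
  have h0 : g0 ∈ p := hp.1.2 (Ideal.subset_span (by simp))
  have h1 : g1 ∈ p := hp.1.2 (Ideal.subset_span (by simp))
  by_cases hg0 : g0 = 0
  · have hspan : Ideal.span {g0, g1} = Ideal.span {g1} := by
      rw [hg0]
      apply le_antisymm
      · rw [Ideal.span_le]
        rintro x hx
        rcases hx with rfl | rfl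
        · exact Ideal.zero_mem _
        · exact Ideal.mem_span_singleton_self _
      · exact Ideal.span_mono (by simp)
    rw [hspan] at hp
    haveI : (Ideal.span {g1}).IsPrincipal := ⟨⟨g1, rfl⟩⟩
    exact Ideal.height_le_one_of_isPrincipal_of_mem_minimalPrimes _ p hp
  · obtain ⟨b, u, hu, hmem⟩ := exists_unit_mul_pow_mem g0 g1 p h1 hg0 F.natDegree F le_rfl hF hev
    have hp' : p ∈ (Ideal.span {g0}).minimalPrimes := by
      refine ⟨⟨hpp, (Ideal.span_singleton_le_iff_mem _).2 h0⟩, ?_⟩
      rintro q ⟨hq, hq0⟩ hqp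
      have hg0q : g0 ∈ q := (Ideal.span_singleton_le_iff_mem _).1 hq0
      have h2 : u * g1 ^ b ∈ q := hq0 hmem
      have hu' : u ∉ q := fun h => hu (hqp h)
      have hg1q : g1 ∈ q := hq.mem_of_pow_mem b ((hq.mem_or_mem h2).resolve_left hu')
      have hle : Ideal.span {g0, g1} ≤ q := by
        rw [Ideal.span_le]
        rintro x hx
        rcases hx with rfl | rfl
        · exact hg0q
        · exact hg1q
      exact hp.2 ⟨hq, hle⟩ hqp
    haveI : (Ideal.span {g0}).IsPrincipal := ⟨⟨g0, rfl⟩⟩
    exact Ideal.height_le_one_of_isPrincipal_of_mem_minimalPrimes _ p hp'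

end Krull

section Spec

variable {D : Type*} [CommRing D] [IsDomain D] [Infinite D] {A : Type*} [CommRing A]
  [Algebra D A] {N : ℕ} (g : Fin N → A)

/-- the generic linear combination -/
def genLin : MvPolynomial (Fin N) A := ∑ i, MvPolynomial.C (g i) * MvPolynomial.X i

/-- the evaluation of `Q ∈ D[Y][T]` at `Y = X`, `T = genLin`. -/
def evQ : Polynomial (MvPolynomial (Fin N) D) →+* MvPolynomial (Fin N) A :=
  Polynomial.eval₂RingHom (MvPolynomial.map (algebraMap D A)) (genLin g)

/-- the point evaluation -/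
def evPt (ξ : Fin N → D) : MvPolynomial (Fin N) A →+* A :=
  MvPolynomial.eval (fun i => algebraMap D A (ξ i))

/-- the specialised linear combination. -/
def yξ (ξ : Fin N → D) : A := ∑ i, ξ i • g i

lemma evPt_genLin (ξ : Fin N → D) : evPt ξ (genLin g) = yξ g ξ := by
  rw [genLin, yξ, map_sum]
  refine Finset.sum_congr rfl fun i _ => ?_
  rw [map_mul, evPt, MvPolynomial.eval_C, MvPolynomial.eval_X, Algebra.smul_def, mul_comm]

lemma evPt_map (ξ : Fin N → D) (q : MvPolynomial (Fin N) D) :
    evPt ξ (MvPolynomial.map (algebraMap D A) q) = algebraMap D A (MvPolynomial.eval ξ q) := by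
  have h : (evPt (A := A) ξ).comp (MvPolynomial.map (algebraMap D A)) =
      (algebraMap D A).comp (MvPolynomial.eval ξ) := by
    refine MvPolynomial.ringHom_ext (fun a => ?_) (fun i => ?_)
    · simp [evPt]
    · simp [evPt]
  exact RingHom.congr_fun h q

lemma evPt_evQ (ξ : Fin N → D) (Q : Polynomial (MvPolynomial (Fin N) D)) :
    evPt ξ (evQ g Q) = Polynomial.aeval (yξ g ξ) (Q.map (MvPolynomial.eval ξ)) := by
  have h : (evPt (A := A) ξ).comp (evQ g) =
      (Polynomial.aeval (R := D) (yξ g ξ)).toRingHom.comp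
        (Polynomial.mapRingHom (MvPolynomial.eval ξ)) := by
    refine Polynomial.ringHom_ext (fun q => ?_) ?_
    · change evPt ξ (evQ g (Polynomial.C q)) =
        Polynomial.aeval (yξ g ξ) ((Polynomial.C q).map (MvPolynomial.eval ξ))
      rw [evQ, Polynomial.coe_eval₂RingHom, Polynomial.eval₂_C, evPt_map, Polynomial.map_C,
        Polynomial.aeval_C]
    · change evPt ξ (evQ g Polynomial.X) =
        Polynomial.aeval (yξ g ξ) ((Polynomial.X).map (MvPolynomial.eval ξ))
      rw [evQ, Polynomial.coe_eval₂RingHom, Polynomial.eval₂_X, evPt_genLin, Polynomial.map_X,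
        Polynomial.aeval_X]
  exact RingHom.congr_fun h Q

/-- **specialisation**: if a nonzero `Q ∈ D[Y][T]` kills the generic linear combination, then
all the `g i` are algebraic over `D`. -/
theorem isAlgebraic_of_evQ_eq_zero (Q : Polynomial (MvPolynomial (Fin N) D)) (hQ : Q ≠ 0)
    (h : evQ g Q = 0) (i : Fin N) : IsAlgebraic D (g i) := by
  classical
  set q0 := Q.leadingCoeff with hq0def
  have hq0 : q0 ≠ 0 := Polynomial.leadingCoeff_ne_zero.2 hQ
  have key : ∀ ξ : Fin N → D, MvPolynomial.eval ξ q0 ≠ 0 → IsAlgebraic D (yξ g ξ) := by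
    intro ξ hξ
    refine ⟨Q.map (MvPolynomial.eval ξ), ?_, ?_⟩
    · intro h0
      apply hξ
      have := congrArg (fun P => Polynomial.coeff P Q.natDegree) h0
      simpa [Polynomial.coeff_map] using this
    · rw [← evPt_evQ, h, map_zero]
  obtain ⟨ξ0, hξ0⟩ : ∃ ξ0 : Fin N → D, MvPolynomial.eval ξ0 q0 ≠ 0 := by
    by_contra hcon
    push_neg at hcon
    exact hq0 (MvPolynomial.funext fun x => by rw [hcon x, map_zero])
  -- the restriction to a line
  let f : Fin N → Polynomial D := fun l => Polynomial.C (ξ0 l) + if l = i then Polynomial.X else 0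
  let hpoly : Polynomial D := MvPolynomial.aeval f q0
  have heval : ∀ s : D, Polynomial.eval s hpoly =
      MvPolynomial.eval (fun l => ξ0 l + if l = i then s else 0) q0 := by
    intro s
    have h1 : (Polynomial.evalRingHom s).comp (MvPolynomial.aeval (R := D) f).toRingHom =
        MvPolynomial.eval (fun l => ξ0 l + if l = i then s else 0) := by
      refine MvPolynomial.ringHom_ext (fun a => ?_) (fun l => ?_)
      · simp
      · by_cases hl : l = i <;> simp [f, hl]
    exact RingHom.congr_fun h1 q0
  have h0 : Polynomial.eval 0 hpoly ≠ 0 := by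
    rw [heval]
    have : (fun l => ξ0 l + if l = i then (0 : D) else 0) = ξ0 := by
      funext l; by_cases hl : l = i <;> simp [hl]
    rw [this]
    exact hξ0
  have hne : hpoly ≠ 0 := by
    intro hz
    rw [hz, Polynomial.eval_zero] at h0
    exact h0 rfl
  obtain ⟨s, hs⟩ := Infinite.exists_notMem_finset (insert 0 hpoly.roots.toFinset)
  have hs0 : s ≠ 0 := fun hz => hs (hz ▸ Finset.mem_insert_self _ _)
  have hsr : Polynomial.eval s hpoly ≠ 0 := by
    intro hz
    apply hs
    refine Finset.mem_insert_of_mem (Multiset.mem_toFinset.2 ?_)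
    exact (Polynomial.mem_roots hne).2 hz
  rw [heval] at hsr
  have ha1 := key _ hsr
  have ha0 := key _ hξ0
  have hdiff : yξ g (fun l => ξ0 l + if l = i then s else 0) - yξ g ξ0 = s • g i := by
    rw [yξ, yξ, ← Finset.sum_sub_distrib]
    have : ∀ l, (ξ0 l + if l = i then s else 0) • g l - ξ0 l • g l =
        if l = i then s • g i else 0 := by
      intro l
      by_cases hl : l = i
      · subst hl; simp [add_smul]
      · simp [hl]
    rw [Finset.sum_congr rfl fun l _ => this l, Finset.sum_ite_eq' Finset.univ i]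
    simp
  have hsub : IsAlgebraic D (s • g i) := hdiff ▸ ha1.sub ha0
  exact IsAlgebraic.of_smul (mem_nonZeroDivisors_of_ne_zero hs0) hsub

end Spec

end

end Groth.Agent.Helper8.AlgIndSpec
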