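import Mathlib
import Groth.Agent.Helper5.FtDim4
import Groth.Agent.Helper8.AlgIndSpec

/-!
# Algebraic independence of a generic linear combination (S7199), assembly
-/

namespace Groth.Agent.Helper8.AlgIndSpec

noncomputable section

universe u

section Theta

variable (k : Type u) [Field k] (N : ℕ)

/-- the images of the variables. -/
def thetaFam : Fin N ⊕ Fin 2 → Polynomial (MvPolynomial (Fin N) (Polynomial k)) :=
  Sum.elim (fun i => Polynomial.C (MvPolynomial.X i))
    ![Polynomial.X, Polynomial.C (MvPolynomial.C Polynomial.X)]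

/-- regrouping the variables. -/
def Θ : MvPolynomial (Fin N ⊕ Fin 2) k →ₐ[k] Polynomial (MvPolynomial (Fin N) (Polynomial k)) :=
  MvPolynomial.aeval (thetaFam k N)

/-- a retraction of `Θ`. -/
def Θ' : Polynomial (MvPolynomial (Fin N) (Polynomial k)) →+* MvPolynomial (Fin N ⊕ Fin 2) k :=
  Polynomial.eval₂RingHom
    (MvPolynomial.eval₂Hom
      (Polynomial.aeval (R := k)
        (MvPolynomial.X (Sum.inr 1) : MvPolynomial (Fin N ⊕ Fin 2) k)).toRingHom
      (fun i => MvPolynomial.X (Sum.inl i)))
    (MvPolynomial.X (Sum.inr 0))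

lemma Θ_C (a : k) : Θ k N (MvPolynomial.C a) =
    Polynomial.C (MvPolynomial.C (Polynomial.C a)) := by
  rw [Θ, MvPolynomial.aeval_C]
  rfl

lemma Θ_X_inl (i : Fin N) : Θ k N (MvPolynomial.X (Sum.inl i)) =
    Polynomial.C (MvPolynomial.X i) := by
  rw [Θ, MvPolynomial.aeval_X]
  rfl

lemma Θ_X_inr_zero : Θ k N (MvPolynomial.X (Sum.inr 0)) = Polynomial.X := by
  rw [Θ, MvPolynomial.aeval_X]
  rfl

lemma Θ_X_inr_one : Θ k N (MvPolynomial.X (Sum.inr 1)) =
    Polynomial.C (MvPolynomial.C Polynomial.X) := by
  rw [Θ, MvPolynomial.aeval_X]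
  rfl

lemma Θ'_Θ (P : MvPolynomial (Fin N ⊕ Fin 2) k) : Θ' k N (Θ k N P) = P := by
  have h : (Θ' k N).comp (Θ k N).toRingHom = RingHom.id _ := by
    refine MvPolynomial.ringHom_ext (fun a => ?_) (fun j => ?_)
    · change Θ' k N (Θ k N (MvPolynomial.C a)) = MvPolynomial.C a
      rw [Θ_C, Θ', Polynomial.coe_eval₂RingHom, Polynomial.eval₂_C, MvPolynomial.coe_eval₂Hom,
        MvPolynomial.eval₂_C]
      change Polynomial.aeval _ (Polynomial.C a) = _
      rw [Polynomial.aeval_C]
      rfl
    · rcases j with i | j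
      · change Θ' k N (Θ k N (MvPolynomial.X (Sum.inl i))) = MvPolynomial.X (Sum.inl i)
        rw [Θ_X_inl, Θ', Polynomial.coe_eval₂RingHom, Polynomial.eval₂_C,
          MvPolynomial.coe_eval₂Hom, MvPolynomial.eval₂_X]
      · fin_cases j
        · change Θ' k N (Θ k N (MvPolynomial.X (Sum.inr 0))) = MvPolynomial.X (Sum.inr 0)
          rw [Θ_X_inr_zero, Θ', Polynomial.coe_eval₂RingHom, Polynomial.eval₂_X]
        · change Θ' k N (Θ k N (MvPolynomial.X (Sum.inr 1))) = MvPolynomial.X (Sum.inr 1)
          rw [Θ_X_inr_one, Θ', Polynomial.coe_eval₂RingHom, Polynomial.eval₂_C,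
            MvPolynomial.coe_eval₂Hom, MvPolynomial.eval₂_C]
          change Polynomial.aeval _ Polynomial.X = _
          rw [Polynomial.aeval_X]
  exact RingHom.congr_fun h P

end Theta

lemma exists_nat_eq {d : WithBot ℕ∞} {n0 : ℕ} (h0 : 0 ≤ d) (hn : d ≤ (n0 : WithBot ℕ∞)) :
    ∃ n : ℕ, d = (n : WithBot ℕ∞) := by
  induction d using WithBot.recBotCoe with
  | bot => exact absurd h0 (by simp)
  | coe e =>
    induction e using ENat.recTopCoe with
    | top =>
      exfalso
      have : ((⊤ : ℕ∞) : WithBot ℕ∞) ≤ ((n0 : ℕ∞) : WithBot ℕ∞) := hn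
      rw [WithBot.coe_le_coe] at this
      exact absurd this (by simp)
    | coe n => exact ⟨n, rfl⟩

section Main

variable {k A : Type u} [Field k] [CommRing A] [IsDomain A] [Algebra k A]
  [Algebra.FiniteType k A] (m : ℕ) (g : Fin (m + 2) → A)

/-- the family inside `A[X]`. -/
def fam' : Fin (m + 2) ⊕ Fin 2 → MvPolynomial (Fin (m + 2)) A :=
  Sum.elim MvPolynomial.X ![genLin g, MvPolynomial.C (g 0)]

theorem algebraicIndependent_fam' (p : Ideal A)
    (hp : p ∈ (Ideal.span {g 0, g 1}).minimalPrimes)
    (hdim : ringKrullDim (A ⧸ p) + 2 = ringKrullDim A) :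
    AlgebraicIndependent k (fam' m g) := by
  haveI : IsNoetherianRing A := Algebra.FiniteType.isNoetherianRing k A
  rw [algebraicIndependent_iff]
  intro P hP
  by_contra hne
  letI algD : Algebra (Polynomial k) A := (Polynomial.aeval (R := k) (g 0)).toAlgebra
  have halg : ∀ c : Polynomial k, algebraMap (Polynomial k) A c = Polynomial.aeval (g 0) c :=
    fun c => rfl
  have hcompat : evQ g (Θ k (m + 2) P) = MvPolynomial.aeval (fam' m g) P := by
    have h : (evQ (D := Polynomial k) g).comp (Θ k (m + 2)).toRingHom =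
        (MvPolynomial.aeval (R := k) (fam' m g)).toRingHom := by
      refine MvPolynomial.ringHom_ext (fun a => ?_) (fun j => ?_)
      · change evQ g (Θ k (m + 2) (MvPolynomial.C a)) =
          MvPolynomial.aeval (fam' m g) (MvPolynomial.C a)
        rw [Θ_C, evQ, Polynomial.coe_eval₂RingHom, Polynomial.eval₂_C, MvPolynomial.map_C, halg,
          Polynomial.aeval_C, MvPolynomial.aeval_C]
        rfl
      · rcases j with i | j
        · change evQ g (Θ k (m + 2) (MvPolynomial.X (Sum.inl i))) =
            MvPolynomial.aeval (fam' m g) (MvPolynomial.X (Sum.inl i))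
          rw [Θ_X_inl, evQ, Polynomial.coe_eval₂RingHom, Polynomial.eval₂_C, MvPolynomial.map_X,
            MvPolynomial.aeval_X]
          rfl
        · fin_cases j
          · change evQ g (Θ k (m + 2) (MvPolynomial.X (Sum.inr 0))) =
              MvPolynomial.aeval (fam' m g) (MvPolynomial.X (Sum.inr 0))
            rw [Θ_X_inr_zero, evQ, Polynomial.coe_eval₂RingHom, Polynomial.eval₂_X,
              MvPolynomial.aeval_X]
            rfl
          · change evQ g (Θ k (m + 2) (MvPolynomial.X (Sum.inr 1))) =
              MvPolynomial.aeval (fam' m g) (MvPolynomial.X (Sum.inr 1))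
            rw [Θ_X_inr_one, evQ, Polynomial.coe_eval₂RingHom, Polynomial.eval₂_C,
              MvPolynomial.map_C, halg, Polynomial.aeval_X, MvPolynomial.aeval_X]
            rfl
    exact RingHom.congr_fun h P
  have hQ : Θ k (m + 2) P ≠ 0 := fun h0 => hne (by rw [← Θ'_Θ k (m + 2) P, h0, map_zero])
  have hal : IsAlgebraic (Polynomial k) (g 1) :=
    isAlgebraic_of_evQ_eq_zero g (Θ k (m + 2) P) hQ (by rw [hcompat, hP]) 1
  obtain ⟨F', hF', hev'⟩ := hal
  have hconv : Polynomial.aeval (g 1) F' = Polynomial.aevalAeval (R := k) (g 0) (g 1) F' := by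
    have h : (Polynomial.aeval (R := Polynomial k) (g 1)).toRingHom =
        (Polynomial.aevalAeval (R := k) (g 0) (g 1)).toRingHom := by
      refine Polynomial.ringHom_ext (fun c => ?_) ?_
      · change Polynomial.aeval (g 1) (Polynomial.C c) =
          Polynomial.aevalAeval (g 0) (g 1) (Polynomial.C c)
        rw [Polynomial.aeval_C, Polynomial.aevalAeval_C, halg]
      · change Polynomial.aeval (g 1) Polynomial.X =
          Polynomial.aevalAeval (g 0) (g 1) Polynomial.X
        rw [Polynomial.aeval_X, Polynomial.aevalAeval_Y]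
    exact RingHom.congr_fun h F'
  have hswap : Polynomial.Bivariate.swap F' ≠ 0 := by
    intro h0
    apply hF'
    have := congrArg Polynomial.Bivariate.swap h0
    rwa [Polynomial.Bivariate.swap_swap_apply, map_zero] at this
  have hht : p.height ≤ 1 :=
    height_le_one_of_relation (k := k) (g 0) (g 1) p hp (Polynomial.Bivariate.swap F') hswap
      (by rw [Polynomial.Bivariate.aevalAeval_swap, ← hconv, hev'])
  -- the dimension count
  haveI : p.IsPrime := hp.1.1
  have hform := Groth.Agent.Helper5.FtDim.height_add_dim_quotient k A p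
  obtain ⟨n0, f, hf⟩ := Algebra.FiniteType.iff_quotient_mvPolynomial''.1
    (inferInstance : Algebra.FiniteType k A)
  have hA : ringKrullDim A ≤ (n0 : WithBot ℕ∞) := by
    have h1 := ringKrullDim_le_of_surjective f.toRingHom hf
    rw [MvPolynomial.ringKrullDim_of_isNoetherianRing, ringKrullDim_eq_zero_of_field, zero_add]
      at h1
    rw [Nat.card_fin] at h1
    exact h1
  have hq : ringKrullDim (A ⧸ p) ≤ (n0 : WithBot ℕ∞) := (ringKrullDim_quotient_le p).trans hA
  obtain ⟨n, hn⟩ := exists_nat_eq ringKrullDim_nonneg_of_nontrivial hq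
  obtain ⟨h, hh⟩ : ∃ h : ℕ, p.height = h := by
    have : p.height ≠ ⊤ := Ideal.height_ne_top_of_isPrime
    exact ⟨p.height.toNat, (ENat.coe_toNat this).symm⟩
  rw [hn, hh] at hform
  rw [hn, ← hform] at hdim
  rw [hh] at hht
  have h1 : h ≤ 1 := by exact_mod_cast hht
  have h3 : (((n + 2 : ℕ) : ℕ∞) : WithBot ℕ∞) = (((h + n : ℕ) : ℕ∞) : WithBot ℕ∞) := by
    push_cast
    exact hdim
  have h2 : n + 2 = h + n := by exact_mod_cast WithBot.coe_injective h3
  omega

/-- the embedding of `A[X]` into the rational function field. -/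
def toKx : MvPolynomial (Fin (m + 2)) A →ₐ[k]
    FractionRing (MvPolynomial (Fin (m + 2)) (FractionRing A)) :=
  (IsScalarTower.toAlgHom k (MvPolynomial (Fin (m + 2)) (FractionRing A))
    (FractionRing (MvPolynomial (Fin (m + 2)) (FractionRing A)))).comp
    (MvPolynomial.mapAlgHom (IsScalarTower.toAlgHom k A (FractionRing A)))

lemma toKx_apply (x : MvPolynomial (Fin (m + 2)) A) :
    toKx (k := k) m x = algebraMap (MvPolynomial (Fin (m + 2)) (FractionRing A))
      (FractionRing (MvPolynomial (Fin (m + 2)) (FractionRing A)))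
      (MvPolynomial.map (algebraMap A (FractionRing A)) x) := rfl

lemma toKx_injective : Function.Injective (toKx (k := k) (A := A) m) := by
  intro x y hxy
  rw [toKx_apply, toKx_apply] at hxy
  exact MvPolynomial.map_injective _ (IsFractionRing.injective A (FractionRing A))
    (IsFractionRing.injective _ _ hxy)

lemma toKx_C (a : A) : toKx (k := k) m (MvPolynomial.C a) =
    algebraMap A (FractionRing (MvPolynomial (Fin (m + 2)) (FractionRing A))) a := by
  rw [toKx_apply, MvPolynomial.map_C,
    IsScalarTower.algebraMap_apply A (MvPolynomial (Fin (m + 2)) (FractionRing A))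
      (FractionRing (MvPolynomial (Fin (m + 2)) (FractionRing A))),
    MvPolynomial.algebraMap_apply]

lemma toKx_X (i : Fin (m + 2)) : toKx (k := k) (A := A) m (MvPolynomial.X i) =
    algebraMap (MvPolynomial (Fin (m + 2)) (FractionRing A))
      (FractionRing (MvPolynomial (Fin (m + 2)) (FractionRing A))) (MvPolynomial.X i) := by
  rw [toKx_apply, MvPolynomial.map_X]

theorem main (p : Ideal A) (hp : p ∈ (Ideal.span {g 0, g 1}).minimalPrimes)
    (hdim : ringKrullDim (A ⧸ p) + 2 = ringKrullDim A) :
    ∃ c : Fin (m + 2) → k,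
      AlgebraicIndependent k
        (Sum.elim
          (fun i : Fin (m + 2) => algebraMap (MvPolynomial (Fin (m + 2)) (FractionRing A)) (FractionRing (MvPolynomial (Fin (m + 2)) (FractionRing A))) (MvPolynomial.X i))
          ![∑ i, algebraMap A (FractionRing (MvPolynomial (Fin (m + 2)) (FractionRing A))) (g i) *
              algebraMap (MvPolynomial (Fin (m + 2)) (FractionRing A)) (FractionRing (MvPolynomial (Fin (m + 2)) (FractionRing A))) (MvPolynomial.X i),
            algebraMap A (FractionRing (MvPolynomial (Fin (m + 2)) (FractionRing A))) (∑ i, c i • g i)]) := by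
  classical
  refine ⟨Pi.single 0 1, ?_⟩
  have h1 := (algebraicIndependent_fam' (k := k) m g p hp hdim).map' (toKx_injective (k := k) m)
  convert h1 using 1
  funext j
  rcases j with i | j
  · change _ = toKx (k := k) m (MvPolynomial.X i)
    rw [toKx_X]
    rfl
  · fin_cases j
    · have hG : toKx (k := k) m (genLin g) =
          ∑ i, algebraMap A (FractionRing (MvPolynomial (Fin (m + 2)) (FractionRing A))) (g i) *
            algebraMap (MvPolynomial (Fin (m + 2)) (FractionRing A))
              (FractionRing (MvPolynomial (Fin (m + 2)) (FractionRing A))) (MvPolynomial.X i) := by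
        rw [genLin, map_sum]
        refine Finset.sum_congr rfl fun i _ => ?_
        rw [map_mul, toKx_C, toKx_X]
      exact hG.symm
    · change _ = toKx (k := k) m (MvPolynomial.C (g 0))
      rw [toKx_C]
      change algebraMap A _ (∑ i, (Pi.single 0 1 : Fin (m + 2) → k) i • g i) = _
      congr 1
      rw [Finset.sum_eq_single 0]
      · rw [Pi.single_eq_same, one_smul]
      · intro b _ hb
        rw [Pi.single_eq_of_ne hb, zero_smul]
      · intro h; exact absurd (Finset.mem_univ _) h

end Main

end

end Groth.Agent.Helper8.AlgIndSpec
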