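import Mathlib
import Groth.Prelude.Def_BigSite

set_option backward.isDefEq.respectTransparency false
set_option backward.isDefEq.respectTransparency.types false
set_option autoImplicit false

/-! Almost cocontinuous functors between large sites (objects in `Type (u+1)`, morphisms in
`Type u`), sheaves valued in `Type (u+1)`: `u^s` commutes with finite connected colimits.
This is the large-site version of `Groth.Agent.Helper6.AlmCocont` (same proof). -/

namespace Groth.Agent.Helper8.AlmCocontBig

open CategoryTheory CategoryTheory.Limits Opposite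

universe u

variable {C : Type (u + 1)} [Category.{u} C] {D : Type (u + 1)} [Category.{u} D]
  (J : GrothendieckTopology C) (K : GrothendieckTopology D) (F : C ⥤ D)

lemma subsingleton_of_bot_mem (G : Sheaf K (Type (u + 1))) (V : D) (h : (⊥ : Sieve V) ∈ K V) :
    Subsingleton (G.obj.obj (op V)) := by
  constructor
  intro a b
  exact (((isSheaf_iff_isSheaf_of_type K G.obj).1 G.property).isSeparated _ h).ext
    (fun Y f hf => False.elim (by simp at hf))

lemma nonempty_of_bot_mem (G : Sheaf K (Type (u + 1))) (V : D) (h : (⊥ : Sieve V) ∈ K V) :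
    Nonempty (G.obj.obj (op V)) := by
  have hs := ((isSheaf_iff_isSheaf_of_type K G.obj).1 G.property) _ h
  let x : Presieve.FamilyOfElements G.obj (⊥ : Sieve V).arrows :=
    fun Y f hf => False.elim (by simp at hf)
  have hx : x.Compatible := by
    intro Y₁ Y₂ Z g₁ g₂ f₁ f₂ h₁ h₂ _
    exact False.elim (by simp at h₁)
  obtain ⟨t, _, _⟩ := hs x hx
  exact ⟨t⟩

lemma unique_of_bot_mem (G : Sheaf K (Type (u + 1))) (V : D) (h : (⊥ : Sieve V) ∈ K V) :
    Nonempty (Unique (G.obj.obj (op V))) := by
  obtain ⟨t⟩ := nonempty_of_bot_mem K G V h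
  haveI := subsingleton_of_bot_mem K G V h
  exact ⟨⟨⟨t⟩, fun _ => Subsingleton.elim _ _⟩⟩

lemma W_whiskerLeft (hu : BigSite.IsAlmostCocontinuous F J K) (G : Dᵒᵖ ⥤ Type (u + 1))
    (hG : ∀ V : D, (⊥ : Sieve V) ∈ K V → Nonempty (Unique (G.obj (op V)))) :
    J.W (Functor.whiskerLeft F.op (toSheafify K G)) := by
  haveI : Presheaf.IsLocallyInjective J (Functor.whiskerLeft F.op (toSheafify K G)) := by
    constructor
    intro X x y h
    have hR : Presheaf.equalizerSieve (F := G) (X := op (F.obj X.unop)) x y ∈ K (F.obj X.unop) :=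
      Presheaf.equalizerSieve_mem K (toSheafify K G) (X := op (F.obj X.unop)) x y h
    obtain ⟨R', hR', hR'2⟩ := hu X.unop _ hR
    refine J.superset_covering ?_ hR'
    intro V g hg
    rcases hR'2 g hg with h0 | h1
    · obtain ⟨inst⟩ := hG _ h0
      exact Subsingleton.elim (α := G.obj (op (F.obj V))) _ _
    · exact h1
  haveI : Presheaf.IsLocallySurjective J (Functor.whiskerLeft F.op (toSheafify K G)) := by
    constructor
    intro U s
    have hR : Presheaf.imageSieve (toSheafify K G) (U := F.obj U) s ∈ K (F.obj U) :=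
      Presheaf.imageSieve_mem K (toSheafify K G) (U := op (F.obj U)) s
    obtain ⟨R', hR', hR'2⟩ := hu U _ hR
    refine J.superset_covering ?_ hR'
    intro V g hg
    rcases hR'2 g hg with h0 | h1
    · obtain ⟨inst⟩ := hG _ h0
      refine ⟨(default : G.obj (op (F.obj V))), ?_⟩
      haveI := subsingleton_of_bot_mem K ((presheafToSheaf K (Type (u + 1))).obj G) _ h0
      exact Subsingleton.elim
        (α := ((presheafToSheaf K (Type (u + 1))).obj G).obj.obj (op (F.obj V))) _ _
    · exact h1
  exact J.W_of_isLocallyBijective _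

variable [F.IsContinuous J K]

theorem isIso_comparison (hu : BigSite.IsAlmostCocontinuous F J K) (G : Dᵒᵖ ⥤ Type (u + 1))
    (hG : ∀ V : D, (⊥ : Sieve V) ∈ K V → Nonempty (Unique (G.obj (op V)))) :
    IsIso (((sheafificationAdjunction J (Type (u + 1))).homEquiv (F.op ⋙ G)
      ((F.sheafPushforwardContinuous (Type (u + 1)) J K).obj
        ((presheafToSheaf K (Type (u + 1))).obj G))).symm
        (Functor.whiskerLeft F.op (toSheafify K G))) := by
  rw [Adjunction.homEquiv_counit]
  haveI : IsIso ((presheafToSheaf J (Type (u + 1))).map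
      (Functor.whiskerLeft F.op (toSheafify K G))) :=
    (J.W_iff _).1 (W_whiskerLeft J K F hu G hG)
  infer_instance

/-- A colimit of singletons over a connected category is a singleton. -/
lemma unique_pt_of_connected {I : Type} [SmallCategory I] [IsConnected I]
    {Dg : I ⥤ Type (u + 1)}
    (c : Cocone Dg) (hc : IsColimit c) (hD : ∀ i, Nonempty (Unique (Dg.obj i))) :
    Nonempty (Unique c.pt) := by
  classical
  have inst : ∀ i, Unique (Dg.obj i) := fun i => (hD i).some
  let f : I → c.pt := fun i => c.ι.app i (inst i).default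
  have hf : ∀ i j, f i = f j := by
    apply constant_of_preserves_morphisms
    intro i j a
    have h1 : c.ι.app j (Dg.map a (inst i).default) = c.ι.app i (inst i).default := by
      exact ConcreteCategory.congr_hom (c.w a) (inst i).default
    have h2 : Dg.map a (inst i).default = (inst j).default := (inst j).uniq _
    show c.ι.app i (inst i).default = c.ι.app j (inst j).default
    rw [← h1, h2]
  obtain ⟨i₀⟩ := (inferInstance : Nonempty I)
  refine ⟨⟨⟨f i₀⟩, ?_⟩⟩
  intro t
  obtain ⟨j, y, rfl⟩ := Types.jointly_surjective_of_isColimit hc t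
  have : y = (inst j).default := (inst j).uniq _
  rw [this]
  exact hf j i₀

theorem preservesColimitsOfShape (hu : BigSite.IsAlmostCocontinuous F J K)
    (I : Type) [SmallCategory I] [FinCategory I] [IsConnected I] :
    PreservesColimitsOfShape I (F.sheafPushforwardContinuous (Type (u + 1)) J K) := by
  constructor
  intro G
  let Φ := F.sheafPushforwardContinuous (Type (u + 1)) J K
  let E : Cocone (G ⋙ sheafToPresheaf K (Type (u + 1))) := colimit.cocone _
  have hE : IsColimit E := colimit.isColimit _
  let c : Cocone G := Sheaf.sheafifyCocone E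
  have hc : IsColimit c := Sheaf.isColimitSheafifyCocone E hE
  let W := (Functor.whiskeringLeft Cᵒᵖ Dᵒᵖ (Type (u + 1))).obj F.op
  let E' : Cocone ((G ⋙ Φ) ⋙ sheafToPresheaf J (Type (u + 1))) := W.mapCocone E
  have hE' : IsColimit E' := isColimitOfPreserves W hE
  let c' : Cocone (G ⋙ Φ) := Sheaf.sheafifyCocone E'
  have hc' : IsColimit c' := Sheaf.isColimitSheafifyCocone E' hE'
  have hG : ∀ V : D, (⊥ : Sieve V) ∈ K V → Nonempty (Unique (E.pt.obj (op V))) := by
    intro V hV
    have h1 := isColimitOfPreserves ((evaluation Dᵒᵖ (Type (u + 1))).obj (op V)) hE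
    exact unique_pt_of_connected _ h1 (fun i => unique_of_bot_mem K (G.obj i) V hV)
  let κ : c'.pt ⟶ (Φ.mapCocone c).pt :=
    ((sheafificationAdjunction J (Type (u + 1))).homEquiv (F.op ⋙ E.pt)
      (Φ.obj ((presheafToSheaf K (Type (u + 1))).obj E.pt))).symm
        (Functor.whiskerLeft F.op (toSheafify K E.pt))
  have hκ : IsIso κ := isIso_comparison J K F hu E.pt hG
  have hκ2 : toSheafify J (F.op ⋙ E.pt) ≫ κ.hom =
      Functor.whiskerLeft F.op (toSheafify K E.pt) :=
    toSheafify_sheafifyLift J _ _
  have hdesc : hc'.desc (Φ.mapCocone c) = κ := by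
    apply hc'.hom_ext
    intro i
    rw [hc'.fac]
    have e1 : ((Φ.mapCocone c).ι.app i).hom =
        Functor.whiskerLeft F.op (E.ι.app i ≫ toSheafify K E.pt) := by
      show Functor.whiskerLeft F.op (c.ι.app i).hom = _
      rw [Sheaf.sheafifyCocone_ι_app_val]
    have e2 : (c'.ι.app i ≫ κ).hom =
        Functor.whiskerLeft F.op (E.ι.app i ≫ toSheafify K E.pt) := by
      show (c'.ι.app i).hom ≫ κ.hom = _
      rw [Sheaf.sheafifyCocone_ι_app_val, Category.assoc]
      erw [hκ2]
      rfl
    apply Sheaf.hom_ext
    rw [e1, e2]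
  apply preservesColimit_of_preserves_colimit_cocone hc
  haveI : IsIso (hc'.desc (Φ.mapCocone c)) := hdesc ▸ hκ
  exact IsColimit.ofPointIso hc'

end Groth.Agent.Helper8.AlmCocontBig
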