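import Mathlib
import Groth.Prelude.Def_BigSite
import Groth.Agent.Helper8.AlmCocontBig

set_option backward.isDefEq.respectTransparency false
set_option backward.isDefEq.respectTransparency.types false
set_option autoImplicit false
set_option linter.style.haveILetI false

/-! Almost cocontinuous functors between large sites: the direct image of abelian sheaves
preserves epimorphisms, hence is right exact when it is left exact. -/

namespace Groth.Agent.Helper8.AlmCocontBig

open CategoryTheory CategoryTheory.Limits Opposite

universe u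

variable {C : Type (u + 1)} [Category.{u} C] {D : Type (u + 1)} [Category.{u} D]
  (J : GrothendieckTopology C) (K : GrothendieckTopology D) (F : C ⥤ D) [F.IsContinuous J K]

lemma subsingleton_ab_of_bot_mem (G : Sheaf K AddCommGrpCat.{u + 1}) (V : D)
    (h : (⊥ : Sieve V) ∈ K V) : Subsingleton (G.obj.obj (op V)) :=
  subsingleton_of_bot_mem K ((sheafCompose K (forget AddCommGrpCat.{u + 1})).obj G) V h

theorem isLocallySurjective_ab (hu : BigSite.IsAlmostCocontinuous F J K)
    {G₁ G₂ : Sheaf K AddCommGrpCat.{u + 1}} (g : G₁ ⟶ G₂) [Sheaf.IsLocallySurjective g] :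
    Sheaf.IsLocallySurjective ((F.sheafPushforwardContinuous AddCommGrpCat.{u + 1} J K).map g) := by
  constructor
  intro U s
  have hR : Presheaf.imageSieve g.hom (U := F.obj U) s ∈ K (F.obj U) :=
    Presheaf.imageSieve_mem K g.hom (U := op (F.obj U)) s
  obtain ⟨R', hR', hR'2⟩ := hu U _ hR
  refine J.superset_covering ?_ hR'
  intro V k hk
  rcases hR'2 k hk with h0 | h1
  · haveI := subsingleton_ab_of_bot_mem K G₂ _ h0
    refine ⟨(0 : G₁.obj.obj (op (F.obj V))), ?_⟩
    exact Subsingleton.elim (α := G₂.obj.obj (op (F.obj V))) _ _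
  · exact h1

theorem epi_ab (hu : BigSite.IsAlmostCocontinuous F J K)
    {G₁ G₂ : Sheaf K AddCommGrpCat.{u + 1}} (g : G₁ ⟶ G₂) [Epi g] :
    Epi ((F.sheafPushforwardContinuous AddCommGrpCat.{u + 1} J K).map g) := by
  haveI : Sheaf.IsLocallySurjective g := (Sheaf.isLocallySurjective_iff_epi' AddCommGrpCat.{u + 1} g).mpr inferInstance
  haveI := isLocallySurjective_ab J K F hu g
  infer_instance

theorem preservesFiniteColimits_ab (hu : BigSite.IsAlmostCocontinuous F J K)
    [(F.sheafPushforwardContinuous AddCommGrpCat.{u + 1} J K).Additive]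
    [PreservesFiniteLimits (F.sheafPushforwardContinuous AddCommGrpCat.{u + 1} J K)] :
    PreservesFiniteColimits (F.sheafPushforwardContinuous AddCommGrpCat.{u + 1} J K) := by
  rw [Functor.preservesFiniteColimits_iff_forall_exact_map_and_epi]
  intro S hS
  haveI := hS.epi_g
  refine ⟨?_, epi_ab J K F hu S.g⟩
  exact ((Functor.preservesFiniteLimits_iff_forall_exact_map_and_mono
    (F.sheafPushforwardContinuous AddCommGrpCat.{u + 1} J K)).mp inferInstance S hS).1

end Groth.Agent.Helper8.AlmCocontBig
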