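import Mathlib
import Groth.Prelude.Def_CartDual
import Groth.Prelude.Def_AlphaP

set_option autoImplicit false
universe u

namespace Groth.Agent.Helper8.AlphaDual

open TensorProduct

variable (p : ℕ) [hp : Fact p.Prime] (R : Type u) [CommRing R] [CharP R p]
include hp

theorem nontriv : Nontrivial R := CharP.nontrivial_of_char_ne_one (R := R) hp.out.ne_one

theorem isUnit_natCast {m : ℕ} (hm : ¬ p ∣ m) : IsUnit ((m : ℕ) : R) := by
  have h1 : IsUnit ((m : ℕ) : ZMod p) := by
    rw [isUnit_iff_ne_zero, Ne, ZMod.natCast_eq_zero_iff]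
    exact hm
  have := h1.map (ZMod.castHom (dvd_refl p) R)
  rwa [map_natCast] at this

theorem isUnit_factorial {n : ℕ} (hn : n < p) : IsUnit ((n.factorial : ℕ) : R) := by
  apply isUnit_natCast
  rw [hp.out.dvd_factorial]
  omega

theorem xpow_eq_basis (n : ℕ) (hn : n < p) :
    haveI := nontriv p R
    AlphaP.x p R ^ n = AlphaP.basis p R ⟨n, hn⟩ := by
  haveI := nontriv p R
  rw [AlphaP.basis_apply]

/-- the linear form dual to `x` -/
noncomputable def y : CartDual.D R (AlphaP.A p R) :=
  haveI := nontriv p R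
  WithConv.toConv ((AlphaP.basis p R).coord ⟨1, hp.out.one_lt⟩)

theorem y_xpow (n : ℕ) : (y p R) (AlphaP.x p R ^ n) = if n = 1 then 1 else 0 := by
  haveI := nontriv p R
  by_cases hn : n < p
  · rw [xpow_eq_basis p R n hn]
    show (AlphaP.basis p R).coord ⟨1, hp.out.one_lt⟩ (AlphaP.basis p R ⟨n, hn⟩) = _
    rw [Module.Basis.coord_apply, Module.Basis.repr_self, Finsupp.single_apply]
    simp only [Fin.mk.injEq]
  · rw [AlphaP.x_pow_of_le p R (not_lt.mp hn), map_zero, if_neg]
    have := hp.out.one_lt
    omega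

theorem counit_xpow (n : ℕ) :
    Coalgebra.counit (R := R) (AlphaP.x p R ^ n) = if n = 0 then 1 else 0 := by
  have : Coalgebra.counit (R := R) (AlphaP.x p R ^ n) =
      (Bialgebra.counitAlgHom R (AlphaP.A p R)) (AlphaP.x p R ^ n) := rfl
  rw [this, map_pow, Bialgebra.counitAlgHom_apply, AlphaP.counit_x, zero_pow_eq]

theorem comul_xpow (n : ℕ) :
    Coalgebra.comul (R := R) (AlphaP.x p R ^ n) =
      ∑ i ∈ Finset.range (n + 1), (n.choose i) •
        ((AlphaP.x p R ^ i) ⊗ₜ[R] (AlphaP.x p R ^ (n - i))) := by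
  have : Coalgebra.comul (R := R) (AlphaP.x p R ^ n) =
      (Bialgebra.comulAlgHom R (AlphaP.A p R)) (AlphaP.x p R ^ n) := rfl
  rw [this, map_pow, Bialgebra.comulAlgHom_apply, AlphaP.comul_x, add_pow]
  apply Finset.sum_congr rfl
  intro i _
  rw [Algebra.TensorProduct.tmul_pow, Algebra.TensorProduct.tmul_pow, one_pow, one_pow,
    Algebra.TensorProduct.tmul_mul_tmul, mul_one, one_mul, nsmul_eq_mul, mul_comm]

theorem conv_xpow (f g : CartDual.D R (AlphaP.A p R)) (n : ℕ) :
    (f * g) (AlphaP.x p R ^ n) =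
      ∑ i ∈ Finset.range (n + 1), ((n.choose i : ℕ) : R) *
        (f (AlphaP.x p R ^ i) * g (AlphaP.x p R ^ (n - i))) := by
  rw [LinearMap.convMul_apply, comul_xpow, map_sum, map_sum]
  apply Finset.sum_congr rfl
  intro i _
  rw [map_nsmul, map_nsmul, TensorProduct.map_tmul, LinearMap.mul'_apply, nsmul_eq_mul]

theorem ypow (k n : ℕ) :
    ((y p R) ^ k) (AlphaP.x p R ^ n) = if n = k then ((k.factorial : ℕ) : R) else 0 := by
  induction k generalizing n with
  | zero =>
    rw [pow_zero, LinearMap.convOne_apply, counit_xpow]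
    simp
  | succ k ih =>
    rw [pow_succ, conv_xpow]
    by_cases hn : n = k + 1
    · subst hn
      rw [if_pos rfl, Finset.sum_eq_single k]
      · rw [ih, if_pos rfl, y_xpow, if_pos (by omega), mul_one, Nat.choose_succ_self_right,
          Nat.factorial_succ]
        push_cast
        ring
      · intro i _ hi
        rw [ih, if_neg hi, zero_mul, mul_zero]
      · intro h
        exfalso
        apply h
        rw [Finset.mem_range]
        omega
    · rw [if_neg hn]
      apply Finset.sum_eq_zero
      intro i _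
      rw [ih, y_xpow]
      by_cases hi : i = k
      · rw [if_neg (show ¬ (n - i = 1) by omega), mul_zero, mul_zero]
      · rw [if_neg hi, zero_mul, mul_zero]

theorem D_ext {f g : CartDual.D R (AlphaP.A p R)}
    (h : ∀ n, n < p → f (AlphaP.x p R ^ n) = g (AlphaP.x p R ^ n)) : f = g := by
  haveI := nontriv p R
  apply WithConv.ext
  apply (AlphaP.basis p R).ext
  intro i
  rw [AlphaP.basis_apply]
  exact h i i.2

theorem ypow_p : (y p R) ^ p = 0 := by
  apply D_ext
  intro n hn
  rw [ypow, if_neg (by omega)]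
  rfl

/-- the algebra map `A → D`, `x ↦ y` -/
noncomputable def phi : AlphaP.A p R →ₐ[R] CartDual.D R (AlphaP.A p R) :=
  AlphaP.lift p R (y p R) (ypow_p p R)

theorem phi_x : phi p R (AlphaP.x p R) = y p R := AlphaP.lift_x _ _

theorem phi_xpow (k : ℕ) : phi p R (AlphaP.x p R ^ k) = (y p R) ^ k := by
  rw [map_pow, phi_x]

theorem y_mul_pow (i j : ℕ) :
    (y p R) (AlphaP.x p R ^ i * AlphaP.x p R ^ j) =
      (y p R) (AlphaP.x p R ^ i) * Coalgebra.counit (R := R) (AlphaP.x p R ^ j) +
      Coalgebra.counit (R := R) (AlphaP.x p R ^ i) * (y p R) (AlphaP.x p R ^ j) := by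
  rw [← pow_add, y_xpow, y_xpow, y_xpow, counit_xpow, counit_xpow]
  by_cases h1 : i = 1 <;> by_cases h2 : j = 0 <;> by_cases h3 : i = 0 <;> by_cases h4 : j = 1 <;>
    simp [h1, h2, h3, h4] <;> omega

theorem y_mul (a b : AlphaP.A p R) :
    (y p R) (a * b) = (y p R) a * Coalgebra.counit (R := R) b +
      Coalgebra.counit (R := R) a * (y p R) b := by
  haveI := nontriv p R
  -- linear in a for fixed b = x^j
  have h1 : ∀ (j : ℕ) (a : AlphaP.A p R), (y p R) (a * AlphaP.x p R ^ j) =
      (y p R) a * Coalgebra.counit (R := R) (AlphaP.x p R ^ j) +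
      Coalgebra.counit (R := R) a * (y p R) (AlphaP.x p R ^ j) := by
    intro j a
    have := LinearMap.congr_fun ((AlphaP.basis p R).ext (f₁ := (y p R).ofConv ∘ₗ LinearMap.mulRight R (AlphaP.x p R ^ j))
      (f₂ := (Coalgebra.counit (R := R) (AlphaP.x p R ^ j)) • (y p R).ofConv +
        ((y p R) (AlphaP.x p R ^ j)) • (Coalgebra.counit (R := R) (A := AlphaP.A p R))) (by
        intro i
        rw [AlphaP.basis_apply]
        have := y_mul_pow p R i j
        simp only [LinearMap.comp_apply, LinearMap.mulRight_apply, LinearMap.add_apply,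
          LinearMap.smul_apply, smul_eq_mul]
        linear_combination this)) a
    simp only [LinearMap.comp_apply, LinearMap.mulRight_apply, LinearMap.add_apply,
      LinearMap.smul_apply, smul_eq_mul] at this
    linear_combination this
  have := LinearMap.congr_fun ((AlphaP.basis p R).ext (f₁ := (y p R).ofConv ∘ₗ LinearMap.mulLeft R a)
      (f₂ := ((y p R) a) • (Coalgebra.counit (R := R) (A := AlphaP.A p R)) +
        (Coalgebra.counit (R := R) a) • (y p R).ofConv) (by
        intro j
        rw [AlphaP.basis_apply]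
        have := h1 j a
        simp only [LinearMap.comp_apply, LinearMap.mulLeft_apply, LinearMap.add_apply,
          LinearMap.smul_apply, smul_eq_mul]
        linear_combination this)) b
  simp only [LinearMap.comp_apply, LinearMap.mulLeft_apply, LinearMap.add_apply,
    LinearMap.smul_apply, smul_eq_mul] at this
  linear_combination this

theorem comul_y : Coalgebra.comul (R := R) (y p R) = y p R ⊗ₜ[R] 1 + 1 ⊗ₜ[R] y p R := by
  apply (CartDual.ev₂ R (AlphaP.A p R)).injective
  apply TensorProduct.ext'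
  intro a b
  rw [CartDual.ev₂_coalgebra_comul_tmul, map_add, LinearMap.add_apply, CartDual.ev₂_tmul,
    CartDual.ev₂_tmul, y_mul, LinearMap.convOne_apply, LinearMap.convOne_apply]
  rfl

noncomputable def phiB : AlphaP.A p R →ₐc[R] CartDual.D R (AlphaP.A p R) :=
  BialgHom.ofAlgHom (phi p R)
    (by
      apply AlphaP.algHom_ext
      rw [AlgHom.comp_apply, phi_x, Bialgebra.counitAlgHom_apply, Bialgebra.counitAlgHom_apply,
        AlphaP.counit_x, CartDual.coalgebra_counit_apply]
      have := y_xpow p R 0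
      rw [pow_zero] at this
      rw [this, if_neg (by omega)])
    (by
      apply AlphaP.algHom_ext
      rw [AlgHom.comp_apply, AlgHom.comp_apply, phi_x, Bialgebra.comulAlgHom_apply,
        Bialgebra.comulAlgHom_apply, AlphaP.comul_x, comul_y, map_add,
        Algebra.TensorProduct.map_tmul, Algebra.TensorProduct.map_tmul, phi_x, map_one])

theorem phiB_apply (a : AlphaP.A p R) : phiB p R a = phi p R a := rfl

theorem phi_eval (a : AlphaP.A p R) (n : Fin p) :
    haveI := nontriv p R
    (phi p R a) (AlphaP.x p R ^ (n : ℕ)) =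
      (AlphaP.basis p R).repr a n * (((n : ℕ).factorial : ℕ) : R) := by
  haveI := nontriv p R
  have := LinearMap.congr_fun ((AlphaP.basis p R).ext
    (f₁ := LinearMap.applyₗ (AlphaP.x p R ^ (n : ℕ)) ∘ₗ (CartDual.toDual R (AlphaP.A p R)).toLinearMap ∘ₗ
      (phi p R).toLinearMap)
    (f₂ := (((n : ℕ).factorial : ℕ) : R) • (AlphaP.basis p R).coord n) (by
      intro j
      simp only [LinearMap.comp_apply, LinearMap.applyₗ_apply_apply, LinearEquiv.coe_coe,
        CartDual.toDual_apply, AlgHom.toLinearMap_apply, LinearMap.smul_apply, smul_eq_mul,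
        Module.Basis.coord_apply, Module.Basis.repr_self, Finsupp.single_apply]
      rw [AlphaP.basis_apply, phi_xpow, ← CartDual.coe_apply, ypow]
      by_cases h : n = j
      · subst h
        simp
      · rw [if_neg (fun h' => h (Fin.ext h')), if_neg (fun h' => h h'.symm), mul_zero])) a
  simp only [LinearMap.comp_apply, LinearMap.applyₗ_apply_apply, LinearEquiv.coe_coe,
    CartDual.toDual_apply, AlgHom.toLinearMap_apply, LinearMap.smul_apply, smul_eq_mul,
    Module.Basis.coord_apply] at this
  rw [CartDual.coe_apply, this, mul_comm]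

theorem phi_bijective : Function.Bijective (phi p R) := by
  haveI := nontriv p R
  constructor
  · rw [injective_iff_map_eq_zero]
    intro a ha
    apply (AlphaP.basis p R).repr.injective
    ext n
    have h := phi_eval p R a n
    rw [ha] at h
    have h0 : (0 : CartDual.D R (AlphaP.A p R)) (AlphaP.x p R ^ (n : ℕ)) = 0 := rfl
    rw [h0] at h
    rw [map_zero, Finsupp.zero_apply]
    exact ((isUnit_factorial p R n.2).mul_left_eq_zero).mp h.symm
  · intro f
    choose u hu using fun n : Fin p => (isUnit_factorial p R n.2).exists_left_inv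
    refine ⟨∑ i : Fin p, (u i * f (AlphaP.x p R ^ (i : ℕ))) • AlphaP.basis p R i, ?_⟩
    apply D_ext
    intro n hn
    have h := phi_eval p R (∑ i : Fin p, (u i * f (AlphaP.x p R ^ (i : ℕ))) • AlphaP.basis p R i) ⟨n, hn⟩
    simp only at h
    rw [h, Module.Basis.repr_sum_self]
    have := hu ⟨n, hn⟩
    simp only at this
    rw [mul_comm (u _), mul_assoc, this, mul_one]

theorem main :
    ∃ e : CartDual.D R (AlphaP.A p R) ≃ₐc[R] AlphaP.A p R,
      ∀ i : ℕ, i < p → (e.symm (AlphaP.x p R)) (AlphaP.x p R ^ i) = if i = 1 then 1 else 0 := by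
  refine ⟨(BialgEquiv.ofBijective (phiB p R) (phi_bijective p R)).symm, ?_⟩
  intro i _
  show ((phi p R) (AlphaP.x p R)) (AlphaP.x p R ^ i) = _
  exact (congrArg (fun z : CartDual.D R (AlphaP.A p R) => z (AlphaP.x p R ^ i)) (phi_x p R)).trans
    (y_xpow p R i)

end Groth.Agent.Helper8.AlphaDual
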