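import Mathlib
import Groth.Prelude.Def_AlphaPn
import Groth.Prelude.Def_SekSuwa

set_option autoImplicit false
universe u

namespace Groth.Agent.Helper8.AlphaPnChar

open TensorProduct

variable (p : ℕ) [hp : Fact p.Prime] (R : Type u) [CommRing R] [CharP R p] (n : ℕ)
include hp

theorem nontriv : Nontrivial R := CharP.nontrivial_of_char_ne_one (R := R) hp.out.ne_one

theorem comul_xpow (m : ℕ) :
    Coalgebra.comul (R := R) (AlphaPn.x p n R ^ m) =
      ∑ i ∈ Finset.range (m + 1), (m.choose i) •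
        ((AlphaPn.x p n R ^ i) ⊗ₜ[R] (AlphaPn.x p n R ^ (m - i))) := by
  have : Coalgebra.comul (R := R) (AlphaPn.x p n R ^ m) =
      (Bialgebra.comulAlgHom R (AlphaPn.A p n R)) (AlphaPn.x p n R ^ m) := rfl
  rw [this, map_pow, Bialgebra.comulAlgHom_apply, AlphaPn.comul_x, add_pow]
  apply Finset.sum_congr rfl
  intro i _
  rw [Algebra.TensorProduct.tmul_pow, Algebra.TensorProduct.tmul_pow, one_pow, one_pow,
    Algebra.TensorProduct.tmul_mul_tmul, mul_one, one_mul, nsmul_eq_mul, mul_comm]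

omit hp [CharP R p] in
theorem comul_tpow (m : ℕ) :
    Coalgebra.comul (R := R) ((SekSuwa.A.t : SekSuwa.A R 0) ^ m) =
      ∑ i ∈ Finset.range (m + 1), (m.choose i) •
        (((SekSuwa.A.t : SekSuwa.A R 0) ^ i) ⊗ₜ[R] ((SekSuwa.A.t : SekSuwa.A R 0) ^ (m - i))) := by
  have : Coalgebra.comul (R := R) ((SekSuwa.A.t : SekSuwa.A R 0) ^ m) =
      (Bialgebra.comulAlgHom R (SekSuwa.A R 0)) ((SekSuwa.A.t : SekSuwa.A R 0) ^ m) := rfl
  rw [this, map_pow, Bialgebra.comulAlgHom_apply, SekSuwa.A.comul_t, zero_smul, add_zero, add_pow]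
  apply Finset.sum_congr rfl
  intro i _
  rw [Algebra.TensorProduct.tmul_pow, Algebra.TensorProduct.tmul_pow, one_pow, one_pow,
    Algebra.TensorProduct.tmul_mul_tmul, mul_one, one_mul, nsmul_eq_mul, mul_comm]

/-- the linear section `x^i ↦ t^i` -/
noncomputable def sec : AlphaPn.A p n R →ₗ[R] SekSuwa.A R 0 :=
  haveI := nontriv p R
  (AlphaPn.basis p n R).constr R (fun i => (SekSuwa.A.t : SekSuwa.A R 0) ^ (i : ℕ))

theorem sec_xpow (m : ℕ) (hm : m < p ^ n) :
    sec p R n (AlphaPn.x p n R ^ m) = (SekSuwa.A.t : SekSuwa.A R 0) ^ m := by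
  haveI := nontriv p R
  have h1 : AlphaPn.x p n R ^ m = AlphaPn.basis p n R ⟨m, hm⟩ := by rw [AlphaPn.basis_apply]
  rw [h1, sec, Module.Basis.constr_basis]

theorem main
    (hn : 1 ≤ n) (φ : SekSuwa.A R 0 →ₐc[R] AlphaPn.A p n R) (hφ : φ SekSuwa.A.t = AlphaPn.x p n R)
    (u : AlphaPn.A p n R) (hu : IsGroupLikeElem R u) :
    ∃ g : SekSuwa.A R 0, IsGroupLikeElem R g ∧ φ g = u := by
  haveI := nontriv p R
  have ha : (Coalgebra.comul (R := R) (A := SekSuwa.A R 0)) ∘ₗ sec p R n =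
      (TensorProduct.map (sec p R n) (sec p R n)) ∘ₗ
        (Coalgebra.comul (R := R) (A := AlphaPn.A p n R)) := by
    apply (AlphaPn.basis p n R).ext
    intro m
    rw [AlphaPn.basis_apply, LinearMap.comp_apply, LinearMap.comp_apply, sec_xpow p R n _ m.2,
      comul_tpow, comul_xpow, map_sum]
    apply Finset.sum_congr rfl
    intro i hi
    rw [Finset.mem_range] at hi
    rw [map_nsmul, TensorProduct.map_tmul, sec_xpow p R n i (by omega),
      sec_xpow p R n (m - i) (by omega)]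
  have hb : (Coalgebra.counit (R := R) (A := SekSuwa.A R 0)) ∘ₗ sec p R n =
      (Coalgebra.counit (R := R) (A := AlphaPn.A p n R)) := by
    apply (AlphaPn.basis p n R).ext
    intro m
    rw [AlphaPn.basis_apply, LinearMap.comp_apply, sec_xpow p R n _ m.2]
    have h1 : Coalgebra.counit (R := R) ((SekSuwa.A.t : SekSuwa.A R 0) ^ (m : ℕ)) =
      (Bialgebra.counitAlgHom R (SekSuwa.A R 0)) ((SekSuwa.A.t : SekSuwa.A R 0) ^ (m : ℕ)) := rfl
    have h2 : Coalgebra.counit (R := R) (AlphaPn.x p n R ^ (m : ℕ)) =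
      (Bialgebra.counitAlgHom R (AlphaPn.A p n R)) (AlphaPn.x p n R ^ (m : ℕ)) := rfl
    rw [h1, h2, map_pow, map_pow, Bialgebra.counitAlgHom_apply, Bialgebra.counitAlgHom_apply,
      SekSuwa.A.counit_t, AlphaPn.counit_x]
  have hc : (φ : SekSuwa.A R 0 →ₗ[R] AlphaPn.A p n R) ∘ₗ sec p R n = LinearMap.id := by
    apply (AlphaPn.basis p n R).ext
    intro m
    rw [AlphaPn.basis_apply, LinearMap.comp_apply, sec_xpow p R n _ m.2, LinearMap.id_apply]
    show φ (SekSuwa.A.t ^ (m : ℕ)) = _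
    rw [map_pow, hφ]
  refine ⟨sec p R n u, ⟨?_, ?_⟩, ?_⟩
  · have := LinearMap.congr_fun hb u
    rw [LinearMap.comp_apply] at this
    rw [this, hu.counit_eq_one]
  · have := LinearMap.congr_fun ha u
    rw [LinearMap.comp_apply, LinearMap.comp_apply, hu.comul_eq_tmul_self,
      TensorProduct.map_tmul] at this
    exact this
  · exact LinearMap.congr_fun hc u

end Groth.Agent.Helper8.AlphaPnChar
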