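import Mathlib
import Groth.Prelude.Def_Versch
import Groth.Prelude.Def_AlphaP
import Groth.Agent.Helper8.AlphaDual

set_option autoImplicit false
universe u

namespace Groth.Agent.Helper8.AlphaVersch

open TensorProduct Polynomial

variable (p : ℕ) [hp : Fact p.Prime] (R : Type u) [CommRing R] [CharP R p]
include hp

theorem counit_mk (f : R[X]) :
    Coalgebra.counit (R := R) (AlphaP.mk p R f) = f.eval 0 := by
  have h : (Bialgebra.counitAlgHom R (AlphaP.A p R)).comp (AlphaP.mk p R) = Polynomial.aeval (0 : R) := by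
    apply Polynomial.algHom_ext
    rw [AlgHom.comp_apply, AlphaP.mk_X, Bialgebra.counitAlgHom_apply, AlphaP.counit_x, aeval_X]
  have := AlgHom.congr_fun h f
  rw [AlgHom.comp_apply, Bialgebra.counitAlgHom_apply] at this
  rw [this, Polynomial.coe_aeval_eq_eval]

theorem pow_eq_zero_of_counit (a : AlphaP.A p R) (ha : Coalgebra.counit (R := R) a = 0) :
    a ^ p = 0 := by
  obtain ⟨f, rfl⟩ := AlphaP.mk_surjective p R a
  rw [counit_mk, ← Polynomial.coeff_zero_eq_eval_zero, ← Polynomial.X_dvd_iff] at ha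
  obtain ⟨g, rfl⟩ := ha
  rw [map_mul, AlphaP.mk_X, mul_pow, AlphaP.x_pow, zero_mul]

theorem dual_pow (z : CartDual.D R (AlphaP.A p R)) :
    z ^ p = algebraMap R (CartDual.D R (AlphaP.A p R)) ((z 1) ^ p) := by
  obtain ⟨e, -⟩ := Groth.Agent.Helper8.AlphaDual.main p R
  set z' : CartDual.D R (AlphaP.A p R) := z - algebraMap R _ (z 1) with hz'
  have h1 : Coalgebra.counit (R := R) z' = 0 := by
    rw [CartDual.coalgebra_counit_apply, hz']
    show z 1 - (algebraMap R (CartDual.D R (AlphaP.A p R)) (z 1)) 1 = 0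
    rw [LinearMap.convAlgebraMap_apply]
    simp
  have h2 : Coalgebra.counit (R := R) (e z') = 0 := by
    rw [← h1]
    exact CoalgHomClass.counit_comp_apply e z'
  have h3 : (e z') ^ p = 0 := pow_eq_zero_of_counit p R _ h2
  have h4 : z' ^ p = 0 := by
    apply e.injective
    show e (z' ^ p) = e 0
    rw [map_pow, h3, map_zero]
  have h5 : z = z' + algebraMap R _ (z 1) := by rw [hz']; ring
  conv_lhs => rw [h5]
  rw [add_pow_char, h4, zero_add, map_pow]

theorem main
    (v : AlphaP.A p R →+* FrobAlg.BaseChange p R (AlphaP.A p R))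
    (hv : Versch.IsVerschiebung p R (AlphaP.A p R) v) :
    v = ((Algebra.TensorProduct.includeRight (R := R) (A := AlphaP.A p R) (B := FrobAlg.Twist p R)).toRingHom.comp
          (FrobAlg.toTwist p R).toRingHom).comp (Bialgebra.counitAlgHom R (AlphaP.A p R)).toRingHom := by
  apply Versch.IsVerschiebung.unique p R (AlphaP.A p R) hv
  rw [Versch.isVerschiebung_iff]
  intro a x
  have h1 : (((Algebra.TensorProduct.includeRight (R := R) (A := AlphaP.A p R) (B := FrobAlg.Twist p R)).toRingHom.comp
          (FrobAlg.toTwist p R).toRingHom).comp (Bialgebra.counitAlgHom R (AlphaP.A p R)).toRingHom) a =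
      (1 : AlphaP.A p R) ⊗ₜ[R] (FrobAlg.toTwist p R (Coalgebra.counit (R := R) a)) := rfl
  rw [h1, Versch.evTw_tmul', dual_pow, LinearMap.convAlgebraMap_apply, ← map_mul]
  simp

end Groth.Agent.Helper8.AlphaVersch
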