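import Groth.Prelude.Def_DRing2
import Mathlib.Algebra.Homology.DerivedCategory.KProjective
import Mathlib.LinearAlgebra.Trace
import Mathlib.Algebra.Ring.NegOnePow
import Mathlib.Algebra.BigOperators.Group.Finset.Basic
import Mathlib.Data.Int.Interval
import Mathlib.Algebra.Order.Interval.Finset.SuccPred

set_option autoImplicit false
universe u
open CategoryTheory
attribute [local instance] HasDerivedCategory.standard

namespace Groth.Agent.Helper8.AltTr

variable {Λ : Type u} [CommRing Λ]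

/-- telescoping sum over an integer interval -/
lemma sum_Icc_sub (e : ℤ → Λ) (a n : ℤ) (h : a ≤ n) :
    ∑ i ∈ Finset.Icc a (n - 1), (e i - e (i - 1)) = e (n - 1) - e (a - 1) := by
  induction n, h using Int.le_induction with
  | base =>
    rw [Finset.Icc_eq_empty (by lia)]
    simp
  | succ n hn ih =>
    have h1 : Finset.Icc a (n + 1 - 1) = insert n (Finset.Icc a (n - 1)) := by
      rw [Finset.insert_Icc_sub_one_right_eq_Icc hn]
      congr 1
      lia
    rw [h1, Finset.sum_insert (by simp), ih]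
    have : n + 1 - 1 = n := by lia
    rw [this]
    abel

/-- the alternating trace -/
noncomputable def T (P : DRing.Cx Λ) (a b : ℤ) (f : P ⟶ P) : Λ :=
  ∑ i ∈ Finset.Icc a b, ((i.negOnePow : ℤˣ) : ℤ) • LinearMap.trace Λ (P.X i) (f.f i).hom

lemma T_comm {P Q : DRing.Cx Λ} (a b : ℤ) (hPf : DRing.TermwiseFiniteFree P)
    (hQf : DRing.TermwiseFiniteFree Q) (φ : P ⟶ Q) (ψ : Q ⟶ P) :
    T P a b (φ ≫ ψ) = T Q a b (ψ ≫ φ) := by
  unfold T
  refine Finset.sum_congr rfl fun i _ => ?_
  congr 1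
  haveI := (hPf i).1
  haveI := (hPf i).2
  haveI := (hQf i).1
  haveI := (hQf i).2
  rw [HomologicalComplex.comp_f, HomologicalComplex.comp_f, ModuleCat.hom_comp, ModuleCat.hom_comp]
  exact LinearMap.trace_comp_comm' _ _

lemma T_homotopy {P : DRing.Cx Λ} (a b : ℤ) (hP : DRing.VanishesOutside P a b)
    (hPf : DRing.TermwiseFiniteFree P) (u v : P ⟶ P) (H : Homotopy u v) :
    T P a b u = T P a b v := by
  rcases lt_or_ge b a with hab | hab
  · unfold T
    rw [Finset.Icc_eq_empty (by lia)]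
    simp
  let c : ℤ → Λ := fun i =>
    LinearMap.trace Λ (P.X i) (P.d i (i + 1) ≫ H.hom (i + 1) i).hom
  let e : ℤ → Λ := fun i => ((i.negOnePow : ℤˣ) : ℤ) • c i
  have key : ∀ i, ((i.negOnePow : ℤˣ) : ℤ) • LinearMap.trace Λ (P.X i) (u.f i).hom
      = (e i - e (i - 1)) + ((i.negOnePow : ℤˣ) : ℤ) • LinearMap.trace Λ (P.X i) (v.f i).hom := by
    intro i
    haveI := (hPf i).1
    haveI := (hPf i).2
    haveI := (hPf (i - 1)).1
    haveI := (hPf (i - 1)).2
    have h1 : u.f i = P.d i (i + 1) ≫ H.hom (i + 1) i + H.hom i (i - 1) ≫ P.d (i - 1) i + v.f i := by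
      rw [H.comm i, dNext_eq H.hom (show (ComplexShape.up ℤ).Rel i (i + 1) from rfl),
        prevD_eq H.hom (show (ComplexShape.up ℤ).Rel (i - 1) i by simp)]
    have h2 : LinearMap.trace Λ (P.X i) (H.hom i (i - 1) ≫ P.d (i - 1) i).hom = c (i - 1) := by
      have h3 : (H.hom i (i - 1) ≫ P.d (i - 1) i).hom
          = (P.d (i - 1) i).hom ∘ₗ (H.hom i (i - 1)).hom := ModuleCat.hom_comp _ _
      rw [h3, LinearMap.trace_comp_comm']
      have h4 : i - 1 + 1 = i := by lia
      show _ = LinearMap.trace Λ (P.X (i - 1)) (P.d (i - 1) (i - 1 + 1) ≫ H.hom (i - 1 + 1) (i - 1)).hom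
      rw [h4]
      rfl
    have h5 : ((i.negOnePow : ℤˣ) : ℤ) = - (((i - 1).negOnePow : ℤˣ) : ℤ) := by
      rw [Int.negOnePow_sub, Int.negOnePow_one]
      simp
    rw [h1, ModuleCat.hom_add, ModuleCat.hom_add, map_add, map_add, h2, smul_add, smul_add]
    congr 1
    have h6 : ((i.negOnePow : ℤˣ) : ℤ) • c (i - 1) = - ((((i - 1).negOnePow : ℤˣ) : ℤ) • c (i - 1)) := by
      rw [h5, neg_smul]
    rw [h6]
    exact (sub_eq_add_neg (e i) (e (i - 1))).symm
  unfold T
  rw [Finset.sum_congr rfl (fun i _ => key i), Finset.sum_add_distrib]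
  have hb : b = (b + 1) - 1 := by lia
  have hsum : ∑ i ∈ Finset.Icc a b, (e i - e (i - 1)) = 0 := by
    rw [hb, sum_Icc_sub e a (b + 1) (by lia)]
    have e1 : e (b + 1 - 1) = 0 := by
      have : b + 1 - 1 = b := by lia
      rw [this]
      have hz : P.d b (b + 1) = 0 := (hP (b + 1) (Or.inr (by lia))).eq_of_tgt _ _
      simp [e, c, hz]
    have e2 : e (a - 1) = 0 := by
      have hz : P.d (a - 1) (a - 1 + 1) = 0 := (hP (a - 1) (Or.inl (by lia))).eq_of_src _ _
      simp [e, c, hz]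
    rw [e1, e2, sub_zero]
  rw [hsum, zero_add]

lemma exists_map (P Q : DRing.Cx Λ) [P.IsKProjective]
    (β : DerivedCategory.Q.obj P ⟶ DerivedCategory.Q.obj Q) :
    ∃ φ : P ⟶ Q, DerivedCategory.Q.map φ = β := by
  obtain ⟨g, hg⟩ := (CochainComplex.IsKProjective.Qh_map_bijective P
    ((HomotopyCategory.quotient _ _).obj Q)).surjective
    ((DerivedCategory.quotientCompQhIso _).hom.app P ≫ β ≫
      (DerivedCategory.quotientCompQhIso _).inv.app Q)
  obtain ⟨φ, rfl⟩ := (HomotopyCategory.quotient _ _).map_surjective g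
  refine ⟨φ, ?_⟩
  have nat := DerivedCategory.quotientCompQhIso_hom_naturality φ
  rw [hg] at nat
  simp only [Category.assoc, Iso.inv_hom_id_app, Functor.comp_obj] at nat
  have := congrArg (fun t => (DerivedCategory.quotientCompQhIso _).inv.app P ≫ t) nat
  simp only [Iso.inv_hom_id_app_assoc] at this
  simpa using this.symm

lemma homotopy_of_eq (P Q : DRing.Cx Λ) [P.IsKProjective] (φ₁ φ₂ : P ⟶ Q)
    (h : DerivedCategory.Q.map φ₁ = DerivedCategory.Q.map φ₂) : Nonempty (Homotopy φ₁ φ₂) := by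
  have n1 := DerivedCategory.quotientCompQhIso_hom_naturality φ₁
  have n2 := DerivedCategory.quotientCompQhIso_hom_naturality φ₂
  rw [h, ← n2] at n1
  have n3 := (cancel_mono _).1 n1
  have n4 := (CochainComplex.IsKProjective.Qh_map_bijective P
    ((HomotopyCategory.quotient _ _).obj Q)).injective n3
  exact ⟨HomotopyCategory.homotopyOfEq _ _ n4⟩

lemma isKProjective {P : DRing.Cx Λ} (a b : ℤ) (hP : DRing.VanishesOutside P a b)
    (hPf : DRing.TermwiseFiniteFree P) : P.IsKProjective := by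
  haveI : P.IsStrictlyLE b := by
    rw [CochainComplex.isStrictlyLE_iff]
    intro i hi
    exact hP i (Or.inr hi)
  haveI : ∀ n, Projective (P.X n) := fun n => by
    haveI := (hPf n).2
    exact (P.X n).projective_of_categoryTheory_projective
  exact CochainComplex.isKProjective_of_projective P b

theorem main (P Q : DRing.Cx Λ) (a b : ℤ) (hP : DRing.VanishesOutside P a b)
    (hQ : DRing.VanishesOutside Q a b) (hPf : DRing.TermwiseFiniteFree P)
    (hQf : DRing.TermwiseFiniteFree Q) (f : P ⟶ P) (g : Q ⟶ Q) (α : DRing.toD P ≅ DRing.toD Q)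
    (h : α.hom ≫ DerivedCategory.Q.map g = DerivedCategory.Q.map f ≫ α.hom) :
    T P a b f = T Q a b g := by
  haveI := isKProjective a b hP hPf
  haveI := isKProjective a b hQ hQf
  obtain ⟨φ, hφ⟩ := exists_map P Q α.hom
  obtain ⟨ψ, hψ⟩ := exists_map Q P α.inv
  obtain ⟨H1⟩ := homotopy_of_eq P P (φ ≫ ψ) (𝟙 P) (by
    rw [Functor.map_comp, hφ, hψ, Iso.hom_inv_id, CategoryTheory.Functor.map_id])
  obtain ⟨H2⟩ := homotopy_of_eq Q Q (ψ ≫ φ) (𝟙 Q) (by
    rw [Functor.map_comp, hφ, hψ, Iso.inv_hom_id, CategoryTheory.Functor.map_id])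
  obtain ⟨H3⟩ := homotopy_of_eq P Q (f ≫ φ) (φ ≫ g) (by
    rw [Functor.map_comp, Functor.map_comp, hφ, h])
  calc T P a b f = T P a b (f ≫ φ ≫ ψ) := by
        refine T_homotopy a b hP hPf _ _ ?_
        exact (Homotopy.ofEq (Category.comp_id f).symm).trans ((H1.compLeft f).symm)
    _ = T P a b ((f ≫ φ) ≫ ψ) := by rw [Category.assoc]
    _ = T Q a b (ψ ≫ f ≫ φ) := T_comm a b hPf hQf _ _
    _ = T Q a b (ψ ≫ φ ≫ g) := by
        refine T_homotopy a b hQ hQf _ _ ?_
        exact H3.compLeft ψ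
    _ = T Q a b ((ψ ≫ φ) ≫ g) := by rw [Category.assoc]
    _ = T Q a b g := by
        refine T_homotopy a b hQ hQf _ _ ?_
        exact (H2.compRight g).trans (Homotopy.ofEq (Category.id_comp g))

end Groth.Agent.Helper8.AltTr
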