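import Mathlib

set_option autoImplicit false

universe u v

namespace Groth.Agent.Helper8.AnisoIsom

open Polynomial

theorem polar_inv {K : Type u} [Field K] {V : Type v} [AddCommGroup V] [Module K V]
    (q : QuadraticForm K V) (f : V →ₗ[K] V) (hf : ∀ x, q (f x) = q x) (x y : V) :
    QuadraticMap.polar q (f x) (f y) = QuadraticMap.polar q x y := by
  unfold QuadraticMap.polar
  rw [← map_add, hf, hf, hf]

theorem key {K : Type u} [Field K] {V : Type v} [AddCommGroup V] [Module K V]
    (q : QuadraticForm K V) (hq : q.Anisotropic) (h2 : (2 : K) ≠ 0)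
    (f : V →ₗ[K] V) (hf : ∀ x, q (f x) = q x) (a : K) (v : V)
    (hfu : f (f (f v) - v) = a • (f (f v) - v)) : f (f v) - v = 0 := by
  by_contra hne
  obtain ⟨u, hu⟩ : ∃ u, u = f (f v) - v := ⟨_, rfl⟩
  rw [← hu] at hfu hne
  have hqu : q u ≠ 0 := fun h => hne (hq u h)
  have h1 : q u = (a * a) • q u := by
    rw [← QuadraticMap.map_smul, ← hfu, hf]
  have ha1 : a * a = 1 := by
    rw [smul_eq_mul] at h1
    have h3 : (a * a - 1) * q u = 0 := by rw [sub_mul, one_mul, ← h1, sub_self]
    rcases mul_eq_zero.1 h3 with h4 | h4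
    · exact sub_eq_zero.1 h4
    · exact absurd h4 hqu
  have ha0 : a ≠ 0 := by
    intro h0
    rw [h0, mul_zero] at ha1
    exact zero_ne_one ha1
  obtain ⟨v', hv'⟩ : ∃ v', v' = f v + a • v := ⟨_, rfl⟩
  have hfv' : f v' = a • v' + u := by
    rw [hv', hu, map_add, map_smul, smul_add, smul_smul, ha1, one_smul]
    abel
  have h3 := polar_inv q f hf v' u
  rw [hfv', hfu, QuadraticMap.polar_add_left, QuadraticMap.polar_smul_left,
    QuadraticMap.polar_smul_right, QuadraticMap.polar_smul_right, QuadraticMap.polar_self] at h3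
  simp only [smul_eq_mul, nsmul_eq_mul, Nat.cast_ofNat] at h3
  have h4 : a * (2 * q u) = 0 := by
    linear_combination h3 - (QuadraticMap.polar q v' u) * ha1
  exact absurd h4 (mul_ne_zero ha0 (mul_ne_zero h2 hqu))

theorem sq_of_prod {K : Type u} [Field K] {V : Type v} [AddCommGroup V] [Module K V]
    (q : QuadraticForm K V) (hq : q.Anisotropic) (h2 : (2 : K) ≠ 0)
    (f : V →ₗ[K] V) (hf : ∀ x, q (f x) = q x) (S : Multiset K) :
    ∀ v : V, aeval f ((S.map (fun a => X - C a)).prod) v = 0 → f (f v) = v := by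
  induction S using Multiset.induction_on with
  | empty =>
    intro v hv
    rw [Multiset.map_zero, Multiset.prod_zero, map_one, Module.End.one_apply] at hv
    rw [hv, map_zero, map_zero]
  | cons a S ih =>
    intro v hv
    rw [Multiset.map_cons, Multiset.prod_cons, mul_comm, map_mul, Module.End.mul_apply] at hv
    have h1 : aeval f (X - C a) v = f v - a • v := by
      rw [map_sub, aeval_X, aeval_C, LinearMap.sub_apply, Module.algebraMap_end_apply]
    rw [h1] at hv
    have h3 := ih _ hv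
    rw [map_sub, map_smul, map_sub, map_smul] at h3
    have h4 : f (f (f v) - v) = a • (f (f v) - v) := by
      rw [map_sub, smul_sub]
      calc f (f (f v)) - f v = (f (f (f v)) - a • f (f v)) + (a • f (f v) - f v) := by abel
        _ = (f v - a • v) + (a • f (f v) - f v) := by rw [h3]
        _ = a • f (f v) - a • v := by abel
    exact sub_eq_zero.1 (key q hq h2 f hf a v h4)

theorem sq_eq_one {K : Type u} [Field K] {V : Type v} [AddCommGroup V] [Module K V]
    (hK : ∀ n : ℕ, 0 < n → (X ^ n - 1 : K[X]).Splits) (h2 : (2 : K) ≠ 0)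
    (q : QuadraticForm K V) (hq : q.Anisotropic)
    (f : V →ₗ[K] V) (hf : ∀ x, q (f x) = q x) (N : ℕ) (hN : 0 < N) (hfN : f ^ N = 1) :
    ∀ v, f (f v) = v := by
  intro v
  have hm : (X ^ N - 1 : K[X]).Monic := by
    have := monic_X_pow_sub_C (1 : K) hN.ne'
    rwa [map_one] at this
  have hs := (hK N hN).eq_prod_roots_of_monic hm
  apply sq_of_prod q hq h2 f hf (X ^ N - 1 : K[X]).roots v
  rw [← hs, map_sub, map_pow, aeval_X, map_one, hfN, sub_self, LinearMap.zero_apply]

theorem main (K : Type u) [Field K] (hK : ∀ n : ℕ, 0 < n → (X ^ n - 1 : K[X]).Splits)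
    (h2 : (2 : K) ≠ 0)
    (V : Type v) [AddCommGroup V] [Module K V] [FiniteDimensional K V]
    (q : QuadraticForm K V) (hq : q.Anisotropic)
    (G : Subgroup (V ≃ₗ[K] V)) [Finite G] (hG : ∀ g ∈ G, ∀ x : V, q (g x) = q x) :
    (∀ g ∈ G, ∀ h ∈ G, g * h = h * g) ∧ Nat.card G ≤ 2 ^ Module.finrank K V := by
  classical
  have hsq : ∀ g ∈ G, ∀ v : V, g (g v) = v := by
    intro g hg v
    have hN : 0 < Nat.card G := Nat.card_pos
    have h1 : (⟨g, hg⟩ : G) ^ Nat.card G = 1 := pow_card_eq_one'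
    have h2' : g ^ Nat.card G = 1 := by
      have := congrArg Subtype.val h1
      rw [Subgroup.coe_pow, Subgroup.coe_one] at this
      exact this
    have h3 : (g : V →ₗ[K] V) ^ Nat.card G = 1 := by
      have := congrArg (LinearEquiv.automorphismGroup.toLinearMapMonoidHom (R := K) (M := V)) h2'
      rw [map_pow, map_one] at this
      exact this
    exact sq_eq_one hK h2 q hq (g : V →ₗ[K] V) (fun x => hG g hg x) _ hN h3 v
  have hmul1 : ∀ g ∈ G, g * g = 1 := by
    intro g hg
    apply LinearEquiv.ext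
    intro v
    exact hsq g hg v
  have hcomm : ∀ g ∈ G, ∀ h ∈ G, g * h = h * g := by
    intro g hg h hh
    have h1 := hmul1 (g * h) (G.mul_mem hg hh)
    have e1 : g⁻¹ = g := inv_eq_of_mul_eq_one_right (hmul1 g hg)
    have e2 : h⁻¹ = h := inv_eq_of_mul_eq_one_right (hmul1 h hh)
    have e3 : (g * h)⁻¹ = g * h := inv_eq_of_mul_eq_one_right h1
    rw [mul_inv_rev, e1, e2] at e3
    exact e3.symm
  refine ⟨hcomm, ?_⟩
  letI : Fintype G := Fintype.ofFinite G
  obtain ⟨f, hfdef⟩ : ∃ f : G → Module.End K V,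
      f = fun g : G => ((g.1 : V ≃ₗ[K] V) : V →ₗ[K] V) := ⟨_, rfl⟩
  have hfapp : ∀ (g : G) v, f g v = (g : V ≃ₗ[K] V) v := by
    intro g v
    rw [hfdef]
    rfl
  have hff : ∀ (g : G) v, f g (f g v) = v := by
    intro g v
    rw [hfapp, hfapp]
    exact hsq g.1 g.2 v
  have hfcomm : ∀ g g' : G, Commute (f g) (f g') := by
    intro g g'
    show f g * f g' = f g' * f g
    apply LinearMap.ext
    intro v
    simp only [Module.End.mul_apply, hfapp]
    exact congrArg (fun e : V ≃ₗ[K] V => e v) (hcomm g.1 g.2 g'.1 g'.2)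
  have hss : ∀ g, (f g).IsSemisimple := by
    intro g
    apply Module.End.isSemisimple_of_squarefree_aeval_eq_zero (p := X ^ 2 - C (1 : K))
    · exact (separable_X_pow_sub_C (1 : K) (by exact_mod_cast h2) one_ne_zero).squarefree
    · rw [map_sub, map_pow, aeval_X, aeval_C, map_one, sub_eq_zero]
      apply LinearMap.ext
      intro v
      rw [pow_two, Module.End.mul_apply, Module.End.one_apply]
      exact hff g v
  have htop : ∀ g, ⨆ μ, (f g).maxGenEigenspace μ = ⊤ := by
    intro g
    rw [eq_top_iff]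
    intro v _
    have hv : v = (2 : K)⁻¹ • (v + f g v) + (2 : K)⁻¹ • (v - f g v) := by
      rw [← smul_add]
      have h5 : v + f g v + (v - f g v) = (2 : K) • v := by
        rw [two_smul]
        abel
      rw [h5, smul_smul, inv_mul_cancel₀ h2, one_smul]
    rw [hv]
    apply Submodule.add_mem
    · apply Submodule.mem_iSup_of_mem (1 : K)
      rw [(hss g).isFinitelySemisimple.maxGenEigenspace_eq_eigenspace,
        Module.End.mem_eigenspace_iff]
      rw [map_smul, map_add, hff, one_smul, add_comm]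
    · apply Submodule.mem_iSup_of_mem (-1 : K)
      rw [(hss g).isFinitelySemisimple.maxGenEigenspace_eq_eigenspace,
        Module.End.mem_eigenspace_iff]
      rw [map_smul, map_sub, hff, neg_smul, one_smul, ← smul_neg, neg_sub]
  obtain ⟨W, hWdef⟩ : ∃ W : (G → K) → Submodule K V,
      W = fun χ => ⨅ g, (f g).maxGenEigenspace (χ g) := ⟨_, rfl⟩
  have hW : ∀ χ v, v ∈ W χ ↔ ∀ g, f g v = χ g • v := by
    intro χ v
    rw [hWdef]
    simp only [Submodule.mem_iInf]
    refine forall_congr' (fun g => ?_)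
    rw [(hss g).isFinitelySemisimple.maxGenEigenspace_eq_eigenspace,
      Module.End.mem_eigenspace_iff]
  have hsup : ⨆ χ, W χ = ⊤ := by
    rw [hWdef]
    exact Module.End.iSup_iInf_maxGenEigenspace_eq_top_of_iSup_maxGenEigenspace_eq_top_of_commute
      f (fun i j _ => hfcomm i j) htop
  have hind : iSupIndep W := by
    rw [hWdef]
    exact Module.End.independent_iInf_maxGenEigenspace_of_forall_mapsTo f
      (fun i j φ => Module.End.mapsTo_maxGenEigenspace_of_comm (hfcomm j i) φ)
  letI : Fintype {χ // W χ ≠ ⊥} := hind.fintypeNeBotOfFiniteDimensional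
  have hΩcard : Fintype.card {χ // W χ ≠ ⊥} ≤ Module.finrank K V :=
    hind.subtype_ne_bot_le_finrank
  have hv : ∀ χ : {χ // W χ ≠ ⊥}, ∃ v : V, v ≠ 0 ∧ ∀ g, f g v = χ.1 g • v := by
    intro χ
    obtain ⟨v, hvW, hv0⟩ := Submodule.exists_mem_ne_zero_of_ne_bot χ.2
    exact ⟨v, hv0, (hW _ _).1 hvW⟩
  choose vv hvv0 hvv using hv
  have hχ : ∀ (χ : {χ // W χ ≠ ⊥}) g, χ.1 g = 1 ∨ χ.1 g = -1 := by
    intro χ g
    have h1 := hff g (vv χ)
    rw [hvv χ g, map_smul, hvv χ g, smul_smul] at h1
    have h3 : (χ.1 g * χ.1 g - 1) • vv χ = 0 := by rw [sub_smul, h1, one_smul, sub_self]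
    have h4 := (smul_eq_zero.1 h3).resolve_right (hvv0 χ)
    exact mul_self_eq_one_iff.1 (sub_eq_zero.1 h4)
  obtain ⟨Θ, hΘ⟩ : ∃ Θ : G → ({χ // W χ ≠ ⊥} → K), Θ = fun g χ => χ.1 g := ⟨_, rfl⟩
  obtain ⟨t, ht⟩ : ∃ t : Finset ({χ // W χ ≠ ⊥} → K),
      t = Fintype.piFinset (fun _ => ({1, -1} : Finset K)) := ⟨_, rfl⟩
  have hΘt : ∀ g ∈ (Finset.univ : Finset G), Θ g ∈ t := by
    intro g _
    rw [ht, Fintype.mem_piFinset]
    intro χ
    rw [Finset.mem_insert, Finset.mem_singleton, hΘ]
    exact hχ χ g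
  have hΘinj : Set.InjOn Θ (Finset.univ : Finset G) := by
    intro g _ g' _ heq
    have hpt : ∀ χ : {χ // W χ ≠ ⊥}, χ.1 g = χ.1 g' := by
      intro χ
      have h5 := congrFun heq χ
      rw [hΘ] at h5
      exact h5
    have hfeq : f g = f g' := by
      apply LinearMap.ext
      intro v
      have hvtop : v ∈ ⨆ χ, W χ := by rw [hsup]; trivial
      refine Submodule.iSup_induction W (motive := fun v => f g v = f g' v) hvtop ?_ ?_ ?_
      · intro χ v hv
        by_cases hb : W χ = ⊥
        · rw [hb, Submodule.mem_bot] at hv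
          rw [hv, map_zero, map_zero]
        · rw [(hW χ v).1 hv g, (hW χ v).1 hv g']
          exact congrArg (· • v) (hpt ⟨χ, hb⟩)
      · rw [map_zero, map_zero]
      · intro x y hx hy
        rw [map_add, map_add, hx, hy]
    apply Subtype.ext
    apply LinearEquiv.ext
    intro v
    rw [← hfapp, ← hfapp, hfeq]
  have htcard : t.card ≤ 2 ^ Module.finrank K V := by
    rw [ht, Fintype.card_piFinset, Finset.prod_const, Finset.card_univ]
    calc ({1, -1} : Finset K).card ^ Fintype.card {χ // W χ ≠ ⊥}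
        ≤ 2 ^ Fintype.card {χ // W χ ≠ ⊥} := Nat.pow_le_pow_left Finset.card_le_two _
      _ ≤ 2 ^ Module.finrank K V := Nat.pow_le_pow_right (by norm_num) hΩcard
  calc Nat.card G = Fintype.card G := Nat.card_eq_fintype_card
    _ = (Finset.univ : Finset G).card := Finset.card_univ.symm
    _ ≤ t.card := Finset.card_le_card_of_injOn Θ hΘt hΘinj
    _ ≤ 2 ^ Module.finrank K V := htcard

end Groth.Agent.Helper8.AnisoIsom
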