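import Mathlib
import Groth.Prelude.Def_AlgGrp

/-!
# Morphisms from an anti-affine group to an extension of a proper group by an affine group

A morphism from a `k`-scheme with only constant global functions to an affine `k`-scheme is
constant; hence two pointed morphisms `G → H` with the same composite to `H/N`, `N` affine,
coincide.
-/

set_option autoImplicit false
universe u

open CategoryTheory CategoryTheory.Limits AlgebraicGeometry
open MonoidalCategory CartesianMonoidalCategory MonObj GrpObj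

namespace Groth.Agent.Helper8.AntiAffEq

variable {k : Type u} [Field k] {G N : Over (Spec (CommRingCat.of k))}

theorem eq_toUnit_of_affine
    (hG : Function.Bijective ((Scheme.ΓSpecIso (CommRingCat.of k)).inv ≫ G.hom.appTop).hom)
    [IsAffine N.left] (e : 𝟙_ (Over (Spec (CommRingCat.of k))) ⟶ G) (u : G ⟶ N) :
    u = toUnit G ≫ e ≫ u := by
  apply Over.OverMorphism.ext
  show u.left = G.hom ≫ e.left ≫ u.left
  apply ext_of_isAffine
  rw [Scheme.Hom.comp_appTop, Scheme.Hom.comp_appTop]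
  have he : e.left ≫ G.hom = 𝟙 (Spec (CommRingCat.of k)) := Over.w e
  have h1 : G.hom.appTop ≫ e.left.appTop = 𝟙 _ := by
    rw [← Scheme.Hom.comp_appTop, he]
    rfl
  haveI : IsIso ((Scheme.ΓSpecIso (CommRingCat.of k)).inv ≫ G.hom.appTop) :=
    (ConcreteCategory.isIso_iff_bijective _).mpr hG
  haveI : IsIso G.hom.appTop := IsIso.of_isIso_comp_left (Scheme.ΓSpecIso _).inv _
  have h2 : e.left.appTop ≫ G.hom.appTop = 𝟙 _ := by
    rw [← cancel_epi G.hom.appTop, ← Category.assoc, h1, Category.id_comp, Category.comp_id]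
  rw [Category.assoc, h2, Category.comp_id]

theorem main {H A : Over (Spec (CommRingCat.of k))} [GrpObj G] [GrpObj H] [GrpObj N] [GrpObj A]
    (hG : Function.Bijective ((Scheme.ΓSpecIso (CommRingCat.of k)).inv ≫ G.hom.appTop).hom)
    [IsAffine N.left] (i : N ⟶ H) (α : H ⟶ A) [IsMonHom α] (hker : AlgGrp.IsKernel i α)
    (f f' : G ⟶ H) (hf : η[G] ≫ f = η[H]) (hf' : η[G] ≫ f' = η[H]) (hα : f ≫ α = f' ≫ α) :
    f = f' := by
  have hφ : (f * f'⁻¹) ≫ α = toUnit G ≫ η[A] := by
    rw [MonObj.mul_comp, GrpObj.inv_comp, hα, mul_inv_cancel, Hom.one_def]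
  obtain ⟨φ', hφ'⟩ : ∃ φ' : G ⟶ N, φ' ≫ i = f * f'⁻¹ :=
    ⟨hker.lift (f * f'⁻¹) (toUnit G) hφ, hker.lift_fst _ _ _⟩
  have h1 := eq_toUnit_of_affine hG η[G] φ'
  have h2 : f * f'⁻¹ = 1 := by
    rw [← hφ', h1, Category.assoc, Category.assoc, hφ', MonObj.comp_mul, GrpObj.comp_inv, hf, hf',
      mul_inv_cancel, MonObj.comp_one]
  exact mul_inv_eq_one.mp h2

end Groth.Agent.Helper8.AntiAffEq
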