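import Mathlib
import Groth.Prelude.Def_AlgGrp
import Groth.Agent.Helper8.Blanchard1

/-!
# Anti-affineness in extensions of group schemes over a field

`O(X) = k` is equivalent to: every morphism from `X` to an affine scheme is constant.  For an
exact sequence `1 → G₁ → G → G₂ → 1`: `G` anti-affine ⇒ `G₂` anti-affine (as `q` is an
epimorphism), and `G₁, G₂` anti-affine ⇒ `G` anti-affine (flat base change of `O(G₁) = k` and fpqc
descent along `q`).
-/

set_option autoImplicit false
universe u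

open CategoryTheory CategoryTheory.Limits AlgebraicGeometry
open MonoidalCategory CartesianMonoidalCategory MonObj GrpObj

namespace Groth.Agent.Helper8.AntiAffExt

open Groth.Agent.Helper8.Blanchard1

variable {k : Type u} [Field k]

/-- every morphism to an affine scheme is constant -/
def ConstToAffine (X : Over (Spec (CommRingCat.of k)))
    (e : 𝟙_ (Over (Spec (CommRingCat.of k))) ⟶ X) : Prop :=
  ∀ (W : Scheme.{u}) [IsAffine W] (φ : X.left ⟶ W), φ = X.hom ≫ e.left ≫ φ

theorem isIso_appTop_of_bijective {X : Over (Spec (CommRingCat.of k))}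
    (hX : Function.Bijective ((Scheme.ΓSpecIso (CommRingCat.of k)).inv ≫ X.hom.appTop).hom) :
    IsIso X.hom.appTop := by
  haveI : IsIso ((Scheme.ΓSpecIso (CommRingCat.of k)).inv ≫ X.hom.appTop) :=
    (ConcreteCategory.isIso_iff_bijective _).mpr hX
  exact IsIso.of_isIso_comp_left (Scheme.ΓSpecIso _).inv _

theorem constToAffine_of_bijective {X : Over (Spec (CommRingCat.of k))}
    (e : 𝟙_ (Over (Spec (CommRingCat.of k))) ⟶ X)
    (hX : Function.Bijective ((Scheme.ΓSpecIso (CommRingCat.of k)).inv ≫ X.hom.appTop).hom) :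
    ConstToAffine X e := by
  intro W _ φ
  apply ext_of_isAffine
  rw [Scheme.Hom.comp_appTop, Scheme.Hom.comp_appTop]
  have he : e.left ≫ X.hom = 𝟙 (Spec (CommRingCat.of k)) := Over.w e
  have h1 : X.hom.appTop ≫ e.left.appTop = 𝟙 _ := by
    rw [← Scheme.Hom.comp_appTop, he]
    rfl
  haveI : IsIso X.hom.appTop := isIso_appTop_of_bijective hX
  have h2 : e.left.appTop ≫ X.hom.appTop = 𝟙 _ := by
    rw [← cancel_epi X.hom.appTop, ← Category.assoc, h1, Category.id_comp, Category.comp_id]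
  rw [Category.assoc, h2, Category.comp_id]

theorem bijective_of_constToAffine {X : Over (Spec (CommRingCat.of k))}
    (e : 𝟙_ (Over (Spec (CommRingCat.of k))) ⟶ X) (h : ConstToAffine X e) :
    Function.Bijective ((Scheme.ΓSpecIso (CommRingCat.of k)).inv ≫ X.hom.appTop).hom := by
  have h1 := h (Spec Γ(X.left, ⊤)) X.left.toSpecΓ
  have h2 := congrArg Scheme.Hom.appTop h1
  rw [Scheme.toSpecΓ_appTop, Scheme.Hom.comp_appTop, Scheme.Hom.comp_appTop,
    Scheme.toSpecΓ_appTop] at h2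
  haveI : Nonempty ↥(⊤ : X.left.Opens) :=
    ⟨⟨e.left (IsLocalRing.closedPoint k), trivial⟩⟩
  haveI : Nontrivial Γ(X.left, ⊤) := @Scheme.component_nontrivial X.left ⊤ this
  refine ⟨RingHom.injective _, fun s => ?_⟩
  let t : Γ(Spec (CommRingCat.of k), ⊤) :=
    ((Scheme.ΓSpecIso Γ(X.left, ⊤)).hom ≫ e.left.appTop).hom
      ((Scheme.ΓSpecIso Γ(X.left, ⊤)).inv.hom s)
  have ht : X.hom.appTop.hom t = s := by
    have h3 := congrArg (fun ψ => ψ.hom ((Scheme.ΓSpecIso Γ(X.left, ⊤)).inv.hom s)) h2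
    simp only [CommRingCat.hom_comp, RingHom.coe_comp, Function.comp_apply] at h3
    have h4 : (Scheme.ΓSpecIso Γ(X.left, ⊤)).hom.hom
        ((Scheme.ΓSpecIso Γ(X.left, ⊤)).inv.hom s) = s := by
      rw [← CommRingCat.comp_apply, Iso.inv_hom_id]
      rfl
    exact h3.symm.trans h4
  refine ⟨(Scheme.ΓSpecIso (CommRingCat.of k)).hom.hom t, ?_⟩
  rw [CommRingCat.hom_comp, RingHom.coe_comp, Function.comp_apply]
  have h5 : (Scheme.ΓSpecIso (CommRingCat.of k)).inv.hom
      ((Scheme.ΓSpecIso (CommRingCat.of k)).hom.hom t) = t := by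
    rw [← CommRingCat.comp_apply, Iso.hom_inv_id]
    rfl
  rw [h5, ht]

/-- `X → Spec k` with `Γ(X, O) = k` has `O(U) = O(X_U)` for both opens of the point -/
theorem isIso_app_of_isIso_appTop {Y : Scheme.{u}} (q : Y ⟶ Spec (CommRingCat.of k))
    (h : IsIso q.appTop) (U : (Spec (CommRingCat.of k)).Opens) : IsIso (q.app U) := by
  by_cases hU : IsLocalRing.closedPoint k ∈ U
  · have hUtop : U = ⊤ := by
      ext z
      constructor
      · intro _
        trivial
      · intro _
        have : z = IsLocalRing.closedPoint k := Subsingleton.elim (α := PrimeSpectrum k) _ _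
        rw [this]
        exact hU
    subst hUtop
    exact h
  · have hUbot : U = ⊥ := by
      ext z
      constructor
      · intro hz
        have : z = IsLocalRing.closedPoint k := Subsingleton.elim (α := PrimeSpectrum k) _ _
        rw [this] at hz
        exact (hU hz).elim
      · intro hz
        exact hz.elim
    subst hUbot
    rw [ConcreteCategory.isIso_iff_bijective]
    haveI : Subsingleton Γ(Y, q ⁻¹ᵁ ⊥) := by
      rw [Scheme.Hom.preimage_bot]
      infer_instance
    exact ⟨fun _ _ _ => Subsingleton.elim _ _, fun b => ⟨0, Subsingleton.elim _ _⟩⟩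

/-- a morphism from `G × G₁` to an affine scheme, `G₁` anti-affine, factors through `G` -/
theorem fst_const {G G₁ : Over (Spec (CommRingCat.of k))}
    (e₁ : 𝟙_ (Over (Spec (CommRingCat.of k))) ⟶ G₁) [QuasiCompact G₁.hom] [QuasiSeparated G₁.hom]
    (h₁ : Function.Bijective ((Scheme.ΓSpecIso (CommRingCat.of k)).inv ≫ G₁.hom.appTop).hom)
    (W : Scheme.{u}) [IsAffine W] (Φ : (G ⊗ G₁).left ⟶ W) :
    Φ = (fst G G₁).left ≫ (lift (𝟙 G) (toUnit G ≫ e₁)).left ≫ Φ := by
  haveI : Flat G.hom := inferInstance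
  have H : IsPullback (pullback.snd G.hom G₁.hom) (pullback.fst G.hom G₁.hom) G₁.hom G.hom :=
    (IsPullback.of_hasPullback G.hom G₁.hom).flip
  haveI hfst : IsIso (fst G G₁).left.appTop :=
    isIso_app_of_isPullback H (isIso_app_of_isIso_appTop G₁.hom (isIso_appTop_of_bijective h₁)) ⊤
  have hσ : (lift (𝟙 G) (toUnit G ≫ e₁)).left ≫ (fst G G₁).left = 𝟙 _ := by
    rw [← Over.comp_left, lift_fst]
    rfl
  have h1 : (fst G G₁).left.appTop ≫ (lift (𝟙 G) (toUnit G ≫ e₁)).left.appTop = 𝟙 _ := by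
    rw [← Scheme.Hom.comp_appTop, hσ]
    rfl
  have h2 : (lift (𝟙 G) (toUnit G ≫ e₁)).left.appTop ≫ (fst G G₁).left.appTop = 𝟙 _ := by
    rw [← cancel_epi (fst G G₁).left.appTop, ← Category.assoc, h1, Category.id_comp,
      Category.comp_id]
  apply ext_of_isAffine
  rw [Scheme.Hom.comp_appTop, Scheme.Hom.comp_appTop, Category.assoc, h2, Category.comp_id]

section Ext

variable {G₁ G G₂ : Over (Spec (CommRingCat.of k))} [GrpObj G₁] [GrpObj G] [GrpObj G₂]

theorem quotient_antiAffine (q : G ⟶ G₂) [IsMonHom q] [Surjective q.left] [Flat q.left]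
    (hG : Function.Bijective ((Scheme.ΓSpecIso (CommRingCat.of k)).inv ≫ G.hom.appTop).hom) :
    Function.Bijective ((Scheme.ΓSpecIso (CommRingCat.of k)).inv ≫ G₂.hom.appTop).hom := by
  apply bijective_of_constToAffine η[G₂]
  intro W _ φ
  haveI : Epi q.left := Flat.epi_of_flat_of_surjective q.left
  rw [← cancel_epi q.left]
  have h1 := constToAffine_of_bijective η[G] hG W (q.left ≫ φ)
  rw [h1, ← Category.assoc q.left, Over.w q, ← Category.assoc η[G].left, ← Over.comp_left,
    IsMonHom.one_hom]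

set_option maxHeartbeats 800000 in
theorem extension_antiAffine [QuasiCompact G₁.hom] [QuasiSeparated G₁.hom] [QuasiCompact G.hom]
    [QuasiSeparated G₂.hom]
    (i : G₁ ⟶ G) [IsMonHom i] (q : G ⟶ G₂) [IsMonHom q] [Surjective q.left] [Flat q.left]
    (hex : AlgGrp.IsKernel i q)
    (h₁ : Function.Bijective ((Scheme.ΓSpecIso (CommRingCat.of k)).inv ≫ G₁.hom.appTop).hom)
    (h₂ : Function.Bijective ((Scheme.ΓSpecIso (CommRingCat.of k)).inv ≫ G₂.hom.appTop).hom) :
    Function.Bijective ((Scheme.ΓSpecIso (CommRingCat.of k)).inv ≫ G.hom.appTop).hom := by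
  apply bijective_of_constToAffine η[G]
  intro W _ φ
  -- `φ` is invariant under right translation by `G₁`
  have hinv : ((G ◁ i) ≫ μ[G]).left ≫ φ = (fst G G₁).left ≫ φ := by
    have h3 := fst_const (G := G) η[G₁] h₁ W (((G ◁ i) ≫ μ[G]).left ≫ φ)
    rw [h3]
    congr 1
    rw [← Category.assoc, ← Over.comp_left]
    have h4 : lift (𝟙 G) (toUnit G ≫ η[G₁]) ≫ (G ◁ i) ≫ μ[G] = 𝟙 G := by
      rw [← Category.assoc, lift_whiskerLeft, Category.assoc, IsMonHom.one_hom]
      exact MonObj.lift_comp_one_right (𝟙 G) (toUnit G)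
    rw [h4]
    exact Category.id_comp _
  -- descent along `q`
  haveI : QuasiCompact (q.left ≫ G₂.hom) := by
    rw [Over.w q]
    infer_instance
  haveI : QuasiCompact q.left := QuasiCompact.of_comp q.left G₂.hom
  haveI : Epi q.left := Flat.epi_of_flat_of_surjective q.left
  have hdesc : ∀ {Z : Scheme.{u}} (g₁ g₂ : Z ⟶ G.left), g₁ ≫ q.left = g₂ ≫ q.left →
      g₁ ≫ φ = g₂ ≫ φ := by
    intro Z g₁ g₂ h12
    let ZO : Over (Spec (CommRingCat.of k)) := Over.mk (g₁ ≫ G.hom)
    let g₁O : ZO ⟶ G := Over.homMk g₁ rfl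
    have hw : g₂ ≫ G.hom = g₁ ≫ G.hom := by
      rw [← Over.w q, ← Category.assoc, ← h12, Category.assoc]
    let g₂O : ZO ⟶ G := Over.homMk g₂ hw
    have h12O : g₁O ≫ q = g₂O ≫ q := Over.OverMorphism.ext h12
    have hd : (g₁O⁻¹ * g₂O) ≫ q = toUnit ZO ≫ η[G₂] := by
      rw [MonObj.mul_comp, GrpObj.inv_comp, h12O, inv_mul_cancel, Hom.one_def]
    obtain ⟨h, hh⟩ : ∃ h : ZO ⟶ G₁, h ≫ i = g₁O⁻¹ * g₂O :=
      ⟨hex.lift _ (toUnit ZO) hd, hex.lift_fst _ _ _⟩
    have hg₂ : g₂O = lift g₁O h ≫ (G ◁ i) ≫ μ[G] := by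
      rw [← Category.assoc, lift_whiskerLeft, ← Hom.mul_def, hh, mul_inv_cancel_left]
    have h5 : g₂ = (lift g₁O h).left ≫ ((G ◁ i) ≫ μ[G]).left := by
      rw [← Over.comp_left, ← hg₂]
      rfl
    have h6 : g₁ = (lift g₁O h).left ≫ (fst G G₁).left := by
      rw [← Over.comp_left, lift_fst]
      rfl
    rw [h5, Category.assoc, hinv, ← Category.assoc, ← h6]
  let φbar : G₂.left ⟶ W := EffectiveEpi.desc q.left φ hdesc
  have hφbar : q.left ≫ φbar = φ := EffectiveEpi.fac q.left φ hdesc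
  have h7 := constToAffine_of_bijective η[G₂] h₂ W φbar
  have hη : η[G].left ≫ q.left = η[G₂].left := by
    rw [← Over.comp_left, IsMonHom.one_hom]
  have e1 : φ = G.hom ≫ η[G₂].left ≫ φbar := by
    calc φ = q.left ≫ φbar := hφbar.symm
      _ = q.left ≫ G₂.hom ≫ η[G₂].left ≫ φbar := congrArg (fun ψ => q.left ≫ ψ) h7
      _ = G.hom ≫ η[G₂].left ≫ φbar := by rw [← Category.assoc, Over.w q]
  have e2 : G.hom ≫ η[G].left ≫ φ = G.hom ≫ η[G₂].left ≫ φbar := by
    rw [← hφbar, ← Category.assoc η[G].left, hη]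
  exact e1.trans e2.symm

end Ext

end Groth.Agent.Helper8.AntiAffExt
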