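import Mathlib
import Groth.Prelude.Def_W4c3degenlocivbPfaff

set_option autoImplicit false

namespace Groth.Agent.Helper8.Apolar
open MvPolynomial W4c3degenlocivb

section general
variable {k : Type*} [CommSemiring k] {σ : Type*}

/-- the descending factorial weight -/
def desc (β α : σ →₀ ℕ) : ℕ := β.support.prod fun i => Nat.descFactorial (β i) (α i)

lemma coeff_contract (D G : MvPolynomial σ k) (γ : σ →₀ ℕ) :
    coeff γ (contract D G) =
      ∑ μ ∈ D.support, coeff μ D * coeff (μ + γ) G * (desc (μ + γ) μ : k) := by
  classical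
  unfold contract
  rw [coeff_sum]
  refine Finset.sum_congr rfl fun α _ => ?_
  rw [coeff_sum]
  have key : ∀ β ∈ G.support, coeff γ (if α ≤ β then monomial (β - α)
        (coeff α D * coeff β G * ((β.support.prod fun i => Nat.descFactorial (β i) (α i) : ℕ) : k))
        else 0) =
      if β = α + γ then coeff α D * coeff (α + γ) G * (desc (α + γ) α : k) else 0 := by
    intro β _
    split_ifs with h1 h2 h2
    · subst h2
      simp [coeff_monomial, desc]
    · rw [coeff_monomial, if_neg]
      intro h
      apply h2
      rw [← h]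
      exact (add_tsub_cancel_of_le h1).symm
    · exact absurd (h2 ▸ le_self_add) h1
    · simp
  rw [Finset.sum_congr rfl key, Finset.sum_ite_eq']
  split_ifs with h
  · rfl
  · rw [notMem_support_iff.mp h]; simp

lemma coeff_contract_monomial [Nontrivial k] (α : σ →₀ ℕ) (F : MvPolynomial σ k) (γ : σ →₀ ℕ) :
    coeff γ (contract (monomial α 1) F) = coeff (α + γ) F * (desc (α + γ) α : k) := by
  classical
  rw [coeff_contract, support_monomial, if_neg one_ne_zero, Finset.sum_singleton, coeff_monomial,
    if_pos rfl, one_mul]

end general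

section fin
variable {σ : Type*} [Fintype σ]

/-- multi-factorial -/
def mfact (δ : σ →₀ ℕ) : ℕ := ∏ i, (δ i).factorial

lemma mfact_pos (δ : σ →₀ ℕ) : 0 < mfact δ :=
  Finset.prod_pos fun i _ => Nat.factorial_pos _

lemma desc_eq_prod (β α : σ →₀ ℕ) (h : α ≤ β) :
    desc β α = ∏ i, Nat.descFactorial (β i) (α i) := by
  unfold desc
  refine Finset.prod_subset (Finset.subset_univ _) fun i _ hi => ?_
  have h0 : β i = 0 := by simpa using hi
  have h1 : α i = 0 := Nat.le_zero.mp (h0 ▸ h i)
  rw [h0, h1]; rfl

lemma nat_id (a m d : ℕ) :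
    Nat.descFactorial (a + (m + d)) a * Nat.descFactorial (m + d) m * d.factorial =
      Nat.descFactorial (m + (a + d)) m * (a + d).factorial := by
  have h1 : (m + d).factorial * Nat.descFactorial (a + (m + d)) a = (a + (m + d)).factorial := by
    have := Nat.factorial_mul_descFactorial (n := a + (m + d)) (k := a) (Nat.le_add_right _ _)
    rwa [Nat.add_sub_cancel_left] at this
  have h2 : d.factorial * Nat.descFactorial (m + d) m = (m + d).factorial := by
    have := Nat.factorial_mul_descFactorial (n := m + d) (k := m) (Nat.le_add_right _ _)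
    rwa [Nat.add_sub_cancel_left] at this
  have h3 : (a + d).factorial * Nat.descFactorial (m + (a + d)) m = (m + (a + d)).factorial := by
    have := Nat.factorial_mul_descFactorial (n := m + (a + d)) (k := m) (Nat.le_add_right _ _)
    rwa [Nat.add_sub_cancel_left] at this
  have hpos : 0 < (m + d).factorial := Nat.factorial_pos _
  apply Nat.eq_of_mul_eq_mul_left hpos
  calc (m + d).factorial * (Nat.descFactorial (a + (m + d)) a * Nat.descFactorial (m + d) m *
        d.factorial)
      = ((m + d).factorial * Nat.descFactorial (a + (m + d)) a) *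
          (d.factorial * Nat.descFactorial (m + d) m) := by ring
    _ = (a + (m + d)).factorial * (m + d).factorial := by rw [h1, h2]
    _ = (m + d).factorial * ((a + d).factorial * Nat.descFactorial (m + (a + d)) m) := by
        rw [h3, mul_comm]; congr 2; ring
    _ = _ := by ring

lemma desc_id (α μ δ : σ →₀ ℕ) :
    desc (α + (μ + δ)) α * desc (μ + δ) μ * mfact δ = desc (μ + (α + δ)) μ * mfact (α + δ) := by
  rw [desc_eq_prod _ _ le_self_add, desc_eq_prod _ _ le_self_add, desc_eq_prod _ _ le_self_add]
  unfold mfact
  rw [← Finset.prod_mul_distrib, ← Finset.prod_mul_distrib, ← Finset.prod_mul_distrib]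
  refine Finset.prod_congr rfl fun i _ => ?_
  simp only [Finsupp.coe_add, Pi.add_apply]
  exact nat_id _ _ _

variable {k : Type*} [Field k]

lemma comm_coeff (D F : MvPolynomial σ k) (α δ : σ →₀ ℕ) :
    coeff δ (contract D (contract (monomial α 1) F)) * (mfact δ : k) =
      coeff (α + δ) (contract D F) * (mfact (α + δ) : k) := by
  rw [coeff_contract, coeff_contract, Finset.sum_mul, Finset.sum_mul]
  refine Finset.sum_congr rfl fun μ _ => ?_
  rw [coeff_contract_monomial]
  have h := congrArg (Nat.cast (R := k)) (desc_id α μ δ)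
  push_cast at h
  have e1 : α + (μ + δ) = μ + (α + δ) := add_left_comm _ _ _
  rw [e1] at h ⊢
  calc coeff μ D * (coeff (μ + (α + δ)) F * (desc (μ + (α + δ)) α : k)) * (desc (μ + δ) μ : k) *
        (mfact δ : k)
      = coeff μ D * coeff (μ + (α + δ)) F *
          ((desc (μ + (α + δ)) α : k) * (desc (μ + δ) μ : k) * (mfact δ : k)) := by ring
    _ = _ := by rw [h]; ring

variable [CharZero k]

lemma mfact_ne (δ : σ →₀ ℕ) : (mfact δ : k) ≠ 0 :=
  Nat.cast_ne_zero.mpr (mfact_pos δ).ne'

theorem main (F : MvPolynomial σ k) (e : ℕ) (hF : F.IsHomogeneous e) (d : ℕ) (hd : d ≤ e)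
    (D : MvPolynomial σ k) (hD : D.IsHomogeneous d) :
    contract D F = 0 ↔
      ∀ α : σ →₀ ℕ, α.degree = e - d → contract D (contract (monomial α 1) F) = 0 := by
  constructor
  · intro h α _
    ext δ
    have := comm_coeff D F α δ
    rw [h, coeff_zero, zero_mul] at this
    rw [coeff_zero]
    exact (mul_eq_zero.mp this).resolve_right (mfact_ne δ)
  · intro h
    ext γ
    rw [coeff_zero]
    by_cases hγ : γ.degree = e - d
    · have := comm_coeff D F γ 0
      rw [h γ hγ, coeff_zero, zero_mul, add_zero] at this
      exact (mul_eq_zero.mp this.symm).resolve_right (mfact_ne γ)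
    · rw [coeff_contract]
      refine Finset.sum_eq_zero fun μ _ => ?_
      by_cases h1 : coeff μ D = 0
      · rw [h1]; ring
      by_cases h2 : coeff (μ + γ) F = 0
      · rw [h2]; ring
      exfalso
      apply hγ
      have e1 : μ.degree = d := by
        rw [Finsupp.degree_eq_weight_one]; exact hD h1
      have e2 : (μ + γ).degree = e := by
        rw [Finsupp.degree_eq_weight_one]; exact hF h2
      rw [map_add, e1] at e2
      omega

end fin

end Groth.Agent.Helper8.Apolar
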