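import Mathlib
import Groth.Prelude.Def_W4c2arithlefschetzNode

namespace Groth.Agent.Helper8.ArLef1

theorem main (A : Type*) [CommRing A] (t v : A)
    [ht : (Ideal.span ({t} : Set A)).IsPrime] (hv : v ∉ Ideal.span ({t} : Set A))
    (σ : A ≃+* A) (hσ : σ (v * t) = v * t) (i : ℕ) (hi : 1 ≤ i)
    (hI : ArLef.fixIdeal σ ≤ Ideal.span ({t ^ i} : Set A)) :
    algebraMap A (Localization.AtPrime (Ideal.span ({t} : Set A))) (σ t - t) ∈
      Ideal.span ({algebraMap A (Localization.AtPrime (Ideal.span ({t} : Set A))) (t ^ (i + 1))} :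
        Set (Localization.AtPrime (Ideal.span ({t} : Set A)))) := by
  have h1 : σ t - t ∈ Ideal.span ({t ^ i} : Set A) :=
    hI (Ideal.subset_span ⟨t, rfl⟩)
  have h2 : σ v - v ∈ Ideal.span ({t ^ i} : Set A) :=
    hI (Ideal.subset_span ⟨v, rfl⟩)
  obtain ⟨a, ha⟩ := Ideal.mem_span_singleton'.mp h1
  obtain ⟨b, hb⟩ := Ideal.mem_span_singleton'.mp h2
  obtain ⟨k, rfl⟩ : ∃ k, i = k + 1 := ⟨i - 1, by omega⟩
  have e1 : σ t = t + a * t ^ (k + 1) := by rw [ha]; ring
  have e2 : σ v = v + b * t ^ (k + 1) := by rw [hb]; ring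
  have key : v * (σ t - t) = -(b + a * b * t ^ k) * t ^ (k + 1 + 1) := by
    have h3 : σ v * σ t = v * t := by rw [← map_mul, hσ]
    rw [e1, e2] at h3
    rw [e1]
    have h4 : v * (a * t ^ (k + 1)) + b * t ^ (k + 1) * t + b * t ^ (k + 1) * (a * t ^ (k + 1)) = 0 := by
      linear_combination h3
    linear_combination h4
  have hvu : IsUnit (algebraMap A (Localization.AtPrime (Ideal.span ({t} : Set A))) v) :=
    IsLocalization.map_units (M := (Ideal.span ({t} : Set A)).primeCompl) _ ⟨v, hv⟩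
  rw [Ideal.mem_span_singleton']
  obtain ⟨w, hw⟩ := hvu.exists_left_inv
  refine ⟨w * algebraMap A _ (-(b + a * b * t ^ k)), ?_⟩
  have := congrArg (algebraMap A (Localization.AtPrime (Ideal.span ({t} : Set A)))) key
  rw [map_mul, map_mul] at this
  calc w * algebraMap A _ (-(b + a * b * t ^ k)) * algebraMap A _ (t ^ (k + 1 + 1))
      = w * (algebraMap A _ v * algebraMap A _ (σ t - t)) := by rw [this]; ring
    _ = (w * algebraMap A _ v) * algebraMap A _ (σ t - t) := by ring
    _ = _ := by rw [hw, one_mul]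

end Groth.Agent.Helper8.ArLef1
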