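import Mathlib
import Groth.Prelude.Def_W4c2arithlefschetzNode

namespace Groth.Agent.Helper8.ArLef2

open MvPowerSeries

variable {B : Type*} [CommRing B] [IsDomain B]

/-- the exponent of `X 0 * X 1`. -/
noncomputable def δ : Fin 2 →₀ ℕ := Finsupp.single 0 1 + Finsupp.single 1 1

lemma X01_eq : (X 0 * X 1 : MvPowerSeries (Fin 2) B) = monomial δ (1 : B) := by
  rw [X_def, X_def, monomial_mul_monomial, one_mul]; rfl

lemma coeff_D_mul (π : B) (g : MvPowerSeries (Fin 2) B) (n : Fin 2 →₀ ℕ) :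
    coeff (δ + n) ((X 0 * X 1 - C π) * g) = coeff n g - π * coeff (δ + n) g := by
  rw [sub_mul, map_sub, X01_eq, coeff_add_monomial_mul, one_mul, coeff_C_mul]

lemma step (π : B) (hπ : π ≠ 0) (f g : MvPowerSeries (Fin 2) B)
    (h : C π * f = (X 0 * X 1 - C π) * g) :
    ∃ g₁ : MvPowerSeries (Fin 2) B, f = (X 0 * X 1 - C π) * g₁ := by
  let g₁ : MvPowerSeries (Fin 2) B := fun n => coeff (δ + n) f + coeff (δ + n) g
  have hg : g = C π * g₁ := by
    ext n
    have := congrArg (coeff (δ + n)) h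
    rw [coeff_D_mul, coeff_C_mul] at this
    rw [coeff_C_mul]
    change coeff n g = π * (coeff (δ + n) f + coeff (δ + n) g)
    linear_combination -this
  refine ⟨g₁, ?_⟩
  rw [hg] at h
  ext n
  have := congrArg (coeff n) h
  rw [coeff_C_mul, mul_left_comm, coeff_C_mul] at this
  exact mul_left_cancel₀ hπ this

lemma nzd (π : B) (hπ : π ≠ 0) (j : ℕ) (f g : MvPowerSeries (Fin 2) B)
    (h : C (π ^ j) * f = (X 0 * X 1 - C π) * g) :
    ∃ g₁ : MvPowerSeries (Fin 2) B, f = (X 0 * X 1 - C π) * g₁ := by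
  induction j generalizing f g with
  | zero =>
    refine ⟨g, ?_⟩
    rw [← h, pow_zero, map_one, one_mul]
  | succ j ih =>
    have h' : C π * (C (π ^ j) * f) = (X 0 * X 1 - C π) * g := by
      rw [← h, ← mul_assoc, ← map_mul, pow_succ']
    obtain ⟨g₁, hg₁⟩ := step π hπ _ _ h'
    exact ih f g₁ hg₁

/-- the map `N → B/(π)` killing both variables. -/
noncomputable def φ (π : B) : ArLef.NodeAlg B π →+* B ⧸ Ideal.span ({π} : Set B) :=
  Ideal.Quotient.lift _ ((Ideal.Quotient.mk _).comp (constantCoeff (σ := Fin 2) (R := B))) (by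
    intro x hx
    obtain ⟨c, rfl⟩ := Ideal.mem_span_singleton'.mp hx
    simp only [RingHom.comp_apply, map_mul, map_sub, constantCoeff_X, constantCoeff_C, mul_zero,
      zero_sub, map_neg]
    rw [Ideal.Quotient.eq_zero_iff_mem.mpr (Ideal.mem_span_singleton_self π)]
    simp)

lemma φ_mk (π : B) (f : MvPowerSeries (Fin 2) B) :
    φ π (Ideal.Quotient.mk _ f) = Ideal.Quotient.mk _ (constantCoeff f) := rfl

lemma algebraMap_eq (π b : B) :
    algebraMap B (ArLef.NodeAlg B π) b = Ideal.Quotient.mk _ (C b) := rfl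

lemma te_eq (π : B) : ArLef.NodeAlg.t π * ArLef.NodeAlg.e π = algebraMap B (ArLef.NodeAlg B π) π := by
  rw [algebraMap_eq, ← map_mul, Ideal.Quotient.eq]
  exact Ideal.mem_span_singleton_self _

theorem main (B : Type*) [CommRing B] [IsDomain B] [IsDiscreteValuationRing B] (π : B)
    (hπ : Irreducible π)
    (j : ℕ) (hj : 1 ≤ j) (γ : B) (hγ : IsUnit γ)
    (σ : ArLef.NodeAlg B π ≃+* ArLef.NodeAlg B π)
    (hσ : σ (algebraMap B (ArLef.NodeAlg B π) π) = algebraMap B (ArLef.NodeAlg B π) (π + γ * π ^ j)) :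
    ¬ ArLef.fixIdeal σ ≤
      Ideal.span ({algebraMap B (ArLef.NodeAlg B π) (π ^ j)} : Set (ArLef.NodeAlg B π)) := by
  intro hI
  set t := ArLef.NodeAlg.t π
  set e := ArLef.NodeAlg.e π
  set P := algebraMap B (ArLef.NodeAlg B π) π with hP
  have h1 : σ t - t ∈ Ideal.span ({algebraMap B (ArLef.NodeAlg B π) (π ^ j)} : Set _) :=
    hI (Ideal.subset_span ⟨t, rfl⟩)
  have h2 : σ e - e ∈ Ideal.span ({algebraMap B (ArLef.NodeAlg B π) (π ^ j)} : Set _) :=
    hI (Ideal.subset_span ⟨e, rfl⟩)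
  obtain ⟨a, ha⟩ := Ideal.mem_span_singleton'.mp h1
  obtain ⟨b, hb⟩ := Ideal.mem_span_singleton'.mp h2
  rw [map_pow] at ha hb
  have hte : t * e = P := te_eq π
  have e1 : σ t = t + a * P ^ j := by rw [ha]; ring
  have e2 : σ e = e + b * P ^ j := by rw [hb]; ring
  have e3 : σ P = P + algebraMap B _ γ * P ^ j := by
    rw [hσ, map_add, map_mul, map_pow]
  have key : P ^ j * (a * e + b * t + a * b * P ^ j - algebraMap B _ γ) = 0 := by
    have : σ t * σ e = σ P := by rw [← map_mul, hte]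
    rw [e1, e2, e3] at this
    linear_combination this - hte
  -- cancel P^j
  have key2 : a * e + b * t + a * b * P ^ j - algebraMap B _ γ = 0 := by
    obtain ⟨f, hf⟩ := Ideal.Quotient.mk_surjective
      (a * e + b * t + a * b * P ^ j - algebraMap B (ArLef.NodeAlg B π) γ)
    rw [← hf] at key ⊢
    rw [hP, algebraMap_eq, ← map_pow, ← map_pow, ← map_mul, Ideal.Quotient.eq_zero_iff_mem,
      Ideal.mem_span_singleton'] at key
    obtain ⟨g, hg⟩ := key
    obtain ⟨g₁, hg₁⟩ := nzd π hπ.ne_zero j f g (by rw [← hg, mul_comm])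
    rw [Ideal.Quotient.eq_zero_iff_mem, Ideal.mem_span_singleton']
    exact ⟨g₁, by rw [hg₁, mul_comm]⟩
  have key3 := congrArg (φ π) key2
  have hφt : φ π t = 0 := by
    change φ π (Ideal.Quotient.mk _ (X 0)) = 0
    rw [φ_mk, constantCoeff_X, map_zero]
  have hφe : φ π e = 0 := by
    change φ π (Ideal.Quotient.mk _ (X 1)) = 0
    rw [φ_mk, constantCoeff_X, map_zero]
  have hφP : φ π P = 0 := by
    rw [← hte, map_mul, hφt, zero_mul]
  have hφγ : φ π (algebraMap B _ γ) = Ideal.Quotient.mk _ γ := by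
    rw [algebraMap_eq, φ_mk, constantCoeff_C]
  rw [map_sub, map_add, map_add, map_mul, map_mul, map_mul, map_mul, map_pow, hφt, hφe, hφP, hφγ,
    zero_pow (by omega), map_zero] at key3
  simp only [mul_zero, add_zero, zero_sub, neg_eq_zero] at key3
  rw [Ideal.Quotient.eq_zero_iff_mem, Ideal.mem_span_singleton] at key3
  exact hπ.not_isUnit (isUnit_of_dvd_unit key3 hγ)

end Groth.Agent.Helper8.ArLef2
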