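import Mathlib
set_option autoImplicit false

namespace Groth.Agent.Helper8.AraRank

variable {R : Type*} [CommRing R] [IsNoetherianRing R]

/-- strengthened inductive statement -/
theorem exists_gens (I : Ideal R) (r : ℕ) :
    ∃ f : Fin r → R, (∀ i, f i ∈ I) ∧
      ∀ (p : Ideal R) [p.IsPrime], Ideal.span (Set.range f) ≤ p → ¬ I ≤ p → (r : ℕ∞) ≤ p.height := by
  induction r with
  | zero => exact ⟨Fin.elim0, fun i => i.elim0, fun p _ _ _ => by simp⟩
  | succ r ih =>
    obtain ⟨f, hfI, hf⟩ := ih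
    set J := Ideal.span (Set.range f) with hJ
    have hfin : (J.minimalPrimes ∩ {q | ¬ I ≤ q}).Finite :=
      (Ideal.finite_minimalPrimes_of_isNoetherianRing R J).subset Set.inter_subset_left
    -- prime avoidance
    obtain ⟨x, hxI, hx⟩ : ∃ x ∈ I, ∀ q ∈ J.minimalPrimes, ¬ I ≤ q → x ∉ q := by
      by_contra hcon
      push Not at hcon
      have hsub : (I : Set R) ⊆ ⋃ q ∈ (hfin.toFinset : Set (Ideal R)), (id q : Ideal R) := by
        intro x hx
        obtain ⟨q, hq, hIq, hxq⟩ := hcon x hx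
        simp only [Set.mem_iUnion]
        exact ⟨q, by simpa using ⟨hq, hIq⟩, hxq⟩
      rw [Ideal.subset_union_prime ⊥ ⊥] at hsub
      · obtain ⟨q, hq, hIq⟩ := hsub
        have : q ∈ J.minimalPrimes ∩ {q | ¬ I ≤ q} := by simpa using hq
        exact this.2 hIq
      · intro q hq _ _
        have : q ∈ J.minimalPrimes ∩ {q | ¬ I ≤ q} := by simpa using hq
        exact this.1.1.1
    refine ⟨Fin.snoc f x, ?_, ?_⟩
    · intro i
      refine Fin.lastCases ?_ (fun j => ?_) i
      · simpa using hxI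
      · simpa using hfI j
    · intro p hp hspan hIp
      have hJp : J ≤ p := by
        rw [hJ, Ideal.span_le]
        rintro _ ⟨j, rfl⟩
        apply hspan
        apply Ideal.subset_span
        exact ⟨j.castSucc, by simp⟩
      have hxp : x ∈ p := by
        apply hspan
        apply Ideal.subset_span
        exact ⟨Fin.last r, by simp⟩
      obtain ⟨q, hq, hqp⟩ := Ideal.exists_minimalPrimes_le hJp
      have hqprime : q.IsPrime := hq.1.1
      have hIq : ¬ I ≤ q := fun h => hIp (h.trans hqp)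
      have hxq : x ∉ q := hx q hq hIq
      have hlt : q < p := lt_of_le_of_ne hqp (fun h => hxq (h ▸ hxp))
      have h1 : (r : ℕ∞) ≤ q.height := hf q hq.1.2 hIq
      have h2 := Ideal.height_add_one_le_of_lt_of_isPrime hlt
      calc ((r + 1 : ℕ) : ℕ∞) = (r : ℕ∞) + 1 := by push_cast; rfl
        _ ≤ q.height + 1 := by gcongr
        _ ≤ p.height := h2

theorem exists_mem_ideal_height_lt_contains_iff (I : Ideal R) (r : ℕ) :
    ∃ f : Fin r → R, (∀ i, f i ∈ I) ∧
      ∀ (p : Ideal R) [p.IsPrime], p.height < r → (I ≤ p ↔ Ideal.span (Set.range f) ≤ p) := by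
  obtain ⟨f, hfI, hf⟩ := exists_gens I r
  refine ⟨f, hfI, fun p _ hp => ⟨fun h => ?_, fun h => ?_⟩⟩
  · refine le_trans ?_ h
    rw [Ideal.span_le]
    rintro _ ⟨i, rfl⟩
    exact hfI i
  · by_contra hIp
    exact absurd (hf p h hIp) (not_le.mpr hp)

lemma radical_eq_of_forall_prime (I J : Ideal R)
    (h : ∀ (p : Ideal R) [p.IsPrime], I ≤ p ↔ J ≤ p) : I.radical = J.radical := by
  rw [Ideal.radical_eq_sInf, Ideal.radical_eq_sInf]
  congr 1
  ext p
  constructor
  · rintro ⟨h1, h2⟩; exact ⟨(@h p h2).mp h1, h2⟩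
  · rintro ⟨h1, h2⟩; exact ⟨(@h p h2).mpr h1, h2⟩

theorem exists_radical_eq_succ (d : ℕ) (hd : ringKrullDim R = d) (I : Ideal R) :
    ∃ f : Fin (d + 1) → R, (∀ i, f i ∈ I) ∧ I.radical = (Ideal.span (Set.range f)).radical := by
  obtain ⟨f, hfI, hf⟩ := exists_mem_ideal_height_lt_contains_iff I (d + 1)
  refine ⟨f, hfI, radical_eq_of_forall_prime _ _ fun p hp => hf p ?_⟩
  have h1 : (p.height : WithBot ℕ∞) ≤ ringKrullDim R := Ideal.height_le_ringKrullDim_of_isPrime
  rw [hd] at h1
  have h2 : p.height ≤ (d : ℕ∞) := by exact_mod_cast h1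
  calc p.height ≤ (d : ℕ∞) := h2
    _ < ((d + 1 : ℕ) : ℕ∞) := by exact_mod_cast Nat.lt_succ_self d

theorem exists_radical_eq_local [IsLocalRing R] (d : ℕ) (hd : ringKrullDim R = d) (I : Ideal R)
    (hI : I ≠ ⊤) :
    ∃ f : Fin d → R, (∀ i, f i ∈ I) ∧ I.radical = (Ideal.span (Set.range f)).radical := by
  obtain ⟨f, hfI, hf⟩ := exists_mem_ideal_height_lt_contains_iff I d
  have hfle : Ideal.span (Set.range f) ≤ I := by
    rw [Ideal.span_le]; rintro _ ⟨i, rfl⟩; exact hfI i
  refine ⟨f, hfI, radical_eq_of_forall_prime _ _ fun p hp => ?_⟩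
  by_cases hlt : p.height < d
  · exact hf p hlt
  · -- then p is the maximal ideal
    have hpm : p = IsLocalRing.maximalIdeal R := by
      by_contra hne
      have hle : p ≤ IsLocalRing.maximalIdeal R := IsLocalRing.le_maximalIdeal hp.ne_top
      have hlt' : p < IsLocalRing.maximalIdeal R := lt_of_le_of_ne hle hne
      have h2 := Ideal.height_add_one_le_of_lt_of_isPrime hlt'
      have h1 : ((IsLocalRing.maximalIdeal R).height : WithBot ℕ∞) ≤ ringKrullDim R :=
        Ideal.height_le_ringKrullDim_of_isPrime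
      rw [hd] at h1
      have h3 : (IsLocalRing.maximalIdeal R).height ≤ (d : ℕ∞) := by exact_mod_cast h1
      have h4 : (d : ℕ∞) ≤ p.height := not_lt.mp hlt
      have h5 : p.height + 1 ≤ p.height := (h2.trans h3).trans h4
      have hfin : p.height ≠ ⊤ := by
        intro htop
        rw [htop] at h2
        have : (IsLocalRing.maximalIdeal R).height = ⊤ := by simpa using h2
        rw [this] at h3
        exact absurd h3 (by simp)
      exact absurd h5 (by
        rw [not_le]
        exact ENat.lt_add_one_iff hfin |>.mpr le_rfl)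
    have hIp : I ≤ p := hpm ▸ IsLocalRing.le_maximalIdeal hI
    exact ⟨fun _ => hfle.trans hIp, fun _ => hIp⟩

end Groth.Agent.Helper8.AraRank
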