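import Mathlib
import Groth.Agent.Helper8.ArtLift3
import Groth.Agent.Helper2.AdicFS
import Groth.Prelude.Def_EGA41
set_option autoImplicit false
universe u

namespace Groth.Agent.Helper8.ArtLift
open Groth.Agent.Helper8.GeomReg IsLocalRing

theorem s2481 {A B : Type u} [CommRing A] [IsLocalRing A] [IsNoetherianRing A] [CommRing B]
    [IsLocalRing B] [IsNoetherianRing B]
    [Algebra A B] [IsLocalHom (algebraMap A B)] :
    EGA41.IsFormallySmoothAdic A (maximalIdeal A) B (maximalIdeal B) ↔
      ∀ (C : Type u) [CommRing C] [IsLocalRing C] [IsArtinianRing C] [Algebra A C]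
        [IsLocalHom (algebraMap A C)]
        (J : Ideal C), IsNilpotent J → ∀ [IsLocalRing (C ⧸ J)] (u : B →ₐ[A] C ⧸ J)
        [IsLocalHom u.toRingHom],
        Function.Bijective (ResidueField.map u.toRingHom) →
        ∃ f : B →ₐ[A] C, IsLocalHom f.toRingHom ∧ (Ideal.Quotient.mkₐ A J).comp f = u := by
  constructor
  · intro h C _ _ _ _ _ J hJ _ u _ _
    have hnil : IsNilpotent (maximalIdeal C) := by
      rw [← IsLocalRing.jacobson_eq_maximalIdeal (⊥ : Ideal C) bot_ne_top]
      exact IsArtinianRing.isNilpotent_jacobson_bot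
    obtain ⟨n, hn⟩ := hnil
    have hn' : maximalIdeal C ^ n = ⊥ := hn
    have h1 : maximalIdeal (C ⧸ J) ^ n = ⊥ := by
      rw [← map_maximalIdeal_of_surjective (Ideal.Quotient.mk J) Ideal.Quotient.mk_surjective,
        ← Ideal.map_pow, hn', Ideal.map_bot]
    obtain ⟨v, hv⟩ := h C J hJ ⟨n, by
      rw [Ideal.map_pow, eq_bot_iff, ← hn']
      exact Ideal.pow_right_mono (map_maximalIdeal_le (algebraMap A C)) n⟩ u ⟨n, by
      intro x hx
      have h2 : u.toRingHom x ∈ maximalIdeal (C ⧸ J) ^ n := by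
        have h3 := Ideal.mem_map_of_mem u.toRingHom hx
        rw [Ideal.map_pow] at h3
        exact Ideal.pow_right_mono (map_maximalIdeal_le u.toRingHom) n h3
      rw [h1] at h2
      exact h2⟩
    refine ⟨v, ⟨fun b hb => ?_⟩, hv⟩
    have h4 : IsUnit (u.toRingHom b) := by
      have h5 : u b = Ideal.Quotient.mk J (v b) := (congr($hv b)).symm
      change IsUnit (u b)
      rw [h5]
      exact hb.map (Ideal.Quotient.mk J)
    exact isUnit_of_map_unit u.toRingHom b h4
  · intro H
    have hfs : CAlgX.IsAdicFormallySmooth A B (maximalIdeal B) := by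
      rw [s9316]
      intro C _ _ _ _ _ J hJ _ _ u _ hb
      obtain ⟨f, -, hf⟩ := H C J ⟨2, hJ⟩ u hb
      exact ⟨f, hf⟩
    apply Groth.Agent.Helper2.AdicFS.isFormallySmoothAdic_of_sqzero
    intro C _ _ J hJ _ u hu
    exact hfs C J hJ u hu

end Groth.Agent.Helper8.ArtLift
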