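import Mathlib

/-!
# Artin–Schreier: the loci `a = k` of a function with `a ^ p = a`

For a scheme `X` with a ring homomorphism `z : 𝔽_p → Γ(X, ⊤)` and a global function `a` with `a ^ p = a`,
the opens `WW z a k` (`k ∈ 𝔽_p`) are pairwise disjoint, cover `X`, and `a = z k` on `WW z a k`.
-/

set_option autoImplicit false

namespace Groth.Agent.Helper8.ArtSch

open CategoryTheory AlgebraicGeometry Polynomial

universe u

section Alg

variable (p : ℕ) [Fact p.Prime]

/-- `∏_{k ∈ 𝔽_p} (X − k) = X^p − X` -/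
theorem prod_X_sub_C : (∏ k : ZMod p, (X - C k)) = (X ^ p - X : (ZMod p)[X]) := by
  have hp1 : 1 < p := (Fact.out : p.Prime).one_lt
  have h1 : roots (X ^ p - X : (ZMod p)[X]) = Finset.univ.val := by
    convert! FiniteField.roots_X_pow_card_sub_X (ZMod p)
    exact (ZMod.card p).symm
  have h2 := FiniteField.X_pow_card_sub_X_natDegree_eq (ZMod p) hp1
  have hm : (X ^ p - X : (ZMod p)[X]).Monic :=
    monic_X_pow_sub (by rw [degree_X]; exact_mod_cast hp1)
  have h3 := prod_multiset_X_sub_C_of_monic_of_roots_card_eq hm (by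
    rw [h1, h2]
    show Finset.card Finset.univ = p
    rw [Finset.card_univ, ZMod.card])
  rw [h1] at h3
  exact h3

variable {p}

theorem prod_sub {R : Type*} [CommRing R] (z : ZMod p →+* R) (a : R) :
    ∏ k : ZMod p, (a - z k) = a ^ p - a := by
  have h := congrArg (Polynomial.eval₂ z a) (prod_X_sub_C p)
  rw [Polynomial.eval₂_finset_prod] at h
  simpa using h

theorem isUnit_sub {R : Type*} [CommRing R] (z : ZMod p →+* R) {k l : ZMod p} (h : k ≠ l) :
    IsUnit (z k - z l) := by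
  rw [← map_sub]
  exact (IsUnit.mk0 _ (sub_ne_zero.mpr h)).map z

end Alg

section Sch

theorem isUnit_of_basicOpen_eq_top {Y : Scheme.{u}} (f : Γ(Y, ⊤)) (h : Y.basicOpen f = ⊤) :
    IsUnit f := by
  refine Y.toRingedSpace.isUnit_of_isUnit_germ ⊤ f (fun y hy => ?_)
  have hy' : y ∈ Y.basicOpen f := by rw [h]; trivial
  exact (Y.mem_basicOpen f y hy).mp hy'

theorem isEmpty_of_isUnit_zero {Y : Scheme.{u}} (h : IsUnit (0 : Γ(Y, ⊤))) : IsEmpty Y := by
  have h1 := Y.basicOpen_of_isUnit h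
  rw [Y.basicOpen_zero] at h1
  refine ⟨fun y => ?_⟩
  have : y ∈ (⊤ : Y.Opens) := trivial
  rw [← h1] at this
  exact this.elim

variable {p : ℕ} [Fact p.Prime] {X : Scheme.{u}} (z : ZMod p →+* Γ(X, ⊤)) (a : Γ(X, ⊤))

/-- the product of the `a − l`, `l ≠ k` -/
noncomputable def ff (k : ZMod p) : Γ(X, ⊤) := ∏ l ∈ Finset.univ.erase k, (a - z l)

/-- the locus `a = k` -/
noncomputable def WW (k : ZMod p) : X.Opens := X.basicOpen (ff z a k)

theorem sub_mul_ff (h : a ^ p = a) (k : ZMod p) : (a - z k) * ff z a k = 0 := by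
  unfold ff
  rw [Finset.mul_prod_erase Finset.univ (fun l => a - z l) (Finset.mem_univ k), prod_sub, h, sub_self]

theorem ff_mul_ff (h : a ^ p = a) {k l : ZMod p} (hkl : k ≠ l) : ff z a k * ff z a l = 0 := by
  have hk : k ∈ Finset.univ.erase l := Finset.mem_erase.mpr ⟨hkl, Finset.mem_univ k⟩
  have h1 : ff z a l = (a - z k) * ∏ m ∈ (Finset.univ.erase l).erase k, (a - z m) := by
    unfold ff
    rw [Finset.mul_prod_erase (Finset.univ.erase l) (fun m => a - z m) hk]
  rw [h1, ← mul_assoc, mul_comm (ff z a k), sub_mul_ff z a h, zero_mul]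

theorem WW_disjoint (h : a ^ p = a) {k l : ZMod p} (hkl : k ≠ l) : WW z a k ⊓ WW z a l = ⊥ := by
  unfold WW
  rw [← Scheme.basicOpen_mul, ff_mul_ff z a h hkl, Scheme.basicOpen_zero]

theorem exists_mem_WW (h : a ^ p = a) (x : X) : ∃ k, x ∈ WW z a k := by
  let ev : Γ(X, ⊤) →+* X.residueField x := (X.Γevaluation x).hom
  have h0 : ∏ k : ZMod p, (ev a - ev (z k)) = 0 := by
    have h1 := congrArg ev (prod_sub z a)
    rw [h, sub_self, map_zero, map_prod] at h1
    simpa [map_sub] using h1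
  obtain ⟨k, -, hk⟩ := Finset.prod_eq_zero_iff.mp h0
  refine ⟨k, ?_⟩
  unfold WW
  refine (X.evaluation_ne_zero_iff_mem_basicOpen (U := ⊤) x trivial (ff z a k)).mp ?_
  show ev (ff z a k) ≠ 0
  unfold ff
  rw [map_prod]
  refine Finset.prod_ne_zero_iff.mpr ?_
  intro l hl
  have hlk : l ≠ k := (Finset.mem_erase.mp hl).1
  rw [map_sub, sub_eq_zero.mp hk, ← map_sub]
  exact ((isUnit_sub z hlk.symm).map ev).ne_zero

theorem ι_appTop_sub (h : a ^ p = a) (k : ZMod p) :
    (WW z a k).ι.appTop (a - z k) = 0 := by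
  have h1 := congrArg (WW z a k).ι.appTop.hom (sub_mul_ff z a h k)
  rw [map_mul, map_zero] at h1
  have hu : IsUnit ((WW z a k).ι.appTop (ff z a k)) := by
    apply isUnit_of_basicOpen_eq_top
    rw [← Scheme.preimage_basicOpen_top]
    exact Scheme.Opens.ι_preimage_self _
  exact hu.mul_left_eq_zero.mp h1

theorem iSup_WW (h : a ^ p = a) : ⨆ k, ((WW z a k).ι).opensRange = ⊤ := by
  rw [eq_top_iff]
  intro x _
  obtain ⟨k, hk⟩ := exists_mem_WW z a h x
  rw [TopologicalSpace.Opens.mem_iSup]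
  exact ⟨k, by rw [Scheme.Opens.opensRange_ι]; exact hk⟩

open scoped Function in
theorem pairwise_disjoint_WW (h : a ^ p = a) :
    Pairwise (Disjoint on (fun k => ((WW z a k).ι).opensRange)) := by
  intro k l hkl
  show Disjoint ((WW z a k).ι).opensRange ((WW z a l).ι).opensRange
  rw [Scheme.Opens.opensRange_ι, Scheme.Opens.opensRange_ι, disjoint_iff]
  exact WW_disjoint z a h hkl

/-- `X` is the disjoint union of the loci `a = k` -/
noncomputable def isColimitWW (h : a ^ p = a) :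
    Limits.IsColimit (Limits.Cofan.mk X (fun k : ZMod p => (WW z a k).ι)) :=
  (nonempty_isColimit_cofanMk_of (fun k : ZMod p => (WW z a k).ι) (iSup_WW z a h)
    (pairwise_disjoint_WW z a h)).some

end Sch

end Groth.Agent.Helper8.ArtSch
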