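import Mathlib
import Groth.Prelude.Def_NonAbH2
import Groth.Prelude.Def_Red2
import Groth.Agent.Helper5.GaPts1
import Groth.Agent.Helper2.GaAdd
import Groth.Agent.Helper8.FpqcCover

/-!
# Artin–Schreier: the morphism `x ↦ x − x^p` of `𝔾_a` is a homomorphism with fpqc-local sections
-/

set_option autoImplicit false

namespace Groth.Agent.Helper8.ArtSch

open CategoryTheory MonoidalCategory CartesianMonoidalCategory MonObj GrpObj AlgebraicGeometry
  CategoryTheory.Limits Polynomial
open Groth.Agent.Helper5.GaPts Groth.Agent.Helper2.GaAdd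

universe u

section General

variable {C : Type*} [Category C] [CartesianMonoidalCategory C]

theorem isMonHom_of_forall_mul {G H : C} [MonObj G] [MonObj H] (f : G ⟶ H)
    (h0 : (1 : 𝟙_ C ⟶ G) ≫ f = 1)
    (h : ∀ (T : C) (x y : T ⟶ G), (x * y) ≫ f = (x ≫ f) * (y ≫ f)) : IsMonHom f where
  one_hom := by
    rw [Hom.one_def, Hom.one_def] at h0
    simpa using h0
  mul_hom := by
    have h1 := h (G ⊗ G) (fst G G) (snd G G)
    rw [Hom.mul_def, Hom.mul_def, lift_fst_snd, Category.id_comp, lift_fst_comp_snd_comp] at h1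
    exact h1

/-- a monomorphism with trivial composite through which every point of the kernel factors is a kernel -/
theorem isKernel_of_forall {G' G G'' : C} [GrpObj G''] (u : G' ⟶ G) (v : G ⟶ G'') [Mono u]
    (h1 : u ≫ v = 1)
    (h2 : ∀ (T : C) (x : T ⟶ G), x ≫ v = 1 → ∃ g : T ⟶ G', g ≫ u = x) :
    IsPullback u (toUnit G') v η[G''] := by
  have w : u ≫ v = toUnit G' ≫ η[G''] := by rw [h1, Hom.one_def]
  have hs : ∀ s : PullbackCone v η[G''], s.fst ≫ v = 1 := by
    intro s
    rw [s.condition, Hom.one_def]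
    congr 1
    exact toUnit_unique _ _
  refine ⟨⟨w⟩, ⟨PullbackCone.IsLimit.mk w (fun s => (h2 s.pt s.fst (hs s)).choose) ?_ ?_ ?_⟩⟩
  · intro s
    exact (h2 s.pt s.fst (hs s)).choose_spec
  · intro s
    exact toUnit_unique _ _
  · intro s m hm _
    rw [← cancel_mono u, hm]
    exact (h2 s.pt s.fst (hs s)).choose_spec.symm

end General

section AS

variable {S : Scheme.{u}} (p : ℕ) [Fact p.Prime] (hp : (p : Γ(S, ⊤)) = 0)
  (F : Red.Ga S ⟶ Red.Ga S)
  (hF : ∀ (T : Over S) (x : T ⟶ Red.Ga S), Red.gaFn (x ≫ F) = Red.gaFn x ^ p)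

include hp in
theorem natCast_eq_zero (T : Over S) : (p : Γ(T.left, ⊤)) = 0 := by
  have h := congrArg T.hom.appTop.hom hp
  rwa [map_natCast, map_zero] at h

include hF in
theorem gaFn_comp_P {T : Over S} (x : T ⟶ Red.Ga S) :
    Red.gaFn (x ≫ (𝟙 (Red.Ga S) * F⁻¹)) = Red.gaFn x - Red.gaFn x ^ p := by
  rw [MonObj.comp_mul, GrpObj.comp_inv, Category.comp_id, gaFn_mul, gaFn_inv, hF, sub_eq_add_neg]

include hp hF in
theorem isMonHom_P : IsMonHom (𝟙 (Red.Ga S) * F⁻¹) := by
  apply isMonHom_of_forall_mul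
  · apply gaFn_injective
    rw [gaFn_comp_P p F hF, gaFn_one, zero_pow (Fact.out : p.Prime).ne_zero, sub_zero]
  intro T x y
  apply gaFn_injective
  rw [gaFn_comp_P p F hF, gaFn_mul, gaFn_mul, gaFn_comp_P p F hF, gaFn_comp_P p F hF]
  obtain ⟨r, hr⟩ := exists_add_pow_prime_eq (Fact.out : p.Prime) (Red.gaFn x) (Red.gaFn y)
  rw [hr, natCast_eq_zero p hp T]
  ring

end AS

section Cover

variable (p : ℕ) [Fact p.Prime]

instance : Nontrivial SymZ.{u} := (symZLift (0 : ULift.{u} ℤ)).domain_nontrivial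

/-- the Artin–Schreier polynomial `X^p − X + T` over `ℤ[T]` -/
noncomputable def asPoly : SymZ.{u}[X] := X ^ p - (X - C gen)

lemma asPoly_monic : (asPoly.{u} p).Monic :=
  monic_X_pow_sub (lt_of_le_of_lt (degree_X_sub_C_le _)
    (by exact_mod_cast (Fact.out : p.Prime).one_lt))

lemma asPoly_natDegree : (asPoly.{u} p).natDegree = p := by
  unfold asPoly
  have h1 : (X - C gen : SymZ.{u}[X]).natDegree < (X ^ p : SymZ.{u}[X]).natDegree := by
    rw [natDegree_X_pow]
    exact lt_of_le_of_lt (natDegree_X_sub_C_le _) (Fact.out : p.Prime).one_lt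
  rw [natDegree_sub_eq_left_of_natDegree_lt h1, natDegree_X_pow]

/-- `ℤ[T][X]/(X^p − X + T)` -/
abbrev EA : Type u := AdjoinRoot (asPoly.{u} p)

lemma root_sub_pow : AdjoinRoot.root (asPoly.{u} p) - (AdjoinRoot.root (asPoly.{u} p)) ^ p =
    algebraMap SymZ.{u} (EA.{u} p) gen := by
  have h : AdjoinRoot.mk (asPoly.{u} p) (X ^ p - (X - C gen)) = 0 := AdjoinRoot.mk_self
  rw [map_sub, map_pow, map_sub, AdjoinRoot.mk_X, AdjoinRoot.mk_C] at h
  rw [AdjoinRoot.algebraMap_eq]
  linear_combination -h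

lemma faithfullyFlat_EA : Module.FaithfullyFlat SymZ.{u} (EA.{u} p) := by
  let pb := AdjoinRoot.powerBasis' (asPoly_monic.{u} p)
  haveI : Module.Free SymZ.{u} (EA.{u} p) := Module.Free.of_basis pb.basis
  have hdim : pb.dim = p := by
    rw [AdjoinRoot.powerBasis'_dim, asPoly_natDegree]
  haveI : Nonempty (Fin pb.dim) := ⟨⟨0, by rw [hdim]; exact (Fact.out : p.Prime).pos⟩⟩
  haveI : Nontrivial (EA.{u} p) := pb.basis.repr.toEquiv.nontrivial
  infer_instance

variable {S : Scheme.{u}} (F : Red.Ga S ⟶ Red.Ga S)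
  (hF : ∀ (T : Over S) (x : T ⟶ Red.Ga S), Red.gaFn (x ≫ F) = Red.gaFn x ^ p)

include hF in
theorem isLocallyTrivial_P :
    NonAbH1.IsLocallyTrivialFor Scheme.fpqcPrecoverage
      (Over.mk (𝟙 (Red.Ga S) * F⁻¹).left : Over (Red.Ga S).left) := by
  let w0 : Spec (CommRingCat.of (EA.{u} p)) ⟶ (Red.GaZ.{u}).left :=
    Spec.map (CommRingCat.ofHom (algebraMap SymZ.{u} (EA.{u} p)))
  let W0 : Over (Spec (CommRingCat.of (ULift.{u} ℤ))) := Over.mk (w0 ≫ (Red.GaZ.{u}).hom)
  let w0' : W0 ⟶ Red.GaZ.{u} := Over.homMk w0 rfl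
  have hff : Flat w0 ∧ Surjective w0 := by
    refine (flat_and_surjective_SpecMap_iff _).mpr ?_
    rw [CommRingCat.hom_ofHom]
    exact RingHom.faithfullyFlat_algebraMap_iff.mpr (faithfullyFlat_EA.{u} p)
  let t := Limits.IsTerminal.from specULiftZIsTerminal S
  haveI hflat : Flat ((Over.pullback t).map w0').left :=
    MorphismProperty.overPullbackMap (P := @Flat) t w0' hff.1
  haveI hsurj : Surjective ((Over.pullback t).map w0').left :=
    MorphismProperty.overPullbackMap (P := @Surjective) t w0' hff.2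
  haveI hqc : QuasiCompact ((Over.pullback t).map w0').left :=
    MorphismProperty.overPullbackMap (P := @QuasiCompact) t w0'
      (inferInstanceAs (QuasiCompact (Spec.map (CommRingCat.ofHom
        (algebraMap SymZ.{u} (EA.{u} p))))))
  haveI : DGlue2.IsFpqcCov ((Over.pullback t).map w0').left :=
    { flat := hflat, surj := hsurj, qc := inferInstance }
  refine ⟨Presieve.singleton ((Over.pullback t).map w0').left,
    DGlue2.IsFpqcCov.singleton_mem _, ?_⟩
  rintro S' f ⟨⟩
  -- the section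
  let r : Γ(((Over.pullback t).obj W0).left, ⊤) :=
    (pullback.fst W0.hom t).appTop ((Scheme.ΓSpecIso (CommRingCat.of (EA.{u} p))).inv
      (AdjoinRoot.root (asPoly.{u} p)))
  let ℓ : (Over.pullback t).obj W0 ⟶ Red.Ga S := pt r
  have hℓ : ℓ ≫ (𝟙 (Red.Ga S) * F⁻¹) = (Over.pullback t).map w0' := by
    apply gaFn_injective
    rw [gaFn_comp_P p F hF, gaFn_pt]
    have h1 : ((Over.pullback t).map w0').left ≫ pullback.fst (Red.GaZ.{u}).hom t =
        pullback.fst W0.hom t ≫ w0 := by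
      simp [w0']
      exact pullback.lift_fst _ _ _
    have h2 : w0.appTop Red.gaCoord = (Scheme.ΓSpecIso (CommRingCat.of (EA.{u} p))).inv
        (algebraMap SymZ.{u} (EA.{u} p) gen) := by
      have h3 := Scheme.ΓSpecIso_inv_naturality
        (CommRingCat.ofHom (algebraMap SymZ.{u} (EA.{u} p)))
      have h4 := congrArg (fun φ => φ.hom gen) h3
      exact h4.symm
    show _ = (((Over.pullback t).map w0').left ≫ pullback.fst (Red.GaZ.{u}).hom t).appTop
      Red.gaCoord
    rw [h1, Scheme.Hom.comp_appTop, CommRingCat.comp_apply, h2, ← root_sub_pow, map_sub, map_pow,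
      map_sub, map_pow]
  refine ⟨ℓ.left, ?_⟩
  have h5 := congrArg (fun φ => φ.left) hℓ
  exact h5

end Cover

end Groth.Agent.Helper8.ArtSch
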