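import Mathlib
import Groth.Prelude.Def_TwC
import Groth.Agent.Helper8.ArtSchA
import Groth.Agent.Helper8.ArtSchB

/-!
# Artin–Schreier: the constant group `(ℤ/p)_S` is the kernel of `x ↦ x − x^p`
-/

set_option autoImplicit false

namespace Groth.Agent.Helper8.ArtSch

open CategoryTheory MonoidalCategory CartesianMonoidalCategory MonObj GrpObj AlgebraicGeometry
  CategoryTheory.Limits
open Groth.Agent.Helper5.GaPts Groth.Agent.Helper2.GaAdd

universe u

variable {S : Scheme.{u}} {p : ℕ} [Fact p.Prime]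

theorem toUnit_left' (Y : Over S) : (toUnit Y).left = Y.hom := by
  rw [← Category.comp_id (toUnit Y).left]
  exact Over.w (toUnit Y)

/-- the canonical ring homomorphism `𝔽_p → Γ(Y, ⊤)` for an `S`-scheme `Y` -/
noncomputable def zOf (zS : ZMod p →+* Γ((𝟙_ (Over S)).left, ⊤)) (Y : Over S) :
    ZMod p →+* Γ(Y.left, ⊤) :=
  (toUnit Y).left.appTop.hom.comp zS

theorem zOf_comp (zS : ZMod p →+* Γ((𝟙_ (Over S)).left, ⊤)) {Y T : Over S} (u : Y ⟶ T)
    (k : ZMod p) : u.left.appTop (zOf zS T k) = zOf zS Y k := by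
  have h1 : toUnit Y = u ≫ toUnit T := toUnit_unique _ _
  unfold zOf
  rw [h1, Over.comp_left, Scheme.Hom.comp_appTop]
  rfl

theorem isEmpty_of_zOf_eq (zS : ZMod p →+* Γ((𝟙_ (Over S)).left, ⊤)) (Y : Over S)
    {k l : ZMod p} (hkl : k ≠ l) (h : zOf zS Y k = zOf zS Y l) : IsEmpty Y.left := by
  apply isEmpty_of_isUnit_zero
  have h1 := isUnit_sub (zOf zS Y) hkl
  rwa [h, sub_self] at h1

section

variable (zS : ZMod p →+* Γ((𝟙_ (Over S)).left, ⊤))
  (j : TwC.const S (Multiplicative (ZMod p)) ⟶ Red.Ga S)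
  (hj : ∀ k : ZMod p,
    Red.gaFn (TwC.pt S (Multiplicative (ZMod p)) (Multiplicative.ofAdd k) ≫ j) = zS k)

include hj in
theorem gaFn_toUnit_pt (Y : Over S) (k : ZMod p) :
    Red.gaFn (toUnit Y ≫ TwC.pt S (Multiplicative (ZMod p)) (Multiplicative.ofAdd k) ≫ j) =
      zOf zS Y k := by
  rw [gaFn_comp, hj]
  rfl

/-- the preimage of the `m`-th copy of `S` -/
noncomputable def VV {T : Over S} (g : T ⟶ TwC.const S (Multiplicative (ZMod p)))
    (m : Multiplicative (ZMod p)) : T.left.Opens :=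
  g.left ⁻¹ᵁ (Sigma.ι (fun _ : Multiplicative (ZMod p) => S) m).opensRange

theorem exists_mem_VV {T : Over S} (g : T ⟶ TwC.const S (Multiplicative (ZMod p))) (x : T.left) :
    ∃ m, x ∈ VV g m := by
  obtain ⟨m, y, hy⟩ :=
    (sigmaOpenCover (fun _ : Multiplicative (ZMod p) => S)).exists_eq (g.left.base x)
  exact ⟨m, ⟨y, hy⟩⟩

theorem ι_comp_of_le {T : Over S} (g : T ⟶ TwC.const S (Multiplicative (ZMod p)))
    {m : Multiplicative (ZMod p)} {U : T.left.Opens} (hU : U ≤ VV g m) :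
    U.ι ≫ g.left = U.ι ≫ T.hom ≫ Sigma.ι (fun _ : Multiplicative (ZMod p) => S) m := by
  have hr : Set.range (U.ι ≫ g.left).base ⊆
      Set.range (Sigma.ι (fun _ : Multiplicative (ZMod p) => S) m).base := by
    rintro _ ⟨y, rfl⟩
    exact hU y.2
  let ℓ := IsOpenImmersion.lift (Sigma.ι (fun _ : Multiplicative (ZMod p) => S) m)
    (U.ι ≫ g.left) hr
  have h1 : ℓ ≫ Sigma.ι (fun _ : Multiplicative (ZMod p) => S) m = U.ι ≫ g.left :=
    IsOpenImmersion.lift_fac _ _ _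
  have h2 : ℓ = U.ι ≫ T.hom := by
    have h3 := congrArg (fun φ => φ ≫ (TwC.const S (Multiplicative (ZMod p))).hom) h1
    have h4 : Sigma.ι (fun _ : Multiplicative (ZMod p) => S) m ≫
        (TwC.const S (Multiplicative (ZMod p))).hom = 𝟙 S := by
      simp
    have h5 : g.left ≫ (TwC.const S (Multiplicative (ZMod p))).hom = T.hom := Over.w g
    simp only [Category.assoc] at h3
    rw [h4, h5, Category.comp_id] at h3
    exact h3
  rw [← h1, h2, Category.assoc]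

theorem comp_eq_toUnit_pt {T : Over S} (g : T ⟶ TwC.const S (Multiplicative (ZMod p)))
    {m : Multiplicative (ZMod p)} {U : T.left.Opens} (hU : U ≤ VV g m) :
    (Over.homMk U.ι rfl : Over.mk (U.ι ≫ T.hom) ⟶ T) ≫ g =
      toUnit (Over.mk (U.ι ≫ T.hom)) ≫ TwC.pt S (Multiplicative (ZMod p)) m := by
  apply Over.OverMorphism.ext
  rw [Over.comp_left, Over.comp_left, toUnit_left']
  exact ι_comp_of_le g hU

include hj in
theorem mono_of_gaFn : Mono j := by
  refine ⟨fun {T} g₁ g₂ h => ?_⟩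
  apply Over.OverMorphism.ext
  apply Scheme.hom_ext_of_forall
  intro x
  obtain ⟨m₁, h₁⟩ := exists_mem_VV g₁ x
  obtain ⟨m₂, h₂⟩ := exists_mem_VV g₂ x
  refine ⟨VV g₁ m₁ ⊓ VV g₂ m₂, ⟨h₁, h₂⟩, ?_⟩
  by_cases hm : m₁ = m₂
  · subst hm
    rw [ι_comp_of_le g₁ inf_le_left, ι_comp_of_le g₂ inf_le_right]
  · exfalso
    have e₁ := comp_eq_toUnit_pt g₁ (U := VV g₁ m₁ ⊓ VV g₂ m₂) inf_le_left
    have e₂ := comp_eq_toUnit_pt g₂ (U := VV g₁ m₁ ⊓ VV g₂ m₂) inf_le_right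
    have h3 : zOf zS (Over.mk ((VV g₁ m₁ ⊓ VV g₂ m₂).ι ≫ T.hom)) m₁.toAdd =
        zOf zS (Over.mk ((VV g₁ m₁ ⊓ VV g₂ m₂).ι ≫ T.hom)) m₂.toAdd := by
      rw [← gaFn_toUnit_pt zS j hj, ← gaFn_toUnit_pt zS j hj]
      show Red.gaFn (toUnit _ ≫ TwC.pt S (Multiplicative (ZMod p)) m₁ ≫ j) =
        Red.gaFn (toUnit _ ≫ TwC.pt S (Multiplicative (ZMod p)) m₂ ≫ j)
      rw [← Category.assoc, ← e₁, ← Category.assoc, ← e₂, Category.assoc, Category.assoc, h]
    have hne : m₁.toAdd ≠ m₂.toAdd := fun hh => hm (Multiplicative.toAdd.injective hh)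
    have h4 := isEmpty_of_zOf_eq zS _ hne h3
    exact h4.false ⟨x, h₁, h₂⟩

include hj in
theorem exists_lift {T : Over S} (x : T ⟶ Red.Ga S) (h : Red.gaFn x ^ p = Red.gaFn x) :
    ∃ g : T ⟶ TwC.const S (Multiplicative (ZMod p)), g ≫ j = x := by
  let hc := isColimitWW (zOf zS T) (Red.gaFn x) h
  let g0 : T.left ⟶ (TwC.const S (Multiplicative (ZMod p))).left :=
    Cofan.IsColimit.desc hc (fun k => (WW (zOf zS T) (Red.gaFn x) k).ι ≫ T.hom ≫
      Sigma.ι (fun _ : Multiplicative (ZMod p) => S) (Multiplicative.ofAdd k))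
  have hg0 : ∀ k, (WW (zOf zS T) (Red.gaFn x) k).ι ≫ g0 =
      (WW (zOf zS T) (Red.gaFn x) k).ι ≫ T.hom ≫
        Sigma.ι (fun _ : Multiplicative (ZMod p) => S) (Multiplicative.ofAdd k) :=
    fun k => Cofan.IsColimit.fac hc _ k
  have hw : g0 ≫ (TwC.const S (Multiplicative (ZMod p))).hom = T.hom := by
    apply Cofan.IsColimit.hom_ext hc
    intro k
    show (WW (zOf zS T) (Red.gaFn x) k).ι ≫ g0 ≫ _ = (WW (zOf zS T) (Red.gaFn x) k).ι ≫ T.hom
    rw [← Category.assoc, hg0]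
    simp
  let g : T ⟶ TwC.const S (Multiplicative (ZMod p)) := Over.homMk g0 hw
  refine ⟨g, ?_⟩
  apply Over.OverMorphism.ext
  apply Cofan.IsColimit.hom_ext hc
  intro k
  show (WW (zOf zS T) (Red.gaFn x) k).ι ≫ (g ≫ j).left =
    (WW (zOf zS T) (Red.gaFn x) k).ι ≫ x.left
  let Y : Over S := Over.mk ((WW (zOf zS T) (Red.gaFn x) k).ι ≫ T.hom)
  let u : Y ⟶ T := Over.homMk (WW (zOf zS T) (Red.gaFn x) k).ι rfl
  have e1 : u ≫ g = toUnit Y ≫ TwC.pt S (Multiplicative (ZMod p)) (Multiplicative.ofAdd k) := by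
    apply Over.OverMorphism.ext
    rw [Over.comp_left, Over.comp_left, toUnit_left']
    exact hg0 k
  have h2 : u ≫ g ≫ j = u ≫ x := by
    apply gaFn_injective
    rw [← Category.assoc, e1, Category.assoc, gaFn_toUnit_pt zS j hj, gaFn_comp,
      ← zOf_comp zS u]
    have h3 := ι_appTop_sub (zOf zS T) (Red.gaFn x) h k
    rw [map_sub, sub_eq_zero] at h3
    exact h3.symm
  exact congrArg (fun φ => φ.left) h2

end

end Groth.Agent.Helper8.ArtSch
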