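import Mathlib

/-!
# AsA: the formal ring for the Artin–Schreier step of Epp's theorem

We work in `B[X]`, where `X` stands for the inverse `π₁⁻¹` of a uniformizer `π₁` of a totally
ramified extension of degree `q = p ^ N` ("level `N`"), so that `π X ^ q` stands for a `1`-unit.
-/

set_option autoImplicit false
set_option linter.unusedSectionVars false

namespace Groth.Agent.Helper8.AsF

open Polynomial

section Defs

variable {A B : Type*} [CommRing A] [CommRing B] [Algebra A B] (p : ℕ) (π : B)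

/-- the residue of `c` modulo `π` is a `p`-th power -/
def P (c : B) : Prop := ∃ r c' : B, c = r ^ p + π * c'

open Classical in
/-- the weight of a coefficient -/
noncomputable def wt (c : B) : ℕ := if c = 0 then 0 else if P p π c then 2 else 1

/-- polynomials in `π₁⁻¹` that are integral at level `q` -/
def IsInt (q : ℕ) (h : B[X]) : Prop :=
  ∃ (h₀ : B) (h₂ : B[X]), h₂.natDegree ≤ q ∧ h = C h₀ + C π * h₂

/-- Artin–Schreier boundaries plus integral elements, at level `N` -/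
def InR₀ (N m : ℕ) (F : B[X]) : Prop :=
  ∃ f h e : B[X], IsInt π (p ^ N) h ∧ e.natDegree ≤ m * p ^ N ∧
    F = (f ^ p - f) + h + (C π * X ^ (p ^ N) - 1) * e

variable (A) in
/-- the same, modulo polynomials with coefficients in `A` -/
def InR (N m : ℕ) (F : B[X]) : Prop :=
  ∃ g : A[X], InR₀ p π N m (F - g.map (algebraMap A B))

variable (A) in
/-- good form: trivial, or leading term `c X ^ s` with `p ∣ s` and the residue of `c` not a
`p`-th power -/
def IsGood (N m : ℕ) (F : B[X]) : Prop :=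
  InR A p π N m F ∨ ∃ (s : ℕ) (c : B) (F' : B[X]), 0 < s ∧ p ∣ s ∧ ¬ P p π c ∧
    F'.natDegree < s ∧ InR A p π N m (F - C c * X ^ s - F')

/-- the weight of the coefficients in degrees `(a, b]` -/
noncomputable def band (a b : ℕ) (F : B[X]) : ℕ := ∑ n ∈ Finset.Ioc a b, wt p π (F.coeff n)

end Defs

section Lemmas

variable {A B : Type*} [CommRing A] [CommRing B] [Algebra A B] (p : ℕ) [hp : Fact p.Prime]
  [CharP B p] (π : B)

theorem P_zero : P p π 0 := ⟨0, 0, by rw [zero_pow hp.out.ne_zero, mul_zero, add_zero]⟩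

theorem P_sub {a b : B} (ha : P p π a) (hb : P p π b) : P p π (a - b) := by
  obtain ⟨r, c, rfl⟩ := ha
  obtain ⟨r', c', rfl⟩ := hb
  exact ⟨r - r', c - c', by rw [sub_pow_char]; ring⟩

theorem not_P_add {o δ : B} (ho : P p π o) (hδ : ¬ P p π δ) : ¬ P p π (o + δ) := fun h =>
  hδ (by have := P_sub p π h ho; rwa [add_sub_cancel_left] at this)

omit hp [CharP B p] in
theorem wt_zero : wt p π (0 : B) = 0 := by
  unfold wt; rw [if_pos rfl]

omit hp [CharP B p] in
theorem wt_le_two (c : B) : wt p π c ≤ 2 := by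
  unfold wt; split_ifs <;> omega

omit hp [CharP B p] in
theorem wt_pos {c : B} (h : c ≠ 0) : 0 < wt p π c := by
  unfold wt; rw [if_neg h]; split_ifs <;> omega

omit hp [CharP B p] in
theorem wt_of_P {c : B} (h0 : c ≠ 0) (h : P p π c) : wt p π c = 2 := by
  unfold wt; rw [if_neg h0, if_pos h]

theorem wt_of_not_P {c : B} (h : ¬ P p π c) : wt p π c = 1 := by
  have h0 : c ≠ 0 := fun h0 => h (h0 ▸ P_zero p π)
  unfold wt; rw [if_neg h0, if_neg h]

theorem wt_add_le {o δ : B} (hδ : ¬ P p π δ) : wt p π (o + δ) ≤ wt p π o + 1 := by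
  by_cases ho : o = 0
  · rw [ho, zero_add, wt_of_not_P p π hδ, wt_zero]
  · have h1 := wt_pos p π ho
    have h2 := wt_le_two p π (o + δ)
    omega

/-! ### integral polynomials -/

omit hp [CharP B p] in
theorem IsInt.zero (q : ℕ) : IsInt π q (0 : B[X]) := ⟨0, 0, by simp, by simp⟩

omit hp [CharP B p] in
theorem IsInt.const (q : ℕ) (a : B) : IsInt π q (C a) := ⟨a, 0, by simp, by simp⟩

omit hp [CharP B p] in
theorem IsInt.pi_mul (q : ℕ) {G : B[X]} (hG : G.natDegree ≤ q) : IsInt π q (C π * G) :=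
  ⟨0, G, hG, by simp⟩

omit hp [CharP B p] in
theorem IsInt.add {q : ℕ} {h h' : B[X]} (H : IsInt π q h) (H' : IsInt π q h') :
    IsInt π q (h + h') := by
  obtain ⟨a, g, hg, rfl⟩ := H
  obtain ⟨a', g', hg', rfl⟩ := H'
  exact ⟨a + a', g + g', (natDegree_add_le _ _).trans (max_le hg hg'), by rw [C_add]; ring⟩

omit hp [CharP B p] in
theorem IsInt.expandOf {q : ℕ} {h : B[X]} (r : ℕ) (H : IsInt π q h) :
    IsInt π (q * r) (expand B r h) := by
  obtain ⟨a, g, hg, rfl⟩ := H
  refine ⟨a, expand B r g, ?_, ?_⟩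
  · rw [natDegree_expand]; exact Nat.mul_le_mul_right r hg
  · rw [map_add, map_mul, expand_C, expand_C]

/-! ### `InR₀` -/

theorem InR₀.zero (N m : ℕ) : InR₀ p π N m (0 : B[X]) :=
  ⟨0, 0, 0, IsInt.zero π _, by simp, by simp [zero_pow hp.out.ne_zero]⟩

theorem InR₀.of_wp (N m : ℕ) (f : B[X]) : InR₀ p π N m (f ^ p - f) :=
  ⟨f, 0, 0, IsInt.zero π _, by simp, by simp⟩

theorem InR₀.of_isInt (N m : ℕ) {h : B[X]} (hh : IsInt π (p ^ N) h) : InR₀ p π N m h :=
  ⟨0, h, 0, hh, by simp, by simp [zero_pow hp.out.ne_zero]⟩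

theorem InR₀.of_mul (N m : ℕ) {e : B[X]} (he : e.natDegree ≤ m * p ^ N) :
    InR₀ p π N m ((C π * X ^ (p ^ N) - 1) * e) :=
  ⟨0, 0, e, IsInt.zero π _, he, by simp [zero_pow hp.out.ne_zero]⟩

theorem InR₀.add {N m : ℕ} {F G : B[X]} (hF : InR₀ p π N m F) (hG : InR₀ p π N m G) :
    InR₀ p π N m (F + G) := by
  obtain ⟨f, h, e, hh, he, rfl⟩ := hF
  obtain ⟨f', h', e', hh', he', rfl⟩ := hG
  refine ⟨f + f', h + h', e + e', hh.add π hh', (natDegree_add_le _ _).trans (max_le he he'), ?_⟩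
  rw [add_pow_char]; ring

omit hp [CharP B p] in
theorem InR₀.mono {N m m' : ℕ} (hm : m ≤ m') {F : B[X]} (hF : InR₀ p π N m F) :
    InR₀ p π N m' F := by
  obtain ⟨f, h, e, hh, he, rfl⟩ := hF
  exact ⟨f, h, e, hh, he.trans (Nat.mul_le_mul_right _ hm), rfl⟩

omit hp [CharP B p] in
theorem InR₀.expandStep {N m : ℕ} {F : B[X]} (hF : InR₀ p π N m F) :
    InR₀ p π (N + 1) m (expand B p F) := by
  obtain ⟨f, h, e, hh, he, rfl⟩ := hF
  refine ⟨expand B p f, expand B p h, expand B p e, ?_, ?_, ?_⟩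
  · rw [pow_succ]; exact hh.expandOf π p
  · rw [natDegree_expand, pow_succ, ← mul_assoc]; exact Nat.mul_le_mul_right p he
  · simp only [map_add, map_sub, map_mul, map_pow, map_one, expand_C, expand_X]
    rw [← pow_mul, ← pow_succ']

omit hp [CharP B p] in
theorem InR₀.expandPow {N m : ℕ} {F : B[X]} (hF : InR₀ p π N m F) (j : ℕ) :
    InR₀ p π (N + j) m (expand B (p ^ j) F) := by
  induction j with
  | zero => simpa using hF
  | succ j ih =>
    have := ih.expandStep p π
    rwa [← expand_mul, ← pow_succ'] at this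

omit hp [CharP B p] in
theorem InR₀.mapAlg {A : Type*} [CommRing A] [Algebra A B] (ϖ : A) {N m : ℕ} {F : A[X]}
    (hF : InR₀ p ϖ N m F) : InR₀ p (algebraMap A B ϖ) N m (F.map (algebraMap A B)) := by
  obtain ⟨f, h, e, ⟨h₀, h₂, hh₂, rfl⟩, he, rfl⟩ := hF
  refine ⟨f.map (algebraMap A B), (Polynomial.C h₀ + Polynomial.C ϖ * h₂).map (algebraMap A B),
    e.map (algebraMap A B),
    ⟨algebraMap A B h₀, h₂.map (algebraMap A B), natDegree_map_le.trans hh₂, by simp⟩,
    natDegree_map_le.trans he, by simp⟩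

/-! ### `InR` -/

omit hp [CharP B p] in
theorem InR.of_inR₀ {N m : ℕ} {F : B[X]} (h : InR₀ p π N m F) : InR A p π N m F :=
  ⟨0, by simpa using h⟩

theorem InR.of_map (N m : ℕ) (g : A[X]) : InR A p π N m (g.map (algebraMap A B)) :=
  ⟨g, by rw [sub_self]; exact InR₀.zero p π N m⟩

theorem InR.zero (N m : ℕ) : InR A p π N m (0 : B[X]) :=
  InR.of_inR₀ p π (InR₀.zero p π N m)

theorem InR.add {N m : ℕ} {F G : B[X]} (hF : InR A p π N m F) (hG : InR A p π N m G) :
    InR A p π N m (F + G) := by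
  obtain ⟨g, hg⟩ := hF
  obtain ⟨g', hg'⟩ := hG
  refine ⟨g + g', ?_⟩
  have := hg.add p π hg'
  rw [Polynomial.map_add]
  convert this using 1
  ring

omit hp [CharP B p] in
theorem InR.mono {N m m' : ℕ} (hm : m ≤ m') {F : B[X]} (hF : InR A p π N m F) :
    InR A p π N m' F := by
  obtain ⟨g, hg⟩ := hF
  exact ⟨g, hg.mono p π hm⟩

omit hp [CharP B p] in
theorem InR.expandPow {N m : ℕ} {F : B[X]} (hF : InR A p π N m F) (j : ℕ) :
    InR A p π (N + j) m (expand B (p ^ j) F) := by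
  obtain ⟨g, hg⟩ := hF
  refine ⟨expand A (p ^ j) g, ?_⟩
  have := hg.expandPow p π j
  rwa [map_sub, ← map_expand] at this

/-! ### `IsGood` -/

theorem IsGood.add_inR {N m : ℕ} {F G : B[X]} (hF : IsGood A p π N m F)
    (hG : InR A p π N m G) : IsGood A p π N m (F + G) := by
  rcases hF with h | ⟨s, c, F', hs, hps, hc, hF', h⟩
  · exact Or.inl (h.add p π hG)
  · refine Or.inr ⟨s, c, F', hs, hps, hc, hF', ?_⟩
    have := h.add p π hG
    convert this using 1
    ring

omit hp [CharP B p] in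
theorem IsGood.mono {N m m' : ℕ} (hm : m ≤ m') {F : B[X]} (hF : IsGood A p π N m F) :
    IsGood A p π N m' F := by
  rcases hF with h | ⟨s, c, F', hs, hps, hc, hF', h⟩
  · exact Or.inl (h.mono p π hm)
  · exact Or.inr ⟨s, c, F', hs, hps, hc, hF', h.mono p π hm⟩

omit [CharP B p] in
theorem IsGood.expandPow {N m : ℕ} {F : B[X]} (hF : IsGood A p π N m F) (j : ℕ) :
    IsGood A p π (N + j) m (expand B (p ^ j) F) := by
  have hpj : 0 < p ^ j := pow_pos hp.out.pos j
  rcases hF with h | ⟨s, c, F', hs, hps, hc, hF', h⟩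
  · exact Or.inl (h.expandPow p π j)
  · refine Or.inr ⟨s * p ^ j, c, expand B (p ^ j) F', Nat.mul_pos hs hpj,
      Dvd.dvd.mul_right hps _, hc, ?_, ?_⟩
    · rw [natDegree_expand]; exact (Nat.mul_lt_mul_right hpj).2 hF'
    · have := h.expandPow p π j
      rwa [map_sub, map_sub, map_mul, expand_C, map_pow, expand_X, ← pow_mul,
        mul_comm (p ^ j) s] at this

/-! ### auxiliary identities -/

theorem exists_wp_eq {R : Type*} [CommRing R] [CharP R p] (x : R) (d : ℕ) :
    ∃ S : R, x ^ (p ^ d) - x = S ^ p - S := by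
  induction d with
  | zero => exact ⟨0, by simp [zero_pow hp.out.ne_zero]⟩
  | succ d ih =>
    obtain ⟨S, hS⟩ := ih
    refine ⟨x ^ (p ^ d) + S, ?_⟩
    rw [add_pow_char, ← pow_mul, ← pow_succ]
    linear_combination hS

theorem reduce_pi (N m : ℕ) (c' : B) (s : ℕ) (hs : s ≤ m * p ^ N) :
    ∃ G : B[X], G.natDegree ≤ s - p ^ N ∧ (0 < s → G.natDegree < s) ∧
      InR₀ p π N m (C π * (C c' * X ^ s) - G) := by
  by_cases h : s ≤ p ^ N
  · refine ⟨0, by simp, fun h0 => by simpa using h0, ?_⟩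
    rw [sub_zero]
    exact InR₀.of_isInt p π N m
      (IsInt.pi_mul π _ ((natDegree_C_mul_X_pow_le _ _).trans h))
  · push Not at h
    have hq : 0 < p ^ N := pow_pos hp.out.pos N
    obtain ⟨k, rfl⟩ : ∃ k, s = p ^ N + k := ⟨s - p ^ N, by omega⟩
    refine ⟨C c' * X ^ k, ?_, fun _ => lt_of_le_of_lt (natDegree_C_mul_X_pow_le _ _) (by omega),
      ?_⟩
    · rw [Nat.add_sub_cancel_left]; exact natDegree_C_mul_X_pow_le _ _
    · have h1 : C π * (C c' * X ^ (p ^ N + k)) - C c' * X ^ k =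
          (C π * X ^ (p ^ N) - 1) * (C c' * X ^ k) := by
        rw [pow_add]; ring
      rw [h1]
      exact InR₀.of_mul p π N m ((natDegree_C_mul_X_pow_le _ _).trans (by omega))

theorem natDegree_sub_lead_lt {R : Type*} [CommRing R] (F : R[X]) (h : 0 < F.natDegree) :
    (F - C F.leadingCoeff * X ^ F.natDegree).natDegree < F.natDegree := by
  have hF0 : F ≠ 0 := by rintro rfl; simp at h
  have hlc : F.leadingCoeff ≠ 0 := leadingCoeff_ne_zero.2 hF0
  have hdeg : F.degree = (C F.leadingCoeff * X ^ F.natDegree).degree := by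
    rw [degree_C_mul_X_pow _ hlc, degree_eq_natDegree hF0]
  have hlt := degree_sub_lt hdeg hF0 (by rw [leadingCoeff_C_mul_X_pow])
  by_cases h0 : F - C F.leadingCoeff * X ^ F.natDegree = 0
  · rw [h0, natDegree_zero]; exact h
  · exact natDegree_lt_natDegree h0 hlt

end Lemmas

end Groth.Agent.Helper8.AsF
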