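import Mathlib
import Groth.Agent.Helper8.AsA

/-!
# AsB: the formal reduction theorem for the Artin–Schreier step
-/

set_option autoImplicit false
set_option linter.unusedSectionVars false

namespace Groth.Agent.Helper8.AsF

open Polynomial

section Band

variable {B : Type*} [CommRing B] (p : ℕ) [hp : Fact p.Prime] [CharP B p] (π : B)

theorem band_add_low {a b : ℕ} {F G : B[X]} (hG : G.natDegree ≤ a) :
    band p π a b (F + G) = band p π a b F := by
  unfold band
  apply Finset.sum_congr rfl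
  intro n hn
  rw [Finset.mem_Ioc] at hn
  rw [coeff_add, coeff_eq_zero_of_natDegree_lt (lt_of_le_of_lt hG hn.1), add_zero]

theorem band_add_monomial_le {a b : ℕ} (F : B[X]) {δ : B} (hδ : ¬ P p π δ) (s : ℕ) :
    band p π a b (F + C δ * X ^ s) ≤ band p π a b F + 1 := by
  unfold band
  calc ∑ n ∈ Finset.Ioc a b, wt p π ((F + C δ * X ^ s).coeff n)
      ≤ ∑ n ∈ Finset.Ioc a b, (wt p π (F.coeff n) + if n = s then 1 else 0) := by
        apply Finset.sum_le_sum
        intro n _
        rw [coeff_add, coeff_C_mul_X_pow]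
        by_cases h : n = s
        · rw [if_pos h, if_pos h]; exact wt_add_le p π hδ
        · rw [if_neg h, if_neg h, add_zero, add_zero]
    _ = ∑ n ∈ Finset.Ioc a b, wt p π (F.coeff n) + if s ∈ Finset.Ioc a b then 1 else 0 := by
        rw [Finset.sum_add_distrib, Finset.sum_ite_eq']
    _ ≤ _ := by split_ifs <;> omega

theorem band_expand {a b : ℕ} (F : B[X]) {r : ℕ} (hr : 0 < r) :
    band p π (a * r) (b * r) (expand B r F) = band p π a b F := by
  unfold band
  have hinj : Set.InjOn (fun n => n * r) (Finset.Ioc a b : Set ℕ) :=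
    fun x _ y _ h => Nat.eq_of_mul_eq_mul_right hr h
  have hsub : (Finset.Ioc a b).image (fun n => n * r) ⊆ Finset.Ioc (a * r) (b * r) := by
    intro n' hn'
    obtain ⟨n, hn, rfl⟩ := Finset.mem_image.1 hn'
    rw [Finset.mem_Ioc] at hn ⊢
    exact ⟨(Nat.mul_lt_mul_right hr).2 hn.1, Nat.mul_le_mul_right r hn.2⟩
  rw [← Finset.sum_subset hsub, Finset.sum_image hinj]
  · apply Finset.sum_congr rfl
    intro n _
    rw [coeff_expand_mul hr]
  · intro n' hn' hnot
    rw [coeff_expand hr]
    split_ifs with hd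
    · exfalso
      obtain ⟨k, rfl⟩ := hd
      apply hnot
      rw [Finset.mem_image]
      refine ⟨k, ?_, mul_comm _ _⟩
      rw [Finset.mem_Ioc] at hn' ⊢
      constructor
      · have := hn'.1
        rw [mul_comm r k] at this
        exact (Nat.mul_lt_mul_right hr).1 this
      · have := hn'.2
        rw [mul_comm r k] at this
        exact Nat.le_of_mul_le_mul_right this hr
    · exact wt_zero p π

theorem band_sub_lead {a b : ℕ} (F : B[X]) (h1 : a < F.natDegree) (h2 : F.natDegree ≤ b) :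
    band p π a b (F - C F.leadingCoeff * X ^ F.natDegree) + wt p π F.leadingCoeff =
      band p π a b F := by
  unfold band
  have hmem : F.natDegree ∈ Finset.Ioc a b := Finset.mem_Ioc.2 ⟨h1, h2⟩
  have key : ∀ n ∈ Finset.Ioc a b, wt p π (F.coeff n) =
      wt p π ((F - C F.leadingCoeff * X ^ F.natDegree).coeff n) +
        if n = F.natDegree then wt p π F.leadingCoeff else 0 := by
    intro n _
    rw [coeff_sub, coeff_C_mul_X_pow]
    by_cases h : n = F.natDegree
    · rw [if_pos h, if_pos h, h, coeff_natDegree, sub_self, wt_zero, zero_add]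
    · rw [if_neg h, if_neg h, sub_zero, add_zero]
  rw [Finset.sum_congr rfl key, Finset.sum_add_distrib, Finset.sum_ite_eq', if_pos hmem]

end Band

section Main

variable {A B : Type*} [CommRing A] [CommRing B] [Algebra A B] (p : ℕ) [hp : Fact p.Prime]
  [CharP B p] (π : B)
  (htri : ∀ c : B, P p π c → (∃ (a : A) (c' : B), c = algebraMap A B a + π * c') ∨
    (∃ (d : ℕ) (δ c' : B), 0 < d ∧ c = δ ^ (p ^ d) + π * c' ∧ ¬ P p π δ))

include htri in
theorem step (N m : ℕ) (F : B[X]) (h1 : m * p ^ N < F.natDegree)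
    (h2 : F.natDegree ≤ (m + 1) * p ^ N) :
    IsGood A p π (N + 1) (m + 1) (expand B p F) ∨
    ∃ (d : ℕ) (F₁ : B[X]), F₁.natDegree ≤ (m + 1) * p ^ (N + d) ∧
      band p π (m * p ^ (N + d)) ((m + 1) * p ^ (N + d)) F₁ <
        band p π (m * p ^ N) ((m + 1) * p ^ N) F ∧
      InR A p π (N + d) (m + 1) (expand B (p ^ d) F - F₁) := by
  have hq : 0 < p ^ N := pow_pos hp.out.pos N
  obtain ⟨s₀, hs₀⟩ : ∃ s₀, s₀ = F.natDegree := ⟨_, rfl⟩
  obtain ⟨c, hc⟩ : ∃ c, c = F.leadingCoeff := ⟨_, rfl⟩
  obtain ⟨F', hF'⟩ : ∃ F', F' = F - C c * X ^ s₀ := ⟨_, rfl⟩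
  rw [← hs₀] at h1 h2
  have hpos : 0 < s₀ := lt_of_le_of_lt (Nat.zero_le _) h1
  have hFeq : F = F' + C c * X ^ s₀ := by rw [hF']; ring
  have hF'deg : F'.natDegree < s₀ := by
    rw [hF', hc, hs₀]; exact natDegree_sub_lead_lt F (by rw [← hs₀]; exact hpos)
  have hband : band p π (m * p ^ N) ((m + 1) * p ^ N) F' + wt p π c =
      band p π (m * p ^ N) ((m + 1) * p ^ N) F := by
    rw [hF', hc, hs₀]
    exact band_sub_lead p π F (by rw [← hs₀]; exact h1) (by rw [← hs₀]; exact h2)
  have hc0 : c ≠ 0 := by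
    rw [hc]; apply leadingCoeff_ne_zero.2
    rintro rfl
    rw [natDegree_zero] at hs₀
    omega
  have h2' : s₀ ≤ m * p ^ N + p ^ N := by
    have := h2; rw [add_mul, one_mul] at this; exact this
  by_cases hP : P p π c
  · have hwt : wt p π c = 2 := wt_of_P p π hc0 hP
    rcases htri c hP with ⟨a, c', hcc⟩ | ⟨d, δ, c', hd, hcc, hδ⟩
    · obtain ⟨G, hG1, -, hG3⟩ := reduce_pi p π N (m + 1) c' s₀ h2
      refine Or.inr ⟨0, F' + G, ?_, ?_, ?_⟩
      · show (F' + G).natDegree ≤ (m + 1) * p ^ N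
        exact (natDegree_add_le _ _).trans
          (max_le (hF'deg.le.trans h2) (hG1.trans ((Nat.sub_le _ _).trans h2)))
      · show band p π (m * p ^ N) ((m + 1) * p ^ N) (F' + G) < _
        rw [band_add_low p π (hG1.trans (by omega))]
        omega
      · show InR A p π N (m + 1) (expand B (p ^ 0) F - (F' + G))
        have e : expand B (p ^ 0) F - (F' + G) =
            (C a * X ^ s₀ : A[X]).map (algebraMap A B) + (C π * (C c' * X ^ s₀) - G) := by
          rw [pow_zero, expand_one, Polynomial.map_mul, Polynomial.map_pow, map_C, map_X, hFeq,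
            hcc, C_add, C_mul]
          ring
        rw [e]
        exact (InR.of_map p π N (m + 1) _).add p π (InR.of_inR₀ p π hG3)
    · have hqd : p ^ (N + d) = p ^ N * p ^ d := pow_add p N d
      have hrpos : 0 < p ^ d := pow_pos hp.out.pos d
      have hs' : s₀ * p ^ d ≤ (m + 1) * p ^ (N + d) := by
        rw [hqd, ← mul_assoc]; exact Nat.mul_le_mul_right _ h2
      obtain ⟨G, hG1, -, hG3⟩ := reduce_pi p π (N + d) (m + 1) c' (s₀ * p ^ d) hs'
      obtain ⟨S, hS⟩ := exists_wp_eq p (C δ * X ^ s₀ : B[X]) d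
      have hGlow : G.natDegree ≤ m * p ^ (N + d) := by
        refine hG1.trans ?_
        have : s₀ * p ^ d ≤ m * p ^ (N + d) + p ^ (N + d) := by
          have := hs'; rw [add_mul, one_mul] at this; exact this
        omega
      refine Or.inr ⟨d, expand B (p ^ d) F' + C δ * X ^ s₀ + G, ?_, ?_, ?_⟩
      · refine (natDegree_add_le _ _).trans
          (max_le ((natDegree_add_le _ _).trans (max_le ?_ ?_)) ?_)
        · rw [natDegree_expand]; exact (Nat.mul_le_mul_right _ hF'deg.le).trans hs'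
        · exact (natDegree_C_mul_X_pow_le _ _).trans
            ((Nat.le_mul_of_pos_right _ hrpos).trans hs')
        · exact hG1.trans ((Nat.sub_le _ _).trans hs')
      · have e1 := band_add_low p π (a := m * p ^ (N + d)) (b := (m + 1) * p ^ (N + d))
          (F := expand B (p ^ d) F' + C δ * X ^ s₀) hGlow
        have e2 := band_add_monomial_le p π (a := m * p ^ (N + d)) (b := (m + 1) * p ^ (N + d))
          (expand B (p ^ d) F') hδ s₀
        have e3 : band p π (m * p ^ (N + d)) ((m + 1) * p ^ (N + d)) (expand B (p ^ d) F') =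
            band p π (m * p ^ N) ((m + 1) * p ^ N) F' := by
          rw [hqd, ← mul_assoc, ← mul_assoc]; exact band_expand p π F' hrpos
        omega
      · have e : (C δ * X ^ s₀ : B[X]) ^ (p ^ d) = C δ ^ (p ^ d) * X ^ (s₀ * p ^ d) := by
          rw [mul_pow, ← pow_mul]
        have e' : expand B (p ^ d) (C c * X ^ s₀) = C c * X ^ (s₀ * p ^ d) := by
          rw [map_mul, expand_C, map_pow, expand_X, ← pow_mul, mul_comm (p ^ d) s₀]
        have e'' : expand B (p ^ d) F - (expand B (p ^ d) F' + C δ * X ^ s₀ + G) =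
            (S ^ p - S) + (C π * (C c' * X ^ (s₀ * p ^ d)) - G) := by
          rw [hFeq, map_add, e', ← hS, e, hcc, C_add, C_pow, C_mul]
          ring
        rw [e'']
        exact (InR.of_inR₀ p π (InR₀.of_wp p π _ _ S)).add p π (InR.of_inR₀ p π hG3)
  · refine Or.inl (Or.inr ⟨s₀ * p, c, expand B p F', Nat.mul_pos hpos hp.out.pos,
      Dvd.intro_left _ rfl, hP, ?_, ?_⟩)
    · rw [natDegree_expand]; exact (Nat.mul_lt_mul_right hp.out.pos).2 hF'deg
    · have e : expand B p F - C c * X ^ (s₀ * p) - expand B p F' = 0 := by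
        rw [hFeq, map_add, map_mul, expand_C, map_pow, expand_X, ← pow_mul, mul_comm p s₀]
        ring
      rw [e]
      exact InR.zero p π _ _

include htri in
theorem main_aux (m : ℕ)
    (ih : ∀ (N : ℕ) (F : B[X]), F.natDegree ≤ m * p ^ N →
      ∃ j, IsGood A p π (N + j) m (expand B (p ^ j) F)) :
    ∀ (μ N : ℕ) (F : B[X]), F.natDegree ≤ (m + 1) * p ^ N →
      band p π (m * p ^ N) ((m + 1) * p ^ N) F ≤ μ →
      ∃ j, IsGood A p π (N + j) (m + 1) (expand B (p ^ j) F) := by
  have low : ∀ (N : ℕ) (F : B[X]), F.natDegree ≤ m * p ^ N →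
      ∃ j, IsGood A p π (N + j) (m + 1) (expand B (p ^ j) F) := by
    intro N F hle
    obtain ⟨j, hj⟩ := ih N F hle
    exact ⟨j, hj.mono p π (Nat.le_succ m)⟩
  intro μ
  induction μ with
  | zero =>
    intro N F hF hb
    apply low N F
    by_contra hlt
    push Not at hlt
    have h1 := band_sub_lead p π F hlt hF
    have h2 : 0 < wt p π F.leadingCoeff := by
      apply wt_pos
      apply leadingCoeff_ne_zero.2
      rintro rfl
      rw [natDegree_zero] at hlt
      omega
    omega
  | succ μ ihμ =>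
    intro N F hF hb
    by_cases hle : F.natDegree ≤ m * p ^ N
    · exact low N F hle
    · push Not at hle
      rcases step p π htri N m F hle hF with hg | ⟨d, F₁, h1, h2, h3⟩
      · exact ⟨1, by simpa using hg⟩
      · obtain ⟨j', hj'⟩ := ihμ (N + d) F₁ h1 (by omega)
        refine ⟨d + j', ?_⟩
        have e1 : expand B (p ^ (d + j')) F =
            expand B (p ^ j') F₁ + expand B (p ^ j') (expand B (p ^ d) F - F₁) := by
          rw [map_sub, ← expand_mul, ← pow_add, add_comm j' d]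
          ring
        rw [e1, ← Nat.add_assoc]
        exact hj'.add_inR p π (h3.expandPow p π j')

include htri in
theorem main : ∀ (m N : ℕ) (F : B[X]), F.natDegree ≤ m * p ^ N →
    ∃ j, IsGood A p π (N + j) m (expand B (p ^ j) F) := by
  intro m
  induction m with
  | zero =>
    intro N F hF
    rw [zero_mul] at hF
    refine ⟨0, Or.inl (InR.of_inR₀ p π ?_)⟩
    rw [pow_zero, expand_one, eq_C_of_natDegree_le_zero hF]
    exact InR₀.of_isInt p π _ _ (IsInt.const π _ _)
  | succ m ih =>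
    intro N F hF
    exact main_aux p π htri m ih _ N F hF le_rfl

end Main

section LemmaR

variable {R : Type*} [CommRing R] (p : ℕ) [hp : Fact p.Prime] [CharP R p] (ϖ : R)

theorem lemmaR (hloc : ∀ a : R, IsUnit a ∨ ∃ a', a = ϖ * a') (hperf : ∀ a : R, P p ϖ a)
    (N M : ℕ) : ∀ (t : ℕ) (g : R[X]), g.natDegree ≤ t → t ≤ M * p ^ N →
      ∃ g₂ : R[X], InR₀ p ϖ N M (g - g₂) ∧
        (g₂ = 0 ∨ (0 < g₂.natDegree ∧ ¬ p ∣ g₂.natDegree ∧ IsUnit g₂.leadingCoeff)) := by
  intro t
  induction t with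
  | zero =>
    intro g hg _
    refine ⟨0, ?_, Or.inl rfl⟩
    rw [sub_zero, eq_C_of_natDegree_le_zero hg]
    exact InR₀.of_isInt p ϖ _ _ (IsInt.const ϖ _ _)
  | succ t ih =>
    intro g hg ht
    by_cases hlt : g.natDegree ≤ t
    · exact ih g hlt (by omega)
    · have hs : g.natDegree = t + 1 := by omega
      obtain ⟨a, ha⟩ : ∃ a, a = g.leadingCoeff := ⟨_, rfl⟩
      obtain ⟨g', hg'⟩ : ∃ g', g' = g - C a * X ^ (t + 1) := ⟨_, rfl⟩
      have hg'deg : g'.natDegree ≤ t := by
        have := natDegree_sub_lead_lt g (by omega)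
        rw [hs, ← ha, ← hg'] at this
        omega
      have hgeq : g = g' + C a * X ^ (t + 1) := by rw [hg']; ring
      have key : ∀ (gn : R[X]), gn.natDegree ≤ t → InR₀ p ϖ N M (g - gn) →
          ∃ g₂ : R[X], InR₀ p ϖ N M (g - g₂) ∧
            (g₂ = 0 ∨ (0 < g₂.natDegree ∧ ¬ p ∣ g₂.natDegree ∧ IsUnit g₂.leadingCoeff)) := by
        intro gn hgn hin
        obtain ⟨g₂, h1, h2⟩ := ih gn hgn (by omega)
        refine ⟨g₂, ?_, h2⟩
        have := hin.add p ϖ h1
        convert this using 1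
        ring
      rcases hloc a with hu | ⟨a', ha'⟩
      · by_cases hdvd : p ∣ t + 1
        · obtain ⟨s', hs'⟩ := hdvd
          obtain ⟨r, a', hra⟩ := hperf a
          obtain ⟨G, -, hG2, hG3⟩ := reduce_pi p ϖ N M a' (t + 1) ht
          have hs'lt : s' ≤ t := by
            have h2 := hp.out.two_le
            have h3 : 2 * s' ≤ p * s' := Nat.mul_le_mul_right _ h2
            have h4 : s' ≠ 0 := by rintro rfl; omega
            omega
          have hG2' := hG2 (by omega)
          apply key (g' + C r * X ^ s' + G)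
          · refine (natDegree_add_le _ _).trans
              (max_le ((natDegree_add_le _ _).trans (max_le hg'deg ?_)) (by omega))
            exact (natDegree_C_mul_X_pow_le _ _).trans hs'lt
          · have hX : (X : R[X]) ^ (t + 1) = X ^ (s' * p) := by rw [hs', mul_comm]
            have e : g - (g' + C r * X ^ s' + G) =
                ((C r * X ^ s') ^ p - C r * X ^ s') + (C ϖ * (C a' * X ^ (t + 1)) - G) := by
              rw [hgeq, hra, C_add, C_mul, C_pow, mul_pow, ← pow_mul, hX]
              ring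
            rw [e]
            exact (InR₀.of_wp p ϖ N M _).add p ϖ hG3
        · refine ⟨g, ?_, Or.inr ⟨by omega, by rw [hs]; exact hdvd, by rw [← ha]; exact hu⟩⟩
          rw [sub_self]
          exact InR₀.zero p ϖ N M
      · obtain ⟨G, -, hG2, hG3⟩ := reduce_pi p ϖ N M a' (t + 1) ht
        have hG2' := hG2 (by omega)
        apply key (g' + G)
        · exact (natDegree_add_le _ _).trans (max_le hg'deg (by omega))
        · have e : g - (g' + G) = C ϖ * (C a' * X ^ (t + 1)) - G := by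
            rw [hgeq, ha', C_mul]
            ring
          rw [e]
          exact hG3

end LemmaR

section Formal

variable {A B : Type*} [CommRing A] [CommRing B] [Algebra A B] (p : ℕ) [hp : Fact p.Prime]
  [CharP A p] [CharP B p] (ϖ : A)
  (htri : ∀ c : B, P p (algebraMap A B ϖ) c →
    (∃ (a : A) (c' : B), c = algebraMap A B a + algebraMap A B ϖ * c') ∨
    (∃ (d : ℕ) (δ c' : B), 0 < d ∧ c = δ ^ (p ^ d) + algebraMap A B ϖ * c' ∧
      ¬ P p (algebraMap A B ϖ) δ))
  (hloc : ∀ a : A, IsUnit a ∨ ∃ a', a = ϖ * a') (hperf : ∀ a : A, P p ϖ a)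

include htri hloc hperf in
/-- the formal reduction of a pole `b π⁻ⁿ` -/
theorem formal (b : B) (n : ℕ) :
    ∃ (j m : ℕ) (g₂ : A[X]), n ≤ m ∧
      (g₂ = 0 ∨ (0 < g₂.natDegree ∧ ¬ p ∣ g₂.natDegree ∧ IsUnit g₂.leadingCoeff)) ∧
      (InR₀ p (algebraMap A B ϖ) j m
          (C b * X ^ (n * p ^ j) - g₂.map (algebraMap A B)) ∨
        ∃ (s : ℕ) (c : B) (F' : B[X]), 0 < s ∧ p ∣ s ∧ ¬ P p (algebraMap A B ϖ) c ∧
          F'.natDegree < s ∧
          InR₀ p (algebraMap A B ϖ) j m
            (C b * X ^ (n * p ^ j) - g₂.map (algebraMap A B) - C c * X ^ s - F')) := by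
  obtain ⟨j, hj⟩ := main (A := A) p (algebraMap A B ϖ) htri n 0 (C b * X ^ n)
    (by rw [pow_zero, mul_one]; exact natDegree_C_mul_X_pow_le _ _)
  rw [Nat.zero_add] at hj
  have hexp : expand B (p ^ j) (C b * X ^ n) = C b * X ^ (n * p ^ j) := by
    rw [map_mul, expand_C, map_pow, expand_X, ← pow_mul, mul_comm (p ^ j) n]
  rw [hexp] at hj
  have hpj : 0 < p ^ j := pow_pos hp.out.pos j
  have hred : ∀ g : A[X], ∃ g₂ : A[X],
      (g₂ = 0 ∨ (0 < g₂.natDegree ∧ ¬ p ∣ g₂.natDegree ∧ IsUnit g₂.leadingCoeff)) ∧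
      InR₀ p (algebraMap A B ϖ) j (n + g.natDegree)
        (g.map (algebraMap A B) - g₂.map (algebraMap A B)) := by
    intro g
    obtain ⟨g₂, h1, h2⟩ := lemmaR p ϖ hloc hperf j (n + g.natDegree) g.natDegree g le_rfl
      ((Nat.le_add_left _ _).trans (Nat.le_mul_of_pos_right _ hpj))
    refine ⟨g₂, h2, ?_⟩
    have := InR₀.mapAlg (B := B) p ϖ h1
    rwa [Polynomial.map_sub] at this
  rcases hj with ⟨g, hg⟩ | ⟨s, c, F', hs, hps, hc, hF', ⟨g, hg⟩⟩
  · obtain ⟨g₂, hsh, hg₂⟩ := hred g
    refine ⟨j, n + g.natDegree, g₂, Nat.le_add_right _ _, hsh, Or.inl ?_⟩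
    have := (hg.mono p _ (Nat.le_add_right n g.natDegree)).add p _ hg₂
    convert this using 1
    ring
  · obtain ⟨g₂, hsh, hg₂⟩ := hred g
    refine ⟨j, n + g.natDegree, g₂, Nat.le_add_right _ _, hsh,
      Or.inr ⟨s, c, F', hs, hps, hc, hF', ?_⟩⟩
    have := (hg.mono p _ (Nat.le_add_right n g.natDegree)).add p _ hg₂
    convert this using 1
    ring

end Formal

end Groth.Agent.Helper8.AsF
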