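import Mathlib
import Groth.Agent.Helper8.AsA

/-!
# AsC: evaluating the formal ring in a valued field
-/

set_option autoImplicit false
set_option linter.unusedSectionVars false

namespace Groth.Agent.Helper8.AsF

open Polynomial

section Ev

variable {B E : Type*} [CommRing B] [Field E]

/-- the data for evaluating `B[X]` at `ρ⁻¹`, where `ρ ^ q = π (1 + π ^ n' τ)` -/
structure EvData (V : ValuationSubring E) (φ : B →+* E) (π : B) (ρ τ : E) (q n' : ℕ) : Prop where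
  hφ : ∀ b, φ b ∈ V
  hq : 0 < q
  hn' : 0 < n'
  hτ : τ ∈ V
  hρ : ρ ^ q = φ π * (1 + φ π ^ n' * τ)
  hπ : V.valuation (φ π) < 1
  hπ0 : φ π ≠ 0

theorem one_add_pow_eq (V : ValuationSubring E) {κ : E} (hκ : κ ∈ V) (n : ℕ) :
    ∃ κ' ∈ V, (1 + κ) ^ n = 1 + κ * κ' := by
  induction n with
  | zero => exact ⟨0, zero_mem _, by simp⟩
  | succ n ih =>
    obtain ⟨κ', h1, h2⟩ := ih
    refine ⟨κ' + 1 + κ * κ', add_mem (add_mem h1 (one_mem _)) (mul_mem hκ h1), ?_⟩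
    rw [pow_succ, h2]
    ring

namespace EvData

variable {V : ValuationSubring E} {φ : B →+* E} {π : B} {ρ τ : E} {q n' : ℕ}
  (D : EvData V φ π ρ τ q n')

include D

theorem kappa_mem : φ π ^ n' * τ ∈ V := mul_mem (pow_mem (D.hφ π) _) D.hτ

theorem val_kappa_lt : V.valuation (φ π ^ n' * τ) < 1 := by
  rw [map_mul, map_pow]
  calc V.valuation (φ π) ^ n' * V.valuation τ
      ≤ V.valuation (φ π) ^ n' * 1 := mul_le_mul_right ((V.valuation_le_one_iff _).2 D.hτ) _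
    _ < 1 := by rw [mul_one]; exact pow_lt_one₀ zero_le D.hπ D.hn'.ne'

theorem val_eps : V.valuation (1 + φ π ^ n' * τ) = 1 :=
  V.valuation.map_one_add_of_lt D.val_kappa_lt

theorem eps_ne_zero : (1 + φ π ^ n' * τ) ≠ 0 := fun h => by
  have := D.val_eps
  rw [h, map_zero] at this
  exact zero_ne_one this

theorem rho_ne_zero : ρ ≠ 0 := by
  intro h
  have := D.hρ
  rw [h, zero_pow D.hq.ne'] at this
  exact mul_ne_zero D.hπ0 D.eps_ne_zero this.symm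

theorem val_rho_pow : V.valuation ρ ^ q = V.valuation (φ π) := by
  rw [← map_pow, D.hρ, map_mul, D.val_eps, mul_one]

theorem val_rho_lt : V.valuation ρ < 1 := by
  by_contra h
  push Not at h
  have h1 : 1 ≤ V.valuation ρ ^ q := one_le_pow₀ h
  rw [D.val_rho_pow] at h1
  exact absurd D.hπ (not_lt.2 h1)

theorem rho_mem : ρ ∈ V := (V.valuation_le_one_iff _).1 D.val_rho_lt.le

theorem exists_sigma : ∃ σ ∈ V, φ π = ρ ^ q * σ ∧ σ * (1 + φ π ^ n' * τ) = 1 := by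
  refine ⟨(1 + φ π ^ n' * τ)⁻¹, ?_, ?_, inv_mul_cancel₀ D.eps_ne_zero⟩
  · rw [← V.valuation_le_one_iff, map_inv₀, D.val_eps, inv_one]
  · rw [D.hρ, mul_assoc, mul_inv_cancel₀ D.eps_ne_zero, mul_one]

theorem eval_mul_pow_mem (G : B[X]) (d : ℕ) (hd : G.natDegree ≤ d) :
    eval₂ φ ρ⁻¹ G * ρ ^ d ∈ V := by
  have hρ0 := D.rho_ne_zero
  rw [eval₂_eq_sum_range' φ (Nat.lt_succ_of_le hd), Finset.sum_mul]
  apply sum_mem
  intro i hi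
  rw [Finset.mem_range, Nat.lt_succ_iff] at hi
  have h1 : ρ ^ d = ρ ^ (d - i) * ρ ^ i := by rw [← pow_add, Nat.sub_add_cancel hi]
  have h2 : φ (G.coeff i) * ρ⁻¹ ^ i * ρ ^ d = φ (G.coeff i) * ρ ^ (d - i) := by
    rw [h1, inv_pow]
    have : ρ ^ i ≠ 0 := pow_ne_zero i hρ0
    field_simp
  rw [h2]
  exact mul_mem (D.hφ _) (pow_mem D.rho_mem _)

theorem eval_isInt_mem {h : B[X]} (hh : IsInt π q h) : eval₂ φ ρ⁻¹ h ∈ V := by
  obtain ⟨h₀, h₂, hdeg, rfl⟩ := hh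
  obtain ⟨σ, hσ, h1, -⟩ := D.exists_sigma
  rw [eval₂_add, eval₂_mul, eval₂_C, eval₂_C]
  refine add_mem (D.hφ _) ?_
  have e : φ π * eval₂ φ ρ⁻¹ h₂ = σ * (eval₂ φ ρ⁻¹ h₂ * ρ ^ q) := by
    rw [h1]; ring
  rw [e]
  exact mul_mem hσ (D.eval_mul_pow_mem h₂ q hdeg)

theorem eval_mul_mem {e : B[X]} {m : ℕ} (he : e.natDegree ≤ m * q) (hm : m ≤ n') :
    eval₂ φ ρ⁻¹ ((C π * X ^ q - 1) * e) ∈ V := by
  obtain ⟨σ, hσ, h1, h2⟩ := D.exists_sigma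
  have hρ0 := D.rho_ne_zero
  obtain ⟨k, hk⟩ := Nat.exists_eq_add_of_le hm
  rw [eval₂_mul, eval₂_sub, eval₂_mul, eval₂_C, eval₂_pow, eval₂_X, eval₂_one]
  have e0 : φ π * ρ⁻¹ ^ q = σ := by
    rw [h1, inv_pow]
    have : ρ ^ q ≠ 0 := pow_ne_zero q hρ0
    field_simp
  have e1 : φ π * ρ⁻¹ ^ q - 1 = -(σ * τ * φ π ^ n') := by
    rw [e0]; linear_combination h2
  have e2 : φ π ^ n' = σ ^ n' * (ρ ^ (q * k) * ρ ^ (m * q)) := by
    rw [h1, mul_pow, ← pow_mul, ← pow_add, hk]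
    have : q * (m + k) = q * k + m * q := by ring
    rw [this]; ring
  have e3 : (φ π * ρ⁻¹ ^ q - 1) * eval₂ φ ρ⁻¹ e =
      -(σ * τ * σ ^ n' * ρ ^ (q * k)) * (eval₂ φ ρ⁻¹ e * ρ ^ (m * q)) := by
    rw [e1, e2]; ring
  rw [e3]
  exact mul_mem (neg_mem (mul_mem (mul_mem (mul_mem hσ D.hτ) (pow_mem hσ _))
    (pow_mem D.rho_mem _))) (D.eval_mul_pow_mem e (m * q) he)

theorem val_eval_mul_pow_lt {F' : B[X]} {s : ℕ} (hF' : F'.natDegree < s) :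
    V.valuation (eval₂ φ ρ⁻¹ F' * ρ ^ s) < 1 := by
  obtain ⟨k, rfl⟩ : ∃ k, s = k + 1 := ⟨s - 1, by omega⟩
  have h1 := D.eval_mul_pow_mem F' k (by omega)
  rw [pow_succ, ← mul_assoc, map_mul]
  calc V.valuation (eval₂ φ ρ⁻¹ F' * ρ ^ k) * V.valuation ρ
      ≤ 1 * V.valuation ρ := mul_le_mul_left ((V.valuation_le_one_iff _).2 h1) _
    _ < 1 := by rw [one_mul]; exact D.val_rho_lt

theorem sub_eval_mem {ξ : E} {b : B} {n : ℕ} (hξ : ξ * φ π ^ n = φ b) (hn : n ≤ n') :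
    ξ - eval₂ φ ρ⁻¹ (C b * X ^ (n * q)) ∈ V := by
  obtain ⟨σ, hσ, h1, h2⟩ := D.exists_sigma
  have hρ0 := D.rho_ne_zero
  obtain ⟨k, hk⟩ := Nat.exists_eq_add_of_le hn
  rw [eval₂_mul, eval₂_C, eval₂_pow, eval₂_X]
  obtain ⟨κ', hκ', hκ⟩ := one_add_pow_eq V D.kappa_mem n
  have h3 : ρ ^ (n * q) = φ π ^ n * (1 + φ π ^ n' * τ) ^ n := by
    rw [mul_comm n q, pow_mul, D.hρ, mul_pow]
  have h4 : ρ ^ (n * q) ≠ 0 := pow_ne_zero _ hρ0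
  have e1 : ξ = φ b * ρ⁻¹ ^ (n * q) * (1 + φ π ^ n' * τ) ^ n := by
    rw [← hξ, inv_pow]
    field_simp
    rw [h3]
    ring
  have e2 : φ π ^ n' = σ ^ n' * (ρ ^ (n * q) * ρ ^ (q * k)) := by
    rw [h1, mul_pow, ← pow_mul, ← pow_add, hk]
    have : q * (n + k) = n * q + q * k := by ring
    rw [this]
    ring
  have e3 : ξ - φ b * ρ⁻¹ ^ (n * q) =
      φ b * κ' * τ * σ ^ n' * ρ ^ (q * k) * (ρ⁻¹ ^ (n * q) * ρ ^ (n * q)) := by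
    conv_lhs => rw [e1, hκ]
    have : φ b * ρ⁻¹ ^ (n * q) * (1 + φ π ^ n' * τ * κ') - φ b * ρ⁻¹ ^ (n * q) =
        φ b * ρ⁻¹ ^ (n * q) * κ' * τ * φ π ^ n' := by ring
    rw [this, e2]; ring
  rw [e3, inv_pow, inv_mul_cancel₀ h4, mul_one]
  exact mul_mem (mul_mem (mul_mem (mul_mem (D.hφ _) hκ') D.hτ) (pow_mem hσ _))
    (pow_mem D.rho_mem _)

theorem eval_inR₀ (p : ℕ) {N m : ℕ} (hq : q = p ^ N) {R : B[X]} (hR : InR₀ p π N m R)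
    (hm : m ≤ n') : ∃ Y w : E, w ∈ V ∧ eval₂ φ ρ⁻¹ R = Y ^ p - Y + w := by
  subst hq
  obtain ⟨f, h, e, hh, he, rfl⟩ := hR
  refine ⟨eval₂ φ ρ⁻¹ f, eval₂ φ ρ⁻¹ h + eval₂ φ ρ⁻¹ ((C π * X ^ (p ^ N) - 1) * e),
    add_mem (D.eval_isInt_mem hh) (D.eval_mul_mem he hm), ?_⟩
  rw [eval₂_add, eval₂_add, eval₂_sub, eval₂_pow]
  ring

end EvData

end Ev

end Groth.Agent.Helper8.AsF
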