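import Mathlib
import Groth.Prelude.Def_EtRam
import Groth.Agent.Helper8.AsC
import Groth.Agent.Helper7.TRqC
import Groth.Agent.Helper7.ASchH

/-!
# AsD: the totally ramified extension `K₁` killing the `K`-part of the Artin–Schreier class
-/

set_option autoImplicit false
set_option linter.unusedSectionVars false

universe u

namespace Groth.Agent.Helper8.AsF

open Polynomial IsLocalRing Groth.Agent.Helper7

section General

variable {B E : Type u} [CommRing B] [IsLocalRing B] [Field E]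

theorem evData_of_dominates (φ : B →+* E) (V : ValuationSubring E)
    (hV : EtRam.Dominates B φ V) (π : B) (hπm : π ∈ maximalIdeal B) (hπ0 : φ π ≠ 0)
    (ρ τ : E) (q n' : ℕ) (hq : 0 < q) (hn' : 0 < n') (hτ : τ ∈ V)
    (hρ : ρ ^ q = φ π + φ π ^ (n' + 1) * τ) : EvData V φ π ρ τ q n' where
  hφ := hV.1
  hq := hq
  hn' := hn'
  hτ := hτ
  hρ := by rw [hρ]; ring
  hπ := hV.2 π hπm
  hπ0 := hπ0

omit [IsLocalRing B] in
theorem val_unit (φ : B →+* E) (V : ValuationSubring E) (hφ : ∀ b, φ b ∈ V) {a : B}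
    (ha : IsUnit a) : V.valuation (φ a) = 1 := by
  obtain ⟨u, rfl⟩ := ha
  have h1 : V.valuation (φ u) ≤ 1 := (V.valuation_le_one_iff _).2 (hφ _)
  have h2 : V.valuation (φ ↑u⁻¹) ≤ 1 := (V.valuation_le_one_iff _).2 (hφ _)
  have h3 : V.valuation (φ u) * V.valuation (φ ↑u⁻¹) = 1 := by
    rw [← map_mul, ← map_mul, Units.mul_inv, map_one, map_one]
  refine le_antisymm h1 ?_
  calc (1 : _) = V.valuation (φ u) * V.valuation (φ ↑u⁻¹) := h3.symm
    _ ≤ V.valuation (φ u) * 1 := mul_le_mul_right h2 _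
    _ = V.valuation (φ u) := mul_one _

omit [IsLocalRing B] in
/-- the valuation of a polynomial in `ρ⁻¹` with unit leading coefficient -/
theorem val_gamma {V : ValuationSubring E} {φ : B →+* E} {π : B} {ρ τ : E} {q n' : ℕ}
    (D : EvData V φ π ρ τ q n') (g₂ : B[X]) (ht : 0 < g₂.natDegree)
    (hu : IsUnit g₂.leadingCoeff) :
    V.valuation (eval₂ φ ρ⁻¹ g₂) * V.valuation ρ ^ g₂.natDegree = 1 := by
  have hρ0 := D.rho_ne_zero
  have h1 := D.val_eval_mul_pow_lt (natDegree_sub_lead_lt g₂ ht)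
  have h2 : eval₂ φ ρ⁻¹ g₂ * ρ ^ g₂.natDegree =
      φ g₂.leadingCoeff +
        eval₂ φ ρ⁻¹ (g₂ - C g₂.leadingCoeff * X ^ g₂.natDegree) * ρ ^ g₂.natDegree := by
    rw [eval₂_sub, eval₂_mul, eval₂_C, eval₂_pow, eval₂_X, inv_pow]
    have : ρ ^ g₂.natDegree ≠ 0 := pow_ne_zero _ hρ0
    field_simp
    ring
  rw [← map_pow, ← map_mul, h2, Valuation.map_add_eq_of_lt_left, val_unit φ V D.hφ hu]
  rw [val_unit φ V D.hφ hu]
  exact h1

/-- the valuation computation for an Artin–Schreier root with a pole of order prime to `p` -/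
theorem as_val (p : ℕ) [hp : Fact p.Prime] (V : ValuationSubring E) (y γ ρ : E)
    (hy : y ^ p - y = γ) (hρ : V.valuation ρ < 1) (t : ℕ) (ht : 0 < t)
    (hprod : V.valuation γ * V.valuation ρ ^ t = 1) (α β : ℕ) (hαβ : p * β = t * α + 1) :
    V.valuation (y ^ α * ρ ^ β) ^ p = V.valuation ρ := by
  obtain ⟨q, hq⟩ : ∃ q, p = q + 1 := ⟨p - 1, by have := hp.out.one_le; omega⟩
  have hq1 : q ≠ 0 := by have := hp.out.two_le; omega
  have hδn : V.valuation ρ ^ t < 1 := pow_lt_one₀ zero_le hρ ht.ne'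
  have hzgt : 1 < V.valuation y := by
    by_contra hcon
    push Not at hcon
    have h1 : V.valuation (y ^ p - y) ≤ 1 :=
      Valuation.map_sub_le _ (by rw [map_pow]; exact pow_le_one₀ zero_le hcon) hcon
    rw [hy] at h1
    have h2 : V.valuation γ * V.valuation ρ ^ t < 1 := by
      calc _ ≤ 1 * V.valuation ρ ^ t := mul_le_mul_left h1 _
        _ = V.valuation ρ ^ t := one_mul _
        _ < 1 := hδn
    rw [hprod] at h2
    exact lt_irrefl _ h2
  have hzpos : 0 < V.valuation y := lt_trans zero_lt_one hzgt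
  have hzp : V.valuation y < V.valuation (y ^ p) := by
    rw [map_pow, hq, pow_succ]
    calc V.valuation y = 1 * V.valuation y := (one_mul _).symm
      _ < V.valuation y ^ q * V.valuation y :=
        mul_lt_mul_of_pos_right (one_lt_pow₀ hzgt hq1) hzpos
  have hval : V.valuation y ^ p = V.valuation γ := by
    rw [← hy, Valuation.map_sub_eq_of_lt_left _ hzp, map_pow]
  rw [map_mul, map_pow, map_pow, mul_pow, ← pow_mul, ← pow_mul, mul_comm α p, pow_mul, hval,
    mul_comm β p, hαβ, pow_succ, pow_mul, ← mul_assoc, ← mul_pow, hprod, one_pow, one_mul]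

end General

section Construct

variable (p : ℕ) [hp : Fact p.Prime] {A K K' : Type u} [CommRing A] [IsDomain A]
  [IsDiscreteValuationRing A] [Field K] [Algebra A K] [IsFractionRing A K] [Field K']
  [Algebra K K'] [Algebra A K'] [IsScalarTower A K K'] [CharP K p]
  [FiniteDimensional K K'] [Algebra.IsSeparable K K']
  (π : A) (hπ : maximalIdeal A = Ideal.span {π}) (q n' : ℕ) (hq : 0 < q) (hn' : 0 < n')
  (hfin : Module.finrank K K' = q)
  (ρ' β' : K') (hρi : IsIntegral A ρ') (hβi : IsIntegral A β')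
  (hρ' : ρ' ^ q = algebraMap A K' π + algebraMap A K' π ^ (n' + 1) * β')
  (g₂ : A[X])
  (hg₂ : g₂ = 0 ∨ (0 < g₂.natDegree ∧ ¬ p ∣ g₂.natDegree ∧ IsUnit g₂.leadingCoeff))

include hπ hq hn' hfin hρi hβi hρ' hg₂ in
theorem exists_K₁ :
    ∃ (K₁ : Type u) (_ : Field K₁) (_ : Algebra K K₁) (_ : Algebra A K₁)
      (_ : IsScalarTower A K K₁) (e₁ : ℕ) (ρ β y ϖ₁ : K₁),
      FiniteDimensional K K₁ ∧ Algebra.IsSeparable K K₁ ∧ 0 < e₁ ∧
      Module.finrank K K₁ ≤ q * e₁ ∧ IsIntegral A ρ ∧ IsIntegral A β ∧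
      ρ ^ q = algebraMap A K₁ π + algebraMap A K₁ π ^ (n' + 1) * β ∧
      y ^ p - y = eval₂ (algebraMap A K₁) ρ⁻¹ g₂ ∧
      (∀ V : ValuationSubring K₁, EtRam.Dominates A (algebraMap A K₁) V →
        V.valuation ϖ₁ ^ e₁ = V.valuation ρ) := by
  classical
  rcases hg₂ with rfl | ⟨ht0, htp, hu⟩
  · refine ⟨K', inferInstance, inferInstance, inferInstance, inferInstance, 1, ρ', β', 0, ρ',
      inferInstance, inferInstance, Nat.one_pos, by rw [mul_one]; exact hfin.le, hρi, hβi, hρ',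
      ?_, ?_⟩
    · rw [eval₂_zero, zero_pow hp.out.ne_zero, sub_zero]
    · intro V _
      rw [pow_one]
  · have hp2 : 2 ≤ p := hp.out.two_le
    haveI hchar : CharP K' p := charP_of_injective_algebraMap (algebraMap K K').injective p
    obtain ⟨γ₂, hγ₂⟩ : ∃ γ₂ : K', γ₂ = eval₂ (algebraMap A K') ρ'⁻¹ g₂ := ⟨_, rfl⟩
    let K₁ := TRq.LL (1 : K') γ₂ p
    haveI : FiniteDimensional K' K₁ := TRq.finiteDimensional_LL _ _ _
    haveI : Algebra.IsSeparable K' K₁ := by
      apply TRq.isSeparable_LL _ _ _ hp2 _ one_ne_zero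
      intro r hr hrK
      have : r = p := CharP.eq K' hrK hchar
      rw [this]
    haveI : FiniteDimensional K K₁ := Module.Finite.trans K' K₁
    haveI : Algebra.IsSeparable K K₁ := Algebra.IsSeparable.trans K K' K₁
    have hfin₁ : Module.finrank K K₁ ≤ q * p := by
      rw [← Module.finrank_mul_finrank K K' K₁, hfin]
      exact Nat.mul_le_mul_left q (TRq.finrank_LL_le _ _ _ hp2)
    set y : K₁ := AdjoinRoot.root (factor (TRq.FK (1 : K') γ₂ p)) with hy
    have hyp : y ^ p = algebraMap K' K₁ γ₂ + y := by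
      have := TRq.aeval_FK (1 : K') γ₂ p y (TRq.aeval_root_LL _ _ _ hp2)
      rw [this, map_one, one_mul]
    set ρ : K₁ := algebraMap K' K₁ ρ' with hρdef
    set β : K₁ := algebraMap K' K₁ β' with hβdef
    have hρ : ρ ^ q = algebraMap A K₁ π + algebraMap A K₁ π ^ (n' + 1) * β := by
      rw [hρdef, ← map_pow, hρ', map_add, map_mul, map_pow,
        ← IsScalarTower.algebraMap_apply A K' K₁]
    have hγ : algebraMap K' K₁ γ₂ = eval₂ (algebraMap A K₁) ρ⁻¹ g₂ := by
      have h0 : algebraMap K' K₁ γ₂ = algebraMap K' K₁ (eval₂ (algebraMap A K') ρ'⁻¹ g₂) :=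
        congrArg _ hγ₂
      rw [h0, hom_eval₂, map_inv₀, ← IsScalarTower.algebraMap_eq A K' K₁]
    obtain ⟨α, b, hαβ⟩ := ASch.exists_bezout p g₂.natDegree htp
    refine ⟨K₁, inferInstance, inferInstance, inferInstance, inferInstance, p, ρ, β, y,
      y ^ α * ρ ^ b, inferInstance, inferInstance, hp.out.pos, hfin₁, hρi.algebraMap,
      hβi.algebraMap, hρ, ?_, ?_⟩
    · rw [hyp, ← hγ]; ring
    · intro V hV
      have hinj : Function.Injective (algebraMap A K₁) := by
        rw [IsScalarTower.algebraMap_eq A K K₁]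
        exact (algebraMap K K₁).injective.comp (IsFractionRing.injective A K)
      have hπm : π ∈ maximalIdeal A := by rw [hπ]; exact Ideal.mem_span_singleton_self π
      have hπne : π ≠ 0 := by
        intro h0
        have hA : maximalIdeal A ≠ ⊥ := IsDiscreteValuationRing.not_a_field A
        apply hA
        rw [hπ, h0, Ideal.span_singleton_eq_bot]
      have hπ0 : algebraMap A K₁ π ≠ 0 := (map_ne_zero_iff _ hinj).2 hπne
      have hβV : β ∈ V := TotRam.mem_of_isIntegral (A := A) V hV.1 β hβi.algebraMap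
      have D := evData_of_dominates (algebraMap A K₁) V hV π hπm hπ0 ρ β q n' hq hn' hβV hρ
      have hprod := val_gamma D g₂ ht0 hu
      exact as_val p V y (eval₂ (algebraMap A K₁) ρ⁻¹ g₂) ρ (by rw [hyp, ← hγ]; ring)
        D.val_rho_lt g₂.natDegree ht0 hprod α b hαβ

end Construct

end Groth.Agent.Helper8.AsF
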