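import Mathlib
import Groth.Prelude.Def_EtRam
import Groth.Agent.Helper7.DomValA
import Groth.Agent.Helper7.DomValC
import Groth.Agent.Helper3.DvrEF

/-!
# AsE: a uniformizer criterion (`e f ≤ n`) in valuation-theoretic form
-/

set_option autoImplicit false
set_option linter.unusedSectionVars false

universe u

namespace Groth.Agent.Helper8.AsF

open IsLocalRing Groth.Agent.Helper7

theorem associated_of_val_eq {E : Type u} [Field E] (V : ValuationSubring E) (x y : V)
    (h : V.valuation (x : E) = V.valuation (y : E)) : Associated x y := by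
  by_cases hx : (x : E) = 0
  · have hy : (y : E) = 0 := by
      rw [hx, map_zero] at h
      exact (map_eq_zero _).1 h.symm
    have hx' : x = 0 := Subtype.ext hx
    have hy' : y = 0 := Subtype.ext hy
    rw [hx', hy']
  · have hvx : V.valuation (x : E) ≠ 0 := (_root_.map_ne_zero _).2 hx
    have hu : V.valuation ((y : E) / (x : E)) = 1 := by
      rw [map_div₀, ← h, div_self hvx]
    have hmem : (y : E) / (x : E) ∈ V := (V.valuation_le_one_iff _).1 hu.le
    have hunit : IsUnit (⟨(y : E) / (x : E), hmem⟩ : V) := (V.valuation_eq_one_iff _).2 hu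
    obtain ⟨u, hu'⟩ := hunit
    refine ⟨u, ?_⟩
    apply Subtype.ext
    rw [hu']
    show (x : E) * ((y : E) / (x : E)) = (y : E)
    field_simp

section EF

variable {B L E : Type u} [CommRing B] [IsDomain B] [IsDiscreteValuationRing B] [Field L]
  [Algebra B L] [IsFractionRing B L] [Field E] [Algebra L E] [Algebra B E] [IsScalarTower B L E]
  [FiniteDimensional L E] [Algebra.IsSeparable L E]

theorem ef_core (V : ValuationSubring E) (hV : EtRam.Dominates B (algebraMap B E) V)
    (b₀ : B) (hb₀ : Irreducible b₀) (Q : ℕ) (hQ : 0 < Q) (hle : Module.finrank L E ≤ Q)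
    (ϖ : E) (hϖ : V.valuation ϖ ^ Q = V.valuation (algebraMap B E b₀)) :
    (∀ x : E, V.valuation x < 1 → V.valuation x ≤ V.valuation ϖ) ∧
      (∀ x ∈ V, ∃ r₀ : B, V.valuation (x - algebraMap B E r₀) < 1) := by
  classical
  haveI : IsDiscreteValuationRing V := DomVal.isDVR_of_dominates (K := L) V hV
  letI algBV : Algebra B V := (RingHom.codRestrict (algebraMap B E) V hV.1).toAlgebra
  haveI : IsScalarTower B V E := IsScalarTower.of_algebraMap_eq' rfl
  haveI : IsLocalHom (algebraMap B V) := DomVal.isLocalHom_codRestrict (algebraMap B E) V hV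
  have hBE : Function.Injective (algebraMap B E) := by
    rw [IsScalarTower.algebraMap_eq B L E]
    exact (algebraMap L E).injective.comp (IsFractionRing.injective B L)
  have hinj : Function.Injective (algebraMap B V) := by
    intro x y hxy
    exact hBE (congrArg Subtype.val hxy)
  obtain ⟨hfin, hef⟩ := Groth.Agent.Helper3.DvrEF.main B V L E hinj
  haveI := hfin
  obtain ⟨he0, hmap⟩ := Groth.Agent.Helper3.DvrEF.map_eq_pow B V hinj
  set e' := Ideal.ramificationIdx' (maximalIdeal B) (maximalIdeal V) with he'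
  have hb₀m : b₀ ∈ maximalIdeal B := by
    rw [hb₀.maximalIdeal_eq]; exact Ideal.mem_span_singleton_self b₀
  have hvb : V.valuation (algebraMap B E b₀) < 1 := hV.2 b₀ hb₀m
  have hb₀E : algebraMap B E b₀ ≠ 0 := (map_ne_zero_iff _ hBE).2 hb₀.ne_zero
  have hvϖ : V.valuation ϖ < 1 := by
    by_contra h
    push Not at h
    have h1 : 1 ≤ V.valuation ϖ ^ Q := one_le_pow₀ h
    rw [hϖ] at h1
    exact absurd hvb (not_lt.2 h1)
  have hϖ0 : ϖ ≠ 0 := by
    rintro rfl
    rw [map_zero, zero_pow hQ.ne'] at hϖ
    exact hb₀E ((map_eq_zero _).1 hϖ.symm)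
  have hϖV : ϖ ∈ V := (V.valuation_le_one_iff _).1 hvϖ.le
  set ϖV : V := ⟨ϖ, hϖV⟩ with hϖVdef
  have hϖV0 : ϖV ≠ 0 := fun h => hϖ0 (congrArg Subtype.val h)
  obtain ⟨ϖW, hϖW⟩ := IsDiscreteValuationRing.exists_irreducible V
  obtain ⟨a, ha⟩ := IsDiscreteValuationRing.associated_pow_irreducible hϖV0 hϖW
  have hassoc : Associated (algebraMap B V b₀) (ϖW ^ (a * Q)) := by
    have h1 : Associated (algebraMap B V b₀) (ϖV ^ Q) := by
      apply associated_of_val_eq
      show V.valuation (algebraMap B E b₀) = V.valuation ((ϖV ^ Q : V) : E)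
      rw [← hϖ]
      show V.valuation ϖ ^ Q = V.valuation (ϖ ^ Q)
      rw [map_pow]
    refine h1.trans ?_
    rw [pow_mul]
    exact ha.pow_pow
  have he'eq : e' = a * Q := by
    have h1 : (maximalIdeal B).map (algebraMap B V) = Ideal.span {algebraMap B V b₀} := by
      rw [hb₀.maximalIdeal_eq, Ideal.map_span, Set.image_singleton]
    have h2 : Ideal.span {algebraMap B V b₀} = Ideal.span {ϖW ^ (a * Q)} :=
      Ideal.span_singleton_eq_span_singleton.2 hassoc
    have h3 : Ideal.span {ϖW ^ e'} = Ideal.span {ϖW ^ (a * Q)} := by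
      rw [← h2, ← h1, hmap, hϖW.maximalIdeal_eq, Ideal.span_singleton_pow]
    obtain ⟨v, hv⟩ := Ideal.span_singleton_eq_span_singleton.1 h3
    refine IsDiscreteValuationRing.unit_mul_pow_congr_pow hϖW hϖW v 1 e' (a * Q) ?_
    rw [Units.val_one, one_mul, ← hv, mul_comm]
  have ha0 : a ≠ 0 := by
    rintro rfl
    rw [pow_zero] at ha
    have hu : IsUnit ϖV := ha.symm.isUnit isUnit_one
    have := (V.valuation_eq_one_iff _).1 hu
    exact absurd this (ne_of_lt hvϖ)
  have hfpos : 0 < Module.finrank (ResidueField B) (ResidueField V) := Module.finrank_pos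
  have hchain : a * Q * Module.finrank (ResidueField B) (ResidueField V) ≤ Q := by
    calc a * Q * Module.finrank (ResidueField B) (ResidueField V)
        = e' * Module.finrank (ResidueField B) (ResidueField V) := by rw [he'eq]
      _ ≤ Module.finrank L E := hef
      _ ≤ Q := hle
  have ha1 : a = 1 := by
    by_contra hne
    have h2 : 2 ≤ a := by omega
    have h3 : 2 * Q ≤ a * Q * Module.finrank (ResidueField B) (ResidueField V) := by
      calc 2 * Q ≤ a * Q := Nat.mul_le_mul_right _ h2
        _ = a * Q * 1 := (mul_one _).symm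
        _ ≤ _ := Nat.mul_le_mul_left _ hfpos
    omega
  have hf1 : Module.finrank (ResidueField B) (ResidueField V) = 1 := by
    rw [ha1, one_mul] at hchain
    have h3 : Q * Module.finrank (ResidueField B) (ResidueField V) ≤ Q * 1 := by
      rw [mul_one]; exact hchain
    have := Nat.le_of_mul_le_mul_left h3 hQ
    omega
  have hirr : Irreducible ϖV := by
    rw [ha1, pow_one] at ha
    exact ha.symm.irreducible hϖW
  refine ⟨?_, ?_⟩
  · intro x hx
    have hxV : x ∈ V := (V.valuation_le_one_iff _).1 hx.le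
    have hxm : (⟨x, hxV⟩ : V) ∈ maximalIdeal V := (V.valuation_lt_one_iff _).2 hx
    rw [hirr.maximalIdeal_eq, Ideal.mem_span_singleton] at hxm
    obtain ⟨w, hw⟩ := hxm
    have hw' : x = ϖ * (w : E) := congrArg Subtype.val hw
    rw [hw', map_mul]
    calc V.valuation ϖ * V.valuation (w : E)
        ≤ V.valuation ϖ * 1 := mul_le_mul_right ((V.valuation_le_one_iff _).2 w.2) _
      _ = V.valuation ϖ := mul_one _
  · intro x hxV
    have htop : (⊥ : Subalgebra (ResidueField B) (ResidueField V)) = ⊤ :=
      Subalgebra.bot_eq_top_of_finrank_eq_one hf1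
    have hmem : residue V ⟨x, hxV⟩ ∈ (⊥ : Subalgebra (ResidueField B) (ResidueField V)) := by
      rw [htop]; exact Algebra.mem_top
    obtain ⟨r, hr⟩ := Algebra.mem_bot.1 hmem
    obtain ⟨r₀, rfl⟩ := residue_surjective r
    refine ⟨r₀, ?_⟩
    have h1 : residue V (⟨x, hxV⟩ - algebraMap B V r₀) = 0 := by
      rw [map_sub, ← hr]
      exact sub_self _
    have h2 : (⟨x, hxV⟩ - algebraMap B V r₀ : V) ∈ maximalIdeal V :=
      (residue_eq_zero_iff _).1 h1
    exact (V.valuation_lt_one_iff _).1 h2

end EF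

end Groth.Agent.Helper8.AsF
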