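import Mathlib
import Groth.Prelude.Def_EtRam
import Groth.Agent.Helper8.AsD
import Groth.Agent.Helper8.AsE
import Groth.Agent.Helper7.ASchG
import Groth.Agent.Helper7.TotRamD

/-!
# AsG: the local verification for the Artin–Schreier step
-/

set_option autoImplicit false
set_option linter.unusedSectionVars false

universe u

namespace Groth.Agent.Helper8.AsF

open Polynomial IsLocalRing Groth.Agent.Helper7

section Aux

theorem val_pow_eq_of_comap {K₁ E : Type u} [Field K₁] [Field E] (f : K₁ →+* E)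
    (V : ValuationSubring E) (x y : K₁) (e : ℕ) (hy : y ≠ 0)
    (h : (V.comap f).valuation x ^ e = (V.comap f).valuation y) :
    V.valuation (f x) ^ e = V.valuation (f y) := by
  have hvy : (V.comap f).valuation y ≠ 0 := (_root_.map_ne_zero _).2 hy
  have h1 : (V.comap f).valuation (x ^ e / y) = 1 := by
    rw [map_div₀, map_pow, h, div_self hvy]
  have h2 : (V.comap f).valuation (y / x ^ e) = 1 := by
    rw [map_div₀, map_pow, h, div_self hvy]
  have m1 : f (x ^ e / y) ∈ V :=
    ValuationSubring.mem_comap.1 (((V.comap f).valuation_le_one_iff _).1 h1.le)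
  have m2 : f (y / x ^ e) ∈ V :=
    ValuationSubring.mem_comap.1 (((V.comap f).valuation_le_one_iff _).1 h2.le)
  have hfy : f y ≠ 0 := (_root_.map_ne_zero f).2 hy
  have hx0 : x ^ e ≠ 0 := by
    intro h0
    rw [h0, zero_div, map_zero] at h1
    exact zero_ne_one h1
  have hfx : f x ^ e ≠ 0 := by rw [← map_pow]; exact (_root_.map_ne_zero f).2 hx0
  have l1 : V.valuation (f x ^ e) ≤ V.valuation (f y) := by
    have := (V.valuation_le_one_iff _).2 m1
    rw [map_div₀, map_pow, map_div₀] at this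
    exact (div_le_one₀ (lt_of_le_of_ne zero_le ((_root_.map_ne_zero _).2 hfy).symm)).1 this
  have l2 : V.valuation (f y) ≤ V.valuation (f x ^ e) := by
    have := (V.valuation_le_one_iff _).2 m2
    rw [map_div₀, map_pow, map_div₀] at this
    exact (div_le_one₀ (lt_of_le_of_ne zero_le ((_root_.map_ne_zero _).2 hfx).symm)).1 this
  rw [← map_pow]
  exact le_antisymm l1 l2

theorem adjoin_sub_eq_top {E F : Type u} [Field E] [Field F] [Algebra E F] (z : F) (T : E)
    (h : IntermediateField.adjoin E {z} = ⊤) :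
    IntermediateField.adjoin E {z - algebraMap E F T} = ⊤ := by
  rw [eq_top_iff, ← h, IntermediateField.adjoin_simple_le_iff]
  have h1 : z - algebraMap E F T ∈ IntermediateField.adjoin E {z - algebraMap E F T} :=
    IntermediateField.mem_adjoin_simple_self E _
  have h2 : algebraMap E F T ∈ IntermediateField.adjoin E {z - algebraMap E F T} :=
    IntermediateField.algebraMap_mem _ T
  have h3 := add_mem h1 h2
  rwa [sub_add_cancel] at h3

theorem as_shift {E F : Type u} [Field E] [Field F] [Algebra E F] (p : ℕ) [Fact p.Prime]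
    [CharP E p] [CharP F p] (z : F) (ξE T ξ' : E) (hz : z ^ p - z = algebraMap E F ξE)
    (hξ : ξE = (T ^ p - T) + ξ') :
    (z - algebraMap E F T) ^ p - (z - algebraMap E F T) = algebraMap E F ξ' := by
  rw [sub_pow_char]
  have : algebraMap E F ξ' = algebraMap E F ξE - (algebraMap E F T ^ p - algebraMap E F T) := by
    rw [hξ, map_add, map_sub, map_pow]; ring
  rw [this, ← hz]
  ring

theorem not_pth_power {B E : Type u} [CommRing B] [Field E] (p : ℕ) [hp : Fact p.Prime]
    [CharP E p] (V : ValuationSubring E) (φ : B →+* E) (πB : B)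
    (hmB : ∀ x : B, V.valuation (φ x) < 1 → ∃ c', x = πB * c')
    (hres : ∀ x ∈ V, ∃ r₀ : B, V.valuation (x - φ r₀) < 1)
    (c : B) (hc : ¬ P p πB c) (ε μ : E) (hε : V.valuation ε = 1) (hμ : V.valuation μ < 1)
    (s' : ℕ) (r : E) (hr : r ∈ V) :
    ¬ V.valuation ((φ c + μ) * (ε ^ s') ^ p - r ^ p) < 1 := by
  intro h
  obtain ⟨η, hη⟩ : ∃ η, η = ε ^ s' := ⟨_, rfl⟩
  rw [← hη] at h
  have hvη : V.valuation η = 1 := by rw [hη, map_pow, hε, one_pow]
  have hη0 : η ≠ 0 := by
    intro h0
    rw [h0, map_zero] at hvη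
    exact zero_ne_one hvη
  have hr'V : r / η ∈ V := by
    rw [← V.valuation_le_one_iff, map_div₀, hvη, div_one]
    exact (V.valuation_le_one_iff _).2 hr
  have e1 : (φ c + μ) * η ^ p - r ^ p = η ^ p * (φ c + μ - (r / η) ^ p) := by
    rw [div_pow]
    have : η ^ p ≠ 0 := pow_ne_zero p hη0
    field_simp
  rw [e1, map_mul, map_pow, hvη, one_pow, one_mul] at h
  have h2 : V.valuation (φ c - (r / η) ^ p) < 1 := by
    have e : φ c - (r / η) ^ p = (φ c + μ - (r / η) ^ p) - μ := by ring
    rw [e]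
    exact V.valuation.map_sub_lt h hμ
  obtain ⟨r₀, hr₀⟩ := hres (r / η) hr'V
  have h3 : V.valuation ((r / η) ^ p - φ r₀ ^ p) < 1 := by
    rw [← sub_pow_char, map_pow]
    exact pow_lt_one₀ zero_le hr₀ hp.out.ne_zero
  have h4 : V.valuation (φ (c - r₀ ^ p)) < 1 := by
    have e : φ (c - r₀ ^ p) = (φ c - (r / η) ^ p) + ((r / η) ^ p - φ r₀ ^ p) := by
      rw [map_sub, map_pow]; ring
    rw [e]
    exact V.valuation.map_add_lt h2 h3
  obtain ⟨c', hc'⟩ := hmB _ h4
  exact hc ⟨r₀, c', by linear_combination hc'⟩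

end Aux

end Groth.Agent.Helper8.AsF
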