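import Mathlib
import Groth.Prelude.Def_EtRam
import Groth.Agent.Helper8.AsG
import Groth.Agent.Helper7.TotRamB

/-!
# AsH: the local verification (core statement)
-/

set_option autoImplicit false
set_option linter.unusedSectionVars false
set_option maxHeartbeats 1600000

universe u

namespace Groth.Agent.Helper8.AsF

open Polynomial IsLocalRing Groth.Agent.Helper7

section Core

variable (p : ℕ) [hp : Fact p.Prime]
  {A B K L K₁ E F : Type u}
  [CommRing A] [IsDomain A] [IsDiscreteValuationRing A]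
  [CommRing B] [IsDomain B] [IsDiscreteValuationRing B]
  [Algebra A B] [IsLocalHom (algebraMap A B)]
  [Field K] [Field L] [Algebra A K] [IsFractionRing A K] [Algebra B L] [IsFractionRing B L]
  [Algebra K L] [Algebra A L] [IsScalarTower A K L] [IsScalarTower A B L]
  [Field K₁] [Algebra K K₁] [Algebra A K₁] [IsScalarTower A K K₁] [FiniteDimensional K K₁]
  [Algebra.IsSeparable K K₁]
  [Field E] [Algebra K E] [Algebra L E] [Algebra K₁ E] [IsScalarTower K L E]
  [IsScalarTower K K₁ E]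
  [Field F] [Algebra E F] [CharP L p]

theorem verify_core (π : A) (hπB : Irreducible (algebraMap A B π))
    (hadjE : Algebra.adjoin L (Set.range (algebraMap K₁ E)) = ⊤)
    (W : ValuationSubring F)
    (hV : EtRam.Dominates B ((algebraMap L E).comp (algebraMap B L)) (W.comap (algebraMap E F)))
    (ξ : L) (z : F) (hz : z ^ p - z = algebraMap E F (algebraMap L E ξ))
    (hgenF : IntermediateField.adjoin E {z} = ⊤)
    (n : ℕ) (b : B) (hξ : ξ * algebraMap B L (algebraMap A B π) ^ n = algebraMap B L b)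
    (j m n' e₁ : ℕ) (hn' : 0 < n') (hmn : m ≤ n') (hnm : n ≤ m) (he₁ : 0 < e₁)
    (hfinK₁ : Module.finrank K K₁ ≤ p ^ j * e₁)
    (ρ β y ϖ₁ : K₁) (hβi : IsIntegral A β)
    (hρ : ρ ^ (p ^ j) = algebraMap A K₁ π + algebraMap A K₁ π ^ (n' + 1) * β)
    (g₂ : A[X]) (hy : y ^ p - y = eval₂ (algebraMap A K₁) ρ⁻¹ g₂)
    (hkey : ∀ V₁ : ValuationSubring K₁, EtRam.Dominates A (algebraMap A K₁) V₁ →
      V₁.valuation ϖ₁ ^ e₁ = V₁.valuation ρ)
    (hformal : InR₀ p (algebraMap A B π) j m
          (C b * X ^ (n * p ^ j) - g₂.map (algebraMap A B)) ∨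
        ∃ (s : ℕ) (c : B) (F' : B[X]), 0 < s ∧ p ∣ s ∧ ¬ P p (algebraMap A B π) c ∧
          F'.natDegree < s ∧
          InR₀ p (algebraMap A B π) j m
            (C b * X ^ (n * p ^ j) - g₂.map (algebraMap A B) - C c * X ^ s - F')) :
    (W.valuation (algebraMap E F (algebraMap K₁ E ϖ₁)) < 1 ∧
      algebraMap E F (algebraMap K₁ E ϖ₁) ≠ 0) ∧
    ∀ x : F, W.valuation x < 1 →
      W.valuation x ≤ W.valuation (algebraMap E F (algebraMap K₁ E ϖ₁)) := by
  classical
  letI algBE : Algebra B E := ((algebraMap L E).comp (algebraMap B L)).toAlgebra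
  haveI : IsScalarTower B L E := IsScalarTower.of_algebraMap_eq' rfl
  haveI : FiniteDimensional L E := TotRam.finite_of_adjoin (K := K) hadjE
  haveI : Algebra.IsSeparable L E := TotRam.isSeparable_of_adjoin (K := K) hadjE
  have hleE : Module.finrank L E ≤ p ^ j * e₁ :=
    (TotRam.finrank_le_of_adjoin (K := K) (L := L) (K₁ := K₁) (M := E) hadjE).trans hfinK₁
  haveI : CharP E p := charP_of_injective_algebraMap (algebraMap L E).injective p
  haveI : CharP F p := charP_of_injective_algebraMap (algebraMap E F).injective p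
  obtain ⟨V, hVdef⟩ : ∃ V : ValuationSubring E, V = W.comap (algebraMap E F) := ⟨_, rfl⟩
  rw [← hVdef] at hV
  have hV' : EtRam.Dominates B (algebraMap B E) V := hV
  have hq : 0 < p ^ j := pow_pos hp.out.pos j
  -- compatibility of the images of `A`
  have hkeyA : ∀ a : A, algebraMap K₁ E (algebraMap A K₁ a) =
      algebraMap B E (algebraMap A B a) := by
    intro a
    show algebraMap K₁ E (algebraMap A K₁ a) =
      algebraMap L E (algebraMap B L (algebraMap A B a))
    rw [IsScalarTower.algebraMap_apply A K K₁, ← IsScalarTower.algebraMap_apply K K₁ E,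
      IsScalarTower.algebraMap_apply K L E, ← IsScalarTower.algebraMap_apply A K L,
      ← IsScalarTower.algebraMap_apply A B L]
  have hV₁ : EtRam.Dominates A (algebraMap A K₁) (V.comap (algebraMap K₁ E)) := by
    refine ⟨fun a => ?_, fun a ha => ?_⟩
    · show algebraMap K₁ E _ ∈ V
      rw [hkeyA]
      exact hV'.1 _
    · rw [DomVal.valuation_comap_lt_one_iff, hkeyA]
      apply hV'.2
      rw [mem_maximalIdeal] at ha ⊢
      exact (map_mem_nonunits_iff (algebraMap A B) a).2 ha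
  have hBE : Function.Injective (algebraMap B E) := by
    rw [IsScalarTower.algebraMap_eq B L E]
    exact (algebraMap L E).injective.comp (IsFractionRing.injective B L)
  have hπBm : algebraMap A B π ∈ maximalIdeal B := by
    rw [hπB.maximalIdeal_eq]; exact Ideal.mem_span_singleton_self _
  have hπ0 : algebraMap B E (algebraMap A B π) ≠ 0 := (map_ne_zero_iff _ hBE).2 hπB.ne_zero
  have hβV : algebraMap K₁ E β ∈ V :=
    TotRam.mem_of_isIntegral (A := A) (V.comap (algebraMap K₁ E)) hV₁.1 β hβi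
  have hρE : algebraMap K₁ E ρ ^ (p ^ j) = algebraMap B E (algebraMap A B π) +
      algebraMap B E (algebraMap A B π) ^ (n' + 1) * algebraMap K₁ E β := by
    rw [← hkeyA, ← map_pow, ← map_pow, ← map_mul, ← map_add, hρ]
  have D := evData_of_dominates (algebraMap B E) V hV' (algebraMap A B π) hπBm hπ0
    (algebraMap K₁ E ρ) (algebraMap K₁ E β) (p ^ j) n' hq hn' hβV hρE
  have hρ0 : ρ ≠ 0 := by
    intro h0
    exact D.rho_ne_zero (by rw [h0, map_zero])
  -- the uniformizer
  have hϖρ : V.valuation (algebraMap K₁ E ϖ₁) ^ e₁ = V.valuation (algebraMap K₁ E ρ) :=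
    val_pow_eq_of_comap (algebraMap K₁ E) V ϖ₁ ρ e₁ hρ0 (hkey _ hV₁)
  have hQ : V.valuation (algebraMap K₁ E ϖ₁) ^ (p ^ j * e₁) =
      V.valuation (algebraMap B E (algebraMap A B π)) := by
    rw [mul_comm, pow_mul, hϖρ, D.val_rho_pow]
  obtain ⟨huni, hres⟩ := ef_core (L := L) V hV' (algebraMap A B π) hπB (p ^ j * e₁)
    (Nat.mul_pos hq he₁) hleE (algebraMap K₁ E ϖ₁) hQ
  haveI : IsDiscreteValuationRing V := DomVal.isDVR_of_dominates (K := L) V hV'
  have hvϖ : V.valuation (algebraMap K₁ E ϖ₁) < 1 := by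
    by_contra h
    push Not at h
    have h1 : 1 ≤ V.valuation (algebraMap K₁ E ϖ₁) ^ (p ^ j * e₁) := one_le_pow₀ h
    rw [hQ] at h1
    exact absurd D.hπ (not_lt.2 h1)
  have hϖ0 : algebraMap K₁ E ϖ₁ ≠ 0 := by
    intro h0
    rw [h0, map_zero, zero_pow he₁.ne'] at hϖρ
    exact D.rho_ne_zero ((map_eq_zero _).1 hϖρ.symm)
  have hϖV : algebraMap K₁ E ϖ₁ ∈ V := (V.valuation_le_one_iff _).1 hvϖ.le
  obtain ⟨ϖV, hϖVdef⟩ : ∃ ϖV : V, ϖV = ⟨algebraMap K₁ E ϖ₁, hϖV⟩ := ⟨_, rfl⟩
  have hϖVc : (ϖV : E) = algebraMap K₁ E ϖ₁ := by rw [hϖVdef]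
  have hmaxV : maximalIdeal V = Ideal.span {ϖV} := by
    ext x
    rw [Ideal.mem_span_singleton, V.valuation_lt_one_iff]
    constructor
    · intro hx
      have h1 := huni _ hx
      have h2 : (x : E) / algebraMap K₁ E ϖ₁ ∈ V := by
        rw [← V.valuation_le_one_iff, map_div₀]
        exact (div_le_one₀ (lt_of_le_of_ne zero_le
          ((_root_.map_ne_zero _).2 hϖ0).symm)).2 h1
      refine ⟨⟨_, h2⟩, Subtype.ext ?_⟩
      show (x : E) = (ϖV : E) * ((x : E) / algebraMap K₁ E ϖ₁)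
      rw [hϖVc]
      field_simp
    · rintro ⟨w, rfl⟩
      show V.valuation ((ϖV : E) * (w : E)) < 1
      rw [map_mul, hϖVc]
      calc V.valuation (algebraMap K₁ E ϖ₁) * V.valuation (w : E)
          ≤ V.valuation (algebraMap K₁ E ϖ₁) * 1 :=
            mul_le_mul_right ((V.valuation_le_one_iff _).2 w.2) _
        _ < 1 := by rw [mul_one]; exact hvϖ
  -- `W` over `V`
  letI algVF : Algebra V F := ((algebraMap E F).comp (algebraMap V E)).toAlgebra
  haveI : IsScalarTower V E F := IsScalarTower.of_algebraMap_eq' rfl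
  have hW : EtRam.Dominates V (algebraMap V F) W := by
    subst hVdef
    exact DomVal.dominates_over (algebraMap E F) W
  letI algVW : Algebra V W := (RingHom.codRestrict (algebraMap V F) W hW.1).toAlgebra
  haveI locVW : IsLocalHom (algebraMap V W) := DomVal.isLocalHom_codRestrict _ W hW
  -- it suffices to prove weak unramifiedness of `V → W`
  suffices hwu : EtRam.IsWeaklyUnramified V W by
    refine ⟨⟨?_, (_root_.map_ne_zero _).2 hϖ0⟩, ?_⟩
    · have h1 := hvϖ
      rw [hVdef, DomVal.valuation_comap_lt_one_iff] at h1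
      exact h1
    intro x hx
    have hxW : x ∈ W := (W.valuation_le_one_iff _).1 hx.le
    have hxm : (⟨x, hxW⟩ : W) ∈ maximalIdeal W := (W.valuation_lt_one_iff _).2 hx
    unfold EtRam.IsWeaklyUnramified at hwu
    rw [← hwu, hmaxV, Ideal.map_span, Set.image_singleton, Ideal.mem_span_singleton] at hxm
    obtain ⟨w, hw⟩ := hxm
    have hw' : x = algebraMap E F (algebraMap K₁ E ϖ₁) * (w : F) := by
      have := congrArg Subtype.val hw
      rw [← hϖVc]
      exact this
    rw [hw', map_mul]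
    calc W.valuation (algebraMap E F (algebraMap K₁ E ϖ₁)) * W.valuation (w : F)
        ≤ W.valuation (algebraMap E F (algebraMap K₁ E ϖ₁)) * 1 :=
          mul_le_mul_right ((W.valuation_le_one_iff _).2 w.2) _
      _ = _ := mul_one _
  -- evaluation of the `K`-part
  have hev_g₂ : eval₂ (algebraMap B E) (algebraMap K₁ E ρ)⁻¹ (g₂.map (algebraMap A B)) =
      algebraMap K₁ E y ^ p - algebraMap K₁ E y := by
    rw [eval₂_map]
    have e : (algebraMap B E).comp (algebraMap A B) =
        (algebraMap K₁ E).comp (algebraMap A K₁) := RingHom.ext (fun a => (hkeyA a).symm)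
    rw [e, ← map_inv₀, ← hom_eval₂, ← hy, map_sub, map_pow]
  have hξE : algebraMap L E ξ * algebraMap B E (algebraMap A B π) ^ n = algebraMap B E b := by
    show algebraMap L E ξ * algebraMap L E (algebraMap B L (algebraMap A B π)) ^ n =
      algebraMap L E (algebraMap B L b)
    rw [← map_pow, ← map_mul, hξ]
  have hw₀ := D.sub_eval_mem hξE (hnm.trans hmn)
  rcases hformal with hR | ⟨s, c, F', hs, hps, hc, hF', hR⟩
  · obtain ⟨Y, w, hw, hYw⟩ := D.eval_inR₀ p rfl hR hmn
    rw [eval₂_sub, hev_g₂] at hYw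
    have hsplit : algebraMap L E ξ =
        ((Y + algebraMap K₁ E y) ^ p - (Y + algebraMap K₁ E y)) +
          (w + (algebraMap L E ξ -
            eval₂ (algebraMap B E) (algebraMap K₁ E ρ)⁻¹ (C b * X ^ (n * p ^ j)))) := by
      rw [add_pow_char]
      linear_combination hYw
    have hz' := as_shift p z _ _ _ hz hsplit
    have hgen' := adjoin_sub_eq_top z (Y + algebraMap K₁ E y) hgenF
    have hunr := ASch.unramified_of_integral (K := E) p ϖV hmaxV
      (⟨_, add_mem hw hw₀⟩ : V) _ hz' hgen'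
    exact (hunr W hW).1
  · obtain ⟨Y, w, hw, hYw⟩ := D.eval_inR₀ p rfl hR hmn
    obtain ⟨s', rfl⟩ := hps
    have hevc : eval₂ (algebraMap B E) (algebraMap K₁ E ρ)⁻¹ (C c * X ^ (p * s')) =
        algebraMap B E c * (algebraMap K₁ E ρ)⁻¹ ^ (p * s') := by
      rw [eval₂_mul, eval₂_C, eval₂_pow, eval₂_X]
    rw [eval₂_sub, eval₂_sub, eval₂_sub, hev_g₂, hevc] at hYw
    have hs' : 0 < s' := Nat.pos_of_mul_pos_left hs
    have hρE0 : algebraMap K₁ E ρ ≠ 0 := D.rho_ne_zero
    have hρpow : (algebraMap K₁ E ρ)⁻¹ ^ (p * s') * algebraMap K₁ E ρ ^ (p * s') = 1 := by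
      rw [inv_pow, inv_mul_cancel₀ (pow_ne_zero _ hρE0)]
    obtain ⟨evF, hevF⟩ : ∃ evF : E,
      evF = eval₂ (algebraMap B E) (algebraMap K₁ E ρ)⁻¹ F' := ⟨_, rfl⟩
    obtain ⟨w₀, hw₀def⟩ : ∃ w₀ : E, w₀ = algebraMap L E ξ -
      eval₂ (algebraMap B E) (algebraMap K₁ E ρ)⁻¹ (C b * X ^ (n * p ^ j)) := ⟨_, rfl⟩
    rw [← hw₀def] at hw₀
    rw [← hevF] at hYw
    obtain ⟨ξ', hξ'def⟩ : ∃ ξ' : E, ξ' = (w + w₀) +
      algebraMap B E c * (algebraMap K₁ E ρ)⁻¹ ^ (p * s') + evF := ⟨_, rfl⟩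
    have hsplit : algebraMap L E ξ =
        ((Y + algebraMap K₁ E y) ^ p - (Y + algebraMap K₁ E y)) + ξ' := by
      rw [add_pow_char, hξ'def, hw₀def]
      linear_combination hYw
    have hz' := as_shift p z _ _ _ hz hsplit
    have hgen' := adjoin_sub_eq_top z (Y + algebraMap K₁ E y) hgenF
    -- the unit `ε`
    obtain ⟨ε, hεdef⟩ : ∃ ε : E, ε = algebraMap K₁ E ϖ₁ ^ e₁ / algebraMap K₁ E ρ := ⟨_, rfl⟩
    have hvρ0 : V.valuation (algebraMap K₁ E ρ) ≠ 0 := (_root_.map_ne_zero _).2 hρE0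
    have hε : V.valuation ε = 1 := by
      rw [hεdef, map_div₀, map_pow, hϖρ, div_self hvρ0]
    have hϖε : algebraMap K₁ E ϖ₁ ^ e₁ = algebraMap K₁ E ρ * ε := by
      rw [hεdef]; field_simp
    -- the small part
    obtain ⟨μ, hμdef⟩ : ∃ μ : E, μ = ((w + w₀) + evF) * algebraMap K₁ E ρ ^ (p * s') := ⟨_, rfl⟩
    have hps0 : p * s' ≠ 0 := hs.ne'
    have hvρlt : V.valuation (algebraMap K₁ E ρ ^ (p * s')) < 1 := by
      rw [map_pow]; exact pow_lt_one₀ zero_le D.val_rho_lt hps0
    have hμ : V.valuation μ < 1 := by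
      rw [hμdef, add_mul]
      apply V.valuation.map_add_lt
      · rw [map_mul]
        calc V.valuation (w + w₀) * V.valuation (algebraMap K₁ E ρ ^ (p * s'))
            ≤ 1 * V.valuation (algebraMap K₁ E ρ ^ (p * s')) :=
              mul_le_mul_left ((V.valuation_le_one_iff _).2 (add_mem hw hw₀)) _
          _ < 1 := by rw [one_mul]; exact hvρlt
      · rw [hevF]; exact D.val_eval_mul_pow_lt hF'
    have hm' : 0 < s' * e₁ := Nat.mul_pos hs' he₁
    have ha'eq : ξ' * algebraMap K₁ E ϖ₁ ^ (p * (s' * e₁)) =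
        (algebraMap B E c + μ) * (ε ^ s') ^ p := by
      have e1 : algebraMap K₁ E ϖ₁ ^ (p * (s' * e₁)) =
          algebraMap K₁ E ρ ^ (p * s') * (ε ^ s') ^ p := by
        have : p * (s' * e₁) = e₁ * (p * s') := by ring
        rw [this, pow_mul, hϖε, mul_pow, ← pow_mul ε s' p, mul_comm s' p]
      rw [e1, hξ'def, hμdef]
      linear_combination (algebraMap B E c * (ε ^ s') ^ p) * hρpow
    have ha'V : ξ' * algebraMap K₁ E ϖ₁ ^ (p * (s' * e₁)) ∈ V := by
      rw [ha'eq, ← V.valuation_le_one_iff, map_mul, map_pow, map_pow, hε, one_pow, one_pow,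
        mul_one]
      exact V.valuation.map_add_le ((V.valuation_le_one_iff _).2 (hV'.1 c)) hμ.le
    have hmB : ∀ x : B, V.valuation (algebraMap B E x) < 1 →
        ∃ c', x = algebraMap A B π * c' := by
      intro x hx
      have hxm : x ∈ maximalIdeal B := by
        by_contra hnm
        have hu : IsUnit x := by
          rwa [mem_maximalIdeal, mem_nonunits_iff, not_not] at hnm
        have := val_unit (algebraMap B E) V hV'.1 hu
        rw [this] at hx
        exact lt_irrefl _ hx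
      rw [hπB.maximalIdeal_eq, Ideal.mem_span_singleton] at hxm
      exact hxm
    have ha' : ∀ r : V, residue V ⟨_, ha'V⟩ ≠ residue V r ^ p := by
      intro r hreq
      have h1 : residue V (⟨_, ha'V⟩ - r ^ p) = 0 := by
        rw [map_sub, map_pow, hreq, sub_self]
      have h2 : (⟨_, ha'V⟩ - r ^ p : V) ∈ maximalIdeal V := (residue_eq_zero_iff _).1 h1
      have h3 : V.valuation (ξ' * algebraMap K₁ E ϖ₁ ^ (p * (s' * e₁)) - (r : E) ^ p) < 1 :=
        (V.valuation_lt_one_iff _).1 h2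
      rw [ha'eq] at h3
      exact not_pth_power p V (algebraMap B E) (algebraMap A B π) hmB hres c hc ε μ hε hμ s'
        (r : E) r.2 h3
    have hξ'' : ξ' * algebraMap V E ϖV ^ (p * (s' * e₁)) =
        algebraMap V E ⟨_, ha'V⟩ := by
      show ξ' * (ϖV : E) ^ (p * (s' * e₁)) = _
      rw [hϖVc]
      rfl
    have hcase := ASch.case4_of_pole (K := E) p ϖV hmaxV ξ' _ hz' hgen' (s' * e₁) hm'
      ⟨_, ha'V⟩ ha' hξ''
    obtain ⟨-, -, h3⟩ := hcase
    exact (h3 W hW).1

end Core

end Groth.Agent.Helper8.AsF
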