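import Mathlib
import Groth.Prelude.Def_EtRam
import Groth.Agent.Helper8.AsH
import Groth.Agent.Helper7.DomValD

/-!
# AsI: the local verification over an arbitrary compositum
-/

set_option autoImplicit false
set_option linter.unusedSectionVars false
set_option maxHeartbeats 1600000

universe u

namespace Groth.Agent.Helper8.AsF

open Polynomial IsLocalRing Groth.Agent.Helper7

section Verify

variable (p : ℕ) [hp : Fact p.Prime]
  {A B C K L M K₁ : Type u}
  [CommRing A] [IsDomain A] [IsDiscreteValuationRing A] [CommRing B] [IsDomain B]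
  [IsDiscreteValuationRing B] [CommRing C] [IsDomain C] [IsDiscreteValuationRing C]
  [Algebra A B] [Algebra B C] [Algebra A C] [IsScalarTower A B C]
  [IsLocalHom (algebraMap A B)] [IsLocalHom (algebraMap B C)]
  [Field K] [Field L] [Field M] [Algebra A K] [IsFractionRing A K] [Algebra B L]
  [IsFractionRing B L] [Algebra C M] [IsFractionRing C M] [Algebra K L] [Algebra L M]
  [Algebra K M] [IsScalarTower K L M] [Algebra A L] [IsScalarTower A K L] [IsScalarTower A B L]
  [Algebra B M] [IsScalarTower B L M] [IsScalarTower B C M]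
  [Field K₁] [Algebra K K₁] [Algebra A K₁] [IsScalarTower A K K₁] [FiniteDimensional K K₁]
  [Algebra.IsSeparable K K₁] [CharP L p]

theorem verify (π : A) (hπB : Irreducible (algebraMap A B π))
    (ξ : L) (z₀ : M) (hz₀ : z₀ ^ p - z₀ = algebraMap L M ξ)
    (hgen : IntermediateField.adjoin L {z₀} = ⊤) (hz₀alg : IsAlgebraic L z₀)
    (n : ℕ) (b : B) (hξ : ξ * algebraMap B L (algebraMap A B π) ^ n = algebraMap B L b)
    (j m n' e₁ : ℕ) (hn' : 0 < n') (hmn : m ≤ n') (hnm : n ≤ m) (he₁ : 0 < e₁)
    (hfinK₁ : Module.finrank K K₁ ≤ p ^ j * e₁)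
    (ρ β y ϖ₁ : K₁) (hβi : IsIntegral A β)
    (hρ : ρ ^ (p ^ j) = algebraMap A K₁ π + algebraMap A K₁ π ^ (n' + 1) * β)
    (g₂ : A[X]) (hy : y ^ p - y = eval₂ (algebraMap A K₁) ρ⁻¹ g₂)
    (hkey : ∀ V₁ : ValuationSubring K₁, EtRam.Dominates A (algebraMap A K₁) V₁ →
      V₁.valuation ϖ₁ ^ e₁ = V₁.valuation ρ)
    (hformal : InR₀ p (algebraMap A B π) j m
          (Polynomial.C b * X ^ (n * p ^ j) - g₂.map (algebraMap A B)) ∨
        ∃ (s : ℕ) (c : B) (F' : B[X]), 0 < s ∧ p ∣ s ∧ ¬ P p (algebraMap A B π) c ∧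
          F'.natDegree < s ∧
          InR₀ p (algebraMap A B π) j m
            (Polynomial.C b * X ^ (n * p ^ j) - g₂.map (algebraMap A B) - Polynomial.C c * X ^ s - F'))
    (F : Type u) [Field F] [Algebra K F] [Algebra M F] [Algebra K₁ F] [IsScalarTower K M F]
    [IsScalarTower K K₁ F]
    (hadj : Algebra.adjoin M (Set.range (algebraMap K₁ F)) = ⊤)
    (W : ValuationSubring F)
    (hW : EtRam.Dominates C ((algebraMap M F).comp (algebraMap C M)) W) :
    DomVal.WU' W (algebraMap K₁ F) := by
  classical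
  letI algLF : Algebra L F := ((algebraMap M F).comp (algebraMap L M)).toAlgebra
  haveI : IsScalarTower L M F := IsScalarTower.of_algebraMap_eq' rfl
  haveI : IsScalarTower K L F := IsScalarTower.of_algebraMap_eq (fun x => by
    show algebraMap K F x = algebraMap M F (algebraMap L M (algebraMap K L x))
    rw [← IsScalarTower.algebraMap_apply K L M, ← IsScalarTower.algebraMap_apply K M F])
  let L₁ : IntermediateField L F := IntermediateField.adjoin L (Set.range (algebraMap K₁ F))
  let ι₁ : K₁ →+* L₁ := (algebraMap K₁ F).codRestrict L₁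
    (fun x => IntermediateField.subset_adjoin L _ ⟨x, rfl⟩)
  letI algK₁L₁ : Algebra K₁ L₁ := ι₁.toAlgebra
  haveI : IsScalarTower K K₁ L₁ := IsScalarTower.of_algebraMap_eq (fun x => Subtype.ext (by
    show algebraMap K F x = algebraMap K₁ F (algebraMap K K₁ x)
    rw [← IsScalarTower.algebraMap_apply]))
  -- `L₁` is generated by `K₁`
  have halgS : ∀ x ∈ Set.range (algebraMap K₁ F), IsAlgebraic L x := by
    rintro _ ⟨k, rfl⟩
    have h1 : IsAlgebraic K k := Algebra.IsAlgebraic.isAlgebraic k
    have h2 : IsAlgebraic K (algebraMap K₁ F k) := h1.algebraMap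
    exact h2.tower_top L
  have hadjE : Algebra.adjoin L (Set.range (algebraMap K₁ L₁)) = ⊤ := by
    apply Subalgebra.map_injective (f := L₁.val) Subtype.val_injective
    rw [AlgHom.map_adjoin, Algebra.map_top, IntermediateField.range_val,
      IntermediateField.adjoin_toSubalgebra_of_isAlgebraic halgS, ← Set.range_comp]
    rfl
  -- the valuation ring of `L₁`
  have hV : EtRam.Dominates B ((algebraMap L L₁).comp (algebraMap B L))
      (W.comap (algebraMap L₁ F)) := by
    have hkeyB : ∀ x : B, algebraMap L₁ F (algebraMap L L₁ (algebraMap B L x)) =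
        algebraMap M F (algebraMap C M (algebraMap B C x)) := by
      intro x
      show algebraMap M F (algebraMap L M (algebraMap B L x)) = _
      rw [← IsScalarTower.algebraMap_apply B L M, ← IsScalarTower.algebraMap_apply B C M]
    refine ⟨fun x => ?_, fun x hx => ?_⟩
    · show algebraMap L₁ F (algebraMap L L₁ (algebraMap B L x)) ∈ W
      rw [hkeyB]
      exact hW.1 _
    · rw [DomVal.valuation_comap_lt_one_iff]
      show W.valuation (algebraMap L₁ F (algebraMap L L₁ (algebraMap B L x))) < 1
      rw [hkeyB]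
      apply hW.2
      rw [mem_maximalIdeal] at hx ⊢
      exact (map_mem_nonunits_iff (algebraMap B C) x).2 hx
  -- the Artin–Schreier generator
  have hz : (algebraMap M F z₀) ^ p - algebraMap M F z₀ =
      algebraMap L₁ F (algebraMap L L₁ ξ) := by
    rw [← map_pow, ← map_sub, hz₀]
    rfl
  have hgenF : IntermediateField.adjoin L₁ {algebraMap M F z₀} = ⊤ := by
    rw [eq_top_iff]
    intro x hxtop
    clear hxtop
    have hx : x ∈ Algebra.adjoin M (Set.range (algebraMap K₁ F)) := by
      rw [hadj]; exact Algebra.mem_top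
    induction hx using Algebra.adjoin_induction with
    | mem x hx =>
      obtain ⟨k, rfl⟩ := hx
      exact IntermediateField.algebraMap_mem _ (ι₁ k)
    | algebraMap r =>
      have hr : r ∈ (IntermediateField.adjoin L {z₀}).toSubalgebra := by
        rw [hgen]; exact Algebra.mem_top
      rw [IntermediateField.adjoin_simple_toSubalgebra_of_isAlgebraic hz₀alg] at hr
      let S' : Subalgebra L M :=
        ((IntermediateField.adjoin L₁ {algebraMap M F z₀}).toSubalgebra.restrictScalars L).comap
          (IsScalarTower.toAlgHom L M F)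
      have hle : Algebra.adjoin L {z₀} ≤ S' := by
        apply Algebra.adjoin_le
        intro t ht
        rw [Set.mem_singleton_iff] at ht
        rw [ht]
        show algebraMap M F z₀ ∈ IntermediateField.adjoin L₁ {algebraMap M F z₀}
        exact IntermediateField.mem_adjoin_simple_self _ _
      exact hle hr
    | add x y _ _ hx hy => exact add_mem hx hy
    | mul x y _ _ hx hy => exact mul_mem hx hy
  obtain ⟨⟨hlt, hne⟩, hall⟩ := verify_core (A := A) (B := B) (K := K) (L := L) (K₁ := K₁)
    (E := L₁) (F := F) p π hπB hadjE W hV ξ (algebraMap M F z₀) hz hgenF n b hξ j m n' e₁ hn'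
    hmn hnm he₁ hfinK₁ ρ β y ϖ₁ hβi hρ g₂ hy hkey hformal
  have hϖF : algebraMap L₁ F (algebraMap K₁ L₁ ϖ₁) = algebraMap K₁ F ϖ₁ := rfl
  rw [hϖF] at hlt hne hall
  intro x hx
  have hxlt : W.valuation x < 1 := W.mem_nonunits_iff.1 hx
  refine ⟨ϖ₁, W.mem_nonunits_iff.2 hlt, x / algebraMap K₁ F ϖ₁, ?_, ?_⟩
  · rw [← W.valuation_le_one_iff, map_div₀]
    exact (div_le_one₀ (lt_of_le_of_ne zero_le
      ((_root_.map_ne_zero _).2 hne).symm)).2 (hall x hxlt)
  · field_simp

end Verify

end Groth.Agent.Helper8.AsF
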