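import Mathlib
import Groth.Prelude.Def_EtRam
import Groth.Agent.Helper8.AsB
import Groth.Agent.Helper8.AsI
import Groth.Agent.Helper7.ArtinSchreier
import Groth.Agent.Helper7.ASchI
import Groth.Agent.Helper7.TRqA
import Groth.Agent.S7157

/-!
# AsJ: the Artin–Schreier step of Epp's theorem in equal characteristic `p`
-/

set_option autoImplicit false
set_option linter.unusedSectionVars false
set_option maxHeartbeats 1600000

universe u

namespace Groth.Agent.Helper8.AsF

open Polynomial IsLocalRing Groth.Agent.Helper7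

section Residue

variable {B : Type u} [CommRing B] [IsLocalRing B] (p : ℕ) (πB : B)
  (hπB : maximalIdeal B = Ideal.span {πB})

include hπB in
theorem P_iff_residue (c : B) : P p πB c ↔ ∃ t : ResidueField B, t ^ p = residue B c := by
  constructor
  · rintro ⟨r, c', rfl⟩
    refine ⟨residue B r, ?_⟩
    have h0 : residue B (πB * c') = 0 := by
      rw [residue_eq_zero_iff, hπB]
      exact Ideal.mul_mem_right _ _ (Ideal.mem_span_singleton_self _)
    rw [map_add, map_pow, h0, add_zero]
  · rintro ⟨t, ht⟩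
    obtain ⟨r, rfl⟩ := residue_surjective t
    have h0 : residue B (c - r ^ p) = 0 := by rw [map_sub, map_pow, ht, sub_self]
    rw [residue_eq_zero_iff, hπB, Ideal.mem_span_singleton] at h0
    obtain ⟨c', hc'⟩ := h0
    exact ⟨r, c', by linear_combination hc'⟩

end Residue

theorem adjoin_eq_top_of_as {L M : Type u} [Field L] [Field M] [Algebra L M] (p : ℕ)
    (hp : p.Prime) (hdeg : Module.finrank L M = p) (θ : M) (σ : M ≃ₐ[L] M)
    (hσ : σ θ = θ + 1) : IntermediateField.adjoin L {θ} = ⊤ := by
  haveI : FiniteDimensional L M := Module.finite_of_finrank_pos (by rw [hdeg]; exact hp.pos)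
  have h1 : Module.finrank L (IntermediateField.adjoin L {θ}) ∣ p := by
    rw [← hdeg, ← Module.finrank_mul_finrank L (IntermediateField.adjoin L {θ}) M]
    exact Dvd.intro _ rfl
  rcases (Nat.dvd_prime hp).1 h1 with h | h
  · exfalso
    rw [IntermediateField.finrank_eq_one_iff] at h
    have hθ : θ ∈ (⊥ : IntermediateField L M) := by
      rw [← h]; exact IntermediateField.mem_adjoin_simple_self L θ
    obtain ⟨l, rfl⟩ := IntermediateField.mem_bot.1 hθ
    rw [σ.commutes] at hσ
    exact one_ne_zero (α := M) (by linear_combination -hσ)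
  · apply IntermediateField.eq_of_le_of_finrank_eq le_top
    rw [h, IntermediateField.finrank_top', hdeg]

section Main

variable (p : ℕ) (hp : p.Prime) (A B C K L M : Type u)
  [CommRing A] [IsDomain A] [IsDiscreteValuationRing A] [CommRing B] [IsDomain B]
  [IsDiscreteValuationRing B] [CommRing C] [IsDomain C] [IsDiscreteValuationRing C]
  [Algebra A B] [Algebra B C] [Algebra A C] [IsScalarTower A B C]
  [IsLocalHom (algebraMap A B)] [IsLocalHom (algebraMap B C)]
  [Field K] [Field L] [Field M] [Algebra A K] [IsFractionRing A K] [Algebra B L]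
  [IsFractionRing B L] [Algebra C M] [IsFractionRing C M] [Algebra K L] [Algebra L M]
  [Algebra K M] [IsScalarTower K L M] [Algebra A L] [IsScalarTower A K L] [IsScalarTower A B L]
  [Algebra B M] [IsScalarTower B L M] [IsScalarTower B C M]

include hp in
theorem main_thm (hw : EtRam.IsWeaklyUnramified A B) [CharP K p] [IsGalois L M]
    (hdeg : Module.finrank L M = p)
    (hk : ∀ x : ResidueField B, (∀ n : ℕ, ∃ y : ResidueField B, y ^ (p ^ n) = x) ↔
      x ∈ Set.range (algebraMap (ResidueField A) (ResidueField B))) :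
    ∃ (K₁ : Type u) (_ : Field K₁) (_ : Algebra K K₁), FiniteDimensional K K₁ ∧
      Algebra.IsSeparable K K₁ ∧
      EtRam.IsTotallyRamified A ((algebraMap K K₁).comp (algebraMap A K)) ∧
      EtRam.IsWeakSolution C K M K₁ := by
  classical
  haveI : Fact p.Prime := ⟨hp⟩
  haveI : CharP L p := charP_of_injective_algebraMap (algebraMap K L).injective p
  haveI : CharP A p := RingHom.charP (algebraMap A K) (IsFractionRing.injective A K) p
  haveI : CharP B p := RingHom.charP (algebraMap B L) (IsFractionRing.injective B L) p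
  haveI : CharP (ResidueField A) p := by
    refine (CharP.charP_iff_prime_eq_zero hp).2 ?_
    rw [← map_natCast (residue A), CharP.cast_eq_zero, map_zero]
  haveI : CharP (ResidueField B) p := by
    refine (CharP.charP_iff_prime_eq_zero hp).2 ?_
    rw [← map_natCast (residue B), CharP.cast_eq_zero, map_zero]
  obtain ⟨π, hπirr⟩ := IsDiscreteValuationRing.exists_irreducible A
  have hπ : maximalIdeal A = Ideal.span {π} := hπirr.maximalIdeal_eq
  have hπB : Irreducible (algebraMap A B π) := by
    rw [IsDiscreteValuationRing.irreducible_iff_uniformizer, ← hw, hπ, Ideal.map_span,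
      Set.image_singleton]
  have hπBmax : maximalIdeal B = Ideal.span {algebraMap A B π} := hπB.maximalIdeal_eq
  -- the Artin–Schreier generator
  obtain ⟨z₀, σ, hσ, ξ, hξ0⟩ := ArtinSchreier.exists_artinSchreier L p M hdeg
  have hz₀ : z₀ ^ p - z₀ = algebraMap L M ξ := hξ0.symm
  have hgen := adjoin_eq_top_of_as p hp hdeg z₀ σ hσ
  haveI : FiniteDimensional L M := Module.finite_of_finrank_pos (by rw [hdeg]; exact hp.pos)
  have hz₀alg : IsAlgebraic L z₀ := Algebra.IsAlgebraic.isAlgebraic z₀
  obtain ⟨n, b, hnb⟩ := ASch.exists_pole (K := L) (algebraMap A B π) hπBmax ξ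
  -- the hypotheses of the formal theorem
  have hloc : ∀ a : A, IsUnit a ∨ ∃ a', a = π * a' := by
    intro a
    by_cases ha : IsUnit a
    · exact Or.inl ha
    · right
      have hm : a ∈ maximalIdeal A := ha
      rw [hπ, Ideal.mem_span_singleton] at hm
      exact hm
  have hres_inj : Function.Injective (algebraMap (ResidueField A) (ResidueField B)) :=
    (algebraMap (ResidueField A) (ResidueField B)).injective
  have hfrob : ∀ y₁ y₂ : ResidueField B, y₁ ^ p = y₂ ^ p → y₁ = y₂ := by
    intro y₁ y₂ h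
    have h0 : (y₁ - y₂) ^ p = 0 := by rw [sub_pow_char, h, sub_self]
    exact sub_eq_zero.1 ((pow_eq_zero_iff hp.ne_zero).1 h0)
  have hperf : ∀ a : A, P p π a := by
    intro a
    rw [P_iff_residue p π hπ]
    have hx : algebraMap (ResidueField A) (ResidueField B) (residue A a) ∈
        Set.range (algebraMap (ResidueField A) (ResidueField B)) := ⟨_, rfl⟩
    have hall := (hk _).2 hx
    obtain ⟨y, hy⟩ := hall 1
    rw [pow_one] at hy
    have hyall : ∀ n : ℕ, ∃ y' : ResidueField B, y' ^ (p ^ n) = y := by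
      intro n
      obtain ⟨y', hy'⟩ := hall (n + 1)
      refine ⟨y', hfrob _ _ ?_⟩
      rw [← pow_mul, ← pow_succ, hy', hy]
    obtain ⟨t, ht⟩ := (hk y).1 hyall
    refine ⟨t, hres_inj ?_⟩
    rw [map_pow, ht, hy]
  have hcompat : ∀ a : A, algebraMap (ResidueField A) (ResidueField B) (residue A a) =
      residue B (algebraMap A B a) := fun a => rfl
  have htri : ∀ c : B, P p (algebraMap A B π) c →
      (∃ (a : A) (c' : B), c = algebraMap A B a + algebraMap A B π * c') ∨
      (∃ (d : ℕ) (δ c' : B), 0 < d ∧ c = δ ^ (p ^ d) + algebraMap A B π * c' ∧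
        ¬ P p (algebraMap A B π) δ) := by
    intro c hPc
    by_cases hx : residue B c ∈ Set.range (algebraMap (ResidueField A) (ResidueField B))
    · left
      obtain ⟨t, ht⟩ := hx
      obtain ⟨a, rfl⟩ := residue_surjective t
      have h0 : residue B (c - algebraMap A B a) = 0 := by
        rw [map_sub, ← ht, hcompat, sub_self]
      rw [residue_eq_zero_iff, hπBmax, Ideal.mem_span_singleton] at h0
      obtain ⟨c', hc'⟩ := h0
      exact ⟨a, c', by linear_combination hc'⟩
    · right
      have hex : ∃ n : ℕ, ¬ ∃ y : ResidueField B, y ^ (p ^ n) = residue B c := by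
        by_contra hcon
        push Not at hcon
        exact hx ((hk _).1 hcon)
      have hn₀spec := Nat.find_spec hex
      have hmin : ∀ k < Nat.find hex, ∃ y : ResidueField B, y ^ (p ^ k) = residue B c :=
        fun k hk' => not_not.1 (Nat.find_min hex hk')
      have h0 : Nat.find hex ≠ 0 := by
        intro h
        apply hn₀spec
        rw [h]
        exact ⟨residue B c, by rw [pow_zero, pow_one]⟩
      have h1 : Nat.find hex ≠ 1 := by
        intro h
        apply hn₀spec
        rw [h, pow_one]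
        exact (P_iff_residue p _ hπBmax c).1 hPc
      obtain ⟨d, hd⟩ : ∃ d, Nat.find hex = d + 1 := ⟨Nat.find hex - 1, by omega⟩
      have hd0 : 0 < d := by omega
      obtain ⟨y, hy⟩ := hmin d (by omega)
      obtain ⟨δ, rfl⟩ := residue_surjective y
      have h2 : residue B (c - δ ^ (p ^ d)) = 0 := by rw [map_sub, map_pow, hy, sub_self]
      rw [residue_eq_zero_iff, hπBmax, Ideal.mem_span_singleton] at h2
      obtain ⟨c', hc'⟩ := h2
      refine ⟨d, δ, c', hd0, by linear_combination hc', ?_⟩
      intro hPδ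
      obtain ⟨t, ht⟩ := (P_iff_residue p _ hπBmax δ).1 hPδ
      apply hn₀spec
      refine ⟨t, ?_⟩
      rw [hd, pow_succ', pow_mul, ht, hy]
  obtain ⟨j, m, g₂, hnm, hshape, hformal⟩ := formal (A := A) (B := B) p π htri hloc hperf b n
  have hq : 0 < p ^ j := pow_pos hp.pos j
  -- the extension `K'` with a good uniformizer
  obtain ⟨K', iF, iAlg, iAlgA, iTower, hfr, hsep, htr, ρ', β', β'', hρi, hβi, hβ''i, hρ1, hρ2⟩ :=
    Groth.Agent.S7157.result p hp A K π hπ (m + 1 + 1) (by omega) j
  haveI : FiniteDimensional K K' := Module.finite_of_finrank_pos (by rw [hfr]; exact hq)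
  haveI := hsep
  obtain ⟨K₁, iF₁, iAlg₁, iAlgA₁, iTower₁, e₁, ρ, β, y, ϖ₁, hfd, hsep₁, he₁, hfin₁, hρint, hβint,
    hρ, hy, hkey⟩ := exists_K₁ (K := K) p π hπ (p ^ j) (m + 1) hq (Nat.succ_pos m) hfr ρ' β' hρi
      hβi hρ1 g₂ hshape
  haveI := hfd
  haveI := hsep₁
  -- total ramification
  have hinjA : Function.Injective (algebraMap A K₁) := by
    rw [IsScalarTower.algebraMap_eq A K K₁]
    exact (algebraMap K K₁).injective.comp (IsFractionRing.injective A K)
  have hπm : π ∈ maximalIdeal A := by rw [hπ]; exact Ideal.mem_span_singleton_self π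
  have hπ0 : algebraMap A K₁ π ≠ 0 := (map_ne_zero_iff _ hinjA).2 hπirr.ne_zero
  have key : ∀ V : ValuationSubring K₁, EtRam.Dominates A (algebraMap A K₁) V →
      V.valuation ϖ₁ ^ (p ^ j * e₁) = V.valuation (algebraMap A K₁ π) := by
    intro V hV
    have hβV : β ∈ V := TotRam.mem_of_isIntegral (A := A) V hV.1 β hβint
    have D := evData_of_dominates (algebraMap A K₁) V hV π hπm hπ0 ρ β (p ^ j) (m + 1) hq
      (Nat.succ_pos m) hβV hρ
    rw [mul_comm, pow_mul, hkey V hV, D.val_rho_pow]
  obtain ⟨htot, -⟩ := TRq.totRam_of_varpi (K := K) (p ^ j * e₁) (Nat.mul_pos hq he₁) π hπ hfin₁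
    ϖ₁ key
  refine ⟨K₁, iF₁, iAlg₁, hfd, hsep₁, ?_, ?_⟩
  · rw [← IsScalarTower.algebraMap_eq A K K₁]
    exact htot
  · intro F _ _ _ _ _ _ hadj W hW
    show DomVal.WU W (algebraMap K₁ F)
    rw [DomVal.wu_iff]
    exact verify p π hπB ξ z₀ hz₀ hgen hz₀alg n b hnb j m (m + 1) e₁ (Nat.succ_pos m)
      (Nat.le_succ m) hnm he₁ hfin₁ ρ β y ϖ₁ hβint hρ g₂ hy hkey hformal F hadj W hW

end Main

end Groth.Agent.Helper8.AsF
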