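import Mathlib
import Groth.Prelude.Def_AlgGrp
import Groth.Prelude.Def_ChGrp
import Groth.Prelude.Def_Desc
import Groth.Agent.Helper8.DescAffC

/-!
# The descent datum on an equivariant scheme over a torsor

Let `f : X ⟶ Y` be a `G`-torsor (the square `act, pr₂, f, f` is cartesian) and `π : V ⟶ X` an equivariant
morphism from a `G`-scheme `V`. Then `V` carries a descent datum relative to `f`: the point `v` over
`x₀` is transported to `g • v` over `x₁ = g • x₀`.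
-/

set_option autoImplicit false
universe u

namespace Groth.Agent.Helper8.AssocBun

open CategoryTheory CategoryTheory.Limits MonoidalCategory CartesianMonoidalCategory MonObj GrpObj
  AlgebraicGeometry

noncomputable section

variable {K : Scheme.{u}} {G X Y V : Over K} [GrpObj G] (a : AlgGrp.Action G X) (f : X ⟶ Y)
  (hsq : IsPullback a.act.left (snd G X).left f.left f.left)
  (c : AlgGrp.Action G V) (π : V ⟶ X) (hπ : c.act ≫ π = (G ◁ π) ≫ a.act)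

section Division

/-- the point `(g, x₀)` of `G × X` with `g • x₀ = x₁` -/
def dvL {T : Scheme.{u}} (x₁ x₀ : T ⟶ X.left) (h : x₁ ≫ f.left = x₀ ≫ f.left) :
    T ⟶ (G ⊗ X).left :=
  hsq.lift x₁ x₀ h

lemma dvL_act {T : Scheme.{u}} (x₁ x₀ : T ⟶ X.left) (h : x₁ ≫ f.left = x₀ ≫ f.left) :
    dvL a f hsq x₁ x₀ h ≫ a.act.left = x₁ := hsq.lift_fst _ _ _

lemma dvL_snd {T : Scheme.{u}} (x₁ x₀ : T ⟶ X.left) (h : x₁ ≫ f.left = x₀ ≫ f.left) :
    dvL a f hsq x₁ x₀ h ≫ (snd G X).left = x₀ := hsq.lift_snd _ _ _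

lemma comp_dvL {T T' : Scheme.{u}} (g : T' ⟶ T) (x₁ x₀ : T ⟶ X.left)
    (h : x₁ ≫ f.left = x₀ ≫ f.left) (h' : (g ≫ x₁) ≫ f.left = (g ≫ x₀) ≫ f.left) :
    g ≫ dvL a f hsq x₁ x₀ h = dvL a f hsq (g ≫ x₁) (g ≫ x₀) h' := by
  apply hsq.hom_ext
  · rw [Category.assoc, dvL_act, dvL_act]
  · rw [Category.assoc, dvL_snd, dvL_snd]

lemma dvL_hom {T : Over K} (x₁ x₀ : T ⟶ X) (h : x₁.left ≫ f.left = x₀.left ≫ f.left) :
    (dvL a f hsq x₁.left x₀.left h ≫ (fst G X).left) ≫ G.hom = T.hom := by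
  rw [Category.assoc, Over.w (fst G X), ← Over.w (snd G X), ← Category.assoc, dvL_snd,
    Over.w x₀]

/-- the division map of the torsor on points: `dv x₁ x₀ • x₀ = x₁` -/
def dv {T : Over K} (x₁ x₀ : T ⟶ X) (h : x₁.left ≫ f.left = x₀.left ≫ f.left) : T ⟶ G :=
  Over.homMk (dvL a f hsq x₁.left x₀.left h ≫ (fst G X).left) (dvL_hom a f hsq x₁ x₀ h)

lemma lift_dv_left {T : Over K} (x₁ x₀ : T ⟶ X) (h : x₁.left ≫ f.left = x₀.left ≫ f.left) :
    (lift (dv a f hsq x₁ x₀ h) x₀).left = dvL a f hsq x₁.left x₀.left h := by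
  apply pullback.hom_ext (f := G.hom) (g := X.hom)
  · exact congrArg CommaMorphism.left (lift_fst (dv a f hsq x₁ x₀ h) x₀)
  · exact (congrArg CommaMorphism.left (lift_snd (dv a f hsq x₁ x₀ h) x₀)).trans
      (dvL_snd a f hsq x₁.left x₀.left h).symm

lemma dv_act {T : Over K} (x₁ x₀ : T ⟶ X) (h : x₁.left ≫ f.left = x₀.left ≫ f.left) :
    lift (dv a f hsq x₁ x₀ h) x₀ ≫ a.act = x₁ := by
  apply Over.OverMorphism.ext
  rw [Over.comp_left, lift_dv_left, dvL_act]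

lemma dv_unique {T : Over K} (x₁ x₀ : T ⟶ X) (h : x₁.left ≫ f.left = x₀.left ≫ f.left)
    (g : T ⟶ G) (hg : lift g x₀ ≫ a.act = x₁) : g = dv a f hsq x₁ x₀ h := by
  have h1 : (lift g x₀).left = dvL a f hsq x₁.left x₀.left h := by
    apply hsq.hom_ext
    · rw [dvL_act]
      exact congrArg CommaMorphism.left hg
    · rw [dvL_snd]
      exact congrArg CommaMorphism.left (lift_snd g x₀)
  apply Over.OverMorphism.ext
  have h2 : (lift g x₀).left ≫ (fst G X).left = g.left :=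
    congrArg CommaMorphism.left (lift_fst g x₀)
  rw [← h2, h1]
  rfl

lemma dv_self {T : Over K} (x : T ⟶ X) : dv a f hsq x x rfl = 1 :=
  (dv_unique a f hsq x x rfl 1 (a.lift_one_act x)).symm

lemma dv_mul {T : Over K} (x₂ x₁ x₀ : T ⟶ X) (h₂₁ : x₂.left ≫ f.left = x₁.left ≫ f.left)
    (h₁₀ : x₁.left ≫ f.left = x₀.left ≫ f.left) :
    dv a f hsq x₂ x₁ h₂₁ * dv a f hsq x₁ x₀ h₁₀ = dv a f hsq x₂ x₀ (h₂₁.trans h₁₀) := by
  apply dv_unique
  rw [a.lift_mul_act, dv_act, dv_act]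

end Division

section Transport

lemma t_cond {T : Scheme.{u}} (x₀ x₁ : T ⟶ X.left) (h : x₀ ≫ f.left = x₁ ≫ f.left)
    (v : T ⟶ V.left) (hv : v ≫ π.left = x₀) :
    (dvL a f hsq x₁ x₀ h.symm ≫ (fst G X).left) ≫ G.hom = v ≫ V.hom := by
  rw [Category.assoc, Over.w (fst G X), ← Over.w (snd G X), ← Category.assoc, dvL_snd, ← hv,
    Category.assoc, Over.w π]

/-- the transport of the point `v` over `x₀` to the point `g • v` over `x₁ = g • x₀` -/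
def t {T : Scheme.{u}} (x₀ x₁ : T ⟶ X.left) (h : x₀ ≫ f.left = x₁ ≫ f.left)
    (v : T ⟶ V.left) (hv : v ≫ π.left = x₀) : T ⟶ V.left :=
  (pullback.lift (dvL a f hsq x₁ x₀ h.symm ≫ (fst G X).left) v
    (t_cond a f hsq π x₀ x₁ h v hv) : T ⟶ (G ⊗ V).left) ≫ c.act.left

lemma t_congr {T : Scheme.{u}} {x₀ x₀' x₁ x₁' : T ⟶ X.left} {v v' : T ⟶ V.left}
    (e₀ : x₀ = x₀') (e₁ : x₁ = x₁') (ev : v = v') (h : x₀ ≫ f.left = x₁ ≫ f.left)
    (hv : v ≫ π.left = x₀) (h' : x₀' ≫ f.left = x₁' ≫ f.left) (hv' : v' ≫ π.left = x₀') :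
    t a f hsq c π x₀ x₁ h v hv = t a f hsq c π x₀' x₁' h' v' hv' := by
  subst e₀ e₁ ev
  rfl

/-- the transport in terms of the calculus of points over `K` -/
lemma t_eq {T : Over K} (x₀ x₁ : T ⟶ X) (h : x₀.left ≫ f.left = x₁.left ≫ f.left) (v : T ⟶ V)
    (hv : v ≫ π = x₀) :
    t a f hsq c π x₀.left x₁.left h v.left (congrArg CommaMorphism.left hv) =
      (lift (dv a f hsq x₁ x₀ h.symm) v ≫ c.act).left := rfl

lemma t_nat {T T' : Scheme.{u}} (g : T' ⟶ T) (x₀ x₁ : T ⟶ X.left)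
    (h : x₀ ≫ f.left = x₁ ≫ f.left) (v : T ⟶ V.left) (hv : v ≫ π.left = x₀)
    (h' : (g ≫ x₀) ≫ f.left = (g ≫ x₁) ≫ f.left) (hv' : (g ≫ v) ≫ π.left = g ≫ x₀) :
    g ≫ t a f hsq c π x₀ x₁ h v hv = t a f hsq c π (g ≫ x₀) (g ≫ x₁) h' (g ≫ v) hv' := by
  unfold t
  rw [← Category.assoc]
  congr 1
  apply pullback.hom_ext (f := G.hom) (g := V.hom)
  · rw [Category.assoc, pullback.lift_fst, pullback.lift_fst, ← Category.assoc,
      comp_dvL a f hsq g x₁ x₀ h.symm h'.symm]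
  · rw [Category.assoc, pullback.lift_snd, pullback.lift_snd]

end Transport

section Axioms

variable {T : Scheme.{u}} (v : T ⟶ V.left)

/-- the scheme `T` over `K` through `v` -/
abbrev TK : Over K := Over.mk (v ≫ V.hom)

/-- `v` as a point over `K` -/
abbrev vK : TK v ⟶ V := Over.homMk v rfl

/-- a point of `X` compatible with `v` as a point over `K` -/
abbrev xK (x : T ⟶ X.left) (hx : x ≫ X.hom = v ≫ V.hom) : TK v ⟶ X := Over.homMk x hx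

lemma hx_of_hv (x₀ : T ⟶ X.left) (hv : v ≫ π.left = x₀) : x₀ ≫ X.hom = v ≫ V.hom := by
  rw [← hv, Category.assoc, Over.w π]

lemma hx_of_h (x₀ x₁ : T ⟶ X.left) (h : x₀ ≫ f.left = x₁ ≫ f.left)
    (hx₀ : x₀ ≫ X.hom = v ≫ V.hom) : x₁ ≫ X.hom = v ≫ V.hom := by
  rw [← Over.w f, ← Category.assoc, ← h, Category.assoc, Over.w f, hx₀]

include hπ in
lemma t_hom (x₀ x₁ : T ⟶ X.left) (h : x₀ ≫ f.left = x₁ ≫ f.left) (hv : v ≫ π.left = x₀) :
    t a f hsq c π x₀ x₁ h v hv ≫ π.left = x₁ := by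
  have hx₀ := hx_of_hv π v x₀ hv
  have hx₁ := hx_of_h f v x₀ x₁ h hx₀
  have hvK : vK v ≫ π = xK v x₀ hx₀ := Over.OverMorphism.ext hv
  have e := t_eq a f hsq c π (xK v x₀ hx₀) (xK v x₁ hx₁) h (vK v) hvK
  have e2 : (lift (dv a f hsq (xK v x₁ hx₁) (xK v x₀ hx₀) h.symm) (vK v) ≫ c.act) ≫ π =
      xK v x₁ hx₁ := by
    rw [Category.assoc, hπ, lift_whiskerLeft_assoc, hvK, dv_act]
  have e3 := congrArg CommaMorphism.left e2
  exact (congrArg (fun m => m ≫ π.left) e).trans e3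

lemma t_self (x : T ⟶ X.left) (hv : v ≫ π.left = x) :
    t a f hsq c π x x rfl v hv = v := by
  have hx := hx_of_hv π v x hv
  have hvK : vK v ≫ π = xK v x hx := Over.OverMorphism.ext hv
  have e := t_eq a f hsq c π (xK v x hx) (xK v x hx) rfl (vK v) hvK
  have e2 : lift (dv a f hsq (xK v x hx) (xK v x hx) rfl) (vK v) ≫ c.act = vK v := by
    rw [dv_self, c.lift_one_act]
  exact e.trans (congrArg CommaMorphism.left e2)

lemma t_comp (x₀ x₁ x₂ : T ⟶ X.left) (h₀₁ : x₀ ≫ f.left = x₁ ≫ f.left)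
    (h₁₂ : x₁ ≫ f.left = x₂ ≫ f.left) (hv : v ≫ π.left = x₀) :
    t a f hsq c π x₁ x₂ h₁₂ (t a f hsq c π x₀ x₁ h₀₁ v hv)
      (t_hom a f hsq c π hπ v x₀ x₁ h₀₁ hv) =
      t a f hsq c π x₀ x₂ (h₀₁.trans h₁₂) v hv := by
  have hx₀ := hx_of_hv π v x₀ hv
  have hx₁ := hx_of_h f v x₀ x₁ h₀₁ hx₀
  have hx₂ := hx_of_h f v x₁ x₂ h₁₂ hx₁
  have hvK : vK v ≫ π = xK v x₀ hx₀ := Over.OverMorphism.ext hv
  have e01 := t_eq a f hsq c π (xK v x₀ hx₀) (xK v x₁ hx₁) h₀₁ (vK v) hvK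
  have e02 := t_eq a f hsq c π (xK v x₀ hx₀) (xK v x₂ hx₂) (h₀₁.trans h₁₂) (vK v) hvK
  have hv1 : (lift (dv a f hsq (xK v x₁ hx₁) (xK v x₀ hx₀) h₀₁.symm) (vK v) ≫ c.act) ≫ π =
      xK v x₁ hx₁ := by
    rw [Category.assoc, hπ, lift_whiskerLeft_assoc, hvK, dv_act]
  have e12 := t_eq a f hsq c π (xK v x₁ hx₁) (xK v x₂ hx₂) h₁₂
    (lift (dv a f hsq (xK v x₁ hx₁) (xK v x₀ hx₀) h₀₁.symm) (vK v) ≫ c.act) hv1
  have key : lift (dv a f hsq (xK v x₂ hx₂) (xK v x₁ hx₁) h₁₂.symm)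
      (lift (dv a f hsq (xK v x₁ hx₁) (xK v x₀ hx₀) h₀₁.symm) (vK v) ≫ c.act) ≫ c.act =
      lift (dv a f hsq (xK v x₂ hx₂) (xK v x₀ hx₀) (h₀₁.trans h₁₂).symm) (vK v) ≫ c.act := by
    rw [← c.lift_mul_act, dv_mul]
  calc t a f hsq c π x₁ x₂ h₁₂ (t a f hsq c π x₀ x₁ h₀₁ v hv) _
      = t a f hsq c π x₁ x₂ h₁₂
          (lift (dv a f hsq (xK v x₁ hx₁) (xK v x₀ hx₀) h₀₁.symm) (vK v) ≫ c.act).left
          (congrArg CommaMorphism.left hv1) :=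
        t_congr a f hsq c π rfl rfl e01 _ _ _ _
    _ = _ := e12
    _ = _ := congrArg CommaMorphism.left key
    _ = _ := e02.symm

end Axioms

/-- the descent datum on `V` relative to the torsor `f` -/
def assocDD : Desc.SchDD f.left :=
  DescAff.mkDD (Over.mk π.left)
    (fun _ x₀ x₁ h v hv => t a f hsq c π x₀ x₁ h v hv)
    (fun _ x₀ x₁ h v hv => t_hom a f hsq c π hπ v x₀ x₁ h hv)
    (fun _ _ g x₀ x₁ h v hv h' hv' => t_nat a f hsq c π g x₀ x₁ h v hv h' hv')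
    (fun _ x v hv => t_self a f hsq c π v x hv)
    (fun _ x₀ x₁ x₂ h₀₁ h₁₂ v hv => t_comp a f hsq c π hπ v x₀ x₁ x₂ h₀₁ h₁₂ hv)

lemma assocDD_obj : (assocDD a f hsq c π hπ).obj = Over.mk π.left := rfl

lemma tr_assocDD {T : Scheme.{u}} (x₀ x₁ : T ⟶ X.left) (h : x₀ ≫ f.left = x₁ ≫ f.left)
    (v : T ⟶ V.left) (hv : v ≫ π.left = x₀) :
    DDGrpd.tr (assocDD a f hsq c π hπ) x₀ x₁ h v hv = t a f hsq c π x₀ x₁ h v hv := rfl

end

end Groth.Agent.Helper8.AssocBun
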