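import Mathlib
import Groth.Prelude.Def_W4bk4git07Quot

/-!
# A geometric quotient by a group scheme over a field is universally open
-/

set_option autoImplicit false
universe u

namespace Groth.Agent.Helper8.GeomQuotOpen

open CategoryTheory CategoryTheory.Limits MonoidalCategory CartesianMonoidalCategory MonObj GrpObj
  AlgebraicGeometry Topology

section General

variable {GX X Y : Scheme.{u}} (s t : GX ⟶ X) (φ : X ⟶ Y) (hinv : t ≫ φ = s ≫ φ)

/-- the map `(t, s) : GX ⟶ X ×_Y X` -/
noncomputable def Psi : GX ⟶ pullback φ φ := pullback.lift t s hinv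

variable {X' Y' : Scheme.{u}} (i₁ : X' ⟶ X) (i₂ : Y' ⟶ Y) (f' : X' ⟶ Y')
  (hpb : IsPullback f' i₁ i₂ φ)

/-- the comparison `X' ×_{Y'} X' ⟶ X ×_Y X` -/
noncomputable def mapR : pullback f' f' ⟶ pullback φ φ :=
  pullback.map f' f' φ φ i₁ i₁ i₂ hpb.w hpb.w

include hpb in
/-- `X' ×_{Y'} X' = (X ×_Y X) ×_X X'` via the second projections -/
theorem isPullback_snd :
    IsPullback (pullback.snd f' f') (mapR φ i₁ i₂ f' hpb) i₁ (pullback.snd φ φ) := by
  have hL : IsPullback (pullback.fst f' f') (pullback.snd f' f') f' f' :=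
    IsPullback.of_hasPullback f' f'
  have hR : IsPullback i₁ f' φ i₂ := hpb.flip
  have hout : IsPullback (pullback.fst f' f' ≫ i₁) (pullback.snd f' f') φ (f' ≫ i₂) :=
    hL.paste_horiz hR
  have e1 : pullback.fst f' f' ≫ i₁ = mapR φ i₁ i₂ f' hpb ≫ pullback.fst φ φ := by
    simp [mapR, pullback.lift_fst]
  have e2 : f' ≫ i₂ = i₁ ≫ φ := hpb.w
  rw [e1, e2] at hout
  have hright : IsPullback (pullback.fst φ φ) (pullback.snd φ φ) φ φ :=
    IsPullback.of_hasPullback φ φ
  have p : mapR φ i₁ i₂ f' hpb ≫ pullback.snd φ φ = pullback.snd f' f' ≫ i₁ := by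
    simp [mapR, pullback.lift_snd]
  exact (IsPullback.of_right hout p hright).flip

/-- `G × X'` -/
noncomputable abbrev GX' : Scheme.{u} := pullback s i₁

/-- the induced action map `G × X' ⟶ X'` -/
noncomputable def act' : GX' s i₁ ⟶ X' :=
  hpb.lift (pullback.snd s i₁ ≫ f') (pullback.fst s i₁ ≫ t) (by
    rw [Category.assoc, Category.assoc, hinv, hpb.w, ← Category.assoc, ← Category.assoc,
      pullback.condition])

theorem act'_f' : act' s t φ hinv i₁ i₂ f' hpb ≫ f' = pullback.snd s i₁ ≫ f' :=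
  hpb.lift_fst _ _ _

theorem act'_i₁ : act' s t φ hinv i₁ i₂ f' hpb ≫ i₁ = pullback.fst s i₁ ≫ t :=
  hpb.lift_snd _ _ _

/-- the base change of `Psi` -/
noncomputable def Psi' : GX' s i₁ ⟶ pullback f' f' :=
  pullback.lift (act' s t φ hinv i₁ i₂ f' hpb) (pullback.snd s i₁) (act'_f' s t φ hinv i₁ i₂ f' hpb)

theorem isPullback_Psi' :
    IsPullback (Psi' s t φ hinv i₁ i₂ f' hpb) (pullback.fst s i₁) (mapR φ i₁ i₂ f' hpb)
      (Psi s t φ hinv) := by
  have t1 : IsPullback (Psi' s t φ hinv i₁ i₂ f' hpb ≫ pullback.snd f' f') (pullback.fst s i₁) i₁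
      (Psi s t φ hinv ≫ pullback.snd φ φ) := by
    have e1 : Psi' s t φ hinv i₁ i₂ f' hpb ≫ pullback.snd f' f' = pullback.snd s i₁ := by
      simp [Psi', pullback.lift_snd]
    have e2 : Psi s t φ hinv ≫ pullback.snd φ φ = s := by simp [Psi, pullback.lift_snd]
    rw [e1, e2]
    exact (IsPullback.of_hasPullback s i₁).flip
  refine IsPullback.of_right t1 ?_ (isPullback_snd φ i₁ i₂ f' hpb)
  apply pullback.hom_ext
  · simp only [Category.assoc, mapR, pullback.lift_fst, Psi', Psi]
    rw [pullback.lift_fst_assoc]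
    exact act'_i₁ s t φ hinv i₁ i₂ f' hpb
  · simp only [Category.assoc, mapR, pullback.lift_snd, Psi', Psi]
    rw [pullback.lift_snd_assoc]
    exact pullback.condition.symm

/-- every pair of points of `X'` with the same image is the image of a point of `G × X'` -/
theorem exists_point (hsurj : Function.Surjective (Psi s t φ hinv)) (o x' : X')
    (h : f' o = f' x') :
    ∃ w : ↥(GX' s i₁), act' s t φ hinv i₁ i₂ f' hpb w = o ∧ pullback.snd s i₁ w = x' := by
  haveI : Surjective (Psi s t φ hinv) := ⟨hsurj⟩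
  have hS : Surjective (Psi' s t φ hinv i₁ i₂ f' hpb) :=
    MorphismProperty.of_isPullback (P := @Surjective) (isPullback_Psi' s t φ hinv i₁ i₂ f' hpb).flip
      inferInstance
  obtain ⟨r, hr1, hr2⟩ := Scheme.Pullback.exists_preimage_pullback (f := f') (g := f') o x' h
  obtain ⟨w, hw⟩ := hS.surj r
  refine ⟨w, ?_, ?_⟩
  · rw [← hr1, ← hw, ← Scheme.Hom.comp_apply]
    congr 2
    simp [Psi', pullback.lift_fst]
  · rw [← hr2, ← hw, ← Scheme.Hom.comp_apply]
    congr 2
    simp [Psi', pullback.lift_snd]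

include i₁ i₂ hpb in
/-- the base change is an open map -/
theorem isOpenMap_of_quotient [UniversallyOpen s] (hsurj : Function.Surjective (Psi s t φ hinv))
    (hq : IsQuotientMap f') : IsOpenMap f' := by
  intro O hO
  rw [← hq.isOpen_preimage]
  have hset : f' ⁻¹' (f' '' O) =
      pullback.snd s i₁ '' (act' s t φ hinv i₁ i₂ f' hpb ⁻¹' O) := by
    ext x'
    constructor
    · rintro ⟨o, ho, hox⟩
      obtain ⟨w, hw1, hw2⟩ := exists_point s t φ hinv i₁ i₂ f' hpb hsurj o x' hox
      exact ⟨w, by rw [Set.mem_preimage, hw1]; exact ho, hw2⟩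
    · rintro ⟨w, hw, rfl⟩
      refine ⟨act' s t φ hinv i₁ i₂ f' hpb w, hw, ?_⟩
      rw [← Scheme.Hom.comp_apply, ← Scheme.Hom.comp_apply, act'_f']
  rw [hset]
  exact (pullback.snd s i₁).isOpenMap _ (hO.preimage (act' s t φ hinv i₁ i₂ f' hpb).continuous)

end General

/-- Main statement. -/
theorem main (k : Type u) [Field k] (G X Y : Over (Spec (CommRingCat.of k))) [GrpObj G]
    (a : AlgGrp.Action G X) (φ : X ⟶ Y) (h : GIT.IsGeomQuot a φ) : UniversallyOpen φ.left := by
  haveI : Subsingleton ↥(Spec (CommRingCat.of k)) :=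
    inferInstanceAs (Subsingleton (PrimeSpectrum k))
  haveI : UniversallyOpen G.hom := inferInstance
  haveI : UniversallyOpen (snd G X).left :=
    inferInstanceAs (UniversallyOpen (pullback.snd G.hom X.hom))
  refine ⟨fun X' Y' i₁ i₂ f' hpb => ?_⟩
  have hq : IsQuotientMap f' := h.subm i₁ i₂ f' hpb
  exact isOpenMap_of_quotient (snd G X).left a.act.left φ.left h.inv.left i₁ i₂ f' hpb h.orbit hq

end Groth.Agent.Helper8.GeomQuotOpen
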