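import Mathlib
import Groth.Prelude.Def_W4bk4git07Quot
import Groth.Agent.Helper8.A1Dict

/-!
# A principal bundle is a geometric quotient with free action
-/

set_option autoImplicit false
universe u

namespace Groth.Agent.Helper8.PrincBundle

open CategoryTheory CategoryTheory.Limits MonoidalCategory CartesianMonoidalCategory MonObj GrpObj
  AlgebraicGeometry Topology

theorem appLE_congr_hom {X Y : Scheme.{u}} {f g : X ⟶ Y} (h : f = g) (U : Y.Opens) (W : X.Opens)
    (e : W ≤ f ⁻¹ᵁ U) (e' : W ≤ g ⁻¹ᵁ U) : f.appLE U W e = g.appLE U W e' := by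
  subst h; rfl

section General

variable {GX X Y : Scheme.{u}} (s t : GX ⟶ X) (φ : X ⟶ Y) (hinv : t ≫ φ = s ≫ φ)

/-- the invariance condition on a section -/
def IsInvSec (U : Y.Opens) (f : Γ(X, φ ⁻¹ᵁ U)) : Prop :=
  (t.appLE (φ ⁻¹ᵁ U) (t ⁻¹ᵁ (φ ⁻¹ᵁ U) ⊓ s ⁻¹ᵁ (φ ⁻¹ᵁ U)) inf_le_left).hom f =
    (s.appLE (φ ⁻¹ᵁ U) (t ⁻¹ᵁ (φ ⁻¹ᵁ U) ⊓ s ⁻¹ᵁ (φ ⁻¹ᵁ U)) inf_le_right).hom f

include hinv in
theorem isInvSec_app (U : Y.Opens) (y : Γ(Y, U)) : IsInvSec s t φ U ((φ.app U).hom y) := by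
  unfold IsInvSec
  rw [Scheme.Hom.app_eq_appLE]
  change (φ.appLE U (φ ⁻¹ᵁ U) le_rfl ≫ t.appLE (φ ⁻¹ᵁ U) _ inf_le_left).hom y =
    (φ.appLE U (φ ⁻¹ᵁ U) le_rfl ≫ s.appLE (φ ⁻¹ᵁ U) _ inf_le_right).hom y
  rw [Scheme.Hom.appLE_comp_appLE, Scheme.Hom.appLE_comp_appLE]
  exact congrArg (fun F => (CommRingCat.Hom.hom F) y) (appLE_congr_hom hinv _ _ _ _)

include hinv in
theorem exists_of_isInvSec [IsIso (pullback.lift t s hinv)] [Flat φ] [Surjective φ]
    [QuasiCompact φ] (U : Y.Opens) (f : Γ(X, φ ⁻¹ᵁ U)) (hf : IsInvSec s t φ U f) :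
    ∃ y : Γ(Y, U), (φ.app U).hom y = f := by
  apply A1Dict.exists_app_eq_of_fpqc φ U f
  intro Z g₁ g₂ e₁ e₂ h
  let gam : Z ⟶ GX := pullback.lift g₁ g₂ h ≫ inv (pullback.lift t s hinv)
  have hgamt : gam ≫ t = g₁ := by
    have h1 : inv (pullback.lift t s hinv) ≫ t = pullback.fst φ φ := by
      rw [IsIso.inv_comp_eq, pullback.lift_fst]
    change (pullback.lift g₁ g₂ h ≫ inv (pullback.lift t s hinv)) ≫ t = g₁
    rw [Category.assoc, h1, pullback.lift_fst]
  have hgams : gam ≫ s = g₂ := by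
    have h1 : inv (pullback.lift t s hinv) ≫ s = pullback.snd φ φ := by
      rw [IsIso.inv_comp_eq, pullback.lift_snd]
    change (pullback.lift g₁ g₂ h ≫ inv (pullback.lift t s hinv)) ≫ s = g₂
    rw [Category.assoc, h1, pullback.lift_snd]
  have eW : (⊤ : Z.Opens) ≤ gam ⁻¹ᵁ (t ⁻¹ᵁ (φ ⁻¹ᵁ U) ⊓ s ⁻¹ᵁ (φ ⁻¹ᵁ U)) := by
    intro z _
    constructor
    · change t (gam z) ∈ φ ⁻¹ᵁ U
      rw [← Scheme.Hom.comp_apply, hgamt]
      exact e₁ (by trivial : z ∈ (⊤ : Z.Opens))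
    · change s (gam z) ∈ φ ⁻¹ᵁ U
      rw [← Scheme.Hom.comp_apply, hgams]
      exact e₂ (by trivial : z ∈ (⊤ : Z.Opens))
  have k1 : g₁.appLE (φ ⁻¹ᵁ U) ⊤ e₁ =
      t.appLE (φ ⁻¹ᵁ U) _ inf_le_left ≫ gam.appLE _ ⊤ eW := by
    rw [Scheme.Hom.appLE_comp_appLE]
    exact appLE_congr_hom hgamt.symm _ _ _ _
  have k2 : g₂.appLE (φ ⁻¹ᵁ U) ⊤ e₂ =
      s.appLE (φ ⁻¹ᵁ U) _ inf_le_right ≫ gam.appLE _ ⊤ eW := by
    rw [Scheme.Hom.appLE_comp_appLE]
    exact appLE_congr_hom hgams.symm _ _ _ _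
  rw [k1, k2]
  exact congrArg (gam.appLE _ ⊤ eW).hom hf

theorem isUnivSubmersive_of_flat [Flat φ] [Surjective φ] [LocallyOfFinitePresentation φ] :
    GIT.IsUnivSubmersive φ := by
  intro X' Y' i₁ i₂ f' hpb
  haveI : Surjective f' := MorphismProperty.of_isPullback (P := @Surjective) hpb.flip inferInstance
  haveI : UniversallyOpen f' :=
    MorphismProperty.of_isPullback (P := @UniversallyOpen) hpb.flip inferInstance
  exact IsOpenMap.isQuotientMap f'.isOpenMap f'.continuous f'.surjective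

theorem isClosedImmersion_map {X Y S : Scheme.{u}} (φ : X ⟶ Y) (p : Y ⟶ S) (q : X ⟶ S)
    (hq : φ ≫ p = q) [IsSeparated p] :
    IsClosedImmersion (pullback.map φ φ q q (𝟙 X) (𝟙 X) p (by rw [Category.id_comp, hq])
      (by rw [Category.id_comp, hq])) := by
  subst hq
  exact MorphismProperty.of_isPullback (P := @IsClosedImmersion)
    (pullback_map_diagonal_isPullback φ φ p) inferInstance

end General

/-- Main statement. -/
theorem main (k : Type u) [Field k]
    (G X Y : Over (Spec (CommRingCat.of k))) [GrpObj G] [IsAffine G.left]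
    [LocallyOfFiniteType G.hom]
    [LocallyOfFiniteType X.hom] [QuasiCompact X.hom] [IsSeparated X.hom]
    [LocallyOfFiniteType Y.hom] [QuasiCompact Y.hom] [IsSeparated Y.hom]
    (a : AlgGrp.Action G X) (φ : X ⟶ Y) (hinv : GIT.IsInvariant a φ) [Flat φ.left]
    [Surjective φ.left]
    (hcart : IsIso (GIT.PsiY a φ hinv)) :
    GIT.IsGeomQuot a φ ∧ IsClosedImmersion (GIT.psi a (𝟙 X)).left := by
  have hw : φ.left ≫ Y.hom = X.hom := Over.w φ
  haveI : QuasiCompact (φ.left ≫ Y.hom) := by rw [hw]; infer_instance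
  haveI : QuasiCompact φ.left := QuasiCompact.of_comp φ.left Y.hom
  haveI : LocallyOfFiniteType (φ.left ≫ Y.hom) := by rw [hw]; infer_instance
  haveI : LocallyOfFiniteType φ.left := locallyOfFiniteType_of_comp φ.left Y.hom
  haveI : IsLocallyNoetherian Y.left := LocallyOfFiniteType.isLocallyNoetherian Y.hom
  haveI : LocallyOfFinitePresentation φ.left := inferInstance
  haveI : IsIso (pullback.lift a.act.left (snd G X).left hinv.left) := hcart
  refine ⟨⟨hinv, φ.left.surjective, ?_, isUnivSubmersive_of_flat φ.left, fun U => ⟨?_, ?_⟩⟩, ?_⟩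
  · exact (GIT.PsiY a φ hinv).surjective
  · exact A1Dict.injective_app_of_flat_surjective φ.left U
  · ext f
    constructor
    · rintro ⟨y, rfl⟩
      exact isInvSec_app (snd G X).left a.act.left φ.left hinv.left U y
    · intro hf
      exact exists_of_isInvSec (snd G X).left a.act.left φ.left hinv.left U f hf
  · have e1 : (GIT.psi a (𝟙 X)).left ≫ pullback.fst X.hom X.hom = a.act.left := by
      have h := congrArg CommaMorphism.left (lift_fst ((G ◁ 𝟙 X) ≫ a.act) (snd G X))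
      have h2 : ((G ◁ 𝟙 X) ≫ a.act).left = a.act.left := by
        rw [MonoidalCategory.whiskerLeft_id, Category.id_comp]
      exact h.trans h2
    have e2 : (GIT.psi a (𝟙 X)).left ≫ pullback.snd X.hom X.hom = (snd G X).left := by
      have h := congrArg CommaMorphism.left (lift_snd ((G ◁ 𝟙 X) ≫ a.act) (snd G X))
      exact h
    have hpsi : (GIT.psi a (𝟙 X)).left =
        GIT.PsiY a φ hinv ≫ pullback.map φ.left φ.left X.hom X.hom (𝟙 _) (𝟙 _) Y.hom
          (by rw [Category.id_comp, hw]) (by rw [Category.id_comp, hw]) := by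
      refine pullback.hom_ext (f := X.hom) (g := X.hom) ?_ ?_
      · rw [e1, Category.assoc, pullback.lift_fst, Category.comp_id]
        exact (pullback.lift_fst _ _ _).symm
      · rw [e2, Category.assoc, pullback.lift_snd, Category.comp_id]
        exact (pullback.lift_snd _ _ _).symm
    rw [hpsi]
    haveI := isClosedImmersion_map φ.left Y.hom X.hom hw
    infer_instance

end Groth.Agent.Helper8.PrincBundle
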