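import Mathlib
import Groth.Prelude.Def_W4bk4git07Quot
import Groth.Agent.Helper8.A1Dict
import Groth.Agent.Helper8.PrincBundle
import Groth.Agent.Helper8.GeomQuotOpen

/-!
# Geometric quotients descend along fpqc base change
-/

set_option autoImplicit false
universe u

namespace Groth.Agent.Helper8.GQDesc

open CategoryTheory CategoryTheory.Limits AlgebraicGeometry Topology
open Groth.Agent.Helper8.PrincBundle (IsInvSec appLE_congr_hom)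

/-- scheme-level version of a geometric quotient -/
structure IsGQ {GX X Y : Scheme.{u}} (s t : GX ⟶ X) (φ : X ⟶ Y) (hinv : t ≫ φ = s ≫ φ) : Prop where
  surj : Function.Surjective φ
  orbit : Function.Surjective (pullback.lift t s hinv)
  subm : GIT.IsUnivSubmersive φ
  inj : ∀ U : Y.Opens, Function.Injective (φ.app U).hom
  range : ∀ (U : Y.Opens) (f : Γ(X, φ ⁻¹ᵁ U)), IsInvSec s t φ U f → ∃ y, (φ.app U).hom y = f

section Translate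

open MonoidalCategory CartesianMonoidalCategory MonObj

theorem isGeomQuot_iff {S : Scheme.{u}} {G X Y : Over S} [GrpObj G] (a : AlgGrp.Action G X)
    (φ : X ⟶ Y) (hinv : GIT.IsInvariant a φ) :
    GIT.IsGeomQuot a φ ↔ IsGQ (snd G X).left a.act.left φ.left hinv.left := by
  constructor
  · intro h
    refine ⟨h.surj, h.orbit, h.subm, fun U => (h.sections U).1, fun U f hf => ?_⟩
    have h1 : f ∈ Set.range (φ.left.app U) := by
      rw [(h.sections U).2]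
      exact hf
    exact h1
  · intro h
    refine ⟨hinv, h.surj, h.orbit, h.subm, fun U => ⟨h.inj U, ?_⟩⟩
    ext f
    constructor
    · rintro ⟨y, rfl⟩
      exact PrincBundle.isInvSec_app _ _ _ hinv.left U y
    · intro hf
      exact h.range U f hf

end Translate

theorem isSchemeTheoreticallyDominant_of_injective {X Y : Scheme.{u}} (f : X ⟶ Y) [QuasiCompact f]
    (h : ∀ U : Y.Opens, Function.Injective (f.app U).hom) : IsSchemeTheoreticallyDominant f := by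
  refine ⟨Scheme.IdealSheafData.ext ?_⟩
  funext U
  rw [Scheme.Hom.ker_apply, Scheme.IdealSheafData.ideal_bot, Pi.bot_apply]
  exact (RingHom.injective_iff_ker_eq_bot _).mp (h U.1)

theorem appLE_injective_of_eq {X Y : Scheme.{u}} (f : X ⟶ Y) (U : Y.Opens) (W : X.Opens)
    (e : W ≤ f ⁻¹ᵁ U) (e' : f ⁻¹ᵁ U ≤ W)
    (h : Function.Injective (f.app U).hom) : Function.Injective (f.appLE U W e).hom := by
  obtain rfl : W = f ⁻¹ᵁ U := le_antisymm e e'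
  rw [Scheme.Hom.appLE_eq_app]
  exact h

theorem preimage_le_of_comm {A B C D : Scheme.{u}} (p : A ⟶ B) (q : B ⟶ D) (p' : A ⟶ C)
    (q' : C ⟶ D) (h : p ≫ q = p' ≫ q') (U : D.Opens) :
    p ⁻¹ᵁ (q ⁻¹ᵁ U) ≤ p' ⁻¹ᵁ (q' ⁻¹ᵁ U) := by
  rw [← Scheme.Hom.comp_preimage, ← Scheme.Hom.comp_preimage, h]

section Desc

variable {GX X Y GX' X' Y' : Scheme.{u}} (s t : GX ⟶ X) (φ : X ⟶ Y) (hinv : t ≫ φ = s ≫ φ)
  (s' t' : GX' ⟶ X') (φ' : X' ⟶ Y') (hinv' : t' ≫ φ' = s' ≫ φ')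
  (α : Y' ⟶ Y) (pr : X' ⟶ X) (gp : GX' ⟶ GX)
  (hpb : IsPullback pr φ' φ α) (ht : t' ≫ pr = gp ≫ t) (hs : s' ≫ pr = gp ≫ s)

include hpb in
theorem surj_desc [Surjective α] (h : Function.Surjective φ') : Function.Surjective φ := by
  intro y
  obtain ⟨y', rfl⟩ := α.surjective y
  obtain ⟨x', rfl⟩ := h y'
  refine ⟨pr x', ?_⟩
  rw [← Scheme.Hom.comp_apply, ← Scheme.Hom.comp_apply, hpb.w]

include hpb ht hs in
theorem orbit_desc [Surjective α] (h : Function.Surjective (pullback.lift t' s' hinv')) :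
    Function.Surjective (pullback.lift t s hinv) := by
  have hpr : Surjective pr :=
    MorphismProperty.of_isPullback (P := @Surjective) hpb.flip inferInstance
  have hmapR : Surjective (GeomQuotOpen.mapR φ pr α φ' hpb.flip) :=
    MorphismProperty.of_isPullback (P := @Surjective)
      (GeomQuotOpen.isPullback_snd φ pr α φ' hpb.flip) hpr
  have hcomm : gp ≫ pullback.lift t s hinv =
      pullback.lift t' s' hinv' ≫ GeomQuotOpen.mapR φ pr α φ' hpb.flip := by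
    apply pullback.hom_ext
    · simp only [Category.assoc, GeomQuotOpen.mapR, pullback.lift_fst]
      rw [pullback.lift_fst_assoc, ht]
    · simp only [Category.assoc, GeomQuotOpen.mapR, pullback.lift_snd]
      rw [pullback.lift_snd_assoc, hs]
  intro z
  obtain ⟨z', rfl⟩ := hmapR.surj z
  obtain ⟨w', rfl⟩ := h z'
  refine ⟨gp w', ?_⟩
  rw [← Scheme.Hom.comp_apply, ← Scheme.Hom.comp_apply, hcomm]

include hpb in
theorem subm_desc [Flat α] [Surjective α] [QuasiCompact α] (h : GIT.IsUnivSubmersive φ') :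
    GIT.IsUnivSubmersive φ := by
  intro X₁ Y₁ i₁ i₂ g hg
  have hA : IsPullback (pullback.fst g (pullback.fst i₂ α)) (pullback.snd g (pullback.fst i₂ α)) g
      (pullback.fst i₂ α) := IsPullback.of_hasPullback g (pullback.fst i₂ α)
  have hB : IsPullback i₁ g φ i₂ := hg.flip
  have hAB : IsPullback (pullback.fst g (pullback.fst i₂ α) ≫ i₁)
      (pullback.snd g (pullback.fst i₂ α)) φ (pullback.fst i₂ α ≫ i₂) := hA.paste_horiz hB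
  have hcond : pullback.fst i₂ α ≫ i₂ = pullback.snd i₂ α ≫ α := pullback.condition
  have hl : (pullback.fst g (pullback.fst i₂ α) ≫ i₁) ≫ φ =
      (pullback.snd g (pullback.fst i₂ α) ≫ pullback.snd i₂ α) ≫ α := by
    rw [hAB.w, hcond, Category.assoc]
  have hl1 : hpb.lift _ _ hl ≫ pr = pullback.fst g (pullback.fst i₂ α) ≫ i₁ :=
    hpb.lift_fst _ _ _
  have hl2 : hpb.lift _ _ hl ≫ φ' = pullback.snd g (pullback.fst i₂ α) ≫ pullback.snd i₂ α :=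
    hpb.lift_snd _ _ _
  have hAB' : IsPullback (hpb.lift _ _ hl ≫ pr) (pullback.snd g (pullback.fst i₂ α)) φ
      (pullback.snd i₂ α ≫ α) := by
    rw [hl1, ← hcond]
    exact hAB
  have hL : IsPullback (hpb.lift _ _ hl) (pullback.snd g (pullback.fst i₂ α)) φ'
      (pullback.snd i₂ α) := IsPullback.of_right hAB' hl2 hpb
  have hq1 : IsQuotientMap (pullback.snd g (pullback.fst i₂ α)) := h _ _ _ hL.flip
  have hq2 : IsQuotientMap (pullback.fst i₂ α) := Flat.isQuotientMap_of_surjective _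
  have hfun : (⇑g ∘ ⇑(pullback.fst g (pullback.fst i₂ α))) =
      ⇑(pullback.fst i₂ α) ∘ ⇑(pullback.snd g (pullback.fst i₂ α)) := by
    ext x
    rw [Function.comp_apply, Function.comp_apply, ← Scheme.Hom.comp_apply,
      ← Scheme.Hom.comp_apply, pullback.condition]
  have hq3 : IsQuotientMap (⇑g ∘ ⇑(pullback.fst g (pullback.fst i₂ α))) := by
    rw [hfun]
    exact hq2.comp hq1
  exact IsQuotientMap.of_comp (pullback.fst g (pullback.fst i₂ α)).continuous g.continuous hq3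

omit hpb in
theorem preimage_le (hw : pr ≫ φ = φ' ≫ α) (U : Y.Opens) :
    φ' ⁻¹ᵁ (α ⁻¹ᵁ U) ≤ pr ⁻¹ᵁ (φ ⁻¹ᵁ U) := by
  rw [← Scheme.Hom.comp_preimage, ← Scheme.Hom.comp_preimage, hw]

theorem preimage_ge (hw : pr ≫ φ = φ' ≫ α) (U : Y.Opens) :
    pr ⁻¹ᵁ (φ ⁻¹ᵁ U) ≤ φ' ⁻¹ᵁ (α ⁻¹ᵁ U) := by
  rw [← Scheme.Hom.comp_preimage, ← Scheme.Hom.comp_preimage, hw]

theorem app_comm (hw : pr ≫ φ = φ' ≫ α) (U : Y.Opens)
    (e : φ' ⁻¹ᵁ (α ⁻¹ᵁ U) ≤ pr ⁻¹ᵁ (φ ⁻¹ᵁ U)) :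
    φ.app U ≫ pr.appLE (φ ⁻¹ᵁ U) (φ' ⁻¹ᵁ (α ⁻¹ᵁ U)) e = α.app U ≫ φ'.app (α ⁻¹ᵁ U) := by
  rw [Scheme.Hom.app_eq_appLE (f := φ), Scheme.Hom.app_eq_appLE (f := α),
    Scheme.Hom.app_eq_appLE (f := φ'), Scheme.Hom.appLE_comp_appLE, Scheme.Hom.appLE_comp_appLE]
  exact appLE_congr_hom hw _ _ _ _

include hpb in
theorem inj_desc [Flat α] [Surjective α]
    (h : ∀ U' : Y'.Opens, Function.Injective (φ'.app U').hom) (U : Y.Opens) :
    Function.Injective (φ.app U).hom := by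
  intro y₁ y₂ h12
  apply A1Dict.injective_app_of_flat_surjective α U
  apply h (α ⁻¹ᵁ U)
  have key := app_comm φ φ' α pr hpb.w U (preimage_le φ φ' α pr hpb.w U)
  have k1 : (pr.appLE _ _ (preimage_le φ φ' α pr hpb.w U)).hom ((φ.app U).hom y₁) =
      (φ'.app (α ⁻¹ᵁ U)).hom ((α.app U).hom y₁) := congrArg (fun F => F.hom y₁) key
  have k2 : (pr.appLE _ _ (preimage_le φ φ' α pr hpb.w U)).hom ((φ.app U).hom y₂) =
      (φ'.app (α ⁻¹ᵁ U)).hom ((α.app U).hom y₂) := congrArg (fun F => F.hom y₂) key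
  rw [← k1, ← k2, h12]

theorem isInvSec_pullback (hw : pr ≫ φ = φ' ≫ α) (ht : t' ≫ pr = gp ≫ t)
    (hs : s' ≫ pr = gp ≫ s) (U : Y.Opens) (f : Γ(X, φ ⁻¹ᵁ U)) (hf : IsInvSec s t φ U f) :
    IsInvSec s' t' φ' (α ⁻¹ᵁ U)
      ((pr.appLE (φ ⁻¹ᵁ U) (φ' ⁻¹ᵁ (α ⁻¹ᵁ U)) (preimage_le φ φ' α pr hw U)).hom f) := by
  have eW := preimage_le φ φ' α pr hw U
  have eg : t' ⁻¹ᵁ (φ' ⁻¹ᵁ (α ⁻¹ᵁ U)) ⊓ s' ⁻¹ᵁ (φ' ⁻¹ᵁ (α ⁻¹ᵁ U)) ≤
      gp ⁻¹ᵁ (t ⁻¹ᵁ (φ ⁻¹ᵁ U) ⊓ s ⁻¹ᵁ (φ ⁻¹ᵁ U)) := by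
    intro x hx
    constructor
    · change t (gp x) ∈ φ ⁻¹ᵁ U
      rw [← Scheme.Hom.comp_apply, ← ht, Scheme.Hom.comp_apply]
      exact eW hx.1
    · change s (gp x) ∈ φ ⁻¹ᵁ U
      rw [← Scheme.Hom.comp_apply, ← hs, Scheme.Hom.comp_apply]
      exact eW hx.2
  have kt : pr.appLE (φ ⁻¹ᵁ U) (φ' ⁻¹ᵁ (α ⁻¹ᵁ U)) eW ≫
      t'.appLE (φ' ⁻¹ᵁ (α ⁻¹ᵁ U)) _ inf_le_left =
      t.appLE (φ ⁻¹ᵁ U) _ inf_le_left ≫ gp.appLE _ _ eg := by
    rw [Scheme.Hom.appLE_comp_appLE, Scheme.Hom.appLE_comp_appLE]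
    exact appLE_congr_hom ht _ _ _ _
  have ks : pr.appLE (φ ⁻¹ᵁ U) (φ' ⁻¹ᵁ (α ⁻¹ᵁ U)) eW ≫
      s'.appLE (φ' ⁻¹ᵁ (α ⁻¹ᵁ U)) _ inf_le_right =
      s.appLE (φ ⁻¹ᵁ U) _ inf_le_right ≫ gp.appLE _ _ eg := by
    rw [Scheme.Hom.appLE_comp_appLE, Scheme.Hom.appLE_comp_appLE]
    exact appLE_congr_hom hs _ _ _ _
  unfold IsInvSec
  change (pr.appLE (φ ⁻¹ᵁ U) (φ' ⁻¹ᵁ (α ⁻¹ᵁ U)) eW ≫
      t'.appLE (φ' ⁻¹ᵁ (α ⁻¹ᵁ U)) _ inf_le_left).hom f =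
    (pr.appLE (φ ⁻¹ᵁ U) (φ' ⁻¹ᵁ (α ⁻¹ᵁ U)) eW ≫
      s'.appLE (φ' ⁻¹ᵁ (α ⁻¹ᵁ U)) _ inf_le_right).hom f
  rw [kt, ks]
  exact congrArg (gp.appLE _ _ eg).hom hf

include hpb in
/-- the cocycle condition for the section `g'` -/
theorem cocycle [Flat α] [QuasiCompact φ']
    (hinj : ∀ U' : Y'.Opens, Function.Injective (φ'.app U').hom)
    (U : Y.Opens) (f : Γ(X, φ ⁻¹ᵁ U)) (g' : Γ(Y', α ⁻¹ᵁ U))
    (hg' : (φ'.app (α ⁻¹ᵁ U)).hom g' =
      (pr.appLE (φ ⁻¹ᵁ U) (φ' ⁻¹ᵁ (α ⁻¹ᵁ U)) (preimage_le φ φ' α pr hpb.w U)).hom f)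
    (e₂ : pullback.fst α α ⁻¹ᵁ (α ⁻¹ᵁ U) ≤ pullback.snd α α ⁻¹ᵁ (α ⁻¹ᵁ U)) :
    ((pullback.fst α α).appLE (α ⁻¹ᵁ U) (pullback.fst α α ⁻¹ᵁ (α ⁻¹ᵁ U)) le_rfl).hom g' =
      ((pullback.snd α α).appLE (α ⁻¹ᵁ U) (pullback.fst α α ⁻¹ᵁ (α ⁻¹ᵁ U)) e₂).hom g' := by
  haveI : IsSchemeTheoreticallyDominant φ' := isSchemeTheoreticallyDominant_of_injective φ' hinj
  haveI : IsSchemeTheoreticallyDominant (pullback.snd φ' (pullback.fst α α)) := inferInstance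
  have hφ''inj := (pullback.snd φ' (pullback.fst α α)).app_injective
    (pullback.fst α α ⁻¹ᵁ (α ⁻¹ᵁ U))
  have eW := preimage_le φ φ' α pr hpb.w U
  -- the second map `X'' ⟶ X'`
  have hr : (pullback.fst φ' (pullback.fst α α) ≫ pr) ≫ φ =
      (pullback.snd φ' (pullback.fst α α) ≫ pullback.snd α α) ≫ α := by
    rw [Category.assoc, hpb.w, ← Category.assoc, pullback.condition, Category.assoc,
      pullback.condition, Category.assoc]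
  have hr2pr : hpb.lift _ _ hr ≫ pr = pullback.fst φ' (pullback.fst α α) ≫ pr :=
    hpb.lift_fst _ _ _
  have hr2φ : hpb.lift _ _ hr ≫ φ' = pullback.snd φ' (pullback.fst α α) ≫ pullback.snd α α :=
    hpb.lift_snd _ _ _
  have hr1φ : pullback.fst φ' (pullback.fst α α) ≫ φ' =
      pullback.snd φ' (pullback.fst α α) ≫ pullback.fst α α := pullback.condition
  have er1 : pullback.snd φ' (pullback.fst α α) ⁻¹ᵁ (pullback.fst α α ⁻¹ᵁ (α ⁻¹ᵁ U)) ≤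
      pullback.fst φ' (pullback.fst α α) ⁻¹ᵁ (φ' ⁻¹ᵁ (α ⁻¹ᵁ U)) :=
    preimage_le_of_comm _ _ _ _ hr1φ.symm _
  have er2 : pullback.snd φ' (pullback.fst α α) ⁻¹ᵁ (pullback.fst α α ⁻¹ᵁ (α ⁻¹ᵁ U)) ≤
      (hpb.lift _ _ hr) ⁻¹ᵁ (φ' ⁻¹ᵁ (α ⁻¹ᵁ U)) := by
    refine le_trans ?_ (preimage_le_of_comm _ _ _ _ hr2φ.symm _)
    intro x hx
    exact e₂ hx
  have K1 : (pullback.fst α α).appLE (α ⁻¹ᵁ U) (pullback.fst α α ⁻¹ᵁ (α ⁻¹ᵁ U)) le_rfl ≫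
      (pullback.snd φ' (pullback.fst α α)).appLE (pullback.fst α α ⁻¹ᵁ (α ⁻¹ᵁ U)) _ le_rfl =
      φ'.appLE (α ⁻¹ᵁ U) (φ' ⁻¹ᵁ (α ⁻¹ᵁ U)) le_rfl ≫
        (pullback.fst φ' (pullback.fst α α)).appLE _ _ er1 := by
    rw [Scheme.Hom.appLE_comp_appLE, Scheme.Hom.appLE_comp_appLE]
    exact appLE_congr_hom hr1φ.symm _ _ _ _
  have K2 : (pullback.snd α α).appLE (α ⁻¹ᵁ U) (pullback.fst α α ⁻¹ᵁ (α ⁻¹ᵁ U)) e₂ ≫
      (pullback.snd φ' (pullback.fst α α)).appLE (pullback.fst α α ⁻¹ᵁ (α ⁻¹ᵁ U)) _ le_rfl =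
      φ'.appLE (α ⁻¹ᵁ U) (φ' ⁻¹ᵁ (α ⁻¹ᵁ U)) le_rfl ≫ (hpb.lift _ _ hr).appLE _ _ er2 := by
    rw [Scheme.Hom.appLE_comp_appLE, Scheme.Hom.appLE_comp_appLE]
    exact appLE_congr_hom hr2φ.symm _ _ _ _
  have K3 : pr.appLE (φ ⁻¹ᵁ U) (φ' ⁻¹ᵁ (α ⁻¹ᵁ U)) eW ≫
      (pullback.fst φ' (pullback.fst α α)).appLE _ _ er1 =
      pr.appLE (φ ⁻¹ᵁ U) (φ' ⁻¹ᵁ (α ⁻¹ᵁ U)) eW ≫ (hpb.lift _ _ hr).appLE _ _ er2 := by
    rw [Scheme.Hom.appLE_comp_appLE, Scheme.Hom.appLE_comp_appLE]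
    exact appLE_congr_hom hr2pr.symm _ _ _ _
  have hg'' : (φ'.appLE (α ⁻¹ᵁ U) (φ' ⁻¹ᵁ (α ⁻¹ᵁ U)) le_rfl).hom g' =
      (pr.appLE (φ ⁻¹ᵁ U) (φ' ⁻¹ᵁ (α ⁻¹ᵁ U)) eW).hom f := by
    rw [Scheme.Hom.appLE_eq_app]
    exact hg'
  apply hφ''inj
  rw [Scheme.Hom.app_eq_appLE]
  have L1 := congrArg (fun F => F.hom g') K1
  have L2 := congrArg (fun F => F.hom g') K2
  have L3 := congrArg (fun F => F.hom f) K3
  change ((pullback.snd φ' (pullback.fst α α)).appLE _ _ le_rfl).hom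
      (((pullback.fst α α).appLE _ _ le_rfl).hom g') =
    ((pullback.fst φ' (pullback.fst α α)).appLE _ _ er1).hom
      ((φ'.appLE (α ⁻¹ᵁ U) (φ' ⁻¹ᵁ (α ⁻¹ᵁ U)) le_rfl).hom g') at L1
  change ((pullback.snd φ' (pullback.fst α α)).appLE _ _ le_rfl).hom
      (((pullback.snd α α).appLE _ _ e₂).hom g') =
    ((hpb.lift _ _ hr).appLE _ _ er2).hom
      ((φ'.appLE (α ⁻¹ᵁ U) (φ' ⁻¹ᵁ (α ⁻¹ᵁ U)) le_rfl).hom g') at L2
  change ((pullback.fst φ' (pullback.fst α α)).appLE _ _ er1).hom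
      ((pr.appLE (φ ⁻¹ᵁ U) (φ' ⁻¹ᵁ (α ⁻¹ᵁ U)) eW).hom f) =
    ((hpb.lift _ _ hr).appLE _ _ er2).hom
      ((pr.appLE (φ ⁻¹ᵁ U) (φ' ⁻¹ᵁ (α ⁻¹ᵁ U)) eW).hom f) at L3
  rw [hg''] at L1 L2
  exact L1.trans (L3.trans L2.symm)

include hpb in
theorem descend [Flat α] [Surjective α] [QuasiCompact α] [QuasiCompact φ']
    (hinj : ∀ U' : Y'.Opens, Function.Injective (φ'.app U').hom)
    (U : Y.Opens) (f : Γ(X, φ ⁻¹ᵁ U)) (g' : Γ(Y', α ⁻¹ᵁ U))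
    (hg' : (φ'.app (α ⁻¹ᵁ U)).hom g' =
      (pr.appLE (φ ⁻¹ᵁ U) (φ' ⁻¹ᵁ (α ⁻¹ᵁ U)) (preimage_le φ φ' α pr hpb.w U)).hom f) :
    ∃ g : Γ(Y, U), (α.app U).hom g = g' := by
  have e₂ : pullback.fst α α ⁻¹ᵁ (α ⁻¹ᵁ U) ≤ pullback.snd α α ⁻¹ᵁ (α ⁻¹ᵁ U) := by
    rw [← Scheme.Hom.comp_preimage, ← Scheme.Hom.comp_preimage, pullback.condition]
  have hc := cocycle φ φ' α pr hpb hinj U f g' hg' e₂
  apply A1Dict.exists_app_eq_of_fpqc α U g'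
  intro Z g₁ g₂ e₁ e₂' h
  have hl1 : pullback.lift g₁ g₂ h ≫ pullback.fst α α = g₁ := pullback.lift_fst _ _ _
  have hl2 : pullback.lift g₁ g₂ h ≫ pullback.snd α α = g₂ := pullback.lift_snd _ _ _
  have el : (⊤ : Z.Opens) ≤ (pullback.lift g₁ g₂ h) ⁻¹ᵁ (pullback.fst α α ⁻¹ᵁ (α ⁻¹ᵁ U)) := by
    rw [← Scheme.Hom.comp_preimage, hl1]
    exact e₁
  have k1 : g₁.appLE (α ⁻¹ᵁ U) ⊤ e₁ =
      (pullback.fst α α).appLE (α ⁻¹ᵁ U) (pullback.fst α α ⁻¹ᵁ (α ⁻¹ᵁ U)) le_rfl ≫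
        (pullback.lift g₁ g₂ h).appLE _ ⊤ el := by
    rw [Scheme.Hom.appLE_comp_appLE]
    exact appLE_congr_hom hl1.symm _ _ _ _
  have k2 : g₂.appLE (α ⁻¹ᵁ U) ⊤ e₂' =
      (pullback.snd α α).appLE (α ⁻¹ᵁ U) (pullback.fst α α ⁻¹ᵁ (α ⁻¹ᵁ U)) e₂ ≫
        (pullback.lift g₁ g₂ h).appLE _ ⊤ el := by
    rw [Scheme.Hom.appLE_comp_appLE]
    exact appLE_congr_hom hl2.symm _ _ _ _
  rw [k1, k2]
  exact congrArg ((pullback.lift g₁ g₂ h).appLE _ ⊤ el).hom hc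

include hpb ht hs in
theorem range_desc [Flat α] [Surjective α] [QuasiCompact α] [QuasiCompact φ]
    (hinj : ∀ U' : Y'.Opens, Function.Injective (φ'.app U').hom)
    (hrange : ∀ (U' : Y'.Opens) (f' : Γ(X', φ' ⁻¹ᵁ U')), IsInvSec s' t' φ' U' f' →
      ∃ y', (φ'.app U').hom y' = f')
    (U : Y.Opens) (f : Γ(X, φ ⁻¹ᵁ U)) (hf : IsInvSec s t φ U f) :
    ∃ y, (φ.app U).hom y = f := by
  have hw := hpb.w
  have eW := preimage_le φ φ' α pr hw U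
  haveI : QuasiCompact φ' :=
    MorphismProperty.of_isPullback (P := @QuasiCompact) hpb inferInstance
  haveI : Flat pr := MorphismProperty.of_isPullback (P := @Flat) hpb.flip inferInstance
  haveI : Surjective pr := MorphismProperty.of_isPullback (P := @Surjective) hpb.flip inferInstance
  have hf' := isInvSec_pullback s t φ s' t' φ' α pr gp hw ht hs U f hf
  obtain ⟨g', hg'⟩ := hrange _ _ hf'
  obtain ⟨g, hg⟩ := descend φ φ' α pr hpb hinj U f g' hg'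
  refine ⟨g, ?_⟩
  have hprinj : Function.Injective (pr.appLE (φ ⁻¹ᵁ U) (φ' ⁻¹ᵁ (α ⁻¹ᵁ U)) eW).hom :=
    appLE_injective_of_eq pr _ _ eW (preimage_ge φ φ' α pr hw U)
      (A1Dict.injective_app_of_flat_surjective pr _)
  apply hprinj
  have key := app_comm φ φ' α pr hw U eW
  have k1 : (pr.appLE _ _ eW).hom ((φ.app U).hom g) =
      (φ'.app (α ⁻¹ᵁ U)).hom ((α.app U).hom g) := congrArg (fun F => F.hom g) key
  rw [k1, hg, hg']

include hpb ht hs in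
/-- geometric quotients descend along fpqc base change -/
theorem isGQ_desc [Flat α] [Surjective α] [QuasiCompact α] [QuasiCompact φ]
    (h : IsGQ s' t' φ' hinv') : IsGQ s t φ hinv where
  surj := surj_desc φ φ' α pr hpb h.surj
  orbit := orbit_desc s t φ hinv s' t' φ' hinv' α pr gp hpb ht hs h.orbit
  subm := subm_desc φ φ' α pr hpb h.subm
  inj := inj_desc φ φ' α pr hpb h.inj
  range := range_desc s t φ s' t' φ' α pr gp hpb ht hs h.inj h.range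

end Desc

section Main

open MonoidalCategory CartesianMonoidalCategory MonObj

/-- scheme-level data of an equivariant cartesian square -/
theorem isGeomQuot_desc {S : Scheme.{u}} (G X Y X' Y' : Over S) [GrpObj G]
    (a : AlgGrp.Action G X) (φ : X ⟶ Y) (hinv : GIT.IsInvariant a φ) [QuasiCompact φ.left]
    (α : Y' ⟶ Y) [Flat α.left] [Surjective α.left] [QuasiCompact α.left]
    (pr : X' ⟶ X) (φ' : X' ⟶ Y') (hpb : IsPullback pr φ' φ α)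
    (a' : AlgGrp.Action G X') (heq : a'.act ≫ pr = (G ◁ pr) ≫ a.act)
    (hinv' : GIT.IsInvariant a' φ') (h : GIT.IsGeomQuot a' φ') :
    GIT.IsGeomQuot a φ := by
  have hpb' : IsPullback pr.left φ'.left φ.left α.left := hpb.map (Over.forget _)
  have ht : a'.act.left ≫ pr.left = (G ◁ pr).left ≫ a.act.left :=
    congrArg CommaMorphism.left heq
  have hs : (snd G X').left ≫ pr.left = (G ◁ pr).left ≫ (snd G X).left :=
    congrArg CommaMorphism.left (whiskerLeft_snd G pr).symm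
  rw [isGeomQuot_iff a φ hinv]
  exact isGQ_desc _ _ _ hinv.left _ _ _ hinv'.left α.left pr.left (G ◁ pr).left hpb' ht hs
    ((isGeomQuot_iff a' φ' hinv').mp h)

/-- Main statement. -/
theorem main (k : Type u) [Field k]
    (G X Y X' Y' : Over (Spec (CommRingCat.of k))) [GrpObj G] [IsAffine G.left]
    [LocallyOfFiniteType G.hom]
    [LocallyOfFiniteType X.hom] [QuasiCompact X.hom] [IsSeparated X.hom]
    [LocallyOfFiniteType Y.hom] [QuasiCompact Y.hom] [IsSeparated Y.hom]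
    (a : AlgGrp.Action G X) (φ : X ⟶ Y) (hinv : GIT.IsInvariant a φ)
    (α : Y' ⟶ Y) [Flat α.left] [Surjective α.left] [QuasiCompact α.left]
    (pr : X' ⟶ X) (φ' : X' ⟶ Y') (hpb : IsPullback pr φ' φ α)
    (a' : AlgGrp.Action G X') (heq : a'.act ≫ pr = (G ◁ pr) ≫ a.act)
    (hinv' : GIT.IsInvariant a' φ')
    (h : GIT.IsGeomQuot a' φ') :
    GIT.IsGeomQuot a φ := by
  have hw : φ.left ≫ Y.hom = X.hom := Over.w φ
  haveI : QuasiCompact (φ.left ≫ Y.hom) := by rw [hw]; infer_instance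
  haveI : QuasiCompact φ.left := QuasiCompact.of_comp φ.left Y.hom
  exact isGeomQuot_desc G X Y X' Y' a φ hinv α pr φ' hpb a' heq hinv' h

end Main

end Groth.Agent.Helper8.GQDesc
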