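import Mathlib
import Groth.Agent.Helper8.AssocBunA
import Groth.Agent.Helper8.DGlueA
import Groth.Agent.Helper8.GQDesc
import Groth.Agent.Helper5.RedGrp1
import Groth.Agent.Lead.SchDescent2

/-!
# Quotient of an equivariant affine scheme over a torsor (associated bundles)
-/

set_option autoImplicit false
universe u

namespace Groth.Agent.Helper8.AssocBun

open CategoryTheory CategoryTheory.Limits MonoidalCategory CartesianMonoidalCategory MonObj GrpObj
  AlgebraicGeometry

noncomputable section

section Quot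

variable {K : Scheme.{u}} {G X Y V : Over K} [GrpObj G] (a : AlgGrp.Action G X) (f : X ⟶ Y)
  (hsq : IsPullback a.act.left (snd G X).left f.left f.left)
  (c : AlgGrp.Action G V) (π : V ⟶ X) (hπ : c.act ≫ π = (G ◁ π) ≫ a.act)

include hsq hπ in
/-- an equivariant scheme affine over a torsor descends to the base: there is `U` over `Y` with
`V = X ×_Y U`, and `V ⟶ U` is invariant -/
theorem exists_quot [Flat f.left] [Surjective f.left] [QuasiCompact f.left] [IsAffineHom π.left] :
    ∃ (U : Over Y.left) (φ₀ : V.left ⟶ U.left), IsPullback π.left φ₀ f.left U.hom ∧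
      c.act.left ≫ φ₀ = (snd G V).left ≫ φ₀ := by
  haveI : IsAffineHom (assocDD a f hsq c π hπ).obj.hom := (inferInstance : IsAffineHom π.left)
  obtain ⟨U, ⟨e⟩⟩ := DescAff.effective_of_isAffineHom f.left (assocDD a f hsq c π hπ)
  obtain ⟨εi, hεi⟩ : ∃ εi : V.left ⟶ pullback f.left U.hom, εi = e.inv.hom.left := ⟨_, rfl⟩
  obtain ⟨εh, hεh⟩ : ∃ εh : pullback f.left U.hom ⟶ V.left, εh = e.hom.hom.left := ⟨_, rfl⟩
  have hw : εi ≫ pullback.fst f.left U.hom = π.left := by
    subst hεi
    exact Over.w e.inv.hom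
  have h1 : εi ≫ εh = 𝟙 V.left := by
    subst hεi hεh
    exact congrArg (fun m : assocDD a f hsq c π hπ ⟶ assocDD a f hsq c π hπ => m.hom.left)
      e.inv_hom_id
  have h2 : εh ≫ εi = 𝟙 (pullback f.left U.hom) := by
    subst hεi hεh
    exact congrArg (fun m : (Desc.toDD f.left).obj U ⟶ (Desc.toDD f.left).obj U => m.hom.left)
      e.hom_inv_id
  refine ⟨U, εi ≫ pullback.snd f.left U.hom, ?_, ?_⟩
  · refine IsPullback.of_iso_pullback ⟨?_⟩ ⟨εi, εh, h1, h2⟩ hw rfl
    rw [Category.assoc, ← pullback.condition, ← Category.assoc, hw]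
  · have claim : ∀ {T : Scheme.{u}} (x₀ x₁ : T ⟶ X.left) (h : x₀ ≫ f.left = x₁ ≫ f.left)
        (v : T ⟶ V.left) (hv : v ≫ π.left = x₀),
        t a f hsq c π x₀ x₁ h v hv ≫ εi ≫ pullback.snd f.left U.hom =
          v ≫ εi ≫ pullback.snd f.left U.hom := by
      intro T x₀ x₁ h v hv
      have hv' : (v ≫ εi) ≫ pullback.fst f.left U.hom = x₀ := by
        rw [Category.assoc, hw, hv]
      have e1 : DDGrpd.tr ((Desc.toDD f.left).obj U) x₀ x₁ h (v ≫ εi) hv' =
          t a f hsq c π x₀ x₁ h v hv ≫ εi := by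
        subst hεi
        exact DGlue.tr_map e.inv x₀ x₁ h v hv
      have e2 : DDGrpd.tr ((Desc.toDD f.left).obj U) x₀ x₁ h (v ≫ εi) hv' ≫
          pullback.snd f.left U.hom = (v ≫ εi) ≫ pullback.snd f.left U.hom := by
        show pullback.lift _ _ _ ≫ _ = _
        exact pullback.lift_snd _ _ _
      calc t a f hsq c π x₀ x₁ h v hv ≫ εi ≫ pullback.snd f.left U.hom
          = (t a f hsq c π x₀ x₁ h v hv ≫ εi) ≫ pullback.snd f.left U.hom :=
            (Category.assoc _ _ _).symm
        _ = DDGrpd.tr ((Desc.toDD f.left).obj U) x₀ x₁ h (v ≫ εi) hv' ≫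
              pullback.snd f.left U.hom :=
            congrArg (fun m => m ≫ pullback.snd f.left U.hom) e1.symm
        _ = (v ≫ εi) ≫ pullback.snd f.left U.hom := e2
        _ = v ≫ εi ≫ pullback.snd f.left U.hom := Category.assoc _ _ _
    have h1 : c.act.left ≫ π.left = (G ◁ π).left ≫ a.act.left := congrArg CommaMorphism.left hπ
    have h2 : (G ◁ π).left ≫ (snd G X).left = (snd G V).left ≫ π.left :=
      congrArg CommaMorphism.left (whiskerLeft_snd G π)
    have hx : ((snd G V).left ≫ π.left) ≫ f.left = (c.act.left ≫ π.left) ≫ f.left := by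
      rw [← h2, h1, Category.assoc, Category.assoc, hsq.w]
    have key := claim ((snd G V).left ≫ π.left) (c.act.left ≫ π.left) hx (snd G V).left rfl
    have hd : dvL a f hsq (c.act.left ≫ π.left) ((snd G V).left ≫ π.left) hx.symm =
        (G ◁ π).left := by
      apply hsq.hom_ext
      · rw [dvL_act]
        exact h1
      · rw [dvL_snd]
        exact h2.symm
    have hlift : (pullback.lift
        (dvL a f hsq (c.act.left ≫ π.left) ((snd G V).left ≫ π.left) hx.symm ≫ (fst G X).left)
        (snd G V).left (t_cond a f hsq π _ _ hx (snd G V).left rfl) : (G ⊗ V).left ⟶ (G ⊗ V).left) =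
        𝟙 _ := by
      apply pullback.hom_ext (f := G.hom) (g := V.hom)
      · rw [pullback.lift_fst, hd]
        exact (congrArg CommaMorphism.left (whiskerLeft_fst G π)).trans (Category.id_comp _).symm
      · rw [pullback.lift_snd]
        exact (Category.id_comp _).symm
    have ht : t a f hsq c π _ _ hx (snd G V).left rfl = c.act.left := by
      unfold t
      rw [hlift, Category.id_comp]
    rw [ht] at key
    exact key

end Quot

section Main

/-- Main statement (S16133): the associated bundle of an affine `G`-variety. -/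
theorem main (k : Type u) [Field k] [IsAlgClosed k]
    (G X Y Z : Over (Spec (CommRingCat.of k))) [GrpObj G] [Smooth G.hom] [QuasiCompact G.hom]
    [IsReduced X.left] [IsSeparated X.hom] [LocallyOfFiniteType X.hom] [QuasiCompact X.hom]
    [IsReduced Y.left] [IsSeparated Y.hom] [LocallyOfFiniteType Y.hom] [QuasiCompact Y.hom]
    [IsReduced Z.left] [IsAffine Z.left] [LocallyOfFiniteType Z.hom]
    (a : AlgGrp.Action G X) (f : X ⟶ Y) [Flat f.left] [Surjective f.left]
    (hsq : IsPullback a.act.left (snd G X).left f.left f.left) (b : AlgGrp.Action G Z) :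
    ∃ (W : Over (Spec (CommRingCat.of k))) (φ : X ⊗ Z ⟶ W) (ψ : W ⟶ Y),
      IsReduced W.left ∧ IsSeparated W.hom ∧ LocallyOfFiniteType W.hom ∧ QuasiCompact W.hom ∧
      lift ((G ◁ fst X Z) ≫ a.act) ((G ◁ snd X Z) ≫ b.act) ≫ φ = snd G (X ⊗ Z) ≫ φ ∧
      IsPullback (fst X Z).left φ.left f.left ψ.left := by
  have hw : f.left ≫ Y.hom = X.hom := Over.w f
  haveI : QuasiCompact (f.left ≫ Y.hom) := by rw [hw]; infer_instance
  haveI : QuasiCompact f.left := QuasiCompact.of_comp f.left Y.hom
  haveI : IsAffineHom Z.hom := inferInstance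
  haveI : IsAffineHom (fst X Z).left :=
    MorphismProperty.pullback_fst (P := @IsAffineHom) X.hom Z.hom inferInstance
  have hπ : (a.prod b).act ≫ fst X Z = (G ◁ fst X Z) ≫ a.act := lift_fst _ _
  obtain ⟨U, φ₀, hpb, hinv⟩ := exists_quot a f hsq (a.prod b) (fst X Z) hπ
  have hQ : (@Surjective ⊓ @Flat ⊓ @QuasiCompact : MorphismProperty Scheme.{u}) f.left :=
    ⟨⟨inferInstance, inferInstance⟩, inferInstance⟩
  haveI hUaff : IsAffineHom U.hom :=
    MorphismProperty.of_isPullback_of_descendsAlong (P := @IsAffineHom) hpb hQ inferInstance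
  haveI : LocallyOfFiniteType (fst X Z).left :=
    MorphismProperty.pullback_fst (P := @LocallyOfFiniteType) X.hom Z.hom inferInstance
  haveI hUlft : LocallyOfFiniteType U.hom :=
    MorphismProperty.of_isPullback_of_descendsAlong (P := @LocallyOfFiniteType) hpb hQ
      inferInstance
  haveI : Flat φ₀ := MorphismProperty.of_isPullback (P := @Flat) hpb inferInstance
  haveI : Surjective φ₀ := MorphismProperty.of_isPullback (P := @Surjective) hpb inferInstance
  haveI : QuasiCompact φ₀ := MorphismProperty.of_isPullback (P := @QuasiCompact) hpb inferInstance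
  haveI : IsReduced (X ⊗ Z).left := Groth.Agent.Helper5.RedGrp.isReduced_pullback X.hom Z.hom
  haveI : IsSchemeTheoreticallyDominant φ₀ :=
    GQDesc.isSchemeTheoreticallyDominant_of_injective φ₀
      (fun W => A1Dict.injective_app_of_flat_surjective φ₀ W)
  have hred : IsReduced U.left := IsSchemeTheoreticallyDominant.isReduced φ₀
  have hφw : φ₀ ≫ U.hom ≫ Y.hom = (X ⊗ Z).hom := by
    rw [← Category.assoc, ← hpb.w, Category.assoc, hw]
    exact Over.w (fst X Z)
  refine ⟨Over.mk (U.hom ≫ Y.hom), Over.homMk φ₀ hφw, Over.homMk U.hom rfl, hred, ?_, ?_, ?_, ?_,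
    hpb⟩
  · show IsSeparated (U.hom ≫ Y.hom)
    infer_instance
  · show LocallyOfFiniteType (U.hom ≫ Y.hom)
    infer_instance
  · show QuasiCompact (U.hom ≫ Y.hom)
    infer_instance
  · apply Over.OverMorphism.ext
    exact hinv

end Main

end

end Groth.Agent.Helper8.AssocBun
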