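import Mathlib
import Groth.Prelude.Def_W4bk4git07Quot
import Groth.Prelude.Def_NonAbH2
import Groth.Agent.Helper8.A1Dict
import Groth.Agent.Helper8.PrincBundle
import Groth.Agent.Helper9.FpqcLocal
import Groth.Agent.Lead.SchDescent2
import Groth.Agent.Helper5.FlatCodescent

/-!
# An fpqc torsor is affine over its base and a geometric quotient
-/

set_option autoImplicit false
universe u

namespace Groth.Agent.Helper8.TorsorGQ

open CategoryTheory CategoryTheory.Limits MonoidalCategory CartesianMonoidalCategory MonObj
  AlgebraicGeometry Topology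

theorem isUnivSubmersive_of_universallyOpen {X Y : Scheme.{u}} (φ : X ⟶ Y) [UniversallyOpen φ]
    [Surjective φ] : GIT.IsUnivSubmersive φ := by
  intro X' Y' i₁ i₂ f' hpb
  haveI : Surjective f' := MorphismProperty.of_isPullback (P := @Surjective) hpb.flip inferInstance
  haveI : UniversallyOpen f' :=
    MorphismProperty.of_isPullback (P := @UniversallyOpen) hpb.flip inferInstance
  exact IsOpenMap.isQuotientMap f'.isOpenMap f'.continuous f'.surjective

section General

variable {K G X Y : Scheme.{u}} (gk : G ⟶ K) (xk : X ⟶ K) (act : pullback gk xk ⟶ X) (φ : X ⟶ Y)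
  (hcart : IsPullback act (pullback.snd gk xk) φ φ)

include hcart in
/-- a section trivialises the torsor -/
theorem isPullback_triv {U : Scheme.{u}} (t : U ⟶ Y) (s : U ⟶ X) (hs : s ≫ φ = t) :
    IsPullback (pullback.map gk (s ≫ xk) gk xk (𝟙 G) s (𝟙 K) (by simp) (by simp) ≫ act)
      (pullback.snd gk (s ≫ xk)) φ t := by
  have hR : IsPullback (pullback.fst gk xk) (pullback.snd gk xk) gk xk :=
    IsPullback.of_hasPullback gk xk
  have hO : IsPullback (pullback.fst gk (s ≫ xk)) (pullback.snd gk (s ≫ xk)) gk (s ≫ xk) :=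
    IsPullback.of_hasPullback _ _
  have hL : IsPullback (pullback.map gk (s ≫ xk) gk xk (𝟙 G) s (𝟙 K) (by simp) (by simp))
      (pullback.snd gk (s ≫ xk)) (pullback.snd gk xk) s := by
    refine IsPullback.of_right ?_ ?_ hR
    · have h1 : pullback.map gk (s ≫ xk) gk xk (𝟙 G) s (𝟙 K) (by simp) (by simp) ≫
          pullback.fst gk xk = pullback.fst gk (s ≫ xk) := by
        simp [pullback.lift_fst]
      rw [h1]
      exact hO
    · simp [pullback.lift_snd]
  have h2 := hL.paste_horiz hcart
  rw [hs] at h2
  exact h2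

include hcart in
/-- properties of the group descend to an fpqc-locally trivial torsor -/
theorem descend (P : MorphismProperty Scheme.{u}) [IsZariskiLocalAtTarget P]
    [P.IsStableUnderBaseChange] [P.DescendsAlong (@Surjective ⊓ @Flat ⊓ @QuasiCompact)]
    (R : Presieve Y) (hR : R ∈ Scheme.fpqcPrecoverage Y)
    (hsec : ∀ ⦃U : Scheme.{u}⦄ (t : U ⟶ Y), R t → ∃ s : U ⟶ X, s ≫ φ = t) (hG : P gk) :
    P φ := by
  apply Groth.Agent.Helper9.FpqcLocal.of_fpqc_cover P φ R hR
  intro U t ht
  obtain ⟨s, hs⟩ := hsec t ht
  rw [← Groth.Agent.Helper9.FpqcLocal.of_isPullback_iff P (isPullback_triv gk xk act φ hcart t s hs)]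
  exact P.pullback_snd _ _ hG

end General

/-- Main statement. -/
theorem main (k : Type u) [Field k] [IsAlgClosed k] [CharZero k]
    (G X Y : Over (Spec (CommRingCat.of k))) [GrpObj G] [IsAffine G.left]
    [LocallyOfFiniteType G.hom]
    (a : AlgGrp.Action G X) (φ : X ⟶ Y)
    (hcart : IsPullback a.act (snd G X) φ φ)
    (hloc : NonAbH1.IsLocallyTrivialFor Scheme.fpqcPrecoverage (Over.mk φ.left : Over Y.left)) :
    IsAffineHom φ.left ∧ GIT.IsGeomQuot a φ := by
  obtain ⟨R, hR, hsec⟩ := hloc
  have hsec' : ∀ ⦃U : Scheme.{u}⦄ (t : U ⟶ Y.left), R t → ∃ s : U ⟶ X.left, s ≫ φ.left = t :=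
    fun U t ht => hsec t ht
  have hcart' : IsPullback a.act.left (pullback.snd G.hom X.hom) φ.left φ.left :=
    hcart.map (Over.forget _)
  haveI : Subsingleton ↥(Spec (CommRingCat.of k)) :=
    inferInstanceAs (Subsingleton (PrimeSpectrum k))
  haveI : IsAffineHom G.hom := inferInstance
  haveI : Flat G.hom := inferInstance
  haveI : UniversallyOpen G.hom := inferInstance
  haveI : Surjective G.hom := by
    constructor
    intro y
    have hne : Nonempty ↥(Spec (CommRingCat.of k)) := inferInstance
    let p : ↥(𝟙_ (Over (Spec (CommRingCat.of k)))).left := hne.some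
    exact ⟨η[G].left p, Subsingleton.elim _ _⟩
  haveI hAff : IsAffineHom φ.left :=
    descend G.hom X.hom a.act.left φ.left hcart' @IsAffineHom R hR hsec' inferInstance
  haveI hFlat : Flat φ.left :=
    descend G.hom X.hom a.act.left φ.left hcart' @Flat R hR hsec' inferInstance
  haveI hSurj : Surjective φ.left :=
    descend G.hom X.hom a.act.left φ.left hcart' @Surjective R hR hsec' inferInstance
  haveI hUO : UniversallyOpen φ.left :=
    descend G.hom X.hom a.act.left φ.left hcart' @UniversallyOpen R hR hsec' inferInstance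
  haveI : QuasiCompact φ.left := inferInstance
  have hinv : GIT.IsInvariant a φ := hcart.w
  have hPsi : GIT.PsiY a φ hinv = hcart'.isoPullback.hom := by
    apply pullback.hom_ext
    · rw [IsPullback.isoPullback_hom_fst]
      exact pullback.lift_fst _ _ _
    · rw [IsPullback.isoPullback_hom_snd]
      exact pullback.lift_snd _ _ _
  haveI hiso : IsIso (pullback.lift a.act.left (snd G X).left hinv.left) := by
    have h1 : pullback.lift a.act.left (snd G X).left hinv.left = GIT.PsiY a φ hinv := rfl
    rw [h1, hPsi]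
    infer_instance
  refine ⟨hAff, ⟨hinv, φ.left.surjective, ?_, isUnivSubmersive_of_universallyOpen φ.left,
    fun U => ⟨?_, ?_⟩⟩⟩
  · have h1 : Surjective (GIT.PsiY a φ hinv) := by
      rw [hPsi]
      infer_instance
    exact h1.surj
  · exact A1Dict.injective_app_of_flat_surjective φ.left U
  · ext f
    constructor
    · rintro ⟨y, rfl⟩
      exact PrincBundle.isInvSec_app (snd G X).left a.act.left φ.left hinv.left U y
    · intro hf
      exact PrincBundle.exists_of_isInvSec (snd G X).left a.act.left φ.left hinv.left U f hf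

end Groth.Agent.Helper8.TorsorGQ
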