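import Mathlib
import Groth.Prelude.Def_NonAbH2
import Groth.Prelude.Def_W4bk4git07Quot
import Groth.Agent.Helper8.AssocBunB
import Groth.Agent.Helper8.TorsorGQ

/-!
# The associated bundle of an fpqc torsor with affine fibre is again a torsor
-/

set_option autoImplicit false
universe u

namespace Groth.Agent.Helper8.AssocBun

open CategoryTheory CategoryTheory.Limits MonoidalCategory CartesianMonoidalCategory MonObj GrpObj
  AlgebraicGeometry

noncomputable section

section Act

variable {K : Scheme.{u}} {G X Y V : Over K} [GrpObj G] (a : AlgGrp.Action G X) (f : X ⟶ Y)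
  (hsq : IsPullback a.act.left (snd G X).left f.left f.left)
  (c : AlgGrp.Action G V) (π : V ⟶ X) (hπ : c.act ≫ π = (G ◁ π) ≫ a.act)

include hsq hπ in
/-- the quotient `V ⟶ U` of an equivariant scheme over a torsor is again a torsor -/
theorem isPullback_act (U : Over Y.left) (φ₀ : V.left ⟶ U.left)
    (hpb : IsPullback π.left φ₀ f.left U.hom)
    (hinv : c.act.left ≫ φ₀ = (snd G V).left ≫ φ₀) :
    IsPullback c.act.left (snd G V).left φ₀ φ₀ := by
  have h1 : c.act.left ≫ π.left = (G ◁ π).left ≫ a.act.left := congrArg CommaMorphism.left hπ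
  have h2 : (G ◁ π).left ≫ (snd G X).left = (snd G V).left ≫ π.left :=
    congrArg CommaMorphism.left (whiskerLeft_snd G π)
  have h3 : (G ◁ π).left ≫ (fst G X).left = (fst G V).left :=
    congrArg CommaMorphism.left (whiskerLeft_fst G π)
  have hcond : ∀ s : PullbackCone φ₀ φ₀,
      (s.snd ≫ π.left) ≫ f.left = (s.fst ≫ π.left) ≫ f.left := by
    intro s
    rw [Category.assoc, Category.assoc, hpb.w, ← Category.assoc, ← Category.assoc, s.condition]
  have hfac : ∀ s : PullbackCone φ₀ φ₀,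
      t a f hsq c π (s.snd ≫ π.left) (s.fst ≫ π.left) (hcond s) s.snd rfl = s.fst := by
    intro s
    apply hpb.hom_ext
    · exact t_hom a f hsq c π hπ s.snd (s.snd ≫ π.left) (s.fst ≫ π.left) (hcond s) rfl
    · unfold t
      rw [Category.assoc, hinv, ← Category.assoc]
      have e1 : (pullback.lift
          (dvL a f hsq (s.fst ≫ π.left) (s.snd ≫ π.left) (hcond s).symm ≫ (fst G X).left) s.snd
          (t_cond a f hsq π _ _ (hcond s) s.snd rfl) : s.pt ⟶ (G ⊗ V).left) ≫ (snd G V).left =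
          s.snd := pullback.lift_snd _ _ _
      rw [e1]
      exact s.condition.symm
  refine ⟨⟨hinv⟩, ⟨PullbackCone.IsLimit.mk _
    (fun s => (pullback.lift
      (dvL a f hsq (s.fst ≫ π.left) (s.snd ≫ π.left) (hcond s).symm ≫ (fst G X).left) s.snd
      (t_cond a f hsq π _ _ (hcond s) s.snd rfl) : s.pt ⟶ (G ⊗ V).left))
    (fun s => hfac s) (fun s => pullback.lift_snd _ _ _) ?_⟩⟩
  intro s m hm1 hm2
  have hd : m ≫ (G ◁ π).left =
      dvL a f hsq (s.fst ≫ π.left) (s.snd ≫ π.left) (hcond s).symm := by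
    apply hsq.hom_ext
    · rw [dvL_act, Category.assoc, ← h1, ← Category.assoc, hm1]
    · rw [dvL_snd, Category.assoc, h2, ← Category.assoc, hm2]
  apply pullback.hom_ext (f := G.hom) (g := V.hom)
  · rw [pullback.lift_fst, ← hd, Category.assoc, h3]
    rfl
  · rw [pullback.lift_snd]
    exact hm2

end Act

section Main

/-- Main statement (S18976). -/
theorem main_fpqc (k : Type u) [Field k] [IsAlgClosed k] [CharZero k]
    (G X Y F : Over (Spec (CommRingCat.of k))) [GrpObj G] [IsAffine G.left]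
    [LocallyOfFiniteType G.hom]
    (a : AlgGrp.Action G X) (φ : X ⟶ Y)
    (hcart : IsPullback a.act (snd G X) φ φ)
    (hloc : NonAbH1.IsLocallyTrivialFor Scheme.fpqcPrecoverage (Over.mk φ.left : Over Y.left))
    [IsAffine F.left] (b : AlgGrp.Action G F) :
    ∃ (Q : Over (Spec (CommRingCat.of k))) (q : X ⊗ F ⟶ Q) (r : Q ⟶ Y),
      q ≫ r = fst X F ≫ φ ∧
      IsPullback (a.prod b).act (snd G (X ⊗ F)) q q ∧
      NonAbH1.IsLocallyTrivialFor Scheme.fpqcPrecoverage (Over.mk q.left : Over Q.left) ∧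
      IsAffineHom q.left ∧ GIT.IsGeomQuot (a.prod b) q := by
  -- properties of the torsor `φ`
  obtain ⟨R, hR, hsec⟩ := hloc
  have hsec' : ∀ ⦃U : Scheme.{u}⦄ (t : U ⟶ Y.left), R t → ∃ s : U ⟶ X.left, s ≫ φ.left = t :=
    fun U t ht => hsec t ht
  have hsq : IsPullback a.act.left (snd G X).left φ.left φ.left := hcart.map (Over.forget _)
  haveI : Subsingleton ↥(Spec (CommRingCat.of k)) :=
    inferInstanceAs (Subsingleton (PrimeSpectrum k))
  haveI : IsAffineHom G.hom := inferInstance
  haveI : Flat G.hom := inferInstance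
  haveI : Surjective G.hom := by
    constructor
    intro y
    have hne : Nonempty ↥(Spec (CommRingCat.of k)) := inferInstance
    let p : ↥(𝟙_ (Over (Spec (CommRingCat.of k)))).left := hne.some
    exact ⟨η[G].left p, Subsingleton.elim _ _⟩
  haveI hAff : IsAffineHom φ.left :=
    TorsorGQ.descend G.hom X.hom a.act.left φ.left hsq @IsAffineHom R hR hsec' inferInstance
  haveI hFlat : Flat φ.left :=
    TorsorGQ.descend G.hom X.hom a.act.left φ.left hsq @Flat R hR hsec' inferInstance
  haveI hSurj : Surjective φ.left :=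
    TorsorGQ.descend G.hom X.hom a.act.left φ.left hsq @Surjective R hR hsec' inferInstance
  haveI : QuasiCompact φ.left := inferInstance
  -- the quotient
  haveI : IsAffineHom F.hom := inferInstance
  haveI : IsAffineHom (fst X F).left :=
    MorphismProperty.pullback_fst (P := @IsAffineHom) X.hom F.hom inferInstance
  have hπ : (a.prod b).act ≫ fst X F = (G ◁ fst X F) ≫ a.act := lift_fst _ _
  obtain ⟨U, φ₀, hpb, hinv⟩ := exists_quot a φ hsq (a.prod b) (fst X F) hπ
  have hact := isPullback_act a φ hsq (a.prod b) (fst X F) hπ U φ₀ hpb hinv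
  haveI : Flat φ₀ := MorphismProperty.of_isPullback (P := @Flat) hpb inferInstance
  haveI : Surjective φ₀ := MorphismProperty.of_isPullback (P := @Surjective) hpb inferInstance
  haveI : QuasiCompact φ₀ := MorphismProperty.of_isPullback (P := @QuasiCompact) hpb inferInstance
  have hw : φ.left ≫ Y.hom = X.hom := Over.w φ
  have hφw : φ₀ ≫ U.hom ≫ Y.hom = (X ⊗ F).hom := by
    rw [← Category.assoc, ← hpb.w, Category.assoc, hw]
    exact Over.w (fst X F)
  have hqinv : (a.prod b).act ≫ (Over.homMk φ₀ hφw : X ⊗ F ⟶ Over.mk (U.hom ≫ Y.hom)) =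
      snd G (X ⊗ F) ≫ (Over.homMk φ₀ hφw : X ⊗ F ⟶ Over.mk (U.hom ≫ Y.hom)) :=
    Over.OverMorphism.ext hinv
  have hcartq : IsPullback (a.prod b).act (snd G (X ⊗ F))
      (Over.homMk φ₀ hφw : X ⊗ F ⟶ Over.mk (U.hom ≫ Y.hom))
      (Over.homMk φ₀ hφw : X ⊗ F ⟶ Over.mk (U.hom ≫ Y.hom)) :=
    IsPullback.of_map (Over.forget _) hqinv hact
  have hlocq : NonAbH1.IsLocallyTrivialFor Scheme.fpqcPrecoverage
      (Over.mk (Over.homMk φ₀ hφw : X ⊗ F ⟶ Over.mk (U.hom ≫ Y.hom)).left :
        Over (Over.mk (U.hom ≫ Y.hom) : Over (Spec (CommRingCat.of k))).left) := by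
    refine ⟨Presieve.singleton φ₀, Scheme.Hom.singleton_mem_fpqcPrecoverage φ₀, ?_⟩
    intro S' g hg
    obtain ⟨⟩ := hg
    exact ⟨𝟙 _, Category.id_comp _⟩
  obtain ⟨hqaff, hgq⟩ := TorsorGQ.main k G (X ⊗ F) (Over.mk (U.hom ≫ Y.hom)) (a.prod b)
    (Over.homMk φ₀ hφw) hcartq hlocq
  refine ⟨Over.mk (U.hom ≫ Y.hom), Over.homMk φ₀ hφw, Over.homMk U.hom rfl, ?_, hcartq, hlocq,
    hqaff, hgq⟩
  apply Over.OverMorphism.ext
  exact hpb.w.symm

end Main

end

end Groth.Agent.Helper8.AssocBun
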