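import Mathlib
import Groth.Prelude.Def_W4bk4git07Quot
import Groth.Agent.Helper8.AssocBunC
import Groth.Agent.Helper8.DescSec

/-!
# Associated bundles of Zariski-locally trivial principal bundles
-/

set_option autoImplicit false
universe u

namespace Groth.Agent.Helper8.AssocBun

open CategoryTheory CategoryTheory.Limits MonoidalCategory CartesianMonoidalCategory MonObj GrpObj
  AlgebraicGeometry

noncomputable section

section Quot

variable {K : Scheme.{u}} {G X Y V : Over K} [GrpObj G] (a : AlgGrp.Action G X) (f : X ⟶ Y)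
  (hsq : IsPullback a.act.left (snd G X).left f.left f.left)
  (c : AlgGrp.Action G V) (π : V ⟶ X) (hπ : c.act ≫ π = (G ◁ π) ≫ a.act)

include hsq hπ in
/-- if the descent datum on an equivariant scheme over a torsor is effective, the quotient exists -/
theorem exists_quot_of_iso (U : Over Y.left)
    (e : (Desc.toDD f.left).obj U ≅ assocDD a f hsq c π hπ) :
    ∃ (φ₀ : V.left ⟶ U.left), IsPullback π.left φ₀ f.left U.hom ∧
      c.act.left ≫ φ₀ = (snd G V).left ≫ φ₀ := by
  obtain ⟨εi, hεi⟩ : ∃ εi : V.left ⟶ pullback f.left U.hom, εi = e.inv.hom.left := ⟨_, rfl⟩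
  obtain ⟨εh, hεh⟩ : ∃ εh : pullback f.left U.hom ⟶ V.left, εh = e.hom.hom.left := ⟨_, rfl⟩
  have hw : εi ≫ pullback.fst f.left U.hom = π.left := by
    subst hεi
    exact Over.w e.inv.hom
  have h1 : εi ≫ εh = 𝟙 V.left := by
    subst hεi hεh
    exact congrArg (fun m : assocDD a f hsq c π hπ ⟶ assocDD a f hsq c π hπ => m.hom.left)
      e.inv_hom_id
  have h2 : εh ≫ εi = 𝟙 (pullback f.left U.hom) := by
    subst hεi hεh
    exact congrArg (fun m : (Desc.toDD f.left).obj U ⟶ (Desc.toDD f.left).obj U => m.hom.left)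
      e.hom_inv_id
  refine ⟨εi ≫ pullback.snd f.left U.hom, ?_, ?_⟩
  · refine IsPullback.of_iso_pullback ⟨?_⟩ ⟨εi, εh, h1, h2⟩ hw rfl
    rw [Category.assoc, ← pullback.condition, ← Category.assoc, hw]
  · have claim : ∀ {T : Scheme.{u}} (x₀ x₁ : T ⟶ X.left) (h : x₀ ≫ f.left = x₁ ≫ f.left)
        (v : T ⟶ V.left) (hv : v ≫ π.left = x₀),
        t a f hsq c π x₀ x₁ h v hv ≫ εi ≫ pullback.snd f.left U.hom =
          v ≫ εi ≫ pullback.snd f.left U.hom := by
      intro T x₀ x₁ h v hv
      have hv' : (v ≫ εi) ≫ pullback.fst f.left U.hom = x₀ := by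
        rw [Category.assoc, hw, hv]
      have e1 : DDGrpd.tr ((Desc.toDD f.left).obj U) x₀ x₁ h (v ≫ εi) hv' =
          t a f hsq c π x₀ x₁ h v hv ≫ εi := by
        subst hεi
        exact DGlue.tr_map e.inv x₀ x₁ h v hv
      have e2 : DDGrpd.tr ((Desc.toDD f.left).obj U) x₀ x₁ h (v ≫ εi) hv' ≫
          pullback.snd f.left U.hom = (v ≫ εi) ≫ pullback.snd f.left U.hom := by
        show pullback.lift _ _ _ ≫ _ = _
        exact pullback.lift_snd _ _ _
      calc t a f hsq c π x₀ x₁ h v hv ≫ εi ≫ pullback.snd f.left U.hom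
          = (t a f hsq c π x₀ x₁ h v hv ≫ εi) ≫ pullback.snd f.left U.hom :=
            (Category.assoc _ _ _).symm
        _ = DDGrpd.tr ((Desc.toDD f.left).obj U) x₀ x₁ h (v ≫ εi) hv' ≫
              pullback.snd f.left U.hom :=
            congrArg (fun m => m ≫ pullback.snd f.left U.hom) e1.symm
        _ = (v ≫ εi) ≫ pullback.snd f.left U.hom := e2
        _ = v ≫ εi ≫ pullback.snd f.left U.hom := Category.assoc _ _ _
    have h1 : c.act.left ≫ π.left = (G ◁ π).left ≫ a.act.left := congrArg CommaMorphism.left hπ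
    have h2 : (G ◁ π).left ≫ (snd G X).left = (snd G V).left ≫ π.left :=
      congrArg CommaMorphism.left (whiskerLeft_snd G π)
    have hx : ((snd G V).left ≫ π.left) ≫ f.left = (c.act.left ≫ π.left) ≫ f.left := by
      rw [← h2, h1, Category.assoc, Category.assoc, hsq.w]
    have key := claim ((snd G V).left ≫ π.left) (c.act.left ≫ π.left) hx (snd G V).left rfl
    have hd : dvL a f hsq (c.act.left ≫ π.left) ((snd G V).left ≫ π.left) hx.symm =
        (G ◁ π).left := by
      apply hsq.hom_ext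
      · rw [dvL_act]
        exact h1
      · rw [dvL_snd]
        exact h2.symm
    have hlift : (pullback.lift
        (dvL a f hsq (c.act.left ≫ π.left) ((snd G V).left ≫ π.left) hx.symm ≫ (fst G X).left)
        (snd G V).left (t_cond a f hsq π _ _ hx (snd G V).left rfl) : (G ⊗ V).left ⟶ (G ⊗ V).left) =
        𝟙 _ := by
      apply pullback.hom_ext (f := G.hom) (g := V.hom)
      · rw [pullback.lift_fst, hd]
        exact (congrArg CommaMorphism.left (whiskerLeft_fst G π)).trans (Category.id_comp _).symm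
      · rw [pullback.lift_snd]
        exact (Category.id_comp _).symm
    have ht : t a f hsq c π _ _ hx (snd G V).left rfl = c.act.left := by
      unfold t
      rw [hlift, Category.id_comp]
    rw [ht] at key
    exact key

end Quot

section Main

/-- Main statement (S18506). -/
theorem main_zariski (k : Type u) [Field k]
    (G X U B : Over (Spec (CommRingCat.of k))) [GrpObj G]
    [QuasiCompact U.hom] [QuasiSeparated B.hom]
    (a : AlgGrp.Action G X) (b : AlgGrp.Action G U) (π : U ⟶ B) (hinv : GIT.IsInvariant b π)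
    [Flat π.left] [Surjective π.left] (hcart : IsIso (GIT.PsiY b π hinv))
    (hzar : ∀ y : ↥B.left, ∃ (W : B.left.Opens) (s : (↑W : Scheme.{u}) ⟶ U.left),
      y ∈ W ∧ s ≫ π.left = W.ι) :
    ∃ (Q : Over (Spec (CommRingCat.of k))) (ρ : X ⊗ U ⟶ Q) (hρ : GIT.IsInvariant (a.prod b) ρ),
      Flat ρ.left ∧ Surjective ρ.left ∧ IsIso (GIT.PsiY (a.prod b) ρ hρ) := by
  have hsq : IsPullback b.act.left (snd G U).left π.left π.left :=
    IsPullback.of_iso_pullback ⟨hinv.left⟩ (asIso (GIT.PsiY b π hinv))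
      (pullback.lift_fst _ _ _) (pullback.lift_snd _ _ _)
  have hw : π.left ≫ B.hom = U.hom := Over.w π
  haveI : QuasiCompact (π.left ≫ B.hom) := by rw [hw]; infer_instance
  haveI : QuasiCompact π.left := QuasiCompact.of_comp π.left B.hom
  have hπ : (a.prod b).act ≫ snd X U = (G ◁ snd X U) ≫ b.act := lift_snd _ _
  obtain ⟨U', ⟨e⟩⟩ := DescSec.effective_of_local_section
    (assocDD b π hsq (a.prod b) (snd X U) hπ) hzar
  obtain ⟨φ₀, hpb, hinv'⟩ := exists_quot_of_iso b π hsq (a.prod b) (snd X U) hπ U' e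
  have hact := isPullback_act b π hsq (a.prod b) (snd X U) hπ U' φ₀ hpb hinv'
  have hφw : φ₀ ≫ U'.hom ≫ B.hom = (X ⊗ U).hom := by
    rw [← Category.assoc, ← hpb.w, Category.assoc, hw]
    exact Over.w (snd X U)
  obtain ⟨ρ, hρl⟩ : ∃ ρ : X ⊗ U ⟶ Over.mk (U'.hom ≫ B.hom), ρ.left = φ₀ :=
    ⟨Over.homMk φ₀ hφw, rfl⟩
  subst hρl
  have hρ : GIT.IsInvariant (a.prod b) ρ := Over.OverMorphism.ext hinv'
  refine ⟨Over.mk (U'.hom ≫ B.hom), ρ, hρ, ?_, ?_, ?_⟩
  · exact MorphismProperty.of_isPullback (P := @Flat) hpb inferInstance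
  · exact MorphismProperty.of_isPullback (P := @Surjective) hpb inferInstance
  · have hPsi : GIT.PsiY (a.prod b) ρ hρ = hact.isoPullback.hom := by
      apply pullback.hom_ext
      · rw [IsPullback.isoPullback_hom_fst]
        exact pullback.lift_fst _ _ _
      · rw [IsPullback.isoPullback_hom_snd]
        exact pullback.lift_snd _ _ _
    rw [hPsi]
    infer_instance

end Main

end

end Groth.Agent.Helper8.AssocBun
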