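import Mathlib
import Groth.Prelude.Def_AlgGrp
import Groth.Agent.Helper8.AntiAffEq
import Groth.Agent.Helper1.ConnRed
import Groth.Agent.Helper5.RedDesc

/-!
# An automorphism of `G` fixing an affine kernel `H` and trivial on the proper quotient `G/H`
is the identity

`φ = u · id⁻¹ : G → H` is constant on the fibres of `q : G → Q`, hence descends along the fpqc
cover `q` (Mathlib: `EffectiveEpi`) to `Q → H`, which is constant since `Γ(Q, O) = k`.
-/

set_option autoImplicit false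
universe u

open CategoryTheory CategoryTheory.Limits AlgebraicGeometry
open MonoidalCategory CartesianMonoidalCategory MonObj GrpObj

namespace Groth.Agent.Helper8.AutFix

variable {S : Scheme.{u}} {G H Q : Over S} [GrpObj G] [GrpObj H] [GrpObj Q]

theorem mono_of_isKernel (j : H ⟶ G) (q : G ⟶ Q) (hker : AlgGrp.IsKernel j q) : Mono j :=
  ⟨fun _ _ hab => hker.hom_ext hab (toUnit_unique _ _)⟩

/-- the twisted difference `u · id⁻¹` is constant on the fibres of `q` -/
theorem fibre_const (j : H ⟶ G) [IsMonHom j] (q : G ⟶ Q) [IsMonHom q]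
    (hker : AlgGrp.IsKernel j q) (u : G ⟶ G) [IsMonHom u] (hH : j ≫ u = j)
    {Z : Over S} (g₁ g₂ : Z ⟶ G) (h12 : g₁ ≫ q = g₂ ≫ q) :
    g₁ ≫ (u * (𝟙 G)⁻¹) = g₂ ≫ (u * (𝟙 G)⁻¹) := by
  have hd : (g₂⁻¹ * g₁) ≫ q = toUnit Z ≫ η[Q] := by
    rw [MonObj.mul_comp, GrpObj.inv_comp, h12, inv_mul_cancel, Hom.one_def]
  obtain ⟨h, hh⟩ : ∃ h : Z ⟶ H, h ≫ j = g₂⁻¹ * g₁ :=
    ⟨hker.lift _ (toUnit Z) hd, hker.lift_fst _ _ _⟩
  have hg₁ : g₁ = g₂ * (h ≫ j) := by
    rw [hh, mul_inv_cancel_left]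
  have hu : (h ≫ j) ≫ u = h ≫ j := by rw [Category.assoc, hH]
  rw [MonObj.comp_mul, MonObj.comp_mul, GrpObj.comp_inv, GrpObj.comp_inv, Category.comp_id,
    Category.comp_id, hg₁, MonObj.mul_comp, hu]
  group

end Groth.Agent.Helper8.AutFix

namespace Groth.Agent.Helper8.AutFix

variable {k : Type u} [Field k] [IsAlgClosed k] {G H Q : Over (Spec (CommRingCat.of k))}
  [GrpObj G] [GrpObj H] [GrpObj Q]

set_option maxHeartbeats 800000 in
theorem main [Smooth G.hom] [QuasiCompact G.hom] [ConnectedSpace ↥G.left] [IsAffine H.left]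
    [IsProper Q.hom] (j : H ⟶ G) [IsMonHom j] (q : G ⟶ Q) [IsMonHom q] [Flat q.left]
    [Surjective q.left] (hker : AlgGrp.IsKernel j q) (u : G ⟶ G) [IsMonHom u]
    (hH : j ≫ u = j) (hQ : u ≫ q = q) : u = 𝟙 G := by
  haveI hjmono : Mono j := mono_of_isKernel j q hker
  have hφq : (u * (𝟙 G)⁻¹) ≫ q = toUnit G ≫ η[Q] := by
    rw [MonObj.mul_comp, GrpObj.inv_comp, hQ, Category.id_comp, mul_inv_cancel, Hom.one_def]
  obtain ⟨φ', hφ'⟩ : ∃ φ' : G ⟶ H, φ' ≫ j = u * (𝟙 G)⁻¹ :=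
    ⟨hker.lift _ (toUnit G) hφq, hker.lift_fst _ _ _⟩
  -- descent along `q`
  haveI : QuasiCompact (q.left ≫ Q.hom) := by
    rw [Over.w q]
    infer_instance
  haveI : QuasiCompact q.left := QuasiCompact.of_comp q.left Q.hom
  haveI : Epi q.left := Flat.epi_of_flat_of_surjective q.left
  have hdesc : ∀ {Z : Scheme.{u}} (g₁ g₂ : Z ⟶ G.left), g₁ ≫ q.left = g₂ ≫ q.left →
      g₁ ≫ φ'.left = g₂ ≫ φ'.left := by
    intro Z g₁ g₂ h12
    let ZO : Over (Spec (CommRingCat.of k)) := Over.mk (g₁ ≫ G.hom)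
    let g₁O : ZO ⟶ G := Over.homMk g₁ rfl
    have hw : g₂ ≫ G.hom = g₁ ≫ G.hom := by
      rw [← Over.w q, ← Category.assoc, ← h12, Category.assoc]
    let g₂O : ZO ⟶ G := Over.homMk g₂ hw
    have h12O : g₁O ≫ q = g₂O ≫ q := Over.OverMorphism.ext h12
    have h3 := fibre_const j q hker u hH g₁O g₂O h12O
    rw [← hφ', ← Category.assoc, ← Category.assoc, cancel_mono] at h3
    exact congrArg (fun ψ => ψ.left) h3
  let φbar : Q.left ⟶ H.left := EffectiveEpi.desc q.left φ'.left hdesc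
  have hφbar : q.left ≫ φbar = φ'.left := EffectiveEpi.fac q.left φ'.left hdesc
  have hφbarw : φbar ≫ H.hom = Q.hom := by
    rw [← cancel_epi q.left, ← Category.assoc, hφbar, Over.w, Over.w]
  let φbarO : Q ⟶ H := Over.homMk φbar hφbarw
  have hφbarO : q ≫ φbarO = φ' := Over.OverMorphism.ext hφbar
  -- `Γ(Q, O) = k`
  haveI : IsReduced G.left := Groth.Agent.Helper5.RedDesc.isReduced_of_smooth G.hom
  haveI : IsReduced Q.left := Groth.Agent.Helper5.RedDesc.isReduced_of_flat_surjective q.left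
  haveI : ConnectedSpace ↥Q.left :=
    q.left.surjective.connectedSpace q.left.continuous
  haveI : Nonempty ↥(⊤ : Q.left.Opens) := by
    obtain ⟨x⟩ := (inferInstance : Nonempty ↥Q.left)
    exact ⟨⟨x, trivial⟩⟩
  haveI : Nontrivial Γ(Q.left, ⊤) := @Scheme.component_nontrivial Q.left ⊤ this
  have hQanti : Function.Bijective
      ((Scheme.ΓSpecIso (CommRingCat.of k)).inv ≫ Q.hom.appTop).hom :=
    ⟨RingHom.injective _, Groth.Agent.Helper1.ConnRed.surjective_const k Q.hom⟩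
  have h1 := Groth.Agent.Helper8.AntiAffEq.eq_toUnit_of_affine hQanti η[Q] φbarO
  -- the value at the unit
  have hη : η[Q] ≫ φbarO = η[H] := by
    rw [← cancel_mono j, Category.assoc, ← IsMonHom.one_hom (f := q), Category.assoc,
      ← Category.assoc q, hφbarO, hφ', MonObj.comp_mul, GrpObj.comp_inv, Category.comp_id,
      IsMonHom.one_hom, mul_inv_cancel, IsMonHom.one_hom, Hom.one_def]
    rw [toUnit_unique (toUnit (𝟙_ (Over (Spec (CommRingCat.of k))))) (𝟙 _), Category.id_comp]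
  have h2 : u * (𝟙 G)⁻¹ = 1 := by
    rw [← hφ', ← hφbarO, h1, hη, Category.assoc, Category.assoc, IsMonHom.one_hom,
      ← Category.assoc, toUnit_unique (q ≫ toUnit Q) (toUnit G), Hom.one_def]
  exact mul_inv_eq_one.mp h2

end Groth.Agent.Helper8.AutFix
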