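import Mathlib.Algebra.Module.BigOperators
import Mathlib.Algebra.BigOperators.Group.Finset.Basic
import Mathlib.Data.Fintype.BigOperators
import Mathlib.Algebra.Module.LinearMap.Defs
import Mathlib.Algebra.Group.Action.Basic
import Mathlib.Algebra.GroupWithZero.Action.Defs
import Mathlib.SetTheory.Cardinal.Finite
import Mathlib.Algebra.Algebra.Defs
import Mathlib.Algebra.Module.LinearMap.Basic

/-! Averaging operator for a finite group whose order is invertible. -/

set_option autoImplicit false

namespace Groth.Agent.Helper8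

universe u v w

section
variable {A : Type u} [CommRing A] {Γ : Type v} [Group Γ] [Fintype Γ]
  {M : Type w} [AddCommGroup M] [Module A M] [DistribMulAction Γ M] [SMulCommClass Γ A M]

/-- The sum over the group, as a linear map. -/
noncomputable def grpSum (A : Type u) [CommRing A] (Γ : Type v) [Group Γ] [Fintype Γ]
    (M : Type w) [AddCommGroup M] [Module A M] [DistribMulAction Γ M] [SMulCommClass Γ A M] :
    M →ₗ[A] M where
  toFun m := ∑ γ : Γ, γ • m
  map_add' a b := by simp [smul_add, Finset.sum_add_distrib]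
  map_smul' a m := by
    simp only [RingHom.id_apply, Finset.smul_sum]
    exact Finset.sum_congr rfl fun γ _ => smul_comm γ a m

theorem grpSum_apply (m : M) : grpSum A Γ M m = ∑ γ : Γ, γ • m := rfl

theorem smul_grpSum (γ : Γ) (m : M) : γ • grpSum A Γ M m = grpSum A Γ M m := by
  simp only [grpSum_apply, Finset.smul_sum, smul_smul]
  exact Fintype.sum_bijective (fun g => γ * g) (Group.mulLeft_bijective γ) _ _ (fun _ => rfl)

theorem grpSum_of_fixed (m : M) (hm : ∀ γ : Γ, γ • m = m) :
    grpSum A Γ M m = (Fintype.card Γ : A) • m := by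
  simp only [grpSum_apply, hm, Finset.sum_const, Finset.card_univ, Nat.cast_smul_eq_nsmul]

/-- The averaging operator. -/
noncomputable def avg (A : Type u) [CommRing A] (Γ : Type v) [Group Γ] [Fintype Γ]
    (M : Type w) [AddCommGroup M] [Module A M] [DistribMulAction Γ M] [SMulCommClass Γ A M]
    (c : A) : M →ₗ[A] M := c • grpSum A Γ M

theorem avg_apply (c : A) (m : M) : avg A Γ M c m = c • ∑ γ : Γ, γ • m := rfl

theorem smul_avg (c : A) (γ : Γ) (m : M) : γ • avg A Γ M c m = avg A Γ M c m := by
  show γ • (c • grpSum A Γ M m) = c • grpSum A Γ M m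
  rw [smul_comm, smul_grpSum]

theorem avg_of_fixed (c : A) (hc : c * (Fintype.card Γ : A) = 1) (m : M) (hm : ∀ γ : Γ, γ • m = m) :
    avg A Γ M c m = m := by
  show c • grpSum A Γ M m = m
  rw [grpSum_of_fixed m hm, smul_smul, hc, one_smul]

theorem sub_avg (c : A) (hc : c * (Fintype.card Γ : A) = 1) (m : M) :
    m - avg A Γ M c m = c • ∑ γ : Γ, (m - γ • m) := by
  rw [avg_apply, Finset.sum_sub_distrib, smul_sub, Finset.sum_const, Finset.card_univ,
    ← Nat.cast_smul_eq_nsmul A, smul_smul, hc, one_smul]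

end

section
variable {A : Type u} [CommRing A] {Γ : Type v} [Group Γ] [Fintype Γ]
  {M : Type w} [AddCommGroup M] [Module A M] [DistribMulAction Γ M] [SMulCommClass Γ A M]
  {N : Type*} [AddCommGroup N] [Module A N] [DistribMulAction Γ N] [SMulCommClass Γ A N]

theorem map_avg (c : A) (f : M →ₗ[A] N) (hf : ∀ (γ : Γ) (m : M), f (γ • m) = γ • f m) (m : M) :
    f (avg A Γ M c m) = avg A Γ N c (f m) := by
  simp only [avg_apply, map_smul, map_sum, hf]

end

theorem exists_inv_card {A : Type u} [CommRing A] {Γ : Type v} [Fintype Γ]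
    (hΓ : IsUnit (Nat.card Γ : A)) : ∃ c : A, c * (Fintype.card Γ : A) = 1 := by
  obtain ⟨u, hu⟩ := hΓ
  refine ⟨↑u⁻¹, ?_⟩
  rw [← Nat.card_eq_fintype_card, ← hu]
  simp

end Groth.Agent.Helper8
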