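import Mathlib

namespace Groth.Agent.Helper8.AzuCorner

open TensorProduct MulOpposite

universe u v

section General

variable {R : Type u} [CommRing R]

theorem rank_pos_of_connected [ConnectedSpace (PrimeSpectrum R)] (M : Type v) [AddCommGroup M]
    [Module R M] [Module.Finite R M] [Module.Projective R M] [Nontrivial M]
    (p : PrimeSpectrum R) : 0 < Module.rankAtStalk M p := by
  haveI : Module.FinitePresentation R M := Module.finitePresentation_of_projective R M
  by_contra h
  have h0 : Module.rankAtStalk M p = 0 := by omega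
  have hconst : Module.rankAtStalk (R := R) M = 0 := by
    funext q
    rw [(Module.isLocallyConstant_rankAtStalk (R := R) (M := M)).apply_eq_of_preconnectedSpace q p,
      h0]
    rfl
  have := (Module.rankAtStalk_eq_zero_iff_subsingleton (R := R) (M := M)).1 hconst
  exact not_subsingleton M this

theorem faithful_of_rank_pos (M : Type v) [AddCommGroup M]
    [Module R M] [Module.Finite R M] [Module.Projective R M]
    (h : ∀ p : PrimeSpectrum R, 0 < Module.rankAtStalk M p) : FaithfulSMul R M := by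
  rw [← Module.annihilator_eq_bot, eq_bot_iff]
  intro r hr
  rw [Module.mem_annihilator] at hr
  rw [Ideal.mem_bot]
  refine eq_zero_of_localization r fun J hJ => ?_
  haveI : Module.Free (Localization.AtPrime J) (LocalizedModule J.primeCompl M) :=
    Module.free_of_flat_of_isLocalRing
  have hpos : 0 < Module.finrank (Localization.AtPrime J) (LocalizedModule J.primeCompl M) :=
    h ⟨J, hJ.isPrime⟩
  let b := Module.finBasis (Localization.AtPrime J) (LocalizedModule J.primeCompl M)
  have hkill : ∀ x : LocalizedModule J.primeCompl M, r • x = 0 := by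
    intro x
    induction x using LocalizedModule.induction_on with
    | h m s => rw [LocalizedModule.smul'_mk, hr m, LocalizedModule.zero_mk]
  have h1 := hkill (b ⟨0, hpos⟩)
  rw [← algebraMap_smul (Localization.AtPrime J) r (b ⟨0, hpos⟩)] at h1
  have h2 := congrArg b.repr h1
  rw [map_smul, b.repr_self, map_zero, Finsupp.smul_single, smul_eq_mul, mul_one,
    Finsupp.single_eq_zero] at h2
  exact h2

end General

section Corner

variable (R : Type u) [CommRing R] {A : Type v} [Ring A] [Algebra R A]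

/-- `x ↦ f * (x * e)` -/
def pr (f e : A) : A →ₗ[R] A := (LinearMap.mulLeft R f) ∘ₗ (LinearMap.mulRight R e)

theorem pr_apply (f e x : A) : pr R f e x = f * (x * e) := rfl

/-- the `R`-submodule `f A e` -/
def bim (f e : A) : Submodule R A := LinearMap.range (pr R f e)

variable {R}
variable {e f : A}

theorem mem_bim (hf : IsIdempotentElem f) (he : IsIdempotentElem e) {x : A} :
    x ∈ bim R f e ↔ f * x = x ∧ x * e = x := by
  constructor
  · rintro ⟨y, rfl⟩
    rw [pr_apply]
    constructor
    · rw [← mul_assoc, hf.eq]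
    · rw [mul_assoc, mul_assoc, he.eq]
  · rintro ⟨h1, h2⟩
    exact ⟨x, by rw [pr_apply, h2, h1]⟩

theorem left_mul (hf : IsIdempotentElem f) (he : IsIdempotentElem e) (x : bim R f e) :
    f * x.1 = x.1 := ((mem_bim hf he).1 x.2).1

theorem mul_right (hf : IsIdempotentElem f) (he : IsIdempotentElem e) (x : bim R f e) :
    x.1 * e = x.1 := ((mem_bim hf he).1 x.2).2

variable (R) in
/-- inclusion -/
def incl (f e : A) : bim R f e →ₗ[R] A := (bim R f e).subtype

variable (R) in
/-- projection -/
def proj (f e : A) : A →ₗ[R] bim R f e := (pr R f e).rangeRestrict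

theorem incl_apply (x : bim R f e) : incl R f e x = x.1 := rfl

theorem proj_val (x : A) : (proj R f e x).1 = f * (x * e) := rfl

theorem proj_incl (hf : IsIdempotentElem f) (he : IsIdempotentElem e) (x : bim R f e) :
    proj R f e x.1 = x :=
  Subtype.ext (by rw [proj_val, mul_right hf he, left_mul hf he])

instance finite_bim [Module.Finite R A] : Module.Finite R (bim R f e) := Module.Finite.range _

theorem projective_bim [Module.Projective R A] (hf : IsIdempotentElem f)
    (he : IsIdempotentElem e) : Module.Projective R (bim R f e) :=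
  Module.Projective.of_split (incl R f e) (proj R f e) (LinearMap.ext (proj_incl hf he))

variable (R) in
/-- the corner ring `e A e` -/
def Cor {e : A} (_ : IsIdempotentElem e) : Type v := ↥(bim R e e)

namespace Cor

variable (he : IsIdempotentElem e)

instance : AddCommGroup (Cor R he) := inferInstanceAs (AddCommGroup ↥(bim R e e))
instance : Module R (Cor R he) := inferInstanceAs (Module R ↥(bim R e e))

instance : Mul (Cor R he) :=
  ⟨fun x y => ⟨x.1 * y.1, (mem_bim he he).2
    ⟨by rw [← mul_assoc, left_mul he he x], by rw [mul_assoc, mul_right he he y]⟩⟩⟩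

instance : One (Cor R he) := ⟨⟨e, (mem_bim he he).2 ⟨he.eq, he.eq⟩⟩⟩

theorem mul_val (x y : Cor R he) : (x * y).1 = x.1 * y.1 := rfl
theorem one_val : (1 : Cor R he).1 = e := rfl

instance : Ring (Cor R he) :=
  { (inferInstance : AddCommGroup (Cor R he)) with
    mul := (· * ·)
    one := 1
    mul_assoc := fun x y z => Subtype.ext (mul_assoc x.1 y.1 z.1)
    one_mul := fun x => Subtype.ext (left_mul he he x)
    mul_one := fun x => Subtype.ext (mul_right he he x)
    left_distrib := fun x y z => Subtype.ext (mul_add x.1 y.1 z.1)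
    right_distrib := fun x y z => Subtype.ext (add_mul x.1 y.1 z.1)
    zero_mul := fun x => Subtype.ext (zero_mul x.1)
    mul_zero := fun x => Subtype.ext (mul_zero x.1) }

instance : Algebra R (Cor R he) :=
  Algebra.ofModule (fun r x y => Subtype.ext (smul_mul_assoc r x.1 y.1))
    (fun r x y => Subtype.ext (mul_smul_comm r x.1 y.1))

end Cor

end Corner

section Action

variable {R : Type u} [CommRing R] {A : Type v} [Ring A] [Algebra R A] {e f : A}
variable (hf : IsIdempotentElem f) (he : IsIdempotentElem e)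

/-- left multiplication by an element of `f A f` on `f A e` -/
def lamLin (a : Cor R hf) : Module.End R (bim R f e) where
  toFun m := ⟨a.1 * m.1, (mem_bim hf he).2
    ⟨by rw [← mul_assoc, left_mul hf hf a], by rw [mul_assoc, mul_right hf he m]⟩⟩
  map_add' m m' := Subtype.ext (mul_add a.1 m.1 m'.1)
  map_smul' r m := Subtype.ext (mul_smul_comm r a.1 m.1)

theorem lamLin_val (a : Cor R hf) (m : bim R f e) : (lamLin hf he a m).1 = a.1 * m.1 := rfl

/-- right multiplication by an element of `e A e` on `f A e` -/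
def rhoLin (b : Cor R he) : Module.End R (bim R f e) where
  toFun m := ⟨m.1 * b.1, (mem_bim hf he).2
    ⟨by rw [← mul_assoc, left_mul hf he m], by rw [mul_assoc, mul_right he he b]⟩⟩
  map_add' m m' := Subtype.ext (add_mul m.1 m'.1 b.1)
  map_smul' r m := Subtype.ext (smul_mul_assoc r m.1 b.1)

theorem rhoLin_val (b : Cor R he) (m : bim R f e) : (rhoLin hf he b m).1 = m.1 * b.1 := rfl

/-- the left action as an algebra map -/
def lam : Cor R hf →ₐ[R] Module.End R (bim R f e) :=
  AlgHom.ofLinearMap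
    { toFun := lamLin hf he
      map_add' := fun a a' => LinearMap.ext fun m => Subtype.ext (add_mul a.1 a'.1 m.1)
      map_smul' := fun r a => LinearMap.ext fun m => Subtype.ext (smul_mul_assoc r a.1 m.1) }
    (LinearMap.ext fun m => Subtype.ext (left_mul hf he m))
    (fun a a' => LinearMap.ext fun m => Subtype.ext (mul_assoc a.1 a'.1 m.1))

theorem lam_apply (a : Cor R hf) (m : bim R f e) : (lam hf he a m).1 = a.1 * m.1 := rfl

/-- the right action as an algebra map -/
def rho : (Cor R he)ᵐᵒᵖ →ₐ[R] Module.End R (bim R f e) :=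
  AlgHom.ofLinearMap
    { toFun := fun b => rhoLin hf he b.unop
      map_add' := fun b b' => LinearMap.ext fun m => Subtype.ext (mul_add m.1 b.unop.1 b'.unop.1)
      map_smul' := fun r b => LinearMap.ext fun m => Subtype.ext (mul_smul_comm r m.1 b.unop.1) }
    (LinearMap.ext fun m => Subtype.ext (mul_right hf he m))
    (fun b b' => LinearMap.ext fun m => Subtype.ext (mul_assoc m.1 b'.unop.1 b.unop.1).symm)

theorem rho_apply (b : (Cor R he)ᵐᵒᵖ) (m : bim R f e) : (rho hf he b m).1 = m.1 * b.unop.1 := rfl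

theorem commute_lam_rho (a : Cor R hf) (b : (Cor R he)ᵐᵒᵖ) :
    Commute (lam hf he a) (rho hf he b) :=
  LinearMap.ext fun m => Subtype.ext (mul_assoc a.1 m.1 b.unop.1).symm

/-- the action of `f A f ⊗ (e A e)ᵐᵒᵖ` on `f A e` -/
noncomputable def Psi : Cor R hf ⊗[R] (Cor R he)ᵐᵒᵖ →ₐ[R] Module.End R (bim R f e) :=
  Algebra.TensorProduct.lift (lam hf he) (rho hf he) (commute_lam_rho hf he)

theorem Psi_tmul (a : Cor R hf) (b : (Cor R he)ᵐᵒᵖ) (m : bim R f e) :
    (Psi hf he (a ⊗ₜ b) m).1 = a.1 * (m.1 * b.unop.1) := by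
  rw [Psi, Algebra.TensorProduct.lift_tmul, Module.End.mul_apply, lam_apply, rho_apply]

end Action

section Bij

variable {R : Type u} [CommRing R] {A : Type v} [Ring A] [Algebra R A] {e f : A}
variable (hf : IsIdempotentElem f) (he : IsIdempotentElem e)

/-- `g ↦ op ∘ g ∘ unop` -/
def opMap {M N : Type*} [AddCommGroup M] [Module R M] [AddCommGroup N] [Module R N]
    (g : M →ₗ[R] N) : Mᵐᵒᵖ →ₗ[R] Nᵐᵒᵖ :=
  (opLinearEquiv R).toLinearMap ∘ₗ g ∘ₗ (opLinearEquiv R).symm.toLinearMap

theorem opMap_apply {M N : Type*} [AddCommGroup M] [Module R M] [AddCommGroup N] [Module R N]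
    (g : M →ₗ[R] N) (x : Mᵐᵒᵖ) : opMap g x = op (g x.unop) := rfl

/-- inclusion of the corner ring -/
def inclC : Cor R he →ₗ[R] A := incl R e e

/-- projection to the corner ring -/
def projC : A →ₗ[R] Cor R he := proj R e e

theorem inclC_apply (x : Cor R he) : inclC he x = x.1 := rfl
theorem projC_val (x : A) : (projC (R := R) he x).1 = e * (x * e) := rfl
theorem projC_inclC (x : Cor R he) : projC he (inclC he x) = x := proj_incl he he x

/-- `f A f ⊗ (e A e)ᵐᵒᵖ → A ⊗ Aᵐᵒᵖ` -/
noncomputable def J : Cor R hf ⊗[R] (Cor R he)ᵐᵒᵖ →ₗ[R] A ⊗[R] Aᵐᵒᵖ :=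
  TensorProduct.map (inclC hf) (opMap (inclC he))

/-- `A ⊗ Aᵐᵒᵖ → f A f ⊗ (e A e)ᵐᵒᵖ` -/
noncomputable def Pi : A ⊗[R] Aᵐᵒᵖ →ₗ[R] Cor R hf ⊗[R] (Cor R he)ᵐᵒᵖ :=
  TensorProduct.map (projC hf) (opMap (projC he))

theorem Pi_J (t : Cor R hf ⊗[R] (Cor R he)ᵐᵒᵖ) : Pi hf he (J hf he t) = t := by
  induction t using TensorProduct.induction_on with
  | zero => rw [map_zero, map_zero]
  | tmul a b =>
    rw [J, Pi, TensorProduct.map_tmul, TensorProduct.map_tmul, projC_inclC, opMap_apply,
      opMap_apply, unop_op, projC_inclC, op_unop]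
  | add x y hx hy => rw [map_add, map_add, hx, hy]

theorem claim1 (t : Cor R hf ⊗[R] (Cor R he)ᵐᵒᵖ) (a : A) :
    AlgHom.mulLeftRight R A (J hf he t) a = (Psi hf he t (proj R f e a)).1 := by
  induction t using TensorProduct.induction_on with
  | zero => rw [map_zero, map_zero, map_zero, LinearMap.zero_apply, LinearMap.zero_apply]; rfl
  | tmul a' b =>
    rw [J, TensorProduct.map_tmul, AlgHom.mulLeftRight_apply, Psi_tmul, inclC_apply, opMap_apply,
      unop_op, inclC_apply, proj_val]
    have h1 : a'.1 * f = a'.1 := mul_right hf hf a'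
    have h2 : e * b.unop.1 = b.unop.1 := left_mul he he b.unop
    calc a'.1 * a * b.unop.1 = (a'.1 * f) * a * (e * b.unop.1) := by rw [h1, h2]
      _ = a'.1 * ((f * (a * e)) * b.unop.1) := by simp only [mul_assoc]
  | add x y hx hy =>
    rw [map_add, map_add, map_add, LinearMap.add_apply, LinearMap.add_apply, hx, hy]
    rfl

theorem claim2 (s : A ⊗[R] Aᵐᵒᵖ) (m : bim R f e) :
    (Psi hf he (Pi hf he s) m).1 = f * ((AlgHom.mulLeftRight R A s m.1) * e) := by
  induction s using TensorProduct.induction_on with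
  | zero =>
    rw [map_zero, map_zero, map_zero, LinearMap.zero_apply, LinearMap.zero_apply, zero_mul,
      mul_zero]
    rfl
  | tmul a₁ a₂ =>
    rw [Pi, TensorProduct.map_tmul, Psi_tmul, AlgHom.mulLeftRight_apply, opMap_apply, unop_op,
      projC_val, projC_val]
    have h1 : f * m.1 = m.1 := left_mul hf he m
    have h2 : m.1 * e = m.1 := mul_right hf he m
    calc f * (a₁ * f) * (m.1 * (e * (a₂.unop * e)))
        = f * (a₁ * ((f * m.1) * e) * (a₂.unop * e)) := by simp only [mul_assoc]
      _ = f * (a₁ * m.1 * a₂.unop * e) := by rw [h1, h2]; simp only [mul_assoc]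
  | add x y hx hy =>
    rw [map_add, map_add, map_add, LinearMap.add_apply, LinearMap.add_apply, add_mul, mul_add,
      ← hx, ← hy]
    rfl

theorem Psi_bijective [IsAzumaya R A] : Function.Bijective (Psi (R := R) hf he) := by
  constructor
  · rw [injective_iff_map_eq_zero]
    intro t ht
    have h1 : AlgHom.mulLeftRight R A (J hf he t) = 0 := by
      refine LinearMap.ext fun a => ?_
      rw [claim1, ht]
      rfl
    have h2 : J hf he t = 0 := IsAzumaya.bij.1 (by rw [h1, map_zero])
    rw [← Pi_J hf he t, h2, map_zero]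
  · intro ψ
    obtain ⟨s, hs⟩ := (IsAzumaya.bij (R := R) (A := A)).2
      ((incl R f e) ∘ₗ ψ ∘ₗ (proj R f e))
    refine ⟨Pi hf he s, LinearMap.ext fun m => Subtype.ext ?_⟩
    rw [claim2, hs]
    change f * ((ψ (proj R f e m.1)).1 * e) = (ψ m).1
    rw [proj_incl hf he, mul_right hf he, left_mul hf he]

end Bij

section Retract

variable {R : Type u} [CommRing R]

/-- a strict retract has strictly smaller rank over a connected base -/
theorem rank_lt_of_retract [ConnectedSpace (PrimeSpectrum R)]
    {M N : Type v} [AddCommGroup M] [Module R M] [Module.Finite R M] [Module.Projective R M]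
    [AddCommGroup N] [Module R N] [Module.Finite R N] [Module.Projective R N]
    (q : M →ₗ[R] N) (i : N →ₗ[R] M) (hqi : ∀ y, q (i y) = y) (x : M) (hx : q x = 0) (hx0 : x ≠ 0)
    (p : PrimeSpectrum R) : Module.rankAtStalk N p < Module.rankAtStalk M p := by
  -- the projection onto the kernel
  let πK : M →ₗ[R] LinearMap.ker q :=
    LinearMap.codRestrict (LinearMap.ker q) (LinearMap.id - i ∘ₗ q) (fun z => by
      rw [LinearMap.mem_ker, LinearMap.sub_apply, LinearMap.id_apply, LinearMap.comp_apply,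
        map_sub, hqi, sub_self])
  have hπK : ∀ k : LinearMap.ker q, πK k.1 = k := by
    intro k
    refine Subtype.ext ?_
    change k.1 - i (q k.1) = k.1
    rw [LinearMap.mem_ker.1 k.2, map_zero, sub_zero]
  let φ : M ≃ₗ[R] N × LinearMap.ker q :=
    { toFun := fun z => (q z, πK z)
      map_add' := fun z w => by rw [map_add, map_add]; rfl
      map_smul' := fun r z => by rw [map_smul, map_smul]; rfl
      invFun := fun yk => i yk.1 + yk.2.1
      left_inv := fun z => by
        change i (q z) + (z - i (q z)) = z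
        abel
      right_inv := fun yk => by
        refine Prod.ext ?_ (Subtype.ext ?_)
        · change q (i yk.1 + yk.2.1) = yk.1
          rw [map_add, hqi, LinearMap.mem_ker.1 yk.2.2, add_zero]
        · change (i yk.1 + yk.2.1) - i (q (i yk.1 + yk.2.1)) = yk.2.1
          rw [map_add, hqi, LinearMap.mem_ker.1 yk.2.2, add_zero]
          abel }
  haveI : Module.Finite R (LinearMap.ker q) :=
    Module.Finite.of_surjective πK (fun k => ⟨k.1, hπK k⟩)
  haveI : Module.Projective R (LinearMap.ker q) :=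
    Module.Projective.of_split (LinearMap.ker q).subtype πK (LinearMap.ext hπK)
  haveI : Nontrivial (LinearMap.ker q) :=
    ⟨⟨⟨x, hx⟩, 0, fun h => hx0 (congrArg Subtype.val h)⟩⟩
  have h1 := congrFun (Module.rankAtStalk_eq_of_equiv φ) p
  rw [Module.rankAtStalk_prod, Pi.add_apply] at h1
  have h2 := rank_pos_of_connected (LinearMap.ker q) p
  omega

end Retract

section CorAzu

variable {R : Type u} [CommRing R] {A : Type v} [Ring A] [Algebra R A] {e f : A}

theorem cor_nontrivial (he : IsIdempotentElem e) (hne : e ≠ 0) : Nontrivial (Cor R he) :=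
  ⟨⟨1, 0, fun h => hne (congrArg Subtype.val h)⟩⟩

instance cor_finite [Module.Finite R A] (he : IsIdempotentElem e) : Module.Finite R (Cor R he) :=
  inferInstanceAs (Module.Finite R ↥(bim R e e))

theorem cor_projective [Module.Projective R A] (he : IsIdempotentElem e) :
    Module.Projective R (Cor R he) :=
  projective_bim he he

theorem mulLeftRight_eq_Psi (he : IsIdempotentElem e) (t : Cor R he ⊗[R] (Cor R he)ᵐᵒᵖ)
    (m : Cor R he) : (AlgHom.mulLeftRight R (Cor R he) t m).1 = (Psi he he t m).1 := by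
  induction t using TensorProduct.induction_on with
  | zero => rw [map_zero, map_zero]; rfl
  | tmul a b =>
    rw [AlgHom.mulLeftRight_apply, Psi_tmul, Cor.mul_val, Cor.mul_val, mul_assoc]
  | add x y hx hy =>
    rw [map_add, map_add, LinearMap.add_apply, LinearMap.add_apply]
    change (_ + _ : A) = _ + _
    rw [hx, hy]

theorem isAzumaya_cor [ConnectedSpace (PrimeSpectrum R)] [IsAzumaya R A]
    (he : IsIdempotentElem e) (hne : e ≠ 0) : IsAzumaya R (Cor R he) := by
  haveI := cor_nontrivial (R := R) he hne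
  haveI := cor_projective (R := R) he
  haveI : FaithfulSMul R (Cor R he) :=
    faithful_of_rank_pos (Cor R he) (fun p => rank_pos_of_connected (Cor R he) p)
  refine { bij := ⟨?_, ?_⟩ }
  · rw [injective_iff_map_eq_zero]
    intro t ht
    apply (Psi_bijective (R := R) he he).1
    rw [map_zero]
    refine LinearMap.ext fun m => Subtype.ext ?_
    rw [← mulLeftRight_eq_Psi he t m, ht]
    rfl
  · intro ψ
    obtain ⟨t, ht⟩ := (Psi_bijective (R := R) he he).2 ψ
    refine ⟨t, LinearMap.ext fun m => Subtype.ext ?_⟩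
    rw [mulLeftRight_eq_Psi he t m, ht]
    rfl

/-- `1 A 1 = A` -/
def corOne : Cor R (IsIdempotentElem.one : IsIdempotentElem (1 : A)) ≃ₐ[R] A where
  toFun x := x.1
  invFun a := ⟨a, (mem_bim IsIdempotentElem.one IsIdempotentElem.one).2 ⟨one_mul a, mul_one a⟩⟩
  left_inv _ := rfl
  right_inv _ := rfl
  map_mul' _ _ := rfl
  map_add' _ _ := rfl
  commutes' r := by
    rw [Algebra.algebraMap_eq_smul_one, Algebra.algebraMap_eq_smul_one]
    rfl

end CorAzu

section Main

variable {R : Type u} [CommRing R]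

theorem main [ConnectedSpace (PrimeSpectrum R)] (A : Type u) [Ring A] [Algebra R A]
    [IsAzumaya R A] :
    ∃ (B : Type u) (_ : Ring B) (_ : Algebra R B) (_ : IsAzumaya R B) (P Q : Type u)
      (_ : AddCommGroup P) (_ : Module R P) (_ : AddCommGroup Q) (_ : Module R Q),
      (∀ b : B, IsIdempotentElem b → b = 0 ∨ b = 1) ∧ Module.Finite R P ∧ Module.Projective R P ∧
      FaithfulSMul R P ∧ Module.Finite R Q ∧ Module.Projective R Q ∧ FaithfulSMul R Q ∧
      Nonempty (A ⊗[R] Module.End R P ≃ₐ[R] B ⊗[R] Module.End R Q) := by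
  classical
  obtain ⟨p₀⟩ : Nonempty (PrimeSpectrum R) := inferInstance
  haveI : Nontrivial R := nontrivial_of_ne (1 : R) 0 (fun h =>
    p₀.isPrime.ne_top ((Ideal.eq_top_iff_one _).2 (h ▸ zero_mem _)))
  haveI : Nontrivial A := by
    by_contra hcon
    rw [not_nontrivial_iff_subsingleton] at hcon
    have : (1 : R) = 0 := (inferInstance : FaithfulSMul R A).eq_of_smul_eq_smul
      (fun a => Subsingleton.elim _ _)
    exact one_ne_zero this
  -- a nonzero idempotent with corner of minimal rank
  have hS : ∃ n : ℕ, ∃ e : A, ∃ he : IsIdempotentElem e, e ≠ 0 ∧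
      Module.rankAtStalk (Cor R he) p₀ = n :=
    ⟨_, 1, IsIdempotentElem.one, one_ne_zero, rfl⟩
  obtain ⟨e, he, hne, hmin⟩ : ∃ e : A, ∃ he : IsIdempotentElem e, e ≠ 0 ∧
      ∀ f : A, ∀ hf : IsIdempotentElem f, f ≠ 0 →
        Module.rankAtStalk (Cor R he) p₀ ≤ Module.rankAtStalk (Cor R hf) p₀ := by
    obtain ⟨e, he, hne, hn⟩ := Nat.find_spec hS
    exact ⟨e, he, hne, fun f hf hfne => by
      rw [hn]; exact Nat.find_min' hS ⟨f, hf, hfne, rfl⟩⟩
  haveI hAzB : IsAzumaya R (Cor R he) := isAzumaya_cor he hne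
  have h1 : IsIdempotentElem (1 : A) := IsIdempotentElem.one
  haveI : Module.Projective R ↥(bim R (1 : A) e) := projective_bim h1 he
  refine ⟨Cor R he, inferInstance, inferInstance, hAzB, Cor R he, ↥(bim R (1 : A) e),
    inferInstance, inferInstance, inferInstance, inferInstance, ?_, inferInstance, inferInstance,
    inferInstance, inferInstance, inferInstance, ?_, ?_⟩
  · -- only trivial idempotents
    intro b hb
    have hf : IsIdempotentElem b.1 := congrArg Subtype.val hb
    have hef : e * b.1 = b.1 := left_mul he he b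
    have hfe : b.1 * e = b.1 := mul_right he he b
    by_cases h0 : b.1 = 0
    · exact Or.inl (Subtype.ext h0)
    by_cases h1' : b.1 = e
    · exact Or.inr (Subtype.ext h1')
    exfalso
    haveI : Module.Projective R ↥(bim R e e) := projective_bim he he
    haveI : Module.Projective R ↥(bim R b.1 b.1) := projective_bim hf hf
    let q : ↥(bim R e e) →ₗ[R] ↥(bim R b.1 b.1) := (proj R b.1 b.1) ∘ₗ (incl R e e)
    let i : ↥(bim R b.1 b.1) →ₗ[R] ↥(bim R e e) :=
      LinearMap.codRestrict (bim R e e) (incl R b.1 b.1) (fun y => (mem_bim he he).2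
        ⟨by rw [incl_apply, ← left_mul hf hf y, ← mul_assoc, hef],
          by rw [incl_apply, ← mul_right hf hf y, mul_assoc, hfe]⟩)
    have hqi : ∀ y, q (i y) = y := fun y => proj_incl hf hf y
    have hlt := rank_lt_of_retract q i hqi
      ⟨e - b.1, (mem_bim he he).2 ⟨by rw [mul_sub, he.eq, hef], by rw [sub_mul, he.eq, hfe]⟩⟩
      (Subtype.ext (by
        change b.1 * ((e - b.1) * b.1) = 0
        rw [sub_mul, hef, hf.eq, sub_self, mul_zero]))
      (fun h => h1' (sub_eq_zero.1 (congrArg Subtype.val h)).symm) p₀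
    exact absurd (hmin b.1 hf h0) (not_le.2 hlt)
  · -- faithfulness of `A e`
    refine ⟨fun {r r'} h => ?_⟩
    have h2 := congrArg Subtype.val (h ⟨e, (mem_bim h1 he).2 ⟨one_mul e, he.eq⟩⟩)
    change r • e = r' • e at h2
    apply FaithfulSMul.algebraMap_injective R (Cor R he)
    rw [Algebra.algebraMap_eq_smul_one, Algebra.algebraMap_eq_smul_one]
    exact Subtype.ext h2
  · -- the isomorphism
    let ΨB : Cor R he ⊗[R] (Cor R he)ᵐᵒᵖ ≃ₐ[R] Module.End R (Cor R he) :=
      AlgEquiv.ofBijective (AlgHom.mulLeftRight R (Cor R he)) IsAzumaya.bij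
    let Ψ1 : Cor R h1 ⊗[R] (Cor R he)ᵐᵒᵖ ≃ₐ[R] Module.End R ↥(bim R (1 : A) e) :=
      AlgEquiv.ofBijective (Psi h1 he) (Psi_bijective h1 he)
    let e1 : A ⊗[R] Module.End R (Cor R he) ≃ₐ[R] A ⊗[R] (Cor R he ⊗[R] (Cor R he)ᵐᵒᵖ) :=
      Algebra.TensorProduct.congr AlgEquiv.refl ΨB.symm
    let e2 : A ⊗[R] (Cor R he ⊗[R] (Cor R he)ᵐᵒᵖ) ≃ₐ[R] A ⊗[R] ((Cor R he)ᵐᵒᵖ ⊗[R] Cor R he) :=
      Algebra.TensorProduct.congr AlgEquiv.refl (Algebra.TensorProduct.comm R _ _)
    let e3 : (A ⊗[R] (Cor R he)ᵐᵒᵖ) ⊗[R] Cor R he ≃ₐ[R] A ⊗[R] ((Cor R he)ᵐᵒᵖ ⊗[R] Cor R he) :=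
      Algebra.TensorProduct.assoc R R R A (Cor R he)ᵐᵒᵖ (Cor R he)
    let e4 : (A ⊗[R] (Cor R he)ᵐᵒᵖ) ⊗[R] Cor R he ≃ₐ[R]
        (Cor R h1 ⊗[R] (Cor R he)ᵐᵒᵖ) ⊗[R] Cor R he :=
      Algebra.TensorProduct.congr
        (Algebra.TensorProduct.congr (corOne (R := R) (A := A)).symm AlgEquiv.refl) AlgEquiv.refl
    let e5 : (Cor R h1 ⊗[R] (Cor R he)ᵐᵒᵖ) ⊗[R] Cor R he ≃ₐ[R]
        Module.End R ↥(bim R (1 : A) e) ⊗[R] Cor R he :=
      Algebra.TensorProduct.congr Ψ1 AlgEquiv.refl
    let e6 : Module.End R ↥(bim R (1 : A) e) ⊗[R] Cor R he ≃ₐ[R]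
        Cor R he ⊗[R] Module.End R ↥(bim R (1 : A) e) :=
      Algebra.TensorProduct.comm R _ _
    exact ⟨e1.trans (e2.trans (e3.symm.trans (e4.trans (e5.trans e6))))⟩

end Main

end Groth.Agent.Helper8.AzuCorner
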