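import Mathlib
import Groth.Agent.Helper1.AzuLocal

set_option autoImplicit false
universe u

namespace Groth.Agent.Helper8.AzuFib
open TensorProduct
open Groth.Agent.Helper9 Groth.Agent.Helper1

section
variable (R : Type u) [CommRing R] (A : Type u) [Ring A] [Algebra R A] [Module.Finite R A]
  [Module.Projective R A]

/-- base change of `mulLeftRight` is bijective when the base change is Azumaya -/
theorem baseChange_bijective (S : Type u) [CommRing S] [Algebra R S] [IsAzumaya S (S ⊗[R] A)] :
    Function.Bijective ((AlgHom.mulLeftRight R A).toLinearMap.baseChange S) := by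
  have hkey := AzuBC.key R S A
  have hθ := AzuBC.theta_bijective R S A
  have h1 : Function.Bijective ((AlgHom.mulLeftRight S (S ⊗[R] A)).toLinearMap ∘ₗ
      (AzuBC.rho R S A).toLinearMap) :=
    (IsAzumaya.bij (R := S) (A := S ⊗[R] A)).comp (AzuBC.rho R S A).bijective
  rw [hkey] at h1
  have h2 : Function.Bijective ((AzuBC.theta R S A) ∘
      ((AlgHom.mulLeftRight R A).toLinearMap.baseChange S)) := by
    simpa [LinearMap.coe_comp] using h1
  exact (Function.Bijective.of_comp_iff' hθ _).mp h2

/-- local-global principle in base change form -/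
theorem bijective_of_baseChange_maximal {M N : Type u} [AddCommGroup M] [Module R M]
    [AddCommGroup N] [Module R N] (f : M →ₗ[R] N)
    (h : ∀ (J : Ideal R) [J.IsMaximal],
      Function.Bijective (f.baseChange (Localization.AtPrime J))) : Function.Bijective f := by
  refine bijective_of_isLocalized_maximal
    (fun J _ => Localization.AtPrime J ⊗[R] M)
    (fun J _ => TensorProduct.mk R (Localization.AtPrime J) M 1)
    (fun J _ => Localization.AtPrime J ⊗[R] N)
    (fun J _ => TensorProduct.mk R (Localization.AtPrime J) N 1) f ?_
  intro J hJ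
  have : IsLocalizedModule.map J.primeCompl (TensorProduct.mk R (Localization.AtPrime J) M 1)
      (TensorProduct.mk R (Localization.AtPrime J) N 1) f =
      (f.baseChange (Localization.AtPrime J)).restrictScalars R := by
    apply IsLocalizedModule.linearMap_ext J.primeCompl
      (TensorProduct.mk R (Localization.AtPrime J) M 1)
      (TensorProduct.mk R (Localization.AtPrime J) N 1)
    ext m
    simp only [LinearMap.comp_apply, LinearMap.coe_restrictScalars, TensorProduct.mk_apply,
      LinearMap.baseChange_tmul]
    exact IsLocalizedModule.map_apply J.primeCompl (TensorProduct.mk R (Localization.AtPrime J) M 1)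
      (TensorProduct.mk R (Localization.AtPrime J) N 1) f m
  rw [this]
  exact h J

/-- `cancelBaseChange` as an algebra isomorphism for a noncommutative last factor -/
noncomputable def cancelBC (R S T : Type u) [CommRing R] [CommRing S] [Algebra R S] [CommRing T]
    [Algebra R T] [Algebra S T] [IsScalarTower R S T] (B : Type u) [Ring B] [Algebra R B] :
    T ⊗[S] (S ⊗[R] B) ≃ₐ[T] T ⊗[R] B :=
  AlgEquiv.symm <| AlgEquiv.ofLinearEquiv
    (TensorProduct.AlgebraTensorModule.cancelBaseChange R S T T B).symm
    (by simp [Algebra.TensorProduct.one_def]) <|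
      LinearMap.map_mul_of_map_mul_tmul (fun _ _ _ _ ↦ by simp)

theorem s5719 : IsAzumaya R A ↔ ∀ (p : Ideal R) [p.IsPrime],
    Algebra.IsCentral p.ResidueField (p.ResidueField ⊗[R] A) ∧
      IsSimpleRing (p.ResidueField ⊗[R] A) := by
  constructor
  · intro h p _
    haveI : IsAzumaya p.ResidueField (p.ResidueField ⊗[R] A) :=
      AzuBC.baseChange R p.ResidueField A
    haveI : Nontrivial (p.ResidueField ⊗[R] A) := by
      by_contra hcon
      rw [not_nontrivial_iff_subsingleton] at hcon
      have : (1 : p.ResidueField) = 0 := by
        apply FaithfulSMul.eq_of_smul_eq_smul (α := p.ResidueField ⊗[R] A)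
        intro x
        exact Subsingleton.elim _ _
      exact one_ne_zero this
    exact ⟨inferInstance, AzuLocal.isSimpleRing_of_isAzumaya p.ResidueField _⟩
  · intro h
    have hloc : ∀ (J : Ideal R) [J.IsMaximal],
        IsAzumaya (Localization.AtPrime J) (Localization.AtPrime J ⊗[R] A) := by
      intro J hJ
      let S := Localization.AtPrime J
      let e : J.ResidueField ⊗[S] (S ⊗[R] A) ≃ₐ[J.ResidueField] J.ResidueField ⊗[R] A :=
        cancelBC R S J.ResidueField A
      haveI hc0 := (h J).1
      haveI hc : Algebra.IsCentral (IsLocalRing.ResidueField S)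
          ((IsLocalRing.ResidueField S) ⊗[S] (S ⊗[R] A)) :=
        Algebra.IsCentral.of_algEquiv J.ResidueField _ _ e.symm
      haveI hs : IsSimpleRing ((IsLocalRing.ResidueField S) ⊗[S] (S ⊗[R] A)) :=
        IsSimpleRing.of_ringEquiv e.symm.toRingEquiv (h J).2
      haveI : Module.Free S (S ⊗[R] A) := Module.free_of_flat_of_isLocalRing
      haveI : Nontrivial (S ⊗[R] A) := by
        by_contra hcon
        rw [not_nontrivial_iff_subsingleton] at hcon
        haveI : Nontrivial ((IsLocalRing.ResidueField S) ⊗[S] (S ⊗[R] A)) := inferInstance
        have : Subsingleton ((IsLocalRing.ResidueField S) ⊗[S] (S ⊗[R] A)) := inferInstance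
        exact not_subsingleton _ this
      exact AzuLocal.isAzumaya_of_fibre S (S ⊗[R] A)
    refine { eq_of_smul_eq_smul := ?_, bij := ?_ }
    · intro r₁ r₂ hr
      rw [← sub_eq_zero]
      apply eq_zero_of_localization
      intro J hJ
      haveI : FaithfulSMul (Localization.AtPrime J) (Localization.AtPrime J ⊗[R] A) :=
        (hloc J).toFaithfulSMul
      rw [map_sub, sub_eq_zero]
      apply FaithfulSMul.eq_of_smul_eq_smul (α := Localization.AtPrime J ⊗[R] A)
      intro x
      induction x using TensorProduct.induction_on with
      | zero => simp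
      | tmul s a =>
        have e1 : ∀ r : R, algebraMap R (Localization.AtPrime J) r • (s ⊗ₜ[R] a) =
            s ⊗ₜ[R] (r • a) := by
          intro r
          rw [TensorProduct.smul_tmul', smul_eq_mul, ← Algebra.smul_def, TensorProduct.smul_tmul]
        rw [e1, e1, hr a]
      | add x y hx hy => rw [smul_add, smul_add, hx, hy]
    · apply bijective_of_baseChange_maximal R (AlgHom.mulLeftRight R A).toLinearMap
      intro J hJ
      haveI := hloc J
      exact baseChange_bijective R A (Localization.AtPrime J)

end

end Groth.Agent.Helper8.AzuFib
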