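import Mathlib
import Groth.Agent.Helper7.AzuDesc

set_option autoImplicit false
universe u

namespace Groth.Agent.Helper8.AzuFib2
open TensorProduct

theorem s5717 (R : Type u) [CommRing R] (A : Type u) [Ring A] [Algebra R A]
    [Module.FinitePresentation R A] (R' : Type u) [CommRing R'] [Algebra R R']
    [Module.FaithfullyFlat R R'] (r : ℕ) (hr : 1 ≤ r)
    (e : (R' ⊗[R] A) ≃ₐ[R'] Matrix (Fin r) (Fin r) R') : IsAzumaya R A := by
  haveI : Nonempty (Fin r) := ⟨⟨0, hr⟩⟩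
  haveI : IsAzumaya R' (Matrix (Fin r) (Fin r) R') := IsAzumaya.matrix R' (Fin r)
  haveI : IsAzumaya R' (R' ⊗[R] A) := IsAzumaya.of_AlgEquiv (R := R') (A := Matrix (Fin r) (Fin r) R') (B := R' ⊗[R] A) e.symm
  exact Groth.Agent.Helper7.AzuDesc.isAzumaya_of_faithfullyFlat R R' A

end Groth.Agent.Helper8.AzuFib2
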