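import Mathlib
import Groth.Prelude.Def_W4c4lgringredgrpLG

namespace Groth.Agent.Helper8.LG

open MvPolynomial TensorProduct

universe u v w

/-- LG property for polynomials indexed by any fintype in Type. -/
theorem lg_fintype {R : Type u} [CommRing R] (hR : LGRing.IsLGRing R) {σ : Type} [Fintype σ]
    (f : MvPolynomial σ R)
    (h : ∀ (m : Ideal R) [m.IsMaximal], ∃ s : σ → R ⧸ m, IsUnit (aeval s f)) :
    ∃ s : σ → R, IsUnit (aeval s f) := by
  let e : σ ≃ Fin (Fintype.card σ) := Fintype.equivFin σ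
  obtain ⟨s, hs⟩ := hR (Fintype.card σ) (rename e f) (fun m _ => by
    obtain ⟨s, hs⟩ := h m
    refine ⟨s ∘ e.symm, ?_⟩
    rw [aeval_rename]
    have : (s ∘ e.symm) ∘ e = s := by ext x; simp
    rw [this]; exact hs)
  refine ⟨s ∘ e, ?_⟩
  rw [← aeval_rename]; exact hs

variable {R : Type u} [CommRing R]

section key
variable {M₁ : Type v} [AddCommGroup M₁] [Module R M₁] {a : ℕ}
  (i₁ : M₁ →ₗ[R] (Fin a → R)) (p₁ : (Fin a → R) →ₗ[R] M₁)

/-- extension of an endomorphism of a direct summand by the identity on the complement -/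
noncomputable def tilde (θ : M₁ →ₗ[R] M₁) : (Fin a → R) →ₗ[R] (Fin a → R) :=
  i₁ ∘ₗ θ ∘ₗ p₁ + (LinearMap.id - i₁ ∘ₗ p₁)

variable {i₁ p₁}

theorem bijective_of_tilde (h₁ : p₁ ∘ₗ i₁ = LinearMap.id) (θ : M₁ →ₗ[R] M₁)
    (hb : Function.Bijective (tilde i₁ p₁ θ)) : Function.Bijective θ := by
  have hpi : ∀ m, p₁ (i₁ m) = m := fun m => LinearMap.congr_fun h₁ m
  have hinj : Function.Injective i₁ := fun x y hxy => by
    have := congrArg p₁ hxy; rwa [hpi, hpi] at this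
  constructor
  · rw [← LinearMap.ker_eq_bot, LinearMap.ker_eq_bot']
    intro m hm
    apply hinj
    rw [map_zero]
    apply hb.1
    rw [map_zero]
    simp [tilde, hpi, hm]
  · intro m
    obtain ⟨v, hv⟩ := hb.2 (i₁ m)
    refine ⟨p₁ v, ?_⟩
    have := congrArg p₁ hv
    simpa [tilde, hpi] using this

end key

section poly
variable (a b : ℕ)

/-- index type of the variables -/
abbrev Idx (a b : ℕ) : Type := (Fin b × Fin a) ⊕ (Fin a × Fin b)

/-- generic `b × a` matrix -/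
noncomputable def genX : Matrix (Fin b) (Fin a) (MvPolynomial (Idx a b) R) :=
  Matrix.of fun i j => X (Sum.inl (i, j))

/-- generic `a × b` matrix -/
noncomputable def genY : Matrix (Fin a) (Fin b) (MvPolynomial (Idx a b) R) :=
  Matrix.of fun i j => X (Sum.inr (i, j))

/-- constant matrix -/
noncomputable def cM {m n : Type*} (E : Matrix m n R) : Matrix m n (MvPolynomial (Idx a b) R) :=
  E.map C

variable {a b}

/-- the two matrices read off from a point -/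
def ptX {S : Type*} (s : Idx a b → S) : Matrix (Fin b) (Fin a) S := Matrix.of fun i j => s (Sum.inl (i, j))
def ptY {S : Type*} (s : Idx a b → S) : Matrix (Fin a) (Fin b) S := Matrix.of fun i j => s (Sum.inr (i, j))

/-- the polynomial -/
noncomputable def polyF (E₁ : Matrix (Fin a) (Fin a) R) (E₂ : Matrix (Fin b) (Fin b) R) :
    MvPolynomial (Idx a b) R :=
  (cM a b E₁ * genY (R := R) a b * cM a b E₂ * genX (R := R) a b * cM a b E₁ + 1 - cM a b E₁).det *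
  (cM a b E₂ * genX (R := R) a b * cM a b E₁ * genY (R := R) a b * cM a b E₂ + 1 - cM a b E₂).det

theorem aeval_polyF (E₁ : Matrix (Fin a) (Fin a) R) (E₂ : Matrix (Fin b) (Fin b) R)
    (s : Idx a b → R) :
    aeval s (polyF E₁ E₂) =
      (E₁ * ptY s * E₂ * ptX s * E₁ + 1 - E₁).det * (E₂ * ptX s * E₁ * ptY s * E₂ + 1 - E₂).det := by
  set f : MvPolynomial (Idx a b) R →+* R := (aeval s : MvPolynomial (Idx a b) R →ₐ[R] R).toRingHom with hf
  have hfa : ∀ q, aeval s q = f q := fun q => rfl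
  have hE₁ : (cM a b E₁).map f = E₁ := by
    ext i j; simp [cM, hf]
  have hE₂ : (cM a b E₂).map f = E₂ := by
    ext i j; simp [cM, hf]
  have hX : (genX a b).map f = ptX s := by
    ext i j; simp [genX, ptX, hf]
  have hY : (genY a b).map f = ptY s := by
    ext i j; simp [genY, ptY, hf]
  rw [hfa, polyF, map_mul, RingHom.map_det, RingHom.map_det, RingHom.mapMatrix_apply,
    RingHom.mapMatrix_apply]
  rw [Matrix.map_sub (⇑f) (map_sub f), Matrix.map_add (⇑f) (map_add f), Matrix.map_one (⇑f) (map_zero f) (map_one f),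
    Matrix.map_mul, Matrix.map_mul, Matrix.map_mul, Matrix.map_mul,
    Matrix.map_sub (⇑f) (map_sub f), Matrix.map_add (⇑f) (map_add f), Matrix.map_one (⇑f) (map_zero f) (map_one f),
    Matrix.map_mul, Matrix.map_mul, Matrix.map_mul, Matrix.map_mul, hE₁, hE₂, hX, hY]

end poly



section main
variable {M₁ : Type v} [AddCommGroup M₁] [Module R M₁] {a : ℕ}
  {i₁ : M₁ →ₗ[R] (Fin a → R)} {p₁ : (Fin a → R) →ₗ[R] M₁}
  {M₂ : Type w} [AddCommGroup M₂] [Module R M₂] {b : ℕ}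
  {i₂ : M₂ →ₗ[R] (Fin b → R)} {p₂ : (Fin b → R) →ₗ[R] M₂}

/-- idempotent matrix of a direct summand -/
noncomputable def Emat (i₁ : M₁ →ₗ[R] (Fin a → R)) (p₁ : (Fin a → R) →ₗ[R] M₁) :
    Matrix (Fin a) (Fin a) R := LinearMap.toMatrix' (i₁ ∘ₗ p₁)

theorem toLin'_block (X : Matrix (Fin b) (Fin a) R) (Y : Matrix (Fin a) (Fin b) R) :
    Matrix.toLin' (Emat i₁ p₁ * Y * Emat i₂ p₂ * X * Emat i₁ p₁ + 1 - Emat i₁ p₁) =
      tilde i₁ p₁ ((p₁ ∘ₗ Matrix.toLin' Y ∘ₗ i₂) ∘ₗ (p₂ ∘ₗ Matrix.toLin' X ∘ₗ i₁)) := by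
  simp only [Emat, map_sub, map_add, Matrix.toLin'_mul, Matrix.toLin'_toMatrix', Matrix.toLin'_one,
    tilde]
  refine LinearMap.ext fun v => ?_
  simp [add_sub_assoc]

theorem det_block (X : Matrix (Fin b) (Fin a) R) (Y : Matrix (Fin a) (Fin b) R) :
    (Emat i₁ p₁ * Y * Emat i₂ p₂ * X * Emat i₁ p₁ + 1 - Emat i₁ p₁).det =
      LinearMap.det (tilde i₁ p₁ ((p₁ ∘ₗ Matrix.toLin' Y ∘ₗ i₂) ∘ₗ (p₂ ∘ₗ Matrix.toLin' X ∘ₗ i₁))) := by
  rw [← toLin'_block, LinearMap.det_toLin']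

theorem bijective_of_isUnit_det {n : ℕ} (f : (Fin n → R) →ₗ[R] (Fin n → R))
    (h : IsUnit (LinearMap.det f)) : Function.Bijective f := by
  rw [← LinearMap.isUnit_iff_isUnit_det] at h
  exact (Module.End.isUnit_iff f).1 h

theorem exists_equiv (hR : LGRing.IsLGRing R)
    (h₁ : p₁ ∘ₗ i₁ = LinearMap.id) (h₂ : p₂ ∘ₗ i₂ = LinearMap.id)
    (hloc : ∀ (m : Ideal R) [m.IsMaximal], ∃ (g : M₁ →ₗ[R] M₂) (h : M₂ →ₗ[R] M₁),
      LinearMap.det (tilde i₁ p₁ (h ∘ₗ g)) ∉ m ∧ LinearMap.det (tilde i₂ p₂ (g ∘ₗ h)) ∉ m) :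
    Nonempty (M₁ ≃ₗ[R] M₂) := by
  have hpi₁ : ∀ x, p₁ (i₁ x) = x := fun x => LinearMap.congr_fun h₁ x
  have hpi₂ : ∀ x, p₂ (i₂ x) = x := fun x => LinearMap.congr_fun h₂ x
  obtain ⟨s, hs⟩ := lg_fintype hR (polyF (Emat i₁ p₁) (Emat i₂ p₂)) (fun m _ => by
    obtain ⟨g, h, hg, hh⟩ := hloc m
    let X₀ : Matrix (Fin b) (Fin a) R := LinearMap.toMatrix' (i₂ ∘ₗ g ∘ₗ p₁)
    let Y₀ : Matrix (Fin a) (Fin b) R := LinearMap.toMatrix' (i₁ ∘ₗ h ∘ₗ p₂)
    let s₀ : Idx a b → R := Sum.elim (fun ij => X₀ ij.1 ij.2) (fun ij => Y₀ ij.1 ij.2)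
    refine ⟨fun x => Ideal.Quotient.mk m (s₀ x), ?_⟩
    have hcomp : aeval (fun x => Ideal.Quotient.mk m (s₀ x)) (polyF (Emat i₁ p₁) (Emat i₂ p₂)) =
        Ideal.Quotient.mk m (aeval s₀ (polyF (Emat i₁ p₁) (Emat i₂ p₂))) := by
      have := comp_aeval (R := R) s₀ (Ideal.Quotient.mkₐ R m)
      have h2 := DFunLike.congr_fun this (polyF (Emat i₁ p₁) (Emat i₂ p₂))
      simpa using h2.symm
    rw [hcomp]
    have hX : ptX s₀ = X₀ := by ext i j; simp [ptX, s₀]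
    have hY : ptY s₀ = Y₀ := by ext i j; simp [ptY, s₀]
    rw [aeval_polyF, hX, hY, det_block, det_block]
    have e1 : (p₁ ∘ₗ Matrix.toLin' Y₀ ∘ₗ i₂) = h := by
      ext x; simp [Y₀, Matrix.toLin'_toMatrix', hpi₁, hpi₂]
    have e2 : (p₂ ∘ₗ Matrix.toLin' X₀ ∘ₗ i₁) = g := by
      ext x; simp [X₀, Matrix.toLin'_toMatrix', hpi₁, hpi₂]
    rw [e1, e2]
    let _ : Field (R ⧸ m) := Ideal.Quotient.field m
    rw [isUnit_iff_ne_zero, Ne, Ideal.Quotient.eq_zero_iff_mem]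
    intro hmem
    rcases (Ideal.IsMaximal.isPrime ‹_›).mem_or_mem hmem with h' | h'
    · exact hg h'
    · exact hh h')
  rw [aeval_polyF, det_block, det_block, IsUnit.mul_iff] at hs
  set φ : M₁ →ₗ[R] M₂ := p₂ ∘ₗ Matrix.toLin' (ptX s) ∘ₗ i₁ with hφ
  set ψ : M₂ →ₗ[R] M₁ := p₁ ∘ₗ Matrix.toLin' (ptY s) ∘ₗ i₂ with hψ
  have b1 : Function.Bijective (ψ ∘ₗ φ) := bijective_of_tilde h₁ _ (bijective_of_isUnit_det _ hs.1)
  have b2 : Function.Bijective (φ ∘ₗ ψ) := bijective_of_tilde h₂ _ (bijective_of_isUnit_det _ hs.2)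
  have hinj : Function.Injective φ := by
    have := b1.1
    rw [LinearMap.coe_comp] at this
    exact Function.Injective.of_comp this
  have hsurj : Function.Surjective φ := by
    have := b2.2
    rw [LinearMap.coe_comp] at this
    exact Function.Surjective.of_comp this
  exact ⟨LinearEquiv.ofBijective φ ⟨hinj, hsurj⟩⟩

end main



section res
variable {M₁ : Type v} [AddCommGroup M₁] [Module R M₁] {a : ℕ}
  {i₁ : M₁ →ₗ[R] (Fin a → R)} {p₁ : (Fin a → R) →ₗ[R] M₁}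

theorem mk_one_surjective (m : Ideal R) (M : Type v) [AddCommGroup M] [Module R M] :
    Function.Surjective (TensorProduct.mk R (R ⧸ m) M 1) := by
  intro x
  induction x using TensorProduct.induction_on with
  | zero => exact ⟨0, by simp⟩
  | tmul k y =>
    obtain ⟨r, rfl⟩ := Ideal.Quotient.mk_surjective k
    refine ⟨r • y, ?_⟩
    rw [TensorProduct.mk_apply, TensorProduct.tmul_smul, TensorProduct.smul_tmul', ← Algebra.algebraMap_eq_smul_one]
    rfl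
  | add x y hx hy =>
    obtain ⟨x', rfl⟩ := hx
    obtain ⟨y', rfl⟩ := hy
    exact ⟨x' + y', by simp [TensorProduct.tmul_add]⟩

theorem det_tilde_notMem (m : Ideal R) [m.IsMaximal] (θ : M₁ →ₗ[R] M₁)
    (hθ : ∀ x, (1 : R ⧸ m) ⊗ₜ[R] θ x = (1 : R ⧸ m) ⊗ₜ[R] x) :
    LinearMap.det (tilde i₁ p₁ θ) ∉ m := by
  have hbc : (tilde i₁ p₁ θ).baseChange (R ⧸ m) = LinearMap.id := by
    apply TensorProduct.AlgebraTensorModule.ext
    intro k v
    rw [LinearMap.baseChange_tmul, LinearMap.id_apply]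
    have : tilde i₁ p₁ θ v = v + i₁ (θ (p₁ v) - p₁ v) := by
      simp [tilde]; abel
    rw [this, TensorProduct.tmul_add]
    have h0 : (1 : R ⧸ m) ⊗ₜ[R] (θ (p₁ v) - p₁ v) = 0 := by
      rw [TensorProduct.tmul_sub, hθ, sub_self]
    have h1 : k ⊗ₜ[R] i₁ (θ (p₁ v) - p₁ v) = (i₁.baseChange (R ⧸ m)) (k • ((1 : R ⧸ m) ⊗ₜ[R] (θ (p₁ v) - p₁ v))) := by
      rw [TensorProduct.smul_tmul', smul_eq_mul, mul_one, LinearMap.baseChange_tmul]
    rw [h1, h0, smul_zero, map_zero, add_zero]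
  have hdet := LinearMap.det_baseChange (A := R ⧸ m) (tilde i₁ p₁ θ)
  rw [hbc, LinearMap.det_id] at hdet
  intro hmem
  have : algebraMap R (R ⧸ m) (LinearMap.det (tilde i₁ p₁ θ)) = 0 :=
    Ideal.Quotient.eq_zero_iff_mem.2 hmem
  rw [this] at hdet
  have hnt : Nontrivial (R ⧸ m) := Ideal.Quotient.nontrivial_iff.2 (Ideal.IsMaximal.ne_top ‹_›)
  exact one_ne_zero hdet

end res



theorem finrank_quot_tensor (m : Ideal R) [hm : m.IsMaximal] (M : Type v) [AddCommGroup M]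
    [Module R M] [Module.Finite R M] [Module.Flat R M] :
    Module.finrank (R ⧸ m) ((R ⧸ m) ⊗[R] M) = Module.rankAtStalk M ⟨m, hm.isPrime⟩ := by
  let _ : Field (R ⧸ m) := Ideal.Quotient.field m
  have h := Module.rankAtStalk_baseChange (R := R) (M := M) (S := R ⧸ m) ⟨⊥, Ideal.isPrime_bot⟩
  rw [Module.rankAtStalk_eq_finrank_of_free] at h
  rw [Pi.natCast_apply, Nat.cast_id] at h
  rw [h]
  congr 1
  apply PrimeSpectrum.ext
  simp [← RingHom.ker_eq_comap_bot]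




theorem nonempty_linearEquiv_of_rank_eq (hR : LGRing.IsLGRing R)
    (M₁ : Type v) [AddCommGroup M₁] [Module R M₁] [Module.Finite R M₁] [Module.Projective R M₁]
    (M₂ : Type w) [AddCommGroup M₂] [Module R M₂] [Module.Finite R M₂] [Module.Projective R M₂]
    (hrank : ∀ p : PrimeSpectrum R, Module.rankAtStalk M₁ p = Module.rankAtStalk M₂ p) :
    Nonempty (M₁ ≃ₗ[R] M₂) := by
  obtain ⟨a, p₁, i₁, -, -, h₁⟩ := Module.Finite.exists_comp_eq_id_of_projective R M₁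
  obtain ⟨b, p₂, i₂, -, -, h₂⟩ := Module.Finite.exists_comp_eq_id_of_projective R M₂
  refine exists_equiv hR h₁ h₂ (fun m hm => ?_)
  let _ : Field (R ⧸ m) := Ideal.Quotient.field m
  have hfr : Module.finrank (R ⧸ m) ((R ⧸ m) ⊗[R] M₁) = Module.finrank (R ⧸ m) ((R ⧸ m) ⊗[R] M₂) := by
    rw [finrank_quot_tensor, finrank_quot_tensor, hrank]
  let e : ((R ⧸ m) ⊗[R] M₁) ≃ₗ[R ⧸ m] ((R ⧸ m) ⊗[R] M₂) := LinearEquiv.ofFinrankEq _ _ hfr
  obtain ⟨g, hg⟩ := Module.projective_lifting_property (TensorProduct.mk R (R ⧸ m) M₂ 1)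
    ((e.toLinearMap.restrictScalars R) ∘ₗ (TensorProduct.mk R (R ⧸ m) M₁ 1)) (mk_one_surjective m M₂)
  obtain ⟨h, hh⟩ := Module.projective_lifting_property (TensorProduct.mk R (R ⧸ m) M₁ 1)
    ((e.symm.toLinearMap.restrictScalars R) ∘ₗ (TensorProduct.mk R (R ⧸ m) M₂ 1)) (mk_one_surjective m M₁)
  have hg' : ∀ x, (1 : R ⧸ m) ⊗ₜ[R] g x = e ((1 : R ⧸ m) ⊗ₜ[R] x) := fun x => by
    simpa using LinearMap.congr_fun hg x
  have hh' : ∀ y, (1 : R ⧸ m) ⊗ₜ[R] h y = e.symm ((1 : R ⧸ m) ⊗ₜ[R] y) := fun y => by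
    simpa using LinearMap.congr_fun hh y
  refine ⟨g, h, det_tilde_notMem m _ (fun x => ?_), det_tilde_notMem m _ (fun y => ?_)⟩
  · rw [LinearMap.comp_apply, hh', hg', LinearEquiv.symm_apply_apply]
  · rw [LinearMap.comp_apply, hg', hh', LinearEquiv.apply_symm_apply]


end Groth.Agent.Helper8.LG
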