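import Mathlib
import Groth.Agent.Helper8.LG
import Groth.Agent.Helper1.AzuLocal

set_option autoImplicit false
set_option linter.style.haveILetI false
universe u u' v w w'

open TensorProduct

namespace Groth.Agent.Helper8.LGAzu

section Fibre
variable (R : Type u) [CommRing R] (k : Type u') [CommRing k] [Algebra R k]
  (A : Type v) [Ring A] [Algebra R A]
  (M : Type w) [AddCommGroup M] [Module R M] [Module A M] [IsScalarTower R A M]

/-- the fibre `k ⊗ M`, as a type synonym which will carry a `k ⊗ A`-module structure -/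
def Fib : Type _ := k ⊗[R] M

noncomputable instance : AddCommGroup (Fib R k M) := inferInstanceAs (AddCommGroup (k ⊗[R] M))
noncomputable instance : Module k (Fib R k M) := inferInstanceAs (Module k (k ⊗[R] M))

/-- the action of `k ⊗ A` on `k ⊗ M` -/
noncomputable def rho : k ⊗[R] A →ₐ[k] Module.End k (k ⊗[R] M) :=
  Algebra.TensorProduct.lift (Algebra.ofId k (Module.End k (k ⊗[R] M)))
    ((Module.End.baseChangeHom R k M).comp (Algebra.lsmul R R M))
    (fun c _ => Algebra.commute_algebraMap_left c _)

theorem rho_tmul (c : k) (a : A) (c' : k) (x : M) :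
    rho R k A M (c ⊗ₜ a) (c' ⊗ₜ x) = (c * c') ⊗ₜ (a • x) := by
  have h1 : rho R k A M (c ⊗ₜ a) = algebraMap k (Module.End k (k ⊗[R] M)) c *
      (LinearMap.baseChange k (Algebra.lsmul R R M a)) := by
    rw [rho, Algebra.TensorProduct.lift_tmul]; rfl
  rw [h1, Module.End.mul_apply, LinearMap.baseChange_tmul, Module.algebraMap_end_apply,
    TensorProduct.smul_tmul', smul_eq_mul]
  rfl

noncomputable instance instModFib : Module (k ⊗[R] A) (Fib R k M) :=
  Module.compHom (k ⊗[R] M) (rho R k A M).toRingHom

theorem smul_def (s : k ⊗[R] A) (y : Fib R k M) : s • y = rho R k A M s y := rfl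

instance : IsScalarTower k (k ⊗[R] A) (Fib R k M) where
  smul_assoc c s y := by
    rw [smul_def, smul_def, map_smul]
    rfl

/-- the `A`-module structure on the fibre, through `a ↦ 1 ⊗ a` -/
noncomputable instance instModAFib : Module A (Fib R k M) :=
  Module.compHom (Fib R k M) (Algebra.TensorProduct.includeRight : A →ₐ[R] k ⊗[R] A).toRingHom

theorem smulA_def (a : A) (y : Fib R k M) : a • y = ((1 : k) ⊗ₜ[R] a : k ⊗[R] A) • y := rfl

/-- `x ↦ 1 ⊗ x`, `A`-linear -/
noncomputable def iota : M →ₗ[A] Fib R k M where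
  toFun x := ((1 : k) ⊗ₜ[R] x : k ⊗[R] M)
  map_add' x y := TensorProduct.tmul_add _ _ _
  map_smul' a x := by
    rw [RingHom.id_apply, smulA_def, smul_def]
    exact (by rw [rho_tmul, mul_one] : ((1 : k) ⊗ₜ[R] (a • x) : k ⊗[R] M) = rho R k A M (1 ⊗ₜ a) (1 ⊗ₜ x))

theorem iota_apply (x : M) : iota R k A M x = ((1 : k) ⊗ₜ[R] x : k ⊗[R] M) := rfl

variable {R k A M}
variable {N : Type w} [AddCommGroup N] [Module R N] [Module A N] [IsScalarTower R A N]

/-- a `k ⊗ A`-linear map of fibres is `A`-linear -/
noncomputable def toA (f : Fib R k M →ₗ[k ⊗[R] A] Fib R k N) : Fib R k M →ₗ[A] Fib R k N where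
  toFun := f
  map_add' := f.map_add
  map_smul' a y := by
    rw [RingHom.id_apply, smulA_def, smulA_def, map_smul]

theorem toA_apply (f : Fib R k M →ₗ[k ⊗[R] A] Fib R k N) (y : Fib R k M) : toA f y = f y := rfl

end Fibre

section Simple

/-- modules over a finite-dimensional simple algebra: a module of smaller dimension is a split
quotient -/
theorem exists_split_of_finrank_le (k : Type u) [Field k] (S : Type v) [Ring S] [Algebra k S]
    [IsSimpleRing S] [FiniteDimensional k S]
    (M : Type w) [AddCommGroup M] [Module k M] [Module S M] [IsScalarTower k S M]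
    [FiniteDimensional k M]
    (N : Type w) [AddCommGroup N] [Module k N] [Module S N] [IsScalarTower k S N]
    [FiniteDimensional k N]
    (h : Module.finrank k N ≤ Module.finrank k M) :
    ∃ (g : M →ₗ[S] N) (s : N →ₗ[S] M), g ∘ₗ s = LinearMap.id := by
  haveI : IsArtinianRing S := IsArtinianRing.of_finite k S
  haveI : Module.Finite S M := Module.Finite.of_restrictScalars_finite k S M
  haveI : Module.Finite S N := Module.Finite.of_restrictScalars_finite k S N
  by_cases hN : Subsingleton N
  · refine ⟨0, 0, ?_⟩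
    ext x
    exact Subsingleton.elim _ _
  rw [not_subsingleton_iff_nontrivial] at hN
  haveI : Nontrivial (M × N) := by
    obtain ⟨x, y, hxy⟩ := hN
    exact ⟨⟨(0, x), (0, y), fun h => hxy (congrArg Prod.snd h)⟩⟩
  obtain ⟨V, hV⟩ := IsAtomic.exists_atom (Submodule S (M × N))
  rw [← isSimpleModule_iff_isAtom] at hV
  have hP : IsIsotypicOfType S (M × N) V := IsSimpleRing.isIsotypic S (M × N) V
  have hMV : IsIsotypicOfType S M V := hP.of_injective (LinearMap.inl S M N) LinearMap.inl_injective
  have hNV : IsIsotypicOfType S N V := hP.of_injective (LinearMap.inr S M N) LinearMap.inr_injective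
  obtain ⟨a, ⟨eM⟩⟩ := hMV.linearEquiv_fun
  obtain ⟨b, ⟨eN⟩⟩ := hNV.linearEquiv_fun
  haveI : FiniteDimensional k V :=
    Module.Finite.of_injective (V.subtype.restrictScalars k) V.injective_subtype
  haveI : Nontrivial V := IsSimpleModule.nontrivial S V
  have hd : 0 < Module.finrank k V := Module.finrank_pos
  have hMa : Module.finrank k M = a * Module.finrank k V := by
    rw [LinearEquiv.finrank_eq (eM.restrictScalars k), Module.finrank_pi_fintype]
    simp
  have hNb : Module.finrank k N = b * Module.finrank k V := by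
    rw [LinearEquiv.finrank_eq (eN.restrictScalars k), Module.finrank_pi_fintype]
    simp
  have hba : b ≤ a := by
    rw [hMa, hNb] at h
    exact Nat.le_of_mul_le_mul_right h hd
  let g' : (Fin a → V) →ₗ[S] (Fin b → V) := LinearMap.funLeft S V (Fin.castLE hba)
  let s' : (Fin b → V) →ₗ[S] (Fin a → V) :=
    LinearMap.pi (fun i => if hi : i.val < b then LinearMap.proj ⟨i.val, hi⟩ else 0)
  have hgs : g' ∘ₗ s' = LinearMap.id := by
    refine LinearMap.ext fun y => funext fun j => ?_
    simp [g', s', LinearMap.funLeft_apply]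
  refine ⟨eN.symm.toLinearMap ∘ₗ g' ∘ₗ eM.toLinearMap, eM.symm.toLinearMap ∘ₗ s' ∘ₗ eN.toLinearMap, ?_⟩
  ext x
  have : g' (s' (eN x)) = eN x := LinearMap.congr_fun hgs (eN x)
  simp [this]

end Simple

section Tower

/-- projectivity is transitive along a finite projective algebra -/
theorem projective_of_tower (R : Type u) [CommRing R] (A : Type v) [Ring A] [Algebra R A]
    [Module.Finite R A] [Module.Projective R A]
    (N : Type w) [AddCommGroup N] [Module R N] [Module A N] [IsScalarTower R A N]
    [Module.Finite A N] [Module.Projective A N] : Module.Projective R N := by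
  obtain ⟨n, p, i, -, -, hpi⟩ := Module.Finite.exists_comp_eq_id_of_projective A N
  obtain ⟨d, pA, iA, -, -, hpiA⟩ := Module.Finite.exists_comp_eq_id_of_projective R A
  refine Module.Projective.of_split (M := Fin n → Fin d → R)
    ((iA.compLeft (Fin n)) ∘ₗ (i.restrictScalars R))
    ((p.restrictScalars R) ∘ₗ (pA.compLeft (Fin n))) ?_
  ext x
  have h1 : ∀ y : A, pA (iA y) = y := fun y => LinearMap.congr_fun hpiA y
  have h2 : p (i x) = x := LinearMap.congr_fun hpi x
  simp only [LinearMap.comp_apply, LinearMap.coe_restrictScalars, LinearMap.id_apply]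
  have : (pA.compLeft (Fin n)) ((iA.compLeft (Fin n)) (i x)) = i x := by
    funext j
    simp [LinearMap.compLeft_apply, h1]
  rw [this, h2]

end Tower

section Lift
variable {R : Type u} [CommRing R] {A : Type v} [Ring A] [Algebra R A]
  {M : Type w} [AddCommGroup M] [Module R M] [Module A M] [IsScalarTower R A M]
  {N : Type w} [AddCommGroup N] [Module R N] [Module A N] [IsScalarTower R A N]

theorem iota_surjective (m : Ideal R) : Function.Surjective (iota R (R ⧸ m) A N) :=
  LG.mk_one_surjective m N

theorem exists_lift [Module.Projective A M] (m : Ideal R)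
    (gbar : Fib R (R ⧸ m) M →ₗ[(R ⧸ m) ⊗[R] A] Fib R (R ⧸ m) N) :
    ∃ g : M →ₗ[A] N, ∀ x, iota R (R ⧸ m) A N (g x) = gbar (iota R (R ⧸ m) A M x) := by
  obtain ⟨g, hg⟩ := Module.projective_lifting_property (iota R (R ⧸ m) A N)
    ((toA gbar).comp (iota R (R ⧸ m) A M)) (iota_surjective m)
  exact ⟨g, fun x => LinearMap.congr_fun hg x⟩

/-- the local step: over the residue field at a maximal ideal with simple fibre -/
theorem exists_local [Module.Finite R A] [Module.Finite R M] [Module.Flat R M]
    [Module.Finite R N] [Module.Flat R N] [Module.Projective A M] [Module.Projective A N]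
    (m : Ideal R) [hm : m.IsMaximal] [IsSimpleRing ((R ⧸ m) ⊗[R] A)]
    (hrank : Module.rankAtStalk N ⟨m, hm.isPrime⟩ ≤ Module.rankAtStalk M ⟨m, hm.isPrime⟩) :
    ∃ (g : M →ₗ[A] N) (h : N →ₗ[A] M),
      ∀ y : N, (1 : R ⧸ m) ⊗ₜ[R] g (h y) = (1 : R ⧸ m) ⊗ₜ[R] y := by
  letI : Field (R ⧸ m) := Ideal.Quotient.field m
  haveI : FiniteDimensional (R ⧸ m) ((R ⧸ m) ⊗[R] A) := Module.Finite.base_change R (R ⧸ m) A
  haveI : FiniteDimensional (R ⧸ m) (Fib R (R ⧸ m) M) :=
    (Module.Finite.base_change R (R ⧸ m) M :)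
  haveI : FiniteDimensional (R ⧸ m) (Fib R (R ⧸ m) N) :=
    (Module.Finite.base_change R (R ⧸ m) N :)
  have hfr : Module.finrank (R ⧸ m) (Fib R (R ⧸ m) N) ≤
      Module.finrank (R ⧸ m) (Fib R (R ⧸ m) M) := by
    have h1 : Module.finrank (R ⧸ m) (Fib R (R ⧸ m) N) = Module.rankAtStalk N ⟨m, hm.isPrime⟩ :=
      LG.finrank_quot_tensor m N
    have h2 : Module.finrank (R ⧸ m) (Fib R (R ⧸ m) M) = Module.rankAtStalk M ⟨m, hm.isPrime⟩ :=
      LG.finrank_quot_tensor m M
    rw [h1, h2]
    exact hrank
  obtain ⟨gbar, sbar, hgs⟩ := exists_split_of_finrank_le (R ⧸ m) ((R ⧸ m) ⊗[R] A)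
    (Fib R (R ⧸ m) M) (Fib R (R ⧸ m) N) hfr
  obtain ⟨g, hg⟩ := exists_lift m gbar
  obtain ⟨h, hh⟩ := exists_lift m sbar
  refine ⟨g, h, fun y => ?_⟩
  have h3 := hg (h y)
  rw [hh y] at h3
  have h4 : gbar (sbar (iota R (R ⧸ m) A N y)) = iota R (R ⧸ m) A N y := LinearMap.congr_fun hgs _
  exact h3.trans h4

end Lift

section Gens
variable {R : Type u} [CommRing R] {A : Type v} [Ring A] [Algebra R A]
  {M : Type w} [AddCommGroup M] [Module R M] [Module A M] [IsScalarTower R A M]
  {N : Type w'} [AddCommGroup N] [Module R N] [Module A N] [IsScalarTower R A N]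

theorem finite_hom [Module.Finite A M] [Module.Projective A M] [Module.Finite R N] :
    Module.Finite R (M →ₗ[A] N) := by
  obtain ⟨n, p, i, -, -, hpi⟩ := Module.Finite.exists_comp_eq_id_of_projective A M
  let Φ : (Fin n → N) →ₗ[R] (M →ₗ[A] N) :=
    { toFun := fun y => ∑ j, ((LinearMap.proj j).comp i).smulRight (y j)
      map_add' := fun y z => by
        ext x
        simp [LinearMap.sum_apply, Finset.sum_add_distrib]
      map_smul' := fun r y => by
        ext x
        simp only [LinearMap.sum_apply, LinearMap.smulRight_apply, LinearMap.comp_apply,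
          LinearMap.proj_apply, Pi.smul_apply, RingHom.id_apply, LinearMap.smul_apply,
          Finset.smul_sum]
        exact Finset.sum_congr rfl (fun j _ => smul_comm _ _ _) }
  refine Module.Finite.of_surjective Φ (fun g => ?_)
  refine ⟨fun j => (g ∘ₗ p) (fun j' => if j = j' then 1 else 0), ?_⟩
  ext x
  have hx : p (i x) = x := LinearMap.congr_fun hpi x
  have h1 := LinearMap.pi_apply_eq_sum_univ (g ∘ₗ p) (i x)
  rw [LinearMap.comp_apply, hx] at h1
  rw [h1]
  simp [Φ, LinearMap.sum_apply]

theorem exists_gens [Module.Finite A M] [Module.Projective A M] [Module.Finite R N] :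
    ∃ (a : ℕ) (φ : Fin a → (M →ₗ[A] N)), ∀ g : M →ₗ[A] N, ∃ s : Fin a → R,
      g = ∑ i, s i • φ i := by
  haveI := finite_hom (R := R) (A := A) (M := M) (N := N)
  obtain ⟨a, φ, hφ⟩ := Module.Finite.exists_fin (R := R) (M := M →ₗ[A] N)
  refine ⟨a, φ, fun g => ?_⟩
  have hg : g ∈ Submodule.span R (Set.range φ) := hφ ▸ Submodule.mem_top
  obtain ⟨s, hs⟩ := (Submodule.mem_span_range_iff_exists_fun R).1 hg
  exact ⟨s, hs.symm⟩

end Gens

section Poly
open MvPolynomial
variable {R : Type u} [CommRing R] {A : Type v} [Ring A] [Algebra R A]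
  {M : Type w} [AddCommGroup M] [Module R M] [Module A M] [IsScalarTower R A M]
  {N : Type w'} [AddCommGroup N] [Module R N] [Module A N] [IsScalarTower R A N]
  {c : ℕ} (iN : N →ₗ[R] (Fin c → R)) (pN : (Fin c → R) →ₗ[R] N)
  {a b : ℕ} (φ : Fin a → (M →ₗ[A] N)) (ψ : Fin b → (N →ₗ[A] M))

/-- the composite `(∑ sᵢ φᵢ) ∘ (∑ tⱼ ψⱼ)` as an `R`-linear endomorphism of `N` -/
noncomputable def theta (s : Fin a → R) (t : Fin b → R) : N →ₗ[R] N :=
  ((∑ i, s i • φ i) ∘ₗ (∑ j, t j • ψ j)).restrictScalars R

theorem theta_apply (s : Fin a → R) (t : Fin b → R) (y : N) :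
    theta φ ψ s t y = ∑ i, ∑ j, (s i * t j) • φ i (ψ j y) := by
  simp only [theta, LinearMap.coe_restrictScalars, LinearMap.comp_apply, LinearMap.sum_apply,
    LinearMap.smul_apply, map_sum, LinearMap.map_smul_of_tower, mul_smul]
  rw [Finset.sum_comm]

/-- the generic matrix of `tilde (theta s t)` -/
noncomputable def genMat : Matrix (Fin c) (Fin c) (MvPolynomial (Fin a ⊕ Fin b) R) :=
  Matrix.of fun p q =>
    (∑ i, ∑ j, (X (Sum.inl i) * X (Sum.inr j)) * C (iN (φ i (ψ j (pN (Pi.single q 1)))) p))
      + C ((Pi.single q 1 : Fin c → R) p - iN (pN (Pi.single q 1)) p)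

/-- the polynomial whose values are `det (tilde (theta s t))` -/
noncomputable def polyF : MvPolynomial (Fin a ⊕ Fin b) R := (genMat iN pN φ ψ).det

theorem aeval_polyF (st : Fin a ⊕ Fin b → R) :
    aeval st (polyF iN pN φ ψ) =
      LinearMap.det (LG.tilde iN pN (theta φ ψ (st ∘ Sum.inl) (st ∘ Sum.inr))) := by
  rw [← LinearMap.det_toMatrix', polyF, AlgHom.map_det]
  congr 1
  ext p q
  rw [AlgHom.mapMatrix_apply, Matrix.map_apply, LinearMap.toMatrix'_apply, genMat, Matrix.of_apply]
  simp only [LG.tilde, LinearMap.add_apply, LinearMap.sub_apply, LinearMap.comp_apply,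
    LinearMap.id_apply, theta_apply, map_sum, map_smul, Pi.add_apply, Pi.sub_apply,
    Finset.sum_apply, Pi.smul_apply, smul_eq_mul, map_add, map_mul, aeval_X, aeval_C,
    Function.comp_apply, Algebra.algebraMap_self, RingHom.id_apply]

end Poly

section C2
open MvPolynomial
variable {R : Type u} [CommRing R] {A : Type v} [Ring A] [Algebra R A]
  {M : Type w} [AddCommGroup M] [Module R M] [Module A M] [IsScalarTower R A M]
  {N : Type w} [AddCommGroup N] [Module R N] [Module A N] [IsScalarTower R A N]

/-- **(C2)** over an LG ring, for an algebra with simple fibres at maximal ideals, a finite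
projective module of pointwise smaller rank is a split quotient. -/
theorem exists_bijective_comp (hR : LGRing.IsLGRing R) [Module.Finite R A] [Module.Projective R A]
    [Module.Finite A M] [Module.Projective A M] [Module.Finite A N] [Module.Projective A N]
    (hsimple : ∀ (m : Ideal R) [m.IsMaximal], IsSimpleRing ((R ⧸ m) ⊗[R] A))
    (hrank : ∀ (m : Ideal R) [hm : m.IsMaximal],
      Module.rankAtStalk N ⟨m, hm.isPrime⟩ ≤ Module.rankAtStalk M ⟨m, hm.isPrime⟩) :
    ∃ (g : M →ₗ[A] N) (h : N →ₗ[A] M), Function.Bijective (g ∘ₗ h) := by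
  haveI : Module.Finite R M := Module.Finite.trans A M
  haveI : Module.Finite R N := Module.Finite.trans A N
  haveI : Module.Projective R M := projective_of_tower R A M
  haveI : Module.Projective R N := projective_of_tower R A N
  obtain ⟨c, pN, iN, -, -, hpi⟩ := Module.Finite.exists_comp_eq_id_of_projective R N
  obtain ⟨a, φ, hφ⟩ := exists_gens (R := R) (A := A) (M := M) (N := N)
  obtain ⟨b, ψ, hψ⟩ := exists_gens (R := R) (A := A) (M := N) (N := M)
  obtain ⟨st, hst⟩ := LG.lg_fintype hR (polyF iN pN φ ψ) (fun m hm => by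
    haveI := hsimple m
    obtain ⟨g, h, hgh⟩ := exists_local (A := A) (M := M) (N := N) m (hrank m)
    obtain ⟨s, rfl⟩ := hφ g
    obtain ⟨t, rfl⟩ := hψ h
    refine ⟨fun x => Ideal.Quotient.mk m (Sum.elim s t x), ?_⟩
    have hcomp : aeval (fun x => Ideal.Quotient.mk m (Sum.elim s t x)) (polyF iN pN φ ψ) =
        Ideal.Quotient.mk m (aeval (Sum.elim s t) (polyF iN pN φ ψ)) := by
      have := comp_aeval (R := R) (Sum.elim s t) (Ideal.Quotient.mkₐ R m)
      have h2 := DFunLike.congr_fun this (polyF iN pN φ ψ)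
      simpa using h2.symm
    rw [hcomp, aeval_polyF]
    letI : Field (R ⧸ m) := Ideal.Quotient.field m
    rw [isUnit_iff_ne_zero, Ne, Ideal.Quotient.eq_zero_iff_mem]
    refine LG.det_tilde_notMem m _ (fun y => ?_)
    rw [Sum.elim_comp_inl, Sum.elim_comp_inr]
    exact hgh y)
  rw [aeval_polyF] at hst
  refine ⟨∑ i, (st ∘ Sum.inl) i • φ i, ∑ j, (st ∘ Sum.inr) j • ψ j, ?_⟩
  exact LG.bijective_of_tilde hpi _ (LG.bijective_of_isUnit_det _ hst)

end C2

section Azu
variable {R : Type u} [CommRing R] {A : Type v} [Ring A] [Algebra R A]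

theorem isSimpleRing_fibre [IsAzumaya R A] (m : Ideal R) [m.IsMaximal] :
    IsSimpleRing ((R ⧸ m) ⊗[R] A) := by
  have hF : FaithfulSMul (R ⧸ m) ((R ⧸ m) ⊗[R] A) :=
    Groth.Agent.Helper9.AzuBC.faithful_baseChange R A (R ⧸ m)
  haveI : Nontrivial (R ⧸ m) := Ideal.Quotient.nontrivial_iff.2 (Ideal.IsMaximal.ne_top ‹_›)
  haveI : Nontrivial ((R ⧸ m) ⊗[R] A) := by
    by_contra hcon
    rw [not_nontrivial_iff_subsingleton] at hcon
    have : (1 : R ⧸ m) = 0 := by
      apply hF.eq_of_smul_eq_smul
      intro x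
      exact Subsingleton.elim _ _
    exact one_ne_zero this
  letI : Field (R ⧸ m) := Ideal.Quotient.field m
  haveI : IsAzumaya (R ⧸ m) ((R ⧸ m) ⊗[R] A) := Groth.Agent.Helper9.AzuBC.baseChange R (R ⧸ m) A
  exact Groth.Agent.Helper1.AzuLocal.isSimpleRing_of_isAzumaya (R ⧸ m) _

variable {M : Type w} [AddCommGroup M] [Module R M] [Module A M] [IsScalarTower R A M]
  {N : Type w} [AddCommGroup N] [Module R N] [Module A N] [IsScalarTower R A N]

/-- (C2) for Azumaya algebras -/
theorem exists_bijective_comp_azumaya (hR : LGRing.IsLGRing R) [IsAzumaya R A]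
    [Module.Finite A M] [Module.Projective A M] [Module.Finite A N] [Module.Projective A N]
    (hrank : ∀ p : PrimeSpectrum R, Module.rankAtStalk N p ≤ Module.rankAtStalk M p) :
    ∃ (g : M →ₗ[A] N) (h : N →ₗ[A] M), Function.Bijective (g ∘ₗ h) :=
  exists_bijective_comp hR (fun m _ => isSimpleRing_fibre m) (fun m hm => hrank ⟨m, hm.isPrime⟩)

end Azu

section C3
variable {R : Type u} [CommRing R] {A : Type v} [Ring A] [Algebra R A]
  {M : Type w} [AddCommGroup M] [Module R M] [Module A M] [IsScalarTower R A M]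
  {N : Type w} [AddCommGroup N] [Module R N] [Module A N] [IsScalarTower R A N]

/-- **(C3)** over an LG ring, for an algebra with simple fibres at maximal ideals, finite
projective modules of the same rank are isomorphic. -/
theorem nonempty_linearEquiv (hR : LGRing.IsLGRing R) [Module.Finite R A] [Module.Projective R A]
    [Module.Finite A M] [Module.Projective A M] [Module.Finite A N] [Module.Projective A N]
    (hsimple : ∀ (m : Ideal R) [m.IsMaximal], IsSimpleRing ((R ⧸ m) ⊗[R] A))
    (hrank : ∀ (m : Ideal R) [hm : m.IsMaximal],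
      Module.rankAtStalk N ⟨m, hm.isPrime⟩ = Module.rankAtStalk M ⟨m, hm.isPrime⟩) :
    Nonempty (M ≃ₗ[A] N) := by
  obtain ⟨g, h, hgh⟩ := exists_bijective_comp (M := M) (N := N) hR hsimple
    (fun m hm => (hrank m).le)
  obtain ⟨g', h', hgh'⟩ := exists_bijective_comp (M := N) (N := M) hR hsimple
    (fun m hm => (hrank m).ge)
  have hg : Function.Surjective g := by
    have := hgh.2
    rw [LinearMap.coe_comp] at this
    exact Function.Surjective.of_comp this
  have hg' : Function.Surjective g' := by
    have := hgh'.2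
    rw [LinearMap.coe_comp] at this
    exact Function.Surjective.of_comp this
  haveI : Module.Finite R M := Module.Finite.trans A M
  have hinj : Function.Injective ((g' ∘ₗ g).restrictScalars R) :=
    OrzechProperty.injective_of_surjective_endomorphism ((g' ∘ₗ g).restrictScalars R)
      (hg'.comp hg)
  have hginj : Function.Injective g := by
    have h1 : Function.Injective (g' ∘ g) := hinj
    exact Function.Injective.of_comp h1
  exact ⟨LinearEquiv.ofBijective g ⟨hginj, hg⟩⟩

end C3

section Indec
variable {R : Type u} [CommRing R] {A : Type v} [Ring A] [Algebra R A]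

theorem rank_const [ConnectedSpace (PrimeSpectrum R)] (M : Type w) [AddCommGroup M] [Module R M]
    [Module.Finite R M] [Module.Projective R M] (p q : PrimeSpectrum R) :
    Module.rankAtStalk M p = Module.rankAtStalk M q := by
  haveI : Module.FinitePresentation R M := Module.finitePresentation_of_projective R M
  exact (Module.isLocallyConstant_rankAtStalk (R := R) (M := M)).apply_eq_of_preconnectedSpace p q

/-- an indecomposable module of larger rank is isomorphic to any nonzero one -/
theorem equiv_of_indecomposable (hR : LGRing.IsLGRing R) [IsAzumaya R A]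
    (P Q : Type w) [AddCommGroup P] [Module R P] [Module A P] [IsScalarTower R A P]
    [Module.Finite A P] [Module.Projective A P]
    [AddCommGroup Q] [Module R Q] [Module A Q] [IsScalarTower R A Q]
    [Module.Finite A Q] [Module.Projective A Q] [Nontrivial Q]
    (hP : ∀ e : Module.End A P, IsIdempotentElem e → e = 0 ∨ e = 1)
    (hrank : ∀ p : PrimeSpectrum R, Module.rankAtStalk Q p ≤ Module.rankAtStalk P p) :
    Nonempty (P ≃ₗ[A] Q) := by
  obtain ⟨g, h, hgh⟩ := exists_bijective_comp_azumaya hR (A := A) (M := P) (N := Q) hrank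
  let u : Q ≃ₗ[A] Q := LinearEquiv.ofBijective (g ∘ₗ h) hgh
  let h' : Q →ₗ[A] P := h ∘ₗ u.symm.toLinearMap
  have hgh' : ∀ y, g (h' y) = y := fun y => by
    have : u (u.symm y) = y := u.apply_symm_apply y
    exact this
  let e : Module.End A P := h' ∘ₗ g
  have he : IsIdempotentElem e := by
    refine LinearMap.ext fun x => ?_
    show h' (g (h' (g x))) = h' (g x)
    rw [hgh']
  rcases hP e he with h0 | h1
  · exfalso
    obtain ⟨y, hy⟩ := exists_ne (0 : Q)
    apply hy
    have h1 : e (h' y) = 0 := by rw [h0]; rfl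
    have h2 : g (e (h' y)) = y := by
      show g (h' (g (h' y))) = y
      rw [hgh', hgh']
    rw [h1, map_zero] at h2
    exact h2.symm
  · have hgh'' : ∀ x, h' (g x) = x := fun x => by
      have : e x = x := by rw [h1]; rfl
      exact this
    exact ⟨LinearEquiv.ofLinearMap g h' (LinearMap.ext hgh') (LinearMap.ext hgh'')⟩

/-- S16602 with the `R`-module structures given -/
theorem equiv_of_indecomposable' (hR : LGRing.IsLGRing R) [ConnectedSpace (PrimeSpectrum R)]
    [IsAzumaya R A]
    (P Q : Type w) [AddCommGroup P] [Module R P] [Module A P] [IsScalarTower R A P]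
    [Module.Finite A P] [Module.Projective A P] [Nontrivial P]
    [AddCommGroup Q] [Module R Q] [Module A Q] [IsScalarTower R A Q]
    [Module.Finite A Q] [Module.Projective A Q] [Nontrivial Q]
    (hP : ∀ e : Module.End A P, IsIdempotentElem e → e = 0 ∨ e = 1)
    (hQ : ∀ e : Module.End A Q, IsIdempotentElem e → e = 0 ∨ e = 1) :
    Nonempty (P ≃ₗ[A] Q) := by
  haveI : Module.Finite R P := Module.Finite.trans A P
  haveI : Module.Finite R Q := Module.Finite.trans A Q
  haveI : Module.Projective R P := projective_of_tower R A P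
  haveI : Module.Projective R Q := projective_of_tower R A Q
  let p₀ : PrimeSpectrum R := Classical.arbitrary _
  rcases le_total (Module.rankAtStalk Q p₀) (Module.rankAtStalk P p₀) with hle | hle
  · exact equiv_of_indecomposable hR P Q hP (fun p => by
      rw [rank_const Q p p₀, rank_const P p p₀]; exact hle)
  · obtain ⟨e⟩ := equiv_of_indecomposable hR Q P hQ (fun p => by
      rw [rank_const Q p p₀, rank_const P p p₀]; exact hle)
    exact ⟨e.symm⟩

end Indec

end Groth.Agent.Helper8.LGAzu
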