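import Mathlib
import Groth.Agent.Helper8.LGAzu
import Groth.Agent.Helper9.AzuBC

/-!
# An Azumaya algebra over a local ring is free over a maximal étale subalgebra, which splits it

Setting: `R` commutative, `A` an `R`-algebra, `E` a commutative `R`-algebra, `u : E →ₐ[R] A`,
and `A` is an `E`-module through `e • a = a * u e`.

* `Phi` : the canonical `E`-algebra map `E ⊗[R] A → End_E(A)`, `e ⊗ a ↦ (y ↦ e • (a * y))`.
* `finrank_le_sq` : for `A` Azumaya, the fibre of `A` at a maximal ideal of `E` has dimension `d`
  with `rank A ≤ d²` (a simple ring acts faithfully).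
* `finrank_eq_sum` : dimension count over a reduced finite algebra over a field
  (module version of the Chinese remainder theorem).
* `exists_gens_field` : field case — `A` is generated by `r` elements as an `E`-module.
* `bijective_of_injective_fibres` : a linear map of finite free modules of the same rank which is
  injective modulo every maximal ideal is bijective.
* `main` : S5711.
-/

set_option autoImplicit false
set_option linter.style.haveILetI false
universe u

open TensorProduct

namespace Groth.Agent.Helper8.AzuFreeEt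

section Phi
variable {R : Type u} [CommRing R] {A : Type u} [Ring A] [Algebra R A] {E : Type u} [CommRing E]
  [Algebra R E] (u : E →ₐ[R] A) [Module E A] [IsScalarTower R E A]
  (hmod : ∀ (e : E) (a : A), e • a = a * u e)

include hmod in
theorem smul_mul (e : E) (a y : A) : e • (a * y) = a * (e • y) := by
  rw [hmod, hmod, mul_assoc]

/-- left multiplication as `E`-linear endomorphisms -/
noncomputable def lmul : A →ₐ[R] Module.End E A where
  toFun a :=
    { toFun := fun y => a * y
      map_add' := mul_add a
      map_smul' := fun e y => by rw [RingHom.id_apply, smul_mul u hmod] }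
  map_one' := by ext y; simp
  map_mul' a b := by ext y; simp [mul_assoc]
  map_zero' := by ext y; simp
  map_add' a b := by ext y; simp [add_mul]
  commutes' c := by ext y; simp [Algebra.smul_def]

@[simp] theorem lmul_apply (a y : A) : lmul u hmod a y = a * y := rfl

/-- the canonical map `E ⊗[R] A → End_E(A)` -/
noncomputable def Phi : E ⊗[R] A →ₐ[E] Module.End E A :=
  Algebra.TensorProduct.lift (Algebra.ofId E (Module.End E A)) (lmul u hmod)
    (fun e _ => Algebra.commute_algebraMap_left e _)

theorem Phi_tmul (e : E) (a y : A) : Phi u hmod (e ⊗ₜ a) y = e • (a * y) := by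
  simp [Phi, Algebra.ofId_apply]

section Fibre
variable [IsAzumaya R A] [Module.Free R A]

include hmod in
/-- lower bound for the fibre dimension: a simple ring of dimension `rank A` acts faithfully -/
theorem finrank_le_sq (P : Ideal E) [P.IsMaximal] [Module.Finite E A]
    [Nontrivial ((E ⧸ P) ⊗[E] A)] :
    Module.finrank R A ≤ (Module.finrank (E ⧸ P) ((E ⧸ P) ⊗[E] A)) ^ 2 := by
  letI : Field (E ⧸ P) := Ideal.Quotient.field P
  haveI : Nontrivial E := (Ideal.Quotient.mk P).domain_nontrivial
  haveI : Nontrivial R := (algebraMap R E).domain_nontrivial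
  haveI : IsAzumaya E (E ⊗[R] A) := Groth.Agent.Helper9.AzuBC.baseChange R E A
  haveI : IsSimpleRing ((E ⧸ P) ⊗[E] (E ⊗[R] A)) := LGAzu.isSimpleRing_fibre P
  let bc : Module.End E A →ₐ[E] Module.End (E ⧸ P) ((E ⧸ P) ⊗[E] A) :=
    Module.End.baseChangeHom E (E ⧸ P) A
  let Ψ : (E ⧸ P) ⊗[E] (E ⊗[R] A) →ₐ[E ⧸ P] Module.End (E ⧸ P) ((E ⧸ P) ⊗[E] A) :=
    Algebra.TensorProduct.lift (Algebra.ofId (E ⧸ P) _) (bc.comp (Phi u hmod))
      (fun x _ => Algebra.commute_algebraMap_left x _)
  have hinj : Function.Injective Ψ := fun x y h => RingHom.injective Ψ.toRingHom h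
  have h1 := LinearMap.finrank_le_finrank_of_injective (f := Ψ.toLinearMap) hinj
  have h2 : Module.finrank (E ⧸ P) ((E ⧸ P) ⊗[E] (E ⊗[R] A)) = Module.finrank R A := by
    rw [Module.finrank_baseChange, Module.finrank_baseChange]
  have h3 : Module.finrank (E ⧸ P) (Module.End (E ⧸ P) ((E ⧸ P) ⊗[E] A)) =
      (Module.finrank (E ⧸ P) ((E ⧸ P) ⊗[E] A)) ^ 2 := by
    rw [Module.finrank_linearMap, sq]
  rw [h2, h3] at h1
  exact h1

end Fibre

end Phi

section Nontriv
variable {R : Type u} [CommRing R] {A : Type u} [Ring A] [Algebra R A] {E : Type u} [CommRing E]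
  [Algebra R E] (u : E →ₐ[R] A) [Module E A] (hmod : ∀ (e : E) (a : A), e • a = a * u e)

include hmod in
theorem nontrivial_fibre (hu : Function.Injective u) [Module.Finite E A] (P : Ideal E)
    (hP : P ≠ ⊤) : Nontrivial ((E ⧸ P) ⊗[E] A) := by
  have hne : P • (⊤ : Submodule E A) ≠ ⊤ := by
    intro htop
    obtain ⟨r, hr1, hr2⟩ := Submodule.exists_sub_one_mem_and_smul_eq_zero_of_fg_of_le_smul P
      (⊤ : Submodule E A) Module.Finite.fg_top (le_of_eq htop.symm)
    have h0 : u r = 0 := by
      have := hr2 1 trivial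
      rwa [hmod, one_mul] at this
    have hr0 : r = 0 := hu (by rw [h0, map_zero])
    rw [hr0, zero_sub] at hr1
    exact hP ((Ideal.eq_top_iff_one P).2 (by simpa using P.neg_mem hr1))
  haveI : Nontrivial (A ⧸ (P • (⊤ : Submodule E A))) :=
    Submodule.Quotient.nontrivial_iff.2 hne
  exact (TensorProduct.quotTensorEquivQuotSMul A P).toEquiv.nontrivial

end Nontriv

section Det

/-- a linear map between finite free modules of the same rank that is injective modulo every
maximal ideal is bijective -/
theorem bijective_of_injective_fibres {E : Type u} [CommRing E] [Nontrivial E] {M N : Type u} [AddCommGroup M]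
    [Module E M] [AddCommGroup N] [Module E N] [Module.Free E M] [Module.Finite E M]
    [Module.Free E N] [Module.Finite E N]
    (hrank : Module.finrank E M = Module.finrank E N) (f : M →ₗ[E] N)
    (h : ∀ (P : Ideal E) [P.IsMaximal], Function.Injective (f.baseChange (E ⧸ P))) :
    Function.Bijective f := by
  classical
  let bM : Module.Basis (Fin (Module.finrank E M)) E M := Module.finBasisOfFinrankEq E M rfl
  let bN : Module.Basis (Fin (Module.finrank E M)) E N :=
    Module.finBasisOfFinrankEq E N hrank.symm
  have hdet : IsUnit (LinearMap.toMatrix bM bN f).det := by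
    by_contra hnu
    obtain ⟨P, hPmax, hmem⟩ := exists_max_ideal_of_mem_nonunits (mem_nonunits_iff.2 hnu)
    letI : Field (E ⧸ P) := Ideal.Quotient.field P
    have hinj := h P
    have hmat := LinearMap.toMatrix_baseChange (E ⧸ P) f bM bN
    have hdet0 : (LinearMap.toMatrix (Algebra.TensorProduct.basis (E ⧸ P) bM)
        (Algebra.TensorProduct.basis (E ⧸ P) bN) (f.baseChange (E ⧸ P))).det = 0 := by
      rw [hmat, ← RingHom.mapMatrix_apply, ← RingHom.map_det]
      exact Ideal.Quotient.eq_zero_iff_mem.2 hmem
    obtain ⟨v, hv0, hv⟩ := Matrix.exists_mulVec_eq_zero_iff.2 hdet0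
    apply hv0
    have hx : (⇑((Algebra.TensorProduct.basis (E ⧸ P) bM).repr
        ((Algebra.TensorProduct.basis (E ⧸ P) bM).equivFun.symm v)) :
        Fin (Module.finrank E M) → E ⧸ P) = v := by
      rw [← Module.Basis.equivFun_apply, LinearEquiv.apply_symm_apply]
    have key := LinearMap.toMatrix_mulVec_repr (Algebra.TensorProduct.basis (E ⧸ P) bM)
      (Algebra.TensorProduct.basis (E ⧸ P) bN) (f.baseChange (E ⧸ P))
      ((Algebra.TensorProduct.basis (E ⧸ P) bM).equivFun.symm v)
    rw [hx, hv] at key
    have hfx : (f.baseChange (E ⧸ P))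
        ((Algebra.TensorProduct.basis (E ⧸ P) bM).equivFun.symm v) = 0 := by
      apply (Algebra.TensorProduct.basis (E ⧸ P) bN).equivFun.injective
      rw [map_zero]
      exact key.symm
    have hx0 : (Algebra.TensorProduct.basis (E ⧸ P) bM).equivFun.symm v = 0 :=
      hinj (by rw [hfx, map_zero])
    have := congrArg (Algebra.TensorProduct.basis (E ⧸ P) bM).equivFun hx0
    rw [LinearEquiv.apply_symm_apply, map_zero] at this
    exact this
  have := (LinearEquiv.ofIsUnitDet hdet).bijective
  rwa [← LinearEquiv.coe_coe, LinearEquiv.coe_ofIsUnitDet] at this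

end Det

section Sum

/-- dimension count for a module over a reduced finite algebra over a field -/
theorem finrank_eq_sum (k : Type u) [Field k] (E : Type u) [CommRing E] [Algebra k E]
    [Module.Finite k E] [IsArtinianRing E] [IsReduced E] [Fintype (MaximalSpectrum E)]
    (M : Type u) [AddCommGroup M] [Module k M] [Module E M] [IsScalarTower k E M]
    [Module.Finite E M] :
    Module.finrank k M = ∑ Q : MaximalSpectrum E,
      Module.finrank k (E ⧸ Q.asIdeal) *
        Module.finrank (E ⧸ Q.asIdeal) ((E ⧸ Q.asIdeal) ⊗[E] M) := by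
  classical
  have hcop : Pairwise (Function.onFun IsCoprime fun Q : MaximalSpectrum E => Q.asIdeal) :=
    fun Q Q' hne => Ideal.isCoprime_of_isMaximal (MaximalSpectrum.ext_iff.ne.mp hne)
  let φ : M →ₗ[E] ∀ Q : MaximalSpectrum E, (E ⧸ Q.asIdeal) ⊗[E] M :=
    LinearMap.pi fun Q => TensorProduct.mk E (E ⧸ Q.asIdeal) M 1
  have hsurj : Function.Surjective φ :=
    Ideal.pi_tensorProductMk_quotient_surjective M _ hcop
  have hker : LinearMap.ker φ = ⊥ := by
    rw [Ideal.ker_tensorProductMk_quotient M _ hcop]
    have : (⨅ Q : MaximalSpectrum E, Q.asIdeal) = ⊥ := by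
      have h1 := IsArtinianRing.nilradical_eq_iInf E
      rw [nilradical_eq_zero] at h1
      exact h1.symm
    rw [this, Submodule.bot_smul]
  let e : M ≃ₗ[E] ∀ Q : MaximalSpectrum E, (E ⧸ Q.asIdeal) ⊗[E] M :=
    LinearEquiv.ofBijective φ ⟨LinearMap.ker_eq_bot.1 hker, hsurj⟩
  haveI : ∀ Q : MaximalSpectrum E, Module.Finite k (E ⧸ Q.asIdeal) := fun Q =>
    Module.Finite.of_surjective (Ideal.Quotient.mkₐ k Q.asIdeal).toLinearMap
      Ideal.Quotient.mk_surjective
  haveI : ∀ Q : MaximalSpectrum E, Module.Finite k ((E ⧸ Q.asIdeal) ⊗[E] M) := fun Q =>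
    Module.Finite.trans (E ⧸ Q.asIdeal) _
  have h1 : Module.finrank k M =
      Module.finrank k (∀ Q : MaximalSpectrum E, (E ⧸ Q.asIdeal) ⊗[E] M) :=
    (e.restrictScalars k).finrank_eq
  rw [h1, Module.finrank_pi_fintype]
  refine Finset.sum_congr rfl fun Q _ => ?_
  letI : Field (E ⧸ Q.asIdeal) := Ideal.Quotient.field Q.asIdeal
  exact (Module.finrank_mul_finrank k (E ⧸ Q.asIdeal) _).symm

end Sum

section Field

/-- field case: `A` is generated by `r` elements as a (right) `E`-module -/
theorem exists_gens_field (k : Type u) [Field k] (A : Type u) [Ring A] [Algebra k A]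
    [IsAzumaya k A] (r : ℕ) (hA : Module.finrank k A = r ^ 2) (E : Type u) [CommRing E]
    [Algebra k E] [Module.Finite k E] [IsReduced E] (hE : Module.finrank k E = r)
    (u : E →ₐ[k] A) (hu : Function.Injective u) :
    ∃ b : Fin r → A, Function.Surjective (fun c : Fin r → E => ∑ j, b j * u (c j)) := by
  classical
  let uop : E →+* Aᵐᵒᵖ := RingHom.toOpposite (u : E →+* A) (fun x y => by
    show (u : E →+* A) x * (u : E →+* A) y = (u : E →+* A) y * (u : E →+* A) x
    rw [← map_mul, ← map_mul, mul_comm])
  letI : Module E A := Module.compHom A uop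
  have hmod : ∀ (e : E) (a : A), e • a = a * u e := fun e a => rfl
  haveI : IsScalarTower k E A := ⟨fun c e a => by rw [hmod, hmod, map_smul, mul_smul_comm]⟩
  haveI : IsArtinianRing E := IsArtinianRing.of_finite k E
  letI : Fintype (MaximalSpectrum E) := Fintype.ofFinite _
  haveI : Module.Finite E A := Module.Finite.of_restrictScalars_finite k E A
  have hd : ∀ Q : MaximalSpectrum E,
      Module.finrank (E ⧸ Q.asIdeal) ((E ⧸ Q.asIdeal) ⊗[E] A) = r := by
    have hge : ∀ Q : MaximalSpectrum E,
        r ≤ Module.finrank (E ⧸ Q.asIdeal) ((E ⧸ Q.asIdeal) ⊗[E] A) := by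
      intro Q
      haveI := Q.isMaximal
      haveI : Nontrivial ((E ⧸ Q.asIdeal) ⊗[E] A) :=
        nontrivial_fibre u hmod hu Q.asIdeal Q.isMaximal.ne_top
      have := finrank_le_sq u hmod Q.asIdeal
      rw [hA] at this
      exact (Nat.pow_le_pow_iff_left two_ne_zero).1 this
    have hsumA := finrank_eq_sum k E A
    have hsumE := finrank_eq_sum k E E
    have h1 : ∀ Q : MaximalSpectrum E,
        Module.finrank (E ⧸ Q.asIdeal) ((E ⧸ Q.asIdeal) ⊗[E] E) = 1 := by
      intro Q
      haveI := Q.isMaximal
      haveI : Nontrivial (E ⧸ Q.asIdeal) := Ideal.Quotient.nontrivial_iff.2 Q.isMaximal.ne_top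
      haveI : Nontrivial E := (Ideal.Quotient.mk Q.asIdeal).domain_nontrivial
      rw [Module.finrank_baseChange, Module.finrank_self]
    simp only [h1, mul_one] at hsumE
    rw [hA] at hsumA
    rw [hE] at hsumE
    have hle : ∀ Q ∈ (Finset.univ : Finset (MaximalSpectrum E)),
        Module.finrank k (E ⧸ Q.asIdeal) * r ≤ Module.finrank k (E ⧸ Q.asIdeal) *
          Module.finrank (E ⧸ Q.asIdeal) ((E ⧸ Q.asIdeal) ⊗[E] A) :=
      fun Q _ => Nat.mul_le_mul_left _ (hge Q)
    have hsum_eq : ∑ Q : MaximalSpectrum E, Module.finrank k (E ⧸ Q.asIdeal) * r =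
        ∑ Q : MaximalSpectrum E, Module.finrank k (E ⧸ Q.asIdeal) *
          Module.finrank (E ⧸ Q.asIdeal) ((E ⧸ Q.asIdeal) ⊗[E] A) := by
      rw [← Finset.sum_mul, ← hsumE, ← hsumA, sq]
    have hall := (Finset.sum_eq_sum_iff_of_le hle).1 hsum_eq
    intro Q
    have hQ := hall Q (Finset.mem_univ Q)
    haveI := Q.isMaximal
    letI : Field (E ⧸ Q.asIdeal) := Ideal.Quotient.field Q.asIdeal
    haveI : Module.Finite k (E ⧸ Q.asIdeal) :=
      Module.Finite.of_surjective (Ideal.Quotient.mkₐ k Q.asIdeal).toLinearMap
        Ideal.Quotient.mk_surjective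
    have hfpos : 0 < Module.finrank k (E ⧸ Q.asIdeal) := Module.finrank_pos
    exact (Nat.eq_of_mul_eq_mul_left hfpos hQ).symm
  haveI : IsSemisimpleRing E := IsArtinianRing.isSemisimpleRing_of_isReduced E
  haveI : Module.Projective E A := Module.projective_of_isSemisimpleRing E A
  obtain ⟨b⟩ := Module.nonempty_basis_of_flat_of_finrank_eq E A r hd
  refine ⟨b, fun a => ⟨fun j => b.repr a j, ?_⟩⟩
  simp only [← hmod]
  exact b.sum_repr a

end Field

section Main
open IsLocalRing

theorem main (R : Type u) [CommRing R] [IsLocalRing R] (A : Type u) [Ring A] [Algebra R A]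
    [IsAzumaya R A] (r : ℕ) (hA : Module.finrank R A = r ^ 2) (E : Type u) [CommRing E]
    [Algebra R E] [Algebra.Etale R E] [Module.Finite R E] [Module.Free R E]
    (hE : Module.finrank R E = r) (u : E →ₐ[R] A)
    (hu : Function.Injective (u.toLinearMap.lTensor (IsLocalRing.ResidueField R)))
    [Module E A] (hmod : ∀ (e : E) (a : A), e • a = a * u e) :
    Module.Free E A ∧ Module.finrank E A = r ∧
      Nonempty ((E ⊗[R] A) ≃ₐ[E] Module.End E A) := by
  classical
  haveI : IsScalarTower R E A := ⟨fun c e a => by rw [hmod, hmod, map_smul, mul_smul_comm]⟩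
  haveI : Module.Free R A := Module.free_of_flat_of_isLocalRing
  haveI : Module.Finite E A := Module.Finite.of_restrictScalars_finite R E A
  haveI : Nontrivial A := by
    by_contra hcon
    rw [not_nontrivial_iff_subsingleton] at hcon
    have : (1 : R) = 0 := by
      apply FaithfulSMul.eq_of_smul_eq_smul (α := A)
      intro x
      exact Subsingleton.elim _ _
    exact one_ne_zero this
  have hr : r ≠ 0 := by
    intro h0
    have hpos := (Module.finrank_pos_iff_of_free (R := R) (M := A)).2 inferInstance
    rw [hA, h0] at hpos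
    simp at hpos
  haveI : Nontrivial E := by
    apply Module.nontrivial_of_finrank_pos (R := R)
    rw [hE]
    exact Nat.pos_of_ne_zero hr
  -- the special fibre
  haveI : IsAzumaya (ResidueField R) (ResidueField R ⊗[R] A) :=
    Groth.Agent.Helper9.AzuBC.baseChange R (ResidueField R) A
  have hA' : Module.finrank (ResidueField R) (ResidueField R ⊗[R] A) = r ^ 2 := by
    rw [Module.finrank_baseChange, hA]
  have hE' : Module.finrank (ResidueField R) (ResidueField R ⊗[R] E) = r := by
    rw [Module.finrank_baseChange, hE]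
  haveI : IsReduced (ResidueField R ⊗[R] E) :=
    Algebra.FormallyUnramified.isReduced_of_field (ResidueField R) _
  let ub : ResidueField R ⊗[R] E →ₐ[ResidueField R] ResidueField R ⊗[R] A :=
    Algebra.TensorProduct.map (AlgHom.id _ _) u
  have hub : Function.Injective ub := by
    have : ⇑ub = ⇑(u.toLinearMap.lTensor (ResidueField R)) := by
      funext x
      induction x using TensorProduct.induction_on with
      | zero => simp
      | tmul c e => simp [ub]
      | add x y hx hy => rw [map_add, map_add, hx, hy]
    rw [this]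
    exact hu
  obtain ⟨bb, hbb⟩ := exists_gens_field (ResidueField R) _ r hA' _ hE' ub hub
  -- lift the generators
  have hmkA : Function.Surjective (TensorProduct.mk R (ResidueField R) A 1) :=
    TensorProduct.mk_surjective R A _ Ideal.Quotient.mk_surjective
  have hmkE : Function.Surjective (TensorProduct.mk R (ResidueField R) E 1) :=
    TensorProduct.mk_surjective R E _ Ideal.Quotient.mk_surjective
  choose a ha using fun j => hmkA (bb j)
  let ψ : (Fin r → E) →ₗ[E] A := Fintype.linearCombination E a
  have hψ : ∀ c : Fin r → E, ψ c = ∑ j, a j * u (c j) := by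
    intro c
    simp only [ψ, Fintype.linearCombination_apply, hmod]
  have hsurj : Function.Surjective ψ := by
    have htop : LinearMap.range (ψ.restrictScalars R) = ⊤ := by
      rw [← IsLocalRing.map_tensorProduct_mk_eq_top, eq_top_iff]
      intro y _
      obtain ⟨cb, hcb⟩ := hbb y
      choose c hc using fun j => hmkE (cb j)
      refine ⟨ψ c, ⟨c, rfl⟩, ?_⟩
      rw [← hcb, hψ]
      simp only [map_sum]
      refine Finset.sum_congr rfl fun j _ => ?_
      rw [← ha j, ← hc j]
      simp [ub]
    intro x
    have hx : x ∈ LinearMap.range (ψ.restrictScalars R) := htop ▸ Submodule.mem_top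
    obtain ⟨c, hc⟩ := hx
    exact ⟨c, hc⟩
  have hinj : Function.Injective ψ := by
    have hfr : Module.finrank R (Fin r → E) = Module.finrank R A := by
      rw [Module.finrank_pi_fintype, hA]
      simp [hE, sq]
    let i : (Fin r → E) ≃ₗ[R] A := LinearEquiv.ofFinrankEq _ _ hfr
    exact OrzechProperty.injective_of_surjective_of_injective i.toLinearMap
      (ψ.restrictScalars R) i.injective hsurj
  let ψe : (Fin r → E) ≃ₗ[E] A := LinearEquiv.ofBijective ψ ⟨hinj, hsurj⟩
  haveI hfree : Module.Free E A := Module.Free.of_equiv ψe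
  have hrank : Module.finrank E A = r := by
    rw [← ψe.finrank_eq, Module.finrank_fin_fun]
  refine ⟨hfree, hrank, ?_⟩
  have hbij : Function.Bijective (Phi u hmod) := by
    refine bijective_of_injective_fibres (E := E) (M := E ⊗[R] A) (N := Module.End E A) ?_
      (Phi u hmod).toLinearMap ?_
    · rw [Module.finrank_baseChange, hA, Module.finrank_linearMap, hrank, sq]
    · intro P hP
      letI : Field (E ⧸ P) := Ideal.Quotient.field P
      haveI : IsAzumaya E (E ⊗[R] A) := Groth.Agent.Helper9.AzuBC.baseChange R E A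
      haveI : IsSimpleRing ((E ⧸ P) ⊗[E] (E ⊗[R] A)) := LGAzu.isSimpleRing_fibre P
      haveI : Nontrivial ((E ⧸ P) ⊗[E] Module.End E A) := by
        apply Module.nontrivial_of_finrank_pos (R := E ⧸ P)
        rw [Module.finrank_baseChange, Module.finrank_linearMap, hrank]
        exact Nat.mul_pos (Nat.pos_of_ne_zero hr) (Nat.pos_of_ne_zero hr)
      let g : (E ⧸ P) ⊗[E] (E ⊗[R] A) →ₐ[E ⧸ P] (E ⧸ P) ⊗[E] Module.End E A :=
        Algebra.TensorProduct.map (AlgHom.id _ _) (Phi u hmod)
      have hg : Function.Injective g := fun x y h => RingHom.injective g.toRingHom h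
      have : ⇑((Phi u hmod).toLinearMap.baseChange (E ⧸ P)) = ⇑g := by
        funext x
        induction x using TensorProduct.induction_on with
        | zero => simp
        | tmul c e => simp [g]
        | add x y hx hy => rw [map_add, map_add, hx, hy]
      rw [this]
      exact hg
  exact ⟨AlgEquiv.ofBijective (Phi u hmod) hbij⟩

end Main

end Groth.Agent.Helper8.AzuFreeEt
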