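import Mathlib
import Groth.Agent.Helper3.HensRows
import Groth.Agent.Helper9.AzuBC

namespace Groth.Agent.Helper8.AzuSplit

open TensorProduct Polynomial MulOpposite
open scoped IsMulCommutative

universe u v w

section CH

variable (R : Type u) [CommRing R] [IsLocalRing R]
variable (C : Type v) [Ring C] [Algebra R C] [Module.Finite R C] [Module.Free R C]

theorem exists_monic_of_tmul_eq_zero (y : C)
    (hy : (1 : IsLocalRing.ResidueField R) ⊗ₜ[R] y = 0) :
    ∃ p : R[X], p.Monic ∧ (∀ i < p.natDegree, p.coeff i ∈ IsLocalRing.maximalIdeal R) ∧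
      aeval y p = 0 := by
  refine ⟨(Algebra.lmul R C y).charpoly, LinearMap.charpoly_monic _, ?_, ?_⟩
  · intro i hi
    have h1 : ((Algebra.lmul R C y).charpoly).map (algebraMap R (IsLocalRing.ResidueField R)) =
        X ^ Module.finrank R C := by
      rw [← LinearMap.charpoly_baseChange, Algebra.baseChange_lmul, hy, map_zero,
        LinearMap.charpoly_zero, Module.finrank_baseChange]
    have h2 := congr(($h1).coeff i)
    rw [coeff_map, coeff_X_pow, if_neg (by rw [← LinearMap.charpoly_natDegree]; exact hi.ne)] at h2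
    exact (IsLocalRing.residue_eq_zero_iff _).1 h2
  · have h3 := LinearMap.aeval_self_charpoly (Algebra.lmul R C y)
    rw [Polynomial.aeval_algHom_apply] at h3
    have h4 := congr($h3 1)
    simpa using h4

end CH

section Idem

variable (R : Type u) [CommRing R] [HenselianLocalRing R]
variable (C : Type v) [Ring C] [Algebra R C] [Module.Finite R C] [Module.Free R C]

theorem exists_idem_lift (ε₀ : IsLocalRing.ResidueField R ⊗[R] C) (h : IsIdempotentElem ε₀) :
    ∃ ε : C, IsIdempotentElem ε ∧ (1 : IsLocalRing.ResidueField R) ⊗ₜ[R] ε = ε₀ := by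
  obtain ⟨a, rfl⟩ := TensorProduct.mk_surjective R C (IsLocalRing.ResidueField R)
    IsLocalRing.residue_surjective ε₀
  change IsIdempotentElem ((1 : IsLocalRing.ResidueField R) ⊗ₜ[R] a) at h
  change ∃ ε : C, IsIdempotentElem ε ∧ (1 : IsLocalRing.ResidueField R) ⊗ₜ[R] ε =
    (1 : IsLocalRing.ResidueField R) ⊗ₜ[R] a
  have hmS : ∀ (S : Subalgebra R C), ∀ s ∈ (IsLocalRing.maximalIdeal R).map (algebraMap R S),
      (1 : IsLocalRing.ResidueField R) ⊗ₜ[R] (s : C) = 0 := by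
    intro S
    let ψ : S →ₐ[R] (IsLocalRing.ResidueField R ⊗[R] C) :=
      (Algebra.TensorProduct.includeRight).comp S.val
    have hker : (IsLocalRing.maximalIdeal R).map (algebraMap R S) ≤ RingHom.ker ψ.toRingHom := by
      rw [Ideal.map_le_iff_le_comap]
      intro r hr
      rw [Ideal.mem_comap, RingHom.mem_ker]
      change ψ (algebraMap R S r) = 0
      rw [AlgHom.commutes, Algebra.TensorProduct.algebraMap_apply]
      have : algebraMap R (IsLocalRing.ResidueField R) r = 0 :=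
        (IsLocalRing.residue_eq_zero_iff _).2 hr
      rw [this, zero_tmul]
    intro s hs
    exact hker hs
  -- the element y
  obtain ⟨p, hp, hpc, hpy⟩ := exists_monic_of_tmul_eq_zero R C (a - a ^ 2) (by
    rw [tmul_sub, pow_two, ← mul_one (1 : IsLocalRing.ResidueField R),
      ← Algebra.TensorProduct.tmul_mul_tmul, mul_one, h.eq, sub_self])
  let a' : Algebra.adjoin R ({a} : Set C) := ⟨a, Algebra.self_mem_adjoin_singleton R a⟩
  have hy' : aeval (a' - a' ^ 2) p = 0 := Subtype.ext (by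
    rw [Polynomial.aeval_subalgebra_coe]; simpa using hpy)
  have hmem : (a' - a' ^ 2) ^ p.natDegree ∈
      (IsLocalRing.maximalIdeal R).map (algebraMap R (Algebra.adjoin R ({a} : Set C))) := by
    have h1 := hp.as_sum
    rw [h1, map_add, map_pow, aeval_X, map_sum] at hy'
    rw [eq_neg_of_add_eq_zero_left hy']
    refine neg_mem (Ideal.sum_mem _ fun i hi => ?_)
    rw [map_mul, aeval_C]
    exact Ideal.mul_mem_right _ _ (Ideal.mem_map_of_mem _ (hpc i (Finset.mem_range.1 hi)))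
  -- quotient computation
  set N := p.natDegree + 1 with hN
  have hmemN : (a' - a' ^ 2) ^ N ∈
      (IsLocalRing.maximalIdeal R).map (algebraMap R (Algebra.adjoin R ({a} : Set C))) := by
    rw [hN, pow_succ]; exact Ideal.mul_mem_right _ _ hmem
  let b : Algebra.adjoin R ({a} : Set C) := 1 - (1 - a' ^ N) ^ N
  have hb : b * b - b ∈
      (IsLocalRing.maximalIdeal R).map (algebraMap R (Algebra.adjoin R ({a} : Set C))) := by
    rw [← Ideal.Quotient.eq_zero_iff_mem, map_sub, map_mul, sub_eq_zero]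
    have h2 := isIdempotentElem_one_sub_one_sub_pow_pow
      (Ideal.Quotient.mk ((IsLocalRing.maximalIdeal R).map
        (algebraMap R (Algebra.adjoin R ({a} : Set C)))) a') N (by
        rw [← map_pow, ← map_sub, ← map_pow, Ideal.Quotient.eq_zero_iff_mem]; exact hmemN)
    simpa [b] using h2.eq
  have hint : Algebra.IsIntegral R (Algebra.adjoin R ({a} : Set C)) := ⟨fun x =>
    (isIntegral_algHom_iff (Algebra.adjoin R ({a} : Set C)).val Subtype.val_injective).1
      (IsIntegral.of_finite R _)⟩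
  obtain ⟨e, he, heb⟩ := Groth.Agent.Helper3.HensRows.idemLift_of_hens
    (IsLocalRing.maximalIdeal R) (Algebra.adjoin R ({a} : Set C)) b hb
  refine ⟨(e : C), ?_, ?_⟩
  · have := congrArg Subtype.val he.eq
    rw [Subalgebra.coe_mul] at this
    exact this
  · have h3 := hmS _ _ heb
    rw [Subalgebra.coe_sub, tmul_sub, sub_eq_zero] at h3
    rw [h3]
    -- 1 ⊗ b = 1 ⊗ a
    have h4 : ∀ x : C, ∀ n : ℕ, (1 : IsLocalRing.ResidueField R) ⊗ₜ[R] (x ^ n) =
        ((1 : IsLocalRing.ResidueField R) ⊗ₜ[R] x) ^ n := by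
      intro x n
      rw [Algebra.TensorProduct.tmul_pow, one_pow]
    have h5 : ((b : Algebra.adjoin R ({a} : Set C)) : C) = 1 - (1 - a ^ N) ^ N := by
      simp [b, a']
    rw [h5, tmul_sub, h4, tmul_sub, h4, hN, h.pow_succ_eq]
    have h6 : IsIdempotentElem ((1 : IsLocalRing.ResidueField R) ⊗ₜ[R] (1 : C) -
        (1 : IsLocalRing.ResidueField R) ⊗ₜ[R] a) := by
      have : (1 : IsLocalRing.ResidueField R) ⊗ₜ[R] (1 : C) = 1 := rfl
      rw [this]; exact h.one_sub
    rw [h6.pow_succ_eq, sub_sub_cancel]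

end Idem

section Lift

variable {R : Type u} [CommRing R] [IsLocalRing R]
variable {A : Type v} [Ring A] [Algebra R A]
variable {B : Type w} [Ring B] [Algebra R B]

local notation "𝕜" => IsLocalRing.ResidueField R

variable (e₀ : (IsLocalRing.ResidueField R ⊗[R] A) ≃ₐ[IsLocalRing.ResidueField R]
  (IsLocalRing.ResidueField R ⊗[R] B))

noncomputable def fL : A →ₐ[R] Module.End 𝕜 (𝕜 ⊗[R] B) :=
  ((Algebra.lmul 𝕜 (𝕜 ⊗[R] B)).restrictScalars R).comp
    (((e₀ : (𝕜 ⊗[R] A) →ₐ[𝕜] (𝕜 ⊗[R] B)).restrictScalars R).comp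
      Algebra.TensorProduct.includeRight)

theorem fL_apply (a : A) (x : 𝕜 ⊗[R] B) : fL e₀ a x = e₀ (1 ⊗ₜ a) * x := rfl

variable (R B) in
noncomputable def fR : Bᵐᵒᵖ →ₐ[R] Module.End 𝕜 (𝕜 ⊗[R] B) :=
  AlgHom.ofLinearMap
    (((LinearMap.mul 𝕜 (𝕜 ⊗[R] B)).flip.restrictScalars R) ∘ₗ
      (TensorProduct.mk R 𝕜 B 1) ∘ₗ (MulOpposite.opLinearEquiv R (M := B)).symm.toLinearMap)
    (by
      refine LinearMap.ext fun x => ?_
      change x * ((1 : 𝕜) ⊗ₜ[R] (1 : B)) = x
      rw [← Algebra.TensorProduct.one_def, mul_one])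
    (by
      intro b b'
      refine LinearMap.ext fun x => ?_
      simp [mul_assoc])

theorem fR_apply (b : Bᵐᵒᵖ) (x : 𝕜 ⊗[R] B) : fR R B b x = x * (1 ⊗ₜ b.unop) := rfl

theorem commute_fL_fR (a : A) (b : Bᵐᵒᵖ) : Commute (fL e₀ a) (fR R B b) := by
  refine LinearMap.ext fun x => ?_
  simp only [Module.End.mul_apply, fL_apply, fR_apply, mul_assoc]

/-- the action of `A ⊗ Bᵐᵒᵖ` on `𝕜 ⊗ B`. -/
noncomputable def PhiR : A ⊗[R] Bᵐᵒᵖ →ₐ[R] Module.End 𝕜 (𝕜 ⊗[R] B) :=
  Algebra.TensorProduct.lift (fL e₀) (fR R B) (commute_fL_fR e₀)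

theorem PhiR_tmul (a : A) (b : Bᵐᵒᵖ) (x : 𝕜 ⊗[R] B) :
    PhiR e₀ (a ⊗ₜ b) x = e₀ (1 ⊗ₜ a) * (x * (1 ⊗ₜ b.unop)) := by
  simp only [PhiR, Algebra.TensorProduct.lift_tmul, Module.End.mul_apply, fL_apply, fR_apply]

/-- base change to `𝕜`. -/
noncomputable def PhiK : 𝕜 ⊗[R] (A ⊗[R] Bᵐᵒᵖ) →ₐ[𝕜] Module.End 𝕜 (𝕜 ⊗[R] B) :=
  Algebra.TensorProduct.lift (Algebra.ofId 𝕜 _) (PhiR e₀) (fun _ _ => Algebra.commutes _ _)

theorem PhiK_tmul (l : 𝕜) (c : A ⊗[R] Bᵐᵒᵖ) :
    PhiK e₀ (l ⊗ₜ c) = l • PhiR e₀ c := by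
  simp only [PhiK, Algebra.TensorProduct.lift_tmul, Algebra.ofId_apply, Algebra.smul_def]

theorem PhiK_surjective [IsAzumaya R B] : Function.Surjective (PhiK e₀) := by
  have hAz : IsAzumaya 𝕜 (𝕜 ⊗[R] B) := Groth.Agent.Helper9.AzuBC.baseChange R 𝕜 B
  have hL : ∀ x : 𝕜 ⊗[R] B, LinearMap.mulLeft 𝕜 x ∈ (PhiK e₀).range := by
    intro x
    obtain ⟨x', rfl⟩ := e₀.surjective x
    induction x' using TensorProduct.induction_on with
    | zero => rw [map_zero, LinearMap.mulLeft_zero_eq_zero]; exact zero_mem _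
    | tmul l a =>
      refine (AlgHom.mem_range _).2 ⟨l ⊗ₜ (a ⊗ₜ 1), ?_⟩
      rw [PhiK_tmul]
      refine LinearMap.ext fun y => ?_
      rw [LinearMap.smul_apply, PhiR_tmul, MulOpposite.unop_one, ← Algebra.TensorProduct.one_def,
        mul_one, LinearMap.mulLeft_apply, ← smul_mul_assoc, ← map_smul, TensorProduct.smul_tmul',
        smul_eq_mul, mul_one]
    | add x y hx hy =>
      have : LinearMap.mulLeft 𝕜 (e₀ (x + y)) =
          LinearMap.mulLeft 𝕜 (e₀ x) + LinearMap.mulLeft 𝕜 (e₀ y) := by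
        refine LinearMap.ext fun z => ?_
        rw [map_add, LinearMap.add_apply, LinearMap.mulLeft_apply, LinearMap.mulLeft_apply,
          LinearMap.mulLeft_apply, add_mul]
      rw [this]
      exact add_mem hx hy
  have hRt : ∀ y : 𝕜 ⊗[R] B, LinearMap.mulRight 𝕜 y ∈ (PhiK e₀).range := by
    intro y
    induction y using TensorProduct.induction_on with
    | zero => rw [LinearMap.mulRight_zero_eq_zero]; exact zero_mem _
    | tmul l b =>
      refine (AlgHom.mem_range _).2 ⟨l ⊗ₜ (1 ⊗ₜ MulOpposite.op b), ?_⟩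
      rw [PhiK_tmul]
      refine LinearMap.ext fun y => ?_
      rw [LinearMap.smul_apply, PhiR_tmul, MulOpposite.unop_op, ← Algebra.TensorProduct.one_def,
        map_one, one_mul, LinearMap.mulRight_apply, ← mul_smul_comm, TensorProduct.smul_tmul',
        smul_eq_mul, mul_one]
    | add x y hx hy =>
      have : LinearMap.mulRight 𝕜 (x + y) =
          LinearMap.mulRight 𝕜 x + LinearMap.mulRight 𝕜 y := by
        refine LinearMap.ext fun z => ?_
        rw [LinearMap.add_apply, LinearMap.mulRight_apply, LinearMap.mulRight_apply,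
          LinearMap.mulRight_apply, mul_add]
      rw [this]
      exact add_mem hx hy
  suffices h : ∀ g, g ∈ (PhiK e₀).range from fun g => (AlgHom.mem_range _).1 (h g)
  intro g
  obtain ⟨t, rfl⟩ := hAz.bij.2 g
  induction t using TensorProduct.induction_on with
  | zero => rw [map_zero]; exact zero_mem _
  | tmul x y =>
    have h1 : AlgHom.mulLeftRight 𝕜 (𝕜 ⊗[R] B) (x ⊗ₜ y) =
        LinearMap.mulLeft 𝕜 x * LinearMap.mulRight 𝕜 y.unop := by
      refine LinearMap.ext fun z => ?_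
      rw [AlgHom.mulLeftRight_apply, Module.End.mul_apply, LinearMap.mulLeft_apply,
        LinearMap.mulRight_apply, mul_assoc]
    rw [h1]
    exact mul_mem (hL x) (hRt _)
  | add x y hx hy =>
    rw [map_add]
    exact add_mem hx hy

theorem PhiK_bijective [IsAzumaya R A] [IsAzumaya R B] : Function.Bijective (PhiK e₀) := by
  haveI : Module.Free R A := Module.free_of_flat_of_isLocalRing
  haveI : Module.Free R B := Module.free_of_flat_of_isLocalRing
  haveI : Module.Free R Bᵐᵒᵖ := Module.Free.of_equiv (MulOpposite.opLinearEquiv R (M := B))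
  haveI : Module.Finite R Bᵐᵒᵖ := Module.Finite.equiv (MulOpposite.opLinearEquiv R (M := B))
  have hsurj := PhiK_surjective e₀
  have hfr : Module.finrank 𝕜 (𝕜 ⊗[R] (A ⊗[R] Bᵐᵒᵖ)) =
      Module.finrank 𝕜 (Module.End 𝕜 (𝕜 ⊗[R] B)) := by
    rw [Module.finrank_baseChange, Module.finrank_tensorProduct, Module.finrank_linearMap,
      Module.finrank_baseChange, ← (MulOpposite.opLinearEquiv R (M := B)).finrank_eq,
      ← Module.finrank_baseChange (R := 𝕜) (S := R) (M' := A), e₀.toLinearEquiv.finrank_eq,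
      Module.finrank_baseChange]
  exact ⟨(LinearMap.injective_iff_surjective_of_finrank_eq_finrank hfr
    (f := (PhiK e₀).toLinearMap)).2 hsurj, hsurj⟩

end Lift

section Main

variable {R : Type u} [CommRing R] [HenselianLocalRing R]
variable {A : Type v} [Ring A] [Algebra R A] [IsAzumaya R A]
variable {B : Type w} [Ring B] [Algebra R B] [IsAzumaya R B]

local notation "𝕜" => IsLocalRing.ResidueField R

theorem mem_smul_top_of_tmul_eq_zero {M : Type*} [AddCommGroup M] [Module R M] (x : M)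
    (hx : (1 : 𝕜) ⊗ₜ[R] x = 0) : x ∈ IsLocalRing.maximalIdeal R • (⊤ : Submodule R M) := by
  rw [← LinearMap.ker_tensorProductMk]
  exact hx

theorem exists_lift (e₀ : (IsLocalRing.ResidueField R ⊗[R] A) ≃ₐ[IsLocalRing.ResidueField R]
    (IsLocalRing.ResidueField R ⊗[R] B)) :
    ∃ e : A ≃ₐ[R] B, ∀ a : A, e₀ ((1 : 𝕜) ⊗ₜ[R] a) = (1 : 𝕜) ⊗ₜ[R] (e a) := by
  classical
  haveI : Module.Free R A := Module.free_of_flat_of_isLocalRing
  haveI : Module.Free R B := Module.free_of_flat_of_isLocalRing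
  haveI : Module.Free R Bᵐᵒᵖ := Module.Free.of_equiv (MulOpposite.opLinearEquiv R (M := B))
  haveI : Module.Finite R Bᵐᵒᵖ := Module.Finite.equiv (MulOpposite.opLinearEquiv R (M := B))
  have hAz : IsAzumaya 𝕜 (𝕜 ⊗[R] B) := Groth.Agent.Helper9.AzuBC.baseChange R 𝕜 B
  obtain ⟨hinj, hsurj⟩ := PhiK_bijective e₀
  -- a functional with φ 1 = 1
  have h10 : (1 : 𝕜 ⊗[R] B) ≠ 0 := by
    intro h
    have hall : ∀ v : 𝕜 ⊗[R] B, v = 0 := fun v => by rw [← mul_one v, h, mul_zero]
    have : (1 : 𝕜) = 0 := hAz.eq_of_smul_eq_smul (fun v => by rw [hall v, smul_zero, smul_zero])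
    exact one_ne_zero this
  obtain ⟨φ, hφ⟩ : ∃ φ : Module.Dual 𝕜 (𝕜 ⊗[R] B), φ 1 = 1 := by
    have := (Module.forall_dual_apply_eq_zero_iff 𝕜 (1 : 𝕜 ⊗[R] B)).not.2 h10
    push Not at this
    obtain ⟨φ, hφ⟩ := this
    exact ⟨(φ 1)⁻¹ • φ, by rw [LinearMap.smul_apply, smul_eq_mul, inv_mul_cancel₀ hφ]⟩
  let π : Module.End 𝕜 (𝕜 ⊗[R] B) := (LinearMap.toSpanSingleton 𝕜 (𝕜 ⊗[R] B) 1).comp φ
  have hπ : ∀ v, π v = φ v • (1 : 𝕜 ⊗[R] B) := fun v => rfl
  obtain ⟨ε₀, hε₀⟩ := hsurj π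
  have hidem : IsIdempotentElem ε₀ := hinj (by
    rw [map_mul, hε₀]
    refine LinearMap.ext fun v => ?_
    rw [Module.End.mul_apply, hπ, hπ, map_smul, hφ, smul_eq_mul, mul_one])
  obtain ⟨ε, hε, hε1⟩ := exists_idem_lift R (A ⊗[R] Bᵐᵒᵖ) ε₀ hidem
  have hΦε : PhiR e₀ ε = π := by rw [← hε₀, ← hε1, PhiK_tmul, one_smul]
  have hF1 : ∀ (c : A ⊗[R] Bᵐᵒᵖ) (v : 𝕜 ⊗[R] B),
      PhiR e₀ (c * ε) v = φ v • PhiR e₀ c 1 := by
    intro c v
    rw [map_mul, Module.End.mul_apply, hΦε, hπ, map_smul]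
  let β : B →ₗ[R] A ⊗[R] Bᵐᵒᵖ := (LinearMap.mulRight R ε) ∘ₗ
    (Algebra.TensorProduct.includeRight (R := R) (A := A) (B := Bᵐᵒᵖ)).toLinearMap ∘ₗ
      (MulOpposite.opLinearEquiv R (M := B)).toLinearMap
  have hβ : ∀ b, β b = ((1 : A) ⊗ₜ[R] op b) * ε := fun b => rfl
  have hF2 : ∀ b, PhiR e₀ (β b) 1 = (1 : 𝕜) ⊗ₜ[R] b := by
    intro b
    rw [hβ, hF1, hφ, one_smul, PhiR_tmul, unop_op, ← Algebra.TensorProduct.one_def, map_one,
      one_mul, one_mul]
  -- surjectivity of β onto Cε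
  have hsurjβ : ∀ c : A ⊗[R] Bᵐᵒᵖ, ∃ b, c * ε = β b := by
    have hNfg : (LinearMap.range (LinearMap.mulRight R ε)).FG := by
      rw [LinearMap.range_eq_map]; exact (Module.Finite.fg_top).map _
    have hle : LinearMap.range (LinearMap.mulRight R ε) ≤ LinearMap.range β ⊔
        IsLocalRing.maximalIdeal R • LinearMap.range (LinearMap.mulRight R ε) := by
      rintro _ ⟨c, rfl⟩
      rw [LinearMap.mulRight_apply]
      obtain ⟨b, hb⟩ := TensorProduct.mk_surjective R B 𝕜 IsLocalRing.residue_surjective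
        (PhiR e₀ (c * ε) 1)
      change (1 : 𝕜) ⊗ₜ[R] b = _ at hb
      have hdε : (c * ε - β b) * ε = c * ε - β b := by
        rw [sub_mul, mul_assoc, hε.eq, hβ, mul_assoc, hε.eq]
      have hΦd : PhiR e₀ (c * ε - β b) = 0 := by
        refine LinearMap.ext fun v => ?_
        rw [← hdε, hF1, map_sub, LinearMap.sub_apply, hF2, ← hb, sub_self, smul_zero,
          LinearMap.zero_apply]
      have hd0 : (1 : 𝕜) ⊗ₜ[R] (c * ε - β b) = 0 :=
        hinj (by rw [PhiK_tmul, one_smul, hΦd, map_zero])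
      have hdm := mem_smul_top_of_tmul_eq_zero _ hd0
      have hdN : c * ε - β b ∈
          IsLocalRing.maximalIdeal R • LinearMap.range (LinearMap.mulRight R ε) := by
        rw [← hdε]
        have := Submodule.mem_map_of_mem (f := LinearMap.mulRight R ε) hdm
        rwa [Submodule.map_smul'', Submodule.map_top] at this
      have hsum : c * ε = β b + (c * ε - β b) := by abel
      rw [hsum]
      exact Submodule.add_mem_sup (LinearMap.mem_range_self _ _) hdN
    have hle' := Submodule.le_of_le_smul_of_le_jacobson_bot hNfg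
      (IsLocalRing.maximalIdeal_le_jacobson ⊥) hle
    intro c
    obtain ⟨b, hb⟩ := hle' ⟨c, rfl⟩
    exact ⟨b, hb.symm⟩
  -- injectivity of β
  have hinjβ : Function.Injective β := by
    have h1 : Function.Injective (β.lTensor 𝕜) := by
      let evk : 𝕜 ⊗[R] (A ⊗[R] Bᵐᵒᵖ) →ₗ[R] 𝕜 ⊗[R] B :=
        { toFun := fun t => PhiK e₀ t 1
          map_add' := fun s t => by rw [map_add, LinearMap.add_apply]
          map_smul' := fun r t => by
            rw [RingHom.id_apply, ← algebraMap_smul 𝕜 r t, map_smul, LinearMap.smul_apply,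
              algebraMap_smul] }
      have hcomp : evk ∘ₗ β.lTensor 𝕜 = LinearMap.id := by
        refine TensorProduct.ext' fun l b => ?_
        change PhiK e₀ (l ⊗ₜ β b) 1 = l ⊗ₜ b
        rw [PhiK_tmul, LinearMap.smul_apply, hF2, TensorProduct.smul_tmul', smul_eq_mul, mul_one]
      exact Function.HasLeftInverse.injective ⟨evk, LinearMap.congr_fun hcomp⟩
    obtain ⟨l', hl'⟩ := (IsLocalRing.split_injective_iff_lTensor_residueField_injective β).2 h1
    exact Function.HasLeftInverse.injective ⟨l', LinearMap.congr_fun hl'⟩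
  -- the map e
  choose e' he' using fun a : A => hsurjβ (a ⊗ₜ 1)
  have he0 : ∀ a, e₀ ((1 : 𝕜) ⊗ₜ[R] a) = (1 : 𝕜) ⊗ₜ[R] e' a := by
    intro a
    have h2 : PhiR e₀ ((a ⊗ₜ[R] (1 : Bᵐᵒᵖ)) * ε) 1 = PhiR e₀ (β (e' a)) 1 := by rw [he' a]
    rw [hF1, hF2, hφ, one_smul, PhiR_tmul, unop_one, ← Algebra.TensorProduct.one_def, mul_one,
      mul_one] at h2
    exact h2
  have hcomm : ∀ (a : A) (x : Bᵐᵒᵖ), ((a ⊗ₜ[R] (1 : Bᵐᵒᵖ)) : A ⊗[R] Bᵐᵒᵖ) * ((1 : A) ⊗ₜ[R] x) =
      ((1 : A) ⊗ₜ[R] x) * (a ⊗ₜ[R] (1 : Bᵐᵒᵖ)) := by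
    intro a x
    rw [Algebra.TensorProduct.tmul_mul_tmul, Algebra.TensorProduct.tmul_mul_tmul, one_mul, mul_one,
      one_mul, mul_one]
  let eL : A →ₗ[R] B :=
    { toFun := e'
      map_add' := fun a a' => hinjβ (by
        rw [map_add, ← he', ← he', ← he', add_tmul, add_mul])
      map_smul' := fun r a => hinjβ (by
        rw [RingHom.id_apply, map_smul, ← he', ← he', ← smul_tmul', smul_mul_assoc]) }
  have heL : ∀ a, eL a = e' a := fun a => rfl
  let eH : A →ₐ[R] B := AlgHom.ofLinearMap eL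
    (hinjβ (by
      rw [heL, ← he', hβ, op_one]))
    (fun a a' => hinjβ (by
      rw [heL, heL, heL, ← he', hβ, op_mul]
      have h3 : ((a * a') ⊗ₜ[R] (1 : Bᵐᵒᵖ) : A ⊗[R] Bᵐᵒᵖ) = (a ⊗ₜ 1) * (a' ⊗ₜ 1) := by
        rw [Algebra.TensorProduct.tmul_mul_tmul, mul_one]
      have h4 : ((1 : A) ⊗ₜ[R] (op (e' a') * op (e' a)) : A ⊗[R] Bᵐᵒᵖ) =
          (1 ⊗ₜ op (e' a')) * (1 ⊗ₜ op (e' a)) := by
        rw [Algebra.TensorProduct.tmul_mul_tmul, mul_one]
      rw [h3, h4, mul_assoc, he', hβ, ← mul_assoc, hcomm, mul_assoc, he', hβ, mul_assoc]))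
  have heH : ∀ a, eH a = e' a := fun a => rfl
  -- bijectivity of eH
  have hlT : ∀ t, (eH.toLinearMap.lTensor 𝕜) t = e₀ t := by
    intro t
    induction t using TensorProduct.induction_on with
    | zero => rw [map_zero, map_zero]
    | tmul l a =>
      rw [LinearMap.lTensor_tmul, AlgHom.toLinearMap_apply, heH, ← mul_one l, ← smul_eq_mul,
        ← TensorProduct.smul_tmul', ← TensorProduct.smul_tmul', map_smul, he0]
    | add x y hx hy => rw [map_add, map_add, hx, hy]
  have hinjE : Function.Injective eH := by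
    have h1 : Function.Injective (eH.toLinearMap.lTensor 𝕜) := by
      intro s t hst
      rw [hlT, hlT] at hst
      exact e₀.injective hst
    obtain ⟨l', hl'⟩ :=
      (IsLocalRing.split_injective_iff_lTensor_residueField_injective eH.toLinearMap).2 h1
    exact Function.HasLeftInverse.injective ⟨l', LinearMap.congr_fun hl'⟩
  have hsurjE : Function.Surjective eH := by
    have h1 : (LinearMap.range eH.toLinearMap).map (TensorProduct.mk R 𝕜 B 1) = ⊤ := by
      rw [eq_top_iff]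
      intro y _
      obtain ⟨x, rfl⟩ := e₀.surjective y
      obtain ⟨a, rfl⟩ := TensorProduct.mk_surjective R A 𝕜 IsLocalRing.residue_surjective x
      exact ⟨eH a, LinearMap.mem_range_self _ a, (he0 a).symm⟩
    have h2 := IsLocalRing.map_tensorProduct_mk_eq_top.1 h1
    exact LinearMap.range_eq_top.1 h2
  exact ⟨AlgEquiv.ofBijective eH ⟨hinjE, hsurjE⟩, fun a => he0 a⟩

end Main

end Groth.Agent.Helper8.AzuSplit
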