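import Mathlib
import Groth.Agent.Helper8.AzuSplit
import Groth.Agent.Helper8.AzuCP
import Groth.Agent.Helper1.HensStrict
import Groth.Agent.Helper1.HensHenselian
import Groth.Agent.Helper1.AzuLocal
import Groth.Agent.Helper5.CSA

/-!
# Regular sections of Azumaya algebras over a local ring (S5713)

* `exists_split`: an Azumaya algebra of rank `r²` over a local ring is split by a faithfully flat
  (strictly henselian) extension.
* `main`: the statement of S5713.
-/

set_option autoImplicit false

namespace Groth.Agent.Helper8.AzuRegSec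

open TensorProduct Polynomial IsLocalRing
open Groth.Agent.Helper1.Hens

universe u

section Split

variable (R : Type u) [CommRing R] [IsLocalRing R]
variable (A : Type u) [Ring A] [Algebra R A] [IsAzumaya R A]

theorem exists_split_aux (Ω : Type u) [Field Ω] [Algebra R Ω] [Algebra (ResidueField R) Ω]
    [IsScalarTower R (ResidueField R) Ω] [Algebra.IsSeparable (ResidueField R) Ω] [IsSepClosed Ω]
    (r : ℕ) (hA : Module.finrank R A = r ^ 2) :
    Nonempty ((Hens R Ω ⊗[R] A) ≃ₐ[Hens R Ω] Matrix (Fin r) (Fin r) (Hens R Ω)) := by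
  classical
  haveI : Module.Free R A := Module.free_of_flat_of_isLocalRing
  haveI : IsSepClosed (ResidueField (Hens R Ω)) :=
    isSepClosed_of_ringEquiv (Hens.resEquiv R Ω).symm.toRingEquiv
  haveI hAz : IsAzumaya (Hens R Ω) (Hens R Ω ⊗[R] A) :=
    Groth.Agent.Helper9.AzuBC.baseChange R (Hens R Ω) A
  haveI : Module.Free (Hens R Ω) (Hens R Ω ⊗[R] A) := Module.free_of_flat_of_isLocalRing
  haveI : Nontrivial (Hens R Ω ⊗[R] A) := by
    by_contra h
    rw [not_nontrivial_iff_subsingleton] at h
    have : (1 : Hens R Ω) = 0 := hAz.eq_of_smul_eq_smul (fun x => Subsingleton.elim _ _)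
    exact one_ne_zero this
  obtain ⟨hc, hs⟩ := Groth.Agent.Helper1.AzuLocal.fibre_of_isAzumaya (Hens R Ω) (Hens R Ω ⊗[R] A)
  obtain ⟨n, ⟨σ⟩⟩ := Groth.Agent.Helper5.CSA.exists_algEquiv_matrix (ResidueField (Hens R Ω))
    (ResidueField (Hens R Ω) ⊗[Hens R Ω] (Hens R Ω ⊗[R] A))
  have hn : n ≠ 0 := by
    rintro rfl
    have : Subsingleton (ResidueField (Hens R Ω) ⊗[Hens R Ω] (Hens R Ω ⊗[R] A)) :=
      σ.toEquiv.subsingleton
    exact not_subsingleton _ this
  haveI : NeZero n := ⟨hn⟩
  haveI : IsAzumaya (Hens R Ω) (Matrix (Fin n) (Fin n) (Hens R Ω)) := IsAzumaya.matrix _ _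
  obtain ⟨e, -⟩ := Groth.Agent.Helper8.AzuSplit.exists_lift
    (σ.trans (Groth.Agent.Helper8.AzuCP.matTensor (Hens R Ω) (ResidueField (Hens R Ω)) n).symm)
  have hnr : n = r := by
    have h1 := e.toLinearEquiv.finrank_eq
    rw [Module.finrank_baseChange, hA, Module.finrank_matrix, Fintype.card_fin,
      Module.finrank_self, mul_one, ← pow_two] at h1
    exact (Nat.pow_left_injective (n := 2) (by norm_num) h1).symm
  subst hnr
  exact ⟨e⟩

theorem exists_split (r : ℕ) (hA : Module.finrank R A = r ^ 2) :
    ∃ (R' : Type u) (_ : CommRing R') (_ : Algebra R R'), Module.FaithfullyFlat R R' ∧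
      Nonempty ((R' ⊗[R] A) ≃ₐ[R'] Matrix (Fin r) (Fin r) R') := by
  letI : Algebra R (SeparableClosure (ResidueField R)) :=
    ((algebraMap (ResidueField R) (SeparableClosure (ResidueField R))).comp
      (IsLocalRing.residue R)).toAlgebra
  haveI : IsScalarTower R (ResidueField R) (SeparableClosure (ResidueField R)) :=
    IsScalarTower.of_algebraMap_eq (fun _ => rfl)
  exact ⟨Hens R (SeparableClosure (ResidueField R)), inferInstance, inferInstance, inferInstance,
    exists_split_aux R A (SeparableClosure (ResidueField R)) r hA⟩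

end Split

section Main

variable (R : Type u) [CommRing R] [IsLocalRing R]
variable (A : Type u) [Ring A] [Algebra R A] [IsAzumaya R A]

theorem main (r : ℕ) (hA : Module.finrank R A = r ^ 2) (ξ : A)
    (hrk : Module.finrank (ResidueField R) (Algebra.adjoin (ResidueField R)
      ({(1 : ResidueField R) ⊗ₜ[R] ξ} : Set (ResidueField R ⊗[R] A))) = r) :
    LinearIndependent R (fun i : Fin r => ξ ^ (i : ℕ)) ∧
      ξ ^ r ∈ Submodule.span R (Set.range (fun i : Fin r => ξ ^ (i : ℕ))) := by
  classical
  haveI : Module.Free R A := Module.free_of_flat_of_isLocalRing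
  constructor
  · have hint : IsIntegral (ResidueField R) ((1 : ResidueField R) ⊗ₜ[R] ξ) :=
      IsIntegral.of_finite _ _
    have hle : r ≤ (minpoly (ResidueField R) ((1 : ResidueField R) ⊗ₜ[R] ξ)).natDegree := by
      rw [← hrk]
      have hsub : Subalgebra.toSubmodule (Algebra.adjoin (ResidueField R)
          ({(1 : ResidueField R) ⊗ₜ[R] ξ} : Set (ResidueField R ⊗[R] A))) ≤
          Submodule.span (ResidueField R) (Set.range fun i :
            Fin (minpoly (ResidueField R) ((1 : ResidueField R) ⊗ₜ[R] ξ)).natDegree =>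
              ((1 : ResidueField R) ⊗ₜ[R] ξ) ^ (i : ℕ)) := by
        intro y hy
        rw [Subalgebra.mem_toSubmodule, Algebra.adjoin_singleton_eq_range_aeval] at hy
        obtain ⟨f, rfl⟩ := (AlgHom.mem_range _).1 hy
        exact hint.mem_span_pow ⟨f, rfl⟩
      have h1 := Submodule.finrank_mono hsub
      rw [finrank_span_eq_card (linearIndependent_pow _), Fintype.card_fin] at h1
      exact h1
    have hLIk : LinearIndependent (ResidueField R)
        (fun i : Fin r => ((1 : ResidueField R) ⊗ₜ[R] ξ) ^ (i : ℕ)) :=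
      (linearIndependent_pow ((1 : ResidueField R) ⊗ₜ[R] ξ)).comp (Fin.castLE hle)
        (Fin.castLE_injective hle)
    have hLI' : LinearIndependent R (fun i : ULift.{u} (Fin r) => ξ ^ (i.down : ℕ)) := by
      apply Module.IsLocalRing.linearIndependent_of_flat
      have h2 : (TensorProduct.mk R (ResidueField R) A 1 ∘
          fun i : ULift.{u} (Fin r) => ξ ^ (i.down : ℕ)) =
          (fun i : Fin r => ((1 : ResidueField R) ⊗ₜ[R] ξ) ^ (i : ℕ)) ∘ ULift.down := by
        funext i
        simp only [Function.comp_apply, mk_apply, Algebra.TensorProduct.tmul_pow, one_pow]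
      rw [h2]
      exact hLIk.comp _ ULift.down_injective
    exact hLI'.comp ULift.up ULift.up_injective
  · obtain ⟨R', _, _, hff, ⟨φ⟩⟩ := exists_split R A r hA
    obtain ⟨p, hp, -, hpa⟩ := Groth.Agent.Helper8.AzuCP.main R A ξ r R' φ R' φ
    have hinj : Function.Injective (algebraMap R R') := FaithfulSMul.algebraMap_injective R R'
    haveI : Nontrivial R' := hinj.nontrivial
    have hmon : p.Monic := Polynomial.monic_of_injective hinj (by
      rw [hp]; exact Matrix.charpoly_monic _)
    have hdeg : p.natDegree = r := by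
      rw [← Polynomial.natDegree_map_eq_of_injective hinj, hp, Matrix.charpoly_natDegree_eq_dim,
        Fintype.card_fin]
    have h1 := hmon.as_sum
    rw [hdeg] at h1
    rw [h1, map_add, map_pow, aeval_X, map_sum] at hpa
    rw [eq_neg_of_add_eq_zero_left hpa]
    refine neg_mem (Submodule.sum_mem _ fun i hi => ?_)
    rw [map_mul, aeval_C, map_pow, aeval_X, ← Algebra.smul_def]
    exact Submodule.smul_mem _ _ (Submodule.subset_span ⟨⟨i, Finset.mem_range.1 hi⟩, rfl⟩)

end Main

end Groth.Agent.Helper8.AzuRegSec
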