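import Mathlib
import Groth.Agent.Helper5.CSA
import Groth.Agent.Helper5.CSA2

/-!
# Regular semisimple elements of central simple algebras (S5702)

A central simple algebra `A` of dimension `r²` over a field `k` contains an element `x` such that
`k[x]` is étale of dimension `r`.

* `minpoly_map_eq`: base change of minimal polynomials along maps preserving linear independence.
* `isSeparable_aeval`: if `ψ x` is killed by a separable polynomial over an algebraically closed
  field, every element of `k[x]` is separable.
* `natDegree_minpoly_of_separable_charpoly`.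
* `lemmaA`: packaging.
* `exists_sep_infinite`: existence of `x` for infinite `k` (discriminant + density).
* `exists_finite`: the finite field case (Wedderburn).
* `main`: S5702.
-/

set_option autoImplicit false

namespace Groth.Agent.Helper8.CSAReg

open Polynomial TensorProduct

universe u v w

section Minpoly

variable {k : Type*} [Field k] {K : Type*} [Field K] [Algebra k K]
variable {A : Type*} [Ring A] [Algebra k A]
variable {T : Type*} [Ring T] [Algebra K T] [Algebra k T] [IsScalarTower k K T]

/-- base change of the minimal polynomial along a `k`-algebra map to a `K`-algebra which preserves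
linear independence. -/
theorem minpoly_map_eq (ψ : A →ₐ[k] T)
    (hψ : ∀ (n : ℕ) (v : Fin n → A), LinearIndependent k v →
      LinearIndependent K (fun i => ψ (v i)))
    (y : A) (hy : IsIntegral k y) :
    minpoly K (ψ y) = (minpoly k y).map (algebraMap k K) := by
  have hμm : ((minpoly k y).map (algebraMap k K)).Monic := (minpoly.monic hy).map _
  have hzero : aeval (ψ y) ((minpoly k y).map (algebraMap k K)) = 0 := by
    rw [aeval_map_algebraMap, aeval_algHom_apply, minpoly.aeval, map_zero]
  have hint : IsIntegral K (ψ y) := ⟨_, hμm, by rwa [← aeval_def]⟩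
  have hdvd : minpoly K (ψ y) ∣ (minpoly k y).map (algebraMap k K) := minpoly.dvd K _ hzero
  symm
  refine eq_of_monic_of_dvd_of_natDegree_le (minpoly.monic hint) hμm hdvd ?_
  rw [natDegree_map]
  by_contra hlt
  push Not at hlt
  have hli := hψ _ _ (linearIndependent_pow (K := k) y)
  have h0 : aeval (ψ y) (minpoly K (ψ y)) = 0 := minpoly.aeval K _
  rw [aeval_eq_sum_range' hlt] at h0
  rw [Fintype.linearIndependent_iff] at hli
  have h1 := hli (fun i => (minpoly K (ψ y)).coeff i) (by
    rw [← h0, Finset.sum_range]
    refine Finset.sum_congr rfl fun i _ => ?_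
    rw [map_pow])
  have hlead := h1 ⟨(minpoly K (ψ y)).natDegree, hlt⟩
  exact (minpoly.ne_zero hint) (leadingCoeff_eq_zero.1 hlead)

/-- if `ψ x` is killed by a separable polynomial over the algebraically closed field `K`, then all
elements of `k[x]` are separable over `k`. -/
theorem isSeparable_aeval [IsAlgClosed K] [FiniteDimensional k A] (ψ : A →ₐ[k] T)
    (hψ : ∀ (n : ℕ) (v : Fin n → A), LinearIndependent k v →
      LinearIndependent K (fun i => ψ (v i)))
    (x : A) (P : K[X]) (hP : P.Separable) (hPx : aeval (ψ x) P = 0) (g : k[X]) :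
    IsSeparable k (aeval x g) := by
  classical
  have hy : IsIntegral k (aeval x g) := IsIntegral.of_finite k _
  unfold IsSeparable
  rw [← Polynomial.separable_map (algebraMap k K), ← minpoly_map_eq ψ hψ _ hy]
  set gK := g.map (algebraMap k K) with hgK
  have hψy : ψ (aeval x g) = aeval (ψ x) gK := by
    rw [hgK, aeval_map_algebraMap, aeval_algHom_apply]
  let S : Finset K := (P.roots.map (fun a => gK.eval a)).toFinset
  set q : K[X] := ∏ c ∈ S, (X - C c) with hq
  have hqsep : q.Separable := by
    rw [hq, separable_prod_X_sub_C_iff']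
    intro a _ b _ hab
    exact hab
  have hP0 : P ≠ 0 := hP.ne_zero
  have key : aeval (ψ x) (q.comp gK) = 0 := by
    by_cases h0 : q.comp gK = 0
    · rw [h0, map_zero]
    have hle : P.roots ≤ (q.comp gK).roots := by
      rw [Multiset.le_iff_subset (nodup_roots hP)]
      intro a ha
      rw [mem_roots h0, IsRoot, eval_comp, hq, eval_prod]
      refine Finset.prod_eq_zero (i := gK.eval a) ?_ ?_
      · rw [Multiset.mem_toFinset, Multiset.mem_map]
        exact ⟨a, ha, rfl⟩
      · rw [eval_sub, eval_X, eval_C, sub_self]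
    have hdvd1 : (P.roots.map fun a => X - C a).prod ∣ q.comp gK :=
      (Multiset.prod_X_sub_C_dvd_iff_le_roots h0 _).2 hle
    have hsplit := (IsAlgClosed.splits P).eq_prod_roots
    have hdvd : P ∣ q.comp gK := by
      rw [hsplit]
      have hu : IsUnit (C P.leadingCoeff) := isUnit_C.2 (leadingCoeff_ne_zero.2 hP0).isUnit
      exact (hu.mul_left_dvd).2 hdvd1
    obtain ⟨h', hh'⟩ := hdvd
    rw [hh', map_mul, hPx, zero_mul]
  have hq0 : aeval (ψ (aeval x g)) q = 0 := by
    rw [hψy, ← aeval_comp]
    exact key
  exact hqsep.of_dvd (minpoly.dvd K _ hq0)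

end Minpoly

section Matrix

variable {K : Type*} [Field K] [IsAlgClosed K]

theorem natDegree_minpoly_of_separable_charpoly {r : ℕ} (m : Matrix (Fin r) (Fin r) K)
    (h : m.charpoly.Separable) : (minpoly K m).natDegree = r := by
  have hle : (minpoly K m).natDegree ≤ r := by
    have := natDegree_le_of_dvd (Matrix.minpoly_dvd_charpoly m) (m.charpoly_monic.ne_zero)
    rwa [Matrix.charpoly_natDegree_eq_dim, Fintype.card_fin] at this
  refine le_antisymm hle ?_
  have hsub : m.charpoly.roots ≤ (minpoly K m).roots := by
    rw [Multiset.le_iff_subset (nodup_roots h)]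
    intro a ha
    rw [mem_roots (minpoly.ne_zero (Matrix.isIntegral m))]
    rw [mem_roots m.charpoly_monic.ne_zero, ← Matrix.charpoly_toLin',
      ← Module.End.hasEigenvalue_iff_isRoot_charpoly] at ha
    rw [← Matrix.minpoly_toLin']
    exact Module.End.isRoot_of_hasEigenvalue ha
  calc r = m.charpoly.natDegree := by rw [Matrix.charpoly_natDegree_eq_dim, Fintype.card_fin]
    _ = Multiset.card m.charpoly.roots := (splits_iff_card_roots.1 (IsAlgClosed.splits _)).symm
    _ ≤ Multiset.card (minpoly K m).roots := Multiset.card_le_card hsub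
    _ ≤ (minpoly K m).natDegree := card_roots' _

end Matrix

section Adjoin

variable (k : Type u) [Field k] {A : Type v} [Ring A] [Algebra k A] [FiniteDimensional k A]

theorem finrank_adjoin_singleton (x : A) :
    Module.finrank k (Algebra.adjoin k ({x} : Set A)) = (minpoly k x).natDegree := by
  have hx : IsIntegral k x := IsIntegral.of_finite k x
  rw [Algebra.adjoin_singleton_eq_range_aeval]
  have hker : RingHom.ker (aeval x : k[X] →ₐ[k] A) = Ideal.span {minpoly k x} :=
    minpoly.ker_aeval_eq_span_minpoly k x
  have e1 : (k[X] ⧸ RingHom.ker (aeval x : k[X] →ₐ[k] A)) ≃ₐ[k] (aeval x : k[X] →ₐ[k] A).range :=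
    Ideal.quotientKerEquivRange (aeval x : k[X] →ₐ[k] A)
  have e2 : (k[X] ⧸ RingHom.ker (aeval x : k[X] →ₐ[k] A)) ≃ₐ[k]
      (k[X] ⧸ Ideal.span {minpoly k x}) := Ideal.quotientEquivAlgOfEq k hker
  rw [← e1.toLinearEquiv.finrank_eq, e2.toLinearEquiv.finrank_eq,
    finrank_quotient_span_eq_natDegree]

end Adjoin

section LemmaA

variable (k : Type u) [Field k] (A : Type v) [Ring A] [Algebra k A] [FiniteDimensional k A]
variable (K : Type w) [Field K] [Algebra k K] [IsAlgClosed K]

theorem lemmaA (r : ℕ) (φ : K ⊗[k] A ≃ₐ[K] Matrix (Fin r) (Fin r) K) (x : A)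
    (hx : (φ ((1 : K) ⊗ₜ[k] x)).charpoly.Separable) :
    Algebra.IsSeparable k (Algebra.adjoin k ({x} : Set A)) ∧
      Module.finrank k (Algebra.adjoin k ({x} : Set A)) = r := by
  let ψ : A →ₐ[k] Matrix (Fin r) (Fin r) K :=
    ((φ.restrictScalars k : K ⊗[k] A ≃ₐ[k] Matrix (Fin r) (Fin r) K) : K ⊗[k] A →ₐ[k] _).comp
      (Algebra.TensorProduct.includeRight : A →ₐ[k] K ⊗[k] A)
  have hψx : ∀ a : A, ψ a = φ ((1 : K) ⊗ₜ[k] a) := fun a => rfl
  have hψ : ∀ (n : ℕ) (v : Fin n → A), LinearIndependent k v →
      LinearIndependent K (fun i => ψ (v i)) := by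
    intro n v hv
    have h1 : LinearIndependent K (fun i => (1 : K) ⊗ₜ[k] v i) :=
      Module.Flat.linearIndependent_one_tmul (S := K) hv
    have h2 := h1.map' φ.toLinearEquiv.toLinearMap (LinearEquiv.ker _)
    exact h2
  have hCH : aeval (ψ x) (ψ x).charpoly = 0 := Matrix.aeval_self_charpoly _
  have hxs : ((ψ x).charpoly).Separable := by rw [hψx]; exact hx
  constructor
  · refine ⟨fun z => ?_⟩
    obtain ⟨y, hy⟩ := z
    have hy' := hy
    rw [Algebra.adjoin_singleton_eq_range_aeval] at hy'
    obtain ⟨g, hg⟩ := hy'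
    have h1 : IsSeparable k y := by
      have := isSeparable_aeval (K := K) ψ hψ x _ hxs hCH g
      rwa [← hg]
    unfold IsSeparable at h1 ⊢
    rwa [← minpoly.algHom_eq (Algebra.adjoin k ({x} : Set A)).val Subtype.val_injective ⟨y, hy⟩]
  · rw [finrank_adjoin_singleton]
    have h1 := minpoly_map_eq (K := K) ψ hψ x (IsIntegral.of_finite k x)
    have h2 := natDegree_minpoly_of_separable_charpoly (ψ x) hxs
    rw [h1, natDegree_map] at h2
    exact h2

end LemmaA

end Groth.Agent.Helper8.CSAReg
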