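import Mathlib
import Groth.Agent.Helper8.CSAReg

/-!
# Regular semisimple elements of central simple algebras, part 2 (S5702)
-/

set_option autoImplicit false

namespace Groth.Agent.Helper8.CSAReg

open Polynomial TensorProduct

universe u v w

section Resultant

variable {K : Type*} [Field K]

theorem resultant_ne_zero_iff_separable (f : K[X]) (hf : f.Monic) (r : ℕ) (hr : f.natDegree = r) :
    resultant f (derivative f) r (r - 1) ≠ 0 ↔ f.Separable := by
  subst hr
  have hle : (derivative f).natDegree ≤ f.natDegree - 1 := natDegree_derivative_le f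
  obtain ⟨j, hj⟩ := Nat.exists_eq_add_of_le hle
  have h1 : resultant f (derivative f) f.natDegree (f.natDegree - 1) =
      resultant f (derivative f) := by
    rw [hj, resultant_add_right_deg _ _ _ _ _ le_rfl, hf.coeff_natDegree, one_pow, one_mul]
  rw [h1, Ne, resultant_eq_zero_iff]
  unfold Separable
  constructor
  · intro h
    by_contra hc
    exact h ⟨Or.inl hf.ne_zero, hc⟩
  · intro h hc
    exact hc.2 h

end Resultant

section Infinite

variable (k : Type u) [Field k] [Infinite k] (A : Type v) [Ring A] [Algebra k A]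
  [FiniteDimensional k A]
variable (K : Type w) [Field K] [Algebra k K] [IsAlgClosed K]

theorem exists_sep_infinite (r : ℕ) (φ : K ⊗[k] A ≃ₐ[K] Matrix (Fin r) (Fin r) K) :
    ∃ x : A, (φ ((1 : K) ⊗ₜ[k] x)).charpoly.Separable := by
  classical
  let b : Module.Basis (Fin (Module.finrank k A)) k A := Module.finBasis k A
  let Bm : Fin (Module.finrank k A) → Matrix (Fin r) (Fin r) K := fun i => φ ((1 : K) ⊗ₜ[k] b i)
  let M : (Fin (Module.finrank k A) → K) → Matrix (Fin r) (Fin r) K := fun t => ∑ i, t i • Bm i
  let G : Matrix (Fin r) (Fin r) (MvPolynomial (Fin (Module.finrank k A)) K) :=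
    ∑ i, (MvPolynomial.X i : MvPolynomial (Fin (Module.finrank k A)) K) •
      (Bm i).map (MvPolynomial.C)
  let Pd : MvPolynomial (Fin (Module.finrank k A)) K :=
    resultant G.charpoly (derivative G.charpoly) r (r - 1)
  have hGmap : ∀ t : Fin (Module.finrank k A) → K, G.map (MvPolynomial.eval t) = M t := by
    intro t
    ext i j
    simp [G, M, Matrix.sum_apply, Matrix.smul_apply, map_sum]
  have key1 : ∀ t : Fin (Module.finrank k A) → K, MvPolynomial.eval t Pd =
      resultant (M t).charpoly (derivative (M t).charpoly) r (r - 1) := by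
    intro t
    rw [← hGmap t, Matrix.charpoly_map, derivative_map, resultant_map_map]
  have hdeg : ∀ m : Matrix (Fin r) (Fin r) K, m.charpoly.natDegree = r := by
    intro m
    rw [Matrix.charpoly_natDegree_eq_dim, Fintype.card_fin]
  obtain ⟨t₀, ht₀⟩ : ∃ t₀ : Fin (Module.finrank k A) → K, (M t₀).charpoly.Separable := by
    let d : Fin r → K := fun i => Infinite.natEmbedding K i
    have hd : Function.Injective d := fun i j h =>
      Fin.ext ((Infinite.natEmbedding K).injective h)
    let D : Matrix (Fin r) (Fin r) K := Matrix.diagonal d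
    let bK : Module.Basis (Fin (Module.finrank k A)) K (K ⊗[k] A) :=
      Algebra.TensorProduct.basis K b
    refine ⟨fun i => bK.repr (φ.symm D) i, ?_⟩
    have hMD : M (fun i => bK.repr (φ.symm D) i) = D := by
      have h1 : φ.symm D = ∑ i, bK.repr (φ.symm D) i • bK i := (bK.sum_repr _).symm
      have h2 : ∀ i, bK i = (1 : K) ⊗ₜ[k] b i := fun i => Algebra.TensorProduct.basis_apply ..
      calc M (fun i => bK.repr (φ.symm D) i)
          = φ (∑ i, bK.repr (φ.symm D) i • bK i) := by
            rw [map_sum]
            refine Finset.sum_congr rfl fun i _ => ?_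
            rw [map_smul, h2]
        _ = D := by rw [← h1, AlgEquiv.apply_symm_apply]
    rw [hMD, Matrix.charpoly_diagonal, separable_prod_X_sub_C_iff]
    exact hd
  have hPd : Pd ≠ 0 := by
    intro h0
    have h1 := key1 t₀
    rw [h0, map_zero] at h1
    exact (resultant_ne_zero_iff_separable _ (Matrix.charpoly_monic _) r (hdeg _)).2 ht₀ h1.symm
  have hinf : ∀ _ : Fin (Module.finrank k A), (Set.range (algebraMap k K)).Infinite := fun _ =>
    Set.infinite_range_of_injective (algebraMap k K).injective
  obtain ⟨t, ht, hne⟩ : ∃ t ∈ Set.pi Set.univ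
      (fun _ : Fin (Module.finrank k A) => Set.range (algebraMap k K)),
      MvPolynomial.eval t Pd ≠ 0 := by
    by_contra hcon
    push Not at hcon
    exact hPd (MvPolynomial.funext_set (fun _ => Set.range (algebraMap k K)) hinf
      (fun x hx => by rw [hcon x hx, map_zero]))
  choose t' ht' using fun i => ht i (Set.mem_univ i)
  refine ⟨∑ i, t' i • b i, ?_⟩
  have hx : φ ((1 : K) ⊗ₜ[k] ∑ i, t' i • b i) = M t := by
    rw [TensorProduct.tmul_sum, map_sum]
    refine Finset.sum_congr rfl fun i _ => ?_
    rw [TensorProduct.tmul_smul, ← algebraMap_smul K (t' i), map_smul, ht']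
  rw [hx]
  refine (resultant_ne_zero_iff_separable _ (Matrix.charpoly_monic _) r (hdeg _)).1 ?_
  rw [← key1]
  exact hne

end Infinite

section Finite

variable (k : Type u) [Field k] [Finite k] (A : Type v) [Ring A] [Algebra k A]
  [Algebra.IsCentral k A] [IsSimpleRing A] [FiniteDimensional k A]

theorem exists_algEquiv_matrix_finite :
    ∃ (n : ℕ) (_ : NeZero n), Nonempty (A ≃ₐ[k] Matrix (Fin n) (Fin n) k) := by
  have : IsArtinianRing A := IsArtinianRing.of_finite k A
  obtain ⟨n, hn, D, _, _, _, ⟨e⟩⟩ := IsSimpleRing.exists_algEquiv_matrix_divisionRing_finite k A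
  have : Algebra.IsCentral k (Matrix (Fin n) (Fin n) D) := Algebra.IsCentral.of_algEquiv k _ _ e
  have : Algebra.IsCentral k D := Groth.Agent.Helper5.CSA.isCentral_of_matrix k D n
  haveI : Finite D := Module.finite_of_finite k
  have hcomm : ∀ a b : D, a * b = b * a := by
    letI := littleWedderburn D
    exact fun a b => mul_comm a b
  have h : (⊥ : Subalgebra k D) = ⊤ := by
    apply le_antisymm bot_le
    intro d _
    exact Algebra.IsCentral.out (K := k) (Subalgebra.mem_center_iff.2 fun x => hcomm x d)
  let e1 : D ≃ₐ[k] k :=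
    (Subalgebra.topEquiv.symm.trans (Subalgebra.equivOfEq _ _ h.symm)).trans (Algebra.botEquiv k D)
  exact ⟨n, hn, ⟨e.trans e1.mapMatrix⟩⟩

theorem exists_finite (r : ℕ) (hA : Module.finrank k A = r ^ 2) :
    ∃ x : A, Algebra.IsSeparable k (Algebra.adjoin k ({x} : Set A)) ∧
      Module.finrank k (Algebra.adjoin k ({x} : Set A)) = r := by
  obtain ⟨n, hn, ⟨e⟩⟩ := exists_algEquiv_matrix_finite k A
  have hnr : n = r := by
    have h1 := e.toLinearEquiv.finrank_eq
    rw [hA, Module.finrank_matrix, Fintype.card_fin, Module.finrank_self, mul_one, ← pow_two] at h1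
    exact (Nat.pow_left_injective (n := 2) (by norm_num) h1).symm
  subst hnr
  obtain ⟨p, hp⟩ := CharP.exists k
  haveI : Fact p.Prime := ⟨CharP.char_is_prime k p⟩
  let L := FiniteField.Extension k p n
  have hfr : Module.finrank k L = n := FiniteField.finrank_extension k p n
  haveI : Algebra.IsSeparable k L := inferInstance
  obtain ⟨α, hα⟩ := Field.exists_primitive_element k L
  let bL : Module.Basis (Fin n) k L := Module.finBasisOfFinrankEq k L hfr
  let f : L →ₐ[k] A :=
    (e.symm : Matrix (Fin n) (Fin n) k →ₐ[k] A).comp (Algebra.leftMulMatrix bL)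
  have hf : Function.Injective f := f.toRingHom.injective
  have hadj : Algebra.adjoin k ({f α} : Set A) = f.range := by
    rw [← AlgHom.map_adjoin_singleton, ← Algebra.map_top]
    congr 1
    have hint : IsAlgebraic k α := IsAlgebraic.of_finite k α
    rw [← IntermediateField.adjoin_simple_toSubalgebra_of_isAlgebraic hint, hα,
      IntermediateField.top_toSubalgebra]
  refine ⟨f α, ?_⟩
  rw [hadj]
  let g : L ≃ₐ[k] f.range := AlgEquiv.ofInjective f hf
  constructor
  · refine ⟨fun z => ?_⟩
    obtain ⟨l, rfl⟩ := g.surjective z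
    have h1 : IsSeparable k l := Algebra.IsSeparable.isSeparable k l
    unfold IsSeparable at h1 ⊢
    rwa [minpoly.algEquiv_eq g l]
  · rw [← g.toLinearEquiv.finrank_eq, hfr]

end Finite

/-- **S5702** -/
theorem main (k : Type u) [Field k] (A : Type v) [Ring A] [Algebra k A] [Algebra.IsCentral k A]
    [IsSimpleRing A] [FiniteDimensional k A] (r : ℕ) (hA : Module.finrank k A = r ^ 2) :
    ∃ x : A, Algebra.IsSeparable k (Algebra.adjoin k ({x} : Set A)) ∧
      Module.finrank k (Algebra.adjoin k ({x} : Set A)) = r := by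
  rcases finite_or_infinite k with hfin | hinf
  · exact exists_finite k A r hA
  · have : IsSimpleRing (AlgebraicClosure k ⊗[k] A) := by
      have h1 : IsSimpleRing (A ⊗[k] AlgebraicClosure k) :=
        Groth.Agent.Helper5.CSA.isSimpleRing_tensor k A (AlgebraicClosure k)
      exact IsSimpleRing.of_ringEquiv
        (Algebra.TensorProduct.comm k A (AlgebraicClosure k)).toRingEquiv h1
    obtain ⟨n, hn, ⟨φ⟩⟩ := IsSimpleRing.exists_algEquiv_matrix_of_isAlgClosed
      (AlgebraicClosure k) (AlgebraicClosure k ⊗[k] A)
    have hnr : n = r := by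
      have h1 := φ.toLinearEquiv.finrank_eq
      rw [Module.finrank_baseChange, hA, Module.finrank_matrix, Fintype.card_fin,
        Module.finrank_self, mul_one, ← pow_two] at h1
      exact (Nat.pow_left_injective (n := 2) (by norm_num) h1).symm
    subst hnr
    obtain ⟨x, hx⟩ := exists_sep_infinite k A (AlgebraicClosure k) n φ
    exact ⟨x, lemmaA k A (AlgebraicClosure k) n φ x hx⟩

end Groth.Agent.Helper8.CSAReg
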