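import Mathlib
import Groth.Agent.Helper8.CSAReg2
import Groth.Agent.Helper8.AzuRegSec

/-!
# Maximal étale subalgebras of Azumaya algebras over a local ring (S5710)
-/

set_option autoImplicit false

namespace Groth.Agent.Helper8.AzuMaxEt

open TensorProduct Polynomial IsLocalRing

universe u

section Etale

variable {R : Type u} [CommRing R]

/-- `R[X]/(p)` is étale if `p` is monic and `p'` is a unit modulo `p`. -/
theorem etale_adjoinRoot (p : R[X]) (hp : p.Monic)
    (hu : IsUnit (AdjoinRoot.mk p (derivative p))) : Algebra.Etale R (AdjoinRoot p) := by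
  obtain ⟨q', hq'⟩ := hu.exists_right_inv
  obtain ⟨q, rfl⟩ := AdjoinRoot.mk_surjective q'
  rw [← map_mul, ← map_one (AdjoinRoot.mk p), AdjoinRoot.mk_eq_mk] at hq'
  obtain ⟨s, hs⟩ := hq'
  let P : StandardEtalePair R :=
    ⟨p, hp, 1, ⟨q, -s, 1, by rw [pow_one]; linear_combination hs⟩⟩
  have h1 : IsUnit (AdjoinRoot.mk P.f P.g) := by
    show IsUnit (AdjoinRoot.mk p 1)
    rw [map_one]; exact isUnit_one
  let e1 : AdjoinRoot p ≃ₐ[AdjoinRoot p] Localization.Away (AdjoinRoot.mk P.f P.g) :=
    IsLocalization.atUnit (AdjoinRoot p) (Localization.Away (AdjoinRoot.mk P.f P.g))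
      (AdjoinRoot.mk P.f P.g) h1
  let e : P.Ring ≃ₐ[R] AdjoinRoot p := P.equivAwayAdjoinRoot.trans (e1.restrictScalars R).symm
  exact Algebra.Etale.of_equiv e

end Etale

section main

variable (R : Type u) [CommRing R] [IsLocalRing R]

theorem one_tmul_surjective (M : Type*) [AddCommGroup M] [Module R M]
    (z : ResidueField R ⊗[R] M) : ∃ m : M, (1 : ResidueField R) ⊗ₜ[R] m = z := by
  induction z using TensorProduct.induction_on with
  | zero => exact ⟨0, by simp⟩
  | tmul c m =>
    obtain ⟨c', rfl⟩ := residue_surjective c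
    refine ⟨c' • m, ?_⟩
    rw [TensorProduct.tmul_smul, TensorProduct.smul_tmul']
    congr 1
    rw [Algebra.smul_def, mul_one]
    rfl
  | add x y hx hy =>
    obtain ⟨a, rfl⟩ := hx
    obtain ⟨b, rfl⟩ := hy
    exact ⟨a + b, TensorProduct.tmul_add ..⟩

/-- a polynomial whose reduction vanishes has coefficients in the maximal ideal. -/
theorem mk_eq_sum (p m : R[X]) :
    AdjoinRoot.mk p m =
      ∑ i ∈ Finset.range (m.natDegree + 1), m.coeff i • (AdjoinRoot.root p) ^ i := by
  conv_lhs => rw [as_sum_range_C_mul_X_pow m]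
  rw [map_sum]
  refine Finset.sum_congr rfl fun i _ => ?_
  rw [map_mul, map_pow, AdjoinRoot.mk_C, AdjoinRoot.mk_X, Algebra.smul_def,
    AdjoinRoot.algebraMap_eq]

theorem coeff_mem (m : R[X]) (hm : m.map (algebraMap R (ResidueField R)) = 0) (i : ℕ) :
    m.coeff i ∈ maximalIdeal R := by
  have h1 := congrArg (fun f => f.coeff i) hm
  simp only [coeff_map, coeff_zero] at h1
  exact (residue_eq_zero_iff _).1 h1

theorem mk_mem (p m : R[X]) (hm : m.map (algebraMap R (ResidueField R)) = 0) :
    AdjoinRoot.mk p m ∈ (maximalIdeal R).map (algebraMap R (AdjoinRoot p)) := by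
  rw [mk_eq_sum]
  refine Ideal.sum_mem _ fun i _ => ?_
  rw [Algebra.smul_def]
  exact Ideal.mul_mem_right _ _ (Ideal.mem_map_of_mem _ (coeff_mem R m hm i))

theorem tmul_mk_eq_zero (p m : R[X]) (hm : m.map (algebraMap R (ResidueField R)) = 0) :
    (1 : ResidueField R) ⊗ₜ[R] (AdjoinRoot.mk p m) = 0 := by
  rw [mk_eq_sum, TensorProduct.tmul_sum]
  refine Finset.sum_eq_zero fun i _ => ?_
  rw [TensorProduct.tmul_smul, TensorProduct.smul_tmul']
  have : m.coeff i • (1 : ResidueField R) = 0 := by
    rw [Algebra.smul_def, mul_one]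
    exact (residue_eq_zero_iff _).2 (coeff_mem R m hm i)
  rw [this, TensorProduct.zero_tmul]

variable (A : Type u) [Ring A] [Algebra R A] [IsAzumaya R A]

/-- **S5710** -/
theorem main (r : ℕ) (hA : Module.finrank R A = r ^ 2) :
    ∃ (E : Type u) (_ : CommRing E) (_ : Algebra R E), Algebra.Etale R E ∧ Module.Finite R E ∧
      Module.Free R E ∧ Module.finrank R E = r ∧
      ∃ u : E →ₐ[R] A, Function.Injective (u.toLinearMap.lTensor (IsLocalRing.ResidueField R)) := by
  classical
  have : Module.Finite R A := IsAzumaya.toFinite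
  have : Module.Projective R A := IsAzumaya.toProjective
  have : Module.Free R A := Module.free_of_flat_of_isLocalRing
  have : Nontrivial A := by
    by_contra h
    rw [not_nontrivial_iff_subsingleton] at h
    have hAz : IsAzumaya R A := inferInstance
    have : (1 : R) = 0 := hAz.eq_of_smul_eq_smul (fun x => Subsingleton.elim _ _)
    exact one_ne_zero this
  obtain ⟨hc, hs⟩ := Groth.Agent.Helper1.AzuLocal.fibre_of_isAzumaya R A
  have hfr : Module.finrank (ResidueField R) (ResidueField R ⊗[R] A) = r ^ 2 := by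
    rw [Module.finrank_baseChange, hA]
  obtain ⟨x₀, hsep, hdim⟩ := CSAReg.main (ResidueField R) (ResidueField R ⊗[R] A) r hfr
  obtain ⟨x, rfl⟩ := one_tmul_surjective R A x₀
  -- the reduced characteristic polynomial
  obtain ⟨R', _, _, hff, ⟨φ⟩⟩ := AzuRegSec.exists_split R A r hA
  obtain ⟨p, hp1, -, hp0⟩ := AzuCP.main R A x r R' φ R' φ
  have hinj : Function.Injective (algebraMap R R') := FaithfulSMul.algebraMap_injective R R'
  haveI : Nontrivial R' := hinj.nontrivial
  have hpm : p.Monic := by
    apply Polynomial.monic_of_injective hinj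
    rw [hp1]; exact Matrix.charpoly_monic _
  have hpd : p.natDegree = r := by
    rw [← natDegree_map_eq_of_injective hinj, hp1, Matrix.charpoly_natDegree_eq_dim,
      Fintype.card_fin]
  -- reduction
  have hred : ∀ q : R[X], aeval ((1 : ResidueField R) ⊗ₜ[R] x)
      (q.map (algebraMap R (ResidueField R))) = (1 : ResidueField R) ⊗ₜ[R] (aeval x q) := by
    intro q
    rw [aeval_map_algebraMap]
    exact aeval_algHom_apply
      (Algebra.TensorProduct.includeRight : A →ₐ[R] ResidueField R ⊗[R] A) x q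
  have hpb0 : aeval ((1 : ResidueField R) ⊗ₜ[R] x)
      (p.map (algebraMap R (ResidueField R))) = 0 := by
    rw [hred, hp0, TensorProduct.tmul_zero]
  have hmin : minpoly (ResidueField R) ((1 : ResidueField R) ⊗ₜ[R] x) =
      p.map (algebraMap R (ResidueField R)) := by
    have hd : (minpoly (ResidueField R) ((1 : ResidueField R) ⊗ₜ[R] x)).natDegree = r := by
      rw [← CSAReg.finrank_adjoin_singleton, hdim]
    symm
    refine eq_of_monic_of_dvd_of_natDegree_le (minpoly.monic (IsIntegral.of_finite _ _))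
      (hpm.map _) (minpoly.dvd _ _ hpb0) ?_
    rw [hd, hpm.natDegree_map, hpd]
  have hpbsep : (p.map (algebraMap R (ResidueField R))).Separable := by
    rw [← hmin]
    have h1 := hsep.isSeparable' ⟨_, Algebra.self_mem_adjoin_singleton _ _⟩
    unfold IsSeparable at h1
    rw [← minpoly.algHom_eq (Algebra.adjoin (ResidueField R)
      ({(1 : ResidueField R) ⊗ₜ[R] x} : Set (ResidueField R ⊗[R] A))).val
      Subtype.val_injective] at h1
    exact h1
  -- the algebra `E`
  have hE1 : Module.Finite R (AdjoinRoot p) := (AdjoinRoot.powerBasis' hpm).finite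
  have hE2 : Module.Free R (AdjoinRoot p) := .of_basis (AdjoinRoot.powerBasis' hpm).basis
  have hE3 : Module.finrank R (AdjoinRoot p) = r := by
    rw [(AdjoinRoot.powerBasis' hpm).finrank, AdjoinRoot.powerBasis'_dim, hpd]
  have hsurj : Function.Surjective (algebraMap R (ResidueField R)) := residue_surjective
  have hunit : IsUnit (AdjoinRoot.mk p (derivative p)) := by
    obtain ⟨a, b, hab⟩ := hpbsep
    obtain ⟨a', ha'⟩ := Polynomial.map_surjective _ hsurj a
    obtain ⟨b', hb'⟩ := Polynomial.map_surjective _ hsurj b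
    have hm : (a' * p + b' * derivative p - 1).map (algebraMap R (ResidueField R)) = 0 := by
      rw [Polynomial.map_sub, Polynomial.map_add, Polynomial.map_mul, Polynomial.map_mul,
        Polynomial.map_one, ha', hb', ← derivative_map, hab, sub_self]
    have hmem := mk_mem R p _ hm
    haveI : Algebra.IsIntegral R (AdjoinRoot p) := Algebra.IsIntegral.of_finite R _
    have hjac : (maximalIdeal R).map (algebraMap R (AdjoinRoot p)) ≤ Ideal.jacobson ⊥ :=
      Groth.Agent.Helper3.HensTFAE.map_le_jacobson_of_isIntegral (maximalIdeal R)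
        (by rw [jacobson_eq_maximalIdeal ⊥ bot_ne_top])
    have h1 := Ideal.mem_jacobson_bot.1 (hjac hmem) 1
    have h2 : AdjoinRoot.mk p (a' * p + b' * derivative p - 1) * 1 + 1 =
        AdjoinRoot.mk p b' * AdjoinRoot.mk p (derivative p) := by
      simp [AdjoinRoot.mk_self]
    rw [h2] at h1
    exact isUnit_of_mul_isUnit_right h1
  let u : AdjoinRoot p →ₐ[R] A := Ideal.Quotient.liftₐ (Ideal.span {p}) (aeval x) (by
      intro a ha
      obtain ⟨c, rfl⟩ := Ideal.mem_span_singleton.1 ha
      rw [map_mul, hp0, zero_mul])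
  have hu : ∀ q : R[X], u (AdjoinRoot.mk p q) = aeval x q := fun q => rfl
  refine ⟨AdjoinRoot p, inferInstance, inferInstance, etale_adjoinRoot p hpm hunit, hE1, hE2, hE3,
    u, ?_⟩
  rw [injective_iff_map_eq_zero]
  intro z hz
  obtain ⟨e, rfl⟩ := one_tmul_surjective R (AdjoinRoot p) z
  obtain ⟨q, rfl⟩ := AdjoinRoot.mk_surjective e
  rw [LinearMap.lTensor_tmul] at hz
  have hz' : (1 : ResidueField R) ⊗ₜ[R] (aeval x q) = 0 := hz
  rw [← hred] at hz'
  have h2 : p.map (algebraMap R (ResidueField R)) ∣ q.map (algebraMap R (ResidueField R)) :=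
    hmin ▸ minpoly.dvd _ _ hz'
  obtain ⟨s, hs⟩ := h2
  obtain ⟨s', rfl⟩ := Polynomial.map_surjective _ hsurj s
  have hm : (q - p * s').map (algebraMap R (ResidueField R)) = 0 := by
    rw [Polynomial.map_sub, Polynomial.map_mul, hs, sub_self]
  have hq : AdjoinRoot.mk p q = AdjoinRoot.mk p (q - p * s') := by
    simp [AdjoinRoot.mk_self]
  rw [hq]
  exact tmul_mk_eq_zero R p _ hm

end main

end Groth.Agent.Helper8.AzuMaxEt
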