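import Mathlib
import Groth.Agent.Helper8.AzuMaxEt

/-!
# Maximal étale subalgebras of Azumaya algebras over a local ring, explicit form

`main''` exposes the polynomial of `AzuMaxEt.main`; `poly_unique` and `aeval_smul_scaleRoots`
control it under scaling of the element.
-/

set_option autoImplicit false
set_option linter.style.haveILetI false

namespace Groth.Agent.Helper8.AzuMaxEt2

open TensorProduct Polynomial IsLocalRing

universe u

section gen

variable {R : Type*} [CommRing R] {A : Type*} [Ring A] [Algebra R A]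

theorem aeval_smul_scaleRoots (p : R[X]) (g : R) (x : A) :
    aeval (g • x) (scaleRoots p g) = g ^ p.natDegree • aeval x p := by
  rw [aeval_eq_sum_range, aeval_eq_sum_range, natDegree_scaleRoots, Finset.smul_sum]
  refine Finset.sum_congr rfl fun i hi => ?_
  have hi' : i ≤ p.natDegree := Nat.lt_succ_iff.1 (Finset.mem_range.1 hi)
  rw [coeff_scaleRoots, _root_.smul_pow, smul_smul, smul_smul]
  congr 1
  rw [mul_assoc, ← pow_add, Nat.sub_add_cancel hi', mul_comm]

theorem poly_unique [Nontrivial R] (x : A) (r : ℕ)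
    (hli : LinearIndependent R (fun i : Fin r => x ^ (i : ℕ))) (p q : R[X]) (hp : p.Monic)
    (hq : q.Monic) (hpd : p.natDegree = r) (hqd : q.natDegree = r) (hp0 : aeval x p = 0)
    (hq0 : aeval x q = 0) : p = q := by
  by_contra hne
  have hd0 : p - q ≠ 0 := sub_ne_zero.2 hne
  have hdeg : (p - q).degree < p.degree := by
    apply Polynomial.degree_sub_lt_left
    · rw [Polynomial.degree_eq_natDegree hp.ne_zero, Polynomial.degree_eq_natDegree hq.ne_zero,
        hpd, hqd]
    · exact hp.ne_zero
    · rw [hp.leadingCoeff, hq.leadingCoeff]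
  rw [Polynomial.degree_eq_natDegree hp.ne_zero, hpd] at hdeg
  have hnd : (p - q).natDegree < r := (Polynomial.natDegree_lt_iff_degree_lt hd0).2 hdeg
  have h0 : aeval x (p - q) = 0 := by rw [map_sub, hp0, hq0, sub_zero]
  rw [aeval_eq_sum_range' hnd, Finset.sum_range] at h0
  have hc := Fintype.linearIndependent_iff.1 hli (fun i => (p - q).coeff i) h0
  apply hd0
  ext i
  rw [coeff_zero]
  by_cases hi : i < r
  · exact hc ⟨i, hi⟩
  · exact coeff_eq_zero_of_natDegree_lt (lt_of_lt_of_le hnd (not_lt.1 hi))

end gen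

section main

variable (R : Type u) [CommRing R] [IsLocalRing R]
variable (A : Type u) [Ring A] [Algebra R A] [IsAzumaya R A]

theorem main'' (r : ℕ) (hA : Module.finrank R A = r ^ 2) (x : A)
    (hsep : Algebra.IsSeparable (ResidueField R) (Algebra.adjoin (ResidueField R)
      ({(1 : ResidueField R) ⊗ₜ[R] x} : Set (ResidueField R ⊗[R] A))))
    (hdim : Module.finrank (ResidueField R) (Algebra.adjoin (ResidueField R)
      ({(1 : ResidueField R) ⊗ₜ[R] x} : Set (ResidueField R ⊗[R] A))) = r) :
    ∃ p : R[X], p.Monic ∧ p.natDegree = r ∧ aeval x p = 0 ∧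
      IsUnit (AdjoinRoot.mk p (derivative p)) ∧
      (p.map (algebraMap R (ResidueField R))).Separable ∧
      ∀ u : AdjoinRoot p →ₐ[R] A, (∀ q : R[X], u (AdjoinRoot.mk p q) = aeval x q) →
        Function.Injective (u.toLinearMap.lTensor (ResidueField R)) := by
  classical
  have : Module.Finite R A := IsAzumaya.toFinite
  have : Module.Projective R A := IsAzumaya.toProjective
  have : Module.Free R A := Module.free_of_flat_of_isLocalRing
  have : Nontrivial A := by
    by_contra h
    rw [not_nontrivial_iff_subsingleton] at h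
    have hAz : IsAzumaya R A := inferInstance
    have : (1 : R) = 0 := hAz.eq_of_smul_eq_smul (fun x => Subsingleton.elim _ _)
    exact one_ne_zero this
  obtain ⟨hc, hs⟩ := Groth.Agent.Helper1.AzuLocal.fibre_of_isAzumaya R A
  have hfr : Module.finrank (ResidueField R) (ResidueField R ⊗[R] A) = r ^ 2 := by
    rw [Module.finrank_baseChange, hA]
  -- the reduced characteristic polynomial
  obtain ⟨R', _, _, hff, ⟨φ⟩⟩ := AzuRegSec.exists_split R A r hA
  obtain ⟨p, hp1, -, hp0⟩ := AzuCP.main R A x r R' φ R' φ
  have hinj : Function.Injective (algebraMap R R') := FaithfulSMul.algebraMap_injective R R'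
  haveI : Nontrivial R' := hinj.nontrivial
  have hpm : p.Monic := by
    apply Polynomial.monic_of_injective hinj
    rw [hp1]; exact Matrix.charpoly_monic _
  have hpd : p.natDegree = r := by
    rw [← natDegree_map_eq_of_injective hinj, hp1, Matrix.charpoly_natDegree_eq_dim,
      Fintype.card_fin]
  -- reduction
  have hred : ∀ q : R[X], aeval ((1 : ResidueField R) ⊗ₜ[R] x)
      (q.map (algebraMap R (ResidueField R))) = (1 : ResidueField R) ⊗ₜ[R] (aeval x q) := by
    intro q
    rw [aeval_map_algebraMap]
    exact aeval_algHom_apply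
      (Algebra.TensorProduct.includeRight : A →ₐ[R] ResidueField R ⊗[R] A) x q
  have hpb0 : aeval ((1 : ResidueField R) ⊗ₜ[R] x)
      (p.map (algebraMap R (ResidueField R))) = 0 := by
    rw [hred, hp0, TensorProduct.tmul_zero]
  have hmin : minpoly (ResidueField R) ((1 : ResidueField R) ⊗ₜ[R] x) =
      p.map (algebraMap R (ResidueField R)) := by
    have hd : (minpoly (ResidueField R) ((1 : ResidueField R) ⊗ₜ[R] x)).natDegree = r := by
      rw [← CSAReg.finrank_adjoin_singleton, hdim]
    symm
    refine eq_of_monic_of_dvd_of_natDegree_le (minpoly.monic (IsIntegral.of_finite _ _))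
      (hpm.map _) (minpoly.dvd _ _ hpb0) ?_
    rw [hd, hpm.natDegree_map, hpd]
  have hpbsep : (p.map (algebraMap R (ResidueField R))).Separable := by
    rw [← hmin]
    have h1 := hsep.isSeparable' ⟨_, Algebra.self_mem_adjoin_singleton _ _⟩
    unfold IsSeparable at h1
    rw [← minpoly.algHom_eq (Algebra.adjoin (ResidueField R)
      ({(1 : ResidueField R) ⊗ₜ[R] x} : Set (ResidueField R ⊗[R] A))).val
      Subtype.val_injective] at h1
    exact h1
  -- the algebra `E`
  have hE1 : Module.Finite R (AdjoinRoot p) := (AdjoinRoot.powerBasis' hpm).finite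
  have hE2 : Module.Free R (AdjoinRoot p) := .of_basis (AdjoinRoot.powerBasis' hpm).basis
  have hE3 : Module.finrank R (AdjoinRoot p) = r := by
    rw [(AdjoinRoot.powerBasis' hpm).finrank, AdjoinRoot.powerBasis'_dim, hpd]
  have hsurj : Function.Surjective (algebraMap R (ResidueField R)) := residue_surjective
  have hunit : IsUnit (AdjoinRoot.mk p (derivative p)) := by
    obtain ⟨a, b, hab⟩ := hpbsep
    obtain ⟨a', ha'⟩ := Polynomial.map_surjective _ hsurj a
    obtain ⟨b', hb'⟩ := Polynomial.map_surjective _ hsurj b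
    have hm : (a' * p + b' * derivative p - 1).map (algebraMap R (ResidueField R)) = 0 := by
      rw [Polynomial.map_sub, Polynomial.map_add, Polynomial.map_mul, Polynomial.map_mul,
        Polynomial.map_one, ha', hb', ← derivative_map, hab, sub_self]
    have hmem := AzuMaxEt.mk_mem R p _ hm
    haveI : Algebra.IsIntegral R (AdjoinRoot p) := Algebra.IsIntegral.of_finite R _
    have hjac : (maximalIdeal R).map (algebraMap R (AdjoinRoot p)) ≤ Ideal.jacobson ⊥ :=
      Groth.Agent.Helper3.HensTFAE.map_le_jacobson_of_isIntegral (maximalIdeal R)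
        (by rw [jacobson_eq_maximalIdeal ⊥ bot_ne_top])
    have h1 := Ideal.mem_jacobson_bot.1 (hjac hmem) 1
    have h2 : AdjoinRoot.mk p (a' * p + b' * derivative p - 1) * 1 + 1 =
        AdjoinRoot.mk p b' * AdjoinRoot.mk p (derivative p) := by
      simp [AdjoinRoot.mk_self]
    rw [h2] at h1
    exact isUnit_of_mul_isUnit_right h1
  refine ⟨p, hpm, hpd, hp0, hunit, hpbsep, ?_⟩
  intro u hu
  rw [injective_iff_map_eq_zero]
  intro z hz
  obtain ⟨e, rfl⟩ := AzuMaxEt.one_tmul_surjective R (AdjoinRoot p) z
  obtain ⟨q, rfl⟩ := AdjoinRoot.mk_surjective e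
  rw [LinearMap.lTensor_tmul] at hz
  have hz' : (1 : ResidueField R) ⊗ₜ[R] (aeval x q) = 0 := by
    rw [← hu q]; exact hz
  rw [← hred] at hz'
  have h2 : p.map (algebraMap R (ResidueField R)) ∣ q.map (algebraMap R (ResidueField R)) :=
    hmin ▸ minpoly.dvd _ _ hz'
  obtain ⟨s, hs⟩ := h2
  obtain ⟨s', rfl⟩ := Polynomial.map_surjective _ hsurj s
  have hm : (q - p * s').map (algebraMap R (ResidueField R)) = 0 := by
    rw [Polynomial.map_sub, Polynomial.map_mul, hs, sub_self]
  have hq : AdjoinRoot.mk p q = AdjoinRoot.mk p (q - p * s') := by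
    simp [AdjoinRoot.mk_self]
  rw [hq]
  exact AzuMaxEt.tmul_mk_eq_zero R p _ hm


end main

end Groth.Agent.Helper8.AzuMaxEt2
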