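import Mathlib
import Groth.Agent.Helper8.AzuMaxEt2
import Groth.Agent.Helper8.AzuFreeEt
import Groth.Agent.Helper8.AzuFib

/-!
# Tools for spreading out a splitting of an Azumaya algebra (towards S5720)
-/

set_option autoImplicit false
set_option linter.style.haveILetI false
universe u

open TensorProduct Polynomial

namespace Groth.Agent.Helper8.AzuSpreadA

section Part3
variable {R : Type u} [CommRing R] {A : Type u} [Ring A] [Algebra R A] {E : Type u} [CommRing E]
  [Algebra R E] (u : E →ₐ[R] A) [Module E A] [IsScalarTower R E A]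
  (hmod : ∀ (e : E) (a : A), e • a = a * u e)

/-- if `A` (Azumaya, free of rank `r²` over `R`) is free of rank `r` over the commutative algebra
`E` acting by right multiplication, then `E ⊗ A → End_E(A)` is bijective. -/
theorem phi_bijective [IsAzumaya R A] [Module.Free R A] [Nontrivial E] [Module.Free E A]
    [Module.Finite E A] (r : ℕ) (hr : r ≠ 0) (hA : Module.finrank R A = r ^ 2)
    (hrank : Module.finrank E A = r) : Function.Bijective (AzuFreeEt.Phi u hmod) := by
  haveI : Nontrivial R := (algebraMap R E).domain_nontrivial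
  haveI : Module.Finite R A := IsAzumaya.toFinite
  refine AzuFreeEt.bijective_of_injective_fibres (E := E) (M := E ⊗[R] A) (N := Module.End E A) ?_
    (AzuFreeEt.Phi u hmod).toLinearMap ?_
  · rw [Module.finrank_baseChange, hA, Module.finrank_linearMap, hrank, sq]
  · intro P hP
    letI : Field (E ⧸ P) := Ideal.Quotient.field P
    haveI : IsAzumaya E (E ⊗[R] A) := Groth.Agent.Helper9.AzuBC.baseChange R E A
    haveI : IsSimpleRing ((E ⧸ P) ⊗[E] (E ⊗[R] A)) := LGAzu.isSimpleRing_fibre P
    haveI : Nontrivial ((E ⧸ P) ⊗[E] Module.End E A) := by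
      apply Module.nontrivial_of_finrank_pos (R := E ⧸ P)
      rw [Module.finrank_baseChange, Module.finrank_linearMap, hrank]
      exact Nat.mul_pos (Nat.pos_of_ne_zero hr) (Nat.pos_of_ne_zero hr)
    let g : (E ⧸ P) ⊗[E] (E ⊗[R] A) →ₐ[E ⧸ P] (E ⧸ P) ⊗[E] Module.End E A :=
      Algebra.TensorProduct.map (AlgHom.id _ _) (AzuFreeEt.Phi u hmod)
    have hg : Function.Injective g := fun x y h => RingHom.injective g.toRingHom h
    have : ⇑((AzuFreeEt.Phi u hmod).toLinearMap.baseChange (E ⧸ P)) = ⇑g := by
      funext x
      induction x using TensorProduct.induction_on with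
      | zero => simp
      | tmul c e => simp [g]
      | add x y hx hy => rw [map_add, map_add, hx, hy]
    rw [this]
    exact hg

end Part3

section Loc
variable {R : Type u} [CommRing R]

theorem map_mk_eq_baseChange (S : Submonoid R) (B : Type u) [CommRing B] [Algebra R B]
    [IsLocalization S B] {M N : Type u} [AddCommGroup M] [Module R M] [AddCommGroup N]
    [Module R N] (l : M →ₗ[R] N) :
    IsLocalizedModule.map S (TensorProduct.mk R B M 1) (TensorProduct.mk R B N 1) l =
      (l.baseChange B).restrictScalars R := by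
  apply IsLocalizedModule.linearMap_ext S (TensorProduct.mk R B M 1) (TensorProduct.mk R B N 1)
  ext m
  simp only [LinearMap.comp_apply, LinearMap.coe_restrictScalars, TensorProduct.mk_apply,
    LinearMap.baseChange_tmul]
  exact IsLocalizedModule.map_apply S (TensorProduct.mk R B M 1) (TensorProduct.mk R B N 1) l m

theorem bijective_map_of_bijective_map (S : Submonoid R) {M M₁ M₂ N N₁ N₂ : Type u}
    [AddCommGroup M] [Module R M] [AddCommGroup M₁] [Module R M₁] [AddCommGroup M₂] [Module R M₂]
    [AddCommGroup N] [Module R N] [AddCommGroup N₁] [Module R N₁] [AddCommGroup N₂] [Module R N₂]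
    (f₁ : M →ₗ[R] M₁) [IsLocalizedModule S f₁] (f₂ : M →ₗ[R] M₂) [IsLocalizedModule S f₂]
    (g₁ : N →ₗ[R] N₁) [IsLocalizedModule S g₁] (g₂ : N →ₗ[R] N₂) [IsLocalizedModule S g₂]
    (l : M →ₗ[R] N) (h : Function.Bijective (IsLocalizedModule.map S f₁ g₁ l)) :
    Function.Bijective (IsLocalizedModule.map S f₂ g₂ l) := by
  have key : (IsLocalizedModule.map S f₂ g₂ l) ∘ₗ (IsLocalizedModule.linearEquiv S f₁ f₂).toLinearMap =
      (IsLocalizedModule.linearEquiv S g₁ g₂).toLinearMap ∘ₗ (IsLocalizedModule.map S f₁ g₁ l) := by
    apply IsLocalizedModule.linearMap_ext S f₁ g₂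
    ext m
    simp [IsLocalizedModule.map_apply]
  have h2 : Function.Bijective ((IsLocalizedModule.map S f₂ g₂ l) ∘
      (IsLocalizedModule.linearEquiv S f₁ f₂)) := by
    have : ⇑(IsLocalizedModule.map S f₂ g₂ l) ∘ ⇑(IsLocalizedModule.linearEquiv S f₁ f₂) =
        ⇑(IsLocalizedModule.linearEquiv S g₁ g₂) ∘ ⇑(IsLocalizedModule.map S f₁ g₁ l) := by
      funext y
      exact LinearMap.congr_fun key y
    rw [this]
    exact (IsLocalizedModule.linearEquiv S g₁ g₂).bijective.comp h
  exact (Function.Bijective.of_comp_iff _ (IsLocalizedModule.linearEquiv S f₁ f₂).bijective).1 h2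

/-- a linear map from a finite module to a finitely presented module which becomes bijective
at `p` is bijective after base change to every basic open neighbourhood inside some `D(g)`. -/
theorem exists_bijective_baseChange_away (p : Ideal R) [p.IsPrime] {M N : Type u}
    [AddCommGroup M] [Module R M] [AddCommGroup N] [Module R N] [Module.Finite R M]
    [Module.FinitePresentation R N] (l : M →ₗ[R] N)
    (h : Function.Bijective (l.baseChange (Localization.AtPrime p))) :
    ∃ g : R, g ∉ p ∧ ∀ t : R, g ∣ t →
      Function.Bijective (l.baseChange (Localization.Away t)) := by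
  have h1 : Function.Bijective (IsLocalizedModule.map p.primeCompl
      (TensorProduct.mk R (Localization.AtPrime p) M 1)
      (TensorProduct.mk R (Localization.AtPrime p) N 1) l) := by
    rw [map_mk_eq_baseChange]
    exact h
  obtain ⟨g, hg, H⟩ := exists_bijective_map_powers p.primeCompl _ _ l h1
  refine ⟨g, hg, fun t ht => ?_⟩
  have h2 := H t ht
  have h3 : Function.Bijective (IsLocalizedModule.map (Submonoid.powers t)
      (LocalizedModule.mkLinearMap (Submonoid.powers t) M)
      (LocalizedModule.mkLinearMap (Submonoid.powers t) N) l) := h2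
  have h4 := bijective_map_of_bijective_map (Submonoid.powers t)
    (LocalizedModule.mkLinearMap (Submonoid.powers t) M)
    (TensorProduct.mk R (Localization.Away t) M 1)
    (LocalizedModule.mkLinearMap (Submonoid.powers t) N)
    (TensorProduct.mk R (Localization.Away t) N 1) l h3
  rw [map_mk_eq_baseChange] at h4
  exact h4

end Loc

section Misc

theorem adjoin_smul_eq {k : Type*} {A : Type*} [Field k] [Ring A] [Algebra k A] (c : k)
    (hc : c ≠ 0) (z : A) :
    Algebra.adjoin k ({c • z} : Set A) = Algebra.adjoin k ({z} : Set A) := by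
  apply le_antisymm
  · apply Algebra.adjoin_le
    intro y hy
    rw [Set.mem_singleton_iff] at hy
    rw [hy]
    exact Subalgebra.smul_mem _ (Algebra.self_mem_adjoin_singleton k z) c
  · apply Algebra.adjoin_le
    intro y hy
    rw [Set.mem_singleton_iff] at hy
    rw [hy]
    have hz : c⁻¹ • (c • z) ∈ Algebra.adjoin k ({c • z} : Set A) :=
      Subalgebra.smul_mem _ (Algebra.self_mem_adjoin_singleton k (c • z)) c⁻¹
    rwa [smul_smul, inv_mul_cancel₀ hc, one_smul] at hz

theorem aeval_one_tmul {R : Type*} [CommRing R] (S : Type*) [CommRing S] [Algebra R S]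
    {A : Type*} [Ring A] [Algebra R A] (a : A) (q : R[X]) :
    aeval ((1 : S) ⊗ₜ[R] a) (q.map (algebraMap R S)) = (1 : S) ⊗ₜ[R] (aeval a q) := by
  rw [aeval_map_algebraMap]
  exact aeval_algHom_apply (Algebra.TensorProduct.includeRight : A →ₐ[R] S ⊗[R] A) a q

theorem tmul_eq_zero_of_smul_eq_zero {R : Type*} [CommRing R] (S : Type*) [CommRing S]
    [Algebra R S] {M : Type*} [AddCommGroup M] [Module R M] {t : R}
    (ht : IsUnit (algebraMap R S t)) {y : M} (h : t • y = 0) : (1 : S) ⊗ₜ[R] y = 0 := by
  have h1 : algebraMap R S t • ((1 : S) ⊗ₜ[R] y) = 0 := by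
    rw [TensorProduct.smul_tmul', smul_eq_mul, mul_one, Algebra.algebraMap_eq_smul_one,
      TensorProduct.smul_tmul, h, TensorProduct.tmul_zero]
  exact (ht.smul_eq_zero).1 h1

/-- the discriminant criterion, stable under base change -/
theorem isCoprime_map_iff {R T : Type*} [CommRing R] [CommRing T] [Nontrivial T] (φ : R →+* T)
    (P : R[X]) (hP : P.Monic) :
    IsUnit (φ (resultant P (derivative P) P.natDegree P.natDegree)) ↔
      IsCoprime (P.map φ) (derivative (P.map φ)) := by
  have hQd : (P.map φ).natDegree = P.natDegree := hP.natDegree_map φ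
  have hQm : (P.map φ).Monic := hP.map φ
  have h1 : φ (resultant P (derivative P) P.natDegree P.natDegree) =
      resultant (P.map φ) (derivative (P.map φ)) := by
    rw [← resultant_map_map, ← derivative_map, ← hQd]
    have hle : (derivative (P.map φ)).natDegree ≤ (P.map φ).natDegree :=
      (natDegree_derivative_le _).trans (Nat.sub_le _ _)
    obtain ⟨k, hk⟩ := Nat.exists_eq_add_of_le hle
    have h2 := Polynomial.resultant_add_right_deg (f := P.map φ) (g := derivative (P.map φ))
      (m := (P.map φ).natDegree) (n := (derivative (P.map φ)).natDegree) k le_rfl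
    rw [← hk, hQm.coeff_natDegree, one_pow, one_mul] at h2
    exact h2
  rw [h1]
  exact isUnit_resultant_iff_isCoprime hQm

end Misc

section Sq
open IsLocalRing

theorem exists_sq_finrank (R : Type u) [CommRing R] [IsLocalRing R] (A : Type u) [Ring A]
    [Algebra R A] [IsAzumaya R A] : ∃ r : ℕ, r ≠ 0 ∧ Module.finrank R A = r ^ 2 := by
  have : Module.Finite R A := IsAzumaya.toFinite
  have : Module.Projective R A := IsAzumaya.toProjective
  have : Module.Free R A := Module.free_of_flat_of_isLocalRing
  have : Nontrivial A := by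
    by_contra h
    rw [not_nontrivial_iff_subsingleton] at h
    have hAz : IsAzumaya R A := inferInstance
    have : (1 : R) = 0 := hAz.eq_of_smul_eq_smul (fun x => Subsingleton.elim _ _)
    exact one_ne_zero this
  obtain ⟨hc, hs⟩ := Groth.Agent.Helper1.AzuLocal.fibre_of_isAzumaya R A
  have : IsSimpleRing (AlgebraicClosure (ResidueField R) ⊗[ResidueField R]
      (ResidueField R ⊗[R] A)) := by
    have h1 : IsSimpleRing ((ResidueField R ⊗[R] A) ⊗[ResidueField R]
        AlgebraicClosure (ResidueField R)) :=
      Groth.Agent.Helper5.CSA.isSimpleRing_tensor (ResidueField R) (ResidueField R ⊗[R] A)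
        (AlgebraicClosure (ResidueField R))
    exact IsSimpleRing.of_ringEquiv
      (Algebra.TensorProduct.comm (ResidueField R) (ResidueField R ⊗[R] A)
        (AlgebraicClosure (ResidueField R))).toRingEquiv h1
  obtain ⟨n, hn, ⟨φ⟩⟩ := IsSimpleRing.exists_algEquiv_matrix_of_isAlgClosed
    (AlgebraicClosure (ResidueField R))
    (AlgebraicClosure (ResidueField R) ⊗[ResidueField R] (ResidueField R ⊗[R] A))
  have h1 := φ.toLinearEquiv.finrank_eq
  rw [Module.finrank_baseChange, Module.finrank_baseChange, Module.finrank_matrix,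
    Fintype.card_fin, Module.finrank_self, mul_one, ← pow_two] at h1
  refine ⟨n, ?_, h1⟩
  intro h0
  rw [h0] at h1
  have hpos := (Module.finrank_pos_iff_of_free (R := R) (M := A)).2 inferInstance
  rw [h1] at hpos
  simp at hpos

end Sq

end Groth.Agent.Helper8.AzuSpreadA
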