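import Mathlib
import Groth.Agent.Helper8.AzuSpreadA

/-!
# Splitting an Azumaya algebra over `S ⊗ -` from explicit data over `R` (towards S5720)
-/

set_option autoImplicit false
set_option linter.style.haveILetI false
universe u

open TensorProduct Polynomial

namespace Groth.Agent.Helper8.AzuSpreadB

section
variable {R : Type u} [CommRing R] {A : Type u} [Ring A] [Algebra R A]

variable (R) in
/-- the comparison map `(c_{ji}) ↦ ∑ c_{ji} b_j a₀^i` -/
noncomputable def Theta (r : ℕ) (a₀ : A) (b : Fin r → A) : (Fin r × Fin r → R) →ₗ[R] A :=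
  Fintype.linearCombination R (fun ji : Fin r × Fin r => b ji.1 * a₀ ^ (ji.2 : ℕ))

theorem Theta_apply (r : ℕ) (a₀ : A) (b : Fin r → A) (c : Fin r × Fin r → R) :
    Theta R r a₀ b c = ∑ ji, c ji • (b ji.1 * a₀ ^ (ji.2 : ℕ)) := by
  simp [Theta, Fintype.linearCombination_apply]

theorem split_aux [IsAzumaya R A] (S : Type u) [CommRing S] [Algebra R S] [Nontrivial S]
    (r : ℕ) (hr : r ≠ 0) (PS : S[X]) (hPm : PS.Monic) (hPd : PS.natDegree = r) (a₀ : A)
    (h0 : aeval ((1 : S) ⊗ₜ[R] a₀) PS = 0) (hcop : IsCoprime PS (derivative PS))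
    (b : Fin r → A) (hΘ : Function.Bijective ((Theta R r a₀ b).baseChange S)) :
    Module.Finite S (AdjoinRoot PS) ∧ Algebra.Etale S (AdjoinRoot PS) ∧
    Module.FaithfullyFlat S (AdjoinRoot PS) ∧
    Nonempty ((AdjoinRoot PS ⊗[R] A) ≃ₐ[AdjoinRoot PS] Matrix (Fin r) (Fin r) (AdjoinRoot PS)) := by
  classical
  haveI : Nontrivial R := (algebraMap R S).domain_nontrivial
  let pb := AdjoinRoot.powerBasis' hPm
  have hdim : pb.dim = r := by rw [AdjoinRoot.powerBasis'_dim, hPd]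
  haveI hfin : Module.Finite S (AdjoinRoot PS) := pb.finite
  haveI hfree : Module.Free S (AdjoinRoot PS) := .of_basis pb.basis
  have hfr : Module.finrank S (AdjoinRoot PS) = r := by rw [pb.finrank, hdim]
  haveI : Nontrivial (AdjoinRoot PS) :=
    Module.nontrivial_of_finrank_pos (R := S) (by rw [hfr]; exact Nat.pos_of_ne_zero hr)
  have hff : Module.FaithfullyFlat S (AdjoinRoot PS) := inferInstance
  have hunit : IsUnit (AdjoinRoot.mk PS (derivative PS)) := by
    obtain ⟨a, b', hab⟩ := hcop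
    refine IsUnit.of_mul_eq_one (AdjoinRoot.mk PS b') ?_
    have := congrArg (AdjoinRoot.mk PS) hab
    rw [map_add, map_mul, map_mul, AdjoinRoot.mk_self, mul_zero, zero_add, map_one] at this
    rw [mul_comm]
    exact this
  have het : Algebra.Etale S (AdjoinRoot PS) := AzuMaxEt.etale_adjoinRoot PS hPm hunit
  haveI : IsAzumaya S (S ⊗[R] A) := Groth.Agent.Helper9.AzuBC.baseChange R S A
  let uS : AdjoinRoot PS →ₐ[S] S ⊗[R] A :=
    Ideal.Quotient.liftₐ (Ideal.span {PS}) (aeval ((1 : S) ⊗ₜ[R] a₀)) (by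
      intro a ha
      obtain ⟨c, rfl⟩ := Ideal.mem_span_singleton.1 ha
      rw [map_mul, h0, zero_mul])
  have huS : ∀ q : S[X], uS (AdjoinRoot.mk PS q) = aeval ((1 : S) ⊗ₜ[R] a₀) q := fun q => rfl
  have hroot : uS (AdjoinRoot.root PS) = (1 : S) ⊗ₜ[R] a₀ := by
    rw [← AdjoinRoot.mk_X, huS, aeval_X]
  let uop : AdjoinRoot PS →+* (S ⊗[R] A)ᵐᵒᵖ :=
    RingHom.toOpposite (uS : AdjoinRoot PS →+* S ⊗[R] A) (fun x y => by
      show (uS : AdjoinRoot PS →+* S ⊗[R] A) x * (uS : AdjoinRoot PS →+* S ⊗[R] A) y =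
        (uS : AdjoinRoot PS →+* S ⊗[R] A) y * (uS : AdjoinRoot PS →+* S ⊗[R] A) x
      rw [← map_mul, ← map_mul, mul_comm])
  letI : Module (AdjoinRoot PS) (S ⊗[R] A) := Module.compHom (S ⊗[R] A) uop
  have hmod : ∀ (e : AdjoinRoot PS) (a : S ⊗[R] A), e • a = a * uS e := fun e a => rfl
  haveI : IsScalarTower S (AdjoinRoot PS) (S ⊗[R] A) :=
    ⟨fun c e a => by rw [hmod, hmod, map_smul, mul_smul_comm]⟩
  -- the power basis, indexed by `Fin r`
  let bS : Module.Basis (Fin r) S (AdjoinRoot PS) := pb.basis.reindex (finCongr hdim)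
  have hbS : ∀ i : Fin r, bS i = AdjoinRoot.root PS ^ (i : ℕ) := by
    intro i
    simp [bS, pb]
  let θ : (Fin r → AdjoinRoot PS) →ₗ[AdjoinRoot PS] S ⊗[R] A :=
    Fintype.linearCombination (AdjoinRoot PS) (fun j => (1 : S) ⊗ₜ[R] b j)
  let Pe : S ⊗[R] (Fin r × Fin r → R) ≃ₗ[S] (Fin r → AdjoinRoot PS) :=
    (TensorProduct.piScalarRight R S S (Fin r × Fin r)) ≪≫ₗ
      (LinearEquiv.curry S S (Fin r) (Fin r)) ≪≫ₗ
      (LinearEquiv.piCongrRight fun _ : Fin r => bS.equivFun.symm)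
  have e2 : ∀ (j i : Fin r), bS i • ((1 : S) ⊗ₜ[R] b j) =
      (1 : S) ⊗ₜ[R] (b j * a₀ ^ (i : ℕ)) := by
    intro j i
    rw [hmod, hbS, map_pow, hroot, Algebra.TensorProduct.tmul_pow, one_pow,
      Algebra.TensorProduct.tmul_mul_tmul, one_mul]
  have hcomp : ∀ z, θ (Pe z) = (Theta R r a₀ b).baseChange S z := by
    intro z
    induction z using TensorProduct.induction_on with
    | zero => simp
    | add x y hx hy => rw [map_add, map_add, map_add, hx, hy]
    | tmul s c =>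
      have e1 : Pe (s ⊗ₜ[R] c) = fun j => ∑ i, (c (j, i) • s) • bS i := by
        funext j
        simp only [Pe, LinearEquiv.trans_apply, TensorProduct.piScalarRight_apply,
          TensorProduct.piScalarRightHom_tmul, LinearEquiv.coe_curry,
          LinearEquiv.piCongrRight_apply, Module.Basis.equivFun_symm_apply, Function.curry]
      rw [LinearMap.baseChange_tmul, Theta_apply, TensorProduct.tmul_sum, e1]
      simp only [θ, Fintype.linearCombination_apply]
      rw [Fintype.sum_prod_type]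
      refine Finset.sum_congr rfl fun j _ => ?_
      rw [Finset.sum_smul]
      refine Finset.sum_congr rfl fun i _ => ?_
      rw [smul_assoc, e2, TensorProduct.smul_tmul', smul_eq_mul, mul_one,
        TensorProduct.smul_tmul]
  have hθ : Function.Bijective θ := by
    have h1 : Function.Bijective (θ ∘ Pe) := by
      have : (θ ∘ Pe : _ → _) = ⇑((Theta R r a₀ b).baseChange S) := funext hcomp
      rw [this]
      exact hΘ
    exact (Function.Bijective.of_comp_iff _ Pe.bijective).1 h1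
  let ψe : (Fin r → AdjoinRoot PS) ≃ₗ[AdjoinRoot PS] S ⊗[R] A := LinearEquiv.ofBijective θ hθ
  haveI : Module.Free (AdjoinRoot PS) (S ⊗[R] A) := Module.Free.of_equiv ψe
  haveI : Module.Finite (AdjoinRoot PS) (S ⊗[R] A) := Module.Finite.equiv ψe
  have hrank : Module.finrank (AdjoinRoot PS) (S ⊗[R] A) = r := by
    rw [← ψe.finrank_eq, Module.finrank_fin_fun]
  haveI : Module.Free S (S ⊗[R] A) :=
    Module.Free.of_equiv (LinearEquiv.ofBijective ((Theta R r a₀ b).baseChange S) hΘ)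
  have hAS : Module.finrank S (S ⊗[R] A) = r ^ 2 := by
    rw [← (LinearEquiv.ofBijective ((Theta R r a₀ b).baseChange S) hΘ).finrank_eq,
      Module.finrank_baseChange, Module.finrank_fintype_fun_eq_card, Fintype.card_prod,
      Fintype.card_fin, sq]
  have hbij := AzuSpreadA.phi_bijective uS hmod r hr hAS hrank
  let e1 : (AdjoinRoot PS) ⊗[S] (S ⊗[R] A) ≃ₐ[AdjoinRoot PS]
      Module.End (AdjoinRoot PS) (S ⊗[R] A) := AlgEquiv.ofBijective (AzuFreeEt.Phi uS hmod) hbij
  let e2' : Module.End (AdjoinRoot PS) (S ⊗[R] A) ≃ₐ[AdjoinRoot PS]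
      Matrix (Fin r) (Fin r) (AdjoinRoot PS) := algEquivMatrix (Module.Basis.ofEquivFun ψe.symm)
  let e0 : (AdjoinRoot PS) ⊗[R] A ≃ₐ[AdjoinRoot PS] (AdjoinRoot PS) ⊗[S] (S ⊗[R] A) :=
    (AzuFib.cancelBC R S (AdjoinRoot PS) A).symm
  exact ⟨hfin, het, hff, ⟨e0.trans (e1.trans e2')⟩⟩

theorem split_of_data [IsAzumaya R A] (S : Type u) [CommRing S] [Algebra R S] [Nontrivial S]
    (r : ℕ) (hr : r ≠ 0) (P₀ : R[X]) (hm : P₀.Monic) (hd : P₀.natDegree = r) (a₀ : A)
    (h0 : (1 : S) ⊗ₜ[R] (aeval a₀ P₀) = 0)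
    (hdisc : IsUnit (algebraMap R S (resultant P₀ (derivative P₀) P₀.natDegree P₀.natDegree)))
    (b : Fin r → A) (hΘ : Function.Bijective ((Theta R r a₀ b).baseChange S)) :
    Module.Finite S (AdjoinRoot (P₀.map (algebraMap R S))) ∧
    Algebra.Etale S (AdjoinRoot (P₀.map (algebraMap R S))) ∧
    Module.FaithfullyFlat S (AdjoinRoot (P₀.map (algebraMap R S))) ∧
    Nonempty ((AdjoinRoot (P₀.map (algebraMap R S)) ⊗[R] A) ≃ₐ[AdjoinRoot (P₀.map (algebraMap R S))]
      Matrix (Fin r) (Fin r) (AdjoinRoot (P₀.map (algebraMap R S)))) := by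
  refine split_aux S r hr (P₀.map (algebraMap R S)) (hm.map _) ((hm.natDegree_map _).trans hd) a₀
    ?_ ?_ b hΘ
  · rw [AzuSpreadA.aeval_one_tmul, h0]
  · exact (AzuSpreadA.isCoprime_map_iff (algebraMap R S) P₀ hm).1 hdisc

end

end Groth.Agent.Helper8.AzuSpreadB
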