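import Mathlib
import Groth.Agent.Helper8.AzuSpreadB

/-!
# An Azumaya algebra is split by a finite étale cover of a neighbourhood of any prime (S5720)
-/

set_option autoImplicit false
set_option linter.style.haveILetI false
universe u

open TensorProduct Polynomial

namespace Groth.Agent.Helper8.AzuSpreadC

open AzuSpreadB

section Local
open IsLocalRing

variable (R : Type u) [CommRing R] [IsLocalRing R] (A : Type u) [Ring A] [Algebra R A]
  [IsAzumaya R A]

/-- over a local ring: a basis of `A` of the form `β_j x^i` for a regular element `x` -/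
theorem exists_local_basis (r : ℕ) (hr : r ≠ 0) (hA : Module.finrank R A = r ^ 2) (x : A)
    (hsep : Algebra.IsSeparable (ResidueField R) (Algebra.adjoin (ResidueField R)
      ({(1 : ResidueField R) ⊗ₜ[R] x} : Set (ResidueField R ⊗[R] A))))
    (hdim : Module.finrank (ResidueField R) (Algebra.adjoin (ResidueField R)
      ({(1 : ResidueField R) ⊗ₜ[R] x} : Set (ResidueField R ⊗[R] A))) = r) :
    ∃ (BR : Module.Basis (Fin r × Fin r) R A) (β : Fin r → A),
      ∀ ji : Fin r × Fin r, BR ji = β ji.1 * x ^ (ji.2 : ℕ) := by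
  classical
  obtain ⟨P, hPm, hPd, hP0, hunit, -, hinj⟩ := AzuMaxEt2.main'' R A r hA x hsep hdim
  haveI : Algebra.Etale R (AdjoinRoot P) := AzuMaxEt.etale_adjoinRoot P hPm hunit
  let pb := AdjoinRoot.powerBasis' hPm
  have hdimE : pb.dim = r := by rw [AdjoinRoot.powerBasis'_dim, hPd]
  haveI : Module.Finite R (AdjoinRoot P) := pb.finite
  haveI : Module.Free R (AdjoinRoot P) := .of_basis pb.basis
  have hE : Module.finrank R (AdjoinRoot P) = r := by rw [pb.finrank, hdimE]
  haveI : Nontrivial (AdjoinRoot P) :=
    Module.nontrivial_of_finrank_pos (R := R) (by rw [hE]; exact Nat.pos_of_ne_zero hr)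
  let uE : AdjoinRoot P →ₐ[R] A := Ideal.Quotient.liftₐ (Ideal.span {P}) (aeval x) (by
      intro a ha
      obtain ⟨c, rfl⟩ := Ideal.mem_span_singleton.1 ha
      rw [map_mul, hP0, zero_mul])
  have huE : ∀ q : R[X], uE (AdjoinRoot.mk P q) = aeval x q := fun q => rfl
  have hroot : uE (AdjoinRoot.root P) = x := by
    rw [← AdjoinRoot.mk_X, huE, aeval_X]
  have hinjE := hinj uE huE
  let uop : AdjoinRoot P →+* Aᵐᵒᵖ :=
    RingHom.toOpposite (uE : AdjoinRoot P →+* A) (fun y z => by
      show (uE : AdjoinRoot P →+* A) y * (uE : AdjoinRoot P →+* A) z =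
        (uE : AdjoinRoot P →+* A) z * (uE : AdjoinRoot P →+* A) y
      rw [← map_mul, ← map_mul, mul_comm])
  letI : Module (AdjoinRoot P) A := Module.compHom A uop
  have hmod : ∀ (e : AdjoinRoot P) (a : A), e • a = a * uE e := fun e a => rfl
  haveI : IsScalarTower R (AdjoinRoot P) A :=
    ⟨fun c e a => by rw [hmod, hmod, map_smul, mul_smul_comm]⟩
  obtain ⟨hfree, hrank, -⟩ := AzuFreeEt.main R A r hA (AdjoinRoot P) hE uE hinjE hmod
  haveI := hfree
  haveI : Module.Finite R A := IsAzumaya.toFinite
  haveI : Module.Finite (AdjoinRoot P) A := Module.Finite.of_restrictScalars_finite R _ A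
  let β : Module.Basis (Fin r) (AdjoinRoot P) A := Module.finBasisOfFinrankEq _ A hrank
  let bE : Module.Basis (Fin r) R (AdjoinRoot P) := pb.basis.reindex (finCongr hdimE)
  have hbE : ∀ i : Fin r, bE i = AdjoinRoot.root P ^ (i : ℕ) := by
    intro i
    simp [bE, pb]
  refine ⟨bE.smulTower' β, fun j => β j, fun ji => ?_⟩
  rw [Module.Basis.smulTower'_apply, hmod, hbE, map_pow, hroot]

end Local

section Global

variable (R : Type u) [CommRing R] (A : Type u) [Ring A] [Algebra R A]
  (p : Ideal R) [p.IsPrime]

open IsLocalRing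

theorem residue_ne_zero {s : R} (hs : s ∉ p) :
    residue (Localization.AtPrime p) (algebraMap R (Localization.AtPrime p) s) ≠ 0 := by
  intro h0
  rw [residue_eq_zero_iff, IsLocalization.AtPrime.to_map_mem_maximal_iff _ p] at h0
  exact hs h0

variable (B : Type u) [Ring B] [Algebra (Localization.AtPrime p) B] [Algebra R B]
  [IsScalarTower R (Localization.AtPrime p) B]

omit [Algebra R B] [IsScalarTower R (Localization.AtPrime p) B] in
theorem one_tmul_smul (σ : Localization.AtPrime p) (y : B) :
    (1 : ResidueField (Localization.AtPrime p)) ⊗ₜ[Localization.AtPrime p] (σ • y) =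
      residue (Localization.AtPrime p) σ •
        ((1 : ResidueField (Localization.AtPrime p)) ⊗ₜ[Localization.AtPrime p] y) := by
  rw [TensorProduct.tmul_smul, ← algebraMap_smul (ResidueField (Localization.AtPrime p)) σ]
  rfl

variable [IsAzumaya (Localization.AtPrime p) B]
  (ι : A →ₐ[R] B) [IsLocalizedModule p.primeCompl ι.toLinearMap]

/-- a regular element of the fibre coming from `A` -/
theorem exists_regular (r : ℕ)
    (hrA : Module.finrank (Localization.AtPrime p) B = r ^ 2) :
    ∃ a₁ : A,
      Algebra.IsSeparable (ResidueField (Localization.AtPrime p))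
        (Algebra.adjoin (ResidueField (Localization.AtPrime p))
          ({(1 : ResidueField (Localization.AtPrime p)) ⊗ₜ[Localization.AtPrime p] (ι a₁)} :
            Set (ResidueField (Localization.AtPrime p) ⊗[Localization.AtPrime p] B))) ∧
      Module.finrank (ResidueField (Localization.AtPrime p))
        (Algebra.adjoin (ResidueField (Localization.AtPrime p))
          ({(1 : ResidueField (Localization.AtPrime p)) ⊗ₜ[Localization.AtPrime p] (ι a₁)} :
            Set (ResidueField (Localization.AtPrime p) ⊗[Localization.AtPrime p] B))) = r := by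
  have : Module.Finite (Localization.AtPrime p) B := IsAzumaya.toFinite
  have : Module.Projective (Localization.AtPrime p) B := IsAzumaya.toProjective
  have : Module.Free (Localization.AtPrime p) B := Module.free_of_flat_of_isLocalRing
  have : Nontrivial B := by
    by_contra h
    rw [not_nontrivial_iff_subsingleton] at h
    have hAz : IsAzumaya (Localization.AtPrime p) B := inferInstance
    have : (1 : Localization.AtPrime p) = 0 :=
      hAz.eq_of_smul_eq_smul (fun x => Subsingleton.elim _ _)
    exact one_ne_zero this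
  obtain ⟨hc, hs⟩ := Groth.Agent.Helper1.AzuLocal.fibre_of_isAzumaya (Localization.AtPrime p) B
  have hfr : Module.finrank (ResidueField (Localization.AtPrime p))
      (ResidueField (Localization.AtPrime p) ⊗[Localization.AtPrime p] B) = r ^ 2 := by
    rw [Module.finrank_baseChange, hrA]
  obtain ⟨x₀, hsep₀, hdim₀⟩ := CSAReg.main (ResidueField (Localization.AtPrime p))
    (ResidueField (Localization.AtPrime p) ⊗[Localization.AtPrime p] B) r hfr
  obtain ⟨y, hy⟩ := AzuMaxEt.one_tmul_surjective (Localization.AtPrime p) B x₀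
  obtain ⟨⟨a₁, s⟩, hs'⟩ := IsLocalizedModule.surj p.primeCompl ι.toLinearMap y
  refine ⟨a₁, ?_⟩
  have h1 : ι a₁ = algebraMap R (Localization.AtPrime p) (s : R) • y := by
    rw [algebraMap_smul]
    exact hs'.symm
  have key : (1 : ResidueField (Localization.AtPrime p)) ⊗ₜ[Localization.AtPrime p] (ι a₁) =
      residue (Localization.AtPrime p) (algebraMap R (Localization.AtPrime p) (s : R)) • x₀ := by
    rw [h1, one_tmul_smul, hy]
  rw [key, AzuSpreadA.adjoin_smul_eq _ (residue_ne_zero R p s.2) x₀]
  exact ⟨hsep₀, hdim₀⟩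

/-- the data needed by `split_of_data`, produced at the prime `p` -/
theorem exists_data (r : ℕ) (hr : r ≠ 0)
    (hrA : Module.finrank (Localization.AtPrime p) B = r ^ 2) :
    ∃ (a₀ : A) (P₀ : R[X]) (b : Fin r → A), P₀.Monic ∧ P₀.natDegree = r ∧
      ι (aeval a₀ P₀) = 0 ∧
      resultant P₀ (derivative P₀) P₀.natDegree P₀.natDegree ∉ p ∧
      ∃ BR : Module.Basis (Fin r × Fin r) (Localization.AtPrime p) B,
        ∀ ji : Fin r × Fin r, BR ji = ι (b ji.1 * a₀ ^ (ji.2 : ℕ)) := by
  classical
  obtain ⟨a₁, hsep₁, hdim₁⟩ := exists_regular R A p B ι r hrA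
  obtain ⟨P₁, hP₁m, hP₁d, hP₁0, -, -, -⟩ := AzuMaxEt2.main'' (Localization.AtPrime p)
    B r hrA (ι a₁) hsep₁ hdim₁
  -- common denominator
  obtain ⟨g, hg⟩ := IsLocalization.exist_integer_multiples_of_finset p.primeCompl
    ((Finset.range (r + 1)).image P₁.coeff)
  have hx : ι ((g : R) • a₁) = algebraMap R (Localization.AtPrime p) (g : R) • ι a₁ := by
    rw [map_smul, algebraMap_smul]
  have hkey : (1 : ResidueField (Localization.AtPrime p)) ⊗ₜ[Localization.AtPrime p]
      (ι ((g : R) • a₁)) =
      residue (Localization.AtPrime p) (algebraMap R (Localization.AtPrime p) (g : R)) •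
        ((1 : ResidueField (Localization.AtPrime p)) ⊗ₜ[Localization.AtPrime p] (ι a₁)) := by
    rw [hx, one_tmul_smul]
  have hsep : Algebra.IsSeparable (ResidueField (Localization.AtPrime p))
      (Algebra.adjoin (ResidueField (Localization.AtPrime p))
        ({(1 : ResidueField (Localization.AtPrime p)) ⊗ₜ[Localization.AtPrime p]
          (ι ((g : R) • a₁))} :
          Set (ResidueField (Localization.AtPrime p) ⊗[Localization.AtPrime p] B))) := by
    rw [hkey, AzuSpreadA.adjoin_smul_eq _ (residue_ne_zero R p g.2)]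
    exact hsep₁
  have hdim : Module.finrank (ResidueField (Localization.AtPrime p))
      (Algebra.adjoin (ResidueField (Localization.AtPrime p))
        ({(1 : ResidueField (Localization.AtPrime p)) ⊗ₜ[Localization.AtPrime p]
          (ι ((g : R) • a₁))} :
          Set (ResidueField (Localization.AtPrime p) ⊗[Localization.AtPrime p] B))) = r := by
    rw [hkey, AzuSpreadA.adjoin_smul_eq _ (residue_ne_zero R p g.2)]
    exact hdim₁
  obtain ⟨P, hPm, hPd, hP0, -, hPsep, -⟩ := AzuMaxEt2.main'' (Localization.AtPrime p)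
    B r hrA (ι ((g : R) • a₁)) hsep hdim
  have hli := (AzuRegSec.main (Localization.AtPrime p) B r hrA (ι ((g : R) • a₁)) hdim).1
  have hPeq : P = scaleRoots P₁ (algebraMap R (Localization.AtPrime p) (g : R)) := by
    refine AzuMaxEt2.poly_unique _ r hli P _ hPm ((monic_scaleRoots_iff _).2 hP₁m) hPd
      (by rw [natDegree_scaleRoots, hP₁d]) hP0 ?_
    rw [hx, AzuMaxEt2.aeval_smul_scaleRoots, hP₁0, smul_zero]
  have hlifts : P ∈ Polynomial.lifts (algebraMap R (Localization.AtPrime p)) := by
    rw [hPeq, lifts_iff_coeff_lifts]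
    intro i
    rw [coeff_scaleRoots, hP₁d]
    rcases lt_trichotomy i r with hi | hi | hi
    · have hmem : P₁.coeff i ∈ (Finset.range (r + 1)).image P₁.coeff :=
        Finset.mem_image.2 ⟨i, Finset.mem_range.2 (by omega), rfl⟩
      obtain ⟨n, hn⟩ := hg _ hmem
      obtain ⟨k, hk⟩ : ∃ k, r - i = k + 1 := ⟨r - i - 1, by omega⟩
      refine ⟨n * (g : R) ^ k, ?_⟩
      rw [map_mul, map_pow, hn, Algebra.smul_def, hk, pow_succ]
      ring
    · subst hi
      rw [Nat.sub_self, pow_zero, mul_one, ← hP₁d, hP₁m.coeff_natDegree]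
      exact ⟨1, map_one _⟩
    · rw [coeff_eq_zero_of_natDegree_lt (by rw [hP₁d]; exact hi), zero_mul]
      exact ⟨0, map_zero _⟩
  obtain ⟨P₀, hP₀map, hP₀d, hP₀m⟩ := lifts_and_natDegree_eq_and_monic hlifts hPm
  -- the local basis
  obtain ⟨BR, β, hBR⟩ := exists_local_basis (Localization.AtPrime p) B r hr hrA
    (ι ((g : R) • a₁)) hsep hdim
  choose bs hbs using fun j => IsLocalizedModule.surj p.primeCompl ι.toLinearMap (β j)
  have hbs' : ∀ j, algebraMap R (Localization.AtPrime p) ((bs j).2 : R) • β j = ι (bs j).1 := by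
    intro j
    rw [algebraMap_smul]
    exact hbs j
  have hw : ∀ ji : Fin r × Fin r,
      IsUnit (algebraMap R (Localization.AtPrime p) ((bs ji.1).2 : R)) :=
    fun ji => IsLocalization.map_units _ (bs ji.1).2
  refine ⟨(g : R) • a₁, P₀, fun j => (bs j).1, hP₀m, hP₀d.trans hPd, ?_, ?_, ?_⟩
  · rw [← Polynomial.aeval_algHom_apply, ← Polynomial.aeval_map_algebraMap
      (Localization.AtPrime p), hP₀map, hP0]
  · intro hdp
    have hcop : IsCoprime
        (P₀.map ((algebraMap (Localization.AtPrime p)
          (ResidueField (Localization.AtPrime p))).comp (algebraMap R (Localization.AtPrime p))))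
        (derivative (P₀.map ((algebraMap (Localization.AtPrime p)
          (ResidueField (Localization.AtPrime p))).comp
            (algebraMap R (Localization.AtPrime p))))) := by
      rw [← Polynomial.map_map, hP₀map]
      exact hPsep
    have hu := (AzuSpreadA.isCoprime_map_iff _ P₀ hP₀m).2 hcop
    have hz : ((algebraMap (Localization.AtPrime p)
        (ResidueField (Localization.AtPrime p))).comp (algebraMap R (Localization.AtPrime p)))
        (resultant P₀ (derivative P₀) P₀.natDegree P₀.natDegree) = 0 := by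
      rw [RingHom.comp_apply]
      exact (residue_eq_zero_iff _).2
        ((IsLocalization.AtPrime.to_map_mem_maximal_iff _ p _).2 hdp)
    rw [hz] at hu
    exact not_isUnit_zero hu
  · refine ⟨BR.isUnitSMul hw, fun ji => ?_⟩
    rw [Module.Basis.isUnitSMul_apply, hBR, ← smul_mul_assoc, hbs', ← map_pow, ← map_mul]

end Global

section Final

variable (R : Type u) [CommRing R] (A : Type u) [Ring A] [Algebra R A] [IsAzumaya R A]
  (p : Ideal R) [p.IsPrime]

/-- **S5720** -/
theorem main : ∃ f : R, f ∉ p ∧ ∃ (R' : Type u) (_ : CommRing R') (_ : Algebra R R')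
    (_ : Algebra (Localization.Away f) R') (_ : IsScalarTower R (Localization.Away f) R'),
    Module.Finite (Localization.Away f) R' ∧ Algebra.Etale (Localization.Away f) R' ∧
    Module.FaithfullyFlat (Localization.Away f) R' ∧
    ∃ r : ℕ, 1 ≤ r ∧ Nonempty ((R' ⊗[R] A) ≃ₐ[R'] Matrix (Fin r) (Fin r) R') := by
  classical
  haveI : IsAzumaya (Localization.AtPrime p) (Localization.AtPrime p ⊗[R] A) :=
    Groth.Agent.Helper9.AzuBC.baseChange R (Localization.AtPrime p) A
  obtain ⟨r, hr, hrA⟩ := AzuSpreadA.exists_sq_finrank (Localization.AtPrime p)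
    (Localization.AtPrime p ⊗[R] A)
  haveI : IsLocalizedModule p.primeCompl
      (Algebra.TensorProduct.includeRight :
        A →ₐ[R] Localization.AtPrime p ⊗[R] A).toLinearMap :=
    inferInstanceAs (IsLocalizedModule p.primeCompl
      (TensorProduct.mk R (Localization.AtPrime p) A 1))
  obtain ⟨a₀, P₀, b, hm, hd, h0, hdisc, BR, hBR⟩ := exists_data R A p
    (Localization.AtPrime p ⊗[R] A) Algebra.TensorProduct.includeRight r hr hrA
  have hΘ : Function.Bijective ((Theta R r a₀ b).baseChange (Localization.AtPrime p)) := by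
    let B₀ : Module.Basis (Fin r × Fin r) (Localization.AtPrime p)
        (Localization.AtPrime p ⊗[R] (Fin r × Fin r → R)) :=
      Algebra.TensorProduct.basis (Localization.AtPrime p) (Pi.basisFun R (Fin r × Fin r))
    have : (Theta R r a₀ b).baseChange (Localization.AtPrime p) =
        (B₀.equiv BR (Equiv.refl _)).toLinearMap := by
      apply B₀.ext
      intro ji
      rw [LinearEquiv.coe_coe, Module.Basis.equiv_apply, Equiv.refl_apply, hBR]
      simp only [B₀, Algebra.TensorProduct.basis_apply, Pi.basisFun_apply,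
        LinearMap.baseChange_tmul, Theta, Fintype.linearCombination_apply_single, one_smul,
        Algebra.TensorProduct.includeRight_apply]
    rw [this]
    exact LinearEquiv.bijective _
  have h0' : (1 : Localization.AtPrime p) ⊗ₜ[R] (aeval a₀ P₀) = 0 := h0
  obtain ⟨t, ht⟩ := (IsLocalizedModule.eq_zero_iff p.primeCompl
    (TensorProduct.mk R (Localization.AtPrime p) A 1)).1 h0'
  haveI : Module.Finite R A := IsAzumaya.toFinite
  haveI : Module.Projective R A := IsAzumaya.toProjective
  haveI : Module.FinitePresentation R A := Module.finitePresentation_of_projective R A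
  obtain ⟨g₂, hg₂, H⟩ := AzuSpreadA.exists_bijective_baseChange_away p (Theta R r a₀ b) hΘ
  have hf : (t : R) * resultant P₀ (derivative P₀) P₀.natDegree P₀.natDegree * g₂ ∉ p := by
    intro hmem
    rcases (Ideal.IsPrime.mem_or_mem ‹p.IsPrime› hmem) with h1 | h1
    · rcases (Ideal.IsPrime.mem_or_mem ‹p.IsPrime› h1) with h2 | h2
      · exact t.2 h2
      · exact hdisc h2
    · exact hg₂ h1
  refine ⟨(t : R) * resultant P₀ (derivative P₀) P₀.natDegree P₀.natDegree * g₂, hf, ?_⟩
  have hfu := IsLocalization.Away.algebraMap_isUnit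
    (S := Localization.Away ((t : R) * resultant P₀ (derivative P₀) P₀.natDegree P₀.natDegree * g₂))
    ((t : R) * resultant P₀ (derivative P₀) P₀.natDegree P₀.natDegree * g₂)
  rw [map_mul, map_mul] at hfu
  have htu := isUnit_of_mul_isUnit_left (isUnit_of_mul_isUnit_left hfu)
  have hdu := isUnit_of_mul_isUnit_right (isUnit_of_mul_isUnit_left hfu)
  haveI : Nontrivial (Localization.Away
      ((t : R) * resultant P₀ (derivative P₀) P₀.natDegree P₀.natDegree * g₂)) := by
    have hu : IsUnit (algebraMap R (Localization.AtPrime p)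
        ((t : R) * resultant P₀ (derivative P₀) P₀.natDegree P₀.natDegree * g₂)) :=
      IsLocalization.map_units (Localization.AtPrime p) (⟨_, hf⟩ : p.primeCompl)
    exact (IsLocalization.Away.lift (S := Localization.Away
      ((t : R) * resultant P₀ (derivative P₀) P₀.natDegree P₀.natDegree * g₂))
      ((t : R) * resultant P₀ (derivative P₀) P₀.natDegree P₀.natDegree * g₂) hu).domain_nontrivial
  have hΘS := H ((t : R) * resultant P₀ (derivative P₀) P₀.natDegree P₀.natDegree * g₂)
    (Dvd.intro_left _ rfl)
  obtain ⟨h1, h2, h3, h4⟩ := split_of_data (Localization.Away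
    ((t : R) * resultant P₀ (derivative P₀) P₀.natDegree P₀.natDegree * g₂)) r hr P₀ hm hd a₀
    (AzuSpreadA.tmul_eq_zero_of_smul_eq_zero _ htu ht) hdu b hΘS
  exact ⟨_, inferInstance, inferInstance, inferInstance, inferInstance, h1, h2, h3, r,
    Nat.one_le_iff_ne_zero.2 hr, h4⟩

end Final

end Groth.Agent.Helper8.AzuSpreadC
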