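import Mathlib
import Groth.Agent.Helper8.AzuSpreadC

/-!
# A faithfully flat global splitting of an Azumaya algebra of constant rank (towards S13796)
-/

set_option autoImplicit false
set_option linter.style.haveILetI false
universe u
open TensorProduct

namespace Groth.Agent.Helper8.AzuGlobSplit

variable (R : Type u) [CommRing R] (A : Type u) [Ring A] [Algebra R A] [IsAzumaya R A]

/-- local splitting data near a prime, with the matrix size pinned down by the rank -/
theorem exists_local (n : ℕ)
    (hrk : ∀ p : PrimeSpectrum R, Module.rankAtStalk (R := R) A p = n ^ 2)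
    (p : Ideal R) [p.IsPrime] :
    ∃ f : R, f ∉ p ∧ ∃ (R' : Type u) (_ : CommRing R') (_ : Algebra R R'),
      Module.Flat R R' ∧
      (∀ q : PrimeSpectrum R, f ∉ q.asIdeal →
        q ∈ Set.range (PrimeSpectrum.comap (algebraMap R R'))) ∧
      Nonempty (R' ⊗[R] A ≃ₐ[R'] Matrix (Fin n) (Fin n) R') := by
  obtain ⟨f, hf, R', _, _, _, _, -, -, hff, r, -, ⟨iso⟩⟩ := AzuSpreadC.main R A p
  haveI : Module.Flat R R' := Module.Flat.trans R (Localization.Away f) R'
  have hprimes : ∀ q : PrimeSpectrum R, f ∉ q.asIdeal →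
      q ∈ Set.range (PrimeSpectrum.comap (algebraMap R R')) := by
    intro q hq
    have hdisj : Disjoint (Submonoid.powers f : Set R) (q.asIdeal : Set R) :=
      (Ideal.disjoint_powers_iff_notMem_of_isPrime f).2 hq
    have hprime := IsLocalization.isPrime_of_isPrime_disjoint (Submonoid.powers f)
      (Localization.Away f) q.asIdeal q.2 hdisj
    have hunder := IsLocalization.under_map_of_isPrime_disjoint (Submonoid.powers f)
      (Localization.Away f) q.2 hdisj
    obtain ⟨q'', hq''⟩ := PrimeSpectrum.comap_surjective_of_faithfullyFlat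
      (A := Localization.Away f) (B := R') ⟨_, hprime⟩
    refine ⟨q'', ?_⟩
    apply PrimeSpectrum.ext
    have h1 : (PrimeSpectrum.comap (algebraMap R R') q'').asIdeal =
        Ideal.comap (algebraMap R (Localization.Away f))
          (PrimeSpectrum.comap (algebraMap (Localization.Away f) R') q'').asIdeal := by
      rw [PrimeSpectrum.comap_asIdeal, PrimeSpectrum.comap_asIdeal, Ideal.comap_comap,
        ← IsScalarTower.algebraMap_eq]
    rw [h1, hq'']
    exact hunder
  -- the matrix size is `n`
  obtain ⟨q'', hq''⟩ := hprimes ⟨p, inferInstance⟩ hf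
  haveI : Nontrivial R' := q''.nontrivial
  haveI : Module.Finite R A := IsAzumaya.toFinite
  haveI : Module.Projective R A := IsAzumaya.toProjective
  have h1 : Module.rankAtStalk (R' ⊗[R] A) q'' = n ^ 2 := by
    rw [Module.rankAtStalk_baseChange, hrk]
  have h2 : Module.rankAtStalk (R := R') (R' ⊗[R] A) = Module.rankAtStalk (R := R')
      (Matrix (Fin r) (Fin r) R') := Module.rankAtStalk_eq_of_equiv iso.toLinearEquiv
  rw [h2, Module.rankAtStalk_eq_finrank_of_free] at h1
  have h3 : r = n := by
    have : r ^ 2 = n ^ 2 := by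
      rw [← h1]
      simp [Module.finrank_matrix, sq]
    exact Nat.pow_left_injective two_ne_zero this
  subst h3
  exact ⟨f, hf, R', inferInstance, inferInstance, inferInstance, hprimes, ⟨iso⟩⟩

section Product

variable {ι : Type u} [Fintype ι] [DecidableEq ι] (B : ι → Type u) [∀ i, CommRing (B i)]
  [∀ i, Algebra R (B i)] (n : ℕ)
  (θ : ∀ i, B i ⊗[R] A ≃ₐ[B i] Matrix (Fin n) (Fin n) (B i))

omit [IsAzumaya R A] [Fintype ι] [DecidableEq ι] in
/-- the algebra map `A → M_n(∏ B_i)` -/
noncomputable def psiPi : A →ₐ[R] Matrix (Fin n) (Fin n) (∀ i, B i) where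
  toFun a := Matrix.of fun k l i => θ i (1 ⊗ₜ a) k l
  map_one' := by
    ext k l i
    have : θ i ((1 : B i) ⊗ₜ[R] (1 : A)) = 1 := by
      rw [← Algebra.TensorProduct.one_def, map_one]
    simp only [Matrix.of_apply, this, Matrix.one_apply]
    split_ifs <;> rfl
  map_mul' a b := by
    ext k l i
    have : θ i ((1 : B i) ⊗ₜ[R] (a * b)) = θ i (1 ⊗ₜ a) * θ i (1 ⊗ₜ b) := by
      rw [← map_mul, Algebra.TensorProduct.tmul_mul_tmul, one_mul]
    simp only [Matrix.of_apply, this, Matrix.mul_apply, Finset.sum_apply, Pi.mul_apply]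
  map_zero' := by
    ext k l i
    simp
  map_add' a b := by
    ext k l i
    simp [TensorProduct.tmul_add]
  commutes' r := by
    ext k l i
    have : θ i ((1 : B i) ⊗ₜ[R] (algebraMap R A r)) = algebraMap R _ r := by
      rw [← Algebra.TensorProduct.algebraMap_apply']
      exact ((θ i).toAlgHom.restrictScalars R).commutes r
    simp only [Matrix.of_apply, this, Matrix.algebraMap_matrix_apply]
    split_ifs <;> simp [Algebra.algebraMap_eq_smul_one]

/-- the splitting over the product ring -/
noncomputable def thetaPi : (∀ i, B i) ⊗[R] A →ₐ[∀ i, B i] Matrix (Fin n) (Fin n) (∀ i, B i) :=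
  Algebra.TensorProduct.lift (Algebra.ofId _ _) (psiPi R A B n θ)
    (fun c a => Algebra.commute_algebraMap_left c _)

theorem thetaPi_tmul (c : ∀ i, B i) (a : A) (k l : Fin n) (i : ι) :
    thetaPi R A B n θ (c ⊗ₜ a) k l i = c i * θ i (1 ⊗ₜ a) k l := by
  rw [thetaPi, Algebra.TensorProduct.lift_tmul, Algebra.ofId_apply, ← Algebra.smul_def]
  rfl

/-- reshuffling matrices over a product -/
def matPi : (∀ i, Matrix (Fin n) (Fin n) (B i)) ≃ₗ[R] Matrix (Fin n) (Fin n) (∀ i, B i) where
  toFun F := Matrix.of fun k l i => F i k l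
  invFun M := fun i => Matrix.of fun k l => M k l i
  left_inv F := rfl
  right_inv M := rfl
  map_add' F G := rfl
  map_smul' r F := rfl

theorem thetaPi_bijective : Function.Bijective (thetaPi R A B n θ) := by
  let e : (∀ i, B i) ⊗[R] A ≃ₗ[R] Matrix (Fin n) (Fin n) (∀ i, B i) :=
    (TensorProduct.comm R (∀ i, B i) A) ≪≫ₗ
      (TensorProduct.piRight R R A B) ≪≫ₗ
      (LinearEquiv.piCongrRight fun i => TensorProduct.comm R A (B i)) ≪≫ₗ
      (LinearEquiv.piCongrRight fun i => (θ i).toLinearEquiv.restrictScalars R) ≪≫ₗ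
      matPi R B n
  have : ∀ y, thetaPi R A B n θ y = e y := by
    intro y
    induction y using TensorProduct.induction_on with
    | zero => simp
    | tmul c a =>
      ext k l i
      rw [thetaPi_tmul]
      have : θ i (c i ⊗ₜ[R] a) = c i • θ i (1 ⊗ₜ a) := by
        rw [← map_smul, TensorProduct.smul_tmul', smul_eq_mul, mul_one]
      simp [e, matPi, this]
    | add y z hy hz => rw [map_add, map_add, hy, hz]
  have h2 : (thetaPi R A B n θ : _ → _) = e := funext this
  rw [h2]
  exact e.bijective

end Product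

/-- a global faithfully flat splitting -/
theorem main (n : ℕ) (hrk : ∀ p : PrimeSpectrum R, Module.rankAtStalk (R := R) A p = n ^ 2) :
    ∃ (S : Type u) (_ : CommRing S) (_ : Algebra R S), Module.FaithfullyFlat R S ∧
      Nonempty (S ⊗[R] A ≃ₐ[S] Matrix (Fin n) (Fin n) S) := by
  classical
  choose f hf R' instCR instAlg hflat hprimes hiso using
    fun p : PrimeSpectrum R => exists_local R A n hrk p.asIdeal
  letI : ∀ p, CommRing (R' p) := instCR
  letI : ∀ p, Algebra R (R' p) := instAlg
  -- finitely many `f p` generate the unit ideal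
  have htop : Ideal.span (Set.range f) = ⊤ := by
    by_contra hne
    obtain ⟨m, hm, hle⟩ := Ideal.exists_le_maximal _ hne
    exact hf ⟨m, hm.isPrime⟩ (hle (Ideal.subset_span ⟨⟨m, hm.isPrime⟩, rfl⟩))
  have h1 : (1 : R) ∈ Ideal.span (Set.range f) := by rw [htop]; trivial
  obtain ⟨c, hc⟩ := (Finsupp.mem_span_range_iff_exists_finsupp).1 h1
  let t : Finset (PrimeSpectrum R) := c.support
  have hcover : ∀ q : PrimeSpectrum R, ∃ p ∈ t, f p ∉ q.asIdeal := by
    intro q
    by_contra hcon
    push_neg at hcon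
    have : (1 : R) ∈ q.asIdeal := by
      rw [← hc]
      refine Ideal.sum_mem _ (fun p hp => ?_)
      exact Ideal.mul_mem_left _ _ (hcon p hp)
    exact q.2.ne_top ((Ideal.eq_top_iff_one _).2 this)
  -- the product ring
  let B : t → Type u := fun p => R' p.1
  haveI : Module.Flat R (∀ p : t, B p) :=
    Module.Flat.of_linearEquiv (DFinsupp.linearEquivFunOnFintype (R := R) (M := B)).symm
  haveI : Module.FaithfullyFlat R (∀ p : t, B p) := by
    apply Module.FaithfullyFlat.of_comap_surjective
    intro q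
    obtain ⟨p, hp, hpq⟩ := hcover q
    obtain ⟨q'', hq''⟩ := hprimes p q hpq
    refine ⟨PrimeSpectrum.comap (Pi.evalRingHom B ⟨p, hp⟩) q'', ?_⟩
    rw [← hq'']
    rfl
  let θ : ∀ p : t, B p ⊗[R] A ≃ₐ[B p] Matrix (Fin n) (Fin n) (B p) :=
    fun p => (hiso p.1).some
  have hΘ := thetaPi_bijective R A B n θ
  exact ⟨∀ p : t, B p, inferInstance, inferInstance, inferInstance,
    ⟨AlgEquiv.ofBijective _ hΘ⟩⟩

end Groth.Agent.Helper8.AzuGlobSplit
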