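import Groth.Agent.Helper8.BCLib
import Mathlib.LinearAlgebra.TensorProduct.RightExactness

set_option autoImplicit false

universe u v
open Dieu TensorProduct

namespace Groth.Agent.Helper8.BCExact
open Groth.Agent.Helper8.BCLib

section Ker

variable {A B C : Type u} [CommRing A] [CommRing B] [CommRing C] (g : A →+* B) (h : B →+* C)
variable {P : Type v} [AddCommGroup P] [Module A P]

/-- the identity `Res g ⊗ P → BC g P`. -/
def ofT : (Res g ⊗[A] P) →+ BC g P where
  toFun t := t
  map_zero' := rfl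
  map_add' _ _ := rfl

theorem ofT_tmul (t : Res g) (x : P) : ofT g (t ⊗ₜ[A] x) = BC.tmul g t.val x := rfl

theorem ofT_surjective : Function.Surjective (ofT g : (Res g ⊗[A] P) → BC g P) := fun z => ⟨z, rfl⟩

theorem ofT_injective : Function.Injective (ofT g : (Res g ⊗[A] P) → BC g P) := fun _ _ h => h

theorem map_ofT {P' : Type v} [AddCommGroup P'] [Module A P'] (ψ : P →ₗ[A] P') (t : Res g ⊗[A] P) :
    BC.map g ψ (ofT g t) = ofT g ((LinearMap.lTensor (Res g) ψ) t) := by
  induction t using TensorProduct.induction_on with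
  | zero => rw [map_zero, map_zero, map_zero, map_zero]
  | tmul b x => rw [ofT_tmul, BC.map_tmul, LinearMap.lTensor_tmul, ofT_tmul]
  | add z₁ z₂ h₁ h₂ => rw [map_add, map_add, h₁, h₂, map_add, map_add]

/-- kernel of `BC.map` along a quotient map. -/
theorem mem_span_of_map_mkQ_eq_zero (Q : Submodule A P) (z : BC g P) (hz : BC.map g Q.mkQ z = 0) :
    z ∈ Submodule.span B {z : BC g P | ∃ b : B, ∃ q ∈ Q, z = BC.tmul g b q} := by
  obtain ⟨t, rfl⟩ := ofT_surjective g z
  rw [map_ofT, ← map_zero (ofT g)] at hz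
  have hz' := ofT_injective g hz
  have hex : Function.Exact (LinearMap.lTensor (Res g) Q.subtype) (LinearMap.lTensor (Res g) Q.mkQ) :=
    lTensor_exact (Res g) (LinearMap.exact_subtype_mkQ Q) (Submodule.mkQ_surjective Q)
  obtain ⟨t', rfl⟩ := (hex t).mp hz'
  clear hz hz'
  induction t' using TensorProduct.induction_on with
  | zero => rw [map_zero, map_zero]; exact zero_mem _
  | tmul b q =>
    rw [LinearMap.lTensor_tmul, ofT_tmul]
    exact Submodule.subset_span ⟨b.val, q.1, q.2, rfl⟩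
  | add t₁ t₂ h₁ h₂ => rw [map_add, map_add]; exact add_mem h₁ h₂

/-- the map `Res g → Res (h ∘ g)`, `b ↦ h b`. -/
def resMap : Res g →ₗ[A] Res (h.comp g) where
  toFun t := Res.mk (h.comp g) (h t.val)
  map_add' s t := by apply Res.ext; simp
  map_smul' a t := by apply Res.ext; simp

theorem push_ofT (t : Res g ⊗[A] P) :
    BC.push g h (ofT g t) = ofT (h.comp g) ((LinearMap.rTensor P (resMap g h)) t) := by
  induction t using TensorProduct.induction_on with
  | zero => rw [map_zero, map_zero, map_zero, map_zero]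
  | tmul b x => rw [ofT_tmul, BC.push_tmul, LinearMap.rTensor_tmul, ofT_tmul]; rfl
  | add z₁ z₂ h₁ h₂ => rw [map_add, map_add, h₁, h₂, map_add, map_add]

/-- kernel of `BC.push` along a surjective ring map. -/
theorem mem_span_of_push_eq_zero (hh : Function.Surjective h) (z : BC g P) (hz : BC.push g h z = 0) :
    z ∈ Submodule.span B {z : BC g P | ∃ b : B, ∃ x : P, h b = 0 ∧ z = BC.tmul g b x} := by
  obtain ⟨t, rfl⟩ := ofT_surjective g z
  rw [push_ofT, ← map_zero (ofT (h.comp g))] at hz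
  have hz' := ofT_injective (h.comp g) hz
  have hsurj : Function.Surjective (resMap g h) := by
    intro t
    obtain ⟨b, hb⟩ := hh t.val
    exact ⟨Res.mk g b, Res.ext (h.comp g) (by simpa [resMap] using hb)⟩
  have hex : Function.Exact (LinearMap.rTensor P (LinearMap.ker (resMap g h)).subtype)
      (LinearMap.rTensor P (resMap g h)) :=
    rTensor_exact P (LinearMap.exact_subtype_ker_map (resMap g h)) hsurj
  obtain ⟨t', rfl⟩ := (hex t).mp hz'
  clear hz hz'
  induction t' using TensorProduct.induction_on with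
  | zero => rw [map_zero, map_zero]; exact zero_mem _
  | tmul k x =>
    rw [LinearMap.rTensor_tmul, ofT_tmul]
    refine Submodule.subset_span ⟨k.1.val, x, ?_, rfl⟩
    have := k.2
    rw [LinearMap.mem_ker] at this
    exact this
  | add t₁ t₂ h₁ h₂ => rw [map_add, map_add]; exact add_mem h₁ h₂

end Ker


section JJ

variable {A B : Type u} [CommRing A] [CommRing B] (g : A →+* B)
variable {P : Type v} [AddCommGroup P] [Module A P]

/-- `x ↦ 1 ⊗ (1 ⊗ x)` as a `(g ∘ κA)`-semilinear map. -/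
noncomputable def jjAux (κA : A →+* A) (κB : B →+* B) (e : κB.comp g = g.comp κA) :
    P →ₛₗ[g.comp κA] BC κB (BC g P) where
  toFun x := BC.tmul κB 1 (BC.tmul g 1 x)
  map_add' x y := by rw [BC.tmul_add, BC.tmul_add]
  map_smul' a x := by
    rw [← BC.tmul_apply_eq g a x, BC.tmul_eq_smul_tmul_one g (g a) x,
      ← BC.tmul_apply_eq κB (g a) (BC.tmul g 1 x), BC.tmul_eq_smul_tmul_one κB (κB (g a)),
      ← RingHom.comp_apply, e]

/-- `w ⊗ x ↦ g w ⊗ (1 ⊗ x)`. -/
noncomputable def jj (κA : A →+* A) (κB : B →+* B) (e : κB.comp g = g.comp κA) :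
    BC κA P →ₛₗ[g] BC κB (BC g P) :=
  (BC.lift (g.comp κA) (jjAux g κA κB e)).comp (BC.push κA g)

theorem jj_tmul (κA : A →+* A) (κB : B →+* B) (e : κB.comp g = g.comp κA) (w : A) (x : P) :
    jj g κA κB e (BC.tmul κA w x) = BC.tmul κB (g w) (BC.tmul g 1 x) := by
  rw [jj, LinearMap.comp_apply, BC.push_tmul, BC.lift_tmul]
  change g w • BC.tmul κB 1 (BC.tmul g 1 x) = _
  rw [BC.smul_tmul, mul_one]

theorem jj_castHom (κA κA' : A →+* A) (κB κB' : B →+* B) (e : κB.comp g = g.comp κA)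
    (e' : κB'.comp g = g.comp κA') (hA : κA = κA') (hB : κB = κB') (z : BC κA P) :
    jj g κA' κB' e' (BC.castHom hA z) = BC.castHom hB (jj g κA κB e z) := by
  subst hA hB
  rfl

theorem jj_pushC (τA κA ρA : A →+* A) (eA : κA.comp τA = ρA) (τB κB ρB : B →+* B)
    (eB : κB.comp τB = ρB) (eτ : τB.comp g = g.comp τA) (eκ : κB.comp g = g.comp κA)
    (eρ : ρB.comp g = g.comp ρA) (y : BC τA P) :
    pushC τB κB ρB eB (jj g τA τB eτ y) = jj g ρA ρB eρ (pushC τA κA ρA eA y) := by
  induction y using BC.induction_on τA with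
  | zero => rw [map_zero, map_zero, map_zero, map_zero]
  | tmul a x =>
    rw [jj_tmul, pushC_tmul, pushC_tmul, jj_tmul, ← RingHom.comp_apply, eκ, RingHom.comp_apply]
  | add z₁ z₂ h₁ h₂ => rw [map_add, map_add, h₁, h₂, map_add, map_add]

theorem jj_contC (τA κA ρA : A →+* A) (eA : κA.comp τA = ρA) (τB κB ρB : B →+* B)
    (eB : κB.comp τB = ρB) (eτ : τB.comp g = g.comp τA) (eκ : κB.comp g = g.comp κA)
    (eρ : ρB.comp g = g.comp ρA) (UA : P →ₗ[A] BC τA P) (UB : BC g P →ₗ[B] BC τB (BC g P))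
    (hU : ∀ x, UB (BC.tmul g 1 x) = jj g τA τB eτ (UA x)) (z : BC κA P) :
    contC τB κB ρB eB UB (jj g κA κB eκ z) = jj g ρA ρB eρ (contC τA κA ρA eA UA z) := by
  induction z using BC.induction_on κA with
  | zero => rw [map_zero, map_zero, map_zero, map_zero]
  | tmul w x =>
    rw [jj_tmul, contC_tmul, contC_tmul, hU, LinearMap.map_smulₛₗ, jj_pushC g τA κA ρA eA τB κB ρB eB eτ eκ eρ]
  | add z₁ z₂ h₁ h₂ => rw [map_add, map_add, h₁, h₂, map_add, map_add]

theorem jj_mem (κA : A →+* A) (κB : B →+* B) (e : κB.comp g = g.comp κA) (𝔞 : Ideal A) (𝔟 : Ideal B)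
    (h𝔞 : ∀ a ∈ 𝔞, g a ∈ 𝔟) (z : BC κA P) (hz : z ∈ 𝔞 • (⊤ : Submodule A (BC κA P))) :
    jj g κA κB e z ∈ 𝔟 • (⊤ : Submodule B (BC κB (BC g P))) := by
  refine Submodule.smul_induction_on hz ?_ ?_
  · intro a ha y _
    rw [LinearMap.map_smulₛₗ]
    exact Submodule.smul_mem_smul (h𝔞 a ha) Submodule.mem_top
  · intro y z hy hz
    rw [map_add]; exact add_mem hy hz

end JJ

end Groth.Agent.Helper8.BCExact
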