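import Groth.Prelude.Def_Disp2

universe u v
open Dieu

namespace Groth.Agent.Helper8.BCLib

section General
variable {A : Type u} [CommRing A]
variable {P : Type v} [AddCommGroup P] [Module A P]

/-- push followed by a cast -/
noncomputable def pushC (g h k : A →+* A) (e : h.comp g = k) : BC g P →ₛₗ[h] BC k P :=
  (BC.castHom e).comp (BC.push g h)

@[simp] lemma pushC_tmul (g h k : A →+* A) (e : h.comp g = k) (b : A) (x : P) :
    pushC g h k e (BC.tmul g b x) = BC.tmul k (h b) x := by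
  simp [pushC]

lemma pushC_pushC (g h₁ k₁ : A →+* A) (e₁ : h₁.comp g = k₁) (h₂ k₂ : A →+* A)
    (e₂ : h₂.comp k₁ = k₂) (e₃ : (h₂.comp h₁).comp g = k₂) (u : BC g P) :
    pushC k₁ h₂ k₂ e₂ (pushC g h₁ k₁ e₁ u) = pushC g (h₂.comp h₁) k₂ e₃ u := by
  induction u using BC.induction_on g with
  | zero => simp
  | tmul b x => simp
  | add z₁ z₂ h₁ h₂ => simp [h₁, h₂]

/-- continuation: `w ⊗_κ x ↦ w • push (U x)` -/
noncomputable def contC (τ κ ρ : A →+* A) (e : κ.comp τ = ρ) (U : P →ₗ[A] BC τ P) :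
    BC κ P →ₗ[A] BC ρ P :=
  BC.lift κ ((pushC τ κ ρ e).comp U)

@[simp] lemma contC_tmul (τ κ ρ : A →+* A) (e : κ.comp τ = ρ) (U : P →ₗ[A] BC τ P) (w : A) (x : P) :
    contC τ κ ρ e U (BC.tmul κ w x) = w • pushC τ κ ρ e (U x) := by
  simp [contC]

lemma contC_eq (τ κ ρ : A →+* A) (e : κ.comp τ = ρ) (U : P →ₗ[A] BC τ P) :
    (BC.castHom e).comp ((BC.lift κ (BC.push τ κ)).comp (BC.map κ U)) = contC τ κ ρ e U := by
  apply BC.ext
  intro x
  simp [pushC]

lemma contC_castHom (τ κ κ' ρ : A →+* A) (h : κ = κ') (e : κ.comp τ = ρ) (e' : κ'.comp τ = ρ)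
    (U : P →ₗ[A] BC τ P) :
    (contC τ κ' ρ e' U).comp (BC.castHom h) = contC τ κ ρ e U := by
  subst h
  rfl

lemma contC_contC (τ κ ρ : A →+* A) (e : κ.comp τ = ρ) (σ κ' ρ' : A →+* A)
    (e₁ : σ.comp ρ = ρ') (e₂ : σ.comp κ = κ') (e₃ : κ'.comp τ = ρ')
    (U : P →ₗ[A] BC τ P) (U' : P →ₗ[A] BC κ P) :
    contC ρ σ ρ' e₁ ((contC τ κ ρ e U).comp U') =
      (contC τ κ' ρ' e₃ U).comp (contC κ σ κ' e₂ U') := by
  apply BC.ext
  intro x
  simp only [LinearMap.comp_apply, contC_tmul, one_smul]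
  generalize U' x = y
  induction y using BC.induction_on κ with
  | zero => simp
  | tmul c x =>
    subst e₂
    rw [contC_tmul, pushC_tmul, contC_tmul, map_smulₛₗ]
    congr 1
    exact pushC_pushC τ κ ρ e σ ρ' e₁ e₃ (U x)
  | add z₁ z₂ h₁ h₂ => simp only [map_add, h₁, h₂]

end General

end Groth.Agent.Helper8.BCLib
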