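import Mathlib
import Groth.Prelude.Def_EtGlue

set_option autoImplicit false
universe u
open TensorProduct

namespace Groth.Agent.Helper8.BL

variable {R R' : Type u} [CommRing R] [CommRing R'] [Algebra R R'] {f : R}

theorem exists_approx (hq : EtGlue.QuotPowBijective R R' f) (n : ℕ) (r' : R') :
    ∃ (r : R) (s' : R'), r' = algebraMap R R' r + algebraMap R R' f ^ n * s' := by
  rcases Nat.eq_zero_or_pos n with rfl | hn
  · exact ⟨0, r', by simp⟩
  · obtain ⟨x, hx⟩ := (hq n hn).2 (Ideal.Quotient.mk _ r')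
    obtain ⟨r, rfl⟩ := Ideal.Quotient.mk_surjective x
    rw [Ideal.quotientMap_mk, Ideal.Quotient.eq, Ideal.map_span, Set.image_singleton,
      Ideal.mem_span_singleton'] at hx
    obtain ⟨s', hs'⟩ := hx
    refine ⟨r, -s', ?_⟩
    rw [map_pow] at hs'
    linear_combination hs'

theorem exists_of_dvd (hq : EtGlue.QuotPowBijective R R' f) (n : ℕ) (r : R) (s' : R')
    (h : algebraMap R R' r = algebraMap R R' f ^ n * s') : ∃ s : R, r = f ^ n * s := by
  rcases Nat.eq_zero_or_pos n with rfl | hn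
  · exact ⟨r, by simp⟩
  · have h0 : Ideal.quotientMap (Ideal.map (algebraMap R R') (Ideal.span {f ^ n})) (algebraMap R R')
        Ideal.le_comap_map (Ideal.Quotient.mk _ r) = 0 := by
      rw [Ideal.quotientMap_mk, Ideal.Quotient.eq_zero_iff_mem, Ideal.map_span, Set.image_singleton,
        Ideal.mem_span_singleton']
      exact ⟨s', by rw [h, map_pow, mul_comm]⟩
    have h1 : Ideal.Quotient.mk (Ideal.span {f ^ n}) r = 0 := (hq n hn).1 (by rw [h0, map_zero])
    rw [Ideal.Quotient.eq_zero_iff_mem, Ideal.mem_span_singleton'] at h1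
    obtain ⟨s, hs⟩ := h1
    exact ⟨s, by rw [← hs, mul_comm]⟩

section torsion
variable (hq : EtGlue.QuotPowBijective R R' f) {T : Type u} [AddCommGroup T] [Module R T]

include hq in
theorem approx_smul_unique {t : T} {n₁ n₂ : ℕ} {r₁ r₂ : R} {r' : R'}
    (h₁ : f ^ n₁ • t = 0) (h₂ : f ^ n₂ • t = 0)
    (hr₁ : ∃ s', r' = algebraMap R R' r₁ + algebraMap R R' f ^ n₁ * s')
    (hr₂ : ∃ s', r' = algebraMap R R' r₂ + algebraMap R R' f ^ n₂ * s') : r₁ • t = r₂ • t := by
  obtain ⟨s₁, hs₁⟩ := hr₁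
  obtain ⟨s₂, hs₂⟩ := hr₂
  rcases le_total n₁ n₂ with hle | hle
  · obtain ⟨k, rfl⟩ := Nat.exists_eq_add_of_le hle
    obtain ⟨s, hs⟩ := exists_of_dvd hq n₁ (r₁ - r₂) (algebraMap R R' f ^ k * s₂ - s₁) (by
      rw [map_sub]; linear_combination hs₂ - hs₁)
    rw [← sub_eq_zero, ← sub_smul, hs, mul_comm, mul_smul, h₁, smul_zero]
  · obtain ⟨k, rfl⟩ := Nat.exists_eq_add_of_le hle
    obtain ⟨s, hs⟩ := exists_of_dvd hq n₂ (r₁ - r₂) (s₂ - algebraMap R R' f ^ k * s₁) (by
      rw [map_sub]; linear_combination hs₂ - hs₁)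
    rw [← sub_eq_zero, ← sub_smul, hs, mul_comm, mul_smul, h₂, smul_zero]

variable (hT : ∀ t : T, ∃ n : ℕ, f ^ n • t = 0)

/-- the action of `R'` on an `f`-power torsion module -/
noncomputable def approxSmul (r' : R') (t : T) : T :=
  (exists_approx hq (hT t).choose r').choose • t

theorem approxSmul_eq {r' : R'} {t : T} (n : ℕ) (r : R) (h : f ^ n • t = 0)
    (hr : ∃ s', r' = algebraMap R R' r + algebraMap R R' f ^ n * s') :
    approxSmul hq hT r' t = r • t :=
  approx_smul_unique hq (hT t).choose_spec h (exists_approx hq (hT t).choose r').choose_spec hr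

/-- the retraction `R' ⊗ T → T` for an `f`-power torsion module -/
noncomputable def ρ : R' ⊗[R] T →ₗ[R] T :=
  TensorProduct.lift (LinearMap.mk₂ R (approxSmul hq hT)
    (by
      intro r₁' r₂' t
      obtain ⟨n, hn⟩ := hT t
      obtain ⟨r₁, s₁, h₁⟩ := exists_approx hq n r₁'
      obtain ⟨r₂, s₂, h₂⟩ := exists_approx hq n r₂'
      rw [approxSmul_eq hq hT n r₁ hn ⟨s₁, h₁⟩, approxSmul_eq hq hT n r₂ hn ⟨s₂, h₂⟩,
        approxSmul_eq hq hT n (r₁ + r₂) hn ⟨s₁ + s₂, by rw [h₁, h₂, map_add]; ring⟩, add_smul])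
    (by
      intro a r' t
      obtain ⟨n, hn⟩ := hT t
      obtain ⟨r, s, h⟩ := exists_approx hq n r'
      rw [approxSmul_eq hq hT n r hn ⟨s, h⟩,
        approxSmul_eq hq hT n (a * r) hn ⟨algebraMap R R' a * s, by
          rw [Algebra.smul_def, h, map_mul]; ring⟩, mul_smul])
    (by
      intro r' t₁ t₂
      obtain ⟨n₁, hn₁⟩ := hT t₁
      obtain ⟨n₂, hn₂⟩ := hT t₂
      have k₁ : f ^ (n₁ + n₂) • t₁ = 0 := by rw [pow_add, mul_comm, mul_smul, hn₁, smul_zero]
      have k₂ : f ^ (n₁ + n₂) • t₂ = 0 := by rw [pow_add, mul_smul, hn₂, smul_zero]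
      obtain ⟨r, s, h⟩ := exists_approx hq (n₁ + n₂) r'
      rw [approxSmul_eq hq hT _ r k₁ ⟨s, h⟩, approxSmul_eq hq hT _ r k₂ ⟨s, h⟩,
        approxSmul_eq hq hT _ r (by rw [smul_add, k₁, k₂, add_zero]) ⟨s, h⟩, smul_add])
    (by
      intro a r' t
      obtain ⟨n, hn⟩ := hT t
      obtain ⟨r, s, h⟩ := exists_approx hq n r'
      rw [approxSmul_eq hq hT n r hn ⟨s, h⟩,
        approxSmul_eq hq hT n r (by rw [smul_comm, hn, smul_zero]) ⟨s, h⟩, smul_comm]))

theorem ρ_one_tmul (t : T) : ρ hq hT ((1 : R') ⊗ₜ[R] t) = t := by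
  obtain ⟨n, hn⟩ := hT t
  simp only [ρ, TensorProduct.lift.tmul, LinearMap.mk₂_apply]
  rw [approxSmul_eq hq hT n 1 hn ⟨0, by simp⟩, one_smul]

include hq hT in
theorem mk_one_injective : Function.Injective (TensorProduct.mk R R' T 1) := by
  intro t₁ t₂ h
  have := congrArg (ρ hq hT) h
  simpa [ρ_one_tmul] using this

include hq hT in
theorem mk_one_surjective : Function.Surjective (TensorProduct.mk R R' T 1) := by
  intro x
  induction x using TensorProduct.induction_on with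
  | zero => exact ⟨0, by simp⟩
  | add x y hx hy =>
    obtain ⟨a, rfl⟩ := hx
    obtain ⟨b, rfl⟩ := hy
    exact ⟨a + b, by simp [TensorProduct.tmul_add]⟩
  | tmul r' t =>
    obtain ⟨n, hn⟩ := hT t
    obtain ⟨r, s, h⟩ := exists_approx hq n r'
    refine ⟨r • t, ?_⟩
    have h1 : (algebraMap R R' f ^ n * s) ⊗ₜ[R] t = 0 := by
      rw [← map_pow, ← Algebra.smul_def, TensorProduct.smul_tmul, hn, TensorProduct.tmul_zero]
    rw [TensorProduct.mk_apply, h, TensorProduct.add_tmul, h1, add_zero,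
      Algebra.algebraMap_eq_smul_one, TensorProduct.smul_tmul]

end torsion

end Groth.Agent.Helper8.BL
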