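import Mathlib
import Groth.Prelude.Def_EtGlue
import Groth.Agent.Helper8.BL1

set_option autoImplicit false
universe u
open TensorProduct

namespace Groth.Agent.Helper8.BL

variable {R R' : Type u} [CommRing R] [CommRing R'] [Algebra R R'] {f : R}

section modN
variable (hq : EtGlue.QuotPowBijective R R' f) {M : Type u} [AddCommGroup M] [Module R M]

include hq in
/-- if `1 ⊗ m` is divisible by `f ^ n` in `R' ⊗ M` then `m` is divisible by `f ^ n` in `M` -/
theorem exists_smul_eq_of_tmul (n : ℕ) (m : M) (x' : R' ⊗[R] M)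
    (h : (1 : R') ⊗ₜ[R] m = f ^ n • x') : ∃ m₂ : M, m = f ^ n • m₂ := by
  let N : Submodule R M := LinearMap.range (LinearMap.lsmul R M (f ^ n))
  have hT : ∀ t : M ⧸ N, ∃ k : ℕ, f ^ k • t = 0 := by
    intro t
    obtain ⟨m, rfl⟩ := Submodule.Quotient.mk_surjective N t
    refine ⟨n, ?_⟩
    rw [← Submodule.Quotient.mk_smul, Submodule.Quotient.mk_eq_zero]
    exact ⟨m, rfl⟩
  have hkill : ∀ y : R' ⊗[R] (M ⧸ N), f ^ n • y = 0 := by
    intro y
    induction y using TensorProduct.induction_on with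
    | zero => simp
    | add a b ha hb => rw [smul_add, ha, hb, add_zero]
    | tmul r' t =>
      obtain ⟨m, rfl⟩ := Submodule.Quotient.mk_surjective N t
      have h0 : Submodule.Quotient.mk (p := N) (f ^ n • m) = 0 :=
        (Submodule.Quotient.mk_eq_zero N).mpr ⟨m, rfl⟩
      rw [TensorProduct.smul_tmul', TensorProduct.smul_tmul, ← Submodule.Quotient.mk_smul, h0,
        TensorProduct.tmul_zero]
  have h1 := congrArg (LinearMap.lTensor R' N.mkQ) h
  rw [LinearMap.lTensor_tmul, map_smul, hkill] at h1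
  have h2 : N.mkQ m = 0 := mk_one_injective hq hT (by simpa using h1)
  rw [Submodule.mkQ_apply, Submodule.Quotient.mk_eq_zero] at h2
  obtain ⟨m₂, hm₂⟩ := h2
  exact ⟨m₂, hm₂.symm⟩

include hq in
theorem exists_one_tmul_add (n : ℕ) (w : R' ⊗[R] M) :
    ∃ (k : M) (w₂ : R' ⊗[R] M), w = (1 : R') ⊗ₜ[R] k + f ^ n • w₂ := by
  induction w using TensorProduct.induction_on with
  | zero => exact ⟨0, 0, by simp⟩
  | add a b ha hb =>
    obtain ⟨k₁, w₁, rfl⟩ := ha
    obtain ⟨k₂, w₂, rfl⟩ := hb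
    exact ⟨k₁ + k₂, w₁ + w₂, by rw [TensorProduct.tmul_add, smul_add]; abel⟩
  | tmul r' m =>
    obtain ⟨r, s, h⟩ := exists_approx hq n r'
    refine ⟨r • m, s ⊗ₜ m, ?_⟩
    rw [h, TensorProduct.add_tmul, ← map_pow, ← Algebra.smul_def, ← TensorProduct.smul_tmul',
      Algebra.algebraMap_eq_smul_one, TensorProduct.smul_tmul]

end modN

section loc
variable {M : Type u} [AddCommGroup M] [Module R M]

theorem tensorOfLoc_mk (m : M) (s : Submonoid.powers f) :
    EtGlue.tensorOfLoc R R' f M (LocalizedModule.mk m s) = LocalizedModule.mk ((1 : R') ⊗ₜ[R] m) s := by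
  rw [EtGlue.tensorOfLoc, IsLocalizedModule.mk_eq_mk', IsLocalizedModule.map_mk',
    IsLocalizedModule.mk_eq_mk']
  rfl

theorem mkLinearMap_eq_zero_iff (m : M) :
    LocalizedModule.mkLinearMap (Submonoid.powers f) M m = 0 ↔ ∃ n : ℕ, f ^ n • m = 0 := by
  rw [IsLocalizedModule.eq_zero_iff (Submonoid.powers f)]
  constructor
  · rintro ⟨⟨_, n, rfl⟩, h⟩
    exact ⟨n, h⟩
  · rintro ⟨n, h⟩
    exact ⟨⟨f ^ n, n, rfl⟩, h⟩

end loc

/-- first part of S2005 -/
theorem glueable_iff (hq : EtGlue.QuotPowBijective R R' f) (M : Type u) [AddCommGroup M]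
    [Module R M] :
    EtGlue.IsGlueable R R' f M ↔
      ((∀ m : M, (∃ n : ℕ, f ^ n • m = 0) → (1 : R') ⊗ₜ[R] m = 0 → m = 0) ∧
       (∀ x : R' ⊗[R] M, (∃ n : ℕ, f ^ n • x = 0) →
          ∃ m : M, (∃ n : ℕ, f ^ n • m = 0) ∧ (1 : R') ⊗ₜ[R] m = x)) := by
  constructor
  · rintro ⟨hinj, hex⟩
    refine ⟨fun m hm h1 => ?_, fun x hx => ?_⟩
    · apply hinj
      show ((1 : R') ⊗ₜ[R] m, LocalizedModule.mkLinearMap (Submonoid.powers f) M m) =
        ((1 : R') ⊗ₜ[R] (0 : M), LocalizedModule.mkLinearMap (Submonoid.powers f) M 0)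
      rw [TensorProduct.tmul_zero, map_zero, h1, (mkLinearMap_eq_zero_iff m).mpr hm]
    · obtain ⟨m, h1, h2⟩ := hex x 0 (by
        rw [map_zero]
        exact (mkLinearMap_eq_zero_iff x).mpr hx)
      exact ⟨m, (mkLinearMap_eq_zero_iff m).mp h2, h1⟩
  · rintro ⟨hinj, hsurj⟩
    refine ⟨?_, fun x y hxy => ?_⟩
    · intro m₁ m₂ h
      rw [Prod.mk.injEq] at h
      obtain ⟨h1, h2⟩ := h
      rw [← sub_eq_zero]
      exact hinj (m₁ - m₂) ((mkLinearMap_eq_zero_iff _).mp (by rw [map_sub, h2, sub_self]))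
        (by rw [TensorProduct.tmul_sub, h1, sub_self])
    · induction y using LocalizedModule.induction_on with
      | h m₀ s =>
        rcases s with ⟨_, n, rfl⟩
        rw [tensorOfLoc_mk, EtGlue.locOfTensor, LocalizedModule.mkLinearMap_apply,
          LocalizedModule.mk_eq] at hxy
        obtain ⟨⟨_, k, rfl⟩, hu⟩ := hxy
        simp only [Submonoid.smul_def, one_smul] at hu
        have h3 : (1 : R') ⊗ₜ[R] (f ^ k • m₀) = f ^ (k + n) • x := by
          rw [pow_add, mul_smul, hu, TensorProduct.tmul_smul]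
        obtain ⟨m₂, hm₂⟩ := exists_smul_eq_of_tmul hq (k + n) (f ^ k • m₀) x h3
        obtain ⟨t, ht, htx⟩ := hsurj (x - (1 : R') ⊗ₜ[R] m₂) ⟨k + n, by
          rw [smul_sub, ← h3, ← TensorProduct.tmul_smul, ← hm₂, sub_self]⟩
        refine ⟨m₂ + t, by rw [TensorProduct.tmul_add, htx]; abel, ?_⟩
        rw [map_add, (mkLinearMap_eq_zero_iff t).mpr ht, add_zero,
          LocalizedModule.mkLinearMap_apply, LocalizedModule.mk_eq]
        refine ⟨⟨f ^ k, k, rfl⟩, ?_⟩
        simp only [Submonoid.smul_def, one_smul]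
        rw [← mul_smul, ← pow_add, ← hm₂]

section pair
variable (hRR : EtGlue.IsGlueingPair R R' f)

include hRR in
theorem ring_lift (n : ℕ) (x' : R') (k : R) (h : algebraMap R R' f ^ n * x' = algebraMap R R' k) :
    ∃ r : R, algebraMap R R' r = x' ∧ f ^ n * r = k := by
  obtain ⟨-, hinj, hmid, -⟩ := hRR
  let y : Localization.Away f :=
    IsLocalization.mk' (Localization.Away f) k (⟨f ^ n, n, rfl⟩ : Submonoid.powers f)
  obtain ⟨r, hr1, hr2⟩ := hmid x' y (by
    rw [Localization.awayMap, IsLocalization.Away.map, IsLocalization.map_mk',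
      IsLocalization.eq_mk'_iff_mul_eq, ← map_mul]
    congr 1
    simp only [map_pow]
    rw [mul_comm, h])
  refine ⟨r, hr1, ?_⟩
  apply hinj
  simp only [Prod.mk.injEq]
  refine ⟨by rw [map_mul, map_pow, hr1, h], ?_⟩
  rw [map_mul, hr2]
  exact IsLocalization.mk'_spec' (Localization.Away f) k (⟨f ^ n, n, rfl⟩ : Submonoid.powers f)

include hRR in
theorem free_lift (ι : Type u) (n : ℕ) (x : R' ⊗[R] (ι →₀ R)) (k : ι →₀ R)
    (h : f ^ n • x = (1 : R') ⊗ₜ[R] k) : ∃ r : ι →₀ R, (1 : R') ⊗ₜ[R] r = x ∧ f ^ n • r = k := by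
  classical
  let c := TensorProduct.finsuppScalarRight R R R' ι
  let v : ι →₀ R' := c x
  have hc1 : ∀ (p : ι →₀ R) a, c ((1 : R') ⊗ₜ[R] p) a = algebraMap R R' (p a) := by
    intro p a
    show (TensorProduct.finsuppScalarRight R R R' ι ((1 : R') ⊗ₜ[R] p)) a = _
    rw [TensorProduct.finsuppScalarRight_apply_tmul_apply, Algebra.smul_def, mul_one]
  have hv : ∀ a, algebraMap R R' f ^ n * v a = algebraMap R R' (k a) := by
    intro a
    have := congrArg (fun w => c w a) h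
    simp only [map_smul, Finsupp.smul_apply] at this
    rw [Algebra.smul_def, map_pow, hc1] at this
    exact this
  have hex : ∀ a, ∃ r : R, algebraMap R R' r = v a ∧ f ^ n * r = k a := fun a =>
    ring_lift hRR n (v a) (k a) (hv a)
  let r : ι →₀ R := Finsupp.onFinset (v.support ∪ k.support)
    (fun a => if a ∈ v.support ∪ k.support then (hex a).choose else 0) (by
      intro a ha
      by_contra hna
      exact ha (if_neg hna))
  have hr : ∀ a, algebraMap R R' (r a) = v a ∧ f ^ n * r a = k a := by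
    intro a
    by_cases ha : a ∈ v.support ∪ k.support
    · simp only [r, Finsupp.onFinset_apply, if_pos ha]
      exact (hex a).choose_spec
    · simp only [r, Finsupp.onFinset_apply, if_neg ha]
      simp only [Finset.mem_union, Finsupp.mem_support_iff, not_or, not_not] at ha
      rw [ha.1, ha.2]
      simp
  refine ⟨r, ?_, ?_⟩
  · apply c.injective
    ext a
    rw [hc1]
    exact (hr a).1
  · ext a
    rw [Finsupp.smul_apply, smul_eq_mul]
    exact (hr a).2

theorem tors_surj_aux (hq : EtGlue.QuotPowBijective R R' f) {F M : Type u} [AddCommGroup F]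
    [Module R F] [AddCommGroup M] [Module R M]
    (π : F →ₗ[R] M) (hπ : Function.Surjective π)
    (hF : ∀ (n : ℕ) (x : R' ⊗[R] F) (k : F), f ^ n • x = (1 : R') ⊗ₜ[R] k →
      ∃ r : F, (1 : R') ⊗ₜ[R] r = x ∧ f ^ n • r = k)
    (x : R' ⊗[R] M) (n : ℕ)
    (hx : f ^ n • x = 0) : ∃ m : M, f ^ n • m = 0 ∧ (1 : R') ⊗ₜ[R] m = x := by
  have hfg : Function.Exact (LinearMap.ker π).subtype π := LinearMap.exact_subtype_ker_map π
  have hex : Function.Exact (LinearMap.lTensor R' (LinearMap.ker π).subtype)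
      (LinearMap.lTensor R' π) := lTensor_exact R' hfg hπ
  obtain ⟨x₁, hx₁⟩ := LinearMap.lTensor_surjective R' hπ x
  have h1 : LinearMap.lTensor R' π (f ^ n • x₁) = 0 := by rw [map_smul, hx₁, hx]
  obtain ⟨w, hw⟩ := (hex _).mp h1
  obtain ⟨k, w₂, rfl⟩ := exists_one_tmul_add hq n w
  have h2 : f ^ n • (x₁ - LinearMap.lTensor R' (LinearMap.ker π).subtype w₂) =
      (1 : R') ⊗ₜ[R] (k : F) := by
    rw [smul_sub, ← hw, map_add, map_smul, LinearMap.lTensor_tmul, Submodule.subtype_apply]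
    abel
  obtain ⟨r, hr1, hr2⟩ := hF n _ (k : F) h2
  refine ⟨π r, ?_, ?_⟩
  · rw [← map_smul, hr2]
    exact k.2
  · have h3 : LinearMap.lTensor R' π (LinearMap.lTensor R' (LinearMap.ker π).subtype w₂) = 0 := by
      rw [← LinearMap.comp_apply, ← LinearMap.lTensor_comp]
      have : π ∘ₗ (LinearMap.ker π).subtype = 0 := by
        ext ⟨z, hz⟩
        exact hz
      rw [this, LinearMap.lTensor_zero, LinearMap.zero_apply]
    have := congrArg (LinearMap.lTensor R' π) hr1
    rw [LinearMap.lTensor_tmul, map_sub, hx₁, h3, sub_zero] at this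
    exact this

include hRR in
/-- for a glueing pair, the `f`-power torsion of `M` surjects onto that of `R' ⊗ M` -/
theorem tors_surj (M : Type u) [AddCommGroup M] [Module R M] (x : R' ⊗[R] M) (n : ℕ)
    (hx : f ^ n • x = 0) : ∃ m : M, f ^ n • m = 0 ∧ (1 : R') ⊗ₜ[R] m = x :=
  tors_surj_aux hRR.1 (Finsupp.linearCombination R (id : M → M))
    (Finsupp.linearCombination_id_surjective R M) (fun n x k h => free_lift hRR M n x k h) x n hx

/-- S2005 -/
theorem s2005 (R R' : Type u) [CommRing R] [CommRing R'] [Algebra R R'] (f : R)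
    (hq : EtGlue.QuotPowBijective R R' f) (M : Type u) [AddCommGroup M] [Module R M] :
    (EtGlue.IsGlueable R R' f M ↔
      ((∀ m : M, (∃ n : ℕ, f ^ n • m = 0) → (1 : R') ⊗ₜ[R] m = 0 → m = 0) ∧
       (∀ x : R' ⊗[R] M, (∃ n : ℕ, f ^ n • x = 0) → ∃ m : M, (∃ n : ℕ, f ^ n • m = 0) ∧ (1 : R') ⊗ₜ[R] m = x))) ∧
    (EtGlue.IsGlueingPair R R' f →
      (EtGlue.IsGlueable R R' f M ↔ ∀ m : M, (∃ n : ℕ, f ^ n • m = 0) → (1 : R') ⊗ₜ[R] m = 0 → m = 0)) := by
  refine ⟨glueable_iff hq M, fun hRR => ?_⟩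
  rw [glueable_iff hq M]
  refine ⟨fun h => h.1, fun h => ⟨h, fun x ⟨n, hx⟩ => ?_⟩⟩
  obtain ⟨m, hm1, hm2⟩ := tors_surj hRR M x n hx
  exact ⟨m, ⟨n, hm1⟩, hm2⟩

end pair

end Groth.Agent.Helper8.BL
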