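import Mathlib
import Groth.Prelude.Def_EtGlue
import Groth.Agent.Helper8.BL2

set_option autoImplicit false
universe u
open TensorProduct

namespace Groth.Agent.Helper8.BL

variable {R R' : Type u} [CommRing R] [CommRing R'] [Algebra R R'] {f : R}

theorem exists_finset_tmul_span (M : Type u) [AddCommGroup M] [Module R M] (z : R' ⊗[R] M) :
    ∃ sz : Finset M, z ∈ Submodule.span R' ((fun m : M => (1 : R') ⊗ₜ[R] m) '' (sz : Set M)) := by
  classical
  induction z using TensorProduct.induction_on with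
  | zero => exact ⟨∅, Submodule.zero_mem _⟩
  | tmul r' m =>
    refine ⟨{m}, ?_⟩
    have : r' ⊗ₜ[R] m = r' • ((1 : R') ⊗ₜ[R] m) := by
      rw [TensorProduct.smul_tmul', smul_eq_mul, mul_one]
    rw [this]
    exact Submodule.smul_mem _ _ (Submodule.subset_span ⟨m, by simp, rfl⟩)
  | add a b ha hb =>
    obtain ⟨s₁, h₁⟩ := ha
    obtain ⟨s₂, h₂⟩ := hb
    refine ⟨s₁ ∪ s₂, Submodule.add_mem _ ?_ ?_⟩
    · refine Submodule.span_mono (Set.image_mono ?_) h₁
      simp
    · refine Submodule.span_mono (Set.image_mono ?_) h₂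
      simp

theorem finite_of_finite (hq : EtGlue.QuotPowBijective R R' f) (M : Type u) [AddCommGroup M]
    [Module R M] (h1 : Module.Finite R' (R' ⊗[R] M))
    (h2 : Module.Finite (Localization.Away f) (LocalizedModule (Submonoid.powers f) M)) :
    Module.Finite R M := by
  classical
  obtain ⟨s₁, hs₁⟩ := h2.1
  let g := LocalizedModule.mkLinearMap (Submonoid.powers f) M
  let sA : Finset M := IsLocalizedModule.finsetIntegerMultiple (Submonoid.powers f) g s₁
  have hA : ∀ x : M, ∃ n : ℕ, f ^ n • x ∈ Submodule.span R (sA : Set M) := by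
    intro x
    obtain ⟨⟨_, n₁, rfl⟩, hn₁⟩ := multiple_mem_span_of_mem_localization_span (Submonoid.powers f)
      (Localization.Away f) (s₁ : Set (LocalizedModule (Submonoid.powers f) M))
      (IsLocalizedModule.mk' g x (1 : Submonoid.powers f)) (by rw [hs₁]; trivial)
    rw [Submonoid.smul_def, ← IsLocalizedModule.mk'_smul, IsLocalizedModule.mk'_one] at hn₁
    obtain ⟨⟨_, n₂, rfl⟩, hn₂⟩ := IsLocalizedModule.smul_mem_finsetIntegerMultiple_span
      (Submonoid.powers f) g _ s₁ hn₁
    rw [Submonoid.smul_def] at hn₂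
    exact ⟨n₂ + n₁, by rw [pow_add, mul_smul]; exact hn₂⟩
  obtain ⟨t, ht⟩ := h1.1
  choose sz hsz using exists_finset_tmul_span (R := R) (R' := R') M
  let sB : Finset M := t.biUnion sz
  have hB : Submodule.span R' ((fun m : M => (1 : R') ⊗ₜ[R] m) '' (sB : Set M)) = ⊤ := by
    rw [eq_top_iff, ← ht]
    apply Submodule.span_le.mpr
    intro z hz
    refine Submodule.span_mono (Set.image_mono ?_) (hsz z)
    intro m hm
    exact Finset.mem_biUnion.mpr ⟨z, hz, hm⟩
  let N : Submodule R M := Submodule.span R ((sA ∪ sB : Finset M) : Set M)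
  have hT : ∀ q : M ⧸ N, ∃ n : ℕ, f ^ n • q = 0 := by
    intro q
    obtain ⟨m, rfl⟩ := Submodule.Quotient.mk_surjective N q
    obtain ⟨n, hn⟩ := hA m
    refine ⟨n, ?_⟩
    rw [← Submodule.Quotient.mk_smul, Submodule.Quotient.mk_eq_zero]
    refine Submodule.span_mono ?_ hn
    simp
  have hzero : ∀ y : R' ⊗[R] (M ⧸ N), y = 0 := by
    intro y
    obtain ⟨z, rfl⟩ := LinearMap.lTensor_surjective R' N.mkQ_surjective y
    have hz : z ∈ Submodule.span R' ((fun m : M => (1 : R') ⊗ₜ[R] m) '' (sB : Set M)) := by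
      rw [hB]; trivial
    have hle : Submodule.span R' ((fun m : M => (1 : R') ⊗ₜ[R] m) '' (sB : Set M)) ≤
        LinearMap.ker (N.mkQ.baseChange R') := by
      apply Submodule.span_le.mpr
      rintro _ ⟨m, hm, rfl⟩
      rw [SetLike.mem_coe, LinearMap.mem_ker, LinearMap.baseChange_tmul, Submodule.mkQ_apply,
        (Submodule.Quotient.mk_eq_zero N).mpr, TensorProduct.tmul_zero]
      apply Submodule.subset_span
      simp [hm]
    exact hle hz
  have hQ : ∀ q : M ⧸ N, q = 0 := fun q =>
    mk_one_injective hq hT (by rw [hzero (TensorProduct.mk R R' (M ⧸ N) 1 q), hzero (TensorProduct.mk R R' (M ⧸ N) 1 0)])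
  have hN : N = ⊤ := by
    rw [eq_top_iff]
    intro m _
    exact (Submodule.Quotient.mk_eq_zero N).mp (hQ (Submodule.Quotient.mk m))
  exact ⟨⟨sA ∪ sB, hN⟩⟩

theorem s2006 (R R' : Type u) [CommRing R] [CommRing R'] [Algebra R R'] (f : R)
    (hq : EtGlue.QuotPowBijective R R' f) (M : Type u) [AddCommGroup M] [Module R M] :
    Module.Finite R M ↔ Module.Finite R' (R' ⊗[R] M) ∧
      Module.Finite (Localization.Away f) (LocalizedModule (Submonoid.powers f) M) := by
  constructor
  · intro h
    exact ⟨inferInstance, Module.Finite.of_isLocalizedModule (Submonoid.powers f)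
      (LocalizedModule.mkLinearMap (Submonoid.powers f) M)⟩
  · rintro ⟨h1, h2⟩
    exact finite_of_finite hq M h1 h2

end Groth.Agent.Helper8.BL
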