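import Mathlib
import Groth.Prelude.Def_EtGlue
import Groth.Agent.Helper8.BL2

set_option autoImplicit false
universe u
open TensorProduct

namespace Groth.Agent.Helper8.BL

variable {R R' : Type u} [CommRing R] [CommRing R'] [Algebra R R'] {f : R}

section glue
variable {M' : Type u} [AddCommGroup M'] [Module R' M'] [Module R M'] [IsScalarTower R R' M']
  {M₁ : Type u} [AddCommGroup M₁] [Module R M₁]
  (α : LocalizedModule (Submonoid.powers (algebraMap R R' f)) M' ≃ₗ[R'] R' ⊗[R] M₁)

/-- the glued module -/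
def glued : Submodule R (M' × M₁) where
  carrier := {p | α (LocalizedModule.mkLinearMap _ M' p.1) = (1 : R') ⊗ₜ[R] p.2}
  add_mem' := by
    intro p q hp hq
    simp only [Set.mem_ofPred_eq, Prod.fst_add, Prod.snd_add, map_add, TensorProduct.tmul_add] at *
    rw [hp, hq]
  zero_mem' := by simp
  smul_mem' := by
    intro r p hp
    simp only [Set.mem_ofPred_eq, Prod.smul_fst, Prod.smul_snd] at *
    rw [← algebraMap_smul R' r p.1, map_smul, map_smul, hp, TensorProduct.smul_tmul',
      ← TensorProduct.smul_tmul, smul_eq_mul, mul_one, Algebra.algebraMap_eq_smul_one]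

theorem mem_glued (p : M' × M₁) :
    p ∈ glued α ↔ α (LocalizedModule.mkLinearMap _ M' p.1) = (1 : R') ⊗ₜ[R] p.2 := Iff.rfl

/-- first projection -/
def pr₁ : glued α →ₗ[R] M' := LinearMap.fst R M' M₁ ∘ₗ (glued α).subtype

/-- second projection -/
def pr₂ : glued α →ₗ[R] M₁ := LinearMap.snd R M' M₁ ∘ₗ (glued α).subtype

theorem α_pr₁ (p : glued α) :
    α (LocalizedModule.mkLinearMap _ M' (pr₁ α p)) = (1 : R') ⊗ₜ[R] (pr₂ α p) := p.2

theorem pr₂_surj (y : M₁) : ∃ (p : glued α) (n : ℕ), pr₂ α p = f ^ n • y := by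
  obtain ⟨z, hz⟩ : ∃ z, α z = (1 : R') ⊗ₜ[R] y := ⟨α.symm _, α.apply_symm_apply _⟩
  induction z using LocalizedModule.induction_on with
  | h x s =>
    rcases s with ⟨_, n, rfl⟩
    refine ⟨⟨(x, f ^ n • y), ?_⟩, n, rfl⟩
    rw [mem_glued]
    simp only
    have h1 : LocalizedModule.mkLinearMap (Submonoid.powers (algebraMap R R' f)) M' x =
        (algebraMap R R' f ^ n) • LocalizedModule.mk x
          (⟨algebraMap R R' f ^ n, n, rfl⟩ : Submonoid.powers (algebraMap R R' f)) := by
      rw [LocalizedModule.mkLinearMap_apply, LocalizedModule.smul'_mk]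
      exact (LocalizedModule.mk_cancel
        (⟨algebraMap R R' f ^ n, n, rfl⟩ : Submonoid.powers (algebraMap R R' f)) x).symm
    rw [h1, map_smul, hz, TensorProduct.smul_tmul', smul_eq_mul, mul_one, ← map_pow,
      Algebra.algebraMap_eq_smul_one, TensorProduct.smul_tmul]

variable (hf : Function.Bijective fun x : M₁ => f • x)

include hf in
theorem pow_smul_injective (n : ℕ) : Function.Injective fun x : M₁ => f ^ n • x := by
  induction n with
  | zero => intro a b h; simpa using h
  | succ n ih =>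
    intro a b h
    simp only [pow_succ, mul_smul] at h
    exact hf.1 (ih h)

include hf in
theorem isLocalizedModule_pr₂ : IsLocalizedModule (Submonoid.powers f) (pr₂ α) where
  map_units := by
    rintro ⟨_, n, rfl⟩
    rw [Module.End.isUnit_iff]
    have : Function.Bijective fun x : M₁ => f ^ n • x := by
      induction n with
      | zero =>
        have : (fun x : M₁ => f ^ 0 • x) = id := by ext x; simp
        rw [this]
        exact Function.bijective_id
      | succ n ih =>
        have : (fun x : M₁ => f ^ (n + 1) • x) = (fun x => f ^ n • x) ∘ (fun x => f • x) := by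
          ext x
          simp [pow_succ, mul_smul]
        rw [this]
        exact ih.comp hf
    exact this
  surj := by
    intro y
    obtain ⟨p, n, hp⟩ := pr₂_surj α y
    exact ⟨⟨p, ⟨f ^ n, n, rfl⟩⟩, hp.symm⟩
  exists_of_eq := by
    intro p q hpq
    have hd : pr₂ α (p - q) = 0 := by rw [map_sub, hpq, sub_self]
    have h1 := α_pr₁ α (p - q)
    rw [hd, TensorProduct.tmul_zero] at h1
    have h2 : LocalizedModule.mkLinearMap (Submonoid.powers (algebraMap R R' f)) M'
        (pr₁ α (p - q)) = 0 := by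
      apply α.injective
      rw [h1, map_zero]
    obtain ⟨n, hn⟩ := (mkLinearMap_eq_zero_iff (f := algebraMap R R' f) _).mp h2
    refine ⟨⟨f ^ n, Submonoid.pow_mem _ (Submonoid.mem_powers f) n⟩, ?_⟩
    rw [Submonoid.smul_def, Submonoid.smul_def, ← sub_eq_zero, ← smul_sub]
    apply Subtype.ext
    apply Prod.ext
    · show f ^ n • pr₁ α (p - q) = 0
      rw [← algebraMap_smul R' (f ^ n), map_pow, hn]
    · show f ^ n • pr₂ α (p - q) = 0
      rw [hd, smul_zero]

/-- the comparison map `R' ⊗ glued → M'` -/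
noncomputable def e' : R' ⊗[R] glued α →ₗ[R'] M' := (pr₁ α).liftBaseChange R'

theorem e'_tmul (r' : R') (p : glued α) : e' α (r' ⊗ₜ p) = r' • pr₁ α p := rfl

theorem lTensor_pr₂_eq (ξ : R' ⊗[R] glued α) :
    LinearMap.lTensor R' (pr₂ α) ξ =
      α (LocalizedModule.mkLinearMap (Submonoid.powers (algebraMap R R' f)) M' (e' α ξ)) := by
  induction ξ using TensorProduct.induction_on with
  | zero => simp
  | add a b ha hb => rw [map_add, ha, hb, map_add, map_add, map_add]
  | tmul r' p =>
    rw [LinearMap.lTensor_tmul, e'_tmul, map_smul, map_smul, α_pr₁, TensorProduct.smul_tmul',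
      smul_eq_mul, mul_one]

theorem exists_decomp (hq : EtGlue.QuotPowBijective R R' f) (w : R' ⊗[R] M₁) :
    ∃ (ξ : R' ⊗[R] glued α) (y : M₁), w = (1 : R') ⊗ₜ[R] y +
      α (LocalizedModule.mkLinearMap (Submonoid.powers (algebraMap R R' f)) M' (e' α ξ)) := by
  induction w using TensorProduct.induction_on with
  | zero => exact ⟨0, 0, by simp⟩
  | add a b ha hb =>
    obtain ⟨ξ₁, y₁, rfl⟩ := ha
    obtain ⟨ξ₂, y₂, rfl⟩ := hb
    refine ⟨ξ₁ + ξ₂, y₁ + y₂, ?_⟩
    rw [TensorProduct.tmul_add, map_add, map_add, map_add]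
    abel
  | tmul r' y₀ =>
    obtain ⟨p, n, hp⟩ := pr₂_surj α y₀
    obtain ⟨r, s, h⟩ := exists_approx hq n r'
    refine ⟨s ⊗ₜ p, r • y₀, ?_⟩
    rw [e'_tmul, map_smul, map_smul, α_pr₁, hp, TensorProduct.smul_tmul', smul_eq_mul, mul_one,
      h, TensorProduct.add_tmul, ← map_pow, ← Algebra.smul_def, TensorProduct.smul_tmul,
      Algebra.algebraMap_eq_smul_one, TensorProduct.smul_tmul]

theorem e'_surjective (hq : EtGlue.QuotPowBijective R R' f) : Function.Surjective (e' α) := by
  intro x
  obtain ⟨ξ, y, h⟩ := exists_decomp α hq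
    (α (LocalizedModule.mkLinearMap (Submonoid.powers (algebraMap R R' f)) M' x))
  have hmem : (x - e' α ξ, y) ∈ glued α := by
    rw [mem_glued]
    simp only
    rw [map_sub, map_sub, h]
    abel
  refine ⟨ξ + (1 : R') ⊗ₜ[R] (⟨(x - e' α ξ, y), hmem⟩ : glued α), ?_⟩
  rw [map_add, e'_tmul, one_smul]
  show e' α ξ + (x - e' α ξ) = x
  abel

include hf in
theorem eq_zero_of_tors (t : glued α) (n : ℕ) (ht : f ^ n • t = 0) (h1 : pr₁ α t = 0) : t = 0 := by
  have h2 : pr₂ α t = 0 := by
    apply pow_smul_injective hf n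
    simp only [smul_zero]
    rw [← map_smul, ht, map_zero]
  apply Subtype.ext
  exact Prod.ext h1 h2

include hf in
theorem e'_injective (hRR : EtGlue.IsGlueingPair R R' f) : Function.Injective (e' α) := by
  rw [injective_iff_map_eq_zero]
  intro ξ hξ
  have := isLocalizedModule_pr₂ α hf
  have h0 : LinearMap.lTensor R' (pr₂ α) ξ = 0 := by
    rw [lTensor_pr₂_eq, hξ, map_zero, map_zero]
  have h1 : TensorProduct.AlgebraTensorModule.rTensor R R' (pr₂ α)
      (TensorProduct.comm R R' (glued α) ξ) = 0 := by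
    have : ∀ ζ : R' ⊗[R] glued α, TensorProduct.AlgebraTensorModule.rTensor R R' (pr₂ α)
        (TensorProduct.comm R R' (glued α) ζ) =
          TensorProduct.comm R R' M₁ (LinearMap.lTensor R' (pr₂ α) ζ) := by
      intro ζ
      induction ζ using TensorProduct.induction_on with
      | zero => simp
      | add a b ha hb => simp only [map_add, ha, hb]
      | tmul r' p => simp
    rw [this, h0, map_zero]
  obtain ⟨⟨_, n, rfl⟩, hc⟩ := (IsLocalizedModule.eq_zero_iff (Submonoid.powers f)
    (TensorProduct.AlgebraTensorModule.rTensor R R' (pr₂ α))).mp h1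
  have h2 : f ^ n • ξ = 0 := by
    apply (TensorProduct.comm R R' (glued α)).injective
    rw [map_smul, map_zero]
    exact hc
  obtain ⟨t, ht1, ht2⟩ := tors_surj hRR (glued α) ξ n h2
  have h3 : pr₁ α t = 0 := by
    have := e'_tmul α 1 t
    rw [ht2, hξ, one_smul] at this
    exact this.symm
  rw [← ht2, eq_zero_of_tors α hf t n ht1 h3, TensorProduct.tmul_zero]

include hf in
theorem glued_glueable (hRR : EtGlue.IsGlueingPair R R' f) :
    EtGlue.IsGlueable R R' f (glued α) := by
  rw [(s2005 R R' f hRR.1 (glued α)).2 hRR]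
  rintro t ⟨n, ht⟩ h1
  refine eq_zero_of_tors α hf t n ht ?_
  have := e'_tmul α 1 t
  rw [h1, map_zero, one_smul] at this
  exact this.symm

end glue

theorem s2000 (R R' : Type u) [CommRing R] [CommRing R'] [Algebra R R'] (f : R)
    (hRR : EtGlue.IsGlueingPair R R' f) (M' : Type u) [AddCommGroup M'] [Module R' M'] (M₁ : Type u) [AddCommGroup M₁]
    [Module R M₁] (hf : Function.Bijective fun x : M₁ => f • x)
    (α : LocalizedModule (Submonoid.powers (algebraMap R R' f)) M' ≃ₗ[R'] R' ⊗[R] M₁) :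
    ∃ (M : Type u) (_ : AddCommGroup M) (_ : Module R M) (_ : EtGlue.IsGlueable R R' f M)
      (e' : R' ⊗[R] M ≃ₗ[R'] M') (e₁ : LocalizedModule (Submonoid.powers f) M ≃ₗ[R] M₁),
      ∀ m : M, α (LocalizedModule.mkLinearMap (Submonoid.powers (algebraMap R R' f)) M' (e' ((1 : R') ⊗ₜ[R] m))) =
        (1 : R') ⊗ₜ[R] e₁ (LocalizedModule.mkLinearMap (Submonoid.powers f) M m) := by
  let _ : Module R M' := Module.compHom M' (algebraMap R R')
  have : IsScalarTower R R' M' := IsScalarTower.of_algebraMap_smul fun r x => rfl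
  have := isLocalizedModule_pr₂ α hf
  refine ⟨glued α, inferInstance, inferInstance, glued_glueable α hf hRR,
    LinearEquiv.ofBijective (e' α) ⟨e'_injective α hf hRR, e'_surjective α hRR.1⟩,
    IsLocalizedModule.iso (Submonoid.powers f) (pr₂ α), fun m => ?_⟩
  have h2 : IsLocalizedModule.iso (Submonoid.powers f) (pr₂ α)
      (LocalizedModule.mkLinearMap (Submonoid.powers f) (glued α) m) = pr₂ α m := by
    rw [LocalizedModule.mkLinearMap_apply, IsLocalizedModule.iso_mk_one]
  have h3 : e' α ((1 : R') ⊗ₜ[R] m) = pr₁ α m := by rw [e'_tmul, one_smul]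
  rw [h2]
  show α (LocalizedModule.mkLinearMap _ M' (e' α ((1 : R') ⊗ₜ[R] m))) = _
  rw [h3]
  exact α_pr₁ α m

end Groth.Agent.Helper8.BL
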