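import Mathlib
import Groth.Agent.Helper8.BL3

set_option autoImplicit false
universe u
open TensorProduct Function

namespace Groth.Agent.Helper8.BL

section general
variable {R : Type u} [CommRing R]
variable {K F X : Type u} [AddCommGroup K] [AddCommGroup F] [AddCommGroup X]
  [Module R K] [Module R F] [Module R X]
variable {N₁ N₂ Q : Type u} [AddCommGroup N₁] [AddCommGroup N₂] [AddCommGroup Q]
  [Module R N₁] [Module R N₂] [Module R Q]

/-- snake lemma: `Tor₁(Q, X) = 0` (computed through a flat presentation of `X`) implies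
`N₁ ⊗ X → N₂ ⊗ X` injective. -/
theorem rTensor_injective_of_tor (i : N₁ →ₗ[R] N₂) (p : N₂ →ₗ[R] Q) (hip : Exact i p)
    (hp : Surjective p) (hi : Injective i)
    (ι : K →ₗ[R] F) (π : F →ₗ[R] X) (hιπ : Exact ι π) (hπ : Surjective π) [Module.Flat R F]
    (hQ : Injective (ι.lTensor Q)) : Injective (i.rTensor X) := by
  have := SnakeLemma.exact_δ'_left (ι.lTensor N₁) (ι.lTensor N₂) (ι.lTensor Q)
    (i.rTensor K) (p.rTensor K) (rTensor_exact K hip hp) (i.rTensor F) (p.rTensor F)
    (rTensor_exact F hip hp) (by ext; simp) (by ext; simp) (K₃ := Unit) 0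
    (by simpa using hQ)
    (π.lTensor N₁) (lTensor_exact _ hιπ hπ) (π.lTensor N₂)
    (lTensor_exact _ hιπ hπ) (LinearMap.rTensor_surjective K hp)
    (Module.Flat.rTensor_preserves_injective_linearMap _ hi) (i.rTensor X)
    (by ext; simp) (LinearMap.lTensor_surjective _ hπ)
  rw [Subsingleton.elim (SnakeLemma.δ' ..) 0] at this
  simpa using this

theorem lTensor_rTensor_comm (p : N₂ →ₗ[R] Q) (ι : K →ₗ[R] F) (x : N₂ ⊗[R] K) :
    (ι.lTensor Q) ((p.rTensor K) x) = (p.rTensor F) ((ι.lTensor N₂) x) := by
  induction x using TensorProduct.induction_on with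
  | zero => simp
  | tmul a b => simp
  | add a b ha hb => simp [ha, hb]

/-- extension closure -/
theorem lTensor_injective_of_ext (i : N₁ →ₗ[R] N₂) (p : N₂ →ₗ[R] Q) (hip : Exact i p)
    (hp : Surjective p) (hi : Injective i)
    (ι : K →ₗ[R] F) [Module.Flat R F]
    (h1 : Injective (ι.lTensor N₁)) (hQ : Injective (ι.lTensor Q)) :
    Injective (ι.lTensor N₂) := by
  rw [injective_iff_map_eq_zero]
  intro x hx
  have h2 : (p.rTensor K) x = 0 := by
    apply hQ
    rw [map_zero, lTensor_rTensor_comm, hx, map_zero]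
  obtain ⟨y, rfl⟩ := (rTensor_exact K hip hp x).1 h2
  rw [lTensor_rTensor_comm] at hx
  have h3 : (ι.lTensor N₁) y = 0 :=
    Module.Flat.rTensor_preserves_injective_linearMap (M := F) i hi (by rw [hx, map_zero])
  rw [h1 (h3.trans (map_zero _).symm), map_zero]

/-- kernel of a surjection of flat modules is flat -/
theorem flat_of_exact (ι : K →ₗ[R] F) (π : F →ₗ[R] X) (hιπ : Exact ι π) (hπ : Surjective π)
    (hι : Injective ι) [Module.Flat R F] [Module.Flat R X] : Module.Flat R K := by
  rw [Module.Flat.iff_rTensor_preserves_injective_linearMap]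
  intro N₁ N₂ _ _ _ _ i hi
  have h1 : Injective (ι.lTensor N₁) :=
    LinearMap.lTensor_injective_of_exact_of_flat π hπ ι hι hιπ N₁
  have h2 : Injective (i.rTensor F) := Module.Flat.rTensor_preserves_injective_linearMap i hi
  intro x y hxy
  apply h1
  apply h2
  rw [← lTensor_rTensor_comm, ← lTensor_rTensor_comm, hxy]

/-- flatness from vanishing of all `Tor₁(Q, X)` -/
theorem flat_of_tor (ι : K →ₗ[R] F) (π : F →ₗ[R] X) (hιπ : Exact ι π) (hπ : Surjective π)
    [Module.Flat R F]
    (h : ∀ (Q : Type u) [AddCommGroup Q] [Module R Q], Injective (ι.lTensor Q)) :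
    Module.Flat R X := by
  rw [Module.Flat.iff_rTensor_preserves_injective_linearMap]
  intro N₁ N₂ _ _ _ _ i hi
  exact rTensor_injective_of_tor i (LinearMap.range i).mkQ (LinearMap.exact_map_mkQ_range i)
    (Submodule.mkQ_surjective _) hi ι π hιπ hπ (h _)

open TensorProduct.AlgebraTensorModule in
theorem lTensor_injective_of_baseChange {A : Type u} [CommRing A] [Algebra R A]
    {N : Type u} [AddCommGroup N] [Module A N] [Module R N] [IsScalarTower R A N]
    (ι : K →ₗ[R] F) (π : F →ₗ[R] X) (hιπ : Exact ι π) (hπ : Surjective π)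
    (hιA : Injective (ι.baseChange A)) [Module.Flat A (A ⊗[R] X)] :
    Injective (ι.lTensor N) := by
  have hπ' : Surjective (π.baseChange A) := LinearMap.lTensor_surjective A hπ
  have hex : Exact (ι.baseChange A) (π.baseChange A) := lTensor_exact A hιπ hπ
  have h1 : Injective ((ι.baseChange A).lTensor N) :=
    LinearMap.lTensor_injective_of_exact_of_flat (π.baseChange A) hπ' (ι.baseChange A) hιA hex N
  have h2 : ∀ x, ι.lTensor N (cancelBaseChange R A A N K x) =
      cancelBaseChange R A A N F ((ι.baseChange A).lTensor N x) := by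
    intro x
    induction x using TensorProduct.induction_on with
    | zero => simp
    | add a b ha hb => simp only [map_add, ha, hb]
    | tmul n y =>
      induction y using TensorProduct.induction_on with
      | zero => simp
      | add a b ha hb => simp only [map_add, tmul_add, ha, hb]
      | tmul a k => simp
  intro x y hxy
  obtain ⟨x', rfl⟩ := (cancelBaseChange R A A N K).surjective x
  obtain ⟨y', rfl⟩ := (cancelBaseChange R A A N K).surjective y
  rw [h2, h2] at hxy
  rw [h1 ((cancelBaseChange R A A N F).injective hxy)]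

end general

section glue
variable {R R' : Type u} [CommRing R] [CommRing R'] [Algebra R R'] {f : R}
variable {K F X : Type u} [AddCommGroup K] [AddCommGroup F] [AddCommGroup X]
  [Module R K] [Module R F] [Module R X]
variable (ι : K →ₗ[R] F) (π : F →ₗ[R] X) (hιπ : Exact ι π) (hπ : Surjective π)
  (hι : Injective ι)

include hιπ hπ hι in
theorem lTensor_injective_localized
    [Module.Flat (Localization.Away f) (LocalizedModule (Submonoid.powers f) X)]
    (Y : Type u) [AddCommGroup Y] [Module R Y] :
    Injective (ι.lTensor (LocalizedModule (Submonoid.powers f) Y)) := by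
  have : Module.Flat (Localization.Away f) (Localization.Away f ⊗[R] X) :=
    Module.Flat.of_linearEquiv (LocalizedModule.equivTensorProduct (Submonoid.powers f) X).symm
  exact lTensor_injective_of_baseChange (A := Localization.Away f) ι π hιπ hπ
    (Module.Flat.lTensor_preserves_injective_linearMap ι hι)

include hιπ hπ hι in
theorem lTensor_injective_R' (hRR : EtGlue.IsGlueingPair R R' f)
    [Module.Flat (Localization.Away f) (LocalizedModule (Submonoid.powers f) X)]
    (hF : ∀ (y : F) (n : ℕ), f ^ n • y = 0 → (1 : R') ⊗ₜ[R] y = 0 → y = 0) :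
    Injective (ι.lTensor R') := by
  rw [injective_iff_map_eq_zero]
  intro ξ hξ
  have h0 := lTensor_injective_localized (f := f) ι π hιπ hπ hι R'
  have h1 : ((LocalizedModule.mkLinearMap (Submonoid.powers f) R').rTensor K) ξ = 0 := by
    apply h0
    rw [map_zero, lTensor_rTensor_comm, hξ, map_zero]
  obtain ⟨⟨_, n, rfl⟩, hc⟩ := (IsLocalizedModule.eq_zero_iff (Submonoid.powers f)
    (TensorProduct.AlgebraTensorModule.rTensor R K
      (LocalizedModule.mkLinearMap (Submonoid.powers f) R'))).mp h1
  have h2 : f ^ n • ξ = 0 := hc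
  obtain ⟨t, ht1, rfl⟩ := tors_surj hRR K ξ n h2
  have h3 : ι t = 0 := by
    apply hF (ι t) n
    · rw [← map_smul, ht1, map_zero]
    · simpa using hξ
  rw [hι (h3.trans (map_zero ι).symm), TensorProduct.tmul_zero]

include hιπ hπ in
theorem lTensor_injective_tors (hq : EtGlue.QuotPowBijective R R' f)
    (hR' : Injective (ι.lTensor R')) [Module.Flat R' (R' ⊗[R] X)]
    (Q : Type u) [AddCommGroup Q] [Module R Q] (hT : ∀ t : Q, ∃ n : ℕ, f ^ n • t = 0) :
    Injective (ι.lTensor Q) := by
  have h0 : Injective (ι.lTensor (R' ⊗[R] Q)) :=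
    lTensor_injective_of_baseChange (A := R') ι π hιπ hπ (fun _ _ h => hR' h)
  rw [injective_iff_map_eq_zero]
  intro x hx
  have h1 : ((TensorProduct.mk R R' Q 1).rTensor K) x = 0 := by
    apply h0
    rw [map_zero, lTensor_rTensor_comm, hx, map_zero]
  have h2 : (ρ hq hT).rTensor K (((TensorProduct.mk R R' Q 1).rTensor K) x) = x := by
    rw [← LinearMap.comp_apply, ← LinearMap.rTensor_comp,
      (show ρ hq hT ∘ₗ TensorProduct.mk R R' Q 1 = LinearMap.id from
        LinearMap.ext fun t => ρ_one_tmul hq hT t), LinearMap.rTensor_id, LinearMap.id_apply]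
  rw [← h2, h1, map_zero]

include hιπ hπ in
theorem flat_ker_baseChange [Module.Flat R F] (hR' : Injective (ι.lTensor R'))
    [Module.Flat R' (R' ⊗[R] X)] : Module.Flat R' (R' ⊗[R] K) :=
  flat_of_exact (ι.baseChange R') (π.baseChange R') (lTensor_exact R' hιπ hπ)
    (LinearMap.lTensor_surjective R' hπ) (fun _ _ h => hR' h)

include hιπ hπ hι in
theorem flat_ker_localized [Module.Flat R F]
    [Module.Flat (Localization.Away f) (LocalizedModule (Submonoid.powers f) X)] :
    Module.Flat (Localization.Away f) (LocalizedModule (Submonoid.powers f) K) :=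
  flat_of_exact (LocalizedModule.map (Submonoid.powers f) ι)
    (LocalizedModule.map (Submonoid.powers f) π)
    (LocalizedModule.map_exact (Submonoid.powers f) ι π hιπ)
    (LocalizedModule.map_surjective (Submonoid.powers f) π hπ)
    (LocalizedModule.map_injective (Submonoid.powers f) ι hι)

variable {K₂ F₂ : Type u} [AddCommGroup K₂] [AddCommGroup F₂] [Module R K₂] [Module R F₂]
  (ι₂ : K₂ →ₗ[R] F₂) (π₂ : F₂ →ₗ[R] K) (hιπ₂ : Exact ι₂ π₂) (hπ₂ : Surjective π₂)
  (hι₂ : Injective ι₂)

include hιπ hπ hι hιπ₂ hπ₂ hι₂ in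
theorem lTensor_injective_all (hRR : EtGlue.IsGlueingPair R R' f)
    [Module.Flat R F] [Module.Flat R F₂]
    (hF : ∀ (y : F) (n : ℕ), f ^ n • y = 0 → (1 : R') ⊗ₜ[R] y = 0 → y = 0)
    (hF₂ : ∀ (y : F₂) (n : ℕ), f ^ n • y = 0 → (1 : R') ⊗ₜ[R] y = 0 → y = 0)
    [Module.Flat R' (R' ⊗[R] X)]
    [Module.Flat (Localization.Away f) (LocalizedModule (Submonoid.powers f) X)]
    (N : Type u) [AddCommGroup N] [Module R N] : Injective (ι.lTensor N) := by
  have hX' : Injective (ι.lTensor R') := lTensor_injective_R' ι π hιπ hπ hι hRR hF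
  have : Module.Flat R' (R' ⊗[R] K) := flat_ker_baseChange ι π hιπ hπ hX'
  have : Module.Flat (Localization.Away f) (LocalizedModule (Submonoid.powers f) K) :=
    flat_ker_localized ι π hιπ hπ hι
  have hK' : Injective (ι₂.lTensor R') := lTensor_injective_R' ι₂ π₂ hιπ₂ hπ₂ hι₂ hRR hF₂
  set g : N →ₗ[R] LocalizedModule (Submonoid.powers f) N :=
    LocalizedModule.mkLinearMap (Submonoid.powers f) N with hg
  -- torsion part
  have htors : ∀ t : LinearMap.ker g.rangeRestrict, ∃ n : ℕ, f ^ n • t = 0 := by
    rintro ⟨t, ht⟩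
    have ht' : g t = 0 := by
      have := congrArg Subtype.val (LinearMap.mem_ker.mp ht)
      simpa using this
    obtain ⟨⟨_, n, rfl⟩, hc⟩ := (IsLocalizedModule.eq_zero_iff (Submonoid.powers f) g).mp ht'
    exact ⟨n, Subtype.ext hc⟩
  have hQtors : ∀ t : LocalizedModule (Submonoid.powers f) N ⧸ LinearMap.range g,
      ∃ n : ℕ, f ^ n • t = 0 := by
    intro t
    obtain ⟨y, rfl⟩ := Submodule.mkQ_surjective _ t
    induction y using LocalizedModule.induction_on with
    | h m s =>
      rcases s with ⟨_, n, rfl⟩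
      refine ⟨n, ?_⟩
      rw [← map_smul, Submodule.mkQ_apply, Submodule.Quotient.mk_eq_zero]
      refine ⟨m, ?_⟩
      rw [hg, LocalizedModule.mkLinearMap_apply, LocalizedModule.smul'_mk]
      exact (LocalizedModule.mk_cancel (⟨f ^ n, n, rfl⟩ : Submonoid.powers f) m).symm
  have h1 : Injective (ι.lTensor (LinearMap.ker g.rangeRestrict)) :=
    lTensor_injective_tors ι π hιπ hπ hRR.1 hX' _ htors
  have h2 : Injective (ι.lTensor (LocalizedModule (Submonoid.powers f) N)) :=
    lTensor_injective_localized ι π hιπ hπ hι N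
  have h3 : Injective ((LinearMap.range g).subtype.rTensor K) :=
    rTensor_injective_of_tor (LinearMap.range g).subtype (LinearMap.range g).mkQ
      (LinearMap.exact_subtype_mkQ _) (Submodule.mkQ_surjective _) (Submodule.subtype_injective _)
      ι₂ π₂ hιπ₂ hπ₂ (lTensor_injective_tors ι₂ π₂ hιπ₂ hπ₂ hRR.1 hK' _ hQtors)
  have h4 : Injective (ι.lTensor (LinearMap.range g)) := by
    intro x y hxy
    apply h3
    apply h2
    rw [lTensor_rTensor_comm, lTensor_rTensor_comm, hxy]
  exact lTensor_injective_of_ext (LinearMap.ker g.rangeRestrict).subtype g.rangeRestrict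
    (LinearMap.exact_subtype_ker_map _) (LinearMap.surjective_rangeRestrict g)
    (Submodule.subtype_injective _) ι h1 h4

end glue

theorem free_tors_injective {R R' : Type u} [CommRing R] [CommRing R'] [Algebra R R'] {f : R}
    (hRR : EtGlue.IsGlueingPair R R' f) (I : Type u) (y : I →₀ R) (n : ℕ)
    (h1 : f ^ n • y = 0) (h2 : (1 : R') ⊗ₜ[R] y = 0) : y = 0 := by
  classical
  ext i
  apply hRR.2.1
  simp only [Prod.mk.injEq, Finsupp.coe_zero, Pi.zero_apply, map_zero]
  constructor
  · have := congrArg (fun z => TensorProduct.finsuppScalarRight R R' R' I z i) h2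
    simpa [Algebra.smul_def] using this
  · rw [IsLocalization.map_eq_zero_iff (Submonoid.powers f)]
    refine ⟨⟨f ^ n, n, rfl⟩, ?_⟩
    have := congrArg (fun z => z i) h1
    simpa using this

theorem flat_of_glue {R R' : Type u} [CommRing R] [CommRing R'] [Algebra R R'] {f : R}
    (hRR : EtGlue.IsGlueingPair R R' f)
    {F X F₂ : Type u} [AddCommGroup F] [AddCommGroup X] [AddCommGroup F₂]
    [Module R F] [Module R X] [Module R F₂] (π : F →ₗ[R] X) (hπ : Surjective π)
    (π₂ : F₂ →ₗ[R] LinearMap.ker π) (hπ₂ : Surjective π₂)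
    [Module.Flat R F] [Module.Flat R F₂]
    (hF : ∀ (y : F) (n : ℕ), f ^ n • y = 0 → (1 : R') ⊗ₜ[R] y = 0 → y = 0)
    (hF₂ : ∀ (y : F₂) (n : ℕ), f ^ n • y = 0 → (1 : R') ⊗ₜ[R] y = 0 → y = 0)
    [Module.Flat R' (R' ⊗[R] X)]
    [Module.Flat (Localization.Away f) (LocalizedModule (Submonoid.powers f) X)] :
    Module.Flat R X := by
  have hex : Function.Exact (LinearMap.ker π).subtype π := LinearMap.exact_subtype_ker_map π
  have hex₂ : Function.Exact (LinearMap.ker π₂).subtype π₂ := LinearMap.exact_subtype_ker_map π₂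
  exact flat_of_tor (LinearMap.ker π).subtype π hex hπ (fun Q _ _ =>
    lTensor_injective_all (LinearMap.ker π).subtype π hex hπ (Submodule.subtype_injective _)
      (LinearMap.ker π₂).subtype π₂ hex₂ hπ₂ (Submodule.subtype_injective _) hRR hF hF₂ Q)

theorem exists_free_surj (R : Type u) [CommRing R] (Y : Type u) [AddCommGroup Y] [Module R Y] :
    ∃ (I : Type u) (π : (I →₀ R) →ₗ[R] Y), Surjective π :=
  ⟨Y, Finsupp.linearCombination R id, Finsupp.linearCombination_surjective R surjective_id⟩

theorem s2002 (R R' : Type u) [CommRing R] [CommRing R'] [Algebra R R'] (f : R)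
    (hRR : EtGlue.IsGlueingPair R R' f) (M : Type u) [AddCommGroup M] [Module R M] :
    Module.Flat R M ↔ Module.Flat R' (R' ⊗[R] M) ∧
      Module.Flat (Localization.Away f) (LocalizedModule (Submonoid.powers f) M) := by
  constructor
  · intro h
    exact ⟨inferInstance, inferInstance⟩
  · rintro ⟨h1, h2⟩
    obtain ⟨I, π, hπ⟩ := exists_free_surj R M
    obtain ⟨I₂, π₂, hπ₂⟩ := exists_free_surj R (LinearMap.ker π)
    exact flat_of_glue hRR π hπ π₂ hπ₂ (free_tors_injective hRR _) (free_tors_injective hRR _)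

end Groth.Agent.Helper8.BL
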