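import Mathlib
import Groth.Agent.Helper8.BL6

set_option autoImplicit false
universe u
open TensorProduct Function

namespace Groth.Agent.Helper8.BL

section onering
variable {R : Type u} [CommRing R] {f : R}
variable {K F X : Type u} [AddCommGroup K] [AddCommGroup F] [AddCommGroup X]
  [Module R K] [Module R F] [Module R X]
variable (ι : K →ₗ[R] F) (π : F →ₗ[R] X) (hιπ : Exact ι π) (hπ : Surjective π)
  (hι : Injective ι)

include hιπ hπ hι in
theorem exists_pow_smul_eq_zero_of_lTensor
    [Module.Flat (Localization.Away f) (LocalizedModule (Submonoid.powers f) X)]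
    (Y : Type u) [AddCommGroup Y] [Module R Y] (ξ : Y ⊗[R] K) (hξ : ι.lTensor Y ξ = 0) :
    ∃ n : ℕ, f ^ n • ξ = 0 := by
  have h0 := lTensor_injective_localized (f := f) ι π hιπ hπ hι Y
  have h1 : ((LocalizedModule.mkLinearMap (Submonoid.powers f) Y).rTensor K) ξ = 0 := by
    apply h0
    rw [map_zero, lTensor_rTensor_comm, hξ, map_zero]
  obtain ⟨⟨_, n, rfl⟩, hc⟩ := (IsLocalizedModule.eq_zero_iff (Submonoid.powers f)
    (TensorProduct.AlgebraTensorModule.rTensor R K
      (LocalizedModule.mkLinearMap (Submonoid.powers f) Y))).mp h1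
  exact ⟨n, hc⟩

variable {K₂ F₂ : Type u} [AddCommGroup K₂] [AddCommGroup F₂] [Module R K₂] [Module R F₂]
  (ι₂ : K₂ →ₗ[R] F₂) (π₂ : F₂ →ₗ[R] K) (hιπ₂ : Exact ι₂ π₂) (hπ₂ : Surjective π₂)

include hιπ hπ hι hιπ₂ hπ₂ in
theorem lTensor_injective_devissage [Module.Flat R F] [Module.Flat R F₂]
    [Module.Flat (Localization.Away f) (LocalizedModule (Submonoid.powers f) X)]
    (hX : ∀ (Q : Type u) [AddCommGroup Q] [Module R Q], (∀ t : Q, ∃ n : ℕ, f ^ n • t = 0) →
      Injective (ι.lTensor Q))
    (hK : ∀ (Q : Type u) [AddCommGroup Q] [Module R Q], (∀ t : Q, ∃ n : ℕ, f ^ n • t = 0) →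
      Injective (ι₂.lTensor Q))
    (N : Type u) [AddCommGroup N] [Module R N] : Injective (ι.lTensor N) := by
  set g : N →ₗ[R] LocalizedModule (Submonoid.powers f) N :=
    LocalizedModule.mkLinearMap (Submonoid.powers f) N with hg
  have htors : ∀ t : LinearMap.ker g.rangeRestrict, ∃ n : ℕ, f ^ n • t = 0 := by
    rintro ⟨t, ht⟩
    have ht' : g t = 0 := by
      have := congrArg Subtype.val (LinearMap.mem_ker.mp ht)
      simpa using this
    obtain ⟨⟨_, n, rfl⟩, hc⟩ := (IsLocalizedModule.eq_zero_iff (Submonoid.powers f) g).mp ht'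
    exact ⟨n, Subtype.ext hc⟩
  have hQtors : ∀ t : LocalizedModule (Submonoid.powers f) N ⧸ LinearMap.range g,
      ∃ n : ℕ, f ^ n • t = 0 := by
    intro t
    obtain ⟨y, rfl⟩ := Submodule.mkQ_surjective _ t
    induction y using LocalizedModule.induction_on with
    | h m s =>
      rcases s with ⟨_, n, rfl⟩
      refine ⟨n, ?_⟩
      rw [← map_smul, Submodule.mkQ_apply, Submodule.Quotient.mk_eq_zero]
      refine ⟨m, ?_⟩
      rw [hg, LocalizedModule.mkLinearMap_apply, LocalizedModule.smul'_mk]
      exact (LocalizedModule.mk_cancel (⟨f ^ n, n, rfl⟩ : Submonoid.powers f) m).symm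
  have h1 : Injective (ι.lTensor (LinearMap.ker g.rangeRestrict)) := hX _ htors
  have h2 : Injective (ι.lTensor (LocalizedModule (Submonoid.powers f) N)) :=
    lTensor_injective_localized ι π hιπ hπ hι N
  have h3 : Injective ((LinearMap.range g).subtype.rTensor K) :=
    rTensor_injective_of_tor (LinearMap.range g).subtype (LinearMap.range g).mkQ
      (LinearMap.exact_subtype_mkQ _) (Submodule.mkQ_surjective _) (Submodule.subtype_injective _)
      ι₂ π₂ hιπ₂ hπ₂ (hK _ hQtors)
  have h4 : Injective (ι.lTensor (LinearMap.range g)) := by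
    intro x y hxy
    apply h3
    apply h2
    rw [lTensor_rTensor_comm, lTensor_rTensor_comm, hxy]
  exact lTensor_injective_of_ext (LinearMap.ker g.rangeRestrict).subtype g.rangeRestrict
    (LinearMap.exact_subtype_ker_map _) (LinearMap.surjective_rangeRestrict g)
    (Submodule.subtype_injective _) ι h1 h4

end onering

section rel
variable {R R' : Type u} [CommRing R] [CommRing R'] [Algebra R R'] {f : R}
variable {A A' : Type u} [CommRing A] [CommRing A'] [Algebra R A] [Algebra R A'] [Algebra A A']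
  [Algebra R' A'] [IsScalarTower R A A'] [IsScalarTower R R' A'] [Algebra.IsPushout R R' A A']
variable {K F X : Type u} [AddCommGroup K] [AddCommGroup F] [AddCommGroup X]
  [Module A K] [Module A F] [Module A X] [Module R K] [Module R F] [Module R X]
  [IsScalarTower R A K] [IsScalarTower R A F] [IsScalarTower R A X]
variable (ι : K →ₗ[A] F) (π : F →ₗ[A] X) (hιπ : Exact ι π) (hπ : Surjective π)
  (hι : Injective ι)

omit [Module R X] [IsScalarTower R A X] in
include hιπ hπ hι in
theorem lTensor_injective_A' (hRR : EtGlue.IsGlueingPair R R' f)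
    [Module.Flat (Localization.Away (algebraMap R A f))
      (LocalizedModule (Submonoid.powers (algebraMap R A f)) X)]
    (hF : ∀ (y : F) (n : ℕ), f ^ n • y = 0 → (1 : R') ⊗ₜ[R] y = 0 → y = 0) :
    Injective (ι.lTensor A') := by
  rw [injective_iff_map_eq_zero]
  intro ξ hξ
  obtain ⟨n, hn⟩ := exists_pow_smul_eq_zero_of_lTensor (f := algebraMap R A f) ι π hιπ hπ hι A' ξ hξ
  have hx : f ^ n • (Algebra.IsPushout.cancelBaseChange R R' A A' K ξ) = 0 := by
    rw [← algebraMap_smul R', ← map_smul, algebraMap_smul, ← algebraMap_smul A, map_pow, hn, map_zero]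
  obtain ⟨k, hk1, hk2⟩ := tors_surj hRR K _ n hx
  have hξ' : ξ = (1 : A') ⊗ₜ[A] k := by
    apply (Algebra.IsPushout.cancelBaseChange R R' A A' K).injective
    rw [← hk2, Algebra.IsPushout.cancelBaseChange_tmul]
  rw [hξ', LinearMap.lTensor_tmul] at hξ
  have h3 : ι k = 0 := by
    apply hF (ι k) n
    · rw [← algebraMap_smul A, ← map_smul, algebraMap_smul, hk1, map_zero]
    · rw [← Algebra.IsPushout.cancelBaseChange_tmul R R' A A' F, hξ, map_zero]
  rw [hξ', hι (h3.trans (map_zero ι).symm), TensorProduct.tmul_zero]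

omit [Module R K] [Module R F] [Module R X] [IsScalarTower R A K] [IsScalarTower R A F]
  [IsScalarTower R A X] in
include hιπ hπ in
theorem lTensor_injective_tors_rel (hq : EtGlue.QuotPowBijective R R' f)
    (hA' : Injective (ι.lTensor A')) [Module.Flat A' (A' ⊗[A] X)]
    (Q : Type u) [AddCommGroup Q] [Module A Q]
    (hT : ∀ t : Q, ∃ n : ℕ, (algebraMap R A f) ^ n • t = 0) :
    Injective (ι.lTensor Q) := by
  let _ : Module R Q := Module.compHom Q (algebraMap R A)
  have hsm : ∀ (r : R) (q : Q), r • q = algebraMap R A r • q := fun _ _ => rfl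
  have : IsScalarTower R A Q := ⟨fun r a q => by
    rw [hsm, Algebra.smul_def, mul_smul]⟩
  have hT' : ∀ t : Q, ∃ n : ℕ, f ^ n • t = 0 := by
    intro t
    obtain ⟨n, hn⟩ := hT t
    exact ⟨n, by rw [hsm, map_pow, hn]⟩
  have he : Bijective (TensorProduct.mk A A' Q 1) := by
    have h1 : ∀ q : Q, TensorProduct.mk A A' Q 1 q =
        (Algebra.IsPushout.cancelBaseChange R R' A A' Q).symm (TensorProduct.mk R R' Q 1 q) := by
      intro q
      rw [LinearEquiv.eq_symm_apply]
      exact Algebra.IsPushout.cancelBaseChange_tmul R R' A A' Q q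
    have h2 : (TensorProduct.mk A A' Q 1 : Q → A' ⊗[A] Q) =
        (Algebra.IsPushout.cancelBaseChange R R' A A' Q).symm ∘ (TensorProduct.mk R R' Q 1) :=
      funext h1
    rw [h2]
    exact (Algebra.IsPushout.cancelBaseChange R R' A A' Q).symm.bijective.comp
      ⟨mk_one_injective hq hT', mk_one_surjective hq hT'⟩
  have h0 : Injective (ι.lTensor (A' ⊗[A] Q)) :=
    lTensor_injective_of_baseChange (A := A') ι π hιπ hπ (fun _ _ h => hA' h)
  rw [injective_iff_map_eq_zero]
  intro x hx
  have h1 : ((TensorProduct.mk A A' Q 1).rTensor K) x = 0 := by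
    apply h0
    rw [map_zero, lTensor_rTensor_comm, hx, map_zero]
  have h2 : ((LinearEquiv.ofBijective (TensorProduct.mk A A' Q 1) he).symm.toLinearMap).rTensor K
      (((TensorProduct.mk A A' Q 1).rTensor K) x) = x := by
    rw [← LinearMap.comp_apply, ← LinearMap.rTensor_comp,
      (show (LinearEquiv.ofBijective (TensorProduct.mk A A' Q 1) he).symm.toLinearMap ∘ₗ
        TensorProduct.mk A A' Q 1 = LinearMap.id from
        LinearMap.ext fun t => (LinearEquiv.ofBijective (TensorProduct.mk A A' Q 1) he).symm_apply_apply t),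
      LinearMap.rTensor_id, LinearMap.id_apply]
  rw [← h2, h1, map_zero]

end rel

theorem flat_of_glue_rel {R R' : Type u} [CommRing R] [CommRing R'] [Algebra R R'] {f : R}
    (hRR : EtGlue.IsGlueingPair R R' f)
    {A A' : Type u} [CommRing A] [CommRing A'] [Algebra R A] [Algebra R A'] [Algebra A A']
    [Algebra R' A'] [IsScalarTower R A A'] [IsScalarTower R R' A'] [Algebra.IsPushout R R' A A']
    {F X F₂ : Type u} [AddCommGroup F] [AddCommGroup X] [AddCommGroup F₂]
    [Module A F] [Module A X] [Module A F₂] [Module R F] [Module R F₂]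
    [IsScalarTower R A F] [IsScalarTower R A F₂]
    (π : F →ₗ[A] X) (hπ : Surjective π)
    (π₂ : F₂ →ₗ[A] LinearMap.ker π) (hπ₂ : Surjective π₂)
    [Module.Flat A F] [Module.Flat A F₂]
    (hF : ∀ (y : F) (n : ℕ), f ^ n • y = 0 → (1 : R') ⊗ₜ[R] y = 0 → y = 0)
    (hF₂ : ∀ (y : F₂) (n : ℕ), f ^ n • y = 0 → (1 : R') ⊗ₜ[R] y = 0 → y = 0)
    [Module.Flat A' (A' ⊗[A] X)]
    [Module.Flat (Localization.Away (algebraMap R A f))
      (LocalizedModule (Submonoid.powers (algebraMap R A f)) X)] :
    Module.Flat A X := by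
  have hex : Function.Exact (LinearMap.ker π).subtype π := LinearMap.exact_subtype_ker_map π
  have hex₂ : Function.Exact (LinearMap.ker π₂).subtype π₂ := LinearMap.exact_subtype_ker_map π₂
  have hX' : Injective ((LinearMap.ker π).subtype.lTensor A') :=
    lTensor_injective_A' (LinearMap.ker π).subtype π hex hπ (Submodule.subtype_injective _) hRR hF
  have : Module.Flat A' (A' ⊗[A] LinearMap.ker π) :=
    flat_ker_baseChange (LinearMap.ker π).subtype π hex hπ hX'
  have : Module.Flat (Localization.Away (algebraMap R A f))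
      (LocalizedModule (Submonoid.powers (algebraMap R A f)) (LinearMap.ker π)) :=
    flat_ker_localized (LinearMap.ker π).subtype π hex hπ (Submodule.subtype_injective _)
  have hK' : Injective ((LinearMap.ker π₂).subtype.lTensor A') :=
    lTensor_injective_A' (LinearMap.ker π₂).subtype π₂ hex₂ hπ₂ (Submodule.subtype_injective _)
      hRR hF₂
  exact flat_of_tor (LinearMap.ker π).subtype π hex hπ (fun Q _ _ =>
    lTensor_injective_devissage (f := algebraMap R A f) (LinearMap.ker π).subtype π hex hπ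
      (Submodule.subtype_injective _) (LinearMap.ker π₂).subtype π₂ hex₂ hπ₂
      (fun Q' _ _ hT => lTensor_injective_tors_rel (LinearMap.ker π).subtype π hex hπ hRR.1 hX' Q' hT)
      (fun Q' _ _ hT => lTensor_injective_tors_rel (LinearMap.ker π₂).subtype π₂ hex₂ hπ₂ hRR.1
        hK' Q' hT) Q)


end Groth.Agent.Helper8.BL
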