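import Mathlib
import Groth.Agent.Helper8.BL8

set_option autoImplicit false
universe u
open TensorProduct Function

namespace Groth.Agent.Helper8.BL

theorem free_tors_injective_rel {R R' : Type u} [CommRing R] [CommRing R'] [Algebra R R'] {f : R}
    (hq : EtGlue.QuotPowBijective R R' f) {A : Type u} [AddCommGroup A] [Module R A]
    (hA : EtGlue.IsGlueable R R' f A) (J : Type u) (y : J →₀ A) (n : ℕ)
    (h1 : f ^ n • y = 0) (h2 : (1 : R') ⊗ₜ[R] y = 0) : y = 0 := by
  classical
  ext i
  apply ((glueable_iff hq A).mp hA).1 (y i) ⟨n, ?_⟩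
  · have := congrArg (fun z => TensorProduct.finsuppRight R R R' A J z i) h2
    simpa [TensorProduct.finsuppRight_apply_tmul_apply] using this
  · have := congrArg (fun z => z i) h1
    simpa using this

theorem flat_awayMap_lTensor (R : Type u) [CommRing R] (R' : Type u) [CommRing R'] [Algebra R R']
    (f : R) (A B : Type u) [CommRing A] [Algebra R A] [CommRing B] [Algebra R B] (φ : A →ₐ[R] B)
    (h : φ.toRingHom.Flat) :
    (Localization.awayMap φ.toRingHom (algebraMap R A f)).Flat ∧
      (Algebra.TensorProduct.map (AlgHom.id R R') φ).toRingHom.Flat := by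
  constructor
  · exact RingHom.Flat.isStableUnderBaseChange.localizationPreserves.away _ _ _ _ h
  · exact RingHom.Flat.lTensor (S := R) R' h

attribute [local instance] Algebra.TensorProduct.rightAlgebra in
theorem flat_baseChange_of_map_flat (R : Type u) [CommRing R] (R' : Type u) [CommRing R']
    [Algebra R R'] (A B : Type u) [CommRing A] [Algebra R A] [CommRing B] [Algebra R B]
    [Algebra A B] [IsScalarTower R A B]
    (h2 : (Algebra.TensorProduct.map (AlgHom.id R R') (IsScalarTower.toAlgHom R A B)).toRingHom.Flat) :
    Module.Flat (R' ⊗[R] A) ((R' ⊗[R] A) ⊗[A] B) := by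
  algebraize [(Algebra.TensorProduct.map (AlgHom.id R R') (IsScalarTower.toAlgHom R A B)).toRingHom]
  let e : R' ⊗[R] B ≃ₐ[R' ⊗[R] A] (R' ⊗[R] A) ⊗[A] B :=
    { __ := (Algebra.IsPushout.cancelBaseChangeAlg R R' A (R' ⊗[R] A) B).symm,
      commutes' x := congr($(Algebra.IsPushout.cancelBaseChange_symm_comp_lTensor R A B R') x) }
  exact .of_linearEquiv e.symm.toLinearEquiv

theorem flat_localized_of_awayMap_flat (A B : Type u) [CommRing A] [CommRing B] [Algebra A B]
    (r : A) (h1 : (Localization.awayMap (algebraMap A B) r).Flat) :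
    Module.Flat (Localization.Away r) (LocalizedModule (Submonoid.powers r) B) := by
  algebraize [Localization.awayMap (algebraMap A B) r]
  have : IsScalarTower A (Localization.Away r) (Localization.Away (algebraMap A B r)) :=
    IsScalarTower.of_algebraMap_eq' (by
      rw [IsScalarTower.algebraMap_eq A B (Localization.Away (algebraMap A B r)),
        RingHom.algebraMap_toAlgebra]
      exact (IsLocalization.map_comp _).symm)
  have : IsLocalization (Algebra.algebraMapSubmonoid B (Submonoid.powers r))
      (Localization.Away (algebraMap A B r)) := by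
    rw [Algebra.algebraMapSubmonoid_powers]
    infer_instance
  have : IsLocalizedModule (Submonoid.powers r)
      (IsScalarTower.toAlgHom A B (Localization.Away (algebraMap A B r))).toLinearMap :=
    (isLocalizedModule_iff_isLocalization).mpr this
  have hfl : Module.Flat (Localization.Away r) (Localization.Away (algebraMap A B r)) := h1
  exact .of_linearEquiv ((IsLocalizedModule.iso (Submonoid.powers r)
    (IsScalarTower.toAlgHom A B (Localization.Away (algebraMap A B r))).toLinearMap
    ).extendScalarsOfIsLocalization (Submonoid.powers r) (Localization.Away r))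

attribute [local instance] Algebra.TensorProduct.rightAlgebra in
theorem s12188 (R : Type u) [CommRing R] (R' : Type u) [CommRing R'] [Algebra R R'] (f : R)
    (hRR' : EtGlue.IsGlueingPair R R' f) (A B : Type u) [CommRing A] [Algebra R A] [CommRing B] [Algebra R B]
    (hA : EtGlue.IsGlueable R R' f A) (φ : A →ₐ[R] B) :
    φ.toRingHom.Flat ↔ (Localization.awayMap φ.toRingHom (algebraMap R A f)).Flat ∧
      (Algebra.TensorProduct.map (AlgHom.id R R') φ).toRingHom.Flat := by
  constructor
  · exact flat_awayMap_lTensor R R' f A B φ
  · rintro ⟨h1, h2⟩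
    algebraize [φ.toRingHom]
    have : IsScalarTower R A B := IsScalarTower.of_algebraMap_eq (fun r => (φ.commutes r).symm)
    have hφ : IsScalarTower.toAlgHom R A B = φ := AlgHom.ext fun _ => rfl
    rw [← hφ] at h2
    have := flat_baseChange_of_map_flat R R' A B h2
    have := flat_localized_of_awayMap_flat A B (algebraMap R A f) h1
    obtain ⟨I, π, hπ⟩ := exists_free_surj A B
    obtain ⟨I₂, π₂, hπ₂⟩ := exists_free_surj A (LinearMap.ker π)
    change Module.Flat A B
    exact flat_of_glue_rel (A' := R' ⊗[R] A) hRR' π hπ π₂ hπ₂
      (free_tors_injective_rel hRR'.1 hA _) (free_tors_injective_rel hRR'.1 hA _)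

end Groth.Agent.Helper8.BL
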