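import Mathlib
import Groth.Agent.Helper8.BL9
import Groth.Agent.Helper8.BL4

set_option autoImplicit false
universe u
open TensorProduct Function

namespace Groth.Agent.Helper8.BL

theorem eq_top_of_tors_of_surj {R R' : Type u} [CommRing R] [CommRing R'] [Algebra R R'] {f : R}
    (hq : EtGlue.QuotPowBijective R R' f) {M : Type u} [AddCommGroup M] [Module R M]
    (N : Submodule R M) (htors : ∀ m : M, ∃ n : ℕ, f ^ n • m ∈ N)
    (hsurj : Surjective (N.subtype.lTensor R')) : N = ⊤ := by
  have hT : ∀ q : M ⧸ N, ∃ n : ℕ, f ^ n • q = 0 := by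
    intro q
    obtain ⟨m, rfl⟩ := Submodule.Quotient.mk_surjective N q
    obtain ⟨n, hn⟩ := htors m
    exact ⟨n, by rw [← Submodule.Quotient.mk_smul, Submodule.Quotient.mk_eq_zero]; exact hn⟩
  have hzero : ∀ y : R' ⊗[R] (M ⧸ N), y = 0 := by
    intro y
    obtain ⟨z, rfl⟩ := LinearMap.lTensor_surjective R' N.mkQ_surjective y
    obtain ⟨w, rfl⟩ := hsurj z
    rw [← LinearMap.comp_apply, ← LinearMap.lTensor_comp]
    have : N.mkQ ∘ₗ N.subtype = 0 := by
      ext a
      simp
    rw [this, LinearMap.lTensor_zero, LinearMap.zero_apply]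
  have hQ : ∀ q : M ⧸ N, q = 0 := fun q =>
    mk_one_injective hq hT (by
      rw [hzero (TensorProduct.mk R R' (M ⧸ N) 1 q), hzero (TensorProduct.mk R R' (M ⧸ N) 1 0)])
  rw [eq_top_iff]
  intro m _
  exact (Submodule.Quotient.mk_eq_zero N).mp (hQ (Submodule.Quotient.mk m))

/-- generators of a localized module that is finite over the localized ring -/
theorem exists_finset_pow_smul_mem_span {A : Type u} [CommRing A] (r : A)
    {M M' : Type u} [AddCommGroup M] [Module A M] [AddCommGroup M'] [Module A M']
    [Module (Localization.Away r) M'] [IsScalarTower A (Localization.Away r) M']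
    (g : M →ₗ[A] M') [IsLocalizedModule (Submonoid.powers r) g]
    [h2 : Module.Finite (Localization.Away r) M'] :
    ∃ s : Finset M, ∀ x : M, ∃ n : ℕ, r ^ n • x ∈ Submodule.span A (s : Set M) := by
  classical
  obtain ⟨s₁, hs₁⟩ := h2.1
  refine ⟨IsLocalizedModule.finsetIntegerMultiple (Submonoid.powers r) g s₁, fun x => ?_⟩
  obtain ⟨⟨_, n₁, rfl⟩, hn₁⟩ := multiple_mem_span_of_mem_localization_span (Submonoid.powers r)
    (Localization.Away r) (s₁ : Set M') (g x) (by rw [hs₁]; trivial)
  rw [Submonoid.smul_def, ← map_smul] at hn₁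
  obtain ⟨⟨_, n₂, rfl⟩, hn₂⟩ := IsLocalizedModule.smul_mem_finsetIntegerMultiple_span
    (Submonoid.powers r) g _ s₁ hn₁
  rw [Submonoid.smul_def] at hn₂
  exact ⟨n₂ + n₁, by rw [pow_add, mul_smul]; exact hn₂⟩

theorem exists_finset_of_awayMap_finite (A B : Type u) [CommRing A] [CommRing B] [Algebra A B]
    (r : A) (h1 : (Localization.awayMap (algebraMap A B) r).Finite) :
    ∃ s : Finset B, ∀ x : B, ∃ n : ℕ, r ^ n • x ∈ Submodule.span A (s : Set B) := by
  algebraize [Localization.awayMap (algebraMap A B) r]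
  have : IsScalarTower A (Localization.Away r) (Localization.Away (algebraMap A B r)) :=
    IsScalarTower.of_algebraMap_eq' (by
      rw [IsScalarTower.algebraMap_eq A B (Localization.Away (algebraMap A B r)),
        RingHom.algebraMap_toAlgebra]
      exact (IsLocalization.map_comp _).symm)
  have : IsLocalization (Algebra.algebraMapSubmonoid B (Submonoid.powers r))
      (Localization.Away (algebraMap A B r)) := by
    rw [Algebra.algebraMapSubmonoid_powers]
    infer_instance
  have : IsLocalizedModule (Submonoid.powers r)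
      (IsScalarTower.toAlgHom A B (Localization.Away (algebraMap A B r))).toLinearMap :=
    (isLocalizedModule_iff_isLocalization).mpr this
  have hfl : Module.Finite (Localization.Away r) (Localization.Away (algebraMap A B r)) := h1
  exact exists_finset_pow_smul_mem_span r
    (IsScalarTower.toAlgHom A B (Localization.Away (algebraMap A B r))).toLinearMap

theorem exists_finset_of_map_finite (R : Type u) [CommRing R] (R' : Type u) [CommRing R']
    [Algebra R R'] (A B : Type u) [CommRing A] [Algebra R A] [CommRing B] [Algebra R B]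
    [Algebra A B] [IsScalarTower R A B]
    (h2 : (Algebra.TensorProduct.map (AlgHom.id R R') (IsScalarTower.toAlgHom R A B)).toRingHom.Finite) :
    ∃ s : Finset B, ∀ N : Submodule A B, (s : Set B) ⊆ N →
      Surjective ((N.restrictScalars R).subtype.lTensor R') := by
  classical
  algebraize [(Algebra.TensorProduct.map (AlgHom.id R R') (IsScalarTower.toAlgHom R A B)).toRingHom]
  have hfin : Module.Finite (R' ⊗[R] A) (R' ⊗[R] B) := h2
  obtain ⟨t, ht⟩ := hfin.1
  choose sz hsz using exists_finset_tmul_span (R := R) (R' := R') B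
  refine ⟨t.biUnion sz, fun N hN => ?_⟩
  have hmul : ∀ (x : R' ⊗[R] A) (w : R' ⊗[R] (N.restrictScalars R)),
      x • ((N.restrictScalars R).subtype.lTensor R' w) ∈
        LinearMap.range ((N.restrictScalars R).subtype.lTensor R') := by
    intro x w
    induction x using TensorProduct.induction_on with
    | zero => rw [zero_smul]; exact Submodule.zero_mem _
    | add a b ha hb => rw [add_smul]; exact Submodule.add_mem _ ha hb
    | tmul r' a =>
      induction w using TensorProduct.induction_on with
      | zero => rw [map_zero, smul_zero]; exact Submodule.zero_mem _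
      | add a b ha hb => rw [map_add, smul_add]; exact Submodule.add_mem _ ha hb
      | tmul r'' n =>
        refine ⟨(r' * r'') ⊗ₜ[R] (⟨a • n.1, N.smul_mem a n.2⟩ : N.restrictScalars R), ?_⟩
        rw [LinearMap.lTensor_tmul, LinearMap.lTensor_tmul]
        show (r' * r'') ⊗ₜ[R] (a • (n : B)) = (r' ⊗ₜ[R] a) • (r'' ⊗ₜ[R] (n : B))
        rw [Algebra.smul_def (r' ⊗ₜ[R] a), RingHom.algebraMap_toAlgebra]
        simp [Algebra.smul_def]
  intro y
  have hy : y ∈ Submodule.span (R' ⊗[R] A) (t : Set (R' ⊗[R] B)) := by rw [ht]; trivial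
  induction hy using Submodule.span_induction with
  | mem z hz =>
    have h1 : Submodule.span R' ((fun m : B => (1 : R') ⊗ₜ[R] m) '' (sz z : Set B)) ≤
        LinearMap.range (((N.restrictScalars R).subtype).baseChange R') := by
      apply Submodule.span_le.mpr
      rintro _ ⟨m, hm, rfl⟩
      exact ⟨(1 : R') ⊗ₜ[R] (⟨m, hN (by
        rw [Finset.coe_biUnion]
        exact Set.mem_biUnion hz hm)⟩ : N.restrictScalars R), rfl⟩
    obtain ⟨w, hw⟩ := h1 (hsz z)
    exact ⟨w, hw⟩
  | zero => exact ⟨0, map_zero _⟩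
  | add a b _ _ ha hb =>
    obtain ⟨a', rfl⟩ := ha
    obtain ⟨b', rfl⟩ := hb
    exact ⟨a' + b', map_add _ _ _⟩
  | smul x a _ ha =>
    obtain ⟨a', rfl⟩ := ha
    exact hmul x a'

attribute [local instance] Algebra.TensorProduct.rightAlgebra in
theorem map_id_of_isStableUnderBaseChange
    {P : ∀ {R S : Type u} [CommRing R] [CommRing S], (R →+* S) → Prop}
    (hP : RingHom.IsStableUnderBaseChange @P) (hP' : RingHom.RespectsIso @P)
    (R : Type u) [CommRing R] (R' : Type u) [CommRing R'] [Algebra R R']
    (A B : Type u) [CommRing A] [Algebra R A] [CommRing B] [Algebra R B]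
    [Algebra A B] [IsScalarTower R A B] (h : P (algebraMap A B)) :
    P (Algebra.TensorProduct.map (AlgHom.id R R') (IsScalarTower.toAlgHom R A B)).toRingHom := by
  have h1 : P (algebraMap (R' ⊗[R] A) ((R' ⊗[R] A) ⊗[A] B)) :=
    hP.tensorProduct (R := A) (S := B) (R' ⊗[R] A) h
  have key := Algebra.IsPushout.cancelBaseChange_symm_comp_lTensor R A B R'
  have h2 : (Algebra.TensorProduct.map (AlgHom.id R R') (IsScalarTower.toAlgHom R A B)).toRingHom =
      (Algebra.IsPushout.cancelBaseChangeAlg R R' A (R' ⊗[R] A) B).toRingEquiv.toRingHom.comp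
        (algebraMap (R' ⊗[R] A) ((R' ⊗[R] A) ⊗[A] B)) := by
    refine RingHom.ext fun x => ?_
    apply (Algebra.IsPushout.cancelBaseChangeAlg R R' A (R' ⊗[R] A) B).symm.injective
    have := congr($key x)
    refine Eq.trans ?_ ((Algebra.IsPushout.cancelBaseChangeAlg R R' A (R' ⊗[R] A) B).symm_apply_apply
      (algebraMap (R' ⊗[R] A) ((R' ⊗[R] A) ⊗[A] B) x)).symm
    exact this
  rw [h2]
  exact hP'.1 _ _ h1

end Groth.Agent.Helper8.BL
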