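import Mathlib
import Groth.Agent.Helper8.BL10

set_option autoImplicit false
universe u
open TensorProduct Function

namespace Groth.Agent.Helper8.BL

theorem s12187 (R : Type u) [CommRing R] (R' : Type u) [CommRing R'] [Algebra R R'] (f : R)
    (hRR' : EtGlue.IsGlueingPair R R' f) (A B : Type u) [CommRing A] [Algebra R A] [CommRing B] [Algebra R B]
    (φ : A →ₐ[R] B) :
    φ.toRingHom.Finite ↔ (Localization.awayMap φ.toRingHom (algebraMap R A f)).Finite ∧
      (Algebra.TensorProduct.map (AlgHom.id R R') φ).toRingHom.Finite := by
  constructor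
  · intro h
    algebraize [φ.toRingHom]
    have : IsScalarTower R A B := IsScalarTower.of_algebraMap_eq (fun r => (φ.commutes r).symm)
    have hφ : IsScalarTower.toAlgHom R A B = φ := AlgHom.ext fun _ => rfl
    refine ⟨RingHom.finite_localizationPreserves.away _ _ _ _ h, ?_⟩
    rw [← hφ]
    exact map_id_of_isStableUnderBaseChange RingHom.finite_isStableUnderBaseChange
      RingHom.finite_respectsIso R R' A B h
  · rintro ⟨h1, h2⟩
    classical
    algebraize [φ.toRingHom]
    have : IsScalarTower R A B := IsScalarTower.of_algebraMap_eq (fun r => (φ.commutes r).symm)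
    have hφ : IsScalarTower.toAlgHom R A B = φ := AlgHom.ext fun _ => rfl
    obtain ⟨s1, hs1⟩ := exists_finset_of_awayMap_finite A B (algebraMap R A f) h1
    rw [← hφ] at h2
    obtain ⟨s2, hs2⟩ := exists_finset_of_map_finite R R' A B h2
    have hN : Submodule.span A ((s1 ∪ s2 : Finset B) : Set B) = ⊤ := by
      have key := eq_top_of_tors_of_surj hRR'.1
        ((Submodule.span A ((s1 ∪ s2 : Finset B) : Set B)).restrictScalars R) ?_
        (hs2 _ ?_)
      · rw [eq_top_iff]
        intro b _
        have hb : b ∈ (Submodule.span A ((s1 ∪ s2 : Finset B) : Set B)).restrictScalars R := by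
          rw [key]; trivial
        exact hb
      · intro m
        obtain ⟨n, hn⟩ := hs1 m
        refine ⟨n, ?_⟩
        rw [Submodule.restrictScalars_mem, ← algebraMap_smul A, map_pow]
        exact Submodule.span_mono (by simp) hn
      · exact subset_trans (by simp) Submodule.subset_span
    exact (show Module.Finite A B from ⟨⟨s1 ∪ s2, hN⟩⟩)

end Groth.Agent.Helper8.BL
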