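import Mathlib
import Groth.Agent.Helper8.BL10

set_option autoImplicit false
universe u
open TensorProduct Function

namespace Groth.Agent.Helper8.BL

/-- kernel of a localized map is the extension of the kernel -/
theorem mem_map_ker_of_awayMap_eq_zero {P B : Type u} [CommRing P] [CommRing B] (ψ : P →+* B)
    (r : P) (x : Localization.Away r) (hx : Localization.awayMap ψ r x = 0) :
    x ∈ Ideal.map (algebraMap P (Localization.Away r)) (RingHom.ker ψ) := by
  obtain ⟨p, s, rfl⟩ := IsLocalization.exists_mk'_eq (Submonoid.powers r) x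
  rw [Localization.awayMap, IsLocalization.Away.map, IsLocalization.map_mk',
    IsLocalization.mk'_eq_zero_iff] at hx
  obtain ⟨⟨_, m, rfl⟩, hm⟩ := hx
  rw [IsLocalization.mem_map_algebraMap_iff (Submonoid.powers r)]
  refine ⟨⟨⟨r ^ m * p, ?_⟩, (⟨r ^ m, m, rfl⟩ : Submonoid.powers r) * s⟩, ?_⟩
  · rw [RingHom.mem_ker, map_mul, map_pow]
    exact hm
  · simp only [Submonoid.coe_mul]
    rw [map_mul, map_mul, ← mul_assoc, mul_comm _ (algebraMap P _ (r ^ m)), mul_assoc,
      IsLocalization.mk'_spec]

/-- finitely many generators of `I` up to powers of `r` when the extension of `I` is f.g. -/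
theorem exists_finset_of_map_fg {P : Type u} [CommRing P] (r : P) (I : Ideal P)
    (h : (Ideal.map (algebraMap P (Localization.Away r)) I).FG) :
    ∃ s : Finset P, (s : Set P) ⊆ I ∧ ∀ x ∈ I, ∃ n : ℕ, r ^ n * x ∈ Ideal.span (s : Set P) := by
  classical
  have h' : Submodule.FG (Submodule.span (Localization.Away r)
      (algebraMap P (Localization.Away r) '' (I : Set P))) := h
  rw [Submodule.fg_span_iff_fg_span_finset_subset] at h'
  obtain ⟨s', hs', hsp⟩ := h'
  obtain ⟨s, hs, rfl⟩ : ∃ s : Finset P, (s : Set P) ⊆ I ∧ s.image (algebraMap P _) = s' := by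
    have := Finset.subset_set_image_iff.mp hs'
    obtain ⟨s, hs1, hs2⟩ := this
    exact ⟨s, hs1, hs2⟩
  refine ⟨s, hs, fun x hx => ?_⟩
  have h1 : algebraMap P (Localization.Away r) x ∈
      Ideal.map (algebraMap P (Localization.Away r)) (Ideal.span (s : Set P)) := by
    rw [Ideal.map_span, ← Finset.coe_image]
    change _ ∈ Submodule.span _ _
    rw [← hsp]
    exact Submodule.subset_span ⟨x, hx, rfl⟩
  rw [IsLocalization.mem_map_algebraMap_iff (Submonoid.powers r)] at h1
  obtain ⟨⟨⟨y, hy⟩, ⟨_, k, rfl⟩⟩, hyk⟩ := h1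
  simp only at hyk
  rw [← map_mul, IsLocalization.eq_iff_exists (Submonoid.powers r)] at hyk
  obtain ⟨⟨_, c, rfl⟩, hc⟩ := hyk
  refine ⟨c + k, ?_⟩
  have : r ^ (c + k) * x = r ^ c * y := by
    rw [← hc]; ring
  rw [this]
  exact Ideal.mul_mem_left _ _ hy

theorem exists_finset_ker_of_fp {A P B : Type u} [CommRing A] [CommRing P] [CommRing B]
    [Algebra A P] [Algebra A B] (ψ : P →ₐ[A] B) (hψ : Surjective ψ) (r : P) (b : B)
    (hb : ψ r = b) [Algebra.FinitePresentation A P]
    [hfp : Algebra.FinitePresentation A (Localization.Away b)] :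
    ∃ s : Finset P, (s : Set P) ⊆ RingHom.ker ψ.toRingHom ∧
      ∀ x ∈ RingHom.ker ψ.toRingHom, ∃ n : ℕ, r ^ n * x ∈ Ideal.span (s : Set P) := by
  subst hb
  apply exists_finset_of_map_fg r
  have h1 : (RingHom.ker (Localization.awayMapₐ ψ r).toRingHom).FG :=
    Algebra.FinitePresentation.ker_fG_of_surjective (Localization.awayMapₐ ψ r)
      (IsLocalization.Away.mapₐ_surjective_of_surjective _ hψ)
  convert h1 using 1
  apply le_antisymm
  · rw [Ideal.map_le_iff_le_comap]
    intro x hx
    rw [Ideal.mem_comap, RingHom.mem_ker]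
    have : (Localization.awayMapₐ ψ r) (algebraMap P _ x) = algebraMap B _ (ψ x) := by
      simp only [Localization.awayMapₐ, IsLocalization.Away.mapₐ, AlgHom.coe_mk]
      exact IsLocalization.map_eq _ x
    have hx' : ψ x = 0 := hx
    rw [AlgHom.toRingHom_eq_coe, RingHom.coe_coe, this, hx', map_zero]
  · intro x hx
    exact mem_map_ker_of_awayMap_eq_zero ψ.toRingHom r x hx

section nat
variable {R R' : Type u} [CommRing R] [CommRing R'] [Algebra R R']
variable {A A' : Type u} [CommRing A] [CommRing A'] [Algebra R A] [Algebra R A'] [Algebra A A']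
  [Algebra R' A'] [IsScalarTower R A A'] [IsScalarTower R R' A'] [Algebra.IsPushout R R' A A']
variable {M₁ M₂ : Type u} [AddCommGroup M₁] [AddCommGroup M₂]
  [Module A M₁] [Module A M₂] [Module R M₁] [Module R M₂]
  [IsScalarTower R A M₁] [IsScalarTower R A M₂]

theorem lTensor_cancelBaseChange_symm (g : M₁ →ₗ[A] M₂) (z : R' ⊗[R] M₁) :
    (g.lTensor A') ((Algebra.IsPushout.cancelBaseChange R R' A A' M₁).symm z) =
      (Algebra.IsPushout.cancelBaseChange R R' A A' M₂).symm
        ((g.restrictScalars R).lTensor R' z) := by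
  induction z using TensorProduct.induction_on with
  | zero => simp
  | add a b ha hb => simp only [map_add, ha, hb]
  | tmul r' m =>
    rw [LinearMap.lTensor_tmul, Algebra.IsPushout.cancelBaseChange_symm_tmul,
      Algebra.IsPushout.cancelBaseChange_symm_tmul, LinearMap.lTensor_tmul]
    rfl

theorem lTensor_injective_of_lTensor_A' (g : M₁ →ₗ[A] M₂) (h : Injective (g.lTensor A')) :
    Injective ((g.restrictScalars R).lTensor R') := by
  intro x y hxy
  apply (Algebra.IsPushout.cancelBaseChange R R' A A' M₁).symm.injective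
  apply h
  rw [lTensor_cancelBaseChange_symm, lTensor_cancelBaseChange_symm, hxy]

end nat

attribute [local instance] Algebra.TensorProduct.rightAlgebra in
theorem exists_finset_ker_of_map_fp (R : Type u) [CommRing R] (R' : Type u) [CommRing R']
    [Algebra R R'] (A P B : Type u) [CommRing A] [CommRing P] [CommRing B]
    [Algebra R A] [Algebra R P] [Algebra R B] [Algebra A P] [Algebra A B]
    [IsScalarTower R A P] [IsScalarTower R A B]
    (ψ : P →ₐ[A] B) (hψ : Surjective ψ) [Module.Flat A B] [Algebra.FinitePresentation A P]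
    (h2 : (Algebra.TensorProduct.map (AlgHom.id R R')
      (IsScalarTower.toAlgHom R A B)).toRingHom.FinitePresentation) :
    ∃ t : Finset (RingHom.ker ψ.toRingHom),
      ∀ N : Submodule P (RingHom.ker ψ.toRingHom), (t : Set (RingHom.ker ψ.toRingHom)) ⊆ N →
        Surjective ((N.restrictScalars R).subtype.lTensor R') := by
  classical
  -- the R-linear maps
  obtain ⟨ι₀, hι₀⟩ : ∃ ι₀ : (RingHom.ker ψ.toRingHom) →ₗ[A] P, ∀ x, ι₀ x = x.1 :=
    ⟨(RingHom.ker ψ.toRingHom).subtype.restrictScalars A, fun _ => rfl⟩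
  have hι₀inj : Injective ι₀ := fun x y h => Subtype.ext (by rw [← hι₀, ← hι₀, h])
  have hex : Function.Exact ι₀ ψ.toLinearMap := by
    intro x
    constructor
    · intro hx
      exact ⟨⟨x, hx⟩, hι₀ _⟩
    · rintro ⟨y, rfl⟩
      rw [hι₀]
      exact y.2
  have hflatinj : Injective (ι₀.lTensor (R' ⊗[R] A)) :=
    LinearMap.lTensor_injective_of_exact_of_flat ψ.toLinearMap hψ ι₀ hι₀inj hex (R' ⊗[R] A)
  have hinj' : Injective ((ι₀.restrictScalars R).lTensor R') :=
    lTensor_injective_of_lTensor_A' (A' := R' ⊗[R] A) ι₀ hflatinj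
  have hex' : Function.Exact ((ι₀.restrictScalars R).lTensor R')
      ((ψ.toLinearMap.restrictScalars R).lTensor R') :=
    lTensor_exact R' (show Function.Exact (ι₀.restrictScalars R)
      (ψ.toLinearMap.restrictScalars R) from hex) hψ
  -- the ring-level kernel is finitely generated
  let algP : Algebra (R' ⊗[R] A) (R' ⊗[R] P) := (Algebra.TensorProduct.map (AlgHom.id R R')
    (IsScalarTower.toAlgHom R A P)).toRingHom.toAlgebra
  let algB : Algebra (R' ⊗[R] A) (R' ⊗[R] B) := (Algebra.TensorProduct.map (AlgHom.id R R')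
    (IsScalarTower.toAlgHom R A B)).toRingHom.toAlgebra
  have fpP : Algebra.FinitePresentation (R' ⊗[R] A) (R' ⊗[R] P) :=
    map_id_of_isStableUnderBaseChange RingHom.finitePresentation_isStableUnderBaseChange
      RingHom.finitePresentation_respectsIso R R' A P
      (show (algebraMap A P).FinitePresentation from
        RingHom.finitePresentation_algebraMap.mpr inferInstance)
  have fpB : Algebra.FinitePresentation (R' ⊗[R] A) (R' ⊗[R] B) := h2
  let Ψ : R' ⊗[R] P →ₐ[R' ⊗[R] A] R' ⊗[R] B :=
    { (Algebra.TensorProduct.map (AlgHom.id R R') (ψ.restrictScalars R)).toRingHom with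
      commutes' := fun x => by
        change (Algebra.TensorProduct.map (AlgHom.id R R') (ψ.restrictScalars R))
          ((Algebra.TensorProduct.map (AlgHom.id R R') (IsScalarTower.toAlgHom R A P)) x) =
          (Algebra.TensorProduct.map (AlgHom.id R R') (IsScalarTower.toAlgHom R A B)) x
        induction x using TensorProduct.induction_on with
        | zero => simp
        | add a b ha hb => rw [map_add, map_add, map_add, ha, hb]
        | tmul r' a => simp }
  have hΨ : ∀ z, Ψ z = (ψ.toLinearMap.restrictScalars R).lTensor R' z := by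
    intro z
    induction z using TensorProduct.induction_on with
    | zero => simp
    | add a b ha hb => rw [map_add, map_add, ha, hb]
    | tmul r' p => rfl
  have hΨsurj : Surjective Ψ := by
    intro y
    obtain ⟨z, rfl⟩ := LinearMap.lTensor_surjective R' (show Surjective
      (ψ.toLinearMap.restrictScalars R) from hψ) y
    exact ⟨z, hΨ z⟩
  have hK : (RingHom.ker Ψ.toRingHom).FG :=
    Algebra.FinitePresentation.ker_fG_of_surjective Ψ hΨsurj
  obtain ⟨G, hG⟩ := hK
  have hGrange : (G : Set (R' ⊗[R] P)) ⊆ ((ι₀.restrictScalars R).lTensor R') '' Set.univ := by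
    intro g hg
    have h1 : g ∈ RingHom.ker Ψ.toRingHom := by rw [← hG]; exact Ideal.subset_span hg
    have h2 : (ψ.toLinearMap.restrictScalars R).lTensor R' g = 0 := by rw [← hΨ]; exact h1
    obtain ⟨w, hw⟩ := (hex' g).mp h2
    exact ⟨w, trivial, hw⟩
  obtain ⟨W, -, hW⟩ := Finset.subset_set_image_iff.mp hGrange
  choose sz hsz using exists_finset_tmul_span (R := R) (R' := R') (RingHom.ker ψ.toRingHom)
  refine ⟨W.biUnion sz, fun N hN => ?_⟩
  have hmul : ∀ (x : R' ⊗[R] P) (w : R' ⊗[R] (N.restrictScalars R)),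
      x * ((ι₀.restrictScalars R).lTensor R' ((N.restrictScalars R).subtype.lTensor R' w)) ∈
        LinearMap.range (((ι₀.restrictScalars R).lTensor R') ∘ₗ
          ((N.restrictScalars R).subtype.lTensor R')) := by
    intro x w
    induction x using TensorProduct.induction_on with
    | zero => rw [zero_mul]; exact Submodule.zero_mem _
    | add a b ha hb => rw [add_mul]; exact Submodule.add_mem _ ha hb
    | tmul r' p =>
      induction w using TensorProduct.induction_on with
      | zero => rw [map_zero, map_zero, mul_zero]; exact Submodule.zero_mem _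
      | add a b ha hb => rw [map_add, map_add, mul_add]; exact Submodule.add_mem _ ha hb
      | tmul r'' n =>
        refine ⟨(r' * r'') ⊗ₜ[R] (⟨p • n.1, N.smul_mem p n.2⟩ : N.restrictScalars R), ?_⟩
        rw [LinearMap.comp_apply, LinearMap.lTensor_tmul, LinearMap.lTensor_tmul,
          LinearMap.lTensor_tmul, LinearMap.lTensor_tmul]
        show (r' * r'') ⊗ₜ[R] ι₀ (p • n.1) = (r' ⊗ₜ[R] p) * (r'' ⊗ₜ[R] ι₀ n.1)
        rw [hι₀, hι₀, Algebra.TensorProduct.tmul_mul_tmul]
        rfl
  have hKmem : ∀ y ∈ Ideal.span (G : Set (R' ⊗[R] P)),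
      y ∈ LinearMap.range (((ι₀.restrictScalars R).lTensor R') ∘ₗ
          ((N.restrictScalars R).subtype.lTensor R')) := by
    intro y hy
    induction hy using Submodule.span_induction with
    | mem g hg =>
      rw [← hW, Finset.coe_image] at hg
      obtain ⟨w, hw, rfl⟩ := hg
      have h1 : Submodule.span R' ((fun m : RingHom.ker ψ.toRingHom => (1 : R') ⊗ₜ[R] m) ''
          (sz w : Set (RingHom.ker ψ.toRingHom))) ≤
          LinearMap.range (((N.restrictScalars R).subtype).baseChange R') := by
        apply Submodule.span_le.mpr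
        rintro _ ⟨m, hm, rfl⟩
        exact ⟨(1 : R') ⊗ₜ[R] (⟨m, hN (by
          rw [Finset.coe_biUnion]
          exact Set.mem_biUnion hw hm)⟩ : N.restrictScalars R), rfl⟩
      obtain ⟨w', hw'⟩ := h1 (hsz w)
      exact ⟨w', by rw [LinearMap.comp_apply]; exact congrArg _ hw'⟩
    | zero => exact Submodule.zero_mem _
    | add a b _ _ ha hb => exact Submodule.add_mem _ ha hb
    | smul x a _ ha =>
      obtain ⟨a', rfl⟩ := ha
      rw [LinearMap.comp_apply, smul_eq_mul]
      exact hmul x a'
  intro z
  have hz : (ι₀.restrictScalars R).lTensor R' z ∈ Ideal.span (G : Set (R' ⊗[R] P)) := by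
    rw [hG]
    show Ψ ((ι₀.restrictScalars R).lTensor R' z) = 0
    rw [hΨ]
    exact hex'.apply_apply_eq_zero z
  obtain ⟨w', hw'⟩ := hKmem _ hz
  exact ⟨w', hinj' hw'⟩

end Groth.Agent.Helper8.BL
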