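import Mathlib
import Groth.Agent.Helper8.BL12
import Groth.Agent.S10722

set_option autoImplicit false
universe u
open TensorProduct Function

namespace Groth.Agent.Helper8.BL

theorem fp_away_over_base (A B : Type u) [CommRing A] [CommRing B] [Algebra A B] (r : A)
    (h1 : (Localization.awayMap (algebraMap A B) r).FinitePresentation) :
    Algebra.FinitePresentation A (Localization.Away (algebraMap A B r)) := by
  algebraize [Localization.awayMap (algebraMap A B) r]
  have : IsScalarTower A (Localization.Away r) (Localization.Away (algebraMap A B r)) :=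
    IsScalarTower.of_algebraMap_eq' (by
      rw [IsScalarTower.algebraMap_eq A B (Localization.Away (algebraMap A B r)),
        RingHom.algebraMap_toAlgebra]
      exact (IsLocalization.map_comp _).symm)
  have : Algebra.FinitePresentation (Localization.Away r) (Localization.Away (algebraMap A B r)) := h1
  have : Algebra.FinitePresentation A (Localization.Away r) :=
    IsLocalization.Away.finitePresentation r
  exact Algebra.FinitePresentation.trans A (Localization.Away r) _

theorem fp_of_glue (R : Type u) [CommRing R] (R' : Type u) [CommRing R'] [Algebra R R'] (f : R)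
    (hRR' : EtGlue.IsGlueingPair R R' f) (A B : Type u) [CommRing A] [Algebra R A] [CommRing B]
    [Algebra R B] [Algebra A B] [IsScalarTower R A B] [Module.Flat A B] [Algebra.FiniteType A B]
    (h1p : (Localization.awayMap (algebraMap A B) (algebraMap R A f)).FinitePresentation)
    (h2p : (Algebra.TensorProduct.map (AlgHom.id R R')
      (IsScalarTower.toAlgHom R A B)).toRingHom.FinitePresentation) :
    Algebra.FinitePresentation A B := by
  classical
  obtain ⟨n, ψ, hψ⟩ := Algebra.FiniteType.iff_quotient_mvPolynomial''.mp
    (inferInstance : Algebra.FiniteType A B)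
  have hfpB := fp_away_over_base A B (algebraMap R A f) h1p
  obtain ⟨s, hs, hs'⟩ := exists_finset_ker_of_fp ψ hψ (algebraMap A _ (algebraMap R A f))
    (algebraMap A B (algebraMap R A f)) (ψ.commutes _)
  obtain ⟨t, ht⟩ := exists_finset_ker_of_map_fp R R' A (MvPolynomial (Fin n) A) B ψ hψ h2p
  have hSJ : ((s ∪ t.image Subtype.val : Finset (MvPolynomial (Fin n) A)) :
      Set (MvPolynomial (Fin n) A)) ⊆
      ((RingHom.ker ψ.toRingHom : Ideal (MvPolynomial (Fin n) A)) : Set (MvPolynomial (Fin n) A)) := by
    intro x hx
    rw [Finset.coe_union, Set.mem_union] at hx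
    rcases hx with hx | hx
    · exact hs hx
    · rw [Finset.coe_image] at hx
      obtain ⟨y, -, rfl⟩ := hx
      exact y.2
  have key := eq_top_of_tors_of_surj hRR'.1
    ((Submodule.comap (RingHom.ker ψ.toRingHom).subtype
      (Ideal.span ((s ∪ t.image Subtype.val : Finset (MvPolynomial (Fin n) A)) : Set _))).restrictScalars R)
    ?_ (ht _ ?_)
  · have hJ : RingHom.ker ψ.toRingHom =
        Ideal.span ((s ∪ t.image Subtype.val : Finset (MvPolynomial (Fin n) A)) : Set _) := by
      apply le_antisymm
      · intro j hj
        have : (⟨j, hj⟩ : RingHom.ker ψ.toRingHom) ∈ (Submodule.comap (RingHom.ker ψ.toRingHom).subtype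
            (Ideal.span ((s ∪ t.image Subtype.val : Finset (MvPolynomial (Fin n) A)) : Set _))).restrictScalars R := by
          rw [key]; trivial
        exact this
      · exact Ideal.span_le.mpr hSJ
    exact Algebra.FinitePresentation.of_surjective hψ ⟨_, hJ.symm⟩
  · intro m
    obtain ⟨k, hk⟩ := hs' m.1 m.2
    refine ⟨k, ?_⟩
    rw [Submodule.restrictScalars_mem, Submodule.mem_comap, Submodule.subtype_apply,
      Submodule.coe_smul_of_tower, Algebra.smul_def, map_pow,
      IsScalarTower.algebraMap_apply R A (MvPolynomial (Fin n) A)]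
    exact Ideal.span_mono (by simp) hk
  · intro x hx
    rw [SetLike.mem_coe, Submodule.mem_comap]
    apply Ideal.subset_span
    rw [Finset.coe_union, Finset.coe_image]
    exact Or.inr ⟨x, hx, rfl⟩

theorem s10723 (R : Type u) [CommRing R] (R' : Type u) [CommRing R'] [Algebra R R'] (f : R)
    (hRR' : EtGlue.IsGlueingPair R R' f) (A B : Type u) [CommRing A] [Algebra R A] [CommRing B] [Algebra R B]
    (hA : EtGlue.IsGlueable R R' f A) (hB : EtGlue.IsGlueable R R' f B) (φ : A →ₐ[R] B) :
    (φ.toRingHom.Flat ∧ φ.toRingHom.FinitePresentation) ↔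
      ((Localization.awayMap φ.toRingHom (algebraMap R A f)).Flat ∧ (Localization.awayMap φ.toRingHom (algebraMap R A f)).FinitePresentation) ∧
        ((Algebra.TensorProduct.map (AlgHom.id R R') φ).toRingHom.Flat ∧ (Algebra.TensorProduct.map (AlgHom.id R R') φ).toRingHom.FinitePresentation) := by
  constructor
  · rintro ⟨hfl, hfp⟩
    obtain ⟨a, b⟩ := flat_awayMap_lTensor R R' f A B φ hfl
    algebraize [φ.toRingHom]
    have : IsScalarTower R A B := IsScalarTower.of_algebraMap_eq (fun r => (φ.commutes r).symm)
    have hφ : IsScalarTower.toAlgHom R A B = φ := AlgHom.ext fun _ => rfl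
    refine ⟨⟨a, RingHom.finitePresentation_localizationPreserves.away _ _ _ _ hfp⟩, ⟨b, ?_⟩⟩
    rw [← hφ]
    exact map_id_of_isStableUnderBaseChange RingHom.finitePresentation_isStableUnderBaseChange
      RingHom.finitePresentation_respectsIso R R' A B hfp
  · rintro ⟨⟨h1f, h1p⟩, ⟨h2f, h2p⟩⟩
    have hfl : φ.toRingHom.Flat := (s12188 R R' f hRR' A B hA φ).2 ⟨h1f, h2f⟩
    have hft : φ.toRingHom.FiniteType := (Groth.Agent.S10722.result R R' f hRR' A B hA hB φ).2
      ⟨RingHom.FiniteType.of_finitePresentation h1p, RingHom.FiniteType.of_finitePresentation h2p⟩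
    refine ⟨hfl, ?_⟩
    algebraize [φ.toRingHom]
    have : IsScalarTower R A B := IsScalarTower.of_algebraMap_eq (fun r => (φ.commutes r).symm)
    have hφ : IsScalarTower.toAlgHom R A B = φ := AlgHom.ext fun _ => rfl
    have : Module.Flat A B := hfl
    have : Algebra.FiniteType A B := hft
    rw [← hφ] at h2p
    exact fp_of_glue R R' f hRR' A B h1p h2p

end Groth.Agent.Helper8.BL
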