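import Mathlib
import Groth.Agent.Helper8.BL13

set_option autoImplicit false
universe u
open TensorProduct Function

namespace Groth.Agent.Helper8.BL

open KaehlerDifferential in
theorem kaehler_tors_of_awayMap_unramified (A B : Type u) [CommRing A] [CommRing B] [Algebra A B]
    (r : A) (h1 : (Localization.awayMap (algebraMap A B) r).FormallyUnramified)
    (ω : Ω[B⁄A]) : ∃ n : ℕ, r ^ n • ω = 0 := by
  algebraize [Localization.awayMap (algebraMap A B) r]
  have : IsScalarTower A (Localization.Away r) (Localization.Away (algebraMap A B r)) :=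
    IsScalarTower.of_algebraMap_eq' (by
      rw [IsScalarTower.algebraMap_eq A B (Localization.Away (algebraMap A B r)),
        RingHom.algebraMap_toAlgebra]
      exact (IsLocalization.map_comp _).symm)
  have : Algebra.FormallyUnramified (Localization.Away r) (Localization.Away (algebraMap A B r)) := h1
  have : Algebra.FormallyUnramified A (Localization.Away r) :=
    Algebra.FormallyUnramified.of_isLocalization (Submonoid.powers r)
  have : Algebra.FormallyUnramified A (Localization.Away (algebraMap A B r)) :=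
    Algebra.FormallyUnramified.comp A (Localization.Away r) _
  have hsub : Subsingleton Ω[Localization.Away (algebraMap A B r)⁄A] :=
    this.subsingleton_kaehlerDifferential
  have hloc := KaehlerDifferential.isLocalizedModule_map A B
    (Localization.Away (algebraMap A B r)) (Submonoid.powers (algebraMap A B r))
  obtain ⟨⟨_, n, rfl⟩, hc⟩ := (IsLocalizedModule.eq_zero_iff (Submonoid.powers (algebraMap A B r))
    (KaehlerDifferential.map A A B (Localization.Away (algebraMap A B r)))).mp
    (Subsingleton.elim (KaehlerDifferential.map A A B (Localization.Away (algebraMap A B r)) ω) 0)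
  refine ⟨n, ?_⟩
  rw [← algebraMap_smul B, map_pow]
  exact hc

open KaehlerDifferential in
attribute [local instance] Algebra.TensorProduct.rightAlgebra in
theorem kaehler_baseChange_subsingleton (R : Type u) [CommRing R] (R' : Type u) [CommRing R']
    [Algebra R R'] (A B : Type u) [CommRing A] [Algebra R A] [CommRing B] [Algebra R B]
    [Algebra A B] [IsScalarTower R A B]
    (h2 : (Algebra.TensorProduct.map (AlgHom.id R R')
      (IsScalarTower.toAlgHom R A B)).toRingHom.FormallyUnramified) :
    Subsingleton (R' ⊗[R] Ω[B⁄A]) := by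
  algebraize [(Algebra.TensorProduct.map (AlgHom.id R R') (IsScalarTower.toAlgHom R A B)).toRingHom]
  let e : R' ⊗[R] B ≃ₐ[R' ⊗[R] A] (R' ⊗[R] A) ⊗[A] B :=
    { __ := (Algebra.IsPushout.cancelBaseChangeAlg R R' A (R' ⊗[R] A) B).symm,
      commutes' x := congr($(Algebra.IsPushout.cancelBaseChange_symm_comp_lTensor R A B R') x) }
  have hu : Algebra.FormallyUnramified (R' ⊗[R] A) (R' ⊗[R] B) := h2
  have hu' : Algebra.FormallyUnramified (R' ⊗[R] A) ((R' ⊗[R] A) ⊗[A] B) := .of_equiv e
  have hsub : Subsingleton Ω[((R' ⊗[R] A) ⊗[A] B)⁄(R' ⊗[R] A)] :=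
    hu'.subsingleton_kaehlerDifferential
  have e1 := KaehlerDifferential.tensorKaehlerEquivBase A (R' ⊗[R] A) B ((R' ⊗[R] A) ⊗[A] B)
  have e2 := Algebra.IsPushout.cancelBaseChange R R' A (R' ⊗[R] A) Ω[B⁄A]
  exact (e2.symm.toEquiv.trans e1.toEquiv).subsingleton

open KaehlerDifferential in
theorem unramified_of_glue {R R' : Type u} [CommRing R] [CommRing R'] [Algebra R R'] {f : R}
    (hq : EtGlue.QuotPowBijective R R' f) (A B : Type u) [CommRing A] [Algebra R A] [CommRing B]
    [Algebra R B] [Algebra A B] [IsScalarTower R A B]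
    (h1u : (Localization.awayMap (algebraMap A B) (algebraMap R A f)).FormallyUnramified)
    (h2u : (Algebra.TensorProduct.map (AlgHom.id R R')
      (IsScalarTower.toAlgHom R A B)).toRingHom.FormallyUnramified) :
    Algebra.FormallyUnramified A B := by
  have hT : ∀ ω : Ω[B⁄A], ∃ n : ℕ, f ^ n • ω = 0 := by
    intro ω
    obtain ⟨n, hn⟩ := kaehler_tors_of_awayMap_unramified A B (algebraMap R A f) h1u ω
    exact ⟨n, by rw [← algebraMap_smul A, map_pow]; exact hn⟩
  have hsub := kaehler_baseChange_subsingleton R R' A B h2u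
  exact ⟨⟨fun x y => mk_one_injective hq hT (Subsingleton.elim _ _)⟩⟩

theorem s10724 (R : Type u) [CommRing R] (R' : Type u) [CommRing R'] [Algebra R R'] (f : R)
    (hRR' : EtGlue.IsGlueingPair R R' f) (A B : Type u) [CommRing A] [Algebra R A] [CommRing B] [Algebra R B]
    (hA : EtGlue.IsGlueable R R' f A) (hB : EtGlue.IsGlueable R R' f B) (φ : A →ₐ[R] B) :
    φ.toRingHom.Etale ↔ (Localization.awayMap φ.toRingHom (algebraMap R A f)).Etale ∧
      (Algebra.TensorProduct.map (AlgHom.id R R') φ).toRingHom.Etale := by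
  constructor
  · intro h
    algebraize [φ.toRingHom]
    have : IsScalarTower R A B := IsScalarTower.of_algebraMap_eq (fun r => (φ.commutes r).symm)
    have hφ : IsScalarTower.toAlgHom R A B = φ := AlgHom.ext fun _ => rfl
    refine ⟨RingHom.Etale.isStableUnderBaseChange.localizationPreserves.away _ _ _ _ h, ?_⟩
    rw [← hφ]
    exact map_id_of_isStableUnderBaseChange RingHom.Etale.isStableUnderBaseChange
      RingHom.Etale.respectsIso R R' A B h
  · rintro ⟨h1, h2⟩
    rw [RingHom.Etale.iff_flat_and_formallyUnramified] at h1 h2 ⊢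
    obtain ⟨h1f, h1u, h1p⟩ := h1
    obtain ⟨h2f, h2u, h2p⟩ := h2
    obtain ⟨hfl, hfp⟩ := (s10723 R R' f hRR' A B hA hB φ).2 ⟨⟨h1f, h1p⟩, ⟨h2f, h2p⟩⟩
    refine ⟨hfl, ?_, hfp⟩
    algebraize [φ.toRingHom]
    have : IsScalarTower R A B := IsScalarTower.of_algebraMap_eq (fun r => (φ.commutes r).symm)
    have hφ : IsScalarTower.toAlgHom R A B = φ := AlgHom.ext fun _ => rfl
    rw [← hφ] at h2u
    exact unramified_of_glue hRR'.1 A B h1u h2u

end Groth.Agent.Helper8.BL
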