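import Mathlib
import Groth.Prelude.Def_EtGlue
import Groth.Agent.Helper8.BL3

set_option autoImplicit false
universe u
open TensorProduct

namespace Groth.Agent.Helper8.BL

variable {R R' : Type u} [CommRing R] [CommRing R'] [Algebra R R'] {f : R}

/-- glueability transports along linear equivalences (glueing pair case) -/
theorem glueable_of_linearEquiv (hRR : EtGlue.IsGlueingPair R R' f) {M N : Type u}
    [AddCommGroup M] [Module R M] [AddCommGroup N] [Module R N] (ε : M ≃ₗ[R] N)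
    (hN : EtGlue.IsGlueable R R' f N) : EtGlue.IsGlueable R R' f M := by
  rw [(s2005 R R' f hRR.1 M).2 hRR]
  rw [(s2005 R R' f hRR.1 N).2 hRR] at hN
  rintro m ⟨n, hm⟩ h1
  apply ε.injective
  rw [map_zero]
  apply hN (ε m) ⟨n, by rw [← map_smul, hm, map_zero]⟩
  have := congrArg (LinearMap.lTensor R' ε.toLinearMap) h1
  simpa using this

section alg
variable (hRR : EtGlue.IsGlueingPair R R' f) (A₁ : Type u) [CommRing A₁] [Algebra R A₁]
    (h₁ : IsUnit (algebraMap R A₁ f)) (A' : Type u) [CommRing A'] [Algebra R A'] [Algebra R' A']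
    [IsScalarTower R R' A'] (φ : Localization.Away (algebraMap R A' f) ≃ₐ[R'] R' ⊗[R] A₁)

/-- the glued algebra -/
noncomputable def gluedAlg : Subalgebra R (A' × A₁) :=
  AlgHom.equalizer
    ((φ.toAlgHom.restrictScalars R).comp
      ((IsScalarTower.toAlgHom R A' (Localization.Away (algebraMap R A' f))).comp
        (AlgHom.fst R A' A₁)))
    ((Algebra.TensorProduct.includeRight : A₁ →ₐ[R] R' ⊗[R] A₁).comp (AlgHom.snd R A' A₁))

theorem mem_gluedAlg (p : A' × A₁) : p ∈ gluedAlg A₁ A' φ ↔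
    φ (algebraMap A' (Localization.Away (algebraMap R A' f)) p.1) = (1 : R') ⊗ₜ[R] p.2 := by
  rw [gluedAlg, AlgHom.mem_equalizer]
  rfl

instance awayInst : IsLocalization.Away (algebraMap R' A' (algebraMap R R' f))
    (Localization.Away (algebraMap R A' f)) := by
  rw [← IsScalarTower.algebraMap_apply]
  infer_instance

/-- the module-level glueing datum -/
noncomputable def αOf :
    LocalizedModule (Submonoid.powers (algebraMap R R' f)) A' ≃ₗ[R'] R' ⊗[R] A₁ :=
  (IsLocalizedModule.iso (Submonoid.powers (algebraMap R R' f))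
    (IsScalarTower.toAlgHom R' A' (Localization.Away (algebraMap R A' f))).toLinearMap) ≪≫ₗ
    φ.toLinearEquiv

theorem αOf_mk (x : A') :
    αOf A₁ A' φ (LocalizedModule.mkLinearMap (Submonoid.powers (algebraMap R R' f)) A' x) =
      φ (algebraMap A' (Localization.Away (algebraMap R A' f)) x) := by
  rw [αOf, LinearEquiv.trans_apply, LocalizedModule.mkLinearMap_apply, IsLocalizedModule.iso_mk_one]
  rfl

theorem toSubmodule_gluedAlg :
    Subalgebra.toSubmodule (gluedAlg A₁ A' φ) = glued (αOf A₁ A' φ) := by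
  ext p
  rw [Subalgebra.mem_toSubmodule, mem_gluedAlg, mem_glued, αOf_mk]

/-- identification of the glued algebra with the glued module -/
noncomputable def εOf : gluedAlg A₁ A' φ ≃ₗ[R] glued (αOf A₁ A' φ) :=
  LinearEquiv.ofEq (Subalgebra.toSubmodule (gluedAlg A₁ A' φ)) (glued (αOf A₁ A' φ))
    (toSubmodule_gluedAlg A₁ A' φ)

theorem εOf_fst (a : gluedAlg A₁ A' φ) : pr₁ (αOf A₁ A' φ) (εOf A₁ A' φ a) = (a : A' × A₁).1 := rfl

theorem εOf_snd (a : gluedAlg A₁ A' φ) : pr₂ (αOf A₁ A' φ) (εOf A₁ A' φ a) = (a : A' × A₁).2 := rfl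

include h₁ in
theorem smul_bijective : Function.Bijective fun x : A₁ => f • x := by
  have : (fun x : A₁ => f • x) = fun x => algebraMap R A₁ f * x := by
    ext x
    rw [Algebra.smul_def]
  rw [this]
  exact IsUnit.isUnit_iff_mulLeft_bijective.mp h₁

/-- the algebra map `R' ⊗ A → A'` -/
noncomputable def e'Alg : R' ⊗[R] gluedAlg A₁ A' φ →ₐ[R'] A' :=
  Algebra.TensorProduct.lift (Algebra.ofId R' A')
    ((AlgHom.fst R A' A₁).comp (gluedAlg A₁ A' φ).val) (fun _ _ => Commute.all _ _)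

theorem e'Alg_eq (ξ : R' ⊗[R] gluedAlg A₁ A' φ) :
    e'Alg A₁ A' φ ξ = e' (αOf A₁ A' φ) (LinearMap.lTensor R' (εOf A₁ A' φ).toLinearMap ξ) := by
  induction ξ using TensorProduct.induction_on with
  | zero => simp
  | add a b ha hb => rw [map_add, ha, hb, map_add, map_add]
  | tmul r' a =>
    rw [LinearMap.lTensor_tmul, e'_tmul, e'Alg, Algebra.TensorProduct.lift_tmul]
    simp only [LinearEquiv.coe_coe, εOf_fst, Algebra.ofId_apply, AlgHom.comp_apply,
      Subalgebra.coe_val, AlgHom.fst_apply]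
    rw [Algebra.smul_def]

include hRR h₁ in
theorem e'Alg_bijective : Function.Bijective (e'Alg A₁ A' φ) := by
  have hf := smul_bijective A₁ h₁
  have h1 : (e'Alg A₁ A' φ : R' ⊗[R] gluedAlg A₁ A' φ → A') =
      (e' (αOf A₁ A' φ)) ∘ (LinearMap.lTensor R' (εOf A₁ A' φ).toLinearMap) := by
    ext ξ
    exact e'Alg_eq A₁ A' φ ξ
  rw [h1]
  refine Function.Bijective.comp ⟨e'_injective _ hf hRR, e'_surjective _ hRR.1⟩ ?_
  exact (LinearEquiv.lTensor R' (εOf A₁ A' φ)).bijective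

include hRR h₁ in
theorem s10727_aux :
    ∃ (A : Type u) (_ : CommRing A) (_ : Algebra R A) (_ : EtGlue.IsGlueable R R' f A)
      (e₁ : Localization.Away (algebraMap R A f) ≃ₐ[R] A₁) (e' : R' ⊗[R] A ≃ₐ[R'] A'),
      ∀ a : A, φ (algebraMap A' (Localization.Away (algebraMap R A' f)) (e' ((1 : R') ⊗ₜ[R] a))) =
        (1 : R') ⊗ₜ[R] e₁ (algebraMap A (Localization.Away (algebraMap R A f)) a) := by
  have hf := smul_bijective A₁ h₁
  let g : gluedAlg A₁ A' φ →ₐ[R] A₁ := (AlgHom.snd R A' A₁).comp (gluedAlg A₁ A' φ).val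
  letI : Algebra (gluedAlg A₁ A' φ) A₁ := g.toRingHom.toAlgebra
  haveI : IsScalarTower R (gluedAlg A₁ A' φ) A₁ :=
    IsScalarTower.of_algebraMap_eq (fun r => (g.commutes r).symm)
  haveI := isLocalizedModule_pr₂ (αOf A₁ A' φ) hf
  have hloc : IsLocalizedModule (Submonoid.powers f)
      (IsScalarTower.toAlgHom R (gluedAlg A₁ A' φ) A₁).toLinearMap := by
    have : (IsScalarTower.toAlgHom R (gluedAlg A₁ A' φ) A₁).toLinearMap =
        pr₂ (αOf A₁ A' φ) ∘ₗ (εOf A₁ A' φ).toLinearMap := by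
      ext a
      rfl
    rw [this]
    infer_instance
  have hloc2 : IsLocalization (Algebra.algebraMapSubmonoid (gluedAlg A₁ A' φ) (Submonoid.powers f))
      A₁ := isLocalizedModule_iff_isLocalization.mp hloc
  rw [Algebra.algebraMapSubmonoid_powers] at hloc2
  haveI : IsLocalization.Away (algebraMap R (gluedAlg A₁ A' φ) f) A₁ := hloc2
  let e₁S : Localization.Away (algebraMap R (gluedAlg A₁ A' φ) f) ≃ₐ[gluedAlg A₁ A' φ] A₁ :=
    IsLocalization.algEquiv (Submonoid.powers (algebraMap R (gluedAlg A₁ A' φ) f)) _ _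
  refine ⟨gluedAlg A₁ A' φ, inferInstance, inferInstance,
    glueable_of_linearEquiv hRR (εOf A₁ A' φ) (glued_glueable _ hf hRR),
    e₁S.restrictScalars R,
    AlgEquiv.ofBijective (e'Alg A₁ A' φ) (e'Alg_bijective hRR A₁ h₁ A' φ), fun a => ?_⟩
  have h2 : e'Alg A₁ A' φ ((1 : R') ⊗ₜ[R] a) = (a : A' × A₁).1 := by
    simp [e'Alg]
  have h3 : e₁S (algebraMap (gluedAlg A₁ A' φ) _ a) = (a : A' × A₁).2 := by
    rw [e₁S.commutes]
    rfl
  show φ (algebraMap A' _ (e'Alg A₁ A' φ ((1 : R') ⊗ₜ[R] a))) =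
    (1 : R') ⊗ₜ[R] e₁S (algebraMap (gluedAlg A₁ A' φ) _ a)
  rw [h2, h3]
  exact (mem_gluedAlg A₁ A' φ a).mp a.2

end alg

theorem s10727 (R : Type u) [CommRing R] (R' : Type u) [CommRing R'] [Algebra R R']
    (f : R) (hRR' : EtGlue.IsGlueingPair R R' f) (A₁ : Type u) [CommRing A₁] [Algebra R A₁]
    (h₁ : IsUnit (algebraMap R A₁ f)) (A' : Type u) [CommRing A'] [Algebra R A'] [Algebra R' A']
    [IsScalarTower R R' A'] (φ : Localization.Away (algebraMap R A' f) ≃ₐ[R'] R' ⊗[R] A₁) :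
    ∃ (A : Type u) (_ : CommRing A) (_ : Algebra R A) (_ : EtGlue.IsGlueable R R' f A)
      (e₁ : Localization.Away (algebraMap R A f) ≃ₐ[R] A₁) (e' : R' ⊗[R] A ≃ₐ[R'] A'),
      ∀ a : A, φ (algebraMap A' (Localization.Away (algebraMap R A' f)) (e' ((1 : R') ⊗ₜ[R] a))) =
        (1 : R') ⊗ₜ[R] e₁ (algebraMap A (Localization.Away (algebraMap R A f)) a) :=
  s10727_aux hRR' A₁ h₁ A' φ

end Groth.Agent.Helper8.BL
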