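import Mathlib
import Groth.Agent.Helper8.BL6
import Groth.Agent.Helper8.BL4

set_option autoImplicit false
universe u
open TensorProduct Function

namespace Groth.Agent.Helper8.BL

theorem finite_of_exact_of_projective {A : Type u} [CommRing A] {K F X : Type u}
    [AddCommGroup K] [AddCommGroup F] [AddCommGroup X] [Module A K] [Module A F] [Module A X]
    (ι : K →ₗ[A] F) (π : F →ₗ[A] X) (hex : Exact ι π) (hπ : Surjective π) (hι : Injective ι)
    [Module.Finite A F] [Module.Finite A X] [Module.Projective A X] : Module.Finite A K := by
  have : Module.FinitePresentation A X := Module.finitePresentation_of_projective A X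
  have fg : (LinearMap.ker π).FG := Module.FinitePresentation.fg_ker π hπ
  rw [hex.linearMap_ker_eq] at fg
  have : Module.Finite A (LinearMap.range ι) := Module.Finite.iff_fg.mpr fg
  exact Module.Finite.equiv (LinearEquiv.ofInjective ι hι).symm

theorem s2003 (R R' : Type u) [CommRing R] [CommRing R'] [Algebra R R'] (f : R)
    (hRR : EtGlue.IsGlueingPair R R' f) (M : Type u) [AddCommGroup M] [Module R M] :
    (Module.Finite R M ∧ Module.Projective R M) ↔
      (Module.Finite R' (R' ⊗[R] M) ∧ Module.Projective R' (R' ⊗[R] M)) ∧
      (Module.Finite (Localization.Away f) (LocalizedModule (Submonoid.powers f) M) ∧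
        Module.Projective (Localization.Away f) (LocalizedModule (Submonoid.powers f) M)) := by
  constructor
  · rintro ⟨h1, h2⟩
    exact ⟨⟨inferInstance, inferInstance⟩, ⟨Module.Finite.of_isLocalizedModule (Submonoid.powers f)
      (LocalizedModule.mkLinearMap (Submonoid.powers f) M), inferInstance⟩⟩
  · rintro ⟨⟨h1, h2⟩, ⟨h3, h4⟩⟩
    have hfin : Module.Finite R M := (s2006 R R' f hRR.1 M).2 ⟨h1, h3⟩
    have hflat : Module.Flat R M := (s2002 R R' f hRR M).2 ⟨inferInstance, inferInstance⟩
    obtain ⟨n, π, hπ⟩ := Module.Finite.exists_fin' R M
    have hex : Function.Exact (LinearMap.ker π).subtype π := LinearMap.exact_subtype_ker_map π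
    have hι : Injective (LinearMap.ker π).subtype := Submodule.subtype_injective _
    have hK : Module.Finite R (LinearMap.ker π) := by
      refine (s2006 R R' f hRR.1 (LinearMap.ker π)).2 ⟨?_, ?_⟩
      · exact finite_of_exact_of_projective ((LinearMap.ker π).subtype.baseChange R')
          (π.baseChange R') (lTensor_exact R' hex hπ) (LinearMap.lTensor_surjective R' hπ)
          (LinearMap.lTensor_injective_of_exact_of_flat π hπ _ hι hex R')
      · have : Module.Finite (Localization.Away f)
            (LocalizedModule (Submonoid.powers f) (Fin n → R)) :=
          Module.Finite.of_isLocalizedModule (Submonoid.powers f)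
            (LocalizedModule.mkLinearMap (Submonoid.powers f) (Fin n → R))
        exact finite_of_exact_of_projective
          (LocalizedModule.map (Submonoid.powers f) (LinearMap.ker π).subtype)
          (LocalizedModule.map (Submonoid.powers f) π)
          (LocalizedModule.map_exact (Submonoid.powers f) _ π hex)
          (LocalizedModule.map_surjective (Submonoid.powers f) π hπ)
          (LocalizedModule.map_injective (Submonoid.powers f) _ hι)
    have : Module.FinitePresentation R M :=
      Module.finitePresentation_of_surjective π hπ (Module.Finite.iff_fg.mp hK)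
    exact ⟨hfin, Module.Flat.projective_of_finitePresentation⟩

end Groth.Agent.Helper8.BL
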