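import Groth.Agent.Helper8.BMPushU
import Mathlib

set_option autoImplicit false
universe u
open CategoryTheory AlgebraicGeometry Opposite Limits TopologicalSpace Topology
open BMCoh
open Groth.Agent.Helper8.BMTop Groth.Agent.Helper8.BMSch Groth.Agent.Helper8.BMColim
open Groth.Agent.Helper8.BMBasic Groth.Agent.Helper8.BMPushU

namespace Groth.Agent.Helper8.BMAtt

/-- around a maximal point of a closed subset of a Noetherian sober space, the closed subset is
contained in the closure of the point. -/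
theorem exists_open_of_maximal {X : Type*} [TopologicalSpace X] [NoetherianSpace X] [QuasiSober X]
    {F : Set X} (hF : IsClosed F) {x : X} (hmax : ∀ z ∈ F, z ⤳ x → z = x) :
    ∃ N : Set X, IsOpen N ∧ x ∈ N ∧ N ∩ F ⊆ closure {x} := by
  obtain ⟨S, hSf, hSc, hSi, rfl⟩ := NoetherianSpace.exists_finite_set_isClosed_irreducible hF
  refine ⟨(⋃ t ∈ {t ∈ S | x ∉ t}, t)ᶜ, ?_, ?_, ?_⟩
  · exact (Set.Finite.isClosed_biUnion (hSf.subset (Set.sep_subset _ _))
      (fun t ht => hSc t ht.1)).isOpen_compl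
  · intro hx
    simp only [Set.mem_setOf_eq, Set.mem_iUnion, exists_prop] at hx
    obtain ⟨t, ht, hxt⟩ := hx
    exact ht.2 hxt
  · rintro z ⟨hzN, t, htS, hzt⟩
    have hxt : x ∈ t := by
      by_contra h
      apply hzN
      simp only [Set.mem_setOf_eq, Set.mem_iUnion, exists_prop]
      exact ⟨t, ⟨htS, h⟩, hzt⟩
    obtain ⟨η, hη⟩ := QuasiSober.sober (hSi t htS) (hSc t htS)
    have : η = x := hmax η ⟨t, htS, hη.mem⟩ (hη.specializes hxt)
    rw [← this, hη.def]; exact hzt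

variable {V : ObjectProperty Scheme.{u}} [IsConstructible V] {R : Type u} [CommRing R]
  {A : Coefs R}

instance (X : Obj V) : IsNoetherian X.scheme := IsConstructible.isNoetherian X.mem

/-! ### calculus of restrictions -/

theorem resLE_comp (X : Obj V) {U U' U'' : X.scheme.Opens} (h : U ≤ U') (h' : U' ≤ U'')
    (hd : WeilCoh.dim (U : Scheme.{u}) = WeilCoh.dim (U' : Scheme.{u}))
    (hd' : WeilCoh.dim (U' : Scheme.{u}) = WeilCoh.dim (U'' : Scheme.{u})) :
    X.resLE h hd ≫ X.resLE h' hd' = X.resLE (h.trans h') (hd.trans hd') :=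
  Hom.ext (Scheme.homOfLE_homOfLE X.scheme h h')

theorem resLE_refl (X : Obj V) (U : X.scheme.Opens) : X.resLE (le_refl U) rfl = 𝟙 _ :=
  Hom.ext (Scheme.homOfLE_rfl _ _)

theorem pull_pull (T : PreTheory V R A) (X : Obj V) {U U' U'' : X.scheme.Opens} (h : U ≤ U')
    (h' : U' ≤ U'')
    (hd : WeilCoh.dim (U : Scheme.{u}) = WeilCoh.dim (U' : Scheme.{u}))
    (hd' : WeilCoh.dim (U' : Scheme.{u}) = WeilCoh.dim (U'' : Scheme.{u}))
    (M : A.Cat) (i n : ℤ) (b : T.gp (X.res U'') M i n) :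
    (T.pull (X.resLE h hd) M i n).hom ((T.pull (X.resLE h' hd') M i n).hom b) =
      (T.pull (X.resLE (h.trans h') (hd.trans hd')) M i n).hom b := by
  rw [← resLE_comp X h h' hd hd', pull_comp]
  rfl

theorem pull_refl (T : PreTheory V R A) (X : Obj V) (U : X.scheme.Opens)
    (hd : WeilCoh.dim (U : Scheme.{u}) = WeilCoh.dim (U : Scheme.{u}))
    (M : A.Cat) (i n : ℤ) (b : T.gp (X.res U) M i n) :
    (T.pull (X.resLE (le_refl U) hd) M i n).hom b = b := by
  have : X.resLE (le_refl U) hd = 𝟙 _ := resLE_refl X U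
  rw [this, pull_id]
  rfl

/-! ### directedness of the two index systems -/

theorem fj_dir (X : Obj V) (j : ℕ) : ∀ U U' : Idx X (ContainsFj X j),
    ∃ U'' : Idx X (ContainsFj X j), U''.1 ≤ U.1 ∧ U''.1 ≤ U'.1 := fun U U' =>
  ⟨⟨U.1 ⊓ U'.1, fun y hy => ⟨U.2.1 y hy, U'.2.1 y hy⟩,
    dim_of_containsFj X j _ (fun y hy => ⟨U.2.1 y hy, U'.2.1 y hy⟩)⟩, inf_le_left, inf_le_right⟩

theorem fj_ne (X : Obj V) (j : ℕ) : Nonempty (Idx X (ContainsFj X j)) :=
  ⟨⟨⊤, fun _ _ => trivial, dim_top _⟩⟩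

theorem pt_dir (X : Obj V) (x : X.scheme) : ∀ W W' : ptIdx X x,
    ∃ W'' : ptIdx X x, W''.1 ≤ W.1 ∧ W''.1 ≤ W'.1 := fun W W' => by
  obtain ⟨ξ, hξ⟩ := exists_ptGen X x
  have h1 := ptGen_mem X x ξ hξ W.1 W.2.1
  have h2 := ptGen_mem X x ξ hξ W'.1 W'.2.1
  have hne : ((W.1 ⊓ W'.1 : (X.ptSub x).scheme.Opens) : Set (X.ptSub x).scheme).Nonempty :=
    ⟨ξ, h1, h2⟩
  exact ⟨⟨W.1 ⊓ W'.1, hne, IsConstructible.dim_open (X.ptSub x).mem inferInstance _ hne⟩,
    inf_le_left, inf_le_right⟩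

theorem pt_ne (X : Obj V) (x : X.scheme) : Nonempty (ptIdx X x) := by
  obtain ⟨ξ, hξ⟩ := exists_ptGen X x
  exact ⟨⟨⊤, ⟨ξ, trivial⟩, dim_top _⟩⟩

/-! ### attaching a locally closed piece -/

/-- A point of codimension `j+1` outside an open containing `F_j` has a neighbourhood in which the
complement of the open is contained in the closure of the point. -/
theorem exists_attach (X : Obj V) (j : ℕ) (U0 : X.scheme.Opens) (hU0 : ContainsFj X j U0)
    (x : X.scheme) (hx : WeilCoh.codim X.scheme x = j + 1) :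
    ∃ N : X.scheme.Opens, x ∈ N ∧ ∀ z ∈ N, z ∉ U0 → z ∈ closure ({x} : Set X.scheme) := by
  have hF : IsClosed ((U0 : Set X.scheme)ᶜ) := U0.isOpen.isClosed_compl
  have hmax : ∀ z ∈ ((U0 : Set X.scheme)ᶜ), z ⤳ x → z = x := by
    intro z hz hzx
    by_contra hne
    have := codim_lt_of_specializes X hzx (Ne.symm hne)
    exact hz (hU0 z (by omega))
  obtain ⟨N, hN, hxN, hNF⟩ := exists_open_of_maximal hF hmax
  exact ⟨⟨N, hN⟩, hxN, fun z hzN hzU => hNF ⟨hzN, hzU⟩⟩

section att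

variable (X : Obj V) (x : X.scheme) (U0 O : X.scheme.Opens) (hxU : x ∉ U0)
  (hO : ∀ z ∈ O, z ∉ U0 → z ∈ closure ({x} : Set X.scheme))
  (hd : WeilCoh.dim (U0 : Scheme.{u}) = WeilCoh.dim X.scheme)

/-- the piece of the closure of `x` inside `O`. -/
noncomputable abbrev attW : (X.ptSub x).scheme.Opens := (X.ptSubι x) ⁻¹ᵁ O

theorem attW_nonempty (hxO : x ∈ O) : ((attW X x O : (X.ptSub x).scheme.Opens) :
    Set (X.ptSub x).scheme).Nonempty := by
  obtain ⟨ξ, hξ⟩ := exists_ptGen X x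
  exact ⟨ξ, by show (X.ptSubι x) ξ ∈ O; rw [hξ]; exact hxO⟩

include hO in
theorem att_hY : ((U0 ⊔ O : X.scheme.Opens) : Set X.scheme) =
    (U0 : Set X.scheme) ∪ (X.ptSubι x) '' ((attW X x O : (X.ptSub x).scheme.Opens) :
      Set (X.ptSub x).scheme) := by
  ext z
  simp only [Opens.coe_sup, Set.mem_union, SetLike.mem_coe]
  constructor
  · rintro (h | h)
    · left; exact h
    · by_cases hz : z ∈ U0
      · left; exact hz
      · right
        have := hO z h hz
        rw [← range_ptSubι] at this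
        obtain ⟨w, rfl⟩ := this
        exact ⟨w, h, rfl⟩
  · rintro (h | ⟨w, hw, rfl⟩)
    · left; exact h
    · right; exact hw

include hxU in
theorem att_hdisj : Disjoint (U0 : Set X.scheme) (Set.range (X.ptSubι x)) := by
  rw [range_ptSubι]; exact disjoint_closure_of_not_mem U0 hxU

include hd in
theorem att_hdim : WeilCoh.dim (U0 : Scheme.{u}) = WeilCoh.dim ((U0 ⊔ O : X.scheme.Opens) :
    Scheme.{u}) := by
  apply le_antisymm
  · rw [dim_opens, dim_opens]; exact sdim_mono X (by exact le_sup_left (a := U0) (b := O))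
  · rw [hd, dim_opens]; exact sdim_le_dim X _

/-- the decomposition of `U0 ⊔ O` into the piece of the closure of `x` and `U0`. -/
noncomputable def attD : Decomp (X.res (U0 ⊔ O)) :=
  mkDecomp X (X.ptSub x) (X.ptSubι x) (attW X x O) U0 (U0 ⊔ O) le_sup_left
    (att_hdim X U0 O hd) (att_hY X x U0 O hO) (att_hdisj X x U0 hxU)

theorem attD_fac : (attD X x U0 O hxU hO hd).i ≫ (U0 ⊔ O : X.scheme.Opens).ι =
    (attW X x O).ι ≫ X.ptSubι x :=
  lcLift_fac X (X.ptSub x) (X.ptSubι x) (attW X x O) U0 (U0 ⊔ O) (att_hY X x U0 O hO)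

theorem attD_codim (hxO : x ∈ O) : (attD X x U0 O hxU hO hd).codim =
    (WeilCoh.codim X.scheme x : ℤ) := by
  show relCodim ((attW X x O : (X.ptSub x).scheme.Opens) : Scheme.{u})
    ((U0 ⊔ O : X.scheme.Opens) : Scheme.{u}) = _
  unfold relCodim
  rw [dim_ptOpen X x _ (attW_nonempty X x O hxO), ← att_hdim X U0 O hd, hd, codim_cast]

end att

end Groth.Agent.Helper8.BMAtt
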