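import Groth.Prelude.Def_BMCoh
import Mathlib

set_option autoImplicit false
universe u
open CategoryTheory AlgebraicGeometry Opposite Limits
open BMCoh

namespace Groth.Agent.Helper8.BMBasic

variable {V : ObjectProperty Scheme.{u}} [IsConstructible V] {R : Type u} [CommRing R]
  {A : Coefs R}

lemma relCodim_self (X : Scheme.{u}) : relCodim X X = 0 := sub_self _

lemma relCodim_of_dim_eq {X Y : Scheme.{u}} (h : WeilCoh.dim X = WeilCoh.dim Y) :
    relCodim X Y = 0 := by
  unfold relCodim; rw [h]; exact sub_self _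

lemma pull_id (T : PreTheory V R A) (X : Obj V) (M : A.Cat) (i n : ℤ) :
    T.pull (𝟙 X) M i n = 𝟙 _ := by
  simp [PreTheory.pull]

lemma pull_comp (T : PreTheory V R A) {X Y Z : Obj V} (f : X ⟶ Y) (g : Y ⟶ Z) (M : A.Cat)
    (i n : ℤ) : T.pull (f ≫ g) M i n = T.pull g M i n ≫ T.pull f M i n := by
  simp [PreTheory.pull]

/-- push along a proper morphism of objects followed by pull-back along it is the identity
(the kernel pair of a monomorphism is trivial). -/
theorem push_pull_self (T : PreTheory V R A) {X Y : Obj V} (g : X ⟶ Y) [IsProper g.hom]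
    (M : A.Cat) (i n : ℤ)
    (hi : i = i + 2 * relCodim X.scheme Y.scheme) (hn : n = n + relCodim X.scheme Y.scheme) :
    T.push g.hom M i n i n hi hn ≫ T.pull g M i n = 𝟙 _ := by
  have hpb : IsPullback (𝟙 X : X ⟶ X).hom (𝟙 X.scheme) g.hom g.hom :=
    IsKernelPair.id_of_mono g.hom
  have := T.push_pull g.hom (𝟙 X.scheme) g (𝟙 X) hpb M i n i n hi hn
    (by simp [relCodim_self]) (by simp [relCodim_self])
  rw [this, T.push_id]
  simp

theorem push_injective (T : PreTheory V R A) {X Y : Obj V} (g : X ⟶ Y) [IsProper g.hom]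
    (M : A.Cat) (i n i' n' : ℤ)
    (hi : i' = i + 2 * relCodim X.scheme Y.scheme) (hn : n' = n + relCodim X.scheme Y.scheme) :
    Function.Injective (T.push g.hom M i n i' n' hi hn).hom := by
  have h0 : relCodim X.scheme Y.scheme = 0 := relCodim_of_dim_eq g.dim_eq
  obtain rfl : i' = i := by rw [hi, h0]; ring
  obtain rfl : n' = n := by rw [hn, h0]; ring
  have := push_pull_self T g M i' n' hi hn
  intro a b hab
  have h1 := congrArg (fun φ => φ.hom a) this
  have h2 := congrArg (fun φ => φ.hom b) this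
  simp only [ModuleCat.hom_comp, LinearMap.comp_apply, ModuleCat.hom_id, LinearMap.id_apply] at h1 h2
  rw [← h1, ← h2, hab]

/-- The disjoint union statement. -/
theorem main (T : PreTheory V R A) {X Y W : Obj V} (iX : X ⟶ W) (iY : Y ⟶ W)
    (h : Set.range iX.hom = (Set.range iY.hom)ᶜ) (M : A.Cat) (i n : ℤ) :
    Function.Bijective
      (fun a : T.gp W M i n => ((T.pull iX M i n).hom a, (T.pull iY M i n).hom a)) := by
  obtain ⟨i0, rfl⟩ : ∃ i0, i = i0 + 1 := ⟨i - 1, by ring⟩
  haveI : IsClosedImmersion iY.hom := IsClosedImmersion.of_isPreimmersion _ (by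
    have : Set.range iY.hom = (Set.range iX.hom)ᶜ := by rw [h, compl_compl]
    rw [this]; exact iX.hom.isOpenEmbedding.isOpen_range.isClosed_compl)
  let D : Decomp W := ⟨Y, X, iY.hom, inferInstance, iX, h⟩
  have h0 : relCodim Y.scheme W.scheme = 0 := relCodim_of_dim_eq iY.dim_eq
  have hc : D.codim = 0 := h0
  -- pull iY ∘ push iY = id
  have hsplit := push_pull_self T iY M (i0 + 1) n (by rw [h0]; ring) (by rw [h0]; ring)
  -- exactness push-pull at degree i0+1
  have hex := T.exact_push_pull D M i0 n (i0 + 1) n (by rw [h0]; ring) (by rw [h0]; ring)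
  -- res at degree i0+1 vanishes
  have hres : ∀ a, (T.res D M (i0 + 1) n (i0 + 1 + 1 - 2 * D.codim) (n - D.codim) rfl rfl).hom a
      = 0 := by
    intro a
    have hex2 := T.exact_res_push D M (i0 + 1) n (i0 + 1 + 1 - 2 * D.codim) (n - D.codim) rfl rfl
      (by rw [hc, h0]; ring) (by rw [hc, h0]; ring)
    have hinj := push_injective T iY M (i0 + 1 + 1 - 2 * D.codim) (n - D.codim) (i0 + 1 + 1) n
      (by rw [hc, h0]; ring) (by rw [hc, h0]; ring)
    apply hinj
    rw [map_zero]
    exact hex2.apply_apply_eq_zero a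
  have hsurj : Function.Surjective (T.pull iX M (i0 + 1) n).hom := by
    intro x
    have hex1 := T.exact_pull_res D M (i0 + 1) n (i0 + 1 + 1 - 2 * D.codim) (n - D.codim) rfl rfl
    exact (hex1 x).mp (hres x)
  have hsp : ∀ b, (T.pull iY M (i0 + 1) n).hom ((T.push iY.hom M (i0 + 1) n (i0 + 1) n
      (by rw [h0]; ring) (by rw [h0]; ring)).hom b) = b := by
    intro b
    have h1 := congrArg (fun φ => φ.hom b) hsplit
    simpa using h1
  constructor
  · intro a b hab
    simp only [Prod.mk.injEq] at hab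
    obtain ⟨hX, hY⟩ := hab
    have hd : (T.pull iX M (i0 + 1) n).hom (a - b) = 0 := by rw [map_sub, hX, sub_self]
    obtain ⟨c, hc'⟩ := (hex (a - b)).mp hd
    have hc0 : c = 0 := by
      rw [← hsp c]
      change (T.pull iY M (i0 + 1) n).hom ((T.push D.i M (i0 + 1) n (i0 + 1) n _ _).hom c) = 0
      rw [hc', map_sub, hY, sub_self]
    rw [hc0, map_zero] at hc'
    exact (sub_eq_zero.mp hc'.symm)
  · rintro ⟨x, y⟩
    obtain ⟨a0, ha0⟩ := hsurj x
    refine ⟨a0 + (T.push iY.hom M (i0 + 1) n (i0 + 1) n (by rw [h0]; ring) (by rw [h0]; ring)).hom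
      (y - (T.pull iY M (i0 + 1) n).hom a0), ?_⟩
    simp only [map_add, Prod.mk.injEq]
    constructor
    · rw [ha0]
      have := hex.apply_apply_eq_zero (y - (T.pull iY M (i0 + 1) n).hom a0)
      change (T.pull iX M (i0 + 1) n).hom ((T.push iY.hom M (i0 + 1) n (i0 + 1) n _ _).hom _) = 0
        at this
      rw [this, add_zero]
    · rw [hsp]; abel

end Groth.Agent.Helper8.BMBasic
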