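import Groth.Agent.Helper8.BMNeg
import Mathlib

set_option autoImplicit false
universe u
open CategoryTheory AlgebraicGeometry Opposite Limits TopologicalSpace Topology
open BMCoh
open Groth.Agent.Helper8.BMTop Groth.Agent.Helper8.BMSch Groth.Agent.Helper8.BMColim
open Groth.Agent.Helper8.BMBasic Groth.Agent.Helper8.BMPushU Groth.Agent.Helper8.BMAtt
open Groth.Agent.Helper8.BMEx3 Groth.Agent.Helper8.BMEx1 Groth.Agent.Helper8.BMBij
open Groth.Agent.Helper8.BMNeg

namespace Groth.Agent.Helper8.BMBig

variable {V : ObjectProperty Scheme.{u}} [IsConstructible V] {R : Type u} [CommRing R]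
  {A : Coefs R}

/-- the reduced complement of an open all of whose outside points have codimension at least `k`
has relative codimension at least `k` (when nonempty). -/
theorem le_relCodim_complObj (X : Obj V) (O : X.scheme.Opens) (k : ℕ)
    (hbig : ∀ x : X.scheme, x ∉ O → k ≤ WeilCoh.codim X.scheme x)
    (hne : Nonempty (complObj X O).scheme) :
    (k : ℤ) ≤ relCodim (complObj X O).scheme X.scheme := by
  have hC : IsClosed ((O : Set X.scheme)ᶜ) := O.isOpen.isClosed_compl
  have hCne : ((O : Set X.scheme)ᶜ).Nonempty := by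
    obtain ⟨ζ⟩ := hne
    rw [← range_complι]; exact ⟨_, ζ, rfl⟩
  obtain ⟨z, hzC, hz⟩ := exists_mem_ht_eq_tkd hC hCne (tkd_set_lt_top X _)
  have h1 : WeilCoh.dim (complObj X O).scheme = WeilCoh.pdim X.scheme z := by
    rw [dim_eq_sdim_range (complι X O) (complι X O).isEmbedding, range_complι, pdim_eq_ht]
    exact natDim_of_tkd_eq hz.symm
  have h2 := hbig z hzC
  have h3 := pdim_le_dim X z
  unfold relCodim
  rw [h1]
  unfold WeilCoh.codim at h2
  omega

theorem big_open_bij (T : TheoryOn V R A) {U X : Obj V} (f : U ⟶ X) (k : ℕ)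
    (hbig : ∀ x : X.scheme, x ∉ Set.range f.hom → k ≤ WeilCoh.codim X.scheme x) (M : A.Cat)
    (i0 n : ℤ) (hi : i0 + 1 + 1 < 2 * (k : ℤ)) :
    Function.Bijective (T.pull f M (i0 + 1) n).hom := by
  have hrange : Set.range f.hom = (Set.range (complι X f.hom.opensRange))ᶜ := by
    rw [range_complι, compl_compl]; rfl
  let D : Decomp X := ⟨complObj X f.hom.opensRange, U, complι X f.hom.opensRange, inferInstance,
    f, hrange⟩
  have hvan : ∀ (i' n' : ℤ),
      i' ≤ i0 + 1 + 1 - 2 * relCodim (complObj X f.hom.opensRange).scheme X.scheme →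
      ∀ b : T.gp (complObj X f.hom.opensRange) M i' n', b = 0 := by
    intro i' n' hi' b
    by_cases hZ : IsEmpty (complObj X f.hom.opensRange).scheme
    · exact gp_empty T.toPreTheory _ M i' n' b
    · rw [not_isEmpty_iff] at hZ
      have := le_relCodim_complObj X f.hom.opensRange k (fun x hx => hbig x hx) hZ
      exact neg_vanish T _ M i' n' (by omega) b
  constructor
  · rw [injective_iff_map_eq_zero]
    intro a ha
    have hex := T.exact_push_pull D M i0 n
      (i0 + 1 - 2 * relCodim (complObj X f.hom.opensRange).scheme X.scheme)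
      (n - relCodim (complObj X f.hom.opensRange).scheme X.scheme)
      (show i0 + 1 = (i0 + 1 - 2 * relCodim (complObj X f.hom.opensRange).scheme X.scheme) +
        2 * relCodim (complObj X f.hom.opensRange).scheme X.scheme by ring)
      (show n = (n - relCodim (complObj X f.hom.opensRange).scheme X.scheme) +
        relCodim (complObj X f.hom.opensRange).scheme X.scheme by ring)
    obtain ⟨b, hb⟩ := (hex a).mp ha
    rw [hvan _ _ (by omega) b, map_zero] at hb
    exact hb.symm
  · intro b
    have hex := T.exact_pull_res D M (i0 + 1) n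
      (i0 + 1 + 1 - 2 * relCodim (complObj X f.hom.opensRange).scheme X.scheme)
      (n - relCodim (complObj X f.hom.opensRange).scheme X.scheme) rfl rfl
    exact (hex b).mp (hvan _ _ le_rfl _)

theorem s15888 (T : TheoryOn V R A) {U X : Obj V} (f : U ⟶ X)
    (hbig : ∀ x : X.scheme, x ∉ Set.range f.hom → 2 ≤ WeilCoh.codim X.scheme x) (M : A.Cat)
    (n : ℤ) : Function.Bijective (T.pull f M 2 n).hom :=
  big_open_bij T f 2 hbig M 1 n (by norm_num)

theorem s15884 (T : TheoryOn V R A) (X : Obj V) (M : A.Cat) (j : ℕ) (i n : ℤ)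
    (hj : i ≤ 2 * (j : ℤ)) : Function.Bijective ((T.toFj X j i n).app M).hom := by
  obtain ⟨i0, rfl⟩ : ∃ i0, i = i0 + 1 := ⟨i - 1, by ring⟩
  have hbij : ∀ U : Idx X (ContainsFj X j),
      Function.Bijective (T.pull (X.resι U.1 U.2.2) M (i0 + 1) n).hom := by
    intro U
    refine big_open_bij T (X.resι U.1 U.2.2) (j + 1) ?_ M i0 n (by push_cast; omega)
    intro x hx
    by_contra hlt
    apply hx
    show x ∈ Set.range U.1.ι
    rw [Scheme.Opens.range_ι]
    exact U.2.1 x (by omega)
  have hfac : ∀ U : Idx X (ContainsFj X j), X.resι U.1 U.2.2 =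
      X.resLE le_top (U.2.2.trans (dim_top X.scheme).symm) ≫ X.resTop := fun U =>
    Hom.ext (Scheme.homOfLE_ι X.scheme (le_top : U.1 ≤ ⊤)).symm
  have htoFj : ∀ a, ((T.toFj X j (i0 + 1) n).app M).hom a =
      ((T.ocolimι X (ContainsFj X j) (i0 + 1) n ⟨⊤, fun _ _ => trivial, dim_top X.scheme⟩).app
        M).hom ((T.pull X.resTop M (i0 + 1) n).hom a) := fun a => rfl
  constructor
  · rw [injective_iff_map_eq_zero]
    intro a ha
    rw [htoFj] at ha
    obtain ⟨U, hle, hz⟩ := ocolim_eq_zero T.toPreTheory X (ContainsFj X j) (fj_dir X j)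
      (fj_ne X j) (i0 + 1) n M _ _ ha
    apply (hbij U).1
    rw [map_zero, hfac U, pull_comp]
    exact hz
  · intro y
    obtain ⟨U, b, rfl⟩ := ocolim_rep T.toPreTheory X (ContainsFj X j) (fj_dir X j) (fj_ne X j)
      (i0 + 1) n M y
    obtain ⟨a, rfl⟩ := (hbij U).2 b
    refine ⟨a, ?_⟩
    rw [htoFj]
    have h := comp_elem (ocolimι_res T.toPreTheory X (ContainsFj X j) (i0 + 1) n U
      ⟨⊤, fun _ _ => trivial, dim_top X.scheme⟩ le_top (U.2.2.trans (dim_top X.scheme).symm) M)
      ((T.pull X.resTop M (i0 + 1) n).hom a)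
    rw [← h, hfac U, pull_comp]
    rfl

end Groth.Agent.Helper8.BMBig
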