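import Groth.Agent.Helper8.BMResU
import Mathlib

set_option autoImplicit false
universe u
open CategoryTheory AlgebraicGeometry Opposite Limits TopologicalSpace Topology
open BMCoh
open Groth.Agent.Helper8.BMTop Groth.Agent.Helper8.BMSch Groth.Agent.Helper8.BMColim
open Groth.Agent.Helper8.BMBasic Groth.Agent.Helper8.BMPushU Groth.Agent.Helper8.BMAtt
open Groth.Agent.Helper8.BMEx3 Groth.Agent.Helper8.BMEx1

namespace Groth.Agent.Helper8.BMBij

variable {V : ObjectProperty Scheme.{u}} [IsConstructible V] {R : Type u} [CommRing R]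
  {A : Coefs R} (T : PreTheory V R A) (X : Obj V) (j : ℕ)

theorem mem_range_homOfLE {Y : Scheme.{u}} {U U' : Y.Opens} (h : U ≤ U') (y : U') :
    y ∈ Set.range (Y.homOfLE h) ↔ y.1 ∈ U := by
  constructor
  · rintro ⟨u, rfl⟩
    rw [Scheme.homOfLE_apply]; exact u.2
  · intro hy
    exact ⟨⟨y.1, hy⟩, Subtype.ext (by rw [Scheme.homOfLE_apply])⟩

/-- a generator supported on a piece of the closure of a point whose group vanishes is zero. -/
theorem gen_zero (M : A.Cat) (i0 n0 i' n' : ℤ) (x : X.scheme)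
    (hxc : WeilCoh.codim X.scheme x = j + 1) (hvan : Subsingleton (T.ptGp X x M i0 n0))
    (W : ptIdx X x) (U3 : Idx X (ContainsFj X (j + 1)))
    (f3 : ((X.ptSub x).res W.1).scheme ⟶ (X.res U3.1).scheme) [IsClosedImmersion f3]
    (hf3 : f3 ≫ U3.1.ι = W.1.ι ≫ X.ptSubι x)
    (hi3 : i' = i0 + 2 * relCodim ((X.ptSub x).res W.1).scheme (X.res U3.1).scheme)
    (hn3 : n' = n0 + relCodim ((X.ptSub x).res W.1).scheme (X.res U3.1).scheme)
    (a : T.gp ((X.ptSub x).res W.1) M i0 n0) :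
    ((T.fjι X (j + 1) i' n' U3).app M).hom ((T.push f3 M i0 n0 i' n' hi3 hn3).hom a) = 0 := by
  have h0 : ((T.ptι X x i0 n0 W).app M).hom a = 0 := Subsingleton.elim _ _
  obtain ⟨W', hle', hz⟩ := ocolim_eq_zero T (X.ptSub x) _ (pt_dir X x) (pt_ne X x) i0 n0 M W a h0
  have hU3d : WeilCoh.dim (U3.1 : Scheme.{u}) = WeilCoh.dim X.scheme := U3.2.2
  have hBF : ContainsFj X (j + 1) (bigOpen (X.ptSubι x) W'.1) :=
    containsFj_bigOpen X (j + 1) x ⟨by omega, by omega⟩ W'.1 W'.2.1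
  have hU3'F : ContainsFj X (j + 1) (U3.1 ⊓ bigOpen (X.ptSubι x) W'.1) :=
    fun y hy => ⟨U3.2.1 y hy, hBF y hy⟩
  have hU3'd := dim_of_containsFj X (j + 1) _ hU3'F
  have himg : ∀ w : (X.ptSub x).scheme, w ∈ W.1 → (X.ptSubι x) w ∈ U3.1 := by
    intro w hw
    have := congrArg (fun φ => φ ⟨w, hw⟩) hf3
    simp only [Scheme.Hom.comp_apply, Scheme.Opens.ι_apply] at this
    rw [← this]; exact (f3 ⟨w, hw⟩).2
  have hY3 : ((U3.1 ⊓ bigOpen (X.ptSubι x) W'.1 : X.scheme.Opens) : Set X.scheme) =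
      ((outOpen (X.ptSubι x) ⊓ U3.1 : X.scheme.Opens) : Set X.scheme) ∪
        (X.ptSubι x) '' (W'.1 : Set (X.ptSub x).scheme) := by
    ext z
    simp only [Opens.coe_inf, Set.mem_inter_iff, Set.mem_union, SetLike.mem_coe]
    have hB : z ∈ bigOpen (X.ptSubι x) W'.1 ↔ z ∈ (outOpen (X.ptSubι x) : Set X.scheme) ∪
        (X.ptSubι x) '' (W'.1 : Set (X.ptSub x).scheme) := by
      rw [← bigOpen_eq]; rfl
    rw [hB]
    constructor
    · rintro ⟨hzU, h | h⟩
      · left; exact ⟨h, hzU⟩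
      · right; exact h
    · rintro (⟨h, hzU⟩ | h)
      · exact ⟨hzU, Or.inl h⟩
      · refine ⟨?_, Or.inr h⟩
        obtain ⟨w, hw, rfl⟩ := h
        exact himg w (hle' hw)
  have hdisj3 : Disjoint ((outOpen (X.ptSubι x) ⊓ U3.1 : X.scheme.Opens) : Set X.scheme)
      (Set.range (X.ptSubι x)) :=
    (disjoint_outOpen (X.ptSubι x)).mono_left (fun z hz => hz.1)
  let f3' : ((X.ptSub x).res W'.1).scheme ⟶
      (X.res (U3.1 ⊓ bigOpen (X.ptSubι x) W'.1)).scheme :=
    lcLift X (X.ptSub x) (X.ptSubι x) W'.1 (outOpen (X.ptSubι x) ⊓ U3.1)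
      (U3.1 ⊓ bigOpen (X.ptSubι x) W'.1) hY3
  haveI : IsClosedImmersion f3' :=
    isClosedImmersion_lcLift X (X.ptSub x) (X.ptSubι x) W'.1 _ _ hY3 hdisj3
  have hf3' : f3' ≫ (U3.1 ⊓ bigOpen (X.ptSubι x) W'.1).ι = W'.1.ι ≫ X.ptSubι x :=
    lcLift_fac X (X.ptSub x) (X.ptSubι x) W'.1 _ _ hY3
  have hrel : relCodim ((X.ptSub x).res W.1).scheme (X.res U3.1).scheme =
      relCodim ((X.ptSub x).res W'.1).scheme
        (X.res (U3.1 ⊓ bigOpen (X.ptSubι x) W'.1)).scheme := by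
    show relCodim (W.1 : Scheme.{u}) (U3.1 : Scheme.{u}) = relCodim (W'.1 : Scheme.{u})
      ((U3.1 ⊓ bigOpen (X.ptSubι x) W'.1 : X.scheme.Opens) : Scheme.{u})
    unfold relCodim
    rw [dim_ptOpen X x W.1 W.2.1, dim_ptOpen X x W'.1 W'.2.1, hU3d, hU3'd]
  have hpb : IsPullback ((X.ptSub x).resLE hle' (W'.2.2.trans W.2.2.symm)).hom f3' f3
      (X.resLE inf_le_left (hU3'd.trans hU3d.symm)).hom := by
    refine (IsOpenImmersion.isPullback f3' ((X.ptSub x).scheme.homOfLE hle')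
      (X.scheme.homOfLE inf_le_left) f3 ?_ ?_).flip
    · rw [← cancel_mono U3.1.ι]
      simp only [Category.assoc]
      rw [hf3, Scheme.homOfLE_ι, hf3', ← Category.assoc, Scheme.homOfLE_ι]
    · ext w
      show f3 w ∈ Set.range (X.scheme.homOfLE inf_le_left) ↔
        w ∈ Set.range ((X.ptSub x).scheme.homOfLE hle')
      refine (mem_range_homOfLE (Y := X.scheme) inf_le_left (f3 w)).trans
        (Iff.trans ?_ (mem_range_homOfLE (Y := (X.ptSub x).scheme) hle' w).symm)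
      have hw : (f3 w).1 = (X.ptSubι x) w.1 := by
        have := congrArg (fun φ => φ w) hf3
        simpa only [Scheme.Hom.comp_apply, Scheme.Opens.ι_apply] using this
      rw [hw]
      constructor
      · rintro ⟨-, hB⟩
        by_contra hw'
        exact hB ⟨w.1, hw', rfl⟩
      · intro hw'
        refine ⟨himg w.1 w.2, ?_⟩
        rintro ⟨w2, hw2, h2⟩
        have := (X.ptSubι x).isClosedEmbedding.injective h2
        rw [this] at hw2
        exact hw2 hw'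
  have hpp := T.push_pull f3 f3' (X.resLE inf_le_left (hU3'd.trans hU3d.symm))
    ((X.ptSub x).resLE hle' (W'.2.2.trans W.2.2.symm)) hpb M i0 n0 i' n' hi3 hn3
    (by rw [← hrel]; exact hi3) (by rw [← hrel]; exact hn3)
  have h1 := comp_elem hpp a
  have h2 := comp_elem (ocolimι_res T X (ContainsFj X (j + 1)) i' n'
    ⟨U3.1 ⊓ bigOpen (X.ptSubι x) W'.1, hU3'F, hU3'd⟩ U3 inf_le_left (hU3'd.trans hU3d.symm) M)
    ((T.push f3 M i0 n0 i' n' hi3 hn3).hom a)
  rw [← h2, h1]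
  simp only [ModuleCat.hom_comp, LinearMap.comp_apply]
  erw [hz]
  rw [map_zero, map_zero]

theorem inj_claim (M : A.Cat) (i n i0 n' : ℤ)
    (hi : i0 + 1 = i + 2 * ((j + 1 : ℕ) : ℤ)) (hn : n' = n + ((j + 1 : ℕ) : ℤ))
    (hvan : ∀ x : X.scheme, WeilCoh.codim X.scheme x = j + 1 →
      Subsingleton (T.ptGp X x M i n))
    (U0 : X.scheme.Opens) :
    ContainsFj X j U0 → ∀ (U : Idx X (ContainsFj X (j + 1))) (hle : U0 ≤ U.1)
      (hd : WeilCoh.dim (U0 : Scheme.{u}) = WeilCoh.dim (U.1 : Scheme.{u}))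
      (b : T.gp (X.res U.1) M (i0 + 1) n'),
      (T.pull (X.resLE hle hd) M (i0 + 1) n').hom b = 0 →
      ((T.fjι X (j + 1) (i0 + 1) n' U).app M).hom b = 0 := by
  induction U0 using WellFoundedGT.induction with
  | ind U0 ih =>
  intro hU0 U hle hd b hb
  by_cases hF : ContainsFj X (j + 1) U0
  · have hU0d : WeilCoh.dim (U0 : Scheme.{u}) = WeilCoh.dim X.scheme :=
      dim_of_containsFj X (j + 1) U0 hF
    have h1 := ocolimι_res T X (ContainsFj X (j + 1)) (i0 + 1) n' ⟨U0, hF, hU0d⟩ U hle hd M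
    have h2 : ((T.fjι X (j + 1) (i0 + 1) n' U).app M).hom b = 0 := by
      have := congrArg (fun φ => φ.hom b) h1
      simp only [ModuleCat.hom_comp, LinearMap.comp_apply] at this
      rw [← this, hb, map_zero]
    exact h2
  · have hex : ∃ x : X.scheme, WeilCoh.codim X.scheme x = j + 1 ∧ x ∉ U0 := by
      unfold ContainsFj at hF
      push Not at hF
      obtain ⟨x, hxc, hxU⟩ := hF
      refine ⟨x, ?_, hxU⟩
      by_contra hne
      exact hxU (hU0 x (by omega))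
    obtain ⟨x, hxc, hxU⟩ := hex
    have hxUU : x ∈ U.1 := U.2.1 x (by omega)
    obtain ⟨N, hxN, hN⟩ := exists_attach X j U0 hU0 x hxc
    have hxO : x ∈ N ⊓ U.1 := ⟨hxN, hxUU⟩
    have hO : ∀ z ∈ N ⊓ U.1, z ∉ U0 → z ∈ closure ({x} : Set X.scheme) :=
      fun z hz hzU => hN z hz.1 hzU
    have hU0d : WeilCoh.dim (U0 : Scheme.{u}) = WeilCoh.dim X.scheme :=
      dim_of_containsFj X j U0 hU0
    have hY1le : U0 ⊔ (N ⊓ U.1) ≤ U.1 := sup_le hle inf_le_right
    have hY1F : ContainsFj X j (U0 ⊔ (N ⊓ U.1)) := fun y hy => Or.inl (hU0 y hy)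
    have hY1d : WeilCoh.dim ((U0 ⊔ (N ⊓ U.1) : X.scheme.Opens) : Scheme.{u}) =
        WeilCoh.dim X.scheme := (att_hdim X U0 (N ⊓ U.1) hU0d).symm.trans hU0d
    have hlt : U0 < U0 ⊔ (N ⊓ U.1) :=
      lt_of_le_of_ne le_sup_left (fun h => hxU (by rw [h]; exact Or.inr hxO))
    let W1 : ptIdx X x := ⟨attW X x (N ⊓ U.1), attW_nonempty X x (N ⊓ U.1) hxO,
      IsConstructible.dim_open (X.ptSub x).mem inferInstance _ (attW_nonempty X x (N ⊓ U.1) hxO)⟩
    have hrel1 : relCodim ((X.ptSub x).res W1.1).scheme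
        (X.res (U0 ⊔ (N ⊓ U.1))).scheme = ((j + 1 : ℕ) : ℤ) := by
      have := attD_codim X x U0 (N ⊓ U.1) hxU hO hU0d hxO
      rw [hxc] at this
      exact this
    have hi1 : i0 + 1 = i + 2 * relCodim ((X.ptSub x).res W1.1).scheme
        (X.res (U0 ⊔ (N ⊓ U.1))).scheme := by rw [hrel1]; exact hi
    have hn1 : n' = n + relCodim ((X.ptSub x).res W1.1).scheme
        (X.res (U0 ⊔ (N ⊓ U.1))).scheme := by rw [hrel1]; exact hn
    let f1 : ((X.ptSub x).res W1.1).scheme ⟶ (X.res (U0 ⊔ (N ⊓ U.1))).scheme :=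
      (attD X x U0 (N ⊓ U.1) hxU hO hU0d).i
    haveI : IsProper f1 := (inferInstance : IsProper (attD X x U0 (N ⊓ U.1) hxU hO hU0d).i)
    have hexa := T.exact_push_pull (attD X x U0 (N ⊓ U.1) hxU hO hU0d) M i0 n' i n hi1 hn1
    have hb1z : (T.pull (attD X x U0 (N ⊓ U.1) hxU hO hU0d).j M (i0 + 1) n').hom
        ((T.pull (X.resLE hY1le (hY1d.trans U.2.2.symm)) M (i0 + 1) n').hom b) = 0 := by
      show (T.pull (X.resLE le_sup_left (att_hdim X U0 (N ⊓ U.1) hU0d)) M (i0 + 1) n').hom _ = 0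
      rw [pull_pull]; exact hb
    obtain ⟨a1, ha1⟩ := (hexa _).mp hb1z
    -- the big open
    have hBF : ContainsFj X (j + 1) (bigOpen (X.ptSubι x) W1.1) :=
      containsFj_bigOpen X (j + 1) x ⟨by omega, by omega⟩ W1.1 W1.2.1
    have hU3F : ContainsFj X (j + 1) (bigOpen (X.ptSubι x) W1.1 ⊓ U.1) :=
      fun y hy => ⟨hBF y hy, U.2.1 y hy⟩
    have hU3d : WeilCoh.dim ((bigOpen (X.ptSubι x) W1.1 ⊓ U.1 : X.scheme.Opens) : Scheme.{u}) =
        WeilCoh.dim X.scheme := dim_of_containsFj X (j + 1) _ hU3F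
    let U3 : Idx X (ContainsFj X (j + 1)) := ⟨bigOpen (X.ptSubι x) W1.1 ⊓ U.1, hU3F, hU3d⟩
    have hY3 : ((bigOpen (X.ptSubι x) W1.1 ⊓ U.1 : X.scheme.Opens) : Set X.scheme) =
        ((outOpen (X.ptSubι x) ⊓ U.1 : X.scheme.Opens) : Set X.scheme) ∪
          (X.ptSubι x) '' (W1.1 : Set (X.ptSub x).scheme) := by
      ext z
      simp only [Opens.coe_inf, Set.mem_inter_iff, Set.mem_union, SetLike.mem_coe]
      have hB : z ∈ bigOpen (X.ptSubι x) W1.1 ↔ z ∈ (outOpen (X.ptSubι x) : Set X.scheme) ∪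
          (X.ptSubι x) '' (W1.1 : Set (X.ptSub x).scheme) := by
        rw [← bigOpen_eq]; rfl
      rw [hB]
      constructor
      · rintro ⟨h | h, hzU⟩
        · left; exact ⟨h, hzU⟩
        · right; exact h
      · rintro (⟨h, hzU⟩ | h)
        · exact ⟨Or.inl h, hzU⟩
        · refine ⟨Or.inr h, ?_⟩
          obtain ⟨w, hw, rfl⟩ := h
          exact hw.2
    have hdisj3 : Disjoint ((outOpen (X.ptSubι x) ⊓ U.1 : X.scheme.Opens) : Set X.scheme)
        (Set.range (X.ptSubι x)) :=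
      (disjoint_outOpen (X.ptSubι x)).mono_left (fun z hz => hz.1)
    let f3 : ((X.ptSub x).res W1.1).scheme ⟶ (X.res U3.1).scheme :=
      lcLift X (X.ptSub x) (X.ptSubι x) W1.1 (outOpen (X.ptSubι x) ⊓ U.1)
        (bigOpen (X.ptSubι x) W1.1 ⊓ U.1) hY3
    haveI : IsClosedImmersion f3 :=
      isClosedImmersion_lcLift X (X.ptSub x) (X.ptSubι x) W1.1 _ _ hY3 hdisj3
    have hf3 : f3 ≫ U3.1.ι = W1.1.ι ≫ X.ptSubι x :=
      lcLift_fac X (X.ptSub x) (X.ptSubι x) W1.1 _ _ hY3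
    have hrel3 : relCodim ((X.ptSub x).res W1.1).scheme (X.res U3.1).scheme =
        ((j + 1 : ℕ) : ℤ) := by
      show relCodim (W1.1 : Scheme.{u})
        ((bigOpen (X.ptSubι x) W1.1 ⊓ U.1 : X.scheme.Opens) : Scheme.{u}) = _
      unfold relCodim
      rw [dim_ptOpen X x W1.1 W1.2.1, hU3d, ← codim_cast, hxc]
    have hi3 : i0 + 1 = i + 2 * relCodim ((X.ptSub x).res W1.1).scheme (X.res U3.1).scheme := by
      rw [hrel3]; exact hi
    have hn3 : n' = n + relCodim ((X.ptSub x).res W1.1).scheme (X.res U3.1).scheme := by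
      rw [hrel3]; exact hn
    have hY1U3 : U0 ⊔ (N ⊓ U.1) ≤ bigOpen (X.ptSubι x) W1.1 ⊓ U.1 := by
      intro z hz
      refine ⟨?_, hY1le hz⟩
      rintro ⟨w, hw, rfl⟩
      rcases hz with h | h
      · exact Set.disjoint_left.mp (att_hdisj X x U0 hxU) h ⟨w, rfl⟩
      · exact hw h
    have hpb : IsPullback (𝟙 ((X.ptSub x).res W1.1) : (X.ptSub x).res W1.1 ⟶ _).hom f1 f3
        (X.resLE hY1U3 (hY1d.trans hU3d.symm)).hom := by
      haveI : IsIso (𝟙 ((X.ptSub x).res W1.1) : (X.ptSub x).res W1.1 ⟶ _).hom := by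
        rw [id_hom]; infer_instance
      apply IsPullback.of_horiz_isIso_mono
      constructor
      rw [← cancel_mono U3.1.ι]
      simp only [id_hom, Category.id_comp, Category.assoc]
      rw [hf3]
      show _ = f1 ≫ X.scheme.homOfLE hY1U3 ≫ (bigOpen (X.ptSubι x) W1.1 ⊓ U.1).ι
      rw [Scheme.homOfLE_ι]
      exact (attD_fac X x U0 (N ⊓ U.1) hxU hO hU0d).symm
    have hpp := T.push_pull f3 f1 (X.resLE hY1U3 (hY1d.trans hU3d.symm)) (𝟙 _) hpb M i n (i0 + 1) n'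
      hi3 hn3 hi1 hn1
    have hb'z : (T.pull (X.resLE hY1U3 (hY1d.trans hU3d.symm)) M (i0 + 1) n').hom
        ((T.pull (X.resLE inf_le_right (hU3d.trans U.2.2.symm)) M (i0 + 1) n').hom b -
          (T.push f3 M i n (i0 + 1) n' hi3 hn3).hom a1) = 0 := by
      rw [map_sub, pull_pull]
      have := congrArg (fun φ => φ.hom a1) hpp
      simp only [ModuleCat.hom_comp, LinearMap.comp_apply] at this
      rw [this]
      simp only [op_id, CategoryTheory.Functor.map_id, NatTrans.id_app, ModuleCat.hom_id,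
        LinearMap.id_apply]
      rw [sub_eq_zero]
      exact ha1.symm
    have hIH := ih (U0 ⊔ (N ⊓ U.1)) hlt hY1F U3 hY1U3 (hY1d.trans hU3d.symm) _ hb'z
    have hcl : ((T.fjι X (j + 1) (i0 + 1) n' U).app M).hom b =
        ((T.fjι X (j + 1) (i0 + 1) n' U3).app M).hom
          ((T.pull (X.resLE inf_le_right (hU3d.trans U.2.2.symm)) M (i0 + 1) n').hom b -
            (T.push f3 M i n (i0 + 1) n' hi3 hn3).hom a1) +
        ((T.fjι X (j + 1) (i0 + 1) n' U3).app M).hom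
          ((T.push f3 M i n (i0 + 1) n' hi3 hn3).hom a1) := by
      rw [← map_add, sub_add_cancel]
      have h := ocolimι_res T X (ContainsFj X (j + 1)) (i0 + 1) n' U3 U inf_le_right
        (hU3d.trans U.2.2.symm) M
      have h' := congrArg (fun φ => φ.hom b) h
      simp only [ModuleCat.hom_comp, LinearMap.comp_apply] at h'
      exact h'.symm
    rw [hcl, hIH, zero_add]
    exact gen_zero T X j M i n (i0 + 1) n' x hxc (hvan x hxc) W1 U3 f3 hf3 hi3 hn3 a1

theorem surj_claim (M : A.Cat) (i n i' n' : ℤ)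
    (hi : i' = i + 1 - 2 * ((j : ℤ) + 1)) (hn : n' = n - ((j : ℤ) + 1))
    (hvan : ∀ x : X.scheme, WeilCoh.codim X.scheme x = j + 1 →
      Subsingleton (T.ptGp X x M i' n'))
    (U0 : X.scheme.Opens) :
    ∀ (hU0 : ContainsFj X j U0) (hd : WeilCoh.dim (U0 : Scheme.{u}) = WeilCoh.dim X.scheme)
      (a0 : T.gp (X.res U0) M i n),
      ((T.fjι X j i n ⟨U0, hU0, hd⟩).app M).hom a0 ∈
        Set.range ((T.fjRes X (Nat.le_succ j) i n).app M).hom := by
  induction U0 using WellFoundedGT.induction with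
  | ind U0 ih =>
  intro hU0 hd a0
  by_cases hF : ContainsFj X (j + 1) U0
  · exact ⟨((T.fjι X (j + 1) i n ⟨U0, hF, hd⟩).app M).hom a0,
      comp_elem (ocolimι_map T X (containsFj_mono X (Nat.le_succ j)) i n ⟨U0, hF, hd⟩ M) a0⟩
  · have hex : ∃ x : X.scheme, WeilCoh.codim X.scheme x = j + 1 ∧ x ∉ U0 := by
      unfold ContainsFj at hF
      push Not at hF
      obtain ⟨x, hxc, hxU⟩ := hF
      refine ⟨x, ?_, hxU⟩
      by_contra hne
      exact hxU (hU0 x (by omega))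
    obtain ⟨x, hxc, hxU⟩ := hex
    obtain ⟨N, hxN, hN⟩ := exists_attach X j U0 hU0 x hxc
    have hcod := attD_codim X x U0 N hxU hN hd hxN
    have hiD : i' = i + 1 - 2 * (attD X x U0 N hxU hN hd).codim := by
      rw [hcod, hxc]; push_cast; exact hi
    have hnD : n' = n - (attD X x U0 N hxU hN hd).codim := by
      rw [hcod, hxc]; push_cast; exact hn
    have h0 : ((T.ptι X x i' n' ⟨attW X x N, attW_nonempty X x N hxN,
        IsConstructible.dim_open (X.ptSub x).mem inferInstance _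
          (attW_nonempty X x N hxN)⟩).app M).hom
        ((T.res (attD X x U0 N hxU hN hd) M i n i' n' hiD hnD).hom a0) = 0 := by
      haveI := hvan x hxc
      exact Subsingleton.elim _ _
    obtain ⟨W1', hle', hz⟩ := ocolim_eq_zero T (X.ptSub x) _ (pt_dir X x) (pt_ne X x) i' n' M
      ⟨attW X x N, attW_nonempty X x N hxN,
        IsConstructible.dim_open (X.ptSub x).mem inferInstance _ (attW_nonempty X x N hxN)⟩ _ h0
    obtain ⟨W1o, hW1ne, hW1d⟩ := W1'
    obtain ⟨O', hO'⟩ := exists_opens_preimage X x W1o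
    have hW : W1o = attW X x (O' ⊓ N) := by
      have h2 : W1o ≤ attW X x N := hle'
      apply le_antisymm
      · intro w hw
        have hw' : w ∈ (X.ptSubι x) ⁻¹ᵁ O' := hO' ▸ hw
        exact ⟨hw', h2 hw⟩
      · intro w hw
        rw [hO']
        exact hw.1
    subst hW
    have hxO2 : x ∈ O' ⊓ N := by
      obtain ⟨w, hw, hwx⟩ := mem_image_of_nonempty X x _ hW1ne
      rw [← hwx]; exact hw
    have hO2 : ∀ z ∈ O' ⊓ N, z ∉ U0 → z ∈ closure ({x} : Set X.scheme) :=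
      fun z hz hzU => hN z hz.2 hzU
    have hcod' := attD_codim X x U0 (O' ⊓ N) hxU hO2 hd hxO2
    have hiD' : i' = i + 1 - 2 * (attD X x U0 (O' ⊓ N) hxU hO2 hd).codim := by
      rw [hcod', hxc]; push_cast; exact hi
    have hnD' : n' = n - (attD X x U0 (O' ⊓ N) hxU hO2 hd).codim := by
      rw [hcod', hxc]; push_cast; exact hn
    have hYd : WeilCoh.dim ((U0 ⊔ N : X.scheme.Opens) : Scheme.{u}) = WeilCoh.dim X.scheme :=
      (att_hdim X U0 N hd).symm.trans hd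
    have hYd' : WeilCoh.dim ((U0 ⊔ (O' ⊓ N) : X.scheme.Opens) : Scheme.{u}) =
        WeilCoh.dim X.scheme := (att_hdim X U0 (O' ⊓ N) hd).symm.trans hd
    have hYle : U0 ⊔ (O' ⊓ N) ≤ U0 ⊔ N := sup_le_sup_left inf_le_right U0
    have hrp := T.res_pull (attD X x U0 N hxU hN hd) (attD X x U0 (O' ⊓ N) hxU hO2 hd)
      (X.resLE hYle (hYd'.trans hYd.symm))
      ((X.ptSub x).resLE hle' (hW1d.trans
        (IsConstructible.dim_open (X.ptSub x).mem inferInstance _
          (attW_nonempty X x N hxN)).symm))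
      (𝟙 (X.res U0))
      (by
        rw [← cancel_mono (U0 ⊔ N : X.scheme.Opens).ι]
        have e1 : (X.ptSub x).scheme.homOfLE hle' ≫ (attD X x U0 N hxU hN hd).i ≫
            (U0 ⊔ N : X.scheme.Opens).ι = (attW X x (O' ⊓ N)).ι ≫ X.ptSubι x := by
          have e0 : (X.ptSub x).scheme.homOfLE hle' ≫ (attD X x U0 N hxU hN hd).i ≫
              (U0 ⊔ N : X.scheme.Opens).ι =
              (X.ptSub x).scheme.homOfLE hle' ≫ (attW X x N).ι ≫ X.ptSubι x :=
            congrArg (fun φ => (X.ptSub x).scheme.homOfLE hle' ≫ φ) (attD_fac X x U0 N hxU hN hd)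
          rw [e0, ← Category.assoc, Scheme.homOfLE_ι]
        have e2 : (attD X x U0 (O' ⊓ N) hxU hO2 hd).i ≫ X.scheme.homOfLE hYle ≫
            (U0 ⊔ N : X.scheme.Opens).ι = (attW X x (O' ⊓ N)).ι ≫ X.ptSubι x := by
          rw [Scheme.homOfLE_ι]; exact attD_fac X x U0 (O' ⊓ N) hxU hO2 hd
        simp only [Category.assoc]
        exact e1.trans e2.symm)
      (by
        show 𝟙 (X.res U0) ≫ X.resLE le_sup_left (att_hdim X U0 N hd) =
          X.resLE le_sup_left (att_hdim X U0 (O' ⊓ N) hd) ≫ X.resLE hYle (hYd'.trans hYd.symm)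
        rw [Category.id_comp, resLE_comp])
      M i n i' n' hiD hnD hiD' hnD'
    have hres0 : (T.res (attD X x U0 (O' ⊓ N) hxU hO2 hd) M i n i' n' hiD' hnD').hom a0 = 0 := by
      have h2 := congrArg (fun φ => φ.hom a0) hrp
      have h3 : (T.pull (𝟙 (X.res U0)) M i n).hom a0 = a0 := by rw [pull_id]; rfl
      calc (T.res (attD X x U0 (O' ⊓ N) hxU hO2 hd) M i n i' n' hiD' hnD').hom a0
          = (T.res (attD X x U0 (O' ⊓ N) hxU hO2 hd) M i n i' n' hiD' hnD').hom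
              ((T.pull (𝟙 (X.res U0)) M i n).hom a0) := by rw [h3]
        _ = _ := h2.symm
        _ = 0 := hz
    obtain ⟨a1, ha1⟩ := ((T.exact_pull_res (attD X x U0 (O' ⊓ N) hxU hO2 hd) M i n i' n'
      hiD' hnD') a0).mp hres0
    have hlt : U0 < U0 ⊔ (O' ⊓ N) :=
      lt_of_le_of_ne le_sup_left (fun h => hxU (by rw [h]; exact Or.inr hxO2))
    have hY1F : ContainsFj X j (U0 ⊔ (O' ⊓ N)) := fun y hy => Or.inl (hU0 y hy)
    have hcl : ((T.fjι X j i n ⟨U0 ⊔ (O' ⊓ N), hY1F, hYd'⟩).app M).hom a1 =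
        ((T.fjι X j i n ⟨U0, hU0, hd⟩).app M).hom a0 := by
      have h2 := comp_elem (ocolimι_res T X (ContainsFj X j) i n ⟨U0, hU0, hd⟩
        ⟨U0 ⊔ (O' ⊓ N), hY1F, hYd'⟩ le_sup_left (att_hdim X U0 (O' ⊓ N) hd) M) a1
      rw [← h2]
      exact congrArg _ ha1
    have hIH := ih (U0 ⊔ (O' ⊓ N)) hlt hY1F hYd' a1
    rw [hcl] at hIH
    exact hIH


theorem main (M : A.Cat) (i n : ℤ)
    (h0 : ∀ x : X.scheme, WeilCoh.codim X.scheme x = j + 1 →
      Limits.IsZero (T.ptGp X x M (i - 2 * ((j : ℤ) + 1)) (n - ((j : ℤ) + 1))))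
    (h1 : ∀ x : X.scheme, WeilCoh.codim X.scheme x = j + 1 →
      Limits.IsZero (T.ptGp X x M (i + 1 - 2 * ((j : ℤ) + 1)) (n - ((j : ℤ) + 1)))) :
    Function.Bijective ((T.fjRes X (Nat.le_succ j) i n).app M).hom := by
  constructor
  · rw [injective_iff_map_eq_zero]
    intro y hy
    obtain ⟨i0, rfl⟩ : ∃ i0, i = i0 + 1 := ⟨i - 1, by ring⟩
    obtain ⟨U, b, rfl⟩ := ocolim_rep T X (ContainsFj X (j + 1)) (fj_dir X (j + 1))
      (fj_ne X (j + 1)) (i0 + 1) n M y
    have h2 := comp_elem (ocolimι_map T X (containsFj_mono X (Nat.le_succ j)) (i0 + 1) n U M) b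
    rw [h2] at hy
    obtain ⟨U0, hle, hz⟩ := ocolim_eq_zero T X (ContainsFj X j) (fj_dir X j) (fj_ne X j)
      (i0 + 1) n M ⟨U.1, containsFj_mono X (Nat.le_succ j) _ U.2.1, U.2.2⟩ b hy
    exact inj_claim T X j M (i0 + 1 - 2 * ((j : ℤ) + 1)) (n - ((j : ℤ) + 1)) i0 n
      (by push_cast; ring) (by push_cast; ring)
      (fun x hx => ModuleCat.subsingleton_of_isZero (h0 x hx)) U0.1 U0.2.1 U hle _ b hz
  · intro y
    obtain ⟨U0, a0, rfl⟩ := ocolim_rep T X (ContainsFj X j) (fj_dir X j) (fj_ne X j) i n M y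
    obtain ⟨U0o, hU0, hd⟩ := U0
    exact surj_claim T X j M i n (i + 1 - 2 * ((j : ℤ) + 1)) (n - ((j : ℤ) + 1)) rfl rfl
      (fun x hx => ModuleCat.subsingleton_of_isZero (h1 x hx)) U0o hU0 hd a0

end Groth.Agent.Helper8.BMBij
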