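import Groth.Agent.Helper8.BMCor
import Mathlib

set_option autoImplicit false
universe u
open CategoryTheory AlgebraicGeometry Opposite Limits TopologicalSpace Topology
open BMCoh
open Groth.Agent.Helper8.BMTop Groth.Agent.Helper8.BMSch Groth.Agent.Helper8.BMColim
open Groth.Agent.Helper8.BMBasic Groth.Agent.Helper8.BMPushU Groth.Agent.Helper8.BMAtt
open Groth.Agent.Helper8.BMEx3 Groth.Agent.Helper8.BMEx1 Groth.Agent.Helper8.BMBij
open Groth.Agent.Helper8.BMNeg Groth.Agent.Helper8.BMVan Groth.Agent.Helper8.BMGen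
open Groth.Agent.Helper8.BMZero Groth.Agent.Helper8.BMFam Groth.Agent.Helper8.BMPtU
open Groth.Agent.Helper8.BMPack

namespace Groth.Agent.Helper8.BMCl

/-- heights are preserved by closed embeddings. -/
theorem ht_closedEmbedding {Z X : Type*} [TopologicalSpace Z] [TopologicalSpace X] (ι : Z → X)
    (hι : IsClosedEmbedding ι) (ζ : Z) : ht (ι ζ) = ht ζ := by
  apply le_antisymm (ht_map_le ι hι.continuous hι.isClosedMap ζ)
  letI iX := specializationPreorder X
  letI iZ := specializationPreorder Z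
  refine Order.height_le_height_apply_of_strictMono ι ?_ ζ
  intro a b hab
  have h1 : b ⤳ a := hab.le
  have h2 : ¬ a ⤳ b := fun h => (not_le_of_gt hab) h
  refine lt_of_le_not_ge ?_ ?_
  · exact (hι.isInducing.specializes_iff).mpr h1
  · intro h
    exact h2 ((hι.isInducing.specializes_iff).mp h)

variable {V : ObjectProperty Scheme.{u}} [IsConstructible V] {R : Type u} [CommRing R]
  {A : Coefs R}

theorem pdim_closedImmersion {Z X : Scheme.{u}} (ι : Z ⟶ X) [IsClosedImmersion ι] (ζ : Z) :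
    WeilCoh.pdim X (ι ζ) = WeilCoh.pdim Z ζ := by
  rw [pdim_eq_ht, pdim_eq_ht, ht_closedEmbedding ι ι.isClosedEmbedding ζ]

/-- there is a point of every codimension up to the dimension. -/
theorem exists_cdPt (X : Obj V) (j : ℕ) (hj : j + 1 ≤ WeilCoh.dim X.scheme) :
    ∃ t : X.scheme, WeilCoh.codim X.scheme t = j + 1 := by
  haveI : Nonempty X.scheme := by
    by_contra h
    rw [not_nonempty_iff] at h
    have : WeilCoh.dim X.scheme = 0 := natDim_of_isEmpty _
    omega
  obtain ⟨η, hη⟩ := exists_codim_zero X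
  have hfin := ht_lt_top X η
  have hpη := pdim_eq_ht (X := X.scheme) η
  obtain ⟨d, hd⟩ := ENat.ne_top_iff_exists.mp hfin.ne
  have hdd : d = WeilCoh.dim X.scheme := by
    rw [← hη, hpη, ← hd]; rfl
  letI iX := specializationPreorder X.scheme
  have hlt : ((WeilCoh.dim X.scheme - (j + 1) : ℕ) : ℕ∞) < Order.height η := by
    show _ < ht η
    rw [← hd]
    exact_mod_cast (by omega : WeilCoh.dim X.scheme - (j + 1) < d)
  obtain ⟨y, -, hy⟩ := (Order.coe_lt_height_iff (x := η) hfin).mp hlt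
  refine ⟨y, ?_⟩
  have hpy : WeilCoh.pdim X.scheme y = WeilCoh.dim X.scheme - (j + 1) := by
    rw [pdim_eq_ht]
    show (Order.height y).toNat = _
    rw [hy]; rfl
  unfold WeilCoh.codim
  rw [hpy]
  omega

/-- the reduced complement of an open containing `F_j` and missing a point of codimension `j+1`
has codimension exactly `j+1`. -/
theorem dim_complObj_eq (X : Obj V) (j : ℕ) (O2 : X.scheme.Opens) (hO2 : ContainsFj X j O2)
    (t : X.scheme) (ht : WeilCoh.codim X.scheme t = j + 1) (htO : t ∉ O2) :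
    WeilCoh.dim (complObj X O2).scheme + (j + 1) = WeilCoh.dim X.scheme := by
  have hpt : (WeilCoh.pdim X.scheme t : ℤ) = (WeilCoh.dim X.scheme : ℤ) - ((j : ℤ) + 1) :=
    pdim_pt X j ⟨t, ht⟩
  have hle := pdim_le_dim X t
  suffices h : WeilCoh.dim (complObj X O2).scheme = WeilCoh.pdim X.scheme t by
    rw [h]; omega
  rw [dim_eq_sdim_range (complι X O2) (complι X O2).isEmbedding, range_complι]
  apply le_antisymm
  · have hC : IsClosed ((O2 : Set X.scheme)ᶜ) := O2.isOpen.isClosed_compl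
    have hCne : ((O2 : Set X.scheme)ᶜ).Nonempty := ⟨t, htO⟩
    obtain ⟨z, hzC, hz⟩ := exists_mem_ht_eq_tkd hC hCne (tkd_set_lt_top X _)
    have h1 : sdim ((O2 : Set X.scheme)ᶜ) = WeilCoh.pdim X.scheme z := by
      rw [pdim_eq_ht]
      exact natDim_of_tkd_eq hz.symm
    rw [h1]
    have hzc : j + 1 ≤ WeilCoh.codim X.scheme z := by
      by_contra hlt
      exact hzC (hO2 z (by omega))
    have e1 := codim_cast X z
    have e3 := pdim_le_dim X z
    omega
  · have hsub : closure ({t} : Set X.scheme) ⊆ (O2 : Set X.scheme)ᶜ :=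
      closure_minimal (Set.singleton_subset_iff.mpr htO) O2.isOpen.isClosed_compl
    exact sdim_mono X hsub

theorem codim_complObj (X : Obj V) (j : ℕ) (O2 : X.scheme.Opens)
    (hdim : WeilCoh.dim (complObj X O2).scheme + (j + 1) = WeilCoh.dim X.scheme)
    (ζ : (complObj X O2).scheme) :
    WeilCoh.codim X.scheme (complι X O2 ζ) = WeilCoh.codim (complObj X O2).scheme ζ + (j + 1) := by
  unfold WeilCoh.codim
  rw [pdim_closedImmersion (complι X O2) ζ]
  have := pdim_le_dim (complObj X O2) ζ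
  omega

section main

variable (T : PreTheory V R A) (X : Obj V) (j m : ℕ) (O2 : X.scheme.Opens)
  (hO2 : ContainsFj X j O2)
  (hdim : WeilCoh.dim (complObj X O2).scheme + (j + 1) = WeilCoh.dim X.scheme)

include hdim in
theorem containsFj_big (O' : (complObj X O2).scheme.Opens)
    (hO' : ContainsFj (complObj X O2) m O') :
    ContainsFj X (j + 1 + m) (bigOpen (complι X O2) O') := by
  intro y hy
  rintro ⟨ζ, hζ, rfl⟩
  have h1 := codim_complObj X j O2 hdim ζ
  exact hζ (hO' ζ (by omega))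

include hdim in
theorem containsFj_preimage (U : X.scheme.Opens) (hU : ContainsFj X (j + 1 + m) U) :
    ContainsFj (complObj X O2) m ((complι X O2) ⁻¹ᵁ U) := by
  intro ζ hζ
  have h1 := codim_complObj X j O2 hdim ζ
  exact hU _ (by omega)

theorem big_hY (O' : (complObj X O2).scheme.Opens) :
    ((bigOpen (complι X O2) O' : X.scheme.Opens) : Set X.scheme) =
      (O2 : Set X.scheme) ∪ (complι X O2) '' (O' : Set (complObj X O2).scheme) := by
  rw [bigOpen_eq]
  congr 1
  show (Set.range (complι X O2))ᶜ = _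
  rw [range_complι, compl_compl]

theorem cl_hdisj : Disjoint (O2 : Set X.scheme) (Set.range (complι X O2)) := by
  rw [range_complι]
  exact disjoint_compl_right

include hO2 hdim in
theorem cl_relCodim (O' : (complObj X O2).scheme.Opens)
    (hO'd : WeilCoh.dim (O' : Scheme.{u}) = WeilCoh.dim (complObj X O2).scheme)
    (U' : X.scheme.Opens) (hU'd : WeilCoh.dim (U' : Scheme.{u}) = WeilCoh.dim X.scheme) :
    relCodim ((complObj X O2).res O').scheme (X.res U').scheme = (j : ℤ) + 1 := by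
  show relCodim (O' : Scheme.{u}) (U' : Scheme.{u}) = _
  unfold relCodim
  rw [hO'd, hU'd, ← hdim]
  push_cast; ring

include hO2 hdim in
theorem surj_aux (M : A.Cat) (i n : ℤ)
    (hvan : IsZero (T.fjGp (complObj X O2) m M (i + 1 - 2 * ((j : ℤ) + 1)) (n - ((j : ℤ) + 1))))
    (a2 : T.gp (X.res O2) M i n) :
    ∃ (U' : Idx X (ContainsFj X (j + 1 + m))) (hle : O2 ≤ U'.1)
      (hd : WeilCoh.dim (O2 : Scheme.{u}) = WeilCoh.dim (U'.1 : Scheme.{u}))
      (b : T.gp (X.res U'.1) M i n), (T.pull (X.resLE hle hd) M i n).hom b = a2 := by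
  have hd2 : WeilCoh.dim (O2 : Scheme.{u}) = WeilCoh.dim X.scheme := dim_of_containsFj X j O2 hO2
  have hcodD : (complD X O2 hd2).codim = (j : ℤ) + 1 := by
    show relCodim (complObj X O2).scheme X.scheme = _
    unfold relCodim
    rw [← hdim]; push_cast; ring
  have hiD : i + 1 - 2 * ((j : ℤ) + 1) = i + 1 - 2 * (complD X O2 hd2).codim := by rw [hcodD]
  have hnD : n - ((j : ℤ) + 1) = n - (complD X O2 hd2).codim := by rw [hcodD]
  obtain ⟨r, hr⟩ : ∃ r, r = (T.res (complD X O2 hd2) M i n _ _ hiD hnD).hom a2 := ⟨_, rfl⟩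
  haveI := ModuleCat.subsingleton_of_isZero hvan
  have h0 : ((T.fjι (complObj X O2) m (i + 1 - 2 * ((j : ℤ) + 1)) (n - ((j : ℤ) + 1))
      ⟨⊤, fun _ _ => trivial, dim_top _⟩).app M).hom
      ((T.pull (complObj X O2).resTop M _ _).hom r) = 0 := Subsingleton.elim _ _
  obtain ⟨O', hle', hz⟩ := ocolim_eq_zero T (complObj X O2) (ContainsFj (complObj X O2) m)
    (fj_dir _ m) (fj_ne _ m) _ _ M _ _ h0
  have hzr : (T.pull ((complObj X O2).resι O'.1 O'.2.2) M _ _).hom r = 0 := by
    have e := comp_elem (pull_comp T ((complObj X O2).resLE hle'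
      (O'.2.2.trans (dim_top (complObj X O2).scheme).symm)) (complObj X O2).resTop M
      (i + 1 - 2 * ((j : ℤ) + 1)) (n - ((j : ℤ) + 1))).symm r
    rw [hz] at e
    have e2 : (complObj X O2).resLE hle' (O'.2.2.trans (dim_top (complObj X O2).scheme).symm) ≫
        (complObj X O2).resTop = (complObj X O2).resι O'.1 O'.2.2 :=
      resLE_resι (complObj X O2) hle' _ (dim_top _)
    rw [e2] at e
    exact e.symm
  have hU'F := containsFj_big X j m O2 hdim O'.1 O'.2.1
  have hU'd := dim_of_containsFj X (j + 1 + m) _ hU'F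
  have hle : O2 ≤ bigOpen (complι X O2) O'.1 := by
    intro z hz
    have : z ∈ ((bigOpen (complι X O2) O'.1 : X.scheme.Opens) : Set X.scheme) := by
      rw [big_hY]; exact Or.inl hz
    exact this
  obtain ⟨D', hD'⟩ : ∃ D' : Decomp (X.res (bigOpen (complι X O2) O'.1)),
      D' = mkDecomp X (complObj X O2) (complι X O2) O'.1 O2 (bigOpen (complι X O2) O'.1) hle
        (hd2.trans hU'd.symm) (big_hY X O2 O'.1) (cl_hdisj X O2) := ⟨_, rfl⟩
  have hcodD' : D'.codim = (j : ℤ) + 1 := by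
    rw [hD']
    exact cl_relCodim X j O2 hO2 hdim O'.1 O'.2.2 _ hU'd
  have hiD' : i + 1 - 2 * ((j : ℤ) + 1) = i + 1 - 2 * D'.codim := by rw [hcodD']
  have hnD' : n - ((j : ℤ) + 1) = n - D'.codim := by rw [hcodD']
  have hrp := T.res_pull (complD X O2 hd2) D' (X.resι (bigOpen (complι X O2) O'.1) hU'd)
    (by rw [hD']; exact (complObj X O2).resι O'.1 O'.2.2) (by rw [hD']; exact 𝟙 (X.res O2))
    (by
      subst hD'
      exact (lcLift_fac X (complObj X O2) (complι X O2) O'.1 O2 _ (big_hY X O2 O'.1)).symm)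
    (by
      subst hD'
      show 𝟙 (X.res O2) ≫ X.resι O2 hd2 = X.resLE hle (hd2.trans hU'd.symm) ≫ X.resι _ hU'd
      rw [Category.id_comp, resLE_resι])
    M i n _ _ hiD hnD hiD' hnD'
  subst hD'
  have h1 := congrArg (fun φ => φ.hom a2) hrp
  simp only [ModuleCat.hom_comp, LinearMap.comp_apply] at h1
  have hres0 : (T.res (mkDecomp X (complObj X O2) (complι X O2) O'.1 O2
      (bigOpen (complι X O2) O'.1) hle (hd2.trans hU'd.symm) (big_hY X O2 O'.1)
      (cl_hdisj X O2)) M i n _ _ hiD' hnD').hom a2 = 0 := by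
    have hid : (T.pull (𝟙 (X.res O2)) M i n).hom a2 = a2 := by rw [pull_id]; rfl
    erw [hid] at h1
    rw [← h1]
    erw [← hr]
    exact hzr
  have hex := T.exact_pull_res (mkDecomp X (complObj X O2) (complι X O2) O'.1 O2
      (bigOpen (complι X O2) O'.1) hle (hd2.trans hU'd.symm) (big_hY X O2 O'.1)
      (cl_hdisj X O2)) M i n _ _ hiD' hnD'
  obtain ⟨b, hb⟩ := (hex a2).mp hres0
  exact ⟨⟨_, hU'F, hU'd⟩, hle, hd2.trans hU'd.symm, b, hb⟩

include hO2 hdim in
theorem inj_aux (M : A.Cat) (i n : ℤ)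
    (hvan : IsZero (T.fjGp (complObj X O2) m M (i - 2 * ((j : ℤ) + 1)) (n - ((j : ℤ) + 1))))
    (U : Idx X (ContainsFj X (j + 1 + m))) (hO2U : O2 ≤ U.1)
    (hdU : WeilCoh.dim (O2 : Scheme.{u}) = WeilCoh.dim (U.1 : Scheme.{u}))
    (b : T.gp (X.res U.1) M i n) (hb : (T.pull (X.resLE hO2U hdU) M i n).hom b = 0) :
    ((T.fjι X (j + 1 + m) i n U).app M).hom b = 0 := by
  obtain ⟨i0, rfl⟩ : ∃ i0, i = i0 + 1 := ⟨i - 1, by ring⟩
  have hWF := containsFj_preimage X j m O2 hdim U.1 U.2.1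
  have hWd := dim_of_containsFj (complObj X O2) m _ hWF
  have hY1 : ((U.1 : X.scheme.Opens) : Set X.scheme) = (O2 : Set X.scheme) ∪
      (complι X O2) '' (((complι X O2) ⁻¹ᵁ U.1 : (complObj X O2).scheme.Opens) :
        Set (complObj X O2).scheme) := by
    ext z
    constructor
    · intro hz
      by_cases hzO : z ∈ O2
      · exact Or.inl hzO
      · right
        have : z ∈ Set.range (complι X O2) := by rw [range_complι]; exact hzO
        obtain ⟨ζ, rfl⟩ := this
        exact ⟨ζ, hz, rfl⟩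
    · rintro (h | ⟨ζ, hζ, rfl⟩)
      · exact hO2U h
      · exact hζ
  haveI hcl1 : IsClosedImmersion (lcLift X (complObj X O2) (complι X O2)
      ((complι X O2) ⁻¹ᵁ U.1) O2 U.1 hY1) :=
    isClosedImmersion_lcLift X (complObj X O2) (complι X O2) _ O2 U.1 hY1 (cl_hdisj X O2)
  have hrel1 := cl_relCodim X j O2 hO2 hdim ((complι X O2) ⁻¹ᵁ U.1) hWd U.1 U.2.2
  have hi1 : i0 + 1 = (i0 + 1 - 2 * ((j : ℤ) + 1)) + 2 * relCodim
      ((complObj X O2).res ((complι X O2) ⁻¹ᵁ U.1)).scheme (X.res U.1).scheme := by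
    rw [hrel1]; ring
  have hn1 : n = (n - ((j : ℤ) + 1)) + relCodim
      ((complObj X O2).res ((complι X O2) ⁻¹ᵁ U.1)).scheme (X.res U.1).scheme := by
    rw [hrel1]; ring
  have hex := T.exact_push_pull (mkDecomp X (complObj X O2) (complι X O2)
    ((complι X O2) ⁻¹ᵁ U.1) O2 U.1 hO2U hdU hY1 (cl_hdisj X O2)) M i0 n _ _ hi1 hn1
  obtain ⟨z, hz⟩ := (hex b).mp hb
  haveI := ModuleCat.subsingleton_of_isZero hvan
  have h0 : ((T.fjι (complObj X O2) m (i0 + 1 - 2 * ((j : ℤ) + 1)) (n - ((j : ℤ) + 1))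
      ⟨(complι X O2) ⁻¹ᵁ U.1, hWF, hWd⟩).app M).hom z = 0 := Subsingleton.elim _ _
  obtain ⟨W', hW'le, hzW'⟩ := ocolim_eq_zero T (complObj X O2) (ContainsFj (complObj X O2) m)
    (fj_dir _ m) (fj_ne _ m) _ _ M _ _ h0
  have hU''F := containsFj_big X j m O2 hdim W'.1 W'.2.1
  have hU''d := dim_of_containsFj X (j + 1 + m) _ hU''F
  have hU''le : bigOpen (complι X O2) W'.1 ≤ U.1 := by
    intro y hy
    have hy' : y ∈ ((bigOpen (complι X O2) W'.1 : X.scheme.Opens) : Set X.scheme) := hy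
    rw [big_hY] at hy'
    rcases hy' with h | ⟨ζ, hζ, rfl⟩
    · exact hO2U h
    · exact hW'le hζ
  have hO2U'' : O2 ≤ bigOpen (complι X O2) W'.1 := by
    intro y hy
    have : y ∈ ((bigOpen (complι X O2) W'.1 : X.scheme.Opens) : Set X.scheme) := by
      rw [big_hY]; exact Or.inl hy
    exact this
  haveI hcl2 : IsClosedImmersion (lcLift X (complObj X O2) (complι X O2) W'.1 O2
      (bigOpen (complι X O2) W'.1) (big_hY X O2 W'.1)) :=
    isClosedImmersion_lcLift X (complObj X O2) (complι X O2) _ O2 _ (big_hY X O2 W'.1)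
      (cl_hdisj X O2)
  have hrel2 := cl_relCodim X j O2 hO2 hdim W'.1 W'.2.2 _ hU''d
  have hi2 : i0 + 1 = (i0 + 1 - 2 * ((j : ℤ) + 1)) + 2 * relCodim
      ((complObj X O2).res W'.1).scheme (X.res (bigOpen (complι X O2) W'.1)).scheme := by
    rw [hrel2]; ring
  have hn2 : n = (n - ((j : ℤ) + 1)) + relCodim
      ((complObj X O2).res W'.1).scheme (X.res (bigOpen (complι X O2) W'.1)).scheme := by
    rw [hrel2]; ring
  have hpb : IsPullback ((complObj X O2).resLE hW'le (W'.2.2.trans hWd.symm)).hom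
      (lcLift X (complObj X O2) (complι X O2) W'.1 O2 (bigOpen (complι X O2) W'.1)
        (big_hY X O2 W'.1))
      (lcLift X (complObj X O2) (complι X O2) ((complι X O2) ⁻¹ᵁ U.1) O2 U.1 hY1)
      (X.resLE hU''le (hU''d.trans U.2.2.symm)).hom := by
    refine (IsOpenImmersion.isPullback _ ((complObj X O2).scheme.homOfLE hW'le)
      (X.scheme.homOfLE hU''le) _ ?_ ?_).flip
    · rw [← cancel_mono U.1.ι]
      simp only [Category.assoc]
      rw [lcLift_fac, Scheme.homOfLE_ι, ← Category.assoc, Scheme.homOfLE_ι, lcLift_fac]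
    · ext w
      show lcLift X (complObj X O2) (complι X O2) ((complι X O2) ⁻¹ᵁ U.1) O2 U.1 hY1 w ∈
          Set.range (X.scheme.homOfLE hU''le) ↔
        w ∈ Set.range ((complObj X O2).scheme.homOfLE hW'le)
      refine (mem_range_homOfLE (Y := X.scheme) hU''le _).trans
        (Iff.trans ?_ (mem_range_homOfLE (Y := (complObj X O2).scheme) hW'le w).symm)
      rw [lcLift_apply]
      constructor
      · intro h
        by_contra hw
        exact h ⟨w.1, hw, rfl⟩
      · intro h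
        rintro ⟨w2, hw2, h2⟩
        have := (complι X O2).isClosedEmbedding.injective h2
        rw [this] at hw2
        exact hw2 h
  have hpp := T.push_pull
    (lcLift X (complObj X O2) (complι X O2) ((complι X O2) ⁻¹ᵁ U.1) O2 U.1 hY1)
    (lcLift X (complObj X O2) (complι X O2) W'.1 O2 (bigOpen (complι X O2) W'.1)
      (big_hY X O2 W'.1))
    (X.resLE hU''le (hU''d.trans U.2.2.symm))
    ((complObj X O2).resLE hW'le (W'.2.2.trans hWd.symm)) hpb M _ _ (i0 + 1) n hi1 hn1 hi2 hn2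
  have h3 := congrArg (fun φ => φ.hom z) hpp
  simp only [ModuleCat.hom_comp, LinearMap.comp_apply] at h3
  have hbz : (T.pull (X.resLE hU''le (hU''d.trans U.2.2.symm)) M (i0 + 1) n).hom b = 0 := by
    rw [← hz]
    erw [h3]
    erw [hzW']
    rw [map_zero]
  have e := comp_elem (ocolimι_res T X (ContainsFj X (j + 1 + m)) (i0 + 1) n
    ⟨bigOpen (complι X O2) W'.1, hU''F, hU''d⟩ U hU''le (hU''d.trans U.2.2.symm) M) b
  rw [← e, hbz, map_zero]

end main

theorem main (T : PreTheory V R A) (X : Obj V) (M : A.Cat) (j m : ℕ) (i n : ℤ)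
    (hZ : ∀ (Z : Obj V) (ι : Z.scheme ⟶ X.scheme) [IsClosedImmersion ι] [IsReduced Z.scheme],
      WeilCoh.dim Z.scheme + (j + 1) = WeilCoh.dim X.scheme →
      IsZero (T.fjGp Z m M (i - 2 * ((j : ℤ) + 1)) (n - ((j : ℤ) + 1))) ∧
      IsZero (T.fjGp Z m M (i + 1 - 2 * ((j : ℤ) + 1)) (n - ((j : ℤ) + 1)))) :
    Function.Bijective
      ((T.fjRes X ((Nat.le_succ j).trans (Nat.le_add_right (j + 1) m)) i n).app M).hom := by
  have hjm : j ≤ j + 1 + m := (Nat.le_succ j).trans (Nat.le_add_right (j + 1) m)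
  by_cases hj : j + 1 ≤ WeilCoh.dim X.scheme
  · obtain ⟨t, ht⟩ := exists_cdPt X j hj
    have hO2F : ∀ U0 : Idx X (ContainsFj X j),
        ContainsFj X j (U0.1 ⊓ outOpen (X.ptSubι t)) := fun U0 y hy =>
      ⟨U0.2.1 y hy, containsFj_outOpen X j t ht y hy⟩
    have htO : ∀ U0 : Idx X (ContainsFj X j), t ∉ U0.1 ⊓ outOpen (X.ptSubι t) := fun U0 h =>
      ((mem_outOpen_iff X t t).mp h.2) (subset_closure rfl)
    constructor
    · rw [injective_iff_map_eq_zero]
      intro y hy
      obtain ⟨U, b, rfl⟩ := ocolim_rep T X (ContainsFj X (j + 1 + m)) (fj_dir X (j + 1 + m))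
        (fj_ne X (j + 1 + m)) i n M y
      have h2 := comp_elem (ocolimι_map T X (containsFj_mono X hjm) i n U M) b
      rw [h2] at hy
      obtain ⟨U0, hle, hz⟩ := ocolim_eq_zero T X (ContainsFj X j) (fj_dir X j) (fj_ne X j)
        i n M ⟨U.1, containsFj_mono X hjm _ U.2.1, U.2.2⟩ b hy
      have hdim := dim_complObj_eq X j _ (hO2F U0) t ht (htO U0)
      have hd2 := dim_of_containsFj X j _ (hO2F U0)
      have hle2 : U0.1 ⊓ outOpen (X.ptSubι t) ≤ U.1 := inf_le_left.trans hle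
      refine inj_aux T X j m _ (hO2F U0) hdim M i n (hZ _ (complι X _) hdim).1 U hle2
        (hd2.trans U.2.2.symm) b ?_
      have e := pull_pull T X (inf_le_left : U0.1 ⊓ outOpen (X.ptSubι t) ≤ U0.1) hle
        (hd2.trans U0.2.2.symm) (U0.2.2.trans U.2.2.symm) M i n b
      rw [← e]
      erw [hz]
      rw [map_zero]
    · intro y
      obtain ⟨U0, a, rfl⟩ := ocolim_rep T X (ContainsFj X j) (fj_dir X j) (fj_ne X j) i n M y
      have hdim := dim_complObj_eq X j _ (hO2F U0) t ht (htO U0)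
      have hd2 := dim_of_containsFj X j _ (hO2F U0)
      obtain ⟨U', hle, hd, b, hb⟩ := surj_aux T X j m _ (hO2F U0) hdim M i n
        (hZ _ (complι X _) hdim).2
        ((T.pull (X.resLE (inf_le_left : U0.1 ⊓ outOpen (X.ptSubι t) ≤ U0.1)
          (hd2.trans U0.2.2.symm)) M i n).hom a)
      refine ⟨((T.fjι X (j + 1 + m) i n U').app M).hom b, ?_⟩
      have h2 := comp_elem (ocolimι_map T X (containsFj_mono X hjm) i n U' M) b
      rw [h2]
      have e1 := comp_elem (ocolimι_res T X (ContainsFj X j) i n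
        ⟨U0.1 ⊓ outOpen (X.ptSubι t), hO2F U0, hd2⟩
        ⟨U'.1, containsFj_mono X hjm _ U'.2.1, U'.2.2⟩ hle hd M) b
      have e2 := comp_elem (ocolimι_res T X (ContainsFj X j) i n
        ⟨U0.1 ⊓ outOpen (X.ptSubι t), hO2F U0, hd2⟩ U0 inf_le_left (hd2.trans U0.2.2.symm) M) a
      rw [← e1, hb, e2]
  · have hup : ∀ U : X.scheme.Opens, ContainsFj X j U → ContainsFj X (j + 1 + m) U := by
      intro U hU y _
      apply hU y
      unfold WeilCoh.codim
      omega
    constructor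
    · rw [injective_iff_map_eq_zero]
      intro y hy
      obtain ⟨U, b, rfl⟩ := ocolim_rep T X (ContainsFj X (j + 1 + m)) (fj_dir X (j + 1 + m))
        (fj_ne X (j + 1 + m)) i n M y
      have h2 := comp_elem (ocolimι_map T X (containsFj_mono X hjm) i n U M) b
      rw [h2] at hy
      obtain ⟨U0, hle, hz⟩ := ocolim_eq_zero T X (ContainsFj X j) (fj_dir X j) (fj_ne X j)
        i n M ⟨U.1, containsFj_mono X hjm _ U.2.1, U.2.2⟩ b hy
      have e := comp_elem (ocolimι_res T X (ContainsFj X (j + 1 + m)) i n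
        ⟨U0.1, hup _ U0.2.1, U0.2.2⟩ U hle (U0.2.2.trans U.2.2.symm) M) b
      rw [← e]
      erw [hz]
      rw [map_zero]
    · intro y
      obtain ⟨U0, a, rfl⟩ := ocolim_rep T X (ContainsFj X j) (fj_dir X j) (fj_ne X j) i n M y
      refine ⟨((T.fjι X (j + 1 + m) i n ⟨U0.1, hup _ U0.2.1, U0.2.2⟩).app M).hom a, ?_⟩
      exact comp_elem (ocolimι_map T X (containsFj_mono X hjm) i n
        ⟨U0.1, hup _ U0.2.1, U0.2.2⟩ M) a

end Groth.Agent.Helper8.BMCl
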