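import Groth.Prelude.Def_BMCoh2
import Mathlib

set_option autoImplicit false
universe u
open CategoryTheory AlgebraicGeometry Opposite Limits
open BMCoh

namespace Groth.Agent.Helper8.BMColim

variable {V : ObjectProperty Scheme.{u}} [IsConstructible V] {R : Type u} [CommRing R]
  {A : Coefs R} (T : PreTheory V R A)

/-- the colimit injections are compatible with restriction. -/
theorem ocolimι_res (X : Obj V) (P : X.scheme.Opens → Prop) (i n : ℤ) (U U' : Idx X P)
    (h : U.1 ≤ U'.1) (hd : WeilCoh.dim (U.1 : Scheme.{u}) = WeilCoh.dim (U'.1 : Scheme.{u}))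
    (M : A.Cat) :
    T.pull (X.resLE h hd) M i n ≫ (T.ocolimι X P i n U).app M =
      (T.ocolimι X P i n U').app M := by
  have hle : U ≤ U' := h
  have := colimit.w ((idxDiag X P).op ⋙ T.H i n) (homOfLE hle).op
  exact congrArg (fun φ => φ.app M) this

theorem ocolimι_map (X : Obj V) {P Q : X.scheme.Opens → Prop} (h : ∀ U, P U → Q U) (i n : ℤ)
    (U : Idx X P) (M : A.Cat) :
    (T.ocolimι X P i n U).app M ≫ (T.ocolimMap X h i n).app M =
      (T.ocolimι X Q i n ⟨U.1, h _ U.2.1, U.2.2⟩).app M := by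
  have := colimit.ι_pre ((idxDiag X Q).op ⋙ T.H i n) (idxIncl X h).op (op U)
  exact congrArg (fun φ => φ.app M) this

theorem ocolim_ext (X : Obj V) (P : X.scheme.Opens → Prop) (i n : ℤ) (M : A.Cat)
    {W : ModuleCat.{u} R} {f g : (T.ocolim X P i n).obj M ⟶ W}
    (w : ∀ U : Idx X P, (T.ocolimι X P i n U).app M ≫ f = (T.ocolimι X P i n U).app M ≫ g) :
    f = g := by
  unfold PreTheory.ocolim at f g
  apply colimit_obj_ext
  intro j
  exact w j.unop

section filtered

variable (X : Obj V) (P : X.scheme.Opens → Prop)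
  (hdir : ∀ U U' : Idx X P, ∃ U'' : Idx X P, U''.1 ≤ U.1 ∧ U''.1 ≤ U'.1)
  (hne : Nonempty (Idx X P))

include hdir hne

theorem isFiltered_idx : IsFiltered (Idx X P)ᵒᵖ := by
  haveI : IsDirected (Idx X P) (· ≥ ·) := ⟨fun a b => by
    obtain ⟨c, h1, h2⟩ := hdir a b
    exact ⟨c, h1, h2⟩⟩
  haveI : IsCofiltered (Idx X P) := isCofiltered_of_directed_ge_nonempty _
  infer_instance

theorem ocolim_rep (i n : ℤ) (M : A.Cat) (a : (T.ocolim X P i n).obj M) :
    ∃ (U : Idx X P) (b : T.gp (X.res U.1) M i n), ((T.ocolimι X P i n U).app M).hom b = a := by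
  haveI := isFiltered_idx X P hdir hne
  let F := (idxDiag X P).op ⋙ T.H i n
  have hc : IsColimit (((evaluation _ _).obj M).mapCocone (colimit.cocone F)) :=
    isColimitOfPreserves _ (colimit.isColimit F)
  obtain ⟨j, y, hy⟩ := Concrete.isColimit_exists_rep (F ⋙ (evaluation _ _).obj M) hc a
  exact ⟨j.unop, y, hy⟩

theorem ocolim_eq (i n : ℤ) (M : A.Cat) (U U' : Idx X P) (b : T.gp (X.res U.1) M i n)
    (b' : T.gp (X.res U'.1) M i n)
    (h : ((T.ocolimι X P i n U).app M).hom b = ((T.ocolimι X P i n U').app M).hom b') :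
    ∃ (U'' : Idx X P) (hle : U''.1 ≤ U.1) (hle' : U''.1 ≤ U'.1),
      (T.pull (X.resLE hle (U''.2.2.trans U.2.2.symm)) M i n).hom b =
        (T.pull (X.resLE hle' (U''.2.2.trans U'.2.2.symm)) M i n).hom b' := by
  haveI := isFiltered_idx X P hdir hne
  let F := (idxDiag X P).op ⋙ T.H i n
  have hc : IsColimit (((evaluation _ _).obj M).mapCocone (colimit.cocone F)) :=
    isColimitOfPreserves _ (colimit.isColimit F)
  obtain ⟨k, f, g, hfg⟩ := Concrete.isColimit_exists_of_rep_eq
    (F ⋙ (evaluation _ _).obj M) hc (i := op U) (j := op U') b b' h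
  exact ⟨k.unop, f.unop.le, g.unop.le, hfg⟩

theorem ocolim_eq_zero (i n : ℤ) (M : A.Cat) (U : Idx X P) (b : T.gp (X.res U.1) M i n)
    (h : ((T.ocolimι X P i n U).app M).hom b = 0) :
    ∃ (U'' : Idx X P) (hle : U''.1 ≤ U.1),
      (T.pull (X.resLE hle (U''.2.2.trans U.2.2.symm)) M i n).hom b = 0 := by
  obtain ⟨U'', hle, hle', h'⟩ := ocolim_eq T X P hdir hne i n M U U b 0 (by rw [h, map_zero])
  exact ⟨U'', hle, by rw [h', map_zero]⟩

end filtered

end Groth.Agent.Helper8.BMColim
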