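import Groth.Agent.Helper8.BMEx2
import Mathlib

set_option autoImplicit false
universe u
open CategoryTheory AlgebraicGeometry Opposite Limits TopologicalSpace Topology
open BMCoh
open Groth.Agent.Helper8.BMTop Groth.Agent.Helper8.BMSch Groth.Agent.Helper8.BMColim
open Groth.Agent.Helper8.BMBasic Groth.Agent.Helper8.BMPushU Groth.Agent.Helper8.BMAtt
open Groth.Agent.Helper8.BMNeg Groth.Agent.Helper8.BMVan Groth.Agent.Helper8.BMGen

namespace Groth.Agent.Helper8.BMCor

variable {V : ObjectProperty Scheme.{u}} [IsConstructible V] {R : Type u} [CommRing R]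
  {A : Coefs R}

theorem vanish' (T : TheoryOn V R A) (M : A.Cat) (c : ℕ) (X : Obj V) [IsReduced X.scheme]
    (hc : ∀ (y : X.scheme) (i n : ℤ), (WeilCoh.pdim X.scheme y : ℤ) + c < i →
      IsZero (T.ptGp X y M i n)) (j : ℕ) :
    ∀ (i n : ℤ), (WeilCoh.dim X.scheme : ℤ) + j + c < i → IsZero (T.fjGp X j M i n) := by
  induction j with
  | zero =>
    intro i n hi
    have hvan : ∀ η : X.scheme, WeilCoh.pdim X.scheme η = WeilCoh.dim X.scheme →
        Subsingleton (T.ptGp X η M i n) := fun η hη =>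
      ModuleCat.subsingleton_of_isZero (hc η i n (by rw [hη]; push_cast at hi; linarith))
    haveI : Subsingleton (T.fjGp X 0 M i n) :=
      ⟨fun a b => by
        rw [f0_vanish T.toPreTheory X M i n hvan a, f0_vanish T.toPreTheory X M i n hvan b]⟩
    exact ModuleCat.isZero_of_subsingleton _
  | succ j ih =>
    intro i n hi
    have h0 : ∀ x : X.scheme, WeilCoh.codim X.scheme x = j + 1 →
        Subsingleton (T.ptGp X x M (i - 2 * ((j : ℤ) + 1)) (n - ((j : ℤ) + 1))) := by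
      intro x hx
      apply ModuleCat.subsingleton_of_isZero
      apply hc
      have h1 := codim_cast X x
      rw [hx] at h1
      push_cast at h1 hi
      linarith
    have hinj := fjRes_injective T.toPreTheory X j M i n h0
    have hz := ih i n (by push_cast at hi; linarith)
    haveI := ModuleCat.subsingleton_of_isZero hz
    haveI : Subsingleton (T.fjGp X (j + 1) M i n) :=
      ⟨fun a b => hinj (Subsingleton.elim _ _)⟩
    exact ModuleCat.isZero_of_subsingleton _

theorem main (T : TheoryOn V R A) (X : Obj V) [IsReduced X.scheme] (M : A.Cat) (c : ℕ)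
    (hc : ∀ (y : X.scheme) (k l : ℤ), (WeilCoh.pdim X.scheme y : ℤ) + c < k →
      IsZero (T.ptGp X y M k l)) (q : ℕ) (P₀ : T.PushData X q) (Q₀ : T.ResData X q)
    (P₁ : T.PushData X (q + 1)) (Q₁ : T.ResData X (q + 1)) (e m a n e' m' b k a₀ n₀ : ℤ)
    (hd : e + ((q + 1 : ℕ) : ℤ) = (WeilCoh.dim X.scheme : ℤ) + c)
    (ha : a = e + 2 * ((q + 1 : ℕ) : ℤ)) (hn : n = m + ((q + 1 : ℕ) : ℤ))
    (he' : e' = a + 1 - 2 * (((q + 1 : ℕ) : ℤ) + 1)) (hm' : m' = n - (((q + 1 : ℕ) : ℤ) + 1))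
    (hb : a₀ = b + 2 * (q : ℤ)) (hk : n₀ = k + (q : ℤ)) (he : e = a₀ + 1 - 2 * ((q : ℤ) + 1))
    (hm : m = n₀ - ((q : ℤ) + 1)) :
    (∀ α : T.fjGp X (q + 1) M a n, α ∈ T.nr X (q + 1) a n M →
      ∃ ξ : T.ptSum X (q + 1) M e m,
        (Q₁.tot M a n e' m' he' hm').hom ((P₁.tot M e m a n ha hn).hom ξ) = 0 ∧
          (P₁.tot M e m a n ha hn).hom ξ = α) ∧
    (∀ ξ : T.ptSum X (q + 1) M e m,
      (Q₁.tot M a n e' m' he' hm').hom ((P₁.tot M e m a n ha hn).hom ξ) = 0 →
      (P₁.tot M e m a n ha hn).hom ξ = 0 →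
      ∃ ζ : T.ptSum X q M b k,
        (Q₀.tot M a₀ n₀ e m he hm).hom ((P₀.tot M b k a₀ n₀ hb hk).hom ζ) = ξ) := by
  constructor
  · intro α hα
    obtain ⟨α', rfl⟩ := hα
    have hzero : IsZero (T.fjGp X q M a n) :=
      vanish' T M c X hc q a n (by push_cast at hd ha; linarith)
    haveI := ModuleCat.subsingleton_of_isZero hzero
    have hex := BMEx3.main T.toPreTheory X q P₁ M e m a n ha hn
    obtain ⟨ξ, hξ⟩ := (hex _).mp (Subsingleton.elim
      (((T.fjRes X (Nat.le_succ q) a n).app M).hom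
        (((T.fjRes X (Nat.le_succ (q + 1)) a n).app M).hom α')) 0)
    refine ⟨ξ, ?_, hξ⟩
    rw [hξ]
    exact (BMEx1.main T.toPreTheory X (q + 1) Q₁ M a n e' m' he' hm').apply_apply_eq_zero α'
  · intro ξ _ h2
    obtain rfl : a = a₀ + 1 := by push_cast at ha; linarith
    obtain rfl : n₀ = n := by push_cast at hn; linarith
    have hex2 := BMEx2.main T.toPreTheory X q Q₀ P₁ M a₀ n₀ e m he hm ha hn
    obtain ⟨η, hη⟩ := (hex2 ξ).mp h2
    have hsurj : ∃ ζ, (P₀.tot M b k a₀ n₀ hb hk).hom ζ = η := by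
      cases q with
      | zero => exact (BMZero.main T.toPreTheory X P₀ M b k a₀ n₀ hb hk).2 η
      | succ q' =>
        have hzero : IsZero (T.fjGp X q' M a₀ n₀) :=
          vanish' T M c X hc q' a₀ n₀ (by push_cast at hd he ⊢; linarith)
        haveI := ModuleCat.subsingleton_of_isZero hzero
        have hex := BMEx3.main T.toPreTheory X q' P₀ M b k a₀ n₀ hb hk
        exact (hex η).mp (Subsingleton.elim _ _)
    obtain ⟨ζ, hζ⟩ := hsurj
    exact ⟨ζ, by rw [hζ, hη]⟩

end Groth.Agent.Helper8.BMCor
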