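import Groth.Agent.Helper8.BMEx3
import Mathlib

set_option autoImplicit false
universe u
open CategoryTheory AlgebraicGeometry Opposite Limits TopologicalSpace Topology
open BMCoh
open Groth.Agent.Helper8.BMTop Groth.Agent.Helper8.BMSch Groth.Agent.Helper8.BMColim
open Groth.Agent.Helper8.BMBasic Groth.Agent.Helper8.BMPushU Groth.Agent.Helper8.BMAtt
open Groth.Agent.Helper8.BMEx3

namespace Groth.Agent.Helper8.BMEx1

variable {V : ObjectProperty Scheme.{u}} [IsConstructible V] {R : Type u} [CommRing R]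
  {A : Coefs R} (T : PreTheory V R A) (X : Obj V) (j : ℕ)

theorem exists_opens_preimage (x : X.scheme) (W' : (X.ptSub x).scheme.Opens) :
    ∃ O' : X.scheme.Opens, W' = (X.ptSubι x) ⁻¹ᵁ O' := by
  obtain ⟨t, ht, hpre⟩ := (X.ptSubι x).isEmbedding.isInducing.isOpen_iff.mp W'.isOpen
  exact ⟨⟨t, ht⟩, Opens.ext hpre.symm⟩

/-- the residue datum on a class represented on `U0`, computed through an attached piece. -/
theorem cpt_att (Q : T.ResData X j) (x : X.cdPt (j + 1)) (M : A.Cat) (i n i' n' : ℤ)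
    (hi : i' = i + 1 - 2 * ((j : ℤ) + 1)) (hn : n' = n - ((j : ℤ) + 1))
    (U0 O : X.scheme.Opens) (hU0 : ContainsFj X j U0) (hxU : x.1 ∉ U0) (hxO : x.1 ∈ O)
    (hO : ∀ z ∈ O, z ∉ U0 → z ∈ closure ({x.1} : Set X.scheme))
    (hd : WeilCoh.dim (U0 : Scheme.{u}) = WeilCoh.dim X.scheme)
    (hiD : i' = i + 1 - 2 * (attD X x.1 U0 O hxU hO hd).codim)
    (hnD : n' = n - (attD X x.1 U0 O hxU hO hd).codim)
    (a0 : T.gp (attD X x.1 U0 O hxU hO hd).U M i n) :
    (Q.cpt x M i n i' n' hi hn).hom (((T.fjι X j i n ⟨U0, hU0, hd⟩).app M).hom a0) =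
      ((T.ptι X x.1 i' n' ⟨attW X x.1 O, attW_nonempty X x.1 O hxO,
          IsConstructible.dim_open (X.ptSub x.1).mem inferInstance _
            (attW_nonempty X x.1 O hxO)⟩).app M).hom
        ((T.res (attD X x.1 U0 O hxU hO hd) M i n i' n' hiD hnD).hom a0) := by
  have hYd : WeilCoh.dim ((U0 ⊔ O : X.scheme.Opens) : Scheme.{u}) = WeilCoh.dim X.scheme :=
    (att_hdim X U0 O hd).symm.trans hd
  have := Q.cpt_spec x M i n i' n' hi hn (X.resι (U0 ⊔ O) hYd) (attD X x.1 U0 O hxU hO hd)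
    ⟨attW X x.1 O, attW_nonempty X x.1 O hxO,
      IsConstructible.dim_open (X.ptSub x.1).mem inferInstance _ (attW_nonempty X x.1 O hxO)⟩
    (𝟙 _) (by
      show (𝟙 _) ≫ (attD X x.1 U0 O hxU hO hd).i ≫ (U0 ⊔ O : X.scheme.Opens).ι = _
      rw [Category.id_comp]
      exact attD_fac X x.1 U0 O hxU hO hd)
    ⟨U0, hU0, hd⟩ (𝟙 _) (by
      show (𝟙 _) ≫ X.scheme.homOfLE (le_sup_left : U0 ≤ U0 ⊔ O) ≫
        (U0 ⊔ O : X.scheme.Opens).ι = _
      rw [Category.id_comp, Scheme.homOfLE_ι]) hiD hnD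
  erw [pull_id T, pull_id T, Category.id_comp, Category.id_comp] at this
  exact congrArg (fun φ => φ.hom a0) this


theorem comp_elem {S : Type u} [Ring S] {A B C : ModuleCat.{u} S} {f : A ⟶ B} {g : B ⟶ C}
    {k : A ⟶ C} (h : f ≫ g = k) (a : A) : g.hom (f.hom a) = k.hom a := by
  rw [← h]; rfl

theorem mem_outOpen_iff (x z : X.scheme) :
    z ∈ outOpen (X.ptSubι x) ↔ z ∉ closure ({x} : Set X.scheme) := by
  rw [← range_ptSubι]; rfl

/-- restriction followed by a residue component is zero. -/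
theorem fjRes_cpt_zero (Q : T.ResData X j) (x : X.cdPt (j + 1)) (M : A.Cat) (i n i' n' : ℤ)
    (hi : i' = i + 1 - 2 * ((j : ℤ) + 1)) (hn : n' = n - ((j : ℤ) + 1)) :
    (T.fjRes X (Nat.le_succ j) i n).app M ≫ Q.cpt x M i n i' n' hi hn = 0 := by
  apply ocolim_ext
  intro U'
  rw [comp_zero]
  have hxc : WeilCoh.codim X.scheme x.1 = j + 1 := x.2
  have hxU' : x.1 ∈ U'.1 := U'.2.1 x.1 (by omega)
  have hU0F : ContainsFj X j (U'.1 ⊓ outOpen (X.ptSubι x.1)) := fun y hy =>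
    ⟨U'.2.1 y (by omega), containsFj_outOpen X j x.1 x.2 y hy⟩
  have hU0d := dim_of_containsFj X j _ hU0F
  have hxU0 : x.1 ∉ U'.1 ⊓ outOpen (X.ptSubι x.1) := fun h =>
    ((mem_outOpen_iff X x.1 x.1).mp h.2) (subset_closure rfl)
  have hO : ∀ z ∈ U'.1, z ∉ U'.1 ⊓ outOpen (X.ptSubι x.1) →
      z ∈ closure ({x.1} : Set X.scheme) := fun z hz hzn => by
    by_contra h
    exact hzn ⟨hz, (mem_outOpen_iff X x.1 z).mpr h⟩
  have hcod := attD_codim X x.1 (U'.1 ⊓ outOpen (X.ptSubι x.1)) U'.1 hxU0 hO hU0d hxU'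
  have hiD : i' = i + 1 - 2 * (attD X x.1 (U'.1 ⊓ outOpen (X.ptSubι x.1)) U'.1 hxU0 hO
      hU0d).codim := by rw [hcod, hxc]; push_cast; exact hi
  have hnD : n' = n - (attD X x.1 (U'.1 ⊓ outOpen (X.ptSubι x.1)) U'.1 hxU0 hO
      hU0d).codim := by rw [hcod, hxc]; push_cast; exact hn
  have h2 := ocolimι_map T X (containsFj_mono X (Nat.le_succ j)) i n U' M
  have hU'd : WeilCoh.dim (U'.1 : Scheme.{u}) = WeilCoh.dim X.scheme := U'.2.2
  have hsup : U'.1 ⊓ outOpen (X.ptSubι x.1) ⊔ U'.1 ≤ U'.1 := sup_le inf_le_left le_rfl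
  have hsupd : WeilCoh.dim ((U'.1 ⊓ outOpen (X.ptSubι x.1) ⊔ U'.1 : X.scheme.Opens) :
      Scheme.{u}) = WeilCoh.dim X.scheme :=
    (att_hdim X (U'.1 ⊓ outOpen (X.ptSubι x.1)) U'.1 hU0d).symm.trans hU0d
  have h3 := ocolimι_res T X (ContainsFj X j) i n
    ⟨U'.1 ⊓ outOpen (X.ptSubι x.1), hU0F, hU0d⟩
    ⟨U'.1, containsFj_mono X (Nat.le_succ j) _ U'.2.1, U'.2.2⟩ inf_le_left
    (hU0d.trans hU'd.symm) M
  have hex := T.exact_pull_res (attD X x.1 (U'.1 ⊓ outOpen (X.ptSubι x.1)) U'.1 hxU0 hO hU0d)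
    M i n i' n' hiD hnD
  have h4 : T.pull (attD X x.1 (U'.1 ⊓ outOpen (X.ptSubι x.1)) U'.1 hxU0 hO hU0d).j M i n ≫
      T.res (attD X x.1 (U'.1 ⊓ outOpen (X.ptSubι x.1)) U'.1 hxU0 hO hU0d) M i n i' n'
        hiD hnD = 0 := by
    apply ModuleCat.hom_ext; apply LinearMap.ext; intro a
    exact hex.apply_apply_eq_zero a
  apply ModuleCat.hom_ext; apply LinearMap.ext; intro a
  have h5 : (T.pull (X.resLE inf_le_left (hU0d.trans hU'd.symm)) M i n).hom a =
      (T.pull (attD X x.1 (U'.1 ⊓ outOpen (X.ptSubι x.1)) U'.1 hxU0 hO hU0d).j M i n).hom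
        ((T.pull (X.resLE hsup (hsupd.trans hU'd.symm)) M i n).hom a) := by
    show _ = (T.pull (X.resLE le_sup_left (att_hdim X _ U'.1 hU0d)) M i n).hom _
    rw [pull_pull]
  have h1 := cpt_att T X j Q x M i n i' n' hi hn (U'.1 ⊓ outOpen (X.ptSubι x.1)) U'.1 hU0F hxU0
    hxU' hO hU0d hiD hnD ((T.pull (X.resLE inf_le_left (hU0d.trans hU'd.symm)) M i n).hom a)
  calc (Q.cpt x M i n i' n' hi hn).hom (((T.fjRes X (Nat.le_succ j) i n).app M).hom
        (((T.fjι X (j + 1) i n U').app M).hom a))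
      = (Q.cpt x M i n i' n' hi hn).hom (((T.ocolimι X (ContainsFj X j) i n
          ⟨U'.1, containsFj_mono X (Nat.le_succ j) _ U'.2.1, U'.2.2⟩).app M).hom a) :=
        congrArg _ (comp_elem h2 a)
    _ = (Q.cpt x M i n i' n' hi hn).hom (((T.ocolimι X (ContainsFj X j) i n
          ⟨U'.1 ⊓ outOpen (X.ptSubι x.1), hU0F, hU0d⟩).app M).hom
            ((T.pull (X.resLE inf_le_left (hU0d.trans hU'd.symm)) M i n).hom a)) :=
        congrArg _ (comp_elem h3 a).symm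
    _ = _ := h1
    _ = _ := congrArg _ (congrArg _ h5)
    _ = _ := congrArg _ (hex.apply_apply_eq_zero _)
    _ = 0 := map_zero _


theorem claim (Q : T.ResData X j) (M : A.Cat) (i n i' n' : ℤ)
    (hi : i' = i + 1 - 2 * ((j : ℤ) + 1)) (hn : n' = n - ((j : ℤ) + 1))
    (U0 : X.scheme.Opens) :
    ∀ (hU0 : ContainsFj X j U0) (hd : WeilCoh.dim (U0 : Scheme.{u}) = WeilCoh.dim X.scheme)
      (a0 : T.gp (X.res U0) M i n),
      (∀ x : X.cdPt (j + 1), (Q.cpt x M i n i' n' hi hn).hom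
        (((T.fjι X j i n ⟨U0, hU0, hd⟩).app M).hom a0) = 0) →
      ((T.fjι X j i n ⟨U0, hU0, hd⟩).app M).hom a0 ∈
        Set.range ((T.fjRes X (Nat.le_succ j) i n).app M).hom := by
  induction U0 using WellFoundedGT.induction with
  | ind U0 ih =>
  intro hU0 hd a0 hker
  by_cases hF : ContainsFj X (j + 1) U0
  · exact ⟨((T.fjι X (j + 1) i n ⟨U0, hF, hd⟩).app M).hom a0,
      comp_elem (ocolimι_map T X (containsFj_mono X (Nat.le_succ j)) i n ⟨U0, hF, hd⟩ M) a0⟩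
  · have hex : ∃ x : X.scheme, WeilCoh.codim X.scheme x = j + 1 ∧ x ∉ U0 := by
      unfold ContainsFj at hF
      push Not at hF
      obtain ⟨x, hxc, hxU⟩ := hF
      refine ⟨x, ?_, hxU⟩
      by_contra hne
      exact hxU (hU0 x (by omega))
    obtain ⟨x, hxc, hxU⟩ := hex
    obtain ⟨N, hxN, hN⟩ := exists_attach X j U0 hU0 x hxc
    have hcod := attD_codim X x U0 N hxU hN hd hxN
    have hiD : i' = i + 1 - 2 * (attD X x U0 N hxU hN hd).codim := by
      rw [hcod, hxc]; push_cast; exact hi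
    have hnD : n' = n - (attD X x U0 N hxU hN hd).codim := by
      rw [hcod, hxc]; push_cast; exact hn
    have h1 := cpt_att T X j Q ⟨x, hxc⟩ M i n i' n' hi hn U0 N hU0 hxU hxN hN hd hiD hnD a0
    have h0 : ((T.ptι X x i' n' ⟨attW X x N, attW_nonempty X x N hxN,
        IsConstructible.dim_open (X.ptSub x).mem inferInstance _
          (attW_nonempty X x N hxN)⟩).app M).hom
        ((T.res (attD X x U0 N hxU hN hd) M i n i' n' hiD hnD).hom a0) = 0 := by
      rw [← h1]; exact hker ⟨x, hxc⟩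
    obtain ⟨W1', hle', hz⟩ := ocolim_eq_zero T (X.ptSub x) _ (pt_dir X x) (pt_ne X x) i' n' M
      ⟨attW X x N, attW_nonempty X x N hxN,
        IsConstructible.dim_open (X.ptSub x).mem inferInstance _ (attW_nonempty X x N hxN)⟩ _ h0
    obtain ⟨W1o, hW1ne, hW1d⟩ := W1'
    obtain ⟨O', hO'⟩ := exists_opens_preimage X x W1o
    have hW : W1o = attW X x (O' ⊓ N) := by
      have h2 : W1o ≤ attW X x N := hle'
      apply le_antisymm
      · intro w hw
        have hw' : w ∈ (X.ptSubι x) ⁻¹ᵁ O' := hO' ▸ hw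
        exact ⟨hw', h2 hw⟩
      · intro w hw
        rw [hO']
        exact hw.1
    subst hW
    have hxO2 : x ∈ O' ⊓ N := by
      obtain ⟨w, hw, hwx⟩ := mem_image_of_nonempty X x _ hW1ne
      rw [← hwx]; exact hw
    have hO2 : ∀ z ∈ O' ⊓ N, z ∉ U0 → z ∈ closure ({x} : Set X.scheme) :=
      fun z hz hzU => hN z hz.2 hzU
    have hcod' := attD_codim X x U0 (O' ⊓ N) hxU hO2 hd hxO2
    have hiD' : i' = i + 1 - 2 * (attD X x U0 (O' ⊓ N) hxU hO2 hd).codim := by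
      rw [hcod', hxc]; push_cast; exact hi
    have hnD' : n' = n - (attD X x U0 (O' ⊓ N) hxU hO2 hd).codim := by
      rw [hcod', hxc]; push_cast; exact hn
    have hYd : WeilCoh.dim ((U0 ⊔ N : X.scheme.Opens) : Scheme.{u}) = WeilCoh.dim X.scheme :=
      (att_hdim X U0 N hd).symm.trans hd
    have hYd' : WeilCoh.dim ((U0 ⊔ (O' ⊓ N) : X.scheme.Opens) : Scheme.{u}) =
        WeilCoh.dim X.scheme := (att_hdim X U0 (O' ⊓ N) hd).symm.trans hd
    have hYle : U0 ⊔ (O' ⊓ N) ≤ U0 ⊔ N := sup_le_sup_left inf_le_right U0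
    have hrp := T.res_pull (attD X x U0 N hxU hN hd) (attD X x U0 (O' ⊓ N) hxU hO2 hd)
      (X.resLE hYle (hYd'.trans hYd.symm))
      ((X.ptSub x).resLE hle' (hW1d.trans
        (IsConstructible.dim_open (X.ptSub x).mem inferInstance _
          (attW_nonempty X x N hxN)).symm))
      (𝟙 (X.res U0))
      (by
        rw [← cancel_mono (U0 ⊔ N : X.scheme.Opens).ι]
        have e1 : (X.ptSub x).scheme.homOfLE hle' ≫ (attD X x U0 N hxU hN hd).i ≫
            (U0 ⊔ N : X.scheme.Opens).ι = (attW X x (O' ⊓ N)).ι ≫ X.ptSubι x := by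
          have e0 : (X.ptSub x).scheme.homOfLE hle' ≫ (attD X x U0 N hxU hN hd).i ≫
              (U0 ⊔ N : X.scheme.Opens).ι =
              (X.ptSub x).scheme.homOfLE hle' ≫ (attW X x N).ι ≫ X.ptSubι x :=
            congrArg (fun φ => (X.ptSub x).scheme.homOfLE hle' ≫ φ) (attD_fac X x U0 N hxU hN hd)
          rw [e0, ← Category.assoc, Scheme.homOfLE_ι]
        have e2 : (attD X x U0 (O' ⊓ N) hxU hO2 hd).i ≫ X.scheme.homOfLE hYle ≫
            (U0 ⊔ N : X.scheme.Opens).ι = (attW X x (O' ⊓ N)).ι ≫ X.ptSubι x := by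
          rw [Scheme.homOfLE_ι]; exact attD_fac X x U0 (O' ⊓ N) hxU hO2 hd
        simp only [Category.assoc]
        exact e1.trans e2.symm)
      (by
        show 𝟙 (X.res U0) ≫ X.resLE le_sup_left (att_hdim X U0 N hd) =
          X.resLE le_sup_left (att_hdim X U0 (O' ⊓ N) hd) ≫ X.resLE hYle (hYd'.trans hYd.symm)
        rw [Category.id_comp, resLE_comp])
      M i n i' n' hiD hnD hiD' hnD'
    have hres0 : (T.res (attD X x U0 (O' ⊓ N) hxU hO2 hd) M i n i' n' hiD' hnD').hom a0 = 0 := by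
      have h2 := congrArg (fun φ => φ.hom a0) hrp
      have h3 : (T.pull (𝟙 (X.res U0)) M i n).hom a0 = a0 := by rw [pull_id]; rfl
      calc (T.res (attD X x U0 (O' ⊓ N) hxU hO2 hd) M i n i' n' hiD' hnD').hom a0
          = (T.res (attD X x U0 (O' ⊓ N) hxU hO2 hd) M i n i' n' hiD' hnD').hom
              ((T.pull (𝟙 (X.res U0)) M i n).hom a0) := by rw [h3]
        _ = _ := h2.symm
        _ = 0 := hz
    obtain ⟨a1, ha1⟩ := ((T.exact_pull_res (attD X x U0 (O' ⊓ N) hxU hO2 hd) M i n i' n'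
      hiD' hnD') a0).mp hres0
    have hlt : U0 < U0 ⊔ (O' ⊓ N) :=
      lt_of_le_of_ne le_sup_left (fun h => hxU (by rw [h]; exact Or.inr hxO2))
    have hY1F : ContainsFj X j (U0 ⊔ (O' ⊓ N)) := fun y hy => Or.inl (hU0 y hy)
    have hcl : ((T.fjι X j i n ⟨U0 ⊔ (O' ⊓ N), hY1F, hYd'⟩).app M).hom a1 =
        ((T.fjι X j i n ⟨U0, hU0, hd⟩).app M).hom a0 := by
      have h2 := comp_elem (ocolimι_res T X (ContainsFj X j) i n ⟨U0, hU0, hd⟩
        ⟨U0 ⊔ (O' ⊓ N), hY1F, hYd'⟩ le_sup_left (att_hdim X U0 (O' ⊓ N) hd) M) a1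
      rw [← h2]
      exact congrArg _ ha1
    have hIH := ih (U0 ⊔ (O' ⊓ N)) hlt hY1F hYd' a1 (by
      intro x'
      rw [hcl]; exact hker x')
    rw [hcl] at hIH
    exact hIH

theorem main (Q : T.ResData X j) (M : A.Cat) (i n i' n' : ℤ)
    (hi : i' = i + 1 - 2 * ((j : ℤ) + 1)) (hn : n' = n - ((j : ℤ) + 1)) :
    Function.Exact ((T.fjRes X (Nat.le_succ j) i n).app M).hom (Q.tot M i n i' n' hi hn).hom := by
  intro y
  constructor
  · intro hy
    obtain ⟨U0, a0, rfl⟩ := ocolim_rep T X (ContainsFj X j) (fj_dir X j) (fj_ne X j) i n M y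
    obtain ⟨U0o, hU0, hd⟩ := U0
    refine claim T X j Q M i n i' n' hi hn U0o hU0 hd a0 ?_
    intro x
    have := congrArg (fun ξ => ξ x) hy
    exact this
  · rintro ⟨z, rfl⟩
    refine DFinsupp.ext fun x => ?_
    rw [PreTheory.ResData.tot_apply]
    exact congrArg (fun φ => φ.hom z) (fjRes_cpt_zero T X j Q x M i n i' n' hi hn)

end Groth.Agent.Helper8.BMEx1
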