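import Groth.Agent.Helper8.BMPack
import Mathlib

set_option autoImplicit false
universe u
open CategoryTheory AlgebraicGeometry Opposite Limits TopologicalSpace Topology
open BMCoh
open Groth.Agent.Helper8.BMTop Groth.Agent.Helper8.BMSch Groth.Agent.Helper8.BMColim
open Groth.Agent.Helper8.BMBasic Groth.Agent.Helper8.BMPushU Groth.Agent.Helper8.BMAtt
open Groth.Agent.Helper8.BMEx3 Groth.Agent.Helper8.BMEx1 Groth.Agent.Helper8.BMBij
open Groth.Agent.Helper8.BMNeg Groth.Agent.Helper8.BMVan Groth.Agent.Helper8.BMGen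
open Groth.Agent.Helper8.BMZero Groth.Agent.Helper8.BMFam Groth.Agent.Helper8.BMPtU
open Groth.Agent.Helper8.BMPack

namespace Groth.Agent.Helper8.BMEx2

variable {V : ObjectProperty Scheme.{u}} [IsConstructible V] {R : Type u} [CommRing R]
  {A : Coefs R}

/-- the residue at a point of codimension `j+1` of a class defined on an open containing the
point vanishes. -/
theorem cpt_zero_of_mem (T : PreTheory V R A) (X : Obj V) (j : ℕ) (Q : T.ResData X j)
    (x : X.cdPt (j + 1)) (M : A.Cat) (i n i' n' : ℤ)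
    (hi : i' = i + 1 - 2 * ((j : ℤ) + 1)) (hn : n' = n - ((j : ℤ) + 1))
    (U' : Idx X (ContainsFj X j)) (hxU' : x.1 ∈ U'.1) (a : T.gp (X.res U'.1) M i n) :
    (Q.cpt x M i n i' n' hi hn).hom (((T.fjι X j i n U').app M).hom a) = 0 := by
  have hxc : WeilCoh.codim X.scheme x.1 = j + 1 := x.2
  have hU0F : ContainsFj X j (U'.1 ⊓ outOpen (X.ptSubι x.1)) := fun y hy =>
    ⟨U'.2.1 y hy, containsFj_outOpen X j x.1 x.2 y hy⟩
  have hU0d := dim_of_containsFj X j _ hU0F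
  have hxU0 : x.1 ∉ U'.1 ⊓ outOpen (X.ptSubι x.1) := fun h =>
    ((mem_outOpen_iff X x.1 x.1).mp h.2) (subset_closure rfl)
  have hO : ∀ z ∈ U'.1, z ∉ U'.1 ⊓ outOpen (X.ptSubι x.1) →
      z ∈ closure ({x.1} : Set X.scheme) := fun z hz hzn => by
    by_contra h
    exact hzn ⟨hz, (mem_outOpen_iff X x.1 z).mpr h⟩
  have hcod := attD_codim X x.1 (U'.1 ⊓ outOpen (X.ptSubι x.1)) U'.1 hxU0 hO hU0d hxU'
  have hiD : i' = i + 1 - 2 * (attD X x.1 (U'.1 ⊓ outOpen (X.ptSubι x.1)) U'.1 hxU0 hO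
      hU0d).codim := by rw [hcod, hxc]; push_cast; exact hi
  have hnD : n' = n - (attD X x.1 (U'.1 ⊓ outOpen (X.ptSubι x.1)) U'.1 hxU0 hO
      hU0d).codim := by rw [hcod, hxc]; push_cast; exact hn
  have hU'd : WeilCoh.dim (U'.1 : Scheme.{u}) = WeilCoh.dim X.scheme := U'.2.2
  have hsup : U'.1 ⊓ outOpen (X.ptSubι x.1) ⊔ U'.1 ≤ U'.1 := sup_le inf_le_left le_rfl
  have hsupd : WeilCoh.dim ((U'.1 ⊓ outOpen (X.ptSubι x.1) ⊔ U'.1 : X.scheme.Opens) :
      Scheme.{u}) = WeilCoh.dim X.scheme :=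
    (att_hdim X (U'.1 ⊓ outOpen (X.ptSubι x.1)) U'.1 hU0d).symm.trans hU0d
  have h3 := ocolimι_res T X (ContainsFj X j) i n
    ⟨U'.1 ⊓ outOpen (X.ptSubι x.1), hU0F, hU0d⟩ U' inf_le_left (hU0d.trans hU'd.symm) M
  have hex := T.exact_pull_res (attD X x.1 (U'.1 ⊓ outOpen (X.ptSubι x.1)) U'.1 hxU0 hO hU0d)
    M i n i' n' hiD hnD
  have h5 : (T.pull (X.resLE inf_le_left (hU0d.trans hU'd.symm)) M i n).hom a =
      (T.pull (attD X x.1 (U'.1 ⊓ outOpen (X.ptSubι x.1)) U'.1 hxU0 hO hU0d).j M i n).hom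
        ((T.pull (X.resLE hsup (hsupd.trans hU'd.symm)) M i n).hom a) := by
    show _ = (T.pull (X.resLE le_sup_left (att_hdim X _ U'.1 hU0d)) M i n).hom _
    rw [pull_pull]
  have h1 := cpt_att T X j Q x M i n i' n' hi hn (U'.1 ⊓ outOpen (X.ptSubι x.1)) U'.1 hU0F hxU0
    hxU' hO hU0d hiD hnD ((T.pull (X.resLE inf_le_left (hU0d.trans hU'd.symm)) M i n).hom a)
  calc (Q.cpt x M i n i' n' hi hn).hom (((T.fjι X j i n U').app M).hom a)
      = (Q.cpt x M i n i' n' hi hn).hom (((T.ocolimι X (ContainsFj X j) i n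
          ⟨U'.1 ⊓ outOpen (X.ptSubι x.1), hU0F, hU0d⟩).app M).hom
            ((T.pull (X.resLE inf_le_left (hU0d.trans hU'd.symm)) M i n).hom a)) :=
        congrArg _ (comp_elem h3 a).symm
    _ = _ := h1
    _ = _ := congrArg _ (congrArg _ h5)
    _ = _ := congrArg _ (hex.apply_apply_eq_zero _)
    _ = 0 := map_zero _

/-- only finitely many points of codimension `j+1` lie outside an open containing `F_j`. -/
theorem finite_not_mem (X : Obj V) (j : ℕ) (U0 : X.scheme.Opens) (hU0 : ContainsFj X j U0) :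
    Set.Finite {x : X.cdPt (j + 1) | x.1 ∉ U0} := by
  have hC : IsClosed ((U0 : Set X.scheme)ᶜ) := U0.isOpen.isClosed_compl
  obtain ⟨S, hSf, hSc, hSi, hSU⟩ := NoetherianSpace.exists_finite_set_isClosed_irreducible hC
  apply Set.Finite.of_finite_image
    (f := fun x : X.cdPt (j + 1) => closure ({x.1} : Set X.scheme))
  · apply hSf.subset
    rintro _ ⟨x, hx, rfl⟩
    have hxC : x.1 ∈ (U0 : Set X.scheme)ᶜ := hx
    rw [hSU] at hxC
    obtain ⟨t, htS, hxt⟩ := hxC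
    obtain ⟨η, hη⟩ := QuasiSober.sober (hSi t htS) (hSc t htS)
    have hηC : η ∉ U0 := by
      intro h
      have h2 : η ∈ (U0 : Set X.scheme)ᶜ := by rw [hSU]; exact ⟨t, htS, hη.mem⟩
      exact h2 h
    have hsp : η ⤳ x.1 := hη.specializes hxt
    have hxη : x.1 = η := by
      by_contra hne
      have h1 := codim_lt_of_specializes X hsp hne
      have h2 := x.2
      exact hηC (hU0 η (by omega))
    show closure ({x.1} : Set X.scheme) ∈ S
    rw [hxη, hη.def]; exact htS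
  · intro x _ y _ hxy
    apply Subtype.ext
    have hxy' : closure ({x.1} : Set X.scheme) = closure ({y.1} : Set X.scheme) := hxy
    have h1 : x.1 ⤳ y.1 := specializes_iff_closure_subset.mpr hxy'.ge
    have h2 : y.1 ⤳ x.1 := specializes_iff_closure_subset.mpr hxy'.le
    exact (h1.antisymm h2).eq

section core

variable (T : PreTheory V R A) (X : Obj V) (j : ℕ) (U2 : Idx X (ContainsFj X (j + 1)))
  {κ : Type u} [Fintype κ] (pt : κ → X.cdPt (j + 1)) (hinj : Function.Injective pt)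

theorem push_famLc_eq (k : κ) (M : A.Cat) (i' n' i1 n1 : ℤ)
    (hi3 : i1 = i' + 2 * relCodim ((X.ptSub (pt k).1).res (famW X j U2 pt k)).scheme
      (X.res (famUs X j U2 pt)).scheme)
    (hn3 : n1 = n' + relCodim ((X.ptSub (pt k).1).res (famW X j U2 pt k)).scheme
      (X.res (famUs X j U2 pt)).scheme)
    (hiZ : i1 = i' + 2 * relCodim (famZ X j U2 pt hinj).scheme (X.res (famUs X j U2 pt)).scheme)
    (hnZ : n1 = n' + relCodim (famZ X j U2 pt hinj).scheme (X.res (famUs X j U2 pt)).scheme)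
    (β : T.gp ((X.ptSub (pt k).1).res (famW X j U2 pt k)) M i' n') :
    (T.push (famLc X j U2 pt k) M i' n' i1 n1 hi3 hn3).hom β =
      (T.push (famI X j U2 pt hinj) M i' n' i1 n1 hiZ hnZ).hom
        ((T.push (famG X j U2 pt hinj k).hom M i' n' i' n'
          (family_hi (famZ X j U2 pt hinj) _ (famG X j U2 pt hinj) k i')
          (family_hn (famZ X j U2 pt hinj) _ (famG X j U2 pt hinj) k n')).hom β) := by
  haveI : IsProper (famEll X j U2 pt hinj k ≫ famI X j U2 pt hinj) := by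
    rw [famEll_fac]; infer_instance
  have hc := T.push_comp (famEll X j U2 pt hinj k) (famI X j U2 pt hinj) M i' n' i' n' i1 n1
    (family_hi (famZ X j U2 pt hinj) _ (famG X j U2 pt hinj) k i')
    (family_hn (famZ X j U2 pt hinj) _ (famG X j U2 pt hinj) k n') hiZ hnZ hi3 hn3
  have hcg := push_congr T (famEll_fac X j U2 pt hinj k) M i' n' i1 n1 hi3 hn3
  rw [← hcg, ← hc]
  rfl

include hinj in
theorem part_a_core (Q : T.ResData X j) (P : T.PushData X (j + 1)) (k0 : κ) (M : A.Cat)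
    (i n i' n' : ℤ) (hi : i' = i + 1 - 2 * ((j : ℤ) + 1)) (hn : n' = n - ((j : ℤ) + 1))
    (hi2 : i + 1 = i' + 2 * ((j + 1 : ℕ) : ℤ)) (hn2 : n = n' + ((j + 1 : ℕ) : ℤ))
    (a : T.gp (X.res (famU0 X j U2 pt)) M i n) :
    ∑ k, (P.cpt (pt k) M i' n' (i + 1) n hi2 hn2).hom
      ((Q.cpt (pt k) M i n i' n' hi hn).hom
        (((T.fjι X j i n (famU0Idx X j U2 pt)).app M).hom a)) = 0 := by
  have hcod := famD_codim X j U2 pt hinj k0
  have hrelZ : relCodim (famZ X j U2 pt hinj).scheme (X.res (famUs X j U2 pt)).scheme =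
      (j : ℤ) + 1 := hcod
  have hiD : i' = i + 1 - 2 * (famD X j U2 pt hinj).codim := by rw [hcod]; exact hi
  have hnD : n' = n - (famD X j U2 pt hinj).codim := by rw [hcod]; exact hn
  have hiZ : i + 1 = i' + 2 * relCodim (famZ X j U2 pt hinj).scheme
      (X.res (famUs X j U2 pt)).scheme := by rw [hrelZ]; push_cast at hi2; exact hi2
  have hnZ : n = n' + relCodim (famZ X j U2 pt hinj).scheme
      (X.res (famUs X j U2 pt)).scheme := by rw [hrelZ]; push_cast at hn2; exact hn2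
  obtain ⟨z, hz⟩ : ∃ z, z = (T.res (famD X j U2 pt hinj) M i n i' n' hiD hnD).hom a := ⟨_, rfl⟩
  have hterm : ∀ k, (P.cpt (pt k) M i' n' (i + 1) n hi2 hn2).hom
      ((Q.cpt (pt k) M i n i' n' hi hn).hom
        (((T.fjι X j i n (famU0Idx X j U2 pt)).app M).hom a)) =
      ((T.fjι X (j + 1) (i + 1) n (famUsIdx X j U2 pt hinj)).app M).hom
        ((T.push (famI X j U2 pt hinj) M i' n' (i + 1) n hiZ hnZ).hom
          ((T.push (famG X j U2 pt hinj k).hom M i' n' i' n'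
            (family_hi (famZ X j U2 pt hinj) _ (famG X j U2 pt hinj) k i')
            (family_hn (famZ X j U2 pt hinj) _ (famG X j U2 pt hinj) k n')).hom
              ((T.pull (famG X j U2 pt hinj k) M i' n').hom z))) := by
    intro k
    rw [fam_res X j U2 pt hinj T Q k M i n i' n' hi hn hiD hnD a, ← hz]
    exact fam_push X j U2 pt hinj T P k M i' n' (i + 1) n hi2 hn2 hiZ hnZ _
  rw [Finset.sum_congr rfl (fun k _ => hterm k), ← map_sum, ← map_sum,
    ← family_sum T (famZ X j U2 pt hinj) _ (famG X j U2 pt hinj) (famG_disj X j U2 pt hinj)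
      (famG_cov X j U2 pt hinj) M i' n' z]
  have hex := T.exact_res_push (famD X j U2 pt hinj) M i n i' n' hiD hnD hiZ hnZ
  have h0 : (T.push (famI X j U2 pt hinj) M i' n' (i + 1) n hiZ hnZ).hom z = 0 := by
    rw [hz]; exact hex.apply_apply_eq_zero a
  rw [h0, map_zero]

theorem part_b_core (Q : T.ResData X j) (k0 : κ) (M : A.Cat)
    (i n i' n' : ℤ) (hi : i' = i + 1 - 2 * ((j : ℤ) + 1)) (hn : n' = n - ((j : ℤ) + 1))
    (β : ∀ k, T.gp ((X.ptSub (pt k).1).res (famW X j U2 pt k)) M i' n')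
    (hi3 : ∀ k, i + 1 = i' + 2 * relCodim ((X.ptSub (pt k).1).res (famW X j U2 pt k)).scheme
      (X.res (famUs X j U2 pt)).scheme)
    (hn3 : ∀ k, n = n' + relCodim ((X.ptSub (pt k).1).res (famW X j U2 pt k)).scheme
      (X.res (famUs X j U2 pt)).scheme)
    (hsum : ∑ k, (T.push (famLc X j U2 pt k) M i' n' (i + 1) n (hi3 k) (hn3 k)).hom (β k) = 0) :
    ∃ a : T.gp (X.res (famU0 X j U2 pt)) M i n, ∀ k,
      (Q.cpt (pt k) M i n i' n' hi hn).hom
        (((T.fjι X j i n (famU0Idx X j U2 pt)).app M).hom a) =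
      ((T.ptι X (pt k).1 i' n' (famWIdx X j U2 pt hinj k)).app M).hom (β k) := by
  have hcod := famD_codim X j U2 pt hinj k0
  have hrelZ : relCodim (famZ X j U2 pt hinj).scheme (X.res (famUs X j U2 pt)).scheme =
      (j : ℤ) + 1 := hcod
  have hiD : i' = i + 1 - 2 * (famD X j U2 pt hinj).codim := by rw [hcod]; exact hi
  have hnD : n' = n - (famD X j U2 pt hinj).codim := by rw [hcod]; exact hn
  have hiZ : i + 1 = i' + 2 * relCodim (famZ X j U2 pt hinj).scheme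
      (X.res (famUs X j U2 pt)).scheme := by rw [hrelZ]; linarith
  have hnZ : n = n' + relCodim (famZ X j U2 pt hinj).scheme
      (X.res (famUs X j U2 pt)).scheme := by rw [hrelZ]; linarith
  obtain ⟨z, hz⟩ : ∃ z, z = ∑ k, (T.push (famG X j U2 pt hinj k).hom M i' n' i' n'
      (family_hi (famZ X j U2 pt hinj) _ (famG X j U2 pt hinj) k i')
      (family_hn (famZ X j U2 pt hinj) _ (famG X j U2 pt hinj) k n')).hom (β k) := ⟨_, rfl⟩
  have hpz : (T.push (famI X j U2 pt hinj) M i' n' (i + 1) n hiZ hnZ).hom z = 0 := by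
    rw [hz, map_sum, ← hsum]
    apply Finset.sum_congr rfl
    intro k _
    exact (push_famLc_eq T X j U2 pt hinj k M i' n' (i + 1) n (hi3 k) (hn3 k) hiZ hnZ
      (β k)).symm
  have hex := T.exact_res_push (famD X j U2 pt hinj) M i n i' n' hiD hnD hiZ hnZ
  obtain ⟨a, ha⟩ := (hex z).mp hpz
  refine ⟨a, fun k => ?_⟩
  rw [fam_res X j U2 pt hinj T Q k M i n i' n' hi hn hiD hnD a]
  have h1 : (T.pull (famG X j U2 pt hinj k) M i' n').hom
      ((T.res (famD X j U2 pt hinj) M i n i' n' hiD hnD).hom a) = β k := by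
    rw [ha, hz]
    exact family_pull_sum T (famZ X j U2 pt hinj) _ (famG X j U2 pt hinj)
      (famG_disj X j U2 pt hinj) M i' n' k β
  rw [h1]

end core

theorem part_a_aux (T : PreTheory V R A) (X : Obj V) (j : ℕ) (Q : T.ResData X j)
    (P : T.PushData X (j + 1)) (M : A.Cat) (i n i' n' : ℤ)
    (hi : i' = i + 1 - 2 * ((j : ℤ) + 1)) (hn : n' = n - ((j : ℤ) + 1))
    (hi2 : i + 1 = i' + 2 * ((j + 1 : ℕ) : ℤ)) (hn2 : n = n' + ((j + 1 : ℕ) : ℤ))
    (U0 : Idx X (ContainsFj X j)) (a : T.gp (X.res U0.1) M i n)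
    {κ : Type u} [Fintype κ] (pt : κ → X.cdPt (j + 1)) (hinj : Function.Injective pt)
    (hout : ∀ k, (pt k).1 ∉ U0.1) (hall : ∀ x : X.cdPt (j + 1), x.1 ∉ U0.1 → ∃ k, pt k = x) :
    ∑ k, (P.cpt (pt k) M i' n' (i + 1) n hi2 hn2).hom
      ((Q.cpt (pt k) M i n i' n' hi hn).hom (((T.fjι X j i n U0).app M).hom a)) = 0 := by
  rcases isEmpty_or_nonempty κ with hE | ⟨⟨k0⟩⟩
  · rw [Finset.univ_eq_empty, Finset.sum_empty]
  · have hN0 : ∀ k : κ, ∃ N : X.scheme.Opens,
        (pt k).1 ∈ N ∧ ∀ z ∈ N, z ∉ U0.1 → z ∈ closure ({(pt k).1} : Set X.scheme) := fun k =>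
      exists_attach X j U0.1 U0.2.1 (pt k).1 (pt k).2
    choose N0 hN0mem hN0sub using hN0
    have hU2F : ContainsFj X (j + 1) (U0.1 ⊔ ⨆ k, N0 k) := by
      intro y hy
      by_cases hyU : y ∈ U0.1
      · exact Opens.mem_sup.mpr (Or.inl hyU)
      · have hyc : WeilCoh.codim X.scheme y = j + 1 := by
          by_contra hne
          exact hyU (U0.2.1 y (by omega))
        obtain ⟨k, hk⟩ := hall ⟨y, hyc⟩ hyU
        have hyk : y = (pt k).1 := by rw [hk]
        exact Opens.mem_sup.mpr (Or.inr (Opens.mem_iSup.mpr ⟨k, hyk ▸ hN0mem k⟩))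
    obtain ⟨U2, hU2⟩ : ∃ U2 : Idx X (ContainsFj X (j + 1)), U2.1 = U0.1 ⊔ ⨆ k, N0 k :=
      ⟨⟨_, hU2F, dim_of_containsFj X (j + 1) _ hU2F⟩, rfl⟩
    have hle : famU0 X j U2 pt ≤ U0.1 := by
      intro z hz
      rw [mem_famU0, hU2] at hz
      rcases Opens.mem_sup.mp hz.1 with h | h
      · exact h
      · obtain ⟨k, hk⟩ := Opens.mem_iSup.mp h
        by_contra hzU
        exact hz.2 k (hN0sub k z hk hzU)
    have hd0 := dim_famU0 X j U2 pt
    have hy := comp_elem (ocolimι_res T X (ContainsFj X j) i n (famU0Idx X j U2 pt) U0 hle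
      (hd0.trans U0.2.2.symm) M) a
    rw [← hy]
    exact part_a_core T X j U2 pt hinj Q P k0 M i n i' n' hi hn hi2 hn2 _

theorem part_a (T : PreTheory V R A) (X : Obj V) (j : ℕ) (Q : T.ResData X j)
    (P : T.PushData X (j + 1)) (M : A.Cat) (i n i' n' : ℤ)
    (hi : i' = i + 1 - 2 * ((j : ℤ) + 1)) (hn : n' = n - ((j : ℤ) + 1))
    (hi2 : i + 1 = i' + 2 * ((j + 1 : ℕ) : ℤ)) (hn2 : n = n' + ((j + 1 : ℕ) : ℤ))
    (y : T.fjGp X j M i n) :
    (P.tot M i' n' (i + 1) n hi2 hn2).hom ((Q.tot M i n i' n' hi hn).hom y) = 0 := by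
  classical
  obtain ⟨U0, a, rfl⟩ := ocolim_rep T X (ContainsFj X j) (fj_dir X j) (fj_ne X j) i n M y
  have hfin := finite_not_mem X j U0.1 U0.2.1
  haveI : Finite {x : X.cdPt (j + 1) // x.1 ∉ U0.1} := hfin.to_subtype
  haveI : Fintype {x : X.cdPt (j + 1) // x.1 ∉ U0.1} := Fintype.ofFinite _
  have hinj : Function.Injective
      (Subtype.val : {x : X.cdPt (j + 1) // x.1 ∉ U0.1} → X.cdPt (j + 1)) :=
    Subtype.val_injective
  have hF : ∀ x : X.cdPt (j + 1),
      x ∉ (Finset.univ : Finset {x : X.cdPt (j + 1) // x.1 ∉ U0.1}).image Subtype.val →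
      ((Q.tot M i n i' n' hi hn).hom (((T.fjι X j i n U0).app M).hom a)) x = 0 := by
    intro x hx
    have hxU : x.1 ∈ U0.1 := by
      by_contra h
      exact hx (Finset.mem_image.mpr ⟨⟨x, h⟩, Finset.mem_univ _, rfl⟩)
    rw [PreTheory.ResData.tot_apply]
    exact cpt_zero_of_mem T X j Q x M i n i' n' hi hn U0 hxU a
  rw [tot_eq_sum T X (j + 1) P M i' n' (i + 1) n hi2 hn2 _ _ hF,
    Finset.sum_image (fun a _ b _ h => hinj h)]
  exact part_a_aux T X j Q P M i n i' n' hi hn hi2 hn2 U0 a Subtype.val hinj (fun k => k.2)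
    (fun x hx => ⟨⟨x, hx⟩, rfl⟩)

theorem fam_base_change (T : PreTheory V R A) (X : Obj V) (j : ℕ)
    (U2 : Idx X (ContainsFj X (j + 1))) {κ : Type u} [Fintype κ] (pt : κ → X.cdPt (j + 1))
    (hinj : Function.Injective pt) (k : κ) (W' : ptIdx X (pt k).1)
    (Ut : Idx X (ContainsFj X (j + 1))) (himg : ∀ w ∈ W'.1, (X.ptSubι (pt k).1) w ∈ Ut.1)
    (hUsle : famUs X j U2 pt ≤ pieceOpen X (pt k).1 W'.1 Ut.1) (M : A.Cat) (i' n' i1 n1 : ℤ)
    (hi2 : i1 = i' + 2 * ((j + 1 : ℕ) : ℤ)) (hn2 : n1 = n' + ((j + 1 : ℕ) : ℤ))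
    (α : T.gp ((X.ptSub (pt k).1).res W'.1) M i' n') :
    ∃ (hWle : famW X j U2 pt k ≤ W'.1)
      (hdW : WeilCoh.dim ((famW X j U2 pt k : (X.ptSub (pt k).1).scheme.Opens) : Scheme.{u}) =
        WeilCoh.dim (W'.1 : Scheme.{u}))
      (hdUs : WeilCoh.dim ((famUs X j U2 pt : X.scheme.Opens) : Scheme.{u}) =
        WeilCoh.dim ((pieceOpen X (pt k).1 W'.1 Ut.1 : X.scheme.Opens) : Scheme.{u}))
      (hi3 : i1 = i' + 2 * relCodim ((X.ptSub (pt k).1).res (famW X j U2 pt k)).scheme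
        (X.res (famUs X j U2 pt)).scheme)
      (hn3 : n1 = n' + relCodim ((X.ptSub (pt k).1).res (famW X j U2 pt k)).scheme
        (X.res (famUs X j U2 pt)).scheme),
      (T.pull (X.resLE hUsle hdUs) M i1 n1).hom
        ((T.push (pieceMap X (pt k).1 W'.1 Ut.1 himg) M i' n' i1 n1
          (piece_hi X (j + 1) (pt k) W' Ut hi2) (piece_hn X (j + 1) (pt k) W' Ut hn2)).hom α) =
      (T.push (famLc X j U2 pt k) M i' n' i1 n1 hi3 hn3).hom
        ((T.pull ((X.ptSub (pt k).1).resLE hWle hdW) M i' n').hom α) := by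
  have hWle : famW X j U2 pt k ≤ W'.1 := by
    intro w hw
    by_contra hwW
    exact (hUsle (famN_le X j U2 pt k hw)).1 ⟨w, hwW, rfl⟩
  have hdW : WeilCoh.dim ((famW X j U2 pt k : (X.ptSub (pt k).1).scheme.Opens) : Scheme.{u}) =
      WeilCoh.dim (W'.1 : Scheme.{u}) :=
    (famWIdx X j U2 pt hinj k).2.2.trans W'.2.2.symm
  have hdUs : WeilCoh.dim ((famUs X j U2 pt : X.scheme.Opens) : Scheme.{u}) =
      WeilCoh.dim ((pieceOpen X (pt k).1 W'.1 Ut.1 : X.scheme.Opens) : Scheme.{u}) :=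
    (dim_famUs X j U2 pt hinj).trans (dim_pieceOpen X (j + 1) (pt k) W' Ut).symm
  have hrel := famLc_relCodim X j U2 pt hinj k
  have hi3 : i1 = i' + 2 * relCodim ((X.ptSub (pt k).1).res (famW X j U2 pt k)).scheme
      (X.res (famUs X j U2 pt)).scheme := by rw [hrel]; push_cast at hi2; exact hi2
  have hn3 : n1 = n' + relCodim ((X.ptSub (pt k).1).res (famW X j U2 pt k)).scheme
      (X.res (famUs X j U2 pt)).scheme := by rw [hrel]; push_cast at hn2; exact hn2
  refine ⟨hWle, hdW, hdUs, hi3, hn3, ?_⟩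
  have hpb : IsPullback ((X.ptSub (pt k).1).resLE hWle hdW).hom (famLc X j U2 pt k)
      (pieceMap X (pt k).1 W'.1 Ut.1 himg) (X.resLE hUsle hdUs).hom := by
    refine (IsOpenImmersion.isPullback (famLc X j U2 pt k)
      ((X.ptSub (pt k).1).scheme.homOfLE hWle) (X.scheme.homOfLE hUsle)
      (pieceMap X (pt k).1 W'.1 Ut.1 himg) ?_ ?_).flip
    · rw [← cancel_mono (pieceOpen X (pt k).1 W'.1 Ut.1).ι]
      simp only [Category.assoc]
      rw [pieceMap_fac, Scheme.homOfLE_ι, ← Category.assoc, Scheme.homOfLE_ι]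
      exact (famLc_fac X j U2 pt k).symm
    · ext w
      show pieceMap X (pt k).1 W'.1 Ut.1 himg w ∈ Set.range (X.scheme.homOfLE hUsle) ↔
        w ∈ Set.range ((X.ptSub (pt k).1).scheme.homOfLE hWle)
      refine (mem_range_homOfLE (Y := X.scheme) hUsle _).trans
        (Iff.trans ?_ (mem_range_homOfLE (Y := (X.ptSub (pt k).1).scheme) hWle w).symm)
      rw [pieceMap_apply]
      constructor
      · intro h
        apply mem_famN_of_mem_closure X j U2 pt h
        rw [← range_ptSubι]; exact ⟨_, rfl⟩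
      · intro h
        exact famN_le X j U2 pt k h
  have hpp := T.push_pull (pieceMap X (pt k).1 W'.1 Ut.1 himg) (famLc X j U2 pt k)
    (X.resLE hUsle hdUs) ((X.ptSub (pt k).1).resLE hWle hdW) hpb M i' n' i1 n1
    (piece_hi X (j + 1) (pt k) W' Ut hi2) (piece_hn X (j + 1) (pt k) W' Ut hn2) hi3 hn3
  have h3 := congrArg (fun φ => φ.hom α) hpp
  simp only [ModuleCat.hom_comp, LinearMap.comp_apply] at h3
  exact h3

theorem part_b_aux (T : PreTheory V R A) (X : Obj V) (j : ℕ) (Q : T.ResData X j)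
    (P : T.PushData X (j + 1)) (M : A.Cat) (i n i' n' : ℤ)
    (hi : i' = i + 1 - 2 * ((j : ℤ) + 1)) (hn : n' = n - ((j : ℤ) + 1))
    (hi2 : i + 1 = i' + 2 * ((j + 1 : ℕ) : ℤ)) (hn2 : n = n' + ((j + 1 : ℕ) : ℤ))
    {κ : Type u} [Fintype κ] (pt : κ → X.cdPt (j + 1)) (hinj : Function.Injective pt)
    (ξk : ∀ k, T.ptGp X (pt k).1 M i' n')
    (hzero : ∑ k, (P.cpt (pt k) M i' n' (i + 1) n hi2 hn2).hom (ξk k) = 0) :
    ∃ y : T.fjGp X j M i n, (∀ k, (Q.cpt (pt k) M i n i' n' hi hn).hom y = ξk k) ∧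
      (∀ x : X.cdPt (j + 1), (∀ k, pt k ≠ x) → (Q.cpt x M i n i' n' hi hn).hom y = 0) := by
  rcases isEmpty_or_nonempty κ with hE | ⟨⟨k0⟩⟩
  · exact ⟨0, fun k => isEmptyElim k, fun x _ => map_zero _⟩
  · have hrep : ∀ k, ∃ (W : ptIdx X (pt k).1) (α : T.gp ((X.ptSub (pt k).1).res W.1) M i' n'),
        ((T.ptι X (pt k).1 i' n' W).app M).hom α = ξk k := fun k =>
      ocolim_rep T (X.ptSub (pt k).1) _ (pt_dir X (pt k).1) (pt_ne X (pt k).1) i' n' M (ξk k)
    choose W' α hα using hrep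
    obtain ⟨Ut, hUt⟩ : ∃ U : Idx X (ContainsFj X (j + 1)), U.1 = ⊤ :=
      ⟨⟨⊤, fun _ _ => trivial, dim_top _⟩, rfl⟩
    have himg : ∀ k, ∀ w ∈ (W' k).1, (X.ptSubι (pt k).1) w ∈ Ut.1 := fun k w _ => by
      rw [hUt]; trivial
    have hc : ∀ k, (P.cpt (pt k) M i' n' (i + 1) n hi2 hn2).hom (ξk k) =
        ((T.fjι X (j + 1) (i + 1) n (pieceIdx X (j + 1) (pt k) (W' k) Ut)).app M).hom
          ((T.push (pieceMap X (pt k).1 (W' k).1 Ut.1 (himg k)) M i' n' (i + 1) n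
            (piece_hi X (j + 1) (pt k) (W' k) Ut hi2)
            (piece_hn X (j + 1) (pt k) (W' k) Ut hn2)).hom (α k)) := fun k => by
      rw [← hα k]
      exact cpt_piece T X (j + 1) P (pt k) (W' k) Ut (himg k) M i' n' (i + 1) n hi2 hn2 (α k)
    -- the common open
    have hU1F : ContainsFj X (j + 1)
        (⟨⋂ k, ((pieceOpen X (pt k).1 (W' k).1 Ut.1 : X.scheme.Opens) : Set X.scheme),
          isOpen_iInter_of_finite (fun k => (pieceOpen X (pt k).1 (W' k).1 Ut.1).isOpen)⟩ :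
          X.scheme.Opens) := fun y hy =>
      Set.mem_iInter.mpr (fun k => containsFj_pieceOpen X (j + 1) (pt k) (W' k) Ut y hy)
    obtain ⟨U1, hU1⟩ : ∃ U1 : Idx X (ContainsFj X (j + 1)), (U1.1 : Set X.scheme) =
        ⋂ k, ((pieceOpen X (pt k).1 (W' k).1 Ut.1 : X.scheme.Opens) : Set X.scheme) :=
      ⟨⟨_, hU1F, dim_of_containsFj X (j + 1) _ hU1F⟩, rfl⟩
    have hU1le : ∀ k, U1.1 ≤ pieceOpen X (pt k).1 (W' k).1 Ut.1 := fun k z hz => by
      have : z ∈ (U1.1 : Set X.scheme) := hz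
      rw [hU1] at this
      exact Set.mem_iInter.mp this k
    have hpd : ∀ k, WeilCoh.dim ((pieceOpen X (pt k).1 (W' k).1 Ut.1 : X.scheme.Opens) :
        Scheme.{u}) = WeilCoh.dim X.scheme := fun k => dim_pieceOpen X (j + 1) (pt k) (W' k) Ut
    have htot : ∑ k, (P.cpt (pt k) M i' n' (i + 1) n hi2 hn2).hom (ξk k) =
        ((T.fjι X (j + 1) (i + 1) n U1).app M).hom
          (∑ k, (T.pull (X.resLE (hU1le k) (U1.2.2.trans (hpd k).symm)) M (i + 1) n).hom
            ((T.push (pieceMap X (pt k).1 (W' k).1 Ut.1 (himg k)) M i' n' (i + 1) n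
              (piece_hi X (j + 1) (pt k) (W' k) Ut hi2)
              (piece_hn X (j + 1) (pt k) (W' k) Ut hn2)).hom (α k))) := by
      rw [map_sum]
      apply Finset.sum_congr rfl
      intro k _
      rw [hc k]
      exact (comp_elem (ocolimι_res T X (ContainsFj X (j + 1)) (i + 1) n U1
        (pieceIdx X (j + 1) (pt k) (W' k) Ut) (hU1le k) (U1.2.2.trans (hpd k).symm) M) _).symm
    rw [htot] at hzero
    obtain ⟨U2, hU2le, hz2⟩ := ocolim_eq_zero T X (ContainsFj X (j + 1)) (fj_dir X (j + 1))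
      (fj_ne X (j + 1)) (i + 1) n M U1 _ hzero
    have hUsU2 : famUs X j U2 pt ≤ U2.1 := famUs_le X j U2 pt
    have hUsle : ∀ k, famUs X j U2 pt ≤ pieceOpen X (pt k).1 (W' k).1 Ut.1 := fun k =>
      (hUsU2.trans hU2le).trans (hU1le k)
    have hbc := fun k => fam_base_change T X j U2 pt hinj k (W' k) Ut (himg k) (hUsle k) M i' n'
      (i + 1) n hi2 hn2 (α k)
    choose hWle hdW hdUs hi3 hn3 hbc' using hbc
    have hUsd := dim_famUs X j U2 pt hinj
    have hsum : ∑ k, (T.push (famLc X j U2 pt k) M i' n' (i + 1) n (hi3 k) (hn3 k)).hom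
        ((T.pull ((X.ptSub (pt k).1).resLE (hWle k) (hdW k)) M i' n').hom (α k)) = 0 := by
      have h1 := congrArg (fun w => (T.pull (X.resLE hUsU2 (hUsd.trans U2.2.2.symm)) M
        (i + 1) n).hom w) hz2
      simp only [map_zero] at h1
      rw [pull_pull, map_sum] at h1
      rw [← h1]
      apply Finset.sum_congr rfl
      intro k _
      rw [pull_pull]
      exact (hbc' k).symm
    obtain ⟨a, ha⟩ := part_b_core T X j U2 pt hinj Q k0 M i n i' n' hi hn _ hi3 hn3 hsum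
    refine ⟨((T.fjι X j i n (famU0Idx X j U2 pt)).app M).hom a, fun k => ?_, fun x hx => ?_⟩
    · rw [ha k, ← hα k]
      exact comp_elem (ocolimι_res T (X.ptSub (pt k).1) _ i' n' (famWIdx X j U2 pt hinj k) (W' k)
        (hWle k) (hdW k) M) (α k)
    · exact cpt_zero_of_mem T X j Q x M i n i' n' hi hn (famU0Idx X j U2 pt)
        (mem_famU0_of_ne X j U2 pt x hx) a

theorem part_b (T : PreTheory V R A) (X : Obj V) (j : ℕ) (Q : T.ResData X j)
    (P : T.PushData X (j + 1)) (M : A.Cat) (i n i' n' : ℤ)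
    (hi : i' = i + 1 - 2 * ((j : ℤ) + 1)) (hn : n' = n - ((j : ℤ) + 1))
    (hi2 : i + 1 = i' + 2 * ((j + 1 : ℕ) : ℤ)) (hn2 : n = n' + ((j + 1 : ℕ) : ℤ))
    (ξ : T.ptSum X (j + 1) M i' n')
    (hξ : (P.tot M i' n' (i + 1) n hi2 hn2).hom ξ = 0) :
    ∃ y, (Q.tot M i n i' n' hi hn).hom y = ξ := by
  classical
  have hsum := tot_eq_sum T X (j + 1) P M i' n' (i + 1) n hi2 hn2 ξ ξ.support
    (fun x hx => by simpa using hx)
  rw [hξ, ← Finset.sum_coe_sort ξ.support] at hsum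
  obtain ⟨y, hy1, hy2⟩ := part_b_aux T X j Q P M i n i' n' hi hn hi2 hn2
    (Subtype.val : {x // x ∈ ξ.support} → X.cdPt (j + 1)) Subtype.val_injective
    (fun k => ξ k.1) hsum.symm
  refine ⟨y, ?_⟩
  apply DFinsupp.ext
  intro x
  rw [PreTheory.ResData.tot_apply]
  by_cases hx : x ∈ ξ.support
  · exact hy1 ⟨x, hx⟩
  · rw [hy2 x (fun k hk => hx (hk ▸ k.2))]
    symm
    simpa using hx

theorem main (T : PreTheory V R A) (X : Obj V) (j : ℕ) (Q : T.ResData X j)
    (P : T.PushData X (j + 1)) (M : A.Cat) (i n i' n' : ℤ)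
    (hi : i' = i + 1 - 2 * ((j : ℤ) + 1)) (hn : n' = n - ((j : ℤ) + 1))
    (hi2 : i + 1 = i' + 2 * ((j + 1 : ℕ) : ℤ)) (hn2 : n = n' + ((j + 1 : ℕ) : ℤ)) :
    Function.Exact (Q.tot M i n i' n' hi hn).hom (P.tot M i' n' (i + 1) n hi2 hn2).hom := by
  intro ξ
  constructor
  · intro hξ
    obtain ⟨y, hy⟩ := part_b T X j Q P M i n i' n' hi hn hi2 hn2 ξ hξ
    exact ⟨y, hy⟩
  · rintro ⟨y, rfl⟩
    exact part_a T X j Q P M i n i' n' hi hn hi2 hn2 y

end Groth.Agent.Helper8.BMEx2
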