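import Groth.Agent.Helper8.BMAtt
import Mathlib

set_option autoImplicit false
universe u
open CategoryTheory AlgebraicGeometry Opposite Limits TopologicalSpace Topology
open BMCoh
open Groth.Agent.Helper8.BMTop Groth.Agent.Helper8.BMSch Groth.Agent.Helper8.BMColim
open Groth.Agent.Helper8.BMBasic Groth.Agent.Helper8.BMPushU Groth.Agent.Helper8.BMAtt

namespace Groth.Agent.Helper8.BMEx3

variable {V : ObjectProperty Scheme.{u}} [IsConstructible V] {R : Type u} [CommRing R]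
  {A : Coefs R} (T : PreTheory V R A) (X : Obj V) (j : ℕ)

theorem containsFj_outOpen (x : X.scheme) (hx : WeilCoh.codim X.scheme x = j + 1) :
    ContainsFj X j (outOpen (X.ptSubι x)) := by
  intro y hy hyr
  rw [range_ptSubι] at hyr
  have hsp : x ⤳ y := specializes_iff_mem_closure.mpr hyr
  by_cases hyx : y = x
  · subst hyx; omega
  · have := codim_lt_of_specializes X hsp hyx
    omega

/-- the composite of a component of the push-forward datum with restriction is zero. -/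
theorem cpt_fjRes_zero (P : T.PushData X (j + 1)) (x : X.cdPt (j + 1)) (M : A.Cat)
    (i n i' n' : ℤ) (hi : i' = i + 2 * ((j + 1 : ℕ) : ℤ)) (hn : n' = n + ((j + 1 : ℕ) : ℤ)) :
    P.cpt x M i n i' n' hi hn ≫ (T.fjRes X (Nat.le_succ j) i' n').app M = 0 := by
  obtain ⟨i0, rfl⟩ : ∃ i0, i' = i0 + 1 := ⟨i' - 1, by ring⟩
  apply ocolim_ext
  intro W
  rw [comp_zero]
  have hWne : (W.1 : Set (X.ptSub x.1).scheme).Nonempty := W.2.1
  have hYF : ContainsFj X (j + 1) (bigOpen (X.ptSubι x.1) W.1) :=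
    containsFj_bigOpen X (j + 1) x.1 ⟨by have := x.2; omega, by have := x.2; omega⟩ W.1 hWne
  have hU0F : ContainsFj X j (outOpen (X.ptSubι x.1)) := containsFj_outOpen X j x.1 x.2
  have hYd := dim_of_containsFj X (j + 1) _ hYF
  have hU0d := dim_of_containsFj X j _ hU0F
  let D : Decomp (X.res (bigOpen (X.ptSubι x.1) W.1)) :=
    mkDecomp X (X.ptSub x.1) (X.ptSubι x.1) W.1 (outOpen (X.ptSubι x.1))
      (bigOpen (X.ptSubι x.1) W.1) (outOpen_le_bigOpen _ W.1) (hU0d.trans hYd.symm)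
      (bigOpen_eq _ W.1) (by rw [range_ptSubι]; exact (range_ptSubι X x.1) ▸ disjoint_outOpen _)
  let U : Idx X (ContainsFj X (j + 1)) := ⟨bigOpen (X.ptSubι x.1) W.1, hYF, hYd⟩
  have hf : D.i ≫ U.1.ι = W.1.ι ≫ X.ptSubι x.1 :=
    lcLift_fac X (X.ptSub x.1) (X.ptSubι x.1) W.1 (outOpen (X.ptSubι x.1))
      (bigOpen (X.ptSubι x.1) W.1) (bigOpen_eq _ W.1)
  have hrel : relCodim ((X.ptSub x.1).res W.1).scheme (X.res U.1).scheme =
      ((j + 1 : ℕ) : ℤ) := by
    show relCodim (W.1 : Scheme.{u}) ((bigOpen (X.ptSubι x.1) W.1 : X.scheme.Opens) : Scheme.{u})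
      = _
    unfold relCodim
    rw [dim_ptOpen X x.1 W.1 hWne, hYd, ← codim_cast, x.2]
  have hi' : i0 + 1 = i + 2 * relCodim ((X.ptSub x.1).res W.1).scheme (X.res U.1).scheme := by
    rw [hrel]; exact hi
  have hn' : n' = n + relCodim ((X.ptSub x.1).res W.1).scheme (X.res U.1).scheme := by
    rw [hrel]; exact hn
  let f : ((X.ptSub x.1).res W.1).scheme ⟶ (X.res U.1).scheme := D.i
  haveI : IsProper f := (inferInstance : IsProper D.i)
  have hspec := P.cpt_spec x M i n (i0 + 1) n' hi hn U W f hf hi' hn'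
  have h2 := ocolimι_map T X (containsFj_mono X (Nat.le_succ j)) (i0 + 1) n' U M
  have h3 := ocolimι_res T X (ContainsFj X j) (i0 + 1) n' ⟨outOpen (X.ptSubι x.1), hU0F, hU0d⟩
    ⟨bigOpen (X.ptSubι x.1) W.1, containsFj_mono X (Nat.le_succ j) _ hYF, hYd⟩
    (outOpen_le_bigOpen _ W.1) (hU0d.trans hYd.symm) M
  have hex := T.exact_push_pull D M i0 n' i n hi' hn'
  have h4 : T.push f M i n (i0 + 1) n' hi' hn' ≫ T.pull D.j M (i0 + 1) n' = 0 := by
    apply ModuleCat.hom_ext; apply LinearMap.ext; intro a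
    exact hex.apply_apply_eq_zero a
  calc (T.ptι X x.1 i n W).app M ≫ P.cpt x M i n (i0 + 1) n' hi hn ≫
        (T.fjRes X (Nat.le_succ j) (i0 + 1) n').app M
      = (T.push f M i n (i0 + 1) n' hi' hn' ≫ (T.fjι X (j + 1) (i0 + 1) n' U).app M) ≫
        (T.fjRes X (Nat.le_succ j) (i0 + 1) n').app M := by
          rw [← Category.assoc, hspec]
    _ = T.push f M i n (i0 + 1) n' hi' hn' ≫ (T.ocolimι X (ContainsFj X j) (i0 + 1) n'
          ⟨bigOpen (X.ptSubι x.1) W.1, containsFj_mono X (Nat.le_succ j) _ hYF, hYd⟩).app M := by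
          rw [Category.assoc]; exact congrArg _ h2
    _ = (T.push f M i n (i0 + 1) n' hi' hn' ≫ T.pull D.j M (i0 + 1) n') ≫
          (T.ocolimι X (ContainsFj X j) (i0 + 1) n'
            ⟨outOpen (X.ptSubι x.1), hU0F, hU0d⟩).app M := by
          rw [Category.assoc]; exact congrArg _ h3.symm
    _ = 0 := by rw [h4, zero_comp]


theorem claim (P : T.PushData X (j + 1)) (M : A.Cat) (i n i0 n' : ℤ)
    (hi : i0 + 1 = i + 2 * ((j + 1 : ℕ) : ℤ)) (hn : n' = n + ((j + 1 : ℕ) : ℤ))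
    (U0 : X.scheme.Opens) :
    ContainsFj X j U0 → ∀ (U : Idx X (ContainsFj X (j + 1))) (hle : U0 ≤ U.1)
      (hd : WeilCoh.dim (U0 : Scheme.{u}) = WeilCoh.dim (U.1 : Scheme.{u}))
      (b : T.gp (X.res U.1) M (i0 + 1) n'),
      (T.pull (X.resLE hle hd) M (i0 + 1) n').hom b = 0 →
      ((T.fjι X (j + 1) (i0 + 1) n' U).app M).hom b ∈
        LinearMap.range (P.tot M i n (i0 + 1) n' hi hn).hom := by
  induction U0 using WellFoundedGT.induction with
  | ind U0 ih =>
  intro hU0 U hle hd b hb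
  by_cases hF : ContainsFj X (j + 1) U0
  · have hU0d : WeilCoh.dim (U0 : Scheme.{u}) = WeilCoh.dim X.scheme :=
      dim_of_containsFj X (j + 1) U0 hF
    have h1 := ocolimι_res T X (ContainsFj X (j + 1)) (i0 + 1) n' ⟨U0, hF, hU0d⟩ U hle hd M
    have h2 : ((T.fjι X (j + 1) (i0 + 1) n' U).app M).hom b = 0 := by
      have := congrArg (fun φ => φ.hom b) h1
      simp only [ModuleCat.hom_comp, LinearMap.comp_apply] at this
      rw [← this, hb, map_zero]
    rw [h2]; exact zero_mem _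
  · have hex : ∃ x : X.scheme, WeilCoh.codim X.scheme x = j + 1 ∧ x ∉ U0 := by
      unfold ContainsFj at hF
      push Not at hF
      obtain ⟨x, hxc, hxU⟩ := hF
      refine ⟨x, ?_, hxU⟩
      by_contra hne
      exact hxU (hU0 x (by omega))
    obtain ⟨x, hxc, hxU⟩ := hex
    have hxUU : x ∈ U.1 := U.2.1 x (by omega)
    obtain ⟨N, hxN, hN⟩ := exists_attach X j U0 hU0 x hxc
    have hxO : x ∈ N ⊓ U.1 := ⟨hxN, hxUU⟩
    have hO : ∀ z ∈ N ⊓ U.1, z ∉ U0 → z ∈ closure ({x} : Set X.scheme) :=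
      fun z hz hzU => hN z hz.1 hzU
    have hU0d : WeilCoh.dim (U0 : Scheme.{u}) = WeilCoh.dim X.scheme :=
      dim_of_containsFj X j U0 hU0
    have hY1le : U0 ⊔ (N ⊓ U.1) ≤ U.1 := sup_le hle inf_le_right
    have hY1F : ContainsFj X j (U0 ⊔ (N ⊓ U.1)) := fun y hy => Or.inl (hU0 y hy)
    have hY1d : WeilCoh.dim ((U0 ⊔ (N ⊓ U.1) : X.scheme.Opens) : Scheme.{u}) =
        WeilCoh.dim X.scheme := (att_hdim X U0 (N ⊓ U.1) hU0d).symm.trans hU0d
    have hlt : U0 < U0 ⊔ (N ⊓ U.1) :=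
      lt_of_le_of_ne le_sup_left (fun h => hxU (by rw [h]; exact Or.inr hxO))
    let W1 : ptIdx X x := ⟨attW X x (N ⊓ U.1), attW_nonempty X x (N ⊓ U.1) hxO,
      IsConstructible.dim_open (X.ptSub x).mem inferInstance _ (attW_nonempty X x (N ⊓ U.1) hxO)⟩
    have hrel1 : relCodim ((X.ptSub x).res W1.1).scheme
        (X.res (U0 ⊔ (N ⊓ U.1))).scheme = ((j + 1 : ℕ) : ℤ) := by
      have := attD_codim X x U0 (N ⊓ U.1) hxU hO hU0d hxO
      rw [hxc] at this
      exact this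
    have hi1 : i0 + 1 = i + 2 * relCodim ((X.ptSub x).res W1.1).scheme
        (X.res (U0 ⊔ (N ⊓ U.1))).scheme := by rw [hrel1]; exact hi
    have hn1 : n' = n + relCodim ((X.ptSub x).res W1.1).scheme
        (X.res (U0 ⊔ (N ⊓ U.1))).scheme := by rw [hrel1]; exact hn
    let f1 : ((X.ptSub x).res W1.1).scheme ⟶ (X.res (U0 ⊔ (N ⊓ U.1))).scheme :=
      (attD X x U0 (N ⊓ U.1) hxU hO hU0d).i
    haveI : IsProper f1 := (inferInstance : IsProper (attD X x U0 (N ⊓ U.1) hxU hO hU0d).i)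
    have hexa := T.exact_push_pull (attD X x U0 (N ⊓ U.1) hxU hO hU0d) M i0 n' i n hi1 hn1
    have hb1z : (T.pull (attD X x U0 (N ⊓ U.1) hxU hO hU0d).j M (i0 + 1) n').hom
        ((T.pull (X.resLE hY1le (hY1d.trans U.2.2.symm)) M (i0 + 1) n').hom b) = 0 := by
      show (T.pull (X.resLE le_sup_left (att_hdim X U0 (N ⊓ U.1) hU0d)) M (i0 + 1) n').hom _ = 0
      rw [pull_pull]; exact hb
    obtain ⟨a1, ha1⟩ := (hexa _).mp hb1z
    -- the big open
    have hBF : ContainsFj X (j + 1) (bigOpen (X.ptSubι x) W1.1) :=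
      containsFj_bigOpen X (j + 1) x ⟨by omega, by omega⟩ W1.1 W1.2.1
    have hU3F : ContainsFj X (j + 1) (bigOpen (X.ptSubι x) W1.1 ⊓ U.1) :=
      fun y hy => ⟨hBF y hy, U.2.1 y hy⟩
    have hU3d : WeilCoh.dim ((bigOpen (X.ptSubι x) W1.1 ⊓ U.1 : X.scheme.Opens) : Scheme.{u}) =
        WeilCoh.dim X.scheme := dim_of_containsFj X (j + 1) _ hU3F
    let U3 : Idx X (ContainsFj X (j + 1)) := ⟨bigOpen (X.ptSubι x) W1.1 ⊓ U.1, hU3F, hU3d⟩
    have hY3 : ((bigOpen (X.ptSubι x) W1.1 ⊓ U.1 : X.scheme.Opens) : Set X.scheme) =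
        ((outOpen (X.ptSubι x) ⊓ U.1 : X.scheme.Opens) : Set X.scheme) ∪
          (X.ptSubι x) '' (W1.1 : Set (X.ptSub x).scheme) := by
      ext z
      simp only [Opens.coe_inf, Set.mem_inter_iff, Set.mem_union, SetLike.mem_coe]
      have hB : z ∈ bigOpen (X.ptSubι x) W1.1 ↔ z ∈ (outOpen (X.ptSubι x) : Set X.scheme) ∪
          (X.ptSubι x) '' (W1.1 : Set (X.ptSub x).scheme) := by
        rw [← bigOpen_eq]; rfl
      rw [hB]
      constructor
      · rintro ⟨h | h, hzU⟩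
        · left; exact ⟨h, hzU⟩
        · right; exact h
      · rintro (⟨h, hzU⟩ | h)
        · exact ⟨Or.inl h, hzU⟩
        · refine ⟨Or.inr h, ?_⟩
          obtain ⟨w, hw, rfl⟩ := h
          exact hw.2
    have hdisj3 : Disjoint ((outOpen (X.ptSubι x) ⊓ U.1 : X.scheme.Opens) : Set X.scheme)
        (Set.range (X.ptSubι x)) :=
      (disjoint_outOpen (X.ptSubι x)).mono_left (fun z hz => hz.1)
    let f3 : ((X.ptSub x).res W1.1).scheme ⟶ (X.res U3.1).scheme :=
      lcLift X (X.ptSub x) (X.ptSubι x) W1.1 (outOpen (X.ptSubι x) ⊓ U.1)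
        (bigOpen (X.ptSubι x) W1.1 ⊓ U.1) hY3
    haveI : IsClosedImmersion f3 :=
      isClosedImmersion_lcLift X (X.ptSub x) (X.ptSubι x) W1.1 _ _ hY3 hdisj3
    have hf3 : f3 ≫ U3.1.ι = W1.1.ι ≫ X.ptSubι x :=
      lcLift_fac X (X.ptSub x) (X.ptSubι x) W1.1 _ _ hY3
    have hrel3 : relCodim ((X.ptSub x).res W1.1).scheme (X.res U3.1).scheme =
        ((j + 1 : ℕ) : ℤ) := by
      show relCodim (W1.1 : Scheme.{u})
        ((bigOpen (X.ptSubι x) W1.1 ⊓ U.1 : X.scheme.Opens) : Scheme.{u}) = _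
      unfold relCodim
      rw [dim_ptOpen X x W1.1 W1.2.1, hU3d, ← codim_cast, hxc]
    have hi3 : i0 + 1 = i + 2 * relCodim ((X.ptSub x).res W1.1).scheme (X.res U3.1).scheme := by
      rw [hrel3]; exact hi
    have hn3 : n' = n + relCodim ((X.ptSub x).res W1.1).scheme (X.res U3.1).scheme := by
      rw [hrel3]; exact hn
    have hspec := P.cpt_spec ⟨x, hxc⟩ M i n (i0 + 1) n' hi hn U3 W1 f3 hf3 hi3 hn3
    have hY1U3 : U0 ⊔ (N ⊓ U.1) ≤ bigOpen (X.ptSubι x) W1.1 ⊓ U.1 := by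
      intro z hz
      refine ⟨?_, hY1le hz⟩
      rintro ⟨w, hw, rfl⟩
      rcases hz with h | h
      · exact Set.disjoint_left.mp (att_hdisj X x U0 hxU) h ⟨w, rfl⟩
      · exact hw h
    have hpb : IsPullback (𝟙 ((X.ptSub x).res W1.1) : (X.ptSub x).res W1.1 ⟶ _).hom f1 f3
        (X.resLE hY1U3 (hY1d.trans hU3d.symm)).hom := by
      haveI : IsIso (𝟙 ((X.ptSub x).res W1.1) : (X.ptSub x).res W1.1 ⟶ _).hom := by
        rw [id_hom]; infer_instance
      apply IsPullback.of_horiz_isIso_mono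
      constructor
      rw [← cancel_mono U3.1.ι]
      simp only [id_hom, Category.id_comp, Category.assoc]
      rw [hf3]
      show _ = f1 ≫ X.scheme.homOfLE hY1U3 ≫ (bigOpen (X.ptSubι x) W1.1 ⊓ U.1).ι
      rw [Scheme.homOfLE_ι]
      exact (attD_fac X x U0 (N ⊓ U.1) hxU hO hU0d).symm
    have hpp := T.push_pull f3 f1 (X.resLE hY1U3 (hY1d.trans hU3d.symm)) (𝟙 _) hpb M i n (i0 + 1) n'
      hi3 hn3 hi1 hn1
    have hb'z : (T.pull (X.resLE hY1U3 (hY1d.trans hU3d.symm)) M (i0 + 1) n').hom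
        ((T.pull (X.resLE inf_le_right (hU3d.trans U.2.2.symm)) M (i0 + 1) n').hom b -
          (T.push f3 M i n (i0 + 1) n' hi3 hn3).hom a1) = 0 := by
      rw [map_sub, pull_pull]
      have := congrArg (fun φ => φ.hom a1) hpp
      simp only [ModuleCat.hom_comp, LinearMap.comp_apply] at this
      rw [this]
      simp only [op_id, CategoryTheory.Functor.map_id, NatTrans.id_app, ModuleCat.hom_id,
        LinearMap.id_apply]
      rw [sub_eq_zero]
      exact ha1.symm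
    have hIH := ih (U0 ⊔ (N ⊓ U.1)) hlt hY1F U3 hY1U3 (hY1d.trans hU3d.symm) _ hb'z
    have hcl : ((T.fjι X (j + 1) (i0 + 1) n' U).app M).hom b =
        ((T.fjι X (j + 1) (i0 + 1) n' U3).app M).hom
          ((T.pull (X.resLE inf_le_right (hU3d.trans U.2.2.symm)) M (i0 + 1) n').hom b -
            (T.push f3 M i n (i0 + 1) n' hi3 hn3).hom a1) +
        ((T.fjι X (j + 1) (i0 + 1) n' U3).app M).hom
          ((T.push f3 M i n (i0 + 1) n' hi3 hn3).hom a1) := by
      rw [← map_add, sub_add_cancel]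
      have h := ocolimι_res T X (ContainsFj X (j + 1)) (i0 + 1) n' U3 U inf_le_right
        (hU3d.trans U.2.2.symm) M
      have h' := congrArg (fun φ => φ.hom b) h
      simp only [ModuleCat.hom_comp, LinearMap.comp_apply] at h'
      exact h'.symm
    rw [hcl]
    refine Submodule.add_mem _ hIH ?_
    have h := congrArg (fun φ => φ.hom a1) hspec
    simp only [ModuleCat.hom_comp, LinearMap.comp_apply] at h
    rw [← h]
    classical
    rw [← PreTheory.PushData.tot_lof P M i n (i0 + 1) n' hi hn ⟨x, hxc⟩]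
    exact LinearMap.mem_range_self _ _


theorem main (P : T.PushData X (j + 1)) (M : A.Cat) (i n i' n' : ℤ)
    (hi : i' = i + 2 * ((j + 1 : ℕ) : ℤ)) (hn : n' = n + ((j + 1 : ℕ) : ℤ)) :
    Function.Exact (P.tot M i n i' n' hi hn).hom
      ((T.fjRes X (Nat.le_succ j) i' n').app M).hom := by
  obtain ⟨i0, rfl⟩ : ∃ i0, i' = i0 + 1 := ⟨i' - 1, by ring⟩
  intro y
  constructor
  · intro hy
    obtain ⟨U, b, rfl⟩ := ocolim_rep T X (ContainsFj X (j + 1)) (fj_dir X (j + 1))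
      (fj_ne X (j + 1)) (i0 + 1) n' M y
    have h2 := ocolimι_map T X (containsFj_mono X (Nat.le_succ j)) (i0 + 1) n' U M
    have h2' := congrArg (fun φ => φ.hom b) h2
    simp only [ModuleCat.hom_comp, LinearMap.comp_apply] at h2'
    rw [h2'] at hy
    obtain ⟨U0, hle, h0⟩ := ocolim_eq_zero T X (ContainsFj X j) (fj_dir X j) (fj_ne X j)
      (i0 + 1) n' M ⟨U.1, containsFj_mono X (Nat.le_succ j) _ U.2.1, U.2.2⟩ b hy
    exact claim T X j P M i n i0 n' hi hn U0.1 U0.2.1 U hle _ b h0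
  · rintro ⟨ξ, rfl⟩
    classical
    induction ξ using DirectSum.induction_on with
    | zero => simp
    | of x a =>
      rw [← DirectSum.lof_eq_of R, PreTheory.PushData.tot_lof]
      have := congrArg (fun φ => φ.hom a) (cpt_fjRes_zero T X j P x M i n (i0 + 1) n' hi hn)
      simpa using this
    | add ξ ξ' h h' => rw [map_add, map_add, h, h', add_zero]

end Groth.Agent.Helper8.BMEx3
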