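import Groth.Agent.Helper8.BMZero
import Mathlib

set_option autoImplicit false
universe u
open CategoryTheory AlgebraicGeometry Opposite Limits TopologicalSpace Topology
open BMCoh
open Groth.Agent.Helper8.BMTop Groth.Agent.Helper8.BMSch Groth.Agent.Helper8.BMColim
open Groth.Agent.Helper8.BMBasic Groth.Agent.Helper8.BMPushU Groth.Agent.Helper8.BMAtt
open Groth.Agent.Helper8.BMEx3 Groth.Agent.Helper8.BMEx1 Groth.Agent.Helper8.BMBij
open Groth.Agent.Helper8.BMNeg Groth.Agent.Helper8.BMVan Groth.Agent.Helper8.BMGen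
open Groth.Agent.Helper8.BMZero

namespace Groth.Agent.Helper8.BMFam

/-- a closed immersion with open range into a reduced scheme is an open immersion. -/
theorem isOpenImmersion_of_isOpen_range {W Z : Scheme.{u}} [IsReduced Z] (f : W ⟶ Z)
    [IsClosedImmersion f] (h : IsOpen (Set.range f)) : IsOpenImmersion f := by
  let O : Z.Opens := ⟨Set.range f, h⟩
  have hr : Set.range f ⊆ Set.range O.ι := by rw [Scheme.Opens.range_ι]; exact subset_refl _
  have hf' : IsOpenImmersion.lift O.ι f hr ≫ O.ι = f := IsOpenImmersion.lift_fac _ _ _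
  haveI : IsClosedImmersion (IsOpenImmersion.lift O.ι f hr ≫ O.ι) := by rw [hf']; infer_instance
  haveI : IsClosedImmersion (IsOpenImmersion.lift O.ι f hr) :=
    IsClosedImmersion.of_comp (IsOpenImmersion.lift O.ι f hr) O.ι
  haveI : Surjective (IsOpenImmersion.lift O.ι f hr) := ⟨fun o => by
    obtain ⟨w, hw⟩ := o.2
    refine ⟨w, Subtype.ext ?_⟩
    rw [← hw]
    show O.ι ((IsOpenImmersion.lift O.ι f hr) w) = f w
    rw [← Scheme.Hom.comp_apply, hf']⟩
  haveI : IsIso (IsOpenImmersion.lift O.ι f hr) := isIso_of_isClosedImmersion_of_surjective _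
  rw [← hf']; infer_instance

variable {V : ObjectProperty Scheme.{u}} [IsConstructible V] {R : Type u} [CommRing R]
  {A : Coefs R}

theorem push_congr (T : PreTheory V R A) {X Y : Obj V} {f f' : X.scheme ⟶ Y.scheme} (h : f = f')
    [IsProper f] [IsProper f'] (M : A.Cat) (i n i' n' : ℤ)
    (hi : i' = i + 2 * relCodim X.scheme Y.scheme) (hn : n' = n + relCodim X.scheme Y.scheme) :
    T.push f M i n i' n' hi hn = T.push f' M i n i' n' hi hn := by
  subst h; rfl

theorem resLE_resι (Y0 : Obj V) {U U' : Y0.scheme.Opens} (h : U ≤ U')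
    (hd : WeilCoh.dim (U : Scheme.{u}) = WeilCoh.dim (U' : Scheme.{u}))
    (hd' : WeilCoh.dim (U' : Scheme.{u}) = WeilCoh.dim Y0.scheme) :
    Y0.resLE h hd ≫ Y0.resι U' hd' = Y0.resι U (hd.trans hd') :=
  Hom.ext (Scheme.homOfLE_ι _ h)

theorem mem_finset_sup {α : Type*} [TopologicalSpace α] {κ : Type*} (O : κ → Opens α)
    (S : Finset κ) (z : α) : z ∈ S.sup O ↔ ∃ k ∈ S, z ∈ O k := by
  rw [Finset.sup_eq_iSup]
  simp only [Opens.mem_iSup]
  constructor
  · rintro ⟨k, hk, hz⟩; exact ⟨k, hk, hz⟩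
  · rintro ⟨k, hk, hz⟩; exact ⟨k, hk, hz⟩

section family

variable (T : PreTheory V R A) (Y0 : Obj V)

/-- a class vanishing on finitely many pairwise disjoint full-dimensional opens vanishes on their
union. -/
theorem vanish_sup {κ : Type*} (O : κ → Y0.scheme.Opens) (S : Finset κ) (hS : S.Nonempty)
    (hd : ∀ k, WeilCoh.dim (O k : Scheme.{u}) = WeilCoh.dim Y0.scheme)
    (hdisj : ∀ k ∈ S, ∀ l ∈ S, k ≠ l → Disjoint (O k : Set Y0.scheme) (O l : Set Y0.scheme))
    (M : A.Cat) (i n : ℤ) (z : T.gp Y0 M i n)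
    (hz : ∀ k ∈ S, (T.pull (Y0.resι (O k) (hd k)) M i n).hom z = 0) :
    ∃ hd' : WeilCoh.dim ((S.sup O : Y0.scheme.Opens) : Scheme.{u}) = WeilCoh.dim Y0.scheme,
      (T.pull (Y0.resι (S.sup O) hd') M i n).hom z = 0 := by
  induction hS using Finset.Nonempty.cons_induction with
  | singleton k =>
    rw [Finset.sup_singleton]
    exact ⟨hd k, hz k (Finset.mem_singleton_self k)⟩
  | cons k S' hk hS' ih =>
    rw [Finset.sup_cons]
    obtain ⟨hdS', hzS'⟩ := ih
      (fun a ha b hb => hdisj a (Finset.mem_cons_of_mem ha) b (Finset.mem_cons_of_mem hb))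
      (fun a ha => hz a (Finset.mem_cons_of_mem ha))
    have hsd : WeilCoh.dim (O k : Scheme.{u}) =
        WeilCoh.dim ((O k ⊔ S'.sup O : Y0.scheme.Opens) : Scheme.{u}) :=
      att_hdim Y0 (O k) (S'.sup O) (hd k)
    have hsd2 : WeilCoh.dim ((S'.sup O : Y0.scheme.Opens) : Scheme.{u}) =
        WeilCoh.dim ((O k ⊔ S'.sup O : Y0.scheme.Opens) : Scheme.{u}) :=
      (hdS'.trans (hd k).symm).trans hsd
    have hdd : WeilCoh.dim ((O k ⊔ S'.sup O : Y0.scheme.Opens) : Scheme.{u}) =
        WeilCoh.dim Y0.scheme := hsd.symm.trans (hd k)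
    refine ⟨hdd, ?_⟩
    have hdj : Disjoint (O k : Set Y0.scheme) ((S'.sup O : Y0.scheme.Opens) : Set Y0.scheme) := by
      rw [Set.disjoint_left]
      intro y hy hy'
      obtain ⟨l, hl, hyl⟩ := (mem_finset_sup O S' y).mp hy'
      have hkl : k ≠ l := fun h => hk (h ▸ hl)
      exact Set.disjoint_left.mp (hdisj k (Finset.mem_cons_self k S') l
        (Finset.mem_cons_of_mem hl) hkl) hy hyl
    have hbij := BMBasic.main T (Y0.resLE (le_sup_left : O k ≤ O k ⊔ S'.sup O) hsd)
      (Y0.resLE (le_sup_right : S'.sup O ≤ O k ⊔ S'.sup O) hsd2)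
      (range_resLE_sup Y0 (O k) (S'.sup O) hdj hsd hsd2) M i n
    apply hbij.1
    simp only [map_zero, Prod.mk.injEq]
    constructor
    · have e := comp_elem (pull_comp T (Y0.resLE (le_sup_left : O k ≤ O k ⊔ S'.sup O) hsd)
        (Y0.resι (O k ⊔ S'.sup O) hdd) M i n).symm z
      rw [e, resLE_resι]
      exact hz k (Finset.mem_cons_self k S')
    · have e := comp_elem (pull_comp T (Y0.resLE (le_sup_right : S'.sup O ≤ O k ⊔ S'.sup O) hsd2)
        (Y0.resι (O k ⊔ S'.sup O) hdd) M i n).symm z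
      rw [e, resLE_resι]
      exact hzS'

/-- restriction to an open that is everything is injective. -/
theorem pull_resι_injective_of_forall_mem (U : Y0.scheme.Opens) (hall : ∀ y : Y0.scheme, y ∈ U)
    (hd : WeilCoh.dim (U : Scheme.{u}) = WeilCoh.dim Y0.scheme) (M : A.Cat) (i n : ℤ)
    (z : T.gp Y0 M i n) (hz : (T.pull (Y0.resι U hd) M i n).hom z = 0) : z = 0 := by
  obtain ⟨r, hr⟩ := exists_lift (𝟙 Y0) U (fun y _ => hall y) hd
  have e := comp_elem (pull_comp T r (Y0.resι U hd) M i n).symm z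
  rw [hz, map_zero, hr, pull_id] at e
  exact e.symm

variable {κ : Type*} [Fintype κ] (Yk : κ → Obj V) (g : ∀ k, Yk k ⟶ Y0)
  (hdisj : ∀ k l, k ≠ l → Disjoint (Set.range (g k).hom) (Set.range (g l).hom))
  (hcov : ∀ y : Y0.scheme, ∃ k, y ∈ Set.range (g k).hom)

include hdisj hcov in
/-- joint injectivity of the restrictions to the pieces of a finite disjoint open cover. -/
theorem family_inj (M : A.Cat) (i n : ℤ) (z : T.gp Y0 M i n)
    (hz : ∀ k, (T.pull (g k) M i n).hom z = 0) : z = 0 := by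
  classical
  by_cases hκ : Nonempty κ
  · have hd : ∀ k, WeilCoh.dim (((g k).hom.opensRange : Y0.scheme.Opens) : Scheme.{u}) =
        WeilCoh.dim Y0.scheme := fun k =>
      dim_of_range_subset (g k) (g k).hom.opensRange (subset_refl _)
    have hzO : ∀ k ∈ (Finset.univ : Finset κ),
        (T.pull (Y0.resι ((g k).hom.opensRange) (hd k)) M i n).hom z = 0 := by
      intro k _
      let e : Yk k ⟶ Y0.res ((g k).hom.opensRange) :=
        ⟨(g k).hom.isoOpensRange.hom, inferInstance, (g k).dim_eq.trans (hd k).symm⟩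
      haveI : IsIso e.hom := inferInstanceAs (IsIso (g k).hom.isoOpensRange.hom)
      have hfac : e ≫ Y0.resι ((g k).hom.opensRange) (hd k) = g k :=
        Hom.ext ((g k).hom.isoOpensRange_hom_ι)
      apply pull_injective_of_isIso T e M i n
      rw [map_zero]
      have e2 := comp_elem (pull_comp T e (Y0.resι ((g k).hom.opensRange) (hd k)) M i n).symm z
      rw [e2, hfac]
      exact hz k
    obtain ⟨hd', hz'⟩ := vanish_sup T Y0 (fun k => (g k).hom.opensRange) Finset.univ
      Finset.univ_nonempty hd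
      (fun k _ l _ hkl => hdisj k l hkl) M i n z hzO
    refine pull_resι_injective_of_forall_mem T Y0 _ (fun y => ?_) hd' M i n z hz'
    obtain ⟨k, hk⟩ := hcov y
    exact (mem_finset_sup _ _ y).mpr ⟨k, Finset.mem_univ k, hk⟩
  · haveI : IsEmpty Y0.scheme := ⟨fun y => by
      obtain ⟨k, _⟩ := hcov y
      exact hκ ⟨k⟩⟩
    exact gp_empty T Y0 M i n z

variable [∀ k, IsClosedImmersion (g k).hom]

include g in
theorem family_relCodim (k : κ) : relCodim (Yk k).scheme Y0.scheme = 0 :=
  relCodim_of_dim_eq (g k).dim_eq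

include g in
theorem family_hi (k : κ) (i : ℤ) : i = i + 2 * relCodim (Yk k).scheme Y0.scheme := by
  rw [family_relCodim Y0 Yk g k]; ring

include g in
theorem family_hn (k : κ) (n : ℤ) : n = n + relCodim (Yk k).scheme Y0.scheme := by
  rw [family_relCodim Y0 Yk g k]; ring

theorem family_pull_push_self (M : A.Cat) (i n : ℤ) (k : κ) (w : T.gp (Yk k) M i n) :
    (T.pull (g k) M i n).hom ((T.push (g k).hom M i n i n (family_hi Y0 Yk g k i)
      (family_hn Y0 Yk g k n)).hom w) = w := by
  have := comp_elem (push_pull_self T (g k) M i n (family_hi Y0 Yk g k i)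
    (family_hn Y0 Yk g k n)) w
  simpa using this

include hdisj in
theorem family_pull_sum (M : A.Cat) (i n : ℤ) (l : κ) (w : ∀ k, T.gp (Yk k) M i n) :
    (T.pull (g l) M i n).hom (∑ k, (T.push (g k).hom M i n i n (family_hi Y0 Yk g k i)
      (family_hn Y0 Yk g k n)).hom (w k)) = w l := by
  classical
  rw [map_sum, Finset.sum_eq_single l]
  · exact family_pull_push_self T Y0 Yk g M i n l (w l)
  · intro k _ hkl
    exact pull_push_of_disjoint T (g k).hom (g l) (hdisj k l hkl) M i n i n _ _ (w k)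
  · intro h; exact absurd (Finset.mem_univ l) h

include hdisj hcov in
/-- a class is the sum of the push-forwards of its restrictions to the pieces. -/
theorem family_sum (M : A.Cat) (i n : ℤ) (z : T.gp Y0 M i n) :
    z = ∑ k, (T.push (g k).hom M i n i n (family_hi Y0 Yk g k i)
      (family_hn Y0 Yk g k n)).hom ((T.pull (g k) M i n).hom z) := by
  rw [← sub_eq_zero]
  apply family_inj T Y0 Yk g hdisj hcov M i n
  intro l
  rw [map_sub, family_pull_sum T Y0 Yk g hdisj M i n l, sub_self]

end family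

end Groth.Agent.Helper8.BMFam
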