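import Groth.Agent.Helper8.BMVan
import Mathlib

set_option autoImplicit false
universe u
open CategoryTheory AlgebraicGeometry Opposite Limits TopologicalSpace Topology
open BMCoh
open Groth.Agent.Helper8.BMTop Groth.Agent.Helper8.BMSch Groth.Agent.Helper8.BMColim
open Groth.Agent.Helper8.BMBasic Groth.Agent.Helper8.BMPushU Groth.Agent.Helper8.BMAtt
open Groth.Agent.Helper8.BMEx3 Groth.Agent.Helper8.BMEx1 Groth.Agent.Helper8.BMBij
open Groth.Agent.Helper8.BMNeg Groth.Agent.Helper8.BMVan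

namespace Groth.Agent.Helper8.BMGen

variable {V : ObjectProperty Scheme.{u}} [IsConstructible V] {R : Type u} [CommRing R]
  {A : Coefs R}

/-- inverse of a morphism of objects whose underlying morphism is an isomorphism. -/
noncomputable def invHom {X Y : Obj V} (f : X ⟶ Y) [IsIso f.hom] : Y ⟶ X :=
  ⟨inv f.hom, inferInstance, f.dim_eq.symm⟩

theorem invHom_comp {X Y : Obj V} (f : X ⟶ Y) [IsIso f.hom] : invHom f ≫ f = 𝟙 Y :=
  Hom.ext (IsIso.inv_hom_id _)

theorem comp_invHom {X Y : Obj V} (f : X ⟶ Y) [IsIso f.hom] : f ≫ invHom f = 𝟙 X :=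
  Hom.ext (IsIso.hom_inv_id _)

theorem pull_injective_of_isIso (T : PreTheory V R A) {X Y : Obj V} (f : X ⟶ Y) [IsIso f.hom]
    (M : A.Cat) (i n : ℤ) : Function.Injective (T.pull f M i n).hom := by
  have h : T.pull f M i n ≫ T.pull (invHom f) M i n = 𝟙 _ := by
    rw [← pull_comp, invHom_comp, pull_id]
  intro a b hab
  have h1 := comp_elem h a
  have h2 := comp_elem h b
  simp only [ModuleCat.hom_id, LinearMap.id_apply] at h1 h2
  rw [← h1, ← h2, hab]

theorem pull_surjective_of_isIso (T : PreTheory V R A) {X Y : Obj V} (f : X ⟶ Y) [IsIso f.hom]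
    (M : A.Cat) (i n : ℤ) : Function.Surjective (T.pull f M i n).hom := by
  have h : T.pull (invHom f) M i n ≫ T.pull f M i n = 𝟙 _ := by
    rw [← pull_comp, comp_invHom, pull_id]
  intro a
  have h1 := comp_elem h a
  simp only [ModuleCat.hom_id, LinearMap.id_apply] at h1
  exact ⟨_, h1⟩

theorem push_pull_of_isIso (T : PreTheory V R A) {X Y : Obj V} (f : X ⟶ Y) [IsIso f.hom]
    (M : A.Cat) (i n : ℤ)
    (hi : i = i + 2 * relCodim X.scheme Y.scheme) (hn : n = n + relCodim X.scheme Y.scheme)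
    (c : T.gp Y M i n) :
    (T.push f.hom M i n i n hi hn).hom ((T.pull f M i n).hom c) = c := by
  apply pull_injective_of_isIso T f M i n
  exact comp_elem (push_pull_self T f M i n hi hn) _

theorem exists_lift {Y' Y0 : Obj V} (g : Y' ⟶ Y0) (O : Y0.scheme.Opens)
    (h : Set.range g.hom ⊆ (O : Set Y0.scheme))
    (hd : WeilCoh.dim (O : Scheme.{u}) = WeilCoh.dim Y0.scheme) :
    ∃ g' : Y' ⟶ Y0.res O, g' ≫ Y0.resι O hd = g := by
  have hr : Set.range g.hom ⊆ Set.range O.ι := by rw [Scheme.Opens.range_ι]; exact h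
  haveI : IsOpenImmersion (IsOpenImmersion.lift O.ι g.hom hr ≫ O.ι) := by
    rw [IsOpenImmersion.lift_fac]; infer_instance
  exact ⟨⟨IsOpenImmersion.lift O.ι g.hom hr, IsOpenImmersion.of_comp _ O.ι,
    g.dim_eq.trans hd.symm⟩, Hom.ext (IsOpenImmersion.lift_fac _ _ _)⟩

/-- an open containing the range of a morphism of objects has full dimension. -/
theorem dim_of_range_subset {Y' Y0 : Obj V} (g : Y' ⟶ Y0) (O : Y0.scheme.Opens)
    (h : Set.range g.hom ⊆ (O : Set Y0.scheme)) :
    WeilCoh.dim (O : Scheme.{u}) = WeilCoh.dim Y0.scheme := by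
  apply le_antisymm
  · rw [dim_opens]; exact sdim_le_dim Y0 _
  · rw [← g.dim_eq, dim_eq_sdim_range g.hom g.hom.isEmbedding, dim_opens]
    exact sdim_mono Y0 h

/-- push-forward along a closed immersion restricts to zero on an open piece disjoint from it. -/
theorem pull_push_of_disjoint (T : PreTheory V R A) {Z Y0 Y' : Obj V}
    (f : Z.scheme ⟶ Y0.scheme) [IsClosedImmersion f] (g : Y' ⟶ Y0)
    (hdisj : Disjoint (Set.range f) (Set.range g.hom)) (M : A.Cat) (i n i' n' : ℤ)
    (hi : i' = i + 2 * relCodim Z.scheme Y0.scheme) (hn : n' = n + relCodim Z.scheme Y0.scheme)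
    (w : T.gp Z M i n) :
    (T.pull g M i' n').hom ((T.push f M i n i' n' hi hn).hom w) = 0 := by
  obtain ⟨i0, rfl⟩ : ∃ i0, i' = i0 + 1 := ⟨i' - 1, by ring⟩
  let O : Y0.scheme.Opens := ⟨(Set.range f)ᶜ, f.isClosedEmbedding.isClosed_range.isOpen_compl⟩
  have hsub : Set.range g.hom ⊆ (O : Set Y0.scheme) := fun y hy hy' =>
    Set.disjoint_left.mp hdisj hy' hy
  have hd := dim_of_range_subset g O hsub
  obtain ⟨g', hg'⟩ := exists_lift g O hsub hd
  let D : Decomp Y0 := ⟨Z, Y0.res O, f, inferInstance, Y0.resι O hd, by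
    show Set.range O.ι = _
    rw [Scheme.Opens.range_ι]; rfl⟩
  have hex := T.exact_push_pull D M i0 n' i n hi hn
  rw [← hg', pull_comp]
  simp only [ModuleCat.hom_comp, LinearMap.comp_apply]
  have := hex.apply_apply_eq_zero w
  erw [this]
  rw [map_zero]

/-- an open neighbourhood of a point of codimension zero has full dimension. -/
theorem dim_of_mem_codim_zero (X : Obj V) (η : X.scheme)
    (hη : WeilCoh.pdim X.scheme η = WeilCoh.dim X.scheme) (U : X.scheme.Opens) (hηU : η ∈ U) :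
    WeilCoh.dim (U : Scheme.{u}) = WeilCoh.dim X.scheme := by
  apply le_antisymm
  · rw [dim_opens]; exact sdim_le_dim X _
  · let W : (X.ptSub η).scheme.Opens := (X.ptSubι η) ⁻¹ᵁ U
    have hW : (W : Set (X.ptSub η).scheme).Nonempty := attW_nonempty X η U hηU
    have h1 := dim_ptOpen X η W hW
    have h2 : WeilCoh.dim (W : Scheme.{u}) ≤ WeilCoh.dim (U : Scheme.{u}) := by
      rw [dim_eq_sdim_range (W.ι ≫ X.ptSubι η) (W.ι ≫ X.ptSubι η).isEmbedding, dim_opens]
      apply sdim_mono X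
      rintro _ ⟨w, rfl⟩
      exact w.2
    rw [← hη, ← h1]; exact h2

/-- the total push-forward as a finite sum. -/
theorem tot_eq_sum (T : PreTheory V R A) (X : Obj V) (j : ℕ) (P : T.PushData X j) (M : A.Cat)
    (i n i' n' : ℤ) (hi : i' = i + 2 * (j : ℤ)) (hn : n' = n + (j : ℤ))
    (ξ : T.ptSum X j M i n) (F : Finset (X.cdPt j)) (hF : ∀ x, x ∉ F → ξ x = 0) :
    (P.tot M i n i' n' hi hn).hom ξ = ∑ x ∈ F, (P.cpt x M i n i' n' hi hn).hom (ξ x) := by
  classical
  have h1 : ξ = ∑ x ∈ F, DirectSum.lof R (X.cdPt j) (fun y : X.cdPt j => T.ptGp X y.1 M i n) x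
      (ξ x) := by
    have h2 := DirectSum.sum_support_of (β := fun y : X.cdPt j => T.ptGp X y.1 M i n) ξ
    conv_lhs => rw [← h2]
    apply Finset.sum_subset
    · intro x hx
      by_contra hxF
      exact (DFinsupp.mem_support_iff.mp hx) (hF x hxF)
    · intro x _ hx
      have : ξ x = 0 := by
        by_contra h
        exact hx (DFinsupp.mem_support_iff.mpr h)
      rw [this]; simp
  conv_lhs => rw [h1]
  rw [map_sum]
  apply Finset.sum_congr rfl
  intro x _
  exact PreTheory.PushData.tot_lof P M i n i' n' hi hn x (ξ x)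

end Groth.Agent.Helper8.BMGen
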