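import Groth.Agent.Helper8.BMNorm
import Mathlib

set_option autoImplicit false
universe u
open CategoryTheory AlgebraicGeometry Opposite Limits TopologicalSpace Topology
open BMCoh
open Groth.Agent.Helper8.BMTop Groth.Agent.Helper8.BMSch Groth.Agent.Helper8.BMColim
open Groth.Agent.Helper8.BMBasic Groth.Agent.Helper8.BMPushU Groth.Agent.Helper8.BMAtt

namespace Groth.Agent.Helper8.BMNdA

/-- no nontrivial specialisations inside a fibre of a locally quasi-finite morphism. -/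
theorem eq_of_specializes_of_fiber {Y X : Scheme.{u}} (φ : Y ⟶ X) [LocallyQuasiFinite φ]
    {a b : Y} (h : a ⤳ b) (hφ : φ a = φ b) : a = b := by
  have hd := (φ.isDiscrete_preimage_singleton (φ b)).to_subtype
  let a' : ↥(φ ⁻¹' {φ b}) := ⟨a, hφ⟩
  let b' : ↥(φ ⁻¹' {φ b}) := ⟨b, rfl⟩
  have h' : a' ⤳ b' := (subtype_specializes_iff a' b').mpr h
  have := specializes_iff_eq.mp h'
  exact congrArg Subtype.val this

variable {V : ObjectProperty Scheme.{u}} [IsConstructible V]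

theorem exists_good_nbhd {Y X : Obj V} (φ : Y.scheme ⟶ X.scheme) [IsFinite φ] (x : X.scheme)
    (N : X.scheme.Opens) (hxN : x ∈ N) :
    ∃ O : X.scheme.Opens, O ≤ N ∧ x ∈ O ∧
      (∀ z' : Y.scheme, φ z' ∈ O → φ z' ∈ closure ({x} : Set X.scheme) →
        ∃ y : Y.scheme, φ y = x ∧ z' ∈ closure ({y} : Set Y.scheme)) ∧
      (∀ y y' : Y.scheme, φ y = x → φ y' = x → y ≠ y' → ∀ z' : Y.scheme,
        z' ∈ closure ({y} : Set Y.scheme) → z' ∈ closure ({y'} : Set Y.scheme) → φ z' ∉ O) := by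
  classical
  have hfin : (φ ⁻¹' {x}).Finite := φ.finite_preimage_singleton x
  haveI : Finite ↥(φ ⁻¹' {x}) := hfin.to_subtype
  have hF : IsClosed (φ ⁻¹' closure ({x} : Set X.scheme)) :=
    isClosed_closure.preimage φ.continuous
  have hmax : ∀ y : ↥(φ ⁻¹' {x}), ∀ z ∈ φ ⁻¹' closure ({x} : Set X.scheme), z ⤳ y.1 → z = y.1 := by
    intro y z hz hzy
    have hy : φ y.1 = x := y.2
    have h1 : φ z ⤳ x := hy ▸ hzy.map φ.continuous
    have h2 : x ⤳ φ z := specializes_iff_mem_closure.mpr hz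
    have h3 : φ z = x := (h1.antisymm h2).eq
    exact eq_of_specializes_of_fiber φ hzy (h3.trans hy.symm)
  choose Ny hNyo hyNy hNyF using fun y : ↥(φ ⁻¹' {x}) => exists_open_of_maximal hF (hmax y)
  have hG : IsClosed ((φ ⁻¹' closure ({x} : Set X.scheme)) ∩ (⋃ y, Ny y)ᶜ) :=
    hF.inter (isOpen_iUnion hNyo).isClosed_compl
  have hG' : IsClosed (⋃ p : {p : ↥(φ ⁻¹' {x}) × ↥(φ ⁻¹' {x}) // p.1 ≠ p.2},
      closure ({p.1.1.1} : Set Y.scheme) ∩ closure ({p.1.2.1} : Set Y.scheme)) :=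
    isClosed_iUnion_of_finite fun p => isClosed_closure.inter isClosed_closure
  have hφG := φ.isClosedMap _ hG
  have hφG' := φ.isClosedMap _ hG'
  refine ⟨N ⊓ ⟨_, hφG.isOpen_compl⟩ ⊓ ⟨_, hφG'.isOpen_compl⟩, inf_le_left.trans inf_le_left,
    ⟨⟨hxN, ?_⟩, ?_⟩, ?_, ?_⟩
  · rintro ⟨z, ⟨-, hz⟩, hzx⟩
    apply hz
    exact Set.mem_iUnion.mpr ⟨⟨z, hzx⟩, hyNy ⟨z, hzx⟩⟩
  · rintro ⟨z, hz, hzx⟩
    obtain ⟨⟨⟨y, y'⟩, hne⟩, hzy, hzy'⟩ := Set.mem_iUnion.mp hz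
    have e1 : y.1 = z := eq_of_specializes_of_fiber φ (specializes_iff_mem_closure.mpr hzy)
      (y.2.trans hzx.symm)
    have e2 : y'.1 = z := eq_of_specializes_of_fiber φ (specializes_iff_mem_closure.mpr hzy')
      (y'.2.trans hzx.symm)
    exact hne (Subtype.ext (e1.trans e2.symm))
  · intro z' hzO hzc
    have hzG : z' ∉ (φ ⁻¹' closure ({x} : Set X.scheme)) ∩ (⋃ y, Ny y)ᶜ := fun h =>
      hzO.1.2 ⟨z', h, rfl⟩
    have hz2 : z' ∈ ⋃ y, Ny y := by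
      by_contra h
      exact hzG ⟨hzc, h⟩
    obtain ⟨y, hy⟩ := Set.mem_iUnion.mp hz2
    exact ⟨y.1, y.2, hNyF y ⟨hy, hzc⟩⟩
  · intro y y' hy hy' hne z' hz hz' hzO
    apply hzO.2
    refine ⟨z', Set.mem_iUnion.mpr ⟨⟨⟨⟨y, hy⟩, ⟨y', hy'⟩⟩, fun h => hne (congrArg Subtype.val h)⟩,
      hz, hz'⟩, rfl⟩

end Groth.Agent.Helper8.BMNdA
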