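import Groth.Agent.Helper8.BMFam
import Mathlib

set_option autoImplicit false
universe u
open CategoryTheory AlgebraicGeometry Opposite Limits TopologicalSpace Topology
open BMCoh
open Groth.Agent.Helper8.BMTop Groth.Agent.Helper8.BMSch Groth.Agent.Helper8.BMColim
open Groth.Agent.Helper8.BMBasic Groth.Agent.Helper8.BMPushU Groth.Agent.Helper8.BMAtt
open Groth.Agent.Helper8.BMEx3 Groth.Agent.Helper8.BMEx1 Groth.Agent.Helper8.BMBij
open Groth.Agent.Helper8.BMNeg Groth.Agent.Helper8.BMVan Groth.Agent.Helper8.BMGen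
open Groth.Agent.Helper8.BMZero Groth.Agent.Helper8.BMFam Groth.Agent.Helper8.BMPtU

namespace Groth.Agent.Helper8.BMPack

variable {V : ObjectProperty Scheme.{u}} [IsConstructible V] {R : Type u} [CommRing R]
  {A : Coefs R}

theorem eq_of_mem_closure_of_codim_le (X : Obj V) {x z : X.scheme}
    (h : z ∈ closure ({x} : Set X.scheme))
    (hc : WeilCoh.codim X.scheme z ≤ WeilCoh.codim X.scheme x) : z = x := by
  by_contra hne
  have := codim_lt_of_specializes X (specializes_iff_mem_closure.mpr h) hne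
  omega

section pack

variable (X : Obj V) (j : ℕ) (U2 : Idx X (ContainsFj X (j + 1))) {κ : Type u} [Fintype κ]
  (pt : κ → X.cdPt (j + 1))

/-- the open part: `U2` minus the closures of the points. -/
noncomputable def famU0 : X.scheme.Opens :=
  U2.1 ⊓ ⟨(⋃ k, closure ({(pt k).1} : Set X.scheme))ᶜ,
    (isClosed_iUnion_of_finite (fun _ => isClosed_closure)).isOpen_compl⟩

theorem mem_famU0 {z : X.scheme} :
    z ∈ famU0 X j U2 pt ↔ z ∈ U2.1 ∧ ∀ k, z ∉ closure ({(pt k).1} : Set X.scheme) := by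
  show (z ∈ U2.1 ∧ z ∈ (⋃ k, closure ({(pt k).1} : Set X.scheme))ᶜ) ↔ _
  simp only [Set.mem_compl_iff, Set.mem_iUnion, not_exists]

/-- the neighbourhood of the `k`-th point: `U2` minus the closures of the other points. -/
noncomputable def famN (k : κ) : X.scheme.Opens :=
  U2.1 ⊓ ⟨(⋃ l : {l : κ // l ≠ k}, closure ({(pt l.1).1} : Set X.scheme))ᶜ,
    (isClosed_iUnion_of_finite (fun _ => isClosed_closure)).isOpen_compl⟩

theorem mem_famN {k : κ} {z : X.scheme} :
    z ∈ famN X j U2 pt k ↔ z ∈ U2.1 ∧ ∀ l, l ≠ k → z ∉ closure ({(pt l).1} : Set X.scheme) := by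
  show (z ∈ U2.1 ∧ z ∈ (⋃ l : {l : κ // l ≠ k}, closure ({(pt l.1).1} : Set X.scheme))ᶜ) ↔ _
  simp only [Set.mem_compl_iff, Set.mem_iUnion, not_exists, Subtype.forall]

/-- the total open: `U2` minus the pairwise intersections of the closures of the points. -/
noncomputable def famUs : X.scheme.Opens :=
  U2.1 ⊓ ⟨(⋃ p : {p : κ × κ // p.1 ≠ p.2},
      closure ({(pt p.1.1).1} : Set X.scheme) ∩ closure ({(pt p.1.2).1} : Set X.scheme))ᶜ,
    (isClosed_iUnion_of_finite (fun _ => isClosed_closure.inter isClosed_closure)).isOpen_compl⟩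

theorem mem_famUs {z : X.scheme} :
    z ∈ famUs X j U2 pt ↔ z ∈ U2.1 ∧ ∀ k l, k ≠ l →
      z ∈ closure ({(pt k).1} : Set X.scheme) → z ∉ closure ({(pt l).1} : Set X.scheme) := by
  show (z ∈ U2.1 ∧ z ∈ (⋃ p : {p : κ × κ // p.1 ≠ p.2},
      closure ({(pt p.1.1).1} : Set X.scheme) ∩ closure ({(pt p.1.2).1} : Set X.scheme))ᶜ) ↔ _
  simp only [Set.mem_compl_iff, Set.mem_iUnion, not_exists, Subtype.forall, Prod.forall,
    Set.mem_inter_iff, not_and]

theorem famU0_le : famU0 X j U2 pt ≤ famUs X j U2 pt := by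
  intro z hz
  rw [mem_famU0] at hz
  exact (mem_famUs X j U2 pt).mpr ⟨hz.1, fun k _ _ hk => absurd hk (hz.2 k)⟩

theorem famN_le (k : κ) : famN X j U2 pt k ≤ famUs X j U2 pt := by
  intro z hz
  rw [mem_famN] at hz
  refine (mem_famUs X j U2 pt).mpr ⟨hz.1, fun a b hab ha hb => ?_⟩
  by_cases hak : a = k
  · subst hak
    exact hz.2 b (Ne.symm hab) hb
  · exact hz.2 a hak ha

theorem famUs_le : famUs X j U2 pt ≤ U2.1 := inf_le_left

theorem mem_famN_of_mem_closure {k : κ} {z : X.scheme} (hz : z ∈ famUs X j U2 pt)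
    (hzk : z ∈ closure ({(pt k).1} : Set X.scheme)) : z ∈ famN X j U2 pt k := by
  rw [mem_famUs] at hz
  exact (mem_famN X j U2 pt).mpr ⟨hz.1, fun l hl hzl => hz.2 l k hl hzl hzk⟩

theorem mem_closure_of_mem_famN {k : κ} {z : X.scheme} (hz : z ∈ famN X j U2 pt k)
    (hz0 : z ∉ famU0 X j U2 pt) : z ∈ closure ({(pt k).1} : Set X.scheme) := by
  rw [mem_famN] at hz
  rw [mem_famU0] at hz0
  by_contra hzk
  apply hz0
  refine ⟨hz.1, fun l => ?_⟩
  by_cases hl : l = k
  · subst hl; exact hzk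
  · exact hz.2 l hl

theorem exists_mem_famN {z : X.scheme} (hz : z ∈ famUs X j U2 pt)
    (hz0 : z ∉ famU0 X j U2 pt) : ∃ k, z ∈ famN X j U2 pt k := by
  have hz' := (mem_famUs X j U2 pt).mp hz
  rw [mem_famU0] at hz0
  push Not at hz0
  obtain ⟨k, hk⟩ := hz0 hz'.1
  exact ⟨k, mem_famN_of_mem_closure X j U2 pt hz hk⟩

theorem not_mem_famU0_of_mem_closure {k : κ} {z : X.scheme}
    (hzk : z ∈ closure ({(pt k).1} : Set X.scheme)) : z ∉ famU0 X j U2 pt := fun h =>
  ((mem_famU0 X j U2 pt).mp h).2 k hzk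

theorem pt_mem_U2 (k : κ) : (pt k).1 ∈ U2.1 := U2.2.1 _ (le_of_eq (pt k).2)

variable (hinj : Function.Injective pt)

include hinj in
theorem pt_mem_famN (k : κ) : (pt k).1 ∈ famN X j U2 pt k := by
  refine (mem_famN X j U2 pt).mpr ⟨pt_mem_U2 X j U2 pt k, fun l hl hmem => ?_⟩
  have := eq_of_mem_closure_of_codim_le X hmem (by rw [(pt k).2, (pt l).2])
  exact hl (hinj (Subtype.ext this)).symm

theorem containsFj_famU0 : ContainsFj X j (famU0 X j U2 pt) := by
  intro y hy
  refine (mem_famU0 X j U2 pt).mpr ⟨U2.2.1 y (by omega), fun k hmem => ?_⟩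
  by_cases hyk : y = (pt k).1
  · have := (pt k).2; rw [← hyk] at this; omega
  · have := codim_lt_of_specializes X (specializes_iff_mem_closure.mpr hmem) hyk
    have h2 := (pt k).2
    omega

include hinj in
theorem containsFj_famUs : ContainsFj X (j + 1) (famUs X j U2 pt) := by
  intro y hy
  refine (mem_famUs X j U2 pt).mpr ⟨U2.2.1 y hy, fun k l hkl hk hl => ?_⟩
  have e1 := eq_of_mem_closure_of_codim_le X hk (by rw [(pt k).2]; exact hy)
  have e2 := eq_of_mem_closure_of_codim_le X hl (by rw [(pt l).2]; exact hy)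
  exact hkl (hinj (Subtype.ext (e1.symm.trans e2)))

theorem mem_famU0_of_ne (x : X.cdPt (j + 1)) (hx : ∀ k, pt k ≠ x) :
    x.1 ∈ famU0 X j U2 pt := by
  refine (mem_famU0 X j U2 pt).mpr ⟨U2.2.1 _ (le_of_eq x.2), fun k hmem => ?_⟩
  have := eq_of_mem_closure_of_codim_le X hmem (by rw [x.2, (pt k).2])
  exact hx k (Subtype.ext this.symm)

theorem dim_famU0 : WeilCoh.dim ((famU0 X j U2 pt : X.scheme.Opens) : Scheme.{u}) =
    WeilCoh.dim X.scheme := dim_of_containsFj X j _ (containsFj_famU0 X j U2 pt)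

include hinj in
theorem dim_famUs : WeilCoh.dim ((famUs X j U2 pt : X.scheme.Opens) : Scheme.{u}) =
    WeilCoh.dim X.scheme := dim_of_containsFj X (j + 1) _ (containsFj_famUs X j U2 pt hinj)

end pack

section pack2

variable (X : Obj V) (j : ℕ) (U2 : Idx X (ContainsFj X (j + 1))) {κ : Type u} [Fintype κ]
  (pt : κ → X.cdPt (j + 1)) (hinj : Function.Injective pt)

/-- the index of the open part. -/
noncomputable abbrev famU0Idx : Idx X (ContainsFj X j) :=
  ⟨famU0 X j U2 pt, containsFj_famU0 X j U2 pt, dim_famU0 X j U2 pt⟩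

/-- the index of the total open. -/
noncomputable abbrev famUsIdx : Idx X (ContainsFj X (j + 1)) :=
  ⟨famUs X j U2 pt, containsFj_famUs X j U2 pt hinj, dim_famUs X j U2 pt hinj⟩

/-- the inclusion of the open part. -/
noncomputable abbrev famJ : X.res (famU0 X j U2 pt) ⟶ X.res (famUs X j U2 pt) :=
  X.resLE (famU0_le X j U2 pt) ((dim_famU0 X j U2 pt).trans (dim_famUs X j U2 pt hinj).symm)

/-- the reduced closed complement. -/
noncomputable abbrev famZ : Obj V :=
  complObj (X.res (famUs X j U2 pt)) (famJ X j U2 pt hinj).hom.opensRange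

/-- its closed immersion. -/
noncomputable abbrev famI : (famZ X j U2 pt hinj).scheme ⟶ (X.res (famUs X j U2 pt)).scheme :=
  complι (X.res (famUs X j U2 pt)) (famJ X j U2 pt hinj).hom.opensRange

/-- the decomposition of the total open. -/
noncomputable def famD : Decomp (X.res (famUs X j U2 pt)) :=
  ⟨famZ X j U2 pt hinj, X.res (famU0 X j U2 pt), famI X j U2 pt hinj, inferInstance,
    famJ X j U2 pt hinj, by rw [range_complι, compl_compl]; rfl⟩

theorem mem_opensRange_famJ (u : (X.res (famUs X j U2 pt)).scheme) :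
    u ∈ (famJ X j U2 pt hinj).hom.opensRange ↔ u.1 ∈ famU0 X j U2 pt :=
  mem_range_homOfLE (Y := X.scheme) (famU0_le X j U2 pt) u

theorem famI_not_mem (ζ : (famZ X j U2 pt hinj).scheme) :
    (famI X j U2 pt hinj ζ).1 ∉ famU0 X j U2 pt := by
  intro h
  have h1 : famI X j U2 pt hinj ζ ∈ Set.range (famI X j U2 pt hinj) := ⟨ζ, rfl⟩
  rw [range_complι] at h1
  exact h1 ((mem_opensRange_famJ X j U2 pt hinj _).mpr h)

theorem mem_range_famI (u : (X.res (famUs X j U2 pt)).scheme) (hu : u.1 ∉ famU0 X j U2 pt) :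
    u ∈ Set.range (famI X j U2 pt hinj) := by
  rw [range_complι]
  exact fun h => hu ((mem_opensRange_famJ X j U2 pt hinj u).mp h)

/-- the piece of the closure of the `k`-th point. -/
noncomputable abbrev famW (k : κ) : (X.ptSub (pt k).1).scheme.Opens :=
  attW X (pt k).1 (famN X j U2 pt k)

include hinj in
theorem famW_nonempty (k : κ) :
    ((famW X j U2 pt k : (X.ptSub (pt k).1).scheme.Opens) :
      Set (X.ptSub (pt k).1).scheme).Nonempty :=
  attW_nonempty X (pt k).1 _ (pt_mem_famN X j U2 pt hinj k)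

/-- the index of the piece. -/
noncomputable abbrev famWIdx (k : κ) : ptIdx X (pt k).1 :=
  ⟨famW X j U2 pt k, famW_nonempty X j U2 pt hinj k,
    IsConstructible.dim_open (X.ptSub (pt k).1).mem inferInstance _
      (famW_nonempty X j U2 pt hinj k)⟩

theorem fam_hY (k : κ) : ((famUs X j U2 pt : X.scheme.Opens) : Set X.scheme) =
    ((outOpen (X.ptSubι (pt k).1) ⊓ famUs X j U2 pt : X.scheme.Opens) : Set X.scheme) ∪
      (X.ptSubι (pt k).1) '' ((famW X j U2 pt k : (X.ptSub (pt k).1).scheme.Opens) :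
        Set (X.ptSub (pt k).1).scheme) := by
  ext z
  constructor
  · intro hz
    by_cases hzr : z ∈ Set.range (X.ptSubι (pt k).1)
    · right
      obtain ⟨w, rfl⟩ := hzr
      refine ⟨w, ?_, rfl⟩
      apply mem_famN_of_mem_closure X j U2 pt hz
      rw [← range_ptSubι]; exact ⟨w, rfl⟩
    · left; exact ⟨hzr, hz⟩
  · rintro (h | ⟨w, hw, rfl⟩)
    · exact h.2
    · exact famN_le X j U2 pt k hw

/-- the closed immersion of the piece into the total open. -/
noncomputable def famLc (k : κ) : ((X.ptSub (pt k).1).res (famW X j U2 pt k)).scheme ⟶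
    (X.res (famUs X j U2 pt)).scheme :=
  lcLift X (X.ptSub (pt k).1) (X.ptSubι (pt k).1) (famW X j U2 pt k)
    (outOpen (X.ptSubι (pt k).1) ⊓ famUs X j U2 pt) (famUs X j U2 pt) (fam_hY X j U2 pt k)

instance (k : κ) : IsClosedImmersion (famLc X j U2 pt k) :=
  isClosedImmersion_lcLift X (X.ptSub (pt k).1) (X.ptSubι (pt k).1) (famW X j U2 pt k) _ _
    (fam_hY X j U2 pt k) (piece_disj X (pt k).1 (famUs X j U2 pt))

theorem famLc_fac (k : κ) : famLc X j U2 pt k ≫ (famUs X j U2 pt).ι =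
    (famW X j U2 pt k).ι ≫ X.ptSubι (pt k).1 :=
  lcLift_fac X (X.ptSub (pt k).1) (X.ptSubι (pt k).1) (famW X j U2 pt k) _ _ (fam_hY X j U2 pt k)

theorem famLc_apply (k : κ) (w : famW X j U2 pt k) :
    (famLc X j U2 pt k w).1 = (X.ptSubι (pt k).1) w.1 :=
  lcLift_apply X (X.ptSub (pt k).1) (X.ptSubι (pt k).1) (famW X j U2 pt k) _ _
    (fam_hY X j U2 pt k) w

theorem famLc_mem_closure (k : κ) (w : famW X j U2 pt k) :
    (famLc X j U2 pt k w).1 ∈ closure ({(pt k).1} : Set X.scheme) := by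
  rw [famLc_apply, ← range_ptSubι]; exact ⟨_, rfl⟩

theorem fam_ker_le (k : κ) : (famI X j U2 pt hinj).ker ≤ (famLc X j U2 pt k).ker := by
  rw [Scheme.IdealSheafData.ker_subschemeι, ker_eq_vanishingIdeal]
  apply Scheme.IdealSheafData.vanishingIdeal_antimono
  show closure (Set.range (famLc X j U2 pt k)) ⊆
    ((famJ X j U2 pt hinj).hom.opensRange : Set (X.res (famUs X j U2 pt)).scheme)ᶜ
  apply closure_minimal _ (famJ X j U2 pt hinj).hom.opensRange.isOpen.isClosed_compl
  rintro _ ⟨w, rfl⟩ h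
  exact not_mem_famU0_of_mem_closure X j U2 pt (famLc_mem_closure X j U2 pt k w)
    ((mem_opensRange_famJ X j U2 pt hinj _).mp h)

/-- the piece inside the reduced complement. -/
noncomputable def famEll (k : κ) : ((X.ptSub (pt k).1).res (famW X j U2 pt k)).scheme ⟶
    (famZ X j U2 pt hinj).scheme :=
  IsClosedImmersion.lift (famI X j U2 pt hinj) (famLc X j U2 pt k) (fam_ker_le X j U2 pt hinj k)

theorem famEll_fac (k : κ) : famEll X j U2 pt hinj k ≫ famI X j U2 pt hinj = famLc X j U2 pt k :=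
  IsClosedImmersion.lift_fac _ _ _

instance (k : κ) : IsClosedImmersion (famEll X j U2 pt hinj k) := by
  haveI : IsClosedImmersion (famEll X j U2 pt hinj k ≫ famI X j U2 pt hinj) := by
    rw [famEll_fac]; infer_instance
  exact IsClosedImmersion.of_comp (famEll X j U2 pt hinj k) (famI X j U2 pt hinj)

theorem famEll_apply (k : κ) (w : famW X j U2 pt k) :
    (famI X j U2 pt hinj (famEll X j U2 pt hinj k w)).1 = (X.ptSubι (pt k).1) w.1 := by
  rw [← famLc_apply X j U2 pt k w, ← famEll_fac X j U2 pt hinj k]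
  rfl

theorem mem_range_famEll (k : κ) (ζ : (famZ X j U2 pt hinj).scheme) :
    ζ ∈ Set.range (famEll X j U2 pt hinj k) ↔
      (famI X j U2 pt hinj ζ).1 ∈ famN X j U2 pt k := by
  constructor
  · rintro ⟨w, rfl⟩
    rw [famEll_apply]
    exact w.2
  · intro h
    have hc := mem_closure_of_mem_famN X j U2 pt h (famI_not_mem X j U2 pt hinj ζ)
    rw [← range_ptSubι] at hc
    obtain ⟨w0, hw0⟩ := hc
    have hw0W : w0 ∈ famW X j U2 pt k := by
      show (X.ptSubι (pt k).1) w0 ∈ famN X j U2 pt k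
      rw [hw0]; exact h
    refine ⟨⟨w0, hw0W⟩, ?_⟩
    apply (famI X j U2 pt hinj).isClosedEmbedding.injective
    apply Subtype.ext
    rw [famEll_apply]
    exact hw0

theorem isOpen_range_famEll (k : κ) : IsOpen (Set.range (famEll X j U2 pt hinj k)) := by
  have : Set.range (famEll X j U2 pt hinj k) =
      (famI X j U2 pt hinj ≫ (famUs X j U2 pt).ι) ⁻¹' (famN X j U2 pt k : Set X.scheme) := by
    ext ζ
    rw [mem_range_famEll]
    rfl
  rw [this]
  exact (famN X j U2 pt k).isOpen.preimage (famI X j U2 pt hinj ≫ (famUs X j U2 pt).ι).continuous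

instance : IsReduced (famZ X j U2 pt hinj).scheme :=
  isReduced_vanishingIdeal_subscheme _

theorem isOpenImmersion_famEll (k : κ) : IsOpenImmersion (famEll X j U2 pt hinj k) :=
  isOpenImmersion_of_isOpen_range _ (isOpen_range_famEll X j U2 pt hinj k)

end pack2

section pack3

variable (X : Obj V) (j : ℕ) (U2 : Idx X (ContainsFj X (j + 1))) {κ : Type u} [Fintype κ]
  (pt : κ → X.cdPt (j + 1)) (hinj : Function.Injective pt)

theorem pdim_pt (x : X.cdPt (j + 1)) :
    (WeilCoh.pdim X.scheme x.1 : ℤ) = (WeilCoh.dim X.scheme : ℤ) - ((j : ℤ) + 1) := by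
  have h1 := codim_cast X x.1
  rw [x.2] at h1
  push_cast at h1
  linarith

theorem dim_famZ (k : κ) : WeilCoh.dim (famZ X j U2 pt hinj).scheme =
    WeilCoh.pdim X.scheme (pt k).1 := by
  apply le_antisymm
  · have hemb : IsEmbedding (famI X j U2 pt hinj ≫ (famUs X j U2 pt).ι) :=
      (famUs X j U2 pt).ι.isEmbedding.comp (famI X j U2 pt hinj).isEmbedding
    rw [dim_eq_sdim_range _ hemb]
    have hC : IsClosed ((famU0 X j U2 pt : Set X.scheme)ᶜ) :=
      (famU0 X j U2 pt).isOpen.isClosed_compl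
    have hCne : ((famU0 X j U2 pt : Set X.scheme)ᶜ).Nonempty :=
      ⟨(pt k).1, not_mem_famU0_of_mem_closure X j U2 pt (k := k) (subset_closure rfl)⟩
    have hsub : Set.range (famI X j U2 pt hinj ≫ (famUs X j U2 pt).ι) ⊆
        (famU0 X j U2 pt : Set X.scheme)ᶜ := by
      rintro _ ⟨ζ, rfl⟩
      exact famI_not_mem X j U2 pt hinj ζ
    refine (sdim_mono X hsub).trans ?_
    obtain ⟨z, hzC, hz⟩ := exists_mem_ht_eq_tkd hC hCne (tkd_set_lt_top X _)
    have h1 : sdim ((famU0 X j U2 pt : Set X.scheme)ᶜ) = WeilCoh.pdim X.scheme z := by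
      rw [pdim_eq_ht]
      exact natDim_of_tkd_eq hz.symm
    rw [h1]
    have hzc : j + 1 ≤ WeilCoh.codim X.scheme z := by
      by_contra hlt
      exact hzC (containsFj_famU0 X j U2 pt z (by omega))
    have e1 := codim_cast X z
    have e2 := pdim_pt X j (pt k)
    have e3 := pdim_le_dim X z
    omega
  · rw [← dim_ptOpen X (pt k).1 (famW X j U2 pt k) (famW_nonempty X j U2 pt hinj k),
      dim_eq_sdim_range (famEll X j U2 pt hinj k) (famEll X j U2 pt hinj k).isEmbedding]
    exact sdim_le_dim (famZ X j U2 pt hinj) _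

/-- the piece as a morphism of objects into the reduced complement. -/
noncomputable def famG (k : κ) :
    (X.ptSub (pt k).1).res (famW X j U2 pt k) ⟶ famZ X j U2 pt hinj :=
  ⟨famEll X j U2 pt hinj k, isOpenImmersion_famEll X j U2 pt hinj k,
    (dim_ptOpen X (pt k).1 (famW X j U2 pt k) (famW_nonempty X j U2 pt hinj k)).trans
      (dim_famZ X j U2 pt hinj k).symm⟩

instance (k : κ) : IsClosedImmersion (famG X j U2 pt hinj k).hom :=
  inferInstanceAs (IsClosedImmersion (famEll X j U2 pt hinj k))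

theorem famG_disj (k l : κ) (h : k ≠ l) :
    Disjoint (Set.range (famG X j U2 pt hinj k).hom) (Set.range (famG X j U2 pt hinj l).hom) := by
  rw [Set.disjoint_left]
  intro ζ hk hl
  have hk' := (mem_range_famEll X j U2 pt hinj k ζ).mp hk
  have hl' := (mem_range_famEll X j U2 pt hinj l ζ).mp hl
  have hc := mem_closure_of_mem_famN X j U2 pt hk' (famI_not_mem X j U2 pt hinj ζ)
  exact ((mem_famN X j U2 pt).mp hl').2 k h hc

theorem famG_cov (ζ : (famZ X j U2 pt hinj).scheme) :
    ∃ k, ζ ∈ Set.range (famG X j U2 pt hinj k).hom := by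
  obtain ⟨k, hk⟩ := exists_mem_famN X j U2 pt (famI X j U2 pt hinj ζ).2
    (famI_not_mem X j U2 pt hinj ζ)
  exact ⟨k, (mem_range_famEll X j U2 pt hinj k ζ).mpr hk⟩

theorem famD_codim (k : κ) : (famD X j U2 pt hinj).codim = (j : ℤ) + 1 := by
  show relCodim (famZ X j U2 pt hinj).scheme
    ((famUs X j U2 pt : X.scheme.Opens) : Scheme.{u}) = _
  unfold relCodim
  rw [dim_famZ X j U2 pt hinj k, dim_famUs X j U2 pt hinj, pdim_pt]
  ring

include hinj in
theorem famLc_relCodim (k : κ) :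
    relCodim ((X.ptSub (pt k).1).res (famW X j U2 pt k)).scheme
      (X.res (famUs X j U2 pt)).scheme = (j : ℤ) + 1 := by
  show relCodim ((famW X j U2 pt k : (X.ptSub (pt k).1).scheme.Opens) : Scheme.{u})
    ((famUs X j U2 pt : X.scheme.Opens) : Scheme.{u}) = _
  unfold relCodim
  rw [dim_ptOpen X (pt k).1 _ (famW_nonempty X j U2 pt hinj k), dim_famUs X j U2 pt hinj,
    pdim_pt]
  ring

variable (T : PreTheory V R A)

/-- the residue of a class on the open part at the `k`-th point. -/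
theorem fam_res (Q : T.ResData X j) (k : κ) (M : A.Cat) (i n i' n' : ℤ)
    (hi : i' = i + 1 - 2 * ((j : ℤ) + 1)) (hn : n' = n - ((j : ℤ) + 1))
    (hiD : i' = i + 1 - 2 * (famD X j U2 pt hinj).codim)
    (hnD : n' = n - (famD X j U2 pt hinj).codim)
    (a : T.gp (X.res (famU0 X j U2 pt)) M i n) :
    (Q.cpt (pt k) M i n i' n' hi hn).hom (((T.fjι X j i n (famU0Idx X j U2 pt)).app M).hom a) =
      ((T.ptι X (pt k).1 i' n' (famWIdx X j U2 pt hinj k)).app M).hom
        ((T.pull (famG X j U2 pt hinj k) M i' n').hom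
          ((T.res (famD X j U2 pt hinj) M i n i' n' hiD hnD).hom a)) := by
  have := Q.cpt_spec (pt k) M i n i' n' hi hn
    (X.resι (famUs X j U2 pt) (dim_famUs X j U2 pt hinj)) (famD X j U2 pt hinj)
    (famWIdx X j U2 pt hinj k) (famG X j U2 pt hinj k) (by
      show famEll X j U2 pt hinj k ≫ famI X j U2 pt hinj ≫ (famUs X j U2 pt).ι = _
      rw [← Category.assoc, famEll_fac]
      exact famLc_fac X j U2 pt k)
    (famU0Idx X j U2 pt) (𝟙 _) (by
      show (𝟙 _) ≫ X.scheme.homOfLE (famU0_le X j U2 pt) ≫ (famUs X j U2 pt).ι = _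
      rw [Category.id_comp, Scheme.homOfLE_ι]) hiD hnD
  erw [pull_id T, Category.id_comp] at this
  exact congrArg (fun φ => φ.hom a) this

/-- the push-forward component at the `k`-th point on a class of the piece. -/
theorem fam_push (P : T.PushData X (j + 1)) (k : κ) (M : A.Cat) (i' n' i1 n1 : ℤ)
    (hi2 : i1 = i' + 2 * ((j + 1 : ℕ) : ℤ)) (hn2 : n1 = n' + ((j + 1 : ℕ) : ℤ))
    (hiZ : i1 = i' + 2 * relCodim (famZ X j U2 pt hinj).scheme (X.res (famUs X j U2 pt)).scheme)
    (hnZ : n1 = n' + relCodim (famZ X j U2 pt hinj).scheme (X.res (famUs X j U2 pt)).scheme)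
    (β : T.gp ((X.ptSub (pt k).1).res (famW X j U2 pt k)) M i' n') :
    (P.cpt (pt k) M i' n' i1 n1 hi2 hn2).hom
        (((T.ptι X (pt k).1 i' n' (famWIdx X j U2 pt hinj k)).app M).hom β) =
      ((T.fjι X (j + 1) i1 n1 (famUsIdx X j U2 pt hinj)).app M).hom
        ((T.push (famI X j U2 pt hinj) M i' n' i1 n1 hiZ hnZ).hom
          ((T.push (famG X j U2 pt hinj k).hom M i' n' i' n'
            (family_hi (famZ X j U2 pt hinj) _ (famG X j U2 pt hinj) k i')
            (family_hn (famZ X j U2 pt hinj) _ (famG X j U2 pt hinj) k n')).hom β)) := by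
  have hrel := famLc_relCodim X j U2 pt hinj k
  have hi3 : i1 = i' + 2 * relCodim ((X.ptSub (pt k).1).res (famW X j U2 pt k)).scheme
      (X.res (famUs X j U2 pt)).scheme := by rw [hrel]; push_cast at hi2; exact hi2
  have hn3 : n1 = n' + relCodim ((X.ptSub (pt k).1).res (famW X j U2 pt k)).scheme
      (X.res (famUs X j U2 pt)).scheme := by rw [hrel]; push_cast at hn2; exact hn2
  have hspec := P.cpt_spec (pt k) M i' n' i1 n1 hi2 hn2 (famUsIdx X j U2 pt hinj)
    (famWIdx X j U2 pt hinj k) (famLc X j U2 pt k) (famLc_fac X j U2 pt k) hi3 hn3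
  have h1 := comp_elem hspec β
  haveI : IsProper (famEll X j U2 pt hinj k ≫ famI X j U2 pt hinj) := by
    rw [famEll_fac]; infer_instance
  have hc := T.push_comp (famEll X j U2 pt hinj k) (famI X j U2 pt hinj) M i' n' i' n' i1 n1
    (family_hi (famZ X j U2 pt hinj) _ (famG X j U2 pt hinj) k i')
    (family_hn (famZ X j U2 pt hinj) _ (famG X j U2 pt hinj) k n') hiZ hnZ hi3 hn3
  have hcg := push_congr T (famEll_fac X j U2 pt hinj k) M i' n' i1 n1 hi3 hn3
  rw [← hcg, ← hc] at h1
  exact h1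

end pack3

end Groth.Agent.Helper8.BMPack
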