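import Groth.Agent.Helper8.BMNdA
import Groth.Agent.Helper8.BMPack
import Mathlib

set_option autoImplicit false
universe u
open CategoryTheory AlgebraicGeometry Opposite Limits TopologicalSpace Topology
open BMCoh
open Groth.Agent.Helper8.BMTop Groth.Agent.Helper8.BMSch Groth.Agent.Helper8.BMColim
open Groth.Agent.Helper8.BMBasic Groth.Agent.Helper8.BMPushU Groth.Agent.Helper8.BMAtt
open Groth.Agent.Helper8.BMEx3 Groth.Agent.Helper8.BMEx1 Groth.Agent.Helper8.BMBij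
open Groth.Agent.Helper8.BMNeg Groth.Agent.Helper8.BMVan Groth.Agent.Helper8.BMGen
open Groth.Agent.Helper8.BMZero Groth.Agent.Helper8.BMFam Groth.Agent.Helper8.BMPtU

namespace Groth.Agent.Helper8.BMNdB

theorem nested_isPullback {X Y : Scheme.{u}} (f : X ⟶ Y) (W'' W' : Y.Opens) (hle : W'' ≤ W') :
    IsPullback (X.homOfLE (f.preimage_mono hle)) (f ∣_ W'') (f ∣_ W') (Y.homOfLE hle) := by
  have big := isPullback_morphismRestrict f W''
  have right := isPullback_morphismRestrict f W'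
  refine IsPullback.of_right (h₁₂ := (f ⁻¹ᵁ W').ι) (h₂₂ := W'.ι) (v₁₃ := f) ?_ ?_ right.flip
  · rw [Scheme.homOfLE_ι, Scheme.homOfLE_ι]
    exact big.flip
  · rw [← cancel_mono W'.ι]
    simp only [Category.assoc]
    rw [morphismRestrict_ι, Scheme.homOfLE_ι, Scheme.homOfLE_ι_assoc, morphismRestrict_ι]

variable {V : ObjectProperty Scheme.{u}} [IsConstructible V]

/-- the local situation around a point `x` downstairs for a finite morphism `φ`. -/
structure Setup (Y X : Obj V) where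
  φ : Y.scheme ⟶ X.scheme
  fin : IsFinite φ
  x : X.scheme
  U : X.scheme.Opens
  O : X.scheme.Opens
  j : ℕ
  j' : ℕ
  hxU : x ∉ U
  hxO : x ∈ O
  hO1 : ∀ z ∈ O, z ∉ U → z ∈ closure ({x} : Set X.scheme)
  hO2 : ∀ z' : Y.scheme, φ z' ∈ O → φ z' ∈ closure ({x} : Set X.scheme) →
    ∃ y : Y.scheme, φ y = x ∧ z' ∈ closure ({y} : Set Y.scheme)
  hO3 : ∀ y y' : Y.scheme, φ y = x → φ y' = x → y ≠ y' → ∀ z' : Y.scheme,
    z' ∈ closure ({y} : Set Y.scheme) → z' ∈ closure ({y'} : Set Y.scheme) → φ z' ∉ O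
  hUF : ContainsFj X j U
  hVF : ContainsFj Y j' (φ ⁻¹ᵁ U)
  hxc : WeilCoh.codim X.scheme x = j + 1
  hyc : ∀ y : Y.scheme, φ y = x → WeilCoh.codim Y.scheme y = j' + 1
  hδ : (WeilCoh.dim X.scheme : ℤ) - (WeilCoh.dim Y.scheme : ℤ) = (j : ℤ) - (j' : ℤ)
  y₀ : Y.scheme
  hy₀ : φ y₀ = x

namespace Setup

variable {Y X : Obj V} (S : Setup Y X)

instance : IsFinite S.φ := S.fin

/-- the fibre. -/
abbrev κ : Type u := {y : Y.scheme // S.φ y = S.x}

noncomputable instance : Fintype S.κ :=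
  (S.φ.finite_preimage_singleton S.x).fintype

instance : Nonempty S.κ := ⟨⟨S.y₀, S.hy₀⟩⟩

theorem hUd : WeilCoh.dim (S.U : Scheme.{u}) = WeilCoh.dim X.scheme :=
  dim_of_containsFj X S.j S.U S.hUF

theorem hVd : WeilCoh.dim ((S.φ ⁻¹ᵁ S.U : Y.scheme.Opens) : Scheme.{u}) = WeilCoh.dim Y.scheme :=
  dim_of_containsFj Y S.j' _ S.hVF

/-- the open upstairs. -/
abbrev V1 : Y.scheme.Opens := S.φ ⁻¹ᵁ S.U

/-- the total open upstairs. -/
abbrev V2 : Y.scheme.Opens := S.φ ⁻¹ᵁ (S.U ⊔ S.O)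

theorem V1_le : S.V1 ≤ S.V2 := S.φ.preimage_mono le_sup_left

theorem dim_V1_V2 : WeilCoh.dim (S.V1 : Scheme.{u}) = WeilCoh.dim (S.V2 : Scheme.{u}) := by
  apply le_antisymm
  · rw [dim_opens, dim_opens]; exact sdim_mono Y S.V1_le
  · rw [S.hVd, dim_opens]; exact sdim_le_dim Y _

theorem dim_V2 : WeilCoh.dim (S.V2 : Scheme.{u}) = WeilCoh.dim Y.scheme :=
  S.dim_V1_V2.symm.trans S.hVd

/-- the inclusion of the open part upstairs. -/
noncomputable abbrev jV : Y.res S.V1 ⟶ Y.res S.V2 := Y.resLE S.V1_le S.dim_V1_V2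

/-- the closed immersion of the closed part downstairs. -/
noncomputable def iX : ((X.ptSub S.x).res (attW X S.x S.O)).scheme ⟶
    (X.res (S.U ⊔ S.O)).scheme :=
  lcLift X (X.ptSub S.x) (X.ptSubι S.x) (attW X S.x S.O) S.U (S.U ⊔ S.O)
    (att_hY X S.x S.U S.O S.hO1)

instance : IsClosedImmersion S.iX :=
  isClosedImmersion_lcLift X (X.ptSub S.x) (X.ptSubι S.x) (attW X S.x S.O) S.U (S.U ⊔ S.O)
    (att_hY X S.x S.U S.O S.hO1) (att_hdisj X S.x S.U S.hxU)

/-- the decomposition downstairs. -/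
noncomputable abbrev DX : Decomp (X.res (S.U ⊔ S.O)) :=
  ⟨(X.ptSub S.x).res (attW X S.x S.O), X.res S.U, S.iX, inferInstance,
    X.resLE le_sup_left (att_hdim X S.U S.O S.hUd),
    (attD X S.x S.U S.O S.hxU S.hO1 S.hUd).range_eq⟩

theorem DX_eq : S.DX = attD X S.x S.U S.O S.hxU S.hO1 S.hUd := rfl

theorem DX_i : S.DX.i = S.iX := rfl

@[reassoc]
theorem iX_fac : S.iX ≫ (S.U ⊔ S.O : X.scheme.Opens).ι = (attW X S.x S.O).ι ≫ X.ptSubι S.x :=
  lcLift_fac X (X.ptSub S.x) (X.ptSubι S.x) (attW X S.x S.O) S.U (S.U ⊔ S.O)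
    (att_hY X S.x S.U S.O S.hO1)

/-- the restriction of `φ` over the total open. -/
noncomputable abbrev f2 : (Y.res S.V2).scheme ⟶ (X.res (S.U ⊔ S.O)).scheme := S.φ ∣_ (S.U ⊔ S.O)

theorem f2_apply (u : (Y.res S.V2).scheme) : (S.f2 u).1 = S.φ u.1 :=
  morphismRestrict_base_coe S.φ (S.U ⊔ S.O) u

/-- points of the total open: image in `U` or in `O`. -/
theorem mem_V2 (z : Y.scheme) : z ∈ S.V2 ↔ S.φ z ∈ S.U ∨ S.φ z ∈ S.O := Iff.rfl

theorem not_mem_U_of_mem_closure {z : X.scheme} (hz : z ∈ closure ({S.x} : Set X.scheme)) :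
    z ∉ S.U := fun h =>
  Set.disjoint_left.mp (disjoint_closure_of_not_mem S.U S.hxU) h hz

theorem map_mem_closure {y z : Y.scheme} (hy : S.φ y = S.x)
    (hz : z ∈ closure ({y} : Set Y.scheme)) : S.φ z ∈ closure ({S.x} : Set X.scheme) := by
  have h1 : y ⤳ z := specializes_iff_mem_closure.mpr hz
  have h2 := h1.map S.φ.continuous
  rw [hy] at h2
  exact specializes_iff_mem_closure.mp h2

theorem range_DXi : Set.range S.iX = (Set.range S.DX.j.hom)ᶜ := by
  rw [S.DX.range_eq, compl_compl]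

theorem mem_range_DXj (v : (X.res (S.U ⊔ S.O)).scheme) :
    v ∈ Set.range S.DX.j.hom ↔ v.1 ∈ S.U :=
  mem_range_homOfLE (Y := X.scheme) (le_sup_left : S.U ≤ S.U ⊔ S.O) v

theorem mem_range_jV (u : (Y.res S.V2).scheme) :
    u ∈ Set.range S.jV.hom ↔ u.1 ∈ S.V1 :=
  mem_range_homOfLE (Y := Y.scheme) S.V1_le u

/-- the non-reduced preimage of the closed part, as an object. -/
noncomputable abbrev Znr : Obj V :=
  ⟨pullback S.f2 S.iX,
    IsConstructible.of_isClosedImmersion (pullback.fst S.f2 S.iX) (Y.res S.V2).mem⟩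

theorem range_fst : Set.range (pullback.fst S.f2 S.iX) = (Set.range S.jV.hom)ᶜ := by
  rw [Scheme.Pullback.range_fst, S.range_DXi]
  ext u
  simp only [Set.mem_preimage, Set.mem_compl_iff]
  rw [S.mem_range_DXj, S.mem_range_jV, S.f2_apply]
  rfl

/-- the decomposition upstairs with the scheme-theoretic preimage as closed part. -/
noncomputable abbrev Dnr : Decomp (Y.res S.V2) :=
  ⟨S.Znr, Y.res S.V1, pullback.fst S.f2 S.iX, inferInstance, S.jV, by
    rw [S.range_fst, compl_compl]⟩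

/-- the induced map of closed parts. -/
noncomputable abbrev fZ : S.Znr.scheme ⟶ ((X.ptSub S.x).res (attW X S.x S.O)).scheme :=
  pullback.snd S.f2 S.iX

theorem hpbZ : IsPullback S.Dnr.i S.fZ S.f2 S.DX.i := IsPullback.of_hasPullback S.f2 S.iX

theorem hpbU : IsPullback S.Dnr.j.hom (S.φ ∣_ S.U) S.f2 S.DX.j.hom :=
  nested_isPullback S.φ S.U (S.U ⊔ S.O) le_sup_left

/-- the reduced closed part upstairs. -/
noncomputable abbrev Zred : Obj V := complObj (Y.res S.V2) S.jV.hom.opensRange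

/-- its closed immersion. -/
noncomputable abbrev ired : S.Zred.scheme ⟶ (Y.res S.V2).scheme :=
  complι (Y.res S.V2) S.jV.hom.opensRange

/-- the decomposition upstairs with reduced closed part. -/
noncomputable abbrev Dred : Decomp (Y.res S.V2) :=
  ⟨S.Zred, Y.res S.V1, S.ired, inferInstance, S.jV, by rw [range_complι, compl_compl]; rfl⟩

theorem range_ired : Set.range S.ired = (Set.range S.jV.hom)ᶜ := by
  rw [range_complι]; rfl

theorem ker_le : (pullback.fst S.f2 S.iX).ker ≤ S.ired.ker := by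
  rw [Scheme.IdealSheafData.ker_subschemeι,
    ← Scheme.IdealSheafData.le_support_iff_le_vanishingIdeal]
  intro u hu
  have h := Scheme.Hom.support_ker (pullback.fst S.f2 S.iX)
  have h2 : u ∈ ((pullback.fst S.f2 S.iX).ker.support : Set (Y.res S.V2).scheme) := by
    rw [h]
    apply subset_closure
    rw [S.range_fst]
    exact hu
  exact h2

/-- the reduction map. -/
noncomputable def kmap : S.Zred.scheme ⟶ S.Znr.scheme :=
  IsClosedImmersion.lift (pullback.fst S.f2 S.iX) S.ired S.ker_le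

@[reassoc]
theorem kmap_fac : S.kmap ≫ pullback.fst S.f2 S.iX = S.ired :=
  IsClosedImmersion.lift_fac _ _ _

instance : IsClosedImmersion S.kmap := by
  haveI : IsClosedImmersion (S.kmap ≫ pullback.fst S.f2 S.iX) := by
    rw [kmap_fac]; infer_instance
  exact IsClosedImmersion.of_comp S.kmap (pullback.fst S.f2 S.iX)

instance : AlgebraicGeometry.Surjective S.kmap := by
  constructor
  intro p
  have h1 : pullback.fst S.f2 S.iX p ∈ Set.range S.ired := by
    rw [S.range_ired, ← S.range_fst]; exact ⟨p, rfl⟩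
  obtain ⟨ζ, hζ⟩ := h1
  refine ⟨ζ, ?_⟩
  apply (pullback.fst S.f2 S.iX).isClosedEmbedding.injective
  rw [← hζ, ← Scheme.Hom.comp_apply, kmap_fac]


/-! ### the pieces -/

theorem map_ired_not_mem (ζ : S.Zred.scheme) : S.φ (S.ired ζ).1 ∉ S.U := by
  intro h
  have h1 : S.ired ζ ∈ Set.range S.ired := ⟨ζ, rfl⟩
  rw [S.range_ired] at h1
  exact h1 ((S.mem_range_jV _).mpr h)

theorem map_ired_mem_O (ζ : S.Zred.scheme) : S.φ (S.ired ζ).1 ∈ S.O := by
  have h := (S.ired ζ).2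
  rcases (S.mem_V2 _).mp h with h1 | h1
  · exact absurd h1 (S.map_ired_not_mem ζ)
  · exact h1

theorem map_ired_mem_closure (ζ : S.Zred.scheme) :
    S.φ (S.ired ζ).1 ∈ closure ({S.x} : Set X.scheme) :=
  S.hO1 _ (S.map_ired_mem_O ζ) (S.map_ired_not_mem ζ)

/-- the piece of the closure of a point of the fibre. -/
noncomputable abbrev Wy (y : S.κ) : (Y.ptSub y.1).scheme.Opens := attW Y y.1 (S.φ ⁻¹ᵁ S.O)

theorem Wy_nonempty (y : S.κ) :
    ((S.Wy y : (Y.ptSub y.1).scheme.Opens) : Set (Y.ptSub y.1).scheme).Nonempty :=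
  attW_nonempty Y y.1 _ (by show S.φ y.1 ∈ S.O; rw [y.2]; exact S.hxO)

/-- its index. -/
noncomputable abbrev WyIdx (y : S.κ) : ptIdx Y y.1 :=
  ⟨S.Wy y, S.Wy_nonempty y,
    IsConstructible.dim_open (Y.ptSub y.1).mem inferInstance _ (S.Wy_nonempty y)⟩

theorem mem_O_of_mem_closure (y : S.κ) {z : Y.scheme} (hz : z ∈ S.V2)
    (hzc : z ∈ closure ({y.1} : Set Y.scheme)) : S.φ z ∈ S.O := by
  rcases (S.mem_V2 _).mp hz with h1 | h1
  · exact absurd h1 (S.not_mem_U_of_mem_closure (S.map_mem_closure y.2 hzc))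
  · exact h1

theorem hYy (y : S.κ) : ((S.V2 : Y.scheme.Opens) : Set Y.scheme) =
    ((outOpen (Y.ptSubι y.1) ⊓ S.V2 : Y.scheme.Opens) : Set Y.scheme) ∪
      (Y.ptSubι y.1) '' ((S.Wy y : (Y.ptSub y.1).scheme.Opens) : Set (Y.ptSub y.1).scheme) := by
  ext z
  constructor
  · intro hz
    by_cases hzr : z ∈ Set.range (Y.ptSubι y.1)
    · right
      obtain ⟨w, rfl⟩ := hzr
      refine ⟨w, ?_, rfl⟩
      show S.φ ((Y.ptSubι y.1) w) ∈ S.O
      apply S.mem_O_of_mem_closure y hz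
      rw [← range_ptSubι]; exact ⟨w, rfl⟩
    · left; exact ⟨hzr, hz⟩
  · rintro (h | ⟨w, hw, rfl⟩)
    · exact h.2
    · exact Or.inr hw

/-- the closed immersion of the piece into the total open. -/
noncomputable def lcy (y : S.κ) : ((Y.ptSub y.1).res (S.Wy y)).scheme ⟶ (Y.res S.V2).scheme :=
  lcLift Y (Y.ptSub y.1) (Y.ptSubι y.1) (S.Wy y) (outOpen (Y.ptSubι y.1) ⊓ S.V2) S.V2 (S.hYy y)

instance (y : S.κ) : IsClosedImmersion (S.lcy y) :=
  isClosedImmersion_lcLift Y (Y.ptSub y.1) (Y.ptSubι y.1) (S.Wy y) _ _ (S.hYy y)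
    (piece_disj Y y.1 S.V2)

@[reassoc]
theorem lcy_fac (y : S.κ) : S.lcy y ≫ S.V2.ι = (S.Wy y).ι ≫ Y.ptSubι y.1 :=
  lcLift_fac Y (Y.ptSub y.1) (Y.ptSubι y.1) (S.Wy y) _ _ (S.hYy y)

theorem lcy_apply (y : S.κ) (w : S.Wy y) : (S.lcy y w).1 = (Y.ptSubι y.1) w.1 :=
  lcLift_apply Y (Y.ptSub y.1) (Y.ptSubι y.1) (S.Wy y) _ _ (S.hYy y) w

theorem lcy_mem_closure (y : S.κ) (w : S.Wy y) :
    (S.lcy y w).1 ∈ closure ({y.1} : Set Y.scheme) := by
  rw [lcy_apply, ← range_ptSubι]; exact ⟨_, rfl⟩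

theorem ker_le_y (y : S.κ) : S.ired.ker ≤ (S.lcy y).ker := by
  rw [Scheme.IdealSheafData.ker_subschemeι, ker_eq_vanishingIdeal]
  apply Scheme.IdealSheafData.vanishingIdeal_antimono
  show closure (Set.range (S.lcy y)) ⊆
    (S.jV.hom.opensRange : Set (Y.res S.V2).scheme)ᶜ
  apply closure_minimal _ S.jV.hom.opensRange.isOpen.isClosed_compl
  rintro _ ⟨w, rfl⟩ h
  have h1 : (S.lcy y w).1 ∈ S.V1 := (S.mem_range_jV _).mp h
  exact S.not_mem_U_of_mem_closure (S.map_mem_closure y.2 (S.lcy_mem_closure y w)) h1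

/-- the piece inside the reduced closed part. -/
noncomputable def elly (y : S.κ) : ((Y.ptSub y.1).res (S.Wy y)).scheme ⟶ S.Zred.scheme :=
  IsClosedImmersion.lift S.ired (S.lcy y) (S.ker_le_y y)

@[reassoc]
theorem elly_fac (y : S.κ) : S.elly y ≫ S.ired = S.lcy y :=
  IsClosedImmersion.lift_fac _ _ _

instance (y : S.κ) : IsClosedImmersion (S.elly y) := by
  haveI : IsClosedImmersion (S.elly y ≫ S.ired) := by
    rw [elly_fac]; infer_instance
  exact IsClosedImmersion.of_comp (S.elly y) S.ired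

theorem elly_apply (y : S.κ) (w : S.Wy y) :
    (S.ired (S.elly y w)).1 = (Y.ptSubι y.1) w.1 := by
  rw [← S.lcy_apply y w, ← S.elly_fac y]
  rfl

theorem mem_range_elly (y : S.κ) (ζ : S.Zred.scheme) :
    ζ ∈ Set.range (S.elly y) ↔ (S.ired ζ).1 ∈ closure ({y.1} : Set Y.scheme) := by
  constructor
  · rintro ⟨w, rfl⟩
    rw [elly_apply, ← range_ptSubι]
    exact ⟨_, rfl⟩
  · intro h
    have hc := h
    rw [← range_ptSubι] at hc
    obtain ⟨w0, hw0⟩ := hc
    have hw0W : w0 ∈ S.Wy y := by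
      show S.φ ((Y.ptSubι y.1) w0) ∈ S.O
      rw [hw0]; exact S.map_ired_mem_O ζ
    refine ⟨⟨w0, hw0W⟩, ?_⟩
    apply S.ired.isClosedEmbedding.injective
    apply Subtype.ext
    rw [elly_apply]
    exact hw0

theorem elly_cov (ζ : S.Zred.scheme) : ∃ y : S.κ, ζ ∈ Set.range (S.elly y) := by
  obtain ⟨y, hy, hz⟩ := S.hO2 _ (S.map_ired_mem_O ζ) (S.map_ired_mem_closure ζ)
  exact ⟨⟨y, hy⟩, (S.mem_range_elly ⟨y, hy⟩ ζ).mpr hz⟩

theorem elly_disj (y y' : S.κ) (h : y ≠ y') :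
    Disjoint (Set.range (S.elly y)) (Set.range (S.elly y')) := by
  rw [Set.disjoint_left]
  intro ζ hk hl
  have hk' := (S.mem_range_elly y ζ).mp hk
  have hl' := (S.mem_range_elly y' ζ).mp hl
  exact S.hO3 y.1 y'.1 y.2 y'.2 (fun e => h (Subtype.ext e)) _ hk' hl' (S.map_ired_mem_O ζ)

theorem isOpen_range_elly (y : S.κ) : IsOpen (Set.range (S.elly y)) := by
  classical
  have : Set.range (S.elly y) = (⋃ y' : {y' : S.κ // y' ≠ y}, Set.range (S.elly y'.1))ᶜ := by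
    ext ζ
    simp only [Set.mem_compl_iff, Set.mem_iUnion, not_exists]
    constructor
    · intro hζ y' hy'
      exact Set.disjoint_left.mp (S.elly_disj y y'.1 (Ne.symm y'.2)) hζ hy'
    · intro hζ
      obtain ⟨y1, hy1⟩ := S.elly_cov ζ
      by_cases e : y1 = y
      · rw [← e]; exact hy1
      · exact absurd hy1 (hζ ⟨y1, e⟩)
  rw [this]
  haveI : Finite S.κ := Finite.of_fintype _
  haveI : Finite {y' : S.κ // y' ≠ y} := Subtype.finite
  have hcl : ∀ y' : {y' : S.κ // y' ≠ y}, IsClosed (Set.range (S.elly y'.1)) := fun y' =>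
    (S.elly y'.1).isClosedEmbedding.isClosed_range
  have h2 : IsClosed (⋃ y' : {y' : S.κ // y' ≠ y}, Set.range (S.elly y'.1)) :=
    isClosed_iUnion_of_finite hcl
  exact h2.isOpen_compl

instance : IsReduced S.Zred.scheme := isReduced_vanishingIdeal_subscheme _

theorem isOpenImmersion_elly (y : S.κ) : IsOpenImmersion (S.elly y) :=
  isOpenImmersion_of_isOpen_range _ (S.isOpen_range_elly y)


/-! ### dimensions -/

theorem pdim_x : (WeilCoh.pdim X.scheme S.x : ℤ) =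
    (WeilCoh.dim X.scheme : ℤ) - ((S.j : ℤ) + 1) := by
  have h1 := codim_cast X S.x
  rw [S.hxc] at h1
  push_cast at h1
  linarith

theorem pdim_y (y : S.κ) : (WeilCoh.pdim Y.scheme y.1 : ℤ) =
    (WeilCoh.dim Y.scheme : ℤ) - ((S.j' : ℤ) + 1) := by
  have h1 := codim_cast Y y.1
  rw [S.hyc y.1 y.2] at h1
  push_cast at h1
  linarith

theorem pdim_y_eq (y : S.κ) : WeilCoh.pdim Y.scheme y.1 = WeilCoh.pdim X.scheme S.x := by
  have h1 := S.pdim_x
  have h2 := S.pdim_y y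
  have h3 := S.hδ
  omega

theorem dim_Wy (y : S.κ) : WeilCoh.dim ((S.Wy y : (Y.ptSub y.1).scheme.Opens) : Scheme.{u}) =
    WeilCoh.pdim X.scheme S.x :=
  (dim_ptOpen Y y.1 (S.Wy y) (S.Wy_nonempty y)).trans (S.pdim_y_eq y)

theorem dim_Zred : WeilCoh.dim S.Zred.scheme = WeilCoh.pdim X.scheme S.x := by
  apply le_antisymm
  · have hemb : IsEmbedding (S.ired ≫ S.V2.ι) :=
      S.V2.ι.isEmbedding.comp S.ired.isEmbedding
    rw [dim_eq_sdim_range _ hemb]
    have hC : IsClosed ((S.V1 : Set Y.scheme)ᶜ) := S.V1.isOpen.isClosed_compl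
    have hCne : ((S.V1 : Set Y.scheme)ᶜ).Nonempty :=
      ⟨S.y₀, fun h => S.hxU (by have : S.φ S.y₀ ∈ S.U := h; rwa [S.hy₀] at this)⟩
    have hsub : Set.range (S.ired ≫ S.V2.ι) ⊆ (S.V1 : Set Y.scheme)ᶜ := by
      rintro _ ⟨ζ, rfl⟩
      exact S.map_ired_not_mem ζ
    refine (sdim_mono Y hsub).trans ?_
    obtain ⟨z, hzC, hz⟩ := exists_mem_ht_eq_tkd hC hCne (tkd_set_lt_top Y _)
    have h1 : sdim ((S.V1 : Set Y.scheme)ᶜ) = WeilCoh.pdim Y.scheme z := by
      rw [pdim_eq_ht]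
      exact natDim_of_tkd_eq hz.symm
    rw [h1]
    have hzc : S.j' + 1 ≤ WeilCoh.codim Y.scheme z := by
      by_contra hlt
      exact hzC (S.hVF z (by omega))
    have e1 := codim_cast Y z
    have e2 := S.pdim_y ⟨S.y₀, S.hy₀⟩
    have e3 := pdim_le_dim Y z
    have e4 := S.pdim_y_eq ⟨S.y₀, S.hy₀⟩
    omega
  · rw [← S.dim_Wy ⟨S.y₀, S.hy₀⟩,
      dim_eq_sdim_range (S.elly ⟨S.y₀, S.hy₀⟩) (S.elly ⟨S.y₀, S.hy₀⟩).isEmbedding]
    exact sdim_le_dim S.Zred _

theorem dim_Znr : WeilCoh.dim S.Znr.scheme = WeilCoh.pdim X.scheme S.x := by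
  rw [← S.dim_Zred, dim_eq_sdim_range (pullback.fst S.f2 S.iX)
    (pullback.fst S.f2 S.iX).isEmbedding,
    dim_eq_sdim_range S.ired S.ired.isEmbedding, S.range_fst, S.range_ired]

theorem dim_DXZ : WeilCoh.dim S.DX.Z.scheme = WeilCoh.pdim X.scheme S.x :=
  dim_ptOpen X S.x (attW X S.x S.O) (attW_nonempty X S.x S.O S.hxO)

theorem DX_codim : S.DX.codim = (S.j : ℤ) + 1 := by
  have h := attD_codim X S.x S.U S.O S.hxU S.hO1 S.hUd S.hxO
  rw [S.hxc] at h
  push_cast at h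
  exact h

theorem dim_UO : WeilCoh.dim ((S.U ⊔ S.O : X.scheme.Opens) : Scheme.{u}) = WeilCoh.dim X.scheme :=
  (att_hdim X S.U S.O S.hUd).symm.trans S.hUd

theorem Dred_codim : S.Dred.codim = (S.j' : ℤ) + 1 := by
  show relCodim S.Zred.scheme ((S.V2 : Y.scheme.Opens) : Scheme.{u}) = _
  unfold relCodim
  rw [S.dim_Zred, S.dim_V2]
  have h1 := S.pdim_x
  have h3 := S.hδ
  linarith

theorem Dnr_codim : S.Dnr.codim = (S.j' : ℤ) + 1 := by
  show relCodim S.Znr.scheme ((S.V2 : Y.scheme.Opens) : Scheme.{u}) = _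
  unfold relCodim
  rw [S.dim_Znr, S.dim_V2]
  have h1 := S.pdim_x
  have h3 := S.hδ
  linarith

theorem relCodim_fZ : relCodim S.Dnr.Z.scheme S.DX.Z.scheme = 0 := by
  show relCodim S.Znr.scheme S.DX.Z.scheme = 0
  unfold relCodim
  rw [S.dim_Znr, S.dim_DXZ]; ring

theorem relCodim_k : relCodim S.Zred.scheme S.Znr.scheme = 0 := by
  unfold relCodim
  rw [S.dim_Znr, S.dim_Zred]; ring

theorem relCodim_ψ : relCodim S.Zred.scheme S.DX.Z.scheme = 0 := by
  unfold relCodim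
  rw [S.dim_Zred, S.dim_DXZ]; ring

theorem relCodim_fU : relCodim (Y.res S.V1).scheme (X.res S.U).scheme = (S.j : ℤ) - (S.j' : ℤ) := by
  show relCodim ((S.V1 : Y.scheme.Opens) : Scheme.{u}) ((S.U : X.scheme.Opens) : Scheme.{u}) = _
  unfold relCodim
  rw [S.hUd, S.hVd]
  exact S.hδ

/-- the piece as a morphism of objects into the reduced closed part. -/
noncomputable def gy (y : S.κ) : (Y.ptSub y.1).res (S.Wy y) ⟶ S.Zred :=
  ⟨S.elly y, S.isOpenImmersion_elly y, (S.dim_Wy y).trans S.dim_Zred.symm⟩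

instance (y : S.κ) : IsClosedImmersion (S.gy y).hom :=
  inferInstanceAs (IsClosedImmersion (S.elly y))

theorem gy_disj (y y' : S.κ) (h : y ≠ y') :
    Disjoint (Set.range (S.gy y).hom) (Set.range (S.gy y').hom) := S.elly_disj y y' h

theorem gy_cov (ζ : S.Zred.scheme) : ∃ y : S.κ, ζ ∈ Set.range (S.gy y).hom := S.elly_cov ζ

/-! ### the maps to the closed part downstairs -/

/-- the reduced closed part upstairs maps to the closed part downstairs. -/
noncomputable abbrev ψ : S.Zred.scheme ⟶ ((X.ptSub S.x).res (attW X S.x S.O)).scheme :=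
  S.kmap ≫ S.fZ

/-- the piece maps to the piece of the closure of `x`. -/
noncomputable abbrev fy (y : S.κ) : ((Y.ptSub y.1).res (S.Wy y)).scheme ⟶
    ((X.ptSub S.x).res (attW X S.x S.O)).scheme := S.elly y ≫ S.ψ

theorem fy_fac (y : S.κ) : S.fy y ≫ (attW X S.x S.O).ι ≫ X.ptSubι S.x =
    (S.Wy y).ι ≫ Y.ptSubι y.1 ≫ S.φ := by
  have h1 : S.iX ≫ (S.U ⊔ S.O : X.scheme.Opens).ι = (attW X S.x S.O).ι ≫ X.ptSubι S.x :=
    S.iX_fac
  have h2 : pullback.fst S.f2 S.iX ≫ S.f2 = S.fZ ≫ S.iX := pullback.condition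
  have h3 : S.f2 ≫ (S.U ⊔ S.O : X.scheme.Opens).ι = S.V2.ι ≫ S.φ := morphismRestrict_ι _ _
  calc S.fy y ≫ (attW X S.x S.O).ι ≫ X.ptSubι S.x
      = S.elly y ≫ S.kmap ≫ S.fZ ≫ S.iX ≫ (S.U ⊔ S.O : X.scheme.Opens).ι := by
        rw [h1]; simp only [Category.assoc]
    _ = S.elly y ≫ S.kmap ≫ pullback.fst S.f2 S.iX ≫ S.f2 ≫
          (S.U ⊔ S.O : X.scheme.Opens).ι := by
        rw [← Category.assoc S.fZ, ← h2]; simp only [Category.assoc]
    _ = S.lcy y ≫ S.V2.ι ≫ S.φ := by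
        rw [h3, S.kmap_fac_assoc, S.elly_fac_assoc]
    _ = _ := by rw [S.lcy_fac_assoc]

theorem relCodim_fy (y : S.κ) : relCodim ((Y.ptSub y.1).res (S.Wy y)).scheme
    ((X.ptSub S.x).res (attW X S.x S.O)).scheme = 0 := by
  show relCodim ((S.Wy y : (Y.ptSub y.1).scheme.Opens) : Scheme.{u}) S.DX.Z.scheme = 0
  unfold relCodim
  rw [S.dim_Wy y, S.dim_DXZ]; ring

end Setup

end Groth.Agent.Helper8.BMNdB
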