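import Groth.Agent.Helper8.BMNdB
import Groth.Prelude.Def_BMCoh4
import Mathlib

set_option autoImplicit false
universe u
open CategoryTheory AlgebraicGeometry Opposite Limits TopologicalSpace Topology
open BMCoh
open Groth.Agent.Helper8.BMTop Groth.Agent.Helper8.BMSch Groth.Agent.Helper8.BMColim
open Groth.Agent.Helper8.BMBasic Groth.Agent.Helper8.BMPushU Groth.Agent.Helper8.BMAtt
open Groth.Agent.Helper8.BMEx3 Groth.Agent.Helper8.BMEx1 Groth.Agent.Helper8.BMBij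
open Groth.Agent.Helper8.BMNeg Groth.Agent.Helper8.BMVan Groth.Agent.Helper8.BMGen
open Groth.Agent.Helper8.BMZero Groth.Agent.Helper8.BMFam Groth.Agent.Helper8.BMPtU
open Groth.Agent.Helper8.BMNdB

namespace Groth.Agent.Helper8.BMNdC

variable {V : ObjectProperty Scheme.{u}} [IsConstructible V] {R : Type u} [CommRing R]
  {A : Coefs R}

/-- compatibility of the residue maps with closed parts of the same support. -/
def HRed (T : PreTheory V R A) : Prop :=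
  ∀ (S : BMCoh.Obj V) (D D'' : BMCoh.Decomp S) (gU : D''.U ⟶ D.U)
    (k : D''.Z.scheme ⟶ D.Z.scheme) [IsClosedImmersion k] [AlgebraicGeometry.Surjective k],
    gU ≫ D.j = D''.j → k ≫ D.i = D''.i →
    ∀ (M : A.Cat) (i n i' n' : ℤ) (hi : i' = i + 1 - 2 * D.codim) (hn : n' = n - D.codim)
      (hi'' : i' = i + 1 - 2 * D''.codim) (hn'' : n' = n - D''.codim)
      (hk : i' = i' + 2 * BMCoh.relCodim D''.Z.scheme D.Z.scheme)
      (hk' : n' = n' + BMCoh.relCodim D''.Z.scheme D.Z.scheme),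
    T.pull gU M i n ≫ T.res D'' M i n i' n' hi'' hn'' ≫ T.push k M i' n' i' n' hk hk' =
      T.res D M i n i' n' hi hn

variable (T : PreTheory V R A) {Y X : Obj V} (S : Setup Y X)

/-- the index of the piece of the closure of `x`. -/
noncomputable abbrev WxIdx : ptIdx X S.x :=
  ⟨attW X S.x S.O, attW_nonempty X S.x S.O S.hxO,
    IsConstructible.dim_open (X.ptSub S.x).mem inferInstance _ (attW_nonempty X S.x S.O S.hxO)⟩

theorem main_local (hred : HRed T)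
    (Q : T.ResData X S.j) (Q' : T.ResData Y S.j')
    (F : ∀ y : S.κ, T.PtPush S.φ y.1 S.x)
    (M : A.Cat) (i n i₁ n₁ i₂ n₂ : ℤ)
    (hi₁ : i₁ = i + 2 * relCodim (Y.res S.V1).scheme (X.res S.U).scheme)
    (hn₁ : n₁ = n + relCodim (Y.res S.V1).scheme (X.res S.U).scheme)
    (hQi : i₂ = i₁ + 1 - 2 * ((S.j : ℤ) + 1)) (hQn : n₂ = n₁ - ((S.j : ℤ) + 1))
    (hQ'i : i₂ = i + 1 - 2 * ((S.j' : ℤ) + 1)) (hQ'n : n₂ = n - ((S.j' : ℤ) + 1))
    (c' : T.gp (Y.res S.V1) M i n) :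
    (Q.cpt ⟨S.x, S.hxc⟩ M i₁ n₁ i₂ n₂ hQi hQn).hom
        (((T.fjι X S.j i₁ n₁ ⟨S.U, S.hUF, S.hUd⟩).app M).hom
          ((T.push (X := Y.res S.V1) (Y := X.res S.U) (S.φ ∣_ S.U) M i n i₁ n₁ hi₁ hn₁).hom c')) =
      ∑ y : S.κ, ((F y).cpt M i₂ n₂).hom
        ((Q'.cpt ⟨y.1, S.hyc y.1 y.2⟩ M i n i₂ n₂ hQ'i hQ'n).hom
          (((T.fjι Y S.j' i n ⟨S.V1, S.hVF, S.hVd⟩).app M).hom c')) := by
  classical
  -- index equations
  have hiDX : i₂ = i₁ + 1 - 2 * S.DX.codim := by rw [S.DX_codim]; exact hQi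
  have hnDX : n₂ = n₁ - S.DX.codim := by rw [S.DX_codim]; exact hQn
  have hiDnr : i₂ = i + 1 - 2 * S.Dnr.codim := by rw [S.Dnr_codim]; exact hQ'i
  have hnDnr : n₂ = n - S.Dnr.codim := by rw [S.Dnr_codim]; exact hQ'n
  have hiDred : i₂ = i + 1 - 2 * S.Dred.codim := by rw [S.Dred_codim]; exact hQ'i
  have hnDred : n₂ = n - S.Dred.codim := by rw [S.Dred_codim]; exact hQ'n
  have hifZ : i₂ = i₂ + 2 * relCodim S.Dnr.Z.scheme S.DX.Z.scheme := by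
    rw [S.relCodim_fZ]; ring
  have hnfZ : n₂ = n₂ + relCodim S.Dnr.Z.scheme S.DX.Z.scheme := by
    rw [S.relCodim_fZ]; ring
  have hik : i₂ = i₂ + 2 * relCodim S.Dred.Z.scheme S.Dnr.Z.scheme := by
    show i₂ = i₂ + 2 * relCodim S.Zred.scheme S.Znr.scheme
    rw [S.relCodim_k]; ring
  have hnk : n₂ = n₂ + relCodim S.Dred.Z.scheme S.Dnr.Z.scheme := by
    show n₂ = n₂ + relCodim S.Zred.scheme S.Znr.scheme
    rw [S.relCodim_k]; ring
  have hiψ : i₂ = i₂ + 2 * relCodim S.Zred.scheme S.DX.Z.scheme := by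
    rw [S.relCodim_ψ]; ring
  have hnψ : n₂ = n₂ + relCodim S.Zred.scheme S.DX.Z.scheme := by
    rw [S.relCodim_ψ]; ring
  -- X side
  have hX := cpt_att T X S.j Q ⟨S.x, S.hxc⟩ M i₁ n₁ i₂ n₂ hQi hQn S.U S.O S.hUF S.hxU S.hxO
    S.hO1 S.hUd hiDX hnDX
    ((T.push (X := Y.res S.V1) (Y := X.res S.U) (S.φ ∣_ S.U) M i n i₁ n₁ hi₁ hn₁).hom c')
  rw [hX]
  -- res_push
  have hrp := T.res_push S.DX S.Dnr S.f2 S.fZ (S.φ ∣_ S.U) S.hpbZ S.hpbU M i n i₂ n₂ i₁ n₁ i₂ n₂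
    hiDnr hnDnr hi₁ hn₁ hifZ hnfZ hiDX hnDX
  have e1 := comp_elem hrp c'
  simp only [ModuleCat.hom_comp, LinearMap.comp_apply] at e1
  erw [← e1]
  -- hred
  have hrd := hred (Y.res S.V2) S.Dnr S.Dred (𝟙 _) S.kmap (Category.id_comp _) S.kmap_fac
    M i n i₂ n₂ hiDnr hnDnr hiDred hnDred hik hnk
  have e2 := comp_elem hrd c'
  simp only [ModuleCat.hom_comp, LinearMap.comp_apply] at e2
  erw [pull_id T] at e2
  simp only [ModuleCat.hom_id, LinearMap.id_apply] at e2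
  erw [← e2]
  set r := (T.res S.Dred M i n i₂ n₂ hiDred hnDred).hom c' with hr
  have hify : ∀ y : S.κ, i₂ = i₂ + 2 * relCodim ((Y.ptSub y.1).res (S.Wy y)).scheme
      ((X.ptSub S.x).res (attW X S.x S.O)).scheme := fun y => by rw [S.relCodim_fy y]; ring
  have hnfy : ∀ y : S.κ, n₂ = n₂ + relCodim ((Y.ptSub y.1).res (S.Wy y)).scheme
      ((X.ptSub S.x).res (attW X S.x S.O)).scheme := fun y => by rw [S.relCodim_fy y]; ring
  -- family sum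
  have hsum := family_sum T S.Zred (fun y : S.κ => (Y.ptSub y.1).res (S.Wy y)) S.gy S.gy_disj
    S.gy_cov M i₂ n₂ r
  have hψ : T.push S.kmap M i₂ n₂ i₂ n₂ hik hnk ≫ T.push S.fZ M i₂ n₂ i₂ n₂ hifZ hnfZ =
      T.push (X := S.Zred) (Y := S.DX.Z) S.ψ M i₂ n₂ i₂ n₂ hiψ hnψ :=
    T.push_comp (X := S.Zred) (Y := S.Znr) (Z := S.DX.Z) S.kmap S.fZ M i₂ n₂ i₂ n₂ i₂ n₂
      hik hnk hifZ hnfZ hiψ hnψ
  have e3 := comp_elem hψ r
  have hy : ∀ y : S.κ, T.push (S.gy y).hom M i₂ n₂ i₂ n₂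
      (family_hi S.Zred (fun y : S.κ => (Y.ptSub y.1).res (S.Wy y)) S.gy y i₂)
      (family_hn S.Zred (fun y : S.κ => (Y.ptSub y.1).res (S.Wy y)) S.gy y n₂) ≫
      T.push (X := S.Zred) (Y := S.DX.Z) S.ψ M i₂ n₂ i₂ n₂ hiψ hnψ =
      T.push (X := (Y.ptSub y.1).res (S.Wy y)) (Y := (X.ptSub S.x).res (attW X S.x S.O))
        (S.fy y) M i₂ n₂ i₂ n₂ (hify y) (hnfy y) := fun y =>
    T.push_comp (X := (Y.ptSub y.1).res (S.Wy y)) (Y := S.Zred) (Z := S.DX.Z) (S.gy y).hom S.ψ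
      M i₂ n₂ i₂ n₂ i₂ n₂ _ _ hiψ hnψ (hify y) (hnfy y)
  have L1 : (T.push (X := S.Zred) (Y := S.DX.Z) S.ψ M i₂ n₂ i₂ n₂ hiψ hnψ).hom r =
      ∑ y : S.κ, (T.push (X := (Y.ptSub y.1).res (S.Wy y))
        (Y := (X.ptSub S.x).res (attW X S.x S.O)) (S.fy y) M i₂ n₂ i₂ n₂ (hify y) (hnfy y)).hom
        ((T.pull (S.gy y) M i₂ n₂).hom r) := by
    conv_lhs => rw [hsum]
    rw [map_sum]
    apply Finset.sum_congr rfl
    intro y _
    exact comp_elem (hy y) _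
  erw [e3, L1, map_sum]
  apply Finset.sum_congr rfl
  intro y _
  -- Y side
  have hQ' := Q'.cpt_spec ⟨y.1, S.hyc y.1 y.2⟩ M i n i₂ n₂ hQ'i hQ'n (Y.resι S.V2 S.dim_V2)
    S.Dred (S.WyIdx y) (S.gy y) (by
      show S.elly y ≫ S.ired ≫ S.V2.ι = (S.Wy y).ι ≫ Y.ptSubι y.1
      rw [S.elly_fac_assoc, S.lcy_fac])
    ⟨S.V1, S.hVF, S.hVd⟩ (𝟙 _) (by
      show (𝟙 _) ≫ Y.scheme.homOfLE S.V1_le ≫ S.V2.ι = S.V1.ι
      rw [Category.id_comp, Scheme.homOfLE_ι]) hiDred hnDred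
  erw [pull_id T, Category.id_comp] at hQ'
  have e4 := congrArg (fun φ => φ.hom c') hQ'
  simp only [ModuleCat.hom_comp, LinearMap.comp_apply] at e4
  have hF := (F y).cpt_spec M i₂ n₂ (S.WyIdx y) (WxIdx S) (S.fy y) (S.fy_fac y) (hify y) (hnfy y)
  have e5 := comp_elem hF ((T.pull (S.gy y) M i₂ n₂).hom r)
  simp only [ModuleCat.hom_comp, LinearMap.comp_apply] at e5
  erw [e4]
  exact e5.symm

end Groth.Agent.Helper8.BMNdC
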