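import Groth.Agent.Helper8.BMNdC
import Groth.Agent.Helper8.BMEx2
import Mathlib

set_option autoImplicit false
universe u
open CategoryTheory AlgebraicGeometry Opposite Limits TopologicalSpace Topology
open BMCoh
open Groth.Agent.Helper8.BMTop Groth.Agent.Helper8.BMSch Groth.Agent.Helper8.BMColim
open Groth.Agent.Helper8.BMBasic Groth.Agent.Helper8.BMPushU Groth.Agent.Helper8.BMAtt
open Groth.Agent.Helper8.BMEx3 Groth.Agent.Helper8.BMEx1 Groth.Agent.Helper8.BMBij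
open Groth.Agent.Helper8.BMNeg Groth.Agent.Helper8.BMVan Groth.Agent.Helper8.BMGen
open Groth.Agent.Helper8.BMZero Groth.Agent.Helper8.BMFam Groth.Agent.Helper8.BMPtU
open Groth.Agent.Helper8.BMNdA Groth.Agent.Helper8.BMNdB Groth.Agent.Helper8.BMNdC
open Groth.Agent.Helper8.BMEx2

namespace Groth.Agent.Helper8.BMNdD

variable {V : ObjectProperty Scheme.{u}} [IsConstructible V] {R : Type u} [CommRing R]
  {A : Coefs R} (T : PreTheory V R A)

section famTot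

variable {Y X : Obj V} {φ : Y.scheme ⟶ X.scheme} {j k : ℕ}

/-- the summand of the component at `x` of `famTot`. -/
noncomputable def famTerm [DecidableEq (X.cdPt k)] (t : Y.cdPt j → X.cdPt k)
    (F : ∀ y : Y.cdPt j, T.PtPush φ y.1 (t y).1) (M : A.Cat) (i n : ℤ)
    (σ : T.ptSum Y j M i n) (x : X.cdPt k) (y : Y.cdPt j) : T.ptGp X x.1 M i n :=
  if h : t y = x then
    (Eq.recOn h (((F y).cpt M i n).hom (σ y)) : T.ptGp X x.1 M i n) else 0

/-- the component at `x` of `famTot`. -/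
theorem famTot_apply [DecidableEq (Y.cdPt j)] [DecidableEq (X.cdPt k)]
    (t : Y.cdPt j → X.cdPt k) (F : ∀ y : Y.cdPt j, T.PtPush φ y.1 (t y).1)
    (M : A.Cat) (i n : ℤ) (σ : T.ptSum Y j M i n) (x : X.cdPt k) (s : Finset (Y.cdPt j))
    (hs : ∀ y, y ∉ s → σ y = 0) :
    (PreTheory.PtPush.famTot t F M i n).hom σ x = ∑ y ∈ s, famTerm T t F M i n σ x y := by
  haveI : ∀ (z : Y.cdPt j) (v : T.ptGp Y z.1 M i n), Decidable (v ≠ 0) := fun _ _ =>
    Classical.propDecidable _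
  have h1 : σ = ∑ y ∈ s, DirectSum.lof R (Y.cdPt j) (fun z : Y.cdPt j => T.ptGp Y z.1 M i n) y
      (σ y) := by
    have h2 := DirectSum.sum_support_of (β := fun z : Y.cdPt j => T.ptGp Y z.1 M i n) σ
    conv_lhs => rw [← h2]
    apply Finset.sum_subset
    · intro y hy
      by_contra hyF
      exact (DFinsupp.mem_support_iff.mp hy) (hs y hyF)
    · intro y _ hy
      have : σ y = 0 := by
        by_contra h
        exact hy (DFinsupp.mem_support_iff.mpr h)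
      rw [this]; simp
  conv_lhs => rw [h1]
  rw [map_sum]
  have h3 : ∀ y ∈ s, (PreTheory.PtPush.famTot t F M i n).hom
      (DirectSum.lof R (Y.cdPt j) (fun z : Y.cdPt j => T.ptGp Y z.1 M i n) y (σ y)) =
      DirectSum.lof R (X.cdPt k) (fun z : X.cdPt k => T.ptGp X z.1 M i n) (t y)
        (((F y).cpt M i n).hom (σ y)) := fun y _ =>
    PreTheory.PtPush.famTot_lof t F M i n y (σ y)
  rw [Finset.sum_congr rfl h3]
  erw [DFinsupp.finset_sum_apply]
  apply Finset.sum_congr rfl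
  intro y _
  rw [DirectSum.lof_eq_of]
  exact DirectSum.of_apply (β := fun z : X.cdPt k => T.ptGp X z.1 M i n) x _

/-- transport of a push-forward datum along an equality of target points. -/
noncomputable def castPt (y : Y.scheme) {x x' : X.scheme} (h : x' = x) (G : T.PtPush φ y x') :
    T.PtPush φ y x := h ▸ G

theorem famTerm_of_eq [DecidableEq (X.cdPt k)] (t : Y.cdPt j → X.cdPt k)
    (F : ∀ y : Y.cdPt j, T.PtPush φ y.1 (t y).1) (M : A.Cat) (i n : ℤ)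
    (σ : T.ptSum Y j M i n) (x : X.cdPt k) (y : Y.cdPt j) (h : t y = x) :
    famTerm T t F M i n σ x y =
      ((castPt T y.1 (congrArg Subtype.val h) (F y)).cpt M i n).hom (σ y) := by
  subst h
  unfold famTerm castPt
  rw [dif_pos rfl]

theorem famTerm_of_ne [DecidableEq (X.cdPt k)] (t : Y.cdPt j → X.cdPt k)
    (F : ∀ y : Y.cdPt j, T.PtPush φ y.1 (t y).1) (M : A.Cat) (i n : ℤ)
    (σ : T.ptSum Y j M i n) (x : X.cdPt k) (y : Y.cdPt j) (h : t y ≠ x) :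
    famTerm T t F M i n σ x y = 0 := dif_neg h

theorem famTerm_of_zero [DecidableEq (X.cdPt k)] (t : Y.cdPt j → X.cdPt k)
    (F : ∀ y : Y.cdPt j, T.PtPush φ y.1 (t y).1) (M : A.Cat) (i n : ℤ)
    (σ : T.ptSum Y j M i n) (x : X.cdPt k) (y : Y.cdPt j) (h : σ y = 0) :
    famTerm T t F M i n σ x y = 0 := by
  by_cases h' : t y = x
  · subst h'
    unfold famTerm
    rw [dif_pos rfl, h, map_zero]
  · exact dif_neg h'

end famTot

section caseA

/-- the top index. -/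
noncomputable abbrev topIdx (X : Obj V) (j : ℕ) : Idx X (ContainsFj X j) :=
  ⟨⊤, fun _ _ => trivial, dim_top _⟩

/-- residue after push-forward vanishes at points outside the closure. -/
theorem caseA (X : Obj V) (q : ℕ) (P : T.PushData X q) (Q : T.ResData X q) (w : X.cdPt q)
    (x : X.cdPt (q + 1)) (hx : x.1 ∉ closure ({w.1} : Set X.scheme)) (M : A.Cat)
    (i n i₁ n₁ i₂ n₂ : ℤ) (h1 : i₁ = i + 2 * (q : ℤ)) (h1' : n₁ = n + (q : ℤ))
    (h2 : i₂ = i₁ + 1 - 2 * ((q : ℤ) + 1)) (h2' : n₂ = n₁ - ((q : ℤ) + 1))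
    (b : T.ptGp X w.1 M i n) :
    (Q.cpt x M i₁ n₁ i₂ n₂ h2 h2').hom ((P.cpt w M i n i₁ n₁ h1 h1').hom b) = 0 := by
  obtain ⟨W, b₀, rfl⟩ := ocolim_rep T (X.ptSub w.1) _ (pt_dir X w.1) (pt_ne X w.1) i n M b
  have himg : ∀ w' ∈ W.1, (X.ptSubι w.1) w' ∈ (topIdx X q).1 := fun _ _ => trivial
  rw [cpt_piece T X q P w W (topIdx X q) himg M i n i₁ n₁ h1 h1' b₀]
  exact cpt_zero_of_mem T X q Q x M i₁ n₁ i₂ n₂ h2 h2' (pieceIdx X q w W (topIdx X q))
    (mem_pieceOpen_of_not_mem_closure X w.1 W.1 _ trivial hx) _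

end caseA


section explicit

variable {Y X : Obj V} (φ : Y.scheme ⟶ X.scheme) [IsFinite φ]

/-- the local formula with explicit data. -/
theorem main_explicit (hred : HRed T) (j j' : ℕ) (x : X.scheme) (U : X.scheme.Opens)
    (hxU : x ∉ U) (hUF : ContainsFj X j U) (hVF : ContainsFj Y j' (φ ⁻¹ᵁ U))
    (hxc : WeilCoh.codim X.scheme x = j + 1)
    (hyc : ∀ y : Y.scheme, φ y = x → WeilCoh.codim Y.scheme y = j' + 1)
    (hδ : (WeilCoh.dim X.scheme : ℤ) - (WeilCoh.dim Y.scheme : ℤ) = (j : ℤ) - (j' : ℤ))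
    (y₀ : Y.scheme) (hy₀ : φ y₀ = x)
    (Q : T.ResData X j) (Q' : T.ResData Y j')
    (F : ∀ y : {y : Y.scheme // φ y = x}, T.PtPush φ y.1 x)
    (M : A.Cat) (i n i₁ n₁ i₂ n₂ : ℤ)
    (hi₁ : i₁ = i + 2 * relCodim (Y.res (φ ⁻¹ᵁ U)).scheme (X.res U).scheme)
    (hn₁ : n₁ = n + relCodim (Y.res (φ ⁻¹ᵁ U)).scheme (X.res U).scheme)
    (hQi : i₂ = i₁ + 1 - 2 * ((j : ℤ) + 1)) (hQn : n₂ = n₁ - ((j : ℤ) + 1))
    (hQ'i : i₂ = i + 1 - 2 * ((j' : ℤ) + 1)) (hQ'n : n₂ = n - ((j' : ℤ) + 1))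
    (c' : T.gp (Y.res (φ ⁻¹ᵁ U)) M i n) :
    (Q.cpt ⟨x, hxc⟩ M i₁ n₁ i₂ n₂ hQi hQn).hom
        (((T.fjι X j i₁ n₁ ⟨U, hUF, dim_of_containsFj X j U hUF⟩).app M).hom
          ((T.push (X := Y.res (φ ⁻¹ᵁ U)) (Y := X.res U) (φ ∣_ U) M i n i₁ n₁ hi₁ hn₁).hom c')) =
      ∑ y ∈ (@Finset.univ {y : Y.scheme // φ y = x} (φ.finite_preimage_singleton x).fintype),
        ((F y).cpt M i₂ n₂).hom
          ((Q'.cpt ⟨y.1, hyc y.1 y.2⟩ M i n i₂ n₂ hQ'i hQ'n).hom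
            (((T.fjι Y j' i n ⟨φ ⁻¹ᵁ U, hVF, dim_of_containsFj Y j' _ hVF⟩).app M).hom c')) := by
  obtain ⟨N, hxN, hN⟩ := exists_attach X j U hUF x hxc
  obtain ⟨O, hON, hxO, hO2, hO3⟩ := exists_good_nbhd φ x N hxN
  let S : Setup Y X :=
    { φ := φ, fin := inferInstance, x := x, U := U, O := O, j := j, j' := j', hxU := hxU,
      hxO := hxO, hO1 := fun z hz hzU => hN z (hON hz) hzU, hO2 := hO2, hO3 := hO3,
      hUF := hUF, hVF := hVF, hxc := hxc, hyc := hyc, hδ := hδ, y₀ := y₀, hy₀ := hy₀ }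
  exact main_local T S hred Q Q' F M i n i₁ n₁ i₂ n₂ hi₁ hn₁ hQi hQn hQ'i hQ'n c'

end explicit

end Groth.Agent.Helper8.BMNdD
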