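import Groth.Agent.Helper8.BMNdD
import Mathlib

set_option autoImplicit false
universe u
open CategoryTheory AlgebraicGeometry Opposite Limits TopologicalSpace Topology
open BMCoh
open Groth.Agent.Helper8.BMTop Groth.Agent.Helper8.BMSch Groth.Agent.Helper8.BMColim
open Groth.Agent.Helper8.BMBasic Groth.Agent.Helper8.BMPushU Groth.Agent.Helper8.BMAtt
open Groth.Agent.Helper8.BMEx3 Groth.Agent.Helper8.BMEx1 Groth.Agent.Helper8.BMBij
open Groth.Agent.Helper8.BMNeg Groth.Agent.Helper8.BMVan Groth.Agent.Helper8.BMGen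
open Groth.Agent.Helper8.BMZero Groth.Agent.Helper8.BMFam Groth.Agent.Helper8.BMPtU
open Groth.Agent.Helper8.BMNdA Groth.Agent.Helper8.BMNdB Groth.Agent.Helper8.BMNdC
open Groth.Agent.Helper8.BMEx2 Groth.Agent.Helper8.BMNdD Groth.Agent.Helper8.BMNorm

namespace Groth.Agent.Helper8.BMNdE

variable {V : ObjectProperty Scheme.{u}} [IsConstructible V] {R : Type u} [CommRing R]
  {A : Coefs R} (T : PreTheory V R A)

section

variable {Y X : Obj V} (φ : Y.scheme ⟶ X.scheme) (η : Y.scheme) (q : ℕ) (w : X.cdPt q)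
  (hyx : φ η = w.1) (W' : (X.ptSub w.1).scheme.Opens)
  (hne : (W' : Set (X.ptSub w.1).scheme).Nonempty)

/-- the open of `X`: complement of the closure of `w` together with the piece `W'`. -/
noncomputable abbrev Uc : X.scheme.Opens := pieceOpen X w.1 W' ⊤

theorem mem_Uc (z : X.scheme) : z ∈ Uc q w W' ↔
    z ∉ closure ({w.1} : Set X.scheme) ∨ z ∈ (X.ptSubι w.1) '' (W' : Set (X.ptSub w.1).scheme) := by
  have h := pieceOpen_eq X w.1 W' ⊤ (fun _ _ => trivial)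
  have h2 : z ∈ (Uc q w W' : Set X.scheme) ↔ z ∈
      ((outOpen (X.ptSubι w.1) ⊓ ⊤ : X.scheme.Opens) : Set X.scheme) ∪
        (X.ptSubι w.1) '' (W' : Set (X.ptSub w.1).scheme) := by rw [← h]
  rw [← SetLike.mem_coe, h2]
  constructor
  · rintro (⟨h1, -⟩ | h1)
    · left; exact (mem_outOpen_iff X w.1 z).mp h1
    · right; exact h1
  · rintro (h1 | h1)
    · left; exact ⟨(mem_outOpen_iff X w.1 z).mpr h1, trivial⟩
    · right; exact h1

include hyx in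
theorem map_mem_Uc_iff (z' : (Y.ptSub η).scheme) :
    φ ((Y.ptSubι η) z') ∈ Uc q w W' ↔ barφ φ η w.1 hyx z' ∈ W' := by
  have h1 : φ ((Y.ptSubι η) z') = (X.ptSubι w.1) (barφ φ η w.1 hyx z') := by
    have := congrArg (fun g => g z') (barφ_fac φ η w.1 hyx)
    simp only [Scheme.Hom.comp_apply] at this
    exact this.symm
  rw [h1, mem_Uc]
  constructor
  · rintro (h | ⟨w'', hw'', he⟩)
    · exact absurd (by rw [← range_ptSubι]; exact ⟨_, rfl⟩) h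
    · rw [← (X.ptSubι w.1).isClosedEmbedding.injective he]; exact hw''
  · intro h
    exact Or.inr ⟨_, h, rfl⟩

theorem hYV : ((φ ⁻¹ᵁ Uc q w W' : Y.scheme.Opens) : Set Y.scheme) =
    ((outOpen (Y.ptSubι η) ⊓ φ ⁻¹ᵁ Uc q w W' : Y.scheme.Opens) : Set Y.scheme) ∪
      (Y.ptSubι η) '' (((barφ φ η w.1 hyx) ⁻¹ᵁ W' : (Y.ptSub η).scheme.Opens) :
        Set (Y.ptSub η).scheme) := by
  ext z
  constructor
  · intro hz
    by_cases hzr : z ∈ Set.range (Y.ptSubι η)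
    · right
      obtain ⟨z', rfl⟩ := hzr
      exact ⟨z', (map_mem_Uc_iff φ η q w hyx W' z').mp hz, rfl⟩
    · left; exact ⟨hzr, hz⟩
  · rintro (h | ⟨z', hz', rfl⟩)
    · exact h.2
    · exact (map_mem_Uc_iff φ η q w hyx W' z').mpr hz'

/-- the closed immersion of the preimage piece into the preimage open. -/
noncomputable def mMap : ((Y.ptSub η).res ((barφ φ η w.1 hyx) ⁻¹ᵁ W')).scheme ⟶
    (Y.res (φ ⁻¹ᵁ Uc q w W')).scheme :=
  lcLift Y (Y.ptSub η) (Y.ptSubι η) ((barφ φ η w.1 hyx) ⁻¹ᵁ W')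
    (outOpen (Y.ptSubι η) ⊓ φ ⁻¹ᵁ Uc q w W') (φ ⁻¹ᵁ Uc q w W') (hYV φ η q w hyx W')

instance : IsClosedImmersion (mMap φ η q w hyx W') :=
  isClosedImmersion_lcLift Y (Y.ptSub η) (Y.ptSubι η) _ _ _ (hYV φ η q w hyx W')
    (piece_disj Y η _)

@[reassoc]
theorem mMap_fac : mMap φ η q w hyx W' ≫ (φ ⁻¹ᵁ Uc q w W').ι =
    ((barφ φ η w.1 hyx) ⁻¹ᵁ W').ι ≫ Y.ptSubι η :=
  lcLift_fac Y (Y.ptSub η) (Y.ptSubι η) _ _ _ (hYV φ η q w hyx W')

theorem mMap_comm : mMap φ η q w hyx W' ≫ (φ ∣_ Uc q w W') =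
    ((barφ φ η w.1 hyx) ∣_ W') ≫ pieceMap X w.1 W' ⊤ (fun _ _ => trivial) := by
  rw [← cancel_mono (Uc q w W').ι]
  simp only [Category.assoc]
  rw [morphismRestrict_ι, mMap_fac_assoc, pieceMap_fac,
    ← Category.assoc ((barφ φ η w.1 hyx) ∣_ W'), morphismRestrict_ι,
    Category.assoc, barφ_fac]

end


section coh

variable {Y X : Obj V} (φ : Y.scheme ⟶ X.scheme) [IsProper φ] (η : Y.scheme) (q : ℕ)
  (w : X.cdPt q) (hyx : φ η = w.1) (W' : (X.ptSub w.1).scheme.Opens)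
  (hne : (W' : Set (X.ptSub w.1).scheme).Nonempty)

include hyx hne in
theorem containsF0_preimage (hgen : ∀ y : Y.scheme, η ⤳ y) :
    ContainsFj Y 0 (φ ⁻¹ᵁ Uc q w W') := by
  intro y hy
  have hyη : y = η := by
    by_contra hne'
    have h1 := pdim_lt_of_specializes Y (hgen y) hne'
    have h2 := pdim_of_codim_zero Y y hy
    have h3 := pdim_le_dim Y η
    omega
  rw [hyη]
  show φ η ∈ Uc q w W'
  rw [hyx, mem_Uc]
  right
  obtain ⟨ξ, hξ⟩ := exists_ptGen X w.1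
  exact ⟨ξ, ptGen_mem X w.1 ξ hξ W' hne, hξ⟩

theorem cptP'_eq (P' : T.PushData Y 0) (hη : WeilCoh.codim Y.scheme η = 0)
    (hVF : ContainsFj Y 0 (φ ⁻¹ᵁ Uc q w W')) (M : A.Cat) (i n i' n' : ℤ)
    (hi : i' = i + 2 * ((0 : ℕ) : ℤ)) (hn : n' = n + ((0 : ℕ) : ℤ))
    (hi' : i' = i + 2 * relCodim ((Y.ptSub η).res (idxY φ η w.1 hyx W' hne).1).scheme
      (Y.res (φ ⁻¹ᵁ Uc q w W')).scheme)
    (hn' : n' = n + relCodim ((Y.ptSub η).res (idxY φ η w.1 hyx W' hne).1).scheme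
      (Y.res (φ ⁻¹ᵁ Uc q w W')).scheme)
    (a₀ : T.gp ((Y.ptSub η).res (idxY φ η w.1 hyx W' hne).1) M i n) :
    (P'.cpt ⟨η, hη⟩ M i n i' n' hi hn).hom
        (((T.ptι Y η i n (idxY φ η w.1 hyx W' hne)).app M).hom a₀) =
      ((T.fjι Y 0 i' n' ⟨φ ⁻¹ᵁ Uc q w W', hVF, dim_of_containsFj Y 0 _ hVF⟩).app M).hom
        ((T.push (X := (Y.ptSub η).res (idxY φ η w.1 hyx W' hne).1)
          (Y := Y.res (φ ⁻¹ᵁ Uc q w W')) (mMap φ η q w hyx W') M i n i' n' hi' hn').hom a₀) :=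
  comp_elem (P'.cpt_spec ⟨η, hη⟩ M i n i' n' hi hn
    ⟨φ ⁻¹ᵁ Uc q w W', hVF, dim_of_containsFj Y 0 _ hVF⟩ (idxY φ η w.1 hyx W' hne)
    (mMap φ η q w hyx W') (mMap_fac φ η q w hyx W') hi' hn') a₀

theorem cptP_eq (L : T.PtPush φ η w.1) (P : T.PushData X q) (M : A.Cat) (i n i₁ n₁ : ℤ)
    (h1 : i₁ = i + 2 * (q : ℤ)) (h1' : n₁ = n + (q : ℤ))
    (hiβ : i = i + 2 * relCodim ((Y.ptSub η).res (idxY φ η w.1 hyx W' hne).1).scheme
      ((X.ptSub w.1).res (idxX w.1 W' hne).1).scheme)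
    (hnβ : n = n + relCodim ((Y.ptSub η).res (idxY φ η w.1 hyx W' hne).1).scheme
      ((X.ptSub w.1).res (idxX w.1 W' hne).1).scheme)
    (him : i = i + 2 * relCodim ((Y.ptSub η).res (idxY φ η w.1 hyx W' hne).1).scheme
      (Y.res (φ ⁻¹ᵁ Uc q w W')).scheme)
    (hnm : n = n + relCodim ((Y.ptSub η).res (idxY φ η w.1 hyx W' hne).1).scheme
      (Y.res (φ ⁻¹ᵁ Uc q w W')).scheme)
    (hiφ : i₁ = i + 2 * relCodim (Y.res (φ ⁻¹ᵁ Uc q w W')).scheme (X.res (Uc q w W')).scheme)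
    (hnφ : n₁ = n + relCodim (Y.res (φ ⁻¹ᵁ Uc q w W')).scheme (X.res (Uc q w W')).scheme)
    (hic : i₁ = i + 2 * relCodim ((Y.ptSub η).res (idxY φ η w.1 hyx W' hne).1).scheme
      (X.res (Uc q w W')).scheme)
    (hnc : n₁ = n + relCodim ((Y.ptSub η).res (idxY φ η w.1 hyx W' hne).1).scheme
      (X.res (Uc q w W')).scheme)
    (a₀ : T.gp ((Y.ptSub η).res (idxY φ η w.1 hyx W' hne).1) M i n) :
    (P.cpt w M i n i₁ n₁ h1 h1').hom ((L.cpt M i n).hom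
        (((T.ptι Y η i n (idxY φ η w.1 hyx W' hne)).app M).hom a₀)) =
      ((T.fjι X q i₁ n₁ (pieceIdx X q w (idxX w.1 W' hne) (topIdx X q))).app M).hom
        ((T.push (X := Y.res (φ ⁻¹ᵁ Uc q w W')) (Y := X.res (Uc q w W'))
          (φ ∣_ Uc q w W') M i n i₁ n₁ hiφ hnφ).hom
          ((T.push (X := (Y.ptSub η).res (idxY φ η w.1 hyx W' hne).1)
            (Y := Y.res (φ ⁻¹ᵁ Uc q w W')) (mMap φ η q w hyx W') M i n i n him hnm).hom a₀)) := by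
  have e1 := comp_elem (spec_restrict φ η w.1 hyx T L M i n W' hne hiβ hnβ) a₀
  simp only [ModuleCat.hom_comp, LinearMap.comp_apply] at e1
  rw [e1]
  have himg : ∀ w' ∈ (idxX w.1 W' hne).1, (X.ptSubι w.1) w' ∈ (topIdx X q).1 := fun _ _ => trivial
  rw [cpt_piece T X q P w (idxX w.1 W' hne) (topIdx X q) himg M i n i₁ n₁ h1 h1']
  congr 1
  have hc1 := T.push_comp (X := (Y.ptSub η).res (idxY φ η w.1 hyx W' hne).1)
    (Y := (X.ptSub w.1).res (idxX w.1 W' hne).1) (Z := X.res (Uc q w W'))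
    ((barφ φ η w.1 hyx) ∣_ W') (pieceMap X w.1 W' ⊤ himg) M i n i n i₁ n₁ hiβ hnβ
    (piece_hi X q w (idxX w.1 W' hne) (topIdx X q) h1)
    (piece_hn X q w (idxX w.1 W' hne) (topIdx X q) h1') hic hnc
  have hc2 := T.push_comp (X := (Y.ptSub η).res (idxY φ η w.1 hyx W' hne).1)
    (Y := Y.res (φ ⁻¹ᵁ Uc q w W')) (Z := X.res (Uc q w W'))
    (mMap φ η q w hyx W') (φ ∣_ Uc q w W') M i n i n i₁ n₁ him hnm hiφ hnφ hic hnc
  have hcg := push_congr T (X := (Y.ptSub η).res (idxY φ η w.1 hyx W' hne).1)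
    (Y := X.res (Uc q w W')) (mMap_comm φ η q w hyx W') M i n i₁ n₁ hic hnc
  have e2 := comp_elem hc1 a₀
  have e3 := comp_elem hc2 a₀
  rw [e3, hcg]
  exact e2

end coh

end Groth.Agent.Helper8.BMNdE
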