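import Groth.Agent.Helper8.BMNdE
import Mathlib

set_option autoImplicit false
universe u
open CategoryTheory AlgebraicGeometry Opposite Limits TopologicalSpace Topology
open BMCoh
open Groth.Agent.Helper8.BMTop Groth.Agent.Helper8.BMSch Groth.Agent.Helper8.BMColim
open Groth.Agent.Helper8.BMBasic Groth.Agent.Helper8.BMPushU Groth.Agent.Helper8.BMAtt
open Groth.Agent.Helper8.BMEx3 Groth.Agent.Helper8.BMEx1 Groth.Agent.Helper8.BMBij
open Groth.Agent.Helper8.BMNeg Groth.Agent.Helper8.BMVan Groth.Agent.Helper8.BMGen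
open Groth.Agent.Helper8.BMZero Groth.Agent.Helper8.BMFam Groth.Agent.Helper8.BMPtU
open Groth.Agent.Helper8.BMNdA Groth.Agent.Helper8.BMNdB Groth.Agent.Helper8.BMNdC
open Groth.Agent.Helper8.BMEx2 Groth.Agent.Helper8.BMNdD Groth.Agent.Helper8.BMNorm
open Groth.Agent.Helper8.BMNdE

namespace Groth.Agent.Helper8.BMNdF

variable {V : ObjectProperty Scheme.{u}} [IsConstructible V] {R : Type u} [CommRing R]
  {A : Coefs R} (T : PreTheory V R A)

theorem caseB (hred : HRed T) {Y X : Obj V} (φ : Y.scheme ⟶ X.scheme) [IsFinite φ]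
    (η : Y.scheme) (hgen : ∀ y : Y.scheme, η ⤳ y) (hη : WeilCoh.codim Y.scheme η = 0)
    (q : ℕ) (w : X.cdPt q) (L : T.PtPush φ η w.1)
    (P : T.PushData X q) (Q : T.ResData X q) (P' : T.PushData Y 0) (Q' : T.ResData Y 0)
    (t : Y.cdPt 1 → X.cdPt (q + 1)) (F : ∀ y : Y.cdPt 1, T.PtPush φ y.1 (t y).1)
    (M : A.Cat) (i n i₁ n₁ i₂ n₂ : ℤ)
    (h1 : i₁ = i + 2 * (q : ℤ)) (h1' : n₁ = n + (q : ℤ))
    (h2 : i₂ = i₁ + 1 - 2 * ((q : ℤ) + 1)) (h2' : n₂ = n₁ - ((q : ℤ) + 1))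
    (h3 : i = i + 2 * ((0 : ℕ) : ℤ)) (h3' : n = n + ((0 : ℕ) : ℤ))
    (h4 : i₂ = i + 1 - 2 * (((0 : ℕ) : ℤ) + 1)) (h4' : n₂ = n - (((0 : ℕ) : ℤ) + 1))
    (a : T.ptGp Y η M i n) (x : X.cdPt (q + 1))
    (hx : x.1 ∈ closure ({w.1} : Set X.scheme)) :
    (Q.cpt x M i₁ n₁ i₂ n₂ h2 h2').hom ((P.cpt w M i n i₁ n₁ h1 h1').hom ((L.cpt M i n).hom a)) =
      (BMCoh.PreTheory.PtPush.famTot t F M i₂ n₂).hom
        ((Q'.tot M i n i₂ n₂ h4 h4').hom ((P'.cpt ⟨η, hη⟩ M i n i n h3 h3').hom a)) x := by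
  classical
  have hyx : φ η = w.1 := L.maps_pt
  have hcd := pdim_eq_of_ptPush φ η w.1 T L
  have hpη : WeilCoh.pdim Y.scheme η = WeilCoh.dim Y.scheme :=
    pdim_of_codim_zero Y η (le_of_eq hη)
  have hcw := codim_cast X w.1
  rw [w.2] at hcw
  have hcx := codim_cast X x.1
  rw [x.2] at hcx
  push_cast at hcx
  have hcd' : (WeilCoh.pdim X.scheme w.1 : ℤ) = (WeilCoh.pdim Y.scheme η : ℤ) := by
    exact_mod_cast hcd
  have hpη' : (WeilCoh.pdim Y.scheme η : ℤ) = (WeilCoh.dim Y.scheme : ℤ) := by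
    exact_mod_cast hpη
  have hδ : (WeilCoh.dim X.scheme : ℤ) - (WeilCoh.dim Y.scheme : ℤ) = (q : ℤ) - ((0 : ℕ) : ℤ) := by
    push_cast; linarith
  have hwx : w.1 ∉ closure ({x.1} : Set X.scheme) := by
    intro h
    have hs : x.1 ⤳ w.1 := specializes_iff_mem_closure.mpr h
    have hne : w.1 ≠ x.1 := by
      intro e
      have e1 := w.2
      have e2 := x.2
      rw [e] at e1
      omega
    have := codim_lt_of_specializes X hs hne
    have e1 := w.2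
    have e2 := x.2
    omega
  obtain ⟨W₁, a₁, rfl⟩ := ocolim_rep T (Y.ptSub η) _ (pt_dir Y η) (pt_ne Y η) i n M a
  obtain ⟨W'0, hW'0ne, hW'0le⟩ := exists_small φ η w.1 hyx hcd W₁.1 W₁.2.1
  obtain ⟨ξ, hξ⟩ := exists_ptGen X w.1
  let W' : (X.ptSub w.1).scheme.Opens := W'0 ⊓ (X.ptSubι w.1) ⁻¹ᵁ (outOpen (X.ptSubι x.1))
  have hne : (W' : Set (X.ptSub w.1).scheme).Nonempty :=
    ⟨ξ, ptGen_mem X w.1 ξ hξ W'0 hW'0ne, by
      show (X.ptSubι w.1) ξ ∈ outOpen (X.ptSubι x.1)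
      rw [hξ]; exact (mem_outOpen_iff X x.1 w.1).mpr hwx⟩
  have hW'x : ∀ w' ∈ W', (X.ptSubι w.1) w' ∉ closure ({x.1} : Set X.scheme) := fun w' hw' =>
    (mem_outOpen_iff X x.1 _).mp hw'.2
  have hle1 : (idxY φ η w.1 hyx W' hne).1 ≤ W₁.1 :=
    le_trans ((barφ φ η w.1 hyx).preimage_mono inf_le_left) hW'0le
  have hd1 := (idxY φ η w.1 hyx W' hne).2.2.trans W₁.2.2.symm
  have ea := comp_elem (ocolimι_res T (Y.ptSub η) _ i n (idxY φ η w.1 hyx W' hne) W₁ hle1 hd1 M) a₁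
  rw [← ea]
  set a₀ := (T.pull ((Y.ptSub η).resLE hle1 hd1) M i n).hom a₁ with ha₀
  -- the opens
  have hVF := containsF0_preimage φ η q w hyx W' hne hgen
  have hUF : ContainsFj X q (Uc q w W') :=
    containsFj_pieceOpen X q w (idxX w.1 W' hne) (topIdx X q)
  have dW0 : WeilCoh.dim (((idxY φ η w.1 hyx W' hne).1 : (Y.ptSub η).scheme.Opens) : Scheme.{u}) =
      WeilCoh.pdim Y.scheme η := dim_ptOpen Y η _ (preimage_nonempty φ η w.1 hyx W' hne)
  have dV1 := dim_of_containsFj Y 0 _ hVF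
  have dUc := dim_of_containsFj X q _ hUF
  have r_m : relCodim ((Y.ptSub η).res (idxY φ η w.1 hyx W' hne).1).scheme
      (Y.res (φ ⁻¹ᵁ Uc q w W')).scheme = 0 := by
    show relCodim (((idxY φ η w.1 hyx W' hne).1 : (Y.ptSub η).scheme.Opens) : Scheme.{u})
      ((φ ⁻¹ᵁ Uc q w W' : Y.scheme.Opens) : Scheme.{u}) = 0
    unfold relCodim
    rw [dW0, dV1, hpη]; ring
  have r_φ : relCodim (Y.res (φ ⁻¹ᵁ Uc q w W')).scheme (X.res (Uc q w W')).scheme = (q : ℤ) := by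
    show relCodim ((φ ⁻¹ᵁ Uc q w W' : Y.scheme.Opens) : Scheme.{u})
      ((Uc q w W' : X.scheme.Opens) : Scheme.{u}) = _
    unfold relCodim
    rw [dV1, dUc]; push_cast at hδ; linarith
  have r_β := relCodim_restrict φ η w.1 hyx hcd W' hne
  have r_c : relCodim ((Y.ptSub η).res (idxY φ η w.1 hyx W' hne).1).scheme
      (X.res (Uc q w W')).scheme = (q : ℤ) := by
    show relCodim (((idxY φ η w.1 hyx W' hne).1 : (Y.ptSub η).scheme.Opens) : Scheme.{u})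
      ((Uc q w W' : X.scheme.Opens) : Scheme.{u}) = _
    unfold relCodim
    rw [dW0, dUc, hpη]; push_cast at hδ; linarith
  have hiβ : i = i + 2 * relCodim ((Y.ptSub η).res (idxY φ η w.1 hyx W' hne).1).scheme
      ((X.ptSub w.1).res (idxX w.1 W' hne).1).scheme := by rw [r_β]; ring
  have hnβ : n = n + relCodim ((Y.ptSub η).res (idxY φ η w.1 hyx W' hne).1).scheme
      ((X.ptSub w.1).res (idxX w.1 W' hne).1).scheme := by rw [r_β]; ring
  have him : i = i + 2 * relCodim ((Y.ptSub η).res (idxY φ η w.1 hyx W' hne).1).scheme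
      (Y.res (φ ⁻¹ᵁ Uc q w W')).scheme := by rw [r_m]; ring
  have hnm : n = n + relCodim ((Y.ptSub η).res (idxY φ η w.1 hyx W' hne).1).scheme
      (Y.res (φ ⁻¹ᵁ Uc q w W')).scheme := by rw [r_m]; ring
  have hiφ : i₁ = i + 2 * relCodim (Y.res (φ ⁻¹ᵁ Uc q w W')).scheme
      (X.res (Uc q w W')).scheme := by rw [r_φ]; exact h1
  have hnφ : n₁ = n + relCodim (Y.res (φ ⁻¹ᵁ Uc q w W')).scheme
      (X.res (Uc q w W')).scheme := by rw [r_φ]; exact h1'
  have hic : i₁ = i + 2 * relCodim ((Y.ptSub η).res (idxY φ η w.1 hyx W' hne).1).scheme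
      (X.res (Uc q w W')).scheme := by rw [r_c]; exact h1
  have hnc : n₁ = n + relCodim ((Y.ptSub η).res (idxY φ η w.1 hyx W' hne).1).scheme
      (X.res (Uc q w W')).scheme := by rw [r_c]; exact h1'
  rw [cptP_eq T φ η q w hyx W' hne L P M i n i₁ n₁ h1 h1' hiβ hnβ him hnm hiφ hnφ hic hnc a₀,
    cptP'_eq T φ η q w hyx W' hne P' hη hVF M i n i n h3 h3' him hnm a₀]
  -- the local formula
  have hxU : x.1 ∉ Uc q w W' := by
    rw [mem_Uc]
    rintro (h | ⟨w', hw', e⟩)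
    · exact h hx
    · exact hW'x w' hw' (e ▸ subset_closure rfl)
  have hyc : ∀ y : Y.scheme, φ y = x.1 → WeilCoh.codim Y.scheme y = 0 + 1 := by
    intro y hy
    have hyη : y ≠ η := by
      rintro rfl
      rw [hyx] at hy
      exact hwx (hy ▸ subset_closure rfl)
    have e1 := pdim_lt_of_specializes Y (hgen y) hyη
    have e2 : WeilCoh.pdim X.scheme x.1 ≤ WeilCoh.pdim Y.scheme y := by
      rw [pdim_eq_ht, pdim_eq_ht, ← hy]
      exact ENat.toNat_le_toNat (ht_map_le φ φ.continuous φ.isClosedMap _) (ht_lt_top Y _).ne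
    have e3 := codim_cast Y y
    have e4 := pdim_le_dim Y y
    have e5 := pdim_le_dim X x.1
    omega
  have hr : closure ({w.1} : Set X.scheme) ⊆ Set.range φ :=
    closure_minimal (Set.singleton_subset_iff.mpr ⟨η, hyx⟩) φ.isClosedMap.isClosed_range
  obtain ⟨y₀, hy₀⟩ := hr hx
  let gκ : {y : Y.scheme // φ y = x.1} → Y.cdPt 1 := fun y' => ⟨y'.1, hyc y'.1 y'.2⟩
  have ht : ∀ y' : {y : Y.scheme // φ y = x.1}, t (gκ y') = x := fun y' =>
    Subtype.ext ((F (gκ y')).maps_pt.symm.trans y'.2)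
  let F' : ∀ y' : {y : Y.scheme // φ y = x.1}, T.PtPush φ y'.1 x.1 := fun y' =>
    castPt T y'.1 (congrArg Subtype.val (ht y')) (F (gκ y'))
  have hmain := main_explicit T φ hred q 0 x.1 (Uc q w W') hxU hUF hVF x.2 hyc hδ y₀ hy₀ Q Q' F'
    M i n i₁ n₁ i₂ n₂ hiφ hnφ h2 h2' h4 h4'
    ((T.push (X := (Y.ptSub η).res (idxY φ η w.1 hyx W' hne).1)
      (Y := Y.res (φ ⁻¹ᵁ Uc q w W')) (mMap φ η q w hyx W') M i n i n him hnm).hom a₀)
  refine hmain.trans ?_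
  -- the right-hand side
  set c'' := ((T.fjι Y 0 i n ⟨φ ⁻¹ᵁ Uc q w W', hVF, dim_of_containsFj Y 0 _ hVF⟩).app M).hom
    ((T.push (X := (Y.ptSub η).res (idxY φ η w.1 hyx W' hne).1)
      (Y := Y.res (φ ⁻¹ᵁ Uc q w W')) (mMap φ η q w hyx W') M i n i n him hnm).hom a₀) with hc''
  set σ := (Q'.tot M i n i₂ n₂ h4 h4').hom c'' with hσ
  rw [famTot_apply T t F M i₂ n₂ σ x σ.support
    (fun y hy => by simpa using hy)]
  letI : Fintype {y : Y.scheme // φ y = x.1} := (φ.finite_preimage_singleton x.1).fintype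
  have hterm : ∀ y' : {y : Y.scheme // φ y = x.1},
      ((F' y').cpt M i₂ n₂).hom ((Q'.cpt ⟨y'.1, hyc y'.1 y'.2⟩ M i n i₂ n₂ h4 h4').hom c'') =
        famTerm T t F M i₂ n₂ σ x (gκ y') := fun y' =>
    (famTerm_of_eq T t F M i₂ n₂ σ x (gκ y') (ht y')).symm
  rw [Finset.sum_congr rfl (fun y' _ => hterm y')]
  have hinj : Function.Injective gκ := fun y1 y2 h =>
    Subtype.ext (congrArg (fun z : Y.cdPt 1 => z.1) h)
  rw [← Finset.sum_image (f := famTerm T t F M i₂ n₂ σ x) (s := Finset.univ) (g := gκ)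
    (fun y1 _ y2 _ h => hinj h)]
  apply Finset.sum_congr_of_eq_on_inter
  · intro y hy hy'
    apply famTerm_of_zero
    exact DFinsupp.notMem_support_iff.mp hy'
  · intro y hy hy'
    apply famTerm_of_ne
    intro hty
    apply hy'
    refine Finset.mem_image.mpr ⟨⟨y.1, ?_⟩, Finset.mem_univ _, rfl⟩
    rw [(F y).maps_pt, hty]
  · intro y _ _
    rfl

end Groth.Agent.Helper8.BMNdF
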