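import Groth.Agent.Helper8.BMBij
import Mathlib

set_option autoImplicit false
universe u
open CategoryTheory AlgebraicGeometry Opposite Limits TopologicalSpace Topology
open BMCoh
open Groth.Agent.Helper8.BMTop Groth.Agent.Helper8.BMSch Groth.Agent.Helper8.BMColim
open Groth.Agent.Helper8.BMBasic Groth.Agent.Helper8.BMPushU Groth.Agent.Helper8.BMAtt
open Groth.Agent.Helper8.BMEx3 Groth.Agent.Helper8.BMEx1 Groth.Agent.Helper8.BMBij

namespace Groth.Agent.Helper8.BMNeg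

/-- (copied from Helper3.SecExt / Lead.SuppProper) -/
theorem isReduced_subscheme_of_radical (X : Scheme.{u}) (I : X.IdealSheafData)
    (h : I.radical = I) : IsReduced I.subscheme := by
  rw [IsReduced.iff_of_openCover (X := I.subscheme) I.subschemeCover.openCover]
  intro (U : X.affineOpens)
  change IsReduced (Spec (CommRingCat.of (Γ(X, U) ⧸ I.ideal U)))
  rw [affine_isReduced_iff]
  have h2 : (I.ideal U).IsRadical := by
    have := congrArg (fun J : X.IdealSheafData => J.ideal U) h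
    exact Ideal.radical_eq_iff.mp this
  exact (Ideal.isRadical_iff_quotient_reduced _).mp h2

theorem isReduced_vanishingIdeal_subscheme {X : Scheme.{u}} (C : TopologicalSpace.Closeds X) :
    IsReduced (Scheme.IdealSheafData.vanishingIdeal C).subscheme := by
  apply isReduced_subscheme_of_radical
  have hs : (Scheme.IdealSheafData.vanishingIdeal C).support = C :=
    TopologicalSpace.Closeds.ext (Scheme.IdealSheafData.coe_support_vanishingIdeal C)
  rw [← Scheme.IdealSheafData.vanishingIdeal_support, hs]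

variable {V : ObjectProperty Scheme.{u}} [IsConstructible V] {R : Type u} [CommRing R]
  {A : Coefs R}

/-- the groups of the empty scheme vanish. -/
theorem gp_empty (T : PreTheory V R A) (Y : Obj V) [IsEmpty Y.scheme] (M : A.Cat) (i n : ℤ)
    (a : T.gp Y M i n) : a = 0 := by
  obtain ⟨i0, rfl⟩ : ∃ i0, i = i0 + 1 := ⟨i - 1, by ring⟩
  let D : Decomp Y := ⟨Y, Y, 𝟙 Y.scheme, inferInstance, 𝟙 Y, by
    ext y; exact isEmptyElim y⟩
  have h0 : relCodim Y.scheme Y.scheme = 0 := relCodim_self _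
  have hex := T.exact_push_pull D M i0 n (i0 + 1) n (by rw [h0]; ring) (by rw [h0]; ring)
  have h1 : (T.pull D.j M (i0 + 1) n).hom a = a := by
    show (T.pull (𝟙 Y) M (i0 + 1) n).hom a = a
    rw [pull_id]; rfl
  have h2 : (T.push D.i M (i0 + 1) n (i0 + 1) n (by rw [h0]; ring) (by rw [h0]; ring)).hom a
      = a := by
    show (T.push (𝟙 Y.scheme) M (i0 + 1) n (i0 + 1) n _ _).hom a = a
    rw [T.push_id]; rfl
  have h3 := hex.apply_apply_eq_zero a
  rw [h2] at h3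
  rw [← h1]; exact h3

/-- the reduced closed subscheme on the complement of an open, as an object. -/
noncomputable abbrev complObj (Y : Obj V) (O : Y.scheme.Opens) : Obj V :=
  ⟨(Scheme.IdealSheafData.vanishingIdeal ⟨(O : Set Y.scheme)ᶜ, O.isOpen.isClosed_compl⟩).subscheme,
    IsConstructible.of_isClosedImmersion
      (Scheme.IdealSheafData.vanishingIdeal
        ⟨(O : Set Y.scheme)ᶜ, O.isOpen.isClosed_compl⟩).subschemeι
      (h := inferInstance) Y.mem⟩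

noncomputable abbrev complι (Y : Obj V) (O : Y.scheme.Opens) : (complObj Y O).scheme ⟶ Y.scheme :=
  (Scheme.IdealSheafData.vanishingIdeal
    ⟨(O : Set Y.scheme)ᶜ, O.isOpen.isClosed_compl⟩).subschemeι

instance (Y : Obj V) (O : Y.scheme.Opens) : IsClosedImmersion (complι Y O) :=
  inferInstanceAs (IsClosedImmersion (Scheme.IdealSheafData.vanishingIdeal
    ⟨(O : Set Y.scheme)ᶜ, O.isOpen.isClosed_compl⟩).subschemeι)

instance (Y : Obj V) (O : Y.scheme.Opens) : IsReduced (complObj Y O).scheme :=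
  isReduced_vanishingIdeal_subscheme _

theorem range_complι (Y : Obj V) (O : Y.scheme.Opens) :
    Set.range (complι Y O) = (O : Set Y.scheme)ᶜ := by
  rw [Scheme.IdealSheafData.range_subschemeι]
  simp

/-- the decomposition of `Y` into an open of full dimension and its reduced complement. -/
noncomputable def complD (Y : Obj V) (O : Y.scheme.Opens)
    (hd : WeilCoh.dim (O : Scheme.{u}) = WeilCoh.dim Y.scheme) : Decomp Y :=
  ⟨complObj Y O, Y.res O, complι Y O, inferInstance, Y.resι O hd, by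
    show Set.range O.ι = _
    rw [Scheme.Opens.range_ι, range_complι, compl_compl]⟩

theorem dim_complObj_le (Y : Obj V) (O : Y.scheme.Opens) :
    WeilCoh.dim (complObj Y O).scheme ≤ WeilCoh.dim Y.scheme := by
  rw [dim_eq_sdim_range (complι Y O) (complι Y O).isEmbedding]
  exact sdim_le_dim Y _


section ptiso

variable (Y : Obj V) [IsReduced Y.scheme] (η : Y.scheme) (O : Y.scheme.Opens)
  (hO : (O : Set Y.scheme) ⊆ closure {η})

include hO in
theorem isIso_ptRes : IsIso ((Y.ptSubι η) ∣_ O) := by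
  haveI : Surjective ((Y.ptSubι η) ∣_ O) := ⟨fun o => by
    have : o.1 ∈ Set.range (Y.ptSubι η) := by rw [range_ptSubι]; exact hO o.2
    obtain ⟨w, hw⟩ := this
    refine ⟨⟨w, by show (Y.ptSubι η) w ∈ O; rw [hw]; exact o.2⟩, Subtype.ext ?_⟩
    rw [morphismRestrict_base_coe]; exact hw⟩
  exact isIso_of_isClosedImmersion_of_surjective _

/-- the identification of a piece of the reduced closure of `η` with an open of `Y`. -/
noncomputable def ptResHom : (Y.ptSub η).res ((Y.ptSubι η) ⁻¹ᵁ O) ⟶ Y.res O :=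
  haveI := isIso_ptRes Y η O hO
  ⟨(Y.ptSubι η) ∣_ O, inferInstance, dim_eq_of_iso (asIso ((Y.ptSubι η) ∣_ O))⟩

noncomputable def ptResInv : Y.res O ⟶ (Y.ptSub η).res ((Y.ptSubι η) ⁻¹ᵁ O) :=
  haveI := isIso_ptRes Y η O hO
  ⟨inv ((Y.ptSubι η) ∣_ O), inferInstance, (dim_eq_of_iso (asIso ((Y.ptSubι η) ∣_ O))).symm⟩

theorem ptResInv_comp : ptResInv Y η O hO ≫ ptResHom Y η O hO = 𝟙 _ := by
  haveI := isIso_ptRes Y η O hO
  exact Hom.ext (IsIso.inv_hom_id _)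

theorem pull_ptResHom_injective (T : PreTheory V R A) (M : A.Cat) (i n : ℤ) :
    Function.Injective (T.pull (ptResHom Y η O hO) M i n).hom := by
  have h : T.pull (ptResHom Y η O hO) M i n ≫ T.pull (ptResInv Y η O hO) M i n = 𝟙 _ := by
    rw [← pull_comp, ptResInv_comp, pull_id]
  intro a b hab
  have h1 := comp_elem h a
  have h2 := comp_elem h b
  simp only [ModuleCat.hom_id, LinearMap.id_apply] at h1 h2
  rw [← h1, ← h2, hab]

end ptiso

theorem ptResHom_comp_resLE (Y : Obj V) [IsReduced Y.scheme] (η : Y.scheme)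
    (O' O : Y.scheme.Opens) (h : O' ≤ O) (hO : (O : Set Y.scheme) ⊆ closure {η})
    (hd : WeilCoh.dim (O' : Scheme.{u}) = WeilCoh.dim (O : Scheme.{u}))
    (hd' : WeilCoh.dim (((Y.ptSubι η) ⁻¹ᵁ O' : (Y.ptSub η).scheme.Opens) : Scheme.{u}) =
      WeilCoh.dim (((Y.ptSubι η) ⁻¹ᵁ O : (Y.ptSub η).scheme.Opens) : Scheme.{u})) :
    ptResHom Y η O' (fun z hz => hO (h hz)) ≫ Y.resLE h hd =
      (Y.ptSub η).resLE (show (Y.ptSubι η) ⁻¹ᵁ O' ≤ (Y.ptSubι η) ⁻¹ᵁ O from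
        fun _ hw => h hw) hd' ≫ ptResHom Y η O hO := by
  have hle : (Y.ptSubι η) ⁻¹ᵁ O' ≤ (Y.ptSubι η) ⁻¹ᵁ O := fun _ hw => h hw
  apply Hom.ext
  show ((Y.ptSubι η) ∣_ O') ≫ Y.scheme.homOfLE h =
    (Y.ptSub η).scheme.homOfLE hle ≫ ((Y.ptSubι η) ∣_ O)
  rw [← cancel_mono O.ι]
  simp only [Category.assoc, Scheme.homOfLE_ι, morphismRestrict_ι]
  rw [← Category.assoc, Scheme.homOfLE_ι]

/-- **Vanishing in negative degrees** on reduced objects. -/
theorem nv_aux (T : TheoryOn V R A) (Z0 : Obj V) (M : A.Cat) (F : Closeds Z0.scheme) :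
    ∀ (Y : Obj V) [IsReduced Y.scheme] (ι : Y.scheme ⟶ Z0.scheme) [IsClosedImmersion ι],
      Set.range ι = (F : Set Z0.scheme) →
      ∀ (i n : ℤ), i < 0 → ∀ a : T.gp Y M i n, a = 0 := by
  induction F using WellFoundedLT.induction with
  | ind F ih =>
  intro Y _ ι _ hF i n hi a
  by_cases hY : IsEmpty Y.scheme
  · exact gp_empty T.toPreTheory Y M i n a
  rw [not_isEmpty_iff] at hY
  obtain ⟨i0, rfl⟩ : ∃ i0, i = i0 + 1 := ⟨i - 1, by ring⟩
  obtain ⟨η, hη⟩ := exists_codim_zero Y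
  have hmax : ∀ z ∈ (Set.univ : Set Y.scheme), z ⤳ η → z = η := by
    intro z _ hz
    by_contra hne
    have h1 := pdim_lt_of_specializes Y hz (Ne.symm hne)
    have h2 := pdim_le_dim Y z
    omega
  obtain ⟨N, hNo, hηN, hNsub⟩ := exists_open_of_maximal isClosed_univ hmax
  have hNsub' : ((⟨N, hNo⟩ : Y.scheme.Opens) : Set Y.scheme) ⊆ closure {η} :=
    fun z hz => hNsub ⟨hz, trivial⟩
  -- the class restricted to N, transported to the closure of η
  have hWne : (((Y.ptSubι η) ⁻¹ᵁ (⟨N, hNo⟩ : Y.scheme.Opens) : (Y.ptSub η).scheme.Opens) :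
      Set (Y.ptSub η).scheme).Nonempty := attW_nonempty Y η ⟨N, hNo⟩ hηN
  have hWd := IsConstructible.dim_open (Y.ptSub η).mem inferInstance _ hWne
  have hNd : WeilCoh.dim ((⟨N, hNo⟩ : Y.scheme.Opens) : Scheme.{u}) = WeilCoh.dim Y.scheme := by
    rw [← (ptResHom Y η ⟨N, hNo⟩ hNsub').dim_eq]
    show WeilCoh.dim (((Y.ptSubι η) ⁻¹ᵁ (⟨N, hNo⟩ : Y.scheme.Opens) :
      (Y.ptSub η).scheme.Opens) : Scheme.{u}) = _
    rw [dim_ptOpen Y η _ hWne, hη]
  haveI : Subsingleton (T.ptGp Y η M (i0 + 1) n) :=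
    ModuleCat.subsingleton_of_isZero (T.pt_vanish Y η M (i0 + 1) n hi)
  have h0 : ((T.ptι Y η (i0 + 1) n ⟨_, hWne, hWd⟩).app M).hom
      ((T.pull (ptResHom Y η ⟨N, hNo⟩ hNsub') M (i0 + 1) n).hom
        ((T.pull (Y.resι ⟨N, hNo⟩ hNd) M (i0 + 1) n).hom a)) = 0 := Subsingleton.elim _ _
  obtain ⟨W', hle', hz⟩ := ocolim_eq_zero T.toPreTheory (Y.ptSub η) _ (pt_dir Y η) (pt_ne Y η)
    (i0 + 1) n M ⟨_, hWne, hWd⟩ _ h0
  obtain ⟨W1o, hW1ne, hW1d⟩ := W'
  obtain ⟨O', hO'⟩ := exists_opens_preimage Y η W1o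
  have hW : W1o = (Y.ptSubι η) ⁻¹ᵁ (O' ⊓ ⟨N, hNo⟩) := by
    have h2 : W1o ≤ (Y.ptSubι η) ⁻¹ᵁ (⟨N, hNo⟩ : Y.scheme.Opens) := hle'
    apply le_antisymm
    · intro w hw
      have hw' : w ∈ (Y.ptSubι η) ⁻¹ᵁ O' := hO' ▸ hw
      exact ⟨hw', h2 hw⟩
    · intro w hw
      rw [hO']
      exact hw.1
  subst hW
  have hηO2 : η ∈ O' ⊓ ⟨N, hNo⟩ := by
    obtain ⟨w, hw, hwx⟩ := mem_image_of_nonempty Y η _ hW1ne
    rw [← hwx]; exact hw
  have hO2sub : ((O' ⊓ ⟨N, hNo⟩ : Y.scheme.Opens) : Set Y.scheme) ⊆ closure {η} :=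
    fun z hz => hNsub' hz.2
  have hO2d : WeilCoh.dim ((O' ⊓ ⟨N, hNo⟩ : Y.scheme.Opens) : Scheme.{u}) =
      WeilCoh.dim Y.scheme := by
    rw [← (ptResHom Y η (O' ⊓ ⟨N, hNo⟩) hO2sub).dim_eq]
    show WeilCoh.dim (((Y.ptSubι η) ⁻¹ᵁ (O' ⊓ ⟨N, hNo⟩) :
      (Y.ptSub η).scheme.Opens) : Scheme.{u}) = _
    rw [dim_ptOpen Y η _ hW1ne, hη]
  -- the restriction of a to O2 vanishes
  have hzero : (T.pull (Y.resι (O' ⊓ ⟨N, hNo⟩) hO2d) M (i0 + 1) n).hom a = 0 := by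
    apply pull_ptResHom_injective Y η (O' ⊓ ⟨N, hNo⟩) hO2sub T.toPreTheory M (i0 + 1) n
    rw [map_zero]
    have hcomp := ptResHom_comp_resLE Y η (O' ⊓ ⟨N, hNo⟩) ⟨N, hNo⟩ inf_le_right hNsub'
      (hO2d.trans hNd.symm) (hW1d.trans hWd.symm)
    have e1 : Y.resι (O' ⊓ ⟨N, hNo⟩) hO2d =
        Y.resLE inf_le_right (hO2d.trans hNd.symm) ≫ Y.resι ⟨N, hNo⟩ hNd :=
      Hom.ext (Scheme.homOfLE_ι Y.scheme
        (inf_le_right : O' ⊓ (⟨N, hNo⟩ : Y.scheme.Opens) ≤ ⟨N, hNo⟩)).symm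
    rw [e1, pull_comp]
    simp only [ModuleCat.hom_comp, LinearMap.comp_apply]
    have e2 := congrArg (fun g => (T.pull g M (i0 + 1) n).hom
      ((T.pull (Y.resι ⟨N, hNo⟩ hNd) M (i0 + 1) n).hom a)) hcomp
    simp only [pull_comp, ModuleCat.hom_comp, LinearMap.comp_apply] at e2
    rw [e2]
    exact hz
  -- Gysin sequence of the complement
  have hrel : 0 ≤ relCodim (complObj Y (O' ⊓ ⟨N, hNo⟩)).scheme Y.scheme := by
    unfold relCodim
    have := dim_complObj_le Y (O' ⊓ ⟨N, hNo⟩)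
    omega
  have hex := T.exact_push_pull (complD Y (O' ⊓ ⟨N, hNo⟩) hO2d) M i0 n
    (i0 + 1 - 2 * relCodim (complObj Y (O' ⊓ ⟨N, hNo⟩)).scheme Y.scheme)
    (n - relCodim (complObj Y (O' ⊓ ⟨N, hNo⟩)).scheme Y.scheme)
    (show i0 + 1 = (i0 + 1 - 2 * relCodim (complObj Y (O' ⊓ ⟨N, hNo⟩)).scheme Y.scheme) +
      2 * relCodim (complObj Y (O' ⊓ ⟨N, hNo⟩)).scheme Y.scheme by ring)
    (show n = (n - relCodim (complObj Y (O' ⊓ ⟨N, hNo⟩)).scheme Y.scheme) +
      relCodim (complObj Y (O' ⊓ ⟨N, hNo⟩)).scheme Y.scheme by ring)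
  obtain ⟨b, hb⟩ := (hex a).mp hzero
  have hb0 : b = 0 := by
    refine ih ⟨ι '' ((O' ⊓ ⟨N, hNo⟩ : Y.scheme.Opens) : Set Y.scheme)ᶜ,
      ι.isClosedEmbedding.isClosedMap _ (O' ⊓ ⟨N, hNo⟩).isOpen.isClosed_compl⟩ ?_
      (complObj Y (O' ⊓ ⟨N, hNo⟩)) (complι Y (O' ⊓ ⟨N, hNo⟩) ≫ ι) ?_ _ _ ?_ b
    · refine lt_of_le_of_ne ?_ ?_
      · intro z hz
        obtain ⟨y, _, rfl⟩ := hz
        show ι y ∈ (F : Set Z0.scheme)
        rw [← hF]; exact ⟨y, rfl⟩
      · intro heq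
        have : ι η ∈ (F : Set Z0.scheme) := by rw [← hF]; exact ⟨η, rfl⟩
        rw [← heq] at this
        obtain ⟨y, hy, hyη⟩ := this
        have := ι.isClosedEmbedding.injective hyη
        subst this
        exact hy hηO2
    · show Set.range (complι Y (O' ⊓ ⟨N, hNo⟩) ≫ ι) = ι '' _
      rw [Scheme.Hom.comp_base, TopCat.coe_comp, Set.range_comp, range_complι]
    · omega
  rw [hb0, map_zero] at hb
  exact hb.symm

theorem neg_vanish (T : TheoryOn V R A) (Y : Obj V) [IsReduced Y.scheme] (M : A.Cat) (i n : ℤ)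
    (hi : i < 0) (a : T.gp Y M i n) : a = 0 :=
  nv_aux T Y M ⊤ Y (𝟙 Y.scheme) (by simp) i n hi a

end Groth.Agent.Helper8.BMNeg
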