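import Mathlib
import Groth.Prelude.Def_Curv2

set_option autoImplicit false
universe u
open CategoryTheory AlgebraicGeometry Opposite Limits TopologicalSpace

namespace Groth.Agent.Helper8.NormOpen

section alg

/-- If the integral closure of a domain `A` in its fraction ring `K` is a finite `A`-module, then
some nonzero `s : A` makes every localization away from `s` integrally closed. -/
theorem exists_away_isIntegrallyClosed (A : Type u) [CommRing A] [IsDomain A]
    (K : Type u) [CommRing K] [Algebra A K] [IsFractionRing A K]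
    (hfin : Module.Finite A (integralClosure A K)) :
    ∃ s : A, s ≠ 0 ∧ ∀ (A' : Type u) [CommRing A'] [Algebra A A'] [IsLocalization.Away s A'],
      IsIntegrallyClosed A' := by
  classical
  have hfg : (integralClosure A K).toSubmodule.FG := by
    rw [← Module.Finite.iff_fg]
    exact hfin
  obtain ⟨S, hS⟩ := hfg
  obtain ⟨⟨s, hs⟩, hsS⟩ := IsLocalization.exist_integer_multiples_of_finset (nonZeroDivisors A) S
  have hs0 : s ≠ 0 := nonZeroDivisors.ne_zero hs
  have hsB' : ∀ b ∈ Submodule.span A (S : Set K), ∃ a : A, algebraMap A K a = s • b := by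
    intro b hb
    induction hb using Submodule.span_induction with
    | mem x hx => exact hsS x hx
    | zero => exact ⟨0, by simp⟩
    | add x y _ _ hx hy =>
      obtain ⟨a, ha⟩ := hx
      obtain ⟨a', ha'⟩ := hy
      exact ⟨a + a', by rw [map_add, ha, ha', smul_add]⟩
    | smul c x _ hx =>
      obtain ⟨a, ha⟩ := hx
      exact ⟨c * a, by rw [map_mul, ha, smul_comm, Algebra.smul_def c]⟩
  have hsB : ∀ b ∈ integralClosure A K, ∃ a : A, algebraMap A K a = s • b := by
    intro b hb
    exact hsB' b (by rw [hS]; exact hb)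
  refine ⟨s, hs0, ?_⟩
  intro A' _ _ _
  have hM : Submonoid.powers s ≤ nonZeroDivisors A :=
    Submonoid.powers_le.mpr hs
  haveI : IsDomain A' := IsLocalization.isDomain_of_le_nonZeroDivisors (M := Submonoid.powers s) A' hM
  have hu : ∀ y : Submonoid.powers s, IsUnit (algebraMap A K y) := by
    rintro ⟨y, hy⟩
    exact IsLocalization.map_units K (⟨y, hM hy⟩ : nonZeroDivisors A)
  letI : Algebra A' K := (IsLocalization.lift (M := Submonoid.powers s) (S := A') hu).toAlgebra
  haveI : IsScalarTower A A' K := IsScalarTower.of_algebraMap_eq (fun x => by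
    show _ = (IsLocalization.lift hu) (algebraMap A A' x)
    rw [IsLocalization.lift_eq])
  haveI : IsFractionRing A' K :=
    IsFractionRing.isFractionRing_of_isDomain_of_isLocalization (Submonoid.powers s) A' K
  rw [isIntegrallyClosed_iff_isIntegrallyClosedIn K, isIntegrallyClosedIn_iff]
  refine ⟨IsFractionRing.injective A' K, ?_⟩
  intro x hx
  obtain ⟨⟨m, hm⟩, hmx⟩ :=
    IsIntegral.exists_multiple_integral_of_isLocalization (Submonoid.powers s) x hx
  obtain ⟨a, ha⟩ := hsB _ hmx
  -- x = a / (s * m)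
  have hsm : s * m ∈ Submonoid.powers s := mul_mem (Submonoid.mem_powers s) hm
  refine ⟨IsLocalization.mk' A' a ⟨s * m, hsm⟩, ?_⟩
  have h1 : algebraMap A' K (IsLocalization.mk' A' a ⟨s * m, hsm⟩) * algebraMap A K (s * m) =
      algebraMap A K a := by
    rw [IsScalarTower.algebraMap_apply A A' K (s * m), ← map_mul]
    have := IsLocalization.mk'_spec A' a ⟨s * m, hsm⟩
    rw [this, ← IsScalarTower.algebraMap_apply]
  have h2 : x * algebraMap A K (s * m) = algebraMap A K a := by
    rw [ha, Submonoid.smul_def, Algebra.smul_def, Algebra.smul_def, map_mul]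
    ring
  have hunit : IsUnit (algebraMap A K (s * m)) := hu ⟨s * m, hsm⟩
  exact hunit.mul_right_cancel (h1.trans h2.symm)

end alg

section ag

variable (Z : Scheme.{u}) [IsIntegral Z]

theorem genericPoint_mem (U : Z.Opens) [h : Nonempty U] : genericPoint Z ∈ U :=
  ((genericPoint_spec Z).mem_open_set_iff U.isOpen).mpr (by simpa using h)

theorem preimage_eq_top (U : Z.Opens) [Nonempty U] :
    (Z.fromSpecStalk (genericPoint Z)) ⁻¹ᵁ U = ⊤ := by
  ext p
  simp only [Opens.coe_top, Set.mem_univ, iff_true]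
  show (Z.fromSpecStalk (genericPoint Z)) p ∈ U
  have h1 : (Z.fromSpecStalk (genericPoint Z)) p ∈ Set.range (Z.fromSpecStalk (genericPoint Z)) :=
    ⟨p, rfl⟩
  rw [Scheme.range_fromSpecStalk] at h1
  exact h1.mem_open U.isOpen (genericPoint_mem Z U)

/-- sections of the structure sheaf on an affine open have the sections of `Spec K` over the
preimage as fraction ring. -/
theorem isFractionRing_app (U : Z.Opens) (hU : IsAffineOpen U) [Nonempty U] :
    letI := ((Z.fromSpecStalk (genericPoint Z)).app U).hom.toAlgebra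
    IsFractionRing Γ(Z, U)
      Γ(Spec (Z.presheaf.stalk (genericPoint Z)), (Z.fromSpecStalk (genericPoint Z)) ⁻¹ᵁ U) := by
  letI := ((Z.fromSpecStalk (genericPoint Z)).app U).hom.toAlgebra
  haveI := functionField_isFractionRing_of_isAffineOpen Z U hU
  have htop := preimage_eq_top Z U
  haveI : IsIso (homOfLE (le_top : (Z.fromSpecStalk (genericPoint Z)) ⁻¹ᵁ U ≤ ⊤)) :=
    ⟨homOfLE (by rw [htop]), Subsingleton.elim _ _, Subsingleton.elim _ _⟩
  let f : Z.functionField ⟶
      Γ(Spec (Z.presheaf.stalk (genericPoint Z)), (Z.fromSpecStalk (genericPoint Z)) ⁻¹ᵁ U) :=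
    (Scheme.ΓSpecIso (Z.presheaf.stalk (genericPoint Z))).inv ≫
      (Spec (Z.presheaf.stalk (genericPoint Z))).presheaf.map (homOfLE le_top).op
  haveI : IsIso f := by dsimp only [f]; infer_instance
  have hf : (Z.fromSpecStalk (genericPoint Z)).app U = Z.germToFunctionField U ≫ f :=
    Scheme.fromSpecStalk_app (genericPoint_mem Z U)
  let e : Z.functionField ≃+* Γ(Spec (Z.presheaf.stalk (genericPoint Z)),
      (Z.fromSpecStalk (genericPoint Z)) ⁻¹ᵁ U) := (asIso f).commRingCatIsoToRingEquiv
  let e' : Z.functionField ≃ₐ[Γ(Z, U)] Γ(Spec (Z.presheaf.stalk (genericPoint Z)),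
      (Z.fromSpecStalk (genericPoint Z)) ⁻¹ᵁ U) :=
    AlgEquiv.ofRingEquiv (f := e) (fun x => by
      show f.hom ((Z.germToFunctionField U).hom x) =
        ((Z.fromSpecStalk (genericPoint Z)).app U).hom x
      rw [hf]; rfl)
  exact IsLocalization.isLocalization_of_algEquiv _ e'

variable [QuasiCompact (Z.fromSpecStalk (genericPoint Z))]
  [QuasiSeparated (Z.fromSpecStalk (genericPoint Z))]

theorem isIso_app_of_isIntegrallyClosed (U : Z.Opens) (hU : IsAffineOpen U) [Nonempty U]
    (hic : IsIntegrallyClosed Γ(Z, U)) :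
    IsIso ((Z.fromSpecStalk (genericPoint Z)).fromNormalization.app U) := by
  letI := ((Z.fromSpecStalk (genericPoint Z)).app U).hom.toAlgebra
  haveI := isFractionRing_app Z U hU
  rw [Scheme.Hom.fromNormalization_app _ hU]
  have hbij : Function.Bijective (algebraMap Γ(Z, U) (integralClosure Γ(Z, U)
      Γ(Spec (Z.presheaf.stalk (genericPoint Z)), (Z.fromSpecStalk (genericPoint Z)) ⁻¹ᵁ U))) := by
    constructor
    · intro a b hab
      apply IsFractionRing.injective Γ(Z, U)
        Γ(Spec (Z.presheaf.stalk (genericPoint Z)), (Z.fromSpecStalk (genericPoint Z)) ⁻¹ᵁ U)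
      exact congrArg Subtype.val hab
    · rintro ⟨b, hb⟩
      have hbot := IsIntegrallyClosed.integralClosure_eq_bot (R := Γ(Z, U))
        (K := Γ(Spec (Z.presheaf.stalk (genericPoint Z)),
          (Z.fromSpecStalk (genericPoint Z)) ⁻¹ᵁ U))
      rw [hbot] at hb
      obtain ⟨a, ha⟩ := Algebra.mem_bot.mp hb
      exact ⟨a, Subtype.ext ha⟩
  haveI : IsIso (CommRingCat.ofHom (algebraMap Γ(Z, U) (integralClosure Γ(Z, U)
      Γ(Spec (Z.presheaf.stalk (genericPoint Z)), (Z.fromSpecStalk (genericPoint Z)) ⁻¹ᵁ U)))) :=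
    (ConcreteCategory.isIso_iff_bijective _).mpr hbij
  infer_instance

theorem isIso_restrict_of_isIntegrallyClosed (U : Z.Opens) (hU : IsAffineOpen U) [Nonempty U]
    (hic : IsIntegrallyClosed Γ(Z, U)) :
    IsIso ((Z.fromSpecStalk (genericPoint Z)).fromNormalization ∣_ U) := by
  haveI : IsAffine (U : Scheme.{u}) := hU
  have h := (HasAffineProperty.iff_of_isAffine (P := MorphismProperty.isomorphisms Scheme.{u})
    (f := (Z.fromSpecStalk (genericPoint Z)).fromNormalization ∣_ U))
  rw [MorphismProperty.isomorphisms.iff] at h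
  rw [h]
  refine ⟨hU.preimage _, ?_⟩
  rw [morphismRestrict_appTop]
  have key : ∀ (V : Z.Opens) (_ : V = U),
      IsIso ((Z.fromSpecStalk (genericPoint Z)).fromNormalization.app V) := by
    rintro V rfl
    exact isIso_app_of_isIntegrallyClosed Z V hU hic
  have h1 := key (U.ι ''ᵁ ⊤) (by simp)
  have h2 : IsIso ((Z.fromSpecStalk (genericPoint Z)).normalization.presheaf.map
      (eqToHom (image_morphismRestrict_preimage
        (Z.fromSpecStalk (genericPoint Z)).fromNormalization U ⊤)).op) := inferInstance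
  exact IsIso.comp_isIso' h1 h2

theorem finite_integralClosure [IsFinite (Z.fromSpecStalk (genericPoint Z)).fromNormalization]
    (U : Z.Opens) (hU : IsAffineOpen U) [Nonempty U] :
    letI := ((Z.fromSpecStalk (genericPoint Z)).app U).hom.toAlgebra
    Module.Finite Γ(Z, U) (integralClosure Γ(Z, U)
      Γ(Spec (Z.presheaf.stalk (genericPoint Z)), (Z.fromSpecStalk (genericPoint Z)) ⁻¹ᵁ U)) := by
  letI := ((Z.fromSpecStalk (genericPoint Z)).app U).hom.toAlgebra
  have h1 := IsFinite.finite_app (Z.fromSpecStalk (genericPoint Z)).fromNormalization U hU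
  rw [Scheme.Hom.fromNormalization_app _ hU] at h1
  have h2 : (CommRingCat.ofHom (algebraMap Γ(Z, U) (integralClosure Γ(Z, U)
      Γ(Spec (Z.presheaf.stalk (genericPoint Z)),
        (Z.fromSpecStalk (genericPoint Z)) ⁻¹ᵁ U)))).hom.Finite := by
    exact (RingHom.finite_respectsIso.cancel_right_isIso _
      ((Z.fromSpecStalk (genericPoint Z)).normalizationObjIso hU).inv).mp h1
  exact RingHom.finite_algebraMap.mp h2

/-- finite normalisation is an isomorphism over a nonempty open. -/
theorem exists_open_isIso [IsFinite (Z.fromSpecStalk (genericPoint Z)).fromNormalization] :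
    ∃ U : Z.Opens, (U : Set Z).Nonempty ∧
      IsIso ((Z.fromSpecStalk (genericPoint Z)).fromNormalization ∣_ U) := by
  obtain ⟨_, ⟨U₁, hU₁, rfl⟩, hξ, -⟩ := Z.isBasis_affineOpens.exists_subset_of_mem_open
    (Set.mem_univ (genericPoint Z)) isOpen_univ
  haveI : Nonempty U₁ := ⟨⟨_, hξ⟩⟩
  letI := ((Z.fromSpecStalk (genericPoint Z)).app U₁).hom.toAlgebra
  haveI := isFractionRing_app Z U₁ hU₁
  haveI : IsDomain Γ(Z, U₁) := inferInstance
  obtain ⟨s, hs0, hs⟩ := exists_away_isIntegrallyClosed Γ(Z, U₁)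
    Γ(Spec (Z.presheaf.stalk (genericPoint Z)), (Z.fromSpecStalk (genericPoint Z)) ⁻¹ᵁ U₁)
    (finite_integralClosure Z U₁ hU₁)
  have hne : (Z.basicOpen s : Set Z).Nonempty := by
    by_contra hcon
    rw [Set.not_nonempty_iff_eq_empty] at hcon
    have : Z.basicOpen s = ⊥ := by ext; simp [hcon]
    rw [AlgebraicGeometry.basicOpen_eq_bot_iff] at this
    exact hs0 this
  haveI : Nonempty (Z.basicOpen s) := hne.to_subtype
  refine ⟨Z.basicOpen s, hne, ?_⟩
  apply isIso_restrict_of_isIntegrallyClosed Z _ (hU₁.basicOpen s)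
  letI : Algebra Γ(Z, U₁) Γ(Z, Z.basicOpen s) :=
    (Z.presheaf.map (homOfLE (Z.basicOpen_le s)).op).hom.toAlgebra
  haveI : IsLocalization.Away s Γ(Z, Z.basicOpen s) := hU₁.isLocalization_basicOpen s
  exact hs Γ(Z, Z.basicOpen s)

end ag

end Groth.Agent.Helper8.NormOpen
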