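import Groth.Agent.Helper8.BMGen
import Groth.Agent.Helper8.NormOpen
import Groth.Prelude.Def_BMCoh4
import Mathlib

set_option autoImplicit false
universe u
open CategoryTheory AlgebraicGeometry Opposite Limits TopologicalSpace Topology
open BMCoh
open Groth.Agent.Helper8.BMTop Groth.Agent.Helper8.BMSch Groth.Agent.Helper8.BMColim
open Groth.Agent.Helper8.BMBasic Groth.Agent.Helper8.BMPushU Groth.Agent.Helper8.BMAtt
open Groth.Agent.Helper8.BMEx3 Groth.Agent.Helper8.BMEx1 Groth.Agent.Helper8.BMBij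
open Groth.Agent.Helper8.BMNeg Groth.Agent.Helper8.BMPtU Groth.Agent.Helper8.BMGen

namespace Groth.Agent.Helper8.BMNorm

variable {V : ObjectProperty Scheme.{u}} [IsConstructible V] {R : Type u} [CommRing R]
  {A : Coefs R}

section gen

variable {Y X : Obj V} (φ : Y.scheme ⟶ X.scheme) (y : Y.scheme) (x : X.scheme)
  (hyx : φ y = x)

theorem barφ_ptGen (ξy : (Y.ptSub y).scheme) (hξy : Y.ptSubι y ξy = y)
    (ξx : (X.ptSub x).scheme) (hξx : X.ptSubι x ξx = x) :
    barφ φ y x hyx ξy = ξx := by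
  apply (X.ptSubι x).isClosedEmbedding.injective
  have := congrArg (fun g => g ξy) (barφ_fac φ y x hyx)
  simp only [Scheme.Hom.comp_apply] at this
  rw [this, hξy, hyx, hξx]

theorem preimage_nonempty (W' : (X.ptSub x).scheme.Opens)
    (hne : (W' : Set (X.ptSub x).scheme).Nonempty) :
    (((barφ φ y x hyx) ⁻¹ᵁ W' : (Y.ptSub y).scheme.Opens) : Set (Y.ptSub y).scheme).Nonempty := by
  obtain ⟨ξy, hξy⟩ := exists_ptGen Y y
  obtain ⟨ξx, hξx⟩ := exists_ptGen X x
  refine ⟨ξy, ?_⟩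
  show barφ φ y x hyx ξy ∈ W'
  rw [barφ_ptGen φ y x hyx ξy hξy ξx hξx]
  exact ptGen_mem X x ξx hξx W' hne

/-- a nonempty open of the closure of `x` as an index. -/
noncomputable abbrev idxX (W' : (X.ptSub x).scheme.Opens) (hne : (W' : Set (X.ptSub x).scheme).Nonempty) :
    ptIdx X x :=
  ⟨W', hne, IsConstructible.dim_open (X.ptSub x).mem inferInstance _ hne⟩

/-- its preimage in the closure of `y` as an index. -/
noncomputable abbrev idxY (W' : (X.ptSub x).scheme.Opens) (hne : (W' : Set (X.ptSub x).scheme).Nonempty) :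
    ptIdx Y y :=
  ⟨(barφ φ y x hyx) ⁻¹ᵁ W', preimage_nonempty φ y x hyx W' hne,
    IsConstructible.dim_open (Y.ptSub y).mem inferInstance _
      (preimage_nonempty φ y x hyx W' hne)⟩

theorem relCodim_restrict (hcd : WeilCoh.pdim X.scheme x = WeilCoh.pdim Y.scheme y)
    (W' : (X.ptSub x).scheme.Opens) (hne : (W' : Set (X.ptSub x).scheme).Nonempty) :
    relCodim ((Y.ptSub y).res (idxY φ y x hyx W' hne).1).scheme
      ((X.ptSub x).res (idxX x W' hne).1).scheme = 0 := by
  show relCodim (((barφ φ y x hyx) ⁻¹ᵁ W' : (Y.ptSub y).scheme.Opens) : Scheme.{u})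
    (W' : Scheme.{u}) = 0
  unfold relCodim
  rw [dim_ptOpen Y y _ (preimage_nonempty φ y x hyx W' hne), dim_ptOpen X x _ hne, hcd]
  exact sub_self _

theorem pdim_eq_of_ptPush (T : PreTheory V R A) (L : T.PtPush φ y x) :
    WeilCoh.pdim X.scheme x = WeilCoh.pdim Y.scheme y := by
  have := L.codim_eq
  unfold relCodim at this
  rw [dim_ptSub, dim_ptSub] at this
  omega

theorem spec_restrict [IsProper φ] (T : PreTheory V R A) (L : T.PtPush φ y x) (M : A.Cat)
    (i n : ℤ) (W' : (X.ptSub x).scheme.Opens) (hne : (W' : Set (X.ptSub x).scheme).Nonempty)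
    (hi' : i = i + 2 * relCodim ((Y.ptSub y).res (idxY φ y x hyx W' hne).1).scheme
      ((X.ptSub x).res (idxX x W' hne).1).scheme)
    (hn' : n = n + relCodim ((Y.ptSub y).res (idxY φ y x hyx W' hne).1).scheme
      ((X.ptSub x).res (idxX x W' hne).1).scheme) :
    (T.ptι Y y i n (idxY φ y x hyx W' hne)).app M ≫ L.cpt M i n =
      T.push (X := (Y.ptSub y).res (idxY φ y x hyx W' hne).1)
        (Y := (X.ptSub x).res (idxX x W' hne).1)
        ((barφ φ y x hyx) ∣_ W') M i n i n hi' hn' ≫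
        (T.ptι X x i n (idxX x W' hne)).app M := by
  have hf : ((barφ φ y x hyx) ∣_ W') ≫ (idxX x W' hne).1.ι ≫ X.ptSubι x =
      (idxY φ y x hyx W' hne).1.ι ≫ Y.ptSubι y ≫ φ := by
    rw [← Category.assoc]
    show ((barφ φ y x hyx) ∣_ W' ≫ W'.ι) ≫ _ = _
    rw [morphismRestrict_ι, Category.assoc, barφ_fac]
  exact L.cpt_spec M i n (idxY φ y x hyx W' hne) (idxX x W' hne)
    ((barφ φ y x hyx) ∣_ W') hf hi' hn'

/-- small opens of the closure of `x` whose preimage lies in a given nonempty open. -/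
theorem exists_small [IsProper φ] (hcd : WeilCoh.pdim X.scheme x = WeilCoh.pdim Y.scheme y)
    (W : (Y.ptSub y).scheme.Opens) (hW : (W : Set (Y.ptSub y).scheme).Nonempty) :
    ∃ W'0 : (X.ptSub x).scheme.Opens, (W'0 : Set (X.ptSub x).scheme).Nonempty ∧
      (barφ φ y x hyx) ⁻¹ᵁ W'0 ≤ W := by
  obtain ⟨ξy, hξy⟩ := exists_ptGen Y y
  obtain ⟨ξx, hξx⟩ := exists_ptGen X x
  have hξ := barφ_ptGen φ y x hyx ξy hξy ξx hξx
  have hcl : IsClosed ((barφ φ y x hyx) '' ((W : Set (Y.ptSub y).scheme)ᶜ)) :=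
    (barφ φ y x hyx).isClosedMap _ W.isOpen.isClosed_compl
  let W'0 : (X.ptSub x).scheme.Opens := ⟨_, hcl.isOpen_compl⟩
  have hξW : ξy ∈ W := ptGen_mem Y y ξy hξy W hW
  have hξx' : ξx ∈ W'0 := by
    rintro ⟨z, hz, hzx⟩
    have hzy : z ≠ ξy := fun h => hz (h ▸ hξW)
    have h1 : (Y.ptSubι y) z ∈ closure ({y} : Set Y.scheme) := by
      rw [← range_ptSubι]; exact ⟨z, rfl⟩
    have hsp : y ⤳ (Y.ptSubι y) z := specializes_iff_mem_closure.mpr h1
    have hne : (Y.ptSubι y) z ≠ y := by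
      intro h
      apply hzy
      apply (Y.ptSubι y).isClosedEmbedding.injective
      rw [h, hξy]
    have hlt := pdim_lt_of_specializes Y hsp hne
    have hφz : φ ((Y.ptSubι y) z) = x := by
      have := congrArg (fun g => g z) (barφ_fac φ y x hyx)
      simp only [Scheme.Hom.comp_apply] at this
      rw [← this, hzx, hξx]
    have hle : WeilCoh.pdim X.scheme x ≤ WeilCoh.pdim Y.scheme ((Y.ptSubι y) z) := by
      rw [pdim_eq_ht, pdim_eq_ht, ← hφz]
      exact ENat.toNat_le_toNat (ht_map_le φ φ.continuous φ.isClosedMap _)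
        (ht_lt_top Y _).ne
    omega
  refine ⟨W'0, ⟨ξx, hξx'⟩, ?_⟩
  intro w hw
  by_contra hwW
  exact hw ⟨w, hwW, rfl⟩

end gen

section bij

variable {Y X : Obj V} (φ : Y.scheme ⟶ X.scheme) [IsProper φ] (y : Y.scheme) (x : X.scheme)
  (hyx : φ y = x)

/-- the restriction of `barφ` over a small open as a morphism of objects. -/
noncomputable def resHom (hcd : WeilCoh.pdim X.scheme x = WeilCoh.pdim Y.scheme y)
    (W' : (X.ptSub x).scheme.Opens) (hne : (W' : Set (X.ptSub x).scheme).Nonempty)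
    [IsIso ((barφ φ y x hyx) ∣_ W')] :
    (Y.ptSub y).res (idxY φ y x hyx W' hne).1 ⟶ (X.ptSub x).res (idxX x W' hne).1 :=
  ⟨(barφ φ y x hyx) ∣_ W', inferInstance, by
    have h := relCodim_restrict φ y x hyx hcd W' hne
    unfold relCodim at h
    have h2 : (WeilCoh.dim ((X.ptSub x).res (idxX x W' hne).1).scheme : ℤ) =
        WeilCoh.dim ((Y.ptSub y).res (idxY φ y x hyx W' hne).1).scheme := by linarith
    exact_mod_cast h2.symm⟩

instance resHom_isIso (hcd : WeilCoh.pdim X.scheme x = WeilCoh.pdim Y.scheme y)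
    (W' : (X.ptSub x).scheme.Opens) (hne : (W' : Set (X.ptSub x).scheme).Nonempty)
    [IsIso ((barφ φ y x hyx) ∣_ W')] : IsIso (resHom φ y x hyx hcd W' hne).hom :=
  inferInstanceAs (IsIso ((barφ φ y x hyx) ∣_ W'))

instance resHom_isProper (hcd : WeilCoh.pdim X.scheme x = WeilCoh.pdim Y.scheme y)
    (W' : (X.ptSub x).scheme.Opens) (hne : (W' : Set (X.ptSub x).scheme).Nonempty)
    [IsIso ((barφ φ y x hyx) ∣_ W')] : IsProper (resHom φ y x hyx hcd W' hne).hom :=
  inferInstanceAs (IsProper ((barφ φ y x hyx) ∣_ W'))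

theorem nested_isPullback (W'' W' : (X.ptSub x).scheme.Opens) (hle : W'' ≤ W') :
    IsPullback ((Y.ptSub y).scheme.homOfLE ((barφ φ y x hyx).preimage_mono hle))
      ((barφ φ y x hyx) ∣_ W'') ((barφ φ y x hyx) ∣_ W')
      ((X.ptSub x).scheme.homOfLE hle) := by
  have big := isPullback_morphismRestrict (barφ φ y x hyx) W''
  have right := isPullback_morphismRestrict (barφ φ y x hyx) W'
  refine IsPullback.of_right (h₁₂ := ((barφ φ y x hyx) ⁻¹ᵁ W').ι) (h₂₂ := W'.ι)
    (v₁₃ := barφ φ y x hyx) ?_ ?_ right.flip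
  · rw [Scheme.homOfLE_ι, Scheme.homOfLE_ι]
    exact big.flip
  · rw [← cancel_mono W'.ι]
    simp only [Category.assoc]
    rw [morphismRestrict_ι, Scheme.homOfLE_ι, Scheme.homOfLE_ι_assoc, morphismRestrict_ι]

theorem bijective_of_isIso_restrict (T : PreTheory V R A) (L : T.PtPush φ y x)
    (U₀ : (X.ptSub x).scheme.Opens) (hU₀ : (U₀ : Set (X.ptSub x).scheme).Nonempty)
    (hiso : ∀ W' : (X.ptSub x).scheme.Opens, W' ≤ U₀ → IsIso ((barφ φ y x hyx) ∣_ W'))
    (M : A.Cat) (i n : ℤ) : Function.Bijective (L.cpt M i n).hom := by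
  have hcd := pdim_eq_of_ptPush φ y x T L
  obtain ⟨ξx, hξx⟩ := exists_ptGen X x
  have hξU : ξx ∈ U₀ := ptGen_mem X x ξx hξx U₀ hU₀
  constructor
  · -- injectivity
    rw [← LinearMap.ker_eq_bot, LinearMap.ker_eq_bot']
    intro a ha
    obtain ⟨W₁, a₁, rfl⟩ := ocolim_rep T (Y.ptSub y) _ (pt_dir Y y) (pt_ne Y y) i n M a
    obtain ⟨W'0, hW'0ne, hW'0le⟩ := exists_small φ y x hyx hcd W₁.1 W₁.2.1
    have hne' : ((W'0 ⊓ U₀ : (X.ptSub x).scheme.Opens) : Set (X.ptSub x).scheme).Nonempty :=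
      ⟨ξx, ptGen_mem X x ξx hξx W'0 hW'0ne, hξU⟩
    set W' : (X.ptSub x).scheme.Opens := W'0 ⊓ U₀ with hW'
    haveI : IsIso ((barφ φ y x hyx) ∣_ W') := hiso W' inf_le_right
    have hle1 : (idxY φ y x hyx W' hne').1 ≤ W₁.1 :=
      le_trans ((barφ φ y x hyx).preimage_mono inf_le_left) hW'0le
    have hd1 := (idxY φ y x hyx W' hne').2.2.trans W₁.2.2.symm
    have hrel := relCodim_restrict φ y x hyx hcd W' hne'
    have hi' : i = i + 2 * relCodim ((Y.ptSub y).res (idxY φ y x hyx W' hne').1).scheme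
        ((X.ptSub x).res (idxX x W' hne').1).scheme := by rw [hrel]; ring
    have hn' : n = n + relCodim ((Y.ptSub y).res (idxY φ y x hyx W' hne').1).scheme
        ((X.ptSub x).res (idxX x W' hne').1).scheme := by rw [hrel]; ring
    have e1 := comp_elem (ocolimι_res T (Y.ptSub y) _ i n (idxY φ y x hyx W' hne') W₁ hle1 hd1 M)
      a₁
    have e2 := comp_elem (spec_restrict φ y x hyx T L M i n W' hne' hi' hn')
      ((T.pull ((Y.ptSub y).resLE hle1 hd1) M i n).hom a₁)
    simp only [ModuleCat.hom_comp, LinearMap.comp_apply] at e2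
    rw [e1] at e2
    rw [ha] at e2
    -- the push-forward class vanishes on a smaller open
    obtain ⟨W'', hle'', hz⟩ := ocolim_eq_zero T (X.ptSub x) _ (pt_dir X x) (pt_ne X x) i n M
      (idxX x W' hne') _ e2.symm
    have hW''ne : (W''.1 : Set (X.ptSub x).scheme).Nonempty := W''.2.1
    have hle''' : W''.1 ≤ W' := hle''
    haveI : IsIso ((barφ φ y x hyx) ∣_ W''.1) := hiso W''.1 (le_trans hle''' inf_le_right)
    have hrel'' := relCodim_restrict φ y x hyx hcd W''.1 hW''ne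
    have hi'' : i = i + 2 * relCodim ((Y.ptSub y).res (idxY φ y x hyx W''.1 hW''ne).1).scheme
        ((X.ptSub x).res (idxX x W''.1 hW''ne).1).scheme := by rw [hrel'']; ring
    have hn'' : n = n + relCodim ((Y.ptSub y).res (idxY φ y x hyx W''.1 hW''ne).1).scheme
        ((X.ptSub x).res (idxX x W''.1 hW''ne).1).scheme := by rw [hrel'']; ring
    have hleY : (idxY φ y x hyx W''.1 hW''ne).1 ≤ (idxY φ y x hyx W' hne').1 :=
      (barφ φ y x hyx).preimage_mono hle'''
    have hdY := (idxY φ y x hyx W''.1 hW''ne).2.2.trans (idxY φ y x hyx W' hne').2.2.symm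
    have hpp := T.push_pull (X := (Y.ptSub y).res (idxY φ y x hyx W' hne').1)
      (Y := (X.ptSub x).res (idxX x W' hne').1)
      (X' := (Y.ptSub y).res (idxY φ y x hyx W''.1 hW''ne).1)
      (Y' := (X.ptSub x).res (idxX x W''.1 hW''ne).1)
      ((barφ φ y x hyx) ∣_ W') ((barφ φ y x hyx) ∣_ W''.1)
      ((X.ptSub x).resLE hle''' (W''.2.2.trans (idxX x W' hne').2.2.symm))
      ((Y.ptSub y).resLE hleY hdY)
      (nested_isPullback φ y x hyx W''.1 W' hle''') M i n i n hi' hn' hi'' hn''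
    have e3 := comp_elem hpp ((T.pull ((Y.ptSub y).resLE hle1 hd1) M i n).hom a₁)
    simp only [ModuleCat.hom_comp, LinearMap.comp_apply] at e3
    erw [hz] at e3
    -- injectivity of the push-forward along an isomorphism
    have hinj := push_injective T (resHom φ y x hyx hcd W''.1 hW''ne) M i n i n hi'' hn''
    have hz2 : (T.pull ((Y.ptSub y).resLE hleY hdY) M i n).hom
        ((T.pull ((Y.ptSub y).resLE hle1 hd1) M i n).hom a₁) = 0 := by
      apply hinj
      rw [map_zero]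
      exact e3.symm
    have hle2 : (idxY φ y x hyx W''.1 hW''ne).1 ≤ W₁.1 := le_trans hleY hle1
    have hd2 := (idxY φ y x hyx W''.1 hW''ne).2.2.trans W₁.2.2.symm
    have e4 := comp_elem (ocolimι_res T (Y.ptSub y) _ i n (idxY φ y x hyx W''.1 hW''ne) W₁
      hle2 hd2 M) a₁
    rw [← e4]
    have hcomp : (Y.ptSub y).resLE hle2 hd2 =
        (Y.ptSub y).resLE hleY hdY ≫ (Y.ptSub y).resLE hle1 hd1 :=
      Hom.ext (Scheme.homOfLE_homOfLE (Y.ptSub y).scheme hleY hle1).symm
    rw [hcomp, pull_comp]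
    simp only [ModuleCat.hom_comp, LinearMap.comp_apply]
    rw [hz2, map_zero]
  · -- surjectivity
    intro b
    obtain ⟨W₂, b₂, rfl⟩ := ocolim_rep T (X.ptSub x) _ (pt_dir X x) (pt_ne X x) i n M b
    have hne' : ((W₂.1 ⊓ U₀ : (X.ptSub x).scheme.Opens) : Set (X.ptSub x).scheme).Nonempty :=
      ⟨ξx, ptGen_mem X x ξx hξx W₂.1 W₂.2.1, hξU⟩
    set W' : (X.ptSub x).scheme.Opens := W₂.1 ⊓ U₀ with hW'
    haveI : IsIso ((barφ φ y x hyx) ∣_ W') := hiso W' inf_le_right
    have hle1 : (idxX x W' hne').1 ≤ W₂.1 := inf_le_left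
    have hd1 := (idxX x W' hne').2.2.trans W₂.2.2.symm
    have hrel := relCodim_restrict φ y x hyx hcd W' hne'
    have hi' : i = i + 2 * relCodim ((Y.ptSub y).res (idxY φ y x hyx W' hne').1).scheme
        ((X.ptSub x).res (idxX x W' hne').1).scheme := by rw [hrel]; ring
    have hn' : n = n + relCodim ((Y.ptSub y).res (idxY φ y x hyx W' hne').1).scheme
        ((X.ptSub x).res (idxX x W' hne').1).scheme := by rw [hrel]; ring
    have e1 := comp_elem (ocolimι_res T (X.ptSub x) _ i n (idxX x W' hne') W₂ hle1 hd1 M) b₂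
    set c := (T.pull ((X.ptSub x).resLE hle1 hd1) M i n).hom b₂ with hc
    have e2 := push_pull_of_isIso T (resHom φ y x hyx hcd W' hne') M i n hi' hn' c
    refine ⟨((T.ptι Y y i n (idxY φ y x hyx W' hne')).app M).hom
      ((T.pull (resHom φ y x hyx hcd W' hne') M i n).hom c), ?_⟩
    have e3 := comp_elem (spec_restrict φ y x hyx T L M i n W' hne' hi' hn')
      ((T.pull (resHom φ y x hyx hcd W' hne') M i n).hom c)
    rw [e3]
    simp only [ModuleCat.hom_comp, LinearMap.comp_apply]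
    erw [e2]
    exact e1

end bij

end Groth.Agent.Helper8.BMNorm
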