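import Groth.Agent.Helper8.BMBig
import Groth.Prelude.Def_BMCoh4
import Mathlib

set_option autoImplicit false
universe u
open CategoryTheory AlgebraicGeometry Opposite Limits TopologicalSpace Topology
open BMCoh
open Groth.Agent.Helper8.BMTop Groth.Agent.Helper8.BMSch Groth.Agent.Helper8.BMColim
open Groth.Agent.Helper8.BMBasic Groth.Agent.Helper8.BMPushU Groth.Agent.Helper8.BMAtt
open Groth.Agent.Helper8.BMEx3 Groth.Agent.Helper8.BMEx1 Groth.Agent.Helper8.BMBij
open Groth.Agent.Helper8.BMNeg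

namespace Groth.Agent.Helper8.BMPtU

/-- the kernel of a morphism from a reduced scheme is the vanishing ideal of the closure of its
range (copied from Helper3.SecExt). -/
theorem ker_eq_vanishingIdeal {W X : Scheme.{u}} [IsReduced W] (g : W ⟶ X) :
    g.ker = Scheme.IdealSheafData.vanishingIdeal ⟨closure (Set.range g), isClosed_closure⟩ := by
  have h := Scheme.IdealSheafData.map_vanishingIdeal g ⊤
  rw [Scheme.IdealSheafData.vanishingIdeal_top, Scheme.nilradical_eq_bot,
    Scheme.IdealSheafData.map_bot] at h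
  rw [h]
  congr 1
  ext x
  simp

variable {V : ObjectProperty Scheme.{u}} [IsConstructible V] {R : Type u} [CommRing R]
  {A : Coefs R}

instance (X : Obj V) (x : X.scheme) : IsReduced (X.ptSub x).scheme :=
  isReduced_vanishingIdeal_subscheme _

section barphi

variable {Y X : Obj V} (φ : Y.scheme ⟶ X.scheme) (y : Y.scheme) (x : X.scheme)
  (hyx : φ y = x)

include hyx in
theorem ker_le : (X.ptSubι x).ker ≤ (Y.ptSubι y ≫ φ).ker := by
  rw [Scheme.IdealSheafData.ker_subschemeι, ker_eq_vanishingIdeal]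
  apply Scheme.IdealSheafData.vanishingIdeal_antimono
  show closure (Set.range (Y.ptSubι y ≫ φ)) ⊆ closure {x}
  apply closure_minimal _ isClosed_closure
  rintro _ ⟨w, rfl⟩
  have h1 : (Y.ptSubι y) w ∈ closure ({y} : Set Y.scheme) := by
    rw [← range_ptSubι]; exact ⟨w, rfl⟩
  have h2 : y ⤳ (Y.ptSubι y) w := specializes_iff_mem_closure.mpr h1
  have h3 := h2.map φ.continuous
  rw [hyx] at h3
  exact specializes_iff_mem_closure.mp h3

/-- the morphism induced between the reduced closures. -/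
noncomputable def barφ : (Y.ptSub y).scheme ⟶ (X.ptSub x).scheme :=
  IsClosedImmersion.lift (X.ptSubι x) (Y.ptSubι y ≫ φ) (ker_le φ y x hyx)

@[reassoc]
theorem barφ_fac : barφ φ y x hyx ≫ X.ptSubι x = Y.ptSubι y ≫ φ :=
  IsClosedImmersion.lift_fac _ _ _

instance [IsProper φ] : IsProper (barφ φ y x hyx) := by
  haveI : IsProper (barφ φ y x hyx ≫ X.ptSubι x) := by
    rw [barφ_fac]; infer_instance
  exact IsProper.of_comp _ (X.ptSubι x)

end barphi

theorem ptPush_cpt_eq (T : PreTheory V R A) (Y X : Obj V) (φ : Y.scheme ⟶ X.scheme) [IsProper φ]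
    (y : Y.scheme) (x : X.scheme) (L L' : T.PtPush φ y x) (M : A.Cat) (i n : ℤ) :
    L.cpt M i n = L'.cpt M i n := by
  apply ocolim_ext
  intro W
  have hyx : φ y = x := L.maps_pt
  have hcd : WeilCoh.pdim X.scheme x = WeilCoh.pdim Y.scheme y := by
    have := L.codim_eq
    unfold relCodim at this
    rw [dim_ptSub, dim_ptSub] at this
    omega
  obtain ⟨ξy, hξy⟩ := exists_ptGen Y y
  obtain ⟨ξx, hξx⟩ := exists_ptGen X x
  have hξ : barφ φ y x hyx ξy = ξx := by
    apply (X.ptSubι x).isClosedEmbedding.injective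
    have := congrArg (fun g => g ξy) (barφ_fac φ y x hyx)
    simp only [Scheme.Hom.comp_apply] at this
    rw [this, hξy, hyx, hξx]
  -- the open W'0
  have hcl : IsClosed ((barφ φ y x hyx) '' ((W.1 : Set (Y.ptSub y).scheme)ᶜ)) :=
    (barφ φ y x hyx).isClosedMap _ W.1.isOpen.isClosed_compl
  let W'0 : (X.ptSub x).scheme.Opens := ⟨_, hcl.isOpen_compl⟩
  have hξW : ξy ∈ W.1 := ptGen_mem Y y ξy hξy W.1 W.2.1
  have hξx' : ξx ∈ W'0 := by
    rintro ⟨z, hz, hzx⟩
    -- z ∉ W, barφ z = ξx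
    have hzy : z ≠ ξy := fun h => hz (h ▸ hξW)
    have h1 : (Y.ptSubι y) z ∈ closure ({y} : Set Y.scheme) := by
      rw [← range_ptSubι]; exact ⟨z, rfl⟩
    have hsp : y ⤳ (Y.ptSubι y) z := specializes_iff_mem_closure.mpr h1
    have hne : (Y.ptSubι y) z ≠ y := by
      intro h
      apply hzy
      apply (Y.ptSubι y).isClosedEmbedding.injective
      rw [h, hξy]
    have hlt := pdim_lt_of_specializes Y hsp hne
    have hφz : φ ((Y.ptSubι y) z) = x := by
      have := congrArg (fun g => g z) (barφ_fac φ y x hyx)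
      simp only [Scheme.Hom.comp_apply] at this
      rw [← this, hzx, hξx]
    have hle : WeilCoh.pdim X.scheme x ≤ WeilCoh.pdim Y.scheme ((Y.ptSubι y) z) := by
      rw [pdim_eq_ht, pdim_eq_ht, ← hφz]
      exact ENat.toNat_le_toNat (ht_map_le φ φ.continuous φ.isClosedMap _)
        (ht_lt_top Y _).ne
    omega
  have hW'ne : (W'0 : Set (X.ptSub x).scheme).Nonempty := ⟨ξx, hξx'⟩
  have hW0le : (barφ φ y x hyx) ⁻¹ᵁ W'0 ≤ W.1 := by
    intro w hw
    by_contra hwW
    exact hw ⟨w, hwW, rfl⟩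
  have hW0ne : (((barφ φ y x hyx) ⁻¹ᵁ W'0 : (Y.ptSub y).scheme.Opens) :
      Set (Y.ptSub y).scheme).Nonempty := ⟨ξy, by show barφ φ y x hyx ξy ∈ W'0; rw [hξ]; exact hξx'⟩
  have hW0d := IsConstructible.dim_open (Y.ptSub y).mem inferInstance _ hW0ne
  have hW'd := IsConstructible.dim_open (X.ptSub x).mem inferInstance _ hW'ne
  let W0i : ptIdx Y y := ⟨(barφ φ y x hyx) ⁻¹ᵁ W'0, hW0ne, hW0d⟩
  let W'i : ptIdx X x := ⟨W'0, hW'ne, hW'd⟩
  let f : ((Y.ptSub y).res W0i.1).scheme ⟶ ((X.ptSub x).res W'i.1).scheme :=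
    (barφ φ y x hyx) ∣_ W'0
  haveI : IsProper f := inferInstanceAs (IsProper ((barφ φ y x hyx) ∣_ W'0))
  have hf : f ≫ W'i.1.ι ≫ X.ptSubι x = W0i.1.ι ≫ Y.ptSubι y ≫ φ := by
    rw [← Category.assoc]
    show ((barφ φ y x hyx) ∣_ W'0 ≫ W'0.ι) ≫ _ = _
    rw [morphismRestrict_ι, Category.assoc, barφ_fac]
  have hrel : relCodim ((Y.ptSub y).res W0i.1).scheme ((X.ptSub x).res W'i.1).scheme = 0 := by
    show relCodim (((barφ φ y x hyx) ⁻¹ᵁ W'0 : (Y.ptSub y).scheme.Opens) : Scheme.{u})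
      (W'0 : Scheme.{u}) = 0
    unfold relCodim
    rw [dim_ptOpen Y y _ hW0ne, dim_ptOpen X x _ hW'ne, hcd]
    exact sub_self _
  have hi' : i = i + 2 * relCodim ((Y.ptSub y).res W0i.1).scheme
      ((X.ptSub x).res W'i.1).scheme := by rw [hrel]; ring
  have hn' : n = n + relCodim ((Y.ptSub y).res W0i.1).scheme
      ((X.ptSub x).res W'i.1).scheme := by rw [hrel]; ring
  have e1 := L.cpt_spec M i n W0i W'i f hf hi' hn'
  have e2 := L'.cpt_spec M i n W0i W'i f hf hi' hn'
  have h3 := ocolimι_res T (Y.ptSub y) _ i n W0i W hW0le (hW0d.trans W.2.2.symm) M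
  rw [← h3, Category.assoc, Category.assoc]
  exact congrArg _ (e1.trans e2.symm)

theorem main (T : PreTheory V R A) (Y X : Obj V) (φ : Y.scheme ⟶ X.scheme) [IsProper φ]
    (y : Y.scheme) (x : X.scheme) : Subsingleton (T.PtPush φ y x) := by
  constructor
  intro L L'
  have h : L.cpt = L'.cpt := by
    funext M i n
    exact ptPush_cpt_eq T Y X φ y x L L' M i n
  cases L; cases L'
  simp only at h
  subst h
  rfl

end Groth.Agent.Helper8.BMPtU
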