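import Groth.Agent.Helper8.BMSch
import Groth.Agent.Helper8.BMColim
import Groth.Prelude.Def_BMCoh3
import Mathlib

set_option autoImplicit false
universe u
open CategoryTheory AlgebraicGeometry Opposite Limits TopologicalSpace Topology
open BMCoh
open Groth.Agent.Helper8.BMTop Groth.Agent.Helper8.BMSch Groth.Agent.Helper8.BMColim

namespace Groth.Agent.Helper8.BMPushU

section opens
variable {Z X : Scheme.{u}} (ι : Z ⟶ X) [IsClosedImmersion ι] (W : Z.Opens)

/-- the complement of `ι (Z ∖ W)`. -/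
def bigOpen : X.Opens :=
  ⟨(ι '' (W : Set Z)ᶜ)ᶜ, (ι.isClosedEmbedding.isClosedMap _ W.isOpen.isClosed_compl).isOpen_compl⟩

/-- the complement of the range of `ι`. -/
def outOpen : X.Opens := ⟨(Set.range ι)ᶜ, ι.isClosedEmbedding.isClosed_range.isOpen_compl⟩

theorem outOpen_le_bigOpen : outOpen ι ≤ bigOpen ι W := by
  intro y hy
  intro ⟨w, _, hw⟩
  exact hy ⟨w, hw⟩

theorem bigOpen_eq : (bigOpen ι W : Set X) = (outOpen ι : Set X) ∪ ι '' (W : Set Z) := by
  ext y
  constructor
  · intro hy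
    by_cases h : y ∈ Set.range ι
    · obtain ⟨w, rfl⟩ := h
      right
      refine ⟨w, ?_, rfl⟩
      by_contra hw
      exact hy ⟨w, hw, rfl⟩
    · left; exact h
  · rintro (h | ⟨w, hw, rfl⟩)
    · exact outOpen_le_bigOpen ι W h
    · rintro ⟨w', hw', h'⟩
      have := ι.isClosedEmbedding.injective h'
      subst this
      exact hw' hw

theorem disjoint_outOpen : Disjoint (outOpen ι : Set X) (Set.range ι) := by
  rw [Set.disjoint_left]
  intro y hy hy'
  exact hy hy'

end opens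

variable {V : ObjectProperty Scheme.{u}} [IsConstructible V] {R : Type u} [CommRing R]
  {A : Coefs R}

theorem containsFj_bigOpen (X : Obj V) (j : ℕ) (x : X.scheme)
    (hx : WeilCoh.codim X.scheme x ≤ j + 0 ∧ j ≤ WeilCoh.codim X.scheme x)
    (W : (X.ptSub x).scheme.Opens) (hW : (W : Set (X.ptSub x).scheme).Nonempty) :
    ContainsFj X j (bigOpen (X.ptSubι x) W) := by
  intro y hy
  rintro ⟨w, hw, rfl⟩
  obtain ⟨ξ, hξ⟩ := exists_ptGen X x
  have hξW := ptGen_mem X x ξ hξ W hW
  have hne : (X.ptSubι x) w ≠ x := by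
    intro h
    have := (X.ptSubι x).isClosedEmbedding.injective (h.trans hξ.symm)
    subst this
    exact hw hξW
  have hsp : x ⤳ (X.ptSubι x) w := by
    rw [specializes_iff_mem_closure, ← range_ptSubι]
    exact ⟨w, rfl⟩
  have := codim_lt_of_specializes X hsp hne
  omega

theorem pushData_cpt_eq (T : PreTheory V R A) (X : Obj V) (j : ℕ) (P P' : T.PushData X j)
    (x : X.cdPt j) (M : A.Cat) (i n i' n' : ℤ) (hi : i' = i + 2 * (j : ℤ))
    (hn : n' = n + (j : ℤ)) :
    P.cpt x M i n i' n' hi hn = P'.cpt x M i n i' n' hi hn := by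
  apply ocolim_ext
  intro W
  have hWne : (W.1 : Set (X.ptSub x.1).scheme).Nonempty := W.2.1
  let Y : X.scheme.Opens := bigOpen (X.ptSubι x.1) W.1
  have hYF : ContainsFj X j Y :=
    containsFj_bigOpen X j x.1 ⟨by rw [x.2]; omega, by rw [x.2]⟩ W.1 hWne
  have hYd : WeilCoh.dim (Y : Scheme.{u}) = WeilCoh.dim X.scheme := dim_of_containsFj X j Y hYF
  let U : Idx X (ContainsFj X j) := ⟨Y, hYF, hYd⟩
  let f : ((X.ptSub x.1).res W.1).scheme ⟶ (X.res U.1).scheme :=
    lcLift X (X.ptSub x.1) (X.ptSubι x.1) W.1 (outOpen (X.ptSubι x.1)) Y (bigOpen_eq _ _)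
  haveI : IsClosedImmersion f :=
    isClosedImmersion_lcLift X (X.ptSub x.1) (X.ptSubι x.1) W.1 (outOpen (X.ptSubι x.1)) Y
      (bigOpen_eq _ _) (by rw [range_ptSubι]; exact (range_ptSubι X x.1) ▸ disjoint_outOpen _)
  have hf : f ≫ U.1.ι = W.1.ι ≫ X.ptSubι x.1 := lcLift_fac _ _ _ _ _ _ _
  have hrel : relCodim ((X.ptSub x.1).res W.1).scheme (X.res U.1).scheme = (j : ℤ) := by
    unfold relCodim
    have h1 : WeilCoh.dim ((X.ptSub x.1).res W.1).scheme = WeilCoh.pdim X.scheme x.1 :=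
      dim_ptOpen X x.1 W.1 hWne
    have h2 : WeilCoh.dim (X.res U.1).scheme = WeilCoh.dim X.scheme := hYd
    rw [h1, h2, ← codim_cast, x.2]
  rw [P.cpt_spec x M i n i' n' hi hn U W f hf (by rw [hrel]; exact hi) (by rw [hrel]; exact hn),
    P'.cpt_spec x M i n i' n' hi hn U W f hf (by rw [hrel]; exact hi) (by rw [hrel]; exact hn)]

theorem main (T : PreTheory V R A) (X : Obj V) (j : ℕ) : Subsingleton (T.PushData X j) := by
  constructor
  intro P P'
  have h : P.cpt = P'.cpt := by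
    funext x M i n i' n' hi hn
    exact pushData_cpt_eq T X j P P' x M i n i' n' hi hn
  cases P; cases P'
  simp only at h
  subst h
  rfl

end Groth.Agent.Helper8.BMPushU
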