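import Groth.Agent.Helper8.BMEx1
import Mathlib

set_option autoImplicit false
universe u
open CategoryTheory AlgebraicGeometry Opposite Limits TopologicalSpace Topology
open BMCoh
open Groth.Agent.Helper8.BMTop Groth.Agent.Helper8.BMSch Groth.Agent.Helper8.BMColim
open Groth.Agent.Helper8.BMBasic Groth.Agent.Helper8.BMPushU Groth.Agent.Helper8.BMAtt
open Groth.Agent.Helper8.BMEx3 Groth.Agent.Helper8.BMEx1

namespace Groth.Agent.Helper8.BMResU

variable {V : ObjectProperty Scheme.{u}} [IsConstructible V] {R : Type u} [CommRing R]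
  {A : Coefs R} (T : PreTheory V R A) (X : Obj V) (j : ℕ)

theorem resData_cpt_eq (Q Q' : T.ResData X j) (x : X.cdPt (j + 1)) (M : A.Cat)
    (i n i' n' : ℤ) (hi : i' = i + 1 - 2 * ((j : ℤ) + 1)) (hn : n' = n - ((j : ℤ) + 1)) :
    Q.cpt x M i n i' n' hi hn = Q'.cpt x M i n i' n' hi hn := by
  apply ocolim_ext
  intro U
  have hxc : WeilCoh.codim X.scheme x.1 = j + 1 := x.2
  apply ModuleCat.hom_ext; apply LinearMap.ext; intro a
  simp only [ModuleCat.hom_comp, LinearMap.comp_apply]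
  by_cases hxU : x.1 ∈ U.1
  · -- x ∈ U: pass to U ∖ closure x
    have hU0F : ContainsFj X j (U.1 ⊓ outOpen (X.ptSubι x.1)) := fun y hy =>
      ⟨U.2.1 y hy, containsFj_outOpen X j x.1 x.2 y hy⟩
    have hU0d := dim_of_containsFj X j _ hU0F
    have hxU0 : x.1 ∉ U.1 ⊓ outOpen (X.ptSubι x.1) := fun h =>
      ((mem_outOpen_iff X x.1 x.1).mp h.2) (subset_closure rfl)
    have hO : ∀ z ∈ U.1, z ∉ U.1 ⊓ outOpen (X.ptSubι x.1) →
        z ∈ closure ({x.1} : Set X.scheme) := fun z hz hzn => by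
      by_contra h
      exact hzn ⟨hz, (mem_outOpen_iff X x.1 z).mpr h⟩
    have hcod := attD_codim X x.1 (U.1 ⊓ outOpen (X.ptSubι x.1)) U.1 hxU0 hO hU0d hxU
    have hiD : i' = i + 1 - 2 * (attD X x.1 (U.1 ⊓ outOpen (X.ptSubι x.1)) U.1 hxU0 hO
        hU0d).codim := by rw [hcod, hxc]; push_cast; exact hi
    have hnD : n' = n - (attD X x.1 (U.1 ⊓ outOpen (X.ptSubι x.1)) U.1 hxU0 hO
        hU0d).codim := by rw [hcod, hxc]; push_cast; exact hn
    have hUd : WeilCoh.dim (U.1 : Scheme.{u}) = WeilCoh.dim X.scheme := U.2.2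
    have h3 := comp_elem (ocolimι_res T X (ContainsFj X j) i n
      ⟨U.1 ⊓ outOpen (X.ptSubι x.1), hU0F, hU0d⟩ U inf_le_left (hU0d.trans hUd.symm) M) a
    have e1 := cpt_att T X j Q x M i n i' n' hi hn (U.1 ⊓ outOpen (X.ptSubι x.1)) U.1 hU0F hxU0
      hxU hO hU0d hiD hnD ((T.pull (X.resLE inf_le_left (hU0d.trans hUd.symm)) M i n).hom a)
    have e2 := cpt_att T X j Q' x M i n i' n' hi hn (U.1 ⊓ outOpen (X.ptSubι x.1)) U.1 hU0F hxU0
      hxU hO hU0d hiD hnD ((T.pull (X.resLE inf_le_left (hU0d.trans hUd.symm)) M i n).hom a)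
    have h3' : ((T.ocolimι X (ContainsFj X j) i n U).app M).hom a =
        ((T.fjι X j i n ⟨U.1 ⊓ outOpen (X.ptSubι x.1), hU0F, hU0d⟩).app M).hom
          ((T.pull (X.resLE inf_le_left (hU0d.trans hUd.symm)) M i n).hom a) := h3.symm
    rw [h3']
    exact e1.trans e2.symm
  · obtain ⟨U0, hU0, hd⟩ := U
    obtain ⟨N, hxN, hN⟩ := exists_attach X j U0 hU0 x.1 hxc
    have hcod := attD_codim X x.1 U0 N hxU hN hd hxN
    have hiD : i' = i + 1 - 2 * (attD X x.1 U0 N hxU hN hd).codim := by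
      rw [hcod, hxc]; push_cast; exact hi
    have hnD : n' = n - (attD X x.1 U0 N hxU hN hd).codim := by
      rw [hcod, hxc]; push_cast; exact hn
    have e1 := cpt_att T X j Q x M i n i' n' hi hn U0 N hU0 hxU hxN hN hd hiD hnD a
    have e2 := cpt_att T X j Q' x M i n i' n' hi hn U0 N hU0 hxU hxN hN hd hiD hnD a
    exact e1.trans e2.symm

theorem main : Subsingleton (T.ResData X j) := by
  constructor
  intro Q Q'
  have h : Q.cpt = Q'.cpt := by
    funext x M i n i' n' hi hn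
    exact resData_cpt_eq T X j Q Q' x M i n i' n' hi hn
  cases Q; cases Q'
  simp only at h
  subst h
  rfl

end Groth.Agent.Helper8.BMResU
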