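import Groth.Agent.Helper8.BMTop
import Groth.Agent.Helper8.BMBasic
import Groth.Prelude.Def_BMCoh3
import Mathlib

set_option autoImplicit false
universe u
open CategoryTheory AlgebraicGeometry Opposite Limits TopologicalSpace Topology
open BMCoh
open Groth.Agent.Helper8.BMTop

namespace Groth.Agent.Helper8.BMSch

variable {V : ObjectProperty Scheme.{u}} [IsConstructible V]

theorem tkd_lt_top (X : Obj V) : topologicalKrullDim X.scheme < ⊤ :=
  IsConstructible.finiteDim X.mem

theorem tkd_set_lt_top (X : Obj V) (S : Set X.scheme) : topologicalKrullDim ↥S < ⊤ :=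
  lt_of_le_of_lt (topologicalKrullDim_subspace_le _ S) (tkd_lt_top X)

/-- dimension of a subset of a scheme. -/
noncomputable def sdim {X : Scheme.{u}} (S : Set X) : ℕ := WeilCoh.natDim ↥S

theorem sdim_mono (X : Obj V) {S S' : Set X.scheme} (h : S ⊆ S') : sdim S ≤ sdim S' :=
  natDim_le_of_tkd_le
    (IsInducing.topologicalKrullDim_le (f := Set.inclusion h) (IsEmbedding.inclusion h).isInducing)
    (tkd_set_lt_top X S')

theorem sdim_le_dim (X : Obj V) (S : Set X.scheme) : sdim S ≤ WeilCoh.dim X.scheme :=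
  natDim_le_of_tkd_le (topologicalKrullDim_subspace_le _ S) (tkd_lt_top X)

theorem dim_eq_sdim_range {Z X : Scheme.{u}} (g : Z ⟶ X) (hg : IsEmbedding g) :
    WeilCoh.dim Z = sdim (Set.range g) :=
  natDim_of_homeo hg.toHomeomorph

theorem dim_opens (X : Scheme.{u}) (U : X.Opens) :
    WeilCoh.dim (U : Scheme.{u}) = sdim (U : Set X) := by
  rw [dim_eq_sdim_range U.ι U.ι.isEmbedding, Scheme.Opens.range_ι]

theorem pdim_eq_ht {X : Scheme.{u}} (x : X) : WeilCoh.pdim X x = (ht x).toNat :=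
  natDim_of_tkd_eq (tkd_closure x)

theorem ht_lt_top (X : Obj V) (x : X.scheme) : ht x < ⊤ := by
  have h1 := ht_le_tkd x
  have h2 := lt_of_le_of_lt h1 (tkd_lt_top X)
  by_contra h
  rw [not_lt, top_le_iff] at h
  rw [h] at h2
  exact lt_irrefl _ h2

theorem range_ptSubι (X : Obj V) (x : X.scheme) : Set.range (X.ptSubι x) = closure {x} := by
  rw [Scheme.IdealSheafData.range_subschemeι]
  simp

theorem dim_ptSub (X : Obj V) (x : X.scheme) :
    WeilCoh.dim (X.ptSub x).scheme = WeilCoh.pdim X.scheme x := by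
  rw [dim_eq_sdim_range (X.ptSubι x) (X.ptSubι x).isEmbedding, range_ptSubι]
  rfl

theorem exists_ptGen (X : Obj V) (x : X.scheme) :
    ∃ ξ : (X.ptSub x).scheme, (X.ptSubι x) ξ = x := by
  have : x ∈ Set.range (X.ptSubι x) := by rw [range_ptSubι]; exact subset_closure rfl
  exact this

theorem closure_ptGen (X : Obj V) (x : X.scheme) (ξ : (X.ptSub x).scheme)
    (hξ : (X.ptSubι x) ξ = x) : closure ({ξ} : Set (X.ptSub x).scheme) = Set.univ := by
  rw [(X.ptSubι x).isEmbedding.closure_eq_preimage_closure_image, Set.image_singleton, hξ,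
    ← range_ptSubι]
  exact Set.preimage_range _

instance irreducibleSpace_ptSub (X : Obj V) (x : X.scheme) :
    IrreducibleSpace (X.ptSub x).scheme := by
  obtain ⟨ξ, hξ⟩ := exists_ptGen X x
  rw [irreducibleSpace_def, Set.top_eq_univ, ← closure_ptGen X x ξ hξ]
  exact isIrreducible_singleton.closure

/-- a nonempty open of the reduced closure of `x` contains the generic point. -/
theorem ptGen_mem (X : Obj V) (x : X.scheme) (ξ : (X.ptSub x).scheme)
    (hξ : (X.ptSubι x) ξ = x) (W : (X.ptSub x).scheme.Opens) (hW : (W : Set (X.ptSub x).scheme).Nonempty) :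
    ξ ∈ W := by
  obtain ⟨w, hw⟩ := hW
  have : w ∈ closure ({ξ} : Set (X.ptSub x).scheme) := by
    rw [closure_ptGen X x ξ hξ]; trivial
  have hs : ξ ⤳ w := specializes_iff_mem_closure.mpr this
  exact hs.mem_open W.isOpen hw

theorem mem_image_of_nonempty (X : Obj V) (x : X.scheme) (W : (X.ptSub x).scheme.Opens)
    (hW : (W : Set (X.ptSub x).scheme).Nonempty) : x ∈ (X.ptSubι x) '' (W : Set (X.ptSub x).scheme) := by
  obtain ⟨ξ, hξ⟩ := exists_ptGen X x
  exact ⟨ξ, ptGen_mem X x ξ hξ W hW, hξ⟩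

theorem dim_ptOpen (X : Obj V) (x : X.scheme) (W : (X.ptSub x).scheme.Opens)
    (hW : (W : Set (X.ptSub x).scheme).Nonempty) :
    WeilCoh.dim (W : Scheme.{u}) = WeilCoh.pdim X.scheme x := by
  rw [IsConstructible.dim_open (X.ptSub x).mem inferInstance W hW, dim_ptSub]

theorem pdim_le_dim (X : Obj V) (x : X.scheme) :
    WeilCoh.pdim X.scheme x ≤ WeilCoh.dim X.scheme := sdim_le_dim X _

theorem exists_codim_zero (X : Obj V) [Nonempty X.scheme] :
    ∃ η : X.scheme, WeilCoh.pdim X.scheme η = WeilCoh.dim X.scheme := by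
  obtain ⟨η, hη⟩ := exists_ht_eq_tkd (X := X.scheme) (tkd_lt_top X)
  refine ⟨η, ?_⟩
  rw [pdim_eq_ht]
  exact (natDim_of_tkd_eq hη.symm).symm

theorem natDim_of_isEmpty (A : Type u) [TopologicalSpace A] [IsEmpty A] :
    WeilCoh.natDim A = 0 := by
  unfold WeilCoh.natDim
  have : topologicalKrullDim A = ⊥ := by
    unfold topologicalKrullDim
    haveI : IsEmpty (IrreducibleCloseds A) := ⟨fun Z => by
      obtain ⟨z, _⟩ := Z.isIrreducible.nonempty
      exact isEmptyElim z⟩
    exact Order.krullDim_eq_bot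
  rw [this]; rfl

theorem dim_of_containsF0 (X : Obj V) (U : X.scheme.Opens)
    (hU : ∀ y : X.scheme, WeilCoh.codim X.scheme y = 0 → y ∈ U) :
    WeilCoh.dim (U : Scheme.{u}) = WeilCoh.dim X.scheme := by
  apply le_antisymm
  · rw [dim_opens]; exact sdim_le_dim X _
  · by_cases hX : Nonempty X.scheme
    · obtain ⟨η, hη⟩ := exists_codim_zero X
      have hηU : η ∈ U := hU η (by unfold WeilCoh.codim; rw [hη]; exact Nat.sub_self _)
      let W : (X.ptSub η).scheme.Opens := (X.ptSubι η) ⁻¹ᵁ U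
      obtain ⟨ξ, hξ⟩ := exists_ptGen X η
      have hW : (W : Set (X.ptSub η).scheme).Nonempty := ⟨ξ, by
        show (X.ptSubι η) ξ ∈ U
        rw [hξ]; exact hηU⟩
      have h1 := dim_ptOpen X η W hW
      have h2 : WeilCoh.dim (W : Scheme.{u}) ≤ WeilCoh.dim (U : Scheme.{u}) := by
        rw [dim_eq_sdim_range (W.ι ≫ X.ptSubι η) (W.ι ≫ X.ptSubι η).isEmbedding, dim_opens]
        apply sdim_mono X
        rintro _ ⟨w, rfl⟩
        exact w.2
      rw [← hη, ← h1]; exact h2
    · rw [not_nonempty_iff] at hX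
      have : WeilCoh.dim X.scheme = 0 := natDim_of_isEmpty _
      rw [this]; exact Nat.zero_le _

theorem dim_of_containsFj (X : Obj V) (j : ℕ) (U : X.scheme.Opens) (hU : ContainsFj X j U) :
    WeilCoh.dim (U : Scheme.{u}) = WeilCoh.dim X.scheme :=
  dim_of_containsF0 X U (fun y hy => hU y (by rw [hy]; exact Nat.zero_le _))

theorem codim_cast (X : Obj V) (x : X.scheme) :
    (WeilCoh.codim X.scheme x : ℤ) = (WeilCoh.dim X.scheme : ℤ) - WeilCoh.pdim X.scheme x := by
  unfold WeilCoh.codim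
  exact Nat.cast_sub (pdim_le_dim X x)

theorem pdim_lt_of_specializes (X : Obj V) {x z : X.scheme} (h : x ⤳ z) (hne : z ≠ x) :
    WeilCoh.pdim X.scheme z < WeilCoh.pdim X.scheme x := by
  have h1 := ht_add_one_le h hne
  have hx := ht_lt_top X x
  rw [pdim_eq_ht, pdim_eq_ht]
  obtain ⟨a, ha⟩ := ENat.ne_top_iff_exists.mp hx.ne
  have hz : ht z ≠ ⊤ := fun h' => by rw [h'] at h1; simp at h1; exact hx.ne h1
  obtain ⟨b, hb⟩ := ENat.ne_top_iff_exists.mp hz
  rw [← ha, ← hb] at h1 ⊢
  simp only [ENat.toNat_coe]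
  have : ((b + 1 : ℕ) : ℕ∞) ≤ a := by exact_mod_cast h1
  exact_mod_cast this

theorem codim_lt_of_specializes (X : Obj V) {x z : X.scheme} (h : x ⤳ z) (hne : z ≠ x) :
    WeilCoh.codim X.scheme x < WeilCoh.codim X.scheme z := by
  have h1 := pdim_lt_of_specializes X h hne
  have h2 := pdim_le_dim X x
  unfold WeilCoh.codim
  omega

/-! ### locally closed pieces -/

section builder

variable (X : Obj V) (Z : Obj V) (ι : Z.scheme ⟶ X.scheme) [IsClosedImmersion ι]
  (W : Z.scheme.Opens) (U0 Y : X.scheme.Opens) (hle : U0 ≤ Y)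
  (hdim : WeilCoh.dim (U0 : Scheme.{u}) = WeilCoh.dim (Y : Scheme.{u}))
  (hY : (Y : Set X.scheme) = (U0 : Set X.scheme) ∪ ι '' (W : Set Z.scheme))
  (hdisj : Disjoint (U0 : Set X.scheme) (Set.range ι))

/-- the inclusion of the locally closed piece `W` into the open `Y`. -/
noncomputable def lcLift : (W : Scheme.{u}) ⟶ (Y : Scheme.{u}) :=
  IsOpenImmersion.lift Y.ι (W.ι ≫ ι) (by
    rw [Scheme.Opens.range_ι]
    rintro _ ⟨w, rfl⟩
    rw [hY]; right
    exact ⟨w.1, w.2, rfl⟩)

@[reassoc]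
theorem lcLift_fac : lcLift X Z ι W U0 Y hY ≫ Y.ι = W.ι ≫ ι :=
  IsOpenImmersion.lift_fac _ _ _

theorem lcLift_apply (w : W) : (lcLift X Z ι W U0 Y hY w).1 = ι w.1 := by
  have := congrArg (fun f => f w) (lcLift_fac X Z ι W U0 Y hY)
  simpa using this

include hdisj in
theorem range_lcLift : Set.range (lcLift X Z ι W U0 Y hY) = Y.ι ⁻¹' (Set.range ι) := by
  ext y
  constructor
  · rintro ⟨w, rfl⟩
    exact ⟨w.1, (lcLift_apply X Z ι W U0 Y hY w).symm⟩
  · intro hy
    have hyY : y.1 ∈ (Y : Set X.scheme) := y.2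
    rw [hY] at hyY
    rcases hyY with h | ⟨w, hw, hwy⟩
    · exact absurd hy (Set.disjoint_left.mp hdisj h)
    · refine ⟨⟨w, hw⟩, Subtype.ext ?_⟩
      rw [lcLift_apply]; exact hwy

include hdisj in
theorem isClosedImmersion_lcLift : IsClosedImmersion (lcLift X Z ι W U0 Y hY) := by
  haveI : IsPreimmersion (lcLift X Z ι W U0 Y hY ≫ Y.ι) := by
    rw [lcLift_fac]; infer_instance
  haveI : IsPreimmersion (lcLift X Z ι W U0 Y hY) := IsPreimmersion.of_comp _ Y.ι
  apply IsClosedImmersion.of_isPreimmersion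
  rw [range_lcLift X Z ι W U0 Y hY hdisj]
  exact (ι.isClosedEmbedding.isClosed_range).preimage Y.ι.continuous

include hdisj in
theorem range_resLE :
    Set.range (X.resLE hle hdim).hom = (Set.range (lcLift X Z ι W U0 Y hY))ᶜ := by
  rw [range_lcLift X Z ι W U0 Y hY hdisj]
  ext y
  constructor
  · rintro ⟨u, rfl⟩
    intro hy
    have : ((X.scheme.homOfLE hle) u).1 ∈ (U0 : Set X.scheme) := by
      rw [Scheme.homOfLE_apply]; exact u.2
    exact Set.disjoint_left.mp hdisj this hy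
  · intro hy
    have hyY : y.1 ∈ (Y : Set X.scheme) := y.2
    rw [hY] at hyY
    rcases hyY with h | ⟨w, hw, hwy⟩
    · refine ⟨⟨y.1, h⟩, Subtype.ext ?_⟩
      show ((X.scheme.homOfLE hle) ⟨y.1, h⟩).1 = y.1
      rw [Scheme.homOfLE_apply]
    · exact absurd ⟨w, hwy⟩ hy

/-- the decomposition of `Y` into the locally closed piece `W` and the open `U0`. -/
noncomputable def mkDecomp : Decomp (X.res Y) where
  Z := Z.res W
  U := X.res U0
  i := lcLift X Z ι W U0 Y hY
  closedImm := isClosedImmersion_lcLift X Z ι W U0 Y hY hdisj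
  j := X.resLE hle hdim
  range_eq := range_resLE X Z ι W U0 Y hle hdim hY hdisj

end builder

theorem disjoint_closure_of_not_mem {X : Scheme.{u}} (U0 : X.Opens) {x : X} (hx : x ∉ U0) :
    Disjoint (U0 : Set X) (closure {x}) := by
  rw [Set.disjoint_left]
  intro z hz hzc
  have : x ⤳ z := specializes_iff_mem_closure.mpr hzc
  exact hx (this.mem_open U0.isOpen hz)

end Groth.Agent.Helper8.BMSch
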