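import Groth.Prelude.Def_BMCoh
import Mathlib

set_option autoImplicit false
universe u
open TopologicalSpace Topology

namespace Groth.Agent.Helper8.BMTop

section general
variable {X : Type*} [TopologicalSpace X]

/-- height of a point in the specialization preorder (`x ≤ y ↔ y ⤳ x`). -/
noncomputable def ht (x : X) : ℕ∞ := @Order.height X (specializationPreorder X) x

theorem ht_mono {x z : X} (h : x ⤳ z) : ht z ≤ ht x := by
  letI := specializationPreorder X
  exact Order.height_mono (show z ≤ x from h)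

theorem ht_add_one_le' {x z : X} (h : x ⤳ z) (hne : ¬ z ⤳ x) : ht z + 1 ≤ ht x := by
  letI := specializationPreorder X
  have : z < x := lt_of_le_not_ge (show z ≤ x from h) (fun h' => hne h')
  exact Order.height_add_one_le this

theorem ht_add_one_le [T0Space X] {x z : X} (h : x ⤳ z) (hne : z ≠ x) : ht z + 1 ≤ ht x :=
  ht_add_one_le' h (fun h' => hne (h'.antisymm h).eq)

/-- heights do not drop along closed continuous maps. -/
theorem ht_map_le {Y : Type*} [TopologicalSpace Y] (φ : Y → X) (hc : Continuous φ)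
    (hcl : IsClosedMap φ) (z : Y) : ht (φ z) ≤ ht z := by
  rw [← ENat.forall_natCast_le_iff_le]
  intro n
  induction n generalizing z with
  | zero => intro _; simp
  | succ n ih =>
    intro hn
    letI iX := specializationPreorder X
    letI iY := specializationPreorder Y
    have h1 : (n : ℕ∞) < ht (φ z) := by
      have : ((n : ℕ∞) + 1) ≤ ht (φ z) := by exact_mod_cast hn
      exact (ENat.add_one_le_iff (ENat.coe_ne_top n)).mp this
    have h2 : ¬ (Order.height (φ z) ≤ (n : ℕ∞)) := not_le.mpr h1
    rw [Order.height_le_coe_iff] at h2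
    push Not at h2
    obtain ⟨y, hy, hny⟩ := h2
    -- lift y
    have hy1 : φ z ⤳ y := hy.le
    have hy2 : ¬ y ⤳ φ z := fun h' => (not_le_of_gt hy) h'
    have hmem : y ∈ φ '' closure {z} := by
      have hcl' : IsClosed (φ '' closure {z}) := hcl _ isClosed_closure
      exact hy1.mem_closed hcl' ⟨z, subset_closure rfl, rfl⟩
    obtain ⟨z', hz', rfl⟩ := hmem
    have hz1 : z ⤳ z' := specializes_iff_mem_closure.mpr hz'
    have hz2 : ¬ z' ⤳ z := fun h' => hy2 (h'.map hc)
    have := ih z' hny
    calc ((n + 1 : ℕ) : ℕ∞) = (n : ℕ∞) + 1 := by norm_cast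
      _ ≤ ht z' + 1 := by gcongr
      _ ≤ ht z := ht_add_one_le' hz1 hz2

theorem ht_subtype_closed {F : Set X} (hF : IsClosed F) (z : ↥F) : ht z = ht z.1 := by
  letI iX := specializationPreorder X
  letI iF := specializationPreorder ↥F
  refine Order.height_eq_of_strictMono (Subtype.val : ↥F → X) ?_ ?_ z
  · intro a b hab
    exact lt_of_le_not_ge ((subtype_specializes_iff b a).mp hab.le)
      (fun h' => (not_le_of_gt hab) ((subtype_specializes_iff a b).mpr h'))
  · intro a b hb
    have hb1 : a.1 ⤳ b := hb.le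
    have hbF : b ∈ F := hb1.mem_closed hF a.2
    refine ⟨⟨b, hbF⟩, ?_, rfl⟩
    exact lt_of_le_not_ge ((subtype_specializes_iff a ⟨b, hbF⟩).mpr hb1)
      (fun h' => (not_le_of_gt hb) ((subtype_specializes_iff ⟨b, hbF⟩ a).mp h'))

end general

section sober
variable {X : Type*} [TopologicalSpace X] [QuasiSober X] [T0Space X]

theorem tkd_eq_krullDim :
    topologicalKrullDim X = @Order.krullDim X (specializationPreorder X) := by
  letI := specializationOrder X
  exact Order.krullDim_eq_of_orderIso irreducibleSetEquivPoints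

theorem ht_le_tkd (x : X) : (ht x : WithBot ℕ∞) ≤ topologicalKrullDim X := by
  rw [tkd_eq_krullDim]
  exact @Order.height_le_krullDim X (specializationPreorder X) x

theorem tkd_closure (x : X) :
    topologicalKrullDim ↥(closure ({x} : Set X)) = (ht x : WithBot ℕ∞) := by
  haveI : QuasiSober ↥(closure ({x} : Set X)) :=
    (isClosed_closure.isClosedEmbedding_subtypeVal).quasiSober
  rw [tkd_eq_krullDim]
  letI iX := specializationPreorder X
  let e : @OrderIso ↥(closure ({x} : Set X)) (Set.Iic x)
      (specializationPreorder ↥(closure ({x} : Set X))).toLE _ :=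
    { toFun := fun z => ⟨z.1, (specializes_iff_mem_closure.mpr z.2 : x ⤳ z.1)⟩
      invFun := fun z => ⟨z.1, specializes_iff_mem_closure.mp z.2⟩
      left_inv := fun _ => rfl
      right_inv := fun _ => rfl
      map_rel_iff' := by
        intro a b
        exact (subtype_specializes_iff b a).symm }
  rw [@Order.krullDim_eq_of_orderIso _ _ (specializationPreorder _) _ e,
    ← Order.height_eq_krullDim_Iic]
  rfl

theorem exists_ht_eq_tkd [Nonempty X] (hfin : topologicalKrullDim X < ⊤) :
    ∃ η : X, (ht η : WithBot ℕ∞) = topologicalKrullDim X := by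
  letI iX := specializationPreorder X
  have hk := tkd_eq_krullDim (X := X)
  have hne : Order.krullDim X ≠ ⊥ := Order.krullDim_ne_bot_iff.mpr inferInstance
  obtain ⟨m, hm⟩ := WithBot.ne_bot_iff_exists.mp hne
  have hmt : m ≠ ⊤ := by
    intro h
    rw [hk, ← hm, h] at hfin
    exact (lt_irrefl _ hfin)
  obtain ⟨n, rfl⟩ := ENat.ne_top_iff_exists.mp hmt
  have hn : ((n : ℕ) : WithBot ℕ∞) ≤ Order.krullDim X := by rw [← hm]; rfl
  obtain ⟨l, hl⟩ := Order.le_krullDim_iff.mp hn
  refine ⟨l.last, le_antisymm (ht_le_tkd _) ?_⟩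
  rw [hk, ← hm]
  have := Order.length_le_height_last (p := l)
  rw [hl] at this
  exact_mod_cast this

theorem exists_mem_ht_eq_tkd {F : Set X} (hF : IsClosed F) (hne : F.Nonempty)
    (hfin : topologicalKrullDim ↥F < ⊤) :
    ∃ z ∈ F, (ht z : WithBot ℕ∞) = topologicalKrullDim ↥F := by
  haveI : QuasiSober ↥F := (hF.isClosedEmbedding_subtypeVal).quasiSober
  haveI : Nonempty ↥F := hne.to_subtype
  obtain ⟨η, hη⟩ := exists_ht_eq_tkd (X := ↥F) hfin
  exact ⟨η.1, η.2, by rw [← ht_subtype_closed hF, hη]⟩

theorem ht_le_tkd_closed {F : Set X} (hF : IsClosed F) {z : X} (hz : z ∈ F) :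
    (ht z : WithBot ℕ∞) ≤ topologicalKrullDim ↥F := by
  haveI : QuasiSober ↥F := (hF.isClosedEmbedding_subtypeVal).quasiSober
  have := ht_le_tkd (X := ↥F) ⟨z, hz⟩
  rwa [ht_subtype_closed hF] at this

end sober

section natDim

theorem natDim_le_of_tkd_le {A B : Type u} [TopologicalSpace A] [TopologicalSpace B]
    (h : topologicalKrullDim A ≤ topologicalKrullDim B) (hfin : topologicalKrullDim B < ⊤) :
    WeilCoh.natDim A ≤ WeilCoh.natDim B := by
  unfold WeilCoh.natDim
  by_cases hA : topologicalKrullDim A = ⊥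
  · rw [hA]; simp
  obtain ⟨a, ha⟩ := WithBot.ne_bot_iff_exists.mp hA
  have hB : topologicalKrullDim B ≠ ⊥ := by
    intro hB
    rw [hB] at h
    exact hA (le_bot_iff.mp h)
  obtain ⟨b, hb⟩ := WithBot.ne_bot_iff_exists.mp hB
  rw [← ha, ← hb] at h ⊢
  have hab : a ≤ b := by exact_mod_cast h
  have hb' : b ≠ ⊤ := by
    intro hb'
    rw [← hb, hb'] at hfin
    exact lt_irrefl _ hfin
  exact ENat.toNat_le_toNat hab hb'

theorem natDim_of_tkd_eq {A : Type u} [TopologicalSpace A] {h : ℕ∞}
    (hA : topologicalKrullDim A = (h : WithBot ℕ∞)) : WeilCoh.natDim A = h.toNat := by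
  unfold WeilCoh.natDim
  rw [hA]; rfl

theorem natDim_of_homeo {A B : Type u} [TopologicalSpace A] [TopologicalSpace B] (e : A ≃ₜ B) :
    WeilCoh.natDim A = WeilCoh.natDim B := by
  unfold WeilCoh.natDim
  rw [IsHomeomorph.topologicalKrullDim_eq _ e.isHomeomorph]

end natDim

end Groth.Agent.Helper8.BMTop
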