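import Groth.Agent.Helper8.BMPtU
import Mathlib

set_option autoImplicit false
universe u
open CategoryTheory AlgebraicGeometry Opposite Limits TopologicalSpace Topology
open BMCoh
open Groth.Agent.Helper8.BMTop Groth.Agent.Helper8.BMSch Groth.Agent.Helper8.BMColim
open Groth.Agent.Helper8.BMBasic Groth.Agent.Helper8.BMPushU Groth.Agent.Helper8.BMAtt
open Groth.Agent.Helper8.BMEx3 Groth.Agent.Helper8.BMEx1 Groth.Agent.Helper8.BMBij
open Groth.Agent.Helper8.BMNeg

namespace Groth.Agent.Helper8.BMVan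

variable {V : ObjectProperty Scheme.{u}} [IsConstructible V] {R : Type u} [CommRing R]
  {A : Coefs R}

theorem fjRes_injective (T : PreTheory V R A) (X : Obj V) (j : ℕ) (M : A.Cat) (i n : ℤ)
    (h0 : ∀ x : X.scheme, WeilCoh.codim X.scheme x = j + 1 →
      Subsingleton (T.ptGp X x M (i - 2 * ((j : ℤ) + 1)) (n - ((j : ℤ) + 1)))) :
    Function.Injective ((T.fjRes X (Nat.le_succ j) i n).app M).hom := by
  rw [injective_iff_map_eq_zero]
  intro y hy
  obtain ⟨i0, rfl⟩ : ∃ i0, i = i0 + 1 := ⟨i - 1, by ring⟩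
  obtain ⟨U, b, rfl⟩ := ocolim_rep T X (ContainsFj X (j + 1)) (fj_dir X (j + 1))
    (fj_ne X (j + 1)) (i0 + 1) n M y
  have h2 := comp_elem (ocolimι_map T X (containsFj_mono X (Nat.le_succ j)) (i0 + 1) n U M) b
  rw [h2] at hy
  obtain ⟨U0, hle, hz⟩ := ocolim_eq_zero T X (ContainsFj X j) (fj_dir X j) (fj_ne X j)
    (i0 + 1) n M ⟨U.1, containsFj_mono X (Nat.le_succ j) _ U.2.1, U.2.2⟩ b hy
  exact inj_claim T X j M (i0 + 1 - 2 * ((j : ℤ) + 1)) (n - ((j : ℤ) + 1)) i0 n
    (by push_cast; ring) (by push_cast; ring) h0 U0.1 U0.2.1 U hle _ b hz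

/-- a class on an irreducible open of a reduced object whose image in the group of the generic
point vanishes, vanishes on a smaller open. -/
theorem exists_vanish_open (T : PreTheory V R A) (Y : Obj V) [IsReduced Y.scheme] (η : Y.scheme)
    (N : Y.scheme.Opens) (hηN : η ∈ N) (hNsub : (N : Set Y.scheme) ⊆ closure {η}) (M : A.Cat)
    (i n : ℤ) (hvan : Subsingleton (T.ptGp Y η M i n)) (b : T.gp (Y.res N) M i n) :
    ∃ (O2 : Y.scheme.Opens) (hle : O2 ≤ N)
      (hd : WeilCoh.dim (O2 : Scheme.{u}) = WeilCoh.dim (N : Scheme.{u})),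
      η ∈ O2 ∧ (T.pull (Y.resLE hle hd) M i n).hom b = 0 := by
  have hWne : (((Y.ptSubι η) ⁻¹ᵁ N : (Y.ptSub η).scheme.Opens) :
      Set (Y.ptSub η).scheme).Nonempty := attW_nonempty Y η N hηN
  have hWd := IsConstructible.dim_open (Y.ptSub η).mem inferInstance _ hWne
  have h0 : ((T.ptι Y η i n ⟨_, hWne, hWd⟩).app M).hom
      ((T.pull (ptResHom Y η N hNsub) M i n).hom b) = 0 := Subsingleton.elim _ _
  obtain ⟨W', hle', hz⟩ := ocolim_eq_zero T (Y.ptSub η) _ (pt_dir Y η) (pt_ne Y η)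
    i n M ⟨_, hWne, hWd⟩ _ h0
  obtain ⟨W1o, hW1ne, hW1d⟩ := W'
  obtain ⟨O', hO'⟩ := exists_opens_preimage Y η W1o
  have hW : W1o = (Y.ptSubι η) ⁻¹ᵁ (O' ⊓ N) := by
    have h2 : W1o ≤ (Y.ptSubι η) ⁻¹ᵁ N := hle'
    apply le_antisymm
    · intro w hw
      have hw' : w ∈ (Y.ptSubι η) ⁻¹ᵁ O' := hO' ▸ hw
      exact ⟨hw', h2 hw⟩
    · intro w hw
      rw [hO']
      exact hw.1
  subst hW
  have hηO2 : η ∈ O' ⊓ N := by
    obtain ⟨w, hw, hwx⟩ := mem_image_of_nonempty Y η _ hW1ne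
    rw [← hwx]; exact hw
  have hO2sub : ((O' ⊓ N : Y.scheme.Opens) : Set Y.scheme) ⊆ closure {η} :=
    fun z hz => hNsub hz.2
  have hNd : WeilCoh.dim (N : Scheme.{u}) = WeilCoh.pdim Y.scheme η := by
    rw [← (ptResHom Y η N hNsub).dim_eq]
    exact dim_ptOpen Y η _ hWne
  have hO2d : WeilCoh.dim ((O' ⊓ N : Y.scheme.Opens) : Scheme.{u}) =
      WeilCoh.pdim Y.scheme η := by
    rw [← (ptResHom Y η (O' ⊓ N) hO2sub).dim_eq]
    exact dim_ptOpen Y η _ hW1ne
  refine ⟨O' ⊓ N, inf_le_right, hO2d.trans hNd.symm, hηO2, ?_⟩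
  apply pull_ptResHom_injective Y η (O' ⊓ N) hO2sub T M i n
  rw [map_zero]
  have hcomp := ptResHom_comp_resLE Y η (O' ⊓ N) N inf_le_right hNsub
    (hO2d.trans hNd.symm) (hW1d.trans hWd.symm)
  have e2 := congrArg (fun g => (T.pull g M i n).hom b) hcomp
  simp only [pull_comp, ModuleCat.hom_comp, LinearMap.comp_apply] at e2
  rw [e2]
  exact hz

theorem dim_of_sub_closure (Y : Obj V) [IsReduced Y.scheme] (η : Y.scheme) (N : Y.scheme.Opens)
    (hηN : η ∈ N) (hNsub : (N : Set Y.scheme) ⊆ closure {η}) :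
    WeilCoh.dim (N : Scheme.{u}) = WeilCoh.pdim Y.scheme η := by
  rw [← (ptResHom Y η N hNsub).dim_eq]
  exact dim_ptOpen Y η _ (attW_nonempty Y η N hηN)

theorem range_resLE_sup (X : Obj V) (O O2 : X.scheme.Opens)
    (hdisj : Disjoint (O : Set X.scheme) (O2 : Set X.scheme))
    (hd : WeilCoh.dim (O : Scheme.{u}) = WeilCoh.dim ((O ⊔ O2 : X.scheme.Opens) : Scheme.{u}))
    (hd2 : WeilCoh.dim (O2 : Scheme.{u}) = WeilCoh.dim ((O ⊔ O2 : X.scheme.Opens) : Scheme.{u})) :
    Set.range (X.resLE (le_sup_left : O ≤ O ⊔ O2) hd).hom =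
      (Set.range (X.resLE (le_sup_right : O2 ≤ O ⊔ O2) hd2).hom)ᶜ := by
  ext y
  have e1 : y ∈ Set.range (X.resLE (le_sup_left : O ≤ O ⊔ O2) hd).hom ↔ y.1 ∈ O :=
    mem_range_homOfLE (le_sup_left : O ≤ O ⊔ O2) y
  have e2 : y ∈ Set.range (X.resLE (le_sup_right : O2 ≤ O ⊔ O2) hd2).hom ↔ y.1 ∈ O2 :=
    mem_range_homOfLE (le_sup_right : O2 ≤ O ⊔ O2) y
  rw [Set.mem_compl_iff, e1, e2]
  constructor
  · intro h h2
    exact Set.disjoint_left.mp hdisj h h2
  · intro h2
    rcases y.2 with h | h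
    · exact h
    · exact absurd h h2

theorem f0_claim (T : PreTheory V R A) (X : Obj V) [IsReduced X.scheme] (M : A.Cat) (i n : ℤ)
    (hvan : ∀ η : X.scheme, WeilCoh.pdim X.scheme η = WeilCoh.dim X.scheme →
      Subsingleton (T.ptGp X η M i n))
    (U : Idx X (ContainsFj X 0)) (a0 : T.gp (X.res U.1) M i n) (O : X.scheme.Opens) :
    ∀ (hle : O ≤ U.1),
      (O = ⊥ ∨ ∃ hd : WeilCoh.dim (O : Scheme.{u}) = WeilCoh.dim (U.1 : Scheme.{u}),
        (T.pull (X.resLE hle hd) M i n).hom a0 = 0) →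
      ((T.fjι X 0 i n U).app M).hom a0 = 0 := by
  induction O using WellFoundedGT.induction with
  | ind O ih =>
  intro hle h
  by_cases hF : ContainsFj X 0 O
  · rcases h with rfl | ⟨hd, hz⟩
    · by_cases hX : Nonempty X.scheme
      · obtain ⟨η, hη⟩ := exists_codim_zero X
        have : η ∈ (⊥ : X.scheme.Opens) :=
          hF η (by unfold WeilCoh.codim; rw [hη]; simp)
        exact absurd this (by simp)
      · rw [not_nonempty_iff] at hX
        haveI : IsEmpty (X.res U.1).scheme := ⟨fun z => hX.false z.1⟩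
        rw [gp_empty T (X.res U.1) M i n a0, map_zero]
    · have hOd : WeilCoh.dim (O : Scheme.{u}) = WeilCoh.dim X.scheme :=
        dim_of_containsFj X 0 O hF
      have h1 := comp_elem (ocolimι_res T X (ContainsFj X 0) i n ⟨O, hF, hOd⟩ U hle hd M) a0
      rw [← h1, hz, map_zero]
  · unfold ContainsFj at hF
    push Not at hF
    obtain ⟨η, hηc, hηO⟩ := hF
    have hηd : WeilCoh.pdim X.scheme η = WeilCoh.dim X.scheme := by
      have h1 := codim_cast X η
      have h2 := pdim_le_dim X η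
      omega
    have hηU : η ∈ U.1 := U.2.1 η hηc
    have hmax : ∀ z ∈ (Set.univ : Set X.scheme), z ⤳ η → z = η := by
      intro z _ hz
      by_contra hne
      have h1 := pdim_lt_of_specializes X hz (Ne.symm hne)
      have h2 := pdim_le_dim X z
      omega
    obtain ⟨N, hNo, hηN, hNsub⟩ := exists_open_of_maximal (X := X.scheme) isClosed_univ hmax
    have hN'sub : (((⟨N, hNo⟩ : X.scheme.Opens) ⊓ U.1 : X.scheme.Opens) : Set X.scheme) ⊆
        closure {η} := fun z hz => hNsub ⟨hz.1, trivial⟩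
    have hηN' : η ∈ (⟨N, hNo⟩ : X.scheme.Opens) ⊓ U.1 := ⟨hηN, hηU⟩
    have hN'd : WeilCoh.dim (((⟨N, hNo⟩ : X.scheme.Opens) ⊓ U.1 : X.scheme.Opens) : Scheme.{u}) =
        WeilCoh.dim (U.1 : Scheme.{u}) :=
      (dim_of_sub_closure X η _ hηN' hN'sub).trans (hηd.trans U.2.2.symm)
    obtain ⟨O2, hle2, hd2, hηO2, hz2⟩ := exists_vanish_open T X η _ hηN' hN'sub M i n
      (hvan η hηd) ((T.pull (X.resLE inf_le_right hN'd) M i n).hom a0)
    rw [pull_pull] at hz2
    have hO2d : WeilCoh.dim (O2 : Scheme.{u}) = WeilCoh.dim X.scheme :=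
      (hd2.trans hN'd).trans U.2.2
    have hdisj : Disjoint (O : Set X.scheme) (O2 : Set X.scheme) := by
      rw [Set.disjoint_left]
      intro z hzO hzO2
      have hsp : η ⤳ z := specializes_iff_mem_closure.mpr (hN'sub (hle2 hzO2))
      exact hηO (hsp.mem_open O.isOpen hzO)
    rcases h with rfl | ⟨hd, hz⟩
    · have hlt : (⊥ : X.scheme.Opens) < O2 :=
        lt_of_le_of_ne bot_le (fun h => by rw [← h] at hηO2; exact absurd hηO2 (by simp))
      exact ih O2 hlt (hle2.trans inf_le_right) (Or.inr ⟨_, hz2⟩)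
    · have hOd : WeilCoh.dim (O : Scheme.{u}) = WeilCoh.dim X.scheme := hd.trans U.2.2
      have hsd : WeilCoh.dim (O : Scheme.{u}) =
          WeilCoh.dim ((O ⊔ O2 : X.scheme.Opens) : Scheme.{u}) := att_hdim X O O2 hOd
      have hsd2 : WeilCoh.dim (O2 : Scheme.{u}) =
          WeilCoh.dim ((O ⊔ O2 : X.scheme.Opens) : Scheme.{u}) :=
        (hO2d.trans hOd.symm).trans hsd
      have hsle : O ⊔ O2 ≤ U.1 := sup_le hle (hle2.trans inf_le_right)
      have hlt : O < O ⊔ O2 :=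
        lt_of_le_of_ne le_sup_left (fun h => hηO (by rw [h]; exact Or.inr hηO2))
      have hbij := BMBasic.main T (X.resLE (le_sup_left : O ≤ O ⊔ O2) hsd)
        (X.resLE (le_sup_right : O2 ≤ O ⊔ O2) hsd2) (range_resLE_sup X O O2 hdisj hsd hsd2) M i n
      have hzero : (T.pull (X.resLE hsle (hsd.symm.trans hd)) M i n).hom a0 = 0 := by
        apply hbij.1
        simp only [map_zero, Prod.mk.injEq]
        rw [pull_pull, pull_pull]
        exact ⟨hz, hz2⟩
      exact ih (O ⊔ O2) hlt hsle (Or.inr ⟨_, hzero⟩)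

theorem f0_vanish (T : PreTheory V R A) (X : Obj V) [IsReduced X.scheme] (M : A.Cat) (i n : ℤ)
    (hvan : ∀ η : X.scheme, WeilCoh.pdim X.scheme η = WeilCoh.dim X.scheme →
      Subsingleton (T.ptGp X η M i n)) (y : T.fjGp X 0 M i n) : y = 0 := by
  obtain ⟨U, a0, rfl⟩ := ocolim_rep T X (ContainsFj X 0) (fj_dir X 0) (fj_ne X 0) i n M y
  exact f0_claim T X M i n hvan U a0 ⊥ bot_le (Or.inl rfl)

theorem main (T : TheoryOn V R A) (M : A.Cat) (c : ℕ)
    (hc : ∀ (Y : Obj V) (y : Y.scheme) (i n : ℤ), (WeilCoh.pdim Y.scheme y : ℤ) + c < i →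
      IsZero (T.ptGp Y y M i n)) (X : Obj V) [IsReduced X.scheme] (j : ℕ) :
    ∀ (i n : ℤ), (WeilCoh.dim X.scheme : ℤ) + j + c < i → IsZero (T.fjGp X j M i n) := by
  induction j with
  | zero =>
    intro i n hi
    have hvan : ∀ η : X.scheme, WeilCoh.pdim X.scheme η = WeilCoh.dim X.scheme →
        Subsingleton (T.ptGp X η M i n) := fun η hη =>
      ModuleCat.subsingleton_of_isZero (hc X η i n (by rw [hη]; push_cast at hi; linarith))
    haveI : Subsingleton (T.fjGp X 0 M i n) :=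
      ⟨fun a b => by
        rw [f0_vanish T.toPreTheory X M i n hvan a, f0_vanish T.toPreTheory X M i n hvan b]⟩
    exact ModuleCat.isZero_of_subsingleton _
  | succ j ih =>
    intro i n hi
    have h0 : ∀ x : X.scheme, WeilCoh.codim X.scheme x = j + 1 →
        Subsingleton (T.ptGp X x M (i - 2 * ((j : ℤ) + 1)) (n - ((j : ℤ) + 1))) := by
      intro x hx
      apply ModuleCat.subsingleton_of_isZero
      apply hc
      have h1 := codim_cast X x
      rw [hx] at h1
      push_cast at h1 hi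
      linarith
    have hinj := fjRes_injective T.toPreTheory X j M i n h0
    have hz := ih i n (by push_cast at hi; linarith)
    haveI := ModuleCat.subsingleton_of_isZero hz
    haveI : Subsingleton (T.fjGp X (j + 1) M i n) :=
      ⟨fun a b => hinj (Subsingleton.elim _ _)⟩
    exact ModuleCat.isZero_of_subsingleton _

end Groth.Agent.Helper8.BMVan
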