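import Groth.Agent.Helper8.BMGen
import Mathlib

set_option autoImplicit false
universe u
open CategoryTheory AlgebraicGeometry Opposite Limits TopologicalSpace Topology
open BMCoh
open Groth.Agent.Helper8.BMTop Groth.Agent.Helper8.BMSch Groth.Agent.Helper8.BMColim
open Groth.Agent.Helper8.BMBasic Groth.Agent.Helper8.BMPushU Groth.Agent.Helper8.BMAtt
open Groth.Agent.Helper8.BMEx3 Groth.Agent.Helper8.BMEx1 Groth.Agent.Helper8.BMBij
open Groth.Agent.Helper8.BMNeg Groth.Agent.Helper8.BMVan Groth.Agent.Helper8.BMGen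

namespace Groth.Agent.Helper8.BMZero

variable {V : ObjectProperty Scheme.{u}} [IsConstructible V] {R : Type u} [CommRing R]
  {A : Coefs R}

section piece

variable (X : Obj V) (x : X.scheme) (W : (X.ptSub x).scheme.Opens) (U : X.scheme.Opens)
  (himg : ∀ w ∈ W, (X.ptSubι x) w ∈ U)

/-- the open `U` minus the part of the closure of `x` outside the piece `W`. -/
noncomputable def pieceOpen : X.scheme.Opens := bigOpen (X.ptSubι x) W ⊓ U

theorem pieceOpen_le : pieceOpen X x W U ≤ U := inf_le_right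

theorem mem_pieceOpen_of_not_mem_closure {z : X.scheme} (hz : z ∈ U)
    (hzc : z ∉ closure ({x} : Set X.scheme)) : z ∈ pieceOpen X x W U := by
  refine ⟨?_, hz⟩
  rintro ⟨w, _, rfl⟩
  exact hzc (by rw [← range_ptSubι]; exact ⟨w, rfl⟩)

include himg in
theorem pieceOpen_eq : ((pieceOpen X x W U : X.scheme.Opens) : Set X.scheme) =
    ((outOpen (X.ptSubι x) ⊓ U : X.scheme.Opens) : Set X.scheme) ∪
      (X.ptSubι x) '' (W : Set (X.ptSub x).scheme) := by
  ext z
  simp only [pieceOpen, Opens.coe_inf, Set.mem_inter_iff, Set.mem_union, SetLike.mem_coe]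
  have hB : z ∈ bigOpen (X.ptSubι x) W ↔ z ∈ (outOpen (X.ptSubι x) : Set X.scheme) ∪
      (X.ptSubι x) '' (W : Set (X.ptSub x).scheme) := by
    rw [← bigOpen_eq]; rfl
  rw [hB]
  constructor
  · rintro ⟨h | h, hzU⟩
    · left; exact ⟨h, hzU⟩
    · right; exact h
  · rintro (⟨h, hzU⟩ | h)
    · exact ⟨Or.inl h, hzU⟩
    · refine ⟨Or.inr h, ?_⟩
      obtain ⟨w, hw, rfl⟩ := h
      exact himg w hw

theorem piece_disj : Disjoint ((outOpen (X.ptSubι x) ⊓ U : X.scheme.Opens) : Set X.scheme)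
    (Set.range (X.ptSubι x)) :=
  (disjoint_outOpen (X.ptSubι x)).mono_left (fun _ hz => hz.1)

/-- the closed immersion of the piece `W` into `pieceOpen`. -/
noncomputable def pieceMap : ((X.ptSub x).res W).scheme ⟶ (X.res (pieceOpen X x W U)).scheme :=
  lcLift X (X.ptSub x) (X.ptSubι x) W (outOpen (X.ptSubι x) ⊓ U) (pieceOpen X x W U)
    (pieceOpen_eq X x W U himg)

instance : IsClosedImmersion (pieceMap X x W U himg) :=
  isClosedImmersion_lcLift X (X.ptSub x) (X.ptSubι x) W _ _ (pieceOpen_eq X x W U himg)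
    (piece_disj X x U)

theorem pieceMap_fac : pieceMap X x W U himg ≫ (pieceOpen X x W U).ι = W.ι ≫ X.ptSubι x :=
  lcLift_fac X (X.ptSub x) (X.ptSubι x) W _ _ (pieceOpen_eq X x W U himg)

theorem pieceMap_apply (w : W) : (pieceMap X x W U himg w).1 = (X.ptSubι x) w.1 :=
  lcLift_apply X (X.ptSub x) (X.ptSubι x) W _ _ (pieceOpen_eq X x W U himg) w

theorem pieceMap_mem_closure (w : W) : (pieceMap X x W U himg w).1 ∈ closure ({x} : Set X.scheme) := by
  rw [pieceMap_apply, ← range_ptSubι]; exact ⟨_, rfl⟩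

end piece

theorem containsFj_pieceOpen (X : Obj V) (j : ℕ) (x : X.cdPt j) (W : ptIdx X x.1)
    (U : Idx X (ContainsFj X j)) : ContainsFj X j (pieceOpen X x.1 W.1 U.1) := fun y hy =>
  ⟨containsFj_bigOpen X j x.1 ⟨by have := x.2; omega, by have := x.2; omega⟩ W.1 W.2.1 y hy,
    U.2.1 y hy⟩

theorem dim_pieceOpen (X : Obj V) (j : ℕ) (x : X.cdPt j) (W : ptIdx X x.1)
    (U : Idx X (ContainsFj X j)) :
    WeilCoh.dim ((pieceOpen X x.1 W.1 U.1 : X.scheme.Opens) : Scheme.{u}) =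
      WeilCoh.dim X.scheme :=
  dim_of_containsFj X j _ (containsFj_pieceOpen X j x W U)

/-- the index given by `pieceOpen`. -/
noncomputable abbrev pieceIdx (X : Obj V) (j : ℕ) (x : X.cdPt j) (W : ptIdx X x.1)
    (U : Idx X (ContainsFj X j)) : Idx X (ContainsFj X j) :=
  ⟨pieceOpen X x.1 W.1 U.1, containsFj_pieceOpen X j x W U, dim_pieceOpen X j x W U⟩

theorem piece_relCodim (X : Obj V) (j : ℕ) (x : X.cdPt j) (W : ptIdx X x.1)
    (U : Idx X (ContainsFj X j)) :
    relCodim ((X.ptSub x.1).res W.1).scheme (X.res (pieceOpen X x.1 W.1 U.1)).scheme =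
      (j : ℤ) := by
  show relCodim (W.1 : Scheme.{u}) ((pieceOpen X x.1 W.1 U.1 : X.scheme.Opens) : Scheme.{u}) = _
  unfold relCodim
  rw [dim_ptOpen X x.1 W.1 W.2.1, dim_pieceOpen X j x W U, ← codim_cast, x.2]

theorem piece_hi (X : Obj V) (j : ℕ) (x : X.cdPt j) (W : ptIdx X x.1)
    (U : Idx X (ContainsFj X j)) {i i' : ℤ} (hi : i' = i + 2 * (j : ℤ)) :
    i' = i + 2 * relCodim ((X.ptSub x.1).res W.1).scheme
      (X.res (pieceOpen X x.1 W.1 U.1)).scheme := by
  rw [piece_relCodim X j x W U]; exact hi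

theorem piece_hn (X : Obj V) (j : ℕ) (x : X.cdPt j) (W : ptIdx X x.1)
    (U : Idx X (ContainsFj X j)) {n n' : ℤ} (hn : n' = n + (j : ℤ)) :
    n' = n + relCodim ((X.ptSub x.1).res W.1).scheme
      (X.res (pieceOpen X x.1 W.1 U.1)).scheme := by
  rw [piece_relCodim X j x W U]; exact hn

/-- the component of the push-forward datum on a class of a piece. -/
theorem cpt_piece (T : PreTheory V R A) (X : Obj V) (j : ℕ) (P : T.PushData X j) (x : X.cdPt j)
    (W : ptIdx X x.1) (U : Idx X (ContainsFj X j)) (himg : ∀ w ∈ W.1, (X.ptSubι x.1) w ∈ U.1)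
    (M : A.Cat) (i n i' n' : ℤ) (hi : i' = i + 2 * (j : ℤ)) (hn : n' = n + (j : ℤ))
    (α : T.gp ((X.ptSub x.1).res W.1) M i n) :
    (P.cpt x M i n i' n' hi hn).hom (((T.ptι X x.1 i n W).app M).hom α) =
      ((T.fjι X j i' n' (pieceIdx X j x W U)).app M).hom
        ((T.push (pieceMap X x.1 W.1 U.1 himg) M i n i' n'
          (piece_hi X j x W U hi) (piece_hn X j x W U hn)).hom α) := by
  have hspec := P.cpt_spec x M i n i' n' hi hn (pieceIdx X j x W U) W
    (pieceMap X x.1 W.1 U.1 himg) (pieceMap_fac X x.1 W.1 U.1 himg)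
    (piece_hi X j x W U hi) (piece_hn X j x W U hn)
  exact comp_elem hspec α

theorem pdim_of_codim_zero (X : Obj V) (η : X.scheme) (h : WeilCoh.codim X.scheme η ≤ 0) :
    WeilCoh.pdim X.scheme η = WeilCoh.dim X.scheme := by
  have h1 := codim_cast X η
  have h2 := pdim_le_dim X η
  omega

theorem exists_nbhd (X : Obj V) (η : X.scheme)
    (hη : WeilCoh.pdim X.scheme η = WeilCoh.dim X.scheme) :
    ∃ N : X.scheme.Opens, η ∈ N ∧ (N : Set X.scheme) ⊆ closure {η} := by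
  have hmax : ∀ z ∈ (Set.univ : Set X.scheme), z ⤳ η → z = η := by
    intro z _ hz
    by_contra hne
    have h1 := pdim_lt_of_specializes X hz (Ne.symm hne)
    have h2 := pdim_le_dim X z
    omega
  obtain ⟨N, hNo, hηN, hNsub⟩ := exists_open_of_maximal (X := X.scheme) isClosed_univ hmax
  exact ⟨⟨N, hNo⟩, hηN, fun z hz => hNsub ⟨hz, trivial⟩⟩

theorem surj_claim (T : PreTheory V R A) (X : Obj V) [IsReduced X.scheme] (P : T.PushData X 0)
    (M : A.Cat) (i n : ℤ) (hi : i = i + 2 * ((0 : ℕ) : ℤ)) (hn : n = n + ((0 : ℕ) : ℤ))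
    (O : X.scheme.Opens) :
    ∀ (U : Idx X (ContainsFj X 0)) (hle : O ≤ U.1) (b : T.gp (X.res U.1) M i n),
      (O = ⊥ ∨ ∃ hd : WeilCoh.dim (O : Scheme.{u}) = WeilCoh.dim (U.1 : Scheme.{u}),
        (T.pull (X.resLE hle hd) M i n).hom b = 0) →
      ((T.fjι X 0 i n U).app M).hom b ∈ LinearMap.range (P.tot M i n i n hi hn).hom := by
  induction O using WellFoundedGT.induction with
  | ind O ih =>
  intro U hle b h
  by_cases hF : ContainsFj X 0 O
  · have hzero : ((T.fjι X 0 i n U).app M).hom b = 0 := by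
      rcases h with rfl | ⟨hd, hz⟩
      · by_cases hX : Nonempty X.scheme
        · obtain ⟨η, hη⟩ := exists_codim_zero X
          have : η ∈ (⊥ : X.scheme.Opens) :=
            hF η (by unfold WeilCoh.codim; rw [hη]; simp)
          exact absurd this (by simp)
        · rw [not_nonempty_iff] at hX
          haveI : IsEmpty (X.res U.1).scheme := ⟨fun z => hX.false z.1⟩
          rw [gp_empty T (X.res U.1) M i n b, map_zero]
      · have hOd : WeilCoh.dim (O : Scheme.{u}) = WeilCoh.dim X.scheme :=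
          dim_of_containsFj X 0 O hF
        have h1 := comp_elem (ocolimι_res T X (ContainsFj X 0) i n ⟨O, hF, hOd⟩ U hle hd M) b
        rw [← h1, hz, map_zero]
    rw [hzero]; exact zero_mem _
  · unfold ContainsFj at hF
    push Not at hF
    obtain ⟨η, hηc, hηO⟩ := hF
    have hηc0 : WeilCoh.codim X.scheme η = 0 := by omega
    have hηd := pdim_of_codim_zero X η hηc
    have hηU : η ∈ U.1 := U.2.1 η hηc
    obtain ⟨N0, hηN0, hN0sub⟩ := exists_nbhd X η hηd
    obtain ⟨N, hNdef⟩ : ∃ N : X.scheme.Opens, N = N0 ⊓ U.1 := ⟨_, rfl⟩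
    have hNsub : (N : Set X.scheme) ⊆ closure {η} := by
      rw [hNdef]; exact fun z hz => hN0sub hz.1
    have hηN : η ∈ N := by rw [hNdef]; exact ⟨hηN0, hηU⟩
    have hNle : N ≤ U.1 := by rw [hNdef]; exact inf_le_right
    have hNd : WeilCoh.dim (N : Scheme.{u}) = WeilCoh.dim X.scheme :=
      (dim_of_sub_closure X η N hηN hNsub).trans hηd
    have hW1ne := attW_nonempty X η N hηN
    let W1 : ptIdx X η := ⟨attW X η N, hW1ne,
      IsConstructible.dim_open (X.ptSub η).mem inferInstance _ hW1ne⟩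
    have himg : ∀ w ∈ W1.1, (X.ptSubι η) w ∈ U.1 := fun w hw => hNle hw
    -- the piece
    have hU3d := dim_pieceOpen X 0 ⟨η, hηc0⟩ W1 U
    have hNU3 : N ≤ pieceOpen X η W1.1 U.1 := by
      intro z hz
      refine ⟨?_, hNle hz⟩
      rintro ⟨w, hw, rfl⟩
      exact hw hz
    obtain ⟨bN, hbN⟩ : ∃ bN, bN = (T.pull (X.resLE hNle (hNd.trans U.2.2.symm)) M i n).hom b :=
      ⟨_, rfl⟩
    haveI hψiso : IsIso (ptResHom X η N hNsub).hom := isIso_ptRes X η N hNsub
    obtain ⟨a1, ha1⟩ : ∃ a1, a1 = (T.pull (ptResHom X η N hNsub) M i n).hom bN := ⟨_, rfl⟩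
    have hi3 := piece_hi X 0 ⟨η, hηc0⟩ W1 U hi
    have hn3 := piece_hn X 0 ⟨η, hηc0⟩ W1 U hn
    obtain ⟨c, hc⟩ : ∃ c, c = (T.push (pieceMap X η W1.1 U.1 himg) M i n i n hi3 hn3).hom a1 :=
      ⟨_, rfl⟩
    have hpb : IsPullback (𝟙 ((X.ptSub η).res W1.1) : (X.ptSub η).res W1.1 ⟶ _).hom
        (ptResHom X η N hNsub).hom (pieceMap X η W1.1 U.1 himg)
        (X.resLE hNU3 (hNd.trans hU3d.symm)).hom := by
      haveI : IsIso (𝟙 ((X.ptSub η).res W1.1) : (X.ptSub η).res W1.1 ⟶ _).hom := by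
        rw [id_hom]; infer_instance
      apply IsPullback.of_horiz_isIso_mono
      constructor
      rw [← cancel_mono (pieceOpen X η W1.1 U.1).ι]
      simp only [id_hom, Category.id_comp, Category.assoc]
      rw [pieceMap_fac]
      show _ = ((X.ptSubι η) ∣_ N) ≫ X.scheme.homOfLE hNU3 ≫ (pieceOpen X η W1.1 U.1).ι
      rw [Scheme.homOfLE_ι, morphismRestrict_ι]
    have hrelψ : relCodim ((X.ptSub η).res W1.1).scheme (X.res N).scheme = 0 :=
      relCodim_of_dim_eq (ptResHom X η N hNsub).dim_eq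
    have hpp := T.push_pull (pieceMap X η W1.1 U.1 himg) (ptResHom X η N hNsub).hom
      (X.resLE hNU3 (hNd.trans hU3d.symm)) (𝟙 _) hpb M i n i n hi3 hn3
      (by rw [hrelψ]; ring) (by rw [hrelψ]; ring)
    have hcN : (T.pull (X.resLE hNU3 (hNd.trans hU3d.symm)) M i n).hom c = bN := by
      have h1 := congrArg (fun φ => φ.hom a1) hpp
      simp only [ModuleCat.hom_comp, LinearMap.comp_apply] at h1
      rw [hc, h1]
      have hid : (T.pull (𝟙 ((X.ptSub η).res W1.1)) M i n).hom a1 = a1 := by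
        rw [pull_id]; rfl
      erw [hid]
      rw [ha1]
      exact push_pull_of_isIso T (ptResHom X η N hNsub) M i n _ _ bN
    obtain ⟨b', hb'⟩ : ∃ b', b' =
        (T.pull (X.resLE (pieceOpen_le X η W1.1 U.1) (hU3d.trans U.2.2.symm)) M i n).hom b - c :=
      ⟨_, rfl⟩
    have hb'N : (T.pull (X.resLE hNU3 (hNd.trans hU3d.symm)) M i n).hom b' = 0 := by
      rw [hb', map_sub, pull_pull, hcN, hbN]; exact sub_self _
    have hcl : ((T.fjι X 0 i n U).app M).hom b =
        ((T.fjι X 0 i n (pieceIdx X 0 ⟨η, hηc0⟩ W1 U)).app M).hom b' +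
        ((T.fjι X 0 i n (pieceIdx X 0 ⟨η, hηc0⟩ W1 U)).app M).hom c := by
      rw [← map_add, hb', sub_add_cancel]
      have h := comp_elem (ocolimι_res T X (ContainsFj X 0) i n (pieceIdx X 0 ⟨η, hηc0⟩ W1 U) U
        (pieceOpen_le X η W1.1 U.1) (hU3d.trans U.2.2.symm) M) b
      exact h.symm
    rw [hcl]
    refine Submodule.add_mem _ ?_ ?_
    · rcases h with rfl | ⟨hd, hz⟩
      · have hlt : (⊥ : X.scheme.Opens) < N :=
          lt_of_le_of_ne bot_le (fun h => by rw [← h] at hηN; exact absurd hηN (by simp))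
        exact ih N hlt (pieceIdx X 0 ⟨η, hηc0⟩ W1 U) hNU3 b'
          (Or.inr ⟨hNd.trans hU3d.symm, hb'N⟩)
      · have hOd : WeilCoh.dim (O : Scheme.{u}) = WeilCoh.dim X.scheme := hd.trans U.2.2
        have hOU3 : O ≤ pieceOpen X η W1.1 U.1 := fun z hz =>
          mem_pieceOpen_of_not_mem_closure X η W1.1 U.1 (hle hz) (fun hzc =>
            Set.disjoint_left.mp (disjoint_closure_of_not_mem O hηO) hz hzc)
        have hcO : (T.pull (X.resLE hOU3 (hOd.trans hU3d.symm)) M i n).hom c = 0 := by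
          rw [hc]
          apply pull_push_of_disjoint T (pieceMap X η W1.1 U.1 himg)
            (X.resLE hOU3 (hOd.trans hU3d.symm))
          rw [Set.disjoint_left]
          rintro _ ⟨w, rfl⟩ hy
          have hy' := (mem_range_homOfLE hOU3 (pieceMap X η W1.1 U.1 himg w)).mp hy
          exact Set.disjoint_left.mp (disjoint_closure_of_not_mem O hηO) hy'
            (pieceMap_mem_closure X η W1.1 U.1 himg w)
        have hb'O : (T.pull (X.resLE hOU3 (hOd.trans hU3d.symm)) M i n).hom b' = 0 := by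
          rw [hb', map_sub, pull_pull, hcO, sub_zero]
          exact hz
        have hdisj : Disjoint (O : Set X.scheme) (N : Set X.scheme) := by
          rw [Set.disjoint_left]
          intro z hzO hzN
          have hsp : η ⤳ z := specializes_iff_mem_closure.mpr (hNsub hzN)
          exact hηO (hsp.mem_open O.isOpen hzO)
        have hsd : WeilCoh.dim (O : Scheme.{u}) =
            WeilCoh.dim ((O ⊔ N : X.scheme.Opens) : Scheme.{u}) := att_hdim X O N hOd
        have hsd2 : WeilCoh.dim (N : Scheme.{u}) =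
            WeilCoh.dim ((O ⊔ N : X.scheme.Opens) : Scheme.{u}) :=
          (hNd.trans hOd.symm).trans hsd
        have hsle : O ⊔ N ≤ pieceOpen X η W1.1 U.1 := sup_le hOU3 hNU3
        have hlt : O < O ⊔ N :=
          lt_of_le_of_ne le_sup_left (fun h => hηO (by rw [h]; exact Or.inr hηN))
        have hbij := BMBasic.main T (X.resLE (le_sup_left : O ≤ O ⊔ N) hsd)
          (X.resLE (le_sup_right : N ≤ O ⊔ N) hsd2) (range_resLE_sup X O N hdisj hsd hsd2) M i n
        have hzero : (T.pull (X.resLE hsle (hsd.symm.trans (hOd.trans hU3d.symm))) M i n).hom b'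
            = 0 := by
          apply hbij.1
          simp only [map_zero, Prod.mk.injEq]
          rw [pull_pull, pull_pull]
          exact ⟨hb'O, hb'N⟩
        exact ih (O ⊔ N) hlt (pieceIdx X 0 ⟨η, hηc0⟩ W1 U) hsle b' (Or.inr ⟨_, hzero⟩)
    · have h := cpt_piece T X 0 P ⟨η, hηc0⟩ W1 U himg M i n i n hi hn a1
      rw [hc, ← h]
      classical
      rw [← PreTheory.PushData.tot_lof P M i n i n hi hn ⟨η, hηc0⟩]
      exact LinearMap.mem_range_self _ _

/-- a class of `H(F_0 X)` vanishing near the point `η`. -/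
def VN (T : PreTheory V R A) (X : Obj V) (η : X.scheme) (M : A.Cat) (i n : ℤ)
    (w : T.fjGp X 0 M i n) : Prop :=
  ∃ (U : Idx X (ContainsFj X 0)) (b : T.gp (X.res U.1) M i n) (N : X.scheme.Opens)
    (hle : N ≤ U.1) (hd : WeilCoh.dim (N : Scheme.{u}) = WeilCoh.dim (U.1 : Scheme.{u})),
    η ∈ N ∧ ((T.fjι X 0 i n U).app M).hom b = w ∧ (T.pull (X.resLE hle hd) M i n).hom b = 0

theorem VN_zero (T : PreTheory V R A) (X : Obj V) (η : X.scheme)
    (hη : WeilCoh.pdim X.scheme η = WeilCoh.dim X.scheme) (M : A.Cat) (i n : ℤ) :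
    VN T X η M i n 0 := by
  obtain ⟨U⟩ := fj_ne X 0
  have hηU : η ∈ U.1 := U.2.1 η (by unfold WeilCoh.codim; rw [hη]; simp)
  exact ⟨U, 0, U.1, le_refl _, rfl, hηU, map_zero _, map_zero _⟩

theorem VN_add (T : PreTheory V R A) (X : Obj V) (η : X.scheme)
    (hη : WeilCoh.pdim X.scheme η = WeilCoh.dim X.scheme) (M : A.Cat) (i n : ℤ)
    (w w' : T.fjGp X 0 M i n) (h : VN T X η M i n w) (h' : VN T X η M i n w') :
    VN T X η M i n (w + w') := by
  obtain ⟨U, b, N, hle, hd, hηN, rfl, hz⟩ := h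
  obtain ⟨U', b', N', hle', hd', hηN', rfl, hz'⟩ := h'
  obtain ⟨U'', h1, h2⟩ := fj_dir X 0 U U'
  have hηU'' : η ∈ U''.1 := U''.2.1 η (by unfold WeilCoh.codim; rw [hη]; simp)
  have hN''d : WeilCoh.dim ((N ⊓ N' ⊓ U''.1 : X.scheme.Opens) : Scheme.{u}) =
      WeilCoh.dim X.scheme := dim_of_mem_codim_zero X η hη _ ⟨⟨hηN, hηN'⟩, hηU''⟩
  have hNd : WeilCoh.dim (N : Scheme.{u}) = WeilCoh.dim X.scheme := hd.trans U.2.2
  have hN'd : WeilCoh.dim (N' : Scheme.{u}) = WeilCoh.dim X.scheme := hd'.trans U'.2.2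
  refine ⟨U'', (T.pull (X.resLE h1 (U''.2.2.trans U.2.2.symm)) M i n).hom b +
    (T.pull (X.resLE h2 (U''.2.2.trans U'.2.2.symm)) M i n).hom b', N ⊓ N' ⊓ U''.1, inf_le_right,
    hN''d.trans U''.2.2.symm, ⟨⟨hηN, hηN'⟩, hηU''⟩, ?_, ?_⟩
  · rw [map_add]
    have e1 := comp_elem (ocolimι_res T X (ContainsFj X 0) i n U'' U h1
      (U''.2.2.trans U.2.2.symm) M) b
    have e2 := comp_elem (ocolimι_res T X (ContainsFj X 0) i n U'' U' h2
      (U''.2.2.trans U'.2.2.symm) M) b'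
    rw [e1, e2]
  · rw [map_add, pull_pull, pull_pull]
    have e1 := pull_pull T X (inf_le_left.trans inf_le_left : N ⊓ N' ⊓ U''.1 ≤ N) hle
      (hN''d.trans hNd.symm) hd M i n b
    have e2 := pull_pull T X (inf_le_left.trans inf_le_right : N ⊓ N' ⊓ U''.1 ≤ N') hle'
      (hN''d.trans hN'd.symm) hd' M i n b'
    rw [hz, map_zero] at e1
    rw [hz', map_zero] at e2
    rw [← e1, ← e2, add_zero]

theorem not_mem_closure_of_codim_zero (X : Obj V) (η x : X.scheme)
    (hη : WeilCoh.pdim X.scheme η = WeilCoh.dim X.scheme) (hne : η ≠ x) :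
    η ∉ closure ({x} : Set X.scheme) := by
  intro hmem
  have hsp : x ⤳ η := specializes_iff_mem_closure.mpr hmem
  have h1 := pdim_lt_of_specializes X hsp hne
  have h2 := pdim_le_dim X x
  omega

theorem VN_cpt (T : PreTheory V R A) (X : Obj V) (P : T.PushData X 0) (x : X.cdPt 0)
    (η : X.scheme) (hη : WeilCoh.pdim X.scheme η = WeilCoh.dim X.scheme) (hne : η ≠ x.1)
    (M : A.Cat) (i n : ℤ) (hi : i = i + 2 * ((0 : ℕ) : ℤ)) (hn : n = n + ((0 : ℕ) : ℤ))
    (a : T.ptGp X x.1 M i n) : VN T X η M i n ((P.cpt x M i n i n hi hn).hom a) := by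
  obtain ⟨W, α, rfl⟩ := ocolim_rep T (X.ptSub x.1) _ (pt_dir X x.1) (pt_ne X x.1) i n M a
  obtain ⟨U⟩ := fj_ne X 0
  obtain ⟨U, hU⟩ : ∃ U : Idx X (ContainsFj X 0), U.1 = ⊤ :=
    ⟨⟨⊤, fun _ _ => trivial, dim_top _⟩, rfl⟩
  have himg : ∀ w ∈ W.1, (X.ptSubι x.1) w ∈ U.1 := fun w _ => by rw [hU]; trivial
  rw [cpt_piece T X 0 P x W U himg M i n i n hi hn α]
  have hηc := not_mem_closure_of_codim_zero X η x.1 hη hne
  have hηU : η ∈ U.1 := by rw [hU]; trivial
  have hle : outOpen (X.ptSubι x.1) ⊓ U.1 ≤ pieceOpen X x.1 W.1 U.1 := fun z hz =>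
    mem_pieceOpen_of_not_mem_closure X x.1 W.1 U.1 hz.2
      (fun hzc => hz.1 (by rw [range_ptSubι]; exact hzc))
  have hηN : η ∈ outOpen (X.ptSubι x.1) ⊓ U.1 :=
    ⟨fun h => hηc (by rw [← range_ptSubι]; exact h), hηU⟩
  have hNd := dim_of_mem_codim_zero X η hη _ hηN
  have hU3d := dim_pieceOpen X 0 x W U
  refine ⟨pieceIdx X 0 x W U, _, outOpen (X.ptSubι x.1) ⊓ U.1, hle, hNd.trans hU3d.symm, hηN,
    rfl, ?_⟩
  apply pull_push_of_disjoint T (pieceMap X x.1 W.1 U.1 himg)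
    (X.resLE hle (hNd.trans hU3d.symm))
  rw [Set.disjoint_left]
  rintro _ ⟨w, rfl⟩ hy
  have hy' := (mem_range_homOfLE hle (pieceMap X x.1 W.1 U.1 himg w)).mp hy
  apply hy'.1
  rw [pieceMap_apply]
  exact ⟨_, rfl⟩

theorem VN_inj (T : PreTheory V R A) (X : Obj V) [IsReduced X.scheme] (P : T.PushData X 0)
    (x : X.cdPt 0) (M : A.Cat) (i n : ℤ) (hi : i = i + 2 * ((0 : ℕ) : ℤ))
    (hn : n = n + ((0 : ℕ) : ℤ)) (a : T.ptGp X x.1 M i n)
    (h : VN T X x.1 M i n ((P.cpt x M i n i n hi hn).hom a)) : a = 0 := by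
  obtain ⟨W, α, rfl⟩ := ocolim_rep T (X.ptSub x.1) _ (pt_dir X x.1) (pt_ne X x.1) i n M a
  obtain ⟨U0, hU0⟩ : ∃ U : Idx X (ContainsFj X 0), U.1 = ⊤ :=
    ⟨⟨⊤, fun _ _ => trivial, dim_top _⟩, rfl⟩
  have himg : ∀ w ∈ W.1, (X.ptSubι x.1) w ∈ U0.1 := fun w _ => by rw [hU0]; trivial
  rw [cpt_piece T X 0 P x W U0 himg M i n i n hi hn α] at h
  obtain ⟨U, b, N, hle, hd, hxN, hw, hz⟩ := h
  obtain ⟨U'', h1, h2, heq⟩ := ocolim_eq T X _ (fj_dir X 0) (fj_ne X 0) i n M U
    (pieceIdx X 0 x W U0) b _ hw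
  have hxd := pdim_of_codim_zero X x.1 (le_of_eq x.2)
  obtain ⟨N0, hxN0, hN0sub⟩ := exists_nbhd X x.1 hxd
  have hxU'' : x.1 ∈ U''.1 := U''.2.1 x.1 (le_of_eq x.2)
  obtain ⟨N1, hN1⟩ : ∃ N1 : X.scheme.Opens, N1 = N ⊓ U''.1 ⊓ N0 := ⟨_, rfl⟩
  have hxN1 : x.1 ∈ N1 := by rw [hN1]; exact ⟨⟨hxN, hxU''⟩, hxN0⟩
  have hN1sub : (N1 : Set X.scheme) ⊆ closure {x.1} := by
    rw [hN1]; exact fun z hz => hN0sub hz.2
  have hN1N : N1 ≤ N := by rw [hN1]; exact inf_le_left.trans inf_le_left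
  have hN1U'' : N1 ≤ U''.1 := by rw [hN1]; exact inf_le_left.trans inf_le_right
  have hN1d : WeilCoh.dim (N1 : Scheme.{u}) = WeilCoh.dim X.scheme :=
    (dim_of_sub_closure X x.1 N1 hxN1 hN1sub).trans hxd
  have hU3d := dim_pieceOpen X 0 x W U0
  have hN1U3 : N1 ≤ pieceOpen X x.1 W.1 U0.1 := hN1U''.trans h2
  have hW1le : (X.ptSubι x.1) ⁻¹ᵁ N1 ≤ W.1 := by
    intro w hw
    by_contra hwW
    exact (hN1U3 hw).1 ⟨w, hwW, rfl⟩
  have hW1ne := attW_nonempty X x.1 N1 hxN1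
  have hW1d := IsConstructible.dim_open (X.ptSub x.1).mem inferInstance _ hW1ne
  have hpb : IsPullback ((X.ptSub x.1).resLE hW1le (hW1d.trans W.2.2.symm)).hom
      (ptResHom X x.1 N1 hN1sub).hom (pieceMap X x.1 W.1 U0.1 himg)
      (X.resLE hN1U3 (hN1d.trans hU3d.symm)).hom := by
    refine (IsOpenImmersion.isPullback (ptResHom X x.1 N1 hN1sub).hom
      ((X.ptSub x.1).scheme.homOfLE hW1le) (X.scheme.homOfLE hN1U3)
      (pieceMap X x.1 W.1 U0.1 himg) ?_ ?_).flip
    · rw [← cancel_mono (pieceOpen X x.1 W.1 U0.1).ι]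
      simp only [Category.assoc]
      rw [pieceMap_fac, Scheme.homOfLE_ι, ← Category.assoc, Scheme.homOfLE_ι]
      show _ = ((X.ptSubι x.1) ∣_ N1) ≫ N1.ι
      rw [morphismRestrict_ι]
    · ext w
      show pieceMap X x.1 W.1 U0.1 himg w ∈ Set.range (X.scheme.homOfLE hN1U3) ↔
        w ∈ Set.range ((X.ptSub x.1).scheme.homOfLE hW1le)
      refine (mem_range_homOfLE (Y := X.scheme) hN1U3 _).trans
        (Iff.trans ?_ (mem_range_homOfLE (Y := (X.ptSub x.1).scheme) hW1le w).symm)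
      rw [pieceMap_apply]
      rfl
  have hrelψ : relCodim ((X.ptSub x.1).res ((X.ptSubι x.1) ⁻¹ᵁ N1)).scheme (X.res N1).scheme
      = 0 := relCodim_of_dim_eq (ptResHom X x.1 N1 hN1sub).dim_eq
  haveI hψiso : IsIso (ptResHom X x.1 N1 hN1sub).hom := isIso_ptRes X x.1 N1 hN1sub
  have hpp := T.push_pull (pieceMap X x.1 W.1 U0.1 himg) (ptResHom X x.1 N1 hN1sub).hom
    (X.resLE hN1U3 (hN1d.trans hU3d.symm)) ((X.ptSub x.1).resLE hW1le (hW1d.trans W.2.2.symm))
    hpb M i n i n (piece_hi X 0 x W U0 hi) (piece_hn X 0 x W U0 hn)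
    (by rw [hrelψ]; ring) (by rw [hrelψ]; ring)
  have h3 := congrArg (fun φ => φ.hom α) hpp
  simp only [ModuleCat.hom_comp, LinearMap.comp_apply] at h3
  have hL : (T.pull (X.resLE hN1U3 (hN1d.trans hU3d.symm)) M i n).hom
      ((T.push (pieceMap X x.1 W.1 U0.1 himg) M i n i n (piece_hi X 0 x W U0 hi)
        (piece_hn X 0 x W U0 hn)).hom α) = 0 := by
    have e1 := pull_pull T X hN1U'' h2 (hN1d.trans U''.2.2.symm) (U''.2.2.trans hU3d.symm) M i n
      ((T.push (pieceMap X x.1 W.1 U0.1 himg) M i n i n (piece_hi X 0 x W U0 hi)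
        (piece_hn X 0 x W U0 hn)).hom α)
    have e2 := pull_pull T X hN1N hle (hN1d.trans (hd.trans U.2.2).symm) hd M i n b
    have e3 := pull_pull T X hN1U'' h1 (hN1d.trans U''.2.2.symm) (U''.2.2.trans U.2.2.symm) M i n b
    rw [hz, map_zero] at e2
    rw [← e1]
    erw [← heq]
    rw [e3]
    exact e2.symm
  rw [hL] at h3
  have hα : (T.pull ((X.ptSub x.1).resLE hW1le (hW1d.trans W.2.2.symm)) M i n).hom α = 0 := by
    apply push_injective T (ptResHom X x.1 N1 hN1sub) M i n i n (by rw [hrelψ]; ring)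
      (by rw [hrelψ]; ring)
    rw [map_zero]
    exact h3.symm
  have e := comp_elem (ocolimι_res T (X.ptSub x.1) _ i n ⟨_, hW1ne, hW1d⟩ W hW1le
    (hW1d.trans W.2.2.symm) M) α
  rw [← e, hα, map_zero]

theorem main (T : PreTheory V R A) (X : Obj V) [IsReduced X.scheme] (P : T.PushData X 0)
    (M : A.Cat) (i n i' n' : ℤ) (hi : i' = i + 2 * ((0 : ℕ) : ℤ)) (hn : n' = n + ((0 : ℕ) : ℤ)) :
    Function.Bijective (P.tot M i n i' n' hi hn).hom := by
  obtain rfl : i' = i := by simpa using hi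
  obtain rfl : n' = n := by simpa using hn
  constructor
  · rw [injective_iff_map_eq_zero]
    intro ξ hξ
    classical
    apply DFinsupp.ext
    intro l
    by_cases hls : l ∈ ξ.support
    · have hsum := tot_eq_sum T X 0 P M i' n' i' n' hi hn ξ ξ.support
        (fun x hx => by simpa using hx)
      rw [hξ, ← Finset.add_sum_erase _ _ hls] at hsum
      have hld := pdim_of_codim_zero X l.1 (le_of_eq l.2)
      have hVN : VN T X l.1 M i' n' (∑ x ∈ ξ.support.erase l,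
          (P.cpt x M i' n' i' n' hi hn).hom (-(ξ x))) := by
        apply Finset.sum_induction _ (VN T X l.1 M i' n')
        · exact fun w w' => VN_add T X l.1 hld M i' n' w w'
        · exact VN_zero T X l.1 hld M i' n'
        · intro x hx
          have hxl : x ≠ l := (Finset.mem_erase.mp hx).1
          exact VN_cpt T X P x l.1 hld (fun h => hxl (Subtype.ext h.symm)) M i' n' hi hn _
      have heq : (P.cpt l M i' n' i' n' hi hn).hom (ξ l) = ∑ x ∈ ξ.support.erase l,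
          (P.cpt x M i' n' i' n' hi hn).hom (-(ξ x)) := by
        simp only [map_neg, Finset.sum_neg_distrib]
        exact eq_neg_of_add_eq_zero_left hsum.symm
      rw [← heq] at hVN
      exact VN_inj T X P l M i' n' hi hn (ξ l) hVN
    · simpa using hls
  · intro y
    obtain ⟨U, b, rfl⟩ := ocolim_rep T X (ContainsFj X 0) (fj_dir X 0) (fj_ne X 0) i' n' M y
    exact surj_claim T X P M i' n' hi hn ⊥ U bot_le b (Or.inl rfl)

end Groth.Agent.Helper8.BMZero
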