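import Mathlib.RingTheory.PowerSeries.WellKnown
import Mathlib.RingTheory.PowerSeries.Basic
import Mathlib.Data.Nat.Choose.Sum
import Mathlib.Algebra.BigOperators.Fin
import Mathlib.Data.Fintype.Pi
import Mathlib.Data.Fintype.BigOperators
import Mathlib.Algebra.Ring.GeomSum
import Mathlib.Tactic

set_option autoImplicit false

namespace Groth.Agent.Helper8.BddComp

open PowerSeries Finset

/-- generating series of one coordinate -/
noncomputable def Pser (p : ℕ) : ℤ⟦X⟧ := ∑ j ∈ Ico 1 p, (X : ℤ⟦X⟧) ^ j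

theorem card_eq_coeff (p n s : ℕ) :
    (Fintype.card {e : Fin n → Fin p // (∀ i, 1 ≤ (e i : ℕ)) ∧ ∑ i, (e i : ℕ) = s} : ℤ) =
      coeff s ((Pser p) ^ n) := by
  classical
  have h1 : (Pser p) ^ n = ∑ e ∈ Fintype.piFinset (fun _ : Fin n => Ico 1 p),
      (X : ℤ⟦X⟧) ^ (∑ i, e i) := by
    have : (Pser p) ^ n = ∏ _i : Fin n, Pser p := by
      rw [Finset.prod_const, Finset.card_univ, Fintype.card_fin]
    rw [this]
    unfold Pser
    rw [Finset.prod_univ_sum]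
    refine Finset.sum_congr rfl (fun e _ => ?_)
    rw [Finset.prod_pow_eq_pow_sum]
  rw [h1, map_sum]
  simp only [coeff_X_pow]
  rw [Finset.sum_boole, Fintype.card_subtype]
  norm_cast
  refine Finset.card_bij (fun e _ => fun i => ((e i : Fin p) : ℕ)) ?_ ?_ ?_
  · intro e he
    rw [mem_filter] at he ⊢
    refine ⟨?_, he.2.2.symm⟩
    rw [Fintype.mem_piFinset]
    intro i
    rw [mem_Ico]
    exact ⟨he.2.1 i, (e i).2⟩
  · intro e _ e' _ h
    funext i
    exact Fin.ext (congrFun h i)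
  · intro e' he'
    rw [mem_filter, Fintype.mem_piFinset] at he'
    refine ⟨fun i => ⟨e' i, (mem_Ico.mp (he'.1 i)).2⟩, ?_, rfl⟩
    rw [mem_filter]
    exact ⟨mem_univ _, fun i => (mem_Ico.mp (he'.1 i)).1, he'.2.symm⟩

theorem Pser_mul (p : ℕ) : Pser p * (1 - X) = X * (1 - X ^ (p - 1)) := by
  unfold Pser
  cases p with
  | zero => simp
  | succ q =>
    rw [Finset.sum_Ico_eq_sum_range]
    have : ∑ k ∈ range (q + 1 - 1), (X : ℤ⟦X⟧) ^ (1 + k) = X * ∑ k ∈ range q, X ^ k := by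
      rw [Nat.add_sub_cancel, Finset.mul_sum]
      refine Finset.sum_congr rfl (fun k _ => ?_)
      rw [pow_add, pow_one]
    rw [this, mul_assoc, geom_sum_mul_neg, Nat.add_sub_cancel]

theorem Pser_pow (p d : ℕ) : Pser p ^ (d + 1) =
    X ^ (d + 1) * (1 - X ^ (p - 1)) ^ (d + 1) * mk (fun k => (((d + k).choose d : ℕ) : ℤ)) := by
  have hB := mk_add_choose_mul_one_sub_pow_eq_one ℤ d
  calc Pser p ^ (d + 1) = Pser p ^ (d + 1) *
        ((mk fun n ↦ ((d + n).choose d : ℤ)) * (1 - X) ^ (d + 1)) := by rw [hB, mul_one]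
    _ = (Pser p * (1 - X)) ^ (d + 1) * (mk fun n ↦ ((d + n).choose d : ℤ)) := by
        rw [mul_pow]; ring
    _ = _ := by rw [Pser_mul, mul_pow]

theorem one_sub_pow_expand (y : ℤ⟦X⟧) (n : ℕ) :
    (1 - y) ^ n = ∑ i ∈ range (n + 1), C ((-1 : ℤ) ^ i * (n.choose i : ℤ)) * y ^ i := by
  have : (1 - y) = (-y) + 1 := by ring
  rw [this, add_pow]
  refine Finset.sum_congr rfl (fun i _ => ?_)
  rw [one_pow, mul_one, neg_pow, map_mul, map_pow, map_neg, map_one, map_natCast]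
  ring

theorem main (p n s : ℕ) (hn : 1 ≤ n) :
    (Fintype.card {e : Fin n → Fin p // (∀ i, 1 ≤ (e i : ℕ)) ∧ ∑ i, (e i : ℕ) = s} : ℤ) =
      ∑ i ∈ Finset.range (n + 1),
        (-1 : ℤ) ^ i * (n.choose i : ℤ) *
          (if i * (p - 1) + n ≤ s then (((s - i * (p - 1) - 1).choose (n - 1) : ℕ) : ℤ) else 0) := by
  obtain ⟨d, rfl⟩ : ∃ d, n = d + 1 := ⟨n - 1, by omega⟩
  rw [card_eq_coeff, Pser_pow, one_sub_pow_expand, Finset.mul_sum, Finset.sum_mul, map_sum]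
  refine Finset.sum_congr rfl (fun i _ => ?_)
  have e1 : X ^ (d + 1) * (C ((-1 : ℤ) ^ i * ((d + 1).choose i : ℤ)) * (X ^ (p - 1)) ^ i) *
      mk (fun k => (((d + k).choose d : ℕ) : ℤ)) =
      C ((-1 : ℤ) ^ i * ((d + 1).choose i : ℤ)) *
        (X ^ (d + 1 + (p - 1) * i) * mk (fun k => (((d + k).choose d : ℕ) : ℤ))) := by
    rw [← pow_mul, pow_add]; ring
  rw [e1, coeff_C_mul, coeff_X_pow_mul', Nat.add_sub_cancel]
  congr 1
  have hc : (p - 1) * i = i * (p - 1) := Nat.mul_comm _ _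
  rw [hc]
  by_cases h : i * (p - 1) + (d + 1) ≤ s
  · rw [if_pos h, if_pos (by omega), coeff_mk]
    congr 2
    omega
  · rw [if_neg h, if_neg (by omega)]

end Groth.Agent.Helper8.BddComp
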