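import Mathlib.RingTheory.PowerSeries.Basic
import Mathlib.Data.Nat.Choose.Sum
import Mathlib.Algebra.BigOperators.Fin
import Mathlib.Data.Fintype.Pi
import Mathlib.Data.Fintype.BigOperators
import Mathlib.Algebra.BigOperators.Intervals
import Mathlib.Algebra.Ring.Parity
import Mathlib.Tactic

set_option autoImplicit false

namespace Groth.Agent.Helper8.BddComp2

open PowerSeries Finset

/-- generating series of one coordinate with values in `[1, q)` -/
noncomputable def A (q : ℕ) : ℕ⟦X⟧ := ∑ j ∈ Ico 1 q, (X : ℕ⟦X⟧) ^ j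

theorem card_piFinset_eq_coeff (n s : ℕ) (t : Fin n → Finset ℕ) :
    ((Fintype.piFinset t).filter (fun e => ∑ i, e i = s)).card =
      coeff s (∏ i, ∑ j ∈ t i, (X : ℕ⟦X⟧) ^ j) := by
  classical
  rw [Finset.prod_univ_sum, map_sum]
  simp only [Finset.prod_pow_eq_pow_sum, coeff_X_pow]
  rw [Finset.sum_boole]
  simp only [Nat.cast_id]
  congr 1
  ext e
  simp only [mem_filter]
  constructor
  · rintro ⟨h1, h2⟩; exact ⟨h1, h2.symm⟩
  · rintro ⟨h1, h2⟩; exact ⟨h1, h2.symm⟩

theorem card_eq_coeff (q m s : ℕ) :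
    Fintype.card {e : Fin m → Fin q // (∀ i, 1 ≤ (e i : ℕ)) ∧ ∑ i, (e i : ℕ) = s} =
      coeff s ((A q) ^ m) := by
  classical
  have h1 : (A q) ^ m = ∏ _i : Fin m, ∑ j ∈ Ico 1 q, (X : ℕ⟦X⟧) ^ j := by
    rw [Finset.prod_const, Finset.card_univ, Fintype.card_fin]; rfl
  rw [h1, ← card_piFinset_eq_coeff, Fintype.card_subtype]
  refine Finset.card_bij (fun e _ => fun i => ((e i : Fin q) : ℕ)) ?_ ?_ ?_
  · intro e he
    rw [mem_filter] at he ⊢
    refine ⟨?_, he.2.2⟩
    rw [Fintype.mem_piFinset]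
    intro i
    rw [mem_Ico]
    exact ⟨he.2.1 i, (e i).2⟩
  · intro e _ e' _ h
    funext i
    exact Fin.ext (congrFun h i)
  · intro e' he'
    rw [mem_filter, Fintype.mem_piFinset] at he'
    refine ⟨fun i => ⟨e' i, (mem_Ico.mp (he'.1 i)).2⟩, ?_, rfl⟩
    rw [mem_filter]
    exact ⟨mem_univ _, fun i => (mem_Ico.mp (he'.1 i)).1, he'.2⟩

theorem constantCoeff_A (q : ℕ) : constantCoeff (A q) = 0 := by
  unfold A
  rw [map_sum]
  refine Finset.sum_eq_zero (fun j hj => ?_)
  rw [mem_Ico] at hj
  rw [map_pow, constantCoeff_X, zero_pow (by omega)]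

theorem A_large (h : ℕ) : ∑ j ∈ Ico (h + 1) (2 * h + 1), (X : ℕ⟦X⟧) ^ j = X ^ h * A (h + 1) := by
  unfold A
  have := Finset.sum_Ico_add' (fun j => (X : ℕ⟦X⟧) ^ j) 1 (h + 1) h
  rw [show 1 + h = h + 1 by ring, show h + 1 + h = 2 * h + 1 by ring] at this
  rw [← this, Finset.mul_sum]
  refine Finset.sum_congr rfl (fun j _ => ?_)
  rw [pow_add, mul_comm]

/-- coefficient extraction for the product -/
theorem coeff_split (h D m s : ℕ) :
    coeff s (A (h + 1) ^ D * (X ^ h * A (h + 1)) ^ m) =
      ∑ j ∈ range (s + 1), coeff j (A (h + 1) ^ D) * coeff (s - j - m * h) (A (h + 1) ^ m) := by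
  rw [coeff_mul, Finset.Nat.sum_antidiagonal_eq_sum_range_succ_mk]
  refine Finset.sum_congr rfl (fun j _ => ?_)
  congr 1
  rw [mul_pow, ← pow_mul, coeff_X_pow_mul', Nat.mul_comm h m]
  by_cases hc : m * h ≤ s - j
  · rw [if_pos hc]
  · rw [if_neg hc]
    have h0 : s - j - m * h = 0 := by omega
    have hm : m ≠ 0 := by
      rintro rfl
      simp at hc
    rw [h0, coeff_zero_eq_constantCoeff_apply, map_pow, constantCoeff_A, zero_pow hm]

theorem main (p n s D : ℕ) (hp : Odd p) :
    Fintype.card {e : Fin n → Fin p // (∀ i, 1 ≤ (e i : ℕ)) ∧ ∑ i, (e i : ℕ) = s ∧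
        (Finset.univ.filter fun i => 2 * (e i : ℕ) < p).card = D} =
      n.choose D * ∑ j ∈ Finset.range (s + 1),
        Fintype.card {e : Fin D → Fin ((p + 1) / 2) // (∀ i, 1 ≤ (e i : ℕ)) ∧ ∑ i, (e i : ℕ) = j} *
          Fintype.card {e : Fin (n - D) → Fin ((p + 1) / 2) // (∀ i, 1 ≤ (e i : ℕ)) ∧
            ∑ i, (e i : ℕ) = (s - j - (n - D) * ((p - 1) / 2))} := by
  classical
  obtain ⟨h, rfl⟩ := hp
  have q1 : (2 * h + 1 + 1) / 2 = h + 1 := by omega
  have q2 : (2 * h + 1 - 1) / 2 = h := by omega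
  simp only [card_eq_coeff]
  rw [q1, q2, ← coeff_split]
  -- LHS
  set S : Finset (Fin n → ℕ) := (Fintype.piFinset (fun _ : Fin n => Ico 1 (2 * h + 1))).filter
    (fun e => ∑ i, e i = s ∧ (univ.filter fun i => 2 * e i < 2 * h + 1).card = D) with hS
  have L1 : Fintype.card {e : Fin n → Fin (2 * h + 1) // (∀ i, 1 ≤ (e i : ℕ)) ∧
      ∑ i, (e i : ℕ) = s ∧ (Finset.univ.filter fun i => 2 * (e i : ℕ) < 2 * h + 1).card = D} =
      S.card := by
    rw [Fintype.card_subtype]
    refine Finset.card_bij (fun e _ => fun i => ((e i : Fin (2 * h + 1)) : ℕ)) ?_ ?_ ?_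
    · intro e he
      rw [mem_filter] at he
      rw [hS, mem_filter, Fintype.mem_piFinset]
      refine ⟨fun i => ?_, he.2.2.1, he.2.2.2⟩
      rw [mem_Ico]
      exact ⟨he.2.1 i, (e i).2⟩
    · intro e _ e' _ hh
      funext i
      exact Fin.ext (congrFun hh i)
    · intro e' he'
      rw [hS, mem_filter, Fintype.mem_piFinset] at he'
      refine ⟨fun i => ⟨e' i, (mem_Ico.mp (he'.1 i)).2⟩, ?_, rfl⟩
      rw [mem_filter]
      exact ⟨mem_univ _, fun i => (mem_Ico.mp (he'.1 i)).1, he'.2.1, he'.2.2⟩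
  rw [L1]
  let tT : Finset (Fin n) → Fin n → Finset ℕ :=
    fun T i => if i ∈ T then Ico 1 (h + 1) else Ico (h + 1) (2 * h + 1)
  have L2 : S.card = ∑ T ∈ powersetCard D (univ : Finset (Fin n)),
      ((Fintype.piFinset (tT T)).filter (fun e => ∑ i, e i = s)).card := by
    rw [Finset.card_eq_sum_card_fiberwise
      (f := fun e : Fin n → ℕ => univ.filter (fun i => 2 * e i < 2 * h + 1))
      (t := powersetCard D (univ : Finset (Fin n)))]
    · refine Finset.sum_congr rfl (fun T hT => ?_)
      congr 1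
      ext e
      simp only [hS, mem_filter, Fintype.mem_piFinset, mem_Ico, tT]
      constructor
      · rintro ⟨⟨he, hs, _⟩, hT'⟩
        refine ⟨fun i => ?_, hs⟩
        have hi := he i
        by_cases hiT : i ∈ T
        · rw [if_pos hiT, mem_Ico]
          rw [← hT', mem_filter] at hiT
          omega
        · rw [if_neg hiT, mem_Ico]
          rw [← hT', mem_filter] at hiT
          have := hiT
          simp only [mem_univ, true_and] at this
          omega
      · rintro ⟨he, hs⟩
        have hT' : univ.filter (fun i => 2 * e i < 2 * h + 1) = T := by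
          ext i
          simp only [mem_filter, mem_univ, true_and]
          have hi := he i
          by_cases hiT : i ∈ T
          · rw [if_pos hiT, mem_Ico] at hi
            exact ⟨fun _ => hiT, fun _ => by omega⟩
          · rw [if_neg hiT, mem_Ico] at hi
            exact ⟨fun hh => by omega, fun hh => absurd hh hiT⟩
        refine ⟨⟨fun i => ?_, hs, ?_⟩, hT'⟩
        · have hi := he i
          by_cases hiT : i ∈ T
          · rw [if_pos hiT, mem_Ico] at hi; omega
          · rw [if_neg hiT, mem_Ico] at hi; omega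
        · rw [hT']
          exact (mem_powersetCard.mp hT).2
    · intro e he
      rw [Finset.mem_coe, mem_filter] at he
      rw [Finset.mem_coe, mem_powersetCard]
      exact ⟨subset_univ _, he.2.2⟩
  rw [L2]
  have L3 : ∀ T ∈ powersetCard D (univ : Finset (Fin n)),
      ((Fintype.piFinset (tT T)).filter (fun e => ∑ i, e i = s)).card =
        coeff s (A (h + 1) ^ D * (X ^ h * A (h + 1)) ^ (n - D)) := by
    intro T hT
    rw [mem_powersetCard] at hT
    rw [card_piFinset_eq_coeff]
    congr 1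
    have e1 : ∀ i, ∑ j ∈ tT T i, (X : ℕ⟦X⟧) ^ j =
        if i ∈ T then A (h + 1) else X ^ h * A (h + 1) := by
      intro i
      simp only [tT]
      by_cases hiT : i ∈ T
      · rw [if_pos hiT, if_pos hiT]; rfl
      · rw [if_neg hiT, if_neg hiT, A_large]
    simp only [e1]
    rw [Finset.prod_ite, Finset.prod_const, Finset.prod_const]
    have c1 : (univ.filter (fun i => i ∈ T)).card = D := by
      rw [← hT.2]; congr 1; ext i; simp
    have c2 : (univ.filter (fun i => i ∉ T)).card = n - D := by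
      have := Finset.card_filter_add_card_filter_not (s := (univ : Finset (Fin n)))
        (p := fun i => i ∈ T)
      rw [c1, Finset.card_univ, Fintype.card_fin] at this
      omega
    rw [c1, c2]
  rw [Finset.sum_congr rfl L3, Finset.sum_const, Finset.card_powersetCard, Finset.card_univ,
    Fintype.card_fin, smul_eq_mul]

end Groth.Agent.Helper8.BddComp2
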