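import Mathlib.NumberTheory.ZetaValues

/-! Signs of the even Bernoulli numbers, from the values of the zeta function. -/

set_option autoImplicit false

namespace Groth.Agent.Helper8

open Real

/-- `(-1)^(k+1) B_{2k} > 0` for `k ≠ 0`. -/
theorem bernoulli_sign {k : ℕ} (hk : k ≠ 0) : 0 < (-1 : ℚ) ^ (k + 1) * bernoulli (2 * k) := by
  have h := hasSum_zeta_nat hk
  have hpos : (0 : ℝ) < (-1 : ℝ) ^ (k + 1) * (2 : ℝ) ^ (2 * k - 1) * π ^ (2 * k) *
        bernoulli (2 * k) / (2 * k).factorial := by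
    have h1 := le_hasSum h 1 (fun i _ => by positivity)
    simp only [Nat.cast_one, one_pow, div_one] at h1
    linarith
  have hfac : (0 : ℝ) < ((2 * k).factorial : ℝ) := by positivity
  have h2 : (0 : ℝ) < (-1 : ℝ) ^ (k + 1) * (2 : ℝ) ^ (2 * k - 1) * π ^ (2 * k) *
        bernoulli (2 * k) := by
    have := mul_pos hpos hfac
    rwa [div_mul_cancel₀ _ hfac.ne'] at this
  have h3 : (-1 : ℝ) ^ (k + 1) * (2 : ℝ) ^ (2 * k - 1) * π ^ (2 * k) * bernoulli (2 * k) =
      ((2 : ℝ) ^ (2 * k - 1) * π ^ (2 * k)) * (((-1 : ℚ) ^ (k + 1) * bernoulli (2 * k) : ℚ) : ℝ) := by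
    push_cast; ring
  rw [h3] at h2
  have h4 : (0 : ℝ) < (2 : ℝ) ^ (2 * k - 1) * π ^ (2 * k) := by positivity
  have h5 := (mul_pos_iff_of_pos_left h4).mp h2
  exact_mod_cast h5

theorem bernoulli'_four_mul_neg {j : ℕ} (hj : j ≠ 0) : bernoulli' (4 * j) < 0 := by
  have h := bernoulli_sign (k := 2 * j) (by omega)
  have h1 : (-1 : ℚ) ^ (2 * j + 1) = -1 := by
    rw [pow_succ, pow_mul]; norm_num
  rw [h1] at h
  have h2 : 2 * (2 * j) = 4 * j := by ring
  rw [h2, bernoulli_eq_bernoulli'_of_ne_one (by omega)] at h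
  linarith

theorem bernoulli'_four_mul_add_two_pos (j : ℕ) : 0 < bernoulli' (4 * j + 2) := by
  have h := bernoulli_sign (k := 2 * j + 1) (by omega)
  have h1 : (-1 : ℚ) ^ (2 * j + 1 + 1) = 1 := by
    rw [show 2 * j + 1 + 1 = 2 * (j + 1) by ring, pow_mul]; norm_num
  rw [h1] at h
  have h2 : 2 * (2 * j + 1) = 4 * j + 2 := by ring
  rw [h2, bernoulli_eq_bernoulli'_of_ne_one (by omega)] at h
  linarith

end Groth.Agent.Helper8
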