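import Mathlib

set_option autoImplicit false
universe u

namespace Groth.Agent.Helper8.ValDec

variable {R : Type u} [CommRing R]

/-- a finite nonempty set in a ring with total divisibility has an element dividing all. -/
theorem exists_dvd_all (h : ∀ a b : R, a ∣ b ∨ b ∣ a) (C : Finset R) (hC : C.Nonempty) :
    ∃ c ∈ C, ∀ c' ∈ C, c ∣ c' := by
  classical
  induction C using Finset.induction_on with
  | empty => exact absurd hC (by simp)
  | insert a C' _ ih =>
    by_cases hC' : C'.Nonempty
    · obtain ⟨c₀, hc₀, hdiv⟩ := ih hC'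
      rcases h a c₀ with hac | hca
      · refine ⟨a, Finset.mem_insert_self _ _, fun c' hc' => ?_⟩
        rcases Finset.mem_insert.mp hc' with rfl | hc'
        · exact dvd_rfl
        · exact hac.trans (hdiv c' hc')
      · refine ⟨c₀, Finset.mem_insert_of_mem hc₀, fun c' hc' => ?_⟩
        rcases Finset.mem_insert.mp hc' with rfl | hc'
        · exact hca
        · exact hdiv c' hc'
    · rw [Finset.not_nonempty_iff_eq_empty] at hC'
      subst hC'
      exact ⟨a, by simp, fun c' hc' => by simp at hc'; rw [hc']⟩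

/-- Lemma A -/
theorem exists_pivot (h : ∀ a b : R, a ∣ b ∨ b ∣ a) {n : ℕ}
    (K : Submodule R (Fin (n + 1) → R)) (hK : K.FG) :
    ∃ k ∈ K, ∃ i, ∀ k' ∈ K, ∀ j, k i ∣ k' j := by
  classical
  obtain ⟨G, hG⟩ := hK
  by_cases hGe : G.Nonempty
  · let C : Finset R := G.biUnion fun g => Finset.univ.image g
    have hCne : C.Nonempty := by
      obtain ⟨g, hg⟩ := hGe
      exact ⟨g 0, Finset.mem_biUnion.mpr ⟨g, hg, Finset.mem_image.mpr ⟨0, Finset.mem_univ _, rfl⟩⟩⟩
    obtain ⟨c, hc, hdiv⟩ := exists_dvd_all h C hCne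
    obtain ⟨g, hg, hcg⟩ := Finset.mem_biUnion.mp hc
    obtain ⟨i, -, rfl⟩ := Finset.mem_image.mp hcg
    refine ⟨g, hG ▸ Submodule.subset_span hg, i, fun k' hk' j => ?_⟩
    rw [← hG] at hk'
    induction hk' using Submodule.span_induction with
    | mem x hx =>
      exact hdiv _ (Finset.mem_biUnion.mpr ⟨x, hx, Finset.mem_image.mpr ⟨j, Finset.mem_univ _, rfl⟩⟩)
    | zero => exact dvd_zero _
    | add x y _ _ hx hy => exact dvd_add hx hy
    | smul r x _ hx => exact Dvd.dvd.mul_left hx r
  · rw [Finset.not_nonempty_iff_eq_empty] at hGe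
    subst hGe
    have hbot : K = ⊥ := by rw [← hG]; simp
    refine ⟨0, K.zero_mem, 0, fun k' hk' j => ?_⟩
    rw [hbot, Submodule.mem_bot] at hk'
    rw [hk']; exact dvd_zero _

end Groth.Agent.Helper8.ValDec
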