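import Mathlib
import Groth.Agent.Helper8.ValDec1

set_option autoImplicit false
universe u

namespace Groth.Agent.Helper8.ValDec

variable {R : Type u} [CommRing R]

/-- quotient of a product by a product of submodules -/
noncomputable def quotProd {M N : Type u} [AddCommGroup M] [Module R M] [AddCommGroup N] [Module R N]
    (p : Submodule R M) (q : Submodule R N) :
    ((M × N) ⧸ p.prod q) ≃ₗ[R] (M ⧸ p) × (N ⧸ q) :=
  (Submodule.quotEquivOfEq _ _ (by rw [LinearMap.ker_prodMap, Submodule.ker_mkQ,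
      Submodule.ker_mkQ])).trans
    (LinearMap.quotKerEquivOfSurjective (LinearMap.prodMap p.mkQ q.mkQ)
      (fun ⟨x, y⟩ => by
        obtain ⟨a, rfl⟩ := p.mkQ_surjective x
        obtain ⟨b, rfl⟩ := q.mkQ_surjective y
        exact ⟨(a, b), rfl⟩))

/-- Lemma B (pivot at index `0`). -/
theorem split_zero {n : ℕ} (K : Submodule R (Fin (n + 1) → R)) (hK : K.FG)
    (k : Fin (n + 1) → R) (hk : k ∈ K) (hdiv : ∀ k' ∈ K, ∀ j, k 0 ∣ k' j) :
    ∃ K' : Submodule R (Fin n → R), K'.FG ∧
      Nonempty (((Fin (n + 1) → R) ⧸ K) ≃ₗ[R]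
        (R ⧸ Ideal.span {k 0}) × ((Fin n → R) ⧸ K')) := by
  classical
  set a := k 0 with ha
  -- the vector `v` with `k = a • v`, `v 0 = 1`
  have hv : ∀ j, ∃ c, k j = a * c := fun j => hdiv k hk j
  choose c hc using hv
  let v' : Fin n → R := fun j => c j.succ
  have hktail : Fin.tail k = a • v' := by
    funext j
    simp only [Fin.tail, Pi.smul_apply, smul_eq_mul, v']
    exact hc j.succ
  let θ : (Fin (n + 1) → R) ≃ₗ[R] R × (Fin n → R) :=
    (Fin.consLinearEquiv R (fun _ : Fin (n + 1) => R)).symm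
  have hθ : ∀ x, θ x = (x 0, Fin.tail x) := fun x => rfl
  let τ : (R × (Fin n → R)) ≃ₗ[R] R × (Fin n → R) :=
    LinearEquiv.skewProd (LinearEquiv.refl R R) (LinearEquiv.refl R (Fin n → R))
      (-(LinearMap.toSpanSingleton R (Fin n → R) v'))
  have hτ : ∀ x : R × (Fin n → R), τ x = (x.1, x.2 - x.1 • v') := fun x => by
    simp only [τ, LinearEquiv.skewProd_apply, LinearEquiv.refl_apply, LinearMap.neg_apply,
      LinearMap.toSpanSingleton_apply]
    rw [sub_eq_add_neg]
  let Θ := θ.trans τ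
  have hΘ : ∀ x, Θ x = (x 0, Fin.tail x - x 0 • v') := fun x => by
    simp only [Θ, LinearEquiv.trans_apply, hθ, hτ]
  have hΘk : Θ k = (a, 0) := by
    rw [hΘ, hktail, ← ha, sub_self]
  let K' : Submodule R (Fin n → R) := (K.map Θ.toLinearMap).map (LinearMap.snd R R (Fin n → R))
  have hK' : K'.FG := (hK.map _).map _
  have hmap : K.map Θ.toLinearMap = Submodule.prod (Ideal.span {a} : Submodule R R) K' := by
    apply le_antisymm
    · rintro _ ⟨x, hx, rfl⟩
      refine ⟨?_, ?_⟩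
      · simp only [LinearEquiv.coe_coe, hΘ]
        obtain ⟨t, ht⟩ := hdiv x hx 0
        exact Ideal.mem_span_singleton'.mpr ⟨t, by rw [ht, mul_comm]⟩
      · exact ⟨Θ x, ⟨x, hx, rfl⟩, rfl⟩
    · rintro ⟨r, y⟩ ⟨hr, hy⟩
      obtain ⟨t, rfl⟩ := Ideal.mem_span_singleton'.mp hr
      obtain ⟨_, ⟨x, hx, rfl⟩, hxy⟩ := hy
      obtain ⟨s, hs⟩ := hdiv x hx 0
      refine ⟨x - s • k + t • k, K.add_mem (K.sub_mem hx (K.smul_mem _ hk)) (K.smul_mem _ hk), ?_⟩
      simp only [LinearEquiv.coe_coe, map_add, map_sub, map_smul, hΘk]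
      have h1 : Θ x = (a * s, y) := by
        have := hΘ x
        rw [this]
        have hy' : (Θ x).2 = y := hxy
        rw [hΘ] at hy'
        simp only at hy'
        rw [hy', hs]
      rw [h1]
      ext
      · simp; ring
      · simp
  refine ⟨K', hK', ⟨?_⟩⟩
  exact (Submodule.Quotient.equiv K _ Θ hmap).trans (quotProd _ _)

end Groth.Agent.Helper8.ValDec
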