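import Mathlib
import Groth.Agent.Helper8.ValDec2
set_option autoImplicit false
universe u

namespace Groth.Agent.Helper8.ValDec

variable {R : Type u} [CommRing R]

/-- Lemma B (any pivot). -/
theorem split_any {n : ℕ} (K : Submodule R (Fin (n + 1) → R)) (hK : K.FG)
    (k : Fin (n + 1) → R) (hk : k ∈ K) (i : Fin (n + 1)) (hdiv : ∀ k' ∈ K, ∀ j, k i ∣ k' j) :
    ∃ K' : Submodule R (Fin n → R), K'.FG ∧
      Nonempty (((Fin (n + 1) → R) ⧸ K) ≃ₗ[R]
        (R ⧸ Ideal.span {k i}) × ((Fin n → R) ⧸ K')) := by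
  let σ : Fin (n + 1) ≃ Fin (n + 1) := Equiv.swap 0 i
  let E : (Fin (n + 1) → R) ≃ₗ[R] (Fin (n + 1) → R) := LinearEquiv.funCongrLeft R R σ
  have hE : ∀ x j, E x j = x (σ j) := fun x j => rfl
  let K₁ := K.map E.toLinearMap
  have hK₁ : K₁.FG := hK.map _
  have hk₁ : E k ∈ K₁ := ⟨k, hk, rfl⟩
  have h0 : E k 0 = k i := by rw [hE]; simp [σ]
  have hdiv₁ : ∀ k' ∈ K₁, ∀ j, E k 0 ∣ k' j := by
    rintro _ ⟨x, hx, rfl⟩ j
    rw [h0]
    exact hdiv x hx (σ j)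
  obtain ⟨K', hK', ⟨e⟩⟩ := split_zero K₁ hK₁ (E k) hk₁ hdiv₁
  rw [h0] at e
  exact ⟨K', hK', ⟨(Submodule.Quotient.equiv K K₁ E rfl).trans e⟩⟩

/-- cons equivalence with propositional casts. -/
noncomputable def consEquiv {m : ℕ} (a : R) (f : Fin m → R) :
    ((R ⧸ Ideal.span {a}) × ((j : Fin m) → R ⧸ Ideal.span {f j})) ≃ₗ[R]
      ((j : Fin (m + 1)) → R ⧸ Ideal.span {((Fin.cons a f : Fin (m + 1) → R) j)}) :=
  let e1 : (R ⧸ Ideal.span {a}) ≃ₗ[R]
      (R ⧸ Ideal.span {((Fin.cons a f : Fin (m + 1) → R) 0)}) :=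
    Submodule.quotEquivOfEq _ _ (by rw [Fin.cons_zero])
  let e2 : ((j : Fin m) → R ⧸ Ideal.span {f j}) ≃ₗ[R]
      ((j : Fin m) → R ⧸ Ideal.span {((Fin.cons a f : Fin (m + 1) → R) j.succ)}) :=
    LinearEquiv.piCongrRight
      (fun j => Submodule.quotEquivOfEq _ _ (by rw [Fin.cons_succ]))
  (LinearEquiv.prodCongr e1 e2).trans
    (Fin.consLinearEquiv R
      (fun j : Fin (m + 1) => R ⧸ Ideal.span {((Fin.cons a f : Fin (m + 1) → R) j)}))

theorem decomp (h : ∀ a b : R, a ∣ b ∨ b ∣ a) (n : ℕ) :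
    ∀ (K : Submodule R (Fin n → R)), K.FG →
      ∃ (m : ℕ) (f : Fin m → R),
        Nonempty (((Fin n → R) ⧸ K) ≃ₗ[R] ((i : Fin m) → R ⧸ Ideal.span {f i})) := by
  induction n with
  | zero =>
    intro K _
    refine ⟨0, Fin.elim0, ⟨?_⟩⟩
    have h1 : Subsingleton ((Fin 0 → R) ⧸ K) := by
      have : Subsingleton (Fin 0 → R) := inferInstance
      infer_instance
    have h2 : Subsingleton ((i : Fin 0) → R ⧸ Ideal.span {(Fin.elim0 i : R)}) := inferInstance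
    exact
      { toFun := fun _ => 0
        invFun := fun _ => 0
        map_add' := fun _ _ => Subsingleton.elim _ _
        map_smul' := fun _ _ => Subsingleton.elim _ _
        left_inv := fun _ => Subsingleton.elim _ _
        right_inv := fun _ => Subsingleton.elim _ _ }
  | succ n ih =>
    intro K hK
    obtain ⟨k, hk, i, hdiv⟩ := exists_pivot h K hK
    obtain ⟨K', hK', ⟨e⟩⟩ := split_any K hK k hk i hdiv
    obtain ⟨m, f, ⟨e'⟩⟩ := ih K' hK'
    exact ⟨m + 1, Fin.cons (k i) f, ⟨e.trans ((LinearEquiv.prodCongr (LinearEquiv.refl R _) e').trans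
      (consEquiv (k i) f))⟩⟩

theorem s2015 (R : Type u) [CommRing R] [Nontrivial R] (h : ∀ a b : R, a ∣ b ∨ b ∣ a)
    (M : Type u) [AddCommGroup M] [Module R M] [Module.FinitePresentation R M] :
    ∃ (n : ℕ) (f : Fin n → R), Nonempty (M ≃ₗ[R] ((i : Fin n) → R ⧸ Ideal.span {f i})) := by
  obtain ⟨n, K, e, hK⟩ := Module.FinitePresentation.exists_fin R M
  obtain ⟨m, f, ⟨e'⟩⟩ := decomp h n K hK
  exact ⟨m, f, ⟨e.trans e'⟩⟩

end Groth.Agent.Helper8.ValDec
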