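import Mathlib
import Groth.Agent.Helper8.ValDec3
set_option autoImplicit false
universe u
open TensorProduct

namespace Groth.Agent.Helper8.SumDec

variable {R : Type u} [CommRing R]

instance fp_quot (a : R) : Module.FinitePresentation R (R ⧸ Ideal.span {a}) :=
  Module.finitePresentation_of_surjective (Submodule.mkQ (Ideal.span {a}))
    (Submodule.mkQ_surjective _) (by
      rw [Submodule.ker_mkQ]
      exact Submodule.fg_span_singleton a)

/-- local step -/
theorem local_step (m : Ideal R) [m.IsMaximal]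
    (h : ∀ a b : Localization.AtPrime m, a ∣ b ∨ b ∣ a)
    (M : Type u) [AddCommGroup M] [Module R M] [Module.FinitePresentation R M] :
    ∃ (n : ℕ) (a : Fin n → R) (φ : ((i : Fin n) → R ⧸ Ideal.span {a i}) →ₗ[R] M)
      (ψ : M →ₗ[R] ((i : Fin n) → R ⧸ Ideal.span {a i})) (g : R), g ∉ m ∧
        φ ∘ₗ ψ = g • LinearMap.id := by
  let Rm := Localization.AtPrime m
  let S := m.primeCompl
  obtain ⟨n, f, ⟨e⟩⟩ := ValDec.s2015 Rm h (Rm ⊗[R] M)
  have hex : ∀ i, ∃ (a : R) (s : S), f i = IsLocalization.mk' Rm a s := fun i => by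
    obtain ⟨a, s, hs⟩ := IsLocalization.exists_mk'_eq S (f i)
    exact ⟨a, s, hs.symm⟩
  choose a s has using hex
  refine ⟨n, a, ?_⟩
  let lin : R →ₗ[R] Rm := Algebra.linearMap R Rm
  -- localized quotient
  let ιi : ∀ i, (R ⧸ Ideal.span {a i}) →ₗ[R]
      (Rm ⧸ (Ideal.span {a i} : Submodule R R).localized' Rm S lin) :=
    fun i => Submodule.toLocalizedQuotient' Rm S lin (Ideal.span {a i})
  let ιQ : ((i : Fin n) → R ⧸ Ideal.span {a i}) →ₗ[R]
      ((i : Fin n) → Rm ⧸ (Ideal.span {a i} : Submodule R R).localized' Rm S lin) :=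
    LinearMap.pi fun i => ιi i ∘ₗ LinearMap.proj i
  have hιQ : IsLocalizedModule S ιQ := inferInstance
  have hspan : ∀ i, (Ideal.span {a i} : Submodule R R).localized' Rm S lin =
      (Ideal.span {f i} : Ideal Rm) := by
    intro i
    have h1 : (Ideal.span {a i} : Submodule R R) = Submodule.span R {a i} := rfl
    rw [h1, Submodule.localized'_span, Set.image_singleton]
    change Ideal.span {algebraMap R Rm (a i)} = _
    rw [has i]
    apply le_antisymm
    · rw [Ideal.span_singleton_le_iff_mem]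
      have : algebraMap R Rm (a i) = algebraMap R Rm (s i) * IsLocalization.mk' Rm (a i) (s i) := by
        rw [IsLocalization.mk'_spec']
      rw [this]
      exact Ideal.mul_mem_left _ _ (Ideal.mem_span_singleton_self _)
    · rw [Ideal.span_singleton_le_iff_mem]
      have : IsLocalization.mk' Rm (a i) (s i) =
          IsLocalization.mk' Rm 1 (s i) * algebraMap R Rm (a i) := by
        rw [mul_comm, IsLocalization.mul_mk'_eq_mk'_of_mul, mul_one]
      rw [this]
      exact Ideal.mul_mem_left _ _ (Ideal.mem_span_singleton_self _)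
  let l : (Rm ⊗[R] M) ≃ₗ[Rm]
      ((i : Fin n) → Rm ⧸ (Ideal.span {a i} : Submodule R R).localized' Rm S lin) :=
    e.trans (LinearEquiv.piCongrRight fun i => Submodule.quotEquivOfEq _ _ (hspan i).symm)
  let lR := l.restrictScalars R
  let ιM : M →ₗ[R] Rm ⊗[R] M := TensorProduct.mk R Rm M 1
  have hιM : IsLocalizedModule S ιM := inferInstance
  obtain ⟨ψ, s₁, hψ⟩ := Module.FinitePresentation.exists_lift_of_isLocalizedModule S ιQ
    (lR.toLinearMap ∘ₗ ιM)
  obtain ⟨φ, t₁, hφ⟩ := Module.FinitePresentation.exists_lift_of_isLocalizedModule S ιM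
    (lR.symm.toLinearMap ∘ₗ ιQ)
  have hcomp : ιM ∘ₗ (φ ∘ₗ ψ) = ιM ∘ₗ (((t₁ * s₁ : S) : R) • LinearMap.id) := by
    ext x
    have h1 := LinearMap.congr_fun hφ (ψ x)
    have h2 := LinearMap.congr_fun hψ x
    simp only [LinearMap.comp_apply, LinearMap.smul_apply] at h1 h2 ⊢
    rw [h1, h2]
    simp only [LinearEquiv.coe_coe, LinearMap.id_apply, Submonoid.coe_mul, mul_smul, map_smul]
    rw [Submonoid.smul_def, Submonoid.smul_def, map_smul, LinearEquiv.symm_apply_apply]
  obtain ⟨u, hu⟩ := Module.Finite.exists_smul_of_comp_eq_of_isLocalizedModule S ιM _ _ hcomp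
  refine ⟨(u : R) • φ, ψ, (u : R) * ((t₁ * s₁ : S) : R), ?_, ?_⟩
  · exact (u * (t₁ * s₁) : S).2
  · rw [LinearMap.smul_comp, mul_smul]
    exact hu


/-- splitting lemma -/
noncomputable def splitEquiv {M Q : Type*} [AddCommGroup M] [Module R M] [AddCommGroup Q]
    [Module R Q] (Φ : Q →ₗ[R] M) (Ψ : M →ₗ[R] Q) (h : Φ ∘ₗ Ψ = LinearMap.id) :
    (M × LinearMap.ker Φ) ≃ₗ[R] Q :=
  LinearEquiv.ofLinearMap (Ψ.coprod (LinearMap.ker Φ).subtype)
    (Φ.prod (LinearMap.codRestrict (LinearMap.ker Φ) (LinearMap.id - Ψ ∘ₗ Φ) (fun q => by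
      have := LinearMap.congr_fun h (Φ q)
      simp only [LinearMap.comp_apply, LinearMap.id_apply] at this
      simp [LinearMap.mem_ker, this])))
    (by
      ext q
      simp)
    (by
      have h' : ∀ x, Φ (Ψ x) = x := fun x => LinearMap.congr_fun h x
      apply LinearMap.ext
      rintro ⟨x, ⟨y, hy⟩⟩
      have hy' : Φ y = 0 := hy
      ext <;> simp [h', hy'])

theorem s2016 (R : Type u) [CommRing R]
    (h : ∀ (m : Ideal R) [m.IsMaximal], ∀ a b : Localization.AtPrime m, a ∣ b ∨ b ∣ a)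
    (M : Type u) [AddCommGroup M] [Module R M] [Module.FinitePresentation R M] :
    ∃ (n : ℕ) (f : Fin n → R) (N : Type u) (_ : AddCommGroup N) (_ : Module R N),
      Nonempty ((M × N) ≃ₗ[R] ((i : Fin n) → R ⧸ Ideal.span {f i})) := by
  classical
  have hloc : ∀ m : {m : Ideal R // m.IsMaximal}, ∃ (n : ℕ) (a : Fin n → R)
      (φ : ((i : Fin n) → R ⧸ Ideal.span {a i}) →ₗ[R] M)
      (ψ : M →ₗ[R] ((i : Fin n) → R ⧸ Ideal.span {a i})) (g : R), g ∉ m.1 ∧
        φ ∘ₗ ψ = g • LinearMap.id :=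
    fun m => by
      have := m.2
      exact local_step m.1 (h m.1) M
  choose n a φ ψ g hg hφψ using hloc
  have htop : Ideal.span (Set.range g) = ⊤ := by
    by_contra hne
    obtain ⟨m, hm, hle⟩ := Ideal.exists_le_maximal _ hne
    exact hg ⟨m, hm⟩ (hle (Ideal.subset_span ⟨⟨m, hm⟩, rfl⟩))
  have h1 : (1 : R) ∈ Ideal.span (Set.range g) := by rw [htop]; trivial
  obtain ⟨c, hc⟩ := Finsupp.mem_span_range_iff_exists_finsupp.1 h1
  let T := c.support
  let t : Fin T.card → {m : Ideal R // m.IsMaximal} := fun j => (T.equivFin.symm j).1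
  have hsum : ∑ j : Fin T.card, c (t j) * g (t j) = 1 := by
    rw [← hc, Finsupp.sum]
    rw [← Finset.sum_coe_sort T (fun i => c i • g i)]
    exact Equiv.sum_comp T.equivFin.symm (fun i : T => c i.1 * g i.1)
  let Φ : ((j : Fin T.card) → (i : Fin (n (t j))) → R ⧸ Ideal.span {a (t j) i}) →ₗ[R] M :=
    ∑ j, (φ (t j)) ∘ₗ (LinearMap.proj j)
  let Ψ : M →ₗ[R] ((j : Fin T.card) → (i : Fin (n (t j))) → R ⧸ Ideal.span {a (t j) i}) :=
    LinearMap.pi (fun j => c (t j) • ψ (t j))
  have hΦΨ : Φ ∘ₗ Ψ = LinearMap.id := by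
    ext x
    simp only [Φ, Ψ, LinearMap.comp_apply, LinearMap.sum_apply, LinearMap.proj_apply,
      LinearMap.pi_apply, LinearMap.smul_apply, map_smul, LinearMap.id_apply]
    have : ∀ j, (φ (t j)) ((ψ (t j)) x) = g (t j) • x := fun j => by
      have := LinearMap.congr_fun (hφψ (t j)) x
      simpa using this
    simp only [this, ← mul_smul, ← Finset.sum_smul, hsum, one_smul]
  let e1 := splitEquiv Φ Ψ hΦΨ
  let e2 := (LinearEquiv.piCurry R
    (fun (j : Fin T.card) (i : Fin (n (t j))) => R ⧸ Ideal.span {a (t j) i})).symm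
  let e3 := LinearEquiv.piCongrLeft' R
    (fun x : (j : Fin T.card) × Fin (n (t j)) => R ⧸ Ideal.span {a (t x.1) x.2})
    (finSigmaFinEquiv (n := fun j => n (t j)))
  exact ⟨∑ j : Fin T.card, n (t j),
    fun x => a (t (finSigmaFinEquiv.symm x).1) (finSigmaFinEquiv.symm x).2,
    LinearMap.ker Φ, inferInstance, inferInstance, ⟨e1.trans (e2.trans e3)⟩⟩

end Groth.Agent.Helper8.SumDec
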