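import Mathlib
import Groth.Agent.Helper8.SumDec
set_option autoImplicit false
universe u

namespace Groth.Agent.Helper8.BezFree

variable {R : Type u} [CommRing R] [IsDomain R] [IsBezout R]

/-- splitting off a functional -/
theorem free_of_functional {P : Type*} [AddCommGroup P] [Module R P] (N : Submodule R P)
    (hN : N.FG) (φ : P →ₗ[R] R)
    (hK : ∀ K : Submodule R P, K.FG → K ≤ LinearMap.ker φ → Module.Free R K) :
    Module.Free R N := by
  have hI : (N.map φ).FG := hN.map φ
  have hprin : (N.map φ).IsPrincipal := IsBezout.isPrincipal_of_FG _ hI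
  obtain ⟨a, ha⟩ := hprin.principal
  by_cases ha0 : a = 0
  · apply hK N hN
    intro y hy
    have : φ y ∈ N.map φ := ⟨y, hy, rfl⟩
    rw [ha, ha0, Submodule.span_singleton_eq_bot.2 rfl] at this
    exact this
  · have hamem : a ∈ N.map φ := by rw [ha]; exact Submodule.mem_span_singleton_self a
    obtain ⟨x₀, hx₀, hφx₀⟩ := hamem
    have hfin : Module.Finite R N := Module.Finite.iff_fg.2 hN
    let eS : R ≃ₗ[R] Submodule.span R {a} := LinearEquiv.toSpanNonzeroSingleton R R a ha0
    let φN : N →ₗ[R] Submodule.span R {a} :=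
      LinearMap.codRestrict (Submodule.span R {a}) (φ.domRestrict N) (fun y => by
        rw [← ha]
        exact ⟨y.1, y.2, rfl⟩)
    let Φ : N →ₗ[R] R := eS.symm.toLinearMap ∘ₗ φN
    let Ψ : R →ₗ[R] N := LinearMap.toSpanSingleton R N ⟨x₀, hx₀⟩
    have hΦΨ : Φ ∘ₗ Ψ = LinearMap.id := by
      apply LinearMap.ext_ring
      simp only [LinearMap.comp_apply, LinearMap.toSpanSingleton_apply, one_smul,
        LinearMap.id_apply, Φ, Ψ, LinearEquiv.coe_coe]
      rw [LinearEquiv.symm_apply_eq]
      apply Subtype.ext
      simp [φN, eS, hφx₀, LinearEquiv.toSpanNonzeroSingleton]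
    let e : (R × LinearMap.ker Φ) ≃ₗ[R] N := SumDec.splitEquiv Φ Ψ hΦΨ
    -- kernel is f.g.
    have hkerfin : Module.Finite R (LinearMap.ker Φ) :=
      Module.Finite.of_surjective ((LinearMap.snd R R (LinearMap.ker Φ)) ∘ₗ e.symm.toLinearMap)
        (fun y => ⟨e (0, y), by simp⟩)
    let K : Submodule R P := (LinearMap.ker Φ).map N.subtype
    have hKfg : K.FG := (Module.Finite.iff_fg.1 hkerfin).map _
    have hKle : K ≤ LinearMap.ker φ := by
      rintro _ ⟨y, hy, rfl⟩
      have h1 : Φ y = 0 := hy
      have h2 : φN y = 0 := by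
        have := congrArg eS h1
        simpa [Φ] using this
      have h3 := congrArg Subtype.val h2
      simpa [φN] using h3
    have hKfree : Module.Free R K := hK K hKfg hKle
    let eK : LinearMap.ker Φ ≃ₗ[R] K :=
      Submodule.equivMapOfInjective N.subtype N.injective_subtype (LinearMap.ker Φ)
    have : Module.Free R (LinearMap.ker Φ) := Module.Free.of_equiv eK.symm
    exact Module.Free.of_equiv e

/-- f.g. submodules of `Fin n → R` are free over a Bezout domain -/
theorem free_of_fg_fin : ∀ (n : ℕ) (N : Submodule R (Fin n → R)), N.FG → Module.Free R N := by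
  intro n
  induction n with
  | zero =>
    intro N _
    have : Subsingleton (Fin 0 → R) := inferInstance
    have : Subsingleton N := inferInstance
    exact Module.Free.of_subsingleton R N
  | succ n ih =>
    intro N hN
    apply free_of_functional N hN (LinearMap.proj 0)
    intro K hK hKle
    let tail : (Fin (n + 1) → R) →ₗ[R] (Fin n → R) := LinearMap.funLeft R R Fin.succ
    have hfree : Module.Free R (K.map tail) := ih _ (hK.map tail)
    have hbij : Function.Bijective (tail.submoduleMap K) := by
      refine ⟨?_, LinearMap.submoduleMap_surjective _ _⟩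
      rw [← LinearMap.ker_eq_bot, LinearMap.ker_eq_bot']
      rintro ⟨x, hx⟩ h
      have h0 : x 0 = 0 := hKle hx
      have h1 : tail x = 0 := congrArg Subtype.val h
      apply Subtype.ext
      funext i
      refine Fin.cases h0 (fun j => ?_) i
      exact congrFun h1 j
    exact Module.Free.of_equiv (LinearEquiv.ofBijective _ hbij).symm


theorem free_of_fg_le_basis {ι : Type*} [Finite ι] {N : Type*} [AddCommGroup N] [Module R N]
    (b : Module.Basis ι R N) (L : Submodule R N) (hL : L.FG) : Module.Free R L := by
  cases nonempty_fintype ι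
  let e : N ≃ₗ[R] (Fin (Fintype.card ι) → R) := (b.reindex (Fintype.equivFin ι)).equivFun
  have h := free_of_fg_fin _ (L.map e.toLinearMap) (hL.map _)
  exact Module.Free.of_equiv (e.submoduleMap L).symm

open Submodule Set in
theorem free_of_finite_torsionFree (M : Type*) [AddCommGroup M] [Module R M] [Module.Finite R M]
    [Module.IsTorsionFree R M] : Module.Free R M := by
  classical
  obtain ⟨n, s, hs⟩ := Module.Finite.exists_fin (R := R) (M := M)
  obtain ⟨I, indepI, hI⟩ := exists_maximal_linearIndepOn R s
  have indepI' : LinearIndependent R (s ∘ (fun x => x) : I → M) := indepI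
  let N := span R (range <| (s ∘ (fun x => x) : I → M))
  let sI_basis : Module.Basis I R N := Module.Basis.span indepI'
  have exists_a : ∀ i : Fin n, ∃ a : R, a ≠ 0 ∧ a • s i ∈ N := by
    intro i
    by_cases hi : i ∈ I
    · use 1, zero_ne_one.symm
      rw [one_smul]
      exact subset_span (mem_range_self (⟨i, hi⟩ : I))
    · simpa [N, image_eq_range s I] using! hI i hi
  choose a ha ha' using exists_a
  let A := ∏ i, a i
  have hA : A ≠ 0 := by
    rw [Finset.prod_ne_zero_iff]
    simpa using! ha
  let φ : M →ₗ[R] M := LinearMap.lsmul R M A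
  have hker : LinearMap.ker φ = ⊥ := LinearMap.ker_lsmul hA
  let ψ := LinearEquiv.ofInjective φ (LinearMap.ker_eq_bot.mp hker)
  have hle : LinearMap.range φ ≤ N := by
    suffices ∀ i, φ (s i) ∈ N by
      rw [LinearMap.range_eq_map, ← hs, map_span_le]
      rintro _ ⟨i, rfl⟩
      apply this
    intro i
    calc
      (∏ j ∈ {i}ᶜ, a j) • a i • s i ∈ N := N.smul_mem _ (ha' i)
      _ = (∏ j, a j) • s i := by rw [Fintype.prod_eq_prod_compl_mul i, mul_smul]
  let L : Submodule R N := Submodule.comap N.subtype (LinearMap.range φ)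
  let eL : L ≃ₗ[R] LinearMap.range φ := Submodule.comapSubtypeEquivOfLe hle
  have hfinr : Module.Finite R (LinearMap.range φ) := Module.Finite.range φ
  have hfinL : Module.Finite R L := Module.Finite.equiv eL.symm
  have hLfree : Module.Free R L := free_of_fg_le_basis sI_basis L (Module.Finite.iff_fg.1 hfinL)
  have : Module.Free R (LinearMap.range φ) := Module.Free.of_equiv eL
  exact Module.Free.of_equiv ψ.symm

end Groth.Agent.Helper8.BezFree
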