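import Mathlib
import Groth.Agent.Helper8.BezFree
set_option autoImplicit false
universe u

namespace Groth.Agent.Helper8.BezFree

variable {R : Type u} [CommRing R] [IsDomain R] [IsBezout R]

theorem isBezout_localization (m : Ideal R) [m.IsPrime] : IsBezout (Localization.AtPrime m) := by
  rw [IsBezout.iff_span_pair_isPrincipal]
  intro x y
  obtain ⟨a, s, rfl⟩ := IsLocalization.exists_mk'_eq m.primeCompl x
  obtain ⟨b, t, rfl⟩ := IsLocalization.exists_mk'_eq m.primeCompl y
  have hprin : (Ideal.span {a, b} : Ideal R).IsPrincipal := inferInstance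
  obtain ⟨c, hc⟩ := hprin.principal
  have key : Ideal.span {IsLocalization.mk' (Localization.AtPrime m) a s,
      IsLocalization.mk' (Localization.AtPrime m) b t} =
      Ideal.map (algebraMap R (Localization.AtPrime m)) (Ideal.span {a, b}) := by
    rw [Ideal.map_span, Set.image_pair]
    apply le_antisymm
    · rw [Ideal.span_le]
      rintro z (rfl | rfl)
      · have : IsLocalization.mk' (Localization.AtPrime m) a s =
            IsLocalization.mk' (Localization.AtPrime m) 1 s *
              algebraMap R (Localization.AtPrime m) a := by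
          rw [mul_comm, IsLocalization.mul_mk'_eq_mk'_of_mul, mul_one]
        rw [this]
        exact Ideal.mul_mem_left _ _ (Ideal.subset_span (by simp))
      · have : IsLocalization.mk' (Localization.AtPrime m) b t =
            IsLocalization.mk' (Localization.AtPrime m) 1 t *
              algebraMap R (Localization.AtPrime m) b := by
          rw [mul_comm, IsLocalization.mul_mk'_eq_mk'_of_mul, mul_one]
        rw [this]
        exact Ideal.mul_mem_left _ _ (Ideal.subset_span (by simp))
    · rw [Ideal.span_le]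
      rintro z (rfl | rfl)
      · have : algebraMap R (Localization.AtPrime m) a =
            algebraMap R (Localization.AtPrime m) s *
              IsLocalization.mk' (Localization.AtPrime m) a s := by
          rw [IsLocalization.mk'_spec']
        rw [this]
        exact Ideal.mul_mem_left _ _ (Ideal.subset_span (by simp))
      · have : algebraMap R (Localization.AtPrime m) b =
            algebraMap R (Localization.AtPrime m) t *
              IsLocalization.mk' (Localization.AtPrime m) b t := by
          rw [IsLocalization.mk'_spec']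
        rw [this]
        exact Ideal.mul_mem_left _ _ (Ideal.subset_span (by simp))
  rw [key, hc]
  refine ⟨⟨algebraMap R (Localization.AtPrime m) c, ?_⟩⟩
  change Ideal.map _ (Ideal.span {c}) = Ideal.span {_}
  rw [Ideal.map_span, Set.image_singleton]

theorem dvd_total_localization (m : Ideal R) [m.IsMaximal] (a b : Localization.AtPrime m) :
    a ∣ b ∨ b ∣ a := by
  have := isBezout_localization m
  exact ValuationRing.dvd_total a b


theorem s7121 (R : Type u) [CommRing R] [IsDomain R] [IsBezout R]
    (M : Type u) [AddCommGroup M] [Module R M] [Module.FinitePresentation R M] :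
    (∃ r : ℕ, Nonempty (M ≃ₗ[R] ((Fin r → R) × Submodule.torsion R M))) ∧
      ∃ (n : ℕ) (f : Fin n → R), (∀ j, f j ≠ 0) ∧
        ∃ (i : Submodule.torsion R M →ₗ[R] ((j : Fin n) → R ⧸ Ideal.span {f j}))
          (p : ((j : Fin n) → R ⧸ Ideal.span {f j}) →ₗ[R] Submodule.torsion R M),
          p ∘ₗ i = LinearMap.id := by
  classical
  set T := Submodule.torsion R M with hT
  have hfin : Module.Finite R M := inferInstance
  have hfree : Module.Free R (M ⧸ T) := free_of_finite_torsionFree (M ⧸ T)
  obtain ⟨s, hs⟩ := Module.projective_lifting_property T.mkQ LinearMap.id T.mkQ_surjective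
  let e1 : ((M ⧸ T) × LinearMap.ker T.mkQ) ≃ₗ[R] M := SumDec.splitEquiv T.mkQ s hs
  let eK : LinearMap.ker T.mkQ ≃ₗ[R] T := LinearEquiv.ofEq _ _ T.ker_mkQ
  let eF : (M ⧸ T) ≃ₗ[R] (Fin (Module.finrank R (M ⧸ T)) → R) :=
    (Module.finBasis R (M ⧸ T)).equivFun
  let e : M ≃ₗ[R] ((Fin (Module.finrank R (M ⧸ T)) → R) × T) :=
    e1.symm.trans (LinearEquiv.prodCongr eF eK)
  refine ⟨⟨_, ⟨e⟩⟩, ?_⟩
  -- T is finitely presented
  have hTfp : Module.FinitePresentation R T := by
    let q : M →ₗ[R] T := (LinearMap.snd R _ _) ∘ₗ e.toLinearMap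
    have hq : Function.Surjective q := fun t => ⟨e.symm (0, t), by simp [q]⟩
    apply Module.finitePresentation_of_surjective q hq
    have hker : LinearMap.ker q = LinearMap.range (e.symm.toLinearMap ∘ₗ
        LinearMap.inl R (Fin (Module.finrank R (M ⧸ T)) → R) T) := by
      ext y
      simp only [LinearMap.mem_ker, LinearMap.mem_range, LinearMap.comp_apply,
        LinearEquiv.coe_coe, LinearMap.inl_apply, q, LinearMap.snd_apply]
      constructor
      · intro h
        refine ⟨(e y).1, ?_⟩
        rw [LinearEquiv.symm_apply_eq]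
        exact Prod.ext rfl h.symm
      · rintro ⟨x, rfl⟩
        simp
    rw [hker, LinearMap.range_eq_map]
    exact (Module.Finite.fg_top).map _
  obtain ⟨n, f, N, _, _, ⟨ε⟩⟩ := SumDec.s2016 R
    (fun m _ => dvd_total_localization m) T
  let f' : Fin n → R := fun j => if f j = 0 then 1 else f j
  have hf' : ∀ j, f' j ≠ 0 := fun j => by
    by_cases h : f j = 0
    · simp [f', h]
    · simp [f', h]
  have hspan : ∀ j, f j ≠ 0 → (Ideal.span {f' j} : Ideal R) = Ideal.span {f j} := fun j h => by
    simp [f', h]
  let i0 : T →ₗ[R] ((j : Fin n) → R ⧸ Ideal.span {f j}) :=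
    ε.toLinearMap ∘ₗ LinearMap.inl R T N
  let p0 : ((j : Fin n) → R ⧸ Ideal.span {f j}) →ₗ[R] T :=
    LinearMap.fst R T N ∘ₗ ε.symm.toLinearMap
  have hp0i0 : ∀ t, p0 (i0 t) = t := fun t => by simp [p0, i0]
  -- zero components
  have hzero : ∀ (t : T) (j : Fin n), f j = 0 → i0 t j = 0 := by
    intro t j hj
    obtain ⟨a, ha⟩ := (Submodule.mem_torsion_iff t.1).1 t.2
    have hat : (a : R) • t = 0 := Subtype.ext (by
      rw [Submonoid.smul_def] at ha
      simpa using ha)
    have h1 : (a : R) • i0 t j = 0 := by
      have := congrFun (congrArg i0 hat) j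
      simpa using this
    obtain ⟨r, hr⟩ := Ideal.Quotient.mk_surjective (i0 t j)
    rw [← hr] at h1 ⊢
    have h2 : Ideal.Quotient.mk (Ideal.span {f j}) ((a : R) * r) = 0 := by
      rw [map_mul]
      exact h1
    rw [Ideal.Quotient.eq_zero_iff_mem, hj, Ideal.span_singleton_eq_bot.2 rfl, Ideal.mem_bot] at h2
    have hr0 : r = 0 := by
      rcases mul_eq_zero.1 h2 with h | h
      · exact absurd h (nonZeroDivisors.ne_zero a.2)
      · exact h
    rw [hr0, map_zero]
  let η : ∀ j, (R ⧸ Ideal.span {f j}) →ₗ[R] (R ⧸ Ideal.span {f' j}) := fun j =>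
    if h : f j = 0 then 0 else
      (Submodule.quotEquivOfEq (Ideal.span {f j}) (Ideal.span {f' j}) (hspan j h).symm).toLinearMap
  let θ : ∀ j, (R ⧸ Ideal.span {f' j}) →ₗ[R] (R ⧸ Ideal.span {f j}) := fun j =>
    if h : f j = 0 then 0 else
      (Submodule.quotEquivOfEq (Ideal.span {f j}) (Ideal.span {f' j})
        (hspan j h).symm).symm.toLinearMap
  have hθη : ∀ (t : T) (j : Fin n), θ j (η j (i0 t j)) = i0 t j := by
    intro t j
    by_cases h : f j = 0
    · simp only [θ, η, h, dif_pos, LinearMap.zero_apply]
      exact (hzero t j h).symm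
    · simp only [θ, η, h, dif_neg, not_false_eq_true, LinearEquiv.coe_coe,
        LinearEquiv.symm_apply_apply]
  refine ⟨n, f', hf', LinearMap.pi (fun j => η j ∘ₗ LinearMap.proj j ∘ₗ i0),
    p0 ∘ₗ LinearMap.pi (fun j => θ j ∘ₗ LinearMap.proj j), ?_⟩
  ext t : 1
  simp only [LinearMap.comp_apply, LinearMap.id_apply]
  have : (LinearMap.pi (fun j => θ j ∘ₗ LinearMap.proj j))
      ((LinearMap.pi (fun j => η j ∘ₗ LinearMap.proj j ∘ₗ i0)) t) = i0 t := by
    funext j
    simp only [LinearMap.pi_apply, LinearMap.comp_apply, LinearMap.proj_apply]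
    exact hθη t j
  rw [this, hp0i0]

end Groth.Agent.Helper8.BezFree
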