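import Mathlib
import Groth.Prelude.Def_CGrpSh2

/-!
# The pairing attached to a morphism into an internal Hom sheaf

For `φ : F ⟶ 𝓗om(G, M)` we define `pair φ T x y = φ(x)(y) ∈ M(T)` for `x ∈ F(T)`, `y ∈ G(T)`,
prove that it is natural in `T`, vanishes when one argument is zero, and that `φ = 0` as soon as
the pairing vanishes identically.
-/

set_option autoImplicit false

universe u

open CategoryTheory Opposite

namespace Groth.Agent.Helper8.Biadd

variable {C : Type (u + 1)} [Category.{u} C] (J : GrothendieckTopology C)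
variable {F G M : Sheaf J AddCommGrpCat.{u + 1}} (φ : F ⟶ HomSh.homSh J G M)

/-- the value of `φ` at `x`, as a morphism of restricted sheaves -/
noncomputable def val (T : C) (x : F.obj.obj (op T)) : G.over T ⟶ M.over T :=
  φ.hom.app (op T) x

/-- the pairing `(x, y) ↦ φ(x)(y)` -/
noncomputable def pair (T : C) (x : F.obj.obj (op T)) (y : G.obj.obj (op T)) : M.obj.obj (op T) :=
  HomSh.ev J (val J φ T x) y

theorem val_zero (T : C) : val J φ T 0 = 0 := by
  unfold val
  exact map_zero _

theorem pair_zero_left (T : C) (y : G.obj.obj (op T)) : pair J φ T 0 y = 0 := by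
  unfold pair
  rw [val_zero, HomSh.ev_zero]
  rfl

theorem pair_zero_right (T : C) (x : F.obj.obj (op T)) : pair J φ T x 0 = 0 := by
  unfold pair
  exact map_zero _

theorem val_map {T T' : C} (g : T' ⟶ T) (x : F.obj.obj (op T)) :
    val J φ T' (F.obj.map g.op x) =
      (J.overMapPullback AddCommGrpCat.{u + 1} g).map (val J φ T x) := by
  have h := ConcreteCategory.congr_hom (φ.hom.naturality g.op) x
  exact h

theorem pair_res {T T' : C} (g : T' ⟶ T) (x : F.obj.obj (op T)) (y' : G.obj.obj (op T')) :
    pair J φ T' (F.obj.map g.op x) y' = (val J φ T x).hom.app (op (Over.mk g)) y' := by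
  unfold pair
  rw [val_map, HomSh.ev_apply]
  exact HomSh.app_over_mk_congr J (val J φ T x) (Category.id_comp g) y'

theorem pair_natural {T T' : C} (g : T' ⟶ T) (x : F.obj.obj (op T)) (y : G.obj.obj (op T)) :
    pair J φ T' (F.obj.map g.op x) (G.obj.map g.op y) = M.obj.map g.op (pair J φ T x y) := by
  rw [pair_res]
  have hn := congrFun (congrArg (fun k => (ConcreteCategory.hom k : _ → _))
    ((val J φ T x).hom.naturality (Over.homMk g (by simp) :
      Over.mk g ⟶ Over.mk (𝟙 T)).op)) y
  exact hn

theorem eq_zero_of_pair (h : ∀ (T : C) (x : F.obj.obj (op T)) (y : G.obj.obj (op T)),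
    pair J φ T x y = 0) : φ = 0 := by
  refine Sheaf.hom_ext (NatTrans.ext (funext fun T => AddCommGrpCat.ext fun x => ?_))
  change val J φ T.unop x = 0
  refine Sheaf.hom_ext (NatTrans.ext (funext fun U => AddCommGrpCat.ext fun y => ?_))
  have h1 := pair_res J φ U.unop.hom x y
  rw [h] at h1
  exact h1.symm

end Groth.Agent.Helper8.Biadd
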