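import Groth.Agent.Helper8.Rigid3

/-!
# Rigidity for a product of two different factors

A morphism `B ×_S A ⟶ C` to a separated `S`-scheme which is constant (equal to a section `c`) on
both axes `εB × A` and `B × εA` is constant, when `A` is proper flat finitely presented with
geometrically reduced and connected fibres, and `B` has connected fibres.
-/

set_option autoImplicit false
universe u

open CategoryTheory CategoryTheory.Limits MonoidalCategory CartesianMonoidalCategory MonObj GrpObj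
  AlgebraicGeometry

namespace Groth.Agent.Helper8.Rigid4

theorem lemmaR2_scheme {S A B C : Scheme.{u}} (a : A ⟶ S) [IsProper a] [Flat a]
    [LocallyOfFinitePresentation a] [GeometricallyReduced a] [GeometricallyConnected a]
    (εA : S ⟶ A) (hεA : εA ≫ a = 𝟙 S)
    (b : B ⟶ S) (hb : ∀ s : S, _root_.IsPreconnected (b ⁻¹' {s}))
    (εB : S ⟶ B) (hεB : εB ≫ b = 𝟙 S)
    (q : C ⟶ S) [IsSeparated q] (c : S ⟶ C)
    (φ : pullback b a ⟶ C) (hφ : φ ≫ q = pullback.fst b a ≫ b)
    (h1 : pullback.lift (a ≫ εB) (𝟙 A)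
      (by rw [Category.assoc, hεB, Category.comp_id, Category.id_comp]) ≫ φ = a ≫ c)
    (h2 : pullback.lift (𝟙 B) (b ≫ εA)
      (by rw [Category.assoc, hεA, Category.comp_id, Category.id_comp]) ≫ φ = b ≫ c) :
    φ = pullback.fst b a ≫ b ≫ c := by
  have hw : (a ≫ εB) ≫ b = 𝟙 A ≫ a := by
    rw [Category.assoc, hεB, Category.comp_id, Category.id_comp]
  have hw' : 𝟙 B ≫ b = (b ≫ εA) ≫ a := by
    rw [Category.assoc, hεA, Category.comp_id, Category.id_comp]
  have hjf : pullback.lift (a ≫ εB) (𝟙 A) hw ≫ pullback.fst b a = a ≫ εB :=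
    pullback.lift_fst _ _ _
  have hjs : pullback.lift (a ≫ εB) (𝟙 A) hw ≫ pullback.snd b a = 𝟙 A :=
    pullback.lift_snd _ _ _
  have hj₂f : pullback.lift (𝟙 B) (b ≫ εA) hw' ≫ pullback.fst b a = 𝟙 B :=
    pullback.lift_fst _ _ _
  have c2 : pullback.fst b a ≫ b = pullback.snd b a ≫ a := pullback.condition
  -- collapse of the fibres over the section
  have hcollapse : ∀ s : S, ∀ z : ↥(pullback b a), pullback.fst b a z = εB s → φ z = c s := by
    intro s z hz
    have hz' : z ∈ Set.range (pullback.fst (pullback.fst b a) εB) := by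
      rw [Scheme.Pullback.range_fst]
      exact ⟨s, hz.symm⟩
    obtain ⟨w, rfl⟩ := hz'
    have c1 : pullback.fst (pullback.fst b a) εB ≫ pullback.fst b a =
        pullback.snd (pullback.fst b a) εB ≫ εB := pullback.condition
    have c3 : pullback.fst (pullback.fst b a) εB ≫ pullback.snd b a ≫ a =
        pullback.snd (pullback.fst b a) εB := by
      rw [← c2, ← Category.assoc, c1, Category.assoc, hεB, Category.comp_id]
    have hu : pullback.fst (pullback.fst b a) εB =
        (pullback.fst (pullback.fst b a) εB ≫ pullback.snd b a) ≫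
          pullback.lift (a ≫ εB) (𝟙 A) hw := by
      apply pullback.hom_ext
      · rw [Category.assoc, hjf, Category.assoc, ← Category.assoc (pullback.snd b a),
          ← Category.assoc, c3, c1]
      · rw [Category.assoc, hjs, Category.comp_id]
    have e1 : pullback.fst (pullback.fst b a) εB ≫ φ =
        pullback.snd (pullback.fst b a) εB ≫ c := by
      conv_lhs => rw [hu]
      rw [Category.assoc, h1, Category.assoc, ← Category.assoc (pullback.snd b a),
        ← Category.assoc, c3]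
    have e2 : εB (pullback.snd (pullback.fst b a) εB w) = εB s := by
      rw [← hz, ← Scheme.Hom.comp_apply, ← Scheme.Hom.comp_apply, c1]
    have h4 : ∀ s' : S, b (εB s') = s' := fun s' => by
      rw [← Scheme.Hom.comp_apply, hεB]
      rfl
    have e3 : pullback.snd (pullback.fst b a) εB w = s := by
      rw [← h4 (pullback.snd (pullback.fst b a) εB w), e2, h4]
    rw [← Scheme.Hom.comp_apply, e1, Scheme.Hom.comp_apply, e3]
  -- local statement from rigidity
  have hloc : ∀ s : S, ∃ W : B.Opens, IsClosed (W : Set B) ∧ εB s ∈ W ∧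
      (pullback.fst b a ⁻¹ᵁ W).ι ≫ φ = (pullback.fst b a ⁻¹ᵁ W).ι ≫ pullback.fst b a ≫ b ≫ c := by
    intro s
    obtain ⟨W, hWc, hsW, hW⟩ := Rigid2.rigidity_section b q (pullback.fst b a) φ hφ
      (pullback.lift (𝟙 B) (b ≫ εA) hw') hj₂f (εB s) (by
        rintro _ ⟨z₁, hz₁, rfl⟩ _ ⟨z₂, hz₂, rfl⟩
        rw [hcollapse s z₁ hz₁, hcollapse s z₂ hz₂])
    refine ⟨W, hWc, hsW, ?_⟩
    rw [hW, h2]
  refine Scheme.hom_ext_of_forall _ _ (fun z => ?_)
  obtain ⟨W, hWc, hsW, hW⟩ := hloc (b (pullback.fst b a z))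
  refine ⟨pullback.fst b a ⁻¹ᵁ W, ?_, hW⟩
  show pullback.fst b a z ∈ W
  have hconn := hb (b (pullback.fst b a z))
  have hmem : εB (b (pullback.fst b a z)) ∈ b ⁻¹' {b (pullback.fst b a z)} := by
    show b (εB (b (pullback.fst b a z))) = b (pullback.fst b a z)
    rw [← Scheme.Hom.comp_apply εB b, hεB]
    rfl
  have hsub := hconn.subset_isClopen ⟨hWc, W.isOpen⟩ ⟨_, hmem, hsW⟩
  exact hsub rfl

variable {S : Scheme.{u}}

/-- a morphism `B ⊗ A ⟶ C` to a separated group scheme which is trivial on both axes is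
trivial -/
theorem lemmaR2 (A B C : Over S) [IsProper A.hom] [Flat A.hom]
    [LocallyOfFinitePresentation A.hom] [GeometricallyReduced A.hom]
    [GeometricallyConnected A.hom] (eA : 𝟙_ (Over S) ⟶ A) (eB : 𝟙_ (Over S) ⟶ B)
    (hB : ∀ s : S, _root_.IsPreconnected (B.hom ⁻¹' {s}))
    [GrpObj C] [IsSeparated C.hom] (h : B ⊗ A ⟶ C)
    (h1 : eB ▷ A ≫ h = 1) (h2 : B ◁ eA ≫ h = 1) : h = 1 := by
  have hεA : eA.left ≫ A.hom = 𝟙 S := Over.w eA
  have hεB : eB.left ≫ B.hom = 𝟙 S := Over.w eB
  have hj : lift (toUnit A ≫ eB) (𝟙 A) ≫ h = 1 := by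
    have : lift (toUnit A ≫ eB) (𝟙 A) = lift (toUnit A) (𝟙 A) ≫ eB ▷ A := by simp
    rw [this, Category.assoc, h1, MonObj.comp_one]
  have hj₂ : lift (𝟙 B) (toUnit B ≫ eA) ≫ h = 1 := by
    have : lift (𝟙 B) (toUnit B ≫ eA) = lift (𝟙 B) (toUnit B) ≫ B ◁ eA := by simp
    rw [this, Category.assoc, h2, MonObj.comp_one]
  apply Over.OverMorphism.ext
  have key := lemmaR2_scheme A.hom eA.left hεA B.hom hB eB.left hεB C.hom η[C].left h.left
    (Over.w h) (congrArg CommaMorphism.left hj) (congrArg CommaMorphism.left hj₂)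
  rw [key]
  rfl

end Groth.Agent.Helper8.Rigid4
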