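import Groth.Agent.Helper8.BiaddA
import Groth.Agent.Helper8.Rigid4
import Groth.Agent.Helper8.StabPts
import Groth.Agent.Helper3.ConnProd

/-!
# Biadditive pairings of abelian schemes vanish

A morphism of abelian sheaves `A ⟶ 𝓗om(B, C)` between the sheaves of points of abelian schemes
gives, by Yoneda, a morphism `A ×_S B ⟶ C` trivial on both axes, hence trivial by rigidity.
-/

set_option autoImplicit false
set_option linter.style.haveILetI false

universe u

open CategoryTheory CategoryTheory.Limits MonoidalCategory CartesianMonoidalCategory MonObj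
  AlgebraicGeometry Opposite

namespace Groth.Agent.Helper8.Biadd

section Geom

/-- a smooth morphism is geometrically reduced -/
theorem geometricallyReduced_of_smooth {X S : Scheme.{u}} (f : X ⟶ S) [Smooth f] :
    GeometricallyReduced f := by
  refine ⟨fun K _ y Z fst snd h => ?_⟩
  haveI : Smooth snd := MorphismProperty.of_isPullback (P := @Smooth) h inferInstance
  exact Groth.Agent.Helper8.StabPts.isReduced_of_smooth snd

/-- connected fibres and a section give geometrically connected fibres -/
theorem geometricallyConnected_of_section {X S : Scheme.{u}} (f : X ⟶ S) (e : S ⟶ X)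
    (he : e ≫ f = 𝟙 S) (hconn : ∀ s : S, ConnectedSpace ↥(f.fiber s)) :
    GeometricallyConnected f := by
  rw [GeometricallyConnected.iff_geometricallyConnected_fiber]
  intro s
  haveI := hconn s
  refine Groth.Agent.Helper3.ConnProd.geometricallyConnected_of_section (S.residueField s)
    (f.fiber s) (f.fiberToSpecResidueField s)
    (pullback.lift (S.fromSpecResidueField s ≫ e) (𝟙 _)
      (by rw [Category.assoc, he, Category.comp_id, Category.id_comp])) ?_
  exact pullback.lift_snd _ _ _

theorem isPreconnected_preimage {X S : Scheme.{u}} (f : X ⟶ S) (s : S)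
    [ConnectedSpace ↥(f.fiber s)] : _root_.IsPreconnected (f ⁻¹' {s}) := by
  rw [← Scheme.Hom.range_fiberι]
  exact isPreconnected_range (f.fiberι s).continuous

end Geom

section Pts

variable {S : Scheme.{u}} (K : Precoverage Scheme.{u}) [(QuotSh.J K S).Subcanonical]

/-- a point as a section of the sheaf of points -/
def sec {G : Over S} [GrpObj G] [IsCommMonObj G] (T : Over S) (x : T ⟶ G) :
    (CGrpSh.pts K G).obj.obj (op T) :=
  ULift.up (Additive.ofMul x)

theorem sec_one {G : Over S} [GrpObj G] [IsCommMonObj G] (T : Over S) :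
    sec K T (1 : T ⟶ G) = 0 := rfl

theorem sec_map {G : Over S} [GrpObj G] [IsCommMonObj G] {T T' : Over S} (g : T' ⟶ T)
    (x : T ⟶ G) : (CGrpSh.pts K G).obj.map g.op (sec K T x) = sec K T' (g ≫ x) := rfl

variable {A B C : Over S} [GrpObj A] [IsCommMonObj A] [GrpObj B] [IsCommMonObj B]
  [GrpObj C] [IsCommMonObj C]
  (φ : CGrpSh.pts K A ⟶ HomSh.homSh (QuotSh.J K S) (CGrpSh.pts K B) (CGrpSh.pts K C))

/-- the pairing on points -/
noncomputable def β (T : Over S) (x : T ⟶ A) (y : T ⟶ B) : T ⟶ C :=
  (pair (QuotSh.J K S) φ T (sec K T x) (sec K T y)).down.toMul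

theorem β_one_left (T : Over S) (y : T ⟶ B) : β K φ T 1 y = 1 := by
  unfold β
  rw [sec_one, pair_zero_left]
  rfl

theorem β_one_right (T : Over S) (x : T ⟶ A) : β K φ T x 1 = 1 := by
  unfold β
  rw [sec_one, pair_zero_right]
  rfl

theorem β_natural {T T' : Over S} (g : T' ⟶ T) (x : T ⟶ A) (y : T ⟶ B) :
    g ≫ β K φ T x y = β K φ T' (g ≫ x) (g ≫ y) := by
  unfold β
  rw [← sec_map, ← sec_map, pair_natural]
  rfl

/-- the universal value of the pairing -/
noncomputable def hh : A ⊗ B ⟶ C := β K φ (A ⊗ B) (fst A B) (snd A B)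

theorem β_eq (T : Over S) (x : T ⟶ A) (y : T ⟶ B) : β K φ T x y = lift x y ≫ hh K φ := by
  unfold hh
  rw [β_natural, lift_fst, lift_snd]

theorem hh_eq_one [IsProper B.hom] [Flat B.hom] [LocallyOfFinitePresentation B.hom]
    [GeometricallyReduced B.hom] [GeometricallyConnected B.hom]
    (hA : ∀ s : S, _root_.IsPreconnected (A.hom ⁻¹' {s})) [IsSeparated C.hom] :
    hh K φ = 1 := by
  apply Groth.Agent.Helper8.Rigid4.lemmaR2 B A C η[B] η[A] hA (hh K φ)
  · unfold hh
    rw [β_natural, whiskerRight_fst, whiskerRight_snd, Groth.Agent.Helper8.Rigid3.fst_unit_eq_one,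
      β_one_left]
  · unfold hh
    rw [β_natural, whiskerLeft_fst, whiskerLeft_snd, Groth.Agent.Helper8.Rigid3.snd_unit_eq_one,
      β_one_right]

end Pts

/-- **S19291** -/
theorem main {S : Scheme.{u}} (K : Precoverage Scheme.{u}) [(QuotSh.J K S).Subcanonical]
    (A B C : Over S)
    [GrpObj A] [IsCommMonObj A]
    (hA : ∀ s : S, ConnectedSpace ↥(A.hom.fiber s))
    [GrpObj B] [IsCommMonObj B] [Smooth B.hom] [IsProper B.hom]
    (hB : ∀ s : S, ConnectedSpace ↥(B.hom.fiber s))
    [GrpObj C] [IsCommMonObj C] [IsSeparated C.hom]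
    (φ : CGrpSh.pts K A ⟶ HomSh.homSh (QuotSh.J K S) (CGrpSh.pts K B) (CGrpSh.pts K C)) :
    φ = 0 := by
  haveI : GeometricallyReduced B.hom := geometricallyReduced_of_smooth B.hom
  haveI : GeometricallyConnected B.hom :=
    geometricallyConnected_of_section B.hom η[B].left (Over.w η[B]) hB
  have hA' : ∀ s : S, _root_.IsPreconnected (A.hom ⁻¹' {s}) := fun s => by
    haveI := hA s
    exact isPreconnected_preimage A.hom s
  have h1 := hh_eq_one K φ hA'
  apply eq_zero_of_pair
  intro T x y
  have h2 : pair (QuotSh.J K S) φ T x y = sec K T (β K φ T x.down.toMul y.down.toMul) := rfl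
  rw [h2, β_eq, h1, MonObj.comp_one]
  rfl

end Groth.Agent.Helper8.Biadd
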