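import Mathlib
import Groth.Prelude.Def_Biext

/-!
# Endomorphisms of a biextension: the difference cocycle

For an endomorphism `f` of a biextension `B` of `(P, Q)` by `G` (over the identities), `f x = d(x) + x`
for a unique `d(x) ∈ G(T)`; `d` is natural, depends only on the image of `x` in `P × Q`, is additive
for both partial laws, hence vanishes when one of the projections of `x` is zero.  By the sheaf
property of `G` it descends locally: for sections `(p₀, q₀)` over `T₀` there is `m ∈ G(T₀)` computing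
`d` on all lifts of restrictions of `(p₀, q₀)`.
-/

set_option autoImplicit false

universe u

open CategoryTheory Opposite

namespace Groth.Agent.Helper8.BiextRig

variable {C : Type (u + 1)} [Category.{u} C] (J : GrothendieckTopology C)
variable {P Q G : Sheaf J AddCommGrpCat.{u + 1}} (B : Biext J P Q G) (f : Biext.Hom J B B)

theorem πP_f (T : C) (x : B.E.obj.obj (op T)) : B.πP T (f.map T x) = B.πP T x :=
  f.πP_map T x

theorem πQ_f (T : C) (x : B.E.obj.obj (op T)) : B.πQ T (f.map T x) = B.πQ T x :=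
  f.πQ_map T x

theorem f_act (T : C) (g : G.obj.obj (op T)) (x : B.E.obj.obj (op T)) :
    f.map T (B.act T g x) = B.act T g (f.map T x) :=
  f.map_act T g x

/-- the difference `f x - x` -/
noncomputable def d (T : C) (x : B.E.obj.obj (op T)) : G.obj.obj (op T) :=
  (B.existsUnique_act T x (f.map T x) (πP_f J B f T x).symm (πQ_f J B f T x).symm).choose

theorem act_d (T : C) (x : B.E.obj.obj (op T)) : B.act T (d J B f T x) x = f.map T x :=
  (B.existsUnique_act T x (f.map T x) (πP_f J B f T x).symm (πQ_f J B f T x).symm).choose_spec.1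

theorem d_unique (T : C) (x : B.E.obj.obj (op T)) (g : G.obj.obj (op T))
    (h : B.act T g x = f.map T x) : g = d J B f T x :=
  (B.existsUnique_act T x (f.map T x) (πP_f J B f T x).symm
    (πQ_f J B f T x).symm).choose_spec.2 g h

theorem d_map {T T' : C} (h : T' ⟶ T) (x : B.E.obj.obj (op T)) :
    G.obj.map h.op (d J B f T x) = d J B f T' (B.E.obj.map h.op x) := by
  apply d_unique
  rw [← B.act_map, act_d, f.map_res]

theorem d_act (T : C) (g : G.obj.obj (op T)) (x : B.E.obj.obj (op T)) :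
    d J B f T (B.act T g x) = d J B f T x := by
  symm
  apply d_unique
  rw [f_act, ← act_d J B f T x, ← B.add_act, ← B.add_act, add_comm]

theorem d_congr (T : C) (x x' : B.E.obj.obj (op T)) (hP : B.πP T x = B.πP T x')
    (hQ : B.πQ T x = B.πQ T x') : d J B f T x = d J B f T x' := by
  obtain ⟨g, hg, -⟩ := B.existsUnique_act T x x' hP hQ
  rw [← hg, d_act]

theorem add₁_congr (T : C) {x x' z z' : B.E.obj.obj (op T)} (hx : x = x') (hz : z = z')
    (h : B.πQ T x = B.πQ T z) (h' : B.πQ T x' = B.πQ T z') :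
    B.add₁ T x z h = B.add₁ T x' z' h' := by
  subst hx hz
  rfl

theorem add₂_congr (T : C) {x x' y y' : B.E.obj.obj (op T)} (hx : x = x') (hy : y = y')
    (h : B.πP T x = B.πP T y) (h' : B.πP T x' = B.πP T y') :
    B.add₂ T x y h = B.add₂ T x' y' h' := by
  subst hx hy
  rfl

theorem add₁_act_right (T : C) (g : G.obj.obj (op T)) (x z : B.E.obj.obj (op T))
    (h : B.πQ T x = B.πQ T z) :
    B.add₁ T x (B.act T g z) (h.trans (B.πQ_act T g z).symm) = B.act T g (B.add₁ T x z h) := by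
  rw [B.add₁_comm, B.add₁_act T g z x h.symm, B.add₁_comm T z x h.symm]

theorem add₂_act_right (T : C) (g : G.obj.obj (op T)) (x y : B.E.obj.obj (op T))
    (h : B.πP T x = B.πP T y) :
    B.add₂ T x (B.act T g y) (h.trans (B.πP_act T g y).symm) = B.act T g (B.add₂ T x y h) := by
  rw [B.add₂_comm, B.add₂_act T g y x h.symm, B.add₂_comm T y x h.symm]

theorem d_add₁ (T : C) (x z : B.E.obj.obj (op T)) (h : B.πQ T x = B.πQ T z) :
    d J B f T (B.add₁ T x z h) = d J B f T x + d J B f T z := by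
  symm
  apply d_unique
  rw [f.map_add₁ T x z h]
  have e1 : B.add₁ T (f.map T x) (f.map T z)
        (by rw [πQ_f, πQ_f, h]) =
      B.add₁ T (B.act T (d J B f T x) x) (B.act T (d J B f T z) z)
        (by rw [B.πQ_act, B.πQ_act, h]) :=
    add₁_congr J B T (act_d J B f T x).symm (act_d J B f T z).symm _ _
  rw [e1, B.add₁_act T (d J B f T x) x (B.act T (d J B f T z) z)
    (h.trans (B.πQ_act T _ z).symm), add₁_act_right J B T (d J B f T z) x z h, ← B.add_act]

theorem d_add₂ (T : C) (x y : B.E.obj.obj (op T)) (h : B.πP T x = B.πP T y) :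
    d J B f T (B.add₂ T x y h) = d J B f T x + d J B f T y := by
  symm
  apply d_unique
  rw [f.map_add₂ T x y h]
  have e1 : B.add₂ T (f.map T x) (f.map T y)
        (by rw [πP_f, πP_f, h]) =
      B.add₂ T (B.act T (d J B f T x) x) (B.act T (d J B f T y) y)
        (by rw [B.πP_act, B.πP_act, h]) :=
    add₂_congr J B T (act_d J B f T x).symm (act_d J B f T y).symm _ _
  rw [e1, B.add₂_act T (d J B f T x) x (B.act T (d J B f T y) y)
    (h.trans (B.πP_act T _ y).symm), add₂_act_right J B T (d J B f T y) x y h, ← B.add_act]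

theorem d_eq_zero_of_πP (T : C) (x : B.E.obj.obj (op T)) (h : B.πP T x = 0) :
    d J B f T x = 0 := by
  have h1 := d_add₁ J B f T x x rfl
  have h2 : d J B f T (B.add₁ T x x rfl) = d J B f T x := by
    apply d_congr
    · rw [B.πP_add₁, h, add_zero]
    · rw [B.πQ_add₁]
  rw [h2] at h1
  exact left_eq_add.mp h1

theorem d_eq_zero_of_πQ (T : C) (x : B.E.obj.obj (op T)) (h : B.πQ T x = 0) :
    d J B f T x = 0 := by
  have h1 := d_add₂ J B f T x x rfl
  have h2 : d J B f T (B.add₂ T x x rfl) = d J B f T x := by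
    apply d_congr
    · rw [B.πP_add₂]
    · rw [B.πQ_add₂, h, add_zero]
  rw [h2] at h1
  exact left_eq_add.mp h1

theorem map_eq_of_d_eq_zero (h : ∀ (T : C) (x : B.E.obj.obj (op T)), d J B f T x = 0) :
    f = Biext.HomOver.id J B := by
  apply Biext.HomOver.ext'
  intro T x
  rw [← act_d J B f T x, h, B.zero_act]
  rfl

/-- the sheaf of sets underlying `G` is a sheaf -/
theorem isSheaf_forget : Presieve.IsSheaf J (G.obj ⋙ forget AddCommGrpCat.{u + 1}) :=
  (isSheaf_iff_isSheaf_of_type J _).mp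
    ((Presheaf.isSheaf_iff_isSheaf_forget J G.obj (forget AddCommGrpCat.{u + 1})).mp G.property)

theorem exists_glue (T₀ : C) (p₀ : P.obj.obj (op T₀)) (q₀ : Q.obj.obj (op T₀)) :
    ∃ m : G.obj.obj (op T₀),
      (∀ (T : C) (g : T ⟶ T₀) (x : B.E.obj.obj (op T)), B.πP T x = P.obj.map g.op p₀ →
        B.πQ T x = Q.obj.map g.op q₀ → d J B f T x = G.obj.map g.op m) ∧
      (∀ (T₁ : C) (g₁ : T₁ ⟶ T₀), P.obj.map g₁.op p₀ = 0 → G.obj.map g₁.op m = 0) ∧
      (∀ (T₁ : C) (g₁ : T₁ ⟶ T₀), Q.obj.map g₁.op q₀ = 0 → G.obj.map g₁.op m = 0) := by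
  obtain ⟨R, hR, hlift⟩ := B.locallySurjective T₀ p₀ q₀
  choose xs hxsP hxsQ using hlift
  have hG := isSheaf_forget J (G := G)
  let fam : Presieve.FamilyOfElements (G.obj ⋙ forget AddCommGrpCat.{u + 1}) R.arrows :=
    fun T' h hh => d J B f T' (xs h hh)
  have hPcomp : ∀ {T T' : C} (k : T' ⟶ T) (g : T ⟶ T₀),
      P.obj.map k.op (P.obj.map g.op p₀) = P.obj.map (k ≫ g).op p₀ := by
    intro T T' k g
    rw [op_comp, P.obj.map_comp]
    rfl
  have hQcomp : ∀ {T T' : C} (k : T' ⟶ T) (g : T ⟶ T₀),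
      Q.obj.map k.op (Q.obj.map g.op q₀) = Q.obj.map (k ≫ g).op q₀ := by
    intro T T' k g
    rw [op_comp, Q.obj.map_comp]
    rfl
  have hGcomp : ∀ {T T' : C} (k : T' ⟶ T) (g : T ⟶ T₀) (m : G.obj.obj (op T₀)),
      G.obj.map k.op (G.obj.map g.op m) = G.obj.map (k ≫ g).op m := by
    intro T T' k g m
    rw [op_comp, G.obj.map_comp]
    rfl
  have compat : fam.Compatible := by
    intro Y₁ Y₂ Z g₁ g₂ f₁ f₂ h₁ h₂ hcomm
    show G.obj.map g₁.op (d J B f Y₁ (xs f₁ h₁)) = G.obj.map g₂.op (d J B f Y₂ (xs f₂ h₂))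
    rw [d_map, d_map]
    apply d_congr
    · rw [B.πP_map, B.πP_map, hxsP, hxsP, hPcomp, hPcomp, hcomm]
    · rw [B.πQ_map, B.πQ_map, hxsQ, hxsQ, hQcomp, hQcomp, hcomm]
  let m : G.obj.obj (op T₀) := (hG R hR).amalgamate fam compat
  have hm : ∀ {T' : C} (h : T' ⟶ T₀) (hh : R h), G.obj.map h.op m = d J B f T' (xs h hh) :=
    fun h hh => (hG R hR).valid_glue compat h hh
  refine ⟨m, ?_, ?_, ?_⟩
  · intro T g x hxP hxQ
    refine (hG (R.pullback g) (J.pullback_stable g hR)).isSeparatedFor.ext ?_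
    intro T' k hk
    show G.obj.map k.op (d J B f T x) = G.obj.map k.op (G.obj.map g.op m)
    rw [hGcomp, hm (k ≫ g) hk, d_map]
    apply d_congr
    · rw [B.πP_map, hxP, hPcomp, hxsP]
    · rw [B.πQ_map, hxQ, hQcomp, hxsQ]
  · intro T₁ g₁ h0
    refine (hG (R.pullback g₁) (J.pullback_stable g₁ hR)).isSeparatedFor.ext ?_
    intro T' k hk
    show G.obj.map k.op (G.obj.map g₁.op m) = G.obj.map k.op 0
    rw [hGcomp, hm (k ≫ g₁) hk, map_zero]
    apply d_eq_zero_of_πP
    rw [hxsP, ← hPcomp, h0, map_zero]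
  · intro T₁ g₁ h0
    refine (hG (R.pullback g₁) (J.pullback_stable g₁ hR)).isSeparatedFor.ext ?_
    intro T' k hk
    show G.obj.map k.op (G.obj.map g₁.op m) = G.obj.map k.op 0
    rw [hGcomp, hm (k ≫ g₁) hk, map_zero]
    apply d_eq_zero_of_πQ
    rw [hxsQ, ← hQcomp, h0, map_zero]

end Groth.Agent.Helper8.BiextRig
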