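import Groth.Agent.Helper8.BiextA
import Groth.Agent.Helper8.BiaddB

/-!
# Biextensions of abelian schemes are rigid
-/

set_option autoImplicit false
set_option linter.style.haveILetI false

universe u

open CategoryTheory CategoryTheory.Limits MonoidalCategory CartesianMonoidalCategory MonObj
  AlgebraicGeometry Opposite

namespace Groth.Agent.Helper8.BiextRig

/-- **S19686** -/
theorem main {S : Scheme.{u}} (K : Precoverage Scheme.{u}) [(QuotSh.J K S).Subcanonical]
    (A₁ A₂ A₃ : Over S)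
    [GrpObj A₁] [IsCommMonObj A₁]
    (hA₁ : ∀ s : S, ConnectedSpace ↥(A₁.hom.fiber s))
    [GrpObj A₂] [IsCommMonObj A₂] [Smooth A₂.hom] [IsProper A₂.hom]
    (hA₂ : ∀ s : S, ConnectedSpace ↥(A₂.hom.fiber s))
    [GrpObj A₃] [IsCommMonObj A₃] [IsSeparated A₃.hom]
    (B : Biext (QuotSh.J K S) (CGrpSh.pts K A₁) (CGrpSh.pts K A₂) (CGrpSh.pts K A₃))
    (f : Biext.Hom (QuotSh.J K S) B B) : f = Biext.HomOver.id (QuotSh.J K S) B := by
  haveI : GeometricallyReduced A₂.hom := Biadd.geometricallyReduced_of_smooth A₂.hom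
  haveI : GeometricallyConnected A₂.hom :=
    Biadd.geometricallyConnected_of_section A₂.hom η[A₂].left (Over.w η[A₂]) hA₂
  have hA' : ∀ s : S, _root_.IsPreconnected (A₁.hom ⁻¹' {s}) := fun s => by
    haveI := hA₁ s
    exact Biadd.isPreconnected_preimage A₁.hom s
  apply map_eq_of_d_eq_zero
  obtain ⟨m, hm, hmP, hmQ⟩ := exists_glue (QuotSh.J K S) B f (A₁ ⊗ A₂)
    (Biadd.sec K _ (fst A₁ A₂)) (Biadd.sec K _ (snd A₁ A₂))
  have hm1 : (m.down.toMul : A₁ ⊗ A₂ ⟶ A₃) = 1 := by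
    apply Groth.Agent.Helper8.Rigid4.lemmaR2 A₂ A₁ A₃ η[A₂] η[A₁] hA' m.down.toMul
    · have h0 := hmP _ (η[A₁] ▷ A₂) (by
        rw [Biadd.sec_map, whiskerRight_fst, Groth.Agent.Helper8.Rigid3.fst_unit_eq_one]
        rfl)
      exact congrArg (fun z => z.down.toMul) h0
    · have h0 := hmQ _ (A₁ ◁ η[A₂]) (by
        rw [Biadd.sec_map, whiskerLeft_snd, Groth.Agent.Helper8.Rigid3.snd_unit_eq_one]
        rfl)
      exact congrArg (fun z => z.down.toMul) h0
  have hm0 : m = 0 := by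
    have : m = Biadd.sec K _ m.down.toMul := rfl
    rw [this, hm1]
    rfl
  intro T x
  have h1 := hm T (lift (B.πP T x).down.toMul (B.πQ T x).down.toMul) x
    (by rw [Biadd.sec_map, lift_fst]; rfl) (by rw [Biadd.sec_map, lift_snd]; rfl)
  rw [h1, hm0, map_zero]

end Groth.Agent.Helper8.BiextRig
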