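import Mathlib

/-!
# The Grothendieck topology generated by a class of quasi-compact morphisms (S14463)
-/

universe u

open CategoryTheory CategoryTheory.Limits AlgebraicGeometry

namespace Groth.Agent.Helper8.BigSiteGen

variable {S : Scheme.{u}} (C : MorphismProperty Scheme.{u})

/-- Local covering data over an (affine) open `U` of `X`. -/
structure LocData (X : Over S) (R : Sieve X) (U : X.left.Opens) where
  κ : Type u
  fin : Finite κ
  V : κ → Over S
  φ : ∀ j, V j ⟶ X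
  ψ : ∀ j, (V j).left ⟶ (U : Scheme.{u})
  aff : ∀ j, IsAffine (V j).left
  mem : ∀ j, R.arrows (φ j)
  fac : ∀ j, ψ j ≫ U.ι = (φ j).left
  hC : C (Limits.Sigma.desc ψ)

/-- The covering predicate. -/
def Cov (X : Over S) (R : Sieve X) : Prop :=
  ∃ (ι : Type u) (U : ι → X.left.Opens), (∀ i, IsAffineOpen (U i)) ∧ ⨆ i, U i = ⊤ ∧
    ∀ i, Nonempty (LocData C X R (U i))

variable {C}

section BaseChange

variable [C.IsStableUnderBaseChange]

lemma sigmaDesc_snd {κ : Type u} [Finite κ] {U W : Scheme.{u}} (V : κ → Scheme.{u})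
    (ψ : ∀ j, V j ⟶ U) (w : W ⟶ U) (hC : C (Limits.Sigma.desc ψ)) :
    C (Limits.Sigma.desc fun j => pullback.snd (ψ j) w) := by
  have hau : IsUniversalColimit (Cofan.mk (∐ V) (Limits.Sigma.ι V)) :=
    FinitaryPreExtensive.isUniversal_finiteCoproducts (coproductIsCoproduct V)
  have key := hau.isPullback_of_isColimit_right ψ (Limits.Sigma.desc ψ) w
    (fun j => pullback.fst (ψ j) w) (fun j => pullback.snd (ψ j) w)
    (fun j => IsPullback.of_hasPullback _ _)
    (coproductIsCoproduct fun j => pullback (ψ j) w) (by intro i; simp)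
  exact C.of_isPullback key hC

end BaseChange

section Comp

variable [C.IsStableUnderComposition] [C.RespectsIso]

lemma sigmaDesc_comp
    (hcoprod : ∀ (κ : Type u) [Finite κ] (A B : κ → Scheme.{u}) (f : ∀ j, A j ⟶ B j),
      (∀ j, C (f j)) → C (Limits.Sigma.map f))
    {κ : Type u} [Finite κ] {κ' : κ → Type u} [∀ k, Finite (κ' k)] {U : Scheme.{u}}
    (B : κ → Scheme.{u}) (g : ∀ k, B k ⟶ U) (T : ∀ k, κ' k → Scheme.{u})
    (t : ∀ k m, T k m ⟶ B k) (hg : C (Limits.Sigma.desc g)) (ht : ∀ k, C (Limits.Sigma.desc (t k))) :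
    C (Limits.Sigma.desc (fun p : Σ k, κ' k => t p.1 p.2 ≫ g p.1)) := by
  have e : Limits.Sigma.desc (fun p : Σ k, κ' k => t p.1 p.2 ≫ g p.1) =
      (sigmaSigmaIso κ' T).inv ≫ Limits.Sigma.map (fun k => Limits.Sigma.desc (t k)) ≫ Limits.Sigma.desc g := by
    apply Limits.Sigma.hom_ext
    rintro ⟨k, m⟩
    simp
  rw [e, C.cancel_left_of_respectsIso]
  exact C.comp_mem _ _ (hcoprod κ _ _ _ ht) hg

end Comp

section Top

lemma LocData.top
    (haff : ∀ (U : Scheme.{u}) [IsAffine U] (κ : Type u) [Finite κ] (V : κ → U.Opens),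
      (∀ j, IsAffineOpen (V j)) → ⨆ j, V j = ⊤ → C (Limits.Sigma.desc fun j => (V j).ι))
    (X : Over S) (U : X.left.Opens) (hU : IsAffineOpen U) :
    Nonempty (LocData C X ⊤ U) := by
  haveI : IsAffine (U : Scheme.{u}) := hU
  refine ⟨{
    κ := PUnit.{u+1}
    fin := inferInstance
    V := fun _ => Over.mk ((⊤ : (U : Scheme.{u}).Opens).ι ≫ U.ι ≫ X.hom)
    φ := fun _ => Over.homMk ((⊤ : (U : Scheme.{u}).Opens).ι ≫ U.ι) (by simp)
    ψ := fun _ => (⊤ : (U : Scheme.{u}).Opens).ι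
    aff := fun _ => ?_
    mem := fun _ => trivial
    fac := fun _ => rfl
    hC := ?_ }⟩
  · exact (isAffineOpen_top (U : Scheme.{u}))
  · exact haff (U : Scheme.{u}) PUnit.{u+1} (fun _ => ⊤) (fun _ => isAffineOpen_top _)
      (by simp)

end Top

section Pullback

variable [C.IsStableUnderBaseChange]

noncomputable def LocData.pullback {X Y : Over S} {R : Sieve X} {U : X.left.Opens}
    (hU : IsAffineOpen U) (D : LocData C X R U) (h : Y ⟶ X) (W : Y.left.Opens)
    (hW : IsAffineOpen W) (hle : W ≤ h.left ⁻¹ᵁ U) : LocData C Y (R.pullback h) W :=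
  haveI := D.fin
  haveI : IsAffine (U : Scheme.{u}) := hU
  haveI : IsAffine (W : Scheme.{u}) := hW
  haveI := D.aff
  let w : (W : Scheme.{u}) ⟶ (U : Scheme.{u}) := h.left.resLE U W hle
  have hw : w ≫ U.ι = W.ι ≫ h.left := Scheme.Hom.resLE_comp_ι _ _
  { κ := D.κ
    fin := D.fin
    V := fun j => Over.mk (pullback.snd (D.ψ j) w ≫ W.ι ≫ Y.hom)
    φ := fun j => Over.homMk (pullback.snd (D.ψ j) w ≫ W.ι) (by simp)
    ψ := fun j => pullback.snd (D.ψ j) w
    aff := fun j => by dsimp; infer_instance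
    mem := fun j => by
      have hcomm : pullback.fst (D.ψ j) w ≫ (D.V j).hom =
          pullback.snd (D.ψ j) w ≫ W.ι ≫ Y.hom := by
        rw [← Over.w (D.φ j), ← D.fac j, ← Over.w h, ← reassoc_of% hw,
          ← pullback.condition_assoc]
        simp
      have : (Over.homMk (pullback.snd (D.ψ j) w ≫ W.ι) (by simp) :
          Over.mk (pullback.snd (D.ψ j) w ≫ W.ι ≫ Y.hom) ⟶ Y) ≫ h =
          (Over.homMk (pullback.fst (D.ψ j) w) hcomm :
            Over.mk (pullback.snd (D.ψ j) w ≫ W.ι ≫ Y.hom) ⟶ D.V j) ≫ D.φ j := by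
        ext
        simp only [Over.comp_left, Over.homMk_left, Category.assoc]
        rw [← hw, ← D.fac j, pullback.condition_assoc]
      show R.arrows _
      rw [this]
      exact R.downward_closed (D.mem j) _
    fac := fun j => rfl
    hC := sigmaDesc_snd (fun j => (D.V j).left) D.ψ w D.hC }

theorem Cov.pullback {X Y : Over S} {R : Sieve X} (hR : Cov C X R) (h : Y ⟶ X) :
    Cov C Y (R.pullback h) := by
  obtain ⟨ι, U, hU, hsup, hloc⟩ := hR
  refine ⟨Σ i : ι, {W : Y.left.affineOpens // W.1 ≤ h.left ⁻¹ᵁ U i}, fun p => p.2.1.1,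
    fun p => p.2.1.2, ?_, ?_⟩
  · rw [eq_top_iff]
    rintro y -
    have hy : h.left y ∈ (⨆ i, U i : X.left.Opens) := by rw [hsup]; trivial
    obtain ⟨i, hi⟩ := TopologicalSpace.Opens.mem_iSup.mp hy
    obtain ⟨_, ⟨W, hW, rfl⟩, hyW, hWU⟩ := Y.left.isBasis_affineOpens.exists_subset_of_mem_open
      (show y ∈ ((h.left ⁻¹ᵁ U i : Y.left.Opens) : Set Y.left) from hi) (h.left ⁻¹ᵁ U i).2
    exact TopologicalSpace.Opens.mem_iSup.mpr ⟨⟨i, ⟨⟨W, hW⟩, hWU⟩⟩, hyW⟩
  · rintro ⟨i, ⟨W, hW⟩⟩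
    obtain ⟨D⟩ := hloc i
    exact ⟨D.pullback (hU i) h W.1 W.2 hW⟩

end Pullback

section Trans

variable [C.IsStableUnderComposition] [C.RespectsIso]

/-- Transitivity of local data. -/
noncomputable def LocData.trans
    (hcoprod : ∀ (κ : Type u) [Finite κ] (A B : κ → Scheme.{u}) (f : ∀ j, A j ⟶ B j),
      (∀ j, C (f j)) → C (Limits.Sigma.map f))
    (haff : ∀ (U : Scheme.{u}) [IsAffine U] (κ : Type u) [Finite κ] (V : κ → U.Opens),
      (∀ j, IsAffineOpen (V j)) → ⨆ j, V j = ⊤ → C (Limits.Sigma.desc fun j => (V j).ι))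
    {X : Over S} {R R' : Sieve X} {U : X.left.Opens}
    (D : LocData C X R U)
    (τ : D.κ → Type u) [∀ j, Finite (τ j)]
    (A : ∀ j, τ j → (D.V j).left.Opens) (hA : ∀ j l, IsAffineOpen (A j l))
    (hAsup : ∀ j, ⨆ l, A j l = ⊤)
    (E : ∀ j l, LocData C (D.V j) (R'.pullback (D.φ j)) (A j l)) :
    LocData C X R' U :=
  haveI := D.fin
  haveI := D.aff
  haveI := fun j l => (E j l).fin
  have h1 : C (Limits.Sigma.desc (fun p : Σ j, τ j => (A p.1 p.2).ι ≫ D.ψ p.1)) :=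
    sigmaDesc_comp hcoprod (fun j => (D.V j).left) D.ψ (fun j l => ((A j l : (D.V j).left.Opens) : Scheme.{u}))
      (fun j l => (A j l).ι) D.hC (fun j => haff (D.V j).left (τ j) (A j) (hA j) (hAsup j))
  { κ := Σ p : (Σ j, τ j), (E p.1 p.2).κ
    fin := inferInstance
    V := fun q => (E q.1.1 q.1.2).V q.2
    φ := fun q => (E q.1.1 q.1.2).φ q.2 ≫ D.φ q.1.1
    ψ := fun q => (E q.1.1 q.1.2).ψ q.2 ≫ (A q.1.1 q.1.2).ι ≫ D.ψ q.1.1
    aff := fun q => (E q.1.1 q.1.2).aff q.2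
    mem := fun q => (E q.1.1 q.1.2).mem q.2
    fac := fun q => by
      rw [Category.assoc, Category.assoc, D.fac, Over.comp_left, ← (E q.1.1 q.1.2).fac]
      simp
    hC := sigmaDesc_comp hcoprod (κ := Σ j, τ j) (κ' := fun p => (E p.1 p.2).κ)
      (fun p => ((A p.1 p.2 : (D.V p.1).left.Opens) : Scheme.{u}))
      (fun p => (A p.1 p.2).ι ≫ D.ψ p.1) (fun p m => ((E p.1 p.2).V m).left)
      (fun p m => (E p.1 p.2).ψ m) h1 (fun p => (E p.1 p.2).hC) }

theorem Cov.trans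
    (hcoprod : ∀ (κ : Type u) [Finite κ] (A B : κ → Scheme.{u}) (f : ∀ j, A j ⟶ B j),
      (∀ j, C (f j)) → C (Limits.Sigma.map f))
    (haff : ∀ (U : Scheme.{u}) [IsAffine U] (κ : Type u) [Finite κ] (V : κ → U.Opens),
      (∀ j, IsAffineOpen (V j)) → ⨆ j, V j = ⊤ → C (Limits.Sigma.desc fun j => (V j).ι))
    {X : Over S} {R : Sieve X} (hR : Cov C X R) (R' : Sieve X)
    (H : ∀ ⦃Y : Over S⦄ ⦃f : Y ⟶ X⦄, R f → Cov C Y (R'.pullback f)) : Cov C X R' := by
  obtain ⟨ι, U, hU, hsup, hloc⟩ := hR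
  refine ⟨ι, U, hU, hsup, fun i => ?_⟩
  obtain ⟨D⟩ := hloc i
  haveI := D.fin
  haveI := D.aff
  have key : ∀ j : D.κ, ∃ (τ : Type u) (_ : Finite τ) (A : τ → (D.V j).left.Opens),
      (∀ l, IsAffineOpen (A l)) ∧ ⨆ l, A l = ⊤ ∧
        ∀ l, Nonempty (LocData C (D.V j) (R'.pullback (D.φ j)) (A l)) := by
    intro j
    obtain ⟨ι', A, hA, hAsup, hAloc⟩ := H (D.mem j)
    have hcpt : IsCompact (Set.univ : Set (D.V j).left) := isCompact_univ
    obtain ⟨t, ht⟩ := hcpt.elim_finite_subcover (fun l => ((A l : (D.V j).left.Opens) : Set _))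
      (fun l => (A l).2) (by
        intro y _
        have hy : y ∈ (⨆ l, A l : (D.V j).left.Opens) := by rw [hAsup]; trivial
        obtain ⟨l, hl⟩ := TopologicalSpace.Opens.mem_iSup.mp hy
        exact Set.mem_iUnion.mpr ⟨l, hl⟩)
    refine ⟨↥t, inferInstance, fun l => A l.1, fun l => hA _, ?_, fun l => hAloc _⟩
    rw [eq_top_iff]
    rintro y -
    have := ht (Set.mem_univ y)
    simp only [Set.mem_iUnion] at this
    obtain ⟨l, hl, hy⟩ := this
    exact TopologicalSpace.Opens.mem_iSup.mpr ⟨⟨l, hl⟩, hy⟩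
  choose τ hτ A hA hAsup E using key
  haveI := hτ
  exact ⟨D.trans hcoprod haff τ A hA hAsup (fun j l => (E j l).some)⟩

end Trans

theorem main (S : Scheme.{u})
    (C : MorphismProperty Scheme.{u}) [C.IsStableUnderComposition] [C.IsStableUnderBaseChange]
    (hcoprod : ∀ (κ : Type u) [Finite κ] (A B : κ → Scheme.{u}) (f : ∀ j, A j ⟶ B j),
      (∀ j, C (f j)) → C (Limits.Sigma.map f))
    (haff : ∀ (U : Scheme.{u}) [IsAffine U] (κ : Type u) [Finite κ] (V : κ → U.Opens),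
      (∀ j, IsAffineOpen (V j)) → ⨆ j, V j = ⊤ → C (Limits.Sigma.desc fun j => (V j).ι)) :
    ∃ J : GrothendieckTopology (Over S), ∀ (X : Over S) (R : Sieve X), R ∈ J X ↔
      ∃ (ι : Type u) (U : ι → X.left.Opens), (∀ i, IsAffineOpen (U i)) ∧ ⨆ i, U i = ⊤ ∧
        ∀ i, ∃ (κ : Type u) (_ : Finite κ) (V : κ → Over S) (φ : ∀ j, V j ⟶ X)
          (ψ : ∀ j, (V j).left ⟶ (U i : Scheme.{u})),
          (∀ j, IsAffine (V j).left) ∧ (∀ j, R.arrows (φ j)) ∧ (∀ j, ψ j ≫ (U i).ι = (φ j).left) ∧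
            C (Limits.Sigma.desc ψ) := by
  refine ⟨{ sieves := fun X => {R | Cov C X R}
            top_mem' := ?_
            pullback_stable' := ?_
            transitive' := ?_ }, ?_⟩
  · intro X
    refine ⟨X.left.affineOpens, fun W => W.1, fun W => W.2, ?_, fun W => LocData.top haff X W.1 W.2⟩
    exact iSup_affineOpens_eq_top X.left
  · intro X Y R h hR
    exact Cov.pullback hR h
  · intro X R hR R' H
    exact Cov.trans hcoprod haff hR R' H
  · intro X R
    show Cov C X R ↔ _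
    constructor
    · rintro ⟨ι, U, hU, hsup, hloc⟩
      refine ⟨ι, U, hU, hsup, fun i => ?_⟩
      obtain ⟨D⟩ := hloc i
      exact ⟨D.κ, D.fin, D.V, D.φ, D.ψ, D.aff, D.mem, D.fac, D.hC⟩
    · rintro ⟨ι, U, hU, hsup, hloc⟩
      refine ⟨ι, U, hU, hsup, fun i => ?_⟩
      obtain ⟨κ, hκ, V, φ, ψ, h1, h2, h3, h4⟩ := hloc i
      exact ⟨⟨κ, hκ, V, φ, ψ, h1, h2, h3, h4⟩⟩

end Groth.Agent.Helper8.BigSiteGen
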