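import Mathlib
import Groth.Agent.Helper8.BigSiteGen

/-!
# Sheaves for the topology generated by a class of quasi-compact morphisms (S14465)
-/

universe v u

open CategoryTheory CategoryTheory.Limits AlgebraicGeometry

namespace Groth.Agent.Helper8.BigSiteGen

variable {S : Scheme.{u}} {C : MorphismProperty Scheme.{u}}

theorem cov_iff (X : Over S) (R : Sieve X) : Cov C X R ↔
    ∃ (ι : Type u) (U : ι → X.left.Opens), (∀ i, IsAffineOpen (U i)) ∧ ⨆ i, U i = ⊤ ∧
      ∀ i, ∃ (κ : Type u) (_ : Finite κ) (V : κ → Over S) (φ : ∀ j, V j ⟶ X)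
        (ψ : ∀ j, (V j).left ⟶ (U i : Scheme.{u})),
        (∀ j, IsAffine (V j).left) ∧ (∀ j, R.arrows (φ j)) ∧ (∀ j, ψ j ≫ (U i).ι = (φ j).left) ∧
          C (Limits.Sigma.desc ψ) := by
  constructor
  · rintro ⟨ι, U, hU, hsup, hloc⟩
    refine ⟨ι, U, hU, hsup, fun i => ?_⟩
    obtain ⟨D⟩ := hloc i
    exact ⟨D.κ, D.fin, D.V, D.φ, D.ψ, D.aff, D.mem, D.fac, D.hC⟩
  · rintro ⟨ι, U, hU, hsup, hloc⟩
    refine ⟨ι, U, hU, hsup, fun i => ?_⟩
    obtain ⟨κ, hκ, V, φ, ψ, h1, h2, h3, h4⟩ := hloc i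
    exact ⟨⟨κ, hκ, V, φ, ψ, h1, h2, h3, h4⟩⟩

/-- Local data from a single affine open whose inclusion belongs to the sieve. -/
lemma LocData.ofMem
    (haff : ∀ (U : Scheme.{u}) [IsAffine U] (κ : Type u) [Finite κ] (V : κ → U.Opens),
      (∀ j, IsAffineOpen (V j)) → ⨆ j, V j = ⊤ → C (Limits.Sigma.desc fun j => (V j).ι))
    (X : Over S) (T : Sieve X) (U : X.left.Opens) (hU : IsAffineOpen U)
    (hmem : T.arrows (Over.homMk ((⊤ : (U : Scheme.{u}).Opens).ι ≫ U.ι) :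
      Over.mk (((⊤ : (U : Scheme.{u}).Opens).ι ≫ U.ι) ≫ X.hom) ⟶ X)) :
    Nonempty (LocData C X T U) := by
  haveI : IsAffine (U : Scheme.{u}) := hU
  refine ⟨{
    κ := PUnit.{u+1}
    fin := inferInstance
    V := fun _ => Over.mk (((⊤ : (U : Scheme.{u}).Opens).ι ≫ U.ι) ≫ X.hom)
    φ := fun _ => Over.homMk ((⊤ : (U : Scheme.{u}).Opens).ι ≫ U.ι)
    ψ := fun _ => (⊤ : (U : Scheme.{u}).Opens).ι
    aff := fun _ => ?_
    mem := fun _ => hmem
    fac := fun _ => rfl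
    hC := ?_ }⟩
  · exact (isAffineOpen_top (U : Scheme.{u}))
  · exact haff (U : Scheme.{u}) PUnit.{u+1} (fun _ => ⊤) (fun _ => isAffineOpen_top _)
      (by simp)

/-- Zariski covering sieves are covering. -/
theorem cov_of_zariski
    (haff : ∀ (U : Scheme.{u}) [IsAffine U] (κ : Type u) [Finite κ] (V : κ → U.Opens),
      (∀ j, IsAffineOpen (V j)) → ⨆ j, V j = ⊤ → C (Limits.Sigma.desc fun j => (V j).ι))
    {X : Over S} {T : Sieve X} (hT : T ∈ (Scheme.zariskiTopology.over S) X) : Cov C X T := by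
  rw [GrothendieckTopology.mem_over_iff, Scheme.mem_grothendieckTopology_iff] at hT
  obtain ⟨𝒰, h𝒰⟩ := hT
  refine ⟨{W : X.left.affineOpens // ∃ i, W.1 ≤ (𝒰.f i).opensRange}, fun W => W.1.1,
    fun W => W.1.2, ?_, ?_⟩
  · rw [eq_top_iff]
    rintro x -
    obtain ⟨i, y, rfl⟩ := 𝒰.exists_eq x
    obtain ⟨_, ⟨W, hW, rfl⟩, hxW, hWU⟩ := X.left.isBasis_affineOpens.exists_subset_of_mem_open
      (show 𝒰.f i y ∈ ((𝒰.f i).opensRange : Set X.left) from ⟨y, rfl⟩) (𝒰.f i).opensRange.2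
    exact TopologicalSpace.Opens.mem_iSup.mpr ⟨⟨⟨W, hW⟩, i, hWU⟩, hxW⟩
  · rintro ⟨W, i, hWi⟩
    apply LocData.ofMem haff X T W.1 W.2
    rw [← Sieve.overEquiv_iff]
    haveI : IsOpenImmersion (𝒰.f i) := 𝒰.map_prop i
    have hr : Set.range W.1.ι ⊆ Set.range (𝒰.f i) := by
      rw [Scheme.Opens.range_ι]
      exact hWi
    have hl : IsOpenImmersion.lift (𝒰.f i) W.1.ι hr ≫ 𝒰.f i = W.1.ι :=
      IsOpenImmersion.lift_fac _ _ _
    rw [← hl, ← Category.assoc]
    exact (Sieve.overEquiv X T).downward_closed (h𝒰 _ _ (Presieve.ofArrows.mk i)) _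

/-- The sieve generated by a morphism of the class is covering. -/
theorem cov_singleton
    (hqc : ∀ {A B : Scheme.{u}} (f : A ⟶ B), C f → QuasiCompact f)
    [C.IsStableUnderBaseChange]
    (hres : ∀ (W X' : Scheme.{u}) [IsAffine W] (f : X' ⟶ W), C f →
      ∀ (κ : Type u) [Finite κ] (A : κ → X'.Opens), (∀ l, IsAffineOpen (A l)) → ⨆ l, A l = ⊤ →
        C (Limits.Sigma.desc fun l => (A l).ι ≫ f))
    {X X' : Over S} (f : X' ⟶ X) (hf : C f.left) :
    Cov C X (Sieve.generate (Presieve.singleton f)) := by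
  refine ⟨X.left.affineOpens, fun W => W.1, fun W => W.2, iSup_affineOpens_eq_top _,
    fun W => ?_⟩
  have hWaff : IsAffine (W.1 : Scheme.{u}) := W.2
  have hg : C (f.left ∣_ W.1) :=
    C.of_isPullback (isPullback_morphismRestrict f.left W.1).flip hf
  have : QuasiCompact (f.left ∣_ W.1) := hqc _ hg
  have : CompactSpace ↥((f.left ⁻¹ᵁ W.1 : X'.left.Opens) : Scheme.{u}) :=
    QuasiCompact.compactSpace_of_compactSpace (f.left ∣_ W.1)
  obtain ⟨s, hs, hsU⟩ := (isCompact_and_isOpen_iff_finite_and_eq_biUnion_affineOpens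
    (X := ((f.left ⁻¹ᵁ W.1 : X'.left.Opens) : Scheme.{u})) (U := Set.univ)).mp
      ⟨isCompact_univ, isOpen_univ⟩
  haveI : Finite ↥s := hs.to_subtype
  have hsup : ⨆ l : ↥s, (l.1.1 : ((f.left ⁻¹ᵁ W.1 : X'.left.Opens) : Scheme.{u}).Opens) = ⊤ := by
    rw [eq_top_iff]
    rintro x -
    have hx : x ∈ (Set.univ : Set _) := trivial
    rw [hsU] at hx
    simp only [Set.mem_iUnion] at hx
    obtain ⟨l, hl, hxl⟩ := hx
    exact TopologicalSpace.Opens.mem_iSup.mpr ⟨⟨l, hl⟩, hxl⟩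
  have hC' := hres (W.1 : Scheme.{u}) _ (f.left ∣_ W.1) hg ↥s (fun l => l.1.1) (fun l => l.1.2) hsup
  exact ⟨{
    κ := ↥s
    fin := inferInstance
    V := fun l => Over.mk ((l.1.1.ι ≫ (f.left ⁻¹ᵁ W.1).ι) ≫ X'.hom)
    φ := fun l => (Over.homMk (l.1.1.ι ≫ (f.left ⁻¹ᵁ W.1).ι) :
      Over.mk ((l.1.1.ι ≫ (f.left ⁻¹ᵁ W.1).ι) ≫ X'.hom) ⟶ X') ≫ f
    ψ := fun l => l.1.1.ι ≫ (f.left ∣_ W.1)
    aff := fun l => l.1.2
    mem := fun l => ⟨X', _, f, Presieve.singleton.mk, rfl⟩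
    fac := fun l => by
      simp [morphismRestrict_ι]
    hC := hC' }⟩

section Sheaf

variable [C.IsStableUnderBaseChange]

/-- Direction (⇒). -/
theorem isSheaf_zariski_and_singleton
    (hqc : ∀ {A B : Scheme.{u}} (f : A ⟶ B), C f → QuasiCompact f)
    (haff : ∀ (U : Scheme.{u}) [IsAffine U] (κ : Type u) [Finite κ] (V : κ → U.Opens),
      (∀ j, IsAffineOpen (V j)) → ⨆ j, V j = ⊤ → C (Limits.Sigma.desc fun j => (V j).ι))
    (hres : ∀ (W X' : Scheme.{u}) [IsAffine W] (f : X' ⟶ W), C f →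
      ∀ (κ : Type u) [Finite κ] (A : κ → X'.Opens), (∀ l, IsAffineOpen (A l)) → ⨆ l, A l = ⊤ →
        C (Limits.Sigma.desc fun l => (A l).ι ≫ f))
    (J : GrothendieckTopology (Over S))
    (hJ : ∀ (X : Over S) (R : Sieve X), R ∈ J X ↔ Cov C X R)
    (F : (Over S)ᵒᵖ ⥤ Type v) (hF : Presieve.IsSheaf J F) :
    Presieve.IsSheaf (Scheme.zariskiTopology.over S) F ∧
      ∀ (X X' : Over S) (f : X' ⟶ X), C f.left → Presieve.IsSheafFor F (Presieve.singleton f) := by
  constructor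
  · intro X T hT
    exact hF T ((hJ X T).mpr (cov_of_zariski haff hT))
  · intro X X' f hf
    rw [Presieve.isSheafFor_iff_generate]
    exact hF _ ((hJ X _).mpr (cov_singleton hqc hres f hf))

/-- Direction (⇐). -/
theorem isSheaf_of_zariski_and_singleton
    (J : GrothendieckTopology (Over S))
    (hJ : ∀ (X : Over S) (R : Sieve X), R ∈ J X ↔ Cov C X R)
    (F : (Over S)ᵒᵖ ⥤ Type v)
    (hZ : Presieve.IsSheaf (Scheme.zariskiTopology.over S) F)
    (hCs : ∀ (X X' : Over S) (f : X' ⟶ X), C f.left →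
      Presieve.IsSheafFor F (Presieve.singleton f)) :
    Presieve.IsSheaf J F := by
  -- the finest topology for which `F` is a sheaf
  have hle : ∀ {X : Over S} {T : Sieve X}, T ∈ (Scheme.zariskiTopology.over S) X →
      T ∈ Sheaf.finestTopologySingle F X := by
    intro X T hT Y f
    exact hZ _ ((Scheme.zariskiTopology.over S).pullback_stable f hT)
  have hsing : ∀ {X X' : Over S} (f : X' ⟶ X), C f.left →
      Sieve.generate (Presieve.singleton f) ∈ Sheaf.finestTopologySingle F X := by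
    intro X X' f hf Y h
    rw [← Sieve.pullbackArrows_comm, Presieve.pullback_singleton,
      ← Presieve.isSheafFor_iff_generate]
    apply hCs
    have hpb : IsPullback (pullback.fst f h).left (pullback.snd f h).left f.left h.left :=
      (IsPullback.of_hasPullback f h).map (Over.forget S)
    exact C.of_isPullback hpb hf
  intro X R hR
  rw [hJ] at hR
  suffices hmem : R ∈ Sheaf.finestTopologySingle F X by
    have := hmem X (𝟙 X)
    rwa [Sieve.pullback_id] at this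
  obtain ⟨ι, U, hU, hsup, hloc⟩ := hR
  -- the Zariski sieve of the `U i`
  have h0 : Sieve.ofArrows (fun i => Over.mk ((U i).ι ≫ X.hom))
      (fun i => (Over.homMk (U i).ι : Over.mk ((U i).ι ≫ X.hom) ⟶ X)) ∈
      Sheaf.finestTopologySingle F X := by
    apply hle
    rw [GrothendieckTopology.mem_over_iff, Sieve.overEquiv_ofArrows]
    exact (X.left.openCoverOfIsOpenCover U hsup).mem_grothendieckTopology
  refine (Sheaf.finestTopologySingle F).transitive h0 R ?_
  intro Y f hf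
  rw [Sieve.mem_ofArrows_iff] at hf
  obtain ⟨i, g, rfl⟩ := hf
  rw [Sieve.pullback_comp]
  apply (Sheaf.finestTopologySingle F).pullback_stable
  obtain ⟨D⟩ := hloc i
  -- the coproduct of the `V j` over `U i`
  let π : Over.mk ((Limits.Sigma.desc D.ψ ≫ (U i).ι) ≫ X.hom) ⟶ Over.mk ((U i).ι ≫ X.hom) :=
    Over.homMk (Limits.Sigma.desc D.ψ) (by simp)
  have hπ : Sieve.generate (Presieve.singleton π) ∈
      Sheaf.finestTopologySingle F (Over.mk ((U i).ι ≫ X.hom)) := hsing π D.hC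
  refine (Sheaf.finestTopologySingle F).transitive hπ _ ?_
  rintro Y' _ ⟨_, g', _, ⟨⟩, rfl⟩
  rw [Sieve.pullback_comp]
  apply (Sheaf.finestTopologySingle F).pullback_stable
  have hw : ∀ j, Limits.Sigma.ι (fun j => (D.V j).left) j ≫
      (Limits.Sigma.desc D.ψ ≫ (U i).ι) ≫ X.hom = (D.V j).hom := by
    intro j
    rw [← Over.w (D.φ j), ← D.fac j]
    simp
  have h1 : Sieve.ofArrows D.V (fun j => (Over.homMk (Limits.Sigma.ι (fun j => (D.V j).left) j)
      (hw j) : D.V j ⟶ Over.mk ((Limits.Sigma.desc D.ψ ≫ (U i).ι) ≫ X.hom))) ∈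
      Sheaf.finestTopologySingle F _ := by
    apply hle
    rw [GrothendieckTopology.mem_over_iff, Sieve.overEquiv_ofArrows]
    exact (sigmaOpenCover (fun j => (D.V j).left)).mem_grothendieckTopology
  refine (Sheaf.finestTopologySingle F).superset_covering ?_ h1
  rw [Sieve.ofArrows, Sieve.generate_le_iff]
  rintro _ _ ⟨j⟩
  show R.arrows _
  have : (Over.homMk (Limits.Sigma.ι (fun j => (D.V j).left) j) (hw j) :
      D.V j ⟶ Over.mk ((Limits.Sigma.desc D.ψ ≫ (U i).ι) ≫ X.hom)) ≫ π ≫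
      (Over.homMk (U i).ι : Over.mk ((U i).ι ≫ X.hom) ⟶ X) = D.φ j := by
    ext
    simp [π, D.fac j]
  rw [Category.assoc, this]
  exact D.mem j

end Sheaf

end Groth.Agent.Helper8.BigSiteGen
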