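import Mathlib

set_option autoImplicit false
universe u

namespace Groth.Agent.Helper8.BinForm
open MvPolynomial

variable {k : Type u} [Field k]

/-- a unit polynomial has no zeros -/
lemma eval_ne_zero_of_isUnit {σ : Type*} (H : MvPolynomial σ k) (hH : IsUnit H) (a : σ → k) :
    eval a H ≠ 0 := by
  obtain ⟨G, hG⟩ := hH.exists_right_inv
  intro h
  have := congrArg (eval a) hG
  rw [map_mul, h, zero_mul, map_one] at this
  exact zero_ne_one this

/-- If `H` divides a power of `X 0` and a power of `X 1`, it is a unit. -/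
lemma isUnit_of_dvd_pows (H : MvPolynomial (Fin 2) k) (N M : ℕ)
    (h0 : H ∣ (X 0 : MvPolynomial (Fin 2) k) ^ N) (h1 : H ∣ (X 1 : MvPolynomial (Fin 2) k) ^ M) :
    IsUnit H := by
  obtain ⟨j, -, hj⟩ := (dvd_prime_pow (X_prime (R := k) (i := (0 : Fin 2))) N).mp h0
  rcases Nat.eq_zero_or_pos j with rfl | hjpos
  · rw [pow_zero] at hj
    exact associated_one_iff_isUnit.mp hj
  · exfalso
    have hX0 : (X 0 : MvPolynomial (Fin 2) k) ∣ H := by
      have : (X 0 : MvPolynomial (Fin 2) k) ∣ X 0 ^ j := dvd_pow_self _ hjpos.ne'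
      exact this.trans hj.symm.dvd
    have hd : (X 0 : MvPolynomial (Fin 2) k) ∣ X 1 ^ M := hX0.trans h1
    have hd' : (X 0 : MvPolynomial (Fin 2) k) ∣ X 1 :=
      (X_prime (R := k) (i := (0 : Fin 2))).dvd_of_dvd_pow hd
    obtain ⟨g, hg⟩ := hd'
    have := congrArg (eval (![0, 1] : Fin 2 → k)) hg
    simp at this

section dvd
variable (a : Fin 2 → k)

/-- the linear form vanishing at `a` -/
noncomputable def ell : MvPolynomial (Fin 2) k := C (a 1) * X 0 - C (a 0) * X 1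

lemma eval_ell : eval a (ell a) = 0 := by
  simp [ell]; ring

lemma not_isUnit_ell : ¬ IsUnit (ell a) := fun h => eval_ne_zero_of_isUnit _ h a (eval_ell a)

/-- substitution `X i ↦ (a i / a j) X j` -/
noncomputable def sig (j : Fin 2) : MvPolynomial (Fin 2) k →ₐ[k] MvPolynomial (Fin 2) k :=
  aeval fun i => C (a i / a j) * X j

lemma ell_dvd_sub (i j : Fin 2) (hj : a j ≠ 0) :
    ell a ∣ X i - C (a i / a j) * X j := by
  have hC : ∀ x y : k, (C (x / y) : MvPolynomial (Fin 2) k) = C x * C y⁻¹ := fun x y => by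
    rw [← C_mul, div_eq_mul_inv]
  have hinv : (C (a j) : MvPolynomial (Fin 2) k) * C (a j)⁻¹ = 1 := by
    rw [← C_mul, mul_inv_cancel₀ hj, C_1]
  rw [hC]
  revert i j
  rw [Fin.forall_fin_two]
  refine ⟨?_, ?_⟩ <;> rw [Fin.forall_fin_two] <;> refine ⟨?_, ?_⟩ <;> intro hj hinv
  · exact ⟨0, by linear_combination (-(X 0 : MvPolynomial (Fin 2) k)) * hinv⟩
  · refine ⟨C (a 1)⁻¹, ?_⟩
    simp only [ell]
    linear_combination (-(X 0 : MvPolynomial (Fin 2) k)) * hinv
  · refine ⟨-C (a 0)⁻¹, ?_⟩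
    simp only [ell]
    linear_combination (-(X 1 : MvPolynomial (Fin 2) k)) * hinv
  · exact ⟨0, by linear_combination (-(X 1 : MvPolynomial (Fin 2) k)) * hinv⟩

lemma sub_sig_mem (j : Fin 2) (hj : a j ≠ 0) (G : MvPolynomial (Fin 2) k) :
    G - sig a j G ∈ Ideal.span {ell a} := by
  have hext : (Ideal.Quotient.mkₐ k (Ideal.span {ell a})) =
      (Ideal.Quotient.mkₐ k (Ideal.span {ell a})).comp (sig a j) := by
    apply MvPolynomial.algHom_ext
    intro i
    simp only [AlgHom.comp_apply, Ideal.Quotient.mkₐ_eq_mk, sig, aeval_X]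
    rw [Ideal.Quotient.eq, Ideal.mem_span_singleton]
    exact ell_dvd_sub a i j hj
  have := AlgHom.congr_fun hext G
  simp only [AlgHom.comp_apply, Ideal.Quotient.mkₐ_eq_mk] at this
  exact Ideal.Quotient.eq.mp this

lemma sig_homogeneous (j : Fin 2) (hj : a j ≠ 0) (F : MvPolynomial (Fin 2) k) (d : ℕ)
    (hF : F.IsHomogeneous d) : sig a j F = C (eval a F / a j ^ d) * X j ^ d := by
  conv_lhs => rw [F.as_sum]
  rw [map_sum]
  have hterm : ∀ m ∈ F.support, sig a j (monomial m (coeff m F)) =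
      C (coeff m F * (∏ i, a i ^ m i) / a j ^ d) * X j ^ d := by
    intro m hm
    have hdeg : m 0 + m 1 = d := by
      have : m.degree = d := by
        rw [Finsupp.degree_eq_weight_one]; exact hF (mem_support_iff.mp hm)
      rw [← this, Finsupp.degree_eq_sum, Fin.sum_univ_two]
    rw [sig, aeval_monomial, Finsupp.prod_fintype _ _ (fun i => by simp), Fin.prod_univ_two,
      Fin.prod_univ_two, algebraMap_eq]
    simp only [mul_pow, ← C_pow, div_pow]
    rw [← hdeg, pow_add, pow_add]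
    have hj0 : a j ^ m 0 ≠ 0 := pow_ne_zero _ hj
    have hj1 : a j ^ m 1 ≠ 0 := pow_ne_zero _ hj
    have : (C (coeff m F * (a 0 ^ m 0 * a 1 ^ m 1) / (a j ^ m 0 * a j ^ m 1)) :
        MvPolynomial (Fin 2) k) =
        C (coeff m F) * (C (a 0 ^ m 0 / a j ^ m 0) * C (a 1 ^ m 1 / a j ^ m 1)) := by
      rw [← C_mul, ← C_mul]; congr 1; field_simp
    rw [this]; ring
  rw [Finset.sum_congr rfl hterm, ← Finset.sum_mul, ← map_sum]
  congr 2
  rw [eval_eq', Finset.sum_div]

lemma ell_dvd (ha : a ≠ 0) (F : MvPolynomial (Fin 2) k) (d : ℕ) (hF : F.IsHomogeneous d)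
    (h0 : eval a F = 0) : ell a ∣ F := by
  obtain ⟨j, hj⟩ : ∃ j, a j ≠ 0 := by
    by_contra hcon
    push Not at hcon
    exact ha (funext hcon)
  have h1 := sub_sig_mem a j hj F
  rw [sig_homogeneous a j hj F d hF, h0, zero_div, C_0, zero_mul, sub_zero] at h1
  exact Ideal.mem_span_singleton.mp h1

end dvd

variable [IsAlgClosed k]

/-- If the common zero locus of an ideal is contained in `{0}`, both variables are nilpotent
modulo the ideal. -/
lemma exists_pow_mem (J : Ideal (MvPolynomial (Fin 2) k))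
    (hJ : ∀ a : Fin 2 → k, (∀ p ∈ J, eval a p = 0) → a = 0) (i : Fin 2) :
    ∃ N : ℕ, (X i : MvPolynomial (Fin 2) k) ^ N ∈ J := by
  have h1 : (X i : MvPolynomial (Fin 2) k) ∈ vanishingIdeal k (zeroLocus k J) := by
    rw [mem_vanishingIdeal_iff]
    intro x hx
    have : x = 0 := hJ x (fun p hp => by simpa using hx p hp)
    rw [this]; simp
  rw [vanishingIdeal_zeroLocus_eq_radical] at h1
  exact h1

lemma exists_zero_of_not_isUnit (H : MvPolynomial (Fin 2) k) (hH : ¬ IsUnit H) :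
    ∃ a : Fin 2 → k, a ≠ 0 ∧ eval a H = 0 := by
  by_contra hcon
  push Not at hcon
  have hJ : ∀ a : Fin 2 → k, (∀ p ∈ Ideal.span {H}, eval a p = 0) → a = 0 := by
    intro a ha
    by_contra hne
    exact hcon a hne (ha H (Ideal.subset_span rfl))
  obtain ⟨N, hN⟩ := exists_pow_mem _ hJ 0
  obtain ⟨M, hM⟩ := exists_pow_mem _ hJ 1
  exact hH (isUnit_of_dvd_pows H N M (Ideal.mem_span_singleton.mp hN)
    (Ideal.mem_span_singleton.mp hM))

theorem main77 {n : ℕ} (F : Fin n → MvPolynomial (Fin 2) k)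
    (d : Fin n → ℕ) (hF : ∀ i, (F i).IsHomogeneous (d i)) :
    (∃ H : MvPolynomial (Fin 2) k, ¬ IsUnit H ∧ ∀ i, H ∣ F i) ↔
      ∃ a : Fin 2 → k, a ≠ 0 ∧ ∀ i, MvPolynomial.eval a (F i) = 0 := by
  constructor
  · rintro ⟨H, hH, hdvd⟩
    obtain ⟨a, ha, h0⟩ := exists_zero_of_not_isUnit H hH
    refine ⟨a, ha, fun i => ?_⟩
    obtain ⟨G, hG⟩ := hdvd i
    rw [hG, map_mul, h0, zero_mul]
  · rintro ⟨a, ha, h0⟩
    exact ⟨ell a, not_isUnit_ell a, fun i => ell_dvd a ha (F i) (d i) (hF i) (h0 i)⟩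

end Groth.Agent.Helper8.BinForm
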