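import Mathlib
import Groth.Agent.Helper8.BinForm

set_option autoImplicit false
universe u

namespace Groth.Agent.Helper8.BinForm
open MvPolynomial

variable {k : Type u} [Field k]

lemma homogeneousComponent_mul_homogeneous {σ : Type*} (G F : MvPolynomial σ k) (d m : ℕ)
    (hF : F.IsHomogeneous d) (hdm : d ≤ m) :
    homogeneousComponent m (G * F) = homogeneousComponent (m - d) G * F := by
  conv_lhs => rw [← sum_homogeneousComponent G, Finset.sum_mul, map_sum]
  have hterm : ∀ j ∈ Finset.range (G.totalDegree + 1),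
      homogeneousComponent m (homogeneousComponent j G * F) =
        if j = m - d then homogeneousComponent (m - d) G * F else 0 := by
    intro j _
    have hmem : homogeneousComponent j G * F ∈ homogeneousSubmodule σ k (j + d) :=
      (homogeneousComponent_isHomogeneous j G).mul hF
    rw [homogeneousComponent_of_mem hmem]
    by_cases hj : j = m - d
    · subst hj
      rw [if_pos (by omega), if_pos rfl]
    · rw [if_neg (by omega), if_neg hj]
  rw [Finset.sum_congr rfl hterm, Finset.sum_ite_eq']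
  split_ifs with h
  · rfl
  · rw [homogeneousComponent_eq_zero, zero_mul]
    simp only [Finset.mem_range, not_lt] at h
    omega

lemma homogeneous_mem_of_pows (J : Ideal (MvPolynomial (Fin 2) k)) (N0 N1 m : ℕ)
    (h0 : (X 0 : MvPolynomial (Fin 2) k) ^ N0 ∈ J) (h1 : (X 1 : MvPolynomial (Fin 2) k) ^ N1 ∈ J)
    (hm : N0 + N1 ≤ m) (P : MvPolynomial (Fin 2) k) (hP : P.IsHomogeneous m) : P ∈ J := by
  rw [P.as_sum]
  refine Ideal.sum_mem _ fun μ hμ => ?_
  have hdeg : μ 0 + μ 1 = m := by
    have : μ.degree = m := by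
      rw [Finsupp.degree_eq_weight_one]; exact hP (mem_support_iff.mp hμ)
    rw [← this, Finsupp.degree_eq_sum, Fin.sum_univ_two]
  have hmon : monomial μ (coeff μ P) = C (coeff μ P) * (X 0 ^ μ 0 * X 1 ^ μ 1) := by
    rw [monomial_eq, Finsupp.prod_fintype _ _ (fun i => by simp), Fin.prod_univ_two]
  rw [hmon]
  by_cases h : N0 ≤ μ 0
  · have : (X 0 : MvPolynomial (Fin 2) k) ^ μ 0 = X 0 ^ N0 * X 0 ^ (μ 0 - N0) := by
      rw [← pow_add]; congr 1; omega
    rw [this]
    have hmem := Ideal.mul_mem_left J (C (coeff μ P) * X 0 ^ (μ 0 - N0) * X 1 ^ μ 1) h0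
    convert hmem using 1
    ring
  · have h' : N1 ≤ μ 1 := by omega
    have : (X 1 : MvPolynomial (Fin 2) k) ^ μ 1 = X 1 ^ N1 * X 1 ^ (μ 1 - N1) := by
      rw [← pow_add]; congr 1; omega
    rw [this]
    have hmem := Ideal.mul_mem_left J (C (coeff μ P) * X 0 ^ μ 0 * X 1 ^ (μ 1 - N1)) h1
    convert hmem using 1
    ring

variable [IsAlgClosed k]

theorem main78 {n : ℕ} (F : Fin n → MvPolynomial (Fin 2) k)
    (d : ℕ) (hF : ∀ i, (F i).IsHomogeneous d) :
    (¬ ∃ H : MvPolynomial (Fin 2) k, ¬ IsUnit H ∧ ∀ i, H ∣ F i) ↔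
      ∃ m : ℕ, d ≤ m ∧ ∀ P : MvPolynomial (Fin 2) k, P.IsHomogeneous m →
        ∃ G : Fin n → MvPolynomial (Fin 2) k, (∀ i, (G i).IsHomogeneous (m - d)) ∧
          P = ∑ i, F i * G i := by
  constructor
  · intro hno
    set J : Ideal (MvPolynomial (Fin 2) k) := Ideal.span (Set.range F) with hJdef
    have hJ : ∀ a : Fin 2 → k, (∀ p ∈ J, eval a p = 0) → a = 0 := by
      intro a ha
      by_contra hne
      exact hno ((main77 F (fun _ => d) hF).mpr
        ⟨a, hne, fun i => ha (F i) (Ideal.subset_span ⟨i, rfl⟩)⟩)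
    obtain ⟨N0, h0⟩ := exists_pow_mem J hJ 0
    obtain ⟨N1, h1⟩ := exists_pow_mem J hJ 1
    refine ⟨max d (N0 + N1), le_max_left _ _, fun P hP => ?_⟩
    set m := max d (N0 + N1) with hm
    have hPJ : P ∈ J := homogeneous_mem_of_pows J N0 N1 m h0 h1 (le_max_right _ _) P hP
    rw [hJdef, Ideal.mem_span_range_iff_exists_fun] at hPJ
    obtain ⟨c, hc⟩ := hPJ
    refine ⟨fun i => homogeneousComponent (m - d) (c i),
      fun i => homogeneousComponent_isHomogeneous _ _, ?_⟩
    have := congrArg (homogeneousComponent m) hc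
    rw [homogeneousComponent_eq_self hP, map_sum] at this
    rw [← this]
    refine Finset.sum_congr rfl fun i _ => ?_
    rw [homogeneousComponent_mul_homogeneous (c i) (F i) d m (hF i) (le_max_left _ _), mul_comm]
  · rintro ⟨m, -, hP⟩ ⟨H, hH, hdvd⟩
    have key : ∀ j : Fin 2, H ∣ (X j : MvPolynomial (Fin 2) k) ^ m := by
      intro j
      obtain ⟨G, -, hG⟩ := hP (X j ^ m) (by
        have := (isHomogeneous_X k j).pow m
        simpa using this)
      rw [hG]
      exact Finset.dvd_sum fun i _ => (hdvd i).mul_right _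
    exact hH (isUnit_of_dvd_pows H m m (key 0) (key 1))

end Groth.Agent.Helper8.BinForm
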