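import Mathlib
import Groth.Prelude.Def_W4c6intromoduliQuartic

namespace Groth.Agent.Helper8.BinQuart

open W4c6intromoduli

universe u
variable {k : Type u} [Field k]

section coefs
open Polynomial

theorem rootPoly_eq (la mu : Fin 4 → k) :
    rootPoly la mu =
      C (mu 0 * mu 1 * mu 2 * mu 3)
      + C (-(la 0 * mu 1 * mu 2 * mu 3 + mu 0 * la 1 * mu 2 * mu 3 + mu 0 * mu 1 * la 2 * mu 3 + mu 0 * mu 1 * mu 2 * la 3)) * X
      + C (la 0 * la 1 * mu 2 * mu 3 + la 0 * mu 1 * la 2 * mu 3 + la 0 * mu 1 * mu 2 * la 3 + mu 0 * la 1 * la 2 * mu 3 + mu 0 * la 1 * mu 2 * la 3 + mu 0 * mu 1 * la 2 * la 3) * X ^ 2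
      + C (-(la 0 * la 1 * la 2 * mu 3 + la 0 * la 1 * mu 2 * la 3 + la 0 * mu 1 * la 2 * la 3 + mu 0 * la 1 * la 2 * la 3)) * X ^ 3
      + C (la 0 * la 1 * la 2 * la 3) * X ^ 4 := by
  simp only [rootPoly, Fin.prod_univ_four, map_add, map_mul, map_neg]
  ring

theorem coeff_quartic (a0 a1 a2 a3 a4 : k) :
    (C a0 + C a1 * X + C a2 * X ^ 2 + C a3 * X ^ 3 + C a4 * X ^ 4 : k[X]).coeff 0 = a0 ∧
    (C a0 + C a1 * X + C a2 * X ^ 2 + C a3 * X ^ 3 + C a4 * X ^ 4 : k[X]).coeff 1 = a1 ∧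
    (C a0 + C a1 * X + C a2 * X ^ 2 + C a3 * X ^ 3 + C a4 * X ^ 4 : k[X]).coeff 2 = a2 ∧
    (C a0 + C a1 * X + C a2 * X ^ 2 + C a3 * X ^ 3 + C a4 * X ^ 4 : k[X]).coeff 3 = a3 ∧
    (C a0 + C a1 * X + C a2 * X ^ 2 + C a3 * X ^ 3 + C a4 * X ^ 4 : k[X]).coeff 4 = a4 := by
  refine ⟨?_, ?_, ?_, ?_, ?_⟩ <;> simp [coeff_X_pow, coeff_X, coeff_C]

theorem coef0 (la mu : Fin 4 → k) : coef la mu 0 = mu 0 * mu 1 * mu 2 * mu 3 := by
  rw [coef, rootPoly_eq]; exact (coeff_quartic _ _ _ _ _).1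
theorem coef1 (la mu : Fin 4 → k) : coef la mu 1 = -(la 0 * mu 1 * mu 2 * mu 3 + mu 0 * la 1 * mu 2 * mu 3 + mu 0 * mu 1 * la 2 * mu 3 + mu 0 * mu 1 * mu 2 * la 3) := by
  rw [coef, rootPoly_eq]; exact (coeff_quartic _ _ _ _ _).2.1
theorem coef2 (la mu : Fin 4 → k) : coef la mu 2 = la 0 * la 1 * mu 2 * mu 3 + la 0 * mu 1 * la 2 * mu 3 + la 0 * mu 1 * mu 2 * la 3 + mu 0 * la 1 * la 2 * mu 3 + mu 0 * la 1 * mu 2 * la 3 + mu 0 * mu 1 * la 2 * la 3 := by
  rw [coef, rootPoly_eq]; exact (coeff_quartic _ _ _ _ _).2.2.1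
theorem coef3 (la mu : Fin 4 → k) : coef la mu 3 = -(la 0 * la 1 * la 2 * mu 3 + la 0 * la 1 * mu 2 * la 3 + la 0 * mu 1 * la 2 * la 3 + mu 0 * la 1 * la 2 * la 3) := by
  rw [coef, rootPoly_eq]; exact (coeff_quartic _ _ _ _ _).2.2.2.1
theorem coef4 (la mu : Fin 4 → k) : coef la mu 4 = la 0 * la 1 * la 2 * la 3 := by
  rw [coef, rootPoly_eq]; exact (coeff_quartic _ _ _ _ _).2.2.2.2

end coefs

/-- bracket of two root points -/
def br (la mu : Fin 4 → k) (i j : Fin 4) : k := la i * mu j - la j * mu i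

def cA (la mu : Fin 4 → k) : k := br la mu 0 1 * br la mu 2 3
def cB (la mu : Fin 4 → k) : k := br la mu 0 2 * br la mu 3 1
def cC (la mu : Fin 4 → k) : k := br la mu 0 3 * br la mu 1 2

lemma plucker (la mu : Fin 4 → k) : cA la mu + cB la mu + cC la mu = 0 := by
  unfold cA cB cC br; ring

theorem two_invI (la mu : Fin 4 → k) :
    2 * invI (coef la mu) = cA la mu ^ 2 + cB la mu ^ 2 + cC la mu ^ 2 := by
  rw [invI, coef0, coef1, coef2, coef3, coef4]; unfold cA cB cC br; ring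

theorem invJ_eq (la mu : Fin 4 → k) :
    invJ (coef la mu) = (cA la mu - cB la mu) * (cB la mu - cC la mu) * (cC la mu - cA la mu) := by
  rw [invJ, coef0, coef1, coef2, coef3, coef4]; unfold cA cB cC br; ring

lemma invI_eq (h2 : (2 : k) ≠ 0) (la mu : Fin 4 → k) :
    invI (coef la mu) = cA la mu ^ 2 + cA la mu * cB la mu + cB la mu ^ 2 := by
  have h := two_invI la mu
  have hC : cC la mu = -cA la mu - cB la mu := by linear_combination plucker la mu
  rw [hC] at h
  apply mul_left_cancel₀ h2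
  rw [h]; ring

lemma invJ_eq' (la mu : Fin 4 → k) :
    invJ (coef la mu) = -((cA la mu - cB la mu) * (cA la mu + 2 * cB la mu) *
      (2 * cA la mu + cB la mu)) := by
  have hC : cC la mu = -cA la mu - cB la mu := by linear_combination plucker la mu
  rw [invJ_eq, hC]; ring

lemma br_ne_of_disc (la mu : Fin 4 → k) (hd : disc la mu ≠ 0) :
    ∀ i j, i ≠ j → br la mu i j ≠ 0 := by
  intro i j hij
  unfold disc at hd
  rw [Finset.prod_ne_zero_iff] at hd
  rcases lt_or_gt_of_ne hij with h | h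
  · have h1 := hd (i, j) (by simp [h])
    intro h0
    apply h1
    unfold br at h0
    have : la j * mu i - la i * mu j = 0 := by linear_combination -h0
    simp only
    rw [this]; ring
  · have h1 := hd (j, i) (by simp [h])
    intro h0
    apply h1
    unfold br at h0
    simp only
    rw [h0]; ring

lemma binForm_perm {R : Type u} [CommRing R] (la mu : Fin 4 → R) (π : Equiv.Perm (Fin 4)) :
    binForm (la ∘ π) (mu ∘ π) = binForm la mu := by
  unfold binForm
  exact Equiv.prod_comp π (fun i => MvPolynomial.C (mu i) * MvPolynomial.X 0 -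
    MvPolynomial.C (la i) * MvPolynomial.X 1)

lemma factor_id (A B a b : k) :
    (A ^ 2 + A * B + B ^ 2) ^ 3 * (a * b * (a + b)) ^ 2 -
      (a ^ 2 + a * b + b ^ 2) ^ 3 * (A * B * (A + B)) ^ 2 =
    -((a * B - b * A) * (a * A - b * B) * (a * (-A - B) - b * A) * (a * A - b * (-A - B)) *
      (a * (-A - B) - b * B) * (a * B - b * (-A - B))) := by
  ring

lemma disc_id (A B : k) :
    4 * (A ^ 2 + A * B + B ^ 2) ^ 3 - (-((A - B) * (A + 2 * B) * (2 * A + B))) ^ 2 =
      27 * (A * B * (A + B)) ^ 2 := by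
  ring


lemma subst_factor (M : Matrix (Fin 2) (Fin 2) k) (l m : k) :
    subst M (MvPolynomial.C m * MvPolynomial.X 0 - MvPolynomial.C l * MvPolynomial.X 1) =
      MvPolynomial.C (m * M 0 0 - l * M 1 0) * MvPolynomial.X 0 -
        MvPolynomial.C (l * M 1 1 - m * M 0 1) * MvPolynomial.X 1 := by
  unfold subst
  rw [map_sub (MvPolynomial.C (σ := Fin 2) (R := k)), map_sub (MvPolynomial.C (σ := Fin 2) (R := k)),
    map_mul (MvPolynomial.C (σ := Fin 2) (R := k)), map_mul (MvPolynomial.C (σ := Fin 2) (R := k)),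
    map_mul (MvPolynomial.C (σ := Fin 2) (R := k)), map_mul (MvPolynomial.C (σ := Fin 2) (R := k))]
  simp only [map_sub, map_mul, MvPolynomial.aeval_C, MvPolynomial.aeval_X, Fin.sum_univ_two,
    MvPolynomial.algebraMap_eq]
  ring

/-- if the root points are carried to multiples of the primed root points by the adjugate of `M`,
the forms are equivalent -/
lemma equiv_of_points (la mu la' mu' : Fin 4 → k) (N : Matrix (Fin 2) (Fin 2) k)
    (hN : N.det ≠ 0) (d : Fin 4 → k) (hd : ∀ i, d i ≠ 0)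
    (h1 : ∀ i, N 0 0 * la i + N 0 1 * mu i = d i * la' i)
    (h2 : ∀ i, N 1 0 * la i + N 1 1 * mu i = d i * mu' i) :
    ∃ (M : Matrix (Fin 2) (Fin 2) k) (c : k), IsUnit M.det ∧ c ≠ 0 ∧
      binForm la' mu' = MvPolynomial.C c * subst M (binForm la mu) := by
  refine ⟨!![N 1 1, -N 0 1; -N 1 0, N 0 0], (∏ i, d i)⁻¹, ?_, ?_, ?_⟩
  · rw [isUnit_iff_ne_zero, Matrix.det_fin_two_of]
    rw [Matrix.det_fin_two] at hN
    intro h; apply hN; linear_combination h
  · exact inv_ne_zero (Finset.prod_ne_zero_iff.mpr fun i _ => hd i)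
  · have hprod : subst !![N 1 1, -N 0 1; -N 1 0, N 0 0] (binForm la mu) =
        MvPolynomial.C (∏ i, d i) * binForm la' mu' := by
      unfold binForm
      rw [map_prod, map_prod, ← Finset.prod_mul_distrib]
      refine Finset.prod_congr rfl fun i _ => ?_
      rw [subst_factor]
      simp only [Matrix.of_apply, Matrix.cons_val', Matrix.cons_val_zero, Matrix.cons_val_one,
        Matrix.cons_val_fin_one]
      have e1 : mu i * N 1 1 - la i * -N 1 0 = d i * mu' i := by linear_combination h2 i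
      have e2 : la i * N 0 0 - mu i * -N 0 1 = d i * la' i := by linear_combination h1 i
      rw [e1, e2, MvPolynomial.C_mul, MvPolynomial.C_mul]
      ring
    rw [hprod, ← mul_assoc, ← MvPolynomial.C_mul, inv_mul_cancel₀
      (Finset.prod_ne_zero_iff.mpr fun i _ => hd i), MvPolynomial.C_1, one_mul]

lemma matched (la mu la' mu' : Fin 4 → k) (hbr : ∀ i j, i ≠ j → br la mu i j ≠ 0)
    (hbr' : ∀ i j, i ≠ j → br la' mu' i j ≠ 0)
    (hmatch : cB la mu * cC la' mu' = cC la mu * cB la' mu') :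
    ∃ (M : Matrix (Fin 2) (Fin 2) k) (c : k), IsUnit M.det ∧ c ≠ 0 ∧
      binForm la' mu' = MvPolynomial.C c * subst M (binForm la mu) := by
  set c0 : k := br la' mu' 2 1 * br la mu 0 2 with hc0
  set c1 : k := br la' mu' 0 2 * br la mu 2 1 with hc1
  have hc0ne : c0 ≠ 0 := mul_ne_zero (hbr' 2 1 (by decide)) (hbr 0 2 (by decide))
  have hc1ne : c1 ≠ 0 := mul_ne_zero (hbr' 0 2 (by decide)) (hbr 2 1 (by decide))
  have h31' : br la' mu' 3 1 ≠ 0 := hbr' 3 1 (by decide)
  refine equiv_of_points la mu la' mu'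
    !![c0 * la' 0 * mu 1 - c1 * la' 1 * mu 0, -(c0 * la' 0 * la 1) + c1 * la' 1 * la 0;
      c0 * mu' 0 * mu 1 - c1 * mu' 1 * mu 0, -(c0 * mu' 0 * la 1) + c1 * mu' 1 * la 0] ?_
    ![br la mu 0 1 * c0, br la mu 0 1 * c1, br la mu 2 1 * br la mu 0 2 * br la' mu' 0 1,
      br la mu 3 1 * br la' mu' 2 1 * br la mu 0 2 * br la' mu' 0 1 / br la' mu' 3 1] ?_ ?_ ?_
  · rw [Matrix.det_fin_two_of]
    have : (c0 * la' 0 * mu 1 - c1 * la' 1 * mu 0) * (-(c0 * mu' 0 * la 1) + c1 * mu' 1 * la 0) -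
        (-(c0 * la' 0 * la 1) + c1 * la' 1 * la 0) * (c0 * mu' 0 * mu 1 - c1 * mu' 1 * mu 0) =
        c0 * c1 * br la' mu' 0 1 * br la mu 0 1 := by
      unfold br; ring
    rw [this]
    exact mul_ne_zero (mul_ne_zero (mul_ne_zero hc0ne hc1ne) (hbr' 0 1 (by decide)))
      (hbr 0 1 (by decide))
  · intro i
    fin_cases i
    · exact mul_ne_zero (hbr 0 1 (by decide)) hc0ne
    · exact mul_ne_zero (hbr 0 1 (by decide)) hc1ne
    · exact mul_ne_zero (mul_ne_zero (hbr 2 1 (by decide)) (hbr 0 2 (by decide)))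
        (hbr' 0 1 (by decide))
    · exact div_ne_zero (mul_ne_zero (mul_ne_zero (mul_ne_zero (hbr 3 1 (by decide))
        (hbr' 2 1 (by decide))) (hbr 0 2 (by decide))) (hbr' 0 1 (by decide))) h31'
  · intro i
    fin_cases i
    · simp only [Matrix.of_apply, Matrix.cons_val', Matrix.cons_val_zero, Matrix.cons_val_one,
        Matrix.cons_val_fin_one, Fin.zero_eta]
      unfold br; ring
    · simp only [Matrix.of_apply, Matrix.cons_val', Matrix.cons_val_zero, Matrix.cons_val_one,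
        Matrix.cons_val_fin_one, Fin.mk_one]
      unfold br; ring
    · simp only [Matrix.of_apply, Matrix.cons_val', Matrix.cons_val_zero, Matrix.cons_val_one,
        Matrix.cons_val_fin_one, Fin.reduceFinMk, Matrix.cons_val_two, Matrix.tail_cons,
        Matrix.head_cons]
      rw [hc0, hc1]
      unfold br; ring
    · simp only [Matrix.of_apply, Matrix.cons_val', Matrix.cons_val_zero, Matrix.cons_val_one,
        Matrix.cons_val_fin_one, Fin.reduceFinMk, Matrix.cons_val_three, Matrix.tail_cons,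
        Matrix.head_cons]
      rw [div_mul_eq_mul_div, eq_div_iff h31', hc0, hc1]
      unfold cB cC at hmatch
      unfold br at hmatch ⊢
      linear_combination (la' 1) * hmatch
  · intro i
    fin_cases i
    · simp only [Matrix.of_apply, Matrix.cons_val', Matrix.cons_val_zero, Matrix.cons_val_one,
        Matrix.cons_val_fin_one, Fin.zero_eta]
      unfold br; ring
    · simp only [Matrix.of_apply, Matrix.cons_val', Matrix.cons_val_zero, Matrix.cons_val_one,
        Matrix.cons_val_fin_one, Fin.mk_one]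
      unfold br; ring
    · simp only [Matrix.of_apply, Matrix.cons_val', Matrix.cons_val_zero, Matrix.cons_val_one,
        Matrix.cons_val_fin_one, Fin.reduceFinMk, Matrix.cons_val_two, Matrix.tail_cons,
        Matrix.head_cons]
      rw [hc0, hc1]
      unfold br; ring
    · simp only [Matrix.of_apply, Matrix.cons_val', Matrix.cons_val_zero, Matrix.cons_val_one,
        Matrix.cons_val_fin_one, Fin.reduceFinMk, Matrix.cons_val_three, Matrix.tail_cons,
        Matrix.head_cons]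
      rw [div_mul_eq_mul_div, eq_div_iff h31', hc0, hc1]
      unfold cB cC at hmatch
      unfold br at hmatch ⊢
      linear_combination (mu' 1) * hmatch


lemma matched_perm (la mu la' mu' : Fin 4 → k) (hbr : ∀ i j, i ≠ j → br la mu i j ≠ 0)
    (hbr' : ∀ i j, i ≠ j → br la' mu' i j ≠ 0) (π : Equiv.Perm (Fin 4))
    (hmatch : br la mu (π 0) (π 2) * br la mu (π 3) (π 1) * cC la' mu' =
      br la mu (π 0) (π 3) * br la mu (π 1) (π 2) * cB la' mu') :
    ∃ (M : Matrix (Fin 2) (Fin 2) k) (c : k), IsUnit M.det ∧ c ≠ 0 ∧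
      binForm la' mu' = MvPolynomial.C c * subst M (binForm la mu) := by
  rw [← binForm_perm la mu π]
  refine matched (la ∘ π) (mu ∘ π) la' mu' ?_ hbr' hmatch
  intro i j hij
  exact hbr (π i) (π j) (fun h => hij (π.injective h))

theorem main (h2 : (2 : k) ≠ 0) (h3 : (3 : k) ≠ 0) (la mu la' mu' : Fin 4 → k)
    (hd : disc la mu ≠ 0) (hd' : disc la' mu' ≠ 0)
    (h : invI (coef la mu) ^ 3 * invJ (coef la' mu') ^ 2 =
        invI (coef la' mu') ^ 3 * invJ (coef la mu) ^ 2) :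
    ∃ (M : Matrix (Fin 2) (Fin 2) k) (c : k), IsUnit M.det ∧ c ≠ 0 ∧
      binForm la' mu' = MvPolynomial.C c * subst M (binForm la mu) := by
  have hbr := br_ne_of_disc la mu hd
  have hbr' := br_ne_of_disc la' mu' hd'
  have hF : (cA la mu ^ 2 + cA la mu * cB la mu + cB la mu ^ 2) ^ 3 *
        (cA la' mu' * cB la' mu' * (cA la' mu' + cB la' mu')) ^ 2 -
      (cA la' mu' ^ 2 + cA la' mu' * cB la' mu' + cB la' mu' ^ 2) ^ 3 *
        (cA la mu * cB la mu * (cA la mu + cB la mu)) ^ 2 = 0 := by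
    have h27 : (27 : k) ≠ 0 := by
      have : (27 : k) = 3 ^ 3 := by norm_num
      rw [this]; exact pow_ne_zero _ h3
    rw [invI_eq h2, invI_eq h2, invJ_eq', invJ_eq'] at h
    apply mul_left_cancel₀ h27
    have e1 := disc_id (cA la mu) (cB la mu)
    have e2 := disc_id (cA la' mu') (cB la' mu')
    linear_combination (cA la mu ^ 2 + cA la mu * cB la mu + cB la mu ^ 2) ^ 3 * (-e2) +
      (cA la' mu' ^ 2 + cA la' mu' * cB la' mu' + cB la' mu' ^ 2) ^ 3 * e1 - h
  rw [factor_id, neg_eq_zero] at hF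
  have hπ1 : (Equiv.swap (0 : Fin 4) 1) 0 = 1 ∧ (Equiv.swap (0 : Fin 4) 1) 1 = 0 ∧
      (Equiv.swap (0 : Fin 4) 1) 2 = 2 ∧ (Equiv.swap (0 : Fin 4) 1) 3 = 3 := by decide
  have hπ2 : (Equiv.swap (0 : Fin 4) 2) 0 = 2 ∧ (Equiv.swap (0 : Fin 4) 2) 1 = 1 ∧
      (Equiv.swap (0 : Fin 4) 2) 2 = 0 ∧ (Equiv.swap (0 : Fin 4) 2) 3 = 3 := by decide
  have hπ3 : (Equiv.swap (1 : Fin 4) 2) 0 = 0 ∧ (Equiv.swap (1 : Fin 4) 2) 1 = 2 ∧
      (Equiv.swap (1 : Fin 4) 2) 2 = 1 ∧ (Equiv.swap (1 : Fin 4) 2) 3 = 3 := by decide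
  have hπ4 : (Equiv.swap (0 : Fin 4) 1 * Equiv.swap 1 2 : Equiv.Perm (Fin 4)) 0 = 1 ∧
      (Equiv.swap (0 : Fin 4) 1 * Equiv.swap 1 2 : Equiv.Perm (Fin 4)) 1 = 2 ∧
      (Equiv.swap (0 : Fin 4) 1 * Equiv.swap 1 2 : Equiv.Perm (Fin 4)) 2 = 0 ∧
      (Equiv.swap (0 : Fin 4) 1 * Equiv.swap 1 2 : Equiv.Perm (Fin 4)) 3 = 3 := by decide
  have hπ5 : (Equiv.swap (1 : Fin 4) 2 * Equiv.swap 0 1 : Equiv.Perm (Fin 4)) 0 = 2 ∧
      (Equiv.swap (1 : Fin 4) 2 * Equiv.swap 0 1 : Equiv.Perm (Fin 4)) 1 = 0 ∧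
      (Equiv.swap (1 : Fin 4) 2 * Equiv.swap 0 1 : Equiv.Perm (Fin 4)) 2 = 1 ∧
      (Equiv.swap (1 : Fin 4) 2 * Equiv.swap 0 1 : Equiv.Perm (Fin 4)) 3 = 3 := by decide
  rcases mul_eq_zero.mp hF with hF | hf6
  rcases mul_eq_zero.mp hF with hF | hf5
  rcases mul_eq_zero.mp hF with hF | hf4
  rcases mul_eq_zero.mp hF with hF | hf3
  rcases mul_eq_zero.mp hF with hf1 | hf2
  · -- f1: (X,Y) = (A,B): identity
    refine matched_perm la mu la' mu' hbr hbr' (Equiv.refl _) ?_
    simp only [Equiv.refl_apply]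
    unfold cA cB cC br at *
    first | linear_combination hf1 | linear_combination -hf1
  · -- f2: (B,A): swap 1 2
    refine matched_perm la mu la' mu' hbr hbr' (Equiv.swap 1 2) ?_
    rw [hπ3.1, hπ3.2.1, hπ3.2.2.1, hπ3.2.2.2]
    unfold cA cB cC br at *
    first | linear_combination hf2 | linear_combination -hf2
  · -- f3: (A,C): swap 0 1
    refine matched_perm la mu la' mu' hbr hbr' (Equiv.swap 0 1) ?_
    rw [hπ1.1, hπ1.2.1, hπ1.2.2.1, hπ1.2.2.2]
    unfold cA cB cC br at *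
    first | linear_combination hf3 | linear_combination -hf3
  · -- f4: (C,A): 3-cycle
    refine matched_perm la mu la' mu' hbr hbr' (Equiv.swap (0 : Fin 4) 1 * Equiv.swap 1 2 : Equiv.Perm (Fin 4)) ?_
    rw [hπ4.1, hπ4.2.1, hπ4.2.2.1, hπ4.2.2.2]
    unfold cA cB cC br at *
    first | linear_combination hf4 | linear_combination -hf4
  · -- f5: (B,C)
    refine matched_perm la mu la' mu' hbr hbr' (Equiv.swap (1 : Fin 4) 2 * Equiv.swap 0 1 : Equiv.Perm (Fin 4)) ?_
    rw [hπ5.1, hπ5.2.1, hπ5.2.2.1, hπ5.2.2.2]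
    unfold cA cB cC br at *
    first | linear_combination hf5 | linear_combination -hf5
  · -- f6: (C,B): swap 0 2
    refine matched_perm la mu la' mu' hbr hbr' (Equiv.swap 0 2) ?_
    rw [hπ2.1, hπ2.2.1, hπ2.2.2.1, hπ2.2.2.2]
    unfold cA cB cC br at *
    first | linear_combination hf6 | linear_combination -hf6


lemma eval_subst (M : Matrix (Fin 2) (Fin 2) k) (g : MvPolynomial (Fin 2) k) (v : Fin 2 → k) :
    MvPolynomial.eval v (subst M g) = MvPolynomial.eval (fun i => ∑ j, M i j * v j) g := by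
  have : ((MvPolynomial.aeval v : MvPolynomial (Fin 2) k →ₐ[k] k).comp (subst M)) =
      MvPolynomial.aeval (fun i => ∑ j, M i j * v j) := by
    apply MvPolynomial.algHom_ext
    intro i
    simp [subst]
  have h := DFunLike.congr_fun this g
  simpa [MvPolynomial.aeval_eq_eval] using h

lemma excl (h2 : (2 : k) ≠ 0) (h3 : (3 : k) ≠ 0) (M M' : Matrix (Fin 2) (Fin 2) k) (c c' : k)
    (hM : IsUnit M.det) (hc : c ≠ 0) (hc' : c' ≠ 0)
    (h : MvPolynomial.C c * subst M (MvPolynomial.X 0 ^ 2 * MvPolynomial.X 1 *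
        (MvPolynomial.X 0 - MvPolynomial.X 1)) =
      MvPolynomial.C c' * subst M' (MvPolynomial.X 0 ^ 2 * MvPolynomial.X 1 ^ 2)) : False := by
  have hdet : M.det ≠ 0 := isUnit_iff_ne_zero.mp hM
  rw [Matrix.det_fin_two] at hdet
  set D := M 0 0 * M 1 1 - M 0 1 * M 1 0 with hD
  set p0 := M' 0 0 * M 1 1 - M' 0 1 * M 1 0 with hp0
  set r0 := -(M' 0 0 * M 0 1) + M' 0 1 * M 0 0 with hr0
  set p1 := M' 1 0 * M 1 1 - M' 1 1 * M 1 0 with hp1
  set r1 := -(M' 1 0 * M 0 1) + M' 1 1 * M 0 0 with hr1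
  have key : ∀ t : k, c * D ^ 4 * (t * (1 - t)) = c' * ((p0 + r0 * t) * (p1 + r1 * t)) ^ 2 := by
    intro t
    have := congrArg (MvPolynomial.eval ![M 1 1 - M 0 1 * t, -M 1 0 + M 0 0 * t]) h
    simp only [map_mul, MvPolynomial.eval_C, eval_subst, map_pow, map_sub, MvPolynomial.eval_X,
      Fin.sum_univ_two, Matrix.cons_val_zero, Matrix.cons_val_one] at this
    rw [hD, hp0, hr0, hp1, hr1]
    linear_combination this
  set κ := c * D ^ 4 with hκ
  have hκ0 : κ ≠ 0 := mul_ne_zero hc (pow_ne_zero _ hdet)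
  obtain ⟨β, hβ⟩ : ∃ β, β = p0 * p1 := ⟨_, rfl⟩
  obtain ⟨α, hα⟩ : ∃ α, α = p0 * r1 + r0 * p1 := ⟨_, rfl⟩
  obtain ⟨γ, hγ⟩ : ∃ γ, γ = r0 * r1 := ⟨_, rfl⟩
  have hq : ∀ t : k, (p0 + r0 * t) * (p1 + r1 * t) = β + α * t + γ * t ^ 2 := by
    intro t; rw [hβ, hα, hγ]; ring
  have e0 := key 0
  have e1 := key 1
  have e3 := key (-1)
  have e4 := key 3
  rw [hq] at e0 e1 e3 e4
  have hβ0 : β = 0 := by
    have : c' * β ^ 2 = 0 := by linear_combination -e0
    rcases mul_eq_zero.mp this with h | h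
    · exact absurd h hc'
    · exact pow_eq_zero_iff (by norm_num) |>.mp h
  have hαγ : α + γ = 0 := by
    have : c' * (β + α + γ) ^ 2 = 0 := by linear_combination -e1
    rcases mul_eq_zero.mp this with h | h
    · exact absurd h hc'
    · have := pow_eq_zero_iff (by norm_num) |>.mp h
      rw [hβ0] at this
      linear_combination this
  have hα' : α = -γ := by linear_combination hαγ
  rw [hβ0, hα'] at e3 e4
  have h12 : (12 : k) * κ = 0 := by linear_combination e4 - 9 * e3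
  have h12' : (12 : k) ≠ 0 := by
    have : (12 : k) = 2 * 2 * 3 := by norm_num
    rw [this]; exact mul_ne_zero (mul_ne_zero h2 h2) h3
  rcases mul_eq_zero.mp h12 with h | h
  · exact h12' h
  · exact hκ0 h

lemma prop_of_br (x y x' y' : k) (h0 : x ≠ 0 ∨ y ≠ 0) (h1 : x' ≠ 0 ∨ y' ≠ 0)
    (h : x * y' = x' * y) : ∃ t : k, t ≠ 0 ∧ x' = t * x ∧ y' = t * y := by
  rcases h0 with hx | hy
  · have hx' : x' ≠ 0 := by
      intro hx'
      rw [hx', zero_mul] at h
      rcases mul_eq_zero.mp h with h | h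
      · exact hx h
      · rcases h1 with h1 | h1
        · exact h1 hx'
        · exact h1 h
    refine ⟨x' / x, div_ne_zero hx' hx, by field_simp, ?_⟩
    field_simp
    linear_combination h
  · have hy' : y' ≠ 0 := by
      intro hy'
      rw [hy', mul_zero] at h
      rcases mul_eq_zero.mp h.symm with h | h
      · rcases h1 with h1 | h1
        · exact h1 h
        · exact h1 hy'
      · exact hy h
    refine ⟨y' / y, div_ne_zero hy' hy, ?_, by field_simp⟩
    field_simp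
    linear_combination -h


lemma form1_eq : binForm (![0, 0, -1, 1] : Fin 4 → k) ![1, 1, 0, 1] =
    MvPolynomial.X 0 ^ 2 * MvPolynomial.X 1 * (MvPolynomial.X 0 - MvPolynomial.X 1) := by
  unfold binForm
  rw [Fin.prod_univ_four]
  simp only [Matrix.cons_val_zero, Matrix.cons_val_one, Matrix.cons_val_two, Matrix.cons_val_three,
    Matrix.head_cons, Matrix.tail_cons, map_zero, map_one, map_neg]
  ring

lemma form2_eq : binForm (![0, 0, -1, -1] : Fin 4 → k) ![1, 1, 0, 0] =
    MvPolynomial.X 0 ^ 2 * MvPolynomial.X 1 ^ 2 := by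
  unfold binForm
  rw [Fin.prod_univ_four]
  simp only [Matrix.cons_val_zero, Matrix.cons_val_one, Matrix.cons_val_two, Matrix.cons_val_three,
    Matrix.head_cons, Matrix.tail_cons, map_zero, map_one, map_neg]
  ring

lemma core_exists (la mu : Fin 4 → k) (hne : ∀ i, la i ≠ 0 ∨ mu i ≠ 0)
    (h01 : la 0 * mu 1 = la 1 * mu 0)
    (h20 : br la mu 2 0 ≠ 0) (h30 : br la mu 3 0 ≠ 0) :
    (∃ (M : Matrix (Fin 2) (Fin 2) k) (c : k), IsUnit M.det ∧ c ≠ 0 ∧
        binForm la mu = MvPolynomial.C c * subst M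
          (MvPolynomial.X 0 ^ 2 * MvPolynomial.X 1 * (MvPolynomial.X 0 - MvPolynomial.X 1))) ∨
    (∃ (M : Matrix (Fin 2) (Fin 2) k) (c : k), IsUnit M.det ∧ c ≠ 0 ∧
        binForm la mu = MvPolynomial.C c * subst M
          (MvPolynomial.X 0 ^ 2 * MvPolynomial.X 1 ^ 2)) := by
  obtain ⟨t, ht, hl1, hm1⟩ := prop_of_br (la 0) (mu 0) (la 1) (mu 1) (hne 0) (hne 1) h01
  by_cases h23 : br la mu 2 3 = 0
  · right
    have h23' : la 2 * mu 3 = la 3 * mu 2 := by unfold br at h23; linear_combination h23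
    obtain ⟨s, hs, hl3, hm3⟩ := prop_of_br (la 2) (mu 2) (la 3) (mu 3) (hne 2) (hne 3) h23'
    rw [← form2_eq]
    refine equiv_of_points _ _ la mu !![-la 2, la 0; -mu 2, mu 0] ?_ ![1, t⁻¹, 1, s⁻¹] ?_ ?_ ?_
    · rw [Matrix.det_fin_two_of]
      intro h; apply h20; unfold br; linear_combination -h
    · intro i
      fin_cases i
      · exact one_ne_zero
      · exact inv_ne_zero ht
      · exact one_ne_zero
      · exact inv_ne_zero hs
    · intro i
      fin_cases i
      · simp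
      · simp [hl1, ht]
      · simp
      · simp [hl3, hs]
    · intro i
      fin_cases i
      · simp
      · simp [hm1, ht]
      · simp
      · simp [hm3, hs]
  · left
    rw [← form1_eq]
    refine equiv_of_points _ _ la mu
      !![br la mu 3 0 * la 2, br la mu 2 3 * la 0; br la mu 3 0 * mu 2, br la mu 2 3 * mu 0] ?_
      ![br la mu 2 3, br la mu 2 3 / t, -br la mu 3 0, br la mu 2 0] ?_ ?_ ?_
    · rw [Matrix.det_fin_two_of]
      have : br la mu 3 0 * la 2 * (br la mu 2 3 * mu 0) - br la mu 2 3 * la 0 * (br la mu 3 0 * mu 2) =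
          br la mu 3 0 * br la mu 2 3 * br la mu 2 0 := by unfold br; ring
      rw [this]
      exact mul_ne_zero (mul_ne_zero h30 h23) h20
    · intro i
      fin_cases i
      · exact h23
      · exact div_ne_zero h23 ht
      · exact neg_ne_zero.mpr h30
      · exact h20
    · intro i
      fin_cases i
      · simp
      · simp only [Matrix.of_apply, Matrix.cons_val', Matrix.cons_val_zero, Matrix.cons_val_one,
          Matrix.cons_val_fin_one, Fin.mk_one]
        rw [hl1]; field_simp; ring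
      · simp
      · simp only [Matrix.of_apply, Matrix.cons_val', Matrix.cons_val_zero, Matrix.cons_val_one,
          Matrix.cons_val_fin_one, Fin.reduceFinMk, Matrix.cons_val_three, Matrix.tail_cons,
          Matrix.head_cons]
        unfold br; ring
    · intro i
      fin_cases i
      · simp
      · simp only [Matrix.of_apply, Matrix.cons_val', Matrix.cons_val_zero, Matrix.cons_val_one,
          Matrix.cons_val_fin_one, Fin.mk_one]
        rw [hm1]; field_simp; ring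
      · simp
      · simp only [Matrix.of_apply, Matrix.cons_val', Matrix.cons_val_zero, Matrix.cons_val_one,
          Matrix.cons_val_fin_one, Fin.reduceFinMk, Matrix.cons_val_three, Matrix.tail_cons,
          Matrix.head_cons]
        unfold br; ring

lemma exists_perm (i j : Fin 4) (hij : i ≠ j) : ∃ π : Equiv.Perm (Fin 4), π 0 = i ∧ π 1 = j := by
  revert i j
  decide

theorem main20025 (h2 : (2 : k) ≠ 0) (h3 : (3 : k) ≠ 0) (la mu : Fin 4 → k)
    (hne : ∀ i, la i ≠ 0 ∨ mu i ≠ 0) (hd : disc la mu = 0)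
    (h3z : ∀ i j l : Fin 4, i ≠ j → j ≠ l → i ≠ l →
      ¬ (la i * mu j = la j * mu i ∧ la j * mu l = la l * mu j)) :
    Xor
      (∃ (M : Matrix (Fin 2) (Fin 2) k) (c : k), IsUnit M.det ∧ c ≠ 0 ∧
        binForm la mu = MvPolynomial.C c * subst M
          (MvPolynomial.X 0 ^ 2 * MvPolynomial.X 1 * (MvPolynomial.X 0 - MvPolynomial.X 1)))
      (∃ (M : Matrix (Fin 2) (Fin 2) k) (c : k), IsUnit M.det ∧ c ≠ 0 ∧
        binForm la mu = MvPolynomial.C c * subst M
          (MvPolynomial.X 0 ^ 2 * MvPolynomial.X 1 ^ 2)) := by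
  have hexcl : ¬ ((∃ (M : Matrix (Fin 2) (Fin 2) k) (c : k), IsUnit M.det ∧ c ≠ 0 ∧
        binForm la mu = MvPolynomial.C c * subst M
          (MvPolynomial.X 0 ^ 2 * MvPolynomial.X 1 * (MvPolynomial.X 0 - MvPolynomial.X 1))) ∧
      (∃ (M : Matrix (Fin 2) (Fin 2) k) (c : k), IsUnit M.det ∧ c ≠ 0 ∧
        binForm la mu = MvPolynomial.C c * subst M
          (MvPolynomial.X 0 ^ 2 * MvPolynomial.X 1 ^ 2))) := by
    rintro ⟨⟨M, c, hM, hc, e⟩, ⟨M', c', -, hc', e'⟩⟩
    exact excl h2 h3 M M' c c' hM hc hc' (e.symm.trans e')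
  have hex : (∃ (M : Matrix (Fin 2) (Fin 2) k) (c : k), IsUnit M.det ∧ c ≠ 0 ∧
        binForm la mu = MvPolynomial.C c * subst M
          (MvPolynomial.X 0 ^ 2 * MvPolynomial.X 1 * (MvPolynomial.X 0 - MvPolynomial.X 1))) ∨
      (∃ (M : Matrix (Fin 2) (Fin 2) k) (c : k), IsUnit M.det ∧ c ≠ 0 ∧
        binForm la mu = MvPolynomial.C c * subst M
          (MvPolynomial.X 0 ^ 2 * MvPolynomial.X 1 ^ 2)) := by
    unfold disc at hd
    rw [Finset.prod_eq_zero_iff] at hd
    obtain ⟨⟨i, j⟩, hp, hz⟩ := hd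
    simp only [Finset.mem_filter, Finset.mem_univ, true_and] at hp
    have hz' : la i * mu j = la j * mu i := by
      have := pow_eq_zero_iff (by norm_num : (2 : ℕ) ≠ 0) |>.mp hz
      simp only at this
      linear_combination -this
    obtain ⟨π, hπ0, hπ1⟩ := exists_perm i j (ne_of_lt hp)
    have hinj : ∀ a b : Fin 4, a ≠ b → π a ≠ π b := fun a b hab h => hab (π.injective h)
    have key := core_exists (la ∘ π) (mu ∘ π) (fun a => hne (π a))
      (by simp only [Function.comp_apply, hπ0, hπ1]; exact hz') ?_ ?_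
    · rw [binForm_perm] at key
      exact key
    · have := h3z (π 2) i j (by rw [← hπ0]; exact hinj 2 0 (by decide))
        (ne_of_lt hp) (by rw [← hπ1]; exact hinj 2 1 (by decide))
      intro hb
      apply this
      refine ⟨?_, hz'⟩
      unfold br at hb
      simp only [Function.comp_apply, hπ0] at hb
      linear_combination hb
    · have := h3z (π 3) i j (by rw [← hπ0]; exact hinj 3 0 (by decide))
        (ne_of_lt hp) (by rw [← hπ1]; exact hinj 3 1 (by decide))
      intro hb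
      apply this
      refine ⟨?_, hz'⟩
      unfold br at hb
      simp only [Function.comp_apply, hπ0] at hb
      linear_combination hb
  rcases hex with ha | hb
  · exact Or.inl ⟨ha, fun hb => hexcl ⟨ha, hb⟩⟩
  · exact Or.inr ⟨hb, fun ha => hexcl ⟨ha, hb⟩⟩

end Groth.Agent.Helper8.BinQuart
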