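import Mathlib

namespace Groth.Agent.Helper8.Birk

open Polynomial LaurentPolynomial Matrix

variable {k : Type*} [Field k] {n : Type*} [Fintype n] [DecidableEq n]

/-- the ring hom `k[X] → k[T;T⁻¹]`, `X ↦ T⁻¹`. -/
noncomputable def φm : k[X] →+* k[T;T⁻¹] :=
  ((LaurentPolynomial.invert (R := k) : k[T;T⁻¹] ≃ₐ[k] k[T;T⁻¹]) : k[T;T⁻¹] →+* k[T;T⁻¹]).comp
    (Polynomial.toLaurent)

lemma φm_apply (p : k[X]) : φm p = LaurentPolynomial.invert (Polynomial.toLaurent p) := rfl

lemma φm_C (c : k) : φm (Polynomial.C c) = LaurentPolynomial.C c := by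
  rw [φm_apply, Polynomial.toLaurent_C, LaurentPolynomial.invert_C]

lemma φm_X_pow (s : ℕ) : φm (Polynomial.X ^ s : k[X]) = T (-(s : ℤ)) := by
  rw [φm_apply, Polynomial.toLaurent_X_pow, LaurentPolynomial.invert_T]

/-- Birkhoff-factorizable (without ordering). -/
def BF (A : Matrix n n k[T;T⁻¹]) : Prop :=
  ∃ (P Q : Matrix n n k[X]) (d : n → ℤ), IsUnit P ∧ IsUnit Q ∧
    A = P.map Polynomial.toLaurent * Matrix.diagonal (fun i => (T (d i) : k[T;T⁻¹])) * Q.map φm

lemma map_mul_toLaurent (P Q : Matrix n n k[X]) :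
    (P * Q).map Polynomial.toLaurent = P.map Polynomial.toLaurent * Q.map Polynomial.toLaurent :=
  Matrix.map_mul

lemma map_mul_φm (P Q : Matrix n n k[X]) :
    (P * Q).map φm = P.map (φm (k := k)) * Q.map φm :=
  Matrix.map_mul

lemma BF_mul_left (P0 : Matrix n n k[X]) (hP0 : IsUnit P0) {A : Matrix n n k[T;T⁻¹]}
    (hA : BF A) : BF (P0.map Polynomial.toLaurent * A) := by
  obtain ⟨P, Q, d, hP, hQ, rfl⟩ := hA
  refine ⟨P0 * P, Q, d, hP0.mul hP, hQ, ?_⟩
  rw [map_mul_toLaurent]
  simp only [Matrix.mul_assoc]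

lemma BF_mul_right (Q0 : Matrix n n k[X]) (hQ0 : IsUnit Q0) {A : Matrix n n k[T;T⁻¹]}
    (hA : BF A) : BF (A * Q0.map φm) := by
  obtain ⟨P, Q, d, hP, hQ, rfl⟩ := hA
  refine ⟨P, Q * Q0, d, hP, hQ.mul hQ0, ?_⟩
  rw [map_mul_φm]
  simp only [Matrix.mul_assoc]

lemma BF_smul_T (m : ℤ) {A : Matrix n n k[T;T⁻¹]} (hA : BF A) :
    BF ((T m : k[T;T⁻¹]) • A) := by
  obtain ⟨P, Q, d, hP, hQ, rfl⟩ := hA
  refine ⟨P, Q, fun i => m + d i, hP, hQ, ?_⟩
  have : Matrix.diagonal (fun i => (T (m + d i) : k[T;T⁻¹])) =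
      (T m : k[T;T⁻¹]) • Matrix.diagonal (fun i => (T (d i) : k[T;T⁻¹])) := by
    ext i j
    by_cases h : i = j
    · subst h
      rw [Matrix.smul_apply, Matrix.diagonal_apply_eq, Matrix.diagonal_apply_eq, smul_eq_mul,
        LaurentPolynomial.T_add]
    · rw [Matrix.smul_apply, Matrix.diagonal_apply_ne _ h, Matrix.diagonal_apply_ne _ h, smul_zero]
  rw [this]
  simp only [Matrix.smul_mul, Matrix.mul_smul]

lemma det_updateCol_one (l : n) (c : n → k[X]) :
    ((1 : Matrix n n k[X]).updateCol l c).det = c l := by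
  have h := Matrix.det_updateCol_sum (1 : Matrix n n k[X]) l c
  have h2 : (fun k' => ∑ i, c i • (1 : Matrix n n k[X]) k' i) = c := by
    funext k'
    simp [Matrix.one_apply]
  rw [h2, Matrix.det_one, smul_eq_mul, mul_one] at h
  exact h

lemma det_diag_single (l : n) (a : k[X]) :
    (Matrix.diagonal (fun j => if j = l then a else (1 : k[X]))).det = a := by
  rw [Matrix.det_diagonal, Finset.prod_ite_eq' Finset.univ l (fun _ => a)]
  simp

lemma key (P : Matrix n n k[X]) (hP : IsUnit P) (d : n → ℤ) (i0 : n) :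
    BF (Matrix.diagonal (fun i => if i = i0 then (T 1 : k[T;T⁻¹]) else 1) *
      P.map Polynomial.toLaurent * Matrix.diagonal (fun i => (T (d i) : k[T;T⁻¹]))) := by
  classical
  -- the constant-term matrix
  obtain ⟨M, hMdef⟩ : ∃ M : Matrix n n k, M = P.map Polynomial.constantCoeff := ⟨_, rfl⟩
  have hM : IsUnit M := by
    rw [hMdef]
    exact hP.map (Polynomial.constantCoeff.mapMatrix (m := n))
  have hMdet : IsUnit M.det := (Matrix.isUnit_iff_isUnit_det M).1 hM
  obtain ⟨x, hxdef⟩ : ∃ x : n → k, x = M⁻¹ *ᵥ Pi.single i0 1 := ⟨_, rfl⟩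
  have hx : M *ᵥ x = Pi.single i0 1 := by
    rw [hxdef, Matrix.mulVec_mulVec, Matrix.mul_nonsing_inv M hMdet, Matrix.one_mulVec]
  have hx0 : x ≠ 0 := by
    intro h
    rw [h, Matrix.mulVec_zero] at hx
    have := congrFun hx i0
    simp at this
  have hS : (Finset.univ.filter (fun j => x j ≠ 0)).Nonempty := by
    by_contra hne
    rw [Finset.not_nonempty_iff_eq_empty, Finset.filter_eq_empty_iff] at hne
    apply hx0
    funext j
    have := hne (Finset.mem_univ j)
    simpa using this
  obtain ⟨l, hlS, hlmin⟩ := Finset.exists_min_image _ d hS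
  have hxl : x l ≠ 0 := (Finset.mem_filter.1 hlS).2
  have hlmin' : ∀ j, x j ≠ 0 → d l ≤ d j := fun j hj =>
    hlmin j (Finset.mem_filter.2 ⟨Finset.mem_univ j, hj⟩)
  -- the constant column-operation matrix
  obtain ⟨Wc, hWc⟩ : ∃ Wc : Matrix n n k[X],
      Wc = (1 : Matrix n n k[X]).updateCol l (fun j => Polynomial.C (x j)) := ⟨_, rfl⟩
  have hWcdet : Wc.det = Polynomial.C (x l) := by rw [hWc, det_updateCol_one]
  have hWcU : IsUnit Wc := by
    rw [Matrix.isUnit_iff_isUnit_det, hWcdet]
    exact (Polynomial.isUnit_C).2 (isUnit_iff_ne_zero.2 hxl)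
  obtain ⟨P₁, hP₁⟩ : ∃ P₁ : Matrix n n k[X], P₁ = P * Wc := ⟨_, rfl⟩
  have hP₁U : IsUnit P₁ := by rw [hP₁]; exact hP.mul hWcU
  have hcol : ∀ i, (P₁ i l).coeff 0 = if i = i0 then 1 else 0 := by
    intro i
    have h1 : P₁ i l = ∑ j, P i j * Polynomial.C (x j) := by
      rw [hP₁, Matrix.mul_apply]
      refine Finset.sum_congr rfl (fun j _ => ?_)
      rw [hWc, Matrix.updateCol_self]
    rw [h1, Polynomial.finsetSum_coeff]
    have h2 := congrFun hx i
    rw [Matrix.mulVec, dotProduct] at h2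
    have h3 : ∀ j, (P i j * Polynomial.C (x j)).coeff 0 = M i j * x j := by
      intro j
      rw [Polynomial.coeff_mul_C, hMdef]
      rfl
    simp only [h3]
    rw [h2, Pi.single_apply]
  -- the conjugated matrix
  obtain ⟨P', hP'⟩ : ∃ P' : Matrix n n k[X], P' = Matrix.of (fun i j =>
      if j = l then (if i = i0 then P₁ i l else Polynomial.divX (P₁ i l))
      else (if i = i0 then Polynomial.X else 1) * P₁ i j) := ⟨_, rfl⟩
  have hconj : P' * Matrix.diagonal (fun j => if j = l then (Polynomial.X : k[X]) else 1) =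
      Matrix.diagonal (fun i => if i = i0 then (Polynomial.X : k[X]) else 1) * P₁ := by
    ext i j
    rw [Matrix.mul_diagonal, Matrix.diagonal_mul, hP', Matrix.of_apply]
    by_cases hj : j = l
    · subst hj
      simp only [if_true]
      by_cases hi : i = i0
      · simp only [hi, if_true]; ring_nf
      · simp only [hi, if_false]
        have h1 := Polynomial.divX_mul_X_add (P₁ i j)
        rw [hcol i, if_neg hi, Polynomial.C_0, add_zero] at h1
        rw [h1, one_mul]
    · simp only [hj, if_false, mul_one]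
  have hP'U : IsUnit P' := by
    rw [Matrix.isUnit_iff_isUnit_det]
    have h1 := congrArg Matrix.det hconj
    rw [Matrix.det_mul, Matrix.det_mul, det_diag_single, det_diag_single, mul_comm] at h1
    have h2 : P'.det = P₁.det := mul_left_cancel₀ Polynomial.X_ne_zero h1
    rw [h2]
    exact (Matrix.isUnit_iff_isUnit_det _).1 hP₁U
  -- the `k[T⁻¹]`-side matrix
  obtain ⟨QY, hQY⟩ : ∃ QY : Matrix n n k[X], QY = (1 : Matrix n n k[X]).updateCol l
      (fun j => Polynomial.C (x j) * Polynomial.X ^ (d j - d l).toNat) := ⟨_, rfl⟩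
  have hQYU : IsUnit QY := by
    rw [Matrix.isUnit_iff_isUnit_det, hQY, det_updateCol_one, sub_self, Int.toNat_zero, pow_zero,
      mul_one]
    exact (Polynomial.isUnit_C).2 (isUnit_iff_ne_zero.2 hxl)
  have hcomm : Wc.map Polynomial.toLaurent * Matrix.diagonal (fun i => (T (d i) : k[T;T⁻¹])) =
      Matrix.diagonal (fun i => (T (d i) : k[T;T⁻¹])) * QY.map φm := by
    ext j j'
    rw [Matrix.mul_diagonal, Matrix.diagonal_mul, Matrix.map_apply, Matrix.map_apply, hWc, hQY,
      Matrix.updateCol_apply, Matrix.updateCol_apply]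
    by_cases hj' : j' = l
    · subst hj'
      simp only [if_true]
      rw [map_mul, φm_C, φm_X_pow, Polynomial.toLaurent_C]
      by_cases hxj : x j = 0
      · rw [hxj, map_zero, zero_mul, zero_mul, mul_zero]
      · have h1 : ((d j - d j').toNat : ℤ) = d j - d j' := Int.toNat_of_nonneg (by
          have := hlmin' j hxj; omega)
        rw [h1, mul_comm (T (d j)), mul_assoc, ← LaurentPolynomial.T_add]
        congr 2
        ring_nf
    · simp only [hj', if_false, Matrix.one_apply]
      by_cases hjj : j = j'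
      · subst hjj
        simp only [if_true, map_one, one_mul, mul_one]
      · simp only [hjj, if_false, map_zero, zero_mul, mul_zero]
  -- assemble
  have hconjL : P'.map Polynomial.toLaurent *
      Matrix.diagonal (fun j => if j = l then (T 1 : k[T;T⁻¹]) else 1) =
      Matrix.diagonal (fun i => if i = i0 then (T 1 : k[T;T⁻¹]) else 1) *
        P₁.map Polynomial.toLaurent := by
    have h1 := congrArg (fun A : Matrix n n k[X] => A.map Polynomial.toLaurent) hconj
    simp only [map_mul_toLaurent] at h1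
    have h2 : ∀ a : n, (Matrix.diagonal (fun j => if j = a then (Polynomial.X : k[X]) else 1)).map
        Polynomial.toLaurent = Matrix.diagonal (fun j => if j = a then (T 1 : k[T;T⁻¹]) else 1) := by
      intro a
      rw [Matrix.diagonal_map (map_zero _)]
      congr 1
      funext j
      split_ifs
      · exact Polynomial.toLaurent_X
      · exact map_one _
    rw [h2, h2] at h1
    exact h1
  obtain ⟨QYi, hQYi⟩ := hQYU.exists_right_inv
  have hQYiU : IsUnit QYi := by
    rw [Matrix.isUnit_iff_isUnit_det]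
    have := congrArg Matrix.det hQYi
    rw [Matrix.det_mul, Matrix.det_one] at this
    exact IsUnit.of_mul_eq_one _ (by rw [mul_comm]; exact this)
  refine ⟨P', QYi, fun j => (if j = l then 1 else 0) + d j, hP'U, hQYiU, ?_⟩
  have hE : Matrix.diagonal (fun j => (T ((if j = l then 1 else 0) + d j) : k[T;T⁻¹])) =
      Matrix.diagonal (fun j => if j = l then (T 1 : k[T;T⁻¹]) else 1) *
        Matrix.diagonal (fun i => (T (d i) : k[T;T⁻¹])) := by
    rw [Matrix.diagonal_mul_diagonal]
    congr 1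
    funext j
    split_ifs
    · rw [LaurentPolynomial.T_add]
    · rw [zero_add, one_mul]
  have hYinv : QY.map φm * QYi.map φm = (1 : Matrix n n k[T;T⁻¹]) := by
    rw [← map_mul_φm, hQYi, Matrix.map_one _ (map_zero _) (map_one _)]
  calc Matrix.diagonal (fun i => if i = i0 then (T 1 : k[T;T⁻¹]) else 1) *
        P.map Polynomial.toLaurent * Matrix.diagonal (fun i => (T (d i) : k[T;T⁻¹]))
      = Matrix.diagonal (fun i => if i = i0 then (T 1 : k[T;T⁻¹]) else 1) *
        P.map Polynomial.toLaurent * Matrix.diagonal (fun i => (T (d i) : k[T;T⁻¹])) *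
          (QY.map φm * QYi.map φm) := by rw [hYinv, Matrix.mul_one]
    _ = Matrix.diagonal (fun i => if i = i0 then (T 1 : k[T;T⁻¹]) else 1) *
        P.map Polynomial.toLaurent * (Matrix.diagonal (fun i => (T (d i) : k[T;T⁻¹])) *
          QY.map φm) * QYi.map φm := by simp only [Matrix.mul_assoc]
    _ = Matrix.diagonal (fun i => if i = i0 then (T 1 : k[T;T⁻¹]) else 1) *
        P.map Polynomial.toLaurent * (Wc.map Polynomial.toLaurent *
          Matrix.diagonal (fun i => (T (d i) : k[T;T⁻¹]))) * QYi.map φm := by rw [hcomm]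
    _ = (Matrix.diagonal (fun i => if i = i0 then (T 1 : k[T;T⁻¹]) else 1) *
        P₁.map Polynomial.toLaurent) *
          Matrix.diagonal (fun i => (T (d i) : k[T;T⁻¹])) * QYi.map φm := by
        rw [hP₁, map_mul_toLaurent]; simp only [Matrix.mul_assoc]
    _ = P'.map Polynomial.toLaurent *
        Matrix.diagonal (fun j => (T ((if j = l then 1 else 0) + d j) : k[T;T⁻¹])) *
          QYi.map φm := by
        rw [← hconjL, hE]; simp only [Matrix.mul_assoc]

lemma det_updateRow_one (i0 : n) (c : n → k[X]) :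
    ((1 : Matrix n n k[X]).updateRow i0 c).det = c i0 := by
  have h := Matrix.det_updateRow_sum (1 : Matrix n n k[X]) i0 c
  have h2 : (∑ i, c i • (1 : Matrix n n k[X]) i) = c := by
    funext k'
    simp [Matrix.one_apply]
  rw [h2, Matrix.det_one, smul_eq_mul, mul_one] at h
  exact h

lemma BF_E_mul (i0 : n) {A : Matrix n n k[T;T⁻¹]} (hA : BF A) :
    BF (Matrix.diagonal (fun i => if i = i0 then (T 1 : k[T;T⁻¹]) else 1) * A) := by
  obtain ⟨P, Q, d, hP, hQ, rfl⟩ := hA
  have := BF_mul_right Q hQ (key P hP d i0)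
  simpa only [Matrix.mul_assoc] using this

lemma BF_of_det (m : ℕ) : ∀ B : Matrix n n k[X], Associated B.det (Polynomial.X ^ m) →
    BF (B.map Polynomial.toLaurent) := by
  classical
  induction m with
  | zero =>
    intro B hB
    rw [pow_zero] at hB
    have hBU : IsUnit B := (Matrix.isUnit_iff_isUnit_det B).2 ((associated_one_iff_isUnit).1 hB)
    refine ⟨B, 1, fun _ => 0, hBU, isUnit_one, ?_⟩
    have h1 : Matrix.diagonal (fun _ : n => (T 0 : k[T;T⁻¹])) = 1 := by
      rw [LaurentPolynomial.T_zero]; exact Matrix.diagonal_one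
    rw [h1, Matrix.map_one _ (map_zero _) (map_one _), Matrix.mul_one, Matrix.mul_one]
  | succ m ih =>
    intro B hB
    obtain ⟨B0, hB0⟩ : ∃ B0 : Matrix n n k, B0 = B.map Polynomial.constantCoeff := ⟨_, rfl⟩
    have hdet0 : B0.det = 0 := by
      have h1 : B0.det = Polynomial.constantCoeff B.det := by
        rw [hB0, RingHom.map_det]; rfl
      rw [h1]
      obtain ⟨u, hu⟩ := hB
      have h2 := congrArg Polynomial.constantCoeff hu
      rw [map_mul, map_pow] at h2
      have h3 : Polynomial.constantCoeff (Polynomial.X : k[X]) = 0 := Polynomial.coeff_X_zero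
      rw [h3, zero_pow (Nat.succ_ne_zero m)] at h2
      have h4 : IsUnit (Polynomial.constantCoeff (u : k[X])) := u.isUnit.map _
      exact (mul_eq_zero.1 h2).resolve_right h4.ne_zero
    obtain ⟨w, hw0, hw⟩ := Matrix.exists_vecMul_eq_zero_iff.2 hdet0
    obtain ⟨i0, hi0⟩ : ∃ i0, w i0 ≠ 0 := Function.ne_iff.1 hw0
    obtain ⟨w', hw'⟩ : ∃ w' : n → k[X], w' = fun i => Polynomial.C (w i) := ⟨_, rfl⟩
    obtain ⟨U, hU⟩ : ∃ U : Matrix n n k[X], U = (1 : Matrix n n k[X]).updateRow i0 w' := ⟨_, rfl⟩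
    have hUdet : U.det = Polynomial.C (w i0) := by rw [hU, det_updateRow_one, hw']
    have hUU : IsUnit U := by
      rw [Matrix.isUnit_iff_isUnit_det, hUdet]
      exact (Polynomial.isUnit_C).2 (isUnit_iff_ne_zero.2 hi0)
    have hUB : U * B = B.updateRow i0 (w' ᵥ* B) := by
      rw [hU, Matrix.updateRow_mul, Matrix.one_mul]
    have hrow0 : ∀ j, ((w' ᵥ* B) j).coeff 0 = 0 := by
      intro j
      have h1 : (w' ᵥ* B) j = ∑ i, Polynomial.C (w i) * B i j := by
        rw [Matrix.vecMul, dotProduct, hw']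
      rw [h1, Polynomial.finsetSum_coeff]
      have h2 := congrFun hw j
      rw [Matrix.vecMul, dotProduct, hB0] at h2
      simp only [Polynomial.coeff_C_mul]
      exact h2
    obtain ⟨B', hB'⟩ : ∃ B' : Matrix n n k[X],
        B' = B.updateRow i0 (fun j => Polynomial.divX ((w' ᵥ* B) j)) := ⟨_, rfl⟩
    have hEB' : Matrix.diagonal (fun i => if i = i0 then (Polynomial.X : k[X]) else 1) * B' =
        U * B := by
      rw [hUB, hB']
      refine Matrix.ext (fun i j => ?_)
      rw [Matrix.diagonal_mul, Matrix.updateRow_apply, Matrix.updateRow_apply]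
      by_cases hi : i = i0
      · simp only [hi, if_true]
        have h1 := Polynomial.X_mul_divX_add ((w' ᵥ* B) j)
        rw [hrow0 j, Polynomial.C_0, add_zero] at h1
        exact h1
      · simp only [hi, if_false, one_mul]
    have hB'det : Associated B'.det (Polynomial.X ^ m) := by
      have h1 := congrArg Matrix.det hEB'
      rw [Matrix.det_mul, Matrix.det_mul, det_diag_single, hUdet] at h1
      obtain ⟨u, hu⟩ := hB
      have hcu : IsUnit (Polynomial.C (w i0) : k[X]) :=
        (Polynomial.isUnit_C).2 (isUnit_iff_ne_zero.2 hi0)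
      obtain ⟨c, hc⟩ := hcu
      refine ⟨c⁻¹ * u, ?_⟩
      apply mul_left_cancel₀ (Polynomial.X_ne_zero (R := k))
      rw [← mul_assoc, h1, ← hc, ← pow_succ']
      rw [← hu]
      simp only [Units.val_mul]
      have : (c : k[X]) * B.det * ((c⁻¹ : k[X]ˣ) * (u : k[X])) =
          ((c : k[X]) * (c⁻¹ : k[X]ˣ)) * (B.det * u) := by ring
      rw [this, Units.mul_inv, one_mul]
    have h5 := BF_E_mul i0 (ih B' hB'det)
    have h6 : Matrix.diagonal (fun i => if i = i0 then (T 1 : k[T;T⁻¹]) else 1) *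
        B'.map Polynomial.toLaurent = (U * B).map Polynomial.toLaurent := by
      rw [← hEB', map_mul_toLaurent, Matrix.diagonal_map (map_zero _)]
      congr 2
      funext j
      split_ifs
      · exact Polynomial.toLaurent_X.symm
      · exact (map_one _).symm
    rw [h6] at h5
    obtain ⟨Ui, hUi⟩ := hUU.exists_left_inv
    have hUiU : IsUnit Ui := by
      rw [Matrix.isUnit_iff_isUnit_det]
      have := congrArg Matrix.det hUi
      rw [Matrix.det_mul, Matrix.det_one] at this
      exact IsUnit.of_mul_eq_one _ this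
    have h7 := BF_mul_left Ui hUiU h5
    rw [← map_mul_toLaurent, ← Matrix.mul_assoc, hUi, Matrix.one_mul] at h7
    exact h7

lemma exists_poly (A : Matrix n n k[T;T⁻¹]) :
    ∃ (N : ℕ) (B : Matrix n n k[X]), B.map Polynomial.toLaurent = (T (N : ℤ) : k[T;T⁻¹]) • A := by
  classical
  choose Nf f hf using fun p : n × n => LaurentPolynomial.exists_T_pow (A p.1 p.2)
  refine ⟨∑ p, Nf p, Matrix.of (fun i j => Polynomial.X ^ ((∑ p, Nf p) - Nf (i, j)) * f (i, j)), ?_⟩
  refine Matrix.ext (fun i j => ?_)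
  rw [Matrix.map_apply, Matrix.of_apply, Matrix.smul_apply, map_mul, Polynomial.toLaurent_X_pow,
    hf (i, j), smul_eq_mul]
  have hle : Nf (i, j) ≤ ∑ p, Nf p :=
    Finset.single_le_sum (fun _ _ => Nat.zero_le _) (Finset.mem_univ (i, j))
  have h1 : ((∑ p, Nf p : ℕ) : ℤ) = (((∑ p, Nf p) - Nf (i, j) : ℕ) : ℤ) + (Nf (i, j) : ℤ) := by
    push_cast [Nat.cast_sub hle]; ring
  rw [h1, LaurentPolynomial.T_add]
  ring

lemma BF_of_isUnit (A : Matrix n n k[T;T⁻¹]) (hA : IsUnit A) : BF A := by
  classical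
  obtain ⟨A', hA'⟩ := hA.exists_right_inv
  obtain ⟨N, B, hB⟩ := exists_poly A
  obtain ⟨N', B₂, hB₂⟩ := exists_poly A'
  have h1 : (B * B₂).map Polynomial.toLaurent =
      ((Polynomial.X ^ (N + N') : k[X]) • (1 : Matrix n n k[X])).map Polynomial.toLaurent := by
    rw [map_mul_toLaurent, hB, hB₂, Matrix.smul_mul, Matrix.mul_smul, hA', smul_smul]
    refine Matrix.ext (fun i j => ?_)
    rw [Matrix.map_apply, Matrix.smul_apply, Matrix.smul_apply, smul_eq_mul, smul_eq_mul, map_mul,
      Polynomial.toLaurent_X_pow, ← LaurentPolynomial.T_add]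
    push_cast
    congr 1
    rw [Matrix.one_apply, Matrix.one_apply]
    split_ifs
    · exact (map_one _).symm
    · exact (map_zero _).symm
  have h2 : B * B₂ = (Polynomial.X ^ (N + N') : k[X]) • (1 : Matrix n n k[X]) :=
    Matrix.map_injective Polynomial.toLaurent_injective h1
  have h3 : B.det ∣ Polynomial.X ^ ((N + N') * Fintype.card n) := by
    have := congrArg Matrix.det h2
    rw [Matrix.det_mul, Matrix.det_smul, Matrix.det_one, mul_one, ← pow_mul] at this
    exact ⟨_, this.symm⟩
  obtain ⟨m, -, hm⟩ := (dvd_prime_pow Polynomial.prime_X _).1 h3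
  have h4 := BF_smul_T (-(N : ℤ)) (BF_of_det m B hm)
  rw [hB, smul_smul, ← LaurentPolynomial.T_add, neg_add_cancel, LaurentPolynomial.T_zero,
    one_smul] at h4
  exact h4

theorem main (k : Type*) [Field k] (n : ℕ)
    (A : Matrix (Fin n) (Fin n) (LaurentPolynomial k)) (hA : IsUnit A) :
    ∃ (P Q : Matrix (Fin n) (Fin n) (Polynomial k)) (d : Fin n → ℤ),
      IsUnit P ∧ IsUnit Q ∧ Antitone d ∧
        A = P.map Polynomial.toLaurent * Matrix.diagonal (fun i => LaurentPolynomial.T (d i)) *
          (Q.map Polynomial.toLaurent).map LaurentPolynomial.invert := by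
  obtain ⟨P, Q, d, hP, hQ, hAeq⟩ := BF_of_isUnit A hA
  obtain ⟨σ, hσ⟩ : ∃ σ : Equiv.Perm (Fin n), σ = Tuple.sort (fun i => -d i) := ⟨_, rfl⟩
  have hmono : Monotone ((fun i => -d i) ∘ σ) := hσ ▸ Tuple.monotone_sort _
  refine ⟨P.submatrix id σ, Q.submatrix σ id, d ∘ σ, ?_, ?_, ?_, ?_⟩
  · exact (Matrix.isUnit_submatrix_equiv (Equiv.refl _) σ).2 hP
  · exact (Matrix.isUnit_submatrix_equiv σ (Equiv.refl _)).2 hQ
  · intro a b hab
    have := hmono hab
    simp only [Function.comp_apply] at this ⊢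
    omega
  · have h1 : (Matrix.diagonal (fun i => (T ((d ∘ σ) i) : k[T;T⁻¹]))) =
        (Matrix.diagonal (fun i => (T (d i) : k[T;T⁻¹]))).submatrix σ σ := by
      rw [Matrix.submatrix_diagonal_equiv]
      rfl
    have h2 : ((Q.submatrix σ id).map Polynomial.toLaurent).map LaurentPolynomial.invert =
        (Q.map φm).submatrix σ id := by
      ext i j
      rfl
    have h3 : (P.submatrix id σ).map Polynomial.toLaurent =
        (P.map Polynomial.toLaurent).submatrix id σ := by
      ext i j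
      rfl
    rw [h1, h2, h3, Matrix.submatrix_mul_equiv, Matrix.submatrix_mul_equiv, Matrix.submatrix_id_id]
    exact hAeq

end Groth.Agent.Helper8.Birk
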