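import Mathlib
import Groth.Prelude.Def_W4bk4grassmannianPl

namespace Groth.Agent.Helper8.PluckerQ

open W4bk4grassmannian

universe u

variable {K : Type u} [Field K]

/-! ### Part 0: tuples and images -/

theorem strictMono_eq_of_image_eq {d n : ℕ} (a a' : Fin d → Fin n) (ha : StrictMono a)
    (ha' : StrictMono a') (h : Finset.univ.image a = Finset.univ.image a') : a = a' := by
  have hcard : (Finset.univ.image a).card = d := by
    rw [Finset.card_image_of_injective _ ha.injective, Finset.card_univ, Fintype.card_fin]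
  have h1 : a = (Finset.univ.image a).orderEmbOfFin hcard :=
    Finset.orderEmbOfFin_unique hcard
      (fun x => Finset.mem_image_of_mem a (Finset.mem_univ x)) ha
  have h2 : a' = (Finset.univ.image a).orderEmbOfFin hcard :=
    Finset.orderEmbOfFin_unique hcard
      (fun x => by rw [h]; exact Finset.mem_image_of_mem a' (Finset.mem_univ x)) ha'
  rw [h1, ← h2]

theorem image_sortIdx {d n : ℕ} (a : Fin d → Fin n) (h : (Finset.univ.image a).card = d) :
    Finset.univ.image (sortIdx d n a h).1 = Finset.univ.image a := by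
  have : (sortIdx d n a h).1 = ((Finset.univ.image a).orderEmbOfFin h : Fin d → Fin n) := rfl
  rw [this]
  exact Finset.image_orderEmbOfFin_univ _ h

theorem eval_coord {d n : ℕ} (p : Idx d n → K) (a : Fin d → Fin n) :
    MvPolynomial.eval p (coord K d n a) =
      if h : (Finset.univ.image a).card = d
      then (-1 : K) ^ invCount d n a * p (sortIdx d n a h) else 0 := by
  unfold coord
  split_ifs with h
  · rw [map_mul, map_pow, map_neg, map_one, MvPolynomial.eval_X]
  · rw [map_zero]

theorem card_image_of_strictMono {d n : ℕ} (a : Fin d → Fin n) (ha : StrictMono a) :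
    (Finset.univ.image a).card = d := by
  rw [Finset.card_image_of_injective _ ha.injective, Finset.card_univ, Fintype.card_fin]

theorem coord_strictMono {d n : ℕ} (a : Fin d → Fin n) (ha : StrictMono a) :
    coord K d n a = MvPolynomial.X (⟨a, ha⟩ : Idx d n) := by
  have hcard := card_image_of_strictMono a ha
  have hinv : invCount d n a = 0 := by
    unfold invCount
    rw [Finset.card_eq_zero, Finset.filter_eq_empty_iff]
    intro p _ hp
    exact absurd (ha hp.1) (not_lt.mpr hp.2.le)
  have hs : sortIdx d n a hcard = ⟨a, ha⟩ :=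
    Subtype.ext (strictMono_eq_of_image_eq _ _ (sortIdx d n a hcard).2 ha (image_sortIdx a hcard))
  unfold coord
  rw [dif_pos hcard, hinv, pow_zero, one_mul, hs]

theorem eval_coord_of_card_ne {d n : ℕ} (p : Idx d n → K) (a : Fin d → Fin n)
    (h : (Finset.univ.image a).card ≠ d) : MvPolynomial.eval p (coord K d n a) = 0 := by
  rw [eval_coord, dif_neg h]

theorem neg_one_pow_mul_self (k : ℕ) : (-1 : K) ^ k * (-1 : K) ^ k = 1 := by
  rw [← mul_pow, neg_mul_neg, one_mul, one_pow]

theorem rearrange {d n : ℕ} (a₁ a₂ : Fin d → Fin n)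
    (himg : Finset.univ.image a₁ = Finset.univ.image a₂) :
    ∃ ε : K, ε ≠ 0 ∧ ∀ p : Idx d n → K,
      MvPolynomial.eval p (coord K d n a₁) = ε * MvPolynomial.eval p (coord K d n a₂) := by
  by_cases h₁ : (Finset.univ.image a₁).card = d
  · have h₂ : (Finset.univ.image a₂).card = d := by rw [← himg]; exact h₁
    have hs : sortIdx d n a₁ h₁ = sortIdx d n a₂ h₂ :=
      Subtype.ext (strictMono_eq_of_image_eq _ _ (sortIdx d n a₁ h₁).2 (sortIdx d n a₂ h₂).2
        (by rw [image_sortIdx, image_sortIdx, himg]))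
    refine ⟨(-1 : K) ^ invCount d n a₁ * (-1 : K) ^ invCount d n a₂,
      mul_ne_zero (pow_ne_zero _ (neg_ne_zero.mpr one_ne_zero))
        (pow_ne_zero _ (neg_ne_zero.mpr one_ne_zero)), fun p => ?_⟩
    rw [eval_coord, eval_coord, dif_pos h₁, dif_pos h₂, hs]
    have := neg_one_pow_mul_self (K := K) (invCount d n a₂)
    linear_combination (-((-1 : K) ^ invCount d n a₁ * p (sortIdx d n a₂ h₂))) * this
  · have h₂ : (Finset.univ.image a₂).card ≠ d := by rw [← himg]; exact h₁
    refine ⟨1, one_ne_zero, fun p => ?_⟩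
    rw [eval_coord_of_card_ne p a₁ h₁, eval_coord_of_card_ne p a₂ h₂, mul_zero]

/-! ### Part A: sign of a permutation via inversions -/

theorem sign_eq_neg_one_pow_units {d : ℕ} (π : Equiv.Perm (Fin d)) :
    Equiv.Perm.sign π = (-1 : ℤˣ) ^
      (Finset.univ.filter fun p : Fin d × Fin d => p.1 < p.2 ∧ π p.2 < π p.1).card := by
  rw [Equiv.Perm.sign_eq_prod_prod_Iio]
  have h1 : ∀ j : Fin d, ∏ i ∈ Finset.Iio j, (if π i < π j then (1 : ℤˣ) else -1) =
      ∏ i : Fin d, (if i < j ∧ π j < π i then (-1 : ℤˣ) else 1) := by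
    intro j
    have e1 : ∏ i ∈ Finset.Iio j, (if π i < π j then (1 : ℤˣ) else -1) =
        ∏ i ∈ Finset.Iio j, (if π j < π i then (-1 : ℤˣ) else 1) := by
      refine Finset.prod_congr rfl (fun i hi => ?_)
      rw [Finset.mem_Iio] at hi
      have hne : π i ≠ π j := fun h => hi.ne (π.injective h)
      by_cases hlt : π i < π j
      · rw [if_pos hlt, if_neg (not_lt.mpr hlt.le)]
      · rw [if_neg hlt, if_pos (lt_of_le_of_ne (not_lt.mp hlt) (Ne.symm hne))]
    rw [e1, ← Finset.filter_gt_eq_Iio, Finset.prod_filter]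
    refine Finset.prod_congr rfl (fun i _ => ?_)
    rw [ite_and]
  rw [Finset.prod_congr rfl (fun j _ => h1 j)]
  rw [← Fintype.prod_prod_type_right'
    (fun i j : Fin d => if i < j ∧ π j < π i then (-1 : ℤˣ) else 1)]
  rw [Finset.prod_ite, Finset.prod_const_one, mul_one, Finset.prod_const]

theorem sign_eq_neg_one_pow {d : ℕ} (π : Equiv.Perm (Fin d)) :
    (((Equiv.Perm.sign π : ℤˣ) : ℤ) : K) = (-1 : K) ^
      (Finset.univ.filter fun p : Fin d × Fin d => p.1 < p.2 ∧ π p.2 < π p.1).card := by
  rw [sign_eq_neg_one_pow_units]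
  simp

/-! ### Part B: brackets of minors -/

theorem eval_coord_minors {d n : ℕ} (A : Matrix (Fin n) (Fin d) K) (a : Fin d → Fin n) :
    MvPolynomial.eval (fun θ : Idx d n => (A.submatrix θ.1 id).det) (coord K d n a) =
      (A.submatrix a id).det := by
  classical
  rw [eval_coord]
  by_cases h : (Finset.univ.image a).card = d
  · rw [dif_pos h]
    show (-1 : K) ^ invCount d n a * (A.submatrix (sortIdx d n a h).1 id).det = _
    have hinj : Function.Injective a := by
      have hc : (Finset.univ.image a).card = (Finset.univ : Finset (Fin d)).card := by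
        rw [h, Finset.card_univ, Fintype.card_fin]
      have := Finset.card_image_iff.mp hc
      exact fun x y hxy => this (Finset.mem_coe.mpr (Finset.mem_univ x))
        (Finset.mem_coe.mpr (Finset.mem_univ y)) hxy
    obtain ⟨s, hs⟩ : ∃ s : Fin d → Fin n, s = (sortIdx d n a h).1 := ⟨_, rfl⟩
    have hsmono : StrictMono s := by rw [hs]; exact (sortIdx d n a h).2
    have hsimg : Finset.univ.image s = Finset.univ.image a := by
      rw [hs]; exact image_sortIdx a h
    have hex : ∀ x : Fin d, ∃ y : Fin d, s y = a x := by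
      intro x
      have : a x ∈ Finset.univ.image s := by
        rw [hsimg]; exact Finset.mem_image_of_mem a (Finset.mem_univ x)
      obtain ⟨y, -, hy⟩ := Finset.mem_image.mp this
      exact ⟨y, hy⟩
    choose π₀ hπ₀ using hex
    have hπ₀inj : Function.Injective π₀ := by
      intro x y hxy
      apply hinj
      rw [← hπ₀ x, ← hπ₀ y, hxy]
    obtain ⟨π, hπ⟩ : ∃ π : Equiv.Perm (Fin d), ∀ x, π x = π₀ x :=
      ⟨Equiv.ofBijective π₀ (Finite.injective_iff_bijective.mp hπ₀inj), fun x => rfl⟩
    have ha_eq : a = s ∘ π := by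
      funext x
      rw [Function.comp_apply, hπ, hπ₀]
    have hdet : (A.submatrix a id).det =
        (((Equiv.Perm.sign π : ℤˣ) : ℤ) : K) * (A.submatrix s id).det := by
      rw [ha_eq]
      exact Matrix.det_permute π (A.submatrix s id)
    have hinv : invCount d n a =
        (Finset.univ.filter fun p : Fin d × Fin d => p.1 < p.2 ∧ π p.2 < π p.1).card := by
      unfold invCount
      congr 1
      ext p
      simp only [Finset.mem_filter, Finset.mem_univ, true_and]
      rw [ha_eq]
      simp only [Function.comp_apply, hsmono.lt_iff_lt]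
    rw [hdet, sign_eq_neg_one_pow, ← hinv, hs]
  · rw [dif_neg h]
    have hni : ¬ Function.Injective a := fun hi =>
      h (by rw [Finset.card_image_of_injective _ hi, Finset.card_univ, Fintype.card_fin])
    rw [Function.Injective] at hni
    push Not at hni
    obtain ⟨x, y, hxy, hne⟩ := hni
    exact (Matrix.det_zero_of_row_eq hne (funext fun k => by
      rw [Matrix.submatrix_apply, Matrix.submatrix_apply, hxy])).symm

/-! ### Part C: the determinantal identity -/

theorem det_identity {e n : ℕ} (A : Matrix (Fin n) (Fin (e + 1)) K) (i' : Fin e → Fin n)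
    (j' : Fin (e + 2) → Fin n) :
    ∑ h : Fin (e + 2), (-1 : K) ^ (h.val + 1) *
      (A.submatrix (Fin.snoc i' (j' h) : Fin (e + 1) → Fin n) id).det *
      (A.submatrix (j' ∘ h.succAbove) id).det = 0 := by
  obtain ⟨w, hw⟩ : ∃ w : Fin (e + 1) → K,
      ∀ c, w c = (-1 : K) ^ (e + c.val) * (A.submatrix i' c.succAbove).det := ⟨_, fun c => rfl⟩
  obtain ⟨B, hB⟩ : ∃ B : Matrix (Fin (e + 2)) (Fin (e + 1)) K,
      ∀ h c, B h c = A (j' h) c := ⟨A.submatrix j' id, fun h c => rfl⟩
  have hfirst : ∀ h : Fin (e + 2),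
      (A.submatrix (Fin.snoc i' (j' h) : Fin (e + 1) → Fin n) id).det = ∑ c, B h c * w c := by
    intro h
    rw [Matrix.det_succ_row _ (Fin.last e)]
    refine Finset.sum_congr rfl (fun c _ => ?_)
    have hsub : (A.submatrix (Fin.snoc i' (j' h) : Fin (e + 1) → Fin n) id).submatrix
        (Fin.last e).succAbove c.succAbove = A.submatrix i' c.succAbove := by
      ext x y
      simp only [Matrix.submatrix_apply, id, Fin.succAbove_last, Fin.snoc_castSucc]
    rw [hsub, hw, hB]
    simp only [Matrix.submatrix_apply, Fin.snoc_last, id, Fin.val_last]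
    ring
  obtain ⟨Mx, hMx0, hMxs⟩ : ∃ Mx : Matrix (Fin (e + 2)) (Fin (e + 2)) K,
      (∀ h, Mx h 0 = ∑ c, B h c * w c) ∧ (∀ h c, Mx h (Fin.succ c) = B h c) :=
    ⟨Matrix.of fun h => (Fin.cons (∑ c, B h c * w c) (B h) : Fin (e + 2) → K),
      fun h => rfl, fun h c => rfl⟩
  have hdet0 : Mx.det = 0 := by
    rw [← Matrix.exists_mulVec_eq_zero_iff]
    refine ⟨(Fin.cons (-1) w : Fin (e + 2) → K), ?_, ?_⟩
    · intro h0
      have := congrFun h0 0
      simp at this
    · funext h
      show ∑ k, Mx h k * (Fin.cons (-1) w : Fin (e + 2) → K) k = 0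
      rw [Fin.sum_univ_succ]
      simp only [Fin.cons_zero, Fin.cons_succ, hMx0, hMxs]
      ring
  have hexp : Mx.det = ∑ h : Fin (e + 2), (-1 : K) ^ (h : ℕ) * Mx h 0 *
      (Mx.submatrix h.succAbove Fin.succ).det := Matrix.det_succ_column_zero Mx
  have hsub2 : ∀ h : Fin (e + 2),
      Mx.submatrix h.succAbove Fin.succ = A.submatrix (j' ∘ h.succAbove) id := by
    intro h
    ext x y
    rw [Matrix.submatrix_apply, hMxs, hB]
    rfl
  have hfin : ∑ h : Fin (e + 2), (-1 : K) ^ (h.val + 1) *
      (A.submatrix (Fin.snoc i' (j' h) : Fin (e + 1) → Fin n) id).det *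
      (A.submatrix (j' ∘ h.succAbove) id).det = - Mx.det := by
    rw [hexp, ← Finset.sum_neg_distrib]
    refine Finset.sum_congr rfl (fun h _ => ?_)
    rw [hfirst h, hMx0, hsub2 h, pow_succ]
    ring
  rw [hfin, hdet0, neg_zero]

/-! ### Part D: minors satisfy the quadrics -/

theorem eval_quadric {e n : ℕ} (p : Idx (e + 1) n → K) (i' : Idx e n) (j' : Idx (e + 2) n) :
    MvPolynomial.eval p (quadric K i' j') = ∑ h : Fin (e + 2), (-1 : K) ^ (h.val + 1) *
      MvPolynomial.eval p (coord K (e + 1) n (Fin.snoc i'.1 (j'.1 h))) *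
      MvPolynomial.eval p (coord K (e + 1) n (j'.1 ∘ h.succAbove)) := by
  unfold quadric
  rw [map_sum]
  refine Finset.sum_congr rfl (fun h _ => ?_)
  rw [map_mul, map_mul, map_pow, map_neg, map_one]

theorem quadric_minors {e n : ℕ} (A : Matrix (Fin n) (Fin (e + 1)) K) (i' : Idx e n)
    (j' : Idx (e + 2) n) :
    MvPolynomial.eval (fun θ : Idx (e + 1) n => (A.submatrix θ.1 id).det) (quadric K i' j') = 0 := by
  rw [eval_quadric]
  simp only [eval_coord_minors]
  exact det_identity A i'.1 j'.1


/-! ### Part E: uniqueness -/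

theorem injective_of_card_image {d n : ℕ} (a : Fin d → Fin n)
    (h : (Finset.univ.image a).card = d) : Function.Injective a := by
  have hc : (Finset.univ.image a).card = (Finset.univ : Finset (Fin d)).card := by
    rw [h, Finset.card_univ, Fintype.card_fin]
  have := Finset.card_image_iff.mp hc
  exact fun x y hxy => this (Finset.mem_coe.mpr (Finset.mem_univ x))
    (Finset.mem_coe.mpr (Finset.mem_univ y)) hxy

theorem image_snoc {e n : ℕ} (i' : Fin e → Fin n) (y : Fin n) :
    Finset.univ.image (Fin.snoc i' y : Fin (e + 1) → Fin n) =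
      insert y (Finset.univ.image i') := by
  ext z
  simp only [Finset.mem_image, Finset.mem_univ, true_and, Finset.mem_insert]
  constructor
  · rintro ⟨t, rfl⟩
    rcases Fin.eq_castSucc_or_eq_last t with ⟨t', rfl⟩ | rfl
    · right
      exact ⟨t', (Fin.snoc_castSucc (α := fun _ => Fin n) y i' t').symm⟩
    · left
      exact Fin.snoc_last (α := fun _ => Fin n) y i'
  · rintro (rfl | ⟨t', rfl⟩)
    · exact ⟨Fin.last e, Fin.snoc_last (α := fun _ => Fin n) _ i'⟩
    · exact ⟨Fin.castSucc t', Fin.snoc_castSucc (α := fun _ => Fin n) y i' t'⟩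

theorem image_update {d n : ℕ} (a : Fin d → Fin n) (ha : Function.Injective a) (c : Fin d)
    (y : Fin n) :
    Finset.univ.image (Function.update a c y) =
      insert y ((Finset.univ.image a).erase (a c)) := by
  ext z
  simp only [Finset.mem_image, Finset.mem_univ, true_and, Finset.mem_insert, Finset.mem_erase]
  constructor
  · rintro ⟨t, rfl⟩
    by_cases htc : t = c
    · left
      rw [htc, Function.update_self]
    · right
      rw [Function.update_of_ne htc]
      exact ⟨fun h => htc (ha h), t, rfl⟩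
  · rintro (rfl | ⟨hne, t, rfl⟩)
    · exact ⟨c, Function.update_self _ _ _⟩
    · have htc : t ≠ c := fun h => hne (by rw [h])
      exact ⟨t, Function.update_of_ne htc _ _⟩

theorem image_comp_succAbove {m n : ℕ} (f : Fin (m + 1) → Fin n) (hf : Function.Injective f)
    (h : Fin (m + 1)) :
    Finset.univ.image (f ∘ h.succAbove) = (Finset.univ.image f).erase (f h) := by
  ext z
  simp only [Finset.mem_image, Finset.mem_univ, true_and, Finset.mem_erase,
    Function.comp_apply]
  constructor
  · rintro ⟨t, rfl⟩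
    exact ⟨fun hh => Fin.succAbove_ne h t (hf hh), h.succAbove t, rfl⟩
  · rintro ⟨hne, t, rfl⟩
    have htne : t ≠ h := fun hh => hne (by rw [hh])
    obtain ⟨t', ht'⟩ := Fin.exists_succAbove_eq htne
    exact ⟨t', by rw [ht']⟩

theorem unique_of_quadrics {e n : ℕ} (p p' : Idx (e + 1) n → K)
    (hp : ∀ (i' : Idx e n) (j' : Idx (e + 2) n), MvPolynomial.eval p (quadric K i' j') = 0)
    (hp' : ∀ (i' : Idx e n) (j' : Idx (e + 2) n), MvPolynomial.eval p' (quadric K i' j') = 0)
    (θ₀ : Idx (e + 1) n) (h0 : p θ₀ ≠ 0)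
    (H1 : ∀ (c : Fin (e + 1)) (y : Fin n),
      MvPolynomial.eval p (coord K (e + 1) n (Function.update θ₀.1 c y)) =
        MvPolynomial.eval p' (coord K (e + 1) n (Function.update θ₀.1 c y))) :
    p = p' := by
  classical
  obtain ⟨T₀, hT₀⟩ : ∃ T₀ : Finset (Fin n), T₀ = Finset.univ.image θ₀.1 := ⟨_, rfl⟩
  have hT₀card : T₀.card = e + 1 := by
    rw [hT₀]
    exact card_image_of_strictMono _ θ₀.2
  have key : ∀ k : ℕ, ∀ θ : Idx (e + 1) n,
      ((Finset.univ.image θ.1) \ T₀).card = k → p θ = p' θ := by
    intro k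
    induction k using Nat.strong_induction_on with
    | _ k ih =>
      intro θ hk
      obtain ⟨Tθ, hTθ⟩ : ∃ Tθ : Finset (Fin n), Tθ = Finset.univ.image θ.1 := ⟨_, rfl⟩
      rw [← hTθ] at hk
      have hTθcard : Tθ.card = e + 1 := by
        rw [hTθ]
        exact card_image_of_strictMono _ θ.2
      rcases Nat.eq_zero_or_pos k with hk0 | hkpos
      · rw [hk0, Finset.card_eq_zero, Finset.sdiff_eq_empty_iff_subset] at hk
        have heq : Tθ = T₀ :=
          Finset.eq_of_subset_of_card_le hk (le_of_eq (by rw [hT₀card, hTθcard]))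
        have hθ : θ = θ₀ := Subtype.ext
          (strictMono_eq_of_image_eq _ _ θ.2 θ₀.2 (by rw [← hTθ, ← hT₀, heq]))
        rw [hθ]
        have := H1 0 (θ₀.1 0)
        rw [Function.update_eq_self, coord_strictMono θ₀.1 θ₀.2, MvPolynomial.eval_X,
          MvPolynomial.eval_X] at this
        exact this
      · have hcomm : (T₀ \ Tθ).card = k := by
          rw [Finset.card_sdiff_comm (by rw [hT₀card, hTθcard] : T₀.card = Tθ.card), hk]
        obtain ⟨x, hx⟩ : (T₀ \ Tθ).Nonempty :=
          Finset.card_pos.mp (by rw [hcomm]; exact hkpos)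
        rw [Finset.mem_sdiff] at hx
        obtain ⟨hxT₀, hxTθ⟩ := hx
        obtain ⟨cs, hcs⟩ : ∃ cs : Fin (e + 1), θ₀.1 cs = x := by
          rw [hT₀] at hxT₀
          obtain ⟨cs, -, hcs⟩ := Finset.mem_image.mp hxT₀
          exact ⟨cs, hcs⟩
        have hEcard : (T₀.erase x).card = e := by
          have := Finset.card_erase_of_mem hxT₀
          omega
        obtain ⟨i', hi'⟩ : ∃ i' : Idx e n, Finset.univ.image i'.1 = T₀.erase x :=
          ⟨⟨fun t => (T₀.erase x).orderEmbOfFin hEcard t,
            ((T₀.erase x).orderEmbOfFin hEcard).strictMono⟩,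
            Finset.image_orderEmbOfFin_univ _ hEcard⟩
        have hJcard : (insert x Tθ).card = e + 2 := by
          rw [Finset.card_insert_of_notMem hxTθ, hTθcard]
        obtain ⟨j', hj'⟩ : ∃ j' : Idx (e + 2) n, Finset.univ.image j'.1 = insert x Tθ :=
          ⟨⟨fun t => (insert x Tθ).orderEmbOfFin hJcard t,
            ((insert x Tθ).orderEmbOfFin hJcard).strictMono⟩,
            Finset.image_orderEmbOfFin_univ _ hJcard⟩
        obtain ⟨hx', hhx'⟩ : ∃ hx' : Fin (e + 2), j'.1 hx' = x := by
          have : x ∈ Finset.univ.image j'.1 := by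
            rw [hj']
            exact Finset.mem_insert_self x Tθ
          obtain ⟨t, -, ht⟩ := Finset.mem_image.mp this
          exact ⟨t, ht⟩
        have hjinj : Function.Injective j'.1 := j'.2.injective
        have G1 : ∀ y : Fin n,
            MvPolynomial.eval p (coord K (e + 1) n (Fin.snoc i'.1 y)) =
              MvPolynomial.eval p' (coord K (e + 1) n (Fin.snoc i'.1 y)) := by
          intro y
          have himg : Finset.univ.image (Fin.snoc i'.1 y : Fin (e + 1) → Fin n) =
              Finset.univ.image (Function.update θ₀.1 cs y) := by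
            rw [image_snoc, hi', image_update θ₀.1 θ₀.2.injective cs y, ← hT₀, hcs]
          obtain ⟨ε, -, hε⟩ := rearrange (K := K) _ _ himg
          rw [hε p, hε p', H1 cs y]
        have G2 : ∀ h : Fin (e + 2), h ≠ hx' →
            (-1 : K) ^ (h.val + 1) *
                MvPolynomial.eval p (coord K (e + 1) n (Fin.snoc i'.1 (j'.1 h))) *
              MvPolynomial.eval p (coord K (e + 1) n (j'.1 ∘ h.succAbove)) =
            (-1 : K) ^ (h.val + 1) *
                MvPolynomial.eval p' (coord K (e + 1) n (Fin.snoc i'.1 (j'.1 h))) *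
              MvPolynomial.eval p' (coord K (e + 1) n (j'.1 ∘ h.succAbove)) := by
          intro h hne
          have hmono : StrictMono (j'.1 ∘ h.succAbove) :=
            j'.2.comp (Fin.strictMono_succAbove h)
          have himgh := image_comp_succAbove j'.1 hjinj h
          obtain ⟨y, hy⟩ : ∃ y, y = j'.1 h := ⟨_, rfl⟩
          rw [← hy] at himgh ⊢
          have hyne : y ≠ x := by
            intro hyx
            apply hne
            apply hjinj
            rw [← hy, hyx, hhx']
          have hyJ : y ∈ insert x Tθ := by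
            rw [← hj', hy]
            exact Finset.mem_image_of_mem _ (Finset.mem_univ h)
          have hyTθ : y ∈ Tθ := (Finset.mem_insert.mp hyJ).resolve_left hyne
          by_cases hyT₀ : y ∈ T₀
          · have hcard : (Finset.univ.image
                (Fin.snoc i'.1 y : Fin (e + 1) → Fin n)).card ≠ e + 1 := by
              rw [image_snoc, hi',
                Finset.insert_eq_of_mem (Finset.mem_erase.mpr ⟨hyne, hyT₀⟩), hEcard]
              omega
            rw [eval_coord_of_card_ne p _ hcard, eval_coord_of_card_ne p' _ hcard]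
            simp only [mul_zero, zero_mul]
          · rw [G1 y]
            congr 1
            rw [coord_strictMono _ hmono, MvPolynomial.eval_X, MvPolynomial.eval_X]
            have hdist : ((Finset.univ.image (j'.1 ∘ h.succAbove)) \ T₀).card = k - 1 := by
              rw [himgh, hj']
              have hset : ((insert x Tθ).erase y) \ T₀ = (Tθ \ T₀).erase y := by
                ext z
                simp only [Finset.mem_sdiff, Finset.mem_erase, Finset.mem_insert]
                constructor
                · rintro ⟨⟨hzy, hz | hz⟩, hzT₀⟩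
                  · exact absurd (by rw [hz]; exact hxT₀) hzT₀
                  · exact ⟨hzy, hz, hzT₀⟩
                · rintro ⟨hzy, hz, hzT₀⟩
                  exact ⟨⟨hzy, Or.inr hz⟩, hzT₀⟩
              rw [hset, Finset.card_erase_of_mem (Finset.mem_sdiff.mpr ⟨hyTθ, hyT₀⟩), hk]
            exact ih (k - 1) (by omega) ⟨j'.1 ∘ h.succAbove, hmono⟩ hdist
        have hmono_x : StrictMono (j'.1 ∘ hx'.succAbove) :=
          j'.2.comp (Fin.strictMono_succAbove hx')
        have hθx : (⟨j'.1 ∘ hx'.succAbove, hmono_x⟩ : Idx (e + 1) n) = θ := by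
          apply Subtype.ext
          apply strictMono_eq_of_image_eq _ _ hmono_x θ.2
          rw [image_comp_succAbove j'.1 hjinj hx', hj', hhx', Finset.erase_insert hxTθ, hTθ]
        have hsec : ∀ q : Idx (e + 1) n → K,
            MvPolynomial.eval q (coord K (e + 1) n (j'.1 ∘ hx'.succAbove)) = q θ := by
          intro q
          rw [coord_strictMono _ hmono_x, MvPolynomial.eval_X, hθx]
        have hβ : MvPolynomial.eval p (coord K (e + 1) n (Fin.snoc i'.1 (j'.1 hx'))) ≠ 0 := by
          rw [hhx']
          have himg : Finset.univ.image (Fin.snoc i'.1 x : Fin (e + 1) → Fin n) =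
              Finset.univ.image θ₀.1 := by
            rw [image_snoc, hi', Finset.insert_erase hxT₀, hT₀]
          obtain ⟨ε, hε0, hε⟩ := rearrange (K := K) _ _ himg
          rw [hε p, coord_strictMono θ₀.1 θ₀.2, MvPolynomial.eval_X]
          exact mul_ne_zero hε0 h0
        obtain ⟨Tp, hTp⟩ : ∃ Tp : Fin (e + 2) → K, ∀ h, Tp h = (-1 : K) ^ (h.val + 1) *
            MvPolynomial.eval p (coord K (e + 1) n (Fin.snoc i'.1 (j'.1 h))) *
            MvPolynomial.eval p (coord K (e + 1) n (j'.1 ∘ h.succAbove)) := ⟨_, fun h => rfl⟩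
        obtain ⟨Tp', hTp'⟩ : ∃ Tp' : Fin (e + 2) → K, ∀ h, Tp' h = (-1 : K) ^ (h.val + 1) *
            MvPolynomial.eval p' (coord K (e + 1) n (Fin.snoc i'.1 (j'.1 h))) *
            MvPolynomial.eval p' (coord K (e + 1) n (j'.1 ∘ h.succAbove)) := ⟨_, fun h => rfl⟩
        have hsum : ∑ h, Tp h = 0 := by
          rw [← hp i' j', eval_quadric]
          exact Finset.sum_congr rfl (fun h _ => hTp h)
        have hsum' : ∑ h, Tp' h = 0 := by
          rw [← hp' i' j', eval_quadric]
          exact Finset.sum_congr rfl (fun h _ => hTp' h)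
        have htail : ∑ h ∈ Finset.univ.erase hx', Tp h = ∑ h ∈ Finset.univ.erase hx', Tp' h :=
          Finset.sum_congr rfl (fun h hh => by
            rw [hTp, hTp', G2 h (Finset.ne_of_mem_erase hh)])
        have hhead : Tp hx' = Tp' hx' := by
          have e1 := Finset.add_sum_erase Finset.univ Tp (Finset.mem_univ hx')
          have e2 := Finset.add_sum_erase Finset.univ Tp' (Finset.mem_univ hx')
          rw [hsum] at e1
          rw [hsum', ← htail] at e2
          exact add_right_cancel (e1.trans e2.symm)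
        rw [hTp, hTp', hsec p, hsec p', G1 (j'.1 hx')] at hhead
        have hβ' : MvPolynomial.eval p' (coord K (e + 1) n (Fin.snoc i'.1 (j'.1 hx'))) ≠ 0 := by
          rw [← G1 (j'.1 hx')]
          exact hβ
        exact mul_left_cancel₀
          (mul_ne_zero (pow_ne_zero _ (neg_ne_zero.mpr one_ne_zero)) hβ') hhead
  funext θ
  exact key _ θ rfl

/-! ### Part F/G: construction of the matrix -/

theorem coord_update_of_ne {d n : ℕ} (p : Idx d n → K) (θ₀ : Idx d n) (c t : Fin d)
    (hct : c ≠ t) :
    MvPolynomial.eval p (coord K d n (Function.update θ₀.1 c (θ₀.1 t))) = 0 := by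
  apply eval_coord_of_card_ne
  intro hcard
  have hinj := injective_of_card_image _ hcard
  have h1 : Function.update θ₀.1 c (θ₀.1 t) c = Function.update θ₀.1 c (θ₀.1 t) t := by
    rw [Function.update_self, Function.update_of_ne (Ne.symm hct)]
  exact hct (hinj h1)

theorem exists_matrix {e n : ℕ} (q : Idx (e + 1) n → K) (hq : q ≠ 0)
    (hquad : ∀ (i' : Idx e n) (j' : Idx (e + 2) n),
      MvPolynomial.eval q (quadric K i' j') = 0) :
    ∃ A : Matrix (Fin n) (Fin (e + 1)) K,
      ∀ θ : Idx (e + 1) n, q θ = (A.submatrix θ.1 id).det := by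
  classical
  obtain ⟨θ₀, hθ₀⟩ := Function.ne_iff.mp hq
  have h0 : q θ₀ ≠ 0 := hθ₀
  obtain ⟨c₀, hc₀⟩ : ∃ c₀ : K, c₀ = q θ₀ := ⟨_, rfl⟩
  have hc₀ne : c₀ ≠ 0 := by
    rw [hc₀]
    exact h0
  have hq0 : q ⟨θ₀.1, θ₀.2⟩ = c₀ := hc₀.symm
  obtain ⟨D, hD⟩ : ∃ D : Fin (e + 1) → K, ∀ c, D c = if c = 0 then c₀ else 1 :=
    ⟨_, fun c => rfl⟩
  have hDprod : ∏ c, D c = c₀ := by
    rw [Finset.prod_congr rfl (fun c _ => hD c),
      Finset.prod_ite_eq' Finset.univ (0 : Fin (e + 1)) (fun _ => c₀),
      if_pos (Finset.mem_univ _)]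
  obtain ⟨A, hA⟩ : ∃ A : Matrix (Fin n) (Fin (e + 1)) K, ∀ r c, A r c =
      MvPolynomial.eval q (coord K (e + 1) n (Function.update θ₀.1 c r)) * (D c * c₀⁻¹) :=
    ⟨Matrix.of fun r c =>
      MvPolynomial.eval q (coord K (e + 1) n (Function.update θ₀.1 c r)) * (D c * c₀⁻¹),
      fun r c => rfl⟩
  refine ⟨A, ?_⟩
  have hp' := quadric_minors A
  have H1 : ∀ (cs : Fin (e + 1)) (y : Fin n),
      MvPolynomial.eval q (coord K (e + 1) n (Function.update θ₀.1 cs y)) =
        MvPolynomial.eval (fun θ : Idx (e + 1) n => (A.submatrix θ.1 id).det)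
          (coord K (e + 1) n (Function.update θ₀.1 cs y)) := by
    intro cs y
    rw [eval_coord_minors]
    obtain ⟨a, ha⟩ : ∃ a : Fin (e + 1) → Fin n, a = Function.update θ₀.1 cs y := ⟨_, rfl⟩
    rw [← ha]
    obtain ⟨v, hv⟩ : ∃ v : Fin (e + 1) → K, ∀ c, v c = A y c := ⟨_, fun c => rfl⟩
    have hM : A.submatrix a id = Matrix.diagonal (Function.update D cs 1) *
        (Matrix.updateRow (1 : Matrix (Fin (e + 1)) (Fin (e + 1)) K) cs v) := by
      ext t c
      rw [Matrix.diagonal_mul, Matrix.updateRow_apply]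
      show A (a t) c = _
      by_cases htc : t = cs
      · rw [if_pos htc, htc, Function.update_self, one_mul, ha, Function.update_self, hv]
      · rw [if_neg htc, Function.update_of_ne htc, ha, Function.update_of_ne htc, hA,
          Matrix.one_apply]
        by_cases htc' : t = c
        · rw [if_pos htc', ← htc', Function.update_eq_self, coord_strictMono θ₀.1 θ₀.2,
            MvPolynomial.eval_X, hq0, mul_one, mul_comm (D t) c₀⁻¹, ← mul_assoc,
            mul_inv_cancel₀ hc₀ne, one_mul]
        · rw [if_neg htc', mul_zero, coord_update_of_ne q θ₀ c t (Ne.symm htc'), zero_mul]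
    rw [hM, Matrix.det_mul, Matrix.det_diagonal, ← Matrix.cramer_transpose_apply,
      Matrix.transpose_one, Matrix.cramer_one]
    show _ = (∏ c, Function.update D cs 1 c) * v cs
    rw [Finset.prod_update_of_mem (Finset.mem_univ cs), one_mul, hv, hA, ← ha]
    have hprod2 : (∏ x ∈ Finset.univ \ {cs}, D x) * D cs = c₀ := by
      rw [← hDprod, Finset.sdiff_singleton_eq_erase,
        Finset.prod_erase_mul _ _ (Finset.mem_univ cs)]
    have hre : (∏ x ∈ Finset.univ \ {cs}, D x) *
        (MvPolynomial.eval q (coord K (e + 1) n a) * (D cs * c₀⁻¹)) =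
        MvPolynomial.eval q (coord K (e + 1) n a) *
          (((∏ x ∈ Finset.univ \ {cs}, D x) * D cs) * c₀⁻¹) := by ring
    rw [hre, hprod2, mul_inv_cancel₀ hc₀ne, mul_one]
  have hfin := unique_of_quadrics q (fun θ : Idx (e + 1) n => (A.submatrix θ.1 id).det)
    hquad hp' θ₀ h0 H1
  intro θ
  exact congrFun hfin θ

theorem main (K : Type u) [Field K] (e n : ℕ) (q : Idx (e + 1) n → K) (hq : q ≠ 0) :
    (∀ (i' : Idx e n) (j' : Idx (e + 2) n), MvPolynomial.eval q (quadric K i' j') = 0) ↔
      ∃ A : Matrix (Fin n) (Fin (e + 1)) K,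
        ∀ θ : Idx (e + 1) n, q θ = (A.submatrix θ.1 id).det := by
  constructor
  · exact exists_matrix q hq
  · rintro ⟨A, hA⟩ i' j'
    have : q = fun θ : Idx (e + 1) n => (A.submatrix θ.1 id).det := funext hA
    rw [this]
    exact quadric_minors A i' j'

end Groth.Agent.Helper8.PluckerQ
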