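import Mathlib
import Groth.Prelude.Def_W4bk4grassmannianPl
import Groth.Agent.Helper8.PluckerQ

set_option autoImplicit false

namespace Groth.Agent.Helper8.SMT

open W4bk4grassmannian

universe u

variable {d n : ℕ}

/-- Sum of the entries of a tuple. -/
def wtT (a : Fin d → Fin n) : ℕ := ∑ t, (a t).val

/-- Sum of the entries of an index. -/
def wt (τ : Idx d n) : ℕ := wtT τ.1

lemma sum_orderEmbOfFin {m k : ℕ} (A : Finset (Fin m)) (hA : A.card = k) (f : Fin m → ℕ) :
    ∑ u, f (A.orderEmbOfFin hA u) = ∑ a ∈ A, f a := by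
  calc ∑ u, f (A.orderEmbOfFin hA u)
      = ∑ x ∈ Finset.map (A.orderEmbOfFin hA).toEmbedding Finset.univ, f x :=
        (Finset.sum_map _ _ _).symm
    _ = ∑ a ∈ A, f a := by rw [Finset.map_orderEmbOfFin_univ]

lemma wt_sortIdx (a : Fin d → Fin n) (h : (Finset.univ.image a).card = d) :
    wt (sortIdx d n a h) = wtT a := by
  classical
  have h1 : wt (sortIdx d n a h) = ∑ u, (fun x : Fin n => x.val)
      ((Finset.univ.image a).orderEmbOfFin h u) := rfl
  rw [h1, sum_orderEmbOfFin, Finset.sum_image]
  · rfl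
  · intro x _ y _ hxy
    exact PluckerQ.injective_of_card_image a h hxy

lemma wt_le (τ : Idx d n) : wt τ ≤ d * n := by
  unfold wt wtT
  calc ∑ t, (τ.1 t).val ≤ ∑ _t : Fin d, n := Finset.sum_le_sum fun t _ => (τ.1 t).isLt.le
    _ = d * n := by rw [Finset.sum_const, Finset.card_univ, Fintype.card_fin, smul_eq_mul]

/-- A strictly monotone map between `Fin`s is above the identity. -/
lemma val_le_of_strictMono {m k : ℕ} (f : Fin k → Fin m) (hf : StrictMono f) (u : Fin k) :
    u.val ≤ (f u).val := by
  obtain ⟨v, hv⟩ := u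
  induction v with
  | zero => exact Nat.zero_le _
  | succ v ih =>
    have h1 : v ≤ (f ⟨v, by omega⟩).val := ih (by omega)
    have h2 : f ⟨v, by omega⟩ < f ⟨v + 1, hv⟩ := hf (by
      rw [Fin.lt_def]; simp)
    rw [Fin.lt_def] at h2
    show v + 1 ≤ (f ⟨v + 1, hv⟩).val
    omega

section moving

variable (i j : Idx d n) (r : Fin d)

lemma mov_le (k : Fin (d + 1)) (h : k.val ≤ r.val) :
    movingRows i j r k = i.1 ⟨k.val, lt_of_le_of_lt h r.isLt⟩ := by
  unfold movingRows
  rw [dif_pos h]

lemma mov_gt (k : Fin (d + 1)) (h : ¬ k.val ≤ r.val) :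
    movingRows i j r k = j.1 ⟨k.val - 1, by have := k.isLt; omega⟩ := by
  unfold movingRows
  rw [dif_neg h]

lemma mov_strictMono (hp : i.1 r < j.1 r) : StrictMono (movingRows i j r) := by
  intro k k' hkk'
  rw [Fin.lt_def] at hkk'
  by_cases h1 : k.val ≤ r.val
  · by_cases h2 : k'.val ≤ r.val
    · rw [mov_le i j r k h1, mov_le i j r k' h2]
      exact i.2 (by rw [Fin.lt_def]; exact hkk')
    · rw [mov_le i j r k h1, mov_gt i j r k' h2]
      have h3 : i.1 ⟨k.val, lt_of_le_of_lt h1 r.isLt⟩ ≤ i.1 r :=
        i.2.monotone (by rw [Fin.le_def]; exact h1)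
      have h4 : j.1 r ≤ j.1 ⟨k'.val - 1, by have := k'.isLt; omega⟩ :=
        j.2.monotone (by rw [Fin.le_def]; show r.val ≤ k'.val - 1; omega)
      exact lt_of_le_of_lt h3 (lt_of_lt_of_le hp h4)
  · have h2 : ¬ k'.val ≤ r.val := by omega
    rw [mov_gt i j r k h1, mov_gt i j r k' h2]
    exact j.2 (by rw [Fin.lt_def]; show k.val - 1 < k'.val - 1; omega)

lemma shuffleI_le (A : Finset (Fin (d + 1))) (hA : A.card = r.val + 1) (t : Fin d)
    (h : t.val ≤ r.val) :
    shuffleI i j r A hA t = movingRows i j r (A.orderEmbOfFin hA ⟨t.val, by omega⟩) := by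
  unfold shuffleI
  rw [dif_pos h]

lemma shuffleI_gt (A : Finset (Fin (d + 1))) (hA : A.card = r.val + 1) (t : Fin d)
    (h : ¬ t.val ≤ r.val) : shuffleI i j r A hA t = i.1 t := by
  unfold shuffleI
  rw [dif_neg h]

lemma card_compl_of (A : Finset (Fin (d + 1))) (hA : A.card = r.val + 1) :
    Aᶜ.card = d - r.val := by
  rw [Finset.card_compl, hA, Fintype.card_fin]
  have := r.isLt
  omega

lemma shuffleJ_lt (A : Finset (Fin (d + 1))) (hA : A.card = r.val + 1) (t : Fin d)
    (h : t.val < r.val) : shuffleJ i j r A hA t = j.1 t := by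
  unfold shuffleJ
  simp only [dif_pos h]

lemma shuffleJ_ge (A : Finset (Fin (d + 1))) (hA : A.card = r.val + 1) (t : Fin d)
    (h : ¬ t.val < r.val) :
    shuffleJ i j r A hA t = movingRows i j r (Aᶜ.orderEmbOfFin (card_compl_of r A hA)
      ⟨t.val - r.val, by have := t.isLt; omega⟩) := by
  unfold shuffleJ
  simp only [dif_neg h]

/-- The weight of the first shuffled tuple. -/
lemma wtT_shuffleI (A : Finset (Fin (d + 1))) (hA : A.card = r.val + 1) :
    wtT (shuffleI i j r A hA) =
      ∑ u : Fin (r.val + 1), (movingRows i j r (A.orderEmbOfFin hA u)).val +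
        ∑ t ∈ Finset.univ.filter (fun t : Fin d => ¬ t.val ≤ r.val), (i.1 t).val := by
  classical
  unfold wtT
  rw [← Finset.sum_filter_add_sum_filter_not Finset.univ (fun t : Fin d => t.val ≤ r.val)]
  congr 1
  · symm
    refine Finset.sum_bij (fun u _ => (⟨u.val, by have := u.isLt; have := r.isLt; omega⟩ : Fin d))
      ?_ ?_ ?_ ?_
    · intro u _
      rw [Finset.mem_filter]
      exact ⟨Finset.mem_univ _, by have := u.isLt; show u.val ≤ r.val; omega⟩
    · intro u _ u' _ h
      have := congrArg Fin.val h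
      exact Fin.ext this
    · intro t ht
      rw [Finset.mem_filter] at ht
      exact ⟨⟨t.val, by omega⟩, Finset.mem_univ _, Fin.ext rfl⟩
    · intro u _
      rw [shuffleI_le i j r A hA _ (by have := u.isLt; show u.val ≤ r.val; omega)]
  · refine Finset.sum_congr rfl fun t ht => ?_
    rw [Finset.mem_filter] at ht
    rw [shuffleI_gt i j r A hA t ht.2]

/-- The weight of the second shuffled tuple. -/
lemma wtT_shuffleJ (A : Finset (Fin (d + 1))) (hA : A.card = r.val + 1) :
    wtT (shuffleJ i j r A hA) =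
      ∑ t ∈ Finset.univ.filter (fun t : Fin d => t.val < r.val), (j.1 t).val +
        ∑ u : Fin (d - r.val),
          (movingRows i j r (Aᶜ.orderEmbOfFin (card_compl_of r A hA) u)).val := by
  classical
  unfold wtT
  rw [← Finset.sum_filter_add_sum_filter_not Finset.univ (fun t : Fin d => t.val < r.val)]
  congr 1
  · refine Finset.sum_congr rfl fun t ht => ?_
    rw [Finset.mem_filter] at ht
    rw [shuffleJ_lt i j r A hA t ht.2]
  · symm
    refine Finset.sum_bij (fun u _ => (⟨r.val + u.val, by have := u.isLt; omega⟩ : Fin d))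
      ?_ ?_ ?_ ?_
    · intro u _
      rw [Finset.mem_filter]
      exact ⟨Finset.mem_univ _, by show ¬ r.val + u.val < r.val; omega⟩
    · intro u _ u' _ h
      have := congrArg Fin.val h
      simp only at this
      exact Fin.ext (by omega)
    · intro t ht
      rw [Finset.mem_filter] at ht
      have h1 := ht.2
      exact ⟨⟨t.val - r.val, by have := t.isLt; omega⟩, Finset.mem_univ _, Fin.ext (by
        show r.val + (t.val - r.val) = t.val; omega)⟩
    · intro u _
      rw [shuffleJ_ge i j r A hA _ (by show ¬ r.val + u.val < r.val; omega)]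
      congr 3
      apply Fin.ext
      show u.val = r.val + u.val - r.val
      omega

/-- The total weight of the two shuffled tuples does not depend on the shuffle. -/
lemma wtT_shuffle_total (A : Finset (Fin (d + 1))) (hA : A.card = r.val + 1) :
    wtT (shuffleI i j r A hA) + wtT (shuffleJ i j r A hA) =
      ∑ k, (movingRows i j r k).val +
        ∑ t ∈ Finset.univ.filter (fun t : Fin d => ¬ t.val ≤ r.val), (i.1 t).val +
        ∑ t ∈ Finset.univ.filter (fun t : Fin d => t.val < r.val), (j.1 t).val := by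
  rw [wtT_shuffleI, wtT_shuffleJ, sum_orderEmbOfFin A hA (fun k => (movingRows i j r k).val),
    sum_orderEmbOfFin Aᶜ (card_compl_of r A hA) (fun k => (movingRows i j r k).val),
    ← Finset.sum_add_sum_compl A (fun k => (movingRows i j r k).val)]
  ring

end moving

/-- The identity shuffle: the first `r + 1` positions. -/
def idSet (r : Fin d) : Finset (Fin (d + 1)) := Finset.univ.filter fun k => k.val ≤ r.val

lemma idSet_emb_aux (r : Fin d) :
    ∃ h : (idSet r).card = r.val + 1, ∀ u : Fin (r.val + 1),
      (idSet r).orderEmbOfFin h u = ⟨u.val, by have := u.isLt; have := r.isLt; omega⟩ := by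
  classical
  have hmap : idSet r = Finset.map ⟨fun u : Fin (r.val + 1) =>
      (⟨u.val, by have := u.isLt; have := r.isLt; omega⟩ : Fin (d + 1)),
      fun u u' h => Fin.ext (by
        have h' := congrArg (fun x : Fin (d + 1) => x.val) h
        exact h')⟩ Finset.univ := by
    ext k
    simp only [idSet, Finset.mem_filter, Finset.mem_univ, true_and, Finset.mem_map,
      Function.Embedding.coeFn_mk]
    constructor
    · intro hk
      exact ⟨⟨k.val, by omega⟩, Fin.ext rfl⟩
    · rintro ⟨u, rfl⟩
      have := u.isLt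
      show u.val ≤ r.val
      omega
  have hcard : (idSet r).card = r.val + 1 := by
    rw [hmap, Finset.card_map, Finset.card_univ, Fintype.card_fin]
  refine ⟨hcard, fun u => ?_⟩
  have h2 := Finset.orderEmbOfFin_unique hcard
    (f := fun u : Fin (r.val + 1) =>
      (⟨u.val, by have := u.isLt; have := r.isLt; omega⟩ : Fin (d + 1)))
    (fun u => by
      simp only [idSet, Finset.mem_filter, Finset.mem_univ, true_and]
      have := u.isLt
      omega)
    (fun u u' huu' => by rw [Fin.lt_def] at huu' ⊢; exact huu')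
  exact (congrFun h2 u).symm

lemma idSet_card (r : Fin d) : (idSet r).card = r.val + 1 := (idSet_emb_aux r).1

lemma idSet_emb (r : Fin d) (u : Fin (r.val + 1)) :
    (idSet r).orderEmbOfFin (idSet_card r) u =
      ⟨u.val, by have := u.isLt; have := r.isLt; omega⟩ := (idSet_emb_aux r).2 u

lemma idSet_compl_emb (r : Fin d) (u : Fin (d - r.val)) :
    (idSet r)ᶜ.orderEmbOfFin (card_compl_of r (idSet r) (idSet_card r)) u =
      ⟨r.val + 1 + u.val, by have := u.isLt; have := r.isLt; omega⟩ := by
  classical
  have h2 := Finset.orderEmbOfFin_unique (card_compl_of r (idSet r) (idSet_card r))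
    (f := fun u : Fin (d - r.val) =>
      (⟨r.val + 1 + u.val, by have := u.isLt; have := r.isLt; omega⟩ : Fin (d + 1)))
    (fun u => by
      simp only [idSet, Finset.mem_compl, Finset.mem_filter, Finset.mem_univ, true_and]
      omega)
    (fun u u' huu' => by rw [Fin.lt_def] at huu' ⊢; show r.val + 1 + u.val < r.val + 1 + u'.val; omega)
  exact (congrFun h2 u).symm

lemma shuffleI_idSet (i j : Idx d n) (r : Fin d) :
    shuffleI i j r (idSet r) (idSet_card r) = i.1 := by
  funext t
  by_cases h : t.val ≤ r.val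
  · rw [shuffleI_le i j r _ _ t h, idSet_emb, mov_le i j r _ h]
  · rw [shuffleI_gt i j r _ _ t h]

lemma shuffleJ_idSet (i j : Idx d n) (r : Fin d) :
    shuffleJ i j r (idSet r) (idSet_card r) = j.1 := by
  funext t
  by_cases h : t.val < r.val
  · rw [shuffleJ_lt i j r _ _ t h]
  · rw [shuffleJ_ge i j r _ _ t h, idSet_compl_emb, mov_gt i j r _ (by
      show ¬ r.val + 1 + (t.val - r.val) ≤ r.val; omega)]
    exact congrArg j.1 (Fin.ext (by
      show r.val + 1 + (t.val - r.val) - 1 = t.val
      omega))

lemma shuffleSign_idSet (r : Fin d) : shuffleSign r (idSet r) = 0 := by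
  classical
  unfold shuffleSign
  have h1 : ∑ a ∈ idSet r, a.val = ∑ u : Fin (r.val + 1), u.val := by
    rw [← sum_orderEmbOfFin (idSet r) (idSet_card r) (fun a => a.val)]
    exact Finset.sum_congr rfl fun u _ => by rw [idSet_emb]
  rw [h1, Fin.sum_univ_eq_sum_range (fun k => k) (r.val + 1), Finset.sum_range_id]
  have : (r.val + 1) * (r.val + 1 - 1) / 2 = r.val * (r.val + 1) / 2 := by
    rw [Nat.add_sub_cancel, Nat.mul_comm]
  rw [this, Nat.sub_self]

/-- Weights of the shuffled tuples: total is preserved. -/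
lemma wtT_shuffle_add (i j : Idx d n) (r : Fin d) (A : Finset (Fin (d + 1)))
    (hA : A.card = r.val + 1) :
    wtT (shuffleI i j r A hA) + wtT (shuffleJ i j r A hA) = wt i + wt j := by
  rw [wtT_shuffle_total i j r A hA, ← wtT_shuffle_total i j r (idSet r) (idSet_card r),
    shuffleI_idSet, shuffleJ_idSet]
  rfl

/-- Weights of the shuffled tuples: a nontrivial shuffle strictly increases the first weight. -/
lemma wt_lt_wtT_shuffleI (i j : Idx d n) (r : Fin d) (hp : i.1 r < j.1 r)
    (A : Finset (Fin (d + 1))) (hA : A.card = r.val + 1) (hne : A ≠ idSet r) :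
    wt i < wtT (shuffleI i j r A hA) := by
  classical
  have h0 : wt i = wtT (shuffleI i j r (idSet r) (idSet_card r)) := by
    rw [shuffleI_idSet]; rfl
  rw [h0, wtT_shuffleI i j r A hA, wtT_shuffleI i j r (idSet r) (idSet_card r)]
  apply Nat.add_lt_add_right
  have hmono := mov_strictMono i j r hp
  have hle : ∀ u : Fin (r.val + 1),
      (movingRows i j r ((idSet r).orderEmbOfFin (idSet_card r) u)).val ≤
        (movingRows i j r (A.orderEmbOfFin hA u)).val := by
    intro u
    have h1 : (idSet r).orderEmbOfFin (idSet_card r) u ≤ A.orderEmbOfFin hA u := by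
      rw [idSet_emb, Fin.le_def]
      exact val_le_of_strictMono _ (A.orderEmbOfFin hA).strictMono u
    exact Fin.le_def.mp (hmono.monotone h1)
  have hex : ∃ u : Fin (r.val + 1), (idSet r).orderEmbOfFin (idSet_card r) u ≠
      A.orderEmbOfFin hA u := by
    by_contra hcon
    push Not at hcon
    apply hne
    rw [← Finset.image_orderEmbOfFin_univ A hA,
      ← Finset.image_orderEmbOfFin_univ (idSet r) (idSet_card r)]
    exact Finset.image_congr fun u _ => (hcon u).symm
  obtain ⟨u₀, hu₀⟩ := hex
  refine Finset.sum_lt_sum (fun u _ => hle u) ⟨u₀, Finset.mem_univ _, ?_⟩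
  have h1 : (idSet r).orderEmbOfFin (idSet_card r) u₀ < A.orderEmbOfFin hA u₀ := by
    refine lt_of_le_of_ne ?_ hu₀
    rw [idSet_emb, Fin.le_def]
    exact val_le_of_strictMono _ (A.orderEmbOfFin hA).strictMono u₀
  exact Fin.lt_def.mp (hmono h1)

end Groth.Agent.Helper8.SMT
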