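import Mathlib
import Groth.Prelude.Def_W4bk4grassmannianPl
import Groth.Agent.Helper8.SMT1a

set_option autoImplicit false

namespace Groth.Agent.Helper8.SMT

open W4bk4grassmannian MvPolynomial

universe u

variable (K : Type u) [CommRing K] {d n : ℕ}

lemma coord_strictMono' (a : Fin d → Fin n) (ha : StrictMono a) :
    coord K d n a = X (⟨a, ha⟩ : Idx d n) := by
  have hcard := PluckerQ.card_image_of_strictMono a ha
  have hinv : invCount d n a = 0 := by
    unfold invCount
    rw [Finset.card_eq_zero, Finset.filter_eq_empty_iff]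
    intro p _ hp
    exact absurd (ha hp.1) (not_lt.mpr hp.2.le)
  have hs : sortIdx d n a hcard = ⟨a, ha⟩ :=
    Subtype.ext (PluckerQ.strictMono_eq_of_image_eq _ _ (sortIdx d n a hcard).2 ha
      (PluckerQ.image_sortIdx a hcard))
  unfold coord
  rw [dif_pos hcard, hinv, pow_zero, one_mul, hs]

lemma coord_cases (a : Fin d → Fin n) :
    coord K d n a = 0 ∨ ∃ h : (Finset.univ.image a).card = d,
      coord K d n a = (-1 : PlRing K d n) ^ invCount d n a * X (sortIdx d n a h) := by
  unfold coord
  by_cases h : (Finset.univ.image a).card = d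
  · right; exact ⟨h, by rw [dif_pos h]⟩
  · left; rw [dif_neg h]

lemma shuffleTerm_idSet (i j : Idx d n) (r : Fin d) :
    shuffleTerm K i j r (idSet r) = X i * X j := by
  unfold shuffleTerm
  rw [dif_pos (idSet_card r), shuffleSign_idSet, pow_zero, one_mul, shuffleI_idSet,
    shuffleJ_idSet, coord_strictMono' K i.1 i.2, coord_strictMono' K j.1 j.2]

/-- Degree of a monomial exponent. -/
def deg (s : Idx d n →₀ ℕ) : ℕ := s.sum fun _ k => k

/-- The straightening measure. -/
def Phi (s : Idx d n →₀ ℕ) : ℕ := s.sum fun τ k => k * (wt τ) ^ 2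

lemma deg_add (s t : Idx d n →₀ ℕ) : deg (s + t) = deg s + deg t :=
  Finsupp.sum_add_index' (fun _ => rfl) (fun _ _ _ => rfl)

lemma deg_single (τ : Idx d n) (k : ℕ) : deg (Finsupp.single τ k) = k :=
  Finsupp.sum_single_index rfl

lemma Phi_add (s t : Idx d n →₀ ℕ) : Phi (s + t) = Phi s + Phi t :=
  Finsupp.sum_add_index' (fun _ => by simp) (fun _ _ _ => by ring)

lemma Phi_single (τ : Idx d n) (k : ℕ) : Phi (Finsupp.single τ k) = k * wt τ ^ 2 :=
  Finsupp.sum_single_index (by simp)

lemma Phi_le (s : Idx d n →₀ ℕ) : Phi s ≤ deg s * (d * n) ^ 2 := by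
  unfold Phi deg Finsupp.sum
  rw [Finset.sum_mul]
  exact Finset.sum_le_sum fun τ _ => Nat.mul_le_mul_left _ (Nat.pow_le_pow_left (wt_le τ) 2)

lemma deg_eq_zero (s : Idx d n →₀ ℕ) (h : deg s = 0) : s = 0 := by
  unfold deg Finsupp.sum at h
  rw [Finset.sum_eq_zero_iff] at h
  ext x
  by_cases hx : x ∈ s.support
  · exact absurd (h x hx) (Finsupp.mem_support_iff.mp hx)
  · rw [Finsupp.notMem_support_iff.mp hx]; rfl

lemma sq_lemma (a b a' b' : ℕ) (h1 : a < a') (h2 : b ≤ a) (h3 : a' + b' = a + b) :
    a ^ 2 + b ^ 2 < a' ^ 2 + b' ^ 2 := by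
  obtain ⟨δ, rfl⟩ : ∃ δ, a' = a + δ + 1 := ⟨a' - a - 1, by omega⟩
  have hb : b = b' + δ + 1 := by omega
  subst hb
  have h4 : b' < a := by omega
  have h5 : (0:ℤ) < ((δ:ℤ) + 1) * ((a:ℤ) - b') :=
    mul_pos (by positivity) (sub_pos.mpr (by exact_mod_cast h4))
  zify
  nlinarith [h5]

/-- A monomial whose support is a chain is a standard monomial. -/
lemma exists_chain (s : Idx d n →₀ ℕ)
    (hs : ∀ a ∈ s.support, ∀ b ∈ s.support, a ≤ b ∨ b ≤ a) :
    ∃ (m : ℕ) (c : Fin m → Idx d n), Antitone c ∧ (∀ k, c k ∈ s.support) ∧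
      chainMon K c = monomial s 1 := by
  classical
  obtain ⟨N, hN⟩ : ∃ N, deg s = N := ⟨_, rfl⟩
  induction N generalizing s with
  | zero =>
    have h0 := deg_eq_zero s hN
    refine ⟨0, Fin.elim0, fun a => a.elim0, fun k => k.elim0, ?_⟩
    rw [h0]
    unfold chainMon
    rw [Finset.univ_eq_empty, Finset.prod_empty]
    rfl
  | succ N ih =>
    have hne : s.support.Nonempty := by
      rw [Finset.nonempty_iff_ne_empty, Ne, Finsupp.support_eq_empty]
      rintro rfl
      simp [deg] at hN
    obtain ⟨τ, hτ⟩ := s.support.exists_maximal hne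
    have hτs : τ ∈ s.support := hτ.1
    have hτmax : ∀ x ∈ s.support, x ≤ τ := by
      intro x hx
      rcases hs x hx τ hτs with h | h
      · exact h
      · exact hτ.2 hx h
    have hs1 : 1 ≤ s τ := Nat.one_le_iff_ne_zero.mpr (Finsupp.mem_support_iff.mp hτs)
    obtain ⟨s', hs'⟩ : ∃ s' : Idx d n →₀ ℕ, s = s' + Finsupp.single τ 1 := by
      refine ⟨s - Finsupp.single τ 1, ?_⟩
      ext x
      simp only [Finsupp.coe_add, Finsupp.coe_tsub, Pi.add_apply, Pi.sub_apply,
        Finsupp.single_apply]
      by_cases hx : τ = x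
      · subst hx; simp; omega
      · simp [hx]
    have hsub : s'.support ⊆ s.support := by
      intro x hx
      rw [Finsupp.mem_support_iff] at hx ⊢
      rw [hs', Finsupp.add_apply]
      omega
    have hdeg : deg s' = N := by
      have h1 := hN
      rw [hs', deg_add, deg_single] at h1
      omega
    obtain ⟨m, c, hc, hcs, hcm⟩ := ih s' (fun a ha b hb => hs a (hsub ha) b (hsub hb)) hdeg
    refine ⟨m + 1, Fin.cons τ c, ?_, ?_, ?_⟩
    · intro a b hab
      induction a using Fin.cases with
      | zero =>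
        induction b using Fin.cases with
        | zero => exact le_rfl
        | succ b => rw [Fin.cons_zero, Fin.cons_succ]; exact hτmax _ (hsub (hcs b))
      | succ a =>
        induction b using Fin.cases with
        | zero => exact absurd (Fin.le_zero_iff.mp hab) (Fin.succ_ne_zero a)
        | succ b => rw [Fin.cons_succ, Fin.cons_succ]; exact hc (Fin.succ_le_succ_iff.mp hab)
    · intro k
      induction k using Fin.cases with
      | zero => rw [Fin.cons_zero]; exact hτs
      | succ k => rw [Fin.cons_succ]; exact hsub (hcs k)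
    · unfold chainMon at hcm ⊢
      rw [Fin.prod_univ_succ]
      simp only [Fin.cons_zero, Fin.cons_succ]
      rw [hcm, hs', monomial_add_single, pow_one, mul_comm]

/-- The span of the standard monomials in the quotient by the shuffle relations. -/
noncomputable def stdSpan : Submodule K (PlRing K d n ⧸ plIdealTop (d := d) (n := n) K) :=
  Submodule.span K (Set.range fun c : (Σ m : ℕ, {c : Fin m → Idx d n // Antitone c}) =>
    Ideal.Quotient.mk (plIdealTop (d := d) (n := n) K) (chainMon K c.2.1))

/-- Its preimage in the Plücker polynomial ring. -/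
noncomputable def stdPre : Submodule K (PlRing K d n) :=
  Submodule.comap (Ideal.Quotient.mkₐ K (plIdealTop (d := d) (n := n) K)).toLinearMap
    (stdSpan K)

lemma mem_stdPre (f : PlRing K d n) :
    f ∈ stdPre K (d := d) (n := n) ↔
      Ideal.Quotient.mk (plIdealTop (d := d) (n := n) K) f ∈ stdSpan K := Iff.rfl

lemma ideal_le_stdPre (f : PlRing K d n) (hf : f ∈ plIdealTop (d := d) (n := n) K) :
    f ∈ stdPre K (d := d) (n := n) := by
  rw [mem_stdPre, Ideal.Quotient.eq_zero_iff_mem.mpr hf]
  exact zero_mem _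

lemma chainMon_mem (m : ℕ) (c : Fin m → Idx d n) (hc : Antitone c) :
    chainMon K c ∈ stdPre K (d := d) (n := n) :=
  Submodule.subset_span ⟨⟨m, c, hc⟩, rfl⟩

theorem monomial_mem_stdPre : ∀ (N : ℕ) (s : Idx d n →₀ ℕ),
    deg s * (d * n) ^ 2 - Phi s = N → monomial s (1 : K) ∈ stdPre K (d := d) (n := n) := by
  classical
  intro N
  induction N using Nat.strong_induction_on with
  | _ N ih =>
  intro s hs
  by_cases hchain : ∀ a ∈ s.support, ∀ b ∈ s.support, a ≤ b ∨ b ≤ a
  · obtain ⟨m, c, hc, -, hcs⟩ := exists_chain K s hchain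
    rw [← hcs]
    exact chainMon_mem K m c hc
  · push Not at hchain
    obtain ⟨a, ha, b, hb, hab, hba⟩ := hchain
    obtain ⟨i, j, hi, hj, hij, hji, hwt⟩ : ∃ i j : Idx d n, i ∈ s.support ∧ j ∈ s.support ∧
        ¬ i ≤ j ∧ ¬ j ≤ i ∧ wt j ≤ wt i := by
      rcases le_total (wt b) (wt a) with h | h
      · exact ⟨a, b, ha, hb, hab, hba, h⟩
      · exact ⟨b, a, hb, ha, hba, hab, h⟩
    have hex : ∃ t : Fin d, i.1 t < j.1 t := by
      by_contra hcon
      push Not at hcon
      exact hji (fun t => hcon t)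
    obtain ⟨r, hr, hrmin⟩ : ∃ r : Fin d, i.1 r < j.1 r ∧ ∀ t : Fin d, t < r → j.1 t ≤ i.1 t := by
      obtain ⟨S, hS⟩ : ∃ S : Finset (Fin d), S = Finset.univ.filter (fun t : Fin d => i.1 t < j.1 t) :=
        ⟨_, rfl⟩
      have hSmem : ∀ t, t ∈ S ↔ i.1 t < j.1 t := fun t => by
        rw [hS, Finset.mem_filter]
        exact ⟨fun h => h.2, fun h => ⟨Finset.mem_univ _, h⟩⟩
      have hSne : S.Nonempty := by
        obtain ⟨t, ht⟩ := hex
        exact ⟨t, (hSmem t).mpr ht⟩
      refine ⟨S.min' hSne, (hSmem _).mp (S.min'_mem hSne), fun t ht => ?_⟩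
      by_contra hcon
      rw [not_le] at hcon
      have h1 := S.min'_le t ((hSmem t).mpr hcon)
      exact absurd ht (not_lt.mpr h1)
    have hpiv : IsPivot i j r := ⟨hrmin, hr⟩
    have hrel : shuffleRel K i j r ∈ plIdealTop (d := d) (n := n) K :=
      Ideal.subset_span ⟨i, j, r, hpiv, rfl⟩
    have hne : i ≠ j := fun h => hij (h ▸ le_rfl)
    have hi1 : 1 ≤ s i := Nat.one_le_iff_ne_zero.mpr (Finsupp.mem_support_iff.mp hi)
    have hj1 : 1 ≤ s j := Nat.one_le_iff_ne_zero.mpr (Finsupp.mem_support_iff.mp hj)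
    obtain ⟨s₀, hs₀⟩ : ∃ s₀ : Idx d n →₀ ℕ,
        s = s₀ + Finsupp.single i 1 + Finsupp.single j 1 := by
      refine ⟨s - Finsupp.single i 1 - Finsupp.single j 1, ?_⟩
      ext x
      simp only [Finsupp.coe_add, Finsupp.coe_tsub, Pi.add_apply, Pi.sub_apply,
        Finsupp.single_apply]
      by_cases hxi : i = x
      · subst hxi
        have hji' : ¬ j = i := fun h => hne h.symm
        simp [hji']
        omega
      · by_cases hxj : j = x
        · subst hxj
          simp [hxi]
          omega
        · simp [hxi, hxj]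
    have hmon : monomial s (1:K) = monomial s₀ 1 * (X i * X j) := by
      rw [hs₀, monomial_add_single, monomial_add_single, pow_one, pow_one, mul_assoc]
    have hexp : (X i * X j : PlRing K d n) = shuffleRel K i j r -
        ∑ A ∈ Finset.univ.erase (idSet r), shuffleTerm K i j r A := by
      unfold shuffleRel
      rw [← Finset.add_sum_erase Finset.univ _ (Finset.mem_univ (idSet r)), shuffleTerm_idSet]
      ring
    rw [hmon, hexp, mul_sub]
    refine Submodule.sub_mem _ (ideal_le_stdPre K _ (Ideal.mul_mem_left _ _ hrel)) ?_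
    rw [Finset.mul_sum]
    refine Submodule.sum_mem _ fun A hA => ?_
    have hAne : A ≠ idSet r := (Finset.mem_erase.mp hA).1
    unfold shuffleTerm
    by_cases hAc : A.card = r.val + 1
    · rw [dif_pos hAc]
      rcases coord_cases K (shuffleI i j r A hAc) with h1 | ⟨hI, h1⟩
      · rw [h1, mul_zero, zero_mul, mul_zero]; exact zero_mem _
      rcases coord_cases K (shuffleJ i j r A hAc) with h2 | ⟨hJ, h2⟩
      · rw [h2, mul_zero, mul_zero]; exact zero_mem _
      rw [h1, h2]
      obtain ⟨i', hi'⟩ : ∃ i' : Idx d n, i' = sortIdx d n _ hI := ⟨_, rfl⟩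
      obtain ⟨j', hj'⟩ : ∃ j' : Idx d n, j' = sortIdx d n _ hJ := ⟨_, rfl⟩
      rw [← hi', ← hj']
      have hw1 : wt i < wt i' := by
        rw [hi', wt_sortIdx]; exact wt_lt_wtT_shuffleI i j r hr A hAc hAne
      have hw2 : wt i' + wt j' = wt i + wt j := by
        rw [hi', hj', wt_sortIdx, wt_sortIdx]; exact wtT_shuffle_add i j r A hAc
      have hkey : monomial (s₀ + Finsupp.single i' 1 + Finsupp.single j' 1) (1:K) ∈
          stdPre K (d := d) (n := n) := by
        refine ih _ ?_ _ rfl
        have hd1 : deg (s₀ + Finsupp.single i' 1 + Finsupp.single j' 1) = deg s := by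
          rw [hs₀, deg_add, deg_add, deg_add, deg_add, deg_single, deg_single, deg_single,
            deg_single]
        have hP1 : Phi (s₀ + Finsupp.single i' 1 + Finsupp.single j' 1) =
            Phi s₀ + wt i' ^ 2 + wt j' ^ 2 := by
          rw [Phi_add, Phi_add, Phi_single, Phi_single, one_mul, one_mul]
        have hP2 : Phi s = Phi s₀ + wt i ^ 2 + wt j ^ 2 := by
          rw [hs₀, Phi_add, Phi_add, Phi_single, Phi_single, one_mul, one_mul]
        have hP3 := Phi_le (s₀ + Finsupp.single i' 1 + Finsupp.single j' 1)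
        have hsq := sq_lemma (wt i) (wt j) (wt i') (wt j') hw1 hwt hw2
        rw [hd1] at hP3 ⊢
        omega
      have heq : monomial s₀ (1:K) * ((-1) ^ shuffleSign r A *
          ((-1) ^ invCount d n (shuffleI i j r A hAc) * X i') *
          ((-1) ^ invCount d n (shuffleJ i j r A hAc) * X j')) =
          ((-1) ^ shuffleSign r A * (-1) ^ invCount d n (shuffleI i j r A hAc) *
            (-1) ^ invCount d n (shuffleJ i j r A hAc)) *
            monomial (s₀ + Finsupp.single i' 1 + Finsupp.single j' 1) (1:K) := by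
        rw [monomial_add_single, monomial_add_single, pow_one, pow_one]; ring
      rw [heq, ← pow_add, ← pow_add]
      rcases neg_one_pow_eq_or (PlRing K d n) (shuffleSign r A +
        invCount d n (shuffleI i j r A hAc) + invCount d n (shuffleJ i j r A hAc)) with h | h
      · rw [h, one_mul]; exact hkey
      · rw [h, neg_one_mul]; exact Submodule.neg_mem _ hkey
    · rw [dif_neg hAc, mul_zero]; exact zero_mem _

theorem s11251 (K : Type u) [CommRing K] (d n : ℕ) :
    Submodule.span K (Set.range fun c : (Σ m : ℕ, {c : Fin m → Idx d n // Antitone c}) =>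
        Ideal.Quotient.mk (plIdealTop (d := d) (n := n) K) (chainMon K c.2.1)) = ⊤ := by
  rw [Submodule.eq_top_iff']
  intro x
  obtain ⟨f, rfl⟩ := Ideal.Quotient.mk_surjective x
  have hall : ∀ f : PlRing K d n, f ∈ stdPre K (d := d) (n := n) := by
    intro f
    refine MvPolynomial.induction_on' f ?_ ?_
    · intro u a
      have h1 : monomial u a = a • monomial u (1:K) := by
        rw [smul_monomial, smul_eq_mul, mul_one]
      rw [h1]
      exact Submodule.smul_mem _ _ (monomial_mem_stdPre K _ u rfl)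
    · intro p q hp hq
      exact Submodule.add_mem _ hp hq
  exact hall f

end Groth.Agent.Helper8.SMT
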