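import Mathlib
import Groth.Prelude.Def_W4bk4grassmannianPl
import Groth.Agent.Helper8.SMT1a
import Groth.Agent.Helper8.AdjAlt

set_option autoImplicit false

namespace Groth.Agent.Helper8.SMT2

open W4bk4grassmannian Groth.Agent.Helper8.SMT Function

universe u

section abstract

variable {R : Type*} [CommRing R] {d : ℕ}

/-- The first matrix: moving vectors at the positions `A` in the first `r + 1` rows. -/
def MI (r : Fin d) (P : Fin d → Fin d → R) (v : Fin (d + 1) → Fin d → R)
    (A : Finset (Fin (d + 1))) (hA : A.card = r.val + 1) : Matrix (Fin d) (Fin d) R :=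
  fun t => if h : t.val ≤ r.val then v (A.orderEmbOfFin hA ⟨t.val, by omega⟩) else P t

/-- The second matrix: moving vectors at the positions outside `A` in the last `d - r` rows. -/
def MJ (r : Fin d) (Q : Fin d → Fin d → R) (v : Fin (d + 1) → Fin d → R)
    (A : Finset (Fin (d + 1))) (hA : A.card = r.val + 1) : Matrix (Fin d) (Fin d) R :=
  fun t => if h : t.val < r.val then Q t
    else v (Aᶜ.orderEmbOfFin (card_compl_of r A hA) ⟨t.val - r.val, by have := t.isLt; omega⟩)

lemma MI_row_le (r : Fin d) (P : Fin d → Fin d → R) (v : Fin (d + 1) → Fin d → R)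
    (A : Finset (Fin (d + 1))) (hA : A.card = r.val + 1) (t : Fin d) (u : Fin (r.val + 1))
    (hu : t.val = u.val) : MI r P v A hA t = v (A.orderEmbOfFin hA u) := by
  have h : t.val ≤ r.val := by have := u.isLt; omega
  show (if h : t.val ≤ r.val then v (A.orderEmbOfFin hA ⟨t.val, by omega⟩) else P t) = _
  rw [dif_pos h]
  exact congrArg (fun x => v (A.orderEmbOfFin hA x)) (Fin.ext hu)

lemma MI_row_gt (r : Fin d) (P : Fin d → Fin d → R) (v : Fin (d + 1) → Fin d → R)
    (A : Finset (Fin (d + 1))) (hA : A.card = r.val + 1) (t : Fin d)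
    (h : ¬ t.val ≤ r.val) : MI r P v A hA t = P t := by
  show (if h : t.val ≤ r.val then v (A.orderEmbOfFin hA ⟨t.val, by omega⟩) else P t) = _
  rw [dif_neg h]

lemma MJ_row_lt (r : Fin d) (Q : Fin d → Fin d → R) (v : Fin (d + 1) → Fin d → R)
    (A : Finset (Fin (d + 1))) (hA : A.card = r.val + 1) (t : Fin d)
    (h : t.val < r.val) : MJ r Q v A hA t = Q t := by
  show (if h : t.val < r.val then Q t
    else v (Aᶜ.orderEmbOfFin (card_compl_of r A hA)
      ⟨t.val - r.val, by have := t.isLt; omega⟩)) = _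
  rw [dif_pos h]

lemma MJ_row_ge (r : Fin d) (Q : Fin d → Fin d → R) (v : Fin (d + 1) → Fin d → R)
    (A : Finset (Fin (d + 1))) (hA : A.card = r.val + 1) (t : Fin d) (u : Fin (d - r.val))
    (hu : t.val = r.val + u.val) :
    MJ r Q v A hA t = v (Aᶜ.orderEmbOfFin (card_compl_of r A hA) u) := by
  have h : ¬ t.val < r.val := by omega
  show (if h : t.val < r.val then Q t
    else v (Aᶜ.orderEmbOfFin (card_compl_of r A hA)
      ⟨t.val - r.val, by have := t.isLt; omega⟩)) = _
  rw [dif_neg h]
  exact congrArg (fun x => v (Aᶜ.orderEmbOfFin (card_compl_of r A hA) x))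
    (Fin.ext (by show t.val - r.val = u.val; omega))

/-! ### Updating one moving vector -/

lemma MI_update_mem (r : Fin d) (P : Fin d → Fin d → R) (v : Fin (d + 1) → Fin d → R)
    (A : Finset (Fin (d + 1))) (hA : A.card = r.val + 1) (m : Fin (d + 1)) (hm : m ∈ A) :
    ∃ p : Fin d, ∀ z : Fin d → R,
      MI r P (update v m z) A hA = (MI r P v A hA).updateRow p z := by
  have hm' : m ∈ Set.range (A.orderEmbOfFin hA) := by
    rw [Finset.range_orderEmbOfFin]; exact Finset.mem_coe.mpr hm
  obtain ⟨u, hu⟩ := hm'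
  have hp : u.val < d := by have := u.isLt; have := r.isLt; omega
  refine ⟨⟨u.val, hp⟩, fun z => ?_⟩
  ext t c
  by_cases htp : t = ⟨u.val, hp⟩
  · rw [htp, Matrix.updateRow_self, MI_row_le r P _ A hA ⟨u.val, hp⟩ u rfl, hu, update_self]
  · rw [Matrix.updateRow_ne htp]
    by_cases h : t.val ≤ r.val
    · have hne : A.orderEmbOfFin hA ⟨t.val, by omega⟩ ≠ m := by
        intro heq
        rw [← hu] at heq
        have h3 := (A.orderEmbOfFin hA).injective heq
        have h4 : t.val = u.val := congrArg Fin.val h3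
        exact htp (Fin.ext h4)
      rw [MI_row_le r P _ A hA t ⟨t.val, by omega⟩ rfl,
        MI_row_le r P v A hA t ⟨t.val, by omega⟩ rfl, update_of_ne hne]
    · rw [MI_row_gt r P _ A hA t h, MI_row_gt r P v A hA t h]

lemma MJ_update_mem (r : Fin d) (Q : Fin d → Fin d → R) (v : Fin (d + 1) → Fin d → R)
    (A : Finset (Fin (d + 1))) (hA : A.card = r.val + 1) (m : Fin (d + 1)) (hm : m ∈ A)
    (z : Fin d → R) : MJ r Q (update v m z) A hA = MJ r Q v A hA := by
  ext t c
  by_cases h : t.val < r.val
  · rw [MJ_row_lt r Q _ A hA t h, MJ_row_lt r Q v A hA t h]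
  · have hu : t.val = r.val + (t.val - r.val) := by omega
    have hlt : t.val - r.val < d - r.val := by have := t.isLt; omega
    have hne : Aᶜ.orderEmbOfFin (card_compl_of r A hA) ⟨t.val - r.val, hlt⟩ ≠ m := by
      intro heq
      have h3 := Finset.orderEmbOfFin_mem Aᶜ (card_compl_of r A hA) ⟨t.val - r.val, hlt⟩
      rw [heq, Finset.mem_compl] at h3
      exact h3 hm
    rw [MJ_row_ge r Q _ A hA t ⟨t.val - r.val, hlt⟩ hu,
      MJ_row_ge r Q v A hA t ⟨t.val - r.val, hlt⟩ hu, update_of_ne hne]

lemma MJ_update_not_mem (r : Fin d) (Q : Fin d → Fin d → R) (v : Fin (d + 1) → Fin d → R)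
    (A : Finset (Fin (d + 1))) (hA : A.card = r.val + 1) (m : Fin (d + 1)) (hm : m ∉ A) :
    ∃ p : Fin d, ∀ z : Fin d → R,
      MJ r Q (update v m z) A hA = (MJ r Q v A hA).updateRow p z := by
  have hm' : m ∈ Set.range (Aᶜ.orderEmbOfFin (card_compl_of r A hA)) := by
    rw [Finset.range_orderEmbOfFin]; exact Finset.mem_coe.mpr (Finset.mem_compl.mpr hm)
  obtain ⟨u, hu⟩ := hm'
  have hp : r.val + u.val < d := by have := u.isLt; have := r.isLt; omega
  refine ⟨⟨r.val + u.val, hp⟩, fun z => ?_⟩
  ext t c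
  by_cases htp : t = ⟨r.val + u.val, hp⟩
  · rw [htp, Matrix.updateRow_self, MJ_row_ge r Q _ A hA ⟨r.val + u.val, hp⟩ u rfl, hu,
      update_self]
  · rw [Matrix.updateRow_ne htp]
    by_cases h : t.val < r.val
    · rw [MJ_row_lt r Q _ A hA t h, MJ_row_lt r Q v A hA t h]
    · have hu' : t.val = r.val + (t.val - r.val) := by omega
      have hlt : t.val - r.val < d - r.val := by have := t.isLt; omega
      have hne : Aᶜ.orderEmbOfFin (card_compl_of r A hA) ⟨t.val - r.val, hlt⟩ ≠ m := by
        intro heq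
        rw [← hu] at heq
        have h3 := (Aᶜ.orderEmbOfFin (card_compl_of r A hA)).injective heq
        have h4 : t.val - r.val = u.val := congrArg Fin.val h3
        exact htp (Fin.ext (by show t.val = r.val + u.val; omega))
      rw [MJ_row_ge r Q _ A hA t ⟨t.val - r.val, hlt⟩ hu',
        MJ_row_ge r Q v A hA t ⟨t.val - r.val, hlt⟩ hu', update_of_ne hne]

lemma MI_update_not_mem (r : Fin d) (P : Fin d → Fin d → R) (v : Fin (d + 1) → Fin d → R)
    (A : Finset (Fin (d + 1))) (hA : A.card = r.val + 1) (m : Fin (d + 1)) (hm : m ∉ A)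
    (z : Fin d → R) : MI r P (update v m z) A hA = MI r P v A hA := by
  ext t c
  by_cases h : t.val ≤ r.val
  · have hne : A.orderEmbOfFin hA ⟨t.val, by omega⟩ ≠ m := by
      intro heq
      have h3 := Finset.orderEmbOfFin_mem A hA ⟨t.val, by omega⟩
      rw [heq] at h3
      exact hm h3
    rw [MI_row_le r P _ A hA t ⟨t.val, by omega⟩ rfl,
      MI_row_le r P v A hA t ⟨t.val, by omega⟩ rfl, update_of_ne hne]
  · rw [MI_row_gt r P _ A hA t h, MI_row_gt r P v A hA t h]

/-! ### The sum -/

/-- One term of the abstract shuffle sum. -/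
def term (r : Fin d) (P Q : Fin d → Fin d → R) (v : Fin (d + 1) → Fin d → R)
    (A : Finset (Fin (d + 1))) : R :=
  if hA : A.card = r.val + 1 then
    (-1 : R) ^ (∑ a ∈ A, a.val) * (MI r P v A hA).det * (MJ r Q v A hA).det
  else 0

/-- The abstract shuffle sum. -/
def F (r : Fin d) (P Q : Fin d → Fin d → R) (v : Fin (d + 1) → Fin d → R) : R :=
  ∑ A : Finset (Fin (d + 1)), term r P Q v A

lemma term_update_add (r : Fin d) (P Q : Fin d → Fin d → R) (v : Fin (d + 1) → Fin d → R)
    (A : Finset (Fin (d + 1))) (m : Fin (d + 1)) (x y : Fin d → R) :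
    term r P Q (update v m (x + y)) A =
      term r P Q (update v m x) A + term r P Q (update v m y) A := by
  unfold term
  by_cases hA : A.card = r.val + 1
  · rw [dif_pos hA, dif_pos hA, dif_pos hA]
    by_cases hm : m ∈ A
    · obtain ⟨p, hp⟩ := MI_update_mem r P v A hA m hm
      have hq := MJ_update_mem r Q v A hA m hm
      rw [hp, hp, hp, hq, hq, hq, Matrix.det_updateRow_add]
      ring
    · obtain ⟨p, hp⟩ := MJ_update_not_mem r Q v A hA m hm
      have hq := MI_update_not_mem r P v A hA m hm
      rw [hp, hp, hp, hq, hq, hq, Matrix.det_updateRow_add]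
      ring
  · rw [dif_neg hA, dif_neg hA, dif_neg hA, add_zero]

lemma term_update_smul (r : Fin d) (P Q : Fin d → Fin d → R) (v : Fin (d + 1) → Fin d → R)
    (A : Finset (Fin (d + 1))) (m : Fin (d + 1)) (c : R) (x : Fin d → R) :
    term r P Q (update v m (c • x)) A = c * term r P Q (update v m x) A := by
  unfold term
  by_cases hA : A.card = r.val + 1
  · rw [dif_pos hA, dif_pos hA]
    by_cases hm : m ∈ A
    · obtain ⟨p, hp⟩ := MI_update_mem r P v A hA m hm
      have hq := MJ_update_mem r Q v A hA m hm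
      rw [hp, hp, hq, hq, Matrix.det_updateRow_smul]
      ring
    · obtain ⟨p, hp⟩ := MJ_update_not_mem r Q v A hA m hm
      have hq := MI_update_not_mem r P v A hA m hm
      rw [hp, hp, hq, hq, Matrix.det_updateRow_smul]
      ring
  · rw [dif_neg hA, dif_neg hA, mul_zero]

/-- The shuffle sum as a multilinear map of the moving vectors. -/
def Fm (r : Fin d) (P Q : Fin d → Fin d → R) :
    MultilinearMap R (fun _ : Fin (d + 1) => Fin d → R) R where
  toFun := F r P Q
  map_update_add' := by
    intro inst v m x y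
    have hinst : inst = instDecidableEqFin (d + 1) := Subsingleton.elim _ _
    subst hinst
    unfold F
    rw [← Finset.sum_add_distrib]
    exact Finset.sum_congr rfl fun A _ => term_update_add r P Q v A m x y
  map_update_smul' := by
    intro inst v m c x
    have hinst : inst = instDecidableEqFin (d + 1) := Subsingleton.elim _ _
    subst hinst
    unfold F
    rw [smul_eq_mul, Finset.mul_sum]
    exact Finset.sum_congr rfl fun A _ => term_update_smul r P Q v A m c x

/-! ### Adjacent swaps -/

lemma swap_val (a b z : Fin (d + 1)) : (Equiv.swap a b z).val =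
    if z.val = a.val then b.val else if z.val = b.val then a.val else z.val := by
  rw [Equiv.swap_apply_def]
  by_cases h1 : z = a
  · rw [if_pos h1, if_pos (congrArg Fin.val h1)]
  · have h1' : z.val ≠ a.val := fun h => h1 (Fin.ext h)
    rw [if_neg h1, if_neg h1']
    by_cases h2 : z = b
    · rw [if_pos h2, if_pos (congrArg Fin.val h2)]
    · have h2' : z.val ≠ b.val := fun h => h2 (Fin.ext h)
      rw [if_neg h2, if_neg h2']

lemma adj_swap_lt (a b x y : Fin (d + 1)) (hab : a.val + 1 = b.val) (hxy : x < y)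
    (hne : ¬ (x = a ∧ y = b)) : Equiv.swap a b x < Equiv.swap a b y := by
  rw [Fin.lt_def, swap_val a b x, swap_val a b y]
  have hne' : ¬ (x.val = a.val ∧ y.val = b.val) := fun h => hne ⟨Fin.ext h.1, Fin.ext h.2⟩
  rw [Fin.lt_def] at hxy
  split_ifs <;> omega

lemma mem_image_swap (a b : Fin (d + 1)) (A : Finset (Fin (d + 1))) (x : Fin (d + 1)) :
    x ∈ A.image (Equiv.swap a b) ↔ Equiv.swap a b x ∈ A := by
  rw [Finset.mem_image]
  constructor
  · rintro ⟨y, hy, rfl⟩
    rw [Equiv.swap_apply_self]; exact hy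
  · intro h
    exact ⟨_, h, Equiv.swap_apply_self a b x⟩

lemma emb_swap (a b : Fin (d + 1)) (hab : a.val + 1 = b.val) (s s' : Finset (Fin (d + 1)))
    (c : ℕ) (hs : s.card = c) (hs' : s'.card = c)
    (hmem : ∀ x ∈ s, Equiv.swap a b x ∈ s') (hex : ¬ (a ∈ s ∧ b ∈ s)) (u : Fin c) :
    s'.orderEmbOfFin hs' u = Equiv.swap a b (s.orderEmbOfFin hs u) := by
  have hmono : StrictMono (fun u : Fin c => Equiv.swap a b (s.orderEmbOfFin hs u)) := by
    intro u u' huu'
    apply adj_swap_lt a b _ _ hab ((s.orderEmbOfFin hs).strictMono huu')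
    rintro ⟨h1, h2⟩
    exact hex ⟨by rw [← h1]; exact Finset.orderEmbOfFin_mem s hs u,
      by rw [← h2]; exact Finset.orderEmbOfFin_mem s hs u'⟩
  have h3 := Finset.orderEmbOfFin_unique hs'
    (f := fun u => Equiv.swap a b (s.orderEmbOfFin hs u))
    (fun u => hmem _ (Finset.orderEmbOfFin_mem s hs u)) hmono
  exact (congrFun h3 u).symm

lemma sum_image_swap (A : Finset (Fin (d + 1))) (x y : Fin (d + 1)) (hx : x ∈ A) (hy : y ∉ A) :
    ∑ z ∈ A.image (Equiv.swap x y), z.val + x.val = ∑ z ∈ A, z.val + y.val := by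
  rw [Finset.sum_image (fun z _ z' _ h => (Equiv.swap x y).injective h)]
  have e1 := Finset.add_sum_erase A (fun z => (Equiv.swap x y z).val) hx
  have e2 := Finset.add_sum_erase A (fun z : Fin (d + 1) => z.val) hx
  beta_reduce at e1 e2
  rw [Equiv.swap_apply_left] at e1
  have e3 : ∑ z ∈ A.erase x, (Equiv.swap x y z).val = ∑ z ∈ A.erase x, z.val := by
    refine Finset.sum_congr rfl fun z hz => ?_
    rw [Finset.mem_erase] at hz
    rw [Equiv.swap_apply_of_ne_of_ne hz.1 (fun h => hy (by rw [← h]; exact hz.2))]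
  omega

lemma term_zero_of_iff (r : Fin d) (P Q : Fin d → Fin d → R) (a b : Fin (d + 1))
    (v : Fin (d + 1) → Fin d → R) (hv : v a = v b) (hne : a ≠ b)
    (A : Finset (Fin (d + 1))) (h : a ∈ A ↔ b ∈ A) : term r P Q v A = 0 := by
  unfold term
  by_cases hA : A.card = r.val + 1
  · rw [dif_pos hA]
    by_cases ha : a ∈ A
    · have hb : b ∈ A := h.mp ha
      have ha' : a ∈ Set.range (A.orderEmbOfFin hA) := by
        rw [Finset.range_orderEmbOfFin]; exact Finset.mem_coe.mpr ha
      have hb' : b ∈ Set.range (A.orderEmbOfFin hA) := by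
        rw [Finset.range_orderEmbOfFin]; exact Finset.mem_coe.mpr hb
      obtain ⟨u, hu⟩ := ha'
      obtain ⟨u', hu'⟩ := hb'
      have huu' : u ≠ u' := fun e => hne (by rw [← hu, ← hu', e])
      have hp : u.val < d := by have := u.isLt; have := r.isLt; omega
      have hp' : u'.val < d := by have := u'.isLt; have := r.isLt; omega
      have hdet : (MI r P v A hA).det = 0 := by
        refine Matrix.det_zero_of_row_eq (i := ⟨u.val, hp⟩) (j := ⟨u'.val, hp'⟩) ?_ ?_
        · intro e
          have e' : (⟨u.val, hp⟩ : Fin d).val = (⟨u'.val, hp'⟩ : Fin d).val := congrArg Fin.val e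
          exact huu' (Fin.ext e')
        · rw [MI_row_le r P v A hA ⟨u.val, hp⟩ u rfl, MI_row_le r P v A hA ⟨u'.val, hp'⟩ u' rfl,
            hu, hu', hv]
      rw [hdet]; ring
    · have hb : b ∉ A := fun hb => ha (h.mpr hb)
      have ha' : a ∈ Set.range (Aᶜ.orderEmbOfFin (card_compl_of r A hA)) := by
        rw [Finset.range_orderEmbOfFin]; exact Finset.mem_coe.mpr (Finset.mem_compl.mpr ha)
      have hb' : b ∈ Set.range (Aᶜ.orderEmbOfFin (card_compl_of r A hA)) := by
        rw [Finset.range_orderEmbOfFin]; exact Finset.mem_coe.mpr (Finset.mem_compl.mpr hb)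
      obtain ⟨u, hu⟩ := ha'
      obtain ⟨u', hu'⟩ := hb'
      have huu' : u ≠ u' := fun e => hne (by rw [← hu, ← hu', e])
      have hp : r.val + u.val < d := by have := u.isLt; have := r.isLt; omega
      have hp' : r.val + u'.val < d := by have := u'.isLt; have := r.isLt; omega
      have hdet : (MJ r Q v A hA).det = 0 := by
        refine Matrix.det_zero_of_row_eq (i := ⟨r.val + u.val, hp⟩)
          (j := ⟨r.val + u'.val, hp'⟩) ?_ ?_
        · intro e
          have e' : r.val + u.val = r.val + u'.val := congrArg Fin.val e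
          exact huu' (Fin.ext (by omega))
        · rw [MJ_row_ge r Q v A hA ⟨r.val + u.val, hp⟩ u rfl,
            MJ_row_ge r Q v A hA ⟨r.val + u'.val, hp'⟩ u' rfl, hu, hu', hv]
      rw [hdet]; ring
  · rw [dif_neg hA]

lemma term_image_swap (r : Fin d) (P Q : Fin d → Fin d → R) (a b : Fin (d + 1))
    (hab : a.val + 1 = b.val) (v : Fin (d + 1) → Fin d → R) (hv : v a = v b)
    (A : Finset (Fin (d + 1))) (h : ¬ (a ∈ A ↔ b ∈ A)) :
    term r P Q v (A.image (Equiv.swap a b)) = - term r P Q v A := by
  have hσv : ∀ x, v (Equiv.swap a b x) = v x := by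
    intro x
    by_cases h1 : x = a
    · rw [h1, Equiv.swap_apply_left, hv]
    · by_cases h2 : x = b
      · rw [h2, Equiv.swap_apply_right, hv]
      · rw [Equiv.swap_apply_of_ne_of_ne h1 h2]
  have hcard : (A.image (Equiv.swap a b)).card = A.card :=
    Finset.card_image_of_injective _ (Equiv.swap a b).injective
  unfold term
  by_cases hA : A.card = r.val + 1
  · have hA' : (A.image (Equiv.swap a b)).card = r.val + 1 := hcard.trans hA
    rw [dif_pos hA, dif_pos hA']
    have hnot : ¬ (a ∈ A ∧ b ∈ A) := fun hh => h ⟨fun _ => hh.2, fun _ => hh.1⟩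
    have hnotc : ¬ (a ∈ Aᶜ ∧ b ∈ Aᶜ) := by
      rw [Finset.mem_compl, Finset.mem_compl]
      intro hh
      exact h ⟨fun x => absurd x hh.1, fun x => absurd x hh.2⟩
    have hMI : MI r P v (A.image (Equiv.swap a b)) hA' = MI r P v A hA := by
      ext t c
      by_cases ht : t.val ≤ r.val
      · rw [MI_row_le r P v _ hA' t ⟨t.val, by omega⟩ rfl,
          MI_row_le r P v A hA t ⟨t.val, by omega⟩ rfl,
          emb_swap a b hab A _ _ hA hA' (fun x hx => by
            rw [mem_image_swap, Equiv.swap_apply_self]; exact hx) hnot, hσv]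
      · rw [MI_row_gt r P v _ hA' t ht, MI_row_gt r P v A hA t ht]
    have hMJ : MJ r Q v (A.image (Equiv.swap a b)) hA' = MJ r Q v A hA := by
      ext t c
      by_cases ht : t.val < r.val
      · rw [MJ_row_lt r Q v _ hA' t ht, MJ_row_lt r Q v A hA t ht]
      · have hu : t.val = r.val + (t.val - r.val) := by omega
        have hlt : t.val - r.val < d - r.val := by have := t.isLt; omega
        rw [MJ_row_ge r Q v _ hA' t ⟨t.val - r.val, hlt⟩ hu,
          MJ_row_ge r Q v A hA t ⟨t.val - r.val, hlt⟩ hu,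
          emb_swap a b hab Aᶜ _ _ (card_compl_of r A hA) (card_compl_of r _ hA') (fun x hx => by
            rw [Finset.mem_compl, mem_image_swap, Equiv.swap_apply_self]
            exact Finset.mem_compl.mp hx) hnotc, hσv]
    have hsign : (-1 : R) ^ (∑ z ∈ A.image (Equiv.swap a b), z.val) =
        - (-1 : R) ^ (∑ z ∈ A, z.val) := by
      by_cases ha : a ∈ A
      · have hb : b ∉ A := fun hb => h ⟨fun _ => hb, fun _ => ha⟩
        have h5 := sum_image_swap A a b ha hb
        have e : ∑ z ∈ A.image (Equiv.swap a b), z.val = ∑ z ∈ A, z.val + 1 := by omega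
        rw [e, pow_succ]; ring
      · have hb : b ∈ A := by
          by_contra hb
          exact h ⟨fun x => absurd x ha, fun x => absurd x hb⟩
        have h5 := sum_image_swap A b a hb ha
        rw [Equiv.swap_comm] at h5
        have e : ∑ z ∈ A, z.val = ∑ z ∈ A.image (Equiv.swap a b), z.val + 1 := by omega
        rw [e, pow_succ]; ring
    rw [hMI, hMJ, hsign]; ring
  · have hA' : ¬ (A.image (Equiv.swap a b)).card = r.val + 1 := by rw [hcard]; exact hA
    rw [dif_neg hA, dif_neg hA', neg_zero]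

lemma F_adj (r : Fin d) (P Q : Fin d → Fin d → R) (a b : Fin (d + 1))
    (hab : a.val + 1 = b.val) (v : Fin (d + 1) → Fin d → R) (hv : v a = v b) :
    F r P Q v = 0 := by
  have hne : a ≠ b := fun e => by rw [e] at hab; omega
  unfold F
  refine Finset.sum_ninvolution (fun A => A.image (Equiv.swap a b)) ?_ ?_
    (fun A => Finset.mem_univ _) ?_
  · intro A
    by_cases h : a ∈ A ↔ b ∈ A
    · rw [term_zero_of_iff r P Q a b v hv hne A h,
        term_zero_of_iff r P Q a b v hv hne _ (by
          rw [mem_image_swap, mem_image_swap, Equiv.swap_apply_left, Equiv.swap_apply_right]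
          exact h.symm), add_zero]
    · rw [term_image_swap r P Q a b hab v hv A h, add_neg_cancel]
  · intro A hA0 hfix
    apply hA0
    apply term_zero_of_iff r P Q a b v hv hne A
    constructor
    · intro ha
      have h1 : b ∈ A.image (Equiv.swap a b) := by
        rw [mem_image_swap, Equiv.swap_apply_right]; exact ha
      rw [hfix] at h1; exact h1
    · intro hb
      have h1 : a ∈ A.image (Equiv.swap a b) := by
        rw [mem_image_swap, Equiv.swap_apply_left]; exact hb
      rw [hfix] at h1; exact h1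
  · intro A
    ext x
    rw [mem_image_swap, mem_image_swap, Equiv.swap_apply_self]

/-- The abstract shuffle identity. -/
theorem F_eq_zero (r : Fin d) (P Q : Fin d → Fin d → R) (v : Fin (d + 1) → Fin d → R) :
    F r P Q v = 0 :=
  AdjAlt.eq_zero_of_adjacent (Fm r P Q)
    (fun k w hw => F_adj r P Q k.castSucc k.succ (by rw [Fin.val_succ]; rfl) w hw) v

lemma sum_ge (r : Fin d) (A : Finset (Fin (d + 1))) (hA : A.card = r.val + 1) :
    r.val * (r.val + 1) / 2 ≤ ∑ a ∈ A, a.val := by
  rw [← sum_orderEmbOfFin A hA (fun a => a.val)]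
  have h1 : ∑ u : Fin (r.val + 1), u.val ≤ ∑ u : Fin (r.val + 1), (A.orderEmbOfFin hA u).val :=
    Finset.sum_le_sum fun u _ => val_le_of_strictMono _ (A.orderEmbOfFin hA).strictMono u
  rw [Fin.sum_univ_eq_sum_range (fun k => k) (r.val + 1), Finset.sum_range_id] at h1
  have h2 : (r.val + 1) * (r.val + 1 - 1) / 2 = r.val * (r.val + 1) / 2 := by
    rw [Nat.add_sub_cancel, Nat.mul_comm]
  rw [h2] at h1
  exact h1

end abstract

section field

variable {K : Type u} [Field K] {d n : ℕ}

/-- The shuffle relations vanish at the minors of every matrix. -/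
theorem evalMinors_shuffleRel (A : Matrix (Fin n) (Fin d) K) (i j : Idx d n) (r : Fin d) :
    evalMinors K d n A (shuffleRel K i j r) = 0 := by
  classical
  obtain ⟨P, hP⟩ : ∃ P : Fin d → Fin d → K, P = fun t => A (i.1 t) := ⟨_, rfl⟩
  obtain ⟨Q, hQ⟩ : ∃ Q : Fin d → Fin d → K, Q = fun t => A (j.1 t) := ⟨_, rfl⟩
  obtain ⟨v, hv⟩ : ∃ v : Fin (d + 1) → Fin d → K, v = fun k => A (movingRows i j r k) :=
    ⟨_, rfl⟩
  have hterm : ∀ A₁ : Finset (Fin (d + 1)), evalMinors K d n A (shuffleTerm K i j r A₁) =
      (-1 : K) ^ (r.val * (r.val + 1) / 2) * term r P Q v A₁ := by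
    intro A₁
    unfold shuffleTerm term
    by_cases hA : A₁.card = r.val + 1
    · rw [dif_pos hA, dif_pos hA, map_mul, map_mul, map_pow, map_neg, map_one]
      have e1 : evalMinors K d n A (coord K d n (shuffleI i j r A₁ hA)) =
          (MI r P v A₁ hA).det := by
        refine (PluckerQ.eval_coord_minors A (shuffleI i j r A₁ hA)).trans ?_
        congr 1
        ext t c
        rw [Matrix.submatrix_apply]
        by_cases ht : t.val ≤ r.val
        · rw [MI_row_le r P v A₁ hA t ⟨t.val, by omega⟩ rfl, shuffleI_le i j r A₁ hA t ht, hv]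
          rfl
        · rw [MI_row_gt r P v A₁ hA t ht, shuffleI_gt i j r A₁ hA t ht, hP]
          rfl
      have e2 : evalMinors K d n A (coord K d n (shuffleJ i j r A₁ hA)) =
          (MJ r Q v A₁ hA).det := by
        refine (PluckerQ.eval_coord_minors A (shuffleJ i j r A₁ hA)).trans ?_
        congr 1
        ext t c
        rw [Matrix.submatrix_apply]
        by_cases ht : t.val < r.val
        · rw [MJ_row_lt r Q v A₁ hA t ht, shuffleJ_lt i j r A₁ hA t ht, hQ]
          rfl
        · have hu : t.val = r.val + (t.val - r.val) := by omega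
          have hlt : t.val - r.val < d - r.val := by have := t.isLt; omega
          rw [MJ_row_ge r Q v A₁ hA t ⟨t.val - r.val, hlt⟩ hu, shuffleJ_ge i j r A₁ hA t ht, hv]
          rfl
      have hs : (-1 : K) ^ shuffleSign r A₁ =
          (-1 : K) ^ (r.val * (r.val + 1) / 2) * (-1 : K) ^ (∑ a ∈ A₁, a.val) := by
        obtain ⟨e, he⟩ := Nat.exists_eq_add_of_le (sum_ge r A₁ hA)
        unfold shuffleSign
        rw [he, Nat.add_sub_cancel_left, pow_add, ← mul_assoc, ← pow_add,
          Even.neg_one_pow ⟨_, rfl⟩, one_mul]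
      rw [e1, e2, hs]
      ring
    · rw [dif_neg hA, dif_neg hA, map_zero, mul_zero]
  unfold shuffleRel
  rw [map_sum, Finset.sum_congr rfl (fun A₁ _ => hterm A₁), ← Finset.mul_sum]
  have hF : ∑ A₁ : Finset (Fin (d + 1)), term r P Q v A₁ = 0 := F_eq_zero r P Q v
  rw [hF, mul_zero]

/-- The shuffle relations lie in every Schubert vanishing ideal. -/
theorem shuffleRel_mem (τ : Idx d n) (i j : Idx d n) (r : Fin d) :
    shuffleRel K i j r ∈ schubertVanishing K d n τ := by
  unfold schubertVanishing
  rw [Ideal.mem_iInf]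
  intro A
  rw [Ideal.mem_iInf]
  intro _
  rw [RingHom.mem_ker]
  exact evalMinors_shuffleRel A i j r

/-- The ideal of the shuffle relations lies in every Schubert vanishing ideal. -/
theorem plIdealTop_le (τ : Idx d n) :
    plIdealTop (d := d) (n := n) K ≤ schubertVanishing K d n τ := by
  unfold plIdealTop
  rw [Ideal.span_le]
  rintro f ⟨i, j, r, -, rfl⟩
  exact shuffleRel_mem τ i j r

end field

end Groth.Agent.Helper8.SMT2
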