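import Mathlib
import Groth.Prelude.Def_W4bk4grassmannianPl
import Groth.Agent.Helper8.SMT1b
import Groth.Agent.Helper8.SMT2

set_option autoImplicit false

namespace Groth.Agent.Helper8.SMT3

open W4bk4grassmannian MvPolynomial

universe u

/-! ### A determinant with a large zero block vanishes -/

theorem det_eq_zero_of_block {R : Type*} [CommRing R] {d : ℕ} (M : Matrix (Fin d) (Fin d) R)
    (t₀ : Fin d) (h : ∀ s t : Fin d, t₀ ≤ s → t ≤ t₀ → M s t = 0) : M.det = 0 := by
  rw [Matrix.det_apply]
  refine Finset.sum_eq_zero fun σ _ => ?_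
  have hex : ∃ t : Fin d, t ≤ t₀ ∧ t₀ ≤ σ t := by
    by_contra hcon
    push Not at hcon
    have hcard := Finset.card_le_card_of_injOn (s := Finset.Iic t₀) (t := Finset.Iio t₀) σ
      (fun t ht => Finset.mem_coe.mpr (Finset.mem_Iio.mpr
        (hcon t (Finset.mem_Iic.mp (Finset.mem_coe.mp ht)))))
      σ.injective.injOn
    rw [Fin.card_Iic, Fin.card_Iio] at hcard
    omega
  obtain ⟨t, ht1, ht2⟩ := hex
  have h0 : ∏ i, M (σ i) i = 0 := Finset.prod_eq_zero (Finset.mem_univ t) (h _ _ ht2 ht1)
  rw [h0, smul_zero]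

/-! ### Restriction of a polynomial to a set of monomials -/

section restr

variable {σ : Type*} {R : Type*} [CommSemiring R]

open Classical in
/-- The part of `f` supported on the monomials satisfying `p`. -/
noncomputable def restr (p : (σ →₀ ℕ) → Prop) (f : MvPolynomial σ R) : MvPolynomial σ R :=
  ∑ e ∈ f.support.filter p, monomial e (coeff e f)

lemma coeff_restr_pos (p : (σ →₀ ℕ) → Prop) (f : MvPolynomial σ R) (e : σ →₀ ℕ) (hp : p e) :
    coeff e (restr p f) = coeff e f := by
  classical
  unfold restr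
  rw [coeff_sum, Finset.sum_eq_single e]
  · rw [coeff_monomial, if_pos rfl]
  · intro b _ hb
    rw [coeff_monomial, if_neg hb]
  · intro he
    rw [coeff_monomial, if_pos rfl]
    by_contra hne
    exact he (Finset.mem_filter.mpr ⟨mem_support_iff.mpr hne, hp⟩)

lemma coeff_restr_neg (p : (σ →₀ ℕ) → Prop) (f : MvPolynomial σ R) (e : σ →₀ ℕ) (hp : ¬ p e) :
    coeff e (restr p f) = 0 := by
  classical
  unfold restr
  rw [coeff_sum]
  refine Finset.sum_eq_zero fun b hb => ?_
  rw [coeff_monomial, if_neg]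
  rintro rfl
  exact hp (Finset.mem_filter.mp hb).2

lemma restr_add (p : (σ →₀ ℕ) → Prop) (f : MvPolynomial σ R) :
    restr p f + restr (fun e => ¬ p e) f = f := by
  ext e
  rw [coeff_add]
  by_cases hp : p e
  · rw [coeff_restr_pos p f e hp, coeff_restr_neg (fun e => ¬ p e) f e (not_not.mpr hp),
      add_zero]
  · rw [coeff_restr_neg p f e hp, coeff_restr_pos (fun e => ¬ p e) f e hp, zero_add]

lemma mem_support_restr (p : (σ →₀ ℕ) → Prop) (f : MvPolynomial σ R) (e : σ →₀ ℕ)
    (he : e ∈ (restr p f).support) : e ∈ f.support ∧ p e := by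
  rw [mem_support_iff] at he
  by_cases hp : p e
  · rw [coeff_restr_pos p f e hp] at he
    exact ⟨mem_support_iff.mpr he, hp⟩
  · exact absurd (coeff_restr_neg p f e hp) he

lemma map_restr_zero {S : Type*} [CommSemiring S] [Algebra R S] (g : MvPolynomial σ R →ₐ[R] S)
    (q : (σ →₀ ℕ) → Prop) (f : MvPolynomial σ R)
    (h : ∀ (e : σ →₀ ℕ) (c : R), q e → g (monomial e c) = 0) : g (restr q f) = 0 := by
  classical
  unfold restr
  rw [map_sum]
  exact Finset.sum_eq_zero fun e he => h e _ (Finset.mem_filter.mp he).2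

lemma map_restr_eq {S : Type*} [CommSemiring S] [Algebra R S] (g : MvPolynomial σ R →ₐ[R] S)
    (p : (σ →₀ ℕ) → Prop) (f : MvPolynomial σ R)
    (h : ∀ (e : σ →₀ ℕ) (c : R), ¬ p e → g (monomial e c) = 0) : g (restr p f) = g f := by
  have h0 : g (restr (fun e => ¬ p e) f) = 0 := map_restr_zero g (fun e => ¬ p e) f h
  have h1 : g f = g (restr p f) + g (restr (fun e => ¬ p e) f) := by
    rw [← map_add, restr_add]
  rw [h1, h0, add_zero]

end restr

/-! ### The staircase matrices -/

section stair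

variable {d n : ℕ}

/-- The staircase matrix with entries `e`: zero below the staircase `τ`. -/
def stairG {R : Type*} [Zero R] (e : Fin n × Fin d → R) (τ : Idx d n) : Matrix (Fin n) (Fin d) R :=
  fun i t => if i ≤ τ.1 t then e (i, t) else 0

lemma stairG_minor_zero {R : Type*} [CommRing R] (e : Fin n × Fin d → R) (τ θ : Idx d n)
    (h : ¬ θ ≤ τ) : ((stairG e τ).submatrix θ.1 id).det = 0 := by
  have h' : ¬ ∀ t, θ.1 t ≤ τ.1 t := fun hh => h hh
  push Not at h'
  obtain ⟨t₀, ht₀⟩ := h'
  refine det_eq_zero_of_block _ t₀ (fun s t hs ht => ?_)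
  show stairG e τ (θ.1 s) t = 0
  unfold stairG
  rw [if_neg]
  rw [not_le]
  calc τ.1 t ≤ τ.1 t₀ := τ.2.monotone ht
    _ < θ.1 t₀ := ht₀
    _ ≤ θ.1 s := θ.2.monotone hs

variable (K : Type u) [Field K]

/-- The Plücker map composed with the restriction to the staircase matrices of `τ`. -/
noncomputable def psi (τ : Idx d n) : PlRing K d n →ₐ[K] MatRing K d n :=
  MvPolynomial.aeval fun θ : Idx d n =>
    ((stairG (fun p : Fin n × Fin d => (X p : MatRing K d n)) τ).submatrix θ.1 id).det

lemma psi_X (τ θ : Idx d n) : psi K τ (X θ) =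
    ((stairG (fun p : Fin n × Fin d => (X p : MatRing K d n)) τ).submatrix θ.1 id).det := by
  unfold psi
  rw [aeval_X]

lemma psi_X_of_not_le (τ θ : Idx d n) (h : ¬ θ ≤ τ) : psi K τ (X θ) = 0 := by
  rw [psi_X]
  exact stairG_minor_zero _ τ θ h

lemma map_stair_minor {S : Type*} [CommRing S] [Algebra K S] (g : MatRing K d n →ₐ[K] S)
    (τ θ : Idx d n) :
    g ((stairG (fun p : Fin n × Fin d => (X p : MatRing K d n)) τ).submatrix θ.1 id).det =
      ((stairG (fun p : Fin n × Fin d => g (X p)) τ).submatrix θ.1 id).det := by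
  rw [AlgHom.map_det]
  congr 1
  ext s t
  rw [AlgHom.mapMatrix_apply, Matrix.map_apply, Matrix.submatrix_apply, Matrix.submatrix_apply]
  unfold stairG
  split_ifs
  · rfl
  · exact map_zero g

lemma psi_eq_zero_of_mem [Infinite K] (τ : Idx d n) (f : PlRing K d n)
    (hf : f ∈ schubertVanishing K d n τ) : psi K τ f = 0 := by
  apply MvPolynomial.funext
  intro B
  rw [map_zero]
  have hcomp : (MvPolynomial.aeval B : MatRing K d n →ₐ[K] K).comp (psi K τ) =
      evalMinors K d n (stairG B τ) := by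
    apply MvPolynomial.algHom_ext
    intro θ
    rw [AlgHom.comp_apply, psi_X, map_stair_minor]
    unfold evalMinors
    rw [aeval_X]
    have hB : (fun p : Fin n × Fin d => (MvPolynomial.aeval B) (X p : MatRing K d n)) = B :=
      funext fun p => aeval_X B p
    rw [hB]
  have h1 : MvPolynomial.eval B (psi K τ f) = evalMinors K d n (stairG B τ) f :=
    DFunLike.congr_fun hcomp f
  rw [h1]
  unfold schubertVanishing at hf
  rw [Ideal.mem_iInf] at hf
  have h2 := hf (stairG B τ)
  rw [Ideal.mem_iInf] at h2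
  have h3 := h2 (fun φ hφ => stairG_minor_zero B τ φ hφ)
  exact RingHom.mem_ker.mp h3

lemma psi_X_self (τ : Idx d n) :
    psi K τ (X τ) = ∏ t : Fin d, (X (τ.1 t, t) : MatRing K d n) := by
  rw [psi_X, Matrix.det_of_upperTriangular]
  · refine Finset.prod_congr rfl fun t _ => ?_
    show stairG (fun p : Fin n × Fin d => (X p : MatRing K d n)) τ (τ.1 t) t = _
    unfold stairG
    rw [if_pos le_rfl]
  · intro s t hts
    show stairG (fun p : Fin n × Fin d => (X p : MatRing K d n)) τ (τ.1 s) t = 0
    unfold stairG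
    have hts' : t < s := hts
    rw [if_neg (not_le.mpr (τ.2 hts'))]

lemma psi_X_self_ne_zero (τ : Idx d n) : psi K τ (X τ) ≠ 0 := by
  rw [psi_X_self]
  exact Finset.prod_ne_zero_iff.mpr fun t _ => MvPolynomial.X_ne_zero _

/-- Setting to zero the variables below the staircase `φ`. -/
noncomputable def zeta (φ : Idx d n) : MatRing K d n →ₐ[K] MatRing K d n :=
  MvPolynomial.aeval fun p : Fin n × Fin d =>
    if p.1 ≤ φ.1 p.2 then (X p : MatRing K d n) else 0

lemma zeta_comp_psi (φ τ : Idx d n) (h : φ ≤ τ) : (zeta K φ).comp (psi K τ) = psi K φ := by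
  apply MvPolynomial.algHom_ext
  intro θ
  rw [AlgHom.comp_apply, psi_X, psi_X, map_stair_minor]
  congr 1
  refine Matrix.ext fun s t => ?_
  show stairG (fun p : Fin n × Fin d => zeta K φ (X p : MatRing K d n)) τ (θ.1 s) t =
    stairG (fun p : Fin n × Fin d => (X p : MatRing K d n)) φ (θ.1 s) t
  unfold stairG zeta
  by_cases h1 : θ.1 s ≤ φ.1 t
  · rw [if_pos h1, if_pos (le_trans h1 (h t))]
    beta_reduce
    rw [aeval_X]
    dsimp only
    rw [if_pos h1]
  · rw [if_neg h1]
    split_ifs with h2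
    · beta_reduce
      rw [aeval_X]
      dsimp only
      rw [if_neg h1]
    · rfl

lemma psi_eq_zero_of_le (φ τ : Idx d n) (h : φ ≤ τ) (f : PlRing K d n) (hf : psi K τ f = 0) :
    psi K φ f = 0 := by
  rw [← zeta_comp_psi K φ τ h, AlgHom.comp_apply, hf, map_zero]

lemma constantCoeff_psi (hd : 0 < d) (τ : Idx d n) (f : PlRing K d n) :
    constantCoeff (psi K τ f) = constantCoeff f := by
  have hcomp : (MvPolynomial.aeval (0 : Fin n × Fin d → K) : MatRing K d n →ₐ[K] K).comp
      (psi K τ) = MvPolynomial.aeval (0 : Idx d n → K) := by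
    apply MvPolynomial.algHom_ext
    intro θ
    rw [AlgHom.comp_apply, psi_X, map_stair_minor, aeval_X]
    have h0 : (stairG (fun p : Fin n × Fin d =>
        (MvPolynomial.aeval (0 : Fin n × Fin d → K)) (X p : MatRing K d n)) τ) = 0 := by
      ext i t
      unfold stairG
      split_ifs
      · beta_reduce
        rw [aeval_X]; rfl
      · rfl
    rw [h0]
    haveI : Nonempty (Fin d) := ⟨⟨0, hd⟩⟩
    have h1 : (0 : Matrix (Fin n) (Fin d) K).submatrix θ.1 id = 0 := by
      ext s t; rfl
    rw [h1, Matrix.det_zero]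
    rfl
  have h1 := DFunLike.congr_fun hcomp f
  rw [AlgHom.comp_apply, aeval_zero, aeval_zero] at h1
  simpa using h1

lemma psi_monomial_zero (τ : Idx d n) (e : Idx d n →₀ ℕ) (c : K)
    (h : ¬ ∀ θ ∈ e.support, θ ≤ τ) : psi K τ (monomial e c) = 0 := by
  push Not at h
  obtain ⟨θ, hθ, hθτ⟩ := h
  unfold psi
  rw [aeval_monomial]
  apply mul_eq_zero_of_right
  rw [Finsupp.prod]
  apply Finset.prod_eq_zero hθ
  beta_reduce
  rw [stairG_minor_zero _ τ θ hθτ, zero_pow (Finsupp.mem_support_iff.mp hθ)]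

end stair

/-! ### Independence of the standard monomials -/

section indep

variable {d n : ℕ}

/-- The support of the exponent is a chain. -/
def IsStd (e : Idx d n →₀ ℕ) : Prop := ∀ a ∈ e.support, ∀ b ∈ e.support, a ≤ b ∨ b ≤ a

/-- All variables of the monomial are below `τ`. -/
def LeAll (τ : Idx d n) (e : Idx d n →₀ ℕ) : Prop := ∀ θ ∈ e.support, θ ≤ τ

variable (K : Type u) [Field K]

lemma coeff_zero_of_top_zero (hd : 0 < d) (τ : Idx d n)
    (IH : ∀ φ : Idx d n, φ < τ → ∀ f : PlRing K d n,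
      (∀ e ∈ f.support, IsStd e ∧ LeAll φ e) → psi K φ f = 0 → f = 0)
    (f : PlRing K d n) (hf : ∀ e ∈ f.support, IsStd e ∧ LeAll τ e) (hψ : psi K τ f = 0)
    (e : Idx d n →₀ ℕ) (he : e τ = 0) : coeff e f = 0 := by
  by_cases he0 : e = 0
  · rw [he0]
    have h1 := constantCoeff_psi K hd τ f
    rw [hψ, map_zero] at h1
    exact h1.symm
  · by_contra hne
    have hes : e ∈ f.support := mem_support_iff.mpr hne
    obtain ⟨hstd, hle⟩ := hf e hes
    have hne' : e.support.Nonempty := Finsupp.support_nonempty_iff.mpr he0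
    obtain ⟨φ, hφ⟩ := e.support.exists_maximal hne'
    have hφs : φ ∈ e.support := hφ.1
    have hmax : ∀ θ ∈ e.support, θ ≤ φ := by
      intro θ hθ
      rcases hstd θ hθ φ hφs with h | h
      · exact h
      · exact hφ.2 hθ h
    have hφτ : φ < τ := by
      refine lt_of_le_of_ne (hle φ hφs) ?_
      rintro rfl
      exact (Finsupp.mem_support_iff.mp hφs) he
    have h1 : psi K φ f = 0 := psi_eq_zero_of_le K φ τ hφτ.le f hψ
    have h2 : psi K φ (restr (LeAll φ) f) = 0 := by
      rw [map_restr_eq (psi K φ) (LeAll φ) f (fun e' c h => psi_monomial_zero K φ e' c h)]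
      exact h1
    have h3 : restr (LeAll φ) f = 0 := IH φ hφτ _ (fun e' he' => by
      obtain ⟨h4, h5⟩ := mem_support_restr _ _ _ he'
      exact ⟨(hf e' h4).1, h5⟩) h2
    have h4 : coeff e (restr (LeAll φ) f) = coeff e f := coeff_restr_pos _ _ _ hmax
    rw [h3, coeff_zero] at h4
    exact hne h4.symm

theorem indep_aux (hd : 0 < d) (τ : Idx d n)
    (IH : ∀ φ : Idx d n, φ < τ → ∀ f : PlRing K d n,
      (∀ e ∈ f.support, IsStd e ∧ LeAll φ e) → psi K φ f = 0 → f = 0) :
    ∀ (N : ℕ) (f : PlRing K d n), (∀ e ∈ f.support, IsStd e ∧ LeAll τ e) →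
      (∀ e ∈ f.support, e τ ≤ N) → psi K τ f = 0 → f = 0 := by
  intro N
  induction N with
  | zero =>
    intro f hf hN hψ
    ext e
    rw [coeff_zero]
    by_contra hne
    have hes := mem_support_iff.mpr hne
    exact hne (coeff_zero_of_top_zero K hd τ IH f hf hψ e (Nat.le_zero.mp (hN e hes)))
  | succ N ih =>
    intro f hf hN hψ
    classical
    have hpos : ∀ e ∈ f.support, 1 ≤ e τ := by
      intro e he
      by_contra h
      have h0 : e τ = 0 := by omega
      exact (mem_support_iff.mp he) (coeff_zero_of_top_zero K hd τ IH f hf hψ e h0)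
    obtain ⟨g, hg⟩ : ∃ g : PlRing K d n,
        g = ∑ e ∈ f.support, monomial (e - Finsupp.single τ 1) (coeff e f) := ⟨_, rfl⟩
    have hfg : f = X τ * g := by
      rw [hg, Finset.mul_sum]
      conv_lhs => rw [← support_sum_monomial_coeff f]
      refine Finset.sum_congr rfl fun e he => ?_
      have h1 : Finsupp.single τ 1 ≤ e := Finsupp.single_le_iff.mpr (hpos e he)
      rw [← pow_one (X τ : PlRing K d n), ← monomial_single_add, add_tsub_cancel_of_le h1]
    have hψg : psi K τ g = 0 := by
      have h1 : psi K τ f = psi K τ (X τ) * psi K τ g := by rw [hfg, map_mul]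
      rw [hψ] at h1
      rcases mul_eq_zero.mp h1.symm with h2 | h2
      · exact absurd h2 (psi_X_self_ne_zero K τ)
      · exact h2
    have hgsupp : ∀ e' ∈ g.support, ∃ e ∈ f.support, e' = e - Finsupp.single τ 1 := by
      intro e' he'
      rw [hg] at he'
      have h1 := support_sum he'
      rw [Finset.mem_biUnion] at h1
      obtain ⟨e, he, h2⟩ := h1
      have h3 := support_monomial_subset h2
      rw [Finset.mem_singleton] at h3
      exact ⟨e, he, h3⟩
    have hg0 : g = 0 := by
      apply ih g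
      · intro e' he'
        obtain ⟨e, he, rfl⟩ := hgsupp e' he'
        obtain ⟨h1, h2⟩ := hf e he
        have hsub : (e - Finsupp.single τ 1).support ⊆ e.support := Finsupp.support_tsub
        exact ⟨fun a ha b hb => h1 a (hsub ha) b (hsub hb), fun θ hθ => h2 θ (hsub hθ)⟩
      · intro e' he'
        obtain ⟨e, he, rfl⟩ := hgsupp e' he'
        have h1 := hN e he
        rw [Finsupp.tsub_apply, Finsupp.single_eq_same]
        omega
      · exact hψg
    rw [hfg, hg0, mul_zero]

/-- Independence of the standard monomials on `X(τ)` (polynomial form). -/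
theorem indep (hd : 0 < d) (τ : Idx d n) : ∀ f : PlRing K d n,
    (∀ e ∈ f.support, IsStd e ∧ LeAll τ e) → psi K τ f = 0 → f = 0 := by
  induction τ using WellFoundedLT.induction with
  | _ τ IH =>
    intro f hf hψ
    exact indep_aux K hd τ IH (f.support.sup fun e => e τ) f hf
      (fun e he => Finset.le_sup (f := fun e : Idx d n →₀ ℕ => e τ) he) hψ

/-- A chain-supported polynomial killed by `psi τ` has no monomial below `τ`. -/
theorem coeff_eq_zero_of_psi (hd : 0 < d) (τ : Idx d n) (f : PlRing K d n)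
    (hstd : ∀ e ∈ f.support, IsStd e) (hψ : psi K τ f = 0) (e : Idx d n →₀ ℕ)
    (he : LeAll τ e) : coeff e f = 0 := by
  have h2 : psi K τ (restr (LeAll τ) f) = 0 := by
    rw [map_restr_eq (psi K τ) (LeAll τ) f (fun e' c h => psi_monomial_zero K τ e' c h)]
    exact hψ
  have h3 : restr (LeAll τ) f = 0 := indep K hd τ _ (fun e' he' => by
    obtain ⟨h4, h5⟩ := mem_support_restr _ _ _ he'
    exact ⟨hstd e' h4, h5⟩) h2
  have h4 := coeff_restr_pos (LeAll τ) f e he
  rw [h3, coeff_zero] at h4
  exact h4.symm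

end indep

end Groth.Agent.Helper8.SMT3
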