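import Mathlib
import Groth.Prelude.Def_W4bk4grassmannianPl
import Groth.Agent.Helper8.SMT3
import Groth.Agent.S11268

set_option autoImplicit false

namespace Groth.Agent.Helper8.SMT4

open W4bk4grassmannian MvPolynomial Groth.Agent.Helper8.SMT3

universe u

section general

variable {σ : Type*} {R : Type*} [CommRing R]

lemma restr_mem_ideal (I : Ideal (MvPolynomial σ R)) (q : (σ →₀ ℕ) → Prop)
    (f : MvPolynomial σ R)
    (h : ∀ e ∈ f.support, q e → monomial e (coeff e f) ∈ I) : restr q f ∈ I := by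
  classical
  unfold restr
  exact Ideal.sum_mem _ fun e he =>
    h e (Finset.mem_filter.mp he).1 (Finset.mem_filter.mp he).2

lemma monomial_split (e : σ →₀ ℕ) (a : R) (θ : σ) (hθ : θ ∈ e.support) :
    monomial e a = monomial (e - Finsupp.single θ 1) a * X θ := by
  have h1 : Finsupp.single θ 1 ≤ e :=
    Finsupp.single_le_iff.mpr (Nat.one_le_iff_ne_zero.mpr (Finsupp.mem_support_iff.mp hθ))
  rw [← pow_one (X θ : MvPolynomial σ R), ← monomial_add_single, tsub_add_cancel_of_le h1]

end general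

variable (K : Type u) [Field K] {d n : ℕ}

/-! ### Chains and exponents -/

/-- The exponent of the monomial of a tuple of indices. -/
noncomputable def chainExp {m : ℕ} (c : Fin m → Idx d n) : Idx d n →₀ ℕ :=
  ∑ k, Finsupp.single (c k) 1

lemma chainMon_eq {m : ℕ} (c : Fin m → Idx d n) :
    chainMon K c = monomial (chainExp c) 1 := by
  unfold chainMon chainExp
  exact (monomial_sum_one Finset.univ (fun k => Finsupp.single (c k) 1)).symm

lemma mem_support_chainExp {m : ℕ} (c : Fin m → Idx d n) (θ : Idx d n)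
    (h : θ ∈ (chainExp c).support) : ∃ k, θ = c k := by
  classical
  unfold chainExp at h
  have h1 := Finsupp.support_finsetSum h
  rw [Finset.mem_biUnion] at h1
  obtain ⟨k, -, hk⟩ := h1
  have h2 := Finsupp.support_single_subset hk
  rw [Finset.mem_singleton] at h2
  exact ⟨k, h2⟩

lemma isStd_chainExp {m : ℕ} (c : Fin m → Idx d n) (hc : Antitone c) : IsStd (chainExp c) := by
  intro a ha b hb
  obtain ⟨k, rfl⟩ := mem_support_chainExp c a ha
  obtain ⟨k', rfl⟩ := mem_support_chainExp c b hb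
  rcases le_total k k' with h | h
  · exact Or.inr (hc h)
  · exact Or.inl (hc h)

lemma toMultiset_chainExp {m : ℕ} (c : Fin m → Idx d n) :
    Finsupp.toMultiset (chainExp c) = (↑(List.ofFn c) : Multiset (Idx d n)) := by
  unfold chainExp
  rw [Finsupp.toMultiset_sum]
  simp only [Finsupp.toMultiset_single, one_smul]
  rw [← Fin.univ_val_map, Finset.sum_eq_multiset_sum]
  have h1 : (fun k => ({c k} : Multiset (Idx d n))) = (fun a => ({a} : Multiset (Idx d n))) ∘ c :=
    rfl
  rw [h1, ← Multiset.map_map, Multiset.sum_map_singleton]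

lemma chainExp_inj {m m' : ℕ} (c : Fin m → Idx d n) (c' : Fin m' → Idx d n) (hc : Antitone c)
    (hc' : Antitone c') (h : chainExp c = chainExp c') :
    (⟨m, c⟩ : Σ k, Fin k → Idx d n) = ⟨m', c'⟩ := by
  have h1 : (↑(List.ofFn c) : Multiset (Idx d n)) = ↑(List.ofFn c') := by
    rw [← toMultiset_chainExp, ← toMultiset_chainExp, h]
  have h2 : List.ofFn c = List.ofFn c' :=
    List.Perm.eq_of_sortedGE hc.sortedGE_ofFn hc'.sortedGE_ofFn (Multiset.coe_eq_coe.mp h1)
  exact List.ofFn_inj'.mp h2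

/-! ### Straightening, polynomial form -/

lemma std_rep_aux (x : PlRing K d n ⧸ plIdealTop (d := d) (n := n) K)
    (hx : x ∈ SMT.stdSpan K (d := d) (n := n)) :
    ∃ f' : PlRing K d n, Ideal.Quotient.mk (plIdealTop (d := d) (n := n) K) f' = x ∧
      ∀ e ∈ f'.support, IsStd e := by
  classical
  unfold SMT.stdSpan at hx
  induction hx using Submodule.span_induction with
  | mem x h =>
    obtain ⟨c, rfl⟩ := h
    refine ⟨chainMon K c.2.1, rfl, fun e he => ?_⟩
    rw [chainMon_eq] at he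
    have h1 := support_monomial_subset he
    rw [Finset.mem_singleton] at h1
    rw [h1]
    exact isStd_chainExp c.2.1 c.2.2
  | zero => exact ⟨0, map_zero _, fun e he => by simp at he⟩
  | add x y _ _ hx hy =>
    obtain ⟨f1, rfl, h1⟩ := hx
    obtain ⟨f2, rfl, h2⟩ := hy
    refine ⟨f1 + f2, map_add _ _ _, fun e he => ?_⟩
    rcases Finset.mem_union.mp (support_add he) with h | h
    · exact h1 e h
    · exact h2 e h
  | smul a x _ hx =>
    obtain ⟨f1, rfl, h1⟩ := hx
    exact ⟨a • f1, map_smul (Ideal.Quotient.mkₐ K _) a f1, fun e he => h1 e (support_smul he)⟩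

theorem exists_std_rep (f : PlRing K d n) :
    ∃ f' : PlRing K d n, f - f' ∈ plIdealTop (d := d) (n := n) K ∧
      ∀ e ∈ f'.support, IsStd e := by
  have hmem : Ideal.Quotient.mk (plIdealTop (d := d) (n := n) K) f ∈
      SMT.stdSpan K (d := d) (n := n) := by
    unfold SMT.stdSpan
    rw [SMT.s11251]
    exact Submodule.mem_top
  obtain ⟨f', hf', hstd⟩ := std_rep_aux K _ hmem
  exact ⟨f', Ideal.Quotient.eq.mp hf'.symm, hstd⟩

/-! ### Variables in the Schubert ideals -/

lemma X_mem_schubertVanishing (τ θ : Idx d n) (h : ¬ θ ≤ τ) :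
    (X θ : PlRing K d n) ∈ schubertVanishing K d n τ := by
  unfold schubertVanishing
  rw [Ideal.mem_iInf]
  intro A
  rw [Ideal.mem_iInf]
  intro hA
  rw [RingHom.mem_ker]
  show evalMinors K d n A (X θ) = 0
  unfold evalMinors
  rw [aeval_X]
  exact hA θ h

lemma schubertVanishing_anti (φ τ : Idx d n) (h : φ ≤ τ) :
    schubertVanishing K d n τ ≤ schubertVanishing K d n φ := by
  intro f hf
  unfold schubertVanishing at hf ⊢
  rw [Ideal.mem_iInf] at hf ⊢
  intro A
  have h1 := hf A
  rw [Ideal.mem_iInf] at h1 ⊢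
  intro hA
  exact h1 (fun θ hθ => hA θ (fun hle => hθ (le_trans hle h)))

lemma schubertVanishing_isRadical (τ : Idx d n) : (schubertVanishing K d n τ).IsRadical := by
  intro f hf
  obtain ⟨k, hk⟩ := Ideal.mem_radical_iff.mp hf
  unfold schubertVanishing at hk ⊢
  rw [Ideal.mem_iInf] at hk ⊢
  intro A
  have h1 := hk A
  rw [Ideal.mem_iInf] at h1 ⊢
  intro hA
  have h2 := h1 hA
  rw [RingHom.mem_ker] at h2 ⊢
  rw [map_pow] at h2
  exact eq_zero_of_pow_eq_zero h2

/-! ### The master lemma -/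

/-- Monomials all of whose variables are below a member of `T`. -/
def Good (T : Set (Idx d n)) (e : Idx d n →₀ ℕ) : Prop := ∃ τ ∈ T, LeAll τ e

theorem master [Infinite K] (hd : 0 < d) (T : Set (Idx d n)) (hT : T.Nonempty) :
    (⨅ τ ∈ T, schubertVanishing K d n τ) =
      plIdealTop (d := d) (n := n) K ⊔
        Ideal.span {f : PlRing K d n | ∃ θ : Idx d n, (∀ τ ∈ T, ¬ θ ≤ τ) ∧ f = X θ} := by
  classical
  have hspan_le : ∀ τ ∈ T, Ideal.span {f : PlRing K d n |
      ∃ θ : Idx d n, (∀ τ ∈ T, ¬ θ ≤ τ) ∧ f = X θ} ≤ schubertVanishing K d n τ := by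
    intro τ hτ
    rw [Ideal.span_le]
    rintro _ ⟨θ, hθ, rfl⟩
    exact X_mem_schubertVanishing K τ θ (hθ τ hτ)
  apply le_antisymm
  · intro f hf
    have hfτ : ∀ τ ∈ T, f ∈ schubertVanishing K d n τ := by
      intro τ hτ
      rw [Ideal.mem_iInf] at hf
      have h1 := hf τ
      rw [Ideal.mem_iInf] at h1
      exact h1 hτ
    obtain ⟨f', hf', hstd⟩ := exists_std_rep K f
    have hbad : restr (fun e => ¬ Good T e) f' ∈ Ideal.span {f : PlRing K d n |
        ∃ θ : Idx d n, (∀ τ ∈ T, ¬ θ ≤ τ) ∧ f = X θ} := by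
      refine restr_mem_ideal _ _ _ fun e he hng => ?_
      have hstd_e := hstd e he
      by_cases he0 : e = 0
      · exfalso
        apply hng
        obtain ⟨τ, hτ⟩ := hT
        refine ⟨τ, hτ, fun θ hθ => ?_⟩
        rw [he0] at hθ
        simp at hθ
      · obtain ⟨φ, hφ⟩ := e.support.exists_maximal (Finsupp.support_nonempty_iff.mpr he0)
        have hmax : ∀ θ ∈ e.support, θ ≤ φ := by
          intro θ hθ
          rcases hstd_e θ hθ φ hφ.1 with h | h
          · exact h
          · exact hφ.2 hθ h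
        rw [monomial_split e _ φ hφ.1]
        refine Ideal.mul_mem_left _ _ (Ideal.subset_span ⟨φ, fun τ hτ hle => hng ?_, rfl⟩)
        exact ⟨τ, hτ, fun θ hθ => le_trans (hmax θ hθ) hle⟩
    have hg_std : ∀ e ∈ (restr (Good T) f').support, IsStd e ∧ Good T e := fun e he => by
      obtain ⟨h1, h2⟩ := mem_support_restr _ _ _ he
      exact ⟨hstd e h1, h2⟩
    have hsplit := restr_add (Good T) f'
    have hg_mem : ∀ τ ∈ T, restr (Good T) f' ∈ schubertVanishing K d n τ := by
      intro τ hτ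
      have e1 : restr (Good T) f' = f - (f - f') - restr (fun e => ¬ Good T e) f' := by
        linear_combination hsplit
      rw [e1]
      exact Ideal.sub_mem _ (Ideal.sub_mem _ (hfτ τ hτ) (SMT2.plIdealTop_le τ hf'))
        (hspan_le τ hτ hbad)
    have hg0 : restr (Good T) f' = 0 := by
      ext e
      rw [coeff_zero]
      by_contra hne
      have hes := mem_support_iff.mpr hne
      obtain ⟨-, τ, hτ, hle⟩ := hg_std e hes
      exact hne (coeff_eq_zero_of_psi K hd τ _ (fun e' he' => (hg_std e' he').1)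
        (psi_eq_zero_of_mem K τ _ (hg_mem τ hτ)) e hle)
    have e2 : f = (f - f') + restr (fun e => ¬ Good T e) f' := by
      rw [hg0, zero_add] at hsplit
      rw [hsplit]
      ring
    rw [e2]
    exact Ideal.add_mem _ (Ideal.mem_sup_left hf') (Ideal.mem_sup_right hbad)
  · rw [le_iInf_iff]
    intro τ
    rw [le_iInf_iff]
    intro hτ
    exact sup_le (SMT2.plIdealTop_le τ) (hspan_le τ hτ)

/-! ### The statements -/

theorem s11250 [Infinite K] (hd : 0 < d) (τ : Idx d n) :
    plIdeal K τ = schubertVanishing K d n τ := by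
  have h := master K hd {τ} (Set.singleton_nonempty τ)
  rw [iInf_singleton] at h
  rw [h]
  unfold plIdeal plIdealTop
  rw [Ideal.span_union]
  congr 2
  ext f
  simp

theorem s11253 [Infinite K] (hd : 0 < d) (w₁ w₂ : Idx d n) :
    (schubertVanishing K d n w₁ ⊔ schubertVanishing K d n w₂).IsRadical := by
  have hinf1 : W4bk4grassmannian.inf w₁ w₂ ≤ w₁ := fun t => min_le_left _ _
  have hinf2 : W4bk4grassmannian.inf w₁ w₂ ≤ w₂ := fun t => min_le_right _ _
  have key : schubertVanishing K d n w₁ ⊔ schubertVanishing K d n w₂ =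
      schubertVanishing K d n (W4bk4grassmannian.inf w₁ w₂) := by
    apply le_antisymm
    · exact sup_le (schubertVanishing_anti K _ _ hinf1) (schubertVanishing_anti K _ _ hinf2)
    · rw [← s11250 K hd (W4bk4grassmannian.inf w₁ w₂)]
      unfold plIdeal
      rw [Ideal.span_le]
      rintro f (⟨i, j, r, -, rfl⟩ | ⟨φ, hφ, rfl⟩)
      · exact Ideal.mem_sup_left (SMT2.shuffleRel_mem w₁ i j r)
      · by_cases h1 : φ ≤ w₁
        · have h2 : ¬ φ ≤ w₂ := fun h2 => hφ (fun t => le_min (h1 t) (h2 t))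
          exact Ideal.mem_sup_right (X_mem_schubertVanishing K w₂ φ h2)
        · exact Ideal.mem_sup_left (X_mem_schubertVanishing K w₁ φ h1)
  rw [key]
  exact schubertVanishing_isRadical K _

theorem s11254 [Infinite K] (hd : 0 < d) (τ : Idx d n) (hτ : ∃ φ : Idx d n, φ < τ) :
    schubertVanishing K d n τ ⊔ Ideal.span {MvPolynomial.X τ} =
      ⨅ φ ∈ divisors τ, schubertVanishing K d n φ := by
  obtain ⟨φ₀, hφ₀⟩ := hτ
  obtain ⟨φ₁, hφ₁, -⟩ := Groth.Agent.S11268.result d n φ₀ τ hφ₀
  rw [master K hd (divisors τ) ⟨φ₁, hφ₁⟩, ← s11250 K hd τ]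
  unfold plIdeal plIdealTop
  rw [Ideal.span_union, sup_assoc]
  congr 1
  rw [← Ideal.span_union]
  congr 1
  ext f
  constructor
  · rintro (⟨θ, hθ, rfl⟩ | h)
    · exact ⟨θ, fun φ hφ hle => hθ (le_trans hle hφ.1.le), rfl⟩
    · rw [Set.mem_singleton_iff] at h
      rw [h]
      exact ⟨τ, fun φ hφ hle => absurd hφ.1 (not_lt_of_ge hle), rfl⟩
  · rintro ⟨θ, hθ, rfl⟩
    by_cases h1 : θ ≤ τ
    · by_cases h2 : θ = τ
      · right
        rw [h2]
        exact Set.mem_singleton _
      · exfalso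
        obtain ⟨φ, hφ, hle⟩ := Groth.Agent.S11268.result d n θ τ (lt_of_le_of_ne h1 h2)
        exact hθ φ hφ hle
    · left
      exact ⟨θ, h1, rfl⟩

theorem indep_union [Infinite K] (hd : 0 < d) (r : ℕ) (τs : Fin r → Idx d n) :
    LinearIndependent K (fun c : (Σ m : ℕ, {c : Fin m → Idx d n //
        Antitone c ∧ ∃ i, ∀ k, c k ≤ τs i}) =>
      Ideal.Quotient.mk (⨅ i, schubertVanishing K d n (τs i)) (chainMon K c.2.1)) := by
  classical
  rw [linearIndependent_iff']
  intro s g hsum c₀ hc₀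
  obtain ⟨F, hF⟩ : ∃ F : PlRing K d n, F = ∑ c ∈ s, g c • chainMon K c.2.1 := ⟨_, rfl⟩
  have hFmem : F ∈ ⨅ i, schubertVanishing K d n (τs i) := by
    rw [← Ideal.Quotient.eq_zero_iff_mem, hF, map_sum]
    refine Eq.trans (Finset.sum_congr rfl fun c _ => ?_) hsum
    exact map_smul (Ideal.Quotient.mkₐ K _) (g c) _
  have hFstd : ∀ e ∈ F.support, IsStd e := by
    intro e he
    rw [hF] at he
    have h1 := support_sum he
    rw [Finset.mem_biUnion] at h1
    obtain ⟨c, -, h2⟩ := h1
    have h3 := support_smul h2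
    rw [chainMon_eq] at h3
    have h4 := support_monomial_subset h3
    rw [Finset.mem_singleton] at h4
    rw [h4]
    exact isStd_chainExp c.2.1 c.2.2.1
  obtain ⟨i, hi⟩ := c₀.2.2.2
  have hle : LeAll (τs i) (chainExp c₀.2.1) := fun θ hθ => by
    obtain ⟨k, rfl⟩ := mem_support_chainExp c₀.2.1 θ hθ
    exact hi k
  have hcoeff : coeff (chainExp c₀.2.1) F = 0 :=
    coeff_eq_zero_of_psi K hd (τs i) F hFstd
      (psi_eq_zero_of_mem K (τs i) F ((Ideal.mem_iInf.mp hFmem) i)) _ hle
  rw [hF, coeff_sum, Finset.sum_eq_single c₀] at hcoeff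
  · rw [coeff_smul, chainMon_eq, coeff_monomial, if_pos rfl, smul_eq_mul, mul_one] at hcoeff
    exact hcoeff
  · intro c _ hne
    rw [coeff_smul, chainMon_eq, coeff_monomial, if_neg, smul_zero]
    intro heq
    apply hne
    have h5 := chainExp_inj c.2.1 c₀.2.1 c.2.2.1 c₀.2.2.1 heq
    obtain ⟨m, c, hc⟩ := c
    obtain ⟨m', c', hc'⟩ := c₀
    cases h5
    rfl
  · intro h
    exact absurd hc₀ h

theorem span_union [Infinite K] (r : ℕ) (τs : Fin r → Idx d n) :
    Submodule.span K (Set.range fun c : (Σ m : ℕ, {c : Fin m → Idx d n //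
        Antitone c ∧ ∃ i, ∀ k, c k ≤ τs i}) =>
      Ideal.Quotient.mk (⨅ i, schubertVanishing K d n (τs i)) (chainMon K c.2.1)) = ⊤ := by
  classical
  rw [Submodule.eq_top_iff']
  intro x
  obtain ⟨f, rfl⟩ := Ideal.Quotient.mk_surjective x
  obtain ⟨f', hf', hstd⟩ := exists_std_rep K f
  have hJ : plIdealTop (d := d) (n := n) K ≤ ⨅ i, schubertVanishing K d n (τs i) :=
    le_iInf fun i => SMT2.plIdealTop_le (τs i)
  have h1 : Ideal.Quotient.mk (⨅ i, schubertVanishing K d n (τs i)) f =
      Ideal.Quotient.mk _ f' := Ideal.Quotient.eq.mpr (hJ hf')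
  rw [h1, ← support_sum_monomial_coeff f', map_sum]
  refine Submodule.sum_mem _ fun e he => ?_
  by_cases hgood : ∃ i, LeAll (τs i) e
  · obtain ⟨i, hi⟩ := hgood
    obtain ⟨m, c, hc, hcs, hcm⟩ := SMT.exists_chain K e (hstd e he)
    have h2 : monomial e (coeff e f') = coeff e f' • chainMon K c := by
      rw [hcm, smul_monomial, smul_eq_mul, mul_one]
    rw [h2]
    have h3 : Ideal.Quotient.mk (⨅ i, schubertVanishing K d n (τs i))
        (coeff e f' • chainMon K c) = coeff e f' • Ideal.Quotient.mk _ (chainMon K c) :=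
      map_smul (Ideal.Quotient.mkₐ K _) _ _
    rw [h3]
    exact Submodule.smul_mem _ _
      (Submodule.subset_span ⟨⟨m, c, hc, i, fun k => hi _ (hcs k)⟩, rfl⟩)
  · push Not at hgood
    have h2 : monomial e (coeff e f') ∈ ⨅ i, schubertVanishing K d n (τs i) := by
      rw [Ideal.mem_iInf]
      intro i
      have h3 := hgood i
      unfold LeAll at h3
      push Not at h3
      obtain ⟨θ, hθ, hθi⟩ := h3
      rw [monomial_split e _ θ hθ]
      exact Ideal.mul_mem_left _ _ (X_mem_schubertVanishing K (τs i) θ hθi)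
    rw [Ideal.Quotient.eq_zero_iff_mem.mpr h2]
    exact Submodule.zero_mem _

theorem s11252 [Infinite K] (hd : 0 < d) (r : ℕ) (τs : Fin r → Idx d n) :
    LinearIndependent K (fun c : (Σ m : ℕ, {c : Fin m → Idx d n //
        Antitone c ∧ ∃ i, ∀ k, c k ≤ τs i}) =>
      Ideal.Quotient.mk (⨅ i, schubertVanishing K d n (τs i)) (chainMon K c.2.1)) ∧
    Submodule.span K (Set.range fun c : (Σ m : ℕ, {c : Fin m → Idx d n //
        Antitone c ∧ ∃ i, ∀ k, c k ≤ τs i}) =>
      Ideal.Quotient.mk (⨅ i, schubertVanishing K d n (τs i)) (chainMon K c.2.1)) = ⊤ :=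
  ⟨indep_union K hd r τs, span_union K r τs⟩

end Groth.Agent.Helper8.SMT4
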