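import Mathlib
import Groth.Prelude.Def_W4bk4grassmannianPl
import Groth.Agent.Helper8.SMT4

set_option autoImplicit false

namespace Groth.Agent.Helper8.SMT6

open W4bk4grassmannian MvPolynomial Groth.Agent.Helper8.SMT Groth.Agent.Helper8.SMT3
  Groth.Agent.Helper8.SMT4

universe u

variable {d n : ℕ}

/-- The weight of a Plücker variable. -/
def om (θ : Idx d n) : ℕ := (d * n) ^ 2 - wt θ ^ 2

/-- The weight of a monomial. -/
def Om (s : Idx d n →₀ ℕ) : ℕ := s.sum fun θ k => k * om θ

lemma Om_add (s t : Idx d n →₀ ℕ) : Om (s + t) = Om s + Om t :=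
  Finsupp.sum_add_index' (fun _ => zero_mul _) (fun _ _ _ => add_mul _ _ _)

lemma Om_single (θ : Idx d n) (k : ℕ) : Om (Finsupp.single θ k) = k * om θ :=
  Finsupp.sum_single_index (zero_mul _)

lemma Om_zero : Om (0 : Idx d n →₀ ℕ) = 0 := Finsupp.sum_zero_index

lemma wt_sq_le (θ : Idx d n) : wt θ ^ 2 ≤ (d * n) ^ 2 := Nat.pow_le_pow_left (wt_le θ) 2

section straighten

variable (K : Type u) [CommRing K]

/-- One straightening step strictly lowers the weight. -/
lemma shuffle_step (s : Idx d n →₀ ℕ)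
    (hchain : ¬ ∀ a ∈ s.support, ∀ b ∈ s.support, a ≤ b ∨ b ≤ a) :
    monomial s (1 : K) ∈ (plIdealTop (d := d) (n := n) K).restrictScalars K ⊔
      Submodule.span K {f : PlRing K d n | ∃ s' : Idx d n →₀ ℕ, Om s' < Om s ∧
        f = monomial s' 1} := by
  classical
  push Not at hchain
  obtain ⟨a, ha, b, hb, hab, hba⟩ := hchain
  obtain ⟨i, j, hi, hj, hij, hji, hwt⟩ : ∃ i j : Idx d n, i ∈ s.support ∧ j ∈ s.support ∧
      ¬ i ≤ j ∧ ¬ j ≤ i ∧ wt j ≤ wt i := by
    rcases le_total (wt b) (wt a) with h | h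
    · exact ⟨a, b, ha, hb, hab, hba, h⟩
    · exact ⟨b, a, hb, ha, hba, hab, h⟩
  have hex : ∃ t : Fin d, i.1 t < j.1 t := by
    by_contra hcon
    push Not at hcon
    exact hji (fun t => hcon t)
  obtain ⟨r, hr, hrmin⟩ : ∃ r : Fin d, i.1 r < j.1 r ∧ ∀ t : Fin d, t < r → j.1 t ≤ i.1 t := by
    obtain ⟨S, hS⟩ : ∃ S : Finset (Fin d), S = Finset.univ.filter (fun t : Fin d => i.1 t < j.1 t) :=
      ⟨_, rfl⟩
    have hSmem : ∀ t, t ∈ S ↔ i.1 t < j.1 t := fun t => by
      rw [hS, Finset.mem_filter]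
      exact ⟨fun h => h.2, fun h => ⟨Finset.mem_univ _, h⟩⟩
    have hSne : S.Nonempty := by
      obtain ⟨t, ht⟩ := hex
      exact ⟨t, (hSmem t).mpr ht⟩
    refine ⟨S.min' hSne, (hSmem _).mp (S.min'_mem hSne), fun t ht => ?_⟩
    by_contra hcon
    rw [not_le] at hcon
    have h1 := S.min'_le t ((hSmem t).mpr hcon)
    exact absurd ht (not_lt.mpr h1)
  have hpiv : IsPivot i j r := ⟨hrmin, hr⟩
  have hrel : shuffleRel K i j r ∈ plIdealTop (d := d) (n := n) K :=
    Ideal.subset_span ⟨i, j, r, hpiv, rfl⟩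
  have hne : i ≠ j := fun h => hij (h ▸ le_rfl)
  have hi1 : 1 ≤ s i := Nat.one_le_iff_ne_zero.mpr (Finsupp.mem_support_iff.mp hi)
  have hj1 : 1 ≤ s j := Nat.one_le_iff_ne_zero.mpr (Finsupp.mem_support_iff.mp hj)
  obtain ⟨s₀, hs₀⟩ : ∃ s₀ : Idx d n →₀ ℕ,
      s = s₀ + Finsupp.single i 1 + Finsupp.single j 1 := by
    refine ⟨s - Finsupp.single i 1 - Finsupp.single j 1, ?_⟩
    ext x
    simp only [Finsupp.coe_add, Finsupp.coe_tsub, Pi.add_apply, Pi.sub_apply,
      Finsupp.single_apply]
    by_cases hxi : i = x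
    · subst hxi
      have hji' : ¬ j = i := fun h => hne h.symm
      simp [hji']
      omega
    · by_cases hxj : j = x
      · subst hxj
        simp [hxi]
        omega
      · simp [hxi, hxj]
  have hmon : monomial s (1:K) = monomial s₀ 1 * (X i * X j) := by
    rw [hs₀, monomial_add_single, monomial_add_single, pow_one, pow_one, mul_assoc]
  have hexp : (X i * X j : PlRing K d n) = shuffleRel K i j r -
      ∑ A ∈ Finset.univ.erase (idSet r), shuffleTerm K i j r A := by
    unfold shuffleRel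
    rw [← Finset.add_sum_erase Finset.univ _ (Finset.mem_univ (idSet r)), shuffleTerm_idSet]
    ring
  have hOms : Om s = Om s₀ + om i + om j := by
    rw [hs₀, Om_add, Om_add, Om_single, Om_single, one_mul, one_mul]
  rw [hmon, hexp, mul_sub]
  refine Submodule.sub_mem _ (Submodule.mem_sup_left (Ideal.mul_mem_left _ _ hrel)) ?_
  rw [Finset.mul_sum]
  refine Submodule.sum_mem _ fun A hA => ?_
  have hAne : A ≠ idSet r := (Finset.mem_erase.mp hA).1
  unfold shuffleTerm
  by_cases hAc : A.card = r.val + 1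
  · rw [dif_pos hAc]
    rcases coord_cases K (shuffleI i j r A hAc) with h1 | ⟨hI, h1⟩
    · rw [h1, mul_zero, zero_mul, mul_zero]; exact zero_mem _
    rcases coord_cases K (shuffleJ i j r A hAc) with h2 | ⟨hJ, h2⟩
    · rw [h2, mul_zero, mul_zero]; exact zero_mem _
    rw [h1, h2]
    obtain ⟨i', hi'⟩ : ∃ i' : Idx d n, i' = sortIdx d n _ hI := ⟨_, rfl⟩
    obtain ⟨j', hj'⟩ : ∃ j' : Idx d n, j' = sortIdx d n _ hJ := ⟨_, rfl⟩
    rw [← hi', ← hj']
    have hw1 : wt i < wt i' := by
      rw [hi', wt_sortIdx]; exact wt_lt_wtT_shuffleI i j r hr A hAc hAne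
    have hw2 : wt i' + wt j' = wt i + wt j := by
      rw [hi', hj', wt_sortIdx, wt_sortIdx]; exact wtT_shuffle_add i j r A hAc
    have hkey : monomial (s₀ + Finsupp.single i' 1 + Finsupp.single j' 1) (1:K) ∈
        Submodule.span K {f : PlRing K d n | ∃ s' : Idx d n →₀ ℕ, Om s' < Om s ∧
          f = monomial s' 1} := by
      refine Submodule.subset_span ⟨_, ?_, rfl⟩
      rw [hOms, Om_add, Om_add, Om_single, Om_single, one_mul, one_mul]
      have hsq := sq_lemma (wt i) (wt j) (wt i') (wt j') hw1 hwt hw2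
      have b1 := wt_sq_le i
      have b2 := wt_sq_le j
      have b3 := wt_sq_le i'
      have b4 := wt_sq_le j'
      unfold om
      omega
    have heq : monomial s₀ (1:K) * ((-1) ^ shuffleSign r A *
        ((-1) ^ invCount d n (shuffleI i j r A hAc) * X i') *
        ((-1) ^ invCount d n (shuffleJ i j r A hAc) * X j')) =
        ((-1) ^ shuffleSign r A * (-1) ^ invCount d n (shuffleI i j r A hAc) *
          (-1) ^ invCount d n (shuffleJ i j r A hAc)) *
          monomial (s₀ + Finsupp.single i' 1 + Finsupp.single j' 1) (1:K) := by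
      rw [monomial_add_single, monomial_add_single, pow_one, pow_one]; ring
    rw [heq, ← pow_add, ← pow_add]
    rcases neg_one_pow_eq_or (PlRing K d n) (shuffleSign r A +
      invCount d n (shuffleI i j r A hAc) + invCount d n (shuffleJ i j r A hAc)) with h | h
    · rw [h, one_mul]; exact Submodule.mem_sup_right hkey
    · rw [h, neg_one_mul]; exact Submodule.neg_mem _ (Submodule.mem_sup_right hkey)
  · rw [dif_neg hAc, mul_zero]; exact zero_mem _

/-- Standard monomials of weight at most `k`. -/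
noncomputable def stdLe (k : ℕ) : Submodule K (PlRing K d n) :=
  Submodule.span K {f : PlRing K d n | ∃ s' : Idx d n →₀ ℕ, IsStd s' ∧ Om s' ≤ k ∧
    f = monomial s' 1}

/-- Standard monomials of weight less than `k`. -/
noncomputable def stdLt (k : ℕ) : Submodule K (PlRing K d n) :=
  Submodule.span K {f : PlRing K d n | ∃ s' : Idx d n →₀ ℕ, IsStd s' ∧ Om s' < k ∧
    f = monomial s' 1}

lemma stdLe_le_stdLt (j k : ℕ) (h : j < k) : stdLe K (d := d) (n := n) j ≤ stdLt K k := by
  unfold stdLe stdLt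
  apply Submodule.span_mono
  rintro f ⟨s', h1, h2, rfl⟩
  exact ⟨s', h1, lt_of_le_of_lt h2 h, rfl⟩

lemma stdLt_le_stdLe (k : ℕ) : stdLt K (d := d) (n := n) k ≤ stdLe K k := by
  unfold stdLe stdLt
  apply Submodule.span_mono
  rintro f ⟨s', h1, h2, rfl⟩
  exact ⟨s', h1, h2.le, rfl⟩

/-- Refined straightening. -/
theorem monomial_mem : ∀ (N : ℕ) (s : Idx d n →₀ ℕ), Om s = N →
    monomial s (1 : K) ∈ (plIdealTop (d := d) (n := n) K).restrictScalars K ⊔ stdLe K N ∧
    (¬ IsStd s →
      monomial s (1 : K) ∈ (plIdealTop (d := d) (n := n) K).restrictScalars K ⊔ stdLt K N) := by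
  intro N
  induction N using Nat.strong_induction_on with
  | _ N ih =>
  intro s hs
  by_cases hstd : IsStd s
  · exact ⟨Submodule.mem_sup_right (Submodule.subset_span ⟨s, hstd, hs.le, rfl⟩),
      fun h => absurd hstd h⟩
  · have h1 := shuffle_step K s hstd
    have h2 : (plIdealTop (d := d) (n := n) K).restrictScalars K ⊔
        Submodule.span K {f : PlRing K d n | ∃ s' : Idx d n →₀ ℕ, Om s' < Om s ∧
          f = monomial s' 1} ≤
        (plIdealTop (d := d) (n := n) K).restrictScalars K ⊔ stdLt K N := by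
      refine sup_le le_sup_left ?_
      rw [Submodule.span_le]
      rintro f ⟨s', hlt, rfl⟩
      rw [hs] at hlt
      have h3 := (ih (Om s') hlt s' rfl).1
      exact (sup_le_sup_left (stdLe_le_stdLt K _ _ hlt) _) h3
    have h4 := h2 h1
    exact ⟨(sup_le_sup_left (stdLt_le_stdLe K N) _) h4, fun _ => h4⟩

end straighten

section quotient

variable (K : Type u) [Field K] (w : Idx d n)

/-- The class of a monomial on the cone over `X(w)`. -/
noncomputable def ee (s : Idx d n →₀ ℕ) : PlRing K d n ⧸ schubertVanishing K d n w :=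
  Ideal.Quotient.mk (schubertVanishing K d n w) (monomial s 1)

lemma ee_zero : ee K w (0 : Idx d n →₀ ℕ) = 1 := by
  unfold ee
  have h : (monomial (0 : Idx d n →₀ ℕ) (1:K) : PlRing K d n) = 1 := rfl
  rw [h, map_one]

lemma ee_add (s t : Idx d n →₀ ℕ) : ee K w (s + t) = ee K w s * ee K w t := by
  unfold ee
  rw [← map_mul, monomial_mul, one_mul]

lemma ee_eq_zero (s : Idx d n →₀ ℕ) (h : ¬ LeAll w s) : ee K w s = 0 := by
  unfold LeAll at h
  push Not at h
  obtain ⟨θ, hθ, hθw⟩ := h
  unfold ee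
  rw [Ideal.Quotient.eq_zero_iff_mem, monomial_split s _ θ hθ]
  exact Ideal.mul_mem_left _ _ (X_mem_schubertVanishing K w θ hθw)

/-- The index type of the standard monomial basis on `X(w)`. -/
def StdW (w : Idx d n) : Type := {s : Idx d n →₀ ℕ // IsStd s ∧ LeAll w s}

theorem ee_linearIndependent [Infinite K] (hd : 0 < d) :
    LinearIndependent K (fun s : StdW w => ee K w s.1) := by
  classical
  rw [linearIndependent_iff']
  intro S g hsum s₀ hs₀
  obtain ⟨F, hF⟩ : ∃ F : PlRing K d n, F = ∑ s ∈ S, g s • monomial s.1 (1:K) := ⟨_, rfl⟩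
  have hFmem : F ∈ schubertVanishing K d n w := by
    rw [← Ideal.Quotient.eq_zero_iff_mem, hF, map_sum]
    refine Eq.trans (Finset.sum_congr rfl fun c _ => ?_) hsum
    exact map_smul (Ideal.Quotient.mkₐ K _) (g c) _
  have hFstd : ∀ e ∈ F.support, IsStd e := by
    intro e he
    rw [hF] at he
    have h1 := support_sum he
    rw [Finset.mem_biUnion] at h1
    obtain ⟨c, -, h2⟩ := h1
    have h3 := support_smul h2
    have h4 := support_monomial_subset h3
    rw [Finset.mem_singleton] at h4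
    rw [h4]
    exact c.2.1
  have hcoeff : coeff s₀.1 F = 0 :=
    coeff_eq_zero_of_psi K hd w F hFstd (psi_eq_zero_of_mem K w F hFmem) _ s₀.2.2
  rw [hF, coeff_sum, Finset.sum_eq_single s₀] at hcoeff
  · rw [coeff_smul, coeff_monomial, if_pos rfl, smul_eq_mul, mul_one] at hcoeff
    exact hcoeff
  · intro c _ hne
    rw [coeff_smul, coeff_monomial, if_neg, smul_zero]
    intro heq
    exact hne (Subtype.ext heq)
  · intro h
    exact absurd hs₀ h

/-- The filtration by weight. -/
noncomputable def FF (k : ℕ) : Submodule K (PlRing K d n ⧸ schubertVanishing K d n w) :=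
  Submodule.span K ((fun s : StdW w => ee K w s.1) '' {s | Om s.1 ≤ k})

/-- The strict version of the filtration. -/
noncomputable def FFlt (k : ℕ) : Submodule K (PlRing K d n ⧸ schubertVanishing K d n w) :=
  Submodule.span K ((fun s : StdW w => ee K w s.1) '' {s | Om s.1 < k})

lemma FF_mono {j k : ℕ} (h : j ≤ k) : FF K w j ≤ FF K w k := by
  unfold FF
  apply Submodule.span_mono
  rintro _ ⟨s, hs, rfl⟩
  exact ⟨s, le_trans hs h, rfl⟩

lemma FFlt_zero : FFlt K w 0 = ⊥ := by
  unfold FFlt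
  have h : {s : StdW w | Om s.1 < 0} = ∅ := by
    ext s
    simp
  rw [h, Set.image_empty, Submodule.span_empty]

lemma FFlt_succ (k : ℕ) : FFlt K w (k + 1) = FF K w k := by
  unfold FFlt FF
  have h : {s : StdW w | Om s.1 < k + 1} = {s : StdW w | Om s.1 ≤ k} := by
    ext s
    exact Nat.lt_succ_iff
  rw [h]

lemma mem_FF_of (s : Idx d n →₀ ℕ) (hs : IsStd s) (hw : LeAll w s) (k : ℕ) (hk : Om s ≤ k) :
    ee K w s ∈ FF K w k :=
  Submodule.subset_span ⟨⟨s, hs, hw⟩, hk, rfl⟩

lemma mem_FFlt_of (s : Idx d n →₀ ℕ) (hs : IsStd s) (hw : LeAll w s) (k : ℕ) (hk : Om s < k) :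
    ee K w s ∈ FFlt K w k :=
  Submodule.subset_span ⟨⟨s, hs, hw⟩, hk, rfl⟩

lemma comap_le (N : ℕ) : (plIdealTop (d := d) (n := n) K).restrictScalars K ⊔ stdLe K N ≤
    (FF K w N).comap (Ideal.Quotient.mkₐ K (schubertVanishing K d n w)).toLinearMap := by
  refine sup_le ?_ ?_
  · intro f hf
    rw [Submodule.mem_comap]
    have h1 : Ideal.Quotient.mk (schubertVanishing K d n w) f = 0 :=
      Ideal.Quotient.eq_zero_iff_mem.mpr
        (SMT2.plIdealTop_le w ((Submodule.restrictScalars_mem K _ _).mp hf))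
    show Ideal.Quotient.mk (schubertVanishing K d n w) f ∈ FF K w N
    rw [h1]
    exact zero_mem _
  · unfold stdLe
    rw [Submodule.span_le]
    rintro f ⟨s', h1, h2, rfl⟩
    rw [SetLike.mem_coe, Submodule.mem_comap]
    show ee K w s' ∈ FF K w N
    by_cases hw : LeAll w s'
    · exact mem_FF_of K w s' h1 hw N h2
    · rw [ee_eq_zero K w s' hw]
      exact zero_mem _

lemma comap_lt (N : ℕ) : (plIdealTop (d := d) (n := n) K).restrictScalars K ⊔ stdLt K N ≤
    (FFlt K w N).comap (Ideal.Quotient.mkₐ K (schubertVanishing K d n w)).toLinearMap := by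
  refine sup_le ?_ ?_
  · intro f hf
    rw [Submodule.mem_comap]
    have h1 : Ideal.Quotient.mk (schubertVanishing K d n w) f = 0 :=
      Ideal.Quotient.eq_zero_iff_mem.mpr
        (SMT2.plIdealTop_le w ((Submodule.restrictScalars_mem K _ _).mp hf))
    show Ideal.Quotient.mk (schubertVanishing K d n w) f ∈ FFlt K w N
    rw [h1]
    exact zero_mem _
  · unfold stdLt
    rw [Submodule.span_le]
    rintro f ⟨s', h1, h2, rfl⟩
    rw [SetLike.mem_coe, Submodule.mem_comap]
    show ee K w s' ∈ FFlt K w N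
    by_cases hw : LeAll w s'
    · exact mem_FFlt_of K w s' h1 hw N h2
    · rw [ee_eq_zero K w s' hw]
      exact zero_mem _

theorem ee_mem_FF (s : Idx d n →₀ ℕ) : ee K w s ∈ FF K w (Om s) :=
  comap_le K w (Om s) (monomial_mem K (Om s) s rfl).1

theorem ee_mem_FFlt (s : Idx d n →₀ ℕ) (h : ¬ IsStd s) : ee K w s ∈ FFlt K w (Om s) :=
  comap_lt K w (Om s) ((monomial_mem K (Om s) s rfl).2 h)

lemma mul_mem_FF {i j : ℕ} {a b : PlRing K d n ⧸ schubertVanishing K d n w}
    (ha : a ∈ FF K w i) (hb : b ∈ FF K w j) : a * b ∈ FF K w (i + j) := by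
  unfold FF at ha hb
  induction ha using Submodule.span_induction with
  | mem x hx =>
    obtain ⟨s, hs, rfl⟩ := hx
    induction hb using Submodule.span_induction with
    | mem y hy =>
      obtain ⟨t, ht, rfl⟩ := hy
      show ee K w s.1 * ee K w t.1 ∈ FF K w (i + j)
      rw [← ee_add]
      refine FF_mono K w ?_ (ee_mem_FF K w _)
      rw [Om_add]
      exact add_le_add hs ht
    | zero => rw [mul_zero]; exact zero_mem _
    | add y z _ _ hy hz => rw [mul_add]; exact add_mem hy hz
    | smul c y _ hy => rw [mul_smul_comm]; exact Submodule.smul_mem _ _ hy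
  | zero => rw [zero_mul]; exact zero_mem _
  | add x y _ _ hx hy => rw [add_mul]; exact add_mem hx hy
  | smul c x _ hx => rw [smul_mul_assoc]; exact Submodule.smul_mem _ _ hx

lemma one_mem_FF : (1 : PlRing K d n ⧸ schubertVanishing K d n w) ∈ FF K w 0 := by
  rw [← ee_zero K w]
  refine mem_FF_of K w 0 ?_ ?_ 0 ?_
  · intro a ha
    simp at ha
  · intro θ hθ
    simp at hθ
  · rw [Om_zero]

lemma exists_mem_FF (a : PlRing K d n ⧸ schubertVanishing K d n w) : ∃ k, a ∈ FF K w k := by
  obtain ⟨f, rfl⟩ := Ideal.Quotient.mk_surjective a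
  refine MvPolynomial.induction_on' f ?_ ?_
  · intro s c
    refine ⟨Om s, ?_⟩
    have h1 : monomial s c = c • monomial s (1:K) := by
      rw [smul_monomial, smul_eq_mul, mul_one]
    have h2 : Ideal.Quotient.mk (schubertVanishing K d n w) (c • monomial s (1:K)) =
        c • ee K w s := map_smul (Ideal.Quotient.mkₐ K _) c _
    rw [h1, h2]
    exact Submodule.smul_mem _ _ (ee_mem_FF K w s)
  · rintro p q ⟨k1, h1⟩ ⟨k2, h2⟩
    refine ⟨max k1 k2, ?_⟩
    rw [map_add]
    exact add_mem (FF_mono K w (le_max_left _ _) h1) (FF_mono K w (le_max_right _ _) h2)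

end quotient

end Groth.Agent.Helper8.SMT6
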