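import Mathlib
import Groth.Prelude.Def_W4bk4grassmannianPl
import Groth.Agent.Helper8.SMT6

set_option autoImplicit false

namespace Groth.Agent.Helper8.SMT8

open W4bk4grassmannian MvPolynomial Groth.Agent.Helper8.SMT Groth.Agent.Helper8.SMT3
  Groth.Agent.Helper8.SMT4 Groth.Agent.Helper8.SMT6

universe u

variable {d n : ℕ}

/-! ### The weight on matrix monomials -/

/-- The weight of a matrix variable. -/
def lam (p : Fin n × Fin d) : ℕ := p.1.val * p.2.val

/-- The weight of a matrix monomial. -/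
def Lam (m : Fin n × Fin d →₀ ℕ) : ℕ := m.sum fun p k => k * lam p

lemma Lam_add (s t : Fin n × Fin d →₀ ℕ) : Lam (s + t) = Lam s + Lam t :=
  Finsupp.sum_add_index' (fun _ => zero_mul _) (fun _ _ _ => add_mul _ _ _)

lemma Lam_single (p : Fin n × Fin d) (k : ℕ) : Lam (Finsupp.single p k) = k * lam p :=
  Finsupp.sum_single_index (zero_mul _)

lemma Lam_zero : Lam (0 : Fin n × Fin d →₀ ℕ) = 0 := Finsupp.sum_zero_index

/-- `Lam` as an additive map. -/
def LamHom : (Fin n × Fin d →₀ ℕ) →+ ℕ where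
  toFun := Lam
  map_zero' := Lam_zero
  map_add' := Lam_add

lemma Lam_sum {ι : Type*} (s : Finset ι) (f : ι → (Fin n × Fin d →₀ ℕ)) :
    Lam (∑ i ∈ s, f i) = ∑ i ∈ s, Lam (f i) :=
  map_sum (LamHom (d := d) (n := n)) f s

/-! ### Leading monomials -/

section top

variable {K : Type u} [Field K]

/-- `P` has the monomial `M` of weight `k` with coefficient one, all other monomials being of
smaller weight. -/
structure IsTop (P : MatRing K d n) (k : ℕ) (M : Fin n × Fin d →₀ ℕ) : Prop where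
  coeff_top : coeff M P = 1
  weight_top : Lam M = k
  lower : ∀ m, coeff m P ≠ 0 → m ≠ M → Lam m < k

lemma IsTop.le {P : MatRing K d n} {k : ℕ} {M : Fin n × Fin d →₀ ℕ} (h : IsTop P k M)
    (m : Fin n × Fin d →₀ ℕ) (hm : coeff m P ≠ 0) : Lam m ≤ k := by
  by_cases hmM : m = M
  · rw [hmM, h.weight_top]
  · exact (h.lower m hm hmM).le

lemma IsTop.eq_of_ge {P : MatRing K d n} {k : ℕ} {M : Fin n × Fin d →₀ ℕ} (h : IsTop P k M)
    (m : Fin n × Fin d →₀ ℕ) (hm : coeff m P ≠ 0) (hk : k ≤ Lam m) : m = M := by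
  by_contra hne
  exact absurd (h.lower m hm hne) (not_lt.mpr hk)

lemma isTop_one : IsTop (1 : MatRing K d n) 0 0 := by
  classical
  refine ⟨?_, Lam_zero, ?_⟩
  · rw [coeff_one, if_pos rfl]
  · intro m hm hne
    rw [coeff_one, if_neg (fun h => hne h.symm)] at hm
    exact absurd rfl hm

lemma IsTop.mul {P Q : MatRing K d n} {k l : ℕ} {M N : Fin n × Fin d →₀ ℕ}
    (hP : IsTop P k M) (hQ : IsTop Q l N) : IsTop (P * Q) (k + l) (M + N) := by
  classical
  have key : ∀ m : Fin n × Fin d →₀ ℕ, ∀ x ∈ Finset.HasAntidiagonal.antidiagonal m,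
      coeff x.1 P * coeff x.2 Q ≠ 0 → k + l ≤ Lam m → x = (M, N) := by
    intro m x hx hne hkl
    have h1 : x.1 + x.2 = m := Finset.HasAntidiagonal.mem_antidiagonal.mp hx
    have hp : coeff x.1 P ≠ 0 := left_ne_zero_of_mul hne
    have hq : coeff x.2 Q ≠ 0 := right_ne_zero_of_mul hne
    have h2 := hP.le _ hp
    have h3 := hQ.le _ hq
    have h4 : Lam m = Lam x.1 + Lam x.2 := by rw [← h1, Lam_add]
    have h5 : x.1 = M := hP.eq_of_ge _ hp (by omega)
    have h6 : x.2 = N := hQ.eq_of_ge _ hq (by omega)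
    exact Prod.ext h5 h6
  refine ⟨?_, ?_, ?_⟩
  · rw [coeff_mul, Finset.sum_eq_single (M, N)]
    · show coeff M P * coeff N Q = 1
      rw [hP.coeff_top, hQ.coeff_top, mul_one]
    · intro x hx hne
      by_contra h0
      exact hne (key (M + N) x hx h0 (by rw [Lam_add, hP.weight_top, hQ.weight_top]))
    · intro h
      refine absurd ?_ h
      rw [Finset.HasAntidiagonal.mem_antidiagonal]
  · rw [Lam_add, hP.weight_top, hQ.weight_top]
  · intro m hm hne
    rw [coeff_mul] at hm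
    obtain ⟨x, hx, hx0⟩ := Finset.exists_ne_zero_of_sum_ne_zero hm
    by_contra hlt
    rw [not_lt] at hlt
    have h1 := key m x hx hx0 hlt
    have h2 : x.1 + x.2 = m := Finset.HasAntidiagonal.mem_antidiagonal.mp hx
    rw [h1] at h2
    exact hne h2.symm

lemma IsTop.pow {P : MatRing K d n} {k : ℕ} {M : Fin n × Fin d →₀ ℕ} (hP : IsTop P k M)
    (j : ℕ) : IsTop (P ^ j) (j * k) (j • M) := by
  induction j with
  | zero =>
    rw [pow_zero, zero_mul, zero_smul]
    exact isTop_one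
  | succ j ih =>
    have h1 : (j + 1) * k = j * k + k := by ring
    rw [pow_succ, h1, succ_nsmul]
    exact ih.mul hP

lemma IsTop.sub_lower {P P' : MatRing K d n} {k : ℕ} {M : Fin n × Fin d →₀ ℕ}
    (h : IsTop P k M) (h' : IsTop P' k M) (m : Fin n × Fin d →₀ ℕ)
    (hm : coeff m P - coeff m P' ≠ 0) : Lam m < k := by
  by_cases hmM : m = M
  · rw [hmM, h.coeff_top, h'.coeff_top, sub_self] at hm
    exact absurd rfl hm
  · by_cases h0 : coeff m P = 0
    · rw [h0, zero_sub] at hm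
      exact h'.lower m (neg_ne_zero.mp hm) hmM
    · exact h.lower m h0 hmM

end top

/-! ### Permutations and the rearrangement inequality -/

lemma exists_inversion (σ : Equiv.Perm (Fin d)) (hσ : σ ≠ 1) :
    ∃ i j : Fin d, i < j ∧ σ j < σ i := by
  by_contra hcon
  push Not at hcon
  apply hσ
  have hmono : StrictMono σ := by
    intro i j hij
    exact lt_of_le_of_ne (hcon i j hij) (fun h => hij.ne (σ.injective h))
  have hmono' : StrictMono σ.symm := by
    intro i j hij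
    by_contra h
    rw [not_lt] at h
    have h1 := hmono.monotone h
    rw [Equiv.apply_symm_apply, Equiv.apply_symm_apply] at h1
    exact absurd hij (not_lt.mpr h1)
  refine Equiv.ext fun i => Fin.ext ?_
  have h1 := val_le_of_strictMono σ hmono i
  have h2 := val_le_of_strictMono σ.symm hmono' (σ i)
  rw [Equiv.symm_apply_apply] at h2
  rw [Equiv.Perm.one_apply]
  omega

lemma sum_perm_lt (θ : Idx d n) (σ : Equiv.Perm (Fin d)) (hσ : σ ≠ 1) :
    ∑ t, (θ.1 (σ t)).val * t.val < ∑ t, (θ.1 t).val * t.val := by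
  have hmv : Monovary (fun t : Fin d => (θ.1 t).val) (fun t : Fin d => t.val) := by
    intro i j hij
    have h1 : i < j := hij
    have h2 : θ.1 i < θ.1 j := θ.2 h1
    exact (Fin.lt_def.mp h2).le
  have h0 := (hmv.sum_comp_perm_mul_lt_sum_mul_iff (σ := σ)).mpr (by
    intro hm
    obtain ⟨i, j, hij, hji⟩ := exists_inversion σ hσ
    have h1 := hm (show (fun t : Fin d => t.val) i < (fun t : Fin d => t.val) j from hij)
    have h2 : θ.1 (σ j) < θ.1 (σ i) := θ.2 hji
    have h3 : (θ.1 (σ i)).val ≤ (θ.1 (σ j)).val := h1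
    exact absurd (Fin.lt_def.mp h2) (not_lt.mpr h3))
  exact h0

/-! ### The leading monomial of a minor -/

/-- The exponent of the term of `σ` in the minor on the rows `θ`. -/
noncomputable def uS (θ : Idx d n) (σ : Equiv.Perm (Fin d)) : Fin n × Fin d →₀ ℕ :=
  ∑ t, Finsupp.single (θ.1 (σ t), t) 1

lemma Lam_uS (θ : Idx d n) (σ : Equiv.Perm (Fin d)) :
    Lam (uS θ σ) = ∑ t, (θ.1 (σ t)).val * t.val := by
  unfold uS
  rw [Lam_sum]
  refine Finset.sum_congr rfl fun t _ => ?_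
  rw [Lam_single, one_mul]
  rfl

/-- The diagonal exponent. -/
noncomputable def Dθ (θ : Idx d n) : Fin n × Fin d →₀ ℕ := ∑ t, Finsupp.single (θ.1 t, t) 1

/-- The weight of the diagonal term. -/
def Wθ (θ : Idx d n) : ℕ := ∑ t, (θ.1 t).val * t.val

lemma uS_one (θ : Idx d n) : uS θ 1 = Dθ θ := rfl

lemma Lam_Dθ (θ : Idx d n) : Lam (Dθ θ) = Wθ θ := by
  rw [← uS_one, Lam_uS]
  rfl

section minor

variable (K : Type u) [Field K]

lemma term_eq (w θ : Idx d n) (σ : Equiv.Perm (Fin d)) :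
    ∏ t, ((stairG (fun p : Fin n × Fin d => (X p : MatRing K d n)) w).submatrix θ.1 id) (σ t) t =
      if ∀ t, θ.1 (σ t) ≤ w.1 t then monomial (uS θ σ) (1:K) else 0 := by
  classical
  have h1 : ∀ t, ((stairG (fun p : Fin n × Fin d => (X p : MatRing K d n)) w).submatrix θ.1 id)
      (σ t) t = if θ.1 (σ t) ≤ w.1 t then (X (θ.1 (σ t), t) : MatRing K d n) else 0 :=
    fun t => rfl
  by_cases hc : ∀ t, θ.1 (σ t) ≤ w.1 t
  · rw [if_pos hc]
    unfold uS
    rw [monomial_sum_one]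
    refine Finset.prod_congr rfl fun t _ => ?_
    rw [h1 t, if_pos (hc t)]
    rfl
  · rw [if_neg hc]
    push Not at hc
    obtain ⟨t, ht⟩ := hc
    refine Finset.prod_eq_zero (Finset.mem_univ t) ?_
    rw [h1 t, if_neg (not_le.mpr ht)]

lemma coeff_sign_smul_ne (ε : ℤˣ) (m : Fin n × Fin d →₀ ℕ) (P : MatRing K d n)
    (h : coeff m (ε • P) ≠ 0) : coeff m P ≠ 0 := by
  rcases Int.units_eq_one_or ε with h1 | h1
  · rw [h1, one_smul] at h
    exact h
  · rw [h1, Units.neg_smul, one_smul, coeff_neg] at h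
    exact neg_ne_zero.mp h

theorem isTop_minor (w θ : Idx d n) (hθ : θ ≤ w) : IsTop (psi K w (X θ)) (Wθ θ) (Dθ θ) := by
  classical
  obtain ⟨M, hM⟩ : ∃ M : Matrix (Fin d) (Fin d) (MatRing K d n),
      M = (stairG (fun p : Fin n × Fin d => (X p : MatRing K d n)) w).submatrix θ.1 id :=
    ⟨_, rfl⟩
  have hdet : psi K w (X θ) =
      ∑ σ : Equiv.Perm (Fin d), Equiv.Perm.sign σ • ∏ t, M (σ t) t := by
    rw [psi_X, ← hM, Matrix.det_apply]
  have hterm : ∀ (σ : Equiv.Perm (Fin d)) (m : Fin n × Fin d →₀ ℕ),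
      coeff m (Equiv.Perm.sign σ • ∏ t, M (σ t) t) ≠ 0 → m = uS θ σ := by
    intro σ m h
    have h1 := coeff_sign_smul_ne K _ m _ h
    rw [hM, term_eq] at h1
    split_ifs at h1 with hc
    · rw [coeff_monomial] at h1
      by_contra hne
      exact h1 (if_neg fun h' => hne h'.symm)
    · rw [coeff_zero] at h1
      exact absurd rfl h1
  have hlt : ∀ σ : Equiv.Perm (Fin d), σ ≠ 1 → Lam (uS θ σ) < Wθ θ := by
    intro σ hσ
    rw [Lam_uS]
    exact sum_perm_lt θ σ hσ
  refine ⟨?_, Lam_Dθ θ, ?_⟩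
  · rw [hdet, coeff_sum, Finset.sum_eq_single (1 : Equiv.Perm (Fin d))]
    · have hc : ∀ t, θ.1 ((1 : Equiv.Perm (Fin d)) t) ≤ w.1 t := fun t => hθ t
      rw [Equiv.Perm.sign_one, one_smul, hM, term_eq, if_pos hc, coeff_monomial,
        if_pos (uS_one θ)]
    · intro σ _ hσ
      by_contra hne
      have h1 := hterm σ _ hne
      have h2 := hlt σ hσ
      rw [← h1, Lam_Dθ] at h2
      exact lt_irrefl _ h2
    · intro h
      exact absurd (Finset.mem_univ _) h
  · intro m hm hne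
    rw [hdet, coeff_sum] at hm
    obtain ⟨σ, -, hσ⟩ := Finset.exists_ne_zero_of_sum_ne_zero hm
    have h1 := hterm σ m hσ
    by_cases h2 : σ = 1
    · rw [h2] at h1
      exact absurd h1 hne
    · rw [h1]
      exact hlt σ h2

end minor

/-! ### Leading monomials of products of minors -/

/-- The leading exponent of the product of minors. -/
noncomputable def Dm (u : Idx d n →₀ ℕ) : Fin n × Fin d →₀ ℕ := u.sum fun θ k => k • Dθ θ

/-- The weight of the product of minors. -/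
def Wm (u : Idx d n →₀ ℕ) : ℕ := u.sum fun θ k => k * Wθ θ

lemma Dm_add (s t : Idx d n →₀ ℕ) : Dm (s + t) = Dm s + Dm t :=
  Finsupp.sum_add_index' (fun _ => zero_smul _ _) (fun _ _ _ => add_smul _ _ _)

lemma Dm_single (θ : Idx d n) (k : ℕ) : Dm (Finsupp.single θ k) = k • Dθ θ :=
  Finsupp.sum_single_index (zero_smul _ _)

lemma Dm_zero : Dm (0 : Idx d n →₀ ℕ) = 0 := Finsupp.sum_zero_index

lemma Wm_add (s t : Idx d n →₀ ℕ) : Wm (s + t) = Wm s + Wm t :=
  Finsupp.sum_add_index' (fun _ => zero_mul _) (fun _ _ _ => add_mul _ _ _)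

lemma Wm_single (θ : Idx d n) (k : ℕ) : Wm (Finsupp.single θ k) = k * Wθ θ :=
  Finsupp.sum_single_index (zero_mul _)

lemma Wm_zero : Wm (0 : Idx d n →₀ ℕ) = 0 := Finsupp.sum_zero_index

lemma mem_support_add_left {ι : Type*} (s t : ι →₀ ℕ) (a : ι) (ha : a ∈ s.support) :
    a ∈ (s + t).support := by
  rw [Finsupp.mem_support_iff] at ha ⊢
  rw [Finsupp.add_apply]
  omega

lemma mem_support_add_right {ι : Type*} (s t : ι →₀ ℕ) (a : ι) (ha : a ∈ t.support) :
    a ∈ (s + t).support := by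
  rw [Finsupp.mem_support_iff] at ha ⊢
  rw [Finsupp.add_apply]
  omega

theorem isTop_monomial (K : Type u) [Field K] (w : Idx d n) :
    ∀ u : Idx d n →₀ ℕ, LeAll w u → IsTop (psi K w (monomial u 1)) (Wm u) (Dm u) := by
  intro u
  induction u using Finsupp.induction_linear with
  | zero =>
    intro _
    have h : (monomial (0 : Idx d n →₀ ℕ) (1:K) : PlRing K d n) = 1 := rfl
    rw [h, map_one, Wm_zero, Dm_zero]
    exact isTop_one
  | add s t hs ht =>
    intro hu
    have h : (monomial (s + t) (1:K) : PlRing K d n) = monomial s 1 * monomial t 1 := by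
      rw [monomial_mul, one_mul]
    rw [h, map_mul, Wm_add, Dm_add]
    exact (hs fun θ hθ => hu θ (mem_support_add_left s t θ hθ)).mul
      (ht fun θ hθ => hu θ (mem_support_add_right s t θ hθ))
  | single θ k =>
    intro hu
    rw [← X_pow_eq_monomial, map_pow, Wm_single, Dm_single]
    rcases Nat.eq_zero_or_pos k with hk | hk
    · rw [hk, pow_zero, zero_mul, zero_smul]
      exact isTop_one
    · have hθ : θ ≤ w := hu θ (by
        rw [Finsupp.mem_support_iff, Finsupp.single_eq_same]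
        omega)
      exact (isTop_minor K w θ hθ).pow k

/-! ### The leading exponent determines the standard monomial -/

lemma Dθ_apply (θ : Idx d n) (i : Fin n) (t : Fin d) :
    Dθ θ (i, t) = if θ.1 t = i then 1 else 0 := by
  classical
  unfold Dθ
  rw [Finsupp.finset_sum_apply, Finset.sum_eq_single t]
  · rw [Finsupp.single_apply]
    by_cases h : θ.1 t = i
    · rw [if_pos h, if_pos (by rw [h])]
    · rw [if_neg h, if_neg (fun h' => h (congrArg Prod.fst h'))]
  · intro t' _ ht'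
    rw [Finsupp.single_apply, if_neg (fun h' => ht' (congrArg Prod.snd h'))]
  · intro h
    exact absurd (Finset.mem_univ _) h

lemma Dm_apply (u : Idx d n →₀ ℕ) (i : Fin n) (t : Fin d) :
    Dm u (i, t) = ∑ θ ∈ u.support, if θ.1 t = i then u θ else 0 := by
  unfold Dm
  rw [Finsupp.sum, Finsupp.finset_sum_apply]
  refine Finset.sum_congr rfl fun θ _ => ?_
  rw [Finsupp.smul_apply, Dθ_apply, smul_eq_mul]
  split_ifs
  · rw [mul_one]
  · rw [mul_zero]

lemma Dm_ne_zero_of_mem (u : Idx d n →₀ ℕ) (θ : Idx d n) (hθ : θ ∈ u.support) (t : Fin d) :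
    Dm u (θ.1 t, t) ≠ 0 := by
  rw [Dm_apply]
  have h1 : (if θ.1 t = θ.1 t then u θ else 0) ≤
      ∑ φ ∈ u.support, if φ.1 t = θ.1 t then u φ else 0 :=
    Finset.single_le_sum (f := fun φ : Idx d n => if φ.1 t = θ.1 t then u φ else 0)
      (fun _ _ => Nat.zero_le _) hθ
  rw [if_pos rfl] at h1
  have h2 := Finsupp.mem_support_iff.mp hθ
  omega

lemma exists_of_Dm_ne_zero (u : Idx d n →₀ ℕ) (i : Fin n) (t : Fin d) (h : Dm u (i, t) ≠ 0) :
    ∃ θ ∈ u.support, θ.1 t = i := by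
  rw [Dm_apply] at h
  obtain ⟨θ, hθ, h1⟩ := Finset.exists_ne_zero_of_sum_ne_zero h
  refine ⟨θ, hθ, ?_⟩
  by_contra hne
  exact h1 (if_neg hne)

lemma exists_max (u : Idx d n →₀ ℕ) (hu : IsStd u) (h0 : u ≠ 0) :
    ∃ φ ∈ u.support, ∀ θ ∈ u.support, θ ≤ φ := by
  have hne' : u.support.Nonempty := Finsupp.support_nonempty_iff.mpr h0
  obtain ⟨φ, hφ⟩ := u.support.exists_maximal hne'
  refine ⟨φ, hφ.1, fun θ hθ => ?_⟩
  rcases hu θ hθ φ hφ.1 with h | h
  · exact h
  · exact hφ.2 hθ h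

theorem Dm_injective (hd : 0 < d) : ∀ (N : ℕ) (u v : Idx d n →₀ ℕ), deg u = N →
    IsStd u → IsStd v → Dm u = Dm v → u = v := by
  have hzero : ∀ v : Idx d n →₀ ℕ, Dm v = 0 → v = 0 := by
    intro v hv
    by_contra hne
    obtain ⟨θ, hθ⟩ := Finsupp.support_nonempty_iff.mpr hne
    have h1 := Dm_ne_zero_of_mem v θ hθ ⟨0, hd⟩
    rw [hv] at h1
    exact h1 rfl
  have hle : ∀ (u v : Idx d n →₀ ℕ) (φ ψ : Idx d n), Dm u = Dm v → φ ∈ u.support →
      (∀ θ ∈ v.support, θ ≤ ψ) → φ ≤ ψ := by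
    intro u v φ ψ hD hφ hψmax t
    have h1 := Dm_ne_zero_of_mem u φ hφ t
    rw [hD] at h1
    obtain ⟨θ, hθ, h2⟩ := exists_of_Dm_ne_zero v _ t h1
    rw [← h2]
    exact hψmax θ hθ t
  intro N
  induction N with
  | zero =>
    intro u v hu _ _ hD
    have hu0 := deg_eq_zero u hu
    rw [hu0, Dm_zero] at hD
    rw [hu0, hzero v hD.symm]
  | succ N ih =>
    intro u v hu hsu hsv hD
    have hu0 : u ≠ 0 := by
      rintro rfl
      have h0 : deg (0 : Idx d n →₀ ℕ) = 0 := Finsupp.sum_zero_index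
      omega
    have hv0 : v ≠ 0 := by
      rintro rfl
      rw [Dm_zero] at hD
      exact hu0 (hzero u hD)
    obtain ⟨φ, hφ, hφmax⟩ := exists_max u hsu hu0
    obtain ⟨ψ, hψ, hψmax⟩ := exists_max v hsv hv0
    have hφψ : φ = ψ :=
      le_antisymm (hle u v φ ψ hD hφ hψmax) (hle v u ψ φ hD.symm hψ hφmax)
    subst hφψ
    have h1u : Finsupp.single φ 1 ≤ u :=
      Finsupp.single_le_iff.mpr (Nat.one_le_iff_ne_zero.mpr (Finsupp.mem_support_iff.mp hφ))
    have h1v : Finsupp.single φ 1 ≤ v :=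
      Finsupp.single_le_iff.mpr (Nat.one_le_iff_ne_zero.mpr (Finsupp.mem_support_iff.mp hψ))
    obtain ⟨u', hu'⟩ : ∃ u', u = u' + Finsupp.single φ 1 :=
      ⟨_, (tsub_add_cancel_of_le h1u).symm⟩
    obtain ⟨v', hv'⟩ : ∃ v', v = v' + Finsupp.single φ 1 :=
      ⟨_, (tsub_add_cancel_of_le h1v).symm⟩
    subst hu'
    subst hv'
    rw [Dm_add, Dm_add] at hD
    have hD' : Dm u' = Dm v' := add_right_cancel hD
    have hdeg : deg u' = N := by
      rw [deg_add, deg_single] at hu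
      omega
    have hsu' : IsStd u' := fun a ha b hb =>
      hsu a (mem_support_add_left _ _ a ha) b (mem_support_add_left _ _ b hb)
    have hsv' : IsStd v' := fun a ha b hb =>
      hsv a (mem_support_add_left _ _ a ha) b (mem_support_add_left _ _ b hb)
    rw [ih u' v' hdeg hsu' hsv' hD']

/-! ### Bounding the weights in an expansion -/

theorem topBound (K : Type u) [Field K] {ι : Type*} (S : Finset ι) (c : ι → K)
    (P : ι → MatRing K d n) (Wt : ι → ℕ) (Dmap : ι → (Fin n × Fin d →₀ ℕ))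
    (hP : ∀ v ∈ S, IsTop (P v) (Wt v) (Dmap v))
    (hinj : ∀ v ∈ S, ∀ v' ∈ S, Dmap v = Dmap v' → v = v') (k : ℕ)
    (hQ : ∀ m, coeff m (∑ v ∈ S, c v • P v) ≠ 0 → Lam m < k) :
    ∀ v ∈ S, c v ≠ 0 → Wt v < k := by
  classical
  intro v hv hcv
  by_contra hlt
  rw [not_lt] at hlt
  obtain ⟨T, hT⟩ : ∃ T : Finset ι, T = S.filter (fun v => c v ≠ 0) := ⟨_, rfl⟩
  have hTmem : ∀ x, x ∈ T ↔ x ∈ S ∧ c x ≠ 0 := fun x => by rw [hT, Finset.mem_filter]
  have hTne : T.Nonempty := ⟨v, (hTmem v).mpr ⟨hv, hcv⟩⟩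
  obtain ⟨v₀, hv₀, hmax⟩ := Finset.exists_max_image T Wt hTne
  obtain ⟨hv₀S, hcv₀⟩ := (hTmem v₀).mp hv₀
  have hk : k ≤ Wt v₀ := le_trans hlt (hmax v ((hTmem v).mpr ⟨hv, hcv⟩))
  have hcoeff : coeff (Dmap v₀) (∑ x ∈ S, c x • P x) = c v₀ := by
    rw [coeff_sum, Finset.sum_eq_single v₀]
    · rw [coeff_smul, (hP v₀ hv₀S).coeff_top, smul_eq_mul, mul_one]
    · intro x hx hne
      rw [coeff_smul, smul_eq_mul]
      by_cases hcx : c x = 0
      · rw [hcx, zero_mul]
      · have hxT : x ∈ T := (hTmem x).mpr ⟨hx, hcx⟩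
        have h1 : coeff (Dmap v₀) (P x) = 0 := by
          by_contra h2
          have h3 : Dmap v₀ ≠ Dmap x := fun h => hne (hinj v₀ hv₀S x hx h).symm
          have h4 := (hP x hx).lower _ h2 h3
          rw [(hP v₀ hv₀S).weight_top] at h4
          exact absurd (hmax x hxT) (not_le.mpr h4)
        rw [h1, mul_zero]
    · intro h
      exact absurd hv₀S h
  have h5 := hQ (Dmap v₀) (by rw [hcoeff]; exact hcv₀)
  rw [(hP v₀ hv₀S).weight_top] at h5
  omega

end Groth.Agent.Helper8.SMT8
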