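import Mathlib
import Groth.Agent.Helper8.SMT8

set_option autoImplicit false

namespace Groth.Agent.Helper8.Lead

open MvPolynomial

universe u

variable {σ : Type*} (lam : σ → ℕ)

/-- The weight of a monomial. -/
def Lam (m : σ →₀ ℕ) : ℕ := m.sum fun p k => k * lam p

lemma Lam_add (s t : σ →₀ ℕ) : Lam lam (s + t) = Lam lam s + Lam lam t :=
  Finsupp.sum_add_index' (fun _ => zero_mul _) (fun _ _ _ => add_mul _ _ _)

lemma Lam_single (p : σ) (k : ℕ) : Lam lam (Finsupp.single p k) = k * lam p :=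
  Finsupp.sum_single_index (zero_mul _)

lemma Lam_zero : Lam lam (0 : σ →₀ ℕ) = 0 := Finsupp.sum_zero_index

/-- `Lam` as an additive map. -/
def LamHom : (σ →₀ ℕ) →+ ℕ where
  toFun := Lam lam
  map_zero' := Lam_zero lam
  map_add' := Lam_add lam

lemma Lam_sum {ι : Type*} (s : Finset ι) (f : ι → (σ →₀ ℕ)) :
    Lam lam (∑ i ∈ s, f i) = ∑ i ∈ s, Lam lam (f i) :=
  map_sum (LamHom lam) f s

variable {K : Type u} [Field K]

/-- `P` has the monomial `M` of weight `k` with coefficient one, all other monomials being of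
smaller weight. -/
structure IsTop (P : MvPolynomial σ K) (k : ℕ) (M : σ →₀ ℕ) : Prop where
  coeff_top : coeff M P = 1
  weight_top : Lam lam M = k
  lower : ∀ m, coeff m P ≠ 0 → m ≠ M → Lam lam m < k

variable {lam}

lemma IsTop.le {P : MvPolynomial σ K} {k : ℕ} {M : σ →₀ ℕ} (h : IsTop lam P k M)
    (m : σ →₀ ℕ) (hm : coeff m P ≠ 0) : Lam lam m ≤ k := by
  by_cases hmM : m = M
  · rw [hmM, h.weight_top]
  · exact (h.lower m hm hmM).le

lemma IsTop.eq_of_ge {P : MvPolynomial σ K} {k : ℕ} {M : σ →₀ ℕ} (h : IsTop lam P k M)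
    (m : σ →₀ ℕ) (hm : coeff m P ≠ 0) (hk : k ≤ Lam lam m) : m = M := by
  by_contra hne
  exact absurd (h.lower m hm hne) (not_lt.mpr hk)

variable (lam) in
lemma isTop_one : IsTop lam (1 : MvPolynomial σ K) 0 0 := by
  classical
  refine ⟨?_, Lam_zero lam, ?_⟩
  · rw [coeff_one, if_pos rfl]
  · intro m hm hne
    rw [coeff_one, if_neg (fun h => hne h.symm)] at hm
    exact absurd rfl hm

lemma IsTop.mul {P Q : MvPolynomial σ K} {k l : ℕ} {M N : σ →₀ ℕ}
    (hP : IsTop lam P k M) (hQ : IsTop lam Q l N) : IsTop lam (P * Q) (k + l) (M + N) := by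
  classical
  have key : ∀ m : σ →₀ ℕ, ∀ x ∈ Finset.HasAntidiagonal.antidiagonal m,
      coeff x.1 P * coeff x.2 Q ≠ 0 → k + l ≤ Lam lam m → x = (M, N) := by
    intro m x hx hne hkl
    have h1 : x.1 + x.2 = m := Finset.HasAntidiagonal.mem_antidiagonal.mp hx
    have hp : coeff x.1 P ≠ 0 := left_ne_zero_of_mul hne
    have hq : coeff x.2 Q ≠ 0 := right_ne_zero_of_mul hne
    have h2 := hP.le _ hp
    have h3 := hQ.le _ hq
    have h4 : Lam lam m = Lam lam x.1 + Lam lam x.2 := by rw [← h1, Lam_add]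
    have h5 : x.1 = M := hP.eq_of_ge _ hp (by omega)
    have h6 : x.2 = N := hQ.eq_of_ge _ hq (by omega)
    exact Prod.ext h5 h6
  refine ⟨?_, ?_, ?_⟩
  · rw [coeff_mul, Finset.sum_eq_single (M, N)]
    · show coeff M P * coeff N Q = 1
      rw [hP.coeff_top, hQ.coeff_top, mul_one]
    · intro x hx hne
      by_contra h0
      exact hne (key (M + N) x hx h0 (by rw [Lam_add, hP.weight_top, hQ.weight_top]))
    · intro h
      refine absurd ?_ h
      rw [Finset.HasAntidiagonal.mem_antidiagonal]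
  · rw [Lam_add, hP.weight_top, hQ.weight_top]
  · intro m hm hne
    rw [coeff_mul] at hm
    obtain ⟨x, hx, hx0⟩ := Finset.exists_ne_zero_of_sum_ne_zero hm
    by_contra hlt
    rw [not_lt] at hlt
    have h1 := key m x hx hx0 hlt
    have h2 : x.1 + x.2 = m := Finset.HasAntidiagonal.mem_antidiagonal.mp hx
    rw [h1] at h2
    exact hne h2.symm

lemma IsTop.prod {ι : Type*} (s : Finset ι) (P : ι → MvPolynomial σ K) (w : ι → ℕ)
    (E : ι → (σ →₀ ℕ)) (h : ∀ i ∈ s, IsTop lam (P i) (w i) (E i)) :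
    IsTop lam (∏ i ∈ s, P i) (∑ i ∈ s, w i) (∑ i ∈ s, E i) := by
  classical
  induction s using Finset.induction_on with
  | empty =>
    rw [Finset.prod_empty, Finset.sum_empty, Finset.sum_empty]
    exact isTop_one lam
  | insert a s ha ih =>
    rw [Finset.prod_insert ha, Finset.sum_insert ha, Finset.sum_insert ha]
    exact (h a (Finset.mem_insert_self a s)).mul
      (ih fun i hi => h i (Finset.mem_insert_of_mem hi))

lemma IsTop.sum {ι : Type*} (s : Finset ι) (i₀ : ι) (hi₀ : i₀ ∈ s) (P : ι → MvPolynomial σ K)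
    (w : ι → ℕ) (E : ι → (σ →₀ ℕ)) (h : ∀ i ∈ s, IsTop lam (P i) (w i) (E i))
    (hlt : ∀ i ∈ s, i ≠ i₀ → w i < w i₀) :
    IsTop lam (∑ i ∈ s, P i) (w i₀) (E i₀) := by
  classical
  refine ⟨?_, (h i₀ hi₀).weight_top, ?_⟩
  · rw [coeff_sum, Finset.sum_eq_single i₀]
    · exact (h i₀ hi₀).coeff_top
    · intro i hi hne
      by_contra h0
      have h1 := (h i hi).le _ h0
      rw [(h i₀ hi₀).weight_top] at h1
      exact absurd (hlt i hi hne) (not_lt.mpr h1)
    · intro hn
      exact absurd hi₀ hn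
  · intro m hm hne
    rw [coeff_sum] at hm
    obtain ⟨i, hi, h0⟩ := Finset.exists_ne_zero_of_sum_ne_zero hm
    by_cases hii : i = i₀
    · subst hii
      exact (h i hi).lower m h0 hne
    · exact lt_of_le_of_lt ((h i hi).le m h0) (hlt i hi hii)

/-! ### Determinants of matrices of variables -/

lemma coeff_sign_smul_ne (ε : ℤˣ) (m : σ →₀ ℕ) (P : MvPolynomial σ K)
    (h : coeff m (ε • P) ≠ 0) : coeff m P ≠ 0 := by
  rcases Int.units_eq_one_or ε with h1 | h1
  · rw [h1, one_smul] at h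
    exact h
  · rw [h1, Units.neg_smul, one_smul, coeff_neg] at h
    exact neg_ne_zero.mp h

lemma sum_perm_lt {k : ℕ} (f g : Fin k → ℕ) (hf : ∀ i j : Fin k, i < j → f j < f i)
    (hg : ∀ i j : Fin k, i < j → g j < g i) (τ : Equiv.Perm (Fin k)) (hτ : τ ≠ 1) :
    ∑ t, f (τ t) * g t < ∑ t, f t * g t := by
  have hlt_of : ∀ i j : Fin k, g i < g j → j < i := by
    intro i j hij
    by_contra hcon
    rw [not_lt] at hcon
    rcases lt_or_eq_of_le hcon with h | h
    · exact absurd (hg i j h) (not_lt.mpr hij.le)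
    · rw [h] at hij
      exact lt_irrefl _ hij
  have hmv : Monovary f g := by
    intro i j hij
    exact (hf j i (hlt_of i j hij)).le
  have h0 := (hmv.sum_comp_perm_mul_lt_sum_mul_iff (σ := τ)).mpr (by
    intro hm
    obtain ⟨i, j, hij, hji⟩ := SMT8.exists_inversion τ hτ
    have h1 := hm (hg i j hij)
    have h3 : f (τ j) ≤ f (τ i) := h1
    exact absurd (hf (τ j) (τ i) hji) (not_lt.mpr h3))
  exact h0

theorem isTop_det (k : ℕ) (φ : Fin k → Fin k → σ) (f g : Fin k → ℕ)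
    (hf : ∀ i j : Fin k, i < j → f j < f i) (hg : ∀ i j : Fin k, i < j → g j < g i)
    (hlam : ∀ j l, lam (φ j l) = f j * g l) :
    IsTop lam (Matrix.det (Matrix.of fun j l => (X (φ j l) : MvPolynomial σ K)))
      (∑ j, f j * g j) (∑ j, Finsupp.single (φ j j) 1) := by
  classical
  obtain ⟨uS, huS⟩ : ∃ uS : Equiv.Perm (Fin k) → (σ →₀ ℕ),
      uS = fun τ => ∑ l, Finsupp.single (φ (τ l) l) 1 := ⟨_, rfl⟩
  have hLam : ∀ τ, Lam lam (uS τ) = ∑ l, f (τ l) * g l := by
    intro τ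
    rw [huS, Lam_sum]
    refine Finset.sum_congr rfl fun l _ => ?_
    rw [Lam_single, one_mul, hlam]
  have hterm : ∀ τ : Equiv.Perm (Fin k),
      ∏ l, (Matrix.of fun j l => (X (φ j l) : MvPolynomial σ K)) (τ l) l =
        monomial (uS τ) 1 := by
    intro τ
    rw [huS]
    beta_reduce
    rw [monomial_sum_one]
    rfl
  have hdet : Matrix.det (Matrix.of fun j l => (X (φ j l) : MvPolynomial σ K)) =
      ∑ τ : Equiv.Perm (Fin k), Equiv.Perm.sign τ • monomial (uS τ) (1:K) := by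
    rw [Matrix.det_apply]
    refine Finset.sum_congr rfl fun τ _ => ?_
    rw [hterm]
  have hmon : ∀ (τ : Equiv.Perm (Fin k)) (m : σ →₀ ℕ),
      coeff m (Equiv.Perm.sign τ • monomial (uS τ) (1:K)) ≠ 0 → m = uS τ := by
    intro τ m h
    have h1 := coeff_sign_smul_ne _ m _ h
    rw [coeff_monomial] at h1
    by_contra hne
    exact h1 (if_neg fun h' => hne h'.symm)
  have hlt : ∀ τ : Equiv.Perm (Fin k), τ ≠ 1 → Lam lam (uS τ) < ∑ j, f j * g j := by
    intro τ hτ
    rw [hLam]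
    exact sum_perm_lt f g hf hg τ hτ
  have hone : uS 1 = ∑ j, Finsupp.single (φ j j) 1 := by
    rw [huS]
    rfl
  have hLam1 : Lam lam (∑ j, Finsupp.single (φ j j) 1) = ∑ j, f j * g j := by
    rw [← hone, hLam]
    rfl
  refine ⟨?_, hLam1, ?_⟩
  · rw [hdet, coeff_sum, Finset.sum_eq_single (1 : Equiv.Perm (Fin k))]
    · rw [Equiv.Perm.sign_one, one_smul, coeff_monomial, if_pos hone]
    · intro τ _ hτ
      by_contra hne
      have h1 := hmon τ _ hne
      have h2 := hlt τ hτ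
      rw [← h1, hLam1] at h2
      exact lt_irrefl _ h2
    · intro h
      exact absurd (Finset.mem_univ _) h
  · intro m hm hne
    rw [hdet, coeff_sum] at hm
    obtain ⟨τ, -, hτ⟩ := Finset.exists_ne_zero_of_sum_ne_zero hm
    have h1 := hmon τ m hτ
    by_cases h2 : τ = 1
    · rw [h2, hone] at h1
      exact absurd h1 hne
    · rw [h1]
      exact hlt τ h2

/-! ### Bounding the weights in an expansion -/

theorem topBound {ι : Type*} (S : Finset ι) (c : ι → K)
    (P : ι → MvPolynomial σ K) (Wt : ι → ℕ) (Dmap : ι → (σ →₀ ℕ))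
    (hP : ∀ v ∈ S, IsTop lam (P v) (Wt v) (Dmap v))
    (hinj : ∀ v ∈ S, ∀ v' ∈ S, Dmap v = Dmap v' → v = v') (k : ℕ)
    (hQ : ∀ m, coeff m (∑ v ∈ S, c v • P v) ≠ 0 → Lam lam m < k) :
    ∀ v ∈ S, c v ≠ 0 → Wt v < k := by
  classical
  intro v hv hcv
  by_contra hlt
  rw [not_lt] at hlt
  obtain ⟨T, hT⟩ : ∃ T : Finset ι, T = S.filter (fun v => c v ≠ 0) := ⟨_, rfl⟩
  have hTmem : ∀ x, x ∈ T ↔ x ∈ S ∧ c x ≠ 0 := fun x => by rw [hT, Finset.mem_filter]
  have hTne : T.Nonempty := ⟨v, (hTmem v).mpr ⟨hv, hcv⟩⟩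
  obtain ⟨v₀, hv₀, hmax⟩ := Finset.exists_max_image T Wt hTne
  obtain ⟨hv₀S, hcv₀⟩ := (hTmem v₀).mp hv₀
  have hk : k ≤ Wt v₀ := le_trans hlt (hmax v ((hTmem v).mpr ⟨hv, hcv⟩))
  have hcoeff : coeff (Dmap v₀) (∑ x ∈ S, c x • P x) = c v₀ := by
    rw [coeff_sum, Finset.sum_eq_single v₀]
    · rw [coeff_smul, (hP v₀ hv₀S).coeff_top, smul_eq_mul, mul_one]
    · intro x hx hne
      rw [coeff_smul, smul_eq_mul]
      by_cases hcx : c x = 0
      · rw [hcx, zero_mul]
      · have hxT : x ∈ T := (hTmem x).mpr ⟨hx, hcx⟩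
        have h1 : coeff (Dmap v₀) (P x) = 0 := by
          by_contra h2
          have h3 : Dmap v₀ ≠ Dmap x := fun h => hne (hinj v₀ hv₀S x hx h).symm
          have h4 := (hP x hx).lower _ h2 h3
          rw [(hP v₀ hv₀S).weight_top] at h4
          exact absurd (hmax x hxT) (not_le.mpr h4)
        rw [h1, mul_zero]
    · intro h
      exact absurd hv₀S h
  have h5 := hQ (Dmap v₀) (by rw [hcoeff]; exact hcv₀)
  rw [(hP v₀ hv₀S).weight_top] at h5
  omega

/-- Polynomials with pairwise distinct leading monomials are linearly independent. -/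
theorem linearIndependent_of_isTop {ι : Type*} (P : ι → MvPolynomial σ K) (Wt : ι → ℕ)
    (Dmap : ι → (σ →₀ ℕ)) (hP : ∀ v, IsTop lam (P v) (Wt v) (Dmap v))
    (hinj : Function.Injective Dmap) : LinearIndependent K P := by
  classical
  rw [linearIndependent_iff']
  intro S g hsum v hv
  by_contra hne
  have h1 := topBound S g P Wt Dmap (fun v _ => hP v) (fun v _ v' _ h => hinj h) 0
    (fun m hm => by
      rw [hsum, coeff_zero] at hm
      exact absurd rfl hm) v hv hne
  exact Nat.not_lt_zero _ h1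

end Groth.Agent.Helper8.Lead
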