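import Mathlib
import Groth.Prelude.Def_W4bk4grassmannianPl
import Groth.Prelude.Def_CAlgX
import Groth.Agent.Helper8.Lead
import Groth.Agent.Helper8.CauchyBinet

set_option autoImplicit false

namespace Groth.Agent.Helper8.Bitab1

open W4bk4grassmannian MvPolynomial Groth.Agent.Helper8.Lead

universe u

/-! ### The order on minors -/

section order

variable {m n : ℕ}

lemma minorGE_refl (M : MinorIdx m n) : MinorGE M M := by
  refine ⟨le_rfl, fun j j' hjj => ?_⟩
  have h : j = j' := Fin.ext hjj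
  rw [h]
  exact ⟨le_rfl, le_rfl⟩

lemma minorGE_antisymm (M M' : MinorIdx m n) (h : MinorGE M M') (h' : MinorGE M' M) :
    M = M' := by
  obtain ⟨s, A, B⟩ := M
  obtain ⟨s', A', B'⟩ := M'
  have hs : s = s' := le_antisymm h.1 h'.1
  subst hs
  have hA : A = A' := Subtype.ext (funext fun j =>
    le_antisymm ((h'.2 j j rfl).1) ((h.2 j j rfl).1))
  have hB : B = B' := Subtype.ext (funext fun j =>
    le_antisymm ((h'.2 j j rfl).2) ((h.2 j j rfl).2))
  rw [hA, hB]

end order

variable (K : Type u) [Field K] (N m n : ℕ)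

/-- The weights of the variables of the pair ring. -/
def lamP : (Fin m × Fin N) ⊕ (Fin N × Fin n) → ℕ
  | Sum.inl p => (m - p.1.val) * (N - p.2.val)
  | Sum.inr p => (N - p.1.val) * (n - p.2.val)

/-- The generic left factor. -/
noncomputable def Umat : Matrix (Fin m) (Fin N) (PairRing K N m n) := Matrix.of fun i k => X (Sum.inl (i, k))

/-- The generic right factor. -/
noncomputable def Wmat : Matrix (Fin N) (Fin n) (PairRing K N m n) := Matrix.of fun k j => X (Sum.inr (k, j))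

lemma pairing_X (i : Fin m) (j : Fin n) :
    pairingMap K N m n (X (i, j)) = (Umat K N m n * Wmat K N m n) i j := by
  unfold pairingMap
  rw [aeval_X, Matrix.mul_apply]
  rfl

lemma pairing_minor {k : ℕ} (A : Fin k → Fin m) (B : Fin k → Fin n) :
    pairingMap K N m n ((genMatrix K m n).submatrix A B).det =
      ((Umat K N m n).submatrix A id * (Wmat K N m n).submatrix id B).det := by
  rw [AlgHom.map_det]
  congr 1
  ext a b
  rw [AlgHom.mapMatrix_apply, Matrix.map_apply, Matrix.submatrix_apply]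
  unfold genMatrix
  rw [Matrix.of_apply, pairing_X, Matrix.mul_apply, Matrix.mul_apply]
  rfl

lemma minorIdeal_le_ker :
    CAlgX.minorIdeal (genMatrix K m n) (N + 1) ≤ RingHom.ker (pairingMap K N m n).toRingHom := by
  classical
  unfold CAlgX.minorIdeal
  rw [Ideal.span_le]
  rintro _ ⟨⟨f, g⟩, rfl⟩
  rw [SetLike.mem_coe, RingHom.mem_ker]
  show pairingMap K N m n _ = 0
  rw [pairing_minor, Groth.Agent.Helper8.CauchyBinet.cb (N + 1) N]
  refine Finset.sum_eq_zero fun C _ => ?_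
  exfalso
  have h1 := Finset.card_le_univ C.1
  rw [C.2, Fintype.card_fin] at h1
  omega

/-! ### The leading monomial of the image of a minor -/

/-- The leading exponent of the image of a minor. -/
noncomputable def DM (M : MinorIdx m n) : ((Fin m × Fin N) ⊕ (Fin N × Fin n)) →₀ ℕ :=
  ∑ j : Fin (M.1 + 1), if h : j.val < N then
    Finsupp.single (Sum.inl (M.2.1.1 j, (⟨j.val, h⟩ : Fin N))) 1 +
      Finsupp.single (Sum.inr ((⟨j.val, h⟩ : Fin N), M.2.2.1 j)) 1 else 0

/-- The weight of the leading monomial. -/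
def WtM (M : MinorIdx m n) : ℕ :=
  ∑ j : Fin (M.1 + 1), (N - j.val) * ((m - (M.2.1.1 j).val) + (n - (M.2.2.1 j).val))

lemma DM_eq (M : MinorIdx m n) (hM : M.1 + 1 ≤ N) :
    DM N m n M = (∑ j : Fin (M.1 + 1),
        Finsupp.single (Sum.inl (M.2.1.1 j, Fin.castLE hM j)) 1) +
      ∑ j : Fin (M.1 + 1), Finsupp.single (Sum.inr (Fin.castLE hM j, M.2.2.1 j)) 1 := by
  unfold DM
  rw [← Finset.sum_add_distrib]
  refine Finset.sum_congr rfl fun j _ => ?_
  have h : j.val < N := lt_of_lt_of_le j.isLt hM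
  rw [dif_pos h]
  rfl

section top

variable {N m n}

/-- The weight of the term of `C`. -/
def wC {s1 : ℕ} (A : Fin s1 → Fin m) (B : Fin s1 → Fin n) (e : Fin s1 → Fin N) : ℕ :=
  (∑ j, (m - (A j).val) * (N - (e j).val)) + ∑ j, (N - (e j).val) * (n - (B j).val)

lemma wC_eq {s1 : ℕ} (A : Fin s1 → Fin m) (B : Fin s1 → Fin n) (e : Fin s1 → Fin N) :
    wC A B e = ∑ j, (N - (e j).val) * ((m - (A j).val) + (n - (B j).val)) := by
  unfold wC
  rw [← Finset.sum_add_distrib]
  refine Finset.sum_congr rfl fun j _ => ?_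
  ring

lemma isTop_term {s1 : ℕ} (A : Fin s1 → Fin m) (hA : StrictMono A) (B : Fin s1 → Fin n)
    (hB : StrictMono B) (e : Fin s1 → Fin N) (he : StrictMono e) :
    IsTop (lamP N m n)
      ((((Umat K N m n).submatrix A id).submatrix id e).det *
        (((Wmat K N m n).submatrix id B).submatrix e id).det)
      (wC A B e)
      ((∑ j, Finsupp.single (Sum.inl (A j, e j)) 1) +
        ∑ j, Finsupp.single (Sum.inr (e j, B j)) 1) := by
  have hU : ((Umat K N m n).submatrix A id).submatrix id e =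
      Matrix.of fun j l => (X (Sum.inl (A j, e l)) : PairRing K N m n) := rfl
  have hW : ((Wmat K N m n).submatrix id B).submatrix e id =
      Matrix.of fun j l => (X (Sum.inr (e j, B l)) : PairRing K N m n) := rfl
  rw [hU, hW]
  unfold wC
  refine IsTop.mul ?_ ?_
  · refine isTop_det s1 (fun j l => Sum.inl (A j, e l)) (fun j => m - (A j).val)
      (fun l => N - (e l).val) ?_ ?_ (fun j l => rfl)
    · intro i j hij
      have h1 := Fin.lt_def.mp (hA hij)
      have h2 := (A j).isLt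
      omega
    · intro i j hij
      have h1 := Fin.lt_def.mp (he hij)
      have h2 := (e j).isLt
      omega
  · refine isTop_det s1 (fun j l => Sum.inr (e j, B l)) (fun j => N - (e j).val)
      (fun l => n - (B l).val) ?_ ?_ (fun j l => rfl)
    · intro i j hij
      have h1 := Fin.lt_def.mp (he hij)
      have h2 := (e j).isLt
      omega
    · intro i j hij
      have h1 := Fin.lt_def.mp (hB hij)
      have h2 := (B j).isLt
      omega

end top

/-- The initial set of columns. -/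
def C0 (s1 : ℕ) (h : s1 ≤ N) : {C : Finset (Fin N) // C.card = s1} :=
  ⟨Finset.univ.map (Fin.castLEEmb h), by
    rw [Finset.card_map, Finset.card_univ, Fintype.card_fin]⟩

lemma C0_emb (s1 : ℕ) (h : s1 ≤ N) (j : Fin s1) :
    (C0 N s1 h).1.orderEmbOfFin (C0 N s1 h).2 j = Fin.castLE h j := by
  have h1 := Finset.orderEmbOfFin_unique (C0 N s1 h).2 (f := fun j => Fin.castLE h j)
    (fun x => Finset.mem_map_of_mem (Fin.castLEEmb h) (Finset.mem_univ x))
    (fun a b hab => by
      rw [Fin.lt_def] at hab ⊢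
      exact hab)
  exact (congrFun h1 j).symm

lemma eq_C0 (s1 : ℕ) (h : s1 ≤ N) (C : {C : Finset (Fin N) // C.card = s1})
    (hC : ∀ j, (C.1.orderEmbOfFin C.2 j).val = j.val) : C = C0 N s1 h := by
  apply Subtype.ext
  rw [← Finset.map_orderEmbOfFin_univ C.1 C.2]
  unfold C0
  congr 1
  ext j
  show (C.1.orderEmbOfFin C.2 j).val = (Fin.castLE h j).val
  rw [hC]
  rfl

theorem isTop_pairing_minor (M : MinorIdx m n) (hM : M.1 + 1 ≤ N) :
    IsTop (lamP N m n) (pairingMap K N m n (minorOf K M)) (WtM N m n M) (DM N m n M) := by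
  classical
  obtain ⟨s, A, B⟩ := M
  have hM' : s + 1 ≤ N := hM
  unfold minorOf
  rw [pairing_minor, Groth.Agent.Helper8.CauchyBinet.cb (s + 1) N]
  have hmain := IsTop.sum (lam := lamP N m n) (K := K) Finset.univ (C0 N (s + 1) hM')
    (Finset.mem_univ _)
    (fun C : {C : Finset (Fin N) // C.card = s + 1} =>
      ((((Umat K N m n).submatrix A.1 id).submatrix id (C.1.orderEmbOfFin C.2)).det *
        (((Wmat K N m n).submatrix id B.1).submatrix (C.1.orderEmbOfFin C.2) id).det))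
    (fun C => wC A.1 B.1 (C.1.orderEmbOfFin C.2))
    (fun C => (∑ j, Finsupp.single (Sum.inl (A.1 j, C.1.orderEmbOfFin C.2 j)) 1) +
        ∑ j, Finsupp.single (Sum.inr (C.1.orderEmbOfFin C.2 j, B.1 j)) 1)
    (fun C _ => isTop_term K A.1 A.2 B.1 B.2 _ (C.1.orderEmbOfFin C.2).strictMono)
    (fun C _ hne => by
      rw [wC_eq, wC_eq]
      have hex : ∃ j, (C.1.orderEmbOfFin C.2 j).val ≠ j.val := by
        by_contra hcon
        push Not at hcon
        exact hne (eq_C0 N (s + 1) hM' C hcon)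
      obtain ⟨j₀, hj₀⟩ := hex
      have hge : ∀ j, j.val ≤ (C.1.orderEmbOfFin C.2 j).val := fun j =>
        SMT.val_le_of_strictMono _ (C.1.orderEmbOfFin C.2).strictMono j
      refine Finset.sum_lt_sum (fun j _ => ?_) ⟨j₀, Finset.mem_univ _, ?_⟩
      · rw [C0_emb]
        refine Nat.mul_le_mul_right _ ?_
        have := hge j
        show N - _ ≤ N - (Fin.castLE hM' j).val
        have h2 : (Fin.castLE hM' j).val = j.val := rfl
        omega
      · rw [C0_emb]
        have h2 : (Fin.castLE hM' j₀).val = j₀.val := rfl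
        have h3 := hge j₀
        have h4 := (C.1.orderEmbOfFin C.2 j₀).isLt
        have h5 := (A.1 j₀).isLt
        refine Nat.mul_lt_mul_of_lt_of_le ?_ le_rfl ?_
        · omega
        · omega)
  have hw : wC A.1 B.1 ((C0 N (s + 1) hM').1.orderEmbOfFin (C0 N (s + 1) hM').2) =
      WtM N m n ⟨s, A, B⟩ := by
    rw [wC_eq]
    unfold WtM
    refine Finset.sum_congr rfl fun j _ => ?_
    rw [C0_emb]
    rfl
  have hE : ((∑ j, Finsupp.single (Sum.inl (A.1 j,
        (C0 N (s + 1) hM').1.orderEmbOfFin (C0 N (s + 1) hM').2 j)) 1) +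
        ∑ j, Finsupp.single (Sum.inr
          ((C0 N (s + 1) hM').1.orderEmbOfFin (C0 N (s + 1) hM').2 j, B.1 j)) 1) =
      DM N m n ⟨s, A, B⟩ := by
    rw [DM_eq N m n ⟨s, A, B⟩ hM]
    congr 1
    · refine Finset.sum_congr rfl fun j _ => ?_
      rw [C0_emb]
    · refine Finset.sum_congr rfl fun j _ => ?_
      rw [C0_emb]
  rw [hw, hE] at hmain
  exact hmain

/-! ### Products of minors -/

theorem isTop_pairing_prod {k : ℕ} (c : Fin k → MinorIdx m n) (hc : ∀ i, (c i).1 + 1 ≤ N) :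
    IsTop (lamP N m n) (pairingMap K N m n (Finset.univ.prod fun i => minorOf K (c i)))
      (∑ i, WtM N m n (c i)) (∑ i, DM N m n (c i)) := by
  rw [map_prod]
  exact IsTop.prod Finset.univ _ _ _ (fun i _ => isTop_pairing_minor K N m n (c i) (hc i))

/-! ### The leading exponent determines the standard bitableau -/

lemma DM_inl_ne_zero (M : MinorIdx m n) (hM : M.1 + 1 ≤ N) (j : Fin (M.1 + 1)) :
    DM N m n M (Sum.inl (M.2.1.1 j, Fin.castLE hM j)) ≠ 0 := by
  classical
  rw [DM_eq N m n M hM, Finsupp.add_apply, Finsupp.finset_sum_apply]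
  have h1 : (Finsupp.single (Sum.inl (M.2.1.1 j, Fin.castLE hM j)) 1 :
      ((Fin m × Fin N) ⊕ (Fin N × Fin n)) →₀ ℕ) (Sum.inl (M.2.1.1 j, Fin.castLE hM j)) ≤
      ∑ i, (Finsupp.single (Sum.inl (M.2.1.1 i, Fin.castLE hM i)) 1 :
        ((Fin m × Fin N) ⊕ (Fin N × Fin n)) →₀ ℕ) (Sum.inl (M.2.1.1 j, Fin.castLE hM j)) :=
    Finset.single_le_sum (f := fun i => (Finsupp.single (Sum.inl (M.2.1.1 i, Fin.castLE hM i)) 1 :
        ((Fin m × Fin N) ⊕ (Fin N × Fin n)) →₀ ℕ) (Sum.inl (M.2.1.1 j, Fin.castLE hM j)))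
      (fun _ _ => Nat.zero_le _) (Finset.mem_univ j)
  rw [Finsupp.single_eq_same] at h1
  omega

lemma DM_inr_ne_zero (M : MinorIdx m n) (hM : M.1 + 1 ≤ N) (j : Fin (M.1 + 1)) :
    DM N m n M (Sum.inr (Fin.castLE hM j, M.2.2.1 j)) ≠ 0 := by
  classical
  rw [DM_eq N m n M hM, Finsupp.add_apply, Finsupp.finset_sum_apply,
    Finsupp.finset_sum_apply]
  have h1 : (Finsupp.single (Sum.inr (Fin.castLE hM j, M.2.2.1 j)) 1 :
      ((Fin m × Fin N) ⊕ (Fin N × Fin n)) →₀ ℕ) (Sum.inr (Fin.castLE hM j, M.2.2.1 j)) ≤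
      ∑ i, (Finsupp.single (Sum.inr (Fin.castLE hM i, M.2.2.1 i)) 1 :
        ((Fin m × Fin N) ⊕ (Fin N × Fin n)) →₀ ℕ) (Sum.inr (Fin.castLE hM j, M.2.2.1 j)) :=
    Finset.single_le_sum (f := fun i => (Finsupp.single (Sum.inr (Fin.castLE hM i, M.2.2.1 i)) 1 :
        ((Fin m × Fin N) ⊕ (Fin N × Fin n)) →₀ ℕ) (Sum.inr (Fin.castLE hM j, M.2.2.1 j)))
      (fun _ _ => Nat.zero_le _) (Finset.mem_univ j)
  rw [Finsupp.single_eq_same] at h1
  omega

lemma exists_of_DM_inl (M : MinorIdx m n) (hM : M.1 + 1 ≤ N) (a : Fin m) (k : Fin N)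
    (h : DM N m n M (Sum.inl (a, k)) ≠ 0) :
    ∃ j : Fin (M.1 + 1), j.val = k.val ∧ M.2.1.1 j = a := by
  classical
  rw [DM_eq N m n M hM, Finsupp.add_apply, Finsupp.finset_sum_apply,
    Finsupp.finset_sum_apply] at h
  have h2 : ∑ i : Fin (M.1 + 1), (Finsupp.single (Sum.inr (Fin.castLE hM i, M.2.2.1 i)) 1 :
      ((Fin m × Fin N) ⊕ (Fin N × Fin n)) →₀ ℕ) (Sum.inl (a, k)) = 0 :=
    Finset.sum_eq_zero fun i _ => by
      rw [Finsupp.single_apply, if_neg (fun h' => Sum.inr_ne_inl h')]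
  rw [h2, add_zero] at h
  obtain ⟨j, -, hj⟩ := Finset.exists_ne_zero_of_sum_ne_zero h
  rw [Finsupp.single_apply] at hj
  have h3 : (Sum.inl (M.2.1.1 j, Fin.castLE hM j) : (Fin m × Fin N) ⊕ (Fin N × Fin n)) =
      Sum.inl (a, k) := by
    by_contra hne
    exact hj (if_neg hne)
  have h4 := Sum.inl.inj h3
  have h5 : M.2.1.1 j = a := congrArg Prod.fst h4
  have h6 : Fin.castLE hM j = k := congrArg Prod.snd h4
  refine ⟨j, ?_, h5⟩
  rw [← h6]
  rfl

lemma exists_of_DM_inr (M : MinorIdx m n) (hM : M.1 + 1 ≤ N) (k : Fin N) (b : Fin n)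
    (h : DM N m n M (Sum.inr (k, b)) ≠ 0) :
    ∃ j : Fin (M.1 + 1), j.val = k.val ∧ M.2.2.1 j = b := by
  classical
  rw [DM_eq N m n M hM, Finsupp.add_apply, Finsupp.finset_sum_apply,
    Finsupp.finset_sum_apply] at h
  have h2 : ∑ i : Fin (M.1 + 1), (Finsupp.single (Sum.inl (M.2.1.1 i, Fin.castLE hM i)) 1 :
      ((Fin m × Fin N) ⊕ (Fin N × Fin n)) →₀ ℕ) (Sum.inr (k, b)) = 0 :=
    Finset.sum_eq_zero fun i _ => by
      rw [Finsupp.single_apply, if_neg (fun h' => Sum.inl_ne_inr h')]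
  rw [h2, zero_add] at h
  obtain ⟨j, -, hj⟩ := Finset.exists_ne_zero_of_sum_ne_zero h
  rw [Finsupp.single_apply] at hj
  have h3 : (Sum.inr (Fin.castLE hM j, M.2.2.1 j) : (Fin m × Fin N) ⊕ (Fin N × Fin n)) =
      Sum.inr (k, b) := by
    by_contra hne
    exact hj (if_neg hne)
  have h4 := Sum.inr.inj h3
  have h5 : Fin.castLE hM j = k := congrArg Prod.fst h4
  have h6 : M.2.2.1 j = b := congrArg Prod.snd h4
  refine ⟨j, ?_, h6⟩
  rw [← h5]
  rfl

/-- The leading exponent of a list of minors. -/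
noncomputable def DL (L : List (MinorIdx m n)) : ((Fin m × Fin N) ⊕ (Fin N × Fin n)) →₀ ℕ :=
  (L.map (DM N m n)).sum

lemma DL_cons (M : MinorIdx m n) (L : List (MinorIdx m n)) :
    DL N m n (M :: L) = DM N m n M + DL N m n L := by
  unfold DL
  rw [List.map_cons, List.sum_cons]

lemma DL_nil : DL N m n ([] : List (MinorIdx m n)) = 0 := rfl

lemma DL_ne_zero_of_mem (L : List (MinorIdx m n)) (M : MinorIdx m n) (hM : M ∈ L)
    (x : (Fin m × Fin N) ⊕ (Fin N × Fin n)) (hx : DM N m n M x ≠ 0) : DL N m n L x ≠ 0 := by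
  induction L with
  | nil => exact absurd hM (List.not_mem_nil)
  | cons M' L ih =>
    rw [DL_cons, Finsupp.add_apply]
    rcases List.mem_cons.mp hM with h | h
    · rw [← h]
      omega
    · have := ih h
      omega

lemma exists_mem_of_DL_ne_zero (L : List (MinorIdx m n))
    (x : (Fin m × Fin N) ⊕ (Fin N × Fin n)) (hx : DL N m n L x ≠ 0) :
    ∃ M ∈ L, DM N m n M x ≠ 0 := by
  induction L with
  | nil => exact absurd rfl hx
  | cons M' L ih =>
    rw [DL_cons, Finsupp.add_apply] at hx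
    by_cases h : DM N m n M' x = 0
    · rw [h, zero_add] at hx
      obtain ⟨M, hM, hMx⟩ := ih hx
      exact ⟨M, List.mem_cons_of_mem _ hM, hMx⟩
    · exact ⟨M', List.mem_cons_self, h⟩

lemma minorGE_of_DL (L L' : List (MinorIdx m n)) (hL : ∀ M ∈ L, M.1 + 1 ≤ N)
    (hL' : ∀ M ∈ L', M.1 + 1 ≤ N) (hD : DL N m n L = DL N m n L') (M : MinorIdx m n)
    (hM : M ∈ L) (M' : MinorIdx m n) (hM' : ∀ M'' ∈ L', MinorGE M'' M') : MinorGE M M' := by
  have keyA : ∀ j : Fin (M.1 + 1), j.val ≤ M'.1 ∧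
      ∀ j' : Fin (M'.1 + 1), j.val = j'.val → M'.2.1.1 j' ≤ M.2.1.1 j := by
    intro j
    have h1 := DL_ne_zero_of_mem N m n L M hM _ (DM_inl_ne_zero N m n M (hL M hM) j)
    rw [hD] at h1
    obtain ⟨M'', hM''mem, hM''x⟩ := exists_mem_of_DL_ne_zero N m n L' _ h1
    obtain ⟨j'', hj''val, hj''A⟩ := exists_of_DM_inl N m n M'' (hL' M'' hM''mem) _ _ hM''x
    have hge := hM' M'' hM''mem
    have hval : j''.val = j.val := hj''val
    refine ⟨?_, fun j' hjj' => ?_⟩
    · have h2 := j''.isLt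
      have h3 := hge.1
      omega
    · have h4 := (hge.2 j'' j' (by omega)).1
      rw [hj''A] at h4
      exact h4
  have keyB : ∀ j : Fin (M.1 + 1),
      ∀ j' : Fin (M'.1 + 1), j.val = j'.val → M'.2.2.1 j' ≤ M.2.2.1 j := by
    intro j
    have h1 := DL_ne_zero_of_mem N m n L M hM _ (DM_inr_ne_zero N m n M (hL M hM) j)
    rw [hD] at h1
    obtain ⟨M'', hM''mem, hM''x⟩ := exists_mem_of_DL_ne_zero N m n L' _ h1
    obtain ⟨j'', hj''val, hj''B⟩ := exists_of_DM_inr N m n M'' (hL' M'' hM''mem) _ _ hM''x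
    have hge := hM' M'' hM''mem
    have hval : j''.val = j.val := hj''val
    intro j' hjj'
    have h4 := (hge.2 j'' j' (by omega)).2
    rw [hj''B] at h4
    exact h4
  refine ⟨?_, fun j j' hjj' => ⟨(keyA j).2 j' hjj', keyB j j' hjj'⟩⟩
  have h1 := (keyA (Fin.last M.1)).1
  exact h1

theorem DL_injective : ∀ (L₁ L₂ : List (MinorIdx m n)), (∀ M ∈ L₁, M.1 + 1 ≤ N) →
    (∀ M ∈ L₂, M.1 + 1 ≤ N) → L₁.Pairwise (fun M M' => MinorGE M' M) →
    L₂.Pairwise (fun M M' => MinorGE M' M) → DL N m n L₁ = DL N m n L₂ → L₁ = L₂ := by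
  have hnil : ∀ (M : MinorIdx m n) (L : List (MinorIdx m n)), (∀ M' ∈ M :: L, M'.1 + 1 ≤ N) →
      DL N m n (M :: L) ≠ 0 := by
    intro M L hL h0
    have h1 := DL_ne_zero_of_mem N m n (M :: L) M List.mem_cons_self _
      (DM_inl_ne_zero N m n M (hL M List.mem_cons_self) 0)
    rw [h0] at h1
    exact h1 rfl
  intro L₁
  induction L₁ with
  | nil =>
    intro L₂ _ h2 _ _ hD
    cases L₂ with
    | nil => rfl
    | cons M₂ r₂ =>
      rw [DL_nil] at hD
      exact absurd hD.symm (hnil M₂ r₂ h2)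
  | cons M₁ r₁ ih =>
    intro L₂ h1 h2 hp1 hp2 hD
    cases L₂ with
    | nil =>
      rw [DL_nil] at hD
      exact absurd hD (hnil M₁ r₁ h1)
    | cons M₂ r₂ =>
      have hlow1 : ∀ M'' ∈ M₁ :: r₁, MinorGE M'' M₁ := by
        intro M'' hM''
        rcases List.mem_cons.mp hM'' with h | h
        · rw [h]
          exact minorGE_refl M₁
        · exact (List.pairwise_cons.mp hp1).1 M'' h
      have hlow2 : ∀ M'' ∈ M₂ :: r₂, MinorGE M'' M₂ := by
        intro M'' hM''
        rcases List.mem_cons.mp hM'' with h | h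
        · rw [h]
          exact minorGE_refl M₂
        · exact (List.pairwise_cons.mp hp2).1 M'' h
      have hge12 : MinorGE M₁ M₂ :=
        minorGE_of_DL N m n (M₁ :: r₁) (M₂ :: r₂) h1 h2 hD M₁ List.mem_cons_self M₂ hlow2
      have hge21 : MinorGE M₂ M₁ :=
        minorGE_of_DL N m n (M₂ :: r₂) (M₁ :: r₁) h2 h1 hD.symm M₂ List.mem_cons_self M₁ hlow1
      have hM : M₁ = M₂ := minorGE_antisymm M₁ M₂ hge12 hge21
      subst hM
      rw [DL_cons, DL_cons] at hD
      have hD' : DL N m n r₁ = DL N m n r₂ := add_left_cancel hD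
      rw [ih r₂ (fun M hM => h1 M (List.mem_cons_of_mem _ hM))
        (fun M hM => h2 M (List.mem_cons_of_mem _ hM)) (List.pairwise_cons.mp hp1).2
        (List.pairwise_cons.mp hp2).2 hD']

/-! ### Independence of the standard bitableaux -/

/-- The index type of the standard bitableaux with minors of size at most `N`. -/
abbrev BT (N m n : ℕ) : Type := Σ k : ℕ, {c : Fin k → MinorIdx m n //
  (∀ i, (c i).1 + 1 ≤ N) ∧ ∀ i j, i < j → MinorGE (c i) (c j)}

lemma sum_DM_injective :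
    Function.Injective (fun c : BT N m n => ∑ i, DM N m n (c.2.1 i)) := by
  intro x y hxy
  obtain ⟨k₁, c₁, hs₁, hc₁⟩ := x
  obtain ⟨k₂, c₂, hs₂, hc₂⟩ := y
  have hxy' : ∑ i, DM N m n (c₁ i) = ∑ i, DM N m n (c₂ i) := hxy
  have hDL : ∀ (k : ℕ) (c : Fin k → MinorIdx m n),
      DL N m n (List.ofFn c).reverse = ∑ i, DM N m n (c i) := by
    intro k c
    unfold DL
    rw [List.map_reverse, List.sum_reverse, List.map_ofFn, List.sum_ofFn]
    rfl
  have hmem : ∀ (k : ℕ) (c : Fin k → MinorIdx m n), (∀ i, (c i).1 + 1 ≤ N) →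
      ∀ M ∈ (List.ofFn c).reverse, M.1 + 1 ≤ N := by
    intro k c hs M hM
    rw [List.mem_reverse, List.mem_ofFn] at hM
    obtain ⟨i, rfl⟩ := hM
    exact hs i
  have hpw : ∀ (k : ℕ) (c : Fin k → MinorIdx m n), (∀ i j, i < j → MinorGE (c i) (c j)) →
      (List.ofFn c).reverse.Pairwise (fun M M' => MinorGE M' M) := by
    intro k c hc
    rw [List.pairwise_reverse, List.pairwise_ofFn]
    intro i j hij
    exact hc i j hij
  have h1 := DL_injective N m n _ _ (hmem k₁ c₁ hs₁) (hmem k₂ c₂ hs₂) (hpw k₁ c₁ hc₁)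
    (hpw k₂ c₂ hc₂) (by rw [hDL, hDL, hxy'])
  have h2 : List.ofFn c₁ = List.ofFn c₂ := List.reverse_injective h1
  have h3 := List.ofFn_inj'.mp h2
  cases h3
  rfl

theorem indepP : LinearIndependent K (fun c : BT N m n =>
    pairingMap K N m n (Finset.univ.prod fun i => minorOf K (c.2.1 i))) :=
  linearIndependent_of_isTop (lam := lamP N m n) _ (fun c => ∑ i, WtM N m n (c.2.1 i))
    (fun c => ∑ i, DM N m n (c.2.1 i))
    (fun c => isTop_pairing_prod K N m n c.2.1 c.2.2.1) (sum_DM_injective N m n)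

theorem indepN : LinearIndependent K (fun c : BT N m n =>
    Ideal.Quotient.mk (CAlgX.minorIdeal (genMatrix K m n) (N + 1))
      (Finset.univ.prod fun i => minorOf K (c.2.1 i))) := by
  have hP := indepP K N m n
  obtain ⟨F, hF⟩ : ∃ F : (MvPolynomial (Fin m × Fin n) K ⧸
      CAlgX.minorIdeal (genMatrix K m n) (N + 1)) →ₐ[K] PairRing K N m n,
      ∀ f, F (Ideal.Quotient.mk _ f) = pairingMap K N m n f :=
    ⟨Ideal.Quotient.liftₐ _ (pairingMap K N m n)
      (fun a ha => RingHom.mem_ker.mp (minorIdeal_le_ker K N m n ha)), fun f => by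
      rw [Ideal.Quotient.liftₐ_apply, Ideal.Quotient.lift_mk]
      rfl⟩
  refine LinearIndependent.of_comp F.toLinearMap ?_
  have hcomp : (F.toLinearMap ∘ fun c : BT N m n =>
      Ideal.Quotient.mk (CAlgX.minorIdeal (genMatrix K m n) (N + 1))
        (Finset.univ.prod fun i => minorOf K (c.2.1 i))) =
      fun c : BT N m n => pairingMap K N m n (Finset.univ.prod fun i => minorOf K (c.2.1 i)) := by
    funext c
    exact hF _
  rw [hcomp]
  exact hP

end Groth.Agent.Helper8.Bitab1
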