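import Mathlib
import Groth.Prelude.Def_W4bk4grassmannianPl
import Groth.Prelude.Def_CAlgX

namespace Groth.Agent.Helper8.CellMinor

open Matrix

universe u

section general

variable {R : Type u} [CommRing R]

/-- the ideal generated by `k × k` minors with arbitrary index tuples -/
abbrev minI {r d : ℕ} (Z : Matrix (Fin r) (Fin d) R) (k : ℕ) : Ideal R :=
  Ideal.span (Set.range fun fg : (Fin k → Fin r) × (Fin k → Fin d) =>
    Matrix.det (Z.submatrix fg.1 fg.2))

theorem minor_mem {r d : ℕ} (Z : Matrix (Fin r) (Fin d) R) (k : ℕ) (f : Fin k → Fin r)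
    (g : Fin k → Fin d) : (Z.submatrix f g).det ∈ minI Z k :=
  Ideal.subset_span ⟨(f, g), rfl⟩

theorem minI_succ_le {r d : ℕ} (Z : Matrix (Fin r) (Fin d) R) (k : ℕ) :
    minI Z (k + 1) ≤ minI Z k := by
  apply Ideal.span_le.mpr
  rintro _ ⟨⟨f, g⟩, rfl⟩
  have h : (Z.submatrix f g).det ∈ minI Z k := by
    rw [Matrix.det_succ_row_zero]
    refine Ideal.sum_mem _ (fun j _ => ?_)
    refine Ideal.mul_mem_left _ _ ?_
    exact minor_mem Z k (f ∘ Fin.succ) (g ∘ j.succAbove)
  exact h

theorem minI_le_of_le {r d : ℕ} (Z : Matrix (Fin r) (Fin d) R) {t m : ℕ} (h : t ≤ m) :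
    minI Z m ≤ minI Z t := by
  induction m, h using Nat.le_induction with
  | base => exact le_rfl
  | succ m hm ih => exact (minI_succ_le Z m).trans ih

theorem unit_sq (u : ℤˣ) : (((u : ℤ) : R)) * (((u : ℤ) : R)) = 1 := by
  rw [← Int.cast_mul, ← Units.val_mul, Int.units_mul_self, Units.val_one, Int.cast_one]

theorem block_det {r d s m : ℕ} (Z : Matrix (Fin r) (Fin d) R)
    (M : Matrix (Fin (d + r)) (Fin d) R)
    (hM1 : ∀ (i : Fin (d + r)) (j : Fin d), i.val < d → M i j = if i.val = j.val then 1 else 0)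
    (hM2 : ∀ (i : Fin (d + r)) (j : Fin d) (k : Fin r), i.val = d + k.val → M i j = Z k j)
    (θ : Fin d → Fin (d + r)) (er ec : Fin s ⊕ Fin m ≃ Fin d) (b : Fin m → Fin r)
    (h1 : ∀ i : Fin s, (θ (er (Sum.inl i))).val = (ec (Sum.inl i)).val)
    (h2 : ∀ j : Fin m, (θ (er (Sum.inr j))).val = d + (b j).val) :
    ∃ ε : ℤˣ, (M.submatrix θ id).det =
      ((ε : ℤ) : R) * (Z.submatrix b (fun j => ec (Sum.inr j))).det := by
  obtain ⟨N, hN⟩ : ∃ N : Matrix (Fin d) (Fin d) R, N = M.submatrix θ id := ⟨_, rfl⟩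
  rw [← hN]
  have hNapp : ∀ x y, N x y = M (θ x) y := by
    intro x y
    rw [hN]
    rfl
  obtain ⟨σ, hσ⟩ : ∃ σ : Equiv.Perm (Fin d), σ = er.symm.trans ec := ⟨_, rfl⟩
  have hblock : (N.submatrix id σ).submatrix er er =
      Matrix.fromBlocks (1 : Matrix (Fin s) (Fin s) R) 0
        (Matrix.of fun (j : Fin m) (i : Fin s) => N (er (Sum.inr j)) (ec (Sum.inl i)))
        (Z.submatrix b (fun j => ec (Sum.inr j))) := by
    ext x y
    have hσy : σ (er y) = ec y := by
      rw [hσ]
      simp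
    show N (er x) (σ (er y)) = _
    rw [hσy, hNapp]
    rcases x with i | j <;> rcases y with i' | j'
    · have hlt : (θ (er (Sum.inl i))).val < d := by
        rw [h1]
        exact (ec (Sum.inl i)).isLt
      rw [Matrix.fromBlocks_apply₁₁, hM1 (θ (er (Sum.inl i))) (ec (Sum.inl i')) hlt, h1,
        Matrix.one_apply]
      by_cases hii : i = i'
      · rw [hii, if_pos rfl, if_pos rfl]
      · have hne : ¬ (ec (Sum.inl i)).val = (ec (Sum.inl i')).val := by
          intro h
          exact hii (Sum.inl.inj (ec.injective (Fin.ext h)))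
        rw [if_neg hii, if_neg hne]
    · have hlt : (θ (er (Sum.inl i))).val < d := by
        rw [h1]
        exact (ec (Sum.inl i)).isLt
      have hne : ¬ (ec (Sum.inl i)).val = (ec (Sum.inr j')).val := by
        intro h
        exact Sum.inl_ne_inr (ec.injective (Fin.ext h))
      rw [Matrix.fromBlocks_apply₁₂, hM1 (θ (er (Sum.inl i))) (ec (Sum.inr j')) hlt, h1]
      exact if_neg hne
    · rw [Matrix.fromBlocks_apply₂₁, Matrix.of_apply, hNapp]
    · rw [Matrix.fromBlocks_apply₂₂]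
      exact hM2 (θ (er (Sum.inr j))) (ec (Sum.inr j')) (b j) (h2 j)
  have hdet1 : ((N.submatrix id σ).submatrix er er).det =
      (Z.submatrix b (fun j => ec (Sum.inr j))).det := by
    rw [hblock, Matrix.det_fromBlocks_zero₁₂, Matrix.det_one, one_mul]
  rw [Matrix.det_submatrix_equiv_self, Matrix.det_permute'] at hdet1
  refine ⟨Equiv.Perm.sign σ, ?_⟩
  rw [← hdet1, ← mul_assoc, unit_sq, one_mul]

/-- the row selection built from a column complement enumeration and a row tuple -/
def mkTheta {d r t s : ℕ} (hst : s + t = d) (a : Fin s → Fin d) (Rr : Fin t → Fin r)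
    (i : Fin d) : Fin (d + r) :=
  if h : i.val < s then ⟨(a ⟨i.val, h⟩).val, by have := (a ⟨i.val, h⟩).isLt; omega⟩
  else ⟨d + (Rr ⟨i.val - s, by have := i.isLt; omega⟩).val,
    by have := (Rr ⟨i.val - s, by have := i.isLt; omega⟩).isLt; omega⟩

theorem mkTheta_lt {d r t s : ℕ} (hst : s + t = d) (a : Fin s → Fin d) (Rr : Fin t → Fin r)
    (i : Fin d) (h : i.val < s) : (mkTheta hst a Rr i).val = (a ⟨i.val, h⟩).val := by
  unfold mkTheta
  rw [dif_pos h]

theorem mkTheta_ge {d r t s : ℕ} (hst : s + t = d) (a : Fin s → Fin d) (Rr : Fin t → Fin r)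
    (i : Fin d) (h : ¬ i.val < s) (hlt : i.val - s < t) :
    (mkTheta hst a Rr i).val = d + (Rr ⟨i.val - s, hlt⟩).val := by
  unfold mkTheta
  rw [dif_neg h]

theorem mkTheta_strictMono {d r t s : ℕ} (hst : s + t = d) (a : Fin s → Fin d)
    (ha : StrictMono a) (Rr : Fin t → Fin r) (hR : StrictMono Rr) :
    StrictMono (mkTheta hst a Rr) := by
  intro x y hxy
  rw [Fin.lt_def] at hxy ⊢
  by_cases hx : x.val < s
  · by_cases hy : y.val < s
    · rw [mkTheta_lt hst a Rr x hx, mkTheta_lt hst a Rr y hy]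
      exact ha (show (⟨x.val, hx⟩ : Fin s) < ⟨y.val, hy⟩ from hxy)
    · have hyt : y.val - s < t := by have := y.isLt; omega
      rw [mkTheta_lt hst a Rr x hx, mkTheta_ge hst a Rr y hy hyt]
      have := (a ⟨x.val, hx⟩).isLt
      omega
  · have hy : ¬ y.val < s := by omega
    have hxt : x.val - s < t := by have := x.isLt; omega
    have hyt : y.val - s < t := by have := y.isLt; omega
    rw [mkTheta_ge hst a Rr x hx hxt, mkTheta_ge hst a Rr y hy hyt]
    have hlt : (⟨x.val - s, hxt⟩ : Fin t) < ⟨y.val - s, hyt⟩ := by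
      rw [Fin.lt_def]
      show x.val - s < y.val - s
      omega
    have := hR hlt
    rw [Fin.lt_def] at this
    omega

end general

section cell

variable (K : Type u) [CommRing K]

theorem cell_hM1 (d r : ℕ) (i : Fin (d + r)) (j : Fin d) (h : i.val < d) :
    W4bk4grassmannian.cellMatrix K d r i j = if i.val = j.val then 1 else 0 := by
  unfold W4bk4grassmannian.cellMatrix
  rw [Matrix.of_apply, dif_pos h]

theorem cell_hM2 (d r : ℕ) (i : Fin (d + r)) (j : Fin d) (k : Fin r)
    (h : i.val = d + k.val) :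
    W4bk4grassmannian.cellMatrix K d r i j = W4bk4grassmannian.genMatrix K r d k j := by
  unfold W4bk4grassmannian.cellMatrix W4bk4grassmannian.genMatrix
  have hnot : ¬ i.val < d := by omega
  rw [Matrix.of_apply, Matrix.of_apply, dif_neg hnot]
  congr 1
  exact Prod.ext (Fin.ext (by show i.val - d = k.val; omega)) rfl

theorem cellMinor_mem (d r t : ℕ) (hd : 0 < d) (ht : 0 < t) (htd : t ≤ d)
    (θ : W4bk4grassmannian.Idx d (d + r))
    (hθ : d ≤ (θ.1 ⟨d - t, Nat.sub_lt hd ht⟩).val) :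
    W4bk4grassmannian.cellMinor K d r θ ∈ minI (W4bk4grassmannian.genMatrix K r d) t := by
  classical
  obtain ⟨S, hS⟩ : ∃ S : Finset (Fin d),
      S = Finset.univ.filter (fun i : Fin d => (θ.1 i).val < d) := ⟨_, rfl⟩
  have hSmem : ∀ i, i ∈ S ↔ (θ.1 i).val < d := by
    intro i
    rw [hS]
    simp
  obtain ⟨s, hs⟩ : ∃ s, S.card = s := ⟨_, rfl⟩
  obtain ⟨m, hm⟩ : ∃ m, Sᶜ.card = m := ⟨_, rfl⟩
  have hsm : s + m = d := by
    rw [← hs, ← hm, Finset.card_add_card_compl, Fintype.card_fin]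
  have hsle : s ≤ d - t := by
    have hsub : S ⊆ Finset.Iio (⟨d - t, Nat.sub_lt hd ht⟩ : Fin d) := by
      intro i hi
      rw [Finset.mem_Iio]
      rw [hSmem] at hi
      by_contra hge
      push Not at hge
      have h2 : (θ.1 ⟨d - t, Nat.sub_lt hd ht⟩).val ≤ (θ.1 i).val := θ.2.monotone hge
      omega
    have := Finset.card_le_card hsub
    rw [Fin.card_Iio, hs] at this
    exact this
  have htm : t ≤ m := by omega
  obtain ⟨er, her⟩ : ∃ er : Fin s ⊕ Fin m ≃ Fin d, er = finSumEquivOfFinset hs hm := ⟨_, rfl⟩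
  have herl : ∀ i : Fin s, er (Sum.inl i) = S.orderEmbOfFin hs i := by
    intro i
    rw [her, finSumEquivOfFinset_inl]
  have herr : ∀ j : Fin m, er (Sum.inr j) = Sᶜ.orderEmbOfFin hm j := by
    intro j
    rw [her, finSumEquivOfFinset_inr]
  have hlt : ∀ i : Fin s, (θ.1 (er (Sum.inl i))).val < d := by
    intro i
    rw [← hSmem, herl]
    exact Finset.orderEmbOfFin_mem S hs i
  have hge : ∀ j : Fin m, d ≤ (θ.1 (er (Sum.inr j))).val := by
    intro j
    have : er (Sum.inr j) ∈ Sᶜ := by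
      rw [herr]
      exact Finset.orderEmbOfFin_mem Sᶜ hm j
    rw [Finset.mem_compl, hSmem] at this
    omega
  obtain ⟨a, ha⟩ : ∃ a : Fin s → Fin d, ∀ i, (a i).val = (θ.1 (er (Sum.inl i))).val :=
    ⟨fun i => ⟨(θ.1 (er (Sum.inl i))).val, hlt i⟩, fun i => rfl⟩
  have hamono : StrictMono a := by
    intro i i' hii
    rw [Fin.lt_def, ha, ha]
    have h1 : er (Sum.inl i) < er (Sum.inl i') := by
      rw [herl, herl]
      exact (S.orderEmbOfFin hs).strictMono hii
    exact θ.2 h1
  obtain ⟨A, hA⟩ : ∃ A : Finset (Fin d), A = Finset.univ.image a := ⟨_, rfl⟩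
  have hAcard : A.card = s := by
    rw [hA, Finset.card_image_of_injective _ hamono.injective, Finset.card_univ, Fintype.card_fin]
  have hAccard : Aᶜ.card = m := by
    rw [Finset.card_compl, hAcard, Fintype.card_fin]
    omega
  obtain ⟨ec, hec⟩ : ∃ ec : Fin s ⊕ Fin m ≃ Fin d,
      ec = finSumEquivOfFinset hAcard hAccard := ⟨_, rfl⟩
  have haeq : a = A.orderEmbOfFin hAcard :=
    Finset.orderEmbOfFin_unique hAcard
      (fun x => by rw [hA]; exact Finset.mem_image_of_mem a (Finset.mem_univ x)) hamono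
  have hecl : ∀ i : Fin s, ec (Sum.inl i) = a i := by
    intro i
    rw [hec, finSumEquivOfFinset_inl]
    exact (congrFun haeq i).symm
  obtain ⟨b, hb⟩ : ∃ b : Fin m → Fin r, ∀ j, (θ.1 (er (Sum.inr j))).val = d + (b j).val := by
    refine ⟨fun j => ⟨(θ.1 (er (Sum.inr j))).val - d, ?_⟩, fun j => ?_⟩
    · have h1 := (θ.1 (er (Sum.inr j))).isLt
      have h2 := hge j
      omega
    · have h2 := hge j
      show _ = d + ((θ.1 (er (Sum.inr j))).val - d)
      omega
  obtain ⟨ε, hε⟩ := block_det (W4bk4grassmannian.genMatrix K r d)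
    (W4bk4grassmannian.cellMatrix K d r)
    (cell_hM1 K d r) (cell_hM2 K d r) θ.1 er ec b
    (fun i => by rw [hecl, ha]) hb
  unfold W4bk4grassmannian.cellMinor
  rw [hε]
  refine Ideal.mul_mem_left _ _ ?_
  exact minI_le_of_le _ htm (minor_mem _ m b _)

theorem minor_mem_span_sorted (d r t : ℕ) (hd : 0 < d) (ht : 0 < t) (htd : t ≤ d)
    (Rr : Fin t → Fin r) (hR : StrictMono Rr) (C : Fin t → Fin d) (hC : StrictMono C) :
    ((W4bk4grassmannian.genMatrix K r d).submatrix Rr C).det ∈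
      Ideal.span {f : W4bk4grassmannian.CellRing K d r | ∃ θ : W4bk4grassmannian.Idx d (d + r),
        d ≤ (θ.1 ⟨d - t, Nat.sub_lt hd ht⟩).val ∧ f = W4bk4grassmannian.cellMinor K d r θ} := by
  classical
  obtain ⟨s, hs⟩ : ∃ s, s = d - t := ⟨_, rfl⟩
  have hst : s + t = d := by omega
  obtain ⟨C', hC'⟩ : ∃ C' : Finset (Fin d), C' = Finset.univ.image C := ⟨_, rfl⟩
  have hC'card : C'.card = t := by
    rw [hC', Finset.card_image_of_injective _ hC.injective, Finset.card_univ, Fintype.card_fin]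
  have hC'ccard : C'ᶜ.card = s := by
    rw [Finset.card_compl, hC'card, Fintype.card_fin]
    omega
  have hCeq : C = C'.orderEmbOfFin hC'card :=
    Finset.orderEmbOfFin_unique hC'card
      (fun x => by rw [hC']; exact Finset.mem_image_of_mem C (Finset.mem_univ x)) hC
  obtain ⟨a, ha⟩ : ∃ a : Fin s → Fin d, a = C'ᶜ.orderEmbOfFin hC'ccard := ⟨_, rfl⟩
  have hamono : StrictMono a := by
    rw [ha]
    exact (C'ᶜ.orderEmbOfFin hC'ccard).strictMono
  obtain ⟨θf, hθf⟩ : ∃ θf : Fin d → Fin (d + r), θf = mkTheta hst a Rr := ⟨_, rfl⟩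
  have hθmono : StrictMono θf := by
    rw [hθf]
    exact mkTheta_strictMono hst a hamono Rr hR
  obtain ⟨er, her⟩ : ∃ er : Fin s ⊕ Fin t ≃ Fin d,
      er = finSumFinEquiv.trans (finCongr hst) := ⟨_, rfl⟩
  have herl : ∀ i : Fin s, (er (Sum.inl i)).val = i.val := by
    intro i
    rw [her]
    simp
  have herr : ∀ j : Fin t, (er (Sum.inr j)).val = s + j.val := by
    intro j
    rw [her]
    simp
  obtain ⟨ec, hec⟩ : ∃ ec : Fin s ⊕ Fin t ≃ Fin d,
      ec = (Equiv.sumComm (Fin s) (Fin t)).trans (finSumEquivOfFinset hC'card hC'ccard) :=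
    ⟨_, rfl⟩
  have hecl : ∀ i : Fin s, ec (Sum.inl i) = a i := by
    intro i
    rw [hec]
    simp only [Equiv.trans_apply, Equiv.sumComm_apply, Sum.swap_inl, finSumEquivOfFinset_inr]
    rw [ha]
  have hecr : ∀ j : Fin t, ec (Sum.inr j) = C j := by
    intro j
    rw [hec]
    simp only [Equiv.trans_apply, Equiv.sumComm_apply, Sum.swap_inr, finSumEquivOfFinset_inl]
    exact (congrFun hCeq j).symm
  have h1 : ∀ i : Fin s, (θf (er (Sum.inl i))).val = (ec (Sum.inl i)).val := by
    intro i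
    have hlt : (er (Sum.inl i)).val < s := by
      rw [herl]
      exact i.isLt
    have hi : (⟨(er (Sum.inl i)).val, hlt⟩ : Fin s) = i := Fin.ext (herl i)
    rw [hθf, mkTheta_lt hst a Rr _ hlt, hecl, hi]
  have h2 : ∀ j : Fin t, (θf (er (Sum.inr j))).val = d + (Rr j).val := by
    intro j
    have hnlt : ¬ (er (Sum.inr j)).val < s := by
      rw [herr]
      omega
    have hlt' : (er (Sum.inr j)).val - s < t := by
      rw [herr]
      have := j.isLt
      omega
    have hj : (⟨(er (Sum.inr j)).val - s, hlt'⟩ : Fin t) = j :=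
      Fin.ext (by show (er (Sum.inr j)).val - s = j.val; rw [herr]; omega)
    rw [hθf, mkTheta_ge hst a Rr _ hnlt hlt', hj]
  obtain ⟨ε, hε⟩ := block_det (W4bk4grassmannian.genMatrix K r d)
    (W4bk4grassmannian.cellMatrix K d r)
    (cell_hM1 K d r) (cell_hM2 K d r) θf er ec Rr h1 h2
  have hcols : (fun j => ec (Sum.inr j)) = C := funext hecr
  rw [hcols] at hε
  have hcond : d ≤ (θf ⟨d - t, Nat.sub_lt hd ht⟩).val := by
    have hnlt : ¬ (⟨d - t, Nat.sub_lt hd ht⟩ : Fin d).val < s := by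
      show ¬ d - t < s
      omega
    have hlt' : (⟨d - t, Nat.sub_lt hd ht⟩ : Fin d).val - s < t := by
      show d - t - s < t
      omega
    rw [hθf, mkTheta_ge hst a Rr _ hnlt hlt']
    omega
  have hmem : W4bk4grassmannian.cellMinor K d r ⟨θf, hθmono⟩ ∈
      Ideal.span {f : W4bk4grassmannian.CellRing K d r | ∃ θ : W4bk4grassmannian.Idx d (d + r),
        d ≤ (θ.1 ⟨d - t, Nat.sub_lt hd ht⟩).val ∧ f = W4bk4grassmannian.cellMinor K d r θ} :=
    Ideal.subset_span ⟨⟨θf, hθmono⟩, hcond, rfl⟩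
  have hkey : ((W4bk4grassmannian.genMatrix K r d).submatrix Rr C).det =
      ((ε : ℤ) : W4bk4grassmannian.CellRing K d r) *
        W4bk4grassmannian.cellMinor K d r ⟨θf, hθmono⟩ := by
    unfold W4bk4grassmannian.cellMinor
    rw [hε, ← mul_assoc, unit_sq, one_mul]
  rw [hkey]
  exact Ideal.mul_mem_left _ _ hmem

theorem minor_mem_span (d r t : ℕ) (hd : 0 < d) (ht : 0 < t) (htd : t ≤ d)
    (f : Fin t → Fin r) (g : Fin t → Fin d) :
    ((W4bk4grassmannian.genMatrix K r d).submatrix f g).det ∈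
      Ideal.span {f : W4bk4grassmannian.CellRing K d r | ∃ θ : W4bk4grassmannian.Idx d (d + r),
        d ≤ (θ.1 ⟨d - t, Nat.sub_lt hd ht⟩).val ∧ f = W4bk4grassmannian.cellMinor K d r θ} := by
  by_cases hf : Function.Injective f
  · by_cases hg : Function.Injective g
    · obtain ⟨σ, hσ⟩ : ∃ σ : Equiv.Perm (Fin t), σ = Tuple.sort f := ⟨_, rfl⟩
      obtain ⟨τ, hτ⟩ : ∃ τ : Equiv.Perm (Fin t), τ = Tuple.sort g := ⟨_, rfl⟩
      have hRm : StrictMono (f ∘ σ) := by
        rw [hσ]
        exact (Tuple.monotone_sort f).strictMono_of_injective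
          (hf.comp (Tuple.sort f).injective)
      have hCm : StrictMono (g ∘ τ) := by
        rw [hτ]
        exact (Tuple.monotone_sort g).strictMono_of_injective
          (hg.comp (Tuple.sort g).injective)
      have hsorted := minor_mem_span_sorted K d r t hd ht htd (f ∘ σ) hRm (g ∘ τ) hCm
      obtain ⟨x, hx⟩ : ∃ x, x = ((W4bk4grassmannian.genMatrix K r d).submatrix f g).det :=
        ⟨_, rfl⟩
      have hdet : ((W4bk4grassmannian.genMatrix K r d).submatrix (f ∘ σ) (g ∘ τ)).det =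
          (((Equiv.Perm.sign τ : ℤˣ) : ℤ) : W4bk4grassmannian.CellRing K d r) *
            ((((Equiv.Perm.sign σ : ℤˣ) : ℤ) : W4bk4grassmannian.CellRing K d r) * x) := by
        have e1 : (W4bk4grassmannian.genMatrix K r d).submatrix (f ∘ σ) (g ∘ τ) =
            (((W4bk4grassmannian.genMatrix K r d).submatrix f g).submatrix σ id).submatrix
              id τ := rfl
        rw [e1, Matrix.det_permute', Matrix.det_permute, hx]
      have hσ2 := unit_sq (R := W4bk4grassmannian.CellRing K d r) (Equiv.Perm.sign σ)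
      have hτ2 := unit_sq (R := W4bk4grassmannian.CellRing K d r) (Equiv.Perm.sign τ)
      have hxeq : x = (((Equiv.Perm.sign σ : ℤˣ) : ℤ) : W4bk4grassmannian.CellRing K d r) *
          ((((Equiv.Perm.sign τ : ℤˣ) : ℤ) : W4bk4grassmannian.CellRing K d r) *
            ((W4bk4grassmannian.genMatrix K r d).submatrix (f ∘ σ) (g ∘ τ)).det) := by
        rw [hdet]
        linear_combination
          (-((((Equiv.Perm.sign τ : ℤˣ) : ℤ) : W4bk4grassmannian.CellRing K d r) *
            (((Equiv.Perm.sign τ : ℤˣ) : ℤ) : W4bk4grassmannian.CellRing K d r) * x)) * hσ2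
          - x * hτ2
      rw [← hx, hxeq]
      exact Ideal.mul_mem_left _ _ (Ideal.mul_mem_left _ _ hsorted)
    · rw [Function.Injective] at hg
      push Not at hg
      obtain ⟨i, j, hij, hne⟩ := hg
      rw [Matrix.det_zero_of_column_eq hne
        (fun k => by rw [Matrix.submatrix_apply, Matrix.submatrix_apply, hij])]
      exact Ideal.zero_mem _
  · rw [Function.Injective] at hf
    push Not at hf
    obtain ⟨i, j, hij, hne⟩ := hf
    rw [Matrix.det_zero_of_row_eq hne
      (funext fun k => by rw [Matrix.submatrix_apply, Matrix.submatrix_apply, hij])]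
    exact Ideal.zero_mem _

theorem main (d r t : ℕ) (hd : 0 < d)
    (ht : 0 < t) (htd : t ≤ d) (htr : t ≤ r) :
    Ideal.span {f : W4bk4grassmannian.CellRing K d r | ∃ θ : W4bk4grassmannian.Idx d (d + r),
        d ≤ (θ.1 ⟨d - t, Nat.sub_lt hd ht⟩).val ∧ f = W4bk4grassmannian.cellMinor K d r θ} =
      CAlgX.minorIdeal (W4bk4grassmannian.genMatrix K r d) t := by
  apply le_antisymm
  · apply Ideal.span_le.mpr
    rintro _ ⟨θ, hθ, rfl⟩
    exact cellMinor_mem K d r t hd ht htd θ hθ
  · unfold CAlgX.minorIdeal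
    apply Ideal.span_le.mpr
    rintro _ ⟨⟨f, g⟩, rfl⟩
    exact minor_mem_span K d r t hd ht htd f g

end cell

end Groth.Agent.Helper8.CellMinor
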