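import Mathlib
import Groth.Prelude.Def_W4bk4grassmannianPl
import Groth.Prelude.Def_CAlgX
import Groth.Agent.Helper8.CellMinor
import Groth.Agent.Helper8.SMT2

set_option autoImplicit false

namespace Groth.Agent.Helper8.Bitab2

open W4bk4grassmannian MvPolynomial

universe u

/-! ### Counting lemmas -/

section counting

lemma entry_le_of_cnt {k k' bound : ℕ} (a : Fin k → ℕ) (a' : Fin k' → ℕ) (ha : StrictMono a)
    (ha' : StrictMono a') (hb : ∀ j, a j < bound)
    (h : ∀ x ≤ bound, (Finset.univ.filter fun j => a j < x).card ≤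
      (Finset.univ.filter fun j => a' j < x).card) :
    k ≤ k' ∧ ∀ (j : Fin k) (j' : Fin k'), j.val = j'.val → a' j' ≤ a j := by
  constructor
  · have h1 := h bound le_rfl
    have h2 : (Finset.univ.filter fun j => a j < bound) = Finset.univ :=
      Finset.filter_true_of_mem (fun j _ => hb j)
    rw [h2, Finset.card_univ, Fintype.card_fin] at h1
    have h3 := Finset.card_le_univ (Finset.univ.filter fun j => a' j < bound)
    rw [Fintype.card_fin] at h3
    omega
  · intro j j' hjj
    by_contra hcon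
    rw [not_le] at hcon
    have h1 := h (a j + 1) (hb j)
    have h2 : Finset.Iic j ⊆ Finset.univ.filter fun i => a i < a j + 1 := by
      intro i hi
      rw [Finset.mem_Iic] at hi
      rw [Finset.mem_filter]
      exact ⟨Finset.mem_univ _, Nat.lt_succ_of_le (ha.monotone hi)⟩
    have h3 : (Finset.univ.filter fun i => a' i < a j + 1) ⊆ Finset.Iio j' := by
      intro i hi
      rw [Finset.mem_filter] at hi
      rw [Finset.mem_Iio]
      have h4 : a' i < a' j' := by omega
      exact ha'.lt_iff_lt.mp h4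
    have h4 := Finset.card_le_card h2
    have h5 := Finset.card_le_card h3
    rw [Fin.card_Iic] at h4
    rw [Fin.card_Iio] at h5
    omega

lemma card_filter_sum_equiv {α : Type*} [Fintype α] {s' mm : ℕ} (e : Fin s' ⊕ Fin mm ≃ α)
    (p : α → Prop) [DecidablePred p] :
    (Finset.univ.filter p).card =
      (Finset.univ.filter fun i : Fin s' => p (e (Sum.inl i))).card +
        (Finset.univ.filter fun j : Fin mm => p (e (Sum.inr j))).card := by
  rw [Finset.card_filter, Finset.card_filter, Finset.card_filter,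
    ← Fintype.sum_equiv e (fun x => if p (e x) then 1 else 0) (fun a => if p a then 1 else 0)
      (fun x => rfl), Fintype.sum_sum_type]

lemma card_lt_fin (n x : ℕ) (hx : x ≤ n) :
    (Finset.univ.filter fun c : Fin n => c.val < x).card = x := by
  have h1 : (Finset.univ.filter fun c : Fin n => c.val < x) =
      Finset.univ.map (Fin.castLEEmb hx) := by
    ext c
    rw [Finset.mem_filter, Finset.mem_map]
    constructor
    · rintro ⟨-, hc⟩
      exact ⟨⟨c.val, hc⟩, Finset.mem_univ _, Fin.ext rfl⟩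
    · rintro ⟨a, -, rfl⟩
      exact ⟨Finset.mem_univ _, a.isLt⟩
  rw [h1, Finset.card_map, Finset.card_univ, Fintype.card_fin]

end counting

/-! ### The cell -/

section cell

variable (K : Type u) [CommRing K] (m n : ℕ)

/-- Reversal of the rows. -/
def rv (k : Fin m) : Fin m := ⟨m - 1 - k.val, by have := k.isLt; omega⟩

lemma rv_rv (k : Fin m) : rv m (rv m k) = k := by
  apply Fin.ext
  show m - 1 - (m - 1 - k.val) = k.val
  have := k.isLt
  omega

/-- The generic matrix with its rows reversed. -/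
noncomputable def Zrev : Matrix (Fin m) (Fin n) (MvPolynomial (Fin m × Fin n) K) :=
  Matrix.of fun k j => X (rv m k, j)

/-- The matrix `[I ; Zrev]`. -/
noncomputable def Mc : Matrix (Fin (n + m)) (Fin n) (MvPolynomial (Fin m × Fin n) K) :=
  Matrix.of fun i j => if h : i.val < n then (if i.val = j.val then 1 else 0)
    else Zrev K m n ⟨i.val - n, by have := i.isLt; omega⟩ j

lemma Mc_hM1 (i : Fin (n + m)) (j : Fin n) (h : i.val < n) :
    Mc K m n i j = if i.val = j.val then 1 else 0 := by
  unfold Mc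
  rw [Matrix.of_apply, dif_pos h]

lemma Mc_hM2 (i : Fin (n + m)) (j : Fin n) (k : Fin m) (h : i.val = n + k.val) :
    Mc K m n i j = Zrev K m n k j := by
  unfold Mc
  have hnot : ¬ i.val < n := by omega
  rw [Matrix.of_apply, dif_neg hnot]
  congr 1
  exact Fin.ext (by show i.val - n = k.val; omega)

/-- The restriction of the Plücker coordinates to the cell. -/
noncomputable def gam : PlRing K n (n + m) →ₐ[K] MvPolynomial (Fin m × Fin n) K :=
  MvPolynomial.aeval fun θ : Idx n (n + m) => ((Mc K m n).submatrix θ.1 id).det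

variable {m n}

/-- The number of entries of `θ` below `x`. -/
def cntT (θ : Idx n (n + m)) (x : ℕ) : ℕ :=
  (Finset.univ.filter fun j : Fin n => (θ.1 j).val < x).card

/-- The number of rows of a minor below `x`. -/
def cntA (M : MinorIdx m n) (x : ℕ) : ℕ :=
  (Finset.univ.filter fun j : Fin (M.1 + 1) => (M.2.1.1 j).val < x).card

/-- The number of columns of a minor below `x`. -/
def cntB (M : MinorIdx m n) (x : ℕ) : ℕ :=
  (Finset.univ.filter fun j : Fin (M.1 + 1) => (M.2.2.1 j).val < x).card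

/-- The counting relations between a Plücker index and its minor. -/
def RelCount (θ : Idx n (n + m)) (M : MinorIdx m n) : Prop :=
  (∀ x ≤ n, cntT θ x + cntB M x = x) ∧ (∀ y ≤ m, cntT θ (n + y) + cntA M (m - y) = n)

lemma cntT_anti (θ θ' : Idx n (n + m)) (h : θ ≤ θ') (x : ℕ) : cntT θ' x ≤ cntT θ x := by
  unfold cntT
  refine Finset.card_le_card (fun j hj => ?_)
  rw [Finset.mem_filter] at hj ⊢
  exact ⟨Finset.mem_univ _, lt_of_le_of_lt (Fin.le_def.mp (h j)) hj.2⟩

theorem minorGE_of_le (θ θ' : Idx n (n + m)) (M M' : MinorIdx m n) (h : θ ≤ θ')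
    (hR : RelCount θ M) (hR' : RelCount θ' M') : MinorGE M M' := by
  have hA := entry_le_of_cnt (bound := m) (fun j => (M.2.1.1 j).val) (fun j => (M'.2.1.1 j).val)
    (fun a b hab => Fin.lt_def.mp (M.2.1.2 hab)) (fun a b hab => Fin.lt_def.mp (M'.2.1.2 hab))
    (fun j => (M.2.1.1 j).isLt) (fun x hx => by
      have h1 := hR.2 (m - x) (Nat.sub_le _ _)
      have h2 := hR'.2 (m - x) (Nat.sub_le _ _)
      have h3 := cntT_anti θ θ' h (n + (m - x))
      have h4 : m - (m - x) = x := by omega
      rw [h4] at h1 h2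
      show cntA M x ≤ cntA M' x
      omega)
  have hB := entry_le_of_cnt (bound := n) (fun j => (M.2.2.1 j).val) (fun j => (M'.2.2.1 j).val)
    (fun a b hab => Fin.lt_def.mp (M.2.2.2 hab)) (fun a b hab => Fin.lt_def.mp (M'.2.2.2 hab))
    (fun j => (M.2.2.1 j).isLt) (fun x hx => by
      have h1 := hR.1 x hx
      have h2 := hR'.1 x hx
      have h3 := cntT_anti θ θ' h x
      show cntB M x ≤ cntB M' x
      omega)
  refine ⟨by have := hA.1; omega, fun j j' hjj => ⟨?_, ?_⟩⟩
  · exact Fin.le_def.mpr (hA.2 j j' hjj)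
  · exact Fin.le_def.mpr (hB.2 j j' hjj)

variable (m n)

theorem cell_cases (θ : Idx n (n + m)) :
    (∃ ε : ℤˣ, gam K m n (X θ) = ((ε : ℤ) : MvPolynomial (Fin m × Fin n) K)) ∨
    (∃ (M : MinorIdx m n) (ε : ℤˣ),
      gam K m n (X θ) = ((ε : ℤ) : MvPolynomial (Fin m × Fin n) K) * minorOf K M ∧
        RelCount θ M) := by
  classical
  obtain ⟨S, hS⟩ : ∃ S : Finset (Fin n),
      S = Finset.univ.filter (fun i : Fin n => (θ.1 i).val < n) := ⟨_, rfl⟩
  have hSmem : ∀ i, i ∈ S ↔ (θ.1 i).val < n := by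
    intro i
    rw [hS]
    simp
  obtain ⟨s', hs'⟩ : ∃ s', S.card = s' := ⟨_, rfl⟩
  obtain ⟨mm, hmm⟩ : ∃ mm, Sᶜ.card = mm := ⟨_, rfl⟩
  have hsm : s' + mm = n := by
    rw [← hs', ← hmm, Finset.card_add_card_compl, Fintype.card_fin]
  obtain ⟨er, her⟩ : ∃ er : Fin s' ⊕ Fin mm ≃ Fin n, er = finSumEquivOfFinset hs' hmm :=
    ⟨_, rfl⟩
  have herl : ∀ i : Fin s', er (Sum.inl i) = S.orderEmbOfFin hs' i := by
    intro i
    rw [her, finSumEquivOfFinset_inl]
  have herr : ∀ j : Fin mm, er (Sum.inr j) = Sᶜ.orderEmbOfFin hmm j := by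
    intro j
    rw [her, finSumEquivOfFinset_inr]
  have hlt : ∀ i : Fin s', (θ.1 (er (Sum.inl i))).val < n := by
    intro i
    rw [← hSmem, herl]
    exact Finset.orderEmbOfFin_mem S hs' i
  have hge : ∀ j : Fin mm, n ≤ (θ.1 (er (Sum.inr j))).val := by
    intro j
    have h1 : er (Sum.inr j) ∈ Sᶜ := by
      rw [herr]
      exact Finset.orderEmbOfFin_mem Sᶜ hmm j
    rw [Finset.mem_compl, hSmem] at h1
    omega
  obtain ⟨a, ha⟩ : ∃ a : Fin s' → Fin n, ∀ i, (a i).val = (θ.1 (er (Sum.inl i))).val :=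
    ⟨fun i => ⟨(θ.1 (er (Sum.inl i))).val, hlt i⟩, fun i => rfl⟩
  have hamono : StrictMono a := by
    intro i i' hii
    rw [Fin.lt_def, ha, ha]
    have h1 : er (Sum.inl i) < er (Sum.inl i') := by
      rw [herl, herl]
      exact (S.orderEmbOfFin hs').strictMono hii
    exact θ.2 h1
  obtain ⟨A, hA⟩ : ∃ A : Finset (Fin n), A = Finset.univ.image a := ⟨_, rfl⟩
  have hAcard : A.card = s' := by
    rw [hA, Finset.card_image_of_injective _ hamono.injective, Finset.card_univ, Fintype.card_fin]
  have hAccard : Aᶜ.card = mm := by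
    rw [Finset.card_compl, hAcard, Fintype.card_fin]
    omega
  obtain ⟨ec, hec⟩ : ∃ ec : Fin s' ⊕ Fin mm ≃ Fin n,
      ec = finSumEquivOfFinset hAcard hAccard := ⟨_, rfl⟩
  have haeq : a = A.orderEmbOfFin hAcard :=
    Finset.orderEmbOfFin_unique hAcard
      (fun x => by rw [hA]; exact Finset.mem_image_of_mem a (Finset.mem_univ x)) hamono
  have hecl : ∀ i : Fin s', ec (Sum.inl i) = a i := by
    intro i
    rw [hec, finSumEquivOfFinset_inl]
    exact (congrFun haeq i).symm
  have hecr : ∀ j : Fin mm, ec (Sum.inr j) = Aᶜ.orderEmbOfFin hAccard j := by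
    intro j
    rw [hec, finSumEquivOfFinset_inr]
  obtain ⟨b, hb⟩ : ∃ b : Fin mm → Fin m, ∀ j, (θ.1 (er (Sum.inr j))).val = n + (b j).val := by
    refine ⟨fun j => ⟨(θ.1 (er (Sum.inr j))).val - n, ?_⟩, fun j => ?_⟩
    · have h1 := (θ.1 (er (Sum.inr j))).isLt
      have h2 := hge j
      omega
    · have h2 := hge j
      show _ = n + ((θ.1 (er (Sum.inr j))).val - n)
      omega
  have hbmono : StrictMono b := by
    intro j j' hjj
    have h1 : er (Sum.inr j) < er (Sum.inr j') := by
      rw [herr, herr]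
      exact (Sᶜ.orderEmbOfFin hmm).strictMono hjj
    have h2 := Fin.lt_def.mp (θ.2 h1)
    rw [hb, hb] at h2
    rw [Fin.lt_def]
    omega
  obtain ⟨ε, hε⟩ := CellMinor.block_det (Zrev K m n) (Mc K m n) (Mc_hM1 K m n) (Mc_hM2 K m n)
    θ.1 er ec b (fun i => by rw [hecl, ha]) hb
  have hgam : gam K m n (X θ) = ((ε : ℤ) : MvPolynomial (Fin m × Fin n) K) *
      ((Zrev K m n).submatrix b (fun j => ec (Sum.inr j))).det := by
    unfold gam
    rw [aeval_X]
    exact hε
  rcases Nat.eq_zero_or_pos mm with h0 | hpos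
  · left
    subst h0
    refine ⟨ε, ?_⟩
    rw [hgam, Matrix.det_isEmpty, mul_one]
  · right
    obtain ⟨s, hs⟩ : ∃ s, mm = s + 1 := ⟨mm - 1, by omega⟩
    subst hs
    obtain ⟨Bcol, hBcol⟩ : ∃ Bcol : Fin (s + 1) → Fin n, Bcol = fun j => ec (Sum.inr j) :=
      ⟨_, rfl⟩
    have hBmono : StrictMono Bcol := by
      intro j j' hjj
      rw [hBcol]
      beta_reduce
      rw [hecr, hecr]
      exact (Aᶜ.orderEmbOfFin hAccard).strictMono hjj
    obtain ⟨Arow, hArow⟩ : ∃ Arow : Fin (s + 1) → Fin m, Arow = fun j => rv m (b (Fin.rev j)) :=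
      ⟨_, rfl⟩
    have hAval : ∀ j, (Arow j).val = m - 1 - (b (Fin.rev j)).val := by
      intro j
      rw [hArow]
      rfl
    have hAmono : StrictMono Arow := by
      intro j j' hjj
      have h1 : Fin.rev j' < Fin.rev j := Fin.rev_lt_rev.mpr hjj
      have h2 := Fin.lt_def.mp (hbmono h1)
      rw [Fin.lt_def, hAval, hAval]
      have h3 := (b (Fin.rev j)).isLt
      omega
    refine ⟨⟨s, (⟨Arow, hAmono⟩, ⟨Bcol, hBmono⟩)⟩,
      ε * Equiv.Perm.sign (Fin.revPerm : Equiv.Perm (Fin (s + 1))), ?_, ?_, ?_⟩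
    · have h1 : minorOf K ⟨s, (⟨Arow, hAmono⟩, ⟨Bcol, hBmono⟩)⟩ =
          (((Zrev K m n).submatrix b Bcol).submatrix Fin.revPerm id).det := by
        unfold minorOf
        congr 1
        refine Matrix.ext fun x y => ?_
        show genMatrix K m n (Arow x) (Bcol y) = Zrev K m n (b (Fin.rev x)) (Bcol y)
        have h2 : Arow x = rv m (b (Fin.rev x)) := by rw [hArow]
        rw [h2]
        rfl
      rw [h1, Matrix.det_permute, hgam, ← hBcol, Units.val_mul, Int.cast_mul, mul_assoc,
        ← mul_assoc (((Equiv.Perm.sign (Fin.revPerm : Equiv.Perm (Fin (s + 1))) : ℤˣ) : ℤ) :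
          MvPolynomial (Fin m × Fin n) K), CellMinor.unit_sq, one_mul]
    · intro x hx
      unfold cntT cntB
      rw [card_filter_sum_equiv er (fun j => (θ.1 j).val < x)]
      have hz : (Finset.univ.filter fun j : Fin (s + 1) => (θ.1 (er (Sum.inr j))).val < x) = ∅ :=
        Finset.filter_false_of_mem (fun j _ => by have := hge j; omega)
      rw [hz, Finset.card_empty, add_zero]
      have hx' := card_lt_fin n x hx
      rw [card_filter_sum_equiv ec (fun c : Fin n => c.val < x)] at hx'
      have he : (Finset.univ.filter fun i : Fin s' => (θ.1 (er (Sum.inl i))).val < x) =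
          (Finset.univ.filter fun i : Fin s' => (ec (Sum.inl i)).val < x) := by
        refine Finset.filter_congr fun i _ => ?_
        rw [hecl, ha]
      rw [he]
      show _ + (Finset.univ.filter fun j : Fin (s + 1) => (Bcol j).val < x).card = x
      rw [hBcol]
      exact hx'
    · intro y hy
      unfold cntT cntA
      rw [card_filter_sum_equiv er (fun j => (θ.1 j).val < n + y)]
      have h1 : (Finset.univ.filter fun i : Fin s' => (θ.1 (er (Sum.inl i))).val < n + y) =
          Finset.univ :=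
        Finset.filter_true_of_mem (fun i _ => by have := hlt i; omega)
      rw [h1, Finset.card_univ, Fintype.card_fin]
      have h2 : (Finset.univ.filter fun j : Fin (s + 1) =>
          (θ.1 (er (Sum.inr j))).val < n + y) =
          Finset.univ.filter fun j : Fin (s + 1) => (b j).val < y :=
        Finset.filter_congr fun j _ => by rw [hb]; omega
      rw [h2]
      show s' + _ + (Finset.univ.filter fun j : Fin (s + 1) => (Arow j).val < m - y).card = n
      have h3 : (Finset.univ.filter fun j : Fin (s + 1) => (Arow j).val < m - y).card =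
          (Finset.univ.filter fun j : Fin (s + 1) => ¬ (b j).val < y).card := by
        rw [Finset.card_filter, Finset.card_filter]
        refine Fintype.sum_equiv Fin.revPerm _ _ (fun j => ?_)
        have h4 := (b (Fin.rev j)).isLt
        have h5 : (Fin.revPerm j : Fin (s + 1)) = Fin.rev j := rfl
        rw [h5, hAval]
        by_cases h6 : (b (Fin.rev j)).val < y
        · rw [if_neg (by omega), if_neg (not_not.mpr h6)]
        · rw [if_pos (by omega), if_pos h6]
      rw [h3]
      have h4 := Finset.card_filter_add_card_filter_not (s := (Finset.univ : Finset (Fin (s + 1))))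
        (fun j => (b j).val < y)
      rw [Finset.card_univ, Fintype.card_fin] at h4
      omega

/-- Every variable is, up to sign, the restriction of a Plücker coordinate. -/
theorem X_mem_range (i : Fin m) (j : Fin n) : ∃ (θ : Idx n (n + m)) (ε : ℤˣ),
    gam K m n (X θ) = ((ε : ℤ) : MvPolynomial (Fin m × Fin n) K) * X (i, j) := by
  classical
  have hn : 0 < n := lt_of_le_of_lt (Nat.zero_le _) j.isLt
  obtain ⟨s, hs⟩ : ∃ s, s = n - 1 := ⟨_, rfl⟩
  have hst : s + 1 = n := by omega
  obtain ⟨Rr, hRr⟩ : ∃ Rr : Fin 1 → Fin m, Rr = fun _ => rv m i := ⟨_, rfl⟩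
  obtain ⟨C, hC⟩ : ∃ C : Fin 1 → Fin n, C = fun _ => j := ⟨_, rfl⟩
  have hCmono : StrictMono C := Subsingleton.strictMono C
  have hRmono : StrictMono Rr := Subsingleton.strictMono Rr
  obtain ⟨C', hC'⟩ : ∃ C' : Finset (Fin n), C' = Finset.univ.image C := ⟨_, rfl⟩
  have hC'card : C'.card = 1 := by
    rw [hC', Finset.card_image_of_injective _ hCmono.injective, Finset.card_univ, Fintype.card_fin]
  have hC'ccard : C'ᶜ.card = s := by
    rw [Finset.card_compl, hC'card, Fintype.card_fin]
    omega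
  have hCeq : C = C'.orderEmbOfFin hC'card :=
    Finset.orderEmbOfFin_unique hC'card
      (fun x => by rw [hC']; exact Finset.mem_image_of_mem C (Finset.mem_univ x)) hCmono
  obtain ⟨a, ha⟩ : ∃ a : Fin s → Fin n, a = C'ᶜ.orderEmbOfFin hC'ccard := ⟨_, rfl⟩
  have hamono : StrictMono a := by
    rw [ha]
    exact (C'ᶜ.orderEmbOfFin hC'ccard).strictMono
  obtain ⟨θf, hθf⟩ : ∃ θf : Fin n → Fin (n + m), θf = CellMinor.mkTheta hst a Rr := ⟨_, rfl⟩
  have hθmono : StrictMono θf := by
    rw [hθf]
    exact CellMinor.mkTheta_strictMono hst a hamono Rr hRmono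
  obtain ⟨er, her⟩ : ∃ er : Fin s ⊕ Fin 1 ≃ Fin n,
      er = finSumFinEquiv.trans (finCongr hst) := ⟨_, rfl⟩
  have herl : ∀ i : Fin s, (er (Sum.inl i)).val = i.val := by
    intro i
    rw [her]
    simp
  have herr : ∀ j : Fin 1, (er (Sum.inr j)).val = s + j.val := by
    intro j
    rw [her]
    simp
  obtain ⟨ec, hec⟩ : ∃ ec : Fin s ⊕ Fin 1 ≃ Fin n,
      ec = (Equiv.sumComm (Fin s) (Fin 1)).trans (finSumEquivOfFinset hC'card hC'ccard) :=
    ⟨_, rfl⟩
  have hecl : ∀ i : Fin s, ec (Sum.inl i) = a i := by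
    intro i
    rw [hec]
    simp only [Equiv.trans_apply, Equiv.sumComm_apply, Sum.swap_inl, finSumEquivOfFinset_inr]
    rw [ha]
  have hecr : ∀ j : Fin 1, ec (Sum.inr j) = C j := by
    intro j
    rw [hec]
    simp only [Equiv.trans_apply, Equiv.sumComm_apply, Sum.swap_inr, finSumEquivOfFinset_inl]
    exact (congrFun hCeq j).symm
  have h1 : ∀ i : Fin s, (θf (er (Sum.inl i))).val = (ec (Sum.inl i)).val := by
    intro i
    have hlt : (er (Sum.inl i)).val < s := by
      rw [herl]
      exact i.isLt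
    have hi : (⟨(er (Sum.inl i)).val, hlt⟩ : Fin s) = i := Fin.ext (herl i)
    rw [hθf, CellMinor.mkTheta_lt hst a Rr _ hlt, hecl, hi]
  have h2 : ∀ j : Fin 1, (θf (er (Sum.inr j))).val = n + (Rr j).val := by
    intro j
    have hnlt : ¬ (er (Sum.inr j)).val < s := by
      rw [herr]
      omega
    have hlt' : (er (Sum.inr j)).val - s < 1 := by
      rw [herr]
      have := j.isLt
      omega
    have hj : (⟨(er (Sum.inr j)).val - s, hlt'⟩ : Fin 1) = j :=
      Fin.ext (by show (er (Sum.inr j)).val - s = j.val; rw [herr]; omega)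
    rw [hθf, CellMinor.mkTheta_ge hst a Rr _ hnlt hlt', hj]
  obtain ⟨ε, hε⟩ := CellMinor.block_det (Zrev K m n) (Mc K m n) (Mc_hM1 K m n) (Mc_hM2 K m n)
    θf er ec Rr h1 h2
  refine ⟨⟨θf, hθmono⟩, ε, ?_⟩
  unfold gam
  rw [aeval_X]
  show ((Mc K m n).submatrix θf id).det = _
  rw [hε, Matrix.det_fin_one]
  congr 1
  show Zrev K m n (Rr 0) (ec (Sum.inr 0)) = X (i, j)
  rw [hecr, hRr, hC]
  unfold Zrev
  rw [Matrix.of_apply, rv_rv]

end cell

/-! ### The shuffle relations vanish on the cell -/

section vanish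

variable (K : Type u) [Field K] [Infinite K] (m n : ℕ)

theorem gam_eq_zero (f : PlRing K n (n + m)) (hf : f ∈ plIdealTop (d := n) (n := n + m) K) :
    gam K m n f = 0 := by
  apply MvPolynomial.funext
  intro z
  rw [map_zero]
  obtain ⟨A, hA⟩ : ∃ A : Matrix (Fin (n + m)) (Fin n) K,
      A = (Mc K m n).map (MvPolynomial.aeval z : MvPolynomial (Fin m × Fin n) K →ₐ[K] K) :=
    ⟨_, rfl⟩
  have hcomp : (MvPolynomial.aeval z : MvPolynomial (Fin m × Fin n) K →ₐ[K] K).comp
      (gam K m n) = evalMinors K n (n + m) A := by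
    apply MvPolynomial.algHom_ext
    intro θ
    rw [AlgHom.comp_apply]
    unfold gam evalMinors
    rw [aeval_X, aeval_X, AlgHom.map_det, hA]
    rfl
  have h1 : MvPolynomial.eval z (gam K m n f) = evalMinors K n (n + m) A f :=
    DFunLike.congr_fun hcomp f
  rw [h1]
  have hle : plIdealTop (d := n) (n := n + m) K ≤
      RingHom.ker (evalMinors K n (n + m) A).toRingHom := by
    unfold plIdealTop
    rw [Ideal.span_le]
    rintro _ ⟨i, j, r, -, rfl⟩
    exact RingHom.mem_ker.mpr (SMT2.evalMinors_shuffleRel A i j r)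
  exact RingHom.mem_ker.mp (hle hf)

end vanish

end Groth.Agent.Helper8.Bitab2
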