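import Mathlib
import Groth.Prelude.Def_W4bk4grassmannianPl
import Groth.Prelude.Def_CAlgX
import Groth.Agent.Helper8.Bitab1
import Groth.Agent.Helper8.Bitab2
import Groth.Agent.Helper8.SMT1b

set_option autoImplicit false

namespace Groth.Agent.Helper8.Bitab3

open W4bk4grassmannian MvPolynomial Groth.Agent.Helper8.Bitab1 Groth.Agent.Helper8.Bitab2

universe u

/-! ### Translating standard monomials into bitableaux -/

section translate

variable (K : Type u) [CommRing K] (m n : ℕ)

theorem translate : ∀ (L : List (Idx n (n + m))), L.Pairwise (fun a b => b ≤ a) →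
    ∃ (L' : List (MinorIdx m n)) (ε : ℤˣ),
      L'.Pairwise (fun M M' => MinorGE M' M) ∧ (∀ M ∈ L', ∃ θ ∈ L, RelCount θ M) ∧
      gam K m n ((L.map X).prod) =
        ((ε : ℤ) : MvPolynomial (Fin m × Fin n) K) * (L'.map (minorOf K)).prod
  | [], _ => ⟨[], 1, List.Pairwise.nil, by simp, by simp⟩
  | θ :: L, hL => by
    obtain ⟨hθ, hL'⟩ := List.pairwise_cons.mp hL
    obtain ⟨L', ε, hp, hrel, heq⟩ := translate L hL'
    rcases cell_cases K m n θ with ⟨ε', h1⟩ | ⟨M, ε', h1, hR⟩
    · refine ⟨L', ε' * ε, hp, ?_, ?_⟩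
      · intro M hM
        obtain ⟨θ', hθ', hR'⟩ := hrel M hM
        exact ⟨θ', List.mem_cons_of_mem _ hθ', hR'⟩
      · rw [List.map_cons, List.prod_cons, map_mul, heq, h1, Units.val_mul, Int.cast_mul]
        ring
    · refine ⟨M :: L', ε' * ε, ?_, ?_, ?_⟩
      · refine List.pairwise_cons.mpr ⟨?_, hp⟩
        intro M' hM'
        obtain ⟨θ', hθ', hR'⟩ := hrel M' hM'
        exact minorGE_of_le θ' θ M' M (hθ θ' hθ') hR' hR
      · intro M' hM'
        rcases List.mem_cons.mp hM' with rfl | hM'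
        · exact ⟨θ, List.mem_cons_self, hR⟩
        · obtain ⟨θ', hθ', hR'⟩ := hrel M' hM'
          exact ⟨θ', List.mem_cons_of_mem _ hθ', hR'⟩
      · rw [List.map_cons, List.prod_cons, map_mul, heq, h1, List.map_cons, List.prod_cons,
          Units.val_mul, Int.cast_mul]
        ring

theorem gam_surjective : Function.Surjective (gam K m n) := by
  rw [← AlgHom.range_eq_top, eq_top_iff, ← MvPolynomial.adjoin_range_X, Algebra.adjoin_le_iff]
  rintro _ ⟨⟨i, j⟩, rfl⟩
  obtain ⟨θ, ε, h⟩ := X_mem_range K m n i j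
  show X (i, j) ∈ (gam K m n).range
  rw [AlgHom.mem_range]
  refine ⟨((ε : ℤ) : PlRing K n (n + m)) * X θ, ?_⟩
  rw [map_mul, map_intCast, h, ← mul_assoc, Groth.Agent.Helper8.CellMinor.unit_sq, one_mul]

end translate

/-! ### Spanning -/

section span

variable (K : Type u) [Field K] (N m n : ℕ)

theorem list_mem_span (L' : List (MinorIdx m n))
    (hp : L'.Pairwise (fun M M' => MinorGE M' M)) :
    Ideal.Quotient.mk (CAlgX.minorIdeal (genMatrix K m n) (N + 1))
        ((L'.map (minorOf K)).prod) ∈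
      Submodule.span K (Set.range fun c : BT N m n =>
        Ideal.Quotient.mk (CAlgX.minorIdeal (genMatrix K m n) (N + 1))
          (Finset.univ.prod fun i => minorOf K (c.2.1 i))) := by
  by_cases hsz : ∀ M ∈ L', M.1 + 1 ≤ N
  · obtain ⟨Lr, hLr⟩ : ∃ Lr, Lr = L'.reverse := ⟨_, rfl⟩
    have hpr : Lr.Pairwise (fun M M' => MinorGE M M') := by
      rw [hLr, List.pairwise_reverse]
      exact hp
    have hszr : ∀ i : Fin Lr.length, (Lr.get i).1 + 1 ≤ N := by
      intro i
      apply hsz
      have h0 : ∀ M ∈ Lr, M ∈ L' := by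
        intro M hM
        rw [hLr, List.mem_reverse] at hM
        exact hM
      exact h0 _ (List.get_mem Lr i)
    have hpr' := List.pairwise_iff_get.mp hpr
    refine Submodule.subset_span ⟨⟨Lr.length, ⟨fun i => Lr.get i, hszr,
      fun i j hij => hpr' i j hij⟩⟩, ?_⟩
    show Ideal.Quotient.mk _ (Finset.univ.prod fun i : Fin Lr.length => minorOf K (Lr.get i)) = _
    congr 1
    have h2 : (Finset.univ.prod fun i : Fin Lr.length => minorOf K (Lr.get i)) =
        (Lr.map (minorOf K)).prod := by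
      have h3 := Fin.prod_univ_fun_getElem Lr (minorOf K)
      rw [← h3]
      rfl
    rw [h2, hLr, List.map_reverse, List.prod_reverse]
  · push Not at hsz
    obtain ⟨M, hM, hMN⟩ := hsz
    have h1 : minorOf K M ∈ CAlgX.minorIdeal (genMatrix K m n) (N + 1) := by
      have h2 : minorOf K M ∈ Groth.Agent.Helper8.CellMinor.minI (genMatrix K m n) (M.1 + 1) :=
        Groth.Agent.Helper8.CellMinor.minor_mem (genMatrix K m n) (M.1 + 1) M.2.1.1 M.2.2.1
      exact Groth.Agent.Helper8.CellMinor.minI_le_of_le (genMatrix K m n)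
        (show N + 1 ≤ M.1 + 1 by omega) h2
    have h3 : (L'.map (minorOf K)).prod ∈ CAlgX.minorIdeal (genMatrix K m n) (N + 1) := by
      obtain ⟨q, hq⟩ := List.dvd_prod (List.mem_map_of_mem (f := minorOf K) hM)
      rw [hq]
      exact Ideal.mul_mem_right _ _ h1
    rw [Ideal.Quotient.eq_zero_iff_mem.mpr h3]
    exact Submodule.zero_mem _

theorem chain_mem_span {r : ℕ} (c : Fin r → Idx n (n + m)) (hc : Antitone c) :
    Ideal.Quotient.mk (CAlgX.minorIdeal (genMatrix K m n) (N + 1))
        (gam K m n (chainMon K c)) ∈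
      Submodule.span K (Set.range fun c : BT N m n =>
        Ideal.Quotient.mk (CAlgX.minorIdeal (genMatrix K m n) (N + 1))
          (Finset.univ.prod fun i => minorOf K (c.2.1 i))) := by
  have h1 : chainMon K c = ((List.ofFn c).map X).prod := by
    unfold chainMon
    rw [List.map_ofFn, List.prod_ofFn]
    rfl
  have hpw : (List.ofFn c).Pairwise (fun a b => b ≤ a) := by
    rw [List.pairwise_ofFn]
    intro i j hij
    exact hc hij.le
  obtain ⟨L', ε, hp, -, heq⟩ := translate K m n (List.ofFn c) hpw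
  rw [h1, heq, map_mul]
  have hmem := list_mem_span K N m n L' hp
  rcases Int.units_eq_one_or ε with rfl | rfl
  · rw [Units.val_one, Int.cast_one, map_one, one_mul]
    exact hmem
  · rw [Units.val_neg, Units.val_one, Int.cast_neg, Int.cast_one, map_neg, map_one, neg_one_mul]
    exact Submodule.neg_mem _ hmem

theorem spanN [Infinite K] :
    Submodule.span K (Set.range fun c : BT N m n =>
        Ideal.Quotient.mk (CAlgX.minorIdeal (genMatrix K m n) (N + 1))
          (Finset.univ.prod fun i => minorOf K (c.2.1 i))) = ⊤ := by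
  obtain ⟨G, hG⟩ : ∃ G : (PlRing K n (n + m) ⧸ plIdealTop (d := n) (n := n + m) K) →ₐ[K]
      (MvPolynomial (Fin m × Fin n) K ⧸ CAlgX.minorIdeal (genMatrix K m n) (N + 1)),
      ∀ f, G (Ideal.Quotient.mk _ f) = Ideal.Quotient.mk _ (gam K m n f) := by
    refine ⟨Ideal.Quotient.liftₐ _ ((Ideal.Quotient.mkₐ K _).comp (gam K m n)) ?_, ?_⟩
    · intro a ha
      rw [AlgHom.comp_apply, gam_eq_zero K m n a ha, map_zero]
    · intro f
      rw [Ideal.Quotient.liftₐ_apply, Ideal.Quotient.lift_mk]
      rfl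
  have hle : (⊤ : Submodule K (PlRing K n (n + m) ⧸ plIdealTop (d := n) (n := n + m) K)) ≤
      Submodule.comap G.toLinearMap (Submodule.span K (Set.range fun c : BT N m n =>
        Ideal.Quotient.mk (CAlgX.minorIdeal (genMatrix K m n) (N + 1))
          (Finset.univ.prod fun i => minorOf K (c.2.1 i)))) := by
    rw [← Groth.Agent.Helper8.SMT.s11251 K n (n + m), Submodule.span_le]
    rintro _ ⟨⟨r, c, hc⟩, rfl⟩
    rw [SetLike.mem_coe, Submodule.mem_comap]
    show G (Ideal.Quotient.mk _ (chainMon K c)) ∈ _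
    rw [hG]
    exact chain_mem_span K N m n c hc
  rw [Submodule.eq_top_iff']
  intro x
  obtain ⟨f, rfl⟩ := Ideal.Quotient.mk_surjective x
  obtain ⟨p, rfl⟩ := gam_surjective K m n f
  have h1 := hle (Submodule.mem_top (x := Ideal.Quotient.mk (plIdealTop (d := n) (n := n + m) K) p))
  rw [Submodule.mem_comap] at h1
  have h2 : G.toLinearMap (Ideal.Quotient.mk (plIdealTop (d := n) (n := n + m) K) p) =
      Ideal.Quotient.mk _ (gam K m n p) := hG p
  rw [h2] at h1
  exact h1

end span

/-! ### The two theorems -/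

theorem s11265 (K : Type u) [Field K] [Infinite K] (m n t : ℕ) (ht : 1 ≤ t) :
    LinearIndependent K (fun c : (Σ k : ℕ, {c : Fin k → MinorIdx m n //
        (∀ i, (c i).1 + 1 ≤ t - 1) ∧ ∀ i j, i < j → MinorGE (c i) (c j)}) =>
        Ideal.Quotient.mk (CAlgX.minorIdeal (genMatrix K m n) t)
          (Finset.univ.prod fun i => minorOf K (c.2.1 i))) ∧
      Submodule.span K (Set.range fun c : (Σ k : ℕ, {c : Fin k → MinorIdx m n //
        (∀ i, (c i).1 + 1 ≤ t - 1) ∧ ∀ i j, i < j → MinorGE (c i) (c j)}) =>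
        Ideal.Quotient.mk (CAlgX.minorIdeal (genMatrix K m n) t)
          (Finset.univ.prod fun i => minorOf K (c.2.1 i))) = ⊤ := by
  obtain ⟨N, rfl⟩ : ∃ N, t = N + 1 := ⟨t - 1, by omega⟩
  exact ⟨indepN K N m n, spanN K N m n⟩

theorem s11267 (K : Type u) [Field K] [Infinite K] (m n q : ℕ) :
    RingHom.ker (pairingMap K n m q).toRingHom =
      CAlgX.minorIdeal (genMatrix K m q) (n + 1) := by
  refine le_antisymm ?_ (minorIdeal_le_ker K n m q)
  intro f hf
  have hf0 : pairingMap K n m q f = 0 := RingHom.mem_ker.mp hf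
  obtain ⟨F, hF⟩ : ∃ F : (MvPolynomial (Fin m × Fin q) K ⧸
      CAlgX.minorIdeal (genMatrix K m q) (n + 1)) →ₐ[K] PairRing K n m q,
      ∀ f, F (Ideal.Quotient.mk _ f) = pairingMap K n m q f :=
    ⟨Ideal.Quotient.liftₐ _ (pairingMap K n m q)
      (fun a ha => RingHom.mem_ker.mp (minorIdeal_le_ker K n m q ha)), fun f => by
      rw [Ideal.Quotient.liftₐ_apply, Ideal.Quotient.lift_mk]
      rfl⟩
  have hmem : Ideal.Quotient.mk (CAlgX.minorIdeal (genMatrix K m q) (n + 1)) f ∈
      Submodule.span K (Set.range fun c : BT n m q =>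
        Ideal.Quotient.mk (CAlgX.minorIdeal (genMatrix K m q) (n + 1))
          (Finset.univ.prod fun i => minorOf K (c.2.1 i))) := by
    rw [spanN K n m q]
    exact Submodule.mem_top
  obtain ⟨g, hg⟩ := Finsupp.mem_span_range_iff_exists_finsupp.mp hmem
  have h2 : (g.sum fun c a => a • pairingMap K n m q
      (Finset.univ.prod fun i => minorOf K (c.2.1 i))) = 0 := by
    have h3 := congrArg F hg
    rw [hF, hf0, map_finsuppSum] at h3
    rw [← h3]
    refine Finsupp.sum_congr (fun c _ => ?_)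
    rw [map_smul, hF]
  have h3 : g = 0 := by
    have hli := indepP K n m q
    rw [linearIndependent_iff] at hli
    apply hli
    rw [Finsupp.linearCombination_apply]
    exact h2
  rw [h3, Finsupp.sum_zero_index] at hg
  exact Ideal.Quotient.eq_zero_iff_mem.mp hg.symm

end Groth.Agent.Helper8.Bitab3
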