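import Mathlib
import Groth.Prelude.Def_AlgGrp
import Groth.Agent.Helper8.Blanchard2

/-!
# Blanchard's lemma III: actions of connected group schemes on products of complete varieties
-/

set_option autoImplicit false
universe u

open CategoryTheory CategoryTheory.Limits AlgebraicGeometry

namespace Groth.Agent.Helper8.Blanchard3

open Groth.Agent.Helper8.Blanchard1 Groth.Agent.Helper8.Blanchard2
open MonoidalCategory CartesianMonoidalCategory MonObj

/-- `Γ(Y, O_Y) = k` for a complete variety over an algebraically closed field, on all opens of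
the base point -/
theorem isIso_app_of_proper_integral {k : Type u} [Field k] [IsAlgClosed k] {Y : Scheme.{u}}
    (q : Y ⟶ Spec (CommRingCat.of k)) [IsProper q] [IsIntegral Y]
    (U : (Spec (CommRingCat.of k)).Opens) : IsIso (q.app U) := by
  by_cases hU : IsLocalRing.closedPoint k ∈ U
  · have hUtop : U = ⊤ := by
      ext z
      constructor
      · intro _
        trivial
      · intro _
        have : z = IsLocalRing.closedPoint k := Subsingleton.elim (α := PrimeSpectrum k) _ _
        rw [this]
        exact hU
    subst hUtop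
    show IsIso q.appTop
    let F := (Scheme.ΓSpecIso (CommRingCat.of k)).inv ≫ q.appTop
    have hint : F.hom.IsIntegral := by
      apply RingHom.isIntegral_respectsIso.2
        (e := (Scheme.ΓSpecIso _).symm.commRingCatIsoToRingEquiv)
      exact isIntegral_appTop_of_universallyClosed q
    algebraize [F.hom]
    have hbij := IsAlgClosed.algebraMap_bijective_of_isIntegral (k := k) (K := Γ(Y, ⊤))
    haveI : IsIso F := (ConcreteCategory.isIso_iff_bijective F).mpr hbij
    have hq : q.appTop = (Scheme.ΓSpecIso (CommRingCat.of k)).hom ≫ F := by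
      simp only [F, Iso.hom_inv_id_assoc]
    rw [hq]
    infer_instance
  · have hUbot : U = ⊥ := by
      ext z
      constructor
      · intro hz
        have : z = IsLocalRing.closedPoint k := Subsingleton.elim (α := PrimeSpectrum k) _ _
        rw [this] at hz
        exact (hU hz).elim
      · intro hz
        exact hz.elim
    subst hUbot
    rw [ConcreteCategory.isIso_iff_bijective]
    haveI : Subsingleton Γ(Y, q ⁻¹ᵁ ⊥) := by
      rw [Scheme.Hom.preimage_bot]
      infer_instance
    exact ⟨fun _ _ _ => Subsingleton.elim _ _, fun b => ⟨0, Subsingleton.elim _ _⟩⟩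

variable {k : Type u} [Field k] [IsAlgClosed k] {G X Y : Over (Spec (CommRingCat.of k))}
  [GrpObj G]

theorem isIso_app_fst [IsProper Y.hom] [IsIntegral Y.left] (U : X.left.Opens) :
    IsIso ((fst X Y).left.app U) := by
  haveI : Flat X.hom := inferInstance
  have H : IsPullback (pullback.snd X.hom Y.hom) (pullback.fst X.hom Y.hom) Y.hom X.hom :=
    (IsPullback.of_hasPullback X.hom Y.hom).flip
  exact isIso_app_of_isPullback H (isIso_app_of_proper_integral Y.hom) U

theorem isIso_app_snd [IsProper X.hom] [IsIntegral X.left] (U : Y.left.Opens) :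
    IsIso ((snd X Y).left.app U) := by
  haveI : Flat Y.hom := inferInstance
  have H : IsPullback (pullback.fst X.hom Y.hom) (pullback.snd X.hom Y.hom) X.hom Y.hom :=
    IsPullback.of_hasPullback X.hom Y.hom
  exact isIso_app_of_isPullback H (isIso_app_of_proper_integral X.hom) U

theorem main [ConnectedSpace ↥G.left] [IsProper X.hom] [IsIntegral X.left]
    [IsProper Y.hom] [IsIntegral Y.left] (a : AlgGrp.Action G (X ⊗ Y)) :
    ∃ (b : AlgGrp.Action G X) (c : AlgGrp.Action G Y),
      a.act = lift ((G ◁ fst X Y) ≫ b.act) ((G ◁ snd X Y) ≫ c.act) ∧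
      ∀ (b' : AlgGrp.Action G X) (c' : AlgGrp.Action G Y),
        a.act = lift ((G ◁ fst X Y) ≫ b'.act) ((G ◁ snd X Y) ≫ c'.act) → b' = b ∧ c' = c := by
  haveI : IsProper (fst X Y).left := by
    rw [Over.fst_left]
    infer_instance
  haveI : IsProper (snd X Y).left := by
    rw [Over.snd_left]
    infer_instance
  obtain ⟨b, hb, hbu⟩ := existsUnique_action (G := G) (fst X Y) isIso_app_fst a
  obtain ⟨c, hc, hcu⟩ := existsUnique_action (G := G) (snd X Y) isIso_app_snd a
  refine ⟨b, c, ?_, fun b' c' h => ⟨hbu b' ?_, hcu c' ?_⟩⟩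
  · rw [hb, hc, ← comp_lift, lift_fst_snd, Category.comp_id]
  · rw [h, lift_fst]
  · rw [h, lift_snd]

end Groth.Agent.Helper8.Blanchard3
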