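import Mathlib
import Groth.Agent.Helper8.Rigid1

/-!
# The rigidity lemma without separatedness of the target

`g : X ⟶ T` proper, flat, locally of finite presentation, surjective with connected fibres and
`O_T = g_* O_X`, `T` connected; `f : X ⟶ Y` arbitrary.  If `f` contracts one fibre of `g`,
it contracts every fibre.  Closedness of the contracted locus uses that `f` is locally constant
on the fibres over the closure (the diagonal of `Y` is locally closed).
-/

set_option autoImplicit false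
universe u

open CategoryTheory CategoryTheory.Limits AlgebraicGeometry

namespace Groth.Agent.Helper8.RigidNS

open Groth.Agent.Helper8.Rigid1

set_option maxHeartbeats 1600000 in
theorem rigidity' {T X Y : Scheme.{u}} (g : X ⟶ T) [IsProper g] [Flat g]
    [LocallyOfFinitePresentation g] [Surjective g] (f : X ⟶ Y)
    (hiso : ∀ V : T.Opens, IsIso (g.app V))
    (hconn : ∀ t : T, _root_.IsPreconnected (g ⁻¹' {t}))
    [PreconnectedSpace T] (t : T) (ht : (f '' (g ⁻¹' {t})).Subsingleton) (t' : T) :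
    (f '' (g ⁻¹' {t'})).Subsingleton := by
  -- local factorizations
  have hB : ∀ t' : T, (f '' (g ⁻¹' {t'})).Subsingleton →
      ∃ (U : T.Opens) (k : (U : Scheme.{u}) ⟶ Y), t' ∈ U ∧ Fac g f U.ι k := by
    intro t' ht'
    obtain ⟨x₀, hx₀⟩ := g.surjective t'
    obtain ⟨U, k, htU, hk⟩ := exists_local_factor g hiso f t' (f x₀) (fun x hx =>
      ht' ⟨x, hx, rfl⟩ ⟨x₀, hx₀, rfl⟩)
    exact ⟨U, k, htU, Fac.of_restrict hk⟩
  let W : Set T := {t' | (f '' (g ⁻¹' {t'})).Subsingleton}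
  have hfacW : ∀ (U : T.Opens) (k : (U : Scheme.{u}) ⟶ Y), Fac g f U.ι k →
      (U : Set T) ⊆ W := by
    intro U k hk t'' ht''
    have hx : ∀ x : X, g x = t'' → f x = k ⟨t'', ht''⟩ := by
      intro x hx
      have hxU : x ∈ g ⁻¹ᵁ U := by
        show g x ∈ U
        rw [hx]
        exact ht''
      have h3 : (g ⁻¹ᵁ U).ι ≫ f = (g ∣_ U) ≫ k := hk.restrict
      have h4 : f x = ((g ⁻¹ᵁ U).ι ≫ f) ⟨x, hxU⟩ := rfl
      rw [h4, h3, Scheme.Hom.comp_apply]
      congr 1
      apply U.ι.isEmbedding.injective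
      rw [← Scheme.Hom.comp_apply, morphismRestrict_ι, Scheme.Hom.comp_apply]
      exact hx
    rintro _ ⟨x₁, h1, rfl⟩ _ ⟨x₂, h2, rfl⟩
    rw [hx x₁ h1, hx x₂ h2]
  have hWopen : IsOpen W := by
    rw [isOpen_iff_forall_mem_open]
    intro t' ht'
    obtain ⟨U, k, htU, hk⟩ := hB t' ht'
    exact ⟨U, hfacW U k hk, U.isOpen, htU⟩
  have hWclosed : IsClosed W := by
    rw [← closure_subset_iff_isClosed]
    intro t₁ ht₁
    -- `f` is locally constant on the fibre over `t₁`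
    have hlc : ∀ x : X, g x = t₁ → ∃ N : X.Opens, x ∈ N ∧
        ∀ x' : X, x' ∈ N → g x' = t₁ → f x' = f x := by
      intro x hx
      obtain ⟨Y₀, hY₀, hxY₀, -⟩ := exists_isAffineOpen_mem_and_subset (x := f x)
        (U := (⊤ : Y.Opens)) trivial
      haveI : IsAffine (Y₀ : Scheme.{u}) := hY₀
      let N : X.Opens := f ⁻¹ᵁ Y₀
      refine ⟨N, hxY₀, ?_⟩
      intro x' hx'N hx'
      have hr : Set.range (N.ι ≫ f) ⊆ Set.range Y₀.ι := by
        rintro _ ⟨w, rfl⟩
        rw [Scheme.Opens.range_ι]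
        exact w.2
      let dN : (N : Scheme.{u}) ⟶ (Y₀ : Scheme.{u}) := IsOpenImmersion.lift Y₀.ι (N.ι ≫ f) hr
      have hdN : dN ≫ Y₀.ι = N.ι ≫ f := IsOpenImmersion.lift_fac _ _ _
      let gN : (N : Scheme.{u}) ⟶ T := N.ι ≫ g
      let a₁ : pullback gN gN ⟶ (Y₀ : Scheme.{u}) := pullback.fst gN gN ≫ dN
      let a₂ : pullback gN gN ⟶ (Y₀ : Scheme.{u}) := pullback.snd gN gN ≫ dN
      let πP : pullback gN gN ⟶ T := pullback.fst gN gN ≫ gN
      have hπopen : IsOpenMap πP := πP.isOpenMap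
      have hEqclosed : IsClosed (Set.range (equalizer.ι a₁ a₂)) :=
        (equalizer.ι a₁ a₂).isClosedEmbedding.isClosed_range
      have hsub : πP ⁻¹' W ⊆ Set.range (equalizer.ι a₁ a₂) := by
        intro z hz
        obtain ⟨U, k, htU, hk⟩ := hB (πP z) hz
        let Z : (pullback gN gN).Opens := πP ⁻¹ᵁ U
        have hzZ : z ∈ Z := htU
        have hrU : Set.range (Z.ι ≫ πP) ⊆ Set.range U.ι := by
          rintro _ ⟨w, rfl⟩
          rw [Scheme.Opens.range_ι]
          exact w.2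
        let b : (Z : Scheme.{u}) ⟶ (U : Scheme.{u}) := IsOpenImmersion.lift U.ι (Z.ι ≫ πP) hrU
        have hb : b ≫ U.ι = Z.ι ≫ πP := IsOpenImmersion.lift_fac _ _ _
        have hcondP : pullback.fst gN gN ≫ N.ι ≫ g = pullback.snd gN gN ≫ N.ι ≫ g :=
          pullback.condition
        have h1 := hk _ (Z.ι ≫ pullback.fst gN gN ≫ N.ι) b (by
          rw [hb]
          simp only [Category.assoc, πP, gN])
        have h2 := hk _ (Z.ι ≫ pullback.snd gN gN ≫ N.ι) b (by
          rw [hb]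
          simp only [Category.assoc, πP, gN]
          rw [hcondP])
        have h3 : Z.ι ≫ a₁ = Z.ι ≫ a₂ := by
          rw [← cancel_mono Y₀.ι]
          simp only [a₁, a₂, Category.assoc, hdN]
          have h12 := h1.trans h2.symm
          simpa only [Category.assoc] using h12
        have h4 : equalizer.lift Z.ι h3 ≫ equalizer.ι a₁ a₂ = Z.ι := equalizer.lift_ι _ _
        refine ⟨equalizer.lift Z.ι h3 ⟨z, hzZ⟩, ?_⟩
        rw [← Scheme.Hom.comp_apply, h4]
        rfl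
      obtain ⟨z, hz1, hz2⟩ := Scheme.Pullback.exists_preimage_pullback (f := gN) (g := gN)
        (⟨x, hxY₀⟩ : N) ⟨x', hx'N⟩ (by
          show g x = g x'
          rw [hx, hx'])
      have hzcl : z ∈ closure (πP ⁻¹' W) := by
        apply hπopen.preimage_closure_subset_closure_preimage
        show πP z ∈ closure W
        have h0 : πP z = t₁ := by
          show (pullback.fst gN gN ≫ gN) z = t₁
          rw [Scheme.Hom.comp_apply, hz1]
          exact hx
        rw [h0]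
        exact ht₁
      have hzEq : z ∈ Set.range (equalizer.ι a₁ a₂) := (closure_minimal hsub hEqclosed) hzcl
      obtain ⟨e, rfl⟩ := hzEq
      have hcond : equalizer.ι a₁ a₂ ≫ a₁ = equalizer.ι a₁ a₂ ≫ a₂ := equalizer.condition _ _
      have h5 : a₁ (equalizer.ι a₁ a₂ e) = a₂ (equalizer.ι a₁ a₂ e) := by
        rw [← Scheme.Hom.comp_apply, hcond, Scheme.Hom.comp_apply]
      have h6 : Y₀.ι (a₁ (equalizer.ι a₁ a₂ e)) = f x := by
        show Y₀.ι ((pullback.fst gN gN ≫ dN) _) = f x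
        rw [Scheme.Hom.comp_apply, hz1, ← Scheme.Hom.comp_apply, hdN]
        rfl
      have h7 : Y₀.ι (a₂ (equalizer.ι a₁ a₂ e)) = f x' := by
        show Y₀.ι ((pullback.snd gN gN ≫ dN) _) = f x'
        rw [Scheme.Hom.comp_apply, hz2, ← Scheme.Hom.comp_apply, hdN]
        rfl
      rw [← h6, ← h7, h5]
    -- connectedness of the fibre
    choose N hxN hN using hlc
    rintro _ ⟨x₀, hx₀, rfl⟩ _ ⟨x₂, hx₂, rfl⟩
    by_contra hne
    let u : Set X := ⋃ (x : X) (hx : g x = t₁) (_ : f x = f x₀), (N x hx : Set X)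
    let v : Set X := ⋃ (x : X) (hx : g x = t₁) (_ : f x ≠ f x₀), (N x hx : Set X)
    have hu : IsOpen u := isOpen_iUnion fun x => isOpen_iUnion fun hx => isOpen_iUnion fun _ =>
      (N x hx).isOpen
    have hv : IsOpen v := isOpen_iUnion fun x => isOpen_iUnion fun hx => isOpen_iUnion fun _ =>
      (N x hx).isOpen
    have hcov : g ⁻¹' {t₁} ⊆ u ∪ v := by
      intro x hx
      by_cases hfx : f x = f x₀
      · left
        exact Set.mem_iUnion.mpr ⟨x, Set.mem_iUnion.mpr ⟨hx, Set.mem_iUnion.mpr ⟨hfx, hxN x hx⟩⟩⟩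
      · right
        exact Set.mem_iUnion.mpr ⟨x, Set.mem_iUnion.mpr ⟨hx, Set.mem_iUnion.mpr ⟨hfx, hxN x hx⟩⟩⟩
    have hnu : (g ⁻¹' {t₁} ∩ u).Nonempty := ⟨x₀, hx₀,
      Set.mem_iUnion.mpr ⟨x₀, Set.mem_iUnion.mpr ⟨hx₀, Set.mem_iUnion.mpr ⟨rfl, hxN x₀ hx₀⟩⟩⟩⟩
    have hnv : (g ⁻¹' {t₁} ∩ v).Nonempty := ⟨x₂, hx₂,
      Set.mem_iUnion.mpr ⟨x₂, Set.mem_iUnion.mpr ⟨hx₂, Set.mem_iUnion.mpr
        ⟨fun h => hne h.symm, hxN x₂ hx₂⟩⟩⟩⟩
    obtain ⟨z, hz, hzu, hzv⟩ := hconn t₁ u v hu hv hcov hnu hnv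
    obtain ⟨x, hzu⟩ := Set.mem_iUnion.mp hzu
    obtain ⟨hx, hzu⟩ := Set.mem_iUnion.mp hzu
    obtain ⟨hfx, hzu⟩ := Set.mem_iUnion.mp hzu
    obtain ⟨x', hzv⟩ := Set.mem_iUnion.mp hzv
    obtain ⟨hx', hzv⟩ := Set.mem_iUnion.mp hzv
    obtain ⟨hfx', hzv⟩ := Set.mem_iUnion.mp hzv
    have e1 : f z = f x := hN x hx z hzu hz
    have e2 : f z = f x' := hN x' hx' z hzv hz
    exact hfx' (e2.symm.trans (e1.trans hfx))
  have hWuniv : W = Set.univ := IsClopen.eq_univ ⟨hWclosed, hWopen⟩ ⟨t, ht⟩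
  have : t' ∈ W := by
    rw [hWuniv]
    trivial
  exact this

end Groth.Agent.Helper8.RigidNS
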