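import Mathlib
import Groth.Prelude.Def_W4c1nerontoraddGraph

set_option autoImplicit false
universe u

namespace Groth.Agent.Helper8.BlowHarm

open LabGraph

variable {V E : Type u} [Fintype V] [Fintype E] [DecidableEq V] [DecidableEq E]
  (ends : E → V × V) (l : E → ℕ)

theorem pathVert_zero (e : E) : pathVert ends l e 0 = Sum.inl (ends e).1 := by
  unfold pathVert
  rw [dif_pos rfl]

theorem pathVert_top (e : E) (hl : 0 < l e) : pathVert ends l e (l e) = Sum.inl (ends e).2 := by
  unfold pathVert
  rw [dif_neg hl.ne', dif_neg (lt_irrefl _)]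

theorem pathVert_mid (e : E) (j : ℕ) (h0 : j ≠ 0) (h : j < l e) :
    pathVert ends l e j = Sum.inr ⟨e, ⟨j - 1, by omega⟩⟩ := by
  unfold pathVert
  rw [dif_neg h0, dif_pos h]

theorem pathVert_eq_inr_iff (e : E) (k : ℕ) (e₀ : E) (j₀ : Fin (l e₀ - 1)) :
    pathVert ends l e k = Sum.inr ⟨e₀, j₀⟩ ↔ e = e₀ ∧ k = j₀.val + 1 := by
  constructor
  · intro h
    by_cases h0 : k = 0
    · subst h0; rw [pathVert_zero] at h; exact absurd h (by simp)
    · by_cases hk : k < l e
      · rw [pathVert_mid ends l e k h0 hk] at h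
        have h1 := Sum.inr.inj h
        obtain ⟨rfl, h2⟩ := Sigma.mk.inj_iff.mp h1
        have h3 := eq_of_heq h2
        have h4 : k - 1 = j₀.val := congrArg Fin.val h3
        exact ⟨rfl, by omega⟩
      · unfold pathVert at h
        rw [dif_neg h0, dif_neg hk] at h
        exact absurd h (by simp)
  · rintro ⟨rfl, rfl⟩
    have hj := j₀.isLt
    rw [pathVert_mid ends l e (j₀.val + 1) (by omega) (by omega)]
    exact congrArg Sum.inr (congrArg (Sigma.mk e) (Fin.ext (Nat.add_sub_cancel _ _)))

theorem pathVert_eq_inl_iff (e : E) (hl : 0 < l e) (k : ℕ) (hk : k ≤ l e) (v : V) :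
    pathVert ends l e k = Sum.inl v ↔
      (k = 0 ∧ (ends e).1 = v) ∨ (k = l e ∧ (ends e).2 = v) := by
  by_cases h0 : k = 0
  · subst h0
    rw [pathVert_zero]
    constructor
    · intro h; exact Or.inl ⟨rfl, Sum.inl.inj h⟩
    · rintro (⟨_, h⟩ | ⟨h, _⟩)
      · rw [h]
      · omega
  · by_cases hk' : k < l e
    · rw [pathVert_mid ends l e k h0 hk']
      constructor
      · intro h; exact absurd h (by simp)
      · rintro (⟨h, _⟩ | ⟨h, _⟩) <;> omega
    · have hkl : k = l e := by omega
      subst hkl
      rw [pathVert_top ends l e hl]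
      constructor
      · intro h; exact Or.inr ⟨rfl, Sum.inl.inj h⟩
      · rintro (⟨h, _⟩ | ⟨_, h⟩)
        · omega
        · rw [h]

/-- values of `ψ` along the path replacing `e` -/
def aval (ψ : BlVert V E l → ℤ) (e : E) (j : ℕ) : ℤ := ψ (pathVert ends l e j)

theorem mdeg_blow (ψ : BlVert V E l → ℤ) (w : BlVert V E l) :
    mdeg (blEnds ends l) (fun _ => 1) ψ w =
      ∑ e : E, ∑ k ∈ Finset.range (l e),
        ((if pathVert ends l e k = w then aval ends l ψ e (k + 1) - aval ends l ψ e k else 0) +
          (if pathVert ends l e (k + 1) = w then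
            aval ends l ψ e k - aval ends l ψ e (k + 1) else 0)) := by
  unfold mdeg
  rw [Fintype.sum_sigma]
  refine Finset.sum_congr rfl (fun e _ => ?_)
  rw [← Fin.sum_univ_eq_sum_range (fun k =>
    ((if pathVert ends l e k = w then aval ends l ψ e (k + 1) - aval ends l ψ e k else 0) +
      (if pathVert ends l e (k + 1) = w then
        aval ends l ψ e k - aval ends l ψ e (k + 1) else 0))) (l e)]
  refine Finset.sum_congr rfl (fun k _ => ?_)
  simp only [blEnds, aval, Nat.cast_one, Int.ediv_one]


theorem main (hl : ∀ e, 0 < l e) (α : V → ℤ) (ψ : BlVert V E l → ℤ)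
    (hψ : ∀ w : BlVert V E l,
      mdeg (blEnds ends l) (fun _ => 1) ψ w = Sum.elim α (fun _ => (0 : ℤ)) w) :
    ∃ φ : V → ℤ, IsCartier ends l φ ∧ ∀ v : V, mdeg ends l φ v = α v := by
  classical
  -- Step 2: harmonicity at the new vertices
  have hinner : ∀ (e₀ : E) (j₀ : Fin (l e₀ - 1)),
      aval ends l ψ e₀ (j₀.val + 1 + 1) - aval ends l ψ e₀ (j₀.val + 1) =
        aval ends l ψ e₀ (j₀.val + 1) - aval ends l ψ e₀ j₀.val := by
    intro e₀ j₀
    have h := hψ (Sum.inr ⟨e₀, j₀⟩)
    rw [mdeg_blow] at h
    have hj := j₀.isLt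
    rw [Finset.sum_eq_single e₀] at h
    · rw [Finset.sum_add_distrib] at h
      rw [Finset.sum_eq_single (j₀.val + 1), Finset.sum_eq_single j₀.val] at h
      · rw [if_pos ((pathVert_eq_inr_iff ends l e₀ _ e₀ j₀).mpr ⟨rfl, rfl⟩),
          if_pos ((pathVert_eq_inr_iff ends l e₀ _ e₀ j₀).mpr ⟨rfl, rfl⟩)] at h
        have h' : (aval ends l ψ e₀ (j₀.val + 1 + 1) - aval ends l ψ e₀ (j₀.val + 1)) +
            (aval ends l ψ e₀ j₀.val - aval ends l ψ e₀ (j₀.val + 1)) = 0 := h
        linarith
      · intro k _ hk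
        rw [if_neg]
        intro hc
        exact hk (by have := ((pathVert_eq_inr_iff ends l e₀ _ e₀ j₀).mp hc).2; omega)
      · intro hk
        exact absurd (Finset.mem_range.mpr (by omega)) hk
      · intro k _ hk
        rw [if_neg]
        intro hc
        exact hk ((pathVert_eq_inr_iff ends l e₀ _ e₀ j₀).mp hc).2
      · intro hk
        exact absurd (Finset.mem_range.mpr (by omega)) hk
    · intro e _ hne
      refine Finset.sum_eq_zero (fun k _ => ?_)
      rw [if_neg (fun hc => hne ((pathVert_eq_inr_iff ends l e _ e₀ j₀).mp hc).1),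
        if_neg (fun hc => hne ((pathVert_eq_inr_iff ends l e _ e₀ j₀).mp hc).1), add_zero]
    · intro hne
      exact absurd (Finset.mem_univ _) hne
  -- Step 3: the old vertices
  have houter : ∀ v : V, α v = ∑ e : E,
      ((if (ends e).1 = v then aval ends l ψ e (0 + 1) - aval ends l ψ e 0 else 0) +
        (if (ends e).2 = v then
          aval ends l ψ e (l e - 1) - aval ends l ψ e (l e - 1 + 1) else 0)) := by
    intro v
    have h := hψ (Sum.inl v)
    rw [mdeg_blow] at h
    rw [show Sum.elim α (fun _ => (0 : ℤ)) (Sum.inl v) = α v from rfl] at h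
    rw [← h]
    refine Finset.sum_congr rfl (fun e _ => ?_)
    rw [Finset.sum_add_distrib]
    congr 1
    · by_cases hv : (ends e).1 = v
      · rw [if_pos hv, Finset.sum_eq_single 0]
        · rw [if_pos ((pathVert_eq_inl_iff ends l e (hl e) 0 (Nat.zero_le _) v).mpr
            (Or.inl ⟨rfl, hv⟩))]
        · intro k hk hk0
          rw [if_neg]
          intro hc
          have hkr := Finset.mem_range.mp hk
          rcases (pathVert_eq_inl_iff ends l e (hl e) k hkr.le v).mp hc with ⟨h0, _⟩ | ⟨h1, _⟩
          · exact hk0 h0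
          · omega
        · intro h0
          exact absurd (Finset.mem_range.mpr (hl e)) h0
      · rw [if_neg hv]
        refine Finset.sum_eq_zero (fun k hk => ?_)
        rw [if_neg]
        intro hc
        have hkr := Finset.mem_range.mp hk
        rcases (pathVert_eq_inl_iff ends l e (hl e) k hkr.le v).mp hc with ⟨_, h0⟩ | ⟨h1, _⟩
        · exact hv h0
        · omega
    · have hle := hl e
      by_cases hv : (ends e).2 = v
      · rw [if_pos hv, Finset.sum_eq_single (l e - 1)]
        · rw [if_pos ((pathVert_eq_inl_iff ends l e (hl e) (l e - 1 + 1) (by omega) v).mpr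
            (Or.inr ⟨by omega, hv⟩))]
        · intro k hk hk0
          rw [if_neg]
          intro hc
          have hkr := Finset.mem_range.mp hk
          rcases (pathVert_eq_inl_iff ends l e (hl e) (k + 1) (by omega) v).mp hc with
            ⟨h0, _⟩ | ⟨h1, _⟩
          · omega
          · exact hk0 (by omega)
        · intro h0
          exact absurd (Finset.mem_range.mpr (by omega)) h0
      · rw [if_neg hv]
        refine Finset.sum_eq_zero (fun k hk => ?_)
        rw [if_neg]
        intro hc
        have hkr := Finset.mem_range.mp hk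
        rcases (pathVert_eq_inl_iff ends l e (hl e) (k + 1) (by omega) v).mp hc with
          ⟨h0, _⟩ | ⟨_, h1⟩
        · omega
        · exact hv h1
  -- Step 4: constant differences along each path
  have hconst : ∀ (e : E) (k : ℕ), k < l e →
      aval ends l ψ e (k + 1) - aval ends l ψ e k =
        aval ends l ψ e (0 + 1) - aval ends l ψ e 0 := by
    intro e k
    induction k with
    | zero => intro _; rfl
    | succ k ih =>
      intro hk
      have h1 := hinner e ⟨k, by omega⟩
      rw [← ih (by omega)]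
      exact h1
  -- Step 5: telescoping
  have htel : ∀ e : E, ψ (Sum.inl (ends e).2) - ψ (Sum.inl (ends e).1) =
      (l e : ℤ) * (aval ends l ψ e (0 + 1) - aval ends l ψ e 0) := by
    intro e
    have h1 : ∑ k ∈ Finset.range (l e), (aval ends l ψ e (k + 1) - aval ends l ψ e k) =
        aval ends l ψ e (l e) - aval ends l ψ e 0 := Finset.sum_range_sub (aval ends l ψ e) (l e)
    have h2 : ∑ k ∈ Finset.range (l e), (aval ends l ψ e (k + 1) - aval ends l ψ e k) =
        ∑ k ∈ Finset.range (l e), (aval ends l ψ e (0 + 1) - aval ends l ψ e 0) :=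
      Finset.sum_congr rfl (fun k hk => hconst e k (Finset.mem_range.mp hk))
    rw [Finset.sum_const, Finset.card_range, nsmul_eq_mul] at h2
    have h3 : aval ends l ψ e (l e) = ψ (Sum.inl (ends e).2) :=
      congrArg ψ (pathVert_top ends l e (hl e))
    have h4 : aval ends l ψ e 0 = ψ (Sum.inl (ends e).1) :=
      congrArg ψ (pathVert_zero ends l e)
    rw [← h3, ← h4, ← h1, h2]
  -- Step 6
  refine ⟨fun v => ψ (Sum.inl v), ?_, ?_⟩
  · intro e
    refine ⟨-(aval ends l ψ e (0 + 1) - aval ends l ψ e 0), ?_⟩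
    have h1 := htel e
    show ψ (Sum.inl (ends e).1) - ψ (Sum.inl (ends e).2) =
      (l e : ℤ) * -(aval ends l ψ e (0 + 1) - aval ends l ψ e 0)
    linarith
  · intro v
    rw [houter v]
    unfold mdeg
    refine Finset.sum_congr rfl (fun e _ => ?_)
    have hle : (l e : ℤ) ≠ 0 := by
      have h0 := hl e
      exact_mod_cast h0.ne'
    have h1 : (ψ (Sum.inl (ends e).2) - ψ (Sum.inl (ends e).1)) / (l e : ℤ) =
        aval ends l ψ e (0 + 1) - aval ends l ψ e 0 := by
      rw [htel e, Int.mul_ediv_cancel_left _ hle]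
    have h2 : (ψ (Sum.inl (ends e).1) - ψ (Sum.inl (ends e).2)) / (l e : ℤ) =
        aval ends l ψ e (l e - 1) - aval ends l ψ e (l e - 1 + 1) := by
      have h3 : ψ (Sum.inl (ends e).1) - ψ (Sum.inl (ends e).2) =
          (l e : ℤ) * -(aval ends l ψ e (0 + 1) - aval ends l ψ e 0) := by
        have h5 := htel e
        linarith
      rw [h3, Int.mul_ediv_cancel_left _ hle]
      have h4 := hconst e (l e - 1) (by have h0 := hl e; omega)
      linarith
    show (if (ends e).1 = v then
        (ψ (Sum.inl (ends e).2) - ψ (Sum.inl (ends e).1)) / (l e : ℤ) else 0) +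
      (if (ends e).2 = v then
        (ψ (Sum.inl (ends e).1) - ψ (Sum.inl (ends e).2)) / (l e : ℤ) else 0) = _
    rw [h1, h2]

end Groth.Agent.Helper8.BlowHarm
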