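import Groth.Prelude.Def_W4stkchowintpicEnv
import Mathlib

set_option autoImplicit false
open CategoryTheory CategoryTheory.Limits AlgebraicGeometry
universe u

namespace Groth.Agent.Helper8.CDec

open IsLocalRing in
/-- for a morphism `t : Spec K ⟶ W`, `K` a field, and `h : W ⟶ X'`, if `t ≫ h` is the canonical
morphism of a point `x'` with `K = κ(x')`, then `κ(h z) → κ(z)` is surjective at `z = t(pt)`. -/
lemma key {W X' : Scheme.{u}} (h : W ⟶ X') (x' : X')
    (t : Spec (X'.residueField x') ⟶ W)
    (ht : t ≫ h = X'.fromSpecResidueField x') :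
    h (t (closedPoint (X'.residueField x'))) = x' ∧
    Function.Surjective (h.residueFieldMap (t (closedPoint (X'.residueField x')))).hom := by
  constructor
  · have := congrArg (fun φ : Spec (X'.residueField x') ⟶ X' =>
      φ (closedPoint (X'.residueField x'))) ht
    simpa using this
  · -- `desc (t ≫ h)` is bijective
    have hP : ∀ (a : Spec (X'.residueField x') ⟶ X'),
        a = (Scheme.SpecToEquivOfField (X'.residueField x') X').invFun ⟨x', 𝟙 _⟩ →
        Function.Bijective (Scheme.descResidueField (K := X'.residueField x')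
          (Scheme.stalkClosedPointTo a)).hom := by
      intro a ha
      subst ha
      have h1 := (Scheme.SpecToEquivOfField (X'.residueField x') X').right_inv ⟨x', 𝟙 _⟩
      rw [Scheme.SpecToEquivOfField_eq_iff] at h1
      obtain ⟨e, he⟩ := h1
      have he' : Scheme.descResidueField (K := X'.residueField x') (Scheme.stalkClosedPointTo
          ((Scheme.SpecToEquivOfField (X'.residueField x') X').invFun ⟨x', 𝟙 _⟩)) =
          (Scheme.residueFieldCongr e).hom ≫ 𝟙 _ := he
      rw [he', Category.comp_id]
      exact ConcreteCategory.bijective_of_isIso _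
    have hts : t ≫ h = (Scheme.SpecToEquivOfField (X'.residueField x') X').invFun ⟨x', 𝟙 _⟩ := by
      rw [ht]
      change _ = Spec.map (𝟙 _) ≫ X'.fromSpecResidueField x'
      rw [Spec.map_id, Category.id_comp]
    have h3 := hP (t ≫ h) hts
    have h4 : Scheme.descResidueField (K := X'.residueField x') (Scheme.stalkClosedPointTo (t ≫ h)) =
        h.residueFieldMap (t (closedPoint (X'.residueField x'))) ≫
          Scheme.descResidueField (K := X'.residueField x') (Scheme.stalkClosedPointTo t) :=
      Scheme.descResidueField_stalkClosedPointTo_comp (K := X'.residueField x') h t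
    rw [h4] at h3
    have hδ : Function.Injective (Scheme.descResidueField (K := X'.residueField x')
        (Scheme.stalkClosedPointTo t)).hom := RingHom.injective _
    intro b
    obtain ⟨c, hc⟩ := h3.2 ((Scheme.descResidueField (K := X'.residueField x')
        (Scheme.stalkClosedPointTo t)).hom b)
    exact ⟨c, hδ hc⟩

open IsLocalRing in
theorem main (X X' Y : Scheme.{u}) (f : Y ⟶ X) (g : X' ⟶ X)
    (hcd : Cyc.IsCompletelyDecomposed f) : Cyc.IsCompletelyDecomposed (pullback.snd f g) := by
  intro x'
  obtain ⟨y, hy, hsurj⟩ := hcd (g x')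
  have hbij : Function.Bijective (f.residueFieldMap y).hom := ⟨RingHom.injective _, hsurj⟩
  haveI : IsIso (f.residueFieldMap y) := (ConcreteCategory.isIso_iff_bijective _).2 hbij
  let ψ : Y.residueField y ⟶ X'.residueField x' :=
    inv (f.residueFieldMap y) ≫ (X.residueFieldCongr hy).hom ≫ g.residueFieldMap x'
  have hψ : f.residueFieldMap y ≫ ψ = (X.residueFieldCongr hy).hom ≫ g.residueFieldMap x' := by
    simp [ψ]
  have hcomm : (Spec.map ψ ≫ Y.fromSpecResidueField y) ≫ f = X'.fromSpecResidueField x' ≫ g := by
    rw [Category.assoc, ← Scheme.Hom.SpecMap_residueFieldMap_fromSpecResidueField,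
      ← Category.assoc, ← Spec.map_comp, hψ, Spec.map_comp, Category.assoc,
      Scheme.residueFieldCongr_fromSpecResidueField,
      Scheme.Hom.SpecMap_residueFieldMap_fromSpecResidueField]
  obtain ⟨h1, h2⟩ := key (pullback.snd f g) x'
    (pullback.lift (Spec.map ψ ≫ Y.fromSpecResidueField y) (X'.fromSpecResidueField x') hcomm)
    (pullback.lift_snd _ _ _)
  exact ⟨_, h1, h2⟩

end Groth.Agent.Helper8.CDec
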