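import Mathlib

/-!
# CDecA: maximal ideals avoiding countably many nonzero elements (uncountable alg. closed field)

* `exists_common_nonroot`: over an uncountable field, countably many nonzero polynomials in
  finitely many variables have a common non-root.
* `exists_maximal_avoiding`: in a finitely generated domain over an uncountable algebraically
  closed field (any field, in fact), countably many nonzero elements are avoided by some maximal
  ideal.
-/

set_option autoImplicit false
universe u

namespace Groth.Agent.Helper8.CDec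

open MvPolynomial

open Classical in
theorem exists_common_nonroot (k : Type*) [Field k] [Uncountable k] :
    ∀ (s : ℕ) (p : ℕ → MvPolynomial (Fin s) k), (∀ n, p n ≠ 0) →
      ∃ x : Fin s → k, ∀ n, MvPolynomial.eval x (p n) ≠ 0 := by
  intro s
  induction s with
  | zero =>
    intro p hp
    refine ⟨Fin.elim0, fun n h => hp n ?_⟩
    rw [MvPolynomial.eq_C_of_isEmpty (p n)] at h ⊢
    rw [MvPolynomial.eval_C] at h
    rw [h, map_zero]
  | succ s ih =>
    intro p hp
    let q : ℕ → Polynomial (MvPolynomial (Fin s) k) := fun n => finSuccEquiv k s (p n)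
    have hq : ∀ n, q n ≠ 0 := fun n h =>
      hp n ((finSuccEquiv k s).injective (by rw [map_zero]; exact h))
    obtain ⟨y, hy⟩ := ih (fun n => (q n).leadingCoeff)
      (fun n => Polynomial.leadingCoeff_ne_zero.mpr (hq n))
    let r : ℕ → Polynomial k := fun n => (q n).map (eval y)
    have hr : ∀ n, r n ≠ 0 := by
      intro n h
      apply hy n
      have := congrArg (fun f => f.coeff (q n).natDegree) h
      simpa [r, Polynomial.coeff_map] using this
    have hcount : (⋃ n, ((r n).roots.toFinset : Set k)).Countable :=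
      Set.countable_iUnion fun n => Finset.countable_toSet _
    obtain ⟨t, ht⟩ : ∃ t, t ∉ ⋃ n, ((r n).roots.toFinset : Set k) := by
      by_contra! h
      have : (Set.univ : Set k).Countable := hcount.mono (fun t _ => h t)
      exact not_countable (Set.countable_univ_iff.mp this)
    refine ⟨Fin.cons t y, fun n h => ht ?_⟩
    rw [MvPolynomial.eval_eq_eval_mv_eval'] at h
    simp only [Set.mem_iUnion]
    refine ⟨n, ?_⟩
    simp only [Finset.mem_coe, Multiset.mem_toFinset]
    exact (Polynomial.mem_roots (hr n)).mpr h

theorem exists_maximal_avoiding (k : Type u) [Field k] [Uncountable k]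
    (B : Type u) [CommRing B] [IsDomain B] [Algebra k B] [Algebra.FiniteType k B]
    (b : ℕ → B) (hb : ∀ n, b n ≠ 0) : ∃ M : Ideal B, M.IsMaximal ∧ ∀ n, b n ∉ M := by
  obtain ⟨s, g, hinj, hfin⟩ := exists_finite_inj_algHom_of_fg k B
  letI : Algebra (MvPolynomial (Fin s) k) B := g.toRingHom.toAlgebra
  haveI : Module.Finite (MvPolynomial (Fin s) k) B := hfin
  haveI : Algebra.IsIntegral (MvPolynomial (Fin s) k) B := inferInstance
  have hcomap : ∀ n, (Ideal.span {b n}).comap (algebraMap (MvPolynomial (Fin s) k) B) ≠ ⊥ :=
    fun n => Ideal.comap_ne_bot_of_integral_mem (hb n) (Ideal.subset_span rfl)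
      (Algebra.IsIntegral.isIntegral _)
  have hc : ∀ n, ∃ c : MvPolynomial (Fin s) k, c ≠ 0 ∧
      algebraMap (MvPolynomial (Fin s) k) B c ∈ Ideal.span {b n} := by
    intro n
    obtain ⟨c, hc, hc0⟩ := Submodule.exists_mem_ne_zero_of_ne_bot (hcomap n)
    exact ⟨c, hc0, hc⟩
  choose c hc0 hcmem using hc
  obtain ⟨x, hx⟩ := exists_common_nonroot k s c hc0
  let P : Ideal (MvPolynomial (Fin s) k) := RingHom.ker (MvPolynomial.eval x)
  haveI : P.IsMaximal := RingHom.ker_isMaximal_of_surjective _ (fun a => ⟨C a, eval_C a⟩)
  obtain ⟨M, hM, hMP⟩ := Ideal.exists_ideal_over_maximal_of_isIntegral (S := B) P (by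
    have : RingHom.ker (algebraMap (MvPolynomial (Fin s) k) B) = ⊥ :=
      (RingHom.injective_iff_ker_eq_bot _).mp hinj
    rw [this]; exact bot_le)
  refine ⟨M, hM, fun n hn => hx n ?_⟩
  have h1 : algebraMap (MvPolynomial (Fin s) k) B (c n) ∈ M :=
    ((Ideal.span_singleton_le_iff_mem (I := M)).mpr hn) (hcmem n)
  have h2 : c n ∈ P := by rw [← hMP]; exact h1
  exact h2

end Groth.Agent.Helper8.CDec
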