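import Mathlib
import Groth.Agent.Helper8.CDecA

/-!
# CDecB: countable unions of closed subsets of a scheme of finite type over an uncountable
algebraically closed field, read through closed points
-/

set_option autoImplicit false
universe u

open CategoryTheory AlgebraicGeometry TopologicalSpace

namespace Groth.Agent.Helper8.CDec

section KeyLemma

variable {k : Type u} [Field k] [Uncountable k] {X : Scheme.{u}}
  (sX : X ⟶ Spec (CommRingCat.of k)) [LocallyOfFiniteType sX]

include sX in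
/-- If the closed points of an irreducible closed subset `T` are covered by countably many closed
subsets `W n`, then `T` is contained in one of them. -/
theorem exists_le_of_closedPoints_subset_seq (T : Closeds X) (hT : IsIrreducible (T : Set X))
    (W : ℕ → Closeds X)
    (h : ∀ x : X, IsClosed ({x} : Set X) → x ∈ T → ∃ n, x ∈ W n) : ∃ n, T ≤ W n := by
  by_contra! hne
  haveI : JacobsonSpace X := LocallyOfFiniteType.jacobsonSpace sX
  set η := hT.genericPoint with hη
  have hgen : closure {η} = (T : Set X) := (hT.isGenericPoint_genericPoint T.isClosed).def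
  have hηW : ∀ n, η ∉ W n := by
    intro n hmem
    apply hne n
    intro y hy
    have : y ∈ closure {η} := by rw [hgen]; exact hy
    exact (closure_minimal (Set.singleton_subset_iff.mpr hmem) (W n).isClosed) this
  obtain ⟨U, hU, hηU, -⟩ := exists_isAffineOpen_mem_and_subset (x := η) (U := ⊤) trivial
  letI : Algebra k Γ(X, U) :=
    ((sX.appLE ⊤ U le_top).hom.comp (Scheme.ΓSpecIso (CommRingCat.of k)).inv.hom).toAlgebra
  haveI : Algebra.FiniteType k Γ(X, U) := by
    have h1 := LocallyOfFiniteType.finiteType_appLE sX (isAffineOpen_top _) hU le_top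
    have hsurj : Function.Surjective (Scheme.ΓSpecIso (CommRingCat.of k)).inv.hom :=
      (ConcreteCategory.bijective_of_isIso (Scheme.ΓSpecIso (CommRingCat.of k)).inv).2
    have h2 : ((sX.appLE ⊤ U le_top).hom.comp
        (Scheme.ΓSpecIso (CommRingCat.of k)).inv.hom).FiniteType :=
      RingHom.FiniteType.comp h1 (RingHom.FiniteType.of_surjective _ hsurj)
    exact RingHom.finiteType_algebraMap.mp h2
  set p : PrimeSpectrum Γ(X, U) := hU.primeIdealOf ⟨η, hηU⟩ with hp
  have hpη : hU.fromSpec p = η := hU.fromSpec_primeIdealOf ⟨η, hηU⟩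
  -- functions separating `η` from the `W n`
  have ha : ∀ n, ∃ a : Γ(X, U), X.basicOpen a ≤ (W n).compl ∧ η ∈ X.basicOpen a := by
    intro n
    exact hU.exists_basicOpen_le (V := (W n).compl) ⟨η, hηW n⟩ hηU
  choose a haW haη using ha
  have hap : ∀ n, a n ∉ p.asIdeal := by
    intro n
    have h1 : p ∈ hU.fromSpec ⁻¹ᵁ X.basicOpen (a n) := by
      change hU.fromSpec p ∈ X.basicOpen (a n)
      rw [hpη]; exact haη n
    rw [hU.fromSpec_preimage_basicOpen] at h1
    exact h1
  -- the quotient domain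
  let B := Γ(X, U) ⧸ p.asIdeal
  have hb : ∀ n, (Ideal.Quotient.mk p.asIdeal (a n) : B) ≠ 0 := fun n h0 =>
    hap n (Ideal.Quotient.eq_zero_iff_mem.mp h0)
  obtain ⟨M, hM, hMb⟩ := exists_maximal_avoiding k B
    (fun n => Ideal.Quotient.mk p.asIdeal (a n)) hb
  let M' : Ideal Γ(X, U) := M.comap (Ideal.Quotient.mk p.asIdeal)
  haveI hM' : M'.IsMaximal := Ideal.comap_isMaximal_of_surjective _ Ideal.Quotient.mk_surjective
  let m : PrimeSpectrum Γ(X, U) := ⟨M', hM'.isPrime⟩
  have hpm : p ≤ m := by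
    intro z hz
    change Ideal.Quotient.mk p.asIdeal z ∈ M
    rw [Ideal.Quotient.eq_zero_iff_mem.mpr hz]
    exact M.zero_mem
  set x := hU.fromSpec m with hx
  have hxT : x ∈ T := by
    have h1 : p ⤳ m := (PrimeSpectrum.le_iff_specializes p m).mp hpm
    have h2 : η ⤳ x := by
      rw [← hpη]
      exact h1.map hU.fromSpec.continuous
    have h3 : x ∈ closure {η} := specializes_iff_mem_closure.mp h2
    rw [hgen] at h3
    exact h3
  have hxcl : IsClosed ({x} : Set X) := by
    have hmcl : IsClosed ({m} : Set (PrimeSpectrum Γ(X, U))) :=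
      (PrimeSpectrum.isClosed_singleton_iff_isMaximal m).mpr hM'
    have h1 : m ∈ hU.fromSpec ⁻¹' closedPoints X := by
      rw [hU.fromSpec.isOpenEmbedding.preimage_closedPoints]
      exact hmcl
    exact h1
  obtain ⟨n, hn⟩ := h x hxcl hxT
  have hxa : x ∈ X.basicOpen (a n) := by
    have h1 : m ∈ PrimeSpectrum.basicOpen (a n) := by
      intro hmem
      exact hMb n hmem
    have h2 : m ∈ hU.fromSpec ⁻¹ᵁ X.basicOpen (a n) := by
      rw [hU.fromSpec_preimage_basicOpen]; exact h1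
    exact h2
  exact (haW n hxa) hn

include sX in
/-- The same for a countable set of closed subsets. -/
theorem exists_le_of_closedPoints_subset (T : Closeds X) (hT : IsIrreducible (T : Set X))
    (𝒲 : Set (Closeds X)) (h𝒲 : 𝒲.Countable)
    (h : ∀ x : X, IsClosed ({x} : Set X) → x ∈ T → ∃ W ∈ 𝒲, x ∈ W) : ∃ W ∈ 𝒲, T ≤ W := by
  rcases 𝒲.eq_empty_or_nonempty with rfl | hne
  · exfalso
    obtain ⟨n, hn⟩ := exists_le_of_closedPoints_subset_seq sX T hT (fun _ => ⊥) (by
      intro x hx hxT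
      obtain ⟨W, hW, -⟩ := h x hx hxT
      exact absurd hW (Set.notMem_empty W))
    obtain ⟨y, hy⟩ := hT.nonempty
    exact (hn hy : y ∈ (⊥ : Closeds X))
  · obtain ⟨f, rfl⟩ := h𝒲.exists_eq_range hne
    obtain ⟨n, hn⟩ := exists_le_of_closedPoints_subset_seq sX T hT f (by
      intro x hx hxT
      obtain ⟨W, ⟨n, rfl⟩, hxW⟩ := h x hx hxT
      exact ⟨n, hxW⟩)
    exact ⟨f n, ⟨n, rfl⟩, hn⟩

end KeyLemma

section ACC

variable {X : Scheme.{u}} [IsLocallyNoetherian X]

/-- In a family of irreducible closed subsets of a locally Noetherian scheme, every member lies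
below a maximal member. -/
theorem exists_maximal_ge (C : Set (Closeds X)) (hC : ∀ T ∈ C, IsIrreducible (T : Set X))
    (T : Closeds X) (hT : T ∈ C) :
    ∃ T' ∈ C, T ≤ T' ∧ ∀ T'' ∈ C, T' ≤ T'' → T'' ≤ T' := by
  set η := (hC T hT).genericPoint with hη
  have hgen : ∀ T' (h' : T' ∈ C), closure {(hC T' h').genericPoint} = (T' : Set X) :=
    fun T' h' => ((hC T' h').isGenericPoint_genericPoint T'.isClosed).def
  have hηT : η ∈ T := by
    have : η ∈ closure {η} := subset_closure rfl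
    rw [hgen T hT] at this
    exact this
  -- every larger member has its generic point in the image of `Spec 𝒪_{X,η}`
  have hq : ∀ T' (h' : T' ∈ C), T ≤ T' →
      ∃ q : PrimeSpectrum (X.presheaf.stalk η), X.fromSpecStalk η q = (hC T' h').genericPoint := by
    intro T' h' hle
    have h1 : (hC T' h').genericPoint ⤳ η := by
      rw [specializes_iff_mem_closure, hgen T' h']
      exact hle hηT
    have h2 : (hC T' h').genericPoint ∈ Set.range (X.fromSpecStalk η) := by
      rw [Scheme.range_fromSpecStalk]; exact h1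
    exact h2
  let H : Set ℕ∞ := {n | ∃ T' : Closeds X, ∃ h' : T' ∈ C, T ≤ T' ∧
    ∃ q : PrimeSpectrum (X.presheaf.stalk η),
      X.fromSpecStalk η q = (hC T' h').genericPoint ∧ q.asIdeal.height = n}
  have hHne : H.Nonempty := by
    obtain ⟨q, hq'⟩ := hq T hT le_rfl
    exact ⟨_, T, hT, le_rfl, q, hq', rfl⟩
  obtain ⟨T', h', hle, q, hqT', hmin⟩ := wellFounded_lt.min_mem H hHne
  refine ⟨T', h', hle, fun T'' h'' hle' => ?_⟩
  obtain ⟨q'', hq''⟩ := hq T'' h'' (hle.trans hle')
  -- `η'' ⤳ η'`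
  have hηT' : (hC T' h').genericPoint ∈ T' := by
    have : (hC T' h').genericPoint ∈ closure {(hC T' h').genericPoint} := subset_closure rfl
    rw [hgen T' h'] at this
    exact this
  have h1 : (hC T'' h'').genericPoint ⤳ (hC T' h').genericPoint := by
    rw [specializes_iff_mem_closure, hgen T'' h'']
    exact hle' hηT'
  have h2 : q'' ⤳ q :=
    (X.fromSpecStalk η).isEmbedding.isInducing.specializes_iff.mp (by rw [hq'', hqT']; exact h1)
  have h3 : q'' ≤ q := (PrimeSpectrum.le_iff_specializes q'' q).mpr h2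
  rcases eq_or_lt_of_le h3 with heq | hlt
  · -- equal generic points
    have : (hC T'' h'').genericPoint = (hC T' h').genericPoint := by
      rw [← hq'', ← hqT', heq]
    have h4 : (T'' : Set X) = T' := by rw [← hgen T'' h'', ← hgen T' h', this]
    exact le_of_eq (SetLike.coe_injective h4)
  · exfalso
    have h5 : q''.asIdeal.height < q.asIdeal.height :=
      Ideal.height_strict_mono_of_isPrime_of_isPrime hlt
    have h6 : q''.asIdeal.height ∈ H :=
      ⟨T'', h'', hle.trans hle', q'', hq'', rfl⟩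
    have h7 : wellFounded_lt.min H hHne ≤ q''.asIdeal.height := wellFounded_lt.min_le h6
    rw [← hmin] at h7
    exact absurd h5 (not_lt.mpr h7)

end ACC

section Main

variable {k : Type u} [Field k] [Uncountable k] {X : Scheme.{u}}
  (sX : X ⟶ Spec (CommRingCat.of k)) [LocallyOfFiniteType sX] [QuasiCompact sX]

include sX in
theorem main (Z : ℕ → Closeds X) :
    ∃! S : Set (Closeds X), S.Countable ∧ (∀ T ∈ S, IsIrreducible (T : Set X)) ∧
      IsAntichain (· ≤ ·) S ∧
      {x : X | IsClosed ({x} : Set X) ∧ ∃ T ∈ S, x ∈ T} =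
        {x : X | IsClosed ({x} : Set X) ∧ ∃ n, x ∈ Z n} := by
  haveI : IsLocallyNoetherian X := LocallyOfFiniteType.isLocallyNoetherian sX
  haveI : CompactSpace X := QuasiCompact.compactSpace_of_compactSpace sX
  haveI : IsNoetherian X := {}
  -- decompose every `Z n`
  have hdec : ∀ n, ∃ S : Set (Closeds X), S.Finite ∧ (∀ t ∈ S, IsIrreducible (t : Set X)) ∧
      Z n = sSup S := fun n => NoetherianSpace.exists_finite_set_closeds_irreducible (Z n)
  choose Sn hSnfin hSnirr hSnsup using hdec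
  let C : Set (Closeds X) := ⋃ n, Sn n
  have hCcount : C.Countable := Set.countable_iUnion fun n => (hSnfin n).countable
  have hCirr : ∀ T ∈ C, IsIrreducible (T : Set X) := by
    intro T hT
    obtain ⟨n, hn⟩ := Set.mem_iUnion.mp hT
    exact hSnirr n T hn
  have hCle : ∀ T ∈ C, ∃ n, T ≤ Z n := by
    intro T hT
    obtain ⟨n, hn⟩ := Set.mem_iUnion.mp hT
    exact ⟨n, by rw [hSnsup n]; exact le_sSup hn⟩
  have hZC : ∀ n (x : X), x ∈ Z n → ∃ T ∈ C, x ∈ T := by
    intro n x hx
    have h1 : (Z n : Set X) = ⋃₀ ((↑) '' Sn n) := by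
      rw [hSnsup n, Closeds.coe_sSup]
      rw [Set.sUnion_image]
      exact IsClosed.closure_eq ((hSnfin n).isClosed_biUnion (fun t _ => t.isClosed))
    have h2 : x ∈ ⋃₀ (((↑) : Closeds X → Set X) '' Sn n) := by rw [← h1]; exact hx
    obtain ⟨_, ⟨t, ht, rfl⟩, hxt⟩ := h2
    exact ⟨t, Set.mem_iUnion.mpr ⟨n, ht⟩, hxt⟩
  let S : Set (Closeds X) := {T | T ∈ C ∧ ∀ T'' ∈ C, T ≤ T'' → T'' ≤ T}
  have hS : S.Countable ∧ (∀ T ∈ S, IsIrreducible (T : Set X)) ∧
      IsAntichain (· ≤ ·) S ∧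
      {x : X | IsClosed ({x} : Set X) ∧ ∃ T ∈ S, x ∈ T} =
        {x : X | IsClosed ({x} : Set X) ∧ ∃ n, x ∈ Z n} := by
    refine ⟨hCcount.mono (fun T hT => hT.1), fun T hT => hCirr T hT.1, ?_, ?_⟩
    · intro T₁ h₁ T₂ h₂ hne hle
      exact hne (le_antisymm hle (h₁.2 T₂ h₂.1 hle))
    · ext x
      constructor
      · rintro ⟨hx, T, hT, hxT⟩
        obtain ⟨n, hn⟩ := hCle T hT.1
        exact ⟨hx, n, hn hxT⟩
      · rintro ⟨hx, n, hxn⟩
        obtain ⟨T, hT, hxT⟩ := hZC n x hxn
        obtain ⟨T', hT', hle, hmax⟩ := exists_maximal_ge C hCirr T hT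
        exact ⟨hx, T', ⟨hT', hmax⟩, hle hxT⟩
  refine ⟨S, hS, ?_⟩
  -- uniqueness
  have key : ∀ S₁ S₂ : Set (Closeds X),
      (S₁.Countable ∧ (∀ T ∈ S₁, IsIrreducible (T : Set X)) ∧ IsAntichain (· ≤ ·) S₁ ∧
        {x : X | IsClosed ({x} : Set X) ∧ ∃ T ∈ S₁, x ∈ T} =
          {x : X | IsClosed ({x} : Set X) ∧ ∃ n, x ∈ Z n}) →
      (S₂.Countable ∧ (∀ T ∈ S₂, IsIrreducible (T : Set X)) ∧ IsAntichain (· ≤ ·) S₂ ∧
        {x : X | IsClosed ({x} : Set X) ∧ ∃ T ∈ S₂, x ∈ T} =
          {x : X | IsClosed ({x} : Set X) ∧ ∃ n, x ∈ Z n}) → S₁ ⊆ S₂ := by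
    intro S₁ S₂ h₁ h₂ T hT
    have hcov : ∀ (Sa Sb : Set (Closeds X)),
        {x : X | IsClosed ({x} : Set X) ∧ ∃ T ∈ Sa, x ∈ T} =
          {x : X | IsClosed ({x} : Set X) ∧ ∃ n, x ∈ Z n} →
        {x : X | IsClosed ({x} : Set X) ∧ ∃ T ∈ Sb, x ∈ T} =
          {x : X | IsClosed ({x} : Set X) ∧ ∃ n, x ∈ Z n} →
        ∀ T ∈ Sa, ∀ x : X, IsClosed ({x} : Set X) → x ∈ T → ∃ W ∈ Sb, x ∈ W := by
      intro Sa Sb ha hb T hT x hx hxT
      have h1 : x ∈ {x : X | IsClosed ({x} : Set X) ∧ ∃ T ∈ Sa, x ∈ T} := ⟨hx, T, hT, hxT⟩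
      rw [ha, ← hb] at h1
      exact h1.2
    obtain ⟨T', hT', hle⟩ := exists_le_of_closedPoints_subset sX T (h₁.2.1 T hT) S₂ h₂.1
      (hcov S₁ S₂ h₁.2.2.2 h₂.2.2.2 T hT)
    obtain ⟨T'', hT'', hle'⟩ := exists_le_of_closedPoints_subset sX T' (h₂.2.1 T' hT') S₁ h₁.1
      (hcov S₂ S₁ h₂.2.2.2 h₁.2.2.2 T' hT')
    have heq : T = T'' := by
      by_contra hne
      exact h₁.2.2.1 hT hT'' hne (hle.trans hle')
    have : T = T' := le_antisymm hle (heq ▸ hle')
    rw [this]; exact hT'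
  intro S' hS'
  exact Set.Subset.antisymm (key S' S hS' hS) (key S S' hS hS')

end Main

end Groth.Agent.Helper8.CDec
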