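import Mathlib.Algebra.Polynomial.Taylor
import Mathlib.Data.Nat.Choose.Lucas
import Mathlib.Algebra.CharP.Basic
import Mathlib.Tactic

/-! The coefficient identity behind the translation behaviour of the Cartier–Manin matrix. -/

set_option autoImplicit false

namespace Groth.Agent.Helper8

open Polynomial

theorem sum_range_mul' {M : Type*} [AddCommMonoid M] (m p : ℕ) (F : ℕ → M) :
    ∑ l ∈ Finset.range (m * p), F l =
      ∑ I ∈ Finset.range m, ∑ J ∈ Finset.range p, F (I * p + J) := by
  induction m with
  | zero => simp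
  | succ m ih =>
    rw [Nat.succ_mul, Finset.sum_range_add, ih, Finset.sum_range_succ]

/-- Coefficients of a translate. -/
theorem coeff_comp_X_add_C {k : Type*} [Field k] (H : k[X]) (α : k) (n D : ℕ)
    (hD : H.natDegree < D) :
    (H.comp (X + C α)).coeff n =
      ∑ l ∈ Finset.range D, ((l.choose n : ℕ) : k) * H.coeff l * α ^ (l - n) := by
  rw [← taylor_apply, taylor_coeff, hasseDeriv_apply,
    sum_over_range' H (f := fun i r => monomial (i - n) (((i.choose n : ℕ) : k) * r))
      (fun i => by simp) D hD, eval_finsetSum]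
  refine Finset.sum_congr rfl fun l _ => ?_
  rw [eval_monomial]

/-- Lucas' theorem, in a ring of characteristic `p`. -/
theorem choose_cast_lucas {k : Type*} [Field k] (p : ℕ) [Fact p.Prime] [CharP k p] (a b : ℕ) :
    ((a.choose b : ℕ) : k) = (((a % p).choose (b % p) : ℕ) : k) * (((a / p).choose (b / p) : ℕ) : k) := by
  have h := Choose.choose_modEq_choose_mod_mul_choose_div_nat (p := p) (n := a) (k := b)
  have h2 := (CharP.natCast_eq_natCast k p).mpr h
  rw [h2]
  push_cast
  ring

theorem cartierManin_entry {k : Type*} [Field k] (p : ℕ) [Fact p.Prime] (hp : p ≠ 2) [CharP k p]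
    (g : ℕ) (hg : g ≤ p) (f : k[X]) (hf : f.natDegree ≤ 2 * g + 2) (α : k)
    (i j : ℕ) (hi : i < g) (hj : j < g) :
    ((f.comp (X + C α)) ^ ((p - 1) / 2)).coeff ((i + 1) * p - (j + 1)) =
      ∑ J ∈ Finset.range g, (∑ I ∈ Finset.range g,
        (((I.choose i : ℕ) : k) * α ^ ((I - i) * p)) *
          (f ^ ((p - 1) / 2)).coeff ((I + 1) * p - (J + 1))) *
        ((((p - (J + 1)).choose (p - (j + 1)) : ℕ) : k) * α ^ (j - J)) := by
  have hpp : p.Prime := Fact.out
  have hp3 : 3 ≤ p := by
    have := hpp.two_le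
    omega
  have hodd : p % 2 = 1 := by
    rcases hpp.eq_two_or_odd with h | h
    · exact absurd h hp
    · exact h
  set e := (p - 1) / 2 with he
  have h2e : 2 * e = p - 1 := by omega
  set H := f ^ e with hH
  have hHdeg : H.natDegree ≤ (p - 1) * (g + 1) := by
    calc H.natDegree ≤ e * f.natDegree := natDegree_pow_le
      _ ≤ e * (2 * g + 2) := Nat.mul_le_mul_left _ hf
      _ = (p - 1) * (g + 1) := by rw [← h2e]; ring
  have hHcoeff : ∀ l, (p - 1) * (g + 1) < l → H.coeff l = 0 := fun l hl =>
    coeff_eq_zero_of_natDegree_lt (lt_of_le_of_lt hHdeg hl)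
  rw [← pow_comp]
  set n := (i + 1) * p - (j + 1) with hn
  have hn' : n = i * p + (p - 1 - j) := by
    rw [hn, Nat.succ_mul]; omega
  have hnmod : n % p = p - 1 - j := by
    rw [hn', Nat.mul_add_mod_of_lt (by omega)]
  have hndiv : n / p = i := by
    rw [hn', add_comm, Nat.add_mul_div_right _ _ hpp.pos, Nat.div_eq_of_lt (by omega), zero_add]
  have hD : H.natDegree < (g + 1) * p := by
    have h1 : (p - 1) * (g + 1) < (g + 1) * p := by
      have : (g + 1) * p = (p - 1) * (g + 1) + (g + 1) := by
        have hp1 : p = (p - 1) + 1 := by omega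
        conv_lhs => rw [hp1]
        ring
      omega
    omega
  rw [coeff_comp_X_add_C H α n _ hD, sum_range_mul']
  -- the term `T I J`
  set T : ℕ → ℕ → k := fun I J => (((I.choose i : ℕ) : k) * α ^ ((I - i) * p)) *
      H.coeff ((I + 1) * p - (J + 1)) *
      ((((p - (J + 1)).choose (p - (j + 1)) : ℕ) : k) * α ^ (j - J)) with hT
  have hterm : ∀ I J', J' < p →
      ((((I * p + J').choose n : ℕ) : k) * H.coeff (I * p + J') * α ^ (I * p + J' - n)) =
        T I (p - 1 - J') := by
    intro I J' hJ'
    have hlmod : (I * p + J') % p = J' := Nat.mul_add_mod_of_lt hJ'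
    have hldiv : (I * p + J') / p = I := by
      rw [add_comm, Nat.add_mul_div_right _ _ hpp.pos, Nat.div_eq_of_lt hJ', zero_add]
    rw [choose_cast_lucas p (I * p + J') n, hlmod, hldiv, hnmod, hndiv, hT]
    simp only
    have e1 : p - (p - 1 - J' + 1) = J' := by omega
    have e2 : p - (j + 1) = p - 1 - j := by omega
    have e3 : (I + 1) * p - (p - 1 - J' + 1) = I * p + J' := by
      rw [Nat.succ_mul]; omega
    rw [e1, e2, e3]
    by_cases hIi : I < i
    · rw [Nat.choose_eq_zero_of_lt hIi]; simp
    by_cases hJj : J' < p - 1 - j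
    · rw [Nat.choose_eq_zero_of_lt hJj]; simp
    push Not at hIi hJj
    have e4 : I * p + J' - n = (I - i) * p + (j - (p - 1 - J')) := by
      rw [hn', Nat.sub_mul]
      have : i * p ≤ I * p := Nat.mul_le_mul_right _ hIi
      omega
    rw [e4, pow_add]
    ring
  have hstep1 : ∀ I, ∑ J' ∈ Finset.range p,
      ((((I * p + J').choose n : ℕ) : k) * H.coeff (I * p + J') * α ^ (I * p + J' - n)) =
      ∑ J ∈ Finset.range g, T I J := by
    intro I
    rw [Finset.sum_congr rfl (fun J' hJ' => hterm I J' (Finset.mem_range.mp hJ')),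
      Finset.sum_range_reflect (fun J => T I J) p]
    symm
    refine Finset.sum_subset (fun x hx => ?_) (fun J hJp hJg => ?_)
    · rw [Finset.mem_range] at hx ⊢; omega
    · rw [Finset.mem_range] at hJp hJg
      rw [hT]
      simp only
      have hlt : p - (J + 1) < p - (j + 1) := by omega
      rw [Nat.choose_eq_zero_of_lt hlt]
      simp
  rw [Finset.sum_congr rfl (fun I _ => hstep1 I), Finset.sum_range_succ]
  have hlast : ∑ J ∈ Finset.range g, T g J = 0 := by
    refine Finset.sum_eq_zero fun J hJ => ?_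
    rw [Finset.mem_range] at hJ
    rw [hT]
    simp only
    rw [hHcoeff]
    · simp
    · have : (g + 1) * p = (p - 1) * (g + 1) + (g + 1) := by
        have hp1 : p = (p - 1) + 1 := by omega
        conv_lhs => rw [hp1]
        ring
      omega
  rw [hlast, add_zero, Finset.sum_comm]
  refine Finset.sum_congr rfl fun J _ => ?_
  rw [Finset.sum_mul]

end Groth.Agent.Helper8
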