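import Mathlib

set_option autoImplicit false

namespace Groth.Agent.Helper8.Cell1

open Polynomial

/-- A domain in which the nonzero element `x` generates a radical ideal and whose localization at
`x` is integrally closed is integrally closed. -/
theorem isIntegrallyClosed_of_radical {R : Type*} [CommRing R] [IsDomain R] (x : R) (hx : x ≠ 0)
    (hrad : (Ideal.span {x}).IsRadical) (h : IsIntegrallyClosed (Localization.Away x)) :
    IsIntegrallyClosed R := by
  classical
  have hunit : IsUnit (algebraMap R (FractionRing R) x) := by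
    apply IsUnit.mk0
    intro h0
    exact hx ((map_eq_zero_iff _ (IsFractionRing.injective R (FractionRing R))).mp h0)
  obtain ⟨g, hg⟩ : ∃ g : Localization.Away x →+* FractionRing R,
      ∀ r, g (algebraMap R _ r) = algebraMap R (FractionRing R) r :=
    ⟨IsLocalization.Away.lift x hunit, fun r => IsLocalization.Away.lift_eq x hunit r⟩
  letI : Algebra (Localization.Away x) (FractionRing R) := g.toAlgebra
  haveI : IsScalarTower R (Localization.Away x) (FractionRing R) :=
    IsScalarTower.of_algebraMap_eq (fun r => (hg r).symm)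
  haveI : IsFractionRing (Localization.Away x) (FractionRing R) :=
    IsFractionRing.isFractionRing_of_isLocalization (Submonoid.powers x) _ _
      (powers_le_nonZeroDivisors_of_noZeroDivisors hx)
  have hA : ∀ y : FractionRing R, IsIntegral (Localization.Away x) y →
      ∃ a : Localization.Away x, algebraMap (Localization.Away x) (FractionRing R) a = y :=
    fun y hy => (isIntegrallyClosed_iff (R := Localization.Away x) (FractionRing R)).mp h hy
  rw [isIntegrallyClosed_iff (FractionRing R)]
  intro y hy
  obtain ⟨X, hX⟩ : ∃ X : FractionRing R, X = algebraMap R (FractionRing R) x := ⟨_, rfl⟩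
  have hX0 : X ≠ 0 := by
    rw [hX]
    exact hunit.ne_zero
  have hex : ∃ k : ℕ, ∃ r : R, y * X ^ k = algebraMap R (FractionRing R) r := by
    obtain ⟨a, ha⟩ := hA y (IsIntegral.tower_top hy)
    obtain ⟨r, ⟨_, k, rfl⟩, hrk⟩ := IsLocalization.exists_mk'_eq (Submonoid.powers x) a
    refine ⟨k, r, ?_⟩
    have h1 : a * algebraMap R (Localization.Away x) (x ^ k) =
        algebraMap R (Localization.Away x) r := by
      rw [← hrk]
      exact IsLocalization.mk'_spec (Localization.Away x) r
        (⟨x ^ k, k, rfl⟩ : Submonoid.powers x)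
    have h2 := congrArg (algebraMap (Localization.Away x) (FractionRing R)) h1
    rw [map_mul, ha, ← IsScalarTower.algebraMap_apply, ← IsScalarTower.algebraMap_apply,
      map_pow, ← hX] at h2
    exact h2
  have hmin : ∀ m : ℕ, m < Nat.find hex →
      ¬ ∃ r : R, y * X ^ m = algebraMap R (FractionRing R) r := fun m hm => Nat.find_min hex hm
  obtain ⟨r, hr⟩ := Nat.find_spec hex
  obtain ⟨k₀, hk₀⟩ : ∃ k₀, k₀ = Nat.find hex := ⟨_, rfl⟩
  rw [← hk₀] at hr hmin
  cases k₀ with
  | zero =>
    rw [pow_zero, mul_one] at hr
    exact ⟨r, hr.symm⟩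
  | succ k =>
    exfalso
    apply hmin k (Nat.lt_succ_self k)
    obtain ⟨p, hpm, hp0⟩ := hy
    obtain ⟨s, hs⟩ : ∃ s : R, s = x ^ (k + 1) := ⟨_, rfl⟩
    have hroot0 := scaleRoots_eval₂_eq_zero (algebraMap R (FractionRing R)) (s := s) hp0
    have hfs : algebraMap R (FractionRing R) s * y = algebraMap R (FractionRing R) r := by
      rw [hs, map_pow, ← hX, mul_comm]
      exact hr
    rw [hfs, eval₂_at_apply] at hroot0
    have hroot : (scaleRoots p s).IsRoot r :=
      (map_eq_zero_iff _ (IsFractionRing.injective R (FractionRing R))).mp hroot0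
    have hsmem : s ∈ Ideal.span {x} := by
      rw [hs]
      exact Ideal.pow_mem_of_mem _ (Ideal.mem_span_singleton_self x) _ (Nat.succ_pos k)
    have hpow := (scaleRoots.isWeaklyEisensteinAt p hsmem).pow_natDegree_le_of_root_of_monic_mem
      hroot ((monic_scaleRoots_iff s).mpr hpm) _ le_rfl
    have hrmem : r ∈ Ideal.span {x} := hrad ⟨_, hpow⟩
    obtain ⟨r', hr'⟩ := Ideal.mem_span_singleton'.mp hrmem
    refine ⟨r', ?_⟩
    have h3 : (y * X ^ k) * X = algebraMap R (FractionRing R) r' * X := by
      rw [mul_assoc, ← pow_succ, hr, ← hr', map_mul, hX]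
    exact mul_right_cancel₀ hX0 h3

end Groth.Agent.Helper8.Cell1
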