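import Mathlib
import Groth.Prelude.Def_W4bk4grassmannianPl
import Groth.Agent.Helper8.SMT4

set_option autoImplicit false

namespace Groth.Agent.Helper8.SMT5

open W4bk4grassmannian MvPolynomial Groth.Agent.Helper8.SMT3 Groth.Agent.Helper8.SMT4

universe u

theorem det_eq_zero_of_block' {R : Type*} [CommRing R] {d : ℕ} (M : Matrix (Fin d) (Fin d) R)
    (t₀ : Fin d) (h : ∀ s t : Fin d, s ≤ t₀ → t₀ ≤ t → M s t = 0) : M.det = 0 := by
  rw [← Matrix.det_transpose]
  exact det_eq_zero_of_block _ t₀ (fun s t hs ht => h t s ht hs)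

section stair

variable {d n : ℕ}

/-- `θ` dominates the lower bound `κ`. -/
def GeLow (κ : Fin d → ℕ) (θ : Idx d n) : Prop := ∀ t, κ t ≤ (θ.1 t).val

/-- The two-sided staircase matrix. -/
def stairG2 {R : Type*} [Zero R] (e : Fin n × Fin d → R) (κ : Fin d → ℕ) (τ : Idx d n) :
    Matrix (Fin n) (Fin d) R :=
  fun i t => if κ t ≤ i.val ∧ i ≤ τ.1 t then e (i, t) else 0

lemma stairG2_minor_zero {R : Type*} [CommRing R] (e : Fin n × Fin d → R) (κ : Fin d → ℕ)
    (hκ : Monotone κ) (τ θ : Idx d n) (h : ¬ (GeLow κ θ ∧ θ ≤ τ)) :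
    ((stairG2 e κ τ).submatrix θ.1 id).det = 0 := by
  by_cases h1 : θ ≤ τ
  · have h2 : ¬ GeLow κ θ := fun h2 => h ⟨h2, h1⟩
    unfold GeLow at h2
    push Not at h2
    obtain ⟨t₀, ht₀⟩ := h2
    refine det_eq_zero_of_block' _ t₀ (fun s t hs ht => ?_)
    show stairG2 e κ τ (θ.1 s) t = 0
    unfold stairG2
    rw [if_neg]
    rintro ⟨h3, -⟩
    have h4 : (θ.1 s).val ≤ (θ.1 t₀).val := Fin.le_def.mp (θ.2.monotone hs)
    have h5 : κ t₀ ≤ κ t := hκ ht
    omega
  · have h' : ¬ ∀ t, θ.1 t ≤ τ.1 t := fun hh => h1 hh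
    push Not at h'
    obtain ⟨t₀, ht₀⟩ := h'
    refine det_eq_zero_of_block _ t₀ (fun s t hs ht => ?_)
    show stairG2 e κ τ (θ.1 s) t = 0
    unfold stairG2
    rw [if_neg]
    rintro ⟨-, h3⟩
    have h4 : τ.1 t < θ.1 s :=
      calc τ.1 t ≤ τ.1 t₀ := τ.2.monotone ht
        _ < θ.1 t₀ := ht₀
        _ ≤ θ.1 s := θ.2.monotone hs
    exact absurd h3 (not_le.mpr h4)

variable (K : Type u) [Field K]

/-- The Plücker map restricted to the two-sided staircase matrices. -/
noncomputable def psi2 (κ : Fin d → ℕ) (τ : Idx d n) : PlRing K d n →ₐ[K] MatRing K d n :=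
  MvPolynomial.aeval fun θ : Idx d n =>
    ((stairG2 (fun p : Fin n × Fin d => (X p : MatRing K d n)) κ τ).submatrix θ.1 id).det

lemma psi2_X (κ : Fin d → ℕ) (τ θ : Idx d n) : psi2 K κ τ (X θ) =
    ((stairG2 (fun p : Fin n × Fin d => (X p : MatRing K d n)) κ τ).submatrix θ.1 id).det := by
  unfold psi2
  rw [aeval_X]

lemma psi2_X_zero (κ : Fin d → ℕ) (hκ : Monotone κ) (τ θ : Idx d n)
    (h : ¬ (GeLow κ θ ∧ θ ≤ τ)) : psi2 K κ τ (X θ) = 0 := by
  rw [psi2_X]
  exact stairG2_minor_zero _ κ hκ τ θ h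

lemma map_stair2_minor {S : Type*} [CommRing S] [Algebra K S] (g : MatRing K d n →ₐ[K] S)
    (κ : Fin d → ℕ) (τ θ : Idx d n) :
    g ((stairG2 (fun p : Fin n × Fin d => (X p : MatRing K d n)) κ τ).submatrix θ.1 id).det =
      ((stairG2 (fun p : Fin n × Fin d => g (X p)) κ τ).submatrix θ.1 id).det := by
  rw [AlgHom.map_det]
  congr 1
  refine Matrix.ext fun s t => ?_
  rw [AlgHom.mapMatrix_apply, Matrix.map_apply, Matrix.submatrix_apply, Matrix.submatrix_apply]
  unfold stairG2
  split_ifs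
  · rfl
  · exact map_zero g

/-- Setting to zero the variables above the lower staircase `κ`. -/
noncomputable def zetaLow (κ : Fin d → ℕ) : MatRing K d n →ₐ[K] MatRing K d n :=
  MvPolynomial.aeval fun p : Fin n × Fin d =>
    if κ p.2 ≤ p.1.val then (X p : MatRing K d n) else 0

lemma zetaLow_comp_psi (κ : Fin d → ℕ) (τ : Idx d n) :
    (zetaLow K κ).comp (psi K τ) = psi2 K κ τ := by
  apply MvPolynomial.algHom_ext
  intro θ
  rw [AlgHom.comp_apply, psi_X, psi2_X, map_stair_minor]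
  congr 1
  refine Matrix.ext fun s t => ?_
  show stairG (fun p : Fin n × Fin d => zetaLow K κ (X p : MatRing K d n)) τ (θ.1 s) t =
    stairG2 (fun p : Fin n × Fin d => (X p : MatRing K d n)) κ τ (θ.1 s) t
  unfold stairG stairG2 zetaLow
  by_cases h1 : θ.1 s ≤ τ.1 t
  · rw [if_pos h1]
    beta_reduce
    rw [aeval_X]
    dsimp only
    by_cases h2 : κ t ≤ (θ.1 s).val
    · rw [if_pos h2, if_pos ⟨h2, h1⟩]
    · rw [if_neg h2, if_neg (fun h => h2 h.1)]
  · rw [if_neg h1, if_neg (fun h => h1 h.2)]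

lemma psi2_eq_zero_of_mem [Infinite K] (κ : Fin d → ℕ) (τ : Idx d n) (f : PlRing K d n)
    (hf : f ∈ schubertVanishing K d n τ) : psi2 K κ τ f = 0 := by
  rw [← zetaLow_comp_psi K κ τ, AlgHom.comp_apply, psi_eq_zero_of_mem K τ f hf, map_zero]

lemma psi2_X_self (κ : Fin d → ℕ) (τ : Idx d n) (hκτ : GeLow κ τ) :
    psi2 K κ τ (X τ) = ∏ t : Fin d, (X (τ.1 t, t) : MatRing K d n) := by
  rw [psi2_X, Matrix.det_of_upperTriangular]
  · refine Finset.prod_congr rfl fun t _ => ?_
    show stairG2 (fun p : Fin n × Fin d => (X p : MatRing K d n)) κ τ (τ.1 t) t = _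
    unfold stairG2
    rw [if_pos ⟨hκτ t, le_rfl⟩]
  · intro s t hts
    show stairG2 (fun p : Fin n × Fin d => (X p : MatRing K d n)) κ τ (τ.1 s) t = 0
    unfold stairG2
    have hts' : t < s := hts
    rw [if_neg (fun h => absurd h.2 (not_le.mpr (τ.2 hts')))]

lemma psi2_X_self_ne_zero (κ : Fin d → ℕ) (τ : Idx d n) (hκτ : GeLow κ τ) :
    psi2 K κ τ (X τ) ≠ 0 := by
  rw [psi2_X_self K κ τ hκτ]
  exact Finset.prod_ne_zero_iff.mpr fun t _ => MvPolynomial.X_ne_zero _

/-- Setting to zero the variables outside the two-sided staircase. -/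
noncomputable def zeta2 (κ : Fin d → ℕ) (φ : Idx d n) : MatRing K d n →ₐ[K] MatRing K d n :=
  MvPolynomial.aeval fun p : Fin n × Fin d =>
    if κ p.2 ≤ p.1.val ∧ p.1 ≤ φ.1 p.2 then (X p : MatRing K d n) else 0

lemma zeta2_comp_psi2 (κ : Fin d → ℕ) (φ τ : Idx d n) (h : φ ≤ τ) :
    (zeta2 K κ φ).comp (psi2 K κ τ) = psi2 K κ φ := by
  apply MvPolynomial.algHom_ext
  intro θ
  rw [AlgHom.comp_apply, psi2_X, psi2_X, map_stair2_minor]
  congr 1
  refine Matrix.ext fun s t => ?_
  show stairG2 (fun p : Fin n × Fin d => zeta2 K κ φ (X p : MatRing K d n)) κ τ (θ.1 s) t =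
    stairG2 (fun p : Fin n × Fin d => (X p : MatRing K d n)) κ φ (θ.1 s) t
  unfold stairG2 zeta2
  by_cases h1 : κ t ≤ (θ.1 s).val ∧ θ.1 s ≤ φ.1 t
  · rw [if_pos h1, if_pos ⟨h1.1, le_trans h1.2 (h t)⟩]
    beta_reduce
    rw [aeval_X]
    dsimp only
    rw [if_pos h1]
  · rw [if_neg h1]
    split_ifs with h2
    · beta_reduce
      rw [aeval_X]
      dsimp only
      rw [if_neg h1]
    · rfl

lemma psi2_eq_zero_of_le (κ : Fin d → ℕ) (φ τ : Idx d n) (h : φ ≤ τ) (f : PlRing K d n)
    (hf : psi2 K κ τ f = 0) : psi2 K κ φ f = 0 := by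
  rw [← zeta2_comp_psi2 K κ φ τ h, AlgHom.comp_apply, hf, map_zero]

lemma constantCoeff_psi2 (hd : 0 < d) (κ : Fin d → ℕ) (τ : Idx d n) (f : PlRing K d n) :
    constantCoeff (psi2 K κ τ f) = constantCoeff f := by
  have hcomp : (MvPolynomial.aeval (0 : Fin n × Fin d → K) : MatRing K d n →ₐ[K] K).comp
      (psi2 K κ τ) = MvPolynomial.aeval (0 : Idx d n → K) := by
    apply MvPolynomial.algHom_ext
    intro θ
    rw [AlgHom.comp_apply, psi2_X, map_stair2_minor, aeval_X]
    have h0 : (stairG2 (fun p : Fin n × Fin d =>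
        (MvPolynomial.aeval (0 : Fin n × Fin d → K)) (X p : MatRing K d n)) κ τ) = 0 := by
      ext i t
      unfold stairG2
      split_ifs
      · beta_reduce
        rw [aeval_X]; rfl
      · rfl
    rw [h0]
    haveI : Nonempty (Fin d) := ⟨⟨0, hd⟩⟩
    have h1 : (0 : Matrix (Fin n) (Fin d) K).submatrix θ.1 id = 0 := by
      ext s t; rfl
    rw [h1, Matrix.det_zero]
    rfl
  have h1 := DFunLike.congr_fun hcomp f
  rw [AlgHom.comp_apply, aeval_zero, aeval_zero] at h1
  simpa using h1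

lemma psi2_monomial_zero (κ : Fin d → ℕ) (hκ : Monotone κ) (τ : Idx d n) (e : Idx d n →₀ ℕ)
    (c : K) (h : ¬ ∀ θ ∈ e.support, GeLow κ θ ∧ θ ≤ τ) : psi2 K κ τ (monomial e c) = 0 := by
  push Not at h
  obtain ⟨θ, hθ, hθτ⟩ := h
  have hθ' : ¬ (GeLow κ θ ∧ θ ≤ τ) := fun hh => hθτ hh.1 hh.2
  unfold psi2
  rw [aeval_monomial]
  apply mul_eq_zero_of_right
  rw [Finsupp.prod]
  apply Finset.prod_eq_zero hθ
  beta_reduce
  rw [stairG2_minor_zero _ κ hκ τ θ hθ', zero_pow (Finsupp.mem_support_iff.mp hθ)]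

end stair

section indep

variable {d n : ℕ}

/-- All variables of the monomial lie between `κ` and `τ`. -/
def InIv (κ : Fin d → ℕ) (τ : Idx d n) (e : Idx d n →₀ ℕ) : Prop :=
  ∀ θ ∈ e.support, GeLow κ θ ∧ θ ≤ τ

variable (K : Type u) [Field K]

lemma coeff_zero_of_top_zero2 (hd : 0 < d) (κ : Fin d → ℕ) (hκ : Monotone κ) (τ : Idx d n)
    (IH : ∀ φ : Idx d n, φ < τ → GeLow κ φ → ∀ f : PlRing K d n,
      (∀ e ∈ f.support, IsStd e ∧ InIv κ φ e) → psi2 K κ φ f = 0 → f = 0)
    (f : PlRing K d n) (hf : ∀ e ∈ f.support, IsStd e ∧ InIv κ τ e) (hψ : psi2 K κ τ f = 0)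
    (e : Idx d n →₀ ℕ) (he : e τ = 0) : coeff e f = 0 := by
  by_cases he0 : e = 0
  · rw [he0]
    have h1 := constantCoeff_psi2 K hd κ τ f
    rw [hψ, map_zero] at h1
    exact h1.symm
  · by_contra hne
    have hes : e ∈ f.support := mem_support_iff.mpr hne
    obtain ⟨hstd, hle⟩ := hf e hes
    have hne' : e.support.Nonempty := Finsupp.support_nonempty_iff.mpr he0
    obtain ⟨φ, hφ⟩ := e.support.exists_maximal hne'
    have hφs : φ ∈ e.support := hφ.1
    have hmax : ∀ θ ∈ e.support, θ ≤ φ := by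
      intro θ hθ
      rcases hstd θ hθ φ hφs with h | h
      · exact h
      · exact hφ.2 hθ h
    have hφτ : φ < τ := by
      refine lt_of_le_of_ne (hle φ hφs).2 ?_
      rintro rfl
      exact (Finsupp.mem_support_iff.mp hφs) he
    have h1 : psi2 K κ φ f = 0 := psi2_eq_zero_of_le K κ φ τ hφτ.le f hψ
    have h2 : psi2 K κ φ (restr (InIv κ φ) f) = 0 := by
      rw [map_restr_eq (psi2 K κ φ) (InIv κ φ) f
        (fun e' c h => psi2_monomial_zero K κ hκ φ e' c h)]
      exact h1
    have h3 : restr (InIv κ φ) f = 0 := IH φ hφτ (hle φ hφs).1 _ (fun e' he' => by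
      obtain ⟨h4, h5⟩ := mem_support_restr _ _ _ he'
      exact ⟨(hf e' h4).1, h5⟩) h2
    have h4 : coeff e (restr (InIv κ φ) f) = coeff e f :=
      coeff_restr_pos _ _ _ (fun θ hθ => ⟨(hle θ hθ).1, hmax θ hθ⟩)
    rw [h3, coeff_zero] at h4
    exact hne h4.symm

theorem indep_aux2 (hd : 0 < d) (κ : Fin d → ℕ) (hκ : Monotone κ) (τ : Idx d n)
    (hκτ : GeLow κ τ)
    (IH : ∀ φ : Idx d n, φ < τ → GeLow κ φ → ∀ f : PlRing K d n,
      (∀ e ∈ f.support, IsStd e ∧ InIv κ φ e) → psi2 K κ φ f = 0 → f = 0) :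
    ∀ (N : ℕ) (f : PlRing K d n), (∀ e ∈ f.support, IsStd e ∧ InIv κ τ e) →
      (∀ e ∈ f.support, e τ ≤ N) → psi2 K κ τ f = 0 → f = 0 := by
  intro N
  induction N with
  | zero =>
    intro f hf hN hψ
    ext e
    rw [coeff_zero]
    by_contra hne
    have hes := mem_support_iff.mpr hne
    exact hne (coeff_zero_of_top_zero2 K hd κ hκ τ IH f hf hψ e (Nat.le_zero.mp (hN e hes)))
  | succ N ih =>
    intro f hf hN hψ
    classical
    have hpos : ∀ e ∈ f.support, 1 ≤ e τ := by
      intro e he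
      by_contra h
      have h0 : e τ = 0 := by omega
      exact (mem_support_iff.mp he) (coeff_zero_of_top_zero2 K hd κ hκ τ IH f hf hψ e h0)
    obtain ⟨g, hg⟩ : ∃ g : PlRing K d n,
        g = ∑ e ∈ f.support, monomial (e - Finsupp.single τ 1) (coeff e f) := ⟨_, rfl⟩
    have hfg : f = X τ * g := by
      rw [hg, Finset.mul_sum]
      conv_lhs => rw [← support_sum_monomial_coeff f]
      refine Finset.sum_congr rfl fun e he => ?_
      have h1 : Finsupp.single τ 1 ≤ e := Finsupp.single_le_iff.mpr (hpos e he)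
      rw [← pow_one (X τ : PlRing K d n), ← monomial_single_add, add_tsub_cancel_of_le h1]
    have hψg : psi2 K κ τ g = 0 := by
      have h1 : psi2 K κ τ f = psi2 K κ τ (X τ) * psi2 K κ τ g := by rw [hfg, map_mul]
      rw [hψ] at h1
      rcases mul_eq_zero.mp h1.symm with h2 | h2
      · exact absurd h2 (psi2_X_self_ne_zero K κ τ hκτ)
      · exact h2
    have hgsupp : ∀ e' ∈ g.support, ∃ e ∈ f.support, e' = e - Finsupp.single τ 1 := by
      intro e' he'
      rw [hg] at he'
      have h1 := support_sum he'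
      rw [Finset.mem_biUnion] at h1
      obtain ⟨e, he, h2⟩ := h1
      have h3 := support_monomial_subset h2
      rw [Finset.mem_singleton] at h3
      exact ⟨e, he, h3⟩
    have hg0 : g = 0 := by
      apply ih g
      · intro e' he'
        obtain ⟨e, he, rfl⟩ := hgsupp e' he'
        obtain ⟨h1, h2⟩ := hf e he
        have hsub : (e - Finsupp.single τ 1).support ⊆ e.support := Finsupp.support_tsub
        exact ⟨fun a ha b hb => h1 a (hsub ha) b (hsub hb), fun θ hθ => h2 θ (hsub hθ)⟩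
      · intro e' he'
        obtain ⟨e, he, rfl⟩ := hgsupp e' he'
        have h1 := hN e he
        rw [Finsupp.tsub_apply, Finsupp.single_eq_same]
        omega
      · exact hψg
    rw [hfg, hg0, mul_zero]

theorem indep2 (hd : 0 < d) (κ : Fin d → ℕ) (hκ : Monotone κ) (τ : Idx d n) :
    GeLow κ τ → ∀ f : PlRing K d n,
    (∀ e ∈ f.support, IsStd e ∧ InIv κ τ e) → psi2 K κ τ f = 0 → f = 0 := by
  induction τ using WellFoundedLT.induction with
  | _ τ IH =>
    intro hκτ f hf hψ
    exact indep_aux2 K hd κ hκ τ hκτ IH (f.support.sup fun e => e τ) f hf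
      (fun e he => Finset.le_sup (f := fun e : Idx d n →₀ ℕ => e τ) he) hψ

/-- The kernel of the two-sided staircase map. -/
theorem ker_psi2 [Infinite K] (hd : 0 < d) (κ : Fin d → ℕ) (hκ : Monotone κ) (w : Idx d n) :
    RingHom.ker (psi2 K κ w) = schubertVanishing K d n w ⊔
      Ideal.span {f : PlRing K d n | ∃ θ : Idx d n, ¬ GeLow κ θ ∧ f = X θ} := by
  classical
  apply le_antisymm
  · intro f hf
    rw [RingHom.mem_ker] at hf
    obtain ⟨f', hf', hstd⟩ := exists_std_rep K f
    have hJ : f - f' ∈ schubertVanishing K d n w := SMT2.plIdealTop_le w hf'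
    have hbad : restr (fun e => ¬ InIv κ w e) f' ∈ schubertVanishing K d n w ⊔
        Ideal.span {f : PlRing K d n | ∃ θ : Idx d n, ¬ GeLow κ θ ∧ f = X θ} := by
      refine restr_mem_ideal _ _ _ fun e he hng => ?_
      unfold InIv at hng
      push Not at hng
      obtain ⟨θ, hθ, hθ'⟩ := hng
      rw [monomial_split e _ θ hθ]
      refine Ideal.mul_mem_left _ _ ?_
      by_cases h1 : θ ≤ w
      · exact Ideal.mem_sup_right (Ideal.subset_span ⟨θ, fun h2 => hθ' h2 h1, rfl⟩)
      · exact Ideal.mem_sup_left (X_mem_schubertVanishing K w θ h1)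
    have hsplit := restr_add (InIv κ w) f'
    have hbad0 : psi2 K κ w (restr (fun e => ¬ InIv κ w e) f') = 0 :=
      map_restr_zero (psi2 K κ w) (fun e => ¬ InIv κ w e) f'
        (fun e c h => psi2_monomial_zero K κ hκ w e c h)
    have hg_psi : psi2 K κ w (restr (InIv κ w) f') = 0 := by
      have e1 : restr (InIv κ w) f' = f - (f - f') - restr (fun e => ¬ InIv κ w e) f' := by
        linear_combination hsplit
      rw [e1, map_sub, map_sub, hf, hbad0, psi2_eq_zero_of_mem K κ w _ hJ]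
      ring
    have hg_std : ∀ e ∈ (restr (InIv κ w) f').support, IsStd e ∧ InIv κ w e := fun e he => by
      obtain ⟨h1, h2⟩ := mem_support_restr _ _ _ he
      exact ⟨hstd e h1, h2⟩
    have hg0 : restr (InIv κ w) f' = 0 := by
      ext e
      rw [coeff_zero]
      by_contra hne
      have hes := mem_support_iff.mpr hne
      obtain ⟨-, hiv⟩ := hg_std e hes
      by_cases he0 : e = 0
      · rw [he0] at hne
        have h1 := constantCoeff_psi2 K hd κ w (restr (InIv κ w) f')
        rw [hg_psi, map_zero] at h1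
        exact hne h1.symm
      · obtain ⟨θ, hθ⟩ := Finsupp.support_nonempty_iff.mpr he0
        have hκw : GeLow κ w := fun t =>
          le_trans ((hiv θ hθ).1 t) (Fin.le_def.mp ((hiv θ hθ).2 t))
        have h2 := indep2 K hd κ hκ w hκw _ hg_std hg_psi
        rw [h2, coeff_zero] at hne
        exact hne rfl
    have e2 : f = (f - f') + restr (fun e => ¬ InIv κ w e) f' := by
      rw [hg0, zero_add] at hsplit
      rw [hsplit]
      ring
    rw [e2]
    exact Ideal.add_mem _ (Ideal.mem_sup_left hJ) hbad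
  · refine sup_le ?_ ?_
    · intro f hf
      rw [RingHom.mem_ker]
      exact psi2_eq_zero_of_mem K κ w f hf
    · rw [Ideal.span_le]
      rintro _ ⟨θ, hθ, rfl⟩
      rw [SetLike.mem_coe, RingHom.mem_ker]
      exact psi2_X_zero K κ hκ w θ (fun h => hθ h.1)

end indep

section bottom

variable (K : Type u) [Field K] {d n : ℕ}

/-- The lower bound `(0, …, 0, d)`. -/
def kappa (d : ℕ) : Fin d → ℕ := fun t => if t.val + 1 = d then d else 0

lemma kappa_mono (d : ℕ) : Monotone (kappa d) := by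
  intro s t hst
  unfold kappa
  rw [Fin.le_def] at hst
  have := t.isLt
  split_ifs <;> omega

lemma add_le_of_strictMono (θ : Idx d n) (s t : Fin d) (hst : s ≤ t) :
    (θ.1 s).val + (t.val - s.val) ≤ (θ.1 t).val := by
  obtain ⟨k, hk⟩ : ∃ k, t.val = s.val + k := ⟨t.val - s.val, by rw [Fin.le_def] at hst; omega⟩
  induction k generalizing t with
  | zero =>
    have : t = s := Fin.ext (by omega)
    rw [this]; omega
  | succ k ih =>
    have hlt : s.val + k < d := by have := t.isLt; omega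
    have h1 := ih ⟨s.val + k, hlt⟩ (by rw [Fin.le_def]; show s.val ≤ s.val + k; omega) rfl
    have h2 : θ.1 ⟨s.val + k, hlt⟩ < θ.1 t := θ.2 (by rw [Fin.lt_def]; show s.val + k < t.val; omega)
    rw [Fin.lt_def] at h2
    have h3 : (⟨s.val + k, hlt⟩ : Fin d).val = s.val + k := rfl
    rw [h3] at h1
    omega

/-- The only index not dominating `kappa d` is the bottom one. -/
lemma not_geLow_kappa_iff (hd : 0 < d) (hdn : d < n) (θ : Idx d n) :
    ¬ GeLow (kappa d) θ ↔
      θ = (⟨fun t => ⟨t.val, lt_trans t.isLt hdn⟩, fun a b h => h⟩ : Idx d n) := by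
  constructor
  · intro h
    unfold GeLow at h
    push Not at h
    obtain ⟨t₀, ht₀⟩ := h
    unfold kappa at ht₀
    have ht₀' : t₀.val + 1 = d := by
      by_contra hne
      rw [if_neg hne] at ht₀
      omega
    rw [if_pos ht₀'] at ht₀
    apply Subtype.ext
    funext t
    apply Fin.ext
    show (θ.1 t).val = t.val
    have h1 := SMT.val_le_of_strictMono θ.1 θ.2 t
    have h2 := add_le_of_strictMono θ t t₀ (by rw [Fin.le_def]; have := t.isLt; omega)
    omega
  · intro h hge
    have h1 := hge ⟨d - 1, by omega⟩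
    unfold kappa at h1
    rw [if_pos (by show d - 1 + 1 = d; omega), h] at h1
    simp only at h1
    omega

end bottom

section prime

variable (K : Type u) [Field K] {d n : ℕ}

/-- The bottom Plücker coordinate is a prime element on every Schubert variety. -/
theorem s11270 [Infinite K] (hd : 0 < d) (hdn : d < n) (w : Idx d n) :
    Prime (Ideal.Quotient.mk (schubertVanishing K d n w)
      (MvPolynomial.X (⟨fun t => ⟨t.val, lt_trans t.isLt hdn⟩, fun a b h => h⟩ : Idx d n))) := by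
  obtain ⟨ι, hι⟩ : ∃ ι : Idx d n,
      ι = ⟨fun t => ⟨t.val, lt_trans t.isLt hdn⟩, fun a b h => h⟩ := ⟨_, rfl⟩
  rw [← hι]
  have hset : {f : PlRing K d n | ∃ θ : Idx d n, ¬ GeLow (kappa d) θ ∧ f = X θ} = {X ι} := by
    ext f
    constructor
    · rintro ⟨θ, hθ, rfl⟩
      rw [(not_geLow_kappa_iff hd hdn θ).mp hθ, ← hι]
      exact Set.mem_singleton _
    · intro hf
      rw [Set.mem_singleton_iff] at hf
      exact ⟨ι, (not_geLow_kappa_iff hd hdn ι).mpr hι, hf⟩
  have hker := ker_psi2 K hd (kappa d) (kappa_mono d) w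
  rw [hset] at hker
  have hprime : (schubertVanishing K d n w ⊔ Ideal.span {(X ι : PlRing K d n)}).IsPrime := by
    rw [← hker]
    exact RingHom.ker_isPrime _
  have hιw : ι ≤ w := fun t => by
    rw [hι]
    exact Fin.le_def.mpr (SMT.val_le_of_strictMono w.1 w.2 t)
  have hne : Ideal.Quotient.mk (schubertVanishing K d n w) (X ι) ≠ 0 := by
    intro h0
    rw [Ideal.Quotient.eq_zero_iff_mem] at h0
    have h1 := psi_eq_zero_of_mem K w _ h0
    have hsupp : ∀ θ ∈ (Finsupp.single ι 1 : Idx d n →₀ ℕ).support, θ = ι := fun θ hθ =>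
      Finset.mem_singleton.mp (Finsupp.support_single_subset hθ)
    have h2 := coeff_eq_zero_of_psi K hd w (X ι) (fun e he => by
      rw [support_X, Finset.mem_singleton] at he
      rw [he]
      intro a ha b hb
      rw [hsupp a ha, hsupp b hb]
      exact Or.inl le_rfl) h1 (Finsupp.single ι 1) (fun θ hθ => by
      rw [hsupp θ hθ]; exact hιw)
    rw [MvPolynomial.coeff_X, if_pos rfl] at h2
    exact one_ne_zero h2
  rw [← Ideal.span_singleton_prime hne]
  have hmap : Ideal.span {Ideal.Quotient.mk (schubertVanishing K d n w) (X ι)} =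
      Ideal.map (Ideal.Quotient.mk (schubertVanishing K d n w))
        (schubertVanishing K d n w ⊔ Ideal.span {X ι}) := by
    rw [Ideal.map_sup, Ideal.map_quotient_self, bot_sup_eq, Ideal.map_span, Set.image_singleton]
  rw [hmap]
  haveI := hprime
  exact Ideal.map_isPrime_of_surjective Ideal.Quotient.mk_surjective (by
    rw [Ideal.mk_ker]; exact le_sup_left)

end prime

end Groth.Agent.Helper8.SMT5
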