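import Mathlib
import Groth.Prelude.Def_W4bk4grassmannianPl
import Groth.Agent.Helper8.CellMinor
import Groth.Agent.Helper8.SMT5

set_option autoImplicit false

namespace Groth.Agent.Helper8.FFTSL

open W4bk4grassmannian MvPolynomial Groth.Agent.Helper8.SMT3 Groth.Agent.Helper8.SMT4
  Groth.Agent.Helper8.SMT5

open scoped Matrix

universe u

section general

variable (K : Type u) [Field K] (d n : ℕ)

/-- The generic matrix. -/
noncomputable def Xm : Matrix (Fin n) (Fin d) (MatRing K d n) := Matrix.of fun i t => X (i, t)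

/-- The subalgebra generated by the maximal minors. -/
noncomputable def Bal : Subalgebra K (MatRing K d n) :=
  Algebra.adjoin K (Set.range fun θ : Idx d n => minor K d n θ.1)

lemma minor_eq (a : Fin d → Fin n) : minor K d n a = ((Xm K d n).submatrix a id).det := rfl

lemma det_sub_mem (a : Fin d → Fin n) : ((Xm K d n).submatrix a id).det ∈ Bal K d n := by
  by_cases ha : Function.Injective a
  · obtain ⟨σ, hσ⟩ : ∃ σ : Equiv.Perm (Fin d), σ = Tuple.sort a := ⟨_, rfl⟩
    have hm : StrictMono (a ∘ σ) := by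
      rw [hσ]
      exact (Tuple.monotone_sort a).strictMono_of_injective (ha.comp (Tuple.sort a).injective)
    have h1 : ((Xm K d n).submatrix (a ∘ σ) id).det ∈ Bal K d n :=
      Algebra.subset_adjoin ⟨⟨a ∘ σ, hm⟩, rfl⟩
    have e1 : (Xm K d n).submatrix (a ∘ σ) id = ((Xm K d n).submatrix a id).submatrix σ id := rfl
    rw [e1, Matrix.det_permute] at h1
    have h2 : ((Xm K d n).submatrix a id).det =
        (((Equiv.Perm.sign σ : ℤˣ) : ℤ) : MatRing K d n) *
          ((((Equiv.Perm.sign σ : ℤˣ) : ℤ) : MatRing K d n) *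
            ((Xm K d n).submatrix a id).det) := by
      rw [← mul_assoc, Groth.Agent.Helper8.CellMinor.unit_sq, one_mul]
    rw [h2]
    exact Subalgebra.mul_mem _ (Subalgebra.intCast_mem _ _) h1
  · rw [Function.Injective] at ha
    push Not at ha
    obtain ⟨i, j, hij, hne⟩ := ha
    rw [Matrix.det_zero_of_row_eq hne
      (funext fun k => by rw [Matrix.submatrix_apply, Matrix.submatrix_apply, hij])]
    exact Subalgebra.zero_mem _

/-! ### Invariance of the minors -/

lemma rightTranslate_minor (g : Matrix.SpecialLinearGroup (Fin d) K) (a : Fin d → Fin n) :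
    rightTranslate K d n g (minor K d n a) = minor K d n a := by
  unfold minor
  rw [AlgHom.map_det]
  have h : (rightTranslate K d n g).mapMatrix
      (Matrix.of fun s t : Fin d => (X (a s, t) : MatRing K d n)) =
      (Matrix.of fun s t : Fin d => (X (a s, t) : MatRing K d n)) *
        (g : Matrix (Fin d) (Fin d) K).map C := by
    refine Matrix.ext fun s t => ?_
    rw [AlgHom.mapMatrix_apply, Matrix.map_apply, Matrix.of_apply, Matrix.mul_apply]
    unfold rightTranslate
    rw [aeval_X]
    rfl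
  rw [h, Matrix.det_mul]
  have h2 : ((g : Matrix (Fin d) (Fin d) K).map C).det = (1 : MatRing K d n) := by
    have h3 := RingHom.map_det (C : K →+* MatRing K d n) (g : Matrix (Fin d) (Fin d) K)
    rw [RingHom.mapMatrix_apply] at h3
    rw [← h3, g.det_coe, map_one]
  rw [h2, mul_one]

theorem invariant_of_mem (f : MatRing K d n) (hf : f ∈ Bal K d n)
    (g : Matrix.SpecialLinearGroup (Fin d) K) : rightTranslate K d n g f = f := by
  have hle : Bal K d n ≤ AlgHom.equalizer (rightTranslate K d n g) (AlgHom.id K _) := by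
    apply Algebra.adjoin_le
    rintro _ ⟨θ, rfl⟩
    exact rightTranslate_minor K d n g θ.1
  exact hle hf

/-! ### Evaluation -/

lemma eval_rightTranslate (g : Matrix.SpecialLinearGroup (Fin d) K)
    (A : Matrix (Fin n) (Fin d) K) (f : MatRing K d n) :
    eval (fun p : Fin n × Fin d => A p.1 p.2) (rightTranslate K d n g f) =
      eval (fun p : Fin n × Fin d => (A * (g : Matrix (Fin d) (Fin d) K)) p.1 p.2) f := by
  have h : (eval (fun p : Fin n × Fin d => A p.1 p.2)).comp
      (rightTranslate K d n g).toRingHom =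
      eval (fun p : Fin n × Fin d => (A * (g : Matrix (Fin d) (Fin d) K)) p.1 p.2) := by
    apply MvPolynomial.ringHom_ext
    · intro a
      rw [RingHom.comp_apply]
      show eval _ (rightTranslate K d n g (C a)) = _
      rw [← MvPolynomial.algebraMap_eq, AlgHom.commutes, MvPolynomial.algebraMap_eq, eval_C,
        eval_C]
    · intro p
      rw [RingHom.comp_apply]
      show eval _ (rightTranslate K d n g (X p)) = _
      unfold rightTranslate
      rw [aeval_X, map_sum, eval_X, Matrix.mul_apply]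
      refine Finset.sum_congr rfl fun k _ => ?_
      rw [map_mul, eval_X, eval_C]
  exact RingHom.congr_fun h f

lemma eval_det_sub (x : Fin n × Fin d → K) (a : Fin d → Fin n) :
    eval x ((Xm K d n).submatrix a id).det =
      ((Matrix.of fun i t => x (i, t) : Matrix (Fin n) (Fin d) K).submatrix a id).det := by
  rw [RingHom.map_det]
  congr 1
  refine Matrix.ext fun s t => ?_
  rw [RingHom.mapMatrix_apply, Matrix.map_apply, Matrix.submatrix_apply, Matrix.submatrix_apply]
  unfold Xm
  rw [Matrix.of_apply, Matrix.of_apply, eval_X]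

variable (hdn : d < n)

/-- The bottom index. -/
def bot : Idx d n := ⟨fun t => ⟨t.val, lt_trans t.isLt hdn⟩, fun _ _ h => h⟩

/-- The matrix `X · adj(X₁)`. -/
noncomputable def Ym : Matrix (Fin n) (Fin d) (MatRing K d n) :=
  Xm K d n * ((Xm K d n).submatrix (bot d n hdn).1 id).adjugate

lemma Ym_apply (i : Fin n) (t : Fin d) :
    Ym K d n hdn i t =
      ((Xm K d n).submatrix (Function.update (bot d n hdn).1 t i) id).det := by
  obtain ⟨X1, hX1⟩ : ∃ X1, X1 = (Xm K d n).submatrix (bot d n hdn).1 id := ⟨_, rfl⟩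
  have h1 : Ym K d n hdn i t = (X1.adjugateᵀ *ᵥ (Xm K d n i)) t := by
    unfold Ym
    rw [← hX1, Matrix.mul_apply]
    show _ = ∑ k, X1.adjugateᵀ t k * Xm K d n i k
    refine Finset.sum_congr rfl fun k _ => ?_
    rw [Matrix.transpose_apply, mul_comm]
  rw [h1, Matrix.adjugate_transpose, ← Matrix.cramer_eq_adjugate_mulVec, Matrix.cramer_apply,
    Matrix.updateCol_transpose, Matrix.det_transpose]
  congr 1
  refine Matrix.ext fun s c => ?_
  rw [Matrix.updateRow_apply, Matrix.submatrix_apply, hX1, Matrix.submatrix_apply,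
    Function.update_apply]
  split_ifs <;> rfl

lemma Ym_mem (i : Fin n) (t : Fin d) : Ym K d n hdn i t ∈ Bal K d n := by
  rw [Ym_apply]
  exact det_sub_mem K d n _

lemma eval_Ym (x : Fin n × Fin d → K) (i : Fin n) (t : Fin d) :
    eval x (Ym K d n hdn i t) =
      ((Matrix.of fun i t => x (i, t) : Matrix (Fin n) (Fin d) K) *
        ((Matrix.of fun i t => x (i, t) : Matrix (Fin n) (Fin d) K).submatrix
          (bot d n hdn).1 id).adjugate) i t := by
  have h1 : eval x (Ym K d n hdn i t) = ((Ym K d n hdn).map (eval x)) i t := rfl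
  rw [h1]
  unfold Ym
  rw [Matrix.map_mul]
  have h2 : (Xm K d n).map (eval x) = Matrix.of fun i t => x (i, t) := by
    refine Matrix.ext fun i t => ?_
    rw [Matrix.map_apply]
    unfold Xm
    rw [Matrix.of_apply, Matrix.of_apply, eval_X]
  have h3 := RingHom.map_adjugate (eval x) ((Xm K d n).submatrix (bot d n hdn).1 id)
  rw [RingHom.mapMatrix_apply, RingHom.mapMatrix_apply] at h3
  rw [h3, ← Matrix.submatrix_map, h2]

lemma minor_bot_ne_zero : minor K d n (bot d n hdn).1 ≠ 0 := by
  intro h0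
  have h1 := congrArg (eval (fun p : Fin n × Fin d => if p.1.val = p.2.val then (1 : K) else 0)) h0
  rw [minor_eq, eval_det_sub, map_zero] at h1
  have h2 : ((Matrix.of fun (i : Fin n) (t : Fin d) =>
      (fun p : Fin n × Fin d => if p.1.val = p.2.val then (1 : K) else 0) (i, t)).submatrix
        (bot d n hdn).1 id) = (1 : Matrix (Fin d) (Fin d) K) := by
    refine Matrix.ext fun s t => ?_
    rw [Matrix.submatrix_apply, Matrix.of_apply, Matrix.one_apply]
    show (if s.val = t.val then (1 : K) else 0) = _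
    by_cases hst : s = t
    · rw [if_pos hst, if_pos (by rw [hst])]
    · rw [if_neg hst, if_neg (fun h => hst (Fin.ext h))]
  rw [h2, Matrix.det_one] at h1
  exact one_ne_zero h1

/-! ### The generic identity -/

theorem key_identity [Infinite K] (hd : 0 < d) (f : MatRing K d n)
    (hf : ∀ g : Matrix.SpecialLinearGroup (Fin d) K, rightTranslate K d n g f = f) :
    ∃ k : ℕ, (minor K d n (bot d n hdn).1) ^ k * f ∈ Bal K d n := by
  classical
  obtain ⟨t0, ht0⟩ : ∃ t0 : Fin d, t0 = ⟨0, hd⟩ := ⟨_, rfl⟩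
  obtain ⟨e, he⟩ : ∃ e, e = d - 1 := ⟨_, rfl⟩
  obtain ⟨w, hw⟩ : ∃ w : ((Fin n × Fin d) →₀ ℕ) → ℕ, w = fun u =>
      ∑ p ∈ Finset.univ.filter (fun p : Fin n × Fin d => p.2 = t0), u p := ⟨_, rfl⟩
  obtain ⟨E, hE⟩ : ∃ E, E = f.support.sup w := ⟨_, rfl⟩
  obtain ⟨D, hD⟩ : ∃ D, D = minor K d n (bot d n hdn).1 := ⟨_, rfl⟩
  obtain ⟨G, hG⟩ : ∃ G, G = ∑ u ∈ f.support, C (coeff u f) * D ^ (e * (E - w u)) *
      ∏ p : Fin n × Fin d, (Ym K d n hdn p.1 p.2) ^ (u p) := ⟨_, rfl⟩
  have hDmem : D ∈ Bal K d n := by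
    rw [hD]
    exact Algebra.subset_adjoin ⟨bot d n hdn, rfl⟩
  have hGmem : G ∈ Bal K d n := by
    rw [hG]
    refine Subalgebra.sum_mem _ fun u _ => ?_
    refine Subalgebra.mul_mem _ (Subalgebra.mul_mem _ ?_ (Subalgebra.pow_mem _ hDmem _)) ?_
    · rw [← MvPolynomial.algebraMap_eq]
      exact Subalgebra.algebraMap_mem _ _
    · exact Subalgebra.prod_mem _ fun p _ => Subalgebra.pow_mem _ (Ym_mem K d n hdn p.1 p.2) _
  have hDne : D ≠ 0 := by
    rw [hD]
    exact minor_bot_ne_zero K d n hdn
  refine ⟨e * E, ?_⟩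
  have hkey : D ^ (e * E) * f = G := by
    have h0 : D * (D ^ (e * E) * f - G) = 0 := by
      apply MvPolynomial.funext
      intro x
      rw [map_zero, map_mul, map_sub, map_mul, map_pow]
      obtain ⟨A, hA⟩ : ∃ A : Matrix (Fin n) (Fin d) K, A = Matrix.of fun i t => x (i, t) :=
        ⟨_, rfl⟩
      obtain ⟨A1, hA1⟩ : ∃ A1, A1 = A.submatrix (bot d n hdn).1 id := ⟨_, rfl⟩
      obtain ⟨δ, hδ⟩ : ∃ δ, δ = A1.det := ⟨_, rfl⟩
      have hevD : eval x D = δ := by
        rw [hD, minor_eq, eval_det_sub, hδ, hA1, hA]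
      rw [hevD]
      by_cases hδ0 : δ = 0
      · rw [hδ0, zero_mul]
      · obtain ⟨M, hM⟩ : ∃ M, M = A * A1.adjugate := ⟨_, rfl⟩
        obtain ⟨c, hc⟩ : ∃ c : Fin d → K, c = fun t => if t = t0 then (δ⁻¹) ^ e else 1 :=
          ⟨_, rfl⟩
        obtain ⟨gM, hgM⟩ : ∃ gM, gM = A1.adjugate * Matrix.diagonal c := ⟨_, rfl⟩
        have hdet : gM.det = 1 := by
          rw [hgM, Matrix.det_mul, Matrix.det_adjugate, Matrix.det_diagonal, Fintype.card_fin,
            ← he, ← hδ, hc, Finset.prod_ite_eq', if_pos (Finset.mem_univ _), ← mul_pow,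
            mul_inv_cancel₀ hδ0, one_pow]
        have hinv := hf ⟨gM, hdet⟩
        have hx : x = fun p : Fin n × Fin d => A p.1 p.2 := by
          funext p
          rw [hA, Matrix.of_apply]
        have h1 : eval x f = eval (fun p : Fin n × Fin d => (A * gM) p.1 p.2) f := by
          have h2 := eval_rightTranslate K d n ⟨gM, hdet⟩ A f
          rw [hinv, ← hx] at h2
          exact h2
        have hAg : ∀ p : Fin n × Fin d, (A * gM) p.1 p.2 = M p.1 p.2 * c p.2 := by
          intro p
          rw [hgM, ← Matrix.mul_assoc, ← hM, Matrix.mul_diagonal]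
        have hterm : ∀ u : (Fin n × Fin d) →₀ ℕ,
            ∏ p : Fin n × Fin d, ((A * gM) p.1 p.2) ^ (u p) =
              (∏ p : Fin n × Fin d, (M p.1 p.2) ^ (u p)) * (δ⁻¹) ^ (e * w u) := by
          intro u
          have h3 : ∀ p : Fin n × Fin d, ((A * gM) p.1 p.2) ^ (u p) =
              (M p.1 p.2) ^ (u p) * (if p.2 = t0 then ((δ⁻¹) ^ e) ^ (u p) else 1) := by
            intro p
            have hcp : c p.2 = if p.2 = t0 then (δ⁻¹) ^ e else 1 := by rw [hc]
            rw [hAg, mul_pow, hcp]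
            by_cases hp : p.2 = t0
            · rw [if_pos hp, if_pos hp]
            · rw [if_neg hp, if_neg hp, one_pow]
          rw [Finset.prod_congr rfl (fun p _ => h3 p), Finset.prod_mul_distrib,
            ← Finset.prod_filter, Finset.prod_pow_eq_pow_sum, ← pow_mul, hw]
        have hevG : eval x G = ∑ u ∈ f.support, coeff u f * δ ^ (e * (E - w u)) *
            ∏ p : Fin n × Fin d, (M p.1 p.2) ^ (u p) := by
          rw [hG, map_sum]
          refine Finset.sum_congr rfl fun u _ => ?_
          rw [map_mul, map_mul, eval_C, map_pow, hevD, map_prod]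
          congr 1
          refine Finset.prod_congr rfl fun p _ => ?_
          rw [map_pow, eval_Ym, ← hA, ← hA1, ← hM]
        have hfin : δ ^ (e * E) * eval x f - eval x G = 0 := by
          rw [h1, eval_eq', hevG, Finset.mul_sum, ← Finset.sum_sub_distrib]
          refine Finset.sum_eq_zero fun u hu => ?_
          rw [hterm]
          have hle : w u ≤ E := by
            rw [hE]
            exact Finset.le_sup (f := w) hu
          have h4 : δ ^ (e * E) = δ ^ (e * (E - w u)) * δ ^ (e * w u) := by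
            rw [← pow_add, ← Nat.mul_add, Nat.sub_add_cancel hle]
          have h5 : δ ^ (e * w u) * (δ⁻¹) ^ (e * w u) = 1 := by
            rw [← mul_pow, mul_inv_cancel₀ hδ0, one_pow]
          rw [h4]
          linear_combination (coeff u f * (∏ p : Fin n × Fin d, (M p.1 p.2) ^ (u p)) *
            δ ^ (e * (E - w u))) * h5
        rw [hfin, mul_zero]
    rcases mul_eq_zero.mp h0 with h | h
    · exact absurd h hDne
    · exact sub_eq_zero.mp h
  rw [← hD, hkey]
  exact hGmem

/-! ### Divisibility by the bottom minor -/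

/-- The top index. -/
def topIdx : Idx d n := ⟨fun t => ⟨n - d + t.val, by have := t.isLt; omega⟩, fun a b h => by
  rw [Fin.lt_def] at h ⊢
  show n - d + a.val < n - d + b.val
  omega⟩

lemma le_topIdx (φ : Idx d n) : φ ≤ topIdx d n hdn := by
  intro t
  rw [Fin.le_def]
  show (φ.1 t).val ≤ n - d + t.val
  have hd : 0 < d := lt_of_le_of_lt (Nat.zero_le _) t.isLt
  have h := add_le_of_strictMono φ t ⟨d - 1, by omega⟩
    (by rw [Fin.le_def]; have := t.isLt; show t.val ≤ d - 1; omega)
  have h2 := (φ.1 ⟨d - 1, by omega⟩).isLt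
  have h3 : ((⟨d - 1, by omega⟩ : Fin d)).val = d - 1 := rfl
  rw [h3] at h
  have := t.isLt
  omega

theorem div_mem [Infinite K] (hd : 0 < d) (r : MatRing K d n)
    (h : minor K d n (bot d n hdn).1 * r ∈ Bal K d n) : r ∈ Bal K d n := by
  classical
  obtain ⟨ι, hι⟩ : ∃ ι : Idx d n, ι = bot d n hdn := ⟨_, rfl⟩
  rw [← hι] at h
  have hDne : minor K d n ι.1 ≠ 0 := by
    rw [hι]
    exact minor_bot_ne_zero K d n hdn
  have hBal : Bal K d n = (pluckerMap K d n).range := by
    unfold Bal pluckerMap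
    exact Algebra.adjoin_range_eq_range_aeval K _
  rw [hBal] at h ⊢
  obtain ⟨F, hF0⟩ := h
  have hF : pluckerMap K d n F = minor K d n ι.1 * r := hF0
  obtain ⟨w, hw⟩ : ∃ w : Idx d n, ∀ φ : Idx d n, φ ≤ w := ⟨topIdx d n hdn, le_topIdx d n hdn⟩
  obtain ⟨σ, hσ⟩ : ∃ σ : MatRing K d n →ₐ[K] MatRing K d n, σ = aeval
      (fun p : Fin n × Fin d => stairG2 (fun p => (X p : MatRing K d n)) (kappa d) w p.1 p.2) :=
    ⟨_, rfl⟩
  have hpX : ∀ θ : Idx d n, pluckerMap K d n (X θ) = minor K d n θ.1 := by
    intro θ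
    unfold pluckerMap
    rw [aeval_X]
  have hcomp : psi2 K (kappa d) w = σ.comp (pluckerMap K d n) := by
    apply MvPolynomial.algHom_ext
    intro θ
    rw [psi2_X, AlgHom.comp_apply, hpX]
    unfold minor
    rw [AlgHom.map_det]
    congr 1
    refine Matrix.ext fun s t => ?_
    rw [AlgHom.mapMatrix_apply, Matrix.map_apply, Matrix.of_apply, Matrix.submatrix_apply, hσ,
      aeval_X]
    rfl
  have hpsiF : psi2 K (kappa d) w F = 0 := by
    rw [hcomp, AlgHom.comp_apply, hF, map_mul]
    have h1 : σ (minor K d n ι.1) = 0 := by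
      rw [← hpX, ← AlgHom.comp_apply, ← hcomp]
      exact psi2_X_zero K (kappa d) (kappa_mono d) w ι
        (fun h => (not_geLow_kappa_iff hd hdn ι).mpr hι h.1)
    rw [h1, zero_mul]
  have hset : {f : PlRing K d n | ∃ θ : Idx d n, ¬ GeLow (kappa d) θ ∧ f = X θ} = {X ι} := by
    ext f
    constructor
    · rintro ⟨θ, hθ, rfl⟩
      have h1 : θ = ι := by
        rw [hι]
        exact (not_geLow_kappa_iff hd hdn θ).mp hθ
      rw [h1]
      exact Set.mem_singleton _
    · intro hf
      rw [Set.mem_singleton_iff] at hf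
      exact ⟨ι, (not_geLow_kappa_iff hd hdn ι).mpr hι, hf⟩
  have hker : F ∈ RingHom.ker (psi2 K (kappa d) w) := RingHom.mem_ker.mpr hpsiF
  rw [ker_psi2 K hd (kappa d) (kappa_mono d) w, hset] at hker
  obtain ⟨F1, hF1, F2, hF2, hsum⟩ := Submodule.mem_sup.mp hker
  obtain ⟨F3, hF3⟩ := Ideal.mem_span_singleton'.mp hF2
  have hF1z : pluckerMap K d n F1 = 0 := by
    apply MvPolynomial.funext
    intro x
    rw [map_zero]
    obtain ⟨A, hA⟩ : ∃ A : Matrix (Fin n) (Fin d) K, A = Matrix.of fun i t => x (i, t) :=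
      ⟨_, rfl⟩
    have h1 : (MvPolynomial.aeval x : MatRing K d n →ₐ[K] K).comp (pluckerMap K d n) =
        evalMinors K d n A := by
      apply MvPolynomial.algHom_ext
      intro θ
      rw [AlgHom.comp_apply, hpX]
      unfold evalMinors
      rw [aeval_X]
      unfold minor
      rw [AlgHom.map_det]
      congr 1
      refine Matrix.ext fun s t => ?_
      rw [AlgHom.mapMatrix_apply, Matrix.map_apply, Matrix.of_apply, aeval_X,
        Matrix.submatrix_apply, hA]
      rfl
    have h2 := AlgHom.congr_fun h1 F1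
    rw [AlgHom.comp_apply] at h2
    have h3 : evalMinors K d n A F1 = 0 := by
      unfold schubertVanishing at hF1
      have h4 := Ideal.mem_iInf.mp hF1 A
      have h5 := Ideal.mem_iInf.mp h4 (fun φ hφ => absurd (hw φ) hφ)
      exact RingHom.mem_ker.mp h5
    rw [h3] at h2
    exact h2
  refine ⟨F3, ?_⟩
  show pluckerMap K d n F3 = r
  have h6 : minor K d n ι.1 * pluckerMap K d n F3 = minor K d n ι.1 * r := by
    rw [← hF, ← hsum, map_add, hF1z, zero_add, ← hF3, map_mul, hpX, mul_comm]
  exact mul_left_cancel₀ hDne h6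

theorem mem_of_pow_mul_mem [Infinite K] (hd : 0 < d) : ∀ (k : ℕ) (f : MatRing K d n),
    (minor K d n (bot d n hdn).1) ^ k * f ∈ Bal K d n → f ∈ Bal K d n
  | 0, f, h => by
    rw [pow_zero, one_mul] at h
    exact h
  | k + 1, f, h => by
    have h1 : minor K d n (bot d n hdn).1 * ((minor K d n (bot d n hdn).1) ^ k * f) ∈
        Bal K d n := by
      rw [← mul_assoc, ← pow_succ']
      exact h
    exact mem_of_pow_mul_mem hd k f (div_mem K d n hdn hd _ h1)

end general

theorem main (K : Type u) [Field K] [Infinite K] (d n : ℕ) (hd : 0 < d) (hdn : d < n)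
    (f : MatRing K d n) :
    (∀ g : Matrix.SpecialLinearGroup (Fin d) K, rightTranslate K d n g f = f) ↔
      f ∈ Algebra.adjoin K (Set.range fun θ : Idx d n => minor K d n θ.1) := by
  constructor
  · intro hf
    obtain ⟨k, hk⟩ := key_identity K d n hdn hd f hf
    exact mem_of_pow_mul_mem K d n hdn hd k f hk
  · intro hf g
    exact invariant_of_mem K d n f hf g

end Groth.Agent.Helper8.FFTSL
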