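import Mathlib
import Groth.Prelude.Def_W4bk4grassmannianPl
import Groth.Agent.Helper8.PluckerQ
import Groth.Agent.Helper8.FFTSL

set_option autoImplicit false

namespace Groth.Agent.Helper8.Cell2

open W4bk4grassmannian MvPolynomial

open scoped Matrix

universe u

section cramer

variable {R : Type*} [CommRing R] {d n : ℕ}

/-- Cramer's rule: the entries of `A * adj(A_τ)` are the minors obtained by replacing one row. -/
lemma mul_adjugate_apply (A : Matrix (Fin n) (Fin d) R) (τ : Fin d → Fin n) (i : Fin n)
    (t : Fin d) :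
    (A * (A.submatrix τ id).adjugate) i t = (A.submatrix (Function.update τ t i) id).det := by
  obtain ⟨X1, hX1⟩ : ∃ X1, X1 = A.submatrix τ id := ⟨_, rfl⟩
  have h1 : (A * (A.submatrix τ id).adjugate) i t = (X1.adjugateᵀ *ᵥ (A i)) t := by
    rw [← hX1, Matrix.mul_apply]
    show _ = ∑ k, X1.adjugateᵀ t k * A i k
    refine Finset.sum_congr rfl fun k _ => ?_
    rw [Matrix.transpose_apply, mul_comm]
  rw [h1, Matrix.adjugate_transpose, ← Matrix.cramer_eq_adjugate_mulVec, Matrix.cramer_apply,
    Matrix.updateCol_transpose, Matrix.det_transpose]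
  congr 1
  refine Matrix.ext fun s c => ?_
  rw [Matrix.updateRow_apply, Matrix.submatrix_apply, hX1, Matrix.submatrix_apply,
    Function.update_apply]
  split_ifs <;> rfl

lemma det_update_of_submatrix_one (C : Matrix (Fin n) (Fin d) R) (τ : Fin d → Fin n)
    (h1 : C.submatrix τ id = 1) (i : Fin n) (t : Fin d) :
    (C.submatrix (Function.update τ t i) id).det = C i t := by
  have h := mul_adjugate_apply C τ i t
  rw [h1, Matrix.adjugate_one, Matrix.mul_one] at h
  exact h.symm

lemma det_mem_subring (T : Subring R) (M : Matrix (Fin d) (Fin d) R)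
    (h : ∀ i j, M i j ∈ T) : M.det ∈ T := by
  rw [Matrix.det_apply]
  refine Subring.sum_mem _ fun σ _ => ?_
  rw [Units.smul_def]
  exact Subring.zsmul_mem _ (Subring.prod_mem _ fun i _ => h _ _) _

end cramer

section plucker

variable (K : Type u) [Field K] (d n : ℕ)

theorem pluckerId (τ θ : Idx d n) :
    X θ * X τ ^ (d - 1) - Matrix.det (Matrix.of fun s t : Fin d =>
      coord K d n (Function.update τ.1 t (θ.1 s))) ∈ vanishing K d n := by
  unfold vanishing
  rw [Ideal.mem_iInf]
  intro A
  rw [RingHom.mem_ker]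
  show evalMinors K d n A _ = 0
  rw [map_sub, map_mul, map_pow, AlgHom.map_det]
  have hX : ∀ φ : Idx d n, evalMinors K d n A (X φ) = (A.submatrix φ.1 id).det := by
    intro φ
    unfold evalMinors
    rw [aeval_X]
  rw [hX, hX]
  have hM : (evalMinors K d n A).mapMatrix (Matrix.of fun s t : Fin d =>
      coord K d n (Function.update τ.1 t (θ.1 s))) =
      A.submatrix θ.1 id * (A.submatrix τ.1 id).adjugate := by
    refine Matrix.ext fun s t => ?_
    rw [AlgHom.mapMatrix_apply, Matrix.map_apply, Matrix.of_apply]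
    have h1 : evalMinors K d n A (coord K d n (Function.update τ.1 t (θ.1 s))) =
        (A.submatrix (Function.update τ.1 t (θ.1 s)) id).det :=
      PluckerQ.eval_coord_minors A _
    rw [h1, ← mul_adjugate_apply]
    rfl
  rw [hM, Matrix.det_mul, Matrix.det_adjugate, Fintype.card_fin, sub_self]

theorem vanishing_le (τ : Idx d n) : vanishing K d n ≤ schubertVanishing K d n τ := by
  intro f hf
  unfold vanishing at hf
  unfold schubertVanishing
  rw [Ideal.mem_iInf] at hf ⊢
  intro A
  rw [Ideal.mem_iInf]
  intro _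
  exact hf A

theorem pluckerMap_coord [Infinite K] (a : Fin d → Fin n) :
    pluckerMap K d n (coord K d n a) = minor K d n a := by
  apply MvPolynomial.funext
  intro x
  obtain ⟨A, hA⟩ : ∃ A : Matrix (Fin n) (Fin d) K, A = Matrix.of fun i t => x (i, t) :=
    ⟨_, rfl⟩
  have h1 : (MvPolynomial.aeval x : MatRing K d n →ₐ[K] K).comp (pluckerMap K d n) =
      evalMinors K d n A := by
    apply MvPolynomial.algHom_ext
    intro θ
    rw [AlgHom.comp_apply]
    unfold pluckerMap evalMinors
    rw [aeval_X, aeval_X]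
    unfold minor
    rw [AlgHom.map_det]
    congr 1
    refine Matrix.ext fun s t => ?_
    rw [AlgHom.mapMatrix_apply, Matrix.map_apply, Matrix.of_apply, aeval_X,
      Matrix.submatrix_apply, hA]
    rfl
  have h2 := AlgHom.congr_fun h1 (coord K d n a)
  rw [AlgHom.comp_apply] at h2
  have h3 : eval x (minor K d n a) = (A.submatrix a id).det := by
    rw [FFTSL.minor_eq, FFTSL.eval_det_sub, hA]
  rw [h3]
  exact h2.trans (PluckerQ.eval_coord_minors A a)

theorem aeval_coord [Infinite K] {Q : Type*} [CommRing Q] [Algebra K Q]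
    (B : Matrix (Fin n) (Fin d) Q) (a : Fin d → Fin n) :
    MvPolynomial.aeval (fun θ : Idx d n => (B.submatrix θ.1 id).det) (coord K d n a) =
      (B.submatrix a id).det := by
  obtain ⟨evB, hevB⟩ : ∃ evB : MatRing K d n →ₐ[K] Q,
      evB = MvPolynomial.aeval (fun p : Fin n × Fin d => B p.1 p.2) := ⟨_, rfl⟩
  have hminor : ∀ a' : Fin d → Fin n, evB (minor K d n a') = (B.submatrix a' id).det := by
    intro a'
    unfold minor
    rw [AlgHom.map_det]
    congr 1
    refine Matrix.ext fun s t => ?_
    rw [AlgHom.mapMatrix_apply, Matrix.map_apply, Matrix.of_apply, hevB, aeval_X]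
    rfl
  have hcomp : evB.comp (pluckerMap K d n) =
      MvPolynomial.aeval (fun θ : Idx d n => (B.submatrix θ.1 id).det) := by
    apply MvPolynomial.algHom_ext
    intro θ
    rw [AlgHom.comp_apply, aeval_X]
    unfold pluckerMap
    rw [aeval_X]
    exact hminor θ.1
  rw [← hcomp, AlgHom.comp_apply, pluckerMap_coord, hminor]

end plucker

end Groth.Agent.Helper8.Cell2
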