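import Mathlib
import Groth.Prelude.Def_W4bk4grassmannianPl
import Groth.Agent.Helper8.SMT5
import Groth.Agent.Helper8.SMT8
import Groth.Agent.Helper5.FtDim4

set_option autoImplicit false

namespace Groth.Agent.Helper8.SMT10

open W4bk4grassmannian MvPolynomial Groth.Agent.Helper8.SMT Groth.Agent.Helper8.SMT3
  Groth.Agent.Helper8.SMT4 Groth.Agent.Helper8.SMT5 Groth.Agent.Helper8.SMT8

universe u

/-! ### Dimension of a quotient by a finite intersection -/

section general

variable {R : Type*} [CommRing R]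

lemma exists_le_of_iInf_le {ι : Type*} (D : Set ι) (hD : D.Finite) (f : ι → Ideal R)
    (P : Ideal R) [hP : P.IsPrime] (h : ⨅ i ∈ D, f i ≤ P) : ∃ i ∈ D, f i ≤ P := by
  have h1 : hD.toFinset.inf f ≤ P := by
    rw [Finset.inf_eq_iInf]
    refine le_trans ?_ h
    exact le_iInf₂ fun i hi => iInf₂_le i (hD.mem_toFinset.mpr hi)
  obtain ⟨i, hi, hle⟩ := (Ideal.IsPrime.inf_le' hP).mp h1
  exact ⟨i, hD.mem_toFinset.mp hi, hle⟩

theorem dim_quotient_iInf_le {ι : Type*} (D : Set ι) (hD : D.Finite) (f : ι → Ideal R)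
    (c : WithBot ℕ∞) (hc : ∀ i ∈ D, ringKrullDim (R ⧸ f i) ≤ c) :
    ringKrullDim (R ⧸ ⨅ i ∈ D, f i) ≤ c := by
  rw [ringKrullDim_quotient]
  unfold Order.krullDim
  refine iSup_le fun p => ?_
  have hhead : (⨅ i ∈ D, f i) ≤ (p.head).1.asIdeal := by
    have h1 := (p.head).2
    rw [PrimeSpectrum.mem_zeroLocus] at h1
    exact h1
  obtain ⟨i, hi, hle⟩ := exists_le_of_iInf_le D hD f (p.head).1.asIdeal hhead
  have hmem : ∀ k, (p k).1 ∈ PrimeSpectrum.zeroLocus (R := R) (f i) := by
    intro k
    rw [PrimeSpectrum.mem_zeroLocus]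
    have h2 : p.head ≤ p k := LTSeries.head_le p k
    have h3 : (p.head).1.asIdeal ≤ (p k).1.asIdeal := h2
    exact le_trans hle h3
  obtain ⟨q, hq⟩ : ∃ q : LTSeries (PrimeSpectrum.zeroLocus (R := R) (f i)),
      q.length = p.length :=
    ⟨{ length := p.length, toFun := fun k => ⟨(p k).1, hmem k⟩, step := fun k => p.step k }, rfl⟩
  have h4 := Order.LTSeries.length_le_krullDim q
  rw [← ringKrullDim_quotient, hq] at h4
  exact le_trans h4 (hc i hi)

end general

/-! ### The Schubert cones -/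

section schubert

variable (K : Type u) [Field K] [Infinite K] {d n : ℕ}

lemma isPrime_J (hd : 0 < d) (w : Idx d n) : (schubertVanishing K d n w).IsPrime := by
  have h := ker_psi2 K hd (fun _ => 0) (fun _ _ _ => le_rfl) w
  have hset : {f : PlRing K d n | ∃ θ : Idx d n, ¬ GeLow (fun _ => 0) θ ∧ f = X θ} = ∅ := by
    ext f
    simp [GeLow]
  rw [hset, Ideal.span_empty, sup_bot_eq] at h
  rw [← h]
  exact RingHom.ker_isPrime _

lemma X_not_mem (w θ : Idx d n) (hθ : θ ≤ w) : (X θ : PlRing K d n) ∉ schubertVanishing K d n w := by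
  intro h
  have h1 := psi_eq_zero_of_mem K w _ h
  have h2 := (isTop_minor K w θ hθ).coeff_top
  rw [h1, coeff_zero] at h2
  exact zero_ne_one h2

/-- Evaluation at the zero matrix. -/
noncomputable def ev0 (d n : ℕ) : PlRing K d n →ₐ[K] K :=
  evalMinors K d n (0 : Matrix (Fin n) (Fin d) K)

lemma ev0_X (hd : 0 < d) (θ : Idx d n) : ev0 K d n (X θ) = 0 := by
  unfold ev0 evalMinors
  rw [aeval_X]
  haveI : Nonempty (Fin d) := ⟨⟨0, hd⟩⟩
  have h1 : (0 : Matrix (Fin n) (Fin d) K).submatrix θ.1 id = 0 := by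
    ext s t; rfl
  rw [h1, Matrix.det_zero]

lemma J_le_ker_ev0 (hd : 0 < d) (w : Idx d n) :
    schubertVanishing K d n w ≤ RingHom.ker (ev0 K d n).toRingHom := by
  intro f hf
  unfold schubertVanishing at hf
  rw [Ideal.mem_iInf] at hf
  have h2 := hf (0 : Matrix (Fin n) (Fin d) K)
  rw [Ideal.mem_iInf] at h2
  refine h2 (fun φ _ => ?_)
  haveI : Nonempty (Fin d) := ⟨⟨0, hd⟩⟩
  have h1 : (0 : Matrix (Fin n) (Fin d) K).submatrix φ.1 id = 0 := by
    ext s t; rfl
  rw [h1, Matrix.det_zero]

/-- The vertex of the cone. -/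
noncomputable def evBar (hd : 0 < d) (w : Idx d n) :
    (PlRing K d n ⧸ schubertVanishing K d n w) →+* K :=
  Ideal.Quotient.lift (schubertVanishing K d n w) (ev0 K d n).toRingHom
    (fun f hf => RingHom.mem_ker.mp (J_le_ker_ev0 K hd w hf))

lemma evBar_surjective (hd : 0 < d) (w : Idx d n) : Function.Surjective (evBar K hd w) := by
  intro c
  refine ⟨Ideal.Quotient.mk _ (C c), ?_⟩
  unfold evBar
  rw [Ideal.Quotient.lift_mk]
  exact (ev0 K d n).commutes c

lemma evBar_X (hd : 0 < d) (w θ : Idx d n) :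
    evBar K hd w (Ideal.Quotient.mk _ (X θ)) = 0 := by
  unfold evBar
  rw [Ideal.Quotient.lift_mk]
  exact ev0_X K hd θ

/-- The bottom index. -/
def iota (hdn : d < n) : Idx d n := ⟨fun t => ⟨t.val, lt_trans t.isLt hdn⟩, fun a b h => h⟩

lemma iota_le (hdn : d < n) (w : Idx d n) : iota hdn ≤ w := fun t =>
  Fin.le_def.mpr (SMT.val_le_of_strictMono w.1 w.2 t)

lemma codeg_iota (hdn : d < n) : codeg (iota hdn) = 0 := by
  unfold codeg
  refine Finset.sum_eq_zero fun t _ => ?_
  show t.val - t.val = 0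
  exact Nat.sub_self _

theorem dim_schubert (hd : 0 < d) (hdn : d < n) : ∀ (N : ℕ) (w : Idx d n), codeg w = N →
    ringKrullDim (PlRing K d n ⧸ schubertVanishing K d n w) = ((N + 1 : ℕ) : WithBot ℕ∞) := by
  intro N
  induction N using Nat.strong_induction_on with
  | _ N ih =>
  intro w hN
  haveI hprime := isPrime_J K hd w
  obtain ⟨x, hx⟩ : ∃ x : PlRing K d n ⧸ schubertVanishing K d n w,
      x = Ideal.Quotient.mk _ (X w) := ⟨_, rfl⟩
  have hx0 : x ≠ 0 := by
    rw [hx]
    intro h0
    exact X_not_mem K w w le_rfl (Ideal.Quotient.eq_zero_iff_mem.mp h0)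
  obtain ⟨𝔪, h𝔪⟩ : ∃ 𝔪 : Ideal (PlRing K d n ⧸ schubertVanishing K d n w),
      𝔪 = RingHom.ker (evBar K hd w) := ⟨_, rfl⟩
  haveI hmax : 𝔪.IsMaximal := by
    rw [h𝔪]
    exact RingHom.ker_isMaximal_of_surjective _ (evBar_surjective K hd w)
  have hx𝔪 : x ∈ 𝔪 := by
    rw [h𝔪, hx, RingHom.mem_ker]
    exact evBar_X K hd w w
  have hht : (𝔪.height : WithBot ℕ∞) = ringKrullDim (PlRing K d n ⧸ schubertVanishing K d n w) :=
    Groth.Agent.Helper5.FtDim.height_of_isMaximal K _ 𝔪
  have h𝔪0 : 𝔪 ≠ ⊥ := by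
    intro h0
    rw [h0, Ideal.mem_bot] at hx𝔪
    exact hx0 hx𝔪
  have hone : (1 : WithBot ℕ∞) ≤ (𝔪.height : WithBot ℕ∞) := by
    have h1 : 𝔪.height ≠ 0 := fun h => h𝔪0 (Ideal.height_eq_zero_iff_eq_bot.mp h)
    have h2 : (1 : ℕ∞) ≤ 𝔪.height := Order.one_le_iff_pos.mpr (pos_iff_ne_zero.mpr h1)
    exact_mod_cast h2
  by_cases hw : w = iota hdn
  · -- the bottom case
    have hN0 : N = 0 := by rw [← hN, hw, codeg_iota]
    subst hN0
    apply le_antisymm
    · -- the ring is generated by `x`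
      have hsurj : Function.Surjective
          (Polynomial.aeval (R := K) x : Polynomial K →ₐ[K] _) := by
        rw [← AlgHom.range_eq_top, eq_top_iff]
        have h1 : (Ideal.Quotient.mkₐ K (schubertVanishing K d n w)).range = ⊤ :=
          (AlgHom.range_eq_top _).mpr (Ideal.Quotient.mkₐ_surjective K _)
        rw [← h1, ← Algebra.map_top, ← MvPolynomial.adjoin_range_X, AlgHom.map_adjoin,
          Algebra.adjoin_le_iff]
        rintro _ ⟨_, ⟨θ, rfl⟩, rfl⟩
        by_cases hθ : θ = w
        · rw [hθ]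
          refine ⟨Polynomial.X, ?_⟩
          show Polynomial.aeval x Polynomial.X = _
          rw [Polynomial.aeval_X, hx]
          rfl
        · have hθw : ¬ θ ≤ w := by
            intro hle
            rw [hw] at hle
            exact hθ (by rw [hw]; exact le_antisymm hle (iota_le hdn θ))
          have h0 : Ideal.Quotient.mkₐ K (schubertVanishing K d n w) (X θ) = 0 :=
            Ideal.Quotient.eq_zero_iff_mem.mpr (X_mem_schubertVanishing K w θ hθw)
          rw [SetLike.mem_coe, h0]
          exact zero_mem _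
      have h2 := ringKrullDim_le_of_surjective
        (Polynomial.aeval (R := K) x : Polynomial K →ₐ[K] _).toRingHom hsurj
      rw [Polynomial.ringKrullDim_of_isNoetherianRing, ringKrullDim_eq_zero_of_field,
        zero_add] at h2
      exact_mod_cast h2
    · rw [← hht]
      exact_mod_cast hone
  · -- the inductive case
    have hlt : iota hdn < w := lt_of_le_of_ne (iota_le hdn w) (fun h => hw h.symm)
    obtain ⟨φ₁, hφ₁, -⟩ := Groth.Agent.S11268.result d n (iota hdn) w hlt
    have hdiv : ∀ φ ∈ divisors w, ringKrullDim (PlRing K d n ⧸ schubertVanishing K d n φ) =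
        ((N : ℕ) : WithBot ℕ∞) := by
      intro φ hφ
      have h1 : codeg φ + 1 = N := by rw [← hN]; exact hφ.2
      have h2 := ih (codeg φ) (by omega) φ rfl
      rw [h2, h1]
    apply le_antisymm
    · -- upper bound
      have h1 : (𝔪.height : WithBot ℕ∞) ≤
          ringKrullDim ((PlRing K d n ⧸ schubertVanishing K d n w) ⧸ Ideal.span {x}) + 1 :=
        Ideal.height_le_ringKrullDim_quotient_add_one hx𝔪
      have hmap : Ideal.span {x} = (Ideal.span {(X w : PlRing K d n)}).map
          (Ideal.Quotient.mk (schubertVanishing K d n w)) := by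
        rw [Ideal.map_span, Set.image_singleton, hx]
      have h2 : ringKrullDim ((PlRing K d n ⧸ schubertVanishing K d n w) ⧸ Ideal.span {x}) =
          ringKrullDim (PlRing K d n ⧸ ⨅ φ ∈ divisors w, schubertVanishing K d n φ) := by
        rw [hmap, ringKrullDim_eq_of_ringEquiv (DoubleQuot.quotQuotEquivQuotSup _ _),
          s11254 K hd w ⟨iota hdn, hlt⟩]
      have h3 : ringKrullDim (PlRing K d n ⧸ ⨅ φ ∈ divisors w, schubertVanishing K d n φ) ≤
          ((N : ℕ) : WithBot ℕ∞) :=
        dim_quotient_iInf_le (divisors w) (Set.toFinite _)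
          (fun φ => schubertVanishing K d n φ) _ (fun φ hφ => (hdiv φ hφ).le)
      rw [← hht]
      refine le_trans h1 ?_
      rw [h2]
      refine le_trans (add_le_add h3 le_rfl) ?_
      push_cast
      exact le_rfl
    · -- lower bound
      have hle : schubertVanishing K d n w ≤ schubertVanishing K d n φ₁ :=
        schubertVanishing_anti K φ₁ w hφ₁.1.le
      haveI hprime₁ := isPrime_J K hd φ₁
      obtain ⟨q, hq⟩ : ∃ q : Ideal (PlRing K d n ⧸ schubertVanishing K d n w),
          q = (schubertVanishing K d n φ₁).map (Ideal.Quotient.mk _) := ⟨_, rfl⟩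
      haveI hqprime : q.IsPrime := by
        rw [hq]
        exact Ideal.map_isPrime_of_surjective Ideal.Quotient.mk_surjective (by
          rw [Ideal.mk_ker]; exact hle)
      have hxq : x ∈ q := by
        rw [hq, hx]
        exact Ideal.mem_map_of_mem _ (X_mem_schubertVanishing K φ₁ w
          (fun h => absurd hφ₁.1 (not_lt_of_ge h)))
      have hq0 : q ≠ ⊥ := by
        intro h0
        rw [h0, Ideal.mem_bot] at hxq
        exact hx0 hxq
      have hqone : (1 : WithBot ℕ∞) ≤ (q.height : WithBot ℕ∞) := by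
        have h1 : q.height ≠ 0 := fun h => hq0 (Ideal.height_eq_zero_iff_eq_bot.mp h)
        have h2 : (1 : ℕ∞) ≤ q.height := Order.one_le_iff_pos.mpr (pos_iff_ne_zero.mpr h1)
        exact_mod_cast h2
      have hsum := Groth.Agent.Helper5.FtDim.height_add_dim_quotient K
        (PlRing K d n ⧸ schubertVanishing K d n w) q
      have hquot : ringKrullDim ((PlRing K d n ⧸ schubertVanishing K d n w) ⧸ q) =
          ((N : ℕ) : WithBot ℕ∞) := by
        rw [hq, ringKrullDim_eq_of_ringEquiv (DoubleQuot.quotQuotEquivQuotSup _ _),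
          sup_eq_right.mpr hle]
        exact hdiv φ₁ hφ₁
      rw [← hsum, hquot]
      push_cast
      rw [add_comm]
      exact add_le_add hqone le_rfl

/-- Dimension of the cone over a Schubert variety. -/
theorem s11255 (hd : 0 < d) (hdn : d < n) (w : Idx d n) :
    ringKrullDim (PlRing K d n ⧸ schubertVanishing K d n w) =
      ((codeg w + 1 : ℕ) : WithBot ℕ∞) :=
  dim_schubert K hd hdn (codeg w) w rfl

end schubert

end Groth.Agent.Helper8.SMT10
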