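import Mathlib
import Groth.Prelude.Def_W4bk4grassmannianPl
import Groth.Agent.Helper8.Cell2
import Groth.Agent.Helper8.SMT10

set_option autoImplicit false

namespace Groth.Agent.Helper8.Cell3

open W4bk4grassmannian MvPolynomial Groth.Agent.Helper8.SMT3 Groth.Agent.Helper8.SMT4

universe u

/-! ### Combinatorics of sorted tuples -/

section comb

variable {d n : ℕ}

lemma sort_update_not_le (τ : Idx d n) (t : Fin d) (i : Fin n) (hi : τ.1 t < i)
    (h : (Finset.univ.image (Function.update τ.1 t i)).card = d) :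
    ¬ sortIdx d n (Function.update τ.1 t i) h ≤ τ := by
  classical
  intro hle
  obtain ⟨θ', hθ'⟩ : ∃ θ' : Idx d n, θ' = sortIdx d n (Function.update τ.1 t i) h := ⟨_, rfl⟩
  rw [← hθ'] at hle
  have himg : Finset.univ.image θ'.1 = Finset.univ.image (Function.update τ.1 t i) := by
    rw [hθ']
    exact PluckerQ.image_sortIdx _ h
  have h1 : (Finset.univ.filter (fun s : Fin d => s ≤ t)).image θ'.1 ⊆
      (Finset.univ.image θ'.1).filter (fun v => v ≤ τ.1 t) := by
    intro v hv
    rw [Finset.mem_image] at hv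
    obtain ⟨s, hs, rfl⟩ := hv
    rw [Finset.mem_filter] at hs ⊢
    exact ⟨Finset.mem_image_of_mem _ (Finset.mem_univ _),
      le_trans (hle s) (τ.2.monotone hs.2)⟩
  have h2 : (Finset.univ.image (Function.update τ.1 t i)).filter (fun v => v ≤ τ.1 t) ⊆
      (Finset.univ.filter (fun s : Fin d => s < t)).image τ.1 := by
    intro v hv
    rw [Finset.mem_filter, Finset.mem_image] at hv
    obtain ⟨⟨s, -, hs⟩, hvle⟩ := hv
    by_cases hst : s = t
    · rw [hst, Function.update_self] at hs
      rw [← hs] at hvle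
      exact absurd hi (not_lt.mpr hvle)
    · rw [Function.update_of_ne hst] at hs
      rw [Finset.mem_image]
      refine ⟨s, ?_, hs⟩
      rw [Finset.mem_filter]
      refine ⟨Finset.mem_univ _, lt_of_le_of_ne ?_ hst⟩
      rw [← hs] at hvle
      exact τ.2.le_iff_le.mp hvle
  have c1 : ((Finset.univ.filter (fun s : Fin d => s ≤ t)).image θ'.1).card = t.val + 1 := by
    rw [Finset.card_image_of_injective _ θ'.2.injective]
    have e1 : Finset.univ.filter (fun s : Fin d => s ≤ t) = Finset.Iic t := by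
      ext s
      simp
    rw [e1, Fin.card_Iic]
  have c2 : ((Finset.univ.filter (fun s : Fin d => s < t)).image τ.1).card = t.val := by
    rw [Finset.card_image_of_injective _ τ.2.injective]
    have e1 : Finset.univ.filter (fun s : Fin d => s < t) = Finset.Iio t := by
      ext s
      simp
    rw [e1, Fin.card_Iio]
  have c3 := Finset.card_le_card h1
  have c4 := Finset.card_le_card h2
  rw [himg] at c3
  omega

lemma coord_eq_zero_of_repeat (K : Type u) [CommRing K] (a : Fin d → Fin n) (s t : Fin d)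
    (hst : s ≠ t) (h : a s = a t) : coord K d n a = 0 := by
  unfold coord
  rw [dif_neg]
  intro hc
  exact hst (PluckerQ.injective_of_card_image a hc h)

lemma coord_update_mem (K : Type u) [Field K] (τ : Idx d n) (t : Fin d) (i : Fin n)
    (hi : τ.1 t < i) :
    coord K d n (Function.update τ.1 t i) ∈ schubertVanishing K d n τ := by
  unfold coord
  split_ifs with h
  · exact Ideal.mul_mem_left _ _
      (X_mem_schubertVanishing K τ _ (sort_update_not_le τ t i hi h))
  · exact Ideal.zero_mem _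

end comb

/-! ### The cell -/

section cell

variable (K : Type u) [Field K] {d n : ℕ} (τ : Idx d n)

/-- The free positions of the cell. -/
def Free : Type := {p : Fin n × Fin d // p.1 < τ.1 p.2 ∧ ∀ s, τ.1 s ≠ p.1}

/-- The polynomial ring on the free positions and one extra variable. -/
abbrev Qr : Type u := MvPolynomial (Option (Free τ)) K

open Classical in
/-- The cell matrix. -/
noncomputable def Cm : Matrix (Fin n) (Fin d) (Qr K τ) := fun i t =>
  if h : ∃ s, τ.1 s = i then (if τ.1 t = i then 1 else 0)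
  else if h2 : i < τ.1 t then X (some ⟨(i, t), ⟨h2, fun s hs => h ⟨s, hs⟩⟩⟩) else 0

/-- The scaling of the first column. -/
noncomputable def dg : Fin d → Qr K τ := fun t => if t.val = 0 then X none else 1

/-- The matrix of the cone over the cell. -/
noncomputable def Zu : Matrix (Fin n) (Fin d) (Qr K τ) := Cm K τ * Matrix.diagonal (dg K τ)

lemma Cm_sub : (Cm K τ).submatrix τ.1 id = 1 := by
  classical
  refine Matrix.ext fun s t => ?_
  rw [Matrix.submatrix_apply, Matrix.one_apply]
  unfold Cm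
  rw [dif_pos ⟨s, rfl⟩]
  show (if τ.1 t = τ.1 s then (1 : Qr K τ) else 0) = _
  by_cases hst : s = t
  · rw [if_pos hst, if_pos (by rw [hst])]
  · rw [if_neg hst, if_neg (fun h => hst (τ.2.injective h).symm)]

lemma Cm_zero (i : Fin n) (t : Fin d) (h : τ.1 t < i) : Cm K τ i t = 0 := by
  classical
  unfold Cm
  by_cases h1 : ∃ s, τ.1 s = i
  · rw [dif_pos h1, if_neg (ne_of_lt h)]
  · rw [dif_neg h1, dif_neg (not_lt.mpr h.le)]

lemma Cm_free (p : Free τ) : Cm K τ p.1.1 p.1.2 = X (some p) := by
  classical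
  unfold Cm
  have h1 : ¬ ∃ s, τ.1 s = p.1.1 := fun ⟨s, hs⟩ => p.2.2 s hs
  rw [dif_neg h1, dif_pos p.2.1]
  rfl

lemma prod_dg (hd : 0 < d) : ∏ t, dg K τ t = X none := by
  classical
  rw [Finset.prod_eq_single (⟨0, hd⟩ : Fin d)]
  · unfold dg
    rw [if_pos rfl]
  · intro t _ ht
    unfold dg
    rw [if_neg (fun h => ht (Fin.ext h))]
  · intro h
    exact absurd (Finset.mem_univ _) h

lemma det_Zu (hd : 0 < d) (r : Fin d → Fin n) :
    ((Zu K τ).submatrix r id).det = ((Cm K τ).submatrix r id).det * X none := by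
  classical
  unfold Zu
  have h := Matrix.submatrix_mul (Cm K τ) (Matrix.diagonal (dg K τ)) r id (id : Fin d → Fin d)
    Function.bijective_id
  rw [h, Matrix.submatrix_id_id, Matrix.det_mul, Matrix.det_diagonal, prod_dg K τ hd]

/-- The comorphism of the cone over the cell. -/
noncomputable def Phi0 : PlRing K d n →ₐ[K] Qr K τ :=
  MvPolynomial.aeval (fun θ : Idx d n => ((Zu K τ).submatrix θ.1 id).det)

lemma Phi0_X (hd : 0 < d) (θ : Idx d n) :
    Phi0 K τ (X θ) = ((Cm K τ).submatrix θ.1 id).det * X none := by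
  unfold Phi0
  rw [aeval_X, det_Zu K τ hd]

lemma Phi0_X_tau (hd : 0 < d) : Phi0 K τ (X τ) = X none := by
  rw [Phi0_X K τ hd, Cm_sub, Matrix.det_one, one_mul]

lemma Phi0_coord [Infinite K] (hd : 0 < d) (a : Fin d → Fin n) :
    Phi0 K τ (coord K d n a) = ((Cm K τ).submatrix a id).det * X none := by
  unfold Phi0
  rw [Cell2.aeval_coord, det_Zu K τ hd]

lemma Phi0_coord_update [Infinite K] (hd : 0 < d) (i : Fin n) (t : Fin d) :
    Phi0 K τ (coord K d n (Function.update τ.1 t i)) = Cm K τ i t * X none := by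
  rw [Phi0_coord K τ hd, Cell2.det_update_of_submatrix_one _ _ (Cm_sub K τ)]

lemma Phi0_mem [Infinite K] (f : PlRing K d n) (hf : f ∈ schubertVanishing K d n τ) :
    Phi0 K τ f = 0 := by
  classical
  apply MvPolynomial.funext
  intro y
  rw [map_zero]
  obtain ⟨A, hA⟩ : ∃ A : Matrix (Fin n) (Fin d) K, A = (Zu K τ).map (eval y) := ⟨_, rfl⟩
  have h1 : (MvPolynomial.aeval y : Qr K τ →ₐ[K] K).comp (Phi0 K τ) = evalMinors K d n A := by
    apply MvPolynomial.algHom_ext
    intro θ
    rw [AlgHom.comp_apply]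
    unfold Phi0 evalMinors
    rw [aeval_X, aeval_X, AlgHom.map_det]
    congr 1
    rw [hA]
    rfl
  have h2 := AlgHom.congr_fun h1 f
  rw [AlgHom.comp_apply] at h2
  have hstair : A = stairG (fun p : Fin n × Fin d => A p.1 p.2) τ := by
    refine Matrix.ext fun i t => ?_
    unfold stairG
    by_cases hit : i ≤ τ.1 t
    · rw [if_pos hit]
    · rw [if_neg hit, hA, Matrix.map_apply]
      unfold Zu
      rw [Matrix.mul_diagonal, Cm_zero K τ i t (not_le.mp hit), zero_mul, map_zero]
  have h3 : evalMinors K d n A f = 0 := by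
    unfold schubertVanishing at hf
    have h4 := Ideal.mem_iInf.mp hf A
    have h5 := Ideal.mem_iInf.mp h4 (fun φ hφ => by
      rw [hstair]
      exact stairG_minor_zero _ τ φ hφ)
    exact RingHom.mem_ker.mp h5
  rw [h3] at h2
  exact h2

end cell

/-! ### The two localizations -/

section loc

variable (K : Type u) [Field K] [Infinite K] {d n : ℕ} (τ : Idx d n) (hd : 0 < d)

/-- The coordinate ring of the cone over the Schubert variety. -/
abbrev Rt : Type u := PlRing K d n ⧸ schubertVanishing K d n τ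

/-- The class of the top coordinate. -/
noncomputable def xx : Rt K τ := Ideal.Quotient.mk _ (X τ)

/-- Its localization. -/
abbrev At : Type u := Localization.Away (xx K τ)

/-- The localized polynomial ring. -/
abbrev Pt : Type u := Localization.Away (X none : Qr K τ)

/-- The induced map on the quotient. -/
noncomputable def PhiBar : Rt K τ →ₐ[K] Qr K τ :=
  Ideal.Quotient.liftₐ _ (Phi0 K τ) (fun a ha => Phi0_mem K τ a ha)

lemma PhiBar_mk (f : PlRing K d n) : PhiBar K τ (Ideal.Quotient.mk _ f) = Phi0 K τ f := by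
  unfold PhiBar
  rw [Ideal.Quotient.liftₐ_apply, Ideal.Quotient.lift_mk]
  rfl

include hd in
lemma PhiBar_xx : PhiBar K τ (xx K τ) = X none := by
  unfold xx
  rw [PhiBar_mk, Phi0_X_tau K τ hd]

/-- The composite to the localized polynomial ring. -/
noncomputable def PhiR : Rt K τ →+* Pt K τ :=
  (algebraMap (Qr K τ) (Pt K τ)).comp (PhiBar K τ).toRingHom

include hd in
lemma PhiR_unit : IsUnit (PhiR K τ (xx K τ)) := by
  have h : PhiR K τ (xx K τ) = algebraMap (Qr K τ) (Pt K τ) (X none) := by
    unfold PhiR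
    rw [RingHom.comp_apply]
    show algebraMap _ _ (PhiBar K τ (xx K τ)) = _
    rw [PhiBar_xx K τ hd]
  rw [h]
  exact IsLocalization.Away.algebraMap_isUnit _

/-- The map from the localization of the coordinate ring. -/
noncomputable def Phi (hd : 0 < d) : At K τ →+* Pt K τ :=
  IsLocalization.Away.lift (xx K τ) (PhiR_unit K τ hd)

lemma Phi_alg (r : Rt K τ) :
    Phi K τ hd (algebraMap (Rt K τ) (At K τ) r) =
      algebraMap (Qr K τ) (Pt K τ) (PhiBar K τ r) := by
  unfold Phi
  rw [IsLocalization.Away.lift_eq]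
  rfl

/-- The class of a signed coordinate. -/
noncomputable def nu (i : Fin n) (t : Fin d) : Rt K τ :=
  Ideal.Quotient.mk _ (coord K d n (Function.update τ.1 t i))

/-- The inverse of the top coordinate. -/
noncomputable def xi : At K τ := IsLocalization.Away.invSelf (S := At K τ) (xx K τ)

lemma xx_xi : algebraMap (Rt K τ) (At K τ) (xx K τ) * xi K τ = 1 :=
  IsLocalization.Away.mul_invSelf _

/-- The map from the polynomial ring. -/
noncomputable def Psi0 : Qr K τ →ₐ[K] At K τ :=
  MvPolynomial.aeval (fun o : Option (Free τ) => Option.elim o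
    (algebraMap (Rt K τ) (At K τ) (xx K τ))
    (fun p => algebraMap (Rt K τ) (At K τ) (nu K τ p.1.1 p.1.2) * xi K τ))

lemma Psi0_none : Psi0 K τ (X none) = algebraMap (Rt K τ) (At K τ) (xx K τ) := by
  unfold Psi0
  rw [aeval_X]
  rfl

lemma Psi0_some (p : Free τ) : Psi0 K τ (X (some p)) =
    algebraMap (Rt K τ) (At K τ) (nu K τ p.1.1 p.1.2) * xi K τ := by
  unfold Psi0
  rw [aeval_X]
  rfl

lemma Psi0_unit : IsUnit ((Psi0 K τ).toRingHom (X none)) := by
  show IsUnit (Psi0 K τ (X none))
  rw [Psi0_none]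
  exact IsLocalization.Away.algebraMap_isUnit _

/-- The map from the localized polynomial ring. -/
noncomputable def Psi : Pt K τ →+* At K τ :=
  IsLocalization.Away.lift (X none : Qr K τ) (Psi0_unit K τ)

lemma Psi_alg (q : Qr K τ) : Psi K τ (algebraMap (Qr K τ) (Pt K τ) q) = Psi0 K τ q := by
  unfold Psi
  rw [IsLocalization.Away.lift_eq]
  rfl

/-- The inverse of the extra variable. -/
noncomputable def ui : Pt K τ := IsLocalization.Away.invSelf (S := Pt K τ) (X none : Qr K τ)

lemma u_ui : algebraMap (Qr K τ) (Pt K τ) (X none) * ui K τ = 1 :=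
  IsLocalization.Away.mul_invSelf _

lemma Psi_ui : Psi K τ (ui K τ) = xi K τ := by
  have h1 : Psi K τ (algebraMap (Qr K τ) (Pt K τ) (X none)) * Psi K τ (ui K τ) = 1 := by
    rw [← map_mul, u_ui, map_one]
  rw [Psi_alg, Psi0_none] at h1
  calc Psi K τ (ui K τ) = (algebraMap (Rt K τ) (At K τ) (xx K τ) * xi K τ) * Psi K τ (ui K τ) := by
        rw [xx_xi, one_mul]
    _ = xi K τ * (algebraMap (Rt K τ) (At K τ) (xx K τ) * Psi K τ (ui K τ)) := by ring
    _ = xi K τ := by rw [h1, mul_one]

lemma Phi_xi : Phi K τ hd (xi K τ) = ui K τ := by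
  have h1 : Phi K τ hd (algebraMap (Rt K τ) (At K τ) (xx K τ)) * Phi K τ hd (xi K τ) = 1 := by
    rw [← map_mul, xx_xi, map_one]
  rw [Phi_alg, PhiBar_xx K τ hd] at h1
  calc Phi K τ hd (xi K τ) =
        (algebraMap (Qr K τ) (Pt K τ) (X none) * ui K τ) * Phi K τ hd (xi K τ) := by
        rw [u_ui, one_mul]
    _ = ui K τ * (algebraMap (Qr K τ) (Pt K τ) (X none) * Phi K τ hd (xi K τ)) := by ring
    _ = ui K τ := by rw [h1, mul_one]

theorem Phi_Psi (z : Pt K τ) : Phi K τ hd (Psi K τ z) = z := by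
  have h : (Phi K τ hd).comp (Psi K τ) = RingHom.id _ := by
    apply IsLocalization.ringHom_ext (Submonoid.powers (X none : Qr K τ))
    apply MvPolynomial.ringHom_ext
    · intro c
      rw [RingHom.comp_apply, RingHom.comp_apply, RingHom.comp_apply, RingHom.id_apply, Psi_alg]
      have e1 : Psi0 K τ (C c) = algebraMap (Rt K τ) (At K τ) (algebraMap K (Rt K τ) c) := by
        rw [← IsScalarTower.algebraMap_apply]
        exact (Psi0 K τ).commutes c
      rw [e1, Phi_alg, AlgHom.commutes]
      rfl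
    · intro o
      rw [RingHom.comp_apply, RingHom.comp_apply, RingHom.comp_apply, RingHom.id_apply, Psi_alg]
      rcases o with _ | p
      · rw [Psi0_none, Phi_alg, PhiBar_xx K τ hd]
      · rw [Psi0_some, map_mul, Phi_alg, Phi_xi]
        unfold nu
        rw [PhiBar_mk, Phi0_coord_update K τ hd, Cm_free, map_mul, mul_assoc, u_ui, mul_one]
  exact RingHom.congr_fun h z

include hd in
lemma Psi_injective : Function.Injective (Psi K τ) :=
  Function.LeftInverse.injective (Phi_Psi K τ hd)

/-! ### Surjectivity -/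

lemma xx_mem : algebraMap (Rt K τ) (At K τ) (xx K τ) ∈ (Psi K τ).range :=
  ⟨algebraMap (Qr K τ) (Pt K τ) (X none), by rw [Psi_alg, Psi0_none]⟩

lemma xi_mem : xi K τ ∈ (Psi K τ).range := ⟨ui K τ, Psi_ui K τ⟩

lemma ent_mem (i : Fin n) (t : Fin d) :
    algebraMap (Rt K τ) (At K τ) (nu K τ i t) * xi K τ ∈ (Psi K τ).range := by
  classical
  by_cases h : ∃ s, τ.1 s = i
  · obtain ⟨s, rfl⟩ := h
    by_cases hst : s = t
    · have e1 : nu K τ (τ.1 s) t = xx K τ := by
        unfold nu xx
        rw [hst, Function.update_eq_self, PluckerQ.coord_strictMono τ.1 τ.2]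
      rw [e1, xx_xi]
      exact Subring.one_mem _
    · have e1 : nu K τ (τ.1 s) t = 0 := by
        unfold nu
        rw [coord_eq_zero_of_repeat K _ s t hst (by
          rw [Function.update_of_ne hst, Function.update_self]), map_zero]
      rw [e1, map_zero, zero_mul]
      exact Subring.zero_mem _
  · have hnot : ∀ s, τ.1 s ≠ i := fun s hs => h ⟨s, hs⟩
    rcases lt_trichotomy i (τ.1 t) with hlt | heq | hgt
    · obtain ⟨p, hp⟩ : ∃ p : Free τ, p = ⟨(i, t), ⟨hlt, hnot⟩⟩ := ⟨_, rfl⟩
      refine ⟨algebraMap (Qr K τ) (Pt K τ) (X (some p)), ?_⟩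
      rw [Psi_alg, Psi0_some, hp]
    · exact absurd heq.symm (hnot t)
    · have e1 : nu K τ i t = 0 := by
        unfold nu
        exact Ideal.Quotient.eq_zero_iff_mem.mpr (coord_update_mem K τ t i hgt)
      rw [e1, map_zero, zero_mul]
      exact Subring.zero_mem _

include hd in
lemma X_mem (θ : Idx d n) :
    algebraMap (Rt K τ) (At K τ) (Ideal.Quotient.mk _ (X θ)) ∈ (Psi K τ).range := by
  have hid : (Ideal.Quotient.mk (schubertVanishing K d n τ) (X θ)) * xx K τ ^ (d - 1) =
      Matrix.det (Matrix.of fun s t : Fin d => nu K τ (θ.1 s) t) := by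
    have h1 := Cell2.vanishing_le K d n τ (Cell2.pluckerId K d n τ θ)
    rw [← Ideal.Quotient.eq_zero_iff_mem, map_sub, sub_eq_zero, map_mul, map_pow,
      RingHom.map_det] at h1
    rw [show xx K τ = Ideal.Quotient.mk _ (X τ) from rfl, h1]
    congr 1
  have h2 := congrArg (algebraMap (Rt K τ) (At K τ)) hid
  rw [map_mul, map_pow, RingHom.map_det] at h2
  obtain ⟨Nm, hNm⟩ : ∃ Nm : Matrix (Fin d) (Fin d) (At K τ),
      Nm = (algebraMap (Rt K τ) (At K τ)).mapMatrix
        (Matrix.of fun s t : Fin d => nu K τ (θ.1 s) t) := ⟨_, rfl⟩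
  rw [← hNm] at h2
  obtain ⟨E, hE⟩ : ∃ E : Matrix (Fin d) (Fin d) (At K τ), E = xi K τ • Nm := ⟨_, rfl⟩
  have hEdet : E.det = xi K τ ^ d * Nm.det := by
    rw [hE, Matrix.det_smul, Fintype.card_fin]
  have hEmem : E.det ∈ (Psi K τ).range := by
    apply Cell2.det_mem_subring
    intro s t
    rw [hE, Matrix.smul_apply, hNm, RingHom.mapMatrix_apply, Matrix.map_apply, Matrix.of_apply,
      smul_eq_mul, mul_comm]
    exact ent_mem K τ (θ.1 s) t
  have hd' : d = (d - 1) + 1 := by omega
  have hfin : algebraMap (Rt K τ) (At K τ) (Ideal.Quotient.mk _ (X θ)) =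
      algebraMap (Rt K τ) (At K τ) (xx K τ) * E.det := by
    have e1 : algebraMap (Rt K τ) (At K τ) (Ideal.Quotient.mk _ (X θ)) =
        (algebraMap (Rt K τ) (At K τ) (Ideal.Quotient.mk _ (X θ)) *
          algebraMap (Rt K τ) (At K τ) (xx K τ) ^ (d - 1)) * xi K τ ^ (d - 1) := by
      rw [mul_assoc, ← mul_pow, xx_xi, one_pow, mul_one]
    rw [e1, h2, hEdet]
    have e2 : xi K τ ^ d = xi K τ ^ (d - 1) * xi K τ := by
      rw [← pow_succ, Nat.sub_add_cancel hd]
    rw [e2]
    have e3 := xx_xi K τ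
    linear_combination (-(xi K τ ^ (d - 1) * Nm.det)) * e3
  rw [hfin]
  exact Subring.mul_mem _ (xx_mem K τ) hEmem

include hd in
lemma alg_mem (r : Rt K τ) : algebraMap (Rt K τ) (At K τ) r ∈ (Psi K τ).range := by
  obtain ⟨f, rfl⟩ := Ideal.Quotient.mk_surjective r
  induction f using MvPolynomial.induction_on with
  | C c =>
    refine ⟨algebraMap (Qr K τ) (Pt K τ) (C c), ?_⟩
    rw [Psi_alg]
    have e1 : Psi0 K τ (C c) = algebraMap K (At K τ) c := (Psi0 K τ).commutes c
    rw [e1, IsScalarTower.algebraMap_apply K (Rt K τ) (At K τ)]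
    rfl
  | add p q hp hq =>
    rw [map_add, map_add]
    exact Subring.add_mem _ hp hq
  | mul_X p θ hp =>
    rw [map_mul, map_mul]
    exact Subring.mul_mem _ hp (X_mem K τ hd θ)

include hd in
theorem Psi_surjective : Function.Surjective (Psi K τ) := by
  intro z
  obtain ⟨r, ⟨_, k, rfl⟩, rfl⟩ := IsLocalization.exists_mk'_eq (Submonoid.powers (xx K τ)) z
  have h1 : IsLocalization.mk' (At K τ) r (⟨xx K τ ^ k, k, rfl⟩ : Submonoid.powers (xx K τ)) =
      algebraMap (Rt K τ) (At K τ) r * xi K τ ^ k := by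
    rw [IsLocalization.mk'_eq_iff_eq_mul]
    show _ = _ * algebraMap (Rt K τ) (At K τ) (xx K τ ^ k)
    rw [map_pow, mul_assoc, ← mul_pow, mul_comm (xi K τ), xx_xi, one_pow, mul_one]
  have h2 : algebraMap (Rt K τ) (At K τ) r * xi K τ ^ k ∈ (Psi K τ).range :=
    Subring.mul_mem _ (alg_mem K τ hd r) (Subring.pow_mem _ (xi_mem K τ) k)
  rw [← h1] at h2
  exact h2

/-- The cell isomorphism. -/
noncomputable def equiv : Pt K τ ≃+* At K τ :=
  RingEquiv.ofBijective (Psi K τ) ⟨Psi_injective K τ hd, Psi_surjective K τ hd⟩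

include hd in
lemma xx_ne_zero : xx K τ ≠ 0 := by
  intro h
  unfold xx at h
  rw [Ideal.Quotient.eq_zero_iff_mem] at h
  exact SMT10.X_not_mem K τ τ le_rfl h

include hd in
theorem isDomain_Rt : IsDomain (Rt K τ) := by
  haveI := SMT10.isPrime_J K hd τ
  exact Ideal.Quotient.isDomain _

include hd in
theorem ufm_At : UniqueFactorizationMonoid (At K τ) :=
  MulEquiv.uniqueFactorizationMonoid (equiv K τ hd).toMulEquiv inferInstance

include hd in
theorem PhiBar_injective : Function.Injective (PhiBar K τ) := by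
  haveI := isDomain_Rt K τ hd
  have hPhi : Function.Injective (Phi K τ hd) := by
    intro a b hab
    obtain ⟨a', rfl⟩ := Psi_surjective K τ hd a
    obtain ⟨b', rfl⟩ := Psi_surjective K τ hd b
    rw [Phi_Psi, Phi_Psi] at hab
    rw [hab]
  have hinj : Function.Injective (algebraMap (Rt K τ) (At K τ)) :=
    IsLocalization.injective (At K τ)
      (powers_le_nonZeroDivisors_of_noZeroDivisors (xx_ne_zero K τ hd))
  intro a b hab
  apply hinj
  apply hPhi
  rw [Phi_alg, Phi_alg, hab]

end loc

end Groth.Agent.Helper8.Cell3
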