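import Groth.Agent.Helper8.Cell1
import Groth.Agent.Helper8.Cell3
import Groth.Agent.Helper8.SMT5
import Groth.Agent.Helper8.SMT10

/-!
# Normality of the cones over Schubert varieties
-/

universe u

open MvPolynomial W4bk4grassmannian

namespace Groth.Agent.Helper8.Cell4

lemma map_isRadical {R S : Type*} [CommRing R] [CommRing S] (f : R →+* S)
    (hf : Function.Surjective f) (I : Ideal R) (hI : I.IsRadical) (hker : RingHom.ker f ≤ I) :
    (I.map f).IsRadical := by
  intro y hy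
  obtain ⟨x, rfl⟩ := hf y
  obtain ⟨k, hk⟩ := Ideal.mem_radical_iff.mp hy
  rw [← map_pow] at hk
  have h1 : x ^ k ∈ (I.map f).comap f := hk
  rw [Ideal.comap_map_of_surjective f hf, ← RingHom.ker_eq_comap_bot, sup_eq_left.mpr hker] at h1
  exact Ideal.mem_map_of_mem f (hI (Ideal.mem_radical_iff.mpr ⟨k, h1⟩))

lemma biInf_isRadical {R ι : Type*} [CommRing R] (D : Set ι) (f : ι → Ideal R)
    (h : ∀ i ∈ D, (f i).IsRadical) : (⨅ i ∈ D, f i).IsRadical := by
  intro x hx
  obtain ⟨k, hk⟩ := Ideal.mem_radical_iff.mp hx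
  rw [Ideal.mem_iInf] at hk ⊢
  intro i
  have h1 := hk i
  rw [Ideal.mem_iInf] at h1 ⊢
  intro hi
  exact h i hi (Ideal.mem_radical_iff.mpr ⟨k, h1 hi⟩)

variable (K : Type u) [Field K] [Infinite K] {d n : ℕ}

lemma span_xx (τ : Idx d n) : Ideal.span {Cell3.xx K τ} =
    Ideal.map (Ideal.Quotient.mk (schubertVanishing K d n τ))
      (schubertVanishing K d n τ ⊔ Ideal.span {(X τ : PlRing K d n)}) := by
  unfold Cell3.xx
  rw [Ideal.map_sup, Ideal.map_quotient_self, bot_sup_eq, Ideal.map_span, Set.image_singleton]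

lemma eq_iota_of_not_lt (hdn : d < n) (τ : Idx d n) (h : ¬ ∃ φ : Idx d n, φ < τ) :
    τ = SMT10.iota hdn := by
  by_contra hne
  exact h ⟨SMT10.iota hdn, lt_of_le_of_ne (SMT10.iota_le hdn τ) (Ne.symm hne)⟩

lemma prime_xx_iota (hd : 0 < d) (hdn : d < n) : Prime (Cell3.xx K (SMT10.iota hdn : Idx d n)) :=
  SMT5.s11270 K hd hdn (SMT10.iota hdn)

theorem span_xx_isRadical (hd : 0 < d) (hdn : d < n) (τ : Idx d n) :
    (Ideal.span {Cell3.xx K τ}).IsRadical := by
  by_cases h : ∃ φ : Idx d n, φ < τ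
  · rw [span_xx, SMT4.s11254 K hd τ h]
    apply map_isRadical _ Ideal.Quotient.mk_surjective
    · exact biInf_isRadical _ _ (fun φ _ => SMT4.schubertVanishing_isRadical K φ)
    · rw [Ideal.mk_ker]
      exact le_iInf₂ fun φ hφ => SMT4.schubertVanishing_anti K φ τ hφ.1.le
  · have hτ := eq_iota_of_not_lt hdn τ h
    subst hτ
    have hp := prime_xx_iota K hd hdn
    exact ((Ideal.span_singleton_prime hp.ne_zero).mpr hp).isRadical

theorem isDomain_At (hd : 0 < d) (τ : Idx d n) : IsDomain (Cell3.At K τ) := by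
  haveI := Cell3.isDomain_Rt K τ hd
  exact IsLocalization.isDomain_localization
    (powers_le_nonZeroDivisors_of_noZeroDivisors (Cell3.xx_ne_zero K τ hd))

theorem s11259 (hd : 0 < d) (hdn : d < n) (τ : Idx d n) :
    IsDomain (PlRing K d n ⧸ schubertVanishing K d n τ) ∧
      IsIntegrallyClosed (PlRing K d n ⧸ schubertVanishing K d n τ) := by
  haveI hdom : IsDomain (Cell3.Rt K τ) := Cell3.isDomain_Rt K τ hd
  refine ⟨hdom, ?_⟩
  have hx := Cell3.xx_ne_zero K τ hd
  haveI : IsDomain (Cell3.At K τ) := isDomain_At K hd τ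
  haveI : UniqueFactorizationMonoid (Cell3.At K τ) := Cell3.ufm_At K τ hd
  have hic : IsIntegrallyClosed (Cell3.At K τ) := inferInstance
  exact Cell1.isIntegrallyClosed_of_radical (Cell3.xx K τ) hx (span_xx_isRadical K hd hdn τ) hic

end Groth.Agent.Helper8.Cell4
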