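import Groth.Agent.Helper8.Cell4
import Groth.Agent.S11268

/-!
# Factoriality of the cones over Schubert varieties
-/

set_option autoImplicit false

universe u

open MvPolynomial W4bk4grassmannian

namespace Groth.Agent.Helper8.Cell5

/-! ### Combinatorics of the divisors -/

section comb

variable {d n : ℕ}

lemma codeg_add (w : Idx d n) :
    codeg w + ∑ t : Fin d, t.val = ∑ t : Fin d, (w.1 t).val := by
  unfold codeg
  rw [← Finset.sum_add_distrib]
  refine Finset.sum_congr rfl fun t _ => ?_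
  exact Nat.sub_add_cancel (SMT.val_le_of_strictMono w.1 w.2 t)

lemma eq_of_le_of_codeg_eq (a b : Idx d n) (h : a ≤ b) (hc : codeg a = codeg b) : a = b := by
  by_contra hne
  have hex : ∃ t, a.1 t < b.1 t := by
    by_contra hcon
    push Not at hcon
    exact hne (le_antisymm h (fun t => hcon t))
  obtain ⟨t₀, ht₀⟩ := hex
  have hlt : codeg a < codeg b := by
    unfold codeg
    apply Finset.sum_lt_sum
    · intro t _
      have h1 : a.1 t ≤ b.1 t := h t
      exact Nat.sub_le_sub_right (Fin.le_def.mp h1) _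
    · refine ⟨t₀, Finset.mem_univ _, ?_⟩
      have h1 := SMT.val_le_of_strictMono a.1 a.2 t₀
      have h2 : (a.1 t₀).val < (b.1 t₀).val := Fin.lt_def.mp ht₀
      omega
  omega

lemma divisor_struct (τ φ : Idx d n) (hφ : φ ∈ divisors τ) :
    ∃ t₀ : Fin d, (φ.1 t₀).val + 1 = (τ.1 t₀).val ∧ ∀ t, t ≠ t₀ → φ.1 t = τ.1 t := by
  obtain ⟨hlt, hc⟩ := hφ
  have hle : ∀ t, (φ.1 t).val ≤ (τ.1 t).val := fun t => Fin.le_def.mp (hlt.le t)
  have hsum : ∑ t : Fin d, ((τ.1 t).val - (φ.1 t).val) = 1 := by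
    have h1 := codeg_add τ
    have h2 := codeg_add φ
    have h3 : ∑ t : Fin d, ((τ.1 t).val - (φ.1 t).val) + ∑ t : Fin d, (φ.1 t).val =
        ∑ t : Fin d, (τ.1 t).val := by
      rw [← Finset.sum_add_distrib]
      exact Finset.sum_congr rfl fun t _ => Nat.sub_add_cancel (hle t)
    omega
  have hex : ∃ t, φ.1 t < τ.1 t := by
    by_contra hcon
    push Not at hcon
    exact hlt.not_ge (fun t => hcon t)
  obtain ⟨t₀, ht₀⟩ := hex
  have ht₀' : (φ.1 t₀).val < (τ.1 t₀).val := Fin.lt_def.mp ht₀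
  rw [← Finset.add_sum_erase _ _ (Finset.mem_univ t₀)] at hsum
  have hrest : ∑ t ∈ Finset.univ.erase t₀, ((τ.1 t).val - (φ.1 t).val) = 0 := by omega
  refine ⟨t₀, by omega, fun t ht => ?_⟩
  have h0 := (Finset.sum_eq_zero_iff.mp hrest) t (Finset.mem_erase.mpr ⟨ht, Finset.mem_univ _⟩)
  apply Fin.ext
  have := hle t
  omega

/-- Positions where the index can be lowered. -/
def Valid (τ : Idx d n) (t : Fin d) : Prop :=
  t.val < (τ.1 t).val ∧ ∀ t' : Fin d, t'.val + 1 = t.val → (τ.1 t').val + 1 < (τ.1 t).val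

/-- Lowering one entry. -/
def lowerFun (τ : Idx d n) (t : Fin d) : Fin d → Fin n := fun t' =>
  if t' = t then ⟨(τ.1 t).val - 1, lt_of_le_of_lt (Nat.sub_le _ _) (τ.1 t).isLt⟩ else τ.1 t'

lemma lowerFun_self (τ : Idx d n) (t : Fin d) : ((lowerFun τ t) t).val = (τ.1 t).val - 1 := by
  unfold lowerFun
  rw [if_pos rfl]

lemma lowerFun_ne (τ : Idx d n) (t t' : Fin d) (h : t' ≠ t) : lowerFun τ t t' = τ.1 t' := by
  unfold lowerFun
  rw [if_neg h]

lemma lowerFun_strictMono (τ : Idx d n) (t : Fin d) (hV : Valid τ t) :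
    StrictMono (lowerFun τ t) := by
  intro a b hab
  rw [Fin.lt_def]
  by_cases ha : a = t
  · have hab2 : t < b := by rw [← ha]; exact hab
    have hb : b ≠ t := fun hb => by rw [hb] at hab2; exact lt_irrefl _ hab2
    rw [lowerFun_ne τ t b hb, ha, lowerFun_self]
    have h1 : (τ.1 t).val < (τ.1 b).val := Fin.lt_def.mp (τ.2 hab2)
    omega
  · by_cases hb : b = t
    · rw [lowerFun_ne τ t a ha, hb, lowerFun_self]
      have hab' : a.val < t.val := by rw [← hb]; exact Fin.lt_def.mp hab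
      obtain ⟨t', ht'⟩ : ∃ t' : Fin d, t'.val + 1 = t.val :=
        ⟨⟨t.val - 1, by have := t.isLt; omega⟩, by show t.val - 1 + 1 = t.val; omega⟩
      have h1 := hV.2 t' ht'
      have h2 : (τ.1 a).val ≤ (τ.1 t').val :=
        Fin.le_def.mp (τ.2.monotone (Fin.le_def.mpr (by omega)))
      omega
    · rw [lowerFun_ne τ t a ha, lowerFun_ne τ t b hb]
      exact Fin.lt_def.mp (τ.2 hab)

/-- The lowered index. -/
def lower (τ : Idx d n) (t : Fin d) (hV : Valid τ t) : Idx d n :=
  ⟨lowerFun τ t, lowerFun_strictMono τ t hV⟩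

lemma lower_mem (τ : Idx d n) (t : Fin d) (hV : Valid τ t) : lower τ t hV ∈ divisors τ := by
  refine ⟨lt_of_le_of_ne ?_ ?_, ?_⟩
  · intro t'
    show lowerFun τ t t' ≤ τ.1 t'
    by_cases h : t' = t
    · rw [h, Fin.le_def, lowerFun_self]
      omega
    · rw [lowerFun_ne τ t t' h]
  · intro heq
    have h1 : lowerFun τ t t = τ.1 t := congrFun (congrArg Subtype.val heq) t
    have h2 := lowerFun_self τ t
    rw [h1] at h2
    have := hV.1
    omega
  · show (∑ t' : Fin d, ((lowerFun τ t t').val - t'.val)) + 1 =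
      ∑ t' : Fin d, ((τ.1 t').val - t'.val)
    rw [← Finset.add_sum_erase _ _ (Finset.mem_univ t),
      ← Finset.add_sum_erase _ _ (Finset.mem_univ t)]
    have hrest : ∑ x ∈ Finset.univ.erase t, ((lowerFun τ t x).val - x.val) =
        ∑ x ∈ Finset.univ.erase t, ((τ.1 x).val - x.val) := by
      refine Finset.sum_congr rfl fun x hx => ?_
      rw [lowerFun_ne τ t x (Finset.ne_of_mem_erase hx)]
    rw [hrest, lowerFun_self]
    have := hV.1
    omega

lemma lower_inj (τ : Idx d n) (t₁ t₂ : Fin d) (h₁ : Valid τ t₁) (h₂ : Valid τ t₂)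
    (h : lower τ t₁ h₁ = lower τ t₂ h₂) : t₁ = t₂ := by
  by_contra hne
  have h1 : lowerFun τ t₁ t₁ = lowerFun τ t₂ t₁ := congrFun (congrArg Subtype.val h) t₁
  rw [lowerFun_ne τ t₂ t₁ hne] at h1
  have h2 := lowerFun_self τ t₁
  rw [h1] at h2
  have := h₁.1
  omega

lemma eq_id_of_not_valid (τ : Idx d n) (s : ℕ) (h : ∀ t : Fin d, t.val < s → ¬ Valid τ t) :
    ∀ (k : ℕ) (hk : k < d), k < s → (τ.1 ⟨k, hk⟩).val = k := by
  intro k
  induction k with
  | zero =>
    intro hk hks
    have h1 := h ⟨0, hk⟩ hks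
    by_contra hne
    apply h1
    refine ⟨?_, fun t' ht' => ?_⟩
    · show 0 < (τ.1 ⟨0, hk⟩).val
      omega
    · have ht'' : t'.val + 1 = 0 := ht'
      omega
  | succ k ih =>
    intro hk hks
    have h0 := ih (Nat.lt_of_succ_lt hk) (Nat.lt_of_succ_lt hks)
    have h1 := h ⟨k + 1, hk⟩ hks
    have h2 : k + 1 ≤ (τ.1 ⟨k + 1, hk⟩).val := SMT.val_le_of_strictMono τ.1 τ.2 ⟨k + 1, hk⟩
    by_contra hne
    apply h1
    refine ⟨?_, fun t' ht' => ?_⟩
    · show k + 1 < (τ.1 ⟨k + 1, hk⟩).val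
      omega
    · have ht'' : t'.val + 1 = k + 1 := ht'
      have ht'k : t' = ⟨k, Nat.lt_of_succ_lt hk⟩ := Fin.ext (by show t'.val = k; omega)
      rw [ht'k, h0]
      omega

lemma succ_of_not_valid (τ : Idx d n) (t t' : Fin d) (htt : t.val + 1 = t'.val)
    (h : ¬ Valid τ t') : (τ.1 t).val + 1 = (τ.1 t').val := by
  have h1 : (τ.1 t).val < (τ.1 t').val := Fin.lt_def.mp (τ.2 (Fin.lt_def.mpr (by omega)))
  have h2 := SMT.val_le_of_strictMono τ.1 τ.2 t
  have h3 := SMT.val_le_of_strictMono τ.1 τ.2 t'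
  by_contra hne
  apply h
  refine ⟨by omega, fun t'' ht'' => ?_⟩
  have h4 : t'' = t := Fin.ext (by omega)
  rw [h4]
  omega

theorem part_c (τ : Idx d n) : (divisors τ).Subsingleton ↔
    ∃ s : ℕ, (∀ t : Fin d, t.val < s → (τ.1 t).val = t.val) ∧
      ∀ t t' : Fin d, s ≤ t.val → t.val + 1 = t'.val → (τ.1 t).val + 1 = (τ.1 t').val := by
  constructor
  · intro hsub
    have huniq : ∀ t₁ t₂ : Fin d, Valid τ t₁ → Valid τ t₂ → t₁ = t₂ := fun t₁ t₂ h₁ h₂ =>
      lower_inj τ t₁ t₂ h₁ h₂ (hsub (lower_mem τ t₁ h₁) (lower_mem τ t₂ h₂))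
    by_cases hex : ∃ t₀ : Fin d, Valid τ t₀
    · obtain ⟨t₀, ht₀⟩ := hex
      refine ⟨t₀.val, fun t ht => ?_, fun t t' hst htt => ?_⟩
      · exact eq_id_of_not_valid τ t₀.val (fun t' ht' hV => by
          have h1 := huniq t' t₀ hV ht₀
          rw [h1] at ht'
          exact lt_irrefl _ ht') t.val t.isLt ht
      · exact succ_of_not_valid τ t t' htt (fun hV => by
          have h1 := huniq t' t₀ hV ht₀
          rw [h1] at htt
          omega)
    · push Not at hex
      refine ⟨d, fun t _ => ?_, fun t t' hst _ => ?_⟩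
      · exact eq_id_of_not_valid τ d (fun t' _ => hex t') t.val t.isLt t.isLt
      · exact absurd t.isLt (not_lt.mpr hst)
  · rintro ⟨s, h1, h2⟩ a ha b hb
    obtain ⟨ta, hta1, hta2⟩ := divisor_struct τ a ha
    obtain ⟨tb, htb1, htb2⟩ := divisor_struct τ b hb
    have key : ∀ (φ : Idx d n) (t₀ : Fin d), (φ.1 t₀).val + 1 = (τ.1 t₀).val →
        (∀ t, t ≠ t₀ → φ.1 t = τ.1 t) → t₀.val = s := by
      intro φ t₀ hφ1 hφ2
      have hge := SMT.val_le_of_strictMono φ.1 φ.2 t₀
      have hs : s ≤ t₀.val := by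
        by_contra hlt
        have := h1 t₀ (by omega)
        omega
      by_contra hne
      obtain ⟨tp, htp⟩ : ∃ tp : Fin d, tp.val + 1 = t₀.val :=
        ⟨⟨t₀.val - 1, by have := t₀.isLt; omega⟩, by show t₀.val - 1 + 1 = t₀.val; omega⟩
      have h3 := h2 tp t₀ (by omega) htp
      have h4 : φ.1 tp = τ.1 tp := hφ2 tp (fun h => by rw [h] at htp; omega)
      have h5 : (φ.1 tp).val < (φ.1 t₀).val := Fin.lt_def.mp (φ.2 (Fin.lt_def.mpr (by omega)))
      rw [h4] at h5
      omega
    have ea := key a ta hta1 hta2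
    have eb := key b tb htb1 htb2
    have hab : ta = tb := Fin.ext (by omega)
    subst hab
    apply Subtype.ext
    funext t
    by_cases ht : t = ta
    · rw [ht]
      apply Fin.ext
      omega
    · rw [hta2 t ht, htb2 t ht]

end comb

/-! ### The algebra -/

section alg

variable (K : Type u) [Field K] [Infinite K] {d n : ℕ}

theorem irreducible_xx (hd : 0 < d) (τ : Idx d n) : Irreducible (Cell3.xx K τ) := by
  have hinj := Cell3.PhiBar_injective K τ hd
  have hX : Irreducible (X none : Cell3.Qr K τ) := (MvPolynomial.X_prime).irreducible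
  have hxx := Cell3.PhiBar_xx K τ hd
  have hunit : ∀ a : Cell3.Rt K τ, IsUnit (Cell3.PhiBar K τ a) → IsUnit a := by
    intro a ha
    obtain ⟨c, hc, hac⟩ := (MvPolynomial.isUnit_iff_eq_C_of_isReduced).mp ha
    have h1 : Cell3.PhiBar K τ a = Cell3.PhiBar K τ (algebraMap K (Cell3.Rt K τ) c) := by
      rw [hac, AlgHom.commutes, MvPolynomial.algebraMap_eq]
    rw [hinj h1]
    exact hc.map (algebraMap K (Cell3.Rt K τ))
  constructor
  · intro hu
    exact hX.not_isUnit (by rw [← hxx]; exact hu.map (Cell3.PhiBar K τ))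
  · intro a b hab
    have h2 : (X none : Cell3.Qr K τ) = Cell3.PhiBar K τ a * Cell3.PhiBar K τ b := by
      rw [← map_mul, ← hab, hxx]
    rcases hX.isUnit_or_isUnit h2 with h | h
    · exact Or.inl (hunit a h)
    · exact Or.inr (hunit b h)

theorem part_a (hd : 0 < d) (τ : Idx d n) :
    UniqueFactorizationMonoid (PlRing K d n ⧸ schubertVanishing K d n τ) ↔
      Prime (Ideal.Quotient.mk (schubertVanishing K d n τ) (X τ)) := by
  haveI : IsDomain (Cell3.Rt K τ) := Cell3.isDomain_Rt K τ hd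
  constructor
  · intro hU
    exact UniqueFactorizationMonoid.irreducible_iff_prime.mp (irreducible_xx K hd τ)
  · intro hp
    have hp' : Prime (Cell3.xx K τ) := hp
    exact (UniqueFactorizationMonoid.iff_localizationAway_of_prime hp').mpr (Cell3.ufm_At K τ hd)

theorem part_b (hd : 0 < d) (hdn : d < n) (τ : Idx d n) :
    Prime (Ideal.Quotient.mk (schubertVanishing K d n τ) (X τ)) ↔
      (divisors τ).Subsingleton := by
  by_cases h : ∃ φ : Idx d n, φ < τ
  · have hx : Cell3.xx K τ ≠ 0 := Cell3.xx_ne_zero K τ hd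
    have hD : (divisors τ).Finite := Set.toFinite _
    obtain ⟨φ₀, hφ₀⟩ := h
    obtain ⟨φ₁, hφ₁, -⟩ := Groth.Agent.S11268.result d n φ₀ τ hφ₀
    have hI := SMT4.s11254 K hd τ ⟨φ₀, hφ₀⟩
    have hker : RingHom.ker (Ideal.Quotient.mk (schubertVanishing K d n τ)) ≤
        ⨅ φ ∈ divisors τ, schubertVanishing K d n φ := by
      rw [Ideal.mk_ker]
      exact le_iInf₂ fun φ hφ => SMT4.schubertVanishing_anti K φ τ hφ.1.le
    have hspan : Ideal.span {Cell3.xx K τ} =
        Ideal.map (Ideal.Quotient.mk (schubertVanishing K d n τ))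
          (⨅ φ ∈ divisors τ, schubertVanishing K d n φ) := by
      rw [Cell4.span_xx, hI]
    show Prime (Cell3.xx K τ) ↔ _
    rw [← Ideal.span_singleton_prime hx, hspan]
    constructor
    · intro hprime
      have hcomap : (⨅ φ ∈ divisors τ, schubertVanishing K d n φ).IsPrime := by
        haveI := hprime
        have h1 : ((Ideal.map (Ideal.Quotient.mk (schubertVanishing K d n τ))
            (⨅ φ ∈ divisors τ, schubertVanishing K d n φ)).comap
              (Ideal.Quotient.mk (schubertVanishing K d n τ))).IsPrime :=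
          Ideal.comap_isPrime _ _
        rw [Ideal.comap_map_of_surjective _ Ideal.Quotient.mk_surjective,
          ← RingHom.ker_eq_comap_bot, sup_eq_left.mpr hker] at h1
        exact h1
      haveI := hcomap
      obtain ⟨φ₂, hφ₂, hle⟩ := SMT10.exists_le_of_iInf_le (divisors τ) hD
        (fun φ => schubertVanishing K d n φ) (⨅ φ ∈ divisors τ, schubertVanishing K d n φ) le_rfl
      have hall : ∀ a ∈ divisors τ, a = φ₂ := by
        intro a ha
        have h1 : schubertVanishing K d n φ₂ ≤ schubertVanishing K d n a :=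
          le_trans hle (iInf₂_le a ha)
        have h2 : a ≤ φ₂ := by
          by_contra hnle
          exact SMT10.X_not_mem K a a le_rfl (h1 (SMT4.X_mem_schubertVanishing K φ₂ a hnle))
        exact eq_of_le_of_codeg_eq a φ₂ h2 (by have := ha.2; have := hφ₂.2; omega)
      intro a ha b hb
      rw [hall a ha, hall b hb]
    · intro hsub
      have hI2 : (⨅ φ ∈ divisors τ, schubertVanishing K d n φ) = schubertVanishing K d n φ₁ :=
        le_antisymm (iInf₂_le φ₁ hφ₁) (le_iInf₂ fun φ hφ => by rw [hsub hφ hφ₁])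
      rw [hI2] at hker ⊢
      haveI := SMT10.isPrime_J K hd φ₁
      exact Ideal.map_isPrime_of_surjective Ideal.Quotient.mk_surjective hker
  · have hτ := Cell4.eq_iota_of_not_lt hdn τ h
    subst hτ
    constructor
    · intro _ a ha
      exact absurd ⟨a, ha.1⟩ h
    · intro _
      exact Cell4.prime_xx_iota K hd hdn

theorem s11260 (hd : 0 < d) (hdn : d < n) (τ : Idx d n) :
    (UniqueFactorizationMonoid (PlRing K d n ⧸ schubertVanishing K d n τ) ↔
        Prime (Ideal.Quotient.mk (schubertVanishing K d n τ) (MvPolynomial.X τ))) ∧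
      (Prime (Ideal.Quotient.mk (schubertVanishing K d n τ) (MvPolynomial.X τ)) ↔
        (divisors τ).Subsingleton) ∧
      ((divisors τ).Subsingleton ↔
        ∃ s : ℕ, (∀ t : Fin d, t.val < s → (τ.1 t).val = t.val) ∧
          ∀ t t' : Fin d, s ≤ t.val → t.val + 1 = t'.val → (τ.1 t).val + 1 = (τ.1 t').val) :=
  ⟨part_a K hd τ, part_b K hd hdn τ, part_c τ⟩

end alg

end Groth.Agent.Helper8.Cell5
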