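import Mathlib

set_option autoImplicit false
universe u

namespace Groth.Agent.Helper8.CharCoef

open Polynomial Matrix

section KL
variable {K : Type*} [CommRing K] {ι : Type*} [Fintype ι] [DecidableEq ι]

theorem prod_sign_pow (s : Finset ι) : ∃ (a e : ℕ),
    (∏ i : ι, (if i ∈ s then (X : K[X]) else -1)) = C ((-1 : K) ^ e) * X ^ a := by
  refine Finset.prod_induction _ (fun z => ∃ (a e : ℕ), z = C ((-1 : K) ^ e) * X ^ a) ?_ ?_ ?_
  · rintro _ _ ⟨a, e, rfl⟩ ⟨a', e', rfl⟩
    refine ⟨a + a', e + e', ?_⟩
    rw [pow_add, pow_add, C_mul]; ring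
  · exact ⟨0, 0, by simp⟩
  · intro i _
    by_cases hi : i ∈ s
    · exact ⟨1, 0, by simp [hi]⟩
    · exact ⟨0, 1, by simp [hi]⟩

theorem det_expand (Xm M : Matrix ι ι K) :
    C Xm.det * M.charpoly = ∑ s : Finset ι,
      (∏ i : ι, (if i ∈ s then (X : K[X]) else -1)) *
        C (Matrix.det (Matrix.of (s.piecewise (fun i => Xm i) (fun i => (Xm * Mᵀ) i)))) := by
  rw [← Matrix.charpoly_transpose M]
  unfold Matrix.charpoly
  rw [RingHom.map_det, ← Matrix.det_mul]
  have hZ : (C : K →+* K[X]).mapMatrix Xm * charmatrix Mᵀ =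
      Matrix.of ((fun i => fun k => (X : K[X]) * C (Xm i k)) +
        (fun i => fun k => - C ((Xm * Mᵀ) i k))) := by
    unfold charmatrix
    rw [Matrix.mul_sub, ← RingHom.map_mul]
    ext i k
    simp only [Matrix.sub_apply, Matrix.scalar_apply, Matrix.mul_diagonal, RingHom.mapMatrix_apply,
      Matrix.map_apply, Matrix.of_apply, Pi.add_apply]
    ring
  rw [hZ]
  have hdet : ∀ Z : ι → ι → K[X], Matrix.det (Matrix.of Z) =
      (Matrix.detRowAlternating : (ι → K[X]) [⋀^ι]→ₗ[K[X]] K[X]).toMultilinearMap Z := fun Z => rfl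
  rw [hdet, MultilinearMap.map_add_univ]
  refine Finset.sum_congr rfl (fun s _ => ?_)
  have hpw : s.piecewise (fun i => fun k => (X : K[X]) * C (Xm i k))
      (fun i => fun k => - C ((Xm * Mᵀ) i k)) =
      fun i => (if i ∈ s then (X : K[X]) else -1) •
        (fun k => C ((s.piecewise (fun i => Xm i) (fun i => (Xm * Mᵀ) i)) i k)) := by
    funext i
    funext k
    by_cases hi : i ∈ s
    · simp [Finset.piecewise, hi]
    · simp [Finset.piecewise, hi]
  rw [hpw, MultilinearMap.map_smul_univ, smul_eq_mul]
  congr 1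
  rw [RingHom.map_det]
  rfl

theorem det_mul_charpoly_coeff_mem {A : Type*} [CommRing A] [Algebra A K] (D : Submodule A K)
    (Xm M : Matrix ι ι K)
    (hD : ∀ s : Finset ι,
      Matrix.det (Matrix.of (s.piecewise (fun i => Xm i) (fun i => (Xm * Mᵀ) i))) ∈ D) (j : ℕ) :
    Xm.det * M.charpoly.coeff j ∈ D := by
  have hc := congrArg (fun p => p.coeff j) (det_expand Xm M)
  simp only [coeff_C_mul, finset_sum_coeff] at hc
  rw [hc]
  refine D.sum_mem (fun s _ => ?_)
  obtain ⟨a, e, hae⟩ := prod_sign_pow (K := K) s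
  rw [hae]
  have h1 : C ((-1 : K) ^ e) * X ^ a *
      C (Matrix.det (Matrix.of (s.piecewise (fun i => Xm i) (fun i => (Xm * Mᵀ) i)))) =
      C ((-1 : K) ^ e *
        Matrix.det (Matrix.of (s.piecewise (fun i => Xm i) (fun i => (Xm * Mᵀ) i)))) * X ^ a := by
    rw [C_mul]; ring
  rw [h1, coeff_C_mul_X_pow]
  split_ifs
  · rcases neg_one_pow_eq_or K e with h | h
    · rw [h, one_mul]; exact hD s
    · rw [h, neg_one_mul]; exact D.neg_mem (hD s)
  · exact D.zero_mem

end KL


section main
open TensorProduct

variable (A : Type u) [CommRing A] (E : Type u) [AddCommGroup E] [Module A E]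

/-- the lattice: the image of `E` in `K ⊗ E` -/
def lat : Submodule A (TensorProduct A (FractionRing A) E) :=
  LinearMap.range (TensorProduct.mk A (FractionRing A) E 1)

theorem exists_smul_mem (x : TensorProduct A (FractionRing A) E) :
    ∃ s : A, s ∈ nonZeroDivisors A ∧ s • x ∈ lat A E := by
  obtain ⟨⟨e, s⟩, hs⟩ := IsLocalizedModule.surj (nonZeroDivisors A)
    (TensorProduct.mk A (FractionRing A) E 1) x
  exact ⟨s.1, s.2, ⟨e, hs.symm⟩⟩

theorem baseChange_mem_lat (v : E →ₗ[A] E) {x : TensorProduct A (FractionRing A) E}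
    (hx : x ∈ lat A E) : v.baseChange (FractionRing A) x ∈ lat A E := by
  obtain ⟨e, rfl⟩ := hx
  exact ⟨v e, by simp [LinearMap.baseChange_tmul]⟩

variable {ι : Type*} [Fintype ι] [DecidableEq ι]
  (b : Module.Basis ι (FractionRing A) (TensorProduct A (FractionRing A) E))

/-- coordinate matrix of a tuple of vectors -/
noncomputable def cmat (x : ι → TensorProduct A (FractionRing A) E) : Matrix ι ι (FractionRing A) :=
  Matrix.of (fun i k => b.repr (x i) k)

/-- the lattice of determinants -/
noncomputable def D : Submodule A (FractionRing A) :=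
  Submodule.span A {z | ∃ x : ι → TensorProduct A (FractionRing A) E,
    (∀ i, x i ∈ lat A E) ∧ z = (cmat A E b x).det}

theorem cmat_comp (φ : TensorProduct A (FractionRing A) E →ₗ[FractionRing A]
      TensorProduct A (FractionRing A) E) (x : ι → TensorProduct A (FractionRing A) E) :
    cmat A E b (fun i => φ (x i)) = cmat A E b x * (LinearMap.toMatrix b b φ)ᵀ := by
  ext i l
  have h := congrFun (LinearMap.toMatrix_mulVec_repr b b φ (x i)) l
  simp only [cmat, Matrix.of_apply, Matrix.mul_apply, Matrix.transpose_apply]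
  rw [← h, Matrix.mulVec, dotProduct]
  exact Finset.sum_congr rfl (fun k _ => mul_comm _ _)

theorem stab_gen [Module.Free (FractionRing A) (TensorProduct A (FractionRing A) E)]
    [Module.Finite (FractionRing A) (TensorProduct A (FractionRing A) E)]
    (v : E →ₗ[A] E) (j : ℕ) (d : FractionRing A) (hd : d ∈ D A E b) :
    (v.baseChange (FractionRing A)).charpoly.coeff j * d ∈ D A E b := by
  rw [← LinearMap.charpoly_toMatrix (v.baseChange (FractionRing A)) b]
  refine Submodule.span_induction (p := fun d _ =>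
    (LinearMap.toMatrix b b (v.baseChange (FractionRing A))).charpoly.coeff j * d ∈ D A E b)
    ?_ ?_ ?_ ?_ hd
  · rintro _ ⟨x, hx, rfl⟩
    rw [mul_comm]
    apply det_mul_charpoly_coeff_mem
    intro s
    refine Submodule.subset_span
      ⟨s.piecewise x (fun i => v.baseChange (FractionRing A) (x i)), ?_, ?_⟩
    · intro i
      by_cases hi : i ∈ s
      · simp only [Finset.piecewise, hi, if_true]; exact hx i
      · simp only [Finset.piecewise, hi, if_false]; exact baseChange_mem_lat A E v (hx i)
    · rw [← cmat_comp]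
      congr 1
      ext i k
      by_cases hi : i ∈ s
      · simp [Finset.piecewise, hi, cmat]
      · simp [Finset.piecewise, hi, cmat]
  · rw [mul_zero]; exact Submodule.zero_mem _
  · intro d₁ d₂ _ _ h1 h2
    rw [mul_add]; exact add_mem h1 h2
  · intro a d _ h
    rw [mul_smul_comm]; exact Submodule.smul_mem _ a h

theorem adjoin_mul_mem [Module.Free (FractionRing A) (TensorProduct A (FractionRing A) E)]
    [Module.Finite (FractionRing A) (TensorProduct A (FractionRing A) E)]
    (z : FractionRing A)
    (hz : z ∈ Algebra.adjoin A {c : FractionRing A | ∃ (v : E →ₗ[A] E) (j : ℕ),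
        c = ((v.baseChange (FractionRing A)).charpoly).coeff j})
    (d : FractionRing A) (hd : d ∈ D A E b) : z * d ∈ D A E b := by
  induction hz using Algebra.adjoin_induction generalizing d with
  | mem c hc =>
    obtain ⟨v, j, rfl⟩ := hc
    exact stab_gen A E b v j d hd
  | algebraMap a =>
    rw [← Algebra.smul_def]; exact Submodule.smul_mem _ a hd
  | add z w _ _ hz hw =>
    rw [add_mul]; exact add_mem (hz d hd) (hw d hd)
  | mul z w _ _ hz hw =>
    rw [mul_assoc]; exact hz _ (hw d hd)

theorem exists_unit_mem_D : ∃ s : A, s ∈ nonZeroDivisors A ∧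
    (algebraMap A (FractionRing A) s) ^ Fintype.card ι ∈ D A E b := by
  have h : ∀ i, ∃ s : A, s ∈ nonZeroDivisors A ∧ s • b i ∈ lat A E :=
    fun i => exists_smul_mem A E (b i)
  choose s hs hmem using h
  refine ⟨∏ i, s i, Submonoid.prod_mem _ (fun i _ => hs i), ?_⟩
  refine Submodule.subset_span ⟨fun i => (∏ i, s i) • b i, ?_, ?_⟩
  · intro i
    show (∏ i, s i) • b i ∈ lat A E
    rw [← Finset.prod_erase_mul _ _ (Finset.mem_univ i), mul_smul]
    exact Submodule.smul_mem _ _ (hmem i)
  · have hc : cmat A E b (fun i => (∏ i, s i) • b i) =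
        (algebraMap A (FractionRing A) (∏ i, s i)) • (1 : Matrix ι ι (FractionRing A)) := by
      ext i k
      simp only [cmat, Matrix.of_apply, Matrix.smul_apply, Matrix.one_apply]
      rw [← algebraMap_smul (FractionRing A) (∏ i, s i) (b i), map_smul, Module.Basis.repr_self,
        Finsupp.smul_apply, Finsupp.single_apply]
    rw [hc, Matrix.det_smul, Matrix.det_one, mul_one]

theorem exists_bound [Module.Finite A E] : ∃ t : A, t ∈ nonZeroDivisors A ∧
    ∀ d ∈ D A E b, ∃ a : A, algebraMap A (FractionRing A) a =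
      (algebraMap A (FractionRing A) t) ^ Fintype.card ι * d := by
  classical
  obtain ⟨n, g, hg⟩ := Module.Finite.exists_fin (R := A) (M := E)
  obtain ⟨t, ht⟩ := IsLocalization.exist_integer_multiples_of_finset (nonZeroDivisors A)
    (Finset.univ.image (fun p : Fin n × ι =>
      b.repr ((1 : FractionRing A) ⊗ₜ[A] g p.1) p.2))
  refine ⟨t.1, t.2, ?_⟩
  -- coordinates of lattice vectors have bounded denominators
  have h1 : ∀ x ∈ lat A E, ∀ i, ∃ a : A, algebraMap A (FractionRing A) a =
      (algebraMap A (FractionRing A) t.1) * b.repr x i := by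
    intro x hx
    obtain ⟨e, rfl⟩ := hx
    have he : e ∈ Submodule.span A (Set.range g) := hg ▸ Submodule.mem_top
    induction he using Submodule.span_induction with
    | mem y h =>
      obtain ⟨k, rfl⟩ := h
      intro i
      obtain ⟨a, ha⟩ := ht _ (Finset.mem_image.mpr ⟨(k, i), Finset.mem_univ _, rfl⟩)
      exact ⟨a, by rw [ha, Algebra.smul_def]; rfl⟩
    | zero =>
      intro i
      exact ⟨0, by simp⟩
    | add y y' _ _ hy hy' =>
      intro i
      obtain ⟨a, ha⟩ := hy i
      obtain ⟨a', ha'⟩ := hy' i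
      exact ⟨a + a', by rw [map_add, map_add, map_add, Finsupp.add_apply, mul_add, ha, ha']⟩
    | smul c y _ hy =>
      intro i
      obtain ⟨a, ha⟩ := hy i
      refine ⟨c * a, ?_⟩
      rw [map_smul, ← algebraMap_smul (FractionRing A) c, map_smul, Finsupp.smul_apply,
        smul_eq_mul, map_mul, ha]
      ring
  -- determinants of lattice tuples
  have h2 : ∀ x : ι → TensorProduct A (FractionRing A) E, (∀ i, x i ∈ lat A E) →
      ∃ a : A, algebraMap A (FractionRing A) a =
        (algebraMap A (FractionRing A) t.1) ^ Fintype.card ι * (cmat A E b x).det := by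
    intro x hx
    have h3 : ∀ i k, ∃ a : A, algebraMap A (FractionRing A) a =
        (algebraMap A (FractionRing A) t.1) * b.repr (x i) k := fun i k => h1 (x i) (hx i) k
    choose M' hM' using h3
    refine ⟨(Matrix.of M').det, ?_⟩
    rw [RingHom.map_det, ← Matrix.det_smul]
    congr 1
    ext i k
    simp [cmat, hM']
  -- extend to the span
  intro d hd
  have hle : D A E b ≤ Submodule.comap
      (LinearMap.mulLeft A ((algebraMap A (FractionRing A) t.1) ^ Fintype.card ι))
      (LinearMap.range (Algebra.linearMap A (FractionRing A))) := by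
    unfold D
    rw [Submodule.span_le]
    rintro _ ⟨x, hx, rfl⟩
    obtain ⟨a, ha⟩ := h2 x hx
    exact ⟨a, ha⟩
  obtain ⟨a, ha⟩ := hle hd
  exact ⟨a, ha⟩

end main

theorem main (A : Type u) [CommRing A] [IsNoetherianRing A] [IsReduced A]
    (E : Type u) [AddCommGroup E] [Module A E] [Module.Finite A E]
    [Module.Free (FractionRing A) (TensorProduct A (FractionRing A) E)] :
    (Algebra.adjoin A {c : FractionRing A | ∃ (v : E →ₗ[A] E) (j : ℕ),
        c = ((v.baseChange (FractionRing A)).charpoly).coeff j}).toSubmodule.FG := by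
  classical
  obtain ⟨b, -⟩ : ∃ b : Module.Basis
      (Module.Free.ChooseBasisIndex (FractionRing A) (TensorProduct A (FractionRing A) E))
      (FractionRing A) (TensorProduct A (FractionRing A) E), True :=
    ⟨Module.Free.chooseBasis _ _, trivial⟩
  obtain ⟨s, hs, hd0⟩ := exists_unit_mem_D A E b
  obtain ⟨t, ht, hbound⟩ := exists_bound A E b
  have hu : IsUnit ((algebraMap A (FractionRing A) t) ^ Fintype.card
      (Module.Free.ChooseBasisIndex (FractionRing A) (TensorProduct A (FractionRing A) E)) *
      (algebraMap A (FractionRing A) s) ^ Fintype.card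
      (Module.Free.ChooseBasisIndex (FractionRing A) (TensorProduct A (FractionRing A) E))) :=
    ((IsLocalization.map_units (FractionRing A) (⟨t, ht⟩ : nonZeroDivisors A)).pow _).mul
      ((IsLocalization.map_units (FractionRing A) (⟨s, hs⟩ : nonZeroDivisors A)).pow _)
  obtain ⟨w, hw⟩ := hu
  have hle : (Algebra.adjoin A {c : FractionRing A | ∃ (v : E →ₗ[A] E) (j : ℕ),
        c = ((v.baseChange (FractionRing A)).charpoly).coeff j}).toSubmodule ≤
      Submodule.span A {(↑w⁻¹ : FractionRing A)} := by
    intro z hz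
    have h1 := adjoin_mul_mem A E b z ((Subalgebra.mem_toSubmodule _).mp hz) _ hd0
    obtain ⟨a, ha⟩ := hbound _ h1
    rw [Submodule.mem_span_singleton]
    refine ⟨a, ?_⟩
    rw [Algebra.smul_def, ha]
    have h2 : (algebraMap A (FractionRing A) t) ^ Fintype.card
        (Module.Free.ChooseBasisIndex (FractionRing A) (TensorProduct A (FractionRing A) E)) *
        (z * (algebraMap A (FractionRing A) s) ^ Fintype.card
        (Module.Free.ChooseBasisIndex (FractionRing A) (TensorProduct A (FractionRing A) E))) =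
        z * (w : FractionRing A) := by
      rw [hw]; ring
    rw [h2, mul_assoc, Units.mul_inv, mul_one]
  exact (isNoetherian_submodule.mp
    (isNoetherian_of_fg_of_noetherian _ (Submodule.fg_span_singleton _))) _ hle

end Groth.Agent.Helper8.CharCoef
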