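import Mathlib

namespace Groth.Agent.Helper8.CharSplit

open TensorProduct

universe u

variable {R : Type u} [CommRing R]

/-- transpose of a linear map into a character module -/
def flip {A B : Type*} [AddCommGroup A] [Module R A] [AddCommGroup B] [Module R B]
    (φ : A →ₗ[R] CharacterModule B) : B →ₗ[R] CharacterModule A where
  toFun b := (AddMonoidHom.mk' (fun a => φ a b) (fun a a' => by
    rw [map_add]; rfl) : A →+ AddCircle (1 : ℚ))
  map_add' b b' := by
    apply CharacterModule.ext
    intro a
    exact map_add (φ a) b b'
  map_smul' r b := by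
    apply CharacterModule.ext
    intro a
    change φ a (r • b) = φ (r • a) b
    rw [LinearMap.map_smul, CharacterModule.smul_apply]

@[simp] lemma flip_apply {A B : Type*} [AddCommGroup A] [Module R A] [AddCommGroup B] [Module R B]
    (φ : A →ₗ[R] CharacterModule B) (b : B) (a : A) : flip φ b a = φ a b := rfl

/-- evaluation map into the double character module -/
def ev (A : Type*) [AddCommGroup A] [Module R A] :
    A →ₗ[R] CharacterModule (CharacterModule A) :=
  flip (LinearMap.id : CharacterModule A →ₗ[R] CharacterModule A)

theorem main {M N : Type u}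
    [AddCommGroup M] [Module R M] [AddCommGroup N] [Module R N] (f : M →ₗ[R] N) :
    (∀ (P : Type u) [AddCommGroup P] [Module R P], Function.Injective (f.lTensor P)) ↔
      ∃ g : CharacterModule M →ₗ[R] CharacterModule N,
        (CharacterModule.dual f).comp g = LinearMap.id := by
  constructor
  · intro H
    have h1 := H (CharacterModule M)
    rw [LinearMap.lTensor_inj_iff_rTensor_inj, rTensor_injective_iff_lcomp_surjective] at h1
    obtain ⟨h, hh⟩ := h1 (ev M)
    refine ⟨flip h, ?_⟩
    ext c m
    have := congrArg (fun φ => φ m c) hh
    exact this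
  · rintro ⟨g, hg⟩ P _ _
    rw [LinearMap.lTensor_inj_iff_rTensor_inj, rTensor_injective_iff_lcomp_surjective]
    intro φ
    refine ⟨flip (g ∘ₗ flip φ), ?_⟩
    ext m p
    have := congrArg (fun ψ => ψ (flip φ p) m) hg
    exact this

end Groth.Agent.Helper8.CharSplit
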