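import Mathlib
set_option autoImplicit false
universe u

namespace Groth.Agent.Helper8.Chase

variable {R : Type u} [CommRing R]

/-- the presentation map onto the ideal generated by `f` -/
noncomputable def pres {l : ℕ} (f : Fin l → R) : (Fin l → R) →ₗ[R] (Ideal.span (Set.range f)) :=
  LinearMap.codRestrict (Ideal.span (Set.range f)) (Fintype.linearCombination R f) (fun c => by
    rw [Fintype.linearCombination_apply]
    exact Ideal.sum_mem _ fun i _ => Ideal.mul_mem_left _ _ (Ideal.subset_span ⟨i, rfl⟩))

theorem pres_surjective {l : ℕ} (f : Fin l → R) : Function.Surjective (pres f) := by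
  rintro ⟨y, hy⟩
  obtain ⟨c, hc⟩ := Ideal.mem_span_range_iff_exists_fun.1 hy
  refine ⟨c, Subtype.ext ?_⟩
  simp only [pres, LinearMap.codRestrict_apply, Fintype.linearCombination_apply, smul_eq_mul]
  exact hc

theorem mem_ker_pres {l : ℕ} (f : Fin l → R) (c : Fin l → R) :
    c ∈ LinearMap.ker (pres f) ↔ ∑ i, c i * f i = 0 := by
  rw [LinearMap.mem_ker, Subtype.ext_iff]
  simp [pres, Fintype.linearCombination_apply]

theorem flat_of_coherent (hcoh : ∀ I : Ideal R, I.FG → Module.FinitePresentation R I)
    (A : Type u) : Module.Flat R (A → R) := by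
  apply Module.Flat.of_forall_isTrivialRelation
  intro l f x hx
  have hfg : (Ideal.span (Set.range f)).FG := Submodule.fg_span (Set.finite_range f)
  have := hcoh _ hfg
  have hK : (LinearMap.ker (pres f)).FG := Module.FinitePresentation.fg_ker (pres f) (pres_surjective f)
  obtain ⟨k, b, hb⟩ := Submodule.fg_iff_exists_fin_generating_family.1 hK
  have hmem : ∀ α : A, (fun i => x i α) ∈ Submodule.span R (Set.range b) := by
    intro α
    rw [hb, mem_ker_pres]
    have := congrFun hx α
    simp only [Finset.sum_apply, Pi.smul_apply, smul_eq_mul, Pi.zero_apply] at this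
    rw [← this]
    exact Finset.sum_congr rfl fun i _ => mul_comm _ _
  choose y hy using fun α => (Submodule.mem_span_range_iff_exists_fun R).1 (hmem α)
  refine ⟨k, fun i j => b j i, fun j α => y α j, ?_, ?_⟩
  · intro i
    funext α
    have := congrFun (hy α) i
    simp only [Finset.sum_apply, Pi.smul_apply, smul_eq_mul] at this ⊢
    rw [← this]
    exact Finset.sum_congr rfl fun j _ => mul_comm _ _
  · intro j
    have hbj : b j ∈ LinearMap.ker (pres f) := by
      rw [← hb]
      exact Submodule.subset_span ⟨j, rfl⟩
    rw [mem_ker_pres] at hbj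
    rw [← hbj]
    exact Finset.sum_congr rfl fun i _ => mul_comm _ _

theorem coherent_of_flat (hflat : ∀ (A : Type u), Module.Flat R (A → R))
    (I : Ideal R) (hI : I.FG) : Module.FinitePresentation R I := by
  obtain ⟨l, f, rfl⟩ := Submodule.fg_iff_exists_fin_generating_family.1 hI
  change Module.FinitePresentation R (Ideal.span (Set.range f))
  have := hflat (LinearMap.ker (pres f))
  let x : Fin l → (LinearMap.ker (pres f) → R) := fun i r => r.1 i
  have hx : ∑ i, f i • x i = 0 := by
    funext r
    simp only [Finset.sum_apply, Pi.smul_apply, smul_eq_mul, Pi.zero_apply, x]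
    have := (mem_ker_pres f r.1).1 r.2
    rw [← this]
    exact Finset.sum_congr rfl fun i _ => mul_comm _ _
  obtain ⟨k, a, y, hxy, hfa⟩ := Module.Flat.isTrivialRelation_of_sum_smul_eq_zero hx
  apply Module.finitePresentation_of_surjective (pres f) (pres_surjective f)
  have hbmem : ∀ j, (fun i => a i j) ∈ LinearMap.ker (pres f) := by
    intro j
    rw [mem_ker_pres, ← hfa j]
    exact Finset.sum_congr rfl fun i _ => mul_comm _ _
  have : LinearMap.ker (pres f) = Submodule.span R (Set.range fun j : Fin k => fun i => a i j) := by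
    apply le_antisymm
    · intro r hr
      rw [Submodule.mem_span_range_iff_exists_fun]
      refine ⟨fun j => y j ⟨r, hr⟩, ?_⟩
      funext i
      have := congrFun (hxy i) ⟨r, hr⟩
      simp only [Finset.sum_apply, Pi.smul_apply, smul_eq_mul, x] at this ⊢
      rw [this]
      exact Finset.sum_congr rfl fun j _ => mul_comm _ _
    · rw [Submodule.span_le]
      rintro _ ⟨j, rfl⟩
      exact hbmem j
  rw [this]
  exact Submodule.fg_span (Set.finite_range _)

theorem s2163 :
    (∀ I : Ideal R, I.FG → Module.FinitePresentation R I) ↔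
      ∀ (A : Type u), Module.Flat R (A → R) :=
  ⟨flat_of_coherent, fun h I hI => coherent_of_flat h I hI⟩

end Groth.Agent.Helper8.Chase
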