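import Mathlib
import Groth.Prelude.Def_HopfRep
import Groth.Prelude.Def_ComodSub
import Groth.Agent.Helper8.GLnEmb

set_option autoImplicit false
universe u v w

namespace Groth.Agent.Helper8.Chev

open TensorProduct
open Groth.Agent.Helper8.GLnEmb

/-- a "multiplicative" matrix over a bialgebra -/
structure IsMult (k : Type u) [CommRing k] {A : Type v} [CommRing A] [Bialgebra k A]
    {ι : Type w} [Fintype ι] [DecidableEq ι] (M : Matrix ι ι A) : Prop where
  comul : ∀ l j, Coalgebra.comul (R := k) (M l j) = ∑ i, M l i ⊗ₜ[k] M i j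
  counit : ∀ l j, Coalgebra.counit (R := k) (M l j) = if l = j then 1 else 0

section mat
variable {k : Type u} [Field k] {A : Type v} [CommRing A] [Bialgebra k A]
  {ι : Type w} [Fintype ι] [DecidableEq ι]

/-- matrix coefficients of a finite-dimensional comodule, any finite index type -/
theorem exists_matrix' {V : Type*} [AddCommGroup V] [Module k V] (c : HopfRep.Comod k A V)
    (b : Module.Basis ι k V) :
    ∃ M : Matrix ι ι A, (∀ j, c.coact (b j) = ∑ i, b i ⊗ₜ[k] M i j) ∧ IsMult k M := by
  classical
  set M : Matrix ι ι A :=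
    fun i j => TensorProduct.equivFinsuppOfBasisLeft b (c.coact (b j)) i with hM
  have hcoact : ∀ j, c.coact (b j) = ∑ i, b i ⊗ₜ[k] M i j := fun j => eq_sum_coef b _
  refine ⟨M, hcoact, ⟨?_, ?_⟩⟩
  · intro l j
    have h := LinearMap.congr_fun c.coassoc (b j)
    simp only [LinearMap.comp_apply] at h
    rw [hcoact j] at h
    simp only [map_sum, LinearMap.rTensor_tmul, LinearMap.lTensor_tmul, hcoact, TensorProduct.sum_tmul,
      LinearEquiv.coe_coe, TensorProduct.assoc_tmul] at h
    rw [Finset.sum_comm] at h
    simp only [← TensorProduct.tmul_sum] at h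
    have h2 := congrArg (fun y => TensorProduct.equivFinsuppOfBasisLeft b y l) h
    simp only [coef_sum] at h2
    exact h2.symm
  · intro l j
    have h := LinearMap.congr_fun c.counit_comp (b j)
    simp only [LinearMap.comp_apply] at h
    rw [hcoact j] at h
    simp only [map_sum, LinearMap.lTensor_tmul, LinearMap.flip_apply, TensorProduct.mk_apply] at h
    have h2 := congrArg (fun y => TensorProduct.equivFinsuppOfBasisLeft b y l) h
    simp only [coef_sum, TensorProduct.equivFinsuppOfBasisLeft_apply_tmul_apply,
      Module.Basis.repr_self, Finsupp.single_apply, smul_eq_mul, mul_one] at h2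
    rw [h2]
    simp only [eq_comm]

end mat

section antip
variable {k : Type u} [CommRing k] {A : Type v} [CommRing A] [HopfAlgebra k A]
  {ι : Type w} [Fintype ι] [DecidableEq ι]

theorem IsMult.mul_map_antipode {M : Matrix ι ι A} (hM : IsMult k M) :
    M * M.map (HopfAlgebra.antipode k) = 1 := by
  ext i j
  rw [Matrix.mul_apply]
  have h := HopfAlgebra.mul_antipode_lTensor_comul_apply (R := k) (M i j)
  rw [hM.comul, map_sum, map_sum, hM.counit] at h
  simp only [LinearMap.lTensor_tmul, LinearMap.mul'_apply] at h
  simp only [Matrix.map_apply]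
  rw [h, Matrix.one_apply]
  split_ifs <;> simp

theorem IsMult.map_antipode_mul {M : Matrix ι ι A} (hM : IsMult k M) :
    M.map (HopfAlgebra.antipode k) * M = 1 :=
  mul_eq_one_comm.mp hM.mul_map_antipode

/-- the matrix of values of an `R`-point on a multiplicative matrix has a left inverse -/
theorem IsMult.exists_left_inv {M : Matrix ι ι A} (hM : IsMult k M)
    {R : Type*} [CommRing R] [Algebra k R] (g : A →ₐ[k] R) :
    ∃ N' : Matrix ι ι R, N' * M.map g = 1 := by
  refine ⟨(M.map (HopfAlgebra.antipode k)).map g, ?_⟩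
  have h := congrArg (fun X : Matrix ι ι A => X.map g) hM.map_antipode_mul
  rw [Matrix.map_mul] at h
  rw [h]
  ext i j
  simp [Matrix.one_apply, apply_ite g]

end antip

section kpow
variable {k : Type u} [CommRing k] {A : Type v} [CommRing A] [Bialgebra k A]
  {ι : Type w} [Fintype ι] [DecidableEq ι]

/-- Kronecker power of a matrix -/
def kpow {S : Type*} [CommRing S] (M : Matrix ι ι S) (d : ℕ) : Matrix (Fin d → ι) (Fin d → ι) S :=
  fun i j => ∏ l, M (i l) (j l)

theorem prod_tmul_prod {κ : Type*} (s : Finset κ) (a b : κ → A) :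
    ∏ l ∈ s, (a l ⊗ₜ[k] b l) = (∏ l ∈ s, a l) ⊗ₜ[k] (∏ l ∈ s, b l) := by
  classical
  induction s using Finset.induction_on with
  | empty => simp [Algebra.TensorProduct.one_def]
  | insert x s hx ih =>
    rw [Finset.prod_insert hx, Finset.prod_insert hx, Finset.prod_insert hx, ih,
      Algebra.TensorProduct.tmul_mul_tmul]

theorem IsMult.kpow {M : Matrix ι ι A} (hM : IsMult k M) (d : ℕ) : IsMult k (kpow M d) := by
  constructor
  · intro i j
    unfold Chev.kpow
    have h1 : Coalgebra.comul (R := k) (∏ l, M (i l) (j l)) =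
        ∏ l, Coalgebra.comul (R := k) (M (i l) (j l)) :=
      map_prod (Bialgebra.comulAlgHom k A) _ _
    rw [h1]
    simp only [hM.comul]
    rw [Finset.prod_univ_sum]
    simp only [Fintype.piFinset_univ]
    refine Finset.sum_congr rfl fun m _ => ?_
    rw [prod_tmul_prod]
  · intro i j
    unfold Chev.kpow
    have h1 : Coalgebra.counit (R := k) (∏ l, M (i l) (j l)) =
        ∏ l, Coalgebra.counit (R := k) (M (i l) (j l)) :=
      map_prod (Bialgebra.counitAlgHom k A) _ _
    rw [h1]
    simp only [hM.counit]
    rw [Fintype.prod_ite_zero]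
    simp only [Finset.prod_const_one, funext_iff]

omit [Fintype ι] [DecidableEq ι] in
theorem kpow_map {S S' : Type*} [CommRing S] [CommRing S'] (f : S →+* S') (M : Matrix ι ι S) (d : ℕ) :
    (kpow M d).map f = kpow (M.map f) d := by
  ext i j
  simp [kpow, map_prod]

end kpow

end Groth.Agent.Helper8.Chev
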