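import Mathlib
import Groth.Agent.Helper4.NApx10
import Groth.Agent.S7382

/-!
# Chevalley's theorem for integral surjective morphisms

If `f : X ⟶ S` is integral and surjective and `X` is affine, then `S` is affine
(Stacks 05YU).  Deduced from the finite case (helper4, `NApx10`) and the presentation of an
integral morphism as a limit of finite finitely presented ones (`S7382`).
-/

set_option autoImplicit false

namespace Groth.Agent.Helper8.ChevInt

open CategoryTheory AlgebraicGeometry Limits Opposite
open Groth.Agent.Helper4.NApx0

universe u

/-- Chevalley: the target of an integral surjective morphism from an affine scheme is affine. -/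
theorem isAffine_of_integral_surjective {X S : Scheme.{u}} (f : X ⟶ S) [IsIntegralHom f]
    [Surjective f] [IsAffine X] : IsAffine S := by
  haveI : CompactSpace S := by
    constructor
    rw [← Set.range_eq_univ.mpr f.surjective]
    exact isCompact_range f.continuous
  haveI : IsSeparated (f ≫ terminal.from S) := by
    rw [terminal.comp_from]; infer_instance
  haveI : S.IsSeparated :=
    ⟨Groth.Agent.Helper4.NApx10.isSeparated_of_surjective_universallyClosed f (terminal.from S)⟩
  obtain ⟨I, hP, hD, hN, D, c, hc, h1, ⟨e⟩⟩ := Groth.Agent.S7382.result f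
  haveI : IsCofiltered Iᵒᵖ := isCofiltered_op_of_directed I
  haveI : IsConnected Iᵒᵖ := IsCofiltered.isConnected _
  haveI : IsIso e.hom.left := (Over.forget S).map_isIso e.hom
  let E := D ⋙ Over.forget S
  let cE := (Over.forget S).mapCone c
  have hcE : IsLimit cE := isLimitOfPreserves (Over.forget S) hc
  haveI : ∀ {i j : Iᵒᵖ} (a : i ⟶ j), IsAffineHom (E.map a) := by
    intro i j a
    show IsAffineHom (D.map a).left
    haveI := (h1 i).1
    haveI := (h1 j).1
    haveI : IsAffineHom ((D.map a).left ≫ (D.obj j).hom) := by
      rw [Over.w (D.map a)]; infer_instance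
    exact IsAffineHom.of_comp (D.map a).left (D.obj j).hom
  haveI : ∀ i, CompactSpace (E.obj i) := fun i => by
    show CompactSpace (D.obj i).left
    haveI := (h1 i).1
    exact QuasiCompact.compactSpace_of_compactSpace (D.obj i).hom
  haveI : ∀ i, QuasiSeparatedSpace (E.obj i) := fun i => by
    show QuasiSeparatedSpace (D.obj i).left
    haveI := (h1 i).1
    exact quasiSeparatedSpace_of_quasiSeparated (D.obj i).hom
  haveI : IsAffine cE.pt := by
    show IsAffine c.pt.left
    haveI : IsAffine (Over.mk f).left := by show IsAffine X; infer_instance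
    exact IsAffine.of_isIso e.hom.left
  obtain ⟨i, hi⟩ := Scheme.exists_isAffine_of_isLimit E cE hcE
  haveI : IsAffine (D.obj i).left := hi
  haveI := (h1 i).1
  haveI := (h1 i).2
  haveI : Surjective (D.obj i).hom := by
    haveI : Surjective ((c.π.app i).left ≫ (D.obj i).hom) := by
      have h3 : (c.π.app i).left ≫ (D.obj i).hom = c.pt.hom := Over.w (c.π.app i)
      have h4 : c.pt.hom = e.hom.left ≫ f := (Over.w e.hom).symm
      rw [h3, h4]; infer_instance
    exact Surjective.of_comp (c.π.app i).left (D.obj i).hom
  exact Groth.Agent.Helper4.NApx10.isAffine_of_finite_surjective (D.obj i).hom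

end Groth.Agent.Helper8.ChevInt
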