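import Mathlib.AlgebraicGeometry.Morphisms.Flat
import Mathlib.AlgebraicGeometry.Morphisms.ClosedImmersion
import Mathlib.AlgebraicGeometry.Morphisms.SchemeTheoreticallyDominant
import Mathlib.AlgebraicGeometry.IdealSheaf.Functorial
import Mathlib.AlgebraicGeometry.Pullbacks
import Mathlib.CategoryTheory.Subobject.Basic

set_option autoImplicit false
universe u
open CategoryTheory CategoryTheory.Limits AlgebraicGeometry

namespace Groth.Agent.Helper8.ClDesc

variable {X Y : Scheme.{u}}

/-- a flat surjective morphism is injective on sections -/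
lemma app_injective_of_flat_surjective (f : X ⟶ Y) [Flat f] [Surjective f] (U : Y.Opens) :
    Function.Injective (f.app U).hom := by
  rw [injective_iff_map_eq_zero]
  intro s hs
  refine TopCat.Presheaf.section_ext Y.sheaf U s 0 fun y hy => ?_
  obtain ⟨x, rfl⟩ := f.surjective y
  have hinj : Function.Injective (f.stalkMap x).hom := by
    algebraize [(f.stalkMap x).hom]
    have : Module.FaithfullyFlat (Y.presheaf.stalk (f x)) (X.presheaf.stalk x) :=
      @Module.FaithfullyFlat.of_flat_of_isLocalHom _ _ _ _ _ _ _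
        (Flat.stalkMap f x) (f.toLRSHom.prop x)
    exact ‹RingHom.FaithfullyFlat _›.injective
  apply hinj
  change (f.stalkMap x).hom (Y.presheaf.germ U (f x) hy s) =
    (f.stalkMap x).hom (Y.presheaf.germ U (f x) hy 0)
  rw [map_zero, map_zero]
  have h1 := Scheme.Hom.germ_stalkMap_apply f U x hy s
  rw [hs, map_zero] at h1
  exact h1

/-- a flat surjective morphism is scheme-theoretically dominant -/
lemma ker_eq_bot_of_flat_surjective (f : X ⟶ Y) [Flat f] [Surjective f] : f.ker = ⊥ := by
  rw [eq_bot_iff]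
  intro U
  refine (Scheme.Hom.ideal_ker_le f U).trans ?_
  rw [(RingHom.injective_iff_ker_eq_bot _).mp (app_injective_of_flat_surjective f U.1)]
  exact bot_le

instance (f : X ⟶ Y) [Flat f] [Surjective f] : IsSchemeTheoreticallyDominant f :=
  ⟨ker_eq_bot_of_flat_surjective f⟩

/-- the canonical map to the scheme-theoretic image is scheme-theoretically dominant -/
lemma toImage_ker (f : X ⟶ Y) : f.toImage.ker = ⊥ := by
  rw [← Scheme.isIso_subschemeι_iff_eq_bot]
  have hj : (f.toImage.imageι ≫ f.imageι).ker ≤ f.imageι.ker := by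
    have h1 : f.toImage.toImage ≫ (f.toImage.imageι ≫ f.imageι) = f := by
      rw [← Category.assoc, f.toImage.toImage_imageι, f.toImage_imageι]
    have h2 := Scheme.Hom.le_ker_comp f.toImage.toImage (f.toImage.imageι ≫ f.imageι)
    rw [h1] at h2
    rwa [Scheme.IdealSheafData.ker_subschemeι]
  have hr : IsClosedImmersion.lift (f.toImage.imageι ≫ f.imageι) f.imageι hj ≫
      f.toImage.imageι ≫ f.imageι = f.imageι := IsClosedImmersion.lift_fac _ _ _
  have hr' : IsClosedImmersion.lift (f.toImage.imageι ≫ f.imageι) f.imageι hj ≫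
      f.toImage.imageι = 𝟙 _ := by
    rw [← cancel_mono f.imageι, Category.assoc, hr, Category.id_comp]
  haveI : IsSplitEpi f.toImage.imageι := IsSplitEpi.mk' ⟨_, hr'⟩
  exact isIso_of_mono_of_isSplitEpi f.toImage.imageι

variable {X' : Scheme.{u}} (π : X ⟶ X')

/-- `I' = (π⁻¹ I')` pushed forward, for flat surjective `π` -/
lemma map_comap_eq [Flat π] [Surjective π] (I' : X'.IdealSheafData) :
    (I'.comap π).map π = I' := by
  have e : (I'.comap π).subschemeι ≫ π =
      (I'.comapIso π).hom ≫ pullback.snd π I'.subschemeι ≫ I'.subschemeι := by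
    rw [← pullback.condition, ← Category.assoc, Scheme.IdealSheafData.comapIso_hom_fst]
  rw [Scheme.IdealSheafData.map, e, Scheme.Hom.ker_comp_of_isIso, Scheme.Hom.ker_comp,
    ker_eq_bot_of_flat_surjective, Scheme.IdealSheafData.map_bot,
    Scheme.IdealSheafData.ker_subschemeι]

/-- descent of ideal sheaves stable under the kernel pair -/
lemma comap_map_eq [Flat π] [Surjective π] [QuasiCompact π] (I : X.IdealSheafData)
    (hI : I.comap (pullback.fst π π) = I.comap (pullback.snd π π)) :
    (I.map π).comap π = I := by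
  refine le_antisymm (Scheme.IdealSheafData.comap_map_le _ _) ?_
  obtain ⟨t, ht, htk⟩ : ∃ t : I.subscheme ⟶ (I.map π).subscheme,
      t ≫ (I.map π).subschemeι = I.subschemeι ≫ π ∧ t.ker = ⊥ :=
    ⟨(I.subschemeι ≫ π).toImage, (I.subschemeι ≫ π).toImage_imageι, toImage_ker _⟩
  haveI : IsSchemeTheoreticallyDominant t := ⟨htk⟩
  haveI : QuasiCompact t := by
    have : QuasiCompact (t ≫ (I.map π).subschemeι) := by rw [ht]; infer_instance
    exact .of_comp _ (I.map π).subschemeι
  let p1 := pullback.fst π (I.map π).subschemeι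
  let p2 := pullback.snd π (I.map π).subschemeι
  let q1 := pullback.fst t p2
  let q2 := pullback.snd t p2
  have hq : q1 ≫ t = q2 ≫ p2 := pullback.condition
  have hp : p1 ≫ π = p2 ≫ (I.map π).subschemeι := pullback.condition
  have hc : (q1 ≫ I.subschemeι) ≫ π = (q2 ≫ p1) ≫ π := by
    rw [Category.assoc, ← ht, ← Category.assoc, hq, Category.assoc, Category.assoc, hp]
  let m : pullback t p2 ⟶ pullback π π := pullback.lift (q1 ≫ I.subschemeι) (q2 ≫ p1) hc
  have hm1 : m ≫ pullback.fst π π = q1 ≫ I.subschemeι := pullback.lift_fst _ _ _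
  have hm2 : m ≫ pullback.snd π π = q2 ≫ p1 := pullback.lift_snd _ _ _
  have h1 : I ≤ (m ≫ pullback.fst π π).ker := by
    rw [hm1]
    have := Scheme.Hom.le_ker_comp q1 I.subschemeι
    rwa [Scheme.IdealSheafData.ker_subschemeι] at this
  rw [Scheme.Hom.ker_comp, Scheme.IdealSheafData.le_map_iff_comap_le, hI,
    ← Scheme.IdealSheafData.le_map_iff_comap_le, ← Scheme.Hom.ker_comp, hm2,
    Scheme.Hom.ker_comp] at h1
  have hq2 : q2.ker = ⊥ := Scheme.Hom.ker_eq_bot q2
  rw [hq2, Scheme.IdealSheafData.map_bot] at h1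
  exact h1

section Sub

/-- closed subobjects with the same ideal sheaf are equal -/
lemma eq_of_ker_eq {Y₁ Y₂ : Subobject X} [IsClosedImmersion Y₁.arrow]
    [IsClosedImmersion Y₂.arrow] (h : Y₁.arrow.ker = Y₂.arrow.ker) : Y₁ = Y₂ :=
  le_antisymm
    (Subobject.le_of_comm (IsClosedImmersion.lift Y₂.arrow Y₁.arrow h.ge)
      (IsClosedImmersion.lift_fac _ _ _))
    (Subobject.le_of_comm (IsClosedImmersion.lift Y₁.arrow Y₂.arrow h.le)
      (IsClosedImmersion.lift_fac _ _ _))

lemma isClosedImmersion_pullback_arrow (f : X ⟶ Y) (Z : Subobject Y)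
    [IsClosedImmersion Z.arrow] : IsClosedImmersion ((Subobject.pullback f).obj Z).arrow :=
  MorphismProperty.of_isPullback (P := @IsClosedImmersion) (Subobject.isPullback f Z) ‹_›

lemma ker_pullback_arrow (f : X ⟶ Y) (Z : Subobject Y) [IsClosedImmersion Z.arrow] :
    ((Subobject.pullback f).obj Z).arrow.ker = Z.arrow.ker.comap f := by
  have H := (Subobject.isPullback f Z).flip
  have e : ((Subobject.pullback f).obj Z).arrow = H.isoPullback.hom ≫ pullback.fst f Z.arrow :=
    (H.isoPullback_hom_fst).symm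
  rw [e, Scheme.Hom.ker_comp_of_isIso, Scheme.IdealSheafData.ker_fst_of_isClosedImmersion]

lemma isClosedImmersion_mk_arrow {Z : Scheme.{u}} (i : Z ⟶ X) [IsClosedImmersion i] :
    IsClosedImmersion (Subobject.mk i).arrow := by
  rw [← Subobject.underlyingIso_hom_comp_eq_mk i]
  infer_instance

lemma ker_mk_arrow {Z : Scheme.{u}} (i : Z ⟶ X) [Mono i] :
    (Subobject.mk i).arrow.ker = i.ker := by
  rw [← Subobject.underlyingIso_hom_comp_eq_mk i, Scheme.Hom.ker_comp_of_isIso]

end Sub

theorem main [Flat π] [Surjective π] [QuasiCompact π] :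
    Set.BijOn (Subobject.pullback π).obj
      {Y' : Subobject X' | IsClosedImmersion Y'.arrow}
      {Y : Subobject X | IsClosedImmersion Y.arrow ∧
        (Subobject.pullback (pullback.fst π π)).obj Y =
          (Subobject.pullback (pullback.snd π π)).obj Y} := by
  refine ⟨?_, ?_, ?_⟩
  · intro Y' hY'
    haveI : IsClosedImmersion Y'.arrow := hY'
    refine ⟨isClosedImmersion_pullback_arrow π Y', ?_⟩
    rw [← Subobject.pullback_comp, ← Subobject.pullback_comp, pullback.condition]
  · intro Y₁ h₁ Y₂ h₂ h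
    haveI : IsClosedImmersion Y₁.arrow := h₁
    haveI : IsClosedImmersion Y₂.arrow := h₂
    apply eq_of_ker_eq
    have h' := congrArg (fun Y : Subobject X => Y.arrow.ker) h
    simp only [ker_pullback_arrow] at h'
    rw [← map_comap_eq π Y₁.arrow.ker, h', map_comap_eq]
  · rintro Y ⟨hY, hst⟩
    haveI : IsClosedImmersion Y.arrow := hY
    have hI : Y.arrow.ker.comap (pullback.fst π π) = Y.arrow.ker.comap (pullback.snd π π) := by
      rw [← ker_pullback_arrow, ← ker_pullback_arrow, hst]
    refine ⟨Subobject.mk (Y.arrow.ker.map π).subschemeι, isClosedImmersion_mk_arrow _, ?_⟩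
    haveI := isClosedImmersion_mk_arrow (Y.arrow.ker.map π).subschemeι
    haveI := isClosedImmersion_pullback_arrow π (Subobject.mk (Y.arrow.ker.map π).subschemeι)
    apply eq_of_ker_eq
    rw [ker_pullback_arrow, ker_mk_arrow, Scheme.IdealSheafData.ker_subschemeι,
      comap_map_eq π _ hI]

end Groth.Agent.Helper8.ClDesc
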