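import Mathlib
import Groth.Prelude.Def_BigSite
import Groth.Agent.Helper9.GFin

/-! Étale and smooth morphisms lift locally along closed immersions. -/

set_option autoImplicit false
set_option linter.style.haveILetI false
universe u

open CategoryTheory CategoryTheory.Limits AlgebraicGeometry Opposite

namespace Groth.Agent.Helper8.ClImmLift

/-- Étale morphisms lift locally along closed immersions: for a closed immersion `i : Z ⟶ V`, an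
étale `p : W ⟶ Z` and a point `w` of `W` there is an étale `v' : V' ⟶ V` whose image contains
`i (p w)` and such that `Z ×_V V'` maps to `W` over `Z`. -/
theorem lift_etale {Z V W : Scheme.{u}} (i : Z ⟶ V) [IsClosedImmersion i] (p : W ⟶ Z) [Etale p]
    (w : W) :
    ∃ (V' : Scheme.{u}) (v' : V' ⟶ V), Etale v' ∧ ∃ h : pullback i v' ⟶ W,
      h ≫ p = pullback.fst i v' ∧ i (p w) ∈ Set.range v' := by
  obtain ⟨V₁, v₁, pt, hv, hpt, P, p₁, p₂, sq, W', hcl, hcov, h, hh⟩ :=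
    Groth.Agent.Helper9.LocalG.gConcl_of_isFinite i p (i (p w))
  haveI := hv
  haveI : IsClosedImmersion p₂ := MorphismProperty.of_isPullback sq ‹IsClosedImmersion i›
  have hD : IsClosed (p₂ '' ((W' : Set P)ᶜ)) :=
    p₂.isClosedEmbedding.isClosedMap _ W'.2.isClosed_compl
  let V' : V₁.Opens := ⟨(p₂ '' ((W' : Set P)ᶜ))ᶜ, hD.isOpen_compl⟩
  have hpt' : pt ∈ V' := by
    rintro ⟨z, hz, hzpt⟩
    apply hz
    refine hcov z hzpt ⟨w, ?_⟩
    apply i.isClosedEmbedding.injective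
    have h1 : (p₁ ≫ i) z = (p₂ ≫ v₁) z := by rw [sq.w]
    have h2 : i (p₁ z) = v₁ (p₂ z) := h1
    rw [h2, hzpt, hpt]
  refine ⟨V', V'.ι ≫ v₁, inferInstance, ?_⟩
  let q : pullback i (V'.ι ≫ v₁) ⟶ P :=
    sq.lift (pullback.fst _ _) (pullback.snd _ _ ≫ V'.ι)
      (by rw [pullback.condition, Category.assoc])
  have hq1 : q ≫ p₁ = pullback.fst _ _ := sq.lift_fst _ _ _
  have hq2 : q ≫ p₂ = pullback.snd _ _ ≫ V'.ι := sq.lift_snd _ _ _
  have hr : Set.range q ⊆ Set.range W'.ι := by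
    rw [Scheme.Opens.range_ι]
    rintro _ ⟨t, rfl⟩
    by_contra hn
    have h1 : p₂ (q t) ∈ p₂ '' ((W' : Set P)ᶜ) := ⟨q t, hn, rfl⟩
    have h2 : p₂ (q t) = V'.ι (pullback.snd i (V'.ι ≫ v₁) t) := by
      rw [← Scheme.Hom.comp_apply, hq2, Scheme.Hom.comp_apply]
    rw [h2] at h1
    exact (pullback.snd i (V'.ι ≫ v₁) t).2 h1
  let q' := IsOpenImmersion.lift W'.ι q hr
  have hq' : q' ≫ W'.ι = q := IsOpenImmersion.lift_fac _ _ _
  refine ⟨q' ≫ h, ?_, ?_⟩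
  · rw [Category.assoc, hh, ← Category.assoc, hq', hq1]
  · refine ⟨⟨pt, hpt'⟩, ?_⟩
    rw [Scheme.Hom.comp_apply]
    exact hpt

attribute [local instance] MvPolynomial.algebraMvPolynomial in
/-- The polynomial ring square `R → R[T], R → R̄, R̄ → R̄[T], R[T] → R̄[T]` gives a pullback square of
spectra. -/
theorem isPullback_mvPolynomial {R Rb : CommRingCat.{u}} (φ : R ⟶ Rb) (n : ℕ) :
    IsPullback
      (Spec.map (CommRingCat.ofHom (MvPolynomial.C : Rb →+* MvPolynomial (Fin n) Rb)))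
      (Spec.map (CommRingCat.ofHom (MvPolynomial.map (σ := Fin n) φ.hom)))
      (Spec.map φ)
      (Spec.map (CommRingCat.ofHom (MvPolynomial.C : R →+* MvPolynomial (Fin n) R))) := by
  letI : Algebra R Rb := φ.hom.toAlgebra
  have h := CommRingCat.isPushout_of_isPushout R Rb (MvPolynomial (Fin n) R)
    (MvPolynomial (Fin n) Rb)
  exact isPullback_SpecMap_of_isPushout _ _ _ _ h

/-- Smooth morphisms lift locally along closed immersions. -/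
theorem lift_smooth {Z V W : Scheme.{u}} (i : Z ⟶ V) [IsClosedImmersion i] (p : W ⟶ Z) [Smooth p]
    (w : W) :
    ∃ (V' : Scheme.{u}) (v' : V' ⟶ V), Smooth v' ∧ ∃ h : pullback i v' ⟶ W,
      h ≫ p = pullback.fst i v' ∧ i (p w) ∈ Set.range v' := by
  obtain ⟨_, ⟨V₀, hV₀, rfl⟩, hvV₀, -⟩ := V.isBasis_affineOpens.exists_subset_of_mem_open
    (Set.mem_univ (i (p w))) isOpen_univ
  have hV₀ : IsAffineOpen V₀ := hV₀
  have hZ₀ : IsAffineOpen (i ⁻¹ᵁ V₀) := hV₀.preimage i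
  have hwZ₀ : w ∈ p ⁻¹ᵁ (i ⁻¹ᵁ V₀) := hvV₀
  obtain ⟨_, ⟨W₀, hW₀, rfl⟩, hwW₀, hW₀Z⟩ := W.isBasis_affineOpens.exists_subset_of_mem_open
    hwZ₀ (p ⁻¹ᵁ (i ⁻¹ᵁ V₀)).2
  have hW₀ : IsAffineOpen W₀ := hW₀
  have hW₀Z : W₀ ≤ p ⁻¹ᵁ (i ⁻¹ᵁ V₀) := hW₀Z
  -- the rings
  let φ : Γ(V, V₀) ⟶ Γ(Z, i ⁻¹ᵁ V₀) := i.appLE V₀ (i ⁻¹ᵁ V₀) le_rfl
  let ψ : Γ(Z, i ⁻¹ᵁ V₀) ⟶ Γ(W, W₀) := p.appLE (i ⁻¹ᵁ V₀) W₀ hW₀Z
  have hφ : Function.Surjective φ.hom := by
    have h1 : φ = i.app V₀ := by simp [φ, Scheme.Hom.appLE]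
    rw [h1]
    exact i.app_surjective V₀ hV₀
  have hψ : ψ.hom.Smooth :=
    HasRingHomProperty.appLE (P := @Smooth) p inferInstance ⟨_, hZ₀⟩ ⟨W₀, hW₀⟩ hW₀Z
  have sqφ : Spec.map φ ≫ hV₀.fromSpec = hZ₀.fromSpec ≫ i :=
    IsAffineOpen.SpecMap_appLE_fromSpec i hV₀ hZ₀ le_rfl
  have sqψ : Spec.map ψ ≫ hZ₀.fromSpec = hW₀.fromSpec ≫ p :=
    IsAffineOpen.SpecMap_appLE_fromSpec p hZ₀ hW₀ hW₀Z
  have pbZ : IsPullback (Spec.map φ) hZ₀.fromSpec hV₀.fromSpec i :=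
    IsOpenImmersion.isPullback _ _ _ _ sqφ.symm
      (by rw [hV₀.opensRange_fromSpec, hZ₀.opensRange_fromSpec])
  -- the point
  let w₀ : Spec Γ(W, W₀) := hW₀.primeIdealOf ⟨w, hwW₀⟩
  have hw₀ : hW₀.fromSpec w₀ = w := hW₀.fromSpec_primeIdealOf ⟨w, hwW₀⟩
  -- local structure of smooth algebras
  letI : Algebra Γ(Z, i ⁻¹ᵁ V₀) Γ(W, W₀) := ψ.hom.toAlgebra
  haveI : Algebra.Smooth Γ(Z, i ⁻¹ᵁ V₀) Γ(W, W₀) := hψ
  haveI : Algebra.IsSmoothAt Γ(Z, i ⁻¹ᵁ V₀) w₀.asIdeal :=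
    Set.eq_univ_iff_forall.mp (Algebra.smoothLocus_eq_univ (R := Γ(Z, i ⁻¹ᵁ V₀))
      (A := Γ(W, W₀))) w₀
  obtain ⟨c, hc, n, alg, tower, hstd⟩ :=
    Algebra.IsSmoothAt.exists_isStandardEtale_mvPolynomial (R := Γ(Z, i ⁻¹ᵁ V₀))
      (S := Γ(W, W₀)) (p := w₀.asIdeal)
  -- ring maps
  let Cc : CommRingCat.{u} := CommRingCat.of (Localization.Away c)
  let RbT : CommRingCat.{u} := CommRingCat.of (MvPolynomial (Fin n) Γ(Z, i ⁻¹ᵁ V₀))
  let RT : CommRingCat.{u} := CommRingCat.of (MvPolynomial (Fin n) Γ(V, V₀))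
  let ℓ : Γ(W, W₀) ⟶ Cc := CommRingCat.ofHom (algebraMap Γ(W, W₀) (Localization.Away c))
  let ε : RbT ⟶ Cc := CommRingCat.ofHom
    (algebraMap (MvPolynomial (Fin n) Γ(Z, i ⁻¹ᵁ V₀)) (Localization.Away c))
  let cRb : Γ(Z, i ⁻¹ᵁ V₀) ⟶ RbT := CommRingCat.ofHom MvPolynomial.C
  let cR : Γ(V, V₀) ⟶ RT := CommRingCat.ofHom MvPolynomial.C
  let φT : RT ⟶ RbT := CommRingCat.ofHom (MvPolynomial.map (σ := Fin n) φ.hom)
  have hrel : cRb ≫ ε = ψ ≫ ℓ := by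
    ext x
    show algebraMap (MvPolynomial (Fin n) Γ(Z, i ⁻¹ᵁ V₀)) (Localization.Away c)
      (MvPolynomial.C x) = algebraMap Γ(W, W₀) (Localization.Away c) (ψ.hom x)
    rw [← MvPolynomial.algebraMap_eq, ← IsScalarTower.algebraMap_apply,
      IsScalarTower.algebraMap_apply Γ(Z, i ⁻¹ᵁ V₀) Γ(W, W₀) (Localization.Away c)]
    rfl
  have pbT : IsPullback (Spec.map cRb) (Spec.map φT) (Spec.map φ) (Spec.map cR) :=
    isPullback_mvPolynomial φ n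
  haveI : IsClosedImmersion (Spec.map φT) :=
    IsClosedImmersion.spec_of_surjective φT (MvPolynomial.map_surjective _ hφ)
  haveI : Etale (Spec.map ε) :=
    HasRingHomProperty.Spec_iff.2 (RingHom.etale_algebraMap.2 inferInstance)
  haveI : Smooth (Spec.map cR) := by
    refine HasRingHomProperty.Spec_iff.2 ?_
    have : Algebra.Smooth Γ(V, V₀) (MvPolynomial (Fin n) Γ(V, V₀)) := ⟨inferInstance, inferInstance⟩
    exact RingHom.smooth_algebraMap.2 this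
  -- the point in the localisation
  obtain ⟨w₁, hw₁⟩ : ∃ w₁ : Spec Cc, Spec.map ℓ w₁ = w₀ := by
    have hr := PrimeSpectrum.localization_away_comap_range (Localization.Away c) c
    have hmem : w₀ ∈ (PrimeSpectrum.basicOpen c : Set (PrimeSpectrum Γ(W, W₀))) := hc
    rw [← hr] at hmem
    obtain ⟨w₁, hw₁⟩ := hmem
    exact ⟨w₁, hw₁⟩
  -- lift the étale part
  obtain ⟨V', v'', hv'', h'', hh'', t, ht⟩ := lift_etale (Spec.map φT) (Spec.map ε) w₁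
  haveI := hv''
  haveI : Smooth v'' := inferInstance
  refine ⟨V', v'' ≫ Spec.map cR ≫ hV₀.fromSpec, inferInstance, ?_⟩
  let β := pullback.snd i (v'' ≫ Spec.map cR ≫ hV₀.fromSpec)
  let a₁ := pbZ.lift (β ≫ v'' ≫ Spec.map cR) (pullback.fst i (v'' ≫ Spec.map cR ≫ hV₀.fromSpec))
    (by rw [pullback.condition]; simp [β])
  have ha₁1 : a₁ ≫ Spec.map φ = β ≫ v'' ≫ Spec.map cR := pbZ.lift_fst _ _ _
  have ha₁2 : a₁ ≫ hZ₀.fromSpec = pullback.fst i (v'' ≫ Spec.map cR ≫ hV₀.fromSpec) :=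
    pbZ.lift_snd _ _ _
  let α := pbT.lift a₁ (β ≫ v'') (by rw [ha₁1, Category.assoc])
  have hα1 : α ≫ Spec.map cRb = a₁ := pbT.lift_fst _ _ _
  have hα2 : α ≫ Spec.map φT = β ≫ v'' := pbT.lift_snd _ _ _
  let γ : pullback i (v'' ≫ Spec.map cR ≫ hV₀.fromSpec) ⟶ pullback (Spec.map φT) v'' :=
    pullback.lift α β hα2
  have hγ1 : γ ≫ pullback.fst (Spec.map φT) v'' = α := pullback.lift_fst _ _ _
  refine ⟨γ ≫ h'' ≫ Spec.map ℓ ≫ hW₀.fromSpec, ?_, ?_⟩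
  · calc (γ ≫ h'' ≫ Spec.map ℓ ≫ hW₀.fromSpec) ≫ p
        = γ ≫ h'' ≫ Spec.map ℓ ≫ Spec.map ψ ≫ hZ₀.fromSpec := by
          simp only [Category.assoc, sqψ]
      _ = γ ≫ h'' ≫ Spec.map (ψ ≫ ℓ) ≫ hZ₀.fromSpec := by
          rw [Spec.map_comp, Category.assoc]
      _ = γ ≫ (h'' ≫ Spec.map ε) ≫ Spec.map cRb ≫ hZ₀.fromSpec := by
          rw [← hrel, Spec.map_comp, Category.assoc, Category.assoc]
      _ = (γ ≫ pullback.fst (Spec.map φT) v'') ≫ Spec.map cRb ≫ hZ₀.fromSpec := by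
          rw [hh'', Category.assoc]
      _ = (α ≫ Spec.map cRb) ≫ hZ₀.fromSpec := by
          rw [hγ1, Category.assoc]
      _ = pullback.fst i (v'' ≫ Spec.map cR ≫ hV₀.fromSpec) := by
          rw [hα1]
          exact ha₁2
  · refine ⟨t, ?_⟩
    have key : Spec.map ε ≫ Spec.map φT ≫ Spec.map cR ≫ hV₀.fromSpec =
        Spec.map ℓ ≫ hW₀.fromSpec ≫ p ≫ i := by
      calc Spec.map ε ≫ Spec.map φT ≫ Spec.map cR ≫ hV₀.fromSpec
          = Spec.map ε ≫ Spec.map cRb ≫ Spec.map φ ≫ hV₀.fromSpec := by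
            rw [← Category.assoc (Spec.map φT), ← pbT.w, Category.assoc]
        _ = Spec.map (cRb ≫ ε) ≫ hZ₀.fromSpec ≫ i := by
            rw [sqφ, Spec.map_comp, Category.assoc]
        _ = Spec.map ℓ ≫ hW₀.fromSpec ≫ p ≫ i := by
            rw [hrel, Spec.map_comp, Category.assoc, ← Category.assoc (Spec.map ψ), sqψ,
              Category.assoc]
    have h1 : (v'' ≫ Spec.map cR ≫ hV₀.fromSpec) t =
        (Spec.map cR ≫ hV₀.fromSpec) ((Spec.map φT) ((Spec.map ε) w₁)) := by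
      rw [Scheme.Hom.comp_apply, ht]
    have h2 : (Spec.map ε ≫ Spec.map φT ≫ Spec.map cR ≫ hV₀.fromSpec) w₁ =
        (Spec.map ℓ ≫ hW₀.fromSpec ≫ p ≫ i) w₁ := by rw [key]
    refine h1.trans (Eq.trans ?_ (h2.trans ?_))
    · rfl
    · show i (p (hW₀.fromSpec (Spec.map ℓ w₁))) = i (p w)
      rw [hw₁, hw₀]

end Groth.Agent.Helper8.ClImmLift
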