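import Mathlib
import Groth.Prelude.Def_BigSite
import Groth.Agent.Helper8.ClImmLift

/-! Base change along a closed immersion is almost cocontinuous on big sites whose coverings
lift along closed immersions. -/

set_option autoImplicit false
set_option linter.style.haveILetI false
universe u

open CategoryTheory CategoryTheory.Limits AlgebraicGeometry Opposite

namespace Groth.Agent.Helper8.ClImmLift

theorem almostCocont (P : MorphismProperty Scheme.{u}) [P.IsStableUnderBaseChange]
    [P.IsMultiplicative]
    (hopen : ∀ {A B : Scheme.{u}} (f : A ⟶ B) [IsOpenImmersion f], P f)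
    (hlift : ∀ {Z V W : Scheme.{u}} (i : Z ⟶ V) [IsClosedImmersion i] (p : W ⟶ Z), P p →
      ∀ w : W, ∃ (V' : Scheme.{u}) (v' : V' ⟶ V), P v' ∧ ∃ h : pullback i v' ⟶ W,
        h ≫ p = pullback.fst i v' ∧ i (p w) ∈ Set.range v')
    {X Y : Scheme.{u}} (f : X ⟶ Y) [IsClosedImmersion f] :
    BigSite.IsAlmostCocontinuous (Over.pullback f)
      ((Scheme.grothendieckTopology P).over Y) ((Scheme.grothendieckTopology P).over X) := by
  intro U R hR
  rw [GrothendieckTopology.mem_over_iff, Scheme.mem_grothendieckTopology_iff] at hR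
  obtain ⟨𝒰, h𝒰⟩ := hR
  let i : pullback U.hom f ⟶ U.left := pullback.fst U.hom f
  haveI : IsClosedImmersion i := inferInstance
  have hloc : ∀ z : ↥(pullback U.hom f), ∃ (V' : Scheme.{u}) (v' : V' ⟶ U.left), P v' ∧
      ∃ h : pullback i v' ⟶ 𝒰.X (𝒰.idx z), h ≫ 𝒰.f (𝒰.idx z) = pullback.fst i v' ∧
        i z ∈ Set.range v' := by
    intro z
    obtain ⟨w, hw⟩ := 𝒰.covers z
    have := hlift i (𝒰.f (𝒰.idx z)) (𝒰.map_prop _) w
    rwa [hw] at this
  choose V' v' hPv' h hh hz using hloc
  let Vc : U.left.Opens := ⟨(Set.range i)ᶜ, i.isClosedEmbedding.isClosed_range.isOpen_compl⟩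
  let Vfam : Option ↥(pullback U.hom f) → Scheme.{u} := fun a =>
    match a with
    | none => (Vc : Scheme.{u})
    | some z => V' z
  let vfam : ∀ a, Vfam a ⟶ U.left := fun a =>
    match a with
    | none => Vc.ι
    | some z => v' z
  have hcov : ∀ x : U.left, ∃ a y, vfam a y = x := by
    intro x
    by_cases hx : x ∈ Set.range i
    · obtain ⟨z, rfl⟩ := hx
      obtain ⟨y, hy⟩ := hz z
      exact ⟨some z, y, hy⟩
    · exact ⟨none, ⟨x, hx⟩, rfl⟩
  have hprop : ∀ a, P (vfam a) := by
    intro a
    cases a with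
    | none => exact hopen Vc.ι
    | some z => exact hPv' z
  let 𝒱 : U.left.Cover (Scheme.precoverage P) :=
    Scheme.Cover.mkOfCovers (Option ↥(pullback U.hom f)) Vfam vfam hcov hprop
  refine ⟨Sieve.ofArrows (fun a => Over.mk (vfam a ≫ U.hom))
    (fun a => (Over.homMk (vfam a) : Over.mk (vfam a ≫ U.hom) ⟶ U)), ?_, ?_⟩
  · rw [GrothendieckTopology.mem_over_iff, Sieve.overEquiv_ofArrows]
    exact 𝒱.mem_grothendieckTopology
  · intro V'' g hg
    rw [Sieve.mem_ofArrows_iff] at hg
    obtain ⟨a, g', rfl⟩ := hg
    cases a with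
    | none =>
      left
      have hemp : IsEmpty ↥((Over.pullback f).obj V'').left := by
        constructor
        intro t
        let k : V'' ⟶ U := g' ≫ (Over.homMk Vc.ι : Over.mk (Vc.ι ≫ U.hom) ⟶ U)
        have h1 : ((Over.pullback f).map k).left ≫ pullback.fst U.hom f =
            pullback.fst V''.hom f ≫ k.left := pullback.lift_fst _ _ _
        have h2 : i (((Over.pullback f).map k).left t) = k.left (pullback.fst V''.hom f t) := by
          have := congrArg (fun m => m t) h1
          exact this
        have h3 : k.left (pullback.fst V''.hom f t) ∈ (Vc : Set U.left) :=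
          (g'.left (pullback.fst V''.hom f t)).2
        exact h3 ⟨_, h2⟩
      rw [GrothendieckTopology.mem_over_iff, map_bot]
      exact Scheme.bot_mem_grothendieckTopology _
    | some z =>
      right
      rw [Functor.map_comp]
      apply R.downward_closed
      let m := (Over.pullback f).map (Over.homMk (v' z) : Over.mk (v' z ≫ U.hom) ⟶ U)
      have hm1 : m.left ≫ pullback.fst U.hom f = pullback.fst (v' z ≫ U.hom) f ≫ v' z :=
        pullback.lift_fst _ _ _
      let lam : pullback (v' z ≫ U.hom) f ⟶ pullback i (v' z) :=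
        pullback.lift m.left (pullback.fst _ _) hm1
      have hlam : lam ≫ pullback.fst i (v' z) = m.left := pullback.lift_fst _ _ _
      have hfac : m.left = (lam ≫ h z) ≫ 𝒰.f (𝒰.idx z) := by
        rw [Category.assoc, hh, hlam]
      have hmem : (Sieve.overEquiv _ R) m.left := by
        rw [hfac]
        exact (Sieve.overEquiv _ R).downward_closed (h𝒰 _ _ (Presieve.ofArrows.mk _)) _
      have := (Sieve.overEquiv_symm_iff (Sieve.overEquiv _ R) m).mpr hmem
      rwa [OrderIso.symm_apply_apply] at this

end Groth.Agent.Helper8.ClImmLift
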