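import Mathlib
import Groth.Agent.Helper8.ClDesc
import Groth.Agent.Helper8.MPCoprodA

set_option autoImplicit false
set_option backward.isDefEq.respectTransparency false
set_option backward.isDefEq.respectTransparency.types false
universe u
open CategoryTheory CategoryTheory.Limits AlgebraicGeometry

namespace Groth.Agent.Helper8.IdDesc

open Groth.Agent.Helper8.MPCoprod Groth.Agent.Helper8

variable {P : Scheme.{u}}

/-- ideal sheaves are determined by their pullbacks to a flat jointly surjective family -/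
lemma eq_of_comap_eq {κ : Type u} {Q : κ → Scheme.{u}} (g : ∀ i, Q i ⟶ P) [∀ i, Flat (g i)]
    (hs : ∀ x : P, ∃ i, x ∈ Set.range (g i)) {J J' : P.IdealSheafData}
    (H : ∀ i, J.comap (g i) = J'.comap (g i)) : J = J' := by
  haveI : Flat (Sigma.desc g) := IsZariskiLocalAtSource.sigmaDesc (fun i => inferInstance)
  haveI : Surjective (Sigma.desc g) := ⟨fun x => by
    obtain ⟨i, y, rfl⟩ := hs x
    exact ⟨Sigma.ι Q i y, by rw [← Scheme.Hom.comp_apply, Sigma.ι_desc]⟩⟩
  have key : J.comap (Sigma.desc g) = J'.comap (Sigma.desc g) := by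
    apply le_antisymm <;> apply le_of_forall_comap_le <;> intro i <;>
      rw [← Scheme.IdealSheafData.comap_comp, ← Scheme.IdealSheafData.comap_comp, Sigma.ι_desc,
        H i]
  rw [← ClDesc.map_comap_eq (Sigma.desc g) J, key, ClDesc.map_comap_eq]

lemma comap_eq_of_fac {A B C D : Scheme.{u}} {I : A.IdealSheafData} {I' : B.IdealSheafData}
    {a' : C ⟶ A} {b' : C ⟶ B} (h : I.comap a' = I'.comap b') (n : D ⟶ C) {a : D ⟶ A}
    {b : D ⟶ B} (ha : n ≫ a' = a) (hb : n ≫ b' = b) : I.comap a = I'.comap b := by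
  rw [← ha, ← hb, Scheme.IdealSheafData.comap_comp, Scheme.IdealSheafData.comap_comp, h]

/-- existence over an affine base -/
theorem exists_of_isAffine [IsAffine P] (𝒰 : Scheme.Cover.{u} (Scheme.precoverage @Flat) P)
    [QuasiCompactCover 𝒰.1] (I : ∀ i, (𝒰.X i).IdealSheafData)
    (h : ∀ i j, (I i).comap (pullback.fst (𝒰.f i) (𝒰.f j)) =
      (I j).comap (pullback.snd (𝒰.f i) (𝒰.f j))) :
    ∃ J : P.IdealSheafData, ∀ i, J.comap (𝒰.f i) = I i := by
  obtain ⟨𝒱, r, hfin, -⟩ := QuasiCompactCover.exists_hom.{u} 𝒰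
  haveI : Finite 𝒱.I₀ := hfin
  haveI : ∀ j, Flat (𝒱.f j) := 𝒱.map_prop
  let Y : 𝒱.I₀ → Scheme.{u} := fun j => Spec (𝒱.X j)
  let IV : ∀ j, (Y j).IdealSheafData := fun j => (I (r.s₀ j)).comap (r.h₀ j)
  let π : ∐ Y ⟶ P := Sigma.desc 𝒱.f
  have hιπ : ∀ j, Sigma.ι Y j ≫ π = 𝒱.f j := fun j => Sigma.ι_desc _ _
  have hw : ∀ j, r.h₀ j ≫ 𝒰.f (r.s₀ j) = 𝒱.f j := fun j => r.w₀ j
  haveI : Flat π := IsZariskiLocalAtSource.sigmaDesc (fun j => 𝒱.map_prop j)
  haveI : Surjective π := ⟨fun x => by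
    obtain ⟨y, hy⟩ := 𝒱.covers x
    exact ⟨Sigma.ι Y _ y, by rw [← Scheme.Hom.comp_apply, hιπ]; exact hy⟩⟩
  haveI : IsAffine (∐ Y) := inferInstance
  haveI : QuasiCompact π := inferInstance
  -- kernel pair stability
  have KP : (coprodIdeal Y IV).comap (pullback.fst π π) =
      (coprodIdeal Y IV).comap (pullback.snd π π) := by
    let 𝒲 := Scheme.Pullback.openCoverOfLeftRight (sigmaOpenCover Y) (sigmaOpenCover Y) π π
    let m : ∀ jk : 𝒱.I₀ × 𝒱.I₀,
        pullback (Sigma.ι Y jk.1 ≫ π) (Sigma.ι Y jk.2 ≫ π) ⟶ pullback π π := fun jk =>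
      pullback.map _ _ _ _ (Sigma.ι Y jk.1) (Sigma.ι Y jk.2) (𝟙 P) (Category.comp_id _)
        (Category.comp_id _)
    haveI : ∀ jk, IsOpenImmersion (m jk) := fun jk => 𝒲.map_prop jk
    haveI : ∀ jk, Flat (m jk) := fun jk => inferInstance
    refine eq_of_comap_eq m (fun x => ⟨_, 𝒲.covers x⟩) ?_
    rintro ⟨j, k⟩
    have e1 : m (j, k) ≫ pullback.fst π π = pullback.fst _ _ ≫ Sigma.ι Y j :=
      pullback.lift_fst _ _ _
    have e2 : m (j, k) ≫ pullback.snd π π = pullback.snd _ _ ≫ Sigma.ι Y k :=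
      pullback.lift_snd _ _ _
    rw [← Scheme.IdealSheafData.comap_comp, ← Scheme.IdealSheafData.comap_comp, e1, e2,
      Scheme.IdealSheafData.comap_comp, Scheme.IdealSheafData.comap_comp, comap_coprodIdeal,
      comap_coprodIdeal]
    change ((I (r.s₀ j)).comap (r.h₀ j)).comap _ = ((I (r.s₀ k)).comap (r.h₀ k)).comap _
    rw [← Scheme.IdealSheafData.comap_comp, ← Scheme.IdealSheafData.comap_comp]
    refine comap_eq_of_fac (h (r.s₀ j) (r.s₀ k))
      (pullback.lift (pullback.fst _ _ ≫ r.h₀ j) (pullback.snd _ _ ≫ r.h₀ k) ?_)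
      (pullback.lift_fst _ _ _) (pullback.lift_snd _ _ _)
    rw [Category.assoc, Category.assoc, hw, hw, ← hιπ j, ← hιπ k]
    exact pullback.condition
  have hJ := ClDesc.comap_map_eq π _ KP
  have hJV : ∀ j, ((coprodIdeal Y IV).map π).comap (𝒱.f j) = IV j := by
    intro j
    rw [← hιπ j, Scheme.IdealSheafData.comap_comp, hJ, comap_coprodIdeal]
  refine ⟨(coprodIdeal Y IV).map π, fun i => ?_⟩
  refine eq_of_comap_eq (fun j => pullback.fst (𝒰.f i) (𝒱.f j)) ?_ ?_
  · intro x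
    obtain ⟨z, hz⟩ := 𝒱.covers (𝒰.f i x)
    obtain ⟨w, hw1, -⟩ := Scheme.Pullback.exists_preimage_pullback x z hz.symm
    exact ⟨_, w, hw1⟩
  · intro j
    rw [← Scheme.IdealSheafData.comap_comp, pullback.condition, Scheme.IdealSheafData.comap_comp,
      hJV j]
    change ((I (r.s₀ j)).comap (r.h₀ j)).comap _ = _
    rw [← Scheme.IdealSheafData.comap_comp]
    refine (comap_eq_of_fac (h i (r.s₀ j))
      (pullback.lift (pullback.fst _ _) (pullback.snd _ _ ≫ r.h₀ j) ?_)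
      (pullback.lift_fst _ _ _) (pullback.lift_snd _ _ _)).symm
    rw [Category.assoc, hw]
    exact pullback.condition

section Transport

lemma comap_inv_eq_map {R S : CommRingCat.{u}} (e : R ≅ S) (𝔟 : Ideal R) :
    𝔟.comap e.inv.hom = 𝔟.map e.hom.hom := by
  apply le_antisymm
  · intro x hx
    have := Ideal.mem_map_of_mem e.hom.hom hx
    simpa using this
  · rw [Ideal.map_le_iff_le_comap]
    intro x hx
    simpa using hx

/-- ideal of `Γ(P, W)` attached to an ideal sheaf on the open subscheme `W` -/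
noncomputable def Φ (W : P.affineOpens) (L : (W.1 : Scheme.{u}).IdealSheafData) :
    Ideal Γ(P, W.1) :=
  (L.ideal ⟨⊤, @isAffineOpen_top _ W.2⟩).map W.1.topIso.hom.hom

lemma Φ_comap (K : P.IdealSheafData) (W : P.affineOpens) : Φ W (K.comap W.1.ι) = K.ideal W := by
  unfold Φ
  rw [Scheme.IdealSheafData.ideal_comap_of_isOpenImmersion]
  simp only [Scheme.Opens.ι_appIso, Iso.refl_inv]
  erw [Ideal.comap_id]
  rw [Scheme.Opens.topIso_hom]
  have hA : IsAffineOpen (W.1.ι ''ᵁ ⊤) := by rw [W.1.ι_image_top]; exact W.2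
  exact K.map_ideal' (U := W) (V := ⟨W.1.ι ''ᵁ ⊤, hA⟩) (eqToHom W.1.ι_image_top.symm).op

lemma Φ_injective (W : P.affineOpens) : Function.Injective (Φ W) := by
  intro L L' h
  haveI : IsAffine (W.1 : Scheme.{u}) := W.2
  apply Scheme.IdealSheafData.ext_of_isAffine
  unfold Φ at h
  rw [← comap_inv_eq_map, ← comap_inv_eq_map] at h
  refine Ideal.comap_injective_of_surjective _ ?_ h
  exact (ConcreteCategory.bijective_of_isIso W.1.topIso.inv).2

lemma Φ_map (W' W : P.affineOpens) (hle : W'.1 ≤ W.1) (L : (W.1 : Scheme.{u}).IdealSheafData) :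
    (Φ W L).map (P.presheaf.map (homOfLE hle).op).hom = Φ W' (L.comap (P.homOfLE hle)) := by
  unfold Φ
  have hA : IsAffineOpen (P.homOfLE hle ''ᵁ ⊤) :=
    (@isAffineOpen_top _ W'.2).image_of_isOpenImmersion _
  rw [Scheme.IdealSheafData.ideal_comap_of_isOpenImmersion, comap_inv_eq_map,
    ← L.map_ideal (U := ⟨P.homOfLE hle ''ᵁ ⊤, hA⟩) (V := ⟨⊤, @isAffineOpen_top _ W.2⟩)
      (le_top (a := P.homOfLE hle ''ᵁ ⊤)),
    Ideal.map_map, Ideal.map_map, Ideal.map_map, ← CommRingCat.hom_comp, ← CommRingCat.hom_comp,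
    ← CommRingCat.hom_comp]
  congr 2
  simp only [Scheme.Opens.topIso_hom, Scheme.Hom.appIso_hom, Scheme.homOfLE_app,
    Scheme.Opens.toScheme_presheaf_map, ← Functor.map_comp]
  rfl

/-- gluing ideal sheaves given on all affine opens -/
noncomputable def glue (JW : ∀ W : P.affineOpens, (W.1 : Scheme.{u}).IdealSheafData)
    (hres : ∀ (W' W : P.affineOpens) (hle : W'.1 ≤ W.1),
      (JW W).comap (P.homOfLE hle) = JW W') : P.IdealSheafData where
  ideal W := Φ W (JW W)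
  map_ideal_basicOpen W f := by
    rw [Φ_map (P.affineBasicOpen f) W (P.basicOpen_le f)]
    exact congrArg (Φ _) (hres _ _ _)

lemma glue_comap_ι (JW : ∀ W : P.affineOpens, (W.1 : Scheme.{u}).IdealSheafData)
    (hres : ∀ (W' W : P.affineOpens) (hle : W'.1 ≤ W.1),
      (JW W).comap (P.homOfLE hle) = JW W') (W : P.affineOpens) :
    (glue JW hres).comap W.1.ι = JW W :=
  Φ_injective W ((Φ_comap _ W).trans rfl)

end Transport

/-- existence over a general base -/
theorem exists_of_cover (𝒰 : Scheme.Cover.{u} (Scheme.precoverage @Flat) P)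
    [QuasiCompactCover 𝒰.1] (I : ∀ i, (𝒰.X i).IdealSheafData)
    (h : ∀ i j, (I i).comap (pullback.fst (𝒰.f i) (𝒰.f j)) =
      (I j).comap (pullback.snd (𝒰.f i) (𝒰.f j))) :
    ∃ J : P.IdealSheafData, ∀ i, J.comap (𝒰.f i) = I i := by
  haveI : ∀ i, Flat (𝒰.f i) := 𝒰.map_prop
  have key : ∀ W : P.affineOpens, ∃ JW : (W.1 : Scheme.{u}).IdealSheafData,
      ∀ i, JW.comap (pullback.fst W.1.ι (𝒰.f i)) = (I i).comap (pullback.snd W.1.ι (𝒰.f i)) := by
    intro W
    haveI : IsAffine (W.1 : Scheme.{u}) := W.2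
    haveI : QuasiCompactCover (𝒰.pullback₁ W.1.ι).1 :=
      inferInstanceAs (QuasiCompactCover (𝒰.1.pullback₁ W.1.ι))
    refine exists_of_isAffine (𝒰.pullback₁ W.1.ι)
      (fun i => (I i).comap (pullback.snd W.1.ι (𝒰.f i))) ?_
    intro i j
    change ((I i).comap (pullback.snd W.1.ι (𝒰.f i))).comap
        (pullback.fst (pullback.fst W.1.ι (𝒰.f i)) (pullback.fst W.1.ι (𝒰.f j))) =
      ((I j).comap (pullback.snd W.1.ι (𝒰.f j))).comap
        (pullback.snd (pullback.fst W.1.ι (𝒰.f i)) (pullback.fst W.1.ι (𝒰.f j)))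
    rw [← Scheme.IdealSheafData.comap_comp, ← Scheme.IdealSheafData.comap_comp]
    refine comap_eq_of_fac (h i j)
      (pullback.lift (pullback.fst _ _ ≫ pullback.snd W.1.ι (𝒰.f i))
        (pullback.snd _ _ ≫ pullback.snd W.1.ι (𝒰.f j)) ?_)
      (pullback.lift_fst _ _ _) (pullback.lift_snd _ _ _)
    rw [Category.assoc, Category.assoc, ← pullback.condition, ← pullback.condition,
      ← Category.assoc, ← Category.assoc, pullback.condition]
  choose JW hJW using key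
  have hcov : ∀ (W : P.affineOpens) (x : (W.1 : Scheme.{u})),
      ∃ i, x ∈ Set.range (pullback.fst W.1.ι (𝒰.f i)) := by
    intro W x
    obtain ⟨i, y, hy⟩ := 𝒰.exists_eq (W.1.ι x)
    obtain ⟨w, hw1, -⟩ := Scheme.Pullback.exists_preimage_pullback x y hy.symm
    exact ⟨i, w, hw1⟩
  have hres : ∀ (W' W : P.affineOpens) (hle : W'.1 ≤ W.1),
      (JW W).comap (P.homOfLE hle) = JW W' := by
    intro W' W hle
    refine eq_of_comap_eq (fun i => pullback.fst W'.1.ι (𝒰.f i)) (hcov W') ?_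
    intro i
    rw [← Scheme.IdealSheafData.comap_comp, hJW W' i]
    refine comap_eq_of_fac (hJW W i)
      (pullback.lift (pullback.fst _ _ ≫ P.homOfLE hle) (pullback.snd _ _) ?_)
      (pullback.lift_fst _ _ _) (pullback.lift_snd _ _ _)
    rw [Category.assoc, Scheme.homOfLE_ι]
    exact pullback.condition
  refine ⟨glue JW hres, fun i => ?_⟩
  refine eq_of_comap_eq (fun W : P.affineOpens => pullback.snd W.1.ι (𝒰.f i)) ?_ ?_
  · intro x
    obtain ⟨_, ⟨W, hW, rfl⟩, hxW, -⟩ := P.isBasis_affineOpens.exists_subset_of_mem_open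
      (Set.mem_univ (𝒰.f i x)) isOpen_univ
    obtain ⟨w, -, hw2⟩ := Scheme.Pullback.exists_preimage_pullback
      (f := Scheme.Opens.ι W) (g := 𝒰.f i) ⟨𝒰.f i x, hxW⟩ x rfl
    exact ⟨⟨W, hW⟩, w, hw2⟩
  · intro W
    rw [← Scheme.IdealSheafData.comap_comp, ← pullback.condition,
      Scheme.IdealSheafData.comap_comp, glue_comap_ι, hJW W i]

/-- `S11731` -/
theorem main {ι : Type u} {Q : ι → Scheme.{u}} (g : ∀ i, Q i ⟶ P)
    (hg : Presieve.ofArrows Q g ∈ Scheme.fpqcPrecoverage P)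
    (I : ∀ i, (Q i).IdealSheafData)
    (h : ∀ i j, (I i).comap (pullback.fst (g i) (g j)) = (I j).comap (pullback.snd (g i) (g j))) :
    ∃! J : P.IdealSheafData, ∀ i, J.comap (g i) = I i := by
  let 𝒰 : Scheme.Cover.{u} (Scheme.precoverage @Flat) P :=
    { I₀ := ι, X := Q, f := g, mem₀ := hg.2 }
  haveI : QuasiCompactCover 𝒰.1 := Scheme.presieve₀_mem_qcPrecoverage_iff.mp hg.1
  haveI : ∀ i, Flat (g i) := 𝒰.map_prop
  obtain ⟨J, hJ⟩ := exists_of_cover 𝒰 I h
  refine ⟨J, hJ, fun J' hJ' => ?_⟩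
  refine eq_of_comap_eq g (fun x => ?_) (fun i => (hJ' i).trans (hJ i).symm)
  obtain ⟨i, y, hy⟩ := 𝒰.exists_eq x
  exact ⟨i, y, hy⟩

end Groth.Agent.Helper8.IdDesc
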