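import Mathlib
import Groth.Prelude.Def_DescFam
import Groth.Agent.Helper8.IdDesc

set_option autoImplicit false
set_option backward.isDefEq.respectTransparency false
set_option backward.isDefEq.respectTransparency.types false

namespace Groth.Agent.Helper8.ClImmDesc

open CategoryTheory CategoryTheory.Limits AlgebraicGeometry Opposite

universe u

variable {S : Scheme.{u}} {ι : Type u} {X : ι → Scheme.{u}} {f : ∀ i, X i ⟶ S}
  (D : Desc.SchDDFam f) (hD : ∀ i, IsClosedImmersion (D.obj i).hom)

include hD in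
/-- the descent datum transports factorisations through the closed subschemes -/
lemma ker_le {T : Scheme.{u}} {i j : ι} (x₀ : T ⟶ X i) (x₁ : T ⟶ X j)
    (h : x₀ ≫ f i = x₁ ≫ f j) :
    (D.obj j).hom.ker.comap x₁ ≤ (D.obj i).hom.ker.comap x₀ := by
  haveI := hD i
  haveI := hD j
  rw [← Scheme.IdealSheafData.ker_fst_of_isClosedImmersion,
    ← Scheme.IdealSheafData.ker_fst_of_isClosedImmersion]
  let a := pullback.fst x₀ (D.obj i).hom
  let v₀ : Desc.Lifts (D.obj i) (a ≫ x₀) := ⟨pullback.snd x₀ (D.obj i).hom, pullback.condition.symm⟩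
  have h' : (a ≫ x₀) ≫ f i = (a ≫ x₁) ≫ f j := by
    rw [Category.assoc, Category.assoc, h]
  let w := D.φ (a ≫ x₀) (a ≫ x₁) h' v₀
  have e : pullback.lift a w.1 w.2.symm ≫ pullback.fst x₁ (D.obj j).hom = a :=
    pullback.lift_fst _ _ _
  have := Scheme.Hom.le_ker_comp (pullback.lift a w.1 w.2.symm) (pullback.fst x₁ (D.obj j).hom)
  rwa [e] at this

include hD in
lemma compat (i j : ι) :
    (D.obj i).hom.ker.comap (pullback.fst (f i) (f j)) =
      (D.obj j).hom.ker.comap (pullback.snd (f i) (f j)) :=
  le_antisymm (ker_le D hD _ _ pullback.condition.symm) (ker_le D hD _ _ pullback.condition)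

/-- two closed immersions into `Z` with the same kernel are isomorphic over `Z` -/
noncomputable def overIso {Z : Scheme.{u}} (A B : Over Z) [IsClosedImmersion A.hom]
    [IsClosedImmersion B.hom] (e : A.hom.ker = B.hom.ker) : A ≅ B :=
  Over.isoMk
    { hom := IsClosedImmersion.lift B.hom A.hom e.ge
      inv := IsClosedImmersion.lift A.hom B.hom e.le
      hom_inv_id := by
        rw [← cancel_mono A.hom, Category.assoc, IsClosedImmersion.lift_fac,
          IsClosedImmersion.lift_fac, Category.id_comp]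
      inv_hom_id := by
        rw [← cancel_mono B.hom, Category.assoc, IsClosedImmersion.lift_fac,
          IsClosedImmersion.lift_fac, Category.id_comp] }
    (IsClosedImmersion.lift_fac _ _ _)

include hD in
theorem main (hf : Presieve.ofArrows X f ∈ Scheme.fpqcPrecoverage S) : D.IsEffective := by
  obtain ⟨J, hJ, -⟩ := IdDesc.main f hf (fun i => (D.obj i).hom.ker) (compat D hD)
  let U : Over S := Over.mk J.subschemeι
  haveI : ∀ i, IsClosedImmersion (D.obj i).hom := hD
  haveI : IsClosedImmersion U.hom := inferInstanceAs (IsClosedImmersion J.subschemeι)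
  haveI : ∀ i, IsClosedImmersion ((Desc.canonicalDDFam f U).obj i).hom := fun i =>
    inferInstanceAs (IsClosedImmersion (pullback.fst (f i) U.hom))
  have hr : ∀ i, ((Desc.canonicalDDFam f U).obj i).hom.ker = (D.obj i).hom.ker := by
    intro i
    change (pullback.fst (f i) J.subschemeι).ker = _
    rw [Scheme.IdealSheafData.ker_fst_of_isClosedImmersion, Scheme.IdealSheafData.ker_subschemeι]
    exact hJ i
  let e : ∀ i, (Desc.canonicalDDFam f U).obj i ≅ D.obj i := fun i => overIso _ _ (hr i)
  suffices key : Nonempty (Desc.canonicalDDFam f U ≅ D) from ⟨U, key⟩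
  refine ⟨⟨⟨fun i => (e i).hom, ?_⟩, ⟨fun i => (e i).inv, ?_⟩, ?_, ?_⟩⟩
  · intro T i j x₀ x₁ h v w hw
    rw [← cancel_mono (D.obj j).hom, Category.assoc, Over.w (e j).hom]
    exact (D.φ x₀ x₁ h w).2.trans ((Desc.canonicalDDFam f U).φ x₀ x₁ h v).2.symm
  · intro T i j x₀ x₁ h v w hw
    rw [← cancel_mono ((Desc.canonicalDDFam f U).obj j).hom, Category.assoc, Over.w (e j).inv]
    exact ((Desc.canonicalDDFam f U).φ x₀ x₁ h w).2.trans (D.φ x₀ x₁ h v).2.symm
  · apply Desc.SchDDFam.hom_ext
    funext i
    exact (e i).hom_inv_id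
  · apply Desc.SchDDFam.hom_ext
    funext i
    exact (e i).inv_hom_id

end Groth.Agent.Helper8.ClImmDesc
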