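import Mathlib
import Groth.Prelude.Def_QuadGrp
set_option autoImplicit false
universe u v

namespace Groth.Agent.Helper8.Cliff3
open QuadGrp CliffordAlgebra

section Abstract
variable {k : Type u} [CommRing k] {𝔸 : Type v} [Ring 𝔸] [Algebra k 𝔸] (a b c : 𝔸)
  (r1 : a * a = 1) (r2 : b * b = 0) (r3 : c * c = 0) (r4 : b * a = -(a * b)) (r5 : c * a = -(a * c))
  (r6 : c * b = 1 - b * c)

include r1 in
theorem r1' (y : 𝔸) : a * (a * y) = y := by rw [← mul_assoc, r1, one_mul]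
include r2 in
theorem r2' (y : 𝔸) : b * (b * y) = 0 := by rw [← mul_assoc, r2, zero_mul]
include r3 in
theorem r3' (y : 𝔸) : c * (c * y) = 0 := by rw [← mul_assoc, r3, zero_mul]
include r4 in
theorem r4' (y : 𝔸) : b * (a * y) = -(a * (b * y)) := by rw [← mul_assoc, r4, neg_mul, mul_assoc]
include r5 in
theorem r5' (y : 𝔸) : c * (a * y) = -(a * (c * y)) := by rw [← mul_assoc, r5, neg_mul, mul_assoc]
include r6 in
theorem r6' (y : 𝔸) : c * (b * y) = y - b * (c * y) := by rw [← mul_assoc, r6, sub_mul, one_mul, mul_assoc]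

set_option hygiene false in
local macro "cliff_norm" : tactic => `(tactic|
  simp only [mul_add, add_mul, mul_sub, sub_mul, smul_mul_assoc, mul_smul_comm, mul_assoc, one_mul, mul_one,
    r1, r2, r3, r4, r5, r6, r1' a r1, r2' b r2, r3' c r3, r4' a b r4, r5' a c r5, r6' b c r6,
    mul_neg, neg_mul, mul_zero, zero_mul, smul_neg, smul_zero, neg_neg, neg_zero, smul_sub, smul_add])

/-- even span -/
def P0 (x : 𝔸) : Prop := ∃ p q r s : k, x = p • (1 : 𝔸) + q • (a * b) + r • (a * c) + s • (b * c)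
/-- odd span -/
def P1 (x : 𝔸) : Prop := ∃ p q r s : k, x = p • a + q • b + r • c + s • (a * (b * c))

include r1 r2 r3 r4 r5 r6 in
theorem norm_formula (p q r s : k) :
    ((p + s) • (1 : 𝔸) - q • (a * b) - r • (a * c) - s • (b * c)) *
      (p • (1 : 𝔸) + q • (a * b) + r • (a * c) + s • (b * c)) = (p * p + p * s + q * r) • (1 : 𝔸) := by
  cliff_norm
  module

include r1 r2 r3 r4 r5 r6 in
theorem P1_of_P0 (m0 m1 m2 : k) {x : 𝔸} (h : P0 (k := k) a b c x) :
    P1 (k := k) a b c ((m0 • a + m1 • b + m2 • c) * x) := by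
  obtain ⟨p, q, r, s, rfl⟩ := h
  refine ⟨m0 * p - m2 * q, m0 * q + m1 * p, m0 * r + m2 * p + m2 * s, m0 * s - m1 * r + m2 * q, ?_⟩
  cliff_norm
  module

include r1 r2 r3 r4 r5 r6 in
theorem P0_of_P1 (m0 m1 m2 : k) {x : 𝔸} (h : P1 (k := k) a b c x) :
    P0 (k := k) a b c ((m0 • a + m1 • b + m2 • c) * x) := by
  obtain ⟨p, q, r, s, rfl⟩ := h
  refine ⟨m0 * p + m2 * q, m0 * q - m1 * p, m0 * r - m2 * p - m2 * s, m0 * s + m1 * r - m2 * q, ?_⟩
  cliff_norm
  module

theorem P0_add {x y : 𝔸} (hx : P0 (k := k) a b c x) (hy : P0 (k := k) a b c y) :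
    P0 (k := k) a b c (x + y) := by
  obtain ⟨p, q, r, s, rfl⟩ := hx
  obtain ⟨p', q', r', s', rfl⟩ := hy
  exact ⟨p + p', q + q', r + r', s + s', by module⟩

include r1 r2 r3 r4 r5 r6 in
theorem conj_formula (p q r s m0 m1 m2 : k) :
    (p • (1 : 𝔸) + q • (a * b) + r • (a * c) + s • (b * c)) * (m0 • a + m1 • b + m2 • c) *
      ((p + s) • (1 : 𝔸) - q • (a * b) - r • (a * c) - s • (b * c)) =
    (m0 * (p * p + p * s - q * r) + m1 * (p + s) * r + m2 * q * p) • a +
    (-2 * m0 * q * (p + s) + m1 * (p + s) * (p + s) - m2 * q * q) • b +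
    (-2 * m0 * p * r - m1 * r * r + m2 * p * p) • c := by
  cliff_norm
  module

end Abstract

section Concrete
variable (k : Type u) [Field k]

theorem split3_apply (x : Fin 3 → k) :
    QuadGrp.splitForm k 3 x = x 1 * x 2 + x 0 * x 0 := by
  simp [splitForm]

local notation "Q3" => QuadGrp.splitForm k 3
local notation "ea" => (CliffordAlgebra.ι (QuadGrp.splitForm k 3) (Pi.single (0 : Fin 3) (1 : k)))
local notation "eb" => (CliffordAlgebra.ι (QuadGrp.splitForm k 3) (Pi.single (1 : Fin 3) (1 : k)))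
local notation "ec" => (CliffordAlgebra.ι (QuadGrp.splitForm k 3) (Pi.single (2 : Fin 3) (1 : k)))

theorem rel1 : ea * ea = 1 := by
  rw [CliffordAlgebra.ι_sq_scalar, split3_apply]; simp
theorem rel2 : eb * eb = 0 := by
  rw [CliffordAlgebra.ι_sq_scalar, split3_apply]; simp
theorem rel3 : ec * ec = 0 := by
  rw [CliffordAlgebra.ι_sq_scalar, split3_apply]; simp
theorem rel4 : eb * ea = -(ea * eb) := by
  apply eq_neg_of_add_eq_zero_left
  rw [CliffordAlgebra.ι_mul_ι_add_swap, QuadraticMap.polar, split3_apply, split3_apply, split3_apply]; simp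
theorem rel5 : ec * ea = -(ea * ec) := by
  apply eq_neg_of_add_eq_zero_left
  rw [CliffordAlgebra.ι_mul_ι_add_swap, QuadraticMap.polar, split3_apply, split3_apply, split3_apply]; simp
theorem rel6 : ec * eb = 1 - eb * ec := by
  apply eq_sub_of_add_eq
  rw [CliffordAlgebra.ι_mul_ι_add_swap, QuadraticMap.polar, split3_apply, split3_apply, split3_apply]; simp

theorem ι_eq (m : Fin 3 → k) :
    CliffordAlgebra.ι Q3 m = m 0 • ea + m 1 • eb + m 2 • ec := by
  have : m = m 0 • Pi.single (0 : Fin 3) (1 : k) + m 1 • Pi.single (1 : Fin 3) (1 : k) +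
      m 2 • Pi.single (2 : Fin 3) (1 : k) := by
    funext i; fin_cases i <;> simp
  conv_lhs => rw [this]
  simp only [map_add, map_smul]

theorem P0_of_even (x : CliffordAlgebra Q3) (hx : x ∈ evenOdd Q3 0) :
    P0 (k := k) ea eb ec x := by
  induction x, hx using CliffordAlgebra.even_induction with
  | algebraMap r => exact ⟨r, 0, 0, 0, by rw [Algebra.algebraMap_eq_smul_one]; module⟩
  | add x y hx hy ihx ihy => exact P0_add _ _ _ ihx ihy
  | ι_mul_ι_mul m₁ m₂ x hx ih =>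
    rw [mul_assoc, ι_eq k m₁, ι_eq k m₂]
    exact P0_of_P1 _ _ _ (rel1 k) (rel2 k) (rel3 k) (rel4 k) (rel5 k) (rel6 k) _ _ _
      (P1_of_P0 _ _ _ (rel1 k) (rel2 k) (rel3 k) (rel4 k) (rel5 k) (rel6 k) _ _ _ ih)


/-- the matrix model -/
def fmat : (Fin 3 → k) →ₗ[k] Matrix (Fin 2) (Fin 2) k where
  toFun x := !![x 0, x 1; x 2, -x 0]
  map_add' x y := by
    ext i j; fin_cases i <;> fin_cases j <;> simp [add_comm]
  map_smul' t x := by
    ext i j; fin_cases i <;> fin_cases j <;> simp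

theorem fmat_sq (m : Fin 3 → k) : fmat k m * fmat k m = algebraMap k _ (Q3 m) := by
  rw [split3_apply]
  ext i j
  fin_cases i <;> fin_cases j <;> simp [fmat, Matrix.mul_apply, Fin.sum_univ_two, Matrix.algebraMap_matrix_apply] <;> ring

noncomputable def rho : CliffordAlgebra Q3 →ₐ[k] Matrix (Fin 2) (Fin 2) k :=
  CliffordAlgebra.lift Q3 ⟨fmat k, fmat_sq k⟩

theorem det_rho (p q r s : k) :
    (rho k (p • (1 : CliffordAlgebra Q3) + q • (ea * eb) + r • (ea * ec) + s • (eb * ec))).det =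
      p * p + p * s + q * r := by
  simp only [map_add, map_smul, map_mul, map_one, rho, CliffordAlgebra.lift_ι_apply]
  rw [Matrix.det_fin_two]
  simp [fmat, Matrix.mul_apply, Fin.sum_univ_two]
  ring


theorem conj_mem (w : (CliffordAlgebra Q3)ˣ) (hw : (w : CliffordAlgebra Q3) ∈ evenOdd Q3 0)
    (m : Fin 3 → k) :
    (w : CliffordAlgebra Q3) * CliffordAlgebra.ι Q3 m * ↑w⁻¹ ∈ LinearMap.range (CliffordAlgebra.ι Q3) := by
  obtain ⟨p, q, r, s, hw'⟩ := P0_of_even k w hw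
  have hn : p * p + p * s + q * r ≠ 0 := by
    rw [← det_rho k p q r s, ← hw']
    have h1 : IsUnit (rho k (w : CliffordAlgebra Q3)) := (w.isUnit).map (rho k)
    exact ((Matrix.isUnit_iff_isUnit_det _).1 h1).ne_zero
  have h1 : ((p + s) • (1 : CliffordAlgebra Q3) - q • (ea * eb) - r • (ea * ec) - s • (eb * ec)) *
      (w : CliffordAlgebra Q3) = (p * p + p * s + q * r) • (1 : CliffordAlgebra Q3) := by
    rw [hw']
    exact norm_formula _ _ _ (rel1 k) (rel2 k) (rel3 k) (rel4 k) (rel5 k) (rel6 k) p q r s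
  have hinv : (↑w⁻¹ : CliffordAlgebra Q3) = (p * p + p * s + q * r)⁻¹ •
      ((p + s) • (1 : CliffordAlgebra Q3) - q • (ea * eb) - r • (ea * ec) - s • (eb * ec)) := by
    apply Units.inv_eq_of_mul_eq_one_left
    rw [smul_mul_assoc, h1, smul_smul, inv_mul_cancel₀ hn, one_smul]
  rw [hinv, mul_smul_comm, ι_eq k m, hw',
    conj_formula _ _ _ (rel1 k) (rel2 k) (rel3 k) (rel4 k) (rel5 k) (rel6 k) p q r s (m 0) (m 1) (m 2)]
  refine ⟨(p * p + p * s + q * r)⁻¹ •
    ((m 0 * (p * p + p * s - q * r) + m 1 * (p + s) * r + m 2 * q * p) • Pi.single (0 : Fin 3) (1 : k) +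
    (-2 * m 0 * q * (p + s) + m 1 * (p + s) * (p + s) - m 2 * q * q) • Pi.single (1 : Fin 3) (1 : k) +
    (-2 * m 0 * p * r - m 1 * r * r + m 2 * p * p) • Pi.single (2 : Fin 3) (1 : k)), ?_⟩
  simp only [map_add, map_smul]

theorem main : QuadGrp.evenUnits (QuadGrp.splitForm k 3) ≤ QuadGrp.GPin' (QuadGrp.splitForm k 3) := by
  intro w hw
  rw [QuadGrp.mem_evenUnits] at hw
  rw [QuadGrp.mem_GPin']
  have hw' : ((w⁻¹ : (CliffordAlgebra Q3)ˣ) : CliffordAlgebra Q3) ∈ evenOdd Q3 0 :=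
    (QuadGrp.mem_evenUnits _ _).1 ((QuadGrp.evenUnits Q3).inv_mem ((QuadGrp.mem_evenUnits _ _).2 hw))
  apply le_antisymm
  · intro y hy
    rw [Submodule.mem_smul_pointwise_iff_exists] at hy
    obtain ⟨x, ⟨m, rfl⟩, rfl⟩ := hy
    rw [ConjAct.units_smul_def, ConjAct.ofConjAct_toConjAct]
    exact conj_mem k w hw m
  · rintro y ⟨m, rfl⟩
    rw [Submodule.mem_smul_pointwise_iff_exists]
    refine ⟨(w⁻¹ : (CliffordAlgebra Q3)ˣ) * CliffordAlgebra.ι Q3 m * ↑(w⁻¹)⁻¹, conj_mem k w⁻¹ hw' m, ?_⟩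
    rw [ConjAct.units_smul_def, ConjAct.ofConjAct_toConjAct, inv_inv]
    simp [mul_assoc]

end Concrete
end Groth.Agent.Helper8.Cliff3
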