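import Mathlib
import Groth.Agent.S6273

set_option autoImplicit false
universe u
open TopologicalSpace PrimeSpectrum

namespace Groth.Agent.Helper8.ClopLoc

theorem isOpen_of_isClosed_of_stableUnderGeneralization {X : Type u} [TopologicalSpace X]
    [NoetherianSpace X] [QuasiSober X] {Z : Set X} (hZ : IsClosed Z)
    (hgen : StableUnderGeneralization Z) : IsOpen Z := by
  rw [← isClosed_compl_iff]
  have hfin := NoetherianSpace.finite_irreducibleComponents (α := X)
  have key : ∀ C ∈ irreducibleComponents X, (C ∩ Z).Nonempty → C ⊆ Z := by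
    rintro C hC ⟨z, hzC, hzZ⟩
    have hCirr : IsIrreducible C := hC.1
    have hCcl : IsClosed C := isClosed_of_mem_irreducibleComponents C hC
    obtain ⟨η, hη⟩ := QuasiSober.sober hCirr hCcl
    have hsp : η ⤳ z := by
      rw [specializes_iff_mem_closure, hη.def]; exact hzC
    have hηZ : η ∈ Z := hgen hsp hzZ
    rw [← hη.def]
    exact (hZ.closure_subset_iff).mpr (Set.singleton_subset_iff.mpr hηZ)
  have hEq : Zᶜ = ⋃₀ {C ∈ irreducibleComponents X | Disjoint C Z} := by
    ext x
    simp only [Set.mem_compl_iff, Set.mem_sUnion, Set.mem_sep_iff]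
    constructor
    · intro hx
      obtain ⟨C, hC, hxC⟩ := exists_mem_irreducibleComponents_subset_of_isIrreducible {x}
        isIrreducible_singleton
      refine ⟨C, ⟨hC, ?_⟩, hxC rfl⟩
      rw [Set.disjoint_iff_inter_eq_empty]
      by_contra hne
      exact hx (key C hC (Set.nonempty_iff_ne_empty.mpr hne) (hxC rfl))
    · rintro ⟨C, ⟨_, hd⟩, hxC⟩ hxZ
      exact Set.disjoint_left.mp hd hxC hxZ
  rw [hEq, Set.sUnion_eq_biUnion]
  refine (hfin.subset (Set.sep_subset _ _)).isClosed_biUnion fun C hC => ?_
  exact isClosed_of_mem_irreducibleComponents C hC.1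

variable {R : Type u} [CommRing R] (S : Submonoid R) (A : Type u) [CommRing A] [Algebra R A]
  [IsLocalization S A]

include S in
theorem stableUnderGeneralization_range :
    StableUnderGeneralization (Set.range (PrimeSpectrum.comap (algebraMap R A))) := by
  rw [localization_comap_range A S]
  intro x y hyx hx
  have hle : y ≤ x := (PrimeSpectrum.le_iff_specializes y x).mpr hyx
  exact hx.mono_right hle

include S in
theorem isOpen_range_of_fg (hS : S.FG) :
    IsOpen (Set.range (PrimeSpectrum.comap (algebraMap R A))) := by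
  classical
  obtain ⟨T, hT⟩ := hS
  have : Set.range (PrimeSpectrum.comap (algebraMap R A)) = (basicOpen (∏ t ∈ T, t) : Set _) := by
    rw [localization_comap_range A S]
    ext p
    simp only [Set.mem_ofPred_eq, SetLike.mem_coe, PrimeSpectrum.mem_basicOpen]
    constructor
    · intro hd hmem
      refine Set.disjoint_left.mp hd ?_ hmem
      rw [← hT]
      exact Submonoid.prod_mem _ fun t ht => Submonoid.subset_closure ht
    · intro hprod
      rw [Set.disjoint_left]
      intro s hs hsp
      rw [SetLike.mem_coe, ← hT] at hs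
      induction hs using Submonoid.closure_induction with
      | mem t ht =>
        exact hprod (Ideal.mem_of_dvd _ (Finset.dvd_prod_of_mem (fun t => t) ht) hsp)
      | one => exact p.2.ne_top ((Ideal.eq_top_iff_one _).mpr hsp)
      | mul a b _ _ ha hb =>
        rcases p.2.mem_or_mem hsp with h | h
        · exact ha h
        · exact hb h
  rw [this]
  exact (basicOpen _).2

include S in
theorem exists_equiv_of_isClopen
    (hclopen : IsClopen (Set.range (PrimeSpectrum.comap (algebraMap R A)))) :
    ∃ (R' : Type u) (_ : CommRing R') (e : R ≃+* A × R'), ∀ x : R, (e x).1 = algebraMap R A x := by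
  have hsurj : Function.Surjective (algebraMap R A) :=
    Groth.Agent.S6273.result S A hclopen.1
  obtain ⟨e, he, hZe⟩ := isClopen_iff_zeroLocus.mp hclopen
  have hZK : Set.range (PrimeSpectrum.comap (algebraMap R A)) =
      zeroLocus (RingHom.ker (algebraMap R A)) :=
    range_comap_of_surjective _ _ hsurj
  -- `e ∈ K`
  have heK : e ∈ RingHom.ker (algebraMap R A) := by
    have hsub : zeroLocus ((RingHom.ker (algebraMap R A) : Ideal R) : Set R) ⊆
        zeroLocus ((Ideal.span {e} : Ideal R) : Set R) := by
      rw [zeroLocus_span, ← hZe, hZK]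
    rw [zeroLocus_subset_zeroLocus_iff] at hsub
    obtain ⟨n, hn⟩ := hsub (Ideal.subset_span rfl)
    rcases n with _ | n
    · rw [pow_zero] at hn
      rw [(Ideal.eq_top_iff_one _).mpr hn]; trivial
    · rwa [he.pow_succ_eq] at hn
  -- `x ∈ K → x * (1 - e) = 0`
  have hK : ∀ x ∈ RingHom.ker (algebraMap R A), x * (1 - e) = 0 := by
    intro x hx
    rw [RingHom.mem_ker, IsLocalization.map_eq_zero_iff S] at hx
    obtain ⟨s, hs⟩ := hx
    have hcop : Ideal.span {(s : R)} ⊔ Ideal.span {e} = ⊤ := by
      by_contra hne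
      obtain ⟨m, hm, hle⟩ := Ideal.exists_le_maximal _ hne
      have hsm : (s : R) ∈ m := hle (Ideal.mem_sup_left (Ideal.subset_span rfl))
      have hem : e ∈ m := hle (Ideal.mem_sup_right (Ideal.subset_span rfl))
      have hmZ : (⟨m, hm.isPrime⟩ : PrimeSpectrum R) ∈
          Set.range (PrimeSpectrum.comap (algebraMap R A)) := by
        rw [hZe, mem_zeroLocus, Set.singleton_subset_iff]; exact hem
      rw [localization_comap_range A S] at hmZ
      exact Set.disjoint_left.mp hmZ s.2 hsm
    have h1 : (1 : R) ∈ Ideal.span {(s : R)} ⊔ Ideal.span {e} := by rw [hcop]; trivial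
    rw [Submodule.mem_sup] at h1
    obtain ⟨a, ha, b, hb, hab⟩ := h1
    rw [Ideal.mem_span_singleton'] at ha hb
    obtain ⟨a', rfl⟩ := ha
    obtain ⟨b', rfl⟩ := hb
    have hee : e * (1 - e) = 0 := by rw [mul_sub, mul_one, he.eq, sub_self]
    calc x * (1 - e) = (a' * s + b' * e) * (x * (1 - e)) := by rw [hab, one_mul]
      _ = a' * (s * x) * (1 - e) + b' * x * (e * (1 - e)) := by ring
      _ = 0 := by rw [hs, hee]; ring
  let ψ : R →+* A × (R ⧸ Ideal.span {1 - e}) :=
    (algebraMap R A).prod (Ideal.Quotient.mk _)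
  have hψinj : Function.Injective ψ := by
    rw [injective_iff_map_eq_zero]
    intro x hx
    have h1 : algebraMap R A x = 0 := congr_arg Prod.fst hx
    have h2 : Ideal.Quotient.mk (Ideal.span {1 - e}) x = 0 := congr_arg Prod.snd hx
    rw [Ideal.Quotient.eq_zero_iff_mem, Ideal.mem_span_singleton'] at h2
    obtain ⟨c, rfl⟩ := h2
    have := hK _ h1
    have hsq : (1 - e) * (1 - e) = 1 - e := he.one_sub.eq
    rw [mul_assoc, hsq] at this
    exact this
  have hψsurj : Function.Surjective ψ := by
    rintro ⟨a, r'⟩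
    obtain ⟨x, rfl⟩ := hsurj a
    obtain ⟨y, rfl⟩ := Ideal.Quotient.mk_surjective r'
    refine ⟨x * (1 - e) + y * e, Prod.ext ?_ ?_⟩
    · change algebraMap R A (x * (1 - e) + y * e) = algebraMap R A x
      have he0 : algebraMap R A e = 0 := heK
      simp [he0]
    · change Ideal.Quotient.mk _ (x * (1 - e) + y * e) = Ideal.Quotient.mk _ y
      rw [Ideal.Quotient.eq, Ideal.mem_span_singleton']
      exact ⟨x - y, by ring⟩
  exact ⟨R ⧸ Ideal.span {1 - e}, inferInstance, RingEquiv.ofBijective ψ ⟨hψinj, hψsurj⟩,
    fun x => rfl⟩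

include S in
theorem s6274 (hcl : IsClosed (Set.range (PrimeSpectrum.comap (algebraMap R A))))
    (h : TopologicalSpace.NoetherianSpace (PrimeSpectrum R) ∨ S.FG) :
    ∃ (R' : Type u) (_ : CommRing R') (e : R ≃+* A × R'), ∀ x : R, (e x).1 = algebraMap R A x := by
  refine exists_equiv_of_isClopen S A ⟨hcl, ?_⟩
  rcases h with h | h
  · exact isOpen_of_isClosed_of_stableUnderGeneralization hcl
      (stableUnderGeneralization_range S A)
  · exact isOpen_range_of_fg S A h

end Groth.Agent.Helper8.ClopLoc
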