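import Mathlib

namespace Groth.Agent.Helper8.CodimChain

variable {P : Type*} [PartialOrder P]

/-- codimension of `a` in `b` in a poset -/
noncomputable def cd (a b : P) : ℕ∞ :=
  ⨆ (s : LTSeries P) (_ : s.head = a ∧ s.last ≤ b), (s.length : ℕ∞)

/-- saturated chains -/
def IsSat (s : LTSeries P) : Prop :=
  ∀ i : Fin s.length, s (Fin.castSucc i) ⋖ s (Fin.succ i)

lemma le_cd {a b : P} (s : LTSeries P) (h1 : s.head = a) (h2 : s.last ≤ b) :
    (s.length : ℕ∞) ≤ cd a b :=
  le_iSup₂_of_le s ⟨h1, h2⟩ le_rfl

lemma cd_le {a b : P} {n : ℕ∞}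
    (h : ∀ s : LTSeries P, s.head = a → s.last ≤ b → (s.length : ℕ∞) ≤ n) : cd a b ≤ n :=
  iSup₂_le fun s hs => h s hs.1 hs.2

lemma head_eq_last_of_length_eq_zero (s : LTSeries P) (h : s.length = 0) : s.head = s.last := by
  unfold RelSeries.head RelSeries.last
  congr 1
  apply Fin.ext
  simp [h]

lemma cd_self (a : P) : cd a a = 0 := by
  refine le_antisymm (cd_le fun s h1 h2 => ?_) bot_le
  by_contra hne
  have hpos : 0 < s.length := by
    rcases Nat.eq_zero_or_pos s.length with h | h
    · exfalso; apply hne; simp [h]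
    · exact h
  have : s.head < s.last := s.strictMono (by
    rw [Fin.lt_def]; simpa using hpos)
  rw [h1] at this
  exact absurd (lt_of_lt_of_le this h2) (lt_irrefl _)

/-- the two-term chain -/
def two (a b : P) (h : a < b) : LTSeries P where
  length := 1
  toFun := ![a, b]
  step := fun i => by
    fin_cases i
    exact h

lemma cd_covBy {a b : P} (h : a ⋖ b) : cd a b = 1 := by
  apply le_antisymm
  · refine cd_le fun s h1 h2 => ?_
    by_contra hne
    have h2' : 2 ≤ s.length := by
      by_contra h3
      apply hne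
      have : s.length ≤ 1 := by omega
      exact_mod_cast this
    have l1 : s ⟨0, by omega⟩ < s ⟨1, by omega⟩ := s.strictMono (by simp [Fin.lt_def])
    have l2 : s ⟨1, by omega⟩ < s ⟨2, by omega⟩ := s.strictMono (by simp [Fin.lt_def])
    have l3 : s ⟨2, by omega⟩ ≤ s.last := s.monotone (Fin.le_last _)
    have h0 : s ⟨0, by omega⟩ = a := h1
    rw [h0] at l1
    exact h.2 l1 (lt_of_lt_of_le l2 (l3.trans h2))
  · have : ((1 : ℕ) : ℕ∞) ≤ cd a b :=
      le_cd (a := a) (b := b) (two a b h.lt) rfl (le_of_eq rfl)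
    exact_mod_cast this

lemma exists_sat {a b : P} (hab : a ≤ b) (h : cd a b ≠ ⊤) :
    ∃ s : LTSeries P, s.head = a ∧ s.last = b ∧ IsSat s ∧ (s.length : ℕ∞) = cd a b := by
  have hne : Nonempty {s : LTSeries P // s.head = a ∧ s.last ≤ b} :=
    ⟨⟨RelSeries.singleton _ a, by simp, by simpa using hab⟩⟩
  have hcd : cd a b = ⨆ t : {s : LTSeries P // s.head = a ∧ s.last ≤ b}, (t.1.length : ℕ∞) := by
    unfold cd
    rw [iSup_subtype']
  have hlt : (⨆ t : {s : LTSeries P // s.head = a ∧ s.last ≤ b}, (t.1.length : ℕ∞)) < ⊤ := by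
    rw [← hcd]; exact lt_top_iff_ne_top.mpr h
  obtain ⟨⟨s, hs1, hs2⟩, hs⟩ := ENat.exists_eq_iSup_of_lt_top hlt
  rw [← hcd] at hs
  simp only at hs
  have hlast : s.last = b := by
    by_contra hne'
    have hlt' : s.last < b := lt_of_le_of_ne hs2 hne'
    have := le_cd (a := a) (b := b) (s.snoc b hlt') (by simp [hs1]) (by simp)
    rw [← hs] at this
    simp only [RelSeries.snoc_length] at this
    have : s.length + 1 ≤ s.length := by exact_mod_cast this
    omega
  refine ⟨s, hs1, hlast, ?_, hs⟩
  intro i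
  refine ⟨s.step i, ?_⟩
  intro c hc1 hc2
  have hhead : (s.insertNth i c hc1 hc2).head = a := by
    rw [← hs1]
    unfold RelSeries.head
    change (Fin.castSucc i.succ).insertNth (α := fun _ => P) c s 0 = s 0
    have : (0 : Fin (s.length + 1 + 1)) = (Fin.castSucc i.succ).succAbove 0 := by
      rw [Fin.succAbove_of_castSucc_lt]
      · rfl
      · rw [Fin.lt_def]; simp
    rw [this, Fin.insertNth_apply_succAbove]
  have hlast' : (s.insertNth i c hc1 hc2).last = s.last := by
    unfold RelSeries.last
    change (Fin.castSucc i.succ).insertNth (α := fun _ => P) c s (Fin.last _) = s (Fin.last _)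
    have : (Fin.last (s.length + 1)) = (Fin.castSucc i.succ).succAbove (Fin.last s.length) := by
      rw [Fin.succAbove_of_le_castSucc]
      · simp
      · rw [Fin.le_def]; simp
    rw [this, Fin.insertNth_apply_succAbove]
  have := le_cd (s.insertNth i c hc1 hc2) hhead (hlast'.le.trans hs2)
  rw [← hs] at this
  simp only [RelSeries.insertNth_length] at this
  have : s.length + 1 ≤ s.length := by exact_mod_cast this
  omega

lemma isSat_smash {p q : LTSeries P} (h : p.last = q.head) (hp : IsSat p) (hq : IsSat q) :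
    IsSat (RelSeries.smash p q h) := by
  have key : ∀ i : Fin (p.length + q.length),
      (RelSeries.smash p q h) i.castSucc ⋖ (RelSeries.smash p q h) i.succ := by
    intro i
    refine Fin.addCases (fun j => ?_) (fun j => ?_) i
    · rw [RelSeries.smash_castAdd, RelSeries.smash_succ_castAdd]
      exact hp j
    · rw [RelSeries.smash_natAdd, RelSeries.smash_succ_natAdd]
      exact hq j
  exact key

/-- the poset is catenary -/
def IsCat (P : Type*) [PartialOrder P] : Prop :=
  ∀ T T' : P, T ≤ T' →
    cd T T' ≠ ⊤ ∧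
    ∀ s : LTSeries P, s.head = T → s.last = T' → IsSat s → (s.length : ℕ∞) = cd T T'

lemma isSat_eraseLast (s : LTSeries P) (hs : IsSat s) : IsSat s.eraseLast := by
  intro i
  have hi : i.val < s.length - 1 := i.2
  have := hs ⟨i.val, by omega⟩
  exact this

lemma eraseLast_last_covBy (s : LTSeries P) (hs : IsSat s) (h : s.length ≠ 0) :
    s.eraseLast.last ⋖ s.last := by
  have := hs ⟨s.length - 1, by omega⟩
  have e1 : s.eraseLast.last = s (Fin.castSucc ⟨s.length - 1, by omega⟩) := by
    rw [RelSeries.last_eraseLast]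
    congr 1
  have e2 : s.last = s (Fin.succ ⟨s.length - 1, by omega⟩) := by
    unfold RelSeries.last
    congr 1
    apply Fin.ext
    simp
    omega
  rw [e1, e2]
  exact this

theorem isCat_iff :
    IsCat P ↔
      (∀ Y Y' : P, Y ≤ Y' → cd Y Y' ≠ ⊤) ∧
      (∀ Y Y' Y'' : P, Y ≤ Y' → Y' ≤ Y'' → cd Y Y'' = cd Y Y' + cd Y' Y'') := by
  constructor
  · intro hcat
    refine ⟨fun Y Y' h => (hcat Y Y' h).1, fun Y Y' Y'' h1 h2 => ?_⟩
    obtain ⟨s₁, h11, h12, h13, h14⟩ := exists_sat h1 (hcat Y Y' h1).1
    obtain ⟨s₂, h21, h22, h23, h24⟩ := exists_sat h2 (hcat Y' Y'' h2).1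
    have hconn : s₁.last = s₂.head := by rw [h12, h21]
    have := (hcat Y Y'' (h1.trans h2)).2 (RelSeries.smash s₁ s₂ hconn) (by simp [h11])
      (by simp [h22]) (isSat_smash hconn h13 h23)
    rw [← this, ← h14, ← h24]
    simp
  · rintro ⟨hfin, hadd⟩ T T' hTT'
    refine ⟨hfin T T' hTT', ?_⟩
    intro s
    induction hn : s.length generalizing s T' with
    | zero =>
      intro h1 h2 _
      have := head_eq_last_of_length_eq_zero s hn
      rw [h1, h2] at this
      subst this
      rw [cd_self]
      simp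
    | succ n ih =>
      intro h1 h2 hsat
      have hne : s.length ≠ 0 := by omega
      have hlen : s.eraseLast.length = n := by simp [hn]
      have hle : T ≤ s.eraseLast.last := by
        rw [← h1, ← RelSeries.head_eraseLast]; exact LTSeries.head_le_last _
      have hcov := eraseLast_last_covBy s hsat hne
      have h3 := ih s.eraseLast.last hle s.eraseLast hlen (by simp [h1]) rfl
        (isSat_eraseLast s hsat)
      rw [h2] at hcov
      rw [hadd T s.eraseLast.last T' hle hcov.le, ← h3, cd_covBy hcov]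
      push_cast
      rfl

/-- a grading function controls the codimension -/
theorem cd_le_of_strictMono (γ : P → ℤ) (hγ : StrictMono γ) (a b : P) :
    cd a b ≤ ((γ b - γ a).toNat : ℕ∞) := by
  refine cd_le fun s h1 h2 => ?_
  have h := LTSeries.head_add_length_le_int (s.map γ hγ)
  simp only [LTSeries.head_map, LTSeries.last_map, h1] at h
  have hlen : (s.map γ hγ).length = s.length := rfl
  rw [hlen] at h
  have h3 : γ s.last ≤ γ b := hγ.monotone h2
  have : s.length ≤ (γ b - γ a).toNat := by omega
  exact_mod_cast this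

theorem length_of_isSat (γ : P → ℤ) (hcov : ∀ a b : P, a ⋖ b → γ b = γ a + 1)
    (s : LTSeries P) (hs : IsSat s) : γ s.last = γ s.head + s.length := by
  induction hn : s.length generalizing s with
  | zero =>
    rw [head_eq_last_of_length_eq_zero s hn]; simp
  | succ n ih =>
    have hne : s.length ≠ 0 := by omega
    have hlen : s.eraseLast.length = n := by simp [hn]
    have h1 := ih s.eraseLast (isSat_eraseLast s hs) hlen
    have h2 := hcov _ _ (eraseLast_last_covBy s hs hne)
    rw [h2, h1, RelSeries.head_eraseLast]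
    push_cast
    ring

theorem cd_eq_of_grading (γ : P → ℤ) (hγ : StrictMono γ)
    (hcov : ∀ a b : P, a ⋖ b → γ b = γ a + 1) {a b : P} (hab : a ≤ b) :
    cd a b = ((γ b - γ a).toNat : ℕ∞) := by
  have hfin : cd a b ≠ ⊤ := by
    intro h
    have := cd_le_of_strictMono γ hγ a b
    rw [h] at this
    simp at this
  obtain ⟨s, h1, h2, h3, h4⟩ := exists_sat hab hfin
  have := length_of_isSat γ hcov s h3
  rw [h1, h2] at this
  rw [← h4]
  have : s.length = (γ b - γ a).toNat := by omega
  exact_mod_cast this

theorem isCat_of_grading (γ : P → ℤ) (hγ : StrictMono γ)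
    (hcov : ∀ a b : P, a ⋖ b → γ b = γ a + 1) : IsCat P := by
  intro T T' hTT'
  rw [cd_eq_of_grading γ hγ hcov hTT']
  refine ⟨by simp, fun s h1 h2 h3 => ?_⟩
  have := length_of_isSat γ hcov s h3
  rw [h1, h2] at this
  have : s.length = (γ T' - γ T).toNat := by omega
  exact_mod_cast this

end Groth.Agent.Helper8.CodimChain
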