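import Mathlib
set_option autoImplicit false


open Polynomial

namespace Groth.Agent.Helper8.CoefDer

universe u

section eps

variable {B : Type u} [CommRing B] [IsLocalRing B] (K : Subring B)
  (h1 : ∀ c ∈ K, c ∈ IsLocalRing.maximalIdeal B → c = 0)
  (h2 : ∀ b : B, ∃ c ∈ K, b - c ∈ IsLocalRing.maximalIdeal B)
  (h3 : ∀ x y : B, x ∈ IsLocalRing.maximalIdeal B → y ∈ IsLocalRing.maximalIdeal B → x * y = 0)

/-- the component in the coefficient subring -/
noncomputable def kap (b : B) : B := (h2 b).choose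

/-- the component in the maximal ideal -/
noncomputable def eps (b : B) : B := b - kap K h2 b

include h1 h2 h3

theorem kap_mem (b : B) : kap K h2 b ∈ K := (h2 b).choose_spec.1

theorem eps_mem (b : B) : eps K h2 b ∈ IsLocalRing.maximalIdeal B := (h2 b).choose_spec.2

theorem kap_unique (b c : B) (hc : c ∈ K) (hbc : b - c ∈ IsLocalRing.maximalIdeal B) :
    kap K h2 b = c := by
  have h4 : kap K h2 b - c ∈ K := K.sub_mem (kap_mem K h1 h2 h3 b) hc
  have h5 : kap K h2 b - c ∈ IsLocalRing.maximalIdeal B := by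
    have : kap K h2 b - c = (b - c) - eps K h2 b := by unfold eps; ring
    rw [this]
    exact Ideal.sub_mem _ hbc (eps_mem K h1 h2 h3 b)
  exact sub_eq_zero.mp (h1 _ h4 h5)

theorem kap_add (a b : B) : kap K h2 (a + b) = kap K h2 a + kap K h2 b := by
  apply kap_unique K h1 h2 h3
  · exact K.add_mem (kap_mem K h1 h2 h3 a) (kap_mem K h1 h2 h3 b)
  · have : a + b - (kap K h2 a + kap K h2 b) = eps K h2 a + eps K h2 b := by unfold eps; ring
    rw [this]
    exact Ideal.add_mem _ (eps_mem K h1 h2 h3 a) (eps_mem K h1 h2 h3 b)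

theorem kap_mul (a b : B) : kap K h2 (a * b) = kap K h2 a * kap K h2 b := by
  apply kap_unique K h1 h2 h3
  · exact K.mul_mem (kap_mem K h1 h2 h3 a) (kap_mem K h1 h2 h3 b)
  · have : a * b - (kap K h2 a * kap K h2 b) = a * eps K h2 b + kap K h2 b * eps K h2 a := by
      unfold eps; ring
    rw [this]
    exact Ideal.add_mem _ (Ideal.mul_mem_left _ _ (eps_mem K h1 h2 h3 b))
      (Ideal.mul_mem_left _ _ (eps_mem K h1 h2 h3 a))

theorem eps_add (a b : B) : eps K h2 (a + b) = eps K h2 a + eps K h2 b := by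
  unfold eps
  rw [kap_add K h1 h2 h3]
  ring

theorem eps_mul (a b : B) : eps K h2 (a * b) = a * eps K h2 b + b * eps K h2 a := by
  have h := h3 _ _ (eps_mem K h1 h2 h3 a) (eps_mem K h1 h2 h3 b)
  have : eps K h2 (a * b) = a * eps K h2 b + b * eps K h2 a - eps K h2 a * eps K h2 b := by
    unfold eps
    rw [kap_mul K h1 h2 h3]
    ring
  rw [this, h, sub_zero]

theorem eps_of_mem (b : B) (hb : b ∈ IsLocalRing.maximalIdeal B) : eps K h2 b = b := by
  have : kap K h2 b = 0 := by
    apply kap_unique K h1 h2 h3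
    · exact K.zero_mem
    · rwa [sub_zero]
  unfold eps
  rw [this, sub_zero]

end eps

end Groth.Agent.Helper8.CoefDer
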