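import Mathlib
set_option autoImplicit false


open Polynomial

namespace Groth.Agent.Helper8.CoefSub

universe u

variable {B : Type u} [CommRing B] (p : ℕ)

/-- the admissible subrings: contain all `p`-th powers and meet the non-units only in `0`. -/
def Adm : Set (Subring B) :=
  {K | (∀ b : B, b ^ p ∈ K) ∧ ∀ c ∈ K, ¬ IsUnit c → c = 0}

theorem frob_range_mem [hp : Fact p.Prime] [CharP B p] (hn : ∀ x : B, ¬ IsUnit x → x ^ p = 0) :
    (frobenius B p).range ∈ Adm (B := B) p := by
  refine ⟨fun b => ⟨b, rfl⟩, ?_⟩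
  rintro c ⟨a, rfl⟩ hc
  rw [frobenius_def] at hc ⊢
  exact hn a (fun h => hc (h.pow p))

theorem sSup_mem (c : Set (Subring B))
    (hc : c ⊆ Adm p) (hchain : IsChain (· ≤ ·) c) (hne : c.Nonempty) :
    sSup c ∈ Adm p := by
  obtain ⟨K0, hK0⟩ := hne
  refine ⟨fun b => ?_, ?_⟩
  · exact (le_sSup hK0 : K0 ≤ sSup c) ((hc hK0).1 b)
  · intro x hx hxu
    rw [Subring.mem_sSup_of_directedOn ⟨K0, hK0⟩ hchain.directedOn] at hx
    obtain ⟨K, hK, hxK⟩ := hx
    exact (hc hK).2 x hxK hxu

/-- inverses stay inside an admissible subring -/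
theorem inv_mem [hp : Fact p.Prime] {K : Subring B} (hK : K ∈ Adm p)
    {c d : B} (hc : c ∈ K) (hcd : c * d = 1) : d ∈ K := by
  have hp1 : 1 ≤ p := hp.out.one_lt.le
  have : d = c ^ (p - 1) * d ^ p := by
    have h1 : c ^ (p - 1) * d ^ (p - 1) = 1 := by rw [← mul_pow, hcd, one_pow]
    calc d = (c ^ (p - 1) * d ^ (p - 1)) * d := by rw [h1, one_mul]
      _ = c ^ (p - 1) * d ^ (p - 1 + 1) := by ring
      _ = c ^ (p - 1) * d ^ p := by rw [Nat.sub_add_cancel hp1]
  rw [this]
  exact K.mul_mem (K.pow_mem hc _) (hK.1 d)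

variable [IsLocalRing B]

/-- the image of an admissible subring in the residue field, as a subfield. -/
noncomputable def imageField [hp : Fact p.Prime] {K : Subring B} (hK : K ∈ Adm p) :
    Subfield (IsLocalRing.ResidueField B) where
  toSubring := K.map (IsLocalRing.residue B)
  inv_mem' := by
    rintro x ⟨c, hc, rfl⟩
    by_cases hu : IsUnit c
    · obtain ⟨d, hd⟩ := hu.exists_right_inv
      refine ⟨d, inv_mem p hK hc hd, ?_⟩
      have : IsLocalRing.residue B c * IsLocalRing.residue B d = 1 := by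
        rw [← map_mul, hd, map_one]
      exact (eq_inv_of_mul_eq_one_right this)
    · rw [hK.2 c hc hu, map_zero, inv_zero]
      exact Subring.zero_mem _

/-- the map from `K` to its image field -/
noncomputable def toImage [hp : Fact p.Prime] {K : Subring B} (hK : K ∈ Adm p) : K →+* imageField p hK :=
  ((IsLocalRing.residue B).comp K.subtype).codRestrict (imageField p hK)
    (fun c => ⟨c.1, c.2, rfl⟩)

theorem toImage_injective [hp : Fact p.Prime] {K : Subring B} (hK : K ∈ Adm p) :
    Function.Injective (toImage p hK) := by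
  rw [injective_iff_map_eq_zero]
  intro c hc
  have h1 : IsLocalRing.residue B c.1 = 0 := congrArg Subtype.val hc
  have h2 : ¬ IsUnit c.1 := by
    rw [IsLocalRing.residue_eq_zero_iff] at h1
    exact h1
  exact Subtype.ext (hK.2 c.1 c.2 h2)

theorem step [hp : Fact p.Prime] [CharP B p] {K : Subring B} (hK : K ∈ Adm p) (b : B)
    (hb : ∀ c ∈ K, IsUnit (b - c)) :
    (Polynomial.eval₂RingHom K.subtype b).range ∈ Adm p := by
  have hprime := hp.out
  refine ⟨fun x => ⟨C ⟨x ^ p, hK.1 x⟩, by simp⟩, ?_⟩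
  rintro y ⟨q, rfl⟩ hy
  set c₀ : K := ⟨b ^ p, hK.1 b⟩ with hc₀
  set g : K[X] := X ^ p - C c₀ with hg
  have hgm : g.Monic := monic_X_pow_sub_C c₀ hprime.ne_zero
  have hgb : eval₂ K.subtype b g = 0 := by
    simp [hg, hc₀]
  set r := q %ₘ g with hr
  have hqr : eval₂ K.subtype b q = eval₂ K.subtype b r := by
    conv_lhs => rw [← modByMonic_add_div q g]
    rw [eval₂_add, eval₂_mul, hgb, zero_mul, add_zero]
  have hdeg : r.degree < p := by
    have := degree_modByMonic_lt q hgm
    rwa [hg, degree_X_pow_sub_C hprime.pos] at this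
  simp only [coe_eval₂RingHom] at hy ⊢
  rw [hqr] at hy ⊢
  by_cases hr0 : r = 0
  · rw [hr0, eval₂_zero]
  exfalso
  -- pass to the residue field
  let k' := imageField p hK
  let ψ := toImage p hK
  have hψ := toImage_injective p hK
  set β := IsLocalRing.residue B b with hβ
  have hrbar : r.map ψ ≠ 0 := (Polynomial.map_ne_zero_iff hψ).mpr hr0
  have hroot : aeval β (r.map ψ) = 0 := by
    rw [aeval_def, eval₂_map]
    have h1 : (algebraMap k' (IsLocalRing.ResidueField B)).comp ψ =
        (IsLocalRing.residue B).comp K.subtype := by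
      ext c; rfl
    rw [h1, ← hom_eval₂]
    rw [IsLocalRing.residue_eq_zero_iff]
    exact hy
  -- irreducibility
  have hirr : Irreducible (X ^ p - C (ψ c₀) : k'[X]) := by
    apply X_pow_sub_C_irreducible_of_prime hprime
    rintro ⟨y, c, hc, rfl⟩ hyc
    have h2 : IsLocalRing.residue B c ^ p = IsLocalRing.residue B (b ^ p) := congrArg Subtype.val hyc
    have h3 : IsLocalRing.residue B ((b - c) ^ p) = 0 := by
      rw [sub_pow_char, map_sub, map_pow, map_pow, h2, map_pow, sub_self]
    rw [IsLocalRing.residue_eq_zero_iff] at h3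
    exact h3 ((hb c hc).pow p)
  have hroot2 : aeval β (X ^ p - C (ψ c₀) : k'[X]) = 0 := by
    simp only [map_sub, map_pow, aeval_X, aeval_C]
    rw [sub_eq_zero]
    show β ^ p = IsLocalRing.residue B (b ^ p)
    rw [map_pow]
  have hmin : (X ^ p - C (ψ c₀) : k'[X]) = minpoly k' β :=
    minpoly.eq_of_irreducible_of_monic hirr hroot2 (monic_X_pow_sub_C _ hprime.ne_zero)
  have h4 := minpoly.degree_le_of_ne_zero k' β hrbar hroot
  rw [← hmin, degree_X_pow_sub_C hprime.pos] at h4
  have h5 : (r.map ψ).degree ≤ r.degree := degree_map_le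
  exact absurd (lt_of_le_of_lt (h4.trans h5) hdeg) (lt_irrefl _)

/-- **Coefficient subring**: a local ring of characteristic `p` in which every non-unit has
vanishing `p`-th power contains a subring mapping isomorphically onto the residue field. -/
theorem exists_coef [hp : Fact p.Prime] [CharP B p] (hn : ∀ x : B, ¬ IsUnit x → x ^ p = 0) :
    ∃ K : Subring B, (∀ c ∈ K, ¬ IsUnit c → c = 0) ∧ ∀ b : B, ∃ c ∈ K, ¬ IsUnit (b - c) := by
  obtain ⟨K, -, hKmax⟩ := zorn_le_nonempty₀ (Adm (B := B) p)
    (fun c hc hchain y hy => ⟨sSup c, sSup_mem p c hc hchain ⟨y, hy⟩, fun z hz => le_sSup hz⟩)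
    _ (frob_range_mem p hn)
  have hK : K ∈ Adm p := hKmax.prop
  refine ⟨K, hK.2, ?_⟩
  intro b
  by_contra hcon
  push Not at hcon
  have hK' := step p hK b hcon
  have hle : K ≤ (Polynomial.eval₂RingHom K.subtype b).range := by
    intro c hc
    exact ⟨C ⟨c, hc⟩, by simp⟩
  have hbK' : b ∈ (Polynomial.eval₂RingHom K.subtype b).range := ⟨X, by simp⟩
  have hbK : b ∈ K := hKmax.le_of_ge hK' hle hbK'
  have := hcon b hbK
  rw [sub_self] at this
  exact not_isUnit_zero this

end Groth.Agent.Helper8.CoefSub
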