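import Mathlib.AlgebraicGeometry.Sites.Fpqc
import Mathlib.AlgebraicGeometry.Pullbacks
import Mathlib.CategoryTheory.Comma.Over.Pullback
import Mathlib.CategoryTheory.Comma.Over.Basic

set_option autoImplicit false
set_option backward.isDefEq.respectTransparency false
set_option backward.isDefEq.respectTransparency.types false
universe w u
open AlgebraicGeometry CategoryTheory Limits Opposite

namespace Groth.Agent.Helper8.ColimLoc

lemma yoneda_isSheafFor (W : Scheme.{u}) {T : Scheme.{u}} (R : Sieve T)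
    (hR : R ∈ Scheme.fpqcTopology T) : Presieve.IsSheafFor (yoneda.obj W) R.arrows :=
  (GrothendieckTopology.Subcanonical.isSheaf_of_isRepresentable
    (J := Scheme.fpqcTopology) (yoneda.obj W)) R hR

lemma hom_ext_of_sieve {W T : Scheme.{u}} (R : Sieve T) (hR : R ∈ Scheme.fpqcTopology T)
    {a b : T ⟶ W} (h : ∀ ⦃T' : Scheme.{u}⦄ (r : T' ⟶ T), R r → r ≫ a = r ≫ b) : a = b :=
  (yoneda_isSheafFor W R hR).isSeparatedFor.ext (fun _ r hr => h r hr)

variable {J : Type u} [SmallCategory J] (D : J ⥤ Scheme.{u}) (c : Cocone D)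

/-- the base-changed diagram -/
noncomputable abbrev DD {Y : Scheme.{u}} (f : Y ⟶ c.pt) : J ⥤ Over Y :=
  D.toOver c.pt (fun j => c.ι.app j) (fun g => c.w g) ⋙ Over.pullback f

/-- the base-changed cocone -/
noncomputable abbrev cc {Y : Scheme.{u}} (f : Y ⟶ c.pt) :
    Cocone (DD D c f ⋙ Over.forget Y) :=
  (Over.forgetCocone Y).whisker (DD D c f)

lemma DD_map_fst {Y : Scheme.{u}} (f : Y ⟶ c.pt) {j j' : J} (g : j ⟶ j') :
    ((DD D c f).map g).left ≫ pullback.fst (c.ι.app j') f =
      pullback.fst (c.ι.app j) f ≫ D.map g :=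
  pullback.lift_fst _ _ _

/-- a cocone over `D` induces a cocone over the base-changed diagram -/
noncomputable def sc {Y : Scheme.{u}} (f : Y ⟶ c.pt) (s : Cocone D) :
    Cocone (DD D c f ⋙ Over.forget Y) where
  pt := s.pt
  ι :=
    { app := fun j => pullback.fst (c.ι.app j) f ≫ s.ι.app j
      naturality := fun j j' g =>
        calc ((DD D c f).map g).left ≫ pullback.fst (c.ι.app j') f ≫ s.ι.app j'
            = (((DD D c f).map g).left ≫ pullback.fst (c.ι.app j') f) ≫ s.ι.app j' :=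
              (Category.assoc _ _ _).symm
          _ = (pullback.fst (c.ι.app j) f ≫ D.map g) ≫ s.ι.app j' := by rw [DD_map_fst]
          _ = pullback.fst (c.ι.app j) f ≫ D.map g ≫ s.ι.app j' := Category.assoc _ _ _
          _ = pullback.fst (c.ι.app j) f ≫ s.ι.app j := by rw [s.w]
          _ = (pullback.fst (c.ι.app j) f ≫ s.ι.app j) ≫ 𝟙 s.pt := (Category.comp_id _).symm }

lemma cc_ι {Y : Scheme.{u}} (f : Y ⟶ c.pt) (j : J) :
    (cc D c f).ι.app j = pullback.snd (c.ι.app j) f := rfl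

theorem exists_desc (F : PreZeroHypercover.{w} c.pt)
    (hF : F.presieve₀ ∈ Scheme.fpqcPrecoverage c.pt)
    (h1 : ∀ a : F.I₀, Nonempty (IsColimit (cc D c (F.f a))))
    (h2 : ∀ a b : F.I₀, Nonempty (IsColimit (cc D c (pullback.fst (F.f a) (F.f b) ≫ F.f a))))
    (s : Cocone D) :
    ∃ φ : c.pt ⟶ s.pt, (∀ j, c.ι.app j ≫ φ = s.ι.app j) ∧
      ∀ m : c.pt ⟶ s.pt, (∀ j, c.ι.app j ≫ m = s.ι.app j) → m = φ := by
  have hcov : Sieve.generate F.presieve₀ ∈ Scheme.fpqcTopology c.pt :=
    Precoverage.generate_mem_toGrothendieck hF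
  -- local maps
  let φa : ∀ a : F.I₀, F.X a ⟶ s.pt := fun a => (h1 a).some.desc (sc D c (F.f a) s)
  have hφa : ∀ (a : F.I₀) (j : J), pullback.snd (c.ι.app j) (F.f a) ≫ φa a =
      pullback.fst (c.ι.app j) (F.f a) ≫ s.ι.app j := fun a j =>
    (h1 a).some.fac (sc D c (F.f a) s) j
  -- agreement on overlaps
  have hab : ∀ a b : F.I₀, pullback.fst (F.f a) (F.f b) ≫ φa a =
      pullback.snd (F.f a) (F.f b) ≫ φa b := by
    intro a b
    refine (h2 a b).some.hom_ext fun j => ?_
    change pullback.snd (c.ι.app j) (pullback.fst (F.f a) (F.f b) ≫ F.f a) ≫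
        pullback.fst (F.f a) (F.f b) ≫ φa a =
      pullback.snd (c.ι.app j) (pullback.fst (F.f a) (F.f b) ≫ F.f a) ≫
        pullback.snd (F.f a) (F.f b) ≫ φa b
    set q := pullback.fst (F.f a) (F.f b) ≫ F.f a with hq
    have c1 : pullback.fst (c.ι.app j) q ≫ c.ι.app j =
        (pullback.snd (c.ι.app j) q ≫ pullback.fst (F.f a) (F.f b)) ≫ F.f a := by
      rw [pullback.condition, hq, Category.assoc]
    have c2 : pullback.fst (c.ι.app j) q ≫ c.ι.app j =
        (pullback.snd (c.ι.app j) q ≫ pullback.snd (F.f a) (F.f b)) ≫ F.f b := by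
      rw [c1, Category.assoc, Category.assoc, pullback.condition]
    have e1 : pullback.snd (c.ι.app j) q ≫ pullback.fst (F.f a) (F.f b) =
        pullback.lift (pullback.fst (c.ι.app j) q)
          (pullback.snd (c.ι.app j) q ≫ pullback.fst (F.f a) (F.f b)) c1 ≫
          pullback.snd (c.ι.app j) (F.f a) :=
      (pullback.lift_snd _ _ _).symm
    have e2 : pullback.snd (c.ι.app j) q ≫ pullback.snd (F.f a) (F.f b) =
        pullback.lift (pullback.fst (c.ι.app j) q)
          (pullback.snd (c.ι.app j) q ≫ pullback.snd (F.f a) (F.f b)) c2 ≫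
          pullback.snd (c.ι.app j) (F.f b) :=
      (pullback.lift_snd _ _ _).symm
    have key1 : pullback.snd (c.ι.app j) q ≫ pullback.fst (F.f a) (F.f b) ≫ φa a =
        pullback.fst (c.ι.app j) q ≫ s.ι.app j :=
      calc pullback.snd (c.ι.app j) q ≫ pullback.fst (F.f a) (F.f b) ≫ φa a
          = (pullback.snd (c.ι.app j) q ≫ pullback.fst (F.f a) (F.f b)) ≫ φa a :=
            (Category.assoc _ _ _).symm
        _ = _ := by rw [e1, Category.assoc, hφa, pullback.lift_fst_assoc]
    have key2 : pullback.snd (c.ι.app j) q ≫ pullback.snd (F.f a) (F.f b) ≫ φa b =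
        pullback.fst (c.ι.app j) q ≫ s.ι.app j :=
      calc pullback.snd (c.ι.app j) q ≫ pullback.snd (F.f a) (F.f b) ≫ φa b
          = (pullback.snd (c.ι.app j) q ≫ pullback.snd (F.f a) (F.f b)) ≫ φa b :=
            (Category.assoc _ _ _).symm
        _ = _ := by rw [e2, Category.assoc, hφa, pullback.lift_fst_assoc]
    exact key1.trans key2.symm
  -- gluing
  have hsh : Presieve.IsSheafFor (yoneda.obj s.pt) (Presieve.ofArrows F.X F.f) := by
    rw [Presieve.isSheafFor_iff_generate]
    exact yoneda_isSheafFor s.pt _ hcov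
  rw [Presieve.isSheafFor_arrows_iff] at hsh
  obtain ⟨φ, hφ, hφu⟩ := hsh (fun a => φa a) (by
    intro a b Z ga gb hg
    change ga ≫ φa a = gb ≫ φa b
    have e1 : ga = pullback.lift ga gb hg ≫ pullback.fst (F.f a) (F.f b) :=
      (pullback.lift_fst _ _ _).symm
    have e2 : gb = pullback.lift ga gb hg ≫ pullback.snd (F.f a) (F.f b) :=
      (pullback.lift_snd _ _ _).symm
    rw [e1, Category.assoc, hab, ← Category.assoc, ← e2])
  have hφ' : ∀ a, F.f a ≫ φ = φa a := fun a => hφ a
  refine ⟨φ, fun j => ?_, fun m hm => ?_⟩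
  · refine hom_ext_of_sieve ((Sieve.generate F.presieve₀).pullback (c.ι.app j))
      (Scheme.fpqcTopology.pullback_stable _ hcov) ?_
    intro T r hr
    obtain ⟨Y, g, f, hf, hgf⟩ := hr
    obtain ⟨a⟩ := hf
    have e1 : g = pullback.lift r g hgf.symm ≫ pullback.snd (c.ι.app j) (F.f a) :=
      (pullback.lift_snd _ _ _).symm
    rw [← Category.assoc, ← hgf, Category.assoc, hφ', e1, Category.assoc, hφa,
      pullback.lift_fst_assoc]
  · refine hφu m fun a => ?_
    change F.f a ≫ m = φa a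
    refine (h1 a).some.hom_ext fun j => ?_
    rw [cc_ι, hφa, ← Category.assoc, ← pullback.condition, Category.assoc, hm]

theorem main (F : PreZeroHypercover.{w} c.pt)
    (hF : F.presieve₀ ∈ Scheme.fpqcPrecoverage c.pt)
    (h1 : ∀ a : F.I₀, Nonempty (IsColimit (cc D c (F.f a))))
    (h2 : ∀ a b : F.I₀, Nonempty (IsColimit (cc D c (pullback.fst (F.f a) (F.f b) ≫ F.f a)))) :
    Nonempty (IsColimit c) := by
  choose φ hφ1 hφ2 using exists_desc D c F hF h1 h2
  exact ⟨{ desc := φ, fac := hφ1, uniq := hφ2 }⟩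

end Groth.Agent.Helper8.ColimLoc
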