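import Mathlib
import Groth.Prelude.Def_AlgGrp
import Groth.Agent.Helper8.Transp2

set_option autoImplicit false
set_option linter.style.haveILetI false
universe u

namespace Groth.Agent.Helper8.CommNorm

open CategoryTheory CategoryTheory.Limits AlgebraicGeometry
open MonoidalCategory CartesianMonoidalCategory MonObj GrpObj
open Groth.Agent.Helper8.Transp

/-- the locus of points `x` of `G` such that `c (x, p)` lies in `Γ` for all points `p` of `P` is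
closed, given Weil restrictions along `P`. -/
theorem exists_forall_locus {S : Scheme.{u}} {G P W Γ : Over S} (c : G ⊗ P ⟶ W) (i : Γ ⟶ W)
    [IsClosedImmersion i.left] (hW : HasWeilRes G P) :
    ∃ (Z : Over S) (j : Z ⟶ G), IsClosedImmersion j.left ∧ ∀ (T : Over S) (x : T ⟶ G),
      (∃ z : T ⟶ Z, z ≫ j = x) ↔
        ∀ (T' : Over S) (t : T' ⟶ T) (p : T' ⟶ P), ∃ w₀ : T' ⟶ Γ, lift (t ≫ x) p ≫ c = w₀ ≫ i := by
  have hcl : IsClosedImmersion (pullback.fst c i).left :=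
    MorphismProperty.of_isPullback (P := @IsClosedImmersion)
      ((IsPullback.of_hasPullback c i).map (Over.forget _)).flip
      (show IsClosedImmersion i.left from inferInstance)
  obtain ⟨Z, j, hj, hZ⟩ := hW (pullback c i) (pullback.fst c i) hcl
  refine ⟨Z, j, hj, fun T x => (hZ T x).trans ?_⟩
  have key : ∀ (T' : Over S) (t : T' ⟶ T) (p : T' ⟶ P),
      lift (t ≫ x) p = lift t p ≫ (x ▷ P) := by
    intro T' t p
    apply CartesianMonoidalCategory.hom_ext <;> simp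
  constructor
  · rintro ⟨w, hw⟩ T' t p
    refine ⟨lift t p ≫ w ≫ pullback.snd c i, ?_⟩
    rw [key, Category.assoc, ← hw, Category.assoc, Category.assoc, Category.assoc,
      pullback.condition]
  · intro h
    obtain ⟨w₀, hw₀⟩ := h (T ⊗ P) (fst T P) (snd T P)
    rw [key, lift_fst_snd, Category.id_comp] at hw₀
    exact ⟨pullback.lift (x ▷ P) w₀ hw₀, pullback.lift_fst _ _ _⟩

theorem main (k : Type u) [Field k] (G A B : Over (Spec (CommRingCat.of k))) [GrpObj G]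
    [GrpObj A] [GrpObj B] (a : A ⟶ G) (b : B ⟶ G)
    (hA : AlgGrp.IsNormalHom a) (hB : AlgGrp.IsNormalHom b)
    (Γ : Over (Spec (CommRingCat.of k))) [GrpObj Γ] (i : Γ ⟶ G) [IsMonHom i]
    [IsClosedImmersion i.left]
    (hf : ∃ f' : A ⊗ B ⟶ Γ, f' ≫ i = (((fst A B) ≫ a) * ((snd A B) ≫ b) * ((fst A B) ≫ a)⁻¹ *
      ((snd A B) ≫ b)⁻¹))
    (hmin : ∀ (Γ' : Over (Spec (CommRingCat.of k))) (_ : GrpObj Γ') (i' : Γ' ⟶ G), IsMonHom i' →
      IsClosedImmersion i'.left →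
        (∃ f'' : A ⊗ B ⟶ Γ', f'' ≫ i' = (((fst A B) ≫ a) * ((snd A B) ≫ b) *
          ((fst A B) ≫ a)⁻¹ * ((snd A B) ≫ b)⁻¹)) → ∃ j : Γ ⟶ Γ', j ≫ i' = i) :
    AlgGrp.IsNormalHom i := by
  let c : G ⊗ G ⟶ G := snd G G * fst G G * (snd G G)⁻¹
  obtain ⟨Z, j, hj, hZ⟩ := exists_forall_locus c i
    (Groth.Agent.Helper8.Transp2.hasWeilRes_field k G G)
  have hc : ∀ {T' : Over (Spec (CommRingCat.of k))} (x g : T' ⟶ G),
      lift x g ≫ c = g * x * g⁻¹ := by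
    intro T' x g
    simp only [c, MonObj.comp_mul, GrpObj.comp_inv, lift_fst, lift_snd]
  have hZ' : ∀ (T : Over (Spec (CommRingCat.of k))) (x : T ⟶ G), (∃ z : T ⟶ Z, z ≫ j = x) ↔
      ∀ (T' : Over (Spec (CommRingCat.of k))) (t : T' ⟶ T) (g : T' ⟶ G),
        ∃ w₀ : T' ⟶ Γ, g * (t ≫ x) * g⁻¹ = w₀ ≫ i := by
    intro T x
    rw [hZ]
    simp_rw [hc]
  haveI : Mono j.left := by haveI := hj; infer_instance
  haveI : Mono j := by
    refine ⟨fun a b hab => ?_⟩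
    apply Over.OverMorphism.ext
    have := congrArg (fun t => t.left) hab
    simp only [Over.comp_left] at this
    exact (cancel_mono j.left).mp this
  obtain ⟨e, he⟩ := (hZ' (𝟙_ _) η[G]).mpr (fun T' t g => ⟨1, by
    rw [MonObj.one_comp, toUnit_unique t (toUnit T'), ← Hom.one_def]
    group⟩)
  obtain ⟨inst, hmon⟩ := Groth.Agent.Helper3.GrpImg4.exists_grpObj_of_closed j e he
    (fun T k₁ k₂ => (hZ' T _).mpr (fun T' t g => by
      obtain ⟨w₁, h₁⟩ := (hZ' T (k₁ ≫ j)).mp ⟨k₁, rfl⟩ T' t g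
      obtain ⟨w₂, h₂⟩ := (hZ' T (k₂ ≫ j)).mp ⟨k₂, rfl⟩ T' t g
      refine ⟨w₁⁻¹ * w₂, ?_⟩
      rw [MonObj.mul_comp, GrpObj.inv_comp, ← h₁, ← h₂, MonObj.comp_mul, GrpObj.comp_inv]
      group))
  have hfZ : ∃ f'' : A ⊗ B ⟶ Z, f'' ≫ j = (((fst A B) ≫ a) * ((snd A B) ≫ b) *
      ((fst A B) ≫ a)⁻¹ * ((snd A B) ≫ b)⁻¹) := (hZ' _ _).mpr (fun T' t g => by
    obtain ⟨f', hf'⟩ := hf
    obtain ⟨α', hα'⟩ := hA T' g (t ≫ fst A B)
    obtain ⟨β', hβ'⟩ := hB T' g (t ≫ snd A B)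
    refine ⟨lift α' β' ≫ f', ?_⟩
    rw [Category.assoc, hf']
    simp only [MonObj.comp_mul, GrpObj.comp_inv, lift_fst_assoc, lift_snd_assoc]
    rw [← hα', ← hβ']
    simp only [Category.assoc]
    group)
  obtain ⟨jj, hjj⟩ := hmin Z inst j hmon hj hfZ
  intro T g n
  obtain ⟨w₀, hw₀⟩ := (hZ' T (n ≫ i)).mp ⟨n ≫ jj, by rw [Category.assoc, hjj]⟩ T (𝟙 T) g
  exact ⟨w₀, by rw [← hw₀, Category.id_comp]⟩

end Groth.Agent.Helper8.CommNorm
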