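import Mathlib
set_option autoImplicit false


open CategoryTheory CategoryTheory.Limits HomologicalComplex ChainComplex

namespace Groth.Agent.Helper8.CompThm

universe v u

variable {C : Type u} [Category.{v} C] [Abelian C]

section resol

variable {Z : C} (Q : ChainComplex C ℕ) (π : Q ⟶ (ChainComplex.single₀ C).obj Z) [QuasiIso π]

include π in
lemma complex_exactAt_succ (n : ℕ) : Q.ExactAt (n + 1) := by
  rw [← quasiIsoAt_iff_exactAt' π (n + 1) (exactAt_succ_single_obj _ _)]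
  infer_instance

include π in
lemma exact_succ (n : ℕ) :
    (ShortComplex.mk _ _ (Q.d_comp_d (n + 2) (n + 1) n)).Exact :=
  ((HomologicalComplex.exactAt_iff' _ (n + 2) (n + 1) n) (by simp only [ChainComplex.prev]; rfl)
    (by simp)).1 (complex_exactAt_succ Q π n)

omit [QuasiIso π] in
@[simp]
theorem π_f_succ (n : ℕ) : π.f (n + 1) = 0 :=
  (isZero_single_obj_X _ _ _ _ (by simp)).eq_of_tgt _ _

omit [QuasiIso π] in
@[reassoc (attr := simp)]
theorem complex_d_comp_π_f_zero : Q.d 1 0 ≫ π.f 0 = 0 := by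
  rw [← π.comm 1 0, single_obj_d, comp_zero]

/-- cokernel cofork -/
noncomputable def cokernelCofork : CokernelCofork (Q.d 1 0) :=
  CokernelCofork.ofπ _ (complex_d_comp_π_f_zero Q π)

set_option backward.isDefEq.respectTransparency.types false in
set_option backward.defeqAttrib.useBackward true in
/-- `Z` is the cokernel of `Q.X 1 ⟶ Q.X 0` -/
noncomputable def isColimitCokernelCofork : IsColimit (cokernelCofork Q π) := by
  refine IsColimit.ofIsoColimit (Q.opcyclesIsCokernel 1 0 (by simp)) ?_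
  refine Cofork.ext (Q.isoHomologyι₀.symm ≪≫ isoOfQuasiIsoAt π 0 ≪≫
    singleObjHomologySelfIso _ _ _) ?_
  rw [← cancel_mono (singleObjHomologySelfIso (ComplexShape.down ℕ) 0 _).inv,
    ← cancel_mono (isoHomologyι₀ _).hom]
  dsimp [cokernelCofork]
  simp only [isoHomologyι₀_inv_naturality_assoc, p_opcyclesMap_assoc, single₀_obj_zero, Category.assoc,
    Iso.hom_inv_id, Category.comp_id, isoHomologyι_inv_hom_id, singleObjHomologySelfIso_inv_homologyι,
    singleObjOpcyclesSelfIso_hom, single₀ObjXSelf, Iso.refl_inv, Category.id_comp]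

lemma exact₀ : (ShortComplex.mk _ _ (complex_d_comp_π_f_zero Q π)).Exact :=
  ShortComplex.exact_of_g_is_cokernel _ (isColimitCokernelCofork Q π)

lemma epi_π_zero : Epi (π.f 0) := epi_of_isColimit_cofork (isColimitCokernelCofork Q π)

end resol

section lift

variable {Y Z : C} (f : Y ⟶ Z) (F : ChainComplex C ℕ) [∀ n, Projective (F.X n)]
  (ε : F ⟶ (ChainComplex.single₀ C).obj Y)
  (Q : ChainComplex C ℕ) (π : Q ⟶ (ChainComplex.single₀ C).obj Z) [QuasiIso π]

set_option backward.isDefEq.respectTransparency false in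
/-- Auxiliary construction for `lift`. -/
noncomputable def liftFZero : F.X 0 ⟶ Q.X 0 :=
  @Projective.factorThru _ _ _ _ _ _ (ε.f 0 ≫ f) (π.f 0) (epi_π_zero Q π)

set_option backward.isDefEq.respectTransparency false in
lemma liftFZero_comp : liftFZero f F ε Q π ≫ π.f 0 = ε.f 0 ≫ f :=
  @Projective.factorThru_comp _ _ _ _ _ _ (ε.f 0 ≫ f) (π.f 0) (epi_π_zero Q π)

set_option backward.isDefEq.respectTransparency false in
/-- Auxiliary construction for `lift`. -/
noncomputable def liftFOne : F.X 1 ⟶ Q.X 1 :=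
  (exact₀ Q π).liftFromProjective (F.d 1 0 ≫ liftFZero f F ε Q π) (by
    dsimp
    rw [Category.assoc, liftFZero_comp, ← Category.assoc, complex_d_comp_π_f_zero F ε, zero_comp])

theorem liftFOne_zero_comm :
    liftFOne f F ε Q π ≫ Q.d 1 0 = F.d 1 0 ≫ liftFZero f F ε Q π := by
  apply (exact₀ Q π).liftFromProjective_comp

/-- Auxiliary construction for `lift`. -/
noncomputable def liftFSucc (n : ℕ)
    (g : F.X n ⟶ Q.X n) (g' : F.X (n + 1) ⟶ Q.X (n + 1))
    (w : g' ≫ Q.d (n + 1) n = F.d (n + 1) n ≫ g) :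
    Σ' g'' : F.X (n + 2) ⟶ Q.X (n + 2),
      g'' ≫ Q.d (n + 2) (n + 1) = F.d (n + 2) (n + 1) ≫ g' :=
  ⟨(exact_succ Q π n).liftFromProjective
    (F.d (n + 2) (n + 1) ≫ g') (by simp [w]),
      (exact_succ Q π n).liftFromProjective_comp _ _⟩

/-- the lift -/
noncomputable def lift : F ⟶ Q :=
  ChainComplex.mkHom _ _ (liftFZero f F ε Q π) (liftFOne f F ε Q π) (liftFOne_zero_comm f F ε Q π)
    fun n ⟨g, g', w⟩ => ⟨(liftFSucc F Q π n g g' w).1, (liftFSucc F Q π n g g' w).2⟩

set_option backward.isDefEq.respectTransparency false in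
theorem lift_commutes : lift f F ε Q π ≫ π = ε ≫ (ChainComplex.single₀ C).map f := by
  ext
  simp only [lift, HomologicalComplex.comp_f, ChainComplex.mkHom_f_0,
    ChainComplex.single₀_map_f_zero]
  exact liftFZero_comp f F ε Q π

end lift

section homotopy

variable {Z : C} (F : ChainComplex C ℕ) [∀ n, Projective (F.X n)]
  (Q : ChainComplex C ℕ) (π : Q ⟶ (ChainComplex.single₀ C).obj Z) [QuasiIso π]
  (f : F ⟶ Q) (comm : f ≫ π = 0)

/-- An auxiliary definition for `liftHomotopyZero`. -/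
noncomputable def liftHomotopyZeroZero : F.X 0 ⟶ Q.X 1 :=
  (exact₀ Q π).liftFromProjective (f.f 0) (congr_fun (congr_arg HomologicalComplex.Hom.f comm) 0)

@[reassoc (attr := simp)]
lemma liftHomotopyZeroZero_comp :
    liftHomotopyZeroZero F Q π f comm ≫ Q.d 1 0 = f.f 0 :=
  (exact₀ Q π).liftFromProjective_comp _ _

/-- An auxiliary definition for `liftHomotopyZero`. -/
noncomputable def liftHomotopyZeroOne : F.X 1 ⟶ Q.X 2 :=
  (exact_succ Q π 0).liftFromProjective (f.f 1 - F.d 1 0 ≫ liftHomotopyZeroZero F Q π f comm)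
    (by rw [Preadditive.sub_comp, Category.assoc, HomologicalComplex.Hom.comm,
              liftHomotopyZeroZero_comp, sub_self])

@[reassoc (attr := simp)]
lemma liftHomotopyZeroOne_comp :
    liftHomotopyZeroOne F Q π f comm ≫ Q.d 2 1 =
      f.f 1 - F.d 1 0 ≫ liftHomotopyZeroZero F Q π f comm :=
  (exact_succ Q π 0).liftFromProjective_comp _ _

/-- An auxiliary definition for `liftHomotopyZero`. -/
noncomputable def liftHomotopyZeroSucc (n : ℕ) (g : F.X n ⟶ Q.X (n + 1))
    (g' : F.X (n + 1) ⟶ Q.X (n + 2))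
    (w : f.f (n + 1) = F.d (n + 1) n ≫ g + g' ≫ Q.d (n + 2) (n + 1)) :
    F.X (n + 2) ⟶ Q.X (n + 3) :=
  (exact_succ Q π (n + 1)).liftFromProjective (f.f (n + 2) - F.d _ _ ≫ g') (by simp [w])

@[reassoc (attr := simp)]
lemma liftHomotopyZeroSucc_comp (n : ℕ) (g : F.X n ⟶ Q.X (n + 1))
    (g' : F.X (n + 1) ⟶ Q.X (n + 2))
    (w : f.f (n + 1) = F.d (n + 1) n ≫ g + g' ≫ Q.d (n + 2) (n + 1)) :
    liftHomotopyZeroSucc F Q π f n g g' w ≫ Q.d (n + 3) (n + 2) =
      f.f (n + 2) - F.d _ _ ≫ g' :=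
  (exact_succ Q π (n + 1)).liftFromProjective_comp _ _

/-- Any lift of the zero morphism is homotopic to zero. -/
noncomputable def liftHomotopyZero : Homotopy f 0 :=
  Homotopy.mkInductive _ (liftHomotopyZeroZero F Q π f comm) (by simp)
    (liftHomotopyZeroOne F Q π f comm) (by simp) fun n ⟨g, g', w⟩ =>
    ⟨liftHomotopyZeroSucc F Q π f n g g' w, by simp⟩

end homotopy

theorem comparison {Y Z : C} (g : Y ⟶ Z) (F Nc : ChainComplex C ℕ) [∀ n, Projective (F.X n)]
    (εF : F ⟶ (ChainComplex.single₀ C).obj Y) (εN : Nc ⟶ (ChainComplex.single₀ C).obj Z)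
    [QuasiIso εN] :
    (∃ φ : F ⟶ Nc, φ ≫ εN = εF ≫ (ChainComplex.single₀ C).map g) ∧
      ∀ α β : F ⟶ Nc, α ≫ εN = εF ≫ (ChainComplex.single₀ C).map g →
        β ≫ εN = εF ≫ (ChainComplex.single₀ C).map g → Nonempty (Homotopy α β) := by
  refine ⟨⟨lift g F εF Nc εN, lift_commutes g F εF Nc εN⟩, ?_⟩
  intro α β hα hβ
  exact ⟨Homotopy.equivSubZero.invFun (liftHomotopyZero F Nc εN (α - β)
    (by rw [Preadditive.sub_comp, hα, hβ, sub_self]))⟩

theorem s6322 (R : Type u) [CommRing R] (M N : ModuleCat.{u} R) (g : M ⟶ N) (F Nc : ChainComplex (ModuleCat.{u} R) ℕ) (hF : ∀ i, Module.Free R (F.X i)) (εF : F ⟶ (ChainComplex.single₀ (ModuleCat.{u} R)).obj M) (εN : Nc ⟶ (ChainComplex.single₀ (ModuleCat.{u} R)).obj N) [QuasiIso εN] : (∃ φ : F ⟶ Nc, φ ≫ εN = εF ≫ (ChainComplex.single₀ (ModuleCat.{u} R)).map g) ∧ ∀ α β : F ⟶ Nc, α ≫ εN = εF ≫ (ChainComplex.single₀ (ModuleCat.{u} R)).map g → β ≫ εN = εF ≫ (ChainComplex.single₀ (ModuleCat.{u} R)).map g → Nonempty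 (Homotopy α β) := by
  have : ∀ n, Projective (F.X n) := fun n =>
    (IsProjective.iff_projective (R := R) (F.X n)).mp (by have := hF n; infer_instance)
  exact comparison g F Nc εF εN

end Groth.Agent.Helper8.CompThm
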