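import Mathlib
import Groth.Agent.Helper9.FM

namespace Groth.Agent.Helper8.CompatInj

open CategoryTheory CategoryTheory.Limits Groth.Agent.Helper9.FM

universe v u

variable {V : Type u} [Category.{v} V] [Abelian V]

/-- extension of a map along a map, into an injective object, given the kernel condition -/
theorem exists_extension {X Y I : V} [Injective I] (a : X ⟶ Y) (a' : X ⟶ I)
    (h : ∀ x, m a x = 0 → m a' x = 0) : ∃ w : Y ⟶ I, a ≫ w = a' := by
  have hz : kernel.ι a ≫ a' = 0 := by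
    rw [comp_eq_zero_iff]
    intro k
    apply h
    rw [← m_comp_apply, kernel.condition]
    simp
  let vbar : Abelian.coimage a ⟶ I := cokernel.desc (kernel.ι a) a' hz
  refine ⟨Injective.factorThru vbar (Abelian.factorThruCoimage a), ?_⟩
  have h1 : Abelian.coimage.π a ≫ Abelian.factorThruCoimage a = a := Abelian.coimage.fac a
  calc a ≫ Injective.factorThru vbar (Abelian.factorThruCoimage a)
      = Abelian.coimage.π a ≫ (Abelian.factorThruCoimage a ≫
          Injective.factorThru vbar (Abelian.factorThruCoimage a)) := by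
        rw [← Category.assoc, h1]
    _ = Abelian.coimage.π a ≫ vbar := by rw [Injective.comp_factorThru]
    _ = a' := cokernel.π_desc _ _ _

theorem m_biprod_desc {X₁ X₂ Y : V} (a : X₁ ⟶ Y) (b : X₂ ⟶ Y) (x : (F V).obj (X₁ ⊞ X₂)) :
    m (biprod.desc a b) x = m a (m biprod.fst x) + m b (m biprod.snd x) := by
  have : biprod.desc a b = biprod.fst ≫ a + biprod.snd ≫ b := by
    apply biprod.hom_ext' <;> simp
  rw [this, m_add, LinearMap.add_apply, m_comp_apply, m_comp_apply]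

/-- extension from two maps -/
theorem exists_extension₂ {X₁ X₂ Y I : V} [Injective I] (a : X₁ ⟶ Y) (b : X₂ ⟶ Y)
    (a' : X₁ ⟶ I) (b' : X₂ ⟶ I)
    (h : ∀ x₁ x₂, m a x₁ + m b x₂ = 0 → m a' x₁ + m b' x₂ = 0) :
    ∃ w : Y ⟶ I, a ≫ w = a' ∧ b ≫ w = b' := by
  obtain ⟨w, hw⟩ := exists_extension (biprod.desc a b) (biprod.desc a' b') (by
    intro x hx
    rw [m_biprod_desc] at hx ⊢
    exact h _ _ hx)
  refine ⟨w, ?_, ?_⟩
  · have := congrArg (fun t => biprod.inl ≫ t) hw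
    simpa using this
  · have := congrArg (fun t => biprod.inr ≫ t) hw
    simpa using this

section Cx

variable (C : CochainComplex V ℕ)

/-- the inclusion `H⁰(C) → C⁰` -/
noncomputable def zι : C.homology 0 ⟶ C.X 0 := C.isoHomologyπ₀.inv ≫ C.iCycles 0

instance : Mono (zι C) := by unfold zι; infer_instance

@[reassoc]
theorem zι_d : zι C ≫ C.d 0 1 = 0 := by simp [zι]

theorem zι_injective : Function.Injective (m (zι C)) := (mono_iff _).1 inferInstance

theorem exists_zι (c : (F V).obj (C.X 0)) (hc : m (C.d 0 1) c = 0) :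
    ∃ z : (F V).obj (C.homology 0), m (zι C) z = c := by
  have hex : (ShortComplex.mk (C.iCycles 0) (C.d 0 1) (C.iCycles_d 0 1)).Exact :=
    ShortComplex.exact_of_f_is_kernel _ (C.cyclesIsKernel 0 1 (by simp))
  obtain ⟨y, hy⟩ := (exact_iff _).1 hex c hc
  refine ⟨m C.isoHomologyπ₀.hom y, ?_⟩
  have hy' : m (C.iCycles 0) y = c := hy
  rw [zι, ← m_comp_apply, Iso.hom_inv_id_assoc, hy']

theorem zι_d_apply (z : (F V).obj (C.homology 0)) : m (C.d 0 1) (m (zι C) z) = 0 := by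
  rw [← m_comp_apply, zι_d]; simp

variable {C}

theorem zι_naturality {D : CochainComplex V ℕ} (φ : C ⟶ D) :
    HomologicalComplex.homologyMap φ 0 ≫ zι D = zι C ≫ φ.f 0 := by
  unfold zι
  rw [← Category.assoc, CochainComplex.isoHomologyπ₀_inv_naturality, Category.assoc,
    HomologicalComplex.cyclesMap_i, Category.assoc]

theorem zι_naturality_apply {D : CochainComplex V ℕ} (φ : C ⟶ D) (z : (F V).obj (C.homology 0)) :
    m (zι D) (m (HomologicalComplex.homologyMap φ 0) z) = m (φ.f 0) (m (zι C) z) := by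
  rw [← m_comp_apply, ← m_comp_apply, zι_naturality]

theorem m_comm {D : CochainComplex V ℕ} (φ : C ⟶ D) (i j : ℕ) (x : (F V).obj (C.X i)) :
    m (φ.f j) (m (C.d i j) x) = m (D.d i j) (m (φ.f i) x) := by
  rw [← m_comp_apply, ← m_comp_apply, φ.comm]

theorem m_d_d (C : CochainComplex V ℕ) (i j k : ℕ) (x : (F V).obj (C.X i)) :
    m (C.d j k) (m (C.d i j) x) = 0 := by
  rw [← m_comp_apply, C.d_comp_d]; simp

theorem exact_apply (C : CochainComplex V ℕ) (n : ℕ) (h : C.ExactAt (n + 1))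
    (y : (F V).obj (C.X (n + 1))) (hy : m (C.d (n + 1) (n + 2)) y = 0) :
    ∃ x : (F V).obj (C.X n), m (C.d n (n + 1)) x = y := by
  have h' := (C.exactAt_iff' n (n + 1) (n + 2) (by simp) (by simp)).1 h
  exact (exact_iff _).1 h' y hy

end Cx

section Ext

variable {S C I : CochainComplex V ℕ}

structure Dat (q : S ⟶ C) (φ : S ⟶ I) (n : ℕ) where
  f : C.X n ⟶ I.X n
  h1 : q.f n ≫ f = φ.f n
  h2 : ∀ c, m (C.d n (n + 1)) c = 0 → m (I.d n (n + 1)) (m f c) = 0

theorem step (q : S ⟶ C) (φ : S ⟶ I) (hI : ∀ n, Injective (I.X n))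
    (hC : ∀ n, C.ExactAt (n + 1))
    (hK : ∀ n s, m (q.f n) s = 0 → m (φ.f n) s = 0)
    (hS : ∀ n (s : (F V).obj (S.X (n + 1))), m (C.d (n + 1) (n + 2)) (m (q.f (n + 1)) s) = 0 →
      ∃ s₁ : (F V).obj (S.X n), m (q.f (n + 1)) s = m (q.f (n + 1)) (m (S.d n (n + 1)) s₁))
    (n : ℕ) (D : Dat q φ n) :
    ∃ D' : Dat q φ (n + 1), C.d n (n + 1) ≫ D'.f = D.f ≫ I.d n (n + 1) := by
  haveI := hI (n + 1)
  obtain ⟨w, hw1, hw2⟩ := exists_extension₂ (q.f (n + 1)) (C.d n (n + 1)) (φ.f (n + 1))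
    (D.f ≫ I.d n (n + 1)) (by
    intro s c hsc
    have h1 : m (C.d (n + 1) (n + 2)) (m (q.f (n + 1)) s) = 0 := by
      have : m (q.f (n + 1)) s = - m (C.d n (n + 1)) c := eq_neg_of_add_eq_zero_left hsc
      rw [this, map_neg, m_d_d, neg_zero]
    obtain ⟨s₁, hs₁⟩ := hS n s h1
    have h2 : m (C.d n (n + 1)) (m (q.f n) s₁ + c) = 0 := by
      rw [map_add, ← m_comm, ← hs₁]; exact hsc
    have h3 := D.h2 _ h2
    rw [map_add, map_add] at h3
    have h4 : m D.f (m (q.f n) s₁) = m (φ.f n) s₁ := by rw [← m_comp_apply, D.h1]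
    rw [h4, ← m_comm] at h3
    have h5 : m (φ.f (n + 1)) (s - m (S.d n (n + 1)) s₁) = 0 := by
      apply hK
      rw [map_sub, hs₁, sub_self]
    rw [map_sub, sub_eq_zero] at h5
    rw [h5, m_comp_apply]
    exact h3)
  refine ⟨⟨w, hw1, ?_⟩, hw2⟩
  intro c hc
  obtain ⟨c₀, rfl⟩ := exact_apply C n (hC n) c hc
  have h6 : m w (m (C.d n (n + 1)) c₀) = m (I.d n (n + 1)) (m D.f c₀) := by
    rw [← m_comp_apply, hw2, m_comp_apply]
  rw [h6, m_d_d]

theorem base (q : S ⟶ C) (φ : S ⟶ I) (g : C.homology 0 ⟶ I.homology 0)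
    (hI : ∀ n, Injective (I.X n))
    (h0 : ∀ (s : (F V).obj (S.X 0)) (z : (F V).obj (C.homology 0)),
      m (q.f 0) s = m (zι C) z → m (φ.f 0) s = m (zι I) (m g z)) :
    ∃ D : Dat q φ 0, zι C ≫ D.f = g ≫ zι I := by
  haveI := hI 0
  obtain ⟨w, hw1, hw2⟩ := exists_extension₂ (q.f 0) (zι C) (φ.f 0) (g ≫ zι I) (by
    intro s z hsz
    have h1 : m (q.f 0) s = m (zι C) (-z) := by
      rw [map_neg]; exact eq_neg_of_add_eq_zero_left hsz
    have h2 := h0 s (-z) h1
    rw [h2, m_comp_apply, map_neg, map_neg, neg_add_cancel])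
  refine ⟨⟨w, hw1, ?_⟩, hw2⟩
  intro c hc
  obtain ⟨z, rfl⟩ := exists_zι C c hc
  have h6 : m w (m (zι C) z) = m (zι I) (m g z) := by
    rw [← m_comp_apply, hw2, m_comp_apply]
  rw [h6, zι_d_apply]

theorem ext_lemma (q : S ⟶ C) (φ : S ⟶ I) (g : C.homology 0 ⟶ I.homology 0)
    (hI : ∀ n, Injective (I.X n))
    (hC : ∀ n, C.ExactAt (n + 1))
    (hK : ∀ n s, m (q.f n) s = 0 → m (φ.f n) s = 0)
    (hS : ∀ n (s : (F V).obj (S.X (n + 1))), m (C.d (n + 1) (n + 2)) (m (q.f (n + 1)) s) = 0 →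
      ∃ s₁ : (F V).obj (S.X n), m (q.f (n + 1)) s = m (q.f (n + 1)) (m (S.d n (n + 1)) s₁))
    (h0 : ∀ (s : (F V).obj (S.X 0)) (z : (F V).obj (C.homology 0)),
      m (q.f 0) s = m (zι C) z → m (φ.f 0) s = m (zι I) (m g z)) :
    ∃ f : C ⟶ I, q ≫ f = φ ∧ HomologicalComplex.homologyMap f 0 = g := by
  obtain ⟨D0, hD0⟩ := base q φ g hI h0
  let fam : ∀ n, Dat q φ n := fun n =>
    Nat.rec D0 (fun n D => Classical.choose (step q φ hI hC hK hS n D)) n
  have hfam : ∀ n, C.d n (n + 1) ≫ (fam (n + 1)).f = (fam n).f ≫ I.d n (n + 1) := fun n =>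
    Classical.choose_spec (step q φ hI hC hK hS n (fam n))
  let f : C ⟶ I :=
    { f := fun n => (fam n).f
      comm' := by
        intro i j hij
        have : i + 1 = j := hij
        subst this
        exact (hfam i).symm }
  refine ⟨f, ?_, ?_⟩
  · ext n
    exact (fam n).h1
  · rw [← cancel_mono (zι I), zι_naturality]
    exact hD0

end Ext

open scoped ZeroObject in
theorem m_comp_eq {X Y Y' Z : V} (a : X ⟶ Y) (b : Y ⟶ Z) (a' : X ⟶ Y') (b' : Y' ⟶ Z)
    (h : a ≫ b = a' ≫ b') (x : (F V).obj X) : m b (m a x) = m b' (m a' x) := by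
  have := LinearMap.congr_fun (congrArg m h) x
  rw [m_comp, m_comp] at this
  exact this

open scoped ZeroObject in
theorem main (C' C C'' I' I I'' : CochainComplex V ℕ)
    (jC : C' ⟶ C) (πC : C ⟶ C'') (jI : I' ⟶ I) (πI : I ⟶ I'')
    (mC : ∀ n, Mono (jC.f n)) (wC : ∀ n, jC.f n ≫ πC.f n = 0)
    (exC : ∀ n, (ShortComplex.mk (jC.f n) (πC.f n) (wC n)).Exact)
    (mI : ∀ n, Mono (jI.f n)) (wI : ∀ n, jI.f n ≫ πI.f n = 0)
    (exI : ∀ n, (ShortComplex.mk (jI.f n) (πI.f n) (wI n)).Exact)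
    (hC' : ∀ n, 0 < n → C'.ExactAt n) (hC : ∀ n, 0 < n → C.ExactAt n)
    (hC'' : ∀ n, 0 < n → C''.ExactAt n)
    (hI' : ∀ n, 0 < n → I'.ExactAt n) (hI : ∀ n, 0 < n → I.ExactAt n)
    (hI'' : ∀ n, 0 < n → I''.ExactAt n)
    (injI' : ∀ n, Injective (I'.X n)) (injI : ∀ n, Injective (I.X n))
    (injI'' : ∀ n, Injective (I''.X n))
    (g' : C'.homology 0 ⟶ I'.homology 0) (g : C.homology 0 ⟶ I.homology 0)
    (g'' : C''.homology 0 ⟶ I''.homology 0)
    (hg1 : HomologicalComplex.homologyMap jC 0 ≫ g = g' ≫ HomologicalComplex.homologyMap jI 0)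
    (hg2 : HomologicalComplex.homologyMap πC 0 ≫ g'' = g ≫ HomologicalComplex.homologyMap πI 0) :
    ∃ (f' : C' ⟶ I') (f : C ⟶ I) (f'' : C'' ⟶ I''),
      jC ≫ f = f' ≫ jI ∧ πC ≫ f'' = f ≫ πI ∧
      HomologicalComplex.homologyMap f' 0 = g' ∧ HomologicalComplex.homologyMap f 0 = g ∧
      HomologicalComplex.homologyMap f'' 0 = g'' := by
  -- f'
  obtain ⟨f', -, hf'⟩ := ext_lemma (S := 0) (0 : (0 : CochainComplex V ℕ) ⟶ C')
    (0 : (0 : CochainComplex V ℕ) ⟶ I') g' injI'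
    (fun n => hC' (n + 1) (Nat.succ_pos n))
    (by intro n s _; simp)
    (by intro n s _; exact ⟨0, by simp⟩)
    (by
      intro s z h
      simp only [HomologicalComplex.zero_f, m_zero, LinearMap.zero_apply] at h ⊢
      have : z = 0 := zι_injective C' (by rw [← h, map_zero])
      rw [this, map_zero, map_zero])
  subst hf'
  have jinj : ∀ n, Function.Injective (m (jC.f n)) := fun n => (mono_iff _).1 (mC n)
  have exC' : ∀ n (c : (F V).obj (C.X n)), m (πC.f n) c = 0 → ∃ t, m (jC.f n) t = c :=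
    fun n => (exact_iff _).1 (exC n)
  have wI' : ∀ n x, m (πI.f n) (m (jI.f n) x) = 0 := fun n x => by
    rw [← m_comp_apply, wI n]; simp
  have wC' : ∀ n x, m (πC.f n) (m (jC.f n) x) = 0 := fun n x => by
    rw [← m_comp_apply, wC n]; simp
  -- f
  obtain ⟨f, hf1, hf⟩ := ext_lemma jC (f' ≫ jI) g injI (fun n => hC (n + 1) (Nat.succ_pos n))
    (by
      intro n s hs
      have : s = 0 := jinj n (by rw [hs, map_zero])
      rw [this, map_zero])
    (by
      intro n s hs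
      rw [← m_comm] at hs
      have h1 : m (C'.d (n + 1) (n + 2)) s = 0 := jinj _ (by rw [hs, map_zero])
      obtain ⟨s₁, hs₁⟩ := exact_apply C' n (hC' (n + 1) (Nat.succ_pos n)) s h1
      exact ⟨s₁, by rw [hs₁]⟩)
    (by
      intro s z h
      have h1 : m (C'.d 0 1) s = 0 := by
        apply jinj 1
        rw [m_comm, h, zι_d_apply, map_zero]
      obtain ⟨z', rfl⟩ := exists_zι C' s h1
      rw [← zι_naturality_apply] at h
      have h2 : z = m (HomologicalComplex.homologyMap jC 0) z' := (zι_injective C h).symm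
      subst h2
      have h3 := m_comp_eq _ _ _ _ hg1 z'
      rw [h3, zι_naturality_apply, zι_naturality_apply, HomologicalComplex.comp_f,
        m_comp_apply])
  subst hf
  have hf1' : ∀ n t, m (f.f n) (m (jC.f n) t) = m (jI.f n) (m (f'.f n) t) := fun n t =>
    m_comp_eq _ _ _ _ (by rw [← HomologicalComplex.comp_f, hf1, HomologicalComplex.comp_f]) t
  -- f''
  obtain ⟨f'', hf1'', hf''⟩ := ext_lemma πC (f ≫ πI) g'' injI''
    (fun n => hC'' (n + 1) (Nat.succ_pos n))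
    (by
      intro n s hs
      obtain ⟨t, rfl⟩ := exC' n s hs
      rw [HomologicalComplex.comp_f, m_comp_apply, hf1', wI'])
    (by
      intro n s hs
      rw [← m_comm] at hs
      obtain ⟨t, ht⟩ := exC' (n + 2) _ hs
      have h1 : m (C'.d (n + 2) (n + 3)) t = 0 := by
        apply jinj (n + 3)
        rw [m_comm, ht, m_d_d, map_zero]
      obtain ⟨t₁, ht₁⟩ := exact_apply C' (n + 1) (hC' (n + 2) (Nat.succ_pos _)) t h1
      have h2 : m (C.d (n + 1) (n + 2)) (s - m (jC.f (n + 1)) t₁) = 0 := by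
        rw [map_sub, ← m_comm, show m (C'.d (n + 1) (n + 2)) t₁ = t from ht₁, ht, sub_self]
      obtain ⟨s₁, hs₁⟩ := exact_apply C n (hC (n + 1) (Nat.succ_pos _)) _ h2
      refine ⟨s₁, ?_⟩
      rw [hs₁, map_sub, wC', sub_zero])
    (by
      intro s z h
      have h1 : m (πC.f 1) (m (C.d 0 1) s) = 0 := by rw [m_comm, h, zι_d_apply]
      obtain ⟨t, ht⟩ := exC' 1 _ h1
      have h2 : m (C'.d 1 2) t = 0 := by
        apply jinj 2
        rw [m_comm, ht, m_d_d, map_zero]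
      obtain ⟨t₀, ht₀⟩ := exact_apply C' 0 (hC' 1 one_pos) t h2
      have h3 : m (C.d 0 1) (s - m (jC.f 0) t₀) = 0 := by
        rw [map_sub, ← m_comm, show m (C'.d 0 1) t₀ = t from ht₀, ht, sub_self]
      obtain ⟨z₀, hz₀⟩ := exists_zι C _ h3
      have h4 : m (πC.f 0) s = m (zι C'') (m (HomologicalComplex.homologyMap πC 0) z₀) := by
        rw [zι_naturality_apply, hz₀, map_sub, wC', sub_zero]
      have h5 : z = m (HomologicalComplex.homologyMap πC 0) z₀ :=
        zι_injective C'' (by rw [← h, h4])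
      subst h5
      have h6 := m_comp_eq _ _ _ _ hg2 z₀
      rw [h6, zι_naturality_apply, zι_naturality_apply, hz₀, HomologicalComplex.comp_f,
        m_comp_apply, map_sub, map_sub, hf1', wI', sub_zero])
  exact ⟨f', f, f'', hf1, hf1'', rfl, rfl, hf''⟩

end Groth.Agent.Helper8.CompatInj
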