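import Groth.Agent.S3862

set_option autoImplicit false
universe u
open AlgebraicGeometry CategoryTheory CategoryTheory.Limits

namespace Groth.Agent.Helper8.ComplPB

/-- a square of systems that is cartesian at every level is cartesian -/
theorem isPullback_of_levelwise {P X Y S : FSch.Sys.{u}} (fst : P ⟶ X) (snd : P ⟶ Y)
    (f : X ⟶ S) (g : Y ⟶ S)
    (H : ∀ n, IsPullback ((fst : FSch.Hom P X).app n) ((snd : FSch.Hom P Y).app n)
      ((f : FSch.Hom X S).app n) ((g : FSch.Hom Y S).app n)) :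
    IsPullback fst snd f g := by
  have w : fst ≫ f = snd ≫ g := FSch.Hom.ext (funext fun n => (H n).w)
  have cond : ∀ (s : PullbackCone f g) (n : ℕ),
      (s.fst : FSch.Hom s.pt X).app n ≫ (f : FSch.Hom X S).app n =
        (s.snd : FSch.Hom s.pt Y).app n ≫ (g : FSch.Hom Y S).app n := fun s n =>
    congrArg (fun t : s.pt ⟶ S => (t : FSch.Hom s.pt S).app n) s.condition
  refine IsPullback.of_isLimit (c := PullbackCone.mk fst snd w)
    (PullbackCone.IsLimit.mk w
      (fun s => (⟨fun n => (H n).lift ((s.fst : FSch.Hom s.pt X).app n)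
        ((s.snd : FSch.Hom s.pt Y).app n) (cond s n), fun n => ?_⟩ : FSch.Hom s.pt P))
      (fun s => FSch.Hom.ext (funext fun n => (H n).lift_fst _ _ _))
      (fun s => FSch.Hom.ext (funext fun n => (H n).lift_snd _ _ _))
      (fun s m h1 h2 => FSch.Hom.ext (funext fun n => ?_)))
  · refine (H (n + 1)).hom_ext ?_ ?_
    · rw [Category.assoc, Category.assoc, ← (fst : FSch.Hom P X).comm n, (H (n + 1)).lift_fst,
        ← Category.assoc, (H n).lift_fst, (s.fst : FSch.Hom s.pt X).comm n]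
    · rw [Category.assoc, Category.assoc, ← (snd : FSch.Hom P Y).comm n, (H (n + 1)).lift_snd,
        ← Category.assoc, (H n).lift_snd, (s.snd : FSch.Hom s.pt Y).comm n]
  · refine (H n).hom_ext ?_ ?_
    · rw [(H n).lift_fst]
      exact congrArg (fun t : s.pt ⟶ X => (t : FSch.Hom s.pt X).app n) h1
    · rw [(H n).lift_snd]
      exact congrArg (fun t : s.pt ⟶ Y => (t : FSch.Hom s.pt Y).app n) h2

lemma app_comp {X Y : Scheme.{u}} (f : X ⟶ Y) (𝓘 : X.IdealSheafData) (𝓚 : Y.IdealSheafData)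
    (h : FSch.PowCompat f 𝓘 𝓚) (n : ℕ) :
    (FSch.completionMap f 𝓘 𝓚 h : FSch.Hom _ _).app n ≫ FSch.completionToX Y 𝓚 n =
      FSch.completionToX X 𝓘 n ≫ f :=
  Scheme.IdealSheafData.subschemeMap_subschemeι _ _ f
    (Scheme.IdealSheafData.le_map_iff_comap_le.mpr (h n))

theorem main {X Y S : Scheme.{u}} (g : X ⟶ S) (h : Y ⟶ S)
    (𝓡 : X.IdealSheafData) (𝓙 : S.IdealSheafData)
    (hg : FSch.PowCompat g 𝓡 𝓙) (hh : FSch.PowCompat h (𝓙.comap h) 𝓙)
    (hp : FSch.PowCompat (pullback.fst g h) (𝓡.comap (pullback.fst g h)) 𝓡)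
    (hq : FSch.PowCompat (pullback.snd g h) (𝓡.comap (pullback.fst g h)) (𝓙.comap h)) :
    IsPullback (FSch.completionMap (pullback.fst g h) (𝓡.comap (pullback.fst g h)) 𝓡 hp)
      (FSch.completionMap (pullback.snd g h) (𝓡.comap (pullback.fst g h)) (𝓙.comap h) hq)
      (FSch.completionMap g 𝓡 𝓙 hg) (FSch.completionMap h (𝓙.comap h) 𝓙 hh) := by
  refine isPullback_of_levelwise _ _ _ _ fun n => ?_
  set a := (FSch.completionMap (pullback.fst g h) (𝓡.comap (pullback.fst g h)) 𝓡 hp :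
    FSch.Hom _ _).app n with ha
  set b := (FSch.completionMap (pullback.snd g h) (𝓡.comap (pullback.fst g h)) (𝓙.comap h) hq :
    FSch.Hom _ _).app n with hb
  set c := (FSch.completionMap g 𝓡 𝓙 hg : FSch.Hom _ _).app n with hc
  set d := (FSch.completionMap h (𝓙.comap h) 𝓙 hh : FSch.Hom _ _).app n with hd
  have sq1 := Groth.Agent.S3862.level (pullback.fst g h) 𝓡 hp n
  have sq2 := Groth.Agent.S3862.level h 𝓙 hh n
  have ea := app_comp (pullback.fst g h) (𝓡.comap (pullback.fst g h)) 𝓡 hp n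
  have eb := app_comp (pullback.snd g h) (𝓡.comap (pullback.fst g h)) (𝓙.comap h) hq n
  have ec := app_comp g 𝓡 𝓙 hg n
  have ed := app_comp h (𝓙.comap h) 𝓙 hh n
  rw [← ha] at sq1 ea
  rw [← hb] at eb
  rw [← hc] at ec
  rw [← hd] at sq2 ed
  have main := IsPullback.of_hasPullback g h
  have R1 := sq1.flip.paste_vert main
  rw [← eb, ← ec] at R1
  haveI : Mono (FSch.completionToX S 𝓙 n) :=
    inferInstanceAs (Mono (𝓙 ^ (n + 1)).subschemeι)
  have p : a ≫ c = b ≫ d := by
    rw [← cancel_mono (FSch.completionToX S 𝓙 n), Category.assoc, Category.assoc, ec, ed,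
      ← Category.assoc, ← Category.assoc, ea, eb, Category.assoc, Category.assoc,
      pullback.condition]
  exact IsPullback.of_bot R1 p sq2.flip

end Groth.Agent.Helper8.ComplPB
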