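import Mathlib

/-!
# Adic completeness of finite projective modules and lifting idempotents

* `isAdicComplete_of_retract`, `isAdicComplete_pi`, `isAdicComplete_of_finite_projective`,
  `isAdicComplete_end`.
* `exists_idempotent_lift`: in an `R`-algebra `E` (not nec. commutative) that is `I`-adically
  complete as an `R`-module, an element that is idempotent modulo `I • ⊤` lifts to an idempotent.
* `mem_smul_top_end`: for `P` finite projective, an endomorphism with image in `J • ⊤` lies in
  `J • ⊤ ⊆ End P`.
-/

namespace Groth.Agent.Helper8.IdemLift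

section General

variable {R : Type*} [CommRing R]

theorem map_mem_smul_top (J : Ideal R) {A B : Type*} [AddCommGroup A] [Module R A]
    [AddCommGroup B] [Module R B] (f : A →ₗ[R] B) {x : A}
    (hx : x ∈ (J • ⊤ : Submodule R A)) : f x ∈ (J • ⊤ : Submodule R B) := by
  have h1 : f x ∈ Submodule.map f (J • ⊤) := ⟨x, hx, rfl⟩
  rw [Submodule.map_smul''] at h1
  exact Submodule.smul_mono le_rfl le_top h1

theorem isAdicComplete_of_retract (I : Ideal R) {M N : Type*} [AddCommGroup M] [Module R M]
    [AddCommGroup N] [Module R N] (i : N →ₗ[R] M) (r : M →ₗ[R] N) (h : ∀ x, r (i x) = x)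
    [IsAdicComplete I M] : IsAdicComplete I N := by
  refine { haus' := ?_, prec' := ?_ }
  · intro x hx
    have : i x = 0 := by
      apply IsHausdorff.haus' (I := I) (i x)
      intro n
      have h1 := hx n
      rw [SModEq.sub_mem, sub_zero] at h1 ⊢
      exact map_mem_smul_top (I ^ n) i h1
    rw [← h x, this, map_zero]
  · intro F hF
    obtain ⟨m, hm⟩ := IsPrecomplete.prec' (I := I) (M := M) (fun n => i (F n)) (by
      intro a b hab
      have h1 := hF hab
      rw [SModEq.sub_mem] at h1 ⊢
      rw [← map_sub]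
      exact map_mem_smul_top (I ^ a) i h1)
    refine ⟨r m, fun n => ?_⟩
    have h1 := hm n
    rw [SModEq.sub_mem] at h1 ⊢
    have h2 := map_mem_smul_top (I ^ n) r h1
    rwa [map_sub, h] at h2

theorem mem_smul_top_pi (J : Ideal R) {M : Type*} [AddCommGroup M] [Module R M] (t : ℕ)
    (y : Fin t → M) :
    y ∈ (J • ⊤ : Submodule R (Fin t → M)) ↔ ∀ i, y i ∈ (J • ⊤ : Submodule R M) := by
  constructor
  · intro hy i
    exact map_mem_smul_top J (LinearMap.proj i) hy
  · intro hy
    have e : y = ∑ i, (LinearMap.single R (fun _ : Fin t => M) i) (y i) := by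
      ext j
      simp [Finset.sum_apply, Pi.single_apply]
    rw [e]
    exact Submodule.sum_mem _ (fun i _ =>
      map_mem_smul_top J (LinearMap.single R (fun _ : Fin t => M) i) (hy i))

theorem isAdicComplete_pi (I : Ideal R) {M : Type*} [AddCommGroup M] [Module R M]
    [IsAdicComplete I M] (t : ℕ) : IsAdicComplete I (Fin t → M) := by
  refine { haus' := ?_, prec' := ?_ }
  · intro y hy
    ext i
    apply IsHausdorff.haus' (I := I) (y i)
    intro n
    have h1 := hy n
    rw [SModEq.sub_mem, sub_zero] at h1 ⊢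
    exact (mem_smul_top_pi (I ^ n) t y).mp h1 i
  · intro F hF
    have hlim : ∀ i, ∃ a : M, ∀ n, F n i ≡ a [SMOD (I ^ n • ⊤ : Submodule R M)] := by
      intro i
      apply IsPrecomplete.prec' (I := I) (M := M) (fun n => F n i)
      intro m n hmn
      have h1 := hF hmn
      rw [SModEq.sub_mem] at h1 ⊢
      exact (mem_smul_top_pi (I ^ m) t _).mp h1 i
    choose a ha using hlim
    refine ⟨a, fun n => ?_⟩
    rw [SModEq.sub_mem, mem_smul_top_pi]
    intro i
    have h1 := ha i n
    rw [SModEq.sub_mem] at h1
    exact h1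

theorem isAdicComplete_of_finite_projective (I : Ideal R) [IsAdicComplete I R]
    (P : Type*) [AddCommGroup P] [Module R P] [Module.Finite R P] [Module.Projective R P] :
    IsAdicComplete I P := by
  obtain ⟨n, f, g, -, -, hfg⟩ := Module.Finite.exists_comp_eq_id_of_projective R P
  have : IsAdicComplete I (Fin n → R) := isAdicComplete_pi I n
  exact isAdicComplete_of_retract I g f (fun x => by
    have := LinearMap.congr_fun hfg x
    simpa using this)

/-- `End P` is a retract of `Fin n → P`. -/
theorem isAdicComplete_end (I : Ideal R) [IsAdicComplete I R]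
    (P : Type*) [AddCommGroup P] [Module R P] [Module.Finite R P] [Module.Projective R P] :
    IsAdicComplete I (Module.End R P) := by
  obtain ⟨n, f, g, -, -, hfg⟩ := Module.Finite.exists_comp_eq_id_of_projective R P
  have : IsAdicComplete I P := isAdicComplete_of_finite_projective I P
  have : IsAdicComplete I (Fin n → P) := isAdicComplete_pi I n
  -- embedding
  let i : Module.End R P →ₗ[R] (Fin n → P) :=
    LinearMap.pi (fun k => LinearMap.applyₗ (f (Pi.single k 1)))
  let r : (Fin n → P) →ₗ[R] Module.End R P :=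
    ∑ k : Fin n, (LinearMap.smulRightₗ ((LinearMap.proj k : (Fin n → R) →ₗ[R] R) ∘ₗ g)) ∘ₗ
      (LinearMap.proj k : (Fin n → P) →ₗ[R] P)
  refine isAdicComplete_of_retract I i r (fun φ => ?_)
  ext x
  have hx : f (g x) = x := by
    have := LinearMap.congr_fun hfg x
    simpa using this
  have h1 : r (i φ) x = ∑ k : Fin n, (g x k) • φ (f (Pi.single k 1)) := by
    simp only [r, i, LinearMap.sum_apply, LinearMap.comp_apply, LinearMap.proj_apply,
      LinearMap.pi_apply, LinearMap.applyₗ_apply_apply, LinearMap.smulRightₗ_apply,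
      LinearMap.smulRight_apply]
  rw [h1]
  have h2 : g x = ∑ k : Fin n, (g x k) • (Pi.single k (1 : R) : Fin n → R) := by
    ext j
    simp [Finset.sum_apply, Pi.single_apply]
  conv_rhs => rw [← hx, h2, map_sum, map_sum]
  refine Finset.sum_congr rfl (fun k _ => ?_)
  rw [map_smul, map_smul]

/-- For `P` finite projective, an endomorphism with image in `J • ⊤` lies in `J • ⊤`. -/
theorem mem_smul_top_end (J : Ideal R)
    (P : Type*) [AddCommGroup P] [Module R P] [Module.Finite R P] [Module.Projective R P]
    (φ : Module.End R P) (hφ : ∀ x, φ x ∈ (J • ⊤ : Submodule R P)) :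
    φ ∈ (J • ⊤ : Submodule R (Module.End R P)) := by
  obtain ⟨n, f, g, -, -, hfg⟩ := Module.Finite.exists_comp_eq_id_of_projective R P
  have key : φ = ∑ k : Fin n,
      (LinearMap.smulRightₗ ((LinearMap.proj k : (Fin n → R) →ₗ[R] R) ∘ₗ g) :
        P →ₗ[R] (P →ₗ[R] P)) (φ (f (Pi.single k 1))) := by
    ext x
    have hx : f (g x) = x := by
      have := LinearMap.congr_fun hfg x
      simpa using this
    have h2 : g x = ∑ k : Fin n, (g x k) • (Pi.single k (1 : R) : Fin n → R) := by
      ext j
      simp [Finset.sum_apply, Pi.single_apply]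
    simp only [LinearMap.sum_apply, LinearMap.smulRightₗ_apply, LinearMap.smulRight_apply,
      LinearMap.comp_apply, LinearMap.proj_apply]
    conv_lhs => rw [← hx, h2, map_sum, map_sum]
    refine Finset.sum_congr rfl (fun k _ => ?_)
    rw [map_smul, map_smul]
  rw [key]
  exact Submodule.sum_mem _ (fun k _ => map_mem_smul_top J _ (hφ _))

theorem apply_mem_smul_top (J : Ideal R)
    (P : Type*) [AddCommGroup P] [Module R P]
    (φ : Module.End R P) (hφ : φ ∈ (J • ⊤ : Submodule R (Module.End R P))) (x : P) :
    φ x ∈ (J • ⊤ : Submodule R P) :=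
  map_mem_smul_top J (LinearMap.applyₗ x : (P →ₗ[R] P) →ₗ[R] P) hφ

end General

section Lift

variable {R : Type*} [CommRing R] (I : Ideal R) {E : Type*} [Ring E] [Algebra R E]

theorem mul_right_mem (J : Ideal R) {x : E} (hx : x ∈ (J • ⊤ : Submodule R E)) (y : E) :
    x * y ∈ (J • ⊤ : Submodule R E) :=
  map_mem_smul_top J (LinearMap.mulRight R y) hx

theorem mul_left_mem (J : Ideal R) {x : E} (hx : x ∈ (J • ⊤ : Submodule R E)) (y : E) :
    y * x ∈ (J • ⊤ : Submodule R E) :=
  map_mem_smul_top J (LinearMap.mulLeft R y) hx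

theorem mul_mem_add (m n : ℕ) {x y : E} (hx : x ∈ (I ^ m • ⊤ : Submodule R E))
    (hy : y ∈ (I ^ n • ⊤ : Submodule R E)) : x * y ∈ (I ^ (m + n) • ⊤ : Submodule R E) := by
  refine Submodule.smul_induction_on hx (fun r hr z _ => ?_) (fun a b ha hb => ?_)
  · rw [smul_mul_assoc, pow_add, Submodule.mul_smul]
    exact Submodule.smul_mem_smul hr (mul_left_mem (I ^ n) hy z)
  · rw [add_mul]
    exact Submodule.add_mem _ ha hb

theorem mem_of_le {m n : ℕ} (h : m ≤ n) {x : E} (hx : x ∈ (I ^ n • ⊤ : Submodule R E)) :
    x ∈ (I ^ m • ⊤ : Submodule R E) :=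
  Submodule.smul_mono_left (Ideal.pow_le_pow_right h) hx

/-- Newton iteration for idempotents. -/
noncomputable def seq (a : E) : ℕ → E
  | 0 => a
  | n + 1 => 3 * (seq a n * seq a n) - 2 * (seq a n * seq a n * seq a n)

theorem step_sub (t : E) :
    3 * (t * t) - 2 * (t * t * t) - t = -((t * t - t) * (2 * t - 1)) := by
  noncomm_ring

theorem step_idem (t : E) :
    (3 * (t * t) - 2 * (t * t * t)) * (3 * (t * t) - 2 * (t * t * t)) -
      (3 * (t * t) - 2 * (t * t * t)) =
    (t * t - t) * (t * t - t) * (4 * (t * t) - 4 * t - 3) := by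
  noncomm_ring

theorem seq_idem (a : E) (ha : a * a - a ∈ (I • ⊤ : Submodule R E)) (n : ℕ) :
    seq a n * seq a n - seq a n ∈ (I ^ (n + 1) • ⊤ : Submodule R E) := by
  induction n with
  | zero => simpa [seq] using ha
  | succ n ih =>
    have h1 : seq a (n + 1) * seq a (n + 1) - seq a (n + 1) =
        (seq a n * seq a n - seq a n) * (seq a n * seq a n - seq a n) *
          (4 * (seq a n * seq a n) - 4 * seq a n - 3) := step_idem (seq a n)
    rw [h1]
    apply mul_right_mem
    exact mem_of_le I (by omega) (mul_mem_add I (n + 1) (n + 1) ih ih)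

theorem seq_sub (a : E) (ha : a * a - a ∈ (I • ⊤ : Submodule R E)) (n : ℕ) :
    seq a (n + 1) - seq a n ∈ (I ^ (n + 1) • ⊤ : Submodule R E) := by
  have h1 : seq a (n + 1) - seq a n =
      -((seq a n * seq a n - seq a n) * (2 * seq a n - 1)) := step_sub (seq a n)
  rw [h1]
  exact Submodule.neg_mem _ (mul_right_mem _ (seq_idem I a ha n) _)

theorem seq_cauchy (a : E) (ha : a * a - a ∈ (I • ⊤ : Submodule R E)) {m n : ℕ} (h : m ≤ n) :
    seq a n - seq a m ∈ (I ^ m • ⊤ : Submodule R E) := by
  induction n, h using Nat.le_induction with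
  | base => simp
  | succ n hmn ih =>
    have : seq a (n + 1) - seq a m = (seq a (n + 1) - seq a n) + (seq a n - seq a m) := by abel
    rw [this]
    exact Submodule.add_mem _ (mem_of_le I (by omega) (seq_sub I a ha n)) ih

theorem exists_idempotent_lift [IsAdicComplete I E] (a : E)
    (ha : a * a - a ∈ (I • ⊤ : Submodule R E)) :
    ∃ e : E, IsIdempotentElem e ∧ e - a ∈ (I • ⊤ : Submodule R E) := by
  obtain ⟨e, he⟩ := IsPrecomplete.prec' (I := I) (M := E) (seq a) (by
    intro m n hmn
    rw [SModEq.sub_mem]
    have := seq_cauchy I a ha hmn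
    rw [← neg_sub]
    exact Submodule.neg_mem _ this)
  have he' : ∀ n, e - seq a n ∈ (I ^ n • ⊤ : Submodule R E) := by
    intro n
    have := he n
    rw [SModEq.sub_mem] at this
    rw [← neg_sub]
    exact Submodule.neg_mem _ this
  refine ⟨e, ?_, ?_⟩
  · have h0 : e * e - e = 0 := by
      apply IsHausdorff.haus' (I := I) (e * e - e)
      intro n
      rw [SModEq.sub_mem, sub_zero]
      set d := e - seq a n with hd
      have hdm : d ∈ (I ^ n • ⊤ : Submodule R E) := he' n
      have e1 : e * e - e = (seq a n * seq a n - seq a n) + seq a n * d + d * seq a n + d * d - d := by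
        have : e = seq a n + d := by rw [hd]; abel
        rw [this]
        noncomm_ring
      rw [e1]
      refine Submodule.sub_mem _ (Submodule.add_mem _ (Submodule.add_mem _ (Submodule.add_mem _
        (mem_of_le I (by omega) (seq_idem I a ha n)) (mul_left_mem _ hdm _))
        (mul_right_mem _ hdm _)) (mul_right_mem _ hdm _)) hdm
    exact sub_eq_zero.mp h0
  · have h1 := he' 1
    have h2 := seq_sub I a ha 0
    rw [pow_one] at h1
    simp only [zero_add, pow_one] at h2
    have : e - a = (e - seq a 1) + (seq a 1 - seq a 0) := by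
      simp [seq]
    rw [this]
    exact Submodule.add_mem _ h1 h2

end Lift

end Groth.Agent.Helper8.IdemLift
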