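import Mathlib
import Groth.Agent.Helper8.IdemLift

/-!
# Finite modules over complete Noetherian rings are complete; connectedness forces locality
-/

namespace Groth.Agent.Helper8.CompleteLocal

open Groth.Agent.Helper8.IdemLift

section Complete

variable {R : Type*} [CommRing R] (I : Ideal R)

theorem isPrecomplete_of_surjective {N M : Type*} [AddCommGroup N] [Module R N]
    [AddCommGroup M] [Module R M] (f : N →ₗ[R] M) (hf : Function.Surjective f)
    [IsPrecomplete I N] : IsPrecomplete I M := by
  rw [← AdicCompletion.of_surjective_iff]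
  intro u
  obtain ⟨v, rfl⟩ := AdicCompletion.map_surjective I hf u
  obtain ⟨y, rfl⟩ := AdicCompletion.of_surjective I N v
  exact ⟨f y, (AdicCompletion.map_of I f y).symm⟩

theorem isAdicComplete_of_finite [IsNoetherianRing R] [IsAdicComplete I R] (M : Type*)
    [AddCommGroup M] [Module R M] [Module.Finite R M] : IsAdicComplete I M := by
  obtain ⟨n, f, hf⟩ := Module.Finite.exists_fin' R M
  haveI : IsAdicComplete I (Fin n → R) := isAdicComplete_pi I n
  haveI : IsPrecomplete I M := isPrecomplete_of_surjective I f hf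
  haveI : IsHausdorff I M := IsHausdorff.of_le_jacobson I M (IsAdicComplete.le_jacobson_bot I)
  exact { toIsHausdorff := inferInstance, toIsPrecomplete := inferInstance }

end Complete

section Seq

variable {S : Type*} [CommRing S]

theorem seq_idem_span (b : S) (t : ℕ) :
    ∃ u, seq b t * seq b t - seq b t = (b * b - b) ^ (2 ^ t) * u := by
  induction t with
  | zero => exact ⟨1, by simp [seq]⟩
  | succ t ih =>
    obtain ⟨u, hu⟩ := ih
    have h1 : seq b (t + 1) * seq b (t + 1) - seq b (t + 1) =
        (seq b t * seq b t - seq b t) * (seq b t * seq b t - seq b t) *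
          (4 * (seq b t * seq b t) - 4 * seq b t - 3) := step_idem (seq b t)
    refine ⟨u * u * (4 * (seq b t * seq b t) - 4 * seq b t - 3), ?_⟩
    rw [h1, hu, pow_succ, pow_mul]
    ring

theorem seq_sub_span (b : S) (t : ℕ) : ∃ v, seq b t - b = (b * b - b) * v := by
  induction t with
  | zero => exact ⟨0, by simp [seq]⟩
  | succ t ih =>
    obtain ⟨v, hv⟩ := ih
    obtain ⟨u, hu⟩ := seq_idem_span b t
    have h1 : seq b (t + 1) - seq b t =
        -((seq b t * seq b t - seq b t) * (2 * seq b t - 1)) := step_sub (seq b t)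
    have h2 : (b * b - b) ^ (2 ^ t) = (b * b - b) * (b * b - b) ^ (2 ^ t - 1) := by
      rw [← pow_succ', Nat.sub_add_cancel Nat.one_le_two_pow]
    refine ⟨-((b * b - b) ^ (2 ^ t - 1) * u * (2 * seq b t - 1)) + v, ?_⟩
    have : seq b (t + 1) - b = (seq b (t + 1) - seq b t) + (seq b t - b) := by ring
    rw [this, h1, hv, hu, h2]
    ring

end Seq

section Local

variable {R S : Type*} [CommRing R] [IsNoetherianRing R] [IsLocalRing R]
  [IsAdicComplete (IsLocalRing.maximalIdeal R) R] [CommRing S] [IsDomain S] [Algebra R S]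
  [Module.Finite R S]

/-- In a domain finite over a complete Noetherian local ring, two comaximal ideals whose
intersection lies in the radical of `m S` cannot both be proper (given `m S ≤ n`). -/
theorem eq_top_of_coprime_of_inf_le_radical (n 𝔟 : Ideal S) (hn : n ≠ ⊤)
    (hnm : (IsLocalRing.maximalIdeal R).map (algebraMap R S) ≤ n) (hcop : n ⊔ 𝔟 = ⊤)
    (hrad : n ⊓ 𝔟 ≤ ((IsLocalRing.maximalIdeal R).map (algebraMap R S)).radical) : 𝔟 = ⊤ := by
  set m := IsLocalRing.maximalIdeal R with hm
  set mS := m.map (algebraMap R S) with hmS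
  haveI : IsAdicComplete m S := isAdicComplete_of_finite m S
  have hsm : ∀ x : S, x ∈ (m • ⊤ : Submodule R S) ↔ x ∈ mS := by
    intro x
    rw [Ideal.smul_top_eq_map]
    rfl
  obtain ⟨a, ha, b, hb, hab⟩ := Submodule.mem_sup.mp (hcop ▸ Submodule.mem_top : (1 : S) ∈ n ⊔ 𝔟)
  set c := b * b - b with hc
  have hcab : c = -(a * b) := by
    have : a = 1 - b := by rw [← hab]; ring
    rw [hc, this]; ring
  have hcn : c ∈ n := by rw [hcab]; exact n.neg_mem (n.mul_mem_right _ ha)
  have hc𝔟 : c ∈ 𝔟 := by rw [hcab]; exact 𝔟.neg_mem (𝔟.mul_mem_left _ hb)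
  have hcrad : c ∈ mS.radical := hrad ⟨hcn, hc𝔟⟩
  obtain ⟨N, hN⟩ := hcrad
  set x := seq b N with hx
  obtain ⟨u, hu⟩ := seq_idem_span b N
  obtain ⟨v, hv⟩ := seq_sub_span b N
  have hxx : x * x - x ∈ (m • ⊤ : Submodule R S) := by
    rw [hsm, hu]
    have h1 : N ≤ 2 ^ N := Nat.lt_two_pow_self.le
    have h2 : (b * b - b) ^ (2 ^ N) = c ^ N * c ^ (2 ^ N - N) := by
      rw [← pow_add, Nat.add_sub_cancel' h1]
    rw [h2]
    exact mS.mul_mem_right _ (mS.mul_mem_right _ hN)
  obtain ⟨e, he, hex⟩ := exists_idempotent_lift m x hxx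
  rw [hsm] at hex
  have he01 : e = 0 ∨ e = 1 := IsIdempotentElem.iff_eq_zero_or_one.mp he
  have hxb : x - b ∈ mS.radical := by
    rw [hv]
    exact mS.radical.mul_mem_right _ ⟨N, hN⟩
  have hxbn : x - b ∈ n := by
    rw [hv]
    exact n.mul_mem_right _ hcn
  have hebn : e - b ∈ n := by
    have : e - b = (e - x) + (x - b) := by ring
    rw [this]
    exact n.add_mem (hnm hex) hxbn
  have hebrad : e - b ∈ mS.radical := by
    have : e - b = (e - x) + (x - b) := by ring
    rw [this]
    exact mS.radical.add_mem (Ideal.le_radical hex) hxb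
  have he1 : e = 1 := by
    rcases he01 with h0 | h1
    · exfalso
      apply hn
      rw [Ideal.eq_top_iff_one]
      have h3 : (1 : S) = a - (e - b) := by rw [h0, ← hab]; ring
      rw [h3]
      exact n.sub_mem ha hebn
    · exact h1
  -- `1 - b` lies in the Jacobson radical
  haveI : IsAdicComplete mS S := by
    have := (IsAdicComplete.map_algebraMap_iff (I := m) (S := S) (M := S))
    exact this.mpr inferInstance
  have hjac : mS.radical ≤ Ideal.jacobson (⊥ : Ideal S) := by
    have h1 : mS ≤ Ideal.jacobson (⊥ : Ideal S) := IsAdicComplete.le_jacobson_bot mS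
    calc mS.radical ≤ (Ideal.jacobson (⊥ : Ideal S)).radical := Ideal.radical_mono h1
      _ = Ideal.jacobson (⊥ : Ideal S) := (Ideal.isRadical_jacobson _).radical
  have h1b : 1 - b ∈ Ideal.jacobson (⊥ : Ideal S) := by
    rw [← he1]; exact hjac hebrad
  have hbunit : IsUnit b := by
    have := (Ideal.mem_jacobson_bot.mp h1b) (-1)
    have h4 : (1 - b) * (-1) + 1 = b := by ring
    rwa [h4] at this
  exact Ideal.eq_top_of_isUnit_mem _ hb hbunit

end Local

end Groth.Agent.Helper8.CompleteLocal
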