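import Mathlib

namespace Groth.Agent.Helper8.Cone5

open Matrix

variable {K : Type*} [Field K] [Infinite K]

/-- the 4×4 matrix of the lifted points, omitting `j`. -/
def A (b : Fin 5 → (Fin 3 → K)) (t : Fin 5 → K) (j : Fin 5) : Matrix (Fin 4) (Fin 4) K :=
  Matrix.of fun i => (Fin.cons (t (j.succAbove i)) (b (j.succAbove i)) : Fin 4 → K)

/-- the 3×3 minors. -/
def D (b : Fin 5 → (Fin 3 → K)) (j : Fin 5) (i : Fin 4) : K :=
  Matrix.det (Matrix.of fun k : Fin 3 => b (j.succAbove (i.succAbove k)))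

lemma det_A (b : Fin 5 → (Fin 3 → K)) (t : Fin 5 → K) (j : Fin 5) :
    (A b t j).det = ∑ i : Fin 4, (-1) ^ (i : ℕ) * t (j.succAbove i) * D b j i := by
  rw [Matrix.det_succ_column_zero]
  apply Finset.sum_congr rfl
  intro i _
  congr 1

lemma D_ne_zero (b : Fin 5 → (Fin 3 → K))
    (h3 : ∀ i j l : Fin 5, i ≠ j → j ≠ l → i ≠ l → LinearIndependent K ![b i, b j, b l])
    (j : Fin 5) (i : Fin 4) : D b j i ≠ 0 := by
  have h := h3 (j.succAbove (i.succAbove 0)) (j.succAbove (i.succAbove 1))
    (j.succAbove (i.succAbove 2))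
    (fun h => by
      have := Fin.succAbove_right_injective (Fin.succAbove_right_injective h)
      exact absurd this (by decide))
    (fun h => by
      have := Fin.succAbove_right_injective (Fin.succAbove_right_injective h)
      exact absurd this (by decide))
    (fun h => by
      have := Fin.succAbove_right_injective (Fin.succAbove_right_injective h)
      exact absurd this (by decide))
  have h2 : (Matrix.of fun k : Fin 3 => b (j.succAbove (i.succAbove k))).row =
      ![b (j.succAbove (i.succAbove 0)), b (j.succAbove (i.succAbove 1)),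
        b (j.succAbove (i.succAbove 2))] := by
    funext k
    fin_cases k <;> rfl
  rw [← h2, Matrix.linearIndependent_rows_iff_isUnit, Matrix.isUnit_iff_isUnit_det,
    isUnit_iff_ne_zero] at h
  exact h

/-- the linear form `t ↦ det (A b t j)`. -/
noncomputable def Lf (b : Fin 5 → (Fin 3 → K)) (j : Fin 5) : (Fin 5 → K) →ₗ[K] K :=
  ∑ i : Fin 4, ((-1) ^ (i : ℕ) * D b j i) • LinearMap.proj (j.succAbove i)

lemma Lf_apply (b : Fin 5 → (Fin 3 → K)) (j : Fin 5) (t : Fin 5 → K) :
    Lf b j t = (A b t j).det := by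
  rw [det_A]
  unfold Lf
  rw [LinearMap.sum_apply]
  apply Finset.sum_congr rfl
  intro i _
  simp only [LinearMap.smul_apply, LinearMap.proj_apply, smul_eq_mul]
  ring

theorem exists_t (b : Fin 5 → (Fin 3 → K))
    (h3 : ∀ i j l : Fin 5, i ≠ j → j ≠ l → i ≠ l → LinearIndependent K ![b i, b j, b l]) :
    ∃ t : Fin 5 → K, ∀ j : Fin 5, (A b t j).det ≠ 0 := by
  classical
  let s : Finset (Subspace K (Fin 5 → K)) := Finset.univ.image (fun j => LinearMap.ker (Lf b j))
  have hs : (⊤ : Subspace K (Fin 5 → K)) ∉ s := by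
    intro h
    obtain ⟨j, -, hj⟩ := Finset.mem_image.1 h
    have h1 : Pi.single (j.succAbove 0) (1 : K) ∈ LinearMap.ker (Lf b j) := by rw [hj]; trivial
    rw [LinearMap.mem_ker, Lf_apply, det_A, Finset.sum_eq_single (0 : Fin 4)] at h1
    · simp only [Fin.val_zero, pow_zero, one_mul, Pi.single_eq_same] at h1
      exact D_ne_zero b h3 j 0 h1
    · intro i _ hi
      have : j.succAbove i ≠ j.succAbove 0 := fun h => hi (Fin.succAbove_right_injective h)
      rw [Pi.single_eq_of_ne this]
      ring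
    · intro h; exact absurd (Finset.mem_univ _) h
  have := Subspace.biUnion_ne_univ_of_top_notMem hs
  obtain ⟨t, ht⟩ := (Set.ne_univ_iff_exists_notMem _).1 this
  refine ⟨t, fun j hj => ht ?_⟩
  simp only [Set.mem_iUnion]
  refine ⟨LinearMap.ker (Lf b j), Finset.mem_image.2 ⟨j, Finset.mem_univ _, rfl⟩, ?_⟩
  rw [SetLike.mem_coe, LinearMap.mem_ker, Lf_apply]
  exact hj

theorem main (G : MvPolynomial (Fin 3) K) (F : MvPolynomial (Fin 4) K)
    (hF : F = MvPolynomial.rename Fin.succ G)
    (b : Fin 5 → (Fin 3 → K)) (hb : ∀ j : Fin 5, MvPolynomial.eval (b j) G = 0)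
    (h3 : ∀ i j l : Fin 5, i ≠ j → j ≠ l → i ≠ l → LinearIndependent K ![b i, b j, b l]) :
    ∃ p : Fin 5 → (Fin 4 → K), (∀ j : Fin 5, MvPolynomial.eval (p j) F = 0) ∧
      ∀ j : Fin 5, LinearIndependent K (fun i : Fin 4 => p (j.succAbove i)) := by
  obtain ⟨t, ht⟩ := exists_t b h3
  refine ⟨fun j => Fin.cons (t j) (b j), fun j => ?_, fun j => ?_⟩
  · rw [hF, MvPolynomial.eval_rename]
    have : (Fin.cons (t j) (b j) : Fin 4 → K) ∘ Fin.succ = b j := by
      funext k; simp
    rw [this]
    exact hb j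
  · have h := ht j
    rw [← isUnit_iff_ne_zero, ← Matrix.isUnit_iff_isUnit_det,
      ← Matrix.linearIndependent_rows_iff_isUnit] at h
    exact h

end Groth.Agent.Helper8.Cone5
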