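import Mathlib
import Groth.Prelude.Def_Conn

set_option autoImplicit false
universe v u

namespace Groth.Agent.Helper8.ConnAnti

open TensorProduct

section
variable {A : Type v} {B Ω M : Type u}
    [CommRing A] [CommRing B] [Algebra A B]
    [AddCommGroup Ω] [Module B Ω] [Module A Ω] [IsScalarTower A B Ω]
    [AddCommGroup M] [Module B M] [Module A M] [IsScalarTower A B M]

/-- the induced covariant derivative on endomorphisms is the commutator -/
theorem along_hom (nabla : M →ₗ[A] M ⊗[B] Ω)
    (nablaE : (M →ₗ[B] M) →ₗ[A] (M →ₗ[B] M) ⊗[B] Ω) (hE : Conn.IsHomConn nabla nabla nablaE)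
    (θ : Ω →ₗ[B] B) (φ : M →ₗ[B] M) (m : M) :
    (Conn.along nablaE θ φ) m = Conn.along nabla θ (φ m) - φ (Conn.along nabla θ m) := by
  have h1 : ∀ X : (M →ₗ[B] M) ⊗[B] Ω,
      (TensorProduct.rid B (M →ₗ[B] M) (TensorProduct.map LinearMap.id θ X)) m =
        TensorProduct.rid B M (TensorProduct.map LinearMap.id θ
          (TensorProduct.map (LinearMap.applyₗ (R := B) (M₂ := M) m) (LinearMap.id : Ω →ₗ[B] Ω) X)) := by
    intro X
    induction X using TensorProduct.induction_on with
    | zero => simp
    | tmul ψ ω => simp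
    | add a c ha hc => simp only [map_add, LinearMap.add_apply, ha, hc]
  have h2 : ∀ Y : M ⊗[B] Ω,
      TensorProduct.rid B M (TensorProduct.map LinearMap.id θ
        (TensorProduct.map φ (LinearMap.id : Ω →ₗ[B] Ω) Y)) =
      φ (TensorProduct.rid B M (TensorProduct.map LinearMap.id θ Y)) := by
    intro Y
    induction Y using TensorProduct.induction_on with
    | zero => simp
    | tmul m' ω => simp
    | add a c ha hc => simp only [map_add, ha, hc]
  rw [Conn.along_apply, h1, hE φ m, map_sub, map_sub, h2, Conn.along_apply, Conn.along_apply]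

end

theorem main {A : Type v} {B Ω M : Type u}
    [CommRing A] [CommRing B] [Algebra A B]
    [AddCommGroup Ω] [Module B Ω] [Module A Ω] [IsScalarTower A B Ω] {n : ℕ} (bΩ : Module.Basis (Fin n) B Ω)
    [AddCommGroup M] [Module B M] [Module A M] [IsScalarTower A B M] [Module.FinitePresentation B M]
    (δ : Derivation A B Ω) (nabla : M →ₗ[A] M ⊗[B] Ω) (hc : Conn.IsConn δ nabla)
    (nablaE : (M →ₗ[B] M) →ₗ[A] (M →ₗ[B] M) ⊗[B] Ω) (hE : Conn.IsHomConn nabla nabla nablaE)
    (φ : M →ₗ[B] M)
    (hφ : ∀ q : Fin n, φ ∘ₗ Conn.along nablaE (bΩ.coord q) φ + Conn.along nablaE (bΩ.coord q) φ ∘ₗ φ = 0)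
    (q r : Fin n) :
    φ ∘ₗ Conn.along nablaE (bΩ.coord q) (Conn.along nablaE (bΩ.coord r) φ)
      + Conn.along nablaE (bΩ.coord q) (Conn.along nablaE (bΩ.coord r) φ) ∘ₗ φ
      + Conn.along nablaE (bΩ.coord q) φ ∘ₗ Conn.along nablaE (bΩ.coord r) φ
      + Conn.along nablaE (bΩ.coord r) φ ∘ₗ Conn.along nablaE (bΩ.coord q) φ = 0 := by
  set D : Module.End A M := Conn.along nabla (bΩ.coord q) with hD
  set f : Module.End A M := φ.restrictScalars A with hf
  set ar : M →ₗ[B] M := Conn.along nablaE (bΩ.coord r) φ with har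
  have key : ∀ ψ : M →ₗ[B] M,
      (Conn.along nablaE (bΩ.coord q) ψ).restrictScalars A =
        D * ψ.restrictScalars A - ψ.restrictScalars A * D := by
    intro ψ
    apply LinearMap.ext
    intro m
    exact along_hom nabla nablaE hE (bΩ.coord q) ψ m
  have h0 : f * ar.restrictScalars A + ar.restrictScalars A * f = 0 := by
    have := congrArg (fun g : M →ₗ[B] M => g.restrictScalars A) (hφ r)
    exact this
  apply LinearMap.restrictScalars_injective A
  show f * (Conn.along nablaE (bΩ.coord q) ar).restrictScalars A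
      + (Conn.along nablaE (bΩ.coord q) ar).restrictScalars A * f
      + (Conn.along nablaE (bΩ.coord q) φ).restrictScalars A * ar.restrictScalars A
      + ar.restrictScalars A * (Conn.along nablaE (bΩ.coord q) φ).restrictScalars A = 0
  rw [key ar, key φ]
  have h1 : f * (D * ar.restrictScalars A - ar.restrictScalars A * D)
      + (D * ar.restrictScalars A - ar.restrictScalars A * D) * f
      + (D * f - f * D) * ar.restrictScalars A
      + ar.restrictScalars A * (D * f - f * D) =
      D * (f * ar.restrictScalars A + ar.restrictScalars A * f)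
        - (f * ar.restrictScalars A + ar.restrictScalars A * f) * D := by
    noncomm_ring
  rw [h1, h0, mul_zero, zero_mul, sub_zero]

end Groth.Agent.Helper8.ConnAnti
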