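import Mathlib
import Groth.Prelude.Def_Conn

set_option autoImplicit false
universe v u

namespace Groth.Agent.Helper8.ConnLib

open TensorProduct

section inj
variable {B Ω X Y : Type u} [CommRing B] [AddCommGroup Ω] [Module B Ω] [Module.Free B Ω]
  [AddCommGroup X] [Module B X] [AddCommGroup Y] [Module B Y]

/-- elements of `Hom(X,Y) ⊗ Ω` are detected by evaluation (Ω free) -/
theorem ev_inj (t : (X →ₗ[B] Y) ⊗[B] Ω)
    (h : ∀ x : X, TensorProduct.map (LinearMap.applyₗ (R := B) (M₂ := Y) x) (LinearMap.id : Ω →ₗ[B] Ω) t = 0) : t = 0 := by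
  classical
  let b := Module.Free.chooseBasis B Ω
  apply (TensorProduct.equivFinsuppOfBasisRight b).injective
  rw [map_zero]
  ext i x
  rw [TensorProduct.equivFinsuppOfBasisRight_apply, Finsupp.zero_apply, LinearMap.zero_apply]
  have key : ∀ t : (X →ₗ[B] Y) ⊗[B] Ω,
      (TensorProduct.rid B (X →ₗ[B] Y) ((b.coord i).lTensor _ t)) x =
      TensorProduct.rid B Y ((b.coord i).lTensor _
        (TensorProduct.map (LinearMap.applyₗ (R := B) (M₂ := Y) x) (LinearMap.id : Ω →ₗ[B] Ω) t)) := by
    intro t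
    induction t using TensorProduct.induction_on with
    | zero => simp
    | tmul ψ ω => simp
    | add a c ha hc => simp only [map_add, LinearMap.add_apply, ha, hc]
  rw [key, h x, map_zero, map_zero]

theorem ev_ext (s t : (X →ₗ[B] Y) ⊗[B] Ω)
    (h : ∀ x : X, TensorProduct.map (LinearMap.applyₗ (R := B) (M₂ := Y) x) (LinearMap.id : Ω →ₗ[B] Ω) s =
      TensorProduct.map (LinearMap.applyₗ (R := B) (M₂ := Y) x) (LinearMap.id : Ω →ₗ[B] Ω) t) : s = t := by
  rw [← sub_eq_zero]
  apply ev_inj
  intro x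
  rw [map_sub, h x, sub_self]

end inj

end Groth.Agent.Helper8.ConnLib
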