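import Mathlib
import Groth.Prelude.Def_Conn
import Groth.Agent.Helper8.ConnLib

set_option autoImplicit false
universe v u

namespace Groth.Agent.Helper8.ConnComp

open TensorProduct Groth.Agent.Helper8.ConnLib

theorem main {A : Type v} {B Ω E F G : Type u}
    [CommRing A] [CommRing B] [Algebra A B]
    [AddCommGroup Ω] [Module B Ω] [Module A Ω] [IsScalarTower A B Ω] [Module.Finite B Ω] [Module.Free B Ω]
    [AddCommGroup E] [Module B E] [Module A E] [IsScalarTower A B E] [Module.FinitePresentation B E]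
    [AddCommGroup F] [Module B F] [Module A F] [IsScalarTower A B F] [Module.FinitePresentation B F]
    [AddCommGroup G] [Module B G] [Module A G] [IsScalarTower A B G]
    (δ : Derivation A B Ω)
    (nE : E →ₗ[A] E ⊗[B] Ω) (hcE : Conn.IsConn δ nE)
    (nF : F →ₗ[A] F ⊗[B] Ω) (hcF : Conn.IsConn δ nF)
    (nG : G →ₗ[A] G ⊗[B] Ω) (hcG : Conn.IsConn δ nG)
    (nEF : (E →ₗ[B] F) →ₗ[A] (E →ₗ[B] F) ⊗[B] Ω) (hEF : Conn.IsHomConn nE nF nEF)
    (nFG : (F →ₗ[B] G) →ₗ[A] (F →ₗ[B] G) ⊗[B] Ω) (hFG : Conn.IsHomConn nF nG nFG)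
    (nEG : (E →ₗ[B] G) →ₗ[A] (E →ₗ[B] G) ⊗[B] Ω) (hEG : Conn.IsHomConn nE nG nEG)
    (nT : (F →ₗ[B] G) ⊗[B] (E →ₗ[B] F) →ₗ[A] ((F →ₗ[B] G) ⊗[B] (E →ₗ[B] F)) ⊗[B] Ω)
    (hT : Conn.IsTensorConn nFG nEF nT) :
    Conn.IsHorizontal nT nEG (TensorProduct.lift (LinearMap.llcomp B E F G)) := by
  set cmp : (F →ₗ[B] G) ⊗[B] (E →ₗ[B] F) →ₗ[B] (E →ₗ[B] G) :=
    TensorProduct.lift (LinearMap.llcomp B E F G) with hcmp
  have hA : ∀ (e : E) (φ : E →ₗ[B] F) (X : (F →ₗ[B] G) ⊗[B] Ω),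
      TensorProduct.map (LinearMap.applyₗ (R := B) (M₂ := G) e) (LinearMap.id : Ω →ₗ[B] Ω)
        (TensorProduct.map cmp (LinearMap.id : Ω →ₗ[B] Ω) (Conn.swapR (X ⊗ₜ[B] φ))) =
        TensorProduct.map (LinearMap.applyₗ (R := B) (M₂ := G) (φ e)) (LinearMap.id : Ω →ₗ[B] Ω) X := by
    intro e φ X
    induction X using TensorProduct.induction_on with
    | zero => simp
    | tmul ψ ω => simp [Conn.swapR_tmul, hcmp]
    | add a c ha hc => rw [add_tmul, map_add, map_add, map_add, ha, hc, map_add]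
  have hB : ∀ (e : E) (ψ : F →ₗ[B] G) (Y : (E →ₗ[B] F) ⊗[B] Ω),
      TensorProduct.map (LinearMap.applyₗ (R := B) (M₂ := G) e) (LinearMap.id : Ω →ₗ[B] Ω)
        (TensorProduct.map cmp (LinearMap.id : Ω →ₗ[B] Ω)
          ((TensorProduct.assoc B (F →ₗ[B] G) (E →ₗ[B] F) Ω).symm (ψ ⊗ₜ[B] Y))) =
        TensorProduct.map ψ (LinearMap.id : Ω →ₗ[B] Ω)
          (TensorProduct.map (LinearMap.applyₗ (R := B) (M₂ := F) e) (LinearMap.id : Ω →ₗ[B] Ω) Y) := by
    intro e ψ Y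
    induction Y using TensorProduct.induction_on with
    | zero => simp
    | tmul φ ω => simp [hcmp]
    | add a c ha hc => rw [tmul_add, map_add, map_add, map_add, ha, hc, map_add, map_add]
  have hC : ∀ (ψ : F →ₗ[B] G) (φ : E →ₗ[B] F) (Z : E ⊗[B] Ω),
      TensorProduct.map ψ (LinearMap.id : Ω →ₗ[B] Ω) (TensorProduct.map φ (LinearMap.id : Ω →ₗ[B] Ω) Z) =
        TensorProduct.map (ψ ∘ₗ φ) (LinearMap.id : Ω →ₗ[B] Ω) Z := by
    intro ψ φ Z
    induction Z using TensorProduct.induction_on with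
    | zero => simp
    | tmul e ω => simp
    | add a c ha hc => rw [map_add, map_add, ha, hc, map_add]
  intro t
  induction t using TensorProduct.induction_on with
  | zero => simp
  | tmul ψ φ =>
    apply ev_ext
    intro e
    rw [hT ψ φ, map_add, map_add, hA, hB, hFG ψ (φ e), hEF φ e, map_sub, hC]
    have h1 : cmp (ψ ⊗ₜ[B] φ) = ψ ∘ₗ φ := by
      rw [hcmp, TensorProduct.lift.tmul]
      rfl
    rw [h1, hEG (ψ ∘ₗ φ) e]
    simp only [LinearMap.comp_apply]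
    abel
  | add a c ha hc => rw [map_add, map_add, ha, hc, map_add, map_add]

end Groth.Agent.Helper8.ConnComp
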