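import Mathlib
import Groth.Prelude.Def_Conn
import Groth.Agent.Helper8.ConnLib

set_option autoImplicit false
universe v u

namespace Groth.Agent.Helper8.ConnEval

open TensorProduct

theorem main {A : Type v} {B Ω E F : Type u}
    [CommRing A] [CommRing B] [Algebra A B]
    [AddCommGroup Ω] [Module B Ω] [Module A Ω] [IsScalarTower A B Ω] [Module.Finite B Ω] [Module.Free B Ω]
    [AddCommGroup E] [Module B E] [Module A E] [IsScalarTower A B E] [Module.FinitePresentation B E]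
    [AddCommGroup F] [Module B F] [Module A F] [IsScalarTower A B F]
    (δ : Derivation A B Ω)
    (nE : E →ₗ[A] E ⊗[B] Ω) (hcE : Conn.IsConn δ nE)
    (nF : F →ₗ[A] F ⊗[B] Ω) (hcF : Conn.IsConn δ nF)
    (nEF : (E →ₗ[B] F) →ₗ[A] (E →ₗ[B] F) ⊗[B] Ω) (hEF : Conn.IsHomConn nE nF nEF)
    (nT : (E →ₗ[B] F) ⊗[B] E →ₗ[A] ((E →ₗ[B] F) ⊗[B] E) ⊗[B] Ω) (hT : Conn.IsTensorConn nEF nE nT) :
    Conn.IsHorizontal nT nF (TensorProduct.lift (LinearMap.id : (E →ₗ[B] F) →ₗ[B] (E →ₗ[B] F))) := by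
  set ev : (E →ₗ[B] F) ⊗[B] E →ₗ[B] F :=
    TensorProduct.lift (LinearMap.id : (E →ₗ[B] F) →ₗ[B] (E →ₗ[B] F)) with hev
  have hA : ∀ (e : E) (X : (E →ₗ[B] F) ⊗[B] Ω),
      TensorProduct.map ev (LinearMap.id : Ω →ₗ[B] Ω) (Conn.swapR (X ⊗ₜ[B] e)) =
        TensorProduct.map (LinearMap.applyₗ (R := B) (M₂ := F) e) (LinearMap.id : Ω →ₗ[B] Ω) X := by
    intro e X
    induction X using TensorProduct.induction_on with
    | zero => simp
    | tmul ψ ω => simp [Conn.swapR_tmul, hev]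
    | add a c ha hc => rw [add_tmul, map_add, map_add, ha, hc, map_add]
  have hB : ∀ (φ : E →ₗ[B] F) (Y : E ⊗[B] Ω),
      TensorProduct.map ev (LinearMap.id : Ω →ₗ[B] Ω)
        ((TensorProduct.assoc B (E →ₗ[B] F) E Ω).symm (φ ⊗ₜ[B] Y)) =
        TensorProduct.map φ (LinearMap.id : Ω →ₗ[B] Ω) Y := by
    intro φ Y
    induction Y using TensorProduct.induction_on with
    | zero => simp
    | tmul e ω => simp [hev]
    | add a c ha hc => rw [tmul_add, map_add, map_add, ha, hc, map_add]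
  intro t
  induction t using TensorProduct.induction_on with
  | zero => simp
  | tmul φ e =>
    rw [hT φ e, map_add, hA, hB, hEF φ e]
    simp [hev]
  | add a c ha hc => rw [map_add, map_add, ha, hc, map_add, map_add]

end Groth.Agent.Helper8.ConnEval
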