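import Mathlib
import Groth.Agent.Helper9.LocFin
import Groth.Prelude.Def_HopfRep

set_option autoImplicit false
universe u

namespace Groth.Agent.Helper8.ConnKrull

open TensorProduct

section Transl
variable {k : Type u} [Field k] {A : Type u} [CommRing A] [HopfAlgebra k A]

/-- right translation by a point -/
noncomputable def transl (g : A →ₐ[k] k) : A →ₐ[k] A :=
  (Algebra.TensorProduct.rid k k A).toAlgHom.comp
    ((Algebra.TensorProduct.map (AlgHom.id k A) g).comp (Bialgebra.comulAlgHom k A))

lemma transl_apply (g : A →ₐ[k] k) (a : A) :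
    transl g a = Groth.Agent.Helper9.act k A A g.toLinearMap a := by
  rw [Groth.Agent.Helper9.act_apply]
  rfl

lemma counit_transl (g : A →ₐ[k] k) (a : A) :
    Coalgebra.counit (R := k) (transl g a) = g a := by
  have key : ∀ z : A ⊗[k] A, Coalgebra.counit (R := k)
      ((Algebra.TensorProduct.rid k k A) ((Algebra.TensorProduct.map (AlgHom.id k A) g) z)) =
      g (TensorProduct.lid k A (LinearMap.rTensor A (Coalgebra.counit (R := k) (A := A)) z)) := by
    intro z
    induction z using TensorProduct.induction_on with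
    | zero => simp
    | tmul u v => simp [mul_comm]
    | add x y hx hy => simp only [map_add, hx, hy]
  show Coalgebra.counit (R := k) ((Algebra.TensorProduct.rid k k A)
    ((Algebra.TensorProduct.map (AlgHom.id k A) g) (Coalgebra.comul (R := k) a))) = g a
  rw [key, Coalgebra.rTensor_counit_comul]
  simp

lemma conv_antipode_left (g : A →ₐ[k] k) :
    Groth.Agent.Helper9.conv (g.toLinearMap ∘ₗ HopfAlgebra.antipode k) g.toLinearMap =
      Coalgebra.counit (R := k) (A := A) := by
  apply LinearMap.ext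
  intro a
  have key : ∀ z : A ⊗[k] A, TensorProduct.lid k k
      (TensorProduct.map (g.toLinearMap ∘ₗ HopfAlgebra.antipode k) g.toLinearMap z) =
      g (LinearMap.mul' k A (LinearMap.rTensor A (HopfAlgebra.antipode k) z)) := by
    intro z
    induction z using TensorProduct.induction_on with
    | zero => simp
    | tmul u v => simp
    | add x y hx hy => simp only [map_add, hx, hy]
  simp only [Groth.Agent.Helper9.conv, LinearMap.comp_apply, LinearEquiv.coe_coe]
  rw [key, HopfAlgebra.mul_antipode_rTensor_comul_apply]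
  simp

lemma conv_antipode_right (g : A →ₐ[k] k) :
    Groth.Agent.Helper9.conv g.toLinearMap (g.toLinearMap ∘ₗ HopfAlgebra.antipode k) =
      Coalgebra.counit (R := k) (A := A) := by
  apply LinearMap.ext
  intro a
  have key : ∀ z : A ⊗[k] A, TensorProduct.lid k k
      (TensorProduct.map g.toLinearMap (g.toLinearMap ∘ₗ HopfAlgebra.antipode k) z) =
      g (LinearMap.mul' k A (LinearMap.lTensor A (HopfAlgebra.antipode k) z)) := by
    intro z
    induction z using TensorProduct.induction_on with
    | zero => simp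
    | tmul u v => simp
    | add x y hx hy => simp only [map_add, hx, hy]
  simp only [Groth.Agent.Helper9.conv, LinearMap.comp_apply, LinearEquiv.coe_coe]
  rw [key, HopfAlgebra.mul_antipode_lTensor_comul_apply]
  simp

/-- the inverse point -/
noncomputable def invPt (g : A →ₐ[k] k) : A →ₐ[k] k := g.comp (HopfAlgebra.antipodeAlgHom k A)

lemma invPt_toLinearMap (g : A →ₐ[k] k) :
    (invPt g).toLinearMap = g.toLinearMap ∘ₗ HopfAlgebra.antipode k := rfl

lemma transl_inv_left (g : A →ₐ[k] k) (a : A) : transl (invPt g) (transl g a) = a := by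
  rw [transl_apply, transl_apply, Groth.Agent.Helper9.act_comp, invPt_toLinearMap,
    conv_antipode_left, Groth.Agent.Helper9.act_counit]

lemma transl_inv_right (g : A →ₐ[k] k) (a : A) : transl g (transl (invPt g) a) = a := by
  rw [transl_apply, transl_apply, Groth.Agent.Helper9.act_comp, invPt_toLinearMap,
    conv_antipode_right, Groth.Agent.Helper9.act_counit]

/-- translation as a ring automorphism -/
noncomputable def translEquiv (g : A →ₐ[k] k) : A ≃+* A :=
  RingEquiv.ofRingHom (transl g).toRingHom (transl (invPt g)).toRingHom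
    (RingHom.ext fun a => transl_inv_right g a) (RingHom.ext fun a => transl_inv_left g a)

lemma translEquiv_apply (g : A →ₐ[k] k) (a : A) : translEquiv g a = transl g a := rfl

lemma comap_translEquiv (g : A →ₐ[k] k) :
    Ideal.comap (translEquiv g) (RingHom.ker (Bialgebra.counitAlgHom k A)) = RingHom.ker g := by
  ext a
  rw [Ideal.mem_comap, RingHom.mem_ker, RingHom.mem_ker, translEquiv_apply]
  exact (counit_transl g a) ▸ Iff.rfl

theorem exists_point [IsAlgClosed k] [Algebra.FiniteType k A] (m : Ideal A) [hm : m.IsMaximal] :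
    ∃ g : A →ₐ[k] k, RingHom.ker g = m := by
  let _ := Ideal.Quotient.field m
  have : Algebra.FiniteType k (A ⧸ m) :=
    Algebra.FiniteType.of_surjective (Ideal.Quotient.mkₐ k m) Ideal.Quotient.mk_surjective
  have : Module.Finite k (A ⧸ m) := finite_of_finite_type_of_isJacobsonRing k (A ⧸ m)
  have : Algebra.IsIntegral k (A ⧸ m) := Algebra.IsIntegral.of_finite k _
  have hbij := IsAlgClosed.algebraMap_bijective_of_isIntegral (k := k) (K := A ⧸ m)
  let e : k ≃ₐ[k] (A ⧸ m) := AlgEquiv.ofBijective (Algebra.ofId k (A ⧸ m)) hbij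
  refine ⟨(e.symm : (A ⧸ m) →ₐ[k] k).comp (Ideal.Quotient.mkₐ k m), ?_⟩
  ext a
  rw [RingHom.mem_ker]
  show e.symm (Ideal.Quotient.mk m a) = 0 ↔ a ∈ m
  rw [EmbeddingLike.map_eq_zero_iff, Ideal.Quotient.eq_zero_iff_mem]

end Transl


section Main
variable (k : Type u) [Field k] (A : Type u) [CommRing A]

theorem comap_mem_ass [IsNoetherianRing A] (σ : A ≃+* A) (p : Ideal A)
    (hp : p ∈ associatedPrimes A A) : Ideal.comap σ p ∈ associatedPrimes A A := by
  rw [AssociatedPrimes.mem_iff, isAssociatedPrime_iff] at hp ⊢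
  obtain ⟨hprime, x, hx⟩ := hp
  refine ⟨Ideal.comap_isPrime σ p, σ.symm x, ?_⟩
  ext a
  rw [Ideal.mem_comap, hx, Submodule.mem_colon_singleton, Submodule.mem_colon_singleton,
    Submodule.mem_bot, Submodule.mem_bot, smul_eq_mul, smul_eq_mul]
  constructor
  · intro h
    apply σ.injective
    rw [map_mul, σ.apply_symm_apply, h, map_zero]
  · intro h
    have := congrArg σ h
    rwa [map_mul, σ.apply_symm_apply, map_zero] at this

theorem minimalPrimes_subset_ass [IsNoetherianRing A] (q : Ideal A) (hq : q ∈ minimalPrimes A) :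
    q ∈ associatedPrimes A A := by
  apply Module.associatedPrimes.minimalPrimes_annihilator_subset_associatedPrimes A A
  have : Module.annihilator A A = ⊥ := by
    rw [eq_bot_iff]
    intro a ha
    have := Module.mem_annihilator.mp ha 1
    simpa using this
  rw [this]
  exact hq

variable [IsAlgClosed k] [HopfAlgebra k A] [Algebra.FiniteType k A]

theorem main (hconn : ∀ e : A, IsIdempotentElem e → e = 0 ∨ e = 1) :
    (⨅ n : ℕ, RingHom.ker (Bialgebra.counitAlgHom k A) ^ n) = ⊥ := by
  classical
  have hnoeth : IsNoetherianRing A := Algebra.FiniteType.isNoetherianRing k A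
  have hjacring : IsJacobsonRing A := isJacobsonRing_of_finiteType (A := k) (B := A)
  set I := RingHom.ker (Bialgebra.counitAlgHom k A) with hI
  have hImax : I.IsMaximal :=
    RingHom.ker_isMaximal_of_surjective _ (fun c => ⟨algebraMap k A c, by simp⟩)
  have hIprime : I.IsPrime := hImax.isPrime
  set Ass := associatedPrimes A A with hAss
  have hfin : Ass.Finite := associatedPrimes.finite A A
  have hhom : ∀ m : Ideal A, m.IsMaximal → ∃ σ : A ≃+* A, Ideal.comap σ I = m := by
    intro m hm
    obtain ⟨g, hg⟩ := exists_point (k := k) m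
    exact ⟨translEquiv g, by rw [hI, comap_translEquiv, hg]⟩
  obtain ⟨q, hqmin, -⟩ := Ideal.exists_minimalPrimes_le (bot_le : (⊥ : Ideal A) ≤ I)
  have hqAss : q ∈ Ass := minimalPrimes_subset_ass A q hqmin
  have hqprime : q.IsPrime := hqmin.1.1
  let others : Finset (Ideal A) := hfin.toFinset.erase q
  have hothers : ∀ p, p ∈ others ↔ p ∈ Ass ∧ p ≠ q := by
    intro p
    simp [others, and_comm]
  set 𝔞 : Ideal A := ∏ p ∈ others, p with h𝔞
  have h𝔞le : ∀ p ∈ others, 𝔞 ≤ p := fun p hp => Ideal.prod_le_inf.trans (Finset.inf_le hp)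
  have h𝔞q : ¬ 𝔞 ≤ q := by
    intro h
    obtain ⟨p, hp, hpq⟩ := (Ideal.IsPrime.prod_le hqprime).mp h
    have hp' := (hothers p).mp hp
    have hpprime : p.IsPrime := hp'.1.isPrime
    exact hp'.2 (le_antisymm hpq (hqmin.2 ⟨hpprime, bot_le⟩ hpq))
  obtain ⟨a, ha𝔞, haq⟩ := Set.not_subset.mp h𝔞q
  have hjac : q.jacobson = q := IsJacobsonRing.out hjacring hqprime.isRadical
  obtain ⟨m0, hm0, ham0⟩ : ∃ m0 : Ideal A, (q ≤ m0 ∧ m0.IsMaximal) ∧ a ∉ m0 := by
    by_contra hcon
    push Not at hcon
    apply haq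
    rw [← hjac, Ideal.jacobson]
    show a ∈ sInf {J : Ideal A | q ≤ J ∧ J.IsMaximal}
    rw [Ideal.mem_sInf]
    intro J hJ
    exact hcon J hJ
  have hsub0 : ∀ p ∈ Ass, p ≤ m0 → p = q := by
    intro p hp hpm
    by_contra hne
    exact ham0 (hpm (h𝔞le p ((hothers p).mpr ⟨hp, hne⟩) ha𝔞))
  have hsubI : ∀ p ∈ Ass, ∀ p' ∈ Ass, p ≤ I → p' ≤ I → p = p' := by
    obtain ⟨σ, hσ⟩ := hhom m0 hm0.2
    intro p hp p' hp' hpI hp'I
    have h1 := hsub0 _ (comap_mem_ass A σ p hp) (hσ ▸ Ideal.comap_mono hpI)
    have h2 := hsub0 _ (comap_mem_ass A σ p' hp') (hσ ▸ Ideal.comap_mono hp'I)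
    exact Ideal.comap_injective_of_surjective (σ : A →+* A) σ.surjective (h1.trans h2.symm)
  have hsub : ∀ m : Ideal A, m.IsMaximal → ∀ p ∈ Ass, ∀ p' ∈ Ass, p ≤ m → p' ≤ m → p = p' := by
    intro m hm p hp p' hp' hpm hp'm
    obtain ⟨σ, hσ⟩ := hhom m hm
    have hm' : Ideal.comap σ.symm m = I := by
      rw [← hσ]
      ext b
      constructor
      · intro hb
        have : σ (σ.symm b) ∈ I := hb
        rwa [σ.apply_symm_apply] at this
      · intro hb
        show σ (σ.symm b) ∈ I
        rwa [σ.apply_symm_apply]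
    have h1 := hsubI _ (comap_mem_ass A σ.symm p hp) _ (comap_mem_ass A σ.symm p' hp')
      (hm' ▸ Ideal.comap_mono hpm) (hm' ▸ Ideal.comap_mono hp'm)
    exact Ideal.comap_injective_of_surjective (σ.symm : A →+* A) σ.symm.surjective h1
  have hall : ∀ p ∈ Ass, p = q := by
    intro p hp
    by_contra hne
    have hpo : p ∈ others := (hothers p).mpr ⟨hp, hne⟩
    have hpprime : p.IsPrime := hp.isPrime
    have hsup : q ⊔ 𝔞 = ⊤ := by
      by_contra hne'
      obtain ⟨m, hm, hle⟩ := Ideal.exists_le_maximal _ hne'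
      have hqm : q ≤ m := le_sup_left.trans hle
      have h𝔞m : 𝔞 ≤ m := le_sup_right.trans hle
      obtain ⟨p', hp'o, hp'm⟩ := (Ideal.IsPrime.prod_le hm.isPrime).mp h𝔞m
      have := hsub m hm q hqAss p' ((hothers p').mp hp'o).1 hqm hp'm
      exact ((hothers p').mp hp'o).2 this.symm
    have hnil : q * 𝔞 ≤ nilradical A := by
      rw [nilradical_eq_sInf]
      refine le_sInf fun J hJ => ?_
      have hJprime : J.IsPrime := hJ
      obtain ⟨q', hq'min, hq'J⟩ := Ideal.exists_minimalPrimes_le (bot_le : (⊥ : Ideal A) ≤ J)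
      have hq'Ass : q' ∈ Ass := minimalPrimes_subset_ass A q' hq'min
      by_cases h : q' = q
      · exact (Ideal.mul_le_left).trans (h ▸ hq'J)
      · exact (Ideal.mul_le_right).trans ((h𝔞le q' ((hothers q').mpr ⟨hq'Ass, h⟩)).trans hq'J)
    obtain ⟨u, hu, v, hv, huv⟩ := Submodule.mem_sup.mp ((Ideal.eq_top_iff_one _).mp hsup)
    have huvnil : u * v ∈ nilradical A := hnil (Ideal.mul_mem_mul hu hv)
    let f := Ideal.Quotient.mk (nilradical A)
    have hfuv : f (u * v) = 0 := Ideal.Quotient.eq_zero_iff_mem.mpr huvnil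
    have hidem : IsIdempotentElem (f u) := by
      show f u * f u = f u
      calc f u * f u = f u * f u + f (u * v) := by rw [hfuv, add_zero]
        _ = f (u * (u + v)) := by rw [mul_add, map_add, map_mul, map_mul]
        _ = f u := by rw [huv, mul_one]
    obtain ⟨e', he', he'u⟩ := exists_isIdempotentElem_eq_of_ker_isNilpotent f
      (fun x hx => by
        rw [Ideal.mk_ker] at hx
        exact mem_nilradical.mp hx) (f u) ⟨u, rfl⟩ hidem
    rcases hconn e' he' with h0 | h1
    · have hu0 : f u = 0 := by rw [← he'u, h0, map_zero]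
      have hunil : u ∈ nilradical A := Ideal.Quotient.eq_zero_iff_mem.mp hu0
      have : (1 : A) ∈ p := by
        rw [← huv]
        exact p.add_mem (nilradical_le_prime p hunil) (h𝔞le p hpo hv)
      exact hpprime.ne_top ((Ideal.eq_top_iff_one _).mpr this)
    · have hu1 : f u = 1 := by rw [← he'u, h1, map_one]
      have hvnil : v ∈ nilradical A := by
        apply Ideal.Quotient.eq_zero_iff_mem.mp
        have : (Ideal.Quotient.mk (nilradical A)) v = f 1 - f u := by
          rw [← huv, map_add]; ring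
        rw [this, hu1, map_one, sub_self]
      have : (1 : A) ∈ q := by
        rw [← huv]
        exact q.add_mem hu (nilradical_le_prime q hvnil)
      exact hqprime.ne_top ((Ideal.eq_top_iff_one _).mpr this)
  have hqI : q ≤ I := by
    obtain ⟨q', hq'min, hq'I⟩ := Ideal.exists_minimalPrimes_le (bot_le : (⊥ : Ideal A) ≤ I)
    rw [← hall q' (minimalPrimes_subset_ass A q' hq'min)]
    exact hq'I
  rw [eq_bot_iff]
  intro x hx
  rw [Ideal.mem_bot]
  have hx' : x ∈ (⨅ i : ℕ, I ^ i • ⊤ : Submodule A A) := by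
    simpa only [smul_eq_mul, Ideal.mul_top] using hx
  obtain ⟨r, hr⟩ := (Ideal.mem_iInf_smul_pow_eq_bot_iff I x).mp hx'
  by_contra hx0
  have hzd : (1 - (r : A)) ∈ {a : A | ∃ y : A, y ≠ 0 ∧ a • y = 0} :=
    ⟨x, hx0, by rw [smul_eq_mul, sub_mul, one_mul, ← smul_eq_mul, hr, sub_self]⟩
  rw [← biUnion_associatedPrimes_eq_zero_divisors A A] at hzd
  obtain ⟨p, hp, hmem⟩ := Set.mem_iUnion₂.mp hzd
  have hpq := hall p hp
  have : (1 : A) ∈ I := by
    have h1 : 1 - (r : A) ∈ I := hqI (hpq ▸ hmem)
    have := I.add_mem h1 r.2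
    simpa using this
  exact hImax.ne_top ((Ideal.eq_top_iff_one _).mpr this)

end Main

end Groth.Agent.Helper8.ConnKrull
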