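import Mathlib
import Groth.Prelude.Def_Conn
import Groth.Agent.Helper8.ConnAnti

set_option autoImplicit false
universe v u

namespace Groth.Agent.Helper8.ConnTrace

open TensorProduct

section general
variable {A : Type v} {B Ω M : Type u}
    [CommRing A] [CommRing B] [Algebra A B]
    [AddCommGroup Ω] [Module B Ω] [Module A Ω] [IsScalarTower A B Ω]
    [AddCommGroup M] [Module B M] [Module A M] [IsScalarTower A B M]

/-- Leibniz rule for the covariant derivative along `θ`. -/
theorem along_smul (δ : Derivation A B Ω) (nabla : M →ₗ[A] M ⊗[B] Ω) (hc : Conn.IsConn δ nabla)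
    (θ : Ω →ₗ[B] B) (b : B) (m : M) :
    Conn.along nabla θ (b • m) = b • Conn.along nabla θ m + θ (δ b) • m := by
  rw [Conn.along_apply, hc b m, map_add, map_add, Conn.along_apply]
  simp

/-- detection of elements of `N ⊗ Ω` by the coordinate functionals -/
theorem tens_ext {N : Type u} [AddCommGroup N] [Module B N] {κ : Type*} (b : Module.Basis κ B Ω)
    (y₁ y₂ : N ⊗[B] Ω)
    (h : ∀ k, TensorProduct.rid B N (TensorProduct.map LinearMap.id (b.coord k) y₁) =
      TensorProduct.rid B N (TensorProduct.map LinearMap.id (b.coord k) y₂)) : y₁ = y₂ := by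
  classical
  apply (TensorProduct.equivFinsuppOfBasisRight b).injective
  ext k
  rw [TensorProduct.equivFinsuppOfBasisRight_apply, TensorProduct.equivFinsuppOfBasisRight_apply]
  exact h k

omit [Module A Ω] [IsScalarTower A B Ω] in
theorem rid_map_nat {N N' : Type u} [AddCommGroup N] [Module B N] [AddCommGroup N'] [Module B N']
    (L : N →ₗ[B] N') (θ : Ω →ₗ[B] B) (X : N ⊗[B] Ω) :
    TensorProduct.rid B N' (TensorProduct.map LinearMap.id θ
      (TensorProduct.map L (LinearMap.id : Ω →ₗ[B] Ω) X)) =
    L (TensorProduct.rid B N (TensorProduct.map LinearMap.id θ X)) := by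
  induction X using TensorProduct.induction_on with
  | zero => simp
  | tmul x ω => simp
  | add a c ha hc => simp only [map_add, ha, hc]

end general

section trace
variable {A : Type v} {B M : Type u}
    [CommRing A] [CommRing B] [Algebra A B]
    [AddCommGroup M] [Module B M] [Module A M] [IsScalarTower A B M]

/-- trace of the commutator of a `d`-derivation-like operator with a linear endomorphism -/
theorem trace_comm {ι : Type*} [Fintype ι] [DecidableEq ι] (b : Module.Basis ι B M)
    (D : M →ₗ[A] M) (d : B → B) (hd : ∀ x y, d (x + y) = d x + d y) (hd0 : d 0 = 0)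
    (hD : ∀ (c : B) (m : M), D (c • m) = c • D m + d c • m)
    (φ ψ : M →ₗ[B] M) (hψ : ∀ m, ψ m = D (φ m) - φ (D m)) :
    LinearMap.trace B M ψ = d (LinearMap.trace B M φ) := by
  have hdsum : ∀ (s : Finset ι) (g : ι → B), d (∑ i ∈ s, g i) = ∑ i ∈ s, d (g i) := by
    intro s g
    induction s using Finset.induction_on with
    | empty => simpa using hd0
    | insert a s ha ih => rw [Finset.sum_insert ha, Finset.sum_insert ha, hd, ih]
  have hDsum : ∀ (g : ι → B), D (∑ j, g j • b j) = ∑ j, (g j • D (b j) + d (g j) • b j) := by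
    intro g
    rw [map_sum]
    apply Finset.sum_congr rfl
    intro j _
    rw [hD]
  rw [LinearMap.trace_eq_matrix_trace B b, LinearMap.trace_eq_matrix_trace B b, Matrix.trace,
    Matrix.trace, hdsum]
  simp only [Matrix.diag_apply, LinearMap.toMatrix_apply]
  have h1 : ∀ i, b.repr (ψ (b i)) i =
      (∑ j, b.repr (φ (b i)) j * b.repr (D (b j)) i) + d (b.repr (φ (b i)) i)
        - ∑ j, b.repr (D (b i)) j * b.repr (φ (b j)) i := by
    intro i
    rw [hψ, map_sub, Finsupp.sub_apply]
    congr 1
    · conv_lhs => rw [← b.sum_repr (φ (b i)), hDsum]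
      rw [map_sum, Finsupp.finset_sum_apply, Finset.sum_congr rfl (fun j _ => by
        rw [map_add, Finsupp.add_apply, map_smul, map_smul, Finsupp.smul_apply, Finsupp.smul_apply,
          b.repr_self, Finsupp.single_apply, smul_eq_mul, smul_eq_mul]), Finset.sum_add_distrib]
      congr 1
      simp
    · conv_lhs => rw [← b.sum_repr (D (b i)), map_sum, map_sum, Finsupp.finset_sum_apply]
      apply Finset.sum_congr rfl
      intro j _
      rw [map_smul, map_smul, Finsupp.smul_apply, smul_eq_mul]
  rw [Finset.sum_congr rfl (fun i _ => h1 i), Finset.sum_sub_distrib, Finset.sum_add_distrib]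
  have h2 : ∑ i, ∑ j, b.repr (φ (b i)) j * b.repr (D (b j)) i =
      ∑ i, ∑ j, b.repr (D (b i)) j * b.repr (φ (b j)) i := by
    rw [Finset.sum_comm]
    apply Finset.sum_congr rfl
    intro i _
    apply Finset.sum_congr rfl
    intro j _
    rw [mul_comm]
  rw [h2]
  abel

end trace

theorem main {A : Type v} {B Ω M : Type u}
    [CommRing A] [CommRing B] [Algebra A B]
    [AddCommGroup Ω] [Module B Ω] [Module A Ω] [IsScalarTower A B Ω] [Module.Finite B Ω] [Module.Free B Ω]
    [AddCommGroup M] [Module B M] [Module A M] [IsScalarTower A B M] [Module.Finite B M] [Module.Free B M]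
    (δ : Derivation A B Ω) (nabla : M →ₗ[A] M ⊗[B] Ω) (hc : Conn.IsConn δ nabla)
    (nablaE : (M →ₗ[B] M) →ₗ[A] (M →ₗ[B] M) ⊗[B] Ω) (hE : Conn.IsHomConn nabla nabla nablaE) :
    Conn.IsHorizontal nablaE (Conn.triv δ) (LinearMap.trace B M) := by
  classical
  intro φ
  let bΩ := Module.Free.chooseBasis B Ω
  let bM := Module.Free.chooseBasis B M
  apply tens_ext bΩ
  intro k
  rw [rid_map_nat, Conn.triv_apply]
  have h1 : TensorProduct.rid B (M →ₗ[B] M) (TensorProduct.map LinearMap.id (bΩ.coord k) (nablaE φ)) =
      Conn.along nablaE (bΩ.coord k) φ := rfl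
  rw [h1]
  have h2 := trace_comm bM (Conn.along nabla (bΩ.coord k)) (fun c => bΩ.coord k (δ c))
    (fun x y => by simp) (by simp)
    (fun c m => along_smul δ nabla hc (bΩ.coord k) c m) φ (Conn.along nablaE (bΩ.coord k) φ)
    (fun m => Groth.Agent.Helper8.ConnAnti.along_hom nabla nablaE hE (bΩ.coord k) φ m)
  rw [h2]
  simp

end Groth.Agent.Helper8.ConnTrace
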