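import Mathlib
import Groth.Prelude.Def_Conn
import Groth.Agent.Helper8.ConnTrace

set_option autoImplicit false
universe v u

namespace Groth.Agent.Helper8.ConnSTrace

open TensorProduct Groth.Agent.Helper8.ConnTrace

theorem main {A : Type v} {B Ω ι : Type u}
    [CommRing A] [CommRing B] [Algebra A B]
    [AddCommGroup Ω] [Module B Ω] [Module A Ω] [IsScalarTower A B Ω] [Module.Finite B Ω] [Module.Free B Ω]
    [Fintype ι] [DecidableEq ι] (deg : ι → ℤ) (M : ι → Type u)
    [∀ i, AddCommGroup (M i)] [∀ i, Module B (M i)] [∀ i, Module A (M i)] [∀ i, IsScalarTower A B (M i)]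
    [∀ i, Module.Free B (M i)] [∀ i, Module.Finite B (M i)]
    (δ : Derivation A B Ω) (nabla : (Π k, M k) →ₗ[A] (Π k, M k) ⊗[B] Ω) (hc : Conn.IsConn δ nabla)
    (hgr : ∀ i j : ι, deg i ≠ deg j → ∀ m : M i,
      TensorProduct.map (LinearMap.proj j : (Π k, M k) →ₗ[B] M j) LinearMap.id (nabla (LinearMap.single B M i m)) = 0)
    (nablaE : ((Π k, M k) →ₗ[B] (Π k, M k)) →ₗ[A] ((Π k, M k) →ₗ[B] (Π k, M k)) ⊗[B] Ω)
    (hE : Conn.IsHomConn nabla nabla nablaE) :
    Conn.IsHorizontal nablaE (Conn.triv δ)
      (LinearMap.trace B (Π k, M k) ∘ₗ LinearMap.llcomp B (Π k, M k) (Π k, M k) (Π k, M k)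
        (∑ i : ι, (LinearMap.single B M i) ∘ₗ (((-1 : B) ^ (deg i).natAbs) • (LinearMap.proj i : (Π k, M k) →ₗ[B] M i)))) := by
  classical
  set s : ι → B := fun i => (-1 : B) ^ (deg i).natAbs with hs
  set ε : (Π k, M k) →ₗ[B] (Π k, M k) :=
    ∑ i : ι, (LinearMap.single B M i) ∘ₗ (s i • (LinearMap.proj i : (Π k, M k) →ₗ[B] M i)) with hε
  have hεj : ∀ (x : Π k, M k) (j : ι), (ε x) j = s j • x j := by
    intro x j
    rw [hε, LinearMap.sum_apply, Finset.sum_apply, Finset.sum_eq_single j]
    · simp
    · intro i _ hij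
      simp [Pi.single_apply, hij.symm, Ne.symm hij]
    · intro h; exact absurd (Finset.mem_univ _) h
  intro φ
  let bΩ := Module.Free.chooseBasis B Ω
  let bM := Module.Free.chooseBasis B (Π k, M k)
  apply tens_ext bΩ
  intro k
  set θ := bΩ.coord k with hθ
  set D := Conn.along nabla θ with hD
  set d : B → B := fun c => θ (δ c) with hd
  have hDs : ∀ (c : B) (m : Π k, M k), D (c • m) = c • D m + d c • m :=
    fun c m => along_smul δ nabla hc θ c m
  have hds : ∀ i, d (s i) = 0 := by
    intro i
    have : s i = algebraMap A B ((-1) ^ (deg i).natAbs) := by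
      rw [hs, map_pow, map_neg, map_one]
    rw [hd]
    simp only
    rw [this, Derivation.map_algebraMap, map_zero]
  have hDj : ∀ (i j : ι), deg i ≠ deg j → ∀ m : M i, (D (LinearMap.single B M i m)) j = 0 := by
    intro i j hij m
    have h1 := rid_map_nat (LinearMap.proj j : (Π k, M k) →ₗ[B] M j) θ
      (nabla (LinearMap.single B M i m))
    rw [hgr i j hij m, map_zero, map_zero] at h1
    exact h1.symm
  have hcomm1 : ∀ (i : ι) (m : M i), ε (D (LinearMap.single B M i m)) = D (ε (LinearMap.single B M i m)) := by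
    intro i m
    have h1 : ε (LinearMap.single B M i m) = s i • LinearMap.single B M i m := by
      funext j
      rw [hεj, Pi.smul_apply]
      by_cases hji : j = i
      · subst hji; rfl
      · simp [LinearMap.single_apply, Pi.single_apply, hji]
    rw [h1, hDs, hds, zero_smul, add_zero]
    funext j
    rw [hεj, Pi.smul_apply]
    by_cases hij : deg i = deg j
    · rw [hs]
      simp only
      rw [hij]
    · rw [hDj i j hij m, smul_zero, smul_zero]
  have hcomm : ∀ x : Π k, M k, ε (D x) = D (ε x) := by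
    intro x
    have hx : x = ∑ i, LinearMap.single B M i (x i) := by
      funext j
      rw [Finset.sum_apply, Finset.sum_eq_single j]
      · simp
      · intro i _ hij
        simp [LinearMap.single_apply, Pi.single_apply, Ne.symm hij]
      · intro h; exact absurd (Finset.mem_univ _) h
    rw [hx, map_sum, map_sum, map_sum, map_sum]
    apply Finset.sum_congr rfl
    intro i _
    exact hcomm1 i (x i)
  rw [rid_map_nat, Conn.triv_apply]
  have h1 : TensorProduct.rid B _ (TensorProduct.map LinearMap.id θ (nablaE φ)) =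
      Conn.along nablaE θ φ := rfl
  rw [h1]
  have h2 := trace_comm bM D d (fun x y => by simp [hd]) (by simp [hd]) hDs (ε ∘ₗ φ)
    (ε ∘ₗ Conn.along nablaE θ φ)
    (fun m => by
      rw [LinearMap.comp_apply, LinearMap.comp_apply, LinearMap.comp_apply,
        Groth.Agent.Helper8.ConnAnti.along_hom nabla nablaE hE θ φ m, map_sub, hcomm])
  show TensorProduct.rid B B (TensorProduct.map LinearMap.id θ ((1 : B) ⊗ₜ[B] δ (LinearMap.trace B _ (ε ∘ₗ φ)))) =
    LinearMap.trace B _ (ε ∘ₗ Conn.along nablaE θ φ)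
  rw [h2]
  simp [hd]

end Groth.Agent.Helper8.ConnSTrace
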