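import Mathlib
import Groth.Prelude.Def_Conn
import Groth.Agent.Helper8.ConnLib

set_option autoImplicit false
universe v u

namespace Groth.Agent.Helper8.ConnTH

open TensorProduct Groth.Agent.Helper8.ConnLib

theorem main {A : Type v} {B Ω E F G : Type u}
    [CommRing A] [CommRing B] [Algebra A B]
    [AddCommGroup Ω] [Module B Ω] [Module A Ω] [IsScalarTower A B Ω] [Module.Finite B Ω] [Module.Free B Ω]
    [AddCommGroup E] [Module B E] [Module A E] [IsScalarTower A B E] [Module.FinitePresentation B E]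
    [AddCommGroup F] [Module B F] [Module A F] [IsScalarTower A B F]
    [AddCommGroup G] [Module B G] [Module A G] [IsScalarTower A B G]
    (δ : Derivation A B Ω)
    (nE : E →ₗ[A] E ⊗[B] Ω) (hcE : Conn.IsConn δ nE)
    (nF : F →ₗ[A] F ⊗[B] Ω) (hcF : Conn.IsConn δ nF)
    (nG : G →ₗ[A] G ⊗[B] Ω) (hcG : Conn.IsConn δ nG)
    (nEF : (E →ₗ[B] F) →ₗ[A] (E →ₗ[B] F) ⊗[B] Ω) (hEF : Conn.IsHomConn nE nF nEF)
    (nFG : F ⊗[B] G →ₗ[A] (F ⊗[B] G) ⊗[B] Ω) (hFG : Conn.IsTensorConn nF nG nFG)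
    (nH : (E →ₗ[B] F ⊗[B] G) →ₗ[A] (E →ₗ[B] F ⊗[B] G) ⊗[B] Ω) (hH : Conn.IsHomConn nE nFG nH)
    (nS : (E →ₗ[B] F) ⊗[B] G →ₗ[A] ((E →ₗ[B] F) ⊗[B] G) ⊗[B] Ω) (hS : Conn.IsTensorConn nEF nG nS) :
    Conn.IsHorizontal nS nH (TensorProduct.rTensorHomToHomRTensor (RingHom.id B) E F G) := by
  set ρ := TensorProduct.rTensorHomToHomRTensor (RingHom.id B) E F G with hρ
  have hA : ∀ (e : E) (g : G) (X : (E →ₗ[B] F) ⊗[B] Ω),
      TensorProduct.map (LinearMap.applyₗ (R := B) (M₂ := F ⊗[B] G) e) (LinearMap.id : Ω →ₗ[B] Ω)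
        (TensorProduct.map ρ (LinearMap.id : Ω →ₗ[B] Ω) (Conn.swapR (X ⊗ₜ[B] g))) =
        Conn.swapR ((TensorProduct.map (LinearMap.applyₗ (R := B) (M₂ := F) e)
          (LinearMap.id : Ω →ₗ[B] Ω) X) ⊗ₜ[B] g) := by
    intro e g X
    induction X using TensorProduct.induction_on with
    | zero => simp
    | tmul ψ ω => simp [Conn.swapR_tmul, hρ]
    | add a c ha hc => rw [add_tmul, map_add, map_add, map_add, ha, hc, map_add, add_tmul, map_add]
  have hB : ∀ (e : E) (φ : E →ₗ[B] F) (Y : G ⊗[B] Ω),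
      TensorProduct.map (LinearMap.applyₗ (R := B) (M₂ := F ⊗[B] G) e) (LinearMap.id : Ω →ₗ[B] Ω)
        (TensorProduct.map ρ (LinearMap.id : Ω →ₗ[B] Ω)
          ((TensorProduct.assoc B (E →ₗ[B] F) G Ω).symm (φ ⊗ₜ[B] Y))) =
        (TensorProduct.assoc B F G Ω).symm ((φ e) ⊗ₜ[B] Y) := by
    intro e φ Y
    induction Y using TensorProduct.induction_on with
    | zero => simp
    | tmul g ω => simp [hρ]
    | add a c ha hc => rw [tmul_add, map_add, map_add, map_add, ha, hc, tmul_add, map_add]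
  have hC : ∀ (φ : E →ₗ[B] F) (g : G) (Z : E ⊗[B] Ω),
      TensorProduct.map (ρ (φ ⊗ₜ[B] g)) (LinearMap.id : Ω →ₗ[B] Ω) Z =
        Conn.swapR ((TensorProduct.map φ (LinearMap.id : Ω →ₗ[B] Ω) Z) ⊗ₜ[B] g) := by
    intro φ g Z
    induction Z using TensorProduct.induction_on with
    | zero => simp
    | tmul e ω => simp [Conn.swapR_tmul, hρ]
    | add a c ha hc => rw [map_add, ha, hc, map_add, add_tmul, map_add]
  intro t
  induction t using TensorProduct.induction_on with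
  | zero => simp
  | tmul φ g =>
    apply ev_ext
    intro e
    rw [hS φ g, map_add, map_add, hA, hB, hEF φ e, hH (ρ (φ ⊗ₜ[B] g)) e, hC]
    have h1 : (ρ (φ ⊗ₜ[B] g)) e = φ e ⊗ₜ[B] g := rfl
    rw [h1, hFG (φ e) g, sub_tmul, map_sub]
    abel
  | add a c ha hc => rw [map_add, map_add, ha, hc, map_add, map_add]

end Groth.Agent.Helper8.ConnTH
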