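import Mathlib
import Groth.Prelude.Def_HopfRep
import Groth.Prelude.Def_ConstGrp

/-!
Dictionary: comodules over the function Hopf algebra of a finite group = representations.
-/

set_option autoImplicit false
universe u w

namespace Groth.Agent.Helper8.ConstComod

open TensorProduct

variable (R : Type u) [CommRing R] (Γ : Type u)
variable (V : Type w) [AddCommGroup V] [Module R V]

/-- coefficient extraction -/
noncomputable def coefAt (g : Γ) : V ⊗[R] ConstGrp.F R Γ →ₗ[R] V :=
  (TensorProduct.rid R V).toLinearMap ∘ₗ (LinearMap.lTensor V (ConstGrp.ev R g).toLinearMap)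

theorem coefAt_tmul (g : Γ) (v : V) (f : ConstGrp.F R Γ) :
    coefAt R Γ V g (v ⊗ₜ[R] f) = f g • v := by
  simp [coefAt]

variable [Fintype Γ] [DecidableEq Γ]

theorem decomp (x : V ⊗[R] ConstGrp.F R Γ) :
    x = ∑ g : Γ, coefAt R Γ V g x ⊗ₜ[R] ConstGrp.e R g := by
  induction x using TensorProduct.induction_on with
  | zero => simp
  | tmul v f =>
    conv_lhs => rw [ConstGrp.eq_sum_smul_e f, tmul_sum]
    apply Finset.sum_congr rfl
    intro g _
    rw [coefAt_tmul, tmul_smul, smul_tmul']
  | add x y hx hy =>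
    conv_lhs => rw [hx, hy]
    rw [← Finset.sum_add_distrib]
    apply Finset.sum_congr rfl
    intro g _
    rw [map_add, add_tmul]

theorem ext_coef {x y : V ⊗[R] ConstGrp.F R Γ}
    (h : ∀ g, coefAt R Γ V g x = coefAt R Γ V g y) : x = y := by
  rw [decomp R Γ V x, decomp R Γ V y]
  simp_rw [h]

theorem coefAt_sum_tmul_e (g : Γ) (c : Γ → V) :
    coefAt R Γ V g (∑ a : Γ, c a ⊗ₜ[R] ConstGrp.e R a) = c g := by
  simp only [map_sum, coefAt_tmul, ConstGrp.e_apply]
  rw [Finset.sum_eq_single g]
  · simp
  · intro a _ ha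
    rw [if_neg (Ne.symm ha), zero_smul]
  · intro hh
    exact absurd (Finset.mem_univ _) hh

variable [Group Γ] [HopfRep.Comod R (ConstGrp.F R Γ) V]

/-- the representation attached to a comodule -/
noncomputable def rho (g : Γ) : V →ₗ[R] V :=
  coefAt R Γ V g ∘ₗ HopfRep.Comod.coact (k := R) (A := ConstGrp.F R Γ)

theorem coact_eq (v : V) :
    HopfRep.Comod.coact (k := R) (A := ConstGrp.F R Γ) v =
      ∑ g : Γ, rho R Γ V g v ⊗ₜ[R] ConstGrp.e R g :=
  decomp R Γ V _

theorem rho_one (v : V) : rho R Γ V 1 v = v := by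
  have h := congrArg (fun φ => TensorProduct.rid R V (φ v))
    (HopfRep.Comod.counit_comp (k := R) (A := ConstGrp.F R Γ) (V := V))
  simp only [LinearMap.comp_apply, LinearMap.flip_apply, TensorProduct.mk_apply,
    TensorProduct.rid_tmul, one_smul] at h
  have h2 : rho R Γ V 1 v = TensorProduct.rid R V
      ((LinearMap.lTensor V (CoalgebraStruct.counit (R := R) (A := ConstGrp.F R Γ)))
        (HopfRep.Comod.coact (k := R) (A := ConstGrp.F R Γ) v)) := by
    show coefAt R Γ V 1 (HopfRep.Comod.coact (k := R) (A := ConstGrp.F R Γ) v) = _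
    generalize HopfRep.Comod.coact (k := R) (A := ConstGrp.F R Γ) v = x
    induction x using TensorProduct.induction_on with
    | zero => simp
    | tmul v f =>
      rw [coefAt_tmul, LinearMap.lTensor_tmul, TensorProduct.rid_tmul, ConstGrp.counit_apply]
    | add x y hx hy => rw [map_add, hx, hy, map_add, map_add]
  rw [h2, h]

theorem rho_mul (g h : Γ) (v : V) : rho R Γ V (g * h) v = rho R Γ V g (rho R Γ V h v) := by
  have hc := congrArg (fun φ => coefAt R Γ V g (coefAt R Γ (V ⊗[R] ConstGrp.F R Γ) h
    ((TensorProduct.assoc R V (ConstGrp.F R Γ) (ConstGrp.F R Γ)).symm (φ v))))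
    (HopfRep.Comod.coassoc (k := R) (A := ConstGrp.F R Γ) (V := V))
  simp only [LinearMap.comp_apply, LinearEquiv.coe_coe, LinearEquiv.symm_apply_apply] at hc
  -- left side
  have hL : coefAt R Γ V g (coefAt R Γ (V ⊗[R] ConstGrp.F R Γ) h
      ((LinearMap.rTensor (ConstGrp.F R Γ) (HopfRep.Comod.coact (k := R) (A := ConstGrp.F R Γ)))
        (HopfRep.Comod.coact (k := R) (A := ConstGrp.F R Γ) v))) =
      rho R Γ V g (rho R Γ V h v) := by
    conv_lhs => rw [coact_eq R Γ V v]
    simp only [map_sum, LinearMap.rTensor_tmul, coefAt_tmul, ConstGrp.e_apply]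
    rw [Finset.sum_eq_single h]
    · rw [if_pos rfl, one_smul]
      rfl
    · intro a _ ha
      rw [if_neg (Ne.symm ha), zero_smul, map_zero]
    · intro hh
      exact absurd (Finset.mem_univ _) hh
  have hR : coefAt R Γ V g (coefAt R Γ (V ⊗[R] ConstGrp.F R Γ) h
      ((TensorProduct.assoc R V (ConstGrp.F R Γ) (ConstGrp.F R Γ)).symm
        ((LinearMap.lTensor V (CoalgebraStruct.comul (R := R) (A := ConstGrp.F R Γ)))
          (HopfRep.Comod.coact (k := R) (A := ConstGrp.F R Γ) v)))) =
      rho R Γ V (g * h) v := by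
    conv_lhs => rw [coact_eq R Γ V v]
    simp only [map_sum, LinearMap.lTensor_tmul, ConstGrp.comul_e, tmul_sum,
      TensorProduct.assoc_symm_tmul, coefAt_tmul, ConstGrp.e_apply]
    rw [Finset.sum_eq_single (g * h)]
    · rw [Finset.sum_eq_single g]
      · rw [if_pos (by group), one_smul, coefAt_tmul, ConstGrp.e_apply_self, one_smul]
      · intro a _ ha
        by_cases h1 : h = a⁻¹ * (g * h)
        · exfalso
          apply ha
          have : a * h = g * h := by
            calc a * h = a * (a⁻¹ * (g * h)) := by rw [← h1]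
              _ = g * h := by group
          exact mul_right_cancel this
        · rw [if_neg h1, zero_smul, map_zero]
      · intro hh
        exact absurd (Finset.mem_univ _) hh
    · intro k _ hk
      apply Finset.sum_eq_zero
      intro a _
      by_cases h1 : h = a⁻¹ * k
      · rw [if_pos h1, one_smul, coefAt_tmul, ConstGrp.e_apply]
        by_cases h2 : g = a
        · exfalso
          apply hk
          rw [h1, h2]; group
        · rw [if_neg h2, zero_smul]
      · rw [if_neg h1, zero_smul, map_zero]
    · intro hh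
      exact absurd (Finset.mem_univ _) hh
  rw [hL, hR] at hc
  exact hc.symm

end Groth.Agent.Helper8.ConstComod
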