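import Mathlib
import Groth.Prelude.Def_ConstAct2
import Groth.Agent.Helper8.ConstComod

set_option autoImplicit false
universe u w

namespace Groth.Agent.Helper8.ConstActDict

open TensorProduct Groth.Agent.Helper8.ConstComod

section
variable (R : Type u) [CommRing R] (Γ : Type u)
variable (B : Type u) [CommRing B] [Algebra R B]

theorem coefAt_one (g : Γ) : coefAt R Γ B g 1 = 1 := by
  rw [Algebra.TensorProduct.one_def, coefAt_tmul, ConstGrp.one_apply, one_smul]

theorem coefAt_mul (g : Γ) (x y : B ⊗[R] ConstGrp.F R Γ) :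
    coefAt R Γ B g (x * y) = coefAt R Γ B g x * coefAt R Γ B g y := by
  induction x using TensorProduct.induction_on with
  | zero => simp
  | tmul v a =>
    induction y using TensorProduct.induction_on with
    | zero => simp
    | tmul v' a' =>
      rw [Algebra.TensorProduct.tmul_mul_tmul, coefAt_tmul, coefAt_tmul, coefAt_tmul,
        ConstGrp.mul_apply, smul_mul_smul_comm]
    | add x y hx hy => rw [mul_add, map_add, hx, hy, map_add, mul_add]
  | add x x' hx hx' => rw [add_mul, map_add, hx, hx', map_add, add_mul]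

end

section
variable (R : Type u) [CommRing R]
variable (B : Type u) [CommRing B] [Algebra R B] (Γ : Type u) [Group Γ] [Fintype Γ] [DecidableEq Γ]
    [HopfRep.Comod R (ConstGrp.F R Γ) B] [GLin.IsCoactAlg R (ConstGrp.F R Γ) B]

noncomputable def act : MulSemiringAction Γ B where
  smul g b := rho R Γ B g b
  one_smul b := rho_one R Γ B b
  mul_smul g h b := rho_mul R Γ B g h b
  smul_zero g := map_zero _
  smul_add g a b := map_add _ a b
  smul_one g := by
    show coefAt R Γ B g (HopfRep.Comod.coact (k := R) (A := ConstGrp.F R Γ) (1 : B)) = 1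
    rw [GLin.IsCoactAlg.coact_one (k := R) (A := ConstGrp.F R Γ) (R := B), coefAt_one]
  smul_mul g a b := by
    show coefAt R Γ B g (HopfRep.Comod.coact (k := R) (A := ConstGrp.F R Γ) (a * b)) =
      coefAt R Γ B g (HopfRep.Comod.coact (k := R) (A := ConstGrp.F R Γ) a) *
      coefAt R Γ B g (HopfRep.Comod.coact (k := R) (A := ConstGrp.F R Γ) b)
    rw [GLin.IsCoactAlg.coact_mul (k := R) (A := ConstGrp.F R Γ) (R := B), coefAt_mul]

theorem act_smul (g : Γ) (b : B) : (act R B Γ).smul g b = rho R Γ B g b := rfl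

end

theorem main (R : Type u) [CommRing R]
    (B : Type u) [CommRing B] [Algebra R B] (Γ : Type u) [Group Γ] [Fintype Γ] [DecidableEq Γ]
    [HopfRep.Comod R (ConstGrp.F R Γ) B] [GLin.IsCoactAlg R (ConstGrp.F R Γ) B] :
    ∃! a : MulSemiringAction Γ B, ∃ _ : SMulCommClass Γ R B,
      ConstAct.coactLin R B Γ = HopfRep.Comod.coact (k := R) (A := ConstGrp.F R Γ) (V := B) ∧
        GLin.invariants R (ConstGrp.F R Γ) B = ConstAct.inv R B Γ := by
  refine ⟨act R B Γ, ?_, ?_⟩
  · letI := act R B Γ
    have hsm : ∀ (g : Γ) (b : B), g • b = rho R Γ B g b := fun g b => rfl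
    haveI : SMulCommClass Γ R B := ⟨fun g r b => by
      rw [hsm, hsm, map_smul]⟩
    refine ⟨this, ?_, ?_⟩
    · apply LinearMap.ext
      intro b
      rw [ConstAct.coactLin_apply, coact_eq R Γ B b]
      rfl
    · ext f
      rw [GLin.mem_invariants_iff, ConstAct.mem_inv]
      constructor
      · intro h g
        rw [hsm]
        show coefAt R Γ B g (HopfRep.Comod.coact (k := R) (A := ConstGrp.F R Γ) f) = f
        rw [h, coefAt_tmul, ConstGrp.one_apply, one_smul]
      · intro h
        rw [coact_eq R Γ B f]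
        have : ∀ g ∈ (Finset.univ : Finset Γ), rho R Γ B g f ⊗ₜ[R] ConstGrp.e R g =
            f ⊗ₜ[R] ConstGrp.e R g := by
          intro g _
          rw [← hsm, h g]
        rw [Finset.sum_congr rfl this, ← tmul_sum, ConstGrp.sum_e]
  · rintro a' ⟨hcomm, h1, -⟩
    have hsm : ∀ (g : Γ) (b : B), a'.smul g b = rho R Γ B g b := by
      intro g b
      show _ = coefAt R Γ B g (HopfRep.Comod.coact (k := R) (A := ConstGrp.F R Γ) b)
      rw [← h1, ConstAct.coactLin_apply, coefAt_sum_tmul_e]
      rfl
    have hsm' : a'.smul = (act R B Γ).smul := by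
      funext g b
      rw [hsm, act_smul]
    rcases a' with @⟨@⟨@⟨@⟨⟨s⟩, _⟩, _⟩, _, _⟩, _, _⟩
    change s = _ at hsm'
    subst hsm'
    rfl

end Groth.Agent.Helper8.ConstActDict
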