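import Mathlib
import Groth.Prelude.Def_Coh
import Groth.Agent.Lead.ProperFinA

/-!
# A morphism from a `k`-scheme with `H⁰(X, O_X) = k` with one-point image is constant
-/

set_option autoImplicit false
universe u

open AlgebraicGeometry CategoryTheory CategoryTheory.Limits Opposite TopologicalSpace

namespace Groth.Agent.Helper8.ConstMor

variable {k : Type u} [Field k] {X : Scheme.{u}}

/-- from `finrank H⁰ = 1` to surjectivity of `Γ(Spec k) → Γ(X)` -/
theorem appTop_surjective (p : X ⟶ Spec (CommRingCat.of k))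
    (h0 : letI : X.Over (Spec (CommRingCat.of k)) := ⟨p⟩
      Module.finrank k (Coh.HH X (Coh.structureModule X) 0) = 1) :
    Function.Surjective p.appTop.hom := by
  letI : X.Over (Spec (CommRingCat.of k)) := ⟨p⟩
  letI := (p.appTop.hom.comp (Scheme.ΓSpecIso (CommRingCat.of k)).inv.hom).toAlgebra
  let e : Coh.HH X (Coh.structureModule X) 0 ≃ₗ[k] Γ(X, ⊤) :=
    { (Groth.Agent.Lead.ProperFinA.h0Equiv (Coh.structureModule X)) with
      map_smul' := by
        intro a x
        change Groth.Agent.Lead.ProperFinA.h0Equiv (Coh.structureModule X)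
          (Coh.toGlobal p a • x) = _
        rw [Groth.Agent.Lead.ProperFinA.h0Equiv_smul]
        rfl }
  have h1 : Module.finrank k Γ(X, ⊤) = 1 := by rw [← e.finrank_eq]; exact h0
  obtain ⟨v, hv, hspan⟩ := finrank_eq_one_iff'.1 h1
  obtain ⟨c₀, hc₀⟩ := hspan 1
  intro t
  obtain ⟨c, hc⟩ := hspan t
  have hc₀ne : c₀ ≠ 0 := by
    rintro rfl
    rw [zero_smul] at hc₀
    have h10 : (1 : Γ(X, ⊤)) = 0 := hc₀.symm
    apply hv
    rw [← one_smul Γ(X, ⊤) v, h10, zero_smul]
  have hv' : v = c₀⁻¹ • (1 : Γ(X, ⊤)) := by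
    rw [← hc₀, smul_smul, inv_mul_cancel₀ hc₀ne, one_smul]
  refine ⟨(Scheme.ΓSpecIso (CommRingCat.of k)).inv.hom (c * c₀⁻¹), ?_⟩
  rw [← hc, hv', smul_smul, Algebra.smul_def, mul_one]
  rfl

/-- the constancy statement -/
theorem eq_const {Y : Scheme.{u}} (p : X ⟶ Spec (CommRingCat.of k))
    (h0 : letI : X.Over (Spec (CommRingCat.of k)) := ⟨p⟩
      Module.finrank k (Coh.HH X (Coh.structureModule X) 0) = 1)
    (s : Spec (CommRingCat.of k) ⟶ X) (hsp : s ≫ p = 𝟙 _) (f : X ⟶ Y)
    (hf : (Set.range f.base).Subsingleton) : f = p ≫ s ≫ f := by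
  have hsurj := appTop_surjective p h0
  -- `s.appTop ≫ p.appTop = 𝟙`
  have hid : s.appTop ≫ p.appTop = 𝟙 _ := by
    ext t
    obtain ⟨c, rfl⟩ := hsurj t
    have h2 : p.appTop ≫ s.appTop = 𝟙 _ := by
      rw [← Scheme.Hom.comp_appTop, hsp]; rfl
    have h3 : s.appTop.hom (p.appTop.hom c) = c := by
      have := congrArg (fun φ => φ.hom c) h2
      simpa using this
    show p.appTop.hom (s.appTop.hom (p.appTop.hom c)) = p.appTop.hom c
    rw [h3]
  -- pick a point
  obtain ⟨pt⟩ : Nonempty (Spec (CommRingCat.of k)) := (inferInstance : Nonempty (PrimeSpectrum k))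
  let y : Y := f.base (s.base pt)
  obtain ⟨_, ⟨U₀, hU, rfl⟩, hyU, -⟩ :=
    Y.isBasis_affineOpens.exists_subset_of_mem_open (Set.mem_univ y) isOpen_univ
  let U : Y.Opens := U₀
  have hrange : Set.range f.base ⊆ Set.range U.ι.base := by
    rintro _ ⟨x, rfl⟩
    have : f.base x = y := hf ⟨x, rfl⟩ ⟨s.base pt, rfl⟩
    rw [this]
    simpa using hyU
  have hrange' : Set.range (p ≫ s ≫ f).base ⊆ Set.range U.ι.base := by
    rintro _ ⟨x, rfl⟩
    apply hrange
    exact ⟨s.base (p.base x), by simp⟩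
  haveI : IsAffine U.toScheme := hU
  have e1 : f = IsOpenImmersion.lift U.ι f hrange ≫ U.ι := (IsOpenImmersion.lift_fac _ _ _).symm
  have e2 : IsOpenImmersion.lift U.ι (p ≫ s ≫ f) hrange' =
      p ≫ s ≫ IsOpenImmersion.lift U.ι f hrange := by
    rw [← cancel_mono U.ι, IsOpenImmersion.lift_fac, Category.assoc, Category.assoc,
      IsOpenImmersion.lift_fac]
  have e3 : IsOpenImmersion.lift U.ι f hrange = p ≫ s ≫ IsOpenImmersion.lift U.ι f hrange := by
    apply ext_of_isAffine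
    rw [Scheme.Hom.comp_appTop, Scheme.Hom.comp_appTop, Category.assoc, hid, Category.comp_id]
  calc f = IsOpenImmersion.lift U.ι f hrange ≫ U.ι := e1
    _ = (p ≫ s ≫ IsOpenImmersion.lift U.ι f hrange) ≫ U.ι := by rw [← e3]
    _ = p ≫ s ≫ f := by rw [Category.assoc, Category.assoc, ← e1]

end Groth.Agent.Helper8.ConstMor
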