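import Mathlib
import Groth.Prelude.Def_HopfRep
import Groth.Prelude.Def_ConstGrp
import Groth.Agent.Helper8.ConstComod

set_option autoImplicit false
universe u w

namespace Groth.Agent.Helper8.ConstRed

open TensorProduct Groth.Agent.Helper8.ConstComod

section
variable (R : Type u) [CommRing R] (Γ : Type u)
variable {V : Type w} [AddCommGroup V] [Module R V]
variable {W : Type w} [AddCommGroup W] [Module R W]

theorem coefAt_rTensor (g : Γ) (f : W →ₗ[R] V) (y : W ⊗[R] ConstGrp.F R Γ) :
    coefAt R Γ V g (LinearMap.rTensor (ConstGrp.F R Γ) f y) = f (coefAt R Γ W g y) := by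
  induction y using TensorProduct.induction_on with
  | zero => simp
  | tmul v a => rw [LinearMap.rTensor_tmul, coefAt_tmul, coefAt_tmul, map_smul]
  | add x y hx hy => rw [map_add, map_add, hx, hy, map_add, map_add]

end

section
variable (R : Type u) [CommRing R] (Γ : Type u) [Fintype Γ] [DecidableEq Γ] [Group Γ]
variable (V : Type w) [AddCommGroup V] [Module R V] [HopfRep.Comod R (ConstGrp.F R Γ) V]

theorem isSubcomod_iff (W : Submodule R V) :
    HopfRep.IsSubcomod (k := R) (A := ConstGrp.F R Γ) W ↔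
      ∀ g : Γ, ∀ w ∈ W, rho R Γ V g w ∈ W := by
  constructor
  · intro h g w hw
    obtain ⟨y, hy⟩ := h w hw
    show coefAt R Γ V g (HopfRep.Comod.coact (k := R) (A := ConstGrp.F R Γ) w) ∈ W
    rw [← hy, coefAt_rTensor]
    exact Submodule.coe_mem _
  · intro h w hw
    refine ⟨∑ g : Γ, (⟨rho R Γ V g w, h g w hw⟩ : W) ⊗ₜ[R] ConstGrp.e R g, ?_⟩
    rw [map_sum, coact_eq R Γ V w]
    apply Finset.sum_congr rfl
    intro g _
    rw [LinearMap.rTensor_tmul]
    rfl

end

theorem main (k : Type u) [Field k] (G : Type u) [Group G]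
    [Fintype G] [DecidableEq G] (hG : ((Fintype.card G : ℕ) : k) ≠ 0) :
    HopfRep.IsLinearlyReductive k (ConstGrp.F k G) := by
  intro V _ _ _ _ W hW
  rw [isSubcomod_iff] at hW
  obtain ⟨P0, hP0⟩ := LinearMap.exists_leftInverse_of_injective W.subtype (Submodule.ker_subtype W)
  have hP0' : ∀ w : W, P0 w = w := fun w => by
    have := LinearMap.congr_fun hP0 w
    simpa using this
  set Q : V →ₗ[k] V := W.subtype ∘ₗ P0 with hQ
  have hQW : ∀ v, Q v ∈ W := fun v => Submodule.coe_mem _
  have hQw : ∀ w ∈ W, Q w = w := fun w hw => by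
    have := hP0' ⟨w, hw⟩
    simp only [hQ, LinearMap.comp_apply, Submodule.subtype_apply]
    rw [this]
  set S : V →ₗ[k] V := ∑ g : G, rho k G V g ∘ₗ Q ∘ₗ rho k G V g⁻¹ with hS
  set c : k := ((Fintype.card G : ℕ) : k)⁻¹ with hc
  set P : V →ₗ[k] V := c • S with hP
  have hSW : ∀ v, S v ∈ W := fun v => by
    rw [hS, LinearMap.sum_apply]
    apply Submodule.sum_mem
    intro g _
    exact hW g _ (hQW _)
  have hPW : ∀ v, P v ∈ W := fun v => by
    rw [hP, LinearMap.smul_apply]
    exact Submodule.smul_mem _ _ (hSW v)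
  have hSw : ∀ w ∈ W, S w = ((Fintype.card G : ℕ) : k) • w := fun w hw => by
    rw [hS, LinearMap.sum_apply]
    have : ∀ g ∈ (Finset.univ : Finset G), (rho k G V g ∘ₗ Q ∘ₗ rho k G V g⁻¹) w = w := by
      intro g _
      simp only [LinearMap.comp_apply]
      rw [hQw _ (hW g⁻¹ w hw), ← rho_mul, mul_inv_cancel, rho_one]
    rw [Finset.sum_congr rfl this, Finset.sum_const, Finset.card_univ, Nat.cast_smul_eq_nsmul]
  have hPw : ∀ w ∈ W, P w = w := fun w hw => by
    rw [hP, LinearMap.smul_apply, hSw w hw, smul_smul, hc, inv_mul_cancel₀ hG, one_smul]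
  have hcomm : ∀ (h : G) (v : V), rho k G V h (S v) = S (rho k G V h v) := by
    intro h v
    rw [hS, LinearMap.sum_apply, LinearMap.sum_apply, map_sum]
    refine Fintype.sum_equiv (Equiv.mulLeft h) _ _ ?_
    intro g
    simp only [LinearMap.comp_apply, Equiv.coe_mulLeft]
    rw [← rho_mul, ← rho_mul]
    congr 3
    group
  have hcommP : ∀ (h : G) (v : V), rho k G V h (P v) = P (rho k G V h v) := by
    intro h v
    rw [hP, LinearMap.smul_apply, LinearMap.smul_apply, map_smul, hcomm]
  refine ⟨LinearMap.ker P, ?_, ?_⟩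
  · rw [isSubcomod_iff]
    intro g v hv
    rw [LinearMap.mem_ker] at hv ⊢
    rw [← hcommP, hv, map_zero]
  · constructor
    · rw [disjoint_iff, eq_bot_iff]
      intro v ⟨h1, h2⟩
      rw [SetLike.mem_coe, LinearMap.mem_ker] at h2
      rw [Submodule.mem_bot, ← hPw v h1, h2]
    · rw [codisjoint_iff, eq_top_iff]
      intro v _
      have : v = P v + (v - P v) := by abel
      rw [this]
      apply Submodule.add_mem_sup (hPW v)
      rw [LinearMap.mem_ker, map_sub, hPw _ (hPW v), sub_self]

end Groth.Agent.Helper8.ConstRed
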