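import Mathlib
import Groth.Prelude.Def_W4c3ghconstell
import Groth.Agent.Helper9.LocFin
set_option autoImplicit false
universe u v w x

namespace Groth.Agent.Helper8.Constel
open TensorProduct Groth.Agent.Helper9 W4c3ghconstell

section Coalg

variable {k : Type u} [Field k] {A : Type v} [AddCommGroup A] [Module k A] [Coalgebra k A]
variable {M : Type x} [AddCommGroup M] [Module k M] [HopfRep.Comod k A M]

theorem mem_isoComp_iff (D : Submodule k A) (m : M) :
    m ∈ isoComp M D ↔ ∀ φ : A →ₗ[k] k, φ ∘ₗ D.subtype = 0 → act k A M φ m = 0 := by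
  constructor
  · intro hm φ hφ
    obtain ⟨y, hy⟩ := hm
    rw [act_apply, ← hy, ← LinearMap.lTensor_comp_apply, hφ, LinearMap.lTensor_zero]
    simp
  · intro h
    exact mem_range_lTensor_of_forall_functional D.subtype _ (fun ψ hψ => h ψ hψ)

theorem conv_comp_subtype_left (D : Submodule k A) (hD : IsSubcoalg k A D) (φ ψ : A →ₗ[k] k)
    (hφ : φ ∘ₗ D.subtype = 0) : conv φ ψ ∘ₗ D.subtype = 0 := by
  apply LinearMap.ext
  intro d
  obtain ⟨z, hz⟩ := hD d d.2
  rw [LinearMap.comp_apply, Submodule.subtype_apply, conv, LinearMap.comp_apply,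
    LinearMap.comp_apply, ← hz, ← LinearMap.comp_apply (TensorProduct.map φ ψ),
    ← TensorProduct.map_comp, hφ, TensorProduct.map_zero_left]
  simp

theorem isSubcomod_isoComp (D : Submodule k A) (hD : IsSubcoalg k A D) :
    HopfRep.IsSubcomod (k := k) (A := A) (isoComp M D) := by
  rw [isSubcomod_iff_act]
  intro ψ m hm
  rw [mem_isoComp_iff] at hm ⊢
  intro φ hφ
  rw [act_comp]
  exact hm _ (conv_comp_subtype_left D hD φ ψ hφ)

theorem isSubcomod_inf {U₁ U₂ : Submodule k M} (h₁ : HopfRep.IsSubcomod (k := k) (A := A) U₁)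
    (h₂ : HopfRep.IsSubcomod (k := k) (A := A) U₂) :
    HopfRep.IsSubcomod (k := k) (A := A) (U₁ ⊓ U₂) := by
  rw [isSubcomod_iff_act] at h₁ h₂ ⊢
  intro φ w hw
  exact ⟨h₁ φ w hw.1, h₂ φ w hw.2⟩

/-- a nonzero vector of a subcomodule `N`, lying in a finite sum of isotypic components, forces
`N` to meet some isotypic component -/
theorem exists_inf_isoComp_ne_bot_aux (N : Submodule k M)
    (hN : HopfRep.IsSubcomod (k := k) (A := A) N) (F : Finset (SimpSub k A)) :
    ∀ n ∈ N, n ≠ 0 → n ∈ ⨆ D ∈ F, isoComp M D.1 → ∃ D : SimpSub k A, N ⊓ isoComp M D.1 ≠ ⊥ := by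
  classical
  induction F using Finset.induction_on with
  | empty =>
    intro n _ hn0 hn
    simp at hn
    exact absurd hn hn0
  | insert D₁ F' hD₁ ih =>
    intro n hnN hn0 hn
    rw [Finset.iSup_insert] at hn
    obtain ⟨m₁, hm₁, m', hm', rfl⟩ := Submodule.mem_sup.1 hn
    by_cases hall : ∀ φ : A →ₗ[k] k, φ ∘ₗ D₁.1.subtype = 0 → act k A M φ (m₁ + m') = 0
    · refine ⟨D₁, fun hbot => hn0 ?_⟩
      have : m₁ + m' ∈ N ⊓ isoComp M D₁.1 := ⟨hnN, (mem_isoComp_iff _ _).2 hall⟩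
      rw [hbot] at this
      exact (Submodule.mem_bot k).1 this
    · push_neg at hall
      obtain ⟨φ, hφ, hne⟩ := hall
      have h1 : act k A M φ m₁ = 0 := (mem_isoComp_iff _ _).1 hm₁ φ hφ
      have hsub : HopfRep.IsSubcomod (k := k) (A := A) (⨆ D ∈ F', isoComp M D.1) :=
        isSubcomod_iSup fun D => isSubcomod_iSup fun _ => isSubcomod_isoComp D.1 D.2.2.1
      refine ih (act k A M φ (m₁ + m')) ((isSubcomod_iff_act N).1 hN φ _ hnN) hne ?_
      rw [map_add, h1, zero_add]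
      exact (isSubcomod_iff_act _).1 hsub φ _ hm'

theorem exists_inf_isoComp_ne_bot (htop : (⨆ D : SimpSub k A, isoComp M D.1) = ⊤)
    (N : Submodule k M) (hN : HopfRep.IsSubcomod (k := k) (A := A) N) (hN0 : N ≠ ⊥) :
    ∃ D : SimpSub k A, N ⊓ isoComp M D.1 ≠ ⊥ := by
  obtain ⟨n, hnN, hn0⟩ := (Submodule.ne_bot_iff N).1 hN0
  have hn : n ∈ ⨆ D : SimpSub k A, isoComp M D.1 := by rw [htop]; trivial
  obtain ⟨F, hF⟩ := (Submodule.mem_iSup_iff_exists_finset).1 hn
  exact exists_inf_isoComp_ne_bot_aux N hN F n hnN hn0 hF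

end Coalg

end Groth.Agent.Helper8.Constel
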