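import Mathlib
import Groth.Agent.Helper8.Constel1
set_option autoImplicit false
universe u v w x

namespace Groth.Agent.Helper8.Constel
open TensorProduct Groth.Agent.Helper9 W4c3ghconstell

section Theta

variable {k : Type u} [Field k] {A : Type v} [AddCommGroup A] [Module k A] [Coalgebra k A]
variable {M : Type x} [AddCommGroup M] [Module k M] [HopfRep.Comod k A M]

/-- finiteness of isotypic components with dimensions `h` -/
def FinIso (M : Type x) [AddCommGroup M] [Module k M] [HopfRep.Comod k A M]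
    (h : SimpSub k A → ℕ) : Prop :=
  ∀ D : SimpSub k A, Module.Finite k ↥(isoComp M D.1) ∧ Module.finrank k ↥(isoComp M D.1) = h D

variable {h : SimpSub k A → ℕ} {θ : SimpSub k A → ℚ}

theorem hilbAt_mono (hfin : FinIso M h) {N₁ N₂ : Submodule k M} (hle : N₁ ≤ N₂) (D : SimpSub k A) :
    hilbAt M N₁ D ≤ hilbAt M N₂ D := by
  haveI := (hfin D).1
  haveI : Module.Finite k ↥(N₂ ⊓ isoComp M D.1) :=
    Submodule.finiteDimensional_of_le (inf_le_right)
  exact Submodule.finrank_mono (inf_le_inf_right _ hle)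

theorem hilbAt_top (hfin : FinIso M h) (D : SimpSub k A) : hilbAt M (⊤ : Submodule k M) D = h D := by
  unfold hilbAt
  rw [top_inf_eq]
  exact (hfin D).2

theorem hilbAt_le (hfin : FinIso M h) (N : Submodule k M) (D : SimpSub k A) :
    hilbAt M N D ≤ h D := by
  rw [← hilbAt_top hfin D]
  exact hilbAt_mono hfin le_top D

theorem hilbAt_eq_of_le (hfin : FinIso M h) (N : Submodule k M) (D : SimpSub k A)
    (hD : isoComp M D.1 ≤ N) : hilbAt M N D = h D := by
  unfold hilbAt
  rw [inf_eq_right.2 hD]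
  exact (hfin D).2

theorem hilbAt_eq_zero_iff (hfin : FinIso M h) (N : Submodule k M) (D : SimpSub k A) :
    hilbAt M N D = 0 ↔ N ⊓ isoComp M D.1 = ⊥ := by
  haveI := (hfin D).1
  haveI : Module.Finite k ↥(N ⊓ isoComp M D.1) :=
    Submodule.finiteDimensional_of_le (inf_le_right)
  unfold hilbAt
  exact Submodule.finrank_eq_zero

theorem le_of_hilbAt_eq (hfin : FinIso M h) (N : Submodule k M) (D : SimpSub k A)
    (hD : hilbAt M N D = h D) : isoComp M D.1 ≤ N := by
  haveI := (hfin D).1
  have : N ⊓ isoComp M D.1 = isoComp M D.1 := by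
    apply Submodule.eq_of_le_of_finrank_eq inf_le_right
    rw [(hfin D).2]
    exact hD
  rw [← this]
  exact inf_le_left

theorem summable_term (hsum : Summable (fun D => (θ D : ℝ) * (h D : ℝ))) (hfin : FinIso M h)
    (N : Submodule k M) : Summable (fun D => (θ D : ℝ) * (hilbAt M N D : ℝ)) := by
  refine Summable.of_norm_bounded hsum.abs (fun D => ?_)
  rw [Real.norm_eq_abs, abs_mul, abs_mul, Nat.abs_cast, Nat.abs_cast]
  exact mul_le_mul_of_nonneg_left (by exact_mod_cast hilbAt_le hfin N D) (abs_nonneg _)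

theorem theta_le_theta (hsum : Summable (fun D => (θ D : ℝ) * (h D : ℝ))) (hfin : FinIso M h)
    (N' N : Submodule k M) (hle : ∀ D, 0 ≤ θ D → hilbAt M N' D ≤ hilbAt M N D)
    (hge : ∀ D, θ D < 0 → hilbAt M N D ≤ hilbAt M N' D) : theta M θ N' ≤ theta M θ N := by
  unfold theta
  refine (summable_term hsum hfin N').tsum_le_tsum (fun D => ?_) (summable_term hsum hfin N)
  rcases le_or_gt 0 (θ D) with h0 | h0
  · exact mul_le_mul_of_nonneg_left (by exact_mod_cast hle D h0) (by exact_mod_cast h0)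
  · exact mul_le_mul_of_nonpos_left (by exact_mod_cast hge D h0) (by exact_mod_cast h0.le)

theorem theta_nonneg (N : Submodule k M) (hneg : ∀ D, θ D < 0 → hilbAt M N D = 0) :
    0 ≤ theta M θ N := by
  unfold theta
  refine tsum_nonneg (fun D => ?_)
  rcases le_or_gt 0 (θ D) with h0 | h0
  · exact mul_nonneg (by exact_mod_cast h0) (Nat.cast_nonneg _)
  · rw [hneg D h0, Nat.cast_zero, mul_zero]

theorem theta_pos (hsum : Summable (fun D => (θ D : ℝ) * (h D : ℝ))) (hfin : FinIso M h)
    (N : Submodule k M) (hneg : ∀ D, θ D < 0 → hilbAt M N D = 0)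
    (D₁ : SimpSub k A) (hD₁ : 0 < θ D₁) (hN : hilbAt M N D₁ ≠ 0) : 0 < theta M θ N := by
  unfold theta
  refine (summable_term hsum hfin N).tsum_pos (fun D => ?_) D₁ ?_
  · rcases le_or_gt 0 (θ D) with h0 | h0
    · exact mul_nonneg (by exact_mod_cast h0) (Nat.cast_nonneg _)
    · rw [hneg D h0, Nat.cast_zero, mul_zero]
  · exact mul_pos (by exact_mod_cast hD₁) (by exact_mod_cast Nat.pos_of_ne_zero hN)

theorem theta_top (hfin : FinIso M h) :
    theta M θ (⊤ : Submodule k M) = ∑' D, (θ D : ℝ) * (h D : ℝ) := by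
  unfold theta
  congr 1
  funext D
  rw [hilbAt_top hfin D]

end Theta

end Groth.Agent.Helper8.Constel
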