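import Mathlib
import Groth.Agent.Helper8.Constel2
set_option autoImplicit false
universe u v w x

namespace Groth.Agent.Helper8.Constel
open TensorProduct Groth.Agent.Helper9 W4c3ghconstell

section HopfMod

variable {k : Type u} [Field k] {A : Type v} [CommRing A] [HopfAlgebra k A]
variable {R : Type w} [CommRing R] [Algebra k R] [HopfRep.Comod k A R]
variable {M : Type x} [AddCommGroup M] [Module k M] [Module R M] [IsScalarTower k R M]
  [HopfRep.Comod k A M] [TameAct.IsHopfMod k A R M]

omit [HopfRep.Comod k A R] [HopfRep.Comod k A M] [TameAct.IsHopfMod k A R M] in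
theorem slice_hmSMul_mem (W : Submodule k M) (φ : A →ₗ[k] k) (x : R ⊗[k] A) (y : M ⊗[k] A)
    (hy : y ∈ LinearMap.range (W.subtype.rTensor A)) :
    TensorProduct.rid k M (φ.lTensor M (TameAct.hmSMul k A R M x y)) ∈
      Submodule.span R (W : Set M) := by
  obtain ⟨z, rfl⟩ := hy
  induction x using TensorProduct.induction_on with
  | zero => simp
  | add x₁ x₂ h₁ h₂ =>
    rw [map_add, LinearMap.add_apply, map_add, map_add]
    exact add_mem h₁ h₂
  | tmul r a =>
    induction z using TensorProduct.induction_on with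
    | zero => simp
    | add z₁ z₂ h₁ h₂ =>
      rw [map_add, map_add, map_add, map_add]
      exact add_mem h₁ h₂
    | tmul w b =>
      rw [LinearMap.rTensor_tmul, TameAct.hmSMul_tmul, LinearMap.lTensor_tmul,
        TensorProduct.rid_tmul, Submodule.subtype_apply]
      exact Submodule.smul_of_tower_mem _ _ (Submodule.smul_mem _ _ (Submodule.subset_span w.2))

theorem act_smul_mem (W : Submodule k M) (hW : HopfRep.IsSubcomod (k := k) (A := A) W)
    (φ : A →ₗ[k] k) (r : R) (w : M) (hw : w ∈ W) :
    act k A M φ (r • w) ∈ Submodule.span R (W : Set M) := by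
  rw [act_apply, TameAct.IsHopfMod.coact_smul (k := k) (A := A)]
  exact slice_hmSMul_mem W φ _ _ (hW w hw)

omit [HopfRep.Comod k A R] [TameAct.IsHopfMod k A R M] in
theorem genIn_le (S : Set (SimpSub k A)) (N : Submodule R M) : genIn k A R M S N ≤ N := by
  unfold genIn
  rw [Submodule.span_le]
  intro x hx
  simp only [Set.mem_iUnion] at hx
  obtain ⟨D, _, hx⟩ := hx
  exact hx.1

omit [HopfRep.Comod k A R] [TameAct.IsHopfMod k A R M] in
theorem inf_le_genIn (S : Set (SimpSub k A)) (N : Submodule R M) (D : SimpSub k A) (hD : D ∈ S) :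
    N.restrictScalars k ⊓ isoComp M D.1 ≤ (genIn k A R M S N).restrictScalars k := by
  intro x hx
  exact Submodule.subset_span (Set.mem_iUnion.2 ⟨D, Set.mem_iUnion.2 ⟨hD, hx⟩⟩)

omit [HopfRep.Comod k A R] [TameAct.IsHopfMod k A R M] in
theorem genIn_genIn (S : Set (SimpSub k A)) (N : Submodule R M) :
    genIn k A R M S (genIn k A R M S N) = genIn k A R M S N := by
  apply le_antisymm (genIn_le S _)
  conv_lhs => unfold genIn
  rw [Submodule.span_le]
  intro x hx
  simp only [Set.mem_iUnion] at hx
  obtain ⟨D, hD, hx⟩ := hx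
  refine Submodule.subset_span (Set.mem_iUnion.2 ⟨D, Set.mem_iUnion.2 ⟨hD, ?_⟩⟩)
  exact ⟨inf_le_genIn S N D hD hx, hx.2⟩

theorem isSubcomod_genIn (S : Set (SimpSub k A)) (N : Submodule R M)
    (hN : HopfRep.IsSubcomod (k := k) (A := A) (N.restrictScalars k)) :
    HopfRep.IsSubcomod (k := k) (A := A) ((genIn k A R M S N).restrictScalars k) := by
  rw [isSubcomod_iff_act]
  intro φ x hx
  have key : ∀ x ∈ genIn k A R M S N, ∀ (r : R) (φ : A →ₗ[k] k),
      act k A M φ (r • x) ∈ genIn k A R M S N := by
    intro x hx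
    unfold genIn at hx
    induction hx using Submodule.span_induction with
    | mem x hx =>
      intro r φ
      simp only [Set.mem_iUnion] at hx
      obtain ⟨D, hD, hx⟩ := hx
      have hW : HopfRep.IsSubcomod (k := k) (A := A) (N.restrictScalars k ⊓ isoComp M D.1) :=
        isSubcomod_inf hN (isSubcomod_isoComp D.1 D.2.2.1)
      refine Submodule.span_mono ?_ (act_smul_mem _ hW φ r x hx)
      intro y hy
      exact Set.mem_iUnion.2 ⟨D, Set.mem_iUnion.2 ⟨hD, hy⟩⟩
    | zero =>
      intro r φ
      rw [smul_zero, map_zero]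
      exact zero_mem _
    | add x y _ _ hx hy =>
      intro r φ
      rw [smul_add, map_add]
      exact add_mem (hx r φ) (hy r φ)
    | smul r' x _ hx =>
      intro r φ
      rw [smul_smul]
      exact hx _ φ
  have := key x hx 1 φ
  rwa [one_smul] at this

end HopfMod

end Groth.Agent.Helper8.Constel
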