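import Mathlib
import Groth.Agent.Helper8.Constel3
set_option autoImplicit false
universe u v w x

namespace Groth.Agent.Helper8.Constel
open TensorProduct Groth.Agent.Helper9 W4c3ghconstell

section Main

variable (k : Type u) [Field k] (A : Type v) [CommRing A] [HopfAlgebra k A]
variable (R : Type w) [CommRing R] [Algebra k R] [HopfRep.Comod k A R]
variable (M : Type x) [AddCommGroup M] [Module k M] [Module R M] [IsScalarTower k R M]
  [HopfRep.Comod k A M] [TameAct.IsHopfMod k A R M]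
variable (h : SimpSub k A → ℕ) (θ : SimpSub k A → ℚ)

variable {k A M h} in
omit [TameAct.IsHopfMod k A R M] [IsScalarTower k R M] [Module R M] [HopfRep.Comod k A R] in
theorem hilbAt_le_of_inf_le (hfin : FinIso M h) {N₁ N₂ : Submodule k M} (D : SimpSub k A)
    (hle : N₁ ⊓ isoComp M D.1 ≤ N₂) : hilbAt M N₁ D ≤ hilbAt M N₂ D := by
  haveI := (hfin D).1
  haveI : Module.Finite k ↥(N₂ ⊓ isoComp M D.1) :=
    Submodule.finiteDimensional_of_le (inf_le_right)
  exact Submodule.finrank_mono (le_inf hle inf_le_right)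

variable {k A R M h θ}

theorem isSubcomod_genIn_top (S : Set (SimpSub k A)) :
    HopfRep.IsSubcomod (k := k) (A := A) ((genIn k A R M S ⊤).restrictScalars k) := by
  apply isSubcomod_genIn
  rw [Submodule.restrictScalars_top]
  exact isSubcomod_top

omit [HopfRep.Comod k A R] [TameAct.IsHopfMod k A R M] in
theorem isoComp_le_genIn_top (S : Set (SimpSub k A)) (D : SimpSub k A) (hD : D ∈ S) :
    isoComp M D.1 ≤ (genIn k A R M S ⊤).restrictScalars k := by
  have := inf_le_genIn (R := R) S (⊤ : Submodule R M) D hD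
  rwa [Submodule.restrictScalars_top, top_inf_eq] at this

omit [HopfRep.Comod k A R] [TameAct.IsHopfMod k A R M] in
theorem theta_genIn_top_le (hsum : HasSum (fun D => (θ D : ℝ) * (h D : ℝ)) 0) (hfin : FinIso M h) :
    theta M θ ((genIn k A R M {D | θ D < 0} ⊤).restrictScalars k) ≤ 0 := by
  have := theta_le_theta hsum.summable hfin ((genIn k A R M {D | θ D < 0} ⊤).restrictScalars k) ⊤
    (fun D _ => hilbAt_mono hfin le_top D) (fun D hD => by
      rw [hilbAt_top hfin, hilbAt_eq_of_le hfin _ D (isoComp_le_genIn_top _ D hD)])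
  rwa [theta_top hfin, hsum.tsum_eq] at this

theorem s16010 (hsum : HasSum (fun D => (θ D : ℝ) * (h D : ℝ)) 0) (hne : ∃ D, θ D ≠ 0 ∧ h D ≠ 0)
    (hM : IsConstellation k A R M h) (hst : IsThetaStable k A R M θ) :
    genIn k A R M {D | θ D < 0} ⊤ = ⊤ := by
  have hfin : FinIso M h := hM.2.2
  by_contra hNtop
  by_cases hNbot : genIn k A R M {D | θ D < 0} ⊤ = ⊥
  · have hnn : ∀ D, 0 ≤ (θ D : ℝ) * (h D : ℝ) := by
      intro D
      rcases le_or_gt 0 (θ D) with h0 | h0
      · exact mul_nonneg (by exact_mod_cast h0) (Nat.cast_nonneg _)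
      · have h1 := isoComp_le_genIn_top (R := R) (M := M) {D | θ D < 0} D h0
        rw [hNbot, Submodule.restrictScalars_bot, le_bot_iff] at h1
        have h2 : h D = 0 := by
          rw [← (hfin D).2, h1]
          exact finrank_bot k M
        rw [h2, Nat.cast_zero, mul_zero]
    have hz := (hasSum_zero_iff_of_nonneg hnn).1 hsum
    obtain ⟨D, hD1, hD2⟩ := hne
    have := congrFun hz D
    simp only [Pi.zero_apply, mul_eq_zero, Rat.cast_eq_zero, Nat.cast_eq_zero] at this
    rcases this with h' | h'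
    · exact hD1 h'
    · exact hD2 h'
  · have hpos := hst.2 _ (isSubcomod_genIn_top {D | θ D < 0}) hNbot hNtop
    exact absurd (theta_genIn_top_le (R := R) hsum hfin) (not_le.2 hpos)

theorem s16018 (hsum : HasSum (fun D => (θ D : ℝ) * (h D : ℝ)) 0)
    (hM : IsConstellation k A R M h) (hθ : ∀ D, θ D ≠ 0) (hss : IsThetaSemistable k A R M θ) :
    genIn k A R M {D | θ D < 0} ⊤ = ⊤ := by
  have hfin : FinIso M h := hM.2.2
  set N := genIn k A R M {D | θ D < 0} ⊤ with hNdef
  have h0 : theta M θ (N.restrictScalars k) = 0 :=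
    le_antisymm (theta_genIn_top_le (R := R) hsum hfin)
      (hss.2 N (isSubcomod_genIn_top {D | θ D < 0}))
  have hs2 := (summable_term (θ := θ) hsum.summable hfin (N.restrictScalars k)).hasSum
  have h0' : ∑' D, (θ D : ℝ) * (hilbAt M (N.restrictScalars k) D : ℝ) = 0 := h0
  rw [h0'] at hs2
  have hdiff := hsum.sub hs2
  rw [sub_zero] at hdiff
  have hnn : ∀ D, 0 ≤ (θ D : ℝ) * (h D : ℝ) - (θ D : ℝ) * (hilbAt M (N.restrictScalars k) D : ℝ) := by
    intro D
    rw [← mul_sub]
    rcases le_or_gt 0 (θ D) with h1 | h1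
    · refine mul_nonneg (by exact_mod_cast h1) (sub_nonneg.2 ?_)
      exact_mod_cast hilbAt_le hfin _ D
    · rw [hilbAt_eq_of_le hfin _ D (isoComp_le_genIn_top _ D h1), sub_self, mul_zero]
  have hz := (hasSum_zero_iff_of_nonneg hnn).1 hdiff
  have hall : ∀ D : SimpSub k A, isoComp M D.1 ≤ N.restrictScalars k := by
    intro D
    apply le_of_hilbAt_eq hfin
    have := congrFun hz D
    simp only [Pi.zero_apply] at this
    rw [← mul_sub, mul_eq_zero, sub_eq_zero] at this
    rcases this with h' | h'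
    · exact absurd (by exact_mod_cast h') (hθ D)
    · exact_mod_cast h'.symm
  have htop : (⊤ : Submodule k M) ≤ N.restrictScalars k := by
    rw [← hM.2.1]
    exact iSup_le hall
  apply top_le_iff.1
  intro x _
  exact htop (Submodule.mem_top : x ∈ (⊤ : Submodule k M))

omit [HopfRep.Comod k A R] [TameAct.IsHopfMod k A R M] in
theorem theta_genIn_le (hsum : HasSum (fun D => (θ D : ℝ) * (h D : ℝ)) 0) (hfin : FinIso M h)
    (N : Submodule R M) :
    theta M θ ((genIn k A R M {D | θ D < 0} N).restrictScalars k) ≤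
      theta M θ (N.restrictScalars k) :=
  theta_le_theta hsum.summable hfin _ _
    (fun D _ => hilbAt_mono hfin (fun _ hx => genIn_le _ N hx) D)
    (fun D hD => hilbAt_le_of_inf_le hfin D (inf_le_genIn _ N D hD))

omit [HopfRep.Comod k A R] [TameAct.IsHopfMod k A R M] in
theorem hilbAt_eq_zero_of_genIn_eq_bot (hfin : FinIso M h) (N : Submodule R M)
    (hb : genIn k A R M {D | θ D < 0} N = ⊥) (D : SimpSub k A) (hD : θ D < 0) :
    hilbAt M (N.restrictScalars k) D = 0 := by
  rw [hilbAt_eq_zero_iff hfin, ← le_bot_iff]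
  have := inf_le_genIn {D | θ D < 0} N D hD
  rwa [hb, Submodule.restrictScalars_bot] at this

theorem s16011 (hsum : HasSum (fun D => (θ D : ℝ) * (h D : ℝ)) 0)
    (hM : IsConstellation k A R M h) (h0 : theta M θ ⊤ = 0)
    (hss : ∀ N : Submodule R M, HopfRep.IsSubcomod (k := k) (A := A) (N.restrictScalars k) →
      N ≠ ⊥ → N ≠ ⊤ → genIn k A R M {D | θ D < 0} N = N → 0 ≤ theta M θ (N.restrictScalars k)) :
    IsThetaSemistable k A R M θ := by
  have hfin : FinIso M h := hM.2.2
  refine ⟨h0, fun N hN => ?_⟩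
  by_cases hb : genIn k A R M {D | θ D < 0} N = ⊥
  · exact theta_nonneg _ (hilbAt_eq_zero_of_genIn_eq_bot hfin N hb)
  by_cases ht : genIn k A R M {D | θ D < 0} N = ⊤
  · have : N = ⊤ := top_le_iff.1 (ht ▸ genIn_le _ N)
    rw [this, Submodule.restrictScalars_top, h0]
  · exact le_trans (hss _ (isSubcomod_genIn _ N hN) hb ht (genIn_genIn _ N))
      (theta_genIn_le hsum hfin N)

omit [HopfRep.Comod k A R] [TameAct.IsHopfMod k A R M] in
theorem pos_of_genIn_eq_bot (hsum : HasSum (fun D => (θ D : ℝ) * (h D : ℝ)) 0)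
    (hM : IsConstellation k A R M h) (hθ : ∀ D, h D ≠ 0 → θ D ≠ 0) (N : Submodule R M)
    (hN : HopfRep.IsSubcomod (k := k) (A := A) (N.restrictScalars k)) (hNb : N ≠ ⊥)
    (hz : ∀ D, θ D < 0 → hilbAt M (N.restrictScalars k) D = 0) :
    0 < theta M θ (N.restrictScalars k) := by
  have hfin : FinIso M h := hM.2.2
  have hNb' : N.restrictScalars k ≠ ⊥ := by
    rwa [Ne, Submodule.restrictScalars_eq_bot_iff]
  obtain ⟨D, hD⟩ := exists_inf_isoComp_ne_bot hM.2.1 _ hN hNb'
  have hne : hilbAt M (N.restrictScalars k) D ≠ 0 := by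
    rwa [Ne, hilbAt_eq_zero_iff hfin]
  have hθD : ¬ θ D < 0 := fun hlt => hne (hz D hlt)
  have hhD : h D ≠ 0 := by
    intro h0
    have := hilbAt_le hfin (N.restrictScalars k) D
    omega
  have hpos : 0 < θ D := lt_of_le_of_ne (not_lt.1 hθD) (Ne.symm (hθ D hhD))
  exact theta_pos hsum.summable hfin _ hz D hpos hne

theorem s16012 (hsum : HasSum (fun D => (θ D : ℝ) * (h D : ℝ)) 0)
    (hM : IsConstellation k A R M h) (hθ : ∀ D, h D ≠ 0 → θ D ≠ 0) (h0 : theta M θ ⊤ = 0)
    (hs : ∀ N : Submodule R M, HopfRep.IsSubcomod (k := k) (A := A) (N.restrictScalars k) →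
      N ≠ ⊥ → N ≠ ⊤ → genIn k A R M {D | θ D < 0} N = N → 0 < theta M θ (N.restrictScalars k)) :
    IsThetaStable k A R M θ := by
  have hfin : FinIso M h := hM.2.2
  refine ⟨h0, fun N hN hNb hNt => ?_⟩
  by_cases hb : genIn k A R M {D | θ D < 0} N = ⊥
  · exact pos_of_genIn_eq_bot hsum hM hθ N hN hNb (hilbAt_eq_zero_of_genIn_eq_bot hfin N hb)
  by_cases ht : genIn k A R M {D | θ D < 0} N = ⊤
  · exact absurd (top_le_iff.1 (ht ▸ genIn_le _ N)) hNt
  · exact lt_of_lt_of_le (hs _ (isSubcomod_genIn _ N hN) hb ht (genIn_genIn _ N))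
      (theta_genIn_le hsum hfin N)

theorem s16013 (hsum : HasSum (fun D => (θ D : ℝ) * (h D : ℝ)) 0)
    (hM : IsConstellation k A R M h) (D₀ : SimpSub k A) (h1 : h D₀ = 1)
    (hneg : ∀ D, θ D < 0 ↔ D = D₀) (hθ : ∀ D, h D ≠ 0 → θ D ≠ 0)
    (hgen : genIn k A R M {D₀} ⊤ = ⊤) : IsThetaStable k A R M θ := by
  have hfin : FinIso M h := hM.2.2
  refine ⟨by rw [theta_top hfin, hsum.tsum_eq], fun N hN hNb hNt => ?_⟩
  have hzero : hilbAt M (N.restrictScalars k) D₀ = 0 := by
    by_contra hne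
    have hle := hilbAt_le hfin (N.restrictScalars k) D₀
    have heq : hilbAt M (N.restrictScalars k) D₀ = h D₀ := by omega
    have hD₀N := le_of_hilbAt_eq hfin _ D₀ heq
    apply hNt
    rw [← top_le_iff, ← hgen]
    unfold genIn
    rw [Submodule.span_le]
    intro x hx
    simp only [Set.mem_iUnion] at hx
    obtain ⟨D, hD, hx⟩ := hx
    rw [Set.mem_singleton_iff] at hD
    subst hD
    exact hD₀N hx.2
  exact pos_of_genIn_eq_bot hsum hM hθ N hN hNb (fun D hD => by
    rw [(hneg D).1 hD]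
    exact hzero)

end Main

end Groth.Agent.Helper8.Constel
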