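import Mathlib
import Groth.Agent.Helper7.PSSmooth
set_option autoImplicit false
universe u
open MvPowerSeries

namespace Groth.Agent.Helper8.ContPS

variable {A : Type u} [CommRing A] {n : ℕ}

theorem ker_constantCoeff_eq :
    RingHom.ker (MvPowerSeries.constantCoeff : MvPowerSeries (Fin n) A →+* A) =
      Ideal.span (Set.range (X : Fin n → MvPowerSeries (Fin n) A)) := by
  apply le_antisymm
  · intro q hq
    have := Groth.Agent.Helper7.PSSmooth.mem_pow_of_order 1 q (fun e he => by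
      have he0 : e = 0 := by
        rw [Nat.lt_one_iff] at he
        exact (Finsupp.degree_eq_zero_iff e).1 he
      rw [he0]
      exact hq)
    rwa [pow_one] at this
  · rw [Ideal.span_le]
    rintro _ ⟨i, rfl⟩
    rw [SetLike.mem_coe, RingHom.mem_ker]
    exact MvPowerSeries.constantCoeff_X i

theorem s4555 (A : Type u) [CommRing A] (𝔞 : Ideal A) (n : ℕ) (E : Type u) [CommRing E]
    [Algebra A E] (hE : ∃ k : ℕ, (𝔞 ^ k).map (algebraMap A E) = ⊥) :
    (∀ f : MvPowerSeries (Fin n) A →ₐ[A] E,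
      (∃ m : ℕ, ∀ x ∈ (𝔞.map (MvPowerSeries.C : A →+* MvPowerSeries (Fin n) A) ⊔
        RingHom.ker (MvPowerSeries.constantCoeff : MvPowerSeries (Fin n) A →+* A)) ^ m, f x = 0) →
      ∀ i, IsNilpotent (f (MvPowerSeries.X i))) ∧
    ∀ z : Fin n → E, (∀ i, IsNilpotent (z i)) →
      ∃! g : MvPowerSeries (Fin n) A →ₐ[A] E,
        (∃ m : ℕ, ∀ x ∈ (𝔞.map (MvPowerSeries.C : A →+* MvPowerSeries (Fin n) A) ⊔
          RingHom.ker (MvPowerSeries.constantCoeff : MvPowerSeries (Fin n) A →+* A)) ^ m, g x = 0) ∧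
        ∀ i, g (MvPowerSeries.X i) = z i := by
  set J : Ideal (MvPowerSeries (Fin n) A) :=
    𝔞.map (MvPowerSeries.C : A →+* MvPowerSeries (Fin n) A) ⊔
      RingHom.ker (MvPowerSeries.constantCoeff : MvPowerSeries (Fin n) A →+* A) with hJ
  have hXJ : Ideal.span (Set.range (X : Fin n → MvPowerSeries (Fin n) A)) ≤ J := by
    rw [← ker_constantCoeff_eq]
    exact le_sup_right
  constructor
  · rintro f ⟨m, hm⟩ i
    refine ⟨m, ?_⟩
    rw [← map_pow]
    apply hm
    exact Ideal.pow_mem_pow (hXJ (Ideal.subset_span ⟨i, rfl⟩)) m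
  · intro z hz
    obtain ⟨k, hk⟩ := hE
    obtain ⟨v, hv, N, hvN⟩ := Groth.Agent.Helper7.PSSmooth.exists_eval_nilp (k := A) z hz
    have hvkill : ∀ x ∈ J ^ (k + N), v x = 0 := by
      intro x hx
      have h1 := Ideal.sup_pow_add_le_pow_sup_pow hx
      rw [Submodule.mem_sup] at h1
      obtain ⟨a, ha, b, hb, rfl⟩ := h1
      rw [map_add]
      have hb0 : v b = 0 := by
        apply hvN
        rwa [← ker_constantCoeff_eq]
      have ha0 : v a = 0 := by
        have h2 : v a ∈ ((𝔞.map (MvPowerSeries.C : A →+* MvPowerSeries (Fin n) A)) ^ k).map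
            v.toRingHom := Ideal.mem_map_of_mem _ ha
        rw [← Ideal.map_pow, Ideal.map_map] at h2
        have h3 : v.toRingHom.comp (MvPowerSeries.C : A →+* MvPowerSeries (Fin n) A) =
            algebraMap A E := by
          ext a
          exact v.commutes a
        rw [h3, hk] at h2
        exact h2
      rw [ha0, hb0, add_zero]
    refine ⟨v, ⟨⟨k + N, hvkill⟩, hv⟩, ?_⟩
    rintro g ⟨⟨m, hm⟩, hg⟩
    apply Groth.Agent.Helper7.PSSmooth.algHom_ext_of_pow
    · intro i
      rw [hg, hv]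
    · exact ⟨m, fun x hx => hm x (Ideal.pow_right_mono hXJ m hx)⟩
    · exact ⟨N, hvN⟩

end Groth.Agent.Helper8.ContPS
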