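import Mathlib

namespace Groth.Agent.Helper8.Content

open TensorProduct IsLocalRing

universe u v

variable {A : Type u} [CommRing A]

theorem exists_repr {M : Type v} [AddCommGroup M] [Module A M] (s : Finset A) (x : M)
    (hx : x ∈ (Ideal.span (s : Set A)) • (⊤ : Submodule A M)) :
    ∃ m : A → M, x = ∑ a ∈ s, a • m a := by
  refine Submodule.smul_induction_on hx (fun r hr n _ => ?_) (fun y z hy hz => ?_)
  · rw [Ideal.span, Submodule.mem_span_finset] at hr
    obtain ⟨f, _, rfl⟩ := hr
    refine ⟨fun a => f a • n, ?_⟩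
    rw [Finset.sum_smul]
    refine Finset.sum_congr rfl fun a _ => ?_
    rw [smul_eq_mul, mul_comm, mul_smul]
  · obtain ⟨m₁, rfl⟩ := hy
    obtain ⟨m₂, rfl⟩ := hz
    exact ⟨m₁ + m₂, by simp [smul_add, Finset.sum_add_distrib]⟩

theorem smul_mem_mul {M : Type v} [AddCommGroup M] [Module A M] (I K : Ideal A) {a : A} (ha : a ∈ I)
    {z : M} (hz : z ∈ K • (⊤ : Submodule A M)) : a • z ∈ (K * I) • (⊤ : Submodule A M) := by
  refine Submodule.smul_induction_on hz (fun r hr n _ => ?_) (fun y z hy hz => ?_)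
  · rw [smul_smul]
    have h1 : a * r ∈ K * I := by
      have := Ideal.mul_mem_mul hr ha
      rwa [mul_comm r a] at this
    exact Submodule.smul_mem_smul h1 Submodule.mem_top
  · rw [smul_add]; exact Submodule.add_mem _ hy hz

theorem exists_finset_of_mem {M : Type v} [AddCommGroup M] [Module A M] (I : Ideal A) (x : M)
    (hx : x ∈ I • (⊤ : Submodule A M)) :
    ∃ s : Finset A, (↑s ⊆ (I : Set A)) ∧ x ∈ Ideal.span (s : Set A) • (⊤ : Submodule A M) := by
  classical
  refine Submodule.smul_induction_on hx (fun r hr n _ => ?_) (fun y z hy hz => ?_)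
  · refine ⟨{r}, by simpa using hr, ?_⟩
    exact Submodule.smul_mem_smul (Ideal.subset_span (by simp)) Submodule.mem_top
  · obtain ⟨s₁, h1, h1'⟩ := hy
    obtain ⟨s₂, h2, h2'⟩ := hz
    refine ⟨s₁ ∪ s₂, by simpa using ⟨h1, h2⟩, ?_⟩
    refine Submodule.add_mem _ (Submodule.smul_mono_left (Ideal.span_mono ?_) h1')
      (Submodule.smul_mono_left (Ideal.span_mono ?_) h2')
    · simp
    · simp

section local_

variable [IsLocalRing A]

theorem tmul_eq_zero_iff {M : Type v} [AddCommGroup M] [Module A M] (z : M) :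
    (1 : ResidueField A) ⊗ₜ[A] z = 0 ↔ z ∈ maximalIdeal A • (⊤ : Submodule A M) := by
  have h1 : (TensorProduct.quotTensorEquivQuotSMul M (maximalIdeal A))
      ((1 : A ⧸ maximalIdeal A) ⊗ₜ[A] z) = Submodule.Quotient.mk z :=
    TensorProduct.quotTensorEquivQuotSMul_mk_one_tmul _ z
  constructor
  · intro h
    have h2 : (1 : A ⧸ maximalIdeal A) ⊗ₜ[A] z = 0 := h
    rw [h2, map_zero] at h1
    exact (Submodule.Quotient.mk_eq_zero _).mp h1.symm
  · intro h
    have h2 : (1 : A ⧸ maximalIdeal A) ⊗ₜ[A] z = 0 := by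
      apply (TensorProduct.quotTensorEquivQuotSMul M (maximalIdeal A)).injective
      rw [h1, map_zero]
      exact (Submodule.Quotient.mk_eq_zero _).mpr h
    exact h2

theorem mem_of_map_mem {M N : Type v} [AddCommGroup M] [Module A M] [AddCommGroup N] [Module A N]
    (u : M →ₗ[A] N) (hu : Function.Injective (u.baseChange (ResidueField A))) (z : M)
    (h : u z ∈ maximalIdeal A • (⊤ : Submodule A N)) :
    z ∈ maximalIdeal A • (⊤ : Submodule A M) := by
  rw [← tmul_eq_zero_iff] at h ⊢
  apply hu
  rw [LinearMap.baseChange_tmul, h, map_zero]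

theorem exists_right_inv {ι κ' : Type*} [Fintype ι] [Fintype κ'] [DecidableEq ι] [DecidableEq κ']
    (C : ι → κ' → A)
    (hC : ∀ l : ι → A, (∀ k, ∑ i, l i * C i k ∈ maximalIdeal A) → ∀ i, l i ∈ maximalIdeal A) :
    ∃ E : κ' → ι → A, ∀ i i',
      (∑ k, C i k * E k i') - (if i = i' then 1 else 0) ∈ maximalIdeal A := by
  let T : (ι → ResidueField A) →ₗ[ResidueField A] (κ' → ResidueField A) :=
    { toFun := fun l k => ∑ i, l i * residue A (C i k)
      map_add' := by
        intro l l'
        ext k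
        simp [add_mul, Finset.sum_add_distrib]
      map_smul' := by
        intro c l
        ext k
        simp [Finset.mul_sum, mul_assoc] }
  have hT : LinearMap.ker T = ⊥ := by
    rw [LinearMap.ker_eq_bot']
    intro l hl
    choose l' hl' using fun i => residue_surjective (l i)
    have h1 := hC l' (fun k => by
      rw [← residue_eq_zero_iff, map_sum]
      have := congrFun hl k
      simp only [map_mul, hl']
      exact this)
    ext i
    rw [← hl' i]
    exact (residue_eq_zero_iff _).mpr (h1 i)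
  obtain ⟨g, hg⟩ := LinearMap.exists_leftInverse_of_injective T hT
  choose E hE using fun k i' => residue_surjective (g (Pi.single k 1) i')
  refine ⟨E, fun i i' => ?_⟩
  rw [← residue_eq_zero_iff]
  have h1 : T (Pi.single i 1) = ∑ k, residue A (C i k) • Pi.single k 1 := by
    ext k
    simp [T, Pi.single_apply, Finset.sum_apply]
  have h2 : g (T (Pi.single i 1)) i' = (Pi.single i 1 : ι → ResidueField A) i' := by
    rw [← LinearMap.comp_apply, hg, LinearMap.id_apply]
  rw [h1, map_sum] at h2
  simp only [map_smul, Finset.sum_apply, Pi.smul_apply, smul_eq_mul, Pi.single_apply] at h2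
  rw [map_sub, map_sum]
  simp only [map_mul, hE]
  rw [h2]
  split_ifs with h h' h'
  · simp
  · exact absurd h.symm h'
  · exact absurd h'.symm h
  · simp

theorem indep_of_minimal {M : Type v} [AddCommGroup M] [Module A M]
    (x : M) (I : Ideal A) (hx : IsLeast {J : Ideal A | x ∈ J • (⊤ : Submodule A M)} I)
    (s : Finset A) (hs : Ideal.span (s : Set A) = I)
    (hmin : ∀ t : Finset A, Ideal.span (t : Set A) = I → s.card ≤ t.card)
    (m : A → M) (hm : x = ∑ a ∈ s, a • m a)
    (c : A → A) (hc : ∑ a ∈ s, c a • m a ∈ maximalIdeal A • (⊤ : Submodule A M)) :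
    ∀ a ∈ s, c a ∈ maximalIdeal A := by
  classical
  intro a₀ ha₀
  by_contra hca
  have hunit : IsUnit (c a₀) := by
    by_contra h; exact hca ((mem_maximalIdeal _).mpr h)
  obtain ⟨w, hw⟩ := hunit.exists_left_inv
  obtain ⟨z, hz⟩ : ∃ z, z = ∑ a ∈ s, c a • m a := ⟨_, rfl⟩
  rw [← hz] at hc
  let t : Finset A := (s.erase a₀).image (fun a => a - a₀ * w * c a)
  have htcard : t.card < s.card :=
    lt_of_le_of_lt Finset.card_image_le (Finset.card_erase_lt_of_mem ha₀)
  have hsI : ∀ a ∈ s, a ∈ I := fun a ha => hs ▸ Ideal.subset_span ha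
  have htI : Ideal.span (t : Set A) ≤ I := by
    rw [Ideal.span_le]
    intro b hb
    obtain ⟨a, ha, rfl⟩ := Finset.mem_image.mp hb
    exact I.sub_mem (hsI a (Finset.mem_of_mem_erase ha))
      (I.mul_mem_right _ (I.mul_mem_right _ (hsI a₀ ha₀)))
  have hxK : x ∈ (Ideal.span (t : Set A) ⊔ maximalIdeal A * I) • (⊤ : Submodule A M) := by
    have hz' : z = c a₀ • m a₀ + ∑ a ∈ s.erase a₀, c a • m a := by
      rw [hz]; exact (Finset.add_sum_erase s _ ha₀).symm
    have hma₀ : m a₀ = w • z - ∑ a ∈ s.erase a₀, (w * c a) • m a := by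
      rw [hz', smul_add, smul_smul, hw, one_smul, Finset.smul_sum]
      simp only [smul_smul]
      abel
    have hxe : x = (a₀ * w) • z + ∑ a ∈ s.erase a₀, (a - a₀ * w * c a) • m a := by
      rw [hm, ← Finset.add_sum_erase s _ ha₀, hma₀, smul_sub, smul_smul, Finset.smul_sum]
      simp only [smul_smul, sub_smul, Finset.sum_sub_distrib, mul_assoc]
      abel
    rw [hxe]
    refine Submodule.add_mem _ ?_ (Submodule.sum_mem _ fun a ha => ?_)
    · refine Submodule.smul_mono_left le_sup_right ?_
      rw [mul_smul a₀ w z]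
      exact smul_mem_mul I (maximalIdeal A) (hsI a₀ ha₀) (Submodule.smul_mem _ w hc)
    · refine Submodule.smul_mono_left le_sup_left ?_
      exact Submodule.smul_mem_smul (Ideal.subset_span (Finset.mem_image_of_mem _ ha))
        Submodule.mem_top
  have hle : I ≤ Ideal.span (t : Set A) ⊔ maximalIdeal A * I := hx.2 hxK
  have hfg : (I : Submodule A A).FG := ⟨s, hs⟩
  have hIt : I ≤ Ideal.span (t : Set A) :=
    Submodule.le_of_le_smul_of_le_jacobson_bot hfg (maximalIdeal_le_jacobson ⊥)
      (by rwa [smul_eq_mul])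
  have := hmin t (le_antisymm htI hIt)
  omega

theorem main {A : Type u} [CommRing A] [IsLocalRing A] {M N : Type u}
    [AddCommGroup M] [Module A M] [Module.Flat A M] [AddCommGroup N] [Module A N]
    [Module.Flat A N] (u : M →ₗ[A] N)
    (hu : Function.Injective (u.baseChange (IsLocalRing.ResidueField A))) (x : M) (I : Ideal A)
    (hx : IsLeast {J : Ideal A | x ∈ J • (⊤ : Submodule A M)} I) :
    IsLeast {J : Ideal A | u x ∈ J • (⊤ : Submodule A N)} I := by
  classical
  refine ⟨?_, ?_⟩
  · have h1 : x ∈ I • (⊤ : Submodule A M) := hx.1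
    have : u x ∈ Submodule.map u (I • ⊤) := Submodule.mem_map_of_mem h1
    rw [Submodule.map_smul''] at this
    exact Submodule.smul_mono le_rfl le_top this
  · intro J hJ
    have hJ' : u x ∈ J • (⊤ : Submodule A N) := hJ
    -- finite generation of I
    obtain ⟨s₀, hs₀I, hs₀x⟩ := exists_finset_of_mem I x hx.1
    have hs₀ : Ideal.span (s₀ : Set A) = I :=
      le_antisymm (Ideal.span_le.mpr hs₀I) (hx.2 hs₀x)
    -- minimal generating finset
    let P : ℕ → Prop := fun n => ∃ s : Finset A, s.card = n ∧ Ideal.span (s : Set A) = I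
    have hP : ∃ n, P n := ⟨_, s₀, rfl, hs₀⟩
    obtain ⟨s, hsc, hs⟩ := Nat.find_spec hP
    have hmin : ∀ t : Finset A, Ideal.span (t : Set A) = I → s.card ≤ t.card :=
      fun t ht => hsc ▸ Nat.find_min' hP ⟨t, rfl, ht⟩
    obtain ⟨m, hm⟩ := exists_repr s x (hs ▸ hx.1)
    obtain ⟨t, htJ, htx⟩ := exists_finset_of_mem J (u x) hJ'
    obtain ⟨n, hn⟩ := exists_repr t (u x) htx
    -- the relation in N
    let f : ↥s ⊕ ↥t → A := Sum.elim (fun a => a.1) (fun b => -b.1)
    let y : ↥s ⊕ ↥t → N := Sum.elim (fun a => u (m a.1)) (fun b => n b.1)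
    have hrel : ∑ i, f i • y i = 0 := by
      rw [Fintype.sum_sum_type]
      simp only [f, y, Sum.elim_inl, Sum.elim_inr, neg_smul, Finset.sum_neg_distrib]
      rw [Finset.sum_coe_sort s (fun a => a • u (m a)), Finset.sum_coe_sort t (fun b => b • n b),
        ← hn, hm, map_sum]
      simp only [map_smul]
      exact add_neg_cancel _
    obtain ⟨K, c, yk, h1, h2⟩ := Module.Flat.isTrivialRelation_of_sum_smul_eq_zero hrel
    let C : ↥s → Fin K → A := fun a j => c (Sum.inl a) j
    have hC : ∀ l : ↥s → A, (∀ k, ∑ a, l a * C a k ∈ maximalIdeal A) →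
        ∀ a, l a ∈ maximalIdeal A := by
      intro l hl
      have e1 : u (∑ a : ↥s, l a • m a.1) = ∑ k, (∑ a, l a * C a k) • yk k := by
        rw [map_sum]
        simp only [map_smul]
        have : ∀ a : ↥s, u (m a.1) = ∑ j, C a j • yk j := fun a => h1 (Sum.inl a)
        simp only [this, Finset.smul_sum, smul_smul]
        rw [Finset.sum_comm]
        simp only [Finset.sum_smul]
      have e2 : u (∑ a : ↥s, l a • m a.1) ∈ maximalIdeal A • (⊤ : Submodule A N) := by
        rw [e1]
        exact Submodule.sum_mem _ fun k _ => Submodule.smul_mem_smul (hl k) Submodule.mem_top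
      have e3 := mem_of_map_mem u hu _ e2
      let l' : A → A := fun a => if h : a ∈ s then l ⟨a, h⟩ else 0
      have e4 : ∑ a ∈ s, l' a • m a = ∑ a : ↥s, l a • m a.1 := by
        rw [← Finset.sum_coe_sort s (fun a => l' a • m a)]
        refine Finset.sum_congr rfl fun a _ => ?_
        simp [l', a.2]
      rw [← e4] at e3
      have e5 := indep_of_minimal x I hx s hs hmin m hm l' e3
      intro a
      have := e5 a.1 a.2
      simpa [l', a.2] using this
    obtain ⟨E, hE⟩ := exists_right_inv C hC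
    -- each generator lies in J ⊔ 𝔪 * I
    have hcol : ∀ j, ∑ a : ↥s, a.1 * C a j ∈ J := by
      intro j
      have := h2 j
      rw [Fintype.sum_sum_type] at this
      simp only [f, Sum.elim_inl, Sum.elim_inr, neg_mul, Finset.sum_neg_distrib] at this
      rw [add_neg_eq_zero] at this
      change ∑ a : ↥s, a.1 * c (Sum.inl a) j ∈ J
      rw [this]
      exact J.sum_mem fun b _ => J.mul_mem_right _ (htJ b.2)
    have hsI : ∀ a ∈ s, a ∈ I := fun a ha => hs ▸ Ideal.subset_span ha
    have hgen : ∀ a' : ↥s, a'.1 ∈ J ⊔ maximalIdeal A * I := by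
      intro a'
      have e1 : ∑ k, (∑ a : ↥s, a.1 * C a k) * E k a' ∈ J :=
        J.sum_mem fun k _ => J.mul_mem_right _ (hcol k)
      have e2 : ∑ k, (∑ a : ↥s, a.1 * C a k) * E k a' =
          a'.1 + ∑ a : ↥s, ((∑ k, C a k * E k a') - (if a = a' then 1 else 0)) * a.1 := by
        have : ∑ k, (∑ a : ↥s, a.1 * C a k) * E k a' = ∑ a : ↥s, a.1 * ∑ k, C a k * E k a' := by
          simp only [Finset.sum_mul, Finset.mul_sum]
          rw [Finset.sum_comm]
          refine Finset.sum_congr rfl fun a _ => Finset.sum_congr rfl fun k _ => by ring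
        rw [this]
        simp only [sub_mul, Finset.sum_sub_distrib, ite_mul, one_mul, zero_mul,
          Finset.sum_ite_eq', Finset.mem_univ, if_true]
        have : ∑ a : ↥s, a.1 * ∑ k, C a k * E k a' = ∑ a : ↥s, (∑ k, C a k * E k a') * a.1 :=
          Finset.sum_congr rfl fun a _ => mul_comm _ _
        rw [this]
        abel
      have e3 : ∑ a : ↥s, ((∑ k, C a k * E k a') - (if a = a' then 1 else 0)) * a.1
          ∈ maximalIdeal A * I :=
        Ideal.sum_mem _ fun a _ => Ideal.mul_mem_mul (hE a a') (hsI a.1 a.2)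
      have e4 : a'.1 = ∑ k, (∑ a : ↥s, a.1 * C a k) * E k a' -
          ∑ a : ↥s, ((∑ k, C a k * E k a') - (if a = a' then 1 else 0)) * a.1 := by
        rw [e2]; abel
      rw [e4]
      exact Submodule.sub_mem _ (Submodule.mem_sup_left e1) (Submodule.mem_sup_right e3)
    have hle : I ≤ J ⊔ maximalIdeal A * I := by
      have : Ideal.span (s : Set A) ≤ J ⊔ maximalIdeal A * I := by
        rw [Ideal.span_le]
        intro a ha
        exact hgen ⟨a, ha⟩
      rwa [hs] at this
    have hfg : (I : Submodule A A).FG := ⟨s, hs⟩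
    exact Submodule.le_of_le_smul_of_le_jacobson_bot hfg (maximalIdeal_le_jacobson ⊥)
      (by rwa [smul_eq_mul])

end local_

end Groth.Agent.Helper8.Content
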