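import Mathlib
import Groth.Agent.S0354
import Groth.Agent.Helper3.GrpRegSm
import Groth.Agent.Helper2.SmoothRegSch
import Groth.Agent.Helper2.SmoothGrp

/-!
# Dimension of a group scheme and its cotangent space at the unit (assembly)
-/

set_option autoImplicit false
set_option linter.unusedSectionVars false
set_option linter.style.haveILetI false
set_option linter.unusedVariables false

universe u

open CategoryTheory CategoryTheory.Limits MonoidalCategory CartesianMonoidalCategory MonObj GrpObj
  AlgebraicGeometry

namespace Groth.Agent.Helper8.GrpDimCot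

variable (k : Type u) [Field k] (G : Over (Spec (CommRingCat.of k))) [GrpObj G]
  [LocallyOfFiniteType G.hom]

theorem isClosed_unit :
    IsClosed ({η[G].left (IsLocalRing.closedPoint k)} : Set G.left) := by
  haveI : JacobsonSpace G.left := LocallyOfFiniteType.jacobsonSpace G.hom
  have h : η[G].left ≫ G.hom = 𝟙 _ := Over.w η[G]
  haveI : LocallyOfFiniteType (η[G].left ≫ G.hom) := by rw [h]; infer_instance
  haveI : LocallyOfFiniteType η[G].left := locallyOfFiniteType_of_comp η[G].left G.hom
  exact η[G].left.closePoints_subset_preimage_closedPoints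
    (IsLocalRing.isClosed_singleton_closedPoint k)

theorem dim_eq : topologicalKrullDim G.left =
    ringKrullDim (G.left.presheaf.stalk (η[G].left (IsLocalRing.closedPoint k))) :=
  (Groth.Agent.S0354.result k G _ (isClosed_unit k G)).symm

theorem main :
    (topologicalKrullDim G.left ≤ ((Module.finrank (IsLocalRing.ResidueField (G.left.presheaf.stalk (η[G].left (IsLocalRing.closedPoint k))))
        (IsLocalRing.CotangentSpace (G.left.presheaf.stalk (η[G].left (IsLocalRing.closedPoint k)))) : ℕ∞) : WithBot ℕ∞)) ∧
    (Smooth G.hom ↔ topologicalKrullDim G.left = ((Module.finrank (IsLocalRing.ResidueField (G.left.presheaf.stalk (η[G].left (IsLocalRing.closedPoint k))))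
        (IsLocalRing.CotangentSpace (G.left.presheaf.stalk (η[G].left (IsLocalRing.closedPoint k)))) : ℕ∞) : WithBot ℕ∞)) ∧
    (Smooth G.hom ↔ ∃ U : G.left.Opens, η[G].left (IsLocalRing.closedPoint k) ∈ U ∧ Smooth (U.ι ≫ G.hom)) := by
  haveI : IsLocallyNoetherian G.left := LocallyOfFiniteType.isLocallyNoetherian G.hom
  set e := η[G].left (IsLocalRing.closedPoint k) with he
  have hcast : ∀ n : ℕ, ((n : ℕ∞) : WithBot ℕ∞) = (n : WithBot ℕ∞) := fun n => rfl
  have hmem : e ∈ Set.range (η[G]).left.base := ⟨_, rfl⟩
  refine ⟨?_, ?_, ?_⟩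
  · rw [dim_eq k G, hcast, ← IsLocalRing.spanFinrank_maximalIdeal_eq_finrank_cotangentSpace]
    exact ringKrullDim_le_spanFinrank_maximalIdeal _
  · rw [dim_eq k G, hcast]
    constructor
    · intro hs
      haveI := hs
      have hreg := Groth.Agent.Helper2.SmoothRegSch.stalk_regular_of_smooth k G.left G.hom e
      exact ((IsRegularLocalRing.iff_finrank_cotangentSpace _).mp hreg).symm
    · intro h
      exact Groth.Agent.Helper3.GrpRegSm.main k G e hmem
        ((IsRegularLocalRing.iff_finrank_cotangentSpace _).mpr h.symm)
  · constructor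
    · intro hs
      haveI := hs
      refine ⟨⊤, trivial, ?_⟩
      infer_instance
    · rintro ⟨U, heU, hU⟩
      haveI := hU
      haveI : LocallyOfFinitePresentation G.hom := inferInstance
      have hle := Groth.Agent.Helper2.SmoothGrp.le_smoothLocus_of_smooth G.hom U
      letI : GrpObj (Over.mk G.hom) := ‹GrpObj G›
      exact Groth.Agent.Helper3.GrpGeomRed.smooth_of_nonempty_smoothLocus G.hom ⟨e, hle heU⟩

end Groth.Agent.Helper8.GrpDimCot
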