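import Mathlib
import Groth.Prelude.Def_CurvBase
import Groth.Agent.Helper8.GrpDimCot

/-!
# Group schemes with trivial cotangent space at the unit (over an algebraically closed field)
-/

set_option autoImplicit false
set_option linter.unusedSectionVars false
set_option linter.style.haveILetI false
set_option linter.unusedVariables false

universe u

open CategoryTheory CategoryTheory.Limits MonoidalCategory CartesianMonoidalCategory MonObj GrpObj
  AlgebraicGeometry

namespace Groth.Agent.Helper8.CotTriv

/-- on a reduced one-point scheme locally of finite type over a field, the map from the field to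
the local ring is integral -/
theorem isIntegral_of_subsingleton (k : Type u) [Field k] (Y : Scheme.{u})
    (h : Y ⟶ Spec (CommRingCat.of k)) [Subsingleton Y] [IsReduced Y] [LocallyOfFiniteType h]
    (y : Y) :
    ((Y.presheaf.germ ⊤ y trivial).hom.comp (Coh.toGlobal h)).IsIntegral := by
  haveI : JacobsonSpace ↥(Spec (CommRingCat.of k)) := inferInstance
  haveI hfin : IsFinite h :=
    (isFinite_iff_locallyOfFiniteType_of_jacobsonSpace (f := h)).mpr inferInstance
  haveI : IsAffine Y := isAffine_of_isAffineHom h
  have hint : h.appTop.hom.IsIntegral :=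
    ((HasAffineProperty.iff_of_isAffine (P := @IsIntegralHom) (f := h)).mp inferInstance).2
  intro r
  obtain ⟨V, hyV, s, rfl⟩ := Y.presheaf.germ_exist r
  have hV : V = ⊤ := by
    ext x
    simp only [TopologicalSpace.Opens.coe_top, Set.mem_univ, iff_true]
    rw [Subsingleton.elim x y]
    exact hyV
  subst hV
  obtain ⟨P, hmonic, hP⟩ := hint s
  refine ⟨P.map (Scheme.ΓSpecIso (CommRingCat.of k)).hom.hom, hmonic.map _, ?_⟩
  rw [Polynomial.eval₂_map]
  have hcomp : ((Y.presheaf.germ ⊤ y trivial).hom.comp (Coh.toGlobal h)).comp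
      (Scheme.ΓSpecIso (CommRingCat.of k)).hom.hom =
      (Y.presheaf.germ ⊤ y trivial).hom.comp h.appTop.hom := by
    ext x
    change (Y.presheaf.germ ⊤ y trivial).hom (h.appTop.hom
      ((Scheme.ΓSpecIso (CommRingCat.of k)).inv.hom
        ((Scheme.ΓSpecIso (CommRingCat.of k)).hom.hom x))) = _
    have : (Scheme.ΓSpecIso (CommRingCat.of k)).inv.hom
        ((Scheme.ΓSpecIso (CommRingCat.of k)).hom.hom x) = x :=
      Iso.hom_inv_id_apply (C := CommRingCat) _ _
    rw [this]
    rfl
  rw [hcomp, ← Polynomial.hom_eval₂, hP, map_zero]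

variable (k : Type u) [Field k] [IsAlgClosed k] (G : Over (Spec (CommRingCat.of k))) [GrpObj G]
  [LocallyOfFiniteType G.hom] [QuasiCompact G.hom]

theorem main (e : G.left) (he : e ∈ Set.range (η[G]).left.base) :
    letI : G.left.Over (Spec (CommRingCat.of k)) := ⟨G.hom⟩
    Subsingleton (IsLocalRing.CotangentSpace (G.left.presheaf.stalk e)) ↔
      (Finite G.left ∧ DiscreteTopology G.left ∧
        ∀ g : G.left, Function.Bijective (Curv2.stalkMap k G.left g)) := by
  letI : G.left.Over (Spec (CommRingCat.of k)) := ⟨G.hom⟩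
  obtain ⟨pt, rfl⟩ := he
  obtain rfl : pt = IsLocalRing.closedPoint k := Subsingleton.elim (α := PrimeSpectrum k) _ _
  haveI : IsLocallyNoetherian G.left := LocallyOfFiniteType.isLocallyNoetherian G.hom
  constructor
  · intro hsub
    have hfr : Module.finrank
        (IsLocalRing.ResidueField (G.left.presheaf.stalk (η[G].left (IsLocalRing.closedPoint k))))
        (IsLocalRing.CotangentSpace
          (G.left.presheaf.stalk (η[G].left (IsLocalRing.closedPoint k)))) = 0 :=
      Module.finrank_zero_of_subsingleton
    obtain ⟨h1, h2, -⟩ := Groth.Agent.Helper8.GrpDimCot.main k G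
    rw [hfr] at h1 h2
    have hdim : topologicalKrullDim G.left ≤ 0 := h1
    haveI : Nonempty (TopologicalSpace.IrreducibleCloseds G.left) :=
      ⟨⟨closure {η[G].left (IsLocalRing.closedPoint k)}, isIrreducible_singleton.closure,
        isClosed_closure⟩⟩
    have hdim0 : topologicalKrullDim G.left = 0 :=
      le_antisymm hdim Order.krullDim_nonneg
    haveI hsm : Smooth G.hom := h2.mpr hdim0
    haveI : IsLocallyArtinian G.left := IsLocallyArtinian.of_topologicalKrullDim_le_zero hdim
    haveI : DiscreteTopology G.left := inferInstance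
    haveI : CompactSpace G.left := QuasiCompact.compactSpace_of_compactSpace G.hom
    refine ⟨finite_of_compact_of_discrete, inferInstance, fun g => ?_⟩
    let U : G.left.Opens := ⟨{g}, isOpen_discrete _⟩
    have hgU : g ∈ U := rfl
    haveI : Subsingleton ↥(U : Scheme.{u}) := ⟨fun x y => U.ι.isOpenEmbedding.injective (by
      have hx : U.ι x ∈ (U : Set ↥G.left) := by
        have : U.ι x ∈ Set.range U.ι := ⟨x, rfl⟩
        rwa [Scheme.Opens.range_ι] at this
      have hy : U.ι y ∈ (U : Set ↥G.left) := by
        have : U.ι y ∈ Set.range U.ι := ⟨y, rfl⟩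
        rwa [Scheme.Opens.range_ι] at this
      exact hx.trans hy.symm)⟩
    let y : ↥(U : Scheme.{u}) := ⟨g, hgU⟩
    haveI : Nonempty ↥(U : Scheme.{u}) := ⟨y⟩
    haveI : IsReduced G.left := Groth.Agent.Helper2.SmoothRegSch.isReduced_of_smooth k G.left G.hom
    haveI : IsReduced (U : Scheme.{u}) := isReduced_of_isOpenImmersion U.ι
    haveI : IsIntegral (U : Scheme.{u}) := (isIntegral_iff_irreducibleSpace_and_isReduced _).mpr
      ⟨⟨inferInstance⟩, inferInstance⟩
    have hint := isIntegral_of_subsingleton k (U : Scheme.{u}) (U.ι ≫ G.hom) y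
    have hbij := IsAlgClosed.ringHom_bijective_of_isIntegral _ hint
    -- transfer along the stalk isomorphism
    have hrel : ∀ c : k, (U.ι.stalkMap y).hom (Curv2.stalkMap k G.left (U.ι y) c) =
        ((U : Scheme.{u}).presheaf.germ ⊤ y trivial).hom.comp (Coh.toGlobal (U.ι ≫ G.hom)) c := by
      intro c
      change (U.ι.stalkMap y).hom ((G.left.presheaf.germ ⊤ (U.ι y) trivial).hom
        (Coh.toGlobal G.hom c)) = _
      rw [Scheme.Hom.germ_stalkMap_apply]
      change _ = ((U : Scheme.{u}).presheaf.germ ⊤ y trivial).hom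
        ((U.ι ≫ G.hom).appTop.hom ((Scheme.ΓSpecIso (CommRingCat.of k)).inv.hom c))
      rw [Scheme.Hom.comp_appTop]
      rfl
    have hiso : Function.Bijective (U.ι.stalkMap y).hom :=
      ConcreteCategory.bijective_of_isIso (U.ι.stalkMap y)
    have hcomp : Function.Bijective ((U.ι.stalkMap y).hom ∘ Curv2.stalkMap k G.left (U.ι y)) := by
      have : (U.ι.stalkMap y).hom ∘ Curv2.stalkMap k G.left (U.ι y) =
          ((U : Scheme.{u}).presheaf.germ ⊤ y trivial).hom.comp (Coh.toGlobal (U.ι ≫ G.hom)) :=
        funext hrel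
      rw [this]
      exact hbij
    exact (Function.Bijective.of_comp_iff' hiso _).mp hcomp
  · rintro ⟨-, -, hbij⟩
    have hb := hbij (η[G].left (IsLocalRing.closedPoint k))
    have hfield : IsField (G.left.presheaf.stalk (η[G].left (IsLocalRing.closedPoint k))) :=
      (RingEquiv.ofBijective _ hb).symm.toMulEquiv.isField (Field.toIsField k)
    have hmax := IsLocalRing.isField_iff_maximalIdeal_eq.mp hfield
    refine ⟨fun a b => ?_⟩
    obtain ⟨ma, rfl⟩ := Ideal.toCotangent_surjective _ a
    obtain ⟨mb, rfl⟩ := Ideal.toCotangent_surjective _ b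
    have ha : ma = 0 := Subtype.ext (Ideal.mem_bot.mp (hmax.le ma.2))
    have hb' : mb = 0 := Subtype.ext (Ideal.mem_bot.mp (hmax.le mb.2))
    rw [ha, hb']

end Groth.Agent.Helper8.CotTriv
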