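import Groth.Prelude.Def_FibCat2
import Mathlib

set_option autoImplicit false
universe v u

namespace Groth.Agent.Helper8.CovComp
open CategoryTheory

variable {C : Type u} [Category.{v} C]

lemma bf_ext {𝒳 𝒴 : BasedCategory.{v, max u v} C} (A B : 𝒳 ⥤ᵇ 𝒴)
    (h : A.toFunctor = B.toFunctor) : A = B := by
  rcases A with ⟨a, wa⟩
  rcases B with ⟨b, wb⟩
  cases h
  rfl

lemma map_comp_eq {U V W : C} (g : W ⟶ V) (h : V ⟶ U) :
    (⟨Over.map (g ≫ h), Over.mapForget_eq (g ≫ h)⟩ : FibCat.overCat W ⥤ᵇ FibCat.overCat U) =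
      BasedFunctor.comp (⟨Over.map g, Over.mapForget_eq g⟩ : FibCat.overCat W ⥤ᵇ FibCat.overCat V)
        (⟨Over.map h, Over.mapForget_eq h⟩ : FibCat.overCat V ⥤ᵇ FibCat.overCat U) := by
  apply bf_ext
  exact Over.mapComp_eq g h

theorem main (J : GrothendieckTopology C)
    {𝒳 𝒴 𝒵 : BasedCategory.{v, max u v} C}
    (F : 𝒳 ⥤ᵇ 𝒴) (G : 𝒴 ⥤ᵇ 𝒵)
    (hF : (∀ (U : C) (y : FibCat.overCat U ⥤ᵇ 𝒴), ∃ R ∈ J U, ∀ ⦃V : C⦄ (h : V ⟶ U), R.arrows h →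
        ∃ x : FibCat.overCat V ⥤ᵇ 𝒳,
          Nonempty (BasedFunctor.comp x F ≅ BasedFunctor.comp (⟨Over.map h, Over.mapForget_eq h⟩ : FibCat.overCat V ⥤ᵇ FibCat.overCat U) y)))
    (hG : (∀ (U : C) (y : FibCat.overCat U ⥤ᵇ 𝒵), ∃ R ∈ J U, ∀ ⦃V : C⦄ (h : V ⟶ U), R.arrows h →
        ∃ x : FibCat.overCat V ⥤ᵇ 𝒴,
          Nonempty (BasedFunctor.comp x G ≅ BasedFunctor.comp (⟨Over.map h, Over.mapForget_eq h⟩ : FibCat.overCat V ⥤ᵇ FibCat.overCat U) y))) :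
    (∀ (U : C) (y : FibCat.overCat U ⥤ᵇ 𝒵), ∃ R ∈ J U, ∀ ⦃V : C⦄ (h : V ⟶ U), R.arrows h →
        ∃ x : FibCat.overCat V ⥤ᵇ 𝒳,
          Nonempty (BasedFunctor.comp x (BasedFunctor.comp F G) ≅ BasedFunctor.comp (⟨Over.map h, Over.mapForget_eq h⟩ : FibCat.overCat V ⥤ᵇ FibCat.overCat U) y)) := by
  classical
  intro U y
  obtain ⟨R, hR, hx⟩ := hG U y
  choose xh hxh using hx
  have hS : ∀ ⦃V : C⦄ (h : V ⟶ U) (hh : R.arrows h), ∃ S ∈ J V, ∀ ⦃W : C⦄ (g : W ⟶ V), S.arrows g →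
      ∃ w : FibCat.overCat W ⥤ᵇ 𝒳, Nonempty (BasedFunctor.comp w F ≅
        BasedFunctor.comp (⟨Over.map g, Over.mapForget_eq g⟩ :
          FibCat.overCat W ⥤ᵇ FibCat.overCat V) (xh h hh)) := fun V h hh => hF V (xh h hh)
  choose S hSJ hSw using hS
  refine ⟨Sieve.bind R (fun V h hh => S h hh), J.bind_covering hR (fun V h hh => hSJ h hh), ?_⟩
  intro W f hf
  obtain ⟨V, g, h, hh, hg, rfl⟩ := hf
  obtain ⟨w, ⟨ε₁⟩⟩ := hSw h hh g hg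
  obtain ⟨ε₂⟩ := hxh h hh
  refine ⟨w, ⟨?_⟩⟩
  rw [map_comp_eq]
  let mg : FibCat.overCat W ⥤ᵇ FibCat.overCat V := ⟨Over.map g, Over.mapForget_eq g⟩
  let mh : FibCat.overCat V ⥤ᵇ FibCat.overCat U := ⟨Over.map h, Over.mapForget_eq h⟩
  have i1 : BasedFunctor.comp (BasedFunctor.comp w F) G ≅
      BasedFunctor.comp (BasedFunctor.comp mg (xh h hh)) G :=
    BasedNatIso.mkNatIso
      (Functor.isoWhiskerRight ((BasedNatTrans.forgetful _ _).mapIso ε₁) G.toFunctor)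
      (fun a => (BasedCategory.whiskerRight ε₁.hom G).isHomLift' a)
  have i2 : BasedFunctor.comp mg (BasedFunctor.comp (xh h hh) G) ≅
      BasedFunctor.comp mg (BasedFunctor.comp mh y) :=
    BasedNatIso.mkNatIso
      (Functor.isoWhiskerLeft mg.toFunctor ((BasedNatTrans.forgetful _ _).mapIso ε₂))
      (fun a => (BasedCategory.whiskerLeft mg ε₂.hom).isHomLift' a)
  exact i1 ≪≫ i2

end Groth.Agent.Helper8.CovComp
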