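import Groth.Prelude.Def_FibCat2
import Mathlib

set_option autoImplicit false
universe v u

namespace Groth.Agent.Helper8.CovFp
open CategoryTheory

theorem main {C : Type u} [Category.{v} C] (J : GrothendieckTopology C)
    {𝒳 𝒴 𝒵 : BasedCategory.{v, max u v} C}
    (F : 𝒳 ⥤ᵇ 𝒴) (G : 𝒵 ⥤ᵇ 𝒴)
    (hF : (∀ (U : C) (y : FibCat.overCat U ⥤ᵇ 𝒴), ∃ R ∈ J U, ∀ ⦃V : C⦄ (h : V ⟶ U), R.arrows h →
        ∃ x : FibCat.overCat V ⥤ᵇ 𝒳,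
          Nonempty (BasedFunctor.comp x F ≅ BasedFunctor.comp (⟨Over.map h, Over.mapForget_eq h⟩ : FibCat.overCat V ⥤ᵇ FibCat.overCat U) y))) :
    (∀ (U : C) (y : FibCat.overCat U ⥤ᵇ 𝒵), ∃ R ∈ J U, ∀ ⦃V : C⦄ (h : V ⟶ U), R.arrows h →
        ∃ x : FibCat.overCat V ⥤ᵇ (FibCat.fp G F),
          Nonempty (BasedFunctor.comp x (FibCat.fpFst G F) ≅ BasedFunctor.comp (⟨Over.map h, Over.mapForget_eq h⟩ : FibCat.overCat V ⥤ᵇ FibCat.overCat U) y)) := by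
  intro U y
  obtain ⟨R, hR, hx⟩ := hF U (BasedFunctor.comp y G)
  refine ⟨R, hR, fun V h hh => ?_⟩
  obtain ⟨x, ⟨ε⟩⟩ := hx h hh
  let a : FibCat.overCat V ⥤ᵇ 𝒵 :=
    BasedFunctor.comp (⟨Over.map h, Over.mapForget_eq h⟩ : FibCat.overCat V ⥤ᵇ FibCat.overCat U) y
  have e : BasedFunctor.comp a G ≅ BasedFunctor.comp x F := ε.symm
  exact ⟨FibCat.fpLift a x e, ⟨Iso.refl _⟩⟩

end Groth.Agent.Helper8.CovFp
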