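import Mathlib

set_option autoImplicit false

namespace Groth.Agent.Helper8.Cub72
open Finset

/-- the list of admissible coordinate values -/
def L : List ℤ := [-4, -3, -2, -1, 0, 1, 2, 3, 4]

/-- counting function -/
def N : ℕ → ℤ → ℤ → ℕ
  | 0, s, q => if s = 0 ∧ q = 0 then 1 else 0
  | k + 1, s, q => if q < 0 then 0 else (L.map fun c => N k (s - c) (q - c * c)).sum

/-- solutions with bounded coordinates -/
noncomputable def Sol (k : ℕ) (s q : ℤ) : Finset (Fin k → ℤ) :=
  (Fintype.piFinset fun _ => Finset.Icc (-4 : ℤ) 4).filter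
    (fun b => ∑ i, b i = s ∧ ∑ i, b i ^ 2 = q)

lemma Icc_eq : Finset.Icc (-4 : ℤ) 4 = L.toFinset := by decide

lemma L_nodup : L.Nodup := by decide

lemma card_Sol_succ (k : ℕ) (s q : ℤ) :
    (Sol (k + 1) s q).card = ∑ c ∈ Finset.Icc (-4 : ℤ) 4, (Sol k (s - c) (q - c * c)).card := by
  rw [Finset.card_eq_sum_card_fiberwise (f := fun b : Fin (k + 1) → ℤ => b 0)
    (t := Finset.Icc (-4 : ℤ) 4)]
  · refine Finset.sum_congr rfl fun c hc => ?_
    refine Finset.card_nbij' (fun b => Fin.tail b) (fun b => Fin.cons c b) ?_ ?_ ?_ ?_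
    · intro b hb
      simp only [Sol, mem_coe, mem_filter, Fintype.mem_piFinset, Fin.sum_univ_succ] at hb ⊢
      obtain ⟨⟨hb1, hb2, hb3⟩, hb0⟩ := hb
      refine ⟨fun i => hb1 i.succ, ?_, ?_⟩
      · simp only [Fin.tail]; rw [← hb2, hb0]; ring
      · simp only [Fin.tail]; rw [← hb3, hb0]; ring
    · intro b hb
      simp only [Sol, mem_coe, mem_filter, Fintype.mem_piFinset, Fin.sum_univ_succ,
        Fin.cons_zero, Fin.cons_succ] at hb ⊢
      obtain ⟨hb1, hb2, hb3⟩ := hb
      refine ⟨⟨fun i => ?_, ?_, ?_⟩, trivial⟩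
      · refine Fin.cases ?_ (fun j => ?_) i
        · simpa using hc
        · simpa using hb1 j
      · rw [hb2]; ring
      · rw [hb3]; ring
    · intro b hb
      simp only [mem_coe, mem_filter] at hb
      rw [← hb.2]
      exact Fin.cons_self_tail b
    · intro b _
      exact Fin.tail_cons _ _
  · intro b hb
    have hb' : b ∈ Sol (k + 1) s q := hb
    simp only [Sol, mem_filter, Fintype.mem_piFinset] at hb'
    exact hb'.1 0

lemma card_Sol (k : ℕ) : ∀ s q : ℤ, (Sol k s q).card = N k s q := by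
  induction k with
  | zero =>
    intro s q
    simp only [N]
    by_cases h : s = 0 ∧ q = 0
    · rw [if_pos h]
      obtain ⟨rfl, rfl⟩ := h
      rw [Finset.card_eq_one]
      refine ⟨fun i => i.elim0, ?_⟩
      ext b
      simp only [Sol, mem_filter, Fintype.mem_piFinset, mem_singleton]
      constructor
      · intro _; funext i; exact i.elim0
      · rintro rfl; simp
    · rw [if_neg h, Finset.card_eq_zero]
      ext b
      simp only [Sol, mem_filter, Fintype.mem_piFinset, Finset.univ_eq_empty, Finset.sum_empty]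
      constructor
      · rintro ⟨_, h1, h2⟩; exact absurd ⟨h1.symm, h2.symm⟩ h
      · intro hb; simp at hb
  | succ k ih =>
    intro s q
    simp only [N]
    by_cases hq : q < 0
    · rw [if_pos hq, Finset.card_eq_zero]
      ext b
      simp only [Sol, mem_filter, Fintype.mem_piFinset]
      constructor
      · rintro ⟨_, _, h2⟩
        have : (0 : ℤ) ≤ ∑ i, b i ^ 2 := Finset.sum_nonneg fun i _ => sq_nonneg _
        omega
      · intro hb; simp at hb
    · rw [if_neg hq, card_Sol_succ, Icc_eq, List.sum_toFinset _ L_nodup]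
      congr 1
      refine List.map_congr_left fun c _ => ?_
      exact ih _ _

lemma Icc15 : Finset.Icc (1 : ℤ) 5 = ([1, 2, 3, 4, 5] : List ℤ).toFinset := by decide

lemma total : ∑ a ∈ Finset.Icc (1 : ℤ) 5, N 6 (3 * a - 3) (a * a - 1) = 72 := by
  rw [Icc15, List.sum_toFinset _ (by decide)]
  decide +kernel

/-- the finite set of solutions -/
noncomputable def T : Finset (Σ _ : ℤ, Fin 6 → ℤ) :=
  (Finset.Icc (1 : ℤ) 5).sigma fun a => Sol 6 (3 * a - 3) (a * a - 1)

lemma card_T : T.card = 72 := by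
  rw [T, Finset.card_sigma]
  simp only [card_Sol]
  exact total

lemma bounds (a : ℤ) (b : Fin 6 → ℤ) (h1 : 3 * a - ∑ i, b i = 3) (h2 : a ^ 2 - ∑ i, b i ^ 2 = 1) :
    (1 ≤ a ∧ a ≤ 5) ∧ ∀ i, -4 ≤ b i ∧ b i ≤ 4 := by
  have cs : (∑ i, b i) ^ 2 ≤ 6 * ∑ i, b i ^ 2 := by
    have := sq_sum_le_card_mul_sum_sq (s := (Finset.univ : Finset (Fin 6))) (f := b)
    simpa using this
  have e1 : ∑ i, b i = 3 * a - 3 := by linarith
  have e2 : ∑ i, b i ^ 2 = a ^ 2 - 1 := by linarith
  rw [e1, e2] at cs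
  have ha : 1 ≤ a ∧ a ≤ 5 := by
    constructor
    · by_contra hcon
      push Not at hcon
      nlinarith
    · by_contra hcon
      push Not at hcon
      nlinarith
  refine ⟨ha, fun i => ?_⟩
  have hi : b i ^ 2 ≤ ∑ j, b j ^ 2 :=
    Finset.single_le_sum (f := fun j => b j ^ 2) (fun j _ => sq_nonneg (b j)) (Finset.mem_univ i)
  rw [e2] at hi
  have : b i ^ 2 ≤ 24 := by nlinarith
  constructor
  · by_contra hcon
    push Not at hcon
    nlinarith
  · by_contra hcon
    push Not at hcon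
    nlinarith

theorem main :
    {p : ℤ × (Fin 6 → ℤ) | 3 * p.1 - (Finset.univ.sum fun i => p.2 i) = 3 ∧
        p.1 ^ 2 - (Finset.univ.sum fun i => p.2 i ^ 2) = 1}.ncard = 72 := by
  have : {p : ℤ × (Fin 6 → ℤ) | 3 * p.1 - (Finset.univ.sum fun i => p.2 i) = 3 ∧
        p.1 ^ 2 - (Finset.univ.sum fun i => p.2 i ^ 2) = 1} =
      ↑(T.map (Equiv.sigmaEquivProd ℤ (Fin 6 → ℤ)).toEmbedding) := by
    ext ⟨a, b⟩
    simp only [Set.mem_ofPred_eq, coe_map, Equiv.coe_toEmbedding, Set.mem_image, mem_coe, T,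
      mem_sigma, Sigma.exists, Equiv.sigmaEquivProd_apply, Prod.mk.injEq, Sol, mem_filter,
      Fintype.mem_piFinset, mem_Icc]
    constructor
    · rintro ⟨h1, h2⟩
      obtain ⟨ha, hb⟩ := bounds a b h1 h2
      refine ⟨a, b, ⟨ha, hb, by linarith, by linarith⟩, rfl, rfl⟩
    · rintro ⟨a', b', ⟨_, _, h1, h2⟩, rfl, rfl⟩
      constructor
      · linarith
      · linarith
  rw [this, Set.ncard_coe_finset, Finset.card_map, card_T]

end Groth.Agent.Helper8.Cub72
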