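import Groth.Agent.Helper8.LinSub3
import Groth.Agent.Helper8.CubSing

namespace Groth.Agent.Helper8.CubPolar

open MvPolynomial Groth.Agent.Helper8.LinSub Groth.Agent.Helper8.CubLines
  Groth.Agent.Helper8.CubSing

universe u
variable {K : Type u} [Field K]

section smooth
variable [Infinite K] {F : MvPolynomial (Fin 4) K} (hF : F.IsHomogeneous 3) {a : Fin 4 → K}
  (hFa : eval a F = 0)
include hF hFa

lemma taylor2 (x : Fin 4 → K) (s : K) :
    eval (x + s • a) F = eval x F + s * eval x (Qp F a) + s ^ 2 * Lw F a x := by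
  rw [← eval_lineRestrict]
  have hdeg : (lineRestrict x a F).natDegree < 4 :=
    lt_of_le_of_lt (natDegree_lineRestrict_le x a hF) (by norm_num)
  rw [Polynomial.eval_eq_sum_range' hdeg]
  have hrefl := lineRestrict_eq_reflect hF x a
  have h2 : (lineRestrict x a F).coeff 2 = Lw F a x := by
    rw [hrefl, Polynomial.coeff_reflect, Polynomial.revAt_le (by norm_num)]
    norm_num
    rw [coeff_one_lineRestrict, Lw_apply]
  have h3 : (lineRestrict x a F).coeff 3 = 0 := by
    rw [hrefl, Polynomial.coeff_reflect, Polynomial.revAt_le (by norm_num)]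
    norm_num
    rw [coeff_zero_lineRestrict, hFa]
  simp only [Finset.sum_range_succ, Finset.sum_range_zero, h2, h3, coeff_zero_lineRestrict,
    coeff_one_lineRestrict, eval_Qp]
  ring

lemma Lw_a : Lw F a a = 0 := by
  rw [Lw_self hF, hFa, mul_zero]

lemma polar_add_smul (x : Fin 4 → K) (s : K) :
    eval (x + s • a) (Qp F a) = eval x (Qp F a) + 2 * s * Lw F a x := by
  have h1 := taylor2 hF hFa x (s + 1)
  have h2 := taylor2 hF hFa (x + s • a) 1
  have h3 := taylor2 hF hFa x s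
  have e : x + (s + 1) • a = x + s • a + (1 : K) • a := by
    rw [add_smul, add_assoc]
  have hL : Lw F a (x + s • a) = Lw F a x := by
    rw [map_add, map_smul, Lw_a hF hFa, smul_zero, add_zero]
  rw [e, h2, h3, hL] at h1
  linear_combination h1

end smooth

lemma mem_span3 {w a z x : Fin 4 → K} :
    x ∈ Submodule.span K (Set.range ![w, a, z]) ↔
      ∃ c0 c1 c2 : K, x = c0 • w + c1 • a + c2 • z := by
  rw [Submodule.mem_span_range_iff_exists_fun]
  constructor
  · rintro ⟨c, hc⟩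
    refine ⟨c 0, c 1, c 2, ?_⟩
    rw [← hc, Fin.sum_univ_three]
    simp
  · rintro ⟨c0, c1, c2, rfl⟩
    refine ⟨![c0, c1, c2], ?_⟩
    rw [Fin.sum_univ_three]
    simp

lemma li3_eq_zero {w a z : Fin 4 → K} (hli : LinearIndependent K ![w, a, z]) {c0 c1 c2 : K}
    (h : c0 • w + c1 • a + c2 • z = 0) : c0 = 0 ∧ c1 = 0 ∧ c2 = 0 := by
  have := Fintype.linearIndependent_iff.mp hli ![c0, c1, c2]
    (by rw [Fin.sum_univ_three]; simpa using h)
  exact ⟨by simpa using this 0, by simpa using this 1, by simpa using this 2⟩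

lemma exists_basis3 {H : Submodule K (Fin 4 → K)} (hH : Module.finrank K H = 3)
    {a : Fin 4 → K} (ha : a ≠ 0) (haH : a ∈ H) :
    ∃ z w : Fin 4 → K, z ∈ H ∧ w ∈ H ∧ LinearIndependent K ![w, a, z] ∧
      H = Submodule.span K (Set.range ![w, a, z]) := by
  have h1 : ∃ z ∈ H, z ∉ Submodule.span K {a} := by
    by_contra hcon
    push Not at hcon
    have hle : H ≤ Submodule.span K {a} := hcon
    have := Submodule.finrank_mono hle
    rw [hH, finrank_span_singleton ha] at this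
    omega
  obtain ⟨z, hzH, hz⟩ := h1
  have hli2 : LinearIndependent K ![a, z] := by
    rw [LinearIndependent.pair_iff' ha]
    intro c hc
    exact hz (Submodule.mem_span_singleton.mpr ⟨c, hc⟩)
  have h2 : ∃ w ∈ H, w ∉ Submodule.span K (Set.range ![a, z]) := by
    by_contra hcon
    push Not at hcon
    have hle : H ≤ Submodule.span K (Set.range ![a, z]) := hcon
    have := Submodule.finrank_mono hle
    rw [hH, finrank_span_eq_card hli2] at this
    simp at this
  obtain ⟨w, hwH, hw⟩ := h2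
  have hli3 : LinearIndependent K ![w, a, z] := by
    rw [show (![w, a, z] : Fin 3 → (Fin 4 → K)) = Fin.cons w ![a, z] from rfl,
      linearIndependent_fin_cons]
    exact ⟨hli2, hw⟩
  refine ⟨z, w, hzH, hwH, hli3, ?_⟩
  symm
  apply Submodule.eq_of_le_of_finrank_eq
  · rw [Submodule.span_le]
    rintro x ⟨i, rfl⟩
    fin_cases i
    · exact hwH
    · exact haH
    · exact hzH
  · rw [finrank_span_eq_card hli3, hH]
    simp

lemma finrank_span_pair {a p : Fin 4 → K} (ha : a ≠ 0) (hp : p ∉ Submodule.span K {a}) :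
    Module.finrank K (Submodule.span K {a, p}) = 2 := by
  have hli : LinearIndependent K ![a, p] := by
    rw [LinearIndependent.pair_iff' ha]
    intro c hc
    apply hp
    rw [Submodule.mem_span_singleton]
    exact ⟨c, hc⟩
  have := finrank_span_eq_card hli
  simp only [Fintype.card_fin] at this
  have e : Set.range ![a, p] = {a, p} := by
    ext x
    simp only [Matrix.range_cons, Matrix.range_empty, Set.union_empty, Set.union_singleton,
      Set.mem_insert_iff, Set.mem_singleton_iff]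
    tauto
  rw [e] at this
  exact this

/-- The line through `a` with direction `n • z - m • w`. -/
lemma line_props {H : Submodule K (Fin 4 → K)} {w a z : Fin 4 → K}
    (hli : LinearIndependent K ![w, a, z])
    (hHs : H = Submodule.span K (Set.range ![w, a, z])) {m n : K} (hmn : m ≠ 0 ∨ n ≠ 0) :
    ∃ U : Submodule K (Fin 4 → K), Module.finrank K U = 2 ∧ a ∈ U ∧ U ≤ H ∧
      ∀ c0 c1 c2 : K, c0 • w + c1 • a + c2 • z ∈ U ↔ m * c2 + n * c0 = 0 := by
  have ha0 : a ≠ 0 := hli.ne_zero 1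
  have hpa : n • z - m • w ∉ Submodule.span K {a} := by
    intro hmem
    obtain ⟨t, ht⟩ := Submodule.mem_span_singleton.mp hmem
    have h0 : (-m) • w + (-t) • a + n • z = 0 := by
      rw [neg_smul, neg_smul, ht]
      module
    obtain ⟨h1, -, h3⟩ := li3_eq_zero hli h0
    rcases hmn with h | h
    · exact h (neg_eq_zero.mp h1)
    · exact h h3
  refine ⟨Submodule.span K {a, n • z - m • w}, finrank_span_pair ha0 hpa,
    Submodule.subset_span (by simp), ?_, ?_⟩
  · rw [Submodule.span_le]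
    rintro x (rfl | rfl)
    · rw [hHs]
      exact Submodule.subset_span ⟨1, rfl⟩
    · rw [hHs, SetLike.mem_coe, mem_span3]
      exact ⟨-m, 0, n, by module⟩
  · intro c0 c1 c2
    rw [Submodule.mem_span_pair]
    constructor
    · rintro ⟨s, t, hst⟩
      have h0 : (c0 + t * m) • w + (c1 - s) • a + (c2 - t * n) • z = 0 := by
        have : c0 • w + c1 • a + c2 • z - (s • a + t • (n • z - m • w)) = 0 := by
          rw [hst, sub_self]
        rw [← this]
        module
      obtain ⟨h1, -, h3⟩ := li3_eq_zero hli h0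
      linear_combination n * h1 + m * h3
    · intro h
      have hmn' : n ≠ 0 ∨ -m ≠ 0 := by
        rcases hmn with h | h
        · exact Or.inr (neg_ne_zero.mpr h)
        · exact Or.inl h
      obtain ⟨t, h1, h2⟩ := exists_smul_of_prop (α := c2) (β := c0) hmn'
        (by linear_combination h)
      refine ⟨c1, t, ?_⟩
      rw [h1, h2]
      module

lemma caseB {H : Submodule K (Fin 4 → K)} {w a z : Fin 4 → K}
    (hli : LinearIndependent K ![w, a, z])
    (hHs : H = Submodule.span K (Set.range ![w, a, z]))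
    {P : MvPolynomial (Fin 4) K}
    (hinv : ∀ x ∈ H, ∀ s : K, eval (x + s • a) P = eval x P)
    {c m1 n1 m2 n2 : K}
    (hfac : ∀ α β : K, eval (α • z + β • w) P = c * ((m1 * α + n1 * β) * (m2 * α + n2 * β)))
    (hc : c ≠ 0) (h1 : m1 ≠ 0 ∨ n1 ≠ 0) (h2 : m2 ≠ 0 ∨ n2 ≠ 0) :
    ∃ U₁ U₂ : Submodule K (Fin 4 → K), Module.finrank K ↥U₁ = 2 ∧ Module.finrank K ↥U₂ = 2 ∧
      a ∈ U₁ ∧ a ∈ U₂ ∧ U₁ ≤ H ∧ U₂ ≤ H ∧
      {x : Fin 4 → K | x ∈ H ∧ eval x P = 0} =
        (U₁ : Set (Fin 4 → K)) ∪ (U₂ : Set (Fin 4 → K)) := by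
  obtain ⟨U₁, hf1, ha1, hle1, hmem1⟩ := line_props hli hHs h1
  obtain ⟨U₂, hf2, ha2, hle2, hmem2⟩ := line_props hli hHs h2
  refine ⟨U₁, U₂, hf1, hf2, ha1, ha2, hle1, hle2, ?_⟩
  have key : ∀ c0 c1 c2 : K, eval (c0 • w + c1 • a + c2 • z) P =
      c * ((m1 * c2 + n1 * c0) * (m2 * c2 + n2 * c0)) := by
    intro c0 c1 c2
    have e : c0 • w + c1 • a + c2 • z = (c2 • z + c0 • w) + c1 • a := by module
    have hm : c2 • z + c0 • w ∈ H := by
      rw [hHs, mem_span3]
      exact ⟨c0, 0, c2, by module⟩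
    rw [e, hinv _ hm c1, hfac]
  ext x
  simp only [Set.mem_setOf_eq, Set.mem_union, SetLike.mem_coe]
  constructor
  · rintro ⟨hxH, hPx⟩
    rw [hHs, mem_span3] at hxH
    obtain ⟨c0, c1, c2, rfl⟩ := hxH
    rw [key] at hPx
    rcases mul_eq_zero.mp hPx with h | h
    · exact absurd h hc
    rcases mul_eq_zero.mp h with h | h
    · left; exact (hmem1 _ _ _).mpr h
    · right; exact (hmem2 _ _ _).mpr h
  · rintro (hx | hx)
    · have hxH := hle1 hx
      refine ⟨hxH, ?_⟩
      rw [hHs, mem_span3] at hxH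
      obtain ⟨c0, c1, c2, rfl⟩ := hxH
      rw [key, (hmem1 _ _ _).mp hx]
      ring
    · have hxH := hle2 hx
      refine ⟨hxH, ?_⟩
      rw [hHs, mem_span3] at hxH
      obtain ⟨c0, c1, c2, rfl⟩ := hxH
      rw [key, (hmem2 _ _ _).mp hx]
      ring

lemma caseA [IsAlgClosed K] {F : MvPolynomial (Fin 4) K} (hF : F.IsHomogeneous 3)
    {H : Submodule K (Fin 4 → K)} {w a z : Fin 4 → K}
    (hli : LinearIndependent K ![w, a, z])
    (hHs : H = Submodule.span K (Set.range ![w, a, z]))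
    (hFinv : ∀ x ∈ H, ∀ s : K, eval (x + s • a) F = eval x F)
    {ℓ : MvPolynomial (Fin 4) K} (hℓirr : Irreducible ℓ)
    (hH : ∀ x : Fin 4 → K, x ∈ H ↔ eval x ℓ = 0) :
    ∃ L₁ L₂ L₃ : MvPolynomial (Fin 4) K, L₁.IsHomogeneous 1 ∧ L₂.IsHomogeneous 1 ∧
      L₃.IsHomogeneous 1 ∧ F - L₁ * L₂ * L₃ ∈ Ideal.span {ℓ} := by
  obtain ⟨c, M, hcard, hfac⟩ := binary_factor hF z w
  obtain ⟨l1, l2, l3, rfl⟩ := Multiset.card_eq_three.mp hcard
  have hfin : Module.finrank K H = 3 := by
    rw [hHs, finrank_span_eq_card hli]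
    simp
  have hn : ∃ n : Fin 4 → K, n ∉ H := by
    by_contra hcon
    push Not at hcon
    have : H = ⊤ := by
      rw [eq_top_iff]
      intro x _
      exact hcon x
    rw [this, finrank_top] at hfin
    simp at hfin
  obtain ⟨n, hn⟩ := hn
  have hli4 : LinearIndependent K ![n, w, a, z] := by
    rw [show (![n, w, a, z] : Fin 4 → (Fin 4 → K)) = Fin.cons n ![w, a, z] from rfl,
      linearIndependent_fin_cons]
    refine ⟨hli, ?_⟩
    rw [← hHs]
    exact hn
  obtain ⟨b, hb⟩ : ∃ b : Module.Basis (Fin 4) K (Fin 4 → K), ⇑b = ![n, w, a, z] :=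
    ⟨basisOfLinearIndependentOfCardEqFinrank hli4 (by simp),
      coe_basisOfLinearIndependentOfCardEqFinrank _ _⟩
  have hcz : ∀ c0 c1 c2 : K, b.coord 3 (c0 • w + c1 • a + c2 • z) = c2 := by
    intro c0 c1 c2
    have e : c0 • w + c1 • a + c2 • z = c0 • b 1 + c1 • b 2 + c2 • b 3 := by
      rw [hb]; rfl
    rw [e]
    simp [Module.Basis.coord_apply, Module.Basis.repr_self, Finsupp.single_apply]
  have hcw : ∀ c0 c1 c2 : K, b.coord 1 (c0 • w + c1 • a + c2 • z) = c0 := by
    intro c0 c1 c2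
    have e : c0 • w + c1 • a + c2 • z = c0 • b 1 + c1 • b 2 + c2 • b 3 := by
      rw [hb]; rfl
    rw [e]
    simp [Module.Basis.coord_apply, Module.Basis.repr_self, Finsupp.single_apply]
  obtain ⟨f, hf⟩ : ∃ f : K × K → ((Fin 4 → K) →ₗ[K] K),
      f = fun l => l.1 • b.coord 3 + l.2 • b.coord 1 := ⟨_, rfl⟩
  have hfx : ∀ (l : K × K) (c0 c1 c2 : K), f l (c0 • w + c1 • a + c2 • z) = l.1 * c2 + l.2 * c0 := by
    intro l c0 c1 c2
    rw [hf]
    simp only [LinearMap.add_apply, LinearMap.smul_apply, hcz, hcw, smul_eq_mul]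
  refine ⟨C c * linPoly (f l1), linPoly (f l2), linPoly (f l3),
    (linPoly_isHomogeneous _).C_mul _, linPoly_isHomogeneous _, linPoly_isHomogeneous _, ?_⟩
  apply Ideal.mem_span_singleton.mpr
  apply dvd_of_vanish_of_irreducible _ _ hℓirr
  intro x hx
  have hxH := (hH x).mpr hx
  rw [hHs, mem_span3] at hxH
  obtain ⟨c0, c1, c2, rfl⟩ := hxH
  have e : c0 • w + c1 • a + c2 • z = (c2 • z + c0 • w) + c1 • a := by module
  have hm : c2 • z + c0 • w ∈ H := by
    rw [hHs, mem_span3]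
    exact ⟨c0, 0, c2, by module⟩
  rw [map_sub, map_mul, map_mul, map_mul, eval_C, eval_linPoly, eval_linPoly, eval_linPoly,
    hfx, hfx, hfx, e, hFinv _ hm c1, hfac]
  simp only [Multiset.insert_eq_cons, Multiset.map_cons, Multiset.prod_cons,
    Multiset.map_singleton, Multiset.prod_singleton]
  ring

theorem main (K : Type u) [Field K] [IsAlgClosed K] [CharZero K]
    (F : MvPolynomial (Fin 4) K) (hF : F.IsHomogeneous 3) (hirr : Irreducible F)
    (hcone : ¬ ∃ v : Fin 4 → K, v ≠ 0 ∧ ∑ i : Fin 4, v i • MvPolynomial.pderiv i F = 0)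
    (a : Fin 4 → K) (ha : a ≠ 0) (hFa : MvPolynomial.eval a F = 0)
    (hsm : ∃ i : Fin 4, MvPolynomial.eval a (MvPolynomial.pderiv i F) ≠ 0)
    (ℓ : MvPolynomial (Fin 4) K)
    (hℓ : ℓ = ∑ i : Fin 4, MvPolynomial.C (MvPolynomial.eval a (MvPolynomial.pderiv i F)) * MvPolynomial.X i)
    (hT : ¬ ∃ L₁ L₂ L₃ : MvPolynomial (Fin 4) K, L₁.IsHomogeneous 1 ∧ L₂.IsHomogeneous 1 ∧ L₃.IsHomogeneous 1 ∧
      F - L₁ * L₂ * L₃ ∈ Ideal.span {ℓ})
    (P : MvPolynomial (Fin 4) K) (hP : P = ∑ i : Fin 4, a i • MvPolynomial.pderiv i F)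
    (H : Submodule K (Fin 4 → K)) (hH : ∀ x : Fin 4 → K, x ∈ H ↔ MvPolynomial.eval x ℓ = 0) :
    (∃ U₁ U₂ : Submodule K (Fin 4 → K), Module.finrank K ↥U₁ = 2 ∧ Module.finrank K ↥U₂ = 2 ∧ a ∈ U₁ ∧ a ∈ U₂ ∧
        U₁ ≤ H ∧ U₂ ≤ H ∧ {x : Fin 4 → K | x ∈ H ∧ MvPolynomial.eval x P = 0} = (U₁ : Set (Fin 4 → K)) ∪ (U₂ : Set (Fin 4 → K))) ∧
      ∀ U : Submodule K (Fin 4 → K), a ∈ U → Module.finrank K ↥U = 2 → (∀ u ∈ U, MvPolynomial.eval u F = 0) →
        U ≤ H ∧ ∀ u ∈ U, MvPolynomial.eval u P = 0 := by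
  have hℓx : ∀ x, eval x ℓ = Lw F a x := by
    intro x
    rw [hℓ, Lw_apply]
    simp [mul_comm]
  have hsingle : ∀ i : Fin 4, Lw F a (Pi.single i 1) = eval a (pderiv i F) := by
    intro i
    rw [Lw_apply]
    simp [Pi.single_apply]
  have hℓlin : ℓ = linPoly (Lw F a) := by
    rw [hℓ, linPoly]
    refine Finset.sum_congr rfl fun i _ => ?_
    rw [hsingle]
  have hL0 : Lw F a ≠ 0 := by
    obtain ⟨i, hi⟩ := hsm
    intro h0
    apply hi
    rw [← hsingle, h0, LinearMap.zero_apply]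
  have hℓirr : Irreducible ℓ := hℓlin ▸ linPoly_irreducible hL0
  have hPQ : P = Qp F a := by
    rw [hP, Qp]
    simp [MvPolynomial.smul_eq_C_mul]
  have hHker : H = LinearMap.ker (Lw F a) := by
    ext x
    rw [hH, hℓx, LinearMap.mem_ker]
  have hfin : Module.finrank K H = 3 := by
    have := Module.Dual.finrank_ker_add_one_of_ne_zero (f := Lw F a) hL0
    simp only [Module.finrank_fintype_fun_eq_card, Fintype.card_fin] at this
    rw [hHker]
    omega
  have haH : a ∈ H := by rw [hH, hℓx, Lw_a hF hFa]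
  have hLH : ∀ x ∈ H, Lw F a x = 0 := fun x hx => by
    rw [← hℓx]; exact (hH x).mp hx
  have hPinv : ∀ x ∈ H, ∀ s : K, eval (x + s • a) P = eval x P := by
    intro x hx s
    rw [hPQ, polar_add_smul hF hFa, hLH x hx]
    ring
  constructor
  · obtain ⟨z, w, hzH, hwH, hli, hHs⟩ := exists_basis3 hfin ha haH
    have hPhom : P.IsHomogeneous 2 := hPQ ▸ Qp_isHomogeneous hF a
    obtain ⟨c, M, hcard, hfac⟩ := binary_factor hPhom z w
    obtain ⟨l1, l2, rfl⟩ := Multiset.card_eq_two.mp hcard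
    have hfac' : ∀ α β : K, eval (α • z + β • w) P =
        c * ((l1.1 * α + l1.2 * β) * (l2.1 * α + l2.2 * β)) := by
      intro α β
      rw [hfac]
      simp
    by_cases hvan : ∀ α β : K, eval (α • z + β • w) P = 0
    · exfalso
      apply hT
      apply caseA hF hli hHs ?_ hℓirr hH
      intro x hx s
      have hPx : eval x (Qp F a) = 0 := by
        rw [← hPQ]
        have hx' := hx
        rw [hHs, mem_span3] at hx'
        obtain ⟨c0, c1, c2, rfl⟩ := hx'
        have e : c0 • w + c1 • a + c2 • z = (c2 • z + c0 • w) + c1 • a := by module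
        have hm : c2 • z + c0 • w ∈ H := by
          rw [hHs, mem_span3]
          exact ⟨c0, 0, c2, by module⟩
        rw [e, hPinv _ hm, hvan]
      rw [taylor2 hF hFa, hPx, hLH x hx]
      ring
    · push Not at hvan
      obtain ⟨α, β, hαβ⟩ := hvan
      rw [hfac'] at hαβ
      have hc : c ≠ 0 := by
        rintro rfl
        simp at hαβ
      have h1 : l1.1 ≠ 0 ∨ l1.2 ≠ 0 := by
        by_contra h
        push Not at h
        rw [h.1, h.2] at hαβ
        simp at hαβ
      have h2 : l2.1 ≠ 0 ∨ l2.2 ≠ 0 := by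
        by_contra h
        push Not at h
        rw [h.1, h.2] at hαβ
        simp at hαβ
      exact caseB hli hHs hPinv hfac' hc h1 h2
  · intro U haU hfinU hvanU
    have hU : IsLine F a U := ⟨haU, hfinU, hvanU⟩
    constructor
    · intro u hu
      rw [hH, hℓx]
      exact Lw_eq_zero_of_line hU hu
    · intro u hu
      rw [hPQ, eval_Qp]
      exact dv_eq_zero_of_line hU hu

end Groth.Agent.Helper8.CubPolar
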