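import Groth.Agent.Helper8.SmoothSub
import Groth.Agent.Helper8.LinSub2
import Groth.Agent.Helper8.Nodal5

namespace Groth.Agent.Helper8.CubThree

open MvPolynomial Module Groth.Agent.Helper8.LinSub

universe u
variable {k : Type u} [Field k] {σ : Type*} [Fintype σ] [DecidableEq σ]

/-- directional derivative. -/
noncomputable def Dv (e : σ → k) (f : MvPolynomial σ k) : MvPolynomial σ k :=
  ∑ i, C (e i) * pderiv i f

lemma eval_Dv (e z : σ → k) (f : MvPolynomial σ k) :
    eval z (Dv e f) = ∑ i, e i * eval z (pderiv i f) := by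
  simp [Dv]

lemma Dv_isHomogeneous (e : σ → k) {f : MvPolynomial σ k} {d : ℕ}
    (hf : f.IsHomogeneous d) : (Dv e f).IsHomogeneous (d - 1) :=
  IsHomogeneous.sum _ _ _ fun i _ => (hf.pderiv).C_mul _

lemma eval_Dv_add (e e' z : σ → k) (f : MvPolynomial σ k) :
    eval z (Dv (e + e') f) = eval z (Dv e f) + eval z (Dv e' f) := by
  simp only [eval_Dv, Pi.add_apply, add_mul, Finset.sum_add_distrib]

lemma eval_Dv_smul (c : k) (e z : σ → k) (f : MvPolynomial σ k) :
    eval z (Dv (c • e) f) = c * eval z (Dv e f) := by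
  simp only [eval_Dv, Pi.smul_apply, smul_eq_mul, Finset.mul_sum, mul_assoc]

lemma Dv_eq_zero_of_vanish [Infinite k] {f : MvPolynomial σ k} {z u : σ → k}
    (h : ∀ t : k, eval (z + t • u) f = 0) : eval z (Dv u f) = 0 := by
  rw [eval_Dv, ← coeff_one_lineRestrict, lineRestrict_eq_zero_of_forall z u f h]
  simp

section basis
variable {V : Type*} [AddCommGroup V] [Module k V] [FiniteDimensional k V]

/-- complete a nonzero vector of a two-dimensional subspace to a basis. -/
lemma exists_pair_basis {L : Submodule k V} (hL : finrank k L = 2) {x₀ : V} (hx₀ : x₀ ∈ L)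
    (h0 : x₀ ≠ 0) : ∃ u ∈ L, LinearIndependent k ![x₀, u] ∧
      L = Submodule.span k (Set.range ![x₀, u]) := by
  have hex : ∃ u ∈ L, u ∉ Submodule.span k {x₀} := by
    by_contra hcon
    push Not at hcon
    have hle : L ≤ Submodule.span k {x₀} := fun y hy => hcon y hy
    have := Submodule.finrank_mono hle
    rw [hL, finrank_span_singleton h0] at this
    omega
  obtain ⟨u, huL, hu⟩ := hex
  have hli : LinearIndependent k ![x₀, u] := by
    rw [LinearIndependent.pair_iff' h0]
    intro a ha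
    exact hu (Submodule.mem_span_singleton.mpr ⟨a, ha⟩)
  exact ⟨u, huL, hli, Nodal.span_range_pair_eq hli hx₀ huL hL⟩

end basis

theorem main [IsAlgClosed k] [CharZero k]
    (f : MvPolynomial (Fin 5) k) (hf : f.IsHomogeneous 3)
    (hsm : ∀ u : Fin 5 → k, u ≠ 0 → MvPolynomial.eval u f = 0 →
      ∃ i : Fin 5, MvPolynomial.eval u (MvPolynomial.pderiv i f) ≠ 0)
    (L₁ L₂ : Submodule k (Fin 5 → k)) (h₁ : Module.finrank k ↥L₁ = 2)
    (h₂ : Module.finrank k ↥L₂ = 2)
    (hf₁ : ∀ u ∈ L₁, MvPolynomial.eval u f = 0) (hf₂ : ∀ u ∈ L₂, MvPolynomial.eval u f = 0)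
    (hne : L₁ ≠ L₂) (hmeet : L₁ ⊓ L₂ ≠ ⊥) :
    ∃ G : Set (Submodule k (Fin 5 → k)), G.Finite ∧
      (∀ g ∈ G, Module.finrank k ↥g = 1 ∧ g ≤ L₁) ∧
      ∀ L : Submodule k (Fin 5 → k), Module.finrank k ↥L = 2 →
        (∀ u ∈ L, MvPolynomial.eval u f = 0) →
        L ⊓ L₁ ≠ ⊥ → L ⊓ L₂ ≠ ⊥ → ∃ g ∈ G, g ≤ L := by
  classical
  obtain ⟨x₀, hx₀mem, hx₀0⟩ := Submodule.exists_mem_ne_zero_of_ne_bot hmeet
  obtain ⟨u, huL, hliu, hL₁e⟩ := exists_pair_basis h₁ hx₀mem.1 hx₀0
  obtain ⟨p, hpL, hlip, hL₂e⟩ := exists_pair_basis h₂ hx₀mem.2 hx₀0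
  have hpL₁ : p ∉ L₁ := by
    intro hp
    apply hne
    symm
    apply Submodule.eq_of_le_of_finrank_eq _ (by rw [h₁, h₂])
    rw [hL₂e]
    exact Nodal.span_range_pair_le hx₀mem.1 hp
  -- membership in the two lines via coordinates
  have hmem₁ : ∀ y, y ∈ L₁ ↔ ∃ a b : k, y = a • x₀ + b • u := by
    intro y
    rw [hL₁e]
    exact Nodal.mem_span_range_pair
  have hmem₂ : ∀ y, y ∈ L₂ ↔ ∃ a b : k, y = a • x₀ + b • p := by
    intro y
    rw [hL₂e]
    exact Nodal.mem_span_range_pair
  obtain ⟨R, hR⟩ : ∃ R, R = lineRestrict u x₀ (Dv p f) := ⟨_, rfl⟩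
  have hRev : ∀ α : k, R.eval α = eval (u + α • x₀) (Dv p f) := by
    intro α
    rw [hR, eval_lineRestrict]
  have hz₁ne : ∀ α : k, u + α • x₀ ≠ 0 := by
    intro α h
    have := (LinearIndependent.pair_iff.mp hliu) α 1 (by rw [one_smul, add_comm]; exact h)
    exact one_ne_zero this.2
  refine ⟨{Submodule.span k {x₀}} ∪
    (fun α : k => Submodule.span k {u + α • x₀}) '' (R.roots.toFinset : Set k), ?_, ?_, ?_⟩
  · exact (Set.finite_singleton _).union ((Finset.finite_toSet _).image _)
  · rintro g (rfl | ⟨α, -, rfl⟩)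
    · exact ⟨finrank_span_singleton hx₀0, (Submodule.span_singleton_le_iff_mem _ _).mpr hx₀mem.1⟩
    · refine ⟨finrank_span_singleton (hz₁ne α), (Submodule.span_singleton_le_iff_mem _ _).mpr ?_⟩
      exact L₁.add_mem huL (L₁.smul_mem _ hx₀mem.1)
  · intro L hL2 hLv m₁ m₂
    by_cases hx₀L : x₀ ∈ L
    · exact ⟨_, Or.inl rfl, (Submodule.span_singleton_le_iff_mem _ _).mpr hx₀L⟩
    -- normalised points of `L` on the two lines
    have hnorm : ∀ (L' : Submodule k (Fin 5 → k)) (w : Fin 5 → k),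
        (∀ y, y ∈ L' ↔ ∃ a b : k, y = a • x₀ + b • w) → L ⊓ L' ≠ ⊥ →
        ∃ γ : k, w + γ • x₀ ∈ L := by
      intro L' w hmem hm
      obtain ⟨y, hymem, hy0⟩ := Submodule.exists_mem_ne_zero_of_ne_bot hm
      obtain ⟨a, b, rfl⟩ := (hmem y).mp hymem.2
      have hb : b ≠ 0 := by
        rintro rfl
        rw [zero_smul, add_zero] at hymem hy0
        have ha : a ≠ 0 := by
          rintro rfl
          exact hy0 (zero_smul _ _)
        exact hx₀L ((L.smul_mem_iff ha).mp hymem.1)
      refine ⟨a / b, ?_⟩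
      have e : w + (a / b) • x₀ = b⁻¹ • (a • x₀ + b • w) := by
        rw [smul_add, smul_smul, smul_smul, inv_mul_cancel₀ hb, one_smul, div_eq_inv_mul, add_comm]
      rw [e]
      exact L.smul_mem _ hymem.1
    obtain ⟨α, hz₁L⟩ := hnorm L₁ u hmem₁ m₁
    obtain ⟨β, hz₂L⟩ := hnorm L₂ p hmem₂ m₂
    have hz₁L₁ : u + α • x₀ ∈ L₁ := L₁.add_mem huL (L₁.smul_mem _ hx₀mem.1)
    have hz₂L₂ : p + β • x₀ ∈ L₂ := L₂.add_mem hpL (L₂.smul_mem _ hx₀mem.2)
    -- the first order condition
    have D1 : eval (u + α • x₀) (Dv (p + β • x₀) f) = 0 :=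
      Dv_eq_zero_of_vanish (fun t => hLv _ (L.add_mem hz₁L (L.smul_mem t hz₂L)))
    have D2 : ∀ y ∈ L₁, eval y (Dv x₀ f) = 0 := fun y hy =>
      Dv_eq_zero_of_vanish (fun t => hf₁ _ (L₁.add_mem hy (L₁.smul_mem t hx₀mem.1)))
    have hRα : R.eval α = 0 := by
      rw [hRev]
      rw [eval_Dv_add, eval_Dv_smul, D2 _ hz₁L₁, mul_zero, add_zero] at D1
      exact D1
    by_cases hR0 : R = 0
    · exfalso
      -- `f` vanishes on a plane
      have hh2 := Dv_isHomogeneous p hf
      have hDx₀ : eval x₀ (Dv p f) = 0 :=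
        Dv_eq_zero_of_vanish (fun t => hf₂ _ (L₂.add_mem hx₀mem.2 (L₂.smul_mem t hpL)))
      have hDp : ∀ y ∈ L₁, eval y (Dv p f) = 0 := by
        intro y hy
        obtain ⟨a, b, rfl⟩ := (hmem₁ y).mp hy
        by_cases hb : b = 0
        · subst hb
          rw [zero_smul, add_zero, eval_smul_of_isHomogeneous hh2, hDx₀, mul_zero]
        · have e : a • x₀ + b • u = b • (u + (a / b) • x₀) := by
            rw [smul_add, smul_smul, mul_div_cancel₀ _ hb, add_comm]
          rw [e, eval_smul_of_isHomogeneous hh2, ← hRev, hR0]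
          simp
      have hlam : ∀ y ∈ L₁, eval (p + β • x₀) (Dv y f) = 0 := by
        intro y hy
        obtain ⟨a, b, rfl⟩ := (hmem₁ y).mp hy
        have e : a • x₀ + b • u = b • (u + α • x₀) + (a - b * α) • x₀ := by module
        have l1 : eval (p + β • x₀) (Dv (u + α • x₀) f) = 0 :=
          Dv_eq_zero_of_vanish (fun t => hLv _ (L.add_mem hz₂L (L.smul_mem t hz₁L)))
        have l2 : eval (p + β • x₀) (Dv x₀ f) = 0 :=
          Dv_eq_zero_of_vanish (fun t => hf₂ _ (L₂.add_mem hz₂L₂ (L₂.smul_mem t hx₀mem.2)))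
        rw [e, eval_Dv_add, eval_Dv_smul, eval_Dv_smul, l1, l2]
        ring
      have hplane : ∀ y ∈ L₁, ∀ t : k, eval (y + t • (p + β • x₀)) f = 0 := by
        intro y hy t
        have hP : lineRestrict y (p + β • x₀) f = 0 := by
          have hdeg := natDegree_lineRestrict_le y (p + β • x₀) hf
          have hrefl := lineRestrict_eq_reflect hf y (p + β • x₀)
          ext n
          rw [Polynomial.coeff_zero]
          by_cases hn : 3 < n
          · exact Polynomial.coeff_eq_zero_of_natDegree_lt (lt_of_le_of_lt hdeg hn)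
          · have hn' : n ≤ 3 := not_lt.mp hn
            interval_cases n
            · rw [coeff_zero_lineRestrict]
              exact hf₁ y hy
            · rw [coeff_one_lineRestrict, ← eval_Dv, eval_Dv_add, eval_Dv_smul, hDp y hy,
                D2 y hy]
              ring
            · rw [hrefl, Polynomial.coeff_reflect, Polynomial.revAt_le (by norm_num)]
              norm_num
              rw [coeff_one_lineRestrict, ← eval_Dv]
              exact hlam y hy
            · rw [hrefl, Polynomial.coeff_reflect, Polynomial.revAt_le (by norm_num)]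
              norm_num
              rw [coeff_zero_lineRestrict]
              exact hLv _ hz₂L
        rw [← eval_lineRestrict, hP]
        simp
      have hz₂L₁ : p + β • x₀ ∉ L₁ := by
        intro h
        apply hpL₁
        have : p = (p + β • x₀) - β • x₀ := by module
        rw [this]
        exact L₁.sub_mem h (L₁.smul_mem _ hx₀mem.1)
      have hU : ∀ w ∈ L₁ ⊔ Submodule.span k {p + β • x₀}, eval w f = 0 := by
        intro w hw
        obtain ⟨y, hy, z, hz, rfl⟩ := Submodule.mem_sup.mp hw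
        obtain ⟨t, rfl⟩ := Submodule.mem_span_singleton.mp hz
        exact hplane y hy t
      have hlt : L₁ < L₁ ⊔ Submodule.span k {p + β • x₀} := by
        refine lt_of_le_of_ne le_sup_left ?_
        intro h
        apply hz₂L₁
        rw [h]
        exact Submodule.mem_sup_right (Submodule.mem_span_singleton_self _)
      have h3 := Submodule.finrank_lt_finrank_of_lt hlt
      have h5 := SmoothSub.main k 4 3 (by norm_num) f hf _ hU
        (fun w hw hw0 => hsm w hw0 (hU w hw))
      rw [h₁] at h3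
      have h3' : 3 ≤ Module.finrank k ↥(L₁ ⊔ Submodule.span k {p + β • x₀}) := h3
      have h5' : 2 * Module.finrank k ↥(L₁ ⊔ Submodule.span k {p + β • x₀}) ≤ 5 := h5
      have h6 := Nat.mul_le_mul_left 2 h3'
      exact absurd (h6.trans h5') (by norm_num)
    · refine ⟨_, Or.inr ⟨α, ?_, rfl⟩, (Submodule.span_singleton_le_iff_mem _ _).mpr hz₁L⟩
      simp only [Finset.mem_coe, Multiset.mem_toFinset]
      exact (Polynomial.mem_roots hR0).mpr hRα

end Groth.Agent.Helper8.CubThree
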