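import Mathlib
import Groth.Prelude.Def_W4c5m1nsnscurvesC

set_option autoImplicit false
universe u

namespace Groth.Agent.Helper8.Cubic3

open MvPolynomial W4c5m1nsnscurves

/-- exponent vector -/
noncomputable def ex (i j : ℕ) : Fin 2 →₀ ℕ := Finsupp.single 0 i + Finsupp.single 1 j

@[simp] theorem ex_zero (i j : ℕ) : ex i j 0 = i := by simp [ex]
@[simp] theorem ex_one (i j : ℕ) : ex i j 1 = j := by simp [ex]

theorem eq_ex (m : Fin 2 →₀ ℕ) : m = ex (m 0) (m 1) := by
  ext k
  fin_cases k <;> simp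

theorem ex_add (i j i' j' : ℕ) : ex i j + ex i' j' = ex (i + i') (j + j') := by
  ext k
  fin_cases k <;> simp

variable (R : Type u) [CommRing R] (a b c d : R)

/-- the relation -/
noncomputable abbrev rel : MvPolynomial (Fin 2) R :=
  X 0 * X 1 ^ 2 - X 0 ^ 2 * X 1 - (C a * X 0 * X 1 + C b * X 0 + C c * X 1 + C d)

theorem mono_eq (i j : ℕ) (r : R) :
    monomial (ex i j) r = C r * (X 0 ^ i * X 1 ^ j : MvPolynomial (Fin 2) R) := by
  rw [X_pow_eq_monomial, X_pow_eq_monomial, monomial_mul, C_mul_monomial, mul_one, mul_one]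
  rfl

theorem rel_eq : rel R a b c d = monomial (ex 1 2) 1 - monomial (ex 2 1) 1 -
    (monomial (ex 1 1) a + monomial (ex 1 0) b + monomial (ex 0 1) c + monomial (ex 0 0) d) := by
  simp only [mono_eq]
  simp only [map_one, pow_one, pow_zero]
  ring

theorem exists_coeff_ne_zero (g : MvPolynomial (Fin 2) R) (hg : g ≠ 0) :
    ∃ m : Fin 2 →₀ ℕ, 1 ≤ m 0 ∧ 2 ≤ m 1 ∧ coeff m (g * rel R a b c d) ≠ 0 := by
  have hne : g.support.Nonempty := by
    rw [Finset.nonempty_iff_ne_empty, Ne, MvPolynomial.support_eq_empty]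
    exact hg
  obtain ⟨m₀, hm₀, hmax⟩ := Finset.exists_max_image g.support (fun m => m 1) hne
  have hz : ∀ m : Fin 2 →₀ ℕ, m₀ 1 < m 1 → coeff m g = 0 := by
    intro m hm
    by_contra h
    exact absurd (hmax m (mem_support_iff.2 h)) (not_le.2 hm)
  have hterm : ∀ (s : Fin 2 →₀ ℕ) (r : R), s 1 ≤ 1 →
      coeff (m₀ + ex 1 2) (g * monomial s r) = 0 := by
    intro s r hs
    rw [coeff_mul_monomial']
    split_ifs with h
    · rw [hz, zero_mul]
      rw [Finsupp.tsub_apply, Finsupp.add_apply, ex_one]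
      omega
    · rfl
  refine ⟨m₀ + ex 1 2, ?_, ?_, ?_⟩
  · rw [Finsupp.add_apply, ex_zero]; omega
  · rw [Finsupp.add_apply, ex_one]; omega
  · rw [rel_eq, mul_sub, mul_sub, mul_add, mul_add, mul_add, coeff_sub, coeff_sub, coeff_add,
      coeff_add, coeff_add, coeff_mul_monomial, hterm _ _ (by simp), hterm _ _ (by simp),
      hterm _ _ (by simp), hterm _ _ (by simp), hterm _ _ (by simp)]
    simpa using mem_support_iff.1 hm₀

/-- class of a monomial -/
noncomputable def mkm (i j : ℕ) : CurveAlg3 R a b c d :=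
  Ideal.Quotient.mk _ (monomial (ex i j) 1)

theorem mkm_eq (i j : ℕ) : mkm R a b c d i j = Ideal.Quotient.mk _ (X 0 ^ i * X 1 ^ j) := by
  unfold mkm
  rw [mono_eq, map_one, one_mul]

theorem smul_mk (r : R) (p : MvPolynomial (Fin 2) R) :
    r • (Ideal.Quotient.mk (Ideal.span {rel R a b c d}) p) =
      Ideal.Quotient.mk (Ideal.span {rel R a b c d}) (C r * p) := by
  rw [← smul_eq_C_mul]
  rfl

theorem red (i j : ℕ) : mkm R a b c d (i + 1) (j + 2) =
    mkm R a b c d (i + 2) (j + 1) + a • mkm R a b c d (i + 1) (j + 1) + b • mkm R a b c d (i + 1) j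
      + c • mkm R a b c d i (j + 1) + d • mkm R a b c d i j := by
  simp only [mkm_eq]
  show Ideal.Quotient.mk (Ideal.span {rel R a b c d}) _ = _
  rw [smul_mk, smul_mk, smul_mk, smul_mk, ← map_add, ← map_add, ← map_add, ← map_add,
    Ideal.Quotient.mk_eq_mk_iff_sub_mem, Ideal.mem_span_singleton']
  refine ⟨X 0 ^ i * X 1 ^ j, ?_⟩
  ring

/-- the exponent of an index -/
def E : Option (ℕ ⊕ (Fin 2 × ℕ)) → ℕ × ℕ
  | none => (0, 0)
  | some (Sum.inl k) => (k + 1, 1)
  | some (Sum.inr (y, k)) => if y = 0 then (k + 1, 0) else (0, k + 1)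

theorem E_injective : Function.Injective E := by
  intro x y h
  rcases x with _ | (k | ⟨y₁, k⟩) <;> rcases y with _ | (k' | ⟨y₂, k'⟩)
  all_goals try (fin_cases y₁)
  all_goals try (fin_cases y₂)
  all_goals simp [E] at h ⊢
  all_goals try omega

theorem E_std (x : Option (ℕ ⊕ (Fin 2 × ℕ))) : (E x).1 = 0 ∨ (E x).2 ≤ 1 := by
  rcases x with _ | (k | ⟨y₁, k⟩)
  · simp [E]
  · simp [E]
  · fin_cases y₁ <;> simp [E]

theorem cmon3_eq (x : Option (ℕ ⊕ (Fin 2 × ℕ))) :
    cmon3 R a b c d x = mkm R a b c d (E x).1 (E x).2 := by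
  rw [mkm_eq]
  rcases x with _ | (k | ⟨y₁, k⟩)
  · simp [E, cmon3]
  · simp [E, cmon3]
  · fin_cases y₁ <;> simp [E, cmon3]

theorem std_mem (i j : ℕ) (h : i = 0 ∨ j ≤ 1) :
    mkm R a b c d i j ∈ Submodule.span R (Set.range (cmon3 R a b c d)) := by
  apply Submodule.subset_span
  rcases Nat.eq_zero_or_pos i with hi | hi
  · subst hi
    rcases Nat.eq_zero_or_pos j with hj | hj
    · subst hj
      exact ⟨none, by rw [cmon3_eq]; rfl⟩
    · obtain ⟨k, rfl⟩ := Nat.exists_eq_succ_of_ne_zero hj.ne'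
      exact ⟨some (Sum.inr (1, k)), by rw [cmon3_eq]; rfl⟩
  · obtain ⟨k, rfl⟩ := Nat.exists_eq_succ_of_ne_zero hi.ne'
    have hj : j = 0 ∨ j = 1 := by omega
    rcases hj with rfl | rfl
    · exact ⟨some (Sum.inr (0, k)), by rw [cmon3_eq]; rfl⟩
    · exact ⟨some (Sum.inl k), by rw [cmon3_eq]; rfl⟩

theorem all_mem (j : ℕ) : ∀ i : ℕ,
    mkm R a b c d i j ∈ Submodule.span R (Set.range (cmon3 R a b c d)) := by
  induction j using Nat.strong_induction_on with
  | _ j ih =>
    intro i
    by_cases h : i = 0 ∨ j ≤ 1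
    · exact std_mem R a b c d i j h
    · push Not at h
      obtain ⟨i', rfl⟩ := Nat.exists_eq_succ_of_ne_zero h.1
      obtain ⟨j', rfl⟩ : ∃ j', j = j' + 2 := ⟨j - 2, by omega⟩
      rw [Nat.succ_eq_add_one, red]
      refine Submodule.add_mem _ (Submodule.add_mem _ (Submodule.add_mem _ (Submodule.add_mem _
        ?_ ?_) ?_) ?_) ?_
      · exact ih _ (by omega) _
      · exact Submodule.smul_mem _ _ (ih _ (by omega) _)
      · exact Submodule.smul_mem _ _ (ih _ (by omega) _)
      · exact Submodule.smul_mem _ _ (ih _ (by omega) _)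
      · exact Submodule.smul_mem _ _ (ih _ (by omega) _)

theorem span_eq_top : Submodule.span R (Set.range (cmon3 R a b c d)) = ⊤ := by
  rw [eq_top_iff]
  rintro x -
  obtain ⟨p, rfl⟩ := Ideal.Quotient.mk_surjective x
  induction p using MvPolynomial.induction_on' with
  | monomial m r =>
    have : (Ideal.Quotient.mk (Ideal.span {rel R a b c d})) (monomial m r) =
        r • mkm R a b c d (m 0) (m 1) := by
      unfold mkm
      rw [smul_mk, C_mul_monomial, mul_one, ← eq_ex]
    rw [this]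
    exact Submodule.smul_mem _ _ (all_mem R a b c d _ _)
  | add p q hp hq =>
    rw [map_add]
    exact Submodule.add_mem _ hp hq

theorem linIndep : LinearIndependent R (cmon3 R a b c d) := by
  rw [linearIndependent_iff]
  intro l hl
  -- the lifted polynomial
  let v : Option (ℕ ⊕ (Fin 2 × ℕ)) → MvPolynomial (Fin 2) R :=
    fun x => monomial (ex (E x).1 (E x).2) 1
  have hv : LinearIndependent R v := by
    have h1 := (MvPolynomial.basisMonomials (Fin 2) R).linearIndependent
    have hinj : Function.Injective (fun x : Option (ℕ ⊕ (Fin 2 × ℕ)) => ex (E x).1 (E x).2) := by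
      intro x y hxy
      apply E_injective
      have h0 := DFunLike.congr_fun hxy 0
      have h1 := DFunLike.congr_fun hxy 1
      simp only [ex_zero, ex_one] at h0 h1
      exact Prod.ext h0 h1
    have := h1.comp _ hinj
    rw [MvPolynomial.coe_basisMonomials] at this
    exact this
  obtain ⟨p, hp⟩ : ∃ p, p = Finsupp.linearCombination R v l := ⟨_, rfl⟩
  have hmk : Ideal.Quotient.mk (Ideal.span {rel R a b c d}) p = 0 := by
    rw [← hl, hp, Finsupp.linearCombination_apply, Finsupp.linearCombination_apply, Finsupp.sum,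
      Finsupp.sum, map_sum]
    refine Finset.sum_congr rfl (fun x _ => ?_)
    rw [cmon3_eq]
    show _ = l x • Ideal.Quotient.mk (Ideal.span {rel R a b c d}) (monomial (ex (E x).1 (E x).2) 1)
    rw [smul_mk, ← smul_eq_C_mul]
  rw [Ideal.Quotient.eq_zero_iff_mem, Ideal.mem_span_singleton'] at hmk
  obtain ⟨g, hg⟩ := hmk
  have hcoeff : ∀ m : Fin 2 →₀ ℕ, 1 ≤ m 0 → 2 ≤ m 1 → coeff m p = 0 := by
    intro m h0 h1
    rw [hp, Finsupp.linearCombination_apply, Finsupp.sum, coeff_sum]
    refine Finset.sum_eq_zero (fun x _ => ?_)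
    rw [coeff_smul, coeff_monomial, if_neg, smul_zero]
    intro h
    have hx := E_std x
    rw [← h, ex_zero] at h0
    rw [← h, ex_one] at h1
    omega
  have hg0 : g = 0 := by
    by_contra hne
    obtain ⟨m, h0, h1, h2⟩ := exists_coeff_ne_zero R a b c d g hne
    rw [hg] at h2
    exact h2 (hcoeff m h0 h1)
  rw [hg0, zero_mul] at hg
  rw [← hg] at hp
  exact (linearIndependent_iff.1 hv) l hp.symm

theorem main : LinearIndependent R (cmon3 R a b c d) ∧
    Submodule.span R (Set.range (cmon3 R a b c d)) = ⊤ :=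
  ⟨linIndep R a b c d, span_eq_top R a b c d⟩

end Groth.Agent.Helper8.Cubic3
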