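import Mathlib
import Groth.Prelude.Def_W4c3irrattreebunCvg
set_option autoImplicit false
universe u
open W4c3irrattreebun

namespace Groth.Agent.Helper8.CvgConst

theorem finrank_tower_le (A B C : Type*) [Field A] [Field B] [Field C] [Algebra A B] [Algebra B C]
    [Algebra A C] [IsScalarTower A B C] [Module.Finite A C] :
    Module.Finite B C ∧ Module.finrank B C ≤ Module.finrank A C ∧ 0 < Module.finrank B C := by
  have h1 : Module.Finite B C := Module.Finite.of_restrictScalars_finite A B C
  have h2 : Module.Finite A B := Module.Finite.left A B C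
  have h3 := Module.finrank_mul_finrank A B C
  have h4 : 0 < Module.finrank A B := Module.finrank_pos
  have h5 : 0 < Module.finrank B C := Module.finrank_pos
  refine ⟨h1, ?_, h5⟩
  calc Module.finrank B C = 1 * Module.finrank B C := (one_mul _).symm
    _ ≤ Module.finrank A B * Module.finrank B C := Nat.mul_le_mul_right _ h4
    _ = _ := h3

/-- restriction of a diagram over the constants field to `k` -/
noncomputable def restrictDiag (k K : Type u) [Field k] [Field K] [Algebra k K] (e : ℕ)
    (D : CovDiag.{u} (algebraicClosure k K) K e) : CovDiag.{u} k K e :=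
  letI algkC : Algebra k D.KC := ((algebraMap K D.KC).comp (algebraMap k K)).toAlgebra
  letI algkB : Algebra k D.KB := ((@algebraMap (algebraicClosure k K) D.KB _ _ D.algkB).comp
    (algebraMap k (algebraicClosure k K))).toAlgebra
  { KC := D.KC
    KB := D.KB
    instFieldC := D.instFieldC
    instFieldB := D.instFieldB
    algKC := D.algKC
    algkC := algkC
    towerK := IsScalarTower.of_algebraMap_eq (fun _ => rfl)
    algkB := algkB
    algBC := D.algBC
    towerB := IsScalarTower.of_algebraMap_eq (fun x => by
      change algebraMap K D.KC (algebraMap k K x) =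
        algebraMap D.KB D.KC (@algebraMap (algebraicClosure k K) D.KB _ _ D.algkB
          (algebraMap k (algebraicClosure k K) x))
      have h1 := @IsScalarTower.algebraMap_apply (algebraicClosure k K) D.KB D.KC _ _ _ D.algkB
        D.algBC D.algkC D.towerB (algebraMap k (algebraicClosure k K) x)
      have h2 := @IsScalarTower.algebraMap_apply (algebraicClosure k K) K D.KC _ _ _ _
        D.algKC D.algkC D.towerK (algebraMap k (algebraicClosure k K) x)
      rw [← h1, h2]
      rfl)
    finiteK := D.finiteK
    t := D.t
    transc := D.transc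
    finiteT := D.finiteT
    finrank_eq := D.finrank_eq }

theorem restrictDiag_sep (k K : Type u) [Field k] [Field K] [Algebra k K] (e : ℕ)
    (D : CovDiag.{u} (algebraicClosure k K) K e) (h : Algebra.IsSeparable K D.KC) :
    Algebra.IsSeparable K (restrictDiag k K e D).KC := h

section Extend
variable (k K : Type u) [Field k] [Field K] [Algebra k K] (e : ℕ) (D : CovDiag.{u} k K e)

/-- the compositum of `KB` and the constants inside `KC` -/
noncomputable def KB' : IntermediateField D.KB D.KC :=
  IntermediateField.adjoin D.KB (Set.range ((algebraMap K D.KC).comp (algebraMap (algebraicClosure k K) K)))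

noncomputable def toKB' : (algebraicClosure k K) →+* KB' k K e D where
  toFun x := ⟨algebraMap K D.KC (algebraMap (algebraicClosure k K) K x),
    IntermediateField.subset_adjoin _ _ ⟨x, rfl⟩⟩
  map_one' := Subtype.ext (by simp)
  map_mul' x y := Subtype.ext (by simp)
  map_zero' := Subtype.ext (by simp)
  map_add' x y := Subtype.ext (by simp)

theorem KB'_algebraic : Algebra.IsAlgebraic D.KB (KB' k K e D) := by
  apply IntermediateField.isAlgebraic_adjoin
  rintro _ ⟨x, rfl⟩
  have hx : IsIntegral k x := (algebraicClosure.isAlgebraic (F := k) (E := K)).isIntegral.1 x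
  have hx1 : IsIntegral k (algebraMap (algebraicClosure k K) K x) := by
    exact hx.map (IsScalarTower.toAlgHom k (algebraicClosure k K) K)
  have hx2 : IsIntegral k (algebraMap K D.KC (algebraMap (algebraicClosure k K) K x)) :=
    hx1.map (IsScalarTower.toAlgHom k K D.KC)
  exact hx2.tower_top

theorem transc' : Transcendental (KB' k K e D) D.t := by
  haveI := KB'_algebraic k K e D
  exact (Algebra.IsAlgebraic.transcendental_iff D.KB (KB' k K e D)).1 D.transc

theorem adjoin_le' : ∀ x ∈ IntermediateField.adjoin D.KB ({D.t} : Set D.KC),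
    x ∈ IntermediateField.adjoin (KB' k K e D) ({D.t} : Set D.KC) := by
  have : IntermediateField.adjoin D.KB ({D.t} : Set D.KC) ≤
      (IntermediateField.adjoin (KB' k K e D) ({D.t} : Set D.KC)).restrictScalars D.KB := by
    rw [IntermediateField.adjoin_le_iff]
    rintro _ rfl
    exact IntermediateField.mem_adjoin_simple_self _ _
  exact fun x hx => this hx

theorem fin' : Module.Finite (IntermediateField.adjoin (KB' k K e D) ({D.t} : Set D.KC)) D.KC ∧
    Module.finrank (IntermediateField.adjoin (KB' k K e D) ({D.t} : Set D.KC)) D.KC ≤ e := by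
  letI : Algebra (IntermediateField.adjoin D.KB ({D.t} : Set D.KC))
      (IntermediateField.adjoin (KB' k K e D) ({D.t} : Set D.KC)) :=
    RingHom.toAlgebra
      { toFun := fun x => ⟨x.1, adjoin_le' k K e D x.1 x.2⟩
        map_one' := rfl
        map_mul' := fun _ _ => rfl
        map_zero' := rfl
        map_add' := fun _ _ => rfl }
  haveI : IsScalarTower (IntermediateField.adjoin D.KB ({D.t} : Set D.KC))
      (IntermediateField.adjoin (KB' k K e D) ({D.t} : Set D.KC)) D.KC :=
    IsScalarTower.of_algebraMap_eq (fun _ => rfl)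
  have := finrank_tower_le (IntermediateField.adjoin D.KB ({D.t} : Set D.KC))
      (IntermediateField.adjoin (KB' k K e D) ({D.t} : Set D.KC)) D.KC
  rw [D.finrank_eq] at this
  exact ⟨this.1, this.2.1⟩

noncomputable def extendDiag :
    CovDiag.{u} (algebraicClosure k K) K
      (Module.finrank (IntermediateField.adjoin (KB' k K e D) ({D.t} : Set D.KC)) D.KC) :=
  letI algkC : Algebra (algebraicClosure k K) D.KC :=
    ((algebraMap K D.KC).comp (algebraMap (algebraicClosure k K) K)).toAlgebra
  letI algkB : Algebra (algebraicClosure k K) (KB' k K e D) := (toKB' k K e D).toAlgebra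
  { KC := D.KC
    KB := KB' k K e D
    instFieldC := D.instFieldC
    instFieldB := inferInstance
    algKC := D.algKC
    algkC := algkC
    towerK := IsScalarTower.of_algebraMap_eq (fun _ => rfl)
    algkB := algkB
    algBC := inferInstance
    towerB := IsScalarTower.of_algebraMap_eq (fun x => rfl)
    finiteK := D.finiteK
    t := D.t
    transc := transc' k K e D
    finiteT := (fin' k K e D).1
    finrank_eq := rfl }

end Extend

theorem nat_sInf_eq_of (S S' : Set ℕ) (h1 : S' ⊆ S) (h2 : ∀ e ∈ S, ∃ e' ∈ S', e' ≤ e) :
    sInf S = sInf S' := by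
  rcases S.eq_empty_or_nonempty with hS | hS
  · have : S' = ∅ := Set.subset_eq_empty h1 hS
    rw [hS, this]
  · obtain ⟨e', he', hle⟩ := h2 _ (Nat.sInf_mem hS)
    apply le_antisymm
    · exact Nat.sInf_le (h1 (Nat.sInf_mem ⟨e', he'⟩))
    · exact (Nat.sInf_le he').trans hle

theorem main (k K : Type u) [Field k] [Field K] [Algebra k K] :
    W4c3irrattreebun.cvg k K = W4c3irrattreebun.cvg (algebraicClosure k K) K := by
  unfold W4c3irrattreebun.cvg
  apply nat_sInf_eq_of
  · rintro e ⟨D⟩
    exact ⟨restrictDiag k K e D⟩
  · rintro e ⟨D⟩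
    exact ⟨_, ⟨extendDiag k K e D⟩, (fin' k K e D).2⟩

theorem main2 (k K : Type u) [Field k] [Field K] [Algebra k K] :
    W4c3irrattreebun.scvg k K = W4c3irrattreebun.scvg (algebraicClosure k K) K := by
  unfold W4c3irrattreebun.scvg
  apply nat_sInf_eq_of
  · rintro e ⟨D, hD⟩
    exact ⟨restrictDiag k K e D, hD⟩
  · rintro e ⟨D, hD⟩
    exact ⟨_, ⟨extendDiag k K e D, hD⟩, (fin' k K e D).2⟩

end Groth.Agent.Helper8.CvgConst
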