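import Mathlib

namespace Groth.Agent.Helper8.CycBlock

open Matrix Polynomial

section gen
variable {S : Type*} [CommRing S] {m : Type*} [Fintype m] [DecidableEq m]

/-- the cyclic block matrix -/
def Bmat (A : Matrix m m S) (n : ℕ) : Matrix (Fin n × m) (Fin n × m) S :=
  Matrix.of fun (p q : Fin n × m) =>
        if p.1.val = 0 then (if q.1.val = n - 1 then A p.2 q.2 else 0)
        else (if q.1.val + 1 = p.1.val ∧ p.2 = q.2 then 1 else 0)

def Qmat (m : Type*) [Fintype m] [DecidableEq m] (t : S) (n : ℕ) :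
    Matrix (Fin n × m) (Fin n × m) S :=
  Matrix.of fun p q => if q.1.val ≤ p.1.val ∧ p.2 = q.2 then t ^ (p.1.val - q.1.val) else 0

def Umat (S : Type*) [CommRing S] (m : Type*) [Fintype m] [DecidableEq m] (n : ℕ) :
    Matrix (Fin n × m) m S :=
  Matrix.of fun p c => if p.1.val = 0 ∧ p.2 = c then 1 else 0

def Wmat (A : Matrix m m S) (t : S) (n : ℕ) : Matrix m (Fin n × m) S :=
  Matrix.of fun c q => t ^ (n - q.1.val) * A c q.2

theorem det_Q (t : S) (n : ℕ) : (Qmat m t n).det = 1 := by
  have hbt : (Qmat m t n).BlockTriangular (fun p => OrderDual.toDual p.1) := by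
    intro p q hpq
    have hpq' : p.1 < q.1 := OrderDual.toDual_lt_toDual.mp hpq
    simp only [Qmat, of_apply]
    rw [if_neg]
    rintro ⟨h, -⟩
    exact absurd hpq' (not_lt.mpr h)
  rw [hbt.det]
  apply Finset.prod_eq_one
  intro a _
  have : (Qmat m t n).toSquareBlock (fun p => OrderDual.toDual p.1) a = 1 := by
    ext ⟨p, hp⟩ ⟨q, hq⟩
    have hpq : p.1 = q.1 := by
      have := hp.trans hq.symm
      exact OrderDual.toDual.injective this
    simp only [toSquareBlock_def, Qmat, of_apply, one_apply, Subtype.mk.injEq]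
    by_cases h2 : p.2 = q.2
    · have : p = q := Prod.ext hpq h2
      subst this
      simp
    · have : p ≠ q := fun h => h2 (by rw [h])
      rw [if_neg (fun h => h2 h.2), if_neg this]
  rw [this, det_one]

theorem W_mul_U (A : Matrix m m S) (t : S) (n : ℕ) (hn : 1 ≤ n) :
    Wmat A t n * Umat S m n = t ^ n • A := by
  ext c b
  rw [Matrix.mul_apply, Finset.sum_eq_single ((⟨0, hn⟩ : Fin n), b)]
  · simp [Wmat, Umat]
  · rintro ⟨i, a⟩ _ hne
    simp only [Umat, of_apply]
    rw [if_neg, mul_zero]
    rintro ⟨h1, h2⟩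
    apply hne
    ext
    · simpa using h1
    · exact h2
  · intro h; exact absurd (Finset.mem_univ _) h

theorem U_mul_W_apply (A : Matrix m m S) (t : S) (n : ℕ) (p q : Fin n × m) :
    (Umat S m n * Wmat A t n) p q = if p.1.val = 0 then t ^ (n - q.1.val) * A p.2 q.2 else 0 := by
  rw [Matrix.mul_apply, Finset.sum_eq_single p.2]
  · simp only [Umat, Wmat, of_apply, and_true]
    split_ifs <;> simp
  · intro c _ hne
    simp only [Umat, of_apply]
    rw [if_neg, zero_mul]
    rintro ⟨_, h2⟩
    exact hne h2.symm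
  · intro h; exact absurd (Finset.mem_univ _) h

theorem B_mul_Q_apply (A : Matrix m m S) (t : S) (n : ℕ) (p q : Fin n × m) :
    (Bmat A n * Qmat m t n) p q =
      if p.1.val = 0 then A p.2 q.2 * t ^ (n - 1 - q.1.val)
      else if q.1.val ≤ p.1.val - 1 ∧ p.2 = q.2 then t ^ (p.1.val - 1 - q.1.val) else 0 := by
  have hn : 0 < n := lt_of_le_of_lt (Nat.zero_le _) p.1.2
  by_cases hp : p.1.val = 0
  · rw [if_pos hp, Matrix.mul_apply,
      Finset.sum_eq_single ((⟨n - 1, by omega⟩ : Fin n), q.2)]
    · simp only [Bmat, Qmat, of_apply, if_pos hp, if_true, and_true]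
      rw [if_pos]
      have := q.1.2
      omega
    · rintro ⟨l, c⟩ _ hne
      simp only [Bmat, Qmat, of_apply, if_pos hp]
      by_cases h1 : l.val = n - 1
      · rw [if_pos h1, if_neg, mul_zero]
        rintro ⟨_, h2⟩
        apply hne
        ext
        · simpa using h1
        · exact h2
      · rw [if_neg h1, zero_mul]
    · intro h; exact absurd (Finset.mem_univ _) h
  · rw [if_neg hp, Matrix.mul_apply,
      Finset.sum_eq_single ((⟨p.1.val - 1, by have := p.1.2; omega⟩ : Fin n), p.2)]
    · simp only [Bmat, Qmat, of_apply, if_neg hp, and_true]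
      rw [if_pos (by omega), one_mul]
    · rintro ⟨l, c⟩ _ hne
      simp only [Bmat, Qmat, of_apply, if_neg hp]
      rw [if_neg, zero_mul]
      rintro ⟨h1, h2⟩
      apply hne
      ext
      · simp only; omega
      · exact h2.symm
    · intro h; exact absurd (Finset.mem_univ _) h

theorem key_mul (A : Matrix m m S) (t : S) (n : ℕ) :
    (1 - t • Bmat A n) * Qmat m t n = 1 - Umat S m n * Wmat A t n := by
  rw [Matrix.sub_mul, Matrix.one_mul, Matrix.smul_mul]
  ext p q
  rw [Matrix.sub_apply, Matrix.sub_apply, Matrix.smul_apply, B_mul_Q_apply, U_mul_W_apply,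
    smul_eq_mul]
  have hq := q.1.2
  have hp := p.1.2
  by_cases hp0 : p.1.val = 0
  · rw [if_pos hp0, if_pos hp0]
    simp only [Qmat, of_apply, one_apply]
    have e1 : t * (A p.2 q.2 * t ^ (n - 1 - q.1.val)) = t ^ (n - q.1.val) * A p.2 q.2 := by
      have : n - q.1.val = (n - 1 - q.1.val) + 1 := by omega
      rw [this, pow_succ]; ring
    rw [e1]
    congr 1
    by_cases hpq : p = q
    · subst hpq
      simp
    · rw [if_neg hpq, if_neg]
      rintro ⟨h1, h2⟩
      apply hpq
      ext
      · omega
      · exact h2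
  · rw [if_neg hp0, if_neg hp0, sub_zero]
    simp only [Qmat, of_apply, one_apply]
    by_cases h2 : p.2 = q.2
    · simp only [h2, and_true]
      rcases lt_trichotomy q.1.val p.1.val with h | h | h
      · rw [if_pos h.le, if_pos (by omega), if_neg]
        · have : p.1.val - q.1.val = (p.1.val - 1 - q.1.val) + 1 := by omega
          rw [this, pow_succ]; ring
        · intro hpq; rw [hpq] at h; exact lt_irrefl _ h
      · rw [if_pos h.le, if_neg (by omega), if_pos, h, Nat.sub_self, pow_zero, mul_zero, sub_zero]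
        ext
        · exact h.symm
        · exact h2
      · rw [if_neg (by omega), if_neg (by omega), if_neg, mul_zero, sub_zero]
        intro hpq; rw [hpq] at h; exact lt_irrefl _ h
    · rw [if_neg (fun h => h2 h.2), if_neg (fun h => h2 h.2), if_neg (fun h => h2 (by rw [h])),
        mul_zero, sub_zero]

theorem det_gen (A : Matrix m m S) (t : S) (n : ℕ) (hn : 1 ≤ n) :
    (1 - t • Bmat A n).det = (1 - t ^ n • A).det := by
  calc (1 - t • Bmat A n).det = (1 - t • Bmat A n).det * (Qmat m t n).det := by
        rw [det_Q, mul_one]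
    _ = ((1 - t • Bmat A n) * Qmat m t n).det := (det_mul _ _).symm
    _ = (1 - Umat S m n * Wmat A t n).det := by rw [key_mul]
    _ = (1 - Wmat A t n * Umat S m n).det := det_one_sub_mul_comm _ _
    _ = (1 - t ^ n • A).det := by rw [W_mul_U A t n hn]

end gen

theorem main (R : Type) [CommRing R] (m : Type) [Fintype m] [DecidableEq m]
    (A : Matrix m m R) (n : ℕ) (hn : 1 ≤ n) :
    (Matrix.of fun (p q : Fin n × m) =>
        if p.1.val = 0 then (if q.1.val = n - 1 then A p.2 q.2 else 0)
        else (if q.1.val + 1 = p.1.val ∧ p.2 = q.2 then 1 else 0)).charpolyRev =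
      Polynomial.expand R n A.charpolyRev := by
  have hB : (Matrix.of fun (p q : Fin n × m) =>
        if p.1.val = 0 then (if q.1.val = n - 1 then A p.2 q.2 else 0)
        else (if q.1.val + 1 = p.1.val ∧ p.2 = q.2 then 1 else 0)).map (C : R →+* R[X]) =
      Bmat (A.map (C : R →+* R[X])) n := by
    ext p q
    simp only [Bmat, map_apply, of_apply]
    split_ifs <;> simp
  unfold Matrix.charpolyRev
  rw [hB, det_gen _ _ _ hn]
  have : (expand R n) ((1 - (X : R[X]) • A.map ⇑C).det) =
      ((expand R n : R[X] →ₐ[R] R[X]) : R[X] →+* R[X]) ((1 - (X : R[X]) • A.map ⇑C).det) := rfl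
  rw [this, RingHom.map_det]
  congr 1
  ext i j : 1
  simp only [Matrix.sub_apply, Matrix.smul_apply, Matrix.map_apply, smul_eq_mul,
    RingHom.mapMatrix_apply, Matrix.one_apply,
    RingHom.coe_coe, map_sub, map_mul, expand_X, expand_C]
  split_ifs <;> simp

end Groth.Agent.Helper8.CycBlock
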