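import Mathlib
import Groth.Agent.Helper8.CycD

namespace Groth.Agent.Helper8.CycE

open CycDet IsLocalRing Groth.Agent.Helper8.CycD

universe u v

variable (R : Type u) [CommRing R] [IsLocalRing R] (M : Type v) [AddCommGroup M] [Module R M]
  [Module (ResidueField R) M] [IsScalarTower R (ResidueField R) M]

lemma smul_eq_residue_smul (r : R) (x : M) : r • x = IsLocalRing.residue R r • x := by
  rw [← IsLocalRing.ResidueField.algebraMap_eq, algebraMap_smul]

lemma smul_eq_zero_of_mem (r : R) (hr : r ∈ maximalIdeal R) (x : M) : r • x = 0 := by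
  rw [smul_eq_residue_smul R M, (IsLocalRing.residue_eq_zero_iff r).2 hr, zero_smul]

lemma all_adm {l : ℕ} (e : Fin l → M) : IsAdmissible R M e := by
  intro i r hr
  rw [smul_eq_zero_of_mem R M r hr]
  exact Submodule.zero_mem _

/-- wedge vanishes when an entry lies in the span of earlier ones -/
lemma wedge_zero {l : ℕ} (e : Fin l → M) (a : Fin l) (h : e a ∈ spanBefore R M e a) :
    exteriorPower.ιMulti (ResidueField R) l e = 0 := by
  apply AlternatingMap.map_linearDependent
  intro hli
  have h1 : e a ∉ Submodule.span (ResidueField R) (e '' {j : Fin l | (j : ℕ) < a}) := by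
    apply hli.notMem_span_image
    simp
  apply h1
  have h2 : Submodule.span R (e '' {j : Fin l | (j : ℕ) < a}) ≤
      (Submodule.span (ResidueField R) (e '' {j : Fin l | (j : ℕ) < a})).restrictScalars R :=
    Submodule.span_le_restrictScalars R (ResidueField R) _
  exact h2 h

variable (l : ℕ)

/-- the map on free symbols -/
noncomputable def φ₀ : Free R M l →ₗ[ResidueField R] ⋀[ResidueField R]^l M :=
  Finsupp.linearCombination (ResidueField R)
    (fun e : Adm R M l => exteriorPower.ιMulti (ResidueField R) l e.1)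

lemma φ₀_sym (e : Adm R M l) :
    φ₀ R M l (sym R M e) = exteriorPower.ιMulti (ResidueField R) l e.1 := by
  unfold φ₀ sym
  rw [Finsupp.linearCombination_single, one_smul]

lemma φ₀_rel : Submodule.span (ResidueField R) (relSet R M l) ≤ LinearMap.ker (φ₀ R M l) := by
  classical
  rw [Submodule.span_le]
  rintro x ((⟨e, a, h, rfl⟩ | ⟨e, e', a, c, h1, h2, rfl⟩) | ⟨e, e', a, b, hab, h1, h2, rfl⟩)
  · rw [SetLike.mem_coe, LinearMap.mem_ker, φ₀_sym]
    exact wedge_zero R M e.1 a h
  · rw [SetLike.mem_coe, LinearMap.mem_ker, map_sub, map_smul, φ₀_sym, φ₀_sym, sub_eq_zero]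
    obtain ⟨w, hw⟩ : ∃ w, w = e.1 a - (c : R) • e'.1 a := ⟨_, rfl⟩
    have he : e.1 = Function.update e'.1 a ((c : R) • e'.1 a + w) := by
      funext j
      by_cases hj : j = a
      · rw [hj, Function.update_self, hw]; abel
      · rw [Function.update_of_ne hj]; exact h1 j hj
    have hsp : spanBefore R M e.1 a = spanBefore R M (Function.update e'.1 a w) a := by
      apply spanBefore_congr
      intro j hj
      have hja : j ≠ a := by intro h; rw [h] at hj; omega
      rw [Function.update_of_ne hja]
      exact h1 j hja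
    have hzero : exteriorPower.ιMulti (ResidueField R) l (Function.update e'.1 a w) = 0 := by
      apply wedge_zero R M _ a
      rw [Function.update_self, ← hsp, hw]
      exact h2
    rw [he, AlternatingMap.map_update_add, hzero, add_zero, smul_eq_residue_smul R M,
      AlternatingMap.map_update_smul, Function.update_eq_self]
  · rw [SetLike.mem_coe, LinearMap.mem_ker, map_add, φ₀_sym, φ₀_sym, h2]
    have hne : a ≠ b := by intro h; rw [h] at hab; omega
    rw [AlternatingMap.map_swap _ _ hne, add_neg_cancel]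

/-- the induced map on `DetOfLen` -/
noncomputable def Φ₁ : DetOfLen R M l →ₗ[ResidueField R] ⋀[ResidueField R]^l M :=
  Submodule.liftQ _ (φ₀ R M l) (φ₀_rel R M l)

lemma Φ₁_sb (e : Adm R M l) :
    Φ₁ R M l (Submodule.Quotient.mk (sym R M e)) =
      exteriorPower.ιMulti (ResidueField R) l e.1 := by
  unfold Φ₁
  rw [Submodule.liftQ_apply, φ₀_sym]

lemma Φ₁_surj : Function.Surjective (Φ₁ R M l) := by
  rw [← LinearMap.range_eq_top, eq_top_iff, ← exteriorPower.ιMulti_span, Submodule.span_le]
  rintro _ ⟨v, rfl⟩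
  exact ⟨Submodule.Quotient.mk (sym R M ⟨v, all_adm R M v⟩), Φ₁_sb R M l _⟩

variable [Module.Finite (ResidueField R) M]

lemma length_eq : Module.length R M = Module.finrank (ResidueField R) M := by
  rw [← Module.length_eq_finrank,
    Module.length_eq_of_surjective (S := R) (R := ResidueField R) (M := M)
      IsLocalRing.residue_surjective]

theorem main : ∃ Φ : CycDet.Det R M ≃ₗ[ResidueField R]
      (⋀[ResidueField R]^((Module.length R M).toNat) M),
    ∀ e : CycDet.Adm R M (Module.length R M).toNat,
      Φ (CycDet.symbol R M e) =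
        exteriorPower.ιMulti (ResidueField R) ((Module.length R M).toNat) e.1 := by
  obtain ⟨l, hl⟩ : ∃ l : ℕ, l = (Module.length R M).toNat := ⟨_, rfl⟩
  have hlf : l = Module.finrank (ResidueField R) M := by
    rw [hl, length_eq R M, ENat.toNat_coe]
  have hlen : Module.length R M ≤ l := by
    rw [length_eq R M, hlf]
  have hfr : Module.finrank (ResidueField R) (⋀[ResidueField R]^l M) = 1 := by
    rw [exteriorPower.finrank_eq, hlf, Nat.choose_self]
  subst hl
  obtain ⟨v₀, hv₀⟩ := exists_gen' R M _ hlen
  have hnt : Nontrivial (⋀[ResidueField R]^((Module.length R M).toNat) M) :=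
    Module.nontrivial_of_finrank_pos (R := ResidueField R) (by rw [hfr]; exact Nat.one_pos)
  obtain ⟨w, hw⟩ := exists_ne (0 : ⋀[ResidueField R]^((Module.length R M).toNat) M)
  have hΦv₀ : Φ₁ R M _ v₀ ≠ 0 := by
    intro h0
    obtain ⟨v, hv⟩ := Φ₁_surj R M _ w
    obtain ⟨r, hr⟩ := hv₀ v
    apply hw
    rw [← hv, ← hr, map_smul, h0, smul_zero]
  have hinj : Function.Injective (Φ₁ R M (Module.length R M).toNat) := by
    rw [injective_iff_map_eq_zero]
    intro x hx
    obtain ⟨r, hr⟩ := hv₀ x
    rw [← hr, map_smul, smul_eq_zero] at hx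
    rcases hx with h | h
    · rw [← hr, h, zero_smul]
    · exact absurd h hΦv₀
  refine ⟨LinearEquiv.ofBijective (Φ₁ R M _) ⟨hinj, Φ₁_surj R M _⟩, fun e => ?_⟩
  rw [LinearEquiv.ofBijective_apply]
  exact Φ₁_sb R M _ e

end Groth.Agent.Helper8.CycE
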