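import Mathlib
import Groth.Agent.Helper8.CycD

namespace Groth.Agent.Helper8.CycN

open CycDet IsLocalRing Groth.Agent.Helper8.CycD

universe u v

variable (R : Type u) [CommRing R] [IsLocalRing R]

section maps
variable {M : Type v} [AddCommGroup M] [Module R M] {M' : Type v} [AddCommGroup M'] [Module R M']
variable (π : M →ₗ[R] M') {n : ℕ}

lemma map_spanBefore (g : Fin n → M) (t : ℕ) :
    (spanBefore R M g t).map π = spanBefore R M' (π ∘ g) t := by
  unfold spanBefore
  rw [Submodule.map_span, Set.image_image]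
  rfl

lemma adm_map (g : Fin n → M) (hg : IsAdmissible R M g) : IsAdmissible R M' (π ∘ g) := by
  intro j r hr
  rw [← map_spanBefore]
  exact ⟨r • g j, hg j r hr, by simp⟩

end maps

section remove
variable {M : Type v} [AddCommGroup M] [Module R M] {l : ℕ}

lemma spanBefore_remove (h : Fin (l + 1) → M) (i : Fin (l + 1))
    (hi : h i ∈ spanBefore R M h i) (j : Fin l) :
    spanBefore R M (h ∘ i.succAbove) j = spanBefore R M h (i.succAbove j) := by
  apply le_antisymm
  · apply spanBefore_le
    intro j' hj'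
    apply mem_spanBefore_of_lt
    have : i.succAbove j' < i.succAbove j := (Fin.strictMono_succAbove i) (Fin.lt_def.2 hj')
    exact Fin.lt_def.1 this
  · have key : ∀ u : Fin (l + 1), u ≠ i → (u : ℕ) < (i.succAbove j : ℕ) →
        h u ∈ spanBefore R M (h ∘ i.succAbove) j := by
      intro u hu hlt
      obtain ⟨j'', rfl⟩ := Fin.exists_succAbove_eq hu
      have : j'' < j := (Fin.strictMono_succAbove i).lt_iff_lt.1 (Fin.lt_def.2 hlt)
      exact mem_spanBefore_of_lt R M (h ∘ i.succAbove) j'' (Fin.lt_def.1 this)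
    apply spanBefore_le
    intro u hu
    by_cases hui : u = i
    · rw [hui]
      have h2 : spanBefore R M h i ≤ spanBefore R M (h ∘ i.succAbove) j := by
        apply spanBefore_le
        intro u' hu'
        apply key u' (fun h => by rw [h] at hu'; omega)
        rw [hui] at hu
        omega
      exact h2 hi
    · exact key u hui hu

lemma adm_remove (h : Fin (l + 1) → M) (hadm : IsAdmissible R M h) (i : Fin (l + 1))
    (hi : h i ∈ spanBefore R M h i) : IsAdmissible R M (h ∘ i.succAbove) := by
  intro j r hr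
  rw [spanBefore_remove R h i hi j]
  exact hadm (i.succAbove j) r hr

end remove

section ev
variable {M : Type v} [AddCommGroup M] [Module R M] {l : ℕ}
variable (Ψ : DetOfLen R M l →ₗ[ResidueField R] ResidueField R)

open Classical in
/-- evaluation of a functional on tuples, zero on non-admissible ones -/
noncomputable def ev (t : Fin l → M) : ResidueField R :=
  if h : IsAdmissible R M t then Ψ (sb R M ⟨t, h⟩) else 0

lemma ev_relA (t : Fin l → M) (ht : IsAdmissible R M t) (a : Fin l)
    (h : t a ∈ spanBefore R M t a) : ev R Ψ t = 0 := by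
  unfold ev
  rw [dif_pos ht, relA R M ⟨t, ht⟩ a h, map_zero]

lemma ev_relB (t t' : Fin l → M) (ht : IsAdmissible R M t) (ht' : IsAdmissible R M t')
    (a : Fin l) (c : Rˣ) (h1 : ∀ j, j ≠ a → t j = t' j)
    (h2 : t a - (c : R) • t' a ∈ spanBefore R M t a) :
    ev R Ψ t = IsLocalRing.residue R (c : R) * ev R Ψ t' := by
  unfold ev
  rw [dif_pos ht, dif_pos ht', relB R M ⟨t, ht⟩ ⟨t', ht'⟩ a c h1 h2, map_smul, smul_eq_mul]

lemma ev_relC (t t' : Fin l → M) (ht : IsAdmissible R M t) (ht' : IsAdmissible R M t')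
    (a b : Fin l) (hab : (b : ℕ) + 1 = (a : ℕ))
    (h1 : ∀ r ∈ maximalIdeal R, r • t a ∈ spanBefore R M t b)
    (h2 : t' = t ∘ Equiv.swap a b) :
    ev R Ψ t = - ev R Ψ t' := by
  unfold ev
  rw [dif_pos ht, dif_pos ht', relC R M ⟨t, ht⟩ ⟨t', ht'⟩ a b hab h1 h2, map_neg]

end ev

section wit
variable {M : Type v} [AddCommGroup M] [Module R M] {l : ℕ} (z : M)

/-- a witness that `z` enters the span of `g` exactly at step `i` with coefficient `r` -/
structure Wit (g : Fin (l + 1) → M) (i : Fin (l + 1)) (s : M) (r : R) : Prop where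
  hs : s ∈ spanBefore R M g i
  hz : z = s + r • g i
  hn : z ∉ spanBefore R M g i

variable {R z}

lemma Wit.isUnit {g : Fin (l + 1) → M} (hg : IsAdmissible R M g) {i : Fin (l + 1)} {s : M} {r : R}
    (w : Wit R z g i s r) : IsUnit r := by
  by_contra h
  have hrm : r ∈ maximalIdeal R := (IsLocalRing.mem_maximalIdeal r).2 h
  apply w.hn
  rw [w.hz]
  exact Submodule.add_mem _ w.hs (hg i r hrm)

lemma Wit.mem_succ {g : Fin (l + 1) → M} {i : Fin (l + 1)} {s : M} {r : R}
    (w : Wit R z g i s r) : z ∈ spanBefore R M g ((i : ℕ) + 1) := by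
  rw [w.hz]
  apply Submodule.add_mem
  · exact spanBefore_mono R M g (Nat.le_succ _) w.hs
  · exact Submodule.smul_mem _ _ (mem_spanBefore_of_lt R M g i (Nat.lt_succ_self _))

lemma Wit.idx_unique {g : Fin (l + 1) → M} {i i' : Fin (l + 1)} {s s' : M} {r r' : R}
    (w : Wit R z g i s r) (w' : Wit R z g i' s' r') : i = i' := by
  apply Fin.ext
  by_contra hne
  rcases Nat.lt_or_gt_of_ne hne with h | h
  · exact w'.hn (spanBefore_mono R M g (by omega) w.mem_succ)
  · exact w.hn (spanBefore_mono R M g (by omega) w'.mem_succ)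

lemma Wit.residue_unique {g : Fin (l + 1) → M} {i : Fin (l + 1)}
    {s s' : M} {r r' : R}
    (w : Wit R z g i s r) (w' : Wit R z g i s' r') :
    IsLocalRing.residue R r = IsLocalRing.residue R r' := by
  rw [← sub_eq_zero, ← map_sub, IsLocalRing.residue_eq_zero_iff]
  by_contra h
  have hu : IsUnit (r - r') := by
    by_contra h'
    exact h ((IsLocalRing.mem_maximalIdeal _).2 h')
  obtain ⟨u, hu⟩ := hu
  have h1 : (r - r') • g i = s' - s := by
    have := w.hz.symm.trans w'.hz
    rw [sub_smul]
    rw [← sub_eq_zero] at this ⊢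
    rw [← this]; abel
  have h2 : g i ∈ spanBefore R M g i := by
    have : g i = ((u⁻¹ : Rˣ) : R) • ((r - r') • g i) := by
      rw [smul_smul, ← hu, Units.inv_mul, one_smul]
    rw [this, h1]
    exact Submodule.smul_mem _ _ (Submodule.sub_mem _ w'.hs w.hs)
  apply w.hn
  rw [w.hz]
  exact Submodule.add_mem _ w.hs (Submodule.smul_mem _ _ h2)

lemma exists_wit_iff {g : Fin (l + 1) → M} (hz : z ≠ 0) :
    (∃ i s r, Wit R z g i s r) ↔ z ∈ spanBefore R M g (l + 1) := by
  classical
  constructor
  · rintro ⟨i, s, r, w⟩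
    exact spanBefore_mono R M g (by have := i.2; omega) w.mem_succ
  · intro h
    have hex : ∃ n : ℕ, z ∈ spanBefore R M g n := ⟨l + 1, h⟩
    have hn := Nat.find_spec hex
    have hmin := fun m (hm : m < Nat.find hex) => Nat.find_min hex hm
    have hnl : Nat.find hex ≤ l + 1 := Nat.find_min' hex h
    have h0 : Nat.find hex ≠ 0 := by
      intro h0
      rw [h0] at hn
      have : spanBefore R M g 0 = ⊥ := by
        rw [eq_bot_iff]
        apply spanBefore_le
        intro j hj; omega
      rw [this, Submodule.mem_bot] at hn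
      exact hz hn
    obtain ⟨n, hnn⟩ : ∃ n, n = Nat.find hex := ⟨_, rfl⟩
    rw [← hnn] at hn hmin hnl h0
    let i : Fin (l + 1) := ⟨n - 1, by omega⟩
    have hi1 : (i : ℕ) + 1 = n := by simp only [i]; omega
    rw [← hi1, spanBefore_succ] at hn
    obtain ⟨x, hx, y, hy, hxy⟩ := Submodule.mem_sup.1 hn
    obtain ⟨r, rfl⟩ := Submodule.mem_span_singleton.1 hy
    exact ⟨i, x, r, hx, hxy.symm, hmin i (by omega)⟩

end wit

section psi
variable {M : Type v} [AddCommGroup M] [Module R M] {l : ℕ} (z : M)
variable (Ψ : DetOfLen R (M ⧸ Submodule.span R {z}) l →ₗ[ResidueField R] ResidueField R)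

/-- reduced tuple: remove position `i` and project modulo `z`. -/
def red (g : Fin (l + 1) → M) (i : Fin (l + 1)) : Fin l → M ⧸ Submodule.span R {z} :=
  ((Submodule.span R {z}).mkQ ∘ g) ∘ i.succAbove

open Classical in
/-- the functional on tuples -/
noncomputable def ψ (g : Fin (l + 1) → M) : ResidueField R :=
  if h : ∃ i s r, Wit R z g i s r then
    (-1) ^ ((h.choose : Fin (l + 1)) : ℕ) *
      (IsLocalRing.residue R h.choose_spec.choose_spec.choose)⁻¹ * ev R Ψ (red R z g h.choose)
  else 0

variable {R z}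

lemma ψ_of_wit {g : Fin (l + 1) → M} {i : Fin (l + 1)} {s : M} {r : R}
    (w : Wit R z g i s r) :
    ψ R z Ψ g = (-1) ^ (i : ℕ) * (IsLocalRing.residue R r)⁻¹ * ev R Ψ (red R z g i) := by
  have h : ∃ i s r, Wit R z g i s r := ⟨i, s, r, w⟩
  unfold ψ
  rw [dif_pos h]
  have w₀ := h.choose_spec.choose_spec.choose_spec
  have hi : h.choose = i := w₀.idx_unique w
  have w₁ : Wit R z g i h.choose_spec.choose h.choose_spec.choose_spec.choose := by
    rw [← hi]; exact w₀
  rw [w₁.residue_unique w, hi]

lemma ψ_of_not {g : Fin (l + 1) → M} (h : ¬ ∃ i s r, Wit R z g i s r) : ψ R z Ψ g = 0 := by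
  unfold ψ
  rw [dif_neg h]

lemma mk_z : (Submodule.span R {z}).mkQ z = 0 := by
  rw [Submodule.mkQ_apply, Submodule.Quotient.mk_eq_zero]
  exact Submodule.mem_span_singleton_self z

lemma wit_pi {g : Fin (l + 1) → M} (hg : IsAdmissible R M g) {i : Fin (l + 1)} {s : M} {r : R}
    (w : Wit R z g i s r) :
    ((Submodule.span R {z}).mkQ ∘ g) i ∈
      spanBefore R (M ⧸ Submodule.span R {z}) ((Submodule.span R {z}).mkQ ∘ g) i := by
  obtain ⟨u, hu⟩ := w.isUnit hg
  rw [← map_spanBefore]
  refine ⟨-(((u⁻¹ : Rˣ) : R) • s), Submodule.neg_mem _ (Submodule.smul_mem _ _ w.hs), ?_⟩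
  have h1 := congrArg (Submodule.span R {z}).mkQ w.hz
  rw [mk_z, map_add, map_smul] at h1
  rw [Function.comp_apply, map_neg, map_smul]
  have h2 : (Submodule.span R {z}).mkQ s = - (r • (Submodule.span R {z}).mkQ (g i)) := by
    rw [eq_neg_iff_add_eq_zero]; exact h1.symm
  rw [h2, smul_neg, neg_neg, smul_smul, ← hu, Units.inv_mul, one_smul]

lemma red_adm {g : Fin (l + 1) → M} (hg : IsAdmissible R M g) {i : Fin (l + 1)} {s : M} {r : R}
    (w : Wit R z g i s r) : IsAdmissible R (M ⧸ Submodule.span R {z}) (red R z g i) :=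
  adm_remove R _ (adm_map R _ g hg) i (wit_pi hg w)

lemma red_span {g : Fin (l + 1) → M} (hg : IsAdmissible R M g) {i : Fin (l + 1)} {s : M} {r : R}
    (w : Wit R z g i s r) (j : Fin l) :
    spanBefore R (M ⧸ Submodule.span R {z}) (red R z g i) j =
      (spanBefore R M g (i.succAbove j)).map (Submodule.span R {z}).mkQ := by
  rw [map_spanBefore]
  exact spanBefore_remove R _ i (wit_pi hg w) j

lemma red_apply (g : Fin (l + 1) → M) (i : Fin (l + 1)) (j : Fin l) :
    red R z g i j = (Submodule.span R {z}).mkQ (g (i.succAbove j)) := rfl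

lemma ψ_relA {g : Fin (l + 1) → M} (hg : IsAdmissible R M g) (a : Fin (l + 1))
    (h : g a ∈ spanBefore R M g a) : ψ R z Ψ g = 0 := by
  by_cases hw : ∃ i s r, Wit R z g i s r
  · obtain ⟨i, s, r, w⟩ := hw
    rw [ψ_of_wit Ψ w]
    have hai : a ≠ i := by
      intro hai
      apply w.hn
      rw [w.hz, ← hai]
      exact Submodule.add_mem _ (hai ▸ w.hs) (Submodule.smul_mem _ _ h)
    obtain ⟨j, hj⟩ := Fin.exists_succAbove_eq hai
    have : ev R Ψ (red R z g i) = 0 := by
      apply ev_relA R Ψ _ (red_adm hg w) j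
      rw [red_span hg w, red_apply, hj]
      exact ⟨g a, h, rfl⟩
    rw [this, mul_zero]
  · exact ψ_of_not Ψ hw

end psi

section relB
variable {M : Type v} [AddCommGroup M] [Module R M] {l : ℕ} {z : M}
variable (Ψ : DetOfLen R (M ⧸ Submodule.span R {z}) l →ₗ[ResidueField R] ResidueField R)
variable {R}

lemma spanBefore_eq_of_relB {n : ℕ} {g g' : Fin n → M} (a : Fin n) (c : Rˣ)
    (h1 : ∀ j, j ≠ a → g j = g' j)
    (h2 : g a - (c : R) • g' a ∈ spanBefore R M g a) (t : ℕ) :
    spanBefore R M g t = spanBefore R M g' t := by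
  by_cases ht : t ≤ (a : ℕ)
  · apply spanBefore_congr
    intro j hj
    exact h1 j (fun h => by rw [h] at hj; omega)
  · push Not at ht
    have hsame : spanBefore R M g a = spanBefore R M g' a := by
      apply spanBefore_congr
      intro j hj
      exact h1 j (fun h => by rw [h] at hj; omega)
    apply le_antisymm
    · apply spanBefore_le
      intro j hj
      by_cases hja : j = a
      · have : g a = (g a - (c : R) • g' a) + (c : R) • g' a := by abel
        rw [hja, this]
        apply Submodule.add_mem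
        · rw [hsame] at h2
          exact spanBefore_mono R M g' ht.le h2
        · exact Submodule.smul_mem _ _ (mem_spanBefore_of_lt R M g' a ht)
      · rw [h1 j hja]
        exact mem_spanBefore_of_lt R M g' j hj
    · apply spanBefore_le
      intro j hj
      by_cases hja : j = a
      · have : g' a = ((c⁻¹ : Rˣ) : R) • (g a - (g a - (c : R) • g' a)) := by
          rw [sub_sub_cancel, smul_smul, Units.inv_mul, one_smul]
        rw [hja, this]
        apply Submodule.smul_mem
        apply Submodule.sub_mem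
        · exact mem_spanBefore_of_lt R M g a ht
        · exact spanBefore_mono R M g ht.le h2
      · rw [← h1 j hja]
        exact mem_spanBefore_of_lt R M g j hj

lemma ψ_relB (hz : z ≠ 0) {g g' : Fin (l + 1) → M} (hg : IsAdmissible R M g)
    (hg' : IsAdmissible R M g') (a : Fin (l + 1)) (c : Rˣ)
    (h1 : ∀ j, j ≠ a → g j = g' j)
    (h2 : g a - (c : R) • g' a ∈ spanBefore R M g a) :
    ψ R z Ψ g = IsLocalRing.residue R (c : R) * ψ R z Ψ g' := by
  have hsp := spanBefore_eq_of_relB a c h1 h2
  have hc0 : IsLocalRing.residue R (c : R) ≠ 0 := by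
    intro h
    rw [IsLocalRing.residue_eq_zero_iff] at h
    exact (IsLocalRing.mem_maximalIdeal _).1 h c.isUnit
  by_cases hw : ∃ i s r, Wit R z g i s r
  · obtain ⟨i, s, r, w⟩ := hw
    have hr0 : IsLocalRing.residue R r ≠ 0 := by
      intro h
      rw [IsLocalRing.residue_eq_zero_iff] at h
      exact (IsLocalRing.mem_maximalIdeal _).1 h (w.isUnit hg)
    by_cases hia : i = a
    · subst hia
      have w' : Wit R z g' i (s + r • (g i - (c : R) • g' i)) (r * c) := by
        refine ⟨?_, ?_, ?_⟩
        · rw [← hsp]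
          exact Submodule.add_mem _ w.hs (Submodule.smul_mem _ _ h2)
        · rw [w.hz]; module
        · rw [← hsp]; exact w.hn
      have hred : red R z g i = red R z g' i := by
        funext j
        rw [red_apply, red_apply, h1 _ (Fin.succAbove_ne i j)]
      rw [ψ_of_wit Ψ w, ψ_of_wit Ψ w', hred, map_mul]
      field_simp
    · have w' : Wit R z g' i s r := by
        refine ⟨?_, ?_, ?_⟩
        · rw [← hsp]; exact w.hs
        · rw [← h1 i hia]; exact w.hz
        · rw [← hsp]; exact w.hn
      obtain ⟨j₀, hj₀⟩ := Fin.exists_succAbove_eq (Ne.symm hia)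
      have hev : ev R Ψ (red R z g i) =
          IsLocalRing.residue R (c : R) * ev R Ψ (red R z g' i) := by
        apply ev_relB R Ψ _ _ (red_adm hg w) (red_adm hg' w') j₀ c
        · intro j hj
          rw [red_apply, red_apply]
          congr 1
          apply h1
          intro h
          rw [← hj₀] at h
          exact hj (Fin.succAbove_right_injective h)
        · rw [red_span hg w, red_apply, red_apply, hj₀]
          exact ⟨g a - (c : R) • g' a, h2, by simp⟩
      rw [ψ_of_wit Ψ w, ψ_of_wit Ψ w', hev]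
      ring
  · have hw' : ¬ ∃ i s r, Wit R z g' i s r := by
      rw [exists_wit_iff hz, ← hsp, ← exists_wit_iff hz]
      exact hw
    rw [ψ_of_not Ψ hw, ψ_of_not Ψ hw', mul_zero]

end relB

section idx
variable {l : ℕ}

lemma swap_succAbove (a b : Fin (l + 1)) (hab : (b : ℕ) + 1 = a) (j : Fin l) :
    Equiv.swap a b (a.succAbove j) = b.succAbove j := by
  by_cases h1 : (j : ℕ) < b
  · have e1 : a.succAbove j = j.castSucc :=
      Fin.succAbove_of_castSucc_lt _ _ (by simp [Fin.lt_def]; omega)
    have e2 : b.succAbove j = j.castSucc :=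
      Fin.succAbove_of_castSucc_lt _ _ (by simp [Fin.lt_def]; omega)
    rw [e1, e2, Equiv.swap_apply_of_ne_of_ne]
    · intro h; have := congrArg Fin.val h; simp at this; omega
    · intro h; have := congrArg Fin.val h; simp at this; omega
  · by_cases h2 : (j : ℕ) = b
    · have e1 : a.succAbove j = j.castSucc :=
        Fin.succAbove_of_castSucc_lt _ _ (by simp [Fin.lt_def]; omega)
      have e2 : b.succAbove j = j.succ :=
        Fin.succAbove_of_le_castSucc _ _ (by simp [Fin.le_def]; omega)
      have e3 : j.castSucc = b := Fin.ext (by simp; omega)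
      have e4 : j.succ = a := Fin.ext (by simp; omega)
      rw [e1, e2, e3, e4, Equiv.swap_apply_right]
    · have e1 : a.succAbove j = j.succ :=
        Fin.succAbove_of_le_castSucc _ _ (by simp [Fin.le_def]; omega)
      have e2 : b.succAbove j = j.succ :=
        Fin.succAbove_of_le_castSucc _ _ (by simp [Fin.le_def]; omega)
      rw [e1, e2, Equiv.swap_apply_of_ne_of_ne]
      · intro h; have := congrArg Fin.val h; simp at this; omega
      · intro h; have := congrArg Fin.val h; simp at this; omega

lemma swap_succAbove' (a b : Fin (l + 1)) (hab : (b : ℕ) + 1 = a) (j : Fin l) :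
    Equiv.swap a b (b.succAbove j) = a.succAbove j := by
  rw [← swap_succAbove a b hab j, Equiv.swap_apply_self]

lemma exists_adjacent (i a b : Fin (l + 1)) (hab : (b : ℕ) + 1 = a) (hia : i ≠ a) (hib : i ≠ b) :
    ∃ a' b' : Fin l, i.succAbove a' = a ∧ i.succAbove b' = b ∧ (b' : ℕ) + 1 = a' := by
  obtain ⟨a', ha'⟩ := Fin.exists_succAbove_eq (Ne.symm hia)
  obtain ⟨b', hb'⟩ := Fin.exists_succAbove_eq (Ne.symm hib)
  refine ⟨a', b', ha', hb', ?_⟩
  have h1 := congrArg Fin.val ha'
  have h2 := congrArg Fin.val hb'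
  have hi : (i : ℕ) ≠ a := fun h => hia (Fin.ext h)
  have hi' : (i : ℕ) ≠ b := fun h => hib (Fin.ext h)
  simp only [Fin.succAbove, Fin.lt_def, Fin.val_castSucc] at h1 h2
  split_ifs at h1 h2 <;> simp at h1 h2 <;> omega

end idx

section swapspan
variable {M : Type v} [AddCommGroup M] [Module R M] {n : ℕ}
variable {R}

lemma spanBefore_swap (g : Fin n → M) (a b : Fin n) (hab : (b : ℕ) + 1 = a) (t : ℕ)
    (ht : t ≠ (a : ℕ)) :
    spanBefore R M (g ∘ Equiv.swap a b) t = spanBefore R M g t := by
  apply spanBefore_comp_perm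
  intro u
  by_cases hua : u = a
  · subst hua; rw [Equiv.swap_apply_left]; omega
  · by_cases hub : u = b
    · subst hub; rw [Equiv.swap_apply_right]; omega
    · rw [Equiv.swap_apply_of_ne_of_ne hua hub]

lemma spanBefore_swap_a (g : Fin n → M) (a b : Fin n) (hab : (b : ℕ) + 1 = a) :
    spanBefore R M (g ∘ Equiv.swap a b) a = spanBefore R M g b ⊔ Submodule.span R {g a} := by
  rw [← hab, spanBefore_succ, spanBefore_swap g a b hab b (by omega), Function.comp_apply,
    Equiv.swap_apply_right]

lemma spanBefore_a (g : Fin n → M) (a b : Fin n) (hab : (b : ℕ) + 1 = a) :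
    spanBefore R M g a = spanBefore R M g b ⊔ Submodule.span R {g b} := by
  rw [← hab, spanBefore_succ]

end swapspan

section relC
variable {M : Type v} [AddCommGroup M] [Module R M] {l : ℕ} {z : M}
variable (Ψ : DetOfLen R (M ⧸ Submodule.span R {z}) l →ₗ[ResidueField R] ResidueField R)
variable {R}

lemma residue_ne_zero_of_isUnit {r : R} (hr : IsUnit r) : IsLocalRing.residue R r ≠ 0 := by
  intro h
  rw [IsLocalRing.residue_eq_zero_iff] at h
  exact (IsLocalRing.mem_maximalIdeal _).1 h hr

lemma ψ_relC (hz : z ≠ 0) {g : Fin (l + 1) → M} (hg : IsAdmissible R M g)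
    (a b : Fin (l + 1)) (hab : (b : ℕ) + 1 = (a : ℕ))
    (hg' : IsAdmissible R M (g ∘ Equiv.swap a b))
    (hm : ∀ r ∈ maximalIdeal R, r • g a ∈ spanBefore R M g b) :
    ψ R z Ψ g = - ψ R z Ψ (g ∘ Equiv.swap a b) := by
  obtain ⟨g', hg'def⟩ : ∃ g', g' = g ∘ Equiv.swap a b := ⟨_, rfl⟩
  rw [← hg'def] at hg' ⊢
  have hne : a ≠ b := by intro h; rw [h] at hab; omega
  have F1 : ∀ t : ℕ, t ≠ (a : ℕ) → spanBefore R M g' t = spanBefore R M g t := by
    intro t ht; rw [hg'def]; exact spanBefore_swap g a b hab t ht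
  have F2 : spanBefore R M g' a = spanBefore R M g b ⊔ Submodule.span R {g a} := by
    rw [hg'def]; exact spanBefore_swap_a g a b hab
  have F3 := spanBefore_a (R := R) g a b hab
  have ga' : g' a = g b := by rw [hg'def, Function.comp_apply, Equiv.swap_apply_left]
  have gb' : g' b = g a := by rw [hg'def, Function.comp_apply, Equiv.swap_apply_right]
  have gj' : ∀ j, j ≠ a → j ≠ b → g' j = g j := by
    intro j h1 h2
    rw [hg'def, Function.comp_apply, Equiv.swap_apply_of_ne_of_ne h1 h2]
  have hbne : (b : ℕ) ≠ (a : ℕ) := by omega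
  have hsign : ((-1 : ResidueField R)) ^ (a : ℕ) = - (-1) ^ (b : ℕ) := by
    rw [← hab, pow_succ]; ring
  have redI1 : red R z g' a = red R z g b := by
    funext j
    rw [red_apply, red_apply, hg'def, Function.comp_apply, swap_succAbove a b hab]
  have redI2 : red R z g' b = red R z g a := by
    funext j
    rw [red_apply, red_apply, hg'def, Function.comp_apply, swap_succAbove' a b hab]
  by_cases hw : ∃ i s r, Wit R z g i s r
  swap
  · have hw' : ¬ ∃ i s r, Wit R z g' i s r := by
      rw [exists_wit_iff hz, F1 (l + 1) (by have := a.2; omega), ← exists_wit_iff hz]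
      exact hw
    rw [ψ_of_not Ψ hw, ψ_of_not Ψ hw', neg_zero]
  obtain ⟨i, s, r, w⟩ := hw
  have hr0 := residue_ne_zero_of_isUnit (w.isUnit hg)
  by_cases hib : i = b
  · -- Case B
    subst hib
    by_cases hβ : z ∈ spanBefore R M g' a
    · -- both vanish
      rw [F2] at hβ
      obtain ⟨s', hs', y, hy, hsy⟩ := Submodule.mem_sup.1 hβ
      obtain ⟨r', rfl⟩ := Submodule.mem_span_singleton.1 hy
      have w' : Wit R z g' i s' r' := by
        refine ⟨?_, ?_, ?_⟩
        · rw [F1 i hbne]; exact hs'
        · rw [gb']; exact hsy.symm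
        · rw [F1 i hbne]; exact w.hn
      obtain ⟨j₀, hj₀⟩ := Fin.exists_succAbove_eq hne
      have e1 : ev R Ψ (red R z g i) = 0 := by
        apply ev_relA R Ψ _ (red_adm hg w) j₀
        rw [red_span hg w, red_apply, hj₀]
        obtain ⟨u', hu'⟩ := w'.isUnit hg'
        refine ⟨-(((u'⁻¹ : Rˣ) : R) • s'), Submodule.neg_mem _ (Submodule.smul_mem _ _
          (spanBefore_mono R M g (by omega) hs')), ?_⟩
        have h1 := congrArg (Submodule.span R {z}).mkQ hsy
        rw [mk_z, map_add, map_smul] at h1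
        have h2 : (Submodule.span R {z}).mkQ s' = - (r' • (Submodule.span R {z}).mkQ (g a)) := by
          rw [eq_neg_iff_add_eq_zero]; exact h1
        rw [map_neg, map_smul, h2, smul_neg, neg_neg, smul_smul, ← hu', Units.inv_mul, one_smul]
      have e2 : ev R Ψ (red R z g' i) = 0 := by
        apply ev_relA R Ψ _ (red_adm hg' w') j₀
        rw [red_span hg' w', red_apply, hj₀, ga']
        obtain ⟨u, hu⟩ := w.isUnit hg
        refine ⟨-(((u⁻¹ : Rˣ) : R) • s), Submodule.neg_mem _ (Submodule.smul_mem _ _ ?_), ?_⟩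
        · rw [F2]; exact Submodule.mem_sup_left w.hs
        have h1 := congrArg (Submodule.span R {z}).mkQ w.hz
        rw [mk_z, map_add, map_smul] at h1
        have h2 : (Submodule.span R {z}).mkQ s = - (r • (Submodule.span R {z}).mkQ (g i)) := by
          rw [eq_neg_iff_add_eq_zero]; exact h1.symm
        rw [map_neg, map_smul, h2, smul_neg, neg_neg, smul_smul, ← hu, Units.inv_mul, one_smul]
      rw [ψ_of_wit Ψ w, ψ_of_wit Ψ w', e1, e2, mul_zero, mul_zero, neg_zero]
    · have w' : Wit R z g' a s r := by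
        refine ⟨?_, ?_, hβ⟩
        · rw [F2]; exact Submodule.mem_sup_left w.hs
        · rw [ga']; exact w.hz
      rw [ψ_of_wit Ψ w, ψ_of_wit Ψ w', redI1, hsign]
      ring
  by_cases hia : i = a
  · -- Case C
    subst hia
    by_cases hα : z ∈ spanBefore R M g' i
    · rw [F2] at hα
      obtain ⟨s', hs', y, hy, hsy⟩ := Submodule.mem_sup.1 hα
      obtain ⟨r', rfl⟩ := Submodule.mem_span_singleton.1 hy
      have w₂ : Wit R z g i s' r' :=
        ⟨spanBefore_mono R M g (by omega) hs', hsy.symm, w.hn⟩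
      have hrr : IsLocalRing.residue R r' = IsLocalRing.residue R r := w₂.residue_unique w
      have w' : Wit R z g' b s' r' := by
        refine ⟨?_, ?_, ?_⟩
        · rw [F1 b hbne]; exact hs'
        · rw [gb']; exact hsy.symm
        · rw [F1 b hbne]
          intro h
          exact w.hn (spanBefore_mono R M g (by omega) h)
      rw [ψ_of_wit Ψ w, ψ_of_wit Ψ w', redI2, hsign, hrr]
      ring
    · -- the unit case
      have hs := w.hs
      rw [F3] at hs
      obtain ⟨s₁, hs₁, y, hy, hsy⟩ := Submodule.mem_sup.1 hs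
      obtain ⟨t, rfl⟩ := Submodule.mem_span_singleton.1 hy
      have ht : IsUnit t := by
        by_contra h
        have htm : t ∈ maximalIdeal R := (IsLocalRing.mem_maximalIdeal t).2 h
        apply hα
        rw [F2, w.hz, ← hsy]
        apply Submodule.add_mem
        · exact Submodule.mem_sup_left (Submodule.add_mem _ hs₁ (hg b t htm))
        · exact Submodule.mem_sup_right (Submodule.smul_mem _ _ (Submodule.mem_span_singleton_self _))
      have w' : Wit R z g' i (s₁ + r • g i) t := by
        refine ⟨?_, ?_, hα⟩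
        · rw [F2]
          apply Submodule.add_mem
          · exact Submodule.mem_sup_left hs₁
          · exact Submodule.mem_sup_right (Submodule.smul_mem _ _ (Submodule.mem_span_singleton_self _))
        · rw [ga', w.hz, ← hsy]; abel
      obtain ⟨tu, htu⟩ := ht
      obtain ⟨ru, hru⟩ := w.isUnit hg
      obtain ⟨j₀, hj₀⟩ := Fin.exists_succAbove_eq (Ne.symm hne)
      have hev : ev R Ψ (red R z g' i) =
          IsLocalRing.residue R ((-(tu * ru⁻¹) : Rˣ) : R) * ev R Ψ (red R z g i) := by
        apply ev_relB R Ψ _ _ (red_adm hg' w') (red_adm hg w) j₀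
        · intro j hj
          rw [red_apply, red_apply]
          congr 1
          apply gj' _ (Fin.succAbove_ne i j)
          intro h
          rw [← hj₀] at h
          exact hj (Fin.succAbove_right_injective h)
        · rw [red_span hg' w', red_apply, red_apply, hj₀, gb', F1 b hbne]
          refine ⟨-(((ru⁻¹ : Rˣ) : R) • s₁), Submodule.neg_mem _ (Submodule.smul_mem _ _ hs₁), ?_⟩
          have h1 := congrArg (Submodule.span R {z}).mkQ w.hz
          rw [mk_z, ← hsy, map_add, map_add, map_smul, map_smul] at h1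
          have h2 : (Submodule.span R {z}).mkQ s₁ =
              - (t • (Submodule.span R {z}).mkQ (g b)) - r • (Submodule.span R {z}).mkQ (g i) := by
            have h3 : (Submodule.span R {z}).mkQ s₁ + t • (Submodule.span R {z}).mkQ (g b) +
                r • (Submodule.span R {z}).mkQ (g i) = 0 := h1.symm
            rw [← sub_eq_zero, ← h3]; abel
          rw [map_neg, map_smul, h2, ← htu, ← hru]
          simp only [Units.val_neg, Units.val_mul, neg_smul, smul_sub, smul_neg, smul_smul,
            Units.inv_mul, one_smul]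
          rw [mul_comm ((ru⁻¹ : Rˣ) : R) (tu : R)]
          abel
      have hres : IsLocalRing.residue R ((-(tu * ru⁻¹) : Rˣ) : R) =
          - (IsLocalRing.residue R t * (IsLocalRing.residue R r)⁻¹) := by
        rw [Units.val_neg, Units.val_mul, map_neg, map_mul, map_units_inv, htu, hru]
      have ht0 : IsLocalRing.residue R t ≠ 0 := residue_ne_zero_of_isUnit ⟨tu, htu⟩
      rw [ψ_of_wit Ψ w, ψ_of_wit Ψ w', hev, hres]
      field_simp
  · -- Case A
    have hian : (i : ℕ) ≠ (a : ℕ) := fun h => hia (Fin.ext h)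
    have w' : Wit R z g' i s r := by
      refine ⟨?_, ?_, ?_⟩
      · rw [F1 i hian]; exact w.hs
      · rw [gj' i hia hib]; exact w.hz
      · rw [F1 i hian]; exact w.hn
    obtain ⟨a', b', ha', hb', hab'⟩ := exists_adjacent i a b hab hia hib
    have hred : red R z g' i = red R z g i ∘ Equiv.swap a' b' := by
      funext j
      rw [Function.comp_apply, red_apply, red_apply, hg'def, Function.comp_apply,
        ← ha', ← hb', (Fin.succAbove_right_injective (p := i)).swap_apply]
    have hev : ev R Ψ (red R z g i) = - ev R Ψ (red R z g' i) := by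
      apply ev_relC R Ψ _ _ (red_adm hg w) (red_adm hg' w') a' b' hab' _ hred
      intro c hc
      rw [red_span hg w, red_apply, ha', hb']
      exact ⟨c • g a, hm c hc, by simp⟩
    rw [ψ_of_wit Ψ w, ψ_of_wit Ψ w', hev]
    ring

end relC

section functional
variable {M : Type v} [AddCommGroup M] [Module R M] {l : ℕ} (z : M)
variable (Ψ : DetOfLen R (M ⧸ Submodule.span R {z}) l →ₗ[ResidueField R] ResidueField R)

/-- the functional on free symbols -/
noncomputable def Φ₀ : Free R M (l + 1) →ₗ[ResidueField R] ResidueField R :=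
  Finsupp.linearCombination (ResidueField R) (fun e : Adm R M (l + 1) => ψ R z Ψ e.1)

lemma Φ₀_sym (e : Adm R M (l + 1)) : Φ₀ R z Ψ (sym R M e) = ψ R z Ψ e.1 := by
  unfold Φ₀ sym
  rw [Finsupp.linearCombination_single, one_smul]

variable {z}

lemma Φ₀_rel (hz : z ≠ 0) :
    Submodule.span (ResidueField R) (relSet R M (l + 1)) ≤ LinearMap.ker (Φ₀ R z Ψ) := by
  rw [Submodule.span_le]
  rintro x ((⟨e, a, h, rfl⟩ | ⟨e, e', a, c, h1, h2, rfl⟩) | ⟨e, e', a, b, hab, h1, h2, rfl⟩)
  · rw [SetLike.mem_coe, LinearMap.mem_ker, Φ₀_sym]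
    exact ψ_relA Ψ e.2 a h
  · rw [SetLike.mem_coe, LinearMap.mem_ker, map_sub, map_smul, Φ₀_sym, Φ₀_sym, sub_eq_zero,
      smul_eq_mul]
    exact ψ_relB Ψ hz e.2 e'.2 a c h1 h2
  · rw [SetLike.mem_coe, LinearMap.mem_ker, map_add, Φ₀_sym, Φ₀_sym]
    have := ψ_relC Ψ hz e.2 a b hab (h2 ▸ e'.2) h1
    rw [h2, this, neg_add_cancel]

/-- the induced functional on `DetOfLen` -/
noncomputable def ΨM (hz : z ≠ 0) : DetOfLen R M (l + 1) →ₗ[ResidueField R] ResidueField R :=
  Submodule.liftQ _ (Φ₀ R z Ψ) (Φ₀_rel R Ψ hz)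

lemma ΨM_sb (hz : z ≠ 0) (e : Adm R M (l + 1)) : ΨM R Ψ hz (sb R M e) = ψ R z Ψ e.1 := by
  unfold ΨM sb
  rw [Submodule.liftQ_apply, Φ₀_sym]

end functional

lemma spanBefore_zero {M : Type v} [AddCommGroup M] [Module R M] {n : ℕ} (g : Fin n → M) :
    spanBefore R M g 0 = ⊥ := by
  rw [eq_bot_iff]
  apply spanBefore_le
  intro j hj; omega

theorem sb_ne_zero : ∀ (l : ℕ) (M : Type v) [AddCommGroup M] [Module R M] (e : Adm R M l),
    (∀ i : Fin l, e.1 i ∉ spanBefore R M e.1 i) → sb R M e ≠ 0 := by
  intro l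
  induction l with
  | zero =>
    intro M _ _ e _ h
    unfold sb at h
    rw [Submodule.Quotient.mk_eq_zero] at h
    have hempty : relSet R M 0 = ∅ := by
      ext x
      constructor
      · rintro ((⟨e, a, _⟩ | ⟨e, e', a, _⟩) | ⟨e, e', a, _⟩) <;> exact a.elim0
      · intro hx; exact absurd hx (Set.notMem_empty x)
    rw [hempty, Submodule.span_empty, Submodule.mem_bot] at h
    unfold sym at h
    rw [Finsupp.single_eq_zero] at h
    exact one_ne_zero h
  | succ l ih =>
    intro M _ _ e hstrict h0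
    obtain ⟨z, hzdef⟩ : ∃ z, z = e.1 0 := ⟨_, rfl⟩
    have hn0 : z ∉ spanBefore R M e.1 (0 : Fin (l + 1)) := by rw [hzdef]; exact hstrict 0
    have hz : z ≠ 0 := by
      intro h
      apply hn0
      rw [h]; exact Submodule.zero_mem _
    have w : Wit R z e.1 0 0 1 := ⟨Submodule.zero_mem _, by rw [hzdef]; simp, hn0⟩
    let ē : Adm R (M ⧸ Submodule.span R {z}) l := ⟨red R z e.1 0, red_adm e.2 w⟩
    have hstrict' : ∀ j : Fin l, ē.1 j ∉ spanBefore R (M ⧸ Submodule.span R {z}) ē.1 j := by
      intro j hj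
      change red R z e.1 0 j ∈ spanBefore R _ (red R z e.1 0) j at hj
      rw [red_span e.2 w, red_apply] at hj
      obtain ⟨x, hx, hxe⟩ := hj
      have h1 : x - e.1 ((0 : Fin (l + 1)).succAbove j) ∈ Submodule.span R {z} := by
        rw [← Submodule.ker_mkQ (Submodule.span R {z}), LinearMap.mem_ker, map_sub, hxe, sub_self]
      have hlt : ((0 : Fin (l + 1)) : ℕ) < (((0 : Fin (l + 1)).succAbove j : Fin (l + 1)) : ℕ) := by
        rw [Fin.succAbove_zero]; simp
      have h2 : Submodule.span R {z} ≤ spanBefore R M e.1 ((0 : Fin (l + 1)).succAbove j) := by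
        rw [Submodule.span_singleton_le_iff_mem, hzdef]
        exact mem_spanBefore_of_lt R M e.1 0 hlt
      apply hstrict ((0 : Fin (l + 1)).succAbove j)
      have : e.1 ((0 : Fin (l + 1)).succAbove j) =
          x - (x - e.1 ((0 : Fin (l + 1)).succAbove j)) := by abel
      rw [this]
      exact Submodule.sub_mem _ hx (h2 h1)
    have hne := ih (M ⧸ Submodule.span R {z}) ē hstrict'
    obtain ⟨Ψ, hΨ⟩ : ∃ Ψ : DetOfLen R (M ⧸ Submodule.span R {z}) l →ₗ[ResidueField R]
        ResidueField R, Ψ (sb R _ ē) ≠ 0 := by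
      by_contra hcon
      push Not at hcon
      exact hne ((Module.forall_dual_apply_eq_zero_iff (ResidueField R) _).1 hcon)
    have h1 := ΨM_sb R Ψ hz e
    rw [h0, map_zero, ψ_of_wit Ψ w] at h1
    apply hΨ
    have h2 : ev R Ψ (red R z e.1 0) = Ψ (sb R _ ē) := by
      unfold ev
      rw [dif_pos (red_adm e.2 w)]
    rw [h2] at h1
    simpa using h1.symm

section lengthbound
variable {M : Type v} [AddCommGroup M] [Module R M]

lemma length_quot_max : Module.length R (R ⧸ maximalIdeal R) = 1 := by
  haveI : IsSimpleModule R (R ⧸ maximalIdeal R) :=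
    isSimpleModule_iff_quot_maximal.2 ⟨maximalIdeal R, inferInstance, ⟨LinearEquiv.refl _ _⟩⟩
  exact Module.length_eq_one R (R ⧸ maximalIdeal R)

lemma length_sup_span_le (N : Submodule R M) (x : M)
    (hx : ∀ r ∈ maximalIdeal R, r • x ∈ N) :
    Module.length R ↥(N ⊔ Submodule.span R {x}) ≤ Module.length R ↥N + 1 := by
  obtain ⟨P, hP⟩ : ∃ P, P = N ⊔ Submodule.span R {x} := ⟨_, rfl⟩
  rw [← hP]
  have hNP : N ≤ P := by rw [hP]; exact le_sup_left
  have hxP : x ∈ P := by
    rw [hP]; exact Submodule.mem_sup_right (Submodule.mem_span_singleton_self x)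
  let N' : Submodule R ↥P := Submodule.comap P.subtype N
  have hex : Function.Exact (Submodule.inclusion hNP) N'.mkQ := by
    rw [LinearMap.exact_iff, Submodule.ker_mkQ, Submodule.range_inclusion]
  rw [Module.length_eq_add_of_exact (Submodule.inclusion hNP) N'.mkQ
    (Submodule.inclusion_injective hNP) (Submodule.mkQ_surjective _) hex]
  gcongr
  rw [← length_quot_max R]
  let xb : ↥P ⧸ N' := N'.mkQ ⟨x, hxP⟩
  have hker : maximalIdeal R ≤ LinearMap.ker (LinearMap.toSpanSingleton R (↥P ⧸ N') xb) := by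
    intro r hr
    rw [LinearMap.mem_ker, LinearMap.toSpanSingleton_apply]
    simp only [xb]
    rw [← map_smul, Submodule.mkQ_apply, Submodule.Quotient.mk_eq_zero]
    exact hx r hr
  apply Module.length_le_of_surjective
    (Submodule.liftQ (maximalIdeal R) (LinearMap.toSpanSingleton R (↥P ⧸ N') xb) hker)
  intro y
  obtain ⟨⟨p, hp⟩, rfl⟩ := Submodule.mkQ_surjective N' y
  have hp' := hp
  rw [hP] at hp'
  obtain ⟨n, hn, w, hw, hnw⟩ := Submodule.mem_sup.1 hp'
  obtain ⟨r, rfl⟩ := Submodule.mem_span_singleton.1 hw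
  refine ⟨Submodule.Quotient.mk r, ?_⟩
  rw [Submodule.liftQ_apply, LinearMap.toSpanSingleton_apply]
  simp only [xb]
  rw [← map_smul, ← sub_eq_zero, ← map_sub, Submodule.mkQ_apply, Submodule.Quotient.mk_eq_zero]
  change (r • x - p : M) ∈ N
  rw [← hnw]
  have : r • x - (n + r • x) = -n := by abel
  rw [this]
  exact Submodule.neg_mem _ hn

lemma length_spanBefore_le {n : ℕ} (e : Fin n → M) (he : IsAdmissible R M e) (i₀ : Fin n)
    (h0 : e i₀ ∈ spanBefore R M e i₀) :
    ∀ t : ℕ, t ≤ n → Module.length R ↥(spanBefore R M e t) + (if t ≤ (i₀ : ℕ) then 0 else 1) ≤ t := by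
  intro t
  induction t with
  | zero =>
    intro _
    rw [spanBefore_zero, Module.length_bot]
    simp
  | succ t ih =>
    intro ht
    have iht := ih (by omega)
    let i : Fin n := ⟨t, by omega⟩
    have hsucc : spanBefore R M e (t + 1) = spanBefore R M e t ⊔ Submodule.span R {e i} :=
      spanBefore_succ R M e i
    by_cases hti : t = (i₀ : ℕ)
    · have hi : i = i₀ := Fin.ext hti
      have : spanBefore R M e (t + 1) = spanBefore R M e t := by
        rw [hsucc, sup_eq_left, Submodule.span_singleton_le_iff_mem, hi, hti]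
        exact h0
      rw [this, if_neg (by omega)]
      rw [if_pos (by omega), add_zero] at iht
      push_cast
      gcongr
    · rw [hsucc]
      have h1 := length_sup_span_le R (spanBefore R M e t) (e i) (fun r hr => he i r hr)
      by_cases hle : t ≤ (i₀ : ℕ)
      · rw [if_pos hle, add_zero] at iht
        rw [if_pos (by omega), add_zero]
        push_cast
        exact h1.trans (by gcongr)
      · rw [if_neg hle] at iht
        rw [if_neg (by omega)]
        push_cast
        calc Module.length R ↥(spanBefore R M e t ⊔ Submodule.span R {e i}) + 1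
            ≤ (Module.length R ↥(spanBefore R M e t) + 1) + 1 := by gcongr
          _ ≤ (t : ℕ∞) + 1 := by gcongr

end lengthbound

theorem main (M : Type v) [AddCommGroup M] [Module R M] (hM : IsFiniteLength R M)
    (e : CycDet.Adm R M (Module.length R M).toNat)
    (he : Submodule.span R (Set.range e.1) = ⊤) : CycDet.symbol R M e ≠ 0 := by
  change sb R M e ≠ 0
  apply sb_ne_zero
  intro i₀ h0
  obtain ⟨n, hn⟩ : ∃ n, n = (Module.length R M).toNat := ⟨_, rfl⟩
  have hlen : Module.length R M = n := by
    rw [hn, ENat.coe_toNat (Module.length_ne_top_iff.2 hM)]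
  have htop : spanBefore R M e.1 (Module.length R M).toNat = ⊤ := by
    rw [eq_top_iff, ← he, Submodule.span_le]
    rintro _ ⟨j, rfl⟩
    exact mem_spanBefore_of_lt R M e.1 j j.2
  have h1 := length_spanBefore_le R e.1 e.2 i₀ h0 _ le_rfl
  rw [htop, Module.length_top, if_neg (by have := i₀.2; omega), ← hn, hlen] at h1
  have : (n : ℕ∞) + 1 ≤ n := h1
  have h2 : ((n + 1 : ℕ) : ℕ∞) ≤ (n : ℕ∞) := by push_cast; exact this
  have : n + 1 ≤ n := by exact_mod_cast h2
  omega

end Groth.Agent.Helper8.CycN
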