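import Mathlib
import Groth.Agent.Helper8.CycN

namespace Groth.Agent.Helper8.CycG

open CycDet IsLocalRing Groth.Agent.Helper8.CycD Groth.Agent.Helper8.CycN

universe u v

variable (R : Type u) [CommRing R] [IsLocalRing R]

section detMap
variable {M : Type v} [AddCommGroup M] [Module R M] {M' : Type v} [AddCommGroup M'] [Module R M']
variable (π : M →ₗ[R] M') (l : ℕ)

/-- push forward an admissible tuple -/
def admMap (e : Adm R M l) : Adm R M' l := ⟨π ∘ e.1, adm_map R π e.1 e.2⟩

/-- functoriality of the free symbols -/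
noncomputable def freeMap : Free R M l →ₗ[ResidueField R] DetOfLen R M' l :=
  Finsupp.linearCombination (ResidueField R) (fun e : Adm R M l => sb R M' (admMap R π l e))

lemma freeMap_sym (e : Adm R M l) : freeMap R π l (sym R M e) = sb R M' (admMap R π l e) := by
  unfold freeMap sym
  rw [Finsupp.linearCombination_single, one_smul]

lemma freeMap_rel :
    Submodule.span (ResidueField R) (relSet R M l) ≤ LinearMap.ker (freeMap R π l) := by
  rw [Submodule.span_le]
  rintro x ((⟨e, a, h, rfl⟩ | ⟨e, e', a, c, h1, h2, rfl⟩) | ⟨e, e', a, b, hab, h1, h2, rfl⟩)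
  · rw [SetLike.mem_coe, LinearMap.mem_ker, freeMap_sym]
    apply relA R M' _ a
    change π (e.1 a) ∈ spanBefore R M' (π ∘ e.1) a
    rw [← map_spanBefore]
    exact ⟨_, h, rfl⟩
  · rw [SetLike.mem_coe, LinearMap.mem_ker, map_sub, map_smul, freeMap_sym, freeMap_sym,
      sub_eq_zero]
    apply relB R M' _ _ a c
    · intro j hj
      change π (e.1 j) = π (e'.1 j)
      rw [h1 j hj]
    · change π (e.1 a) - (c : R) • π (e'.1 a) ∈ spanBefore R M' (π ∘ e.1) a
      rw [← map_spanBefore]
      exact ⟨_, h2, by simp⟩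
  · rw [SetLike.mem_coe, LinearMap.mem_ker, map_add, freeMap_sym, freeMap_sym]
    have : sb R M' (admMap R π l e) = - sb R M' (admMap R π l e') := by
      apply relC R M' _ _ a b hab
      · intro r hr
        change r • π (e.1 a) ∈ spanBefore R M' (π ∘ e.1) b
        rw [← map_spanBefore]
        exact ⟨_, h1 r hr, by simp⟩
      · change π ∘ e'.1 = (π ∘ e.1) ∘ Equiv.swap a b
        rw [h2]; rfl
    rw [this, neg_add_cancel]

/-- functoriality of `DetOfLen` -/
noncomputable def detMap : DetOfLen R M l →ₗ[ResidueField R] DetOfLen R M' l :=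
  Submodule.liftQ _ (freeMap R π l) (freeMap_rel R π l)

lemma detMap_sb (e : Adm R M l) : detMap R π l (sb R M e) = sb R M' (admMap R π l e) := by
  unfold detMap sb
  rw [Submodule.liftQ_apply, freeMap_sym]
  rfl

end detMap

section exist
variable {M : Type v} [AddCommGroup M] [Module R M]

lemma le_length_of_strict {n : ℕ} (e : Fin n → M)
    (hs : ∀ i : Fin n, e i ∉ spanBefore R M e i) : (n : ℕ∞) ≤ Module.length R M := by
  let g : Fin (n + 1) → Submodule R M := fun i => spanBefore R M e i
  have hg : StrictMono g := by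
    apply Fin.strictMono_iff_lt_succ.2
    intro i
    have h1 : ((Fin.castSucc i : Fin (n + 1)) : ℕ) = i := rfl
    have h2 : ((Fin.succ i : Fin (n + 1)) : ℕ) = i + 1 := rfl
    simp only [g, h1, h2]
    apply lt_of_le_of_ne (spanBefore_mono R M e (Nat.le_succ _))
    intro heq
    apply hs i
    have : e i ∈ spanBefore R M e ((i : ℕ) + 1) :=
      mem_spanBefore_of_lt R M e i (Nat.lt_succ_self _)
    rw [← heq] at this
    exact this
  let p : LTSeries (Submodule R M) := ⟨n, g, fun i => hg (Fin.castSucc_lt_succ (i := i))⟩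
  have h1 := Order.LTSeries.length_le_krullDim p
  rw [← Module.coe_length] at h1
  have : ((p.length : ℕ∞) : WithBot ℕ∞) ≤ (Module.length R M : WithBot ℕ∞) := h1
  exact_mod_cast this

lemma length_spanBefore_le' {n : ℕ} (e : Fin n → M) (he : IsAdmissible R M e) :
    ∀ t : ℕ, t ≤ n → Module.length R ↥(spanBefore R M e t) ≤ t := by
  intro t
  induction t with
  | zero =>
    intro _
    rw [spanBefore_zero, Module.length_bot]
    simp
  | succ t ih =>
    intro ht
    have iht := ih (by omega)
    let i : Fin n := ⟨t, by omega⟩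
    have hsucc : spanBefore R M e (t + 1) = spanBefore R M e t ⊔ Submodule.span R {e i} :=
      spanBefore_succ R M e i
    rw [hsucc]
    have h1 := length_sup_span_le R (spanBefore R M e t) (e i) (fun r hr => he i r hr)
    push_cast
    exact h1.trans (by gcongr)

lemma length_eq_of_strict_gen {n : ℕ} (e : Fin n → M) (he : IsAdmissible R M e)
    (hs : ∀ i : Fin n, e i ∉ spanBefore R M e i) (htop : spanBefore R M e n = ⊤) :
    Module.length R M = n := by
  apply le_antisymm
  · have := length_spanBefore_le' R e he n le_rfl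
    rwa [htop, Module.length_top] at this
  · exact le_length_of_strict R e hs

lemma smul_mem_of_simple_quotient (N : Submodule R M) [IsSimpleModule R (M ⧸ N)] (x : M)
    (r : R) (hr : r ∈ maximalIdeal R) : r • x ∈ N := by
  have hmax : (Module.annihilator R (M ⧸ N)).IsMaximal := IsSimpleModule.annihilator_isMaximal
  have : Module.annihilator R (M ⧸ N) = maximalIdeal R := IsLocalRing.eq_maximalIdeal hmax
  rw [← this, Module.mem_annihilator] at hr
  have := hr (Submodule.Quotient.mk x)
  rw [← Submodule.Quotient.mk_smul, Submodule.Quotient.mk_eq_zero] at this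
  exact this

theorem exists_strict (hM : IsFiniteLength R M) :
    ∃ (n : ℕ) (e : Adm R M n), (∀ i : Fin n, e.1 i ∉ spanBefore R M e.1 i) ∧
      spanBefore R M e.1 n = ⊤ := by
  induction hM with
  | of_subsingleton =>
    refine ⟨0, ⟨fun i => i.elim0, fun i => i.elim0⟩, fun i => i.elim0, ?_⟩
    exact Subsingleton.elim _ _
  | @of_simple_quotient M _ _ N _ _ ih =>
    obtain ⟨n, e, hs, htop⟩ := ih
    have hNne : N ≠ ⊤ := by
      have := (isSimpleModule_iff_isCoatom (R := R) (m := N)).1 inferInstance
      exact this.1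
    obtain ⟨x, hx⟩ : ∃ x : M, x ∉ N := by
      by_contra h
      push Not at h
      exact hNne (eq_top_iff.2 (fun y _ => h y))
    let e' : Fin (n + 1) → M := Fin.snoc (N.subtype ∘ e.1) x
    have he'c : ∀ j : Fin n, e' j.castSucc = N.subtype (e.1 j) := by
      intro j; simp [e']
    have he'l : e' (Fin.last n) = x := by simp [e']
    have hsp : ∀ t : ℕ, t ≤ n → spanBefore R M e' t = (spanBefore R N e.1 t).map N.subtype := by
      intro t ht
      rw [map_spanBefore]
      apply le_antisymm
      · apply spanBefore_le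
        intro j hj
        have hjn : (j : ℕ) < n := by omega
        have : j = (⟨j, hjn⟩ : Fin n).castSucc := Fin.ext rfl
        rw [this, he'c]
        exact mem_spanBefore_of_lt R M (N.subtype ∘ e.1) ⟨j, hjn⟩ hj
      · apply spanBefore_le
        intro j hj
        have : (N.subtype ∘ e.1) j = e' j.castSucc := (he'c j).symm
        rw [this]
        exact mem_spanBefore_of_lt R M e' j.castSucc hj
    have hspn : spanBefore R M e' n = N := by
      rw [hsp n le_rfl, htop, Submodule.map_top, Submodule.range_subtype]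
    have hadm : IsAdmissible R M e' := by
      intro j r hr
      by_cases hj : (j : ℕ) < n
      · have hjj : j = (⟨j, hj⟩ : Fin n).castSucc := Fin.ext rfl
        rw [hsp j hj.le]
        rw [hjj, he'c]
        exact ⟨r • e.1 ⟨j, hj⟩, e.2 ⟨j, hj⟩ r hr, by simp⟩
      · have hjl : j = Fin.last n := Fin.ext (by have := j.2; simp; omega)
        rw [hjl, he'l]
        have : ((Fin.last n : Fin (n + 1)) : ℕ) = n := rfl
        rw [this, hspn]
        exact smul_mem_of_simple_quotient R N x r hr
    refine ⟨n + 1, ⟨e', hadm⟩, ?_, ?_⟩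
    · intro j
      by_cases hj : (j : ℕ) < n
      · have hjj : j = (⟨j, hj⟩ : Fin n).castSucc := Fin.ext rfl
        change e' j ∉ spanBefore R M e' j
        rw [hsp j hj.le]
        rw [hjj, he'c]
        rintro ⟨y, hy, hye⟩
        have : y = e.1 ⟨j, hj⟩ := Subtype.ext hye
        rw [this] at hy
        exact hs ⟨j, hj⟩ hy
      · have hjl : j = Fin.last n := Fin.ext (by have := j.2; simp; omega)
        change e' j ∉ spanBefore R M e' j
        rw [hjl, he'l]
        have : ((Fin.last n : Fin (n + 1)) : ℕ) = n := rfl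
        rw [this, hspn]
        exact hx
    · change spanBefore R M e' (n + 1) = ⊤
      have h1 : spanBefore R M e' (n + 1) = spanBefore R M e' n ⊔ Submodule.span R {e' (Fin.last n)} :=
        spanBefore_succ R M e' (Fin.last n)
      rw [h1, hspn, he'l]
      have hco := (isSimpleModule_iff_isCoatom (R := R) (m := N)).1 inferInstance
      apply hco.2
      apply lt_of_le_of_ne le_sup_left
      intro heq
      apply hx
      rw [heq]
      exact Submodule.mem_sup_right (Submodule.mem_span_singleton_self x)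

end exist

section helpers
variable {M : Type v} [AddCommGroup M] [Module R M] {l : ℕ}

lemma succAbove_val (i : Fin (l + 1)) (j : Fin l) :
    ((i.succAbove j : Fin (l + 1)) : ℕ) = if (j : ℕ) < (i : ℕ) then (j : ℕ) else (j : ℕ) + 1 := by
  simp only [Fin.succAbove, Fin.lt_def, Fin.val_castSucc]
  split_ifs <;> simp

lemma spanBefore_remove_top (h : Fin (l + 1) → M) (i : Fin (l + 1))
    (hi : h i ∈ spanBefore R M h i) :
    spanBefore R M (h ∘ i.succAbove) l = spanBefore R M h (l + 1) := by
  apply le_antisymm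
  · apply spanBefore_le
    intro j' _
    exact mem_spanBefore_of_lt R M h _ (i.succAbove j').2
  · have key : ∀ u : Fin (l + 1), u ≠ i → h u ∈ spanBefore R M (h ∘ i.succAbove) l := by
      intro u hu
      obtain ⟨j'', rfl⟩ := Fin.exists_succAbove_eq hu
      exact mem_spanBefore_of_lt R M (h ∘ i.succAbove) j'' j''.2
    apply spanBefore_le
    intro u _
    by_cases hui : u = i
    · rw [hui]
      have h2 : spanBefore R M h i ≤ spanBefore R M (h ∘ i.succAbove) l := by
        apply spanBefore_le
        intro u' hu'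
        exact key u' (fun h => by rw [h] at hu'; omega)
      exact h2 hi
    · exact key u hui

variable {R}

lemma red_span_top {z : M} {g : Fin (l + 1) → M} (hg : IsAdmissible R M g) {i : Fin (l + 1)}
    {s : M} {r : R} (w : Wit R z g i s r) (htop : spanBefore R M g (l + 1) = ⊤) :
    spanBefore R (M ⧸ Submodule.span R {z}) (red R z g i) l = ⊤ := by
  have h1 := spanBefore_remove_top R ((Submodule.span R {z}).mkQ ∘ g) i (wit_pi hg w)
  change spanBefore R _ (red R z g i) l = _ at h1
  rw [h1, ← map_spanBefore, htop, Submodule.map_top, Submodule.range_mkQ]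

lemma red_strict {z : M} (e : Adm R M (l + 1)) (hz : z = e.1 0)
    (hstrict : ∀ i : Fin (l + 1), e.1 i ∉ spanBefore R M e.1 i)
    (w : Wit R z e.1 0 0 1) (j : Fin l) :
    red R z e.1 0 j ∉ spanBefore R (M ⧸ Submodule.span R {z}) (red R z e.1 0) j := by
  intro hj
  rw [red_span e.2 w, red_apply] at hj
  obtain ⟨x, hx, hxe⟩ := hj
  have h1 : x - e.1 ((0 : Fin (l + 1)).succAbove j) ∈ Submodule.span R {z} := by
    rw [← Submodule.ker_mkQ (Submodule.span R {z}), LinearMap.mem_ker, map_sub, hxe, sub_self]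
  have hlt : ((0 : Fin (l + 1)) : ℕ) < (((0 : Fin (l + 1)).succAbove j : Fin (l + 1)) : ℕ) := by
    rw [Fin.succAbove_zero]; simp
  have h2 : Submodule.span R {z} ≤ spanBefore R M e.1 ((0 : Fin (l + 1)).succAbove j) := by
    rw [Submodule.span_singleton_le_iff_mem, hz]
    exact mem_spanBefore_of_lt R M e.1 0 hlt
  apply hstrict ((0 : Fin (l + 1)).succAbove j)
  have : e.1 ((0 : Fin (l + 1)).succAbove j) =
      x - (x - e.1 ((0 : Fin (l + 1)).succAbove j)) := by abel
  rw [this]
  exact Submodule.sub_mem _ hx (h2 h1)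

end helpers

section product
variable {M : Type u} [AddCommGroup M] [Module R M] {q : ℕ}

/-- compatibility of tuples in a short exact sequence -/
structure Compat {K L : Type u} [AddCommGroup K] [Module R K] [AddCommGroup L] [Module R L]
    (f : K →ₗ[R] L) (g : L →ₗ[R] M) {p n : ℕ} (a : Fin p → K) (eL : Fin n → L)
    (eM : Fin q → M) : Prop where
  h1 : ∀ (j : Fin n) (hj : (j : ℕ) < p), eL j = f (a ⟨j, hj⟩)
  h2 : ∀ (j : Fin n) (_ : p ≤ (j : ℕ)) (hj' : (j : ℕ) - p < q), g (eL j) = eM ⟨(j : ℕ) - p, hj'⟩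

variable {R}

lemma Compat.span {K L : Type u} [AddCommGroup K] [Module R K] [AddCommGroup L] [Module R L]
    {f : K →ₗ[R] L} {g : L →ₗ[R] M} {p n : ℕ} (hpn : p ≤ n) {a : Fin p → K} {eL : Fin n → L}
    {eM : Fin q → M} (c : Compat R f g a eL eM) (t : ℕ) (ht : t ≤ p) :
    spanBefore R L eL t = (spanBefore R K a t).map f := by
  rw [map_spanBefore]
  apply le_antisymm
  · apply spanBefore_le
    intro j hj
    have hjp : (j : ℕ) < p := by omega
    rw [c.h1 j hjp]
    exact mem_spanBefore_of_lt R L (f ∘ a) ⟨j, hjp⟩ hj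
  · apply spanBefore_le
    intro j hj
    have hjn : (j : ℕ) < n := by have := j.2; omega
    have := c.h1 ⟨j, hjn⟩ j.2
    change (f ∘ a) j ∈ _
    rw [Function.comp_apply, ← this]
    exact mem_spanBefore_of_lt R L eL ⟨j, hjn⟩ hj

theorem product_formula (ΨMM : DetOfLen R M q →ₗ[ResidueField R] ResidueField R) :
    ∀ (p : ℕ) (K L : Type u) [AddCommGroup K] [Module R K] [AddCommGroup L] [Module R L]
      (f : K →ₗ[R] L) (g : L →ₗ[R] M) (_ : Function.Injective f)
      (_ : LinearMap.range f = LinearMap.ker g)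
      (e₀ : Adm R K p) (_ : ∀ i : Fin p, e₀.1 i ∉ spanBefore R K e₀.1 i) (n : ℕ) (_ : n = p + q),
      ∃ (ΨK : DetOfLen R K p →ₗ[ResidueField R] ResidueField R)
        (ΨL : DetOfLen R L n →ₗ[ResidueField R] ResidueField R),
        ΨK (sb R K e₀) ≠ 0 ∧
        ∀ (a : Adm R K p) (eL : Adm R L n) (eM : Adm R M q), spanBefore R K a.1 p = ⊤ →
          Compat R f g a.1 eL.1 eM.1 → ΨL (sb R L eL) = ΨK (sb R K a) * ΨMM (sb R M eM) := by
  intro p
  induction p with
  | zero =>
    intro K L _ _ _ _ f g hf hfg e₀ hs n hn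
    obtain rfl : n = q := by omega
    have hne : sb R K e₀ ≠ 0 := sb_ne_zero R 0 K e₀ hs
    obtain ⟨ΨK, hΨK⟩ : ∃ Ψ : DetOfLen R K 0 →ₗ[ResidueField R] ResidueField R,
        Ψ (sb R K e₀) ≠ 0 := by
      by_contra hcon
      push Not at hcon
      exact hne ((Module.forall_dual_apply_eq_zero_iff (ResidueField R) _).1 hcon)
    refine ⟨ΨK, ΨK (sb R K e₀) • (ΨMM ∘ₗ detMap R g n), hΨK, ?_⟩
    intro a eL eM _ c
    have ha : a = e₀ := by
      apply Subtype.ext
      funext i
      exact i.elim0
    have hm : admMap R g n eL = eM := by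
      apply Subtype.ext
      funext j
      change g (eL.1 j) = eM.1 j
      rw [c.h2 j (Nat.zero_le _) (by simpa using j.2)]
      congr 1
    rw [LinearMap.smul_apply, LinearMap.comp_apply, detMap_sb, hm, ha, smul_eq_mul]
  | succ p ih =>
    intro K L _ _ _ _ f g hf hfg e₀ hs n hn
    obtain ⟨n', rfl⟩ : ∃ n', n = n' + 1 := ⟨p + q, by omega⟩
    have hn' : n' = p + q := by omega
    obtain ⟨z, hzdef⟩ : ∃ z, z = e₀.1 0 := ⟨_, rfl⟩
    have hn0 : z ∉ spanBefore R K e₀.1 (0 : Fin (p + 1)) := by rw [hzdef]; exact hs 0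
    have hz : z ≠ 0 := by
      intro h
      apply hn0
      rw [h]; exact Submodule.zero_mem _
    have hfz : f z ≠ 0 := by
      intro h
      exact hz (hf (by rw [h, map_zero]))
    have w0 : Wit R z e₀.1 0 0 1 := ⟨Submodule.zero_mem _, by rw [hzdef]; simp, hn0⟩
    -- quotient data
    have hle1 : Submodule.span R {z} ≤ (Submodule.span R {f z}).comap f := by
      rw [Submodule.span_singleton_le_iff_mem, Submodule.mem_comap]
      exact Submodule.mem_span_singleton_self _
    have hle2 : Submodule.span R {f z} ≤ LinearMap.ker g := by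
      rw [Submodule.span_singleton_le_iff_mem, ← hfg]
      exact LinearMap.mem_range_self f z
    let f' : (K ⧸ Submodule.span R {z}) →ₗ[R] (L ⧸ Submodule.span R {f z}) :=
      Submodule.mapQ _ _ f hle1
    let g' : (L ⧸ Submodule.span R {f z}) →ₗ[R] M := Submodule.liftQ _ g hle2
    have hf' : Function.Injective f' := by
      rw [injective_iff_map_eq_zero]
      intro x hx
      induction x using Submodule.Quotient.induction_on with
      | H x =>
        simp only [f', Submodule.mapQ_apply, Submodule.Quotient.mk_eq_zero] at hx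
        obtain ⟨r, hr⟩ := Submodule.mem_span_singleton.1 hx
        have : x = r • z := hf (by rw [map_smul, hr])
        rw [Submodule.Quotient.mk_eq_zero, this]
        exact Submodule.smul_mem _ _ (Submodule.mem_span_singleton_self z)
    have hfg' : LinearMap.range f' = LinearMap.ker g' := by
      apply le_antisymm
      · rintro _ ⟨x, rfl⟩
        induction x using Submodule.Quotient.induction_on with
        | H x =>
          simp only [f', g', Submodule.mapQ_apply, LinearMap.mem_ker, Submodule.liftQ_apply]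
          have : f x ∈ LinearMap.ker g := by rw [← hfg]; exact LinearMap.mem_range_self f x
          exact this
      · intro y hy
        induction y using Submodule.Quotient.induction_on with
        | H y =>
          simp only [g', LinearMap.mem_ker, Submodule.liftQ_apply] at hy
          have : y ∈ LinearMap.range f := by rw [hfg]; exact hy
          obtain ⟨x, rfl⟩ := this
          exact ⟨Submodule.Quotient.mk x, by simp [f', Submodule.mapQ_apply]⟩
    let e₀' : Adm R (K ⧸ Submodule.span R {z}) p := ⟨red R z e₀.1 0, red_adm e₀.2 w0⟩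
    have hs' : ∀ j : Fin p, e₀'.1 j ∉ spanBefore R _ e₀'.1 j := red_strict e₀ hzdef hs w0
    obtain ⟨ΨK', ΨL', hΨ1, hΨ2⟩ := ih (K ⧸ Submodule.span R {z}) (L ⧸ Submodule.span R {f z})
      f' g' hf' hfg' e₀' hs' n' hn'
    refine ⟨ΨM R ΨK' hz, ΨM R ΨL' hfz, ?_, ?_⟩
    · rw [ΨM_sb, ψ_of_wit ΨK' w0]
      have h2 : ev R ΨK' (red R z e₀.1 0) = ΨK' (sb R _ e₀') := by
        unfold ev
        rw [dif_pos (red_adm e₀.2 w0)]
      rw [h2]
      simpa using hΨ1
    · intro a eL eM ha c
      have hz_in : z ∈ spanBefore R K a.1 (p + 1) := by rw [ha]; trivial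
      obtain ⟨i, s, r, w⟩ := (exists_wit_iff hz).2 hz_in
      have hpn : p + 1 ≤ n' + 1 := by omega
      let i' : Fin (n' + 1) := ⟨i, by have := i.2; omega⟩
      have hi'val : (i' : ℕ) = i := rfl
      have hsp := c.span hpn
      have wL : Wit R (f z) eL.1 i' (f s) r := by
        refine ⟨?_, ?_, ?_⟩
        · rw [hi'val, hsp i (by have := i.2; omega)]
          exact ⟨s, w.hs, rfl⟩
        · rw [c.h1 i' i.2, w.hz, map_add, map_smul]
        · rw [hi'val, hsp i (by have := i.2; omega)]
          rintro ⟨y, hy, hyz⟩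
          exact w.hn (by rw [← hf hyz]; exact hy)
      let a' : Adm R (K ⧸ Submodule.span R {z}) p := ⟨red R z a.1 i, red_adm a.2 w⟩
      let eL' : Adm R (L ⧸ Submodule.span R {f z}) n' := ⟨red R (f z) eL.1 i', red_adm eL.2 wL⟩
      have ha' : spanBefore R _ a'.1 p = ⊤ := red_span_top a.2 w ha
      have c' : Compat R f' g' a'.1 eL'.1 eM.1 := by
        refine ⟨?_, ?_⟩
        · intro j hj
          change red R (f z) eL.1 i' j = f' (red R z a.1 i ⟨j, hj⟩)
          rw [red_apply, red_apply]
          simp only [f', Submodule.mkQ_apply, Submodule.mapQ_apply]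
          congr 1
          have hv : ((i'.succAbove j : Fin (n' + 1)) : ℕ) < p + 1 := by
            rw [succAbove_val]; split_ifs <;> omega
          rw [c.h1 _ hv]
          exact congrArg (fun t => f (a.1 t)) (Fin.ext (by
            change ((i'.succAbove j : Fin (n' + 1)) : ℕ) = ((i.succAbove ⟨j, hj⟩ : Fin (p + 1)) : ℕ)
            rw [succAbove_val, succAbove_val]))
        · intro j hj hj'
          change g' (red R (f z) eL.1 i' j) = _
          rw [red_apply]
          simp only [g', Submodule.mkQ_apply, Submodule.liftQ_apply]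
          have hv : ((i'.succAbove j : Fin (n' + 1)) : ℕ) = (j : ℕ) + 1 := by
            rw [succAbove_val, if_neg (by have := i.2; omega)]
          rw [c.h2 _ (by omega) (by omega)]
          exact congrArg eM.1 (Fin.ext (by
            change ((i'.succAbove j : Fin (n' + 1)) : ℕ) - (p + 1) = (j : ℕ) - p
            rw [hv]; omega))
      have hIH := hΨ2 a' eL' eM ha' c'
      rw [ΨM_sb, ΨM_sb, ψ_of_wit ΨK' w, ψ_of_wit ΨL' wL]
      have h2 : ev R ΨK' (red R z a.1 i) = ΨK' (sb R _ a') := by
        unfold ev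
        rw [dif_pos (red_adm a.2 w)]
      have h3 : ev R ΨL' (red R (f z) eL.1 i') = ΨL' (sb R _ eL') := by
        unfold ev
        rw [dif_pos (red_adm eL.2 wL)]
      rw [h2, h3, hIH, hi'val]
      ring

end product

section assembly
variable {K L M : Type u} [AddCommGroup K] [Module R K] [AddCommGroup L] [Module R L]
  [AddCommGroup M] [Module R M]
variable {R}

lemma adm_of_compat {f : K →ₗ[R] L} {g : L →ₗ[R] M} (hfg : LinearMap.range f = LinearMap.ker g)
    {p q n : ℕ} (hn : n = p + q) {a : Fin p → K} {eL : Fin n → L} {eM : Fin q → M}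
    (c : Compat R f g a eL eM) (ha : IsAdmissible R K a) (hM : IsAdmissible R M eM)
    (htop : spanBefore R K a p = ⊤) : IsAdmissible R L eL := by
  have hpn : p ≤ n := by omega
  have hsp := c.span hpn
  have lift_span : ∀ t : ℕ, t ≤ q → ∀ x : L, g x ∈ spanBefore R M eM t →
      x ∈ spanBefore R L eL (p + t) := by
    intro t ht x hx
    have h1 : spanBefore R M eM t ≤ (spanBefore R L eL (p + t)).map g := by
      apply spanBefore_le
      intro j hj
      have hjn : p + (j : ℕ) < n := by have := j.2; omega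
      refine ⟨eL ⟨p + j, hjn⟩, mem_spanBefore_of_lt R L eL ⟨p + j, hjn⟩ (by simp; omega), ?_⟩
      rw [c.h2 ⟨p + j, hjn⟩ (by simp) (by simp)]
      exact congrArg eM (Fin.ext (by simp))
    obtain ⟨y, hy, hyx⟩ := h1 hx
    have h2 : x - y ∈ LinearMap.ker g := by
      rw [LinearMap.mem_ker, map_sub, hyx, sub_self]
    rw [← hfg] at h2
    obtain ⟨k, hk⟩ := h2
    have h3 : f k ∈ spanBefore R L eL p := by
      rw [hsp p le_rfl, htop]
      exact ⟨k, trivial, rfl⟩
    have : x = (x - y) + y := by abel
    rw [this, ← hk]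
    exact Submodule.add_mem _ (spanBefore_mono R L eL (by omega) h3) hy
  intro j r hr
  by_cases hj : (j : ℕ) < p
  · rw [hsp j hj.le, c.h1 j hj]
    exact ⟨r • a ⟨j, hj⟩, ha ⟨j, hj⟩ r hr, by simp⟩
  · push Not at hj
    have hjq : (j : ℕ) - p < q := by have := j.2; omega
    have h1 : g (r • eL j) ∈ spanBefore R M eM ((j : ℕ) - p) := by
      rw [map_smul, c.h2 j hj hjq]
      exact hM ⟨(j : ℕ) - p, hjq⟩ r hr
    have := lift_span ((j : ℕ) - p) hjq.le _ h1
    have h2 : p + ((j : ℕ) - p) = j := by omega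
    rwa [h2] at this

lemma bijective_of_gen {V : Type*} [AddCommGroup V] [Module (ResidueField R) V]
    (Ψ : V →ₗ[ResidueField R] ResidueField R)
    (hgen : ∃ v₀ : V, ∀ v : V, ∃ r : ResidueField R, r • v₀ = v) (hne : ∃ v, Ψ v ≠ 0) :
    Function.Bijective Ψ := by
  obtain ⟨v₀, hv₀⟩ := hgen
  obtain ⟨v, hv⟩ := hne
  have h0 : Ψ v₀ ≠ 0 := by
    intro h
    obtain ⟨r, hr⟩ := hv₀ v
    apply hv
    rw [← hr, map_smul, h, smul_zero]
  constructor
  · rw [injective_iff_map_eq_zero]
    intro x hx
    obtain ⟨r, hr⟩ := hv₀ x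
    rw [← hr, map_smul, smul_eq_mul, mul_eq_zero] at hx
    rcases hx with h | h
    · rw [← hr, h, zero_smul]
    · exact absurd h h0
  · intro y
    refine ⟨(y / Ψ v₀) • v₀, ?_⟩
    rw [map_smul, smul_eq_mul, div_mul_cancel₀ _ h0]

end assembly

open TensorProduct in
theorem main (K L M : Type u) [AddCommGroup K] [Module R K] [AddCommGroup L] [Module R L]
    [AddCommGroup M] [Module R M] (hK : IsFiniteLength R K) (hM : IsFiniteLength R M)
    (f : K →ₗ[R] L) (g : L →ₗ[R] M) (hf : Function.Injective f) (hg : Function.Surjective g)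
    (hfg : LinearMap.range f = LinearMap.ker g)
    (hlen : (Module.length R K).toNat + (Module.length R M).toNat = (Module.length R L).toNat) :
    ∃ γ : (CycDet.Det R K ⊗[IsLocalRing.ResidueField R] CycDet.Det R M) ≃ₗ[IsLocalRing.ResidueField R]
        CycDet.Det R L,
      ∀ (eK : CycDet.Adm R K (Module.length R K).toNat)
        (eM : CycDet.Adm R M (Module.length R M).toNat)
        (eL : CycDet.Adm R L (Module.length R L).toNat), CycDet.symbol R K eK ≠ 0 →
        (∀ i : Fin (Module.length R K).toNat,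
          eL.1 (Fin.cast hlen (Fin.castAdd (Module.length R M).toNat i)) = f (eK.1 i)) →
        (∀ j : Fin (Module.length R M).toNat,
          g (eL.1 (Fin.cast hlen (Fin.natAdd (Module.length R K).toNat j))) = eM.1 j) →
        γ (CycDet.symbol R K eK ⊗ₜ CycDet.symbol R M eM) = CycDet.symbol R L eL := by
  have hKtop := Module.length_ne_top_iff.2 hK
  have hMtop := Module.length_ne_top_iff.2 hM
  have hex : Function.Exact f g := LinearMap.exact_iff.2 hfg.symm
  have hLlen := Module.length_eq_add_of_exact f g hf hg hex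
  have hLtop : Module.length R L ≠ ⊤ := by
    rw [hLlen, Ne, ENat.add_eq_top, not_or]; exact ⟨hKtop, hMtop⟩
  have lK : Module.length R K ≤ ((Module.length R K).toNat : ℕ∞) := by rw [ENat.coe_toNat hKtop]
  have lM : Module.length R M ≤ ((Module.length R M).toNat : ℕ∞) := by rw [ENat.coe_toNat hMtop]
  have lL : Module.length R L ≤ ((Module.length R L).toNat : ℕ∞) := by rw [ENat.coe_toNat hLtop]
  obtain ⟨nK, e₀, hs₀, htop₀⟩ := exists_strict R hK
  have hnK : nK = (Module.length R K).toNat := by
    rw [length_eq_of_strict_gen R e₀.1 e₀.2 hs₀ htop₀]; simp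
  subst hnK
  obtain ⟨nM, m₀, hsM, htopM⟩ := exists_strict R hM
  have hnM : nM = (Module.length R M).toNat := by
    rw [length_eq_of_strict_gen R m₀.1 m₀.2 hsM htopM]; simp
  subst hnM
  have hneM : sb R M m₀ ≠ 0 := sb_ne_zero R _ M m₀ hsM
  obtain ⟨ΨMM, hΨMM⟩ : ∃ Ψ : DetOfLen R M (Module.length R M).toNat →ₗ[ResidueField R]
      ResidueField R, Ψ (sb R M m₀) ≠ 0 := by
    by_contra hcon
    push Not at hcon
    exact hneM ((Module.forall_dual_apply_eq_zero_iff (ResidueField R) _).1 hcon)
  obtain ⟨ΨK, ΨL, hΨK, hprod⟩ := product_formula ΨMM _ K L f g hf hfg e₀ hs₀ _ hlen.symm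
  -- a compatible tuple
  let t₀ : Fin (Module.length R L).toNat → L := fun j =>
    if h : (j : ℕ) < (Module.length R K).toNat then f (e₀.1 ⟨j, h⟩)
    else Function.surjInv hg (m₀.1 ⟨(j : ℕ) - (Module.length R K).toNat, by
      have := j.2; omega⟩)
  have c₀ : Compat R f g e₀.1 t₀ m₀.1 := by
    refine ⟨fun j hj => ?_, fun j hj hj' => ?_⟩
    · simp only [t₀]; rw [dif_pos hj]
    · simp only [t₀]; rw [dif_neg (not_lt.2 hj), Function.surjInv_eq hg]
  have hadm₀ : IsAdmissible R L t₀ := adm_of_compat hfg hlen.symm c₀ e₀.2 m₀.2 htop₀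
  have hΨL : ΨL (sb R L ⟨t₀, hadm₀⟩) ≠ 0 := by
    rw [hprod e₀ ⟨t₀, hadm₀⟩ m₀ htop₀ c₀]; exact mul_ne_zero hΨK hΨMM
  have bK := bijective_of_gen ΨK (exists_gen' R K _ lK) ⟨_, hΨK⟩
  have bM := bijective_of_gen ΨMM (exists_gen' R M _ lM) ⟨_, hΨMM⟩
  have bL := bijective_of_gen ΨL (exists_gen' R L _ lL) ⟨_, hΨL⟩
  let EK := LinearEquiv.ofBijective ΨK bK
  let EM := LinearEquiv.ofBijective ΨMM bM
  let EL := LinearEquiv.ofBijective ΨL bL
  refine ⟨(TensorProduct.congr EK EM).trans
    ((TensorProduct.lid (ResidueField R) (ResidueField R)).trans EL.symm), ?_⟩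
  intro eK eM eL hne h1 h2
  have hsK : ∀ i : Fin (Module.length R K).toNat, eK.1 i ∉ spanBefore R K eK.1 i :=
    fun i hi => hne (relA R K eK i hi)
  have htopK := spanBefore_top_of_strict R K eK.1 lK hsK
  have c : Compat R f g eK.1 eL.1 eM.1 := by
    refine ⟨fun j hj => ?_, fun j hj hj' => ?_⟩
    · have := h1 ⟨j, hj⟩
      rw [← this]
      exact congrArg eL.1 (Fin.ext rfl)
    · have := h2 ⟨(j : ℕ) - (Module.length R K).toNat, hj'⟩
      rw [← this]
      exact congrArg (fun t => g (eL.1 t)) (Fin.ext (by simp; omega))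
  have hp := hprod eK eL eM htopK c
  rw [LinearEquiv.trans_apply, LinearEquiv.trans_apply, TensorProduct.congr_tmul,
    TensorProduct.lid_tmul, LinearEquiv.symm_apply_eq]
  change ΨK (sb R K eK) • ΨMM (sb R M eM) = ΨL (sb R L eL)
  rw [hp, smul_eq_mul]

end Groth.Agent.Helper8.CycG
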