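import Mathlib
import Groth.Agent.Helper8.DDGrpd
import Groth.Agent.Helper8.GrpdGlueF

/-!
# Effectiveness of descent data whose groupoid admits a quotient

If the groupoid `(V, V ×_Y X)` of a descent datum satisfies the hypotheses of the quotient theorem
(`QuotHyp`: source finite locally free, orbits contained in affine opens), the descent datum is effective.
-/

set_option autoImplicit false
universe u

namespace Groth.Agent.Helper8.DDEff

open CategoryTheory CategoryTheory.Limits AlgebraicGeometry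
open Groth.Agent.Helper8.DDGrpd Groth.Agent.Helper8.GrpdGlue

variable {X Y : Scheme.{u}} {p : X ⟶ Y}

/-- a morphism of descent data whose underlying morphism of schemes is an isomorphism is an isomorphism -/
lemma isIso_of_isIso_left {D D' : Desc.SchDD p} (g : D ⟶ D') [IsIso g.hom.left] : IsIso g := by
  haveI : IsIso ((Over.forget X).map g.hom) := (inferInstance : IsIso g.hom.left)
  haveI : IsIso g.hom := isIso_of_reflects_iso _ (Over.forget X)
  have hgi : g.hom.left ≫ (inv g.hom).left = 𝟙 _ := by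
    rw [← Over.comp_left, IsIso.hom_inv_id]; rfl
  have hig : (inv g.hom).left ≫ g.hom.left = 𝟙 _ := by
    rw [← Over.comp_left, IsIso.inv_hom_id]; rfl
  refine ⟨⟨⟨inv g.hom, ?_⟩, ?_, ?_⟩⟩
  · intro T x₀ x₁ h v w hw
    have h1 := g.comm x₀ x₁ h w v (by rw [hw, Category.assoc, hig, Category.comp_id])
    rw [h1, Category.assoc, hgi, Category.comp_id]
  · apply Desc.SchDD.hom_ext
    exact IsIso.hom_inv_id g.hom
  · apply Desc.SchDD.hom_ext
    exact IsIso.inv_hom_id g.hom

variable (D : Desc.SchDD p) [QuotHyp (grpd D)]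

lemma s_f : (grpd D).s ≫ f D = (grpd D).t ≫ f D :=
  (grpd D).s_over.trans (grpd D).t_over.symm

/-- the quotient scheme -/
noncomputable abbrev W : Scheme.{u} := GrpdGlue.Y (grpd D)

/-- the quotient map -/
noncomputable abbrev qq : D.obj.left ⟶ W D := GrpdGlue.q (grpd D)

lemma s_qq : sR D ≫ qq D = tR D ≫ qq D := GrpdGlue.s_q (grpd D)

/-- the structure map of the quotient -/
noncomputable def w : W D ⟶ Y := (exists_desc (grpd D) (f D) (s_f D)).choose

lemma qq_w : qq D ≫ w D = f D := (exists_desc (grpd D) (f D) (s_f D)).choose_spec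

/-- the comparison map `V → X ×_Y W` -/
noncomputable def θ : D.obj.left ⟶ pullback p (w D) :=
  pullback.lift D.obj.hom (qq D) (by rw [qq_w])

@[reassoc] lemma θ_fst : θ D ≫ pullback.fst p (w D) = D.obj.hom := pullback.lift_fst _ _ _
@[reassoc] lemma θ_snd : θ D ≫ pullback.snd p (w D) = qq D := pullback.lift_snd _ _ _

/-- `(v₁, v₂) ↦ (θ v₁, v₂)` -/
noncomputable def m : pullback (qq D) (qq D) ⟶ pullback (pullback.snd p (w D)) (qq D) :=
  pullback.lift (pullback.fst (qq D) (qq D) ≫ θ D) (pullback.snd (qq D) (qq D)) (by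
    rw [Category.assoc, θ_snd]; exact pullback.condition)

@[reassoc] lemma m_fst : m D ≫ pullback.fst (pullback.snd p (w D)) (qq D) =
    pullback.fst (qq D) (qq D) ≫ θ D := pullback.lift_fst _ _ _
@[reassoc] lemma m_snd : m D ≫ pullback.snd (pullback.snd p (w D)) (qq D) =
    pullback.snd (qq D) (qq D) := pullback.lift_snd _ _ _

lemma ρ_cond : xR D ≫ p = (sR D ≫ qq D) ≫ w D := by
  rw [Category.assoc, qq_w]; exact pullback.condition.symm

/-- `(v, x) ↦ ((x, q v), v)` -/
noncomputable def ρ : R D ⟶ pullback (pullback.snd p (w D)) (qq D) :=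
  pullback.lift (pullback.lift (xR D) (sR D ≫ qq D) (ρ_cond D)) (sR D) (pullback.lift_snd _ _ _)

@[reassoc] lemma ρ_fst : ρ D ≫ pullback.fst (pullback.snd p (w D)) (qq D) =
    pullback.lift (xR D) (sR D ≫ qq D) (ρ_cond D) := pullback.lift_fst _ _ _
@[reassoc] lemma ρ_snd : ρ D ≫ pullback.snd (pullback.snd p (w D)) (qq D) = sR D :=
  pullback.lift_snd _ _ _

lemma ρ'_cond : pullback.snd (pullback.snd p (w D)) (qq D) ≫ f D =
    (pullback.fst (pullback.snd p (w D)) (qq D) ≫ pullback.fst p (w D)) ≫ p := by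
  have h1 : pullback.fst (pullback.snd p (w D)) (qq D) ≫ pullback.snd p (w D) =
      pullback.snd _ _ ≫ qq D := pullback.condition
  calc pullback.snd (pullback.snd p (w D)) (qq D) ≫ f D
      = pullback.snd (pullback.snd p (w D)) (qq D) ≫ qq D ≫ w D := by rw [qq_w]
    _ = (pullback.fst (pullback.snd p (w D)) (qq D) ≫ pullback.snd p (w D)) ≫ w D := by
        rw [← Category.assoc, ← h1]
    _ = pullback.fst (pullback.snd p (w D)) (qq D) ≫ pullback.fst p (w D) ≫ p := by
        rw [Category.assoc, ← pullback.condition]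
    _ = _ := (Category.assoc _ _ _).symm

/-- inverse of `ρ` -/
noncomputable def ρ' : pullback (pullback.snd p (w D)) (qq D) ⟶ R D :=
  pullback.lift (pullback.snd _ _) (pullback.fst _ _ ≫ pullback.fst p (w D)) (ρ'_cond D)

instance : IsIso (ρ D) := by
  refine ⟨ρ' D, ?_, ?_⟩
  · apply hom_ext_R
    · rw [Category.assoc, ρ', pullback.lift_fst, ρ_snd, Category.id_comp]
    · rw [Category.assoc, ρ', pullback.lift_snd, ρ_fst_assoc, pullback.lift_fst, Category.id_comp]
  · apply pullback.hom_ext
    · rw [Category.assoc, ρ_fst, Category.id_comp]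
      apply pullback.hom_ext
      · rw [Category.assoc, pullback.lift_fst, ρ', pullback.lift_snd]
      · rw [Category.assoc, pullback.lift_snd, ρ', pullback.lift_fst_assoc]
        exact pullback.condition.symm
    · rw [Category.assoc, ρ_snd, ρ', pullback.lift_fst, Category.id_comp]

lemma φ_m : GrpdGlue.φ (grpd D) ≫ m D = ρ D := by
  apply pullback.hom_ext
  · rw [Category.assoc, m_fst, ρ_fst, ← Category.assoc, GrpdGlue.φ_fst]
    apply pullback.hom_ext
    · rw [Category.assoc, θ_fst, pullback.lift_fst]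
      exact tR_hom D
    · rw [Category.assoc, θ_snd, pullback.lift_snd]
      exact (s_qq D).symm
  · rw [Category.assoc, m_snd, ρ_snd, GrpdGlue.φ_snd]

instance : IsIso (m D) := by
  haveI := GrpdGlue.isIso_φ (grpd D)
  have : m D = inv (GrpdGlue.φ (grpd D)) ≫ ρ D := by
    rw [IsIso.eq_inv_comp, φ_m]
  rw [this]
  infer_instance

lemma isPullback_m : IsPullback (m D) (pullback.fst (qq D) (qq D))
    (pullback.fst (pullback.snd p (w D)) (qq D)) (θ D) := by
  refine IsPullback.of_right ?_ (m_fst D) (IsPullback.of_hasPullback (pullback.snd p (w D)) (qq D)).flip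
  rw [m_snd, θ_snd]
  exact (IsPullback.of_hasPullback (qq D) (qq D)).flip

instance isIso_θ : IsIso (θ D) := by
  haveI := GrpdGlue.isFinite_q (grpd D)
  haveI := GrpdGlue.flat_q (grpd D)
  have hQ : (@Surjective ⊓ @Flat ⊓ @QuasiCompact : MorphismProperty Scheme.{u})
      (pullback.fst (pullback.snd p (w D)) (qq D)) :=
    ⟨⟨inferInstance, inferInstance⟩, inferInstance⟩
  exact MorphismProperty.DescendsAlong.of_isPullback (P := MorphismProperty.isomorphisms Scheme.{u})
    (isPullback_m D) hQ (inferInstance : IsIso (m D))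

lemma tr_qq {T : Scheme.{u}} (x₀ x₁ : T ⟶ X) (h : x₀ ≫ p = x₁ ≫ p) (v : T ⟶ D.obj.left)
    (hv : v ≫ D.obj.hom = x₀) : tr D x₀ x₁ h v hv ≫ qq D = v ≫ qq D := by
  have hc : v ≫ f D = x₁ ≫ p := by rw [← Category.assoc, hv, h]
  have h1 : pullback.lift v x₁ hc ≫ sR D = v := pullback.lift_fst _ _ _
  have h2 : pullback.lift v x₁ hc ≫ xR D = x₁ := pullback.lift_snd _ _ _
  have h3 : pullback.lift v x₁ hc ≫ tR D = tr D x₀ x₁ h v hv := by
    rw [comp_tR D _ x₀ (by rw [h1, hv])]
    exact tr_congr D rfl h2 h1 _ _ _ _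
  rw [← h3, Category.assoc, ← s_qq, ← Category.assoc, h1]

/-- the comparison morphism of descent data -/
noncomputable def θDD : D ⟶ (Desc.toDD p).obj (Over.mk (w D)) where
  hom := Over.homMk (θ D) (θ_fst D)
  comm := by
    intro T x₀ x₁ h v w' hw'
    have hw'' : w'.1 = v.1 ≫ θ D := hw'
    show (Desc.canMap p (Over.mk (w D)) x₀ x₁ h w').1 = (D.φ x₀ x₁ h v).1 ≫ θ D
    rw [Desc.canMap_val]
    refine pullback.hom_ext (f := p) (g := w D) ?_ ?_
    · refine (pullback.lift_fst _ _ _).trans ?_
      rw [Category.assoc, θ_fst]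
      exact (D.φ x₀ x₁ h v).2.symm
    · refine (pullback.lift_snd _ _ _).trans ?_
      rw [Category.assoc, θ_snd]
      refine Eq.trans ?_ (tr_qq D x₀ x₁ h v.1 v.2).symm
      rw [← θ_snd D, ← Category.assoc, ← hw'']
      rfl

theorem effective : ∃ U : Over Y, Nonempty ((Desc.toDD p).obj U ≅ D) := by
  haveI : IsIso (θDD D).hom.left := isIso_θ D
  haveI := isIso_of_isIso_left (θDD D)
  exact ⟨Over.mk (w D), ⟨(asIso (θDD D)).symm⟩⟩

end Groth.Agent.Helper8.DDEff
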