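import Mathlib
import Groth.Agent.Helper8.DDEff

/-!
# Descent along finite locally free morphisms: orbits in affine opens
-/

set_option autoImplicit false
universe u

namespace Groth.Agent.Helper8.DDFin

open CategoryTheory CategoryTheory.Limits AlgebraicGeometry
open Groth.Agent.Helper8.DDGrpd Groth.Agent.Helper8.GrpdGlue

variable {X Y : Scheme.{u}} {p : X ⟶ Y}

lemma t_over_pt (D : Desc.SchDD p) (r : R D) :
    p (D.obj.hom (tR D r)) = p (D.obj.hom (sR D r)) := by
  have e : tR D ≫ D.obj.hom ≫ p = sR D ≫ D.obj.hom ≫ p := (grpd D).t_over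
  calc p (D.obj.hom (tR D r)) = (tR D ≫ D.obj.hom ≫ p) r := by
        simp only [Scheme.Hom.comp_apply]
    _ = (sR D ≫ D.obj.hom ≫ p) r := by rw [e]
    _ = p (D.obj.hom (sR D r)) := by simp only [Scheme.Hom.comp_apply]

/-- the quotient hypotheses from: `p` finite locally free and every orbit lies in an affine open -/
theorem quotHyp [IsFinite p] [Flat p] [LocallyOfFinitePresentation p] (D : Desc.SchDD p)
    (h : ∀ v₀ : D.obj.left, ∃ U : D.obj.left.Opens, IsAffineOpen U ∧
      tR D '' (sR D ⁻¹' {v₀}) ⊆ (U : Set D.obj.left)) : QuotHyp (grpd D) where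
  isFinite := inferInstanceAs (IsFinite (pullback.fst (f D) p))
  flat := inferInstanceAs (Flat (pullback.fst (f D) p))
  lfp := inferInstanceAs (LocallyOfFinitePresentation (pullback.fst (f D) p))
  haff := h

theorem effective_of_finset [IsFinite p] [Flat p] [LocallyOfFinitePresentation p]
    (D : Desc.SchDD p)
    (hV : ∀ (y : Y) (s : Finset ↑(D.obj.left)), (∀ v ∈ s, p (D.obj.hom v) = y) →
      ∃ U : D.obj.left.Opens, IsAffineOpen U ∧ ∀ v ∈ s, v ∈ U) :
    ∃ W : Over Y, Nonempty ((Desc.toDD p).obj W ≅ D) := by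
  haveI : QuotHyp (grpd D) := by
    refine quotHyp D ?_
    intro v₀
    haveI : IsFinite (sR D) := inferInstanceAs (IsFinite (pullback.fst (f D) p))
    have hfin : (sR D ⁻¹' {v₀}).Finite := (sR D).finite_preimage_singleton v₀
    have himg : (tR D '' (sR D ⁻¹' {v₀})).Finite := hfin.image _
    obtain ⟨U, hU, hUs⟩ := hV (p (D.obj.hom v₀)) himg.toFinset (by
      intro v hv
      rw [Set.Finite.mem_toFinset] at hv
      obtain ⟨r, hr, rfl⟩ := hv
      rw [t_over_pt, hr])
    exact ⟨U, hU, fun v hv => hUs v (himg.mem_toFinset.mpr hv)⟩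
  exact DDEff.effective D

end Groth.Agent.Helper8.DDFin
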