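import Mathlib
import Groth.Agent.Helper8.DDFin

/-!
# Descent along finite locally free morphisms with bounded geometric fibres
-/

set_option autoImplicit false
universe u

namespace Groth.Agent.Helper8.DDBound

open CategoryTheory CategoryTheory.Limits AlgebraicGeometry
open Groth.Agent.Helper8.DDGrpd Groth.Agent.Helper8.GrpdGlue

variable {X Y : Scheme.{u}} {p : X ⟶ Y}

/-- enumerate a finite nonempty set of cardinality `≤ d` by `Fin d` -/
lemma exists_fin_enum {α : Type*} (E : Set α) (hne : E.Nonempty) (d : ℕ) (hE : E.encard ≤ d) :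
    ∃ v : Fin d → α, (∀ i, v i ∈ E) ∧ ∀ e ∈ E, ∃ i, v i = e := by
  have hfin : E.Finite := Set.finite_of_encard_le_coe hE
  haveI : Fintype E := hfin.fintype
  haveI : Nonempty E := hne.to_subtype
  have hcard : Fintype.card E ≤ Fintype.card (Fin d) := by
    rw [Fintype.card_fin]
    have h1 : E.encard = (Fintype.card E : ℕ∞) := by
      rw [Set.encard_eq_coe_toFinset_card E, Set.toFinset_card]
    rw [h1] at hE
    exact_mod_cast hE
  obtain ⟨emb⟩ := Function.Embedding.nonempty_of_card_le hcard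
  refine ⟨fun i => (Function.invFun emb i : E).1, fun i => (Function.invFun emb i : E).2, ?_⟩
  intro e he
  refine ⟨emb ⟨e, he⟩, ?_⟩
  show ((Function.invFun emb (emb ⟨e, he⟩) : E) : α) = e
  rw [Function.leftInverse_invFun emb.injective]

section

variable [IsFinite p] (D : Desc.SchDD p) (v₀ : D.obj.left)

/-- an algebraic closure of the residue field of `v₀` -/
abbrev kk : Type u := AlgebraicClosure (D.obj.left.residueField v₀)

/-- the geometric point over `v₀` -/
noncomputable def vbar : Spec (CommRingCat.of (kk D v₀)) ⟶ D.obj.left :=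
  Spec.map (CommRingCat.ofHom (algebraMap (D.obj.left.residueField v₀) (kk D v₀))) ≫
    D.obj.left.fromSpecResidueField v₀

lemma vbar_apply (a : Spec (CommRingCat.of (kk D v₀))) : vbar D v₀ a = v₀ := by
  unfold vbar
  rw [Scheme.Hom.comp_apply]
  exact Scheme.fromSpecResidueField_apply _ _

/-- the geometric fibre of the source map -/
noncomputable abbrev FF : Scheme.{u} := pullback (sR D) (vbar D v₀)

noncomputable abbrev gF : FF D v₀ ⟶ Spec (CommRingCat.of (kk D v₀)) := pullback.snd _ _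

instance : IsFinite (sR D) := inferInstanceAs (IsFinite (pullback.fst (f D) p))

instance : DiscreteTopology (FF D v₀) := by
  have h := (gF D v₀).isDiscrete_preimage_singleton (IsLocalRing.closedPoint (kk D v₀))
  exact isDiscrete_univ_iff.mp (h.mono (fun z _ => Subsingleton.elim _ _))

/-- the geometric point of `R` through a point of the geometric fibre -/
noncomputable def rbar (z : FF D v₀) : Spec (CommRingCat.of (kk D v₀)) ⟶ R D :=
  pointOfClosedPoint (gF D v₀) z (isClosed_discrete _) ≫ pullback.fst (sR D) (vbar D v₀)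

lemma rbar_s (z : FF D v₀) : rbar D v₀ z ≫ sR D = vbar D v₀ := by
  unfold rbar
  rw [Category.assoc, pullback.condition, ← Category.assoc]
  erw [pointOfClosedPoint_comp]
  rw [Category.id_comp]

lemma rbar_apply (z : FF D v₀) (a : Spec (CommRingCat.of (kk D v₀))) :
    rbar D v₀ z a = pullback.fst (sR D) (vbar D v₀) z := by
  unfold rbar
  rw [Scheme.Hom.comp_apply, pointOfClosedPoint_apply]

lemma rbar_x_p (z : FF D v₀) : (rbar D v₀ z ≫ xR D) ≫ p = vbar D v₀ ≫ f D := by
  rw [Category.assoc, ← cond D, ← Category.assoc, ← Category.assoc, rbar_s, Category.assoc]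

lemma encard_fibre_le (d : ℕ)
    (hfib : ∀ (k : Type u) [Field k] [IsAlgClosed k] (y : Spec (CommRingCat.of k) ⟶ Y),
      Set.encard {x : Spec (CommRingCat.of k) ⟶ X | x ≫ p = y} ≤ d) :
    (sR D ⁻¹' {v₀}).encard ≤ d := by
  have hz : ∀ r : R D, r ∈ sR D ⁻¹' {v₀} → ∃ z : FF D v₀, pullback.fst (sR D) (vbar D v₀) z = r := by
    intro r hr
    obtain ⟨z, hz, -⟩ := Scheme.Pullback.exists_preimage_pullback (f := sR D) (g := vbar D v₀) r
      (IsLocalRing.closedPoint (kk D v₀)) (by rw [vbar_apply]; exact hr)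
    exact ⟨z, hz⟩
  haveI : Nonempty (FF D v₀) := ⟨(hz (eR D v₀) (by
      show sR D (eR D v₀) = v₀
      rw [← Scheme.Hom.comp_apply, eR_s]; rfl)).choose⟩
  let zr : R D → FF D v₀ := fun r =>
    Classical.epsilon (fun z => pullback.fst (sR D) (vbar D v₀) z = r)
  have hzr : ∀ r ∈ sR D ⁻¹' {v₀}, pullback.fst (sR D) (vbar D v₀) (zr r) = r :=
    fun r hr => Classical.epsilon_spec (hz r hr)
  refine le_trans (Set.encard_le_encard_of_injOn (f := fun r => rbar D v₀ (zr r) ≫ xR D)
    (t := {x : Spec (CommRingCat.of (kk D v₀)) ⟶ X | x ≫ p = vbar D v₀ ≫ f D}) ?_ ?_)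
    (hfib (kk D v₀) (vbar D v₀ ≫ f D))
  · intro r _
    exact rbar_x_p D v₀ _
  · intro r hr r' hr' heq
    have h1 : rbar D v₀ (zr r) = rbar D v₀ (zr r') :=
      hom_ext_R D ((rbar_s D v₀ _).trans (rbar_s D v₀ _).symm) heq
    have h2 : rbar D v₀ (zr r) (IsLocalRing.closedPoint (kk D v₀)) =
        rbar D v₀ (zr r') (IsLocalRing.closedPoint (kk D v₀)) := by rw [h1]
    rw [rbar_apply, rbar_apply, hzr r hr, hzr r' hr'] at h2
    exact h2

end

theorem effective_of_bounded [IsFinite p] [Flat p] [LocallyOfFinitePresentation p] (d : ℕ)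
    (hfib : ∀ (k : Type u) [Field k] [IsAlgClosed k] (y : Spec (CommRingCat.of k) ⟶ Y),
      Set.encard {x : Spec (CommRingCat.of k) ⟶ X | x ≫ p = y} ≤ d)
    (D : Desc.SchDD p)
    (hV : ∀ (y : Y) (v : Fin d → ↑(D.obj.left)), (∀ i, p (D.obj.hom (v i)) = y) →
      ∃ U : D.obj.left.Opens, IsAffineOpen U ∧ ∀ i, v i ∈ U) :
    ∃ W : Over Y, Nonempty ((Desc.toDD p).obj W ≅ D) := by
  haveI : QuotHyp (grpd D) := by
    refine DDFin.quotHyp D ?_
    intro v₀
    have hE : (tR D '' (sR D ⁻¹' {v₀})).encard ≤ d :=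
      (Set.encard_image_le _ _).trans (encard_fibre_le D v₀ d hfib)
    have hne : (tR D '' (sR D ⁻¹' {v₀})).Nonempty := by
      refine ⟨v₀, eR D v₀, ?_, ?_⟩
      · show sR D (eR D v₀) = v₀
        rw [← Scheme.Hom.comp_apply, eR_s]; rfl
      · rw [← Scheme.Hom.comp_apply, eR_t]; rfl
    obtain ⟨v, hvE, hsurj⟩ := exists_fin_enum _ hne d hE
    obtain ⟨U, hU, hUv⟩ := hV (p (D.obj.hom v₀)) v (by
      intro i
      obtain ⟨r, hr, hri⟩ := hvE i
      rw [← hri, DDFin.t_over_pt, hr])
    refine ⟨U, hU, ?_⟩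
    intro e he
    obtain ⟨i, rfl⟩ := hsurj e he
    exact hUv i
  exact DDEff.effective D

end Groth.Agent.Helper8.DDBound
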