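import Mathlib
set_option autoImplicit false
universe u

/-!
Divided powers on the kernel of `A^ → A/I` for the `p`-adic completion `A^` of a divided power
ring `(A, I, γ)` with `p^t A ⊆ I` (S6530).
-/

namespace Groth.Agent.Helper8.DPCompl

open Finset

section
variable {A : Type u} [CommRing A] {I : Ideal A} (γ : DividedPowers I) (p : ℕ) (t : ℕ)
  (ht : Ideal.span {(p : A)} ^ t ≤ I)

theorem factor_evalₐ (J : Ideal A) {m m' : ℕ} (h : m ≤ m') (x : AdicCompletion J A) :
    Ideal.Quotient.factor (Ideal.pow_le_pow_right h) (AdicCompletion.evalₐ J m' x) =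
      AdicCompletion.evalₐ J m x := by
  obtain ⟨f, rfl⟩ := AdicCompletion.mk_surjective J A x
  rw [AdicCompletion.evalₐ_mk, AdicCompletion.evalₐ_mk, Ideal.Quotient.factor_mk]
  exact AdicCompletion.Ideal.mk_eq_mk J h f

include ht in
theorem dpow_sub_mem {m : ℕ} {a a' : A} (ha : a ∈ I) (ha' : a' ∈ I)
    (h : a - a' ∈ Ideal.span {(p : A)} ^ (m + t)) (n : ℕ) :
    γ.dpow n a - γ.dpow n a' ∈ Ideal.span {(p : A)} ^ m := by
  have hjI : a - a' ∈ I := I.sub_mem ha ha'
  have haj : a = a' + (a - a') := by ring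
  have hk : ∀ k : ℕ, k ≠ 0 → γ.dpow k (a - a') ∈ Ideal.span {(p : A)} ^ m := by
    intro k hk
    rw [Ideal.span_singleton_pow, Ideal.mem_span_singleton] at h
    obtain ⟨c, hc⟩ := h
    have hb : (p : A) ^ t * c ∈ I := ht (by
      rw [Ideal.span_singleton_pow]
      exact Ideal.mul_mem_right _ _ (Ideal.mem_span_singleton_self _))
    have h1 : a - a' = (p : A) ^ m * ((p : A) ^ t * c) := by
      rw [hc, pow_add]
      ring
    rw [h1, γ.dpow_mul hb, ← pow_mul, Ideal.span_singleton_pow, Ideal.mem_span_singleton]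
    exact Dvd.dvd.mul_right
      (pow_dvd_pow _ (Nat.le_mul_of_pos_right m (Nat.pos_of_ne_zero hk))) _
  rw [haj, γ.dpow_add ha' hjI]
  have hmem : (n, 0) ∈ antidiagonal n := by simp
  rw [← Finset.add_sum_erase _ _ hmem, γ.dpow_zero hjI, mul_one, add_sub_cancel_left]
  refine Ideal.sum_mem _ fun x hx => ?_
  rw [Finset.mem_erase, HasAntidiagonal.mem_antidiagonal] at hx
  have hx2 : x.2 ≠ 0 := by
    intro h0
    apply hx.1
    have h3 := hx.2
    rw [h0, add_zero] at h3
    exact Prod.ext h3 h0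
  exact Ideal.mul_mem_left _ _ (hk _ hx2)

/-- the projection from the completion to `A ⧸ I` -/
noncomputable abbrev proj : AdicCompletion (Ideal.span {(p : A)}) A →+* A ⧸ I :=
  (Ideal.Quotient.factor ht).comp (AdicCompletion.evalₐ (Ideal.span {(p : A)}) t).toRingHom

theorem proj_surjective : Function.Surjective (proj p t ht) :=
  (Ideal.Quotient.factor_surjective ht).comp (AdicCompletion.surjective_evalₐ _ t)

theorem proj_eq {x : AdicCompletion (Ideal.span {(p : A)}) A} (m : ℕ) (a : A)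
    (h : AdicCompletion.evalₐ (Ideal.span {(p : A)}) (m + t) x = Ideal.Quotient.mk _ a) :
    proj p t ht x = Ideal.Quotient.mk I a := by
  change Ideal.Quotient.factor ht (AdicCompletion.evalₐ (Ideal.span {(p : A)}) t x) = _
  rw [← factor_evalₐ (Ideal.span {(p : A)}) (Nat.le_add_left t m) x, h,
    Ideal.Quotient.factor_mk, Ideal.Quotient.factor_mk]

theorem exists_lift {x : AdicCompletion (Ideal.span {(p : A)}) A}
    (hx : x ∈ RingHom.ker (proj p t ht)) (m : ℕ) :
    ∃ a ∈ I, AdicCompletion.evalₐ (Ideal.span {(p : A)}) (m + t) x = Ideal.Quotient.mk _ a := by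
  obtain ⟨a, ha⟩ := Ideal.Quotient.mk_surjective
    (AdicCompletion.evalₐ (Ideal.span {(p : A)}) (m + t) x)
  refine ⟨a, ?_, ha.symm⟩
  rw [RingHom.mem_ker, proj_eq p t ht m a ha.symm, Ideal.Quotient.eq_zero_iff_mem] at hx
  exact hx

theorem mem_ker_of_lift {x : AdicCompletion (Ideal.span {(p : A)}) A} (m : ℕ) (a : A)
    (haI : a ∈ I)
    (h : AdicCompletion.evalₐ (Ideal.span {(p : A)}) (m + t) x = Ideal.Quotient.mk _ a) :
    x ∈ RingHom.ker (proj p t ht) := by
  rw [RingHom.mem_ker, proj_eq p t ht m a h, Ideal.Quotient.eq_zero_iff_mem]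
  exact haI

theorem exists_dp (n : ℕ) {x : AdicCompletion (Ideal.span {(p : A)}) A}
    (hx : x ∈ RingHom.ker (proj p t ht)) :
    ∃ y : AdicCompletion (Ideal.span {(p : A)}) A, ∀ (m : ℕ) (a : A), a ∈ I →
      AdicCompletion.evalₐ (Ideal.span {(p : A)}) (m + t) x = Ideal.Quotient.mk _ a →
      AdicCompletion.evalₐ (Ideal.span {(p : A)}) m y = Ideal.Quotient.mk _ (γ.dpow n a) := by
  choose a haI ha using exists_lift p t ht hx
  have hsub : ∀ m, a m - a (m + 1) ∈ Ideal.span {(p : A)} ^ (m + t) := by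
    intro m
    rw [← Ideal.Quotient.eq, ← ha m,
      ← factor_evalₐ (Ideal.span {(p : A)}) (show m + t ≤ m + 1 + t by omega) x, ha (m + 1),
      Ideal.Quotient.factor_mk]
  let b : AdicCompletion.AdicCauchySequence (Ideal.span {(p : A)}) A :=
    AdicCompletion.AdicCauchySequence.mk (Ideal.span {(p : A)}) A (fun m => γ.dpow n (a m)) (by
      intro m
      rw [SModEq.sub_mem, smul_eq_mul, Ideal.mul_top]
      exact dpow_sub_mem γ p t ht (haI m) (haI (m + 1)) (hsub m) n)
  refine ⟨AdicCompletion.mk (Ideal.span {(p : A)}) A b, fun m a' ha'I ha' => ?_⟩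
  rw [AdicCompletion.evalₐ_mk, Ideal.Quotient.eq]
  refine dpow_sub_mem γ p t ht (haI m) ha'I ?_ n
  rw [← Ideal.Quotient.eq, ← ha m, ha']

open Classical in
/-- the divided power operations on the completion -/
noncomputable def dp (n : ℕ) (x : AdicCompletion (Ideal.span {(p : A)}) A) :
    AdicCompletion (Ideal.span {(p : A)}) A :=
  if hx : x ∈ RingHom.ker (proj p t ht) then Classical.choose (exists_dp γ p t ht n hx) else 0

theorem ev_dp (n : ℕ) {x : AdicCompletion (Ideal.span {(p : A)}) A}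
    (hx : x ∈ RingHom.ker (proj p t ht)) (m : ℕ) (a : A) (haI : a ∈ I)
    (h : AdicCompletion.evalₐ (Ideal.span {(p : A)}) (m + t) x = Ideal.Quotient.mk _ a) :
    AdicCompletion.evalₐ (Ideal.span {(p : A)}) m (dp γ p t ht n x) =
      Ideal.Quotient.mk _ (γ.dpow n a) := by
  rw [dp, dif_pos hx]
  exact Classical.choose_spec (exists_dp γ p t ht n hx) m a haI h

theorem dp_mem {n : ℕ} (hn : n ≠ 0) {x : AdicCompletion (Ideal.span {(p : A)}) A}
    (hx : x ∈ RingHom.ker (proj p t ht)) : dp γ p t ht n x ∈ RingHom.ker (proj p t ht) := by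
  obtain ⟨a, haI, ha⟩ := exists_lift p t ht hx (0 + t)
  exact mem_ker_of_lift p t ht 0 _ (γ.dpow_mem hn haI) (ev_dp γ p t ht n hx (0 + t) a haI ha)

theorem ev_lower {x : AdicCompletion (Ideal.span {(p : A)}) A} (m : ℕ) (a : A)
    (h : AdicCompletion.evalₐ (Ideal.span {(p : A)}) (m + t) x = Ideal.Quotient.mk _ a) :
    AdicCompletion.evalₐ (Ideal.span {(p : A)}) m x = Ideal.Quotient.mk _ a := by
  rw [← factor_evalₐ (Ideal.span {(p : A)}) (Nat.le_add_right m t) x, h, Ideal.Quotient.factor_mk]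

/-- the divided power structure on the kernel -/
noncomputable def dividedPowers : DividedPowers (RingHom.ker (proj p t ht)) where
  dpow := dp γ p t ht
  dpow_null := fun {n x} hx => by rw [dp, dif_neg hx]
  dpow_zero := fun {x} hx => by
    apply AdicCompletion.ext_evalₐ
    intro m
    obtain ⟨a, haI, ha⟩ := exists_lift p t ht hx m
    rw [ev_dp γ p t ht 0 hx m a haI ha, γ.dpow_zero haI, map_one, map_one]
  dpow_one := fun {x} hx => by
    apply AdicCompletion.ext_evalₐ
    intro m
    obtain ⟨a, haI, ha⟩ := exists_lift p t ht hx m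
    rw [ev_dp γ p t ht 1 hx m a haI ha, γ.dpow_one haI, ev_lower p t m a ha]
  dpow_mem := fun {n x} hn hx => dp_mem γ p t ht hn hx
  dpow_add := fun {n x y} hx hy => by
    apply AdicCompletion.ext_evalₐ
    intro m
    obtain ⟨a, haI, ha⟩ := exists_lift p t ht hx m
    obtain ⟨b, hbI, hb⟩ := exists_lift p t ht hy m
    have hab : AdicCompletion.evalₐ (Ideal.span {(p : A)}) (m + t) (x + y) =
        Ideal.Quotient.mk _ (a + b) := by rw [map_add, ha, hb, map_add]
    rw [ev_dp γ p t ht n (Ideal.add_mem _ hx hy) m (a + b) (I.add_mem haI hbI) hab,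
      γ.dpow_add haI hbI, map_sum, map_sum]
    refine Finset.sum_congr rfl fun k _ => ?_
    rw [map_mul, map_mul, ev_dp γ p t ht k.1 hx m a haI ha, ev_dp γ p t ht k.2 hy m b hbI hb]
  dpow_mul := fun {n a' x} hx => by
    apply AdicCompletion.ext_evalₐ
    intro m
    obtain ⟨a, haI, ha⟩ := exists_lift p t ht hx m
    obtain ⟨c, hc⟩ := Ideal.Quotient.mk_surjective
      (AdicCompletion.evalₐ (Ideal.span {(p : A)}) (m + t) a')
    have hca : AdicCompletion.evalₐ (Ideal.span {(p : A)}) (m + t) (a' * x) =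
        Ideal.Quotient.mk _ (c * a) := by rw [map_mul, ha, ← hc, map_mul]
    rw [ev_dp γ p t ht n (Ideal.mul_mem_left _ _ hx) m (c * a) (I.mul_mem_left _ haI) hca,
      γ.dpow_mul haI, map_mul, map_mul, map_pow, map_pow, ev_dp γ p t ht n hx m a haI ha,
      ev_lower p t m c hc.symm]
  mul_dpow := fun {i k x} hx => by
    apply AdicCompletion.ext_evalₐ
    intro m
    obtain ⟨a, haI, ha⟩ := exists_lift p t ht hx m
    rw [map_mul, map_mul, ev_dp γ p t ht i hx m a haI ha, ev_dp γ p t ht k hx m a haI ha,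
      ev_dp γ p t ht (i + k) hx m a haI ha, ← map_mul, γ.mul_dpow haI, map_mul, map_natCast,
      map_natCast]
  dpow_comp := fun {i k x} hk hx => by
    apply AdicCompletion.ext_evalₐ
    intro m
    obtain ⟨a, haI, ha⟩ := exists_lift p t ht hx (m + t)
    have h1 := ev_dp γ p t ht k hx (m + t) a haI ha
    have h2 := ev_lower p t (m + t) a ha
    rw [ev_dp γ p t ht i (dp_mem γ p t ht hk hx) m _ (γ.dpow_mem hk haI) h1,
      γ.dpow_comp hk haI, map_mul, map_mul, map_natCast, map_natCast,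
      ev_dp γ p t ht (i * k) hx m a haI h2]

theorem isDPMorphism : γ.IsDPMorphism (dividedPowers γ p t ht)
    (algebraMap A (AdicCompletion (Ideal.span {(p : A)}) A)) := by
  have hev : ∀ (m : ℕ) (a : A), AdicCompletion.evalₐ (Ideal.span {(p : A)}) m
      (algebraMap A (AdicCompletion (Ideal.span {(p : A)}) A) a) = Ideal.Quotient.mk _ a :=
    fun m a => (AdicCompletion.evalₐ (Ideal.span {(p : A)}) m).commutes a
  have hker : ∀ a ∈ I, algebraMap A (AdicCompletion (Ideal.span {(p : A)}) A) a ∈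
      RingHom.ker (proj p t ht) := fun a haI => mem_ker_of_lift p t ht 0 a haI (hev _ a)
  refine ⟨?_, ?_⟩
  · rw [Ideal.map_le_iff_le_comap]
    exact fun a haI => hker a haI
  · intro n a haI
    apply AdicCompletion.ext_evalₐ
    intro m
    change AdicCompletion.evalₐ (Ideal.span {(p : A)}) m (dp γ p t ht n _) = _
    rw [ev_dp γ p t ht n (hker a haI) m a haI (hev _ a), hev]

theorem s6530 : Function.Surjective ((Ideal.Quotient.factor ht).comp
      (AdicCompletion.evalₐ (Ideal.span {(p : A)}) t).toRingHom) ∧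
    ∃ δ : DividedPowers (RingHom.ker ((Ideal.Quotient.factor ht).comp
      (AdicCompletion.evalₐ (Ideal.span {(p : A)}) t).toRingHom)),
      γ.IsDPMorphism δ (algebraMap A (AdicCompletion (Ideal.span {(p : A)}) A)) :=
  ⟨proj_surjective p t ht, dividedPowers γ p t ht, isDPMorphism γ p t ht⟩

end

end Groth.Agent.Helper8.DPCompl
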