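import Mathlib

namespace Groth.Agent.Helper8.DPPrinc

universe u v

open Finset

variable {A : Type u} {B : Type v} [CommRing A] [CommRing B] [Algebra A B]

theorem main (x : A) (γ : DividedPowers (Ideal.span {x})) :
    ∃ δ : DividedPowers ((Ideal.span {x}).map (algebraMap A B)),
      γ.IsDPMorphism δ (algebraMap A B) := by
  classical
  set f := algebraMap A B with hf
  have hxI : x ∈ Ideal.span {x} := Ideal.mem_span_singleton_self x
  have hJ : (Ideal.span {x}).map f = Ideal.span {f x} := by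
    rw [Ideal.map_span, Set.image_singleton]
  -- γ_n x is a multiple of x for n ≠ 0
  have ha : ∀ n, n ≠ 0 → ∃ a, a * x = γ.dpow n x := fun n hn =>
    Ideal.mem_span_singleton'.mp (γ.dpow_mem hn hxI)
  have key : ∀ (n : ℕ) (b b' : B), b * f x = b' * f x →
      b ^ n * f (γ.dpow n x) = b' ^ n * f (γ.dpow n x) := by
    intro n b b' h
    rcases Nat.eq_zero_or_pos n with rfl | hn
    · simp
    · obtain ⟨a, ha⟩ := ha n hn.ne'
      obtain ⟨c, hc⟩ := sub_dvd_pow_sub_pow b b' n
      have h1 : (b - b') * f (γ.dpow n x) = 0 := by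
        rw [← ha, map_mul]
        have : (b - b') * (f a * f x) = f a * (b * f x - b' * f x) := by ring
        rw [this, h, sub_self, mul_zero]
      have h2 : (b ^ n - b' ^ n) * f (γ.dpow n x) = 0 := by
        rw [hc, mul_comm (b - b') c, mul_assoc, h1, mul_zero]
      linear_combination h2
  have hmem : ∀ y, y ∈ (Ideal.span {x}).map f → ∃ b, b * f x = y := by
    intro y hy
    rw [hJ] at hy
    exact Ideal.mem_span_singleton'.mp hy
  let dp : ℕ → B → B := fun n y =>
    if h : y ∈ (Ideal.span {x}).map f then (hmem y h).choose ^ n * f (γ.dpow n x) else 0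
  have hdp : ∀ n b, dp n (b * f x) = b ^ n * f (γ.dpow n x) := by
    intro n b
    have hb : b * f x ∈ (Ideal.span {x}).map f := by
      rw [hJ]; exact Ideal.mem_span_singleton'.mpr ⟨b, rfl⟩
    simp only [dp, dif_pos hb]
    exact key n _ _ (hmem _ hb).choose_spec
  refine ⟨{
    dpow := dp
    dpow_null := ?_
    dpow_zero := ?_
    dpow_one := ?_
    dpow_mem := ?_
    dpow_add := ?_
    dpow_mul := ?_
    mul_dpow := ?_
    dpow_comp := ?_ }, ?_⟩
  · intro n y hy
    simp only [dp, dif_neg hy]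
  · intro y hy
    obtain ⟨b, rfl⟩ := hmem y hy
    rw [hdp, γ.dpow_zero hxI, map_one, pow_zero, one_mul]
  · intro y hy
    obtain ⟨b, rfl⟩ := hmem y hy
    rw [hdp, γ.dpow_one hxI, pow_one]
  · intro n y hn hy
    obtain ⟨b, rfl⟩ := hmem y hy
    rw [hdp]
    exact Ideal.mul_mem_left _ _ (Ideal.mem_map_of_mem f (γ.dpow_mem hn hxI))
  · intro n y y' hy hy'
    obtain ⟨b, rfl⟩ := hmem y hy
    obtain ⟨b', rfl⟩ := hmem y' hy'
    rw [← add_mul, hdp, (Commute.all b b').add_pow', Finset.sum_mul]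
    apply Finset.sum_congr rfl
    intro ij hij
    rw [hdp, hdp]
    have h1 : ij.1 + ij.2 = n := Finset.HasAntidiagonal.mem_antidiagonal.mp hij
    have h2 : f (γ.dpow ij.1 x) * f (γ.dpow ij.2 x) =
        ((ij.1 + ij.2).choose ij.1 : B) * f (γ.dpow (ij.1 + ij.2) x) := by
      rw [← map_mul, γ.mul_dpow hxI, map_mul, map_natCast]
    rw [nsmul_eq_mul]
    calc (n.choose ij.1 : B) * (b ^ ij.1 * b' ^ ij.2) * f (γ.dpow n x)
        = b ^ ij.1 * b' ^ ij.2 * (((ij.1 + ij.2).choose ij.1 : B) *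
            f (γ.dpow (ij.1 + ij.2) x)) := by rw [h1]; ring
      _ = b ^ ij.1 * f (γ.dpow ij.1 x) * (b' ^ ij.2 * f (γ.dpow ij.2 x)) := by
          rw [← h2]; ring
  · intro n c y hy
    obtain ⟨b, rfl⟩ := hmem y hy
    rw [← mul_assoc, hdp, hdp]
    ring
  · intro m n y hy
    obtain ⟨b, rfl⟩ := hmem y hy
    rw [hdp, hdp, hdp]
    have h2 : f (γ.dpow m x) * f (γ.dpow n x) =
        ((m + n).choose m : B) * f (γ.dpow (m + n) x) := by
      rw [← map_mul, γ.mul_dpow hxI, map_mul, map_natCast]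
    calc b ^ m * f (γ.dpow m x) * (b ^ n * f (γ.dpow n x))
        = b ^ (m + n) * (f (γ.dpow m x) * f (γ.dpow n x)) := by ring
      _ = _ := by rw [h2]; ring
  · intro m n y hn hy
    obtain ⟨b, rfl⟩ := hmem y hy
    obtain ⟨a, ha⟩ := ha n hn
    rw [hdp, hdp]
    have h1 : b ^ n * f (γ.dpow n x) = (b ^ n * f a) * f x := by
      rw [← ha, map_mul]; ring
    rw [h1, hdp]
    have h2 : f a ^ m * f (γ.dpow m x) = (Nat.uniformBell m n : B) * f (γ.dpow (m * n) x) := by
      rw [← map_pow, ← map_mul, ← γ.dpow_mul hxI, ha, γ.dpow_comp hn hxI, map_mul, map_natCast]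
    calc (b ^ n * f a) ^ m * f (γ.dpow m x) = b ^ (m * n) * (f a ^ m * f (γ.dpow m x)) := by
          rw [mul_pow, ← pow_mul, mul_comm n m]; ring
      _ = _ := by rw [h2]; ring
  · refine ⟨le_rfl, ?_⟩
    intro n a ha'
    obtain ⟨c, rfl⟩ := Ideal.mem_span_singleton'.mp ha'
    change dp n (f (c * x)) = f (γ.dpow n (c * x))
    rw [map_mul, hdp, γ.dpow_mul hxI, map_mul, map_pow]

end Groth.Agent.Helper8.DPPrinc
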