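import Mathlib

namespace Groth.Agent.Helper8.DPTorsionFree

open TensorProduct

universe u

variable {A : Type u} [CommRing A] [IsAddTorsionFree A]

theorem fact_cancel (n : ℕ) {a b : A} (h : (n.factorial : A) * a = (n.factorial : A) * b) : a = b := by
  have := IsAddTorsionFree.nsmul_right_injective (M := A) (Nat.factorial_ne_zero n)
  apply this
  simpa [nsmul_eq_mul] using h

theorem uniq (I : Ideal A) : Subsingleton (DividedPowers I) := by
  refine ⟨fun h h' => ?_⟩
  refine DividedPowers.ext h h' (fun n x hx => ?_)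
  apply fact_cancel n
  rw [h.factorial_mul_dpow_eq_pow hx, h'.factorial_mul_dpow_eq_pow hx]

theorem pow_mem_all (I : Ideal A) (S : Set A) (hS : Ideal.span S = I)
    (h : ∀ x ∈ S, ∀ n : ℕ, 1 ≤ n → x ^ n ∈ Ideal.span {(Nat.factorial n : A)} * I) :
    ∀ x ∈ I, ∀ n : ℕ, 1 ≤ n → x ^ n ∈ Ideal.span {(Nat.factorial n : A)} * I := by
  intro x hx
  rw [← hS] at hx
  induction hx using Submodule.span_induction with
  | mem x hx => exact h x hx
  | zero =>
    intro n hn
    rw [zero_pow (by omega)]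
    exact Ideal.zero_mem _
  | add x y hx hy ihx ihy =>
    intro n hn
    rw [add_pow]
    refine Ideal.sum_mem _ (fun m hm => ?_)
    rw [Finset.mem_range] at hm
    by_cases hm0 : m = 0
    · subst hm0
      simp only [pow_zero, one_mul, Nat.sub_zero, Nat.choose_zero_right, Nat.cast_one, mul_one]
      exact ihy n hn
    by_cases hmn : m = n
    · subst hmn
      simp only [Nat.sub_self, pow_zero, mul_one, Nat.choose_self, Nat.cast_one]
      exact ihx m hn
    have h1 := ihx m (by omega)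
    have h2 := ihy (n - m) (by omega)
    rw [Ideal.mem_span_singleton_mul] at h1 h2 ⊢
    obtain ⟨a, ha, hax⟩ := h1
    obtain ⟨b, hb, hby⟩ := h2
    refine ⟨a * b, Ideal.mul_mem_left _ _ hb, ?_⟩
    rw [← hax, ← hby]
    have hc : (n.choose m : A) * (m.factorial : A) * ((n - m).factorial : A) = (n.factorial : A) := by
      exact_mod_cast congrArg (Nat.cast : ℕ → A) (Nat.choose_mul_factorial_mul_factorial (by omega : m ≤ n))
    rw [← hc]
    ring
  | smul a x hx ihx =>
    intro n hn
    rw [smul_eq_mul, mul_pow]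
    exact Ideal.mul_mem_left _ _ (ihx n hn)

theorem exists_dp (I : Ideal A)
    (h : ∀ x ∈ I, ∀ n : ℕ, 1 ≤ n → x ^ n ∈ Ideal.span {(Nat.factorial n : A)} * I) :
    Nonempty (DividedPowers I) := by
  classical
  haveI : Module.IsTorsionFree ℤ A := Module.isTorsionFree_int_iff_isAddTorsionFree.mpr inferInstance
  let f : A →+* ℚ ⊗[ℤ] A := (Algebra.TensorProduct.includeRight : A →ₐ[ℤ] ℚ ⊗[ℤ] A).toRingHom
  have hf : Function.Injective f :=
    Algebra.TensorProduct.includeRight_injective (R := ℤ) (A := ℚ) (B := A)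
      (algebraMap ℤ ℚ).injective_int
  refine ⟨DividedPowers.ofInjective I (I.map f) f hf (DividedPowers.RatAlgebra.dividedPowers (I.map f)) rfl ?_⟩
  intro n x hx
  have hfx : f x ∈ I.map f := Ideal.mem_map_of_mem f hx
  by_cases hn : n = 0
  · subst hn
    exact ⟨1, fun h0 => absurd rfl h0, by rw [map_one, DividedPowers.dpow_zero _ hfx]⟩
  · have h1 := h x hx n (by omega)
    rw [Ideal.mem_span_singleton_mul] at h1
    obtain ⟨y, hy, hyx⟩ := h1
    refine ⟨y, fun _ => hy, ?_⟩
    rw [DividedPowers.RatAlgebra.dpow_apply, if_pos hfx, ← map_pow, ← hyx, map_mul, map_natCast,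
      ← mul_assoc, Ring.inverse_mul_cancel _ (IsUnit.natCast_factorial_of_algebra ℚ n), one_mul]

theorem main (I : Ideal A) :
    Subsingleton (DividedPowers I) ∧
    (Nonempty (DividedPowers I) ↔ ∃ S : Set A, Ideal.span S = I ∧
      ∀ x ∈ S, ∀ n : ℕ, 1 ≤ n → x ^ n ∈ Ideal.span {(Nat.factorial n : A)} * I) := by
  refine ⟨uniq I, ?_, ?_⟩
  · rintro ⟨h⟩
    refine ⟨(I : Set A), Ideal.span_eq I, fun x hx n hn => ?_⟩
    rw [← h.factorial_mul_dpow_eq_pow hx]
    exact Ideal.mul_mem_mul (Ideal.mem_span_singleton_self _) (h.dpow_mem (by omega) hx)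
  · rintro ⟨S, hS, h⟩
    exact exists_dp I (pow_mem_all I S hS h)

end Groth.Agent.Helper8.DPTorsionFree
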