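import Mathlib
import Groth.Prelude.Def_W4c5adicflatcomplDec

/-!
Helper lemmas on adically decaying functions.
-/

set_option autoImplicit false
set_option linter.style.haveILetI false
universe u v w w'
open W4c5adicflatcompl

namespace Groth.Agent.Helper8.Decaying

/-- Artin–Rees: decaying into a submodule is the same as decaying into the ambient module. -/
theorem mem_decaying_submodule_iff {A : Type u} [CommRing A] [IsNoetherianRing A] (I : Ideal A)
    (Z : Type v) (M : Type w) [AddCommGroup M] [Module A M]
    [Module.Finite A M] (N : Submodule A M) (f : Z → N) :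
    f ∈ decaying I Z N ↔ (fun z => (f z : M)) ∈ decaying I Z M := by
  have hmap : ∀ n : ℕ, (I ^ n • ⊤ : Submodule A N).map N.subtype = I ^ n • N := by
    intro n
    rw [Submodule.map_smul'', Submodule.map_top, Submodule.range_subtype]
  constructor
  · intro hf n
    refine (hf n).subset ?_
    intro z hz hz'
    apply hz
    have : (f z : M) ∈ (I ^ n • ⊤ : Submodule A N).map N.subtype := ⟨f z, hz', rfl⟩
    rw [hmap] at this
    exact Submodule.smul_mono le_rfl le_top this
  · intro hf n
    obtain ⟨k, hk⟩ := Ideal.exists_pow_inf_eq_pow_smul I N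
    refine (hf (n + k)).subset ?_
    intro z hz hz'
    apply hz
    have h1 : (f z : M) ∈ (I ^ (n + k) • ⊤ ⊓ N : Submodule A M) := ⟨hz', (f z).2⟩
    rw [hk (n + k) (Nat.le_add_left k n), Nat.add_sub_cancel] at h1
    have h2 : (f z : M) ∈ I ^ n • N := Submodule.smul_mono le_rfl inf_le_right h1
    rw [← hmap] at h2
    obtain ⟨y, hy, hyz⟩ := h2
    have : y = f z := Subtype.ext hyz
    rw [← this]; exact hy

/-- Lifting decaying functions along a surjection from a finite module (universe polymorphic). -/
theorem exists_decaying_lift {A : Type u} [CommRing A] [IsNoetherianRing A] (I : Ideal A)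
    [IsAdicComplete I A] (Z : Type v) {M : Type w} {M'' : Type w'} [AddCommGroup M] [Module A M]
    [Module.Finite A M] [AddCommGroup M''] [Module A M''] (φ : M →ₗ[A] M'')
    (hφ : Function.Surjective φ) (g : Z → M'') (hg : g ∈ decaying I Z M'') :
    ∃ f : Z → M, f ∈ decaying I Z M ∧ ∀ z, φ (f z) = g z := by
  haveI : Module.Finite A M'' := Module.Finite.of_surjective φ hφ
  have hkrull : (⨅ i : ℕ, I ^ i • ⊤ : Submodule A M'') = ⊥ :=
    Ideal.iInf_pow_smul_eq_bot_of_le_jacobson I (IsAdicComplete.le_jacobson_bot I)
  have hmap : ∀ n : ℕ, (I ^ n • ⊤ : Submodule A M).map φ = I ^ n • ⊤ := by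
    intro n
    rw [Submodule.map_smul'', Submodule.map_top, LinearMap.range_eq_top.mpr hφ]
  have hanti : ∀ {a b : ℕ}, a ≤ b → (I ^ b • ⊤ : Submodule A M'') ≤ I ^ a • ⊤ := by
    intro a b hab
    exact Submodule.smul_mono (Ideal.pow_le_pow_right hab) le_rfl
  have hantiM : ∀ {a b : ℕ}, a ≤ b → (I ^ b • ⊤ : Submodule A M) ≤ I ^ a • ⊤ := by
    intro a b hab
    exact Submodule.smul_mono (Ideal.pow_le_pow_right hab) le_rfl
  have key : ∀ z, ∃ x : M, φ x = g z ∧ ∀ n : ℕ, g z ∈ (I ^ n • ⊤ : Submodule A M'') →
      x ∈ (I ^ n • ⊤ : Submodule A M) := by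
    intro z
    by_cases h0 : g z = 0
    · exact ⟨0, by rw [map_zero, h0], fun n _ => Submodule.zero_mem _⟩
    · have hex : ∃ n : ℕ, g z ∉ (I ^ n • ⊤ : Submodule A M'') := by
        by_contra hcon
        push Not at hcon
        apply h0
        have : g z ∈ (⨅ i : ℕ, I ^ i • ⊤ : Submodule A M'') := by
          rw [Submodule.mem_iInf]; exact hcon
        rw [hkrull] at this
        exact (Submodule.mem_bot A).mp this
      classical
      set n₁ := Nat.find hex with hn₁
      have hn₁spec : g z ∉ (I ^ n₁ • ⊤ : Submodule A M'') := Nat.find_spec hex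
      have hn₁pos : n₁ ≠ 0 := by
        intro h
        apply hn₁spec
        rw [h, pow_zero, Ideal.one_eq_top, Submodule.top_smul]
        exact Submodule.mem_top
      obtain ⟨n₀, hn₀⟩ := Nat.exists_eq_succ_of_ne_zero hn₁pos
      have hn₀mem : g z ∈ (I ^ n₀ • ⊤ : Submodule A M'') := by
        by_contra h
        have := Nat.find_min' hex h
        omega
      rw [← hmap n₀] at hn₀mem
      obtain ⟨x, hx, hxz⟩ := hn₀mem
      refine ⟨x, hxz, fun n hn => ?_⟩
      have hle : n ≤ n₀ := by
        by_contra h
        push Not at h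
        have : n₁ ≤ n := by omega
        exact hn₁spec (hanti this hn)
      exact hantiM hle hx
  choose f hf1 hf2 using key
  refine ⟨f, fun n => ?_, hf1⟩
  refine (hg n).subset ?_
  intro z hz hz'
  exact hz (hf2 z n hz')

/-- coordinates of a decaying vector-valued function are decaying -/
theorem coord_mem_decaying {A : Type u} [CommRing A] (I : Ideal A) (Z : Type v) {ι : Type w}
    (F : Z → (ι → A)) (hF : F ∈ decaying I Z (ι → A)) (j : ι) :
    (fun z => F z j) ∈ decaying I Z A := by
  intro m
  refine (hF m).subset ?_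
  intro z hz hz'
  apply hz
  have h1 : (LinearMap.proj j : (ι → A) →ₗ[A] A) (F z) ∈
      (I ^ m • ⊤ : Submodule A (ι → A)).map (LinearMap.proj j) := ⟨F z, hz', rfl⟩
  rw [Submodule.map_smul''] at h1
  exact Submodule.smul_mono le_rfl le_top h1

/-- a vector-valued function with decaying coordinates is decaying (finite index) -/
theorem mem_decaying_of_coord {A : Type u} [CommRing A] (I : Ideal A) (Z : Type v) {ι : Type w}
    [Fintype ι] [DecidableEq ι]
    (F : Z → (ι → A)) (hF : ∀ j, (fun z => F z j) ∈ decaying I Z A) :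
    F ∈ decaying I Z (ι → A) := by
  intro m
  have hfin : (⋃ j : ι, {z | F z j ∉ (I ^ m • ⊤ : Submodule A A)}).Finite :=
    Set.finite_iUnion fun j => hF j m
  refine hfin.subset ?_
  intro z hz
  by_contra hcon
  apply hz
  simp only [Set.mem_iUnion, Set.mem_ofPred_eq, not_exists, not_not] at hcon
  have : F z = ∑ j, F z j • (Pi.single j (1 : A) : ι → A) := by
    funext i
    simp [Finset.sum_apply, Pi.single_apply]
  rw [this]
  refine Submodule.sum_mem _ fun j _ => ?_
  have hj := hcon j
  have htop : (I ^ m • ⊤ : Submodule A A) = I ^ m := by simp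
  rw [htop] at hj
  exact Submodule.smul_mem_smul hj Submodule.mem_top

/-- Lifting decaying functions along a surjection onto a module with trivial Krull intersection. -/
theorem exists_decaying_lift_of_iInf {A : Type u} [CommRing A] (I : Ideal A)
    (Z : Type v) {M : Type w} {M'' : Type w'} [AddCommGroup M] [Module A M]
    [AddCommGroup M''] [Module A M''] (φ : M →ₗ[A] M'')
    (hφ : Function.Surjective φ)
    (hkrull : (⨅ i : ℕ, I ^ i • ⊤ : Submodule A M'') = ⊥)
    (g : Z → M'') (hg : g ∈ decaying I Z M'') :
    ∃ f : Z → M, f ∈ decaying I Z M ∧ ∀ z, φ (f z) = g z := by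
  have hmap : ∀ n : ℕ, (I ^ n • ⊤ : Submodule A M).map φ = I ^ n • ⊤ := by
    intro n
    rw [Submodule.map_smul'', Submodule.map_top, LinearMap.range_eq_top.mpr hφ]
  have hanti : ∀ {a b : ℕ}, a ≤ b → (I ^ b • ⊤ : Submodule A M'') ≤ I ^ a • ⊤ := by
    intro a b hab
    exact Submodule.smul_mono (Ideal.pow_le_pow_right hab) le_rfl
  have hantiM : ∀ {a b : ℕ}, a ≤ b → (I ^ b • ⊤ : Submodule A M) ≤ I ^ a • ⊤ := by
    intro a b hab
    exact Submodule.smul_mono (Ideal.pow_le_pow_right hab) le_rfl
  have key : ∀ z, ∃ x : M, φ x = g z ∧ ∀ n : ℕ, g z ∈ (I ^ n • ⊤ : Submodule A M'') →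
      x ∈ (I ^ n • ⊤ : Submodule A M) := by
    intro z
    by_cases h0 : g z = 0
    · exact ⟨0, by rw [map_zero, h0], fun n _ => Submodule.zero_mem _⟩
    · have hex : ∃ n : ℕ, g z ∉ (I ^ n • ⊤ : Submodule A M'') := by
        by_contra hcon
        push Not at hcon
        apply h0
        have : g z ∈ (⨅ i : ℕ, I ^ i • ⊤ : Submodule A M'') := by
          rw [Submodule.mem_iInf]; exact hcon
        rw [hkrull] at this
        exact (Submodule.mem_bot A).mp this
      classical
      set n₁ := Nat.find hex with hn₁
      have hn₁spec : g z ∉ (I ^ n₁ • ⊤ : Submodule A M'') := Nat.find_spec hex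
      have hn₁pos : n₁ ≠ 0 := by
        intro h
        apply hn₁spec
        rw [h, pow_zero, Ideal.one_eq_top, Submodule.top_smul]
        exact Submodule.mem_top
      obtain ⟨n₀, hn₀⟩ := Nat.exists_eq_succ_of_ne_zero hn₁pos
      have hn₀mem : g z ∈ (I ^ n₀ • ⊤ : Submodule A M'') := by
        by_contra h
        have := Nat.find_min' hex h
        omega
      rw [← hmap n₀] at hn₀mem
      obtain ⟨x, hx, hxz⟩ := hn₀mem
      refine ⟨x, hxz, fun n hn => ?_⟩
      have hle : n ≤ n₀ := by
        by_contra h
        push Not at h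
        have : n₁ ≤ n := by omega
        exact hn₁spec (hanti this hn)
      exact hantiM hle hx
  choose f hf1 hf2 using key
  refine ⟨f, fun n => ?_, hf1⟩
  refine (hg n).subset ?_
  intro z hz hz'
  exact hz (hf2 z n hz')

/-- coordinates of a decaying vector-valued function are decaying (module-valued) -/
theorem coord_mem_decaying' {A : Type u} [CommRing A] (I : Ideal A) (Z : Type v) {ι : Type w}
    {N : Type w'} [AddCommGroup N] [Module A N]
    (F : Z → (ι → N)) (hF : F ∈ decaying I Z (ι → N)) (j : ι) :
    (fun z => F z j) ∈ decaying I Z N := by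
  intro m
  refine (hF m).subset ?_
  intro z hz hz'
  apply hz
  have h1 : (LinearMap.proj j : (ι → N) →ₗ[A] N) (F z) ∈
      (I ^ m • ⊤ : Submodule A (ι → N)).map (LinearMap.proj j) := ⟨F z, hz', rfl⟩
  rw [Submodule.map_smul''] at h1
  exact Submodule.smul_mono le_rfl le_top h1

/-- `I ^ n` times the module of decaying functions with values in a Hausdorff module consists of the
decaying functions with values in `I ^ n • ⊤` (Noetherian base). -/
theorem mem_pow_smul_top_decaying_iff {A : Type u} [CommRing A] [IsNoetherianRing A] (I : Ideal A)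
    (Z : Type v) (N : Type w) [AddCommGroup N] [Module A N] [IsHausdorff I N] (n : ℕ)
    (f : decaying I Z N) :
    f ∈ (I ^ n • ⊤ : Submodule A (decaying I Z N)) ↔
      ∀ z, (f : Z → N) z ∈ (I ^ n • ⊤ : Submodule A N) := by
  classical
  constructor
  · intro hf
    refine Submodule.smul_induction_on hf ?_ ?_
    · intro a ha h _ z
      exact Submodule.smul_mem_smul ha Submodule.mem_top
    · intro x y hx hy z
      exact Submodule.add_mem _ (hx z) (hy z)
  · intro hf
    obtain ⟨r, a, ha⟩ := Submodule.fg_iff_exists_fin_generating_family.mp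
      ((isNoetherianRing_iff_ideal_fg A).mp inferInstance (I ^ n))
    have haI : ∀ j, a j ∈ I ^ n := fun j => by
      rw [← ha]; exact Submodule.subset_span ⟨j, rfl⟩
    let P : Submodule A N := I ^ n • ⊤
    let φ₀ : (Fin r → N) →ₗ[A] N := ∑ j, (a j) • (LinearMap.proj j : (Fin r → N) →ₗ[A] N)
    have hφ₀ : ∀ v : Fin r → N, φ₀ v = ∑ j, a j • v j := by
      intro v
      simp [φ₀, LinearMap.sum_apply]
    let φ : (Fin r → N) →ₗ[A] P := LinearMap.codRestrict P φ₀ (by
      intro v
      rw [hφ₀]
      exact Submodule.sum_mem _ fun j _ => Submodule.smul_mem_smul (haI j) Submodule.mem_top)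
    have hφsurj : Function.Surjective φ := by
      intro ⟨y, hy⟩
      suffices H : ∃ v : Fin r → N, φ₀ v = y by
        obtain ⟨v, hv⟩ := H
        exact ⟨v, Subtype.ext hv⟩
      refine Submodule.smul_induction_on hy ?_ ?_
      · intro c hc x _
        have hc' : c ∈ Submodule.span A (Set.range a) := by rw [ha]; exact hc
        obtain ⟨b, hb⟩ := (Submodule.mem_span_range_iff_exists_fun A).mp hc'
        refine ⟨fun j => b j • x, ?_⟩
        rw [hφ₀, ← hb, Finset.sum_smul]
        refine Finset.sum_congr rfl fun j _ => ?_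
        rw [smul_smul, smul_eq_mul, mul_comm]
      · rintro y₁ y₂ ⟨v₁, h₁⟩ ⟨v₂, h₂⟩
        exact ⟨v₁ + v₂, by rw [map_add, h₁, h₂]⟩
    have hmapP : ∀ k : ℕ, (I ^ k • ⊤ : Submodule A P).map P.subtype = I ^ (k + n) • ⊤ := by
      intro k
      rw [Submodule.map_smul'', Submodule.map_top, Submodule.range_subtype]
      change I ^ k • (I ^ n • (⊤ : Submodule A N)) = _
      rw [← mul_smul, ← pow_add]
    have hkrullP : (⨅ i : ℕ, I ^ i • ⊤ : Submodule A P) = ⊥ := by
      rw [eq_bot_iff]
      intro x hx
      rw [Submodule.mem_iInf] at hx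
      rw [Submodule.mem_bot]
      apply Subtype.ext
      have hN : IsHausdorff I N := inferInstance
      apply hN.haus
      intro k
      rw [SModEq.sub_mem, sub_zero]
      have h1 : (x : N) ∈ (I ^ k • ⊤ : Submodule A P).map P.subtype := ⟨x, hx k, rfl⟩
      rw [hmapP] at h1
      exact Submodule.smul_mono (Ideal.pow_le_pow_right (Nat.le_add_right k n)) le_rfl h1
    let g : Z → P := fun z => ⟨(f : Z → N) z, hf z⟩
    have hg : g ∈ decaying I Z P := by
      intro k
      refine (f.2 (k + n)).subset ?_
      intro z hz hz'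
      apply hz
      have h1 : (g z : N) ∈ I ^ (k + n) • (⊤ : Submodule A N) := hz'
      rw [← hmapP] at h1
      obtain ⟨y, hy, hyz⟩ := h1
      have : y = g z := Subtype.ext hyz
      rw [← this]; exact hy
    obtain ⟨F, hF, hFg⟩ := exists_decaying_lift_of_iInf I Z φ hφsurj hkrullP g hg
    have hsum : f = ∑ j, (a j) • (⟨fun z => F z j, coord_mem_decaying' I Z F hF j⟩ :
        decaying I Z N) := by
      apply Subtype.ext
      funext z
      have h2 := congrArg Subtype.val (hFg z)
      change φ₀ (F z) = (f : Z → N) z at h2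
      rw [hφ₀] at h2
      rw [← h2]
      simp only [Submodule.coe_sum, Submodule.coe_smul, Finset.sum_apply, Pi.smul_apply]
    rw [hsum]
    exact Submodule.sum_mem _ fun j _ => Submodule.smul_mem_smul (haI j) Submodule.mem_top

/-- Decaying functions with values in an adically complete module form an adically complete module
(Noetherian base). -/
theorem isAdicComplete_decaying {A : Type u} [CommRing A] [IsNoetherianRing A] (I : Ideal A)
    (Z : Type v) (N : Type w) [AddCommGroup N] [Module A N] [IsAdicComplete I N] :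
    IsAdicComplete I (decaying I Z N) := by
  have hchar := mem_pow_smul_top_decaying_iff I Z N
  haveI hH : IsHausdorff I (decaying I Z N) := by
    constructor
    intro x hx
    apply Subtype.ext
    funext z
    have hA : IsHausdorff I N := inferInstance
    apply hA.haus
    intro n
    rw [SModEq.sub_mem, sub_zero]
    have := hx n
    rw [SModEq.sub_mem, sub_zero] at this
    exact (hchar n x).mp this z
  haveI hP : IsPrecomplete I (decaying I Z N) := by
    constructor
    intro f hf
    have hA : IsPrecomplete I N := inferInstance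
    have hz : ∀ z : Z, ∃ L : N, ∀ n, (f n : Z → N) z ≡ L [SMOD (I ^ n • ⊤ : Submodule A N)] := by
      intro z
      apply hA.prec
      intro m n hmn
      rw [SModEq.sub_mem]
      have := hf hmn
      rw [SModEq.sub_mem] at this
      exact (hchar m _).mp this z
    choose L hL using hz
    have hLdec : L ∈ decaying I Z N := by
      intro n
      refine ((f n).2 n).subset ?_
      intro z hz hz'
      apply hz
      have h1 := hL z n
      rw [SModEq.sub_mem] at h1
      have : L z = (f n : Z → N) z - ((f n : Z → N) z - L z) := by abel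
      rw [this]
      exact Submodule.sub_mem _ hz' h1
    refine ⟨⟨L, hLdec⟩, fun n => ?_⟩
    rw [SModEq.sub_mem, hchar]
    intro z
    have h1 := hL z n
    rw [SModEq.sub_mem] at h1
    exact h1
  exact { }

/-- If the completion is precomplete, the kernel of the `n`-th evaluation is `I ^ n • ⊤`. -/
theorem mem_pow_smul_top_of_val_eq_zero {A : Type u} [CommRing A] (I : Ideal A) (M : Type w)
    [AddCommGroup M] [Module A M] [IsPrecomplete I (AdicCompletion I M)] (n : ℕ)
    (x : AdicCompletion I M) (hx : x.val n = 0) :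
    x ∈ (I ^ n • ⊤ : Submodule A (AdicCompletion I M)) := by
  obtain ⟨a, rfl⟩ := AdicCompletion.mk_surjective I M x
  have han : a n ∈ (I ^ n • ⊤ : Submodule A M) := by
    have : Submodule.Quotient.mk (p := (I ^ n • ⊤ : Submodule A M)) (a n) = 0 := hx
    exact (Submodule.Quotient.mk_eq_zero _).mp this
  have hofmem : ∀ (k : ℕ) (m : M), m ∈ (I ^ k • ⊤ : Submodule A M) →
      AdicCompletion.of I M m ∈ (I ^ k • ⊤ : Submodule A (AdicCompletion I M)) := by
    intro k m hm
    have h1 : AdicCompletion.of I M m ∈ (I ^ k • ⊤ : Submodule A M).map (AdicCompletion.of I M) :=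
      ⟨m, hm, rfl⟩
    rw [Submodule.map_smul''] at h1
    exact Submodule.smul_mono le_rfl le_top h1
  let b : ℕ → AdicCompletion I M := fun k => AdicCompletion.of I M (a (max k n))
  have hb : ∀ {k k' : ℕ}, k ≤ k' → b k ≡ b k' [SMOD (I ^ k • ⊤ : Submodule A (AdicCompletion I M))] := by
    intro k k' hkk'
    rw [SModEq.sub_mem]
    change AdicCompletion.of I M (a (max k n)) - AdicCompletion.of I M (a (max k' n)) ∈ _
    rw [← map_sub]
    apply hofmem
    have h1 : max k n ≤ max k' n := max_le_max hkk' le_rfl
    have h2 := a.property h1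
    rw [SModEq.sub_mem] at h2
    exact Submodule.smul_mono (Ideal.pow_le_pow_right (le_max_left k n)) le_rfl h2
  obtain ⟨L, hL⟩ := IsPrecomplete.prec' b hb
  have hLn : L ∈ (I ^ n • ⊤ : Submodule A (AdicCompletion I M)) := by
    have h1 := hL n
    rw [SModEq.sub_mem] at h1
    have h2 : b n ∈ (I ^ n • ⊤ : Submodule A (AdicCompletion I M)) := by
      change AdicCompletion.of I M (a (max n n)) ∈ _
      rw [max_self]
      exact hofmem n _ han
    have : L = b n - (b n - L) := by abel
    rw [this]
    exact Submodule.sub_mem _ h2 h1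
  have hLx : L = AdicCompletion.mk I M a := by
    apply AdicCompletion.ext
    intro k
    have h1 := hL k
    rw [SModEq.sub_mem] at h1
    have h2 := AdicCompletion.pow_smul_top_le_ker_eval I k h1
    rw [LinearMap.mem_ker, map_sub, sub_eq_zero] at h2
    have h3 : L.val k = (b k).val k := h2.symm
    rw [h3]
    change (AdicCompletion.of I M (a (max k n))).val k = _
    rw [AdicCompletion.of_apply, AdicCompletion.mk_apply_coe]
    have h4 := a.property (le_max_left k n)
    exact h4.symm
  rw [← hLx]; exact hLn

/-- A finitely supported function with values in `I ^ m • ⊤` lies in `I ^ m • ⊤`. -/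
theorem finsupp_mem_pow_smul_top {A : Type u} [CommRing A] (I : Ideal A) {Z : Type v} {M : Type w}
    [AddCommGroup M] [Module A M] (m : ℕ) (g : Z →₀ M)
    (h : ∀ z, g z ∈ (I ^ m • ⊤ : Submodule A M)) :
    g ∈ (I ^ m • ⊤ : Submodule A (Z →₀ M)) := by
  classical
  rw [← Finsupp.sum_single g]
  refine Submodule.sum_mem _ fun z _ => ?_
  have h1 : Finsupp.lsingle (R := A) z (g z) ∈
      (I ^ m • ⊤ : Submodule A M).map (Finsupp.lsingle (R := A) z) := ⟨g z, h z, rfl⟩
  rw [Submodule.map_smul''] at h1
  exact Submodule.smul_mono le_rfl le_top h1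

/-- linear maps preserve `I ^ n • ⊤` -/
theorem map_mem_pow_smul_top {A : Type u} [CommRing A] (I : Ideal A) {X : Type w} {Y : Type w'}
    [AddCommGroup X] [Module A X] [AddCommGroup Y] [Module A Y]
    (ψ : X →ₗ[A] Y) (n : ℕ) (g : X) (hg : g ∈ (I ^ n • ⊤ : Submodule A X)) :
    ψ g ∈ (I ^ n • ⊤ : Submodule A Y) := by
  have h1 : ψ g ∈ (I ^ n • ⊤ : Submodule A X).map ψ := ⟨g, hg, rfl⟩
  rw [Submodule.map_smul''] at h1
  exact Submodule.smul_mono le_rfl le_top h1

/-- a retract of an adically complete module is adically complete -/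
theorem isAdicComplete_of_retract {A : Type u} [CommRing A] (I : Ideal A) {P : Type w} {D : Type w'}
    [AddCommGroup P] [Module A P] [AddCommGroup D] [Module A D]
    (i : P →ₗ[A] D) (r : D →ₗ[A] P) (hri : ∀ p, r (i p) = p) [hD : IsAdicComplete I D] :
    IsAdicComplete I P := by
  haveI hH : IsHausdorff I P := by
    constructor
    intro x hx
    have h1 : i x = 0 := by
      apply hD.toIsHausdorff.haus
      intro n
      have := hx n
      rw [SModEq.sub_mem, sub_zero] at this ⊢
      exact map_mem_pow_smul_top I i n x this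
    rw [← hri x, h1, map_zero]
  haveI hPre : IsPrecomplete I P := by
    constructor
    intro f hf
    obtain ⟨L, hL⟩ := hD.toIsPrecomplete.prec' (fun k => i (f k)) (by
      intro m n hmn
      have := hf hmn
      rw [SModEq.sub_mem] at this ⊢
      rw [← map_sub]
      exact map_mem_pow_smul_top I i m _ this)
    refine ⟨r L, fun n => ?_⟩
    have := hL n
    rw [SModEq.sub_mem] at this ⊢
    have h2 := map_mem_pow_smul_top I r n _ this
    rw [map_sub, hri] at h2
    exact h2
  exact { }

/-- adic completeness transfers along linear equivalences -/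
theorem isAdicComplete_of_linearEquiv {A : Type u} [CommRing A] (I : Ideal A) {P : Type w}
    {D : Type w'} [AddCommGroup P] [Module A P] [AddCommGroup D] [Module A D]
    (e : P ≃ₗ[A] D) [IsAdicComplete I D] : IsAdicComplete I P :=
  isAdicComplete_of_retract I e.toLinearMap e.symm.toLinearMap (fun p => e.symm_apply_apply p)

/-- post-composition with a linear map on decaying functions -/
def decayingMap {A : Type u} [CommRing A] (I : Ideal A) (Z : Type v) {N : Type w} {N' : Type w'}
    [AddCommGroup N] [Module A N] [AddCommGroup N'] [Module A N'] (ψ : N →ₗ[A] N') :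
    decaying I Z N →ₗ[A] decaying I Z N' where
  toFun f := ⟨fun z => ψ ((f : Z → N) z), fun n => (f.2 n).subset fun z hz hz' =>
    hz (map_mem_pow_smul_top I ψ n _ hz')⟩
  map_add' f g := by
    apply Subtype.ext; funext z
    simp
  map_smul' a f := by
    apply Subtype.ext; funext z
    simp

@[simp] theorem decayingMap_apply {A : Type u} [CommRing A] (I : Ideal A) (Z : Type v) {N : Type w}
    {N' : Type w'} [AddCommGroup N] [Module A N] [AddCommGroup N'] [Module A N']
    (ψ : N →ₗ[A] N') (f : decaying I Z N) (z : Z) :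
    ((decayingMap I Z ψ f : decaying I Z N') : Z → N') z = ψ ((f : Z → N) z) := rfl

/-- a linear equivalence induces an equivalence on decaying functions -/
def decayingCongr {A : Type u} [CommRing A] (I : Ideal A) (Z : Type v) {N : Type w} {N' : Type w'}
    [AddCommGroup N] [Module A N] [AddCommGroup N'] [Module A N'] (e : N ≃ₗ[A] N') :
    decaying I Z N ≃ₗ[A] decaying I Z N' :=
  LinearEquiv.ofLinear (decayingMap I Z e.toLinearMap) (decayingMap I Z e.symm.toLinearMap)
    (by
      apply LinearMap.ext; intro f
      apply Subtype.ext; funext z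
      simp)
    (by
      apply LinearMap.ext; intro f
      apply Subtype.ext; funext z
      simp)

/-- `a • 1 = of a` in the completion of the ring -/
theorem smul_one_eq_of {A : Type u} [CommRing A] (I : Ideal A) (a : A) :
    a • (1 : AdicCompletion I A) = AdicCompletion.of I A a := by
  rw [← Algebra.algebraMap_eq_smul_one, AdicCompletion.algebraMap_apply]
  rfl

/-- Finite approximation: modulo `I ^ n`, a decaying function with values in the completion of a
Noetherian ring is a finite combination of the basic functions `single z 1`. -/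
theorem exists_finite_approx {A : Type u} [CommRing A] [IsNoetherianRing A] (I : Ideal A)
    (Z : Type v) [DecidableEq Z] (n : ℕ) (g : decaying I Z (AdicCompletion I A)) :
    ∃ (S : Finset Z) (a : Z → A),
      g - ∑ z ∈ S, a z • single I z (1 : AdicCompletion I A) ∈
        (I ^ n • ⊤ : Submodule A (decaying I Z (AdicCompletion I A))) := by
  haveI hÂ : IsAdicComplete I (AdicCompletion I A) :=
    AdicCompletion.isAdicComplete ((isNoetherianRing_iff_ideal_fg A).mp inferInstance I)
  have hSfin := g.2 n
  have hrep : ∀ z : Z, ∃ a : A, ((g : Z → AdicCompletion I A) z - AdicCompletion.of I A a) ∈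
      (I ^ n • ⊤ : Submodule A (AdicCompletion I A)) := by
    intro z
    obtain ⟨a, ha⟩ := Submodule.Quotient.mk_surjective _
      (((g : Z → AdicCompletion I A) z).val n)
    refine ⟨a, mem_pow_smul_top_of_val_eq_zero I A n _ ?_⟩
    rw [AdicCompletion.val_sub, Pi.sub_apply, AdicCompletion.of_apply, Submodule.mkQ_apply, ha,
      sub_self]
  choose a ha using hrep
  refine ⟨hSfin.toFinset, a, ?_⟩
  set S := hSfin.toFinset with hS
  set t : decaying I Z (AdicCompletion I A) :=
    ∑ z ∈ S, a z • single I z (1 : AdicCompletion I A) with ht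
  have htval : ∀ z, (t : Z → AdicCompletion I A) z =
      if z ∈ S then AdicCompletion.of I A (a z) else 0 := by
    intro z
    rw [ht]
    simp only [Submodule.coe_sum, Submodule.coe_smul, coe_single, Finset.sum_apply,
      Pi.smul_apply, Pi.single_apply, smul_ite, smul_zero, smul_one_eq_of]
    rw [Finset.sum_ite_eq]
  rw [mem_pow_smul_top_decaying_iff]
  intro z
  change (g : Z → AdicCompletion I A) z - (t : Z → AdicCompletion I A) z ∈ _
  rw [htval]
  by_cases hz : z ∈ S
  · rw [if_pos hz]; exact ha z
  · rw [if_neg hz, sub_zero]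
    by_contra hcon
    exact hz ((Set.Finite.mem_toFinset hSfin).mpr hcon)

end Groth.Agent.Helper8.Decaying
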