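import Mathlib

namespace Groth.Agent.Helper8.DedAff

open AlgebraicGeometry CategoryTheory

universe u

section alg

variable {A : Type u} [CommRing A] [IsDedekindDomain A]

open scoped nonZeroDivisors

/-- elements `g` for which `g • I` is contained in a principal ideal generated by an element of `I` -/
def good (I : Ideal A) : Set A := {g | ∃ a ∈ I, ∀ x ∈ I, g * x ∈ Ideal.span {a}}

theorem span_good (I : Ideal A) (hI : I ≠ ⊥) : Ideal.span (good I) = ⊤ := by
  let K := FractionRing A
  have hI' : (I : FractionalIdeal A⁰ K) ≠ 0 := by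
    rwa [Ne, FractionalIdeal.coeIdeal_eq_zero]
  have h1 : (I : FractionalIdeal A⁰ K) * (I : FractionalIdeal A⁰ K)⁻¹ = 1 :=
    mul_inv_cancel₀ hI'
  have h2 : (I : FractionalIdeal A⁰ K) * (I : FractionalIdeal A⁰ K)⁻¹ ≤
      ((Ideal.span (good I) : Ideal A) : FractionalIdeal A⁰ K) := by
    rw [FractionalIdeal.mul_le]
    intro i hi j hj
    rw [FractionalIdeal.mem_coeIdeal] at hi
    obtain ⟨a, ha, rfl⟩ := hi
    rw [FractionalIdeal.mem_inv_iff hI'] at hj
    have hja := hj _ (FractionalIdeal.mem_coeIdeal_of_mem A⁰ ha)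
    rw [FractionalIdeal.mem_one_iff] at hja
    obtain ⟨g, hg⟩ := hja
    rw [FractionalIdeal.mem_coeIdeal]
    refine ⟨g, Ideal.subset_span ⟨a, ha, ?_⟩, by rw [hg, mul_comm]⟩
    intro x hx
    have hjx := hj _ (FractionalIdeal.mem_coeIdeal_of_mem A⁰ hx)
    rw [FractionalIdeal.mem_one_iff] at hjx
    obtain ⟨y, hy⟩ := hjx
    rw [Ideal.mem_span_singleton']
    refine ⟨y, ?_⟩
    apply IsFractionRing.injective A K
    rw [map_mul, map_mul, hy, hg]
    ring
  rw [h1, ← FractionalIdeal.coeIdeal_top, FractionalIdeal.coeIdeal_le_coeIdeal] at h2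
  exact top_le_iff.mp h2

theorem exists_family (I : Ideal A) (hI : I ≠ ⊥) :
    ∃ (t : Finset A) (c : A → A), (∑ g ∈ t, c g * g = 1) ∧ ∀ g ∈ t, g ∈ good I := by
  have h := span_good I hI
  have h1 : (1 : A) ∈ Ideal.span (good I) := h ▸ Submodule.mem_top
  rw [Ideal.span, Submodule.mem_span_iff_exists_finset_subset] at h1
  obtain ⟨c, t, ht, _, hsum⟩ := h1
  exact ⟨t, c, by simpa [smul_eq_mul] using hsum, fun g hg => ht hg⟩

end alg

theorem main (A : Type u) [CommRing A] [IsDedekindDomain A]
    (U : (Spec (CommRingCat.of A)).Opens) : IsAffineOpen U := by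
  obtain ⟨I, hI⟩ := (PrimeSpectrum.isClosed_iff_zeroLocus_ideal _).mp U.isOpen.isClosed_compl
  have hmem : ∀ q : ↥(Spec (CommRingCat.of A)),
      q ∈ U ↔ ¬ (I ≤ PrimeSpectrum.asIdeal (R := A) q) := by
    intro q
    have h1 : q ∈ (U : Set _)ᶜ ↔ (I : Set A) ⊆ PrimeSpectrum.asIdeal (R := A) q := by
      rw [hI]; exact Iff.rfl
    constructor
    · intro hq hle
      exact (h1.mpr (SetLike.coe_subset_coe.mpr hle)) hq
    · intro h
      by_contra hq
      exact h (SetLike.coe_subset_coe.mp (h1.mp hq))
  by_cases hI0 : I = ⊥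
  · have : U = ⊥ := by
      ext x
      simp only [TopologicalSpace.Opens.coe_bot, Set.mem_empty_iff_false, iff_false, SetLike.mem_coe]
      intro hx
      exact (hmem x).mp hx (hI0 ▸ bot_le)
    rw [this]; exact isAffineOpen_bot _
  · obtain ⟨t, c, hsum, hgood⟩ := exists_family I hI0
    let e : A →+* Γ(Spec (CommRingCat.of A), U) :=
      ((Spec (CommRingCat.of A)).presheaf.map (homOfLE le_top).op).hom.comp
        (Scheme.ΓSpecIso (CommRingCat.of A)).inv.hom
    apply isAffineOpen_of_isAffineOpen_basicOpen U (e '' (t : Set A))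
    · rw [Ideal.eq_top_iff_one]
      have : (1 : Γ(Spec (CommRingCat.of A), U)) = ∑ g ∈ t, e (c g) * e g := by
        rw [← map_one e, ← hsum]; simp
      rw [this]
      exact Ideal.sum_mem _ fun g hg => Ideal.mul_mem_left _ _ (Ideal.subset_span ⟨g, hg, rfl⟩)
    · rintro _ ⟨g, hg, rfl⟩
      obtain ⟨a, haI, hga⟩ := hgood g hg
      have : (Spec (CommRingCat.of A)).basicOpen (e g) = PrimeSpectrum.basicOpen (g * a) := by
        change (Spec (CommRingCat.of A)).basicOpen ((Spec (CommRingCat.of A)).presheaf.map _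
          ((Scheme.ΓSpecIso (CommRingCat.of A)).inv g)) = _
        rw [Scheme.basicOpen_res, basicOpen_eq_of_affine]
        ext q
        change q ∈ U ∧ g ∉ PrimeSpectrum.asIdeal (R := A) q ↔
          g * a ∉ PrimeSpectrum.asIdeal (R := A) q
        rw [hmem q]
        have hqp : (PrimeSpectrum.asIdeal (R := A) q).IsPrime := PrimeSpectrum.isPrime (R := A) q
        constructor
        · rintro ⟨h1, h2⟩ h3
          rcases hqp.mem_or_mem h3 with h | h
          · exact h2 h
          · apply h1
            intro x hx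
            have h4 : g * x ∈ q.asIdeal := by
              have := hga x hx
              rw [Ideal.mem_span_singleton'] at this
              obtain ⟨y, hy⟩ := this
              rw [← hy]
              exact Ideal.mul_mem_left _ _ h
            exact (hqp.mem_or_mem h4).resolve_left h2
        · intro h
          refine ⟨fun hle => h (Ideal.mul_mem_left _ _ (hle haI)), fun hg' => h (Ideal.mul_mem_right _ _ hg')⟩
      rw [this]
      exact IsAffineOpen.Spec_basicOpen _

end Groth.Agent.Helper8.DedAff
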