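import Mathlib
import Groth.Prelude.Def_DefoSh
import Groth.Agent.Helper4.QcohLocal

/-!
# Morphisms of deformations of a module over a local Artinian ring are isomorphisms
-/

set_option autoImplicit false
universe u

open CategoryTheory AlgebraicGeometry

namespace Groth.Agent.Helper8.DefoIso

section Algebra

variable {A : Type*} [CommRing A] (m : Ideal A) {M M' : Type*} [AddCommGroup M] [Module A M]
  [AddCommGroup M'] [Module A M']

theorem ker_inf_le_smul_ker [Module.Flat A M'] (ψ : M →ₗ[A] M') (hs : Function.Surjective ψ) :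
    LinearMap.ker ψ ⊓ m • (⊤ : Submodule A M) ≤ m • LinearMap.ker ψ := by
  rintro x ⟨hxK, hxm⟩
  have hspan : x ∈ m • Submodule.span A (Set.range (id : M → M)) := by
    simpa using hxm
  obtain ⟨a, ha, rfl⟩ := (Submodule.mem_ideal_smul_span_iff_exists_sum m id x).mp hspan
  have h0 : ∑ i : a.support, a i.1 • ψ i.1 = 0 := by
    rw [Finset.sum_coe_sort a.support (fun i => a i • ψ i)]
    have h1 : ψ (a.sum fun i c => c • id i) = 0 := hxK
    rw [Finsupp.sum, map_sum] at h1
    simpa using h1
  obtain ⟨k, b, y, hy1, hy2⟩ := Module.Flat.isTrivialRelation_of_sum_smul_eq_zero h0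
  choose n hn using fun j => hs (y j)
  have hzero : ∑ i : a.support, a i.1 • ∑ j, b i j • n j = 0 := by
    simp_rw [Finset.smul_sum, smul_smul]
    rw [Finset.sum_comm]
    apply Finset.sum_eq_zero
    intro j _
    rw [← Finset.sum_smul, hy2 j, zero_smul]
  have hx : (a.sum fun i c => c • id i) =
      ∑ i : a.support, a i.1 • (i.1 - ∑ j, b i j • n j) := by
    rw [Finsupp.sum, ← Finset.sum_coe_sort a.support (fun i => a i • id i)]
    simp_rw [smul_sub]
    rw [Finset.sum_sub_distrib, hzero, sub_zero]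
    rfl
  rw [hx]
  refine Submodule.sum_mem _ (fun i _ => Submodule.smul_mem_smul (ha i.1) ?_)
  rw [LinearMap.mem_ker, map_sub, map_sum]
  simp_rw [map_smul, hn]
  exact sub_eq_zero.mpr (hy1 i)

theorem bijective_of_flat_of_nilpotent [Module.Flat A M'] (hm : IsNilpotent m) (ψ : M →ₗ[A] M')
    (h1 : ∀ v' : M', ∃ v : M, v' - ψ v ∈ m • (⊤ : Submodule A M'))
    (h2 : ∀ v : M, ψ v = 0 → v ∈ m • (⊤ : Submodule A M)) : Function.Bijective ψ := by
  obtain ⟨N, hN⟩ := hm
  have hsurj : Function.Surjective ψ := by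
    rw [← LinearMap.range_eq_top]
    have hstep : (⊤ : Submodule A M') ≤ LinearMap.range ψ ⊔ m • ⊤ := by
      intro v' _
      obtain ⟨v, hv⟩ := h1 v'
      have : v' = ψ v + (v' - ψ v) := by abel
      rw [this]
      exact Submodule.add_mem_sup (LinearMap.mem_range_self ψ v) hv
    have hind : ∀ n : ℕ, (⊤ : Submodule A M') ≤ LinearMap.range ψ ⊔ m ^ n • ⊤ := by
      intro n
      induction n with
      | zero =>
        rw [pow_zero, Ideal.one_eq_top, Submodule.top_smul]
        exact le_sup_right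
      | succ n ih =>
        refine hstep.trans (sup_le le_sup_left ?_)
        calc m • (⊤ : Submodule A M') ≤ m • (LinearMap.range ψ ⊔ m ^ n • ⊤) :=
              Submodule.smul_mono le_rfl ih
          _ = m • LinearMap.range ψ ⊔ m • (m ^ n • ⊤) := Submodule.smul_sup _ _ _
          _ ≤ LinearMap.range ψ ⊔ m ^ (n + 1) • ⊤ := by
              refine sup_le_sup Submodule.smul_le_right ?_
              rw [← Submodule.mul_smul, ← pow_succ']
    have := hind N
    rw [hN, Ideal.zero_eq_bot, Submodule.bot_smul, sup_bot_eq] at this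
    exact top_le_iff.mp this
  refine ⟨?_, hsurj⟩
  rw [← LinearMap.ker_eq_bot]
  have hK : LinearMap.ker ψ ≤ m • LinearMap.ker ψ := by
    intro x hx
    exact ker_inf_le_smul_ker m ψ hsurj ⟨hx, h2 x hx⟩
  have hind : ∀ n : ℕ, LinearMap.ker ψ ≤ m ^ n • LinearMap.ker ψ := by
    intro n
    induction n with
    | zero => rw [pow_zero, Ideal.one_eq_top, Submodule.top_smul]
    | succ n ih =>
      calc LinearMap.ker ψ ≤ m • LinearMap.ker ψ := hK
        _ ≤ m • (m ^ n • LinearMap.ker ψ) := Submodule.smul_mono le_rfl ih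
        _ = m ^ (n + 1) • LinearMap.ker ψ := by rw [← Submodule.mul_smul, ← pow_succ']
  have := hind N
  rw [hN, Ideal.zero_eq_bot, Submodule.bot_smul] at this
  exact le_bot_iff.mp this

end Algebra

theorem main (k : Type u) [Field k] (X : Scheme.{u})
    [X.Over (Spec (CommRingCat.of k))] (E : X.Modules) (A : ArtFun.Art k k)
    (D D' : DefoSh.Defo E A) (φ : D.sheaf ⟶ D'.sheaf)
    (hact : ∀ a : A, D.act a ≫ φ = φ ≫ D'.act a) (hπ : φ ≫ D'.π = D.π) :
    IsIso φ := by
  apply Groth.Agent.Helper4.QcohLocal.isIso_of_stalkLin_bijective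
  intro p
  letI := D.stalkMod p
  letI := D'.stalkMod p
  haveI : Module.Flat A ↑(D'.sheaf.presheaf.stalk p) := D'.flat p
  let ψ : ↑(D.sheaf.presheaf.stalk p) →ₗ[A] ↑(D'.sheaf.presheaf.stalk p) :=
    { toFun := RefHull.stalkMapₗ φ p
      map_add' := map_add _
      map_smul' := fun a v => by
        show RefHull.stalkMapₗ φ p (RefHull.stalkMapₗ (D.act a) p v) =
          RefHull.stalkMapₗ (D'.act a) p (RefHull.stalkMapₗ φ p v)
        rw [← DefoSh.stalkMapₗ_comp_apply, ← DefoSh.stalkMapₗ_comp_apply, hact a] }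
  have hcomp : ∀ v, RefHull.stalkMapₗ D'.π p (ψ v) = RefHull.stalkMapₗ D.π p v := by
    intro v
    show RefHull.stalkMapₗ D'.π p (RefHull.stalkMapₗ φ p v) = _
    rw [← DefoSh.stalkMapₗ_comp_apply, hπ]
  have hnil : IsNilpotent (IsLocalRing.maximalIdeal A) := by
    have := IsArtinianRing.isNilpotent_jacobson_bot (R := A)
    rwa [IsLocalRing.jacobson_eq_maximalIdeal ⊥ bot_ne_top] at this
  have hbij := bijective_of_flat_of_nilpotent (IsLocalRing.maximalIdeal A) hnil ψ
    (fun v' => by
      obtain ⟨v, hv⟩ := D.surj p (RefHull.stalkMapₗ D'.π p v')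
      refine ⟨v, D'.ker_le p _ ?_⟩
      rw [map_sub, hcomp, hv, sub_self])
    (fun v hv => D.ker_le p v (by rw [← hcomp, hv, map_zero]))
  exact hbij

end Groth.Agent.Helper8.DefoIso
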