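import Mathlib
import Groth.Prelude.Def_Found
import Groth.Agent.Helper2.Caten2
import Groth.Agent.Helper2.GoldmanDomain
import Groth.Agent.S4861

set_option autoImplicit false
universe u

namespace Groth.Agent.Helper8.Del

open Order

/-- In a poset, if the interval `[a,b]` is finite dimensional of dimension `n`, there is a
saturated chain of length `n` from `a` to `b`. -/
theorem exists_saturated_Icc {α : Type*} [PartialOrder α] (a b : α) (hab : a ≤ b)
    (hfin : Order.krullDim ↥(Set.Icc a b) < ⊤) :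
    ∃ (n : ℕ) (s : LTSeries α), Order.krullDim ↥(Set.Icc a b) = n ∧ s.head = a ∧ s.last = b ∧
      s.length = n ∧ ∀ i : Fin s.length, s i.castSucc ⋖ s i.succ := by
  letI : OrderBot ↥(Set.Icc a b) :=
    { bot := ⟨a, ⟨le_rfl, hab⟩⟩
      bot_le := fun x => x.2.1 }
  have h1 : ((coheight (⊥ : ↥(Set.Icc a b)) : ℕ∞) : WithBot ℕ∞) = Order.krullDim ↥(Set.Icc a b) :=
    coheight_bot_eq_krullDim
  have hne : coheight (⊥ : ↥(Set.Icc a b)) ≠ ⊤ := by
    intro h
    rw [h] at h1
    rw [← h1] at hfin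
    exact lt_irrefl _ hfin
  obtain ⟨n, hn⟩ := ENat.ne_top_iff_exists.1 hne
  obtain ⟨p, hhead, hlen⟩ := Order.exists_series_of_coheight_eq_coe (⊥ : ↥(Set.Icc a b)) hn.symm
  have hmax : (p.length : ℕ∞) = coheight p.head := by rw [hhead, ← hn, hlen]
  have hidx := Order.coheight_eq_index_of_length_eq_head_coheight hmax
  have hlast : (p.last).1 = b := by
    have h0 : coheight p.last = 0 := by
      have := hidx (Fin.last _)
      rw [Fin.rev_last] at this
      exact this
    rw [Order.coheight_eq_zero] at h0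
    have hle : p.last ≤ ⟨b, ⟨hab, le_rfl⟩⟩ := p.last.2.2
    have := h0 hle
    exact le_antisymm p.last.2.2 this
  refine ⟨n, p.map Subtype.val (fun _ _ h => h), ?_, ?_, ?_, ?_, ?_⟩
  · have : Order.krullDim ↥(Set.Icc a b) = ((n : ℕ∞) : WithBot ℕ∞) := by rw [← h1, ← hn]
    exact_mod_cast this
  · rw [LTSeries.head_map, hhead]
    rfl
  · rw [LTSeries.last_map, hlast]
  · exact hlen
  · intro i
    refine ⟨p.step i, ?_⟩
    intro z hz1 hz2
    have hz1' : (p i.castSucc).1 < z := hz1
    have hz2' : z < (p i.succ).1 := hz2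
    let z' : ↥(Set.Icc a b) := ⟨z, ⟨(p i.castSucc).2.1.trans hz1'.le, hz2'.le.trans (p i.succ).2.2⟩⟩
    have hz1'' : p i.castSucc < z' := hz1'
    have hz2'' : z' < p i.succ := hz2'
    have e1 := hidx i.castSucc
    have e2 := hidx i.succ
    have l1 := Order.coheight_add_one_le hz1''
    have l2 := Order.coheight_add_one_le hz2''
    rw [e1] at l1
    rw [e2] at l2
    have l3 : (((i.succ.rev : Fin (p.length + 1)) : ℕ) : ℕ∞) + 1 + 1 ≤
        ((i.castSucc.rev : Fin (p.length + 1)) : ℕ) :=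
      le_trans (add_le_add_left l2 1) l1
    have l4 : ((i.succ.rev : Fin (p.length + 1)) : ℕ) + 1 + 1 ≤
        ((i.castSucc.rev : Fin (p.length + 1)) : ℕ) := by
      exact_mod_cast l3
    simp only [Fin.val_rev, Fin.val_succ, Fin.val_castSucc] at l4
    omega

open Groth.Agent.Helper2.Caten Groth.Agent.Helper2.Caten2 in
/-- In a catenary Noetherian local ring, `dim A/P = dim A/Q + dim [P,Q]` for primes `P ≤ Q`. -/
theorem coheight_eq_add {A : Type u} [CommRing A] [IsNoetherianRing A] [IsLocalRing A]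
    (hc : CAlg.IsCatenary A) (P Q : PrimeSpectrum A) (hPQ : P ≤ Q) :
    ∃ n : ℕ, Order.krullDim ↥(Set.Icc P Q) = n ∧ Order.coheight P = Order.coheight Q + n := by
  have hfin : Order.krullDim ↥(Set.Icc P Q) < ⊤ := by
    have h1 : Order.krullDim ↥(Set.Icc P Q) ≤ ringKrullDim A :=
      Order.krullDim_le_of_strictMono Subtype.val (fun _ _ h => h)
    exact lt_of_le_of_lt h1 ringKrullDim_lt_top
  obtain ⟨n, s, hn, hhead, hlast, hlen, hsat⟩ := exists_saturated_Icc P Q hPQ hfin
  refine ⟨n, hn, ?_⟩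
  have h := coheight_head_eq hc s hsat (Fin.last _)
  have h0 : s 0 = P := hhead
  have h1 : s (Fin.last _) = Q := hlast
  rw [h0, h1, Fin.val_last, hlen] at h
  exact h

/-- If `q` is a maximal ideal of a finite type algebra `B` over a Noetherian ring `A`, then
`A/(q ∩ A)` has dimension at most one. -/
theorem ringKrullDim_quotient_comap_le_one {A B : Type u} [CommRing A] [IsNoetherianRing A]
    [CommRing B] [Algebra A B] (hft : Algebra.FiniteType A B) (q : Ideal B) [hq : q.IsMaximal] :
    ringKrullDim (A ⧸ q.comap (algebraMap A B)) ≤ 1 := by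
  let p : Ideal A := q.comap (algebraMap A B)
  haveI hp : p.IsPrime := Ideal.comap_isPrime _ _
  haveI : q.LiesOver p := ⟨rfl⟩
  letI : Field (B ⧸ q) := Ideal.Quotient.field q
  have hinj : Function.Injective (algebraMap (A ⧸ p) (B ⧸ q)) :=
    (faithfulSMul_iff_algebraMap_injective (A ⧸ p) (B ⧸ q)).1 inferInstance
  have h1 : Algebra.FiniteType A (B ⧸ q) :=
    Algebra.FiniteType.trans hft (Algebra.FiniteType.of_surjective (Algebra.ofId B (B ⧸ q))
      Ideal.Quotient.mk_surjective)
  have h2 : Algebra.FiniteType (A ⧸ p) (B ⧸ q) :=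
    Algebra.FiniteType.of_restrictScalars_finiteType A (A ⧸ p) (B ⧸ q)
  have h3 := Groth.Agent.Helper2.GoldmanDomain.c_to_a (B := A ⧸ p) (B ⧸ q) hinj h2
  have h4 := ((Groth.Agent.S4861.result (A ⧸ p)).out 0 2).1 h3
  exact h4.2

end Groth.Agent.Helper8.Del
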