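import Groth.Agent.Helper8.DelA
import Groth.Agent.Helper5.UCat7

set_option autoImplicit false
universe u
open AlgebraicGeometry CategoryTheory TopologicalSpace

namespace Groth.Agent.Helper8.Del

open Groth.Agent.Helper5.UCat Groth.Agent.Helper5.DimFormula Groth.Agent.Helper5.VarDim

/-- Stalks of `Spec A` are universally catenary when `A` is. -/
theorem stalk_isUniversallyCatenary (A : Type u) [CommRing A] (hA : CAlg.IsUniversallyCatenary A)
    (s : ↥(Spec (CommRingCat.of A))) :
    CAlg.IsUniversallyCatenary ((Spec (CommRingCat.of A)).presheaf.stalk s) := by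
  let s' : PrimeSpectrum A := s
  letI : Algebra A ((Spec (CommRingCat.of A)).presheaf.stalk s) := StructureSheaf.stalkAlgebra A s'
  haveI : IsLocalization.AtPrime ((Spec (CommRingCat.of A)).presheaf.stalk s) s'.asIdeal :=
    StructureSheaf.IsLocalization.to_stalk A s'
  exact isUniversallyCatenary_of_isLocalization s'.asIdeal.primeCompl hA

/-- Strict order on `Spec A` against strict order on the prime spectrum. -/
theorem spec_lt_iff (A : Type u) [CommRing A] (u v : PrimeSpectrum A) :
    @LT.lt ↥(Spec (CommRingCat.of A)) _ u v ↔ v < u := by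
  have h1 : ∀ a b : PrimeSpectrum A, @LE.le ↥(Spec (CommRingCat.of A)) _ a b ↔ b ≤ a := by
    intro a b
    exact (Scheme.le_iff_specializes (X := Spec (CommRingCat.of A)) (a := a) (b := b)).trans
      (PrimeSpectrum.le_iff_specializes b a).symm
  rw [lt_iff_le_not_ge, lt_iff_le_not_ge, h1, h1]

/-- Intervals in `Spec A` for the specialization order against intervals in the prime spectrum. -/
theorem krullDim_Icc_spec (A : Type u) [CommRing A] (s t : PrimeSpectrum A) :
    Order.krullDim ↥(Set.Icc (α := ↥(Spec (CommRingCat.of A))) s t) =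
      Order.krullDim ↥(Set.Icc (α := PrimeSpectrum A) t s) := by
  have h1 : ∀ a b : PrimeSpectrum A, @LE.le ↥(Spec (CommRingCat.of A)) _ a b ↔ b ≤ a := by
    intro a b
    exact (Scheme.le_iff_specializes (X := Spec (CommRingCat.of A)) (a := a) (b := b)).trans
      (PrimeSpectrum.le_iff_specializes b a).symm
  rw [← Order.krullDim_orderDual (α := ↥(Set.Icc (α := PrimeSpectrum A) t s))]
  apply le_antisymm
  · refine Order.krullDim_le_of_strictMono
      (fun u => OrderDual.toDual
        (⟨u.1, ⟨(h1 _ _).1 u.2.2, (h1 _ _).1 u.2.1⟩⟩ : ↥(Set.Icc (α := PrimeSpectrum A) t s))) ?_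
    intro u v huv
    have h2 : @LT.lt ↥(Spec (CommRingCat.of A)) _ u.1 v.1 := huv
    have h3 := (spec_lt_iff A u.1 v.1).1 h2
    exact h3
  · refine Order.krullDim_le_of_strictMono
      (fun v => (⟨(OrderDual.ofDual v).1,
          ⟨(h1 _ _).2 (OrderDual.ofDual v).2.2, (h1 _ _).2 (OrderDual.ofDual v).2.1⟩⟩ :
          ↥(Set.Icc (α := ↥(Spec (CommRingCat.of A))) s t))) ?_
    intro u v huv
    have h2 : (OrderDual.ofDual v).1 < (OrderDual.ofDual u).1 := huv
    exact (spec_lt_iff A _ _).2 h2

/-- The dimension of the closure of a point of a scheme is the dimension of the poset of its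
specializations. -/
theorem topologicalKrullDim_closure {X : Scheme.{u}} (x : X) :
    topologicalKrullDim ↥(closure ({x} : Set X)) = Order.krullDim ↥(Set.Iic x) := by
  haveI : QuasiSober ↥(closure ({x} : Set X)) :=
    isClosed_closure.isClosedEmbedding_subtypeVal.quasiSober
  let e0 : @OrderIso (IrreducibleCloseds ↥(closure ({x} : Set X))) ↥(closure ({x} : Set X)) _
      (specializationOrder _).toLE := irreducibleSetEquivPoints (α := ↥(closure ({x} : Set X)))
  let e1 : @OrderIso ↥(closure ({x} : Set X)) (IrreducibleCloseds ↥(closure ({x} : Set X)))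
      (specializationOrder _).toLE _ := @OrderIso.symm _ _ _ (specializationOrder _).toLE e0
  have hmem : ∀ z : X, z ∈ closure ({x} : Set X) ↔ z ≤ x := by
    intro z
    rw [← specializes_iff_mem_closure, Scheme.le_iff_specializes]
  have hlt : ∀ z z' : ↥(closure ({x} : Set X)),
      @LT.lt _ (specializationOrder _).toPreorder.toLT z z' ↔ z.1 < z'.1 := by
    intro z z'
    rw [@lt_iff_le_not_ge _ (specializationOrder _).toPreorder, lt_iff_le_not_ge,
      Scheme.le_iff_specializes, Scheme.le_iff_specializes]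
    show (z' ⤳ z ∧ ¬ z ⤳ z') ↔ _
    rw [subtype_specializes_iff, subtype_specializes_iff]
  rw [topologicalKrullDim]
  apply le_antisymm
  · refine Order.krullDim_le_of_strictMono
      (fun T => (⟨(e0 T).1, (hmem _).1 (e0 T).2⟩ : ↥(Set.Iic x))) ?_
    intro T T' hTT'
    have h1 : @LT.lt _ (specializationOrder _).toPreorder.toLT (e0 T) (e0 T') :=
      @OrderIso.strictMono _ _ _ (specializationOrder _).toPreorder e0 T T' hTT'
    exact (hlt _ _).1 h1
  · refine Order.krullDim_le_of_strictMono
      (fun z => e1 (⟨z.1, (hmem _).2 z.2⟩ : ↥(closure ({x} : Set X)))) ?_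
    intro z z' hzz'
    have h1 : @LT.lt _ (specializationOrder _).toPreorder.toLT
        (⟨z.1, (hmem _).2 z.2⟩ : ↥(closure ({x} : Set X))) ⟨z'.1, (hmem _).2 z'.2⟩ :=
      (hlt _ _).2 hzz'
    exact @OrderIso.strictMono _ _ (specializationOrder _).toPreorder _ e1 _ _ h1

/-- Lower bound for the dimension of `Iic x`. -/
theorem krullDim_Icc_le_Iic {α : Type*} [Preorder α] (z x : α) :
    Order.krullDim ↥(Set.Icc z x) ≤ Order.krullDim ↥(Set.Iic x) :=
  Order.krullDim_le_of_strictMono (fun u => (⟨u.1, u.2.2⟩ : ↥(Set.Iic x))) (fun _ _ h => h)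

/-- Upper bound for the dimension of `Iic x`. -/
theorem krullDim_Iic_le {α : Type*} [Preorder α] (x : α) (N : WithBot ℕ∞)
    (h : ∀ z : α, z ≤ x → Order.krullDim ↥(Set.Icc z x) ≤ N) :
    Order.krullDim ↥(Set.Iic x) ≤ N := by
  rw [Order.krullDim]
  refine iSup_le fun p => ?_
  let z : α := p.head.1
  let q : LTSeries ↥(Set.Icc z x) :=
    LTSeries.mk p.length (fun i => ⟨(p i).1, ⟨p.head_le i, (p i).2⟩⟩) (fun i j hij => p.strictMono hij)
  have h1 : (q.length : WithBot ℕ∞) ≤ Order.krullDim ↥(Set.Icc z x) := Order.LTSeries.length_le_krullDim q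
  exact h1.trans (h z p.head.2)

/-- The residue field extension at a closed point of a scheme locally of finite type is
algebraic. -/
theorem trdeg_eq_zero_of_isClosed {X Y : Scheme.{u}} (f : X ⟶ Y) [LocallyOfFiniteType f] (z : X)
    (hz : IsClosed ({z} : Set X)) :
    @Algebra.trdeg (Y.residueField (f z)) (X.residueField z) _ _
      (f.residueFieldMap z).hom.toAlgebra = 0 := by
  let y := f z
  have hft : LocallyOfFiniteType (f.fiberToSpecResidueField y) :=
    inferInstanceAs (LocallyOfFiniteType (Limits.pullback.snd f (Y.fromSpecResidueField y)))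
  let z' : ↥(f.fiber y) := f.asFiber z
  have hz' : IsClosed ({z'} : Set ↥(f.fiber y)) := by
    have : ({z'} : Set ↥(f.fiber y)) = (f.fiberι y) ⁻¹' {z} := by
      ext w
      simp only [Set.mem_singleton_iff, Set.mem_preimage]
      constructor
      · rintro rfl
        exact f.fiberι_asFiber z
      · intro h
        apply (f.fiberι y).isEmbedding.injective
        rw [h, f.fiberι_asFiber]
    rw [this]
    exact hz.preimage (f.fiberι y).continuous
  obtain ⟨n, hn1, -, hn3⟩ := localDim_formula (Y.residueField y) (f.fiberToSpecResidueField y) z'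
  have hn0 := hn3 hz'
  rw [trdeg_fiber f z, hn0] at hn1
  simpa using hn1

/-- At a closed point `z` of a scheme of finite type over a Noetherian ring `A`, the quotient of
`A` by the image prime has dimension at most one. -/
theorem dim_le_one_of_isClosed {A : Type u} [CommRing A] [IsNoetherianRing A] {X : Scheme.{u}}
    (f : X ⟶ Spec (CommRingCat.of A)) [LocallyOfFiniteType f] (z : X)
    (hz : IsClosed ({z} : Set X)) :
    ringKrullDim (A ⧸ PrimeSpectrum.asIdeal (f.base z)) ≤ 1 := by
  obtain ⟨U, hU, hzU, -⟩ := exists_isAffineOpen_mem_and_subset (X := X) (x := z)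
    (U := ⊤) (Set.mem_univ z)
  let g : Spec Γ(X, U) ⟶ Spec (CommRingCat.of A) := hU.fromSpec ≫ f
  let ψ : CommRingCat.of A ⟶ Γ(X, U) := Spec.preimage g
  have hψ : Spec.map ψ = g := Spec.map_preimage g
  letI : Algebra A Γ(X, U) := ψ.hom.toAlgebra
  have hft : Algebra.FiniteType A Γ(X, U) := by
    have h1 : LocallyOfFiniteType (Spec.map ψ) := by
      rw [hψ]
      infer_instance
    have h2 : ψ.hom.FiniteType := (HasRingHomProperty.Spec_iff (P := @LocallyOfFiniteType)).1 h1
    exact h2
  let y : PrimeSpectrum Γ(X, U) := hU.primeIdealOf ⟨z, hzU⟩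
  have hy : hU.fromSpec.base y = z := hU.fromSpec_primeIdealOf ⟨z, hzU⟩
  have hyc : IsClosed ({y} : Set (PrimeSpectrum Γ(X, U))) := by
    have : ({y} : Set (PrimeSpectrum Γ(X, U))) = hU.fromSpec.base ⁻¹' {z} := by
      ext w
      simp only [Set.mem_singleton_iff, Set.mem_preimage]
      constructor
      · rintro rfl
        exact hy
      · intro h
        apply hU.fromSpec.isOpenEmbedding.injective
        rw [h, hy]
    rw [this]
    exact hz.preimage hU.fromSpec.continuous
  haveI hmax : y.asIdeal.IsMaximal := (PrimeSpectrum.isClosed_singleton_iff_isMaximal y).1 hyc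
  have h3 : (Spec.map ψ).base y = f.base z := by
    rw [hψ]
    show f.base (hU.fromSpec.base y) = f.base z
    rw [hy]
  have hcomap : y.asIdeal.comap (algebraMap A Γ(X, U)) = PrimeSpectrum.asIdeal (f.base z) := by
    rw [← h3]
    rfl
  have h4 := ringKrullDim_quotient_comap_le_one hft y.asIdeal
  rw [hcomap] at h4
  exact h4

end Groth.Agent.Helper8.Del
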