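import Groth.Agent.Helper8.DelB

set_option autoImplicit false
universe u
open AlgebraicGeometry CategoryTheory TopologicalSpace

namespace Groth.Agent.Helper8.Del

open Groth.Agent.Helper5.UCat Groth.Agent.Helper2.Caten

theorem le_closedPoint {A : Type u} [CommRing A] [IsLocalRing A] (Q : PrimeSpectrum A) :
    Q ≤ IsLocalRing.closedPoint A :=
  IsLocalRing.le_maximalIdeal Q.2.ne_top

theorem dim_closedPoint {A : Type u} [CommRing A] [IsLocalRing A] :
    ringKrullDim (A ⧸ (IsLocalRing.closedPoint A).asIdeal) = 0 := by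
  rw [dimQuot_eq_coheight]
  have : Order.coheight (IsLocalRing.closedPoint A) = 0 :=
    Order.coheight_eq_zero.2 (fun q _ => le_closedPoint q)
  rw [this]
  rfl

theorem eq_closedPoint_of_dim {A : Type u} [CommRing A] [IsLocalRing A] (Q : PrimeSpectrum A)
    (h : ringKrullDim (A ⧸ Q.asIdeal) = 0) : Q = IsLocalRing.closedPoint A := by
  rw [dimQuot_eq_coheight] at h
  have h0 : Order.coheight Q = 0 := by exact_mod_cast h
  exact le_antisymm (le_closedPoint Q) (Order.coheight_eq_zero.1 h0 (le_closedPoint Q))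

theorem key {A : Type u} [CommRing A] [IsNoetherianRing A] [IsLocalRing A]
    (hA : CAlg.IsUniversallyCatenary A) {X : Scheme.{u}} (f : X ⟶ Spec (CommRingCat.of A))
    [LocallyOfFiniteType f] (x z : X) (hsp : x ⤳ z) (a b : ℕ)
    (ha : ringKrullDim (A ⧸ PrimeSpectrum.asIdeal (f.base x)) = a)
    (hb : @Algebra.trdeg ((Spec (CommRingCat.of A)).residueField (f.base x)) (X.residueField x) _ _
      (f.residueFieldMap x).hom.toAlgebra = b) :
    ∃ az nz ez : ℕ, Order.krullDim ↥(Set.Icc z x) = az ∧
      @Algebra.trdeg ((Spec (CommRingCat.of A)).residueField (f.base z)) (X.residueField z) _ _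
        (f.residueFieldMap z).hom.toAlgebra = nz ∧
      ringKrullDim (A ⧸ PrimeSpectrum.asIdeal (f.base z)) = ez ∧ az + nz + ez = a + b := by
  have hcat : CAlg.IsCatenary A := hA.2 A inferInstance
  obtain ⟨a', c, n, e, h1, h2, h3, h4, h5⟩ :=
    scheme_dimension_equality f (stalk_isUniversallyCatenary A hA) z x hsp
  have he : e = b := by
    have : (e : Cardinal.{u}) = (b : Cardinal.{u}) := h4.symm.trans hb
    exact_mod_cast this
  let P : PrimeSpectrum A := f.base x
  let Q : PrimeSpectrum A := f.base z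
  have hPQ : P ≤ Q := (PrimeSpectrum.le_iff_specializes P Q).2 (hsp.map f.continuous)
  obtain ⟨m, hm1, hm2⟩ := coheight_eq_add hcat P Q hPQ
  have hcm : c = m := by
    have h6 := krullDim_Icc_spec A Q P
    have : ((c : ℕ) : WithBot ℕ∞) = (m : WithBot ℕ∞) := h2.symm.trans (h6.trans hm1)
    exact_mod_cast this
  have hPa : Order.coheight P = (a : ℕ∞) := by
    have := (dimQuot_eq_coheight P).symm.trans ha
    exact_mod_cast this
  obtain ⟨ez, hez⟩ := ENat.ne_top_iff_exists.1 (coheight_lt_top Q).ne
  refine ⟨a', n, ez, h1, h3, ?_, ?_⟩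
  · have := dimQuot_eq_coheight Q
    rw [← hez] at this
    exact this
  · rw [hPa, ← hez] at hm2
    have : a = ez + m := by exact_mod_cast hm2
    omega

theorem s8538 (A : Type u) [CommRing A] [IsNoetherianRing A] [IsLocalRing A]
    (hA : CAlg.IsUniversallyCatenary A) {X : Scheme.{u}} (f : X ⟶ Spec (CommRingCat.of A)) [LocallyOfFiniteType f]
    [QuasiCompact f] (x : X) (a b d : ℕ) (ha : ringKrullDim (A ⧸ (f.base x).asIdeal) = a)
    (hb : letI := (f.residueFieldMap x).hom.toAlgebra;
      Algebra.trdeg ((Spec (CommRingCat.of A)).residueField (f.base x)) (X.residueField x) = b)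
    (hd : topologicalKrullDim ↥(closure ({x} : Set X)) = d) :
    ((closure ({x} : Set X) ∩ f.base ⁻¹' {((IsLocalRing.closedPoint A : PrimeSpectrum A) : ↥(Spec (CommRingCat.of A)))}).Nonempty →
        d = a + b) ∧
    (closure ({x} : Set X) ∩ f.base ⁻¹' {((IsLocalRing.closedPoint A : PrimeSpectrum A) : ↥(Spec (CommRingCat.of A)))} = ∅ →
        d + 1 = a + b) := by
  haveI : CompactSpace X := QuasiCompact.compactSpace_of_compactSpace f
  rw [topologicalKrullDim_closure] at hd
  have K := fun z hz => key hA f x z hz a b ha hb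
  have T1 : ∀ z : X, x ⤳ z → ∀ az : ℕ, Order.krullDim ↥(Set.Icc z x) = az → az ≤ d := by
    intro z hz az haz
    have := krullDim_Icc_le_Iic z x
    rw [haz, hd] at this
    exact_mod_cast this
  have T2 : ∀ N : ℕ, (∀ z : X, x ⤳ z → ∀ az : ℕ, Order.krullDim ↥(Set.Icc z x) = az → az ≤ N) →
      d ≤ N := by
    intro N hN
    have : Order.krullDim ↥(Set.Iic x) ≤ (N : WithBot ℕ∞) := by
      refine krullDim_Iic_le x N fun z hz => ?_
      have hz' : x ⤳ z := Scheme.le_iff_specializes.1 hz
      obtain ⟨az, -, -, haz, -, -, -⟩ := K z hz'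
      rw [haz]
      exact_mod_cast hN z hz' az haz
    rw [hd] at this
    exact_mod_cast this
  -- uniqueness of `az`
  have U : ∀ z : X, ∀ az az' : ℕ, Order.krullDim ↥(Set.Icc z x) = az →
      Order.krullDim ↥(Set.Icc z x) = az' → az = az' := by
    intro z az az' h h'
    have : ((az : ℕ) : WithBot ℕ∞) = (az' : WithBot ℕ∞) := h.symm.trans h'
    exact_mod_cast this
  have hcl : IsClosed ({((IsLocalRing.closedPoint A : PrimeSpectrum A) :
      ↥(Spec (CommRingCat.of A)))} : Set ↥(Spec (CommRingCat.of A))) :=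
    (PrimeSpectrum.isClosed_singleton_iff_isMaximal (IsLocalRing.closedPoint A)).2
      (IsLocalRing.maximalIdeal.isMaximal A)
  -- closed points
  have Ctr : ∀ z : X, IsClosed ({z} : Set X) → ∀ nz : ℕ,
      @Algebra.trdeg ((Spec (CommRingCat.of A)).residueField (f.base z)) (X.residueField z) _ _
        (f.residueFieldMap z).hom.toAlgebra = nz → nz = 0 := by
    intro z hz nz h
    have : ((nz : ℕ) : Cardinal.{u}) = 0 := h.symm.trans (trdeg_eq_zero_of_isClosed f z hz)
    exact_mod_cast this
  -- points not over the closed point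
  have E : ∀ z : X, ∀ ez : ℕ, ringKrullDim (A ⧸ PrimeSpectrum.asIdeal (f.base z)) = ez →
      ez = 0 → f.base z = ((IsLocalRing.closedPoint A : PrimeSpectrum A) :
        ↥(Spec (CommRingCat.of A))) := by
    intro z ez h h0
    subst h0
    exact eq_closedPoint_of_dim (f.base z) (by rw [h]; rfl)
  constructor
  · rintro ⟨z0, hz0, hfz0⟩
    obtain ⟨z, hz, hzc⟩ := IsClosed.exists_closed_singleton (isClosed_closure (s := ({z0} : Set X)))
      ⟨z0, subset_closure rfl⟩
    have h0z : z0 ⤳ z := specializes_iff_mem_closure.2 hz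
    have hxz : x ⤳ z := (specializes_iff_mem_closure.2 hz0).trans h0z
    have hfz : f.base z = ((IsLocalRing.closedPoint A : PrimeSpectrum A) :
        ↥(Spec (CommRingCat.of A))) := by
      have h1 : f.base z0 ⤳ f.base z := h0z.map f.continuous
      have hfz0' : f.base z0 = ((IsLocalRing.closedPoint A : PrimeSpectrum A) :
        ↥(Spec (CommRingCat.of A))) := hfz0
      rw [hfz0'] at h1
      have h2 := specializes_iff_mem_closure.1 h1
      exact hcl.closure_subset h2
    obtain ⟨az, nz, ez, h1, h2, h3, h4⟩ := K z hxz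
    have hnz : nz = 0 := Ctr z hzc nz h2
    have hez : ez = 0 := by
      have h5 : ringKrullDim (A ⧸ PrimeSpectrum.asIdeal (f.base z)) = 0 := by
        rw [hfz]
        exact dim_closedPoint
      have : ((ez : ℕ) : WithBot ℕ∞) = 0 := h3.symm.trans h5
      exact_mod_cast this
    have hle1 : az ≤ d := T1 z hxz az h1
    have hle2 : d ≤ a + b := by
      refine T2 (a + b) fun z' hz' az' haz' => ?_
      obtain ⟨az'', nz', ez', h1', -, -, h4'⟩ := K z' hz'
      have := U z' az' az'' haz' h1'
      omega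
    omega
  · intro hempty
    obtain ⟨z, hz, hzc⟩ := IsClosed.exists_closed_singleton (isClosed_closure (s := ({x} : Set X)))
      ⟨x, subset_closure rfl⟩
    have hxz : x ⤳ z := specializes_iff_mem_closure.2 hz
    have hne : ∀ z' : X, x ⤳ z' → f.base z' ≠ ((IsLocalRing.closedPoint A : PrimeSpectrum A) :
        ↥(Spec (CommRingCat.of A))) := by
      intro z' hz' h
      have : z' ∈ closure ({x} : Set X) ∩ f.base ⁻¹' {((IsLocalRing.closedPoint A : PrimeSpectrum A) :
          ↥(Spec (CommRingCat.of A)))} := ⟨specializes_iff_mem_closure.1 hz', h⟩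
      rw [hempty] at this
      exact this
    obtain ⟨az, nz, ez, h1, h2, h3, h4⟩ := K z hxz
    have hnz : nz = 0 := Ctr z hzc nz h2
    have hez1 : ez ≤ 1 := by
      have h5 := dim_le_one_of_isClosed f z hzc
      rw [h3] at h5
      exact_mod_cast h5
    have hez0 : ez ≠ 0 := fun h0 => hne z hxz (E z ez h3 h0)
    have hle1 : az ≤ d := T1 z hxz az h1
    have hle2 : d ≤ az := by
      refine T2 az fun z' hz' az' haz' => ?_
      obtain ⟨az'', nz', ez', h1', -, h3', h4'⟩ := K z' hz'
      have := U z' az' az'' haz' h1'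
      have hez0' : ez' ≠ 0 := fun h0 => hne z' hz' (E z' ez' h3' h0)
      omega
    omega

end Groth.Agent.Helper8.Del
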