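import Mathlib
import Groth.Prelude.Def_DeltaF

set_option autoImplicit false

namespace Groth.Agent.Helper8.DeltaIso

open CategoryTheory CategoryTheory.Limits DeltaF

universe w v u

variable {C : Type u} [Category.{v} C] [Abelian C]

/-- the short exact sequence of a mono -/
noncomputable abbrev ses {A M : C} (u : A ⟶ M) : ShortComplex C :=
  ShortComplex.mk u (cokernel.π u) (cokernel.condition u)

theorem ses_exact {A M : C} (u : A ⟶ M) [Mono u] : (ses u).ShortExact :=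
  { exact := ShortComplex.exact_cokernel u
    mono_f := ‹Mono u›
    epi_g := by dsimp [ses]; infer_instance }

theorem inj_iff {X Y : AddCommGrpCat.{w}} (f : X ⟶ Y) :
    Function.Injective f ↔ ∀ x, f x = 0 → x = 0 :=
  injective_iff_map_eq_zero f.hom

section Basic

variable (T : CohDeltaFunctor C AddCommGrpCat.{w} ℕ)

theorem ex₂ (S : ShortComplex C) (hS : S.ShortExact) (n : ℕ) (y : (T.F n).obj S.X₂)
    (hy : (T.F n).map S.g y = 0) : ∃ x, (T.F n).map S.f x = y :=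
  (ShortComplex.ab_exact_iff _).1 (T.exact₂ S hS n) y hy

theorem ex₃ (S : ShortComplex C) (hS : S.ShortExact) (n : ℕ) (z : (T.F n).obj S.X₃)
    (hz : T.δ S hS n (n + 1) rfl z = 0) : ∃ y, (T.F n).map S.g y = z :=
  (ShortComplex.ab_exact_iff _).1 (T.exact₃ S hS n (n + 1) rfl) z hz

theorem ex₁ (S : ShortComplex C) (hS : S.ShortExact) (n : ℕ) (x : (T.F (n + 1)).obj S.X₁)
    (hx : (T.F (n + 1)).map S.f x = 0) : ∃ z, T.δ S hS n (n + 1) rfl z = x :=
  (ShortComplex.ab_exact_iff _).1 (T.exact₁ S hS n (n + 1) rfl) x hx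

theorem map_f_g (S : ShortComplex C) (n : ℕ) (x : (T.F n).obj S.X₁) :
    (T.F n).map S.g ((T.F n).map S.f x) = 0 := by
  rw [← ConcreteCategory.comp_apply, ← Functor.map_comp, S.zero, Functor.map_zero]; rfl

theorem comp_δ_apply (S : ShortComplex C) (hS : S.ShortExact) (n : ℕ) (y : (T.F n).obj S.X₂) :
    T.δ S hS n (n + 1) rfl ((T.F n).map S.g y) = 0 := by
  rw [← ConcreteCategory.comp_apply, T.comp_δ]; rfl

theorem δ_comp_apply (S : ShortComplex C) (hS : S.ShortExact) (n : ℕ) (z : (T.F n).obj S.X₃) :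
    (T.F (n + 1)).map S.f (T.δ S hS n (n + 1) rfl z) = 0 := by
  rw [← ConcreteCategory.comp_apply, T.δ_comp]; rfl

end Basic

section Mor

variable {T T' : CohDeltaFunctor C AddCommGrpCat.{w} ℕ} (φ : T ⟶ T')

theorem nat_apply (q : ℕ) {A B : C} (u : A ⟶ B) (x : (T.F q).obj A) :
    (φ.app q).app B ((T.F q).map u x) = (T'.F q).map u ((φ.app q).app A x) :=
  NatTrans.naturality_apply (φ.app q) u x

theorem comm_apply (S : ShortComplex C) (hS : S.ShortExact) (q : ℕ) (z : (T.F q).obj S.X₃) :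
    (φ.app (q + 1)).app S.X₁ (T.δ S hS q (q + 1) rfl z) =
      T'.δ S hS q (q + 1) rfl ((φ.app q).app S.X₃ z) := by
  have := φ.comm S hS q (q + 1) rfl
  rw [← ConcreteCategory.comp_apply, this, ConcreteCategory.comp_apply]

theorem inj_step (q : ℕ) (hq : ∀ A, Function.Bijective ((φ.app q).app A)) (A : C)
    (α : (T.F (q + 1)).obj A)
    (heff : ∃ (M : C) (u : A ⟶ M), Mono u ∧ (T.F (q + 1)).map u α = 0)
    (hα : (φ.app (q + 1)).app A α = 0) : α = 0 := by
  obtain ⟨M, u, hu, huα⟩ := heff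
  have hS := ses_exact u
  obtain ⟨β, hβ⟩ := ex₁ T (ses u) hS q α huα
  have h1 : T'.δ (ses u) hS q (q + 1) rfl ((φ.app q).app _ β) = 0 := by
    rw [← comm_apply, hβ]; exact hα
  obtain ⟨γ', hγ'⟩ := ex₃ T' (ses u) hS q _ h1
  obtain ⟨γ, rfl⟩ := (hq _).2 γ'
  rw [← nat_apply] at hγ'
  have h2 : (T.F q).map (ses u).g γ = β := (hq _).1 hγ'
  rw [← hβ, ← h2, comp_δ_apply]

theorem surj_step (q : ℕ) (hq : ∀ A, Function.Bijective ((φ.app q).app A)) (A : C)
    (α' : (T'.F (q + 1)).obj A)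
    (heff : ∃ (M : C) (u : A ⟶ M), Mono u ∧ (T'.F (q + 1)).map u α' = 0) :
    ∃ α, (φ.app (q + 1)).app A α = α' := by
  obtain ⟨M, u, hu, huα⟩ := heff
  have hS := ses_exact u
  obtain ⟨β', hβ'⟩ := ex₁ T' (ses u) hS q α' huα
  obtain ⟨β, rfl⟩ := (hq _).2 β'
  exact ⟨T.δ (ses u) hS q (q + 1) rfl β, (comm_apply φ (ses u) hS q β).trans hβ'⟩

theorem zero_inj (hT0 : T.ZeroMono) {A M : C} (i : A ⟶ M) [Mono i]
    (hM : Function.Injective ((φ.app 0).app M)) : Function.Injective ((φ.app 0).app A) := by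
  have hinj : Function.Injective ((T.F 0).map i) :=
    (AddCommGrpCat.mono_iff_injective _).1 (hT0 (ses i) (ses_exact i))
  intro x y hxy
  apply hinj
  apply hM
  rw [nat_apply, nat_apply, hxy]

theorem zero_surj (hT'0 : T'.ZeroMono) {A M : C} (i : A ⟶ M) [Mono i]
    (hM : Function.Surjective ((φ.app 0).app M))
    (hN : Function.Injective ((φ.app 0).app (cokernel i))) :
    Function.Surjective ((φ.app 0).app A) := by
  have hinj' : Function.Injective ((T'.F 0).map i) :=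
    (AddCommGrpCat.mono_iff_injective _).1 (hT'0 (ses i) (ses_exact i))
  intro α'
  obtain ⟨μ, hμ⟩ := hM ((T'.F 0).map i α')
  have h1 : (T.F 0).map (cokernel.π i) μ = 0 := by
    apply hN
    rw [nat_apply, hμ, map_zero]
    exact map_f_g T' (ses i) 0 α'
  obtain ⟨α, hα⟩ := ex₂ T (ses i) (ses_exact i) 0 μ h1
  refine ⟨α, hinj' ?_⟩
  rw [← nat_apply, show (T.F 0).map i α = μ from hα, hμ]

theorem inj_of_mono (q : ℕ) {A M : C} (i : A ⟶ M) [Mono i]
    (h1 : Function.Surjective ((φ.app q).app M))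
    (h2 : Function.Injective ((φ.app q).app (cokernel i)))
    (h4 : Function.Injective ((φ.app (q + 1)).app M)) :
    Function.Injective ((φ.app (q + 1)).app A) := by
  rw [inj_iff]
  intro α hα
  have hS := ses_exact i
  have h3 : (T.F (q + 1)).map i α = 0 := by
    apply h4
    rw [nat_apply, hα, map_zero, map_zero]
  obtain ⟨β, hβ⟩ := ex₁ T (ses i) hS q α h3
  have h5 : T'.δ (ses i) hS q (q + 1) rfl ((φ.app q).app _ β) = 0 := by
    rw [← comm_apply, hβ]; exact hα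
  obtain ⟨γ', hγ'⟩ := ex₃ T' (ses i) hS q _ h5
  obtain ⟨γ, rfl⟩ := h1 γ'
  rw [← nat_apply] at hγ'
  have h6 : (T.F q).map (ses i).g γ = β := h2 hγ'
  rw [← hβ, ← h6, comp_δ_apply]

theorem surj_of_mono (q : ℕ) {A M : C} (i : A ⟶ M) [Mono i]
    (h2 : Function.Surjective ((φ.app q).app (cokernel i)))
    (h4 : Function.Surjective ((φ.app (q + 1)).app M))
    (h5 : Function.Injective ((φ.app (q + 1)).app (cokernel i))) :
    Function.Surjective ((φ.app (q + 1)).app A) := by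
  intro α'
  have hS := ses_exact i
  obtain ⟨μ, hμ⟩ := h4 ((T'.F (q + 1)).map i α')
  have h6 : (T.F (q + 1)).map (cokernel.π i) μ = 0 := by
    apply h5
    rw [nat_apply, hμ, map_zero]
    exact map_f_g T' (ses i) (q + 1) α'
  obtain ⟨α₁, hα₁⟩ := ex₂ T (ses i) hS (q + 1) μ h6
  have h7 : (T'.F (q + 1)).map i (α' - (φ.app (q + 1)).app A α₁) = 0 := by
    rw [map_sub, ← nat_apply, show (T.F (q + 1)).map i α₁ = μ from hα₁, hμ, sub_self]
  obtain ⟨β', hβ'⟩ := ex₁ T' (ses i) hS q _ h7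
  obtain ⟨β, rfl⟩ := h2 β'
  refine ⟨α₁ + T.δ (ses i) hS q (q + 1) rfl β, ?_⟩
  rw [map_add, show (φ.app (q + 1)).app A (T.δ (ses i) hS q (q + 1) rfl β) = _ from
    (comm_apply φ (ses i) hS q β).trans hβ']
  abel

theorem bij_all_of_eff
    (hT : ∀ (q : ℕ) (A : C) (α : (T.F (q + 1)).obj A),
      ∃ (M : C) (u : A ⟶ M), Mono u ∧ (T.F (q + 1)).map u α = 0)
    (h0 : ∀ A, Function.Bijective ((φ.app 0).app A))
    (hsurj : ∀ q, (∀ A, Function.Bijective ((φ.app q).app A)) →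
      ∀ (A : C) (α' : (T'.F (q + 1)).obj A),
        ∃ (M : C) (u : A ⟶ M), Mono u ∧ (T'.F (q + 1)).map u α' = 0) :
    ∀ q A, Function.Bijective ((φ.app q).app A) := by
  intro q
  induction q with
  | zero => exact h0
  | succ q ih =>
    intro A
    exact ⟨(inj_iff _).2 fun α hα => inj_step φ q ih A α (hT q A α) hα,
      fun α' => surj_step φ q ih A α' (hsurj q ih A α')⟩

theorem main8611 (T T' : CohDeltaFunctor C AddCommGrpCat.{w} ℕ) (hT0 : T.ZeroMono)
    (hT'0 : T'.ZeroMono)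
    (hT : ∀ (q : ℕ) (A : C) (α : (T.F (q + 1)).obj A),
      ∃ (M : C) (u : A ⟶ M), Mono u ∧ (T.F (q + 1)).map u α = 0)
    (φ : T ⟶ T') (E : ObjectProperty C)
    (hE : ∀ A : C, ∃ (M : C) (i : A ⟶ M), Mono i ∧ E M) :
    ((∀ (q : ℕ) (A : C), IsIso ((φ.app q).app A)) ↔
      ((∀ M : C, E M → IsIso ((φ.app 0).app M)) ∧
        ∀ (q : ℕ) (M : C), E M → Epi ((φ.app (q + 1)).app M))) ∧
    ((∀ (q : ℕ) (A : C), IsIso ((φ.app q).app A)) ↔
      ((∀ A : C, IsIso ((φ.app 0).app A)) ∧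
        ∀ (q : ℕ) (A : C) (α : (T'.F (q + 1)).obj A),
          ∃ (M : C) (u : A ⟶ M), Mono u ∧ (T'.F (q + 1)).map u α = 0)) := by
  have iso_iff : ∀ q A, IsIso ((φ.app q).app A) ↔ Function.Bijective ((φ.app q).app A) :=
    fun q A => ConcreteCategory.isIso_iff_bijective _
  refine ⟨⟨fun h => ⟨fun M _ => h 0 M, fun q M _ => ?_⟩, ?_⟩, ⟨?_, ?_⟩⟩
  · haveI := h (q + 1) M
    infer_instance
  · rintro ⟨hE0, hEs⟩ q A
    rw [iso_iff]
    revert q A
    have inj0 : ∀ A, Function.Injective ((φ.app 0).app A) := by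
      intro A
      obtain ⟨M, i, hi, hM⟩ := hE A
      exact zero_inj φ hT0 i ((iso_iff 0 M).1 (hE0 M hM)).1
    apply bij_all_of_eff φ hT
    · intro A
      obtain ⟨M, i, hi, hM⟩ := hE A
      exact ⟨inj0 A, zero_surj φ hT'0 i ((iso_iff 0 M).1 (hE0 M hM)).2 (inj0 _)⟩
    · intro q ih A α'
      obtain ⟨M, i, hi, hM⟩ := hE A
      obtain ⟨μ, hμ⟩ := (AddCommGrpCat.epi_iff_surjective _).1 (hEs q M hM)
        ((T'.F (q + 1)).map i α')
      obtain ⟨M'', v, hv, hvμ⟩ := hT q M μ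
      refine ⟨M'', i ≫ v, mono_comp i v, ?_⟩
      rw [Functor.map_comp, ConcreteCategory.comp_apply, ← hμ, ← nat_apply, hvμ, map_zero]
  · intro h
    refine ⟨fun A => h 0 A, fun q A α' => ?_⟩
    obtain ⟨α, rfl⟩ := ((iso_iff (q + 1) A).1 (h (q + 1) A)).2 α'
    obtain ⟨M, u, hu, huα⟩ := hT q A α
    exact ⟨M, u, hu, by rw [← nat_apply, huα, map_zero]⟩
  · rintro ⟨h0, hT'⟩ q A
    rw [iso_iff]
    revert q A
    exact bij_all_of_eff φ hT (fun A => (iso_iff 0 A).1 (h0 A)) (fun q _ A α' => hT' q A α')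

end Mor

end Groth.Agent.Helper8.DeltaIso
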