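import Mathlib
import Groth.Agent.Helper8.DeltaIso

set_option autoImplicit false

namespace Groth.Agent.Helper8.DeltaIso

open CategoryTheory CategoryTheory.Limits DeltaF

universe w v u

section Pres

theorem presAddMon {J : Type v} [SmallCategory J] [IsFiltered J]
    (F : J ⥤ AddMonCat.{max v u}) : PreservesColimit F (forget AddMonCat.{max v u}) :=
  preservesColimit_of_preserves_colimit_cocone
    (AddMonCat.FilteredColimits.colimitCoconeIsColimit.{v, u} F)
    (Types.TypeMax.colimitCoconeIsColimit (F ⋙ forget AddMonCat.{max v u}))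

theorem presAddGrp {J : Type v} [SmallCategory J] [IsFiltered J]
    (F : J ⥤ AddGrpCat.{max v u}) :
    PreservesColimit F (forget₂ AddGrpCat.{max v u} AddMonCat.{max v u}) :=
  preservesColimit_of_preserves_colimit_cocone
    (AddGrpCat.FilteredColimits.colimitCoconeIsColimit.{v, u} F)
    (AddMonCat.FilteredColimits.colimitCoconeIsColimit.{v, u} _)

theorem presAddCommGrp {J : Type v} [SmallCategory J] [IsFiltered J]
    (F : J ⥤ AddCommGrpCat.{max v u}) :
    PreservesColimit F (forget₂ AddCommGrpCat.{max v u} AddGrpCat.{max v u}) :=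
  preservesColimit_of_preserves_colimit_cocone
    (AddCommGrpCat.FilteredColimits.colimitCoconeIsColimit.{v, u} F)
    (AddGrpCat.FilteredColimits.colimitCoconeIsColimit.{v, u} _)

theorem presForget {J : Type v} [SmallCategory J] [IsFiltered J]
    (F : J ⥤ AddCommGrpCat.{max v u}) : PreservesColimit F (forget AddCommGrpCat.{max v u}) := by
  haveI := presAddCommGrp.{v, u} F
  haveI := presAddGrp.{v, u} (F ⋙ forget₂ AddCommGrpCat AddGrpCat)
  haveI := presAddMon.{v, u} ((F ⋙ forget₂ AddCommGrpCat AddGrpCat) ⋙ forget₂ AddGrpCat AddMonCat)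
  have h : PreservesColimit F (forget₂ AddCommGrpCat.{max v u} AddGrpCat.{max v u} ⋙
      forget₂ AddGrpCat.{max v u} AddMonCat.{max v u} ⋙ forget AddMonCat.{max v u}) :=
    inferInstance
  exact h

end Pres

section Colim

variable {C : Type u} [Category.{v} C]

/-- the universe lift -/
noncomputable abbrev U : AddCommGrpCat.{w} ⥤ AddCommGrpCat.{max w v} :=
  AddCommGrpCat.uliftFunctor

variable {J : Type v} [SmallCategory J] [IsFiltered J] (G : C ⥤ AddCommGrpCat.{w})
  [PreservesFilteredColimitsOfSize.{v, v} G] {K : J ⥤ C} {c : Cocone K} (hc : IsColimit c)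

include hc

theorem exists_rep (x : G.obj c.pt) :
    ∃ (j : J) (y : G.obj (K.obj j)), G.map (c.ι.app j) y = x := by
  haveI : PreservesColimitsOfShape J G :=
    PreservesFilteredColimitsOfSize.preserves_filtered_colimits J
  have hG : IsColimit (G.mapCocone c) := isColimitOfPreserves G hc
  have hGU : IsColimit ((U.{w, v}).mapCocone (G.mapCocone c)) := isColimitOfPreserves _ hG
  haveI := presForget.{v, w} ((K ⋙ G) ⋙ U.{w, v})
  obtain ⟨j, y, hy⟩ := Concrete.isColimit_exists_rep ((K ⋙ G) ⋙ U.{w, v}) hGU (ULift.up x)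
  exact ⟨j, y.down, congrArg ULift.down hy⟩

theorem rep_zero {j : J} (y : G.obj (K.obj j)) (hy : G.map (c.ι.app j) y = 0) :
    ∃ (k : J) (f : j ⟶ k), G.map (K.map f) y = 0 := by
  haveI : PreservesColimitsOfShape J G :=
    PreservesFilteredColimitsOfSize.preserves_filtered_colimits J
  have hG : IsColimit (G.mapCocone c) := isColimitOfPreserves G hc
  have hGU : IsColimit ((U.{w, v}).mapCocone (G.mapCocone c)) := isColimitOfPreserves _ hG
  haveI := presForget.{v, w} ((K ⋙ G) ⋙ U.{w, v})
  obtain ⟨k, f, g, hfg⟩ := Concrete.isColimit_exists_of_rep_eq ((K ⋙ G) ⋙ U.{w, v}) hGU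
    (ULift.up y) (ULift.up (0 : G.obj (K.obj j))) (by
      show ULift.up (G.map (c.ι.app j) y) = ULift.up (G.map (c.ι.app j) 0)
      rw [hy, map_zero])
  refine ⟨k, f, ?_⟩
  have h1 := congrArg ULift.down hfg
  exact h1.trans (map_zero _)

end Colim

section Mor2

variable {C : Type u} [Category.{v} C] [Abelian C]
  {T T' : CohDeltaFunctor C AddCommGrpCat.{w} ℕ} (φ : T ⟶ T')

theorem inj_of_colim (q : ℕ) [PreservesFilteredColimitsOfSize.{v, v} (T.F q)]
    [PreservesFilteredColimitsOfSize.{v, v} (T'.F q)]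
    {J : Type v} [SmallCategory J] [IsFiltered J] {K : J ⥤ C} {c : Cocone K} (hc : IsColimit c)
    (h : ∀ j, Function.Injective ((φ.app q).app (K.obj j))) :
    Function.Injective ((φ.app q).app c.pt) := by
  rw [inj_iff]
  intro x hx
  obtain ⟨j, y, rfl⟩ := exists_rep (T.F q) hc x
  rw [nat_apply] at hx
  obtain ⟨k, f, hf⟩ := rep_zero (T'.F q) hc _ hx
  rw [← nat_apply] at hf
  have h1 : (T.F q).map (K.map f) y = 0 := (inj_iff _).1 (h k) _ hf
  have h2 : (T.F q).map (c.ι.app j) y =
      (T.F q).map (c.ι.app k) ((T.F q).map (K.map f) y) := by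
    rw [← ConcreteCategory.comp_apply, ← Functor.map_comp, c.w]
  rw [h2, h1, map_zero]

theorem surj_of_colim (q : ℕ) [PreservesFilteredColimitsOfSize.{v, v} (T.F q)]
    [PreservesFilteredColimitsOfSize.{v, v} (T'.F q)]
    {J : Type v} [SmallCategory J] [IsFiltered J] {K : J ⥤ C} {c : Cocone K} (hc : IsColimit c)
    (h : ∀ j, Function.Surjective ((φ.app q).app (K.obj j))) :
    Function.Surjective ((φ.app q).app c.pt) := by
  intro α'
  obtain ⟨j, y', rfl⟩ := exists_rep (T'.F q) hc α'
  obtain ⟨y, rfl⟩ := h j y'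
  exact ⟨(T.F q).map (c.ι.app j) y, nat_apply φ q _ y⟩

theorem inj_of_iso (q : ℕ) {A B : C} (e : B ≅ A)
    (h : Function.Injective ((φ.app q).app B)) : Function.Injective ((φ.app q).app A) := by
  intro x y hxy
  have h1 : (T.F q).map e.inv x = (T.F q).map e.inv y := by
    apply h
    rw [nat_apply, nat_apply, hxy]
  have h2 : ∀ z, (T.F q).map e.hom ((T.F q).map e.inv z) = z := fun z => by
    rw [← ConcreteCategory.comp_apply, ← Functor.map_comp, e.inv_hom_id, CategoryTheory.Functor.map_id]; rfl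
  rw [← h2 x, h1, h2]

theorem surj_of_iso (q : ℕ) {A B : C} (e : B ≅ A)
    (h : Function.Surjective ((φ.app q).app B)) : Function.Surjective ((φ.app q).app A) := by
  intro α'
  obtain ⟨β, hβ⟩ := h ((T'.F q).map e.inv α')
  refine ⟨(T.F q).map e.hom β, ?_⟩
  rw [nat_apply, hβ, ← ConcreteCategory.comp_apply, ← Functor.map_comp, e.inv_hom_id,
    CategoryTheory.Functor.map_id]; rfl

theorem main8612 [HasFilteredColimitsOfSize.{v, v} C]
    (T T' : CohDeltaFunctor C AddCommGrpCat.{w} ℕ) (hT0 : T.ZeroMono) (hT'0 : T'.ZeroMono)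
    [∀ n, PreservesFilteredColimitsOfSize.{v, v} (T.F n)]
    [∀ n, PreservesFilteredColimitsOfSize.{v, v} (T'.F n)]
    (φ : T ⟶ T') (D E : ObjectProperty C)
    (hD : ∀ A : C, ∃ (J : Type v) (_ : SmallCategory J) (_ : IsFiltered J) (K : J ⥤ C)
      (c : Cocone K) (_ : IsColimit c), (∀ j, D (K.obj j)) ∧ Nonempty (c.pt ≅ A))
    (hE : ∀ A : C, D A → ∃ (M : C) (i : A ⟶ M), Mono i ∧ E M) :
    (∀ (q : ℕ) (A : C), IsIso ((φ.app q).app A)) ↔
      ∀ (q : ℕ) (M : C), E M → IsIso ((φ.app q).app M) := by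
  have iso_iff : ∀ q A, IsIso ((φ.app q).app A) ↔ Function.Bijective ((φ.app q).app A) :=
    fun q A => ConcreteCategory.isIso_iff_bijective _
  constructor
  · intro h q M _
    exact h q M
  · intro hEi
    have hEb : ∀ q M, E M → Function.Bijective ((φ.app q).app M) :=
      fun q M hM => (iso_iff q M).1 (hEi q M hM)
    have inj_all : ∀ q, (∀ A, D A → Function.Injective ((φ.app q).app A)) →
        ∀ A, Function.Injective ((φ.app q).app A) := by
      intro q h A
      obtain ⟨J, hJ, hJf, K, c, hc, hK, ⟨e⟩⟩ := hD A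
      exact inj_of_iso φ q e (inj_of_colim φ q hc (fun j => h _ (hK j)))
    have surj_all : ∀ q, (∀ A, D A → Function.Surjective ((φ.app q).app A)) →
        ∀ A, Function.Surjective ((φ.app q).app A) := by
      intro q h A
      obtain ⟨J, hJ, hJf, K, c, hc, hK, ⟨e⟩⟩ := hD A
      exact surj_of_iso φ q e (surj_of_colim φ q hc (fun j => h _ (hK j)))
    have key : ∀ q A, Function.Bijective ((φ.app q).app A) := by
      intro q
      induction q with
      | zero =>
        have i0 : ∀ A, Function.Injective ((φ.app 0).app A) := inj_all 0 (fun A hA => by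
          obtain ⟨M, i, hi, hM⟩ := hE A hA
          exact zero_inj φ hT0 i (hEb 0 M hM).1)
        have s0 : ∀ A, Function.Surjective ((φ.app 0).app A) := surj_all 0 (fun A hA => by
          obtain ⟨M, i, hi, hM⟩ := hE A hA
          exact zero_surj φ hT'0 i (hEb 0 M hM).2 (i0 _))
        exact fun A => ⟨i0 A, s0 A⟩
      | succ q ih =>
        have i1 : ∀ A, Function.Injective ((φ.app (q + 1)).app A) :=
          inj_all (q + 1) (fun A hA => by
            obtain ⟨M, i, hi, hM⟩ := hE A hA
            exact inj_of_mono φ q i (hEb q M hM).2 (ih _).1 (hEb (q + 1) M hM).1)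
        have s1 : ∀ A, Function.Surjective ((φ.app (q + 1)).app A) :=
          surj_all (q + 1) (fun A hA => by
            obtain ⟨M, i, hi, hM⟩ := hE A hA
            exact surj_of_mono φ q i (ih _).2 (hEb (q + 1) M hM).2 (i1 _))
        exact fun A => ⟨i1 A, s1 A⟩
    intro q A
    rw [iso_iff]
    exact key q A

end Mor2

end Groth.Agent.Helper8.DeltaIso
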