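import Groth.Agent.Helper8.DeltaUniv
import Mathlib.CategoryTheory.Abelian.Refinements
import Mathlib.CategoryTheory.Limits.FunctorCategory.EpiMono

universe v u v' u'
open CategoryTheory CategoryTheory.Limits

namespace Groth.Agent.Helper8.DeltaTFAE

open Groth.Agent.Helper8.DeltaUniv

variable {A : Type u} [Category.{v} A] [Abelian A] {B : Type u'} [Category.{v'} B] [Abelian B]
variable {T T' : DeltaF.CohDeltaFunctor A B ℕ} (φ : T ⟶ T')

/-- mono step -/
lemma mono_step (i : ℕ) {S : ShortComplex A} (hS : S.ShortExact)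
    (hk : (T.F (i+1)).map S.f = 0) [Epi ((φ.app i).app S.X₂)] [Mono ((φ.app i).app S.X₃)] :
    Mono ((φ.app (i+1)).app S.X₁) := by
  apply Preadditive.mono_of_cancel_zero
  intro W x hx
  haveI := epi_δ hS i hk
  obtain ⟨W₁, π₁, hπ₁, z, hz⟩ := surjective_up_to_refinements_of_epi (T.δ S hS i (i+1) rfl) x
  have h1 : (z ≫ (φ.app i).app S.X₃) ≫ T'.δ S hS i (i+1) rfl = 0 := by
    rw [Category.assoc, ← φ.comm S hS i (i+1) rfl, ← Category.assoc, ← hz, Category.assoc, hx,
      comp_zero]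
  obtain ⟨W₂, π₂, hπ₂, y', hy'⟩ := (T'.exact₃ S hS i (i+1) rfl).exact_up_to_refinements _ h1
  dsimp at y' hy'
  obtain ⟨W₃, π₃, hπ₃, y, hy⟩ := surjective_up_to_refinements_of_epi ((φ.app i).app S.X₂) y'
  have h2 : (π₃ ≫ π₂ ≫ z) ≫ (φ.app i).app S.X₃ = (y ≫ (T.F i).map S.g) ≫ (φ.app i).app S.X₃ := by
    rw [Category.assoc, Category.assoc, hy', ← Category.assoc, hy, Category.assoc, Category.assoc,
      (φ.app i).naturality]
  have h3 : π₃ ≫ π₂ ≫ z = y ≫ (T.F i).map S.g := (cancel_mono _).1 h2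
  have h4 : (π₃ ≫ π₂ ≫ π₁) ≫ x = 0 := by
    rw [Category.assoc, Category.assoc, hz, reassoc_of% h3, T.comp_δ, comp_zero]
  exact (cancel_epi (π₃ ≫ π₂ ≫ π₁)).1 (h4.trans comp_zero.symm)

/-- epi step -/
lemma epi_step (i : ℕ) {S : ShortComplex A} (hS : S.ShortExact)
    (hk : (T'.F (i+1)).map S.f = 0) [Epi ((φ.app i).app S.X₃)] :
    Epi ((φ.app (i+1)).app S.X₁) := by
  rw [epi_iff_surjective_up_to_refinements]
  intro W x'
  haveI := epi_δ hS i hk
  obtain ⟨W₁, π₁, hπ₁, z', hz'⟩ := surjective_up_to_refinements_of_epi (T'.δ S hS i (i+1) rfl) x'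
  obtain ⟨W₂, π₂, hπ₂, z, hz⟩ := surjective_up_to_refinements_of_epi ((φ.app i).app S.X₃) z'
  refine ⟨W₂, π₂ ≫ π₁, inferInstance, z ≫ T.δ S hS i (i+1) rfl, ?_⟩
  rw [Category.assoc, hz', ← Category.assoc, hz, Category.assoc, Category.assoc,
    φ.comm S hS i (i+1) rfl]

variable (hT : T.IsEffaceable)

include hT in
/-- natural-transformation level mono step -/
lemma mono_succ (i : ℕ) (he : Epi (φ.app i)) (hm : Mono (φ.app i)) : Mono (φ.app (i+1)) := by
  haveI : ∀ X, Mono ((φ.app (i+1)).app X) := by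
    intro X
    haveI : Epi ((φ.app i).app (effS hT i X).X₂) := inferInstance
    haveI : Mono ((φ.app i).app (effS hT i X).X₃) := inferInstance
    exact mono_step φ i (effS_shortExact hT i X) (effU_kill hT i X)
  exact NatTrans.mono_of_mono_app _

lemma epi_succ (i : ℕ) (he : Epi (φ.app i))
    (hc : ∀ X : A, ∃ (Y : A) (u : X ⟶ Y), Mono u ∧ (T'.F (i+1)).map u = 0) :
    Epi (φ.app (i+1)) := by
  haveI : ∀ X, Epi ((φ.app (i+1)).app X) := by
    intro X
    obtain ⟨Y, u, hu, hk⟩ := hc X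
    haveI : Epi ((φ.app i).app (sesOf u).X₃) := inferInstance
    exact epi_step φ i (sesOf_shortExact u) hk
  exact NatTrans.epi_of_epi_app _

lemma isIso_of_mono_epi (i : ℕ) (hm : Mono (φ.app i)) (he : Epi (φ.app i)) : IsIso (φ.app i) := by
  haveI : ∀ X, IsIso ((φ.app i).app X) := fun X => isIso_of_mono_of_epi _
  exact NatIso.isIso_of_isIso_app _

include hT in
theorem main (n : ℕ) :
    ((∀ i : ℕ, i ≤ n → IsIso (φ.app i)) ∧ Mono (φ.app (n + 1)) ↔
      (Mono (φ.app 0) ∧ ∀ i : ℕ, i ≤ n → Epi (φ.app i))) ∧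
    ((∀ i : ℕ, i ≤ n → IsIso (φ.app i)) ∧ Mono (φ.app (n + 1)) ↔
      (IsIso (φ.app 0) ∧ ∀ i : ℕ, 0 < i → i ≤ n →
        ∀ X : A, ∃ (Y : A) (u : X ⟶ Y), Mono u ∧ (T'.F i).map u = 0)) := by
  refine ⟨⟨?_, ?_⟩, ⟨?_, ?_⟩⟩
  · rintro ⟨h1, _⟩
    refine ⟨?_, fun i hi => ?_⟩
    · haveI := h1 0 (Nat.zero_le n); infer_instance
    · haveI := h1 i hi; infer_instance
  · rintro ⟨h0, he⟩
    have hm : ∀ i, i ≤ n + 1 → Mono (φ.app i) := by
      intro i
      induction i with
      | zero => intro _; exact h0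
      | succ i ih =>
        intro hi
        exact mono_succ φ hT i (he i (by omega)) (ih (by omega))
    exact ⟨fun i hi => isIso_of_mono_epi φ i (hm i (by omega)) (he i hi), hm (n+1) le_rfl⟩
  · rintro ⟨h1, _⟩
    refine ⟨h1 0 (Nat.zero_le n), ?_⟩
    intro i hi0 hin X
    obtain ⟨j, rfl⟩ : ∃ j, i = j + 1 := ⟨i - 1, by omega⟩
    obtain ⟨Y, u, hu, hk⟩ := hT j X
    refine ⟨Y, u, hu, ?_⟩
    haveI := h1 (j+1) hin
    have nat := (φ.app (j+1)).naturality u
    rw [hk, zero_comp] at nat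
    exact (cancel_epi ((φ.app (j+1)).app X)).1 (nat.symm.trans comp_zero.symm)
  · rintro ⟨h0, hc⟩
    have hq : ∀ i, i ≤ n → IsIso (φ.app i) := by
      intro i
      induction i with
      | zero => intro _; exact h0
      | succ i ih =>
        intro hi
        haveI := ih (by omega)
        exact isIso_of_mono_epi φ (i+1) (mono_succ φ hT i inferInstance inferInstance)
          (epi_succ φ i inferInstance (hc (i+1) (by omega) hi))
    haveI := hq n le_rfl
    exact ⟨hq, mono_succ φ hT n inferInstance inferInstance⟩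

end Groth.Agent.Helper8.DeltaTFAE
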