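import Groth.Prelude.Def_DeltaF
import Mathlib.CategoryTheory.Abelian.Exact

universe v u v' u'
open CategoryTheory CategoryTheory.Limits

namespace Groth.Agent.Helper8.DeltaUniv

variable {A : Type u} [Category.{v} A] [Abelian A] {B : Type u'} [Category.{v'} B] [Abelian B]
variable (T T' : DeltaF.CohDeltaFunctor A B ℕ)

/-- the short exact sequence attached to a mono -/
noncomputable abbrev sesOf {X Y : A} (u : X ⟶ Y) : ShortComplex A :=
  ShortComplex.mk u (cokernel.π u) (cokernel.condition u)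

lemma sesOf_shortExact {X Y : A} (u : X ⟶ Y) [Mono u] : (sesOf u).ShortExact :=
  ShortComplex.ShortExact.mk' (ShortComplex.exact_cokernel u) ‹_› (by dsimp [sesOf]; infer_instance)

/-- morphism of short complexes out of a short exact one from a commutative left square -/
noncomputable def homOfSq {S S' : ShortComplex A} (hS : S.ShortExact) (τ₁ : S.X₁ ⟶ S'.X₁)
    (τ₂ : S.X₂ ⟶ S'.X₂) (h : S.f ≫ τ₂ = τ₁ ≫ S'.f) : S ⟶ S' :=
  haveI := hS.epi_g
  { τ₁ := τ₁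
    τ₂ := τ₂
    τ₃ := hS.exact.desc (τ₂ ≫ S'.g) (by rw [reassoc_of% h, S'.zero, comp_zero])
    comm₁₂ := h.symm
    comm₂₃ := (hS.exact.g_desc _ _).symm }

variable {T}

lemma epi_δ {S : ShortComplex A} (hS : S.ShortExact) (n : ℕ)
    (hk : (T.F (n+1)).map S.f = 0) : Epi (T.δ S hS n (n+1) rfl) :=
  (T.exact₁ S hS n (n+1) rfl).epi_f hk

variable {T'}

/-- the map induced on `F (n+1) X₁` by a killed short exact sequence -/
noncomputable def ind {S : ShortComplex A} (hS : S.ShortExact) (n : ℕ)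
    (hk : (T.F (n+1)).map S.f = 0) (τ : T.F n ⟶ T'.F n) :
    (T.F (n+1)).obj S.X₁ ⟶ (T'.F (n+1)).obj S.X₁ :=
  haveI := epi_δ hS n hk
  (T.exact₃ S hS n (n+1) rfl).desc (τ.app S.X₃ ≫ T'.δ S hS n (n+1) rfl)
    (by
      dsimp
      rw [← Category.assoc, τ.naturality, Category.assoc, T'.comp_δ, comp_zero])

lemma δ_ind {S : ShortComplex A} (hS : S.ShortExact) (n : ℕ)
    (hk : (T.F (n+1)).map S.f = 0) (τ : T.F n ⟶ T'.F n) :
    T.δ S hS n (n+1) rfl ≫ ind hS n hk τ = τ.app S.X₃ ≫ T'.δ S hS n (n+1) rfl :=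
  haveI := epi_δ hS n hk
  (T.exact₃ S hS n (n+1) rfl).g_desc _ _

/-- Lemma A -/
lemma natA {S S' : ShortComplex A} (hS : S.ShortExact) (hS' : S'.ShortExact) (φ : S ⟶ S') (n : ℕ)
    (hk : (T.F (n+1)).map S.f = 0) (τ : T.F n ⟶ T'.F n)
    (a : (T.F (n+1)).obj S.X₁ ⟶ (T'.F (n+1)).obj S.X₁)
    (a' : (T.F (n+1)).obj S'.X₁ ⟶ (T'.F (n+1)).obj S'.X₁)
    (ha : T.δ S hS n (n+1) rfl ≫ a = τ.app S.X₃ ≫ T'.δ S hS n (n+1) rfl)
    (ha' : T.δ S' hS' n (n+1) rfl ≫ a' = τ.app S'.X₃ ≫ T'.δ S' hS' n (n+1) rfl) :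
    (T.F (n+1)).map φ.τ₁ ≫ a' = a ≫ (T'.F (n+1)).map φ.τ₁ := by
  haveI := epi_δ hS n hk
  rw [← cancel_epi (T.δ S hS n (n+1) rfl), ← Category.assoc, ← T.δ_natural hS hS' φ, Category.assoc,
    ha', ← Category.assoc, τ.naturality, Category.assoc, T'.δ_natural hS hS' φ, ← Category.assoc,
    ← ha, Category.assoc]

lemma map_lift_eq_zero (G : A ⥤ B) [G.Additive] {X Y Z : A} (a : X ⟶ Y) (b : X ⟶ Z)
    (ha : G.map a = 0) (hb : G.map b = 0) : G.map (biprod.lift a b) = 0 := by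
  have : biprod.lift a b = a ≫ biprod.inl + b ≫ biprod.inr := by
    apply biprod.hom_ext <;> simp
  rw [this, Functor.map_add, Functor.map_comp, Functor.map_comp, ha, hb, zero_comp, zero_comp,
    add_zero]

lemma natB_aux {S₁ S₂ S₃ : ShortComplex A} (hS₁ : S₁.ShortExact) (hS₂ : S₂.ShortExact)
    (hS₃ : S₃.ShortExact) (n : ℕ)
    (hk₁ : (T.F (n+1)).map S₁.f = 0) (hk₂ : (T.F (n+1)).map S₂.f = 0)
    (hk₃ : (T.F (n+1)).map S₃.f = 0) (τ : T.F n ⟶ T'.F n)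
    (φ₁ : S₃ ⟶ S₁) (φ₂ : S₃ ⟶ S₂) [IsIso φ₁.τ₁] (f : S₁.X₁ ⟶ S₂.X₁) (hf : φ₂.τ₁ = φ₁.τ₁ ≫ f) :
    (T.F (n+1)).map f ≫ ind hS₂ n hk₂ τ = ind hS₁ n hk₁ τ ≫ (T'.F (n+1)).map f := by
  have e₁ := natA hS₃ hS₁ φ₁ n hk₃ τ _ _ (δ_ind hS₃ n hk₃ τ) (δ_ind hS₁ n hk₁ τ)
  have e₂ := natA hS₃ hS₂ φ₂ n hk₃ τ _ _ (δ_ind hS₃ n hk₃ τ) (δ_ind hS₂ n hk₂ τ)
  rw [hf, Functor.map_comp, Functor.map_comp, Category.assoc, ← Category.assoc (ind hS₃ n hk₃ τ),
    ← e₁, Category.assoc] at e₂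
  exact (cancel_epi ((T.F (n+1)).map φ₁.τ₁)).1 e₂

/-- Lemma B -/
lemma natB {S₁ S₂ : ShortComplex A} (hS₁ : S₁.ShortExact) (hS₂ : S₂.ShortExact) (n : ℕ)
    (hk₁ : (T.F (n+1)).map S₁.f = 0) (hk₂ : (T.F (n+1)).map S₂.f = 0) (τ : T.F n ⟶ T'.F n)
    (f : S₁.X₁ ⟶ S₂.X₁) :
    (T.F (n+1)).map f ≫ ind hS₂ n hk₂ τ = ind hS₁ n hk₁ τ ≫ (T'.F (n+1)).map f := by
  haveI := hS₁.mono_f
  haveI : Mono (biprod.lift S₁.f (f ≫ S₂.f)) := mono_of_mono_fac (biprod.lift_fst _ _)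
  have hS₃ : (sesOf (biprod.lift S₁.f (f ≫ S₂.f))).ShortExact := sesOf_shortExact _
  have hk₃ : (T.F (n+1)).map (sesOf (biprod.lift S₁.f (f ≫ S₂.f))).f = 0 :=
    map_lift_eq_zero _ _ _ hk₁ (by rw [Functor.map_comp, hk₂, comp_zero])
  have c₁ : (sesOf (biprod.lift S₁.f (f ≫ S₂.f))).f ≫ biprod.fst = 𝟙 _ ≫ S₁.f := by
    rw [Category.id_comp]; exact biprod.lift_fst _ _
  have c₂ : (sesOf (biprod.lift S₁.f (f ≫ S₂.f))).f ≫ biprod.snd = f ≫ S₂.f :=
    biprod.lift_snd _ _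
  haveI : IsIso (homOfSq (S' := S₁) hS₃ (𝟙 _) biprod.fst c₁).τ₁ :=
    inferInstanceAs (IsIso (𝟙 S₁.X₁))
  exact natB_aux hS₁ hS₂ hS₃ n hk₁ hk₂ hk₃ τ (homOfSq (S' := S₁) hS₃ (𝟙 _) biprod.fst c₁)
    (homOfSq (S' := S₂) hS₃ f biprod.snd c₂) f (Category.id_comp f).symm

section Chosen
variable (hT : T.IsEffaceable)

/-- chosen effacing object -/
noncomputable def effY (n : ℕ) (X : A) : A := (hT n X).choose

noncomputable def effU (n : ℕ) (X : A) : X ⟶ effY hT n X := (hT n X).choose_spec.choose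

instance effU_mono (n : ℕ) (X : A) : Mono (effU hT n X) := (hT n X).choose_spec.choose_spec.1

lemma effU_kill (n : ℕ) (X : A) : (T.F (n+1)).map (effU hT n X) = 0 :=
  (hT n X).choose_spec.choose_spec.2

/-- the chosen effacing short exact sequence -/
noncomputable abbrev effS (n : ℕ) (X : A) : ShortComplex A := sesOf (effU hT n X)

lemma effS_shortExact (n : ℕ) (X : A) : (effS hT n X).ShortExact := sesOf_shortExact _

/-- inductive step: the natural transformation in degree `n+1` -/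
noncomputable def step (n : ℕ) (τ : T.F n ⟶ T'.F n) : T.F (n+1) ⟶ T'.F (n+1) where
  app X := ind (effS_shortExact hT n X) n (effU_kill hT n X) τ
  naturality X X' f :=
    natB (effS_shortExact hT n X) (effS_shortExact hT n X') n (effU_kill hT n X)
      (effU_kill hT n X') τ f

/-- the step is compatible with every short exact sequence -/
lemma step_comm (n : ℕ) (τ : T.F n ⟶ T'.F n) (S : ShortComplex A) (hS : S.ShortExact) :
    T.δ S hS n (n+1) rfl ≫ (step hT n τ).app S.X₁ = τ.app S.X₃ ≫ T'.δ S hS n (n+1) rfl := by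
  haveI := hS.mono_f
  -- efface the middle term
  haveI : Mono (S.f ≫ effU hT n S.X₂) := mono_comp _ _
  have hS₃ : (sesOf (S.f ≫ effU hT n S.X₂)).ShortExact := sesOf_shortExact _
  have hk₃ : (T.F (n+1)).map (sesOf (S.f ≫ effU hT n S.X₂)).f = 0 := by
    change (T.F (n+1)).map (S.f ≫ effU hT n S.X₂) = 0
    rw [Functor.map_comp, effU_kill, comp_zero]
  have c : S.f ≫ effU hT n S.X₂ = 𝟙 _ ≫ (sesOf (S.f ≫ effU hT n S.X₂)).f :=
    (Category.id_comp _).symm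
  let φ : S ⟶ sesOf (S.f ≫ effU hT n S.X₂) := homOfSq hS (𝟙 _) (effU hT n S.X₂) c
  -- independence of the effacement
  have e : ind hS₃ n hk₃ τ = (step hT n τ).app S.X₁ := by
    have := natB hS₃ (effS_shortExact hT n S.X₁) n hk₃ (effU_kill hT n S.X₁) τ (𝟙 S.X₁)
    rw [CategoryTheory.Functor.map_id, CategoryTheory.Functor.map_id] at this
    exact ((Category.comp_id _).symm.trans this.symm).trans (Category.id_comp _)
  have n1 := T.δ_natural hS hS₃ φ n (n+1) rfl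
  have n2 := T'.δ_natural hS hS₃ φ n (n+1) rfl
  have h1 : φ.τ₁ = 𝟙 _ := rfl
  rw [h1, CategoryTheory.Functor.map_id] at n1 n2
  have n1' : T.δ S hS n (n+1) rfl = (T.F n).map φ.τ₃ ≫ T.δ _ hS₃ n (n+1) rfl :=
    ((Category.comp_id _).symm.trans n1.symm)
  have n2' : T'.δ S hS n (n+1) rfl = (T'.F n).map φ.τ₃ ≫ T'.δ _ hS₃ n (n+1) rfl :=
    ((Category.comp_id _).symm.trans n2.symm)
  rw [← e, n1', Category.assoc, δ_ind hS₃ n hk₃ τ, ← Category.assoc, τ.naturality, Category.assoc,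
    ← n2']

/-- the extension in all degrees -/
noncomputable def ext (t : T.F 0 ⟶ T'.F 0) : (n : ℕ) → (T.F n ⟶ T'.F n)
  | 0 => t
  | n+1 => step hT n (ext t n)

/-- the morphism of delta-functors extending `t` -/
noncomputable def extHom (t : T.F 0 ⟶ T'.F 0) : T ⟶ T' :=
  DeltaF.CohDeltaFunctor.Hom.mk (ext hT t) (by
    intro S hS n₀ n₁ h
    subst h
    exact step_comm hT n₀ (ext hT t n₀) S hS)

lemma extHom_app_zero (t : T.F 0 ⟶ T'.F 0) : (extHom hT t).app 0 = t := rfl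

lemma ext_unique (t : T.F 0 ⟶ T'.F 0) (σ : T ⟶ T') (hσ : σ.app 0 = t) (n : ℕ) :
    σ.app n = ext hT t n := by
  induction n with
  | zero => exact hσ
  | succ n ih =>
    ext X
    haveI := epi_δ (effS_shortExact hT n X) n (effU_kill hT n X)
    rw [← cancel_epi (T.δ (effS hT n X) (effS_shortExact hT n X) n (n+1) rfl)]
    have h1 := σ.comm (effS hT n X) (effS_shortExact hT n X) n (n+1) rfl
    have h2 := step_comm hT n (ext hT t n) (effS hT n X) (effS_shortExact hT n X)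
    rw [ih] at h1
    exact h1.trans h2.symm

end Chosen

theorem isUniversal_of_isEffaceable (T : DeltaF.CohDeltaFunctor A B ℕ) (hT : T.IsEffaceable) :
    T.IsUniversal := by
  intro T' t
  refine ⟨extHom hT t, extHom_app_zero hT t, ?_⟩
  intro σ hσ
  apply DeltaF.CohDeltaFunctor.hom_ext
  intro n
  exact ext_unique hT t σ hσ n

end Groth.Agent.Helper8.DeltaUniv
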