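import Groth.Prelude.Def_DescFam
import Mathlib.AlgebraicGeometry.Sites.Fpqc

set_option autoImplicit false
set_option backward.isDefEq.respectTransparency false
set_option backward.isDefEq.respectTransparency.types false

universe w' w u
open CategoryTheory CategoryTheory.Limits AlgebraicGeometry Opposite

namespace Groth.Agent.Helper8.DescA
open Desc

/-- representable presheaves are sheaves for fpqc-covering sieves -/
lemma yoneda_isSheafFor (W : Scheme.{u}) {T : Scheme.{u}} (R : Sieve T)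
    (hR : R ∈ Scheme.fpqcTopology T) : Presieve.IsSheafFor (yoneda.obj W) R.arrows :=
  (GrothendieckTopology.Subcanonical.isSheaf_of_isRepresentable
    (J := Scheme.fpqcTopology) (yoneda.obj W)) R hR

lemma hom_ext_of_sieve {W T : Scheme.{u}} (R : Sieve T) (hR : R ∈ Scheme.fpqcTopology T)
    {a b : T ⟶ W} (h : ∀ ⦃T' : Scheme.{u}⦄ (r : T' ⟶ T), R r → r ≫ a = r ≫ b) : a = b :=
  (yoneda_isSheafFor W R hR).isSeparatedFor.ext (fun _ r hr => h r hr)

section basics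

variable {Y : Scheme.{u}}

/-- restriction of a lift along `r` -/
def res (W : Over Y) {T T' : Scheme.{u}} (r : T' ⟶ T) {y : T ⟶ Y} (n : Lifts W y)
    (y' : T' ⟶ Y) (hy : r ≫ y = y') : Lifts W y' :=
  ⟨r ≫ n.1, by rw [Category.assoc, n.2, hy]⟩

@[simp] lemma res_val (W : Over Y) {T T' : Scheme.{u}} (r : T' ⟶ T) {y : T ⟶ Y} (n : Lifts W y)
    (y' : T' ⟶ Y) (hy : r ≫ y = y') : (res W r n y' hy).1 = r ≫ n.1 := rfl

end basics

variable {S : Scheme.{u}} {ι : Type w} {V : ι → Scheme.{u}} {fV : ∀ j, V j ⟶ S}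

lemma φ_res (D : SchDDFam fV) {T T' : Scheme.{u}} (r : T' ⟶ T) {j j' : ι}
    (y₀ : T ⟶ V j) (y₁ : T ⟶ V j') (h : y₀ ≫ fV j = y₁ ≫ fV j')
    (z₀ : T' ⟶ V j) (z₁ : T' ⟶ V j') (hz₀ : r ≫ y₀ = z₀) (hz₁ : r ≫ y₁ = z₁)
    (h' : z₀ ≫ fV j = z₁ ≫ fV j') (n : Lifts (D.obj j) y₀) :
    D.φ z₀ z₁ h' (res (D.obj j) r n z₀ hz₀) = res (D.obj j') r (D.φ y₀ y₁ h n) z₁ hz₁ :=
  Subtype.ext (D.φ_natural r y₀ y₁ h z₀ z₁ hz₀ hz₁ h' n _ rfl)

/-- a morphism of descent data with invertible components is invertible -/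
lemma isIso_of_components {D D' : SchDDFam fV} (c : D ⟶ D') (hc : ∀ j, IsIso (c.hom j)) :
    IsIso c := by
  have e1 : ∀ j, (inv (c.hom j)).left ≫ (c.hom j).left = 𝟙 _ := fun j => by
    rw [← Over.comp_left, IsIso.inv_hom_id, Over.id_left]
  have e2 : ∀ j, (c.hom j).left ≫ (inv (c.hom j)).left = 𝟙 _ := fun j => by
    rw [← Over.comp_left, IsIso.hom_inv_id, Over.id_left]
  refine ⟨⟨⟨fun j => inv (c.hom j), ?_⟩, ?_, ?_⟩⟩
  · intro T j j' y₀ y₁ h v w hw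
    have hv : v.1 = w.1 ≫ (c.hom j).left := by
      rw [hw, Category.assoc, e1, Category.comp_id]
    have key := c.comm y₀ y₁ h w v hv
    rw [key, Category.assoc, e2, Category.comp_id]
  · apply SchDDFam.hom_ext; funext j
    exact IsIso.hom_inv_id (c.hom j)
  · apply SchDDFam.hom_ext; funext j
    exact IsIso.inv_hom_id (c.hom j)

section pull

variable {ι' : Type w'} {U : ι' → Scheme.{u}} {fU : ∀ i, U i ⟶ S} {α : ι' → ι}
  {g : ∀ i, U i ⟶ V (α i)} (w : ∀ i, g i ≫ fV (α i) = fU i ≫ 𝟙 S)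

include w in
lemma hag {T : Scheme.{u}} {j : ι} {y : T ⟶ V j} {i : ι'} {a : T ⟶ U i}
    (ha : a ≫ fU i = y ≫ fV j) : (a ≫ g i) ≫ fV (α i) = y ≫ fV j := by
  rw [Category.assoc, w, Category.comp_id, ha]

variable {D E : SchDDFam fV}

/-- the underlying morphism of schemes of a component of a morphism of pulled-back data -/
noncomputable def dl (d : (pullDDFam w).obj D ⟶ (pullDDFam w).obj E) (i : ι') :
    pullback (D.obj (α i)).hom (g i) ⟶ pullback (E.obj (α i)).hom (g i) := (d.hom i).left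

lemma dl_snd (d : (pullDDFam w).obj D ⟶ (pullDDFam w).obj E) (i : ι') :
    dl w d i ≫ pullback.snd (E.obj (α i)).hom (g i) = pullback.snd (D.obj (α i)).hom (g i) :=
  Over.w (d.hom i)

/-- the action on points of a morphism between pulled-back descent data -/
noncomputable def act (d : (pullDDFam w).obj D ⟶ (pullDDFam w).obj E) {T : Scheme.{u}} {i : ι'}
    (x : T ⟶ U i) (m : Lifts (D.obj (α i)) (x ≫ g i)) : Lifts (E.obj (α i)) (x ≫ g i) :=
  liftsPullbackEquiv (E.obj (α i)) (g i) x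
    (SchDDFam.Hom.push d ((liftsPullbackEquiv (D.obj (α i)) (g i) x).symm m))

lemma act_val (d : (pullDDFam w).obj D ⟶ (pullDDFam w).obj E) {T : Scheme.{u}} {i : ι'}
    (x : T ⟶ U i) (m : Lifts (D.obj (α i)) (x ≫ g i)) :
    (act w d x m).1 = pullback.lift m.1 x m.2 ≫ dl w d i ≫
      pullback.fst (E.obj (α i)).hom (g i) := by
  simp [act, dl, liftsPullbackEquiv, SchDDFam.Hom.push]

lemma act_res (d : (pullDDFam w).obj D ⟶ (pullDDFam w).obj E) {T T' : Scheme.{u}} (r : T' ⟶ T)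
    {i : ι'} (x : T ⟶ U i) (x' : T' ⟶ U i) (hx : r ≫ x = x')
    (m : Lifts (D.obj (α i)) (x ≫ g i))
    (h1 : r ≫ x ≫ g i = x' ≫ g i) :
    act w d x' (res _ r m (x' ≫ g i) h1) = res _ r (act w d x m) (x' ≫ g i) h1 := by
  subst hx
  apply Subtype.ext
  have e : pullback.lift (r ≫ m.1) (r ≫ x) (by rw [Category.assoc, m.2, Category.assoc]) =
      r ≫ pullback.lift m.1 x m.2 := by apply pullback.hom_ext <;> simp
  calc (act w d (r ≫ x) (res _ r m _ h1)).1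
      = pullback.lift (r ≫ m.1) (r ≫ x) (by rw [Category.assoc, m.2, Category.assoc]) ≫
          dl w d i ≫ pullback.fst (E.obj (α i)).hom (g i) := act_val w d _ _
    _ = (r ≫ pullback.lift m.1 x m.2) ≫ dl w d i ≫ pullback.fst (E.obj (α i)).hom (g i) := by
        rw [e]
    _ = r ≫ (act w d x m).1 := by rw [act_val, Category.assoc]

lemma act_φ (d : (pullDDFam w).obj D ⟶ (pullDDFam w).obj E) {T : Scheme.{u}} {i i' : ι'}
    (x : T ⟶ U i) (x' : T ⟶ U i') (h : x ≫ fU i = x' ≫ fU i')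
    (m : Lifts (D.obj (α i)) (x ≫ g i)) :
    E.φ (x ≫ g i) (x' ≫ g i') (pull_compat w x x' h) (act w d x m) =
      act w d x' (D.φ (x ≫ g i) (x' ≫ g i') (pull_compat w x x' h) m) := by
  have key := d.comm x x' h ((liftsPullbackEquiv (D.obj (α i)) (g i) x).symm m)
    (SchDDFam.Hom.push d _) rfl
  have e1 : ((pullDDFam w).obj E).φ x x' h
      (SchDDFam.Hom.push d ((liftsPullbackEquiv (D.obj (α i)) (g i) x).symm m)) =
      SchDDFam.Hom.push d (((pullDDFam w).obj D).φ x x' h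
        ((liftsPullbackEquiv (D.obj (α i)) (g i) x).symm m)) := Subtype.ext key
  change (liftsPullbackEquiv (E.obj (α i')) (g i') x').symm
      (E.φ (x ≫ g i) (x' ≫ g i') _ (liftsPullbackEquiv (E.obj (α i)) (g i) x
        (SchDDFam.Hom.push d ((liftsPullbackEquiv (D.obj (α i)) (g i) x).symm m)))) =
    SchDDFam.Hom.push d ((liftsPullbackEquiv (D.obj (α i')) (g i') x').symm
      (D.φ (x ≫ g i) (x' ≫ g i') _ (liftsPullbackEquiv (D.obj (α i)) (g i) x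
        ((liftsPullbackEquiv (D.obj (α i)) (g i) x).symm m)))) at e1
  rw [Equiv.apply_symm_apply, Equiv.symm_apply_eq] at e1
  exact e1

/-- the candidate map on points over `y`, computed via a lift `a` of `y` to the family `U` -/
noncomputable def Θ (d : (pullDDFam w).obj D ⟶ (pullDDFam w).obj E) {T : Scheme.{u}} {j : ι}
    (y : T ⟶ V j) (i : ι') (a : T ⟶ U i) (ha : a ≫ fU i = y ≫ fV j)
    (n : Lifts (D.obj j) y) : Lifts (E.obj j) y :=
  E.φ (a ≫ g i) y (hag w ha) (act w d a (D.φ y (a ≫ g i) (hag w ha).symm n))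

lemma Θ_indep (d : (pullDDFam w).obj D ⟶ (pullDDFam w).obj E) {T : Scheme.{u}} {j : ι}
    (y : T ⟶ V j) (i : ι') (a : T ⟶ U i) (ha : a ≫ fU i = y ≫ fV j)
    (i' : ι') (a' : T ⟶ U i') (ha' : a' ≫ fU i' = y ≫ fV j)
    (n : Lifts (D.obj j) y) : Θ w d y i a ha n = Θ w d y i' a' ha' n := by
  have h : a ≫ fU i = a' ≫ fU i' := ha.trans ha'.symm
  unfold Θ
  rw [← D.φ_comp y (a ≫ g i) (a' ≫ g i') (hag w ha).symm (pull_compat w a a' h) n,
    ← act_φ w d a a' h, E.φ_comp]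

lemma Θ_indep' (d : (pullDDFam w).obj D ⟶ (pullDDFam w).obj E) {T : Scheme.{u}} {j : ι}
    {y₁ y₂ : T ⟶ V j} (hy : y₁ = y₂) (i : ι') (a : T ⟶ U i) (ha : a ≫ fU i = y₁ ≫ fV j)
    (i' : ι') (a' : T ⟶ U i') (ha' : a' ≫ fU i' = y₂ ≫ fV j)
    (n₁ : Lifts (D.obj j) y₁) (n₂ : Lifts (D.obj j) y₂) (hn : n₁.1 = n₂.1) :
    (Θ w d y₁ i a ha n₁).1 = (Θ w d y₂ i' a' ha' n₂).1 := by
  subst hy
  obtain rfl : n₁ = n₂ := Subtype.ext hn
  rw [Θ_indep w d y₁ i a ha i' a' ha']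

lemma Θ_res (d : (pullDDFam w).obj D ⟶ (pullDDFam w).obj E) {T T' : Scheme.{u}} (r : T' ⟶ T)
    {j : ι} (y : T ⟶ V j) (i : ι') (a : T ⟶ U i) (ha : a ≫ fU i = y ≫ fV j)
    (n : Lifts (D.obj j) y) (y' : T' ⟶ V j) (hy : r ≫ y = y')
    (a' : T' ⟶ U i) (har : r ≫ a = a') (ha' : a' ≫ fU i = y' ≫ fV j) :
    Θ w d y' i a' ha' (res _ r n y' hy) = res _ r (Θ w d y i a ha n) y' hy := by
  subst hy har
  unfold Θ
  have h1 : r ≫ a ≫ g i = (r ≫ a) ≫ g i := (Category.assoc _ _ _).symm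
  rw [φ_res D r y (a ≫ g i) (hag w ha).symm (r ≫ y) ((r ≫ a) ≫ g i) rfl h1,
    act_res w d r a (r ≫ a) rfl _ h1,
    φ_res E r (a ≫ g i) y (hag w ha) ((r ≫ a) ≫ g i) (r ≫ y) h1 rfl]

lemma Θ_φ (d : (pullDDFam w).obj D ⟶ (pullDDFam w).obj E) {T : Scheme.{u}} {j j' : ι}
    (y₀ : T ⟶ V j) (y₁ : T ⟶ V j') (h : y₀ ≫ fV j = y₁ ≫ fV j')
    (i : ι') (a : T ⟶ U i) (ha : a ≫ fU i = y₀ ≫ fV j) (ha₁ : a ≫ fU i = y₁ ≫ fV j')
    (n : Lifts (D.obj j) y₀) :
    E.φ y₀ y₁ h (Θ w d y₀ i a ha n) = Θ w d y₁ i a ha₁ (D.φ y₀ y₁ h n) := by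
  unfold Θ
  rw [E.φ_comp, D.φ_comp]

lemma Θ_self (d : (pullDDFam w).obj D ⟶ (pullDDFam w).obj E) {T : Scheme.{u}} {i : ι'}
    (x : T ⟶ U i) (m : Lifts (D.obj (α i)) (x ≫ g i)) :
    Θ w d (x ≫ g i) i x (by rw [Category.assoc, w, Category.comp_id]) m = act w d x m := by
  unfold Θ
  rw [D.φ_self, E.φ_self]

end pull

end Groth.Agent.Helper8.DescA
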