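import Mathlib
import Groth.Prelude.Def_Desc
import Groth.Agent.Helper8.DGlue2C

/-!
# Covers satisfying `IsDescCover`: fppf morphisms
-/

set_option autoImplicit false
universe u

namespace Groth.Agent.Helper8.DGlue2

open CategoryTheory CategoryTheory.Limits AlgebraicGeometry
open Groth.Agent.Helper8.DDGrpd Groth.Agent.Helper8.DGlue

variable {X S : Scheme.{u}} (p : X ⟶ S)

theorem toDD_faithful_of_epi (h : ∀ U : Over S, Epi (pullback.snd p U.hom)) :
    (Desc.toDD p).Faithful := by
  constructor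
  intro U U' g₁ g₂ hg
  have h2 : pullback.snd p U.hom ≫ g₁.left = pullback.snd p U.hom ≫ g₂.left := by
    rw [← Groth.Agent.Lead.toDD_map_snd, ← Groth.Agent.Lead.toDD_map_snd, hg]
  haveI := h U
  ext
  exact (cancel_epi _).mp h2

theorem toDD_full_of_effectiveEpi (h : ∀ U : Over S, EffectiveEpi (pullback.snd p U.hom)) :
    (Desc.toDD p).Full := by
  constructor
  intro U U' ψ
  let q : pullback p U.hom ⟶ U.left := pullback.snd p U.hom
  have hqe : EffectiveEpi q := h U
  let ψl : pullback p U.hom ⟶ pullback p U'.hom := ψ.hom.left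
  have hψ1 : ψl ≫ pullback.fst p U'.hom = pullback.fst p U.hom := Over.w ψ.hom
  let f : pullback p U.hom ⟶ U'.left := ψl ≫ pullback.snd p U'.hom
  have hf : ∀ {Z : Scheme.{u}} (a₀ a₁ : Z ⟶ pullback p U.hom), a₀ ≫ q = a₁ ≫ q →
      a₀ ≫ f = a₁ ≫ f := by
    intro Z a₀ a₁ ha
    have hx : (a₀ ≫ pullback.fst p U.hom) ≫ p = (a₁ ≫ pullback.fst p U.hom) ≫ p := by
      rw [Category.assoc, Category.assoc, pullback.condition, ← Category.assoc, ← Category.assoc]
      exact congrArg (· ≫ U.hom) ha
    let v : Desc.Lifts ((Desc.toDD p).obj U).obj (a₀ ≫ pullback.fst p U.hom) := ⟨a₀, rfl⟩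
    let w : Desc.Lifts ((Desc.toDD p).obj U').obj (a₀ ≫ pullback.fst p U.hom) :=
      ⟨a₀ ≫ ψl, by
        show (a₀ ≫ ψl) ≫ pullback.fst p U'.hom = _
        rw [Category.assoc, hψ1]⟩
    have hc : (((Desc.toDD p).obj U').φ (a₀ ≫ pullback.fst p U.hom)
        (a₁ ≫ pullback.fst p U.hom) hx w).1 = (((Desc.toDD p).obj U).φ (a₀ ≫ pullback.fst p U.hom)
        (a₁ ≫ pullback.fst p U.hom) hx v).1 ≫ ψl :=
      ψ.comm (a₀ ≫ pullback.fst p U.hom) (a₁ ≫ pullback.fst p U.hom) hx v w rfl
    have hv : (((Desc.toDD p).obj U).φ (a₀ ≫ pullback.fst p U.hom)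
        (a₁ ≫ pullback.fst p U.hom) hx v).1 = a₁ := by
      show pullback.lift _ _ _ = a₁
      apply pullback.hom_ext
      · rw [pullback.lift_fst]
      · rw [pullback.lift_snd]; exact ha
    rw [hv] at hc
    have hw : (((Desc.toDD p).obj U').φ (a₀ ≫ pullback.fst p U.hom)
        (a₁ ≫ pullback.fst p U.hom) hx w).1 ≫ pullback.snd p U'.hom =
        (a₀ ≫ ψl) ≫ pullback.snd p U'.hom := by
      show pullback.lift _ _ _ ≫ _ = _
      rw [pullback.lift_snd]
      rfl
    rw [hc] at hw
    simp only [f, ← Category.assoc]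
    exact hw.symm
  let g : U.left ⟶ U'.left := EffectiveEpi.desc q f (fun a₀ a₁ ha => hf a₀ a₁ ha)
  have hg : q ≫ g = f := EffectiveEpi.fac q f _
  have hepi : Epi q := inferInstance
  have hgS : g ≫ U'.hom = U.hom := by
    rw [← cancel_epi q, ← Category.assoc, hg]
    simp only [f, q, Category.assoc]
    rw [← pullback.condition, ← Category.assoc, hψ1, pullback.condition]
  refine ⟨Over.homMk g hgS, ?_⟩
  apply Desc.SchDD.hom_ext
  ext
  show ((Desc.toDD p).map (Over.homMk g hgS : U ⟶ U')).hom.left = ψl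
  apply pullback.hom_ext
  · exact (Groth.Agent.Lead.toDD_map_fst p _).trans hψ1.symm
  · exact (Groth.Agent.Lead.toDD_map_snd p _).trans hg

instance (priority := 90) isDescCover_of_fppf [Surjective p] [Flat p]
    [LocallyOfFinitePresentation p] : IsDescCover p where
  surj := inferInstance
  quot U :=
    (pullback.snd p U.hom).isOpenMap.isQuotientMap (pullback.snd p U.hom).continuous
      (pullback.snd p U.hom).surjective
  full := toDD_full_of_effectiveEpi p (fun _ => inferInstance)
  faithful := toDD_faithful_of_epi p (fun _ => inferInstance)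
  descOI {U U'} g hg := by
    have hQ : (@Surjective ⊓ @Flat ⊓ @LocallyOfFinitePresentation : MorphismProperty Scheme.{u})
        (pullback.snd p U'.hom) := ⟨⟨inferInstance, inferInstance⟩, inferInstance⟩
    exact MorphismProperty.DescendsAlong.of_isPullback (P := @IsOpenImmersion)
      (isPullback_toDD_map p g) hQ hg

end Groth.Agent.Helper8.DGlue2
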