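import Groth.Agent.Helper8.DescB
import Mathlib.AlgebraicGeometry.Morphisms.Flat

set_option autoImplicit false
set_option backward.isDefEq.respectTransparency false
set_option backward.isDefEq.respectTransparency.types false

universe w' w u
open CategoryTheory CategoryTheory.Limits AlgebraicGeometry Opposite

namespace Groth.Agent.Helper8.DescE
open Desc Groth.Agent.Helper8.DescA Groth.Agent.Helper8.DescB

variable {S : Scheme.{u}} {ι : Type w} {V : ι → Scheme.{u}} {fV : ∀ j, V j ⟶ S}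
  {ι' : Type w'} {U : ι' → Scheme.{u}} {fU : ∀ i, U i ⟶ S}

/-- every point of every `V j` lifts to the family `U` after precomposing with an epimorphism -/
def HasEpiLifts (fU : ∀ i, U i ⟶ S) (fV : ∀ j, V j ⟶ S) : Prop :=
  ∀ (j : ι) (T : Scheme.{u}) (y : T ⟶ V j), ∃ (T' : Scheme.{u}) (r : T' ⟶ T), Epi r ∧
      ∃ (i : ι') (a : T' ⟶ U i), a ≫ fU i = (r ≫ y) ≫ fV j

variable {α : ι' → ι} {g : ∀ i, U i ⟶ V (α i)} (w : ∀ i, g i ≫ fV (α i) = fU i ≫ 𝟙 S)

theorem faithful (H : HasEpiLifts fU fV) : (pullDDFam w).Faithful := by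
  refine ⟨fun {D E} c c' hcc => ?_⟩
  apply SchDDFam.hom_ext; funext j
  apply Over.OverMorphism.ext
  obtain ⟨T', r, hr, i, a, ha⟩ := H j (D.obj j).left (D.obj j).hom
  rw [← cancel_epi r]
  let n : Lifts (D.obj j) (r ≫ (D.obj j).hom) := ⟨r, rfl⟩
  have hh := (hag w ha).symm
  have k1 := c.comm (r ≫ (D.obj j).hom) (a ≫ g i) hh n (SchDDFam.Hom.push c n) rfl
  have k2 := c'.comm (r ≫ (D.obj j).hom) (a ≫ g i) hh n (SchDDFam.Hom.push c' n) rfl
  have k3 : (D.φ (r ≫ (D.obj j).hom) (a ≫ g i) hh n).1 ≫ (c.hom (α i)).left =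
      (D.φ (r ≫ (D.obj j).hom) (a ≫ g i) hh n).1 ≫ (c'.hom (α i)).left := by
    have e : (D.φ (r ≫ (D.obj j).hom) (a ≫ g i) hh n).1 =
        pullback.lift (D.φ (r ≫ (D.obj j).hom) (a ≫ g i) hh n).1 a
          (D.φ (r ≫ (D.obj j).hom) (a ≫ g i) hh n).2 ≫
          pullback.fst (D.obj (α i)).hom (g i) := (pullback.lift_fst _ _ _).symm
    have m1 : pullback.fst (D.obj (α i)).hom (g i) ≫ (c.hom (α i)).left =
        (((pullDDFam w).map c).hom i).left ≫ pullback.fst (E.obj (α i)).hom (g i) :=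
      (pullback.lift_fst _ _ _).symm
    have m2 : pullback.fst (D.obj (α i)).hom (g i) ≫ (c'.hom (α i)).left =
        (((pullDDFam w).map c').hom i).left ≫ pullback.fst (E.obj (α i)).hom (g i) :=
      (pullback.lift_fst _ _ _).symm
    rw [e, Category.assoc, m1, Category.assoc, m2, hcc]
  have k4 : SchDDFam.Hom.push c n = SchDDFam.Hom.push c' n :=
    (E.φ _ _ hh).injective (Subtype.ext (by rw [k1, k2, k3]))
  exact congrArg Subtype.val k4

/-- a single flat surjective morphism to the base gives epi-local lifts -/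
lemma hasEpiLifts_of_flat_surjective {X : Scheme.{u}} (a : X ⟶ S) [Flat a] [Surjective a] :
    HasEpiLifts (fun _ : PUnit.{w' + 1} => a) fV := by
  intro j T y
  refine ⟨pullback (y ≫ fV j) a, pullback.fst _ _, ?_, PUnit.unit, pullback.snd _ _, ?_⟩
  · exact AlgebraicGeometry.Flat.epi_of_flat_of_surjective _
  · rw [← pullback.condition, Category.assoc]

end Groth.Agent.Helper8.DescE
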