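import Mathlib
import Groth.Prelude.Def_CAlg
import Groth.Agent.Helper2.SkLift
import Groth.Agent.Helper5.FtDim4

/-!
# General lemmas for the determinantal rings

* rings of invariants of integrally closed domains are integrally closed;
* a Cohen–Macaulay ring modulo a nonzerodivisor is Cohen–Macaulay;
* a finite type domain over a field modulo a nonzero nonunit drops its dimension by exactly one.
-/

set_option autoImplicit false

universe u

namespace Groth.Agent.Helper8.DetA

open Polynomial

/-! ### Invariants -/

theorem isIntegrallyClosed_of_fixed {P : Type*} [CommRing P] [IsDomain P] [IsIntegrallyClosed P]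
    (S : Subring P) (G : Set (P →+* P)) (hS : ∀ p : P, p ∈ S ↔ ∀ g ∈ G, g p = p) :
    IsIntegrallyClosed S := by
  have hinj : Function.Injective ((algebraMap P (FractionRing P)).comp S.subtype) :=
    (IsFractionRing.injective P (FractionRing P)).comp Subtype.val_injective
  obtain ⟨ι, hι⟩ : ∃ ι : FractionRing S →+* FractionRing P,
      ∀ s : S, ι (algebraMap S (FractionRing S) s) = algebraMap P (FractionRing P) (s : P) :=
    ⟨IsFractionRing.lift hinj, fun s => IsFractionRing.lift_algebraMap hinj s⟩
  rw [isIntegrallyClosed_iff (FractionRing S)]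
  intro z hz
  obtain ⟨a, b, hb, rfl⟩ := IsFractionRing.div_surjective (A := S) z
  have hb0 : b ≠ 0 := nonZeroDivisors.ne_zero hb
  have hb0' : (b : P) ≠ 0 := fun h => hb0 (Subtype.ext h)
  obtain ⟨p, hmonic, hp0⟩ := hz
  have hint : IsIntegral P (ι (algebraMap S (FractionRing S) a / algebraMap S (FractionRing S) b)) := by
    refine ⟨p.map S.subtype, hmonic.map _, ?_⟩
    rw [Polynomial.eval₂_map]
    have h1 := congrArg ι hp0
    rw [Polynomial.hom_eval₂, map_zero] at h1
    have h2 : ι.comp (algebraMap S (FractionRing S)) =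
        (algebraMap P (FractionRing P)).comp S.subtype := RingHom.ext fun s => hι s
    rw [h2] at h1
    exact h1
  obtain ⟨y, hy⟩ := (isIntegrallyClosed_iff (FractionRing P)).mp inferInstance hint
  rw [map_div₀, hι, hι] at hy
  have hbL : algebraMap P (FractionRing P) (b : P) ≠ 0 := fun h =>
    hb0' ((map_eq_zero_iff _ (IsFractionRing.injective P (FractionRing P))).mp h)
  have hyb : y * (b : P) = (a : P) := by
    apply IsFractionRing.injective P (FractionRing P)
    rw [map_mul, hy, div_mul_cancel₀ _ hbL]
  have hyS : y ∈ S := by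
    rw [hS]
    intro g hg
    have ha := (hS a).mp a.2 g hg
    have hbg := (hS b).mp b.2 g hg
    have h3 : g y * (b : P) = y * (b : P) := by
      calc g y * (b : P) = g y * g (b : P) := by rw [hbg]
        _ = g (y * (b : P)) := (map_mul g _ _).symm
        _ = g (a : P) := by rw [hyb]
        _ = (a : P) := ha
        _ = y * (b : P) := hyb.symm
    exact mul_right_cancel₀ hb0' h3
  refine ⟨⟨y, hyS⟩, ?_⟩
  have hbF : algebraMap S (FractionRing S) b ≠ 0 := fun h =>
    hb0 ((map_eq_zero_iff _ (IsFractionRing.injective S (FractionRing S))).mp h)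
  rw [eq_div_iff hbF, ← map_mul]
  congr 1
  exact Subtype.ext hyb

/-! ### Cohen–Macaulay rings modulo a nonzerodivisor -/

theorem cm_quot_nzd (A : Type u) [CommRing A] (hA : LocCoh.IsCohenMacaulayRing A) (t : A)
    (ht : t ∈ nonZeroDivisors A) : LocCoh.IsCohenMacaulayRing (A ⧸ Ideal.span {t}) := by
  haveI : IsNoetherianRing A := hA.toIsNoetherian
  refine { isCohenMacaulayLocalRing_localization := fun P hP => ?_ }
  have h1 := hA.isCohenMacaulayLocalRing_localization
    (P.comap (Ideal.Quotient.mk (Ideal.span {t})))
  have hdim := Groth.Agent.Helper2.SkLift.dim_eq t ht P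
  have hdepth := Groth.Agent.Helper2.SkLift.depth_eq t ht P
  have hcm := h1.supportDim_eq_depth
  rw [Module.supportDim_self_eq_ringKrullDim] at hcm
  refine { supportDim_eq_depth := ?_ }
  rw [Module.supportDim_self_eq_ringKrullDim]
  rw [hcm, ← hdepth, IsLocalization.AtPrime.ringKrullDim_eq_height P (Localization.AtPrime P)]
    at hdim
  rw [IsLocalization.AtPrime.ringKrullDim_eq_height P (Localization.AtPrime P)]
  have h2 : P.height + 1 = LocCoh.depth (Localization.AtPrime P) (Localization.AtPrime P) + 1 := by
    exact_mod_cast hdim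
  have h3 := ENat.add_left_injective_of_ne_top ENat.one_ne_top h2
  rw [h3]

/-! ### Dimension -/

theorem dim_quot_nzd (k A : Type u) [Field k] [CommRing A] [IsDomain A] [Algebra k A]
    [Algebra.FiniteType k A] (y : A) (hy : y ≠ 0) (hne : Ideal.span {y} ≠ ⊤) :
    ringKrullDim (A ⧸ Ideal.span {y}) + 1 = ringKrullDim A := by
  haveI hN : IsNoetherianRing A := Algebra.FiniteType.isNoetherianRing k A
  apply le_antisymm
  · exact ringKrullDim_quotient_succ_le_of_nonZeroDivisor (mem_nonZeroDivisors_of_ne_zero hy)
  · obtain ⟨p, hp⟩ := Ideal.nonempty_minimalPrimes hne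
    haveI := hp.1.1
    have hht : p.height ≤ 1 :=
      Ideal.height_le_one_of_isPrincipal_of_mem_minimalPrimes (Ideal.span {y}) p hp
    have h1 := Groth.Agent.Helper5.FtDim.height_add_dim_quotient k A p
    have h2 : ringKrullDim (A ⧸ p) ≤ ringKrullDim (A ⧸ Ideal.span {y}) :=
      ringKrullDim_le_of_surjective (Ideal.Quotient.factor hp.1.2)
        (Ideal.Quotient.factor_surjective hp.1.2)
    rw [← h1, add_comm]
    have h3 : (p.height : WithBot ℕ∞) ≤ 1 := by exact_mod_cast hht
    exact add_le_add h2 h3

end Groth.Agent.Helper8.DetA
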