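import Mathlib
import Groth.Prelude.Def_W4bk4grassmannianPl
import Groth.Prelude.Def_CAlgX
import Groth.Agent.Helper8.Bitab3
import Groth.Agent.Helper8.SMT5

set_option autoImplicit false

namespace Groth.Agent.Helper8.FFTGL1

open W4bk4grassmannian MvPolynomial Groth.Agent.Helper8.Lead Groth.Agent.Helper8.Bitab1

universe u

section generic

variable {σ : Type*} {lam : σ → ℕ} {K : Type u} [Field K]

/-- If `Q` has leading monomial `M`, every monomial of maximal weight of `Q * r` is divisible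
by `M`. -/
lemma top_dvd {Q r : MvPolynomial σ K} {k : ℕ} {M : σ →₀ ℕ} (hQ : IsTop lam Q k M)
    (W : ℕ) (hW : ∀ m, coeff m (Q * r) ≠ 0 → Lam lam m ≤ W) (m : σ →₀ ℕ)
    (hm : coeff m (Q * r) ≠ 0) (hmW : W ≤ Lam lam m) : M ≤ m := by
  classical
  rw [coeff_mul] at hm
  obtain ⟨x, hx, hx0⟩ := Finset.exists_ne_zero_of_sum_ne_zero hm
  have hxm : x.1 + x.2 = m := Finset.HasAntidiagonal.mem_antidiagonal.mp hx
  have hp : coeff x.1 Q ≠ 0 := left_ne_zero_of_mul hx0
  have hq : coeff x.2 r ≠ 0 := right_ne_zero_of_mul hx0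
  by_cases hxM : x.1 = M
  · rw [← hxm, hxM]
    exact le_self_add
  · exfalso
    have h1 : Lam lam x.1 < k := hQ.lower _ hp hxM
    have hne : r.support.Nonempty := ⟨x.2, mem_support_iff.mpr hq⟩
    obtain ⟨m2, hm2, hmax⟩ := Finset.exists_max_image r.support (Lam lam) hne
    have hm2' : coeff m2 r ≠ 0 := mem_support_iff.mp hm2
    have h2 : Lam lam x.2 ≤ Lam lam m2 := hmax x.2 (mem_support_iff.mpr hq)
    have hcoef : coeff (M + m2) (Q * r) = coeff m2 r := by
      rw [coeff_mul, Finset.sum_eq_single (M, m2)]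
      · show coeff M Q * coeff m2 r = _
        rw [hQ.coeff_top, one_mul]
      · intro y hy hne'
        by_contra h0
        have hy1 : y.1 + y.2 = M + m2 := Finset.HasAntidiagonal.mem_antidiagonal.mp hy
        have hyp : coeff y.1 Q ≠ 0 := left_ne_zero_of_mul h0
        have hyq : coeff y.2 r ≠ 0 := right_ne_zero_of_mul h0
        by_cases hyM : y.1 = M
        · rw [hyM] at hy1
          have h3 : y.2 = m2 := add_left_cancel hy1
          exact hne' (Prod.ext hyM h3)
        · have h3 : Lam lam y.1 < k := hQ.lower _ hyp hyM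
          have h4 : Lam lam y.2 ≤ Lam lam m2 := hmax y.2 (mem_support_iff.mpr hyq)
          have h5 : Lam lam y.1 + Lam lam y.2 = k + Lam lam m2 := by
            rw [← Lam_add, hy1, Lam_add, hQ.weight_top]
          omega
      · intro h
        refine absurd ?_ h
        rw [Finset.HasAntidiagonal.mem_antidiagonal]
    have h6 := hW (M + m2) (by rw [hcoef]; exact hm2')
    rw [Lam_add, hQ.weight_top] at h6
    have h7 : Lam lam m = Lam lam x.1 + Lam lam x.2 := by rw [← hxm, Lam_add]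
    omega

lemma coeff_sum_top {ι : Type*} (S : Finset ι) (c : ι → K) (P : ι → MvPolynomial σ K)
    (Wt : ι → ℕ) (Dmap : ι → (σ →₀ ℕ))
    (hP : ∀ v ∈ S, IsTop lam (P v) (Wt v) (Dmap v))
    (hinj : ∀ v ∈ S, ∀ v' ∈ S, Dmap v = Dmap v' → v = v')
    (v₀ : ι) (hv₀ : v₀ ∈ S) (hmax : ∀ v ∈ S, c v ≠ 0 → Wt v ≤ Wt v₀) :
    coeff (Dmap v₀) (∑ x ∈ S, c x • P x) = c v₀ := by
  classical
  rw [coeff_sum, Finset.sum_eq_single v₀]
  · rw [coeff_smul, (hP v₀ hv₀).coeff_top, smul_eq_mul, mul_one]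
  · intro x hx hne
    rw [coeff_smul, smul_eq_mul]
    by_cases hcx : c x = 0
    · rw [hcx, zero_mul]
    · have h1 : coeff (Dmap v₀) (P x) = 0 := by
        by_contra h2
        have h3 : Dmap v₀ ≠ Dmap x := fun h => hne (hinj v₀ hv₀ x hx h).symm
        have h4 := (hP x hx).lower _ h2 h3
        rw [(hP v₀ hv₀).weight_top] at h4
        exact absurd (hmax x hx hcx) (not_le.mpr h4)
      rw [h1, mul_zero]
  · intro h
    exact absurd hv₀ h

lemma weight_le_of_sum {ι : Type*} (S : Finset ι) (c : ι → K) (P : ι → MvPolynomial σ K)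
    (Wt : ι → ℕ) (Dmap : ι → (σ →₀ ℕ))
    (hP : ∀ v ∈ S, IsTop lam (P v) (Wt v) (Dmap v)) (W : ℕ)
    (hW : ∀ v ∈ S, c v ≠ 0 → Wt v ≤ W) (m : σ →₀ ℕ)
    (hm : coeff m (∑ x ∈ S, c x • P x) ≠ 0) : Lam lam m ≤ W := by
  classical
  rw [coeff_sum] at hm
  obtain ⟨x, hx, hx0⟩ := Finset.exists_ne_zero_of_sum_ne_zero hm
  rw [coeff_smul, smul_eq_mul] at hx0
  have hc : c x ≠ 0 := left_ne_zero_of_mul hx0
  have hp : coeff m (P x) ≠ 0 := right_ne_zero_of_mul hx0
  exact le_trans ((hP x hx).le m hp) (hW x hx hc)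

end generic

section div

variable (K : Type u) [Field K] (s m n : ℕ) (hm : s + 1 ≤ m) (hn : s + 1 ≤ n)

/-- The minimal minor: the upper left one of size `s + 1`. -/
def Dl : MinorIdx m n :=
  ⟨s, (⟨Fin.castLE hm, Fin.strictMono_castLE hm⟩, ⟨Fin.castLE hn, Fin.strictMono_castLE hn⟩)⟩

/-- The image of a standard bitableau. -/
noncomputable def PT (T : BT (s + 1) m n) : PairRing K (s + 1) m n :=
  pairingMap K (s + 1) m n (Finset.univ.prod fun i => minorOf K (T.2.1 i))

lemma eq_Dl_of (M : MinorIdx m n) (h1 : M.1 = s)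
    (h2 : ∀ j : Fin (M.1 + 1), j.val = s → (M.2.1.1 j).val ≤ s)
    (h3 : ∀ j : Fin (M.1 + 1), j.val = s → (M.2.2.1 j).val ≤ s) : M = Dl s m n hm hn := by
  obtain ⟨sl, Al, Bl⟩ := M
  have h1' : sl = s := h1
  subst h1'
  have hA : Al = ⟨Fin.castLE hm, Fin.strictMono_castLE hm⟩ := by
    apply Subtype.ext
    funext j
    apply Fin.ext
    show (Al.1 j).val = j.val
    have e1 := SMT.val_le_of_strictMono Al.1 Al.2 j
    have e2 := SMT5.add_le_of_strictMono Al j (Fin.last sl) (Fin.le_last j)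
    have e3 := h2 (Fin.last sl) rfl
    have e4 : (Fin.last sl).val = sl := rfl
    have e5 := j.isLt
    simp only at e3
    omega
  have hB : Bl = ⟨Fin.castLE hn, Fin.strictMono_castLE hn⟩ := by
    apply Subtype.ext
    funext j
    apply Fin.ext
    show (Bl.1 j).val = j.val
    have e1 := SMT.val_le_of_strictMono Bl.1 Bl.2 j
    have e2 := SMT5.add_le_of_strictMono Bl j (Fin.last sl) (Fin.le_last j)
    have e3 := h3 (Fin.last sl) rfl
    have e4 : (Fin.last sl).val = sl := rfl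
    have e5 := j.isLt
    simp only at e3
    omega
  unfold Dl
  rw [hA, hB]

lemma exists_snoc (T : BT (s + 1) m n)
    (h : DM (s + 1) m n (Dl s m n hm hn) ≤ ∑ i, DM (s + 1) m n (T.2.1 i)) :
    ∃ T' : BT (s + 1) m n, (Finset.univ.prod fun i => minorOf K (T.2.1 i)) =
      (Finset.univ.prod fun i => minorOf K (T'.2.1 i)) * minorOf K (Dl s m n hm hn) := by
  classical
  obtain ⟨k, c, hsz, hch⟩ := T
  have hΔ : (Dl s m n hm hn).1 + 1 ≤ s + 1 := le_refl _
  obtain ⟨jl, hjl⟩ : ∃ jl : Fin ((Dl s m n hm hn).1 + 1), jl = Fin.last s := ⟨_, rfl⟩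
  -- rows
  have ha1 := DM_inl_ne_zero (s + 1) m n (Dl s m n hm hn) hΔ jl
  have ha2 := h (Sum.inl ((Dl s m n hm hn).2.1.1 jl, Fin.castLE hΔ jl))
  rw [Finsupp.finset_sum_apply] at ha2
  have ha3 : ∑ i, DM (s + 1) m n (c i)
      (Sum.inl ((Dl s m n hm hn).2.1.1 jl, Fin.castLE hΔ jl)) ≠ 0 := by
    intro h0
    rw [h0] at ha2
    exact ha1 (Nat.le_zero.mp ha2)
  obtain ⟨i, -, hi⟩ := Finset.exists_ne_zero_of_sum_ne_zero ha3
  obtain ⟨j, hj1, hj2⟩ := exists_of_DM_inl (s + 1) m n (c i) (hsz i) _ _ hi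
  -- columns
  have hb1 := DM_inr_ne_zero (s + 1) m n (Dl s m n hm hn) hΔ jl
  have hb2 := h (Sum.inr (Fin.castLE hΔ jl, (Dl s m n hm hn).2.2.1 jl))
  rw [Finsupp.finset_sum_apply] at hb2
  have hb3 : ∑ i, DM (s + 1) m n (c i)
      (Sum.inr (Fin.castLE hΔ jl, (Dl s m n hm hn).2.2.1 jl)) ≠ 0 := by
    intro h0
    rw [h0] at hb2
    exact hb1 (Nat.le_zero.mp hb2)
  obtain ⟨i', -, hi'⟩ := Finset.exists_ne_zero_of_sum_ne_zero hb3
  obtain ⟨j', hj1', hj2'⟩ := exists_of_DM_inr (s + 1) m n (c i') (hsz i') _ _ hi'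
  have hjlv : (Fin.castLE hΔ jl).val = s := by rw [hjl]; rfl
  have hjs : j.val = s := by rw [hj1, hjlv]
  have hjs' : j'.val = s := by rw [hj1', hjlv]
  have hav : ((c i).2.1.1 j).val = s := by rw [hj2, hjl]; rfl
  have hbv : ((c i').2.2.1 j').val = s := by rw [hj2', hjl]; rfl
  cases k with
  | zero => exact i.elim0
  | succ k' =>
    have hGE : ∀ i0 : Fin (k' + 1), MinorGE (c i0) (c (Fin.last k')) := by
      intro i0
      by_cases hil : i0 = Fin.last k'
      · rw [hil]
        exact minorGE_refl _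
      · exact hch i0 (Fin.last k') (lt_of_le_of_ne (Fin.le_last i0) hil)
    have hsi : (c i).1 = s := by
      have e1 := hsz i
      have e2 := j.isLt
      omega
    have hsi' : (c i').1 = s := by
      have e1 := hsz i'
      have e2 := j'.isLt
      omega
    have hsl : (c (Fin.last k')).1 = s := by
      have e1 := (hGE i).1
      have e2 := hsz (Fin.last k')
      omega
    have hcl : c (Fin.last k') = Dl s m n hm hn := by
      apply eq_Dl_of s m n hm hn _ hsl
      · intro j0 hj0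
        have e1 := ((hGE i).2 j j0 (by rw [hjs, hj0])).1
        rw [Fin.le_def, hav] at e1
        exact e1
      · intro j0 hj0
        have e1 := ((hGE i').2 j' j0 (by rw [hjs', hj0])).2
        rw [Fin.le_def, hbv] at e1
        exact e1
    refine ⟨⟨k', ⟨fun i0 => c i0.castSucc, fun i0 => hsz _,
      fun i0 j0 hij => hch _ _ (Fin.castSucc_lt_castSucc_iff.mpr hij)⟩⟩, ?_⟩
    show (Finset.univ.prod fun i0 : Fin (k' + 1) => minorOf K (c i0)) =
      (Finset.univ.prod fun i0 : Fin k' => minorOf K (c i0.castSucc)) *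
        minorOf K (Dl s m n hm hn)
    rw [Fin.prod_univ_castSucc, hcl]

lemma isTop_PT (T : BT (s + 1) m n) :
    IsTop (lamP (s + 1) m n) (PT K s m n T) (∑ i, WtM (s + 1) m n (T.2.1 i))
      (∑ i, DM (s + 1) m n (T.2.1 i)) :=
  isTop_pairing_prod K (s + 1) m n T.2.1 T.2.2.1

lemma isTop_PD :
    IsTop (lamP (s + 1) m n) (pairingMap K (s + 1) m n (minorOf K (Dl s m n hm hn)))
      (WtM (s + 1) m n (Dl s m n hm hn)) (DM (s + 1) m n (Dl s m n hm hn)) :=
  isTop_pairing_minor K (s + 1) m n (Dl s m n hm hn) (le_refl _)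

lemma PD_ne_zero : pairingMap K (s + 1) m n (minorOf K (Dl s m n hm hn)) ≠ 0 := by
  intro h0
  have h1 := (isTop_PD K s m n hm hn).coeff_top
  rw [h0, coeff_zero] at h1
  exact zero_ne_one h1

theorem div_induction : ∀ (N0 : ℕ) (S : Finset (BT (s + 1) m n)) (c : BT (s + 1) m n → K)
    (r : PairRing K (s + 1) m n), S.card = N0 →
    (∑ T ∈ S, c T • PT K s m n T) =
      pairingMap K (s + 1) m n (minorOf K (Dl s m n hm hn)) * r →
    r ∈ (pairingMap K (s + 1) m n).range := by
  classical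
  intro N0
  induction N0 with
  | zero =>
    intro S c r hcard hsum
    rw [Finset.card_eq_zero] at hcard
    rw [hcard, Finset.sum_empty] at hsum
    have h0 : r = 0 := by
      rcases mul_eq_zero.mp hsum.symm with h | h
      · exact absurd h (PD_ne_zero K s m n hm hn)
      · exact h
    rw [h0]
    exact Subalgebra.zero_mem _
  | succ N0 ih =>
    intro S c r hcard hsum
    by_cases hz : ∃ T ∈ S, c T = 0
    · obtain ⟨T, hT, hcT⟩ := hz
      apply ih (S.erase T) c r (by rw [Finset.card_erase_of_mem hT, hcard]; rfl)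
      rw [← hsum, ← Finset.add_sum_erase S _ hT, hcT, zero_smul, zero_add]
    · push Not at hz
      have hne : S.Nonempty := by
        rw [← Finset.card_pos, hcard]
        omega
      obtain ⟨T₀, hT₀, hmax⟩ := Finset.exists_max_image S
        (fun T : BT (s + 1) m n => ∑ i, WtM (s + 1) m n (T.2.1 i)) hne
      have hP : ∀ T ∈ S, IsTop (lamP (s + 1) m n) (PT K s m n T)
          (∑ i, WtM (s + 1) m n (T.2.1 i)) (∑ i, DM (s + 1) m n (T.2.1 i)) :=
        fun T _ => isTop_PT K s m n T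
      have hcoef : coeff (∑ i, DM (s + 1) m n (T₀.2.1 i)) (∑ T ∈ S, c T • PT K s m n T) =
          c T₀ :=
        coeff_sum_top S c (PT K s m n) (fun T => ∑ i, WtM (s + 1) m n (T.2.1 i))
          (fun T => ∑ i, DM (s + 1) m n (T.2.1 i)) hP
          (fun v _ v' _ h => sum_DM_injective (s + 1) m n h) T₀ hT₀ (fun v hv _ => hmax v hv)
      have hW : ∀ mm, coeff mm
          (pairingMap K (s + 1) m n (minorOf K (Dl s m n hm hn)) * r) ≠ 0 →
          Lam (lamP (s + 1) m n) mm ≤ ∑ i, WtM (s + 1) m n (T₀.2.1 i) := by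
        intro mm hmm
        rw [← hsum] at hmm
        exact weight_le_of_sum S c (PT K s m n) (fun T => ∑ i, WtM (s + 1) m n (T.2.1 i))
          (fun T => ∑ i, DM (s + 1) m n (T.2.1 i)) hP _ (fun v hv _ => hmax v hv) mm hmm
      have hle := top_dvd (isTop_PD K s m n hm hn) _ hW (∑ i, DM (s + 1) m n (T₀.2.1 i))
        (by rw [← hsum, hcoef]; exact hz T₀ hT₀) (hP T₀ hT₀).weight_top.ge
      obtain ⟨T', hT'⟩ := exists_snoc K s m n hm hn T₀ hle
      have hPT : PT K s m n T₀ = PT K s m n T' *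
          pairingMap K (s + 1) m n (minorOf K (Dl s m n hm hn)) := by
        unfold PT
        rw [hT', map_mul]
      have h1 := Finset.add_sum_erase S (fun T => c T • PT K s m n T) hT₀
      have h2 : (∑ T ∈ S.erase T₀, c T • PT K s m n T) =
          pairingMap K (s + 1) m n (minorOf K (Dl s m n hm hn)) *
            (r - c T₀ • PT K s m n T') := by
        rw [mul_sub, ← hsum, ← h1, hPT, mul_smul_comm,
          mul_comm (pairingMap K (s + 1) m n (minorOf K (Dl s m n hm hn)))]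
        abel
      have h3 := ih (S.erase T₀) c (r - c T₀ • PT K s m n T')
        (by rw [Finset.card_erase_of_mem hT₀, hcard]; rfl) h2
      have h40 : PT K s m n T' ∈ (pairingMap K (s + 1) m n).range := ⟨_, rfl⟩
      have h4 : c T₀ • PT K s m n T' ∈ (pairingMap K (s + 1) m n).range :=
        Subalgebra.smul_mem _ h40 _
      have h5 := Subalgebra.add_mem _ h3 h4
      rw [sub_add_cancel] at h5
      exact h5

theorem div_mem [Infinite K] (r : PairRing K (s + 1) m n)
    (h : pairingMap K (s + 1) m n (minorOf K (Dl s m n hm hn)) * r ∈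
      (pairingMap K (s + 1) m n).range) : r ∈ (pairingMap K (s + 1) m n).range := by
  classical
  obtain ⟨G, hG0⟩ := h
  have hG : pairingMap K (s + 1) m n G =
      pairingMap K (s + 1) m n (minorOf K (Dl s m n hm hn)) * r := hG0
  obtain ⟨F, hF⟩ : ∃ F : (MvPolynomial (Fin m × Fin n) K ⧸
      CAlgX.minorIdeal (genMatrix K m n) (s + 1 + 1)) →ₐ[K] PairRing K (s + 1) m n,
      ∀ f, F (Ideal.Quotient.mk _ f) = pairingMap K (s + 1) m n f :=
    ⟨Ideal.Quotient.liftₐ _ (pairingMap K (s + 1) m n)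
      (fun a ha => RingHom.mem_ker.mp (minorIdeal_le_ker K (s + 1) m n ha)), fun f => by
      rw [Ideal.Quotient.liftₐ_apply, Ideal.Quotient.lift_mk]
      rfl⟩
  have hmem : Ideal.Quotient.mk (CAlgX.minorIdeal (genMatrix K m n) (s + 1 + 1)) G ∈
      Submodule.span K (Set.range fun c : BT (s + 1) m n =>
        Ideal.Quotient.mk (CAlgX.minorIdeal (genMatrix K m n) (s + 1 + 1))
          (Finset.univ.prod fun i => minorOf K (c.2.1 i))) := by
    rw [Groth.Agent.Helper8.Bitab3.spanN K (s + 1) m n]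
    exact Submodule.mem_top
  obtain ⟨g, hg⟩ := Finsupp.mem_span_range_iff_exists_finsupp.mp hmem
  have h2 : (g.sum fun T a => a • PT K s m n T) = pairingMap K (s + 1) m n G := by
    have h3 := congrArg F hg
    rw [hF, map_finsuppSum] at h3
    rw [← h3]
    refine Finsupp.sum_congr (fun T _ => ?_)
    rw [map_smul, hF]
    rfl
  refine div_induction K s m n hm hn g.support.card g.support g r rfl ?_
  rw [← hG, ← h2]
  rfl

end div

end Groth.Agent.Helper8.FFTGL1
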