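import Mathlib
import Groth.Prelude.Def_W4bk4grassmannianPl
import Groth.Prelude.Def_CAlgX
import Groth.Agent.Helper8.FFTGL1

set_option autoImplicit false

namespace Groth.Agent.Helper8.FFTGL2

open W4bk4grassmannian MvPolynomial Groth.Agent.Helper8.Bitab1

universe u

lemma algHom_C {K : Type u} [Field K] {σ τ : Type*}
    (φ : MvPolynomial σ K →ₐ[K] MvPolynomial τ K) (a : K) : φ (C a) = C a :=
  φ.commutes a

section easy

variable (K : Type u) [Field K] (N m n : ℕ)

lemma glTranslate_inl (A : GL (Fin N) K) (i : Fin m) (k : Fin N) :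
    glTranslate K N m n A (X (Sum.inl (i, k))) =
      (Umat K N m n * ((A⁻¹ : GL (Fin N) K) : Matrix (Fin N) (Fin N) K).map (C : K →+* PairRing K N m n)) i k := by
  unfold glTranslate
  rw [aeval_X, Matrix.mul_apply]
  rfl

lemma glTranslate_inr (A : GL (Fin N) K) (k : Fin N) (j : Fin n) :
    glTranslate K N m n A (X (Sum.inr (k, j))) =
      (((A : Matrix (Fin N) (Fin N) K)).map (C : K →+* PairRing K N m n) * Wmat K N m n) k j := by
  unfold glTranslate
  rw [aeval_X, Matrix.mul_apply]
  rfl

theorem invariant_of_mem (f : PairRing K N m n) (hf : f ∈ (pairingMap K N m n).range)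
    (A : GL (Fin N) K) : glTranslate K N m n A f = f := by
  obtain ⟨F, hF0⟩ := hf
  have hF : pairingMap K N m n F = f := hF0
  have h : (glTranslate K N m n A).comp (pairingMap K N m n) = pairingMap K N m n := by
    apply MvPolynomial.algHom_ext
    intro p
    obtain ⟨i, j⟩ := p
    rw [AlgHom.comp_apply, pairing_X]
    have h1 : ∀ k, glTranslate K N m n A (Umat K N m n i k * Wmat K N m n k j) =
        (Umat K N m n * ((A⁻¹ : GL (Fin N) K) : Matrix (Fin N) (Fin N) K).map (C : K →+* PairRing K N m n)) i k *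
          (((A : Matrix (Fin N) (Fin N) K)).map (C : K →+* PairRing K N m n) * Wmat K N m n) k j := by
      intro k
      rw [map_mul]
      have e1 : Umat K N m n i k = X (Sum.inl (i, k)) := rfl
      have e2 : Wmat K N m n k j = X (Sum.inr (k, j)) := rfl
      rw [e1, e2, glTranslate_inl, glTranslate_inr]
    have key : glTranslate K N m n A ((Umat K N m n * Wmat K N m n) i j) =
        ((Umat K N m n * ((A⁻¹ : GL (Fin N) K) : Matrix (Fin N) (Fin N) K).map (C : K →+* PairRing K N m n)) *
          (((A : Matrix (Fin N) (Fin N) K)).map (C : K →+* PairRing K N m n) * Wmat K N m n)) i j := by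
      rw [Matrix.mul_apply, map_sum, Matrix.mul_apply]
      exact Finset.sum_congr rfl (fun k _ => h1 k)
    have h2 : ((A⁻¹ : GL (Fin N) K) : Matrix (Fin N) (Fin N) K) *
        (A : Matrix (Fin N) (Fin N) K) = 1 := by
      rw [← Units.val_mul, inv_mul_cancel, Units.val_one]
    rw [key, Matrix.mul_assoc, ← Matrix.mul_assoc _ _ (Wmat K N m n), ← Matrix.map_mul, h2,
      Matrix.map_one _ (map_zero (C : K →+* PairRing K N m n)) (map_one (C : K →+* PairRing K N m n)), Matrix.one_mul]
  rw [← hF, ← AlgHom.comp_apply, h]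

/-! ### Evaluation -/

lemma eval_glTranslate (A : GL (Fin N) K) (U : Matrix (Fin m) (Fin N) K)
    (W : Matrix (Fin N) (Fin n) K) (f : PairRing K N m n) :
    eval (Sum.elim (fun p : Fin m × Fin N => U p.1 p.2) (fun p : Fin N × Fin n => W p.1 p.2))
        (glTranslate K N m n A f) =
      eval (Sum.elim
        (fun p : Fin m × Fin N =>
          (U * ((A⁻¹ : GL (Fin N) K) : Matrix (Fin N) (Fin N) K)) p.1 p.2)
        (fun p : Fin N × Fin n => ((A : Matrix (Fin N) (Fin N) K) * W) p.1 p.2)) f := by
  have h : (eval (Sum.elim (fun p : Fin m × Fin N => U p.1 p.2)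
      (fun p : Fin N × Fin n => W p.1 p.2))).comp (glTranslate K N m n A).toRingHom =
      eval (Sum.elim
        (fun p : Fin m × Fin N =>
          (U * ((A⁻¹ : GL (Fin N) K) : Matrix (Fin N) (Fin N) K)) p.1 p.2)
        (fun p : Fin N × Fin n => ((A : Matrix (Fin N) (Fin N) K) * W) p.1 p.2)) := by
    apply MvPolynomial.ringHom_ext
    · intro a
      rw [RingHom.comp_apply]
      show eval _ (glTranslate K N m n A (C a)) = _
      rw [algHom_C, eval_C, eval_C]
    · intro p
      rw [RingHom.comp_apply]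
      show eval _ (glTranslate K N m n A (X p)) = _
      rcases p with ⟨i, k⟩ | ⟨k, j⟩
      · rw [glTranslate_inl, eval_X, Sum.elim_inl, Matrix.mul_apply, map_sum, Matrix.mul_apply]
        refine Finset.sum_congr rfl fun l _ => ?_
        rw [map_mul, Matrix.map_apply, eval_C]
        have e1 : Umat K N m n i l = X (Sum.inl (i, l)) := rfl
        rw [e1, eval_X, Sum.elim_inl]
      · rw [glTranslate_inr, eval_X, Sum.elim_inr, Matrix.mul_apply, map_sum, Matrix.mul_apply]
        refine Finset.sum_congr rfl fun l _ => ?_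
        rw [map_mul, Matrix.map_apply, eval_C]
        have e1 : Wmat K N m n l j = X (Sum.inr (l, j)) := rfl
        rw [e1, eval_X, Sum.elim_inr]
  exact RingHom.congr_fun h f

lemma eval_pairingMap (U : Matrix (Fin m) (Fin N) K) (W : Matrix (Fin N) (Fin n) K)
    (F : MvPolynomial (Fin m × Fin n) K) :
    eval (Sum.elim (fun p : Fin m × Fin N => U p.1 p.2) (fun p : Fin N × Fin n => W p.1 p.2))
        (pairingMap K N m n F) =
      eval (fun p : Fin m × Fin n => (U * W) p.1 p.2) F := by
  have h : (eval (Sum.elim (fun p : Fin m × Fin N => U p.1 p.2)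
      (fun p : Fin N × Fin n => W p.1 p.2))).comp (pairingMap K N m n).toRingHom =
      eval (fun p : Fin m × Fin n => (U * W) p.1 p.2) := by
    apply MvPolynomial.ringHom_ext
    · intro a
      rw [RingHom.comp_apply]
      show eval _ (pairingMap K N m n (C a)) = _
      rw [algHom_C, eval_C, eval_C]
    · intro p
      obtain ⟨i, j⟩ := p
      rw [RingHom.comp_apply]
      show eval _ (pairingMap K N m n (X (i, j))) = _
      rw [pairing_X, eval_X, Matrix.mul_apply, map_sum, Matrix.mul_apply]
      refine Finset.sum_congr rfl fun l _ => ?_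
      have e1 : Umat K N m n i l = X (Sum.inl (i, l)) := rfl
      have e2 : Wmat K N m n l j = X (Sum.inr (l, j)) := rfl
      rw [map_mul, e1, e2, eval_X, eval_X, Sum.elim_inl, Sum.elim_inr]
  exact RingHom.congr_fun h F

end easy

/-! ### The generic identity -/

section identity

variable (K : Type u) [Field K] (N m n : ℕ) (hm : N ≤ m) (hn : N ≤ n)

/-- The upper left minor of size `N`. -/
noncomputable def DY : MvPolynomial (Fin m × Fin n) K :=
  ((genMatrix K m n).submatrix (Fin.castLE hm) (Fin.castLE hn)).det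

/-- The first `N` columns times the adjugate of the upper left block. -/
noncomputable def VY : Matrix (Fin m) (Fin N) (MvPolynomial (Fin m × Fin n) K) :=
  (genMatrix K m n).submatrix id (Fin.castLE hn) *
    ((genMatrix K m n).submatrix (Fin.castLE hm) (Fin.castLE hn)).adjugate

/-- The first `N` rows. -/
noncomputable def QY : Matrix (Fin N) (Fin n) (MvPolynomial (Fin m × Fin n) K) :=
  (genMatrix K m n).submatrix (Fin.castLE hm) id

lemma genMatrix_map_eval (P : Matrix (Fin m) (Fin n) K) :
    (genMatrix K m n).map (eval fun p : Fin m × Fin n => P p.1 p.2) = P := by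
  refine Matrix.ext fun i j => ?_
  rw [Matrix.map_apply]
  unfold genMatrix
  rw [Matrix.of_apply, eval_X]

lemma eval_DY (P : Matrix (Fin m) (Fin n) K) :
    eval (fun p : Fin m × Fin n => P p.1 p.2) (DY K N m n hm hn) =
      (P.submatrix (Fin.castLE hm) (Fin.castLE hn)).det := by
  unfold DY
  rw [RingHom.map_det, RingHom.mapMatrix_apply, ← Matrix.submatrix_map, genMatrix_map_eval]

lemma eval_VY (P : Matrix (Fin m) (Fin n) K) (i : Fin m) (k : Fin N) :
    eval (fun p : Fin m × Fin n => P p.1 p.2) (VY K N m n hm hn i k) =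
      (P.submatrix id (Fin.castLE hn) *
        (P.submatrix (Fin.castLE hm) (Fin.castLE hn)).adjugate) i k := by
  have h1 : eval (fun p : Fin m × Fin n => P p.1 p.2) (VY K N m n hm hn i k) =
      ((VY K N m n hm hn).map (eval fun p : Fin m × Fin n => P p.1 p.2)) i k := rfl
  rw [h1]
  unfold VY
  rw [Matrix.map_mul]
  have h3 := RingHom.map_adjugate (eval fun p : Fin m × Fin n => P p.1 p.2)
    ((genMatrix K m n).submatrix (Fin.castLE hm) (Fin.castLE hn))
  rw [RingHom.mapMatrix_apply, RingHom.mapMatrix_apply] at h3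
  rw [h3, ← Matrix.submatrix_map, ← Matrix.submatrix_map, genMatrix_map_eval]

lemma eval_QY (P : Matrix (Fin m) (Fin n) K) (k : Fin N) (j : Fin n) :
    eval (fun p : Fin m × Fin n => P p.1 p.2) (QY K N m n hm k j) = P (Fin.castLE hm k) j := by
  unfold QY genMatrix
  rw [Matrix.submatrix_apply, Matrix.of_apply, eval_X]
  rfl

lemma PD_ne_zero : pairingMap K N m n (DY K N m n hm hn) ≠ 0 := by
  intro h0
  obtain ⟨U, hU⟩ : ∃ U : Matrix (Fin m) (Fin N) K,
      U = Matrix.of fun i k => if i.val = k.val then 1 else 0 := ⟨_, rfl⟩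
  obtain ⟨W, hW⟩ : ∃ W : Matrix (Fin N) (Fin n) K,
      W = Matrix.of fun k j => if k.val = j.val then 1 else 0 := ⟨_, rfl⟩
  have h1 := congrArg (eval (Sum.elim (fun p : Fin m × Fin N => U p.1 p.2)
    (fun p : Fin N × Fin n => W p.1 p.2))) h0
  rw [eval_pairingMap, eval_DY, map_zero,
    Matrix.submatrix_mul U W _ id _ Function.bijective_id, Matrix.det_mul] at h1
  have h2 : U.submatrix (Fin.castLE hm) id = 1 := by
    refine Matrix.ext fun a b => ?_
    rw [Matrix.submatrix_apply, hU, Matrix.of_apply, Matrix.one_apply]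
    show (if a.val = b.val then (1 : K) else 0) = _
    by_cases hab : a = b
    · rw [if_pos hab, if_pos (by rw [hab])]
    · rw [if_neg hab, if_neg (fun h => hab (Fin.ext h))]
  have h3 : W.submatrix id (Fin.castLE hn) = 1 := by
    refine Matrix.ext fun a b => ?_
    rw [Matrix.submatrix_apply, hW, Matrix.of_apply, Matrix.one_apply]
    show (if a.val = b.val then (1 : K) else 0) = _
    by_cases hab : a = b
    · rw [if_pos hab, if_pos (by rw [hab])]
    · rw [if_neg hab, if_neg (fun h => hab (Fin.ext h))]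
  rw [h2, h3, Matrix.det_one, mul_one] at h1
  exact one_ne_zero h1

theorem key_identity [Infinite K] (f : PairRing K N m n)
    (hf : ∀ A : GL (Fin N) K, glTranslate K N m n A f = f) :
    ∃ (k : ℕ) (G : MvPolynomial (Fin m × Fin n) K),
      (pairingMap K N m n (DY K N m n hm hn)) ^ k * f = pairingMap K N m n G := by
  classical
  obtain ⟨wU, hwU⟩ : ∃ wU : (((Fin m × Fin N) ⊕ (Fin N × Fin n)) →₀ ℕ) → ℕ,
      wU = fun u => ∑ a : Fin m × Fin N, u (Sum.inl a) := ⟨_, rfl⟩
  obtain ⟨E, hE⟩ : ∃ E, E = f.support.sup wU := ⟨_, rfl⟩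
  obtain ⟨D, hD⟩ : ∃ D, D = DY K N m n hm hn := ⟨_, rfl⟩
  obtain ⟨G, hG⟩ : ∃ G : MvPolynomial (Fin m × Fin n) K,
      G = ∑ u ∈ f.support, C (coeff u f) * D ^ (E - wU u) *
        (∏ a : Fin m × Fin N, (VY K N m n hm hn a.1 a.2) ^ (u (Sum.inl a))) *
        ∏ b : Fin N × Fin n, (QY K N m n hm b.1 b.2) ^ (u (Sum.inr b)) := ⟨_, rfl⟩
  refine ⟨E, G, ?_⟩
  rw [← hD]
  have hPDne : pairingMap K N m n D ≠ 0 := by
    rw [hD]
    exact PD_ne_zero K N m n hm hn
  have h0 : pairingMap K N m n D *
      ((pairingMap K N m n D) ^ E * f - pairingMap K N m n G) = 0 := by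
    apply MvPolynomial.funext
    intro x
    rw [map_zero, map_mul, map_sub, map_mul, map_pow]
    obtain ⟨U, hU⟩ : ∃ U : Matrix (Fin m) (Fin N) K,
        U = Matrix.of fun i k => x (Sum.inl (i, k)) := ⟨_, rfl⟩
    obtain ⟨W, hW⟩ : ∃ W : Matrix (Fin N) (Fin n) K,
        W = Matrix.of fun k j => x (Sum.inr (k, j)) := ⟨_, rfl⟩
    have hx : x = Sum.elim (fun p : Fin m × Fin N => U p.1 p.2)
        (fun p : Fin N × Fin n => W p.1 p.2) := by
      funext p
      rcases p with ⟨i, k⟩ | ⟨k, j⟩
      · rw [Sum.elim_inl, hU, Matrix.of_apply]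
      · rw [Sum.elim_inr, hW, Matrix.of_apply]
    obtain ⟨P, hP⟩ : ∃ P, P = U * W := ⟨_, rfl⟩
    obtain ⟨P11, hP11⟩ : ∃ P11, P11 = P.submatrix (Fin.castLE hm) (Fin.castLE hn) := ⟨_, rfl⟩
    obtain ⟨δ, hδ⟩ : ∃ δ, δ = P11.det := ⟨_, rfl⟩
    have hevY : ∀ F, eval x (pairingMap K N m n F) =
        eval (fun p : Fin m × Fin n => P p.1 p.2) F := by
      intro F
      rw [hx, eval_pairingMap, ← hP]
    have hevD : eval x (pairingMap K N m n D) = δ := by
      rw [hevY, hD, eval_DY, ← hP11, hδ]
    rw [hevD]
    by_cases hδ0 : δ = 0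
    · rw [hδ0, zero_mul]
    · obtain ⟨U1, hU1⟩ : ∃ U1, U1 = U.submatrix (Fin.castLE hm) id := ⟨_, rfl⟩
      obtain ⟨W1, hW1⟩ : ∃ W1, W1 = W.submatrix id (Fin.castLE hn) := ⟨_, rfl⟩
      have hP11' : P11 = U1 * W1 := by
        rw [hP11, hP, hU1, hW1]
        exact Matrix.submatrix_mul U W _ id _ Function.bijective_id
      have hδ' : δ = U1.det * W1.det := by rw [hδ, hP11', Matrix.det_mul]
      have hU1ne : U1.det ≠ 0 := fun h => hδ0 (by rw [hδ', h, zero_mul])
      have hW1ne : W1.det ≠ 0 := fun h => hδ0 (by rw [hδ', h, mul_zero])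
      obtain ⟨A, hA⟩ : ∃ A : GL (Fin N) K, (A : Matrix (Fin N) (Fin N) K) = U1 :=
        ⟨Matrix.GeneralLinearGroup.mkOfDetNeZero U1 hU1ne, rfl⟩
      have hAinv : ((A⁻¹ : GL (Fin N) K) : Matrix (Fin N) (Fin N) K) = U1⁻¹ := by
        rw [Matrix.coe_units_inv, hA]
      have hinv := hf A
      have h1 : eval x f = eval (Sum.elim (fun p : Fin m × Fin N => (U * U1⁻¹) p.1 p.2)
          (fun p : Fin N × Fin n => (U1 * W) p.1 p.2)) f := by
        have h2 := eval_glTranslate K N m n A U W f
        rw [hinv, ← hx, hAinv, hA] at h2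
        exact h2
      obtain ⟨V, hV⟩ : ∃ V, V = P.submatrix id (Fin.castLE hn) * P11.adjugate := ⟨_, rfl⟩
      have hUinv : U * U1⁻¹ = δ⁻¹ • V := by
        have e1 : P.submatrix id (Fin.castLE hn) = U * W1 := by
          rw [hP, hW1]
          have e0 := Matrix.submatrix_mul U W (id : Fin m → Fin m) id (Fin.castLE hn)
            Function.bijective_id
          rw [e0, Matrix.submatrix_id_id]
        have e2 : P11⁻¹ = δ⁻¹ • P11.adjugate := by
          rw [Matrix.inv_def, ← hδ, Ring.inverse_eq_inv']
        have e3 : U1⁻¹ = W1 * P11⁻¹ := by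
          rw [hP11', Matrix.mul_inv_rev, ← Matrix.mul_assoc,
            Matrix.mul_nonsing_inv W1 (isUnit_iff_ne_zero.mpr hW1ne), Matrix.one_mul]
        rw [e3, e2, hV, e1, Matrix.mul_smul, Matrix.mul_smul, Matrix.mul_assoc]
      have hQ : U1 * W = P.submatrix (Fin.castLE hm) id := by
        rw [hP, hU1]
        have e0 := Matrix.submatrix_mul U W (Fin.castLE hm) id (id : Fin n → Fin n)
          Function.bijective_id
        rw [e0, Matrix.submatrix_id_id]
      have hterm : ∀ u : ((Fin m × Fin N) ⊕ (Fin N × Fin n)) →₀ ℕ,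
          ∏ p, (Sum.elim (fun p : Fin m × Fin N => (U * U1⁻¹) p.1 p.2)
            (fun p : Fin N × Fin n => (U1 * W) p.1 p.2) p) ^ (u p) =
          (δ⁻¹) ^ (wU u) * (∏ a : Fin m × Fin N, (V a.1 a.2) ^ (u (Sum.inl a))) *
            ∏ b : Fin N × Fin n, (P (Fin.castLE hm b.1) b.2) ^ (u (Sum.inr b)) := by
        intro u
        rw [Fintype.prod_sum_type]
        congr 1
        · simp only [Sum.elim_inl]
          rw [hUinv]
          have e4 : ∀ a : Fin m × Fin N, ((δ⁻¹ • V) a.1 a.2) ^ (u (Sum.inl a)) =
              (δ⁻¹) ^ (u (Sum.inl a)) * (V a.1 a.2) ^ (u (Sum.inl a)) := by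
            intro a
            rw [Matrix.smul_apply, smul_eq_mul, mul_pow]
          rw [Finset.prod_congr rfl (fun a _ => e4 a), Finset.prod_mul_distrib,
            Finset.prod_pow_eq_pow_sum, hwU]
        · simp only [Sum.elim_inr]
          rw [hQ]
          rfl
      have hevG : eval x (pairingMap K N m n G) = ∑ u ∈ f.support,
          coeff u f * δ ^ (E - wU u) *
            (∏ a : Fin m × Fin N, (V a.1 a.2) ^ (u (Sum.inl a))) *
            ∏ b : Fin N × Fin n, (P (Fin.castLE hm b.1) b.2) ^ (u (Sum.inr b)) := by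
        rw [hevY, hG, map_sum]
        refine Finset.sum_congr rfl fun u _ => ?_
        rw [map_mul, map_mul, map_mul, eval_C, map_pow, map_prod, map_prod, hD, eval_DY,
          ← hP11, ← hδ]
        congr 1
        · congr 1
          refine Finset.prod_congr rfl fun a _ => ?_
          rw [map_pow, eval_VY, ← hP11, ← hV]
        · refine Finset.prod_congr rfl fun b _ => ?_
          rw [map_pow, eval_QY]
      have hfin : δ ^ E * eval x f - eval x (pairingMap K N m n G) = 0 := by
        rw [h1, eval_eq', hevG, Finset.mul_sum, ← Finset.sum_sub_distrib]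
        refine Finset.sum_eq_zero fun u hu => ?_
        rw [hterm]
        have hle : wU u ≤ E := by
          rw [hE]
          exact Finset.le_sup (f := wU) hu
        have h4 : δ ^ E = δ ^ (E - wU u) * δ ^ (wU u) := by
          rw [← pow_add, Nat.sub_add_cancel hle]
        have h5 : δ ^ (wU u) * (δ⁻¹) ^ (wU u) = 1 := by
          rw [← mul_pow, mul_inv_cancel₀ hδ0, one_pow]
        rw [h4]
        linear_combination (coeff u f *
          (∏ a : Fin m × Fin N, (V a.1 a.2) ^ (u (Sum.inl a))) *
          (∏ b : Fin N × Fin n, (P (Fin.castLE hm b.1) b.2) ^ (u (Sum.inr b))) *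
          δ ^ (E - wU u)) * h5
      rw [hfin, mul_zero]
  rcases mul_eq_zero.mp h0 with h | h
  · exact absurd h hPDne
  · exact sub_eq_zero.mp h

end identity

/-! ### The case of large matrices -/

theorem big_case (K : Type u) [Field K] [Infinite K] (s m n : ℕ) (hm : s + 1 ≤ m)
    (hn : s + 1 ≤ n) (f : PairRing K (s + 1) m n)
    (hf : ∀ A : GL (Fin (s + 1)) K, glTranslate K (s + 1) m n A f = f) :
    f ∈ (pairingMap K (s + 1) m n).range := by
  obtain ⟨k, G, hG⟩ := key_identity K (s + 1) m n hm hn f hf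
  have hDD : DY K (s + 1) m n hm hn = minorOf K (FFTGL1.Dl s m n hm hn) := rfl
  rw [hDD] at hG
  have hind : ∀ (k : ℕ) (f : PairRing K (s + 1) m n),
      (pairingMap K (s + 1) m n (minorOf K (FFTGL1.Dl s m n hm hn))) ^ k * f ∈
        (pairingMap K (s + 1) m n).range → f ∈ (pairingMap K (s + 1) m n).range := by
    intro k
    induction k with
    | zero =>
      intro f h
      rw [pow_zero, one_mul] at h
      exact h
    | succ k ih =>
      intro f h
      apply ih
      apply FFTGL1.div_mem K s m n hm hn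
      rw [← mul_assoc, ← pow_succ']
      exact h
  exact hind k f ⟨G, hG.symm⟩

/-! ### Padding -/

section padding

variable (K : Type u) [Field K] (N m n : ℕ)

/-- Adding `N` zero rows and columns. -/
noncomputable def rho : PairRing K N m n →ₐ[K] PairRing K N (N + m) (N + n) :=
  MvPolynomial.aeval (Sum.elim
    (fun p : Fin m × Fin N => (X (Sum.inl (Fin.natAdd N p.1, p.2)) : PairRing K N (N + m) (N + n)))
    (fun p : Fin N × Fin n => (X (Sum.inr (p.1, Fin.natAdd N p.2)) : PairRing K N (N + m) (N + n))))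

/-- Forgetting the added rows and columns. -/
noncomputable def spec : PairRing K N (N + m) (N + n) →ₐ[K] PairRing K N m n :=
  MvPolynomial.aeval (Sum.elim
    (fun p : Fin (N + m) × Fin N =>
      (Fin.addCases (fun _ => (0 : PairRing K N m n)) (fun i => X (Sum.inl (i, p.2))) p.1))
    (fun p : Fin N × Fin (N + n) =>
      (Fin.addCases (fun _ => (0 : PairRing K N m n)) (fun j => X (Sum.inr (p.1, j))) p.2)))

/-- The same on the target. -/
noncomputable def specY : MvPolynomial (Fin (N + m) × Fin (N + n)) K →ₐ[K]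
    MvPolynomial (Fin m × Fin n) K :=
  MvPolynomial.aeval (fun p : Fin (N + m) × Fin (N + n) =>
    (Fin.addCases (fun _ => (0 : MvPolynomial (Fin m × Fin n) K))
      (fun i => Fin.addCases (fun _ => (0 : MvPolynomial (Fin m × Fin n) K))
        (fun j => X (i, j)) p.2) p.1))

lemma spec_rho (f : PairRing K N m n) : spec K N m n (rho K N m n f) = f := by
  have h : (spec K N m n).comp (rho K N m n) = AlgHom.id K _ := by
    apply MvPolynomial.algHom_ext
    intro p
    rw [AlgHom.comp_apply, AlgHom.id_apply]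
    rcases p with ⟨i, k⟩ | ⟨k, j⟩
    · unfold rho spec
      rw [aeval_X, Sum.elim_inl, aeval_X, Sum.elim_inl]
      simp only [Fin.addCases_right]
    · unfold rho spec
      rw [aeval_X, Sum.elim_inr, aeval_X, Sum.elim_inr]
      simp only [Fin.addCases_right]
  exact AlgHom.congr_fun h f

lemma rho_glTranslate (A : GL (Fin N) K) (f : PairRing K N m n) :
    glTranslate K N (N + m) (N + n) A (rho K N m n f) =
      rho K N m n (glTranslate K N m n A f) := by
  have h : (glTranslate K N (N + m) (N + n) A).comp (rho K N m n) =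
      (rho K N m n).comp (glTranslate K N m n A) := by
    apply MvPolynomial.algHom_ext
    intro p
    rw [AlgHom.comp_apply, AlgHom.comp_apply]
    rcases p with ⟨i, k⟩ | ⟨k, j⟩
    · have e1 : rho K N m n (X (Sum.inl (i, k))) = X (Sum.inl (Fin.natAdd N i, k)) := by
        unfold rho
        rw [aeval_X, Sum.elim_inl]
      rw [e1]
      unfold glTranslate
      rw [aeval_X, aeval_X, Sum.elim_inl, Sum.elim_inl, map_sum]
      refine Finset.sum_congr rfl fun l _ => ?_
      rw [map_mul]
      have e2 : rho K N m n (X (Sum.inl (i, l))) = X (Sum.inl (Fin.natAdd N i, l)) := by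
        unfold rho
        rw [aeval_X, Sum.elim_inl]
      rw [e2, algHom_C]
    · have e1 : rho K N m n (X (Sum.inr (k, j))) = X (Sum.inr (k, Fin.natAdd N j)) := by
        unfold rho
        rw [aeval_X, Sum.elim_inr]
      rw [e1]
      unfold glTranslate
      rw [aeval_X, aeval_X, Sum.elim_inr, Sum.elim_inr, map_sum]
      refine Finset.sum_congr rfl fun l _ => ?_
      rw [map_mul]
      have e2 : rho K N m n (X (Sum.inr (l, j))) = X (Sum.inr (l, Fin.natAdd N j)) := by
        unfold rho
        rw [aeval_X, Sum.elim_inr]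
      rw [e2, algHom_C]
  exact AlgHom.congr_fun h f

lemma spec_pairingMap (F : MvPolynomial (Fin (N + m) × Fin (N + n)) K) :
    spec K N m n (pairingMap K N (N + m) (N + n) F) =
      pairingMap K N m n (specY K N m n F) := by
  have h : (spec K N m n).comp (pairingMap K N (N + m) (N + n)) =
      (pairingMap K N m n).comp (specY K N m n) := by
    apply MvPolynomial.algHom_ext
    intro p
    obtain ⟨i', j'⟩ := p
    rw [AlgHom.comp_apply, AlgHom.comp_apply]
    have e1 : pairingMap K N (N + m) (N + n) (X (i', j')) =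
        ∑ k : Fin N, X (Sum.inl (i', k)) * X (Sum.inr (k, j')) := by
      unfold pairingMap
      rw [aeval_X]
    have e2 : ∀ k : Fin N, spec K N m n (X (Sum.inl (i', k))) =
        Fin.addCases (fun _ => (0 : PairRing K N m n)) (fun i => X (Sum.inl (i, k))) i' := by
      intro k
      unfold spec
      rw [aeval_X, Sum.elim_inl]
    have e3 : ∀ k : Fin N, spec K N m n (X (Sum.inr (k, j'))) =
        Fin.addCases (fun _ => (0 : PairRing K N m n)) (fun j => X (Sum.inr (k, j))) j' := by
      intro k
      unfold spec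
      rw [aeval_X, Sum.elim_inr]
    have e4 : specY K N m n (X (i', j')) =
        Fin.addCases (fun _ => (0 : MvPolynomial (Fin m × Fin n) K))
          (fun i => Fin.addCases (fun _ => (0 : MvPolynomial (Fin m × Fin n) K))
            (fun j => X (i, j)) j') i' := by
      unfold specY
      rw [aeval_X]
    rw [e1, map_sum, e4]
    have e5 : ∀ k : Fin N, spec K N m n (X (Sum.inl (i', k)) * X (Sum.inr (k, j'))) =
        Fin.addCases (fun _ => (0 : PairRing K N m n)) (fun i => X (Sum.inl (i, k))) i' *
          Fin.addCases (fun _ => (0 : PairRing K N m n)) (fun j => X (Sum.inr (k, j))) j' := by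
      intro k
      rw [map_mul, e2, e3]
    rw [Finset.sum_congr rfl (fun k _ => e5 k)]
    induction i' using Fin.addCases with
    | left i₀ =>
      simp only [Fin.addCases_left, zero_mul, Finset.sum_const_zero, map_zero]
    | right i =>
      induction j' using Fin.addCases with
      | left j₀ =>
        simp only [Fin.addCases_left, Fin.addCases_right, mul_zero, Finset.sum_const_zero,
          map_zero]
      | right j =>
        simp only [Fin.addCases_right]
        unfold pairingMap
        rw [aeval_X]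
  exact AlgHom.congr_fun h F

end padding

theorem main (K : Type u) [Field K] [Infinite K] (m n q : ℕ) (f : PairRing K n m q) :
    (∀ A : GL (Fin n) K, glTranslate K n m q A f = f) ↔ f ∈ (pairingMap K n m q).range := by
  constructor
  · intro hf
    cases n with
    | zero =>
      have h1 := MvPolynomial.eq_C_of_isEmpty f
      refine ⟨C (coeff 0 f), ?_⟩
      show pairingMap K 0 m q (C (coeff 0 f)) = f
      rw [algHom_C]
      exact h1.symm
    | succ s =>
      have hinv : ∀ A : GL (Fin (s + 1)) K,
          glTranslate K (s + 1) (s + 1 + m) (s + 1 + q) A (rho K (s + 1) m q f) =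
            rho K (s + 1) m q f := by
        intro A
        rw [rho_glTranslate, hf A]
      obtain ⟨F, hF0⟩ := big_case K s (s + 1 + m) (s + 1 + q) (Nat.le_add_right _ _)
        (Nat.le_add_right _ _) (rho K (s + 1) m q f) hinv
      have hF : pairingMap K (s + 1) (s + 1 + m) (s + 1 + q) F = rho K (s + 1) m q f := hF0
      refine ⟨specY K (s + 1) m q F, ?_⟩
      show pairingMap K (s + 1) m q (specY K (s + 1) m q F) = f
      rw [← spec_pairingMap, hF, spec_rho]
  · intro hf A
    exact invariant_of_mem K n m q f hf A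

end Groth.Agent.Helper8.FFTGL2
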