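import Groth.Agent.Helper8.SchubCM
import Groth.Agent.Helper8.DetA
import Groth.Agent.Helper8.CellMinor
import Groth.Agent.Helper8.FFTGL2
import Groth.Agent.Helper8.Bitab3
import Groth.Agent.Helper2.CplQuot2

/-!
# Determinantal rings are normal Cohen–Macaulay domains

The determinantal ring `K[Z]/I_t` is identified with the coordinate ring of the opposite cell of a
Schubert variety: `K[Z]/I_t ≃ S/(J(τ_t) + (X_ι - 1))`.
-/

set_option autoImplicit false

universe u

open MvPolynomial W4bk4grassmannian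

namespace Groth.Agent.Helper8.DetB

/-! ### The index `τ_t` -/

section comb

variable (d r t : ℕ)

/-- The values of `τ_t`. -/
def tv (k : ℕ) : ℕ := if k + t ≤ d then k + (t - 1) else k + r

lemma tv_lt (ht : 0 < t) (k : ℕ) (hk : k < d) : tv d r t k < d + r := by
  unfold tv
  split_ifs <;> omega

lemma tv_strictMono (ht : 0 < t) (htr : t ≤ r) (a b : ℕ) (hab : a < b) :
    tv d r t a < tv d r t b := by
  unfold tv
  split_ifs <;> omega

/-- The index of the Schubert variety whose opposite cell is the determinantal variety. -/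
def tauT (ht : 0 < t) (htr : t ≤ r) : Idx d (d + r) :=
  ⟨fun s => ⟨tv d r t s.val, tv_lt d r t ht s.val s.isLt⟩, fun a b hab => by
    rw [Fin.lt_def] at hab ⊢
    exact tv_strictMono d r t ht htr a.val b.val hab⟩

lemma tauT_val (ht : 0 < t) (htr : t ≤ r) (s : Fin d) :
    ((tauT d r t ht htr).1 s).val = tv d r t s.val := rfl

theorem le_tauT_iff (hd : 0 < d) (ht : 0 < t) (htd : t ≤ d) (htr : t ≤ r)
    (θ : Idx d (d + r)) :
    θ ≤ tauT d r t ht htr ↔ (θ.1 ⟨d - t, Nat.sub_lt hd ht⟩).val < d := by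
  constructor
  · intro h
    have h1 := Fin.le_def.mp (h ⟨d - t, Nat.sub_lt hd ht⟩)
    rw [tauT_val] at h1
    unfold tv at h1
    rw [if_pos (by show d - t + t ≤ d; omega)] at h1
    have h2 : d - t + (t - 1) = d - 1 := by omega
    rw [h2] at h1
    omega
  · intro h s
    rw [Fin.le_def, tauT_val]
    unfold tv
    split_ifs with h1
    · have h2 := SMT5.add_le_of_strictMono θ s ⟨d - t, Nat.sub_lt hd ht⟩
        (Fin.le_def.mpr (by show s.val ≤ d - t; omega))
      have h3 : (⟨d - t, Nat.sub_lt hd ht⟩ : Fin d).val = d - t := rfl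
      rw [h3] at h2
      omega
    · have h2 := SMT5.add_le_of_strictMono θ s ⟨d - 1, by omega⟩
        (Fin.le_def.mpr (by show s.val ≤ d - 1; have := s.isLt; omega))
      have h3 : (⟨d - 1, by omega⟩ : Fin d).val = d - 1 := rfl
      rw [h3] at h2
      have h4 := (θ.1 ⟨d - 1, by omega⟩).isLt
      have := s.isLt
      omega

theorem codeg_tauT (ht : 0 < t) (htd : t ≤ d) (htr : t ≤ r) :
    codeg (tauT d r t ht htr) = (t - 1) * (d + r - t + 1) := by
  unfold codeg
  have h1 : ∀ s : Fin d, ((tauT d r t ht htr).1 s).val - s.val =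
      (fun k : ℕ => if k + t ≤ d then t - 1 else r) s.val := by
    intro s
    rw [tauT_val]
    unfold tv
    show _ = if s.val + t ≤ d then t - 1 else r
    split_ifs <;> omega
  rw [Finset.sum_congr rfl (fun s _ => h1 s),
    Fin.sum_univ_eq_sum_range (fun k : ℕ => if k + t ≤ d then t - 1 else r) d,
    ← Finset.sum_range_add_sum_Ico _ (show d - t + 1 ≤ d by omega)]
  have e1 : ∑ k ∈ Finset.range (d - t + 1), (if k + t ≤ d then t - 1 else r) =
      (d - t + 1) * (t - 1) := by
    rw [Finset.sum_congr rfl (fun k hk => if_pos (by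
      have := Finset.mem_range.mp hk; omega)), Finset.sum_const, Finset.card_range, smul_eq_mul]
  have e2 : ∑ k ∈ Finset.Ico (d - t + 1) d, (if k + t ≤ d then t - 1 else r) = (t - 1) * r := by
    rw [Finset.sum_congr rfl (fun k hk => if_neg (by
      have := (Finset.mem_Ico.mp hk).1; omega)), Finset.sum_const, Nat.card_Ico, smul_eq_mul]
    congr 1
    omega
  rw [e1, e2]
  have e3 : d + r - t + 1 = (d - t + 1) + r := by omega
  rw [e3]
  ring

end comb

/-! ### The maps -/

section maps

variable (K : Type u) [Field K] [Infinite K] (d r : ℕ)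

/-- Restriction of the Plücker coordinates to the opposite cell. -/
noncomputable def Phi0 : PlRing K d (d + r) →ₐ[K] CellRing K d r :=
  MvPolynomial.aeval (fun θ : Idx d (d + r) => cellMinor K d r θ)

lemma Phi0_X (θ : Idx d (d + r)) : Phi0 K d r (X θ) = cellMinor K d r θ := aeval_X _ _

lemma Phi0_coord (a : Fin d → Fin (d + r)) :
    Phi0 K d r (coord K d (d + r) a) = ((cellMatrix K d r).submatrix a id).det := by
  unfold Phi0 cellMinor
  exact Cell2.aeval_coord K d (d + r) (cellMatrix K d r) a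

lemma Phi0_vanishing (f : PlRing K d (d + r)) (hf : f ∈ vanishing K d (d + r)) :
    Phi0 K d r f = 0 := by
  apply MvPolynomial.funext
  intro y
  rw [map_zero]
  obtain ⟨A, hA⟩ : ∃ A : Matrix (Fin (d + r)) (Fin d) K,
      A = (cellMatrix K d r).map (eval y) := ⟨_, rfl⟩
  have h1 : (MvPolynomial.aeval y : CellRing K d r →ₐ[K] K).comp (Phi0 K d r) =
      evalMinors K d (d + r) A := by
    apply MvPolynomial.algHom_ext
    intro θ
    rw [AlgHom.comp_apply]
    unfold Phi0 evalMinors cellMinor
    rw [aeval_X, aeval_X, AlgHom.map_det]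
    congr 1
    rw [hA]
    rfl
  have h2 := AlgHom.congr_fun h1 f
  rw [AlgHom.comp_apply] at h2
  have h3 : evalMinors K d (d + r) A f = 0 := by
    unfold vanishing at hf
    rw [Ideal.mem_iInf] at hf
    exact RingHom.mem_ker.mp (hf A)
  rw [h3] at h2
  exact h2

lemma plIdealTop_le_vanishing : plIdealTop (d := d) (n := d + r) K ≤ vanishing K d (d + r) := by
  unfold plIdealTop
  rw [Ideal.span_le]
  rintro f ⟨i, j, r', -, rfl⟩
  unfold vanishing
  rw [SetLike.mem_coe, Ideal.mem_iInf]
  intro A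
  rw [RingHom.mem_ker]
  exact SMT2.evalMinors_shuffleRel A i j r'

variable (hr : 0 < r)

/-- The bottom index. -/
abbrev io : Idx d (d + r) := SMT10.iota (Nat.lt_add_of_pos_right hr)

lemma io_val (s : Fin d) : ((io d r hr).1 s).val = s.val := rfl

lemma cellMatrix_io : (cellMatrix K d r).submatrix (io d r hr).1 id = 1 := by
  refine Matrix.ext fun s c => ?_
  rw [Matrix.submatrix_apply, Matrix.one_apply]
  unfold cellMatrix
  rw [Matrix.of_apply]
  have h : ((io d r hr).1 s).val < d := s.isLt
  rw [dif_pos h]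
  show (if s.val = c.val then (1 : CellRing K d r) else 0) = if s = c then 1 else 0
  by_cases hsc : s = c
  · rw [if_pos (by rw [hsc]), if_pos hsc]
  · rw [if_neg (fun h => hsc (Fin.ext h)), if_neg hsc]

lemma Phi0_io : Phi0 K d r (X (io d r hr)) = 1 := by
  rw [Phi0_X]
  unfold cellMinor
  rw [cellMatrix_io K d r hr, Matrix.det_one]

/-- The coordinates of the cell as Plücker coordinates. -/
noncomputable def Psi0 : CellRing K d r →ₐ[K] PlRing K d (d + r) :=
  MvPolynomial.aeval (fun p : Fin r × Fin d =>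
    coord K d (d + r) (Function.update (io d r hr).1 p.2
      ⟨d + p.1.val, by have := p.1.isLt; omega⟩))

lemma Psi0_X (p : Fin r × Fin d) : Psi0 K d r hr (X p) =
    coord K d (d + r) (Function.update (io d r hr).1 p.2
      ⟨d + p.1.val, by have := p.1.isLt; omega⟩) := aeval_X _ _

lemma Phi0_Psi0 (p : Fin r × Fin d) : Phi0 K d r (Psi0 K d r hr (X p)) = X p := by
  rw [Psi0_X, Phi0_coord, Cell2.det_update_of_submatrix_one _ _ (cellMatrix_io K d r hr)]
  unfold cellMatrix
  rw [Matrix.of_apply, dif_neg (by show ¬ d + p.1.val < d; omega)]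
  congr 1
  exact Prod.ext (Fin.ext (by show d + p.1.val - d = p.1.val; omega)) rfl

/-- The ideal of the affine chart of the Grassmannian. -/
noncomputable def chartIdeal : Ideal (PlRing K d (d + r)) :=
  vanishing K d (d + r) ⊔ Ideal.span {X (io d r hr) - 1}

theorem Psi0_cellMinor (θ : Idx d (d + r)) :
    Psi0 K d r hr (cellMinor K d r θ) - X θ ∈ chartIdeal K d r hr := by
  classical
  rw [← Ideal.Quotient.eq]
  obtain ⟨q, hq⟩ : ∃ q : PlRing K d (d + r) →+* PlRing K d (d + r) ⧸ chartIdeal K d r hr,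
      q = Ideal.Quotient.mk _ := ⟨_, rfl⟩
  have hqι : q (X (io d r hr)) = 1 := by
    rw [hq, ← map_one (Ideal.Quotient.mk (chartIdeal K d r hr)), Ideal.Quotient.eq]
    exact Ideal.mem_sup_right (Ideal.subset_span rfl)
  have hpl := Cell2.pluckerId K d (d + r) (io d r hr) θ
  have h1 : q (X θ) = q (Matrix.det (Matrix.of fun s c : Fin d =>
      coord K d (d + r) (Function.update (io d r hr).1 c (θ.1 s)))) := by
    have h2 : q (X θ * X (io d r hr) ^ (d - 1)) = q (Matrix.det (Matrix.of fun s c : Fin d =>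
        coord K d (d + r) (Function.update (io d r hr).1 c (θ.1 s)))) := by
      rw [hq, Ideal.Quotient.eq]
      exact Ideal.mem_sup_left hpl
    rw [map_mul, map_pow, hqι, one_pow, mul_one] at h2
    exact h2
  rw [← hq, h1]
  unfold cellMinor
  rw [AlgHom.map_det, RingHom.map_det, RingHom.map_det]
  congr 1
  refine Matrix.ext fun s c => ?_
  rw [RingHom.mapMatrix_apply, Matrix.map_apply, AlgHom.mapMatrix_apply, Matrix.map_apply,
    Matrix.submatrix_apply, RingHom.mapMatrix_apply, Matrix.map_apply, Matrix.of_apply]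
  show q (Psi0 K d r hr (cellMatrix K d r (θ.1 s) c)) = _
  unfold cellMatrix
  rw [Matrix.of_apply]
  by_cases h : (θ.1 s).val < d
  · rw [dif_pos h]
    by_cases hc : (θ.1 s).val = c.val
    · rw [if_pos hc, map_one, map_one]
      have e1 : θ.1 s = (io d r hr).1 c := Fin.ext hc
      rw [e1, Function.update_eq_self, PluckerQ.coord_strictMono (io d r hr).1 (io d r hr).2, hqι]
    · rw [if_neg hc, map_zero, map_zero]
      have e2 : coord K d (d + r) (Function.update (io d r hr).1 c (θ.1 s)) = 0 := by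
        refine Cell3.coord_eq_zero_of_repeat K _ c ⟨(θ.1 s).val, h⟩ ?_ ?_
        · intro hcc
          apply hc
          rw [hcc]
        · rw [Function.update_self, Function.update_of_ne (fun hcc => hc (by rw [← hcc]))]
          exact Fin.ext rfl
      rw [e2, map_zero]
  · rw [dif_neg h, Psi0_X]
    congr 3
    exact Fin.ext (by show d + ((θ.1 s).val - d) = (θ.1 s).val; omega)

end maps

/-! ### The isomorphism -/

section iso

variable (K : Type u) [Field K] [Infinite K] (d r t : ℕ) (hd : 0 < d) (ht : 0 < t) (htd : t ≤ d)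
  (htr : t ≤ r)

/-- The ideal of the opposite cell of the Schubert variety. -/
noncomputable def aT : Ideal (PlRing K d (d + r)) :=
  schubertVanishing K d (d + r) (tauT d r t ht htr) ⊔
    Ideal.span {X (io d r (lt_of_lt_of_le ht htr)) - 1}

lemma chartIdeal_le : chartIdeal K d r (lt_of_lt_of_le ht htr) ≤ aT K d r t ht htr :=
  sup_le_sup_right (Cell2.vanishing_le K d (d + r) _) _

include hd htd in
lemma bad_iff (θ : Idx d (d + r)) :
    ¬ θ ≤ tauT d r t ht htr ↔ d ≤ (θ.1 ⟨d - t, Nat.sub_lt hd ht⟩).val := by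
  rw [le_tauT_iff d r t hd ht htd htr θ, not_lt]

include hd htd in
lemma Phi0_le : aT K d r t ht htr ≤
    (CAlgX.minorIdeal (genMatrix K r d) t).comap (Phi0 K d r).toRingHom := by
  unfold aT
  refine sup_le ?_ ?_
  · rw [SchubCM.J_eq K hd]
    refine sup_le ?_ ?_
    · intro f hf
      rw [Ideal.mem_comap]
      show Phi0 K d r f ∈ _
      rw [Phi0_vanishing K d r f (plIdealTop_le_vanishing K d r hf)]
      exact zero_mem _
    · rw [Ideal.span_le]
      rintro _ ⟨θ, hθ, rfl⟩
      rw [SetLike.mem_coe, Ideal.mem_comap]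
      show Phi0 K d r (X θ) ∈ _
      rw [Phi0_X, ← CellMinor.main K d r t hd ht htd htr]
      exact Ideal.subset_span ⟨θ, (bad_iff d r t hd ht htd htr θ).mp hθ, rfl⟩
  · rw [Ideal.span_le, Set.singleton_subset_iff, SetLike.mem_coe, Ideal.mem_comap]
    show Phi0 K d r (X _ - 1) ∈ _
    rw [map_sub, Phi0_io, map_one, sub_self]
    exact zero_mem _

include hd htd in
lemma Psi0_le : CAlgX.minorIdeal (genMatrix K r d) t ≤
    (aT K d r t ht htr).comap (Psi0 K d r (lt_of_lt_of_le ht htr)).toRingHom := by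
  rw [← CellMinor.main K d r t hd ht htd htr, Ideal.span_le]
  rintro _ ⟨θ, hθ, rfl⟩
  rw [SetLike.mem_coe, Ideal.mem_comap]
  show Psi0 K d r _ (cellMinor K d r θ) ∈ _
  have h1 := chartIdeal_le K d r t ht htr (Psi0_cellMinor K d r (lt_of_lt_of_le ht htr) θ)
  have h2 : (X θ : PlRing K d (d + r)) ∈ aT K d r t ht htr :=
    Ideal.mem_sup_left (SMT4.X_mem_schubertVanishing K _ θ
      ((bad_iff d r t hd ht htd htr θ).mpr hθ))
  have h3 := Ideal.add_mem _ h1 h2
  rw [sub_add_cancel] at h3
  exact h3

/-- The map to the determinantal ring. -/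
noncomputable def PhiBar : (PlRing K d (d + r) ⧸ aT K d r t ht htr) →+*
    (CellRing K d r ⧸ CAlgX.minorIdeal (genMatrix K r d) t) :=
  Ideal.quotientMap _ (Phi0 K d r).toRingHom (Phi0_le K d r t hd ht htd htr)

/-- The map from the determinantal ring. -/
noncomputable def PsiBar : (CellRing K d r ⧸ CAlgX.minorIdeal (genMatrix K r d) t) →+*
    (PlRing K d (d + r) ⧸ aT K d r t ht htr) :=
  Ideal.quotientMap _ (Psi0 K d r (lt_of_lt_of_le ht htr)).toRingHom
    (Psi0_le K d r t hd ht htd htr)

lemma PhiBar_mk (f : PlRing K d (d + r)) :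
    PhiBar K d r t hd ht htd htr (Ideal.Quotient.mk _ f) = Ideal.Quotient.mk _ (Phi0 K d r f) := by
  unfold PhiBar
  rw [Ideal.quotientMap_mk]
  rfl

lemma PsiBar_mk (g : CellRing K d r) :
    PsiBar K d r t hd ht htd htr (Ideal.Quotient.mk _ g) =
      Ideal.Quotient.mk _ (Psi0 K d r (lt_of_lt_of_le ht htr) g) := by
  unfold PsiBar
  rw [Ideal.quotientMap_mk]
  rfl

lemma PsiBar_PhiBar : (PsiBar K d r t hd ht htd htr).comp (PhiBar K d r t hd ht htd htr) =
    RingHom.id _ := by
  apply Ideal.Quotient.ringHom_ext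
  apply MvPolynomial.ringHom_ext
  · intro c
    rw [RingHom.comp_apply, RingHom.comp_apply, RingHom.comp_apply, RingHom.id_apply, PhiBar_mk]
    have e1 : Phi0 K d r (C c) = C c := (Phi0 K d r).commutes c
    rw [e1, PsiBar_mk]
    have e2 : Psi0 K d r (lt_of_lt_of_le ht htr) (C c) = C c :=
      (Psi0 K d r (lt_of_lt_of_le ht htr)).commutes c
    rw [e2]
  · intro θ
    rw [RingHom.comp_apply, RingHom.comp_apply, RingHom.comp_apply, RingHom.id_apply, PhiBar_mk,
      Phi0_X, PsiBar_mk, Ideal.Quotient.eq]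
    exact chartIdeal_le K d r t ht htr (Psi0_cellMinor K d r (lt_of_lt_of_le ht htr) θ)

lemma PhiBar_PsiBar : (PhiBar K d r t hd ht htd htr).comp (PsiBar K d r t hd ht htd htr) =
    RingHom.id _ := by
  apply Ideal.Quotient.ringHom_ext
  apply MvPolynomial.ringHom_ext
  · intro c
    rw [RingHom.comp_apply, RingHom.comp_apply, RingHom.comp_apply, RingHom.id_apply, PsiBar_mk]
    have e2 : Psi0 K d r (lt_of_lt_of_le ht htr) (C c) = C c :=
      (Psi0 K d r (lt_of_lt_of_le ht htr)).commutes c
    rw [e2, PhiBar_mk]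
    have e1 : Phi0 K d r (C c) = C c := (Phi0 K d r).commutes c
    rw [e1]
  · intro p
    rw [RingHom.comp_apply, RingHom.comp_apply, RingHom.comp_apply, RingHom.id_apply, PsiBar_mk,
      PhiBar_mk, Phi0_Psi0]

/-- The coordinate ring of the opposite cell is the determinantal ring. -/
noncomputable def equivT : (PlRing K d (d + r) ⧸ aT K d r t ht htr) ≃+*
    (CellRing K d r ⧸ CAlgX.minorIdeal (genMatrix K r d) t) :=
  RingEquiv.ofRingHom (PhiBar K d r t hd ht htd htr) (PsiBar K d r t hd ht htd htr)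
    (PhiBar_PsiBar K d r t hd ht htd htr) (PsiBar_PhiBar K d r t hd ht htd htr)

end iso

end Groth.Agent.Helper8.DetB
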