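import Groth.Agent.Helper8.DetB

/-!
# Determinantal rings: domain, normal, Cohen–Macaulay, dimension
-/

set_option autoImplicit false

universe u

open MvPolynomial W4bk4grassmannian

namespace Groth.Agent.Helper8.DetC

variable (K : Type u) [Field K] [Infinite K] (d r t : ℕ)

lemma It_eq_ker (ht : 0 < t) : CAlgX.minorIdeal (genMatrix K r d) t =
    RingHom.ker (pairingMap K (t - 1) r d).toRingHom := by
  rw [Bitab3.s11267 K r (t - 1) d, Nat.sub_add_cancel ht]

theorem isDomain_det (ht : 0 < t) :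
    IsDomain (CellRing K d r ⧸ CAlgX.minorIdeal (genMatrix K r d) t) := by
  rw [It_eq_ker K d r t ht]
  haveI := RingHom.ker_isPrime (pairingMap K (t - 1) r d).toRingHom
  exact Ideal.Quotient.isDomain _

theorem isIntegrallyClosed_det (ht : 0 < t) :
    IsIntegrallyClosed (CellRing K d r ⧸ CAlgX.minorIdeal (genMatrix K r d) t) := by
  obtain ⟨f, hf⟩ : ∃ f : CellRing K d r →+* PairRing K (t - 1) r d,
      f = (pairingMap K (t - 1) r d).toRingHom := ⟨_, rfl⟩
  have hker : CAlgX.minorIdeal (genMatrix K r d) t = RingHom.ker f := by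
    rw [hf]
    exact It_eq_ker K d r t ht
  have hS : ∀ p : PairRing K (t - 1) r d, p ∈ f.range ↔
      ∀ g ∈ {g : PairRing K (t - 1) r d →+* PairRing K (t - 1) r d |
        ∃ A : GL (Fin (t - 1)) K, g = (glTranslate K (t - 1) r d A).toRingHom}, g p = p := by
    intro p
    constructor
    · rintro ⟨x, hx⟩ g ⟨A, hA⟩
      rw [hA]
      have h1 : p ∈ (pairingMap K (t - 1) r d).range := ⟨x, by rw [← hx, hf]⟩
      exact (FFTGL2.main K r (t - 1) d p).mpr h1 A
    · intro hp
      obtain ⟨x, hx⟩ := (FFTGL2.main K r (t - 1) d p).mp (fun A => hp _ ⟨A, rfl⟩)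
      exact ⟨x, by rw [hf]; exact hx⟩
  haveI : IsIntegrallyClosed f.range := DetA.isIntegrallyClosed_of_fixed f.range _ hS
  have e : (CellRing K d r ⧸ CAlgX.minorIdeal (genMatrix K r d) t) ≃+* f.range :=
    (Ideal.quotEquivOfEq hker).trans (RingHom.quotientKerEquivRange f)
  exact IsIntegrallyClosed.of_equiv e.symm

section schubert

variable (hd : 0 < d) (ht : 0 < t) (htd : t ≤ d) (htr : t ≤ r)

/-- The Schubert cone modulo `X_ι - 1` is the determinantal ring. -/
noncomputable def equivQ :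
    ((PlRing K d (d + r) ⧸ schubertVanishing K d (d + r) (DetB.tauT d r t ht htr)) ⧸
      Ideal.span {Ideal.Quotient.mk (schubertVanishing K d (d + r) (DetB.tauT d r t ht htr))
        (X (DetB.io d r (lt_of_lt_of_le ht htr)) - 1)}) ≃+*
    (CellRing K d r ⧸ CAlgX.minorIdeal (genMatrix K r d) t) :=
  ((Ideal.quotEquivOfEq (by
      rw [Ideal.map_span, Set.image_singleton])).trans
    (DoubleQuot.quotQuotEquivQuotSup (schubertVanishing K d (d + r) (DetB.tauT d r t ht htr))
      (Ideal.span {X (DetB.io d r (lt_of_lt_of_le ht htr)) - 1}))).trans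
    (DetB.equivT K d r t hd ht htd htr)

include hd in
lemma xbar_ne_zero : Ideal.Quotient.mk (schubertVanishing K d (d + r) (DetB.tauT d r t ht htr))
    (X (DetB.io d r (lt_of_lt_of_le ht htr)) - 1) ≠ 0 := by
  intro h0
  rw [Ideal.Quotient.eq_zero_iff_mem] at h0
  have h1 := SchubCM.J_le_M0 K hd _ h0
  rw [RingHom.mem_ker, map_sub, constantCoeff_X, map_one, zero_sub, neg_eq_zero] at h1
  exact one_ne_zero h1

include hd ht htd htr in
theorem cm_det : LocCoh.IsCohenMacaulayRing
    (CellRing K d r ⧸ CAlgX.minorIdeal (genMatrix K r d) t) := by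
  have hr : 0 < r := lt_of_lt_of_le ht htr
  have hdn : d < d + r := Nat.lt_add_of_pos_right hr
  haveI hprime := SMT10.isPrime_J K hd (DetB.tauT d r t ht htr)
  haveI : IsDomain (PlRing K d (d + r) ⧸ schubertVanishing K d (d + r) (DetB.tauT d r t ht htr)) :=
    Ideal.Quotient.isDomain _
  have hcm := SchubCM.s11258 K hd hdn (DetB.tauT d r t ht htr)
  have h1 := DetA.cm_quot_nzd _ hcm _
    (mem_nonZeroDivisors_of_ne_zero (xbar_ne_zero K d r t hd ht htr))
  exact Groth.Agent.Helper2.CplQuot2.isCohenMacaulayRing_of_ringEquiv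
    (equivQ K d r t hd ht htd htr) h1

include hd ht htd htr in
theorem dim_det : ringKrullDim (CellRing K d r ⧸ CAlgX.minorIdeal (genMatrix K r d) t) =
    (((t - 1) * (d + r - t + 1) : ℕ) : WithBot ℕ∞) := by
  have hr : 0 < r := lt_of_lt_of_le ht htr
  have hdn : d < d + r := Nat.lt_add_of_pos_right hr
  haveI hprime := SMT10.isPrime_J K hd (DetB.tauT d r t ht htr)
  haveI : IsDomain (PlRing K d (d + r) ⧸ schubertVanishing K d (d + r) (DetB.tauT d r t ht htr)) :=
    Ideal.Quotient.isDomain _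
  haveI : Algebra.FiniteType K
      (PlRing K d (d + r) ⧸ schubertVanishing K d (d + r) (DetB.tauT d r t ht htr)) :=
    Algebra.FiniteType.of_surjective (Ideal.Quotient.mkₐ K _) (Ideal.Quotient.mkₐ_surjective K _)
  haveI hdom := isDomain_det K d r t ht
  have hdimR := SMT10.dim_schubert K hd hdn _ (DetB.tauT d r t ht htr) rfl
  rw [DetB.codeg_tauT d r t ht htd htr] at hdimR
  have hne : Ideal.span {Ideal.Quotient.mk
      (schubertVanishing K d (d + r) (DetB.tauT d r t ht htr))
      (X (DetB.io d r hr) - 1)} ≠ ⊤ := by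
    intro htop
    have hsub : Subsingleton ((PlRing K d (d + r) ⧸
        schubertVanishing K d (d + r) (DetB.tauT d r t ht htr)) ⧸
      Ideal.span {Ideal.Quotient.mk (schubertVanishing K d (d + r) (DetB.tauT d r t ht htr))
        (X (DetB.io d r hr) - 1)}) := by
      rw [htop]
      exact Ideal.Quotient.subsingleton_iff.mpr rfl
    have hsub2 : Subsingleton (CellRing K d r ⧸ CAlgX.minorIdeal (genMatrix K r d) t) :=
      (equivQ K d r t hd ht htd htr).symm.injective.subsingleton
    exact not_subsingleton _ hsub2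
  have h2 := DetA.dim_quot_nzd K _ _ (xbar_ne_zero K d r t hd ht htr) hne
  rw [hdimR, ringKrullDim_eq_of_ringEquiv (equivQ K d r t hd ht htd htr)] at h2
  have hnb : ringKrullDim (CellRing K d r ⧸ CAlgX.minorIdeal (genMatrix K r d) t) ≠ ⊥ := by
    intro hbot
    have h5 := ringKrullDim_nonneg_of_nontrivial
      (R := CellRing K d r ⧸ CAlgX.minorIdeal (genMatrix K r d) t)
    rw [hbot] at h5
    exact absurd h5 (by simp)
  obtain ⟨y, hy⟩ := WithBot.ne_bot_iff_exists.mp hnb
  rw [← hy] at h2 ⊢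
  have h3 : y + 1 = (((t - 1) * (d + r - t + 1) : ℕ) : ℕ∞) + 1 := by
    have h6 : ((y + 1 : ℕ∞) : WithBot ℕ∞) =
        (((((t - 1) * (d + r - t + 1) : ℕ) : ℕ∞) + 1 : ℕ∞) : WithBot ℕ∞) := by
      push_cast
      exact h2
    exact WithBot.coe_injective h6
  have h4 := ENat.add_left_injective_of_ne_top ENat.one_ne_top h3
  rw [h4]
  rfl

end schubert

theorem s11264 (m n t : ℕ) (hm : 0 < m) (hn : 0 < n) (ht : 1 ≤ t) (htm : t ≤ m) (htn : t ≤ n) :
    IsDomain (MvPolynomial (Fin m × Fin n) K ⧸ CAlgX.minorIdeal (genMatrix K m n) t) ∧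
      IsIntegrallyClosed (MvPolynomial (Fin m × Fin n) K ⧸ CAlgX.minorIdeal (genMatrix K m n) t) ∧
      LocCoh.IsCohenMacaulayRing
        (MvPolynomial (Fin m × Fin n) K ⧸ CAlgX.minorIdeal (genMatrix K m n) t) ∧
      ringKrullDim (MvPolynomial (Fin m × Fin n) K ⧸ CAlgX.minorIdeal (genMatrix K m n) t) =
        (((t - 1) * (m + n - t + 1) : ℕ) : WithBot ℕ∞) := by
  refine ⟨isDomain_det K n m t ht, isIntegrallyClosed_det K n m t ht,
    cm_det K n m t hn ht htn htm, ?_⟩
  rw [Nat.add_comm m n]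
  exact dim_det K n m t hn ht htn htm

end Groth.Agent.Helper8.DetC
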