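import Groth.Agent.Helper8.DetC
import Groth.Agent.Helper5.DimBC

/-!
# Dimension of generic determinantal rings over any field

Base change to the algebraic closure reduces to `DetC.dim_det`.
-/

set_option autoImplicit false

universe u

open MvPolynomial TensorProduct W4bk4grassmannian

namespace Groth.Agent.Helper8.DetDim

section bc

variable (k : Type u) [Field k] (K : Type u) [Field K] [Algebra k K] (n m t : ℕ)

/-- The generic matrix. -/
noncomputable abbrev gm (F : Type u) [Field F] : Matrix (Fin n) (Fin m) (MvPolynomial (Fin n × Fin m) F) :=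
  Matrix.of fun i j => X (i, j)

lemma map_det (fg : (Fin t → Fin n) × (Fin t → Fin m)) :
    MvPolynomial.map (algebraMap k K) (((gm n m k).submatrix fg.1 fg.2).det) =
      ((gm n m K).submatrix fg.1 fg.2).det := by
  rw [RingHom.map_det]
  congr 1
  ext a b
  simp only [RingHom.mapMatrix_apply, Matrix.map_apply, Matrix.submatrix_apply, Matrix.of_apply,
    MvPolynomial.map_X]

lemma map_minorIdeal :
    (CAlgX.minorIdeal (gm n m k) t).map (MvPolynomial.map (algebraMap k K)) =
      CAlgX.minorIdeal (gm n m K) t := by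
  unfold CAlgX.minorIdeal
  rw [Ideal.map_span, ← Set.range_comp]
  congr 2
  funext fg
  exact map_det k K n m t fg

lemma comp_eq : ((MvPolynomial.algebraTensorAlgEquiv (σ := Fin n × Fin m) k K).toRingEquiv :
      K ⊗[k] MvPolynomial (Fin n × Fin m) k →+* MvPolynomial (Fin n × Fin m) K).comp
      (Algebra.TensorProduct.includeRight :
        MvPolynomial (Fin n × Fin m) k →ₐ[k] K ⊗[k] MvPolynomial (Fin n × Fin m) k).toRingHom =
    MvPolynomial.map (algebraMap k K) := by
  refine RingHom.ext fun p => ?_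
  show MvPolynomial.algebraTensorAlgEquiv k K ((1 : K) ⊗ₜ[k] p) = _
  rw [MvPolynomial.algebraTensorAlgEquiv_tmul, one_smul]

theorem nonempty_bcEquiv :
    Nonempty ((K ⊗[k] (MvPolynomial (Fin n × Fin m) k ⧸ CAlgX.minorIdeal (gm n m k) t)) ≃+*
      (MvPolynomial (Fin n × Fin m) K ⧸ CAlgX.minorIdeal (gm n m K) t)) := by
  refine ⟨((Algebra.TensorProduct.tensorQuotientEquiv (R := k) K
    (MvPolynomial (Fin n × Fin m) k) K (CAlgX.minorIdeal (gm n m k) t)).toRingEquiv).trans
    (Ideal.quotientEquiv _ _ (MvPolynomial.algebraTensorAlgEquiv k K).toRingEquiv ?_)⟩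
  show _ = Ideal.map ((MvPolynomial.algebraTensorAlgEquiv (σ := Fin n × Fin m) k K).toRingEquiv :
      K ⊗[k] MvPolynomial (Fin n × Fin m) k →+* MvPolynomial (Fin n × Fin m) K)
    (Ideal.map (Algebra.TensorProduct.includeRight :
        MvPolynomial (Fin n × Fin m) k →ₐ[k] K ⊗[k] MvPolynomial (Fin n × Fin m) k).toRingHom
      (CAlgX.minorIdeal (gm n m k) t))
  rw [Ideal.map_map]
  have h := comp_eq k K n m
  rw [← map_minorIdeal k K n m t, ← h]

theorem dim_bc :
    ringKrullDim (MvPolynomial (Fin n × Fin m) K ⧸ CAlgX.minorIdeal (gm n m K) t) =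
      ringKrullDim (MvPolynomial (Fin n × Fin m) k ⧸ CAlgX.minorIdeal (gm n m k) t) := by
  obtain ⟨e⟩ := nonempty_bcEquiv k K n m t
  haveI : Algebra.FiniteType k
      (MvPolynomial (Fin n × Fin m) k ⧸ CAlgX.minorIdeal (gm n m k) t) :=
    Algebra.FiniteType.of_surjective (Ideal.Quotient.mkₐ k _) (Ideal.Quotient.mkₐ_surjective k _)
  rw [← ringKrullDim_eq_of_ringEquiv e,
    ringKrullDim_eq_of_ringEquiv (Algebra.TensorProduct.comm k K
      (MvPolynomial (Fin n × Fin m) k ⧸ CAlgX.minorIdeal (gm n m k) t)).toRingEquiv,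
    Groth.Agent.Helper5.DimBC.ringKrullDim_tensor_field k K _]

end bc

theorem minorIdeal_eq_bot (k : Type u) [Field k] (n m t : ℕ) (h : n < t ∨ m < t) :
    CAlgX.minorIdeal (gm n m k) t = ⊥ := by
  unfold CAlgX.minorIdeal
  rw [Ideal.span_eq_bot]
  rintro _ ⟨fg, rfl⟩
  rcases h with h | h
  · obtain ⟨a, b, hab, hne⟩ := Fintype.exists_ne_map_eq_of_card_lt fg.1 (by
      rw [Fintype.card_fin, Fintype.card_fin]; exact h)
    refine Matrix.det_zero_of_row_eq hab (funext fun j => ?_)
    rw [Matrix.submatrix_apply, Matrix.submatrix_apply, hne]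
  · obtain ⟨a, b, hab, hne⟩ := Fintype.exists_ne_map_eq_of_card_lt fg.2 (by
      rw [Fintype.card_fin, Fintype.card_fin]; exact h)
    refine Matrix.det_zero_of_column_eq hab (fun i => ?_)
    rw [Matrix.submatrix_apply, Matrix.submatrix_apply, hne]

theorem main (k : Type u) [Field k] (n m r : ℕ) (hr : r ≤ min n m) :
    ringKrullDim (MvPolynomial (Fin n × Fin m) k ⧸ CAlgX.minorIdeal
      (Matrix.of fun (i : Fin n) (j : Fin m) =>
        (MvPolynomial.X (i, j) : MvPolynomial (Fin n × Fin m) k)) (r + 1)) =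
      ((r * (m + n - r) : ℕ) : WithBot ℕ∞) := by
  by_cases hlt : r < min n m
  · have hn : r + 1 ≤ n := lt_of_lt_of_le hlt (min_le_left _ _)
    have hm : r + 1 ≤ m := lt_of_lt_of_le hlt (min_le_right _ _)
    have h1 := dim_bc k (AlgebraicClosure k) n m (r + 1)
    have h2 := DetC.dim_det (AlgebraicClosure k) m n (r + 1) (by omega) (by omega) hm hn
    show ringKrullDim (MvPolynomial (Fin n × Fin m) k ⧸ CAlgX.minorIdeal (gm n m k) (r + 1)) = _
    rw [← h1]
    have h3 : (r + 1 - 1) * (m + n - (r + 1) + 1) = r * (m + n - r) := by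
      have e1 : r + 1 - 1 = r := by omega
      have e2 : m + n - (r + 1) + 1 = m + n - r := by omega
      rw [e1, e2]
    rw [h3] at h2
    exact h2
  · have hrmin : r = min n m := le_antisymm hr (not_lt.mp hlt)
    have hI : CAlgX.minorIdeal (gm n m k) (r + 1) = ⊥ := by
      apply minorIdeal_eq_bot
      rcases le_total n m with h | h
      · left
        rw [hrmin, min_eq_left h]
        exact Nat.lt_succ_self _
      · right
        rw [hrmin, min_eq_right h]
        exact Nat.lt_succ_self _
    show ringKrullDim (MvPolynomial (Fin n × Fin m) k ⧸ CAlgX.minorIdeal (gm n m k) (r + 1)) = _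
    rw [hI, ringKrullDim_eq_of_ringEquiv (RingEquiv.quotientBot _),
      MvPolynomial.ringKrullDim_of_isNoetherianRing, ringKrullDim_eq_zero_of_field, zero_add,
      Nat.card_prod, Nat.card_fin, Nat.card_fin]
    have h4 : n * m = r * (m + n - r) := by
      rcases le_total n m with h | h
      · rw [hrmin, min_eq_left h]
        have : m + n - n = m := by omega
        rw [this]
      · rw [hrmin, min_eq_right h]
        have : m + n - m = n := by omega
        rw [this, mul_comm]
    rw [h4]

end Groth.Agent.Helper8.DetDim
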