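import Mathlib

namespace Groth.Agent.Helper8.Deviation

open Finset

universe u v
variable {A : Type u} {G : Type v} [AddCommGroup A] [AddCommGroup G] (f : A → G)

def T {ι : Type*} [DecidableEq ι] (s : Finset ι) (x : ι → A) (c : A) : G :=
  ∑ I ∈ s.powerset, ((-1 : ℤ) ^ I.card) • f (c + ∑ i ∈ I, x i)

theorem T_insert {ι : Type*} [DecidableEq ι] (s : Finset ι) (x : ι → A) (c : A) (k : ι)
    (hk : k ∉ s) : T f (insert k s) x c = T f s x c - T f s x (c + x k) := by
  unfold T
  rw [Finset.sum_powerset_insert hk, sub_eq_add_neg, ← Finset.sum_neg_distrib]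
  congr 1
  refine Finset.sum_congr rfl fun I hI => ?_
  have hkI : k ∉ I := fun h => hk (Finset.mem_powerset.mp hI h)
  rw [Finset.card_insert_of_notMem hkI, Finset.sum_insert hkI, pow_succ, mul_neg_one, neg_smul,
    add_assoc]

theorem T_congr {ι : Type*} [DecidableEq ι] (s : Finset ι) (x x' : ι → A) (c : A)
    (h : ∀ i ∈ s, x i = x' i) : T f s x c = T f s x' c := by
  unfold T
  refine Finset.sum_congr rfl fun I hI => ?_
  rw [Finset.sum_congr rfl fun i hi => h i (Finset.mem_powerset.mp hI hi)]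

theorem T_map {ι κ : Type*} [DecidableEq ι] [DecidableEq κ] (e : ι ↪ κ) (s : Finset ι)
    (x : κ → A) (c : A) : T f (s.map e) x c = T f s (x ∘ e) c := by
  induction s using Finset.induction_on generalizing c with
  | empty => simp [T]
  | insert k s hk ih =>
    rw [Finset.map_insert, T_insert f _ _ _ _ (by simpa using hk), T_insert f _ _ _ _ hk, ih, ih]
    rfl

/-- the signless deviation -/
def E {ι : Type*} [DecidableEq ι] [Fintype ι] (x : ι → A) : G :=
  ∑ I ∈ ((Finset.univ : Finset ι).powerset.erase ∅), ((-1 : ℤ) ^ I.card) • f (∑ i ∈ I, x i)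

theorem E_eq {ι : Type*} [DecidableEq ι] [Fintype ι] (x : ι → A) :
    E f x = T f Finset.univ x 0 - f 0 := by
  unfold E T
  rw [eq_sub_iff_add_eq, add_comm]
  have := Finset.add_sum_erase (Finset.univ : Finset ι).powerset
    (fun I => ((-1 : ℤ) ^ I.card) • f (∑ i ∈ I, x i)) (Finset.empty_mem_powerset _)
  simp only [Finset.card_empty, pow_zero, Finset.sum_empty, one_smul] at this
  rw [this]
  refine Finset.sum_congr rfl fun I _ => ?_
  rw [zero_add]

theorem T_update {ι : Type*} [DecidableEq ι] [Fintype ι] (j : ι) (y : ι → A) (a c : A) :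
    T f Finset.univ (Function.update y j a) c =
      T f (Finset.univ.erase j) y c - T f (Finset.univ.erase j) y (c + a) := by
  rw [← Finset.insert_erase (Finset.mem_univ j), T_insert f _ _ _ _ (Finset.notMem_erase _ _),
    Function.update_self, Finset.insert_erase (Finset.mem_univ j)]
  have : ∀ i ∈ Finset.univ.erase j, Function.update y j a i = y i := by
    intro i hi
    rw [Function.update_of_ne (Finset.ne_of_mem_erase hi)]
  rw [T_congr f _ _ _ c this, T_congr f _ _ _ (c + a) this]

theorem E_cons (n : ℕ) (j : Fin n) (y : Fin n → A) (a b : A) :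
    E f (Fin.cons b (Function.update y j a) : Fin (n + 1) → A) =
      -(E f (Function.update y j (a + b)) - E f (Function.update y j a)
        - E f (Function.update y j b)) := by
  rw [E_eq, E_eq, E_eq, E_eq, Fin.univ_succ, Finset.cons_eq_insert,
    T_insert f _ _ _ _ (by simp), T_map, T_map]
  have : ((Fin.cons b (Function.update y j a) : Fin (n + 1) → A) ∘
      (⟨Fin.succ, Fin.succ_injective n⟩ : Fin n ↪ Fin (n + 1))) = Function.update y j a := by
    funext i
    simp only [Function.comp, Function.Embedding.coeFn_mk, Fin.cons_succ]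
  rw [this, Fin.cons_zero]
  simp only [T_update, zero_add]
  rw [add_comm b a]
  abel

theorem key (n : ℕ) (j : Fin n) (y : Fin n → A) (a b : A) :
    ∑ I ∈ ((Finset.univ : Finset (Fin (n + 1))).powerset.erase ∅),
      ((-1 : ℤ) ^ (n + 1 + I.card)) • f (∑ i ∈ I,
        (Fin.cons b (Function.update y j a) : Fin (n + 1) → A) i) =
    ∑ I ∈ ((Finset.univ : Finset (Fin n)).powerset.erase ∅),
        ((-1 : ℤ) ^ (n + I.card)) • f (∑ i ∈ I, (Function.update y j (a + b)) i) -
      ∑ I ∈ ((Finset.univ : Finset (Fin n)).powerset.erase ∅),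
        ((-1 : ℤ) ^ (n + I.card)) • f (∑ i ∈ I, (Function.update y j a) i) -
      ∑ I ∈ ((Finset.univ : Finset (Fin n)).powerset.erase ∅),
        ((-1 : ℤ) ^ (n + I.card)) • f (∑ i ∈ I, (Function.update y j b) i) := by
  have h1 : ∀ (k : ℕ) {ι : Type} [DecidableEq ι] [Fintype ι] (x : ι → A),
      ∑ I ∈ ((Finset.univ : Finset ι).powerset.erase ∅),
        ((-1 : ℤ) ^ (k + I.card)) • f (∑ i ∈ I, x i) = ((-1 : ℤ) ^ k) • E f x := by
    intro k ι _ _ x
    unfold E
    rw [Finset.smul_sum]
    refine Finset.sum_congr rfl fun I _ => ?_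
    rw [pow_add, mul_smul]
  rw [h1, h1, h1, h1, E_cons, pow_succ]
  simp only [mul_neg_one, neg_smul, smul_neg, smul_sub]
  abel

theorem main (n : ℕ) (hn : 1 ≤ n) :
    (∀ x : Fin (n + 1) → A, ∑ I ∈ ((Finset.univ : Finset (Fin (n + 1))).powerset.erase ∅), ((-1 : ℤ) ^ (n + 1 + I.card)) • f (∑ i ∈ I, x i) = 0) ↔
      (∀ (j : Fin n) (y : Fin n → A) (a b : A),
        ∑ I ∈ ((Finset.univ : Finset (Fin n)).powerset.erase ∅), ((-1 : ℤ) ^ (n + I.card)) • f (∑ i ∈ I, (Function.update y j (a + b)) i) =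
          ∑ I ∈ ((Finset.univ : Finset (Fin n)).powerset.erase ∅), ((-1 : ℤ) ^ (n + I.card)) • f (∑ i ∈ I, (Function.update y j a) i) + ∑ I ∈ ((Finset.univ : Finset (Fin n)).powerset.erase ∅), ((-1 : ℤ) ^ (n + I.card)) • f (∑ i ∈ I, (Function.update y j b) i)) := by
  constructor
  · intro h j y a b
    have h1 := key f n j y a b
    rw [h (Fin.cons b (Function.update y j a))] at h1
    rw [eq_comm, sub_sub, sub_eq_zero] at h1
    exact h1
  · intro h x
    obtain ⟨n', rfl⟩ : ∃ n', n = n' + 1 := ⟨n - 1, by omega⟩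
    have hx : x = Fin.cons (x 0) (Function.update (Fin.tail x) 0 (Fin.tail x 0)) := by
      rw [Function.update_eq_self, Fin.cons_self_tail]
    rw [hx, key f (n' + 1) 0 (Fin.tail x) (Fin.tail x 0) (x 0), sub_sub, sub_eq_zero]
    exact h 0 (Fin.tail x) (Fin.tail x 0) (x 0)

end Groth.Agent.Helper8.Deviation
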