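import Mathlib

/-!
# Smooth monoid algebras of fine sharp monoids are polynomial rings

If `N` is a finitely generated cancellative sharp commutative monoid and `R[N]` is smooth over `R`,
then the surjection `R[x_s : s atom of N] → R[N]` is an isomorphism (conormal sequence + Nakayama).
-/

universe u

namespace Groth.Agent.Helper8.DiagMon

open MvPolynomial TensorProduct

noncomputable section

variable (R : Type u) [CommRing R] {N : Type} [AddCommMonoid N]

/-- the additive map `ℕ^S → N` -/
def pi (S : Finset N) : (S →₀ ℕ) →+ N :=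
  (Finsupp.linearCombination ℕ (fun i : S => (i : N))).toAddMonoidHom

lemma pi_single (S : Finset N) (i : S) (k : ℕ) : pi S (Finsupp.single i k) = k • (i : N) := by
  simp [pi]

/-- the algebra map `R[x_s] → R[N]` -/
def phi (S : Finset N) : MvPolynomial S R →ₐ[R] AddMonoidAlgebra R N :=
  MvPolynomial.aeval (fun i : S => AddMonoidAlgebra.single (i : N) (1 : R))

lemma phi_monomial (S : Finset N) (α : S →₀ ℕ) (c : R) :
    phi R S (monomial α c) = AddMonoidAlgebra.single (pi S α) c := by
  induction α using Finsupp.induction with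
  | zero =>
    rw [map_zero]
    change phi R S (C c) = _
    rw [← MvPolynomial.algebraMap_eq, AlgHom.commutes]
    rfl
  | single_add i k f hi hk ih =>
    have : monomial (Finsupp.single i k + f) c = X i ^ k * monomial f c := by
      rw [X_pow_eq_monomial, monomial_mul, one_mul]
    rw [this, map_mul, map_pow, ih, map_add, pi_single]
    simp only [phi, aeval_X]
    rw [AddMonoidAlgebra.single_pow, one_pow, AddMonoidAlgebra.single_mul_single, one_mul]

lemma coeff_phi_of_isolated (S : Finset N) (β : S →₀ ℕ)
    (hβ : ∀ α, pi S α = pi S β → α = β) (p : MvPolynomial S R) :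
    (phi R S p).coeff (pi S β) = MvPolynomial.coeff β p := by
  classical
  induction p using MvPolynomial.induction_on' with
  | monomial α c =>
    rw [phi_monomial, AddMonoidAlgebra.coeff_single, MvPolynomial.coeff_monomial,
      Finsupp.single_apply]
    by_cases h : α = β
    · subst h; simp
    · rw [if_neg h, if_neg (fun h' => h (hβ α h'))]
  | add p q hp hq =>
    rw [map_add, AddMonoidAlgebra.coeff_add, Finsupp.add_apply, hp, hq, MvPolynomial.coeff_add]

variable {R}

lemma exists_single_add {ι : Type*} {α : ι →₀ ℕ} (hα : α ≠ 0) :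
    ∃ (j : ι) (γ : ι →₀ ℕ), α = Finsupp.single j 1 + γ := by
  classical
  obtain ⟨j, hj⟩ := Finsupp.ne_iff.1 hα
  refine ⟨j, α - Finsupp.single j 1, ?_⟩
  rw [add_tsub_cancel_of_le]
  rw [Finsupp.single_le_iff]
  simp only [Finsupp.coe_zero, Pi.zero_apply] at hj
  omega

lemma pi_eq_zero (S : Finset N) (hsharp : ∀ n : N, IsAddUnit n → n = 0)
    (hS : ∀ i ∈ S, AddIrreducible i) {α : S →₀ ℕ} (h : pi S α = 0) : α = 0 := by
  by_contra hα
  obtain ⟨j, γ, rfl⟩ := exists_single_add hα
  rw [map_add, pi_single, one_smul] at h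
  exact (hS j j.2).not_isAddUnit (IsAddUnit.of_add_eq_zero _ h)

lemma pi_eq_atom (S : Finset N) (hsharp : ∀ n : N, IsAddUnit n → n = 0)
    (hS : ∀ i ∈ S, AddIrreducible i) (i : S) {α : S →₀ ℕ} (h : pi S α = (i : N)) :
    α = Finsupp.single i 1 := by
  have hα : α ≠ 0 := by
    rintro rfl
    rw [map_zero] at h
    exact (hS i i.2).not_isAddUnit (h ▸ isAddUnit_zero)
  obtain ⟨j, γ, rfl⟩ := exists_single_add hα
  rw [map_add, pi_single, one_smul] at h
  rcases (hS i i.2).isAddUnit_or_isAddUnit h.symm with hj | hγ
  · exact absurd hj (hS j j.2).not_isAddUnit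
  · have hγ0 : γ = 0 := pi_eq_zero S hsharp hS (hsharp _ hγ)
    subst hγ0
    rw [map_zero, add_zero] at h
    rw [add_zero, Subtype.ext h]

end

end Groth.Agent.Helper8.DiagMon
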