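import Groth.Agent.Helper8.DiagMonA

/-!
# Smooth monoid algebras of fine sharp monoids are polynomial rings, part B
-/

universe u

namespace Groth.Agent.Helper8.DiagMon

open MvPolynomial TensorProduct KaehlerDifferential

noncomputable section

variable {R : Type u} [CommRing R] {N : Type} [AddCommMonoid N]

lemma eq_zero_of_mul_eq_zero_of_constantCoeff {σ : Type*} (r q : MvPolynomial σ R)
    (hr : constantCoeff r = 1) (h : r * q = 0) : q = 0 := by
  have h1 : (r : MvPowerSeries σ R) * (q : MvPowerSeries σ R) = 0 := by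
    rw [← MvPolynomial.coe_mul, h, MvPolynomial.coe_zero]
  have hu : IsUnit (r : MvPowerSeries σ R) := by
    rw [MvPowerSeries.isUnit_iff_constantCoeff]
    have : MvPowerSeries.constantCoeff (r : MvPowerSeries σ R) = constantCoeff r := by
      rw [← MvPowerSeries.coeff_zero_eq_constantCoeff_apply, MvPolynomial.coeff_coe]; rfl
    rw [this, hr]; exact isUnit_one
  have := hu.mul_right_eq_zero.1 h1
  exact MvPolynomial.coe_eq_zero_iff.1 this

theorem phi_injective (S : Finset N) (hsharp : ∀ n : N, IsAddUnit n → n = 0)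
    (hS : ∀ i ∈ S, AddIrreducible i) (hsurj : Function.Surjective (phi R S))
    [Algebra.Smooth R (AddMonoidAlgebra R N)] : Function.Injective (phi R S) := by
  classical
  letI : Algebra (MvPolynomial S R) (AddMonoidAlgebra R N) := (phi R S).toRingHom.toAlgebra
  haveI : IsScalarTower R (MvPolynomial S R) (AddMonoidAlgebra R N) :=
    IsScalarTower.of_algebraMap_eq' (phi R S).comp_algebraMap.symm
  have hsurj' : Function.Surjective
      (algebraMap (MvPolynomial S R) (AddMonoidAlgebra R N)) := hsurj
  have hfs : Algebra.FormallySmooth R (AddMonoidAlgebra R N) := inferInstance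
  set K : Ideal (MvPolynomial S R) :=
    RingHom.ker (algebraMap (MvPolynomial S R) (AddMonoidAlgebra R N)) with hK
  obtain ⟨l, hl⟩ := (Algebra.FormallySmooth.iff_split_injection (R := R)
    (P := MvPolynomial S R) (A := AddMonoidAlgebra R N) hsurj').mp hfs
  have hKmem : ∀ p, p ∈ K ↔ phi R S p = 0 := fun p => RingHom.mem_ker
  have h0 : ∀ p ∈ K, coeff 0 p = 0 := by
    intro p hp
    have := coeff_phi_of_isolated R S 0
      (fun α hα => pi_eq_zero S hsharp hS (by rw [hα, map_zero])) p
    rw [← this, (hKmem p).1 hp]; simp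
  have h1 : ∀ p ∈ K, ∀ i : S, coeff (Finsupp.single i 1) p = 0 := by
    intro p hp i
    have := coeff_phi_of_isolated R S (Finsupp.single i 1)
      (fun α hα => pi_eq_atom S hsharp hS i (by rw [hα, pi_single, one_smul])) p
    rw [← this, (hKmem p).1 hp]; simp
  let 𝔪 : Ideal (MvPolynomial S R) := RingHom.ker (constantCoeff (R := R) (σ := S))
  have hK𝔪 : K ≤ 𝔪 := fun p hp => by
    rw [RingHom.mem_ker]; exact h0 p hp
  have hq : ∀ i : S, ∃ q : K, K.toCotangent q =
      l ((1 : AddMonoidAlgebra R N) ⊗ₜ[MvPolynomial S R] D R (MvPolynomial S R) (X i)) :=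
    fun i => Ideal.toCotangent_surjective _ _
  choose q hq using hq
  have key : K ≤ 𝔪 • K := by
    intro p hp
    have e1 : K.toCotangent ⟨p, hp⟩ = l (1 ⊗ₜ D R (MvPolynomial S R) p) := by
      have := LinearMap.congr_fun hl (K.toCotangent ⟨p, hp⟩)
      rw [LinearMap.comp_apply, kerCotangentToTensor_toCotangent, LinearMap.id_apply] at this
      exact this.symm
    have e2 : D R (MvPolynomial S R) p = ∑ i, pderiv i p • D R (MvPolynomial S R) (X i) := by
      have := (mvPolynomialBasis R S).sum_repr (D R (MvPolynomial S R) p)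
      simp only [mvPolynomialBasis_repr_apply, mvPolynomialBasis_apply] at this
      exact this.symm
    have e3 : K.toCotangent ⟨p, hp⟩ = K.toCotangent (∑ i, pderiv i p • q i) := by
      rw [e1, e2, TensorProduct.tmul_sum, map_sum, map_sum]
      refine Finset.sum_congr rfl fun i _ => ?_
      rw [TensorProduct.tmul_smul, map_smul, map_smul, hq]
    rw [Ideal.toCotangent_eq] at e3
    have e4 : ((∑ i, pderiv i p • q i : K) : MvPolynomial S R) ∈ 𝔪 * K := by
      rw [Submodule.coe_sum]
      refine Ideal.sum_mem _ fun i _ => ?_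
      rw [Submodule.coe_smul, smul_eq_mul]
      refine Ideal.mul_mem_mul ?_ (q i).2
      rw [RingHom.mem_ker]
      change coeff 0 (pderiv i p) = 0
      rw [coeff_pderiv, zero_add, h1 p hp i, zero_mul]
    have e5 : K ^ 2 ≤ 𝔪 * K := by
      rw [pow_two]; exact Ideal.mul_mono_left hK𝔪
    have : p = (p - ((∑ i, pderiv i p • q i : K) : MvPolynomial S R)) +
        ((∑ i, pderiv i p • q i : K) : MvPolynomial S R) := by ring
    rw [this]
    exact Ideal.add_mem _ (e5 e3) e4
  have hKfg : K.FG := Algebra.FinitePresentation.ker_fG_of_surjective (phi R S) hsurj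
  obtain ⟨r, hr1, hr2⟩ :=
    Submodule.exists_sub_one_mem_and_smul_eq_zero_of_fg_of_le_smul 𝔪 K hKfg key
  have hrc : constantCoeff r = 1 := by
    have := RingHom.mem_ker.1 hr1
    rw [map_sub, map_one, sub_eq_zero] at this
    exact this
  have hKbot : K = ⊥ := by
    rw [eq_bot_iff]
    intro p hp
    have := hr2 p hp
    rw [smul_eq_mul] at this
    exact eq_zero_of_mul_eq_zero_of_constantCoeff r p hrc this
  exact (RingHom.injective_iff_ker_eq_bot _).2 hKbot

theorem main (R : Type u) [CommRing R] (N : Type) [AddCommMonoid N] [AddMonoid.FG N]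
    [IsCancelAdd N] (hsharp : ∀ n : N, IsAddUnit n → n = 0)
    [Algebra.Smooth R (AddMonoidAlgebra R N)] :
    ∃ (P : Type u) (_ : AddCommGroup P) (_ : Module R P), Module.Finite R P ∧
      Module.Projective R P ∧ Nonempty (AddMonoidAlgebra R N ≃ₐ[R] SymmetricAlgebra R P) := by
  classical
  let _ : AddCancelCommMonoid N :=
    { ‹AddCommMonoid N› with add_left_cancel := fun a b c h => add_left_cancel h }
  have : Subsingleton (AddUnits N) :=
    ⟨fun a b => AddUnits.ext (by rw [hsharp a a.isAddUnit, hsharp b b.isAddUnit])⟩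
  have hfin : {p : N | AddIrreducible p}.Finite := finite_addIrreducible
  have hgen : AddSubmonoid.closure {p : N | AddIrreducible p} = ⊤ :=
    AddSubmonoid.closure_addIrreducible
  set S : Finset N := hfin.toFinset with hSdef
  have hS : ∀ i ∈ S, AddIrreducible i := fun i hi => by
    simpa [hSdef] using hi
  have hSgen : AddSubmonoid.closure (S : Set N) = ⊤ := by
    rw [hSdef, Set.Finite.coe_toFinset]; exact hgen
  have hpisurj : Function.Surjective (pi S) := by
    rw [← AddMonoidHom.mrange_eq_top, eq_top_iff, ← hSgen, AddSubmonoid.closure_le]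
    intro i hi
    exact ⟨Finsupp.single ⟨i, hi⟩ 1, by rw [pi_single, one_smul]⟩
  have hsurj : Function.Surjective (phi R S) := by
    intro x
    induction x using AddMonoidAlgebra.induction_linear with
    | zero => exact ⟨0, map_zero _⟩
    | add x y hx hy =>
      obtain ⟨a, rfl⟩ := hx
      obtain ⟨b, rfl⟩ := hy
      exact ⟨a + b, map_add _ _ _⟩
    | single n c =>
      obtain ⟨α, rfl⟩ := hpisurj n
      exact ⟨monomial α c, phi_monomial R S α c⟩
  have hinj := phi_injective (R := R) S hsharp hS hsurj
  let e : MvPolynomial S R ≃ₐ[R] AddMonoidAlgebra R N :=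
    AlgEquiv.ofBijective (phi R S) ⟨hinj, hsurj⟩
  refine ⟨S →₀ R, inferInstance, inferInstance, inferInstance, inferInstance, ?_⟩
  exact ⟨e.symm.trans (SymmetricAlgebra.equivMvPolynomial (Finsupp.basisSingleOne)).symm⟩

end

end Groth.Agent.Helper8.DiagMon
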