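import Mathlib

/-!
# Rigidity of coactions of group algebras modulo a nilpotent ideal (pure algebra)
-/

set_option autoImplicit false
universe u

namespace Groth.Agent.Helper8.RigAlg

variable {E : Type u} [CommRing E] {G : Type} [CommMonoid G]

/-- evaluation `E[G] → A` attached to `σ : E → A` and a character `χ : G → A` -/
noncomputable def ev {A : Type u} [CommRing A] (σ : E →+* A) (χ : G →* A) :
    MonoidAlgebra E G →+* A :=
  MonoidAlgebra.liftNCRingHom σ χ (fun _ _ => Commute.all _ _)

@[simp] lemma ev_single {A : Type u} [CommRing A] (σ : E →+* A) (χ : G →* A) (m : G) (e : E) :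
    ev σ χ (MonoidAlgebra.single m e) = σ e * χ m :=
  MonoidAlgebra.liftNCRingHom_single _ _ _ _ _

lemma algebraMap_eq_single (e : E) :
    algebraMap E (MonoidAlgebra E G) e = MonoidAlgebra.single 1 e := by
  rw [MonoidAlgebra.coe_algebraMap]; rfl

lemma ev_algebraMap {A : Type u} [CommRing A] (σ : E →+* A) (χ : G →* A) (e : E) :
    ev σ χ (algebraMap E (MonoidAlgebra E G) e) = σ e := by
  rw [algebraMap_eq_single, ev_single, map_one, mul_one]

lemma coeff_mem_of_mem_map (J : Ideal E) (y : MonoidAlgebra E G)
    (hy : y ∈ Ideal.map (algebraMap E (MonoidAlgebra E G)) J) (m : G) : y.coeff m ∈ J := by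
  let q := MonoidAlgebra.mapRingHom G (Ideal.Quotient.mk J)
  have hle : Ideal.map (algebraMap E (MonoidAlgebra E G)) J ≤ RingHom.ker q := by
    rw [Ideal.map_le_iff_le_comap]
    intro j hj
    rw [Ideal.mem_comap, RingHom.mem_ker, algebraMap_eq_single]
    simp [q, Ideal.Quotient.eq_zero_iff_mem.mpr hj]
  have h1 := hle hy
  rw [RingHom.mem_ker] at h1
  have h2 := congrArg (fun w => MonoidAlgebra.coeff w m) h1
  simp only [q, MonoidAlgebra.coeff_mapRingHom, MonoidAlgebra.coeff_zero, Finsupp.coe_zero,
    Pi.zero_apply] at h2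
  exact Ideal.Quotient.eq_zero_iff_mem.mp h2

section Nested

variable (ρ : E →+* MonoidAlgebra E G)

/-- the nested group algebra -/
abbrev AA (E : Type u) [CommRing E] (G : Type) [CommMonoid G] : Type u :=
  MonoidAlgebra (MonoidAlgebra E G) G

noncomputable def jA : MonoidAlgebra E G →+* AA E G := algebraMap _ _

lemma jA_apply (x : MonoidAlgebra E G) : jA x = MonoidAlgebra.single (1 : G) x :=
  algebraMap_eq_single x

noncomputable def sig : E →+* AA E G := jA.comp (algebraMap E (MonoidAlgebra E G))

noncomputable def chi2 : G →* AA E G :=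
  ((jA : MonoidAlgebra E G →+* AA E G) : MonoidAlgebra E G →* AA E G).comp (MonoidAlgebra.of E G)

noncomputable def chi1 : G →* AA E G := MonoidAlgebra.of (MonoidAlgebra E G) G

lemma ev_sig_chi2 : ev (sig (E := E) (G := G)) chi2 = jA := by
  apply MonoidAlgebra.ringHom_ext
  · intro r
    rw [ev_single, map_one, mul_one, sig, RingHom.comp_apply, algebraMap_eq_single]
  · intro m
    rw [ev_single, map_one, one_mul]
    rfl

lemma coeff_left (y : MonoidAlgebra E G) (m : G) :
    (ev (sig (E := E) (G := G)) (chi1 * chi2) y).coeff m = MonoidAlgebra.single m (y.coeff m) := by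
  classical
  induction y using MonoidAlgebra.induction_linear with
  | zero => simp
  | add x y hx hy =>
    rw [map_add, MonoidAlgebra.coeff_add, Finsupp.add_apply, hx, hy, MonoidAlgebra.coeff_add,
      Finsupp.add_apply, MonoidAlgebra.single_add]
  | single m' r =>
    rw [ev_single, MonoidHom.mul_apply]
    have h1 : sig (E := E) (G := G) r * (chi1 m' * chi2 m') =
        MonoidAlgebra.single m' (MonoidAlgebra.single m' r) := by
      change jA (algebraMap E _ r) * (MonoidAlgebra.single m' 1 * jA (MonoidAlgebra.single m' 1)) = _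
      rw [jA_apply, jA_apply, MonoidAlgebra.single_mul_single, MonoidAlgebra.single_mul_single,
        mul_one, one_mul, one_mul, algebraMap_eq_single, MonoidAlgebra.single_mul_single,
        one_mul, mul_one]
    rw [h1, MonoidAlgebra.coeff_single, MonoidAlgebra.coeff_single, Finsupp.single_apply,
      Finsupp.single_apply]
    split_ifs with h
    · rw [h]
    · rw [MonoidAlgebra.single_zero]

lemma coeff_right (y : MonoidAlgebra E G) (m : G) :
    (ev (jA.comp ρ) chi1 y).coeff m = ρ (y.coeff m) := by
  classical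
  induction y using MonoidAlgebra.induction_linear with
  | zero => simp
  | add x y hx hy =>
    rw [map_add, MonoidAlgebra.coeff_add, Finsupp.add_apply, hx, hy, MonoidAlgebra.coeff_add,
      Finsupp.add_apply, map_add]
  | single m' r =>
    rw [ev_single]
    have h1 : (jA.comp ρ) r * chi1 m' = MonoidAlgebra.single m' (ρ r) := by
      change jA (ρ r) * MonoidAlgebra.single m' 1 = _
      rw [jA_apply, MonoidAlgebra.single_mul_single, one_mul, mul_one]
    rw [h1, MonoidAlgebra.coeff_single, MonoidAlgebra.coeff_single, Finsupp.single_apply,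
      Finsupp.single_apply]
    split_ifs with h
    · rfl
    · rw [map_zero]

end Nested

theorem rho_eq_iota (ρ : E →+* MonoidAlgebra E G)
    (hu : ∀ e, ev (RingHom.id E) (1 : G →* E) (ρ e) = e)
    (has : ∀ (A : Type u) [CommRing A] (σ : E →+* A) (χ₁ χ₂ : G →* A) (e : E),
      ev σ (χ₁ * χ₂) (ρ e) = ev ((ev σ χ₂).comp ρ) χ₁ (ρ e))
    {R₀ : Type u} [CommRing R₀] (φ : R₀ →+* E) (I : Ideal R₀) (hI : IsNilpotent I)
    (hlin : ∀ r, ρ (φ r) = algebraMap E (MonoidAlgebra E G) (φ r))
    (ht : ∀ e, ρ e - algebraMap E (MonoidAlgebra E G) e ∈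
      Ideal.map (algebraMap E (MonoidAlgebra E G)) (Ideal.map φ I)) :
    ρ = algebraMap E (MonoidAlgebra E G) := by
  classical
  set JE : Ideal E := Ideal.map φ I with hJE
  -- L1
  have L1 : ∀ (m : G) (e : E), ρ ((ρ e).coeff m) = MonoidAlgebra.single m ((ρ e).coeff m) := by
    intro m e
    have h := has (AA E G) sig chi1 chi2 e
    rw [ev_sig_chi2] at h
    have h' := congrArg (fun w => MonoidAlgebra.coeff w m) h
    simp only [coeff_left, coeff_right] at h'
    exact h'.symm
  have hidem : ∀ (m : G) (e : E), (ρ ((ρ e).coeff m)).coeff m = (ρ e).coeff m := by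
    intro m e
    rw [L1, MonoidAlgebra.coeff_single, Finsupp.single_eq_same]
  have hJ : ∀ (m : G), m ≠ 1 → ∀ e, (ρ e).coeff m ∈ JE := by
    intro m hm e
    have h := coeff_mem_of_mem_map JE _ (ht e) m
    rw [MonoidAlgebra.coeff_sub, Finsupp.sub_apply, algebraMap_eq_single, MonoidAlgebra.coeff_single,
      Finsupp.single_apply, if_neg (Ne.symm hm), sub_zero] at h
    exact h
  have hlinc : ∀ (m : G) (r : R₀) (e : E), (ρ (φ r * e)).coeff m = φ r * (ρ e).coeff m := by
    intro m r e
    rw [map_mul, hlin, ← Algebra.smul_def, MonoidAlgebra.coeff_smul, Finsupp.smul_apply, smul_eq_mul]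
  have hpow : ∀ (k : ℕ) (m : G), m ≠ 1 → ∀ e, (ρ e).coeff m ∈ JE ^ k := by
    intro k
    induction k with
    | zero => intro m _ e; rw [pow_zero, Ideal.one_eq_top]; trivial
    | succ k ih =>
      intro m hm e
      have key : ∀ x ∈ JE, ∀ e' : E, (ρ (e' * x)).coeff m ∈ JE ^ (k + 1) := by
        intro x hx
        rw [hJE, Ideal.map] at hx
        induction hx using Submodule.span_induction with
        | mem x hx =>
          obtain ⟨i, hi, rfl⟩ := hx
          intro e'
          rw [mul_comm, hlinc, pow_succ']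
          exact Ideal.mul_mem_mul (Ideal.mem_map_of_mem φ hi) (ih m hm e')
        | zero => intro e'; rw [mul_zero, map_zero]; simp
        | add x y _ _ hx hy =>
          intro e'
          rw [mul_add, map_add, MonoidAlgebra.coeff_add, Finsupp.add_apply]
          exact Ideal.add_mem _ (hx e') (hy e')
        | smul a x _ hx =>
          intro e'
          rw [smul_eq_mul, ← mul_assoc]
          exact hx (e' * a)
      have := key _ (hJ m hm e) 1
      rw [one_mul, hidem] at this
      exact this
  obtain ⟨n, hn⟩ := hI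
  have hJn : JE ^ n = ⊥ := by
    rw [hJE, ← Ideal.map_pow, hn, Ideal.zero_eq_bot, Ideal.map_bot]
  have hzero : ∀ (m : G), m ≠ 1 → ∀ e, (ρ e).coeff m = 0 := by
    intro m hm e
    have := hpow n m hm e
    rw [hJn] at this
    exact this
  have hform : ∀ e, ρ e = MonoidAlgebra.single 1 ((ρ e).coeff 1) := by
    intro e
    refine MonoidAlgebra.ext (Finsupp.ext fun m => ?_)
    rw [MonoidAlgebra.coeff_single, Finsupp.single_apply]
    split_ifs with h
    · rw [h]
    · exact hzero m (Ne.symm h) e
  ext e : 1
  have h1 := hu e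
  rw [hform e, ev_single, MonoidHom.one_apply, mul_one, RingHom.id_apply] at h1
  rw [hform e, h1, algebraMap_eq_single]

end Groth.Agent.Helper8.RigAlg
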