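import Mathlib
import Groth.Prelude
import Groth.Agent.Helper8.RigAlg
import Groth.Agent.Helper8.RigCore
import Groth.Agent.Helper8.MultGa

/-!
# Rigidity of actions of groups with a character description of affine points, modulo a nilpotent ideal
-/

set_option autoImplicit false
set_option linter.unusedSectionVars false
set_option linter.style.haveILetI false
set_option linter.unusedVariables false

universe u

open CategoryTheory CategoryTheory.Limits MonoidalCategory CartesianMonoidalCategory MonObj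
  AlgebraicGeometry

noncomputable section

namespace Groth.Agent.Helper8.RigCoreG

open Groth.Agent.Helper8.RigAlg
open Groth.Agent.Helper8.RigCore (surj_of_nilpotent specMap_injective)

/-- a description of the affine points of a group `G` over `S` as characters of `M` -/
structure CharData {S : Scheme.{u}} (M : Type) [AddCommGroup M] (G : Over S) [GrpObj G] where
  chi : ∀ (A : Type u) [CommRing A] (f : Spec (CommRingCat.of A) ⟶ S),
    (LieS.pt A f ⟶ G) → (Multiplicative M →* A)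
  inj : ∀ (A : Type u) [CommRing A] (f : Spec (CommRingCat.of A) ⟶ S),
    Function.Injective (chi A f)
  surj : ∀ (A : Type u) [CommRing A] (f : Spec (CommRingCat.of A) ⟶ S)
    (χ : Multiplicative M →* A), ∃ t, chi A f t = χ
  mul : ∀ (A : Type u) [CommRing A] (f : Spec (CommRingCat.of A) ⟶ S)
    (t t' : LieS.pt A f ⟶ G), chi A f (t * t') = chi A f t * chi A f t'
  one : ∀ (A : Type u) [CommRing A] (f : Spec (CommRingCat.of A) ⟶ S), chi A f 1 = 1
  comp : ∀ {A B : Type u} [CommRing A] [CommRing B] {f : Spec (CommRingCat.of A) ⟶ S}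
    {f' : Spec (CommRingCat.of B) ⟶ S} (p : LieS.pt B f' ⟶ LieS.pt A f) (a : A →+* B)
    (_ : p.left = Spec.map (CommRingCat.ofHom a)) (t : LieS.pt A f ⟶ G) (m : Multiplicative M),
    chi B f' (p ≫ t) m = a (chi A f t m)

section Chart

variable {S : Scheme.{u}} (M : Type) [AddCommGroup M] {G : Over S} [GrpObj G]
  (cd : CharData M G) {X : Over S}
  (a : AlgGrp.Action G X)
  (E : Type u) [CommRing E] (jV : Spec (CommRingCat.of E) ⟶ X.left) [IsOpenImmersion jV]
  (R₀ : Type u) [CommRing R₀] (jW : Spec (CommRingCat.of R₀) ⟶ S) [Mono jW]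
  (φ : R₀ →+* E) (hφ : jV ≫ X.hom = Spec.map (CommRingCat.ofHom φ) ≫ jW)
  (I : Ideal R₀) (hI : IsNilpotent I)
  (Small : Over S → Prop)
  (hsm : ∀ (A₀ : Type u) [CommRing A₀] (f₀ : Spec (CommRingCat.of A₀) ⟶ S) (ψ : R₀ →+* A₀),
    f₀ = Spec.map (CommRingCat.ofHom ψ) ≫ jW → I ≤ RingHom.ker ψ → Small (Over.mk f₀))
  (h0 : ∀ Y : Over S, Small Y → ∀ (g : Y ⟶ G) (x : Y ⟶ X), lift g x ≫ a.act = x)

abbrev EM : Type u := MonoidAlgebra E (Multiplicative M)

abbrev iot : E →+* EM M E := algebraMap E (EM M E)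

abbrev qE : Spec (CommRingCat.of E) ⟶ S := jV ≫ X.hom

def yE : LieS.pt E (qE E jV) ⟶ X := Over.homMk jV rfl

abbrev fQ : Spec (CommRingCat.of (EM M E)) ⟶ S :=
  Spec.map (CommRingCat.ofHom (iot M E)) ≫ qE E jV

abbrev Q : Over S := LieS.pt (EM M E) (fQ M E jV)

abbrev piQ : Q M E jV ⟶ LieS.pt E (qE E jV) := LieS.ptMap (qE E jV) (iot M E)

lemma exists_hQ : ∃ t : Q M E jV ⟶ G,
      cd.chi (EM M E) (fQ M E jV) t = MonoidAlgebra.of E (Multiplicative M) :=
  cd.surj (EM M E) (fQ M E jV) (MonoidAlgebra.of E (Multiplicative M))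

def hQ : Q M E jV ⟶ G := (exists_hQ M cd E jV).choose

lemma chr_hQ :
    cd.chi (EM M E) (fQ M E jV) (hQ M cd E jV) = MonoidAlgebra.of E (Multiplicative M) :=
  (exists_hQ M cd E jV).choose_spec

/-- the universal orbit point -/
def zz : Q M E jV ⟶ X := lift (hQ M cd E jV) (piQ M E jV ≫ yE E jV) ≫ a.act

/-- the nilpotent ideal of `E[M]` -/
abbrev KK : Ideal (EM M E) := Ideal.map (iot M E) (Ideal.map φ I)

include hI in
lemma KK_nilpotent : IsNilpotent (KK M E R₀ φ I) := by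
  obtain ⟨n, hn⟩ := hI
  refine ⟨n, ?_⟩
  rw [KK, ← Ideal.map_pow, ← Ideal.map_pow, hn, Ideal.zero_eq_bot, Ideal.map_bot, Ideal.map_bot]
  rfl

abbrev kap : EM M E →+* (EM M E ⧸ KK M E R₀ φ I) := Ideal.Quotient.mk _

abbrev Q0 : Over S :=
  LieS.pt (EM M E ⧸ KK M E R₀ φ I)
    (Spec.map (CommRingCat.ofHom (kap M E R₀ φ I)) ≫ fQ M E jV)

abbrev qq : Q0 M E jV R₀ φ I ⟶ Q M E jV := LieS.ptMap (fQ M E jV) (kap M E R₀ φ I)

include hφ hsm in
lemma small_Q0 : Small (Q0 M E jV R₀ φ I) := by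
  refine hsm _ _ ((kap M E R₀ φ I).comp ((iot M E).comp φ)) ?_ ?_
  · change Spec.map _ ≫ Spec.map _ ≫ jV ≫ X.hom = _
    rw [hφ, ← Category.assoc, ← Category.assoc, LieS.specMap_comp, LieS.specMap_comp]
  · intro i hi
    rw [RingHom.mem_ker, RingHom.comp_apply, Ideal.Quotient.eq_zero_iff_mem]
    exact Ideal.mem_map_of_mem _ (Ideal.mem_map_of_mem _ hi)

include hφ hsm h0 in
lemma qq_zz : qq M E jV R₀ φ I ≫ zz M cd a E jV = qq M E jV R₀ φ I ≫ piQ M E jV ≫ yE E jV := by
  have h := h0 _ (small_Q0 M E jV R₀ jW φ hφ I Small hsm) (qq M E jV R₀ φ I ≫ hQ M cd E jV)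
    (qq M E jV R₀ φ I ≫ piQ M E jV ≫ yE E jV)
  rw [zz, comp_lift_assoc]
  exact h

include hφ hsm h0 hI in
lemma range_zz : Set.range (zz M cd a E jV).left ⊆ Set.range jV := by
  rintro _ ⟨x, rfl⟩
  obtain ⟨y, hy⟩ := surj_of_nilpotent (KK M E R₀ φ I) (KK_nilpotent M E R₀ φ I hI) x
  have h := congrArg (fun t : Q0 M E jV R₀ φ I ⟶ X => t.left y)
    (qq_zz M cd a E jV R₀ jW φ hφ I Small hsm h0)
  simp only [Over.comp_left, Scheme.Hom.comp_apply] at h
  change (zz M cd a E jV).left (Spec.map (CommRingCat.ofHom (kap M E R₀ φ I)) y) = _ at h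
  rw [hy] at h
  rw [h]
  exact ⟨_, rfl⟩

/-- the coaction ring map -/
def rho : E →+* EM M E :=
  (Spec.preimage (IsOpenImmersion.lift jV (zz M cd a E jV).left
    (range_zz M cd a E jV R₀ jW φ hφ I hI Small hsm h0))).hom

lemma zz_left : (zz M cd a E jV).left =
    Spec.map (CommRingCat.ofHom (rho M cd a E jV R₀ jW φ hφ I hI Small hsm h0)) ≫ jV := by
  rw [rho]
  change _ = Spec.map (Spec.preimage _) ≫ jV
  rw [Spec.map_preimage, IsOpenImmersion.lift_fac]


section Formula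

variable (ρ : E →+* EM M E)
  (hz : (zz M cd a E jV).left = Spec.map (CommRingCat.ofHom ρ) ≫ jV)

lemma ev_comp_iot {A : Type u} [CommRing A] (σ : E →+* A) (χ : Multiplicative M →* A) :
    (ev σ χ).comp (iot M E) = σ := RingHom.ext fun e => ev_algebraMap σ χ e

include hz in
lemma formula (A : Type u) [CommRing A]
    (f : Spec (CommRingCat.of A) ⟶ S)
    (g : LieS.pt A f ⟶ G) (x : LieS.pt A f ⟶ X) (σ : E →+* A)
    (hx : x.left = Spec.map (CommRingCat.ofHom σ) ≫ jV) :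
    (lift g x ≫ a.act).left =
      Spec.map (CommRingCat.ofHom ((ev σ (cd.chi A f g)).comp ρ)) ≫ jV := by
  set evr : EM M E →+* A := ev σ (cd.chi A f g) with hevr
  have hf : Spec.map (CommRingCat.ofHom evr) ≫ fQ M E jV = f := by
    change Spec.map _ ≫ Spec.map _ ≫ jV ≫ X.hom = f
    rw [← Category.assoc, LieS.specMap_comp, hevr, ev_comp_iot, ← Category.assoc, ← hx]
    exact Over.w x
  let t : LieS.pt A f ⟶ Q M E jV := Over.homMk (Spec.map (CommRingCat.ofHom evr)) hf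
  have ht1 : t ≫ hQ M cd E jV = g := by
    apply cd.inj
    refine MonoidHom.ext fun m => ?_
    rw [cd.comp t evr rfl, chr_hQ]
    change evr (MonoidAlgebra.single m 1) = _
    rw [hevr, ev_single, map_one, _root_.one_mul]
  have ht2 : t ≫ piQ M E jV ≫ yE E jV = x := by
    apply Over.OverMorphism.ext
    change Spec.map _ ≫ Spec.map _ ≫ jV = x.left
    rw [← Category.assoc, LieS.specMap_comp, hx, hevr, ev_comp_iot]
  have h1 : lift g x ≫ a.act = t ≫ zz M cd a E jV := by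
    rw [zz, comp_lift_assoc, ht1, ht2]
  rw [h1, Over.comp_left, hz, ← Category.assoc]
  change (Spec.map _ ≫ Spec.map _) ≫ jV = _
  rw [LieS.specMap_comp]

include hz in
lemma unit_law (e : E) : ev (RingHom.id E) (1 : Multiplicative M →* E) (ρ e) = e := by
  have hx : (yE E jV).left = Spec.map (CommRingCat.ofHom (RingHom.id E)) ≫ jV := by
    rw [CommRingCat.ofHom_id, Spec.map_id, Category.id_comp]; rfl
  have h := formula M cd a E jV ρ hz E (qE E jV) 1 (yE E jV) (RingHom.id E) hx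
  rw [AlgGrp.Action.lift_one_act, cd.one] at h
  have h2 : Spec.map (CommRingCat.ofHom
      ((ev (RingHom.id E) (1 : Multiplicative M →* E)).comp ρ)) =
      Spec.map (CommRingCat.ofHom (RingHom.id E)) := by
    rw [← cancel_mono jV, ← h, hx]
  have h3 := specMap_injective h2
  exact congrArg (fun r : E →+* E => r e) h3

include hz in
lemma assoc_law (A : Type u) [CommRing A] (σ : E →+* A) (χ₁ χ₂ : Multiplicative M →* A) (e : E) :
    ev σ (χ₁ * χ₂) (ρ e) = ev ((ev σ χ₂).comp ρ) χ₁ (ρ e) := by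
  let f : Spec (CommRingCat.of A) ⟶ S := Spec.map (CommRingCat.ofHom σ) ≫ qE E jV
  let x : LieS.pt A f ⟶ X := LieS.ptMap (qE E jV) σ ≫ yE E jV
  have hx : x.left = Spec.map (CommRingCat.ofHom σ) ≫ jV := rfl
  obtain ⟨g₁, hg₁⟩ := cd.surj A f χ₁
  obtain ⟨g₂, hg₂⟩ := cd.surj A f χ₂
  have hmul := AlgGrp.Action.lift_mul_act a g₁ g₂ x
  have hL := formula M cd a E jV ρ hz A f (g₁ * g₂) x σ hx
  have hx' := formula M cd a E jV ρ hz A f g₂ x σ hx
  have hR := formula M cd a E jV ρ hz A f g₁ (lift g₂ x ≫ a.act) _ hx'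
  rw [hmul, hR, cd.mul, hg₁, hg₂] at hL
  have h2 := specMap_injective ((cancel_mono jV).mp hL)
  exact (congrArg (fun r : E →+* A => r e) h2).symm

include hz hφ in
lemma lin_law (r : R₀) : ρ (φ r) = iot M E (φ r) := by
  have hw := Over.w (zz M cd a E jV)
  rw [hz] at hw
  change (Spec.map _ ≫ jV) ≫ X.hom = Spec.map _ ≫ jV ≫ X.hom at hw
  rw [Category.assoc, hφ, ← Category.assoc, ← Category.assoc, LieS.specMap_comp,
    LieS.specMap_comp, cancel_mono] at hw
  exact congrArg (fun t : R₀ →+* EM M E => t r) (specMap_injective hw)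

include hz hφ hsm h0 in
lemma triv_law (e : E) : ρ e - iot M E e ∈ KK M E R₀ φ I := by
  have h := congrArg (fun t : Q0 M E jV R₀ φ I ⟶ X => t.left)
    (qq_zz M cd a E jV R₀ jW φ hφ I Small hsm h0)
  simp only [Over.comp_left] at h
  rw [hz] at h
  change Spec.map _ ≫ Spec.map _ ≫ jV = Spec.map _ ≫ Spec.map _ ≫ jV at h
  rw [← Category.assoc, ← Category.assoc, cancel_mono, LieS.specMap_comp, LieS.specMap_comp] at h
  have h2 := congrArg (fun t : E →+* _ => t e) (specMap_injective h)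
  simp only [RingHom.comp_apply] at h2
  rw [← Ideal.Quotient.eq_zero_iff_mem, map_sub, sub_eq_zero]
  exact h2

include hz hφ hsm h0 hI in
lemma rho_eq : ρ = iot M E :=
  rho_eq_iota ρ (unit_law M cd a E jV ρ hz) (assoc_law M cd a E jV ρ hz) φ I hI
    (lin_law M cd a E jV R₀ jW φ hφ ρ hz) (triv_law M cd a E jV R₀ jW φ hφ I Small hsm h0 ρ hz)

end Formula

include cd hφ hI hsm h0 in
theorem chart_trivial (A : Type u) [CommRing A] (f : Spec (CommRingCat.of A) ⟶ S)
    (g : LieS.pt A f ⟶ G) (x : LieS.pt A f ⟶ X) (σ : E →+* A)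
    (hx : x.left = Spec.map (CommRingCat.ofHom σ) ≫ jV) : lift g x ≫ a.act = x := by
  have hz := zz_left M cd a E jV R₀ jW φ hφ I hI Small hsm h0
  have hρ := rho_eq M cd a E jV R₀ jW φ hφ I hI Small hsm h0 _ hz
  apply Over.OverMorphism.ext
  rw [formula M cd a E jV _ hz A f g x σ hx, hρ, hx, ev_comp_iot]

end Chart


section Core

variable {S : Scheme.{u}} (M : Type) [AddCommGroup M] {G : Over S} [GrpObj G]
  (cd : CharData M G) {X : Over S}
  (a : AlgGrp.Action G X)

include cd in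
theorem core (Small : Over S → Prop)
    (hsmall : ∀ s : S, ∃ (W : S.Opens) (hW : IsAffineOpen W), s ∈ W ∧
      ∃ I : Ideal Γ(S, W), IsNilpotent I ∧
      ∀ (A₀ : Type u) [CommRing A₀] (f₀ : Spec (CommRingCat.of A₀) ⟶ S) (ψ : Γ(S, W) →+* A₀),
        f₀ = Spec.map (CommRingCat.ofHom ψ) ≫ hW.fromSpec → I ≤ RingHom.ker ψ →
        Small (Over.mk f₀))
    (h0 : ∀ Y : Over S, Small Y → ∀ (g : Y ⟶ G) (x : Y ⟶ X), lift g x ≫ a.act = x)
    (Y : Over S) (g : Y ⟶ G) (x : Y ⟶ X) : lift g x ≫ a.act = x := by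
  apply Over.OverMorphism.ext
  apply MultGa.hom_ext_of_flat_local
  intro y
  obtain ⟨W, hW, hsW, I, hI, hsm⟩ := hsmall (X.hom (x.left y))
  obtain ⟨_, ⟨V, hV, rfl⟩, hxV, hVW⟩ := X.left.isBasis_affineOpens.exists_subset_of_mem_open
    (show x.left y ∈ (X.hom ⁻¹ᵁ W : Set X.left) from hsW) (X.hom ⁻¹ᵁ W).isOpen
  obtain ⟨_, ⟨O, hO, rfl⟩, hyO, hOV⟩ := Y.left.isBasis_affineOpens.exists_subset_of_mem_open
    (show y ∈ (x.left ⁻¹ᵁ V : Set Y.left) from hxV) (x.left ⁻¹ᵁ V).isOpen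
  refine ⟨Spec Γ(Y.left, O), hO.fromSpec, inferInstance, ?_, ?_⟩
  · rw [hO.range_fromSpec]; exact hyO
  · let f : Spec (CommRingCat.of Γ(Y.left, O)) ⟶ S := hO.fromSpec ≫ Y.hom
    let jj : LieS.pt Γ(Y.left, O) f ⟶ Y := Over.homMk hO.fromSpec rfl
    have hx : (jj ≫ x).left =
        Spec.map (CommRingCat.ofHom (x.left.appLE V O hOV).hom) ≫ hV.fromSpec := by
      rw [Over.comp_left]
      exact (hV.SpecMap_appLE_fromSpec x.left hO hOV).symm
    have hφ : hV.fromSpec ≫ X.hom =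
        Spec.map (CommRingCat.ofHom (X.hom.appLE W V hVW).hom) ≫ hW.fromSpec :=
      (hW.SpecMap_appLE_fromSpec X.hom hV hVW).symm
    have key := chart_trivial M cd a Γ(X.left, V) hV.fromSpec Γ(S, W) hW.fromSpec
      (X.hom.appLE W V hVW).hom hφ I hI Small hsm h0 Γ(Y.left, O) f (jj ≫ g) (jj ≫ x)
      (x.left.appLE V O hOV).hom hx
    have h2 := congrArg (fun t => t.left) key
    rw [← comp_lift_assoc] at h2
    exact h2

end Core

end Groth.Agent.Helper8.RigCoreG
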