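import Mathlib
import Groth.Prelude
import Groth.Agent.Helper8.LieF
import Groth.Agent.Helper8.RigAlg
import Groth.Agent.Helper8.RigCoreG

/-!
# A homomorphism from `D(M)` which is trivial modulo a nilpotent ideal is trivial (S8359)
-/

set_option autoImplicit false
set_option linter.unusedSectionVars false
set_option linter.style.haveILetI false
set_option linter.unusedVariables false

universe u

open CategoryTheory CategoryTheory.Limits MonoidalCategory CartesianMonoidalCategory MonObj GrpObj
  AlgebraicGeometry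

noncomputable section

namespace Groth.Agent.Helper8.DiagRig

open Groth.Agent.Helper8.RigAlg Groth.Agent.Helper8.RigCoreG

section Chr

variable (R : Type u) [CommRing R] (M : Type) [AddCommGroup M]
  (A : Type u) [CommRing A] (f : Spec (CommRingCat.of A) ⟶ Spec (CommRingCat.of R))

/-- the ring map underlying an affine point of `D(M)` -/
def pre (g : LieS.pt A f ⟶ Red.diag R M) : MonoidAlgebra R (Multiplicative M) →+* A :=
  (Spec.preimage g.left).hom

lemma specMap_pre (g : LieS.pt A f ⟶ Red.diag R M) :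
    Spec.map (CommRingCat.ofHom (pre R M A f g)) = g.left := Spec.map_preimage _

lemma pre_algebraMap (g : LieS.pt A f ⟶ Red.diag R M) (r : R) :
    pre R M A f g (algebraMap R _ r) = (Spec.preimage f).hom r := by
  have h : CommRingCat.ofHom (algebraMap R (MonoidAlgebra R (Multiplicative M))) ≫
      Spec.preimage g.left = Spec.preimage f := by
    apply Spec.map_injective
    rw [Spec.map_comp, Spec.map_preimage, Spec.map_preimage]
    exact Over.w g
  exact congrArg (fun t => t.hom r) h

/-- the character of an affine point of `D(M)` -/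
def chrD (g : LieS.pt A f ⟶ Red.diag R M) : Multiplicative M →* A :=
  ((pre R M A f g).toMonoidHom).comp (MonoidAlgebra.of R (Multiplicative M))

lemma chrD_apply (g : LieS.pt A f ⟶ Red.diag R M) (m : Multiplicative M) :
    chrD R M A f g m = pre R M A f g (MonoidAlgebra.single m 1) := rfl

lemma chrD_injective : Function.Injective (chrD R M A f) := by
  intro g g' h
  have hp : pre R M A f g = pre R M A f g' := by
    apply MonoidAlgebra.ringHom_ext
    · intro r
      rw [← algebraMap_eq_single, pre_algebraMap, pre_algebraMap]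
    · intro m
      exact congrArg (fun χ : Multiplicative M →* A => χ m) h
  apply Over.OverMorphism.ext
  rw [← specMap_pre R M A f g, ← specMap_pre R M A f g', hp]

lemma chrD_surjective (χ : Multiplicative M →* A) : ∃ g, chrD R M A f g = χ := by
  let ψ : MonoidAlgebra R (Multiplicative M) →+* A := ev (Spec.preimage f).hom χ
  have hψ : Spec.map (CommRingCat.ofHom ψ) ≫ (Red.diag R M).hom = f := by
    change Spec.map (CommRingCat.ofHom ψ) ≫
      Spec.map (CommRingCat.ofHom (algebraMap R (MonoidAlgebra R (Multiplicative M)))) = f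
    rw [LieS.specMap_comp]
    have : ψ.comp (algebraMap R (MonoidAlgebra R (Multiplicative M))) = (Spec.preimage f).hom :=
      RingHom.ext fun r => ev_algebraMap _ _ r
    rw [this]
    exact Spec.map_preimage f
  refine ⟨Over.homMk (Spec.map (CommRingCat.ofHom ψ)) hψ, ?_⟩
  refine MonoidHom.ext fun m => ?_
  rw [chrD_apply]
  change (Spec.preimage (Spec.map (CommRingCat.ofHom ψ))).hom _ = _
  rw [Spec.preimage_map]
  change ψ _ = _
  rw [ev_single, map_one, _root_.one_mul]

lemma chrD_comp {B : Type u} [CommRing B] {f' : Spec (CommRingCat.of B) ⟶ Spec (CommRingCat.of R)}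
    (p : LieS.pt B f' ⟶ LieS.pt A f) (a : A →+* B)
    (hp : p.left = Spec.map (CommRingCat.ofHom a)) (t : LieS.pt A f ⟶ Red.diag R M)
    (m : Multiplicative M) :
    chrD R M B f' (p ≫ t) m = a (chrD R M A f t m) := by
  rw [chrD_apply, chrD_apply, pre, pre]
  have h : (p ≫ t).left = Spec.map (CommRingCat.ofHom a) ≫ t.left := by
    rw [Over.comp_left, hp]
  rw [h]
  exact LieF.preimage_comp a _ _

lemma exists_eq_specMap : ∃ φ : R →+* A, f = Spec.map (CommRingCat.ofHom φ) :=
  ⟨(Spec.preimage f).hom, (Spec.map_preimage f).symm⟩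

lemma chrD_mul (t t' : LieS.pt A f ⟶ Red.diag R M) :
    chrD R M A f (t * t') = chrD R M A f t * chrD R M A f t' := by
  obtain ⟨φ, rfl⟩ := exists_eq_specMap R A f
  letI : Algebra R A := φ.toAlgebra
  exact map_mul (LieF.Θ₀ R M A) t t'

lemma chrD_one : chrD R M A f 1 = 1 := by
  obtain ⟨φ, rfl⟩ := exists_eq_specMap R A f
  letI : Algebra R A := φ.toAlgebra
  exact map_one (LieF.Θ₀ R M A)

/-- the character description of the affine points of `D(M)` -/
def cdD : CharData M (Red.diag R M) where
  chi A _ f := chrD R M A f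
  inj A _ f := chrD_injective R M A f
  surj A _ f := chrD_surjective R M A f
  mul A _ f := chrD_mul R M A f
  one A _ f := chrD_one R M A f
  comp p a hp t m := chrD_comp R M _ _ p a hp t m

end Chr

section Transl

variable {S : Scheme.{u}} {G H : Over S} [GrpObj G] [GrpObj H] (u : G ⟶ H) [IsMonHom u]

/-- the left translation action of `G` on `H` through `u` -/
def translAct : AlgGrp.Action G H where
  act := (fst G H ≫ u) * snd G H
  one_act := by
    rw [MonObj.comp_mul, whiskerRight_fst_assoc, whiskerRight_snd,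
      IsMonHom.one_hom, leftUnitor_hom]
    have : fst (𝟙_ (Over S)) H ≫ η[H] = 1 := by
      rw [Hom.one_def]
      congr 1
    rw [this, _root_.one_mul]
  mul_act := by
    apply AlgGrp.Action.hom_ext_lift₃
    intro T g g' h
    have e1 : ∀ (T : Over S) (g : T ⟶ G) (h : T ⟶ H),
        lift g h ≫ ((fst G H ≫ u) * snd G H) = (g ≫ u) * h := by
      intro T g h
      rw [MonObj.comp_mul, lift_fst_assoc, lift_snd]
    rw [lift_whiskerRight_assoc, ← Hom.mul_def, e1, lift_lift_associator_hom_assoc,
      lift_whiskerLeft_assoc, e1, e1, MonObj.mul_comp]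
    simp only [_root_.mul_assoc]

lemma lift_translAct {T : Over S} (g : T ⟶ G) (h : T ⟶ H) :
    lift g h ≫ (translAct u).act = (g ≫ u) * h := by
  change lift g h ≫ ((fst G H ≫ u) * snd G H) = _
  rw [MonObj.comp_mul, lift_fst_assoc, lift_snd]

end Transl

lemma homEquiv_one {S S' : Scheme.{u}} (i : S' ⟶ S) (X : Over S) [GrpObj X] (Y' : Over S') :
    (Over.mapPullbackAdj i).homEquiv Y' X 1 = 1 := by
  have h := AlgGrp.Action.homEquiv_mul i (G := X) (T' := Y') 1 1
  rw [_root_.one_mul] at h
  exact left_eq_mul.mp h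

/-- S8359 -/
theorem main (R : Type u) [CommRing R] (I : Ideal R) (hI : IsNilpotent I)
    (M : Type) [AddCommGroup M] (X : Over (Spec (CommRingCat.of R))) [GrpObj X]
    (f : Red.diag R M ⟶ X) [IsMonHom f]
    (h : (Over.pullback (Spec.map (CommRingCat.ofHom (Ideal.Quotient.mk I)))).map f = 1) :
    f = 1 := by
  let i₀ : Spec (CommRingCat.of (R ⧸ I)) ⟶ Spec (CommRingCat.of R) :=
    Spec.map (CommRingCat.ofHom (Ideal.Quotient.mk I))
  let Small : Over (Spec (CommRingCat.of R)) → Prop := fun Y =>
    ∃ Y' : Over (Spec (CommRingCat.of (R ⧸ I))), (Over.map i₀).obj Y' = Y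
  have h0 : ∀ Y : Over (Spec (CommRingCat.of R)), Small Y → ∀ (g : Y ⟶ Red.diag R M) (x : Y ⟶ X),
      lift g x ≫ (translAct f).act = x := by
    rintro _ ⟨Y', rfl⟩ g x
    rw [lift_translAct]
    have hg : g ≫ f = 1 := by
      apply ((Over.mapPullbackAdj i₀).homEquiv Y' X).injective
      rw [Adjunction.homEquiv_naturality_right, homEquiv_one]
      rw [h, MonObj.comp_one]
    rw [hg, _root_.one_mul]
  have hsmall : ∀ s : Spec (CommRingCat.of R), ∃ (W : (Spec (CommRingCat.of R)).Opens)
      (hW : IsAffineOpen W), s ∈ W ∧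
      ∃ I' : Ideal Γ(Spec (CommRingCat.of R), W), IsNilpotent I' ∧
      ∀ (A₀ : Type u) [CommRing A₀] (f₀ : Spec (CommRingCat.of A₀) ⟶ Spec (CommRingCat.of R))
        (ψ : Γ(Spec (CommRingCat.of R), W) →+* A₀),
        f₀ = Spec.map (CommRingCat.ofHom ψ) ≫ hW.fromSpec → I' ≤ RingHom.ker ψ →
        Small (Over.mk f₀) := by
    intro s
    refine ⟨⊤, isAffineOpen_top _, trivial,
      Ideal.map (Scheme.ΓSpecIso (CommRingCat.of R)).inv.hom I, ?_, ?_⟩
    · obtain ⟨n, hn⟩ := hI
      refine ⟨n, ?_⟩
      rw [← Ideal.map_pow, hn, Ideal.zero_eq_bot, Ideal.map_bot]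
      rfl
    · intro A₀ _ f₀ ψ hf₀ hker
      let ψ' : R →+* A₀ := ψ.comp (Scheme.ΓSpecIso (CommRingCat.of R)).inv.hom
      have hψ' : ∀ r ∈ I, ψ' r = 0 := by
        intro r hr
        exact hker (Ideal.mem_map_of_mem _ hr)
      let l : R ⧸ I →+* A₀ := Ideal.Quotient.lift I ψ' hψ'
      have hl : l.comp (Ideal.Quotient.mk I) = ψ' := Ideal.Quotient.lift_comp_mk I ψ' hψ'
      refine ⟨Over.mk (Spec.map (CommRingCat.ofHom l)), ?_⟩
      have e : Spec.map (CommRingCat.ofHom l) ≫ i₀ = f₀ := by
        rw [hf₀, IsAffineOpen.fromSpec_top, Scheme.isoSpec_Spec_inv]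
        change Spec.map _ ≫ Spec.map _ = _
        rw [LieS.specMap_comp, hl, ← Spec.map_comp]
        rfl
      change Over.mk (Spec.map (CommRingCat.ofHom l) ≫ i₀) = Over.mk f₀
      rw [e]
  have key := core M (cdD R M) (translAct f) Small hsmall h0 (Red.diag R M) (𝟙 _) 1
  rw [lift_translAct, Category.id_comp, _root_.mul_one] at key
  exact key

end Groth.Agent.Helper8.DiagRig
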