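import Mathlib

/-!
# A fibrewise criterion for a quotient of a projective module to be projective

`main`: let `N` be a finitely generated projective `R`-module and `N₁ ≤ N` a finitely generated
submodule with `N₁ ⊓ 𝔪 • ⊤ ≤ 𝔪 • N₁` for every maximal ideal `𝔪`. Then `N ⧸ N₁` is projective.
-/

namespace Groth.Agent.Helper8.QuotProj

open TensorProduct IsLocalRing

section Local

variable {R : Type*} [CommRing R] [IsLocalRing R]

/-- `1 ⊗ x = 0` in `κ ⊗ X` iff `x ∈ 𝔪 X`. -/
theorem one_tmul_eq_zero_iff {X : Type*} [AddCommGroup X] [Module R X] (x : X) :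
    ((1 : ResidueField R) ⊗ₜ[R] x = 0) ↔ x ∈ (maximalIdeal R • ⊤ : Submodule R X) := by
  have h1 : quotTensorEquivQuotSMul X (maximalIdeal R) ((1 : R ⧸ maximalIdeal R) ⊗ₜ[R] x) =
      Submodule.Quotient.mk x := quotTensorEquivQuotSMul_mk_one_tmul _ x
  constructor
  · intro h
    have h2 : ((1 : R ⧸ maximalIdeal R) ⊗ₜ[R] x) = 0 := h
    rw [h2, map_zero] at h1
    exact (Submodule.Quotient.mk_eq_zero _).mp h1.symm
  · intro h
    have h2 : ((1 : R ⧸ maximalIdeal R) ⊗ₜ[R] x) = 0 := by
      apply (quotTensorEquivQuotSMul X (maximalIdeal R)).injective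
      rw [h1, map_zero]
      exact (Submodule.Quotient.mk_eq_zero _).mpr h
    exact h2

end Local

section Denominators

variable {R : Type*} [CommRing R] (I : Ideal R) [I.IsPrime]
variable {X : Type*} [AddCommGroup X] [Module R X]

local notation "R'" => Localization.AtPrime I
local notation "X'" => LocalizedModule I.primeCompl X

/-- Elements of `𝔪' X'` have numerators in `I X`. -/
theorem exists_mk_of_mem (y : X') (hy : y ∈ (maximalIdeal R' • ⊤ : Submodule R' X')) :
    ∃ (x : X) (s : I.primeCompl), x ∈ (I • ⊤ : Submodule R X) ∧ y = LocalizedModule.mk x s := by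
  refine Submodule.smul_induction_on hy (fun a ha z _ => ?_) (fun y₁ y₂ h₁ h₂ => ?_)
  · obtain ⟨⟨a₀, u⟩, rfl⟩ := IsLocalization.mk'_surjective I.primeCompl a
    induction z using LocalizedModule.induction_on with
    | h w v =>
      refine ⟨a₀ • w, u * v, ?_, ?_⟩
      · have ha₀ : a₀ ∈ I := (IsLocalization.AtPrime.mk'_mem_maximal_iff R' I a₀ u).mp ha
        exact Submodule.smul_mem_smul ha₀ Submodule.mem_top
      · have := LocalizedModule.mk_smul_mk a₀ w u v
        rw [Localization.mk_eq_mk'_apply] at this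
        exact this
  · obtain ⟨x₁, s₁, hx₁, rfl⟩ := h₁
    obtain ⟨x₂, s₂, hx₂, rfl⟩ := h₂
    refine ⟨s₂ • x₁ + s₁ • x₂, s₁ * s₂, ?_, LocalizedModule.mk_add_mk⟩
    exact Submodule.add_mem _ (Submodule.smul_mem _ _ hx₁) (Submodule.smul_mem _ _ hx₂)

theorem exists_smul_mem_of_mk_mem (x : X) (s : I.primeCompl)
    (h : LocalizedModule.mk x s ∈ (maximalIdeal R' • ⊤ : Submodule R' X')) :
    ∃ t : I.primeCompl, t • x ∈ (I • ⊤ : Submodule R X) := by
  obtain ⟨x', s', hx', he⟩ := exists_mk_of_mem I _ h
  obtain ⟨u, hu⟩ := LocalizedModule.mk_eq.mp he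
  refine ⟨u * s', ?_⟩
  rw [mul_smul, hu]
  exact Submodule.smul_mem _ _ (Submodule.smul_mem _ _ hx')

theorem mk_mem_of_mem (x : X) (hx : x ∈ (I • ⊤ : Submodule R X)) (s : I.primeCompl) :
    LocalizedModule.mk x s ∈ (maximalIdeal R' • ⊤ : Submodule R' X') := by
  refine Submodule.smul_induction_on hx (fun a ha w _ => ?_) (fun x₁ x₂ h₁ h₂ => ?_)
  · have : LocalizedModule.mk (a • w) s =
        (IsLocalization.mk' R' a (1 : I.primeCompl)) • LocalizedModule.mk w s := by
      rw [← Localization.mk_eq_mk'_apply, LocalizedModule.mk_smul_mk, one_mul]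
    rw [this]
    refine Submodule.smul_mem_smul ?_ Submodule.mem_top
    exact (IsLocalization.AtPrime.mk'_mem_maximal_iff R' I a 1).mpr ha
  · have : LocalizedModule.mk (x₁ + x₂) s = LocalizedModule.mk x₁ s + LocalizedModule.mk x₂ s := by
      rw [LocalizedModule.mk_add_mk, ← smul_add, ← LocalizedModule.mk_cancel_common_left s s]
    rw [this]
    exact Submodule.add_mem _ h₁ h₂

end Denominators

section Main

variable {R : Type*} [CommRing R] {N : Type*} [AddCommGroup N] [Module R N]

theorem free_localized [Module.Finite R N] [Module.Projective R N]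
    (N₁ : Submodule R N) (hfg : N₁.FG)
    (I : Ideal R) [hI : I.IsMaximal] (h : N₁ ⊓ (I • ⊤ : Submodule R N) ≤ I • N₁) :
    Module.Free (Localization.AtPrime I) (LocalizedModule I.primeCompl (N ⧸ N₁)) := by
  haveI : Module.Finite R N₁ := Module.Finite.iff_fg.mpr hfg
  let S := I.primeCompl
  let f' := LocalizedModule.map S N₁.subtype
  let g' := LocalizedModule.map S N₁.mkQ
  haveI : Module.Free (Localization.AtPrime I) (LocalizedModule S N) :=
    Module.free_of_flat_of_isLocalRing
  have hsurj : Function.Surjective g' := LocalizedModule.map_surjective S _ N₁.mkQ_surjective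
  have hex : Function.Exact f' g' :=
    LocalizedModule.map_exact S N₁.subtype N₁.mkQ (LinearMap.exact_subtype_mkQ N₁)
  refine Module.free_of_lTensor_residueField_injective f' g' hsurj hex ?_
  rw [injective_iff_map_eq_zero]
  intro z hz
  obtain ⟨y, rfl⟩ := TensorProduct.mk_surjective (Localization.AtPrime I) (LocalizedModule S N₁)
    (ResidueField (Localization.AtPrime I)) IsLocalRing.residue_surjective z
  simp only [TensorProduct.mk_apply, LinearMap.lTensor_tmul] at hz ⊢
  rw [one_tmul_eq_zero_iff] at hz ⊢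
  induction y using LocalizedModule.induction_on with
  | h x s =>
    have h1 : f' (LocalizedModule.mk x s) = LocalizedModule.mk (x : N) s :=
      LocalizedModule.map_mk S N₁.subtype x s
    rw [h1] at hz
    obtain ⟨t, ht⟩ := exists_smul_mem_of_mk_mem I (x : N) s hz
    have h2 : t • (x : N) ∈ I • N₁ := h ⟨N₁.smul_mem _ x.2, ht⟩
    have h3 : I • N₁ = Submodule.map N₁.subtype (I • ⊤) := by
      rw [Submodule.map_smul'', Submodule.map_subtype_top]
    rw [h3] at h2
    obtain ⟨w, hw, hwe⟩ := h2
    have h4 : w = t • x := Subtype.ext (by simpa using hwe)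
    rw [← LocalizedModule.mk_cancel_common_left t s x, ← h4]
    exact mk_mem_of_mem I w hw _

theorem main [Module.Finite R N] [Module.Projective R N]
    (N₁ : Submodule R N) (hfg : N₁.FG)
    (h : ∀ (I : Ideal R), I.IsMaximal → N₁ ⊓ (I • ⊤ : Submodule R N) ≤ I • N₁) :
    Module.Projective R (N ⧸ N₁) := by
  haveI : Module.FinitePresentation R N := Module.finitePresentation_of_projective R N
  haveI : Module.FinitePresentation R (N ⧸ N₁) :=
    Module.finitePresentation_of_surjective N₁.mkQ N₁.mkQ_surjective (by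
      rw [Submodule.ker_mkQ]; exact hfg)
  apply Module.projective_of_localization_maximal
  intro I hI
  haveI := free_localized N₁ hfg I (h I hI)
  infer_instance

end Main

end Groth.Agent.Helper8.QuotProj
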