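import Mathlib
import Groth.Agent.Helper8.QuotProj
import Groth.Agent.Helper8.IdemLift

/-!
# Abstract core: `M/(VM + pM)` is projective over `W/p`

`W` a commutative ring, `p : W`, `φ ψ : W →+* W` mutually inverse, `M` a finite `W`-module with
`M/pM` finite projective over `W/p`, `F` a `φ`-semilinear and `V` a `ψ`-semilinear endomorphism with
`FV = VF = p`.  Assume that every maximal ideal `P ∋ p` of `W` is of the form `I + (p)` with `I`
stable under `φ` and `ψ` and `p`-saturated on `M`.  Then the quotient of `M/pM` by the image of `V`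
is projective over `W/p`.
-/

namespace Groth.Agent.Helper8.DieuCore

open IdemLift

variable {W : Type*} [CommRing W] (p : W) {φ ψ : W →+* W}
  {M : Type*} [AddCommGroup M] [Module W M]

theorem mem_span_singleton_smul_top {x : M} :
    x ∈ (Ideal.span {p} • ⊤ : Submodule W M) ↔ ∃ m : M, x = p • m := by
  rw [Submodule.ideal_span_singleton_smul, Submodule.mem_smul_pointwise_iff_exists]
  constructor
  · rintro ⟨b, -, rfl⟩; exact ⟨b, rfl⟩
  · rintro ⟨m, rfl⟩; exact ⟨m, trivial, rfl⟩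

/-- The submodule of `M/pM` spanned by the image of `V`. -/
def N₁ (V : M →ₛₗ[ψ] M) :
    Submodule (W ⧸ Ideal.span {p}) (M ⧸ (Ideal.span {p} • ⊤ : Submodule W M)) :=
  Submodule.span (W ⧸ Ideal.span {p})
    (Set.range fun m : M => (Ideal.span {p} • ⊤ : Submodule W M).mkQ (V m))

variable (hψφ : ∀ a, ψ (φ a) = a)

include hψφ in
theorem mem_N₁_iff (V : M →ₛₗ[ψ] M)
    (x : M ⧸ (Ideal.span {p} • ⊤ : Submodule W M)) :
    x ∈ N₁ p V ↔ ∃ y : M, x = (Ideal.span {p} • ⊤ : Submodule W M).mkQ (V y) := by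
  constructor
  · intro hx
    refine Submodule.span_induction ?_ ?_ ?_ ?_ hx
    · rintro _ ⟨m, rfl⟩; exact ⟨m, rfl⟩
    · exact ⟨0, by simp⟩
    · rintro _ _ _ _ ⟨y₁, rfl⟩ ⟨y₂, rfl⟩
      exact ⟨y₁ + y₂, by simp⟩
    · rintro r _ _ ⟨y, rfl⟩
      obtain ⟨r, rfl⟩ := Ideal.Quotient.mk_surjective r
      refine ⟨φ r • y, ?_⟩
      rw [V.map_smulₛₗ, hψφ]
      rfl
  · rintro ⟨y, rfl⟩
    exact Submodule.subset_span ⟨y, rfl⟩

theorem N₁_fg [Module.Finite W M] (V : M →ₛₗ[ψ] M) : (N₁ p V).FG := by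
  classical
  obtain ⟨s, hs⟩ := (Module.Finite.fg_top : (⊤ : Submodule W M).FG)
  have key : N₁ p V = Submodule.span (W ⧸ Ideal.span {p})
      ((fun m : M => (Ideal.span {p} • ⊤ : Submodule W M).mkQ (V m)) '' (s : Set M)) := by
    apply le_antisymm
    · rw [N₁, Submodule.span_le]
      rintro _ ⟨y, rfl⟩
      have hy : y ∈ Submodule.span W (s : Set M) := by rw [hs]; trivial
      refine Submodule.span_induction ?_ ?_ ?_ ?_ hy
      · intro m hm
        exact Submodule.subset_span ⟨m, hm, rfl⟩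
      · simp
      · intro a b _ _ ha hb
        simp only [map_add]
        exact Submodule.add_mem _ ha hb
      · intro w a _ ha
        have : (Ideal.span {p} • ⊤ : Submodule W M).mkQ (V (w • a)) =
            Ideal.Quotient.mk (Ideal.span {p}) (ψ w) •
              (Ideal.span {p} • ⊤ : Submodule W M).mkQ (V a) := by
          rw [V.map_smulₛₗ]; rfl
        simp only at ha ⊢
        rw [this]
        exact Submodule.smul_mem _ _ ha
    · apply Submodule.span_mono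
      rintro _ ⟨m, -, rfl⟩
      exact ⟨m, rfl⟩
  rw [key]
  exact Submodule.fg_span ((Finset.finite_toSet s).image _)

/-- Elements of `𝔪 • ⊤ ⊆ M/pM` lift to `P • ⊤ ⊆ M`, `P` the preimage of `𝔪`. -/
theorem mem_of_mkQ_mem (𝔪 : Ideal (W ⧸ Ideal.span {p})) (x : M)
    (hx : (Ideal.span {p} • ⊤ : Submodule W M).mkQ x ∈
      (𝔪 • ⊤ : Submodule (W ⧸ Ideal.span {p}) (M ⧸ (Ideal.span {p} • ⊤ : Submodule W M)))) :
    x ∈ ((𝔪.comap (Ideal.Quotient.mk (Ideal.span {p}))) • ⊤ : Submodule W M) := by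
  set P := 𝔪.comap (Ideal.Quotient.mk (Ideal.span {p})) with hP
  have hpP : Ideal.span {p} ≤ P := by
    rw [Ideal.span_le, Set.singleton_subset_iff]
    change Ideal.Quotient.mk (Ideal.span {p}) p ∈ 𝔪
    rw [Ideal.Quotient.eq_zero_iff_mem.mpr (Ideal.mem_span_singleton_self p)]
    exact 𝔪.zero_mem
  have key : ∀ z ∈ (𝔪 • ⊤ : Submodule (W ⧸ Ideal.span {p})
      (M ⧸ (Ideal.span {p} • ⊤ : Submodule W M))),
      ∃ x' ∈ (P • ⊤ : Submodule W M), (Ideal.span {p} • ⊤ : Submodule W M).mkQ x' = z := by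
    intro z hz
    refine Submodule.smul_induction_on hz (fun r hr n _ => ?_) (fun z₁ z₂ h₁ h₂ => ?_)
    · obtain ⟨r, rfl⟩ := Ideal.Quotient.mk_surjective r
      obtain ⟨n, rfl⟩ := Submodule.mkQ_surjective _ n
      exact ⟨r • n, Submodule.smul_mem_smul hr Submodule.mem_top, rfl⟩
    · obtain ⟨x₁, hx₁, rfl⟩ := h₁
      obtain ⟨x₂, hx₂, rfl⟩ := h₂
      exact ⟨x₁ + x₂, Submodule.add_mem _ hx₁ hx₂, by simp⟩
  obtain ⟨x', hx', he⟩ := key _ hx
  have h1 : x' - x ∈ (Ideal.span {p} • ⊤ : Submodule W M) := by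
    rw [← Submodule.Quotient.mk_eq_zero, Submodule.Quotient.mk_sub]
    exact sub_eq_zero.mpr he
  have h2 : x = x' - (x' - x) := by abel
  rw [h2]
  exact Submodule.sub_mem _ hx' (Submodule.smul_mono_left hpP h1)

theorem semilinear_map_mem {σ : W →+* W} (G : M →ₛₗ[σ] M) (I : Ideal W)
    (hI : ∀ x ∈ I, σ x ∈ I) {j : M} (hj : j ∈ (I • ⊤ : Submodule W M)) :
    G j ∈ (I • ⊤ : Submodule W M) := by
  refine Submodule.smul_induction_on hj (fun a ha m _ => ?_) (fun a b ha hb => ?_)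
  · rw [G.map_smulₛₗ]
    exact Submodule.smul_mem_smul (hI a ha) Submodule.mem_top
  · rw [map_add]; exact Submodule.add_mem _ ha hb

variable (hφψ : ∀ a, φ (ψ a) = a)

include hφψ hψφ in
theorem core [Module.Finite W M]
    [Module.Finite (W ⧸ Ideal.span {p}) (M ⧸ (Ideal.span {p} • ⊤ : Submodule W M))]
    [Module.Projective (W ⧸ Ideal.span {p}) (M ⧸ (Ideal.span {p} • ⊤ : Submodule W M))]
    (F : M →ₛₗ[φ] M) (V : M →ₛₗ[ψ] M)
    (hFV : ∀ m, F (V m) = p • m) (hVF : ∀ m, V (F m) = p • m)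
    (H : ∀ P : Ideal W, P.IsMaximal → p ∈ P → ∃ I : Ideal W, I ≤ P ∧ P ≤ I ⊔ Ideal.span {p} ∧
      (∀ x ∈ I, φ x ∈ I) ∧ (∀ x ∈ I, ψ x ∈ I) ∧
      ∀ y : M, p • y ∈ (I • ⊤ : Submodule W M) →
        y ∈ (I • ⊤ : Submodule W M) ⊔ (Ideal.span {p} • ⊤ : Submodule W M)) :
    Module.Projective (W ⧸ Ideal.span {p})
      ((M ⧸ (Ideal.span {p} • ⊤ : Submodule W M)) ⧸ N₁ p V) := by
  apply QuotProj.main (N₁ p V) (N₁_fg p V)
  intro 𝔪 h𝔪
  rintro x ⟨hx1, hx2⟩
  obtain ⟨y, rfl⟩ := (mem_N₁_iff p hψφ V x).mp hx1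
  set P := 𝔪.comap (Ideal.Quotient.mk (Ideal.span {p})) with hP
  have hPmax : P.IsMaximal :=
    Ideal.comap_isMaximal_of_surjective _ Ideal.Quotient.mk_surjective
  have hpP : p ∈ P := by
    change Ideal.Quotient.mk (Ideal.span {p}) p ∈ 𝔪
    rw [Ideal.Quotient.eq_zero_iff_mem.mpr (Ideal.mem_span_singleton_self p)]
    exact 𝔪.zero_mem
  obtain ⟨I, hIP, hPI, hIφ, hIψ, hsat⟩ := H P hPmax hpP
  have h1 : V y ∈ (P • ⊤ : Submodule W M) := mem_of_mkQ_mem p 𝔪 (V y) hx2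
  have h2 : V y ∈ (I • ⊤ : Submodule W M) ⊔ (Ideal.span {p} • ⊤ : Submodule W M) := by
    rw [← Submodule.sup_smul]
    exact Submodule.smul_mono_left hPI h1
  obtain ⟨i, hi, q, hq, hiq⟩ := Submodule.mem_sup.mp h2
  obtain ⟨m', rfl⟩ := (mem_span_singleton_smul_top p).mp hq
  -- `V (y - F m') = i`
  have h3 : V (y - F m') = i := by
    rw [map_sub, hVF, ← hiq]; abel
  have h4 : p • (y - F m') ∈ (I • ⊤ : Submodule W M) := by
    rw [← hFV, h3]
    exact semilinear_map_mem F I hIφ hi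
  obtain ⟨j, hj, q', hq', hjq⟩ := Submodule.mem_sup.mp (hsat _ h4)
  obtain ⟨m'', rfl⟩ := (mem_span_singleton_smul_top p).mp hq'
  -- `y = F m' + j + p m''`
  have h5 : V y = V j + p • (m' + V m'') := by
    have : y = F m' + (j + p • m'') := by rw [hjq]; abel
    rw [this, map_add, map_add, hVF, ← hFV m'', hVF, smul_add]
    abel
  have h6 : (Ideal.span {p} • ⊤ : Submodule W M).mkQ (V y) =
      (Ideal.span {p} • ⊤ : Submodule W M).mkQ (V j) := by
    rw [h5, map_add]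
    have : (Ideal.span {p} • ⊤ : Submodule W M).mkQ (p • (m' + V m'')) = 0 := by
      rw [Submodule.mkQ_apply, Submodule.Quotient.mk_eq_zero]
      exact (mem_span_singleton_smul_top p).mpr ⟨_, rfl⟩
    rw [this, add_zero]
  rw [h6]
  -- `mkQ (V j) ∈ 𝔪 • N₁`
  refine Submodule.smul_induction_on hj (fun a ha m _ => ?_) (fun a b ha hb => ?_)
  · have : (Ideal.span {p} • ⊤ : Submodule W M).mkQ (V (a • m)) =
        Ideal.Quotient.mk (Ideal.span {p}) (ψ a) •
          (Ideal.span {p} • ⊤ : Submodule W M).mkQ (V m) := by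
      rw [V.map_smulₛₗ]; rfl
    rw [this]
    refine Submodule.smul_mem_smul ?_ (Submodule.subset_span ⟨m, rfl⟩)
    exact hIP (hIψ a ha)
  · rw [map_add, map_add]; exact Submodule.add_mem _ ha hb

end Groth.Agent.Helper8.DieuCore
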