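import Mathlib
import Groth.Agent.Helper8.DieuCore

/-!
# Dieudonné modules over a perfect ring: Witt vector input for `DieuCore.core`
-/

namespace Groth.Agent.Helper8.DieuWitt

open WittVector IdemLift

section Generic

variable {W : Type*} [CommRing W] (p : W) (I : Ideal W)

/-- `p`-saturation passes from the ring to finite projective modules. -/
theorem saturated_of_projective (hI : ∀ x : W, p * x ∈ I → x ∈ I)
    (M : Type*) [AddCommGroup M] [Module W M] [Module.Finite W M] [Module.Projective W M]
    (y : M) (hy : p • y ∈ (I • ⊤ : Submodule W M)) : y ∈ (I • ⊤ : Submodule W M) := by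
  obtain ⟨n, f, g, -, -, hfg⟩ := Module.Finite.exists_comp_eq_id_of_projective W M
  have h1 : g (p • y) ∈ (I • ⊤ : Submodule W (Fin n → W)) := map_mem_smul_top I g hy
  rw [map_smul, mem_smul_top_pi] at h1
  have h2 : g y ∈ (I • ⊤ : Submodule W (Fin n → W)) := by
    rw [mem_smul_top_pi]
    intro i
    have := h1 i
    rw [smul_eq_mul, Ideal.mul_top] at this ⊢
    exact hI _ (by simpa using this)
  have h3 := map_mem_smul_top I f h2
  have h4 : f (g y) = y := by
    have := LinearMap.congr_fun hfg y
    simpa using this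
  rwa [h4] at h3

theorem torsionFree_of_projective (hI : ∀ x : W, p * x = 0 → x = 0)
    (M : Type*) [AddCommGroup M] [Module W M] [Module.Finite W M] [Module.Projective W M]
    (y : M) (hy : p • y = 0) : y = 0 := by
  have := saturated_of_projective p ⊥ (fun x hx => by simpa using hI x (by simpa using hx)) M y
    (by rw [hy]; exact Submodule.zero_mem _)
  simpa using this

end Generic

variable (p : ℕ) [hp : Fact p.Prime] (k : Type*) [CommRing k] [CharP k p] [PerfectRing k p]

/-- Witt vectors with all components in `𝔞`. -/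
noncomputable def wI (𝔞 : Ideal k) : Ideal (WittVector p k) :=
  RingHom.ker (WittVector.map (Ideal.Quotient.mk 𝔞))

variable {p k}

theorem mem_wI {𝔞 : Ideal k} {x : WittVector p k} : x ∈ wI p k 𝔞 ↔ ∀ n, x.coeff n ∈ 𝔞 := by
  rw [wI, RingHom.mem_ker, WittVector.ext_iff]
  simp [WittVector.map_coeff, Ideal.Quotient.eq_zero_iff_mem]

theorem frobenius_mem_wI {𝔞 : Ideal k} {x : WittVector p k} (hx : x ∈ wI p k 𝔞) :
    WittVector.frobenius x ∈ wI p k 𝔞 := by
  rw [mem_wI] at hx ⊢
  intro n
  rw [WittVector.coeff_frobenius_charP]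
  exact Ideal.pow_mem_of_mem _ (hx n) _ hp.out.pos

theorem frobenius_symm_mem_wI {𝔞 : Ideal k} [𝔞.IsPrime] {x : WittVector p k}
    (hx : x ∈ wI p k 𝔞) : (WittVector.frobeniusEquiv p k).symm x ∈ wI p k 𝔞 := by
  rw [mem_wI] at hx ⊢
  intro n
  have h1 : WittVector.frobenius ((WittVector.frobeniusEquiv p k).symm x) = x :=
    (WittVector.frobeniusEquiv p k).apply_symm_apply x
  have h2 := hx n
  rw [← h1, WittVector.coeff_frobenius_charP] at h2
  exact Ideal.IsPrime.mem_of_pow_mem inferInstance _ h2

theorem of_p_mul_mem_wI {𝔞 : Ideal k} [𝔞.IsPrime] {x : WittVector p k}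
    (hx : (p : WittVector p k) * x ∈ wI p k 𝔞) : x ∈ wI p k 𝔞 := by
  rw [mem_wI] at hx ⊢
  intro n
  have h2 := hx (n + 1)
  rw [mul_comm, WittVector.mul_charP_coeff_succ] at h2
  exact Ideal.IsPrime.mem_of_pow_mem inferInstance _ h2

theorem exists_ideal (P : Ideal (WittVector p k)) (hP : P.IsMaximal)
    (hpP : (p : WittVector p k) ∈ P) :
    ∃ I : Ideal (WittVector p k), I ≤ P ∧ P ≤ I ⊔ Ideal.span {(p : WittVector p k)} ∧
      (∀ x ∈ I, WittVector.frobenius x ∈ I) ∧
      (∀ x ∈ I, ((WittVector.frobeniusEquiv p k).symm : WittVector p k →+* WittVector p k) x ∈ I) ∧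
      ∀ x : WittVector p k, (p : WittVector p k) * x ∈ I → x ∈ I := by
  have hker : RingHom.ker (WittVector.constantCoeff : WittVector p k →+* k) ≤ P := by
    rw [WittVector.ker_constantCoeff, Ideal.span_le, Set.singleton_subset_iff]
    exact hpP
  haveI : P.IsPrime := hP.isPrime
  let 𝔞 : Ideal k := Ideal.map (WittVector.constantCoeff : WittVector p k →+* k) P
  haveI h𝔞 : 𝔞.IsPrime :=
    Ideal.map_isPrime_of_surjective (WittVector.constantCoeff_surjective p) hker
  refine ⟨wI p k 𝔞, ?_, ?_, fun x hx => frobenius_mem_wI hx, fun x hx => frobenius_symm_mem_wI hx,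
    fun x hx => of_p_mul_mem_wI hx⟩
  · intro x hx
    have h0 : x.coeff 0 ∈ 𝔞 := mem_wI.mp hx 0
    obtain ⟨y, hy, hy0⟩ := (Ideal.mem_map_iff_of_surjective _
      (WittVector.constantCoeff_surjective p)).mp h0
    have h1 : x - y ∈ RingHom.ker (WittVector.constantCoeff : WittVector p k →+* k) := by
      rw [RingHom.mem_ker, map_sub, hy0]
      exact sub_self _
    have : x = (x - y) + y := by ring
    rw [this]
    exact P.add_mem (hker h1) hy
  · intro y hy
    have h1 : WittVector.teichmuller p (y.coeff 0) ∈ wI p k 𝔞 := by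
      rw [mem_wI]
      intro n
      rcases n with _ | n
      · rw [WittVector.teichmuller_coeff_zero]
        exact Ideal.mem_map_of_mem _ hy
      · rw [WittVector.teichmuller_coeff_pos p _ _ (Nat.succ_pos n)]
        exact 𝔞.zero_mem
    have h2 : y - WittVector.teichmuller p (y.coeff 0) ∈ Ideal.span {(p : WittVector p k)} := by
      rw [WittVector.mem_span_p_iff_coeff_zero_eq_zero]
      have : (WittVector.constantCoeff : WittVector p k →+* k)
          (y - WittVector.teichmuller p (y.coeff 0)) = 0 := by
        rw [map_sub]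
        simp [WittVector.constantCoeff_apply, WittVector.teichmuller_coeff_zero]
      exact this
    have : y = WittVector.teichmuller p (y.coeff 0) + (y - WittVector.teichmuller p (y.coeff 0)) := by
      ring
    rw [this]
    exact Submodule.add_mem_sup h1 h2

section Module

variable (M : Type*) [AddCommGroup M] [Module (WittVector p k) M]
  (F : M →ₛₗ[(WittVector.frobenius : WittVector p k →+* WittVector p k)] M)
  (V : M →ₛₗ[((WittVector.frobeniusEquiv p k).symm : WittVector p k →+* WittVector p k)] M)
  (hFV : ∀ m : M, F (V m) = (p : WittVector p k) • m)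
  (hVF : ∀ m : M, V (F m) = (p : WittVector p k) • m)

include hFV hVF in
theorem projective_quot [Module.Finite (WittVector p k) M] [Module.Projective (WittVector p k) M] :
    Module.Projective (WittVector p k ⧸ Ideal.span {(p : WittVector p k)})
      ((M ⧸ (Ideal.span {(p : WittVector p k)} • (⊤ : Submodule (WittVector p k) M))) ⧸
        Submodule.span (WittVector p k ⧸ Ideal.span {(p : WittVector p k)})
          (Set.range fun m : M => (Ideal.span {(p : WittVector p k)} •
            (⊤ : Submodule (WittVector p k) M)).mkQ (V m))) := by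
  let e := (TensorProduct.quotTensorEquivQuotSMul M
    (Ideal.span {(p : WittVector p k)})).extendScalarsOfSurjective
      (Ideal.Quotient.mk_surjective (I := Ideal.span {(p : WittVector p k)}))
  haveI : Module.Projective (WittVector p k ⧸ Ideal.span {(p : WittVector p k)})
      (M ⧸ (Ideal.span {(p : WittVector p k)} • (⊤ : Submodule (WittVector p k) M))) :=
    Module.Projective.of_equiv e
  haveI : Module.Finite (WittVector p k ⧸ Ideal.span {(p : WittVector p k)})
      (M ⧸ (Ideal.span {(p : WittVector p k)} • (⊤ : Submodule (WittVector p k) M))) :=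
    Module.Finite.equiv e
  refine DieuCore.core (p : WittVector p k)
    (fun a => (WittVector.frobeniusEquiv p k).symm_apply_apply a)
    (fun a => (WittVector.frobeniusEquiv p k).apply_symm_apply a) F V hFV hVF ?_
  intro P hP hpP
  obtain ⟨I, h1, h2, h3, h4, h5⟩ := exists_ideal P hP hpP
  refine ⟨I, h1, h2, h3, h4, fun y hy => ?_⟩
  exact Submodule.mem_sup_left (saturated_of_projective _ I h5 M y hy)

end Module

end Groth.Agent.Helper8.DieuWitt
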