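import Mathlib
import Groth.Agent.Helper8.DieuWitt

/-!
# Level-one conditions for Dieudonné modules over a perfect ring
-/

namespace Groth.Agent.Helper8.DieuLevelOne

open WittVector

variable {p : ℕ} [hp : Fact p.Prime] {k : Type*} [CommRing k] [CharP k p] [PerfectRing k p]
  (M : Type*) [AddCommGroup M] [Module (WittVector p k) M]
  [Module.Finite (WittVector p k) M] [Module.Projective (WittVector p k) M]

theorem torsionFree (y : M) (hy : (p : WittVector p k) • y = 0) : y = 0 :=
  DieuWitt.torsionFree_of_projective (p : WittVector p k)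
    (fun x hx => WittVector.eq_zero_of_p_mul_eq_zero x (by rwa [mul_comm])) M y hy

variable {M}

/-- generic: `G H = p`, `H G = p`, then `comap G (pM) = span (range H) ⊔ pM`. -/
theorem comap_eq {σ τ : WittVector p k →+* WittVector p k}
    (hσp : σ (p : WittVector p k) = p)
    (G : M →ₛₗ[σ] M) (H : M →ₛₗ[τ] M)
    (hGH : ∀ m : M, G (H m) = (p : WittVector p k) • m)
    (hHG : ∀ m : M, H (G m) = (p : WittVector p k) • m) :
    (Ideal.span {(p : WittVector p k)} • (⊤ : Submodule (WittVector p k) M)).comap G =
      Submodule.span (WittVector p k) (Set.range H) ⊔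
        Ideal.span {(p : WittVector p k)} • (⊤ : Submodule (WittVector p k) M) := by
  have hGinj : Function.Injective G := by
    rw [injective_iff_map_eq_zero]
    intro x hx
    apply torsionFree (p := p) (k := k) M
    rw [← hHG, hx, map_zero]
  apply le_antisymm
  · intro m hm
    rw [Submodule.mem_comap, DieuCore.mem_span_singleton_smul_top] at hm
    obtain ⟨m', hm'⟩ := hm
    rw [← hGH] at hm'
    rw [hGinj hm']
    exact Submodule.mem_sup_left (Submodule.subset_span ⟨m', rfl⟩)
  · apply sup_le
    · rw [Submodule.span_le]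
      rintro _ ⟨m, rfl⟩
      rw [SetLike.mem_coe, Submodule.mem_comap, hGH]
      exact (DieuCore.mem_span_singleton_smul_top _).mpr ⟨m, rfl⟩
    · intro x hx
      obtain ⟨m, rfl⟩ := (DieuCore.mem_span_singleton_smul_top _).mp hx
      rw [Submodule.mem_comap, G.map_smulₛₗ, hσp]
      exact (DieuCore.mem_span_singleton_smul_top _).mpr ⟨_, rfl⟩

theorem main
    (F : M →ₛₗ[(WittVector.frobenius : WittVector p k →+* WittVector p k)] M)
    (V : M →ₛₗ[((WittVector.frobeniusEquiv p k).symm : WittVector p k →+* WittVector p k)] M)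
    (hFV : ∀ m : M, F (V m) = (p : WittVector p k) • m)
    (hVF : ∀ m : M, V (F m) = (p : WittVector p k) • m) :
    ((Ideal.span {(p : WittVector p k)} • (⊤ : Submodule (WittVector p k) M)).comap F =
        Submodule.span (WittVector p k) (Set.range V) ⊔ Ideal.span {(p : WittVector p k)} • (⊤ : Submodule (WittVector p k) M) ∧
      (Ideal.span {(p : WittVector p k)} • (⊤ : Submodule (WittVector p k) M)).comap V =
        Submodule.span (WittVector p k) (Set.range F) ⊔ Ideal.span {(p : WittVector p k)} • (⊤ : Submodule (WittVector p k) M)) ∧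
    Module.Projective (WittVector p k ⧸ Ideal.span {(p : WittVector p k)})
      ((M ⧸ (Ideal.span {(p : WittVector p k)} • (⊤ : Submodule (WittVector p k) M))) ⧸
        Submodule.span (WittVector p k ⧸ Ideal.span {(p : WittVector p k)})
          (Set.range fun m : M => (Ideal.span {(p : WittVector p k)} • (⊤ : Submodule (WittVector p k) M)).mkQ (V m))) := by
  refine ⟨⟨comap_eq (map_natCast _ p) F V hFV hVF, comap_eq (map_natCast _ p) V F hVF hFV⟩,
    DieuWitt.projective_quot M F V hFV hVF⟩

end Groth.Agent.Helper8.DieuLevelOne
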