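import Mathlib.RingTheory.WittVector.Complete

/-!
# Witt vectors of a `p`-adically complete ring

If `R` is `p`-adically complete and separated then `𝕎 R` is `p`-adically complete and separated,
and also complete and separated for the adic topology of `ker constantCoeff`.
-/

namespace Groth.Agent.Helper8.WittAdic

open WittVector

section Abstract

variable {W : Type*} [CommRing W]

/-- Abstract completeness transfer lemma. -/
theorem abstract_complete (J : ℕ → Ideal W) (hanti : Antitone J)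
    (hsep : ∀ x, (∀ k, x ∈ J k) → x = 0)
    (hcompl : ∀ y : ℕ → W, (∀ k, y (k + 1) - y k ∈ J k) → ∃ L, ∀ k, L - y k ∈ J k)
    (a : W) (ha : ∀ k, a ^ k ∈ J k) (𝔟 : Ideal W)
    (hcl : ∀ (s : W) (t : ℕ → W), (∀ N, t N ∈ 𝔟) → (∀ N, s - t N ∈ J N) → s ∈ 𝔟)
    (f : ℕ → W) (hf : ∀ j, f (j + 1) - f j ∈ Ideal.span {a ^ j} * 𝔟) :
    ∃ L, ∀ n, L - f n ∈ Ideal.span {a ^ n} * 𝔟 := by
  have hf' : ∀ j, ∃ e ∈ 𝔟, a ^ j * e = f (j + 1) - f j := fun j =>
    Ideal.mem_span_singleton_mul.mp (hf j)
  choose e he hfe using hf'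
  let S : ℕ → ℕ → W := fun n N => ∑ i ∈ Finset.range N, a ^ i * e (n + i)
  have hS_succ : ∀ n N, S n (N + 1) - S n N = a ^ N * e (n + N) := by
    intro n N
    simp only [S, Finset.sum_range_succ]
    ring
  have hS_mem : ∀ n N, S n N ∈ 𝔟 := fun n N =>
    Ideal.sum_mem _ fun i _ => Ideal.mul_mem_left _ _ (he _)
  have hex : ∀ n, ∃ s, ∀ N, s - S n N ∈ J N := fun n =>
    hcompl (S n) fun N => by
      rw [hS_succ]
      exact Ideal.mul_mem_right _ _ (ha N)
  choose s hs using hex
  have hsb : ∀ n, s n ∈ 𝔟 := fun n => hcl (s n) (S n) (hS_mem n) (hs n)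
  have htel : ∀ n N, f (n + N) - f n = a ^ n * S n N := by
    intro n N
    induction N with
    | zero => simp [S]
    | succ N ih =>
      have h1 : f (n + (N + 1)) - f n = (f (n + N + 1) - f (n + N)) + (f (n + N) - f n) := by
        rw [← add_assoc]; ring
      have h2 : S n (N + 1) = S n N + a ^ N * e (n + N) := by
        rw [← hS_succ]; ring
      rw [h1, ih, ← hfe, h2, pow_add]
      ring
  refine ⟨f 0 + s 0, fun n => ?_⟩
  have key : f 0 + s 0 - f n = a ^ n * s n := by
    rw [← sub_eq_zero]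
    apply hsep
    intro N
    have e1 := htel n N
    have e2 := htel 0 (n + N)
    simp only [zero_add, pow_zero, one_mul] at e2
    have : f 0 + s 0 - f n - a ^ n * s n =
        (s 0 - S 0 (n + N)) - a ^ n * (s n - S n N) := by
      have e3 : f 0 - f n = a ^ n * S n N - S 0 (n + N) := by
        rw [← e1, ← e2]; ring
      calc f 0 + s 0 - f n - a ^ n * s n
          = (f 0 - f n) + s 0 - a ^ n * s n := by ring
        _ = (a ^ n * S n N - S 0 (n + N)) + s 0 - a ^ n * s n := by rw [e3]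
        _ = _ := by ring
    rw [this]
    refine Ideal.sub_mem _ ?_ (Ideal.mul_mem_left _ _ (hs n N))
    exact hanti (Nat.le_add_left N n) (hs 0 (n + N))
  rw [key]
  exact Ideal.mem_span_singleton_mul.mpr ⟨s n, hsb n, rfl⟩

end Abstract

variable (p : ℕ) [hp : Fact p.Prime] (R : Type*) [CommRing R]

local notation "𝕎" => WittVector p

/-- The ideal of Witt vectors whose first `m` components lie in `p ^ m R`. -/
noncomputable def Jf (m : ℕ) : Ideal (𝕎 R) :=
  RingHom.ker ((WittVector.truncate m).comp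
    (WittVector.map (Ideal.Quotient.mk (Ideal.span {(p : R)} ^ m))))

variable {p R}

theorem mem_Jf {m : ℕ} {x : 𝕎 R} :
    x ∈ Jf p R m ↔ ∀ i < m, x.coeff i ∈ Ideal.span {(p : R)} ^ m := by
  unfold Jf
  rw [RingHom.mem_ker, RingHom.comp_apply, ← RingHom.mem_ker, WittVector.mem_ker_truncate]
  simp only [WittVector.map_coeff, Ideal.Quotient.eq_zero_iff_mem]

theorem sub_mem_Jf_iff {m : ℕ} {x y : 𝕎 R} :
    x - y ∈ Jf p R m ↔ ∀ i < m, x.coeff i - y.coeff i ∈ Ideal.span {(p : R)} ^ m := by
  unfold Jf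
  rw [RingHom.mem_ker, map_sub, sub_eq_zero]
  constructor
  · intro h i hi
    have := congrArg (fun z => TruncatedWittVector.coeff ⟨i, hi⟩ z) h
    simp only [RingHom.comp_apply, WittVector.coeff_truncate, WittVector.map_coeff] at this
    exact Ideal.Quotient.eq.mp this
  · intro h
    apply TruncatedWittVector.ext
    intro i
    simp only [RingHom.comp_apply, WittVector.coeff_truncate, WittVector.map_coeff]
    exact Ideal.Quotient.eq.mpr (h i i.2)

theorem Jf_antitone : Antitone (Jf p R) := by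
  intro m m' hmm' x hx
  rw [mem_Jf] at hx ⊢
  intro i hi
  exact Ideal.pow_le_pow_right hmm' (hx i (lt_of_lt_of_le hi hmm'))

section PowMem

variable {S : Type*} [CommRing S]

/-- If `p ^ m = 0` in `S` and the first `k` components of `y` vanish, then the first `k + 1`
components of `p ^ m * y` vanish. -/
theorem coeff_pow_mul_eq_zero (m : ℕ) (hS : ((p : S)) ^ m = 0) :
    ∀ (k : ℕ) (y : 𝕎 S), (∀ i < k, y.coeff i = 0) →
      ∀ i < k + 1, (((p : 𝕎 S)) ^ m * y).coeff i = 0 := by
  intro k
  induction k with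
  | zero =>
    intro y _ i hi
    obtain rfl : i = 0 := by omega
    rw [WittVector.mul_coeff_zero]
    have : ((p : 𝕎 S) ^ m).coeff 0 = (p : S) ^ m := by
      have := map_pow (WittVector.constantCoeff (p := p) (R := S)) (p : 𝕎 S) m
      rw [map_natCast] at this
      exact this
    rw [this, hS, zero_mul]
  | succ k ih =>
    intro y hy i hi
    have hy0 : ∀ i < 0 + 1, y.coeff i = 0 := fun i hi => hy i (by omega)
    have hV : WittVector.verschiebung (y.shift 1) = y := by
      have := WittVector.verschiebung_shift y 0 hy0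
      rw [this]
      ext n
      simp [WittVector.shift_coeff]
    have hw : ∀ i < k, (y.shift 1).coeff i = 0 := fun i hi => by
      rw [WittVector.shift_coeff]; exact hy _ (by omega)
    have hmul : (p : 𝕎 S) ^ m * y = WittVector.verschiebung ((p : 𝕎 S) ^ m * y.shift 1) := by
      have h1 := WittVector.verschiebung_mul_frobenius (y.shift 1) ((p : 𝕎 S) ^ m)
      rw [map_pow, map_natCast, hV] at h1
      rw [mul_comm, ← h1, mul_comm]
    rw [hmul]
    cases i with
    | zero => exact WittVector.verschiebung_coeff_zero _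
    | succ i =>
      rw [WittVector.verschiebung_coeff_succ]
      exact ih (y.shift 1) hw i (by omega)

theorem coeff_pow_mul_eq_zero' (m : ℕ) (hS : ((p : S)) ^ m = 0) :
    ∀ (k : ℕ) (y : 𝕎 S), ∀ i < k, (((p : 𝕎 S)) ^ (m * k) * y).coeff i = 0 := by
  intro k
  induction k with
  | zero => intro y i hi; omega
  | succ k ih =>
    intro y i hi
    have : (p : 𝕎 S) ^ (m * (k + 1)) * y = (p : 𝕎 S) ^ m * ((p : 𝕎 S) ^ (m * k) * y) := by
      rw [mul_add, mul_one, pow_add]; ring
    rw [this]
    exact coeff_pow_mul_eq_zero m hS k _ (ih y) i hi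

end PowMem

theorem pow_mem_Jf (m : ℕ) : ((p : 𝕎 R)) ^ (m * m) ∈ Jf p R m := by
  unfold Jf
  rw [RingHom.mem_ker, RingHom.comp_apply, map_pow, map_natCast, ← RingHom.mem_ker,
    WittVector.mem_ker_truncate]
  intro i hi
  have hS : ((p : R ⧸ Ideal.span {(p : R)} ^ m)) ^ m = 0 := by
    have : ((p : R ⧸ Ideal.span {(p : R)} ^ m)) ^ m =
        Ideal.Quotient.mk (Ideal.span {(p : R)} ^ m) ((p : R) ^ m) := by
      rw [map_pow, map_natCast]
    rw [this, Ideal.Quotient.eq_zero_iff_mem]
    exact Ideal.pow_mem_pow (I := Ideal.span {(p : R)}) (Ideal.subset_span (Set.mem_singleton _)) m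
  have := coeff_pow_mul_eq_zero' (p := p) m hS m 1 i hi
  rwa [mul_one] at this

/-- The re-indexed filtration. -/
noncomputable def J' (p : ℕ) [Fact p.Prime] (R : Type*) [CommRing R] (k : ℕ) : Ideal (WittVector p R) :=
  Jf p R (Nat.sqrt k)

theorem J'_antitone : Antitone (J' p R) := fun _ _ h => Jf_antitone (Nat.sqrt_le_sqrt h)

theorem pow_mem_J' (k : ℕ) : ((p : 𝕎 R)) ^ k ∈ J' p R k := by
  have h : Nat.sqrt k * Nat.sqrt k ≤ k := Nat.sqrt_le k
  have : (p : 𝕎 R) ^ k = (p : 𝕎 R) ^ (Nat.sqrt k * Nat.sqrt k) * (p : 𝕎 R) ^ (k - Nat.sqrt k * Nat.sqrt k) := by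
    rw [← pow_add, Nat.add_sub_cancel' h]
  rw [this]
  exact Ideal.mul_mem_right _ _ (pow_mem_Jf _)

theorem Jf_le_J' (m : ℕ) : J' p R (m * m) = Jf p R m := by
  unfold J'
  rw [Nat.sqrt_eq]

variable [IsAdicComplete (Ideal.span {(p : R)}) R]

theorem eq_zero_of_forall_mem_pow (r : R) (h : ∀ m, r ∈ Ideal.span {(p : R)} ^ m) : r = 0 := by
  apply IsHausdorff.haus (I := Ideal.span {(p : R)}) inferInstance
  intro n
  rw [SModEq.zero, smul_eq_mul, Ideal.mul_top]
  exact h n

theorem J'_sep (x : 𝕎 R) (hx : ∀ k, x ∈ J' p R k) : x = 0 := by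
  ext i
  rw [WittVector.zero_coeff]
  apply eq_zero_of_forall_mem_pow (p := p)
  intro m
  have := hx (max m (i + 1) * max m (i + 1))
  rw [Jf_le_J', mem_Jf] at this
  exact Ideal.pow_le_pow_right (le_max_left _ _) (this i (lt_of_lt_of_le (Nat.lt_succ_self i) (le_max_right _ _)))

theorem J'_compl (y : ℕ → 𝕎 R) (hy : ∀ k, y (k + 1) - y k ∈ J' p R k) :
    ∃ L, ∀ k, L - y k ∈ J' p R k := by
  -- Cauchy property
  have hle : ∀ k l, k ≤ l → y l - y k ∈ J' p R k := by
    intro k l hkl
    induction l, hkl using Nat.le_induction with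
    | base => simp
    | succ l hkl ih =>
      have : y (l + 1) - y k = (y (l + 1) - y l) + (y l - y k) := by ring
      rw [this]
      exact Ideal.add_mem _ (J'_antitone hkl (hy l)) ih
  have hcauchy : ∀ M a b, M ≤ Nat.sqrt a → M ≤ Nat.sqrt b → y a - y b ∈ Jf p R M := by
    intro M a b ha hb
    rcases le_total a b with hab | hab
    · have := hle a b hab
      have h2 : y a - y b = -(y b - y a) := by ring
      rw [h2]
      exact Ideal.neg_mem_iff _ |>.mpr (Jf_antitone ha this)
    · exact Jf_antitone hb (hle b a hab)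
  -- coefficient sequences
  let κ : ℕ → ℕ := fun M => M * M
  have hκ : ∀ M, Nat.sqrt (κ M) = M := fun M => Nat.sqrt_eq M
  let g : ℕ → ℕ → R := fun i n => (y (κ (max n (i + 1)))).coeff i
  have hg : ∀ i, ∀ {m n : ℕ}, m ≤ n →
      g i m ≡ g i n [SMOD (Ideal.span {(p : R)} ^ m • ⊤ : Submodule R R)] := by
    intro i m n hmn
    rw [SModEq.sub_mem, smul_eq_mul, Ideal.mul_top]
    have h1 : max m (i + 1) ≤ max n (i + 1) := max_le_max hmn le_rfl
    have h2 := hcauchy (max m (i + 1)) (κ (max m (i + 1))) (κ (max n (i + 1)))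
      (by rw [hκ]) (by rw [hκ]; exact h1)
    rw [sub_mem_Jf_iff] at h2
    exact Ideal.pow_le_pow_right (le_max_left _ _)
      (h2 i (lt_of_lt_of_le (Nat.lt_succ_self i) (le_max_right _ _)))
  have hlim : ∀ i, ∃ c : R, ∀ n, g i n ≡ c [SMOD (Ideal.span {(p : R)} ^ n • ⊤ : Submodule R R)] :=
    fun i => IsPrecomplete.prec (I := Ideal.span {(p : R)}) inferInstance (hg i)
  choose c hc using hlim
  refine ⟨WittVector.mk p c, fun k => ?_⟩
  unfold J'
  rw [sub_mem_Jf_iff]
  intro i hi
  set M := Nat.sqrt k with hM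
  have h1 := hc i M
  rw [SModEq.sub_mem, smul_eq_mul, Ideal.mul_top] at h1
  have hgi : g i M = (y (κ M)).coeff i := by
    simp only [g]
    rw [max_eq_left (by omega : i + 1 ≤ M)]
  have h2 := hcauchy M (κ M) k (by rw [hκ]) le_rfl
  rw [sub_mem_Jf_iff] at h2
  have h3 := h2 i hi
  rw [WittVector.coeff_mk]
  have : c i - (y k).coeff i = -(g i M - c i) + ((y (κ M)).coeff i - (y k).coeff i) := by
    rw [hgi]; ring
  rw [this]
  exact Ideal.add_mem _ (Ideal.neg_mem_iff _ |>.mpr h1) h3

/-- `ker constantCoeff` is closed for the filtration. -/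
theorem ker_closed (s : 𝕎 R) (t : ℕ → 𝕎 R)
    (ht : ∀ N, t N ∈ RingHom.ker (WittVector.constantCoeff : 𝕎 R →+* R))
    (hs : ∀ N, s - t N ∈ J' p R N) :
    s ∈ RingHom.ker (WittVector.constantCoeff : 𝕎 R →+* R) := by
  rw [RingHom.mem_ker]
  change s.coeff 0 = 0
  apply eq_zero_of_forall_mem_pow (p := p)
  intro m
  have h1 := hs ((m + 1) * (m + 1))
  rw [Jf_le_J', sub_mem_Jf_iff] at h1
  have h2 := h1 0 (Nat.succ_pos m)
  have h3 : (t ((m + 1) * (m + 1))).coeff 0 = 0 := ht _
  rw [h3, sub_zero] at h2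
  exact Ideal.pow_le_pow_right (Nat.le_succ m) h2

theorem isAdicComplete_p : IsAdicComplete (Ideal.span {(p : 𝕎 R)}) (𝕎 R) := by
  have hH : IsHausdorff (Ideal.span {(p : 𝕎 R)}) (𝕎 R) := by
    refine ⟨fun x hx => J'_sep x fun k => ?_⟩
    have := hx k
    rw [SModEq.zero, smul_eq_mul, Ideal.mul_top, Ideal.span_singleton_pow,
      Ideal.mem_span_singleton'] at this
    obtain ⟨a, rfl⟩ := this
    exact Ideal.mul_mem_left _ _ (pow_mem_J' k)
  have hP : IsPrecomplete (Ideal.span {(p : 𝕎 R)}) (𝕎 R) := by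
    refine ⟨fun f hf => ?_⟩
    have := abstract_complete (J' p R) J'_antitone J'_sep J'_compl (p : 𝕎 R) pow_mem_J' ⊤
      (fun _ _ _ _ => Submodule.mem_top) f (fun j => by
        have := hf (Nat.le_succ j)
        rw [SModEq.sub_mem, smul_eq_mul, Ideal.mul_top, Ideal.span_singleton_pow] at this
        rw [Ideal.mul_top]
        have h2 : f (j + 1) - f j = -(f j - f (j + 1)) := by ring
        rw [h2]
        exact Ideal.neg_mem_iff _ |>.mpr this)
    obtain ⟨L, hL⟩ := this
    refine ⟨L, fun n => ?_⟩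
    rw [SModEq.sub_mem, smul_eq_mul, Ideal.mul_top, Ideal.span_singleton_pow]
    have := hL n
    rw [Ideal.mul_top] at this
    have h2 : f n - L = -(L - f n) := by ring
    rw [h2]
    exact Ideal.neg_mem_iff _ |>.mpr this
  exact { hH, hP with }

/-- `I * I = p I` for `I = ker constantCoeff`. -/
theorem ker_mul_ker :
    (RingHom.ker (WittVector.constantCoeff : 𝕎 R →+* R)) *
      (RingHom.ker (WittVector.constantCoeff : 𝕎 R →+* R)) =
    Ideal.span {(p : 𝕎 R)} * RingHom.ker (WittVector.constantCoeff : 𝕎 R →+* R) := by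
  have hV : ∀ x : 𝕎 R, x ∈ RingHom.ker (WittVector.constantCoeff : 𝕎 R →+* R) →
      WittVector.verschiebung (x.shift 1) = x := by
    intro x hx
    have hx0 : ∀ i < 0 + 1, x.coeff i = 0 := by
      intro i hi
      obtain rfl : i = 0 := by omega
      exact hx
    have := WittVector.verschiebung_shift x 0 hx0
    rw [this]
    ext n
    simp [WittVector.shift_coeff]
  have hVmem : ∀ z : 𝕎 R, WittVector.verschiebung z ∈
      RingHom.ker (WittVector.constantCoeff : 𝕎 R →+* R) := fun z =>
    WittVector.verschiebung_coeff_zero z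
  have hVV : ∀ x y : 𝕎 R, WittVector.verschiebung x * WittVector.verschiebung y =
      (p : 𝕎 R) * WittVector.verschiebung (x * y) := by
    intro x y
    have h1 := WittVector.verschiebung_mul_frobenius x (WittVector.verschiebung y)
    rw [WittVector.frobenius_verschiebung] at h1
    rw [← h1, ← mul_assoc]
    have h2 : x * y * (p : 𝕎 R) = p • (x * y) := by
      rw [nsmul_eq_mul]; ring
    rw [h2, map_nsmul, nsmul_eq_mul]
  apply le_antisymm
  · rw [Ideal.mul_le]
    intro x hx y hy
    rw [← hV x hx, ← hV y hy, hVV]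
    exact Ideal.mul_mem_mul (Ideal.subset_span rfl) (hVmem _)
  · rw [Ideal.mul_le]
    intro a ha y hy
    rw [Ideal.mem_span_singleton'] at ha
    obtain ⟨b, rfl⟩ := ha
    rw [← hV y hy]
    have h1 := hVV 1 (y.shift 1)
    rw [one_mul] at h1
    rw [mul_assoc, ← h1, ← mul_assoc]
    exact Ideal.mul_mem_mul (Ideal.mul_mem_left _ _ (hVmem _)) (hVmem _)

theorem ker_pow_succ (n : ℕ) :
    (RingHom.ker (WittVector.constantCoeff : 𝕎 R →+* R)) ^ (n + 1) =
    Ideal.span {(p : 𝕎 R) ^ n} * RingHom.ker (WittVector.constantCoeff : 𝕎 R →+* R) := by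
  induction n with
  | zero => simp
  | succ n ih =>
    rw [pow_succ, ih, mul_assoc, ker_mul_ker, ← mul_assoc, Ideal.span_singleton_mul_span_singleton,
      ← pow_succ]

theorem isAdicComplete_ker :
    IsAdicComplete (RingHom.ker (WittVector.constantCoeff : 𝕎 R →+* R)) (𝕎 R) := by
  have hH : IsHausdorff (RingHom.ker (WittVector.constantCoeff : 𝕎 R →+* R)) (𝕎 R) := by
    refine ⟨fun x hx => J'_sep x fun k => ?_⟩
    have := hx (k + 1)
    rw [SModEq.zero, smul_eq_mul, Ideal.mul_top, ker_pow_succ,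
      Ideal.mem_span_singleton_mul] at this
    obtain ⟨a, -, rfl⟩ := this
    exact Ideal.mul_mem_right _ _ (pow_mem_J' k)
  have hP : IsPrecomplete (RingHom.ker (WittVector.constantCoeff : 𝕎 R →+* R)) (𝕎 R) := by
    refine ⟨fun f hf => ?_⟩
    have := abstract_complete (J' p R) J'_antitone J'_sep J'_compl (p : 𝕎 R) pow_mem_J'
      (RingHom.ker (WittVector.constantCoeff : 𝕎 R →+* R)) ker_closed (fun j => f (j + 1))
      (fun j => by
        have := hf (Nat.le_succ (j + 1))
        rw [SModEq.sub_mem, smul_eq_mul, Ideal.mul_top, ker_pow_succ] at this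
        have h2 : f (j + 1 + 1) - f (j + 1) = -(f (j + 1) - f (j + 1).succ) := by
          simp only [Nat.succ_eq_add_one]; ring
        rw [h2]
        exact Ideal.neg_mem_iff _ |>.mpr this)
    obtain ⟨L, hL⟩ := this
    refine ⟨L, fun n => ?_⟩
    rw [SModEq.sub_mem, smul_eq_mul, Ideal.mul_top]
    cases n with
    | zero => simp
    | succ n =>
      rw [ker_pow_succ]
      have := hL n
      have h2 : f (n + 1) - L = -(L - f (n + 1)) := by ring
      rw [h2]
      exact Ideal.neg_mem_iff _ |>.mpr this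
  exact { hH, hP with }

end Groth.Agent.Helper8.WittAdic
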