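import Mathlib
import Groth.Prelude.Def_W4c1extbt610Disp
import Groth.Agent.Helper8.IdemLift
import Groth.Agent.Helper8.WittAdic

/-!
# Normal decompositions exist over `p`-adically complete rings
-/

namespace Groth.Agent.Helper8.NormalDecomp

open WittVector

variable (p : ℕ) [hp : Fact p.Prime] (R : Type*) [CommRing R]

theorem IV_eq_ker :
    W4c1extbt610.IV p R = RingHom.ker (WittVector.constantCoeff : WittVector p R →+* R) := by
  apply le_antisymm
  · rw [W4c1extbt610.IV, Ideal.span_le]
    rintro _ ⟨w, rfl⟩
    simp only [SetLike.mem_coe, RingHom.mem_ker]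
    exact WittVector.verschiebung_coeff_zero w
  · intro x hx
    rw [RingHom.mem_ker] at hx
    have h : ∀ i < 1, x.coeff i = 0 := by
      intro i hi
      obtain rfl : i = 0 := by omega
      exact hx
    have h1 := WittVector.eq_iterate_verschiebung (p := p) (R := R) h
    rw [h1]
    exact W4c1extbt610.verschiebung_mem_IV p R _

variable {p R}

theorem main [IsAdicComplete (Ideal.span {(p : R)}) R]
    (P : Type*) [AddCommGroup P] [Module (WittVector p R) P]
    [Module.Finite (WittVector p R) P] [Module.Projective (WittVector p R) P]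
    (Q : Submodule (WittVector p R) P)
    (hQ : ∃ C : Submodule (WittVector p R) P,
      Q ⊔ C = ⊤ ∧ Q ⊓ C = W4c1extbt610.IV p R • (⊤ : Submodule (WittVector p R) P)) :
    ∃ L T : Submodule (WittVector p R) P, IsCompl L T ∧ Q = L ⊔ W4c1extbt610.IV p R • T := by
  obtain ⟨C, hsup, hinf⟩ := hQ
  set I := W4c1extbt610.IV p R with hI
  haveI hW : IsAdicComplete I (WittVector p R) := by
    rw [hI, IV_eq_ker]
    exact WittAdic.isAdicComplete_ker
  haveI hE : IsAdicComplete I (Module.End (WittVector p R) P) := IdemLift.isAdicComplete_end I P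
  -- a linear splitting of `Q × C → P`
  let s : (Q × C) →ₗ[WittVector p R] P := Q.subtype.coprod C.subtype
  have hs : Function.Surjective s := by
    intro x
    have hx : x ∈ Q ⊔ C := by rw [hsup]; trivial
    obtain ⟨q, hq, c, hc, rfl⟩ := Submodule.mem_sup.mp hx
    exact ⟨(⟨q, hq⟩, ⟨c, hc⟩), by simp [s]⟩
  obtain ⟨σ, hσ⟩ := Module.projective_lifting_property s LinearMap.id hs
  have hσ' : ∀ x, ((σ x).1 : P) + ((σ x).2 : P) = x := by
    intro x
    have := LinearMap.congr_fun hσ x
    simpa [s] using this
  let a : Module.End (WittVector p R) P := Q.subtype ∘ₗ LinearMap.fst _ _ _ ∘ₗ σ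
  have haQ : ∀ x, a x ∈ Q := fun x => (σ x).1.2
  have haC : ∀ x, x - a x ∈ C := by
    intro x
    have : x - a x = ((σ x).2 : P) := by
      have h := hσ' x
      simp only [a, LinearMap.comp_apply, LinearMap.fst_apply, Submodule.subtype_apply]
      rw [sub_eq_iff_eq_add, add_comm]
      exact h.symm
    rw [this]
    exact (σ x).2.2
  have hIP : ∀ x, x ∈ Q → x ∈ C → x ∈ (I • ⊤ : Submodule (WittVector p R) P) := by
    intro x hxq hxc
    rw [← hinf]
    exact ⟨hxq, hxc⟩
  have hIQ : (I • ⊤ : Submodule (WittVector p R) P) ≤ Q := by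
    rw [← hinf]; exact inf_le_left
  have ha : a * a - a ∈ (I • ⊤ : Submodule (WittVector p R) (Module.End (WittVector p R) P)) := by
    apply IdemLift.mem_smul_top_end
    intro x
    simp only [LinearMap.sub_apply, Module.End.mul_apply]
    apply hIP
    · exact Q.sub_mem (haQ _) (haQ _)
    · have := haC (a x)
      rw [← neg_sub]
      exact C.neg_mem this
  obtain ⟨e, he, hea⟩ := IdemLift.exists_idempotent_lift I a ha
  have hea' : ∀ x, e x - a x ∈ (I • ⊤ : Submodule (WittVector p R) P) := by
    intro x
    have := IdemLift.apply_mem_smul_top I P (e - a) hea x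
    simpa using this
  have hee : ∀ x, e (e x) = e x := by
    intro x
    have := LinearMap.congr_fun he.eq x
    simpa using this
  refine ⟨LinearMap.range e, LinearMap.ker e, LinearMap.IsIdempotentElem.isCompl he, ?_⟩
  apply le_antisymm
  · intro x hx
    have hxe : x = e x + (x - e x) := by abel
    rw [hxe]
    refine Submodule.add_mem_sup (LinearMap.mem_range_self e x) ?_
    -- `t = x - e x ∈ I P ∩ T`
    have ht1 : x - e x ∈ (I • ⊤ : Submodule (WittVector p R) P) := by
      have : x - e x = (x - a x) - (e x - a x) := by abel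
      rw [this]
      refine Submodule.sub_mem _ (hIP _ (Q.sub_mem hx (haQ x)) (haC x)) (hea' x)
    have ht2 : e (x - e x) = 0 := by rw [map_sub, hee, sub_self]
    let g : P →ₗ[WittVector p R] P := LinearMap.id - e
    have ht3 : g (x - e x) = x - e x := by
      rw [LinearMap.sub_apply, ht2, LinearMap.id_apply, sub_zero]
    rw [← ht3]
    have h1 : g (x - e x) ∈
        Submodule.map g (I • ⊤ : Submodule (WittVector p R) P) :=
      ⟨_, ht1, rfl⟩
    rw [Submodule.map_smul''] at h1
    refine Submodule.smul_mono le_rfl ?_ h1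
    rintro _ ⟨y, -, rfl⟩
    rw [LinearMap.mem_ker, LinearMap.sub_apply, map_sub, LinearMap.id_apply, hee, sub_self]
  · apply sup_le
    · rintro _ ⟨y, rfl⟩
      have : e y = a y + (e y - a y) := by abel
      rw [this]
      exact Q.add_mem (haQ y) (hIQ (hea' y))
    · exact le_trans (Submodule.smul_mono le_rfl le_top) hIQ

end Groth.Agent.Helper8.NormalDecomp
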