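import Mathlib
import Groth.Prelude.Def_W4c1extbt610Disp
import Groth.Agent.Helper8.NormalDecomp
import Groth.Agent.Helper8.DieuLevelOne

/-!
# From a Dieudonné module over a perfect ring to a 3n-display
-/

namespace Groth.Agent.Helper8.DieuDisplay

open WittVector

variable {p : ℕ} [hp : Fact p.Prime] {k : Type*} [CommRing k] [CharP k p] [PerfectRing k p]

theorem IV_eq_span : W4c1extbt610.IV p k = Ideal.span {(p : WittVector p k)} := by
  apply le_antisymm
  · rw [W4c1extbt610.IV, Ideal.span_le]
    rintro _ ⟨w, rfl⟩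
    have h1 : WittVector.frobenius ((WittVector.frobeniusEquiv p k).symm w) = w :=
      (WittVector.frobeniusEquiv p k).apply_symm_apply w
    rw [SetLike.mem_coe, ← h1, WittVector.verschiebung_frobenius]
    exact Ideal.mul_mem_left _ _ (Ideal.mem_span_singleton_self _)
  · rw [Ideal.span_le, Set.singleton_subset_iff]
    have : (p : WittVector p k) = WittVector.verschiebung (WittVector.frobenius 1) := by
      rw [WittVector.verschiebung_frobenius, one_mul]
    rw [this]
    exact W4c1extbt610.verschiebung_mem_IV p k _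

variable {M : Type*} [AddCommGroup M] [Module (WittVector p k) M]
  [Module.Finite (WittVector p k) M] [Module.Projective (WittVector p k) M]
  (F : M →ₛₗ[(WittVector.frobenius : WittVector p k →+* WittVector p k)] M)
  (V : M →ₛₗ[((WittVector.frobeniusEquiv p k).symm : WittVector p k →+* WittVector p k)] M)
  (hFV : ∀ m : M, F (V m) = (p : WittVector p k) • m)
  (hVF : ∀ m : M, V (F m) = (p : WittVector p k) • m)

include hFV in
theorem V_injective : Function.Injective V := by
  rw [injective_iff_map_eq_zero]
  intro x hx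
  apply DieuLevelOne.torsionFree (p := p) (k := k) M
  rw [← hFV, hx, map_zero]

/-- The image of `V` as a submodule. -/
def Q : Submodule (WittVector p k) M where
  carrier := Set.range V
  add_mem' := by
    rintro _ _ ⟨a, rfl⟩ ⟨b, rfl⟩
    exact ⟨a + b, map_add V a b⟩
  zero_mem' := ⟨0, map_zero V⟩
  smul_mem' := by
    rintro w _ ⟨a, rfl⟩
    refine ⟨WittVector.frobenius w • a, ?_⟩
    rw [V.map_smulₛₗ]
    congr 1
    exact (WittVector.frobeniusEquiv p k).symm_apply_apply w

theorem mem_Q {x : M} : x ∈ Q V ↔ x ∈ Set.range V := Iff.rfl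

/-- The inverse of `V` on its image, as a function. -/
noncomputable def vinvFun (q : Q V) : M := Classical.choose q.2

theorem V_vinvFun (q : Q V) : V (vinvFun V q) = q := Classical.choose_spec q.2

/-- The inverse of `V` on its image. -/
noncomputable def Vinv :
    Q V →ₛₗ[(WittVector.frobenius : WittVector p k →+* WittVector p k)] M where
  toFun := vinvFun V
  map_add' a b := by
    apply V_injective F V hFV
    rw [map_add, V_vinvFun, V_vinvFun, V_vinvFun]
    rfl
  map_smul' w a := by
    apply V_injective F V hFV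
    rw [V.map_smulₛₗ, V_vinvFun, V_vinvFun]
    have : ((WittVector.frobeniusEquiv p k).symm : WittVector p k →+* WittVector p k)
        (WittVector.frobenius w) = w := (WittVector.frobeniusEquiv p k).symm_apply_apply w
    rw [this]
    rfl

theorem Vinv_V (m : M) (h : V m ∈ Q V) : Vinv F V hFV ⟨V m, h⟩ = m := by
  apply V_injective F V hFV
  exact V_vinvFun V ⟨V m, h⟩

include hVF in
theorem smul_top_le_Q :
    (Ideal.span {(p : WittVector p k)} • ⊤ : Submodule (WittVector p k) M) ≤ Q V := by
  intro x hx
  obtain ⟨m, rfl⟩ := (DieuCore.mem_span_singleton_smul_top _).mp hx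
  exact ⟨F m, hVF m⟩

include hFV hVF in
theorem exists_compl : ∃ C : Submodule (WittVector p k) M,
    Q V ⊔ C = ⊤ ∧ Q V ⊓ C = W4c1extbt610.IV p k • (⊤ : Submodule (WittVector p k) M) := by
  rw [IV_eq_span]
  haveI hproj : Module.Projective (WittVector p k ⧸ Ideal.span {(p : WittVector p k)})
      ((M ⧸ (Ideal.span {(p : WittVector p k)} • ⊤ : Submodule (WittVector p k) M)) ⧸
        DieuCore.N₁ (p : WittVector p k) V) := DieuWitt.projective_quot M F V hFV hVF
  set pM := (Ideal.span {(p : WittVector p k)} • ⊤ : Submodule (WittVector p k) M) with hpM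
  set N₁ := DieuCore.N₁ (p : WittVector p k) V with hN₁
  have hmemN₁ := DieuCore.mem_N₁_iff (p : WittVector p k)
    (φ := (WittVector.frobenius : WittVector p k →+* WittVector p k))
    (fun a => (WittVector.frobeniusEquiv p k).symm_apply_apply a) V
  obtain ⟨s, hs⟩ := Module.projective_lifting_property N₁.mkQ LinearMap.id N₁.mkQ_surjective
  have hs' : ∀ a, N₁.mkQ (s a) = a := fun a => LinearMap.congr_fun hs a
  let C : Submodule (WittVector p k) M :=
    Submodule.comap pM.mkQ ((LinearMap.range s).restrictScalars (WittVector p k))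
  refine ⟨C, ?_, ?_⟩
  · rw [eq_top_iff]
    intro m _
    set n := pM.mkQ m with hn
    have h1 : n - s (N₁.mkQ n) ∈ N₁ := by
      have h0 : n - s (N₁.mkQ n) ∈ LinearMap.ker N₁.mkQ := by
        rw [LinearMap.mem_ker, map_sub, hs', sub_self]
      rwa [Submodule.ker_mkQ] at h0
    obtain ⟨y, hy⟩ := (hmemN₁ _).mp h1
    obtain ⟨c, hc⟩ := pM.mkQ_surjective (s (N₁.mkQ n))
    have hcC : c ∈ C := by
      change pM.mkQ c ∈ (LinearMap.range s).restrictScalars (WittVector p k)
      rw [hc]
      exact ⟨_, rfl⟩
    have h2 : m - V y - c ∈ pM := by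
      rw [← Submodule.Quotient.mk_eq_zero, Submodule.Quotient.mk_sub, Submodule.Quotient.mk_sub]
      change pM.mkQ m - pM.mkQ (V y) - pM.mkQ c = 0
      rw [hc, ← hy, ← hn]
      abel
    obtain ⟨m₀, hm₀⟩ := (DieuCore.mem_span_singleton_smul_top _).mp h2
    have h3 : m = V (y + F m₀) + c := by
      rw [map_add, hVF, ← hm₀]; abel
    rw [h3]
    exact Submodule.add_mem_sup ⟨_, rfl⟩ hcC
  · apply le_antisymm
    · rintro x ⟨⟨y, rfl⟩, hxC⟩
      have h1 : pM.mkQ (V y) ∈ N₁ := (hmemN₁ _).mpr ⟨y, rfl⟩
      obtain ⟨a, ha⟩ : pM.mkQ (V y) ∈ LinearMap.range s := hxC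
      have h2 : a = 0 := by
        have h0 : pM.mkQ (V y) ∈ LinearMap.ker N₁.mkQ := by
          rw [Submodule.ker_mkQ]; exact h1
        rw [← hs' a, ha]
        exact h0
      rw [h2, map_zero] at ha
      have := ha.symm
      rwa [Submodule.mkQ_apply, Submodule.Quotient.mk_eq_zero] at this
    · apply le_inf (smul_top_le_Q F V hVF)
      intro x hx
      change pM.mkQ x ∈ (LinearMap.range s).restrictScalars (WittVector p k)
      have : pM.mkQ x = 0 := by
        rw [Submodule.mkQ_apply, Submodule.Quotient.mk_eq_zero]; exact hx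
      rw [this]
      exact Submodule.zero_mem _

include hFV hVF in
theorem main :
    ∃ D : W4c1extbt610.Display3n p k M,
      D.F = F ∧ (∀ x : M, x ∈ D.Q ↔ x ∈ Set.range V) ∧
        ∀ (m : M) (h : V m ∈ D.Q), D.Vinv ⟨V m, h⟩ = m := by
  haveI : IsAdicComplete (Ideal.span {((p : ℕ) : k)}) k := by
    have : Ideal.span {((p : ℕ) : k)} = ⊥ := by
      rw [CharP.cast_eq_zero k p, Ideal.span_singleton_eq_bot]
    rw [this]
    infer_instance
  have hIVle : W4c1extbt610.IV p k • (⊤ : Submodule (WittVector p k) M) ≤ Q V := by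
    rw [IV_eq_span]; exact smul_top_le_Q F V hVF
  refine ⟨{ Q := Q V
            F := F
            Vinv := Vinv F V hFV
            finite := inferInstance
            projective := inferInstance
            IV_smul_le := hIVle
            exists_normal := NormalDecomp.main M (Q V) (exists_compl F V hFV hVF)
            span_range_Vinv := ?_
            Vinv_verschiebung_smul := ?_ }, rfl, fun x => Iff.rfl, fun m h => Vinv_V F V hFV m h⟩
  · rw [eq_top_iff]
    intro m _
    exact Submodule.subset_span ⟨⟨V m, ⟨m, rfl⟩⟩, Vinv_V F V hFV m _⟩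
  · intro w x
    apply V_injective F V hFV
    change V (vinvFun V _) = _
    rw [V_vinvFun]
    change WittVector.verschiebung w • x = V (w • F x)
    rw [V.map_smulₛₗ, hVF, smul_smul]
    congr 1
    have h1 : WittVector.frobenius ((WittVector.frobeniusEquiv p k).symm w) = w :=
      (WittVector.frobeniusEquiv p k).apply_symm_apply w
    have h2 := WittVector.verschiebung_frobenius ((WittVector.frobeniusEquiv p k).symm w)
    rw [h1] at h2
    exact h2

end Groth.Agent.Helper8.DieuDisplay
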