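import Mathlib
import Groth.Agent.Helper8.DieuWitt

/-!
# Truncated Dieudonné modules over a perfect ring: `M/VM` is projective
-/

namespace Groth.Agent.Helper8.DieuTrunc

open WittVector IdemLift

section Generic

variable {W : Type*} [CommRing W] (p : W)

/-- Reduction mod `p` of a `W`-linear map, as a `W ⧸ (p)`-linear map. -/
noncomputable def redMap {A B : Type*} [AddCommGroup A] [Module W A] [AddCommGroup B] [Module W B]
    (g : A →ₗ[W] B) :
    (A ⧸ (Ideal.span {p} • ⊤ : Submodule W A)) →ₗ[W ⧸ Ideal.span {p}]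
      (B ⧸ (Ideal.span {p} • ⊤ : Submodule W B)) :=
  LinearMap.extendScalarsOfSurjective (Ideal.Quotient.mk_surjective (I := Ideal.span {p}))
    (Submodule.mapQ _ _ g (fun _ hx => map_mem_smul_top _ g hx))

theorem redMap_mk {A B : Type*} [AddCommGroup A] [Module W A] [AddCommGroup B] [Module W B]
    (g : A →ₗ[W] B) (a : A) :
    redMap p g (Submodule.Quotient.mk a) = Submodule.Quotient.mk (g a) := rfl

/-- A retract of a module with projective reduction has projective reduction. -/
theorem projective_of_retract {A B : Type*} [AddCommGroup A] [Module W A] [AddCommGroup B]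
    [Module W B] (g : A →ₗ[W] B) (f : B →ₗ[W] A) (hfg : ∀ a, f (g a) = a)
    [Module.Projective (W ⧸ Ideal.span {p}) (B ⧸ (Ideal.span {p} • ⊤ : Submodule W B))]
    [Module.Finite (W ⧸ Ideal.span {p}) (B ⧸ (Ideal.span {p} • ⊤ : Submodule W B))] :
    Module.Projective (W ⧸ Ideal.span {p}) (A ⧸ (Ideal.span {p} • ⊤ : Submodule W A)) ∧
      Module.Finite (W ⧸ Ideal.span {p}) (A ⧸ (Ideal.span {p} • ⊤ : Submodule W A)) := by
  have h : (redMap p f).comp (redMap p g) = LinearMap.id := by
    ext x
    obtain ⟨a, rfl⟩ := Submodule.Quotient.mk_surjective _ x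
    simp only [LinearMap.comp_apply, redMap_mk, hfg, LinearMap.id_apply]
  refine ⟨Module.Projective.of_split _ _ h, Module.Finite.of_surjective (redMap p f) ?_⟩
  intro x
  exact ⟨redMap p g x, LinearMap.congr_fun h x⟩

variable (n : ℕ)

/-- The projection `W/(p^n) → W/(p)`. -/
noncomputable def q (hn : 1 ≤ n) : (W ⧸ Ideal.span {p ^ n}) →ₗ[W] (W ⧸ Ideal.span {p}) :=
  Submodule.mapQ (Ideal.span {p ^ n}) (Ideal.span {p}) LinearMap.id (by
    intro x hx
    rw [Submodule.mem_comap, LinearMap.id_apply]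
    rw [Ideal.mem_span_singleton] at hx ⊢
    exact dvd_trans (dvd_pow_self p (by omega)) hx)

theorem q_mk (hn : 1 ≤ n) (w : W) :
    q p n hn (Ideal.Quotient.mk _ w) = Ideal.Quotient.mk _ w := rfl

theorem q_eq_zero_iff (hn : 1 ≤ n) (c : W ⧸ Ideal.span {p ^ n}) :
    q p n hn c = 0 ↔ c ∈ (Ideal.span {p} • ⊤ : Submodule W (W ⧸ Ideal.span {p ^ n})) := by
  obtain ⟨w, rfl⟩ := Ideal.Quotient.mk_surjective c
  rw [q_mk, Ideal.Quotient.eq_zero_iff_mem, Ideal.mem_span_singleton,
    DieuCore.mem_span_singleton_smul_top]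
  constructor
  · rintro ⟨w', rfl⟩
    exact ⟨Ideal.Quotient.mk _ w', by rw [map_mul]; rfl⟩
  · rintro ⟨m, hm⟩
    obtain ⟨w', rfl⟩ := Ideal.Quotient.mk_surjective m
    have h1 : Ideal.Quotient.mk (Ideal.span {p ^ n}) (w - p * w') = 0 := by
      rw [map_sub, hm, map_mul]
      exact sub_eq_zero.mpr rfl
    rw [Ideal.Quotient.eq_zero_iff_mem, Ideal.mem_span_singleton] at h1
    obtain ⟨u, hu⟩ := h1
    refine ⟨w' + p ^ (n - 1) * u, ?_⟩
    have : p ^ n = p * p ^ (n - 1) := by
      rw [← pow_succ']; congr 1; omega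
    rw [this] at hu
    linear_combination hu

/-- `(W/(p^n))^r` has free reduction mod `p`. -/
theorem pi_reduction (hn : 1 ≤ n) (r : ℕ) :
    Module.Projective (W ⧸ Ideal.span {p})
      ((Fin r → W ⧸ Ideal.span {p ^ n}) ⧸
        (Ideal.span {p} • ⊤ : Submodule W (Fin r → W ⧸ Ideal.span {p ^ n}))) ∧
    Module.Finite (W ⧸ Ideal.span {p})
      ((Fin r → W ⧸ Ideal.span {p ^ n}) ⧸
        (Ideal.span {p} • ⊤ : Submodule W (Fin r → W ⧸ Ideal.span {p ^ n}))) := by
  let Pq : (Fin r → W ⧸ Ideal.span {p ^ n}) →ₗ[W] (Fin r → W ⧸ Ideal.span {p}) :=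
    (q p n hn).compLeft (Fin r)
  have hsurj : Function.Surjective Pq := by
    intro y
    choose w hw using fun j => Ideal.Quotient.mk_surjective (y j)
    refine ⟨fun j => Ideal.Quotient.mk _ (w j), ?_⟩
    ext j
    exact hw j
  have hker : LinearMap.ker Pq =
      (Ideal.span {p} • ⊤ : Submodule W (Fin r → W ⧸ Ideal.span {p ^ n})) := by
    ext c
    rw [LinearMap.mem_ker, mem_smul_top_pi]
    constructor
    · intro h j
      exact (q_eq_zero_iff p n hn (c j)).mp (congrFun h j)
    · intro h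
      ext j
      exact (q_eq_zero_iff p n hn (c j)).mpr (h j)
  let e₀ : ((Fin r → W ⧸ Ideal.span {p ^ n}) ⧸
      (Ideal.span {p} • ⊤ : Submodule W (Fin r → W ⧸ Ideal.span {p ^ n}))) ≃ₗ[W]
      (Fin r → W ⧸ Ideal.span {p}) :=
    (Submodule.quotEquivOfEq _ _ hker.symm).trans (LinearMap.quotKerEquivOfSurjective Pq hsurj)
  let e := e₀.extendScalarsOfSurjective (Ideal.Quotient.mk_surjective (I := Ideal.span {p}))
  exact ⟨Module.Projective.of_equiv e.symm, Module.Finite.equiv e.symm⟩

end Generic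

variable {p : ℕ} [hp : Fact p.Prime] {k : Type*} [CommRing k] [CharP k p] [PerfectRing k p]

/-- saturation for `W/(p^n)`, `n ≥ 2`. -/
theorem saturated_quot (I : Ideal (WittVector p k))
    (hI : ∀ x : WittVector p k, (p : WittVector p k) * x ∈ I → x ∈ I) (n : ℕ) (hn : 2 ≤ n)
    (c : WittVector p k ⧸ Ideal.span {(p : WittVector p k) ^ n})
    (hc : (p : WittVector p k) • c ∈ (I • ⊤ : Submodule (WittVector p k)
      (WittVector p k ⧸ Ideal.span {(p : WittVector p k) ^ n}))) :
    c ∈ (I • ⊤ : Submodule (WittVector p k)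
        (WittVector p k ⧸ Ideal.span {(p : WittVector p k) ^ n})) ⊔
      (Ideal.span {(p : WittVector p k)} • ⊤ : Submodule (WittVector p k)
        (WittVector p k ⧸ Ideal.span {(p : WittVector p k) ^ n})) := by
  -- elements of `I • ⊤` are classes of elements of `I`
  have key : ∀ z ∈ (I • ⊤ : Submodule (WittVector p k)
      (WittVector p k ⧸ Ideal.span {(p : WittVector p k) ^ n})),
      ∃ i ∈ I, z = Ideal.Quotient.mk _ i := by
    intro z hz
    refine Submodule.smul_induction_on hz (fun a ha m _ => ?_) (fun a b ha hb => ?_)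
    · obtain ⟨w, rfl⟩ := Ideal.Quotient.mk_surjective m
      exact ⟨a * w, I.mul_mem_right _ ha, rfl⟩
    · obtain ⟨i₁, h₁, rfl⟩ := ha
      obtain ⟨i₂, h₂, rfl⟩ := hb
      exact ⟨i₁ + i₂, I.add_mem h₁ h₂, (map_add _ _ _).symm⟩
  obtain ⟨w, rfl⟩ := Ideal.Quotient.mk_surjective c
  obtain ⟨i, hi, he⟩ := key _ hc
  have h1 : Ideal.Quotient.mk (Ideal.span {(p : WittVector p k) ^ n})
      ((p : WittVector p k) * w - i) = 0 := by
    rw [map_sub, ← he]
    exact sub_eq_zero.mpr rfl
  rw [Ideal.Quotient.eq_zero_iff_mem, Ideal.mem_span_singleton] at h1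
  obtain ⟨u, hu⟩ := h1
  have hpn : (p : WittVector p k) ^ n = (p : WittVector p k) * ((p : WittVector p k) *
      (p : WittVector p k) ^ (n - 2)) := by
    rw [← pow_succ', ← pow_succ']; congr 1; omega
  have h2 : (p : WittVector p k) * (w - (p : WittVector p k) * (p : WittVector p k) ^ (n - 2) * u)
      = i := by
    rw [hpn] at hu
    linear_combination hu
  have h3 : w - (p : WittVector p k) * (p : WittVector p k) ^ (n - 2) * u ∈ I :=
    hI _ (by rw [h2]; exact hi)
  have h4 : (Ideal.Quotient.mk (Ideal.span {(p : WittVector p k) ^ n}) w) =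
      Ideal.Quotient.mk _ (w - (p : WittVector p k) * (p : WittVector p k) ^ (n - 2) * u) +
      (p : WittVector p k) • Ideal.Quotient.mk _ ((p : WittVector p k) ^ (n - 2) * u) := by
    change _ = _ + Ideal.Quotient.mk _ ((p : WittVector p k) * ((p : WittVector p k) ^ (n - 2) * u))
    rw [← map_add]
    congr 1
    ring
  rw [h4]
  refine Submodule.add_mem_sup ?_ ((DieuCore.mem_span_singleton_smul_top _).mpr ⟨_, rfl⟩)
  have : Ideal.Quotient.mk (Ideal.span {(p : WittVector p k) ^ n})
      (w - (p : WittVector p k) * (p : WittVector p k) ^ (n - 2) * u) =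
      (w - (p : WittVector p k) * (p : WittVector p k) ^ (n - 2) * u) •
        (1 : WittVector p k ⧸ Ideal.span {(p : WittVector p k) ^ n}) := by
    rw [Algebra.smul_def, mul_one]; rfl
  rw [this]
  exact Submodule.smul_mem_smul h3 Submodule.mem_top

section Module

variable (n : ℕ) (hn : 2 ≤ n)
  (M : Type*) [AddCommGroup M] [Module (WittVector p k) M]
  [Module (WittVector p k ⧸ Ideal.span {(p : WittVector p k) ^ n}) M]
  [IsScalarTower (WittVector p k) (WittVector p k ⧸ Ideal.span {(p : WittVector p k) ^ n}) M]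
  [Module.Finite (WittVector p k ⧸ Ideal.span {(p : WittVector p k) ^ n}) M]
  [Module.Projective (WittVector p k ⧸ Ideal.span {(p : WittVector p k) ^ n}) M]
  (F : M →ₛₗ[(WittVector.frobenius : WittVector p k →+* WittVector p k)] M)
  (V : M →ₛₗ[((WittVector.frobeniusEquiv p k).symm : WittVector p k →+* WittVector p k)] M)
  (hFV : ∀ m : M, F (V m) = (p : WittVector p k) • m)
  (hVF : ∀ m : M, V (F m) = (p : WittVector p k) • m)

include hn hFV hVF in
theorem main :
    Module.Projective (WittVector p k ⧸ Ideal.span {(p : WittVector p k)})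
      ((M ⧸ (Ideal.span {(p : WittVector p k)} • (⊤ : Submodule (WittVector p k) M))) ⧸
        Submodule.span (WittVector p k ⧸ Ideal.span {(p : WittVector p k)})
          (Set.range fun m : M => (Ideal.span {(p : WittVector p k)} •
            (⊤ : Submodule (WittVector p k) M)).mkQ (V m))) := by
  obtain ⟨r, f', g', -, -, hfg⟩ := Module.Finite.exists_comp_eq_id_of_projective
    (WittVector p k ⧸ Ideal.span {(p : WittVector p k) ^ n}) M
  let f := f'.restrictScalars (WittVector p k)
  let g := g'.restrictScalars (WittVector p k)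
  have hfg' : ∀ a, f (g a) = a := fun a => LinearMap.congr_fun hfg a
  obtain ⟨hX1, hX2⟩ := pi_reduction (p : WittVector p k) n (by omega) r
  obtain ⟨hN1, hN2⟩ := projective_of_retract (p : WittVector p k) g f hfg'
  haveI : Module.Finite (WittVector p k) M :=
    Module.Finite.trans (WittVector p k ⧸ Ideal.span {(p : WittVector p k) ^ n}) M
  refine DieuCore.core (p : WittVector p k)
    (fun a => (WittVector.frobeniusEquiv p k).symm_apply_apply a)
    (fun a => (WittVector.frobeniusEquiv p k).apply_symm_apply a) F V hFV hVF ?_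
  intro P hP hpP
  obtain ⟨I, h1, h2, h3, h4, h5⟩ := DieuWitt.exists_ideal P hP hpP
  refine ⟨I, h1, h2, h3, h4, fun y hy => ?_⟩
  -- saturation on `X = (W/p^n)^r`
  have hgy : g y ∈ (I • ⊤ : Submodule (WittVector p k) (Fin r → _)) ⊔
      (Ideal.span {(p : WittVector p k)} • ⊤ : Submodule (WittVector p k) (Fin r → _)) := by
    have h6 : (p : WittVector p k) • g y ∈ (I • ⊤ : Submodule (WittVector p k) (Fin r → _)) := by
      rw [← map_smul]; exact map_mem_smul_top I g hy
    rw [mem_smul_top_pi] at h6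
    have h7 : g y = ∑ j, (LinearMap.single (WittVector p k) (fun _ : Fin r => _) j) (g y j) := by
      ext j
      simp [Finset.sum_apply, Pi.single_apply]
    rw [h7]
    refine Submodule.sum_mem _ (fun j _ => ?_)
    have h8 := saturated_quot I h5 n hn (g y j) (h6 j)
    obtain ⟨a, ha, b, hb, hab⟩ := Submodule.mem_sup.mp h8
    rw [← hab, map_add]
    exact Submodule.add_mem_sup (map_mem_smul_top I _ ha) (map_mem_smul_top _ _ hb)
  obtain ⟨a, ha, b, hb, hab⟩ := Submodule.mem_sup.mp hgy
  rw [← hfg' y, ← hab, map_add]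
  exact Submodule.add_mem_sup (map_mem_smul_top I f ha) (map_mem_smul_top _ f hb)

end Module

end Groth.Agent.Helper8.DieuTrunc
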