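import Mathlib

namespace Groth.Agent.Helper8.Dieud

open Finset

universe u v

section
variable {W : Type u} [CommRing W] (σ : W →+* W) (p : ℕ)
    {M : Type v} [AddCommGroup M] [Module W M]
    (F : M →+ M)

/-- the partial sum -/
def G (a : ℕ → ℕ → W) (e1 : M) (d k : ℕ) : M :=
  ∑ i ∈ Icc 1 d, ∑ j ∈ Icc d (d + k),
    ((p : W) ^ (j - d) * (⇑σ)^[d + k - j] (a i j)) • (⇑F)^[d + k + i - j - 1] e1

variable (hF : ∀ (w : W) (m : M), F (w • m) = σ w • F m)

include hF in
theorem F_G (a : ℕ → ℕ → W) (e1 : M) (d k : ℕ) :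
    F (G σ p F a e1 d k) = ∑ i ∈ Icc 1 d, ∑ j ∈ Icc d (d + k),
      ((p : W) ^ (j - d) * (⇑σ)^[d + (k + 1) - j] (a i j)) • (⇑F)^[d + (k + 1) + i - j - 1] e1 := by
  unfold G
  rw [map_sum]
  refine Finset.sum_congr rfl fun i hi => ?_
  rw [map_sum]
  refine Finset.sum_congr rfl fun j hj => ?_
  rw [Finset.mem_Icc] at hi hj
  rw [hF, map_mul, map_pow, map_natCast]
  have e1' : d + (k + 1) - j = (d + k - j) + 1 := by omega
  have e2 : d + (k + 1) + i - j - 1 = (d + k + i - j - 1) + 1 := by omega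
  rw [e1', e2, Function.iterate_succ_apply', Function.iterate_succ_apply']

theorem G_succ (a : ℕ → ℕ → W) (e1 : M) (d k : ℕ) :
    G σ p F a e1 d (k + 1) = (∑ i ∈ Icc 1 d, ∑ j ∈ Icc d (d + k),
      ((p : W) ^ (j - d) * (⇑σ)^[d + (k + 1) - j] (a i j)) • (⇑F)^[d + (k + 1) + i - j - 1] e1)
      + ∑ i ∈ Icc 1 d, ((p : W) ^ (k + 1) * a i (d + (k + 1))) • (⇑F)^[i - 1] e1 := by
  unfold G
  rw [← Finset.sum_add_distrib]
  refine Finset.sum_congr rfl fun i hi => ?_
  rw [show d + (k + 1) = (d + k) + 1 by ring, Finset.sum_Icc_succ_top (by omega)]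
  congr 1
  have e1' : d + k + 1 - (d + k + 1) = 0 := by omega
  have e2 : d + k + 1 + i - (d + k + 1) - 1 = i - 1 := by omega
  have e3 : d + k + 1 - d = k + 1 := by omega
  rw [e1', e2, e3, Function.iterate_zero, id]

include hF in
theorem main (d c : ℕ) (hd : 0 < d) (hc : 0 < c)
    (a : ℕ → ℕ → W) (e : ℕ → M)
    (h1 : ∀ i : ℕ, 1 ≤ i → i < d → F (e i) = e (i + 1))
    (h2 : F (e d) = (∑ i ∈ Finset.Icc 1 d, a i d • e i) + e (d + 1))
    (h3 : ∀ j : ℕ, d < j → j < d + c →
      F (e j) = (∑ i ∈ Finset.Icc 1 d, ((p : W) * a i j) • e i) + (p : W) • e (j + 1))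
    (h4 : F (e (d + c)) = ∑ i ∈ Finset.Icc 1 d, ((p : W) * a i (d + c)) • e i) :
    (⇑F)^[d + c] (e 1) = ∑ i ∈ Finset.Icc 1 d, ∑ j ∈ Finset.Icc d (d + c),
      ((p : W) ^ (j - d) * (⇑σ)^[d + c - j] (a i j)) • (⇑F)^[d + c + i - j - 1] (e 1) := by
  -- e i = F^[i-1] e 1
  have he : ∀ i, 1 ≤ i → i ≤ d → e i = (⇑F)^[i - 1] (e 1) := by
    intro i hi
    induction i, hi using Nat.le_induction with
    | base => intro _; simp
    | succ n hn ih =>
      intro hnd
      rw [← h1 n hn (by omega), ih (by omega)]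
      have : n + 1 - 1 = (n - 1) + 1 := by omega
      rw [this, Function.iterate_succ_apply']
  have hsum : ∀ (w : ℕ → W), ∑ i ∈ Icc 1 d, w i • e i = ∑ i ∈ Icc 1 d, w i • (⇑F)^[i - 1] (e 1) := by
    intro w
    refine Finset.sum_congr rfl fun i hi => ?_
    rw [Finset.mem_Icc] at hi
    rw [he i hi.1 hi.2]
  -- main claim
  have key : ∀ k, k < c → (⇑F)^[d + k] (e 1) = G σ p F a (e 1) d k + (p : W) ^ k • e (d + k + 1) := by
    intro k
    induction k with
    | zero =>
      intro _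
      have : (⇑F)^[d + 0] (e 1) = F (e d) := by
        rw [he d hd le_rfl, ← Function.iterate_succ_apply' (⇑F) (d - 1) (e 1)]
        congr 2; omega
      rw [this, h2, hsum]
      simp only [G, add_zero, Finset.Icc_self, Finset.sum_singleton, Nat.sub_self, pow_zero,
        one_mul, Function.iterate_zero, id, one_smul]
      congr 1
      refine Finset.sum_congr rfl fun i hi => ?_
      congr 2
      omega
    | succ k ih =>
      intro hk
      rw [← add_assoc, Function.iterate_succ_apply', ih (by omega), map_add, F_G σ p F hF, hF,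
        map_pow, map_natCast, h3 (d + k + 1) (by omega) (by omega), G_succ, hsum, smul_add,
        Finset.smul_sum, ← add_assoc]
      congr 1
      congr 1
      · refine Finset.sum_congr rfl fun i hi => ?_
        rw [smul_smul, pow_succ, mul_assoc, add_assoc d k 1]
      · rw [smul_smul, pow_succ]
  -- conclusion
  obtain ⟨k, rfl⟩ : ∃ k, c = k + 1 := ⟨c - 1, by omega⟩
  rw [← add_assoc, Function.iterate_succ_apply', key k (by omega), map_add, F_G σ p F hF, hF,
    map_pow, map_natCast, add_assoc d k 1, h4, hsum, Finset.smul_sum]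
  have := G_succ σ p F a (e 1) d k
  unfold G at this
  rw [this]
  congr 1
  refine Finset.sum_congr rfl fun i hi => ?_
  rw [smul_smul, pow_succ, mul_assoc]

end

end Groth.Agent.Helper8.Dieud
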