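import Mathlib

set_option autoImplicit false
universe u v

namespace Groth.Agent.Helper8.DieudFV

theorem main
    (p : ℕ) [Fact p.Prime] (k : Type u) [Field k] [CharP k p] [PerfectRing k p]
    (M : Type v) [AddCommGroup M] [Module (WittVector p k) M]
    (F V : M →+ M)
    (hF : ∀ (a : WittVector p k) (m : M), F (a • m) = WittVector.frobenius a • F m)
    (hV : ∀ (a : WittVector p k) (m : M), V (WittVector.frobenius a • m) = a • V m)
    (hFV : ∀ m : M, F (V m) = (p : WittVector p k) • m)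
    (hVF : ∀ m : M, V (F m) = (p : WittVector p k) • m)
    (hVinj : Function.Injective V)
    (hsep : ∀ x : M, (∀ n : ℕ, ∃ y : M, x = (⇑V)^[n] y) → x = 0)
    (hfin : Module.Finite (WittVector p k) (M ⧸ Submodule.span (WittVector p k) (Set.range V))) :
    (∃ c : ℕ, ∀ x : M, (∃ n : ℕ, (⇑F)^[n] x = 0) → (⇑F)^[c] x = 0) ∧
    (∀ x : M, (∀ n : ℕ, ∃ (m : ℕ) (y : M), (⇑V)^[m] x = (⇑F)^[n] y) → F x = 0 → x = 0) := by
  classical
  set W := WittVector p k with hWdef
  -- commutation
  have hcomm : Function.Commute (⇑F) (⇑V) := fun m => by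
    show F (V m) = V (F m)
    rw [hFV, hVF]
  have hcommn : ∀ n, Function.Commute ((⇑F)^[n]) (⇑V) := fun n => hcomm.iterate_left n
  -- semilinearity of iterates
  have hFn : ∀ (n : ℕ) (a : W) (m : M), (⇑F)^[n] (a • m) =
      ((⇑(WittVector.frobenius : W →+* W))^[n] a) • (⇑F)^[n] m := by
    intro n
    induction n with
    | zero => intro a m; rfl
    | succ n ih =>
      intro a m
      rw [Function.iterate_succ_apply', Function.iterate_succ_apply', Function.iterate_succ_apply',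
        ih, hF]
  -- range of V is a submodule
  have hU : ∀ x ∈ Submodule.span W (Set.range V), ∃ y, x = V y := by
    intro x hx
    induction hx using Submodule.span_induction with
    | mem x hx => obtain ⟨y, rfl⟩ := hx; exact ⟨y, rfl⟩
    | zero => exact ⟨0, (map_zero V).symm⟩
    | add x y _ _ hx hy =>
      obtain ⟨x', rfl⟩ := hx
      obtain ⟨y', rfl⟩ := hy
      exact ⟨x' + y', (map_add V _ _).symm⟩
    | smul a x _ hx =>
      obtain ⟨x', rfl⟩ := hx
      exact ⟨WittVector.frobenius a • x', (hV a x').symm⟩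
  -- M₂ as a submodule
  let M₂ : Submodule W M :=
    { carrier := {x | ∃ n : ℕ, (⇑F)^[n] x = 0}
      zero_mem' := ⟨0, rfl⟩
      add_mem' := by
        rintro x y ⟨n, hn⟩ ⟨m, hm⟩
        refine ⟨n + m, ?_⟩
        rw [iterate_map_add]
        have h1 : (⇑F)^[n + m] x = 0 := by
          rw [add_comm, Function.iterate_add_apply, hn, iterate_map_zero]
        have h2 : (⇑F)^[n + m] y = 0 := by
          rw [Function.iterate_add_apply, hm, iterate_map_zero]
        rw [h1, h2, add_zero]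
      smul_mem' := by
        rintro a x ⟨n, hn⟩
        exact ⟨n, by rw [hFn, hn, smul_zero]⟩ }
  have hM₂ : ∀ x, x ∈ M₂ ↔ ∃ n : ℕ, (⇑F)^[n] x = 0 := fun x => Iff.rfl
  -- V y ∈ M₂ → y ∈ M₂
  have hVM₂ : ∀ y, V y ∈ M₂ → y ∈ M₂ := by
    rintro y ⟨n, hn⟩
    refine ⟨n, hVinj ?_⟩
    rw [map_zero, ← (hcommn n).eq, hn]
  -- finite generation of the image
  set U := Submodule.span W (Set.range V) with hUdef
  have : IsNoetherian W (M ⧸ U) := isNoetherian_of_isNoetherianRing_of_finite W (M ⧸ U)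
  have hfg : (M₂.map U.mkQ).FG := IsNoetherian.noetherian _
  obtain ⟨S, hS⟩ := hfg
  have hlift : ∀ q ∈ S, ∃ x ∈ M₂, U.mkQ x = q := by
    intro q hq
    have : q ∈ M₂.map U.mkQ := by rw [← hS]; exact Submodule.subset_span hq
    exact this
  choose! lift hliftM₂ hliftq using hlift
  have hn : ∀ q ∈ S, ∃ n : ℕ, (⇑F)^[n] (lift q) = 0 := fun q hq => hliftM₂ q hq
  choose! nn hnn using hn
  set c := S.sup nn with hc
  have hlift0 : ∀ q ∈ S, (⇑F)^[c] (lift q) = 0 := by
    intro q hq
    have hle : nn q ≤ c := Finset.le_sup hq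
    obtain ⟨d, hd⟩ := Nat.exists_eq_add_of_le hle
    rw [hd, add_comm, Function.iterate_add_apply, hnn q hq, iterate_map_zero]
  -- one step
  have hstep : ∀ x ∈ M₂, ∃ y ∈ M₂, (⇑F)^[c] x = V ((⇑F)^[c] y) := by
    intro x hx
    have hxq : U.mkQ x ∈ Submodule.span W (S : Set (M ⧸ U)) := by
      rw [hS]; exact Submodule.mem_map_of_mem hx
    obtain ⟨a, ha⟩ := (Submodule.mem_span_finset).1 hxq
    obtain ⟨_, ha⟩ := ha
    set x₀ := ∑ q ∈ S, a q • lift q with hx₀
    have hx₀M₂ : x₀ ∈ M₂ := Submodule.sum_mem _ fun q hq => M₂.smul_mem _ (hliftM₂ q hq)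
    have hdiff : x - x₀ ∈ U := by
      rw [← Submodule.Quotient.mk_eq_zero, Submodule.Quotient.mk_sub, sub_eq_zero]
      show U.mkQ x = U.mkQ x₀
      rw [← ha, hx₀, map_sum]
      refine Finset.sum_congr rfl fun q hq => ?_
      rw [map_smul, hliftq q hq]
    obtain ⟨y, hy⟩ := hU _ hdiff
    have hyM₂ : y ∈ M₂ := hVM₂ y (by rw [← hy]; exact M₂.sub_mem hx hx₀M₂)
    refine ⟨y, hyM₂, ?_⟩
    have hx₀c : (⇑F)^[c] x₀ = 0 := by
      rw [hx₀]
      have : ∀ (T : Finset (M ⧸ U)), T ⊆ S → (⇑F)^[c] (∑ q ∈ T, a q • lift q) = 0 := by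
        intro T
        induction T using Finset.induction_on with
        | empty => intro _; simp [iterate_map_zero]
        | insert q T hqT ih =>
          intro hTS
          rw [Finset.sum_insert hqT, iterate_map_add, ih (fun z hz => hTS (Finset.mem_insert_of_mem hz)),
            hFn, hlift0 q (hTS (Finset.mem_insert_self q T)), smul_zero, add_zero]
      exact this S (Finset.Subset.refl S)
    have hx' : x = x₀ + V y := by rw [← hy]; abel
    rw [hx', iterate_map_add, hx₀c, zero_add, (hcommn c).eq]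
  have hiter : ∀ n : ℕ, ∀ x ∈ M₂, ∃ z : M, (⇑F)^[c] x = (⇑V)^[n] z := by
    intro n
    induction n with
    | zero => intro x _; exact ⟨(⇑F)^[c] x, rfl⟩
    | succ n ih =>
      intro x hx
      obtain ⟨y, hyM₂, hy⟩ := hstep x hx
      obtain ⟨z, hz⟩ := ih y hyM₂
      refine ⟨z, ?_⟩
      rw [hy, hz, Function.iterate_succ_apply']
  have hkill : ∀ x : M, (∃ n : ℕ, (⇑F)^[n] x = 0) → (⇑F)^[c] x = 0 := by
    intro x hx
    apply hsep
    intro n
    exact hiter n x hx
  refine ⟨⟨c, hkill⟩, ?_⟩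
  intro x hx hFx
  obtain ⟨m, y, hmy⟩ := hx c
  have hy : (⇑F)^[c] y = 0 := by
    apply hkill
    refine ⟨c + 1, ?_⟩
    rw [Function.iterate_succ_apply', ← hmy]
    have : Function.Commute (⇑F) ((⇑V)^[m]) := hcomm.iterate_right m
    rw [this.eq, hFx, iterate_map_zero]
  rw [hy] at hmy
  have hinj : Function.Injective ((⇑V)^[m]) := hVinj.iterate m
  apply hinj
  rw [hmy, iterate_map_zero]

end Groth.Agent.Helper8.DieudFV
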