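import Mathlib
import Groth.Prelude.Def_DiffOp
import Groth.Prelude.Def_PP16
import Groth.Agent.Helper1.PrinParts
import Groth.Agent.S3815

set_option autoImplicit false
universe u

namespace Groth.Agent.Helper8.DiffOpU
open Diff16 PP16
open scoped TensorProduct

section
variable (k : ℕ) (R S : Type u) [CommRing R] [CommRing S] [Algebra R S] (M : Type u)
    [AddCommGroup M] [Module S M] [Module R M] [IsScalarTower R S M]

/-- `P^k(M)` with the first-factor module structure -/
def PL : Type u := PP16.PM k R S M

noncomputable instance : AddCommGroup (PL k R S M) := inferInstanceAs (AddCommGroup (PP16.PM k R S M))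

noncomputable instance instModS : Module S (PL k R S M) :=
  Module.compHom (PP16.PM k R S M) (algebraMap S (PP16.P k R S))

noncomputable instance instModR : Module R (PL k R S M) :=
  Module.compHom (PP16.PM k R S M) (algebraMap R (PP16.P k R S))

instance : IsScalarTower R S (PL k R S M) where
  smul_assoc r s x := by
    show algebraMap S (PP16.P k R S) (r • s) • (show PP16.PM k R S M from x) =
      algebraMap R (PP16.P k R S) r • (algebraMap S (PP16.P k R S) s • (show PP16.PM k R S M from x))
    rw [Algebra.smul_def, map_mul, mul_smul, ← IsScalarTower.algebraMap_apply]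

noncomputable def dL : M →ₗ[R] PL k R S M where
  toFun m := PP16.dM k R S M m
  map_add' x y := map_add _ x y
  map_smul' r m := by
    show PP16.dM k R S M (r • m) = algebraMap R (PP16.P k R S) r • PP16.dM k R S M m
    show ((1 : PP16.Pr k R S) ⊗ₜ[S] (r • m) : PP16.PM k R S M) =
      algebraMap R (PP16.P k R S) r • ((1 : PP16.Pr k R S) ⊗ₜ[S] m)
    rw [TensorProduct.smul_tmul', ← algebraMap_smul S r m, ← TensorProduct.smul_tmul]
    congr 1
    show (PP16.dn k R S (algebraMap R S r) : PP16.P k R S) * 1 = algebraMap R (PP16.P k R S) r * 1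
    rw [AlgHom.commutes]

/-- the identity map into the synonym -/
noncomputable def toPL : PP16.PM k R S M →+ PL k R S M where
  toFun x := x
  map_zero' := rfl
  map_add' _ _ := rfl

theorem dL_isDiffOpLE : IsDiffOpLE R S M (PL k R S M) k (dL k R S M) := by
  rw [Groth.Agent.S3815.result k R S M (PL k R S M) (dL k R S M)]
  have hlin : ∀ (b : S) (t : PP16.PM k R S M),
      toPL k R S M (algebraMap S (PP16.P k R S) b • t) = b • toPL k R S M t := by
    intro b t
    rfl
  have hd : ∀ m : M, toPL k R S M (PP16.dM k R S M m) = dL k R S M m := fun m => rfl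
  refine ⟨toPL k R S M, ⟨hlin, hd⟩, ?_⟩
  rintro v ⟨hvlin, hvd⟩
  apply AddMonoidHom.ext
  intro t
  induction t using TensorProduct.induction_on with
  | zero => rw [map_zero, map_zero]
  | tmul p m =>
    obtain ⟨t, rfl⟩ := Groth.Agent.Helper1.PrinParts.cls_surjective k p
    rw [Groth.Agent.Helper1.PrinParts.eq_Psi_of k (dL k R S M) v hvlin hvd,
      Groth.Agent.Helper1.PrinParts.eq_Psi_of k (dL k R S M) _ hlin hd]
  | add x y hx hy => rw [map_add, map_add, hx, hy]

theorem dL_universal (N : Type u) [AddCommGroup N] [Module S N] [Module R N] [IsScalarTower R S N]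
    (D' : M →ₗ[R] N) (hD' : IsDiffOpLE R S M N k D') :
    ∃! α : PL k R S M →ₗ[S] N, α.restrictScalars R ∘ₗ dL k R S M = D' := by
  obtain ⟨u, ⟨hlin, hd⟩, huniq⟩ := (Groth.Agent.S3815.result k R S M N D').mp hD'
  let α : PL k R S M →ₗ[S] N :=
    { toFun := fun x => u x
      map_add' := fun x y => map_add u x y
      map_smul' := fun b x => hlin b x }
  refine ⟨α, ?_, ?_⟩
  · ext m
    exact hd m
  · intro α' hα'
    have h1 : (α'.toAddMonoidHom : PP16.PM k R S M →+ N) = u := by
      apply huniq
      refine ⟨fun b t => α'.map_smul b t, fun m => ?_⟩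
      exact LinearMap.congr_fun hα' m
    ext x
    exact DFunLike.congr_fun h1 x

end

theorem s9185 (R S : Type u) [CommRing R] [CommRing S] [Algebra R S] (M : Type u)
    [AddCommGroup M] [Module S M] [Module R M] [IsScalarTower R S M] (k : ℕ) :
    ∃ (P : Type u) (_ : AddCommGroup P) (_ : Module S P) (_ : Module R P) (_ : IsScalarTower R S P)
      (D : M →ₗ[R] P), Diff16.IsDiffOpLE R S M P k D ∧
        ∀ (N : Type u) [AddCommGroup N] [Module S N] [Module R N] [IsScalarTower R S N]
          (D' : M →ₗ[R] N),
          Diff16.IsDiffOpLE R S M N k D' → ∃! α : P →ₗ[S] N, α.restrictScalars R ∘ₗ D = D' :=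
  ⟨PL k R S M, inferInstance, inferInstance, inferInstance, inferInstance, dL k R S M,
    dL_isDiffOpLE k R S M, fun N _ _ _ _ D' hD' => dL_universal k R S M N D' hD'⟩

end Groth.Agent.Helper8.DiffOpU
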