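import Mathlib
import Groth.Prelude.Def_DiffOp
import Groth.Agent.Helper1.PrinParts

set_option autoImplicit false
universe u

namespace Groth.Agent.Helper8.DiffOpU
open Diff16
open scoped TensorProduct
open Groth.Agent.Helper1

section
variable {R S S' : Type u} [CommRing R] [CommRing S] [CommRing S'] [Algebra R S] [Algebra R S']
  [Algebra S S'] [IsScalarTower R S S']
variable {M' N' : Type u} [AddCommGroup M'] [Module S' M'] [Module R M'] [Module S M']
  [IsScalarTower R S' M'] [IsScalarTower S S' M']
  [AddCommGroup N'] [Module S' N'] [Module R N'] [Module S N']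
  [IsScalarTower R S' N'] [IsScalarTower S S' N']

/-- change of base ring for the order, for maps with the same underlying function -/
theorem isDiffOpLE_change_base (k : ℕ) : ∀ (F : M' →ₗ[R] N') (F'' : M' →ₗ[S] N'),
    (∀ x, F x = F'' x) → IsDiffOpLE R S' M' N' k F → IsDiffOpLE S S' M' N' k F'' := by
  induction k with
  | zero =>
    intro F F'' h hF b m
    rw [← h, ← h]
    exact hF b m
  | succ k ih =>
    intro F F'' h hF b
    apply ih (Diff16.commutator R S' M' N' F b) _ _ (hF b)
    intro x
    rw [DiffOp.commutator_apply, DiffOp.commutator_apply, h, h]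

/-- an `S`-linear differential operator over a formally unramified `S → S'` is `S'`-linear -/
theorem linear_of_unramified [Algebra.FormallyUnramified S S'] (k : ℕ) (F : M' →ₗ[R] N')
    (hF : IsDiffOpLE R S' M' N' k F)
    (hS : ∀ (s : S) (x : M'), F (s • x) = s • F x) (b : S') (x : M') :
    F (b • x) = b • F x := by
  let F'' : M' →ₗ[S] N' := { toFun := F, map_add' := F.map_add, map_smul' := hS }
  have hF'' : IsDiffOpLE S S' M' N' k F'' := isDiffOpLE_change_base k F F'' (fun _ => rfl) hF
  have h1 := PrinParts.isDiffOpLE_rho_comp k F'' hF'' x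
  have hidem : IsIdempotentElem (KaehlerDifferential.ideal S S') := by
    rw [← Ideal.cotangent_subsingleton_iff]
    exact (inferInstance : Subsingleton (Ω[S'⁄S]))
  have hpow : (KaehlerDifferential.ideal S S') ^ (k + 1) = KaehlerDifferential.ideal S S' :=
    hidem.pow_succ_eq k
  have h2 := DiffOp.linearize_vanish' k _ h1 ((1 : S') ⊗ₜ[S] b - b ⊗ₜ[S] (1 : S'))
    (by rw [hpow]; exact DiffOp.gen_mem_ideal b)
  rw [map_sub, DiffOp.linearize_tmul, DiffOp.linearize_tmul] at h2
  simp only [LinearMap.comp_apply, PrinParts.rho_apply, one_smul] at h2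
  exact sub_eq_zero.mp h2

end

section
variable {R S S' : Type u} [CommRing R] [CommRing S] [CommRing S'] [Algebra R S] [Algebra R S']
  [Algebra S S'] [IsScalarTower R S S'] [Algebra.FormallyUnramified S S']
variable {M : Type u} [AddCommGroup M] [Module S M] [Module R M] [IsScalarTower R S M]

/-- **Uniqueness**: a differential operator on `S' ⊗[S] M` vanishing on `1 ⊗ M` is zero. -/
theorem eq_zero_of_vanish (k : ℕ) : ∀ {N' : Type u} [AddCommGroup N'] [Module S' N'] [Module R N']
    [Module S N'] [IsScalarTower R S' N'] [IsScalarTower S S' N']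
    (E' : S' ⊗[S] M →ₗ[R] N'), IsDiffOpLE R S' (S' ⊗[S] M) N' k E' →
    (∀ m : M, E' ((1 : S') ⊗ₜ[S] m) = 0) → E' = 0 := by
  have key0 : ∀ {N' : Type u} [AddCommGroup N'] [Module S' N'] [Module R N']
      [IsScalarTower R S' N'] (E' : S' ⊗[S] M →ₗ[R] N'),
      (∀ (b : S') (x : S' ⊗[S] M), E' (b • x) = b • E' x) →
      (∀ m : M, E' ((1 : S') ⊗ₜ[S] m) = 0) → E' = 0 := by
    intro N' _ _ _ _ E' hlin hv
    ext x
    induction x using TensorProduct.induction_on with
    | zero => simp
    | tmul s' m =>
      have : s' ⊗ₜ[S] m = s' • ((1 : S') ⊗ₜ[S] m) := by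
        rw [TensorProduct.smul_tmul', smul_eq_mul, mul_one]
      rw [this, hlin, hv, smul_zero, LinearMap.zero_apply]
    | add x y hx hy =>
      rw [map_add, hx, hy]
      simp only [LinearMap.zero_apply, add_zero]
  induction k with
  | zero =>
    intro N' _ _ _ _ _ _ E' hE' hv
    exact key0 E' hE' hv
  | succ k ih =>
    intro N' _ _ _ _ _ _ E' hE' hv
    have hS : ∀ (s : S) (x : S' ⊗[S] M), E' (s • x) = s • E' x := by
      intro s x
      have hC : Diff16.commutator R S' (S' ⊗[S] M) N' E' (algebraMap S S' s) = 0 := by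
        apply ih _ (hE' _)
        intro m
        rw [DiffOp.commutator_apply, hv, smul_zero, sub_zero]
        have : algebraMap S S' s • ((1 : S') ⊗ₜ[S] m) = (1 : S') ⊗ₜ[S] (s • m) := by
          rw [TensorProduct.smul_tmul', smul_eq_mul, mul_one, Algebra.algebraMap_eq_smul_one,
            TensorProduct.smul_tmul]
        rw [this, hv]
      have := LinearMap.congr_fun hC x
      rw [DiffOp.commutator_apply, LinearMap.zero_apply, sub_eq_zero] at this
      rw [← algebraMap_smul S' s x, this, algebraMap_smul]
    exact key0 E' (linear_of_unramified (k + 1) E' hE' hS) hv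

end

end Groth.Agent.Helper8.DiffOpU
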