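import Mathlib
import Groth.Prelude.Def_DiffOp
import Groth.Agent.Helper8.DiffOpU2

set_option autoImplicit false
universe u

namespace Groth.Agent.Helper8.DiffOpU
open Diff16
open scoped TensorProduct
open Groth.Agent.Helper1

section
variable {R S S' : Type u} [CommRing R] [CommRing S] [CommRing S'] [Algebra R S] [Algebra R S']
  [Algebra S S'] [IsScalarTower R S S']
variable {M : Type u} [AddCommGroup M] [Module S M] [Module R M] [IsScalarTower R S M]
variable {N' : Type u} [AddCommGroup N'] [Module S' N'] [Module R N'] [Module S N']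
  [IsScalarTower R S' N'] [IsScalarTower S S' N'] [IsScalarTower R S N']

/-- restriction of a differential operator along `m ↦ 1 ⊗ m` -/
theorem isDiffOpLE_restrict (k : ℕ) : ∀ (F : S' ⊗[S] M →ₗ[R] N'),
    IsDiffOpLE R S' (S' ⊗[S] M) N' k F →
    IsDiffOpLE R S M N' k (F ∘ₗ (TensorProduct.mk S S' M 1).restrictScalars R) := by
  have hj : ∀ (s : S) (m : M), ((1 : S') ⊗ₜ[S] (s • m) : S' ⊗[S] M) =
      algebraMap S S' s • ((1 : S') ⊗ₜ[S] m) := by
    intro s m
    rw [TensorProduct.smul_tmul', smul_eq_mul, mul_one, Algebra.algebraMap_eq_smul_one,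
      TensorProduct.smul_tmul]
  induction k with
  | zero =>
    intro F hF s m
    simp only [LinearMap.comp_apply, LinearMap.coe_restrictScalars, TensorProduct.mk_apply]
    rw [hj, hF, algebraMap_smul]
  | succ k ih =>
    intro F hF s
    have : Diff16.commutator R S M N' (F ∘ₗ (TensorProduct.mk S S' M 1).restrictScalars R) s =
        (Diff16.commutator R S' (S' ⊗[S] M) N' F (algebraMap S S' s)) ∘ₗ
          (TensorProduct.mk S S' M 1).restrictScalars R := by
      ext m
      simp only [DiffOp.commutator_apply, LinearMap.comp_apply, LinearMap.coe_restrictScalars,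
        TensorProduct.mk_apply]
      rw [hj, algebraMap_smul, algebraMap_smul]
    rw [this]
    exact ih _ (hF _)

end

theorem s9472 (R S S' : Type u) [CommRing R]
    [CommRing S] [CommRing S'] [Algebra R S] [Algebra R S'] [Algebra S S'] [IsScalarTower R S S']
    [Algebra.FormallyEtale S S'] (M : Type u) [AddCommGroup M] [Module S M] [Module R M]
    [IsScalarTower R S M] (k : ℕ) (P : Type u) [AddCommGroup P] [Module S P] [Module R P]
    [IsScalarTower R S P] (Du : M →ₗ[R] P) (hDu : Diff16.IsDiffOpLE R S M P k Du)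
    (huniv : ∀ (N : Type u) [AddCommGroup N] [Module S N] [Module R N] [IsScalarTower R S N]
      (D : M →ₗ[R] N), Diff16.IsDiffOpLE R S M N k D →
        ∃! α : P →ₗ[S] N, α.restrictScalars R ∘ₗ Du = D)
    (Du' : S' ⊗[S] M →ₗ[R] S' ⊗[S] P)
    (hDu' : Diff16.IsDiffOpLE R S' (S' ⊗[S] M) (S' ⊗[S] P) k Du')
    (hext : Du' ∘ₗ (TensorProduct.mk S S' M 1).restrictScalars R =
      (TensorProduct.mk S S' P 1).restrictScalars R ∘ₗ Du) :
    ∀ (N' : Type u) [AddCommGroup N'] [Module S' N'] [Module R N'] [IsScalarTower R S' N']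
      (D' : S' ⊗[S] M →ₗ[R] N'), Diff16.IsDiffOpLE R S' (S' ⊗[S] M) N' k D' →
        ∃! α : S' ⊗[S] P →ₗ[S'] N', α.restrictScalars R ∘ₗ Du' = D' := by
  intro N' _ _ _ _ D' hD'
  let _ : Module S N' := Module.compHom N' (algebraMap S S')
  haveI : IsScalarTower S S' N' := ⟨fun s b x => by
    show (s • b) • x = algebraMap S S' s • (b • x)
    rw [Algebra.smul_def, mul_smul]⟩
  haveI : IsScalarTower R S N' := ⟨fun r s x => by
    show algebraMap S S' (r • s) • x = r • (algebraMap S S' s • x)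
    rw [Algebra.smul_def, map_mul, ← IsScalarTower.algebraMap_apply, mul_smul, algebraMap_smul]⟩
  have hext' : ∀ m : M, Du' ((1 : S') ⊗ₜ[S] m) = (1 : S') ⊗ₜ[S] Du m := fun m =>
    LinearMap.congr_fun hext m
  let D'' : M →ₗ[R] N' := D' ∘ₗ (TensorProduct.mk S S' M 1).restrictScalars R
  have hD'' : IsDiffOpLE R S M N' k D'' := isDiffOpLE_restrict k D' hD'
  obtain ⟨β, hβ, hβuniq⟩ := huniv N' D'' hD''
  have hβ' : ∀ m : M, β (Du m) = D' ((1 : S') ⊗ₜ[S] m) := fun m => LinearMap.congr_fun hβ m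
  let α : S' ⊗[S] P →ₗ[S'] N' := LinearMap.liftBaseChange S' β
  have hα : ∀ (a : S') (p : P), α (a ⊗ₜ[S] p) = a • β p := fun a p =>
    LinearMap.liftBaseChange_tmul _ _ _ _
  refine ⟨α, ?_, ?_⟩
  · -- α ∘ Du' = D' via uniqueness
    have h0 : IsDiffOpLE R S' (S' ⊗[S] P) N' 0 (α.restrictScalars R) := by
      intro b x
      exact α.map_smul b x
    have h1 : IsDiffOpLE R S' (S' ⊗[S] M) N' k (α.restrictScalars R ∘ₗ Du') := by
      have := DiffOp.comp hDu' h0
      simpa using this
    have h2 : IsDiffOpLE R S' (S' ⊗[S] M) N' k (α.restrictScalars R ∘ₗ Du' + -D') :=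
      DiffOp.add h1 (DiffOp.neg hD')
    have h3 := eq_zero_of_vanish k (α.restrictScalars R ∘ₗ Du' + -D') h2 (by
      intro m
      simp only [LinearMap.add_apply, LinearMap.comp_apply, LinearMap.coe_restrictScalars,
        LinearMap.neg_apply]
      rw [hext', hα, one_smul, hβ', add_neg_cancel])
    rw [add_neg_eq_zero] at h3
    exact h3
  · intro α₂ hα₂
    have hα₂' : ∀ x, α₂ (Du' x) = D' x := fun x => LinearMap.congr_fun hα₂ x
    let β₂ : P →ₗ[S] N' := (α₂.restrictScalars S) ∘ₗ (TensorProduct.mk S S' P 1)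
    have hβ₂ : β₂ = β := by
      apply hβuniq
      ext m
      show α₂ ((1 : S') ⊗ₜ[S] Du m) = D' ((1 : S') ⊗ₜ[S] m)
      rw [← hext', hα₂']
    apply TensorProduct.AlgebraTensorModule.ext
    intro a p
    have e1 : a ⊗ₜ[S] p = a • ((1 : S') ⊗ₜ[S] p) := by
      rw [TensorProduct.smul_tmul', smul_eq_mul, mul_one]
    rw [hα, e1, map_smul]
    congr 1
    exact LinearMap.congr_fun hβ₂ p

end Groth.Agent.Helper8.DiffOpU
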