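import Mathlib
import Groth.Prelude.Def_DiffOp
import Groth.Prelude.Def_PP16
import Groth.Agent.Helper8.DiffOpU2

set_option autoImplicit false
universe u

namespace Groth.Agent.Helper8.DiffOpU
open Diff16
open scoped TensorProduct
open Groth.Agent.Helper1

/-- abstract lifting lemma -/
theorem exists_lift_twisted (S S' Q : Type u) [CommRing S] [CommRing S'] [CommRing Q]
    [Algebra S S'] [Algebra.FormallySmooth S S'] (ι : S' →+* Q) (ρ : S →+* Q) (J : Ideal Q)
    (hJ : IsNilpotent J) (hιρ : ∀ s : S, ι (algebraMap S S' s) - ρ s ∈ J) :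
    ∃ l : S' →+* Q, (∀ b : S', l b - ι b ∈ J) ∧ ∀ s : S, l (algebraMap S S' s) = ρ s := by
  letI : Algebra S Q := ρ.toAlgebra
  let g₀ : S' →ₐ[S] Q ⧸ J :=
    { toRingHom := (Ideal.Quotient.mk J).comp ι
      commutes' := fun s => by
        show Ideal.Quotient.mk J (ι (algebraMap S S' s)) = Ideal.Quotient.mk J (ρ s)
        exact Ideal.Quotient.eq.mpr (hιρ s) }
  let l : S' →ₐ[S] Q := Algebra.FormallySmooth.lift J hJ g₀
  refine ⟨l.toRingHom, fun b => ?_, fun s => ?_⟩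
  · have h := Algebra.FormallySmooth.mk_lift J hJ g₀ b
    exact Ideal.Quotient.eq.mp h
  · exact l.commutes s

section
variable {R S : Type u} [CommRing R] [CommRing S] [Algebra R S]
variable {M N : Type u} [AddCommGroup M] [Module S M] [Module R M] [IsScalarTower R S M]
  [AddCommGroup N] [Module S N] [Module R N] [IsScalarTower R S N]

theorem exists_Psi (k : ℕ) (D : M →ₗ[R] N) (hD : IsDiffOpLE R S M N k D) :
    ∃ Ψ : PP16.P k R S →+ (M →ₗ[R] N),
      (∀ (s : S) (p : PP16.P k R S) (m : M),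
        Ψ (algebraMap S (PP16.P k R S) s * p) m = s • Ψ p m) ∧
      (∀ (s : S) (p : PP16.P k R S) (m : M), Ψ (p * PP16.dn k R S s) m = Ψ p (s • m)) ∧
      (∀ m, Ψ 1 m = D m) := by
  have hvan : ∀ t ∈ (KaehlerDifferential.ideal R S) ^ (k + 1), PrinParts.Psi D t = 0 := by
    intro t ht
    ext m
    rw [PrinParts.Psi_eq_linearize, LinearMap.zero_apply]
    exact DiffOp.linearize_vanish' k _ (PrinParts.isDiffOpLE_rho_comp k D hD m) t ht
  obtain ⟨Ψ₀, hΨ₀⟩ := PrinParts.exists_PsiBar k D hvan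
  let Ψ : PP16.P k R S →+ (M →ₗ[R] N) :=
    { toFun := fun p => Ψ₀ p
      map_zero' := Ψ₀.map_zero
      map_add' := Ψ₀.map_add }
  have hΨ : ∀ t : S ⊗[R] S,
      Ψ (Ideal.Quotient.mk ((KaehlerDifferential.ideal R S) ^ (k + 1)) t) = PrinParts.Psi D t :=
    fun t => hΨ₀ t
  refine ⟨Ψ, ?_, ?_, ?_⟩
  · intro s p m
    obtain ⟨t, rfl⟩ := Ideal.Quotient.mk_surjective p
    have : algebraMap S (PP16.P k R S) s *
        Ideal.Quotient.mk ((KaehlerDifferential.ideal R S) ^ (k + 1)) t =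
        Ideal.Quotient.mk ((KaehlerDifferential.ideal R S) ^ (k + 1)) ((s ⊗ₜ[R] (1 : S)) * t) :=
      (map_mul (Ideal.Quotient.mk ((KaehlerDifferential.ideal R S) ^ (k + 1)))
        (s ⊗ₜ[R] (1 : S)) t).symm
    rw [this, hΨ, hΨ, PrinParts.Psi_mul_left]
  · intro s p m
    obtain ⟨t, rfl⟩ := Ideal.Quotient.mk_surjective p
    have : Ideal.Quotient.mk ((KaehlerDifferential.ideal R S) ^ (k + 1)) t * PP16.dn k R S s =
        Ideal.Quotient.mk ((KaehlerDifferential.ideal R S) ^ (k + 1)) (((1 : S) ⊗ₜ[R] s) * t) := by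
      rw [mul_comm]
      exact (map_mul (Ideal.Quotient.mk ((KaehlerDifferential.ideal R S) ^ (k + 1)))
        ((1 : S) ⊗ₜ[R] s) t).symm
    rw [this, hΨ, hΨ, PrinParts.Psi_mul_right]
  · intro m
    have : (1 : PP16.P k R S) =
        Ideal.Quotient.mk ((KaehlerDifferential.ideal R S) ^ (k + 1)) ((1 : S) ⊗ₜ[R] (1 : S)) :=
      (map_one (Ideal.Quotient.mk ((KaehlerDifferential.ideal R S) ^ (k + 1)))).symm
    rw [this, hΨ, PrinParts.Psi_tmul, one_smul, one_smul]

end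

end Groth.Agent.Helper8.DiffOpU
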