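import Mathlib
import Groth.Prelude.Def_DiffOp
import Groth.Agent.Helper8.DiffOpU4

set_option autoImplicit false
universe u

namespace Groth.Agent.Helper8.DiffOpU
open Diff16
open scoped TensorProduct
open Groth.Agent.Helper1

section
variable {R S S' : Type u} [CommRing R] [CommRing S] [CommRing S'] [Algebra R S] [Algebra R S']
  [Algebra S S'] [IsScalarTower R S S']
variable {M N : Type u} [AddCommGroup M] [Module S M] [Module R M] [IsScalarTower R S M]
  [AddCommGroup N] [Module S N] [Module R N] [IsScalarTower R S N]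
variable {P : Type u} [CommRing P] [Algebra S P]

/-- the pairing `T` -/
theorem exists_T (d : S →+* P) (Ψ : P →+ (M →ₗ[R] N))
    (ha : ∀ (s : S) (p : P) (m : M), Ψ (algebraMap S P s * p) m = s • Ψ p m)
    (hb : ∀ (s : S) (p : P) (m : M), Ψ (p * d s) m = Ψ p (s • m)) :
    ∃ T : S' ⊗[S] P →+ (M →ₗ[R] S' ⊗[S] N),
      (∀ (a : S') (p : P) (m : M), T (a ⊗ₜ[S] p) m = a ⊗ₜ[S] Ψ p m) ∧
      (∀ (b : S') (q : S' ⊗[S] P) (m : M), T (algebraMap S' (S' ⊗[S] P) b * q) m = b • T q m) ∧
      (∀ (s : S) (q : S' ⊗[S] P) (m : M), T (q * ((1 : S') ⊗ₜ[S] d s)) m = T q (s • m)) := by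
  let f : S' →+ P →+ (M →ₗ[R] S' ⊗[S] N) :=
    { toFun := fun a =>
        { toFun := fun p => ((TensorProduct.mk S S' N a).restrictScalars R) ∘ₗ Ψ p
          map_zero' := by rw [map_zero, LinearMap.comp_zero]
          map_add' := fun p p' => by rw [map_add, LinearMap.comp_add] }
      map_zero' := by
        ext p m
        simp
      map_add' := fun a a' => by
        ext p m
        simp [TensorProduct.add_tmul] }
  have hf : ∀ (a : S') (p : P) (m : M), f a p m = a ⊗ₜ[S] Ψ p m := fun a p m => rfl
  have hbal : ∀ (s : S) (a : S') (p : P), f (s • a) p = f a (s • p) := by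
    intro s a p
    ext m
    rw [hf, hf, Algebra.smul_def s p, ha, TensorProduct.smul_tmul]
  let T := TensorProduct.liftAddHom f hbal
  have hT : ∀ (a : S') (p : P) (m : M), T (a ⊗ₜ[S] p) m = a ⊗ₜ[S] Ψ p m := by
    intro a p m
    show TensorProduct.liftAddHom f hbal (a ⊗ₜ[S] p) m = _
    rw [TensorProduct.liftAddHom_tmul, hf]
  refine ⟨T, hT, ?_, ?_⟩
  · intro b q m
    induction q using TensorProduct.induction_on with
    | zero => simp
    | tmul a p =>
      rw [Algebra.TensorProduct.algebraMap_apply, Algebra.TensorProduct.tmul_mul_tmul, one_mul,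
        hT, hT, Algebra.algebraMap_self_apply, TensorProduct.smul_tmul', smul_eq_mul]
    | add x y hx hy =>
      rw [mul_add, map_add, map_add, LinearMap.add_apply, LinearMap.add_apply, hx, hy, smul_add]
  · intro s q m
    induction q using TensorProduct.induction_on with
    | zero => simp
    | tmul a p =>
      rw [Algebra.TensorProduct.tmul_mul_tmul, mul_one, hT, hT, hb]
    | add x y hx hy =>
      rw [add_mul, map_add, map_add, LinearMap.add_apply, LinearMap.add_apply, hx, hy]

end

end Groth.Agent.Helper8.DiffOpU
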