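import Mathlib
import Groth.Prelude.Def_DiffOp
import Groth.Agent.Helper8.DiffOpU5

set_option autoImplicit false
universe u

namespace Groth.Agent.Helper8.DiffOpU
open Diff16
open scoped TensorProduct
open Groth.Agent.Helper1

section
variable {R S S' : Type u} [CommRing R] [CommRing S] [CommRing S'] [Algebra R S] [Algebra R S']
  [Algebra S S'] [IsScalarTower R S S']
variable {M N : Type u} [AddCommGroup M] [Module S M] [Module R M] [IsScalarTower R S M]
  [AddCommGroup N] [Module S N] [Module R N] [IsScalarTower R S N]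
variable {P : Type u} [CommRing P] [Algebra S P]

/-- the family `F q` -/
theorem exists_F (d : S →+* P) (T : S' ⊗[S] P →+ (M →ₗ[R] S' ⊗[S] N))
    (hT2 : ∀ (s : S) (q : S' ⊗[S] P) (m : M), T (q * ((1 : S') ⊗ₜ[S] d s)) m = T q (s • m))
    (l : S' →+* S' ⊗[S] P) (hl : ∀ s : S, l (algebraMap S S' s) = (1 : S') ⊗ₜ[S] d s) :
    ∃ F : S' ⊗[S] P → (S' ⊗[S] M →ₗ[R] S' ⊗[S] N),
      ∀ (q : S' ⊗[S] P) (a : S') (m : M), F q (a ⊗ₜ[S] m) = T (q * l a) m := by
  have hls : ∀ (s : S) (a : S'), l (s • a) = l a * ((1 : S') ⊗ₜ[S] d s) := by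
    intro s a
    rw [Algebra.smul_def, map_mul, hl, mul_comm]
  have key : ∀ q : S' ⊗[S] P, ∃ Fq : S' ⊗[S] M →ₗ[R] S' ⊗[S] N,
      ∀ (a : S') (m : M), Fq (a ⊗ₜ[S] m) = T (q * l a) m := by
    intro q
    let f : S' →+ M →+ S' ⊗[S] N :=
      { toFun := fun a => (T (q * l a)).toAddMonoidHom
        map_zero' := by
          ext m
          simp
        map_add' := fun a a' => by
          ext m
          simp [mul_add] }
    have hf : ∀ (a : S') (m : M), f a m = T (q * l a) m := fun a m => rfl
    have hbal : ∀ (s : S) (a : S') (m : M), f (s • a) m = f a (s • m) := by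
      intro s a m
      rw [hf, hf, hls, ← mul_assoc, hT2]
    let F₀ := TensorProduct.liftAddHom f hbal
    have hF₀ : ∀ (a : S') (m : M), F₀ (a ⊗ₜ[S] m) = T (q * l a) m := by
      intro a m
      show TensorProduct.liftAddHom f hbal (a ⊗ₜ[S] m) = _
      rw [TensorProduct.liftAddHom_tmul, hf]
    refine ⟨{ toFun := F₀, map_add' := F₀.map_add, map_smul' := ?_ }, hF₀⟩
    intro r x
    simp only [RingHom.id_apply]
    induction x using TensorProduct.induction_on with
    | zero => simp
    | tmul a m =>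
      rw [TensorProduct.smul_tmul', hF₀, hF₀]
      have : r • a = (algebraMap R S r) • a := by rw [algebraMap_smul]
      rw [this, hls, ← mul_assoc, hT2, algebraMap_smul, map_smul]
    | add x y hx hy => rw [smul_add, map_add, map_add, hx, hy, smul_add]
  choose F hF using key
  exact ⟨F, hF⟩

/-- order bound for the family `F q` -/
theorem order_F (k : ℕ) (T : S' ⊗[S] P →+ (M →ₗ[R] S' ⊗[S] N))
    (hT1 : ∀ (b : S') (q : S' ⊗[S] P) (m : M),
      T (algebraMap S' (S' ⊗[S] P) b * q) m = b • T q m)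
    (l : S' →+* S' ⊗[S] P)
    (F : S' ⊗[S] P → (S' ⊗[S] M →ₗ[R] S' ⊗[S] N))
    (hF : ∀ (q : S' ⊗[S] P) (a : S') (m : M), F q (a ⊗ₜ[S] m) = T (q * l a) m)
    (J : Ideal (S' ⊗[S] P)) (hJ : J ^ (k + 1) = ⊥)
    (hlJ : ∀ b : S', l b - algebraMap S' (S' ⊗[S] P) b ∈ J) :
    IsDiffOpLE R S' (S' ⊗[S] M) (S' ⊗[S] N) k (F 1) := by
  have hF0 : F 0 = 0 := by
    ext x
    induction x using TensorProduct.induction_on with
    | zero => simp
    | tmul a m => rw [hF, zero_mul, map_zero]; rfl
    | add x y hx hy => rw [map_add, hx, hy, map_add]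
  have hcomm : ∀ (q : S' ⊗[S] P) (b : S'),
      Diff16.commutator R S' (S' ⊗[S] M) (S' ⊗[S] N) (F q) b =
        F (q * (l b - algebraMap S' (S' ⊗[S] P) b)) := by
    intro q b
    ext x
    induction x using TensorProduct.induction_on with
    | zero => simp
    | tmul a m =>
      have e : q * (l b - algebraMap S' (S' ⊗[S] P) b) * l a =
          q * l (b * a) - algebraMap S' (S' ⊗[S] P) b * (q * l a) := by
        rw [map_mul]; ring
      rw [DiffOp.commutator_apply, TensorProduct.smul_tmul', smul_eq_mul, hF, hF, hF, ← hT1, e,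
        map_sub, LinearMap.sub_apply]
    | add x y hx hy => rw [map_add, map_add, hx, hy]
  have main : ∀ n : ℕ, n ≤ k → ∀ q ∈ J ^ (k - n),
      IsDiffOpLE R S' (S' ⊗[S] M) (S' ⊗[S] N) n (F q) := by
    intro n
    induction n with
    | zero =>
      intro _ q hq
      apply DiffOp.isDiffOpLE_zero_of_commutator
      intro b
      rw [hcomm]
      have : q * (l b - algebraMap S' (S' ⊗[S] P) b) ∈ J ^ (k + 1) := by
        rw [pow_succ]
        exact Ideal.mul_mem_mul (by simpa using hq) (hlJ b)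
      rw [hJ] at this
      rw [(Submodule.mem_bot _).mp this, hF0]
    | succ n ih =>
      intro hn q hq b
      rw [hcomm]
      apply ih (by omega)
      have : k - n = (k - (n + 1)) + 1 := by omega
      rw [this, pow_succ]
      exact Ideal.mul_mem_mul hq (hlJ b)
  exact main k le_rfl 1 (by simp)

end

end Groth.Agent.Helper8.DiffOpU
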