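import Mathlib
import Groth.Prelude.Def_DiffOp
import Groth.Prelude.Def_PP16
import Groth.Agent.Helper8.DiffOpU6

set_option autoImplicit false
universe u

namespace Groth.Agent.Helper8.DiffOpU
open Diff16
open scoped TensorProduct
open Groth.Agent.Helper1

theorem s9465 (R S S' : Type u) [CommRing R]
    [CommRing S] [CommRing S'] [Algebra R S] [Algebra R S'] [Algebra S S'] [IsScalarTower R S S']
    [Algebra.FormallyEtale S S'] (M N : Type u) [AddCommGroup M] [Module S M] [Module R M]
    [IsScalarTower R S M] [AddCommGroup N] [Module S N] [Module R N] [IsScalarTower R S N]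
    (k : ℕ) (D : M →ₗ[R] N) (hD : Diff16.IsDiffOpLE R S M N k D) :
    ∃! D' : S' ⊗[S] M →ₗ[R] S' ⊗[S] N,
      Diff16.IsDiffOpLE R S' (S' ⊗[S] M) (S' ⊗[S] N) k D' ∧
        D' ∘ₗ (TensorProduct.mk S S' M 1).restrictScalars R =
          (TensorProduct.mk S S' N 1).restrictScalars R ∘ₗ D := by
  -- existence
  have hex : ∃ D' : S' ⊗[S] M →ₗ[R] S' ⊗[S] N,
      Diff16.IsDiffOpLE R S' (S' ⊗[S] M) (S' ⊗[S] N) k D' ∧
        D' ∘ₗ (TensorProduct.mk S S' M 1).restrictScalars R =
          (TensorProduct.mk S S' N 1).restrictScalars R ∘ₗ D := by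
    let P := PP16.P k R S
    let d : S →+* P := (PP16.dn k R S).toRingHom
    obtain ⟨Ψ, ha, hb, h1⟩ := exists_Psi k D hD
    obtain ⟨T, hT0, hT1, hT2⟩ := exists_T (S' := S') d Ψ ha hb
    let incl : P →+* S' ⊗[S] P :=
      (Algebra.TensorProduct.includeRight (R := S) (A := S') (B := P)).toRingHom
    have hincl : ∀ p : P, incl p = (1 : S') ⊗ₜ[S] p := fun p => rfl
    let J : Ideal (S' ⊗[S] P) := (PP16.augIdeal k R S).map incl
    have hJ : J ^ (k + 1) = ⊥ := by
      show ((PP16.augIdeal k R S).map incl) ^ (k + 1) = ⊥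
      have h1 := Ideal.map_pow incl (PP16.augIdeal k R S) (k + 1)
      rw [← h1]
      have : (PP16.augIdeal k R S) ^ (k + 1) = ⊥ := by
        unfold PP16.augIdeal
        have h2 := Ideal.map_pow (Ideal.Quotient.mk ((KaehlerDifferential.ideal R S) ^ (k + 1)))
          (KaehlerDifferential.ideal R S) (k + 1)
        rw [← h2, Ideal.map_quotient_self]
      rw [this, Ideal.map_bot]
    have hιρ : ∀ s : S, algebraMap S' (S' ⊗[S] P) (algebraMap S S' s) - incl (d s) ∈ J := by
      intro s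
      have e1 : algebraMap S' (S' ⊗[S] P) (algebraMap S S' s) = incl (algebraMap S P s) := by
        rw [hincl, Algebra.TensorProduct.algebraMap_apply, Algebra.algebraMap_self_apply,
          Algebra.algebraMap_eq_smul_one, TensorProduct.smul_tmul, ← Algebra.algebraMap_eq_smul_one]
      rw [e1, ← map_sub]
      apply Ideal.mem_map_of_mem
      show algebraMap S P s - PP16.dn k R S s ∈ PP16.augIdeal k R S
      have : algebraMap S P s - PP16.dn k R S s =
          Ideal.Quotient.mk ((KaehlerDifferential.ideal R S) ^ (k + 1))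
            (-((1 : S) ⊗ₜ[R] s - s ⊗ₜ[R] (1 : S))) := by
        rw [map_neg, map_sub, neg_sub]
        rfl
      rw [this]
      apply Ideal.mem_map_of_mem
      exact neg_mem (KaehlerDifferential.one_smul_sub_smul_one_mem_ideal R s)
    obtain ⟨l, hlJ, hl⟩ := exists_lift_twisted S S' (S' ⊗[S] P) (algebraMap S' (S' ⊗[S] P))
      (incl.comp d) J ⟨k + 1, hJ⟩ hιρ
    obtain ⟨F, hF⟩ := exists_F d T hT2 l hl
    refine ⟨F 1, order_F k T hT1 l F hF J hJ hlJ, ?_⟩
    ext m
    simp only [LinearMap.comp_apply, LinearMap.coe_restrictScalars, TensorProduct.mk_apply]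
    rw [hF, map_one, mul_one, Algebra.TensorProduct.one_def, hT0, h1]
  obtain ⟨D', hD', hext⟩ := hex
  refine ⟨D', ⟨hD', hext⟩, ?_⟩
  rintro D₂ ⟨hD₂, hext₂⟩
  have h2 : IsDiffOpLE R S' (S' ⊗[S] M) (S' ⊗[S] N) k (D₂ + -D') :=
    DiffOp.add hD₂ (DiffOp.neg hD')
  have h3 := eq_zero_of_vanish k (D₂ + -D') h2 (by
    intro m
    have e1 := LinearMap.congr_fun hext m
    have e2 := LinearMap.congr_fun hext₂ m
    simp only [LinearMap.comp_apply, LinearMap.coe_restrictScalars, TensorProduct.mk_apply] at e1 e2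
    rw [LinearMap.add_apply, LinearMap.neg_apply, e1, e2, add_neg_cancel])
  exact eq_of_sub_eq_zero (by rw [sub_eq_add_neg]; exact h3)

end Groth.Agent.Helper8.DiffOpU
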