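import Mathlib
import Groth.Prelude.Def_DiffOp
import Groth.Agent.Helper8.DiffOpU7

set_option autoImplicit false
universe u

namespace Groth.Agent.Helper8.DiffOpU
open Diff16
open scoped TensorProduct
open Groth.Agent.Helper1

theorem s9155 (A B : Type u) [CommRing A] [CommRing B] [Algebra A B]
    (S : Submonoid B) (M N : Type u) [AddCommGroup M] [Module B M] [Module A M] [IsScalarTower A B M]
    [AddCommGroup N] [Module B N] [Module A N] [IsScalarTower A B N] (k : ℕ) (D : M →ₗ[A] N)
    (hD : Diff16.IsDiffOpLE A B M N k D) :
    ∃! E : LocalizedModule S M →ₗ[A] LocalizedModule S N,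
      Diff16.IsDiffOpLE A (Localization S) (LocalizedModule S M) (LocalizedModule S N) k E ∧
        E ∘ₗ (LocalizedModule.mkLinearMap S M).restrictScalars A =
          (LocalizedModule.mkLinearMap S N).restrictScalars A ∘ₗ D := by
  haveI : Algebra.FormallyEtale B (Localization S) := Algebra.FormallyEtale.of_isLocalization S
  let eM := LocalizedModule.equivTensorProduct S M
  let eN := LocalizedModule.equivTensorProduct S N
  -- order zero maps
  have h0M : IsDiffOpLE A (Localization S) (LocalizedModule S M) (Localization S ⊗[B] M) 0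
      (eM.toLinearMap.restrictScalars A) := fun b x => eM.map_smul b x
  have h0Ms : IsDiffOpLE A (Localization S) (Localization S ⊗[B] M) (LocalizedModule S M) 0
      (eM.symm.toLinearMap.restrictScalars A) := fun b x => eM.symm.map_smul b x
  have h0N : IsDiffOpLE A (Localization S) (LocalizedModule S N) (Localization S ⊗[B] N) 0
      (eN.toLinearMap.restrictScalars A) := fun b x => eN.map_smul b x
  have h0Ns : IsDiffOpLE A (Localization S) (Localization S ⊗[B] N) (LocalizedModule S N) 0
      (eN.symm.toLinearMap.restrictScalars A) := fun b x => eN.symm.map_smul b x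
  have hmkM : ∀ m : M, eM (LocalizedModule.mkLinearMap S M m) = (1 : Localization S) ⊗ₜ[B] m := by
    intro m
    apply eM.symm.injective
    rw [LinearEquiv.symm_apply_apply, LocalizedModule.equivTensorProduct_symm_apply_tmul_one]
    rfl
  have hmkN : ∀ n : N, eN (LocalizedModule.mkLinearMap S N n) = (1 : Localization S) ⊗ₜ[B] n := by
    intro n
    apply eN.symm.injective
    rw [LinearEquiv.symm_apply_apply, LocalizedModule.equivTensorProduct_symm_apply_tmul_one]
    rfl
  obtain ⟨D', ⟨hD', hext⟩, huniq⟩ := s9465 A B (Localization S) M N k D hD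
  have hext' : ∀ m : M, D' ((1 : Localization S) ⊗ₜ[B] m) = (1 : Localization S) ⊗ₜ[B] D m :=
    fun m => LinearMap.congr_fun hext m
  refine ⟨eN.symm.toLinearMap.restrictScalars A ∘ₗ D' ∘ₗ eM.toLinearMap.restrictScalars A,
    ⟨?_, ?_⟩, ?_⟩
  · have := DiffOp.comp (DiffOp.comp h0M hD') h0Ns
    simpa using this
  · ext m
    simp only [LinearMap.comp_apply, LinearMap.coe_restrictScalars, LinearEquiv.coe_coe]
    rw [hmkM, hext', ← hmkN, LinearEquiv.symm_apply_apply]
  · rintro E ⟨hE, hEext⟩
    have hE' : ∀ m : M, E (LocalizedModule.mkLinearMap S M m) =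
        LocalizedModule.mkLinearMap S N (D m) := fun m => LinearMap.congr_fun hEext m
    have h1 : eN.toLinearMap.restrictScalars A ∘ₗ E ∘ₗ eM.symm.toLinearMap.restrictScalars A = D' := by
      apply huniq
      refine ⟨?_, ?_⟩
      · have := DiffOp.comp (DiffOp.comp h0Ms hE) h0N
        simpa using this
      · ext m
        simp only [LinearMap.comp_apply, LinearMap.coe_restrictScalars, LinearEquiv.coe_coe,
          TensorProduct.mk_apply]
        rw [← hmkM, LinearEquiv.symm_apply_apply, hE', hmkN]
    ext x
    have := LinearMap.congr_fun h1 (eM x)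
    simp only [LinearMap.comp_apply, LinearMap.coe_restrictScalars, LinearEquiv.coe_coe,
      LinearEquiv.symm_apply_apply] at this
    simp only [LinearMap.comp_apply, LinearMap.coe_restrictScalars, LinearEquiv.coe_coe]
    rw [← this, LinearEquiv.symm_apply_apply]

end Groth.Agent.Helper8.DiffOpU
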