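import Mathlib
import Groth.Agent.Helper8.ComplMap

/-!
# `p`-adic dilatation algebras

General lemmas on the completion of a ring along a principal ideal generated by a regular element,
and the construction of the universal `p`-torsion-free, `p`-adically complete algebra in which
given elements become divisible by `p`.
-/

set_option autoImplicit false

namespace Groth.Agent.Helper8.Dilat

noncomputable section

section general

variable {D₀ : Type*} [CommRing D₀] (ϖ : D₀)

lemma isAdicComplete_span :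
    IsAdicComplete (Ideal.span {algebraMap D₀ (AdicCompletion (Ideal.span {ϖ}) D₀) ϖ})
      (AdicCompletion (Ideal.span {ϖ}) D₀) := by
  have h := AdicCompletion.isAdicComplete_self (Ideal.span {ϖ}) ⟨{ϖ}, by simp⟩
  rwa [Ideal.map_span, Set.image_singleton] at h

lemma mem_pow_span_of_mul_mem (hreg : IsSMulRegular D₀ ϖ) (n : ℕ) (y : D₀)
    (h : ϖ * y ∈ Ideal.span {ϖ} ^ (n + 1)) : y ∈ Ideal.span {ϖ} ^ n := by
  rw [Ideal.span_singleton_pow, Ideal.mem_span_singleton'] at h ⊢
  obtain ⟨c, hc⟩ := h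
  refine ⟨c, ?_⟩
  apply hreg
  simp only [smul_eq_mul]
  rw [← hc, pow_succ]; ring

lemma isSMulRegular_completion (hreg : IsSMulRegular D₀ ϖ) :
    IsSMulRegular (AdicCompletion (Ideal.span {ϖ}) D₀)
      (algebraMap D₀ (AdicCompletion (Ideal.span {ϖ}) D₀) ϖ) := by
  rw [isSMulRegular_iff_right_eq_zero_of_smul]
  intro x hx
  rw [smul_eq_mul] at hx
  induction x using AdicCompletion.induction_on with
  | h s =>
    apply AdicCompletion.ext_evalₐ
    intro n
    rw [_root_.map_zero, AdicCompletion.evalₐ_mk, Ideal.Quotient.eq_zero_iff_mem]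
    have h1 : AdicCompletion.evalₐ (Ideal.span {ϖ}) (n + 1)
        (algebraMap D₀ (AdicCompletion (Ideal.span {ϖ}) D₀) ϖ *
          AdicCompletion.mk (Ideal.span {ϖ}) D₀ s) = 0 := by rw [hx, _root_.map_zero]
    rw [map_mul, AdicCompletion.evalₐ_mk, AdicCompletion.algebraMap_apply, Algebra.algebraMap_self,
      RingHom.id_apply, AdicCompletion.evalₐ_of, ← map_mul, Ideal.Quotient.eq_zero_iff_mem] at h1
    have h2 := mem_pow_span_of_mul_mem ϖ hreg n _ h1
    have h3 := s.property (Nat.le_succ n)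
    rw [SModEq.sub_mem, smul_eq_mul, Ideal.mul_top] at h3
    have h4 := add_mem h3 h2
    rwa [sub_add_cancel] at h4

lemma exists_approx (x : AdicCompletion (Ideal.span {ϖ}) D₀) (n : ℕ) :
    ∃ (y : D₀) (z : AdicCompletion (Ideal.span {ϖ}) D₀),
      x = AdicCompletion.of _ _ y +
        (algebraMap D₀ (AdicCompletion (Ideal.span {ϖ}) D₀) ϖ) ^ n * z := by
  induction x using AdicCompletion.induction_on with
  | h s =>
    have h1 : AdicCompletion.mk (Ideal.span {ϖ}) D₀ s - AdicCompletion.of _ _ (s n) ∈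
        LinearMap.ker (AdicCompletion.eval (Ideal.span {ϖ}) D₀ n) := by
      rw [LinearMap.mem_ker, map_sub, AdicCompletion.eval_apply, AdicCompletion.mk_apply_coe,
        AdicCompletion.eval_of, sub_self]
    rw [← AdicCompletion.pow_smul_top_eq_ker_eval ⟨{ϖ}, by simp⟩, Ideal.span_singleton_pow,
      Submodule.ideal_span_singleton_smul] at h1
    obtain ⟨z, _, hz⟩ := h1
    refine ⟨s n, z, ?_⟩
    rw [← map_pow, ← Algebra.smul_def]
    have : (ϖ ^ n) • z = AdicCompletion.mk (Ideal.span {ϖ}) D₀ s - AdicCompletion.of _ _ (s n) :=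
      hz
    rw [this]; ring

variable {B : Type*} [CommRing B]

/-- Extension of a ring hom to the completion, for a complete target. -/
def extend (I : Ideal D₀) (J : Ideal B) [IsAdicComplete J B]
    (g : D₀ →+* B) (hIJ : I.map g ≤ J) : AdicCompletion I D₀ →+* B :=
  ((AdicCompletion.ofAlgEquiv J).symm : AdicCompletion J B →+* B).comp
    (@ComplMap.complMap D₀ B _ _ g.toAlgebra I J hIJ)

lemma extend_of (I : Ideal D₀) (J : Ideal B) [IsAdicComplete J B]
    (g : D₀ →+* B) (hIJ : I.map g ≤ J) (y : D₀) :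
    extend I J g hIJ (AdicCompletion.of I D₀ y) = g y := by
  unfold extend
  rw [RingHom.comp_apply]
  have h := @ComplMap.complMap_of D₀ B _ _ g.toAlgebra I J hIJ y
  rw [h]
  exact AdicCompletion.ofAlgEquiv_symm_of J (g y)

lemma hom_ext_of_hausdorff (β : B) [IsHausdorff (Ideal.span {β}) B]
    (f₁ f₂ : AdicCompletion (Ideal.span {ϖ}) D₀ →+* B)
    (h : ∀ y, f₁ (AdicCompletion.of _ _ y) = f₂ (AdicCompletion.of _ _ y))
    (hϖ : f₁ (AdicCompletion.of _ _ ϖ) = β) : f₁ = f₂ := by
  ext x
  rw [← sub_eq_zero]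
  apply IsHausdorff.haus' (I := Ideal.span {β})
  intro n
  rw [SModEq.zero, smul_eq_mul, Ideal.mul_top, Ideal.span_singleton_pow,
    Ideal.mem_span_singleton']
  obtain ⟨y, z, hx⟩ := exists_approx ϖ x n
  refine ⟨f₁ z - f₂ z, ?_⟩
  have hϖ2 : f₂ (AdicCompletion.of _ _ ϖ) = β := by rw [← h, hϖ]
  have e : algebraMap D₀ (AdicCompletion (Ideal.span {ϖ}) D₀) ϖ = AdicCompletion.of _ _ ϖ := by
    rw [AdicCompletion.algebraMap_apply, Algebra.algebraMap_self, RingHom.id_apply]
  rw [hx, map_add, map_add, map_mul, map_mul, map_pow, map_pow, e, hϖ, hϖ2, h y]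
  ring

end general

/-! ### The dilatation algebra -/

section dilat

universe u

variable (p : ℕ) (A : Type u) [CommRing A] {n : ℕ} (a : Fin n → A)

/-- The naive algebra `A[T] / (p T_i - a_i)`. -/
abbrev Q : Type u :=
  MvPolynomial (Fin n) A ⧸ Ideal.span (Set.range fun i : Fin n =>
    MvPolynomial.C (p : A) * MvPolynomial.X i - MvPolynomial.C (a i))

/-- The `p`-power torsion ideal of `Q`. -/
abbrev T : Ideal (Q p A a) := Submodule.torsion' (Q p A a) (Q p A a) (Submonoid.powers (p : Q p A a))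

/-- The `p`-torsion-free quotient. -/
abbrev D0 : Type u := Q p A a ⧸ T p A a

/-- The class of the variable `T_i`. -/
def xi (i : Fin n) : D0 p A a :=
  Ideal.Quotient.mk _ (Ideal.Quotient.mk _ (MvPolynomial.X i))

lemma p_mul_xi (i : Fin n) : (p : D0 p A a) * xi p A a i = algebraMap A (D0 p A a) (a i) := by
  have h : (Ideal.Quotient.mk (Ideal.span (Set.range fun i : Fin n =>
      MvPolynomial.C (p : A) * MvPolynomial.X i - MvPolynomial.C (a i))))
      (MvPolynomial.C (p : A) * MvPolynomial.X i - MvPolynomial.C (a i)) = 0 :=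
    Ideal.Quotient.eq_zero_iff_mem.mpr (Ideal.subset_span ⟨i, rfl⟩)
  rw [map_sub, sub_eq_zero] at h
  have h2 := congrArg (Ideal.Quotient.mk (T p A a)) h
  rw [map_mul, map_mul] at h2
  unfold xi
  convert h2 using 2
  · simp [map_natCast]
  · rfl

lemma isSMulRegular_D0 : IsSMulRegular (D0 p A a) (p : D0 p A a) := by
  rw [isSMulRegular_iff_right_eq_zero_of_smul]
  intro x hx
  obtain ⟨y, rfl⟩ := Ideal.Quotient.mk_surjective x
  rw [smul_eq_mul, ← map_natCast (Ideal.Quotient.mk (T p A a)), ← map_mul,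
    Ideal.Quotient.eq_zero_iff_mem] at hx
  rw [Ideal.Quotient.eq_zero_iff_mem]
  obtain ⟨⟨_, m, rfl⟩, hm⟩ := hx
  refine ⟨⟨(p : Q p A a) ^ (m + 1), m + 1, rfl⟩, ?_⟩
  simp only [Submonoid.smul_def, smul_eq_mul] at hm ⊢
  rw [pow_succ, mul_assoc]; exact hm

variable {p A a}

/-- The universal map out of `Q`. -/
def liftQ {B : Type*} [CommRing B] [Algebra A B]
    (b : Fin n → B) (hb : ∀ i, (p : B) * b i = algebraMap A B (a i)) : Q p A a →ₐ[A] B :=
  Ideal.Quotient.liftₐ _ (MvPolynomial.aeval b) (by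
    intro f hf
    have : Ideal.span (Set.range fun i : Fin n =>
        MvPolynomial.C (p : A) * MvPolynomial.X i - MvPolynomial.C (a i)) ≤
        RingHom.ker (MvPolynomial.aeval b : MvPolynomial (Fin n) A →ₐ[A] B) := by
      rw [Ideal.span_le]
      rintro _ ⟨i, rfl⟩
      simp only [SetLike.mem_coe, RingHom.mem_ker, map_sub, map_mul, MvPolynomial.aeval_C,
        MvPolynomial.aeval_X, map_natCast]
      rw [hb, sub_self]
    exact this hf)

/-- The universal map out of `D0`. -/
def lift0 {B : Type*} [CommRing B] [Algebra A B] (hB : IsSMulRegular B (p : B))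
    (b : Fin n → B) (hb : ∀ i, (p : B) * b i = algebraMap A B (a i)) : D0 p A a →ₐ[A] B :=
  Ideal.Quotient.liftₐ (T p A a) (liftQ b hb)
    (by
      intro x hx
      obtain ⟨⟨_, m, rfl⟩, hm⟩ := hx
      simp only [Submonoid.smul_def, smul_eq_mul] at hm
      have h2 := congrArg (liftQ b hb) hm
      rw [map_mul, map_pow, map_natCast, _root_.map_zero] at h2
      exact (hB.pow m) (by simpa using h2))

lemma algHom_ext0 {B : Type*} [CommRing B] [Algebra A B] (hB : IsSMulRegular B (p : B))
    (h₁ h₂ : D0 p A a →ₐ[A] B) : h₁ = h₂ := by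
  have hsurj : Function.Surjective ((Ideal.Quotient.mkₐ A (T p A a)).comp
      (Ideal.Quotient.mkₐ A (Ideal.span (Set.range fun i : Fin n =>
        MvPolynomial.C (p : A) * MvPolynomial.X i - MvPolynomial.C (a i))))) :=
    (Ideal.Quotient.mkₐ_surjective A _).comp (Ideal.Quotient.mkₐ_surjective A _)
  apply (AlgHom.cancel_right hsurj).mp
  apply MvPolynomial.algHom_ext
  intro i
  simp only [AlgHom.comp_apply, Ideal.Quotient.mkₐ_eq_mk]
  apply hB
  simp only [smul_eq_mul]
  have e := p_mul_xi p A a i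
  unfold xi at e
  have e1 := congrArg h₁ e
  have e2 := congrArg h₂ e
  rw [map_mul, map_natCast, AlgHom.commutes] at e1 e2
  rw [e1, e2]

end dilat

end

end Groth.Agent.Helper8.Dilat
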