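import Groth.Agent.Helper8.Dilat

/-!
# The universal `p`-adic dilatation algebra
-/

set_option autoImplicit false

namespace Groth.Agent.Helper8.Dilat

universe u

noncomputable section

section abstract

variable (p : ℕ) (A : Type u) [CommRing A] {n : ℕ} (a : Fin n → A)
  (D₀ : Type u) [CommRing D₀] [Algebra A D₀]

local notation "DD" => AdicCompletion (Ideal.span {((p : ℕ) : D₀)}) D₀

lemma algebraMap_natCast' : algebraMap D₀ DD ((p : ℕ) : D₀) = ((p : ℕ) : DD) :=
  map_natCast _ p

lemma algebraMap_A_DD (r : A) :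
    algebraMap A DD r = algebraMap D₀ DD (algebraMap A D₀ r) := by
  rw [AdicCompletion.algebraMap_apply, AdicCompletion.algebraMap_apply, Algebra.algebraMap_self,
    RingHom.id_apply]

theorem main_abstract (hreg : IsSMulRegular D₀ ((p : ℕ) : D₀)) (x : Fin n → D₀)
    (hx : ∀ i, ((p : ℕ) : D₀) * x i = algebraMap A D₀ (a i))
    (hlift : ∀ (B : Type u) [CommRing B] [Algebra A B], IsSMulRegular B (p : B) →
      (∀ i, algebraMap A B (a i) ∈ Ideal.span {(p : B)}) → Nonempty (D₀ →ₐ[A] B))
    (hext : ∀ (B : Type u) [CommRing B] [Algebra A B], IsSMulRegular B (p : B) →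
      ∀ h₁ h₂ : D₀ →ₐ[A] B, h₁ = h₂) :
    IsAdicComplete (Ideal.span {((p : ℕ) : DD)}) DD ∧ IsSMulRegular DD ((p : ℕ) : DD) ∧
      (∀ i, algebraMap A DD (a i) ∈ Ideal.span {((p : ℕ) : DD)}) ∧
      ∀ (B : Type u) [CommRing B] [Algebra A B] [IsAdicComplete (Ideal.span {(p : B)}) B],
        IsSMulRegular B (p : B) → (∀ i, algebraMap A B (a i) ∈ Ideal.span {(p : B)}) →
          Nonempty (DD →ₐ[A] B) ∧ Subsingleton (DD →ₐ[A] B) ∧
            (Function.Surjective (algebraMap A B) → ∀ f : DD →ₐ[A] B, Function.Surjective f) := by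
  refine ⟨?_, ?_, ?_, ?_⟩
  · have h := isAdicComplete_span ((p : ℕ) : D₀)
    rwa [algebraMap_natCast'] at h
  · have h := isSMulRegular_completion ((p : ℕ) : D₀) hreg
    rwa [algebraMap_natCast'] at h
  · intro i
    rw [algebraMap_A_DD, ← hx i, map_mul, algebraMap_natCast']
    exact Ideal.mul_mem_right _ _ (Ideal.subset_span rfl)
  · intro B _ _ _ hB hdiv
    obtain ⟨g₀⟩ := hlift B hB hdiv
    have hIJ : (Ideal.span {((p : ℕ) : D₀)}).map g₀.toRingHom ≤ Ideal.span {(p : B)} := by
      rw [Ideal.map_span, Set.image_singleton]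
      apply le_of_eq
      congr 2
      exact map_natCast g₀ p
    refine ⟨⟨{ toRingHom := extend (Ideal.span {((p : ℕ) : D₀)}) (Ideal.span {(p : B)})
                g₀.toRingHom hIJ
               commutes' := ?_ }⟩, ⟨?_⟩, ?_⟩
    · intro r
      rw [AdicCompletion.algebraMap_apply]
      simp only [RingHom.toMonoidHom_eq_coe, OneHom.toFun_eq_coe, MonoidHom.toOneHom_coe,
        MonoidHom.coe_coe]
      rw [extend_of]
      exact g₀.commutes r
    · intro f₁ f₂
      have key : ∀ f : DD →ₐ[A] B, ∃ h : D₀ →ₐ[A] B,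
          ∀ y, h y = f (AdicCompletion.of _ _ y) := by
        intro f
        refine ⟨{ toRingHom := f.toRingHom.comp (algebraMap D₀ DD)
                  commutes' := ?_ }, ?_⟩
        · intro r
          simp only [RingHom.toMonoidHom_eq_coe, OneHom.toFun_eq_coe, MonoidHom.toOneHom_coe,
            MonoidHom.coe_coe, RingHom.coe_comp, Function.comp_apply]
          rw [← algebraMap_A_DD]
          exact f.commutes r
        · intro y
          show f.toRingHom (algebraMap D₀ DD y) = _
          rw [AdicCompletion.algebraMap_apply, Algebra.algebraMap_self, RingHom.id_apply]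
          rfl
      obtain ⟨h₁, hh₁⟩ := key f₁
      obtain ⟨h₂, hh₂⟩ := key f₂
      have h12 : h₁ = h₂ := hext B hB h₁ h₂
      have : f₁.toRingHom = f₂.toRingHom := by
        have : IsHausdorff (Ideal.span {(p : B)}) B := inferInstance
        apply hom_ext_of_hausdorff ((p : ℕ) : D₀) (p : B)
        · intro y
          show f₁ _ = f₂ _
          rw [← hh₁, ← hh₂, h12]
        · show f₁ (AdicCompletion.of _ _ ((p : ℕ) : D₀)) = _
          have e : AdicCompletion.of (Ideal.span {((p : ℕ) : D₀)}) D₀ ((p : ℕ) : D₀) =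
              ((p : ℕ) : DD) := by
            rw [← algebraMap_natCast', AdicCompletion.algebraMap_apply, Algebra.algebraMap_self,
              RingHom.id_apply]
          rw [e, map_natCast]
      exact AlgHom.ext fun x => congrArg (fun g : DD →+* B => g x) this
    · intro hsurj f y
      obtain ⟨r, rfl⟩ := hsurj y
      exact ⟨algebraMap A DD r, f.commutes r⟩

end abstract

theorem main (p : ℕ) (A : Type u) [CommRing A] {n : ℕ} (a : Fin n → A) :
    ∃ (D : Type u) (_ : CommRing D) (_ : Algebra A D),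
      IsAdicComplete (Ideal.span {(p : D)}) D ∧ IsSMulRegular D (p : D) ∧
      (∀ i, algebraMap A D (a i) ∈ Ideal.span {(p : D)}) ∧
      ∀ (B : Type u) [CommRing B] [Algebra A B] [IsAdicComplete (Ideal.span {(p : B)}) B],
        IsSMulRegular B (p : B) → (∀ i, algebraMap A B (a i) ∈ Ideal.span {(p : B)}) →
          Nonempty (D →ₐ[A] B) ∧ Subsingleton (D →ₐ[A] B) ∧
            (Function.Surjective (algebraMap A B) → ∀ f : D →ₐ[A] B, Function.Surjective f) := by
  refine ⟨AdicCompletion (Ideal.span {((p : ℕ) : D0 p A a)}) (D0 p A a), inferInstance, inferInstance,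
    main_abstract p A a (D0 p A a) (isSMulRegular_D0 p A a) (xi p A a) (p_mul_xi p A a) ?_ ?_⟩
  · intro B _ _ hB hdiv
    have hb' : ∀ i, ∃ b : B, (p : B) * b = algebraMap A B (a i) := by
      intro i
      obtain ⟨b, hb⟩ := Ideal.mem_span_singleton'.mp (hdiv i)
      exact ⟨b, by rw [mul_comm]; exact hb⟩
    choose b hb using hb'
    exact ⟨lift0 hB b hb⟩
  · intro B _ _ hB h₁ h₂
    exact algHom_ext0 hB h₁ h₂

end

end Groth.Agent.Helper8.Dilat
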