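import Mathlib
import Groth.Agent.S9684
import Groth.Agent.Lead.RegLocal
import Groth.Agent.Helper5.DimFormula4
import Groth.Agent.Helper5.CIntDim1

set_option autoImplicit false
universe u

namespace Groth.Agent.Helper8.DimFunReg

open CategoryTheory CategoryTheory.Limits AlgebraicGeometry
open Groth.Agent.Helper5.StalkDict

/-- A totally ordered pair has Krull dimension one. -/
theorem krullDim_Icc_of_immediate {S : Scheme.{u}} (x y : S) (hsp : x ⤳ y) (hne : x ≠ y)
    (himm : ∀ z : S, x ⤳ z → z ⤳ y → z = x ∨ z = y) :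
    Order.krullDim ↥(Set.Icc y x) = 1 := by
  have hyx : y ≤ x := Scheme.le_iff_specializes.2 hsp
  have hlt : y < x := lt_of_le_not_ge hyx
    (fun h => hne ((Scheme.le_iff_specializes.1 h).antisymm hsp).eq.symm)
  apply le_antisymm
  · unfold Order.krullDim
    refine iSup_le fun l => ?_
    by_contra hgt
    have h2 : 2 ≤ l.length := by
      have : ¬ ((l.length : ℕ) ≤ 1) := fun h => hgt (by exact_mod_cast h)
      omega
    -- three distinct elements
    have e0 : l ⟨0, by omega⟩ < l ⟨1, by omega⟩ := l.strictMono (by simp [Fin.lt_def])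
    have e1 : l ⟨1, by omega⟩ < l ⟨2, by omega⟩ := l.strictMono (by simp [Fin.lt_def])
    have hmid := himm (l ⟨1, by omega⟩).1
      (Scheme.le_iff_specializes.1 (l ⟨1, by omega⟩).2.2)
      (Scheme.le_iff_specializes.1 (l ⟨1, by omega⟩).2.1)
    rcases hmid with h | h
    · have : (l ⟨2, by omega⟩).1 ≤ (l ⟨1, by omega⟩).1 := by rw [h]; exact (l ⟨2, by omega⟩).2.2
      exact absurd (show l ⟨2, by omega⟩ ≤ l ⟨1, by omega⟩ from this) (lt_iff_le_not_ge.1 e1).2
    · have : (l ⟨1, by omega⟩).1 ≤ (l ⟨0, by omega⟩).1 := by rw [h]; exact (l ⟨0, by omega⟩).2.1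
      exact absurd (show l ⟨1, by omega⟩ ≤ l ⟨0, by omega⟩ from this) (lt_iff_le_not_ge.1 e0).2
  · rw [Order.one_le_krullDim_iff]
    exact ⟨⟨y, le_rfl, hyx⟩, ⟨x, hyx, le_rfl⟩, hlt⟩

theorem isDimFun_neg_stalkDim {S : Scheme.{u}} [IsLocallyNoetherian S]
    (hreg : ∀ s : S, IsRegularLocalRing (S.presheaf.stalk s))
    (huc : ∀ s : S, CAlg.IsUniversallyCatenary (S.presheaf.stalk s))
    (δS : S → ℤ)
    (hδS : ∀ s : S, ringKrullDim (S.presheaf.stalk s) = ((-δS s).toNat : WithBot ℕ∞) ∧ δS s ≤ 0) :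
    Cyc.IsDimFun S δS := by
  intro x y hsp hne
  haveI := hreg y
  haveI : IsDomain (S.presheaf.stalk y) :=
    Groth.Agent.Lead.RegLocal.isDomain_of_isRegularLocalRing (S.presheaf.stalk y)
  have hcat : CAlg.IsCatenary (S.presheaf.stalk y) := (huc y).2 (S.presheaf.stalk y) inferInstance
  have hy : ringKrullDim (S.presheaf.stalk y) =
      (IsLocalRing.maximalIdeal (S.presheaf.stalk y)).height :=
    (IsLocalRing.maximalIdeal_height_eq_ringKrullDim).symm
  set R := S.presheaf.stalk y with hR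
  obtain ⟨p, hp⟩ := exists_prime_of_specializes y x hsp
  have hx : ringKrullDim (S.presheaf.stalk x) = p.asIdeal.height := by
    rw [← hp]; exact Groth.Agent.Helper5.CIntDim.ringKrullDim_stalk_fromSpecStalk y p
  set m := IsLocalRing.maximalIdeal R with hm
  set π := Ideal.Quotient.mk p.asIdeal with hπ
  have hπs : Function.Surjective π := Ideal.Quotient.mk_surjective
  have hker : RingHom.ker π = p.asIdeal := Ideal.mk_ker
  have hpm : p.asIdeal ≤ m := IsLocalRing.le_maximalIdeal p.isPrime.ne_top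
  have hqprime : (m.map π).IsPrime :=
    Ideal.map_isPrime_of_surjective hπs (by rw [hker]; exact hpm)
  have hcomap : (m.map π).comap π = m := by
    rw [Ideal.comap_map_of_surjective' π hπs, hker]
    exact sup_eq_left.2 hpm
  have hsum := Groth.Agent.Helper5.DimFormula.height_add_height_ker_eq hcat π hπs (m.map π)
  rw [hker, hcomap] at hsum
  -- the quotient is local with maximal ideal `m.map π`
  haveI : IsLocalRing (R ⧸ p.asIdeal) := IsLocalRing.of_surjective' π hπs
  have hqmax : (m.map π).IsMaximal :=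
    (Ideal.map_eq_top_or_isMaximal_of_surjective π hπs (IsLocalRing.maximalIdeal.isMaximal R)).resolve_left
      hqprime.ne_top
  have hq : (m.map π).height = ringKrullDim (R ⧸ p.asIdeal) := by
    rw [IsLocalRing.eq_maximalIdeal hqmax]
    exact IsLocalRing.maximalIdeal_height_eq_ringKrullDim
  have hquot := ringKrullDim_stalk_quotient y p
  rw [hp] at hquot
  -- numerical bookkeeping
  obtain ⟨hdx, hx0⟩ := hδS x
  obtain ⟨hdy, hy0⟩ := hδS y
  rw [hx] at hdx
  rw [hy] at hdy
  have hdx' : p.asIdeal.height = (((-δS x).toNat : ℕ) : ℕ∞) := by exact_mod_cast hdx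
  have hdy' : m.height = (((-δS y).toNat : ℕ) : ℕ∞) := by exact_mod_cast hdy
  have hplt : p.asIdeal < m := by
    refine lt_of_le_of_ne hpm ?_
    intro h
    apply hne
    rw [← hp]
    have : p = IsLocalRing.closedPoint R := PrimeSpectrum.ext h
    rw [this, Scheme.fromSpecStalk_closedPoint]
  have hstrict : p.asIdeal.height < m.height := Ideal.height_strict_mono_of_isPrime hplt
  rw [hdx', hdy'] at hstrict
  have hs' : (-δS x).toNat < (-δS y).toNat := by exact_mod_cast hstrict
  refine ⟨by omega, ?_⟩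
  intro himm
  have h1 := krullDim_Icc_of_immediate x y hsp hne himm
  rw [h1] at hquot
  have hq1 : (m.map π).height = 1 := by
    have : (((m.map π).height : ℕ∞) : WithBot ℕ∞) = 1 := by rw [hq, hquot]
    exact_mod_cast this
  rw [hq1, hdx', hdy'] at hsum
  have : 1 + (-δS x).toNat = (-δS y).toNat := by exact_mod_cast hsum
  omega

/-- S17839. -/
theorem main {X S : Scheme.{u}} (f : X ⟶ S)
    [LocallyOfFiniteType f] [IsLocallyNoetherian S]
    (hreg : ∀ s : S, IsRegularLocalRing (S.presheaf.stalk s))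
    (huc : ∀ s : S, CAlg.IsUniversallyCatenary (S.presheaf.stalk s))
    (δS : S → ℤ)
    (hδS : ∀ s : S, ringKrullDim (S.presheaf.stalk s) = ((-δS s).toNat : WithBot ℕ∞) ∧ δS s ≤ 0)
    (δ : X → ℤ) (hδ : Cyc.DeltaCompat f δ δS) :
    Cyc.IsDimFun X δ :=
  Groth.Agent.S9684.result f δS ⟨inferInstance, huc, isDimFun_neg_stalkDim hreg huc δS hδS⟩ δ hδ

end Groth.Agent.Helper8.DimFunReg
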