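import Groth.Agent.Helper8.TritanCount

namespace Groth.Agent.Helper8.DisjLines

open MvPolynomial Groth.Agent.Helper8.LinSub Groth.Agent.Helper8.CubLines
  Groth.Agent.Helper8.CubSing Groth.Agent.Helper8.TritanCount

universe u

/-- in a three-dimensional space `H`, two distinct two-dimensional subspaces span `H`. -/
lemma sup_eq_of_ne {k : Type u} [Field k] {V : Type*} [AddCommGroup V] [Module k V]
    [FiniteDimensional k V]
    {L L' H : Submodule k V} (hL : Module.finrank k L = 2) (hL' : Module.finrank k L' = 2)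
    (hH : Module.finrank k H = 3) (hLH : L ≤ H) (hL'H : L' ≤ H) (hne : L' ≠ L) :
    L ⊔ L' = H := by
  have hlt : L < L ⊔ L' := by
    refine lt_of_le_of_ne le_sup_left ?_
    intro h
    have hle : L' ≤ L := by rw [h]; exact le_sup_right
    exact hne (Submodule.eq_of_le_of_finrank_eq hle (by rw [hL, hL']))
  apply Submodule.eq_of_le_of_finrank_eq (sup_le hLH hL'H)
  have h1 := Submodule.finrank_lt_finrank_of_lt hlt
  have h2 := Submodule.finrank_mono (sup_le hLH hL'H)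
  rw [hL] at h1
  rw [hH] at h2 ⊢
  omega

theorem main (k : Type u) [Field k] [IsAlgClosed k] [CharZero k]
    (f : MvPolynomial (Fin 4) k) (hf : f.IsHomogeneous 3) (hf0 : f ≠ 0)
    (hsm : ∀ v : Fin 4 → k, v ≠ 0 → MvPolynomial.eval v f = 0 →
      ∃ i : Fin 4, MvPolynomial.eval v (MvPolynomial.pderiv i f) ≠ 0)
    (hL : ∃ U : Submodule k (Fin 4 → k), (Module.finrank k ↥U = 2 ∧ ∀ u ∈ U, MvPolynomial.eval u f = 0)) :
    ∃ U₁ U₂ : Submodule k (Fin 4 → k), (Module.finrank k ↥U₁ = 2 ∧ ∀ u ∈ U₁, MvPolynomial.eval u f = 0) ∧ (Module.finrank k ↥U₂ = 2 ∧ ∀ u ∈ U₂, MvPolynomial.eval u f = 0) ∧ U₁ ⊓ U₂ = ⊥ := by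
  obtain ⟨L, hL2, hLS⟩ := hL
  have h5 := TritanCount.main k f hf hf0 hsm L hL2 hLS
  have h1 : 1 < {H : Submodule k (Fin 4 → k) | Module.finrank k ↥H = 3 ∧ L ≤ H ∧
      ∃ L' L'' : Submodule k (Fin 4 → k), Module.finrank k ↥L' = 2 ∧ Module.finrank k ↥L'' = 2 ∧
        L' ≠ L ∧ L'' ≠ L ∧ L' ≠ L'' ∧ L' ≤ H ∧ L'' ≤ H ∧
        (∀ u ∈ L', MvPolynomial.eval u f = 0) ∧ (∀ u ∈ L'', MvPolynomial.eval u f = 0)}.ncard := by
    rw [h5]; norm_num
  have hfin : {H : Submodule k (Fin 4 → k) | Module.finrank k ↥H = 3 ∧ L ≤ H ∧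
      ∃ L' L'' : Submodule k (Fin 4 → k), Module.finrank k ↥L' = 2 ∧ Module.finrank k ↥L'' = 2 ∧
        L' ≠ L ∧ L'' ≠ L ∧ L' ≠ L'' ∧ L' ≤ H ∧ L'' ≤ H ∧
        (∀ u ∈ L', MvPolynomial.eval u f = 0) ∧ (∀ u ∈ L'', MvPolynomial.eval u f = 0)}.Finite := by
    apply Set.finite_of_ncard_ne_zero
    rw [h5]; norm_num
  obtain ⟨H₁, H₂, hH₁, hH₂, hne⟩ := (Set.one_lt_ncard_iff hfin).mp h1
  obtain ⟨hH₁3, hLH₁, L₁, -, hL₁2, -, hL₁ne, -, -, hL₁H, -, hL₁S, -⟩ := hH₁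
  obtain ⟨hH₂3, hLH₂, L₂, -, hL₂2, -, hL₂ne, -, -, hL₂H, -, hL₂S, -⟩ := hH₂
  refine ⟨L₁, L₂, ⟨hL₁2, hL₁S⟩, ⟨hL₂2, hL₂S⟩, ?_⟩
  by_contra hinf
  obtain ⟨x, hxmem, hx0⟩ := Submodule.exists_mem_ne_zero_of_ne_bot hinf
  -- the two planes meet in `L`
  have hinfH : H₁ ⊓ H₂ = L := by
    symm
    apply Submodule.eq_of_le_of_finrank_eq (le_inf hLH₁ hLH₂)
    have hlt : H₁ < H₁ ⊔ H₂ := by
      refine lt_of_le_of_ne le_sup_left ?_
      intro h
      have hle : H₂ ≤ H₁ := by rw [h]; exact le_sup_right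
      exact hne (Submodule.eq_of_le_of_finrank_eq hle (by rw [hH₁3, hH₂3])).symm
    have h1 := Submodule.finrank_lt_finrank_of_lt hlt
    have h2 : Module.finrank k ↥(H₁ ⊔ H₂) ≤ 4 := by
      have := Submodule.finrank_le (H₁ ⊔ H₂)
      simpa using this
    have h3 := Submodule.finrank_sup_add_finrank_inf_eq H₁ H₂
    rw [hH₁3] at h1
    rw [hH₁3, hH₂3] at h3
    rw [hL2]
    omega
  have hxL : x ∈ L := by
    rw [← hinfH]
    exact ⟨hL₁H hxmem.1, hL₂H hxmem.2⟩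
  have hfx : eval x f = 0 := hLS x hxL
  -- the tangent plane at `x`
  have hLne : Lw f x ≠ 0 := by
    obtain ⟨i, hi⟩ := hsm x hx0 hfx
    intro h0
    apply hi
    have := LinearMap.congr_fun h0 (Pi.single i 1)
    simpa [Lw_apply, Pi.single_apply] using this
  have hT3 : Module.finrank k (LinearMap.ker (Lw f x)) = 3 := by
    have := Module.Dual.finrank_ker_add_one_of_ne_zero (f := Lw f x) hLne
    simp only [Module.finrank_fintype_fun_eq_card, Fintype.card_fin] at this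
    omega
  have hLT : L ≤ LinearMap.ker (Lw f x) := fun u hu =>
    Lw_eq_zero_of_line (⟨hxL, hL2, hLS⟩ : IsLine f x L) hu
  have hL₁T : L₁ ≤ LinearMap.ker (Lw f x) := fun u hu =>
    Lw_eq_zero_of_line (⟨hxmem.1, hL₁2, hL₁S⟩ : IsLine f x L₁) hu
  have hL₂T : L₂ ≤ LinearMap.ker (Lw f x) := fun u hu =>
    Lw_eq_zero_of_line (⟨hxmem.2, hL₂2, hL₂S⟩ : IsLine f x L₂) hu
  have e1 : H₁ = LinearMap.ker (Lw f x) := by
    rw [← sup_eq_of_ne hL2 hL₁2 hH₁3 hLH₁ hL₁H hL₁ne]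
    exact sup_eq_of_ne hL2 hL₁2 hT3 hLT hL₁T hL₁ne
  have e2 : H₂ = LinearMap.ker (Lw f x) := by
    rw [← sup_eq_of_ne hL2 hL₂2 hH₂3 hLH₂ hL₂H hL₂ne]
    exact sup_eq_of_ne hL2 hL₂2 hT3 hLT hL₂T hL₂ne
  exact hne (e1.trans e2.symm)

end Groth.Agent.Helper8.DisjLines
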