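import Groth.Prelude.Def_Disp2

universe u v
namespace Groth.Agent.Helper8.Disp1
open Dieu W4c1extbt610

variable {p : ℕ} [Fact p.Prime] {R : Type u} [CommRing R]
variable {P : Type v} [AddCommGroup P] [Module (WittVector p R) P]

theorem F_eq_p_smul_Vinv (D : Display3n p R P) (y : D.Q) :
    D.F (y : P) = (p : WittVector p R) • D.Vinv y := by
  have h := D.Vinv_verschiebung_smul 1 (y : P)
  rw [one_smul] at h
  rw [← h]
  have : (⟨WittVector.verschiebung (1 : WittVector p R) • (y : P),
      D.IV_smul_le (Submodule.smul_mem_smul (verschiebung_mem_IV p R 1) Submodule.mem_top)⟩ : D.Q)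
      = WittVector.verschiebung (1 : WittVector p R) • y := Subtype.ext rfl
  rw [this, LinearMap.map_smulₛₗ, WittVector.frobenius_verschiebung, one_mul]

theorem main (D : Display3n p R P)
    (Vs : P →ₗ[WittVector p R] BC (WittVector.frobenius : WittVector p R →+* WittVector p R) P)
    (hVs : IsVSharp D Vs) :
    (BC.lift (WittVector.frobenius : WittVector p R →+* WittVector p R) D.F).comp Vs
        = (p : WittVector p R) • LinearMap.id ∧
      Vs.comp (BC.lift (WittVector.frobenius : WittVector p R →+* WittVector p R) D.F)
        = (p : WittVector p R) • LinearMap.id := by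
  constructor
  · apply LinearMap.ext_on D.span_range_Vinv
    rintro _ ⟨y, rfl⟩
    have h := hVs.app_smul_Vinv 1 y
    rw [one_smul] at h
    rw [LinearMap.comp_apply, h, BC.lift_tmul, one_smul, F_eq_p_smul_Vinv]
    rfl
  · apply BC.ext
    intro x
    have h := hVs.app_smul_F 1 x
    rw [one_smul] at h
    rw [LinearMap.comp_apply, BC.lift_tmul, one_smul, h]
    rfl

end Groth.Agent.Helper8.Disp1
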