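import Groth.Agent.Helper8.BCLib

universe u v
open Dieu

namespace Groth.Agent.Helper8.DispPow
open Groth.Agent.Helper8.BCLib

variable {p : ℕ} [Fact p.Prime] {R : Type u} [CommRing R]
variable {P : Type v} [AddCommGroup P] [Module (WittVector p R) P]

/-- the Frobenius of the Witt ring -/
noncomputable abbrev frob (p : ℕ) [Fact p.Prime] (R : Type u) [CommRing R] : WittVector p R →+* WittVector p R :=
  WittVector.frobenius

local notation "σ" => frob p R

variable (Vs : P →ₗ[WittVector p R] BC (frob p R) P)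

lemma vSharpPow_succ_eq (n : ℕ) :
    vSharpPow Vs (n + 1) =
      (contC (σ ^ (n + 1)) σ (σ ^ (n + 1 + 1)) (comp_pow_eq_pow_succ σ (n + 1))
        (vSharpPow Vs n)).comp Vs := by
  ext x
  rw [vSharpPow_succ_apply, LinearMap.comp_apply, ← contC_eq]
  rfl

lemma pow_comp_pow (a b : ℕ) : (σ ^ (b + 1)).comp (σ ^ (a + 1)) = σ ^ (a + b + 1 + 1) := by
  change σ ^ (b + 1) * σ ^ (a + 1) = _
  rw [← pow_add]
  congr 1
  omega

theorem block (a : ℕ) : ∀ b : ℕ, vSharpPow Vs (a + b + 1) =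
    (contC (σ ^ (a + 1)) (σ ^ (b + 1)) (σ ^ (a + b + 1 + 1)) (pow_comp_pow a b)
      (vSharpPow Vs a)).comp (vSharpPow Vs b) := by
  intro b
  induction b with
  | zero =>
    change vSharpPow Vs (a + 1) = _
    rw [vSharpPow_succ_eq]
    change _ = (contC (σ ^ (a + 1)) (σ ^ (0 + 1)) (σ ^ (a + 1 + 1)) (pow_comp_pow a 0)
      (vSharpPow Vs a)).comp ((BC.castHom (pow_one σ).symm).comp Vs)
    rw [← LinearMap.comp_assoc]
    rw [contC_castHom (σ ^ (a + 1)) σ (σ ^ (0 + 1)) (σ ^ (a + 1 + 1)) (pow_one σ).symm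
      (comp_pow_eq_pow_succ σ (a + 1)) (pow_comp_pow a 0) (vSharpPow Vs a)]
  | succ b ih =>
    change vSharpPow Vs (a + b + 1 + 1) = _
    rw [vSharpPow_succ_eq, ih, vSharpPow_succ_eq Vs b, ← LinearMap.comp_assoc]
    congr 1
    exact contC_contC (σ ^ (a + 1)) (σ ^ (b + 1)) (σ ^ (a + b + 1 + 1)) (pow_comp_pow a b) σ
      (σ ^ (b + 1 + 1)) (σ ^ (a + b + 1 + 1 + 1)) (comp_pow_eq_pow_succ σ (a + b + 1 + 1))
      (comp_pow_eq_pow_succ σ (b + 1)) (pow_comp_pow a (b + 1)) (vSharpPow Vs a) (vSharpPow Vs b)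

end Groth.Agent.Helper8.DispPow
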