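import Groth.Agent.Helper8.BCExact
import Groth.Agent.Helper8.DispPow
import Mathlib.RingTheory.Nilpotent.Defs
import Mathlib.RingTheory.WittVector.Domain

set_option autoImplicit false

universe u v
open Dieu

namespace Groth.Agent.Helper8.DispBC
open Groth.Agent.Helper8.BCLib Groth.Agent.Helper8.BCExact Groth.Agent.Helper8.DispPow

variable {p : ℕ} [Fact p.Prime] {S R : Type u} [CommRing S] [CommRing R] (f : S →+* R)
variable {P : Type v} [AddCommGroup P] [Module (WittVector p S) P]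

/-- `W(f)` -/
noncomputable abbrev Wf (p : ℕ) [Fact p.Prime] {S R : Type u} [CommRing S] [CommRing R] (f : S →+* R) :
    WittVector p S →+* WittVector p R := WittVector.map f

theorem frob_comp_map : (frob p R).comp (Wf p f) = (Wf p f).comp (frob p S) := by
  ext1 x
  exact ((WittVector.frobenius_isPoly p).map f x).symm

theorem frob_pow_comp_map (n : ℕ) : ((frob p R) ^ n).comp (Wf p f) = (Wf p f).comp ((frob p S) ^ n) := by
  induction n with
  | zero => rfl
  | succ n ih =>
    rw [pow_succ, pow_succ]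
    change ((frob p R) ^ n).comp ((frob p R).comp (Wf p f)) = ((Wf p f).comp ((frob p S) ^ n)).comp (frob p S)
    rw [frob_comp_map, ← ih]
    rfl

theorem map_verschiebung (w : WittVector p S) :
    Wf p f (WittVector.verschiebung w) = WittVector.verschiebung (Wf p f w) :=
  (WittVector.verschiebung_isPoly (p := p)).map f w

variable (Vs : P →ₗ[WittVector p S] BC (frob p S) P)

/-- the candidate `V^#` of the base change. -/
noncomputable def VsR : BC (Wf p f) P →ₗ[WittVector p R] BC (frob p R) (BC (Wf p f) P) :=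
  BC.lift (Wf p f) ((jj (Wf p f) (frob p S) (frob p R) (frob_comp_map f)).comp Vs)

theorem VsR_tmul (u : WittVector p R) (x : P) :
    VsR f Vs (BC.tmul (Wf p f) u x) = u • jj (Wf p f) (frob p S) (frob p R) (frob_comp_map f) (Vs x) := by
  rw [VsR, BC.lift_tmul]
  rfl

theorem vSharpPow_VsR (n : ℕ) (x : P) :
    vSharpPow (VsR f Vs) n (BC.tmul (Wf p f) 1 x) =
      jj (Wf p f) ((frob p S) ^ (n + 1)) ((frob p R) ^ (n + 1)) (frob_pow_comp_map f (n + 1))
        (vSharpPow Vs n x) := by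
  induction n generalizing x with
  | zero =>
    rw [vSharpPow_zero_apply, vSharpPow_zero_apply, VsR_tmul, one_smul]
    exact (jj_castHom (Wf p f) (frob p S) ((frob p S) ^ (0 + 1)) (frob p R) ((frob p R) ^ (0 + 1))
      (frob_comp_map f) (frob_pow_comp_map f (0 + 1)) (pow_one _).symm (pow_one _).symm (Vs x)).symm
  | succ n ih =>
    rw [vSharpPow_succ_eq, vSharpPow_succ_eq, LinearMap.comp_apply, LinearMap.comp_apply, VsR_tmul,
      one_smul]
    exact jj_contC (Wf p f) ((frob p S) ^ (n + 1)) (frob p S) ((frob p S) ^ (n + 1 + 1))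
      (comp_pow_eq_pow_succ (frob p S) (n + 1)) ((frob p R) ^ (n + 1)) (frob p R)
      ((frob p R) ^ (n + 1 + 1)) (comp_pow_eq_pow_succ (frob p R) (n + 1))
      (frob_pow_comp_map f (n + 1)) (frob_comp_map f) (frob_pow_comp_map f (n + 1 + 1))
      (vSharpPow Vs n) (vSharpPow (VsR f Vs) n) ih (Vs x)

theorem map_mem_J (a : WittVector p S)
    (ha : a ∈ W4c1extbt610.IV p S ⊔ Ideal.span {(p : WittVector p S)}) :
    Wf p f a ∈ W4c1extbt610.IV p R ⊔ Ideal.span {(p : WittVector p R)} := by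
  have h := Ideal.mem_map_of_mem (Wf p f) ha
  refine (?_ : Ideal.map (Wf p f) _ ≤ _) h
  rw [Ideal.map_sup, W4c1extbt610.IV, Ideal.map_span, Ideal.map_span]
  refine sup_le_sup (Ideal.span_mono ?_) (Ideal.span_mono ?_)
  · rintro _ ⟨_, ⟨w, rfl⟩, rfl⟩
    exact ⟨Wf p f w, (map_verschiebung f w).symm⟩
  · rintro _ ⟨_, rfl, rfl⟩
    rw [Set.mem_singleton_iff, map_natCast]

theorem isVNilpotent_VsR (hnil : IsVNilpotent Vs) : IsVNilpotent (VsR f Vs) := by
  obtain ⟨n, hn⟩ := hnil
  refine ⟨n, fun z => ?_⟩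
  induction z using BC.induction_on (Wf p f) with
  | zero => rw [map_zero]; exact zero_mem _
  | tmul u x =>
    rw [BC.tmul_eq_smul_tmul_one, map_smul, vSharpPow_VsR]
    refine Submodule.smul_mem _ _ ?_
    exact jj_mem (Wf p f) _ _ _ _ _ (map_mem_J f) _ (hn x)
  | add z₁ z₂ h₁ h₂ => rw [map_add]; exact add_mem h₁ h₂


/-- generators of the kernel of `bcQuotMap`. -/
def genSet (Q : Submodule (WittVector p S) P) : Set (BC (Wf p f) P) :=
  {z | ∃ b : WittVector p R, ∃ q ∈ Q, z = BC.tmul (Wf p f) b q} ∪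
    {z | ∃ (u : WittVector p R) (x : P), z = BC.tmul (Wf p f) (WittVector.verschiebung u) x}

theorem constantCoeff_surjective :
    Function.Surjective (WittVector.constantCoeff : WittVector p R →+* R) := by
  intro r
  exact ⟨WittVector.mk p (fun n => if n = 0 then r else 0), by
    change (WittVector.mk p (fun n => if n = 0 then r else 0)).coeff 0 = r
    rw [WittVector.coeff_mk]; rfl⟩

theorem exists_verschiebung_of_constantCoeff (b : WittVector p R)
    (hb : (WittVector.constantCoeff : WittVector p R →+* R) b = 0) :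
    ∃ u, b = WittVector.verschiebung u := by
  refine ⟨b.shift 1, ?_⟩
  have h := WittVector.eq_iterate_verschiebung (x := b) (n := 1) (by
    intro i hi
    have : i = 0 := by omega
    subst this
    exact hb)
  rwa [Function.iterate_one] at h

theorem mem_span_genSet (Q : Submodule (WittVector p S) P) (z : BC (Wf p f) P)
    (hz : bcQuotMap f Q z = 0) : z ∈ Submodule.span (WittVector p R) (genSet f Q) := by
  rw [bcQuotMap, LinearMap.comp_apply] at hz
  have h1 := mem_span_of_push_eq_zero (Wf p f) (WittVector.constantCoeff : WittVector p R →+* R)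
    constantCoeff_surjective _ hz
  have h2 : ∀ z' ∈ Submodule.span (WittVector p R)
      {z : BC (Wf p f) (P ⧸ Q) | ∃ b : WittVector p R, ∃ x : P ⧸ Q,
        (WittVector.constantCoeff : WittVector p R →+* R) b = 0 ∧ z = BC.tmul (Wf p f) b x},
      ∃ y ∈ Submodule.span (WittVector p R) (genSet f Q), BC.map (Wf p f) Q.mkQ y = z' := by
    intro z' hz'
    refine Submodule.span_induction (p := fun z' _ => ∃ y ∈ Submodule.span (WittVector p R) (genSet f Q),
      BC.map (Wf p f) Q.mkQ y = z') ?_ ?_ ?_ ?_ hz'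
    · rintro _ ⟨b, m, hb, rfl⟩
      obtain ⟨x, rfl⟩ := Submodule.mkQ_surjective Q m
      obtain ⟨u, rfl⟩ := exists_verschiebung_of_constantCoeff b hb
      exact ⟨BC.tmul (Wf p f) (WittVector.verschiebung u) x,
        Submodule.subset_span (Or.inr ⟨u, x, rfl⟩), BC.map_tmul _ _ _ _⟩
    · exact ⟨0, zero_mem _, map_zero _⟩
    · rintro a b _ _ ⟨ya, hya, rfl⟩ ⟨yb, hyb, rfl⟩
      exact ⟨ya + yb, add_mem hya hyb, map_add _ _ _⟩
    · rintro c a _ ⟨ya, hya, rfl⟩
      exact ⟨c • ya, Submodule.smul_mem _ _ hya, map_smul _ _ _⟩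
  obtain ⟨y, hy, hyz⟩ := h2 _ h1
  have h3 : BC.map (Wf p f) Q.mkQ (z - y) = 0 := by rw [map_sub, hyz, sub_self]
  have h4 := mem_span_of_map_mkQ_eq_zero (Wf p f) Q (z - y) h3
  have h5 : z - y ∈ Submodule.span (WittVector p R) (genSet f Q) := by
    refine Submodule.span_mono ?_ h4
    exact Set.subset_union_left
  have := add_mem h5 hy
  rwa [sub_add_cancel] at this

variable {f Vs}

theorem VsR_F {D : W4c1extbt610.Display3n p S P}
    {DR : W4c1extbt610.Display3n p R (BC (Wf p f) P)} (hDR : IsDispBaseChange f D DR)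
    (hVs : IsVSharp D Vs) (z : BC (Wf p f) P) :
    VsR f Vs (DR.F z) = (p : WittVector p R) • BC.tmul (frob p R) 1 z := by
  induction z using BC.induction_on (Wf p f) with
  | zero => rw [map_zero, map_zero, BC.tmul_zero, smul_zero]
  | tmul u x =>
    rw [hDR.F_tmul, VsR_tmul]
    have h1 := hVs.app_smul_F 1 x
    rw [one_smul] at h1
    rw [h1, LinearMap.map_smulₛₗ, map_natCast, jj_tmul, map_one,
      BC.tmul_eq_smul_tmul_one (Wf p f) u x, ← BC.tmul_apply_eq (frob p R) u,
      BC.tmul_eq_smul_tmul_one (frob p R) (frob p R u), smul_comm]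
  | add z₁ z₂ h₁ h₂ => rw [map_add, map_add, h₁, h₂, BC.tmul_add, smul_add]

theorem tmul_mem_Q {D : W4c1extbt610.Display3n p S P}
    {DR : W4c1extbt610.Display3n p R (BC (Wf p f) P)} (hDR : IsDispBaseChange f D DR)
    (b : WittVector p R) (q : P) (hq : q ∈ D.Q) : BC.tmul (Wf p f) b q ∈ DR.Q := by
  rw [hDR.Q_eq, LinearMap.mem_ker, bcQuotMap_tmul, Submodule.mkQ_apply, (Submodule.Quotient.mk_eq_zero D.Q).mpr hq,
    BC.tmul_zero]

theorem verschiebung_tmul_mem_Q {D : W4c1extbt610.Display3n p S P}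
    {DR : W4c1extbt610.Display3n p R (BC (Wf p f) P)} (hDR : IsDispBaseChange f D DR)
    (u : WittVector p R) (x : P) : BC.tmul (Wf p f) (WittVector.verschiebung u) x ∈ DR.Q := by
  rw [hDR.Q_eq, LinearMap.mem_ker, bcQuotMap_tmul]
  have : (WittVector.constantCoeff : WittVector p R →+* R) (WittVector.verschiebung u) = 0 :=
    WittVector.verschiebung_coeff_zero u
  rw [this, BC.zero_tmul]

theorem VsR_Vinv {D : W4c1extbt610.Display3n p S P}
    {DR : W4c1extbt610.Display3n p R (BC (Wf p f) P)} (hDR : IsDispBaseChange f D DR)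
    (hVs : IsVSharp D Vs) (y : BC (Wf p f) P) (hy : y ∈ DR.Q) :
    VsR f Vs (DR.Vinv ⟨y, hy⟩) = BC.tmul (frob p R) 1 y := by
  have hy' : bcQuotMap f D.Q y = 0 := by
    rw [hDR.Q_eq] at hy
    exact hy
  have hspan := mem_span_genSet f D.Q y hy'
  have key : ∃ hy : y ∈ DR.Q, VsR f Vs (DR.Vinv ⟨y, hy⟩) = BC.tmul (frob p R) 1 y := by
    refine Submodule.span_induction (p := fun y _ => ∃ hy : y ∈ DR.Q,
      VsR f Vs (DR.Vinv ⟨y, hy⟩) = BC.tmul (frob p R) 1 y) ?_ ?_ ?_ ?_ hspan
    · rintro _ (⟨b, q, hq, rfl⟩ | ⟨u, x, rfl⟩)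
      · refine ⟨tmul_mem_Q hDR b q hq, ?_⟩
        rw [hDR.Vinv_tmul b ⟨q, hq⟩ (tmul_mem_Q hDR b q hq), VsR_tmul]
        have h1 := hVs.app_smul_Vinv 1 ⟨q, hq⟩
        rw [one_smul] at h1
        rw [h1, jj_tmul, map_one, BC.tmul_eq_smul_tmul_one (Wf p f) b q,
          ← BC.tmul_apply_eq (frob p R) b, BC.tmul_eq_smul_tmul_one (frob p R) (frob p R b)]
      · refine ⟨verschiebung_tmul_mem_Q hDR u x, ?_⟩
        rw [hDR.Vinv_verschiebung_tmul u x (verschiebung_tmul_mem_Q hDR u x), VsR_tmul]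
        have h1 := hVs.app_smul_F 1 x
        rw [one_smul] at h1
        rw [h1, LinearMap.map_smulₛₗ, map_natCast, jj_tmul, map_one,
          BC.tmul_eq_smul_tmul_one (Wf p f) (WittVector.verschiebung u) x,
          ← BC.tmul_apply_eq (frob p R) (WittVector.verschiebung u),
          BC.tmul_eq_smul_tmul_one (frob p R) (frob p R (WittVector.verschiebung u))]
        change _ = WittVector.frobenius (WittVector.verschiebung u) • _
        rw [WittVector.frobenius_verschiebung, mul_smul]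
    · refine ⟨zero_mem _, ?_⟩
      rw [show (⟨0, zero_mem _⟩ : DR.Q) = 0 from rfl, map_zero, map_zero, BC.tmul_zero]
    · rintro a b _ _ ⟨ha, ha'⟩ ⟨hb, hb'⟩
      refine ⟨add_mem ha hb, ?_⟩
      rw [show (⟨a + b, add_mem ha hb⟩ : DR.Q) = ⟨a, ha⟩ + ⟨b, hb⟩ from rfl, map_add, map_add, ha', hb',
        BC.tmul_add]
    · rintro c a _ ⟨ha, ha'⟩
      refine ⟨Submodule.smul_mem _ _ ha, ?_⟩
      rw [show (⟨c • a, Submodule.smul_mem _ _ ha⟩ : DR.Q) = c • ⟨a, ha⟩ from rfl,
        LinearMap.map_smulₛₗ, map_smul, ha', ← BC.tmul_apply_eq (frob p R) c,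
        BC.tmul_eq_smul_tmul_one (frob p R) (frob p R c)]
  obtain ⟨_, h⟩ := key
  exact h

theorem isVSharp_VsR {D : W4c1extbt610.Display3n p S P}
    {DR : W4c1extbt610.Display3n p R (BC (Wf p f) P)} (hDR : IsDispBaseChange f D DR)
    (hVs : IsVSharp D Vs) : IsVSharp DR (VsR f Vs) where
  app_smul_F w z := by
    rw [map_smul, VsR_F hDR hVs, BC.tmul_eq_smul_tmul_one (frob p R) w z, smul_comm]
  app_smul_Vinv w y := by
    rw [map_smul, VsR_Vinv hDR hVs y.1 y.2, BC.tmul_eq_smul_tmul_one (frob p R) w]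

theorem main (p : ℕ) [Fact p.Prime] (S R : Type u) [CommRing S] [CommRing R]
    (f : S →+* R)
    (P : Type v) [AddCommGroup P] [Module (WittVector p S) P] (D : W4c1extbt610.Display3n p S P)
    (hD : Dieu.IsDisplay D)
    (DR : W4c1extbt610.Display3n p R (Dieu.BC (WittVector.map f : WittVector p S →+* WittVector p R) P))
    (hDR : Dieu.IsDispBaseChange f D DR) :
    Dieu.IsDisplay DR := by
  obtain ⟨Vs, hVs, hnil⟩ := hD
  exact ⟨VsR f Vs, isVSharp_VsR hDR hVs, isVNilpotent_VsR f Vs hnil⟩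

end Groth.Agent.Helper8.DispBC
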