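import Groth.Prelude.Def_W4c1extbt610Disp
import Mathlib.RingTheory.WittVector.Identities
import Mathlib.RingTheory.FiniteType
import Mathlib.LinearAlgebra.Projection
import Mathlib.LinearAlgebra.Basis.Prod

universe u v w

namespace Groth.Agent.Helper8.DispBasis

variable {p : ℕ} [Fact p.Prime] {R : Type u} [CommRing R]
variable {P : Type v} [AddCommGroup P] [Module (WittVector p R) P]

lemma mem_IV_iff (a : WittVector p R) :
    a ∈ W4c1extbt610.IV p R ↔ ∃ w : WittVector p R, WittVector.verschiebung w = a := by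
  constructor
  · intro ha
    unfold W4c1extbt610.IV at ha
    refine Submodule.span_induction ?_ ?_ ?_ ?_ ha
    · rintro _ ⟨w, rfl⟩; exact ⟨w, rfl⟩
    · exact ⟨0, map_zero _⟩
    · rintro _ _ _ _ ⟨w₁, rfl⟩ ⟨w₂, rfl⟩; exact ⟨w₁ + w₂, map_add _ _ _⟩
    · rintro r _ _ ⟨w, rfl⟩
      refine ⟨w * WittVector.frobenius r, ?_⟩
      rw [WittVector.verschiebung_mul_frobenius, smul_eq_mul, mul_comm]
  · rintro ⟨w, rfl⟩
    exact W4c1extbt610.verschiebung_mem_IV p R w

variable (D : W4c1extbt610.Display3n p R P)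

/-- the submodule of `P` of elements of `Q` which `V⁻¹` maps into `S` -/
noncomputable def goodSub (S : Submodule (WittVector p R) P) : Submodule (WittVector p R) P :=
  Submodule.map D.Q.subtype (S.comap D.Vinv)

lemma mem_goodSub (S : Submodule (WittVector p R) P) (x : P) :
    x ∈ goodSub D S ↔ ∃ h : x ∈ D.Q, D.Vinv ⟨x, h⟩ ∈ S := by
  unfold goodSub
  rw [Submodule.mem_map]
  constructor
  · rintro ⟨q, hq, rfl⟩; exact ⟨q.2, hq⟩
  · rintro ⟨h, hx⟩; exact ⟨⟨x, h⟩, hx, rfl⟩

theorem main (p : ℕ) [Fact p.Prime] (R : Type u) [CommRing R]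
    (P : Type v) [AddCommGroup P] [Module (WittVector p R) P] (D : W4c1extbt610.Display3n p R P)
    (L T : Submodule (WittVector p R) P) (hLT : IsCompl L T)
    (hQ : D.Q = L ⊔ W4c1extbt610.IV p R • T) (hLQ : L ≤ D.Q)
    (ιL ιT : Type w) (bL : Module.Basis ιL (WittVector p R) L) (bT : Module.Basis ιT (WittVector p R) T) :
    LinearIndependent (WittVector p R)
        (Sum.elim (fun i : ιL => D.Vinv ⟨(bL i : P), hLQ (bL i).2⟩) (fun j : ιT => D.F (bT j : P))) ∧
      Submodule.span (WittVector p R)
        (Set.range (Sum.elim (fun i : ιL => D.Vinv ⟨(bL i : P), hLQ (bL i).2⟩) (fun j : ιT => D.F (bT j : P)))) = ⊤ := by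
  haveI := D.finite
  set v : ιL ⊕ ιT → P :=
    Sum.elim (fun i : ιL => D.Vinv ⟨(bL i : P), hLQ (bL i).2⟩) (fun j : ιT => D.F (bT j : P)) with hv
  set S := Submodule.span (WittVector p R) (Set.range v) with hS
  -- F t ∈ S for t ∈ T
  have hFT : T ≤ S.comap D.F := by
    have : T = Submodule.span (WittVector p R) (Set.range fun j => (bT j : P)) := by
      have := bT.span_eq
      have h2 := congrArg (Submodule.map T.subtype) this
      rw [Submodule.map_span, Submodule.map_top, Submodule.range_subtype, ← Set.range_comp] at h2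
      exact h2.symm
    rw [this, Submodule.span_le]
    rintro _ ⟨j, rfl⟩
    exact Submodule.subset_span ⟨Sum.inr j, rfl⟩
  have hspanL : L = Submodule.span (WittVector p R) (Set.range fun i => (bL i : P)) := by
    have := bL.span_eq
    have h2 := congrArg (Submodule.map L.subtype) this
    rw [Submodule.map_span, Submodule.map_top, Submodule.range_subtype, ← Set.range_comp] at h2
    exact h2.symm
  -- Q ≤ goodSub
  have hgood : D.Q ≤ goodSub D S := by
    rw [hQ, sup_le_iff]
    constructor
    · rw [hspanL, Submodule.span_le]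
      rintro _ ⟨i, rfl⟩
      rw [SetLike.mem_coe, mem_goodSub]
      exact ⟨hLQ (bL i).2, Submodule.subset_span ⟨Sum.inl i, rfl⟩⟩
    · rw [Submodule.smul_le]
      intro a ha t ht
      obtain ⟨w, rfl⟩ := (mem_IV_iff a).1 ha
      rw [mem_goodSub]
      refine ⟨D.IV_smul_le (Submodule.smul_mem_smul (W4c1extbt610.verschiebung_mem_IV p R w)
        Submodule.mem_top), ?_⟩
      rw [D.Vinv_verschiebung_smul]
      exact Submodule.smul_mem _ _ (hFT ht)
  have hspan : S = ⊤ := by
    rw [eq_top_iff, ← D.span_range_Vinv, Submodule.span_le]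
    rintro _ ⟨q, rfl⟩
    obtain ⟨h, hq⟩ := (mem_goodSub D S q.1).1 (hgood q.2)
    exact hq
  refine ⟨?_, hspan⟩
  -- linear independence via surjective endomorphism
  let b : Module.Basis (ιL ⊕ ιT) (WittVector p R) P :=
    (bL.prod bT).map (Submodule.prodEquivOfIsCompl L T hLT)
  let φ : P →ₗ[WittVector p R] P := b.constr (WittVector p R) v
  have hφ : Function.Surjective φ := by
    rw [← LinearMap.range_eq_top, eq_top_iff, ← hspan, hS, Submodule.span_le]
    rintro _ ⟨x, rfl⟩
    exact ⟨b x, b.constr_basis _ _ _⟩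
  have hinj := OrzechProperty.injective_of_surjective_endomorphism φ hφ
  have : v = φ ∘ b := by
    funext x
    exact (b.constr_basis _ _ _).symm
  rw [this]
  exact b.linearIndependent.map' φ (LinearMap.ker_eq_bot.2 hinj)

end Groth.Agent.Helper8.DispBasis
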