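import Groth.Agent.Helper8.IdealSemi
import Groth.Agent.Helper8.DispBC
import Groth.Agent.Helper8.DispBasis
import Mathlib.Algebra.Module.Projective
import Mathlib.LinearAlgebra.Projection

set_option autoImplicit false

universe u v
open Dieu

namespace Groth.Agent.Helper8.DispBCEx
open Groth.Agent.Helper8.BCLib Groth.Agent.Helper8.BCExact Groth.Agent.Helper8.DispPow
open Groth.Agent.Helper8.DispBC Groth.Agent.Helper8.DispBasis Groth.Agent.Helper8.IdealSemi

section Vinv

variable {p : ℕ} [Fact p.Prime] {R : Type u} [CommRing R]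

theorem exists_of_mem_IV (a : W4c1extbt610.IV p R) : ∃ w : WittVector p R, WittVector.verschiebung w = a :=
  (mem_IV_iff a.1).1 a.2

/-- the inverse of the Verschiebung on `I_R`. -/
noncomputable def vinvFun (a : W4c1extbt610.IV p R) : WittVector p R := (exists_of_mem_IV a).choose

theorem verschiebung_vinvFun (a : W4c1extbt610.IV p R) : WittVector.verschiebung (vinvFun a) = a :=
  (exists_of_mem_IV a).choose_spec

theorem vinvFun_eq (a : W4c1extbt610.IV p R) (w : WittVector p R) (h : WittVector.verschiebung w = a) :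
    vinvFun a = w := by
  apply WittVector.verschiebung_injective p R
  rw [verschiebung_vinvFun, h]

/-- `V⁻¹ : I_R → W(R)` as a Frobenius-semilinear map. -/
noncomputable def vinv : W4c1extbt610.IV p R →ₛₗ[frob p R] WittVector p R where
  toFun := vinvFun
  map_add' a b := by
    apply vinvFun_eq
    rw [map_add, verschiebung_vinvFun, verschiebung_vinvFun]; rfl
  map_smul' r a := by
    apply vinvFun_eq
    rw [smul_eq_mul, mul_comm, WittVector.verschiebung_mul_frobenius, verschiebung_vinvFun, mul_comm]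
    rfl

theorem vinv_verschiebung (w : WittVector p R) :
    vinv ⟨WittVector.verschiebung w, W4c1extbt610.verschiebung_mem_IV p R w⟩ = w :=
  vinvFun_eq _ _ rfl

end Vinv


section Generic

variable {A B : Type u} [CommRing A] [CommRing B] (g : A →+* B)
variable {P : Type v} [AddCommGroup P] [Module A P]

/-- semilinear lift: `b ⊗ x ↦ κ b • φ x`. -/
noncomputable def liftS {N : Type*} [AddCommGroup N] [Module B N] (κ : B →+* B)
    (φ : P →ₛₗ[κ.comp g] N) : BC g P →ₛₗ[κ] N :=
  (BC.lift (κ.comp g) φ).comp (BC.push g κ)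

theorem liftS_tmul {N : Type*} [AddCommGroup N] [Module B N] (κ : B →+* B)
    (φ : P →ₛₗ[κ.comp g] N) (b : B) (x : P) : liftS g κ φ (BC.tmul g b x) = κ b • φ x := by
  rw [liftS, LinearMap.comp_apply, BC.push_tmul, BC.lift_tmul]

theorem map_comp_apply {P' P'' : Type v} [AddCommGroup P'] [Module A P'] [AddCommGroup P''] [Module A P'']
    (ψ : P →ₗ[A] P') (ψ' : P' →ₗ[A] P'') (z : BC g P) :
    BC.map g ψ' (BC.map g ψ z) = BC.map g (ψ'.comp ψ) z := by
  induction z using BC.induction_on g with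
  | zero => rw [map_zero, map_zero, map_zero]
  | tmul b x => rw [BC.map_tmul, BC.map_tmul, BC.map_tmul, LinearMap.comp_apply]
  | add z₁ z₂ h₁ h₂ => rw [map_add, map_add, map_add, h₁, h₂]

theorem map_id_apply (z : BC g P) : BC.map g (LinearMap.id : P →ₗ[A] P) z = z := by
  induction z using BC.induction_on g with
  | zero => rw [map_zero]
  | tmul b x => rw [BC.map_tmul, LinearMap.id_apply]
  | add z₁ z₂ h₁ h₂ => rw [map_add, h₁, h₂]

theorem map_add_apply {P' : Type v} [AddCommGroup P'] [Module A P'] (ψ ψ' : P →ₗ[A] P') (z : BC g P) :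
    BC.map g (ψ + ψ') z = BC.map g ψ z + BC.map g ψ' z := by
  induction z using BC.induction_on g with
  | zero => rw [map_zero, map_zero, map_zero, add_zero]
  | tmul b x => rw [BC.map_tmul, BC.map_tmul, BC.map_tmul, LinearMap.add_apply, BC.tmul_add]
  | add z₁ z₂ h₁ h₂ => rw [map_add, map_add, map_add, h₁, h₂]; abel

theorem map_zero_apply {P' : Type v} [AddCommGroup P'] [Module A P'] (z : BC g P) :
    BC.map g (0 : P →ₗ[A] P') z = 0 := by
  induction z using BC.induction_on g with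
  | zero => rw [map_zero]
  | tmul b x => rw [BC.map_tmul, LinearMap.zero_apply, BC.tmul_zero]
  | add z₁ z₂ h₁ h₂ => rw [map_add, h₁, h₂, add_zero]

theorem tmul_smul (b : B) (a : A) (x : P) : BC.tmul g b (a • x) = (b * g a) • BC.tmul g 1 x := by
  rw [← BC.tmul_mul_apply, BC.tmul_eq_smul_tmul_one]

theorem finite_projective [Module.Finite A P] [Module.Projective A P] :
    Module.Finite B (BC g P) ∧ Module.Projective B (BC g P) := by
  obtain ⟨n, f, g', -, -, hfg⟩ := Module.Finite.exists_comp_eq_id_of_projective A P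
  let ψ : P →ₛₗ[g] (Fin n → B) :=
    { toFun := fun x i => g (g' x i)
      map_add' := fun x y => by ext i; simp
      map_smul' := fun a x => by ext i; simp }
  let gB : BC g P →ₗ[B] (Fin n → B) := BC.lift g ψ
  let fB : (Fin n → B) →ₗ[B] BC g P :=
    (Pi.basisFun B (Fin n)).constr B (fun i => BC.tmul g 1 (f (fun j => if i = j then 1 else 0)))
  have hcomp : fB.comp gB = LinearMap.id := by
    apply BC.ext
    intro x
    rw [LinearMap.comp_apply, LinearMap.id_apply]
    change fB (BC.lift g ψ (BC.tmul g 1 x)) = _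
    rw [BC.lift_tmul, one_smul]
    change (Pi.basisFun B (Fin n)).constr B
      (fun i => BC.tmul g 1 (f (fun j => if i = j then 1 else 0))) (ψ x) = _
    rw [Module.Basis.constr_apply_fintype]
    simp only [Pi.basisFun_equivFun, LinearEquiv.refl_apply]
    have hx : x = ∑ i, (g' x i) • f (fun j => if i = j then 1 else 0) := by
      conv_lhs => rw [← LinearMap.id_apply (R := A) x, ← hfg, LinearMap.comp_apply]
      exact LinearMap.pi_apply_eq_sum_univ f (g' x)
    conv_rhs => rw [hx]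
    rw [← BC.ι_apply, map_sum]
    refine Finset.sum_congr rfl fun i _ => ?_
    rw [LinearMap.map_smulₛₗ, BC.ι_apply]
    rfl
  refine ⟨?_, Module.Projective.of_split gB fB hcomp⟩
  refine Module.Finite.of_surjective fB ?_
  intro z
  exact ⟨gB z, LinearMap.congr_fun hcomp z⟩

end Generic


section Construct

variable {p : ℕ} [Fact p.Prime] {S R : Type u} [CommRing S] [CommRing R] (f : S →+* R)
variable {P : Type v} [AddCommGroup P] [Module (WittVector p S) P]

/-- `x ↦ 1 ⊗ G x` as a `(σ_R ∘ W(f))`-semilinear map. -/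
noncomputable def phi (G : P →ₛₗ[frob p S] P) :
    P →ₛₗ[(frob p R).comp (Wf p f)] BC (Wf p f) P where
  toFun x := BC.tmul (Wf p f) 1 (G x)
  map_add' x y := by rw [map_add, BC.tmul_add]
  map_smul' a x := by
    rw [LinearMap.map_smulₛₗ, tmul_smul, one_mul, frob_comp_map]
    rfl

/-- the `σ_R`-semilinear extension `b ⊗ x ↦ σ b ⊗ G x`. -/
noncomputable def ext (G : P →ₛₗ[frob p S] P) : BC (Wf p f) P →ₛₗ[frob p R] BC (Wf p f) P :=
  liftS (Wf p f) (frob p R) (phi f G)

theorem ext_tmul (G : P →ₛₗ[frob p S] P) (b : WittVector p R) (x : P) :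
    ext f G (BC.tmul (Wf p f) b x) = BC.tmul (Wf p f) (frob p R b) (G x) := by
  rw [ext, liftS_tmul]
  change frob p R b • BC.tmul (Wf p f) 1 (G x) = _
  rw [BC.smul_tmul, mul_one]

variable (D : W4c1extbt610.Display3n p S P)
variable (L T : Submodule (WittVector p S) P) (hLT : IsCompl L T)

/-- projection onto `L`. -/
noncomputable abbrev pL : P →ₗ[WittVector p S] P := L.projection T hLT
/-- projection onto `T`. -/
noncomputable abbrev pT : P →ₗ[WittVector p S] P := T.projection L hLT.symm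

variable {D L T}

theorem F_eq (q : D.Q) : D.F q = (p : WittVector p S) • D.Vinv q := by
  have h := D.Vinv_verschiebung_smul 1 q
  rw [one_smul] at h
  rw [← h]
  have : (⟨WittVector.verschiebung (1 : WittVector p S) • (q : P),
      D.IV_smul_le (Submodule.smul_mem_smul (W4c1extbt610.verschiebung_mem_IV p S 1) Submodule.mem_top)⟩ : D.Q)
      = WittVector.verschiebung (1 : WittVector p S) • q := rfl
  rw [this, LinearMap.map_smulₛₗ, WittVector.frobenius_verschiebung, one_mul]

section WithQ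
variable (hQ : D.Q = L ⊔ W4c1extbt610.IV p S • T)
include hQ

theorem L_le_Q : L ≤ D.Q := hQ ▸ le_sup_left
theorem IVT_le_Q : W4c1extbt610.IV p S • T ≤ D.Q := hQ ▸ le_sup_right

theorem pL_mem_Q (x : P) : pL L T hLT x ∈ D.Q :=
  L_le_Q hQ (Submodule.projection_apply_mem hLT x)

theorem pT_mem_IVT (q : P) (hq : q ∈ D.Q) : pT L T hLT q ∈ W4c1extbt610.IV p S • T := by
  rw [hQ] at hq
  obtain ⟨l, hl, z, hz, rfl⟩ := Submodule.mem_sup.mp hq
  have hzT : z ∈ T := Submodule.smul_le_right hz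
  rw [map_add, Submodule.projection_apply_of_mem_right hLT.symm hl,
    Submodule.projection_apply_of_mem_left hLT.symm hzT, zero_add]
  exact hz

theorem pT_mem_Q (q : P) (hq : q ∈ D.Q) : pT L T hLT q ∈ D.Q :=
  IVT_le_Q hQ (pT_mem_IVT hLT hQ q hq)

/-- `pL` as a map into `Q`. -/
noncomputable def pLQ : P →ₗ[WittVector p S] D.Q :=
  LinearMap.codRestrict D.Q (pL L T hLT) (pL_mem_Q hLT hQ)

/-- `b ⊗ x ↦ σ b ⊗ V⁻¹(pL x)`. -/
noncomputable def VL : BC (Wf p f) P →ₛₗ[frob p R] BC (Wf p f) P :=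
  ext f (D.Vinv.comp (pLQ hLT hQ))

theorem VL_tmul (b : WittVector p R) (x : P) :
    VL f hLT hQ (BC.tmul (Wf p f) b x) =
      BC.tmul (Wf p f) (frob p R b) (D.Vinv ⟨pL L T hLT x, pL_mem_Q hLT hQ x⟩) := by
  rw [VL, ext_tmul]
  rfl

end WithQ

end Construct


section Construct2

variable {p : ℕ} [Fact p.Prime] {S R : Type u} [CommRing S] [CommRing R] (f : S →+* R)
variable {P : Type v} [AddCommGroup P] [Module (WittVector p S) P]
variable (D : W4c1extbt610.Display3n p S P)

/-- `Q_R`. -/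
noncomputable abbrev QR : Submodule (WittVector p R) (BC (Wf p f) P) :=
  LinearMap.ker (bcQuotMap f D.Q)

theorem tmul_mem_QR (b : WittVector p R) (q : P) (hq : q ∈ D.Q) : BC.tmul (Wf p f) b q ∈ QR f D := by
  rw [LinearMap.mem_ker, bcQuotMap_tmul, Submodule.mkQ_apply, (Submodule.Quotient.mk_eq_zero D.Q).mpr hq,
    BC.tmul_zero]

theorem vtmul_mem_QR (u : WittVector p R) (x : P) :
    BC.tmul (Wf p f) (WittVector.verschiebung u) x ∈ QR f D := by
  rw [LinearMap.mem_ker, bcQuotMap_tmul]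
  have : (WittVector.constantCoeff : WittVector p R →+* R) (WittVector.verschiebung u) = 0 :=
    WittVector.verschiebung_coeff_zero u
  rw [this, BC.zero_tmul]

theorem IV_smul_le_QR :
    W4c1extbt610.IV p R • (⊤ : Submodule (WittVector p R) (BC (Wf p f) P)) ≤ QR f D := by
  rw [Submodule.smul_le]
  intro a ha z _
  obtain ⟨c, rfl⟩ := (mem_IV_iff a).1 ha
  rw [LinearMap.mem_ker, LinearMap.map_smulₛₗ]
  have : (WittVector.constantCoeff : WittVector p R →+* R) (WittVector.verschiebung c) = 0 :=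
    WittVector.verschiebung_coeff_zero c
  rw [this, zero_smul]

theorem mul_verschiebung (b w : WittVector p R) :
    b * WittVector.verschiebung w = WittVector.verschiebung (w * frob p R b) := by
  rw [WittVector.verschiebung_mul_frobenius, mul_comm]

/-- span of the `1 ⊗ n`, `n ∈ N`. -/
noncomputable def spanOne (N : Submodule (WittVector p S) P) : Submodule (WittVector p R) (BC (Wf p f) P) :=
  Submodule.span (WittVector p R) ((fun n => BC.tmul (Wf p f) 1 n) '' (N : Set P))

theorem tmul_mem_IV_smul_spanOne (N : Submodule (WittVector p S) P) (z : P)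
    (hz : z ∈ W4c1extbt610.IV p S • N) (b : WittVector p R) :
    BC.tmul (Wf p f) b z ∈ W4c1extbt610.IV p R • spanOne f N := by
  refine Submodule.smul_induction_on hz ?_ ?_
  · intro a ha n hn
    obtain ⟨c, rfl⟩ := (mem_IV_iff a).1 ha
    rw [tmul_smul, map_verschiebung, mul_verschiebung]
    exact Submodule.smul_mem_smul (W4c1extbt610.verschiebung_mem_IV p R _)
      (Submodule.subset_span ⟨n, hn, rfl⟩)
  · intro x y hx hy
    rw [BC.tmul_add]; exact add_mem hx hy

variable {D}
variable {L T : Submodule (WittVector p S) P} (hLT : IsCompl L T)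
theorem mapPL_add_mapPT (z : BC (Wf p f) P) :
    BC.map (Wf p f) (pL L T hLT) z + BC.map (Wf p f) (pT L T hLT) z = z := by
  rw [← map_add_apply, Submodule.projection_add_projection_eq_id, map_id_apply]

variable (hQ : D.Q = L ⊔ W4c1extbt610.IV p S • T)
include hQ

theorem mapPT_mem (y : BC (Wf p f) P) (hy : y ∈ QR f D) :
    BC.map (Wf p f) (pT L T hLT) y ∈
      W4c1extbt610.IV p R • (⊤ : Submodule (WittVector p R) (BC (Wf p f) P)) := by
  have hspan := mem_span_genSet f D.Q y hy
  refine Submodule.span_induction (p := fun y _ => BC.map (Wf p f) (pT L T hLT) y ∈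
      W4c1extbt610.IV p R • (⊤ : Submodule (WittVector p R) (BC (Wf p f) P))) ?_ ?_ ?_ ?_ hspan
  · rintro _ (⟨b, q, hq, rfl⟩ | ⟨u, x, rfl⟩)
    · rw [BC.map_tmul]
      exact Submodule.smul_mono le_rfl le_top
        (tmul_mem_IV_smul_spanOne f T _ (pT_mem_IVT hLT hQ q hq) b)
    · rw [BC.map_tmul, BC.tmul_eq_smul_tmul_one]
      exact Submodule.smul_mem_smul (W4c1extbt610.verschiebung_mem_IV p R u) Submodule.mem_top
  · rw [map_zero]; exact zero_mem _
  · intro a b _ _ ha hb; rw [map_add]; exact add_mem ha hb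
  · intro c a _ ha; rw [map_smul]; exact Submodule.smul_mem _ _ ha

/-- `PiT` restricted to `Q_R`, landing in `I_R • P_R`. -/
noncomputable def PiTQ : QR f D →ₗ[WittVector p R]
    ↥(W4c1extbt610.IV p R • (⊤ : Submodule (WittVector p R) (BC (Wf p f) P))) :=
  LinearMap.codRestrict _ ((BC.map (Wf p f) (pT L T hLT)).comp (QR f D).subtype)
    (fun y => mapPT_mem f hLT hQ y.1 y.2)

variable [Module.Flat (WittVector p R) (BC (Wf p f) P)]

/-- the operator `V_R⁻¹`. -/
noncomputable def VinvR : QR f D →ₛₗ[frob p R] BC (Wf p f) P :=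
  (VL f hLT hQ).comp (QR f D).subtype +
    (VI (frob p R) (W4c1extbt610.IV p R) vinv (ext f D.F)).comp (PiTQ f hLT hQ)

theorem VinvR_apply (y : BC (Wf p f) P) (hy : y ∈ QR f D) :
    VinvR f hLT hQ ⟨y, hy⟩ = VL f hLT hQ y +
      VI (frob p R) (W4c1extbt610.IV p R) vinv (ext f D.F)
        ⟨BC.map (Wf p f) (pT L T hLT) y, mapPT_mem f hLT hQ y hy⟩ := rfl

theorem ext_F_mapPL (z : BC (Wf p f) P) :
    ext f D.F (BC.map (Wf p f) (pL L T hLT) z) = (p : WittVector p R) • VL f hLT hQ z := by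
  induction z using BC.induction_on (Wf p f) with
  | zero => rw [map_zero, map_zero, map_zero, smul_zero]
  | tmul b x =>
    rw [BC.map_tmul, ext_tmul, VL_tmul, BC.smul_tmul]
    have h := F_eq (D := D) ⟨pL L T hLT x, pL_mem_Q hLT hQ x⟩
    change D.F (pL L T hLT x) = _ at h
    rw [h, ← BC.tmul_mul_apply, map_natCast, mul_comm]
  | add z₁ z₂ h₁ h₂ => rw [map_add, map_add, map_add, h₁, h₂, smul_add]

theorem VinvR_verschiebung_smul (w : WittVector p R) (z : BC (Wf p f) P)
    (h : WittVector.verschiebung w • z ∈ QR f D) :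
    VinvR f hLT hQ ⟨WittVector.verschiebung w • z, h⟩ = w • ext f D.F z := by
  rw [VinvR_apply]
  have e : (⟨BC.map (Wf p f) (pT L T hLT) (WittVector.verschiebung w • z), mapPT_mem f hLT hQ _ h⟩ :
      ↥(W4c1extbt610.IV p R • (⊤ : Submodule (WittVector p R) (BC (Wf p f) P)))) =
      ⟨WittVector.verschiebung w • BC.map (Wf p f) (pT L T hLT) z,
        Submodule.smul_mem_smul (W4c1extbt610.verschiebung_mem_IV p R w) Submodule.mem_top⟩ :=
    Subtype.ext (map_smul _ _ _)
  rw [e, VI_smul (frob p R) (W4c1extbt610.IV p R) vinv (ext f D.F) (WittVector.verschiebung w)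
    (W4c1extbt610.verschiebung_mem_IV p R w), vinv_verschiebung, LinearMap.map_smulₛₗ]
  change WittVector.frobenius (WittVector.verschiebung w) • _ + _ = _
  rw [WittVector.frobenius_verschiebung, mul_smul, ← ext_F_mapPL f hLT hQ, ← smul_add, ← map_add,
    mapPL_add_mapPT]

end Construct2


section Construct3

variable {p : ℕ} [Fact p.Prime] {S R : Type u} [CommRing S] [CommRing R] (f : S →+* R)
variable {P : Type v} [AddCommGroup P] [Module (WittVector p S) P]
variable {D : W4c1extbt610.Display3n p S P}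
variable {L T : Submodule (WittVector p S) P} (hLT : IsCompl L T)

theorem tmul_mem_IV_smul_top (z : P)
    (hz : z ∈ W4c1extbt610.IV p S • (⊤ : Submodule (WittVector p S) P)) (b : WittVector p R) :
    BC.tmul (Wf p f) b z ∈ W4c1extbt610.IV p R • (⊤ : Submodule (WittVector p R) (BC (Wf p f) P)) :=
  Submodule.smul_mono le_rfl le_top (tmul_mem_IV_smul_spanOne f ⊤ z hz b)

theorem VI_tmul [Module.Flat (WittVector p R) (BC (Wf p f) P)] (z : P)
    (hz : z ∈ W4c1extbt610.IV p S • (⊤ : Submodule (WittVector p S) P)) (b : WittVector p R)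
    (h : BC.tmul (Wf p f) b z ∈ W4c1extbt610.IV p R • (⊤ : Submodule (WittVector p R) (BC (Wf p f) P))) :
    VI (frob p R) (W4c1extbt610.IV p R) vinv (ext f D.F) ⟨BC.tmul (Wf p f) b z, h⟩ =
      BC.tmul (Wf p f) (frob p R b) (D.Vinv ⟨z, D.IV_smul_le hz⟩) := by
  revert b
  refine Submodule.smul_induction_on' (p := fun z hz => ∀ (b : WittVector p R)
    (h : BC.tmul (Wf p f) b z ∈ W4c1extbt610.IV p R • (⊤ : Submodule (WittVector p R) (BC (Wf p f) P))),
    VI (frob p R) (W4c1extbt610.IV p R) vinv (ext f D.F) ⟨BC.tmul (Wf p f) b z, h⟩ =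
      BC.tmul (Wf p f) (frob p R b) (D.Vinv ⟨z, D.IV_smul_le hz⟩)) hz ?_ ?_
  · intro a ha n _ b h
    obtain ⟨c, rfl⟩ := (mem_IV_iff a).1 ha
    have e : (⟨BC.tmul (Wf p f) b (WittVector.verschiebung c • n), h⟩ :
        ↥(W4c1extbt610.IV p R • (⊤ : Submodule (WittVector p R) (BC (Wf p f) P)))) =
        ⟨WittVector.verschiebung (Wf p f c * frob p R b) • BC.tmul (Wf p f) 1 n,
          Submodule.smul_mem_smul (W4c1extbt610.verschiebung_mem_IV p R _) Submodule.mem_top⟩ := by
      apply Subtype.ext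
      change BC.tmul (Wf p f) b (WittVector.verschiebung c • n) = _
      rw [tmul_smul, map_verschiebung, mul_verschiebung]
    rw [e, VI_smul (frob p R) (W4c1extbt610.IV p R) vinv (ext f D.F) _
      (W4c1extbt610.verschiebung_mem_IV p R _), vinv_verschiebung, ext_tmul, map_one,
      D.Vinv_verschiebung_smul c n, tmul_smul, mul_comm]
  · intro x hx y hy ihx ihy b h
    have hx' := tmul_mem_IV_smul_top f x hx b
    have hy' := tmul_mem_IV_smul_top f y hy b
    have e : (⟨BC.tmul (Wf p f) b (x + y), h⟩ :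
        ↥(W4c1extbt610.IV p R • (⊤ : Submodule (WittVector p R) (BC (Wf p f) P)))) =
        ⟨BC.tmul (Wf p f) b x, hx'⟩ + ⟨BC.tmul (Wf p f) b y, hy'⟩ :=
      Subtype.ext (BC.tmul_add _ _ _ _)
    have e2 : (⟨x + y, D.IV_smul_le (add_mem hx hy)⟩ : D.Q) =
        ⟨x, D.IV_smul_le hx⟩ + ⟨y, D.IV_smul_le hy⟩ := rfl
    rw [e, map_add, ihx b hx', ihy b hy', e2, map_add, BC.tmul_add]

variable (hQ : D.Q = L ⊔ W4c1extbt610.IV p S • T)
include hQ

theorem VinvR_tmul [Module.Flat (WittVector p R) (BC (Wf p f) P)] (b : WittVector p R) (q : P)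
    (hq : q ∈ D.Q) (h : BC.tmul (Wf p f) b q ∈ QR f D) :
    VinvR f hLT hQ ⟨BC.tmul (Wf p f) b q, h⟩ = BC.tmul (Wf p f) (frob p R b) (D.Vinv ⟨q, hq⟩) := by
  rw [VinvR_apply, VL_tmul]
  have hz : pT L T hLT q ∈ W4c1extbt610.IV p S • (⊤ : Submodule (WittVector p S) P) :=
    Submodule.smul_mono le_rfl le_top (pT_mem_IVT hLT hQ q hq)
  have e : (⟨BC.map (Wf p f) (pT L T hLT) (BC.tmul (Wf p f) b q), mapPT_mem f hLT hQ _ h⟩ :
      ↥(W4c1extbt610.IV p R • (⊤ : Submodule (WittVector p R) (BC (Wf p f) P)))) =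
      ⟨BC.tmul (Wf p f) b (pT L T hLT q), tmul_mem_IV_smul_top f _ hz b⟩ :=
    Subtype.ext (BC.map_tmul _ _ _ _)
  rw [e, VI_tmul f _ hz b, ← BC.tmul_add, ← map_add]
  congr 2
  apply Subtype.ext
  exact Submodule.projection_add_projection_eq_self hLT q

theorem VinvR_vtmul [Module.Flat (WittVector p R) (BC (Wf p f) P)] (u : WittVector p R) (x : P)
    (h : BC.tmul (Wf p f) (WittVector.verschiebung u) x ∈ QR f D) :
    VinvR f hLT hQ ⟨BC.tmul (Wf p f) (WittVector.verschiebung u) x, h⟩ = BC.tmul (Wf p f) u (D.F x) := by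
  have h' : WittVector.verschiebung u • BC.tmul (Wf p f) 1 x ∈ QR f D := by
    rw [← BC.tmul_eq_smul_tmul_one]; exact h
  have e : (⟨BC.tmul (Wf p f) (WittVector.verschiebung u) x, h⟩ : QR f D) =
      ⟨WittVector.verschiebung u • BC.tmul (Wf p f) 1 x, h'⟩ :=
    Subtype.ext (BC.tmul_eq_smul_tmul_one _ _ _)
  rw [e, VinvR_verschiebung_smul, ext_tmul, map_one, ← BC.tmul_eq_smul_tmul_one]

end Construct3


section Assemble

variable {p : ℕ} [Fact p.Prime] {S R : Type u} [CommRing S] [CommRing R] (f : S →+* R)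
variable {P : Type v} [AddCommGroup P] [Module (WittVector p S) P]
variable {D : W4c1extbt610.Display3n p S P}
variable {L T : Submodule (WittVector p S) P} (hLT : IsCompl L T)

/-- `L_R`. -/
noncomputable abbrev LR : Submodule (WittVector p R) (BC (Wf p f) P) :=
  LinearMap.range (BC.map (Wf p f) (pL L T hLT))
/-- `T_R`. -/
noncomputable abbrev TR : Submodule (WittVector p R) (BC (Wf p f) P) :=
  LinearMap.range (BC.map (Wf p f) (pT L T hLT))

theorem pL_comp_pT : (pL L T hLT).comp (pT L T hLT) = 0 := by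
  ext x
  rw [LinearMap.comp_apply, LinearMap.zero_apply]
  exact Submodule.projection_apply_of_mem_right hLT (Submodule.projection_apply_mem hLT.symm x)

theorem pL_comp_pL : (pL L T hLT).comp (pL L T hLT) = pL L T hLT := by
  ext x
  rw [LinearMap.comp_apply]
  exact Submodule.projection_apply_of_mem_left hLT (Submodule.projection_apply_mem hLT x)

theorem isCompl_LR_TR : IsCompl (LR f hLT) (TR f hLT) := by
  constructor
  · rw [Submodule.disjoint_def]
    rintro z ⟨a, rfl⟩ ⟨b, hb⟩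
    have h1 : BC.map (Wf p f) (pL L T hLT) (BC.map (Wf p f) (pL L T hLT) a) =
        BC.map (Wf p f) (pL L T hLT) a := by
      rw [map_comp_apply, pL_comp_pL]
    have h2 : BC.map (Wf p f) (pL L T hLT) (BC.map (Wf p f) (pT L T hLT) b) = 0 := by
      rw [map_comp_apply, pL_comp_pT, map_zero_apply]
    rw [← h1, ← hb, h2]
  · rw [codisjoint_iff, eq_top_iff]
    intro z _
    rw [← mapPL_add_mapPT f hLT z]
    exact Submodule.add_mem_sup ⟨z, rfl⟩ ⟨z, rfl⟩

theorem spanOne_le_TR : spanOne f T ≤ TR f hLT := by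
  rw [spanOne, Submodule.span_le]
  rintro _ ⟨t, ht, rfl⟩
  refine ⟨BC.tmul (Wf p f) 1 t, ?_⟩
  rw [BC.map_tmul, Submodule.projection_apply_of_mem_left hLT.symm ht]

variable (hQ : D.Q = L ⊔ W4c1extbt610.IV p S • T)
include hQ

theorem LR_le_QR : LR f hLT ≤ QR f D := by
  rintro _ ⟨z, rfl⟩
  induction z using BC.induction_on (Wf p f) with
  | zero => rw [map_zero]; exact zero_mem _
  | tmul b x => rw [BC.map_tmul]; exact tmul_mem_QR f D b _ (pL_mem_Q hLT hQ x)
  | add z₁ z₂ h₁ h₂ => rw [map_add]; exact add_mem h₁ h₂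

theorem QR_eq : QR f D = LR f hLT ⊔ W4c1extbt610.IV p R • TR f hLT := by
  apply le_antisymm
  · intro y hy
    have hspan := mem_span_genSet f D.Q y hy
    refine (Submodule.span_le.mpr ?_) hspan
    rintro _ (⟨b, q, hq, rfl⟩ | ⟨u, x, rfl⟩)
    · have e : BC.tmul (Wf p f) b q = BC.map (Wf p f) (pL L T hLT) (BC.tmul (Wf p f) b q) +
          BC.tmul (Wf p f) b (pT L T hLT q) := by
        rw [BC.map_tmul, ← BC.tmul_add, Submodule.projection_add_projection_eq_self hLT q]
      rw [SetLike.mem_coe, e]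
      refine Submodule.add_mem_sup ⟨_, rfl⟩ ?_
      exact Submodule.smul_mono le_rfl (spanOne_le_TR f hLT)
        (tmul_mem_IV_smul_spanOne f T _ (pT_mem_IVT hLT hQ q hq) b)
    · have e : BC.tmul (Wf p f) (WittVector.verschiebung u) x =
          WittVector.verschiebung u • BC.map (Wf p f) (pL L T hLT) (BC.tmul (Wf p f) 1 x) +
          WittVector.verschiebung u • BC.map (Wf p f) (pT L T hLT) (BC.tmul (Wf p f) 1 x) := by
        rw [← smul_add, mapPL_add_mapPT, ← BC.tmul_eq_smul_tmul_one]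
      rw [SetLike.mem_coe, e]
      refine Submodule.add_mem_sup (Submodule.smul_mem _ _ ⟨_, rfl⟩) ?_
      exact Submodule.smul_mem_smul (W4c1extbt610.verschiebung_mem_IV p R u) ⟨_, rfl⟩
  · refine sup_le (LR_le_QR f hLT hQ) ?_
    exact (Submodule.smul_mono le_rfl le_top).trans (IV_smul_le_QR f D)

theorem span_range_VinvR [Module.Flat (WittVector p R) (BC (Wf p f) P)] :
    Submodule.span (WittVector p R) (Set.range (VinvR f hLT hQ)) = ⊤ := by
  rw [eq_top_iff]
  intro z hz
  clear hz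
  induction z using BC.induction_on (Wf p f) with
  | zero => exact zero_mem _
  | tmul b x =>
    rw [BC.tmul_eq_smul_tmul_one]
    refine Submodule.smul_mem _ _ ?_
    have hx : x ∈ Submodule.span (WittVector p S) (Set.range D.Vinv) := by
      rw [D.span_range_Vinv]; exact Submodule.mem_top
    refine Submodule.span_induction (p := fun x _ => BC.tmul (Wf p f) 1 x ∈
      Submodule.span (WittVector p R) (Set.range (VinvR f hLT hQ))) ?_ ?_ ?_ ?_ hx
    · rintro _ ⟨q, rfl⟩
      refine Submodule.subset_span ⟨⟨BC.tmul (Wf p f) 1 q, tmul_mem_QR f D 1 q q.2⟩, ?_⟩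
      rw [VinvR_tmul f hLT hQ 1 q q.2, map_one]
    · rw [BC.tmul_zero]; exact zero_mem _
    · intro a b _ _ ha hb; rw [BC.tmul_add]; exact add_mem ha hb
    · intro a x _ hx
      rw [tmul_smul, one_mul]
      exact Submodule.smul_mem _ _ hx
  | add z₁ z₂ h₁ h₂ => exact add_mem h₁ h₂

/-- the base change 3n-display. -/
noncomputable def DRof [Module.Flat (WittVector p R) (BC (Wf p f) P)]
    (hfin : Module.Finite (WittVector p R) (BC (Wf p f) P))
    (hproj : Module.Projective (WittVector p R) (BC (Wf p f) P)) :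
    W4c1extbt610.Display3n p R (BC (Wf p f) P) where
  Q := QR f D
  F := ext f D.F
  Vinv := VinvR f hLT hQ
  finite := hfin
  projective := hproj
  IV_smul_le := IV_smul_le_QR f D
  exists_normal := ⟨LR f hLT, TR f hLT, isCompl_LR_TR f hLT, QR_eq f hLT hQ⟩
  span_range_Vinv := span_range_VinvR f hLT hQ
  Vinv_verschiebung_smul w x := VinvR_verschiebung_smul f hLT hQ w x _

theorem isDispBaseChange_DRof [Module.Flat (WittVector p R) (BC (Wf p f) P)]
    (hfin : Module.Finite (WittVector p R) (BC (Wf p f) P))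
    (hproj : Module.Projective (WittVector p R) (BC (Wf p f) P)) :
    IsDispBaseChange f D (DRof f hLT hQ hfin hproj) where
  Q_eq := rfl
  F_tmul w x := ext_tmul f D.F w x
  Vinv_tmul w y h := VinvR_tmul f hLT hQ w y y.2 h
  Vinv_verschiebung_tmul w x h := VinvR_vtmul f hLT hQ w x h

end Assemble


section Unique

variable {p : ℕ} [Fact p.Prime] {S R : Type u} [CommRing S] [CommRing R] (f : S →+* R)
variable {P : Type v} [AddCommGroup P] [Module (WittVector p S) P]

theorem display3n_ext {P' : Type v} [AddCommGroup P'] [Module (WittVector p R) P']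
    (D₁ D₂ : W4c1extbt610.Display3n p R P') (hQ : D₁.Q = D₂.Q) (hF : D₁.F = D₂.F)
    (hV : ∀ (y : P') (h : y ∈ D₁.Q) (h' : y ∈ D₂.Q), D₁.Vinv ⟨y, h⟩ = D₂.Vinv ⟨y, h'⟩) : D₁ = D₂ := by
  obtain ⟨Q₁, F₁, V₁, _, _, _, _, _, _⟩ := D₁
  obtain ⟨Q₂, F₂, V₂, _, _, _, _, _, _⟩ := D₂
  simp only at hQ hF hV
  subst hQ hF
  have : V₁ = V₂ := LinearMap.ext (fun y => hV y.1 y.2 y.2)
  subst this
  rfl

variable {D : W4c1extbt610.Display3n p S P}

theorem unique_of_isDispBaseChange (DR₁ DR₂ : W4c1extbt610.Display3n p R (BC (Wf p f) P))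
    (h₁ : IsDispBaseChange f D DR₁) (h₂ : IsDispBaseChange f D DR₂) : DR₁ = DR₂ := by
  refine display3n_ext DR₁ DR₂ (h₁.Q_eq.trans h₂.Q_eq.symm) ?_ ?_
  · apply LinearMap.ext
    intro z
    induction z using BC.induction_on (Wf p f) with
    | zero => rw [map_zero, map_zero]
    | tmul b x => rw [h₁.F_tmul, h₂.F_tmul]
    | add z₁ z₂ e₁ e₂ => rw [map_add, map_add, e₁, e₂]
  · intro y hy hy'
    have hy0 : bcQuotMap f D.Q y = 0 := by
      rw [h₁.Q_eq] at hy; exact hy
    have hspan := mem_span_genSet f D.Q y hy0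
    have key : ∃ (h : y ∈ DR₁.Q) (h' : y ∈ DR₂.Q), DR₁.Vinv ⟨y, h⟩ = DR₂.Vinv ⟨y, h'⟩ := by
      refine Submodule.span_induction (p := fun y _ => ∃ (h : y ∈ DR₁.Q) (h' : y ∈ DR₂.Q),
        DR₁.Vinv ⟨y, h⟩ = DR₂.Vinv ⟨y, h'⟩) ?_ ?_ ?_ ?_ hspan
      · rintro _ (⟨b, q, hq, rfl⟩ | ⟨u, x, rfl⟩)
        · refine ⟨tmul_mem_Q h₁ b q hq, tmul_mem_Q h₂ b q hq, ?_⟩
          rw [h₁.Vinv_tmul b ⟨q, hq⟩, h₂.Vinv_tmul b ⟨q, hq⟩]
        · refine ⟨verschiebung_tmul_mem_Q h₁ u x, verschiebung_tmul_mem_Q h₂ u x, ?_⟩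
          rw [h₁.Vinv_verschiebung_tmul u x, h₂.Vinv_verschiebung_tmul u x]
      · refine ⟨zero_mem _, zero_mem _, ?_⟩
        rw [show (⟨0, zero_mem _⟩ : DR₁.Q) = 0 from rfl, show (⟨0, zero_mem _⟩ : DR₂.Q) = 0 from rfl,
          map_zero, map_zero]
      · rintro a b _ _ ⟨ha, ha', ea⟩ ⟨hb, hb', eb⟩
        refine ⟨add_mem ha hb, add_mem ha' hb', ?_⟩
        rw [show (⟨a + b, add_mem ha hb⟩ : DR₁.Q) = ⟨a, ha⟩ + ⟨b, hb⟩ from rfl,
          show (⟨a + b, add_mem ha' hb'⟩ : DR₂.Q) = ⟨a, ha'⟩ + ⟨b, hb'⟩ from rfl, map_add, map_add, ea, eb]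
      · rintro c a _ ⟨ha, ha', ea⟩
        refine ⟨Submodule.smul_mem _ _ ha, Submodule.smul_mem _ _ ha', ?_⟩
        rw [show (⟨c • a, Submodule.smul_mem _ _ ha⟩ : DR₁.Q) = c • ⟨a, ha⟩ from rfl,
          show (⟨c • a, Submodule.smul_mem _ _ ha'⟩ : DR₂.Q) = c • ⟨a, ha'⟩ from rfl,
          LinearMap.map_smulₛₗ, LinearMap.map_smulₛₗ, ea]
    obtain ⟨_, _, e⟩ := key
    exact e

theorem main (p : ℕ) [Fact p.Prime] (S R : Type u) [CommRing S] [CommRing R] (f : S →+* R)
    (P : Type v) [AddCommGroup P] [Module (WittVector p S) P] (D : W4c1extbt610.Display3n p S P) :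
    ∃! DR : W4c1extbt610.Display3n p R (Dieu.BC (WittVector.map f : WittVector p S →+* WittVector p R) P),
      Dieu.IsDispBaseChange f D DR := by
  obtain ⟨L, T, hLT, hQ⟩ := D.exists_normal
  have := D.finite
  have := D.projective
  obtain ⟨hfin, hproj⟩ := finite_projective (Wf p f) (P := P)
  have : Module.Flat (WittVector p R) (BC (Wf p f) P) := inferInstance
  refine ⟨DRof f hLT hQ hfin hproj, isDispBaseChange_DRof f hLT hQ hfin hproj, fun DR' h' => ?_⟩
  exact unique_of_isDispBaseChange f DR' _ h' (isDispBaseChange_DRof f hLT hQ hfin hproj)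

end Unique

end Groth.Agent.Helper8.DispBCEx
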