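import Groth.Prelude.Def_W4c1extbt610Disp
import Mathlib.RingTheory.WittVector.Identities

universe u v w

namespace Groth.Agent.Helper8.DispBil

theorem main (p : ℕ) [Fact p.Prime] (R : Type u) [CommRing R]
    (P₁ : Type v) [AddCommGroup P₁] [Module (WittVector p R) P₁]
    (P₂ : Type w) [AddCommGroup P₂] [Module (WittVector p R) P₂]
    (D₁ : W4c1extbt610.Display3n p R P₁) (D₂ : W4c1extbt610.Display3n p R P₂)
    (B : P₁ →ₗ[WittVector p R] P₂ →ₗ[WittVector p R] WittVector p R)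
    (hB : ∀ (y₁ : D₁.Q) (y₂ : D₂.Q),
      WittVector.verschiebung (B (D₁.Vinv y₁) (D₂.Vinv y₂)) = B (y₁ : P₁) (y₂ : P₂)) :
    (∀ (y₁ : D₁.Q) (x₂ : P₂), B (D₁.Vinv y₁) (D₂.F x₂) = WittVector.frobenius (B (y₁ : P₁) x₂)) ∧
      (∀ (x₁ : P₁) (x₂ : P₂),
        B (D₁.F x₁) (D₂.F x₂) = (p : WittVector p R) * WittVector.frobenius (B x₁ x₂)) ∧
      (∀ (x₁ : P₁) (y₂ : D₂.Q), B (D₁.F x₁) (D₂.Vinv y₂) = WittVector.frobenius (B x₁ (y₂ : P₂))) ∧
      ∀ (y₁ : D₁.Q) (y₂ : D₂.Q), B (y₁ : P₁) (y₂ : P₂) ∈ W4c1extbt610.IV p R := by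
  -- `F x = V⁻¹ (V 1 • x)`
  have hV1 : ∀ c : WittVector p R, (WittVector.verschiebung (1 : WittVector p R)) * c =
      WittVector.verschiebung (WittVector.frobenius c) := by
    intro c
    rw [← WittVector.verschiebung_mul_frobenius, one_mul]
  have hF₁ : ∀ x : P₁, D₁.F x = D₁.Vinv ⟨WittVector.verschiebung 1 • x,
      D₁.IV_smul_le (Submodule.smul_mem_smul (W4c1extbt610.verschiebung_mem_IV p R 1)
        Submodule.mem_top)⟩ := by
    intro x
    rw [D₁.Vinv_verschiebung_smul, one_smul]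
  have hF₂ : ∀ x : P₂, D₂.F x = D₂.Vinv ⟨WittVector.verschiebung 1 • x,
      D₂.IV_smul_le (Submodule.smul_mem_smul (W4c1extbt610.verschiebung_mem_IV p R 1)
        Submodule.mem_top)⟩ := by
    intro x
    rw [D₂.Vinv_verschiebung_smul, one_smul]
  have h1 : ∀ (y₁ : D₁.Q) (x₂ : P₂),
      B (D₁.Vinv y₁) (D₂.F x₂) = WittVector.frobenius (B (y₁ : P₁) x₂) := by
    intro y₁ x₂
    apply WittVector.verschiebung_injective (p := p) (R := R)
    rw [hF₂, hB]
    change B (y₁ : P₁) (WittVector.verschiebung 1 • x₂) = _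
    rw [map_smul, smul_eq_mul, hV1]
  have h3 : ∀ (x₁ : P₁) (y₂ : D₂.Q),
      B (D₁.F x₁) (D₂.Vinv y₂) = WittVector.frobenius (B x₁ (y₂ : P₂)) := by
    intro x₁ y₂
    apply WittVector.verschiebung_injective (p := p) (R := R)
    rw [hF₁, hB]
    change B (WittVector.verschiebung 1 • x₁) (y₂ : P₂) = _
    rw [map_smul, LinearMap.smul_apply, smul_eq_mul, hV1]
  refine ⟨h1, ?_, h3, ?_⟩
  · intro x₁ x₂
    rw [hF₁, h1]
    change WittVector.frobenius (B (WittVector.verschiebung 1 • x₁) x₂) = _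
    rw [map_smul, LinearMap.smul_apply, smul_eq_mul, map_mul, WittVector.frobenius_verschiebung,
      one_mul]
  · intro y₁ y₂
    rw [← hB]
    exact W4c1extbt610.verschiebung_mem_IV p R _

end Groth.Agent.Helper8.DispBil
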