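import Mathlib
import Groth.Prelude.Def_Disp2

set_option autoImplicit false
universe u v

namespace Groth.Agent.Helper8.DispQ

open TensorProduct Dieu

theorem bc_ι_injective {A S₀ R : Type*} [CommRing A] [CommRing S₀] [CommRing R] [Algebra S₀ R]
    [Module.FaithfullyFlat S₀ R]
    (w₀ : A →+* S₀) (hw₀ : Function.Surjective w₀) (h : A →+* R)
    (hh : ∀ a, h a = algebraMap S₀ R (w₀ a))
    (M : Type*) [AddCommGroup M] [Module A M] (hM : ∀ a : A, w₀ a = 0 → ∀ m : M, a • m = 0) :
    Function.Injective (BC.ι h M) := by
  letI : SMul S₀ M := ⟨fun s m => Function.surjInv hw₀ s • m⟩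
  have hsm : ∀ (a : A) (m : M), w₀ a • m = a • m := by
    intro a m
    show Function.surjInv hw₀ (w₀ a) • m = a • m
    have h1 : w₀ (Function.surjInv hw₀ (w₀ a) - a) = 0 := by
      rw [map_sub, Function.surjInv_eq hw₀, sub_self]
    have h2 := hM _ h1 m
    rwa [sub_smul, sub_eq_zero] at h2
  letI : Module S₀ M := Function.Surjective.moduleLeft w₀ hw₀ hsm
  let φ : BC h M →+ R ⊗[S₀] M := TensorProduct.liftAddHom
    { toFun := fun t => (TensorProduct.mk S₀ R M t.val).toAddMonoidHom
      map_zero' := by ext m; simp
      map_add' := fun s t => by ext m; simp [TensorProduct.add_tmul] }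
    (by
      intro a t m
      show (a • t).val ⊗ₜ[S₀] m = t.val ⊗ₜ[S₀] (a • m)
      rw [Res.val_smul, hh, ← hsm, ← Algebra.smul_def, TensorProduct.smul_tmul])
  intro x y hxy
  have h1 := congrArg φ hxy
  have h2 : ∀ m : M, φ (BC.ι h M m) = TensorProduct.mk S₀ R M 1 m := by
    intro m
    rfl
  rw [h2, h2] at h1
  exact Module.FaithfullyFlat.tensorProduct_mk_injective (A := S₀) (B := R) M h1

theorem smul_mem_Q_of_coeff_zero {p : ℕ} [Fact p.Prime] {S : Type u} [CommRing S]
    {P : Type v} [AddCommGroup P] [Module (WittVector p S) P] (D : W4c1extbt610.Display3n p S P)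
    (a : WittVector p S) (ha : a.coeff 0 = 0) (x : P) : a • x ∈ D.Q := by
  have h1 : WittVector.verschiebung (a.shift 1) = a := by
    have := WittVector.verschiebung_shift a 0 (by
      intro i hi
      have : i = 0 := by omega
      rw [this, ha])
    rw [this]
    ext n
    rw [WittVector.shift_coeff, zero_add]
  apply D.IV_smul_le
  rw [← h1]
  exact Submodule.smul_mem_smul (W4c1extbt610.verschiebung_mem_IV p S _) Submodule.mem_top

theorem quot_ι_injective (p : ℕ) [Fact p.Prime]
    (S R : Type u) [CommRing S] [CommRing R] [Algebra S R] [Module.FaithfullyFlat S R]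
    (P : Type v) [AddCommGroup P] [Module (WittVector p S) P] (D : W4c1extbt610.Display3n p S P) :
    Function.Injective (BC.ι ((WittVector.constantCoeff : WittVector p R →+* R).comp
          (WittVector.map (algebraMap S R) : WittVector p S →+* WittVector p R)) (P ⧸ D.Q)) := by
  apply bc_ι_injective (WittVector.constantCoeff : WittVector p S →+* S)
    (WittVector.constantCoeff_surjective p)
  · intro a
    simp [WittVector.constantCoeff_apply, WittVector.map_coeff]
  · intro a ha m
    induction m using Submodule.Quotient.induction_on with | H x =>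
    rw [← Submodule.Quotient.mk_smul, Submodule.Quotient.mk_eq_zero]
    exact smul_mem_Q_of_coeff_zero D a ha x

theorem main (p : ℕ) [Fact p.Prime]
    (S R : Type u) [CommRing S] [CommRing R] [Algebra S R] [Module.FaithfullyFlat S R] (hp : IsNilpotent (p : S))
    (P : Type v) [AddCommGroup P] [Module (WittVector p S) P] (D : W4c1extbt610.Display3n p S P)
    (hD : Dieu.IsDisplay D)
    (DR : W4c1extbt610.Display3n p R (Dieu.BC (WittVector.map (algebraMap S R) : WittVector p S →+* WittVector p R) P))
    (hDR : Dieu.IsDispBaseChange (algebraMap S R) D DR) (x : P) :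
    x ∈ D.Q ↔ Dieu.BC.ι (WittVector.map (algebraMap S R) : WittVector p S →+* WittVector p R) P x ∈ DR.Q := by
  rw [hDR.Q_eq, LinearMap.mem_ker, BC.ι_apply, bcQuotMap_tmul, map_one]
  have h1 : BC.tmul ((WittVector.constantCoeff : WittVector p R →+* R).comp
          (WittVector.map (algebraMap S R) : WittVector p S →+* WittVector p R)) 1 (D.Q.mkQ x) =
      BC.ι _ _ (D.Q.mkQ x) := rfl
  rw [h1]
  have hinj := quot_ι_injective p S R P D
  constructor
  · intro hx
    have : D.Q.mkQ x = 0 := by
      rw [Submodule.mkQ_apply, Submodule.Quotient.mk_eq_zero]; exact hx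
    rw [this, map_zero]
  · intro h0
    have : D.Q.mkQ x = 0 := hinj (by rw [h0, map_zero])
    rwa [Submodule.mkQ_apply, Submodule.Quotient.mk_eq_zero] at this

end Groth.Agent.Helper8.DispQ
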