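import Mathlib
import Groth.Prelude.Def_Dieu
import Groth.Agent.Helper7.ModAmitsur

set_option autoImplicit false
universe u v

namespace Groth.Agent.Helper8.WittDesc

open TensorProduct Dieu

theorem bc_equalizer {A B C : Type*} [CommRing A] [CommRing B] [CommRing C]
    (g : A →+* B) (h₁ h₂ : B →+* C) (e : h₁.comp g = h₂.comp g)
    (hinj : Function.Injective g)
    (heq : ∀ b : B, h₁ b = h₂ b → b ∈ Set.range g)
    (M : Type*) [AddCommGroup M] [Module A M] [Module.Flat A M] :
    Function.Injective (BC.ι g M) ∧
      ∀ z : BC g M, (BC.castHom e (BC.push g h₁ z) = BC.push g h₂ z ↔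
        z ∈ Set.range (BC.ι g M)) := by
  let ι₀ : A →ₗ[A] Res g :=
    { toFun := fun a => Res.mk g (g a)
      map_add' := fun a b => by apply Res.ext; simp
      map_smul' := fun a b => by apply Res.ext; simp }
  let φ₁ : Res g →ₗ[A] Res (h₂.comp g) :=
    { toFun := fun b => Res.mk _ (h₁ b.val)
      map_add' := fun a b => by apply Res.ext; simp
      map_smul' := fun a b => by
        apply Res.ext
        simp only [Res.val_smul, Res.val_mk, map_mul, RingHom.id_apply]
        congr 1
        exact RingHom.congr_fun e a }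
  let φ₂ : Res g →ₗ[A] Res (h₂.comp g) :=
    { toFun := fun b => Res.mk _ (h₂ b.val)
      map_add' := fun a b => by apply Res.ext; simp
      map_smul' := fun a b => by
        apply Res.ext
        simp only [Res.val_smul, Res.val_mk, map_mul, RingHom.id_apply]
        rfl }
  have hex : Function.Exact ι₀ (φ₁ - φ₂) := by
    intro b
    constructor
    · intro hb
      have h1 : h₁ b.val - h₂ b.val = 0 := congrArg Res.val hb
      obtain ⟨a, ha⟩ := heq b.val (sub_eq_zero.mp h1)
      exact ⟨a, Res.ext g ha⟩
    · rintro ⟨a, rfl⟩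
      apply Res.ext
      show h₁ (g a) - h₂ (g a) = 0
      rw [sub_eq_zero]
      exact RingHom.congr_fun e a
  have hex' := Module.Flat.rTensor_exact M hex
  have hinj' : Function.Injective (LinearMap.rTensor M ι₀) :=
    Module.Flat.rTensor_preserves_injective_linearMap ι₀
      (fun a b hab => hinj (congrArg Res.val hab))
  have hι : ∀ x : M, BC.ι g M x = LinearMap.rTensor M ι₀ ((1 : A) ⊗ₜ[A] x) := by
    intro x
    rw [LinearMap.rTensor_tmul, BC.ι_apply]
    show BC.tmul g 1 x = (Res.mk g (g 1)) ⊗ₜ[A] x
    rw [map_one]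
    rfl
  have hpush1 : ∀ z : BC g M, BC.castHom e (BC.push g h₁ z) = LinearMap.rTensor M φ₁ z := by
    intro z
    induction z using BC.induction_on g with
    | zero =>
      have e1 : BC.castHom e (BC.push g h₁ (0 : BC g M)) = 0 := by rw [map_zero, map_zero]
      have e2 : LinearMap.rTensor M φ₁ (0 : BC g M) = 0 := map_zero _
      rw [e1]; exact e2.symm
    | tmul b x =>
      rw [BC.push_tmul, BC.castHom_tmul]
      rfl
    | add z₁ z₂ h1 h2 =>
      have e1 : BC.castHom e (BC.push g h₁ (z₁ + z₂)) =
          BC.castHom e (BC.push g h₁ z₁) + BC.castHom e (BC.push g h₁ z₂) := by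
        rw [map_add, map_add]
      have e2 : LinearMap.rTensor M φ₁ (z₁ + z₂) =
          LinearMap.rTensor M φ₁ z₁ + LinearMap.rTensor M φ₁ z₂ := map_add _ _ _
      rw [e1, h1, h2]; exact e2.symm
  have hpush2 : ∀ z : BC g M, BC.push g h₂ z = LinearMap.rTensor M φ₂ z := by
    intro z
    induction z using BC.induction_on g with
    | zero =>
      have e1 : BC.push g h₂ (0 : BC g M) = 0 := map_zero _
      have e2 : LinearMap.rTensor M φ₂ (0 : BC g M) = 0 := map_zero _
      rw [e1]; exact e2.symm
    | tmul b x =>
      rw [BC.push_tmul]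
      rfl
    | add z₁ z₂ h1 h2 =>
      have e1 : BC.push g h₂ (z₁ + z₂) = BC.push g h₂ z₁ + BC.push g h₂ z₂ := map_add _ _ _
      have e2 : LinearMap.rTensor M φ₂ (z₁ + z₂) =
          LinearMap.rTensor M φ₂ z₁ + LinearMap.rTensor M φ₂ z₂ := map_add _ _ _
      rw [e1, h1, h2]; exact e2.symm
  constructor
  · intro x y hxy
    rw [hι, hι] at hxy
    have := hinj' hxy
    have h2 := congrArg (TensorProduct.lid A M) this
    simpa using h2
  · intro z
    have key : ∀ w : Res g ⊗[A] M, (LinearMap.rTensor M φ₁ w = LinearMap.rTensor M φ₂ w) ↔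
        LinearMap.rTensor M (φ₁ - φ₂) w = 0 := by
      intro w
      rw [LinearMap.rTensor_sub, LinearMap.sub_apply, sub_eq_zero]
    rw [hpush1, hpush2]
    refine (key z).trans ?_
    refine (hex' z).trans ?_
    constructor
    · rintro ⟨w, rfl⟩
      refine ⟨TensorProduct.lid A M w, ?_⟩
      rw [hι]
      congr 1
      induction w using TensorProduct.induction_on with
      | zero => simp
      | tmul a x => simp [TensorProduct.smul_tmul']
      | add w₁ w₂ h1 h2 => simp only [map_add, TensorProduct.tmul_add, h1, h2]
    · rintro ⟨x, rfl⟩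
      exact ⟨(1 : A) ⊗ₜ[A] x, (hι x).symm⟩

theorem amitsur_ring (S R : Type u) [CommRing S] [CommRing R] [Algebra S R]
    [Module.FaithfullyFlat S R] (r : R)
    (h : (Algebra.TensorProduct.includeLeftRingHom : R →+* R ⊗[S] R) r =
      ((Algebra.TensorProduct.includeRight : R →ₐ[S] R ⊗[S] R) : R →+* R ⊗[S] R) r) :
    r ∈ Set.range (algebraMap S R) := by
  have hex := Groth.Agent.Helper7.ModAmitsur.amitsur_exact S R S
  have h0 : Groth.Agent.Helper7.ModAmitsur.d S R S (r ⊗ₜ 1) = 0 := by
    rw [Groth.Agent.Helper7.ModAmitsur.d_tmul]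
    have : (r ⊗ₜ[S] (1:R) - (1:R) ⊗ₜ[S] r) = 0 := sub_eq_zero.mpr h
    rw [this, TensorProduct.zero_tmul]
  obtain ⟨s, hs⟩ := (hex _).mp h0
  refine ⟨s, ?_⟩
  have := congrArg (TensorProduct.rid S R) hs
  simpa [Groth.Agent.Helper7.ModAmitsur.ι, Algebra.smul_def] using this

theorem main (p : ℕ) [Fact p.Prime]
    (S R : Type u) [CommRing S] [CommRing R] [Algebra S R] [Module.FaithfullyFlat S R]
    (M : Type v) [AddCommGroup M] [Module (WittVector p S) M] [Module.Flat (WittVector p S) M]
    (e : (WittVector.map (Algebra.TensorProduct.includeLeftRingHom : R →+* TensorProduct S R R) : WittVector p R →+* WittVector p (TensorProduct S R R)).comp (WittVector.map (algebraMap S R) : WittVector p S →+* WittVector p R) = (WittVector.map ((Algebra.TensorProduct.includeRight : R →ₐ[S] TensorProduct S R R) : R →+* TensorProduct S R R) : WittVector p R →+* WittVector p (TensorProduct S R R)).comp (WittVector.map (algebraMap S R) : WittVector p S →+* WittVector p R)) :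
    Function.Injective (Dieu.BC.ι (WittVector.map (algebraMap S R) : WittVector p S →+* WittVector p R) M) ∧
      ∀ z : Dieu.BC (WittVector.map (algebraMap S R) : WittVector p S →+* WittVector p R) M,
        (Dieu.BC.castHom e (Dieu.BC.push (WittVector.map (algebraMap S R) : WittVector p S →+* WittVector p R) (WittVector.map (Algebra.TensorProduct.includeLeftRingHom : R →+* TensorProduct S R R) : WittVector p R →+* WittVector p (TensorProduct S R R)) z) = Dieu.BC.push (WittVector.map (algebraMap S R) : WittVector p S →+* WittVector p R) (WittVector.map ((Algebra.TensorProduct.includeRight : R →ₐ[S] TensorProduct S R R) : R →+* TensorProduct S R R) : WittVector p R →+* WittVector p (TensorProduct S R R)) z ↔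
          z ∈ Set.range (Dieu.BC.ι (WittVector.map (algebraMap S R) : WittVector p S →+* WittVector p R) M)) := by
  apply bc_equalizer
  · intro x y hxy
    ext n
    have := congrArg (fun w => w.coeff n) hxy
    simp only [WittVector.map_coeff] at this
    exact (FaithfulSMul.algebraMap_injective S R) this
  · intro b hb
    have : ∀ n, b.coeff n ∈ Set.range (algebraMap S R) := fun n => amitsur_ring S R _ (by
      have := congrArg (fun w => w.coeff n) hb
      simpa only [WittVector.map_coeff] using this)
    choose s hs using this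
    refine ⟨WittVector.mk p s, ?_⟩
    ext n
    simp [WittVector.map_coeff, hs]

end Groth.Agent.Helper8.WittDesc
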