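import Mathlib
import Groth.Prelude.Def_Disp2
import Groth.Agent.Helper8.WittDesc
import Groth.Agent.Helper8.DispQ

set_option autoImplicit false
universe u v

namespace Groth.Agent.Helper8.DispDesc

open TensorProduct Dieu

section cast
variable {A B : Type*} [CommRing A] [CommRing B] {P : Type*} [AddCommGroup P] [Module A P]

theorem castHom_injective {g g' : A →+* B} (e : g = g') :
    Function.Injective (BC.castHom (P := P) e) := by
  subst e
  exact fun _ _ h => h

theorem castHom_trans {g g' g'' : A →+* B} (e : g = g') (e' : g' = g'') (z : BC g P) :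
    BC.castHom e' (BC.castHom e z) = BC.castHom (e.trans e') z := by
  subst e
  subst e'
  rfl

end cast

theorem descent_abstract {A B C : Type*} [CommRing A] [CommRing B] [CommRing C]
    (g : A →+* B) (h₁ h₂ : B →+* C) (c : A →+* C) (e₁ : h₁.comp g = c) (e₂ : h₂.comp g = c)
    {P P' : Type*} [AddCommGroup P] [Module A P] [AddCommGroup P'] [Module A P']
    (χ : BC g P →ₗ[B] BC g P')
    (hinj : Function.Injective (BC.ι g P'))
    (heq : ∀ z : BC g P', BC.castHom (e₁.trans e₂.symm) (BC.push g h₁ z) = BC.push g h₂ z →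
      z ∈ Set.range (BC.ι g P'))
    (hdesc : ∀ (z₁ : BC h₁ (BC g P)) (z₂ : BC h₂ (BC g P)),
      (BC.castHom (P := P) e₁).comp (BC.lift h₁ (BC.push g h₁)) z₁ =
        (BC.castHom (P := P) e₂).comp (BC.lift h₂ (BC.push g h₂)) z₂ →
      (BC.castHom (P := P') e₁).comp (BC.lift h₁ (BC.push g h₁)) (BC.map h₁ χ z₁) =
        (BC.castHom (P := P') e₂).comp (BC.lift h₂ (BC.push g h₂)) (BC.map h₂ χ z₂)) :
    ∃ ψ : P →ₗ[A] P', ∀ x, χ (BC.ι g P x) = BC.ι g P' (ψ x) := by
  have hstep : ∀ x : P, ∃ x' : P', χ (BC.ι g P x) = BC.ι g P' x' := by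
    intro x
    have h0 := hdesc (BC.tmul h₁ 1 (BC.ι g P x)) (BC.tmul h₂ 1 (BC.ι g P x)) (by
      simp only [LinearMap.comp_apply, BC.lift_tmul, one_smul, BC.ι_apply, BC.push_tmul, map_one,
        BC.castHom_tmul])
    simp only [LinearMap.comp_apply, BC.map_tmul, BC.lift_tmul, one_smul] at h0
    have h1 : BC.castHom (e₁.trans e₂.symm) (BC.push g h₁ (χ (BC.ι g P x))) =
        BC.push g h₂ (χ (BC.ι g P x)) := by
      apply castHom_injective e₂
      rw [castHom_trans]
      exact h0
    obtain ⟨x', hx'⟩ := heq _ h1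
    exact ⟨x', hx'.symm⟩
  choose ψ₀ hψ₀ using hstep
  refine ⟨{ toFun := ψ₀, map_add' := ?_, map_smul' := ?_ }, hψ₀⟩
  · intro x y
    apply hinj
    rw [← hψ₀, map_add, map_add, map_add, hψ₀, hψ₀]
  · intro a x
    apply hinj
    rw [← hψ₀, RingHom.id_apply, (BC.ι g P).map_smulₛₗ, map_smul, hψ₀, (BC.ι g P').map_smulₛₗ]

theorem main (p : ℕ) [Fact p.Prime]
    (S R : Type u) [CommRing S] [CommRing R] [Algebra S R] [Module.FaithfullyFlat S R] (hp : IsNilpotent (p : S))
    (e₁ : (WittVector.map (Algebra.TensorProduct.includeLeftRingHom : R →+* TensorProduct S R R) : WittVector p R →+* WittVector p (TensorProduct S R R)).comp (WittVector.map (algebraMap S R) : WittVector p S →+* WittVector p R) = (WittVector.map (algebraMap S (TensorProduct S R R)) : WittVector p S →+* WittVector p (TensorProduct S R R)))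
    (e₂ : (WittVector.map ((Algebra.TensorProduct.includeRight : R →ₐ[S] TensorProduct S R R) : R →+* TensorProduct S R R) : WittVector p R →+* WittVector p (TensorProduct S R R)).comp (WittVector.map (algebraMap S R) : WittVector p S →+* WittVector p R) = (WittVector.map (algebraMap S (TensorProduct S R R)) : WittVector p S →+* WittVector p (TensorProduct S R R)))
    (P P' : Type v) [AddCommGroup P] [Module (WittVector p S) P] [AddCommGroup P'] [Module (WittVector p S) P']
    (D : W4c1extbt610.Display3n p S P) (D' : W4c1extbt610.Display3n p S P')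
    (hD : Dieu.IsDisplay D) (hD' : Dieu.IsDisplay D')
    (DR : W4c1extbt610.Display3n p R (Dieu.BC (WittVector.map (algebraMap S R) : WittVector p S →+* WittVector p R) P)) (hDR : Dieu.IsDispBaseChange (algebraMap S R) D DR)
    (DR' : W4c1extbt610.Display3n p R (Dieu.BC (WittVector.map (algebraMap S R) : WittVector p S →+* WittVector p R) P')) (hDR' : Dieu.IsDispBaseChange (algebraMap S R) D' DR')
    (χ : Dieu.BC (WittVector.map (algebraMap S R) : WittVector p S →+* WittVector p R) P →ₗ[WittVector p R] Dieu.BC (WittVector.map (algebraMap S R) : WittVector p S →+* WittVector p R) P') (hχ : W4c1extbt610.IsHom DR DR' χ)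
    (hdesc : ∀ (z₁ : Dieu.BC (WittVector.map (Algebra.TensorProduct.includeLeftRingHom : R →+* TensorProduct S R R) : WittVector p R →+* WittVector p (TensorProduct S R R)) (Dieu.BC (WittVector.map (algebraMap S R) : WittVector p S →+* WittVector p R) P)) (z₂ : Dieu.BC (WittVector.map ((Algebra.TensorProduct.includeRight : R →ₐ[S] TensorProduct S R R) : R →+* TensorProduct S R R) : WittVector p R →+* WittVector p (TensorProduct S R R)) (Dieu.BC (WittVector.map (algebraMap S R) : WittVector p S →+* WittVector p R) P)),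
      (Dieu.BC.castHom (P := P) e₁).comp (Dieu.BC.lift (WittVector.map (Algebra.TensorProduct.includeLeftRingHom : R →+* TensorProduct S R R) : WittVector p R →+* WittVector p (TensorProduct S R R)) (Dieu.BC.push (WittVector.map (algebraMap S R) : WittVector p S →+* WittVector p R) (WittVector.map (Algebra.TensorProduct.includeLeftRingHom : R →+* TensorProduct S R R) : WittVector p R →+* WittVector p (TensorProduct S R R)))) z₁ = (Dieu.BC.castHom (P := P) e₂).comp (Dieu.BC.lift (WittVector.map ((Algebra.TensorProduct.includeRight : R →ₐ[S] TensorProduct S R R) : R →+* TensorProduct S R R) : WittVector p R →+* WittVector p (TensorProduct S R R)) (Dieu.BC.push (WittVector.map (algebraMap S R) : WittVector p S →+* WittVector p R) (WittVector.map ((Algebra.TensorProduct.includeRight : R →ₐ[S] TensorProduct S R R) : R →+* TensorProduct S R R) : WittVector p R →+* WittVector p (TensorProduct S R R)))) z₂ →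
        (Dieu.BC.castHom (P := P') e₁).comp (Dieu.BC.lift (WittVector.map (Algebra.TensorProduct.includeLeftRingHom : R →+* TensorProduct S R R) : WittVector p R →+* WittVector p (TensorProduct S R R)) (Dieu.BC.push (WittVector.map (algebraMap S R) : WittVector p S →+* WittVector p R) (WittVector.map (Algebra.TensorProduct.includeLeftRingHom : R →+* TensorProduct S R R) : WittVector p R →+* WittVector p (TensorProduct S R R)))) (Dieu.BC.map (WittVector.map (Algebra.TensorProduct.includeLeftRingHom : R →+* TensorProduct S R R) : WittVector p R →+* WittVector p (TensorProduct S R R)) χ z₁) =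
          (Dieu.BC.castHom (P := P') e₂).comp (Dieu.BC.lift (WittVector.map ((Algebra.TensorProduct.includeRight : R →ₐ[S] TensorProduct S R R) : R →+* TensorProduct S R R) : WittVector p R →+* WittVector p (TensorProduct S R R)) (Dieu.BC.push (WittVector.map (algebraMap S R) : WittVector p S →+* WittVector p R) (WittVector.map ((Algebra.TensorProduct.includeRight : R →ₐ[S] TensorProduct S R R) : R →+* TensorProduct S R R) : WittVector p R →+* WittVector p (TensorProduct S R R)))) (Dieu.BC.map (WittVector.map ((Algebra.TensorProduct.includeRight : R →ₐ[S] TensorProduct S R R) : R →+* TensorProduct S R R) : WittVector p R →+* WittVector p (TensorProduct S R R)) χ z₂)) :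
    ∃! ψ : P →ₗ[WittVector p S] P', W4c1extbt610.IsHom D D' ψ ∧ Dieu.BC.map (WittVector.map (algebraMap S R) : WittVector p S →+* WittVector p R) ψ = χ := by
  haveI hproj : Module.Projective (WittVector p S) P' := D'.projective
  haveI hflat : Module.Flat (WittVector p S) P' := Module.Flat.of_projective
  obtain ⟨hinj, heq⟩ := WittDesc.main p S R P' (e₁.trans e₂.symm)
  obtain ⟨ψ, hψ⟩ := descent_abstract _ _ _ _ e₁ e₂ χ hinj (fun z hz => (heq z).mp hz) hdesc
  have hmap : BC.map (WittVector.map (algebraMap S R) : WittVector p S →+* WittVector p R) ψ = χ := by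
    apply BC.ext
    intro x
    rw [BC.map_tmul]
    exact (hψ x).symm
  have hQ : ∀ q ∈ D.Q, ψ q ∈ D'.Q := by
    intro q hq
    rw [DispQ.main p S R hp P' D' hD' DR' hDR' (ψ q), ← hψ]
    exact hχ.mapsTo _ ((DispQ.main p S R hp P D hD DR hDR q).mp hq)
  refine ⟨ψ, ⟨⟨hQ, ?_, ?_⟩, hmap⟩, ?_⟩
  · intro x
    apply hinj
    rw [← hψ]
    have h1 : BC.ι (WittVector.map (algebraMap S R) : WittVector p S →+* WittVector p R) P (D.F x) =
        DR.F (BC.ι _ P x) := by
      rw [BC.ι_apply, BC.ι_apply, hDR.F_tmul, map_one]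
    rw [h1, hχ.comm_F, hψ, BC.ι_apply, hDR'.F_tmul, map_one]
    rfl
  · intro q
    apply hinj
    rw [← hψ]
    have hq1 : BC.tmul (WittVector.map (algebraMap S R) : WittVector p S →+* WittVector p R) 1 (q : P)
        ∈ DR.Q := (DispQ.main p S R hp P D hD DR hDR q).mp q.2
    have h1 : BC.ι (WittVector.map (algebraMap S R) : WittVector p S →+* WittVector p R) P (D.Vinv q) =
        DR.Vinv ⟨BC.tmul _ 1 (q : P), hq1⟩ := by
      rw [hDR.Vinv_tmul 1 q hq1, map_one]
      rfl
    rw [h1, hχ.comm_Vinv]
    have hq2 : BC.tmul (WittVector.map (algebraMap S R) : WittVector p S →+* WittVector p R) 1 (ψ q)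
        ∈ DR'.Q := (DispQ.main p S R hp P' D' hD' DR' hDR' (ψ q)).mp (hQ q q.2)
    have h2 : DR'.Vinv ⟨χ (BC.tmul _ 1 (q : P)), hχ.mapsTo _ hq1⟩ =
        DR'.Vinv ⟨BC.tmul _ 1 (ψ q), hq2⟩ := congrArg DR'.Vinv (Subtype.ext (hψ q))
    rw [h2, hDR'.Vinv_tmul 1 ⟨ψ q, hQ q q.2⟩ hq2, map_one]
    rfl
  · rintro ψ' ⟨_, hψ'⟩
    ext x
    apply hinj
    rw [← hψ, ← hψ', BC.ι_apply, BC.ι_apply, BC.map_tmul]

end Groth.Agent.Helper8.DispDesc
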