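import Groth.Agent.Helper8.DispPow
import Groth.Agent.Helper8.DispBasis
import Groth.Agent.Helper8.DispBCEx
import Mathlib.LinearAlgebra.Matrix.ToLin
import Mathlib.Algebra.CharP.Quotient
import Mathlib.RingTheory.WittVector.Teichmuller

set_option autoImplicit false

universe u v w
open Dieu

namespace Groth.Agent.Helper8.DispMat
open Groth.Agent.Helper8.BCLib Groth.Agent.Helper8.DispPow Groth.Agent.Helper8.DispBasis

section Coord

variable {A : Type u} [CommRing A] (κ : A →+* A)
variable {P : Type v} [AddCommGroup P] [Module A P]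
variable {I : Type w} [Fintype I] (b : Module.Basis I A P)

/-- coordinate functionals on `BC κ P` w.r.t. the family `1 ⊗ b i`. -/
noncomputable def coord (i : I) : BC κ P →ₗ[A] A :=
  BC.lift κ
    { toFun := fun x => κ (b.repr x i)
      map_add' := fun x y => by simp
      map_smul' := fun a x => by simp }

theorem coord_tmul (i : I) (w : A) (x : P) : coord κ b i (BC.tmul κ w x) = w * κ (b.repr x i) := by
  rw [coord, BC.lift_tmul]; rfl

theorem coord_one_tmul_basis [DecidableEq I] (i i' : I) :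
    coord κ b i (BC.tmul κ 1 (b i')) = if i = i' then 1 else 0 := by
  rw [coord_tmul, one_mul, Module.Basis.repr_self, Finsupp.single_apply]
  split_ifs with h1 h2 h2
  · exact map_one κ
  · exact absurd h1.symm h2
  · exact absurd h2.symm h1
  · exact map_zero κ

theorem sum_coord (z : BC κ P) : ∑ i, coord κ b i z • BC.tmul κ 1 (b i) = z := by
  induction z using BC.induction_on κ with
  | zero => simp
  | tmul w x =>
    conv_rhs => rw [← b.sum_repr x, BC.tmul_eq_smul_tmul_one, ← BC.ι_apply, map_sum, Finset.smul_sum]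
    refine Finset.sum_congr rfl fun i _ => ?_
    rw [coord_tmul, LinearMap.map_smulₛₗ, BC.ι_apply, smul_smul]
  | add z₁ z₂ h₁ h₂ =>
    conv_rhs => rw [← h₁, ← h₂]
    rw [← Finset.sum_add_distrib]
    refine Finset.sum_congr rfl fun i _ => ?_
    rw [map_add, add_smul]

theorem mem_smul_top_iff (J : Ideal A) (z : BC κ P) :
    z ∈ J • (⊤ : Submodule A (BC κ P)) ↔ ∀ i, coord κ b i z ∈ J := by
  constructor
  · intro hz i
    refine Submodule.smul_induction_on hz ?_ ?_
    · intro a ha y _
      rw [map_smul, smul_eq_mul]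
      exact Ideal.mul_mem_right _ _ ha
    · intro x y hx hy
      rw [map_add]; exact add_mem hx hy
  · intro h
    rw [← sum_coord κ b z]
    exact Submodule.sum_mem _ fun i _ => Submodule.smul_mem_smul (h i) Submodule.mem_top

theorem coord_sum [DecidableEq I] (m : I → A) (i : I) :
    coord κ b i (∑ i', m i' • BC.tmul κ 1 (b i')) = m i := by
  rw [map_sum]
  simp only [map_smul, coord_one_tmul_basis, smul_eq_mul, mul_ite, mul_one, mul_zero]
  rw [Finset.sum_ite_eq]
  simp

end Coord


section Main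

variable {p : ℕ} [Fact p.Prime] {R : Type u} [CommRing R]
variable {P : Type v} [AddCommGroup P] [Module (WittVector p R) P] (D : W4c1extbt610.Display3n p R P)
variable {L T : Submodule (WittVector p R) P} (hLT : IsCompl L T)
variable {ιT ιL : Type w} [Fintype ιT] [Fintype ιL] [DecidableEq ιT] [DecidableEq ιL]
variable (bT : Module.Basis ιT (WittVector p R) T) (bL : Module.Basis ιL (WittVector p R) L)
variable (α β : Matrix (ιT ⊕ ιL) (ιT ⊕ ιL) (WittVector p R))

/-- the basis of `P` formed by the `t_j` followed by the `l_k`. -/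
noncomputable def bb : Module.Basis (ιT ⊕ ιL) (WittVector p R) P :=
  (bT.prod bL).map (Submodule.prodEquivOfIsCompl T L hLT.symm)

theorem bb_apply (i : ιT ⊕ ιL) :
    bb hLT bT bL i = Sum.elim (fun a : ιT => (bT a : P)) (fun a : ιL => (bL a : P)) i := by
  rw [bb, Module.Basis.map_apply]
  cases i with
  | inl j => simp [Submodule.coe_prodEquivOfIsCompl']
  | inr k => simp [Submodule.coe_prodEquivOfIsCompl']

/-- the diagonal `(p, …, p, 1, …, 1)`. -/
noncomputable def dd : ιT ⊕ ιL → WittVector p R := Sum.elim (fun _ => (p : WittVector p R)) (fun _ => 1)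

/-- the matrix `D β`. -/
noncomputable def DB : Matrix (ιT ⊕ ιL) (ιT ⊕ ιL) (WittVector p R) := fun i' i => dd i' * β i' i

/-- the candidate `V^#`. -/
noncomputable def Vs : P →ₗ[WittVector p R] BC (frob p R) P :=
  (bb hLT bT bL).constr (WittVector p R)
    (fun i => ∑ i', DB β i' i • BC.tmul (frob p R) 1 (bb hLT bT bL i'))

theorem Vs_basis (i : ιT ⊕ ιL) :
    Vs hLT bT bL β (bb hLT bT bL i) = ∑ i', DB β i' i • BC.tmul (frob p R) 1 (bb hLT bT bL i') := by
  rw [Vs, Module.Basis.constr_basis]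

variable {α β}

theorem Vs_c (hβα : β * α = 1) (i : ιT ⊕ ιL) :
    Vs hLT bT bL β (∑ i', α i' i • bb hLT bT bL i') = (dd i : WittVector p R) • BC.tmul (frob p R) 1 (bb hLT bT bL i) := by
  rw [map_sum]
  simp only [map_smul, Vs_basis, Finset.smul_sum, smul_smul]
  rw [Finset.sum_comm]
  have : ∀ i'' : ιT ⊕ ιL, ∑ i', (α i' i * DB β i'' i') • BC.tmul (frob p R) 1 (bb hLT bT bL i'') =
      ((dd i'' : WittVector p R) * (if i'' = i then 1 else 0)) • BC.tmul (frob p R) 1 (bb hLT bT bL i'') := by
    intro i''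
    rw [← Finset.sum_smul]
    congr 1
    have h := congrFun (congrFun hβα i'') i
    rw [Matrix.mul_apply, Matrix.one_apply] at h
    rw [← h, Finset.mul_sum]
    refine Finset.sum_congr rfl fun i' _ => ?_
    rw [DB]; ring
  rw [Finset.sum_congr rfl fun i'' _ => this i'']
  simp only [mul_ite, mul_one, mul_zero, ite_smul, zero_smul]
  rw [Finset.sum_ite_eq']
  simp

section Sharp

variable (hQ : D.Q = L ⊔ W4c1extbt610.IV p R • T) (hLQ : L ≤ D.Q)
variable (hβα : β * α = 1)
variable (hF : ∀ j : ιT, D.F (bT j : P) = ∑ i, α i (Sum.inl j) • bb hLT bT bL i)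
variable (hV : ∀ k : ιL, D.Vinv ⟨(bL k : P), hLQ (bL k).2⟩ = ∑ i, α i (Sum.inr k) • bb hLT bT bL i)
include hβα hF hV

theorem Vs_F (x : P) :
    Vs hLT bT bL β (D.F x) = (p : WittVector p R) • BC.tmul (frob p R) 1 x := by
  have h : (Vs hLT bT bL β).comp D.F = (p : WittVector p R) • BC.ι (frob p R) P := by
    refine (bb hLT bT bL).ext fun i => ?_
    rw [LinearMap.comp_apply, LinearMap.smul_apply, BC.ι_apply]
    cases i with
    | inl j =>
      have e : bb hLT bT bL (Sum.inl j) = (bT j : P) := by rw [bb_apply]; rfl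
      rw [e, hF j, Vs_c hLT bT bL hβα, e]
      rfl
    | inr k =>
      have e : bb hLT bT bL (Sum.inr k) = (bL k : P) := by rw [bb_apply]; rfl
      have h1 := DispBCEx.F_eq (D := D) ⟨(bL k : P), hLQ (bL k).2⟩
      change D.F (bL k : P) = _ at h1
      rw [e, h1, hV k, map_smul, Vs_c hLT bT bL hβα, e]
      change _ • ((1 : WittVector p R) • _) = _
      rw [one_smul]
  exact LinearMap.congr_fun h x

omit hβα hF hV in
variable (β) in
/-- the submodule of `y ∈ Q` with `V^#(V⁻¹ y) = 1 ⊗ y`. -/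
noncomputable def goodS : Submodule (WittVector p R) P where
  carrier := {y | ∃ h : y ∈ D.Q, Vs hLT bT bL β (D.Vinv ⟨y, h⟩) = BC.tmul (frob p R) 1 y}
  add_mem' := by
    rintro a b ⟨ha, ea⟩ ⟨hb, eb⟩
    refine ⟨add_mem ha hb, ?_⟩
    rw [show (⟨a + b, add_mem ha hb⟩ : D.Q) = ⟨a, ha⟩ + ⟨b, hb⟩ from rfl, map_add, map_add, ea, eb,
      BC.tmul_add]
  zero_mem' := by
    refine ⟨zero_mem _, ?_⟩
    rw [show (⟨0, zero_mem _⟩ : D.Q) = 0 from rfl, map_zero, map_zero, BC.tmul_zero]
  smul_mem' := by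
    rintro c a ⟨ha, ea⟩
    refine ⟨Submodule.smul_mem _ _ ha, ?_⟩
    rw [show (⟨c • a, Submodule.smul_mem _ _ ha⟩ : D.Q) = c • ⟨a, ha⟩ from rfl, LinearMap.map_smulₛₗ,
      map_smul, ea, ← BC.tmul_apply_eq, BC.tmul_eq_smul_tmul_one (frob p R) (frob p R c)]

include hQ in
theorem Q_le_goodS : D.Q ≤ goodS D hLT bT bL β := by
  have hspanL : L = Submodule.span (WittVector p R) (Set.range fun i => (bL i : P)) := by
    have := bL.span_eq
    have h2 := congrArg (Submodule.map L.subtype) this
    rw [Submodule.map_span, Submodule.map_top, Submodule.range_subtype, ← Set.range_comp] at h2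
    exact h2.symm
  rw [hQ, sup_le_iff]
  constructor
  · refine hspanL.le.trans ?_
    rw [Submodule.span_le]
    rintro _ ⟨k, rfl⟩
    refine ⟨hLQ (bL k).2, ?_⟩
    have e : bb hLT bT bL (Sum.inr k) = (bL k : P) := by rw [bb_apply]; rfl
    rw [hV k, Vs_c hLT bT bL hβα, e]
    change (1 : WittVector p R) • _ = _
    rw [one_smul]
  · rw [Submodule.smul_le]
    intro a ha t _
    obtain ⟨w, rfl⟩ := (mem_IV_iff a).1 ha
    refine ⟨D.IV_smul_le (Submodule.smul_mem_smul (W4c1extbt610.verschiebung_mem_IV p R w)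
      Submodule.mem_top), ?_⟩
    rw [D.Vinv_verschiebung_smul, map_smul, Vs_F D hLT bT bL hLQ hβα hF hV, DispBCEx.tmul_smul, one_mul]
    change _ = WittVector.frobenius (WittVector.verschiebung w) • _
    rw [WittVector.frobenius_verschiebung, mul_smul]

include hQ in
theorem isVSharp_Vs : IsVSharp D (Vs hLT bT bL β) where
  app_smul_F w x := by
    rw [map_smul, Vs_F D hLT bT bL hLQ hβα hF hV, BC.tmul_eq_smul_tmul_one (frob p R) w, smul_comm]
  app_smul_Vinv w y := by
    obtain ⟨_, e⟩ := Q_le_goodS D hLT bT bL hQ hLQ hβα hF hV y.2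
    rw [map_smul, e, BC.tmul_eq_smul_tmul_one (frob p R) w]

omit hβα hF hV in
theorem eq_Vs_of_isVSharp (Vs₁ Vs₂ : P →ₗ[WittVector p R] BC (frob p R) P)
    (h₁ : IsVSharp D Vs₁) (h₂ : IsVSharp D Vs₂) : Vs₁ = Vs₂ := by
  refine LinearMap.ext_on D.span_range_Vinv ?_
  rintro _ ⟨y, rfl⟩
  have e₁ := h₁.app_smul_Vinv 1 y
  have e₂ := h₂.app_smul_Vinv 1 y
  rw [one_smul] at e₁ e₂
  rw [e₁, e₂]

end Sharp

section Mat

variable (β)

/-- matrices of the iterates `V^{(n+1)#}`. -/
noncomputable def MM : ℕ → Matrix (ιT ⊕ ιL) (ιT ⊕ ιL) (WittVector p R)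
  | 0 => DB β
  | n + 1 => fun i'' i => ∑ i', frob p R (MM n i'' i') * DB β i' i

theorem vs_basis (n : ℕ) (i : ιT ⊕ ιL) :
    vSharpPow (Vs hLT bT bL β) n (bb hLT bT bL i) =
      ∑ i', MM β n i' i • BC.tmul ((frob p R) ^ (n + 1)) 1 (bb hLT bT bL i') := by
  induction n generalizing i with
  | zero =>
    rw [vSharpPow_zero_apply, Vs_basis, map_sum]
    refine Finset.sum_congr rfl fun i' _ => ?_
    rw [map_smul, BC.castHom_tmul]
    rfl
  | succ n ih =>
    rw [vSharpPow_succ_eq, LinearMap.comp_apply, Vs_basis, map_sum]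
    simp only [map_smul, contC_tmul, ih, map_sum, LinearMap.map_smulₛₗ, pushC_tmul, map_one,
      Finset.smul_sum, smul_smul]
    rw [Finset.sum_comm]
    refine Finset.sum_congr rfl fun i'' _ => ?_
    rw [← Finset.sum_smul]
    congr 1
    change _ = ∑ i', frob p R (MM β n i'' i') * DB β i' i
    refine Finset.sum_congr rfl fun i' _ => ?_
    ring

theorem nil_iff (n : ℕ) (J : Ideal (WittVector p R)) :
    (∀ x : P, vSharpPow (Vs hLT bT bL β) n x ∈
      J • (⊤ : Submodule (WittVector p R) (BC ((frob p R) ^ (n + 1)) P))) ↔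
      ∀ i i', MM β n i' i ∈ J := by
  constructor
  · intro h i i'
    have h1 := (mem_smul_top_iff ((frob p R) ^ (n + 1)) (bb hLT bT bL) J _).mp (h (bb hLT bT bL i)) i'
    rwa [vs_basis, coord_sum] at h1
  · intro h x
    rw [← (bb hLT bT bL).sum_repr x, map_sum]
    refine Submodule.sum_mem _ fun i _ => ?_
    rw [map_smul]
    refine Submodule.smul_mem _ _ ?_
    rw [mem_smul_top_iff ((frob p R) ^ (n + 1)) (bb hLT bT bL) J]
    intro i'
    rw [vs_basis, coord_sum]
    exact h i i'

end Mat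

section Red

variable (p R) in
/-- `W(R) → R/p`. -/
noncomputable def rho : WittVector p R →+* R ⧸ Ideal.span {(p : R)} :=
  (Ideal.Quotient.mk (Ideal.span {(p : R)})).comp WittVector.constantCoeff

theorem rho_apply (a : WittVector p R) : rho p R a = Ideal.Quotient.mk _ (a.coeff 0) := rfl

theorem rho_p : rho p R (p : WittVector p R) = 0 := by
  rw [map_natCast]
  rw [← map_natCast (Ideal.Quotient.mk (Ideal.span {(p : R)}))]
  exact Ideal.Quotient.eq_zero_iff_mem.mpr (Ideal.subset_span rfl)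

theorem rho_eq_zero_iff (a : WittVector p R) :
    rho p R a = 0 ↔ a ∈ W4c1extbt610.IV p R ⊔ Ideal.span {(p : WittVector p R)} := by
  constructor
  · intro h
    rw [rho_apply, Ideal.Quotient.eq_zero_iff_mem, Ideal.mem_span_singleton'] at h
    obtain ⟨r, hr⟩ := h
    have h0 : (WittVector.constantCoeff : WittVector p R →+* R)
        (a - (p : WittVector p R) * WittVector.teichmuller p r) = 0 := by
      rw [map_sub, map_mul, map_natCast]
      change a.coeff 0 - (p : R) * (WittVector.teichmuller p r).coeff 0 = 0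
      rw [WittVector.teichmuller_coeff_zero, ← hr]; ring
    obtain ⟨u, hu⟩ := DispBC.exists_verschiebung_of_constantCoeff _ h0
    have : a = WittVector.verschiebung u + (p : WittVector p R) * WittVector.teichmuller p r := by
      rw [← hu]; ring
    rw [this]
    exact Submodule.add_mem_sup (W4c1extbt610.verschiebung_mem_IV p R u)
      (Ideal.mul_mem_right _ _ (Ideal.subset_span rfl))
  · intro h
    obtain ⟨v, hv, c, hc, rfl⟩ := Submodule.mem_sup.mp h
    obtain ⟨w, rfl⟩ := (mem_IV_iff v).1 hv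
    obtain ⟨y, rfl⟩ := Ideal.mem_span_singleton'.mp hc
    rw [map_add, map_mul, rho_p, mul_zero, add_zero, rho_apply, WittVector.verschiebung_coeff_zero,
      map_zero]

theorem rho_frob (a : WittVector p R) : rho p R (frob p R a) = rho p R a ^ p := by
  rw [rho_apply, rho_apply]
  change Ideal.Quotient.mk _ ((WittVector.frobenius a).coeff 0) = _
  rw [WittVector.coeff_frobenius, WittVector.frobeniusPoly, map_add, map_pow, MvPolynomial.aeval_X,
    map_mul, MvPolynomial.aeval_C, map_add, map_mul, map_pow]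
  have : Ideal.Quotient.mk (Ideal.span {(p : R)}) ((algebraMap ℤ R) (p : ℤ)) = 0 := by
    rw [Ideal.Quotient.eq_zero_iff_mem]
    simp only [algebraMap_int_eq, eq_intCast, Int.cast_natCast]
    exact Ideal.subset_span rfl
  rw [this, zero_mul, add_zero]

variable (β)

/-- reduction of `MM`. -/
noncomputable def NN (n : ℕ) : Matrix (ιT ⊕ ιL) (ιT ⊕ ιL) (R ⧸ Ideal.span {(p : R)}) :=
  fun i' i => rho p R (MM β n i' i)

/-- the block `B`. -/
noncomputable def BB : Matrix ιL ιL (R ⧸ Ideal.span {(p : R)}) :=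
  Matrix.of fun k l : ιL =>
    Ideal.Quotient.mk (Ideal.span {(p : R)}) (WittVector.constantCoeff (β (Sum.inr k) (Sum.inr l)))

/-- twisted products of `B`. -/
noncomputable def Bn : ℕ → Matrix ιL ιL (R ⧸ Ideal.span {(p : R)})
  | 0 => BB β
  | n + 1 => ((Bn n).map fun x => x ^ p) * BB β

theorem NN_zero_inl (j : ιT) (i : ιT ⊕ ιL) : NN β 0 (Sum.inl j) i = 0 := by
  change rho p R ((p : WittVector p R) * β (Sum.inl j) i) = 0
  rw [map_mul, rho_p, zero_mul]

theorem NN_zero_inr (k : ιL) (i : ιT ⊕ ιL) : NN β 0 (Sum.inr k) i = rho p R (β (Sum.inr k) i) := by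
  change rho p R ((1 : WittVector p R) * β (Sum.inr k) i) = _
  rw [one_mul]

theorem NN_succ (n : ℕ) (i'' i : ιT ⊕ ιL) :
    NN β (n + 1) i'' i = ∑ i', (NN β n i'' i') ^ p * NN β 0 i' i := by
  change rho p R (∑ i', frob p R (MM β n i'' i') * DB β i' i) = _
  rw [map_sum]
  refine Finset.sum_congr rfl fun i' _ => ?_
  rw [map_mul, rho_frob]
  rfl

theorem NN_succ' (n : ℕ) (i'' i : ιT ⊕ ιL) :
    NN β (n + 1) i'' i = ∑ k' : ιL, (NN β n i'' (Sum.inr k')) ^ p * rho p R (β (Sum.inr k') i) := by
  rw [NN_succ, Fintype.sum_sum_type]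
  simp only [NN_zero_inl, mul_zero, Finset.sum_const_zero, zero_add, NN_zero_inr]

theorem NN_inl (n : ℕ) (j : ιT) (i : ιT ⊕ ιL) : NN β n (Sum.inl j) i = 0 := by
  induction n generalizing i with
  | zero => exact NN_zero_inl β j i
  | succ n ih =>
    rw [NN_succ']
    refine Finset.sum_eq_zero fun k' _ => ?_
    rw [ih, zero_pow (Fact.out : p.Prime).ne_zero, zero_mul]

theorem NN_inr_inr (n : ℕ) (k l : ιL) : NN β n (Sum.inr k) (Sum.inr l) = Bn β n k l := by
  induction n generalizing k l with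
  | zero => rw [NN_zero_inr]; rfl
  | succ n ih =>
    rw [NN_succ']
    change _ = (((Bn β n).map fun x => x ^ p) * BB β) k l
    rw [Matrix.mul_apply]
    refine Finset.sum_congr rfl fun k' _ => ?_
    rw [ih]
    rfl

theorem NN_eq_zero_of_Bn (n : ℕ) (h : Bn β n = 0) : ∀ i' i, NN β (n + 1) i' i = 0 := by
  intro i' i
  cases i' with
  | inl j => exact NN_inl β _ j i
  | inr k =>
    rw [NN_succ']
    refine Finset.sum_eq_zero fun k' _ => ?_
    rw [NN_inr_inr, h, Matrix.zero_apply, zero_pow (Fact.out : p.Prime).ne_zero, zero_mul]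

end Red

section Final

variable (β)

theorem listprod_charP [CharP (R ⧸ Ideal.span {(p : R)}) p] (n : ℕ) :
    ((List.range (n + 1)).reverse.map fun i : ℕ =>
      (BB β).map fun x : R ⧸ Ideal.span {(p : R)} => x ^ p ^ i).prod = Bn β n := by
  set φ : Matrix ιL ιL (R ⧸ Ideal.span {(p : R)}) →+* Matrix ιL ιL (R ⧸ Ideal.span {(p : R)}) :=
    (frobenius (R ⧸ Ideal.span {(p : R)}) p).mapMatrix with hφ
  set g : ℕ → Matrix ιL ιL (R ⧸ Ideal.span {(p : R)}) :=
    fun i => (BB β).map fun x : R ⧸ Ideal.span {(p : R)} => x ^ p ^ i with hg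
  have g_succ : ∀ i, g (i + 1) = φ (g i) := by
    intro i
    ext k l
    simp only [hg, hφ, Matrix.map_apply, RingHom.mapMatrix_apply, frobenius_def, pow_succ, pow_mul]
  have g_zero : g 0 = BB β := by
    ext k l
    simp only [hg, Matrix.map_apply, pow_zero, pow_one]
  have φ_apply : ∀ A, φ A = A.map fun x => x ^ p := by
    intro A
    ext k l
    simp only [hφ, Matrix.map_apply, RingHom.mapMatrix_apply, frobenius_def]
  induction n with
  | zero =>
    simp only [zero_add, List.range_one, List.reverse_cons, List.reverse_nil, List.nil_append,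
      List.map_cons, List.map_nil, List.prod_cons, List.prod_nil, mul_one]
    exact g_zero
  | succ n ih =>
    rw [List.range_succ_eq_map, List.reverse_cons, List.map_append, List.prod_append, ← List.map_reverse,
      List.map_map]
    have : (g ∘ Nat.succ) = φ ∘ g := by funext i; exact g_succ i
    rw [this, ← List.map_map, ← map_list_prod, ih]
    simp only [List.map_cons, List.map_nil, List.prod_cons, List.prod_nil, mul_one, g_zero, φ_apply]
    rfl

theorem listprod (hp : IsNilpotent (p : R)) (n : ℕ) :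
    ((List.range (n + 1)).reverse.map fun i : ℕ =>
      (BB β).map fun x : R ⧸ Ideal.span {(p : R)} => x ^ p ^ i).prod = Bn β n := by
  rcases subsingleton_or_nontrivial R with hR | hR
  · have : Subsingleton (R ⧸ Ideal.span {(p : R)}) :=
      Function.Surjective.subsingleton (Ideal.Quotient.mk_surjective (I := Ideal.span {(p : R)}))
    exact Subsingleton.elim _ _
  · have hnu : (p : R) ∈ nonunits R := by
      intro hu
      obtain ⟨e, he⟩ := hp
      have := hu.pow e
      rw [he] at this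
      exact not_isUnit_zero this
    have := CharP.quotient R p hnu
    exact listprod_charP β n

end Final

theorem main (p : ℕ) [Fact p.Prime] (R : Type u) [CommRing R]
    (hp : IsNilpotent (p : R))
    (P : Type v) [AddCommGroup P] [Module (WittVector p R) P] (D : W4c1extbt610.Display3n p R P)
    (L T : Submodule (WittVector p R) P) (hLT : IsCompl L T)
    (hQ : D.Q = L ⊔ W4c1extbt610.IV p R • T) (hLQ : L ≤ D.Q)
    (ιT ιL : Type w) [Fintype ιT] [Fintype ιL] [DecidableEq ιT] [DecidableEq ιL]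
    (bT : Module.Basis ιT (WittVector p R) T) (bL : Module.Basis ιL (WittVector p R) L)
    (α β : Matrix (ιT ⊕ ιL) (ιT ⊕ ιL) (WittVector p R)) (hβα : β * α = 1)
    (hF : ∀ j : ιT, D.F (bT j : P) =
      Finset.univ.sum fun i : ιT ⊕ ιL => α i (Sum.inl j) • Sum.elim (fun a : ιT => (bT a : P)) (fun a : ιL => (bL a : P)) i)
    (hV : ∀ k : ιL, D.Vinv ⟨(bL k : P), hLQ (bL k).2⟩ =
      Finset.univ.sum fun i : ιT ⊕ ιL => α i (Sum.inr k) • Sum.elim (fun a : ιT => (bT a : P)) (fun a : ιL => (bL a : P)) i) :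
    Dieu.IsDisplay D ↔
      ∃ N : ℕ, 0 < N ∧
        (((List.range N).reverse.map fun i : ℕ =>
            (Matrix.of fun k l : ιL =>
                Ideal.Quotient.mk (Ideal.span {(p : R)}) (WittVector.constantCoeff (β (Sum.inr k) (Sum.inr l)))).map
              fun x : R ⧸ Ideal.span {(p : R)} => x ^ p ^ i).prod
          = 0) := by
  have hF' : ∀ j : ιT, D.F (bT j : P) = ∑ i, α i (Sum.inl j) • bb hLT bT bL i := by
    intro j
    rw [hF j]
    exact Finset.sum_congr rfl fun i _ => by rw [bb_apply]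
  have hV' : ∀ k : ιL, D.Vinv ⟨(bL k : P), hLQ (bL k).2⟩ = ∑ i, α i (Sum.inr k) • bb hLT bT bL i := by
    intro k
    rw [hV k]
    exact Finset.sum_congr rfl fun i _ => by rw [bb_apply]
  have hsharp := isVSharp_Vs D hLT bT bL hQ hLQ hβα hF' hV'
  constructor
  · rintro ⟨Vs', hVs', n, hn⟩
    have e := eq_Vs_of_isVSharp D Vs' _ hVs' hsharp
    subst e
    have h1 := (nil_iff hLT bT bL β n _).mp hn
    have h2 : ∀ i' i, NN β n i' i = 0 := fun i' i => (rho_eq_zero_iff _).mpr (h1 i i')
    refine ⟨n + 1, Nat.succ_pos n, ?_⟩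
    have h3 := listprod β hp n
    change _ = Bn β n at h3
    change ((List.range (n + 1)).reverse.map fun i : ℕ =>
      (BB β).map fun x : R ⧸ Ideal.span {(p : R)} => x ^ p ^ i).prod = 0
    rw [h3]
    ext k l
    rw [← NN_inr_inr, h2, Matrix.zero_apply]
  · rintro ⟨N, hN, h⟩
    obtain ⟨n, rfl⟩ : ∃ n, N = n + 1 := ⟨N - 1, by omega⟩
    have h3 := listprod β hp n
    change ((List.range (n + 1)).reverse.map fun i : ℕ =>
      (BB β).map fun x : R ⧸ Ideal.span {(p : R)} => x ^ p ^ i).prod = 0 at h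
    rw [h3] at h
    have h2 := NN_eq_zero_of_Bn β n h
    refine ⟨Vs hLT bT bL β, hsharp, n + 1, ?_⟩
    refine (nil_iff hLT bT bL β (n + 1) _).mpr fun i i' => ?_
    exact (rho_eq_zero_iff _).mp (h2 i' i)

end Main

end Groth.Agent.Helper8.DispMat
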