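import Groth.Agent.Helper8.DispPow
import Mathlib.RingTheory.WittVector.Truncated
import Mathlib.RingTheory.WittVector.Domain

universe u v
open Dieu

namespace Groth.Agent.Helper8.DispNil
open Groth.Agent.Helper8.BCLib Groth.Agent.Helper8.DispPow

section General
variable {A : Type u} [CommRing A]
variable {P : Type v} [AddCommGroup P] [Module A P]

lemma pushC_mem (g h k : A →+* A) (e : h.comp g = k) (𝔞 : Ideal A) (u : BC g P)
    (hu : u ∈ 𝔞 • (⊤ : Submodule A (BC g P))) :
    pushC g h k e u ∈ (𝔞.map h) • (⊤ : Submodule A (BC k P)) := by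
  refine Submodule.smul_induction_on hu ?_ ?_
  · intro a ha m _
    rw [map_smulₛₗ]
    exact Submodule.smul_mem_smul (Ideal.mem_map_of_mem h ha) Submodule.mem_top
  · intro x y hx hy
    rw [map_add]
    exact Submodule.add_mem _ hx hy

lemma contC_mem_aux (τ κ ρ : A →+* A) (e : κ.comp τ = ρ) (U : P →ₗ[A] BC τ P) (𝔞 : Ideal A)
    (hU : ∀ x, U x ∈ 𝔞 • (⊤ : Submodule A (BC τ P))) (z : BC κ P) :
    contC τ κ ρ e U z ∈ (𝔞.map κ) • (⊤ : Submodule A (BC ρ P)) := by
  induction z using BC.induction_on κ with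
  | zero => rw [map_zero]; exact Submodule.zero_mem _
  | tmul w x =>
    rw [contC_tmul]
    exact Submodule.smul_mem _ _ (pushC_mem τ κ ρ e 𝔞 _ (hU x))
  | add z₁ z₂ h₁ h₂ => rw [map_add]; exact Submodule.add_mem _ h₁ h₂

lemma contC_mem (τ κ ρ : A →+* A) (e : κ.comp τ = ρ) (U : P →ₗ[A] BC τ P) (𝔞 𝔟 : Ideal A)
    (hU : ∀ x, U x ∈ 𝔞 • (⊤ : Submodule A (BC τ P))) (z : BC κ P)
    (hz : z ∈ 𝔟 • (⊤ : Submodule A (BC κ P))) :
    contC τ κ ρ e U z ∈ (𝔟 * 𝔞.map κ) • (⊤ : Submodule A (BC ρ P)) := by
  rw [Submodule.mul_smul]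
  refine Submodule.smul_induction_on hz ?_ ?_
  · intro b hb m _
    rw [map_smul]
    exact Submodule.smul_mem_smul hb (contC_mem_aux τ κ ρ e U 𝔞 hU m)
  · intro x y hx hy
    rw [map_add]
    exact Submodule.add_mem _ hx hy

end General

variable {p : ℕ} [Fact p.Prime] {R : Type u} [CommRing R]
variable {P : Type v} [AddCommGroup P] [Module (WittVector p R) P]

local notation "σ" => frob p R

lemma frob_pow_apply_verschiebung (n : ℕ) (w : WittVector p R) :
    (σ ^ (n + 1)) (WittVector.verschiebung w) = (p : WittVector p R) * (σ ^ n) w := by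
  rw [pow_succ, RingHom.mul_def, RingHom.comp_apply]
  change (σ ^ n) (WittVector.frobenius (WittVector.verschiebung w)) = _
  rw [WittVector.frobenius_verschiebung, map_mul, map_natCast, mul_comm]

lemma map_frob_pow_le (n : ℕ) :
    (W4c1extbt610.IV p R ⊔ Ideal.span {(p : WittVector p R)}).map (σ ^ (n + 1)) ≤
      Ideal.span {(p : WittVector p R)} := by
  rw [Ideal.map_sup, sup_le_iff]
  constructor
  · unfold W4c1extbt610.IV
    rw [Ideal.map_span, Ideal.span_le]
    rintro _ ⟨_, ⟨w, rfl⟩, rfl⟩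
    rw [frob_pow_apply_verschiebung]
    exact Ideal.mul_mem_right _ _ (Ideal.subset_span rfl)
  · rw [Ideal.map_span, Ideal.span_le]
    rintro _ ⟨_, rfl, rfl⟩
    rw [map_natCast]
    exact Ideal.subset_span rfl

lemma exists_pow_bound (Vs : P →ₗ[WittVector p R] BC σ P) (hnil : IsVNilpotent Vs) (k : ℕ) :
    ∃ N : ℕ, ∀ x : P, vSharpPow Vs N x ∈
      (Ideal.span {(p : WittVector p R)} ^ k) •
        (⊤ : Submodule (WittVector p R) (BC (σ ^ (N + 1)) P)) := by
  obtain ⟨n₀, hn₀⟩ := hnil
  induction k with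
  | zero =>
    refine ⟨0, fun x => ?_⟩
    rw [pow_zero, Ideal.one_eq_top, Submodule.top_smul]
    exact Submodule.mem_top
  | succ k ih =>
    obtain ⟨N, hN⟩ := ih
    refine ⟨n₀ + N + 1, fun x => ?_⟩
    rw [block Vs n₀ N, LinearMap.comp_apply]
    have := contC_mem (σ ^ (n₀ + 1)) (σ ^ (N + 1)) (σ ^ (n₀ + N + 1 + 1)) (pow_comp_pow n₀ N)
      (vSharpPow Vs n₀) _ _ hn₀ (vSharpPow Vs N x) (hN x)
    refine Submodule.smul_mono_left ?_ this
    rw [pow_succ]
    exact Ideal.mul_mono_right (map_frob_pow_le N)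

lemma frobenius_iterate_natCast_pow (j r : ℕ) :
    (WittVector.frobenius^[j]) ((p : WittVector p R) ^ r) = (p : WittVector p R) ^ r := by
  induction j with
  | zero => rfl
  | succ j ih => rw [Function.iterate_succ_apply', ih, map_pow, map_natCast]

lemma p_pow_coeff_eq_zero (r : ℕ) (hr : (p : R) ^ r = 0) :
    ∀ j i, i < j → ((p : WittVector p R) ^ (r * j)).coeff i = 0 := by
  intro j
  induction j with
  | zero => intro i hi; omega
  | succ j ih =>
    intro i hi
    have h1 := WittVector.eq_iterate_verschiebung (x := (p : WittVector p R) ^ (r * j)) (n := j) ih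
    have h2 : (p : WittVector p R) ^ (r * (j + 1)) =
        WittVector.verschiebung^[j]
          ((((p : WittVector p R) ^ (r * j)).shift j) * (p : WittVector p R) ^ r) := by
      calc (p : WittVector p R) ^ (r * (j + 1))
          = (p : WittVector p R) ^ (r * j) * (p : WittVector p R) ^ r := by
            rw [Nat.mul_succ, pow_add]
        _ = WittVector.verschiebung^[j] (((p : WittVector p R) ^ (r * j)).shift j) *
              (p : WittVector p R) ^ r := by rw [← h1]
        _ = _ := by
            rw [WittVector.iterate_verschiebung_mul_left, frobenius_iterate_natCast_pow]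
    rw [h2]
    rcases Nat.lt_succ_iff_lt_or_eq.1 hi with hlt | rfl
    · exact WittVector.iterate_verschiebung_coeff_eq_zero _ hlt
    · have := WittVector.iterate_verschiebung_coeff
        ((((p : WittVector p R) ^ (r * i)).shift i) * (p : WittVector p R) ^ r) i 0
      rw [zero_add] at this
      rw [this, WittVector.mul_coeff_zero]
      have hc : ((p : WittVector p R) ^ r).coeff 0 = 0 := by
        change WittVector.constantCoeff ((p : WittVector p R) ^ r) = 0
        rw [map_pow, map_natCast, hr]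
      rw [hc, mul_zero]

theorem main (p : ℕ) [Fact p.Prime]
    (R : Type u) [CommRing R] (hp : IsNilpotent (p : R))
    (P : Type v) [AddCommGroup P] [Module (WittVector p R) P]
    (Vs : P →ₗ[WittVector p R] Dieu.BC (WittVector.frobenius : WittVector p R →+* WittVector p R) P)
    (hnil : Dieu.IsVNilpotent Vs) (n : ℕ) :
    ∃ N : ℕ, ∀ x : P, Dieu.vSharpPow Vs N x ∈
      (RingHom.ker (WittVector.truncate (p := p) (R := R) n)) •
        (⊤ : Submodule (WittVector p R) (Dieu.BC ((WittVector.frobenius : WittVector p R →+* WittVector p R) ^ (N + 1)) P)) := by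
  obtain ⟨r, hr⟩ := hp
  obtain ⟨N, hN⟩ := exists_pow_bound Vs hnil (r * n)
  refine ⟨N, fun x => ?_⟩
  refine Submodule.smul_mono_left ?_ (hN x)
  rw [Ideal.span_singleton_pow, Ideal.span_le, Set.singleton_subset_iff, SetLike.mem_coe,
    WittVector.mem_ker_truncate]
  exact p_pow_coeff_eq_zero r hr n

end Groth.Agent.Helper8.DispNil
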