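import Groth.Prelude.Def_Disp2
import Mathlib.Algebra.Module.Submodule.Pointwise
import Mathlib.RingTheory.Ideal.Operations

universe u v
open Dieu

namespace Groth.Agent.Helper8.DispPerf

section Retract
variable {A : Type u} [CommRing A] {M : Type v} [AddCommGroup M] [Module A M]
variable (τ τinv : A →+* A) (hinv : ∀ a, τinv (τ a) = a)

/-- bilinear map for the retraction `w ⊗ m ↦ τ⁻¹ w • m` -/
noncomputable def retrBil : Res τ →ₗ[A] M →ₗ[A] M :=
  LinearMap.mk₂ A (fun t m => τinv t.val • m)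
    (fun s t m => by rw [Res.val_add, map_add, add_smul])
    (fun a t m => by rw [Res.val_smul, map_mul, hinv, mul_smul])
    (fun t m n => smul_add _ _ _)
    (fun a t m => smul_comm _ _ _)

/-- the retraction `BC τ M → M`, `w ⊗ m ↦ τ⁻¹ w • m` -/
noncomputable def retr : BC τ M →+ M :=
  (TensorProduct.lift (retrBil (M := M) τ τinv hinv)).toAddMonoidHom

lemma retr_tmul (w : A) (m : M) : retr τ τinv hinv (BC.tmul τ w m) = τinv w • m := by
  change TensorProduct.lift (retrBil (M := M) τ τinv hinv) (TensorProduct.tmul A (Res.mk τ w) m) = _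
  rw [TensorProduct.lift.tmul]
  rfl

lemma retr_smul (c : A) (z : BC τ M) :
    retr τ τinv hinv (c • z) = τinv c • retr τ τinv hinv z := by
  induction z using BC.induction_on τ with
  | zero => rw [smul_zero, map_zero, smul_zero]
  | tmul w m => rw [BC.smul_tmul, retr_tmul, retr_tmul, map_mul, mul_smul]
  | add z₁ z₂ h₁ h₂ => rw [smul_add, map_add, map_add, h₁, h₂, smul_add]

include hinv in
lemma mem_of_tmul_mem (y : M) (a : A) (ha : τinv a = a)
    (h : BC.tmul τ 1 y ∈ Ideal.span {a} • (⊤ : Submodule A (BC τ M))) :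
    y ∈ Ideal.span {a} • (⊤ : Submodule A M) := by
  rw [Submodule.ideal_span_singleton_smul, Submodule.mem_smul_pointwise_iff_exists] at h ⊢
  obtain ⟨z, -, hz⟩ := h
  refine ⟨retr τ τinv hinv z, Submodule.mem_top, ?_⟩
  have := congrArg (retr τ τinv hinv) hz
  rw [retr_smul, retr_tmul, map_one, one_smul, ha] at this
  exact this

end Retract


section Perfect
variable {p : ℕ} [Fact p.Prime] {k : Type u} [CommRing k] [CharP k p] [PerfectRing k p]
variable {M : Type v} [AddCommGroup M] [Module (WittVector p k) M]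

/-- Frobenius -/
noncomputable abbrev fr (p : ℕ) [Fact p.Prime] (k : Type u) [CommRing k] :
    WittVector p k →+* WittVector p k := WittVector.frobenius

/-- inverse Frobenius -/
noncomputable abbrev frinv (p : ℕ) [Fact p.Prime] (k : Type u) [CommRing k] [CharP k p]
    [PerfectRing k p] : WittVector p k →+* WittVector p k :=
  ((WittVector.frobeniusEquiv p k).symm : WittVector p k →+* WittVector p k)

lemma frinv_fr (a : WittVector p k) : frinv p k (fr p k a) = a :=
  (WittVector.frobeniusEquiv p k).symm_apply_apply a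

lemma fr_frinv (a : WittVector p k) : fr p k (frinv p k a) = a :=
  (WittVector.frobeniusEquiv p k).apply_symm_apply a

lemma pow_inv (n : ℕ) : ∀ a : WittVector p k, (frinv p k ^ n) ((fr p k ^ n) a) = a := by
  induction n with
  | zero => intro a; rfl
  | succ n ih =>
    intro a
    rw [pow_succ' (frinv p k), pow_succ (fr p k)]
    change frinv p k ((frinv p k ^ n) ((fr p k ^ n) (fr p k a))) = a
    rw [ih, frinv_fr]

lemma IV_le : W4c1extbt610.IV p k ≤ Ideal.span {(p : WittVector p k)} := by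
  unfold W4c1extbt610.IV
  rw [Ideal.span_le]
  rintro _ ⟨w, rfl⟩
  have : WittVector.verschiebung w = frinv p k w * (p : WittVector p k) := by
    rw [← WittVector.verschiebung_frobenius]
    congr 1
    exact (fr_frinv w).symm
  rw [this]
  exact Ideal.mul_mem_left _ _ (Ideal.subset_span rfl)

variable (Dm : DieuMod p k M)

lemma V_iter_smul (j e : ℕ) (x : M) :
    (⇑Dm.V)^[j] ((p : WittVector p k) ^ e • x) = (p : WittVector p k) ^ e • (⇑Dm.V)^[j] x := by
  induction j generalizing x with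
  | zero => rfl
  | succ j ih =>
    rw [Function.iterate_succ_apply, Function.iterate_succ_apply, map_smulₛₗ, map_pow,
      map_natCast, ih]

lemma mem_iff (e : ℕ) (x : M) :
    x ∈ (Ideal.span {(p : WittVector p k)} ^ e) • (⊤ : Submodule (WittVector p k) M) ↔
      ∃ x' : M, x = (p : WittVector p k) ^ e • x' := by
  rw [Ideal.span_singleton_pow, Submodule.ideal_span_singleton_smul,
    Submodule.mem_smul_pointwise_iff_exists]
  constructor
  · rintro ⟨x', -, h⟩; exact ⟨x', h.symm⟩
  · rintro ⟨x', h⟩; exact ⟨x', Submodule.mem_top, h.symm⟩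

lemma vTopNilp_of (n : ℕ)
    (h1 : ∀ m : M, ∃ x' : M, (⇑Dm.V)^[n + 1] m = (p : WittVector p k) • x') : Dm.VTopNilp := by
  intro e
  refine ⟨(n + 1) * e, fun m => ?_⟩
  rw [mem_iff]
  induction e generalizing m with
  | zero => exact ⟨m, by rw [Nat.mul_zero, pow_zero, one_smul]; rfl⟩
  | succ e ih =>
    obtain ⟨x₁, hx₁⟩ := h1 m
    obtain ⟨x₂, hx₂⟩ := ih x₁
    refine ⟨x₂, ?_⟩
    rw [Nat.mul_succ, Function.iterate_add_apply, hx₁]
    have := V_iter_smul Dm ((n + 1) * e) 1 x₁
    rw [pow_one] at this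
    rw [this, hx₂, pow_succ, mul_smul, smul_comm]

/-- the operator `V^#` of a Dieudonné module -/
noncomputable def Vs0 : M →ₗ[WittVector p k] BC (fr p k) M where
  toFun m := BC.tmul (fr p k) 1 (Dm.V m)
  map_add' x y := by rw [map_add, BC.tmul_add]
  map_smul' w m := by
    rw [map_smulₛₗ, RingHom.id_apply, ← BC.tmul_apply_eq]
    change BC.tmul (fr p k) (fr p k (frinv p k w)) (Dm.V m) = _
    rw [fr_frinv, BC.tmul_eq_smul_tmul_one]

lemma Vs0_apply (m : M) : Vs0 Dm m = BC.tmul (fr p k) 1 (Dm.V m) := rfl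

lemma vSharpPow_eq (Vs : M →ₗ[WittVector p k] BC (fr p k) M)
    (hVs : ∀ m, Vs m = BC.tmul (fr p k) 1 (Dm.V m)) (n : ℕ) :
    ∀ m : M, vSharpPow Vs n m = BC.tmul (fr p k ^ (n + 1)) 1 ((⇑Dm.V)^[n + 1] m) := by
  induction n with
  | zero =>
    intro m
    rw [vSharpPow_zero_apply, hVs, BC.castHom_tmul]
    rfl
  | succ n ih =>
    intro m
    rw [vSharpPow_succ_apply, hVs, BC.map_tmul, ih, BC.lift_tmul, BC.push_tmul, one_smul,
      BC.castHom_tmul, map_one, Function.iterate_succ_apply (⇑Dm.V) (n + 1)]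


theorem main (p : ℕ) [Fact p.Prime] (k : Type u) [CommRing k]
    [CharP k p] [PerfectRing k p]
    (M : Type v) [AddCommGroup M] [Module (WittVector p k) M]
    (Dm : Dieu.DieuMod p k M) (D : W4c1extbt610.Display3n p k M)
    (hF : D.F = Dm.F) (hQ : ∀ x : M, x ∈ D.Q ↔ x ∈ Set.range Dm.V)
    (hV : ∀ (m : M) (h : Dm.V m ∈ D.Q), D.Vinv ⟨Dm.V m, h⟩ = m) :
    Dieu.IsDisplay D ↔ Dm.VTopNilp := by
  have hp_inv : ∀ n : ℕ, (frinv p k ^ n) (p : WittVector p k) = (p : WittVector p k) :=
    fun n => map_natCast _ _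
  constructor
  · rintro ⟨Vs, hVs, n, hn⟩
    have hVs' : ∀ m, Vs m = BC.tmul (fr p k) 1 (Dm.V m) := by
      intro m
      have hm : Dm.V m ∈ D.Q := (hQ _).2 ⟨m, rfl⟩
      have := hVs.app_smul_Vinv 1 ⟨Dm.V m, hm⟩
      rw [one_smul, hV m hm] at this
      exact this
    apply vTopNilp_of Dm n
    intro m
    have h1 := hn m
    rw [vSharpPow_eq Dm Vs hVs' n m] at h1
    have h2 : BC.tmul (fr p k ^ (n + 1)) 1 ((⇑Dm.V)^[n + 1] m) ∈
        Ideal.span {(p : WittVector p k)} •
          (⊤ : Submodule (WittVector p k) (BC (fr p k ^ (n + 1)) M)) :=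
      Submodule.smul_mono_left (sup_le IV_le le_rfl) h1
    have h3 := mem_of_tmul_mem (fr p k ^ (n + 1)) (frinv p k ^ (n + 1)) (pow_inv (n + 1))
      _ _ (hp_inv (n + 1)) h2
    have h4 := (mem_iff (p := p) (k := k) 1 ((⇑Dm.V)^[n + 1] m)).1 (by rwa [pow_one])
    rwa [pow_one] at h4
  · intro h
    obtain ⟨n, hn⟩ := h 1
    refine ⟨Vs0 Dm, ⟨?_, ?_⟩, n, ?_⟩
    · intro w x
      rw [map_smul, Vs0_apply, hF, Dm.V_F, ← BC.tmul_apply_eq, map_natCast,
        BC.tmul_eq_smul_tmul_one (fr p k) (p : WittVector p k), smul_comm,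
        ← BC.tmul_eq_smul_tmul_one]
    · intro w y
      obtain ⟨m, hm⟩ := (hQ _).1 y.2
      have hy : y = ⟨Dm.V m, hm ▸ y.2⟩ := Subtype.ext hm.symm
      rw [hy, hV, map_smul, Vs0_apply, ← BC.tmul_eq_smul_tmul_one]
    · intro x
      rw [vSharpPow_eq Dm (Vs0 Dm) (Vs0_apply Dm) n x]
      have h1 : (⇑Dm.V)^[n + 1] x ∈
          (Ideal.span {(p : WittVector p k)} ^ 1) • (⊤ : Submodule (WittVector p k) M) := by
        rw [Function.iterate_succ_apply]
        exact hn _
      obtain ⟨x', hx'⟩ := (mem_iff 1 _).1 h1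
      rw [hx', pow_one, ← BC.tmul_apply_eq, map_natCast, BC.tmul_eq_smul_tmul_one]
      exact Submodule.smul_mem_smul (Ideal.mem_sup_right (Ideal.subset_span rfl))
        Submodule.mem_top

end Perfect

end Groth.Agent.Helper8.DispPerf
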