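import Mathlib

namespace Groth.Agent.Helper8.DoubleIdx

universe u

theorem card_fiber_eq_one {n : ℕ} (f : Fin n → Fin n) (hf : Function.Injective f) (m : Fin n) :
    (Finset.univ.filter fun k => f k = m).card = 1 := by
  have hs : Function.Surjective f := Finite.injective_iff_surjective.mp hf
  obtain ⟨k0, hk0⟩ := hs m
  rw [Finset.card_eq_one]
  refine ⟨k0, ?_⟩
  ext k
  simp only [Finset.mem_filter, Finset.mem_univ, true_and, Finset.mem_singleton]
  constructor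
  · intro h
    exact hf (h.trans hk0.symm)
  · intro h
    rw [h]
    exact hk0

/-- position function for the first index sequence -/
def If (e k : ℕ) : ℕ :=
  if k = 0 then 0 else if k = 1 then e else if k = 2 then 2 * e
  else if k % 2 = 1 then (k - 1) / 2 else (k - 2) / 2 + e

/-- position function for the second index sequence -/
def Jf (e k : ℕ) : ℕ :=
  if k = 0 then e else if k = 1 then 2 * e else if k = 2 then 0
  else if k % 2 = 1 then (k - 1) / 2 + e else (k - 2) / 2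

theorem If_lt (e k : ℕ) (he : 1 ≤ e) (hk : k < 2 * e + 1) : If e k < 2 * e + 1 := by
  unfold If
  split_ifs <;> omega

theorem Jf_lt (e k : ℕ) (he : 1 ≤ e) (hk : k < 2 * e + 1) : Jf e k < 2 * e + 1 := by
  unfold Jf
  split_ifs <;> omega

theorem If_inj (e k k' : ℕ) (he : 1 ≤ e) (hk : k < 2 * e + 1) (hk' : k' < 2 * e + 1)
    (h : If e k = If e k') : k = k' := by
  unfold If at h
  split_ifs at h <;> omega

theorem Jf_inj (e k k' : ℕ) (he : 1 ≤ e) (hk : k < 2 * e + 1) (hk' : k' < 2 * e + 1)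
    (h : Jf e k = Jf e k') : k = k' := by
  unfold Jf at h
  split_ifs at h <;> omega

theorem sep (e k : ℕ) (he : 1 ≤ e) (hk : k < 2 * e + 1) :
    If e k + e ≤ Jf e k ∨ Jf e k + e ≤ If e k := by
  unfold If Jf
  split_ifs <;> omega

theorem hI0 (e : ℕ) : If e 0 = 0 := by simp [If]
theorem hI1 (e : ℕ) : If e 1 = e := by simp [If]
theorem hI2 (e : ℕ) : If e 2 = 2 * e := by simp [If]
theorem hJ0 (e : ℕ) : Jf e 0 = e := by simp [Jf]
theorem hJ1 (e : ℕ) : Jf e 1 = 2 * e := by simp [Jf]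
theorem hJ2 (e : ℕ) : Jf e 2 = 0 := by simp [Jf]

theorem core {α : Type u} [LinearOrder α] (e : ℕ) (he : 1 ≤ e) (x : Fin (2 * e + 1) → α)
    (hx : ∀ a : α, ∀ S : Finset (Fin (2 * e + 1)), (∀ k ∈ S, x k = a) → S.card ≤ e) :
    ∃ i j : Fin (2 * e + 1) → Fin (2 * e + 1),
      Function.Injective i ∧ Function.Injective j ∧ (∀ k, x (i k) ≠ x (j k)) ∧
      i 0 = j 2 ∧ i 1 = j 0 ∧ i 2 = j 1 := by
  have hmono0 : Monotone (x ∘ Tuple.sort x) := Tuple.monotone_sort x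
  obtain ⟨s, hs⟩ : ∃ s : Equiv.Perm (Fin (2 * e + 1)), s = Tuple.sort x := ⟨_, rfl⟩
  rw [← hs] at hmono0
  have hmono : ∀ p q : Fin (2 * e + 1), p ≤ q → x (s p) ≤ x (s q) := fun p q hpq => hmono0 hpq
  have hsep : ∀ p q : Fin (2 * e + 1), p.val + e ≤ q.val → x (s p) ≠ x (s q) := by
    intro p q hpq hxe
    have hall : ∀ k ∈ (Finset.Icc p q).map s.toEmbedding, x k = x (s p) := by
      intro k hk
      rw [Finset.mem_map] at hk
      obtain ⟨r, hr, rfl⟩ := hk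
      rw [Finset.mem_Icc] at hr
      have h1 : x (s p) ≤ x (s r) := hmono p r hr.1
      have h2 : x (s r) ≤ x (s q) := hmono r q hr.2
      show x (s r) = x (s p)
      exact le_antisymm (h2.trans hxe.symm.le) h1
    have hcard := hx (x (s p)) _ hall
    rw [Finset.card_map, Fin.card_Icc] at hcard
    omega
  have hv0 : ((0 : Fin (2 * e + 1)) : ℕ) = 0 := rfl
  have hv1 : ((1 : Fin (2 * e + 1)) : ℕ) = 1 := by
    have : ((1 : Fin (2 * e + 1)) : ℕ) = 1 % (2 * e + 1) := rfl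
    rw [this]; exact Nat.mod_eq_of_lt (by omega)
  have hv2 : ((2 : Fin (2 * e + 1)) : ℕ) = 2 := by
    have : ((2 : Fin (2 * e + 1)) : ℕ) = 2 % (2 * e + 1) := rfl
    rw [this]; exact Nat.mod_eq_of_lt (by omega)
  have hIlt : ∀ k : Fin (2 * e + 1), If e k.val < 2 * e + 1 := fun k => If_lt e k.val he k.isLt
  have hJlt : ∀ k : Fin (2 * e + 1), Jf e k.val < 2 * e + 1 := fun k => Jf_lt e k.val he k.isLt
  refine ⟨fun k => s ⟨If e k.val, hIlt k⟩, fun k => s ⟨Jf e k.val, hJlt k⟩, ?_, ?_, ?_, ?_, ?_, ?_⟩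
  · intro k k' h
    have h' : s ⟨If e k.val, hIlt k⟩ = s ⟨If e k'.val, hIlt k'⟩ := h
    have h1 := s.injective h'
    have h2 : If e k.val = If e k'.val := congrArg Fin.val h1
    exact Fin.ext (If_inj e k.val k'.val he k.isLt k'.isLt h2)
  · intro k k' h
    have h' : s ⟨Jf e k.val, hJlt k⟩ = s ⟨Jf e k'.val, hJlt k'⟩ := h
    have h1 := s.injective h'
    have h2 : Jf e k.val = Jf e k'.val := congrArg Fin.val h1
    exact Fin.ext (Jf_inj e k.val k'.val he k.isLt k'.isLt h2)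
  · intro k
    show x (s ⟨If e k.val, hIlt k⟩) ≠ x (s ⟨Jf e k.val, hJlt k⟩)
    rcases sep e k.val he k.isLt with h | h
    · exact hsep ⟨If e k.val, hIlt k⟩ ⟨Jf e k.val, hJlt k⟩ h
    · exact (hsep ⟨Jf e k.val, hJlt k⟩ ⟨If e k.val, hIlt k⟩ h).symm
  · show s ⟨If e ((0 : Fin (2 * e + 1)) : ℕ), hIlt 0⟩ = s ⟨Jf e ((2 : Fin (2 * e + 1)) : ℕ), hJlt 2⟩
    refine congrArg s (Fin.ext ?_)
    show If e ((0 : Fin (2 * e + 1)) : ℕ) = Jf e ((2 : Fin (2 * e + 1)) : ℕ)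
    rw [hv0, hv2, hI0, hJ2]
  · show s ⟨If e ((1 : Fin (2 * e + 1)) : ℕ), hIlt 1⟩ = s ⟨Jf e ((0 : Fin (2 * e + 1)) : ℕ), hJlt 0⟩
    refine congrArg s (Fin.ext ?_)
    show If e ((1 : Fin (2 * e + 1)) : ℕ) = Jf e ((0 : Fin (2 * e + 1)) : ℕ)
    rw [hv0, hv1, hI1, hJ0]
  · show s ⟨If e ((2 : Fin (2 * e + 1)) : ℕ), hIlt 2⟩ = s ⟨Jf e ((1 : Fin (2 * e + 1)) : ℕ), hJlt 1⟩
    refine congrArg s (Fin.ext ?_)
    show If e ((2 : Fin (2 * e + 1)) : ℕ) = Jf e ((1 : Fin (2 * e + 1)) : ℕ)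
    rw [hv1, hv2, hI2, hJ1]

theorem main {α : Type u} [DecidableEq α] (e : ℕ) (he : 1 ≤ e)
    (x : Fin (2 * e + 1) → α)
    (hx : ∀ a : α, (Finset.univ.filter fun k => x k = a).card ≤ e) :
    ∃ i j : Fin (2 * e + 1) → Fin (2 * e + 1),
      (∀ m : Fin (2 * e + 1),
        (Finset.univ.filter fun k => i k = m).card + (Finset.univ.filter fun k => j k = m).card = 2) ∧
      (∀ k, x (i k) ≠ x (j k)) ∧
      i 0 = j 2 ∧ i 1 = j 0 ∧ i 2 = j 1 := by
  obtain ⟨inst, _⟩ := exists_wellFoundedLT α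
  have hx' : ∀ a : α, ∀ S : Finset (Fin (2 * e + 1)), (∀ k ∈ S, x k = a) → S.card ≤ e := by
    intro a S hS
    refine le_trans (Finset.card_le_card ?_) (hx a)
    intro k hk
    simp only [Finset.mem_filter, Finset.mem_univ, true_and]
    exact hS k hk
  obtain ⟨i, j, hi, hj, hne, h0, h1, h2⟩ := @core α inst e he x hx'
  refine ⟨i, j, ?_, hne, h0, h1, h2⟩
  intro m
  rw [card_fiber_eq_one i hi m, card_fiber_eq_one j hj m]

end Groth.Agent.Helper8.DoubleIdx
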