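import Mathlib
import Groth.Prelude.Def_Canon
import Groth.Prelude.Def_Formal

set_option autoImplicit false
universe u
open CategoryTheory AlgebraicGeometry

namespace Groth.Agent.Helper8.DualUniq

variable (A : Type u) [CommRing A] {X : Scheme.{u}} [X.Over (Spec (CommRingCat.of A))]

lemma HHlin_id (F : X.Modules) (r : ℕ) : Canon.HHlin A (𝟙 F) r = LinearMap.id := by
  refine LinearMap.ext fun x => ?_
  change Sheaf.H.map ((SheafOfModules.toSheaf _).map (𝟙 F)) r x = x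
  have e : (SheafOfModules.toSheaf X.ringCatSheaf).map (𝟙 F) = 𝟙 _ :=
    CategoryTheory.Functor.map_id _ _
  exact (congrArg (fun g => Sheaf.H.map g r x) e).trans (Sheaf.H.map_id_apply x)

lemma HHlin_comp {F G H : X.Modules} (φ : F ⟶ G) (ψ : G ⟶ H) (r : ℕ) :
    Canon.HHlin A (φ ≫ ψ) r = Canon.HHlin A ψ r ∘ₗ Canon.HHlin A φ r := by
  refine LinearMap.ext fun x => ?_
  change Sheaf.H.map ((SheafOfModules.toSheaf _).map (φ ≫ ψ)) r x =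
    Sheaf.H.map ((SheafOfModules.toSheaf _).map ψ) r
      (Sheaf.H.map ((SheafOfModules.toSheaf _).map φ) r x)
  exact (Formal.HHmap_comp φ ψ r x).symm

theorem main (r : ℕ) (ω ω' : X.Modules) (tr : Coh.HH X ω r →ₗ[A] A) (tr' : Coh.HH X ω' r →ₗ[A] A)
    (h : Canon.IsRDualOver A X r ω tr) (h' : Canon.IsRDualOver A X r ω' tr') :
    (∃! ρ : ω' ⟶ ω, tr ∘ₗ Canon.HHlin A ρ r = tr') ∧
      ∀ ρ : ω' ⟶ ω, tr ∘ₗ Canon.HHlin A ρ r = tr' → IsIso ρ := by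
  have hb := h.2 ω' h'.1
  have hb' := h'.2 ω h.1
  refine ⟨?_, ?_⟩
  · obtain ⟨ρ, hρ⟩ := hb.2 tr'
    exact ⟨ρ, hρ, fun ρ' hρ' => hb.1 (hρ'.trans hρ.symm)⟩
  · intro ρ hρ
    obtain ⟨ρ', hρ'⟩ := hb'.2 tr
    change tr' ∘ₗ Canon.HHlin A ρ' r = tr at hρ'
    refine ⟨⟨ρ', ?_, ?_⟩⟩
    · apply (h'.2 ω' h'.1).1
      change tr' ∘ₗ Canon.HHlin A (ρ ≫ ρ') r = tr' ∘ₗ Canon.HHlin A (𝟙 ω') r
      rw [HHlin_comp, HHlin_id, ← LinearMap.comp_assoc, hρ', hρ]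
      rfl
    · apply (h.2 ω h.1).1
      change tr ∘ₗ Canon.HHlin A (ρ' ≫ ρ) r = tr ∘ₗ Canon.HHlin A (𝟙 ω) r
      rw [HHlin_comp, HHlin_id, ← LinearMap.comp_assoc, hρ, hρ']
      rfl

end Groth.Agent.Helper8.DualUniq
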