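import Mathlib
import Groth.Agent.Helper5.Dvr

set_option autoImplicit false

namespace Groth.Agent.Helper8.DvrCoprime

open Polynomial

universe u

/-- Gauss: if `h(Δ₁/Δ₂) = 0` with `Δ₁, Δ₂` coprime then `Δ₂ X - Δ₁ ∣ h`. -/
theorem linear_dvd_of_aeval_eq_zero {R : Type*} [CommRing R] [IsDomain R]
    [UniqueFactorizationMonoid R] (K : Type*) [Field K] [Algebra R K] [IsFractionRing R K]
    (Δ₁ Δ₂ : R) (hcop : IsRelPrime Δ₁ Δ₂) (h2 : Δ₂ ≠ 0) (h : R[X])
    (hh : aeval (algebraMap R K Δ₁ / algebraMap R K Δ₂) h = 0) :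
    (C Δ₂ * X - C Δ₁) ∣ h := by
  classical
  letI := UniqueFactorizationMonoid.normalizationMonoid (α := R)
  letI := UniqueFactorizationMonoid.toNormalizedGCDMonoid R
  have hb : algebraMap R K Δ₂ ≠ 0 := by
    intro h
    exact h2 ((IsFractionRing.injective R K) (by rw [h, map_zero]))
  have hprim : (C Δ₂ * X - C Δ₁ : R[X]).IsPrimitive := by
    rw [isPrimitive_iff_isUnit_of_C_dvd]
    intro r hr
    obtain ⟨q, hq⟩ := hr
    apply hcop
    · have := congrArg (fun p => p.coeff 0) hq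
      simp only [coeff_sub, mul_coeff_zero, coeff_C_zero, coeff_X_zero, mul_zero, zero_sub] at this
      exact ⟨-q.coeff 0, by rw [mul_neg, ← this, neg_neg]⟩
    · have := congrArg (fun p => p.coeff 1) hq
      simp only [coeff_sub, coeff_C_mul, coeff_X_one, mul_one, coeff_C_succ, sub_zero] at this
      exact ⟨q.coeff 1, this⟩
  rw [hprim.dvd_iff_fraction_map_dvd_fraction_map K]
  have hmap : (C Δ₂ * X - C Δ₁ : R[X]).map (algebraMap R K) =
      C (algebraMap R K Δ₂) * (X - C (algebraMap R K Δ₁ / algebraMap R K Δ₂)) := by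
    simp only [Polynomial.map_sub, Polynomial.map_mul, map_C, map_X]
    rw [mul_sub, ← C_mul, mul_div_cancel₀ _ hb]
  rw [hmap]
  have hroot : (h.map (algebraMap R K)).IsRoot
      (algebraMap R K Δ₁ / algebraMap R K Δ₂) := by
    rw [IsRoot.def, eval_map_algebraMap]
    exact hh
  have hunit : IsUnit (C (algebraMap R K Δ₂) : K[X]) := isUnit_C.2 (isUnit_iff_ne_zero.2 hb)
  rw [hunit.mul_left_dvd]
  exact dvd_iff_isRoot.2 hroot

theorem main (R : Type u) [CommRing R] [IsDomain R] [IsNoetherianRing R]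
    [UniqueFactorizationMonoid R] [IsLocalRing R]
    (Δ₁ Δ₂ : R) (h₁ : ¬ IsUnit Δ₁) (h₂ : ¬ IsUnit Δ₂) (hcop : IsRelPrime Δ₁ Δ₂) :
    ∃ (A : Type u) (_ : CommRing A) (_ : IsDomain A) (_ : IsDiscreteValuationRing A) (f : R →+* A),
      IsLocalHom f ∧ Function.Injective f ∧ ¬ IsUnit (f Δ₁) ∧
        ∃ u : Aˣ, (u : A) - 1 ∈ IsLocalRing.maximalIdeal A ∧ f Δ₁ = (u : A) * f Δ₂ := by
  classical
  let K := FractionRing R
  have hinjK : Function.Injective (algebraMap R K) := IsFractionRing.injective R K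
  have hΔ2 : Δ₂ ≠ 0 := by
    rintro rfl
    exact h₁ (hcop (dvd_refl _) (dvd_zero _))
  have hb0 : algebraMap R K Δ₂ ≠ 0 := fun h => hΔ2 (hinjK (by rw [h, map_zero]))
  let u : K := algebraMap R K Δ₁ / algebraMap R K Δ₂
  let B : Subalgebra R K := Algebra.adjoin R {u}
  have huB : u ∈ B := Algebra.subset_adjoin (Set.mem_singleton _)
  have hBrange : ∀ c : B, ∃ q : R[X], aeval u q = (c : K) := by
    intro c
    have hc : (c : K) ∈ Algebra.adjoin R {u} := c.2
    rw [Algebra.adjoin_singleton_eq_range_aeval] at hc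
    exact hc
  haveI : Algebra.FiniteType R B :=
    (Subalgebra.fg_iff_finiteType _).1 ⟨{u}, by simp [B]⟩
  haveI : IsNoetherianRing B := Algebra.FiniteType.isNoetherianRing R B
  let uB : B := ⟨u, huB⟩
  let P : Ideal B := (IsLocalRing.maximalIdeal R).map (algebraMap R B) ⊔ Ideal.span {uB - 1}
  have hmemP : ∀ r ∈ IsLocalRing.maximalIdeal R, algebraMap R B r ∈ P := fun r hr =>
    Ideal.mem_sup_left (Ideal.mem_map_of_mem _ hr)
  have hm1 : Δ₁ ∈ IsLocalRing.maximalIdeal R := (IsLocalRing.mem_maximalIdeal _).2 h₁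
  have hm2 : Δ₂ ∈ IsLocalRing.maximalIdeal R := (IsLocalRing.mem_maximalIdeal _).2 h₂
  have hPtop : P ≠ ⊤ := by
    intro htop
    have h1 : (1 : B) ∈ P := by rw [htop]; trivial
    obtain ⟨x, hx, y, hy, hxy⟩ := Submodule.mem_sup.1 h1
    have key : ∀ x ∈ (IsLocalRing.maximalIdeal R).map (algebraMap R B), ∃ g : R[X],
        g ∈ (IsLocalRing.maximalIdeal R).map (C : R →+* R[X]) ∧ (x : K) = aeval u g := by
      intro x hx
      have hx' : x ∈ Ideal.span (algebraMap R B '' (IsLocalRing.maximalIdeal R : Set R)) := hx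
      refine Submodule.span_induction (p := fun (z : B) _ => ∃ g : R[X],
        g ∈ (IsLocalRing.maximalIdeal R).map (C : R →+* R[X]) ∧ (z : K) = aeval u g)
        ?_ ?_ ?_ ?_ hx'
      · rintro _ ⟨m, hm, rfl⟩
        refine ⟨C m, Ideal.mem_map_of_mem _ hm, ?_⟩
        rw [aeval_C]
        rfl
      · exact ⟨0, Ideal.zero_mem _, by simp⟩
      · rintro x y _ _ ⟨g₁, hg₁, e₁⟩ ⟨g₂, hg₂, e₂⟩
        refine ⟨g₁ + g₂, Ideal.add_mem _ hg₁ hg₂, ?_⟩
        rw [map_add, ← e₁, ← e₂]
        rfl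
      · rintro c x _ ⟨g₁, hg₁, e₁⟩
        obtain ⟨q, hq⟩ := hBrange c
        refine ⟨q * g₁, Ideal.mul_mem_left _ _ hg₁, ?_⟩
        rw [map_mul, hq, ← e₁]
        rfl
    obtain ⟨g, hg, hxg⟩ := key x hx
    obtain ⟨c, hc⟩ := Ideal.mem_span_singleton'.1 hy
    obtain ⟨q, hq⟩ := hBrange c
    have h2 : algebraMap B K x + algebraMap B K c * (algebraMap B K uB - 1) = 1 := by
      have h9 := congrArg (algebraMap B K) hxy
      rw [← hc] at h9
      simpa only [map_add, map_mul, map_sub, map_one] using h9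
    have hone : aeval u g + aeval u q * (u - 1) = 1 := by
      rw [← hxg, hq]
      exact h2
    have hzero : aeval u (1 - g - q * (X - 1)) = 0 := by
      rw [map_sub, map_sub, map_one, map_mul, map_sub, aeval_X, map_one]
      rw [sub_sub, hone, sub_self]
    obtain ⟨w, hw⟩ := linear_dvd_of_aeval_eq_zero K Δ₁ Δ₂ hcop hΔ2 _ hzero
    have hres : ∀ r ∈ IsLocalRing.maximalIdeal R, IsLocalRing.residue R r = 0 := fun r hr =>
      (IsLocalRing.residue_eq_zero_iff r).2 hr
    have hgmap : g.map (IsLocalRing.residue R) = 0 := by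
      ext n
      rw [coeff_map, coeff_zero]
      exact hres _ (Ideal.mem_map_C_iff.1 hg n)
    have h3 := congrArg (fun p => (p.map (IsLocalRing.residue R)).eval 1) hw
    simp only [Polynomial.map_sub, Polynomial.map_mul, Polynomial.map_one, map_C, map_X, hgmap,
      hres _ hm1, hres _ hm2, eval_sub, eval_mul, eval_one, eval_X, sub_self, mul_zero,
      sub_zero, zero_mul, map_zero, eval_zero] at h3
    exact one_ne_zero h3
  have hPbot : P ≠ ⊥ := by
    intro hbot
    have h3 : algebraMap R B Δ₂ ∈ P := hmemP _ hm2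
    rw [hbot, Ideal.mem_bot] at h3
    have h4 := congrArg (algebraMap B K) h3
    rw [← IsScalarTower.algebraMap_apply, map_zero] at h4
    exact hb0 h4
  have hS : Subfield.closure (Set.range (algebraMap B K) ∪ ((∅ : Finset K) : Set K)) = ⊤ := by
    rw [eq_top_iff]
    intro z _
    obtain ⟨x, y, _, rfl⟩ := IsFractionRing.div_surjective (A := R) z
    exact div_mem (Subfield.subset_closure (Or.inl ⟨algebraMap R B x, rfl⟩))
      (Subfield.subset_closure (Or.inl ⟨algebraMap R B y, rfl⟩))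
  obtain ⟨O, hO, hBO, hlt⟩ := Groth.Agent.Helper5.Dvr.exists_dvr B K Subtype.val_injective ∅ hS P
    hPtop hPbot
  have hmem : ∀ r : R, algebraMap R K r ∈ O := fun r => hBO (algebraMap R B r)
  have hval : ∀ r ∈ IsLocalRing.maximalIdeal R, O.valuation (algebraMap R K r) < 1 := fun r hr =>
    hlt _ (hmemP r hr)
  let f : R →+* O := (algebraMap R K).codRestrict O hmem
  have hfcoe : ∀ r, ((f r : O) : K) = algebraMap R K r := fun r => rfl
  have huO : u ∈ O := hBO uB
  have hvu1 : O.valuation (u - 1) < 1 := by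
    have := hlt (uB - 1) (Ideal.mem_sup_right (Ideal.subset_span rfl))
    exact this
  have hvu : O.valuation u = 1 := by
    have h5 : u = 1 + (u - 1) := by ring
    rw [h5]
    exact O.valuation.map_one_add_of_lt hvu1
  let uO : O := ⟨u, huO⟩
  have huOunit : IsUnit uO := (O.valuation_eq_one_iff uO).2 hvu
  refine ⟨O, inferInstance, inferInstance, hO, f, ⟨fun r hr => ?_⟩, ?_, ?_, huOunit.unit, ?_, ?_⟩
  · by_contra hnu
    have h6 := hval r ((IsLocalRing.mem_maximalIdeal _).2 hnu)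
    have h7 := (O.valuation_eq_one_iff (f r)).1 hr
    rw [hfcoe] at h7
    rw [h7] at h6
    exact lt_irrefl _ h6
  · intro x y hxy
    apply hinjK
    have := congrArg (Subtype.val) hxy
    exact this
  · intro hunit
    have h6 := hval Δ₁ hm1
    have h7 := (O.valuation_eq_one_iff (f Δ₁)).1 hunit
    rw [hfcoe] at h7
    rw [h7] at h6
    exact lt_irrefl _ h6
  · rw [IsUnit.unit_spec, O.valuation_lt_one_iff]
    exact hvu1
  · rw [IsUnit.unit_spec]
    apply Subtype.ext
    show algebraMap R K Δ₁ = u * algebraMap R K Δ₂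
    exact (div_mul_cancel₀ _ hb0).symm

end Groth.Agent.Helper8.DvrCoprime
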