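import Mathlib
set_option autoImplicit false


open scoped TensorProduct DirectSum

namespace Groth.Agent.Helper8.DvrRank

universe u v w w'

section inv
variable {R : Type u} [CommRing R] {M : Type v} {M' : Type w} [AddCommGroup M] [Module R M]
  [AddCommGroup M'] [Module R M']

/-- `torsionBy` transported along an equivalence. -/
noncomputable def torsEquiv (e : M ≃ₗ[R] M') (a : R) :
    Submodule.torsionBy R M a ≃ₗ[R] Submodule.torsionBy R M' a :=
  (e.submoduleMap (Submodule.torsionBy R M a)).trans
    (LinearEquiv.ofEq _ _ (by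
      ext x
      simp only [Submodule.mem_map, Submodule.mem_torsionBy_iff]
      constructor
      · rintro ⟨y, hy, rfl⟩
        change a • e y = 0
        rw [← map_smul, hy, map_zero]
      · intro hx
        refine ⟨e.symm x, by rw [← map_smul, hx, map_zero], ?_⟩
        change e (e.symm x) = x
        simp))

end inv

section len
variable {R : Type u} [CommRing R] {T : Type v} [AddCommGroup T] [Module R T]

theorem length_ker_eq_coker (hT : Module.length R T ≠ ⊤) (f : T →ₗ[R] T) :
    Module.length R (LinearMap.ker f) = Module.length R (T ⧸ LinearMap.range f) := by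
  have h1 := Module.length_eq_add_of_exact (LinearMap.ker f).subtype f.rangeRestrict
    (Submodule.injective_subtype _) f.surjective_rangeRestrict (by
      rw [LinearMap.exact_iff, LinearMap.ker_rangeRestrict, Submodule.range_subtype])
  have h2 := Module.length_eq_add_of_exact (LinearMap.range f).subtype (LinearMap.range f).mkQ
    (Submodule.injective_subtype _) (Submodule.mkQ_surjective _) (by
      rw [LinearMap.exact_iff, Submodule.ker_mkQ, Submodule.range_subtype])
  have hr : Module.length R (LinearMap.range f) ≠ ⊤ := by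
    intro h
    rw [h] at h2
    simp at h2
    exact hT h2
  rw [h1, add_comm] at h2
  exact (ENat.add_right_injective_of_ne_top hr h2)

end len

section resid
variable {R : Type u} [CommRing R] [IsLocalRing R] (ϖ : R)
  (hm : IsLocalRing.maximalIdeal R = Ideal.span {ϖ})
  (N : Type v) [AddCommGroup N] [Module R N]

include hm

/-- `dim_k (k ⊗ N) = length_R (N / ϖ N)`. -/
theorem finrank_eq_length_quot [Module.Finite R N] :
    (Module.finrank (IsLocalRing.ResidueField R) (IsLocalRing.ResidueField R ⊗[R] N) : ℕ∞) =
      Module.length R (N ⧸ LinearMap.range (DistribSMul.toLinearMap R N ϖ)) := by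
  rw [← Module.length_eq_finrank,
    ← Module.length_eq_of_surjective (S := R) (R := IsLocalRing.ResidueField R)
      (M := IsLocalRing.ResidueField R ⊗[R] N) Ideal.Quotient.mk_surjective]
  have e := TensorProduct.quotTensorEquivQuotSMul N (IsLocalRing.maximalIdeal R)
  have hs : (IsLocalRing.maximalIdeal R) • (⊤ : Submodule R N) =
      LinearMap.range (DistribSMul.toLinearMap R N ϖ) := by
    rw [hm, Submodule.ideal_span_singleton_smul, ← Submodule.map_top]
    rfl
  rw [← hs]
  exact e.length_eq

/-- If `ϖ` kills `N` then `dim_k (k ⊗ N) = length_R N`. -/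
theorem finrank_eq_length_of_kill [Module.Finite R N] (hN : ∀ x : N, ϖ • x = 0) :
    (Module.finrank (IsLocalRing.ResidueField R) (IsLocalRing.ResidueField R ⊗[R] N) : ℕ∞) =
      Module.length R N := by
  rw [finrank_eq_length_quot ϖ hm N]
  have hb : LinearMap.range (DistribSMul.toLinearMap R N ϖ) = ⊥ := by
    rw [LinearMap.range_eq_bot]
    ext x
    exact hN x
  exact (Submodule.quotEquivOfEqBot _ hb).length_eq

/-- torsion case: `dim_k (k ⊗ T) = dim_k (k ⊗ T[ϖ])` for `T` of finite length. -/
theorem torsion_case [IsNoetherianRing R] [Module.Finite R N] (hT : Module.length R N ≠ ⊤) :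
    Module.finrank (IsLocalRing.ResidueField R) (IsLocalRing.ResidueField R ⊗[R] N) =
      Module.finrank (IsLocalRing.ResidueField R)
        (IsLocalRing.ResidueField R ⊗[R] ↥(Submodule.torsionBy R N ϖ)) := by
  have h1 := finrank_eq_length_quot ϖ hm N
  have h2 := finrank_eq_length_of_kill ϖ hm (Submodule.torsionBy R N ϖ) (by
    rintro ⟨x, hx⟩
    ext
    exact (Submodule.mem_torsionBy_iff _ _).1 hx)
  have h3 := length_ker_eq_coker hT (DistribSMul.toLinearMap R N ϖ)
  have : (Module.finrank (IsLocalRing.ResidueField R) (IsLocalRing.ResidueField R ⊗[R] N) : ℕ∞) =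
      Module.finrank (IsLocalRing.ResidueField R)
        (IsLocalRing.ResidueField R ⊗[R] ↥(Submodule.torsionBy R N ϖ)) := by
    rw [h1, h2, ← h3]
    rfl
  exact_mod_cast this

end resid

section prod
variable {R : Type u} [CommRing R] [IsDomain R] (F : Type v) (T : Type w) [AddCommGroup F] [Module R F]
  [AddCommGroup T] [Module R T] (hF : ∀ (a : R) (x : F), a • x = 0 → a = 0 ∨ x = 0)
include hF in

/-- If `F` is torsion-free then `(F × T)[a] ≃ T[a]` for `a ≠ 0`. -/
noncomputable def torsProd (a : R) (ha : a ≠ 0) :
    Submodule.torsionBy R (F × T) a ≃ₗ[R] Submodule.torsionBy R T a :=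
  LinearEquiv.ofBijective
    ((LinearMap.snd R F T).restrict (p := Submodule.torsionBy R (F × T) a)
      (q := Submodule.torsionBy R T a) (by
        intro x hx
        rw [Submodule.mem_torsionBy_iff] at hx ⊢
        exact congrArg Prod.snd hx))
    (by
      constructor
      · rw [← LinearMap.ker_eq_bot, LinearMap.ker_eq_bot']
        rintro ⟨⟨x, y⟩, hx⟩ h
        rw [Submodule.mem_torsionBy_iff] at hx
        have hy : y = 0 := congrArg Subtype.val h
        have hx1 : a • x = 0 := congrArg Prod.fst hx
        have hx0 : x = 0 := (hF a x hx1).resolve_left ha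
        ext
        · exact hx0
        · exact hy
      · rintro ⟨t, ht⟩
        rw [Submodule.mem_torsionBy_iff] at ht
        refine ⟨⟨(0, t), ?_⟩, rfl⟩
        rw [Submodule.mem_torsionBy_iff]
        ext
        · simp
        · exact ht)

end prod

section tens
variable {R : Type u} [CommRing R] (K : Type w) [Field K] [Algebra R K]
  (T : Type v) [AddCommGroup T] [Module R T]

theorem subsingleton_tensor_of_kill (a : R) (ha : algebraMap R K a ≠ 0) (hT : ∀ t : T, a • t = 0) :
    Subsingleton (K ⊗[R] T) := by
  refine ⟨fun x y => ?_⟩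
  have h0 : ∀ z : K ⊗[R] T, z = 0 := by
    intro z
    induction z using TensorProduct.induction_on with
    | zero => rfl
    | tmul x t =>
      have : x = a • (x * (algebraMap R K a)⁻¹) := by
        rw [Algebra.smul_def]
        field_simp
      rw [this, TensorProduct.smul_tmul, hT, TensorProduct.tmul_zero]
    | add x y hx hy => rw [hx, hy, add_zero]
  rw [h0 x, h0 y]

end tens



section main
variable (R : Type u) [CommRing R] [IsDomain R] [IsDiscreteValuationRing R] (ϖ : R)
  (hϖ : Irreducible ϖ) (K : Type w) [Field K] [Algebra R K] [IsFractionRing R K]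

include hϖ

theorem main_aux (M : Type v) [AddCommGroup M] [Module R M] (n : ℕ)
    (T : Type w') [AddCommGroup T] [Module R T] [Module.Finite R T]
    (hTlen : Module.length R T ≠ ⊤) (a : R) (ha : a ≠ 0) (hkill : ∀ t : T, a • t = 0)
    (φ : M ≃ₗ[R] (Fin n →₀ R) × T) :
    Module.finrank (IsLocalRing.ResidueField R) (IsLocalRing.ResidueField R ⊗[R] M) =
      Module.finrank (IsLocalRing.ResidueField R)
          (IsLocalRing.ResidueField R ⊗[R] ↥(Submodule.torsionBy R M ϖ)) +
        Module.finrank K (K ⊗[R] M) := by
  have hm := hϖ.maximalIdeal_eq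
  have h1 : Module.finrank (IsLocalRing.ResidueField R) (IsLocalRing.ResidueField R ⊗[R] M) =
      n + Module.finrank (IsLocalRing.ResidueField R) (IsLocalRing.ResidueField R ⊗[R] T) := by
    rw [(LinearEquiv.baseChange R (IsLocalRing.ResidueField R) M _ φ).finrank_eq,
      (TensorProduct.prodRight R (IsLocalRing.ResidueField R) (IsLocalRing.ResidueField R)
        (Fin n →₀ R) T).finrank_eq, Module.finrank_prod, Module.finrank_baseChange]
    simp
  have hsub : Subsingleton (K ⊗[R] T) := subsingleton_tensor_of_kill K T a
    (by rwa [Ne, map_eq_zero_iff _ (IsFractionRing.injective R K)]) hkill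
  have h2 : Module.finrank K (K ⊗[R] M) = n := by
    rw [(LinearEquiv.baseChange R K M _ φ).finrank_eq,
      (TensorProduct.prodRight R K K (Fin n →₀ R) T).finrank_eq, Module.finrank_prod,
      Module.finrank_baseChange, Module.finrank_zero_of_subsingleton (R := K) (M := K ⊗[R] T)]
    simp
  have h3 : Module.finrank (IsLocalRing.ResidueField R)
      (IsLocalRing.ResidueField R ⊗[R] ↥(Submodule.torsionBy R M ϖ)) =
      Module.finrank (IsLocalRing.ResidueField R)
      (IsLocalRing.ResidueField R ⊗[R] ↥(Submodule.torsionBy R T ϖ)) :=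
    (LinearEquiv.baseChange R (IsLocalRing.ResidueField R) _ _
      ((torsEquiv φ ϖ).trans (torsProd (Fin n →₀ R) T (fun a x h => by
        by_cases ha : a = 0
        · exact Or.inl ha
        · refine Or.inr ?_
          ext i
          have := DFunLike.congr_fun h i
          simpa [ha] using this) ϖ hϖ.ne_zero))).finrank_eq
  have h4 := torsion_case ϖ hm T hTlen
  omega

theorem main (M : Type v) [AddCommGroup M] [Module R M] [Module.Finite R M] :
    Module.finrank (IsLocalRing.ResidueField R) (IsLocalRing.ResidueField R ⊗[R] M) =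
      Module.finrank (IsLocalRing.ResidueField R)
          (IsLocalRing.ResidueField R ⊗[R] ↥(Submodule.torsionBy R M ϖ)) +
        Module.finrank K (K ⊗[R] M) := by
  obtain ⟨n, ι, _, p, hp, e, ⟨φ⟩⟩ := Module.equiv_free_prod_directSum (R := R) (M := M)
  classical
  have hne : ∀ i, p i ^ e i ≠ 0 := fun i => pow_ne_zero _ (hp i).ne_zero
  have hfl : ∀ i, IsFiniteLength R (R ⧸ Submodule.span R {p i ^ e i}) := fun i =>
    isFiniteLength_quotient_span_singleton R (mem_nonZeroDivisors_of_ne_zero (hne i))
  have hTfl : IsFiniteLength R (⨁ i, R ⧸ Submodule.span R {p i ^ e i}) := by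
    rw [isFiniteLength_iff_isNoetherian_isArtinian]
    have : ∀ i, IsArtinian R (R ⧸ Submodule.span R {p i ^ e i}) := fun i =>
      ((isFiniteLength_iff_isNoetherian_isArtinian).1 (hfl i)).2
    exact ⟨inferInstance,
      isArtinian_of_linearEquiv (DirectSum.linearEquivFunOnFintype R ι _).symm⟩
  have hkill : ∀ t : ⨁ i, R ⧸ Submodule.span R {p i ^ e i}, (∏ j, p j ^ e j) • t = 0 := by
    intro t
    induction t using DirectSum.induction_on with
    | zero => simp
    | of i x =>
      rw [← DirectSum.of_smul]
      have : (∏ j, p j ^ e j) • x = 0 := by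
        obtain ⟨r, rfl⟩ := Submodule.Quotient.mk_surjective _ x
        rw [← Submodule.Quotient.mk_smul, Submodule.Quotient.mk_eq_zero,
          Submodule.mem_span_singleton]
        obtain ⟨c, hc⟩ := Finset.dvd_prod_of_mem (fun j => p j ^ e j) (Finset.mem_univ i)
        exact ⟨r * c, by rw [hc]; simp; ring⟩
      rw [this, map_zero]
    | add x y hx hy => rw [smul_add, hx, hy, add_zero]
  have : IsNoetherian R (⨁ i, R ⧸ Submodule.span R {p i ^ e i}) :=
    ((isFiniteLength_iff_isNoetherian_isArtinian).1 hTfl).1
  exact main_aux R ϖ hϖ K M n _ (Module.length_ne_top_iff.2 hTfl) _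
    (Finset.prod_ne_zero_iff.2 fun i _ => hne i) hkill φ

end main

end Groth.Agent.Helper8.DvrRank
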