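import Mathlib
import Groth.Agent.Helper8.DvrRank
set_option autoImplicit false


open scoped TensorProduct DirectSum

namespace Groth.Agent.Helper8.DvrDual

open Groth.Agent.Helper8.DvrRank

universe u v w w'

section psi
variable (R : Type u) [CommRing R] [IsDomain R] [IsDiscreteValuationRing R] (ϖ : R)
  (hϖ : Irreducible ϖ) (m : ℕ)

/-- `k → R/ϖ^(m+1)`, multiplication by `ϖ^m`. -/
noncomputable def ψ (hm : IsLocalRing.maximalIdeal R = Ideal.span {ϖ}) :
    IsLocalRing.ResidueField R →ₗ[R] (R ⧸ Ideal.span {ϖ ^ (m + 1)}) :=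
  { toFun := Submodule.mapQ (IsLocalRing.maximalIdeal R) (Ideal.span {ϖ ^ (m + 1)})
      (LinearMap.mulLeft R (ϖ ^ m)) (by
        rw [hm]
        intro x hx
        rw [Ideal.mem_span_singleton'] at hx
        obtain ⟨c, rfl⟩ := hx
        rw [Submodule.mem_comap, LinearMap.mulLeft_apply, Ideal.mem_span_singleton']
        exact ⟨c, by ring⟩)
    map_add' := fun x y => map_add _ x y
    map_smul' := fun r x => map_smul (Submodule.mapQ (IsLocalRing.maximalIdeal R)
      (Ideal.span {ϖ ^ (m + 1)}) (LinearMap.mulLeft R (ϖ ^ m)) _) r x }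

theorem ψ_mk (hm : IsLocalRing.maximalIdeal R = Ideal.span {ϖ}) (r : R) :
    ψ R ϖ m hm (IsLocalRing.residue R r) = Ideal.Quotient.mk _ (ϖ ^ m * r) := rfl

include hϖ

theorem ψ_injective : Function.Injective (ψ R ϖ m hϖ.maximalIdeal_eq) := by
  rw [← LinearMap.ker_eq_bot, LinearMap.ker_eq_bot']
  intro x hx
  obtain ⟨r, rfl⟩ := IsLocalRing.residue_surjective x
  rw [ψ_mk, Ideal.Quotient.eq_zero_iff_mem, Ideal.mem_span_singleton'] at hx
  obtain ⟨c, hc⟩ := hx
  rw [IsLocalRing.residue_eq_zero_iff, hϖ.maximalIdeal_eq, Ideal.mem_span_singleton']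
  refine ⟨c, ?_⟩
  have : ϖ ^ m * (c * ϖ) = ϖ ^ m * r := by rw [← hc]; ring
  exact mul_left_cancel₀ (pow_ne_zero _ hϖ.ne_zero) this

theorem range_ψ : LinearMap.range (ψ R ϖ m hϖ.maximalIdeal_eq) =
    Submodule.torsionBy R (R ⧸ Ideal.span {ϖ ^ (m + 1)}) ϖ := by
  ext x
  rw [Submodule.mem_torsionBy_iff, LinearMap.mem_range]
  constructor
  · rintro ⟨y, rfl⟩
    obtain ⟨r, rfl⟩ := IsLocalRing.residue_surjective y
    rw [ψ_mk]
    change Ideal.Quotient.mk _ (ϖ * (ϖ ^ m * r)) = 0
    rw [Ideal.Quotient.eq_zero_iff_mem, Ideal.mem_span_singleton']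
    exact ⟨r, by ring⟩
  · intro hx
    obtain ⟨s, rfl⟩ := Ideal.Quotient.mk_surjective x
    change Ideal.Quotient.mk _ (ϖ * s) = 0 at hx
    rw [Ideal.Quotient.eq_zero_iff_mem, Ideal.mem_span_singleton'] at hx
    obtain ⟨t, ht⟩ := hx
    refine ⟨IsLocalRing.residue R t, ?_⟩
    rw [ψ_mk]
    congr 1
    have : ϖ * (ϖ ^ m * t) = ϖ * s := by rw [← ht]; ring
    exact mul_left_cancel₀ hϖ.ne_zero this

end psi

section homtors
variable {R : Type u} [CommRing R] (M : Type v) [AddCommGroup M] [Module R M]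
  {N : Type w} {A : Type w'} [AddCommGroup N] [Module R N] [AddCommGroup A] [Module R A]
  (ψ : N →ₗ[R] A) (hψ : Function.Injective ψ) (a : R)
  (hr : LinearMap.range ψ = Submodule.torsionBy R A a)

noncomputable def homTors : (M →ₗ[R] N) ≃ₗ[R] Submodule.torsionBy R (M →ₗ[R] A) a :=
  LinearEquiv.ofBijective
    (LinearMap.codRestrict _ (LinearMap.llcomp R M N A ψ) (fun g => by
      rw [Submodule.mem_torsionBy_iff]
      ext x
      have : ψ (g x) ∈ Submodule.torsionBy R A a := hr ▸ LinearMap.mem_range_self ψ (g x)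
      exact (Submodule.mem_torsionBy_iff _ _).1 this))
    (by
      constructor
      · intro g g' h
        have h' : ψ ∘ₗ g = ψ ∘ₗ g' := congrArg Subtype.val h
        ext x
        exact hψ (LinearMap.congr_fun h' x)
      · rintro ⟨f, hf⟩
        rw [Submodule.mem_torsionBy_iff] at hf
        have hmem : ∀ x, f x ∈ LinearMap.range ψ := by
          intro x
          rw [hr, Submodule.mem_torsionBy_iff]
          exact LinearMap.congr_fun hf x
        refine ⟨(LinearEquiv.ofInjective ψ hψ).symm.toLinearMap ∘ₗ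
          (f.codRestrict (LinearMap.range ψ) hmem), ?_⟩
        ext x
        exact congrArg Subtype.val
          ((LinearEquiv.ofInjective ψ hψ).apply_symm_apply ⟨f x, hmem x⟩))

end homtors

section dual
variable {R : Type u} [CommRing R] [IsLocalRing R] (M : Type v) [AddCommGroup M] [Module R M]
  [Module.Finite R M]

theorem length_hom_residue :
    Module.length R (M →ₗ[R] IsLocalRing.ResidueField R) =
      (Module.finrank (IsLocalRing.ResidueField R) (IsLocalRing.ResidueField R ⊗[R] M) : ℕ∞) := by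
  rw [Module.length_eq_of_surjective (S := R) (R := IsLocalRing.ResidueField R)
      (M := M →ₗ[R] IsLocalRing.ResidueField R) Ideal.Quotient.mk_surjective,
    (LinearMap.liftBaseChangeEquiv (R := R) (M := M) (N := IsLocalRing.ResidueField R)
      (IsLocalRing.ResidueField R)).length_eq]
  change Module.length _ (Module.Dual (IsLocalRing.ResidueField R)
    (IsLocalRing.ResidueField R ⊗[R] M)) = _
  rw [Module.length_eq_finrank, Subspace.dual_finrank_eq]

end dual


section final
variable (R : Type u) [CommRing R] [IsDomain R] [IsDiscreteValuationRing R] (ϖ : R)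
  (hϖ : Irreducible ϖ)

include hϖ

theorem s15367 (n : ℕ) (M : Type v) [AddCommGroup M] [Module R M] [Module.Finite R M]
    (hM : ∀ m : M, ϖ ^ n • m = 0) :
    Module.finrank (IsLocalRing.ResidueField R)
        (IsLocalRing.ResidueField R ⊗[R] (M →ₗ[R] (R ⧸ Ideal.span {ϖ ^ n}))) =
      Module.finrank (IsLocalRing.ResidueField R) (IsLocalRing.ResidueField R ⊗[R] M) := by
  cases n with
  | zero =>
    have hsM : Subsingleton M := ⟨fun x y => by
      have hx := hM x
      have hy := hM y
      rw [pow_zero, one_smul] at hx hy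
      rw [hx, hy]⟩
    have h1 : Subsingleton (M →ₗ[R] (R ⧸ Ideal.span {ϖ ^ 0})) :=
      ⟨fun f g => LinearMap.ext fun x => by rw [Subsingleton.elim x 0, map_zero, map_zero]⟩
    rw [Module.finrank_zero_of_subsingleton, Module.finrank_zero_of_subsingleton]
  | succ m =>
    have hm := hϖ.maximalIdeal_eq
    have hmain := DvrRank.main R ϖ hϖ (FractionRing R) (M →ₗ[R] (R ⧸ Ideal.span {ϖ ^ (m + 1)}))
    have hkill : ∀ f : M →ₗ[R] (R ⧸ Ideal.span {ϖ ^ (m + 1)}), ϖ ^ (m + 1) • f = 0 := by
      intro f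
      ext x
      rw [LinearMap.smul_apply, ← map_smul, hM, map_zero, LinearMap.zero_apply]
    have hsub : Subsingleton (FractionRing R ⊗[R] (M →ₗ[R] (R ⧸ Ideal.span {ϖ ^ (m + 1)}))) :=
      DvrRank.subsingleton_tensor_of_kill (FractionRing R) _ (ϖ ^ (m + 1))
        (by
          rw [Ne, map_eq_zero_iff _ (IsFractionRing.injective R (FractionRing R))]
          exact pow_ne_zero _ hϖ.ne_zero) hkill
    rw [Module.finrank_zero_of_subsingleton (R := FractionRing R), add_zero] at hmain
    rw [hmain]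
    have h2 := DvrRank.finrank_eq_length_of_kill ϖ hm
      (Submodule.torsionBy R (M →ₗ[R] (R ⧸ Ideal.span {ϖ ^ (m + 1)})) ϖ) (by
        rintro ⟨x, hx⟩
        ext1
        exact (Submodule.mem_torsionBy_iff _ _).1 hx)
    have h3 : Module.length R (M →ₗ[R] IsLocalRing.ResidueField R) = Module.length R
        ↥(Submodule.torsionBy R (M →ₗ[R] (R ⧸ Ideal.span {ϖ ^ (m + 1)})) ϖ) :=
      LinearEquiv.length_eq
        (homTors M (ψ R ϖ m hm) (ψ_injective R ϖ hϖ m) ϖ (range_ψ R ϖ hϖ m))
    have h4 := length_hom_residue (R := R) M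
    have : (Module.finrank (IsLocalRing.ResidueField R) (IsLocalRing.ResidueField R ⊗[R]
        ↥(Submodule.torsionBy R (M →ₗ[R] (R ⧸ Ideal.span {ϖ ^ (m + 1)})) ϖ)) : ℕ∞) =
        Module.finrank (IsLocalRing.ResidueField R) (IsLocalRing.ResidueField R ⊗[R] M) := by
      rw [h2, ← h3, h4]
    exact_mod_cast this

end final

end Groth.Agent.Helper8.DvrDual
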