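import Mathlib
import Groth.Agent.Helper7.CohenV1
import Groth.Agent.Helper8.DvrExt

set_option autoImplicit false
universe u
open IsLocalRing TensorProduct

namespace Groth.Agent.Helper8.DvrResExt

section Ext
variable (R : Type u) [CommRing R] [IsDomain R] [IsDiscreteValuationRing R]
  (L : Type u) [Field L] [Algebra (ResidueField R) L]

/-- A DVR `R` and a field extension `L` of its residue field: there is a flat local extension `C`
of `R` which is a complete DVR, unramified over `R`, with residue field `L`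
(consequence of EGA 0_III 10.3.1). -/
theorem exists_complete_ext :
    ∃ (C : Type u) (_ : CommRing C) (_ : IsDomain C) (_ : IsDiscreteValuationRing C)
      (ι : R →+* C) (θ : C →+* L),
      IsAdicComplete (maximalIdeal C) C ∧ Function.Injective ι ∧
      (∀ a ∈ maximalIdeal R, ¬ IsUnit (ι a)) ∧ Function.Surjective θ ∧
      RingHom.ker θ = maximalIdeal C ∧
      (∀ r : R, θ (ι r) = algebraMap (ResidueField R) L (residue R r)) ∧
      (∀ π : R, Irreducible π → maximalIdeal C = Ideal.span {ι π}) := by
  haveI : IsAdicComplete (maximalIdeal L) L := by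
    rw [IsLocalRing.maximalIdeal_eq_bot]; infer_instance
  obtain ⟨C, _, _, _, _, hloc, hcompl, hflat, ⟨e⟩⟩ :=
    Groth.Agent.Helper7.Cohen.s4514 (A := R) L
  -- nonzero elements stay nonzero (flatness)
  have hne : ∀ r : R, r ≠ 0 → algebraMap R C r ≠ 0 := by
    intro r hr h0
    have h1 : IsSMulRegular R r := fun a b hab =>
      mul_left_cancel₀ hr (by simpa only [smul_eq_mul] using hab)
    have h2 : IsSMulRegular C (algebraMap R C r) := IsSMulRegular.of_flat h1
    rw [h0] at h2
    have h3 : (1 : C) = 0 := h2 (by simp)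
    exact one_ne_zero h3
  obtain ⟨incl, hincl⟩ : ∃ incl : C →ₐ[R] (ResidueField R) ⊗[R] C,
      incl = Algebra.TensorProduct.includeRight := ⟨_, rfl⟩
  have hincl_surj : Function.Surjective incl := by
    rw [hincl]
    exact Algebra.TensorProduct.includeRight_surjective C IsLocalRing.residue_surjective
  obtain ⟨θ, hθ⟩ : ∃ θ : C →+* L,
      θ = (e : (ResidueField R) ⊗[R] C →+* L).comp
        (incl : C →+* (ResidueField R) ⊗[R] C) := ⟨_, rfl⟩
  have hθapp : ∀ c, θ c = e (incl c) := fun c => by rw [hθ]; rfl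
  have hθsurj : Function.Surjective θ := by
    intro z
    obtain ⟨t, rfl⟩ := e.surjective z
    obtain ⟨c, rfl⟩ := hincl_surj t
    exact ⟨c, hθapp c⟩
  have hθι : ∀ r : R, θ (algebraMap R C r) =
      algebraMap (ResidueField R) L (residue R r) := by
    intro r
    have h1 : incl (algebraMap R C r) =
        algebraMap (ResidueField R) ((ResidueField R) ⊗[R] C) (residue R r) := by
      rw [AlgHom.commutes]
      exact IsScalarTower.algebraMap_apply R (ResidueField R) ((ResidueField R) ⊗[R] C) r
    rw [hθapp, h1, AlgEquiv.commutes]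
  haveI hkermax : (RingHom.ker θ).IsMaximal := RingHom.ker_isMaximal_of_surjective θ hθsurj
  have hker : RingHom.ker θ = maximalIdeal C := IsLocalRing.eq_maximalIdeal hkermax
  have hmaxgen : ∀ π : R, Irreducible π → maximalIdeal C = Ideal.span {algebraMap R C π} := by
    intro π hπirr
    have hπ : maximalIdeal R = Ideal.span {π} := hπirr.maximalIdeal_eq
    have hker_le : ∀ c : C, θ c = 0 → ∃ b : C, c = algebraMap R C π * b := by
      intro c hc
      rw [hθapp] at hc
      have h1 : incl c = 0 := e.injective (by rw [hc, map_zero])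
      rw [hincl] at h1
      have h2 : (1 : R ⧸ maximalIdeal R) ⊗ₜ[R] c = 0 := h1
      have h3 : TensorProduct.quotTensorEquivQuotSMul C (maximalIdeal R)
          ((Ideal.Quotient.mk (maximalIdeal R) 1) ⊗ₜ[R] c) = 0 := by
        rw [map_one, h2, map_zero]
      rw [TensorProduct.quotTensorEquivQuotSMul_mk_tmul, one_smul, Submodule.Quotient.mk_eq_zero,
        hπ, Submodule.ideal_span_singleton_smul, Submodule.mem_smul_pointwise_iff_exists] at h3
      obtain ⟨b, -, hb⟩ := h3
      exact ⟨b, by rw [← hb, Algebra.smul_def]⟩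
    have hϖker : θ (algebraMap R C π) = 0 := by
      rw [hθι]
      have : residue R π = 0 := by
        rw [IsLocalRing.residue_eq_zero_iff, hπ]
        exact Ideal.mem_span_singleton_self π
      rw [this, map_zero]
    rw [← hker]
    apply le_antisymm
    · intro c hc
      obtain ⟨b, hb⟩ := hker_le c ((RingHom.mem_ker).1 hc)
      rw [hb]
      exact Ideal.mul_mem_right _ _ (Ideal.mem_span_singleton_self _)
    · rw [Ideal.span_singleton_le_iff_mem]
      exact (RingHom.mem_ker).2 hϖker
  obtain ⟨π, hπirr⟩ := IsDiscreteValuationRing.exists_irreducible R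
  have hπ0 : π ≠ 0 := hπirr.ne_zero
  have hmax := hmaxgen π hπirr
  have hsep : ∀ x : C, (∀ n : ℕ, x ∈ Ideal.span {(algebraMap R C π) ^ n}) → x = 0 := by
    intro x hx
    have h1 : (⨅ i : ℕ, (maximalIdeal C) ^ i) = ⊥ :=
      Ideal.iInf_pow_eq_bot_of_isLocalRing (maximalIdeal C) (Ideal.IsPrime.ne_top inferInstance)
    have h2 : x ∈ (⨅ i : ℕ, (maximalIdeal C) ^ i) := by
      rw [Ideal.mem_iInf]
      intro n
      rw [hmax, Ideal.span_singleton_pow]
      exact hx n
    rw [h1] at h2
    exact (Ideal.mem_bot).1 h2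
  have hnil : ¬ IsNilpotent (algebraMap R C π) := by
    rintro ⟨n, hn⟩
    rw [← map_pow] at hn
    exact hne (π ^ n) (pow_ne_zero n hπ0) hn
  obtain ⟨hdom, hdvr⟩ :=
    Groth.Agent.Helper8.DvrExt.isDVR_of_principal C (algebraMap R C π) hmax hsep hnil
  refine ⟨C, inferInstance, hdom, hdvr, algebraMap R C, θ, hcompl, ?_, ?_, hθsurj, hker, hθι,
    hmaxgen⟩
  · rw [injective_iff_map_eq_zero]
    intro r hr
    by_contra h
    exact hne r h hr
  · intro a ha hu
    have h1 : IsUnit a := isUnit_of_map_unit (algebraMap R C) a hu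
    exact (mem_nonunits_iff.1 ((mem_maximalIdeal a).1 ha)) h1

end Ext

section PS

theorem main (p : ℕ) [Fact p.Prime] (k : Type u) [Field k] [IsAlgClosed k] [CharP k p]
    (P : Ideal (MvPowerSeries (Fin 2) k))
    (hP : P = Ideal.span {(MvPowerSeries.X 0 : MvPowerSeries (Fin 2) k)}) [P.IsPrime] :
    ∃ (A : Type u) (_ : CommRing A) (_ : IsDomain A) (_ : IsDiscreteValuationRing A) (_ : Algebra k A)
      (φ : Localization.AtPrime P →ₐ[k] A),
      IsAdicComplete (IsLocalRing.maximalIdeal A) A ∧ IsAlgClosed (IsLocalRing.ResidueField A) ∧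
        Function.Injective φ ∧ IsLocalHom φ.toRingHom ∧
          Irreducible (φ (algebraMap (MvPowerSeries (Fin 2) k) (Localization.AtPrime P)
            (MvPowerSeries.X 0))) := by
  haveI : IsDomain (MvPowerSeries (Fin 2) k) := NoZeroDivisors.to_isDomain _
  obtain ⟨x0, hx0⟩ : ∃ x0 : Localization.AtPrime P,
      x0 = algebraMap (MvPowerSeries (Fin 2) k) (Localization.AtPrime P) (MvPowerSeries.X 0) :=
    ⟨_, rfl⟩
  have hmaxLoc : maximalIdeal (Localization.AtPrime P) = Ideal.span {x0} := by
    rw [← Localization.AtPrime.map_eq_maximalIdeal]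
    calc Ideal.map (algebraMap (MvPowerSeries (Fin 2) k) (Localization.AtPrime P)) P
        = Ideal.map (algebraMap (MvPowerSeries (Fin 2) k) (Localization.AtPrime P))
            (Ideal.span {(MvPowerSeries.X 0 : MvPowerSeries (Fin 2) k)}) :=
          congrArg (Ideal.map _) hP
      _ = Ideal.span {x0} := by rw [Ideal.map_span, Set.image_singleton, hx0]
  have hX0 : (MvPowerSeries.X 0 : MvPowerSeries (Fin 2) k) ≠ 0 := by
    intro h
    have h1 := congrArg (MvPowerSeries.coeff (Finsupp.single (0 : Fin 2) 1)) h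
    rw [MvPowerSeries.coeff_index_single_self_X, map_zero] at h1
    exact one_ne_zero h1
  have hx0ne : x0 ≠ 0 := by
    rw [hx0]
    intro h
    exact hX0 ((IsLocalization.injective (Localization.AtPrime P)
      (Ideal.primeCompl_le_nonZeroDivisors P)) (by rw [h, map_zero]))
  have hnf : ¬ IsField (Localization.AtPrime P) := by
    rw [IsLocalRing.isField_iff_maximalIdeal_eq, hmaxLoc, Ideal.span_singleton_eq_bot]
    exact hx0ne
  haveI hdvrLoc : IsDiscreteValuationRing (Localization.AtPrime P) :=
    ((IsDiscreteValuationRing.TFAE (Localization.AtPrime P) hnf).out 0 4).2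
      (⟨⟨x0, hmaxLoc⟩⟩ : (maximalIdeal (Localization.AtPrime P)).IsPrincipal)
  have hx0irr : Irreducible x0 :=
    (IsDiscreteValuationRing.irreducible_iff_uniformizer x0).2 hmaxLoc
  obtain ⟨C, _, _, _, ι, θ, hcompl, hι, hloc, hθsurj, hker, hθι, hmaxgen⟩ :=
    exists_complete_ext (Localization.AtPrime P)
      (AlgebraicClosure (ResidueField (Localization.AtPrime P)))
  letI algC : Algebra k C := (ι.comp (algebraMap k (Localization.AtPrime P))).toAlgebra
  obtain ⟨ψ⟩ : Nonempty ((C ⧸ maximalIdeal C) ≃+*
      AlgebraicClosure (ResidueField (Localization.AtPrime P))) :=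
    ⟨(Ideal.quotEquivOfEq hker.symm).trans (RingHom.quotientKerEquivOfSurjective hθsurj)⟩
  have hac : IsAlgClosed (ResidueField C) :=
    IsAlgClosed.of_ringEquiv (k := AlgebraicClosure (ResidueField (Localization.AtPrime P)))
      (ResidueField C) ψ.symm
  refine ⟨C, inferInstance, inferInstance, inferInstance, algC, ⟨ι, fun _ => rfl⟩, hcompl, hac,
    hι, ?_, ?_⟩
  · refine ⟨fun a ha => ?_⟩
    by_contra hna
    exact hloc a ((mem_maximalIdeal a).2 (mem_nonunits_iff.2 hna)) ha
  · have h1 : maximalIdeal C = Ideal.span {ι x0} := hmaxgen x0 hx0irr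
    have h2 : Irreducible (ι x0) := (IsDiscreteValuationRing.irreducible_iff_uniformizer _).2 h1
    rw [hx0] at h2
    exact h2

end PS

end Groth.Agent.Helper8.DvrResExt
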