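import Mathlib

set_option autoImplicit false
universe u
open CategoryTheory AlgebraicGeometry Limits

namespace Groth.Agent.Helper8.EffEpi

theorem main {ι : Type u} {X : Scheme.{u}} {Xi : ι → Scheme.{u}} (f : ∀ i, Xi i ⟶ X)
    (h : ∀ (Y : Scheme.{u}) (g : Y ⟶ X), IsAffine Y → ((Sieve.ofArrows Xi f).pullback g).EffectiveEpimorphic)
    {Y : Scheme.{u}} (g : Y ⟶ X) : ((Sieve.ofArrows Xi f).pullback g).EffectiveEpimorphic := by
  rw [Sieve.EffectiveEpimorphic.iff_forall_isSheafFor_yoneda]
  intro W
  have hW : Presieve.IsSheaf Scheme.zariskiTopology (yoneda.obj W) :=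
    GrothendieckTopology.Subcanonical.isSheaf_of_isRepresentable _
  have key : ∀ (V : Scheme.{u}) (j : V ⟶ Y), IsAffine V →
      Presieve.IsSheafFor (yoneda.obj W) (((Sieve.ofArrows Xi f).pullback g).pullback j).arrows := by
    intro V j hV
    rw [← Sieve.pullback_comp]
    exact (Sieve.EffectiveEpimorphic.iff_forall_isSheafFor_yoneda _).1 (h V (j ≫ g) hV) W
  refine Y.affineOneHypercover.isSheafFor_sieve_of_pullback hW (fun i => ?_) (fun i j k => ?_)
  · refine key _ _ ?_
    show IsAffine (Y.affineCover.X i)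
    infer_instance
  · refine (key _ _ ?_).isSeparatedFor
    show IsAffine ((pullback (Y.affineCover.f i) (Y.affineCover.f j)).affineCover.X k)
    infer_instance

end Groth.Agent.Helper8.EffEpi
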