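import Mathlib

/-!
# Helper8: opens of affine space invariant under elementary automorphisms (part A)

`Z` is a closed subset of `Spec k[x_1..x_n]` stable under the maps induced by
`x_i ↦ x_i + x_j ^ d`.  Points with values in a domain `D` (through a ring hom `g : k →+* D`) are
given by tuples `a : Fin n → D`.  If a `D`-point of `Z` has a coordinate `a j` such that the set
`{a j ^ d} ∪ {m}` is infinite, then `Z` is everything (`vanishing_eq_bot`).
-/

namespace Groth.Agent.Helper8.ElemInv

open MvPolynomial

universe u v w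

variable {k : Type u} [Field k] {n : ℕ}

/-- the elementary endomorphism `x_i ↦ x_i + x_j ^ d` -/
noncomputable def phi (k : Type u) [Field k] (n : ℕ) (i j : Fin n) (d : ℕ) :
    MvPolynomial (Fin n) k →ₐ[k] MvPolynomial (Fin n) k :=
  aeval (Function.update X i (X i + X j ^ d) : Fin n → MvPolynomial (Fin n) k)

section points

variable {D : Type v} [CommRing D] [IsDomain D] (g : k →+* D)

/-- the point of the spectrum defined by a `D`-valued point `a` -/
noncomputable def pt (a : Fin n → D) : PrimeSpectrum (MvPolynomial (Fin n) k) :=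
  ⟨RingHom.ker (eval₂Hom g a), RingHom.ker_isPrime _⟩

theorem eval₂Hom_comp_phi (a : Fin n → D) (i j : Fin n) (d : ℕ) :
    (eval₂Hom g a).comp (phi k n i j d).toRingHom =
      eval₂Hom g (Function.update a i (a i + a j ^ d)) := by
  apply MvPolynomial.ringHom_ext
  · intro r
    simp [phi]
  · intro l
    by_cases h : l = i
    · subst h; simp [phi]
    · simp [phi, Function.update_of_ne h]

theorem comap_phi_pt (a : Fin n → D) (i j : Fin n) (d : ℕ) :
    PrimeSpectrum.comap (phi k n i j d).toRingHom (pt g a) =
      pt g (Function.update a i (a i + a j ^ d)) := by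
  apply PrimeSpectrum.ext
  ext f
  simp only [pt, PrimeSpectrum.comap_asIdeal, Ideal.mem_comap, RingHom.mem_ker]
  rw [← eval₂Hom_comp_phi]
  rfl

variable (Z : Set (PrimeSpectrum (MvPolynomial (Fin n) k)))

theorem mem_iff (hZc : IsClosed Z) (a : Fin n → D) :
    pt g a ∈ Z ↔ ∀ f ∈ PrimeSpectrum.vanishingIdeal Z, eval₂Hom g a f = 0 := by
  have h : Z = PrimeSpectrum.zeroLocus (PrimeSpectrum.vanishingIdeal Z : Set _) := by
    rw [PrimeSpectrum.zeroLocus_vanishingIdeal_eq_closure, hZc.closure_eq]
  constructor
  · intro hm f hf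
    rw [h, PrimeSpectrum.mem_zeroLocus] at hm
    exact RingHom.mem_ker.mp (hm hf)
  · intro hm
    rw [h, PrimeSpectrum.mem_zeroLocus]
    intro f hf
    exact RingHom.mem_ker.mpr (hm f hf)

variable (hst : ∀ i j : Fin n, i ≠ j → ∀ d : ℕ, ∀ P,
  PrimeSpectrum.comap (phi k n i j d).toRingHom P ∈ Z ↔ P ∈ Z)

include hst in
theorem move (a : Fin n → D) (h : pt g a ∈ Z) (i j : Fin n) (hij : i ≠ j) (d : ℕ) :
    pt g (Function.update a i (a i + a j ^ d)) ∈ Z := by
  rw [← comap_phi_pt]
  exact (hst i j hij d _).mpr h

include hst in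
theorem move_nat (a : Fin n → D) (h : pt g a ∈ Z) (i j : Fin n) (hij : i ≠ j) (m : ℕ) :
    pt g (Function.update a i (a i + (m : D))) ∈ Z := by
  induction m with
  | zero => simpa using h
  | succ m ih =>
    have h1 := move g Z hst _ ih i j hij 0
    have h2 : Function.update (Function.update a i (a i + (m : D))) i
        (Function.update a i (a i + (m : D)) i + Function.update a i (a i + (m : D)) j ^ 0) =
        Function.update a i (a i + ((m + 1 : ℕ) : D)) := by
      rw [Function.update_idem, Function.update_self]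
      congr 1
      push_cast
      ring
    rw [h2] at h1
    exact h1

/-- restriction to the line through `a` in direction `i` -/
noncomputable def line (a : Fin n → D) (i : Fin n) : MvPolynomial (Fin n) k →+* Polynomial D :=
  eval₂Hom (Polynomial.C.comp g) (Function.update (fun l => Polynomial.C (a l)) i Polynomial.X)

theorem eval_line (a : Fin n → D) (i : Fin n) (c : D) (f : MvPolynomial (Fin n) k) :
    Polynomial.eval c (line g a i f) = eval₂Hom g (Function.update a i c) f := by
  have h : (Polynomial.evalRingHom c).comp (line g a i) = eval₂Hom g (Function.update a i c) := by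
    apply MvPolynomial.ringHom_ext
    · intro r
      simp [line]
    · intro l
      by_cases h : l = i
      · subst h; simp [line]
      · simp [line, Function.update_of_ne h]
  exact RingHom.congr_fun h f

include hst in
theorem line_mem (hZc : IsClosed Z) (a : Fin n → D) (h : pt g a ∈ Z) (i j : Fin n) (hij : i ≠ j)
    (hS : ({s : D | ∃ d : ℕ, s = a j ^ d} ∪ {s : D | ∃ m : ℕ, s = (m : D)}).Infinite) (c : D) :
    pt g (Function.update a i c) ∈ Z := by
  rw [mem_iff g Z hZc]
  intro f hf
  have hF : line g a i f = 0 := by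
    apply Polynomial.eq_zero_of_infinite_isRoot
    refine Set.Infinite.mono ?_ (hS.image (f := fun s => a i + s)
      (fun x _ y _ hxy => add_left_cancel hxy))
    rintro _ ⟨s, hs, rfl⟩
    show Polynomial.IsRoot _ _
    rw [Polynomial.IsRoot, eval_line]
    rcases hs with ⟨d, rfl⟩ | ⟨m, rfl⟩
    · exact (mem_iff g Z hZc _).mp (move g Z hst a h i j hij d) f hf
    · exact (mem_iff g Z hZc _).mp (move_nat g Z hst a h i j hij m) f hf
  rw [← eval_line, hF, Polynomial.eval_zero]

end points

section propagate

variable {K : Type v} [CommRing K] [IsDomain K] (g : k →+* K)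
variable (Z : Set (PrimeSpectrum (MvPolynomial (Fin n) k)))
variable (hst : ∀ i j : Fin n, i ≠ j → ∀ d : ℕ, ∀ P,
  PrimeSpectrum.comap (phi k n i j d).toRingHom P ∈ Z ↔ P ∈ Z)

theorem X_pow_injective (i : Fin n) :
    Function.Injective (fun d : ℕ => (X i : MvPolynomial (Fin n) K) ^ d) := by
  intro d e h
  have := congrArg MvPolynomial.totalDegree h
  simpa [MvPolynomial.totalDegree_X_pow] using this

include hst in
theorem vanishing_eq_bot (hZc : IsClosed Z) (hn : 2 ≤ n) (a : Fin n → K) (h : pt g a ∈ Z)
    (j : Fin n)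
    (hS : ({s : K | ∃ d : ℕ, s = a j ^ d} ∪ {s : K | ∃ m : ℕ, s = (m : K)}).Infinite) :
    PrimeSpectrum.vanishingIdeal Z = ⊥ := by
  classical
  -- the polynomial domain
  let g' : k →+* MvPolynomial (Fin n) K := (C : K →+* MvPolynomial (Fin n) K).comp g
  let a0 : Fin n → MvPolynomial (Fin n) K := fun l => C (a l)
  have h0 : pt g' a0 ∈ Z := by
    rw [mem_iff g' Z hZc]
    intro f hf
    have hcomp : eval₂Hom g' a0 = (C : K →+* MvPolynomial (Fin n) K).comp (eval₂Hom g a) := by
      apply MvPolynomial.ringHom_ext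
      · intro r; simp [g']
      · intro l; simp [a0]
    rw [hcomp, RingHom.comp_apply, (mem_iff g Z hZc a).mp h f hf, map_zero]
  have hS0 : ({s : MvPolynomial (Fin n) K | ∃ d : ℕ, s = a0 j ^ d} ∪
      {s : MvPolynomial (Fin n) K | ∃ m : ℕ, s = (m : MvPolynomial (Fin n) K)}).Infinite := by
    refine Set.Infinite.mono ?_ (hS.image (f := (C : K → MvPolynomial (Fin n) K))
      (fun x _ y _ hxy => C_injective _ _ hxy))
    rintro _ ⟨s, hs, rfl⟩
    rcases hs with ⟨d, rfl⟩ | ⟨m, rfl⟩
    · left; exact ⟨d, by simp [a0]⟩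
    · right; exact ⟨m, by simp⟩
  -- choose `i₁ ≠ j`
  obtain ⟨i₁, hi₁⟩ : ∃ i₁ : Fin n, i₁ ≠ j := by
    by_cases hj : j = ⟨0, by omega⟩
    · exact ⟨⟨1, by omega⟩, by rw [hj]; simp [Fin.ext_iff]⟩
    · exact ⟨⟨0, by omega⟩, fun h => hj h.symm⟩
  let a1 : Fin n → MvPolynomial (Fin n) K := Function.update a0 i₁ (X i₁)
  have h1 : pt g' a1 ∈ Z := line_mem g' Z hst hZc a0 h0 i₁ j hi₁ hS0 (X i₁)
  -- now coordinate `i₁` is transcendental
  have hT : ∀ b : Fin n → MvPolynomial (Fin n) K, b i₁ = X i₁ →
      ({s : MvPolynomial (Fin n) K | ∃ d : ℕ, s = b i₁ ^ d} ∪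
      {s : MvPolynomial (Fin n) K | ∃ m : ℕ, s = (m : MvPolynomial (Fin n) K)}).Infinite := by
    intro b hb
    refine Set.Infinite.mono Set.subset_union_left ?_
    have : {s : MvPolynomial (Fin n) K | ∃ d : ℕ, s = b i₁ ^ d} =
        Set.range (fun d : ℕ => (X i₁ : MvPolynomial (Fin n) K) ^ d) := by
      ext s; simp [hb, eq_comm]
    rw [this]
    exact Set.infinite_range_of_injective (X_pow_injective i₁)
  have hind : ∀ T : Finset (Fin n), i₁ ∉ T →
      pt g' (fun l => if l ∈ T then X l else a1 l) ∈ Z := by
    intro T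
    induction T using Finset.induction_on with
    | empty =>
      intro _
      simpa using h1
    | insert i T hiT ih =>
      intro hi
      have hi₁T : i₁ ∉ T := fun h => hi (Finset.mem_insert_of_mem h)
      have hii₁ : i ≠ i₁ := fun h => hi (h ▸ Finset.mem_insert_self _ _)
      have hb := ih hi₁T
      have hbi : (fun l => if l ∈ T then X l else a1 l) i₁ = X i₁ := by
        simp [hi₁T, a1]
      have := line_mem g' Z hst hZc _ hb i i₁ hii₁
        (hT (fun l => if l ∈ T then X l else a1 l) hbi) (X i)
      convert this using 2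
      funext l
      by_cases hl : l = i
      · subst hl; simp
      · simp [Function.update_of_ne hl, Finset.mem_insert, hl]
  have hfin := hind (Finset.univ.erase i₁) (Finset.notMem_erase _ _)
  have hb : (fun l => if l ∈ Finset.univ.erase i₁ then (X l : MvPolynomial (Fin n) K) else a1 l) =
      X := by
    funext l
    by_cases hl : l = i₁
    · subst hl; simp [a1]
    · simp [hl]
  rw [hb] at hfin
  rw [eq_bot_iff]
  intro f hf
  have hf0 := (mem_iff g' Z hZc _).mp hfin f hf
  have hmap : eval₂Hom g' (X : Fin n → MvPolynomial (Fin n) K) = MvPolynomial.map g := by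
    apply MvPolynomial.ringHom_ext
    · intro r; simp [g']
    · intro l; simp
  rw [hmap] at hf0
  have : f = 0 := MvPolynomial.map_injective g g.injective (by simpa using hf0)
  rw [this]; exact Ideal.zero_mem _

end propagate

end Groth.Agent.Helper8.ElemInv
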