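import Mathlib
import Groth.Agent.Helper8.ElemInvA

/-!
# Helper8: opens of affine space invariant under elementary automorphisms (part B)

`exists_pow_pow_eq`: in a field of characteristic `p`, an element with `a ^ d = a ^ e`, `d < e`,
satisfies `a ^ (p ^ m) = a` for some `m > 0`.
`main_alg`: the algebraic form of the statement for a closed stable subset `Z ≠ univ`, `Z ≠ ∅`.
-/

namespace Groth.Agent.Helper8.ElemInv

open MvPolynomial

universe u v

theorem exists_pow_pow_eq {K : Type*} [Field K] (p : ℕ) [hp : Fact p.Prime] [CharP K p] (a : K)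
    (d e : ℕ) (hde : d < e) (h : a ^ d = a ^ e) : ∃ m : ℕ, 0 < m ∧ a ^ (p ^ m) = a := by
  by_cases ha : a = 0
  · refine ⟨1, one_pos, ?_⟩
    rw [ha, zero_pow (pow_ne_zero _ hp.out.ne_zero)]
  · set u : Kˣ := Units.mk0 a ha with hu_def
    have hu : u ^ (e - d) = 1 := by
      apply Units.ext
      simp only [Units.val_pow_eq_pow_val, Units.val_mk0, Units.val_one, u]
      have h1 : a ^ d * a ^ (e - d) = a ^ d * 1 := by
        rw [← pow_add, Nat.add_sub_cancel' hde.le, mul_one, h]
      exact mul_left_cancel₀ (pow_ne_zero _ ha) h1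
    have hfin : IsOfFinOrder u :=
      isOfFinOrder_iff_pow_eq_one.mpr ⟨e - d, Nat.sub_pos_of_lt hde, hu⟩
    have hr : 0 < orderOf u := hfin.orderOf_pos
    have hcop : Nat.Coprime p (orderOf u) := by
      rw [Nat.Prime.coprime_iff_not_dvd hp.out]
      rintro ⟨r', hr'⟩
      have h1 : (u ^ r') ^ p = 1 := by
        rw [← pow_mul, mul_comm, ← hr', pow_orderOf_eq_one]
      have h2 : frobenius K p ((u ^ r' : Kˣ) : K) = frobenius K p 1 := by
        rw [frobenius_def, frobenius_def, one_pow, ← Units.val_pow_eq_pow_val, h1, Units.val_one]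
      have h3 : ((u ^ r' : Kˣ) : K) = 1 := frobenius_inj K p h2
      have h4 : u ^ r' = 1 := Units.ext h3
      have h5 := orderOf_dvd_of_pow_eq_one h4
      have hr'pos : 0 < r' := by
        rcases Nat.eq_zero_or_pos r' with h0 | h0
        · rw [h0, mul_zero] at hr'; omega
        · exact h0
      have h6 := Nat.le_of_dvd hr'pos h5
      have hp2 := hp.out.two_le
      nlinarith
    refine ⟨Nat.totient (orderOf u), Nat.totient_pos.mpr hr, ?_⟩
    have hmod : p ^ Nat.totient (orderOf u) ≡ 1 [MOD orderOf u] := Nat.ModEq.pow_totient hcop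
    have h7 : u ^ (p ^ Nat.totient (orderOf u)) = u ^ 1 := pow_eq_pow_iff_modEq.mpr hmod
    have h8 := congrArg Units.val h7
    simpa [u] using h8

variable {k : Type u} [Field k] {n : ℕ}

theorem main_alg (hn : 2 ≤ n) (Z : Set (PrimeSpectrum (MvPolynomial (Fin n) k))) (hZc : IsClosed Z)
    (hst : ∀ i j : Fin n, i ≠ j → ∀ d : ℕ, ∀ P,
      PrimeSpectrum.comap (phi k n i j d).toRingHom P ∈ Z ↔ P ∈ Z)
    (hne : Z ≠ Set.univ) (hne' : Z.Nonempty) :
    ∃ p : ℕ, p.Prime ∧ CharP k p ∧ Z.Finite ∧ ∀ P ∈ Z, P.asIdeal.IsMaximal ∧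
      ∀ i : Fin n, ∃ m : ℕ, 0 < m ∧
        (algebraMap (MvPolynomial (Fin n) k) P.asIdeal.ResidueField (X i)) ^ (p ^ m) =
          algebraMap (MvPolynomial (Fin n) k) P.asIdeal.ResidueField (X i) := by
  classical
  have hI : PrimeSpectrum.vanishingIdeal Z ≠ ⊥ := by
    intro h
    apply hne
    rw [← hZc.closure_eq, ← PrimeSpectrum.zeroLocus_vanishingIdeal_eq_closure, h]
    simp
  -- the residue field point of `P`
  have key : ∀ P ∈ Z, ∀ j : Fin n,
      ¬ ({s : P.asIdeal.ResidueField | ∃ d : ℕ, s =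
          (algebraMap (MvPolynomial (Fin n) k) P.asIdeal.ResidueField (X j)) ^ d} ∪
        {s : P.asIdeal.ResidueField | ∃ m : ℕ, s = (m : P.asIdeal.ResidueField)}).Infinite := by
    intro P hP j hinf
    apply hI
    let ρ := algebraMap (MvPolynomial (Fin n) k) P.asIdeal.ResidueField
    have hev : eval₂Hom (ρ.comp C) (fun l => ρ (X l)) = ρ := by
      apply MvPolynomial.ringHom_ext
      · intro r; simp
      · intro l; simp
    have hmem : pt (ρ.comp C) (fun l => ρ (X l)) ∈ Z := by
      have : pt (ρ.comp C) (fun l => ρ (X l)) = P := by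
        apply PrimeSpectrum.ext
        show RingHom.ker (eval₂Hom (ρ.comp C) (fun l => ρ (X l))) = P.asIdeal
        rw [hev]
        exact Ideal.ker_algebraMap_residueField _
      rw [this]; exact hP
    exact vanishing_eq_bot (ρ.comp C) Z hst hZc hn (fun l => ρ (X l)) hmem j hinf
  -- characteristic
  have hchar : ∀ P ∈ Z, ¬ CharZero P.asIdeal.ResidueField := by
    intro P hP hcz
    obtain ⟨j⟩ : Nonempty (Fin n) := ⟨⟨0, by omega⟩⟩
    apply key P hP j
    refine Set.Infinite.mono Set.subset_union_right ?_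
    have : {s : P.asIdeal.ResidueField | ∃ m : ℕ, s = (m : P.asIdeal.ResidueField)} =
        Set.range (Nat.cast : ℕ → P.asIdeal.ResidueField) := by
      ext s; simp [eq_comm]
    rw [this]
    exact Set.infinite_range_of_injective Nat.cast_injective
  obtain ⟨P₀, hP₀⟩ := hne'
  let g₀ : k →+* P₀.asIdeal.ResidueField :=
    (algebraMap (MvPolynomial (Fin n) k) P₀.asIdeal.ResidueField).comp C
  obtain ⟨p, hpK⟩ := CharP.exists P₀.asIdeal.ResidueField
  have hp0 : p ≠ 0 := by
    intro h0
    subst h0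
    exact hchar P₀ hP₀ (CharP.charP_to_charZero _)
  have hpp : p.Prime := (CharP.char_is_prime_or_zero P₀.asIdeal.ResidueField p).resolve_right hp0
  haveI hpk : CharP k p := (RingHom.charP_iff g₀ g₀.injective p).mpr hpK
  haveI : Fact p.Prime := ⟨hpp⟩
  -- the coordinates
  have hcoord : ∀ P ∈ Z, ∀ i : Fin n, ∃ m : ℕ, 0 < m ∧
        (algebraMap (MvPolynomial (Fin n) k) P.asIdeal.ResidueField (X i)) ^ (p ^ m) =
          algebraMap (MvPolynomial (Fin n) k) P.asIdeal.ResidueField (X i) := by
    intro P hP i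
    let g : k →+* P.asIdeal.ResidueField :=
      (algebraMap (MvPolynomial (Fin n) k) P.asIdeal.ResidueField).comp C
    haveI : CharP P.asIdeal.ResidueField p := (RingHom.charP_iff g g.injective p).mp hpk
    have hfin := Set.not_infinite.mp (key P hP i)
    have hfin' : {s : P.asIdeal.ResidueField | ∃ d : ℕ, s =
          (algebraMap (MvPolynomial (Fin n) k) P.asIdeal.ResidueField (X i)) ^ d}.Finite :=
      hfin.subset Set.subset_union_left
    have hfin'' : (Set.range (fun d : ℕ =>
        (algebraMap (MvPolynomial (Fin n) k) P.asIdeal.ResidueField (X i)) ^ d)).Finite := by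
      refine hfin'.subset ?_
      rintro _ ⟨d, rfl⟩
      exact ⟨d, rfl⟩
    obtain ⟨d, e, hde, h⟩ := Set.Finite.exists_lt_map_eq_of_forall_mem
      (f := fun d : ℕ => (algebraMap (MvPolynomial (Fin n) k) P.asIdeal.ResidueField (X i)) ^ d)
      (fun d => Set.mem_range_self d) hfin''
    exact exists_pow_pow_eq p _ d e hde h
  -- maximality
  have hmax : ∀ P ∈ Z, P.asIdeal.IsMaximal := by
    intro P hP
    have hint : ∀ l : Fin n, IsIntegral k (Ideal.Quotient.mk P.asIdeal (X l)) := by
      intro l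
      obtain ⟨m, hm, hpow⟩ := hcoord P hP l
      have h2 : 2 ≤ p ^ m := by
        calc 2 ≤ p := hpp.two_le
          _ = p ^ 1 := (pow_one p).symm
          _ ≤ p ^ m := Nat.pow_le_pow_right hpp.pos hm
      refine ⟨Polynomial.X ^ (p ^ m) - Polynomial.X, ?_, ?_⟩
      · apply Polynomial.monic_X_pow_sub
        rw [Polynomial.degree_X]
        exact_mod_cast (by omega : 1 < p ^ m)
      · simp only [Polynomial.eval₂_sub, Polynomial.eval₂_pow, Polynomial.eval₂_X]
        rw [← map_pow, ← map_sub, Ideal.Quotient.eq_zero_iff_mem,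
          ← Ideal.algebraMap_residueField_eq_zero, map_sub, map_pow, hpow, sub_self]
    have hle : Algebra.adjoin k (Set.range fun l : Fin n => Ideal.Quotient.mk P.asIdeal (X l)) ≤
        integralClosure k (MvPolynomial (Fin n) k ⧸ P.asIdeal) :=
      Algebra.adjoin_le (by rintro _ ⟨l, rfl⟩; exact hint l)
    have htop : Algebra.adjoin k (Set.range fun l : Fin n => Ideal.Quotient.mk P.asIdeal (X l)) =
        ⊤ := by
      have h1 := MvPolynomial.adjoin_range_X (R := k) (σ := Fin n)
      have h2 := congrArg (Subalgebra.map (Ideal.Quotient.mkₐ k P.asIdeal)) h1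
      rw [AlgHom.map_adjoin, Algebra.map_top,
        (AlgHom.range_eq_top _).mpr (Ideal.Quotient.mkₐ_surjective k P.asIdeal)] at h2
      rw [← h2, ← Set.range_comp]
      rfl
    haveI : Algebra.IsIntegral k (MvPolynomial (Fin n) k ⧸ P.asIdeal) :=
      ⟨fun x => hle (htop ▸ Algebra.mem_top)⟩
    have hfld : IsField (MvPolynomial (Fin n) k ⧸ P.asIdeal) :=
      isField_of_isIntegral_of_isField' (Field.toIsField k)
    exact Ideal.Quotient.maximal_of_isField _ hfld
  refine ⟨p, hpp, hpk, ?_, fun P hP => ⟨hmax P hP, hcoord P hP⟩⟩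
  -- finiteness
  have hfinmin := Ideal.finite_minimalPrimes_of_isNoetherianRing (MvPolynomial (Fin n) k)
    (PrimeSpectrum.vanishingIdeal Z)
  have hZ : Z = PrimeSpectrum.zeroLocus (PrimeSpectrum.vanishingIdeal Z : Set _) := by
    rw [PrimeSpectrum.zeroLocus_vanishingIdeal_eq_closure, hZc.closure_eq]
  have hsub : Z ⊆ PrimeSpectrum.asIdeal ⁻¹' (PrimeSpectrum.vanishingIdeal Z).minimalPrimes := by
    intro P hP
    have hIP : PrimeSpectrum.vanishingIdeal Z ≤ P.asIdeal := by
      have := hP
      rw [hZ, PrimeSpectrum.mem_zeroLocus] at this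
      exact this
    obtain ⟨Q, hQmin, hQP⟩ := Ideal.exists_minimalPrimes_le hIP
    have hQprime : Q.IsPrime := hQmin.1.1
    have hQle : PrimeSpectrum.vanishingIdeal Z ≤ Q := hQmin.1.2
    have hQZ : (⟨Q, hQprime⟩ : PrimeSpectrum _) ∈ Z := by
      have h := (PrimeSpectrum.mem_zeroLocus (⟨Q, hQprime⟩ : PrimeSpectrum _)
        (PrimeSpectrum.vanishingIdeal Z : Set _)).mpr hQle
      rw [← hZ] at h
      exact h
    have hQmax : Q.IsMaximal := hmax _ hQZ
    have : Q = P.asIdeal := hQmax.eq_of_le P.2.ne_top hQP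
    rw [Set.mem_preimage, ← this]; exact hQmin
  refine (hfinmin.preimage ?_).subset hsub
  intro P _ Q _ h
  exact PrimeSpectrum.ext h

end Groth.Agent.Helper8.ElemInv
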