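import Mathlib
import Groth.Agent.Helper8.ElemInvA
import Groth.Agent.Helper8.ElemInvB

/-!
# Helper8: opens of affine space invariant under elementary automorphisms (part C)

Translation of `main_alg` to the scheme `Spec k[x_1..x_n]`.
-/

namespace Groth.Agent.Helper8.ElemInv

open CategoryTheory AlgebraicGeometry

universe u

theorem main (k : Type u) [Field k] (n : ℕ) (hn : 2 ≤ n)
    (W : (Spec (CommRingCat.of (MvPolynomial (Fin n) k))).Opens)
    (hW : (W : Set ↥(Spec (CommRingCat.of (MvPolynomial (Fin n) k)))).Nonempty)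
    (hinv : ∀ (i j : Fin n), i ≠ j → ∀ d : ℕ,
      (Spec.map (CommRingCat.ofHom (MvPolynomial.aeval (R := k)
        (Function.update MvPolynomial.X i (MvPolynomial.X i + MvPolynomial.X j ^ d) :
          Fin n → MvPolynomial (Fin n) k)).toRingHom)) ⁻¹ᵁ W = W) :
    W = ⊤ ∨ ∃ p : ℕ, p.Prime ∧ CharP k p ∧ ((W : Set ↥(Spec (CommRingCat.of (MvPolynomial (Fin n) k))))ᶜ).Finite ∧
      ∀ x : ↥(Spec (CommRingCat.of (MvPolynomial (Fin n) k))),
        x ∉ (W : Set ↥(Spec (CommRingCat.of (MvPolynomial (Fin n) k)))) →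
        IsClosed ({x} : Set ↥(Spec (CommRingCat.of (MvPolynomial (Fin n) k)))) ∧ ∀ i : Fin n, ∃ m : ℕ, 0 < m ∧
          (algebraMap (MvPolynomial (Fin n) k) x.asIdeal.ResidueField (MvPolynomial.X i)) ^ (p ^ m) =
            algebraMap (MvPolynomial (Fin n) k) x.asIdeal.ResidueField (MvPolynomial.X i) := by
  classical
  let Z : Set (PrimeSpectrum (MvPolynomial (Fin n) k)) :=
    (W : Set ↥(Spec (CommRingCat.of (MvPolynomial (Fin n) k))))ᶜ
  have hZc : IsClosed Z := W.2.isClosed_compl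
  have hst : ∀ i j : Fin n, i ≠ j → ∀ d : ℕ, ∀ P,
      PrimeSpectrum.comap (phi k n i j d).toRingHom P ∈ Z ↔ P ∈ Z := by
    intro i j hij d P
    have h := hinv i j hij d
    have h1 : (P : ↥(Spec (CommRingCat.of (MvPolynomial (Fin n) k)))) ∈
        (Spec.map (CommRingCat.ofHom (MvPolynomial.aeval (R := k)
        (Function.update MvPolynomial.X i (MvPolynomial.X i + MvPolynomial.X j ^ d) :
          Fin n → MvPolynomial (Fin n) k)).toRingHom)) ⁻¹ᵁ W ↔
        (P : ↥(Spec (CommRingCat.of (MvPolynomial (Fin n) k)))) ∈ W := by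
      rw [h]
    show ¬ _ ↔ ¬ _
    exact not_congr h1
  by_cases hZe : Z = ∅
  · left
    apply TopologicalSpace.Opens.ext
    have : (W : Set ↥(Spec (CommRingCat.of (MvPolynomial (Fin n) k))))ᶜ = ∅ := hZe
    rw [Set.compl_empty_iff] at this
    rw [this]; rfl
  · right
    have hne : Z ≠ Set.univ := by
      intro h
      obtain ⟨x, hx⟩ := hW
      have : x ∈ Z := by rw [h]; trivial
      exact this hx
    obtain ⟨p, hpp, hpk, hfin, hall⟩ := main_alg hn Z hZc hst hne (Set.nonempty_iff_ne_empty.mpr hZe)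
    refine ⟨p, hpp, hpk, hfin, fun x hx => ?_⟩
    obtain ⟨hmax, hcoord⟩ := hall x hx
    exact ⟨(PrimeSpectrum.isClosed_singleton_iff_isMaximal x).mpr hmax, hcoord⟩

end Groth.Agent.Helper8.ElemInv
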