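import Mathlib

/-!
# Integrality of the coefficients of a variable change between elliptic curves

If `W₁`, `W₂` are Weierstrass curves over `R` with unit discriminants and `C` is a variable change
over an `R`-algebra `Ω` carrying `W₁` to `W₂`, then all coefficients of `C` (and `u⁻¹`) are
integral over `R`.
-/

set_option autoImplicit false

namespace Groth.Agent.Helper8.EllInt

open WeierstrassCurve Polynomial

section

variable {R Ω : Type*} [CommRing R] [CommRing Ω] [Algebra R Ω]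

/-- An element satisfying a monic relation with integral coefficients is integral. -/
theorem isIntegral_of_rel (x : Ω) (n : ℕ) (c : Fin (n + 1) → Ω) (hc : ∀ i, IsIntegral R (c i))
    (h : x ^ (n + 1) = ∑ i : Fin (n + 1), c i * x ^ (i : ℕ)) : IsIntegral R x := by
  let O := integralClosure R Ω
  let q : O[X] := ∑ i : Fin (n + 1), C (⟨c i, hc i⟩ : O) * X ^ (i : ℕ)
  have hq : q.degree < ((n + 1 : ℕ) : WithBot ℕ) := by
    refine lt_of_le_of_lt (Polynomial.degree_sum_le _ _) ?_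
    rw [Finset.sup_lt_iff (WithBot.bot_lt_coe _)]
    intro i _
    refine lt_of_le_of_lt (Polynomial.degree_C_mul_X_pow_le _ _) ?_
    exact_mod_cast i.2
  have hmon : (X ^ (n + 1) - q).Monic := Polynomial.monic_X_pow_sub hq
  have hx : IsIntegral O x := by
    refine ⟨X ^ (n + 1) - q, hmon, ?_⟩
    rw [eval₂_sub, eval₂_pow, eval₂_X, eval₂_finset_sum, h, sub_eq_zero]
    refine Finset.sum_congr rfl fun i _ => ?_
    rw [eval₂_mul, eval₂_C, eval₂_pow, eval₂_X]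
    rfl
  exact isIntegral_trans x hx

theorem isIntegral_of_sq (x b c : Ω) (hb : IsIntegral R b) (hc : IsIntegral R c)
    (h : x ^ 2 = b * x + c) : IsIntegral R x := by
  refine isIntegral_of_rel x 1 ![c, b] ?_ ?_
  · intro i
    fin_cases i
    · exact hc
    · exact hb
  · rw [Fin.sum_univ_two]
    simp only [Matrix.cons_val_zero, Matrix.cons_val_one, Fin.val_zero, Fin.val_one, pow_zero,
      pow_one, mul_one]
    rw [h]; ring

theorem isIntegral_of_quartic (x b c d : Ω) (hb : IsIntegral R b) (hc : IsIntegral R c)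
    (hd : IsIntegral R d) (h : x ^ 4 = b * x ^ 2 + c * x + d) : IsIntegral R x := by
  refine isIntegral_of_rel x 3 ![d, c, b, 0] ?_ ?_
  · intro i
    fin_cases i
    · exact hd
    · exact hc
    · exact hb
    · exact isIntegral_zero
  · rw [Fin.sum_univ_four]
    simp only [Matrix.cons_val_zero, Matrix.cons_val_one, Matrix.cons_val, Fin.val_zero,
      Fin.val_one, pow_zero, pow_one, mul_one]
    rw [h]
    simp
    ring

variable (W₁ W₂ : WeierstrassCurve R) (h₁ : IsUnit W₁.Δ) (h₂ : IsUnit W₂.Δ)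
  (C : VariableChange Ω)
  (hC : C • (W₁.map (algebraMap R Ω)) = W₂.map (algebraMap R Ω))

include h₁ h₂ hC

theorem isIntegral_u : IsIntegral R (C.u : Ω) := by
  obtain ⟨d₂, hd₂⟩ := h₂
  have h := congrArg WeierstrassCurve.Δ hC
  rw [variableChange_Δ, map_Δ, map_Δ] at h
  have huv : (C.u : Ω) * ((C.u⁻¹ : Ωˣ) : Ω) = 1 := C.u.mul_inv
  have huv12 : (C.u : Ω) ^ 12 * ((C.u⁻¹ : Ωˣ) : Ω) ^ 12 = 1 := by rw [← mul_pow, huv, one_pow]
  have h' : (C.u : Ω) ^ 12 * algebraMap R Ω W₂.Δ = algebraMap R Ω W₁.Δ := by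
    linear_combination (-(C.u : Ω) ^ 12) * h + algebraMap R Ω W₁.Δ * huv12
  have h'' : (C.u : Ω) ^ 12 = algebraMap R Ω (W₁.Δ * ((d₂⁻¹ : Rˣ) : R)) := by
    have e1 : algebraMap R Ω W₂.Δ * algebraMap R Ω ((d₂⁻¹ : Rˣ) : R) = 1 := by
      rw [← map_mul, ← hd₂, Units.mul_inv, map_one]
    rw [map_mul]
    linear_combination algebraMap R Ω ((d₂⁻¹ : Rˣ) : R) * h' - (C.u : Ω) ^ 12 * e1
  exact IsIntegral.of_pow (n := 12) (by norm_num) (h'' ▸ isIntegral_algebraMap)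

theorem isIntegral_v : IsIntegral R ((C.u⁻¹ : Ωˣ) : Ω) := by
  obtain ⟨d₁, hd₁⟩ := h₁
  have h := congrArg WeierstrassCurve.Δ hC
  rw [variableChange_Δ, map_Δ, map_Δ] at h
  have h'' : ((C.u⁻¹ : Ωˣ) : Ω) ^ 12 = algebraMap R Ω (W₂.Δ * ((d₁⁻¹ : Rˣ) : R)) := by
    have e1 : algebraMap R Ω W₁.Δ * algebraMap R Ω ((d₁⁻¹ : Rˣ) : R) = 1 := by
      rw [← map_mul, ← hd₁, Units.mul_inv, map_one]
    rw [map_mul]
    linear_combination algebraMap R Ω ((d₁⁻¹ : Rˣ) : R) * h - ((C.u⁻¹ : Ωˣ) : Ω) ^ 12 * e1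
  exact IsIntegral.of_pow (n := 12) (by norm_num) (h'' ▸ isIntegral_algebraMap)

theorem isIntegral_r : IsIntegral R C.r := by
  have hu := isIntegral_u W₁ W₂ h₁ h₂ C hC
  set φ := algebraMap R Ω with hφ
  set u : Ω := (C.u : Ω) with hu'
  set v : Ω := ((C.u⁻¹ : Ωˣ) : Ω) with hv'
  have huv : u * v = 1 := C.u.mul_inv
  have h6 := congrArg WeierstrassCurve.b₆ hC
  have h8 := congrArg WeierstrassCurve.b₈ hC
  rw [variableChange_b₆, map_b₂, map_b₄, map_b₆, map_b₆] at h6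
  rw [variableChange_b₈, map_b₂, map_b₄, map_b₆, map_b₈, map_b₈] at h8
  have huv6 : u ^ 6 * v ^ 6 = 1 := by rw [← mul_pow, huv, one_pow]
  have huv8 : u ^ 8 * v ^ 8 = 1 := by rw [← mul_pow, huv, one_pow]
  have g6 : φ W₁.b₆ + 2 * C.r * φ W₁.b₄ + C.r ^ 2 * φ W₁.b₂ + 4 * C.r ^ 3 = u ^ 6 * φ W₂.b₆ := by
    linear_combination u ^ 6 * h6 -
      (φ W₁.b₆ + 2 * C.r * φ W₁.b₄ + C.r ^ 2 * φ W₁.b₂ + 4 * C.r ^ 3) * huv6
  have g8 : φ W₁.b₈ + 3 * C.r * φ W₁.b₆ + 3 * C.r ^ 2 * φ W₁.b₄ + C.r ^ 3 * φ W₁.b₂ + 3 * C.r ^ 4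
      = u ^ 8 * φ W₂.b₈ := by
    linear_combination u ^ 8 * h8 -
      (φ W₁.b₈ + 3 * C.r * φ W₁.b₆ + 3 * C.r ^ 2 * φ W₁.b₄ + C.r ^ 3 * φ W₁.b₂ + 3 * C.r ^ 4) * huv8
  refine isIntegral_of_quartic C.r (φ W₁.b₄) (2 * φ W₁.b₆ + u ^ 6 * φ W₂.b₆)
    (φ W₁.b₈ - u ^ 8 * φ W₂.b₈) isIntegral_algebraMap ?_ ?_ ?_
  · have : (2 : Ω) * φ W₁.b₆ = φ (2 * W₁.b₆) := by rw [map_mul, map_ofNat]
    rw [this]
    exact isIntegral_algebraMap.add ((hu.pow 6).mul isIntegral_algebraMap)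
  · exact isIntegral_algebraMap.sub ((hu.pow 8).mul isIntegral_algebraMap)
  · linear_combination C.r * g6 - g8

theorem isIntegral_s : IsIntegral R C.s := by
  have hu := isIntegral_u W₁ W₂ h₁ h₂ C hC
  have hr := isIntegral_r W₁ W₂ h₁ h₂ C hC
  set φ := algebraMap R Ω with hφ
  set u : Ω := (C.u : Ω) with hu'
  set v : Ω := ((C.u⁻¹ : Ωˣ) : Ω) with hv'
  have huv : u * v = 1 := C.u.mul_inv
  have h2 := congrArg WeierstrassCurve.a₂ hC
  rw [variableChange_a₂, map_a₁, map_a₂, map_a₂] at h2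
  have huv2 : u ^ 2 * v ^ 2 = 1 := by rw [← mul_pow, huv, one_pow]
  have g2 : φ W₁.a₂ - C.s * φ W₁.a₁ + 3 * C.r - C.s ^ 2 = u ^ 2 * φ W₂.a₂ := by
    linear_combination u ^ 2 * h2 - (φ W₁.a₂ - C.s * φ W₁.a₁ + 3 * C.r - C.s ^ 2) * huv2
  refine isIntegral_of_sq C.s (-φ W₁.a₁) (φ W₁.a₂ + 3 * C.r - u ^ 2 * φ W₂.a₂)
    isIntegral_algebraMap.neg ?_ ?_
  · refine (isIntegral_algebraMap.add ?_).sub ((hu.pow 2).mul isIntegral_algebraMap)
    have : (3 : Ω) * C.r = φ 3 * C.r := by rw [map_ofNat]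
    rw [this]
    exact isIntegral_algebraMap.mul hr
  · linear_combination (-1 : Ω) * g2

theorem isIntegral_t : IsIntegral R C.t := by
  have hu := isIntegral_u W₁ W₂ h₁ h₂ C hC
  have hr := isIntegral_r W₁ W₂ h₁ h₂ C hC
  set φ := algebraMap R Ω with hφ
  set u : Ω := (C.u : Ω) with hu'
  set v : Ω := ((C.u⁻¹ : Ωˣ) : Ω) with hv'
  have huv : u * v = 1 := C.u.mul_inv
  have h6 := congrArg WeierstrassCurve.a₆ hC
  rw [variableChange_a₆, map_a₁, map_a₂, map_a₃, map_a₄, map_a₆, map_a₆] at h6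
  have huv6 : u ^ 6 * v ^ 6 = 1 := by rw [← mul_pow, huv, one_pow]
  have g6 : φ W₁.a₆ + C.r * φ W₁.a₄ + C.r ^ 2 * φ W₁.a₂ + C.r ^ 3 - C.t * φ W₁.a₃ - C.t ^ 2
      - C.r * C.t * φ W₁.a₁ = u ^ 6 * φ W₂.a₆ := by
    linear_combination u ^ 6 * h6 -
      (φ W₁.a₆ + C.r * φ W₁.a₄ + C.r ^ 2 * φ W₁.a₂ + C.r ^ 3 - C.t * φ W₁.a₃ - C.t ^ 2
        - C.r * C.t * φ W₁.a₁) * huv6
  refine isIntegral_of_sq C.t (-(φ W₁.a₃ + C.r * φ W₁.a₁))
    (φ W₁.a₆ + C.r * φ W₁.a₄ + C.r ^ 2 * φ W₁.a₂ + C.r ^ 3 - u ^ 6 * φ W₂.a₆) ?_ ?_ ?_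
  · exact (isIntegral_algebraMap.add (hr.mul isIntegral_algebraMap)).neg
  · exact ((((isIntegral_algebraMap.add (hr.mul isIntegral_algebraMap)).add
      ((hr.pow 2).mul isIntegral_algebraMap)).add (hr.pow 3)).sub
      ((hu.pow 6).mul isIntegral_algebraMap))
  · linear_combination (-1 : Ω) * g6

end

end Groth.Agent.Helper8.EllInt
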