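import Mathlib

/-!
# Infinitesimal rigidity of variable changes of elliptic curves

Let `k` be a field, `S` a `k`-algebra with a retraction `π : S → k` whose kernel is a square-zero
ideal.  A variable change `D` over `S` fixing (the base change of) an elliptic Weierstrass curve
over `k` and reducing to the identity under `π` is the identity.
-/

set_option autoImplicit false

namespace Groth.Agent.Helper8.EllRigid

open WeierstrassCurve

section

variable {k S : Type*} [Field k] [CommRing S] (ι : k →+* S) (π : S →+* k)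

include π in
theorem cancel (hπι : ∀ c, π (ι c) = c) {c : k} (hc : c ≠ 0) {x : S} (h : ι c * x = 0) : x = 0 := by
  have h1 : ι c⁻¹ * (ι c * x) = x := by
    rw [← mul_assoc, ← map_mul, inv_mul_cancel₀ hc, map_one, one_mul]
  rw [← h1, h, mul_zero]

theorem core (hπι : ∀ c, π (ι c) = c) (hJ : ∀ x y : S, π x = 0 → π y = 0 → x * y = 0)
    (W : WeierstrassCurve k) (hΔ : W.Δ ≠ 0) (D : VariableChange S)
    (hD : D • (W.map ι) = W.map ι) (h1 : D.map π = 1) : D = 1 := by
  -- notation
  set a₁ : S := ι W.a₁ with ha₁
  set a₂ : S := ι W.a₂ with ha₂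
  set a₃ : S := ι W.a₃ with ha₃
  set a₄ : S := ι W.a₄ with ha₄
  set a₆ : S := ι W.a₆ with ha₆
  set u : S := (D.u : S) with hu
  set v : S := ((D.u⁻¹ : Sˣ) : S) with hv
  set r : S := D.r with hr
  set s : S := D.s with hs
  set t : S := D.t with ht
  have huv : u * v = 1 := D.u.mul_inv
  set e : S := u - 1 with he
  -- reductions
  have pu : π u = 1 := by
    have := congrArg (fun C : VariableChange k => (C.u : k)) h1
    simpa [VariableChange.map, VariableChange.one_def] using this
  have pr : π r = 0 := by
    have := congrArg VariableChange.r h1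
    simpa [VariableChange.map, VariableChange.one_def] using this
  have ps : π s = 0 := by
    have := congrArg VariableChange.s h1
    simpa [VariableChange.map, VariableChange.one_def] using this
  have pt : π t = 0 := by
    have := congrArg VariableChange.t h1
    simpa [VariableChange.map, VariableChange.one_def] using this
  have pe : π e = 0 := by rw [he, map_sub, pu, map_one, sub_self]
  have hee := hJ e e pe pe
  have her := hJ e r pe pr
  have hes := hJ e s pe ps
  have het := hJ e t pe pt
  have hrr := hJ r r pr pr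
  have hrs := hJ r s pr ps
  have hrt := hJ r t pr pt
  have hss := hJ s s ps ps
  have hst := hJ s t ps pt
  have htt := hJ t t pt pt
  -- the five equations
  have E1 : v * (a₁ + 2 * s) = a₁ := by
    have := congrArg WeierstrassCurve.a₁ hD
    rwa [variableChange_a₁, map_a₁] at this
  have E2 : v ^ 2 * (a₂ - s * a₁ + 3 * r - s ^ 2) = a₂ := by
    have := congrArg WeierstrassCurve.a₂ hD
    rwa [variableChange_a₂, map_a₁, map_a₂] at this
  have E3 : v ^ 3 * (a₃ + r * a₁ + 2 * t) = a₃ := by
    have := congrArg WeierstrassCurve.a₃ hD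
    rwa [variableChange_a₃, map_a₁, map_a₃] at this
  have E4 : v ^ 4 * (a₄ - s * a₃ + 2 * r * a₂ - (t + r * s) * a₁ + 3 * r ^ 2 - 2 * s * t) = a₄ := by
    have := congrArg WeierstrassCurve.a₄ hD
    rwa [variableChange_a₄, map_a₁, map_a₂, map_a₃, map_a₄] at this
  have E6 : v ^ 6 * (a₆ + r * a₄ + r ^ 2 * a₂ + r ^ 3 - t * a₃ - t ^ 2 - r * t * a₁) = a₆ := by
    have := congrArg WeierstrassCurve.a₆ hD
    rwa [variableChange_a₆, map_a₁, map_a₂, map_a₃, map_a₄, map_a₆] at this
  have hue : u = 1 + e := by rw [he]; ring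
  -- multiply out
  have F1 : a₁ + 2 * s = u * a₁ := by
    linear_combination u * E1 - (a₁ + 2 * s) * huv
  have F2 : a₂ - s * a₁ + 3 * r - s ^ 2 = u ^ 2 * a₂ := by
    linear_combination u ^ 2 * E2 - (a₂ - s * a₁ + 3 * r - s ^ 2) * (u * v + 1) * huv
  have F3 : a₃ + r * a₁ + 2 * t = u ^ 3 * a₃ := by
    linear_combination u ^ 3 * E3 - (a₃ + r * a₁ + 2 * t) * ((u * v) ^ 2 + u * v + 1) * huv
  have F4 : a₄ - s * a₃ + 2 * r * a₂ - (t + r * s) * a₁ + 3 * r ^ 2 - 2 * s * t = u ^ 4 * a₄ := by
    linear_combination u ^ 4 * E4 -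
      (a₄ - s * a₃ + 2 * r * a₂ - (t + r * s) * a₁ + 3 * r ^ 2 - 2 * s * t) *
        ((u * v) ^ 3 + (u * v) ^ 2 + u * v + 1) * huv
  have F6 : a₆ + r * a₄ + r ^ 2 * a₂ + r ^ 3 - t * a₃ - t ^ 2 - r * t * a₁ = u ^ 6 * a₆ := by
    linear_combination u ^ 6 * E6 -
      (a₆ + r * a₄ + r ^ 2 * a₂ + r ^ 3 - t * a₃ - t ^ 2 - r * t * a₁) *
        ((u * v) ^ 5 + (u * v) ^ 4 + (u * v) ^ 3 + (u * v) ^ 2 + u * v + 1) * huv
  -- linearised equations
  have L1 : 2 * s = e * a₁ := by
    rw [hue] at F1; linear_combination F1
  have L2 : -(s * a₁) + 3 * r = 2 * e * a₂ := by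
    rw [hue] at F2; linear_combination F2 + hss + a₂ * hee
  have L3 : r * a₁ + 2 * t = 3 * e * a₃ := by
    rw [hue] at F3; linear_combination F3 + (3 + e) * a₃ * hee
  have L4 : -(s * a₃) + 2 * r * a₂ - t * a₁ = 4 * e * a₄ := by
    rw [hue] at F4
    linear_combination F4 + a₁ * hrs - 3 * hrr + 2 * hst + (6 + 4 * e + e ^ 2) * a₄ * hee
  have L6 : r * a₄ - t * a₃ = 6 * e * a₆ := by
    rw [hue] at F6
    linear_combination F6 - a₂ * hrr - r * hrr + htt + a₁ * hrt +
      (15 + 20 * e + 15 * e ^ 2 + 6 * e ^ 3 + e ^ 4) * a₆ * hee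
  -- general consequences
  set b₂ : S := ι W.b₂ with hb₂
  set b₄ : S := ι W.b₄ with hb₄
  set b₆ : S := ι W.b₆ with hb₆
  have hb₂' : b₂ = a₁ ^ 2 + 4 * a₂ := by
    rw [hb₂, ha₁, ha₂, WeierstrassCurve.b₂]; simp only [map_add, map_mul, map_pow, map_ofNat]
  have hb₄' : b₄ = 2 * a₄ + a₁ * a₃ := by
    rw [hb₄, ha₁, ha₃, ha₄, WeierstrassCurve.b₄]; simp only [map_add, map_mul, map_ofNat]
  have hb₆' : b₆ = a₃ ^ 2 + 4 * a₆ := by
    rw [hb₆, ha₃, ha₆, WeierstrassCurve.b₆]; simp only [map_add, map_mul, map_pow, map_ofNat]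
  have G1 : 6 * r = e * b₂ := by
    rw [hb₂']; linear_combination a₁ * L1 + 2 * L2
  have G2 : r * b₂ = 4 * e * b₄ := by
    rw [hb₂', hb₄']; linear_combination a₃ * L1 + a₁ * L3 + 2 * L4
  have G3 : r * b₄ = 3 * e * b₆ := by
    rw [hb₄', hb₆']; linear_combination a₃ * L3 + 2 * L6
  have G0 : 12 * e * ι W.Δ = 0 := by
    have h := congrArg WeierstrassCurve.Δ hD
    rw [variableChange_Δ, map_Δ] at h
    have h' : ι W.Δ = u ^ 12 * ι W.Δ := by
      have huv12 : u ^ 12 * v ^ 12 = 1 := by rw [← mul_pow, huv, one_pow]
      linear_combination u ^ 12 * h - ι W.Δ * huv12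
    rw [hue] at h'
    linear_combination (-1 : S) * h' -
      (66 + 220 * e + 495 * e ^ 2 + 792 * e ^ 3 + 924 * e ^ 4 + 792 * e ^ 5 + 495 * e ^ 6 +
        220 * e ^ 7 + 66 * e ^ 8 + 12 * e ^ 9 + e ^ 10) * ι W.Δ * hee
  -- conclude via case analysis
  have key : e = 0 ∧ r = 0 ∧ s = 0 ∧ t = 0 := by
    obtain ⟨p, hp⟩ := CharP.exists k
    by_cases h2 : (2 : k) = 0
    · -- characteristic 2
      have h2S : (2 : S) = 0 := by rw [← map_ofNat ι 2, h2, map_zero]
      by_cases hW1 : W.a₁ = 0
      · -- a₁ = 0, so a₃ ≠ 0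
        have ha1 : a₁ = 0 := by rw [ha₁, hW1, map_zero]
        have hW3 : W.a₃ ≠ 0 := by
          intro h3
          apply hΔ
          have e2 : W.b₂ = 0 := by
            rw [WeierstrassCurve.b₂, hW1]; linear_combination 2 * W.a₂ * h2
          have e4 : W.b₄ = 0 := by
            rw [WeierstrassCurve.b₄, hW1]; linear_combination W.a₄ * h2
          have e6 : W.b₆ = 0 := by
            rw [WeierstrassCurve.b₆, h3]; linear_combination 2 * W.a₆ * h2
          rw [WeierstrassCurve.Δ, e2, e4, e6]; ring
        have hr0 : r = 0 := by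
          have : (3 : S) * r = 0 := by
            linear_combination L2 + s * ha1 + e * a₂ * h2S
          linear_combination this - r * h2S
        have he0 : e = 0 := by
          apply cancel ι π hπι hW3
          rw [← ha₃]
          have : (3 : S) * e * a₃ = 0 := by
            linear_combination (-1 : S) * L3 + a₁ * hr0 + t * h2S
          linear_combination this - e * a₃ * h2S
        have hs0 : s = 0 := by
          apply cancel ι π hπι hW3
          rw [← ha₃]
          linear_combination (-1 : S) * L4 + 2 * a₂ * hr0 - t * ha1 - 4 * a₄ * he0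
        have ht0 : t = 0 := by
          apply cancel ι π hπι hW3
          rw [← ha₃]
          linear_combination (-1 : S) * L6 + a₄ * hr0 - 6 * a₆ * he0
        exact ⟨he0, hr0, hs0, ht0⟩
      · -- a₁ ≠ 0
        have he0 : e = 0 := by
          apply cancel ι π hπι hW1
          rw [← ha₁]
          linear_combination (-1 : S) * L1 + s * h2S
        have hr0 : r = 0 := by
          apply cancel ι π hπι hW1
          rw [← ha₁]
          linear_combination L3 - t * h2S + 3 * a₃ * he0
        have hs0 : s = 0 := by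
          apply cancel ι π hπι hW1
          rw [← ha₁]
          linear_combination (-1 : S) * L2 + 3 * hr0 - 2 * a₂ * he0
        have ht0 : t = 0 := by
          apply cancel ι π hπι hW1
          rw [← ha₁]
          linear_combination (-1 : S) * L4 - a₃ * hs0 + 2 * a₂ * hr0 - 4 * a₄ * he0
        exact ⟨he0, hr0, hs0, ht0⟩
    · by_cases h3 : (3 : k) = 0
      · -- characteristic 3
        have h3S : (3 : S) = 0 := by rw [← map_ofNat ι 3, h3, map_zero]
        have her : e = 0 ∧ r = 0 := by
          by_cases hW2 : W.b₂ = 0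
          · have hb2 : b₂ = 0 := by rw [hb₂, hW2, map_zero]
            have hW4 : W.b₄ ≠ 0 := by
              intro h4
              apply hΔ
              rw [WeierstrassCurve.Δ, hW2, h4]
              linear_combination (-9 * W.b₆ ^ 2) * h3
            have hr0 : r = 0 := by
              apply cancel ι π hπι hW4
              rw [← hb₄]
              linear_combination G3 + e * b₆ * h3S
            have he0 : e = 0 := by
              apply cancel ι π hπι hW4
              rw [← hb₄]
              linear_combination (-1 : S) * G2 + b₂ * hr0 - e * b₄ * h3S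
            exact ⟨he0, hr0⟩
          · have he0 : e = 0 := by
              apply cancel ι π hπι hW2
              rw [← hb₂]
              linear_combination (-1 : S) * G1 + 2 * r * h3S
            have hr0 : r = 0 := by
              apply cancel ι π hπι hW2
              rw [← hb₂]
              linear_combination G2 + 4 * b₄ * he0
            exact ⟨he0, hr0⟩
        obtain ⟨he0, hr0⟩ := her
        have hs0 : s = 0 := by
          apply cancel ι π hπι h2
          rw [map_ofNat]
          linear_combination L1 + a₁ * he0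
        have ht0 : t = 0 := by
          apply cancel ι π hπι h2
          rw [map_ofNat]
          linear_combination L3 - a₁ * hr0 + 3 * a₃ * he0
        exact ⟨he0, hr0, hs0, ht0⟩
      · -- characteristic not 2 or 3
        have h12 : (12 : k) * W.Δ ≠ 0 := by
          refine mul_ne_zero ?_ hΔ
          have : (12 : k) = 2 * 2 * 3 := by norm_num
          rw [this]
          exact mul_ne_zero (mul_ne_zero h2 h2) h3
        have he0 : e = 0 := by
          apply cancel ι π hπι h12
          rw [map_mul, map_ofNat]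
          linear_combination G0
        have hs0 : s = 0 := by
          apply cancel ι π hπι h2
          rw [map_ofNat]
          linear_combination L1 + a₁ * he0
        have hr0 : r = 0 := by
          apply cancel ι π hπι h3
          rw [map_ofNat]
          linear_combination L2 + a₁ * hs0 + 2 * a₂ * he0
        have ht0 : t = 0 := by
          apply cancel ι π hπι h2
          rw [map_ofNat]
          linear_combination L3 - a₁ * hr0 + 3 * a₃ * he0
        exact ⟨he0, hr0, hs0, ht0⟩
  obtain ⟨he0, hr0, hs0, ht0⟩ := key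
  have hu1 : u = 1 := by rw [hue, he0, add_zero]
  rw [VariableChange.one_def]
  ext
  · exact hu1
  · exact hr0
  · exact hs0
  · exact ht0

end

end Groth.Agent.Helper8.EllRigid
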