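import Mathlib
import Groth.Agent.Helper3.HensProd2
import Groth.Agent.Helper8.EllRigid
import Groth.Agent.Helper8.EllInt

/-!
# Elliptic curves with the same `j` over a complete local domain with algebraically closed
residue field are related by a change of variables.
-/

set_option autoImplicit false
set_option maxHeartbeats 1600000

universe u

namespace Groth.Agent.Helper8.EllLift

open WeierstrassCurve IsLocalRing

/-- A finite algebra over a henselian local ring which is a domain is local. -/
theorem isLocalRing_of_finite_of_isDomain (R : Type u) [CommRing R] [HenselianLocalRing R]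
    (S : Type u) [CommRing S] [IsDomain S] [Algebra R S] [Module.Finite R S] : IsLocalRing S := by
  classical
  obtain ⟨ι, _, A, _, hloc, ⟨φ⟩⟩ := Groth.Agent.Helper3.HensProd.finite_pi_of_hens R S
  have hdom : IsDomain (∀ i, A i) := φ.symm.toMulEquiv.isDomain
  have hsub : Subsingleton ι := by
    refine ⟨fun i j => ?_⟩
    by_contra hij
    have h0 : (Pi.single i 1 : ∀ i, A i) * Pi.single j 1 = 0 := by
      ext l
      by_cases hl : l = i
      · subst hl
        simp [Pi.single_eq_of_ne hij]
      · simp [Pi.single_eq_of_ne hl]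
    rcases mul_eq_zero.mp h0 with h | h
    · have := congrFun h i
      simp at this
    · have := congrFun h j
      simp at this
  have hne : Nonempty ι := by
    by_contra hemp
    rw [not_nonempty_iff] at hemp
    have : Subsingleton (∀ i, A i) := inferInstance
    exact (zero_ne_one (α := ∀ i, A i)) (Subsingleton.elim _ _)
  obtain ⟨i₀⟩ := hne
  have hu : Unique ι := ⟨⟨i₀⟩, fun j => Subsingleton.elim _ _⟩
  have e : S ≃+* A default := φ.trans (RingEquiv.piUnique A)
  haveI := hloc default
  exact e.symm.isLocalRing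

section Main

variable (R : Type u) [CommRing R] [IsDomain R] [IsNoetherianRing R] [IsLocalRing R]
  [IsAdicComplete (maximalIdeal R) R] [IsAlgClosed (ResidueField R)]

/-- Core algebraic step: if `R'` is a local domain, finite over `R`, containing `R`, generated by
the coefficients of a variable change `C'` between `W₁` and `W₂`, then `R → R'` is surjective. -/
theorem surjective_of_generated
    (R' : Type u) [CommRing R'] [IsLocalRing R'] [Algebra R R'] [Module.Finite R R']
    (hinj : Function.Injective (algebraMap R R'))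
    (W₁ W₂ : WeierstrassCurve R) [W₁.IsElliptic]
    (C' : VariableChange R')
    (hC' : C' • (W₁.map (algebraMap R R')) = W₂.map (algebraMap R R'))
    (hgen : Algebra.adjoin R ({(C'.u : R'), ((C'.u⁻¹ : R'ˣ) : R'), C'.r, C'.s, C'.t} : Set R') = ⊤) :
    Function.Surjective (algebraMap R R') := by
  have hint : Algebra.IsIntegral R R' := Algebra.IsIntegral.of_finite R R'
  haveI hlochom : IsLocalHom (algebraMap R R') :=
    RingHom.IsIntegral.isLocalHom (algebraMap_isIntegral_iff.mpr hint) hinj
  have hnoeth : IsNoetherianRing R' := IsNoetherianRing.of_finite R R'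
  -- residue fields
  have hbij : Function.Bijective (algebraMap (ResidueField R) (ResidueField R')) :=
    IsAlgClosed.algebraMap_bijective_of_isIntegral
  let e : ResidueField R ≃+* ResidueField R' := RingEquiv.ofBijective _ hbij
  set m := maximalIdeal R with hm
  set m' := maximalIdeal R' with hm'
  set J : Ideal R' := m.map (algebraMap R R') ⊔ m' ^ 2 with hJdef
  have hmap_le : m.map (algebraMap R R') ≤ m' := by
    rw [Ideal.map_le_iff_le_comap]
    intro a ha
    rw [Ideal.mem_comap]
    exact ((IsLocalRing.mem_maximalIdeal _).mpr fun hunit =>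
      ((IsLocalRing.mem_maximalIdeal _).mp ha) (isUnit_of_map_unit (algebraMap R R') a hunit))
  have hJ_le : J ≤ m' := sup_le hmap_le (Ideal.pow_le_self two_ne_zero)
  let S := R' ⧸ J
  let q : R' →+* S := Ideal.Quotient.mk J
  let ψ : R →+* S := q.comp (algebraMap R R')
  let ι : ResidueField R →+* S := Ideal.Quotient.lift m ψ (fun a ha => by
    show q (algebraMap R R' a) = 0
    exact Ideal.Quotient.eq_zero_iff_mem.mpr (le_sup_left (α := Ideal R') (Ideal.mem_map_of_mem _ ha)))
  let π' : S →+* ResidueField R' := Ideal.Quotient.lift J (residue R') (fun a ha =>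
    (residue_eq_zero_iff a).mpr (hJ_le ha))
  let π : S →+* ResidueField R := (e.symm : ResidueField R' →+* ResidueField R).comp π'
  have hιres : ∀ a : R, ι (residue R a) = ψ a := fun a => rfl
  have hπ'q : ∀ x : R', π' (q x) = residue R' x := fun x => rfl
  have hπι : ∀ c, π (ι c) = c := by
    intro c
    obtain ⟨a, rfl⟩ := residue_surjective c
    rw [hιres]
    show e.symm (π' (q (algebraMap R R' a))) = residue R a
    rw [hπ'q, RingEquiv.symm_apply_eq]
    rfl
  have hJ0 : ∀ x y : S, π x = 0 → π y = 0 → x * y = 0 := by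
    intro x y hx hy
    obtain ⟨a, rfl⟩ := Ideal.Quotient.mk_surjective x
    obtain ⟨b, rfl⟩ := Ideal.Quotient.mk_surjective y
    have ha : a ∈ m' := by
      have h1 : π' (q a) = 0 := by
        have : e.symm (π' (q a)) = 0 := hx
        rwa [map_eq_zero_iff _ e.symm.injective] at this
      rwa [hπ'q, residue_eq_zero_iff] at h1
    have hb : b ∈ m' := by
      have h1 : π' (q b) = 0 := by
        have : e.symm (π' (q b)) = 0 := hy
        rwa [map_eq_zero_iff _ e.symm.injective] at this
      rwa [hπ'q, residue_eq_zero_iff] at h1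
    rw [← map_mul]
    refine Ideal.Quotient.eq_zero_iff_mem.mpr (le_sup_right (α := Ideal R') ?_)
    rw [pow_two]
    exact Ideal.mul_mem_mul ha hb
  -- the curves over the residue field
  let Wk₁ : WeierstrassCurve (ResidueField R) := W₁.map (residue R)
  let Wk₂ : WeierstrassCurve (ResidueField R) := W₂.map (residue R)
  have hΔ : Wk₁.Δ ≠ 0 := by
    show (W₁.map (residue R)).Δ ≠ 0
    rw [map_Δ]
    exact (W₁.isUnit_Δ.map (residue R)).ne_zero
  have hιψ : ι.comp (residue R) = ψ := RingHom.ext fun a => rfl
  have hWk₁ : Wk₁.map ι = W₁.map ψ := by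
    show (W₁.map (residue R)).map ι = W₁.map ψ
    rw [WeierstrassCurve.map_map, hιψ]
  have hWk₂ : Wk₂.map ι = W₂.map ψ := by
    show (W₂.map (residue R)).map ι = W₂.map ψ
    rw [WeierstrassCurve.map_map, hιψ]
  -- the variable change over `S`
  let C'' : VariableChange S := C'.map q
  have hC'' : C'' • (Wk₁.map ι) = Wk₂.map ι := by
    rw [hWk₁, hWk₂]
    have h1 : W₁.map ψ = (W₁.map (algebraMap R R')).map q := by rw [WeierstrassCurve.map_map]
    have h2 : W₂.map ψ = (W₂.map (algebraMap R R')).map q := by rw [WeierstrassCurve.map_map]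
    rw [h1, h2, ← hC']
    exact map_variableChange _ _ _
  have hπιid : π.comp ι = RingHom.id _ := RingHom.ext hπι
  have hmapback : ∀ W : WeierstrassCurve (ResidueField R), (W.map ι).map π = W := by
    intro W
    rw [WeierstrassCurve.map_map, hπιid, WeierstrassCurve.map_id]
  let C₀ : VariableChange S := (C''.map π).map ι
  have hC₀ : C₀ • (Wk₁.map ι) = Wk₂.map ι := by
    have h1 : (C''.map π) • Wk₁ = Wk₂ := by
      have : (C'' • (Wk₁.map ι)).map π = (Wk₂.map ι).map π :=
        congrArg (fun W => WeierstrassCurve.map W π) hC''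
      rw [← map_variableChange, hmapback, hmapback] at this
      exact this
    show ((C''.map π).map ι) • (Wk₁.map ι) = Wk₂.map ι
    rw [map_variableChange, h1]
  let D : VariableChange S := C₀⁻¹ * C''
  have hD : D • (Wk₁.map ι) = Wk₁.map ι := by
    show (C₀⁻¹ * C'') • (Wk₁.map ι) = Wk₁.map ι
    rw [mul_smul, hC'', ← hC₀, inv_smul_smul]
  have hD1 : D.map π = 1 := by
    have h1 : C₀.map π = C''.map π := by
      show ((C''.map π).map ι).map π = C''.map π
      rw [VariableChange.map_map, hπιid, VariableChange.map_id]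
    have h2 : D.map π = (C₀.map π)⁻¹ * (C''.map π) := by
      show VariableChange.mapHom π (C₀⁻¹ * C'') = _
      rw [map_mul, map_inv]
      rfl
    rw [h2, h1, inv_mul_cancel]
  have hDone : D = 1 := EllRigid.core ι π hπι hJ0 Wk₁ hΔ D hD hD1
  have hCeq : C'' = C₀ := by
    have : C₀⁻¹ * C'' = 1 := hDone
    rw [inv_mul_eq_one] at this
    exact this.symm
  -- every coordinate of `C''` lies in the image of `R`
  have hrange : ∀ x : S, x ∈ Set.range ι → x ∈ Set.range ψ := by
    rintro _ ⟨c, rfl⟩
    obtain ⟨a, rfl⟩ := residue_surjective c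
    exact ⟨a, (hιres a).symm⟩
  have hsurjS : Function.Surjective (algebraMap R S) := by
    have halg : algebraMap R S = ψ := rfl
    let f : R' →ₐ[R] S := Ideal.Quotient.mkₐ R J
    have hf : ∀ x, f x = q x := fun x => rfl
    have h1 : (⊤ : Subalgebra R R').map f ≤ ⊥ := by
      rw [← hgen, AlgHom.map_adjoin, Algebra.adjoin_le_iff]
      rintro _ ⟨x, hx, rfl⟩
      rw [SetLike.mem_coe, Algebra.mem_bot, halg, hf]
      apply hrange
      simp only [Set.mem_insert_iff, Set.mem_singleton_iff] at hx
      rcases hx with rfl | rfl | rfl | rfl | rfl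
      · refine ⟨((C''.map π).u : ResidueField R), ?_⟩
        have := congrArg (fun C : VariableChange S => (C.u : S)) hCeq
        exact this.symm
      · refine ⟨(((C''.map π).u⁻¹ : (ResidueField R)ˣ) : ResidueField R), ?_⟩
        have : ((C''.u⁻¹ : Sˣ) : S) = ((C₀.u⁻¹ : Sˣ) : S) :=
          congrArg (fun C : VariableChange S => ((C.u⁻¹ : Sˣ) : S)) hCeq
        rw [show ((C''.u⁻¹ : Sˣ) : S) = q ((C'.u⁻¹ : R'ˣ) : R') from by
          simp [C'', VariableChange.map]] at this
        rw [this]
        simp [C₀, VariableChange.map]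
      · refine ⟨(C''.map π).r, ?_⟩
        have := congrArg VariableChange.r hCeq
        exact this.symm
      · refine ⟨(C''.map π).s, ?_⟩
        have := congrArg VariableChange.s hCeq
        exact this.symm
      · refine ⟨(C''.map π).t, ?_⟩
        have := congrArg VariableChange.t hCeq
        exact this.symm
    intro x
    obtain ⟨y, rfl⟩ := Ideal.Quotient.mk_surjective x
    have : f y ∈ (⊤ : Subalgebra R R').map f := ⟨y, Algebra.mem_top, rfl⟩
    have := h1 this
    rw [Algebra.mem_bot] at this
    exact this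
  have hdecomp : ∀ x : R', ∃ a : R, x - algebraMap R R' a ∈ J := by
    intro x
    obtain ⟨a, ha⟩ := hsurjS (q x)
    refine ⟨a, ?_⟩
    have : q (x - algebraMap R R' a) = 0 := by
      rw [map_sub, ← ha]
      exact sub_self _
    exact Ideal.Quotient.eq_zero_iff_mem.mp this
  -- Nakayama, first step
  have hm'J : m' ≤ J := by
    intro x hx
    obtain ⟨a, ha⟩ := hdecomp x
    have h1 : algebraMap R R' a ∈ m' := by
      have : algebraMap R R' a = x - (x - algebraMap R R' a) := by ring
      rw [this]
      exact Ideal.sub_mem _ hx (hJ_le ha)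
    have h2 : a ∈ m := by
      rw [hm, IsLocalRing.mem_maximalIdeal]
      intro hunit
      exact ((IsLocalRing.mem_maximalIdeal _).mp h1) (hunit.map (algebraMap R R'))
    have h3 : algebraMap R R' a ∈ J := le_sup_left (α := Ideal R') (Ideal.mem_map_of_mem _ h2)
    have : x = (x - algebraMap R R' a) + algebraMap R R' a := by ring
    rw [this]
    exact Ideal.add_mem _ ha h3
  have hm'le : m' ≤ m.map (algebraMap R R') := by
    have hfg : (m' : Submodule R' R').FG := IsNoetherian.noetherian m'
    refine Submodule.le_of_le_smul_of_le_jacobson_bot (I := m') hfg ?_ ?_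
    · rw [IsLocalRing.jacobson_eq_maximalIdeal ⊥ bot_ne_top]
    · rw [Ideal.smul_eq_mul, ← pow_two]
      exact hm'J
  -- Nakayama, second step
  have htop : (⊤ : Submodule R R') ≤ LinearMap.range (Algebra.linearMap R R') := by
    have hfg : (⊤ : Submodule R R').FG := Module.Finite.fg_top
    refine Submodule.le_of_le_smul_of_le_jacobson_bot (I := m) hfg ?_ ?_
    · rw [IsLocalRing.jacobson_eq_maximalIdeal ⊥ bot_ne_top]
    · intro x _
      obtain ⟨a, ha⟩ := hdecomp x
      have h1 : x - algebraMap R R' a ∈ m.map (algebraMap R R') := hm'le (hJ_le ha)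
      have h2 : x - algebraMap R R' a ∈ (m • ⊤ : Submodule R R') := by
        rw [Ideal.smul_top_eq_map]
        exact h1
      have : x = algebraMap R R' a + (x - algebraMap R R' a) := by ring
      rw [this]
      exact Submodule.add_mem_sup ⟨a, rfl⟩ h2
  intro x
  obtain ⟨a, ha⟩ := htop (Submodule.mem_top : x ∈ ⊤)
  exact ⟨a, ha⟩

theorem main (W₁ W₂ : WeierstrassCurve R) [W₁.IsElliptic] [W₂.IsElliptic] (hj : W₁.j = W₂.j) :
    ∃ C : WeierstrassCurve.VariableChange R, C • W₁ = W₂ := by
  classical
  let K := FractionRing R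
  let Ω := AlgebraicClosure K
  let φ : R →+* Ω := algebraMap R Ω
  have hφ : Function.Injective φ := by
    have : φ = (algebraMap K Ω).comp (algebraMap R K) := IsScalarTower.algebraMap_eq R K Ω
    rw [this]
    exact (algebraMap K Ω).injective.comp (IsFractionRing.injective R K)
  obtain ⟨C, hC⟩ := WeierstrassCurve.exists_variableChange_of_j_eq (W₁.map φ) (W₂.map φ)
    (by rw [map_j, map_j, hj])
  have h₁ := W₁.isUnit_Δ
  have h₂ := W₂.isUnit_Δ
  have iu := EllInt.isIntegral_u W₁ W₂ h₁ h₂ C hC
  have iv := EllInt.isIntegral_v W₁ W₂ h₁ h₂ C hC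
  have ir := EllInt.isIntegral_r W₁ W₂ h₁ h₂ C hC
  have is := EllInt.isIntegral_s W₁ W₂ h₁ h₂ C hC
  have it := EllInt.isIntegral_t W₁ W₂ h₁ h₂ C hC
  let gens : Set Ω := {(C.u : Ω), ((C.u⁻¹ : Ωˣ) : Ω), C.r, C.s, C.t}
  let R' : Subalgebra R Ω := Algebra.adjoin R gens
  have hfg : (Subalgebra.toSubmodule R').FG := by
    refine fg_adjoin_of_finite (Set.toFinite gens) ?_
    intro x hx
    simp only [gens, Set.mem_insert_iff, Set.mem_singleton_iff] at hx
    rcases hx with rfl | rfl | rfl | rfl | rfl
    exacts [iu, iv, ir, is, it]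
  have hfin : Module.Finite R R' := Module.Finite.iff_fg.mpr hfg
  have hH : HenselianLocalRing R := by
    have h := IsAdicComplete.henselianRing R (IsLocalRing.maximalIdeal R)
    exact { is_henselian := fun f hf a₀ h₁ h₂ => h.is_henselian f hf a₀ h₁ (h₂.map _) }
  have hloc : IsLocalRing R' := isLocalRing_of_finite_of_isDomain R R'
  have hinj : Function.Injective (algebraMap R R') := by
    intro a b hab
    apply hφ
    exact congrArg (fun x : R' => (x : Ω)) hab
  have hu_mem : (C.u : Ω) ∈ R' := Algebra.subset_adjoin (by simp [gens])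
  have hv_mem : ((C.u⁻¹ : Ωˣ) : Ω) ∈ R' := Algebra.subset_adjoin (by simp [gens])
  have hr_mem : C.r ∈ R' := Algebra.subset_adjoin (by simp [gens])
  have hs_mem : C.s ∈ R' := Algebra.subset_adjoin (by simp [gens])
  have ht_mem : C.t ∈ R' := Algebra.subset_adjoin (by simp [gens])
  let u' : R'ˣ := ⟨⟨(C.u : Ω), hu_mem⟩, ⟨((C.u⁻¹ : Ωˣ) : Ω), hv_mem⟩,
    Subtype.ext C.u.mul_inv, Subtype.ext C.u.inv_mul⟩
  let C' : VariableChange R' := ⟨u', ⟨C.r, hr_mem⟩, ⟨C.s, hs_mem⟩, ⟨C.t, ht_mem⟩⟩
  have hC'map : C'.map R'.val.toRingHom = C := by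
    ext <;> rfl
  have hvalcomp : (R'.val.toRingHom).comp (algebraMap R R') = φ := RingHom.ext fun a => rfl
  have hvalinj : Function.Injective R'.val.toRingHom := Subtype.val_injective
  have hC' : C' • (W₁.map (algebraMap R R')) = W₂.map (algebraMap R R') := by
    apply WeierstrassCurve.map_injective hvalinj
    beta_reduce
    rw [← map_variableChange, WeierstrassCurve.map_map, WeierstrassCurve.map_map, hvalcomp,
      hC'map]
    exact hC
  have hgen : Algebra.adjoin R ({(C'.u : R'), ((C'.u⁻¹ : R'ˣ) : R'), C'.r, C'.s, C'.t} : Set R')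
      = ⊤ := by
    have h1 := Algebra.adjoin_adjoin_coe_preimage (R := R) (s := gens)
    rw [← h1]
    congr 1
    ext x
    simp only [Set.mem_insert_iff, Set.mem_singleton_iff, Set.mem_preimage, gens]
    constructor
    · rintro (rfl | rfl | rfl | rfl | rfl)
      · left; rfl
      · right; left; rfl
      · right; right; left; rfl
      · right; right; right; left; rfl
      · right; right; right; right; rfl
    · rintro (h | h | h | h | h)
      · left; exact Subtype.ext h
      · right; left; exact Subtype.ext h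
      · right; right; left; exact Subtype.ext h
      · right; right; right; left; exact Subtype.ext h
      · right; right; right; right; exact Subtype.ext h
  have hsurj := surjective_of_generated R R' hinj W₁ W₂ C' hC' hgen
  -- descend the variable change
  obtain ⟨au, hau⟩ := hsurj (C'.u : R')
  obtain ⟨av, hav⟩ := hsurj ((C'.u⁻¹ : R'ˣ) : R')
  obtain ⟨ar, har⟩ := hsurj C'.r
  obtain ⟨as, has⟩ := hsurj C'.s
  obtain ⟨at', hat⟩ := hsurj C'.t
  have huv : au * av = 1 := by
    apply hinj
    rw [map_mul, hau, hav, map_one]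
    exact C'.u.mul_inv
  let uR : Rˣ := ⟨au, av, huv, by rw [mul_comm]; exact huv⟩
  let CR : VariableChange R := ⟨uR, ar, as, at'⟩
  have hCR : CR.map φ = C := by
    have e1 : φ au = (C.u : Ω) := congrArg (fun x : R' => (x : Ω)) hau
    have e2 : φ ar = C.r := congrArg (fun x : R' => (x : Ω)) har
    have e3 : φ as = C.s := congrArg (fun x : R' => (x : Ω)) has
    have e4 : φ at' = C.t := congrArg (fun x : R' => (x : Ω)) hat
    ext
    · exact e1
    · exact e2
    · exact e3
    · exact e4
  refine ⟨CR, ?_⟩
  apply WeierstrassCurve.map_injective hφ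
  beta_reduce
  rw [← map_variableChange, hCR]
  exact hC

end Main

end Groth.Agent.Helper8.EllLift
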