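import Mathlib

/-!
# EpA: von Neumann regularity of quotients of `F ⊗[k] Ω`

Pure algebra used for S1983: if `F/k` is a geometrically reduced field extension and `Ω/k` is an
algebraic field extension, then every ring generated by compatible images of `F` and `Ω` is
von Neumann regular, hence reduced.
-/

set_option autoImplicit false
universe u

namespace Groth.Agent.Helper8.Ep

open TensorProduct Polynomial

section VNR

/-- an integral element of a reduced algebra over a field is von Neumann regular -/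
theorem exists_vnr_of_isIntegral {k R : Type*} [Field k] [CommRing R] [Algebra k R] [IsReduced R]
    (x : R) (hx : IsIntegral k x) : ∃ y : R, x = x * x * y := by
  obtain ⟨p, hpm, hp⟩ := hx
  have hp0 : p ≠ 0 := hpm.ne_zero
  obtain ⟨q, hpq, hq⟩ := Polynomial.exists_eq_pow_rootMultiplicity_mul_and_not_dvd p hp0 0
  have hq0 : q.coeff 0 ≠ 0 := by
    intro h
    apply hq
    rw [C_0, sub_zero]
    exact Polynomial.X_dvd_iff.2 h
  obtain ⟨m, hm⟩ : ∃ m, m = p.rootMultiplicity 0 := ⟨_, rfl⟩
  rw [← hm] at hpq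
  have h1 : x ^ m * aeval x q = 0 := by
    have h := hp
    rw [hpq] at h
    simpa [C_0, sub_zero, eval₂_mul, eval₂_pow, eval₂_X, aeval_def] using h
  have h2 : x * aeval x q = 0 := by
    have h : (x * aeval x q) ^ (m + 1) = 0 := by
      calc (x * aeval x q) ^ (m + 1) = (x ^ m * aeval x q) * (x * (aeval x q) ^ m) := by ring
        _ = 0 := by rw [h1, zero_mul]
    exact IsReduced.eq_zero _ ⟨m + 1, h⟩
  have h3 : aeval x q = aeval x q.divX * x + algebraMap k R (q.coeff 0) := by
    conv_lhs => rw [← Polynomial.divX_mul_X_add q]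
    simp
  rw [h3] at h2
  refine ⟨-(algebraMap k R (q.coeff 0)⁻¹) * aeval x q.divX, ?_⟩
  have h4 : algebraMap k R (q.coeff 0)⁻¹ * algebraMap k R (q.coeff 0) = 1 := by
    rw [← map_mul, inv_mul_cancel₀ hq0, map_one]
  have h5 : x * algebraMap k R (q.coeff 0) = -(x * x * aeval x q.divX) := by
    linear_combination h2
  calc x = x * algebraMap k R (q.coeff 0) * algebraMap k R (q.coeff 0)⁻¹ := by
        rw [mul_assoc, mul_comm (algebraMap k R (q.coeff 0)), h4, mul_one]
    _ = x * x * (-(algebraMap k R (q.coeff 0)⁻¹) * aeval x q.divX) := by rw [h5]; ring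

/-- a von Neumann regular commutative ring is reduced -/
theorem isReduced_of_vnr {S : Type*} [CommRing S] (h : ∀ x : S, ∃ y, x = x * x * y) :
    IsReduced S := by
  constructor
  rintro x ⟨n, hn⟩
  obtain ⟨y, hy⟩ := h x
  have key : ∀ m : ℕ, x = x ^ (m + 1) * y ^ m := by
    intro m
    induction m with
    | zero => simp
    | succ m ih =>
      calc x = x ^ (m + 1) * y ^ m := ih
        _ = x ^ m * x * y ^ m := by ring
        _ = x ^ m * (x * x * y) * y ^ m := by rw [← hy]
        _ = x ^ (m + 1 + 1) * y ^ (m + 1) := by ring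
  have := key n
  rw [pow_succ, hn, zero_mul, zero_mul] at this
  exact this

end VNR

section Prod

variable {k F Ω S : Type*} [CommRing k] [CommRing F] [CommRing Ω] [CommRing S]
  [Algebra k F] [Algebra k Ω]

/-- the ring homomorphism out of a tensor product defined by two compatible ring homomorphisms -/
noncomputable def prodHom (φ : F →+* S) (ψ : Ω →+* S)
    (h : ∀ a : k, φ (algebraMap k F a) = ψ (algebraMap k Ω a)) : F ⊗[k] Ω →+* S :=
  letI : Algebra k S := (φ.comp (algebraMap k F)).toAlgebra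
  (Algebra.TensorProduct.productMap
    ({ φ with commutes' := fun _ => rfl } : F →ₐ[k] S)
    ({ ψ with commutes' := fun a => (h a).symm } : Ω →ₐ[k] S)).toRingHom

@[simp] theorem prodHom_tmul (φ : F →+* S) (ψ : Ω →+* S)
    (h : ∀ a : k, φ (algebraMap k F a) = ψ (algebraMap k Ω a)) (a : F) (b : Ω) :
    prodHom φ ψ h (a ⊗ₜ[k] b) = φ a * ψ b := by
  letI : Algebra k S := (φ.comp (algebraMap k F)).toAlgebra
  show (Algebra.TensorProduct.productMap
    ({ φ with commutes' := fun _ => rfl } : F →ₐ[k] S)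
    ({ ψ with commutes' := fun a => (h a).symm } : Ω →ₐ[k] S)) (a ⊗ₜ[k] b) = φ a * ψ b
  rw [Algebra.TensorProduct.productMap_apply_tmul]
  rfl

theorem prodHom_surjective (φ : F →+* S) (ψ : Ω →+* S)
    (h : ∀ a : k, φ (algebraMap k F a) = ψ (algebraMap k Ω a))
    (hcl : ∀ s : S, s ∈ Subring.closure (Set.range φ ∪ Set.range ψ)) :
    Function.Surjective (prodHom φ ψ h) := by
  intro s
  have hle : Subring.closure (Set.range φ ∪ Set.range ψ) ≤ (prodHom φ ψ h).range := by
    rw [Subring.closure_le]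
    rintro _ (⟨a, rfl⟩ | ⟨b, rfl⟩)
    · exact ⟨a ⊗ₜ 1, by rw [prodHom_tmul, map_one, mul_one]⟩
    · exact ⟨1 ⊗ₜ b, by rw [prodHom_tmul, map_one, one_mul]⟩
  exact hle (hcl s)

end Prod

section Field

/-- rings generated by compatible images of a geometrically reduced field extension and of an
algebraic field extension are von Neumann regular -/
theorem vnr_of_closure {k F Ω S : Type*} [Field k] [Field F] [Field Ω] [CommRing S]
    [Algebra k F] [Algebra k Ω] [Algebra.IsAlgebraic k Ω] [Algebra.IsGeometricallyReduced k F]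
    (φ : F →+* S) (ψ : Ω →+* S) (h : ∀ a : k, φ (algebraMap k F a) = ψ (algebraMap k Ω a))
    (hcl : ∀ s : S, s ∈ Subring.closure (Set.range φ ∪ Set.range ψ)) :
    ∀ x : S, ∃ y : S, x = x * x * y := by
  have hred : IsReduced (F ⊗[k] Ω) := by
    have : IsReduced (Ω ⊗[k] F) := inferInstance
    exact isReduced_of_injective (Algebra.TensorProduct.comm k F Ω).toRingHom
      (Algebra.TensorProduct.comm k F Ω).injective
  have hint : Algebra.IsIntegral F (F ⊗[k] Ω) := inferInstance
  intro x
  obtain ⟨t, rfl⟩ := prodHom_surjective φ ψ h hcl x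
  obtain ⟨y, hy⟩ := exists_vnr_of_isIntegral (k := F) t (Algebra.IsIntegral.isIntegral t)
  exact ⟨prodHom φ ψ h y, by rw [← map_mul, ← map_mul, ← hy]⟩

/-- transfer of geometric reducedness to a residue field generated by two subfields -/
theorem isGeometricallyReduced_of_closure {k k₁ F F₁ : Type u} [Field k] [Field k₁] [Field F]
    [Field F₁] [Algebra k k₁] [Algebra.IsAlgebraic k k₁] [Algebra k F]
    [Algebra.IsGeometricallyReduced k F] [Algebra k₁ F₁] (j : F →+* F₁)
    (hj : ∀ a : k, j (algebraMap k F a) = algebraMap k₁ F₁ (algebraMap k k₁ a))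
    (hcl : ∀ w : F₁, w ∈ Subring.closure (Set.range j ∪ Set.range (algebraMap k₁ F₁))) :
    Algebra.IsGeometricallyReduced k₁ F₁ := by
  rw [Algebra.isGeometricallyReduced_field_iff]
  haveI : IsScalarTower k k₁ (AlgebraicClosure k₁) := inferInstance
  haveI : Algebra.IsAlgebraic k (AlgebraicClosure k₁) :=
    Algebra.IsAlgebraic.trans k k₁ (AlgebraicClosure k₁)
  let incR : F₁ →+* AlgebraicClosure k₁ ⊗[k₁] F₁ :=
    (Algebra.TensorProduct.includeRight : F₁ →ₐ[k₁] AlgebraicClosure k₁ ⊗[k₁] F₁).toRingHom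
  let φ : F →+* AlgebraicClosure k₁ ⊗[k₁] F₁ := incR.comp j
  let ψ : AlgebraicClosure k₁ →+* AlgebraicClosure k₁ ⊗[k₁] F₁ :=
    Algebra.TensorProduct.includeLeftRingHom
  have hswap : ∀ c : k₁, incR (algebraMap k₁ F₁ c) = ψ (algebraMap k₁ (AlgebraicClosure k₁) c) := by
    intro c
    show (1 : AlgebraicClosure k₁) ⊗ₜ[k₁] (algebraMap k₁ F₁ c) =
      (algebraMap k₁ (AlgebraicClosure k₁) c) ⊗ₜ[k₁] (1 : F₁)
    rw [Algebra.algebraMap_eq_smul_one, Algebra.algebraMap_eq_smul_one, TensorProduct.smul_tmul]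
  have h : ∀ a : k, φ (algebraMap k F a) = ψ (algebraMap k (AlgebraicClosure k₁) a) := by
    intro a
    show incR (j (algebraMap k F a)) = _
    rw [hj, hswap]
    rfl
  apply isReduced_of_vnr
  apply vnr_of_closure φ ψ h
  intro s
  induction s using TensorProduct.induction_on with
  | zero => exact Subring.zero_mem _
  | add x y hx hy => exact Subring.add_mem _ hx hy
  | tmul ω w =>
    have e : ω ⊗ₜ[k₁] w = ψ ω * incR w := by
      show _ = (ω ⊗ₜ[k₁] (1 : F₁)) * ((1 : AlgebraicClosure k₁) ⊗ₜ[k₁] w)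
      rw [Algebra.TensorProduct.tmul_mul_tmul, mul_one, one_mul]
    rw [e]
    apply Subring.mul_mem
    · exact Subring.subset_closure (Or.inr ⟨ω, rfl⟩)
    · have hw : incR w ∈ (Subring.closure (Set.range j ∪ Set.range (algebraMap k₁ F₁))).map incR :=
        Subring.mem_map.2 ⟨w, hcl w, rfl⟩
      rw [RingHom.map_closure] at hw
      refine Subring.closure_mono ?_ hw
      rintro _ ⟨z, hz | hz, rfl⟩
      · obtain ⟨b, rfl⟩ := hz
        exact Or.inl ⟨b, rfl⟩
      · obtain ⟨c, rfl⟩ := hz
        exact Or.inr ⟨algebraMap k₁ (AlgebraicClosure k₁) c, (hswap c).symm⟩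

end Field

end Groth.Agent.Helper8.Ep
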