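import Mathlib
import Groth.Agent.Helper8.EpA

/-!
# EpB: the local core of S1983

`A → B` a weakly unramified extension of discrete valuation rings with geometrically reduced
residue field extension, `V` a discrete valuation ring over `A` with algebraic residue field
extension, and `v` a valuation on a field `M` receiving `B` and `V` compatibly, centred on both.
If `M` is the fraction field of the image of `T = B ⊗[A] V` and `v` is archimedean relative to the
maximal ideal of `V`, then the maximal ideal of the valuation ring of `v` is generated by the one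
of `V`, and its residue field is generated by the residue fields of `B` and `V`.
-/

set_option autoImplicit false
universe u

namespace Groth.Agent.Helper8.Ep

open TensorProduct IsLocalRing

section Core

variable {A B V : Type u} [CommRing A] [IsDomain A] [IsDiscreteValuationRing A]
  [CommRing B] [IsDomain B] [IsDiscreteValuationRing B]
  [CommRing V] [IsDomain V] [IsDiscreteValuationRing V]
  [Algebra A B] [Algebra A V] [IsLocalHom (algebraMap A B)] [IsLocalHom (algebraMap A V)]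
  [Algebra.IsAlgebraic (ResidueField A) (ResidueField V)]
  [Algebra.IsGeometricallyReduced (ResidueField A) (ResidueField B)]
  {M : Type u} [Field M] {Γ₀ : Type*} [LinearOrderedCommGroupWithZero Γ₀] (v : Valuation M Γ₀)
  (gB : B →+* M) (fV : V →+* M)
  (hcomp : ∀ a : A, gB (algebraMap A B a) = fV (algebraMap A V a))

include v in
theorem val_theta_le (hB : ∀ b, v (gB b) ≤ 1) (hV : ∀ c, v (fV c) ≤ 1) (t : B ⊗[A] V) :
    v (prodHom gB fV hcomp t) ≤ 1 := by
  induction t using TensorProduct.induction_on with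
  | zero => simp
  | tmul b c =>
    rw [prodHom_tmul, map_mul]
    exact mul_le_one' (hB b) (hV c)
  | add x y hx hy =>
    rw [map_add]
    exact (v.map_add _ _).trans (max_le hx hy)

/-- `T/ϖT` is von Neumann regular -/
theorem exists_vnr_mod (hw : (maximalIdeal A).map (algebraMap A B) = maximalIdeal B)
    (ϖ : V) (hϖ : Irreducible ϖ) (t : B ⊗[A] V) :
    ∃ y z : B ⊗[A] V, t = t * t * y + ((1 : B) ⊗ₜ[A] ϖ) * z := by
  let I : Ideal (B ⊗[A] V) := Ideal.span {(1 : B) ⊗ₜ[A] ϖ}
  have hmV : maximalIdeal V = Ideal.span {ϖ} := hϖ.maximalIdeal_eq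
  have hVz : ∀ c ∈ maximalIdeal V, Ideal.Quotient.mk I ((1 : B) ⊗ₜ[A] c) = 0 := by
    intro c hc
    rw [hmV, Ideal.mem_span_singleton'] at hc
    obtain ⟨c', rfl⟩ := hc
    rw [Ideal.Quotient.eq_zero_iff_mem]
    have e : (1 : B) ⊗ₜ[A] (c' * ϖ) = ((1 : B) ⊗ₜ[A] ϖ) * ((1 : B) ⊗ₜ[A] c') := by
      rw [Algebra.TensorProduct.tmul_mul_tmul, one_mul, mul_comm]
    rw [e]
    exact Ideal.mul_mem_right _ _ (Ideal.subset_span rfl)
  have hAz : ∀ a ∈ maximalIdeal A,
      Ideal.Quotient.mk I ((algebraMap A B a) ⊗ₜ[A] (1 : V)) = 0 := by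
    intro a ha
    have h1 : (algebraMap A B a) ⊗ₜ[A] (1 : V) = (1 : B) ⊗ₜ[A] (algebraMap A V a) := by
      rw [Algebra.algebraMap_eq_smul_one, Algebra.algebraMap_eq_smul_one, TensorProduct.smul_tmul]
    rw [h1]
    apply hVz
    rw [mem_maximalIdeal, mem_nonunits_iff] at ha ⊢
    exact fun hu => ha (isUnit_of_map_unit (algebraMap A V) a hu)
  have hBz : ∀ b ∈ maximalIdeal B, Ideal.Quotient.mk I (b ⊗ₜ[A] (1 : V)) = 0 := by
    intro b hb
    rw [← hw] at hb
    have hle : (maximalIdeal A).map (algebraMap A B) ≤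
        RingHom.ker ((Ideal.Quotient.mk I).comp
          (Algebra.TensorProduct.includeLeftRingHom : B →+* B ⊗[A] V)) := by
      rw [Ideal.map_le_iff_le_comap]
      intro a ha
      rw [Ideal.mem_comap, RingHom.mem_ker]
      exact hAz a ha
    exact hle hb
  let φ : ResidueField B →+* (B ⊗[A] V) ⧸ I :=
    Ideal.Quotient.lift (maximalIdeal B)
      ((Ideal.Quotient.mk I).comp (Algebra.TensorProduct.includeLeftRingHom : B →+* B ⊗[A] V)) hBz
  let ψ : ResidueField V →+* (B ⊗[A] V) ⧸ I :=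
    Ideal.Quotient.lift (maximalIdeal V)
      ((Ideal.Quotient.mk I).comp
        (Algebra.TensorProduct.includeRight : V →ₐ[A] B ⊗[A] V).toRingHom) hVz
  have hφ : ∀ b : B, φ (residue B b) = Ideal.Quotient.mk I (b ⊗ₜ[A] (1 : V)) := fun b => rfl
  have hψ : ∀ c : V, ψ (residue V c) = Ideal.Quotient.mk I ((1 : B) ⊗ₜ[A] c) := fun c => rfl
  have hcompat : ∀ a : ResidueField A,
      φ (algebraMap (ResidueField A) (ResidueField B) a) =
        ψ (algebraMap (ResidueField A) (ResidueField V) a) := by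
    intro a
    obtain ⟨a, rfl⟩ := residue_surjective a
    rw [ResidueField.algebraMap_residue, ResidueField.algebraMap_residue, hφ, hψ]
    congr 1
    rw [Algebra.algebraMap_eq_smul_one, Algebra.algebraMap_eq_smul_one, TensorProduct.smul_tmul]
  have hcl : ∀ s : (B ⊗[A] V) ⧸ I, s ∈ Subring.closure (Set.range φ ∪ Set.range ψ) := by
    intro s
    obtain ⟨t, rfl⟩ := Ideal.Quotient.mk_surjective s
    induction t using TensorProduct.induction_on with
    | zero => rw [map_zero]; exact zero_mem _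
    | add x y hx hy => rw [map_add]; exact add_mem hx hy
    | tmul b c =>
      have e : b ⊗ₜ[A] c = (b ⊗ₜ[A] (1 : V)) * ((1 : B) ⊗ₜ[A] c) := by
        rw [Algebra.TensorProduct.tmul_mul_tmul, mul_one, one_mul]
      rw [e, map_mul]
      exact mul_mem (Subring.subset_closure (Or.inl ⟨residue B b, hφ b⟩))
        (Subring.subset_closure (Or.inr ⟨residue V c, hψ c⟩))
  obtain ⟨y, hy⟩ := vnr_of_closure φ ψ hcompat hcl (Ideal.Quotient.mk I t)
  obtain ⟨y, rfl⟩ := Ideal.Quotient.mk_surjective y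
  rw [← map_mul, ← map_mul, Ideal.Quotient.eq, Ideal.mem_span_singleton'] at hy
  obtain ⟨z, hz⟩ := hy
  exact ⟨y, z, by linear_combination (-1 : B ⊗[A] V) * hz⟩

variable (hB : ∀ b, v (gB b) ≤ 1) (hV : ∀ c, v (fV c) ≤ 1)
  (hVm : ∀ c ∈ maximalIdeal V, v (fV c) < 1)
  (hw : (maximalIdeal A).map (algebraMap A B) = maximalIdeal B)

include hB hV hw in
theorem exists_mul_eq (ϖ : V) (hϖ : Irreducible ϖ) (t : B ⊗[A] V)
    (ht : v (prodHom gB fV hcomp t) < 1) :
    ∃ s t₁ : B ⊗[A] V, v (prodHom gB fV hcomp s) = 1 ∧ s * t = ((1 : B) ⊗ₜ[A] ϖ) * t₁ := by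
  obtain ⟨y, z, hyz⟩ := exists_vnr_mod hw ϖ hϖ t
  refine ⟨1 - t * y, z, ?_, by linear_combination hyz⟩
  rw [map_sub, map_one, map_mul]
  apply Valuation.map_one_sub_of_lt
  rw [map_mul]
  exact lt_of_le_of_lt (mul_le_of_le_one_right' (val_theta_le v gB fV hcomp hB hV y)) ht

include hB hV hw in
theorem exists_normal_form (ϖ : V) (hϖ : Irreducible ϖ) (k : ℕ) :
    ∀ t : B ⊗[A] V, v (fV ϖ) ^ k < v (prodHom gB fV hcomp t) →
      ∃ (i : ℕ) (s t' : B ⊗[A] V), v (prodHom gB fV hcomp s) = 1 ∧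
        v (prodHom gB fV hcomp t') = 1 ∧ s * t = ((1 : B) ⊗ₜ[A] ϖ) ^ i * t' := by
  induction k with
  | zero =>
    intro t ht
    rw [pow_zero] at ht
    exact absurd (val_theta_le v gB fV hcomp hB hV t) (not_le.2 ht)
  | succ k ih =>
    intro t ht
    by_cases h1 : v (prodHom gB fV hcomp t) = 1
    · exact ⟨0, 1, t, by simp, h1, by simp⟩
    · have hlt : v (prodHom gB fV hcomp t) < 1 :=
        lt_of_le_of_ne (val_theta_le v gB fV hcomp hB hV t) h1
      obtain ⟨s₁, t₁, hs₁, h₁⟩ := exists_mul_eq v gB fV hcomp hB hV hw ϖ hϖ t hlt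
      have hval : v (prodHom gB fV hcomp t) = v (fV ϖ) * v (prodHom gB fV hcomp t₁) := by
        have h := congrArg (fun x => v (prodHom gB fV hcomp x)) h₁
        simp only [map_mul, hs₁, one_mul, prodHom_tmul, map_one] at h
        exact h
      have hlt' : v (fV ϖ) ^ k < v (prodHom gB fV hcomp t₁) := by
        rw [hval, pow_succ'] at ht
        exact lt_of_mul_lt_mul_left ht zero_le'
      obtain ⟨i, s₂, t', hs₂, ht', h₂⟩ := ih t₁ hlt'
      refine ⟨i + 1, s₂ * s₁, t', by rw [map_mul, map_mul, hs₂, hs₁, one_mul], ht', ?_⟩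
      calc s₂ * s₁ * t = s₂ * (s₁ * t) := by ring
        _ = ((1 : B) ⊗ₜ[A] ϖ) * (s₂ * t₁) := by rw [h₁]; ring
        _ = ((1 : B) ⊗ₜ[A] ϖ) ^ (i + 1) * t' := by rw [h₂]; ring

variable (hfV : Function.Injective fV)
  (hfrac : ∀ x : M, ∃ p q : B ⊗[A] V, prodHom gB fV hcomp q ≠ 0 ∧
    x * prodHom gB fV hcomp q = prodHom gB fV hcomp p)
  (harch : ∀ x : M, x ≠ 0 → ∀ c ∈ maximalIdeal V, ∃ n : ℕ, v (fV c) ^ n < v x)

include hB hV hVm hw hfV hfrac harch in
theorem exists_unit_denominator (x : M) (hx : v x ≤ 1) :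
    ∃ u p : B ⊗[A] V, v (prodHom gB fV hcomp u) = 1 ∧
      x * prodHom gB fV hcomp u = prodHom gB fV hcomp p := by
  by_cases hx0 : x = 0
  · exact ⟨1, 0, by simp, by simp [hx0]⟩
  obtain ⟨ϖ, hϖ⟩ := IsDiscreteValuationRing.exists_irreducible V
  have hϖm : ϖ ∈ maximalIdeal V := by
    rw [hϖ.maximalIdeal_eq]; exact Ideal.mem_span_singleton_self ϖ
  obtain ⟨p, q, hq0, hpq⟩ := hfrac x
  have hp0 : prodHom gB fV hcomp p ≠ 0 := by rw [← hpq]; exact mul_ne_zero hx0 hq0
  obtain ⟨kp, hkp⟩ := harch _ hp0 ϖ hϖm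
  obtain ⟨kq, hkq⟩ := harch _ hq0 ϖ hϖm
  obtain ⟨i, s, p', hs, hp', hsp⟩ :=
    exists_normal_form v gB fV hcomp hB hV hw ϖ hϖ kp p hkp
  obtain ⟨j, r, q', hr, hq', hrq⟩ :=
    exists_normal_form v gB fV hcomp hB hV hw ϖ hϖ kq q hkq
  obtain ⟨a, ha⟩ : ∃ a, a = fV ϖ := ⟨_, rfl⟩
  have ha0 : a ≠ 0 := by
    rw [ha]
    intro h
    exact hϖ.ne_zero (hfV (by rw [h, map_zero]))
  have hva1 : v a < 1 := by rw [ha]; exact hVm ϖ hϖm
  have hva0 : 0 < v a := by rw [Valuation.pos_iff]; exact ha0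
  have e1 : prodHom gB fV hcomp s * prodHom gB fV hcomp p = a ^ i * prodHom gB fV hcomp p' := by
    rw [← map_mul, hsp, map_mul, map_pow, prodHom_tmul, map_one, one_mul, ha]
  have e2 : prodHom gB fV hcomp r * prodHom gB fV hcomp q = a ^ j * prodHom gB fV hcomp q' := by
    rw [← map_mul, hrq, map_mul, map_pow, prodHom_tmul, map_one, one_mul, ha]
  have v1 : v (prodHom gB fV hcomp p) = v a ^ i := by
    have h := congrArg v e1
    rw [map_mul, hs, one_mul, map_mul, hp', mul_one, map_pow] at h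
    exact h
  have v2 : v (prodHom gB fV hcomp q) = v a ^ j := by
    have h := congrArg v e2
    rw [map_mul, hr, one_mul, map_mul, hq', mul_one, map_pow] at h
    exact h
  have hji : j ≤ i := by
    have h3 : v x * v a ^ j = v a ^ i := by rw [← v1, ← v2, ← map_mul, hpq]
    have h4 : v a ^ i ≤ v a ^ j := by rw [← h3]; exact mul_le_of_le_one_left' hx
    exact (pow_le_pow_iff_right_of_lt_one₀ hva0 hva1).1 h4
  refine ⟨q' * s, ((1 : B) ⊗ₜ[A] ϖ) ^ (i - j) * r * p',
    by rw [map_mul, map_mul, hq', hs, one_mul], ?_⟩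
  have haj : a ^ j ≠ 0 := pow_ne_zero _ ha0
  apply mul_left_cancel₀ haj
  simp only [map_mul, map_pow, prodHom_tmul, map_one, one_mul]
  rw [← ha]
  have hpow : a ^ j * a ^ (i - j) = a ^ i := by rw [← pow_add, Nat.add_sub_cancel' hji]
  calc a ^ j * (x * (prodHom gB fV hcomp q' * prodHom gB fV hcomp s))
      = x * (a ^ j * prodHom gB fV hcomp q') * prodHom gB fV hcomp s := by ring
    _ = x * (prodHom gB fV hcomp r * prodHom gB fV hcomp q) * prodHom gB fV hcomp s := by
        rw [e2]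
    _ = prodHom gB fV hcomp r * (prodHom gB fV hcomp s * (x * prodHom gB fV hcomp q)) := by ring
    _ = prodHom gB fV hcomp r * (prodHom gB fV hcomp s * prodHom gB fV hcomp p) := by rw [hpq]
    _ = prodHom gB fV hcomp r * (a ^ i * prodHom gB fV hcomp p') := by rw [e1]
    _ = prodHom gB fV hcomp r * (a ^ j * a ^ (i - j) * prodHom gB fV hcomp p') := by rw [hpow]
    _ = a ^ j * (a ^ (i - j) * prodHom gB fV hcomp r * prodHom gB fV hcomp p') := by ring

include hB hV hVm hw hfV hfrac harch in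
/-- the maximal ideal of `v` is generated by the maximal ideal of `V` -/
theorem weaklyUnramified_core (x : M) (hx : v x < 1) :
    ∃ c ∈ maximalIdeal V, ∃ w : M, v w ≤ 1 ∧ x = fV c * w := by
  obtain ⟨ϖ, hϖ⟩ := IsDiscreteValuationRing.exists_irreducible V
  have hϖm : ϖ ∈ maximalIdeal V := by
    rw [hϖ.maximalIdeal_eq]; exact Ideal.mem_span_singleton_self ϖ
  obtain ⟨u, p, hu, hup⟩ :=
    exists_unit_denominator v gB fV hcomp hB hV hVm hw hfV hfrac harch x hx.le
  have hvp : v (prodHom gB fV hcomp p) < 1 := by rw [← hup, map_mul, hu, mul_one]; exact hx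
  obtain ⟨s, t₁, hs, hst⟩ := exists_mul_eq v gB fV hcomp hB hV hw ϖ hϖ p hvp
  have e : prodHom gB fV hcomp s * prodHom gB fV hcomp p = fV ϖ * prodHom gB fV hcomp t₁ := by
    rw [← map_mul, hst, map_mul, prodHom_tmul, map_one, one_mul]
  have hu0 : prodHom gB fV hcomp u ≠ 0 := by
    intro h; rw [h, map_zero] at hu; exact zero_ne_one hu
  have hs0 : prodHom gB fV hcomp s ≠ 0 := by
    intro h; rw [h, map_zero] at hs; exact zero_ne_one hs
  refine ⟨ϖ, hϖm, prodHom gB fV hcomp t₁ / (prodHom gB fV hcomp u * prodHom gB fV hcomp s), ?_, ?_⟩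
  · rw [map_div₀, map_mul, hu, hs, one_mul, div_one]
    exact val_theta_le v gB fV hcomp hB hV t₁
  · rw [mul_div_assoc', ← e, ← hup]
    field_simp

include hB hV hVm hw hfV hfrac harch in
/-- the residue field of `v` is generated by the images of `B` and `V` -/
theorem residue_core (x : M) (hx : v x ≤ 1) :
    ∃ t : B ⊗[A] V, v (x - prodHom gB fV hcomp t) < 1 := by
  obtain ⟨ϖ, hϖ⟩ := IsDiscreteValuationRing.exists_irreducible V
  have hϖm : ϖ ∈ maximalIdeal V := by
    rw [hϖ.maximalIdeal_eq]; exact Ideal.mem_span_singleton_self ϖ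
  obtain ⟨u, p, hu, hup⟩ :=
    exists_unit_denominator v gB fV hcomp hB hV hVm hw hfV hfrac harch x hx
  obtain ⟨y, z, hyz⟩ := exists_vnr_mod hw ϖ hϖ u
  refine ⟨p * y, ?_⟩
  have h1 : prodHom gB fV hcomp u = prodHom gB fV hcomp u * prodHom gB fV hcomp u *
      prodHom gB fV hcomp y + fV ϖ * prodHom gB fV hcomp z := by
    conv_lhs => rw [hyz]
    simp only [map_add, map_mul, prodHom_tmul, map_one, one_mul]
  have e : (x - prodHom gB fV hcomp (p * y)) * prodHom gB fV hcomp u =
      x * fV ϖ * prodHom gB fV hcomp z := by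
    rw [map_mul]
    linear_combination x * h1 + prodHom gB fV hcomp y * prodHom gB fV hcomp u * hup
  have h2 := congrArg v e
  rw [v.map_mul, hu, mul_one, v.map_mul, v.map_mul] at h2
  rw [h2]
  calc v x * v (fV ϖ) * v (prodHom gB fV hcomp z)
      ≤ v x * v (fV ϖ) := mul_le_of_le_one_right' (val_theta_le v gB fV hcomp hB hV z)
    _ ≤ v (fV ϖ) := mul_le_of_le_one_left' hx
    _ < 1 := hVm ϖ hϖm

end Core

end Groth.Agent.Helper8.Ep
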