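import Mathlib
import Groth.Agent.Helper5.KA4
import Groth.Agent.Helper5.ValDed

/-!
# EpC: valuation subrings of finite extensions of the fraction field of a DVR

A valuation subring of a finite extension `K₁` of the fraction field of a DVR `R` which contains
`R` and is not `K₁` is a discrete valuation ring whose residue field is algebraic over the one of
`R` (Krull–Akizuki, no separability).
-/

set_option autoImplicit false
universe u

namespace Groth.Agent.Helper8.Ep

open IsLocalRing IsDedekindDomain

section DVR

variable {R : Type u} [CommRing R] [IsDomain R] [IsDiscreteValuationRing R]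
  (K : Type u) {K₁ : Type u} [Field K] [Field K₁] [Algebra R K] [IsFractionRing R K] [Algebra K K₁]
  [FiniteDimensional K K₁] [Algebra R K₁] [IsScalarTower R K K₁]

include K in
theorem dvr_package (V : ValuationSubring K₁) (hRV : ∀ r : R, algebraMap R K₁ r ∈ V)
    (hV : V ≠ ⊤) :
    IsDiscreteValuationRing V ∧ ∀ c : V, ∃ n d : V, IsIntegral R (n : K₁) ∧
      IsIntegral R (d : K₁) ∧ IsUnit d ∧ c * d = n := by
  classical
  have hinj : Function.Injective (algebraMap (integralClosure R K₁) K₁) := Subtype.val_injective
  have h1 : IsNoetherianRing (integralClosure R K₁) :=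
    Groth.Agent.Helper5.KA.isNoetherianRing_of_between R K K₁ (integralClosure R K₁) hinj
  have h2 : IsIntegrallyClosed (integralClosure R K₁) :=
    integralClosure.isIntegrallyClosedOfFiniteExtension K
  have h3 : Ring.DimensionLEOne (integralClosure R K₁) :=
    ⟨fun {P} hP hPp =>
      Groth.Agent.Helper5.KA.isMaximal_of_ne_bot R K K₁ (integralClosure R K₁) hinj P hP⟩
  haveI : IsDedekindDomain (integralClosure R K₁) := { }
  haveI : IsFractionRing (integralClosure R K₁) K₁ :=
    integralClosure.isFractionRing_of_finite_extension K K₁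
  have hCV : ∀ x : K₁, x ∈ integralClosure R K₁ → x ∈ V := by
    intro x hx
    letI algRV : Algebra R V := (RingHom.codRestrict (algebraMap R K₁) V hRV).toAlgebra
    haveI : IsScalarTower R V K₁ := IsScalarTower.of_algebraMap_eq' rfl
    have hx' : IsIntegral V x := IsIntegral.tower_top (A := V) hx
    obtain ⟨y, rfl⟩ := IsIntegrallyClosed.isIntegral_iff.mp hx'
    exact y.2
  have hA : (algebraMap (integralClosure R K₁) K₁).range ≤ V.toSubring := by
    rintro _ ⟨x, rfl⟩
    exact hCV _ x.2
  obtain ⟨w, hw⟩ := Groth.Agent.Helper5.ValDed.exists_eq_of_le_of_ne_top V hA hV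
  subst hw
  refine ⟨?_, ?_⟩
  · rw [← HeightOneSpectrum.valuationSubringAtPrime_eq_valuationSubring]
    have hloc : IsLocalization.AtPrime (HeightOneSpectrum.valuationSubringAtPrime K₁ w)
        w.asIdeal :=
      (inferInstance : IsLocalization w.asIdeal.primeCompl
        (HeightOneSpectrum.valuationSubringAtPrime K₁ w))
    exact IsLocalization.AtPrime.isDiscreteValuationRing_of_dedekind_domain
      (integralClosure R K₁) w.ne_bot _
  · intro c
    have hc : w.valuation K₁ (c : K₁) ≤ 1 := (Valuation.mem_valuationSubring_iff _ _).1 c.2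
    obtain ⟨n, d, hnd⟩ := w.exists_primeCompl_mul_eq_of_integer (c : K₁) hc
    have hd1 : w.valuation K₁ (algebraMap (integralClosure R K₁) K₁ d) = 1 := by
      rw [HeightOneSpectrum.valuation_of_algebraMap]
      exact (w.intValuation_eq_one_iff_mem_primeCompl d).2 d.2
    have hdV : algebraMap (integralClosure R K₁) K₁ d ∈ (w.valuation K₁).valuationSubring := by
      rw [Valuation.mem_valuationSubring_iff, hd1]
    have hdV' : (algebraMap (integralClosure R K₁) K₁ d)⁻¹ ∈ (w.valuation K₁).valuationSubring := by
      rw [Valuation.mem_valuationSubring_iff, map_inv₀, hd1, inv_one]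
    have hnV : algebraMap (integralClosure R K₁) K₁ n ∈ (w.valuation K₁).valuationSubring :=
      hCV _ n.2
    have hd0 : algebraMap (integralClosure R K₁) K₁ d ≠ 0 := by
      intro h
      rw [h, map_zero] at hd1
      exact zero_ne_one hd1
    refine ⟨⟨_, hnV⟩, ⟨_, hdV⟩, n.2, (d : integralClosure R K₁).2, ?_, Subtype.ext hnd⟩
    refine IsUnit.of_mul_eq_one ⟨_, hdV'⟩ ?_
    exact Subtype.ext (mul_inv_cancel₀ hd0)

omit [IsDomain R] [IsDiscreteValuationRing R] in
theorem isAlgebraic_residue [IsLocalRing R] (V : ValuationSubring K₁) [Algebra R V]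
    [IsScalarTower R V K₁] [IsLocalHom (algebraMap R V)]
    (pkg : ∀ c : V, ∃ n d : V, IsIntegral R (n : K₁) ∧ IsIntegral R (d : K₁) ∧ IsUnit d ∧
      c * d = n) :
    Algebra.IsAlgebraic (ResidueField R) (ResidueField V) := by
  constructor
  intro x
  obtain ⟨c, rfl⟩ := residue_surjective x
  obtain ⟨n, d, hn, hd, hdu, hcd⟩ := pkg c
  have hval : Function.Injective (algebraMap V K₁) := Subtype.val_injective
  have key : ∀ z : V, IsIntegral R (z : K₁) → IsIntegral (ResidueField R) (residue V z) := by
    intro z hz
    have hz' : IsIntegral R z := (isIntegral_algebraMap_iff hval).1 hz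
    have hz'' : IsIntegral R (residue V z) :=
      hz'.map (IsScalarTower.toAlgHom R V (ResidueField V))
    exact hz''.tower_top
  have hdr : residue V d ≠ 0 := by
    rw [ne_eq, residue_eq_zero_iff]
    exact fun h => h hdu
  have e : residue V c = residue V n * (residue V d)⁻¹ := by
    rw [← hcd, map_mul, mul_assoc, mul_inv_cancel₀ hdr, mul_one]
  rw [e]
  exact (key n hn).isAlgebraic.mul (IsAlgebraic.inv_iff.2 (key d hd).isAlgebraic)

end DVR

end Groth.Agent.Helper8.Ep
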