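import Mathlib
import Groth.Prelude.Def_EtRam
import Groth.Agent.Helper8.EpB
import Groth.Agent.Helper8.EpC
import Groth.Agent.Helper7.DomValD
import Groth.Agent.Helper7.TotRamD

/-!
# EpD: S1983 — a weakly unramified extension of DVRs with separable residue field extension
has every finite extension of `K` as a solution
-/

set_option autoImplicit false
universe u

namespace Groth.Agent.Helper8.Ep

open TensorProduct IsLocalRing Polynomial
open Groth.Agent.Helper7

section Arch

variable {B V M : Type u} [CommRing B] [IsDomain B] [IsDiscreteValuationRing B]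
  [CommRing V] [IsDomain V] [IsDiscreteValuationRing V] [Field M]
  {Γ₀ : Type*} [LinearOrderedCommGroupWithZero Γ₀] (v : Valuation M Γ₀)
  (gB : B →+* M) (fV : V →+* M)

omit [IsDomain B] [IsDiscreteValuationRing B] in
theorem val_eval₂_le (hB : ∀ b, v (gB b) ≤ 1) (x : M) (hx : v x ≤ 1) (p : B[X]) :
    v (p.eval₂ gB x) ≤ 1 := by
  rw [Polynomial.eval₂_eq_sum_range]
  apply v.map_sum_le
  intro i _
  rw [map_mul, map_pow]
  exact mul_le_one' (hB _) (pow_le_one' hx i)

omit [IsDomain B] [IsDiscreteValuationRing B] in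
theorem val_unit (hB : ∀ b, v (gB b) ≤ 1) (u : Bˣ) : v (gB u) = 1 := by
  have h1 := hB u
  have h2 := hB (↑u⁻¹ : B)
  have h3 : v (gB u) * v (gB (↑u⁻¹ : B)) = 1 := by
    rw [← map_mul, ← map_mul, Units.mul_inv, map_one, map_one]
  by_contra hne
  have hlt : v (gB u) < 1 := lt_of_le_of_ne h1 hne
  have h4 : v (gB u) * v (gB (↑u⁻¹ : B)) < 1 :=
    lt_of_le_of_lt (mul_le_of_le_one_right' h2) hlt
  rw [h3] at h4
  exact lt_irrefl _ h4

theorem arch' (hB : ∀ b, v (gB b) ≤ 1) (hV : ∀ c, v (fV c) ≤ 1)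
    (hVm : ∀ c ∈ maximalIdeal V, v (fV c) < 1)
    (halg : ∀ x : M, ∃ p : B[X], p ≠ 0 ∧ p.eval₂ gB x = 0)
    (π : B) (hπ : Irreducible π) (y : V) (hy : y ≠ 0) (hyπ : v (fV y) ≤ v (gB π)) :
    ∀ x : M, x ≠ 0 → ∀ c ∈ maximalIdeal V, ∃ n : ℕ, v (fV c) ^ n < v x := by
  intro x hx0 c hc
  by_cases hx1 : v x ≤ 1
  swap
  · exact ⟨0, by rw [pow_zero]; exact not_le.1 hx1⟩
  obtain ⟨p, hp0, hp⟩ := halg x
  obtain ⟨q, hpq, hq⟩ := Polynomial.exists_eq_pow_rootMultiplicity_mul_and_not_dvd p hp0 0
  have hq0 : q.coeff 0 ≠ 0 := by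
    intro h
    apply hq
    rw [C_0, sub_zero]
    exact Polynomial.X_dvd_iff.2 h
  have hqx : q.eval₂ gB x = 0 := by
    rw [hpq, eval₂_mul, eval₂_pow, eval₂_sub, eval₂_X, eval₂_C, map_zero, sub_zero] at hp
    exact (mul_eq_zero.1 hp).resolve_left (pow_ne_zero _ hx0)
  have hq' : q.divX.eval₂ gB x * x + gB (q.coeff 0) = 0 := by
    conv_rhs => rw [← hqx, ← Polynomial.divX_mul_X_add q]
    simp [eval₂_add, eval₂_mul, eval₂_X, eval₂_C]
  have hb0 : v (gB (q.coeff 0)) ≤ v x := by
    have e : gB (q.coeff 0) = -(q.divX.eval₂ gB x) * x := by linear_combination hq'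
    rw [e, map_mul, Valuation.map_neg]
    exact mul_le_of_le_one_left' (val_eval₂_le v gB hB x hx1 _)
  obtain ⟨m, u, hu⟩ := IsDiscreteValuationRing.eq_unit_mul_pow_irreducible hq0 hπ
  have hπm : v (gB π) ^ m ≤ v x := by
    have e : v (gB (q.coeff 0)) = v (gB π) ^ m := by
      rw [hu, map_mul, map_mul, val_unit v gB hB u, one_mul, map_pow, map_pow]
    rw [← e]
    exact hb0
  obtain ⟨ϖ, hϖ⟩ := IsDiscreteValuationRing.exists_irreducible V
  have hys : Ideal.span {y} ≠ ⊥ := by rwa [ne_eq, Ideal.span_singleton_eq_bot]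
  obtain ⟨k, hk⟩ := IsDiscreteValuationRing.ideal_eq_span_pow_irreducible hys hϖ
  have hck : c ^ k ∈ Ideal.span {y} := by
    rw [hk]
    rw [hϖ.maximalIdeal_eq, Ideal.mem_span_singleton'] at hc
    obtain ⟨c', rfl⟩ := hc
    rw [mul_pow]
    exact Ideal.mul_mem_left _ _ (Ideal.mem_span_singleton_self _)
  rw [Ideal.mem_span_singleton'] at hck
  obtain ⟨c₃, hc₃⟩ := hck
  have hcπ : v (fV c) ^ k ≤ v (gB π) := by
    rw [← map_pow, ← map_pow, ← hc₃, map_mul, map_mul]
    exact (mul_le_of_le_one_left' (hV c₃)).trans hyπ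
  have hkm : v (fV c) ^ (k * m) ≤ v x := by
    rw [pow_mul]
    exact (pow_le_pow_left' hcπ m).trans hπm
  by_cases hc0 : v (fV c) = 0
  · refine ⟨1, ?_⟩
    rw [pow_one, hc0, Valuation.pos_iff]
    exact hx0
  · refine ⟨k * m + 1, lt_of_lt_of_le ?_ hkm⟩
    rw [pow_succ]
    have hpos : 0 < v (fV c) ^ (k * m) := pow_pos (zero_lt_iff.2 hc0) _
    exact mul_lt_of_lt_one_right hpos (hVm c hc)

theorem arch (hB : ∀ b, v (gB b) ≤ 1) (hV : ∀ c, v (fV c) ≤ 1)
    (hVm : ∀ c ∈ maximalIdeal V, v (fV c) < 1)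
    (halg : ∀ x : M, ∃ p : B[X], p ≠ 0 ∧ p.eval₂ gB x = 0)
    (π : B) (hπ : Irreducible π) (y : V) (hy : y ≠ 0) (hyπ : fV y = gB π) :
    ∀ x : M, x ≠ 0 → ∀ c ∈ maximalIdeal V, ∃ n : ℕ, v (fV c) ^ n < v x :=
  arch' v gB fV hB hV hVm halg π hπ y hy (le_of_eq (by rw [hyπ]))

end Arch

section Main

variable (A B K L : Type u) [CommRing A] [IsDomain A] [IsDiscreteValuationRing A]
  [CommRing B] [IsDomain B] [IsDiscreteValuationRing B] [Algebra A B]
  [IsLocalHom (algebraMap A B)]
  [Field K] [Field L] [Algebra A K] [IsFractionRing A K] [Algebra B L] [IsFractionRing B L]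
  [Algebra K L] [Algebra A L] [IsScalarTower A K L] [IsScalarTower A B L]
  [Algebra.IsGeometricallyReduced (ResidueField A) (ResidueField B)]
  (K₁ : Type u) [Field K₁] [Algebra K K₁] [FiniteDimensional K K₁]
  (M : Type u) [Field M] [Algebra K M] [Algebra L M] [Algebra K₁ M] [IsScalarTower K L M]
  [IsScalarTower K K₁ M]

include K in
theorem main_local (hw : EtRam.IsWeaklyUnramified A B)
    (hadj : Algebra.adjoin L (Set.range (algebraMap K₁ M)) = ⊤) (W : ValuationSubring M)
    (hW : EtRam.Dominates B ((algebraMap L M).comp (algebraMap B L)) W) :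
    DomVal.WU W (algebraMap K₁ M) ∧ DomVal.GR W (algebraMap K₁ M) := by
  classical
  obtain ⟨gB, hgB⟩ : ∃ g : B →+* M, g = (algebraMap L M).comp (algebraMap B L) := ⟨_, rfl⟩
  obtain ⟨gA, hgA⟩ : ∃ g : A →+* K₁, g = (algebraMap K K₁).comp (algebraMap A K) := ⟨_, rfl⟩
  rw [← hgB] at hW
  have hcompM : ∀ a : A, gB (algebraMap A B a) = algebraMap K₁ M (gA a) := by
    intro a
    rw [hgB, hgA, RingHom.comp_apply, RingHom.comp_apply, ← IsScalarTower.algebraMap_apply A B L,
      IsScalarTower.algebraMap_apply A K L, ← IsScalarTower.algebraMap_apply K L M,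
      ← IsScalarTower.algebraMap_apply K K₁ M]
  have hgAinj : Function.Injective gA := by
    rw [hgA]
    exact (algebraMap K K₁).injective.comp (IsFractionRing.injective A K)
  have hgBinj : Function.Injective gB := by
    rw [hgB]
    exact (algebraMap L M).injective.comp (IsFractionRing.injective B L)
  have hAmB : ∀ a ∈ maximalIdeal A, algebraMap A B a ∈ maximalIdeal B := by
    intro a ha
    rw [mem_maximalIdeal, mem_nonunits_iff] at ha ⊢
    exact fun hu => ha (isUnit_of_map_unit (algebraMap A B) a hu)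
  have hdomA : EtRam.Dominates A gA (W.comap (algebraMap K₁ M)) := by
    refine ⟨fun a => ?_, fun a ha => ?_⟩
    · show algebraMap K₁ M (gA a) ∈ W
      rw [← hcompM]
      exact hW.1 _
    · rw [DomVal.valuation_comap_lt_one_iff, ← hcompM]
      exact hW.2 _ (hAmB a ha)
  letI algAK₁ : Algebra A K₁ := gA.toAlgebra
  haveI : IsScalarTower A K K₁ := IsScalarTower.of_algebraMap_eq' hgA
  letI algAV : Algebra A (W.comap (algebraMap K₁ M)) :=
    (gA.codRestrict (W.comap (algebraMap K₁ M)) hdomA.1).toAlgebra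
  haveI : IsScalarTower A (W.comap (algebraMap K₁ M)) K₁ := IsScalarTower.of_algebraMap_eq' rfl
  haveI hlocAV : IsLocalHom (algebraMap A (W.comap (algebraMap K₁ M))) :=
    DomVal.isLocalHom_codRestrict gA _ hdomA
  obtain ⟨πA, hπA⟩ := IsDiscreteValuationRing.exists_irreducible A
  have hπAm : πA ∈ maximalIdeal A := by
    rw [hπA.maximalIdeal_eq]
    exact Ideal.mem_span_singleton_self πA
  have hgπ0 : gA πA ≠ 0 := fun h => hπA.ne_zero (hgAinj (by rw [h, map_zero]))
  have hW₁top : W.comap (algebraMap K₁ M) ≠ ⊤ := by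
    intro htop
    have h1 := hdomA.2 πA hπAm
    have h2 : (gA πA)⁻¹ ∈ W.comap (algebraMap K₁ M) := by rw [htop]; trivial
    have h3 := (ValuationSubring.valuation_le_one_iff _ _).2 h2
    rw [map_inv₀] at h3
    have h4 : 0 < (W.comap (algebraMap K₁ M)).valuation (gA πA) := by
      rw [Valuation.pos_iff]
      exact hgπ0
    have h5 : 1 ≤ (W.comap (algebraMap K₁ M)).valuation (gA πA) := (inv_le_one₀ h4).1 h3
    exact absurd h1 (not_lt.2 h5)
  obtain ⟨hDVR, pkg⟩ := dvr_package K (W.comap (algebraMap K₁ M)) (fun r => hdomA.1 r) hW₁top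
  haveI := hDVR
  haveI halgres : Algebra.IsAlgebraic (ResidueField A)
      (ResidueField (W.comap (algebraMap K₁ M))) :=
    isAlgebraic_residue (W.comap (algebraMap K₁ M)) pkg
  obtain ⟨fV, hfV⟩ : ∃ g : (W.comap (algebraMap K₁ M)) →+* M,
      g = (algebraMap K₁ M).comp (W.comap (algebraMap K₁ M)).subtype := ⟨_, rfl⟩
  have hfVapp : ∀ c, fV c = algebraMap K₁ M (c : K₁) := fun c => by rw [hfV]; rfl
  have hcomp : ∀ a : A, gB (algebraMap A B a) =
      fV (algebraMap A (W.comap (algebraMap K₁ M)) a) := by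
    intro a
    rw [hcompM, hfVapp]
    rfl
  have hB : ∀ b, W.valuation (gB b) ≤ 1 := fun b => (W.valuation_le_one_iff _).2 (hW.1 b)
  have hV : ∀ c, W.valuation (fV c) ≤ 1 := fun c => by
    rw [hfVapp]
    exact (W.valuation_le_one_iff _).2 c.2
  have hVm : ∀ c ∈ maximalIdeal (W.comap (algebraMap K₁ M)), W.valuation (fV c) < 1 := by
    intro c hc
    rw [hfVapp, ← ValuationSubring.mem_nonunits_iff]
    exact (DomVal.mem_maximalIdeal_comap_iff W _ c).1 hc
  have hfVinj : Function.Injective fV := by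
    rw [hfV]
    exact (algebraMap K₁ M).injective.comp Subtype.val_injective
  have hfrac : ∀ x : M, ∃ p q : B ⊗[A] (W.comap (algebraMap K₁ M)),
      prodHom gB fV hcomp q ≠ 0 ∧ x * prodHom gB fV hcomp q = prodHom gB fV hcomp p := by
    intro x
    have hx : x ∈ Algebra.adjoin L (Set.range (algebraMap K₁ M)) := by rw [hadj]; trivial
    induction hx using Algebra.adjoin_induction with
    | mem x hx =>
      obtain ⟨k, rfl⟩ := hx
      rcases (W.comap (algebraMap K₁ M)).mem_or_inv_mem k with hk | hk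
      · refine ⟨1 ⊗ₜ ⟨k, hk⟩, 1, by rw [map_one]; exact one_ne_zero, ?_⟩
        rw [map_one, mul_one, prodHom_tmul, map_one, one_mul, hfVapp]
      · by_cases hk0 : k = 0
        · subst hk0
          exact ⟨0, 1, by rw [map_one]; exact one_ne_zero, by simp⟩
        · refine ⟨1, 1 ⊗ₜ ⟨k⁻¹, hk⟩, ?_, ?_⟩
          · rw [prodHom_tmul, map_one, one_mul, hfVapp]
            simpa using hk0
          · rw [prodHom_tmul, map_one, one_mul, hfVapp, map_one]
            show algebraMap K₁ M k * algebraMap K₁ M k⁻¹ = 1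
            rw [← map_mul, mul_inv_cancel₀ hk0, map_one]
    | algebraMap l =>
      obtain ⟨b, b', hb', rfl⟩ := IsFractionRing.div_surjective (A := B) l
      have hb'0 : algebraMap B L b' ≠ 0 := by
        intro h
        exact nonZeroDivisors.ne_zero hb' (IsFractionRing.injective B L (by rw [h, map_zero]))
      refine ⟨b ⊗ₜ 1, b' ⊗ₜ 1, ?_, ?_⟩
      · rw [prodHom_tmul, map_one, mul_one]
        intro h
        exact nonZeroDivisors.ne_zero hb' (hgBinj (by rw [h, map_zero]))
      · rw [prodHom_tmul, prodHom_tmul, map_one, mul_one, mul_one, hgB, RingHom.comp_apply,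
          RingHom.comp_apply, ← map_mul, div_mul_cancel₀ _ hb'0]
    | add x y _ _ hx hy =>
      obtain ⟨p, q, hq, hpq⟩ := hx
      obtain ⟨p', q', hq', hpq'⟩ := hy
      refine ⟨p * q' + p' * q, q * q', by rw [map_mul]; exact mul_ne_zero hq hq', ?_⟩
      simp only [map_add, map_mul]
      linear_combination prodHom gB fV hcomp q' * hpq + prodHom gB fV hcomp q * hpq'
    | mul x y _ _ hx hy =>
      obtain ⟨p, q, hq, hpq⟩ := hx
      obtain ⟨p', q', hq', hpq'⟩ := hy
      refine ⟨p * p', q * q', by rw [map_mul]; exact mul_ne_zero hq hq', ?_⟩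
      simp only [map_mul]
      linear_combination (y * prodHom gB fV hcomp q') * hpq + prodHom gB fV hcomp p * hpq'
  haveI : FiniteDimensional L M := TotRam.finite_of_adjoin (K := K) hadj
  letI algBM : Algebra B M := gB.toAlgebra
  haveI : IsScalarTower B L M := IsScalarTower.of_algebraMap_eq' hgB
  have halg : ∀ x : M, ∃ p : B[X], p ≠ 0 ∧ p.eval₂ gB x = 0 := by
    intro x
    have h1 : IsAlgebraic L x := Algebra.IsAlgebraic.isAlgebraic x
    have h2 : IsAlgebraic B x := (IsFractionRing.isAlgebraic_iff B L M).2 h1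
    obtain ⟨p, hp0, hp⟩ := h2
    exact ⟨p, hp0, hp⟩
  have hw' : (maximalIdeal A).map (algebraMap A B) = maximalIdeal B := hw
  have hπB : Irreducible (algebraMap A B πA) := by
    rw [IsDiscreteValuationRing.irreducible_iff_uniformizer, ← hw', hπA.maximalIdeal_eq,
      Ideal.map_span, Set.image_singleton]
  have hy0 : algebraMap A (W.comap (algebraMap K₁ M)) πA ≠ 0 := by
    intro h
    apply hgπ0
    have := congrArg Subtype.val h
    exact this
  have harch := arch W.valuation gB fV hB hV hVm halg (algebraMap A B πA) hπB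
    (algebraMap A (W.comap (algebraMap K₁ M)) πA) hy0 (hcomp πA).symm
  have hwu := weaklyUnramified_core W.valuation gB fV hcomp hB hV hVm hw' hfVinj hfrac harch
  have hres := residue_core W.valuation gB fV hcomp hB hV hVm hw' hfVinj hfrac harch
  constructor
  · rw [DomVal.wu_iff]
    intro x hx
    obtain ⟨c, hc, w, hw1, rfl⟩ := hwu x ((ValuationSubring.mem_nonunits_iff W).1 hx)
    exact ⟨(c : K₁), (DomVal.mem_maximalIdeal_comap_iff W _ c).1 hc, w,
      (W.valuation_le_one_iff _).1 hw1, by rw [hfVapp]⟩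
  · unfold DomVal.GR
    letI algres : Algebra (ResidueField (W.comap (algebraMap K₁ M))) (ResidueField W) :=
      (ResidueField.map (EtRam.inclOfComap W (algebraMap K₁ M))).toAlgebra
    haveI hlocBW : IsLocalHom (RingHom.codRestrict gB W hW.1) :=
      DomVal.isLocalHom_codRestrict gB W hW
    refine isGeometricallyReduced_of_closure (k := ResidueField A)
      (k₁ := ResidueField (W.comap (algebraMap K₁ M))) (F := ResidueField B)
      (ResidueField.map (RingHom.codRestrict gB W hW.1)) ?_ ?_
    · intro a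
      obtain ⟨a, rfl⟩ := residue_surjective a
      rw [ResidueField.algebraMap_residue, ResidueField.map_residue,
        ResidueField.algebraMap_residue]
      show _ = ResidueField.map (EtRam.inclOfComap W (algebraMap K₁ M)) (residue _ _)
      rw [ResidueField.map_residue]
      congr 1
      refine Subtype.ext ?_
      show gB (algebraMap A B a) = algebraMap K₁ M _
      rw [hcomp a, hfVapp]
    · intro wbar
      obtain ⟨w, rfl⟩ := residue_surjective wbar
      obtain ⟨t, ht⟩ := hres (w : M) (W.valuation_le_one w)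
      have hΘW : ∀ t, prodHom gB fV hcomp t ∈ W := fun t =>
        (W.valuation_le_one_iff _).1 (val_theta_le W.valuation gB fV hcomp hB hV t)
      have hcl : ∀ t, residue W ⟨_, hΘW t⟩ ∈ Subring.closure
          (Set.range (ResidueField.map (RingHom.codRestrict gB W hW.1)) ∪
            Set.range (algebraMap (ResidueField (W.comap (algebraMap K₁ M)))
              (ResidueField W))) := by
        intro t
        induction t using TensorProduct.induction_on with
        | zero =>
          have e : (⟨_, hΘW 0⟩ : W) = 0 := Subtype.ext (map_zero _)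
          rw [e, map_zero]
          exact zero_mem _
        | tmul b c =>
          have e : (⟨_, hΘW (b ⊗ₜ c)⟩ : W) =
              (RingHom.codRestrict gB W hW.1 b) * (EtRam.inclOfComap W _ c) :=
            Subtype.ext (by
              show prodHom gB fV hcomp (b ⊗ₜ c) = gB b * algebraMap K₁ M (c : K₁)
              rw [prodHom_tmul, hfVapp])
          rw [e, map_mul]
          exact mul_mem
            (Subring.subset_closure (Or.inl ⟨residue B b, ResidueField.map_residue _ _⟩))
            (Subring.subset_closure (Or.inr ⟨residue _ c, rfl⟩))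
        | add x y hx hy =>
          have e : (⟨_, hΘW (x + y)⟩ : W) = ⟨_, hΘW x⟩ + ⟨_, hΘW y⟩ :=
            Subtype.ext (map_add _ _ _)
          rw [e, map_add]
          exact add_mem hx hy
      have e : residue W w = residue W ⟨_, hΘW t⟩ := by
        rw [← sub_eq_zero, ← map_sub, residue_eq_zero_iff, ValuationSubring.valuation_lt_one_iff]
        exact ht
      rw [e]
      exact hcl t

end Main

end Groth.Agent.Helper8.Ep
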