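import Mathlib

/-!
# EpE: recognising the valuation ring of a valuation from a subring

`v` a valuation on a field `M`, `D` a subring of `M` on which `v ≤ 1`, with fraction field `M`,
`ϖ ∈ D` with `0 < v ϖ < 1`, `D/ϖD` von Neumann regular, and `v` archimedean relative to `ϖ`.
Then the maximal ideal of the valuation ring of `v` is generated by `ϖ` and every element of the
valuation ring is congruent to an element of `D` modulo the maximal ideal.
-/

set_option autoImplicit false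

namespace Groth.Agent.Helper8.Ep

section Recog

variable {M : Type*} [Field M] {Γ₀ : Type*} [LinearOrderedCommGroupWithZero Γ₀]
  (v : Valuation M Γ₀) (D : Subring M) (ϖ : M)
  (hD : ∀ d ∈ D, v d ≤ 1) (hϖD : ϖ ∈ D)
  (hvnr : ∀ d ∈ D, ∃ y ∈ D, ∃ z ∈ D, d = d * d * y + ϖ * z)

include hD hvnr in
theorem recog_mul_eq (t : M) (ht : t ∈ D) (hlt : v t < 1) :
    ∃ s ∈ D, ∃ t₁ ∈ D, v s = 1 ∧ s * t = ϖ * t₁ := by
  obtain ⟨y, hy, z, hz, hyz⟩ := hvnr t ht
  refine ⟨1 - t * y, D.sub_mem D.one_mem (D.mul_mem ht hy), z, hz, ?_, by linear_combination hyz⟩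
  apply Valuation.map_one_sub_of_lt
  rw [map_mul]
  exact lt_of_le_of_lt (mul_le_of_le_one_right' (hD y hy)) hlt

include hD hvnr hϖD in
theorem recog_normal_form (k : ℕ) :
    ∀ t ∈ D, v ϖ ^ k < v t →
      ∃ (i : ℕ), ∃ s ∈ D, ∃ t' ∈ D, v s = 1 ∧ v t' = 1 ∧ s * t = ϖ ^ i * t' := by
  induction k with
  | zero =>
    intro t ht hlt
    rw [pow_zero] at hlt
    exact absurd (hD t ht) (not_le.2 hlt)
  | succ k ih =>
    intro t ht hlt
    by_cases h1 : v t = 1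
    · exact ⟨0, 1, D.one_mem, t, ht, by simp, h1, by simp⟩
    · have hlt1 : v t < 1 := lt_of_le_of_ne (hD t ht) h1
      obtain ⟨s₁, hs₁D, t₁, ht₁D, hs₁, h₁⟩ := recog_mul_eq v D ϖ hD hvnr t ht hlt1
      have hval : v t = v ϖ * v t₁ := by
        have h := congrArg v h₁
        rw [map_mul, hs₁, one_mul, map_mul] at h
        exact h
      have hlt' : v ϖ ^ k < v t₁ := by
        rw [hval, pow_succ'] at hlt
        exact lt_of_mul_lt_mul_left hlt zero_le'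
      obtain ⟨i, s₂, hs₂D, t', ht'D, hs₂, ht', h₂⟩ := ih t₁ ht₁D hlt'
      refine ⟨i + 1, s₂ * s₁, D.mul_mem hs₂D hs₁D, t', ht'D,
        by rw [map_mul, hs₂, hs₁, one_mul], ht', ?_⟩
      calc s₂ * s₁ * t = s₂ * (s₁ * t) := by ring
        _ = ϖ * (s₂ * t₁) := by rw [h₁]; ring
        _ = ϖ ^ (i + 1) * t' := by rw [h₂]; ring

variable (hϖ0 : ϖ ≠ 0) (hϖ1 : v ϖ < 1)
  (hfrac : ∀ x : M, ∃ p ∈ D, ∃ q ∈ D, q ≠ 0 ∧ x * q = p)
  (harch : ∀ x : M, x ≠ 0 → ∃ n : ℕ, v ϖ ^ n < v x)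

include hD hvnr hϖD hϖ0 hϖ1 hfrac harch in
theorem recog_unit_denominator (x : M) (hx : v x ≤ 1) :
    ∃ u ∈ D, ∃ p ∈ D, v u = 1 ∧ x * u = p := by
  by_cases hx0 : x = 0
  · exact ⟨1, D.one_mem, 0, D.zero_mem, by simp, by simp [hx0]⟩
  obtain ⟨p, hpD, q, hqD, hq0, hpq⟩ := hfrac x
  have hp0 : p ≠ 0 := by rw [← hpq]; exact mul_ne_zero hx0 hq0
  obtain ⟨kp, hkp⟩ := harch p hp0
  obtain ⟨kq, hkq⟩ := harch q hq0
  obtain ⟨i, s, hsD, p', hp'D, hs, hp', hsp⟩ := recog_normal_form v D ϖ hD hϖD hvnr kp p hpD hkp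
  obtain ⟨j, r, hrD, q', hq'D, hr, hq', hrq⟩ := recog_normal_form v D ϖ hD hϖD hvnr kq q hqD hkq
  have hva0 : 0 < v ϖ := by rw [Valuation.pos_iff]; exact hϖ0
  have v1 : v p = v ϖ ^ i := by
    have h := congrArg v hsp
    rw [map_mul, hs, one_mul, map_mul, hp', mul_one, map_pow] at h
    exact h
  have v2 : v q = v ϖ ^ j := by
    have h := congrArg v hrq
    rw [map_mul, hr, one_mul, map_mul, hq', mul_one, map_pow] at h
    exact h
  have hji : j ≤ i := by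
    have h3 : v x * v ϖ ^ j = v ϖ ^ i := by rw [← v1, ← v2, ← map_mul, hpq]
    have h4 : v ϖ ^ i ≤ v ϖ ^ j := by rw [← h3]; exact mul_le_of_le_one_left' hx
    exact (pow_le_pow_iff_right_of_lt_one₀ hva0 hϖ1).1 h4
  refine ⟨q' * s, D.mul_mem hq'D hsD, ϖ ^ (i - j) * r * p',
    D.mul_mem (D.mul_mem (D.pow_mem hϖD _) hrD) hp'D, by rw [map_mul, hq', hs, one_mul], ?_⟩
  have haj : ϖ ^ j ≠ 0 := pow_ne_zero _ hϖ0
  apply mul_left_cancel₀ haj
  have hpow : ϖ ^ j * ϖ ^ (i - j) = ϖ ^ i := by rw [← pow_add, Nat.add_sub_cancel' hji]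
  calc ϖ ^ j * (x * (q' * s)) = x * (ϖ ^ j * q') * s := by ring
    _ = x * (r * q) * s := by rw [hrq]
    _ = r * (s * (x * q)) := by ring
    _ = r * (s * p) := by rw [hpq]
    _ = r * (ϖ ^ i * p') := by rw [hsp]
    _ = r * (ϖ ^ j * ϖ ^ (i - j) * p') := by rw [hpow]
    _ = ϖ ^ j * (ϖ ^ (i - j) * r * p') := by ring

include hD hvnr hϖD hϖ0 hϖ1 hfrac harch in
/-- the maximal ideal of `v` is generated by `ϖ` -/
theorem recog_wu (x : M) (hx : v x < 1) : ∃ w : M, v w ≤ 1 ∧ x = ϖ * w := by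
  obtain ⟨u, huD, p, hpD, hu, hup⟩ :=
    recog_unit_denominator v D ϖ hD hϖD hvnr hϖ0 hϖ1 hfrac harch x hx.le
  have hvp : v p < 1 := by rw [← hup, map_mul, hu, mul_one]; exact hx
  obtain ⟨s, hsD, t₁, ht₁D, hs, hst⟩ := recog_mul_eq v D ϖ hD hvnr p hpD hvp
  have hu0 : u ≠ 0 := by
    intro h; rw [h, map_zero] at hu; exact zero_ne_one hu
  have hs0 : s ≠ 0 := by
    intro h; rw [h, map_zero] at hs; exact zero_ne_one hs
  refine ⟨t₁ / (u * s), ?_, ?_⟩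
  · rw [map_div₀, map_mul, hu, hs, one_mul, div_one]
    exact hD t₁ ht₁D
  · rw [mul_div_assoc', ← hst, ← hup]
    field_simp

include hD hvnr hϖD hϖ0 hϖ1 hfrac harch in
/-- every element of the valuation ring is congruent to an element of `D` -/
theorem recog_res (x : M) (hx : v x ≤ 1) : ∃ d ∈ D, v (x - d) < 1 := by
  obtain ⟨u, huD, p, hpD, hu, hup⟩ :=
    recog_unit_denominator v D ϖ hD hϖD hvnr hϖ0 hϖ1 hfrac harch x hx
  obtain ⟨y, hyD, z, hzD, hyz⟩ := hvnr u huD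
  refine ⟨p * y, D.mul_mem hpD hyD, ?_⟩
  have e : (x - p * y) * u = x * ϖ * z := by
    linear_combination x * hyz + y * u * hup
  have h2 := congrArg v e
  rw [v.map_mul, hu, mul_one, v.map_mul, v.map_mul] at h2
  rw [h2]
  calc v x * v ϖ * v z ≤ v x * v ϖ := mul_le_of_le_one_right' (hD z hzD)
    _ ≤ v ϖ := mul_le_of_le_one_left' hx
    _ < 1 := hϖ1

end Recog

end Groth.Agent.Helper8.Ep
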