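import Mathlib
import Groth.Agent.Helper8.EpA

/-!
# EpF: Kummer extensions of reduced rings; von Neumann regularity with a Kummer generator
-/

set_option autoImplicit false
universe u

namespace Groth.Agent.Helper8.Ep

open TensorProduct Polynomial

section Red

/-- `R[X]/(X^e - c)` is reduced when `R` is reduced and `e`, `c` are units of `R` -/
theorem isReduced_adjoinRoot_pow_sub_C {R : Type*} [CommRing R] [IsReduced R] (e : ℕ)
    (he : IsUnit (e : R)) (c : R) (hc : IsUnit c) :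
    IsReduced (AdjoinRoot (X ^ e - C c : R[X])) := by
  classical
  rcases subsingleton_or_nontrivial R with hsub | hnt
  · haveI : Subsingleton (AdjoinRoot (X ^ e - C c : R[X])) :=
      Module.subsingleton R _
    exact ⟨fun x _ => Subsingleton.elim _ _⟩
  have he0 : e ≠ 0 := by
    rintro rfl
    rw [Nat.cast_zero] at he
    exact not_isUnit_zero he
  have hmon : (X ^ e - C c : R[X]).Monic := monic_X_pow_sub_C c he0
  have hdeg : (X ^ e - C c : R[X]).natDegree = e := natDegree_X_pow_sub_C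
  constructor
  rintro x ⟨n, hn⟩
  have hn' : x ^ (n + 1) = 0 := by rw [pow_succ, hn, zero_mul]
  obtain ⟨g, rfl⟩ := AdjoinRoot.mk_surjective x
  have hg' : AdjoinRoot.mk (X ^ e - C c : R[X]) (g %ₘ (X ^ e - C c)) =
      AdjoinRoot.mk (X ^ e - C c : R[X]) g := by
    rw [AdjoinRoot.mk_eq_mk]
    refine ⟨-(g /ₘ (X ^ e - C c)), ?_⟩
    have h := modByMonic_add_div g (X ^ e - C c : R[X])
    linear_combination h
  rw [← hg'] at hn' ⊢
  obtain ⟨g', hg'def⟩ : ∃ g', g' = g %ₘ (X ^ e - C c : R[X]) := ⟨_, rfl⟩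
  rw [← hg'def] at hn' ⊢
  have hdegg : g'.degree < (X ^ e - C c : R[X]).degree := by
    rw [hg'def]
    exact degree_modByMonic_lt g hmon
  have hdvd : (X ^ e - C c : R[X]) ∣ g' ^ (n + 1) := by
    rw [← AdjoinRoot.mk_eq_zero, map_pow]
    exact hn'
  suffices hz : g' = 0 by rw [hz, map_zero]
  ext i
  rw [coeff_zero]
  apply IsReduced.eq_zero
  rw [nilpotent_iff_mem_prime]
  intro p hp
  let ρ : R →+* FractionRing (R ⧸ p) :=
    (algebraMap (R ⧸ p) (FractionRing (R ⧸ p))).comp (Ideal.Quotient.mk p)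
  have hρker : ∀ r : R, ρ r = 0 → r ∈ p := by
    intro r hr
    have h1 : algebraMap (R ⧸ p) (FractionRing (R ⧸ p)) (Ideal.Quotient.mk p r) = 0 := hr
    rw [map_eq_zero_iff _ (IsFractionRing.injective (R ⧸ p) (FractionRing (R ⧸ p)))] at h1
    exact Ideal.Quotient.eq_zero_iff_mem.1 h1
  have hmap : (X ^ e - C c : R[X]).map ρ = X ^ e - C (ρ c) := by
    simp
  have hsep : (X ^ e - C (ρ c) : (FractionRing (R ⧸ p))[X]).Separable := by
    apply separable_X_pow_sub_C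
    · have h1 : IsUnit (ρ (e : R)) := he.map ρ
      rw [map_natCast] at h1
      exact h1.ne_zero
    · exact (hc.map ρ).ne_zero
  have hdvd' : (X ^ e - C (ρ c) : (FractionRing (R ⧸ p))[X]) ∣ (g'.map ρ) ^ (n + 1) := by
    rw [← hmap, ← Polynomial.map_pow]
    exact Polynomial.map_dvd ρ hdvd
  have hdvd'' : (X ^ e - C (ρ c) : (FractionRing (R ⧸ p))[X]) ∣ g'.map ρ :=
    (hsep.squarefree.dvd_pow_iff_dvd (Nat.succ_ne_zero n)).1 hdvd'
  have hzero : g'.map ρ = 0 := by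
    apply eq_zero_of_dvd_of_degree_lt hdvd''
    calc (g'.map ρ).degree ≤ g'.degree := degree_map_le
      _ < (X ^ e - C c : R[X]).degree := hdegg
      _ = (e : WithBot ℕ) := by rw [degree_eq_natDegree hmon.ne_zero, hdeg]
      _ = (X ^ e - C (ρ c) : (FractionRing (R ⧸ p))[X]).degree := by
        rw [degree_X_pow_sub_C (Nat.pos_of_ne_zero he0)]
  apply hρker
  have := congrArg (fun q => q.coeff i) hzero
  simpa using this

end Red

section Field

/-- rings generated by compatible images of a geometrically reduced field extension, of an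
algebraic field extension and by an `e`-th root of a product of units, `e` invertible, are von
Neumann regular -/
theorem vnr_of_closure' {k F Ω S : Type*} [Field k] [Field F] [Field Ω] [CommRing S]
    [Algebra k F] [Algebra k Ω] [Algebra.IsAlgebraic k Ω] [Algebra.IsGeometricallyReduced k F]
    (φ : F →+* S) (ψ : Ω →+* S) (h : ∀ a : k, φ (algebraMap k F a) = ψ (algebraMap k Ω a))
    (e : ℕ) (he : (e : k) ≠ 0) (c₁ : F) (hc₁ : c₁ ≠ 0) (c₂ : Ω) (hc₂ : c₂ ≠ 0) (θ : S)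
    (hθ : θ ^ e = φ c₁ * ψ c₂)
    (hcl : ∀ s : S, s ∈ Subring.closure (Set.range φ ∪ Set.range ψ ∪ {θ})) :
    ∀ x : S, ∃ y : S, x = x * x * y := by
  have hred : IsReduced (F ⊗[k] Ω) := by
    have : IsReduced (Ω ⊗[k] F) := inferInstance
    exact isReduced_of_injective (Algebra.TensorProduct.comm k F Ω).toRingHom
      (Algebra.TensorProduct.comm k F Ω).injective
  have hint : Algebra.IsIntegral F (F ⊗[k] Ω) := inferInstance
  have hcu : IsUnit (c₁ ⊗ₜ[k] c₂ : F ⊗[k] Ω) := by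
    refine IsUnit.of_mul_eq_one (c₁⁻¹ ⊗ₜ[k] c₂⁻¹) ?_
    rw [Algebra.TensorProduct.tmul_mul_tmul, mul_inv_cancel₀ hc₁, mul_inv_cancel₀ hc₂]
    rfl
  have heu : IsUnit ((e : ℕ) : F ⊗[k] Ω) := by
    have h1 : IsUnit (algebraMap k (F ⊗[k] Ω) (e : k)) := (IsUnit.mk0 _ he).map _
    rwa [map_natCast] at h1
  haveI hred' : IsReduced (AdjoinRoot (X ^ e - C (c₁ ⊗ₜ[k] c₂) : (F ⊗[k] Ω)[X])) :=
    isReduced_adjoinRoot_pow_sub_C e heu _ hcu
  have he0 : e ≠ 0 := by
    rintro rfl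
    exact he Nat.cast_zero
  have hmon : (X ^ e - C (c₁ ⊗ₜ[k] c₂) : (F ⊗[k] Ω)[X]).Monic := monic_X_pow_sub_C _ he0
  haveI hfin : Module.Finite (F ⊗[k] Ω)
      (AdjoinRoot (X ^ e - C (c₁ ⊗ₜ[k] c₂) : (F ⊗[k] Ω)[X])) := hmon.finite_adjoinRoot
  haveI hint' : Algebra.IsIntegral (F ⊗[k] Ω)
      (AdjoinRoot (X ^ e - C (c₁ ⊗ₜ[k] c₂) : (F ⊗[k] Ω)[X])) := Algebra.IsIntegral.of_finite _ _
  haveI hint'' : Algebra.IsIntegral F
      (AdjoinRoot (X ^ e - C (c₁ ⊗ₜ[k] c₂) : (F ⊗[k] Ω)[X])) :=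
    Algebra.IsIntegral.trans (F ⊗[k] Ω)
  have heval : (X ^ e - C (c₁ ⊗ₜ[k] c₂) : (F ⊗[k] Ω)[X]).eval₂ (prodHom φ ψ h) θ = 0 := by
    rw [eval₂_sub, eval₂_pow, eval₂_X, eval₂_C, prodHom_tmul, hθ, sub_self]
  let Λ : AdjoinRoot (X ^ e - C (c₁ ⊗ₜ[k] c₂) : (F ⊗[k] Ω)[X]) →+* S :=
    AdjoinRoot.lift (prodHom φ ψ h) θ heval
  have hsurj : Function.Surjective Λ := by
    intro s
    have hle : Subring.closure (Set.range φ ∪ Set.range ψ ∪ {θ}) ≤ Λ.range := by
      rw [Subring.closure_le]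
      rintro _ ((⟨a, rfl⟩ | ⟨b, rfl⟩) | hθ')
      · refine ⟨AdjoinRoot.of _ (a ⊗ₜ 1), ?_⟩
        show AdjoinRoot.lift _ _ _ _ = _
        rw [AdjoinRoot.lift_of, prodHom_tmul, map_one, mul_one]
      · refine ⟨AdjoinRoot.of _ (1 ⊗ₜ b), ?_⟩
        show AdjoinRoot.lift _ _ _ _ = _
        rw [AdjoinRoot.lift_of, prodHom_tmul, map_one, one_mul]
      · rw [Set.mem_singleton_iff] at hθ'
        subst hθ'
        exact ⟨AdjoinRoot.root _, AdjoinRoot.lift_root _⟩
    exact hle (hcl s)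
  intro x
  obtain ⟨t, rfl⟩ := hsurj x
  obtain ⟨y, hy⟩ := exists_vnr_of_isIntegral (k := F) t (Algebra.IsIntegral.isIntegral t)
  exact ⟨Λ y, by rw [← map_mul, ← map_mul, ← hy]⟩

/-- transfer of geometric reducedness to a field generated by two subfields and a Kummer
generator -/
theorem isGeometricallyReduced_of_closure' {k k₁ F F₁ : Type u} [Field k] [Field k₁] [Field F]
    [Field F₁] [Algebra k k₁] [Algebra.IsAlgebraic k k₁] [Algebra k F]
    [Algebra.IsGeometricallyReduced k F] [Algebra k₁ F₁] (j : F →+* F₁)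
    (hj : ∀ a : k, j (algebraMap k F a) = algebraMap k₁ F₁ (algebraMap k k₁ a))
    (e : ℕ) (he : (e : k) ≠ 0) (c₁ : F) (hc₁ : c₁ ≠ 0) (c₂ : k₁) (hc₂ : c₂ ≠ 0) (θ : F₁)
    (hθ : θ ^ e = j c₁ * algebraMap k₁ F₁ c₂)
    (hcl : ∀ w : F₁,
      w ∈ Subring.closure (Set.range j ∪ Set.range (algebraMap k₁ F₁) ∪ {θ})) :
    Algebra.IsGeometricallyReduced k₁ F₁ := by
  rw [Algebra.isGeometricallyReduced_field_iff]
  haveI : IsScalarTower k k₁ (AlgebraicClosure k₁) := inferInstance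
  haveI : Algebra.IsAlgebraic k (AlgebraicClosure k₁) :=
    Algebra.IsAlgebraic.trans k k₁ (AlgebraicClosure k₁)
  let incR : F₁ →+* AlgebraicClosure k₁ ⊗[k₁] F₁ :=
    (Algebra.TensorProduct.includeRight : F₁ →ₐ[k₁] AlgebraicClosure k₁ ⊗[k₁] F₁).toRingHom
  let φ : F →+* AlgebraicClosure k₁ ⊗[k₁] F₁ := incR.comp j
  let ψ : AlgebraicClosure k₁ →+* AlgebraicClosure k₁ ⊗[k₁] F₁ :=
    Algebra.TensorProduct.includeLeftRingHom
  have hswap : ∀ c : k₁, incR (algebraMap k₁ F₁ c) = ψ (algebraMap k₁ (AlgebraicClosure k₁) c) := by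
    intro c
    show (1 : AlgebraicClosure k₁) ⊗ₜ[k₁] (algebraMap k₁ F₁ c) =
      (algebraMap k₁ (AlgebraicClosure k₁) c) ⊗ₜ[k₁] (1 : F₁)
    rw [Algebra.algebraMap_eq_smul_one, Algebra.algebraMap_eq_smul_one, TensorProduct.smul_tmul]
  have h : ∀ a : k, φ (algebraMap k F a) = ψ (algebraMap k (AlgebraicClosure k₁) a) := by
    intro a
    show incR (j (algebraMap k F a)) = _
    rw [hj, hswap]
    rfl
  have hθ' : (incR θ) ^ e = φ c₁ * ψ (algebraMap k₁ (AlgebraicClosure k₁) c₂) := by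
    rw [← map_pow, hθ, map_mul, hswap]
    rfl
  have hc₂' : algebraMap k₁ (AlgebraicClosure k₁) c₂ ≠ 0 := by
    rw [ne_eq, map_eq_zero]
    exact hc₂
  apply isReduced_of_vnr
  apply vnr_of_closure' φ ψ h e he c₁ hc₁ _ hc₂' (incR θ) hθ'
  intro s
  induction s using TensorProduct.induction_on with
  | zero => exact Subring.zero_mem _
  | add x y hx hy => exact Subring.add_mem _ hx hy
  | tmul ω w =>
    have e' : ω ⊗ₜ[k₁] w = ψ ω * incR w := by
      show _ = (ω ⊗ₜ[k₁] (1 : F₁)) * ((1 : AlgebraicClosure k₁) ⊗ₜ[k₁] w)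
      rw [Algebra.TensorProduct.tmul_mul_tmul, mul_one, one_mul]
    rw [e']
    apply Subring.mul_mem
    · exact Subring.subset_closure (Or.inl (Or.inr ⟨ω, rfl⟩))
    · have hw : incR w ∈ (Subring.closure
          (Set.range j ∪ Set.range (algebraMap k₁ F₁) ∪ {θ})).map incR :=
        Subring.mem_map.2 ⟨w, hcl w, rfl⟩
      rw [RingHom.map_closure] at hw
      refine Subring.closure_mono ?_ hw
      rintro _ ⟨z, (hz | hz) | hz, rfl⟩
      · obtain ⟨b, rfl⟩ := hz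
        exact Or.inl (Or.inl ⟨b, rfl⟩)
      · obtain ⟨c, rfl⟩ := hz
        exact Or.inl (Or.inr ⟨algebraMap k₁ (AlgebraicClosure k₁) c, (hswap c).symm⟩)
      · rw [Set.mem_singleton_iff] at hz
        subst hz
        exact Or.inr rfl

end Field

end Groth.Agent.Helper8.Ep
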