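import Mathlib
import Groth.Prelude.Def_EtRam
import Groth.Agent.Helper8.EpD
import Groth.Agent.Helper8.EpE
import Groth.Agent.Helper8.EpF

/-!
# EpG: S1982 — Abhyankar's lemma for extensions of discrete valuation rings
-/

set_option autoImplicit false
universe u v

namespace Groth.Agent.Helper8.Ep

open TensorProduct IsLocalRing Polynomial
open Groth.Agent.Helper7

/-- any field extension of a perfect field is geometrically reduced
(same proof as `Groth.Agent.Helper1.FieldSmooth.isGeometricallyReduced_of_perfectField`, repeated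
here to keep the import closure small) -/
theorem isGeometricallyReduced_of_perfectField' {k : Type u} {K : Type v} [Field k] [Field K]
    [Algebra k K] [PerfectField k] : Algebra.IsGeometricallyReduced k K := by
  rw [Algebra.isGeometricallyReduced_field_iff]
  have h : IsReduced (K ⊗[k] AlgebraicClosure k) := by
    apply IsReduced.tensorProduct_of_flat_of_forall_fg
    intro B hB
    letI : Field B := (Subalgebra.isField_of_algebraic B).toField
    haveI : Algebra.IsAlgebraic k B :=
      Algebra.IsAlgebraic.of_injective B.val Subtype.val_injective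
    haveI : Algebra.IsSeparable k B := Algebra.IsAlgebraic.isSeparable_of_perfectField
    haveI : Algebra.FormallyUnramified k B := Algebra.FormallyUnramified.of_isSeparable k B
    haveI : Algebra.FiniteType k B := (Subalgebra.fg_iff_finiteType B).mp hB
    exact Algebra.FormallyUnramified.isReduced_of_field K (K ⊗[k] B)
  exact isReduced_of_injective (Algebra.TensorProduct.comm k (AlgebraicClosure k) K).toRingHom
    (Algebra.TensorProduct.comm k (AlgebraicClosure k) K).injective

section Ram

variable {A B : Type*} [CommRing A] [IsDomain A] [IsDiscreteValuationRing A]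
  [CommRing B] [IsDomain B] [IsDiscreteValuationRing B] [Algebra A B]
  [IsLocalHom (algebraMap A B)]

/-- the ramification index of an extension of discrete valuation rings through uniformizers -/
theorem ramIdx_eq (hinj : Function.Injective (algebraMap A B)) {πA : A} (hπA : Irreducible πA)
    {πB : B} (hπB : Irreducible πB) :
    Ideal.ramificationIdx' (maximalIdeal A) (maximalIdeal B) ≠ 0 ∧
      ∃ u : Bˣ, algebraMap A B πA =
        u * πB ^ Ideal.ramificationIdx' (maximalIdeal A) (maximalIdeal B) := by
  have h0 : algebraMap A B πA ≠ 0 := fun h => hπA.ne_zero (hinj (by rw [h, map_zero]))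
  obtain ⟨n, u, hu⟩ := IsDiscreteValuationRing.eq_unit_mul_pow_irreducible h0 hπB
  have hn0 : n ≠ 0 := by
    rintro rfl
    rw [pow_zero, mul_one] at hu
    have h1 : IsUnit (algebraMap A B πA) := hu ▸ u.isUnit
    exact hπA.not_isUnit (isUnit_of_map_unit (algebraMap A B) πA h1)
  have hmap : (maximalIdeal A).map (algebraMap A B) = (maximalIdeal B) ^ n := by
    rw [hπA.maximalIdeal_eq, hπB.maximalIdeal_eq, Ideal.map_span, Set.image_singleton,
      Ideal.span_singleton_pow, hu, Ideal.span_singleton_eq_span_singleton]
    exact (associated_unit_mul_left _ _ u.isUnit)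
  have hidx : Ideal.ramificationIdx' (maximalIdeal A) (maximalIdeal B) = n := by
    apply Ideal.ramificationIdx'_spec
    · rw [hmap]
    · rw [hmap]
      intro hle
      rw [hπB.maximalIdeal_eq, Ideal.span_singleton_pow, Ideal.span_singleton_pow,
        Ideal.span_singleton_le_span_singleton] at hle
      have h1 := (pow_dvd_pow_iff hπB.ne_zero hπB.not_isUnit).1 hle
      omega
  rw [hidx]
  exact ⟨hn0, u, hu⟩

end Ram

section Frac

variable {B L K₁ M : Type u} [CommRing B] [IsDomain B] [Field L] [Field K₁] [Field M]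
  [Algebra B L] [IsFractionRing B L] [Algebra L M] [Algebra K₁ M]

/-- if `M = L(K₁)` then `M` is the fraction field of any subring containing `B` and a valuation
subring of `K₁` -/
theorem frac_of_adjoin (hadj : Algebra.adjoin L (Set.range (algebraMap K₁ M)) = ⊤)
    (V : ValuationSubring K₁) (D : Subring M)
    (hBD : ∀ b : B, algebraMap L M (algebraMap B L b) ∈ D)
    (hVD : ∀ c : V, algebraMap K₁ M (c : K₁) ∈ D) (x : M) :
    ∃ p ∈ D, ∃ q ∈ D, q ≠ 0 ∧ x * q = p := by
  have hx : x ∈ Algebra.adjoin L (Set.range (algebraMap K₁ M)) := by rw [hadj]; trivial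
  induction hx using Algebra.adjoin_induction with
  | mem x hx =>
    obtain ⟨k, rfl⟩ := hx
    rcases V.mem_or_inv_mem k with hk | hk
    · exact ⟨_, hVD ⟨k, hk⟩, 1, D.one_mem, one_ne_zero, mul_one _⟩
    · by_cases hk0 : k = 0
      · subst hk0
        exact ⟨0, D.zero_mem, 1, D.one_mem, one_ne_zero, by simp⟩
      · refine ⟨1, D.one_mem, _, hVD ⟨k⁻¹, hk⟩, ?_, ?_⟩
        · simpa using hk0
        · show algebraMap K₁ M k * algebraMap K₁ M k⁻¹ = 1
          rw [← map_mul, mul_inv_cancel₀ hk0, map_one]
  | algebraMap l =>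
    obtain ⟨b, b', hb', rfl⟩ := IsFractionRing.div_surjective (A := B) l
    have hb'0 : algebraMap B L b' ≠ 0 := by
      intro h
      exact nonZeroDivisors.ne_zero hb' (IsFractionRing.injective B L (by rw [h, map_zero]))
    refine ⟨_, hBD b, _, hBD b', ?_, ?_⟩
    · rw [ne_eq, map_eq_zero]
      exact hb'0
    · rw [← map_mul, div_mul_cancel₀ _ hb'0]
  | add x y _ _ hx hy =>
    obtain ⟨p, hp, q, hq, hq0, hpq⟩ := hx
    obtain ⟨p', hp', q', hq', hq'0, hpq'⟩ := hy
    refine ⟨p * q' + p' * q, D.add_mem (D.mul_mem hp hq') (D.mul_mem hp' hq), q * q',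
      D.mul_mem hq hq', mul_ne_zero hq0 hq'0, ?_⟩
    linear_combination q' * hpq + q * hpq'
  | mul x y _ _ hx hy =>
    obtain ⟨p, hp, q, hq, hq0, hpq⟩ := hx
    obtain ⟨p', hp', q', hq', hq'0, hpq'⟩ := hy
    refine ⟨p * p', D.mul_mem hp hp', q * q', D.mul_mem hq hq', mul_ne_zero hq0 hq'0, ?_⟩
    linear_combination (y * q') * hpq + p * hpq'

end Frac

end Groth.Agent.Helper8.Ep
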