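import Mathlib
import Groth.Prelude.Def_EtRam
import Groth.Agent.Helper8.EpG

/-!
# EpH: S1982 — Abhyankar's lemma, main argument
-/

set_option autoImplicit false
universe u

namespace Groth.Agent.Helper8.Ep

open TensorProduct IsLocalRing Polynomial
open Groth.Agent.Helper7

/-- induction over the elements of a subring closure, as a subtype -/
theorem closure_subtype_induction {R : Type*} [Ring R] (s : Set R)
    (C : Subring.closure s → Prop)
    (mem : ∀ x (hx : x ∈ s), C ⟨x, Subring.subset_closure hx⟩) (zero : C 0) (one : C 1)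
    (add : ∀ a b, C a → C b → C (a + b)) (neg : ∀ a, C a → C (-a))
    (mul : ∀ a b, C a → C b → C (a * b)) : ∀ d, C d := by
  rintro ⟨d, hd⟩
  induction hd using Subring.closure_induction with
  | mem x hx => exact mem x hx
  | zero => exact zero
  | one => exact one
  | add x y hx hy ihx ihy => exact add ⟨x, hx⟩ ⟨y, hy⟩ ihx ihy
  | neg x hx ih => exact neg ⟨x, hx⟩ ih
  | mul x y hx hy ihx ihy => exact mul ⟨x, hx⟩ ⟨y, hy⟩ ihx ihy

section Main

variable (A B K L : Type u) [CommRing A] [IsDomain A] [IsDiscreteValuationRing A]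
  [CommRing B] [IsDomain B] [IsDiscreteValuationRing B] [Algebra A B]
  [IsLocalHom (algebraMap A B)]
  [Field K] [Field L] [Algebra A K] [IsFractionRing A K] [Algebra B L] [IsFractionRing B L]
  [Algebra K L] [Algebra A L] [IsScalarTower A K L] [IsScalarTower A B L]
  (K₁ : Type u) [Field K₁] [Algebra K K₁] [FiniteDimensional K K₁]
  (M : Type u) [Field M] [Algebra K M] [Algebra L M] [Algebra K₁ M] [IsScalarTower K L M]
  [IsScalarTower K K₁ M]

include K in
theorem main_abhyankar (hinj : Function.Injective (algebraMap A B))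
    (htame : CharZero (ResidueField A) ∨ ∃ p : ℕ, p.Prime ∧ CharP (ResidueField A) p ∧
      ¬ p ∣ Ideal.ramificationIdx' (maximalIdeal A) (maximalIdeal B) ∧
      Algebra.IsGeometricallyReduced (ResidueField A) (ResidueField B))
    (hadj : Algebra.adjoin L (Set.range (algebraMap K₁ M)) = ⊤) (W : ValuationSubring M)
    (hW : EtRam.Dominates B ((algebraMap L M).comp (algebraMap B L)) W)
    (hA : ∀ a : A, (algebraMap K K₁) (algebraMap A K a) ∈ W.comap (algebraMap K₁ M))
    (hdvd : letI : Algebra A (W.comap (algebraMap K₁ M)) :=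
        (RingHom.codRestrict ((algebraMap K K₁).comp (algebraMap A K))
          (W.comap (algebraMap K₁ M)) hA).toAlgebra
      Ideal.ramificationIdx' (maximalIdeal A) (maximalIdeal B) ∣
        Ideal.ramificationIdx' (maximalIdeal A) (maximalIdeal (W.comap (algebraMap K₁ M)))) :
    DomVal.WU W (algebraMap K₁ M) ∧ DomVal.GR W (algebraMap K₁ M) := by
  classical
  obtain ⟨gB, hgB⟩ : ∃ g : B →+* M, g = (algebraMap L M).comp (algebraMap B L) := ⟨_, rfl⟩
  rw [← hgB] at hW
  have hcompM : ∀ a : A, gB (algebraMap A B a) =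
      algebraMap K₁ M (algebraMap K K₁ (algebraMap A K a)) := by
    intro a
    rw [hgB, RingHom.comp_apply, ← IsScalarTower.algebraMap_apply A B L,
      IsScalarTower.algebraMap_apply A K L, ← IsScalarTower.algebraMap_apply K L M,
      ← IsScalarTower.algebraMap_apply K K₁ M]
  have hgAinj : Function.Injective ((algebraMap K K₁).comp (algebraMap A K)) :=
    (algebraMap K K₁).injective.comp (IsFractionRing.injective A K)
  have hgBinj : Function.Injective gB := by
    rw [hgB]
    exact (algebraMap L M).injective.comp (IsFractionRing.injective B L)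
  have hAmB : ∀ a ∈ maximalIdeal A, algebraMap A B a ∈ maximalIdeal B := by
    intro a ha
    rw [mem_maximalIdeal, mem_nonunits_iff] at ha ⊢
    exact fun hu => ha (isUnit_of_map_unit (algebraMap A B) a hu)
  have hdomA : EtRam.Dominates A ((algebraMap K K₁).comp (algebraMap A K))
      (W.comap (algebraMap K₁ M)) := by
    refine ⟨hA, fun a ha => ?_⟩
    rw [DomVal.valuation_comap_lt_one_iff, RingHom.comp_apply, ← hcompM]
    exact hW.2 _ (hAmB a ha)
  letI algAK₁ : Algebra A K₁ := ((algebraMap K K₁).comp (algebraMap A K)).toAlgebra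
  haveI : IsScalarTower A K K₁ := IsScalarTower.of_algebraMap_eq' rfl
  letI algAV : Algebra A (W.comap (algebraMap K₁ M)) :=
    (RingHom.codRestrict ((algebraMap K K₁).comp (algebraMap A K))
      (W.comap (algebraMap K₁ M)) hA).toAlgebra
  haveI : IsScalarTower A (W.comap (algebraMap K₁ M)) K₁ := IsScalarTower.of_algebraMap_eq' rfl
  haveI hlocAV : IsLocalHom (algebraMap A (W.comap (algebraMap K₁ M))) :=
    DomVal.isLocalHom_codRestrict _ _ hdomA
  obtain ⟨πA, hπA⟩ := IsDiscreteValuationRing.exists_irreducible A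
  have hπAm : πA ∈ maximalIdeal A := by
    rw [hπA.maximalIdeal_eq]
    exact Ideal.mem_span_singleton_self πA
  have hgπ0 : algebraMap K K₁ (algebraMap A K πA) ≠ 0 := fun h =>
    hπA.ne_zero (hgAinj (by rw [RingHom.comp_apply, h, map_zero]))
  have hW₁top : W.comap (algebraMap K₁ M) ≠ ⊤ := by
    intro htop
    have h1 := hdomA.2 πA hπAm
    rw [RingHom.comp_apply] at h1
    have h2 : (algebraMap K K₁ (algebraMap A K πA))⁻¹ ∈ W.comap (algebraMap K₁ M) := by
      rw [htop]; trivial
    have h3 := (ValuationSubring.valuation_le_one_iff _ _).2 h2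
    rw [map_inv₀] at h3
    have h4 : 0 < (W.comap (algebraMap K₁ M)).valuation (algebraMap K K₁ (algebraMap A K πA)) := by
      rw [Valuation.pos_iff]
      exact hgπ0
    have h5 := (inv_le_one₀ h4).1 h3
    exact absurd h1 (not_lt.2 h5)
  obtain ⟨hDVR, pkg⟩ := dvr_package K (W.comap (algebraMap K₁ M)) (fun r => hA r) hW₁top
  haveI := hDVR
  haveI halgres : Algebra.IsAlgebraic (ResidueField A)
      (ResidueField (W.comap (algebraMap K₁ M))) :=
    isAlgebraic_residue (W.comap (algebraMap K₁ M)) pkg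
  obtain ⟨fV, hfV⟩ : ∃ g : (W.comap (algebraMap K₁ M)) →+* M,
      g = (algebraMap K₁ M).comp (W.comap (algebraMap K₁ M)).subtype := ⟨_, rfl⟩
  have hfVapp : ∀ c, fV c = algebraMap K₁ M (c : K₁) := fun c => by rw [hfV]; rfl
  have hcomp : ∀ a : A, gB (algebraMap A B a) =
      fV (algebraMap A (W.comap (algebraMap K₁ M)) a) := by
    intro a
    rw [hcompM, hfVapp]
    rfl
  have hB : ∀ b, W.valuation (gB b) ≤ 1 := fun b => (W.valuation_le_one_iff _).2 (hW.1 b)
  have hV : ∀ c, W.valuation (fV c) ≤ 1 := fun c => by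
    rw [hfVapp]
    exact (W.valuation_le_one_iff _).2 c.2
  have hVm : ∀ c ∈ maximalIdeal (W.comap (algebraMap K₁ M)), W.valuation (fV c) < 1 := by
    intro c hc
    rw [hfVapp, ← ValuationSubring.mem_nonunits_iff]
    exact (DomVal.mem_maximalIdeal_comap_iff W _ c).1 hc
  have hfVinj : Function.Injective fV := by
    rw [hfV]
    exact (algebraMap K₁ M).injective.comp Subtype.val_injective
  have hinjAV : Function.Injective (algebraMap A (W.comap (algebraMap K₁ M))) := by
    intro a a' h
    apply hgAinj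
    exact congrArg Subtype.val h
  -- uniformizers and ramification
  obtain ⟨πB, hπB⟩ := IsDiscreteValuationRing.exists_irreducible B
  obtain ⟨ϖ, hϖ⟩ := IsDiscreteValuationRing.exists_irreducible (W.comap (algebraMap K₁ M))
  have hϖm : ϖ ∈ maximalIdeal (W.comap (algebraMap K₁ M)) := by
    rw [hϖ.maximalIdeal_eq]
    exact Ideal.mem_span_singleton_self ϖ
  obtain ⟨he0, uB, huB⟩ := ramIdx_eq hinj hπA hπB
  obtain ⟨he₁0, uV, huV⟩ := ramIdx_eq hinjAV hπA hϖ
  obtain ⟨e₂, he₂'⟩ := hdvd
  have he₂ : Ideal.ramificationIdx' (maximalIdeal A)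
      (maximalIdeal (W.comap (algebraMap K₁ M))) =
      Ideal.ramificationIdx' (maximalIdeal A) (maximalIdeal B) * e₂ := he₂'
  have hgr : Algebra.IsGeometricallyReduced (ResidueField A) (ResidueField B) := by
    rcases htame with h0 | ⟨p, _, _, _, hgr⟩
    · haveI := h0
      exact isGeometricallyReduced_of_perfectField'
    · exact hgr
  have hek : ((Ideal.ramificationIdx' (maximalIdeal A) (maximalIdeal B) : ℕ) :
      ResidueField A) ≠ 0 := by
    rcases htame with h0 | ⟨p, _, hcp, hpe, _⟩
    · haveI := h0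
      exact Nat.cast_ne_zero.2 he0
    · haveI := hcp
      rwa [ne_eq, CharP.cast_eq_zero_iff (ResidueField A) p]
  generalize Ideal.ramificationIdx' (maximalIdeal A) (maximalIdeal B) = e at he0 huB he₂ hek
  generalize Ideal.ramificationIdx' (maximalIdeal A)
    (maximalIdeal (W.comap (algebraMap K₁ M))) = e₁ at he₁0 huV he₂
  haveI := hgr
  -- computations in `M`
  obtain ⟨P, hPdef⟩ : ∃ P, P = gB (algebraMap A B πA) := ⟨_, rfl⟩
  have hPB : P = gB uB * gB πB ^ e := by rw [hPdef, huB, map_mul, map_pow]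
  have hPV : P = fV uV * fV ϖ ^ e₁ := by rw [hPdef, hcomp, huV, map_mul, map_pow]
  have hπB0 : gB πB ≠ 0 := fun h => hπB.ne_zero (hgBinj (by rw [h, map_zero]))
  have hϖ0 : fV ϖ ≠ 0 := fun h => hϖ.ne_zero (hfVinj (by rw [h, map_zero]))
  have huB1 : gB uB * gB (↑uB⁻¹ : B) = 1 := by rw [← map_mul, Units.mul_inv, map_one]
  have huV1 : fV uV * fV (↑uV⁻¹ : (W.comap (algebraMap K₁ M))) = 1 := by
    rw [← map_mul, Units.mul_inv, map_one]
  obtain ⟨θ, hθdef⟩ : ∃ θ, θ = fV ϖ ^ e₂ / gB πB := ⟨_, rfl⟩
  have hθmul : θ * gB πB = fV ϖ ^ e₂ := by rw [hθdef, div_mul_cancel₀ _ hπB0]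
  have hθe : θ ^ e = gB uB * fV (↑uV⁻¹ : (W.comap (algebraMap K₁ M))) := by
    apply mul_right_cancel₀ (pow_ne_zero e hπB0)
    have key : θ ^ e * gB πB ^ e = fV ϖ ^ e₁ := by
      rw [← mul_pow, hθmul, ← pow_mul, mul_comm e₂ e, ← he₂]
    rw [key]
    have h1 : gB uB * gB πB ^ e = fV uV * fV ϖ ^ e₁ := hPB.symm.trans hPV
    calc fV ϖ ^ e₁ = (fV uV * fV (↑uV⁻¹ : (W.comap (algebraMap K₁ M)))) * fV ϖ ^ e₁ := by
          rw [huV1, one_mul]
      _ = fV (↑uV⁻¹ : (W.comap (algebraMap K₁ M))) * (fV uV * fV ϖ ^ e₁) := by ring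
      _ = fV (↑uV⁻¹ : (W.comap (algebraMap K₁ M))) * (gB uB * gB πB ^ e) := by rw [h1]
      _ = gB uB * fV (↑uV⁻¹ : (W.comap (algebraMap K₁ M))) * gB πB ^ e := by ring
  have hvθ : W.valuation θ = 1 := by
    have h1 : W.valuation θ ^ e = 1 := by
      rw [← map_pow, hθe, map_mul, val_unit W.valuation gB hB uB,
        val_unit W.valuation fV hV uV⁻¹, one_mul]
    by_contra hne
    rcases lt_or_gt_of_ne hne with hlt | hgt
    · exact absurd h1 (ne_of_lt (pow_lt_one₀ zero_le' hlt he0))
    · exact absurd h1 (ne_of_gt (one_lt_pow₀ hgt he0))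
  obtain ⟨θi, hθidef⟩ : ∃ θi, θi = θ ^ (e - 1) * gB (↑uB⁻¹ : B) * fV uV := ⟨_, rfl⟩
  have hθθi : θ * θi = 1 := by
    rw [hθidef]
    calc θ * (θ ^ (e - 1) * gB (↑uB⁻¹ : B) * fV uV)
        = θ ^ (e - 1 + 1) * gB (↑uB⁻¹ : B) * fV uV := by ring
      _ = θ ^ e * gB (↑uB⁻¹ : B) * fV uV := by rw [Nat.sub_add_cancel (Nat.pos_of_ne_zero he0)]
      _ = (gB uB * gB (↑uB⁻¹ : B)) *
          (fV uV * fV (↑uV⁻¹ : (W.comap (algebraMap K₁ M)))) := by rw [hθe]; ring
      _ = 1 := by rw [huB1, huV1, one_mul]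
  have he₂0 : e₂ ≠ 0 := by
    rintro rfl
    rw [mul_zero] at he₂
    exact he₁0 he₂
  have hπBϖ : gB πB = fV ϖ * (fV ϖ ^ (e₂ - 1) * θi) := by
    have h1 : gB πB = fV ϖ ^ e₂ * θi := by
      calc gB πB = (θ * θi) * gB πB := by rw [hθθi, one_mul]
        _ = (θ * gB πB) * θi := by ring
        _ = fV ϖ ^ e₂ * θi := by rw [hθmul]
    rw [h1]
    calc fV ϖ ^ e₂ * θi = fV ϖ ^ (e₂ - 1 + 1) * θi := by
          rw [Nat.sub_add_cancel (Nat.pos_of_ne_zero he₂0)]
      _ = fV ϖ * (fV ϖ ^ (e₂ - 1) * θi) := by ring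
  -- the subring `D`
  obtain ⟨S₀, hS₀⟩ : ∃ S₀ : Set M, S₀ = Set.range gB ∪ Set.range fV ∪ {θ} := ⟨_, rfl⟩
  have hBD : ∀ b, gB b ∈ Subring.closure S₀ := fun b =>
    Subring.subset_closure (by rw [hS₀]; exact Or.inl (Or.inl ⟨b, rfl⟩))
  have hVD : ∀ c, fV c ∈ Subring.closure S₀ := fun c =>
    Subring.subset_closure (by rw [hS₀]; exact Or.inl (Or.inr ⟨c, rfl⟩))
  have hθD : θ ∈ Subring.closure S₀ :=
    Subring.subset_closure (by rw [hS₀]; exact Or.inr rfl)
  have hθiD : θi ∈ Subring.closure S₀ := by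
    rw [hθidef]
    exact Subring.mul_mem _ (Subring.mul_mem _ (Subring.pow_mem _ hθD _) (hBD _)) (hVD _)
  have hD : ∀ d ∈ Subring.closure S₀, W.valuation d ≤ 1 := by
    intro d hd
    induction hd using Subring.closure_induction with
    | mem x hx =>
      rw [hS₀] at hx
      rcases hx with (⟨b, rfl⟩ | ⟨c, rfl⟩) | hx
      · exact hB b
      · exact hV c
      · rw [Set.mem_singleton_iff] at hx
        rw [hx, hvθ]
    | zero => simp
    | one => simp
    | add x y _ _ hx hy => exact (W.valuation.map_add x y).trans (max_le hx hy)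
    | neg x _ hx => rwa [Valuation.map_neg]
    | mul x y _ _ hx hy =>
      rw [map_mul]
      exact mul_le_one' hx hy
  have hvnr : ∀ d ∈ Subring.closure S₀, ∃ y ∈ Subring.closure S₀, ∃ z ∈ Subring.closure S₀,
      d = d * d * y + fV ϖ * z := by
    let ϖD : Subring.closure S₀ := ⟨fV ϖ, hVD ϖ⟩
    let I : Ideal (Subring.closure S₀) := Ideal.span {ϖD}
    let gB' : B →+* Subring.closure S₀ := gB.codRestrict (Subring.closure S₀) hBD
    let fV' : (W.comap (algebraMap K₁ M)) →+* Subring.closure S₀ :=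
      fV.codRestrict (Subring.closure S₀) hVD
    let θD : Subring.closure S₀ := ⟨θ, hθD⟩
    let θiD : Subring.closure S₀ := ⟨θi, hθiD⟩
    have hBz : ∀ b ∈ maximalIdeal B, Ideal.Quotient.mk I (gB' b) = 0 := by
      intro b hb
      rw [hπB.maximalIdeal_eq, Ideal.mem_span_singleton'] at hb
      obtain ⟨b', rfl⟩ := hb
      rw [Ideal.Quotient.eq_zero_iff_mem, Ideal.mem_span_singleton']
      refine ⟨gB' b' * (ϖD ^ (e₂ - 1) * θiD), Subtype.ext ?_⟩
      show gB b' * (fV ϖ ^ (e₂ - 1) * θi) * fV ϖ = gB (b' * πB)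
      rw [map_mul, hπBϖ]
      ring
    have hVz : ∀ c ∈ maximalIdeal (W.comap (algebraMap K₁ M)),
        Ideal.Quotient.mk I (fV' c) = 0 := by
      intro c hc
      rw [hϖ.maximalIdeal_eq, Ideal.mem_span_singleton'] at hc
      obtain ⟨c', rfl⟩ := hc
      rw [Ideal.Quotient.eq_zero_iff_mem, Ideal.mem_span_singleton']
      refine ⟨fV' c', Subtype.ext ?_⟩
      show fV c' * fV ϖ = fV (c' * ϖ)
      rw [map_mul]
    let φ : ResidueField B →+* Subring.closure S₀ ⧸ I :=
      Ideal.Quotient.lift (maximalIdeal B) ((Ideal.Quotient.mk I).comp gB') hBz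
    let ψ : ResidueField (W.comap (algebraMap K₁ M)) →+* Subring.closure S₀ ⧸ I :=
      Ideal.Quotient.lift (maximalIdeal (W.comap (algebraMap K₁ M)))
        ((Ideal.Quotient.mk I).comp fV') hVz
    have hφ : ∀ b, φ (residue B b) = Ideal.Quotient.mk I (gB' b) := fun _ => rfl
    have hψ : ∀ c, ψ (residue _ c) = Ideal.Quotient.mk I (fV' c) := fun _ => rfl
    have hcompat : ∀ a : ResidueField A,
        φ (algebraMap (ResidueField A) (ResidueField B) a) =
          ψ (algebraMap (ResidueField A) (ResidueField (W.comap (algebraMap K₁ M))) a) := by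
      intro a
      obtain ⟨a, rfl⟩ := residue_surjective a
      rw [ResidueField.algebraMap_residue, ResidueField.algebraMap_residue, hφ, hψ]
      congr 1
      exact Subtype.ext (hcomp a)
    have hθS : (Ideal.Quotient.mk I θD) ^ e =
        φ (residue B uB) * ψ (residue _ (↑uV⁻¹ : (W.comap (algebraMap K₁ M)))) := by
      rw [hφ, hψ, ← map_pow, ← map_mul]
      congr 1
      exact Subtype.ext hθe
    have hcl : ∀ s : Subring.closure S₀ ⧸ I,
        s ∈ Subring.closure (Set.range φ ∪ Set.range ψ ∪ {Ideal.Quotient.mk I θD}) := by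
      intro s
      obtain ⟨d, rfl⟩ := Ideal.Quotient.mk_surjective s
      revert d
      apply closure_subtype_induction
      · intro x hx
        have hx' := hx
        rw [hS₀] at hx'
        rcases hx' with (⟨b, rfl⟩ | ⟨c, rfl⟩) | hx'
        · exact Subring.subset_closure (Or.inl (Or.inl ⟨residue B b, rfl⟩))
        · exact Subring.subset_closure (Or.inl (Or.inr ⟨residue _ c, rfl⟩))
        · rw [Set.mem_singleton_iff] at hx'
          subst hx'
          exact Subring.subset_closure (Or.inr rfl)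
      · rw [map_zero]; exact zero_mem _
      · rw [map_one]; exact one_mem _
      · intro a b ha hb; rw [map_add]; exact add_mem ha hb
      · intro a ha; rw [map_neg]; exact neg_mem ha
      · intro a b ha hb; rw [map_mul]; exact mul_mem ha hb
    have hne1 : residue B uB ≠ 0 := by
      rw [ne_eq, residue_eq_zero_iff]
      exact fun h => h uB.isUnit
    have hne2 : residue (W.comap (algebraMap K₁ M))
        (↑uV⁻¹ : (W.comap (algebraMap K₁ M))) ≠ 0 := by
      rw [ne_eq, residue_eq_zero_iff]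
      exact fun h => h uV⁻¹.isUnit
    intro d hd
    obtain ⟨y, hy⟩ := vnr_of_closure' φ ψ hcompat e hek (residue B uB) hne1
      (residue _ (↑uV⁻¹ : (W.comap (algebraMap K₁ M)))) hne2 (Ideal.Quotient.mk I θD) hθS hcl
      (Ideal.Quotient.mk I ⟨d, hd⟩)
    obtain ⟨⟨y, hyD⟩, rfl⟩ := Ideal.Quotient.mk_surjective y
    rw [← map_mul, ← map_mul, Ideal.Quotient.eq, Ideal.mem_span_singleton'] at hy
    obtain ⟨⟨z, hzD⟩, hz⟩ := hy
    have hz' : z * fV ϖ = d - d * d * y := congrArg Subtype.val hz
    exact ⟨y, hyD, z, hzD, by linear_combination (-1 : M) * hz'⟩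
  have hfrac : ∀ x : M, ∃ p ∈ Subring.closure S₀, ∃ q ∈ Subring.closure S₀, q ≠ 0 ∧ x * q = p := by
    intro x
    refine frac_of_adjoin (B := B) hadj (W.comap (algebraMap K₁ M)) (Subring.closure S₀) ?_ ?_ x
    · intro b
      have h := hBD b
      rwa [hgB] at h
    · intro c
      have h := hVD c
      rwa [hfVapp] at h
  haveI : FiniteDimensional L M := TotRam.finite_of_adjoin (K := K) hadj
  letI algBM : Algebra B M := gB.toAlgebra
  haveI : IsScalarTower B L M := IsScalarTower.of_algebraMap_eq' hgB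
  have halg : ∀ x : M, ∃ p : B[X], p ≠ 0 ∧ p.eval₂ gB x = 0 := by
    intro x
    have h1 : IsAlgebraic L x := Algebra.IsAlgebraic.isAlgebraic x
    have h2 : IsAlgebraic B x := (IsFractionRing.isAlgebraic_iff B L M).2 h1
    obtain ⟨p, hp0, hp⟩ := h2
    exact ⟨p, hp0, hp⟩
  have hy0 : algebraMap A (W.comap (algebraMap K₁ M)) πA ≠ 0 := by
    intro h
    apply hgπ0
    have := congrArg Subtype.val h
    exact this
  have hyπ : W.valuation (fV (algebraMap A (W.comap (algebraMap K₁ M)) πA)) ≤
      W.valuation (gB πB) := by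
    rw [← hcomp, ← hPdef, hPB, map_mul, val_unit W.valuation gB hB uB, one_mul, map_pow]
    exact pow_le_of_le_one zero_le' (hB πB) he0
  have harch : ∀ x : M, x ≠ 0 → ∃ n : ℕ, W.valuation (fV ϖ) ^ n < W.valuation x := fun x hx =>
    arch' W.valuation gB fV hB hV hVm halg πB hπB
      (algebraMap A (W.comap (algebraMap K₁ M)) πA) hy0 hyπ x hx ϖ hϖm
  have hwu := recog_wu W.valuation (Subring.closure S₀) (fV ϖ) hD (hVD ϖ) hvnr hϖ0 (hVm ϖ hϖm)
    hfrac harch
  have hres := recog_res W.valuation (Subring.closure S₀) (fV ϖ) hD (hVD ϖ) hvnr hϖ0 (hVm ϖ hϖm)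
    hfrac harch
  have hDW : ∀ d ∈ Subring.closure S₀, d ∈ W := fun d hd =>
    (W.valuation_le_one_iff _).1 (hD d hd)
  constructor
  · rw [DomVal.wu_iff]
    intro x hx
    obtain ⟨w, hw1, rfl⟩ := hwu x ((ValuationSubring.mem_nonunits_iff W).1 hx)
    exact ⟨(ϖ : K₁), (DomVal.mem_maximalIdeal_comap_iff W _ ϖ).1 hϖm, w,
      (W.valuation_le_one_iff _).1 hw1, by rw [hfVapp]⟩
  · unfold DomVal.GR
    letI algres : Algebra (ResidueField (W.comap (algebraMap K₁ M))) (ResidueField W) :=
      (ResidueField.map (EtRam.inclOfComap W (algebraMap K₁ M))).toAlgebra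
    haveI hlocBW : IsLocalHom (RingHom.codRestrict gB W hW.1) :=
      DomVal.isLocalHom_codRestrict gB W hW
    have hθW : θ ∈ W := hDW θ hθD
    have hθbar : (residue W ⟨θ, hθW⟩) ^ e =
        ResidueField.map (RingHom.codRestrict gB W hW.1) (residue B uB) *
          algebraMap (ResidueField (W.comap (algebraMap K₁ M))) (ResidueField W)
            (residue _ (↑uV⁻¹ : (W.comap (algebraMap K₁ M)))) := by
      rw [ResidueField.map_residue]
      show _ = _ * ResidueField.map (EtRam.inclOfComap W (algebraMap K₁ M)) (residue _ _)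
      rw [ResidueField.map_residue, ← map_pow, ← map_mul]
      congr 1
      refine Subtype.ext ?_
      show θ ^ e = gB uB * algebraMap K₁ M _
      rw [hθe, hfVapp]
    have hne1 : residue B uB ≠ 0 := by
      rw [ne_eq, residue_eq_zero_iff]
      exact fun h => h uB.isUnit
    have hne2 : residue (W.comap (algebraMap K₁ M))
        (↑uV⁻¹ : (W.comap (algebraMap K₁ M))) ≠ 0 := by
      rw [ne_eq, residue_eq_zero_iff]
      exact fun h => h uV⁻¹.isUnit
    refine isGeometricallyReduced_of_closure' (k := ResidueField A)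
      (k₁ := ResidueField (W.comap (algebraMap K₁ M))) (F := ResidueField B)
      (ResidueField.map (RingHom.codRestrict gB W hW.1)) ?_ e hek (residue B uB) hne1
      (residue _ (↑uV⁻¹ : (W.comap (algebraMap K₁ M)))) hne2 (residue W ⟨θ, hθW⟩) hθbar ?_
    · intro a
      obtain ⟨a, rfl⟩ := residue_surjective a
      rw [ResidueField.algebraMap_residue, ResidueField.map_residue,
        ResidueField.algebraMap_residue]
      show _ = ResidueField.map (EtRam.inclOfComap W (algebraMap K₁ M)) (residue _ _)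
      rw [ResidueField.map_residue]
      congr 1
      refine Subtype.ext ?_
      show gB (algebraMap A B a) = algebraMap K₁ M _
      rw [hcomp a, hfVapp]
    · intro wbar
      obtain ⟨w, rfl⟩ := residue_surjective wbar
      obtain ⟨d, hd, hdw⟩ := hres (w : M) (W.valuation_le_one w)
      have hcl : ∀ d' : Subring.closure S₀, residue W ⟨d'.1, hDW d'.1 d'.2⟩ ∈ Subring.closure
          (Set.range (ResidueField.map (RingHom.codRestrict gB W hW.1)) ∪
            Set.range (algebraMap (ResidueField (W.comap (algebraMap K₁ M)))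
              (ResidueField W)) ∪ {residue W ⟨θ, hθW⟩}) := by
        apply closure_subtype_induction
        · intro x hx
          have hx' := hx
          rw [hS₀] at hx'
          rcases hx' with (⟨b, rfl⟩ | ⟨c, rfl⟩) | hx'
          · exact Subring.subset_closure
              (Or.inl (Or.inl ⟨residue B b, ResidueField.map_residue _ _⟩))
          · refine Subring.subset_closure (Or.inl (Or.inr ⟨residue _ c, ?_⟩))
            show ResidueField.map (EtRam.inclOfComap W (algebraMap K₁ M)) (residue _ c) = _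
            rw [ResidueField.map_residue]
            congr 1
            exact Subtype.ext (hfVapp c).symm
          · rw [Set.mem_singleton_iff] at hx'
            subst hx'
            exact Subring.subset_closure (Or.inr rfl)
        · have e0 : (⟨(0 : Subring.closure S₀).1, hDW _ (0 : Subring.closure S₀).2⟩ : W) = 0 := rfl
          rw [e0, map_zero]
          exact zero_mem _
        · have e1 : (⟨(1 : Subring.closure S₀).1, hDW _ (1 : Subring.closure S₀).2⟩ : W) = 1 := rfl
          rw [e1, map_one]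
          exact one_mem _
        · intro a b ha hb
          have e2 : (⟨(a + b).1, hDW _ (a + b).2⟩ : W) =
              ⟨a.1, hDW _ a.2⟩ + ⟨b.1, hDW _ b.2⟩ := rfl
          rw [e2, map_add]
          exact add_mem ha hb
        · intro a ha
          have e3 : (⟨(-a).1, hDW _ (-a).2⟩ : W) = -⟨a.1, hDW _ a.2⟩ := rfl
          rw [e3, map_neg]
          exact neg_mem ha
        · intro a b ha hb
          have e4 : (⟨(a * b).1, hDW _ (a * b).2⟩ : W) =
              ⟨a.1, hDW _ a.2⟩ * ⟨b.1, hDW _ b.2⟩ := rfl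
          rw [e4, map_mul]
          exact mul_mem ha hb
      have e : residue W w = residue W ⟨d, hDW d hd⟩ := by
        rw [← sub_eq_zero, ← map_sub, residue_eq_zero_iff, ValuationSubring.valuation_lt_one_iff]
        exact hdw
      rw [e]
      exact hcl ⟨d, hd⟩

end Main

end Groth.Agent.Helper8.Ep
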