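import Mathlib
import Groth.Prelude.Def_EtRam
import Groth.Agent.Helper7.DomValD

/-!
# EpsA: Gauss formula for a best approximation of a `p`-th root, and the approximation lemma

`E` is a field of characteristic `p` with a valuation subring `W`, `f : F → E` a field map,
`y ∈ E` with `y ^ p ∈ f(F)` such that `0` is a best approximation of `y` from `f(F)`.
Then `v(∑_{j<p} f(a_j) y^j) = max_j v(f(a_j) y^j)` and the same sums with `y` replaced by
`y + θ`, `v(θ) < v(y)`, are close to them.
-/

set_option autoImplicit false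
set_option linter.unusedSectionVars false
universe u

namespace Groth.Agent.Helper8.Eps

open Polynomial IsLocalRing Groth.Agent.Helper7

section Gauss

variable {F E : Type u} [Field F] [Field E] (p : ℕ) [hp : Fact p.Prime] [CharP E p]
  (W : ValuationSubring E) (f : F →+* E)

/-- Case A: the value of `y` is not the value of an element of `F`; distinct monomials have
distinct values. -/
theorem caseA_ne (y : E) (hy0 : y ≠ 0) (g' : F) (hg' : f g' = y ^ p)
    (hA : ∀ δ : F, W.valuation (f δ) ≠ W.valuation y)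
    (a : ℕ → F) (i k : ℕ) (hjp : i + (k + 1) < p) (hai : a i ≠ 0) (haj : a (i + (k + 1)) ≠ 0) :
    W.valuation (f (a i) * y ^ i) ≠ W.valuation (f (a (i + (k + 1))) * y ^ (i + (k + 1))) := by
  intro heq
  obtain ⟨r, hr⟩ : ∃ r, r = W.valuation y := ⟨_, rfl⟩
  have hr0 : r ≠ 0 := by rw [hr]; exact (_root_.map_ne_zero _).2 hy0
  have hfj0 : f (a (i + (k + 1))) ≠ 0 := (_root_.map_ne_zero f).2 haj
  have hvj0 : W.valuation (f (a (i + (k + 1)))) ≠ 0 := (_root_.map_ne_zero _).2 hfj0
  have hk : r ^ (k + 1) = W.valuation (f (a i / a (i + (k + 1)))) := by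
    rw [map_mul, map_mul, map_pow, map_pow, ← hr, pow_add] at heq
    rw [map_div₀, map_div₀, eq_div_iff hvj0]
    have hri : r ^ i ≠ 0 := pow_ne_zero _ hr0
    have h2 : W.valuation (f (a i)) * r ^ i =
        (r ^ (k + 1) * W.valuation (f (a (i + (k + 1))))) * r ^ i := by
      rw [heq]; ac_rfl
    exact (mul_right_cancel₀ hri h2).symm
  have hcop : Nat.Coprime (k + 1) p := by
    apply Nat.Coprime.symm
    rw [Nat.Prime.coprime_iff_not_dvd hp.out]
    exact Nat.not_dvd_of_pos_of_lt (Nat.succ_pos k) (by omega)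
  obtain ⟨s, t, hst⟩ := (Nat.isCoprime_iff_coprime.2 hcop)
  have hrp : r ^ p = W.valuation (f g') := by rw [hg', map_pow, hr]
  have h1 : r = W.valuation (f ((a i / a (i + (k + 1))) ^ s * g' ^ t)) := by
    rw [map_mul, map_mul, map_zpow₀, map_zpow₀, map_zpow₀, map_zpow₀, ← hk, ← hrp]
    rw [← zpow_natCast r (k + 1), ← zpow_natCast r p, ← zpow_mul, ← zpow_mul, ← zpow_add₀ hr0]
    have : ((k + 1 : ℕ) : ℤ) * s + (p : ℤ) * t = 1 := by rw [← hst]; ring
    rw [this, zpow_one]
  exact hA _ (by rw [← h1, hr])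

theorem gaussA (y : E) (hy0 : y ≠ 0) (g' : F) (hg' : f g' = y ^ p)
    (hA : ∀ δ : F, W.valuation (f δ) ≠ W.valuation y)
    (a : ℕ → F) (j : ℕ) (hj : j < p) :
    W.valuation (f (a j) * y ^ j) ≤ W.valuation (∑ i ∈ Finset.range p, f (a i) * y ^ i) := by
  classical
  have hp0 : 0 < p := hp.out.pos
  obtain ⟨j₁, hj₁, hmax⟩ := Finset.exists_max_image (Finset.range p)
    (fun i => W.valuation (f (a i) * y ^ i)) ⟨0, Finset.mem_range.2 hp0⟩
  by_cases h0 : W.valuation (f (a j₁) * y ^ j₁) = 0
  · have := hmax j (Finset.mem_range.2 hj)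
    rw [h0] at this
    exact this.trans zero_le
  · have haj₁ : a j₁ ≠ 0 := by
      rintro h
      apply h0
      rw [h, map_zero, zero_mul, map_zero]
    have hlt : ∀ i ∈ Finset.range p \ {j₁},
        W.valuation (f (a i) * y ^ i) < W.valuation (f (a j₁) * y ^ j₁) := by
      intro i hi
      rw [Finset.mem_sdiff, Finset.mem_singleton] at hi
      obtain ⟨hi1, hi2⟩ := hi
      by_cases hai : a i = 0
      · rw [hai, map_zero, zero_mul, map_zero]
        exact lt_of_le_of_ne zero_le (Ne.symm h0)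
      · refine lt_of_le_of_ne (hmax i hi1) ?_
        rcases lt_or_gt_of_ne hi2 with hlt | hgt
        · obtain ⟨k, rfl⟩ := Nat.exists_eq_add_of_lt hlt
          exact caseA_ne p W f y hy0 g' hg' hA a i k (Finset.mem_range.1 hj₁) hai haj₁
        · obtain ⟨k, rfl⟩ := Nat.exists_eq_add_of_lt hgt
          exact (caseA_ne p W f y hy0 g' hg' hA a j₁ k (Finset.mem_range.1 hi1) haj₁ hai).symm
    rw [Valuation.map_sum_eq_of_lt _ hj₁ hlt]
    exact hmax j (Finset.mem_range.2 hj)

/-- Case B: the value of `y` is the value of `f δ`; residue argument. -/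
theorem gaussB (y : E) (hy0 : y ≠ 0) (g' : F) (hg' : f g' = y ^ p)
    (hbest : ∀ e : F, W.valuation y ≤ W.valuation (y - f e))
    (δ : F) (hδ : W.valuation (f δ) = W.valuation y)
    (a : ℕ → F) (j : ℕ) (hj : j < p) :
    W.valuation (f (a j) * y ^ j) ≤ W.valuation (∑ i ∈ Finset.range p, f (a i) * y ^ i) := by
  classical
  have hp0 : 0 < p := hp.out.pos
  obtain ⟨r, hr⟩ : ∃ r, r = W.valuation y := ⟨_, rfl⟩
  have hr0 : r ≠ 0 := by rw [hr]; exact (_root_.map_ne_zero _).2 hy0
  have hrpos : 0 < r := lt_of_le_of_ne zero_le (Ne.symm hr0)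
  have hfδ0 : f δ ≠ 0 := by
    intro h
    rw [h, map_zero] at hδ
    exact hr0 (by rw [hr, ← hδ])
  have hδ0 : δ ≠ 0 := fun h => hfδ0 (by rw [h, map_zero])
  obtain ⟨η, hη⟩ : ∃ η, η = y / f δ := ⟨_, rfl⟩
  have hyη : y = f δ * η := by rw [hη]; field_simp
  have hηv : W.valuation η = 1 := by
    rw [hη, map_div₀, hδ, div_self]
    rw [← hr]; exact hr0
  obtain ⟨u, hu⟩ : ∃ u, u = g' / δ ^ p := ⟨_, rfl⟩
  have hfu : f u = η ^ p := by
    rw [hu, map_div₀, map_pow, hg', hη, div_pow]
  have hηbest : ∀ e : F, 1 ≤ W.valuation (η - f e) := by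
    intro e
    by_contra hlt
    push Not at hlt
    have h1 := hbest (δ * e)
    have h2 : y - f (δ * e) = f δ * (η - f e) := by rw [map_mul, hyη]; ring
    rw [h2, map_mul, hδ, ← hr] at h1
    have h3 : r * W.valuation (η - f e) < r * 1 := mul_lt_mul_of_pos_left hlt hrpos
    rw [mul_one] at h3
    exact absurd h1 (not_le.2 h3)
  -- residue fields
  letI algVW : Algebra (W.comap f) W := (EtRam.inclOfComap W f).toAlgebra
  haveI : IsLocalHom (algebraMap (W.comap f) W) := EtRam.isLocalHom_inclOfComap W f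
  have huW : f u ∈ W := by
    rw [← W.valuation_le_one_iff, hfu, map_pow, hηv, one_pow]
  have huV : u ∈ W.comap f := huW
  have hηW : η ∈ W := by rw [← W.valuation_le_one_iff, hηv]
  have key : (⟨η, hηW⟩ : W) ^ p = algebraMap (W.comap f) W ⟨u, huV⟩ := by
    apply Subtype.ext
    show η ^ p = f u
    rw [hfu]
  obtain ⟨ubar, hubar⟩ : ∃ ub, ub = residue (W.comap f) ⟨u, huV⟩ := ⟨_, rfl⟩
  obtain ⟨ηbar, hηbar⟩ : ∃ eb, eb = residue W ⟨η, hηW⟩ := ⟨_, rfl⟩
  have h1 : ηbar ^ p = algebraMap (ResidueField (W.comap f)) (ResidueField W) ubar := by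
    rw [hηbar, hubar, ← map_pow, key]
    rfl
  have h2 : ∀ eb : ResidueField (W.comap f), eb ^ p ≠ ubar := by
    intro eb heb
    obtain ⟨e, rfl⟩ := residue_surjective eb
    rw [hubar, ← map_pow, ← sub_eq_zero, ← map_sub, residue_eq_zero_iff,
      DomVal.mem_maximalIdeal_comap_iff, W.mem_nonunits_iff] at heb
    have h3 : f ((e ^ p - ⟨u, huV⟩ : W.comap f) : F) = (f (e : F) - η) ^ p := by
      rw [sub_pow_expChar, ← hfu]
      simp
    rw [h3, map_pow] at heb
    have h4 : W.valuation (f (e : F) - η) < 1 := by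
      by_contra hge
      push Not at hge
      exact absurd heb (not_lt.2 (one_le_pow₀ hge))
    have h5 := hηbest (e : F)
    rw [← Valuation.map_sub_swap] at h4
    exact absurd h5 (not_le.2 h4)
  have hirr : Irreducible (X ^ p - C ubar : (ResidueField (W.comap f))[X]) :=
    X_pow_sub_C_irreducible_of_prime hp.out h2
  have hroot : aeval ηbar (X ^ p - C ubar : (ResidueField (W.comap f))[X]) = 0 := by
    rw [map_sub, map_pow, aeval_X, aeval_C, h1, sub_self]
  have hmonic : (X ^ p - C ubar : (ResidueField (W.comap f))[X]).Monic :=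
    monic_X_pow_sub_C _ hp.out.ne_zero
  have hmin := minpoly.eq_of_irreducible_of_monic hirr hroot hmonic
  have hli : LinearIndependent (ResidueField (W.comap f)) (fun i : Fin p => ηbar ^ (i : ℕ)) := by
    have := linearIndependent_pow (K := ResidueField (W.comap f)) ηbar
    rw [← hmin, natDegree_X_pow_sub_C] at this
    exact this
  -- the main computation
  obtain ⟨b, hb⟩ : ∃ b : ℕ → F, b = fun i => a i * δ ^ i := ⟨_, rfl⟩
  have hT : ∀ i, f (a i) * y ^ i = f (b i) * η ^ i := by
    intro i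
    rw [hb, hyη]
    simp only [map_mul, map_pow]
    ring
  obtain ⟨j₁, hj₁, hmax⟩ := Finset.exists_max_image (Finset.range p)
    (fun i => W.valuation (f (b i))) ⟨0, Finset.mem_range.2 hp0⟩
  have hTv : ∀ i, W.valuation (f (a i) * y ^ i) = W.valuation (f (b i)) := by
    intro i
    rw [hT, map_mul, map_pow, hηv, one_pow, mul_one]
  by_cases h0 : W.valuation (f (b j₁)) = 0
  · have := hmax j (Finset.mem_range.2 hj)
    rw [h0] at this
    rw [hTv]
    exact this.trans zero_le
  · have hbj₁ : f (b j₁) ≠ 0 := fun h => h0 (by rw [h, map_zero])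
    have hbj₁' : b j₁ ≠ 0 := fun h => hbj₁ (by rw [h, map_zero])
    obtain ⟨b', hb'⟩ : ∃ b' : ℕ → F, b' = fun i => b i / b j₁ := ⟨_, rfl⟩
    have hb'W : ∀ i ∈ Finset.range p, f (b' i) ∈ W := by
      intro i hi
      rw [← W.valuation_le_one_iff, hb', map_div₀, map_div₀]
      exact (div_le_one₀ (lt_of_le_of_ne zero_le (Ne.symm h0))).2 (hmax i hi)
    let bV : ℕ → W.comap f := fun i => if h : f (b' i) ∈ W then ⟨b' i, h⟩ else 0
    have hbV : ∀ i ∈ Finset.range p, ((bV i : W.comap f) : F) = b' i := by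
      intro i hi
      simp only [bV, dif_pos (hb'W i hi)]
    let S' : W := ∑ i ∈ Finset.range p, algebraMap (W.comap f) W (bV i) * (⟨η, hηW⟩ : W) ^ i
    have hS'coe : ((S' : W) : E) = ∑ i ∈ Finset.range p, f (b' i) * η ^ i := by
      show W.subtype S' = _
      rw [map_sum]
      apply Finset.sum_congr rfl
      intro i hi
      rw [map_mul, map_pow]
      show f ((bV i : W.comap f) : F) * η ^ i = _
      rw [hbV i hi]
    have hsum : ∑ i ∈ Finset.range p, f (a i) * y ^ i = f (b j₁) * ((S' : W) : E) := by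
      rw [hS'coe, Finset.mul_sum]
      apply Finset.sum_congr rfl
      intro i _
      rw [hT, hb', map_div₀]
      field_simp
    have hS'unit : IsUnit S' := by
      by_contra hnu
      have hres : residue W S' = 0 := (residue_eq_zero_iff _).2 hnu
      have hres2 : residue W S' = ∑ i : Fin p, (residue (W.comap f) (bV (i : ℕ))) • ηbar ^ (i : ℕ) := by
        rw [Fin.sum_univ_eq_sum_range (fun i => (residue (W.comap f) (bV i)) • ηbar ^ i) p]
        show residue W (∑ i ∈ Finset.range p, _) = _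
        rw [map_sum]
        apply Finset.sum_congr rfl
        intro i _
        rw [map_mul, map_pow, ← hηbar, Algebra.smul_def]
        rfl
      rw [hres2] at hres
      have hz := Fintype.linearIndependent_iff.1 hli _ hres ⟨j₁, Finset.mem_range.1 hj₁⟩
      have hone : bV j₁ = 1 := by
        apply Subtype.ext
        rw [hbV j₁ hj₁, hb']
        show b j₁ / b j₁ = 1
        exact div_self hbj₁'
      simp only [hone, map_one] at hz
      exact one_ne_zero hz
    have hS'v : W.valuation ((S' : W) : E) = 1 := (W.valuation_eq_one_iff S').1 hS'unit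
    rw [hsum, hTv, map_mul, hS'v, mul_one]
    exact hmax j (Finset.mem_range.2 hj)

/-- **Gauss formula**: if `0` is a best approximation of `y` from `f(F)` and `y ^ p ∈ f(F)`, the
value of `∑_{i<p} f(a_i) y^i` is at least the value of each monomial. -/
theorem gauss (y : E) (hy0 : y ≠ 0) (g' : F) (hg' : f g' = y ^ p)
    (hbest : ∀ e : F, W.valuation y ≤ W.valuation (y - f e))
    (a : ℕ → F) (j : ℕ) (hj : j < p) :
    W.valuation (f (a j) * y ^ j) ≤ W.valuation (∑ i ∈ Finset.range p, f (a i) * y ^ i) := by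
  by_cases h : ∃ δ : F, W.valuation (f δ) = W.valuation y
  · obtain ⟨δ, hδ⟩ := h
    exact gaussB p W f y hy0 g' hg' hbest δ hδ a j hj
  · push Not at h
    exact gaussA p W f y hy0 g' hg' h a j hj

theorem val_pow_sub_pow_le (y θ : E) (hθ : W.valuation θ < W.valuation y) (i : ℕ) :
    W.valuation ((y + θ) ^ (i + 1) - y ^ (i + 1)) ≤ W.valuation θ * W.valuation y ^ i := by
  have hv : W.valuation (y + θ) = W.valuation y := Valuation.map_add_eq_of_lt_left _ hθ
  have h1 : (y + θ) ^ (i + 1) - y ^ (i + 1) =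
      (∑ k ∈ Finset.range (i + 1), (y + θ) ^ k * y ^ (i + 1 - 1 - k)) * θ := by
    have := geom_sum₂_mul (y + θ) y (i + 1)
    rw [← this]
    ring
  rw [h1, map_mul, mul_comm]
  apply mul_le_mul_right
  apply Valuation.map_sum_le
  intro k hk
  rw [Finset.mem_range] at hk
  rw [map_mul, map_pow, map_pow, hv, ← pow_add]
  have : k + (i + 1 - 1 - k) = i := by omega
  rw [this]

/-- **Approximation lemma.** -/
theorem approx (y θ : E) (hy0 : y ≠ 0) (g' : F) (hg' : f g' = y ^ p)
    (hbest : ∀ e : F, W.valuation y ≤ W.valuation (y - f e))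
    (hθ : W.valuation θ < W.valuation y) (a : ℕ → F) (hne : ∃ j < p, a j ≠ 0) :
    W.valuation (∑ i ∈ Finset.range p, f (a i) * (y + θ) ^ i -
        ∑ i ∈ Finset.range p, f (a i) * y ^ i) <
      W.valuation (∑ i ∈ Finset.range p, f (a i) * y ^ i) := by
  classical
  obtain ⟨j, hj, haj⟩ := hne
  have hr0 : W.valuation y ≠ 0 := (_root_.map_ne_zero _).2 hy0
  have hrpos : 0 < W.valuation y := lt_of_le_of_ne zero_le (Ne.symm hr0)
  have hS0 : W.valuation (∑ i ∈ Finset.range p, f (a i) * y ^ i) ≠ 0 := by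
    intro h
    have := gauss p W f y hy0 g' hg' hbest a j hj
    rw [h] at this
    have h2 : W.valuation (f (a j) * y ^ j) = 0 := le_antisymm this zero_le
    rw [map_eq_zero] at h2
    rcases mul_eq_zero.1 h2 with h3 | h3
    · exact haj ((map_eq_zero f).1 h3)
    · exact hy0 (pow_eq_zero_iff (n := j) (by
        rintro rfl
        simp at h3) |>.1 h3)
  rw [← Finset.sum_sub_distrib]
  apply Valuation.map_sum_lt _ hS0
  intro i hi
  rw [Finset.mem_range] at hi
  rw [← mul_sub, map_mul]
  rcases Nat.eq_zero_or_pos i with rfl | hipos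
  · rw [pow_zero, pow_zero, sub_self, map_zero, mul_zero]
    exact lt_of_le_of_ne zero_le (Ne.symm hS0)
  · obtain ⟨i', rfl⟩ := Nat.exists_eq_succ_of_ne_zero hipos.ne'
    by_cases hai : a (i' + 1) = 0
    · rw [hai, map_zero, map_zero, zero_mul]
      exact lt_of_le_of_ne zero_le (Ne.symm hS0)
    · have hvai : 0 < W.valuation (f (a (i' + 1))) :=
        lt_of_le_of_ne zero_le (Ne.symm ((_root_.map_ne_zero _).2 ((_root_.map_ne_zero f).2 hai)))
      have h1 := val_pow_sub_pow_le W y θ hθ i'
      have h2 : W.valuation θ * W.valuation y ^ i' < W.valuation y ^ (i' + 1) := by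
        rw [pow_succ, mul_comm]
        exact mul_lt_mul_of_pos_left hθ (pow_pos hrpos i')
      have h3 : W.valuation (f (a (i' + 1))) * W.valuation ((y + θ) ^ (i' + 1) - y ^ (i' + 1)) <
          W.valuation (f (a (i' + 1))) * W.valuation y ^ (i' + 1) :=
        mul_lt_mul_of_pos_left (lt_of_le_of_lt h1 h2) hvai
      refine lt_of_lt_of_le h3 ?_
      have := gauss p W f y hy0 g' hg' hbest a (i' + 1) hi
      rwa [map_mul, map_pow] at this

end Gauss

end Groth.Agent.Helper8.Eps
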