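import Mathlib
import Groth.Prelude.Def_EtRam
import Groth.Agent.Helper7.DomValD
import Groth.Agent.Helper8.EpA

/-!
# EpsB: transfer of weak unramifiedness and of geometric reducedness of residue extensions
between two pairs of subfields of a valued field which approximate each other
-/

set_option autoImplicit false
set_option linter.unusedSectionVars false
universe u

namespace Groth.Agent.Helper8.Eps

open IsLocalRing Groth.Agent.Helper7

/-- every nonzero element of the image of `m` is approximated (relative to its own value) by an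
element of the image of `m'` -/
def Apx {E M M' : Type u} [Field E] [Field M] [Field M'] (W : ValuationSubring E)
    (m : M →+* E) (m' : M' →+* E) : Prop :=
  ∀ z : M, m z ≠ 0 → ∃ z' : M', W.valuation (m z - m' z') < W.valuation (m z)

section Abstract

theorem gr_of_ranges {k₂ l₂ k₃ l₃ κ : Type u} [Field k₂] [Field l₂] [Field k₃] [Field l₃]
    [Field κ] [Algebra k₂ l₂] [Algebra k₃ l₃] (ι₂ : l₂ →+* κ) (ι₃ : l₃ →+* κ)
    (hl : ∀ x : l₃, ∃ y : l₂, ι₂ y = ι₃ x)
    (hl' : ∀ y : l₂, ∃ x : l₃, ι₃ x = ι₂ y)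
    (hk : ∀ a : k₂, ∃ a' : k₃, ι₃ (algebraMap k₃ l₃ a') = ι₂ (algebraMap k₂ l₂ a))
    (hk' : ∀ a' : k₃, ∃ a : k₂, ι₂ (algebraMap k₂ l₂ a) = ι₃ (algebraMap k₃ l₃ a'))
    [Algebra.IsGeometricallyReduced k₂ l₂] : Algebra.IsGeometricallyReduced k₃ l₃ := by
  classical
  have hι₃ : Function.Injective ι₃ := ι₃.injective
  have hι₃k : Function.Injective (fun a' : k₃ => ι₃ (algebraMap k₃ l₃ a')) :=
    hι₃.comp (algebraMap k₃ l₃).injective
  let j : l₂ →+* l₃ :=
    { toFun := fun y => (hl' y).choose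
      map_one' := hι₃ (by rw [(hl' 1).choose_spec, map_one, map_one])
      map_mul' := fun x y => hι₃ (by
        rw [(hl' (x * y)).choose_spec, map_mul, map_mul, (hl' x).choose_spec,
          (hl' y).choose_spec])
      map_zero' := hι₃ (by rw [(hl' 0).choose_spec, map_zero, map_zero])
      map_add' := fun x y => hι₃ (by
        rw [(hl' (x + y)).choose_spec, map_add, map_add, (hl' x).choose_spec,
          (hl' y).choose_spec]) }
  have hj : ∀ y : l₂, ι₃ (j y) = ι₂ y := fun y => (hl' y).choose_spec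
  let τ : k₂ →+* k₃ :=
    { toFun := fun a => (hk a).choose
      map_one' := hι₃k (by
        show ι₃ (algebraMap k₃ l₃ (hk 1).choose) = ι₃ (algebraMap k₃ l₃ 1)
        rw [(hk 1).choose_spec, map_one, map_one, map_one, map_one])
      map_mul' := fun x y => hι₃k (by
        show ι₃ (algebraMap k₃ l₃ (hk (x * y)).choose) =
          ι₃ (algebraMap k₃ l₃ ((hk x).choose * (hk y).choose))
        rw [(hk (x * y)).choose_spec, map_mul, map_mul, map_mul, map_mul, (hk x).choose_spec,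
          (hk y).choose_spec])
      map_zero' := hι₃k (by
        show ι₃ (algebraMap k₃ l₃ (hk 0).choose) = ι₃ (algebraMap k₃ l₃ 0)
        rw [(hk 0).choose_spec, map_zero, map_zero, map_zero, map_zero])
      map_add' := fun x y => hι₃k (by
        show ι₃ (algebraMap k₃ l₃ (hk (x + y)).choose) =
          ι₃ (algebraMap k₃ l₃ ((hk x).choose + (hk y).choose))
        rw [(hk (x + y)).choose_spec, map_add, map_add, map_add, map_add, (hk x).choose_spec,
          (hk y).choose_spec]) }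
  have hτ : ∀ a : k₂, ι₃ (algebraMap k₃ l₃ (τ a)) = ι₂ (algebraMap k₂ l₂ a) :=
    fun a => (hk a).choose_spec
  letI algτ : Algebra k₂ k₃ := τ.toAlgebra
  have hτsurj : Function.Surjective τ := by
    intro a'
    obtain ⟨a, ha⟩ := hk' a'
    refine ⟨a, hι₃k ?_⟩
    show ι₃ (algebraMap k₃ l₃ (τ a)) = ι₃ (algebraMap k₃ l₃ a')
    rw [hτ, ha]
  haveI : Algebra.IsAlgebraic k₂ k₃ := by
    constructor
    intro x
    obtain ⟨a, rfl⟩ := hτsurj x
    exact isAlgebraic_algebraMap a
  apply Groth.Agent.Helper8.Ep.isGeometricallyReduced_of_closure (k := k₂) (k₁ := k₃) (F := l₂)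
    (F₁ := l₃) j
  · intro a
    apply hι₃
    rw [hj]
    show ι₂ (algebraMap k₂ l₂ a) = ι₃ (algebraMap k₃ l₃ (τ a))
    rw [hτ]
  · intro w
    obtain ⟨y, hy⟩ := hl w
    have : j y = w := hι₃ (by rw [hj, hy])
    exact Subring.subset_closure (Or.inl ⟨y, this⟩)

end Abstract

section Transfer

variable {E K₂ K₃ M₂ M₃ : Type u} [Field E] [Field K₂] [Field K₃] [Field M₂] [Field M₃]
  (W : ValuationSubring E) (k₂ : K₂ →+* M₂) (m₂ : M₂ →+* E) (k₃ : K₃ →+* M₃) (m₃ : M₃ →+* E)

theorem apx_val_eq {M M' : Type u} [Field M] [Field M'] (m : M →+* E) (m' : M' →+* E) (z : M)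
    (z' : M') (h : W.valuation (m z - m' z') < W.valuation (m z)) :
    W.valuation (m' z') = W.valuation (m z) := by
  apply Valuation.map_eq_of_sub_lt
  rwa [Valuation.map_sub_swap]

theorem wu_transfer (hM32 : Apx W m₃ m₂) (hK23 : Apx W (m₂.comp k₂) (m₃.comp k₃))
    (h : DomVal.WU' (W.comap m₂) k₂) : DomVal.WU' (W.comap m₃) k₃ := by
  intro x hx
  rw [ValuationSubring.mem_nonunits_iff, DomVal.valuation_comap_lt_one_iff] at hx
  by_cases hx0 : m₃ x = 0
  · have hx0' : x = 0 := (map_eq_zero m₃).1 hx0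
    refine ⟨0, ?_, 0, zero_mem _, ?_⟩
    · rw [map_zero, ValuationSubring.mem_nonunits_iff, map_zero]; exact zero_lt_one
    · rw [hx0', map_zero, zero_mul]
  · obtain ⟨z₂, hz₂⟩ := hM32 x hx0
    have hv2 := apx_val_eq W m₃ m₂ x z₂ hz₂
    have hz₂nu : z₂ ∈ (W.comap m₂).nonunits := by
      rw [ValuationSubring.mem_nonunits_iff, DomVal.valuation_comap_lt_one_iff, hv2]
      exact hx
    obtain ⟨a₂, ha₂, w, hw, hzw⟩ := h z₂ hz₂nu
    rw [ValuationSubring.mem_nonunits_iff, DomVal.valuation_comap_lt_one_iff] at ha₂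
    have hm₂z₂ : m₂ z₂ ≠ 0 := by
      intro h0
      rw [h0, map_zero] at hv2
      exact hx0 ((map_eq_zero _).1 hv2.symm)
    have hka₂ : m₂ (k₂ a₂) ≠ 0 := by
      intro h0
      apply hm₂z₂
      rw [hzw, map_mul, h0, zero_mul]
    obtain ⟨a₃, ha₃⟩ := hK23 a₂ hka₂
    have hv3 := apx_val_eq W (m₂.comp k₂) (m₃.comp k₃) a₂ a₃ ha₃
    simp only [RingHom.comp_apply] at hv3
    have hka₃ : m₃ (k₃ a₃) ≠ 0 := by
      intro h0
      rw [h0, map_zero] at hv3
      exact hka₂ ((map_eq_zero _).1 hv3.symm)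
    have hk₃a₃ : k₃ a₃ ≠ 0 := fun h0 => hka₃ (by rw [h0, map_zero])
    refine ⟨a₃, ?_, x / k₃ a₃, ?_, by field_simp⟩
    · rw [ValuationSubring.mem_nonunits_iff, DomVal.valuation_comap_lt_one_iff, hv3]
      exact ha₂
    · rw [ValuationSubring.mem_comap, ← W.valuation_le_one_iff, map_div₀, map_div₀, hv3, ← hv2,
        hzw, map_mul, map_mul]
      have hw' : W.valuation (m₂ w) ≤ 1 := (W.valuation_le_one_iff _).2 hw
      have hne : W.valuation (m₂ (k₂ a₂)) ≠ 0 := (_root_.map_ne_zero _).2 hka₂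
      have e : W.valuation (m₂ (k₂ a₂)) * W.valuation (m₂ w) / W.valuation (m₂ (k₂ a₂)) =
          W.valuation (m₂ w) := by
        rw [mul_comm, mul_div_assoc, div_self hne, mul_one]
      rw [e]
      exact hw'

/-- the image of the residue field of `W ∩ M` in the residue field of `W` -/
theorem range_resMap {M : Type u} [Field M] (m : M →+* E) (x : ResidueField W) :
    (∃ y : ResidueField (W.comap m), ResidueField.map (EtRam.inclOfComap W m) y = x) ↔
      ∃ (z : M) (h : m z ∈ W), residue W ⟨m z, h⟩ = x := by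
  constructor
  · rintro ⟨y, rfl⟩
    obtain ⟨z, rfl⟩ := residue_surjective y
    exact ⟨(z : M), z.2, rfl⟩
  · rintro ⟨z, h, rfl⟩
    exact ⟨residue _ ⟨z, h⟩, rfl⟩

theorem res_eq_of_apx {M M' : Type u} [Field M] [Field M'] (m : M →+* E) (m' : M' →+* E)
    (hapx : Apx W m m') (z : M) (h : m z ∈ W) :
    ∃ (z' : M') (h' : m' z' ∈ W), residue W ⟨m' z', h'⟩ = residue W ⟨m z, h⟩ := by
  by_cases hz : m z = 0
  · refine ⟨0, by rw [map_zero]; exact zero_mem _, ?_⟩
    congr 1
    apply Subtype.ext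
    show m' 0 = m z
    rw [hz, map_zero]
  · obtain ⟨z', hz'⟩ := hapx z hz
    have hv := apx_val_eq W m m' z z' hz'
    have hle : W.valuation (m z) ≤ 1 := (W.valuation_le_one_iff _).2 h
    have h' : m' z' ∈ W := by rw [← W.valuation_le_one_iff, hv]; exact hle
    refine ⟨z', h', ?_⟩
    rw [← sub_eq_zero, ← map_sub, residue_eq_zero_iff]
    have : ((⟨m' z', h'⟩ - ⟨m z, h⟩ : W) : E) = m' z' - m z := rfl
    rw [DomVal.mem_maximalIdeal_iff, this, Valuation.map_sub_swap]
    exact lt_of_lt_of_le hz' hle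

theorem gr_transfer (hM32 : Apx W m₃ m₂) (hM23 : Apx W m₂ m₃)
    (hK32 : Apx W (m₃.comp k₃) (m₂.comp k₂)) (hK23 : Apx W (m₂.comp k₂) (m₃.comp k₃))
    (h : DomVal.GR (W.comap m₂) k₂) : DomVal.GR (W.comap m₃) k₃ := by
  unfold DomVal.GR at *
  letI a2 : Algebra (ResidueField ((W.comap m₂).comap k₂)) (ResidueField (W.comap m₂)) :=
    (ResidueField.map (EtRam.inclOfComap (W.comap m₂) k₂)).toAlgebra
  letI a3 : Algebra (ResidueField ((W.comap m₃).comap k₃)) (ResidueField (W.comap m₃)) :=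
    (ResidueField.map (EtRam.inclOfComap (W.comap m₃) k₃)).toAlgebra
  haveI : Algebra.IsGeometricallyReduced (ResidueField ((W.comap m₂).comap k₂))
    (ResidueField (W.comap m₂)) := h
  refine gr_of_ranges (k₂ := ResidueField ((W.comap m₂).comap k₂))
    (l₂ := ResidueField (W.comap m₂)) (k₃ := ResidueField ((W.comap m₃).comap k₃))
    (l₃ := ResidueField (W.comap m₃)) (ResidueField.map (EtRam.inclOfComap W m₂))
    (ResidueField.map (EtRam.inclOfComap W m₃)) ?_ ?_ ?_ ?_
  · intro x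
    obtain ⟨z, rfl⟩ := residue_surjective x
    obtain ⟨z', h', hz'⟩ := res_eq_of_apx W m₃ m₂ hM32 (z : M₃) z.2
    exact ⟨residue _ ⟨z', h'⟩, hz'⟩
  · intro x
    obtain ⟨z, rfl⟩ := residue_surjective x
    obtain ⟨z', h', hz'⟩ := res_eq_of_apx W m₂ m₃ hM23 (z : M₂) z.2
    exact ⟨residue _ ⟨z', h'⟩, hz'⟩
  · intro x
    obtain ⟨z, rfl⟩ := residue_surjective x
    obtain ⟨z', h', hz'⟩ := res_eq_of_apx W (m₂.comp k₂) (m₃.comp k₃) hK23 (z : K₂) z.2
    exact ⟨residue _ ⟨z', h'⟩, hz'⟩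
  · intro x
    obtain ⟨z, rfl⟩ := residue_surjective x
    obtain ⟨z', h', hz'⟩ := res_eq_of_apx W (m₃.comp k₃) (m₂.comp k₂) hK32 (z : K₃) z.2
    exact ⟨residue _ ⟨z', h'⟩, hz'⟩

end Transfer

end Groth.Agent.Helper8.Eps
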