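import Mathlib
import Groth.Prelude.Def_EtRam
import Groth.Agent.Helper7.DomValD

/-!
# EpsC: representation of polynomial expressions of degree `< p`, best approximations
-/

set_option autoImplicit false
set_option linter.unusedSectionVars false
universe u

namespace Groth.Agent.Helper8.Eps

open Polynomial IsLocalRing Groth.Agent.Helper7

section Rep

variable {F E : Type u} [Field F] [Field E] (f : F →+* E)

/-- a polynomial expression in `y`, where `y ^ p = f α + f β * y`, is one of degree `< p` -/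
theorem rep (p : ℕ) (hp : 2 ≤ p) (y : E) (α β : F) (hy : y ^ p = f α + f β * y) (P : F[X]) :
    ∃ a : ℕ → F, P.eval₂ f y = ∑ i ∈ Finset.range p, f (a i) * y ^ i := by
  have hdeg : degree (C β * X + C α : F[X]) < (p : WithBot ℕ) := by
    have h1 : degree (C β * X + C α : F[X]) ≤ 1 := degree_linear_le
    refine lt_of_le_of_lt h1 ?_
    exact_mod_cast hp
  have hmonic : (X ^ p - (C β * X + C α) : F[X]).Monic := monic_X_pow_sub hdeg
  have hnat : (X ^ p - (C β * X + C α) : F[X]).natDegree = p := by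
    rw [natDegree_sub_eq_left_of_natDegree_lt, natDegree_X_pow]
    rw [natDegree_X_pow]
    exact lt_of_le_of_lt natDegree_linear_le (by omega)
  have hroot : (X ^ p - (C β * X + C α) : F[X]).eval₂ f y = 0 := by
    rw [eval₂_sub, eval₂_pow, eval₂_X, eval₂_add, eval₂_mul, eval₂_C, eval₂_C, eval₂_X, hy]
    ring
  have hne1 : (X ^ p - (C β * X + C α) : F[X]) ≠ 1 := by
    intro h
    rw [h, natDegree_one] at hnat
    omega
  have hmod : (P %ₘ (X ^ p - (C β * X + C α))).natDegree < p := by
    have := natDegree_modByMonic_lt P hmonic hne1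
    rwa [hnat] at this
  refine ⟨fun i => (P %ₘ (X ^ p - (C β * X + C α))).coeff i, ?_⟩
  rw [← eval₂_eq_sum_range' f hmod y]
  conv_lhs => rw [← modByMonic_add_div P (X ^ p - (C β * X + C α))]
  rw [eval₂_add, eval₂_mul, hroot, zero_mul, add_zero]

end Rep

section Best

variable {F E : Type u} [Field F] [Field E] (p : ℕ) [hp : Fact p.Prime] [CharP E p]
  (W : ValuationSubring E) (f : F →+* E)

theorem val_le_of_lt_one [IsDomain (W.comap f)] [IsDiscreteValuationRing (W.comap f)]
    (π : W.comap f) (hπ : Irreducible π) (x : F) (hx : W.valuation (f x) < 1) :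
    W.valuation (f x) ≤ W.valuation (f (π : F)) := by
  have hxV : x ∈ W.comap f := by
    rw [ValuationSubring.mem_comap, ← W.valuation_le_one_iff]
    exact hx.le
  have hxm : (⟨x, hxV⟩ : W.comap f) ∈ maximalIdeal (W.comap f) := by
    rw [DomVal.mem_maximalIdeal_comap_iff, W.mem_nonunits_iff]
    exact hx
  rw [hπ.maximalIdeal_eq, Ideal.mem_span_singleton] at hxm
  obtain ⟨x', hx'⟩ := hxm
  have h1 : x = (π : F) * (x' : F) := congrArg Subtype.val hx'
  have h2 : W.valuation (f (x' : F)) ≤ 1 := (W.valuation_le_one_iff _).2 x'.2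
  rw [h1, map_mul, map_mul]
  calc W.valuation (f (π : F)) * W.valuation (f (x' : F))
      ≤ W.valuation (f (π : F)) * 1 := mul_le_mul_right h2 _
    _ = W.valuation (f (π : F)) := mul_one _

theorem exists_best [IsDomain (W.comap f)] [IsDiscreteValuationRing (W.comap f)]
    (c : E) (g : F) (hg : f g = c ^ p) (hgV : f g ∈ W)
    (β : F) (hβ : W.valuation (f β) < 1) (hβ0 : β ≠ 0) (n₀ : ℕ)
    (hbound : ∀ ω : F, ∀ n : ℕ,
      W.valuation (f (g - ω ^ p)) ≤ W.valuation (f β) ^ (n * p) → n ≤ n₀) :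
    ∃ ω₀ : F, ∀ ω : F, W.valuation (c - f ω₀) ≤ W.valuation (c - f ω) := by
  classical
  have hp0 : p ≠ 0 := hp.out.ne_zero
  obtain ⟨π, hπ⟩ := IsDiscreteValuationRing.exists_irreducible (W.comap f)
  have hβV : β ∈ W.comap f := by
    rw [ValuationSubring.mem_comap, ← W.valuation_le_one_iff]
    exact hβ.le
  have hβ0' : (⟨β, hβV⟩ : W.comap f) ≠ 0 := fun h => hβ0 (congrArg Subtype.val h)
  obtain ⟨m, hm⟩ := IsDiscreteValuationRing.associated_pow_irreducible hβ0' hπ
  obtain ⟨u, hu⟩ := hm.symm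
  have hβeq : β = (π : F) ^ m * ((u : W.comap f) : F) := by
    have := congrArg Subtype.val hu
    simpa using this.symm
  have huv : W.valuation (f ((u : W.comap f) : F)) = 1 := by
    have h1 : IsUnit (EtRam.inclOfComap W f (u : W.comap f)) := u.isUnit.map _
    have := (W.valuation_eq_one_iff _).1 h1
    simpa using this
  have hvβ : W.valuation (f β) = W.valuation (f (π : F)) ^ m := by
    rw [hβeq, map_mul, map_mul, huv, mul_one, map_pow, map_pow]
  have hπlt : W.valuation (f (π : F)) < 1 := by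
    have : π ∈ maximalIdeal (W.comap f) := by
      rw [hπ.maximalIdeal_eq]; exact Ideal.mem_span_singleton_self π
    rw [DomVal.mem_maximalIdeal_comap_iff, W.mem_nonunits_iff] at this
    exact this
  have hπ0 : W.valuation (f (π : F)) ≠ 0 := by
    intro h
    rw [hvβ, h] at hβ
    have hβne : W.valuation (f β) ≠ 0 := (_root_.map_ne_zero _).2 ((_root_.map_ne_zero f).2 hβ0)
    rw [hvβ, h] at hβne
    rcases Nat.eq_zero_or_pos m with hm0 | hm0
    · rw [hm0, pow_zero] at hβ
      exact lt_irrefl _ hβ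
    · exact hβne (zero_pow hm0.ne')
  let S : Set ℕ := {k | ∃ ω : F, W.valuation (f (g - ω ^ p)) ≤ W.valuation (f (π : F)) ^ k}
  have hS0 : (0 : ℕ) ∈ S := by
    refine ⟨0, ?_⟩
    rw [zero_pow hp0, sub_zero, pow_zero]
    exact (W.valuation_le_one_iff _).2 hgV
  have hSb : ∀ k ∈ S, k < m * ((n₀ + 1) * p) := by
    intro k hk
    by_contra hge
    push Not at hge
    obtain ⟨ω, hω⟩ := hk
    have h1 : W.valuation (f (π : F)) ^ k ≤ W.valuation (f (π : F)) ^ (m * ((n₀ + 1) * p)) :=
      pow_le_pow_of_le_one zero_le hπlt.le hge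
    have h2 := hbound ω (n₀ + 1) (by
      rw [hvβ, ← pow_mul]
      exact hω.trans h1)
    omega
  have hSbdd : BddAbove S := ⟨m * ((n₀ + 1) * p), fun k hk => (hSb k hk).le⟩
  have hk₀S : sSup S ∈ S := Nat.sSup_mem ⟨0, hS0⟩ hSbdd
  obtain ⟨ω₀, hω₀⟩ := hk₀S
  refine ⟨ω₀, fun ω => ?_⟩
  have key : W.valuation (f (g - ω₀ ^ p)) ≤ W.valuation (f (g - ω ^ p)) := by
    by_contra hlt
    push Not at hlt
    have hπk0 : W.valuation (f (π : F)) ^ sSup S ≠ 0 := pow_ne_zero _ hπ0
    have hπk0' : f ((π : F) ^ sSup S) ≠ 0 := by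
      intro h
      apply hπk0
      rw [← map_pow, ← map_pow, h, map_zero]
    have h1 : W.valuation (f ((g - ω ^ p) / (π : F) ^ sSup S)) < 1 := by
      rw [map_div₀, map_div₀, map_pow, map_pow]
      rw [div_lt_one₀ (lt_of_le_of_ne zero_le (Ne.symm hπk0))]
      exact lt_of_lt_of_le hlt hω₀
    have h2 := val_le_of_lt_one W f π hπ _ h1
    have h3 : sSup S + 1 ∈ S := by
      refine ⟨ω, ?_⟩
      rw [map_div₀, map_div₀, map_pow, map_pow,
        div_le_iff₀ (lt_of_le_of_ne zero_le (Ne.symm hπk0))] at h2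
      rw [pow_succ, mul_comm]
      exact h2
    have h4 := le_csSup hSbdd h3
    omega
  have e1 : ∀ ω' : F, W.valuation (f (g - ω' ^ p)) = W.valuation (c - f ω') ^ p := by
    intro ω'
    rw [← map_pow, sub_pow_expChar, map_sub, map_pow, hg]
  rw [e1, e1] at key
  by_contra hlt
  push Not at hlt
  exact absurd key (not_le.2 (pow_lt_pow_left₀ hlt zero_le hp0))

end Best

end Groth.Agent.Helper8.Eps
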