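import Mathlib
import Groth.Prelude
import Groth.Agent.Helper2.DVRSep

/-!
# EpsD: the conductor argument on `L ⊗[K] K₁ ⊆ L ⊗[K] K₂`

`K₂ = K₁(c)`, `c ^ p = h ∈ K₁`.  If `t ^ p (h - z ^ p) / β ^ (n p)` is integral over `B` in
`L ⊗[K] K₁` then so is `d t / β ^ n`, for a fixed non-zero `d ∈ B`.
-/

set_option autoImplicit false
set_option linter.unusedSectionVars false
universe u

namespace Groth.Agent.Helper8.Eps

open TensorProduct

section Tensor

variable (p : ℕ) [hp : Fact p.Prime] {B K L K₁ K₂ : Type u} [CommRing B] [IsDomain B]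
  [Field K] [Field L] [Algebra B L] [IsFractionRing B L] [Algebra K L] [CharP K p]
  [Field K₁] [Field K₂] [Algebra K K₁] [Algebra K K₂] [Algebra K₁ K₂] [IsScalarTower K K₁ K₂]

/-- the inclusion `L ⊗ K₁ → L ⊗ K₂` -/
noncomputable def ιT : L ⊗[K] K₁ →ₐ[L] L ⊗[K] K₂ :=
  Algebra.TensorProduct.map (AlgHom.id L L) (IsScalarTower.toAlgHom K K₁ K₂)

omit [CharP K p] in
@[simp] theorem ιT_tmul (l : L) (k : K₁) :
    ιT (K := K) (K₂ := K₂) (l ⊗ₜ[K] k) = l ⊗ₜ[K] algebraMap K₁ K₂ k := by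
  simp [ιT]

/-- the base change of a `K₁`-linear functional on `K₂` -/
noncomputable def ΛT (lam : K₂ →ₗ[K₁] K₁) : L ⊗[K] K₂ →ₗ[L] L ⊗[K] K₁ :=
  (lam.restrictScalars K).baseChange L

omit [CharP K p] in
@[simp] theorem ΛT_tmul (lam : K₂ →ₗ[K₁] K₁) (l : L) (k : K₂) :
    ΛT (K := K) (L := L) lam (l ⊗ₜ[K] k) = l ⊗ₜ[K] lam k := by
  simp [ΛT]

omit [CharP K p] in
theorem ΛT_mul (lam : K₂ →ₗ[K₁] K₁) (t : L ⊗[K] K₁) (x : L ⊗[K] K₂) :
    ΛT (K := K) (L := L) lam (ιT t * x) = t * ΛT (K := K) (L := L) lam x := by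
  induction t using TensorProduct.induction_on with
  | zero => simp
  | add t t' ht ht' => rw [map_add, add_mul, map_add, ht, ht', add_mul]
  | tmul l k =>
    induction x using TensorProduct.induction_on with
    | zero => simp
    | add x x' hx hx' => rw [mul_add, map_add, hx, hx', map_add, mul_add]
    | tmul l' k' =>
      rw [ιT_tmul, Algebra.TensorProduct.tmul_mul_tmul, ΛT_tmul, ΛT_tmul,
        Algebra.TensorProduct.tmul_mul_tmul, ← Algebra.smul_def, map_smul, smul_eq_mul]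

variable (B) in
/-- the conductor-type statement -/
theorem key_G [Algebra.IsGeometricallyReduced K L] [FiniteDimensional K K₂]
    (hB : CAlg.IsNagata B) (c : K₂) (h : K₁) (hc : c ^ p = algebraMap K₁ K₂ h)
    (hcK₁ : c ∉ Set.range (algebraMap K₁ K₂)) (β : B) :
    ∃ d : B, d ≠ 0 ∧ ∀ (t z : L ⊗[K] K₁) (n : ℕ),
      IsIntegral B (((algebraMap B L β)⁻¹ ^ (n * p)) • (t ^ p * ((1 : L) ⊗ₜ[K] h - z ^ p))) →
      IsIntegral B (((algebraMap B L β)⁻¹ ^ n) • (d • t)) := by
  classical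
  have hp0 : 0 < p := hp.out.pos
  haveI : Algebra.IsAlgebraic K K₂ := Algebra.IsAlgebraic.of_finite K K₂
  -- reducedness and finiteness of the integral closure
  haveI hred : IsReduced (L ⊗[K] K₂) := by
    have : IsReduced (K₂ ⊗[K] L) := inferInstance
    exact isReduced_of_injective (Algebra.TensorProduct.comm K L K₂).toRingHom
      (Algebra.TensorProduct.comm K L K₂).injective
  have hfin : Module.Finite B (integralClosure B (L ⊗[K] K₂)) :=
    Groth.Agent.Helper2.DVRSep.finite_integralClosure_of_finite_reduced B L (L ⊗[K] K₂) hB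
  -- the functional
  obtain ⟨lam, hlam1, hlamc⟩ : ∃ lam : K₂ →ₗ[K₁] K₁, lam 1 = 0 ∧ lam c = 1 := by
    have hcn : c ∉ (Submodule.span K₁ {(1 : K₂)}) := by
      intro hmem
      rw [Submodule.mem_span_singleton] at hmem
      obtain ⟨a, ha⟩ := hmem
      apply hcK₁
      refine ⟨a, ?_⟩
      rw [← ha, Algebra.smul_def, mul_one]
    obtain ⟨f, hf, hf'⟩ := Submodule.exists_dual_map_eq_bot_of_notMem hcn inferInstance
    refine ⟨(f c)⁻¹ • f, ?_, ?_⟩
    · have : f 1 ∈ (Submodule.span K₁ {(1 : K₂)}).map f :=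
        Submodule.mem_map_of_mem (Submodule.mem_span_singleton_self _)
      rw [hf', Submodule.mem_bot] at this
      rw [LinearMap.smul_apply, this, smul_zero]
    · rw [LinearMap.smul_apply, smul_eq_mul, inv_mul_cancel₀ hf]
  -- char p
  haveI : CharP (L ⊗[K] K₂) p :=
    charP_of_injective_algebraMap (algebraMap K (L ⊗[K] K₂)).injective p
  -- denominators
  have hfg : (Subalgebra.toSubmodule (integralClosure B (L ⊗[K] K₂))).FG :=
    Module.Finite.iff_fg.1 hfin
  obtain ⟨s, hs⟩ := hfg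
  haveI : FiniteDimensional K K₁ := FiniteDimensional.left K K₁ K₂
  haveI : Algebra.IsAlgebraic L (L ⊗[K] K₁) := Algebra.IsAlgebraic.of_finite L _
  have hden : ∀ y : L ⊗[K] K₂, ∃ e : B, e ≠ 0 ∧
      IsIntegral B (e • ΛT (K := K) (L := L) lam y) := by
    intro y
    have h1 : IsAlgebraic L (ΛT (K := K) (L := L) lam y) :=
      Algebra.IsAlgebraic.isAlgebraic _
    have h2 : IsAlgebraic B (ΛT (K := K) (L := L) lam y) :=
      (IsFractionRing.isAlgebraic_iff B L _).2 h1
    exact h2.exists_integral_multiple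
  choose e he0 heI using hden
  refine ⟨∏ y ∈ s, e y, Finset.prod_ne_zero_iff.2 (fun y _ => he0 y), ?_⟩
  have hall' : ∀ x ∈ Submodule.span B (s : Set (L ⊗[K] K₂)),
      IsIntegral B ((∏ y ∈ s, e y) • ΛT (K := K) (L := L) lam x) := by
    intro x hx'
    induction hx' using Submodule.span_induction with
    | mem y hy =>
      rw [← Finset.mul_prod_erase s e hy, mul_comm, mul_smul]
      exact (heI y).smul _
    | zero => rw [map_zero, smul_zero]; exact isIntegral_zero
    | add x y _ _ hx hy => rw [map_add, smul_add]; exact hx.add hy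
    | smul b x _ hx =>
      rw [LinearMap.map_smul_of_tower, smul_comm]
      exact hx.smul _
  have hall : ∀ x ∈ integralClosure B (L ⊗[K] K₂),
      IsIntegral B ((∏ y ∈ s, e y) • ΛT (K := K) (L := L) lam x) := by
    intro x hx
    exact hall' x (by rw [hs]; exact hx)
  intro t z n hint
  obtain ⟨γ, hγ⟩ : ∃ γ : L, γ = (algebraMap B L β)⁻¹ := ⟨_, rfl⟩
  rw [← hγ] at hint ⊢
  -- the element of `L ⊗ K₂`
  obtain ⟨x, hx⟩ : ∃ x : L ⊗[K] K₂, x = γ ^ n • (ιT t * ((1 : L) ⊗ₜ[K] c - ιT z)) := ⟨_, rfl⟩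
  have hxp : x ^ p = ιT (K := K) (K₂ := K₂) (γ ^ (n * p) • (t ^ p * ((1 : L) ⊗ₜ[K] h - z ^ p))) := by
    rw [hx, smul_pow, mul_pow, sub_pow_expChar, ← pow_mul, map_smul, map_mul, map_pow, map_sub,
      map_pow, ιT_tmul, ← hc, Algebra.TensorProduct.tmul_pow, one_pow]
  have hxint : IsIntegral B x := by
    apply IsIntegral.of_pow hp0
    rw [hxp]
    exact hint.map (ιT (K := K) (K₂ := K₂) (L := L) |>.restrictScalars B)
  have h3 := hall x hxint
  have hΛx : ΛT (K := K) (L := L) lam x = γ ^ n • t := by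
    rw [hx, map_smul, ΛT_mul, map_sub]
    have e1 : ιT (K := K) (K₂ := K₂) z = ιT z * (1 : L ⊗[K] K₂) := (mul_one _).symm
    rw [e1, ΛT_mul, Algebra.TensorProduct.one_def, ΛT_tmul, ΛT_tmul, hlam1, hlamc, tmul_zero,
      mul_zero, sub_zero, ← Algebra.TensorProduct.one_def, mul_one]
  rw [hΛx, smul_comm] at h3
  exact h3

end Tensor

end Groth.Agent.Helper8.Eps
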