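import Mathlib
import Groth.Prelude
import Groth.Agent.Helper8.EpsD
import Groth.Agent.Helper8.EpC
import Groth.Agent.Helper7.DomValD

/-!
# EpsE: the global bound

For a Nagata DVR `B` with fraction field `L`, `L/K` geometrically reduced, `K₂ = K₁(c)` purely
inseparable of degree `p` over the finite extension `K₁/K`, `c ^ p = h`: there is a uniform bound
`n₀` such that for every compositum `M₁` of `L` and `K₁` and every valuation ring `W₁` of `M₁`
dominating `B`, `v(h - ω ^ p) ≤ v(β) ^ (n p)` forces `n ≤ n₀`.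
-/

set_option autoImplicit false
set_option linter.unusedSectionVars false
set_option maxHeartbeats 1000000
universe u

namespace Groth.Agent.Helper8.Eps

open TensorProduct IsLocalRing Groth.Agent.Helper7

theorem isIntegral_of_map {B T M : Type*} [CommRing B] [CommRing T] [CommRing M] [Algebra B T]
    [Algebra B M] (φ : T →ₐ[B] M) (t₀ w' : T) (hker : ∀ x, φ x = 0 → t₀ * x = 0)
    (hint : IsIntegral B (φ (t₀ * w'))) : IsIntegral B (t₀ * w') := by
  obtain ⟨P, hPm, hP⟩ := hint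
  have hP' : Polynomial.aeval (φ (t₀ * w')) P = 0 := by rw [Polynomial.aeval_def]; exact hP
  rw [Polynomial.aeval_algHom_apply] at hP'
  have h0 := hker _ hP'
  refine ⟨Polynomial.X * P, Polynomial.monic_X.mul hPm, ?_⟩
  rw [Polynomial.eval₂_mul, Polynomial.eval₂_X, ← Polynomial.aeval_def]
  calc t₀ * w' * Polynomial.aeval (t₀ * w') P = w' * (t₀ * Polynomial.aeval (t₀ * w') P) := by ring
    _ = 0 := by rw [h0, mul_zero]

section Global

variable (p : ℕ) [hp : Fact p.Prime] (B K L : Type u) [CommRing B] [IsDomain B]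
  [IsDiscreteValuationRing B] [Field K] [Field L] [Algebra B L] [IsFractionRing B L] [Algebra K L]
  [CharP K p] [Algebra.IsGeometricallyReduced K L]
  (K₁ K₂ : Type u) [Field K₁] [Field K₂] [Algebra K K₁] [Algebra K K₂] [Algebra K₁ K₂]
  [IsScalarTower K K₁ K₂] [FiniteDimensional K K₁] [FiniteDimensional K₁ K₂]

theorem global_bound (hB : CAlg.IsNagata B) (c : K₂) (h : K₁) (hc : c ^ p = algebraMap K₁ K₂ h)
    (hcK₁ : c ∉ Set.range (algebraMap K₁ K₂)) (β : B) (hβ0 : β ≠ 0) (hβm : β ∈ maximalIdeal B) :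
    ∃ n₀ : ℕ, ∀ (M₁ : Type u) [Field M₁] [Algebra K M₁] [Algebra L M₁] [Algebra K₁ M₁]
      [IsScalarTower K L M₁] [IsScalarTower K K₁ M₁],
      Algebra.adjoin L (Set.range (algebraMap K₁ M₁)) = ⊤ →
      ∀ W₁ : ValuationSubring M₁,
        EtRam.Dominates B ((algebraMap L M₁).comp (algebraMap B L)) W₁ →
        ∀ (ω : M₁) (n : ℕ),
          (algebraMap K₁ M₁ h - ω ^ p) * ((algebraMap L M₁ (algebraMap B L β))⁻¹) ^ (n * p) ∈ W₁ →
            n ≤ n₀ := by
  classical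
  have hp0 : 0 < p := hp.out.pos
  haveI : FiniteDimensional K K₂ := FiniteDimensional.trans K K₁ K₂
  obtain ⟨d, hd0, hG⟩ := key_G p B (K := K) (L := L) hB c h hc hcK₁ β
  have hβnu : ¬ IsUnit β := hβm
  obtain ⟨n₀, hn₀⟩ : ∃ n₀ : ℕ, ¬ β ^ (n₀ + 1) ∣ d := FiniteMultiplicity.of_not_isUnit hβnu hd0
  refine ⟨n₀, ?_⟩
  intro M₁ _ _ _ _ _ _ hadj W₁ hW₁ ω n hle
  letI algBM : Algebra B M₁ := ((algebraMap L M₁).comp (algebraMap B L)).toAlgebra
  haveI : IsScalarTower B L M₁ := IsScalarTower.of_algebraMap_eq' rfl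
  have hBMinj : Function.Injective (algebraMap B M₁) :=
    (algebraMap L M₁).injective.comp (IsFractionRing.injective B L)
  -- the surjection from the tensor product
  let φ : L ⊗[K] K₁ →ₐ[L] M₁ :=
    Algebra.TensorProduct.lift (Algebra.ofId L M₁) (IsScalarTower.toAlgHom K K₁ M₁)
      (fun _ _ => Commute.all _ _)
  have hφtmul : ∀ (l : L) (k : K₁), φ (l ⊗ₜ[K] k) = algebraMap L M₁ l * algebraMap K₁ M₁ k := by
    intro l k
    simp [φ, Algebra.ofId_apply]
  have hφsurj : Function.Surjective φ := by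
    rw [← AlgHom.range_eq_top, eq_top_iff, ← hadj]
    apply Algebra.adjoin_le
    rintro _ ⟨k, rfl⟩
    exact ⟨(1 : L) ⊗ₜ[K] k, by show φ _ = _; rw [hφtmul, map_one, one_mul]⟩
  haveI : FiniteDimensional L M₁ := Module.Finite.of_surjective φ.toLinearMap hφsurj
  -- semisimplicity of the tensor product
  haveI : IsReduced (L ⊗[K] K₁) := by
    have : IsReduced (K₁ ⊗[K] L) := inferInstance
    exact isReduced_of_injective (Algebra.TensorProduct.comm K L K₁).toRingHom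
      (Algebra.TensorProduct.comm K L K₁).injective
  haveI : IsArtinianRing (L ⊗[K] K₁) := IsArtinianRing.of_finite L _
  haveI : IsSemisimpleRing (L ⊗[K] K₁) := IsArtinianRing.isSemisimpleRing_of_isReduced _
  obtain ⟨J, hJ⟩ := exists_isCompl (RingHom.ker φ.toRingHom : Ideal (L ⊗[K] K₁))
  have h1mem : (1 : L ⊗[K] K₁) ∈ (RingHom.ker φ.toRingHom : Ideal (L ⊗[K] K₁)) ⊔ J := by
    rw [hJ.sup_eq_top]; exact Submodule.mem_top
  obtain ⟨m, hm, t₀, ht₀, hmt⟩ := Submodule.mem_sup.1 h1mem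
  have hφm : φ m = 0 := hm
  have hφt₀ : φ t₀ = 1 := by
    have := congrArg φ hmt
    rw [map_add, hφm, zero_add, map_one] at this
    exact this
  have hker : ∀ x, φ x = 0 → t₀ * x = 0 := by
    intro x hx
    have h1 : t₀ * x ∈ (RingHom.ker φ.toRingHom : Ideal (L ⊗[K] K₁)) := by
      show φ (t₀ * x) = 0
      rw [map_mul, hx, mul_zero]
    have h2 : t₀ * x ∈ J := Ideal.mul_mem_right _ _ ht₀
    have h3 : t₀ * x ∈ (RingHom.ker φ.toRingHom : Ideal (L ⊗[K] K₁)) ⊓ J := ⟨h1, h2⟩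
    rw [hJ.inf_eq_bot] at h3
    exact h3
  -- valuations
  obtain ⟨βM, hβM⟩ : ∃ βM : M₁, βM = algebraMap L M₁ (algebraMap B L β) := ⟨_, rfl⟩
  have hβM' : βM = algebraMap B M₁ β := hβM
  have hvβ : W₁.valuation βM < 1 := by rw [hβM]; exact hW₁.2 β hβm
  have hβM0 : βM ≠ 0 := by
    rw [hβM']
    exact (map_ne_zero_iff _ hBMinj).2 hβ0
  have hvβ0 : W₁.valuation βM ≠ 0 := (_root_.map_ne_zero _).2 hβM0
  have hV : W₁ ≠ ⊤ := by
    intro htop
    have h1 : βM⁻¹ ∈ W₁ := by rw [htop]; trivial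
    rw [← W₁.valuation_le_one_iff, map_inv₀] at h1
    have h2 : 1 ≤ W₁.valuation βM := by
      by_contra hlt
      push Not at hlt
      have : 1 < (W₁.valuation βM)⁻¹ := (one_lt_inv₀ (lt_of_le_of_ne zero_le hvβ0.symm)).2 hlt
      exact absurd h1 (not_le.2 this)
    exact absurd hvβ (not_lt.2 h2)
  obtain ⟨hDVR, hpkg⟩ := Groth.Agent.Helper8.Ep.dvr_package (R := B) L W₁
    (fun r => hW₁.1 r) hV
  obtain ⟨y, hy⟩ : ∃ y : M₁, y = (algebraMap K₁ M₁ h - ω ^ p) * (βM⁻¹) ^ (n * p) := ⟨_, rfl⟩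
  have hyW : y ∈ W₁ := by
    rw [hy, hβM]
    exact hle
  obtain ⟨n', d', hn'i, hd'i, hd'u, hyd⟩ := hpkg ⟨y, hyW⟩
  have hyd' : y * (d' : M₁) = (n' : M₁) := congrArg Subtype.val hyd
  have hvs : W₁.valuation (d' : M₁) = 1 := (W₁.valuation_eq_one_iff d').1 hd'u
  obtain ⟨tt, htt⟩ := hφsurj (d' : M₁)
  obtain ⟨z, hz⟩ := hφsurj ω
  obtain ⟨γ, hγ⟩ : ∃ γ : L, γ = (algebraMap B L β)⁻¹ := ⟨_, rfl⟩
  have hγM : algebraMap L M₁ γ = βM⁻¹ := by rw [hγ, map_inv₀, hβM]
  have hφh : φ ((1 : L) ⊗ₜ[K] h) = algebraMap K₁ M₁ h := by rw [hφtmul, map_one, one_mul]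
  -- the element `w`
  obtain ⟨p', hp'⟩ : ∃ p' : ℕ, p = p' + 1 := Nat.exists_eq_succ_of_ne_zero hp0.ne'
  have hwform : γ ^ (n * p) • ((t₀ * tt) ^ p * ((1 : L) ⊗ₜ[K] h - z ^ p)) =
      t₀ * (γ ^ (n * p) • (t₀ ^ p' * tt ^ p * ((1 : L) ⊗ₜ[K] h - z ^ p))) := by
    have hpow : t₀ ^ p = t₀ * t₀ ^ p' := by rw [hp', pow_succ, mul_comm]
    have e : (t₀ * tt) ^ p * ((1 : L) ⊗ₜ[K] h - z ^ p) =
        t₀ * (t₀ ^ p' * tt ^ p * ((1 : L) ⊗ₜ[K] h - z ^ p)) := by
      rw [mul_pow, hpow]; ring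
    rw [e, mul_smul_comm]
  have hφw : φ (γ ^ (n * p) • ((t₀ * tt) ^ p * ((1 : L) ⊗ₜ[K] h - z ^ p))) =
      (d' : M₁) ^ p' * (n' : M₁) := by
    have e1 : φ ((t₀ * tt) ^ p) = (d' : M₁) ^ p := by rw [map_pow, map_mul, hφt₀, one_mul, htt]
    have e2 : φ ((1 : L) ⊗ₜ[K] h - z ^ p) = algebraMap K₁ M₁ h - ω ^ p := by
      rw [map_sub, map_pow, hφh, hz]
    have hpow : (d' : M₁) ^ p = (d' : M₁) ^ p' * (d' : M₁) := by rw [hp', pow_succ]
    rw [map_smul, Algebra.smul_def, map_mul, e1, e2, map_pow, hγM, ← hyd', hy, hpow]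
    ring
  have hwint : IsIntegral B (γ ^ (n * p) • ((t₀ * tt) ^ p * ((1 : L) ⊗ₜ[K] h - z ^ p))) := by
    rw [hwform]
    apply isIntegral_of_map (φ.restrictScalars B) t₀ _ hker
    rw [← hwform]
    show IsIntegral B (φ _)
    rw [hφw]
    exact (hd'i.pow _).mul hn'i
  have hGint := hG (t₀ * tt) z n (by rw [← hγ]; exact hwint)
  rw [← hγ] at hGint
  have hφG : φ (γ ^ n • (d • (t₀ * tt))) = βM⁻¹ ^ n * (algebraMap B M₁ d * (d' : M₁)) := by
    rw [map_smul, Algebra.smul_def, map_pow, hγM]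
    congr 1
    rw [Algebra.smul_def, map_mul, map_mul, hφt₀, one_mul, htt]
    congr 1
    rw [IsScalarTower.algebraMap_apply B L (L ⊗[K] K₁), AlgHom.commutes]
    rfl
  have hGint' : IsIntegral B (βM⁻¹ ^ n * (algebraMap B M₁ d * (d' : M₁))) := by
    rw [← hφG]
    exact hGint.map (φ.restrictScalars B)
  have hGW : βM⁻¹ ^ n * (algebraMap B M₁ d * (d' : M₁)) ∈ W₁ := by
    letI algBW : Algebra B W₁ := (RingHom.codRestrict (algebraMap B M₁) W₁ (fun r => hW₁.1 r)).toAlgebra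
    haveI : IsScalarTower B W₁ M₁ := IsScalarTower.of_algebraMap_eq' rfl
    have hx' : IsIntegral W₁ (βM⁻¹ ^ n * (algebraMap B M₁ d * (d' : M₁))) :=
      IsIntegral.tower_top (A := W₁) hGint'
    obtain ⟨y', hy'⟩ := IsIntegrallyClosed.isIntegral_iff.mp hx'
    rw [← hy']
    exact y'.2
  have hdle : W₁.valuation (algebraMap B M₁ d) ≤ W₁.valuation βM ^ n := by
    rw [← W₁.valuation_le_one_iff, map_mul, map_mul, hvs, mul_one, map_pow, map_inv₀, inv_pow,
      mul_comm, ← div_eq_mul_inv] at hGW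
    exact (div_le_one₀ (lt_of_le_of_ne zero_le (pow_ne_zero _ hvβ0).symm)).1 hGW
  -- `β ^ n ∣ d`
  have hdvd : β ^ n ∣ d := by
    have hβL0 : algebraMap B L β ≠ 0 := (map_ne_zero_iff _ (IsFractionRing.injective B L)).2 hβ0
    rcases ValuationRing.isInteger_or_isInteger B
      (algebraMap B L d / (algebraMap B L β) ^ n) with ⟨b, hb⟩ | ⟨b, hb⟩
    · refine ⟨b, ?_⟩
      apply IsFractionRing.injective B L
      rw [map_mul, map_pow, hb]
      field_simp
    · have hdL0 : algebraMap B L d ≠ 0 := (map_ne_zero_iff _ (IsFractionRing.injective B L)).2 hd0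
      have hbd : b * d = β ^ n := by
        apply IsFractionRing.injective B L
        rw [map_mul, map_pow, hb]
        field_simp
      have hbM : algebraMap B M₁ b * algebraMap B M₁ d = βM ^ n := by
        rw [← map_mul, hbd, map_pow, hβM']
      have hdM0 : W₁.valuation (algebraMap B M₁ d) ≠ 0 :=
        (_root_.map_ne_zero _).2 ((map_ne_zero_iff _ hBMinj).2 hd0)
      have hvb : 1 ≤ W₁.valuation (algebraMap B M₁ b) := by
        have h1 : W₁.valuation (algebraMap B M₁ b) * W₁.valuation (algebraMap B M₁ d) =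
            W₁.valuation βM ^ n := by rw [← map_mul, hbM, map_pow]
        by_contra hlt
        push Not at hlt
        have h2 : W₁.valuation (algebraMap B M₁ b) * W₁.valuation (algebraMap B M₁ d) <
            1 * W₁.valuation (algebraMap B M₁ d) :=
          mul_lt_mul_of_pos_right hlt (lt_of_le_of_ne zero_le hdM0.symm)
        rw [h1, one_mul] at h2
        exact absurd hdle (not_le.2 h2)
      have hbu : IsUnit b := by
        by_contra hnu
        have : b ∈ maximalIdeal B := hnu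
        exact absurd (hW₁.2 b this) (not_lt.2 hvb)
      obtain ⟨ub, rfl⟩ := hbu
      refine ⟨((ub⁻¹ : Bˣ) : B), ?_⟩
      rw [← hbd]
      rw [mul_comm, ← mul_assoc, Units.inv_mul, one_mul]
  by_contra hlt
  push Not at hlt
  exact hn₀ (dvd_trans (pow_dvd_pow β hlt) hdvd)

end Global

end Groth.Agent.Helper8.Eps
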