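import Mathlib
import Groth.Prelude.Def_EtRam
import Groth.Agent.Helper8.EpsA
import Groth.Agent.Helper8.EpsB
import Groth.Agent.Helper8.EpsC

/-!
# EpsF: mutual approximation of `F(c)` and `F(ϖ)` inside a valued field

`c ^ p = f g`, `ϖ ^ p = f g + f bN * ϖ`, `ω₀` a best approximation of `c` from `f(F)` and
`v(ϖ - c) < v(c - f ω₀)`.  Then the fields generated over `f(F)` by `c` and by `ϖ` approximate
each other.
-/

set_option autoImplicit false
set_option linter.unusedSectionVars false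
universe u

namespace Groth.Agent.Helper8.Eps

open Polynomial IsLocalRing Groth.Agent.Helper7

section ApxGen

variable {F E Xf Yf : Type u} [Field F] [Field E] [Field Xf] [Field Yf] (p : ℕ) [hp : Fact p.Prime]
  [CharP E p] (W : ValuationSubring E) (f : F →+* E) (mx : Xf →+* E) (my : Yf →+* E)

theorem eval₂_shift (P : F[X]) (ω₀ : F) (t : E) :
    (P.comp (X + C ω₀)).eval₂ f (t - f ω₀) = P.eval₂ f t := by
  rw [eval₂_comp, eval₂_add, eval₂_X, eval₂_C, sub_add_cancel]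

theorem exists_ne_of_sum_ne {a : ℕ → F} {t : E}
    (h : ∑ i ∈ Finset.range p, f (a i) * t ^ i ≠ 0) : ∃ j < p, a j ≠ 0 := by
  by_contra hcon
  push Not at hcon
  apply h
  apply Finset.sum_eq_zero
  intro i hi
  rw [hcon i (Finset.mem_range.1 hi), map_zero, zero_mul]

theorem apx_of_gen (c ϖ : E) (g bN ω₀ : F)
    (hc : c ^ p = f g) (hϖ : ϖ ^ p = f g + f bN * ϖ)
    (hbest : ∀ ω : F, W.valuation (c - f ω₀) ≤ W.valuation (c - f ω))
    (hθ : W.valuation (ϖ - c) < W.valuation (c - f ω₀))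
    (hgenX : ∀ x : Xf, ∃ P : F[X], mx x = P.eval₂ f c)
    (hgenY : ∀ y : Yf, ∃ P : F[X], my y = P.eval₂ f ϖ)
    (hmemX : ∀ a : ℕ → F, ∃ x : Xf, mx x = ∑ i ∈ Finset.range p, f (a i) * (c - f ω₀) ^ i)
    (hmemY : ∀ a : ℕ → F, ∃ y : Yf, my y = ∑ i ∈ Finset.range p, f (a i) * (ϖ - f ω₀) ^ i) :
    Apx W mx my ∧ Apx W my mx := by
  have hp2 : 2 ≤ p := hp.out.two_le
  obtain ⟨y, hy⟩ : ∃ y : E, y = c - f ω₀ := ⟨_, rfl⟩
  obtain ⟨θ, hθdef⟩ : ∃ θ : E, θ = ϖ - c := ⟨_, rfl⟩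
  have hyθ : y + θ = ϖ - f ω₀ := by rw [hy, hθdef]; ring
  rw [← hy, ← hθdef] at hθ
  have hy0 : y ≠ 0 := by
    intro h0
    rw [h0, map_zero] at hθ
    exact not_lt_zero' hθ
  have hg' : f (g - ω₀ ^ p) = y ^ p := by
    rw [hy, sub_pow_expChar, map_sub, map_pow, hc]
  have hbest' : ∀ e : F, W.valuation y ≤ W.valuation (y - f e) := by
    intro e
    have := hbest (ω₀ + e)
    rw [← hy] at this
    have e1 : y - f e = c - f (ω₀ + e) := by rw [hy, map_add]; ring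
    rw [e1]
    exact this
  have hrel1 : y ^ p = f (g - ω₀ ^ p) + f 0 * y := by rw [hg', map_zero, zero_mul, add_zero]
  have hrel2 : (y + θ) ^ p = f (g - ω₀ ^ p + bN * ω₀) + f bN * (y + θ) := by
    rw [hyθ, sub_pow_expChar, hϖ, map_add, map_sub, map_pow, map_mul]
    ring
  constructor
  · intro x hx
    obtain ⟨P, hP⟩ := hgenX x
    obtain ⟨a, ha⟩ := rep f p hp2 y (g - ω₀ ^ p) 0 hrel1 (P.comp (X + C ω₀))
    rw [hy, eval₂_shift, ← hP, ← hy] at ha
    have hne : ∃ j < p, a j ≠ 0 := exists_ne_of_sum_ne p f (by rw [← ha]; exact hx)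
    have happ := approx p W f y θ hy0 (g - ω₀ ^ p) hg' hbest' hθ a hne
    obtain ⟨y', hy'⟩ := hmemY a
    refine ⟨y', ?_⟩
    rw [hy', ← hyθ, ha, Valuation.map_sub_swap]
    exact happ
  · intro y₀ hy₀
    obtain ⟨P, hP⟩ := hgenY y₀
    obtain ⟨a, ha⟩ := rep f p hp2 (y + θ) (g - ω₀ ^ p + bN * ω₀) bN hrel2 (P.comp (X + C ω₀))
    rw [hyθ, eval₂_shift, ← hP, ← hyθ] at ha
    have hne : ∃ j < p, a j ≠ 0 := exists_ne_of_sum_ne p f (by rw [← ha]; exact hy₀)
    have happ := approx p W f y θ hy0 (g - ω₀ ^ p) hg' hbest' hθ a hne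
    obtain ⟨x, hx⟩ := hmemX a
    refine ⟨x, ?_⟩
    rw [hx, ← hy, ha]
    have hveq : W.valuation (∑ i ∈ Finset.range p, f (a i) * (y + θ) ^ i) =
        W.valuation (∑ i ∈ Finset.range p, f (a i) * y ^ i) :=
      Valuation.map_eq_of_sub_lt _ happ
    rw [hveq]
    exact happ

end ApxGen

section Theta

variable {F E : Type u} [Field F] [Field E] (p : ℕ) [hp : Fact p.Prime] [CharP E p]
  (W : ValuationSubring E) (f : F →+* E)

/-- `ϖ` is integral -/
theorem val_root_le_one (ϖ : E) (g b : F) (N : ℕ) (hϖ : ϖ ^ p = f g + f (b ^ N) * ϖ)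
    (hg : W.valuation (f g) ≤ 1) (hb : W.valuation (f b) ≤ 1) : W.valuation ϖ ≤ 1 := by
  by_contra hlt
  push Not at hlt
  have hp2 : 2 ≤ p := hp.out.two_le
  obtain ⟨p', hp'⟩ : ∃ p' : ℕ, p = p' + 1 + 1 := ⟨p - 2, by omega⟩
  have h1 : W.valuation ϖ < W.valuation ϖ ^ p := by
    rw [hp', pow_succ]
    have h2 : 1 < W.valuation ϖ ^ (p' + 1) := one_lt_pow₀ hlt (by omega)
    calc W.valuation ϖ = 1 * W.valuation ϖ := (one_mul _).symm
      _ < W.valuation ϖ ^ (p' + 1) * W.valuation ϖ :=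
        mul_lt_mul_of_pos_right h2 (lt_trans zero_lt_one hlt)
  have h3 : W.valuation (f (b ^ N) * ϖ) ≤ W.valuation ϖ := by
    rw [map_mul, map_pow, map_pow]
    calc W.valuation (f b) ^ N * W.valuation ϖ ≤ 1 * W.valuation ϖ :=
        mul_le_mul_left (pow_le_one₀ zero_le hb) _
      _ = W.valuation ϖ := one_mul _
  have h4 : W.valuation (f g + f (b ^ N) * ϖ) ≤ W.valuation ϖ := by
    refine (Valuation.map_add_le_max' _ _ _).trans (max_le (hg.trans hlt.le) h3)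
  rw [← hϖ, map_pow] at h4
  exact absurd h4 (not_le.2 h1)

/-- the perturbation is smaller than the distance of `c` to `f(F)` -/
theorem theta_lt (c ϖ : E) (g b : F) (n₀ : ℕ) (hc : c ^ p = f g)
    (hϖ : ϖ ^ p = f g + f (b ^ ((n₀ + 1) * p)) * ϖ)
    (hg : W.valuation (f g) ≤ 1) (hb : W.valuation (f b) < 1)
    (ω₀ : F) (hbound : ∀ n : ℕ,
      W.valuation (f (g - ω₀ ^ p)) ≤ W.valuation (f b) ^ (n * p) → n ≤ n₀) :
    W.valuation (ϖ - c) < W.valuation (c - f ω₀) := by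
  have hp0 : p ≠ 0 := hp.out.ne_zero
  have hϖle := val_root_le_one p W f ϖ g b _ hϖ hg hb.le
  have h1 : W.valuation (ϖ - c) ^ p ≤ W.valuation (f b) ^ ((n₀ + 1) * p) := by
    rw [← map_pow, sub_pow_expChar, hϖ, hc, add_sub_cancel_left, map_mul, map_pow, map_pow]
    calc W.valuation (f b) ^ ((n₀ + 1) * p) * W.valuation ϖ
        ≤ W.valuation (f b) ^ ((n₀ + 1) * p) * 1 := mul_le_mul_right hϖle _
      _ = _ := mul_one _
  have h2 : W.valuation (f b) ^ ((n₀ + 1) * p) < W.valuation (c - f ω₀) ^ p := by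
    by_contra hle
    push Not at hle
    have h3 : W.valuation (f (g - ω₀ ^ p)) = W.valuation (c - f ω₀) ^ p := by
      rw [← map_pow, sub_pow_expChar, map_sub, map_pow, hc]
    have := hbound (n₀ + 1) (by rw [h3]; exact hle)
    omega
  by_contra hge
  push Not at hge
  have h4 : W.valuation (c - f ω₀) ^ p ≤ W.valuation (ϖ - c) ^ p := pow_le_pow_left₀ zero_le hge p
  exact absurd (h4.trans h1) (not_le.2 h2)

end Theta

end Groth.Agent.Helper8.Eps
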