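import Mathlib
import Groth.Prelude.Def_EtRam
import Groth.Agent.Helper7.DomValD

/-!
# EpsG: the compositum of `L` and the image of `K'` inside a big field `E`, as a local extension
-/

set_option autoImplicit false
set_option linter.unusedSectionVars false
universe u

namespace Groth.Agent.Helper8.Eps

open IsLocalRing Groth.Agent.Helper7

section Comp

variable (L K' E : Type u) [Field L] [Field K'] [Field E] [Algebra L E] [Algebra K' E]

/-- the compositum of `L` and the image of `K'` in `E` -/
def Comp : IntermediateField L E := IntermediateField.adjoin L (Set.range (algebraMap K' E))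

theorem algebraMap_mem_comp (x : K') : algebraMap K' E x ∈ Comp L K' E :=
  IntermediateField.subset_adjoin L _ ⟨x, rfl⟩

noncomputable instance Comp.algebra : Algebra K' (Comp L K' E) :=
  ((algebraMap K' E).codRestrict (Comp L K' E).toSubring (algebraMap_mem_comp L K' E)).toAlgebra

instance Comp.isScalarTower : IsScalarTower K' (Comp L K' E) E :=
  IsScalarTower.of_algebraMap_eq' rfl

@[simp] theorem Comp.coe_algebraMap (x : K') :
    ((algebraMap K' (Comp L K' E) x : Comp L K' E) : E) = algebraMap K' E x := rfl

variable (K : Type u) [Field K] [Algebra K L] [Algebra K K'] [Algebra K E] [IsScalarTower K L E]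
  [IsScalarTower K K' E]

instance Comp.isScalarTower' : IsScalarTower K K' (Comp L K' E) :=
  IsScalarTower.of_algebraMap_eq (fun x => Subtype.ext (by
    show algebraMap K E x = algebraMap K' E (algebraMap K K' x)
    rw [← IsScalarTower.algebraMap_apply]))

include K in
theorem Comp.adjoin_eq_top [Algebra.IsAlgebraic K K'] :
    Algebra.adjoin L (Set.range (algebraMap K' (Comp L K' E))) = ⊤ := by
  have halgS : ∀ x ∈ Set.range (algebraMap K' E), IsAlgebraic L x := by
    rintro _ ⟨k, rfl⟩
    have h1 : IsAlgebraic K k := Algebra.IsAlgebraic.isAlgebraic k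
    have h2 : IsAlgebraic K (algebraMap K' E k) := h1.algebraMap
    exact h2.tower_top L
  apply Subalgebra.map_injective (f := (Comp L K' E).val) Subtype.val_injective
  rw [AlgHom.map_adjoin, Algebra.map_top, IntermediateField.range_val]
  show _ = (IntermediateField.adjoin L (Set.range (algebraMap K' E))).toSubalgebra
  rw [IntermediateField.adjoin_toSubalgebra_of_isAlgebraic halgS, ← Set.range_comp]
  rfl

/-- elements of the compositum are polynomial expressions -/
theorem Comp.induction [Algebra.IsAlgebraic K K'] (Q : E → Prop)
    (hL : ∀ l : L, Q (algebraMap L E l)) (hK' : ∀ k : K', Q (algebraMap K' E k))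
    (hadd : ∀ x y, Q x → Q y → Q (x + y)) (hmul : ∀ x y, Q x → Q y → Q (x * y))
    (x : E) (hx : x ∈ Comp L K' E) : Q x := by
  have halgS : ∀ x ∈ Set.range (algebraMap K' E), IsAlgebraic L x := by
    rintro _ ⟨k, rfl⟩
    have h1 : IsAlgebraic K k := Algebra.IsAlgebraic.isAlgebraic k
    have h2 : IsAlgebraic K (algebraMap K' E k) := h1.algebraMap
    exact h2.tower_top L
  have hx' : x ∈ (IntermediateField.adjoin L (Set.range (algebraMap K' E))).toSubalgebra := hx
  clear hx
  rw [IntermediateField.adjoin_toSubalgebra_of_isAlgebraic halgS] at hx'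
  induction hx' using Algebra.adjoin_induction with
  | mem x hxm =>
    obtain ⟨k, rfl⟩ := hxm
    exact hK' k
  | algebraMap r => exact hL r
  | add x y _ _ hqx hqy => exact hadd x y hqx hqy
  | mul x y _ _ hqx hqy => exact hmul x y hqx hqy

end Comp

section Dom

variable {B L E : Type u} [CommRing B] [IsLocalRing B] [Field L] [Field E] [Algebra B L]
  [Algebra L E]

theorem dominates_comp (S : IntermediateField L E) (W : ValuationSubring E)
    (hW : EtRam.Dominates B ((algebraMap L E).comp (algebraMap B L)) W) :
    EtRam.Dominates B ((algebraMap L S).comp (algebraMap B L)) (W.comap (algebraMap S E)) := by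
  refine ⟨fun x => hW.1 x, fun x hx => ?_⟩
  rw [DomVal.valuation_comap_lt_one_iff]
  exact hW.2 x hx

end Dom

end Groth.Agent.Helper8.Eps
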