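import Mathlib
import Groth.Prelude
import Groth.Agent.Helper8.EpsF
import Groth.Agent.Helper8.EpsG
import Groth.Agent.Helper8.EpC
import Groth.Agent.Helper7.DomValD

/-!
# EpsH: the local theorem inside a big algebraically closed valued field
-/

set_option autoImplicit false
set_option linter.unusedSectionVars false
set_option maxHeartbeats 2000000
universe u

namespace Groth.Agent.Helper8.Eps

open TensorProduct IsLocalRing Polynomial Groth.Agent.Helper7

theorem finiteDimensional_of_adjoin {K L K₁ M₁ : Type u} [Field K] [Field L] [Field K₁] [Field M₁]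
    [Algebra K L] [Algebra K K₁] [FiniteDimensional K K₁] [Algebra K M₁] [Algebra L M₁]
    [Algebra K₁ M₁] [IsScalarTower K L M₁] [IsScalarTower K K₁ M₁]
    (hadj : Algebra.adjoin L (Set.range (algebraMap K₁ M₁)) = ⊤) : FiniteDimensional L M₁ := by
  let φ : L ⊗[K] K₁ →ₐ[L] M₁ :=
    Algebra.TensorProduct.lift (Algebra.ofId L M₁) (IsScalarTower.toAlgHom K K₁ M₁)
      (fun _ _ => Commute.all _ _)
  have hφtmul : ∀ (l : L) (k : K₁), φ (l ⊗ₜ[K] k) = algebraMap L M₁ l * algebraMap K₁ M₁ k := by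
    intro l k
    simp [φ, Algebra.ofId_apply]
  have hφsurj : Function.Surjective φ := by
    rw [← AlgHom.range_eq_top, eq_top_iff, ← hadj]
    apply Algebra.adjoin_le
    rintro _ ⟨k, rfl⟩
    exact ⟨(1 : L) ⊗ₜ[K] k, by show φ _ = _; rw [hφtmul, map_one, one_mul]⟩
  exact Module.Finite.of_surjective φ.toLinearMap hφsurj

theorem ne_top_of_val_lt_one {E : Type u} [Field E] (W : ValuationSubring E) (x : E) (hx0 : x ≠ 0)
    (hx : W.valuation x < 1) : W ≠ ⊤ := by
  intro htop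
  have h1 : x⁻¹ ∈ W := by rw [htop]; trivial
  rw [← W.valuation_le_one_iff, map_inv₀] at h1
  have hv0 : W.valuation x ≠ 0 := (_root_.map_ne_zero _).2 hx0
  have : 1 < (W.valuation x)⁻¹ := (one_lt_inv₀ (lt_of_le_of_ne zero_le hv0.symm)).2 hx
  exact absurd h1 (not_le.2 this)

section Core

variable (p : ℕ) [hp : Fact p.Prime] (A B K L : Type u) [CommRing A] [IsDomain A]
  [IsDiscreteValuationRing A] [CommRing B] [IsDomain B] [IsDiscreteValuationRing B] [Algebra A B]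
  [IsLocalHom (algebraMap A B)] [Field K] [Field L] [Algebra A K] [IsFractionRing A K]
  [Algebra B L] [IsFractionRing B L] [Algebra K L] [Algebra A L] [IsScalarTower A K L]
  [IsScalarTower A B L] [CharP K p]
  (K₁ K₂ : Type u) [Field K₁] [Field K₂] [Algebra K K₁] [Algebra K K₂] [Algebra K₁ K₂]
  [IsScalarTower K K₁ K₂] [FiniteDimensional K K₁] [FiniteDimensional K₁ K₂]
  (K₃ : Type u) [Field K₃] [Algebra K K₃] [Algebra K₁ K₃] [IsScalarTower K K₁ K₃]
  (M₃ : Type u) [Field M₃] [Algebra K M₃] [Algebra L M₃] [Algebra K₃ M₃] [IsScalarTower K L M₃]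
  [IsScalarTower K K₃ M₃]
  (E : Type u) [Field E] [IsAlgClosed E] [Algebra M₃ E] [Algebra K E] [Algebra L E] [Algebra K₁ E]
  [Algebra K₃ E] [IsScalarTower L M₃ E] [IsScalarTower K₃ M₃ E] [IsScalarTower K₁ K₃ E]
  [IsScalarTower K L E] [IsScalarTower K K₁ E]

theorem local_core (hsol : EtRam.IsSolution B K L K₂)
    (c : K₂) (h : K₁) (hc : c ^ p = algebraMap K₁ K₂ h)
    (hgen₂ : ∀ x : K₂, ∃ P : K₁[X], x = Polynomial.aeval c P)
    (hhint : ∃ P : A[X], P.Monic ∧ P.eval₂ ((algebraMap K K₁).comp (algebraMap A K)) h = 0)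
    (πA : A) (hπA : πA ∈ maximalIdeal A) (hπA0 : πA ≠ 0) (n₀ : ℕ)
    (hn₀ : ∀ (M₁ : Type u) [Field M₁] [Algebra K M₁] [Algebra L M₁] [Algebra K₁ M₁]
      [IsScalarTower K L M₁] [IsScalarTower K K₁ M₁],
      Algebra.adjoin L (Set.range (algebraMap K₁ M₁)) = ⊤ →
      ∀ W₁ : ValuationSubring M₁,
        EtRam.Dominates B ((algebraMap L M₁).comp (algebraMap B L)) W₁ →
        ∀ (ω : M₁) (n : ℕ),
          (algebraMap K₁ M₁ h - ω ^ p) *
            ((algebraMap L M₁ (algebraMap B L (algebraMap A B πA)))⁻¹) ^ (n * p) ∈ W₁ → n ≤ n₀)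
    (ϖ : K₃)
    (hϖ : ϖ ^ p = algebraMap K₁ K₃ h +
      algebraMap K₁ K₃ ((algebraMap K K₁ (algebraMap A K πA)) ^ ((n₀ + 1) * p)) * ϖ)
    (hgen₃ : ∀ x : K₃, ∃ P : K₁[X], x = Polynomial.aeval ϖ P)
    (hadj₃ : Algebra.adjoin L (Set.range (algebraMap K₃ M₃)) = ⊤)
    (W : ValuationSubring E)
    (hW : EtRam.Dominates B ((algebraMap L E).comp (algebraMap B L)) W) :
    DomVal.WU' (W.comap (algebraMap M₃ E)) (algebraMap K₃ M₃) ∧
      DomVal.GR (W.comap (algebraMap M₃ E)) (algebraMap K₃ M₃) := by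
  classical
  have hp0 : p ≠ 0 := hp.out.ne_zero
  haveI : Algebra.IsAlgebraic K₁ K₂ := Algebra.IsAlgebraic.of_finite K₁ K₂
  haveI : Algebra.IsAlgebraic K K₁ := Algebra.IsAlgebraic.of_finite K K₁
  haveI : FiniteDimensional K K₂ := FiniteDimensional.trans K K₁ K₂
  haveI : Algebra.IsAlgebraic K K₂ := Algebra.IsAlgebraic.of_finite K K₂
  haveI : CharP E p := charP_of_injective_algebraMap (algebraMap K E).injective p
  let φ₂ : K₂ →ₐ[K₁] E := IsAlgClosed.lift
  letI algK₂E : Algebra K₂ E := φ₂.toRingHom.toAlgebra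
  haveI : IsScalarTower K₁ K₂ E := IsScalarTower.of_algebraMap_eq (fun x => (φ₂.commutes x).symm)
  haveI : IsScalarTower K K₂ E := IsScalarTower.of_algebraMap_eq (fun x => by
    rw [IsScalarTower.algebraMap_apply K K₁ E, IsScalarTower.algebraMap_apply K K₁ K₂,
      ← IsScalarTower.algebraMap_apply K₁ K₂ E])
  -- elements
  obtain ⟨cE, hcE⟩ : ∃ cE : E, cE = algebraMap K₂ E c := ⟨_, rfl⟩
  obtain ⟨ϖE, hϖE⟩ : ∃ ϖE : E, ϖE = algebraMap K₃ E ϖ := ⟨_, rfl⟩
  obtain ⟨b, hb⟩ : ∃ b : K₁, b = algebraMap K K₁ (algebraMap A K πA) := ⟨_, rfl⟩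
  rw [← hb] at hϖ
  have hcEp : cE ^ p = algebraMap K₁ E h := by
    rw [hcE, ← map_pow, hc, ← IsScalarTower.algebraMap_apply]
  have hϖEp : ϖE ^ p = algebraMap K₁ E h + algebraMap K₁ E (b ^ ((n₀ + 1) * p)) * ϖE := by
    rw [hϖE, ← map_pow, hϖ, map_add, map_mul, ← IsScalarTower.algebraMap_apply,
      ← IsScalarTower.algebraMap_apply]
  -- compatibility of the uniformizer
  have hbE : algebraMap K₁ E b = algebraMap L E (algebraMap B L (algebraMap A B πA)) := by
    rw [hb, ← IsScalarTower.algebraMap_apply K K₁ E, IsScalarTower.algebraMap_apply K L E,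
      ← IsScalarTower.algebraMap_apply A K L, IsScalarTower.algebraMap_apply A B L]
  have hπB : algebraMap A B πA ∈ maximalIdeal B := by
    rw [mem_maximalIdeal] at hπA ⊢
    exact (map_mem_nonunits_iff (algebraMap A B) πA).2 hπA
  have hvb : W.valuation (algebraMap K₁ E b) < 1 := by rw [hbE]; exact hW.2 _ hπB
  have hb0 : b ≠ 0 := by
    rw [hb]
    exact (map_ne_zero_iff _ (algebraMap K K₁).injective).2
      ((map_ne_zero_iff _ (IsFractionRing.injective A K)).2 hπA0)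
  have hbE0 : algebraMap K₁ E b ≠ 0 := (_root_.map_ne_zero _).2 hb0
  -- integrality of `h`
  have hAE : ∀ a : A, algebraMap K₁ E (algebraMap K K₁ (algebraMap A K a)) ∈ W := by
    intro a
    have : algebraMap K₁ E (algebraMap K K₁ (algebraMap A K a)) =
        algebraMap L E (algebraMap B L (algebraMap A B a)) := by
      rw [← IsScalarTower.algebraMap_apply K K₁ E, IsScalarTower.algebraMap_apply K L E,
        ← IsScalarTower.algebraMap_apply A K L, IsScalarTower.algebraMap_apply A B L]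
    rw [this]
    exact hW.1 (algebraMap A B a)
  have hhW : algebraMap K₁ E h ∈ W := by
    obtain ⟨P, hPm, hP⟩ := hhint
    let gE : A →+* E := (algebraMap K₁ E).comp ((algebraMap K K₁).comp (algebraMap A K))
    letI algAE : Algebra A E := gE.toAlgebra
    letI algAW : Algebra A W := (RingHom.codRestrict gE W hAE).toAlgebra
    haveI : IsScalarTower A W E := IsScalarTower.of_algebraMap_eq' rfl
    have hint : IsIntegral A (algebraMap K₁ E h) := by
      refine ⟨P, hPm, ?_⟩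
      have := congrArg (algebraMap K₁ E) hP
      rw [Polynomial.hom_eval₂, map_zero] at this
      exact this
    have hx' : IsIntegral W (algebraMap K₁ E h) := IsIntegral.tower_top (A := W) hint
    obtain ⟨y', hy'⟩ := IsIntegrallyClosed.isIntegral_iff.mp hx'
    rw [← hy']
    exact y'.2
  have hhv : W.valuation (algebraMap K₁ E h) ≤ 1 := (W.valuation_le_one_iff _).2 hhW
  -- the pieces
  have hadj₁ := Comp.adjoin_eq_top L K₁ E K
  have hadj₂ := Comp.adjoin_eq_top L K₂ E K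
  have hW₁ := dominates_comp (Comp L K₁ E) W hW
  have hW₂ := dominates_comp (Comp L K₂ E) W hW
  have h2 := hsol (Comp L K₂ E) hadj₂ (W.comap (algebraMap (Comp L K₂ E) E)) hW₂
  have hWU2 : DomVal.WU (W.comap (algebraMap (Comp L K₂ E) E)) (algebraMap K₂ (Comp L K₂ E)) :=
    h2.1
  have hGR2 : DomVal.GR (W.comap (algebraMap (Comp L K₂ E) E)) (algebraMap K₂ (Comp L K₂ E)) :=
    h2.2
  have hbd := hn₀ (Comp L K₁ E) hadj₁ (W.comap (algebraMap (Comp L K₁ E) E)) hW₁
  -- the bound in valuation form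
  have hbdM : ∀ (ω : Comp L K₁ E) (n : ℕ),
      W.valuation (algebraMap (Comp L K₁ E) E (algebraMap K₁ (Comp L K₁ E) h - ω ^ p)) ≤
        W.valuation (algebraMap (Comp L K₁ E) E (algebraMap K₁ (Comp L K₁ E) b)) ^ (n * p) →
      n ≤ n₀ := by
    intro ω n hle
    apply hbd ω n
    rw [ValuationSubring.mem_comap, ← W.valuation_le_one_iff, map_mul, map_mul, map_pow, map_inv₀,
      map_pow, map_inv₀]
    have e1 : algebraMap (Comp L K₁ E) E
        (algebraMap L (Comp L K₁ E) (algebraMap B L (algebraMap A B πA))) =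
        algebraMap K₁ E b := by rw [hbE]; rfl
    have e2 : algebraMap (Comp L K₁ E) E (algebraMap K₁ (Comp L K₁ E) b) = algebraMap K₁ E b := rfl
    rw [e1]
    rw [e2] at hle
    have hv0 : W.valuation (algebraMap K₁ E b) ^ (n * p) ≠ 0 :=
      pow_ne_zero _ ((_root_.map_ne_zero _).2 hbE0)
    rw [inv_pow, ← div_eq_mul_inv]
    exact (div_le_one₀ (lt_of_le_of_ne zero_le hv0.symm)).2 hle
  have hbdK : ∀ (ω : K₁) (n : ℕ),
      W.valuation (algebraMap K₁ E (h - ω ^ p)) ≤ W.valuation (algebraMap K₁ E b) ^ (n * p) →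
      n ≤ n₀ := by
    intro ω n hle
    apply hbdM (algebraMap K₁ (Comp L K₁ E) ω) n
    have e1 : algebraMap (Comp L K₁ E) E
        (algebraMap K₁ (Comp L K₁ E) h - (algebraMap K₁ (Comp L K₁ E) ω) ^ p) =
        algebraMap K₁ E (h - ω ^ p) := by
      rw [map_sub, map_pow, map_sub, map_pow]
      rfl
    rw [e1]
    exact hle
  -- DVR properties
  haveI hDVR₁ : IsDiscreteValuationRing (W.comap (algebraMap (Comp L K₁ E) E)) := by
    haveI : FiniteDimensional L (Comp L K₁ E) := finiteDimensional_of_adjoin (K := K) hadj₁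
    letI algBM : Algebra B (Comp L K₁ E) :=
      ((algebraMap L (Comp L K₁ E)).comp (algebraMap B L)).toAlgebra
    haveI : IsScalarTower B L (Comp L K₁ E) := IsScalarTower.of_algebraMap_eq' rfl
    have hV : W.comap (algebraMap (Comp L K₁ E) E) ≠ ⊤ := by
      apply ne_top_of_val_lt_one _ (algebraMap K₁ (Comp L K₁ E) b)
      · exact (_root_.map_ne_zero _).2 hb0
      · rw [DomVal.valuation_comap_lt_one_iff]
        exact hvb
    exact (Groth.Agent.Helper8.Ep.dvr_package (R := B) L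
      (W.comap (algebraMap (Comp L K₁ E) E)) (fun r => hW₁.1 r) hV).1
  haveI hDVRK : IsDiscreteValuationRing (W.comap (algebraMap K₁ E)) := by
    letI algAK₁ : Algebra A K₁ := ((algebraMap K K₁).comp (algebraMap A K)).toAlgebra
    haveI : IsScalarTower A K K₁ := IsScalarTower.of_algebraMap_eq' rfl
    have hV : W.comap (algebraMap K₁ E) ≠ ⊤ := by
      apply ne_top_of_val_lt_one _ b hb0
      rw [DomVal.valuation_comap_lt_one_iff]
      exact hvb
    exact (Groth.Agent.Helper8.Ep.dvr_package (R := A) K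
      (W.comap (algebraMap K₁ E)) (fun r => hAE r) hV).1
  -- best approximations
  obtain ⟨ωM, hωM⟩ := exists_best p W (algebraMap (Comp L K₁ E) E) cE
    (algebraMap K₁ (Comp L K₁ E) h) hcEp.symm hhW (algebraMap K₁ (Comp L K₁ E) b) hvb
    ((_root_.map_ne_zero _).2 hb0) n₀ hbdM
  obtain ⟨ωK, hωK⟩ := exists_best p W (algebraMap K₁ E) cE h hcEp.symm hhW b hvb hb0 n₀ hbdK
  have hθM : W.valuation (ϖE - cE) < W.valuation (cE - algebraMap (Comp L K₁ E) E ωM) :=
    theta_lt p W (algebraMap (Comp L K₁ E) E) cE ϖE (algebraMap K₁ (Comp L K₁ E) h)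
      (algebraMap K₁ (Comp L K₁ E) b) n₀ hcEp
      (by rw [hϖEp, ← map_pow]; rfl) hhv hvb ωM (hbdM ωM)
  have hθK : W.valuation (ϖE - cE) < W.valuation (cE - algebraMap K₁ E ωK) :=
    theta_lt p W (algebraMap K₁ E) cE ϖE h b n₀ hcEp hϖEp hhv hvb ωK (hbdK ωK)
  -- inclusions of subfields of `E`
  have hle12 : Comp L K₁ E ≤ Comp L K₂ E := by
    apply IntermediateField.adjoin_le_iff.2
    rintro _ ⟨k, rfl⟩
    rw [IsScalarTower.algebraMap_apply K₁ K₂ E]
    exact algebraMap_mem_comp L K₂ E _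
  have hle13 : Comp L K₁ E ≤ (IsScalarTower.toAlgHom L M₃ E).fieldRange := by
    apply IntermediateField.adjoin_le_iff.2
    rintro _ ⟨k, rfl⟩
    refine ⟨algebraMap K₃ M₃ (algebraMap K₁ K₃ k), ?_⟩
    show algebraMap M₃ E (algebraMap K₃ M₃ (algebraMap K₁ K₃ k)) = algebraMap K₁ E k
    rw [← IsScalarTower.algebraMap_apply K₃ M₃ E, ← IsScalarTower.algebraMap_apply K₁ K₃ E]
  have hcE2 : cE ∈ Comp L K₂ E := by rw [hcE]; exact algebraMap_mem_comp L K₂ E c
  have hϖE3 : ϖE ∈ (IsScalarTower.toAlgHom L M₃ E).fieldRange := by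
    refine ⟨algebraMap K₃ M₃ ϖ, ?_⟩
    show algebraMap M₃ E (algebraMap K₃ M₃ ϖ) = ϖE
    rw [hϖE, ← IsScalarTower.algebraMap_apply K₃ M₃ E]
  -- generation statements, level `K`
  have hgenK2 : ∀ x : K₂, ∃ P : K₁[X], algebraMap K₂ E x = P.eval₂ (algebraMap K₁ E) cE := by
    intro x
    obtain ⟨P, rfl⟩ := hgen₂ x
    refine ⟨P, ?_⟩
    rw [Polynomial.aeval_def, Polynomial.hom_eval₂, hcE, ← IsScalarTower.algebraMap_eq]
  have hgenK3 : ∀ x : K₃, ∃ P : K₁[X], algebraMap K₃ E x = P.eval₂ (algebraMap K₁ E) ϖE := by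
    intro x
    obtain ⟨P, rfl⟩ := hgen₃ x
    refine ⟨P, ?_⟩
    rw [Polynomial.aeval_def, Polynomial.hom_eval₂, hϖE, ← IsScalarTower.algebraMap_eq]
  have hmemK2 : ∀ a : ℕ → K₁, ∃ x : K₂, algebraMap K₂ E x =
      ∑ i ∈ Finset.range p, algebraMap K₁ E (a i) * (cE - algebraMap K₁ E ωK) ^ i := by
    intro a
    refine ⟨∑ i ∈ Finset.range p, algebraMap K₁ K₂ (a i) * (c - algebraMap K₁ K₂ ωK) ^ i, ?_⟩
    rw [map_sum]
    apply Finset.sum_congr rfl
    intro i _
    rw [map_mul, map_pow, map_sub, ← IsScalarTower.algebraMap_apply,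
      ← IsScalarTower.algebraMap_apply, hcE]
  have hmemK3 : ∀ a : ℕ → K₁, ∃ x : K₃, algebraMap K₃ E x =
      ∑ i ∈ Finset.range p, algebraMap K₁ E (a i) * (ϖE - algebraMap K₁ E ωK) ^ i := by
    intro a
    refine ⟨∑ i ∈ Finset.range p, algebraMap K₁ K₃ (a i) * (ϖ - algebraMap K₁ K₃ ωK) ^ i, ?_⟩
    rw [map_sum]
    apply Finset.sum_congr rfl
    intro i _
    rw [map_mul, map_pow, map_sub, ← IsScalarTower.algebraMap_apply,
      ← IsScalarTower.algebraMap_apply, hϖE]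
  obtain ⟨hK23, hK32⟩ := apx_of_gen p W (algebraMap K₁ E) (algebraMap K₂ E) (algebraMap K₃ E)
    cE ϖE h (b ^ ((n₀ + 1) * p)) ωK hcEp hϖEp hωK hθK hgenK2 hgenK3 hmemK2 hmemK3
  -- generation statements, level `M`
  have hgenM2 : ∀ x : Comp L K₂ E, ∃ P : (Comp L K₁ E)[X],
      algebraMap (Comp L K₂ E) E x = P.eval₂ (algebraMap (Comp L K₁ E) E) cE := by
    intro x
    refine Comp.induction L K₂ E K
      (fun e => ∃ P : (Comp L K₁ E)[X], e = P.eval₂ (algebraMap (Comp L K₁ E) E) cE)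
      ?_ ?_ ?_ ?_ (x : E) x.2
    · intro l
      refine ⟨Polynomial.C (algebraMap L (Comp L K₁ E) l), ?_⟩
      rw [Polynomial.eval₂_C]
      rfl
    · intro k
      obtain ⟨P, hP⟩ := hgenK2 k
      refine ⟨P.map (algebraMap K₁ (Comp L K₁ E)), ?_⟩
      rw [hP, Polynomial.eval₂_map]
      rfl
    · rintro x y ⟨P, rfl⟩ ⟨Q, rfl⟩
      exact ⟨P + Q, (Polynomial.eval₂_add _ _).symm⟩
    · rintro x y ⟨P, rfl⟩ ⟨Q, rfl⟩
      exact ⟨P * Q, (Polynomial.eval₂_mul _ _).symm⟩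
  have hgenM3 : ∀ x : M₃, ∃ P : (Comp L K₁ E)[X],
      algebraMap M₃ E x = P.eval₂ (algebraMap (Comp L K₁ E) E) ϖE := by
    intro x
    have hx : x ∈ Algebra.adjoin L (Set.range (algebraMap K₃ M₃)) := by
      rw [hadj₃]; exact Algebra.mem_top
    induction hx using Algebra.adjoin_induction with
    | mem x hxm =>
      obtain ⟨k, rfl⟩ := hxm
      obtain ⟨P, hP⟩ := hgenK3 k
      refine ⟨P.map (algebraMap K₁ (Comp L K₁ E)), ?_⟩
      rw [← IsScalarTower.algebraMap_apply K₃ M₃ E, hP, Polynomial.eval₂_map]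
      rfl
    | algebraMap l =>
      refine ⟨Polynomial.C (algebraMap L (Comp L K₁ E) l), ?_⟩
      rw [Polynomial.eval₂_C, ← IsScalarTower.algebraMap_apply L M₃ E]
      rfl
    | add x y _ _ hqx hqy =>
      obtain ⟨P, hP⟩ := hqx
      obtain ⟨Q, hQ⟩ := hqy
      exact ⟨P + Q, by rw [map_add, hP, hQ, Polynomial.eval₂_add]⟩
    | mul x y _ _ hqx hqy =>
      obtain ⟨P, hP⟩ := hqx
      obtain ⟨Q, hQ⟩ := hqy
      exact ⟨P * Q, by rw [map_mul, hP, hQ, Polynomial.eval₂_mul]⟩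
  have hmemM2 : ∀ a : ℕ → Comp L K₁ E, ∃ x : Comp L K₂ E, algebraMap (Comp L K₂ E) E x =
      ∑ i ∈ Finset.range p, algebraMap (Comp L K₁ E) E (a i) *
        (cE - algebraMap (Comp L K₁ E) E ωM) ^ i := by
    intro a
    have hmem : ∑ i ∈ Finset.range p, algebraMap (Comp L K₁ E) E (a i) *
        (cE - algebraMap (Comp L K₁ E) E ωM) ^ i ∈ Comp L K₂ E := by
      apply sum_mem
      intro i _
      exact mul_mem (hle12 (a i).2) (pow_mem (sub_mem hcE2 (hle12 ωM.2)) i)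
    exact ⟨⟨_, hmem⟩, rfl⟩
  have hmemM3 : ∀ a : ℕ → Comp L K₁ E, ∃ x : M₃, algebraMap M₃ E x =
      ∑ i ∈ Finset.range p, algebraMap (Comp L K₁ E) E (a i) *
        (ϖE - algebraMap (Comp L K₁ E) E ωM) ^ i := by
    intro a
    have hmem : ∑ i ∈ Finset.range p, algebraMap (Comp L K₁ E) E (a i) *
        (ϖE - algebraMap (Comp L K₁ E) E ωM) ^ i ∈ (IsScalarTower.toAlgHom L M₃ E).fieldRange := by
      apply sum_mem
      intro i _
      exact mul_mem (hle13 (a i).2) (pow_mem (sub_mem hϖE3 (hle13 ωM.2)) i)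
    obtain ⟨x, hx⟩ := hmem
    exact ⟨x, hx⟩
  obtain ⟨hM23, hM32⟩ := apx_of_gen p W (algebraMap (Comp L K₁ E) E)
    (algebraMap (Comp L K₂ E) E) (algebraMap M₃ E) cE ϖE (algebraMap K₁ (Comp L K₁ E) h)
    (algebraMap K₁ (Comp L K₁ E) (b ^ ((n₀ + 1) * p))) ωM hcEp hϖEp hωM hθM hgenM2 hgenM3
    hmemM2 hmemM3
  -- transfer
  have e2 : (algebraMap (Comp L K₂ E) E).comp (algebraMap K₂ (Comp L K₂ E)) = algebraMap K₂ E :=
    rfl
  have e3 : (algebraMap M₃ E).comp (algebraMap K₃ M₃) = algebraMap K₃ E :=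
    (IsScalarTower.algebraMap_eq K₃ M₃ E).symm
  have hK23' : Apx W ((algebraMap (Comp L K₂ E) E).comp (algebraMap K₂ (Comp L K₂ E)))
      ((algebraMap M₃ E).comp (algebraMap K₃ M₃)) := by rw [e2, e3]; exact hK23
  have hK32' : Apx W ((algebraMap M₃ E).comp (algebraMap K₃ M₃))
      ((algebraMap (Comp L K₂ E) E).comp (algebraMap K₂ (Comp L K₂ E))) := by
    rw [e2, e3]; exact hK32
  refine ⟨?_, ?_⟩
  · exact wu_transfer W (algebraMap K₂ (Comp L K₂ E)) (algebraMap (Comp L K₂ E) E)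
      (algebraMap K₃ M₃) (algebraMap M₃ E) hM32 hK23' ((DomVal.wu_iff _ _).1 hWU2)
  · exact gr_transfer W (algebraMap K₂ (Comp L K₂ E)) (algebraMap (Comp L K₂ E) E)
      (algebraMap K₃ M₃) (algebraMap M₃ E) hM32 hM23 hK32' hK23' hGR2

end Core

end Groth.Agent.Helper8.Eps
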