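import Mathlib
import Groth.Prelude
import Groth.Agent.Helper8.EpsE
import Groth.Agent.Helper8.EpsH

/-!
# EpsI: from a purely inseparable step of degree `p` to a separable solution (Epp's trick)
-/

set_option autoImplicit false
set_option linter.unusedSectionVars false
set_option maxHeartbeats 2000000
universe u

namespace Groth.Agent.Helper8.Eps

open TensorProduct IsLocalRing Polynomial Groth.Agent.Helper7

theorem poly_natDegree {F : Type*} [Field F] (p : ℕ) (h2 : 2 ≤ p) (β h : F) :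
    (X ^ p - (C β * X + C h) : F[X]).natDegree = p := by
  have h1 : (C β * X + C h : F[X]).natDegree < (X ^ p : F[X]).natDegree := by
    rw [natDegree_X_pow]
    exact lt_of_le_of_lt natDegree_linear_le (by omega)
  rw [natDegree_sub_eq_left_of_natDegree_lt h1, natDegree_X_pow]

theorem poly_separable {F : Type*} [Field F] (p : ℕ) [CharP F p] (β h : F) (hβ : β ≠ 0) :
    (X ^ p - (C β * X + C h) : F[X]).Separable := by
  rw [separable_def]
  have hder : derivative (X ^ p - (C β * X + C h) : F[X]) = - C β := by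
    rw [derivative_sub, derivative_X_pow, derivative_add, derivative_C_mul, derivative_X,
      derivative_C, CharP.cast_eq_zero F p]
    simp
  rw [hder]
  refine ⟨0, - C β⁻¹, ?_⟩
  rw [zero_mul, zero_add, neg_mul_neg, ← C_mul, inv_mul_cancel₀ hβ, C_1]

section Main

variable (p : ℕ) [hp : Fact p.Prime] (A B K L : Type u) [CommRing A] [IsDomain A]
  [IsDiscreteValuationRing A] [CommRing B] [IsDomain B] [IsDiscreteValuationRing B] [Algebra A B]
  [IsLocalHom (algebraMap A B)] [Field K] [Field L] [Algebra A K] [IsFractionRing A K]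
  [Algebra B L] [IsFractionRing B L] [Algebra K L] [Algebra A L] [IsScalarTower A K L]
  [IsScalarTower A B L] [CharP K p]
  (K₁ K₂ : Type u) [Field K₁] [Field K₂] [Algebra K K₁] [Algebra K K₂] [Algebra K₁ K₂]
  [IsScalarTower K K₁ K₂] [FiniteDimensional K K₁] [FiniteDimensional K₁ K₂]

theorem local_main (K₃ : Type u) [Field K₃] [Algebra K K₃] [Algebra K₁ K₃] [IsScalarTower K K₁ K₃]
    (hsol : EtRam.IsSolution B K L K₂)
    (c : K₂) (h : K₁) (hc : c ^ p = algebraMap K₁ K₂ h)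
    (hgen₂ : ∀ x : K₂, ∃ P : K₁[X], x = Polynomial.aeval c P)
    (hhint : ∃ P : A[X], P.Monic ∧ P.eval₂ ((algebraMap K K₁).comp (algebraMap A K)) h = 0)
    (πA : A) (hπA : πA ∈ maximalIdeal A) (hπA0 : πA ≠ 0) (n₀ : ℕ)
    (hn₀ : ∀ (M₁ : Type u) [Field M₁] [Algebra K M₁] [Algebra L M₁] [Algebra K₁ M₁]
      [IsScalarTower K L M₁] [IsScalarTower K K₁ M₁],
      Algebra.adjoin L (Set.range (algebraMap K₁ M₁)) = ⊤ →
      ∀ W₁ : ValuationSubring M₁,
        EtRam.Dominates B ((algebraMap L M₁).comp (algebraMap B L)) W₁ →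
        ∀ (ω : M₁) (n : ℕ),
          (algebraMap K₁ M₁ h - ω ^ p) *
            ((algebraMap L M₁ (algebraMap B L (algebraMap A B πA)))⁻¹) ^ (n * p) ∈ W₁ → n ≤ n₀)
    (ϖ : K₃)
    (hϖ : ϖ ^ p = algebraMap K₁ K₃ h +
      algebraMap K₁ K₃ ((algebraMap K K₁ (algebraMap A K πA)) ^ ((n₀ + 1) * p)) * ϖ)
    (hgen₃ : ∀ x : K₃, ∃ P : K₁[X], x = Polynomial.aeval ϖ P) :
    EtRam.IsSolution B K L K₃ := by
  intro M₃ _ _ _ _ _ _ hadj₃ W₃ hW₃
  let E := AlgebraicClosure M₃
  letI algK₁M₃ : Algebra K₁ M₃ := ((algebraMap K₃ M₃).comp (algebraMap K₁ K₃)).toAlgebra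
  haveI : IsScalarTower K₁ K₃ M₃ := IsScalarTower.of_algebraMap_eq' rfl
  haveI : IsScalarTower K K₁ M₃ := IsScalarTower.of_algebraMap_eq (fun x => by
    show algebraMap K M₃ x = algebraMap K₃ M₃ (algebraMap K₁ K₃ (algebraMap K K₁ x))
    rw [← IsScalarTower.algebraMap_apply K K₁ K₃, ← IsScalarTower.algebraMap_apply K K₃ M₃])
  obtain ⟨𝒲, h𝒲⟩ := DomVal.exists_extension (algebraMap M₃ E) W₃
  subst h𝒲
  have hdom : EtRam.Dominates B ((algebraMap L E).comp (algebraMap B L)) 𝒲 := by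
    refine ⟨fun b => hW₃.1 b, fun b hb => ?_⟩
    have := hW₃.2 b hb
    rwa [DomVal.valuation_comap_lt_one_iff] at this
  obtain ⟨h1, h2⟩ := local_core p A B K L K₁ K₂ K₃ M₃ E hsol c h hc hgen₂ hhint πA hπA hπA0 n₀
    hn₀ ϖ hϖ hgen₃ hadj₃ 𝒲 hdom
  exact ⟨(DomVal.wu_iff _ _).2 h1, h2⟩

theorem main (hinj : Function.Injective (algebraMap A B)) [Algebra.IsGeometricallyReduced K L]
    (hB : CAlg.IsNagata B) (hsol : EtRam.IsSolution B K L K₂) [IsPurelyInseparable K₁ K₂]
    (hdeg : Module.finrank K₁ K₂ = p) :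
    ∃ (K₃ : Type u) (_ : Field K₃) (_ : Algebra K K₃) (_ : Algebra K₁ K₃)
      (_ : IsScalarTower K K₁ K₃),
      FiniteDimensional K₁ K₃ ∧ Algebra.IsSeparable K₁ K₃ ∧ EtRam.IsSolution B K L K₃ := by
  classical
  have hpp : p.Prime := hp.out
  haveI : CharP K₁ p := charP_of_injective_algebraMap (algebraMap K K₁).injective p
  haveI : ExpChar K₁ p := ExpChar.prime hpp
  haveI : Algebra.IsAlgebraic K K₁ := Algebra.IsAlgebraic.of_finite K K₁
  haveI : Algebra.IsAlgebraic K₁ K₂ := Algebra.IsAlgebraic.of_finite K₁ K₂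
  letI algAK₁ : Algebra A K₁ := ((algebraMap K K₁).comp (algebraMap A K)).toAlgebra
  haveI : IsScalarTower A K K₁ := IsScalarTower.of_algebraMap_eq' rfl
  -- step 1: an element outside `K₁`
  obtain ⟨c₀, hc₀⟩ : ∃ c₀ : K₂, c₀ ∉ Set.range (algebraMap K₁ K₂) := by
    by_contra hall
    push_neg at hall
    have hbt : (⊥ : Subalgebra K₁ K₂) = ⊤ := by
      rw [eq_top_iff]
      intro x _
      exact Algebra.mem_bot.2 (hall x)
    rw [Subalgebra.bot_eq_top_iff_finrank_eq_one, hdeg] at hbt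
    exact hpp.one_lt.ne' hbt
  -- step 2: an element outside `K₁` whose `p`-th power is in `K₁`
  obtain ⟨c₁, hc₁, h₁, hh₁⟩ : ∃ c₁ : K₂, c₁ ∉ Set.range (algebraMap K₁ K₂) ∧
      ∃ h₁ : K₁, c₁ ^ p = algebraMap K₁ K₂ h₁ := by
    obtain ⟨n, hn⟩ := IsPurelyInseparable.pow_mem K₁ p c₀
    induction n with
    | zero =>
      rw [pow_zero, pow_one] at hn
      obtain ⟨x, hx⟩ := hn
      exact absurd ⟨x, hx⟩ hc₀
    | succ n ih =>
      by_cases hmem : c₀ ^ p ^ n ∈ (algebraMap K₁ K₂).range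
      · exact ih hmem
      · obtain ⟨h₁, hh₁⟩ := hn
        refine ⟨c₀ ^ p ^ n, fun ⟨x, hx⟩ => hmem ⟨x, hx⟩, h₁, ?_⟩
        rw [hh₁, ← pow_mul, ← pow_succ]
  -- step 3: scaling to make `h` integral
  have halg : IsAlgebraic A h₁ :=
    (IsFractionRing.isAlgebraic_iff A K K₁).2 (Algebra.IsAlgebraic.isAlgebraic h₁)
  obtain ⟨y, hy0, hyint⟩ := halg.exists_integral_multiple
  have ha0 : algebraMap A K₁ y ≠ 0 := by
    show algebraMap K K₁ (algebraMap A K y) ≠ 0
    exact (map_ne_zero_iff _ (algebraMap K K₁).injective).2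
      ((map_ne_zero_iff _ (IsFractionRing.injective A K)).2 hy0)
  obtain ⟨c, hcdef⟩ : ∃ c : K₂, c = algebraMap K₁ K₂ (algebraMap A K₁ y) * c₁ := ⟨_, rfl⟩
  obtain ⟨h, hhdef⟩ : ∃ h : K₁, h = (algebraMap A K₁ y) ^ p * h₁ := ⟨_, rfl⟩
  have hc : c ^ p = algebraMap K₁ K₂ h := by
    rw [hcdef, hhdef, mul_pow, hh₁, map_mul, map_pow]
  have hcK₁ : c ∉ Set.range (algebraMap K₁ K₂) := by
    rintro ⟨x, hx⟩
    apply hc₁
    refine ⟨(algebraMap A K₁ y)⁻¹ * x, ?_⟩
    rw [map_mul, hx, map_inv₀, hcdef, ← mul_assoc,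
      inv_mul_cancel₀ ((_root_.map_ne_zero _).2 ha0), one_mul]
  have hhintA : IsIntegral A h := by
    have h1 : IsIntegral A ((algebraMap A K₁ y) ^ (p - 1)) := (isIntegral_algebraMap).pow _
    have h2 : h = (algebraMap A K₁ y) ^ (p - 1) * (y • h₁) := by
      rw [hhdef, Algebra.smul_def, ← mul_assoc, ← pow_succ, Nat.sub_add_cancel hpp.one_le]
    rw [h2]
    exact h1.mul hyint
  have hhint : ∃ P : A[X], P.Monic ∧
      P.eval₂ ((algebraMap K K₁).comp (algebraMap A K)) h = 0 := hhintA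
  -- step 4: `c` generates
  have hgen₂ : ∀ x : K₂, ∃ P : K₁[X], x = Polynomial.aeval c P := by
    haveI := IntermediateField.isSimpleOrder_of_finrank_prime K₁ K₂ (hdeg ▸ hpp)
    have htop : IntermediateField.adjoin K₁ {c} = ⊤ := by
      rcases eq_bot_or_eq_top (IntermediateField.adjoin K₁ {c}) with hbot | htop
      · exfalso
        have hmem : c ∈ (⊥ : IntermediateField K₁ K₂) :=
          hbot ▸ IntermediateField.mem_adjoin_simple_self K₁ c
        exact hcK₁ (IntermediateField.mem_bot.1 hmem)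
      · exact htop
    intro x
    have hx : x ∈ (IntermediateField.adjoin K₁ {c}).toSubalgebra := by
      rw [htop]; trivial
    rw [IntermediateField.adjoin_simple_toSubalgebra_of_isAlgebraic
      (Algebra.IsAlgebraic.isAlgebraic c), Algebra.adjoin_singleton_eq_range_aeval] at hx
    obtain ⟨P, hP⟩ := hx
    exact ⟨P, hP.symm⟩
  -- step 5: the uniformizer and the global bound
  obtain ⟨πA, hπirr⟩ := IsDiscreteValuationRing.exists_irreducible A
  have hπA0 : πA ≠ 0 := hπirr.ne_zero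
  have hπA : πA ∈ maximalIdeal A := by
    rw [mem_maximalIdeal, mem_nonunits_iff]; exact hπirr.not_isUnit
  have hβ0 : algebraMap A B πA ≠ 0 := (map_ne_zero_iff _ hinj).2 hπA0
  have hβm : algebraMap A B πA ∈ maximalIdeal B := by
    rw [mem_maximalIdeal] at hπA ⊢
    exact (map_mem_nonunits_iff (algebraMap A B) πA).2 hπA
  obtain ⟨n₀, hn₀⟩ := global_bound p B K L K₁ K₂ hB c h hc hcK₁ (algebraMap A B πA) hβ0 hβm
  -- step 6: the separable polynomial
  have hb0 : algebraMap K K₁ (algebraMap A K πA) ≠ 0 :=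
    (map_ne_zero_iff _ (algebraMap K K₁).injective).2
      ((map_ne_zero_iff _ (IsFractionRing.injective A K)).2 hπA0)
  obtain ⟨bN, hbN⟩ : ∃ bN : K₁, bN = (algebraMap K K₁ (algebraMap A K πA)) ^ ((n₀ + 1) * p) :=
    ⟨_, rfl⟩
  have hbN0 : bN ≠ 0 := by rw [hbN]; exact pow_ne_zero _ hb0
  have hPdeg : (X ^ p - (C bN * X + C h) : K₁[X]).natDegree = p :=
    poly_natDegree p hpp.two_le bN h
  have hP0 : (X ^ p - (C bN * X + C h) : K₁[X]) ≠ 0 := by
    intro h0
    rw [h0, natDegree_zero] at hPdeg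
    exact hpp.ne_zero hPdeg.symm
  have hPnu : ¬ IsUnit (X ^ p - (C bN * X + C h) : K₁[X]) := fun hu =>
    hpp.ne_zero (by rw [← hPdeg]; exact natDegree_eq_zero_of_isUnit hu)
  obtain ⟨g, hgirr, hgdvd⟩ := WfDvdMonoid.exists_irreducible_factor hPnu hP0
  haveI : Fact (Irreducible g) := ⟨hgirr⟩
  have hroot : Polynomial.aeval (AdjoinRoot.root g) (X ^ p - (C bN * X + C h) : K₁[X]) = 0 := by
    rw [AdjoinRoot.aeval_eq]
    exact AdjoinRoot.mk_eq_zero.2 hgdvd
  have hϖ : (AdjoinRoot.root g) ^ p = algebraMap K₁ (AdjoinRoot g) h +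
      algebraMap K₁ (AdjoinRoot g)
        ((algebraMap K K₁ (algebraMap A K πA)) ^ ((n₀ + 1) * p)) * AdjoinRoot.root g := by
    have h0 := hroot
    simp only [map_sub, map_add, map_mul, map_pow, aeval_X, aeval_C] at h0
    rw [sub_eq_zero] at h0
    rw [h0, add_comm, hbN]
  have hgen₃ : ∀ x : AdjoinRoot g, ∃ Q : K₁[X], x = Polynomial.aeval (AdjoinRoot.root g) Q := by
    intro x
    obtain ⟨Q, rfl⟩ := AdjoinRoot.mk_surjective x
    exact ⟨Q, (AdjoinRoot.aeval_eq Q).symm⟩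
  refine ⟨AdjoinRoot g, inferInstance, inferInstance, inferInstance, inferInstance, ?_, ?_, ?_⟩
  · exact (AdjoinRoot.powerBasis hgirr.ne_zero).finite
  · have hPsep : (X ^ p - (C bN * X + C h) : K₁[X]).Separable := poly_separable p bN h hbN0
    have hsep_root : IsSeparable K₁ (AdjoinRoot.root g) :=
      hPsep.of_dvd (minpoly.dvd K₁ _ hroot)
    rw [← separableClosure.eq_top_iff, eq_top_iff]
    intro x _
    have hx : x ∈ Algebra.adjoin K₁ {AdjoinRoot.root g} := by
      rw [AdjoinRoot.adjoinRoot_eq_top]; trivial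
    have hle : Algebra.adjoin K₁ {AdjoinRoot.root g} ≤
        (separableClosure K₁ (AdjoinRoot g)).toSubalgebra :=
      Algebra.adjoin_le (Set.singleton_subset_iff.2 (mem_separableClosure_iff.2 hsep_root))
    exact hle hx
  · exact local_main p A B K L K₁ K₂ (AdjoinRoot g) hsol c h hc hgen₂ hhint πA hπA hπA0 n₀ hn₀
      (AdjoinRoot.root g) hϖ hgen₃

end Main

end Groth.Agent.Helper8.Eps
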