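import Mathlib

/-!
# TmA: field-theoretic lemmas for S9329 / S9328 (tame ramification)

* an algebraic, geometrically reduced field extension is separable;
* a separable algebraic field extension is geometrically reduced;
* adjoining a root of an irreducible factor of a separable polynomial is separable.
-/

set_option autoImplicit false
universe u v

namespace Groth.Agent.Helper8.Tm

open TensorProduct Polynomial

section Sep

variable {k : Type u} {F : Type v} [Field k] [Field F] [Algebra k F]

/-- the powers of an element below the degree of its minimal polynomial stay linearly independent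
after a base field extension -/
theorem eq_zero_of_aeval_tmul {Ω : Type*} [Field Ω] [Algebra k Ω] (x : F) (g : Polynomial Ω)
    (hdeg : g.natDegree < (minpoly k x).natDegree)
    (hg : aeval ((1 : Ω) ⊗ₜ[k] x) g = 0) : g = 0 := by
  classical
  have hli : LinearIndependent k (fun i : Fin (minpoly k x).natDegree => x ^ (i : ℕ)) :=
    linearIndependent_pow x
  have hli' : LinearIndependent Ω
      (fun i : Fin (minpoly k x).natDegree => (1 : Ω) ⊗ₜ[k] (x ^ (i : ℕ))) :=
    Module.Flat.linearIndependent_one_tmul hli
  rw [aeval_eq_sum_range' hdeg, Finset.sum_range] at hg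
  have hterm : ∀ i : Fin (minpoly k x).natDegree,
      g.coeff i • ((1 : Ω) ⊗ₜ[k] x) ^ (i : ℕ) = g.coeff i • ((1 : Ω) ⊗ₜ[k] (x ^ (i : ℕ))) := by
    intro i
    rw [Algebra.TensorProduct.tmul_pow, one_pow]
  simp_rw [hterm] at hg
  have h0 := Fintype.linearIndependent_iff.1 hli' (fun i => g.coeff i) hg
  ext i
  rw [coeff_zero]
  by_cases hi : i < (minpoly k x).natDegree
  · exact h0 ⟨i, hi⟩
  · exact coeff_eq_zero_of_natDegree_lt (lt_of_lt_of_le hdeg (not_lt.1 hi))

/-- an algebraic field extension which is geometrically reduced is separable -/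
theorem isSeparable_of_isGeometricallyReduced [Algebra.IsAlgebraic k F]
    [Algebra.IsGeometricallyReduced k F] : Algebra.IsSeparable k F := by
  classical
  constructor
  intro x
  have hred : IsReduced (AlgebraicClosure k ⊗[k] F) :=
    (Algebra.isGeometricallyReduced_field_iff k F).1 inferInstance
  have hint : IsIntegral k x := Algebra.IsIntegral.isIntegral x
  have hmon : (minpoly k x).Monic := minpoly.monic hint
  show (minpoly k x).Separable
  rw [← Polynomial.separable_map (algebraMap k (AlgebraicClosure k)),
    PerfectField.separable_iff_squarefree]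
  intro g hg
  by_contra hgu
  obtain ⟨r, hr⟩ := hg
  have hpm0 : (minpoly k x).map (algebraMap k (AlgebraicClosure k)) ≠ 0 := (hmon.map _).ne_zero
  have hg0 : g ≠ 0 := by
    rintro rfl
    rw [zero_mul, zero_mul] at hr
    exact hpm0 hr
  have hr0 : r ≠ 0 := by
    rintro rfl
    rw [mul_zero] at hr
    exact hpm0 hr
  have hgdeg : 0 < g.natDegree := by
    rw [Nat.pos_iff_ne_zero]
    intro h0
    apply hgu
    rw [Polynomial.isUnit_iff_degree_eq_zero, degree_eq_natDegree hg0, h0]
    rfl
  have hdeg : (g * r).natDegree < (minpoly k x).natDegree := by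
    have h1 : (minpoly k x).natDegree =
        ((minpoly k x).map (algebraMap k (AlgebraicClosure k))).natDegree :=
      (natDegree_map _).symm
    rw [h1, hr, natDegree_mul (mul_ne_zero hg0 hg0) hr0, natDegree_mul hg0 hg0,
      natDegree_mul hg0 hr0]
    omega
  have hX : aeval ((1 : AlgebraicClosure k) ⊗ₜ[k] x)
      ((minpoly k x).map (algebraMap k (AlgebraicClosure k))) = 0 := by
    rw [aeval_map_algebraMap]
    have h2 : (1 : AlgebraicClosure k) ⊗ₜ[k] x =
        (Algebra.TensorProduct.includeRight : F →ₐ[k] AlgebraicClosure k ⊗[k] F) x := rfl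
    rw [h2, aeval_algHom_apply, minpoly.aeval, map_zero]
  have hz : aeval ((1 : AlgebraicClosure k) ⊗ₜ[k] x) (g * r) = 0 := by
    apply IsReduced.eq_zero
    refine ⟨2, ?_⟩
    rw [sq, ← map_mul]
    have h3 : g * r * (g * r) = ((minpoly k x).map (algebraMap k (AlgebraicClosure k))) * r := by
      rw [hr]; ring
    rw [h3, map_mul, hX, zero_mul]
  exact mul_ne_zero hg0 hr0 (eq_zero_of_aeval_tmul x (g * r) hdeg hz)

/-- a separable algebraic field extension is geometrically reduced -/
theorem isGeometricallyReduced_of_isSeparable [Algebra.IsSeparable k F] :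
    Algebra.IsGeometricallyReduced k F := by
  rw [Algebra.isGeometricallyReduced_field_iff]
  apply IsReduced.tensorProduct_of_flat_of_forall_fg
  intro B hB
  haveI : Algebra.IsAlgebraic k F := Algebra.IsSeparable.isAlgebraic k F
  letI : Field B := (Subalgebra.isField_of_algebraic B).toField
  haveI : Algebra.IsSeparable k B := Algebra.isSeparable_tower_bot_of_isSeparable k B F
  haveI : Algebra.FormallyUnramified k B := Algebra.FormallyUnramified.of_isSeparable k B
  haveI : Algebra.FiniteType k B := (Subalgebra.fg_iff_finiteType B).mp hB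
  exact Algebra.FormallyUnramified.isReduced_of_field (AlgebraicClosure k)
    (AlgebraicClosure k ⊗[k] B)

end Sep

/-- adjoining a root of an irreducible factor of a separable polynomial gives a separable
extension -/
theorem isSeparable_adjoinRoot {F : Type u} [Field F] (h : F[X]) [Fact (Irreducible h)]
    (q : F[X]) (hq : q.Separable) (hdvd : h ∣ q) : Algebra.IsSeparable F (AdjoinRoot h) := by
  rw [← separableClosure.eq_top_iff, ← IntermediateField.toSubalgebra_injective.eq_iff,
    IntermediateField.top_toSubalgebra, eq_top_iff, ← AdjoinRoot.adjoinRoot_eq_top,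
    Algebra.adjoin_le_iff]
  intro y hy
  rw [Set.mem_singleton_iff] at hy
  subst hy
  show AdjoinRoot.root h ∈ separableClosure F (AdjoinRoot h)
  rw [mem_separableClosure_iff]
  refine hq.of_dvd (minpoly.dvd F _ ?_)
  obtain ⟨c, rfl⟩ := hdvd
  rw [map_mul, AdjoinRoot.aeval_eq, AdjoinRoot.mk_self, zero_mul]

end Groth.Agent.Helper8.Tm
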