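import Mathlib
import Groth.Prelude
import Groth.Agent.Helper8.EpsI
import Groth.Agent.Helper8.TmA

/-!
# EpsJ: from a solution to a separable solution (induction on the inseparable degree)
-/

set_option autoImplicit false
set_option linter.unusedSectionVars false
set_option maxHeartbeats 2000000
universe u

namespace Groth.Agent.Helper8.Eps

open IsLocalRing Polynomial

/-- a maximal proper intermediate field above a proper intermediate field -/
theorem exists_max_proper {K K₂ : Type u} [Field K] [Field K₂] [Algebra K K₂]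
    [FiniteDimensional K K₂] (S : IntermediateField K K₂) (hS : S ≠ ⊤) :
    ∃ K₁ : IntermediateField K K₂, S ≤ K₁ ∧ K₁ ≠ ⊤ ∧
      ∀ F : IntermediateField K K₂, K₁ ≤ F → F ≠ ⊤ → F = K₁ := by
  classical
  let T : Set ℕ := {d | ∃ F : IntermediateField K K₂, S ≤ F ∧ F ≠ ⊤ ∧ Module.finrank K F = d}
  have hne : T.Nonempty := ⟨_, S, le_rfl, hS, rfl⟩
  have hbdd : BddAbove T := ⟨Module.finrank K K₂, by
    rintro d ⟨F, -, -, rfl⟩
    exact F.toSubalgebra.toSubmodule.finrank_le⟩
  obtain ⟨K₁, hSK₁, hK₁top, hK₁d⟩ := Nat.sSup_mem hne hbdd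
  refine ⟨K₁, hSK₁, hK₁top, fun F hle hFtop => ?_⟩
  have hFd : Module.finrank K F ≤ Module.finrank K K₁ := by
    rw [hK₁d]
    exact le_csSup hbdd ⟨F, hSK₁.trans hle, hFtop, rfl⟩
  exact (IntermediateField.eq_of_le_of_finrank_le hle hFd).symm

/-- a non-separable finite extension in characteristic `p` has a purely inseparable top step of
degree `p` -/
theorem exists_step (p : ℕ) (hp : p.Prime) {K K₂ : Type u} [Field K] [Field K₂] [Algebra K K₂]
    [CharP K p] [FiniteDimensional K K₂] (hns : ¬ Algebra.IsSeparable K K₂) :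
    ∃ K₁ : IntermediateField K K₂, IsPurelyInseparable K₁ K₂ ∧ Module.finrank K₁ K₂ = p := by
  classical
  haveI : Algebra.IsAlgebraic K K₂ := Algebra.IsAlgebraic.of_finite K K₂
  have hS : separableClosure K K₂ ≠ ⊤ := fun h => hns ((separableClosure.eq_top_iff K K₂).1 h)
  obtain ⟨K₁, hSK₁, hK₁top, hmax⟩ := exists_max_proper (separableClosure K K₂) hS
  haveI : CharP K₁ p := charP_of_injective_algebraMap (algebraMap K K₁).injective p
  haveI : ExpChar K₁ p := ExpChar.prime hp
  haveI : CharP K₂ p := charP_of_injective_algebraMap (algebraMap K K₂).injective p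
  haveI : ExpChar K₂ p := ExpChar.prime hp
  haveI : CharP (separableClosure K K₂) p :=
    charP_of_injective_algebraMap (algebraMap K (separableClosure K K₂)).injective p
  haveI : ExpChar (separableClosure K K₂) p := ExpChar.prime hp
  have hpi : IsPurelyInseparable K₁ K₂ := by
    rw [isPurelyInseparable_iff_pow_mem K₁ p]
    intro x
    obtain ⟨n, y, hy⟩ := IsPurelyInseparable.pow_mem (separableClosure K K₂) p x
    exact ⟨n, ⟨⟨(y : K₂), hSK₁ y.2⟩, hy⟩⟩
  refine ⟨K₁, hpi, ?_⟩
  obtain ⟨c₀, hc₀⟩ : ∃ c₀ : K₂, c₀ ∉ K₁ := by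
    by_contra hall
    push_neg at hall
    exact hK₁top (eq_top_iff.2 fun x _ => hall x)
  obtain ⟨c, hcK₁, hcp⟩ : ∃ c : K₂, c ∉ K₁ ∧ c ^ p ∈ K₁ := by
    obtain ⟨n, hn⟩ := IsPurelyInseparable.pow_mem K₁ p c₀
    induction n with
    | zero =>
      rw [pow_zero, pow_one] at hn
      obtain ⟨x, hx⟩ := hn
      exact absurd (hx ▸ x.2) hc₀
    | succ n ih =>
      by_cases hmem : c₀ ^ p ^ n ∈ K₁
      · exact ih ⟨⟨_, hmem⟩, rfl⟩
      · obtain ⟨y, hy⟩ := hn
        refine ⟨c₀ ^ p ^ n, hmem, ?_⟩
        rw [← pow_mul, ← pow_succ, ← hy]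
        exact y.2
  have htop : IntermediateField.adjoin K₁ {c} = ⊤ := by
    by_contra hne
    have hF := hmax ((IntermediateField.adjoin K₁ {c}).restrictScalars K)
      (fun x hx => (IntermediateField.adjoin K₁ {c}).algebraMap_mem ⟨x, hx⟩)
      (fun h => hne (IntermediateField.restrictScalars_eq_top_iff.1 h))
    have hcF : c ∈ (IntermediateField.adjoin K₁ {c}).restrictScalars K :=
      IntermediateField.mem_adjoin_simple_self K₁ c
    rw [hF] at hcF
    exact hcK₁ hcF
  have hirr : Irreducible (X ^ p - C (⟨c ^ p, hcp⟩ : K₁) : K₁[X]) := by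
    apply X_pow_sub_C_irreducible_of_prime hp
    intro b hb
    have h1 : (b : K₂) ^ p = c ^ p := congrArg Subtype.val hb
    have h2 : (c - (b : K₂)) ^ p = 0 := by
      rw [sub_pow_expChar, h1, sub_self]
    have h3 : c = (b : K₂) := sub_eq_zero.1 (pow_eq_zero_iff hp.ne_zero |>.1 h2)
    exact hcK₁ (h3 ▸ b.2)
  have hroot : Polynomial.aeval c (X ^ p - C (⟨c ^ p, hcp⟩ : K₁) : K₁[X]) = 0 := by
    rw [map_sub, map_pow, aeval_X, aeval_C]
    exact sub_self _
  have hmin : minpoly K₁ c = X ^ p - C (⟨c ^ p, hcp⟩ : K₁) :=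
    (minpoly.eq_of_irreducible_of_monic hirr hroot (monic_X_pow_sub_C _ hp.ne_zero)).symm
  rw [← IntermediateField.finrank_top', ← htop,
    IntermediateField.adjoin.finrank (Algebra.IsIntegral.isIntegral c), hmin,
    natDegree_X_pow_sub_C]

section Main

variable (A B K L : Type u) [CommRing A] [IsDomain A] [IsDiscreteValuationRing A]
  [CommRing B] [IsDomain B] [IsDiscreteValuationRing B] [Algebra A B]
  [IsLocalHom (algebraMap A B)] [Field K] [Field L] [Algebra A K] [IsFractionRing A K]
  [Algebra B L] [IsFractionRing B L] [Algebra K L] [Algebra A L] [IsScalarTower A K L]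
  [IsScalarTower A B L]

theorem sep_main_charP (p : ℕ) (hp : p.Prime) [CharP K p]
    (hinj : Function.Injective (algebraMap A B)) [Algebra.IsGeometricallyReduced K L]
    (hB : CAlg.IsNagata B) (n : ℕ) :
    ∀ (K₂ : Type u) [Field K₂] [Algebra K K₂] [FiniteDimensional K K₂],
      EtRam.IsSolution B K L K₂ → Field.finInsepDegree K K₂ = n →
      ∃ (K₃ : Type u) (_ : Field K₃) (_ : Algebra K K₃) (_ : FiniteDimensional K K₃)
        (_ : Algebra.IsSeparable K K₃), EtRam.IsSolution B K L K₃ := by
  haveI : Fact p.Prime := ⟨hp⟩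
  induction n using Nat.strong_induction_on with
  | _ n ih =>
    intro K₂ _ _ _ h₂ hn
    by_cases hsep : Algebra.IsSeparable K K₂
    · exact ⟨K₂, inferInstance, inferInstance, inferInstance, hsep, h₂⟩
    · obtain ⟨K₁, hpi, hdeg⟩ := exists_step p hp hsep
      haveI := hpi
      obtain ⟨K₃, _, _, _, _, hfd, hsep₃, hsol₃⟩ := main p A B K L K₁ K₂ hinj hB h₂ hdeg
      haveI := hfd
      haveI := hsep₃
      haveI : FiniteDimensional K K₃ := FiniteDimensional.trans K K₁ K₃
      haveI : Algebra.IsAlgebraic K K₁ := Algebra.IsAlgebraic.of_finite K K₁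
      refine ih (Field.finInsepDegree K K₃) ?_ K₃ hsol₃ rfl
      rw [← hn, ← Field.finInsepDegree_mul_finInsepDegree_of_isAlgebraic K K₁ K₃,
        ← Field.finInsepDegree_mul_finInsepDegree_of_isAlgebraic K K₁ K₂,
        Algebra.IsSeparable.finInsepDegree_eq K₁ K₃, IsPurelyInseparable.finInsepDegree_eq K₁ K₂,
        hdeg, mul_one]
      have hpos : 0 < Field.finInsepDegree K K₁ := by
        have h1 := Field.finSepDegree_mul_finInsepDegree K K₁
        have h2 : 0 < Module.finrank K K₁ := Module.finrank_pos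
        rcases Nat.eq_zero_or_pos (Field.finInsepDegree K K₁) with h0 | h0
        · rw [h0, mul_zero] at h1; omega
        · exact h0
      exact lt_mul_of_one_lt_right hpos hp.one_lt

theorem sep_main (hinj : Function.Injective (algebraMap A B)) [Algebra.IsSeparable K L]
    (hB : CAlg.IsNagata B) (K₂ : Type u) [Field K₂] [Algebra K K₂] [FiniteDimensional K K₂]
    (h₂ : EtRam.IsSolution B K L K₂) :
    ∃ (K₃ : Type u) (_ : Field K₃) (_ : Algebra K K₃) (_ : FiniteDimensional K K₃)
      (_ : Algebra.IsSeparable K K₃), EtRam.IsSolution B K L K₃ := by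
  haveI : Algebra.IsGeometricallyReduced K L := Tm.isGeometricallyReduced_of_isSeparable
  obtain ⟨p, hchar⟩ := CharP.exists K
  rcases CharP.char_is_prime_or_zero K p with hp | hp0
  · exact sep_main_charP A B K L p hp hinj hB _ K₂ h₂ rfl
  · subst hp0
    haveI : CharZero K := CharP.charP_to_charZero K
    haveI : Algebra.IsIntegral K K₂ := Algebra.IsIntegral.of_finite K K₂
    exact ⟨K₂, inferInstance, inferInstance, inferInstance, inferInstance, h₂⟩

end Main

end Groth.Agent.Helper8.Eps
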