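import Mathlib
import Groth.Agent.Helper8.Schl21
set_option autoImplicit false
universe u v

namespace Groth.Agent.Helper8.Schl
open ArtFun ArtFun.Art IsLocalRing CategoryTheory Groth.Agent.Helper6

variable {Λ : Type u} {k : Type u} [CommRing Λ] [Field k] [Algebra Λ k]

section RelVersal

open MvPowerSeries

/-- relative versality (smoothness of `h_S → h_R`) -/
def RelVersal {R S : CRing Λ k} (ι : CHom R S) : Prop :=
  ∀ ⦃B A : Art Λ k⦄ (μ : B ⟶ A), Function.Surjective μ →
    ∀ (φ : HomSet S.carrier S.res A) (y : HomSet R.carrier R.res B), HomSet.map μ y = ι.pull φ →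
      ∃ ψ : HomSet S.carrier S.res B, HomSet.map μ ψ = φ ∧ ι.pull ψ = y

theorem isVersal_iff_relVersal {R S : CRing Λ k} (ι : CHom R S) :
    IsVersal ((Family.self R.carrier R.res).along ι.1 ι.2) ↔ RelVersal ι := Iff.rfl

theorem art_isAdicComplete (A : Art Λ k) : IsAdicComplete (maximalIdeal A) A := by
  apply Groth.Agent.Helper7.Cohen.isAdicComplete_of_isNilpotent
  obtain ⟨n, hn⟩ := exists_maximalIdeal_pow_eq_bot A
  exact ⟨n, hn⟩

theorem art_iInf_pow (A : Art Λ k) : ⨅ m, maximalIdeal A ^ m = ⊥ := by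
  obtain ⟨n, hn⟩ := exists_maximalIdeal_pow_eq_bot A
  exact le_bot_iff.1 ((iInf_le _ n).trans (le_of_eq hn))

variable (R : CRing Λ k) (n : ℕ)

theorem ps_point_X_mem {A : Art Λ k} (φ : HomSet (psCRing R n).carrier (psCRing R n).res A) (i : Fin n) :
    φ.1 (X i) ∈ maximalIdeal A := by
  rw [Art.mem_maximalIdeal_iff]
  refine (homSet_res_apply φ _).trans ?_
  change R.res (constantCoeff (X i)) = 0
  rw [constantCoeff_X]
  exact map_zero R.res

theorem ps_exists_point {A : Art Λ k} (y : HomSet R.carrier R.res A) (a : Fin n → A)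
    (ha : ∀ i, a i ∈ maximalIdeal A) :
    ∃ ψ : HomSet (psCRing R n).carrier (psCRing R n).res A, (psC R n).pull ψ = y ∧ ∀ i, ψ.1 (X i) = a i := by
  haveI := art_isAdicComplete A
  obtain ⟨ψ, hψC, hψX⟩ := ps_exists_algHom R n (maximalIdeal A) y.1 a ha
  have hres : A.res.comp ψ = (psCRing R n).res := by
    apply ps_algHom_ext R n (⊥ : Ideal k) (le_bot_iff.1 ((iInf_le _ 1).trans (by rw [pow_one])))
    · intro r
      change A.res (ψ (C r)) = R.res (constantCoeff (C r))
      rw [hψC, constantCoeff_C, homSet_res_apply]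
    · intro i
      change A.res (ψ (X i)) = R.res (constantCoeff (X i))
      rw [hψX, constantCoeff_X, map_zero]
      exact (Art.mem_maximalIdeal_iff A _).1 (ha i)
    · intro i
      change A.res (ψ (X i)) ∈ (⊥ : Ideal k)
      rw [hψX, Ideal.mem_bot]
      exact (Art.mem_maximalIdeal_iff A _).1 (ha i)
  refine ⟨⟨ψ, hres⟩, ?_, hψX⟩
  apply Subtype.ext
  apply AlgHom.ext
  intro r
  change ψ ((psC R n).1 r) = y.1 r
  rw [psC_apply, hψC]

theorem ps_point_ext {A : Art Λ k} (ψ ψ' : HomSet (psCRing R n).carrier (psCRing R n).res A)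
    (hC : (psC R n).pull ψ = (psC R n).pull ψ') (hX : ∀ i, ψ.1 (X i) = ψ'.1 (X i)) : ψ = ψ' := by
  apply Subtype.ext
  apply ps_algHom_ext R n (maximalIdeal A) (art_iInf_pow A) ψ.1 ψ'.1 _ hX (ps_point_X_mem R n ψ)
  intro r
  have := congrArg (fun t => t.1 r) hC
  change ψ.1 ((psC R n).1 r) = ψ'.1 ((psC R n).1 r) at this
  rwa [psC_apply] at this

theorem ps_relVersal : RelVersal (psC R n) := by
  intro B A μ hμ φ y hy
  choose b hb using fun i => hμ (φ.1 (X i))
  have hbm : ∀ i, b i ∈ maximalIdeal B := by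
    intro i
    rw [Art.mem_maximalIdeal_iff, ← Art.res_app μ, hb]
    exact (Art.mem_maximalIdeal_iff A _).1 (ps_point_X_mem R n φ i)
  obtain ⟨ψ, hψ1, hψ2⟩ := ps_exists_point R n y b hbm
  refine ⟨ψ, ?_, hψ1⟩
  apply ps_point_ext
  · rw [← CHom.map_pull, hψ1, hy]
  · intro i
    change μ (ψ.1 (X i)) = φ.1 (X i)
    rw [hψ2, hb]

end RelVersal

end Groth.Agent.Helper8.Schl
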