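import Mathlib
import Groth.Agent.Helper8.Schl22
import Groth.Agent.Helper6.ArtFunPullback
import Groth.Prelude.Def_W4sfdMinVersal
set_option autoImplicit false
universe u v

namespace Groth.Agent.Helper8.Schl
open ArtFun ArtFun.Art IsLocalRing CategoryTheory Groth.Agent.Helper6

variable {Λ : Type u} {k : Type u} [CommRing Λ] [Field k] [Algebra Λ k]

section Section

variable {R S P : CRing Λ k}

theorem CHom.map_truncMapOfHom_trunc (u : CHom P S) (g : CHom R P) (j : ℕ) :
    HomSet.map (CRing.truncMapOfHom u.1 u.2 j) (g.trunc j) = (u.comp g).trunc j :=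
  Subtype.ext (AlgHom.ext fun _ => rfl)

theorem CHom.pull_pull {T : CRing Λ k} (h : CHom S T) (g : CHom R S) {A : Art Λ k}
    (φ : HomSet T.carrier T.res A) : g.pull (h.pull φ) = (h.comp g).pull φ :=
  Subtype.ext (AlgHom.ext fun _ => rfl)

theorem map_mpow_eq_of_surjective (u : CHom P S) (hus : Function.Surjective u.1) (j : ℕ) :
    Ideal.map u.1 (P.mpow j) = S.mpow j := by
  change Ideal.map u.1 (maximalIdeal P.carrier ^ (j + 1)) = maximalIdeal S.carrier ^ (j + 1)
  rw [Ideal.map_pow, CRing.map_maximalIdeal_eq_of_surjective u.1 u.2 hus]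

theorem exists_section (ιS : CHom R S) (ιP : CHom R P) (u : CHom P S)
    (hu : u.comp ιP = ιS) (hus : Function.Surjective u.1) (hv : RelVersal ιS) :
    ∃ s : CHom S P, (∀ x, u.1 (s.1 x) = x) ∧ s.comp ιS = ιP := by
  classical
  have hstep : ∀ (j : ℕ) (σ : HomSet S.carrier S.res (P.trunc j)),
      HomSet.map (CRing.truncMapOfHom u.1 u.2 j) σ = S.truncHom j → ιS.pull σ = ιP.trunc j →
      ∃ σ' : HomSet S.carrier S.res (P.trunc (j + 1)),
        HomSet.map (P.truncMap j) σ' = σ ∧
        HomSet.map (CRing.truncMapOfHom u.1 u.2 (j + 1)) σ' = S.truncHom (j + 1) ∧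
        ιS.pull σ' = ιP.trunc (j + 1) := by
    intro j σ ha hb
    have hsur : Function.Surjective (S.truncMap j) := truncMap_surjective S j
    have hfp := pb_isFibreProd (CRing.truncMapOfHom u.1 u.2 j) (S.truncMap j) hsur
    obtain ⟨e, he1, he2⟩ := IsFibreProd.exists_homSet_lift hfp σ (S.truncHom (j + 1))
      (by rw [ha, CRing.truncMap_truncHom])
    obtain ⟨ν, hν1, hν2⟩ := IsFibreProd.exists_hom_lift hfp (P.truncMap j)
      (CRing.truncMapOfHom u.1 u.2 (j + 1)) (CRing.truncMapOfHom_truncMap u.1 u.2 j).symm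
    have hν1' : ∀ t, pbFst (CRing.truncMapOfHom u.1 u.2 j) (S.truncMap j) hsur (ν t) = P.truncMap j t :=
      fun t => congrArg (fun m : P.trunc (j + 1) ⟶ P.trunc j => m t) hν1
    have hν2' : ∀ t, pbSnd (CRing.truncMapOfHom u.1 u.2 j) (S.truncMap j) hsur (ν t) =
        CRing.truncMapOfHom u.1 u.2 (j + 1) t :=
      fun t => congrArg (fun m : P.trunc (j + 1) ⟶ S.trunc (j + 1) => m t) hν2
    have hνs : Function.Surjective ν := by
      intro e₀
      obtain ⟨p, hp⟩ := Ideal.Quotient.mk_surjective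
        (pbFst (CRing.truncMapOfHom u.1 u.2 j) (S.truncMap j) hsur e₀)
      obtain ⟨s₀, hs₀⟩ := Ideal.Quotient.mk_surjective
        (pbSnd (CRing.truncMapOfHom u.1 u.2 j) (S.truncMap j) hsur e₀)
      have hw := hfp.w_apply e₀
      rw [← hp, ← hs₀] at hw
      have hw' : Ideal.Quotient.mk (S.mpow j) (u.1 p) = Ideal.Quotient.mk (S.mpow j) s₀ := hw
      rw [Ideal.Quotient.eq] at hw'
      have hw'' : s₀ - u.1 p ∈ Ideal.map u.1 (P.mpow j) := by
        rw [map_mpow_eq_of_surjective u hus, ← neg_sub]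
        exact neg_mem hw'
      obtain ⟨q, hq, hqu⟩ := (Ideal.mem_map_iff_of_surjective u.1 hus).1 hw''
      refine ⟨Ideal.Quotient.mk _ (p + q), hfp.inj _ _ ?_ ?_⟩
      · refine (hν1' _).trans (Eq.trans ?_ hp)
        change Ideal.Quotient.mk (P.mpow j) (p + q) = Ideal.Quotient.mk (P.mpow j) p
        rw [Ideal.Quotient.eq, add_sub_cancel_left]
        exact hq
      · refine (hν2' _).trans (Eq.trans ?_ hs₀)
        change Ideal.Quotient.mk (S.mpow (j + 1)) (u.1 (p + q)) = Ideal.Quotient.mk (S.mpow (j + 1)) s₀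
        have h5 : u.1 (p + q) = s₀ := by
          have h6 : u.1 (p + q) = u.1 p + u.1 q := map_add u.1 p q
          rw [h6, hqu, add_sub_cancel]
        rw [h5]
    have hy : HomSet.map ν (ιP.trunc (j + 1)) = ιS.pull e := by
      apply IsFibreProd.homSet_ext hfp
      · rw [homSet_map_map, hν1, CHom.map_pull, he1, hb, CHom.trunc_compat]
      · rw [homSet_map_map, hν2, CHom.map_pull, he2, CHom.map_truncMapOfHom_trunc, hu]
        rfl
    obtain ⟨σ', hσ'1, hσ'2⟩ := hv ν hνs e (ιP.trunc (j + 1)) hy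
    refine ⟨σ', ?_, ?_, hσ'2⟩
    · rw [← hν1, ← homSet_map_map, hσ'1, he1]
    · rw [← hν2, ← homSet_map_map, hσ'1, he2]
  -- the base
  have hbase : ∃ σ : HomSet S.carrier S.res (P.trunc 0),
      HomSet.map (CRing.truncMapOfHom u.1 u.2 0) σ = S.truncHom 0 ∧ ιS.pull σ = ιP.trunc 0 := by
    have hμ : Function.Surjective (CRing.truncMapOfHom u.1 u.2 0) := by
      intro x
      obtain ⟨a, rfl⟩ := Ideal.Quotient.mk_surjective x
      obtain ⟨p, rfl⟩ := hus a
      exact ⟨Ideal.Quotient.mk _ p, rfl⟩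
    refine hv (CRing.truncMapOfHom u.1 u.2 0) hμ (S.truncHom 0) (ιP.trunc 0) ?_
    rw [CHom.map_truncMapOfHom_trunc, hu]
    rfl
  let Q : ℕ → Type u := fun j => {σ : HomSet S.carrier S.res (P.trunc j) //
    HomSet.map (CRing.truncMapOfHom u.1 u.2 j) σ = S.truncHom j ∧ ιS.pull σ = ιP.trunc j}
  let seq : ∀ j, Q j := fun j =>
    Nat.rec (motive := Q) ⟨Classical.choose hbase, Classical.choose_spec hbase⟩
      (fun j prev => ⟨Classical.choose (hstep j prev.1 prev.2.1 prev.2.2),
        (Classical.choose_spec (hstep j prev.1 prev.2.1 prev.2.2)).2⟩) j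
  have hseq : ∀ j, HomSet.map (P.truncMap j) (seq (j + 1)).1 = (seq j).1 := fun j =>
    (Classical.choose_spec (hstep j (seq j).1 (seq j).2.1 (seq j).2.2)).1
  obtain ⟨s, hs⟩ := CHom.exists_of_compat (fun j => (seq j).1) hseq
  refine ⟨s, ?_, ?_⟩
  · intro x
    apply CRing.eq_of_forall_mk_eq S
    intro j
    have h1 := congrArg (fun t => t.1 x) (seq j).2.1
    rw [← hs j] at h1
    exact h1
  · apply CHom.ext_trunc
    intro j
    rw [← CHom.pull_trunc, hs j]
    exact (seq j).2.2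

end Section

end Groth.Agent.Helper8.Schl
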