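import Mathlib
import Groth.Agent.Helper8.Schl23
set_option autoImplicit false
universe u v

namespace Groth.Agent.Helper8.Schl
open ArtFun ArtFun.Art IsLocalRing CategoryTheory Groth.Agent.Helper6

variable {Λ : Type u} {k : Type u} [CommRing Λ] [Field k] [Algebra Λ k]

section PSHom

open MvPowerSeries

variable (R : CRing Λ k) (n : ℕ)

theorem bot_iInf_pow : ⨅ m, (⊥ : Ideal k) ^ m = ⊥ :=
  le_bot_iff.1 ((iInf_le _ 1).trans (by rw [pow_one]))

/-- maps out of a power series ring into a coefficient ring -/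
theorem ps_exists_chom (T : CRing Λ k) (g : CHom R T) (t : Fin n → T.carrier)
    (ht : ∀ i, t i ∈ maximalIdeal T.carrier) :
    ∃ h : CHom (psCRing R n) T, h.comp (psC R n) = g ∧ ∀ i, h.1 (X i) = t i := by
  haveI := T.isAdicComplete
  obtain ⟨ψ, hψC, hψX⟩ := ps_exists_algHom R n (maximalIdeal T.carrier) g.1 t ht
  have hres : T.res.comp ψ = (psCRing R n).res := by
    apply ps_algHom_ext R n (⊥ : Ideal k) bot_iInf_pow
    · intro r
      change T.res (ψ (C r)) = R.res (constantCoeff (C r))
      rw [hψC, constantCoeff_C]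
      exact congrArg (fun m : R.carrier →ₐ[Λ] k => m r) g.2
    · intro i
      change T.res (ψ (X i)) = R.res (constantCoeff (X i))
      rw [hψX, constantCoeff_X, map_zero]
      exact (CRing.mem_maximalIdeal_iff T _).1 (ht i)
    · intro i
      change T.res (ψ (X i)) ∈ (⊥ : Ideal k)
      rw [hψX, Ideal.mem_bot]
      exact (CRing.mem_maximalIdeal_iff T _).1 (ht i)
  refine ⟨⟨ψ, hres⟩, ?_, hψX⟩
  apply Subtype.ext
  apply AlgHom.ext
  intro r
  change ψ ((psC R n).1 r) = g.1 r
  rw [psC_apply, hψC]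

theorem ps_C_mem_maximalIdeal {r : R.carrier} (hr : r ∈ maximalIdeal R.carrier) :
    (show (psCRing R n).carrier from C r) ∈ maximalIdeal (psCRing R n).carrier := by
  refine (CRing.mem_maximalIdeal_iff (psCRing R n) _).2 ?_
  change R.res (constantCoeff (C r)) = 0
  rw [constantCoeff_C]
  exact (CRing.mem_maximalIdeal_iff R r).1 hr

theorem ps_X_mem_maximalIdeal (i : Fin n) :
    (show (psCRing R n).carrier from X i) ∈ maximalIdeal (psCRing R n).carrier := by
  refine (CRing.mem_maximalIdeal_iff (psCRing R n) _).2 ?_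
  change R.res (constantCoeff (X i)) = 0
  rw [constantCoeff_X]
  exact map_zero R.res

/-- relative versality transfers along isomorphisms -/
theorem relVersal_of_iso {S P : CRing Λ k} (ιS : CHom R S) (ιP : CHom R P) (E : CHom S P) (E' : CHom P S)
    (h1 : ∀ x, E'.1 (E.1 x) = x) (hE : E.comp ιS = ιP) (hE' : E'.comp ιP = ιS) (hv : RelVersal ιP) :
    RelVersal ιS := by
  intro B A μ hμ φ y hy
  obtain ⟨ψ', hψ'1, hψ'2⟩ := hv μ hμ (E'.pull φ) y (by rw [hy, CHom.pull_pull, hE'])
  refine ⟨E.pull ψ', ?_, ?_⟩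
  · rw [CHom.map_pull, hψ'1, CHom.pull_pull]
    apply Subtype.ext
    apply AlgHom.ext
    intro x
    change φ.1 (E'.1 (E.1 x)) = φ.1 x
    rw [h1]
  · rw [CHom.pull_pull, hE, hψ'2]

theorem CHom.comp_assoc' {R₁ R₂ R₃ R₄ : CRing Λ k} (h : CHom R₃ R₄) (g : CHom R₂ R₃) (f : CHom R₁ R₂) :
    (h.comp g).comp f = h.comp (g.comp f) := Subtype.ext rfl

theorem exists_ps_iso_of_relVersal {R S : CRing Λ k} (ι : CHom R S) (hv : RelVersal ι) :
    ∃ (n : ℕ) (s : CHom S (psCRing R n)), Function.Bijective s.1 ∧ s.comp ι = psC R n := by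
  classical
  let Gen : Finset S.carrier → Prop := fun T =>
    (∀ t ∈ T, t ∈ maximalIdeal S.carrier) ∧
      Ideal.span (T : Set S.carrier) ⊔ Ideal.map ι.1 (maximalIdeal R.carrier) = maximalIdeal S.carrier
  have hex : ∃ c, ∃ T, Gen T ∧ T.card = c := by
    obtain ⟨T₀, hT₀⟩ := (IsNoetherian.noetherian (maximalIdeal S.carrier) : (maximalIdeal S.carrier).FG)
    have h0 : Ideal.span (T₀ : Set S.carrier) = maximalIdeal S.carrier := hT₀
    refine ⟨_, T₀, ⟨fun t ht => h0 ▸ Ideal.subset_span ht, ?_⟩, rfl⟩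
    rw [h0]
    exact sup_eq_left.2 (CRing.map_maximalIdeal_le ι.1 ι.2)
  obtain ⟨T, hT, hc⟩ := Nat.find_spec hex
  have hmin : ∀ T', Gen T' → T.card ≤ T'.card := fun T' h =>
    hc.le.trans (Nat.find_min' hex ⟨T', h, rfl⟩)
  let x : Fin T.card → S.carrier := fun i => (T.equivFin.symm i : S.carrier)
  have hxT : ∀ i, x i ∈ T := fun i => (T.equivFin.symm i).2
  have hxinj : Function.Injective x := Subtype.val_injective.comp T.equivFin.symm.injective
  have hxsurj : ∀ t ∈ T, ∃ i, x i = t := fun t ht =>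
    ⟨T.equivFin ⟨t, ht⟩, by simp [x]⟩
  have hxm : ∀ i, x i ∈ maximalIdeal S.carrier := fun i => hT.1 _ (hxT i)
  obtain ⟨u, huC, huX⟩ := ps_exists_chom R T.card S ι x hxm
  have huC' : ∀ r, u.1 (C r) = ι.1 r := fun r => by
    have := congrArg (fun t => t.1 r) huC
    change u.1 ((psC R T.card).1 r) = ι.1 r at this
    rwa [psC_apply] at this
  have hus : Function.Surjective u.1 := by
    apply CRing.surjective_of_map_maximalIdeal_sup_sq u.1 u.2
    apply le_antisymm (sup_le (CRing.map_maximalIdeal_le u.1 u.2) (Ideal.pow_le_self two_ne_zero))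
    rw [← hT.2]
    apply sup_le
    · rw [Ideal.span_le]
      intro t ht
      obtain ⟨i, rfl⟩ := hxsurj t ht
      apply Ideal.mem_sup_left
      rw [← huX i]
      exact Ideal.mem_map_of_mem _ (ps_X_mem_maximalIdeal R T.card i)
    · rw [Ideal.map_le_iff_le_comap]
      intro r hr
      apply Ideal.mem_sup_left
      rw [← huC' r]
      exact Ideal.mem_map_of_mem _ (ps_C_mem_maximalIdeal R T.card hr)
  obtain ⟨s, hs1, hs2⟩ := exists_section ι (psC R T.card) u huC hus hv
  -- the kernel of `u` lies in `𝔪_R P + 𝔪_P²`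
  have hK : ∀ f : MvPowerSeries (Fin T.card) R.carrier, u.1 f = 0 →
      (f : (psCRing R T.card).carrier) ∈
        Ideal.map (psC R T.card).1 (maximalIdeal R.carrier) ⊔ maximalIdeal (psCRing R T.card).carrier ^ 2 := by
    intro f hf
    have hf0 : constantCoeff f ∈ maximalIdeal R.carrier := by
      rw [CRing.mem_maximalIdeal_iff]
      have h1 : S.res (u.1 f) = (psCRing R T.card).res f :=
        congrArg (fun t : (psCRing R T.card).carrier →ₐ[Λ] k => t f) u.2
      rw [hf, map_zero] at h1
      exact h1.symm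
    obtain ⟨g, hg, hg0⟩ := Groth.Agent.Helper5.MvPSIdeal.exists_decomp (f - C (constantCoeff f)) (by simp)
    have hdec : f = C (constantCoeff f) + ∑ i, X i * g i := by rw [← hg]; ring
    by_cases hall : ∀ i, constantCoeff (g i) ∈ maximalIdeal R.carrier
    · rw [hdec]
      refine Ideal.add_mem _ (Ideal.mem_sup_left ?_) (Ideal.mem_sup_right (Ideal.sum_mem _ fun i _ => ?_))
      · rw [← psC_apply]
        exact Ideal.mem_map_of_mem _ hf0
      · rw [pow_two]
        exact Ideal.mul_mem_mul (ps_X_mem_maximalIdeal R T.card i)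
          ((ps_mem_maximalIdeal_iff T.card (g i)).2 (hall i))
    · exfalso
      push Not at hall
      obtain ⟨j, hj⟩ := hall
      have hgu : IsUnit (g j) := by
        rw [MvPowerSeries.isUnit_iff_constantCoeff]
        by_contra h
        exact hj ((mem_maximalIdeal _).2 h)
      have hugu : IsUnit (u.1 (g j)) := hgu.map u.1
      have hu_add : ∀ a b : MvPowerSeries (Fin T.card) R.carrier, u.1 (a + b) = u.1 a + u.1 b :=
        fun a b => map_add u.1 a b
      have hu_mul : ∀ a b : MvPowerSeries (Fin T.card) R.carrier, u.1 (a * b) = u.1 a * u.1 b :=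
        fun a b => map_mul u.1 a b
      have hu_sum : ∀ F : Fin T.card → MvPowerSeries (Fin T.card) R.carrier,
          u.1 (∑ i, F i) = ∑ i, u.1 (F i) := fun F => map_sum u.1 F Finset.univ
      have heq : u.1 f = ι.1 (constantCoeff f) + ∑ i, x i * u.1 (g i) := by
        have h1 : u.1 f = u.1 (C (constantCoeff f) + ∑ i, X i * g i) := congrArg u.1 hdec
        rw [h1, hu_add, hu_sum, huC']
        congr 1
        apply Finset.sum_congr rfl
        intro i _
        rw [hu_mul, huX]
      rw [hf] at heq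
      have hxj : x j * u.1 (g j) ∈ Ideal.span ((T.erase (x j) : Finset S.carrier) : Set S.carrier) ⊔
          Ideal.map ι.1 (maximalIdeal R.carrier) := by
        have h2 : x j * u.1 (g j) = -(ι.1 (constantCoeff f)) -
            ∑ i ∈ Finset.univ.erase j, x i * u.1 (g i) := by
          rw [← Finset.add_sum_erase _ _ (Finset.mem_univ j)] at heq
          linear_combination -heq
        rw [h2]
        refine Ideal.sub_mem _ (neg_mem (Ideal.mem_sup_right (Ideal.mem_map_of_mem _ hf0)))
          (Ideal.sum_mem _ fun i hi => Ideal.mem_sup_left (Ideal.mul_mem_right _ _ (Ideal.subset_span ?_)))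
        exact Finset.mem_coe.2 (Finset.mem_erase.2 ⟨fun h => (Finset.mem_erase.1 hi).1 (hxinj h), hxT i⟩)
      have hxj' := (Ideal.mul_unit_mem_iff_mem _ hugu).1 hxj
      have hGen : Gen (T.erase (x j)) := by
        refine ⟨fun t ht => hT.1 t (Finset.mem_of_mem_erase ht), ?_⟩
        apply le_antisymm
        · exact sup_le (Ideal.span_le.2 fun t ht => hT.1 t (Finset.mem_of_mem_erase ht))
            (CRing.map_maximalIdeal_le ι.1 ι.2)
        · rw [← hT.2]
          apply sup_le _ le_sup_right
          rw [Ideal.span_le]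
          intro t ht
          by_cases h : t = x j
          · rw [h]
            exact hxj'
          · exact Ideal.mem_sup_left (Ideal.subset_span (Finset.mem_coe.2 (Finset.mem_erase.2 ⟨h, ht⟩)))
      have h3 := hmin _ hGen
      rw [Finset.card_erase_of_mem (hxT j)] at h3
      have hpos : 0 < T.card := Finset.card_pos.2 ⟨x j, hxT j⟩
      omega
  -- `s ∘ u` is surjective
  have he : Function.Surjective (s.comp u).1 := by
    apply CRing.surjective_of_map_maximalIdeal_sup_sq (s.comp u).1 (s.comp u).2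
    apply le_antisymm (sup_le (CRing.map_maximalIdeal_le (s.comp u).1 (s.comp u).2)
      (Ideal.pow_le_self two_ne_zero))
    intro p hp
    have h1 : u.1 ((s.comp u).1 p - p) = 0 := by
      have : u.1 ((s.comp u).1 p - p) = u.1 (s.1 (u.1 p)) - u.1 p := map_sub u.1 _ _
      rw [this, hs1, sub_self]
    have h2 := hK _ h1
    have h3 : p = (s.comp u).1 p - ((s.comp u).1 p - p) := by ring
    rw [h3]
    refine Ideal.sub_mem _ (Ideal.mem_sup_left (Ideal.mem_map_of_mem _ hp)) ?_
    have hle : Ideal.map (psC R T.card).1 (maximalIdeal R.carrier) ⊔ maximalIdeal (psCRing R T.card).carrier ^ 2 ≤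
        Ideal.map (s.comp u).1 (maximalIdeal (psCRing R T.card).carrier) ⊔
          maximalIdeal (psCRing R T.card).carrier ^ 2 := by
      refine sup_le (le_trans ?_ le_sup_left) le_sup_right
      rw [Ideal.map_le_iff_le_comap]
      intro r hr
      have h4 : (s.comp u).comp (psC R T.card) = psC R T.card := by
        rw [CHom.comp_assoc', huC, hs2]
      have h5 : (s.comp u).1 ((psC R T.card).1 r) = (psC R T.card).1 r := congrArg (fun t => t.1 r) h4
      rw [Ideal.mem_comap, ← h5]
      apply Ideal.mem_map_of_mem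
      rw [psC_apply]
      exact ps_C_mem_maximalIdeal R T.card hr
    exact hle h2
  refine ⟨T.card, s, ⟨?_, ?_⟩, hs2⟩
  · intro a b hab
    rw [← hs1 a, ← hs1 b, hab]
  · intro p
    obtain ⟨p', hp'⟩ := he p
    exact ⟨u.1 p', hp'⟩

end PSHom

end Groth.Agent.Helper8.Schl
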