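import Mathlib
import Groth.Agent.Helper8.Schl24
set_option autoImplicit false
universe u v

namespace Groth.Agent.Helper8.Schl
open ArtFun ArtFun.Art IsLocalRing CategoryTheory Groth.Agent.Helper6

variable {Λ : Type u} {k : Type u} [CommRing Λ] [Field k] [Algebra Λ k]

open MvPowerSeries

/-- an algebra isomorphism onto a power series ring is compatible with the augmentations -/
theorem ps_res_of_algEquiv (R S : CRing Λ k) [Algebra R.carrier S.carrier] [IsScalarTower Λ R.carrier S.carrier]
    (hRS : S.res.comp (IsScalarTower.toAlgHom Λ R.carrier S.carrier) = R.res) (n : ℕ)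
    (e : S.carrier ≃ₐ[R.carrier] MvPowerSeries (Fin n) R.carrier) :
    S.res.comp (e.symm.toAlgHom.restrictScalars Λ) = (psCRing R n).res := by
  apply ps_algHom_ext R n (⊥ : Ideal k) bot_iInf_pow
  · intro r
    change S.res (e.symm (C r)) = R.res (constantCoeff (C r))
    have h1 : e.symm (C r) = algebraMap R.carrier S.carrier r := by
      have := e.symm.commutes r
      rwa [MvPowerSeries.algebraMap_apply] at this
    rw [h1, constantCoeff_C]
    exact congrArg (fun t : R.carrier →ₐ[Λ] k => t r) hRS
  · intro i
    change S.res (e.symm (X i)) = R.res (constantCoeff (X i))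
    rw [constantCoeff_X, map_zero, ← CRing.mem_maximalIdeal_iff, mem_maximalIdeal, mem_nonunits_iff]
    intro hu
    have h2 : IsUnit (e (e.symm (X i))) := hu.map e
    rw [AlgEquiv.apply_symm_apply, MvPowerSeries.isUnit_iff_constantCoeff, constantCoeff_X] at h2
    exact not_isUnit_zero h2
  · intro i
    change S.res (e.symm (X i)) ∈ (⊥ : Ideal k)
    rw [Ideal.mem_bot, ← CRing.mem_maximalIdeal_iff, mem_maximalIdeal, mem_nonunits_iff]
    intro hu
    have h2 : IsUnit (e (e.symm (X i))) := hu.map e
    rw [AlgEquiv.apply_symm_apply, MvPowerSeries.isUnit_iff_constantCoeff, constantCoeff_X] at h2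
    exact not_isUnit_zero h2

theorem s12718 (R S : CRing Λ k) [Algebra R.carrier S.carrier] [IsScalarTower Λ R.carrier S.carrier]
    (hRS : S.res.comp (IsScalarTower.toAlgHom Λ R.carrier S.carrier) = R.res) :
    IsVersal ((Family.self R.carrier R.res).along (IsScalarTower.toAlgHom Λ R.carrier S.carrier) hRS) ↔
      ∃ n : ℕ, Nonempty (S.carrier ≃ₐ[R.carrier] MvPowerSeries (Fin n) R.carrier) := by
  let ι : CHom R S := ⟨IsScalarTower.toAlgHom Λ R.carrier S.carrier, hRS⟩
  constructor
  · intro hv
    have hv' : RelVersal ι := hv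
    obtain ⟨n, s, hbij, hs2⟩ := exists_ps_iso_of_relVersal ι hv'
    let sR : S.carrier →ₐ[R.carrier] MvPowerSeries (Fin n) R.carrier :=
      { s.1.toRingHom with
        commutes' := fun r => congrArg (fun t => t.1 r) hs2 }
    exact ⟨n, ⟨AlgEquiv.ofBijective sR hbij⟩⟩
  · rintro ⟨n, ⟨e⟩⟩
    have hres' := ps_res_of_algEquiv R S hRS n e
    have hres : (psCRing R n).res.comp (e.toAlgHom.restrictScalars Λ) = S.res := by
      apply AlgHom.ext
      intro x
      have := congrArg (fun t : MvPowerSeries (Fin n) R.carrier →ₐ[Λ] k => t (e x)) hres'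
      change S.res (e.symm (e x)) = (psCRing R n).res (e x) at this
      rw [AlgEquiv.symm_apply_apply] at this
      exact this.symm
    let E : CHom S (psCRing R n) := ⟨e.toAlgHom.restrictScalars Λ, hres⟩
    let E' : CHom (psCRing R n) S := ⟨e.symm.toAlgHom.restrictScalars Λ, hres'⟩
    have hv : RelVersal ι := by
      apply relVersal_of_iso R ι (psC R n) E E' (fun x => e.symm_apply_apply x) _ _ (ps_relVersal R n)
      · apply Subtype.ext
        apply AlgHom.ext
        intro r
        exact e.commutes r
      · apply Subtype.ext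
        apply AlgHom.ext
        intro r
        exact e.symm.commutes r
    exact hv

end Groth.Agent.Helper8.Schl
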