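import Mathlib
import Groth.Agent.Helper8.Schl25
set_option autoImplicit false
universe u v

namespace Groth.Agent.Helper8.Schl
open ArtFun ArtFun.Art IsLocalRing CategoryTheory Groth.Agent.Helper6

variable {Λ : Type u} {k : Type u} [CommRing Λ] [Field k] [Algebra Λ k]

section Base

variable [IsLocalRing Λ] [IsNoetherianRing Λ] [IsAdicComplete (maximalIdeal Λ) Λ]

/-- the base ring as a coefficient ring -/
@[reducible] noncomputable def baseCRing (hk : Function.Surjective (algebraMap Λ k)) : CRing Λ k :=
  { carrier := Λ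
    res := Algebra.ofId Λ k
    res_surjective := hk
    isAdicComplete := inferInstance }

instance (hk : Function.Surjective (algebraMap Λ k)) (A : Art Λ k) :
    Subsingleton (HomSet (baseCRing hk).carrier (baseCRing hk).res A) :=
  ⟨fun a b => Subtype.ext (Subsingleton.elim _ _)⟩

/-- the structure map, as a map of coefficient rings -/
noncomputable def baseHom (hk : Function.Surjective (algebraMap Λ k)) (R : CRing Λ k) :
    CHom (baseCRing hk) R :=
  ⟨IsScalarTower.toAlgHom Λ Λ R.carrier, Subsingleton.elim _ _⟩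

theorem relVersal_baseHom_iff (hk : Function.Surjective (algebraMap Λ k)) (R : CRing Λ k) :
    RelVersal (baseHom hk R) ↔ IsSmoothFunctor (hR R.carrier R.res) := by
  constructor
  · intro hv B A μ hμ φ
    let y : HomSet (baseCRing hk).carrier (baseCRing hk).res B :=
      ⟨Algebra.ofId Λ B, Subsingleton.elim _ _⟩
    obtain ⟨ψ, hψ, -⟩ := hv μ hμ φ y (Subsingleton.elim _ _)
    exact ⟨ψ, hψ⟩
  · intro hs B A μ hμ φ y _
    obtain ⟨ψ, hψ⟩ := hs μ hμ φ
    exact ⟨ψ, hψ, Subsingleton.elim _ _⟩

theorem s12722 [IsNoetherianRing Λ] [Module.Finite Λ k]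
    (hk : Function.Surjective (algebraMap Λ k)) (R : CRing Λ k) :
    IsSmoothFunctor (hR R.carrier R.res) ↔
      ∃ n : ℕ, Nonempty (R.carrier ≃ₐ[Λ] MvPowerSeries (Fin n) Λ) := by
  rw [← relVersal_baseHom_iff hk R]
  exact s12718 (baseCRing hk) R (baseHom hk R).2

end Base

end Groth.Agent.Helper8.Schl
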