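import Mathlib
import Groth.Agent.Helper8.Schl27
import Groth.Agent.Helper6.LocalLength
import Groth.Agent.Helper6.ArtFunPullback2
set_option autoImplicit false
universe u v

namespace Groth.Agent.Helper8.Ess
open ArtFun ArtFun.Art IsLocalRing CategoryTheory Groth.Agent.Helper6

variable {Λ : Type u} {k : Type u} [CommRing Λ] [Field k] [Algebra Λ k]

section SubArt

variable (B : Art Λ k) (C : Subalgebra Λ B) (hC : ∀ c : k, ∃ x ∈ C, B.res x = c)

include hC in
theorem sub_isUnit_of_res_ne_zero (x : C) (hx : B.res x ≠ 0) : IsUnit x := by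
  obtain ⟨y, hyC, hy⟩ := hC (B.res x)⁻¹
  let y' : C := ⟨y, hyC⟩
  have hν : IsNilpotent (1 - x * y') := by
    have h1 : IsNilpotent ((1 - x * y' : C) : B) := by
      apply art_isNilpotent_of_res_eq_zero
      change B.res (1 - (x : B) * y) = 0
      rw [map_sub, map_one, map_mul, hy, mul_inv_cancel₀ hx, sub_self]
    obtain ⟨n, hn⟩ := h1
    refine ⟨n, Subtype.ext ?_⟩
    rw [SubmonoidClass.coe_pow]
    exact hn
  have h2 : IsUnit (x * y') := by
    have := hν.isUnit_one_sub
    rwa [sub_sub_cancel] at this
  exact isUnit_of_mul_isUnit_left h2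

include hC in
theorem sub_isLocalRing : IsLocalRing C := by
  haveI : Nontrivial C := ⟨⟨0, 1, fun h => zero_ne_one (congrArg Subtype.val h)⟩⟩
  refine IsLocalRing.of_isUnit_or_isUnit_one_sub_self fun x => ?_
  by_cases h : B.res x = 0
  · right
    apply sub_isUnit_of_res_ne_zero B C hC
    change B.res (1 - (x : B)) ≠ 0
    rw [map_sub, map_one, h, sub_zero]
    exact one_ne_zero
  · left
    exact sub_isUnit_of_res_ne_zero B C hC x h

include hC in
theorem sub_isArtinianRing : IsArtinianRing C := by
  haveI := sub_isLocalRing B C hC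
  haveI : IsLocalHom (algebraMap C B) := by
    refine ⟨fun x hx => ?_⟩
    apply sub_isUnit_of_res_ne_zero B C hC
    intro h0
    have h1 : (x : B) ∈ maximalIdeal B := (Art.mem_maximalIdeal_iff B _).2 h0
    exact (mem_maximalIdeal _).1 h1 hx
  have hs : ∀ a : B, ∃ b : C, a - algebraMap C B b ∈ maximalIdeal B := by
    intro a
    obtain ⟨y, hyC, hy⟩ := hC (B.res a)
    refine ⟨⟨y, hyC⟩, ?_⟩
    rw [Art.mem_maximalIdeal_iff]
    change B.res (a - y) = 0
    rw [map_sub, hy, sub_self]
  have len : Module.length C B = Module.length B B := length_eq_of_residue_surjective hs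
  rw [isArtinianRing_iff_isFiniteLength, ← Module.length_ne_top_iff]
  have hle := Module.length_le_of_injective (Algebra.linearMap C B) Subtype.val_injective
  rw [len] at hle
  intro htop
  rw [htop, top_le_iff] at hle
  exact Module.length_ne_top hle

/-- a subalgebra surjecting onto the residue field, as an object -/
noncomputable def subArt : Art Λ k :=
  haveI := sub_isLocalRing B C hC
  haveI := sub_isArtinianRing B C hC
  { carrier := C
    res := B.res.comp C.val
    res_surjective := fun c => by
      obtain ⟨y, hyC, hy⟩ := hC c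
      exact ⟨⟨y, hyC⟩, hy⟩ }

/-- the inclusion -/
noncomputable def subArtHom : subArt B C hC ⟶ B := ⟨C.val, rfl⟩

theorem subArtHom_apply (x : C) : subArtHom B C hC x = (x : B) := rfl

end SubArt

end Groth.Agent.Helper8.Ess
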