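import Mathlib
import Groth.Agent.Helper8.Ess1
set_option autoImplicit false
universe u v

namespace Groth.Agent.Helper8.Ess
open ArtFun ArtFun.Art IsLocalRing CategoryTheory Groth.Agent.Helper6

variable {Λ : Type u} {k : Type u} [CommRing Λ] [Field k] [Algebra Λ k]

/-- the residue field as an algebra over an object -/
@[reducible] def resAlg (A : Art Λ k) : Algebra A k := A.res.toRingHom.toAlgebra

theorem resTower (A : Art Λ k) : letI := resAlg A; IsScalarTower Λ A k :=
  letI := resAlg A
  IsScalarTower.of_algebraMap_eq fun a => (A.res.commutes a).symm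

theorem res_smul (A : Art Λ k) (a : A) (c : k) : letI := resAlg A; a • c = A.res a * c := rfl

/-- pull-back of derivations to the residue field -/
noncomputable def pullDer {A B : Art Λ k} (f : B ⟶ A)
    (D : letI := resAlg A; Derivation Λ A k) : (letI := resAlg B; Derivation Λ B k) :=
  letI := resAlg A
  letI := resAlg B
  { toFun := fun b => D (f.toAlgHom b)
    map_add' := fun b b' => by rw [map_add, map_add]
    map_smul' := fun c b => by
      rw [map_smul, D.map_smul]
      rfl
    map_one_eq_zero' := by
      change D (f.toAlgHom 1) = 0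
      rw [map_one]
      exact D.map_one_eq_zero
    leibniz' := fun b b' => by
      change D (f.toAlgHom (b * b')) = b • D (f.toAlgHom b') + b' • D (f.toAlgHom b)
      rw [map_mul, D.leibniz, res_smul, res_smul, res_smul, res_smul]
      have h1 : A.res (f.toAlgHom b) = B.res b := Art.res_app f b
      have h2 : A.res (f.toAlgHom b') = B.res b' := Art.res_app f b'
      rw [h1, h2] }

theorem pullDer_apply {A B : Art Λ k} (f : B ⟶ A) (D : letI := resAlg A; Derivation Λ A k) (b : B) :
    letI := resAlg A
    letI := resAlg B
    pullDer f D b = D (f.toAlgHom b) := rfl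

/-- a non-surjective morphism is killed by a non-zero derivation -/
theorem exists_der_of_not_surjective {A B : Art Λ k} (f : B ⟶ A) (hf : ¬ Function.Surjective f) :
    letI := resAlg A
    ∃ D : Derivation Λ A k, D ≠ 0 ∧ ∀ b : B, D (f.toAlgHom b) = 0 := by
  letI := resAlg A
  haveI := resTower A
  have hres : Function.Surjective (algebraMap A k) := A.res_surjective
  have hρ : Function.Surjective fun r => algebraMap A k (f.toAlgHom r) := by
    intro c
    obtain ⟨r, hr⟩ := B.res_surjective c
    exact ⟨r, (Art.res_app f r).trans hr⟩
  have hkerρ : RingHom.ker ((algebraMap A k).comp (f.toAlgHom : B →+* A)) = maximalIdeal B := by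
    ext r
    rw [RingHom.mem_ker, Art.mem_maximalIdeal_iff]
    have : ((algebraMap A k).comp (f.toAlgHom : B →+* A)) r = B.res r := Art.res_app f r
    rw [this]
  have hJ : Ideal.map f.toAlgHom (RingHom.ker ((algebraMap A k).comp (f.toAlgHom : B →+* A))) ⊔
      maximalIdeal A ^ 2 ≠ maximalIdeal A := by
    rw [hkerρ]
    intro h
    exact hf (surjective_of_map_maximalIdeal_sup_sq f h)
  exact exists_derivation_vanishing_on_range hres f.toAlgHom hρ hJ

/-- descent of a derivation along a surjection -/
noncomputable def descDer {A B : Art Λ k} (f : B ⟶ A) (hf : Function.Surjective f)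
    (D : letI := resAlg B; Derivation Λ B k)
    (hker : letI := resAlg B; ∀ n : B, f.toAlgHom n = 0 → D n = 0) :
    (letI := resAlg A; Derivation Λ A k) :=
  letI := resAlg A
  letI := resAlg B
  have hinv : ∀ a, f.toAlgHom (Function.surjInv hf a) = a := Function.surjInv_eq hf
  have key : ∀ b b' : B, f.toAlgHom b = f.toAlgHom b' → D b = D b' := fun b b' h => by
    have h1 : D (b - b') = 0 := hker _ (by rw [map_sub, h, sub_self])
    rwa [map_sub, sub_eq_zero] at h1
  { toFun := fun a => D (Function.surjInv hf a)
    map_add' := fun a a' => by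
      rw [← map_add]
      exact key _ _ (by rw [map_add, hinv, hinv, hinv])
    map_smul' := fun c a => by
      rw [← D.map_smul]
      exact key _ _ (by rw [map_smul, hinv, hinv]; rfl)
    map_one_eq_zero' := by
      change D (Function.surjInv hf 1) = 0
      rw [← D.map_one_eq_zero]
      exact key _ _ (by rw [map_one, hinv])
    leibniz' := fun a a' => by
      change D (Function.surjInv hf (a * a')) =
        a • D (Function.surjInv hf a') + a' • D (Function.surjInv hf a)
      have h1 : D (Function.surjInv hf (a * a')) =
          D (Function.surjInv hf a * Function.surjInv hf a') :=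
        key _ _ (by rw [map_mul, hinv, hinv, hinv])
      rw [h1, D.leibniz, res_smul, res_smul, res_smul, res_smul]
      have h2 : ∀ x, B.res (Function.surjInv hf x) = A.res x := fun x => by
        rw [← Art.res_app f, hinv]
      rw [h2, h2] }

theorem descDer_apply {A B : Art Λ k} (f : B ⟶ A) (hf : Function.Surjective f)
    (D : letI := resAlg B; Derivation Λ B k)
    (hker : letI := resAlg B; ∀ n : B, f.toAlgHom n = 0 → D n = 0) (b : B) :
    letI := resAlg A
    letI := resAlg B
    descDer f hf D hker (f.toAlgHom b) = D b := by
  letI := resAlg A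
  letI := resAlg B
  change D (Function.surjInv hf (f.toAlgHom b)) = D b
  have h1 : D (Function.surjInv hf (f.toAlgHom b) - b) = 0 :=
    hker _ (by rw [map_sub, Function.surjInv_eq hf, sub_self])
  rwa [map_sub, sub_eq_zero] at h1

/-- essential surjections -/
def IsEssSurj {A B : Art Λ k} (f : B ⟶ A) : Prop :=
  Function.Surjective f ∧ ∀ (C : Art Λ k) (g : C ⟶ B), Function.Surjective (g ≫ f) → Function.Surjective g

theorem isEssSurj_of_bijective_pullDer {A B : Art Λ k} (f : B ⟶ A)
    (h : Function.Bijective (pullDer f)) : IsEssSurj f := by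
  letI := resAlg A
  letI := resAlg B
  constructor
  · by_contra hf
    obtain ⟨D, hD0, hD⟩ := exists_der_of_not_surjective f hf
    apply hD0
    apply h.1
    apply Derivation.ext
    intro b
    exact (hD b).trans (by rfl)
  · intro C g hgf
    by_contra hg
    obtain ⟨DB, hDB0, hDB⟩ := exists_der_of_not_surjective g hg
    obtain ⟨DA, hDA⟩ := h.2 DB
    apply hDB0
    have hDA0 : DA = 0 := by
      apply Derivation.ext
      intro a
      obtain ⟨c, rfl⟩ := hgf a
      have h1 : DA (f.toAlgHom (g.toAlgHom c)) = pullDer f DA (g.toAlgHom c) := rfl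
      have h2 : (g ≫ f) c = f.toAlgHom (g.toAlgHom c) := rfl
      rw [h2, h1, hDA, hDB]
      rfl
    rw [← hDA, hDA0]
    apply Derivation.ext
    intro b
    rfl

theorem bijective_pullDer_of_isEssSurj {A B : Art Λ k} (f : B ⟶ A) (h : IsEssSurj f) :
    Function.Bijective (pullDer f) := by
  letI := resAlg A
  letI := resAlg B
  obtain ⟨hf, hess⟩ := h
  constructor
  · intro D D' hDD
    apply Derivation.ext
    intro a
    obtain ⟨b, rfl⟩ := hf a
    exact congrArg (fun E : Derivation Λ B k => E b) hDD
  · intro DB
    have hker : ∀ n : B, f.toAlgHom n = 0 → DB n = 0 := by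
      intro n₀ hn₀
      by_contra hD
      have hres0 : B.res n₀ = 0 := by
        have h1 : A.res (f.toAlgHom n₀) = B.res n₀ := Art.res_app f n₀
        rw [← h1, hn₀, map_zero]
      -- the subalgebra of constants of `DB`
      let C : Subalgebra Λ B :=
        { carrier := {b | DB b = 0}
          mul_mem' := fun {b b'} hb hb' => by
            change DB (b * b') = 0
            rw [DB.leibniz, (show DB b = 0 from hb), (show DB b' = 0 from hb'), smul_zero, smul_zero, add_zero]
          add_mem' := fun {b b'} hb hb' => by
            change DB (b + b') = 0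
            rw [map_add, (show DB b = 0 from hb), (show DB b' = 0 from hb'), add_zero]
          algebraMap_mem' := fun r => DB.map_algebraMap r }
      have hcorr : ∀ b : B, ∃ x ∈ C, f.toAlgHom x = f.toAlgHom b ∧ B.res x = B.res b := by
        intro b
        obtain ⟨β, hβ⟩ := B.res_surjective (DB b / DB n₀)
        refine ⟨b - β * n₀, ?_, ?_, ?_⟩
        · change DB (b - β * n₀) = 0
          rw [map_sub, DB.leibniz, res_smul, res_smul, hres0, hβ, zero_mul, add_zero,
            div_mul_cancel₀ _ hD, sub_self]
        · rw [map_sub, map_mul, hn₀, mul_zero, sub_zero]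
        · rw [map_sub, map_mul, hres0, mul_zero, sub_zero]
      have hC : ∀ c : k, ∃ x ∈ C, B.res x = c := by
        intro c
        obtain ⟨b, hb⟩ := B.res_surjective c
        obtain ⟨x, hx, -, hx2⟩ := hcorr b
        exact ⟨x, hx, hx2.trans hb⟩
      have hgf : Function.Surjective (subArtHom B C hC ≫ f) := by
        intro a
        obtain ⟨b, rfl⟩ := hf a
        obtain ⟨x, hx, hx1, -⟩ := hcorr b
        exact ⟨⟨x, hx⟩, hx1⟩
      obtain ⟨⟨x, hx⟩, hxn⟩ := hess _ _ hgf n₀
      have : x = n₀ := hxn
      rw [this] at hx
      exact hD hx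
    refine ⟨descDer f hf DB hker, ?_⟩
    apply Derivation.ext
    intro b
    exact descDer_apply f hf DB hker b

end Groth.Agent.Helper8.Ess
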