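import Mathlib
import Groth.Agent.Helper8.Ess2
import Groth.Agent.Helper8.Schl6
set_option autoImplicit false
universe u v

namespace Groth.Agent.Helper8.Ess
open ArtFun ArtFun.Art IsLocalRing CategoryTheory Groth.Agent.Helper6 TensorProduct

variable {Λ : Type u} {k : Type u} [CommRing Λ] [Field k] [Algebra Λ k]

/-- derivations to the residue field as the dual of `k ⊗ Ω` -/
noncomputable def derDualEquiv (A : Art Λ k) : letI := resAlg A
    Derivation Λ A k ≃ₗ[k] Module.Dual k (k ⊗[A] Ω[A⁄Λ]) :=
  letI := resAlg A
  haveI := resTower A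
  ((KaehlerDifferential.linearMapEquivDerivation Λ A (M := k)).symm.extendScalarsOfSurjective
    (S := k) A.res_surjective).trans (LinearMap.liftBaseChangeEquiv k)

theorem finrank_der (A : Art Λ k) : letI := resAlg A
    Module.finrank k (Derivation Λ A k) = Module.finrank k (k ⊗[A] Ω[A⁄Λ]) :=
  letI := resAlg A
  (derDualEquiv A).finrank_eq.trans Subspace.dual_finrank_eq

theorem finite_tensor_kaehler [Module.Finite Λ k] (A : Art Λ k) : letI := resAlg A
    Module.Finite k (k ⊗[A] Ω[A⁄Λ]) := by
  letI := resAlg A
  haveI : Module.Finite Λ A := Groth.Agent.Helper8.Schl.art_finite A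
  infer_instance

theorem finite_der [Module.Finite Λ k] (A : Art Λ k) : letI := resAlg A
    Module.Finite k (Derivation Λ A k) := by
  letI := resAlg A
  haveI := finite_tensor_kaehler A
  exact Module.Finite.equiv (derDualEquiv A).symm

/-- pull-back of derivations as a linear map -/
noncomputable def pullDerL {A B : Art Λ k} (f : B ⟶ A) : letI := resAlg A; letI := resAlg B
    Derivation Λ A k →ₗ[k] Derivation Λ B k :=
  letI := resAlg A
  letI := resAlg B
  { toFun := pullDer f
    map_add' := fun D D' => by
      apply Derivation.ext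
      intro b
      rfl
    map_smul' := fun c D => by
      apply Derivation.ext
      intro b
      rfl }

theorem pullDer_injective {A B : Art Λ k} (f : B ⟶ A) (hf : Function.Surjective f) :
    Function.Injective (pullDer f) := by
  letI := resAlg A
  letI := resAlg B
  intro D D' hDD
  apply Derivation.ext
  intro a
  obtain ⟨b, rfl⟩ := hf a
  exact congrArg (fun E : Derivation Λ B k => E b) hDD

theorem isEssSurj_iff_finrank [Module.Finite Λ k] {A B : Art Λ k} (f : B ⟶ A) :
    letI := resAlg A
    letI := resAlg B
    IsEssSurj f ↔ (Function.Surjective f ∧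
      Module.finrank k (k ⊗[B] Ω[B⁄Λ]) = Module.finrank k (k ⊗[A] Ω[A⁄Λ])) := by
  letI := resAlg A
  letI := resAlg B
  haveI := finite_der A
  haveI := finite_der B
  constructor
  · intro h
    refine ⟨h.1, ?_⟩
    have hb : Function.Bijective (pullDerL f) := bijective_pullDer_of_isEssSurj f h
    rw [← finrank_der A, ← finrank_der B]
    exact (LinearEquiv.ofBijective (pullDerL f) hb).finrank_eq.symm
  · rintro ⟨hf, hfin⟩
    apply isEssSurj_of_bijective_pullDer
    have hinj : Function.Injective (pullDerL f) := pullDer_injective f hf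
    have hfin' : Module.finrank k (Derivation Λ A k) = Module.finrank k (Derivation Λ B k) := by
      rw [finrank_der A, finrank_der B, hfin]
    exact ⟨hinj, (LinearMap.injective_iff_surjective_of_finrank_eq_finrank hfin').1 hinj⟩

theorem subsingleton_iff_surjective {A B : Art Λ k} (f : B ⟶ A) :
    letI : Algebra B A := f.toAlgHom.toRingHom.toAlgebra
    letI := resAlg A
    Subsingleton (k ⊗[A] Ω[A⁄B]) ↔ Function.Surjective f := by
  letI : Algebra B A := f.toAlgHom.toRingHom.toAlgebra
  letI := resAlg A
  letI := resAlg B
  constructor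
  · intro hS
    by_contra hf
    obtain ⟨D, hD0, hD⟩ := exists_der_of_not_surjective f hf
    apply hD0
    haveI : IsScalarTower B A k := IsScalarTower.of_algebraMap_eq fun b => (Art.res_app f b).symm
    let D' : Derivation B A k :=
      { D.toLinearMap with
        map_smul' := fun b a => by
          change D (f.toAlgHom b * a) = b • D a
          rw [D.leibniz, hD, smul_zero, add_zero]
          exact (algebraMap_smul A b (D a))
        map_one_eq_zero' := D.map_one_eq_zero
        leibniz' := D.leibniz }
    have h0 : ∀ ω : Ω[A⁄B], D'.liftKaehlerDifferential ω = 0 := by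
      intro ω
      have h1 := LinearMap.liftBaseChange_one_tmul k D'.liftKaehlerDifferential ω
      rw [← h1, Subsingleton.elim ((1 : k) ⊗ₜ[A] ω) 0, map_zero]
    apply Derivation.ext
    intro a
    have h2 := D'.liftKaehlerDifferential_comp_D a
    rw [h0] at h2
    exact h2.symm
  · intro hf
    haveI : Subsingleton Ω[A⁄B] := KaehlerDifferential.subsingleton_of_surjective B A hf
    infer_instance

end Groth.Agent.Helper8.Ess

namespace Groth.Agent.Helper8.Ess
open ArtFun ArtFun.Art IsLocalRing CategoryTheory Groth.Agent.Helper6 TensorProduct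

variable {Λ : Type u} {k : Type u} [CommRing Λ] [Field k] [Algebra Λ k]

theorem s12752 [Module.Finite Λ k] {A B : Art Λ k} (f : B ⟶ A) :
    letI : Algebra B A := f.toAlgHom.toRingHom.toAlgebra
    letI : Algebra A k := A.res.toRingHom.toAlgebra
    letI : Algebra B k := B.res.toRingHom.toAlgebra
    (Function.Surjective f ∧ ∀ (C : ArtFun.Art Λ k) (g : C ⟶ B), Function.Surjective (g ≫ f) → Function.Surjective g) ↔
      (Subsingleton (k ⊗[A] Ω[A⁄B]) ∧
        Module.finrank k (k ⊗[B] Ω[B⁄Λ]) = Module.finrank k (k ⊗[A] Ω[A⁄Λ])) := by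
  letI : Algebra B A := f.toAlgHom.toRingHom.toAlgebra
  letI : Algebra A k := A.res.toRingHom.toAlgebra
  letI : Algebra B k := B.res.toRingHom.toAlgebra
  have h1 := isEssSurj_iff_finrank f
  have h2 := subsingleton_iff_surjective f
  change IsEssSurj f ↔ _
  rw [h1, h2]

end Groth.Agent.Helper8.Ess
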