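import Mathlib
import Groth.Agent.Helper8.Ess3
set_option autoImplicit false
universe u v

namespace Groth.Agent.Helper8.Ess
open ArtFun ArtFun.Art IsLocalRing CategoryTheory Groth.Agent.Helper6 TensorProduct

variable {Λ : Type u} {k : Type u} [CommRing Λ] [Field k] [Algebra Λ k]

theorem ker_isMaximal [Module.Finite Λ k] : (RingHom.ker (algebraMap Λ k)).IsMaximal := by
  haveI : Algebra.IsIntegral Λ k := Algebra.IsIntegral.of_finite Λ k
  have h := Ideal.isMaximal_comap_of_isIntegral_of_isMaximal (R := Λ) (⊥ : Ideal k)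
  rwa [← RingHom.ker_eq_comap_bot] at h

theorem sep_quot [Module.Finite Λ k] [Algebra.IsSeparable (↥(algebraMap Λ k).range) k] :
    haveI := ker_isMaximal (Λ := Λ) (k := k)
    letI : Field (Λ ⧸ RingHom.ker (algebraMap Λ k)) := Ideal.Quotient.field _
    letI : Algebra (Λ ⧸ RingHom.ker (algebraMap Λ k)) k := (RingHom.kerLift (algebraMap Λ k)).toAlgebra
    Algebra.IsSeparable (Λ ⧸ RingHom.ker (algebraMap Λ k)) k := by
  haveI := ker_isMaximal (Λ := Λ) (k := k)
  letI : Field (Λ ⧸ RingHom.ker (algebraMap Λ k)) := Ideal.Quotient.field _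
  letI : Algebra (Λ ⧸ RingHom.ker (algebraMap Λ k)) k := (RingHom.kerLift (algebraMap Λ k)).toAlgebra
  letI : Algebra (↥(algebraMap Λ k).range) (Λ ⧸ RingHom.ker (algebraMap Λ k)) :=
    (RingHom.quotientKerEquivRange (algebraMap Λ k)).symm.toRingHom.toAlgebra
  haveI : IsScalarTower (↥(algebraMap Λ k).range) (Λ ⧸ RingHom.ker (algebraMap Λ k)) k := by
    apply IsScalarTower.of_algebraMap_eq
    intro x
    obtain ⟨y, rfl⟩ := (RingHom.quotientKerEquivRange (algebraMap Λ k)).surjective x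
    obtain ⟨r, rfl⟩ := Ideal.Quotient.mk_surjective y
    change _ = RingHom.kerLift (algebraMap Λ k)
      ((RingHom.quotientKerEquivRange (algebraMap Λ k)).symm
        ((RingHom.quotientKerEquivRange (algebraMap Λ k)) (Ideal.Quotient.mk _ r)))
    rw [RingEquiv.symm_apply_apply]
    rfl
  exact Algebra.isSeparable_tower_top_of_isSeparable (↥(algebraMap Λ k).range)
    (Λ ⧸ RingHom.ker (algebraMap Λ k)) k

end Groth.Agent.Helper8.Ess

namespace Groth.Agent.Helper8.Ess
open ArtFun ArtFun.Art IsLocalRing CategoryTheory Groth.Agent.Helper6 TensorProduct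

variable {Λ : Type u} {k : Type u} [CommRing Λ] [Field k] [Algebra Λ k]

/-- in the separable case, every ideal between `m_Λ B` and `m_B` is cut out by a subalgebra
mapping onto the residue field -/
theorem exists_subalgebra [Module.Finite Λ k] [Algebra.IsSeparable (↥(algebraMap Λ k).range) k]
    (B : Art Λ k) (H : Ideal B)
    (hH1 : Ideal.map (algebraMap Λ B) (RingHom.ker (algebraMap Λ k)) ≤ H)
    (hH2 : H ≤ maximalIdeal B) :
    ∃ C : Subalgebra Λ B, (∀ c : k, ∃ x ∈ C, B.res x = c) ∧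
      (∀ x ∈ C, x ∈ maximalIdeal B → x ∈ H) ∧ (∀ x ∈ H, x ∈ C) := by
  classical
  haveI := ker_isMaximal (Λ := Λ) (k := k)
  letI : Field (Λ ⧸ RingHom.ker (algebraMap Λ k)) := Ideal.Quotient.field _
  letI : Algebra (Λ ⧸ RingHom.ker (algebraMap Λ k)) k := (RingHom.kerLift (algebraMap Λ k)).toAlgebra
  haveI : Algebra.IsSeparable (Λ ⧸ RingHom.ker (algebraMap Λ k)) k := sep_quot
  haveI : Algebra.FormallyEtale (Λ ⧸ RingHom.ker (algebraMap Λ k)) k :=
    Algebra.FormallyEtale.of_isSeparable _ _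
  haveI : Algebra.FormallySmooth (Λ ⧸ RingHom.ker (algebraMap Λ k)) k := inferInstance
  let φ : Λ →+* B ⧸ H := (Ideal.Quotient.mk H).comp (algebraMap Λ B)
  have hφ : ∀ r ∈ RingHom.ker (algebraMap Λ k), φ r = 0 := by
    intro r hr
    change Ideal.Quotient.mk H (algebraMap Λ B r) = 0
    rw [Ideal.Quotient.eq_zero_iff_mem]
    exact hH1 (Ideal.mem_map_of_mem _ hr)
  letI : Algebra (Λ ⧸ RingHom.ker (algebraMap Λ k)) (B ⧸ H) :=
    (Ideal.Quotient.lift _ φ hφ).toAlgebra
  let ρ₀ : B ⧸ H →+* k := Ideal.Quotient.lift H B.res.toRingHom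
    (fun x hx => (Art.mem_maximalIdeal_iff B x).1 (hH2 hx))
  have hρ₀ : ∀ x : B, ρ₀ (Ideal.Quotient.mk H x) = B.res x := fun x => rfl
  let ρ : B ⧸ H →ₐ[Λ ⧸ RingHom.ker (algebraMap Λ k)] k :=
    { ρ₀ with
      commutes' := fun q => by
        obtain ⟨r, rfl⟩ := Ideal.Quotient.mk_surjective q
        change ρ₀ (Ideal.Quotient.mk H (algebraMap Λ B r)) = algebraMap Λ k r
        rw [hρ₀]
        exact B.res.commutes r }
  have hρ : Function.Surjective ρ := by
    intro c
    obtain ⟨x, hx⟩ := B.res_surjective c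
    exact ⟨Ideal.Quotient.mk H x, hx⟩
  have hnil : IsNilpotent (RingHom.ker (ρ : (B ⧸ H) →+* k)) := by
    obtain ⟨n, hn⟩ := exists_maximalIdeal_pow_eq_bot B
    refine ⟨n, ?_⟩
    have hle : RingHom.ker (ρ : (B ⧸ H) →+* k) ≤ Ideal.map (Ideal.Quotient.mk H) (maximalIdeal B) := by
      intro q hq
      obtain ⟨x, rfl⟩ := Ideal.Quotient.mk_surjective q
      apply Ideal.mem_map_of_mem
      rw [Art.mem_maximalIdeal_iff]
      exact hq
    have h1 : Ideal.map (Ideal.Quotient.mk H) (maximalIdeal B) ^ n = ⊥ := by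
      rw [← Ideal.map_pow, hn, Ideal.map_bot]
    exact le_bot_iff.1 ((Ideal.pow_right_mono hle n).trans h1.le)
  let s := Algebra.FormallySmooth.liftOfSurjective
    (AlgHom.id (Λ ⧸ RingHom.ker (algebraMap Λ k)) k) ρ hρ hnil
  have hs : ∀ c : k, ρ (s c) = c := fun c =>
    Algebra.FormallySmooth.liftOfSurjective_apply _ ρ hρ hnil c
  refine ⟨{ carrier := {x | ∃ c : k, s c = Ideal.Quotient.mk H x}
            mul_mem' := ?_, add_mem' := ?_, algebraMap_mem' := ?_ }, ?_, ?_, ?_⟩
  · rintro x y ⟨c, hc⟩ ⟨d, hd⟩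
    exact ⟨c * d, by rw [map_mul, map_mul, hc, hd]⟩
  · rintro x y ⟨c, hc⟩ ⟨d, hd⟩
    exact ⟨c + d, by rw [map_add, map_add, hc, hd]⟩
  · intro r
    refine ⟨algebraMap Λ k r, ?_⟩
    have h1 : algebraMap Λ k r =
      algebraMap (Λ ⧸ RingHom.ker (algebraMap Λ k)) k (Ideal.Quotient.mk _ r) := rfl
    rw [h1, s.commutes]
    rfl
  · intro c
    obtain ⟨x, hx⟩ := Ideal.Quotient.mk_surjective (s c)
    refine ⟨x, ⟨c, hx.symm⟩, ?_⟩
    rw [← hρ₀, hx]
    exact hs c
  · rintro x ⟨c, hc⟩ hxm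
    have h1 : c = 0 := by
      rw [← hs c, hc]
      exact (Art.mem_maximalIdeal_iff B x).1 hxm
    rw [h1, map_zero] at hc
    exact Ideal.Quotient.eq_zero_iff_mem.1 hc.symm
  · intro x hx
    exact ⟨0, by rw [map_zero, Ideal.Quotient.eq_zero_iff_mem.2 hx]⟩

end Groth.Agent.Helper8.Ess

namespace Groth.Agent.Helper8.Ess
open ArtFun ArtFun.Art IsLocalRing CategoryTheory Groth.Agent.Helper6 TensorProduct

variable {Λ : Type u} {k : Type u} [CommRing Λ] [Field k] [Algebra Λ k]

/-- hyperplanes in the maximal ideal avoiding a given element -/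
theorem exists_hyperplane {B : Type u} [CommRing B] [IsLocalRing B] [IsNoetherianRing B]
    (M₀ : Ideal B) (hM1 : M₀ ≤ maximalIdeal B) (hM2 : maximalIdeal B ^ 2 ≤ M₀)
    (b : B) (hb : b ∉ M₀) :
    ∃ H : Ideal B, M₀ ≤ H ∧ H ≤ maximalIdeal B ∧ b ∉ H ∧
      ∀ x ∈ maximalIdeal B, ∃ h ∈ H, ∃ β : B, x = h + β * b := by
  have hne : ({I : Ideal B | M₀ ≤ I ∧ I ≤ maximalIdeal B ∧ b ∉ I}).Nonempty :=
    ⟨M₀, le_rfl, hM1, hb⟩
  obtain ⟨H, ⟨hH1, hH2, hH3⟩, hmax⟩ :=
    (set_has_maximal_iff_noetherian (R := B) (M := B)).2 inferInstance _ hne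
  refine ⟨H, hH1, hH2, hH3, ?_⟩
  intro x hx
  by_cases hxH : x ∈ H
  · exact ⟨x, hxH, 0, by rw [zero_mul, add_zero]⟩
  · have hlt : H < H ⊔ Ideal.span {x} := by
      refine lt_of_le_of_ne le_sup_left ?_
      intro heq
      apply hxH
      rw [heq]
      exact Ideal.mem_sup_right (Ideal.subset_span rfl)
    have hnot := hmax (H ⊔ Ideal.span {x})
    have hbI : b ∈ H ⊔ Ideal.span {x} := by
      by_contra hbI
      exact hnot ⟨hH1.trans le_sup_left,
        sup_le hH2 ((Ideal.span_singleton_le_iff_mem _).2 hx), hbI⟩ hlt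
    obtain ⟨h, hh, y, hy, hsum⟩ := Submodule.mem_sup.1 hbI
    obtain ⟨β, rfl⟩ := Ideal.mem_span_singleton'.1 hy
    have hβ : IsUnit β := by
      by_contra hβ
      apply hH3
      rw [← hsum]
      refine H.add_mem hh (hH1 (hM2 ?_))
      rw [pow_two]
      exact Ideal.mul_mem_mul ((mem_maximalIdeal β).2 hβ) hx
    obtain ⟨u, rfl⟩ := hβ
    refine ⟨-(↑u⁻¹ * h), H.neg_mem (Ideal.mul_mem_left H _ hh), ↑u⁻¹, ?_⟩
    rw [← hsum, mul_add, ← mul_assoc, Units.inv_mul, one_mul]
    ring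

theorem map_ker_le_maximalIdeal (B : Art Λ k) :
    Ideal.map (algebraMap Λ B) (RingHom.ker (algebraMap Λ k)) ≤ maximalIdeal B := by
  rw [Ideal.map_le_iff_le_comap]
  intro r hr
  rw [Ideal.mem_comap, Art.mem_maximalIdeal_iff, B.res.commutes]
  exact hr

theorem map_ker_le_map_maximalIdeal {A B : Art Λ k} (f : B ⟶ A) :
    Ideal.map (algebraMap Λ A) (RingHom.ker (algebraMap Λ k)) ≤
      Ideal.map f.toAlgHom (maximalIdeal B) := by
  have h1 : algebraMap Λ A = (f.toAlgHom : B →+* A).comp (algebraMap Λ B) :=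
    (f.toAlgHom.comp_algebraMap).symm
  rw [h1, ← Ideal.map_map]
  exact Ideal.map_mono (map_ker_le_maximalIdeal B)

end Groth.Agent.Helper8.Ess

namespace Groth.Agent.Helper8.Ess
open ArtFun ArtFun.Art IsLocalRing CategoryTheory Groth.Agent.Helper6 TensorProduct

variable {Λ : Type u} {k : Type u} [CommRing Λ] [Field k] [Algebra Λ k]

theorem map_relIdeal {A B : Art Λ k} (f : B ⟶ A) (hf : Function.Surjective f) :
    Ideal.map f.toAlgHom (Ideal.map (algebraMap Λ B) (RingHom.ker (algebraMap Λ k)) ⊔ maximalIdeal B ^ 2) =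
      Ideal.map (algebraMap Λ A) (RingHom.ker (algebraMap Λ k)) ⊔ maximalIdeal A ^ 2 := by
  have h1 : algebraMap Λ A = (f.toAlgHom : B →+* A).comp (algebraMap Λ B) :=
    (f.toAlgHom.comp_algebraMap).symm
  have h2 : Ideal.map f.toAlgHom (Ideal.map (algebraMap Λ B) (RingHom.ker (algebraMap Λ k))) =
      Ideal.map (algebraMap Λ A) (RingHom.ker (algebraMap Λ k)) := by
    rw [h1, ← Ideal.map_map]
    rfl
  rw [Ideal.map_sup, Ideal.map_pow, map_maximalIdeal_eq_of_surjective f hf, h2]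

theorem s12753 [IsNoetherianRing Λ] [Module.Finite Λ k]
    [Algebra.IsSeparable (↥(algebraMap Λ k).range) k]
    {A B : ArtFun.Art Λ k} (f : B ⟶ A) :
    (Function.Surjective f ∧ ∀ (C : ArtFun.Art Λ k) (g : C ⟶ B), Function.Surjective (g ≫ f) → Function.Surjective g) ↔
      (Ideal.map (algebraMap Λ A) (RingHom.ker (algebraMap Λ k)) ⊔ Ideal.map f.toAlgHom (IsLocalRing.maximalIdeal B) ⊔ IsLocalRing.maximalIdeal A ^ 2 =
          IsLocalRing.maximalIdeal A ∧
        ∀ b ∈ IsLocalRing.maximalIdeal B, f b ∈ Ideal.map (algebraMap Λ A) (RingHom.ker (algebraMap Λ k)) ⊔ IsLocalRing.maximalIdeal A ^ 2 →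
          b ∈ Ideal.map (algebraMap Λ B) (RingHom.ker (algebraMap Λ k)) ⊔ IsLocalRing.maximalIdeal B ^ 2) := by
  constructor
  · rintro ⟨hf, hess⟩
    constructor
    · rw [map_maximalIdeal_eq_of_surjective f hf]
      apply le_antisymm
      · exact sup_le (sup_le (map_ker_le_maximalIdeal A) le_rfl) (Ideal.pow_le_self two_ne_zero)
      · exact le_sup_of_le_left le_sup_right
    · intro b hb hfb
      by_contra hbM
      obtain ⟨H, hH1, hH2, hH3, hH4⟩ := exists_hyperplane
        (Ideal.map (algebraMap Λ B) (RingHom.ker (algebraMap Λ k)) ⊔ maximalIdeal B ^ 2)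
        (sup_le (map_ker_le_maximalIdeal B) (Ideal.pow_le_self two_ne_zero)) le_sup_right b hbM
      obtain ⟨C, hC1, hC2, hC3⟩ := exists_subalgebra B H (le_sup_left.trans hH1) hH2
      have hfb' : f.toAlgHom b ∈ Ideal.map f.toAlgHom
          (Ideal.map (algebraMap Λ B) (RingHom.ker (algebraMap Λ k)) ⊔ maximalIdeal B ^ 2) := by
        rw [map_relIdeal f hf]
        exact hfb
      obtain ⟨h', hh', hfh'⟩ := (Ideal.mem_map_iff_of_surjective f.toAlgHom hf).1 hfb'
      have hgf : Function.Surjective (subArtHom B C hC1 ≫ f) := by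
        intro a
        obtain ⟨x, rfl⟩ := hf a
        obtain ⟨y, hy, hyx⟩ := hC1 (B.res x)
        have hxy : x - y ∈ maximalIdeal B := by
          rw [Art.mem_maximalIdeal_iff, map_sub, hyx, sub_self]
        obtain ⟨h, hh, β, hsum⟩ := hH4 _ hxy
        refine ⟨⟨y + h + β * h', C.add_mem (C.add_mem hy (hC3 h hh))
          (hC3 _ (H.mul_mem_left β (hH1 hh')))⟩, ?_⟩
        change f.toAlgHom (y + h + β * h') = f.toAlgHom x
        have hx : x = y + (h + β * b) := by rw [← hsum]; ring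
        have e1 : f.toAlgHom (y + h + β * h') =
            f.toAlgHom y + f.toAlgHom h + f.toAlgHom β * f.toAlgHom h' := by
          rw [map_add, map_add, map_mul]
        have e2 : f.toAlgHom (y + (h + β * b)) =
            f.toAlgHom y + (f.toAlgHom h + f.toAlgHom β * f.toAlgHom b) := by
          rw [map_add, map_add, map_mul]
        rw [hx, e1, e2, hfh', add_assoc]
      obtain ⟨⟨x, hx⟩, hxb⟩ := hess _ _ hgf b
      have hxb' : x = b := hxb
      rw [hxb'] at hx
      exact hH3 (hC2 b hx hb)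
  · rintro ⟨hI, hII⟩
    have hf : Function.Surjective f := by
      apply surjective_of_map_maximalIdeal_sup_sq f
      have hI' := hI
      rw [sup_eq_right.2 (map_ker_le_map_maximalIdeal f)] at hI'
      exact hI'
    refine ⟨hf, ?_⟩
    intro C g hgf
    apply surjective_of_map_maximalIdeal_sup_sq g
    apply le_antisymm
    · exact sup_le (map_maximalIdeal_le g) (Ideal.pow_le_self two_ne_zero)
    · intro b hb
      obtain ⟨c, hc⟩ := hgf (f.toAlgHom b)
      have hc' : f.toAlgHom (g.toAlgHom c) = f.toAlgHom b := hc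
      have hcm : c ∈ maximalIdeal C := by
        rw [Art.mem_maximalIdeal_iff]
        have h1 : B.res (g.toAlgHom c) = C.res c := Art.res_app g c
        have h2 : A.res (f.toAlgHom (g.toAlgHom c)) = B.res (g.toAlgHom c) := Art.res_app f _
        have h3 : A.res (f.toAlgHom b) = B.res b := Art.res_app f b
        rw [← h1, ← h2, hc', h3]
        exact (Art.mem_maximalIdeal_iff _ _).1 hb
      have hgc : g.toAlgHom c ∈ Ideal.map g.toAlgHom (maximalIdeal C) := Ideal.mem_map_of_mem _ hcm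
      have hd : b - g.toAlgHom c ∈ maximalIdeal B :=
        (maximalIdeal B).sub_mem hb (map_maximalIdeal_le g hgc)
      have hd2 := hII _ hd (by
        have : f (b - g.toAlgHom c) = 0 := by
          change f.toAlgHom (b - g.toAlgHom c) = 0
          rw [map_sub, hc', sub_self]
        rw [this]
        exact Ideal.zero_mem _)
      have hd3 : b - g.toAlgHom c ∈ Ideal.map g.toAlgHom (maximalIdeal C) ⊔ maximalIdeal B ^ 2 :=
        sup_le_sup_right (map_ker_le_map_maximalIdeal g) _ hd2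
      have : b = (b - g.toAlgHom c) + g.toAlgHom c := by ring
      rw [this]
      exact Ideal.add_mem _ hd3 (Ideal.mem_sup_left hgc)

end Groth.Agent.Helper8.Ess
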