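import Mathlib
import Groth.Prelude.Def_EssEt
set_option autoImplicit false
universe u

namespace Groth.Agent.Helper8.EssEtTrans

open IsLocalRing

/-- descent of a f.g. ideal along a localization -/
theorem exists_fg_map_eq {R₀ R : Type*} [CommRing R₀] [CommRing R] [Algebra R₀ R]
    (M : Submonoid R₀) [IsLocalization M R] (I : Ideal R) (hI : I.FG) :
    ∃ I₀ : Ideal R₀, I₀.FG ∧ I₀.map (algebraMap R₀ R) = I := by
  classical
  obtain ⟨F, rfl⟩ := hI
  choose g hg using IsLocalization.surj M (S := R)
  refine ⟨Ideal.span ((fun p => (g p).1) '' (F : Set R)), ⟨F.image (fun p => (g p).1), by simp⟩, ?_⟩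
  rw [Ideal.map_span]
  apply le_antisymm
  · rw [Ideal.span_le]
    rintro _ ⟨_, ⟨p, hp, rfl⟩, rfl⟩
    rw [← hg p]
    exact Ideal.mul_mem_right _ _ (Ideal.subset_span hp)
  · rw [Ideal.span_le]
    intro p hp
    have hu := IsLocalization.map_units R (g p).2
    have : p = algebraMap R₀ R (g p).1 * ↑(hu.unit⁻¹) := by
      rw [← hg p, mul_assoc]
      simp
    rw [this]
    exact Ideal.mul_mem_right _ _ (Ideal.subset_span ⟨_, ⟨p, hp, rfl⟩, rfl⟩)

attribute [local instance] MvPolynomial.algebraMvPolynomial in
/-- A finitely presented algebra over a localization `B = M⁻¹S` is a localization of a finitely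
presented `S`-algebra. -/
theorem exists_fp_model {A S B T : Type u} [CommRing A] [CommRing S] [CommRing B] [CommRing T]
    [Algebra A S] [Algebra S B] [Algebra A B] [IsScalarTower A S B]
    [Algebra B T] [Algebra A T] [IsScalarTower A B T]
    (M : Submonoid S) [IsLocalization M B] [Algebra.FinitePresentation A S]
    [Algebra.FinitePresentation B T] :
    ∃ (T' : Type u) (_ : CommRing T') (_ : Algebra A T') (_ : Algebra T' T)
      (_ : IsScalarTower A T' T) (N : Submonoid T'),
      Algebra.FinitePresentation A T' ∧ IsLocalization N T := by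
  obtain ⟨n, f, hf, hker⟩ := Algebra.FinitePresentation.out (R := B) (A := T)
  obtain ⟨I₀, hI₀, hmap⟩ := exists_fg_map_eq (R₀ := MvPolynomial (Fin n) S)
    (R := MvPolynomial (Fin n) B) (M.map MvPolynomial.C) _ hker
  let T' := MvPolynomial (Fin n) S ⧸ I₀
  let φ : MvPolynomial (Fin n) S →+* T :=
    f.toRingHom.comp (MvPolynomial.map (algebraMap S B))
  have hφ : ∀ a ∈ I₀, φ a = 0 := by
    intro a ha
    have : MvPolynomial.map (algebraMap S B) a ∈ RingHom.ker f.toRingHom := by
      rw [← hmap]
      exact Ideal.mem_map_of_mem _ ha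
    exact this
  let ψ : T' →+* T := Ideal.Quotient.lift I₀ φ hφ
  let _ : Algebra T' T := ψ.toAlgebra
  have htower : IsScalarTower A T' T := by
    refine IsScalarTower.of_algebraMap_eq' ?_
    ext a
    change algebraMap A T a = ψ (algebraMap A T' a)
    have h1 : algebraMap A T' a = Ideal.Quotient.mk I₀ (MvPolynomial.C (algebraMap A S a)) := rfl
    rw [h1]
    change _ = φ _
    change _ = f (MvPolynomial.map (algebraMap S B) (MvPolynomial.C (algebraMap A S a)))
    rw [MvPolynomial.map_C, ← IsScalarTower.algebraMap_apply A S B,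
      IsScalarTower.algebraMap_apply A B T]
    exact (f.commutes _).symm
  refine ⟨T', inferInstance, inferInstance, inferInstance, htower,
    (M.map MvPolynomial.C).map (Ideal.Quotient.mk I₀), ?_, ?_⟩
  · exact Algebra.FinitePresentation.quotient hI₀
  · refine IsLocalization.of_surjective (M.map MvPolynomial.C) (MvPolynomial (Fin n) B)
      (Ideal.Quotient.mk I₀) Ideal.Quotient.mk_surjective f.toRingHom hf ?_ ?_
    · ext <;> rfl
    · rw [Ideal.mk_ker, hmap]

theorem trans (A : Type u) [CommRing A] [IsLocalRing A]
    (B : Type u) [CommRing B] [IsLocalRing B] [Algebra A B]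
    (C : Type u) [CommRing C] [Algebra B C] [Algebra A C] [IsScalarTower A B C]
    (hB : EGA4loc.IsEssentiallyEtale A B) (hC : EGA4loc.IsEssentiallyEtale B C) :
    EGA4loc.IsEssentiallyEtale A C := by
  obtain ⟨S, _, _, q, _, hSet, hq, ⟨eB⟩⟩ := hB
  obtain ⟨T, _, _, r, _, hTet, hr, ⟨eC⟩⟩ := hC
  -- `B` as an `S`-algebra
  letI : Algebra S B :=
    ((eB.symm : Localization.AtPrime q →+* B).comp (algebraMap S (Localization.AtPrime q))).toAlgebra
  have hSB : ∀ s : S, algebraMap S B s = eB.symm (algebraMap S (Localization.AtPrime q) s) :=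
    fun s => rfl
  haveI : IsScalarTower A S B := IsScalarTower.of_algebraMap_eq' (by
    ext a
    rw [RingHom.comp_apply, hSB, ← IsScalarTower.algebraMap_apply A S (Localization.AtPrime q),
      eB.symm.commutes])
  let eB' : Localization.AtPrime q ≃ₐ[S] B :=
    AlgEquiv.ofRingEquiv (f := eB.symm.toRingEquiv) (fun x => rfl)
  haveI : IsLocalization.AtPrime B q := IsLocalization.isLocalization_of_algEquiv q.primeCompl eB'
  -- `A`-algebra structure on `T`
  letI : Algebra A T := ((algebraMap B T).comp (algebraMap A B)).toAlgebra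
  haveI : IsScalarTower A B T := IsScalarTower.of_algebraMap_eq' rfl
  haveI : Algebra.FinitePresentation A S := inferInstance
  haveI : Algebra.FinitePresentation B T := inferInstance
  obtain ⟨T', _, _, _, _, N, hfp, hloc⟩ :=
    exists_fp_model (A := A) (S := S) (B := B) (T := T) q.primeCompl
  let Tr := Localization.AtPrime r
  let r' : Ideal T' := r.comap (algebraMap T' T)
  haveI : r'.IsPrime := Ideal.comap_isPrime _ _
  haveI hloc' : IsLocalization.AtPrime Tr r' :=
    IsLocalization.isLocalization_isLocalization_atPrime_isLocalization N Tr r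
  -- formal etaleness
  haveI : Algebra.FormallyEtale S B := Algebra.FormallyEtale.of_isLocalization q.primeCompl
  haveI : Algebra.FormallyEtale A B := Algebra.FormallyEtale.comp A S B
  haveI : Algebra.FormallyEtale A T := Algebra.FormallyEtale.comp A B T
  haveI : Algebra.FormallyEtale T Tr := Algebra.FormallyEtale.of_isLocalization r.primeCompl
  haveI : Algebra.FormallyEtale A Tr := Algebra.FormallyEtale.comp A T Tr
  let e1 : Localization.AtPrime r' ≃ₐ[T'] Tr := IsLocalization.algEquiv r'.primeCompl _ _
  haveI : Algebra.IsEtaleAt A r' := Algebra.FormallyEtale.of_equiv (e1.symm.restrictScalars A)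
  obtain ⟨h, hh, hEt⟩ := Algebra.exists_etale_of_isEtaleAt (R := A) r'
  let T'' := Localization.Away h
  let p'' : Ideal T'' := r'.map (algebraMap T' T'')
  have hdisj : Disjoint (Submonoid.powers h : Set T') r' := by
    rw [Set.disjoint_left]
    rintro _ ⟨n, rfl⟩ hn
    exact hh (Ideal.IsPrime.mem_of_pow_mem ‹_› n hn)
  haveI : p''.IsPrime :=
    IsLocalization.isPrime_of_isPrime_disjoint (Submonoid.powers h) T'' r' ‹_› hdisj
  have hcomap : p''.comap (algebraMap T' T'') = r' :=
    IsLocalization.under_map_of_isPrime_disjoint (Submonoid.powers h) T'' ‹_› hdisj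
  have hloc2 : IsLocalization.AtPrime (Localization.AtPrime p'') r' := by
    have := IsLocalization.isLocalization_isLocalization_atPrime_isLocalization
      (Submonoid.powers h) (Localization.AtPrime p'') p''
    convert this using 1
    ext x
    simp only [Ideal.mem_primeCompl_iff, ← hcomap]
  refine ⟨T'', inferInstance, inferInstance, p'', inferInstance, hEt, ?_, ⟨?_⟩⟩
  · rw [IsScalarTower.algebraMap_eq A T' T'', ← Ideal.comap_comap, hcomap]
    change Ideal.comap (algebraMap A T') (Ideal.comap (algebraMap T' T) r) = _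
    rw [Ideal.comap_comap, ← IsScalarTower.algebraMap_eq A T' T,
      IsScalarTower.algebraMap_eq A B T, ← Ideal.comap_comap, hr,
      IsScalarTower.algebraMap_eq A S B, ← Ideal.comap_comap]
    have : Ideal.comap (algebraMap S B) (maximalIdeal B) = q :=
      IsLocalization.AtPrime.under_maximalIdeal B q
    rw [this, hq]
  · exact (eC.restrictScalars A).trans
      ((IsLocalization.algEquiv r'.primeCompl Tr (Localization.AtPrime p'')).restrictScalars A)

end Groth.Agent.Helper8.EssEtTrans
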