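import Mathlib

set_option autoImplicit false
universe u
open IsLocalRing

namespace Groth.Agent.Helper8.EssFTLoc

theorem aux (K : Type u) [Field K] (S : Type u) [CommRing S] [IsDomain S] [IsLocalRing S]
    [Algebra K S] [Algebra.EssFiniteType K S]
    (halg : Algebra.IsAlgebraic K (ResidueField S)) :
    ∃ (S₀ : Subalgebra K S) (p : Ideal S₀) (_ : p.IsMaximal), Algebra.FiniteType K S₀ ∧
      Nonempty (S ≃ₐ[S₀] Localization.AtPrime p) := by
  obtain ⟨S₀, M, hft, hloc⟩ := (Algebra.essFiniteType_iff_exists_subalgebra (R := K) (S := S)).mp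
    inferInstance
  set p : Ideal S₀ := (maximalIdeal S).comap (algebraMap S₀ S) with hp
  haveI hpp : p.IsPrime := Ideal.comap_isPrime _ _
  -- p is maximal
  let g : (S₀ ⧸ p) →ₐ[K] ResidueField S :=
    Ideal.Quotient.liftₐ p ((IsScalarTower.toAlgHom K S (ResidueField S)).comp S₀.val) (by
      intro a ha
      rw [hp, Ideal.mem_comap] at ha
      change residue S (algebraMap S₀ S a) = 0
      rwa [residue_eq_zero_iff])
  have hg : Function.Injective g := by
    rw [injective_iff_map_eq_zero]
    intro a ha
    obtain ⟨a, rfl⟩ := Ideal.Quotient.mk_surjective a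
    rw [Ideal.Quotient.eq_zero_iff_mem, hp, Ideal.mem_comap, ← residue_eq_zero_iff]
    exact ha
  haveI : Algebra.IsIntegral K (S₀ ⧸ p) := by
    constructor
    intro a
    have := (isAlgebraic_algHom_iff g hg).mp (halg.isAlgebraic (g a))
    exact this.isIntegral
  have hfield : IsField (S₀ ⧸ p) := isField_of_isIntegral_of_isField' (Field.toIsField K)
  haveI hmax : p.IsMaximal := Ideal.Quotient.maximal_of_isField p hfield
  refine ⟨S₀, p, hmax, hft, ?_⟩
  haveI : IsLocalization.AtPrime S p := by
    refine IsLocalization.of_le M p.primeCompl ?_ ?_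
    · intro m hm
      have hu : IsUnit (algebraMap S₀ S m) := IsLocalization.map_units S ⟨m, hm⟩
      change m ∉ p
      rw [hp, Ideal.mem_comap, mem_maximalIdeal, mem_nonunits_iff, not_not]
      exact hu
    · intro r hr
      change r ∉ p at hr
      rw [hp, Ideal.mem_comap, mem_maximalIdeal, mem_nonunits_iff, not_not] at hr
      exact hr
  exact ⟨IsLocalization.algEquiv p.primeCompl S (Localization.AtPrime p)⟩

theorem main (k : Type u) [Field k] (S : Type u) [CommRing S] [IsDomain S]
    [IsLocalRing S] [Algebra k S] [Algebra.EssFiniteType k S] :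
    ∃ (K : Type u) (_ : Field K) (_ : Algebra k K) (A : Type u) (_ : CommRing A) (_ : Algebra K A)
      (_ : Algebra k A) (_ : IsScalarTower k K A) (_ : Algebra.FiniteType K A) (m : Ideal A)
      (_ : m.IsMaximal), Nonempty (S ≃ₐ[k] Localization.AtPrime m) := by
  classical
  haveI : FaithfulSMul k (ResidueField S) :=
    (faithfulSMul_iff_algebraMap_injective _ _).mpr (RingHom.injective _)
  obtain ⟨s, hs⟩ := exists_isTranscendenceBasis k (ResidueField S)
  have hx : ∀ b : s, ∃ x : S, residue S x = b.val := fun b => residue_surjective b.val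
  choose x hx using hx
  let a : MvPolynomial s k →ₐ[k] S := MvPolynomial.aeval x
  have hres : ∀ q : MvPolynomial s k, residue S (a q) = MvPolynomial.aeval (Subtype.val : s → _) q := by
    intro q
    have : (IsScalarTower.toAlgHom k S (ResidueField S)).comp a =
        MvPolynomial.aeval (Subtype.val : s → ResidueField S) := by
      apply MvPolynomial.algHom_ext
      intro b
      simp only [AlgHom.comp_apply, a, MvPolynomial.aeval_X]
      exact hx b
    exact DFunLike.congr_fun this q
  have hunit : ∀ q : nonZeroDivisors (MvPolynomial s k), IsUnit (a.toRingHom q) := by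
    intro q
    have hq : (q : MvPolynomial s k) ≠ 0 := nonZeroDivisors.ne_zero q.2
    have : residue S (a q) ≠ 0 := by
      rw [hres]
      intro h
      exact hq (hs.1 (h.trans (map_zero _).symm))
    rw [Ne, residue_eq_zero_iff, mem_maximalIdeal, mem_nonunits_iff, not_not] at this
    exact this
  let lift : FractionRing (MvPolynomial s k) →+* S := IsLocalization.lift hunit
  letI algKS : Algebra (FractionRing (MvPolynomial s k)) S := lift.toAlgebra
  have hlift : ∀ y, algebraMap (FractionRing (MvPolynomial s k)) S
      (algebraMap (MvPolynomial s k) _ y) = a y := fun y => IsLocalization.lift_eq hunit y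
  haveI : IsScalarTower k (FractionRing (MvPolynomial s k)) S :=
    IsScalarTower.of_algebraMap_eq fun c => by
      rw [IsScalarTower.algebraMap_apply k (MvPolynomial s k) (FractionRing (MvPolynomial s k)),
        hlift, AlgHom.commutes]
  haveI : Algebra.EssFiniteType (FractionRing (MvPolynomial s k)) S :=
    Algebra.EssFiniteType.of_comp k _ S
  have halg : Algebra.IsAlgebraic (FractionRing (MvPolynomial s k)) (ResidueField S) := by
    haveI := hs.isAlgebraic
    let f : Algebra.adjoin k (Set.range (Subtype.val : s → ResidueField S)) →+*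
        FractionRing (MvPolynomial s k) :=
      (algebraMap (MvPolynomial s k) _).comp (hs.1.aevalEquiv.symm : _ →+* _)
    refine Algebra.IsAlgebraic.ringHom_of_comp_eq
      (R := Algebra.adjoin k (Set.range (Subtype.val : s → ResidueField S)))
      (A := ResidueField S) f (RingHom.id (ResidueField S)) ?_ Function.surjective_id ?_
    · exact (IsFractionRing.injective _ _).comp (hs.1.aevalEquiv.symm.injective)
    · ext t
      simp only [RingHom.comp_apply, RingHom.id_apply, f]
      change residue S (algebraMap (FractionRing (MvPolynomial s k)) S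
        (algebraMap (MvPolynomial s k) _ (hs.1.aevalEquiv.symm t))) = _
      rw [hlift, hres]
      exact hs.1.aeval_repr t
  obtain ⟨S₀, p, hmax, hft, ⟨e⟩⟩ := aux (FractionRing (MvPolynomial s k)) S halg
  exact ⟨FractionRing (MvPolynomial s k), inferInstance, inferInstance, S₀, inferInstance,
    inferInstance, inferInstance, inferInstance, hft, p, hmax, ⟨e.restrictScalars k⟩⟩

end Groth.Agent.Helper8.EssFTLoc
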