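import Mathlib
import Groth.Agent.Helper8.EtDed1

set_option autoImplicit false
universe u

namespace Groth.Agent.Helper8.EtDed
open IsLocalRing

/-- A Noetherian ring all of whose local rings are domains is a finite product of domains. -/
theorem exists_equiv_pi_quotient (B : Type u) [CommRing B] [IsNoetherianRing B]
    (h : ∀ (q : Ideal B) [q.IsPrime], IsDomain (Localization.AtPrime q)) :
    ∃ (n : ℕ) (P : Fin n → Ideal B), (∀ i, (P i).IsPrime) ∧ Nonempty (B ≃+* ∀ i, B ⧸ P i) := by
  classical
  haveI hfin : Finite (minimalPrimes B) := (minimalPrimes.finite_of_isNoetherianRing B).to_subtype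
  -- reducedness
  haveI hred : IsReduced B := by
    apply isReduced_ofLocalizationMaximal
    intro J hJ
    haveI := h J
    infer_instance
  -- kernel description
  have hker : ∀ (m : Ideal B) [m.IsPrime] (p : Ideal B), p ∈ minimalPrimes B → p ≤ m →
      p = RingHom.ker (algebraMap B (Localization.AtPrime m)) := by
    intro m _ p hp hpm
    haveI := h m
    have hprime : (RingHom.ker (algebraMap B (Localization.AtPrime m))).IsPrime :=
      RingHom.ker_isPrime _
    have hle : RingHom.ker (algebraMap B (Localization.AtPrime m)) ≤ p := by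
      intro x hx
      rw [RingHom.mem_ker, IsLocalization.map_eq_zero_iff m.primeCompl] at hx
      obtain ⟨s, hs⟩ := hx
      have : (s : B) * x ∈ p := by rw [hs]; exact p.zero_mem
      rcases hp.1.1.mem_or_mem this with h1 | h1
      · exact absurd (hpm h1) s.2
      · exact h1
    exact le_antisymm (hp.2 ⟨hprime, bot_le⟩ hle) hle
  have hcop : Pairwise (Function.onFun IsCoprime fun p : minimalPrimes B => (p : Ideal B)) := by
    intro p₁ p₂ hne
    show IsCoprime (p₁ : Ideal B) (p₂ : Ideal B)
    rw [Ideal.isCoprime_iff_sup_eq]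
    by_contra hcon
    obtain ⟨m, hm, hle⟩ := Ideal.exists_le_maximal _ hcon
    haveI := hm.isPrime
    apply hne
    apply Subtype.ext
    rw [hker m p₁ p₁.2 (le_sup_left.trans hle), hker m p₂ p₂.2 (le_sup_right.trans hle)]
  have hinf : ⨅ p : minimalPrimes B, (p : Ideal B) = ⊥ := by
    rw [← sInf_eq_iInf', minimalPrimes, Ideal.sInf_minimalPrimes]
    exact nilradical_eq_zero B
  let e1 : B ≃+* ∀ p : minimalPrimes B, B ⧸ (p : Ideal B) :=
    ((RingEquiv.quotientBot B).symm.trans (Ideal.quotEquivOfEq hinf.symm)).trans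
      (Ideal.quotientInfRingEquivPiQuotient _ hcop)
  let n := Nat.card (minimalPrimes B)
  let e : minimalPrimes B ≃ Fin n := Finite.equivFin _
  refine ⟨n, fun i => (e.symm i : Ideal B), fun i => (e.symm i).2.1.1, ⟨?_⟩⟩
  exact e1.trans (RingEquiv.piCongrLeft (fun p : minimalPrimes B => B ⧸ (p : Ideal B)) e.symm).symm

end Groth.Agent.Helper8.EtDed
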