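import Mathlib
import Groth.Agent.Helper8.EtDed2

set_option autoImplicit false
universe u

namespace Groth.Agent.Helper8.EtDed
open IsLocalRing

theorem isDVR_of_unramified (A D : Type*) [CommRing A] [IsDedekindDomain A] [CommRing D]
    [Algebra A D] [Algebra.FiniteType A D] [Algebra.FormallyUnramified A D]
    (P : Ideal D) [P.IsPrime] [IsDomain (Localization.AtPrime P)]
    (hnf : ¬ IsField (Localization.AtPrime P)) :
    IsDiscreteValuationRing (Localization.AtPrime P) := by
  have : IsNoetherianRing D := Algebra.FiniteType.isNoetherianRing A D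
  have : IsNoetherianRing (Localization.AtPrime P) :=
    IsLocalization.isNoetherianRing P.primeCompl _ inferInstance
  have hmax := map_under_eq_maximalIdeal A D P
  have hp : P.under A ≠ ⊥ := by
    intro hp
    rw [hp, Ideal.map_bot] at hmax
    exact hnf ((isField_iff_maximalIdeal_eq).mpr hmax.symm)
  obtain ⟨π, hπp, hπ0, hπ⟩ := exists_span_eq_maximalIdeal A (Localization.AtPrime P)
    (P.under A) hp hmax
  have hprin : (maximalIdeal (Localization.AtPrime P)).IsPrincipal := ⟨⟨_, hπ⟩⟩
  exact ((IsDiscreteValuationRing.TFAE (Localization.AtPrime P) hnf).out 4 0).mp hprin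

theorem isDedekindDomain_of_unramified (A D : Type*) [CommRing A] [IsDedekindDomain A] [CommRing D]
    [IsDomain D] [Algebra A D] [Algebra.FiniteType A D] [Algebra.FormallyUnramified A D] :
    IsDedekindDomain D := by
  have hN : IsNoetherianRing D := Algebra.FiniteType.isNoetherianRing A D
  have : IsDedekindDomainDvr D :=
    { toIsNoetherian := hN
      is_dvr_at_nonzero_prime := by
        intro P hP hPp
        exact isDVR_of_unramified A D P
          (IsLocalization.AtPrime.not_isField D hP (Localization.AtPrime P)) }
  infer_instance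

theorem s1973 (A B : Type u) [CommRing A] [IsDedekindDomain A] [CommRing B] [Algebra A B]
    [Algebra.Etale A B] :
    (∃ (n : ℕ) (D : Fin n → Type u) (_ : ∀ i, CommRing (D i)) (_ : ∀ i, IsDedekindDomain (D i)),
      Nonempty (B ≃+* ∀ i, D i)) ∧
    ∀ (q : Ideal B) [q.IsMaximal], ¬ IsField (Localization.AtPrime q) →
      ∃ _ : IsDomain (Localization.AtPrime q), IsDiscreteValuationRing (Localization.AtPrime q) := by
  have : IsNoetherianRing B := Algebra.FiniteType.isNoetherianRing A B
  constructor
  · obtain ⟨n, P, hP, ⟨e⟩⟩ := exists_equiv_pi_quotient B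
      (fun q _ => isDomain_localization A B q)
    refine ⟨n, fun i => B ⧸ P i, fun i => inferInstance, fun i => ?_, ⟨e⟩⟩
    have := hP i
    have : Algebra.FormallyUnramified A (B ⧸ P i) :=
      Algebra.FormallyUnramified.of_surjective (Ideal.Quotient.mkₐ A (P i))
        Ideal.Quotient.mk_surjective
    exact isDedekindDomain_of_unramified A (B ⧸ P i)
  · intro q hq hnf
    have hd := isDomain_localization A B q
    exact ⟨hd, isDVR_of_unramified A B q hnf⟩

end Groth.Agent.Helper8.EtDed
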