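import Mathlib
import Groth.Prelude.Def_AlgGrp
import Groth.Agent.Helper5.SecCompB
import Groth.Agent.Helper8.FinDesc

/-!
# Étale equivariant morphisms reflect fixed points (group with connected fibres)
-/

set_option autoImplicit false
universe u
open CategoryTheory CategoryTheory.Limits MonoidalCategory CartesianMonoidalCategory MonObj
  AlgebraicGeometry

namespace Groth.Agent.Helper8.EtFix

section sch

/-- two lifts through an étale morphism, one of them constant along the (preconnected) fibres of a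
morphism `π` with a section along which the two lifts agree, are equal -/
theorem eq_of_preconnected_fibres {X Y P T : Scheme.{u}} (f : X ⟶ Y) [Etale f] (φ₁ φ₂ : P ⟶ X)
    (h : φ₁ ≫ f = φ₂ ≫ f) (π : P ⟶ T) (x₀ : T ⟶ X) (h₂ : φ₂ = π ≫ x₀) (e : T ⟶ P)
    (he : e ≫ π = 𝟙 T) (hee : e ≫ φ₁ = e ≫ φ₂) (hconn : ∀ τ : T, _root_.IsPreconnected (π ⁻¹' {τ})) :
    φ₁ = φ₂ := by
  let l : P ⟶ pullback f f := pullback.lift φ₁ φ₂ h
  have hl1 : l ≫ pullback.fst f f = φ₁ := pullback.lift_fst _ _ _
  have hl2 : l ≫ pullback.snd f f = φ₂ := pullback.lift_snd _ _ _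
  let Δ : X ⟶ pullback f f := pullback.diagonal f
  haveI : IsOpenImmersion Δ := inferInstanceAs (IsOpenImmersion (pullback.diagonal f))
  have hΔ1 : Δ ≫ pullback.fst f f = 𝟙 X := pullback.diagonal_fst f
  have hΔ2 : Δ ≫ pullback.snd f f = 𝟙 X := pullback.diagonal_snd f
  have hrange : Set.range l ⊆ Set.range Δ := by
    rintro _ ⟨p, rfl⟩
    set τ := π p with hτ
    haveI : LocallyQuasiFinite (pullback.snd f f) := by
      haveI : Etale (pullback.snd f f) := inferInstance
      exact FinDesc.lqf_of_etale _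
    have hD : _root_.IsDiscrete ((pullback.snd f f) ⁻¹' {x₀ τ}) :=
      (pullback.snd f f).isDiscrete_preimage_singleton _
    haveI : DiscreteTopology ((pullback.snd f f) ⁻¹' {x₀ τ}) := hD.to_subtype
    haveI : PreconnectedSpace (π ⁻¹' {τ}) := isPreconnected_iff_preconnectedSpace.mp (hconn τ)
    have hmap : ∀ q : (π ⁻¹' {τ}), l q.1 ∈ (pullback.snd f f) ⁻¹' {x₀ τ} := by
      intro q
      show (pullback.snd f f) (l q.1) = x₀ τ
      rw [← Scheme.Hom.comp_apply, hl2, h₂, Scheme.Hom.comp_apply]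
      congr 1
      exact q.2
    let l' : (π ⁻¹' {τ}) → ((pullback.snd f f) ⁻¹' {x₀ τ}) := fun q => ⟨l q.1, hmap q⟩
    have hl' : Continuous l' :=
      Continuous.subtype_mk (l.continuous.comp continuous_subtype_val) _
    let A : Set (π ⁻¹' {τ}) := l' ⁻¹' {d | d.1 ∈ Set.range Δ}
    have hA : IsClopen A := (isClopen_discrete _).preimage hl'
    have hne : A.Nonempty := by
      have h1 : π (e τ) = τ := by
        rw [← Scheme.Hom.comp_apply, he]
        rfl
      refine ⟨⟨e τ, h1⟩, ?_⟩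
      show l (e τ) ∈ Set.range Δ
      have h2 : e ≫ l = (e ≫ φ₁) ≫ Δ := by
        apply pullback.hom_ext
        · rw [Category.assoc, hl1, Category.assoc, hΔ1, Category.comp_id]
        · rw [Category.assoc, hl2, Category.assoc, hΔ2, Category.comp_id, hee]
      rw [← Scheme.Hom.comp_apply, h2, Scheme.Hom.comp_apply]
      exact ⟨_, rfl⟩
    have hAu : A = Set.univ := hA.eq_univ hne
    have h3 : (⟨p, rfl⟩ : (π ⁻¹' {τ})) ∈ A := by
      rw [hAu]
      trivial
    exact h3
  let k : P ⟶ X := IsOpenImmersion.lift Δ l hrange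
  have hk : k ≫ Δ = l := IsOpenImmersion.lift_fac _ _ _
  calc φ₁ = l ≫ pullback.fst f f := hl1.symm
    _ = k := by rw [← hk, Category.assoc, hΔ1, Category.comp_id]
    _ = l ≫ pullback.snd f f := by rw [← hk, Category.assoc, hΔ2, Category.comp_id]
    _ = φ₂ := hl2

end sch

section ov
variable {S : Scheme.{u}} (G : Over S) [GrpObj G]

theorem isPreconnected_fibre_snd (hconn : ∀ s : S, ConnectedSpace (G.hom.fiber s)) (T : Over S)
    (τ : T.left) : _root_.IsPreconnected ((snd G T).left ⁻¹' {τ}) := by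
  let s : S ⟶ G.left := η[G].left
  have hs : s ≫ G.hom = 𝟙 S := Over.w η[G]
  have hc : IsPullback (fst G T).left (snd G T).left G.hom T.hom :=
    IsPullback.of_hasPullback G.hom T.hom
  set C : Set G.left := G.hom ⁻¹' {T.hom τ} with hC
  have hCconn : _root_.IsPreconnected C := by
    haveI := hconn (T.hom τ)
    have h1 : _root_.IsPreconnected (Set.range (G.hom.fiberι (T.hom τ))) :=
      isPreconnected_range (G.hom.fiberι _).continuous
    rwa [Scheme.Hom.range_fiberι] at h1
  have h := Groth.Agent.Helper5.SecComp.isPreconnected_preimage G.hom s hs (snd G T).left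
    (fst G T).left T.hom hc τ C Set.univ isClosed_univ (Set.univ_inter _).symm hCconn (by
      show G.hom (s (T.hom τ)) = T.hom τ
      rw [← Scheme.Hom.comp_apply, hs]
      rfl)
  have hsub : (snd G T).left ⁻¹' {τ} ∩ (fst G T).left ⁻¹' C = (snd G T).left ⁻¹' {τ} := by
    apply Set.inter_eq_left.mpr
    intro p hp
    show G.hom ((fst G T).left p) = T.hom τ
    rw [← Scheme.Hom.comp_apply, hc.w, Scheme.Hom.comp_apply]
    congr 1
  rwa [hsub] at h

variable {G}

theorem main {X Y : Over S} (hconn : ∀ s : S, ConnectedSpace (G.hom.fiber s))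
    (a : AlgGrp.Action G X) (b : AlgGrp.Action G Y) (f : X ⟶ Y) [Etale f.left]
    (hf : a.act ≫ f = (G ◁ f) ≫ b.act) (T : Over S) (x : T ⟶ X)
    (hx : ∀ (T' : Over S) (t : T' ⟶ T) (g : T' ⟶ G),
      lift g (t ≫ x ≫ f) ≫ b.act = t ≫ x ≫ f)
    (g : T ⟶ G) : lift g x ≫ a.act = x := by
  let φ₁ : G ⊗ T ⟶ X := (G ◁ x) ≫ a.act
  let φ₂ : G ⊗ T ⟶ X := snd G T ≫ x
  have hφ : φ₁ ≫ f = φ₂ ≫ f := by
    have h1 := hx (G ⊗ T) (snd G T) (fst G T)
    have h2 : lift (fst G T) (snd G T ≫ x ≫ f) = G ◁ (x ≫ f) := by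
      apply CartesianMonoidalCategory.hom_ext <;> simp
    rw [h2] at h1
    show ((G ◁ x) ≫ a.act) ≫ f = (snd G T ≫ x) ≫ f
    rw [Category.assoc, hf, ← Category.assoc, ← MonoidalCategory.whiskerLeft_comp, h1,
      Category.assoc]
  let e : T ⟶ G ⊗ T := lift (toUnit T ≫ η[G]) (𝟙 T)
  have he : e ≫ snd G T = 𝟙 T := lift_snd _ _
  have hee : e ≫ φ₁ = e ≫ φ₂ := by
    have h1 : e ≫ (G ◁ x) = lift (toUnit T) x ≫ (η[G] ▷ X) := by
      apply CartesianMonoidalCategory.hom_ext <;> simp [e]
    show e ≫ (G ◁ x) ≫ a.act = e ≫ snd G T ≫ x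
    rw [← Category.assoc, h1, Category.assoc, a.one_act, ← Category.assoc e, he,
      Category.id_comp]
    simp
  have key : φ₁ = φ₂ := by
    apply Over.OverMorphism.ext
    exact eq_of_preconnected_fibres f.left φ₁.left φ₂.left
      (by rw [← Over.comp_left, hφ, Over.comp_left]) (snd G T).left x.left rfl
      e.left (by rw [← Over.comp_left, he]; rfl) (by rw [← Over.comp_left, hee, Over.comp_left])
      (isPreconnected_fibre_snd G hconn T)
  have h1 : lift g x = lift g (𝟙 T) ≫ (G ◁ x) := by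
    apply CartesianMonoidalCategory.hom_ext <;> simp
  rw [h1, Category.assoc]
  show lift g (𝟙 T) ≫ φ₁ = x
  rw [key]
  show lift g (𝟙 T) ≫ snd G T ≫ x = x
  rw [← Category.assoc, lift_snd, Category.id_comp]

end ov

end Groth.Agent.Helper8.EtFix
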