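import Mathlib
import Groth.Prelude.Def_Dix
import Groth.Prelude.Def_EtGm

/-!
# Formal consequences of the long exact cohomology sequence on the small étale site
-/

set_option autoImplicit false

namespace Groth.Agent.Helper8.EtLES

open CategoryTheory AlgebraicGeometry Opposite Limits

universe u

variable {X : Scheme.{u}}

theorem H_map_nsmul {F : EtCoh.Ab X} (i n : ℕ) (ξ : EtCoh.H X F i) :
    Sheaf.H.map (n • 𝟙 F) i ξ = n • ξ := by
  induction n with
  | zero =>
    rw [zero_nsmul, zero_nsmul, Sheaf.H.map_apply, Abelian.Ext.mk₀_zero, Abelian.Ext.comp_zero]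
  | succ n ih =>
    rw [succ_nsmul, succ_nsmul, Sheaf.H.map_add_apply, ih, Sheaf.H.map_id_apply]

theorem H_map_zero {F G : EtCoh.Ab X} (i : ℕ) (ξ : EtCoh.H X F i) :
    Sheaf.H.map (0 : F ⟶ G) i ξ = 0 := by
  rw [Sheaf.H.map_apply, Abelian.Ext.mk₀_zero, Abelian.Ext.comp_zero]

theorem nsmul_sect (F : EtCoh.Ab X) (N : ℕ) (U : X.Etale) (s : EtCoh.sect F U) :
    ((N • 𝟙 F : F ⟶ F).hom.app (op U)) s = N • s := by
  induction N with
  | zero => simp
  | succ n ih =>
    rw [succ_nsmul, succ_nsmul]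
    simp [ih]

/-- a sheaf killed by `ℓ ^ k` is `ℓ`-primary torsion -/
theorem isPrimaryTorsion_of_nsmul_eq_zero (F : EtCoh.Ab X) (ℓ k : ℕ) (h : (ℓ ^ k) • 𝟙 F = 0) :
    Dix.IsPrimaryTorsion ℓ F := by
  intro U s x
  refine ⟨U, 𝟙 U, ⟨x, rfl⟩, k, ?_⟩
  rw [← nsmul_sect, h]
  simp

/-- `H^i(g)` is injective when `H^i` of the kernel vanishes -/
theorem H_map_g_injective {S : ShortComplex (EtCoh.Ab X)} (hS : S.ShortExact) (i : ℕ)
    [Subsingleton (EtCoh.H X S.X₁ i)] : Function.Injective (Sheaf.H.map S.g i) := by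
  rw [injective_iff_map_eq_zero]
  intro x hx
  obtain ⟨x₁, hx₁⟩ := Abelian.Ext.covariant_sequence_exact₂ _ hS (n := i) x hx
  rw [← hx₁, Subsingleton.elim x₁ 0, Abelian.Ext.zero_comp]

/-- `H^{j+1}(f)` is injective when `H^j` of the cokernel vanishes -/
theorem H_map_f_injective {S : ShortComplex (EtCoh.Ab X)} (hS : S.ShortExact) (j : ℕ)
    [Subsingleton (EtCoh.H X S.X₃ j)] : Function.Injective (Sheaf.H.map S.f (j + 1)) := by
  rw [injective_iff_map_eq_zero]
  intro x hx
  obtain ⟨x₃, hx₃⟩ := Abelian.Ext.covariant_sequence_exact₁ _ hS (n₁ := j + 1) x hx (n₀ := j) rfl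
  rw [← hx₃, Subsingleton.elim x₃ 0, Abelian.Ext.zero_comp]

/-- If `H^i` vanishes on sheaves killed by `N` for `i > n`, then `N`-torsion of `H^i(F)` vanishes for
`i > n + 1`, for any `F`. -/
theorem eq_zero_of_nsmul_eq_zero (F : EtCoh.Ab X) (N n : ℕ)
    (hvan : ∀ G : EtCoh.Ab X, N • 𝟙 G = 0 → ∀ q : ℕ, n < q → Subsingleton (EtCoh.H X G q))
    (i : ℕ) (hi : n + 1 < i) (ξ : EtCoh.H X F i) (hξ : N • ξ = 0) : ξ = 0 := by
  obtain ⟨j, rfl⟩ : ∃ j, i = j + 1 := ⟨i - 1, by omega⟩
  have hj : n < j := by omega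
  let f : F ⟶ F := N • 𝟙 F
  let e : F ⟶ Abelian.image f := Abelian.factorThruImage f
  let m : Abelian.image f ⟶ F := Abelian.image.ι f
  have hem : e ≫ m = f := Abelian.image.fac f
  -- first sequence
  let S₁ : ShortComplex (EtCoh.Ab X) := ShortComplex.mk (kernel.ι e) e (kernel.condition e)
  have hS₁ : S₁.ShortExact :=
    { exact := ShortComplex.exact_of_f_is_kernel _ (kernelIsKernel _)
      mono_f := by show Mono (kernel.ι e); infer_instance
      epi_g := by show Epi (Abelian.factorThruImage f); infer_instance }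
  have hK : N • 𝟙 (kernel e) = 0 := by
    rw [← cancel_mono (kernel.ι e), zero_comp, Preadditive.nsmul_comp, Category.id_comp]
    have h1 : kernel.ι e ≫ f = 0 :=
      calc kernel.ι e ≫ f = kernel.ι e ≫ e ≫ m := congrArg (fun φ => kernel.ι e ≫ φ) hem.symm
        _ = 0 := by rw [kernel.condition_assoc, zero_comp]
    have h2 : kernel.ι e ≫ f = N • kernel.ι e := by
      show kernel.ι e ≫ (N • 𝟙 F) = _
      rw [Preadditive.comp_nsmul, Category.comp_id]
    rw [← h2, h1]
  -- second sequence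
  let S₂ : ShortComplex (EtCoh.Ab X) := ShortComplex.mk m (cokernel.π m) (cokernel.condition m)
  have hS₂ : S₂.ShortExact :=
    { exact := ShortComplex.exact_of_g_is_cokernel _ (cokernelIsCokernel _)
      mono_f := by show Mono (Abelian.image.ι f); infer_instance
      epi_g := by show Epi (cokernel.π m); infer_instance }
  have hC : N • 𝟙 (cokernel m) = 0 := by
    rw [← cancel_epi (cokernel.π m), comp_zero, Preadditive.comp_nsmul, Category.comp_id]
    have h1 : f ≫ cokernel.π m = 0 :=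
      calc f ≫ cokernel.π m = (e ≫ m) ≫ cokernel.π m :=
            congrArg (fun φ => φ ≫ cokernel.π m) hem.symm
        _ = 0 := by rw [Category.assoc, cokernel.condition, comp_zero]
    have h2 : f ≫ cokernel.π m = N • cokernel.π m := by
      show (N • 𝟙 F) ≫ cokernel.π m = _
      rw [Preadditive.nsmul_comp, Category.id_comp]
    rw [← h2, h1]
  haveI : Subsingleton (EtCoh.H X S₁.X₁ (j + 1)) := hvan _ hK _ (by omega)
  haveI : Subsingleton (EtCoh.H X S₂.X₃ j) := hvan _ hC _ hj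
  have h3 : Sheaf.H.map f (j + 1) ξ = 0 := by rw [H_map_nsmul]; exact hξ
  rw [← hem, Sheaf.H.map_comp_apply] at h3
  have h4 : Sheaf.H.map e (j + 1) ξ = 0 :=
    H_map_f_injective hS₂ j (h3.trans (map_zero _).symm)
  exact H_map_g_injective hS₁ (j + 1) (h4.trans (map_zero _).symm)

end Groth.Agent.Helper8.EtLES
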