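import Mathlib
import Groth.Prelude.Def_Desc
import Groth.Agent.Helper8.EtLiftA
import Groth.Agent.Helper8.DescAffC

/-!
# Étale schemes carry a canonical descent datum relative to a universally injective morphism

For `p : X ⟶ S` universally injective, and `V ⟶ X` étale, `etDD p V` is the unique descent datum on `V`.
For `p` fpqc it is effective (`exists_etale_descent`).
-/

set_option autoImplicit false
universe u

namespace Groth.Agent.Helper8.EtLift

open CategoryTheory CategoryTheory.Limits AlgebraicGeometry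

section Loc

variable {X S : Scheme.{u}} (p : X ⟶ S)

/-- the locus where two points of `X` with the same image in `S` agree -/
noncomputable abbrev eqLoc {T : Scheme.{u}} (x₀ x₁ : T ⟶ X) (h : x₀ ≫ p = x₁ ≫ p) : Scheme.{u} :=
  pullback (pullback.lift x₀ x₁ h) (pullback.diagonal p)

/-- the inclusion of the locus of agreement -/
noncomputable abbrev eqι {T : Scheme.{u}} (x₀ x₁ : T ⟶ X) (h : x₀ ≫ p = x₁ ≫ p) :
    eqLoc p x₀ x₁ h ⟶ T :=
  pullback.fst (pullback.lift x₀ x₁ h) (pullback.diagonal p)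

lemma eqι_comp {T : Scheme.{u}} (x₀ x₁ : T ⟶ X) (h : x₀ ≫ p = x₁ ≫ p) :
    eqι p x₀ x₁ h ≫ x₀ = eqι p x₀ x₁ h ≫ x₁ := by
  have hcond : eqι p x₀ x₁ h ≫ pullback.lift x₀ x₁ h =
      pullback.snd (pullback.lift x₀ x₁ h) (pullback.diagonal p) ≫ pullback.diagonal p :=
    pullback.condition
  have e1 := congrArg (fun m => m ≫ pullback.fst p p) hcond
  have e2 := congrArg (fun m => m ≫ pullback.snd p p) hcond
  simp only [Category.assoc, pullback.lift_fst, pullback.lift_snd, pullback.diagonal_fst,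
    pullback.diagonal_snd, Category.comp_id] at e1 e2
  exact e1.trans e2.symm

/-- a morphism equalizing the two points factors through the locus of agreement -/
noncomputable def eqLift {T T' : Scheme.{u}} (x₀ x₁ : T ⟶ X) (h : x₀ ≫ p = x₁ ≫ p) (k : T' ⟶ T)
    (hk : k ≫ x₀ = k ≫ x₁) : T' ⟶ eqLoc p x₀ x₁ h :=
  pullback.lift k (k ≫ x₀) (by
    apply pullback.hom_ext
    · rw [Category.assoc, pullback.lift_fst, Category.assoc, pullback.diagonal_fst, Category.comp_id]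
    · rw [Category.assoc, pullback.lift_snd, Category.assoc, pullback.diagonal_snd, Category.comp_id,
        hk])

lemma eqLift_ι {T T' : Scheme.{u}} (x₀ x₁ : T ⟶ X) (h : x₀ ≫ p = x₁ ≫ p) (k : T' ⟶ T)
    (hk : k ≫ x₀ = k ≫ x₁) : eqLift p x₀ x₁ h k hk ≫ eqι p x₀ x₁ h = k :=
  pullback.lift_fst _ _ _

variable [UniversallyInjective p]

instance surjective_diagonal : Surjective (pullback.diagonal p) :=
  (UniversallyInjective.iff_diagonal p).1 inferInstance

instance surjective_eqι {T : Scheme.{u}} (x₀ x₁ : T ⟶ X) (h : x₀ ≫ p = x₁ ≫ p) :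
    Surjective (eqι p x₀ x₁ h) :=
  MorphismProperty.pullback_fst (P := @Surjective) _ _ (surjective_diagonal p)

instance universallyOpen_eqι {T : Scheme.{u}} (x₀ x₁ : T ⟶ X) (h : x₀ ≫ p = x₁ ≫ p) :
    UniversallyOpen (eqι p x₀ x₁ h) :=
  universallyOpen_of_isImmersion_of_surjective _

end Loc

section Tr

variable {X S : Scheme.{u}} (p : X ⟶ S) [UniversallyInjective p] (obj : Over X) [Etale obj.hom]

lemma exists_tr {T : Scheme.{u}} (x₀ x₁ : T ⟶ X) (h : x₀ ≫ p = x₁ ≫ p) (v : T ⟶ obj.left)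
    (hv : v ≫ obj.hom = x₀) :
    ∃ w : T ⟶ obj.left, w ≫ obj.hom = x₁ ∧ eqι p x₀ x₁ h ≫ w = eqι p x₀ x₁ h ≫ v :=
  exists_lift obj.hom x₁ (eqι p x₀ x₁ h) (eqι p x₀ x₁ h ≫ v) (by
    rw [Category.assoc, hv, eqι_comp])

/-- the transport of a point of an étale scheme -/
noncomputable def etr {T : Scheme.{u}} (x₀ x₁ : T ⟶ X) (h : x₀ ≫ p = x₁ ≫ p) (v : T ⟶ obj.left)
    (hv : v ≫ obj.hom = x₀) : T ⟶ obj.left := (exists_tr p obj x₀ x₁ h v hv).choose

lemma etr_hom {T : Scheme.{u}} (x₀ x₁ : T ⟶ X) (h : x₀ ≫ p = x₁ ≫ p) (v : T ⟶ obj.left)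
    (hv : v ≫ obj.hom = x₀) : etr p obj x₀ x₁ h v hv ≫ obj.hom = x₁ :=
  (exists_tr p obj x₀ x₁ h v hv).choose_spec.1

lemma etr_ι {T : Scheme.{u}} (x₀ x₁ : T ⟶ X) (h : x₀ ≫ p = x₁ ≫ p) (v : T ⟶ obj.left)
    (hv : v ≫ obj.hom = x₀) :
    eqι p x₀ x₁ h ≫ etr p obj x₀ x₁ h v hv = eqι p x₀ x₁ h ≫ v :=
  (exists_tr p obj x₀ x₁ h v hv).choose_spec.2

lemma comp_etr_of_eq {T T' : Scheme.{u}} (x₀ x₁ : T ⟶ X) (h : x₀ ≫ p = x₁ ≫ p) (v : T ⟶ obj.left)
    (hv : v ≫ obj.hom = x₀) (k : T' ⟶ T) (hk : k ≫ x₀ = k ≫ x₁) :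
    k ≫ etr p obj x₀ x₁ h v hv = k ≫ v := by
  rw [← eqLift_ι p x₀ x₁ h k hk, Category.assoc, etr_ι, Category.assoc]

lemma etr_unique {T T' : Scheme.{u}} (x₀ x₁ : T ⟶ X) (h : x₀ ≫ p = x₁ ≫ p) (v : T ⟶ obj.left)
    (hv : v ≫ obj.hom = x₀) (k : T' ⟶ T) [Surjective k] (hk : k ≫ x₀ = k ≫ x₁) (w : T ⟶ obj.left)
    (hw : w ≫ obj.hom = x₁) (hkw : k ≫ w = k ≫ v) : w = etr p obj x₀ x₁ h v hv :=
  unique_lift obj.hom k w _ (hw.trans (etr_hom p obj x₀ x₁ h v hv).symm)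
    (hkw.trans (comp_etr_of_eq p obj x₀ x₁ h v hv k hk).symm)

/-- the canonical descent datum on an étale scheme relative to a universally injective morphism -/
noncomputable def etDD : Desc.SchDD p :=
  DescAff.mkDD obj (fun _ x₀ x₁ h v hv => etr p obj x₀ x₁ h v hv)
    (fun _ x₀ x₁ h v hv => etr_hom p obj x₀ x₁ h v hv)
    (fun T T' g x₀ x₁ h v hv h' hv' => by
      refine etr_unique p obj (g ≫ x₀) (g ≫ x₁) h' (g ≫ v) hv' (eqι p (g ≫ x₀) (g ≫ x₁) h')
        (eqι_comp p _ _ h') _ ?_ ?_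
      · rw [Category.assoc, etr_hom]
      · rw [← Category.assoc, ← Category.assoc]
        refine comp_etr_of_eq p obj x₀ x₁ h v hv _ ?_
        rw [Category.assoc, Category.assoc]
        exact eqι_comp p _ _ h')
    (fun T x v hv => by
      refine (etr_unique p obj x x rfl v hv (𝟙 T) rfl v hv rfl).symm)
    (fun T x₀ x₁ x₂ h₀₁ h₁₂ v hv => by
      let k : pullback (eqι p x₀ x₁ h₀₁) (eqι p x₁ x₂ h₁₂) ⟶ T :=
        pullback.fst (eqι p x₀ x₁ h₀₁) (eqι p x₁ x₂ h₁₂) ≫ eqι p x₀ x₁ h₀₁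
      have hk' : k = pullback.snd (eqι p x₀ x₁ h₀₁) (eqι p x₁ x₂ h₁₂) ≫ eqι p x₁ x₂ h₁₂ :=
        pullback.condition
      have hfs : Surjective (pullback.fst (eqι p x₀ x₁ h₀₁) (eqι p x₁ x₂ h₁₂)) :=
        MorphismProperty.pullback_fst (P := @Surjective) _ _ (surjective_eqι p x₁ x₂ h₁₂)
      have hks : Surjective k := inferInstance
      have hk01 : k ≫ x₀ = k ≫ x₁ := by
        show (_ ≫ _) ≫ x₀ = (_ ≫ _) ≫ x₁
        rw [Category.assoc, Category.assoc, eqι_comp]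
      have hk12 : k ≫ x₁ = k ≫ x₂ := by
        rw [hk', Category.assoc, Category.assoc, eqι_comp]
      refine etr_unique p obj x₀ x₂ (h₀₁.trans h₁₂) v hv k (hk01.trans hk12) _ ?_ ?_
      · exact etr_hom p obj x₁ x₂ h₁₂ _ _
      · rw [comp_etr_of_eq p obj x₁ x₂ h₁₂ _ _ k hk12, comp_etr_of_eq p obj x₀ x₁ h₀₁ v hv k hk01])

lemma etDD_obj : (etDD p obj).obj = obj := rfl

end Tr

section Main

/-- étale schemes descend along flat, surjective, quasi-compact, universally injective morphisms -/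
theorem exists_etale_descent {S' S : Scheme.{u}} (g : S' ⟶ S) [Flat g] [Surjective g]
    [QuasiCompact g] [UniversallyInjective g] (V : Over S') [Etale V.hom] :
    ∃ U : Over S, Etale U.hom ∧ Nonempty (Over.mk (pullback.fst g U.hom) ≅ V) := by
  obtain ⟨U, ⟨e⟩⟩ := DescAff.effective_of_universallyInjective g (etDD g V)
  have h1 : e.hom.hom ≫ e.inv.hom = 𝟙 _ := by
    rw [← Desc.SchDD.comp_hom, e.hom_inv_id]; rfl
  have h2 : e.inv.hom ≫ e.hom.hom = 𝟙 _ := by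
    rw [← Desc.SchDD.comp_hom, e.inv_hom_id]; rfl
  let i : Over.mk (pullback.fst g U.hom) ≅ V := ⟨e.hom.hom, e.inv.hom, h1, h2⟩
  refine ⟨U, ?_, ⟨i⟩⟩
  have hfst : Etale (pullback.fst g U.hom) := by
    have hw : i.hom.left ≫ V.hom = pullback.fst g U.hom := Over.w i.hom
    haveI : IsIso i.hom.left := ⟨⟨i.inv.left, by rw [← Over.comp_left, i.hom_inv_id]; rfl,
      by rw [← Over.comp_left, i.inv_hom_id]; rfl⟩⟩
    rw [← hw]
    infer_instance
  exact MorphismProperty.of_pullback_fst_of_descendsAlong (P := @Etale)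
    (Q := @Surjective ⊓ @Flat ⊓ @QuasiCompact) (f := g) (g := U.hom)
    ⟨⟨inferInstance, inferInstance⟩, inferInstance⟩ hfst

end Main

end Groth.Agent.Helper8.EtLift
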