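import Mathlib
import Groth.Prelude.Def_Desc
import Groth.Prelude.Def_EtBase
import Groth.Agent.Helper8.EtLiftB
import Groth.Agent.Lead.DescDD

/-!
# Base change of étale schemes along fpqc universally injective morphisms is an equivalence
-/

set_option autoImplicit false
universe u

namespace Groth.Agent.Helper8.EtLift

open CategoryTheory CategoryTheory.Limits AlgebraicGeometry

section Can

variable {X S : Scheme.{u}} (p : X ⟶ S) (U : Over S)

lemma comp_canMap_of_eq {T T' : Scheme.{u}} (x₀ x₁ : T ⟶ X) (h : x₀ ≫ p = x₁ ≫ p)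
    (v : Desc.Lifts ((Desc.toDD p).obj U).obj x₀) (k : T' ⟶ T) (hk : k ≫ x₀ = k ≫ x₁) :
    k ≫ (((Desc.toDD p).obj U).φ x₀ x₁ h v).1 = k ≫ v.1 := by
  let v' : T ⟶ pullback p U.hom := v.1
  have hv : v' ≫ pullback.fst p U.hom = x₀ := v.2
  show k ≫ pullback.lift x₁ (v' ≫ pullback.snd p U.hom) _ = k ≫ v'
  apply pullback.hom_ext
  · rw [Category.assoc, pullback.lift_fst, Category.assoc, hv, hk]
  · rw [Category.assoc, pullback.lift_snd, Category.assoc]

end Can

section Equiv

variable {S S' : Scheme.{u}} (g : S' ⟶ S)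

theorem bc_faithful [Flat g] [Surjective g] : (EtCoh.bc g).Faithful := by
  constructor
  intro U V a b hab
  apply MorphismProperty.Over.Hom.ext
  haveI : Epi (pullback.fst U.hom g) := Flat.epi_of_flat_of_surjective _
  rw [← cancel_epi (pullback.fst U.hom g)]
  have ha : ((EtCoh.bc g).map a).left ≫ pullback.fst V.hom g = pullback.fst U.hom g ≫ a.left :=
    (EtCoh.isPullback_bc_map g a).w
  have hb : ((EtCoh.bc g).map b).left ≫ pullback.fst V.hom g = pullback.fst U.hom g ≫ b.left :=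
    (EtCoh.isPullback_bc_map g b).w
  rw [← ha, ← hb, hab]

theorem bc_full [Flat g] [Surjective g] [QuasiCompact g] [UniversallyInjective g] :
    (EtCoh.bc g).Full := by
  constructor
  intro U V φ
  let Uo : Over S := Over.mk U.hom
  let Vo : Over S := Over.mk V.hom
  let φl : pullback U.hom g ⟶ pullback V.hom g := φ.left
  have hφ : φl ≫ pullback.snd V.hom g = pullback.snd U.hom g := MorphismProperty.Over.w φ
  let ψl : pullback g U.hom ⟶ pullback g V.hom :=
    (pullbackSymmetry g U.hom).hom ≫ φl ≫ (pullbackSymmetry V.hom g).hom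
  have hψfst : ψl ≫ pullback.fst g V.hom = pullback.fst g U.hom := by
    show ((pullbackSymmetry g U.hom).hom ≫ φl ≫ (pullbackSymmetry V.hom g).hom) ≫
      pullback.fst g V.hom = pullback.fst g U.hom
    rw [Category.assoc, Category.assoc, pullbackSymmetry_hom_comp_fst, hφ,
      pullbackSymmetry_hom_comp_snd]
  have hψsnd : ψl ≫ pullback.snd g V.hom =
      (pullbackSymmetry g U.hom).hom ≫ φl ≫ pullback.fst V.hom g := by
    show ((pullbackSymmetry g U.hom).hom ≫ φl ≫ (pullbackSymmetry V.hom g).hom) ≫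
      pullback.snd g V.hom = _
    rw [Category.assoc, Category.assoc, pullbackSymmetry_hom_comp_snd]
  haveI : Etale (pullback.fst g V.hom) := inferInstance
  let ψ : (Desc.toDD g).obj Uo ⟶ (Desc.toDD g).obj Vo :=
    ⟨Over.homMk ψl hψfst, fun T x₀ x₁ h v w hw => by
      let wt : T ⟶ pullback g V.hom := (((Desc.toDD g).obj Vo).φ x₀ x₁ h w).1
      let vt : T ⟶ pullback g U.hom := (((Desc.toDD g).obj Uo).φ x₀ x₁ h v).1
      let w0 : T ⟶ pullback g V.hom := w.1
      let v0 : T ⟶ pullback g U.hom := v.1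
      have hw' : w0 = v0 ≫ ψl := hw
      have hv1 : vt ≫ pullback.fst g U.hom = x₁ := (((Desc.toDD g).obj Uo).φ x₀ x₁ h v).2
      have hw1 : wt ≫ pullback.fst g V.hom = x₁ := (((Desc.toDD g).obj Vo).φ x₀ x₁ h w).2
      have c1 : eqι g x₀ x₁ h ≫ wt = eqι g x₀ x₁ h ≫ w0 :=
        comp_canMap_of_eq g Vo x₀ x₁ h w _ (eqι_comp g x₀ x₁ h)
      have c2 : eqι g x₀ x₁ h ≫ vt = eqι g x₀ x₁ h ≫ v0 :=
        comp_canMap_of_eq g Uo x₀ x₁ h v _ (eqι_comp g x₀ x₁ h)
      show wt = vt ≫ ψl
      refine unique_lift (pullback.fst g V.hom) (eqι g x₀ x₁ h) _ _ ?_ ?_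
      · rw [hw1, Category.assoc, hψfst, hv1]
      · exact c1.trans ((congrArg (fun m => eqι g x₀ x₁ h ≫ m) hw').trans
          ((Category.assoc _ _ _).symm.trans ((congrArg (fun m => m ≫ ψl) c2.symm).trans
            (Category.assoc _ _ _))))⟩
  haveI := Groth.Agent.Lead.toDD_full g
  let a₀ : Uo ⟶ Vo := (Desc.toDD g).preimage ψ
  have ha₀ : (Desc.toDD g).map a₀ = ψ := (Desc.toDD g).map_preimage ψ
  have ha₀l : ((Desc.toDD g).map a₀).hom.left = ψl := by rw [ha₀]; rfl
  have hsnd : ψl ≫ pullback.snd g V.hom = pullback.snd g U.hom ≫ a₀.left := by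
    rw [← ha₀l]; exact Groth.Agent.Lead.toDD_map_snd g a₀
  have ha₀w : a₀.left ≫ V.hom = U.hom := Over.w a₀
  let a : U ⟶ V := MorphismProperty.Over.homMk a₀.left ha₀w trivial
  have hal : a.left = a₀.left := rfl
  refine ⟨a, ?_⟩
  apply MorphismProperty.Over.Hom.ext
  let ml : pullback U.hom g ⟶ pullback V.hom g := ((EtCoh.bc g).map a).left
  have hm : ml ≫ pullback.fst V.hom g = pullback.fst U.hom g ≫ a₀.left :=
    (EtCoh.isPullback_bc_map g a).w
  have hm2 : ml ≫ pullback.snd V.hom g = pullback.snd U.hom g :=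
    MorphismProperty.Over.w ((EtCoh.bc g).map a)
  show ml = φl
  apply pullback.hom_ext
  · rw [hm]
    have e1 : (pullbackSymmetry g U.hom).hom ≫ φl ≫ pullback.fst V.hom g =
        (pullbackSymmetry g U.hom).hom ≫ pullback.fst U.hom g ≫ a₀.left := by
      rw [← hψsnd, hsnd, ← Category.assoc, pullbackSymmetry_hom_comp_fst]
    exact ((cancel_epi _).1 e1).symm
  · rw [hm2, hφ]

theorem bc_essSurj [Flat g] [Surjective g] [QuasiCompact g] [UniversallyInjective g] :
    (EtCoh.bc g).EssSurj := by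
  constructor
  intro V'
  haveI : Etale (Over.mk V'.hom).hom := V'.prop
  obtain ⟨U, hU, ⟨i⟩⟩ := exists_etale_descent g (Over.mk V'.hom)
  haveI := hU
  have hi : i.hom.left ≫ V'.hom = pullback.fst g U.hom := Over.w i.hom
  refine ⟨Scheme.Etale.mk U.hom, ⟨MorphismProperty.Over.isoMk
    ((pullbackSymmetry U.hom g) ≪≫ (Over.forget _).mapIso i) ?_⟩⟩
  show ((pullbackSymmetry U.hom g).hom ≫ i.hom.left) ≫ V'.hom = pullback.snd U.hom g
  rw [Category.assoc, hi, pullbackSymmetry_hom_comp_fst]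

theorem bc_isEquivalence [Flat g] [Surjective g] [QuasiCompact g] [UniversallyInjective g] :
    (EtCoh.bc g).IsEquivalence :=
  { faithful := bc_faithful g
    full := bc_full g
    essSurj := bc_essSurj g }

end Equiv

end Groth.Agent.Helper8.EtLift
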