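import Mathlib

/-!
# Étale-local extension of morphisms into smooth schemes along closed immersions
-/

set_option autoImplicit false

namespace Groth.Agent.Helper8.EtNbhdExt

open CategoryTheory CategoryTheory.Limits AlgebraicGeometry TensorProduct

universe u

/-- For a finite type formally unramified algebra `B → E` with a "retraction modulo `ker π`"
`σ₀ : E → B₀ = B / ker π`, there is `r ∈ 1 + ker σ₀` with `r • ker σ₀ ⊆ (ker π) E`. -/
theorem lemmaA {B E B₀ : Type u} [CommRing B] [CommRing E] [CommRing B₀] [Algebra B E]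
    [Algebra.FiniteType B E] [Algebra.FormallyUnramified B E]
    (π : B →+* B₀) (hπ : Function.Surjective π) (σ₀ : E →+* B₀)
    (hσ : ∀ b, σ₀ (algebraMap B E b) = π b) :
    ∃ r : E, σ₀ r = 1 ∧
      ∀ j : E, σ₀ j = 0 → r * j ∈ Ideal.map (algebraMap B E) (RingHom.ker π) := by
  classical
  let J : Ideal E := RingHom.ker σ₀
  let IE : Ideal E := Ideal.map (algebraMap B E) (RingHom.ker π)
  have hIEJ : IE ≤ J := by
    rw [Ideal.map_le_iff_le_comap]
    intro b hb
    show σ₀ (algebraMap B E b) = 0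
    rw [hσ]
    exact hb
  obtain ⟨s, hs⟩ := (Algebra.FiniteType.out : (⊤ : Subalgebra B E).FG)
  choose bb hbb using fun x : E => hπ (σ₀ x)
  let Jf : Ideal E := Ideal.span ((fun x => x - algebraMap B E (bb x)) '' (s : Set E))
  have hJfJ : Jf ≤ J := Ideal.span_le.mpr (by
    rintro _ ⟨x, -, rfl⟩
    show σ₀ _ = 0
    rw [map_sub, hσ, hbb, sub_self])
  have hapx : ∀ y : E, ∃ β : B, y - algebraMap B E β ∈ Jf := by
    intro y
    have hy : y ∈ Algebra.adjoin B (s : Set E) := by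
      rw [hs]
      trivial
    refine Algebra.adjoin_induction (p := fun y _ => ∃ β : B, y - algebraMap B E β ∈ Jf)
      ?_ ?_ ?_ ?_ hy
    · intro x hx
      exact ⟨bb x, Ideal.subset_span ⟨x, hx, rfl⟩⟩
    · intro b
      exact ⟨b, by rw [sub_self]; exact Jf.zero_mem⟩
    · rintro x y - - ⟨β₁, h₁⟩ ⟨β₂, h₂⟩
      refine ⟨β₁ + β₂, ?_⟩
      have h3 := Jf.add_mem h₁ h₂
      have e : x + y - algebraMap B E (β₁ + β₂) =
          (x - algebraMap B E β₁) + (y - algebraMap B E β₂) := by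
        rw [map_add]
        ring
      rw [e]
      exact h3
    · rintro x y - - ⟨β₁, h₁⟩ ⟨β₂, h₂⟩
      refine ⟨β₁ * β₂, ?_⟩
      have h3 := Jf.add_mem (Jf.mul_mem_left x h₂) (Jf.mul_mem_left (algebraMap B E β₂) h₁)
      have e : x * y - algebraMap B E (β₁ * β₂) =
          x * (y - algebraMap B E β₂) + algebraMap B E β₂ * (x - algebraMap B E β₁) := by
        rw [map_mul]
        ring
      rw [e]
      exact h3
  have hJle : J ≤ IE ⊔ Jf := by
    intro j hj
    obtain ⟨β, hβ⟩ := hapx j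
    have h1 : algebraMap B E β ∈ J := by
      have h0 := J.sub_mem hj (hJfJ hβ)
      rwa [sub_sub_cancel] at h0
    have h2 : β ∈ RingHom.ker π := by
      rw [RingHom.mem_ker, ← hσ]
      exact h1
    have h3 : algebraMap B E β ∈ IE := Ideal.mem_map_of_mem _ h2
    have e : j = algebraMap B E β + (j - algebraMap B E β) := by ring
    rw [e]
    exact Ideal.add_mem _ (Ideal.mem_sup_left h3) (Ideal.mem_sup_right hβ)
  -- (b) `J ≤ J * J ⊔ IE` by formal unramifiedness
  let K : Ideal E := J * J ⊔ IE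
  have hJK : J ≤ K := by
    let q : E →ₐ[B] E ⧸ K := Ideal.Quotient.mkₐ B K
    have hker : RingHom.ker π ≤ RingHom.ker (algebraMap B (E ⧸ K)) := by
      intro b hb
      rw [RingHom.mem_ker, IsScalarTower.algebraMap_apply B E (E ⧸ K),
        Ideal.Quotient.algebraMap_eq, Ideal.Quotient.eq_zero_iff_mem]
      exact Ideal.mem_sup_right (Ideal.mem_map_of_mem _ hb)
    let lam : B₀ →+* E ⧸ K := RingHom.liftOfSurjective π hπ ⟨algebraMap B (E ⧸ K), hker⟩
    have hlam : ∀ b, lam (π b) = algebraMap B (E ⧸ K) b := fun b =>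
      RingHom.liftOfSurjective_comp_apply π hπ ⟨_, hker⟩ b
    let q' : E →ₐ[B] E ⧸ K :=
      { lam.comp σ₀ with
        commutes' := fun b => by
          show lam (σ₀ (algebraMap B E b)) = _
          rw [hσ, hlam] }
    let N : Ideal (E ⧸ K) := J.map (Ideal.Quotient.mk K)
    have hN : IsNilpotent N := ⟨2, by
      show N ^ 2 = ⊥
      rw [← Ideal.map_pow, pow_two]
      exact Ideal.map_mk_eq_bot_of_le le_sup_left⟩
    have hqq' : q = q' := by
      refine Algebra.FormallyUnramified.ext N hN (fun x => ?_)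
      rw [Ideal.Quotient.eq]
      obtain ⟨β, hβ⟩ := hapx x
      have h0 : σ₀ x = π β := by
        have h00 : σ₀ (x - algebraMap B E β) = 0 := hJfJ hβ
        rw [map_sub, hσ, sub_eq_zero] at h00
        exact h00
      have h1 : q' x = q (algebraMap B E β) := by
        show lam (σ₀ x) = _
        rw [h0, hlam]
        rfl
      rw [h1, ← map_sub]
      exact Ideal.mem_map_of_mem _ (hJfJ hβ)
    intro j hj
    have h1 : q j = q' j := by rw [hqq']
    have h2 : q' j = 0 := by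
      show lam (σ₀ j) = 0
      rw [(RingHom.mem_ker).mp hj, map_zero]
    rw [h2] at h1
    exact Ideal.Quotient.eq_zero_iff_mem.mp h1
  -- (c) Nakayama
  let mq : E →ₗ[E] E ⧸ IE := Submodule.mkQ IE
  let N : Submodule E (E ⧸ IE) := Submodule.map mq Jf
  have hNfg : N.FG :=
    (Submodule.fg_span ((s.finite_toSet).image _)).map mq
  have hIE0 : Submodule.map mq IE = ⊥ := Submodule.mkQ_map_self IE
  have hNJ : Submodule.map mq J = N := by
    apply le_antisymm
    · calc Submodule.map mq J ≤ Submodule.map mq (IE ⊔ Jf) := Submodule.map_mono hJle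
        _ = Submodule.map mq IE ⊔ Submodule.map mq Jf := Submodule.map_sup _ _ _
        _ = N := by rw [hIE0, bot_sup_eq]
    · exact Submodule.map_mono hJfJ
  have hin : N ≤ J • N := by
    rw [← hNJ]
    calc Submodule.map mq J ≤ Submodule.map mq (J * J ⊔ IE) := Submodule.map_mono hJK
      _ = Submodule.map mq (J * J) ⊔ Submodule.map mq IE := Submodule.map_sup _ _ _
      _ = Submodule.map mq (J • J) := by rw [hIE0, sup_bot_eq]; rfl
      _ = J • Submodule.map mq J := Submodule.map_smul'' _ _ _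
  obtain ⟨r, hr1, hr2⟩ :=
    Submodule.exists_sub_one_mem_and_smul_eq_zero_of_fg_of_le_smul J N hNfg hin
  refine ⟨r, ?_, ?_⟩
  · have h0 : σ₀ (r - 1) = 0 := hr1
    rw [map_sub, map_one, sub_eq_zero] at h0
    exact h0
  · intro j hj
    have h1 : mq j ∈ N := by
      rw [← hNJ]
      exact Submodule.mem_map_of_mem hj
    have h2 := hr2 _ h1
    rw [← map_smul, smul_eq_mul] at h2
    exact (Submodule.Quotient.mk_eq_zero IE).mp h2

/-- After inverting `r`, the kernel of the retraction is generated by `ker π`. -/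
theorem lemmaB {B E B₀ E' : Type u} [CommRing B] [CommRing E] [CommRing B₀] [CommRing E']
    [Algebra B E] [Algebra E E'] [Algebra B E'] [IsScalarTower B E E']
    (π : B →+* B₀) (σ₀ : E →+* B₀) (r : E) [IsLocalization.Away r E']
    (hr : ∀ j : E, σ₀ j = 0 → r * j ∈ Ideal.map (algebraMap B E) (RingHom.ker π))
    (σ : E' →+* B₀) (hσ : ∀ x, σ (algebraMap E E' x) = σ₀ x) :
    ∀ x : E', σ x = 0 → x ∈ Ideal.map (algebraMap B E') (RingHom.ker π) := by
  intro x hx
  obtain ⟨⟨y, m⟩, hym⟩ := IsLocalization.surj (Submonoid.powers r) x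
  have h1 : σ₀ y = 0 := by rw [← hσ, ← hym, map_mul, hx, zero_mul]
  have h2 : algebraMap E E' (r * y) ∈ Ideal.map (algebraMap B E') (RingHom.ker π) := by
    have h0 := Ideal.mem_map_of_mem (algebraMap E E') (hr y h1)
    rwa [Ideal.map_map, ← IsScalarTower.algebraMap_eq] at h0
  have hu : IsUnit (algebraMap E E' r) := IsLocalization.Away.algebraMap_isUnit r
  have hum : IsUnit (algebraMap E E' m.1) := IsLocalization.map_units E' m
  rw [map_mul, ← hym] at h2
  exact (Ideal.mul_unit_mem_iff_mem _ hum).mp ((Ideal.unit_mul_mem_iff_mem _ hu).mp h2)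

/-- The ring-theoretic core. -/
theorem ringLemma {R C B B₀ : CommRingCat.{u}} (ρY : R ⟶ C) (hρY : ρY.hom.IsStandardSmooth)
    (ρX : R ⟶ B) (π : B ⟶ B₀) (hπ : Function.Surjective π.hom) (φ₀ : C ⟶ B₀)
    (hcomm : ρY ≫ φ₀ = ρX ≫ π) :
    ∃ (E' : CommRingCat.{u}) (θ : B ⟶ E') (ψ : C ⟶ E') (σ : E' ⟶ B₀), θ.hom.Etale ∧
      ρY ≫ ψ = ρX ≫ θ ∧ θ ≫ σ = π ∧ ψ ≫ σ = φ₀ ∧ IsPushout θ π σ (𝟙 B₀) := by
  classical
  obtain ⟨n, g, hgC, hg⟩ := hρY.exists_etale_mvPolynomial
  choose b hb using fun j : Fin n => hπ (φ₀.hom (g (MvPolynomial.X j)))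
  let h : MvPolynomial (Fin n) R →+* B := MvPolynomial.eval₂Hom ρX.hom b
  have hhC : ∀ x : R, h (MvPolynomial.C x) = ρX.hom x := fun x => MvPolynomial.eval₂Hom_C _ _ x
  have hgC' : ∀ x : R, g (MvPolynomial.C x) = ρY.hom x := fun x => RingHom.congr_fun hgC x
  have hcomm' : ∀ x : R, φ₀.hom (ρY.hom x) = π.hom (ρX.hom x) := fun x =>
    congrArg (fun φ : R ⟶ B₀ => φ.hom x) hcomm
  have hπh : π.hom.comp h = φ₀.hom.comp g := by
    apply MvPolynomial.ringHom_ext
    · intro x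
      show π.hom (h (MvPolynomial.C x)) = φ₀.hom (g (MvPolynomial.C x))
      rw [hhC, hgC', hcomm']
    · intro j
      show π.hom (h (MvPolynomial.X j)) = φ₀.hom (g (MvPolynomial.X j))
      rw [show h (MvPolynomial.X j) = b j from MvPolynomial.eval₂Hom_X' _ _ j, hb]
  letI algPC : Algebra (MvPolynomial (Fin n) R) C := g.toAlgebra
  letI algPB : Algebra (MvPolynomial (Fin n) R) B := h.toAlgebra
  letI algPB₀ : Algebra (MvPolynomial (Fin n) R) B₀ := (π.hom.comp h).toAlgebra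
  haveI : Algebra.Etale (MvPolynomial (Fin n) R) C := hg
  let πa : B →ₐ[MvPolynomial (Fin n) R] B₀ := { π.hom with commutes' := fun _ => rfl }
  let φa : C →ₐ[MvPolynomial (Fin n) R] B₀ :=
    { φ₀.hom with commutes' := fun p => (RingHom.congr_fun hπh p).symm }
  let σ₀ : B ⊗[MvPolynomial (Fin n) R] C →ₐ[MvPolynomial (Fin n) R] B₀ :=
    Algebra.TensorProduct.productMap πa φa
  have hσ₀B : ∀ x : B, σ₀ (x ⊗ₜ 1) = π.hom x := fun x => by
    show Algebra.TensorProduct.productMap πa φa (x ⊗ₜ 1) = _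
    rw [Algebra.TensorProduct.productMap_apply_tmul, map_one, mul_one]
    rfl
  have hσ₀C : ∀ c : C, σ₀ (1 ⊗ₜ c) = φ₀.hom c := fun c => by
    show Algebra.TensorProduct.productMap πa φa (1 ⊗ₜ c) = _
    rw [Algebra.TensorProduct.productMap_apply_tmul, map_one, one_mul]
    rfl
  obtain ⟨r, hr1, hr⟩ := lemmaA (E := B ⊗[MvPolynomial (Fin n) R] C) π.hom hπ σ₀.toRingHom
    (fun x => by
      rw [Algebra.TensorProduct.algebraMap_apply]
      exact hσ₀B x)
  have hunit : IsUnit (σ₀.toRingHom r) := by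
    rw [hr1]
    exact isUnit_one
  let E' := Localization.Away r
  let σ : E' →+* B₀ := IsLocalization.Away.lift r hunit
  have hσ : ∀ x, σ (algebraMap (B ⊗[MvPolynomial (Fin n) R] C) E' x) = σ₀.toRingHom x :=
    fun x => IsLocalization.Away.lift_eq r hunit x
  have hkerσ := lemmaB (E := B ⊗[MvPolynomial (Fin n) R] C) (E' := E') π.hom σ₀.toRingHom r hr
    σ hσ
  let θ : B ⟶ CommRingCat.of E' := CommRingCat.ofHom (algebraMap B E')
  let ψ : C ⟶ CommRingCat.of E' := CommRingCat.ofHom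
    ((algebraMap (B ⊗[MvPolynomial (Fin n) R] C) E').comp
      (Algebra.TensorProduct.includeRight :
        C →ₐ[MvPolynomial (Fin n) R] B ⊗[MvPolynomial (Fin n) R] C).toRingHom)
  have hθσ : θ ≫ CommRingCat.ofHom σ = π := by
    ext x
    show σ (algebraMap B E' x) = π.hom x
    rw [IsScalarTower.algebraMap_apply B (B ⊗[MvPolynomial (Fin n) R] C) E', hσ,
      Algebra.TensorProduct.algebraMap_apply]
    exact hσ₀B x
  have hψσ : ψ ≫ CommRingCat.ofHom σ = φ₀ := by
    ext c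
    show σ (algebraMap (B ⊗[MvPolynomial (Fin n) R] C) E' (1 ⊗ₜ c)) = φ₀.hom c
    rw [hσ]
    exact hσ₀C c
  refine ⟨CommRingCat.of E', θ, ψ, CommRingCat.ofHom σ, ?_, ?_, hθσ, hψσ, ?_⟩
  · show (algebraMap B E').Etale
    rw [RingHom.etale_algebraMap]
    infer_instance
  · ext x
    show algebraMap (B ⊗[MvPolynomial (Fin n) R] C) E' (1 ⊗ₜ ρY.hom x) = algebraMap B E' (ρX.hom x)
    rw [IsScalarTower.algebraMap_apply B (B ⊗[MvPolynomial (Fin n) R] C) E',
      Algebra.TensorProduct.algebraMap_apply]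
    congr 1
    have e1 : ρX.hom x = (MvPolynomial.C x : MvPolynomial (Fin n) R) • (1 : B) := by
      rw [Algebra.smul_def, mul_one]
      exact (hhC x).symm
    have e2 : ρY.hom x = (MvPolynomial.C x : MvPolynomial (Fin n) R) • (1 : C) := by
      rw [Algebra.smul_def, mul_one]
      exact (hgC' x).symm
    rw [e1, e2]
    show (1 : B) ⊗ₜ[MvPolynomial (Fin n) R] ((MvPolynomial.C x : MvPolynomial (Fin n) R) • (1 : C)) =
      ((MvPolynomial.C x : MvPolynomial (Fin n) R) • (1 : B)) ⊗ₜ[MvPolynomial (Fin n) R] (1 : C)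
    rw [TensorProduct.smul_tmul]
  · have hle : Ideal.map θ.hom (RingHom.ker π.hom) ≤ RingHom.ker (CommRingCat.ofHom σ).hom := by
      rw [Ideal.map_le_iff_le_comap]
      intro β hβ
      show σ (algebraMap B E' β) = 0
      have := congrArg (fun φ : B ⟶ B₀ => φ.hom β) hθσ
      exact this.trans hβ
    refine IsPushout.of_isColimit (PushoutCocone.IsColimit.mk
      (show θ ≫ CommRingCat.ofHom σ = π ≫ 𝟙 B₀ by rw [hθσ, Category.comp_id])
      (fun s => s.inr) (fun s => ?_) (fun s => Category.id_comp _)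
      (fun s m _ h2 => by rw [← h2, Category.id_comp]))
    ext x
    show s.inr.hom (σ x) = s.inl.hom x
    obtain ⟨β, hβ⟩ := hπ (σ x)
    have hcond : ∀ β : B, s.inl.hom (algebraMap B E' β) = s.inr.hom (π.hom β) := fun β =>
      congrArg (fun φ : B ⟶ s.pt => φ.hom β) s.condition
    have hsub : x - algebraMap B E' β ∈ Ideal.map (algebraMap B E') (RingHom.ker π.hom) := by
      apply hkerσ
      rw [map_sub, sub_eq_zero]
      have := congrArg (fun φ : B ⟶ B₀ => φ.hom β) hθσ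
      exact (hβ.symm).trans this.symm
    have hkill : Ideal.map (algebraMap B E') (RingHom.ker π.hom) ≤ RingHom.ker s.inl.hom := by
      rw [Ideal.map_le_iff_le_comap]
      intro β' hβ'
      show s.inl.hom (algebraMap B E' β') = 0
      rw [hcond, (RingHom.mem_ker).mp hβ', map_zero]
    have h0 : s.inl.hom (x - algebraMap B E' β) = 0 := hkill hsub
    rw [map_sub, sub_eq_zero] at h0
    rw [h0, hcond, hβ]

/-- Étale-local extension of a morphism to a smooth scheme from a closed subscheme. -/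
theorem main {S S₀ X Y : Scheme.{u}} (i : S₀ ⟶ S) [IsClosedImmersion i]
    (p : X ⟶ S) (q : Y ⟶ S) [Smooth q] (f₀ : pullback p i ⟶ Y)
    (hf₀ : f₀ ≫ q = pullback.fst p i ≫ p) (x₀ : ↥(pullback p i)) :
    ∃ (U : Scheme.{u}) (e : U ⟶ X) (f : U ⟶ Y), Etale e ∧ f ≫ q = e ≫ p ∧
      IsOpenImmersion (pullback.snd e (pullback.fst p i)) ∧
      x₀ ∈ Set.range (pullback.snd e (pullback.fst p i)).base ∧
      pullback.snd e (pullback.fst p i) ≫ f₀ = pullback.fst e (pullback.fst p i) ≫ f := by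
  obtain ⟨k, hk⟩ : ∃ k : pullback p i ⟶ X, k = pullback.fst p i := ⟨_, rfl⟩
  rw [← hk] at hf₀ ⊢
  haveI : IsClosedImmersion k := by rw [hk]; infer_instance
  obtain ⟨US, hUS, V, hV, hy₀V, hVU, hsm⟩ := Smooth.exists_isStandardSmooth q (f₀ x₀)
  obtain ⟨W', hW'open, hW'eq⟩ :=
    k.isClosedEmbedding.isInducing.isOpen_iff.mp (f₀ ⁻¹ᵁ V).isOpen
  have hxW' : k x₀ ∈ W' := by
    have h0 : x₀ ∈ k ⁻¹' W' := by
      rw [hW'eq]
      exact hy₀V
    exact h0
  have hxUS : p (k x₀) ∈ US := by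
    have h0 : p (k x₀) = q (f₀ x₀) := by
      rw [← Scheme.Hom.comp_apply, ← Scheme.Hom.comp_apply, hf₀]
    rw [h0]
    exact hVU hy₀V
  obtain ⟨_, ⟨W, hW, rfl⟩, hxW, hWsub⟩ :=
    X.isBasis_affineOpens.exists_subset_of_mem_open
      (show k x₀ ∈ W' ∩ ((p ⁻¹ᵁ US : X.Opens) : Set X) from ⟨hxW', hxUS⟩)
      (hW'open.inter (p ⁻¹ᵁ US).isOpen)
  have hWUS : W ≤ p ⁻¹ᵁ US := fun a ha => (hWsub ha).2
  have hW₀ : IsAffineOpen (k ⁻¹ᵁ W) := hW.preimage k
  have hW₀V : k ⁻¹ᵁ W ≤ f₀ ⁻¹ᵁ V := by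
    intro a ha
    have h0 : a ∈ k ⁻¹' W' := (hWsub ha).1
    rw [hW'eq] at h0
    exact h0
  have hπ : Function.Surjective (k.appLE W (k ⁻¹ᵁ W) le_rfl).hom := by
    rw [← Scheme.Hom.app_eq_appLE]
    exact k.app_surjective W hW
  have hcomm : q.appLE US V hVU ≫ f₀.appLE V (k ⁻¹ᵁ W) hW₀V =
      p.appLE US W hWUS ≫ k.appLE W (k ⁻¹ᵁ W) le_rfl := by
    rw [Scheme.Hom.appLE_comp_appLE, Scheme.Hom.appLE_comp_appLE]
    have aux : ∀ (a b : pullback p i ⟶ S) (_ : a = b) (e : k ⁻¹ᵁ W ≤ a ⁻¹ᵁ US)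
        (e' : k ⁻¹ᵁ W ≤ b ⁻¹ᵁ US), a.appLE US (k ⁻¹ᵁ W) e = b.appLE US (k ⁻¹ᵁ W) e' := by
      intro a b hab e e'
      subst hab
      rfl
    exact aux _ _ hf₀ _ _
  obtain ⟨E', θ, ψ, σ, hθ, h1, h2, h3, hpo⟩ := ringLemma (q.appLE US V hVU) hsm
    (p.appLE US W hWUS) (k.appLE W (k ⁻¹ᵁ W) le_rfl) hπ (f₀.appLE V (k ⁻¹ᵁ W) hW₀V) hcomm
  have top := isPullback_SpecMap_of_isPushout θ (k.appLE W (k ⁻¹ᵁ W) le_rfl) σ (𝟙 _) hpo
  have bot : IsPullback (Spec.map (k.appLE W (k ⁻¹ᵁ W) le_rfl)) hW₀.fromSpec hW.fromSpec k := by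
    refine IsOpenImmersion.isPullback _ _ _ _ ?_ ?_
    · exact (IsAffineOpen.SpecMap_appLE_fromSpec k hW hW₀ le_rfl).symm
    · rw [hW.opensRange_fromSpec, hW₀.opensRange_fromSpec]
  have big := top.paste_vert bot
  rw [Spec.map_id, Category.id_comp] at big
  have hsnd : pullback.snd (Spec.map θ ≫ hW.fromSpec) k =
      big.isoPullback.inv ≫ hW₀.fromSpec := by
    rw [Iso.eq_inv_comp, big.isoPullback_hom_snd]
  refine ⟨Spec E', Spec.map θ ≫ hW.fromSpec, Spec.map ψ ≫ hV.fromSpec, ?_, ?_, ?_, ?_, ?_⟩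
  · haveI : Etale (Spec.map θ) := HasRingHomProperty.Spec_iff.mpr hθ
    infer_instance
  · rw [Category.assoc, Category.assoc, ← IsAffineOpen.SpecMap_appLE_fromSpec q hUS hV hVU,
      ← IsAffineOpen.SpecMap_appLE_fromSpec p hUS hW hWUS, ← Spec.map_comp_assoc,
      ← Spec.map_comp_assoc, h1]
  · rw [hsnd]
    infer_instance
  · have hx₀ : x₀ ∈ Set.range hW₀.fromSpec := by
      rw [hW₀.range_fromSpec]
      exact hxW
    obtain ⟨t, ht⟩ := hx₀
    refine ⟨big.isoPullback.hom t, ?_⟩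
    show (pullback.snd (Spec.map θ ≫ hW.fromSpec) k) (big.isoPullback.hom t) = x₀
    rw [← Scheme.Hom.comp_apply, big.isoPullback_hom_snd]
    exact ht
  · rw [← cancel_epi big.isoPullback.hom, ← Category.assoc, ← Category.assoc,
      big.isoPullback_hom_snd, big.isoPullback_hom_fst,
      ← IsAffineOpen.SpecMap_appLE_fromSpec f₀ hV hW₀ hW₀V, ← Spec.map_comp_assoc, h3]

end Groth.Agent.Helper8.EtNbhdExt
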