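import Mathlib
import Groth.Agent.S1353

/-!
# Helper8: étale neighbourhood adapted to a locally quasi-finite subscheme (S14078)

Assembly from helper4's S1353 applied to `Z ⟶ S`, plus pullback pasting.
-/

set_option autoImplicit false
universe u

namespace Groth.Agent.Helper8.EtNbhdSub

open AlgebraicGeometry CategoryTheory Limits

theorem main {Z X S : Scheme.{u}} (f : X ⟶ S)
    [LocallyOfFiniteType f] (i : Z ⟶ X) [IsImmersion i] [LocallyQuasiFinite (i ≫ f)] (z : Z) :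
    ∃ (T : Scheme.{u}) (g : T ⟶ S) (U : (pullback f g).Opens)
      (u : ↥(pullback (U.ι ≫ pullback.fst f g) i)),
      Etale g ∧
      IsFinite (pullback.fst (U.ι ≫ pullback.fst f g) i ≫ U.ι ≫ pullback.snd f g) ∧
      (pullback.snd (U.ι ≫ pullback.fst f g) i).base u = z ∧
      IsIso ((pullback.snd (U.ι ≫ pullback.fst f g) i).residueFieldMap u) ∧
      ∀ u' : ↥(pullback (U.ι ≫ pullback.fst f g) i),
        (pullback.fst (U.ι ≫ pullback.fst f g) i ≫ U.ι ≫ pullback.snd f g).base u' =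
          (pullback.fst (U.ι ≫ pullback.fst f g) i ≫ U.ι ≫ pullback.snd f g).base u → u' = u := by
  haveI : LocallyOfFiniteType (i ≫ f) := inferInstance
  obtain ⟨T, g, t, hnb, V', v, hvV', hfin, hvt, huniq, hvz, hres⟩ :=
    Groth.Agent.S1353.result (i ≫ f) z ((i ≫ f).quasiFiniteAt z)
  haveI : Etale g := hnb.etale
  -- the base-changed immersion
  let iT : pullback (i ≫ f) g ⟶ pullback f g :=
    pullback.lift (pullback.fst (i ≫ f) g ≫ i) (pullback.snd (i ≫ f) g)
      (by rw [Category.assoc]; exact pullback.condition)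
  have hiT₁ : iT ≫ pullback.fst f g = pullback.fst (i ≫ f) g ≫ i := pullback.lift_fst _ _ _
  have hiT₂ : iT ≫ pullback.snd f g = pullback.snd (i ≫ f) g := pullback.lift_snd _ _ _
  have hTop : IsPullback (pullback.fst (i ≫ f) g) iT i (pullback.fst f g) := by
    refine IsPullback.of_bot ?_ hiT₁.symm (IsPullback.of_hasPullback f g)
    rw [hiT₂]
    exact IsPullback.of_hasPullback (i ≫ f) g
  haveI : IsImmersion iT := MorphismProperty.of_isPullback (P := @IsImmersion) hTop inferInstance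
  -- the open U
  obtain ⟨U₀, hU₀o, hU₀⟩ := iT.isEmbedding.isInducing.isOpen_iff.mp V'.isOpen
  let U : (pullback f g).Opens := ⟨U₀, hU₀o⟩
  have hUV : iT ⁻¹ᵁ U = V' := by
    ext w
    exact Set.ext_iff.mp hU₀ w
  subst hUV
  have hP : IsPullback (iT ∣_ U) ((iT ⁻¹ᵁ U).ι ≫ pullback.fst (i ≫ f) g)
      (U.ι ≫ pullback.fst f g) i :=
    (isPullback_morphismRestrict iT U).paste_vert hTop.flip
  let e : ((iT ⁻¹ᵁ U : (pullback (i ≫ f) g).Opens) : Scheme.{u}) ≅
      pullback (U.ι ≫ pullback.fst f g) i := hP.isoPullback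
  have he₁ : e.hom ≫ pullback.fst (U.ι ≫ pullback.fst f g) i = iT ∣_ U :=
    hP.isoPullback_hom_fst
  have he₂ : e.hom ≫ pullback.snd (U.ι ≫ pullback.fst f g) i =
      (iT ⁻¹ᵁ U).ι ≫ pullback.fst (i ≫ f) g := hP.isoPullback_hom_snd
  have heT : e.hom ≫ (pullback.fst (U.ι ≫ pullback.fst f g) i ≫ U.ι ≫ pullback.snd f g) =
      (iT ⁻¹ᵁ U).ι ≫ pullback.snd (i ≫ f) g := by
    rw [reassoc_of% he₁, morphismRestrict_ι_assoc, hiT₂]
  let w : ((iT ⁻¹ᵁ U : (pullback (i ≫ f) g).Opens) : Scheme.{u}) := ⟨v, hvV'⟩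
  have hwι : (iT ⁻¹ᵁ U).ι w = v := rfl
  refine ⟨T, g, U, e.hom w, inferInstance, ?_, ?_, ?_, ?_⟩
  · have h1 : IsFinite (e.hom ≫
        (pullback.fst (U.ι ≫ pullback.fst f g) i ≫ U.ι ≫ pullback.snd f g)) := by
      rw [heT]; exact hfin
    exact (MorphismProperty.cancel_left_of_respectsIso @IsFinite e.hom _).mp h1
  · change (e.hom ≫ pullback.snd (U.ι ≫ pullback.fst f g) i) w = z
    rw [he₂, Scheme.Hom.comp_apply, hwι]
    exact hvz
  · have hb : IsIso (((iT ⁻¹ᵁ U).ι ≫ pullback.fst (i ≫ f) g).residueFieldMap w) := by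
      rw [Scheme.residueFieldMap_comp]
      haveI h1 : IsIso ((pullback.fst (i ≫ f) g).residueFieldMap ((iT ⁻¹ᵁ U).ι w)) := by
        rw [hwι]
        exact (ConcreteCategory.isIso_iff_bijective _).mpr hres
      haveI h2 : IsIso ((iT ⁻¹ᵁ U).ι.residueFieldMap w) := inferInstance
      exact @IsIso.comp_isIso _ _ _ _ _ _ _ h1 h2
    have hb' : IsIso ((e.hom ≫ pullback.snd (U.ι ≫ pullback.fst f g) i).residueFieldMap w) := by
      rw [he₂]; exact hb
    rw [Scheme.residueFieldMap_comp] at hb'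
    haveI h3 : IsIso (e.hom.residueFieldMap w) := inferInstance
    exact @IsIso.of_isIso_comp_right _ _ _ _ _ _ (e.hom.residueFieldMap w) h3 hb'
  · intro u' hu'
    have h1 : ∀ x : ↥(pullback (U.ι ≫ pullback.fst f g) i),
        (pullback.fst (U.ι ≫ pullback.fst f g) i ≫ U.ι ≫ pullback.snd f g).base x =
          (pullback.snd (i ≫ f) g) ((iT ⁻¹ᵁ U).ι (e.inv x)) := by
      intro x
      have h2 : pullback.fst (U.ι ≫ pullback.fst f g) i ≫ U.ι ≫ pullback.snd f g =
          e.inv ≫ (iT ⁻¹ᵁ U).ι ≫ pullback.snd (i ≫ f) g := by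
        rw [← heT, Iso.inv_hom_id_assoc]
      rw [h2]
      rfl
    rw [h1 u', h1 (e.hom w)] at hu'
    have h3 : e.inv (e.hom w) = w := by
      rw [← Scheme.Hom.comp_apply, Iso.hom_inv_id]; rfl
    rw [h3, hwι, hvt] at hu'
    have h4 : (iT ⁻¹ᵁ U).ι (e.inv u') = v := huniq _ (e.inv u').2 hu'
    have h5 : e.inv u' = w := Subtype.ext h4
    rw [← h5, ← Scheme.Hom.comp_apply, Iso.inv_hom_id]; rfl

end Groth.Agent.Helper8.EtNbhdSub
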