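import Mathlib
import Groth.Agent.Helper8.SmSubB

/-!
# Helper8: an étale closed subscheme through a closed subscheme that embeds in the base (S15303)
-/

set_option autoImplicit false
universe u

namespace Groth.Agent.Helper8.EtThru

open AlgebraicGeometry CategoryTheory Limits

theorem main {X Y Z : Scheme.{u}} (f : X ⟶ Y) [Smooth f] (i : Z ⟶ X) [IsClosedImmersion i]
    [IsClosedImmersion (i ≫ f)] (z : Z) :
    ∃ (U : X.Opens) (_ : i.base z ∈ U) (W : Scheme.{u}) (j : W ⟶ (U : Scheme.{u}))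
      (_ : IsClosedImmersion j) (_ : Etale (j ≫ U.ι ≫ f))
      (g : ((i ⁻¹ᵁ U : Z.Opens) : Scheme.{u}) ⟶ W), g ≫ j = i ∣_ U := by
  obtain ⟨V, hV, U₀, hU₀, hxU₀, e₀, hstd⟩ := Smooth.exists_isStandardSmooth f (i z)
  obtain ⟨d, g₀, hgC, hget⟩ := hstd.exists_etale_mvPolynomial
  let Λ := ULift.{u} (Fin d)
  let t₀ : Λ → Γ(X, U₀) := fun l => g₀ (MvPolynomial.X l.down)
  have hψ₀ : (SmSubB.psi f e₀ t₀).Etale := by
    have h1 : SmSubB.psi f e₀ t₀ = g₀.comp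
        (MvPolynomial.renameEquiv Γ(Y, V) (Equiv.ulift : Λ ≃ Fin d)).toRingEquiv.toRingHom := by
      apply MvPolynomial.ringHom_ext
      · intro r
        simp [SmSubB.psi, ← hgC]
      · intro l
        simp [SmSubB.psi, t₀]
    rw [h1]
    exact RingHom.Etale.respectsIso.2 _ _ hget
  let π₀ : (U₀ : Scheme.{u}) ⟶ 𝔸(Λ; Y) := SmSubB.piHom f hV hU₀ e₀ t₀
  haveI hπ₀et : Etale π₀ := SmSubB.piHom_etale f hV hU₀ e₀ t₀ hψ₀
  have hπ₀ov : π₀ ≫ (𝔸(Λ; Y) ↘ Y) = U₀.ι ≫ f := SmSubB.piHom_over f hV hU₀ e₀ t₀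
  have hπ₀c : ∀ l, π₀.appTop (AffineSpace.coord Y l) = U₀.topIso.inv (t₀ l) :=
    SmSubB.piHom_appTop_coord f hV hU₀ e₀ t₀
  -- Step 5: shrink
  have hxV : f (i z) ∈ V := e₀ hxU₀
  let Z' : Z.Opens := (i ≫ f) ⁻¹ᵁ V
  have hZ' : IsAffineOpen Z' := hV.preimage (i ≫ f)
  have hzZ' : z ∈ Z' := by
    change (i ≫ f) z ∈ V
    rw [Scheme.Hom.comp_apply]; exact hxV
  obtain ⟨b', hb'le, hzb'⟩ := hZ'.exists_basicOpen_le (V := i ⁻¹ᵁ U₀) ⟨z, hxU₀⟩ hzZ'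
  obtain ⟨b, hb⟩ := (i ≫ f).app_surjective V hV b'
  let V₁ : Y.Opens := Y.basicOpen b
  have hV₁ : IsAffineOpen V₁ := hV.basicOpen b
  have hpre : (i ≫ f) ⁻¹ᵁ V₁ = Z.basicOpen b' := by
    rw [← hb]; exact Scheme.preimage_basicOpen (i ≫ f) b
  let U₁ : X.Opens := U₀ ⊓ f ⁻¹ᵁ V₁
  have hzV₁ : z ∈ (i ≫ f) ⁻¹ᵁ V₁ := by rw [hpre]; exact hzb'
  have hxU₁ : i z ∈ U₁ := by
    refine ⟨hxU₀, ?_⟩
    have : (i ≫ f) z ∈ V₁ := hzV₁
    rw [Scheme.Hom.comp_apply] at this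
    exact this
  have hU₁U₀ : U₁ ≤ U₀ := inf_le_left
  have e₁ : U₁ ≤ f ⁻¹ᵁ V₁ := inf_le_right
  have hZeq : i ⁻¹ᵁ U₁ = (i ≫ f) ⁻¹ᵁ V₁ := by
    apply le_antisymm
    · intro w hw
      have h1 : f (i w) ∈ V₁ := hw.2
      change (i ≫ f) w ∈ V₁
      rw [Scheme.Hom.comp_apply]; exact h1
    · intro w hw
      have h1 : w ∈ Z.basicOpen b' := by rw [← hpre]; exact hw
      have h2 : (i ≫ f) w ∈ V₁ := hw
      rw [Scheme.Hom.comp_apply] at h2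
      exact ⟨hb'le h1, h2⟩
  -- Step 6
  let fr : (U₁ : Scheme.{u}) ⟶ (V₁ : Scheme.{u}) := f.resLE V₁ U₁ e₁
  have hfr : fr ≫ V₁.ι = U₁.ι ≫ f := Scheme.Hom.resLE_comp_ι f e₁
  let t₁ : Λ → Γ((U₁ : Scheme.{u}), ⊤) := fun l =>
    (X.homOfLE hU₁U₀).appTop (U₀.topIso.inv (t₀ l))
  let π₁ : (U₁ : Scheme.{u}) ⟶ 𝔸(Λ; (V₁ : Scheme.{u})) := AffineSpace.homOfVector fr t₁
  have hπ₁ : π₁ ≫ AffineSpace.map Λ V₁.ι = X.homOfLE hU₁U₀ ≫ π₀ := by
    apply AffineSpace.hom_ext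
    · rw [Category.assoc, AffineSpace.map_over, AffineSpace.homOfVector_over_assoc,
        Category.assoc, hπ₀ov, hfr, Scheme.homOfLE_ι_assoc]
    · intro l
      change π₁.appTop ((AffineSpace.map Λ V₁.ι).appTop (AffineSpace.coord Y l)) =
        (X.homOfLE hU₁U₀).appTop (π₀.appTop (AffineSpace.coord Y l))
      rw [AffineSpace.map_appTop_coord, AffineSpace.homOfVector_appTop_coord, hπ₀c]
  haveI : IsOpenImmersion (AffineSpace.map Λ V₁.ι) :=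
    MorphismProperty.of_isPullback (P := @IsOpenImmersion)
      (AffineSpace.isPullback_map V₁.ι).flip inferInstance
  haveI hπ₁et : Etale π₁ := by
    have h : Etale (π₁ ≫ AffineSpace.map Λ V₁.ι) := by rw [hπ₁]; infer_instance
    exact MorphismProperty.of_postcomp (W := @Etale) (W' := @Etale) π₁
      (AffineSpace.map Λ V₁.ι) inferInstance h
  -- Step 7
  haveI : IsAffine (V₁ : Scheme.{u}) := hV₁
  let r : ((i ⁻¹ᵁ U₁ : Z.Opens) : Scheme.{u}) ⟶ (V₁ : Scheme.{u}) := (i ∣_ U₁) ≫ fr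
  have hr : IsClosedImmersion r := by
    have h1 : r = (Z.isoOfEq hZeq).hom ≫ ((i ≫ f) ∣_ V₁) := by
      rw [← cancel_mono V₁.ι]
      simp only [r, Category.assoc, hfr, morphismRestrict_ι, morphismRestrict_ι_assoc,
        Scheme.isoOfEq_hom_ι_assoc]
    rw [h1]; infer_instance
  have hsurj : Function.Surjective r.appTop.hom := r.app_surjective ⊤ (isAffineOpen_top _)
  choose β hβ using fun l => hsurj ((i ∣_ U₁).appTop (t₁ l))
  let s₁ : (V₁ : Scheme.{u}) ⟶ 𝔸(Λ; (V₁ : Scheme.{u})) := AffineSpace.homOfVector (𝟙 _) β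
  haveI : IsClosedImmersion s₁ := by
    haveI : IsClosedImmersion (s₁ ≫ (𝔸(Λ; (V₁ : Scheme.{u})) ↘ (V₁ : Scheme.{u}))) := by
      rw [AffineSpace.homOfVector_over]; infer_instance
    exact IsClosedImmersion.of_comp s₁ (𝔸(Λ; (V₁ : Scheme.{u})) ↘ (V₁ : Scheme.{u}))
  have hcond : (i ∣_ U₁) ≫ π₁ = r ≫ s₁ := by
    apply AffineSpace.hom_ext
    · rw [Category.assoc, Category.assoc, AffineSpace.homOfVector_over,
        AffineSpace.homOfVector_over, Category.comp_id]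
    · intro l
      change (i ∣_ U₁).appTop (π₁.appTop (AffineSpace.coord _ l)) =
        r.appTop (s₁.appTop (AffineSpace.coord _ l))
      rw [AffineSpace.homOfVector_appTop_coord, AffineSpace.homOfVector_appTop_coord]
      exact (hβ l).symm
  refine ⟨U₁, hxU₁, pullback π₁ s₁, pullback.fst π₁ s₁, inferInstance, ?_,
    pullback.lift (i ∣_ U₁) r hcond, pullback.lift_fst _ _ _⟩
  have h2 : pullback.fst π₁ s₁ ≫ U₁.ι ≫ f = pullback.snd π₁ s₁ ≫ V₁.ι := by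
    calc pullback.fst π₁ s₁ ≫ U₁.ι ≫ f = pullback.fst π₁ s₁ ≫ fr ≫ V₁.ι := by rw [hfr]
      _ = pullback.fst π₁ s₁ ≫ (π₁ ≫ (𝔸(Λ; (V₁ : Scheme.{u})) ↘ (V₁ : Scheme.{u}))) ≫ V₁.ι := by
          rw [AffineSpace.homOfVector_over]
      _ = (pullback.fst π₁ s₁ ≫ π₁) ≫ (𝔸(Λ; (V₁ : Scheme.{u})) ↘ (V₁ : Scheme.{u})) ≫ V₁.ι := by
          simp only [Category.assoc]
      _ = (pullback.snd π₁ s₁ ≫ s₁) ≫ (𝔸(Λ; (V₁ : Scheme.{u})) ↘ (V₁ : Scheme.{u})) ≫ V₁.ι := by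
          rw [pullback.condition]
      _ = pullback.snd π₁ s₁ ≫ (s₁ ≫ (𝔸(Λ; (V₁ : Scheme.{u})) ↘ (V₁ : Scheme.{u}))) ≫ V₁.ι := by
          simp only [Category.assoc]
      _ = pullback.snd π₁ s₁ ≫ V₁.ι := by
          rw [AffineSpace.homOfVector_over, Category.id_comp]
  rw [h2]; infer_instance

end Groth.Agent.Helper8.EtThru
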