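import Mathlib
import Groth.Agent.S1967

/-!
# Lifting ring maps from the generic fibre of an étale algebra over a normal domain
-/

set_option autoImplicit false

namespace Groth.Agent.Helper8.EtTorsRing

open CategoryTheory CategoryTheory.Limits TensorProduct

universe u

/-- ring-level lifting: `B` étale over the normal domain `A`, `C = B ⊗_A K`; a ring map
`L → C` from a ring integral over `kk` (compatibly mapping to `B`) factors through `B`. -/
theorem ring_lift {A B C K' kk L : Type u} [CommRing A] [IsDomain A] [IsIntegrallyClosed A]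
    [Field K'] [Algebra A K'] [IsFractionRing A K'] [CommRing B] [Algebra A B] [Algebra.Etale A B]
    [CommRing C] [Algebra B C] [Algebra K' C] [Algebra A C] [IsScalarTower A B C]
    [IsScalarTower A K' C] [Algebra.IsPushout A B K' C]
    [CommRing kk] [CommRing L] (tt : kk →+* L) (htt : tt.IsIntegral)
    (ι : kk →+* B) (ψ : L →+* C) (hψ : ψ.comp tt = (algebraMap B C).comp ι) :
    Function.Injective (algebraMap B C) ∧ ∃ ψ' : L →+* B, ∀ l, algebraMap B C (ψ' l) = ψ l := by
  let e : B ⊗[A] K' ≃ₐ[B] C := Algebra.IsPushout.equiv A B K' C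
  have hinj : Function.Injective (algebraMap B C) := by
    have h1 : Function.Injective (Algebra.TensorProduct.includeLeft : B →ₐ[A] B ⊗[A] K') :=
      Algebra.TensorProduct.includeLeft_injective (S := A)
        (IsFractionRing.injective A K')
    intro b₁ b₂ h
    apply h1
    apply e.injective
    have hb : ∀ b : B, e (Algebra.TensorProduct.includeLeft (R := A) (S := A) (B := K') b) =
        algebraMap B C b := by
      intro b
      change e (b ⊗ₜ[A] (1 : K')) = _
      rw [Algebra.IsPushout.equiv_tmul, map_one, mul_one]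
    rw [hb, hb, h]
  have hic : IsIntegrallyClosedIn B (B ⊗[A] K') := Groth.Agent.S1967.result A K' B
  have hmem : ∀ l : L, ∃ b : B, algebraMap B C b = ψ l := by
    intro l
    obtain ⟨p, hp, hpl⟩ := htt l
    have hint : IsIntegral B (ψ l) := by
      refine ⟨p.map ι, hp.map ι, ?_⟩
      rw [Polynomial.eval₂_map, ← hψ, ← Polynomial.hom_eval₂, hpl, map_zero]
    have hint' : IsIntegral B (e.symm (ψ l)) := hint.map e.symm.toAlgHom
    obtain ⟨b, hb⟩ := (IsIntegrallyClosedIn.isIntegral_iff (R := B) (A := B ⊗[A] K')).mp hint'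
    refine ⟨b, ?_⟩
    have := congrArg e hb
    rw [AlgEquiv.commutes, AlgEquiv.apply_symm_apply] at this
    exact this
  refine ⟨hinj, ?_⟩
  let e2 : B ≃+* (algebraMap B C).range :=
    RingEquiv.ofBijective (algebraMap B C).rangeRestrict
      ⟨fun x y h => hinj (congrArg Subtype.val h),
        (algebraMap B C).rangeRestrict_surjective⟩
  let ψr : L →+* (algebraMap B C).range := ψ.codRestrict (algebraMap B C).range (fun l => by
    obtain ⟨b, hb⟩ := hmem l
    exact ⟨b, hb⟩)
  refine ⟨e2.symm.toRingHom.comp ψr, fun l => ?_⟩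
  have h1 : e2 (e2.symm (ψr l)) = ψr l := e2.apply_symm_apply _
  have h2 : ((e2 (e2.symm (ψr l)) : (algebraMap B C).range) : C) =
      algebraMap B C (e2.symm (ψr l)) := rfl
  change algebraMap B C (e2.symm (ψr l)) = ψ l
  rw [← h2, h1]
  rfl

/-- a ring map from a field which is étale is integral -/
theorem etale_field_isIntegral (k : Type u) [Field k] (L : Type u) [CommRing L] (f : k →+* L)
    (hf : f.Etale) : f.IsIntegral := by
  letI : Algebra k L := f.toAlgebra
  haveI : Algebra.Etale k L := hf
  haveI : Module.Finite k L := Algebra.FormallyUnramified.finite_of_free k L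
  exact fun x => Algebra.IsIntegral.isIntegral x

/-- categorical version of `ring_lift` -/
theorem mid {A B K C L kk : CommRingCat.{u}} [IsDomain A] [IsIntegrallyClosed A]
    (hK : IsField K)
    (ρ : A ⟶ B) (ρK : A ⟶ K) (a : B ⟶ C) (b : K ⟶ C) (hpo : IsPushout ρ ρK a b)
    (hρ : ρ.hom.Etale)
    (hfrac : letI := ρK.hom.toAlgebra; IsFractionRing A K)
    (t : kk ⟶ L) (ht : t.hom.IsIntegral) (ι : kk ⟶ B) (ψ : L ⟶ C) (hψ : t ≫ ψ = ι ≫ a) :
    ∃ ψ' : L ⟶ B, ψ' ≫ a = ψ ∧ t ≫ ψ' = ι := by
  letI : Field K := hK.toField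
  letI : Algebra A B := ρ.hom.toAlgebra
  letI : Algebra A K := ρK.hom.toAlgebra
  letI : Algebra B C := a.hom.toAlgebra
  letI : Algebra K C := b.hom.toAlgebra
  letI : Algebra A C := (ρ ≫ a).hom.toAlgebra
  haveI : IsScalarTower A B C := .of_algebraMap_eq' rfl
  haveI : IsScalarTower A K C := .of_algebraMap_eq' (congrArg CommRingCat.Hom.hom hpo.w)
  haveI : Algebra.IsPushout A B K C := (CommRingCat.isPushout_iff_isPushout).mp hpo
  haveI : Algebra.Etale A B := hρ
  haveI : IsFractionRing A K := hfrac
  obtain ⟨hinj, ψ', hψ'⟩ := ring_lift (A := A) (B := B) (C := C) (K' := K) (kk := kk) (L := L)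
    t.hom ht ι.hom ψ.hom (congrArg CommRingCat.Hom.hom hψ)
  refine ⟨CommRingCat.ofHom ψ', ?_, ?_⟩
  · ext l
    exact hψ' l
  · ext c
    apply hinj
    have h1 := hψ' (t.hom c)
    have h2 := congrArg (fun f => f.hom c) hψ
    exact h1.trans h2

end Groth.Agent.Helper8.EtTorsRing
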