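import Mathlib
import Groth.Prelude.Def_Pi1
import Groth.Agent.Helper8.EtTorsRing
import Groth.Agent.Helper8.FinDesc
import Groth.Agent.Helper5.RedDesc

/-!
# Extending morphisms from the generic fibre of an étale scheme over a normal integral scheme
to an étale scheme over a field
-/

set_option autoImplicit false

namespace Groth.Agent.Helper8.EtTorsLoc

open CategoryTheory CategoryTheory.Limits AlgebraicGeometry

universe u

/-- the generic point of an integral scheme, as a morphism from the spectrum of the residue field -/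
noncomputable abbrev jj (S : Scheme.{u}) [IsIntegral S] :
    Spec (S.residueField (genericPoint S)) ⟶ S :=
  S.fromSpecResidueField (genericPoint S)

theorem jj_apply (S : Scheme.{u}) [IsIntegral S] (x : Spec (S.residueField (genericPoint S))) :
    (jj S) x = genericPoint S :=
  Scheme.fromSpecResidueField_apply _ _

theorem range_jj (S : Scheme.{u}) [IsIntegral S] : Set.range (jj S) = {genericPoint S} :=
  Scheme.range_fromSpecResidueField _

theorem isDominant_fst {S : Scheme.{u}} [IsIntegral S] {Y : Scheme.{u}} (p : Y ⟶ S) [Flat p] :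
    IsDominant (pullback.fst p (jj S)) := by
  constructor
  intro y
  have hgen : GeneralizingMap p := Flat.generalizingMap p
  have hgp : genericPoint S ⤳ p y := genericPoint_specializes _
  obtain ⟨y', hy', hy'η⟩ := hgen hgp
  have hmem : y' ∈ Set.range (pullback.fst p (jj S)) := by
    rw [Scheme.Pullback.range_fst, range_jj]
    exact hy'η
  exact closure_mono (Set.singleton_subset_iff.mpr hmem) hy'.mem_closure

instance isDominant_jj (S : Scheme.{u}) [IsIntegral S] : IsDominant (jj S) := by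
  constructor
  rw [DenseRange, range_jj]
  exact dense_iff_closure_eq.mpr (genericPoint_spec S)

/-- uniqueness of extensions from the generic fibre -/
theorem unique_ext {S : Scheme.{u}} [IsIntegral S] {W G0 T0 : Scheme.{u}} (gk : G0 ⟶ T0)
    [IsSeparated gk] (p : W ⟶ S) [Flat p] [IsReduced W] (d₁ d₂ : W ⟶ G0)
    (h1 : d₁ ≫ gk = d₂ ≫ gk)
    (h : pullback.fst p (jj S) ≫ d₁ = pullback.fst p (jj S) ≫ d₂) : d₁ = d₂ := by
  haveI := isDominant_fst p
  exact ext_of_isDominant_of_isSeparated gk h1 (pullback.fst p (jj S)) h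

theorem appLE_jj {S : Scheme.{u}} [IsIntegral S] (V : S.Opens) (hηV : genericPoint S ∈ V)
    (hTV : (⊤ : (Spec (S.residueField (genericPoint S))).Opens) ≤ (jj S) ⁻¹ᵁ V) :
    (jj S).appLE V ⊤ hTV ≫ (Scheme.ΓSpecIso (S.residueField (genericPoint S))).hom =
      S.presheaf.germ V (genericPoint S) hηV ≫ S.residue (genericPoint S) := by
  have h1 : (jj S).appLE V ⊤ hTV =
      (S.fromSpecStalk (genericPoint S)).app V ≫
        (Spec.map (S.residue (genericPoint S))).appLE _ ⊤ hTV :=
    Scheme.Hom.comp_appLE _ _ _ _ _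
  rw [h1, Scheme.fromSpecStalk_app hηV]
  simp only [Category.assoc, Scheme.Hom.map_appLE]
  have h2 : (Spec.map (S.residue (genericPoint S))).appLE ⊤ ⊤ le_top =
      (Spec.map (S.residue (genericPoint S))).appTop := by
    simp [Scheme.Hom.appLE, Scheme.Hom.appTop]
  rw [h2, Scheme.ΓSpecIso_naturality, Iso.inv_hom_id_assoc]

theorem isFractionRing_jj {S : Scheme.{u}} [IsIntegral S] (V : S.Opens) (hV : IsAffineOpen V)
    (hηV : genericPoint S ∈ V)
    (hTV : (⊤ : (Spec (S.residueField (genericPoint S))).Opens) ≤ (jj S) ⁻¹ᵁ V) :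
    letI := ((jj S).appLE V ⊤ hTV ≫
      (Scheme.ΓSpecIso (S.residueField (genericPoint S))).hom).hom.toAlgebra
    IsFractionRing Γ(S, V) (S.residueField (genericPoint S)) := by
  letI := ((jj S).appLE V ⊤ hTV ≫
      (Scheme.ΓSpecIso (S.residueField (genericPoint S))).hom).hom.toAlgebra
  haveI : Nonempty V := ⟨⟨_, hηV⟩⟩
  haveI := functionField_isFractionRing_of_isAffineOpen S V hV
  let r := (S.residue (genericPoint S)).hom
  have hbij : Function.Bijective r :=
    ⟨RingHom.injective (f := r), S.residue_surjective _⟩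
  let e : S.functionField ≃+* S.residueField (genericPoint S) := RingEquiv.ofBijective r hbij
  let e' : S.functionField ≃ₐ[Γ(S, V)] S.residueField (genericPoint S) :=
    { e with
      commutes' := fun x => by
        have := congrArg (fun f => f.hom x) (appLE_jj V hηV hTV)
        exact this.symm }
  exact IsLocalization.isLocalization_of_algEquiv (nonZeroDivisors Γ(S, V)) e'

/-- integrally closed coordinate rings from integrally closed stalks -/
theorem isIntegrallyClosed_of_stalks {X : Scheme.{u}} (U : X.Opens) (hU : IsAffineOpen U)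
    [IsDomain Γ(X, U)]
    (h : ∀ x ∈ U, IsIntegrallyClosed (X.presheaf.stalk x)) : IsIntegrallyClosed Γ(X, U) := by
  apply IsIntegrallyClosed.of_localization_maximal
  intro p _ hp
  have hmem : hU.fromSpec ⟨p, hp.isPrime⟩ ∈ U := by
    have : hU.fromSpec ⟨p, hp.isPrime⟩ ∈ Set.range hU.fromSpec := Set.mem_range_self _
    rw [hU.range_fromSpec] at this
    exact this
  have hQ : hU.primeIdealOf ⟨hU.fromSpec ⟨p, hp.isPrime⟩, hmem⟩ = ⟨p, hp.isPrime⟩ :=
    hU.fromSpec.isOpenEmbedding.injective (hU.fromSpec_primeIdealOf ⟨_, hmem⟩)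
  letI : Algebra Γ(X, U) (X.presheaf.stalk (hU.fromSpec ⟨p, hp.isPrime⟩)) :=
    X.presheaf.algebra_section_stalk ⟨_, hmem⟩
  haveI h1 : IsLocalization.AtPrime (X.presheaf.stalk (hU.fromSpec ⟨p, hp.isPrime⟩))
      (hU.primeIdealOf ⟨hU.fromSpec ⟨p, hp.isPrime⟩, hmem⟩).asIdeal :=
    hU.isLocalization_stalk ⟨_, hmem⟩
  rw [hQ] at h1
  haveI : IsLocalization.AtPrime (X.presheaf.stalk (hU.fromSpec ⟨p, hp.isPrime⟩)) p := h1
  haveI := h _ hmem
  exact IsIntegrallyClosed.of_equiv
    (IsLocalization.algEquiv p.primeCompl (X.presheaf.stalk (hU.fromSpec ⟨p, hp.isPrime⟩))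
      (Localization.AtPrime p)).toRingEquiv

/-- local extension of a morphism from the generic fibre -/
theorem local_ext {S : Scheme.{u}} [IsIntegral S] (hS : Pi1.IsNormalScheme S)
    {k : Type u} [Field k] (s : S ⟶ Spec (CommRingCat.of k))
    {G0 : Scheme.{u}} (gk : G0 ⟶ Spec (CommRingCat.of k)) [Etale gk]
    {Z : Scheme.{u}} (π : Z ⟶ S) [Etale π]
    (φ : pullback π (jj S) ⟶ G0) (hφ : φ ≫ gk = pullback.fst π (jj S) ≫ π ≫ s) (z : Z) :
    ∃ (U : Z.Opens) (hU : IsAffineOpen U), z ∈ U ∧ ∃ d' : Spec Γ(Z, U) ⟶ G0,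
      d' ≫ gk = hU.fromSpec ≫ π ≫ s ∧
      ∀ {T : Scheme.{u}} (a : T ⟶ Spec Γ(Z, U)) (b : T ⟶ pullback π (jj S)),
        a ≫ hU.fromSpec = b ≫ pullback.fst π (jj S) → a ≫ d' = b ≫ φ := by
  classical
  obtain ⟨_, ⟨V, hV, rfl⟩, hzV, -⟩ :=
    S.isBasis_affineOpens.exists_subset_of_mem_open (Set.mem_univ (π z)) isOpen_univ
  obtain ⟨_, ⟨U, hU, rfl⟩, hzU, hUV⟩ :=
    Z.isBasis_affineOpens.exists_subset_of_mem_open
      (show z ∈ ((π ⁻¹ᵁ V : Z.Opens) : Set Z) from hzV) (π ⁻¹ᵁ V).isOpen
  have hUV' : U ≤ π ⁻¹ᵁ V := hUV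
  have hηV : genericPoint S ∈ V :=
    ((genericPoint_spec S).mem_open_set_iff V.isOpen).mpr ⟨π z, trivial, hzV⟩
  have hTV : (⊤ : (Spec (S.residueField (genericPoint S))).Opens) ≤ (jj S) ⁻¹ᵁ V := by
    intro x _
    show (jj S) x ∈ V
    rw [jj_apply]
    exact hηV
  let P := pullback π (jj S)
  let UY : P.Opens := pullback.fst π (jj S) ⁻¹ᵁ U ⊓ pullback.snd π (jj S) ⁻¹ᵁ ⊤
  have H : IsPullback (pullback.fst π (jj S)) (pullback.snd π (jj S)) π (jj S) :=
    IsPullback.of_hasPullback _ _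
  have hUYeq : UY = pullback.fst π (jj S) ⁻¹ᵁ U ⊓ pullback.snd π (jj S) ⁻¹ᵁ ⊤ := rfl
  have hpo := (isIso_pushoutSection_iff H hTV hUV' hUYeq).mp
    (isIso_pushoutSection_of_isAffineOpen H hTV hUV' hUYeq hV (isAffineOpen_top _) hU)
  have hUYa : IsAffineOpen UY := by
    haveI : IsAffine V := hV
    haveI : IsAffine (⊤ : (Spec (S.residueField (genericPoint S))).Opens) := isAffineOpen_top _
    haveI : IsAffine U := hU
    exact .of_isIso (Scheme.Hom.isPullback_resLE H hTV hUV' hUYeq).isoPullback.hom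
  -- the target is discrete
  haveI : LocallyQuasiFinite gk := Groth.Agent.Helper8.FinDesc.lqf_of_etale gk
  haveI : IsLocallyArtinian (Spec (CommRingCat.of k)) :=
    Scheme.isLocallyArtinianScheme_Spec.mpr inferInstance
  haveI : IsLocallyArtinian G0 := IsLocallyArtinian.of_locallyQuasiFinite gk
  haveI : DiscreteTopology G0 := inferInstance
  have hfin : (φ '' (UY : Set P)).Finite :=
    (hUYa.isCompact.image φ.continuous).finite_of_discrete
  let W : G0.Opens := ⟨φ '' (UY : Set P), isOpen_discrete _⟩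
  have hW : IsAffineOpen W := by
    haveI : Finite W := hfin.to_subtype
    haveI : DiscreteTopology W := inferInstance
    show IsAffine (W : Scheme)
    infer_instance
  have hUYW : UY ≤ φ ⁻¹ᵁ W := fun x hx => ⟨x, hx, rfl⟩
  -- the rings
  let γ := Scheme.ΓSpecIso (S.residueField (genericPoint S))
  have hpo' : IsPushout (π.appLE V U hUV') ((jj S).appLE V ⊤ hTV ≫ γ.hom)
      ((pullback.fst π (jj S)).appLE U UY (by simp [hUYeq]))
      (γ.inv ≫ (pullback.snd π (jj S)).appLE ⊤ UY (by simp [hUYeq])) :=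
    hpo.of_iso (Iso.refl _) (Iso.refl _) γ (Iso.refl _) (by simp) (by simp) (by simp) (by simp)
  haveI : Nonempty V := ⟨⟨_, hηV⟩⟩
  haveI : IsIntegrallyClosed Γ(S, V) := isIntegrallyClosed_of_stalks V hV (fun x _ => (hS x).2)
  have hK : IsField (S.residueField (genericPoint S)) := Field.toIsField _
  have hρ : (π.appLE V U hUV').hom.Etale := Etale.etale_appLE π hV hU hUV'
  have hWtop : W ≤ gk ⁻¹ᵁ ⊤ := fun _ _ => trivial
  have hUtop : U ≤ (π ≫ s) ⁻¹ᵁ ⊤ := fun _ _ => trivial
  let γk := Scheme.ΓSpecIso (CommRingCat.of k)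
  have hint : (gk.appLE ⊤ W hWtop).hom.IsIntegral := by
    refine RingHom.IsIntegral.tower_top γk.inv.hom (gk.appLE ⊤ W hWtop).hom ?_
    refine Groth.Agent.Helper8.EtTorsRing.etale_field_isIntegral k _ _ ?_
    refine RingHom.Etale.stableUnderComposition _ _ (RingHom.Etale.of_bijective ?_)
      (Etale.etale_appLE gk (isAffineOpen_top _) hW hWtop)
    exact ConcreteCategory.bijective_of_isIso γk.inv
  have hψ : gk.appLE ⊤ W hWtop ≫ φ.appLE W UY hUYW =
      (π ≫ s).appLE ⊤ U hUtop ≫ (pullback.fst π (jj S)).appLE U UY (by simp [hUYeq]) := by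
    rw [Scheme.Hom.appLE_comp_appLE, Scheme.Hom.appLE_comp_appLE]
    have aux : ∀ (f g : P ⟶ Spec (CommRingCat.of k)) (_ : f = g) (e : UY ≤ f ⁻¹ᵁ ⊤)
        (e' : UY ≤ g ⁻¹ᵁ ⊤), f.appLE ⊤ UY e = g.appLE ⊤ UY e' := by
      intro f g h e e'
      subst h
      rfl
    exact aux _ _ (by rw [hφ]) _ _
  obtain ⟨ψ', hψ'1, hψ'2⟩ := Groth.Agent.Helper8.EtTorsRing.mid hK
    (π.appLE V U hUV') ((jj S).appLE V ⊤ hTV ≫ γ.hom)
    ((pullback.fst π (jj S)).appLE U UY (by simp [hUYeq]))
    (γ.inv ≫ (pullback.snd π (jj S)).appLE ⊤ UY (by simp [hUYeq])) hpo' hρ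
    (isFractionRing_jj V hV hηV hTV) (gk.appLE ⊤ W hWtop) hint
    ((π ≫ s).appLE ⊤ U hUtop) (φ.appLE W UY hUYW) hψ
  refine ⟨U, hU, hzU, Spec.map ψ' ≫ hW.fromSpec, ?_, ?_⟩
  · rw [Category.assoc, ← IsAffineOpen.SpecMap_appLE_fromSpec gk (isAffineOpen_top _) hW hWtop,
      ← Spec.map_comp_assoc, hψ'2,
      IsAffineOpen.SpecMap_appLE_fromSpec (π ≫ s) (isAffineOpen_top _) hU hUtop]
  · intro T a b hab
    have key : Spec.map ((pullback.fst π (jj S)).appLE U UY (by simp [hUYeq])) ≫
        Spec.map ψ' ≫ hW.fromSpec = hUYa.fromSpec ≫ φ := by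
      rw [← Spec.map_comp_assoc, hψ'1, IsAffineOpen.SpecMap_appLE_fromSpec φ hW hUYa hUYW]
    have hb : Set.range b ⊆ Set.range hUYa.fromSpec := by
      rw [hUYa.range_fromSpec]
      rintro _ ⟨t, rfl⟩
      refine ⟨?_, trivial⟩
      show pullback.fst π (jj S) (b t) ∈ U
      have h1 : pullback.fst π (jj S) (b t) = hU.fromSpec (a t) := by
        have := congrArg (fun f => f t) hab
        simpa using this.symm
      rw [h1]
      have : hU.fromSpec (a t) ∈ Set.range hU.fromSpec := ⟨_, rfl⟩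
      rwa [hU.range_fromSpec] at this
    let b' := IsOpenImmersion.lift hUYa.fromSpec b hb
    have hb' : b' ≫ hUYa.fromSpec = b := IsOpenImmersion.lift_fac _ _ _
    have e1 : a = b' ≫ Spec.map ((pullback.fst π (jj S)).appLE U UY (by simp [hUYeq])) := by
      rw [← cancel_mono hU.fromSpec, Category.assoc,
        IsAffineOpen.SpecMap_appLE_fromSpec (pullback.fst π (jj S)) hU hUYa, ← Category.assoc,
        hb', hab]
    rw [e1, Category.assoc, key, ← Category.assoc, hb']

/-- **Extension lemma.** A morphism from the generic fibre of an étale scheme over a normal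
integral scheme to an étale separated scheme over a field extends to the whole scheme. -/
theorem lemmaX {S : Scheme.{u}} [IsIntegral S] (hS : Pi1.IsNormalScheme S)
    {k : Type u} [Field k] (s : S ⟶ Spec (CommRingCat.of k))
    {G0 : Scheme.{u}} (gk : G0 ⟶ Spec (CommRingCat.of k)) [Etale gk] [IsSeparated gk]
    {Z : Scheme.{u}} (π : Z ⟶ S) [Etale π]
    (φ : pullback π (jj S) ⟶ G0) (hφ : φ ≫ gk = pullback.fst π (jj S) ≫ π ≫ s) :
    ∃ d : Z ⟶ G0, pullback.fst π (jj S) ≫ d = φ ∧ d ≫ gk = π ≫ s := by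
  choose U hU hzU d' hd'k hd' using local_ext hS s gk π φ hφ
  let 𝒰 : Z.OpenCover :=
    { I₀ := Z
      X := fun z => Spec Γ(Z, U z)
      f := fun z => (hU z).fromSpec
      mem₀ := by
        rw [Scheme.presieve₀_mem_precoverage_iff]
        refine ⟨fun x => ⟨x, ?_⟩, inferInstance⟩
        rw [(hU x).range_fromSpec]
        exact hzU x }
  have compat : ∀ x y : Z, pullback.fst (𝒰.f x) (𝒰.f y) ≫ d' x = pullback.snd _ _ ≫ d' y := by
    intro x y
    let p : pullback (𝒰.f x) (𝒰.f y) ⟶ S := pullback.fst (𝒰.f x) (𝒰.f y) ≫ (hU x).fromSpec ≫ π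
    haveI : Etale p := by
      haveI : IsOpenImmersion (𝒰.f x) := inferInstanceAs (IsOpenImmersion (hU x).fromSpec)
      haveI : IsOpenImmersion (𝒰.f y) := inferInstanceAs (IsOpenImmersion (hU y).fromSpec)
      infer_instance
    haveI : IsReduced (pullback (𝒰.f x) (𝒰.f y)) :=
      Groth.Agent.Helper5.RedDesc.isReduced_of_smooth p
    have hc : pullback.fst (𝒰.f x) (𝒰.f y) ≫ (hU x).fromSpec =
        pullback.snd (𝒰.f x) (𝒰.f y) ≫ (hU y).fromSpec := pullback.condition
    refine unique_ext gk p _ _ ?_ ?_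
    · rw [Category.assoc, Category.assoc, hd'k, hd'k, ← Category.assoc, ← Category.assoc, hc]
      simp only [Category.assoc]
    · let b : pullback p (jj S) ⟶ pullback π (jj S) :=
        pullback.lift (pullback.fst p (jj S) ≫ pullback.fst (𝒰.f x) (𝒰.f y) ≫ (hU x).fromSpec)
          (pullback.snd p (jj S)) (by
            rw [Category.assoc, Category.assoc]
            exact pullback.condition)
      have h1 : (pullback.fst p (jj S) ≫ pullback.fst (𝒰.f x) (𝒰.f y)) ≫ d' x = b ≫ φ := by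
        apply hd' x
        rw [Category.assoc]
        exact (pullback.lift_fst _ _ _).symm
      have h2 : (pullback.fst p (jj S) ≫ pullback.snd (𝒰.f x) (𝒰.f y)) ≫ d' y = b ≫ φ := by
        apply hd' y
        rw [Category.assoc, ← hc]
        exact (pullback.lift_fst _ _ _).symm
      rw [← Category.assoc, ← Category.assoc, h1, h2]
  let d : Z ⟶ G0 := 𝒰.glueMorphisms d' compat
  have hd : ∀ x, 𝒰.f x ≫ d = d' x := fun x => 𝒰.ι_glueMorphisms d' compat x
  refine ⟨d, ?_, ?_⟩
  · refine Scheme.Cover.hom_ext (𝒰.pullback₁ (pullback.fst π (jj S))) _ _ fun x => ?_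
    change pullback.fst (pullback.fst π (jj S)) (𝒰.f x) ≫ pullback.fst π (jj S) ≫ d =
      pullback.fst (pullback.fst π (jj S)) (𝒰.f x) ≫ φ
    rw [← Category.assoc, pullback.condition, Category.assoc, hd]
    apply hd' x
    exact pullback.condition.symm
  · refine Scheme.Cover.hom_ext 𝒰 _ _ fun x => ?_
    rw [← Category.assoc, hd]
    exact hd'k x

end Groth.Agent.Helper8.EtTorsLoc
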