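import Mathlib
import Groth.Prelude.Def_ActBC
import Groth.Prelude.Def_Pi1
import Groth.Prelude.Def_NonAbH2
import Groth.Agent.Helper9.TorsorProps
import Groth.Agent.Helper5.RedDesc
import Groth.Agent.Helper8.TorsorBC
import Groth.Agent.Lead.SchDescent
import Groth.Agent.Helper8.EtTorsLoc
import Groth.Agent.S0346

/-!
# Torsors under an étale group over a normal integral base: generic points extend to sections
-/

set_option autoImplicit false

namespace Groth.Agent.Helper8.EtTorsMain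

open CategoryTheory CategoryTheory.Limits MonoidalCategory CartesianMonoidalCategory MonObj
  AlgebraicGeometry
open Groth.Agent.Helper8.EtTorsLoc

universe u

variable (S : Scheme.{u}) [IsIntegral S]

/-- the adjunction `Over.map j ⊣ Over.pullback j` for the generic point -/
noncomputable abbrev adj : Over.map (jj S) ⊣ Over.pullback (jj S) :=
  Over.mapPullbackAdj (jj S)

/-- the generic fibre viewed over `S`, as a functor -/
noncomputable abbrev LF : Over S ⥤ Over S :=
  Over.pullback (jj S) ⋙ Over.map (jj S)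

/-- the inclusion of the generic fibre -/
noncomputable abbrev eps (Y : Over S) : (LF S).obj Y ⟶ Y :=
  (adj S).counit.app Y

theorem eps_left (Y : Over S) :
    (eps S Y).left = pullback.fst Y.hom (jj S) := by
  simp [eps, adj]

theorem eps_naturality {Y Z : Over S} (g : Y ⟶ Z) :
    (LF S).map g ≫ eps S Z = eps S Y ≫ g :=
  (adj S).counit.naturality g

theorem eps_cancel {W N : Over S} (hW : Etale W.hom)
    (hN : IsSeparated N.hom) (g₁ g₂ : W ⟶ N) (h : eps S W ≫ g₁ = eps S W ≫ g₂) : g₁ = g₂ := by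
  haveI := hW
  haveI := hN
  haveI : IsReduced W.left := Groth.Agent.Helper5.RedDesc.isReduced_of_smooth W.hom
  apply Over.OverMorphism.ext
  refine unique_ext N.hom W.hom _ _ (by rw [Over.w, Over.w]) ?_
  have := congrArg (fun φ => φ.left) h
  simpa only [Over.comp_left, eps_left] using this

theorem etale_tensor (A B : Over S) (hA : Etale A.hom)
    (hB : Etale B.hom) : Etale (A ⊗ B).hom := by
  haveI := hA
  haveI := hB
  rw [Over.tensorObj_hom]
  infer_instance

theorem main (X : Over S) [GrpObj X] (hXet : Etale X.hom) (hXsep : IsSeparated X.hom)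
    (hext : ∀ Z : Over S, Etale Z.hom → ∀ w' : (LF S).obj Z ⟶ X, ∃ w : Z ⟶ X, eps S Z ≫ w = w')
    (P : NonAbH1.TorsorSch X Scheme.fppfPrecoverage) (Y : Over S) (hY : Etale Y.hom)
    (v : (LF S).obj Y ⟶ P.X) : ∃ uu : Y ⟶ P.X, eps S Y ≫ uu = v := by
  have hfpqc : NonAbH1.IsTorsorFor Scheme.fpqcPrecoverage P.act := by
    obtain ⟨hps, Rr, hRr, hsec⟩ := P.isTorsor
    exact ⟨hps, Rr, Scheme.fppfPrecoverage_le_fpqcPrecoverage _ hRr, hsec⟩
  have hPet : Etale P.X.hom := Groth.Agent.Helper9.TorsorProps.etale P.act hfpqc hXet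
  have hPsep : IsSeparated P.X.hom :=
    Groth.Agent.Helper9.TorsorTriv.descend P.act hfpqc.1 @IsSeparated hfpqc.2 hXsep
  have hPsurj : Surjective P.X.hom := Groth.Agent.Helper9.TorsorProps.surjective P.act hfpqc
  -- notation
  let Q : Over S := P.X
  have hps : IsIso (lift P.act.act (snd X Q)) := hfpqc.1
  let dvv : Q ⊗ Q ⟶ X := Groth.Agent.Helper9.TorsorTriv.dv P.act hps
  let Z : Over S := Y ⊗ Q
  have hZ : Etale Z.hom := etale_tensor S Y Q hY hPet
  let w' : (LF S).obj Z ⟶ X :=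
    lift ((LF S).map (fst Y Q) ≫ v) (eps S Z ≫ snd Y Q) ≫ dvv
  obtain ⟨w, hw⟩ : ∃ w : Z ⟶ X, eps S Z ≫ w = w' := hext Z hZ w'
  let ut : Z ⟶ Q := lift w (snd Y Q) ≫ P.act.act
  have claim1 : eps S Z ≫ ut = (LF S).map (fst Y Q) ≫ v := by
    change eps S Z ≫ lift w (snd Y Q) ≫ P.act.act = _
    rw [comp_lift_assoc, hw]
    exact Groth.Agent.Helper9.TorsorTriv.act_dv P.act hps _ _
  -- the double product
  let T₀ : Over S := Y ⊗ (Q ⊗ Q)
  have hT₀ : Etale T₀.hom := etale_tensor S Y (Q ⊗ Q) hY (etale_tensor S Q Q hPet hPet)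
  let q₁ : T₀ ⟶ Z := lift (fst Y (Q ⊗ Q)) (snd Y (Q ⊗ Q) ≫ fst Q Q)
  let q₂ : T₀ ⟶ Z := lift (fst Y (Q ⊗ Q)) (snd Y (Q ⊗ Q) ≫ snd Q Q)
  have claim3 : q₁ ≫ ut = q₂ ≫ ut := by
    apply eps_cancel S hT₀ hPsep
    have e1 : eps S T₀ ≫ q₁ ≫ ut = (LF S).map (fst Y (Q ⊗ Q)) ≫ v := by
      rw [← Category.assoc, ← eps_naturality, Category.assoc, claim1, ← Category.assoc,
        ← Functor.map_comp]
      congr 2
      exact lift_fst _ _
    have e2 : eps S T₀ ≫ q₂ ≫ ut = (LF S).map (fst Y (Q ⊗ Q)) ≫ v := by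
      rw [← Category.assoc, ← eps_naturality, Category.assoc, claim1, ← Category.assoc,
        ← Functor.map_comp]
      congr 2
      exact lift_fst _ _
    rw [e1, e2]
  -- descent along the fppf covering `fst : Y ⊗ Q ⟶ Y`
  haveI := hPet
  haveI := hPsurj
  haveI : Flat (fst Y Q).left := by rw [Over.fst_left]; infer_instance
  haveI : Surjective (fst Y Q).left := by rw [Over.fst_left]; infer_instance
  haveI : LocallyOfFinitePresentation (fst Y Q).left := by rw [Over.fst_left]; infer_instance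
  have hdesc : ∀ {T : Scheme.{u}} (g₁ g₂ : T ⟶ Z.left),
      g₁ ≫ (fst Y Q).left = g₂ ≫ (fst Y Q).left → g₁ ≫ ut.left = g₂ ≫ ut.left := by
    intro T g₁ g₂ hg
    let T' : Over S := Over.mk (g₁ ≫ Z.hom)
    let G₁ : T' ⟶ Z := Over.homMk g₁ rfl
    let G₂ : T' ⟶ Z := Over.homMk g₂ (by
      change g₂ ≫ Z.hom = g₁ ≫ Z.hom
      rw [← Over.w (fst Y Q), ← Category.assoc, ← hg, Category.assoc])
    have hG : G₁ ≫ fst Y Q = G₂ ≫ fst Y Q := Over.OverMorphism.ext hg
    let t : T' ⟶ T₀ := lift (G₁ ≫ fst Y Q) (lift (G₁ ≫ snd Y Q) (G₂ ≫ snd Y Q))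
    have ht1 : t ≫ q₁ = G₁ := by
      apply CartesianMonoidalCategory.hom_ext
      · simp [t, q₁]
      · simp [t, q₁]
    have ht2 : t ≫ q₂ = G₂ := by
      apply CartesianMonoidalCategory.hom_ext
      · simp [t, q₂, hG]
      · simp [t, q₂]
    have := congrArg (fun φ => (t ≫ φ).left) claim3
    simp only [← Category.assoc, ht1, ht2] at this
    exact this
  let u₀ : Y.left ⟶ Q.left := EffectiveEpi.desc (fst Y Q).left ut.left hdesc
  have hfac : (fst Y Q).left ≫ u₀ = ut.left := EffectiveEpi.fac _ _ _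
  haveI : Epi (fst Y Q).left := inferInstance
  let uu : Y ⟶ Q := Over.homMk u₀ (by
    rw [← cancel_epi (fst Y Q).left, ← Category.assoc, hfac, Over.w ut, Over.w (fst Y Q)])
  have hfu : fst Y Q ≫ uu = ut := Over.OverMorphism.ext hfac
  refine ⟨uu, ?_⟩
  have h4 : (LF S).map (fst Y Q) ≫ eps S Y ≫ uu = (LF S).map (fst Y Q) ≫ v := by
    rw [← Category.assoc, eps_naturality, Category.assoc, hfu, claim1]
  -- `(LF S).map (fst Y Q)` is an epimorphism
  have hpb := TorsorBC.isPullback_map (jj S) (fst Y Q)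
  haveI : Flat ((Over.pullback (jj S)).map (fst Y Q)).left :=
    MorphismProperty.of_isPullback (P := @Flat) hpb.flip inferInstance
  haveI : Surjective ((Over.pullback (jj S)).map (fst Y Q)).left :=
    MorphismProperty.of_isPullback (P := @Surjective) hpb.flip inferInstance
  haveI : LocallyOfFinitePresentation ((Over.pullback (jj S)).map (fst Y Q)).left :=
    MorphismProperty.of_isPullback (P := @LocallyOfFinitePresentation) hpb.flip inferInstance
  haveI : Epi ((Over.pullback (jj S)).map (fst Y Q)).left := inferInstance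
  apply Over.OverMorphism.ext
  have h5 := congrArg (fun φ => φ.left) h4
  simp only [Over.comp_left, Functor.comp_map, Over.map_map_left] at h5
  exact (cancel_epi _).mp h5

theorem hext_bc (hS : Pi1.IsNormalScheme S) {k : Type u} [Field k]
    (s : S ⟶ Spec (CommRingCat.of k))
    (G : Over (Spec (CommRingCat.of k))) [GrpObj G] [Etale G.hom] (Z : Over S) (hZ : Etale Z.hom)
    (w' : (LF S).obj Z ⟶ Red.bc s G) : ∃ w : Z ⟶ Red.bc s G, eps S Z ≫ w = w' := by
  haveI := hZ
  haveI : IsSeparated G.hom := ((Groth.Agent.S0346.result _ G).1).mpr inferInstance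
  have hw' : w'.left ≫ pullback.snd G.hom s = pullback.snd Z.hom (jj S) ≫ jj S := Over.w w'
  let φ : pullback Z.hom (jj S) ⟶ G.left := w'.left ≫ pullback.fst G.hom s
  have hφ : φ ≫ G.hom = pullback.fst Z.hom (jj S) ≫ Z.hom ≫ s := by
    change (w'.left ≫ pullback.fst G.hom s) ≫ G.hom = _
    rw [Category.assoc, pullback.condition, ← Category.assoc, hw', Category.assoc,
      ← pullback.condition_assoc]
  obtain ⟨d, hd1, hd2⟩ := lemmaX hS s G.hom Z.hom φ hφ
  let w : Z ⟶ Red.bc s G := Over.homMk (pullback.lift d Z.hom hd2) (pullback.lift_snd _ _ _)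
  refine ⟨w, ?_⟩
  apply Over.OverMorphism.ext
  rw [Over.comp_left, eps_left]
  apply pullback.hom_ext
  · rw [Category.assoc]
    change pullback.fst Z.hom (jj S) ≫ pullback.lift d Z.hom hd2 ≫ pullback.fst G.hom s = _
    rw [pullback.lift_fst]
    exact hd1
  · rw [Category.assoc]
    change pullback.fst Z.hom (jj S) ≫ pullback.lift d Z.hom hd2 ≫ pullback.snd G.hom s = _
    rw [pullback.lift_snd, hw', pullback.condition]

theorem sections (hS : Pi1.IsNormalScheme S) {k : Type u} [Field k]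
    (G : Over (Spec (CommRingCat.of k))) [GrpObj G] [Etale G.hom]
    (s : S ⟶ Spec (CommRingCat.of k))
    (E : NonAbH1.TorsorSch (Red.bc s G) Scheme.fppfPrecoverage) :
    (∀ σ₁ σ₂ : S ⟶ E.X.left, σ₁ ≫ E.X.hom = 𝟙 S → σ₂ ≫ E.X.hom = 𝟙 S →
        jj S ≫ σ₁ = jj S ≫ σ₂ → σ₁ = σ₂) ∧
    (∀ x : Spec (S.residueField (genericPoint S)) ⟶ E.X.left,
        x ≫ E.X.hom = jj S →
        ∃ σ : S ⟶ E.X.left, σ ≫ E.X.hom = 𝟙 S ∧ jj S ≫ σ = x) := by
  haveI : IsSeparated G.hom := ((Groth.Agent.S0346.result _ G).1).mpr inferInstance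
  have hXsep : IsSeparated (Red.bc s G).hom := by
    change IsSeparated (pullback.snd G.hom s)
    infer_instance
  have hXet : Etale (Red.bc s G).hom := by
    change Etale (pullback.snd G.hom s)
    infer_instance
  have hfpqc : NonAbH1.IsTorsorFor Scheme.fpqcPrecoverage E.act := by
    obtain ⟨hps, Rr, hRr, hsec⟩ := E.isTorsor
    exact ⟨hps, Rr, Scheme.fppfPrecoverage_le_fpqcPrecoverage _ hRr, hsec⟩
  haveI hPsep : IsSeparated E.X.hom :=
    Groth.Agent.Helper9.TorsorTriv.descend E.act hfpqc.1 @IsSeparated hfpqc.2 hXsep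
  refine ⟨fun σ₁ σ₂ h1 h2 h => ?_, fun x hx => ?_⟩
  · exact ext_of_isDominant_of_isSeparated E.X.hom (by rw [h1, h2]) (jj S) h
  · let Y : Over S := Over.mk (𝟙 S)
    have hY : Etale Y.hom := by
      change Etale (𝟙 S)
      infer_instance
    let v : (LF S).obj Y ⟶ E.X := Over.homMk (pullback.snd (𝟙 S) (jj S) ≫ x) (by
      rw [Category.assoc, hx]
      rfl)
    obtain ⟨uu, huu⟩ := main S (Red.bc s G) hXet hXsep (hext_bc S hS s G) E Y hY v
    refine ⟨uu.left, Over.w uu, ?_⟩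
    have h : pullback.fst (𝟙 S) (jj S) ≫ uu.left = v.left := by
      have h0 := congrArg (fun φ => φ.left) huu
      simp only [Over.comp_left, eps_left] at h0
      exact h0
    have hc : pullback.fst (𝟙 S) (jj S) = pullback.snd (𝟙 S) (jj S) ≫ jj S := by
      have := pullback.condition (f := 𝟙 S) (g := jj S)
      rwa [Category.comp_id] at this
    have hv : v.left = pullback.snd (𝟙 S) (jj S) ≫ x := rfl
    rw [hc, hv, Category.assoc] at h
    exact (cancel_epi _).mp h

omit [IsIntegral S] in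
/-- a pseudo-torsor with a section is equivariantly isomorphic to the trivial torsor -/
theorem equivIso_of_section {G X : Over S} [GrpObj G] (a : AlgGrp.Action G X)
    (hps : IsIso (lift a.act (snd G X))) (o : 𝟙_ (Over S) ⟶ X) :
    Nonempty (NonAbH1.EquivIso (NonAbH1.trivialAction G) a) := by
  let ψ : G ⟶ X := a.orbitMap o
  let φ : X ⟶ G := lift (𝟙 X) (toUnit X ≫ o) ≫ Groth.Agent.Helper9.TorsorTriv.dv a hps
  have h1 : ψ ≫ φ = 𝟙 G := by
    change ψ ≫ lift (𝟙 X) (toUnit X ≫ o) ≫ _ = _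
    rw [comp_lift_assoc, Category.comp_id, ← Category.assoc ψ,
      toUnit_unique (ψ ≫ toUnit X) (toUnit G)]
    exact Groth.Agent.Helper9.TorsorTriv.dv_act a hps (𝟙 G) (toUnit G ≫ o)
  have h2 : φ ≫ ψ = 𝟙 X := by
    change φ ≫ a.orbitMap o = _
    rw [AlgGrp.Action.comp_orbitMap]
    exact Groth.Agent.Helper9.TorsorTriv.act_dv a hps (𝟙 X) (toUnit X ≫ o)
  refine ⟨⟨⟨ψ, φ, h1, h2⟩, ?_⟩⟩
  apply AlgGrp.Action.hom_ext_lift₂
  intro T g h
  change lift g h ≫ μ[G] ≫ a.orbitMap o = lift g h ≫ (G ◁ a.orbitMap o) ≫ a.act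
  rw [← Category.assoc, ← Hom.mul_def, AlgGrp.Action.comp_orbitMap, lift_whiskerLeft_assoc,
    AlgGrp.Action.comp_orbitMap, AlgGrp.Action.lift_mul_act]

omit [IsIntegral S] in
/-- having a section over the base is an invariant of the class of a torsor -/
def hasSec {G : Over S} [GrpObj G] (K : Precoverage Scheme.{u}) :
    NonAbH1.H1Sch G K → Prop :=
  Quot.lift (fun P => NonAbH1.HasSectionOver P.X (𝟙 S)) (by
    rintro P Q ⟨e⟩
    apply propext
    constructor
    · rintro ⟨t, ht⟩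
      exact ⟨t ≫ e.iso.hom.left, by rw [Category.assoc, Over.w, ht]⟩
    · rintro ⟨t, ht⟩
      exact ⟨t ≫ e.iso.inv.left, by rw [Category.assoc, Over.w, ht]⟩)

theorem h1 (hS : Pi1.IsNormalScheme S) {k : Type u} [Field k]
    (G : Over (Spec (CommRingCat.of k))) [GrpObj G] [Etale G.hom]
    (s : S ⟶ Spec (CommRingCat.of k))
    (c : NonAbH1.H1Sch (Red.bc s G) Scheme.fppfPrecoverage)
    (hc : NonAbH1.H1Sch.bcMap (jj S) (Red.bc s G) Scheme.fppfPrecoverage c = 1) : c = 1 := by
  obtain ⟨P, rfl⟩ := Quot.exists_rep c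
  have e1 : hasSec _ Scheme.fppfPrecoverage
      (NonAbH1.H1Sch.bcMap (jj S) (Red.bc s G) Scheme.fppfPrecoverage (Quot.mk _ P)) := by
    rw [hc]
    exact ⟨η[Red.bc (jj S) (Red.bc s G)].left, Over.w η[Red.bc (jj S) (Red.bc s G)]⟩
  obtain ⟨t, ht⟩ : NonAbH1.HasSectionOver (Red.bc (jj S) P.X) (𝟙 _) := e1
  have ht' : t ≫ pullback.snd P.X.hom (jj S) = 𝟙 _ := ht
  let x : Spec (S.residueField (genericPoint S)) ⟶ P.X.left := t ≫ pullback.fst P.X.hom (jj S)
  have hx : x ≫ P.X.hom = jj S := by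
    change (t ≫ pullback.fst P.X.hom (jj S)) ≫ P.X.hom = _
    rw [Category.assoc, pullback.condition, ← Category.assoc, ht', Category.id_comp]
  obtain ⟨σ, hσ, -⟩ := (sections S hS G s P).2 x hx
  have hps : IsIso (lift P.act.act (snd _ P.X)) := P.isTorsor.1
  let o : 𝟙_ (Over S) ⟶ P.X := Over.homMk σ (by simpa using hσ)
  obtain ⟨e⟩ := equivIso_of_section S P.act hps o
  exact (Quot.sound ⟨e⟩).symm

end Groth.Agent.Helper8.EtTorsMain
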