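import Mathlib
set_option autoImplicit false
open Filter Topology

namespace Groth.Agent.Helper8.Euler

/-- the complex series `Σ k^j y^k` -/
noncomputable def A (j : ℕ) (y : ℂ) : ℂ := ∑' k : ℕ, (k : ℂ) ^ j * y ^ k

lemma summ (j : ℕ) {y : ℂ} (hy : ‖y‖ < 1) : Summable (fun k : ℕ => (k : ℂ) ^ j * y ^ k) :=
  summable_pow_mul_geometric_of_norm_lt_one j hy

lemma A_rec (j : ℕ) {y : ℂ} (hy : ‖y‖ < 1) :
    A j y * (1 - y) = (0 : ℂ) ^ j + y * ∑ i ∈ Finset.range j, (j.choose i : ℂ) * A i y := by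
  have h1 : A j y = (0 : ℂ) ^ j + y * ∑ i ∈ Finset.range (j + 1), (j.choose i : ℂ) * A i y := by
    unfold A
    rw [(summ j hy).tsum_eq_zero_add]
    simp only [Nat.cast_zero, pow_zero, mul_one, Nat.cast_add, Nat.cast_one]
    congr 1
    have h2 : ∀ k : ℕ, ((k : ℂ) + 1) ^ j * y ^ (k + 1) =
        ∑ i ∈ Finset.range (j + 1), y * ((j.choose i : ℂ) * ((k : ℂ) ^ i * y ^ k)) := by
      intro k
      rw [add_pow, Finset.sum_mul]
      refine Finset.sum_congr rfl fun i _ => ?_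
      rw [one_pow, pow_succ]; ring
    simp_rw [h2]
    rw [Summable.tsum_finsetSum]
    · rw [Finset.mul_sum]
      refine Finset.sum_congr rfl fun i _ => ?_
      rw [tsum_mul_left, tsum_mul_left]
    · intro i _
      exact ((summ i hy).mul_left _).mul_left _
  rw [Finset.sum_range_succ, Nat.choose_self, Nat.cast_one, one_mul] at h1
  linear_combination (1 : ℂ) * h1

lemma E_rec (E : ℕ → ℚ)
    (hE : PowerSeries.mk (fun j => E j / (j.factorial : ℚ)) * (PowerSeries.exp ℚ + 1) = 2) (n : ℕ) :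
    2 * E n + ∑ i ∈ Finset.range n, (n.choose i : ℚ) * E i = 2 * (0 : ℚ) ^ n := by
  have h := congrArg (PowerSeries.coeff n) hE
  rw [mul_add, mul_one, map_add, PowerSeries.coeff_mul, PowerSeries.coeff_mk,
    Finset.Nat.sum_antidiagonal_eq_sum_range_succ_mk] at h
  simp only [PowerSeries.coeff_mk, PowerSeries.coeff_exp, Algebra.algebraMap_self, RingHom.id_apply] at h
  have hn : ((n.factorial : ℚ)) ≠ 0 := by exact_mod_cast n.factorial_ne_zero
  have hc : PowerSeries.coeff n (2 : PowerSeries ℚ) = 2 * (0 : ℚ) ^ n := by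
    have : (2 : PowerSeries ℚ) = PowerSeries.C (2 : ℚ) := (map_ofNat (PowerSeries.C (R := ℚ)) 2).symm
    rw [this, PowerSeries.coeff_C]
    rcases n with _ | n
    · simp
    · simp
  rw [hc] at h
  have h' := congrArg (fun x => x * (n.factorial : ℚ)) h
  rw [add_mul, Finset.sum_mul, div_mul_cancel₀ _ hn, Finset.sum_range_succ] at h'
  have hterm : ∀ i ∈ Finset.range n, E i / (i.factorial : ℚ) * (1 / ((n - i).factorial : ℚ)) * (n.factorial : ℚ)
      = (n.choose i : ℚ) * E i := by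
    intro i hi
    have hin : i ≤ n := (Finset.mem_range.mp hi).le
    have := Nat.choose_mul_factorial_mul_factorial hin
    have hq : ((n.choose i : ℚ)) * (i.factorial : ℚ) * ((n - i).factorial : ℚ) = (n.factorial : ℚ) := by
      exact_mod_cast this
    have hi0 : ((i.factorial : ℚ)) ≠ 0 := by exact_mod_cast i.factorial_ne_zero
    have hni0 : (((n - i).factorial : ℚ)) ≠ 0 := by exact_mod_cast (n - i).factorial_ne_zero
    rw [← hq]; field_simp
  rw [Finset.sum_congr rfl hterm] at h'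
  simp only [Nat.sub_self, Nat.factorial_zero, Nat.cast_one, div_one, mul_one] at h'
  rw [div_mul_cancel₀ _ hn] at h'
  have h3 : 2 * (0 : ℚ) ^ n * (n.factorial : ℚ) = 2 * (0 : ℚ) ^ n := by
    rcases n with _ | n
    · simp
    · simp
  rw [h3] at h'
  linarith

lemma tendsto_A (E : ℕ → ℚ)
    (hE : PowerSeries.mk (fun j => E j / (j.factorial : ℚ)) * (PowerSeries.exp ℚ + 1) = 2) (j : ℕ) :
    Tendsto (fun y : ℝ => A j (y : ℂ)) (𝓝[Set.Ioo (-1 : ℝ) 1] (-1 : ℝ)) (𝓝 ((2 : ℂ)⁻¹ * ((E j : ℚ) : ℂ))) := by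
  induction j using Nat.strong_induction_on with
  | _ j ih =>
    have hcoe : Tendsto (fun y : ℝ => (y : ℂ)) (𝓝[Set.Ioo (-1 : ℝ) 1] (-1 : ℝ)) (𝓝 ((-1 : ℝ) : ℂ)) :=
      (Complex.continuous_ofReal.tendsto _).mono_left nhdsWithin_le_nhds
    have hnum : Tendsto (fun y : ℝ => (0 : ℂ) ^ j + (y : ℂ) * ∑ i ∈ Finset.range j, (j.choose i : ℂ) * A i (y : ℂ))
        (𝓝[Set.Ioo (-1 : ℝ) 1] (-1 : ℝ))
        (𝓝 ((0 : ℂ) ^ j + ((-1 : ℝ) : ℂ) * ∑ i ∈ Finset.range j, (j.choose i : ℂ) * ((2 : ℂ)⁻¹ * ((E i : ℚ) : ℂ)))) := by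
      refine tendsto_const_nhds.add (hcoe.mul ?_)
      refine tendsto_finsetSum _ fun i hi => ?_
      exact tendsto_const_nhds.mul (ih i (Finset.mem_range.mp hi))
    have hden : Tendsto (fun y : ℝ => (1 - (y : ℂ))⁻¹) (𝓝[Set.Ioo (-1 : ℝ) 1] (-1 : ℝ))
        (𝓝 ((1 - ((-1 : ℝ) : ℂ))⁻¹)) := by
      refine (tendsto_const_nhds.sub hcoe).inv₀ ?_
      norm_num
    have hq := hnum.mul hden
    have hval : ((0 : ℂ) ^ j + ((-1 : ℝ) : ℂ) * ∑ i ∈ Finset.range j, (j.choose i : ℂ) * ((2 : ℂ)⁻¹ * ((E i : ℚ) : ℂ))) *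
        (1 - ((-1 : ℝ) : ℂ))⁻¹ = (2 : ℂ)⁻¹ * ((E j : ℚ) : ℂ) := by
      have hr := E_rec E hE j
      have hr' : (2 : ℂ) * ((E j : ℚ) : ℂ) + ∑ i ∈ Finset.range j, (j.choose i : ℂ) * ((E i : ℚ) : ℂ) = 2 * (0 : ℂ) ^ j := by
        have := congrArg (fun q : ℚ => (q : ℂ)) hr
        simp only [Rat.cast_add, Rat.cast_mul, Rat.cast_sum, Rat.cast_natCast, Rat.cast_pow,
          Rat.cast_zero, Rat.cast_ofNat] at this
        exact this
      have hs : ∑ i ∈ Finset.range j, (j.choose i : ℂ) * ((2 : ℂ)⁻¹ * ((E i : ℚ) : ℂ)) =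
          (2 : ℂ)⁻¹ * ∑ i ∈ Finset.range j, (j.choose i : ℂ) * ((E i : ℚ) : ℂ) := by
        rw [Finset.mul_sum]
        refine Finset.sum_congr rfl fun i _ => ?_
        ring
      rw [hs]
      have h2 : (1 - ((-1 : ℝ) : ℂ)) = 2 := by norm_num
      rw [h2]
      have : ∑ i ∈ Finset.range j, (j.choose i : ℂ) * ((E i : ℚ) : ℂ) = 2 * (0 : ℂ) ^ j - 2 * ((E j : ℚ) : ℂ) := by
        linear_combination hr'
      rw [this]
      push_cast
      ring
    rw [hval] at hq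
    refine hq.congr' ?_
    filter_upwards [self_mem_nhdsWithin] with y hy
    have hy1 : ‖(y : ℂ)‖ < 1 := by
      rw [Complex.norm_real, Real.norm_eq_abs, abs_lt]
      exact ⟨hy.1, hy.2⟩
    have hne : (1 - (y : ℂ)) ≠ 0 := by
      intro h0
      have : (y : ℂ) = 1 := by linear_combination -h0
      rw [this] at hy1
      simp at hy1
    rw [← A_rec j hy1, mul_assoc, mul_inv_cancel₀ hne, mul_one]

end Groth.Agent.Helper8.Euler
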