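import Mathlib

set_option autoImplicit false

namespace Groth.Agent.Helper8.EulerSS

open CategoryTheory Limits

universe u

section LA

variable {A : Type*} [Ring A] {M₁ M₂ M₃ : Type*} [AddCommGroup M₁] [AddCommGroup M₂]
  [AddCommGroup M₃] [Module A M₁] [Module A M₂] [Module A M₃]

lemma length_mid (f : M₁ →ₗ[A] M₂) (g : M₂ →ₗ[A] M₃) (t : M₁ →ₗ[A] LinearMap.ker g)
    (ht : ∀ x, (t x : M₂) = f x) :
    Module.length A M₂ = Module.length A (LinearMap.ker g ⧸ LinearMap.range t) +
      Module.length A (LinearMap.range f) + Module.length A (LinearMap.range g) := by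
  have hex : Function.Exact (LinearMap.ker g).subtype g.rangeRestrict := by
    intro y
    constructor
    · intro h
      refine ⟨⟨y, ?_⟩, rfl⟩
      have := congrArg Subtype.val h
      simp at this
      simpa using this
    · rintro ⟨z, rfl⟩
      apply Subtype.ext
      simpa using z.2
  have h1 : Module.length A M₂ =
      Module.length A (LinearMap.ker g) + Module.length A (LinearMap.range g) :=
    Module.length_eq_add_of_exact (LinearMap.ker g).subtype g.rangeRestrict
      (Submodule.subtype_injective _) g.surjective_rangeRestrict hex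
  have h2 : Module.length A (LinearMap.ker g) = Module.length A (LinearMap.range t) +
      Module.length A (LinearMap.ker g ⧸ LinearMap.range t) :=
    Module.length_eq_add_of_exact (LinearMap.range t).subtype (LinearMap.range t).mkQ
      (Submodule.subtype_injective _) (Submodule.mkQ_surjective _)
      (LinearMap.exact_subtype_mkQ _)
  have hker : LinearMap.ker t = LinearMap.ker f := by
    ext x
    rw [LinearMap.mem_ker, LinearMap.mem_ker, ← ht, Subtype.ext_iff]
    rfl
  have h3 : Module.length A (LinearMap.range t) = Module.length A (LinearMap.range f) :=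
    ((LinearMap.quotKerEquivRange t).symm ≪≫ₗ Submodule.quotEquivOfEq _ _ hker ≪≫ₗ
      LinearMap.quotKerEquivRange f).length_eq
  rw [h1, h2, h3]
  ring

end LA

variable {A : Type u} [Ring A] {v : ℤ × ℤ}
  (K : HomologicalComplex (ModuleCat.{u} A) (ComplexShape.up' v))

/-- The sign. -/
def ε (pq : ℤ × ℤ) : ℤ := (((pq.1 + pq.2).negOnePow : ℤˣ) : ℤ)

/-- Length of the image of a differential. -/
noncomputable def bl (i j : ℤ × ℤ) : ℕ∞ := Module.length A (LinearMap.range (K.d i j).hom)

lemma length_X_eq (pq : ℤ × ℤ) :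
    Module.length A (K.X pq) = Module.length A (K.homology pq) + bl K (pq - v) pq +
      bl K pq (pq + v) := by
  have hprev : (ComplexShape.up' v).prev pq = pq - v :=
    (ComplexShape.up' v).prev_eq' (by simp [ComplexShape.up'])
  have hnext : (ComplexShape.up' v).next pq = pq + v :=
    (ComplexShape.up' v).next_eq' (by simp [ComplexShape.up'])
  have key := length_mid (K.sc pq).f.hom (K.sc pq).g.hom (K.sc pq).moduleCatToCycles
    (fun x => rfl)
  have hH : Module.length A (K.homology pq) =
      Module.length A (LinearMap.ker (K.sc pq).g.hom ⧸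
        LinearMap.range (K.sc pq).moduleCatToCycles) :=
    ((K.sc pq).moduleCatHomologyIso).toLinearEquiv.length_eq
  have hb1 : Module.length A (LinearMap.range (K.sc pq).f.hom) = bl K (pq - v) pq := by
    show Module.length A (LinearMap.range (K.d ((ComplexShape.up' v).prev pq) pq).hom) = _
    rw [hprev]; rfl
  have hb2 : Module.length A (LinearMap.range (K.sc pq).g.hom) = bl K pq (pq + v) := by
    show Module.length A (LinearMap.range (K.d pq ((ComplexShape.up' v).next pq)).hom) = _
    rw [hnext]; rfl
  have key' : Module.length A (K.X pq) = _ := key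
  rw [key', hH, hb1, hb2]

lemma bl_le_left (i j : ℤ × ℤ) : bl K i j ≤ Module.length A (K.X i) :=
  Module.length_le_of_surjective (K.d i j).hom.rangeRestrict
    (K.d i j).hom.surjective_rangeRestrict

lemma bl_le_right (i j : ℤ × ℤ) : bl K i j ≤ Module.length A (K.X j) :=
  Module.length_le_of_injective (LinearMap.range (K.d i j).hom).subtype
    (Submodule.subtype_injective _)

lemma ε_add (pq : ℤ × ℤ) (hv : v.1 + v.2 = 1) : ε (pq + v) = -ε pq := by
  unfold ε
  have : (pq + v).1 + (pq + v).2 = (pq.1 + pq.2) + 1 := by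
    simp only [Prod.fst_add, Prod.snd_add]; omega
  rw [this, Int.negOnePow_succ]
  simp

/-- Euler characteristic of a complex equals that of its homology. -/
lemma euler_eq (hv : v.1 + v.2 = 1) (s : Finset (ℤ × ℤ))
    (hs : ∀ pq, pq ∉ s → Module.length A (K.X pq) = 0)
    (hfl : ∀ pq, Module.length A (K.X pq) ≠ ⊤) :
    (s.sum fun pq => ε pq * ((Module.length A (K.X pq)).toNat : ℤ)) =
      s.sum fun pq => ε pq * ((Module.length A (K.homology pq)).toNat : ℤ) := by
  have hbfin : ∀ i j, bl K i j ≠ ⊤ := fun i j =>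
    ne_top_of_le_ne_top (hfl i) (bl_le_left K i j)
  have hHfin : ∀ pq, Module.length A (K.homology pq) ≠ ⊤ := fun pq => by
    have h := length_X_eq K pq
    intro htop
    rw [htop, top_add, top_add] at h
    exact hfl pq h
  have hx : ∀ pq, ((Module.length A (K.X pq)).toNat : ℤ) =
      ((Module.length A (K.homology pq)).toNat : ℤ) + ((bl K (pq - v) pq).toNat : ℤ) +
        ((bl K pq (pq + v)).toNat : ℤ) := by
    intro pq
    rw [length_X_eq K pq, ENat.toNat_add, ENat.toNat_add (hHfin pq) (hbfin _ _)]
    · push_cast; rfl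
    · exact WithTop.add_ne_top.2 ⟨hHfin pq, hbfin _ _⟩
    · exact hbfin _ _
  let β : ℤ × ℤ → ℤ := fun pq => ε pq * ((bl K (pq - v) pq).toNat : ℤ)
  have hβsupp : Function.support β ⊆ (s : Set (ℤ × ℤ)) := by
    intro pq hpq
    by_contra hns
    apply hpq
    have h0 : bl K (pq - v) pq = 0 :=
      le_antisymm ((bl_le_right K _ _).trans (hs pq hns).le) zero_le
    simp [β, h0]
  have hβ'supp : Function.support (fun pq => ε pq * ((bl K pq (pq + v)).toNat : ℤ)) ⊆
      (s : Set (ℤ × ℤ)) := by
    intro pq hpq
    by_contra hns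
    apply hpq
    have h0 : bl K pq (pq + v) = 0 :=
      le_antisymm ((bl_le_left K _ _).trans (hs pq hns).le) zero_le
    simp [h0]
  have hshift : (fun pq => ε pq * ((bl K pq (pq + v)).toNat : ℤ)) =
      fun pq => -β (pq + v) := by
    funext pq
    simp only [β, ε_add pq hv, add_sub_cancel_right]
    ring
  have hsum1 : (s.sum fun pq => ε pq * ((bl K (pq - v) pq).toNat : ℤ)) = ∑ᶠ pq, β pq :=
    (finsum_eq_sum_of_support_subset _ hβsupp).symm
  have hsum2 : (s.sum fun pq => ε pq * ((bl K pq (pq + v)).toNat : ℤ)) =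
      ∑ᶠ pq, (fun pq => ε pq * ((bl K pq (pq + v)).toNat : ℤ)) pq :=
    (finsum_eq_sum_of_support_subset _ hβ'supp).symm
  have hsum3 : (∑ᶠ pq, (fun pq => ε pq * ((bl K pq (pq + v)).toNat : ℤ)) pq) =
      -∑ᶠ pq, β pq := by
    rw [hshift]
    have h1 : (∑ᶠ pq, -β (pq + v)) = -∑ᶠ pq, β (pq + v) := finsum_neg_distrib _
    rw [h1]
    congr 1
    exact finsum_comp_equiv (Equiv.addRight v)
  calc (s.sum fun pq => ε pq * ((Module.length A (K.X pq)).toNat : ℤ))
      = (s.sum fun pq => ε pq * ((Module.length A (K.homology pq)).toNat : ℤ)) +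
          (s.sum fun pq => ε pq * ((bl K (pq - v) pq).toNat : ℤ)) +
          (s.sum fun pq => ε pq * ((bl K pq (pq + v)).toNat : ℤ)) := by
        rw [← Finset.sum_add_distrib, ← Finset.sum_add_distrib]
        refine Finset.sum_congr rfl fun pq _ => ?_
        rw [hx pq]; ring
    _ = _ := by rw [hsum1, hsum2, hsum3]; ring

theorem main {A : Type u} [Ring A]
    (E : E₂CohomologicalSpectralSequence (ModuleCat.{u} A)) (s : Finset (ℤ × ℤ))
    (hs : ∀ pq : ℤ × ℤ, pq ∉ s → IsZero ((E.page 2).X pq))
    (hfl : ∀ pq : ℤ × ℤ, IsFiniteLength A ((E.page 2).X pq)) (r : ℤ) (hr : 2 ≤ r) :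
    (s.sum fun pq => (((pq.1 + pq.2).negOnePow : ℤˣ) : ℤ) *
        ((Module.length A ((E.page r hr).X pq)).toNat : ℤ)) =
      s.sum fun pq => (((pq.1 + pq.2).negOnePow : ℤˣ) : ℤ) *
        ((Module.length A ((E.page 2).X pq)).toNat : ℤ) := by
  have P : ∀ r : ℤ, 2 ≤ r → ∀ hr : 2 ≤ r,
      (∀ pq, pq ∉ s → Module.length A ((E.page r hr).X pq) = 0) ∧
      (∀ pq, Module.length A ((E.page r hr).X pq) ≠ ⊤) ∧
      (s.sum fun pq => ε pq * ((Module.length A ((E.page r hr).X pq)).toNat : ℤ)) =
        s.sum fun pq => ε pq * ((Module.length A ((E.page 2).X pq)).toNat : ℤ) := by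
    intro r hr
    induction r, hr using Int.le_induction with
    | base =>
      intro _
      refine ⟨fun pq hpq => ?_, fun pq => ?_, rfl⟩
      · haveI := ModuleCat.subsingleton_of_isZero (hs pq hpq)
        exact Module.length_eq_zero
      · exact Module.length_ne_top_iff.2 (hfl pq)
    | succ r hr ih =>
      intro hr'
      obtain ⟨h1, h2, h3⟩ := ih hr
      have hiso : ∀ pq, Module.length A ((E.page (r + 1) hr').X pq) =
          Module.length A ((E.page r hr).homology pq) := fun pq =>
        ((E.iso r (r + 1) pq rfl hr).symm).toLinearEquiv.length_eq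
      have hv : (⟨r, 1 - r⟩ : ℤ × ℤ).1 + (⟨r, 1 - r⟩ : ℤ × ℤ).2 = 1 := by simp
      have hle : ∀ pq, Module.length A ((E.page r hr).homology pq) ≤
          Module.length A ((E.page r hr).X pq) := fun pq => by
        rw [length_X_eq (E.page r hr) pq, add_assoc]
        exact le_self_add
      refine ⟨fun pq hpq => ?_, fun pq => ?_, ?_⟩
      · rw [hiso]
        exact le_antisymm ((hle pq).trans (h1 pq hpq).le) zero_le
      · rw [hiso]
        exact ne_top_of_le_ne_top (h2 pq) (hle pq)
      · rw [← h3, euler_eq (E.page r hr) hv s h1 h2]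
        refine Finset.sum_congr rfl fun pq _ => ?_
        rw [hiso]
  exact (P r hr hr).2.2

end Groth.Agent.Helper8.EulerSS
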