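import Mathlib

set_option autoImplicit false

universe w v u

namespace Groth.Agent.Helper8.ExtAux

open CategoryTheory Abelian

variable {C : Type u} [Category.{v} C] [Abelian C] [HasExt.{w} C]
variable {S : ShortComplex C} (hS : S.ShortExact) (Y : C)

include hS in
theorem ext_one_subsingleton_of_extend [Projective S.X₂]
    (hext : ∀ φ : S.X₁ ⟶ Y, ∃ ψ : S.X₂ ⟶ Y, S.f ≫ ψ = φ) : Subsingleton (Ext.{w} S.X₃ Y 1) := by
  refine subsingleton_of_forall_eq 0 fun x₃ => ?_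
  have h0 : (Ext.mk₀ S.g).comp x₃ (zero_add 1) = 0 := Ext.eq_zero_of_projective _
  obtain ⟨x₁, rfl⟩ := Ext.contravariant_sequence_exact₃ hS Y x₃ h0 (n₀ := 0) rfl
  obtain ⟨φ, rfl⟩ := (Ext.mk₀_bijective _ _).2 x₁
  obtain ⟨ψ, rfl⟩ := hext φ
  rw [← Ext.mk₀_comp_mk₀]
  exact hS.extClass_comp_assoc _

include hS in
theorem ext_succ_subsingleton [Projective S.X₂] (j : ℕ)
    (h : Subsingleton (Ext.{w} S.X₁ Y (j + 1))) : Subsingleton (Ext.{w} S.X₃ Y (j + 2)) := by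
  refine subsingleton_of_forall_eq 0 fun x₃ => ?_
  have h0 : (Ext.mk₀ S.g).comp x₃ (zero_add _) = 0 := Ext.eq_zero_of_projective _
  obtain ⟨x₁, rfl⟩ := Ext.contravariant_sequence_exact₃ hS Y x₃ h0 (n₀ := j + 1) (by omega)
  rw [Subsingleton.elim x₁ 0, Ext.comp_zero]

include hS in
theorem extend_of_ext_one_subsingleton (h : Subsingleton (Ext.{w} S.X₃ Y 1)) (φ : S.X₁ ⟶ Y) :
    ∃ ψ : S.X₂ ⟶ Y, S.f ≫ ψ = φ := by
  obtain ⟨x₂, hx₂⟩ := Ext.contravariant_sequence_exact₁ hS Y (Ext.mk₀ φ) (rfl : 1 + 0 = 1)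
    (Subsingleton.elim _ _)
  obtain ⟨ψ, rfl⟩ := (Ext.mk₀_bijective _ _).2 x₂
  refine ⟨ψ, ?_⟩
  rw [Ext.mk₀_comp_mk₀] at hx₂
  exact (Ext.mk₀_bijective _ _).1 hx₂

section Mod

variable {A : Type u} [CommRing A] {F M Y : Type u} [AddCommGroup F] [Module A F]
  [AddCommGroup M] [Module A M] [AddCommGroup Y] [Module A Y]

theorem ext_one_of_extend (g : F →ₗ[A] M) (hg : Function.Surjective g) [Module.Projective A F]
    (hext : ∀ φ : LinearMap.ker g →ₗ[A] Y, ∃ ψ : F →ₗ[A] Y, ψ ∘ₗ (LinearMap.ker g).subtype = φ) :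
    Subsingleton (Ext.{u} (ModuleCat.of A M) (ModuleCat.of A Y) 1) := by
  have hS := LinearMap.shortExact_shortComplexKer hg
  have : Projective g.shortComplexKer.X₂ :=
    (IsProjective.iff_projective (R := A) (P := F)).mp inferInstance
  refine ext_one_subsingleton_of_extend hS (ModuleCat.of A Y) fun φ => ?_
  obtain ⟨ψ, hψ⟩ := hext φ.hom
  refine ⟨ModuleCat.ofHom ψ, ?_⟩
  apply ModuleCat.hom_ext
  rw [ModuleCat.hom_comp]
  exact hψ

theorem ext_succ_of_ker (g : F →ₗ[A] M) (hg : Function.Surjective g) [Module.Projective A F]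
    (j : ℕ) (h : Subsingleton
      (Ext.{u} (ModuleCat.of A (LinearMap.ker g)) (ModuleCat.of A Y) (j + 1))) :
    Subsingleton (Ext.{u} (ModuleCat.of A M) (ModuleCat.of A Y) (j + 2)) := by
  have hS := LinearMap.shortExact_shortComplexKer hg
  have : Projective g.shortComplexKer.X₂ :=
    (IsProjective.iff_projective (R := A) (P := F)).mp inferInstance
  exact ext_succ_subsingleton hS (ModuleCat.of A Y) j h

theorem extend_of_ext_one (g : F →ₗ[A] M) (hg : Function.Surjective g)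
    (h : Subsingleton (Ext.{u} (ModuleCat.of A M) (ModuleCat.of A Y) 1))
    (φ : LinearMap.ker g →ₗ[A] Y) : ∃ ψ : F →ₗ[A] Y, ψ ∘ₗ (LinearMap.ker g).subtype = φ := by
  have hS := LinearMap.shortExact_shortComplexKer hg
  obtain ⟨ψ, hψ⟩ := extend_of_ext_one_subsingleton hS (ModuleCat.of A Y) h (ModuleCat.ofHom φ)
  refine ⟨ψ.hom, ?_⟩
  have := congrArg ModuleCat.Hom.hom hψ
  rw [ModuleCat.hom_comp] at this
  exact this

end Mod

end Groth.Agent.Helper8.ExtAux
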