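import Groth.Agent.Helper4.ExtCech

universe u
open CategoryTheory Limits

namespace Groth.Agent.Helper8.ExtCechBij
open Groth.Agent.Helper4.ExtCech
variable {R : Type u} [CommRing R]

/-- `f` acts bijectively on `M` -/
def ActsBij (f : R) (M : ModuleCat.{u} R) : Prop := IsIso (f • 𝟙 M)

lemma actsBij_iff (f : R) (M : ModuleCat.{u} R) :
    ActsBij f M ↔ Function.Bijective (fun m : M => f • m) := by
  unfold ActsBij
  rw [ConcreteCategory.isIso_iff_bijective]
  rfl

lemma ActsBij.of_iso {f : R} {M N : ModuleCat.{u} R} (e : M ≅ N) (h : ActsBij f M) :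
    ActsBij f N := by
  unfold ActsBij at *
  have : f • 𝟙 N = e.inv ≫ (f • 𝟙 M) ≫ e.hom := by simp
  rw [this]; infer_instance

lemma ActsBij.biprod {f : R} {M N : ModuleCat.{u} R} (hM : ActsBij f M) (hN : ActsBij f N) :
    ActsBij f (M ⊞ N) := by
  unfold ActsBij at *
  have : f • 𝟙 (M ⊞ N) = Limits.biprod.map (f • 𝟙 M) (f • 𝟙 N) := by
    apply Limits.biprod.hom_ext <;> simp
  rw [this]
  exact (Limits.biprod.mapIso (asIso (f • 𝟙 M)) (asIso (f • 𝟙 N))).isIso_hom

lemma ActsBij.of_isZero {f : R} {M : ModuleCat.{u} R} (h : IsZero M) : ActsBij f M :=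
  ⟨⟨0, h.eq_of_src _ _, h.eq_of_src _ _⟩⟩

lemma ActsBij.loc {f : R} {M : ModuleCat.{u} R} (S : Submonoid R) (h : ActsBij f M) :
    ActsBij f ((DerCA.locFunctor S).obj M) := by
  unfold ActsBij at *
  have : f • 𝟙 ((DerCA.locFunctor S).obj M) = (DerCA.locFunctor S).map (f • 𝟙 M) := by
    ext x
    change f • x = (IsLocalizedModule.map S (LocalizedModule.mkLinearMap S M)
      (LocalizedModule.mkLinearMap S M)) (f • LinearMap.id) x
    rw [map_smul, IsLocalizedModule.map_id]
    rfl
  rw [this]; infer_instance

lemma isIso_locUnit_of_actsBij (f : R) (M : ModuleCat.{u} R) (h : ActsBij f M) :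
    IsIso ((DerCA.locUnit (Submonoid.powers f)).app M) := by
  rw [actsBij_iff] at h
  have hu : ∀ s : Submonoid.powers f, IsUnit (algebraMap R (Module.End R M) s) := by
    rintro ⟨_, n, rfl⟩
    rw [map_pow]
    apply IsUnit.pow
    rw [Module.End.isUnit_iff]
    exact h
  haveI : IsLocalizedModule (Submonoid.powers f) (LinearMap.id : M →ₗ[R] M) :=
    { map_units := hu
      surj := fun m => ⟨(m, 1), one_smul _ _⟩
      exists_of_eq := fun h => ⟨1, congr_arg _ h⟩ }
  have hc := IsLocalizedModule.iso_symm_comp (Submonoid.powers f) (LinearMap.id : M →ₗ[R] M)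
  rw [ConcreteCategory.isIso_iff_bijective]
  change Function.Bijective (LocalizedModule.mkLinearMap (Submonoid.powers f) M)
  rw [← hc]
  exact (IsLocalizedModule.iso (Submonoid.powers f) (LinearMap.id : M →ₗ[R] M)).symm.bijective

lemma actsBij_extCech (f : R) (M : ModuleCat.{u} R) (h : ActsBij f M) (fs : List R) :
    ∀ i, ActsBij f ((DerCA.extCech M fs).X i) := by
  induction fs with
  | nil =>
    intro i
    change ActsBij f (((HomologicalComplex.single _ _ 0).obj M).X i)
    by_cases hi : i = 0
    · subst hi
      exact h.of_iso (HomologicalComplex.singleObjXSelf (ComplexShape.up ℤ) 0 M).symm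
    · exact .of_isZero (HomologicalComplex.isZero_single_obj_X _ _ _ _ hi)
  | cons g gs ih =>
    intro i
    exact ((ih i).biprod ((ih (i - 1)).loc (Submonoid.powers g))).of_iso
      (DerCA.mappingCoconeXIso _ i).symm

theorem contractible_extCech_of_actsBij (M : ModuleCat.{u} R) (fs : List R) (f : R) (hf : f ∈ fs)
    (h : ActsBij f M) : Contractible (DerCA.extCech M fs) := by
  induction fs with
  | nil => simp at hf
  | cons g gs ih =>
    show Contractible (CochainComplex.mappingCocone
      (DerCA.locCxUnit (Submonoid.powers g) (DerCA.extCech M gs)))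
    by_cases hg : g = f
    · subst hg
      apply contractible_mappingCocone
      haveI : ∀ i, IsIso ((DerCA.locCxUnit (Submonoid.powers g) (DerCA.extCech M gs)).f i) :=
        fun i => isIso_locUnit_of_actsBij g _ (actsBij_extCech g M h gs i)
      haveI : IsIso (DerCA.locCxUnit (Submonoid.powers g) (DerCA.extCech M gs)) :=
        HomologicalComplex.Hom.isIso_of_components _
      infer_instance
    · have hfs : f ∈ gs := by
        rcases List.mem_cons.mp hf with rfl | h
        · exact absurd rfl hg
        · exact h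
      have hK := ih hfs
      apply contractible_mappingCocone
      exact isIso_quotient_map_of_contractible _ hK (contractible_locCx _ _ hK)

lemma isZero_homology_of_contractible (K : CochainComplex (ModuleCat.{u} R) ℤ)
    (h : Contractible K) (q : ℤ) : IsZero (K.homology q) := by
  obtain ⟨h⟩ := h
  rw [IsZero.iff_id_eq_zero, ← HomologicalComplex.homologyMap_id, h.homologyMap_eq,
    HomologicalComplex.homologyMap_zero]

theorem main (R : Type u) [CommRing R] (fs : List R) (M : Type u) [AddCommGroup M] [Module R M]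
    (f : R) (hf : f ∈ fs) (hu : Function.Bijective (fun m : M => f • m)) (q : ℤ) :
    IsZero (DerCA.extCechH fs (ModuleCat.of R M) q) :=
  isZero_homology_of_contractible _
    (contractible_extCech_of_actsBij _ fs f hf ((actsBij_iff f _).2 hu)) q

end Groth.Agent.Helper8.ExtCechBij
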