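import Mathlib
import Groth.Prelude.Def_NonAbH2
import Groth.Agent.Helper9.ExactH1
import Groth.Agent.Helper9.Reduction

/-!
# Descent of morphisms along the quotient map of an exact sequence of group schemes

For an exact sequence `1 → G → E → P → 1` (fpqc), a morphism out of `E ⊗ Z` (resp. `E ⊗ E`) invariant
under translation by `G` descends to `P ⊗ Z` (resp. `P ⊗ P`).
-/

set_option autoImplicit false

namespace Groth.Agent.Helper8.ExtCent

open CategoryTheory CategoryTheory.Limits MonoidalCategory CartesianMonoidalCategory MonObj GrpObj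
  AlgebraicGeometry
open Groth.Agent.Helper9.ExactH1

universe u

section Loc

variable {S : Scheme.{u}} {E B : Over S} (j : E ⟶ B)

theorem loc_whiskerRight
    (hloc : NonAbH1.IsLocallyTrivialFor Scheme.fpqcPrecoverage (Over.mk j.left : Over B.left))
    (Z : Over S) :
    NonAbH1.IsLocallyTrivialFor Scheme.fpqcPrecoverage
      (Over.mk (j ▷ Z).left : Over (B ⊗ Z).left) := by
  obtain ⟨R, hR, hsec⟩ := hloc
  refine ⟨R.pullbackArrows (fst B Z).left, Precoverage.pullbackArrows_mem _ hR, ?_⟩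
  rintro V t ⟨U, k, hk⟩
  obtain ⟨s, hs⟩ := hsec k hk
  change s ≫ j.left = k at hs
  let T : Over S := Over.mk (pullback.snd k (fst B Z).left ≫ (B ⊗ Z).hom)
  let y : T ⟶ B ⊗ Z := Over.homMk (pullback.snd k (fst B Z).left) rfl
  let x : T ⟶ E := Over.homMk (pullback.fst k (fst B Z).left ≫ s) (by
    change (pullback.fst k (fst B Z).left ≫ s) ≫ E.hom =
      pullback.snd k (fst B Z).left ≫ (B ⊗ Z).hom
    rw [← Over.w j, Category.assoc, ← Category.assoc s, hs, ← Category.assoc, pullback.condition,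
      Category.assoc, Over.w])
  refine ⟨(lift x (y ≫ snd B Z)).left, ?_⟩
  change (lift x (y ≫ snd B Z)).left ≫ (j ▷ Z).left = pullback.snd k (fst B Z).left
  have h1 : lift x (y ≫ snd B Z) ≫ (j ▷ Z) = y := by
    apply CartesianMonoidalCategory.hom_ext
    · rw [Category.assoc, whiskerRight_fst, lift_fst_assoc]
      ext
      change (pullback.fst k (fst B Z).left ≫ s) ≫ j.left =
        pullback.snd k (fst B Z).left ≫ (fst B Z).left
      rw [Category.assoc, hs, pullback.condition]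
    · rw [Category.assoc, whiskerRight_snd, lift_snd]
  exact congrArg CommaMorphism.left h1

end Loc

section Desc

variable {S : Scheme.{u}} {P G E : Over S} [GrpObj P] [GrpObj G] [GrpObj E]
  (u : G ⟶ E) (v : E ⟶ P) [IsMonHom u] [IsMonHom v]
  (hpb : IsPullback (fst E G) ((E ◁ u) ≫ μ[E]) v v)
  (hloc : NonAbH1.IsLocallyTrivialFor Scheme.fpqcPrecoverage (Over.mk v.left : Over P.left))

include hpb hloc in
theorem desc_left {Z W : Over S} (d : E ⊗ Z ⟶ W)
    (hinv : ∀ ⦃T : Over S⦄ (x : T ⟶ E) (h : T ⟶ G) (z : T ⟶ Z),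
      lift (x * (h ≫ u)) z ≫ d = lift x z ≫ d) :
    ∃ ρ : P ⊗ Z ⟶ W, (v ▷ Z) ≫ ρ = d := by
  apply over_desc_q (v ▷ Z) (loc_whiskerRight v hloc Z) d
  intro T e₁ e₂ h12
  have hz : e₁ ≫ snd E Z = e₂ ≫ snd E Z := by
    have := congrArg (· ≫ snd P Z) h12
    simpa using this
  have hx : (e₁ ≫ fst E Z) ≫ v = (e₂ ≫ fst E Z) ≫ v := by
    have := congrArg (· ≫ fst P Z) h12
    simpa using this
  obtain ⟨h, hh⟩ := ex_pt u v hpb _ _ hx
  rw [← lift_comp_fst_snd e₁, ← lift_comp_fst_snd e₂, hh, ← hz, hinv]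

include hpb hloc in
theorem desc_right {Z W : Over S} (d : Z ⊗ E ⟶ W)
    (hinv : ∀ ⦃T : Over S⦄ (z : T ⟶ Z) (x : T ⟶ E) (h : T ⟶ G),
      lift z (x * (h ≫ u)) ≫ d = lift z x ≫ d) :
    ∃ ρ : Z ⊗ P ⟶ W, (Z ◁ v) ≫ ρ = d := by
  obtain ⟨ρ', hρ'⟩ := desc_left u v hpb hloc ((β_ E Z).hom ≫ d) (by
    intro T x h z
    rw [lift_braiding_hom_assoc, lift_braiding_hom_assoc, hinv])
  refine ⟨(β_ Z P).hom ≫ ρ', ?_⟩
  rw [← Category.id_comp ((Z ◁ v) ≫ (β_ Z P).hom ≫ ρ'), ← lift_fst_snd, lift_whiskerLeft_assoc,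
    lift_braiding_hom_assoc, ← lift_whiskerRight_assoc, hρ', lift_braiding_hom_assoc, lift_fst_snd,
    Category.id_comp]

include hpb hloc in
theorem desc_two {W : Over S} (d : E ⊗ E ⟶ W)
    (hA : ∀ ⦃T : Over S⦄ (x y : T ⟶ E) (h : T ⟶ G), lift (x * (h ≫ u)) y ≫ d = lift x y ≫ d)
    (hB : ∀ ⦃T : Over S⦄ (x y : T ⟶ E) (h : T ⟶ G), lift x (y * (h ≫ u)) ≫ d = lift x y ≫ d) :
    ∃ ρ : P ⊗ P ⟶ W, ∀ ⦃T : Over S⦄ (x y : T ⟶ E), lift (x ≫ v) (y ≫ v) ≫ ρ = lift x y ≫ d := by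
  obtain ⟨d₁, hd₁⟩ := desc_left u v hpb hloc d (fun T x h z => hA x z h)
  -- invariance of `d₁` in the second variable
  have hstar : (P ◁ (fst E G)) ≫ d₁ = (P ◁ (fst E G * (snd E G ≫ u))) ≫ d₁ := by
    apply over_epi_q (v ▷ (E ⊗ G)) (loc_whiskerRight v hloc (E ⊗ G))
    rw [← whisker_exchange_assoc, ← whisker_exchange_assoc, hd₁]
    have hw : ∀ {Z' : Over S} (h : Z' ⟶ E), (E ◁ h) = lift (fst E Z') (snd E Z' ≫ h) := by
      intro Z' h
      rw [← lift_whiskerLeft, lift_fst_snd, Category.id_comp]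
    rw [hw, hw, comp_mul, ← Category.assoc (snd E (E ⊗ G)) (snd E G) u, hB]
  have hinv₁ : ∀ ⦃T : Over S⦄ (p : T ⟶ P) (y : T ⟶ E) (h : T ⟶ G),
      lift p (y * (h ≫ u)) ≫ d₁ = lift p y ≫ d₁ := by
    intro T p y h
    have e1 : lift p y = lift p (lift y h) ≫ (P ◁ (fst E G)) := by
      rw [lift_whiskerLeft, lift_fst]
    have e2 : lift p (y * (h ≫ u)) = lift p (lift y h) ≫ (P ◁ (fst E G * (snd E G ≫ u))) := by
      rw [lift_whiskerLeft, comp_mul, lift_fst, lift_snd_assoc]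
    rw [e1, e2, Category.assoc, Category.assoc, hstar]
  obtain ⟨d₂, hd₂⟩ := desc_right u v hpb hloc d₁ hinv₁
  refine ⟨d₂, fun T x y => ?_⟩
  rw [← hd₁, ← hd₂, lift_whiskerRight_assoc, lift_whiskerLeft_assoc]

end Desc

end Groth.Agent.Helper8.ExtCent
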