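import Mathlib
import Groth.Agent.Helper8.ExtCentA

/-!
# Extensions by a commutative group: centrality and commutativity
-/

set_option autoImplicit false

namespace Groth.Agent.Helper8.ExtCent

open CategoryTheory CategoryTheory.Limits MonoidalCategory CartesianMonoidalCategory MonObj GrpObj
  AlgebraicGeometry
open Groth.Agent.Helper9.ExactH1

universe u

variable {S : Scheme.{u}} {P G E : Over S} [GrpObj P] [GrpObj G] [GrpObj E] [IsCommMonObj G]
  (u : G ⟶ E) (v : E ⟶ P) [IsMonHom u] [IsMonHom v] (huv : u ≫ v = 1)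
  (hpb : IsPullback (fst E G) ((E ◁ u) ≫ μ[E]) v v)
  (hloc : NonAbH1.IsLocallyTrivialFor Scheme.fpqcPrecoverage (Over.mk v.left : Over P.left))

include huv in
omit [IsCommMonObj G] [IsMonHom u] [IsMonHom v] [GrpObj G] [GrpObj E] in
lemma gu_v {T : Over S} (g : T ⟶ G) : (g ≫ u) ≫ v = 1 := by
  rw [Category.assoc, huv, comp_one]

omit [GrpObj P] in
lemma conj_u {T : Over S} (h g : T ⟶ G) : (h ≫ u) * (g ≫ u) * (h ≫ u)⁻¹ = g ≫ u := by
  rw [← MonObj.mul_comp, _root_.mul_comm h g, MonObj.mul_comp, mul_inv_cancel_right]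

include huv hpb hloc in
theorem central
    (hPG : ∀ f : P ⊗ G ⟶ G, lift (𝟙 P) (toUnit P ≫ η[G]) ≫ f = 1 →
      lift (toUnit G ≫ η[P]) (𝟙 G) ≫ f = 1 → f = 1)
    {T : Over S} (g : T ⟶ G) (x : T ⟶ E) : (g ≫ u) * x = x * (g ≫ u) := by
  have hab : (snd E G ≫ u) ≫ v = (fst E G * (snd E G ≫ u) * (fst E G)⁻¹) ≫ v := by
    rw [MonObj.mul_comp, MonObj.mul_comp, GrpObj.inv_comp, gu_v u v huv, _root_.mul_one,
      mul_inv_cancel]
  obtain ⟨c, hc⟩ := ex_pt u v hpb _ _ hab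
  have spec : ∀ {T : Over S} (x : T ⟶ E) (g : T ⟶ G),
      x * (g ≫ u) * x⁻¹ = (g ≫ u) * ((lift x g ≫ c) ≫ u) := by
    intro T x g
    have := congrArg (lift x g ≫ ·) hc
    simpa only [comp_mul, comp_inv, lift_fst, lift_snd_assoc, Category.assoc] using this
  have hinv : ∀ ⦃T : Over S⦄ (x : T ⟶ E) (h : T ⟶ G) (z : T ⟶ G),
      lift (x * (h ≫ u)) z ≫ c = lift x z ≫ c := by
    intro T x h z
    apply ex_pt_unique u v hpb (z ≫ u)
    rw [← spec, ← spec]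
    have e : (x * (h ≫ u)) * (z ≫ u) * (x * (h ≫ u))⁻¹ =
        x * ((h ≫ u) * (z ≫ u) * (h ≫ u)⁻¹) * x⁻¹ := by group
    rw [e, conj_u]
  obtain ⟨ρ, hρ⟩ := desc_left u v hpb hloc c hinv
  have ax1 : lift (𝟙 P) (toUnit P ≫ η[G]) ≫ ρ = 1 := by
    apply over_epi_q v hloc
    rw [comp_one, ← Category.assoc, comp_lift, Category.comp_id, ← Category.assoc,
      toUnit_unique (v ≫ toUnit P) (toUnit E)]
    have e : lift v (toUnit E ≫ η[G]) = lift (𝟙 E) (1 : E ⟶ G) ≫ (v ▷ G) := by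
      rw [lift_whiskerRight, Category.id_comp, Hom.one_def]
    rw [e, Category.assoc, hρ]
    apply u_inj u v hpb
    have := spec (𝟙 E) (1 : E ⟶ G)
    rw [MonObj.one_comp, _root_.mul_one, mul_inv_cancel, _root_.one_mul] at this
    rw [MonObj.one_comp]
    exact this.symm
  have ax2 : lift (toUnit G ≫ η[P]) (𝟙 G) ≫ ρ = 1 := by
    have e : lift (toUnit G ≫ η[P]) (𝟙 G) = lift (1 : G ⟶ E) (𝟙 G) ≫ (v ▷ G) := by
      rw [lift_whiskerRight, MonObj.one_comp, Hom.one_def]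
    rw [e, Category.assoc, hρ]
    apply u_inj u v hpb
    have := spec (1 : G ⟶ E) (𝟙 G)
    rw [_root_.one_mul, inv_one, _root_.mul_one] at this
    rw [MonObj.one_comp]
    exact left_eq_mul.mp this
  have hρ1 : ρ = 1 := hPG ρ ax1 ax2
  have hc1 : c = 1 := by rw [← hρ, hρ1, comp_one]
  have := spec x g
  rw [hc1, comp_one, MonObj.one_comp, _root_.mul_one, mul_inv_eq_iff_eq_mul] at this
  exact this.symm

include hpb hloc in
theorem comm_of_central
    (hc : ∀ (T : Over S) (g : T ⟶ G) (x : T ⟶ E), (g ≫ u) * x = x * (g ≫ u))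
    [IsCommMonObj P]
    (hPP : ∀ f : P ⊗ P ⟶ G, lift (𝟙 P) (toUnit P ≫ η[P]) ≫ f = 1 →
      lift (toUnit P ≫ η[P]) (𝟙 P) ≫ f = 1 → f = 1) : IsCommMonObj E := by
  have hab : (1 : E ⊗ E ⟶ E) ≫ v = (fst E E * snd E E * (fst E E)⁻¹ * (snd E E)⁻¹) ≫ v := by
    rw [MonObj.one_comp, MonObj.mul_comp, MonObj.mul_comp, MonObj.mul_comp, GrpObj.inv_comp,
      GrpObj.inv_comp, _root_.mul_comm (fst E E ≫ v), mul_inv_cancel_right, mul_inv_cancel]
  obtain ⟨d, hd⟩ := ex_pt u v hpb _ _ hab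
  have spec : ∀ {T : Over S} (x y : T ⟶ E), x * y * x⁻¹ * y⁻¹ = (lift x y ≫ d) ≫ u := by
    intro T x y
    have := congrArg (lift x y ≫ ·) hd
    simpa only [comp_mul, comp_inv, lift_fst, lift_snd, comp_one, _root_.one_mul,
      Category.assoc] using this
  have hA : ∀ ⦃T : Over S⦄ (x y : T ⟶ E) (h : T ⟶ G),
      lift (x * (h ≫ u)) y ≫ d = lift x y ≫ d := by
    intro T x y h
    apply u_inj u v hpb
    rw [← spec, ← spec]
    have e : (x * (h ≫ u)) * y * (x * (h ≫ u))⁻¹ * y⁻¹ =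
        x * ((h ≫ u) * y * (h ≫ u)⁻¹) * x⁻¹ * y⁻¹ := by group
    rw [e, hc, mul_inv_cancel_right]
  have hB : ∀ ⦃T : Over S⦄ (x y : T ⟶ E) (h : T ⟶ G),
      lift x (y * (h ≫ u)) ≫ d = lift x y ≫ d := by
    intro T x y h
    apply u_inj u v hpb
    rw [← spec, ← spec]
    have e : x * (y * (h ≫ u)) * x⁻¹ * (y * (h ≫ u))⁻¹ =
        x * y * ((h ≫ u) * x⁻¹ * (h ≫ u)⁻¹) * y⁻¹ := by group
    rw [e, hc, mul_inv_cancel_right]
  obtain ⟨ρ, hρ⟩ := desc_two u v hpb hloc d hA hB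
  have ax1 : lift (𝟙 P) (toUnit P ≫ η[P]) ≫ ρ = 1 := by
    apply over_epi_q v hloc
    rw [comp_one, ← Category.assoc, comp_lift, Category.comp_id, ← Category.assoc,
      toUnit_unique (v ≫ toUnit P) (toUnit E)]
    have e : lift v (toUnit E ≫ η[P]) = lift (𝟙 E ≫ v) ((1 : E ⟶ E) ≫ v) := by
      rw [Category.id_comp, MonObj.one_comp, Hom.one_def]
    rw [e, hρ]
    apply u_inj u v hpb
    rw [← spec, MonObj.one_comp]
    group
  have ax2 : lift (toUnit P ≫ η[P]) (𝟙 P) ≫ ρ = 1 := by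
    apply over_epi_q v hloc
    rw [comp_one, ← Category.assoc, comp_lift, Category.comp_id, ← Category.assoc,
      toUnit_unique (v ≫ toUnit P) (toUnit E)]
    have e : lift (toUnit E ≫ η[P]) v = lift ((1 : E ⟶ E) ≫ v) (𝟙 E ≫ v) := by
      rw [Category.id_comp, MonObj.one_comp, Hom.one_def]
    rw [e, hρ]
    apply u_inj u v hpb
    rw [← spec, MonObj.one_comp]
    group
  have hρ1 : ρ = 1 := hPP ρ ax1 ax2
  rw [isCommMonObj_iff_isMulCommutative]
  intro X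
  refine ⟨⟨fun a b => ?_⟩⟩
  have h1 := spec a b
  rw [← hρ, hρ1, comp_one, MonObj.one_comp] at h1
  have h2 : a * b * a⁻¹ * b⁻¹ = 1 → a * b = b * a := by
    intro h
    have : a * b = (a * b * a⁻¹ * b⁻¹) * (b * a) := by group
    rw [this, h, _root_.one_mul]
  exact h2 h1

end Groth.Agent.Helper8.ExtCent
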