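import Mathlib
import Groth.Agent.Helper8.ExtCentA

/-!
# Morphisms of extensions compatible with translations are homomorphisms
-/

set_option autoImplicit false

namespace Groth.Agent.Helper8.ExtCent

open CategoryTheory CategoryTheory.Limits MonoidalCategory CartesianMonoidalCategory MonObj GrpObj
  AlgebraicGeometry
open Groth.Agent.Helper9.ExactH1

universe u

variable {S : Scheme.{u}} {P G E E' : Over S} [GrpObj P] [GrpObj G] [GrpObj E] [GrpObj E']
  [IsCommMonObj G]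
  (u : G ⟶ E) (v : E ⟶ P) [IsMonHom u] [IsMonHom v] (huv : u ≫ v = 1)
  (hpb : IsPullback (fst E G) ((E ◁ u) ≫ μ[E]) v v)
  (hloc : NonAbH1.IsLocallyTrivialFor Scheme.fpqcPrecoverage (Over.mk v.left : Over P.left))
  (u' : G ⟶ E') (v' : E' ⟶ P) [IsMonHom u'] [IsMonHom v']
  (hpb' : IsPullback (fst E' G) ((E' ◁ u') ≫ μ[E']) v' v')

include huv hpb hloc hpb' in
theorem isMonHom_of_translations
    (hPP : ∀ c : P ⊗ P ⟶ G, lift (𝟙 P) (toUnit P ≫ η[P]) ≫ c = 1 →
      lift (toUnit P ≫ η[P]) (𝟙 P) ≫ c = 1 → c = 1)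
    (f : E ⟶ E') (hv : f ≫ v' = v) (h1 : η[E] ≫ f = η[E'])
    (hl : ∀ (T : Over S) (g : T ⟶ G) (x : T ⟶ E), ((g ≫ u) * x) ≫ f = (g ≫ u') * (x ≫ f))
    (hr : ∀ (T : Over S) (g : T ⟶ G) (x : T ⟶ E), (x * (g ≫ u)) ≫ f = (x ≫ f) * (g ≫ u')) :
    IsMonHom f := by
  have hfv : ∀ {T : Over S} (x : T ⟶ E), (x ≫ f) ≫ v' = x ≫ v := by
    intro T x; rw [Category.assoc, hv]
  have hone : ∀ {T : Over S}, (1 : T ⟶ E) ≫ f = 1 := by
    intro T
    rw [Hom.one_def, Category.assoc, h1, ← Hom.one_def]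
  have hab : (1 : E ⊗ E ⟶ E') ≫ v' =
      (((fst E E * snd E E) ≫ f) * ((fst E E ≫ f) * (snd E E ≫ f))⁻¹) ≫ v' := by
    rw [MonObj.one_comp v', MonObj.mul_comp _ _ v', GrpObj.inv_comp _ v',
      MonObj.mul_comp (fst E E ≫ f) (snd E E ≫ f) v', hfv, hfv, hfv,
      MonObj.mul_comp (fst E E) (snd E E) v, mul_inv_cancel]
  obtain ⟨m, hm⟩ := ex_pt u' v' hpb' _ _ hab
  have spec : ∀ {T : Over S} (x y : T ⟶ E),
      ((x * y) ≫ f) * ((x ≫ f) * (y ≫ f))⁻¹ = (lift x y ≫ m) ≫ u' := by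
    intro T x y
    have := congrArg (lift x y ≫ ·) hm
    beta_reduce at this
    rw [comp_mul, comp_inv, comp_mul, comp_mul, comp_one, _root_.one_mul,
      ← Category.assoc (lift x y) (fst E E * snd E E) f, comp_mul, lift_fst, lift_snd,
      lift_fst_assoc, lift_snd_assoc, ← Category.assoc] at this
    exact this
  -- left invariance in the first variable
  have hA' : ∀ ⦃T : Over S⦄ (x y : T ⟶ E) (h : T ⟶ G),
      lift ((h ≫ u) * x) y ≫ m = lift x y ≫ m := by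
    intro T x y h
    apply u_inj u' v' hpb'
    rw [← spec, ← spec, _root_.mul_assoc (h ≫ u) x y, hl T h (x * y), hl T h x]
    have e : (h ≫ u') * ((x * y) ≫ f) * ((h ≫ u') * (x ≫ f) * (y ≫ f))⁻¹ =
        (h ≫ u') * (((x * y) ≫ f) * ((x ≫ f) * (y ≫ f))⁻¹) * (h ≫ u')⁻¹ := by group
    rw [e, spec, ← MonObj.mul_comp, ← GrpObj.inv_comp, ← MonObj.mul_comp,
      _root_.mul_comm h, mul_inv_cancel_right]
  have hA : ∀ ⦃T : Over S⦄ (x y : T ⟶ E) (h : T ⟶ G),
      lift (x * (h ≫ u)) y ≫ m = lift x y ≫ m := by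
    intro T x y h
    have hab2 : (1 : T ⟶ E) ≫ v = (x * (h ≫ u) * x⁻¹) ≫ v := by
      rw [MonObj.one_comp, MonObj.mul_comp, MonObj.mul_comp, GrpObj.inv_comp, Category.assoc, huv,
        comp_one, _root_.mul_one, mul_inv_cancel]
    obtain ⟨h', hh'⟩ := ex_pt u v hpb _ _ hab2
    have e : x * (h ≫ u) = (h' ≫ u) * x := by
      rw [_root_.one_mul] at hh'
      rw [← hh']; group
    rw [e, hA']
  have hB : ∀ ⦃T : Over S⦄ (x y : T ⟶ E) (h : T ⟶ G),
      lift x (y * (h ≫ u)) ≫ m = lift x y ≫ m := by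
    intro T x y h
    apply u_inj u' v' hpb'
    rw [← spec, ← spec, ← _root_.mul_assoc x y (h ≫ u), hr T h (x * y), hr T h y]
    group
  obtain ⟨ρ, hρ⟩ := desc_two u v hpb hloc m hA hB
  have ax1 : lift (𝟙 P) (toUnit P ≫ η[P]) ≫ ρ = 1 := by
    apply over_epi_q v hloc
    rw [comp_one, ← Category.assoc, comp_lift, Category.comp_id, ← Category.assoc,
      toUnit_unique (v ≫ toUnit P) (toUnit E)]
    have e : lift v (toUnit E ≫ η[P]) = lift (𝟙 E ≫ v) ((1 : E ⟶ E) ≫ v) := by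
      rw [Category.id_comp, MonObj.one_comp, Hom.one_def]
    rw [e, hρ]
    apply u_inj u' v' hpb'
    rw [← spec, MonObj.one_comp u', _root_.mul_one, hone, _root_.mul_one, mul_inv_cancel]
  have ax2 : lift (toUnit P ≫ η[P]) (𝟙 P) ≫ ρ = 1 := by
    apply over_epi_q v hloc
    rw [comp_one, ← Category.assoc, comp_lift, Category.comp_id, ← Category.assoc,
      toUnit_unique (v ≫ toUnit P) (toUnit E)]
    have e : lift (toUnit E ≫ η[P]) v = lift ((1 : E ⟶ E) ≫ v) (𝟙 E ≫ v) := by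
      rw [Category.id_comp, MonObj.one_comp, Hom.one_def]
    rw [e, hρ]
    apply u_inj u' v' hpb'
    rw [← spec, MonObj.one_comp u', _root_.one_mul, hone, _root_.one_mul, mul_inv_cancel]
  have hρ1 : ρ = 1 := hPP ρ ax1 ax2
  have hmul : ∀ {T : Over S} (x y : T ⟶ E), (x * y) ≫ f = (x ≫ f) * (y ≫ f) := by
    intro T x y
    have h := spec x y
    rw [← hρ, hρ1, comp_one, MonObj.one_comp u', mul_inv_eq_one] at h
    exact h
  refine ⟨h1, ?_⟩
  have h := hmul (fst E E) (snd E E)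
  rw [Hom.mul_def, Hom.mul_def, lift_fst_snd, Category.id_comp, lift_fst_comp_snd_comp] at h
  exact h

end Groth.Agent.Helper8.ExtCent
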