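import Mathlib
set_option autoImplicit false
universe u
open CategoryTheory Abelian RingTheory.Sequence ModuleCat Pointwise

namespace Groth.Agent.Helper8.ExtKill

variable {A : Type u} [CommRing A]

/-- Ext in the first variable along an isomorphism, linear. -/
noncomputable def extCongrLeft {N N' : ModuleCat.{u} A} (e : N ≅ N') (M : ModuleCat.{u} A) (n : ℕ) :
    Ext N M n ≃ₗ[A] Ext N' M n where
  toFun := fun x => (Ext.mk₀ e.inv).comp x (zero_add n)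
  invFun := fun x => (Ext.mk₀ e.hom).comp x (zero_add n)
  map_add' := by intro x y; simp
  map_smul' := by intro r x; simp
  left_inv := by
    intro x
    simp only
    rw [← Ext.comp_assoc (Ext.mk₀ e.hom) (Ext.mk₀ e.inv) x (zero_add 0) (zero_add n) (by omega),
      Ext.mk₀_comp_mk₀, e.hom_inv_id, Ext.mk₀_id_comp]
  right_inv := by
    intro x
    simp only
    rw [← Ext.comp_assoc (Ext.mk₀ e.inv) (Ext.mk₀ e.hom) x (zero_add 0) (zero_add n) (by omega),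
      Ext.mk₀_comp_mk₀, e.inv_hom_id, Ext.mk₀_id_comp]

lemma mk₀_smul_id_comp (N M : ModuleCat.{u} A) (x : A) (n : ℕ) (e : Ext N M n) :
    (Ext.mk₀ (x • 𝟙 N)).comp e (zero_add n) = x • e := by
  rw [Ext.mk₀_smul, Ext.smul_comp, Ext.mk₀_id_comp]

lemma smul_ext_eq_zero {N M : ModuleCat.{u} A} {x : A} (hxM : x • 𝟙 M = 0) {i : ℕ}
    (e : Ext N M i) : x • e = 0 := by
  rw [Ext.smul_eq_comp_mk₀, hxM, Ext.mk₀_zero, Ext.comp_zero]

/-- The comparison map. -/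
noncomputable def Phi {N : ModuleCat.{u} A} {ι : Type} [Fintype ι] {j : ℕ}
    (w : ι → Ext N N j) (M : ModuleCat.{u} A) : (ι → (N ⟶ M)) →ₗ[A] Ext N M j where
  toFun φ := ∑ k, (w k).comp (Ext.mk₀ (φ k)) (add_zero j)
  map_add' φ ψ := by
    simp only [Pi.add_apply, Ext.mk₀_add, Ext.comp_add, Finset.sum_add_distrib]
  map_smul' r φ := by
    simp only [Pi.smul_apply, Ext.mk₀_smul, Ext.comp_smul, Finset.smul_sum, RingHom.id_apply]

lemma Phi_apply {N : ModuleCat.{u} A} {ι : Type} [Fintype ι] {j : ℕ}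
    (w : ι → Ext N N j) (M : ModuleCat.{u} A) (φ : ι → (N ⟶ M)) :
    Phi w M φ = ∑ k, (w k).comp (Ext.mk₀ (φ k)) (add_zero j) := rfl

/-- `N` has a universal basis of type `ι` in degree `j` for modules killed by `J`. -/
def Good (J : Ideal A) (N : ModuleCat.{u} A) (ι : Type) [Fintype ι] (j : ℕ) : Prop :=
  ∃ w : ι → Ext N N j, ∀ M : ModuleCat.{u} A, (∀ a ∈ J, ∀ m : M, a • m = 0) →
    Function.Bijective (Phi w M)

lemma Phi_sum_elim {N : ModuleCat.{u} A} {ι₁ ι₂ : Type} [Fintype ι₁] [Fintype ι₂] {j : ℕ}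
    (a : ι₁ → Ext N N j) (b : ι₂ → Ext N N j) (M : ModuleCat.{u} A)
    (φ : ι₁ ⊕ ι₂ → (N ⟶ M)) :
    Phi (Sum.elim a b) M φ =
      Phi a M (fun k => φ (Sum.inl k)) + Phi b M (fun k => φ (Sum.inr k)) := by
  simp only [Phi_apply, Fintype.sum_sum_type, Sum.elim_inl, Sum.elim_inr]

lemma Phi_precomp {N N' : ModuleCat.{u} A} {ι : Type} [Fintype ι] {a i j : ℕ} (α : Ext N' N a)
    (w : ι → Ext N N i) (g : N ⟶ N') (h : a + i = j) (M : ModuleCat.{u} A)
    (φ : ι → (N' ⟶ M)) :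
    Phi (fun k => α.comp ((w k).comp (Ext.mk₀ g) (add_zero i)) h) M φ =
      α.comp (Phi w M (fun k => g ≫ φ k)) h := by
  rw [Phi_apply, Phi_apply, Ext.comp_sum]
  refine Finset.sum_congr rfl (fun k _ => ?_)
  rw [Ext.comp_assoc α ((w k).comp (Ext.mk₀ g) (add_zero i)) (Ext.mk₀ (φ k)) h (add_zero i)
      (by omega),
    Ext.comp_assoc (w k) (Ext.mk₀ g) (Ext.mk₀ (φ k)) (add_zero i) (add_zero 0) (by omega),
    Ext.mk₀_comp_mk₀]

lemma Phi_lift {N N' : ModuleCat.{u} A} {ι : Type} [Fintype ι] {j : ℕ} (g : N ⟶ N')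
    (w : ι → Ext N N j) (v : ι → Ext N' N' j)
    (hv : ∀ k, (Ext.mk₀ g).comp (v k) (zero_add j) = (w k).comp (Ext.mk₀ g) (add_zero j))
    (M : ModuleCat.{u} A) (φ : ι → (N' ⟶ M)) :
    (Ext.mk₀ g).comp (Phi v M φ) (zero_add j) = Phi w M (fun k => g ≫ φ k) := by
  rw [Phi_apply, Phi_apply, Ext.comp_sum]
  refine Finset.sum_congr rfl (fun k _ => ?_)
  rw [← Ext.comp_assoc (Ext.mk₀ g) (v k) (Ext.mk₀ (φ k)) (zero_add j) (add_zero j) (by omega),
    hv k,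
    Ext.comp_assoc (w k) (Ext.mk₀ g) (Ext.mk₀ (φ k)) (add_zero j) (add_zero 0) (by omega),
    Ext.mk₀_comp_mk₀]

/-- Abstract properties of a quotient step `N → N' = N/xN`. -/
structure IsStep (x : A) {N N' : ModuleCat.{u} A} (g : N ⟶ N') (ec : Ext N' N 1) : Prop where
  kill : x • 𝟙 N' = 0
  epi : Epi g
  desc : ∀ (M : ModuleCat.{u} A), x • 𝟙 M = 0 → ∀ ψ : N ⟶ M, ∃ φ : N' ⟶ M, g ≫ φ = ψ
  δ_inj : ∀ (M : ModuleCat.{u} A), x • 𝟙 M = 0 → ∀ (i : ℕ) (e : Ext N M i),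
    ec.comp e (Nat.add_comm 1 i) = 0 → e = 0
  g_surj : ∀ (M : ModuleCat.{u} A), x • 𝟙 M = 0 → ∀ (i : ℕ) (e : Ext N M i),
    ∃ e' : Ext N' M i, (Ext.mk₀ g).comp e' (zero_add i) = e
  ker_g : ∀ (M : ModuleCat.{u} A) (i : ℕ) (y : Ext N' M (i + 1)),
    (Ext.mk₀ g).comp y (zero_add (i + 1)) = 0 → ∃ e : Ext N M i, ec.comp e (Nat.add_comm 1 i) = y
  g_δ : ∀ (M : ModuleCat.{u} A) (i : ℕ) (e : Ext N M i),
    (Ext.mk₀ g).comp (ec.comp e (Nat.add_comm 1 i)) (zero_add (i + 1)) = 0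
  g_inj0 : ∀ (M : ModuleCat.{u} A) (e : Ext N' M 0), (Ext.mk₀ g).comp e (zero_add 0) = 0 → e = 0

lemma smul_id_eq_zero {J : Ideal A} {M : ModuleCat.{u} A} (hM : ∀ a ∈ J, ∀ m : M, a • m = 0)
    {x : A} (hxJ : x ∈ J) : x • 𝟙 M = 0 := by
  apply ModuleCat.hom_ext
  apply LinearMap.ext
  intro m
  exact hM x hxJ m

lemma eq_zero_of_epi_comp {N N' M : ModuleCat.{u} A} (g : N ⟶ N') [Epi g] (φ : N' ⟶ M)
    (h : g ≫ φ = 0) : φ = 0 := by
  have h' : g ≫ φ = g ≫ 0 := by rw [h, Limits.comp_zero]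
  exact (cancel_epi g).1 h'

theorem core_zero {x : A} {N N' : ModuleCat.{u} A} {g : N ⟶ N'} {ec : Ext N' N 1}
    (st : IsStep x g ec) (J : Ideal A) (hxJ : x ∈ J)
    {ι : Type} [Fintype ι] (h : Good J N ι 0) : Good J N' ι 0 := by
  obtain ⟨w, hw⟩ := h
  have hlift : ∀ k : ι, ∃ v : Ext N' N' 0,
      (Ext.mk₀ g).comp v (zero_add 0) = (w k).comp (Ext.mk₀ g) (add_zero 0) :=
    fun k => st.g_surj N' st.kill 0 _
  choose v hv using hlift
  refine ⟨v, fun M hM => ?_⟩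
  have hxM : x • 𝟙 M = 0 := smul_id_eq_zero hM hxJ
  haveI := st.epi
  have key : ∀ φ : ι → (N' ⟶ M),
      (Ext.mk₀ g).comp (Phi v M φ) (zero_add 0) = Phi w M (fun k => g ≫ φ k) :=
    fun φ => Phi_lift g w v hv M φ
  refine ⟨?_, ?_⟩
  · rw [injective_iff_map_eq_zero]
    intro φ hφ
    have h1 : Phi w M (fun k => g ≫ φ k) = 0 := by
      rw [← key φ, hφ, Ext.comp_zero]
    have h2 : (fun k => g ≫ φ k) = 0 := (hw M hM).1 (by rw [h1, map_zero])
    funext k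
    exact eq_zero_of_epi_comp g (φ k) (congrFun h2 k)
  · intro y
    obtain ⟨ψ, hψ⟩ := (hw M hM).2 ((Ext.mk₀ g).comp y (zero_add 0))
    have hdesc : ∀ k, ∃ φk : N' ⟶ M, g ≫ φk = ψ k := fun k => st.desc M hxM (ψ k)
    choose φ hφ using hdesc
    refine ⟨φ, ?_⟩
    have hfun : (fun k => g ≫ φ k) = ψ := funext hφ
    have h5 : (Ext.mk₀ g).comp (Phi v M φ + -y) (zero_add 0) = 0 := by
      rw [Ext.comp_add, Ext.comp_neg, key φ, hfun, hψ, add_neg_cancel]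
    exact add_neg_eq_zero.1 (st.g_inj0 M _ h5)

theorem core_succ {x : A} {N N' : ModuleCat.{u} A} {g : N ⟶ N'} {ec : Ext N' N 1}
    (st : IsStep x g ec) (J : Ideal A) (hxJ : x ∈ J)
    {ι₁ ι₂ : Type} [Fintype ι₁] [Fintype ι₂] (i : ℕ)
    (h₁ : Good J N ι₁ i) (h₂ : Good J N ι₂ (i + 1)) : Good J N' (ι₁ ⊕ ι₂) (i + 1) := by
  obtain ⟨w₁, hw₁⟩ := h₁
  obtain ⟨w₂, hw₂⟩ := h₂
  have hlift : ∀ k : ι₂, ∃ v : Ext N' N' (i + 1),
      (Ext.mk₀ g).comp v (zero_add (i + 1)) = (w₂ k).comp (Ext.mk₀ g) (add_zero (i + 1)) :=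
    fun k => st.g_surj N' st.kill (i + 1) _
  choose v hv using hlift
  refine ⟨Sum.elim (fun k => ec.comp ((w₁ k).comp (Ext.mk₀ g) (add_zero i)) (Nat.add_comm 1 i)) v,
    fun M hM => ?_⟩
  have hxM : x • 𝟙 M = 0 := smul_id_eq_zero hM hxJ
  haveI := st.epi
  have keyA : ∀ φ : ι₁ ⊕ ι₂ → (N' ⟶ M),
      Phi (Sum.elim (fun k => ec.comp ((w₁ k).comp (Ext.mk₀ g) (add_zero i))
          (Nat.add_comm 1 i)) v) M φ
        = ec.comp (Phi w₁ M (fun k => g ≫ φ (Sum.inl k))) (Nat.add_comm 1 i)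
          + Phi v M (fun k => φ (Sum.inr k)) := by
    intro φ
    rw [Phi_sum_elim, Phi_precomp ec w₁ g (Nat.add_comm 1 i) M (fun k => φ (Sum.inl k))]
  have keyB : ∀ φ₂ : ι₂ → (N' ⟶ M), (Ext.mk₀ g).comp (Phi v M φ₂) (zero_add (i + 1))
        = Phi w₂ M (fun k => g ≫ φ₂ k) := fun φ₂ => Phi_lift g w₂ v hv M φ₂
  refine ⟨?_, ?_⟩
  · rw [injective_iff_map_eq_zero]
    intro φ hφ
    rw [keyA φ] at hφ
    have hB : (Ext.mk₀ g).comp (Phi v M (fun k => φ (Sum.inr k))) (zero_add (i + 1))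
        = Phi w₂ M (fun k => g ≫ φ (Sum.inr k)) := keyB _
    have h1 : Phi w₂ M (fun k => g ≫ φ (Sum.inr k)) = 0 := by
      rw [← hB]
      have h0 : Phi v M (fun k => φ (Sum.inr k)) =
          -(ec.comp (Phi w₁ M (fun k => g ≫ φ (Sum.inl k))) (Nat.add_comm 1 i)) :=
        eq_neg_of_add_eq_zero_right hφ
      rw [h0, Ext.comp_neg, st.g_δ, neg_zero]
    have h2 : (fun k => g ≫ φ (Sum.inr k)) = 0 := (hw₂ M hM).1 (by rw [h1, map_zero])
    have h3 : ∀ k, φ (Sum.inr k) = 0 := fun k =>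
      eq_zero_of_epi_comp g (φ (Sum.inr k)) (congrFun h2 k)
    have h4 : (fun k => φ (Sum.inr k)) = 0 := funext h3
    rw [h4, map_zero, add_zero] at hφ
    have h5 : Phi w₁ M (fun k => g ≫ φ (Sum.inl k)) = 0 := st.δ_inj M hxM i _ hφ
    have h6 : (fun k => g ≫ φ (Sum.inl k)) = 0 := (hw₁ M hM).1 (by rw [h5, map_zero])
    have h7 : ∀ k, φ (Sum.inl k) = 0 := fun k =>
      eq_zero_of_epi_comp g (φ (Sum.inl k)) (congrFun h6 k)
    funext k
    cases k with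
    | inl k => exact h7 k
    | inr k => exact h3 k
  · intro y
    obtain ⟨ψ₂, hψ₂⟩ := (hw₂ M hM).2 ((Ext.mk₀ g).comp y (zero_add (i + 1)))
    have hd₂ : ∀ k, ∃ φk : N' ⟶ M, g ≫ φk = ψ₂ k := fun k => st.desc M hxM (ψ₂ k)
    choose φ₂ hφ₂ using hd₂
    have hB : (Ext.mk₀ g).comp (Phi v M φ₂) (zero_add (i + 1))
        = Phi w₂ M (fun k => g ≫ φ₂ k) := keyB φ₂
    have hfun₂ : (fun k => g ≫ φ₂ k) = ψ₂ := funext hφ₂
    have h8 : (Ext.mk₀ g).comp (y + -Phi v M φ₂) (zero_add (i + 1)) = 0 := by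
      rw [Ext.comp_add, Ext.comp_neg, hB, hfun₂, hψ₂, add_neg_cancel]
    obtain ⟨e, he⟩ := st.ker_g M i _ h8
    obtain ⟨ψ₁, hψ₁⟩ := (hw₁ M hM).2 e
    have hd₁ : ∀ k, ∃ φk : N' ⟶ M, g ≫ φk = ψ₁ k := fun k => st.desc M hxM (ψ₁ k)
    choose φ₁ hφ₁ using hd₁
    have hfun₁ : (fun k => g ≫ φ₁ k) = ψ₁ := funext hφ₁
    refine ⟨Sum.elim φ₁ φ₂, ?_⟩
    have hA : Phi _ M (Sum.elim φ₁ φ₂)
        = ec.comp (Phi w₁ M (fun k => g ≫ φ₁ k)) (Nat.add_comm 1 i) + Phi v M φ₂ :=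
      keyA (Sum.elim φ₁ φ₂)
    rw [hA, hfun₁, hψ₁, he]
    exact neg_add_cancel_right _ _

lemma smul_id_quot (N : ModuleCat.{u} A) (x : A) :
    x • 𝟙 (ModuleCat.of A (QuotSMulTop x N)) = 0 := by
  apply ModuleCat.hom_ext
  apply LinearMap.ext
  intro m
  obtain ⟨n, rfl⟩ := Submodule.Quotient.mk_surjective (x • (⊤ : Submodule A N)) m
  show x • (Submodule.Quotient.mk n : N ⧸ x • (⊤ : Submodule A N)) = 0
  rw [← Submodule.Quotient.mk_smul, Submodule.Quotient.mk_eq_zero]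
  exact Submodule.smul_mem_pointwise_smul n x ⊤ Submodule.mem_top

theorem isStep (N : ModuleCat.{u} A) (x : A) (hx : IsSMulRegular N x) :
    IsStep x (N := N) (N' := ModuleCat.of A (QuotSMulTop x N)) (N.smulShortComplex x).g
      hx.smulShortComplex_shortExact.extClass := by
  have hS := hx.smulShortComplex_shortExact
  refine ⟨smul_id_quot N x, hS.epi_g, ?_, ?_, ?_, ?_, ?_, ?_⟩
  · intro M hxM ψ
    have hk : (N.smulShortComplex x).f ≫ ψ = 0 := by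
      show (x • 𝟙 N) ≫ ψ = 0
      have h1 : (x • 𝟙 N) ≫ ψ = ψ ≫ (x • 𝟙 M) := by
        rw [Linear.smul_comp, Linear.comp_smul, Category.id_comp, Category.comp_id]
      rw [h1, hxM, Limits.comp_zero]
    exact ⟨hS.exact.desc ψ hk, hS.exact.g_desc ψ hk⟩
  · intro M hxM i e he
    obtain ⟨e₂, he₂⟩ := Ext.contravariant_sequence_exact₁ hS M e (Nat.add_comm 1 i) he
    exact he₂.symm.trans ((mk₀_smul_id_comp N M x i e₂).trans (smul_ext_eq_zero hxM e₂))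
  · intro M hxM i e
    have h0 : (Ext.mk₀ (N.smulShortComplex x).f).comp e (zero_add i) = 0 :=
      (mk₀_smul_id_comp N M x i e).trans (smul_ext_eq_zero hxM e)
    exact Ext.contravariant_sequence_exact₂ hS M e h0
  · intro M i y hy
    exact Ext.contravariant_sequence_exact₃ hS M y hy (Nat.add_comm 1 i)
  · intro M i e
    exact hS.comp_extClass_assoc e (Nat.add_comm 1 i)
  · intro M e he
    have hinj := Ext.precomp_mk₀_injective_of_epi M (N.smulShortComplex x).g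
    exact hinj (he.trans (map_zero ((Ext.mk₀ (N.smulShortComplex x).g).precomp M (zero_add 0))).symm)

theorem good_base_zero (J : Ideal A) (N : ModuleCat.{u} A) : Good J N Unit 0 := by
  refine ⟨fun _ => Ext.mk₀ (𝟙 N), fun M _ => ?_⟩
  have hform : ∀ φ : Unit → (N ⟶ M),
      Phi (fun _ : Unit => Ext.mk₀ (𝟙 N)) M φ = Ext.mk₀ (φ ()) := by
    intro φ
    rw [Phi_apply, Fintype.sum_unique]
    exact Ext.mk₀_id_comp _
  refine ⟨?_, ?_⟩
  · intro φ ψ h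
    rw [hform, hform] at h
    funext k
    exact (Ext.mk₀_bijective N M).1 h
  · intro y
    obtain ⟨f, hf⟩ := (Ext.mk₀_bijective N M).2 y
    exact ⟨fun _ => f, by rw [hform]; exact hf⟩

theorem good_base_succ (J : Ideal A) (N : ModuleCat.{u} A) [Projective N] (j : ℕ) :
    Good J N Empty (j + 1) := by
  refine ⟨fun k => k.elim, fun M _ => ?_⟩
  haveI : Subsingleton (Ext N M (j + 1)) := Ext.subsingleton_of_projective N M j
  exact ⟨fun φ ψ _ => Subsingleton.elim _ _, fun y => ⟨0, Subsingleton.elim _ _⟩⟩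

/-- universal bases in all degrees with binomial cardinalities -/
def Q (J : Ideal A) (N : ModuleCat.{u} A) (p : ℕ) : Prop :=
  ∀ j : ℕ, ∃ (ι : Type) (_ : Fintype ι), Fintype.card ι = p.choose j ∧ Good J N ι j

theorem Q_base (J : Ideal A) : Q J (ModuleCat.of A A) 0 := by
  intro j
  cases j with
  | zero => exact ⟨Unit, inferInstance, by simp, good_base_zero J _⟩
  | succ j => exact ⟨Empty, inferInstance, by simp, good_base_succ J _ j⟩

theorem Q_step (J : Ideal A) (N : ModuleCat.{u} A) (x : A) (hxJ : x ∈ J)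
    (hx : IsSMulRegular N x) (p : ℕ) (hQ : Q J N p) :
    Q J (ModuleCat.of A (QuotSMulTop x N)) (p + 1) := by
  have st := isStep N x hx
  intro j
  cases j with
  | zero =>
    obtain ⟨ι, inst, hc, hg⟩ := hQ 0
    exact ⟨ι, inst, by rw [hc, Nat.choose_zero_right, Nat.choose_zero_right],
      core_zero st J hxJ hg⟩
  | succ i =>
    obtain ⟨ι₁, inst₁, hc₁, hg₁⟩ := hQ i
    obtain ⟨ι₂, inst₂, hc₂, hg₂⟩ := hQ (i + 1)
    exact ⟨ι₁ ⊕ ι₂, inferInstance,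
      by rw [Fintype.card_sum, hc₁, hc₂, Nat.choose_succ_succ'],
      core_succ st J hxJ i hg₁ hg₂⟩

theorem main_ind (J : Ideal A) : ∀ (xs : List A) (N : ModuleCat.{u} A) (p : ℕ),
    (∀ x ∈ xs, x ∈ J) → IsWeaklyRegular N xs → Q J N p →
    ∃ N' : ModuleCat.{u} A,
      Nonempty (N' ≅ ModuleCat.of A (N ⧸ Ideal.ofList xs • (⊤ : Submodule A N))) ∧
        Q J N' (p + xs.length) := by
  intro xs
  induction xs with
  | nil =>
    intro N p _ _ hQ
    have e0 : (N ⧸ Ideal.ofList ([] : List A) • (⊤ : Submodule A N)) ≃ₗ[A] N :=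
      Submodule.quotEquivOfEqBot _ (by rw [Ideal.ofList_nil, Submodule.bot_smul])
    exact ⟨N, ⟨e0.toModuleIso.symm⟩, by simpa using hQ⟩
  | cons x xs ih =>
    intro N p hJ hreg hQ
    rw [isWeaklyRegular_cons_iff] at hreg
    obtain ⟨hx, hreg'⟩ := hreg
    have hQ' := Q_step J N x (hJ x List.mem_cons_self) hx p hQ
    obtain ⟨N', ⟨e⟩, hN'⟩ := ih (ModuleCat.of A (QuotSMulTop x N)) (p + 1)
      (fun y hy => hJ y (List.mem_cons_of_mem _ hy)) hreg' hQ'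
    have e0 : (N ⧸ Ideal.ofList (x :: xs) • (⊤ : Submodule A N)) ≃ₗ[A]
        (QuotSMulTop x N ⧸ Ideal.ofList xs • (⊤ : Submodule A (QuotSMulTop x N))) :=
      Submodule.quotOfListConsSMulTopEquivQuotSMulTopInner N x xs
    have hlen : p + (x :: xs).length = p + 1 + xs.length := by
      simp only [List.length_cons]; omega
    refine ⟨N', ⟨e ≪≫ e0.toModuleIso.symm⟩, ?_⟩
    rw [hlen]; exact hN'

/-- `Hom(A/J, M) ≃ M` for `M` killed by `J`. -/
noncomputable def homQuotEquiv (J : Ideal A) (M : Type u) [AddCommGroup M] [Module A M]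
    (hM : ∀ a ∈ J, ∀ m : M, a • m = 0) : ((A ⧸ J) →ₗ[A] M) ≃ₗ[A] M :=
  LinearEquiv.ofBijective (LinearMap.applyₗ (1 : A ⧸ J)) (by
    refine ⟨?_, ?_⟩
    · rw [injective_iff_map_eq_zero]
      intro f hf
      apply Submodule.linearMap_qext
      apply LinearMap.ext_ring
      exact hf
    · intro m
      have hker : J ≤ LinearMap.ker (LinearMap.toSpanSingleton A M m) := by
        intro a ha
        rw [LinearMap.mem_ker, LinearMap.toSpanSingleton_apply]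
        exact hM a ha m
      refine ⟨Submodule.liftQ J (LinearMap.toSpanSingleton A M m) hker, ?_⟩
      show Submodule.liftQ J (LinearMap.toSpanSingleton A M m) hker
          (Submodule.Quotient.mk (1 : A)) = m
      rw [Submodule.liftQ_apply, LinearMap.toSpanSingleton_apply, one_smul])

theorem main (xs : List A) (hreg : IsWeaklyRegular A xs) (M : Type u) [AddCommGroup M]
    [Module A M] (hJM : Ideal.ofList xs • (⊤ : Submodule A M) = ⊥) (i : ℕ) :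
    Nonempty (Ext (ModuleCat.of A (A ⧸ Ideal.ofList xs)) (ModuleCat.of A M) i ≃ₗ[A]
      (Fin (xs.length.choose i) → M)) := by
  have hM : ∀ a ∈ Ideal.ofList xs, ∀ m : M, a • m = 0 := by
    intro a ha m
    have h1 : a • m ∈ Ideal.ofList xs • (⊤ : Submodule A M) :=
      Submodule.smul_mem_smul ha Submodule.mem_top
    rw [hJM] at h1
    exact (Submodule.mem_bot A).1 h1
  have hJ : ∀ x ∈ xs, x ∈ Ideal.ofList xs := fun x hx => Ideal.subset_span hx
  obtain ⟨N', ⟨e⟩, hN'⟩ :=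
    main_ind (Ideal.ofList xs) xs (ModuleCat.of A A) 0 hJ hreg (Q_base _)
  obtain ⟨ι, inst, hc, w, hw⟩ := hN' i
  have hc' : Fintype.card ι = xs.length.choose i := by rw [hc, zero_add]
  have hI : Ideal.ofList xs • (⊤ : Submodule A A) = Ideal.ofList xs := by
    rw [smul_eq_mul, Ideal.mul_top]
  let e0 : (A ⧸ Ideal.ofList xs • (⊤ : Submodule A A)) ≃ₗ[A] (A ⧸ Ideal.ofList xs) :=
    Submodule.quotEquivOfEq _ _ hI
  let e' : N' ≅ ModuleCat.of A (A ⧸ Ideal.ofList xs) := e ≪≫ e0.toModuleIso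
  let E1 : (ι → (N' ⟶ ModuleCat.of A M)) ≃ₗ[A] Ext N' (ModuleCat.of A M) i :=
    LinearEquiv.ofBijective (Phi w (ModuleCat.of A M)) (hw (ModuleCat.of A M) hM)
  let E2 : Ext N' (ModuleCat.of A M) i ≃ₗ[A]
      Ext (ModuleCat.of A (A ⧸ Ideal.ofList xs)) (ModuleCat.of A M) i :=
    extCongrLeft e' (ModuleCat.of A M) i
  let E3 : (N' ⟶ ModuleCat.of A M) ≃ₗ[A]
      (ModuleCat.of A (A ⧸ Ideal.ofList xs) ⟶ ModuleCat.of A M) :=
    Linear.homCongr A e' (Iso.refl _)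
  let E4 : (ModuleCat.of A (A ⧸ Ideal.ofList xs) ⟶ ModuleCat.of A M) ≃ₗ[A]
      ((A ⧸ Ideal.ofList xs) →ₗ[A] M) := ModuleCat.homLinearEquiv
  let E5 : ((A ⧸ Ideal.ofList xs) →ₗ[A] M) ≃ₗ[A] M := homQuotEquiv (Ideal.ofList xs) M hM
  let E6 : (ι → (N' ⟶ ModuleCat.of A M)) ≃ₗ[A] (ι → M) :=
    LinearEquiv.piCongrRight (fun _ => E3.trans (E4.trans E5))
  let E7 : (ι → M) ≃ₗ[A] (Fin (xs.length.choose i) → M) :=
    LinearEquiv.funCongrLeft A M (Fintype.equivFinOfCardEq hc').symm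
  exact ⟨E2.symm.trans (E1.symm.trans (E6.trans E7))⟩

end Groth.Agent.Helper8.ExtKill
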