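import Mathlib
set_option autoImplicit false
universe u
open CategoryTheory Abelian IsLocalRing Pointwise

namespace Groth.Agent.Helper8.ExtNZ

/-- In a reduced Noetherian local ring of dimension one there is a non-zero-divisor `x` in the
maximal ideal with `m^N ⊆ (x)`. -/
theorem exists_nzd_param (S : Type u) [CommRing S] [IsNoetherianRing S] [IsLocalRing S]
    [IsReduced S] (hdim : ringKrullDim S = 1) :
    ∃ x ∈ maximalIdeal S, x ∈ nonZeroDivisors S ∧
      ∃ N : ℕ, maximalIdeal S ^ N ≤ Ideal.span {x} := by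
  have h1 : Ring.KrullDimLE 1 S := by
    rw [Ring.krullDimLE_iff, hdim, Nat.cast_one]
  have h0 : ¬ Ring.KrullDimLE 0 S := by
    rw [Ring.krullDimLE_iff, hdim, Nat.cast_zero]
    exact not_le.2 zero_lt_one
  rw [Ring.krullDimLE_one_iff] at h1
  rw [Ring.krullDimLE_zero_iff] at h0
  push Not at h0
  obtain ⟨𝔭, h𝔭, h𝔭max⟩ := h0
  have hm_notmin : maximalIdeal S ∉ minimalPrimes S := by
    intro hmin
    have hle : 𝔭 ≤ maximalIdeal S := le_maximalIdeal h𝔭.ne_top
    have hge : maximalIdeal S ≤ 𝔭 := hmin.2 ⟨h𝔭, bot_le⟩ hle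
    have heq : 𝔭 = maximalIdeal S := le_antisymm hle hge
    rw [heq] at h𝔭max
    exact h𝔭max (maximalIdeal.isMaximal S)
  have hfin : (minimalPrimes S).Finite := Ideal.finite_minimalPrimes_of_isNoetherianRing S ⊥
  have havoid : ¬ ((maximalIdeal S : Set S) ⊆
      ⋃ 𝔮 ∈ (↑hfin.toFinset : Set (Ideal S)), (𝔮 : Set S)) := by
    intro hsub
    have hp : ∀ 𝔮 ∈ hfin.toFinset, 𝔮 ≠ ⊥ → 𝔮 ≠ ⊥ → 𝔮.IsPrime :=
      fun 𝔮 h𝔮 _ _ => (hfin.mem_toFinset.1 h𝔮).1.1
    obtain ⟨𝔮, h𝔮, hle⟩ :=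
      (Ideal.subset_union_prime (f := fun 𝔮 : Ideal S => 𝔮) ⊥ ⊥ hp).1 hsub
    have h𝔮min : 𝔮 ∈ minimalPrimes S := hfin.mem_toFinset.1 h𝔮
    have heq : 𝔮 = maximalIdeal S := le_antisymm (le_maximalIdeal h𝔮min.1.1.ne_top) hle
    rw [heq] at h𝔮min
    exact hm_notmin h𝔮min
  obtain ⟨x, hxm, hxnot⟩ := Set.not_subset.1 havoid
  have hx_notin : ∀ 𝔮 ∈ minimalPrimes S, x ∉ 𝔮 := by
    intro 𝔮 h𝔮 hx𝔮
    exact hxnot (Set.mem_biUnion (Finset.mem_coe.2 (hfin.mem_toFinset.2 h𝔮)) hx𝔮)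
  have hrad : sInf (minimalPrimes S) = (⊥ : Ideal S) := by
    show sInf (⊥ : Ideal S).minimalPrimes = ⊥
    rw [Ideal.sInf_minimalPrimes]
    exact nilradical_eq_zero S
  have hnzd : x ∈ nonZeroDivisors S := by
    rw [mem_nonZeroDivisors_iff_right]
    intro y hyx
    have hy : y ∈ sInf (minimalPrimes S) := by
      rw [Submodule.mem_sInf]
      intro 𝔮 h𝔮
      have h2 : y * x ∈ 𝔮 := by rw [hyx]; exact 𝔮.zero_mem
      exact (h𝔮.1.1.mem_or_mem h2).resolve_right (hx_notin 𝔮 h𝔮)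
    rw [hrad] at hy
    exact (Submodule.mem_bot S).1 hy
  have hrad_x : (Ideal.span {x}).radical = maximalIdeal S := by
    rw [Ideal.radical_eq_sInf]
    apply le_antisymm
    · apply sInf_le
      exact ⟨(Ideal.span_singleton_le_iff_mem (maximalIdeal S)).2 hxm, inferInstance⟩
    · apply le_sInf
      rintro 𝔮 ⟨hle, h𝔮⟩
      rcases h1 𝔮 h𝔮 with hmin | hmax
      · exact absurd (hle (Ideal.mem_span_singleton_self x)) (hx_notin 𝔮 hmin)
      · exact (eq_maximalIdeal hmax).ge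
  obtain ⟨N, hN⟩ := Ideal.exists_radical_pow_le_of_fg (Ideal.span {x})
    (IsNoetherian.noetherian _)
  rw [hrad_x] at hN
  exact ⟨x, hxm, hnzd, N, hN⟩

/-- A nonzero module killed by a power of `m` has a nonzero element killed by `m`. -/
lemma exists_socle (R : Type u) [CommRing R] (m : Ideal R) (L : Type u) [AddCommGroup L]
    [Module R L] [Nontrivial L] :
    ∀ N : ℕ, (∀ r ∈ m ^ N, ∀ l : L, r • l = 0) → ∃ z : L, z ≠ 0 ∧ ∀ r ∈ m, r • z = 0 := by
  intro N
  induction N with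
  | zero =>
    intro h
    exfalso
    obtain ⟨l, hl⟩ := exists_ne (0 : L)
    have h1 := h 1 (by rw [pow_zero, Ideal.one_eq_top]; exact Submodule.mem_top) l
    rw [one_smul] at h1
    exact hl h1
  | succ N ih =>
    intro h
    by_cases hN : ∀ r ∈ m ^ N, ∀ l : L, r • l = 0
    · exact ih hN
    · push Not at hN
      obtain ⟨r₀, hr₀, l₀, hl₀⟩ := hN
      refine ⟨r₀ • l₀, hl₀, fun r hr => ?_⟩
      rw [smul_smul]
      apply h
      rw [pow_succ']
      exact Ideal.mul_mem_mul hr hr₀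

theorem exists_socle_quot (R : Type u) [CommRing R] [IsLocalRing R] (Q : Ideal R) (x : R)
    (hxm : x ∈ maximalIdeal R) (N : ℕ) (hN : maximalIdeal R ^ N ≤ Q ⊔ Ideal.span {x})
    (J : Type u) [AddCommGroup J] [Module R J] [Module.Finite R J] [Nontrivial J]
    (hQJ : ∀ q ∈ Q, ∀ y : J, q • y = 0) :
    ∃ z : QuotSMulTop x J, z ≠ 0 ∧ ∀ r ∈ maximalIdeal R, r • z = 0 := by
  haveI : Nontrivial (QuotSMulTop x J) := by
    show Nontrivial (J ⧸ x • (⊤ : Submodule R J))
    rw [Submodule.Quotient.nontrivial_iff]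
    intro htop
    have hle : (⊤ : Submodule R J) ≤ maximalIdeal R • (⊤ : Submodule R J) := by
      intro y _
      have hy : y ∈ x • (⊤ : Submodule R J) := by rw [htop]; exact Submodule.mem_top
      obtain ⟨y', -, rfl⟩ := (Submodule.mem_smul_pointwise_iff_exists y x ⊤).1 hy
      exact Submodule.smul_mem_smul hxm Submodule.mem_top
    have hbot := Submodule.eq_bot_of_le_smul_of_le_jacobson_bot (maximalIdeal R)
      (⊤ : Submodule R J) Module.Finite.fg_top hle (maximalIdeal_le_jacobson ⊥)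
    obtain ⟨y, hy⟩ := exists_ne (0 : J)
    have hy' : y ∈ (⊥ : Submodule R J) := hbot ▸ Submodule.mem_top
    exact hy ((Submodule.mem_bot R).1 hy')
  apply exists_socle R (maximalIdeal R) (QuotSMulTop x J) N
  intro r hr l
  obtain ⟨j, rfl⟩ := Submodule.Quotient.mk_surjective _ l
  obtain ⟨q, hq, s, hs, rfl⟩ := Submodule.mem_sup.1 (hN hr)
  obtain ⟨a, rfl⟩ := Ideal.mem_span_singleton'.1 hs
  rw [← Submodule.Quotient.mk_smul, Submodule.Quotient.mk_eq_zero, add_smul, hQJ q hq j,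
    zero_add, mul_comm, mul_smul]
  exact Submodule.smul_mem_pointwise_smul (a • j) x ⊤ Submodule.mem_top

theorem hom_eq_zero (R : Type u) [CommRing R] [IsLocalRing R] (P Q : Ideal R) (n : ℕ)
    (hPQ : maximalIdeal R ^ n ≤ P ⊔ Q) (x : R) (hxm : x ∈ maximalIdeal R)
    {I J : Type u} [AddCommGroup I] [Module R I] [AddCommGroup J] [Module R J]
    (hPI : ∀ p ∈ P, ∀ i : I, p • i = 0) (hQJ : ∀ q ∈ Q, ∀ y : J, q • y = 0)
    (hx : ∀ y : J, x • y = 0 → y = 0) (f : I →ₗ[R] J) : f = 0 := by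
  apply LinearMap.ext
  intro i
  have hkill : ∀ r ∈ maximalIdeal R ^ n, r • f i = 0 := by
    intro r hr
    obtain ⟨p, hp, q, hq, rfl⟩ := Submodule.mem_sup.1 (hPQ hr)
    rw [add_smul, hQJ q hq, add_zero, ← map_smul, hPI p hp, map_zero]
  have hpow : ∀ k : ℕ, ∀ y : J, x ^ k • y = 0 → y = 0 := by
    intro k
    induction k with
    | zero =>
      intro y hy
      rwa [pow_zero, one_smul] at hy
    | succ k ih =>
      intro y hy
      apply ih
      apply hx
      rw [← mul_smul, ← pow_succ']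
      exact hy
  exact hpow n (f i) (hkill _ (Ideal.pow_mem_pow hxm n))

lemma exists_map_of_cyclic (R : Type u) [CommRing R] {C L : Type u} [AddCommGroup C]
    [Module R C] [AddCommGroup L] [Module R L]
    (c : C) (hc : ∀ y : C, ∃ r : R, r • c = y) (z : L)
    (hz : ∀ r : R, r • c = 0 → r • z = 0) :
    ∃ f : C →ₗ[R] L, f c = z := by
  obtain ⟨f₀, hf₀⟩ : ∃ f₀ : R →ₗ[R] C, ∀ r, f₀ r = r • c :=
    ⟨LinearMap.toSpanSingleton R C c, fun r => LinearMap.toSpanSingleton_apply R C c r⟩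
  obtain ⟨g₁, hg₁⟩ : ∃ g₁ : R →ₗ[R] L, ∀ r, g₁ r = r • z :=
    ⟨LinearMap.toSpanSingleton R L z, fun r => LinearMap.toSpanSingleton_apply R L z r⟩
  have hsurj : Function.Surjective f₀ := fun y => by
    obtain ⟨r, hr⟩ := hc y
    exact ⟨r, (hf₀ r).trans hr⟩
  have hle : LinearMap.ker f₀ ≤ LinearMap.ker g₁ := by
    intro r hr
    rw [LinearMap.mem_ker] at hr ⊢
    rw [hg₁]
    rw [hf₀] at hr
    exact hz r hr
  refine ⟨((LinearMap.ker f₀).liftQ g₁ hle) ∘ₗ
    (f₀.quotKerEquivOfSurjective hsurj).symm.toLinearMap, ?_⟩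
  have h1 : (f₀.quotKerEquivOfSurjective hsurj).symm c = Submodule.Quotient.mk (1 : R) := by
    have h2 : f₀ 1 = c := by rw [hf₀, one_smul]
    rw [← h2]
    exact LinearMap.quotKerEquivOfSurjective_symm_apply f₀ hsurj 1
  rw [LinearMap.comp_apply, LinearEquiv.coe_coe, h1, Submodule.liftQ_apply, hg₁, one_smul]

theorem exists_nonzero_map (R : Type u) [CommRing R] [IsLocalRing R] {L : Type u}
    [AddCommGroup L] [Module R L]
    (z : L) (hz0 : z ≠ 0) (hz : ∀ r ∈ maximalIdeal R, r • z = 0) :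
    ∀ (r : ℕ) (I : Type u) [AddCommGroup I] [Module R I] [Nontrivial I] (s : Fin r → I),
      Submodule.span R (Set.range s) = ⊤ → ∃ f : I →ₗ[R] L, f ≠ 0 := by
  intro r
  induction r with
  | zero =>
    intro I _ _ _ s hs
    exfalso
    have h1 : Set.range s = ∅ := Set.range_eq_empty s
    rw [h1, Submodule.span_empty] at hs
    obtain ⟨y, hy⟩ := exists_ne (0 : I)
    have hy' : y ∈ (⊥ : Submodule R I) := hs ▸ Submodule.mem_top
    exact hy ((Submodule.mem_bot R).1 hy')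
  | succ r ih =>
    intro I _ _ _ s hs
    by_cases htail : Submodule.span R (Set.range (fun k : Fin r => s k.succ)) = ⊤
    · exact ih I (fun k => s k.succ) htail
    · obtain ⟨I'', hI''⟩ : ∃ I'' : Submodule R I,
          I'' = Submodule.span R (Set.range (fun k : Fin r => s k.succ)) := ⟨_, rfl⟩
      rw [← hI''] at htail
      have hrange : Set.range s = insert (s 0) (Set.range (fun k : Fin r => s k.succ)) := by
        ext y
        simp only [Set.mem_range, Set.mem_insert_iff, Fin.exists_fin_succ]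
        constructor
        · rintro (h | h)
          · exact Or.inl h.symm
          · exact Or.inr h
        · rintro (h | h)
          · exact Or.inl h.symm
          · exact Or.inr h
      have hc0 : (Submodule.Quotient.mk (s 0) : I ⧸ I'') ≠ 0 := by
        intro h0
        rw [Submodule.Quotient.mk_eq_zero] at h0
        apply htail
        rw [eq_top_iff, ← hs, hrange, Submodule.span_le]
        rintro y (rfl | hy)
        · exact h0
        · rw [hI'']
          exact Submodule.subset_span hy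
      have hc : ∀ y : I ⧸ I'', ∃ a : R,
          a • (Submodule.Quotient.mk (s 0) : I ⧸ I'') = y := by
        intro y
        obtain ⟨y₀, rfl⟩ := Submodule.Quotient.mk_surjective I'' y
        have hy₀ : y₀ ∈ Submodule.span R (Set.range s) := by rw [hs]; exact Submodule.mem_top
        rw [hrange, Submodule.span_insert, ← hI''] at hy₀
        obtain ⟨y₁, hy₁, y₂, hy₂, rfl⟩ := Submodule.mem_sup.1 hy₀
        obtain ⟨a, rfl⟩ := Submodule.mem_span_singleton.1 hy₁
        refine ⟨a, ?_⟩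
        rw [Submodule.Quotient.mk_add, Submodule.Quotient.mk_smul,
          (Submodule.Quotient.mk_eq_zero I'').2 hy₂, add_zero]
      have hzc : ∀ a : R, a • (Submodule.Quotient.mk (s 0) : I ⧸ I'') = 0 → a • z = 0 := by
        intro a ha
        by_cases ham : a ∈ maximalIdeal R
        · exact hz a ham
        · exfalso
          have hu : IsUnit a := notMem_maximalIdeal.1 ham
          obtain ⟨u, rfl⟩ := hu
          apply hc0
          calc (Submodule.Quotient.mk (s 0) : I ⧸ I'')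
              = ((↑u⁻¹ : R) * (↑u : R)) • (Submodule.Quotient.mk (s 0) : I ⧸ I'') := by
                rw [Units.inv_mul, one_smul]
            _ = (↑u⁻¹ : R) • ((↑u : R) • (Submodule.Quotient.mk (s 0) : I ⧸ I'')) :=
                mul_smul _ _ _
            _ = 0 := by rw [ha, smul_zero]
      obtain ⟨f, hf⟩ := exists_map_of_cyclic R (Submodule.Quotient.mk (s 0) : I ⧸ I'') hc z hzc
      refine ⟨f ∘ₗ I''.mkQ, fun h0 => hz0 ?_⟩
      have h1 := LinearMap.congr_fun h0 (s 0)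
      rw [LinearMap.comp_apply, Submodule.mkQ_apply, hf] at h1
      exact h1

theorem main (R : Type u) [CommRing R] [IsNoetherianRing R] [IsLocalRing R]
    (P Q : Ideal R) (hPQ : ∃ n : ℕ, IsLocalRing.maximalIdeal R ^ n ≤ P ⊔ Q)
    [IsReduced (R ⧸ Q)] (hQdim : ringKrullDim (R ⧸ Q) = 1)
    (I J : Type u) [AddCommGroup I] [Module R I] [Module.Finite R I] [Nontrivial I]
    [AddCommGroup J] [Module R J] [Module.Finite R J] [Nontrivial J]
    (hPI : ∀ p ∈ P, ∀ x : I, p • x = 0) (hQJ : ∀ q ∈ Q, ∀ y : J, q • y = 0)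
    (hJtf : ∀ r : R, Ideal.Quotient.mk Q r ∈ nonZeroDivisors (R ⧸ Q) →
      ∀ y : J, r • y = 0 → y = 0) :
    Nontrivial (Abelian.Ext (ModuleCat.of R I) (ModuleCat.of R J) 1) := by
  obtain ⟨n, hn⟩ := hPQ
  haveI : Nontrivial (R ⧸ Q) := by
    by_contra h
    rw [not_nontrivial_iff_subsingleton] at h
    have h1 := ringKrullDim_eq_bot_of_subsingleton (R := R ⧸ Q)
    rw [hQdim] at h1
    exact WithBot.one_ne_bot h1
  haveI : IsLocalRing (R ⧸ Q) :=
    IsLocalRing.of_surjective' (Ideal.Quotient.mk Q) Ideal.Quotient.mk_surjective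
  obtain ⟨xbar, hxbar_m, hxbar_nzd, N, hN⟩ := exists_nzd_param (R ⧸ Q) hQdim
  obtain ⟨x, rfl⟩ := Ideal.Quotient.mk_surjective xbar
  have hxm : x ∈ maximalIdeal R := by
    rw [mem_maximalIdeal, mem_nonunits_iff]
    intro hu
    have h1 : IsUnit (Ideal.Quotient.mk Q x) := hu.map _
    exact ((mem_maximalIdeal _).1 hxbar_m) h1
  have hx : ∀ y : J, x • y = 0 → y = 0 := hJtf x hxbar_nzd
  have hmap : Ideal.map (Ideal.Quotient.mk Q) (maximalIdeal R) ≤ maximalIdeal (R ⧸ Q) := by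
    rw [Ideal.map_le_iff_le_comap]
    have hmax : (Ideal.comap (Ideal.Quotient.mk Q) (maximalIdeal (R ⧸ Q))).IsMaximal :=
      Ideal.comap_isMaximal_of_surjective (Ideal.Quotient.mk Q) Ideal.Quotient.mk_surjective
    exact (eq_maximalIdeal hmax).ge
  have hN' : maximalIdeal R ^ N ≤ Q ⊔ Ideal.span {x} := by
    intro r hr
    have h1 : Ideal.Quotient.mk Q r ∈ maximalIdeal (R ⧸ Q) ^ N := by
      have h2 : Ideal.Quotient.mk Q r ∈
          Ideal.map (Ideal.Quotient.mk Q) (maximalIdeal R ^ N) := Ideal.mem_map_of_mem _ hr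
      rw [Ideal.map_pow] at h2
      exact Ideal.pow_right_mono hmap N h2
    have h3 := hN h1
    obtain ⟨sbar, hs⟩ := Ideal.mem_span_singleton'.1 h3
    obtain ⟨s, rfl⟩ := Ideal.Quotient.mk_surjective sbar
    have h4 : r - s * x ∈ Q := by
      rw [← Ideal.Quotient.eq, map_mul]
      exact hs.symm
    have h5 : r = (r - s * x) + s * x := by ring
    rw [h5]
    exact Submodule.add_mem_sup h4 (Ideal.mem_span_singleton'.2 ⟨s, rfl⟩)
  obtain ⟨z, hz0, hz⟩ := exists_socle_quot R Q x hxm N hN' J hQJ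
  obtain ⟨r, s, hs⟩ := Module.Finite.exists_fin (R := R) (M := I)
  obtain ⟨φ, hφ⟩ := exists_nonzero_map R z hz0 hz r I s hs
  by_contra hnt
  rw [not_nontrivial_iff_subsingleton] at hnt
  have hreg : IsSMulRegular J x := by
    intro a b hab
    have h1 : x • (a - b) = 0 := by
      rw [smul_sub]
      exact sub_eq_zero.2 hab
    exact sub_eq_zero.1 (hx _ h1)
  have hS := (show IsSMulRegular (ModuleCat.of R J) x from hreg).smulShortComplex_shortExact
  have h0 : (Ext.mk₀ (ModuleCat.ofHom φ)).comp hS.extClass (zero_add 1) = 0 :=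
    @Subsingleton.elim _ hnt _ _
  obtain ⟨x₂, hx₂⟩ := Ext.covariant_sequence_exact₃ (ModuleCat.of R I) hS
    (Ext.mk₀ (ModuleCat.ofHom φ)) (zero_add 1) h0
  obtain ⟨ψ, rfl⟩ := (Ext.mk₀_bijective _ _).2 x₂
  rw [Ext.mk₀_comp_mk₀] at hx₂
  have h1 := (Ext.mk₀_bijective _ _).1 hx₂
  have hψ : ψ.hom = 0 := hom_eq_zero R P Q n hn x hxm hPI hQJ hx ψ.hom
  apply hφ
  have h2 : ModuleCat.ofHom φ = ψ ≫ (ModuleCat.smulShortComplex (ModuleCat.of R J) x).g :=
    h1.symm
  have h3 : φ = (ModuleCat.smulShortComplex (ModuleCat.of R J) x).g.hom ∘ₗ ψ.hom :=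
    congrArg ModuleCat.Hom.hom h2
  rw [h3, hψ, LinearMap.comp_zero]
  rfl

end Groth.Agent.Helper8.ExtNZ
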