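import Groth.Prelude.Def_W4c1extbt610Disp
import Groth.Agent.Helper8.DispBasis
import Mathlib.LinearAlgebra.ExteriorPower.Basis
import Mathlib.LinearAlgebra.Dimension.Finrank
import Mathlib.LinearAlgebra.FreeModule.Basic
import Mathlib.LinearAlgebra.Matrix.Determinant.Basic

set_option autoImplicit false

universe u v

namespace Groth.Agent.Helper8.ExtRank
open Set Set.powersetCard

theorem det_mem_of_col {A : Type*} [CommRing A] {n : ℕ} (J : Ideal A) (M : Matrix (Fin n) (Fin n) A)
    (j₀ : Fin n) (h : ∀ i, M i j₀ ∈ J) : M.det ∈ J := by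
  rw [Matrix.det_apply]
  refine Ideal.sum_mem _ fun σ _ => ?_
  have : ∏ i, M (σ i) i ∈ J := by
    have hd : M (σ j₀) j₀ ∣ ∏ i, M (σ i) i := Finset.dvd_prod_of_mem (fun i => M (σ i) i) (Finset.mem_univ j₀)
    exact Ideal.mem_of_dvd J hd (h _)
  exact Submodule.smul_of_tower_mem _ _ this

theorem card_mem {I : Type*} [Fintype I] [DecidableEq I] (t₀ : I) (n : ℕ) :
    Nat.card {s : powersetCard I (n + 1) // t₀ ∈ s} = (Fintype.card I - 1).choose n := by
  classical
  set F : Finset (Finset I) := (Finset.powersetCard (n + 1) (Finset.univ : Finset I)).filter (t₀ ∈ ·) with hF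
  have e : {s : powersetCard I (n + 1) // t₀ ∈ s} ≃ {s : Finset I // s ∈ F} :=
    { toFun := fun s => ⟨s.1.1, by
        rw [hF, Finset.mem_filter, Finset.mem_powersetCard]
        exact ⟨⟨Finset.subset_univ _, s.1.2⟩, s.2⟩⟩
      invFun := fun s => ⟨⟨s.1, (Finset.mem_powersetCard.mp (Finset.mem_filter.mp s.2).1).2⟩,
        (Finset.mem_filter.mp s.2).2⟩
      left_inv := fun s => rfl
      right_inv := fun s => rfl }
  rw [Nat.card_congr e, Nat.card_eq_fintype_card, Fintype.card_coe]
  have huniv : (Finset.univ : Finset I) = insert t₀ (Finset.univ.erase t₀) := by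
    rw [Finset.insert_erase (Finset.mem_univ _)]
  have hF2 : F = (Finset.powersetCard n (Finset.univ.erase t₀)).image (insert t₀) := by
    rw [hF, huniv, Finset.powersetCard_succ_insert (Finset.notMem_erase _ _), Finset.filter_union]
    have h1 : (Finset.powersetCard (n + 1) (Finset.univ.erase t₀)).filter (t₀ ∈ ·) = ∅ := by
      rw [Finset.filter_eq_empty_iff]
      intro s hs ht
      rw [Finset.mem_powersetCard] at hs
      exact Finset.notMem_erase _ _ (hs.1 ht)
    have h2 : ((Finset.powersetCard n (Finset.univ.erase t₀)).image (insert t₀)).filter (t₀ ∈ ·) =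
        (Finset.powersetCard n (Finset.univ.erase t₀)).image (insert t₀) := by
      rw [Finset.filter_eq_self]
      intro s hs
      rw [Finset.mem_image] at hs
      obtain ⟨s', _, rfl⟩ := hs
      exact Finset.mem_insert_self _ _
    rw [h1, h2, Finset.empty_union, ← huniv]
  rw [hF2, Finset.card_image_of_injOn, Finset.card_powersetCard, Finset.card_erase_of_mem (Finset.mem_univ _),
    Finset.card_univ]
  intro s hs s' hs' hss
  rw [Finset.mem_coe, Finset.mem_powersetCard] at hs hs'
  have h1 : t₀ ∉ s := fun h => Finset.notMem_erase _ _ (hs.1 h)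
  have h2 : t₀ ∉ s' := fun h => Finset.notMem_erase _ _ (hs'.1 h)
  have := congrArg (fun x => Finset.erase x t₀) hss
  simpa [Finset.erase_insert h1, Finset.erase_insert h2] using this


section Core

variable {p : ℕ} [Fact p.Prime] {R : Type u} [CommRing R] [Nontrivial R]
variable {P : Type v} [AddCommGroup P] [Module (WittVector p R) P]

open W4c1extbt610 in
theorem core (D : Display3n p R P) {I : Type} [LinearOrder I] [Fintype I]
    (b : Module.Basis I (WittVector p R) P) (t₀ : I) (L T : Submodule (WittVector p R) P)
    (hQ : D.Q = L ⊔ IV p R • T) (hbL : ∀ i, i ≠ t₀ → b i ∈ L) (hbT : b t₀ ∈ T)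
    (hcoordL : ∀ l ∈ L, b.coord t₀ l = 0) (n : ℕ)
    (E : Display3n p R (⋀[WittVector p R]^(n + 1) P)) (hE : IsExtPow D (n + 1) E) :
    ∃ L' T' : Submodule (WittVector p R) (⋀[WittVector p R]^(n + 1) P), IsCompl L' T' ∧
      E.Q = L' ⊔ IV p R • T' ∧ Module.Free (WittVector p R) T' ∧
      Module.finrank (WittVector p R) T' = (Fintype.card I - 1).choose n := by
  classical
  set B := b.exteriorPower (n + 1) with hB
  set S₂ : Set (powersetCard I (n + 1)) := {s | t₀ ∈ s} with hS₂
  set S₁ : Set (powersetCard I (n + 1)) := {s | t₀ ∉ s} with hS₁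
  have hcompl : IsCompl S₁ S₂ := by
    rw [show S₁ = S₂ᶜ from rfl]
    exact isCompl_compl.symm
  have hLQ : L ≤ D.Q := hQ ▸ le_sup_left
  have hTQ : IV p R • T ≤ D.Q := hQ ▸ le_sup_right
  -- coordinate `t₀` of elements of `Q`
  have hcoordQ : ∀ q ∈ D.Q, b.coord t₀ q ∈ IV p R := by
    intro q hq
    rw [hQ] at hq
    obtain ⟨l, hl, z, hz, rfl⟩ := Submodule.mem_sup.mp hq
    rw [map_add, hcoordL l hl, zero_add]
    refine Submodule.smul_induction_on hz ?_ ?_
    · intro a ha t _
      rw [map_smul, smul_eq_mul]
      exact Ideal.mul_mem_right _ _ ha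
    · intro x y hx hy
      rw [map_add]; exact add_mem hx hy
  refine ⟨Submodule.span _ (B '' S₁), Submodule.span _ (B '' S₂),
    B.linearIndependent.isCompl_span_image B.span_eq hcompl, ?_, ?_, ?_⟩
  · -- E.Q = L' ⊔ IV • T'
    apply le_antisymm
    · rw [hE.1, Submodule.span_le]
      rintro _ ⟨q, rfl⟩
      -- expand in the basis
      set y := exteriorPower.ιMulti (WittVector p R) (n + 1) (fun i => (q i : P)) with hy
      have hrepr : ∀ s ∈ S₂, B.repr y s ∈ IV p R := by
        intro s hs
        rw [hB, exteriorPower.basis_repr_apply, hy, exteriorPower.ιMultiDual_apply_ιMulti]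
        obtain ⟨j₀, hj₀⟩ := (mem_range_ofFinEmbEquiv_symm_iff_mem s t₀).mpr hs
        refine det_mem_of_col _ _ j₀ fun i => ?_
        rw [Matrix.of_apply, hj₀]
        exact hcoordQ _ (q i).2
      change y ∈ _
      rw [← B.linearCombination_repr y, Finsupp.linearCombination_apply]
      refine Submodule.sum_mem _ fun s _ => ?_
      by_cases hs : s ∈ S₂
      · exact Submodule.mem_sup_right (Submodule.smul_mem_smul (hrepr s hs)
          (Submodule.subset_span ⟨s, hs, rfl⟩))
      · exact Submodule.mem_sup_left (Submodule.smul_mem _ _ (Submodule.subset_span ⟨s, hs, rfl⟩))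
    · refine sup_le ?_ ?_
      · rw [Submodule.span_le]
        rintro _ ⟨s, hs, rfl⟩
        rw [hE.1, hB, exteriorPower.basis_apply]
        refine Submodule.subset_span ⟨fun i => ⟨b (ofFinEmbEquiv.symm s i), hLQ (hbL _ ?_)⟩, rfl⟩
        intro h
        apply hs
        rw [← h]
        exact (mem_range_ofFinEmbEquiv_symm_iff_mem s _).mp ⟨i, rfl⟩
      · rw [Submodule.smul_le]
        intro a ha y hy
        have hle : Submodule.span (WittVector p R) (B '' S₂) ≤
            Submodule.comap (LinearMap.lsmul (WittVector p R) _ a) E.Q := by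
          rw [Submodule.span_le]
          rintro _ ⟨s, hs, rfl⟩
          rw [SetLike.mem_coe, Submodule.mem_comap, LinearMap.lsmul_apply, hE.1, hB,
            exteriorPower.basis_apply]
          obtain ⟨j₀, hj₀⟩ := (mem_range_ofFinEmbEquiv_symm_iff_mem s t₀).mpr hs
          set v : Fin (n + 1) → P := fun i => b (ofFinEmbEquiv.symm s i) with hv
          have hmem : ∀ i, Function.update v j₀ (a • v j₀) i ∈ D.Q := by
            intro i
            by_cases hi : i = j₀
            · subst hi
              rw [Function.update_self, hv]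
              simp only
              rw [hj₀]
              exact hTQ (Submodule.smul_mem_smul ha hbT)
            · rw [Function.update_of_ne hi]
              refine hLQ (hbL _ ?_)
              intro h
              exact hi ((ofFinEmbEquiv.symm s).injective (h.trans hj₀.symm))
          have hupd : a • exteriorPower.ιMulti (WittVector p R) (n + 1) v =
              exteriorPower.ιMulti (WittVector p R) (n + 1) (Function.update v j₀ (a • v j₀)) := by
            rw [AlternatingMap.map_update_smul, Function.update_eq_self]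
          change a • exteriorPower.ιMulti (WittVector p R) (n + 1) v ∈ _
          rw [hupd]
          exact Submodule.subset_span ⟨fun i => ⟨_, hmem i⟩, rfl⟩
        exact hle hy
  · -- free
    have hli : LinearIndependent (WittVector p R) (fun s : S₂ => B s) :=
      B.linearIndependent.comp Subtype.val Subtype.val_injective
    have hrange : Set.range (fun s : S₂ => B s) = B '' S₂ := by
      ext x; simp
    rw [← hrange]
    exact Module.Free.of_basis (Module.Basis.span hli)
  · have hli : LinearIndependent (WittVector p R) (fun s : S₂ => B s) :=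
      B.linearIndependent.comp Subtype.val Subtype.val_injective
    have hrange : Set.range (fun s : S₂ => B s) = B '' S₂ := by
      ext x; simp
    rw [← hrange, Module.finrank_eq_nat_card_basis (Module.Basis.span hli)]
    exact card_mem t₀ n

end Core


section Main

variable {p : ℕ} [Fact p.Prime] {R : Type u} [CommRing R] [Nontrivial R]
variable {P : Type v} [AddCommGroup P] [Module (WittVector p R) P]

theorem main (D : W4c1extbt610.Display3n p R P) (m : ℕ)
    (L T : Submodule (WittVector p R) P) (hLT : IsCompl L T) (hQ : D.Q = L ⊔ W4c1extbt610.IV p R • T)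
    (hL : Module.Free (WittVector p R) L) (hLr : Module.finrank (WittVector p R) L = m)
    (hT : Nonempty (T ≃ₗ[WittVector p R] WittVector p R))
    (r : ℕ) (hr : 1 ≤ r) (E : W4c1extbt610.Display3n p R (⋀[WittVector p R]^r P))
    (hE : W4c1extbt610.IsExtPow D r E) :
    ∃ L' T' : Submodule (WittVector p R) (⋀[WittVector p R]^r P), IsCompl L' T' ∧
      E.Q = L' ⊔ W4c1extbt610.IV p R • T' ∧ Module.Free (WittVector p R) T' ∧
      Module.finrank (WittVector p R) T' = m.choose (r - 1) := by
  classical
  obtain ⟨n, rfl⟩ : ∃ n, r = n + 1 := ⟨r - 1, by omega⟩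
  have := D.finite
  have hfinL : Module.Finite (WittVector p R) L :=
    Module.Finite.of_surjective (L.projectionOnto T hLT) (Submodule.projectionOnto_surjective hLT)
  let bL : Module.Basis (Fin m) (WittVector p R) L := Module.finBasisOfFinrankEq (WittVector p R) L hLr
  obtain ⟨e⟩ := hT
  let bT : Module.Basis (Fin 1) (WittVector p R) T :=
    (Module.Basis.singleton (Fin 1) (WittVector p R)).map e.symm
  let b₀ : Module.Basis (Fin m ⊕ Fin 1) (WittVector p R) P :=
    (bL.prod bT).map (Submodule.prodEquivOfIsCompl L T hLT)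
  let b : Module.Basis (Fin m ⊕ₗ Fin 1) (WittVector p R) P := b₀.reindex toLex
  have hb_inl : ∀ j, b (toLex (Sum.inl j)) = (bL j : P) := by
    intro j
    simp [b, b₀, Submodule.coe_prodEquivOfIsCompl']
  have hb_inr : b (toLex (Sum.inr 0)) = (bT 0 : P) := by
    simp [b, b₀, Submodule.coe_prodEquivOfIsCompl']
  have hbL : ∀ i : Fin m ⊕ₗ Fin 1, i ≠ toLex (Sum.inr 0) → b i ∈ L := by
    intro i hi
    obtain ⟨i, rfl⟩ := toLex.surjective i
    cases i with
    | inl j => rw [hb_inl]; exact (bL j).2
    | inr k =>
      exfalso; apply hi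
      rw [Subsingleton.elim k 0]
  have hbT : b (toLex (Sum.inr 0)) ∈ T := by rw [hb_inr]; exact (bT 0).2
  have hspanL : L = Submodule.span (WittVector p R) (Set.range fun i => (bL i : P)) := by
    have := bL.span_eq
    have h2 := congrArg (Submodule.map L.subtype) this
    rw [Submodule.map_span, Submodule.map_top, Submodule.range_subtype, ← Set.range_comp] at h2
    exact h2.symm
  have hcoordL : ∀ l ∈ L, b.coord (toLex (Sum.inr 0)) l = 0 := by
    intro l hl
    have hle : L ≤ LinearMap.ker (b.coord (toLex (Sum.inr 0))) := by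
      refine hspanL.le.trans ?_
      rw [Submodule.span_le]
      rintro _ ⟨j, rfl⟩
      rw [SetLike.mem_coe, LinearMap.mem_ker]
      change b.coord (toLex (Sum.inr 0)) (bL j : P) = 0
      rw [← hb_inl, Module.Basis.coord_apply, Module.Basis.repr_self, Finsupp.single_eq_of_ne]
      simp
    exact hle hl
  have key := core D b (toLex (Sum.inr 0)) L T hQ hbL hbT hcoordL n E hE
  have hcard : Fintype.card (Fin m ⊕ₗ Fin 1) - 1 = m := by
    change Fintype.card (Fin m ⊕ Fin 1) - 1 = m
    simp
  rw [hcard] at key
  simpa using key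

end Main

end Groth.Agent.Helper8.ExtRank
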