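import Mathlib
import Groth.Agent.S5671
set_option autoImplicit false
universe u
open CategoryTheory Abelian

namespace Groth.Agent.Helper8.ExtRep

variable {A : Type u} [CommRing A]

section pb
variable {N₁ N₂ N₃ : Type u} [AddCommGroup N₁] [Module A N₁] [AddCommGroup N₂] [Module A N₂]
  [AddCommGroup N₃] [Module A N₃] {Y : ModuleCat.{u} A} {p : ℕ}

/-- pullback of Ext classes along a linear map -/
noncomputable def pb (u : N₁ →ₗ[A] N₂) (ξ : Ext (ModuleCat.of A N₂) Y p) :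
    Ext (ModuleCat.of A N₁) Y p :=
  (Ext.mk₀ (ModuleCat.ofHom u)).comp ξ (zero_add p)

lemma pb_comp (u : N₁ →ₗ[A] N₂) (v : N₂ →ₗ[A] N₃) (ξ : Ext (ModuleCat.of A N₃) Y p) :
    pb u (pb v ξ) = pb (v ∘ₗ u) ξ := by
  unfold pb
  rw [Ext.mk₀_comp_mk₀_assoc, ← ModuleCat.ofHom_comp]

lemma pb_add_map (u v : N₁ →ₗ[A] N₂) (ξ : Ext (ModuleCat.of A N₂) Y p) :
    pb (u + v) ξ = pb u ξ + pb v ξ := by
  unfold pb
  rw [ModuleCat.ofHom_add, Ext.mk₀_add, Ext.add_comp]

lemma pb_zero_map (ξ : Ext (ModuleCat.of A N₂) Y p) : pb (0 : N₁ →ₗ[A] N₂) ξ = 0 := by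
  unfold pb
  rw [ModuleCat.ofHom_zero, Ext.mk₀_zero, Ext.zero_comp]

lemma pb_smul_map (b : A) (u : N₁ →ₗ[A] N₂) (ξ : Ext (ModuleCat.of A N₂) Y p) :
    pb (b • u) ξ = b • pb u ξ := by
  unfold pb
  have h : ModuleCat.ofHom (b • u) = b • ModuleCat.ofHom u := rfl
  rw [h, Ext.mk₀_smul, Ext.smul_comp]

/-- `pb · ξ` as an additive map -/
noncomputable def pbAdd (ξ : Ext (ModuleCat.of A N₂) Y p) :
    (N₁ →ₗ[A] N₂) →+ Ext (ModuleCat.of A N₁) Y p where
  toFun u := pb u ξ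
  map_zero' := pb_zero_map ξ
  map_add' u v := pb_add_map u v ξ

lemma pb_sum_map {ι : Type} (s : Finset ι) (u : ι → (N₁ →ₗ[A] N₂))
    (ξ : Ext (ModuleCat.of A N₂) Y p) :
    pb (∑ k ∈ s, u k) ξ = ∑ k ∈ s, pb (u k) ξ := map_sum (pbAdd ξ) u s

lemma pb_id (ξ : Ext (ModuleCat.of A N₁) Y p) : pb (LinearMap.id) ξ = ξ := by
  unfold pb
  rw [ModuleCat.ofHom_id, Ext.mk₀_id_comp]

lemma pb_zero (u : N₁ →ₗ[A] N₂) : pb u (0 : Ext (ModuleCat.of A N₂) Y p) = 0 := by
  unfold pb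
  rw [Ext.comp_zero]

lemma pb_add (u : N₁ →ₗ[A] N₂) (ξ η : Ext (ModuleCat.of A N₂) Y p) :
    pb u (ξ + η) = pb u ξ + pb u η := by
  unfold pb
  rw [Ext.comp_add]

lemma pb_neg (u : N₁ →ₗ[A] N₂) (ξ : Ext (ModuleCat.of A N₂) Y p) :
    pb u (-ξ) = -pb u ξ := by
  unfold pb
  rw [Ext.comp_neg]

lemma pb_sum (u : N₁ →ₗ[A] N₂) {ι : Type} [Fintype ι] (ξ : ι → Ext (ModuleCat.of A N₂) Y p) :
    pb u (∑ k, ξ k) = ∑ k, pb u (ξ k) := by
  unfold pb
  rw [Ext.comp_sum]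

end pb

section quot
variable (J : Ideal A)

lemma R_killed (a : A) (ha : a ∈ J) (y : A ⧸ J) : a • y = 0 := by
  obtain ⟨c, rfl⟩ := Submodule.Quotient.mk_surjective J y
  have h1 : (Submodule.Quotient.mk (a • c) : A ⧸ J) = a • Submodule.Quotient.mk c :=
    Submodule.Quotient.mk_smul J a c
  have h2 : (Submodule.Quotient.mk (a • c) : A ⧸ J) = 0 := by
    rw [Submodule.Quotient.mk_eq_zero, smul_eq_mul]
    exact J.mul_mem_right c ha
  exact h1.symm.trans h2

lemma F_killed (n : ℕ) (a : A) (ha : a ∈ J) (v : Fin n → A ⧸ J) : a • v = 0 := by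
  funext i
  exact R_killed J a ha (v i)

lemma smul_one_R (b : A) : b • (1 : A ⧸ J) = Submodule.Quotient.mk b := by
  have h := (Submodule.Quotient.mk_smul J b (1 : A)).symm
  rw [smul_eq_mul, mul_one] at h
  exact h

variable {N : Type u} [AddCommGroup N] [Module A N]

/-- the map `A/J → N` sending `1` to `x`, for `N` killed by `J` -/
noncomputable def evR (hN : ∀ a ∈ J, ∀ m : N, a • m = 0) (x : N) : (A ⧸ J) →ₗ[A] N :=
  Submodule.liftQ J (LinearMap.toSpanSingleton A N x) (by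
    intro a ha
    rw [LinearMap.mem_ker, LinearMap.toSpanSingleton_apply]
    exact hN a ha x)

lemma evR_one (hN : ∀ a ∈ J, ∀ m : N, a • m = 0) (x : N) : evR J hN x (1 : A ⧸ J) = x := by
  show Submodule.liftQ J (LinearMap.toSpanSingleton A N x) _ (Submodule.Quotient.mk (1 : A)) = x
  rw [Submodule.liftQ_apply, LinearMap.toSpanSingleton_apply, one_smul]

lemma ext_R (u v : (A ⧸ J) →ₗ[A] N) (h : u 1 = v 1) : u = v := by
  apply Submodule.linearMap_qext
  apply LinearMap.ext_ring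
  exact h

lemma sum_single_proj (n : ℕ) :
    ∑ k : Fin n, (LinearMap.single A (fun _ : Fin n => A ⧸ J) k) ∘ₗ
      (LinearMap.proj k : (Fin n → A ⧸ J) →ₗ[A] A ⧸ J) = LinearMap.id := by
  apply LinearMap.ext
  intro v
  rw [LinearMap.sum_apply]
  exact Finset.univ_sum_single v

lemma exists_pres [Module.Finite A N] (hN : ∀ a ∈ J, ∀ m : N, a • m = 0) :
    ∃ (n : ℕ) (π : (Fin n → A ⧸ J) →ₗ[A] N), Function.Surjective π := by
  obtain ⟨n, s, hs⟩ := Module.Finite.exists_fin (R := A) (M := N)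
  refine ⟨n, ∑ k, (evR J hN (s k)) ∘ₗ
    (LinearMap.proj k : (Fin n → A ⧸ J) →ₗ[A] A ⧸ J), ?_⟩
  rw [← LinearMap.range_eq_top, eq_top_iff, ← hs, Submodule.span_le]
  rintro _ ⟨k, rfl⟩
  refine LinearMap.mem_range.2 ⟨Pi.single k 1, ?_⟩
  rw [LinearMap.sum_apply, Finset.sum_eq_single k]
  · rw [LinearMap.comp_apply, LinearMap.proj_apply, Pi.single_eq_same, evR_one]
  · intro l _ hl
    rw [LinearMap.comp_apply, LinearMap.proj_apply, Pi.single_eq_of_ne hl, map_zero]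
  · intro h
    exact absurd (Finset.mem_univ k) h

lemma decomp_w (n : ℕ) (w : (A ⧸ J) →ₗ[A] (Fin n → A ⧸ J)) :
    ∃ b : Fin n → A, w = ∑ k, b k • LinearMap.single A (fun _ : Fin n => A ⧸ J) k := by
  have hb : ∀ k, ∃ a : A, (Submodule.Quotient.mk a : A ⧸ J) = w 1 k :=
    fun k => Submodule.Quotient.mk_surjective J (w 1 k)
  choose b hb using hb
  refine ⟨b, ext_R J _ _ ?_⟩
  funext i
  rw [LinearMap.sum_apply, Finset.sum_apply, Finset.sum_eq_single i]
  · show w 1 i = b i • ((Pi.single i (1 : A ⧸ J) : Fin n → A ⧸ J) i)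
    rw [Pi.single_eq_same, smul_one_R, hb i]
  · intro k _ hk
    show b k • ((Pi.single k (1 : A ⧸ J) : Fin n → A ⧸ J) i) = 0
    rw [Pi.single_eq_of_ne (Ne.symm hk), smul_zero]
  · intro h
    exact absurd (Finset.mem_univ i) h

end quot

section left_exact
variable {F N : Type u} [AddCommGroup F] [Module A F] [AddCommGroup N] [Module A N]
  {Y : ModuleCat.{u} A}

lemma le2 (π : F →ₗ[A] N) (hπ : Function.Surjective π) {p : ℕ}
    (η : Ext (ModuleCat.of A F) Y p) (h : pb (LinearMap.ker π).subtype η = 0) :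
    ∃ ξ : Ext (ModuleCat.of A N) Y p, pb π ξ = η :=
  Ext.contravariant_sequence_exact₂ (LinearMap.shortExact_shortComplexKer hπ) Y η h

lemma le1 (π : F →ₗ[A] N) (hπ : Function.Surjective π) {p : ℕ}
    (hV : ∀ i < p, Subsingleton (Ext (ModuleCat.of A (LinearMap.ker π)) Y i))
    (ξ : Ext (ModuleCat.of A N) Y p) (h : pb π ξ = 0) : ξ = 0 := by
  have hT := LinearMap.shortExact_shortComplexKer hπ
  cases p with
  | zero =>
    haveI : Epi (π.shortComplexKer).g := hT.epi_g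
    have hinj := Ext.precomp_mk₀_injective_of_epi Y (π.shortComplexKer).g
    exact hinj (h.trans
      (map_zero ((Ext.mk₀ (π.shortComplexKer).g).precomp Y (zero_add 0))).symm)
  | succ i =>
    obtain ⟨x₁, hx₁⟩ := Ext.contravariant_sequence_exact₃ hT Y ξ h (Nat.add_comm 1 i)
    haveI := hV i (Nat.lt_succ_self i)
    rw [← hx₁, Subsingleton.elim x₁ 0, Ext.comp_zero]

end left_exact

section main
variable (J : Ideal A) {Y : ModuleCat.{u} A} {p : ℕ}

lemma detect (n : ℕ) (η : Ext (ModuleCat.of A (Fin n → A ⧸ J)) Y p)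
    (h : ∀ k, pb (LinearMap.single A (fun _ : Fin n => A ⧸ J) k) η = 0) : η = 0 := by
  have h1 : pb (∑ k : Fin n, (LinearMap.single A (fun _ : Fin n => A ⧸ J) k) ∘ₗ
      (LinearMap.proj k : (Fin n → A ⧸ J) →ₗ[A] A ⧸ J)) η = η := by
    rw [sum_single_proj, pb_id]
  rw [← h1, pb_sum_map]
  refine Finset.sum_eq_zero (fun k _ => ?_)
  rw [← pb_comp, h k, pb_zero]

lemma build (n : ℕ) (ζ : Fin n → Ext (ModuleCat.of A (A ⧸ J)) Y p) :
    ∃ η : Ext (ModuleCat.of A (Fin n → A ⧸ J)) Y p,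
      ∀ k, pb (LinearMap.single A (fun _ : Fin n => A ⧸ J) k) η = ζ k := by
  refine ⟨∑ l, pb (LinearMap.proj l : (Fin n → A ⧸ J) →ₗ[A] A ⧸ J) (ζ l), fun k => ?_⟩
  rw [pb_sum, Finset.sum_eq_single k]
  · rw [pb_comp, LinearMap.proj_comp_single_same, pb_id]
  · intro l _ hl
    rw [pb_comp, LinearMap.proj_comp_single_ne _ _ _ _ hl, pb_zero_map]
  · intro h
    exact absurd (Finset.mem_univ k) h

variable [IsNoetherianRing A]

theorem claim1
    (hV : ∀ (K : Type u) [AddCommGroup K] [Module A K] [Module.Finite A K],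
      (∀ a ∈ J, ∀ k : K, a • k = 0) → ∀ i < p, Subsingleton (Ext (ModuleCat.of A K) Y i))
    (N : Type u) [AddCommGroup N] [Module A N] [Module.Finite A N]
    (hN : ∀ a ∈ J, ∀ m : N, a • m = 0) (ξ : Ext (ModuleCat.of A N) Y p)
    (hξ : ∀ u : (A ⧸ J) →ₗ[A] N, pb u ξ = 0) : ξ = 0 := by
  obtain ⟨n, π, hπ⟩ := exists_pres J hN
  have hK : ∀ a ∈ J, ∀ k : LinearMap.ker π, a • k = 0 :=
    fun a ha k => Subtype.ext (F_killed J n a ha k.1)
  apply le1 π hπ (hV (LinearMap.ker π) hK) ξ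
  apply detect J n
  intro k
  rw [pb_comp]
  exact hξ _

theorem claim2
    (hV : ∀ (K : Type u) [AddCommGroup K] [Module A K] [Module.Finite A K],
      (∀ a ∈ J, ∀ k : K, a • k = 0) → ∀ i < p, Subsingleton (Ext (ModuleCat.of A K) Y i))
    (N : Type u) [AddCommGroup N] [Module A N] [Module.Finite A N]
    (hN : ∀ a ∈ J, ∀ m : N, a • m = 0)
    (g : ((A ⧸ J) →ₗ[A] N) →ₗ[A] Ext (ModuleCat.of A (A ⧸ J)) Y p) :
    ∃ ξ : Ext (ModuleCat.of A N) Y p, ∀ u : (A ⧸ J) →ₗ[A] N, g u = pb u ξ := by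
  obtain ⟨n, π, hπ⟩ := exists_pres J hN
  have hK : ∀ a ∈ J, ∀ k : LinearMap.ker π, a • k = 0 :=
    fun a ha k => Subtype.ext (F_killed J n a ha k.1)
  obtain ⟨η, hη⟩ := build J n
    (fun k => g (π ∘ₗ LinearMap.single A (fun _ : Fin n => A ⧸ J) k))
  have star : ∀ w : (A ⧸ J) →ₗ[A] (Fin n → A ⧸ J), pb w η = g (π ∘ₗ w) := by
    intro w
    obtain ⟨b, rfl⟩ := decomp_w J n w
    have hL : pb (∑ k, b k • LinearMap.single A (fun _ : Fin n => A ⧸ J) k) η =
        ∑ k, b k • g (π ∘ₗ LinearMap.single A (fun _ : Fin n => A ⧸ J) k) := by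
      rw [pb_sum_map]
      refine Finset.sum_congr rfl (fun k _ => ?_)
      rw [pb_smul_map, hη k]
    have hR : π ∘ₗ (∑ k, b k • LinearMap.single A (fun _ : Fin n => A ⧸ J) k) =
        ∑ k, b k • (π ∘ₗ LinearMap.single A (fun _ : Fin n => A ⧸ J) k) := by
      apply LinearMap.ext
      intro y
      simp only [LinearMap.comp_apply, LinearMap.sum_apply, LinearMap.smul_apply, map_sum,
        map_smul]
    rw [hL, hR, map_sum]
    refine Finset.sum_congr rfl (fun k _ => ?_)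
    rw [map_smul]
  have hj : pb (LinearMap.ker π).subtype η = 0 := by
    apply claim1 J hV (LinearMap.ker π) hK
    intro v
    rw [pb_comp, star]
    have h0 : π ∘ₗ ((LinearMap.ker π).subtype ∘ₗ v) = 0 := by
      apply LinearMap.ext
      intro y
      exact (v y).2
    rw [h0, map_zero]
  obtain ⟨ξ, hξ⟩ := le2 π hπ η hj
  refine ⟨ξ, fun u => ?_⟩
  obtain ⟨x, hx⟩ := hπ (u 1)
  have hF : ∀ a ∈ J, ∀ v : Fin n → A ⧸ J, a • v = 0 := F_killed J n
  have hw : π ∘ₗ evR J hF x = u :=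
    ext_R J _ _ (by rw [LinearMap.comp_apply, evR_one, hx])
  rw [← hw, ← star, ← hξ, pb_comp]

end main

lemma dim_bound (J : Ideal A) {p : ℕ} (hJ : ringKrullDim (A ⧸ J) + p ≤ ringKrullDim A)
    (N : Type u) [AddCommGroup N] [Module A N] [Module.Finite A N]
    (hN : ∀ a ∈ J, ∀ m : N, a • m = 0) :
    Module.supportDim A N + p ≤ ringKrullDim A := by
  have hle : J ≤ Module.annihilator A N := fun a ha => Module.mem_annihilator.2 (hN a ha)
  have h2 : ringKrullDim (A ⧸ Module.annihilator A N) ≤ ringKrullDim (A ⧸ J) :=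
    ringKrullDim_le_of_surjective (Ideal.Quotient.factor hle)
      (Ideal.Quotient.factor_surjective hle)
  rw [Module.supportDim_eq_ringKrullDim_quotient_annihilator]
  exact (add_le_add h2 le_rfl).trans hJ

theorem main (A : Type u) [CommRing A] [IsRegularLocalRing A] (p : ℕ) (J : Ideal A)
    (hJ : ringKrullDim (A ⧸ J) + p ≤ ringKrullDim A) (M : Type u) [AddCommGroup M]
    [Module A M] [Module.Finite A M] (hJM : J • (⊤ : Submodule A M) = ⊥) :
    Function.Injective (fun ξ : Abelian.Ext (ModuleCat.of A M) (ModuleCat.of A A) p =>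
      fun u : (A ⧸ J) →ₗ[A] M =>
        (Abelian.Ext.mk₀ (ModuleCat.ofHom u)).comp ξ (zero_add p)) ∧
    ∀ g : ((A ⧸ J) →ₗ[A] M) →ₗ[A] Abelian.Ext (ModuleCat.of A (A ⧸ J)) (ModuleCat.of A A) p,
      ∃ ξ : Abelian.Ext (ModuleCat.of A M) (ModuleCat.of A A) p,
        ∀ u : (A ⧸ J) →ₗ[A] M,
          g u = (Abelian.Ext.mk₀ (ModuleCat.ofHom u)).comp ξ (zero_add p) := by
  have hM : ∀ a ∈ J, ∀ m : M, a • m = 0 := by
    intro a ha m
    have h1 : a • m ∈ J • (⊤ : Submodule A M) :=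
      Submodule.smul_mem_smul ha Submodule.mem_top
    rw [hJM] at h1
    exact (Submodule.mem_bot A).1 h1
  have hV : ∀ (K : Type u) [AddCommGroup K] [Module A K] [Module.Finite A K],
      (∀ a ∈ J, ∀ k : K, a • k = 0) → ∀ i < p,
        Subsingleton (Ext (ModuleCat.of A K) (ModuleCat.of A A) i) := by
    intro K _ _ _ hK i hi
    exact Groth.Agent.S5671.result A K p (dim_bound J hJ K hK) i hi
  refine ⟨?_, fun g => claim2 J hV M hM g⟩
  intro ξ₁ ξ₂ h
  have h0 : ξ₁ + -ξ₂ = 0 := by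
    apply claim1 J hV M hM
    intro u
    have hu : pb u ξ₁ = pb u ξ₂ := congrFun h u
    rw [pb_add, pb_neg, hu, add_neg_cancel]
  exact add_neg_eq_zero.1 h0

end Groth.Agent.Helper8.ExtRep
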