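import Mathlib

/-!
# Extension of scalars in `ModuleCat` versus the tensor product, and descent of finite projective
modules along a faithfully flat ring map

The bridge `extendScalarsEquiv` follows Helper1's `FlatCxDRank`.
-/

set_option autoImplicit false
set_option linter.unusedSectionVars false
set_option linter.unusedVariables false

universe u

open TensorProduct

noncomputable section

namespace Groth.Agent.Helper8.ExtScBridge

section Bridge

variable {R S : Type u} [CommRing R] [CommRing S] [Algebra R S]

/-- `S` as a restricted module is `S`. -/
def restrictSelfEquiv (R S : Type u) [CommRing R] [CommRing S] [Algebra R S] :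
    ((ModuleCat.restrictScalars (algebraMap R S)).obj (ModuleCat.of S S)) ≃ₗ[R] S :=
  { toFun := fun s => s
    invFun := fun s => s
    map_add' := fun _ _ => rfl
    map_smul' := fun r s => by
      rw [ModuleCat.restrictScalars.smul_def]
      exact (Algebra.smul_def (A := S) r s).symm
    left_inv := fun _ => rfl
    right_inv := fun _ => rfl }

/-- auxiliary `R`-linear equivalence. -/
def extendScalarsEquivAux (M : ModuleCat.{u} R) :
    (((ModuleCat.restrictScalars (algebraMap R S)).obj (ModuleCat.of S S)) ⊗[R] M) ≃ₗ[R]
      S ⊗[R] M :=
  TensorProduct.congr (restrictSelfEquiv R S) (LinearEquiv.refl R M)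

lemma extendScalarsEquivAux_smul (M : ModuleCat.{u} R) (s : S)
    (x : (ModuleCat.extendScalars (algebraMap R S)).obj M) :
    extendScalarsEquivAux M (s • x) = s • extendScalarsEquivAux M x := by
  refine TensorProduct.induction_on (motive := fun x => extendScalarsEquivAux M
    (@HSMul.hSMul S ((ModuleCat.extendScalars (algebraMap R S)).obj M) _ _ s x) =
      s • extendScalarsEquivAux M x) x ?_ ?_ ?_
  · refine (congrArg (extendScalarsEquivAux M)
      (smul_zero (A := ((ModuleCat.extendScalars (algebraMap R S)).obj M)) s)).trans ?_
    exact (map_zero (extendScalarsEquivAux M)).trans ((smul_zero s).symm.trans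
      (congrArg (s • ·) (map_zero (extendScalarsEquivAux M)).symm))
  · intro s' m
    refine (congrArg (extendScalarsEquivAux M)
      (ModuleCat.ExtendScalars.smul_tmul (f := algebraMap R S) s s' m)).trans ?_
    simp only [extendScalarsEquivAux, TensorProduct.congr_tmul, LinearEquiv.refl_apply]
    rw [TensorProduct.smul_tmul']
    rfl
  · intro a b ha hb
    refine (congrArg (extendScalarsEquivAux M)
      (smul_add (A := ((ModuleCat.extendScalars (algebraMap R S)).obj M)) s a b)).trans ?_
    refine (map_add (extendScalarsEquivAux M) _ _).trans ?_
    refine (congrArg₂ (· + ·) ha hb).trans ?_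
    rw [← smul_add, ← map_add]

/-- `(extendScalars (algebraMap R S)).obj M` is `S ⊗[R] M`. -/
def extendScalarsEquiv (M : ModuleCat.{u} R) :
    ((ModuleCat.extendScalars (algebraMap R S)).obj M) ≃ₗ[S] S ⊗[R] M :=
  { toFun := fun x => extendScalarsEquivAux M x
    invFun := fun y => (extendScalarsEquivAux M).symm y
    left_inv := fun x => (extendScalarsEquivAux M).symm_apply_apply x
    right_inv := fun y => (extendScalarsEquivAux M).apply_symm_apply y
    map_add' := fun x y => map_add (extendScalarsEquivAux M) x y
    map_smul' := fun s x => extendScalarsEquivAux_smul M s x }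

end Bridge

section Descent

variable (R S : Type u) [CommRing R] [CommRing S] [Algebra R S] [Module.FaithfullyFlat R S]
variable (M : Type u) [AddCommGroup M] [Module R M]

/-- finite presentation descends along faithfully flat maps (for modules whose base change is
finite projective) -/
theorem finitePresentation_of_baseChange [Module.Finite S (S ⊗[R] M)]
    [Module.Projective S (S ⊗[R] M)] : Module.FinitePresentation R M := by
  haveI : Module.Finite R M := Module.Finite.of_finite_tensorProduct_of_faithfullyFlat S
  obtain ⟨k, π, hπ⟩ := Module.Finite.exists_fin' R M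
  -- the kernel
  let K := LinearMap.ker π
  have hex : Function.Exact K.subtype π := by
    intro x
    constructor
    · intro hx
      exact ⟨⟨x, hx⟩, rfl⟩
    · rintro ⟨y, rfl⟩
      exact y.2
  have hexS : Function.Exact (LinearMap.lTensor S K.subtype) (LinearMap.lTensor S π) :=
    Module.Flat.lTensor_exact S hex
  have hinjS : Function.Injective (LinearMap.lTensor S K.subtype) :=
    Module.Flat.lTensor_preserves_injective_linearMap K.subtype K.injective_subtype
  -- the `S`-linear versions
  let πS : S ⊗[R] (Fin k → R) →ₗ[S] S ⊗[R] M := TensorProduct.AlgebraTensorModule.lTensor S S π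
  let ιS : S ⊗[R] K →ₗ[S] S ⊗[R] (Fin k → R) :=
    TensorProduct.AlgebraTensorModule.lTensor S S K.subtype
  have hπS : Function.Surjective πS := by
    have : Function.Surjective (LinearMap.lTensor S π) := LinearMap.lTensor_surjective S hπ
    exact this
  haveI : Module.FinitePresentation S (S ⊗[R] M) := Module.finitePresentation_of_projective S _
  have hker : (LinearMap.ker πS).FG := Module.FinitePresentation.fg_ker πS hπS
  have hιS : Function.Injective ιS := hinjS
  have hrange : LinearMap.range ιS = LinearMap.ker πS := by
    ext x
    constructor
    · rintro ⟨y, rfl⟩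
      exact (hexS _).mpr ⟨y, rfl⟩
    · intro hx
      obtain ⟨y, hy⟩ := (hexS x).mp hx
      exact ⟨y, hy⟩
  haveI : Module.Finite S (S ⊗[R] K) := by
    have e : (S ⊗[R] K) ≃ₗ[S] LinearMap.range ιS := LinearEquiv.ofInjective ιS hιS
    have : Module.Finite S (LinearMap.range ιS) := by
      rw [hrange]
      exact Module.Finite.of_fg hker
    exact Module.Finite.equiv e.symm
  haveI : Module.Finite R K := Module.Finite.of_finite_tensorProduct_of_faithfullyFlat S
  exact Module.finitePresentation_of_free_of_surjective π hπ (Module.Finite.fg_top (R := R) (M := K) |>
    fun h => by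
      have := Submodule.FG.map K.subtype h
      rwa [Submodule.map_top, Submodule.range_subtype] at this)

/-- finite projective modules descend along faithfully flat maps -/
theorem projective_of_baseChange [Module.Finite S (S ⊗[R] M)]
    [Module.Projective S (S ⊗[R] M)] : Module.Finite R M ∧ Module.Projective R M := by
  haveI : Module.Finite R M := Module.Finite.of_finite_tensorProduct_of_faithfullyFlat S
  haveI := finitePresentation_of_baseChange R S M
  haveI : Module.Flat R M := Module.Flat.of_flat_tensorProduct R M S
  exact ⟨inferInstance, Module.Flat.projective_of_finitePresentation⟩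

/-- the `ModuleCat` version -/
theorem projective_of_extendScalars (M : ModuleCat.{u} R)
    [Module.Finite S ((ModuleCat.extendScalars.{u,u,u} (algebraMap R S)).obj M)]
    [Module.Projective S ((ModuleCat.extendScalars.{u,u,u} (algebraMap R S)).obj M)] :
    Module.Finite R M ∧ Module.Projective R M := by
  haveI : Module.Finite S (S ⊗[R] M) := Module.Finite.equiv (extendScalarsEquiv (S := S) M)
  haveI : Module.Projective S (S ⊗[R] M) :=
    Module.Projective.of_equiv (extendScalarsEquiv (S := S) M)
  exact projective_of_baseChange R S M

end Descent

end Groth.Agent.Helper8.ExtScBridge
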