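import Groth.Agent.Helper8.FEtClopen
import Groth.Agent.Helper4.GeomConnSch
import Groth.Agent.Helper1.FinCondTop

/-!
# Applications of the clopen criterion
-/

set_option autoImplicit false
universe u

namespace Groth.Agent.Helper8.FEtClopen

open CategoryTheory CategoryTheory.Limits AlgebraicGeometry Opposite TopologicalSpace

/-- connected geometric fibres over algebraically closed fields give geometric connectedness -/
theorem geometricallyConnected_of_algClosed {X S : Scheme.{u}} (f : X ⟶ S)
    (hfib : ∀ (Ω : Type u) [Field Ω] [IsAlgClosed Ω] (s : Spec (CommRingCat.of Ω) ⟶ S),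
      ConnectedSpace ↥(pullback f s)) : GeometricallyConnected f := by
  refine ⟨fun K _ y Z fst snd hpb => ?_⟩
  show ConnectedSpace ↥Z
  let j : Spec (CommRingCat.of (AlgebraicClosure K)) ⟶ Spec (CommRingCat.of K) :=
    Spec.map (CommRingCat.ofHom (algebraMap K (AlgebraicClosure K)))
  haveI : Subsingleton ↥(Spec (CommRingCat.of K)) :=
    inferInstanceAs (Subsingleton (PrimeSpectrum K))
  haveI : Nonempty ↥(Spec (CommRingCat.of (AlgebraicClosure K))) :=
    inferInstanceAs (Nonempty (PrimeSpectrum (AlgebraicClosure K)))
  haveI : Surjective j := ⟨fun x => ⟨Classical.arbitrary _, Subsingleton.elim _ _⟩⟩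
  have hpaste : IsPullback (pullback.fst snd j ≫ fst) (pullback.snd snd j) f (j ≫ y) :=
    (IsPullback.of_hasPullback snd j).paste_horiz hpb
  haveI : ConnectedSpace ↥(pullback f (j ≫ y)) := hfib (AlgebraicClosure K) (j ≫ y)
  haveI : ConnectedSpace ↥(pullback snd j) :=
    hpaste.isoPullback.hom.homeomorph.connectedSpace_iff.mpr inferInstance
  exact (pullback.fst snd j).surjective.connectedSpace (pullback.fst snd j).continuous

/-- S0264 -/
theorem main_of_algClosed_fibres {X S : Scheme.{u}} (f : X ⟶ S) [Flat f]
    [LocallyOfFinitePresentation f]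
    (hfib : ∀ (Ω : Type u) [Field Ω] [IsAlgClosed Ω] (s : Spec (CommRingCat.of Ω) ⟶ S),
      ConnectedSpace ↥(pullback f s)) :
    (FEt.restrict f).Full ∧ (FEt.restrict f).Faithful := by
  haveI := geometricallyConnected_of_algClosed f hfib
  exact main_of_geometricallyConnected f

/-- S0268 -/
theorem main_over_field (k : Type u) [Field k] {X : Scheme.{u}} (f : X ⟶ Spec (CommRingCat.of k))
    [ConnectedSpace ↥(pullback f
      (Spec.map (CommRingCat.ofHom (algebraMap k (AlgebraicClosure k)))))] :
    (FEt.restrict f).Full ∧ (FEt.restrict f).Faithful := by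
  haveI : ConnectedSpace ↥(pullback f
      (Spec.map (CommRingCat.ofHom (algebraMap k (SeparableClosure k))))) :=
    (Groth.Agent.Helper4.GeomConnSch.bcMap_surjective f (SeparableClosure k)
      (AlgebraicClosure k)).connectedSpace
      (Groth.Agent.Helper4.GeomBC.bcMap f (SeparableClosure k) (AlgebraicClosure k)).continuous
  haveI := Groth.Agent.Helper4.GeomConnSch.geometricallyConnected_of_sepClosure f
  haveI : UniversallyOpen f := Groth.Agent.Helper4.GeomConnSch.universallyOpen_to_field f
  exact main_of_geometricallyConnected f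

section noeth

/-- a continuous map inducing a bijection on connected components, with target having open
connected components: clopen subsets of the source descend -/
theorem exists_clopen_of_bijective {A B : Type u} [TopologicalSpace A] [TopologicalSpace B]
    {φ : A → B} (hφ : Continuous φ) (hbij : Function.Bijective hφ.connectedComponentsMap)
    (hB : ∀ b : B, IsOpen (connectedComponent b)) (T₀ : Set A) (hT₀ : IsClopen T₀) :
    ∃ T : Set B, IsClopen T ∧ φ ⁻¹' T = T₀ := by
  haveI : DiscreteTopology (ConnectedComponents B) :=
    ConnectedComponents.discreteTopology_iff.mpr hB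
  let Q : Set (ConnectedComponents B) :=
    hφ.connectedComponentsMap '' ((ConnectedComponents.mk : A → _) '' T₀)
  refine ⟨(ConnectedComponents.mk : B → _) ⁻¹' Q,
    (isClopen_discrete Q).preimage ConnectedComponents.continuous_coe, ?_⟩
  apply Set.Subset.antisymm
  · rintro z' ⟨_, ⟨z, hz, rfl⟩, hzz'⟩
    have h1 : hφ.connectedComponentsMap (ConnectedComponents.mk z) =
        hφ.connectedComponentsMap (ConnectedComponents.mk z') := hzz'
    have h2 := hbij.1 h1
    have h3 : connectedComponent z = connectedComponent z' :=
      ConnectedComponents.coe_eq_coe.mp h2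
    have h4 : connectedComponent z ⊆ T₀ := hT₀.connectedComponent_subset hz
    exact h4 (h3 ▸ mem_connectedComponent)
  · intro z hz
    exact ⟨_, ⟨z, hz, rfl⟩, rfl⟩

/-- S14461 -/
theorem main_of_connectedComponents {X X₀ : Scheme.{u}} [IsNoetherian X] (i : X₀ ⟶ X)
    (h : ∀ Y : FEt.Cat X,
      Function.Bijective (pullback.fst Y.hom i).continuous.connectedComponentsMap) :
    (FEt.restrict i).Full ∧ (FEt.restrict i).Faithful := by
  refine main (f := i) ?_ ?_
  · intro Y hY _ _ C hC hCX
    let Y' : FEt.Cat X := MorphismProperty.Over.mk ⊤ hY ⟨inferInstance, inferInstance⟩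
    have hb := h Y'
    ext y
    constructor
    · intro hy
      obtain ⟨zc, hzc⟩ := hb.2 (ConnectedComponents.mk y)
      obtain ⟨z, rfl⟩ := ConnectedComponents.surjective_coe zc
      have h1 : connectedComponent (pullback.fst hY i z) = connectedComponent y :=
        ConnectedComponents.coe_eq_coe.mp hzc
      have h2 : pullback.fst hY i z ∈ C := by
        have h3 : connectedComponent y ⊆ C := hC.connectedComponent_subset hy
        apply h3
        rw [← h1]
        exact mem_connectedComponent
      have : z ∈ (pullback.fst hY i) ⁻¹' C := h2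
      rw [hCX] at this
      exact this.elim
    · intro hy
      exact hy.elim
  · intro W P q _ _ p1 p2 H T₀ hT₀
    let W' : FEt.Cat X := MorphismProperty.Over.mk ⊤ q ⟨inferInstance, inferInstance⟩
    have hb := h W'
    haveI : LocallyOfFiniteType q := inferInstance
    haveI : IsLocallyNoetherian W := LocallyOfFiniteType.isLocallyNoetherian q
    haveI : CompactSpace W := QuasiCompact.compactSpace_of_compactSpace q
    haveI : IsNoetherian W := { }
    have hopen : ∀ w : W, IsOpen (connectedComponent w) :=
      fun w => Groth.Agent.Helper1.FinCondTop.isOpen_connectedComponent_of_noetherian w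
    let e := H.isoPullback
    have he : e.hom ≫ pullback.fst q i = p1 := H.isoPullback_hom_fst
    have hT₀' : IsClopen (e.inv ⁻¹' T₀) := hT₀.preimage e.inv.continuous
    obtain ⟨T, hT, hTT⟩ := exists_clopen_of_bijective (pullback.fst q i).continuous hb hopen
      (e.inv ⁻¹' T₀) hT₀'
    refine ⟨T, hT, ?_⟩
    ext z
    have h1 : p1 z = pullback.fst q i (e.hom z) := by
      rw [← he, Scheme.Hom.comp_apply]
    have h2 : e.inv (e.hom z) = z := by
      rw [← Scheme.Hom.comp_apply, e.hom_inv_id]
      rfl
    constructor
    · intro hz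
      have h3 : e.hom z ∈ (pullback.fst q i) ⁻¹' T := by
        show pullback.fst q i (e.hom z) ∈ T
        rw [← h1]
        exact hz
      rw [hTT] at h3
      have h4 : e.inv (e.hom z) ∈ T₀ := h3
      rwa [h2] at h4
    · intro hz
      have h3 : e.hom z ∈ e.inv ⁻¹' T₀ := by
        show e.inv (e.hom z) ∈ T₀
        rwa [h2]
      rw [← hTT] at h3
      show p1 z ∈ T
      rw [h1]
      exact h3

end noeth

end Groth.Agent.Helper8.FEtClopen
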