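import Groth.Agent.Helper8.FEtClopen
import Groth.Agent.Helper2.OlivE
import Groth.Agent.Helper1.HensStrictTransfer

/-!
# Restriction of finite étale covers to a dense open: topological preliminaries

Pure topology / prime spectrum lemmas used for the "connected at infinity" criteria.
-/

set_option autoImplicit false
universe u
open AlgebraicGeometry CategoryTheory CategoryTheory.Limits IsLocalRing

namespace Groth.Agent.Helper8.FEtDense

/-- a nonempty closed subset of a sober space has a point minimal for generization -/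
theorem exists_minimal_of_isClosed {α : Type*} [TopologicalSpace α] [QuasiSober α] [T0Space α]
    {F : Set α} (hF : IsClosed F) (hne : F.Nonempty) :
    ∃ w ∈ F, ∀ y ∈ F, y ⤳ w → y = w := by
  obtain ⟨w0, hw0⟩ := hne
  haveI : QuasiSober F := hF.isClosedEmbedding_subtypeVal.quasiSober
  let Z : Set F := irreducibleComponent (⟨w0, hw0⟩ : F)
  have hZirr : IsIrreducible Z := isIrreducible_irreducibleComponent
  have hZcl : IsClosed Z := isClosed_irreducibleComponent
  obtain ⟨ζ, hζ⟩ := QuasiSober.sober hZirr hZcl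
  refine ⟨ζ.1, ζ.2, fun y hy hyζ => ?_⟩
  have hyζ' : (⟨y, hy⟩ : F) ⤳ ζ := (subtype_specializes_iff _ _).2 hyζ
  have hsub : Z ⊆ closure {(⟨y, hy⟩ : F)} := by
    have h1 : closure {ζ} = Z := hζ
    rw [← h1]
    exact hyζ'.closure_subset
  have hirr : IsPreirreducible (closure {(⟨y, hy⟩ : F)}) :=
    (isIrreducible_singleton.closure).isPreirreducible
  have heq : closure {(⟨y, hy⟩ : F)} = Z := eq_irreducibleComponent hirr hsub
  have h2 : IsGenericPoint (⟨y, hy⟩ : F) Z := heq
  have h3 : (⟨y, hy⟩ : F) = ζ := h2.eq hζ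
  exact congrArg Subtype.val h3

/-- the connectedness contradiction -/
theorem false_of_connected {W : Type*} [TopologicalSpace W] {V : Type*} [TopologicalSpace V]
    (φ : V → W) (hφ : Continuous φ) (c : V) (w : W)
    (hrange : ∀ y, y ⤳ w → ∃ p, φ p = y)
    (hc : ∀ p, φ p = w → p = c) (hcw : φ c = w) (hgen : ∀ p, φ p ⤳ w)
    (hconn : IsPreconnected ({c}ᶜ : Set V))
    (TA TB : Set W) (hTA : IsClosed TA) (hTB : IsClosed TB) (hcov : TA ∪ TB = Set.univ)
    (hmin : ∀ y, y ∈ TA → y ∈ TB → y ⤳ w → y = w)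
    (a : W) (ha : a ∈ TA) (haw : a ⤳ w) (hane : a ≠ w)
    (b : W) (hb : b ∈ TB) (hbw : b ⤳ w) (hbne : b ≠ w) : False := by
  obtain ⟨pa, hpa⟩ := hrange a haw
  obtain ⟨pb, hpb⟩ := hrange b hbw
  have hpa' : pa ∈ ({c}ᶜ : Set V) := by
    intro h
    apply hane
    rw [← hpa, Set.mem_singleton_iff.1 h, hcw]
  have hpb' : pb ∈ ({c}ᶜ : Set V) := by
    intro h
    apply hbne
    rw [← hpb, Set.mem_singleton_iff.1 h, hcw]
  obtain ⟨p, hp, hp1, hp2⟩ := isPreconnected_closed_iff.1 hconn (φ ⁻¹' TA) (φ ⁻¹' TB)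
    (hTA.preimage hφ) (hTB.preimage hφ)
    (fun p _ => by
      have h : φ p ∈ TA ∪ TB := by rw [hcov]; exact Set.mem_univ _
      exact h)
    ⟨pa, hpa', by show φ pa ∈ TA; rw [hpa]; exact ha⟩
    ⟨pb, hpb', by show φ pb ∈ TB; rw [hpb]; exact hb⟩
  have h := hmin (φ p) hp1 hp2 (hgen p)
  exact hp (hc p h)

/-- closure of a basic open in a prime spectrum consists of specializations -/
theorem basicOpen_specializes {C : Type*} [CommRing C] (g : C) {p : PrimeSpectrum C}
    (hp : p ∈ closure (PrimeSpectrum.basicOpen g : Set (PrimeSpectrum C))) :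
    ∃ a ∈ (PrimeSpectrum.basicOpen g : Set (PrimeSpectrum C)), a ⤳ p := by
  let f := algebraMap C (Localization.Away g)
  rw [← PrimeSpectrum.localization_away_comap_range (Localization.Away g) g,
    PrimeSpectrum.closure_range_comap] at hp
  have hle : RingHom.ker f ≤ p.asIdeal := by
    rw [PrimeSpectrum.mem_zeroLocus] at hp
    exact hp
  obtain ⟨q, hq, hqp⟩ := Ideal.exists_minimalPrimes_le hle
  have hq' : q ∈ ((⊥ : Ideal (Localization.Away g)).comap f).minimalPrimes := hq
  obtain ⟨q', hq'prime, -, hq'c⟩ := Ideal.exists_comap_eq_of_mem_minimalPrimes f q hq'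
  refine ⟨PrimeSpectrum.comap f ⟨q', hq'prime⟩, ?_, ?_⟩
  · rw [← PrimeSpectrum.localization_away_comap_range (Localization.Away g) g]
    exact ⟨_, rfl⟩
  · rw [← PrimeSpectrum.le_iff_specializes]
    show q'.comap f ≤ p.asIdeal
    rw [hq'c]
    exact hqp

/-- closure of a quasi-compact open in a prime spectrum consists of specializations -/
theorem primeSpectrum_specializes {C : Type*} [CommRing C] {A' : Set (PrimeSpectrum C)}
    (hA : IsOpen A') (hc : IsCompact A') {p : PrimeSpectrum C} (hp : p ∈ closure A') :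
    ∃ a ∈ A', a ⤳ p := by
  obtain ⟨t, rfl⟩ := PrimeSpectrum.isCompact_isOpen_iff.1 ⟨hc, hA⟩
  have h1 : ((PrimeSpectrum.zeroLocus (t : Set C))ᶜ : Set (PrimeSpectrum C)) =
      ⋃ g ∈ t, (PrimeSpectrum.basicOpen g : Set (PrimeSpectrum C)) := by
    ext x
    simp only [Set.mem_compl_iff, PrimeSpectrum.mem_zeroLocus, Set.subset_def, Set.mem_iUnion,
      SetLike.mem_coe, PrimeSpectrum.mem_basicOpen, not_forall, exists_prop]
  rw [h1, Finset.closure_biUnion] at hp
  obtain ⟨g, hg, hpg⟩ := Set.mem_iUnion₂.1 hp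
  obtain ⟨a, ha, hap⟩ := basicOpen_specializes g hpg
  refine ⟨a, ?_, hap⟩
  rw [h1]
  exact Set.mem_iUnion₂.2 ⟨g, hg, ha⟩

/-- closure of a retrocompact open in a scheme consists of specializations -/
theorem exists_specializes_of_retrocompact {W : Scheme.{u}} {A : Set W} (hA : IsOpen A)
    (hqc : ∀ N : W.Opens, IsAffineOpen N → IsCompact (A ∩ N))
    {w : W} (hw : w ∈ closure A) : ∃ a ∈ A, a ⤳ w := by
  obtain ⟨N, hN, hwN⟩ : ∃ N : W.Opens, IsAffineOpen N ∧ w ∈ N := by
    obtain ⟨_, ⟨N, hN, rfl⟩, hwN, -⟩ :=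
      W.isBasis_affineOpens.exists_subset_of_mem_open (Set.mem_univ w) isOpen_univ
    exact ⟨N, hN, hwN⟩
  have hψ : Topology.IsOpenEmbedding hN.fromSpec := hN.fromSpec.isOpenEmbedding
  have hrange : Set.range hN.fromSpec = N := hN.range_fromSpec
  obtain ⟨p, rfl⟩ : w ∈ Set.range hN.fromSpec := by rw [hrange]; exact hwN
  have hp : p ∈ closure (hN.fromSpec ⁻¹' A) :=
    hψ.isOpenMap.preimage_closure_subset_closure_preimage hw
  have hcomp : IsCompact (hN.fromSpec ⁻¹' A) := by
    have h1 : hN.fromSpec ⁻¹' A = hN.fromSpec ⁻¹' (A ∩ N) := by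
      ext z
      constructor
      · intro hz
        refine ⟨hz, ?_⟩
        have : hN.fromSpec z ∈ Set.range hN.fromSpec := ⟨z, rfl⟩
        rw [hrange] at this
        exact this
      · intro hz
        exact hz.1
    rw [h1, hψ.isInducing.isCompact_preimage_iff (by rw [hrange]; exact Set.inter_subset_right)]
    exact hqc N hN
  obtain ⟨a, ha, hap⟩ := primeSpectrum_specializes (hA.preimage hN.fromSpec.continuous) hcomp hp
  exact ⟨hN.fromSpec a, ha, hap.map hN.fromSpec.continuous⟩

/-- closure of an open consists of specializations, near a point with a neighbourhood having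
finitely many "generic points" -/
theorem exists_specializes_of_finite_gen {W : Type*} [TopologicalSpace W] {A : Set W}
    (hA : IsOpen A) {w : W} (hw : w ∈ closure A) (N : Set W) (hN : IsOpen N) (hwN : w ∈ N)
    (G : Set W) (hG : G.Finite) (hGN : ∀ n ∈ N, ∃ g ∈ G, g ⤳ n) : ∃ a ∈ A, a ⤳ w := by
  let K : Set W := ⋃ g ∈ G ∩ A, closure {g}
  have hK : IsClosed K := (hG.inter_of_left A).isClosed_biUnion (fun g _ => isClosed_closure)
  have hsub : N ∩ A ⊆ K := by
    rintro a ⟨haN, haA⟩
    obtain ⟨g, hg, hga⟩ := hGN a haN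
    exact Set.mem_biUnion ⟨hg, hga.mem_open hA haA⟩ (specializes_iff_mem_closure.1 hga)
  have hwK : w ∈ K := (hK.closure_subset_iff.2 hsub) (hN.inter_closure ⟨hwN, hw⟩)
  obtain ⟨g, ⟨_, hgA⟩, hgw⟩ := Set.mem_iUnion₂.1 hwK
  exact ⟨g, hgA, specializes_iff_mem_closure.2 hgw⟩

/-- a space with finitely many irreducible components has a finite set of points generizing
everything -/
theorem exists_finite_gen_of_irreducibleComponents {α : Type*} [TopologicalSpace α] [QuasiSober α]
    [T0Space α] (h : (irreducibleComponents α).Finite) :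
    ∃ G : Set α, G.Finite ∧ ∀ v : α, ∃ g ∈ G, g ⤳ v := by
  let G : Set α := {x | closure {x} ∈ irreducibleComponents α}
  have hGfin : G.Finite := by
    apply Set.Finite.of_finite_image (f := fun x : α => closure ({x} : Set α))
    · exact h.subset (by rintro _ ⟨x, hx, rfl⟩; exact hx)
    · intro x _ y _ hxy
      have h1 : IsGenericPoint x (closure {y}) := hxy
      have h2 : IsGenericPoint y (closure {y}) := rfl
      exact h1.eq h2
  refine ⟨G, hGfin, fun v => ?_⟩
  obtain ⟨ζ, hζ⟩ := QuasiSober.sober (isIrreducible_irreducibleComponent (x := v))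
    isClosed_irreducibleComponent
  have h1 : closure {ζ} = irreducibleComponent v := hζ
  refine ⟨ζ, ?_, ?_⟩
  · show closure {ζ} ∈ irreducibleComponents α
    rw [h1]
    exact irreducibleComponent_mem_irreducibleComponents v
  · rw [specializes_iff_mem_closure, h1]
    exact mem_irreducibleComponent

end Groth.Agent.Helper8.FEtDense
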