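import Mathlib
import Groth.Prelude.Def_Desc

/-!
# Faithfully flat descent for modules: the pseudofunctor layer

Element-level description of the pseudofunctor `Desc.ringModPF` (extension of scalars) and of
descent data for it.
-/

set_option autoImplicit false
set_option linter.unusedSectionVars false
set_option linter.unusedVariables false

universe u

open CategoryTheory Opposite

noncomputable section

namespace Groth.Agent.Helper8.FFDesc

open ModuleCat ChangeOfRings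

/-- the pseudofunctor -/
abbrev F := Desc.ringModPF.{u}

variable {S T T' : Type u} [CommRing S] [CommRing T] [CommRing T']

/-- the 1-morphism attached to a ring hom -/
abbrev loc (a : S →+* T) :
    (LocallyDiscrete.mk (op (op (CommRingCat.of S))) : LocallyDiscrete (CommRingCat.{u}ᵒᵖ)ᵒᵖ) ⟶
      LocallyDiscrete.mk (op (op (CommRingCat.of T))) :=
  (CommRingCat.ofHom a).op.op.toLoc

lemma loc_comp (a : S →+* T) (b : T →+* T') : loc a ≫ loc b = loc (b.comp a) := rfl

/-- the composition isomorphism of the pseudofunctor, with explicit types -/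
def compIso (a : S →+* T) (b : T →+* T') (c : S →+* T')
    (h : loc a ≫ loc b = loc c) (N : ModuleCat.{u} S) :
    (extendScalars.{u,u,u} c).obj N ≅
      (extendScalars.{u,u,u} b).obj ((extendScalars.{u,u,u} a).obj N) :=
  (Cat.Hom.toNatIso (F.mapComp' (loc a) (loc b) (loc c) h)).app N

lemma eq_comp_of_loc (a : S →+* T) (b : T →+* T') (c : S →+* T')
    (h : loc a ≫ loc b = loc c) : c = b.comp a := by
  have := congrArg (fun x => x.as.unop.unop.hom) h
  exact this.symm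

set_option backward.isDefEq.respectTransparency false in
theorem compIso_hom_one_tmul (a : S →+* T) (b : T →+* T') (c : S →+* T')
    (h : loc a ≫ loc b = loc c) (N : ModuleCat.{u} S) (n : N) :
    (compIso a b c h N).hom.hom ((1 : T') ⊗ₜ[S,c] n) =
      (1 : T') ⊗ₜ[T,b] (((1 : T) ⊗ₜ[S,a] n : (extendScalars.{u,u,u} a).obj N)) := by
  obtain rfl := eq_comp_of_loc a b c h
  unfold compIso
  have e : F.mapComp' (loc a) (loc b) (loc (b.comp a)) h = F.mapComp (loc a) (loc b) :=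
    Pseudofunctor.mapComp'_eq_mapComp _ _ _
  rw [e]
  simp [F, Desc.ringModPF]
  exact extendScalarsComp_hom_app_one_tmul a b N n

set_option backward.isDefEq.respectTransparency false in
theorem compIso_inv_one_tmul (a : S →+* T) (b : T →+* T') (c : S →+* T')
    (h : loc a ≫ loc b = loc c) (N : ModuleCat.{u} S) (n : N) :
    (compIso a b c h N).inv.hom
      ((1 : T') ⊗ₜ[T,b] (((1 : T) ⊗ₜ[S,a] n : (extendScalars.{u,u,u} a).obj N))) =
      (1 : T') ⊗ₜ[S,c] n := by
  rw [← compIso_hom_one_tmul a b c h N n]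
  exact congrArg (fun f => f.hom ((1 : T') ⊗ₜ[S,c] n)) (compIso a b c h N).hom_inv_id

/-- the base change map `T ⊗_S N → T' ⊗_S N` along `b : T → T'` -/
def bcm (a : S →+* T) (b : T →+* T') (c : S →+* T')
    (h : loc a ≫ loc b = loc c) (N : ModuleCat.{u} S) :
    (extendScalars.{u,u,u} a).obj N ⟶
      (restrictScalars.{u,u,u} b).obj ((extendScalars.{u,u,u} c).obj N) :=
  (extendRestrictScalarsAdj.{u,u,u} b).homEquiv _ _ (compIso a b c h N).inv

lemma bcm_apply (a : S →+* T) (b : T →+* T') (c : S →+* T')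
    (h : loc a ≫ loc b = loc c) (N : ModuleCat.{u} S) (x : (extendScalars.{u,u,u} a).obj N) :
    (bcm a b c h N).hom x = (compIso a b c h N).inv.hom ((1 : T') ⊗ₜ[T,b] x) :=
  rfl

set_option backward.isDefEq.respectTransparency false in
lemma bcm_one_tmul (a : S →+* T) (b : T →+* T') (c : S →+* T')
    (h : loc a ≫ loc b = loc c) (N : ModuleCat.{u} S) (n : N) :
    (bcm a b c h N).hom ((1 : T) ⊗ₜ[S,a] n) = ((1 : T') ⊗ₜ[S,c] n : (extendScalars.{u,u,u} c).obj N) := by
  rw [bcm_apply]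
  exact compIso_inv_one_tmul a b c h N n


/-! ### Descent data -/

section DD

variable (R : Type u) (S : Type u) [CommRing R] [CommRing S] [Algebra R S]

/-- the covering morphism `Spec S ⟶ Spec R` -/
abbrev f₀ : (op (CommRingCat.of S) : CommRingCat.{u}ᵒᵖ) ⟶ op (CommRingCat.of R) :=
  (CommRingCat.ofHom (algebraMap R S)).op

/-- descent data relative to `Spec S ⟶ Spec R` -/
abbrev DD := (F.{u}).DescentData (fun _ : PUnit.{u + 1} => f₀ R S)

variable {R S}

/-- the underlying `S`-module of a descent datum -/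
def Nmod (D : DD R S) : ModuleCat.{u} S := D.obj PUnit.unit

variable (D : DD R S)

/-- the comparison map of a descent datum over a pair of points -/
def Dhom (a₁ a₂ : S →+* T) (hc : a₁.comp (algebraMap R S) = a₂.comp (algebraMap R S)) :
    (extendScalars.{u,u,u} a₁).obj (Nmod D) ⟶ (extendScalars.{u,u,u} a₂).obj (Nmod D) :=
  D.hom (Y := op (CommRingCat.of T)) (CommRingCat.ofHom (a₁.comp (algebraMap R S))).op
    (i₁ := PUnit.unit) (i₂ := PUnit.unit)
    (CommRingCat.ofHom a₁).op (CommRingCat.ofHom a₂).op rfl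
    (by
      change (CommRingCat.ofHom (a₂.comp (algebraMap R S))).op = _
      rw [hc])

/-- `Dhom` does not depend on the choice of the structure morphism -/
lemma hom_eq_Dhom (a₁ a₂ : S →+* T) (hc : a₁.comp (algebraMap R S) = a₂.comp (algebraMap R S))
    (q : (op (CommRingCat.of T) : CommRingCat.{u}ᵒᵖ) ⟶ op (CommRingCat.of R))
    (h₁ : (CommRingCat.ofHom a₁).op ≫ f₀ R S = q) (h₂ : (CommRingCat.ofHom a₂).op ≫ f₀ R S = q) :
    D.hom (Y := op (CommRingCat.of T)) q (i₁ := PUnit.unit) (i₂ := PUnit.unit)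
      (CommRingCat.ofHom a₁).op (CommRingCat.ofHom a₂).op h₁ h₂ = Dhom D a₁ a₂ hc := by
  subst h₁
  rfl

lemma Dhom_self (a : S →+* T) : Dhom D a a rfl = 𝟙 _ := by
  unfold Dhom
  exact D.hom_self (Y := op (CommRingCat.of T)) (CommRingCat.ofHom (a.comp (algebraMap R S))).op
    (i := PUnit.unit) (CommRingCat.ofHom a).op rfl

lemma Dhom_comp (a₁ a₂ a₃ : S →+* T)
    (h₁₂ : a₁.comp (algebraMap R S) = a₂.comp (algebraMap R S))
    (h₂₃ : a₂.comp (algebraMap R S) = a₃.comp (algebraMap R S)) :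
    Dhom D a₁ a₂ h₁₂ ≫ Dhom D a₂ a₃ h₂₃ = Dhom D a₁ a₃ (h₁₂.trans h₂₃) := by
  have hq₂ : (CommRingCat.ofHom a₂).op ≫ f₀ R S =
      (CommRingCat.ofHom (a₁.comp (algebraMap R S))).op := by
    change (CommRingCat.ofHom (a₂.comp (algebraMap R S))).op = _
    rw [h₁₂]
  have hq₃ : (CommRingCat.ofHom a₃).op ≫ f₀ R S =
      (CommRingCat.ofHom (a₁.comp (algebraMap R S))).op := by
    change (CommRingCat.ofHom (a₃.comp (algebraMap R S))).op = _
    rw [← h₂₃, h₁₂]
  rw [← hom_eq_Dhom D a₁ a₂ h₁₂ _ rfl hq₂, ← hom_eq_Dhom D a₂ a₃ h₂₃ _ hq₂ hq₃,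
    ← hom_eq_Dhom D a₁ a₃ (h₁₂.trans h₂₃) _ rfl hq₃]
  exact D.hom_comp (Y := op (CommRingCat.of T)) _ _ _ _ rfl hq₂ hq₃

lemma map_Dhom (a₁ a₂ : S →+* T) (hc : a₁.comp (algebraMap R S) = a₂.comp (algebraMap R S))
    (g : T →+* T') :
    (extendScalars.{u,u,u} g).map (Dhom D a₁ a₂ hc) =
      (compIso a₁ g (g.comp a₁) rfl (Nmod D)).inv ≫
        Dhom D (g.comp a₁) (g.comp a₂) (by rw [RingHom.comp_assoc, hc, RingHom.comp_assoc]) ≫
          (compIso a₂ g (g.comp a₂) rfl (Nmod D)).hom := by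
  have hc' : (g.comp a₁).comp (algebraMap R S) = (g.comp a₂).comp (algebraMap R S) := by
    rw [RingHom.comp_assoc, hc, RingHom.comp_assoc]
  have h2 : (CommRingCat.ofHom a₂).op ≫ f₀ R S =
      (CommRingCat.ofHom (a₁.comp (algebraMap R S))).op := by
    change (CommRingCat.ofHom (a₂.comp (algebraMap R S))).op = _
    rw [hc]
  have h2' : (CommRingCat.ofHom (g.comp a₂)).op ≫ f₀ R S =
      (CommRingCat.ofHom ((g.comp a₁).comp (algebraMap R S))).op := by
    change (CommRingCat.ofHom ((g.comp a₂).comp (algebraMap R S))).op = _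
    rw [hc']
  have key := Pseudofunctor.LocallyDiscreteOpToCat.map_eq_pullHom (F := F.{u})
    (X₁ := op (CommRingCat.of S)) (X₂ := op (CommRingCat.of S)) (M₁ := D.obj PUnit.unit) (M₂ := D.obj PUnit.unit)
    (Y := op (CommRingCat.of T)) (f₁ := (CommRingCat.ofHom a₁).op) (f₂ := (CommRingCat.ofHom a₂).op)
    (Dhom D a₁ a₂ hc) (Y' := op (CommRingCat.of T')) (CommRingCat.ofHom g).op
    (CommRingCat.ofHom (g.comp a₁)).op (CommRingCat.ofHom (g.comp a₂)).op rfl rfl
  have hp := D.pullHom_hom (Y' := op (CommRingCat.of T')) (Y := op (CommRingCat.of T))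
    (CommRingCat.ofHom g).op (CommRingCat.ofHom (a₁.comp (algebraMap R S))).op
    (CommRingCat.ofHom ((g.comp a₁).comp (algebraMap R S))).op rfl
    (i₁ := PUnit.unit) (i₂ := PUnit.unit)
    (CommRingCat.ofHom a₁).op (CommRingCat.ofHom a₂).op rfl h2
    (CommRingCat.ofHom (g.comp a₁)).op (CommRingCat.ofHom (g.comp a₂)).op rfl rfl
  have hp' : Pseudofunctor.LocallyDiscreteOpToCat.pullHom (F := F.{u})
      (X₁ := op (CommRingCat.of S)) (X₂ := op (CommRingCat.of S)) (M₁ := D.obj PUnit.unit) (M₂ := D.obj PUnit.unit)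
      (Y := op (CommRingCat.of T)) (f₁ := (CommRingCat.ofHom a₁).op)
      (f₂ := (CommRingCat.ofHom a₂).op) (Dhom D a₁ a₂ hc)
      (Y' := op (CommRingCat.of T')) (CommRingCat.ofHom g).op
      (CommRingCat.ofHom (g.comp a₁)).op (CommRingCat.ofHom (g.comp a₂)).op rfl rfl =
      Dhom D (g.comp a₁) (g.comp a₂) hc' := by
    rw [← hom_eq_Dhom D (g.comp a₁) (g.comp a₂) hc' _ rfl h2']
    exact hp
  rw [hp'] at key
  exact key

/-- the comparison map on the generators `1 ⊗ n` -/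
def theta (a₁ a₂ : S →+* T) (hc : a₁.comp (algebraMap R S) = a₂.comp (algebraMap R S))
    (n : Nmod D) : (extendScalars.{u,u,u} a₂).obj (Nmod D) :=
  (Dhom D a₁ a₂ hc).hom ((1 : T) ⊗ₜ[S,a₁] n)

lemma theta_self (a : S →+* T) (n : Nmod D) :
    theta D a a rfl n = ((1 : T) ⊗ₜ[S,a] n : (extendScalars.{u,u,u} a).obj (Nmod D)) := by
  unfold theta
  rw [Dhom_self]
  rfl

lemma Dhom_theta (a₁ a₂ a₃ : S →+* T)
    (h₁₂ : a₁.comp (algebraMap R S) = a₂.comp (algebraMap R S))
    (h₂₃ : a₂.comp (algebraMap R S) = a₃.comp (algebraMap R S)) (n : Nmod D) :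
    (Dhom D a₂ a₃ h₂₃).hom (theta D a₁ a₂ h₁₂ n) = theta D a₁ a₃ (h₁₂.trans h₂₃) n := by
  unfold theta
  rw [← Dhom_comp D a₁ a₂ a₃ h₁₂ h₂₃]
  rfl

set_option backward.isDefEq.respectTransparency false in
lemma theta_nat (a₁ a₂ : S →+* T) (hc : a₁.comp (algebraMap R S) = a₂.comp (algebraMap R S))
    (g : T →+* T') (n : Nmod D) :
    theta D (g.comp a₁) (g.comp a₂) (by rw [RingHom.comp_assoc, hc, RingHom.comp_assoc]) n =
      (bcm a₂ g (g.comp a₂) rfl (Nmod D)).hom (theta D a₁ a₂ hc n) := by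
  have hc' : (g.comp a₁).comp (algebraMap R S) = (g.comp a₂).comp (algebraMap R S) := by
    rw [RingHom.comp_assoc, hc, RingHom.comp_assoc]
  have key := congrArg (fun φ => φ.hom ((1 : T') ⊗ₜ[T,g]
    (((1 : T) ⊗ₜ[S,a₁] n : (extendScalars.{u,u,u} a₁).obj (Nmod D))))) (map_Dhom D a₁ a₂ hc g)
  change ((1 : T') ⊗ₜ[T,g] ((Dhom D a₁ a₂ hc).hom ((1 : T) ⊗ₜ[S,a₁] n)) :
      (extendScalars.{u,u,u} g).obj ((extendScalars.{u,u,u} a₂).obj (Nmod D))) =
    (compIso a₂ g (g.comp a₂) rfl (Nmod D)).hom.hom ((Dhom D (g.comp a₁) (g.comp a₂) hc').hom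
      ((compIso a₁ g (g.comp a₁) rfl (Nmod D)).inv.hom ((1 : T') ⊗ₜ[T,g]
        (((1 : T) ⊗ₜ[S,a₁] n : (extendScalars.{u,u,u} a₁).obj (Nmod D)))))) at key
  rw [compIso_inv_one_tmul] at key
  have h3 : ∀ y, (compIso a₂ g (g.comp a₂) rfl (Nmod D)).inv.hom
      ((compIso a₂ g (g.comp a₂) rfl (Nmod D)).hom.hom y) = y := fun y =>
    congrArg (fun f => f.hom y) (compIso a₂ g (g.comp a₂) rfl (Nmod D)).hom_inv_id
  rw [bcm_apply]
  change _ = (compIso a₂ g (g.comp a₂) rfl (Nmod D)).inv.hom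
    ((1 : T') ⊗ₜ[T,g] ((Dhom D a₁ a₂ hc).hom ((1 : T) ⊗ₜ[S,a₁] n)))
  rw [key, h3]
  rfl

end DD

end Groth.Agent.Helper8.FFDesc
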