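import Mathlib
import Groth.Agent.Helper8.FFDesc1

/-!
# Faithfully flat descent for modules: base change for a pushout square of rings

For `R`-algebras `S`, `A` and an `A`-module `X`, the comparison between `S ⊗_R X` and
`(S ⊗_R A) ⊗_A X`.
-/

set_option autoImplicit false
set_option linter.unusedSectionVars false
set_option linter.unusedVariables false

universe u

open CategoryTheory Opposite TensorProduct

noncomputable section

namespace Groth.Agent.Helper8.FFDesc

open ModuleCat ChangeOfRings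

section BC

variable (R : Type u) (S : Type u) (A : Type u) [CommRing R] [CommRing S] [CommRing A]
  [Algebra R S] [Algebra R A]

/-- left inclusion `S → S ⊗_R A` -/
abbrev iL : S →+* S ⊗[R] A := Algebra.TensorProduct.includeLeftRingHom

/-- right inclusion `A → S ⊗_R A` -/
abbrev iR : A →+* S ⊗[R] A :=
  (Algebra.TensorProduct.includeRight : A →ₐ[R] S ⊗[R] A).toRingHom

lemma iL_comp_algebraMap : (iL R S A).comp (algebraMap R S) = (iR R S A).comp (algebraMap R A) :=
  Algebra.TensorProduct.includeLeftRingHom_comp_algebraMap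

variable {A}
variable (X : ModuleCat.{u} A)

/-- `(S ⊗_R A) ⊗_A X` -/
abbrev WW : ModuleCat.{u} (S ⊗[R] A) := (extendScalars.{u,u,u} (iR R S A)).obj X

/-- `S ⊗_R X` -/
abbrev LG : ModuleCat.{u} S :=
  (extendScalars.{u,u,u} (algebraMap R S)).obj ((restrictScalars.{u,u,u} (algebraMap R A)).obj X)

/-- the element `s ⊗ x` of `S ⊗_R X` -/
def lgmk (s : S) (x : X) : LG R S X :=
  s ⊗ₜ[R, algebraMap R S] (show ((restrictScalars.{u,u,u} (algebraMap R A)).obj X) from x)

lemma lgmk_add_left (s s' : S) (x : X) : lgmk R S X (s + s') x = lgmk R S X s x + lgmk R S X s' x :=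
  TensorProduct.add_tmul _ _ _

lemma lgmk_add_right (s : S) (x x' : X) : lgmk R S X s (x + x') = lgmk R S X s x + lgmk R S X s x' :=
  TensorProduct.tmul_add _ _ _

lemma lgmk_zero_left (x : X) : lgmk R S X 0 x = 0 := TensorProduct.zero_tmul _ _

lemma lgmk_zero_right (s : S) : lgmk R S X s 0 = 0 := TensorProduct.tmul_zero _ _

lemma smul_lgmk (s s' : S) (x : X) : s • lgmk R S X s' x = lgmk R S X (s * s') x := rfl

lemma lgmk_smul (r : R) (s : S) (x : X) :
    lgmk R S X (algebraMap R S r * s) x = lgmk R S X s (algebraMap R A r • x) := by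
  unfold lgmk
  exact TensorProduct.smul_tmul (R := R) (R' := R) r
    (show ((restrictScalars.{u,u,u} (algebraMap R S)).obj (ModuleCat.of S S)) from s)
    (show ((restrictScalars.{u,u,u} (algebraMap R A)).obj X) from x)

/-- the triadditive map `(s, a, x) ↦ s ⊗ a x` -/
def psiAux : S →+ A →+ X →+ LG R S X :=
  AddMonoidHom.mk' (fun s => AddMonoidHom.mk' (fun a => AddMonoidHom.mk'
    (fun x => lgmk R S X s (a • x))
    (by intro x y; rw [smul_add, lgmk_add_right]))
    (by intro a b; ext x; simp [add_smul, lgmk_add_right]))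
    (by intro s t; ext a x; simp [lgmk_add_left])

@[simp] lemma psiAux_apply (s : S) (a : A) (x : X) : psiAux R S X s a x = lgmk R S X s (a • x) := rfl

/-- the biadditive map `(b, x) ↦ b ⋆ x` on `(S ⊗_R A) × X` -/
def psiB : (S ⊗[R] A) →+ X →+ LG R S X :=
  TensorProduct.liftAddHom (psiAux R S X) (by
    intro r s a
    ext x
    simp only [psiAux_apply]
    rw [Algebra.smul_def, Algebra.smul_def, mul_smul, lgmk_smul])

@[simp] lemma psiB_tmul (s : S) (a : A) (x : X) :
    psiB R S X (s ⊗ₜ[R] a) x = lgmk R S X s (a • x) := rfl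

lemma psiB_balanced (a : A) (b : S ⊗[R] A) (x : X) :
    psiB R S X (iR R S A a * b) x = psiB R S X b (a • x) := by
  induction b using TensorProduct.induction_on with
  | zero => simp
  | add b₁ b₂ h₁ h₂ => rw [mul_add, map_add, map_add, AddMonoidHom.add_apply,
      AddMonoidHom.add_apply, h₁, h₂]
  | tmul s a' =>
    have : iR R S A a * (s ⊗ₜ[R] a') = s ⊗ₜ[R] (a * a') := by
      change (1 ⊗ₜ[R] a) * (s ⊗ₜ[R] a') = _
      rw [Algebra.TensorProduct.tmul_mul_tmul, one_mul]
    rw [this, psiB_tmul, psiB_tmul, mul_comm, mul_smul]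

/-- the inverse base change map `(S ⊗_R A) ⊗_A X → S ⊗_R X` -/
def psi : WW R S X →+ LG R S X :=
  TensorProduct.liftAddHom (R := A)
    (M := ((restrictScalars.{u,u,u} (iR R S A)).obj (ModuleCat.of (S ⊗[R] A) (S ⊗[R] A))))
    (N := X) (psiB R S X) (fun a b x => psiB_balanced R S X a b x)

lemma psi_tmul (b : S ⊗[R] A) (x : X) :
    psi R S X (b ⊗ₜ[A, iR R S A] x) = psiB R S X b x := rfl

lemma psi_one_tmul (x : X) :
    psi R S X ((1 : S ⊗[R] A) ⊗ₜ[A, iR R S A] x) = lgmk R S X 1 x := by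
  rw [psi_tmul, Algebra.TensorProduct.one_def, psiB_tmul, one_smul]

lemma psiB_iL_mul (s : S) (b : S ⊗[R] A) (x : X) :
    psiB R S X (iL R S A s * b) x = s • psiB R S X b x := by
  induction b using TensorProduct.induction_on with
  | zero => simp
  | add b₁ b₂ h₁ h₂ => rw [mul_add, map_add, map_add, AddMonoidHom.add_apply,
      AddMonoidHom.add_apply, h₁, h₂, smul_add]
  | tmul s' a =>
    have : iL R S A s * (s' ⊗ₜ[R] a) = (s * s') ⊗ₜ[R] a := by
      change (s ⊗ₜ[R] 1) * (s' ⊗ₜ[R] a) = _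
      rw [Algebra.TensorProduct.tmul_mul_tmul, one_mul]
    rw [this, psiB_tmul, psiB_tmul, smul_lgmk]

set_option backward.isDefEq.respectTransparency false in
lemma psi_smul (s : S) (w : WW R S X) : psi R S X (iL R S A s • w) = s • psi R S X w := by
  induction w using TensorProduct.induction_on with
  | zero => simp
  | add w₁ w₂ h₁ h₂ => rw [smul_add, map_add, map_add, h₁, h₂, smul_add]
  | tmul b x =>
    obtain ⟨b', rfl⟩ : ∃ b' : S ⊗[R] A, b' = b := ⟨b, rfl⟩
    change psi R S X ((iL R S A s * b') ⊗ₜ[A, iR R S A] x) = s • psi R S X (b' ⊗ₜ[A, iR R S A] x)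
    rw [psi_tmul, psi_tmul, psiB_iL_mul]

set_option backward.isDefEq.respectTransparency false in
/-- `(S ⊗_R A) ⊗_A X` is generated by the elements `1 ⊗ x` over `S` -/
lemma ext_gen {Q : Type*} [AddCommGroup Q] (act : S → Q → Q) (u v : WW R S X →+ Q)
    (hu : ∀ (s : S) (w : WW R S X), u (iL R S A s • w) = act s (u w))
    (hv : ∀ (s : S) (w : WW R S X), v (iL R S A s • w) = act s (v w))
    (h : ∀ x : X, u ((1 : S ⊗[R] A) ⊗ₜ[A, iR R S A] x) = v ((1 : S ⊗[R] A) ⊗ₜ[A, iR R S A] x)) :
    u = v := by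
  ext w
  induction w using TensorProduct.induction_on with
  | zero => simp
  | add w₁ w₂ h₁ h₂ => rw [map_add, map_add, h₁, h₂]
  | tmul b x =>
    obtain ⟨b', rfl⟩ : ∃ b' : S ⊗[R] A, b' = b := ⟨b, rfl⟩
    induction b' using TensorProduct.induction_on with
    | zero =>
      have : ((0 : S ⊗[R] A) ⊗ₜ[A, iR R S A] x : WW R S X) = 0 := TensorProduct.zero_tmul _ _
      change u ((0 : S ⊗[R] A) ⊗ₜ[A, iR R S A] x) = v ((0 : S ⊗[R] A) ⊗ₜ[A, iR R S A] x)
      rw [this, map_zero, map_zero]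
    | add b₁ b₂ h₁ h₂ =>
      have : ((b₁ + b₂) ⊗ₜ[A, iR R S A] x : WW R S X) =
          b₁ ⊗ₜ[A, iR R S A] x + b₂ ⊗ₜ[A, iR R S A] x := TensorProduct.add_tmul _ _ _
      change u ((b₁ + b₂) ⊗ₜ[A, iR R S A] x) = v ((b₁ + b₂) ⊗ₜ[A, iR R S A] x)
      rw [this, map_add, map_add]
      exact congrArg₂ (· + ·) h₁ h₂
    | tmul s a =>
      have key : ((s ⊗ₜ[R] a) ⊗ₜ[A, iR R S A] x : WW R S X) =
          iL R S A s • ((1 : S ⊗[R] A) ⊗ₜ[A, iR R S A] (a • x)) := by
        have h1 : (s ⊗ₜ[R] a : S ⊗[R] A) = iR R S A a * iL R S A s := by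
          change _ = (1 ⊗ₜ[R] a) * (s ⊗ₜ[R] 1)
          rw [Algebra.TensorProduct.tmul_mul_tmul, one_mul, mul_one]
        have h2 : iL R S A s • ((1 : S ⊗[R] A) ⊗ₜ[A, iR R S A] (a • x) : WW R S X) =
            (iL R S A s) ⊗ₜ[A, iR R S A] (a • x) := by
          rw [ExtendScalars.smul_tmul, mul_one]
        rw [h2, h1]
        exact TensorProduct.smul_tmul (R := A) (R' := A) a
          (show ((restrictScalars.{u,u,u} (iR R S A)).obj (ModuleCat.of (S ⊗[R] A) (S ⊗[R] A)))
            from iL R S A s) x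
      change u ((s ⊗ₜ[R] a) ⊗ₜ[A, iR R S A] x) = v ((s ⊗ₜ[R] a) ⊗ₜ[A, iR R S A] x)
      rw [key, hu, hv, h]

/-- function version of `ext_gen` -/
lemma ext_gen' {Q : Type*} [AddCommGroup Q] (act : S → Q → Q) (u v : WW R S X → Q)
    (hua : ∀ x y, u (x + y) = u x + u y) (hva : ∀ x y, v (x + y) = v x + v y)
    (hu : ∀ (s : S) (w : WW R S X), u (iL R S A s • w) = act s (u w))
    (hv : ∀ (s : S) (w : WW R S X), v (iL R S A s • w) = act s (v w))
    (h : ∀ x : X, u ((1 : S ⊗[R] A) ⊗ₜ[A, iR R S A] x) = v ((1 : S ⊗[R] A) ⊗ₜ[A, iR R S A] x))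
    (w : WW R S X) : u w = v w := by
  have := ext_gen R S X act (AddMonoidHom.mk' u hua) (AddMonoidHom.mk' v hva) hu hv h
  exact congrArg (fun f => f w) this

/-- the base change map `S ⊗_R X → (S ⊗_R A) ⊗_A X` -/
def bcAux : S →+ X →+ WW R S X :=
  AddMonoidHom.mk' (fun s => AddMonoidHom.mk'
    (fun x => ((iL R S A s) ⊗ₜ[A, iR R S A] x : WW R S X))
    (by intro x y; exact TensorProduct.tmul_add _ _ _))
    (by intro s t; ext x; simp only [map_add]; exact TensorProduct.add_tmul _ _ _)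

@[simp] lemma bcAux_apply (s : S) (x : X) :
    bcAux R S X s x = ((iL R S A s) ⊗ₜ[A, iR R S A] x : WW R S X) := rfl

set_option backward.isDefEq.respectTransparency false in
/-- the base change map `S ⊗_R X → (S ⊗_R A) ⊗_A X` -/
def bc : LG R S X →+ WW R S X :=
  TensorProduct.liftAddHom (R := R)
    (M := ((restrictScalars.{u,u,u} (algebraMap R S)).obj (ModuleCat.of S S)))
    (N := ((restrictScalars.{u,u,u} (algebraMap R A)).obj X)) (bcAux R S X) (by
      intro r s x
      obtain ⟨s', rfl⟩ : ∃ s' : S, s' = s := ⟨s, rfl⟩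
      obtain ⟨x', rfl⟩ : ∃ x' : X, x' = x := ⟨x, rfl⟩
      change ((iL R S A (algebraMap R S r * s')) ⊗ₜ[A, iR R S A] x' : WW R S X) =
        (iL R S A s') ⊗ₜ[A, iR R S A] (algebraMap R A r • x')
      have h1 : iL R S A (algebraMap R S r) = iR R S A (algebraMap R A r) :=
        congrArg (fun f => f r) (iL_comp_algebraMap R S A)
      rw [map_mul, h1]
      exact TensorProduct.smul_tmul (R := A) (R' := A) (algebraMap R A r)
        (show ((restrictScalars.{u,u,u} (iR R S A)).obj (ModuleCat.of (S ⊗[R] A) (S ⊗[R] A)))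
          from iL R S A s') x')

lemma bc_lgmk (s : S) (x : X) :
    bc R S X (lgmk R S X s x) = ((iL R S A s) ⊗ₜ[A, iR R S A] x : WW R S X) := rfl

set_option backward.isDefEq.respectTransparency false in
lemma bc_smul (s : S) (y : LG R S X) : bc R S X (s • y) = iL R S A s • bc R S X y := by
  induction y using TensorProduct.induction_on with
  | zero => simp
  | add y₁ y₂ h₁ h₂ => rw [smul_add, map_add, map_add, h₁, h₂, smul_add]
  | tmul s' x =>
    obtain ⟨s'', rfl⟩ : ∃ s'' : S, s'' = s' := ⟨s', rfl⟩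
    obtain ⟨x', rfl⟩ : ∃ x' : X, x' = x := ⟨x, rfl⟩
    change bc R S X (lgmk R S X (s * s'') x') = iL R S A s • bc R S X (lgmk R S X s'' x')
    rw [bc_lgmk, bc_lgmk, map_mul, ExtendScalars.smul_tmul]

set_option backward.isDefEq.respectTransparency false in
lemma bc_psi (w : WW R S X) : bc R S X (psi R S X w) = w := by
  have := ext_gen R S X (fun s w => iL R S A s • w) ((bc R S X).comp (psi R S X))
    (AddMonoidHom.id _)
    (fun s w => by
      simp only [AddMonoidHom.comp_apply]
      rw [psi_smul, bc_smul])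
    (fun s w => rfl)
    (fun x => by
      simp only [AddMonoidHom.comp_apply, AddMonoidHom.id_apply]
      rw [psi_one_tmul, bc_lgmk, map_one])
  exact congrArg (fun f => f w) this

lemma psi_injective : Function.Injective (psi R S X) :=
  Function.LeftInverse.injective (bc_psi R S X)

end BC

end Groth.Agent.Helper8.FFDesc
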