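import Mathlib
import Groth.Agent.Helper8.FFDesc1
import Groth.Agent.Helper8.FFDesc2

/-!
# Faithfully flat descent for modules: the coalgebra attached to a descent datum
-/

set_option autoImplicit false
set_option linter.unusedSectionVars false
set_option linter.unusedVariables false

universe u

open CategoryTheory Opposite TensorProduct

noncomputable section

namespace Groth.Agent.Helper8.FFDesc

open ModuleCat ChangeOfRings

section Basic

variable {S T T' : Type u} [CommRing S] [CommRing T] [CommRing T']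

/-- `bcm` is semilinear -/
lemma bcm_smul (a : S →+* T) (b : T →+* T') (c : S →+* T')
    (h : loc a ≫ loc b = loc c) (N : ModuleCat.{u} S) (t : T)
    (x : (extendScalars.{u,u,u} a).obj N) :
    (bcm a b c h N).hom (t • x) =
      (b t • (bcm a b c h N).hom x : (extendScalars.{u,u,u} c).obj N) := by
  rw [map_smul]
  rfl

end Basic

section Coalg

variable {R S : Type u} [CommRing R] [CommRing S] [Algebra R S] (D : DD R S)

/-- `theta` is additive -/
lemma theta_add {T : Type u} [CommRing T] (a₁ a₂ : S →+* T)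
    (hc : a₁.comp (algebraMap R S) = a₂.comp (algebraMap R S)) (n n' : Nmod D) :
    theta D a₁ a₂ hc (n + n') = theta D a₁ a₂ hc n + theta D a₁ a₂ hc n' := by
  unfold theta
  have : ((1 : T) ⊗ₜ[S,a₁] (n + n') : (extendScalars.{u,u,u} a₁).obj (Nmod D)) =
      (1 : T) ⊗ₜ[S,a₁] n + (1 : T) ⊗ₜ[S,a₁] n' := TensorProduct.tmul_add _ _ _
  rw [this]
  exact map_add (Dhom D a₁ a₂ hc).hom _ _

set_option backward.isDefEq.respectTransparency false in
/-- `theta` is semilinear -/
lemma theta_smul {T : Type u} [CommRing T] (a₁ a₂ : S →+* T)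
    (hc : a₁.comp (algebraMap R S) = a₂.comp (algebraMap R S)) (s : S) (n : Nmod D) :
    theta D a₁ a₂ hc (s • n) = a₁ s • theta D a₁ a₂ hc n := by
  unfold theta
  have : ((1 : T) ⊗ₜ[S,a₁] (s • n) : (extendScalars.{u,u,u} a₁).obj (Nmod D)) =
      a₁ s • ((1 : T) ⊗ₜ[S,a₁] n : (extendScalars.{u,u,u} a₁).obj (Nmod D)) := by
    rw [ExtendScalars.smul_tmul, mul_one]
    exact (TensorProduct.smul_tmul (R := S) (R' := S) s
      (show ((restrictScalars.{u,u,u} a₁).obj (ModuleCat.of T T)) from (1 : T)) n).symm.trans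
      (by
        congr 1
        change a₁ s * 1 = a₁ s
        rw [mul_one])
  rw [this, map_smul]

lemma theta_nat' {T T' : Type u} [CommRing T] [CommRing T'] (a₁ a₂ : S →+* T)
    (hc : a₁.comp (algebraMap R S) = a₂.comp (algebraMap R S))
    (g : T →+* T') (b₁ b₂ : S →+* T') (h₁ : g.comp a₁ = b₁) (h₂ : g.comp a₂ = b₂)
    (hcb : b₁.comp (algebraMap R S) = b₂.comp (algebraMap R S))
    (hl : loc a₂ ≫ loc g = loc b₂) (n : Nmod D) :
    theta D b₁ b₂ hcb n = (bcm a₂ g b₂ hl (Nmod D)).hom (theta D a₁ a₂ hc n) := by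
  subst h₁ h₂
  exact theta_nat D a₁ a₂ hc g n

/-- `T₀ = S ⊗_R S` -/
abbrev i₁ : S →+* S ⊗[R] S := iL R S S
abbrev i₂ : S →+* S ⊗[R] S := iR R S S

lemma hc₀ : (i₁ (R := R) (S := S)).comp (algebraMap R S) = (i₂ (R := R) (S := S)).comp (algebraMap R S) :=
  iL_comp_algebraMap R S S

/-- the universal comparison element -/
def theta₀ (n : Nmod D) : WW R S (Nmod D) := theta D i₁ i₂ hc₀ n

/-- the coaction `N → S ⊗_R N` as a function -/
def coact (n : Nmod D) : LG R S (Nmod D) := psi R S (Nmod D) (theta₀ D n)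

/-- the coaction as a morphism of `S`-modules -/
def coactHom : Nmod D ⟶ LG R S (Nmod D) :=
  ModuleCat.ofHom (R := S) (X := ↑(Nmod D)) (Y := ↑(LG R S (Nmod D)))
    { toFun := coact D
      map_add' := fun n n' => by
        unfold coact theta₀
        rw [theta_add, map_add]
      map_smul' := fun s n => by
        unfold coact theta₀
        rw [theta_smul, psi_smul]
        rfl }

lemma coactHom_apply (n : Nmod D) : (coactHom D).hom n = psi R S (Nmod D) (theta₀ D n) := rfl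

/-! ### The counit axiom -/

/-- the multiplication `S ⊗_R S → S` -/
abbrev mulHom : S ⊗[R] S →+* S := (Algebra.TensorProduct.lmul' R : S ⊗[R] S →ₐ[R] S).toRingHom

lemma mulHom_comp_i₁ : (mulHom (R := R) (S := S)).comp i₁ = RingHom.id S := by
  ext s
  simp [mulHom, i₁, iL]

lemma mulHom_comp_i₂ : (mulHom (R := R) (S := S)).comp i₂ = RingHom.id S := by
  ext s
  simp [mulHom, i₂, iR]

lemma loc_mul : loc (i₂ (R := R) (S := S)) ≫ loc (mulHom (R := R) (S := S)) = loc (RingHom.id S) := by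
  change loc ((mulHom (R := R) (S := S)).comp i₂) = _
  rw [mulHom_comp_i₂]

set_option backward.isDefEq.respectTransparency false in
lemma counit_psi (w : WW R S (Nmod D)) :
    ((extendRestrictScalarsAdj.{u,u,u} (algebraMap R S)).counit.app (Nmod D)).hom
        (psi R S (Nmod D) w) =
      ((extendScalarsId.{u,u} S).hom.app (Nmod D)).hom
        ((bcm i₂ mulHom (RingHom.id S) loc_mul (Nmod D)).hom w) := by
  refine ext_gen' R S (Nmod D) (fun s q => s • q)
    (fun w => ((extendRestrictScalarsAdj.{u,u,u} (algebraMap R S)).counit.app (Nmod D)).hom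
        (psi R S (Nmod D) w))
    (fun w => ((extendScalarsId.{u,u} S).hom.app (Nmod D)).hom
        ((bcm i₂ mulHom (RingHom.id S) loc_mul (Nmod D)).hom w))
    (fun x y => ?_) (fun x y => ?_) (fun s w => ?_) (fun s w => ?_) (fun n => ?_) w
  · exact (congrArg _ (map_add (psi R S (Nmod D)) x y)).trans (map_add _ _ _)
  · exact (congrArg _ (map_add (bcm i₂ mulHom (RingHom.id S) loc_mul (Nmod D)).hom x y)).trans
      (map_add _ _ _)
  · exact (congrArg _ (psi_smul R S (Nmod D) s w)).trans (map_smul _ _ _)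
  · have h1 : mulHom (R := R) (S := S) (iL R S S s) = s :=
      congrArg (fun f => f s) (mulHom_comp_i₁ (R := R) (S := S))
    refine (congrArg _ (bcm_smul i₂ mulHom (RingHom.id S) loc_mul (Nmod D) (iL R S S s) w)).trans ?_
    rw [h1]
    exact map_smul _ _ _
  · refine (congrArg _ (psi_one_tmul R S (Nmod D) n)).trans ?_
    refine Eq.trans ?_ (congrArg _ (bcm_one_tmul i₂ mulHom (RingHom.id S) loc_mul (Nmod D) n)).symm
    refine Eq.trans ?_ (extendScalarsId_hom_app_one_tmul.{u,u} (Nmod D) n).symm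
    exact extendRestrictScalarsAdj_counit_app_apply_one_tmul.{u,u,u} (algebraMap R S) (Nmod D) n

set_option backward.isDefEq.respectTransparency false in
lemma coact_counit :
    coactHom D ≫ (extendRestrictScalarsAdj.{u,u,u} (algebraMap R S)).counit.app (Nmod D) =
      𝟙 (Nmod D) := by
  ext n
  change ((extendRestrictScalarsAdj.{u,u,u} (algebraMap R S)).counit.app (Nmod D)).hom
    (psi R S (Nmod D) (theta₀ D n)) = n
  rw [counit_psi]
  have h := theta_nat' D i₁ i₂ hc₀ mulHom (RingHom.id S) (RingHom.id S) mulHom_comp_i₁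
    mulHom_comp_i₂ rfl loc_mul n
  unfold theta₀
  rw [← h, theta_self]
  exact extendScalarsId_hom_app_one_tmul.{u,u} (Nmod D) n

/-! ### The coassociativity axiom -/

/-- `j₁ : S → S ⊗ (S ⊗ S)` -/
abbrev j₁ : S →+* S ⊗[R] (S ⊗[R] S) := iL R S (S ⊗[R] S)
/-- the inclusion `S ⊗ S → S ⊗ (S ⊗ S)` on the last two factors -/
abbrev incR : S ⊗[R] S →+* S ⊗[R] (S ⊗[R] S) := iR R S (S ⊗[R] S)
abbrev j₂ : S →+* S ⊗[R] (S ⊗[R] S) := (incR (R := R) (S := S)).comp i₁
abbrev j₃ : S →+* S ⊗[R] (S ⊗[R] S) := (incR (R := R) (S := S)).comp i₂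

/-- `s ⊗ s' ↦ s ⊗ (s' ⊗ 1)` -/
abbrev g₁₂ : S ⊗[R] S →+* S ⊗[R] (S ⊗[R] S) :=
  (Algebra.TensorProduct.map (AlgHom.id R S)
    (Algebra.TensorProduct.includeLeft : S →ₐ[R] S ⊗[R] S)).toRingHom

/-- `s ⊗ s' ↦ s ⊗ (1 ⊗ s')` -/
abbrev g₁₃ : S ⊗[R] S →+* S ⊗[R] (S ⊗[R] S) :=
  (Algebra.TensorProduct.map (AlgHom.id R S)
    (Algebra.TensorProduct.includeRight : S →ₐ[R] S ⊗[R] S)).toRingHom

lemma g₁₂_comp_i₁ : (g₁₂ (R := R) (S := S)).comp i₁ = j₁ := by
  ext s
  simp [g₁₂, i₁, iL, j₁, Algebra.TensorProduct.one_def]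

lemma g₁₂_comp_i₂ : (g₁₂ (R := R) (S := S)).comp i₂ = j₂ := by
  ext s
  simp [g₁₂, i₂, iR, j₂, incR, i₁, iL]

lemma g₁₃_comp_i₁ : (g₁₃ (R := R) (S := S)).comp i₁ = j₁ := by
  ext s
  simp [g₁₃, i₁, iL, j₁, Algebra.TensorProduct.one_def]

lemma g₁₃_comp_i₂ : (g₁₃ (R := R) (S := S)).comp i₂ = j₃ := by
  ext s
  simp [g₁₃, i₂, iR, j₃, incR]

lemma hc₁₂ : (j₁ (R := R) (S := S)).comp (algebraMap R S) = (j₂ (R := R) (S := S)).comp (algebraMap R S) := by
  have := iL_comp_algebraMap R S (S ⊗[R] S)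
  rw [RingHom.comp_assoc]
  exact this

lemma hc₂₃ : (j₂ (R := R) (S := S)).comp (algebraMap R S) = (j₃ (R := R) (S := S)).comp (algebraMap R S) := by
  rw [RingHom.comp_assoc, RingHom.comp_assoc, hc₀]

end Coalg

end Groth.Agent.Helper8.FFDesc
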