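import Mathlib
import Groth.Agent.Helper8.FFDesc1
import Groth.Agent.Helper8.FFDesc2
import Groth.Agent.Helper8.FFDesc3

/-!
# Faithfully flat descent for modules: coassociativity, generic form

The coassociativity of the coaction attached to a descent datum, proved over an abstract
`R`-algebra `A` playing the role of `S ⊗_R S` (to keep instance terms small).
-/

set_option autoImplicit false
set_option linter.unusedSectionVars false
set_option linter.unusedVariables false

universe u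

open CategoryTheory Opposite TensorProduct

noncomputable section

namespace Groth.Agent.Helper8.FFDesc

open ModuleCat ChangeOfRings

section Gen

variable {R S A : Type u} [CommRing R] [CommRing S] [CommRing A] [Algebra R S] [Algebra R A]

/-- image of `lgmk` under extension of scalars of an `R`-linear map -/
lemma map_lgmk (X : ModuleCat.{u} A) (Y : ModuleCat.{u} S)
    (f : (restrictScalars.{u,u,u} (algebraMap R A)).obj X ⟶
      (restrictScalars.{u,u,u} (algebraMap R S)).obj Y) (s : S) (x : X) :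
    ((extendScalars.{u,u,u} (algebraMap R S)).map f).hom (lgmk R S X s x) =
      lgmk R S Y s (f.hom x) := rfl

/-- the abstract data of an inverse base change map for `A` (which plays `S ⊗_R S`) -/
structure PsData (D : DD R S) (k₁ k₂ : S →+* A) where
  hk₁ : k₁.comp (algebraMap R S) = algebraMap R A
  hk₂ : k₂.comp (algebraMap R S) = algebraMap R A
  ps : (extendScalars.{u,u,u} k₂).obj (Nmod D) →+ LG R S (Nmod D)
  ps_smul : ∀ (s : S) (w : (extendScalars.{u,u,u} k₂).obj (Nmod D)), ps (k₁ s • w) = s • ps w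
  ps_one : ∀ n : Nmod D,
    ps (((1 : A) ⊗ₜ[S,k₂] n : (extendScalars.{u,u,u} k₂).obj (Nmod D))) = lgmk R S (Nmod D) 1 n
  gen : ∀ (u v : (extendScalars.{u,u,u} k₂).obj (Nmod D) → LG R S (LG R S (Nmod D))),
    (∀ x y, u (x + y) = u x + u y) → (∀ x y, v (x + y) = v x + v y) →
    (∀ (s : S) w, u (k₁ s • w) = s • u w) → (∀ (s : S) w, v (k₁ s • w) = s • v w) →
    (∀ n : Nmod D, u (((1 : A) ⊗ₜ[S,k₂] n : (extendScalars.{u,u,u} k₂).obj (Nmod D))) =
      v (((1 : A) ⊗ₜ[S,k₂] n : (extendScalars.{u,u,u} k₂).obj (Nmod D)))) → ∀ w, u w = v w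

variable {D : DD R S} {k₁ k₂ : S →+* A} (P : PsData D k₁ k₂)

namespace PsData

include P in
lemma hc : k₁.comp (algebraMap R S) = k₂.comp (algebraMap R S) := P.hk₁.trans P.hk₂.symm

/-- `ps` as an `R`-linear map -/
def psR : (restrictScalars.{u,u,u} (algebraMap R A)).obj ((extendScalars.{u,u,u} k₂).obj (Nmod D)) ⟶
    (restrictScalars.{u,u,u} (algebraMap R S)).obj (LG R S (Nmod D)) :=
  ModuleCat.ofHom (R := R)
    (X := ↑((restrictScalars.{u,u,u} (algebraMap R A)).obj
      ((extendScalars.{u,u,u} k₂).obj (Nmod D))))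
    (Y := ↑((restrictScalars.{u,u,u} (algebraMap R S)).obj (LG R S (Nmod D))))
    { toFun := fun w => P.ps w
      map_add' := fun x y => map_add P.ps x y
      map_smul' := fun r w => by
        have h : algebraMap R A r = k₁ (algebraMap R S r) :=
          (congrArg (fun f => f r) P.hk₁).symm
        change P.ps (algebraMap R A r • (w : (extendScalars.{u,u,u} k₂).obj (Nmod D))) =
          algebraMap R S r • P.ps w
        rw [h]
        exact P.ps_smul _ _ }

lemma psR_apply (w : (extendScalars.{u,u,u} k₂).obj (Nmod D)) : P.psR.hom w = P.ps w := rfl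

/-- the comparison `(S ⊗ A) ⊗_{j₃} N → S ⊗ (S ⊗ N)` -/
def psi1 (y : (extendScalars.{u,u,u} ((iR R S A).comp k₂)).obj (Nmod D)) :
    LG R S (LG R S (Nmod D)) :=
  ((extendScalars.{u,u,u} (algebraMap R S)).map P.psR).hom
    (psi R S ((extendScalars.{u,u,u} k₂).obj (Nmod D))
      ((compIso k₂ (iR R S A) ((iR R S A).comp k₂) (loc_comp k₂ (iR R S A)) (Nmod D)).hom.hom y))

lemma psi1_add (y y' : (extendScalars.{u,u,u} ((iR R S A).comp k₂)).obj (Nmod D)) :
    P.psi1 (y + y') = P.psi1 y + P.psi1 y' := by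
  unfold psi1
  refine (congrArg _ ((congrArg _ (map_add
    (compIso k₂ (iR R S A) ((iR R S A).comp k₂) (loc_comp k₂ (iR R S A)) (Nmod D)).hom.hom
      y y')).trans
    (map_add (psi R S ((extendScalars.{u,u,u} k₂).obj (Nmod D))) _ _))).trans (map_add _ _ _)

set_option backward.isDefEq.respectTransparency false in
lemma psi1_smul (s : S) (y : (extendScalars.{u,u,u} ((iR R S A).comp k₂)).obj (Nmod D)) :
    P.psi1 (iL R S A s • y) = s • P.psi1 y := by
  unfold psi1
  refine (congrArg _ ((congrArg _ (map_smul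
    (compIso k₂ (iR R S A) ((iR R S A).comp k₂) (loc_comp k₂ (iR R S A)) (Nmod D)).hom.hom
      (iL R S A s) y)).trans
    (psi_smul R S ((extendScalars.{u,u,u} k₂).obj (Nmod D)) s _))).trans (map_smul _ _ _)

set_option backward.isDefEq.respectTransparency false in
lemma psi1_bcm (w : (extendScalars.{u,u,u} k₂).obj (Nmod D)) :
    P.psi1 ((bcm k₂ (iR R S A) ((iR R S A).comp k₂) (loc_comp k₂ (iR R S A)) (Nmod D)).hom w) =
      lgmk R S (LG R S (Nmod D)) 1 (P.ps w) := by
  unfold psi1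
  rw [bcm_apply]
  have h3 : (compIso k₂ (iR R S A) ((iR R S A).comp k₂) (loc_comp k₂ (iR R S A)) (Nmod D)).hom.hom
      ((compIso k₂ (iR R S A) ((iR R S A).comp k₂) (loc_comp k₂ (iR R S A)) (Nmod D)).inv.hom
        ((1 : S ⊗[R] A) ⊗ₜ[A, iR R S A] w)) =
      ((1 : S ⊗[R] A) ⊗ₜ[A, iR R S A] w) :=
    congrArg (fun f => f.hom ((1 : S ⊗[R] A) ⊗ₜ[A, iR R S A] w))
      (compIso k₂ (iR R S A) ((iR R S A).comp k₂) (loc_comp k₂ (iR R S A)) (Nmod D)).inv_hom_id
  refine (congrArg _ ((congrArg _ h3).trans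
    (psi_one_tmul R S ((extendScalars.{u,u,u} k₂).obj (Nmod D)) w))).trans ?_
  rfl

set_option backward.isDefEq.respectTransparency false in
lemma psi1_one (n : Nmod D) :
    P.psi1 (((1 : S ⊗[R] A) ⊗ₜ[S, (iR R S A).comp k₂] n :
      (extendScalars.{u,u,u} ((iR R S A).comp k₂)).obj (Nmod D))) =
      lgmk R S (LG R S (Nmod D)) 1 (lgmk R S (Nmod D) 1 n) := by
  rw [← bcm_one_tmul k₂ (iR R S A) ((iR R S A).comp k₂) (loc_comp k₂ (iR R S A)) (Nmod D) n,
    psi1_bcm, P.ps_one]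

/-! ### The two comparison identities -/

section Cmp

omit P in
lemma g_k₁ (g : A →+* S ⊗[R] A) (hg₁ : g.comp k₁ = iL R S A) (s : S) :
    g (k₁ s) = iL R S A s := congrArg (fun f => f s) hg₁

include P in
lemma hc₁₃ : (iL R S A).comp (algebraMap R S) = ((iR R S A).comp k₂).comp (algebraMap R S) := by
  rw [RingHom.comp_assoc, P.hk₂]
  exact iL_comp_algebraMap R S A

include P in
lemma hc₁₂ : (iL R S A).comp (algebraMap R S) = ((iR R S A).comp k₁).comp (algebraMap R S) := by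
  rw [RingHom.comp_assoc, P.hk₁]
  exact iL_comp_algebraMap R S A

include P in
lemma hc₂₃ : ((iR R S A).comp k₁).comp (algebraMap R S) =
    ((iR R S A).comp k₂).comp (algebraMap R S) := by
  rw [RingHom.comp_assoc, RingHom.comp_assoc, P.hc]

set_option backward.isDefEq.respectTransparency false in
/-- second comparison identity: `psi1 ∘ bcm_{g₁₃} = δ ∘ ps` -/
lemma E2 (g : A →+* S ⊗[R] A) (hg₁ : g.comp k₁ = iL R S A)
    (hg₂ : g.comp k₂ = (iR R S A).comp k₂)
    (hl : loc k₂ ≫ loc g = loc ((iR R S A).comp k₂))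
    (w : (extendScalars.{u,u,u} k₂).obj (Nmod D)) :
    P.psi1 ((bcm k₂ g ((iR R S A).comp k₂) hl (Nmod D)).hom w) =
      ((extendScalars.{u,u,u} (algebraMap R S)).map
        ((extendRestrictScalarsAdj.{u,u,u} (algebraMap R S)).unit.app
          ((restrictScalars.{u,u,u} (algebraMap R S)).obj (Nmod D)))).hom (P.ps w) := by
  refine P.gen
    (fun w => P.psi1 ((bcm k₂ g ((iR R S A).comp k₂) hl (Nmod D)).hom w))
    (fun w => ((extendScalars.{u,u,u} (algebraMap R S)).map
        ((extendRestrictScalarsAdj.{u,u,u} (algebraMap R S)).unit.app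
          ((restrictScalars.{u,u,u} (algebraMap R S)).obj (Nmod D)))).hom (P.ps w))
    (fun x y => ?_) (fun x y => ?_) (fun s w => ?_) (fun s w => ?_) (fun n => ?_) w
  · exact (congrArg _ (map_add (bcm k₂ g ((iR R S A).comp k₂) hl (Nmod D)).hom x y)).trans
      (P.psi1_add _ _)
  · exact (congrArg _ (map_add P.ps x y)).trans (map_add _ _ _)
  · refine (congrArg _ (bcm_smul k₂ g ((iR R S A).comp k₂) hl (Nmod D) (k₁ s) w)).trans ?_
    rw [g_k₁ g hg₁]
    exact P.psi1_smul s _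
  · exact (congrArg _ (P.ps_smul s w)).trans (map_smul _ _ _)
  · refine (congrArg _ (bcm_one_tmul k₂ g ((iR R S A).comp k₂) hl (Nmod D) n)).trans ?_
    refine (P.psi1_one n).trans ?_
    refine Eq.trans ?_ (congrArg _ (P.ps_one n)).symm
    rfl

set_option backward.isDefEq.respectTransparency false in
/-- first comparison identity: `psi1 ∘ Dhom(j₂,j₃) ∘ bcm_{g₁₂} = G(a) ∘ ps` -/
lemma E1 (g : A →+* S ⊗[R] A) (hg₁ : g.comp k₁ = iL R S A)
    (hg₂ : g.comp k₂ = (iR R S A).comp k₁)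
    (hl : loc k₂ ≫ loc g = loc ((iR R S A).comp k₁))
    (α : Nmod D ⟶ LG R S (Nmod D))
    (hα : ∀ n : Nmod D, α.hom n = P.ps (theta D k₁ k₂ P.hc n))
    (w : (extendScalars.{u,u,u} k₂).obj (Nmod D)) :
    P.psi1 ((Dhom D ((iR R S A).comp k₁) ((iR R S A).comp k₂) P.hc₂₃).hom
        ((bcm k₂ g ((iR R S A).comp k₁) hl (Nmod D)).hom w)) =
      ((extendScalars.{u,u,u} (algebraMap R S)).map
        ((restrictScalars.{u,u,u} (algebraMap R S)).map α)).hom (P.ps w) := by
  refine P.gen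
    (fun w => P.psi1 ((Dhom D ((iR R S A).comp k₁) ((iR R S A).comp k₂) P.hc₂₃).hom
        ((bcm k₂ g ((iR R S A).comp k₁) hl (Nmod D)).hom w)))
    (fun w => ((extendScalars.{u,u,u} (algebraMap R S)).map
        ((restrictScalars.{u,u,u} (algebraMap R S)).map α)).hom (P.ps w))
    (fun x y => ?_) (fun x y => ?_) (fun s w => ?_) (fun s w => ?_) (fun n => ?_) w
  · exact (congrArg _ ((congrArg _ (map_add
      (bcm k₂ g ((iR R S A).comp k₁) hl (Nmod D)).hom x y)).trans (map_add _ _ _))).trans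
      (P.psi1_add _ _)
  · exact (congrArg _ (map_add P.ps x y)).trans (map_add _ _ _)
  · refine (congrArg _ ((congrArg _
      (bcm_smul k₂ g ((iR R S A).comp k₁) hl (Nmod D) (k₁ s) w)).trans (map_smul _ _ _))).trans ?_
    rw [g_k₁ g hg₁]
    exact P.psi1_smul s _
  · exact (congrArg _ (P.ps_smul s w)).trans (map_smul _ _ _)
  · refine (congrArg _ (congrArg _
      (bcm_one_tmul k₂ g ((iR R S A).comp k₁) hl (Nmod D) n))).trans ?_
    have h1 := theta_nat' D k₁ k₂ P.hc (iR R S A) ((iR R S A).comp k₁) ((iR R S A).comp k₂)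
      rfl rfl P.hc₂₃ (loc_comp k₂ (iR R S A)) n
    change P.psi1 (theta D ((iR R S A).comp k₁) ((iR R S A).comp k₂) P.hc₂₃ n) = _
    rw [h1, psi1_bcm, ← hα]
    refine Eq.trans ?_ (congrArg _ (P.ps_one n)).symm
    rfl

set_option backward.isDefEq.respectTransparency false in
/-- generic coassociativity -/
theorem coassoc_gen (g₁₂ g₁₃ : A →+* S ⊗[R] A)
    (h₁₂₁ : g₁₂.comp k₁ = iL R S A) (h₁₂₂ : g₁₂.comp k₂ = (iR R S A).comp k₁)
    (h₁₃₁ : g₁₃.comp k₁ = iL R S A) (h₁₃₂ : g₁₃.comp k₂ = (iR R S A).comp k₂)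
    (α : Nmod D ⟶ LG R S (Nmod D))
    (hα : ∀ n : Nmod D, α.hom n = P.ps (theta D k₁ k₂ P.hc n)) (n : Nmod D) :
    ((extendScalars.{u,u,u} (algebraMap R S)).map
        ((extendRestrictScalarsAdj.{u,u,u} (algebraMap R S)).unit.app
          ((restrictScalars.{u,u,u} (algebraMap R S)).obj (Nmod D)))).hom (α.hom n) =
      ((extendScalars.{u,u,u} (algebraMap R S)).map
        ((restrictScalars.{u,u,u} (algebraMap R S)).map α)).hom (α.hom n) := by
  have hl₁₃ : loc k₂ ≫ loc g₁₃ = loc ((iR R S A).comp k₂) := by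
    rw [loc_comp, h₁₃₂]
  have hl₁₂ : loc k₂ ≫ loc g₁₂ = loc ((iR R S A).comp k₁) := by
    rw [loc_comp, h₁₂₂]
  rw [hα n, ← P.E2 g₁₃ h₁₃₁ h₁₃₂ hl₁₃, ← P.E1 g₁₂ h₁₂₁ h₁₂₂ hl₁₂ α hα]
  have t13 := theta_nat' D k₁ k₂ P.hc g₁₃ (iL R S A) ((iR R S A).comp k₂) h₁₃₁ h₁₃₂ P.hc₁₃ hl₁₃ n
  have t12 := theta_nat' D k₁ k₂ P.hc g₁₂ (iL R S A) ((iR R S A).comp k₁) h₁₂₁ h₁₂₂ P.hc₁₂ hl₁₂ n
  rw [← t13, ← t12, Dhom_theta D (iL R S A) ((iR R S A).comp k₁) ((iR R S A).comp k₂)
    P.hc₁₂ P.hc₂₃ n]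

end Cmp

end PsData

end Gen

end Groth.Agent.Helper8.FFDesc
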