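import Mathlib
import Groth.Agent.Helper8.FFDesc1
import Groth.Agent.Helper8.FFDesc2
import Groth.Agent.Helper8.FFDesc3
import Groth.Agent.Helper8.FFDesc4

/-!
# Faithfully flat descent for modules: the coalgebra attached to a descent datum
-/

set_option autoImplicit false
set_option linter.unusedSectionVars false
set_option linter.unusedVariables false

universe u

open CategoryTheory Opposite TensorProduct

noncomputable section

namespace Groth.Agent.Helper8.FFDesc

open ModuleCat ChangeOfRings

section Coalg

variable {R S : Type u} [CommRing R] [CommRing S] [Algebra R S] (D : DD R S)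

/-- the inverse base change data for `A = S ⊗_R S` -/
def psData : PsData D (i₁ (R := R) (S := S)) (i₂ (R := R) (S := S)) where
  hk₁ := by
    ext r
    rfl
  hk₂ := (Algebra.TensorProduct.includeRight : S →ₐ[R] S ⊗[R] S).comp_algebraMap
  ps := psi R S (Nmod D)
  ps_smul := psi_smul R S (Nmod D)
  ps_one := psi_one_tmul R S (Nmod D)
  gen := fun u v hua hva hu hv h w =>
    ext_gen' R S (Nmod D) (fun s q => s • q) u v hua hva hu hv h w

set_option backward.isDefEq.respectTransparency false in
lemma coact_coassoc (n : Nmod D) :
    ((extendScalars.{u,u,u} (algebraMap R S)).map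
        ((extendRestrictScalarsAdj.{u,u,u} (algebraMap R S)).unit.app
          ((restrictScalars.{u,u,u} (algebraMap R S)).obj (Nmod D)))).hom ((coactHom D).hom n) =
      ((extendScalars.{u,u,u} (algebraMap R S)).map
        ((restrictScalars.{u,u,u} (algebraMap R S)).map (coactHom D))).hom ((coactHom D).hom n) :=
  (psData D).coassoc_gen g₁₂ g₁₃ g₁₂_comp_i₁ g₁₂_comp_i₂ g₁₃_comp_i₁ g₁₃_comp_i₂ (coactHom D)
    (fun n => rfl) n

/-- the coalgebra attached to a descent datum -/
def coalg : (extendRestrictScalarsAdj.{u,u,u} (algebraMap R S)).toComonad.Coalgebra where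
  A := Nmod D
  a := coactHom D
  counit := coact_counit D
  coassoc := by
    ext n
    exact coact_coassoc D n

end Coalg

end Groth.Agent.Helper8.FFDesc
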