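import Mathlib
import Groth.Agent.Helper8.FFDesc1
import Groth.Agent.Helper8.FFDesc2
import Groth.Agent.Helper8.FFDesc3
import Groth.Agent.Helper8.FFDesc4
import Groth.Agent.Helper8.FFDesc5

/-!
# Faithfully flat descent for modules: effectivity
-/

set_option autoImplicit false
set_option linter.unusedSectionVars false
set_option linter.unusedVariables false

universe u

open CategoryTheory Opposite TensorProduct

noncomputable section

namespace Groth.Agent.Helper8.FFDesc

open ModuleCat ChangeOfRings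

section Final

variable {R S : Type u} [CommRing R] [CommRing S] [Algebra R S]

/-- the adjunction -/
abbrev adj₀ (R S : Type u) [CommRing R] [CommRing S] [Algebra R S] :=
  extendRestrictScalarsAdj.{u,u,u} (algebraMap R S)

lemma comparison_isEquivalence [Module.FaithfullyFlat R S] :
    (Comonad.comparison (adj₀ R S)).IsEquivalence := by
  have hf : (algebraMap R S).FaithfullyFlat :=
    RingHom.faithfullyFlat_algebraMap_iff.mpr inferInstance
  have h1 := ModuleCat.preservesFiniteLimits_extendScalars_of_flat hf.flat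
  have h2 := ModuleCat.reflectsIsomorphisms_extendScalars_of_faithfullyFlat hf
  haveI : Comonad.HasEqualizerOfIsCosplitPair (extendScalars.{u,u,u} (algebraMap R S)) :=
    ⟨inferInstance⟩
  haveI : Comonad.PreservesLimitOfIsCosplitPair (extendScalars.{u,u,u} (algebraMap R S)) :=
    ⟨inferInstance⟩
  exact (Comonad.comonadicOfHasPreservesFSplitEqualizersOfReflectsIsomorphisms (adj₀ R S)).eqv

variable (D : DD R S)

set_option backward.isDefEq.respectTransparency false in
/-- on invariant elements all comparison maps are trivial -/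
lemma theta_of_inv {T : Type u} [CommRing T] (a₁ a₂ : S →+* T)
    (hc : a₁.comp (algebraMap R S) = a₂.comp (algebraMap R S)) (x : Nmod D)
    (hx : theta₀ D x = ((1 : S ⊗[R] S) ⊗ₜ[S, i₂] x : WW R S (Nmod D))) :
    theta D a₁ a₂ hc x = ((1 : T) ⊗ₜ[S,a₂] x : (extendScalars.{u,u,u} a₂).obj (Nmod D)) := by
  letI : Algebra R T := (a₁.comp (algebraMap R S)).toAlgebra
  let α₁ : S →ₐ[R] T := { a₁ with commutes' := fun r => rfl }
  let α₂ : S →ₐ[R] T := { a₂ with commutes' := fun r => (congrArg (fun f => f r) hc).symm }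
  let g : S ⊗[R] S →+* T := (Algebra.TensorProduct.productMap α₁ α₂).toRingHom
  have hg₁ : g.comp i₁ = a₁ := by
    ext s
    simp [g, i₁, iL, α₁]
  have hg₂ : g.comp i₂ = a₂ := by
    ext s
    simp [g, i₂, iR, α₂]
  have hl : loc (i₂ (R := R) (S := S)) ≫ loc g = loc a₂ := by rw [loc_comp, hg₂]
  have h := theta_nat' D i₁ i₂ hc₀ g a₁ a₂ hg₁ hg₂ hc hl x
  rw [h]
  change (bcm i₂ g a₂ hl (Nmod D)).hom (theta₀ D x) = _
  rw [hx]
  exact bcm_one_tmul i₂ g a₂ hl (Nmod D) x

set_option backward.isDefEq.respectTransparency false in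
/-- a morphism of coalgebras from a comparison coalgebra lands in invariants on generators -/
lemma inv_of_hom (M : ModuleCat.{u} R) (f : (Comonad.comparison (adj₀ R S)).obj M ⟶ coalg D)
    (m : M) :
    theta₀ D (f.f.hom (((1 : S) ⊗ₜ[R, algebraMap R S] m :
        (extendScalars.{u,u,u} (algebraMap R S)).obj M))) =
      ((1 : S ⊗[R] S) ⊗ₜ[S, i₂] (f.f.hom (((1 : S) ⊗ₜ[R, algebraMap R S] m :
        (extendScalars.{u,u,u} (algebraMap R S)).obj M))) : WW R S (Nmod D)) := by
  apply psi_injective R S (Nmod D)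
  rw [psi_one_tmul]
  have h := congrArg (fun φ => φ.hom (((1 : S) ⊗ₜ[R, algebraMap R S] m :
        (extendScalars.{u,u,u} (algebraMap R S)).obj M))) f.h
  exact h.symm

set_option backward.isDefEq.respectTransparency false in
/-- the commutation of the candidate isomorphism with the comparison maps -/
lemma comm_key (M : ModuleCat.{u} R)
    (ε : (extendScalars.{u,u,u} (algebraMap R S)).obj M ⟶ Nmod D)
    (hε : ∀ m : M, theta₀ D (ε.hom (((1 : S) ⊗ₜ[R, algebraMap R S] m :
        (extendScalars.{u,u,u} (algebraMap R S)).obj M))) =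
      ((1 : S ⊗[R] S) ⊗ₜ[S, i₂] (ε.hom (((1 : S) ⊗ₜ[R, algebraMap R S] m :
        (extendScalars.{u,u,u} (algebraMap R S)).obj M))) : WW R S (Nmod D)))
    {T : Type u} [CommRing T] (a₁ a₂ : S →+* T)
    (hc : a₁.comp (algebraMap R S) = a₂.comp (algebraMap R S)) (c : R →+* T)
    (h₁ : loc (algebraMap R S) ≫ loc a₁ = loc c) (h₂ : loc (algebraMap R S) ≫ loc a₂ = loc c) :
    (extendScalars.{u,u,u} a₁).map ε ≫ Dhom D a₁ a₂ hc =
      ((compIso (algebraMap R S) a₁ c h₁ M).inv ≫ (compIso (algebraMap R S) a₂ c h₂ M).hom) ≫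
        (extendScalars.{u,u,u} a₂).map ε := by
  rw [← cancel_epi (compIso (algebraMap R S) a₁ c h₁ M).hom, Category.assoc,
    Iso.hom_inv_id_assoc]
  apply ExtendScalars.hom_ext
  intro m
  change (Dhom D a₁ a₂ hc).hom (((extendScalars.{u,u,u} a₁).map ε).hom
      ((compIso (algebraMap R S) a₁ c h₁ M).hom.hom ((1 : T) ⊗ₜ[R, c] m))) =
    ((extendScalars.{u,u,u} a₂).map ε).hom
      ((compIso (algebraMap R S) a₂ c h₂ M).hom.hom ((1 : T) ⊗ₜ[R, c] m))
  rw [compIso_hom_one_tmul, compIso_hom_one_tmul]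
  change theta D a₁ a₂ hc (ε.hom (((1 : S) ⊗ₜ[R, algebraMap R S] m :
        (extendScalars.{u,u,u} (algebraMap R S)).obj M))) = _
  rw [theta_of_inv D a₁ a₂ hc _ (hε m)]
  rfl

set_option backward.isDefEq.respectTransparency false in
theorem nonempty_iso (M : ModuleCat.{u} R)
    (e : (Comonad.comparison (adj₀ R S)).obj M ≅ coalg D) :
    Nonempty ((F.{u}.toDescentData (fun _ : PUnit.{u + 1} => f₀ R S)).obj M ≅ D) := by
  let ε : (extendScalars.{u,u,u} (algebraMap R S)).obj M ≅ Nmod D :=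
    (Comonad.forget _).mapIso e
  have hε : ∀ m : M, theta₀ D (ε.hom.hom (((1 : S) ⊗ₜ[R, algebraMap R S] m :
        (extendScalars.{u,u,u} (algebraMap R S)).obj M))) =
      ((1 : S ⊗[R] S) ⊗ₜ[S, i₂] (ε.hom.hom (((1 : S) ⊗ₜ[R, algebraMap R S] m :
        (extendScalars.{u,u,u} (algebraMap R S)).obj M))) : WW R S (Nmod D)) :=
    fun m => inv_of_hom D M e.hom m
  refine ⟨Pseudofunctor.DescentData.isoMk (fun _ => ε) ?_⟩
  intro Y q i₁ i₂ f₁ f₂ hf₁ hf₂
  obtain ⟨T', rfl⟩ : ∃ T' : CommRingCat.{u}, Y = op T' := ⟨Y.unop, rfl⟩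
  obtain ⟨T, _, rfl⟩ : ∃ (T : Type u) (_ : CommRing T), T' = CommRingCat.of T :=
    ⟨T', inferInstance, rfl⟩
  obtain ⟨a₁, rfl⟩ : ∃ a₁ : S →+* T, f₁ = (CommRingCat.ofHom a₁).op := ⟨f₁.unop.hom, rfl⟩
  obtain ⟨a₂, rfl⟩ : ∃ a₂ : S →+* T, f₂ = (CommRingCat.ofHom a₂).op := ⟨f₂.unop.hom, rfl⟩
  subst hf₁
  have hc : a₁.comp (algebraMap R S) = a₂.comp (algebraMap R S) := by
    have := congrArg (fun x => x.unop.hom) hf₂
    exact this.symm
  rw [hom_eq_Dhom D a₁ a₂ hc _ rfl hf₂]
  have h₂ : loc (algebraMap R S) ≫ loc a₂ = loc (a₁.comp (algebraMap R S)) := by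
    rw [loc_comp, hc]
  exact comm_key D M ε.hom hε a₁ a₂ hc (a₁.comp (algebraMap R S)) (loc_comp _ _) h₂

theorem main [Module.FaithfullyFlat R S] :
    ∃ M : ModuleCat.{u} R,
      Nonempty ((F.{u}.toDescentData (fun _ : PUnit.{u + 1} => f₀ R S)).obj M ≅ D) := by
  haveI := comparison_isEquivalence (R := R) (S := S)
  exact ⟨(Comonad.comparison (adj₀ R S)).objPreimage (coalg D),
    nonempty_iso D _ ((Comonad.comparison (adj₀ R S)).objObjPreimageIso (coalg D))⟩

end Final

end Groth.Agent.Helper8.FFDesc
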