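import Mathlib
import Groth.Agent.Helper5.FtDim4

/-!
# FFDimA: dimensions of quotients under a faithfully flat local homomorphism with
zero-dimensional closed fibre
-/

set_option autoImplicit false
universe u

namespace Groth.Agent.Helper8.FFDim

open IsLocalRing

section

variable {A A' : Type u} [CommRing A] [CommRing A'] [IsLocalRing A] [IsLocalRing A']
  [IsNoetherianRing A] [IsNoetherianRing A'] [Algebra A A']

theorem comap_mk_map_mk {R : Type*} [CommRing R] (I M : Ideal R) (h : I ≤ M) :
    (M.map (Ideal.Quotient.mk I)).comap (Ideal.Quotient.mk I) = M := by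
  rw [Ideal.comap_map_of_surjective _ Ideal.Quotient.mk_surjective, ← RingHom.ker_eq_comap_bot,
    Ideal.mk_ker]
  exact sup_eq_left.2 h

theorem dim_quotient_le
    (hloc : (maximalIdeal A').comap (algebraMap A A') = maximalIdeal A)
    (hfib : ∀ q : Ideal A', q.IsPrime → q.comap (algebraMap A A') = maximalIdeal A →
      q = maximalIdeal A')
    (p' : Ideal A') [p'.IsPrime] (p : Ideal A) [p.IsPrime] [hlo : p'.LiesOver p] :
    ringKrullDim (A' ⧸ p') ≤ ringKrullDim (A ⧸ p) := by
  have hpm : p ≤ maximalIdeal A := le_maximalIdeal (Ideal.IsPrime.ne_top inferInstance)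
  have hpm' : p' ≤ maximalIdeal A' := le_maximalIdeal (Ideal.IsPrime.ne_top inferInstance)
  set MR : Ideal (A ⧸ p) := (maximalIdeal A).map (Ideal.Quotient.mk p) with hMRdef
  set MS : Ideal (A' ⧸ p') := (maximalIdeal A').map (Ideal.Quotient.mk p') with hMSdef
  haveI hMR : MR.IsPrime :=
    Ideal.map_isPrime_of_surjective Ideal.Quotient.mk_surjective (by rwa [Ideal.mk_ker])
  haveI hMS : MS.IsPrime :=
    Ideal.map_isPrime_of_surjective Ideal.Quotient.mk_surjective (by rwa [Ideal.mk_ker])
  have hMRc : MR.comap (Ideal.Quotient.mk p) = maximalIdeal A := comap_mk_map_mk p _ hpm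
  have hMSc : MS.comap (Ideal.Quotient.mk p') = maximalIdeal A' := comap_mk_map_mk p' _ hpm'
  have hmemR : ∀ a : A, Ideal.Quotient.mk p a ∈ MR ↔ a ∈ maximalIdeal A := by
    intro a
    rw [← Ideal.mem_comap, hMRc]
  have hmemS : ∀ a : A', Ideal.Quotient.mk p' a ∈ MS ↔ a ∈ maximalIdeal A' := by
    intro a
    rw [← Ideal.mem_comap, hMSc]
  have halg : ∀ a : A, algebraMap (A ⧸ p) (A' ⧸ p') (Ideal.Quotient.mk p a) =
      Ideal.Quotient.mk p' (algebraMap A A' a) := fun a => rfl
  haveI hLO : MS.LiesOver MR := by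
    constructor
    ext x
    obtain ⟨a, rfl⟩ := Ideal.Quotient.mk_surjective x
    rw [Ideal.under_def, Ideal.mem_comap, halg, hmemR, hmemS, ← hloc, Ideal.mem_comap]
  have h1 := Ideal.height_le_height_add_of_liesOver MR MS
  set J : Ideal (A' ⧸ p') := MR.map (algebraMap (A ⧸ p) (A' ⧸ p')) with hJ
  have hJMS : J ≤ MS := by
    rw [hJ, Ideal.map_le_iff_le_comap]
    exact le_of_eq hLO.over
  set Pbar : Ideal ((A' ⧸ p') ⧸ J) := MS.map (Ideal.Quotient.mk J) with hPbar
  haveI hPbarprime : Pbar.IsPrime :=
    Ideal.map_isPrime_of_surjective Ideal.Quotient.mk_surjective (by rwa [Ideal.mk_ker])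
  have hPbarc : Pbar.comap (Ideal.Quotient.mk J) = MS := comap_mk_map_mk J _ hJMS
  have h0 : Pbar.height = 0 := by
    have h00 : Pbar.height ≤ ((0 : ℕ) : ℕ∞) := by
      rw [Ideal.height_le_iff]
      intro q hq hlt
      exfalso
      set Q : Ideal A' := (q.comap (Ideal.Quotient.mk J)).comap (Ideal.Quotient.mk p') with hQ
      haveI : Q.IsPrime := Ideal.comap_isPrime _ _
      have hQc : Q.comap (algebraMap A A') = maximalIdeal A := by
        apply le_antisymm
        · exact le_maximalIdeal (Ideal.IsPrime.ne_top (Ideal.comap_isPrime _ _))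
        · intro a ha
          rw [Ideal.mem_comap, hQ, Ideal.mem_comap, Ideal.mem_comap, ← halg]
          have h3 : algebraMap (A ⧸ p) (A' ⧸ p') (Ideal.Quotient.mk p a) ∈ J :=
            Ideal.mem_map_of_mem _ ((hmemR a).2 ha)
          rw [Ideal.Quotient.eq_zero_iff_mem.2 h3]
          exact q.zero_mem
      have hQeq := hfib Q inferInstance hQc
      have h4 : q.comap (Ideal.Quotient.mk J) = Pbar.comap (Ideal.Quotient.mk J) := by
        rw [hPbarc]
        apply Ideal.comap_injective_of_surjective (Ideal.Quotient.mk p') Ideal.Quotient.mk_surjective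
        rw [hMSc]
        exact hQeq
      have h5 : q = Pbar :=
        Ideal.comap_injective_of_surjective (Ideal.Quotient.mk J) Ideal.Quotient.mk_surjective h4
      exact hlt.ne h5
    exact le_antisymm h00 bot_le
  rw [h0, add_zero] at h1
  have h2 : ringKrullDim (A' ⧸ p') ≤ MS.height := by
    rw [ringKrullDim_le_iff_height_le]
    intro P hP
    have hPle : P ≤ MS := by
      intro x hx
      obtain ⟨a, rfl⟩ := Ideal.Quotient.mk_surjective x
      rw [hmemS]
      have : a ∈ P.comap (Ideal.Quotient.mk p') := hx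
      exact le_maximalIdeal (Ideal.IsPrime.ne_top (Ideal.comap_isPrime _ _)) this
    exact_mod_cast Ideal.height_mono hPle
  exact h2.trans ((WithBot.coe_le_coe.2 h1).trans Ideal.height_le_ringKrullDim_of_isPrime)

end

section Eq

variable {A A' : Type u} [CommRing A] [CommRing A'] [IsLocalRing A] [IsLocalRing A']
  [IsNoetherianRing A] [IsNoetherianRing A'] [Algebra A A'] [Module.FaithfullyFlat A A']

theorem comap_maximalIdeal
    (hfib : ∀ q : Ideal A', q.IsPrime → q.comap (algebraMap A A') = maximalIdeal A →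
      q = maximalIdeal A') :
    (maximalIdeal A').comap (algebraMap A A') = maximalIdeal A := by
  obtain ⟨q, hq⟩ := PrimeSpectrum.comap_surjective_of_faithfullyFlat (A := A) (B := A')
    (IsLocalRing.closedPoint A)
  have h1 : q.asIdeal.comap (algebraMap A A') = maximalIdeal A :=
    congrArg PrimeSpectrum.asIdeal hq
  have h2 := hfib q.asIdeal q.2 h1
  rw [← h2]
  exact h1

theorem exists_dim_quotient_eq
    (hfib : ∀ q : Ideal A', q.IsPrime → q.comap (algebraMap A A') = maximalIdeal A →
      q = maximalIdeal A')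
    (p : Ideal A) [hp : p.IsPrime] :
    ∃ p' : Ideal A', ∃ _ : p'.IsPrime, p'.comap (algebraMap A A') = p ∧
      ringKrullDim (A' ⧸ p') = ringKrullDim (A ⧸ p) := by
  have hloc := comap_maximalIdeal hfib
  -- a chain realising the coheight of `p`
  have hfin : Order.coheight (⟨p, hp⟩ : PrimeSpectrum A) ≠ ⊤ := by
    intro h
    have h1 := Groth.Agent.Helper5.FtDim.ringKrullDim_quotient_eq_coheight (⟨p, hp⟩ : PrimeSpectrum A)
    rw [h] at h1
    have h2 : ringKrullDim (A ⧸ p) < ⊤ :=
      lt_of_le_of_lt (ringKrullDim_le_of_surjective (Ideal.Quotient.mk p)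
        Ideal.Quotient.mk_surjective) ringKrullDim_lt_top
    rw [show ringKrullDim (A ⧸ (⟨p, hp⟩ : PrimeSpectrum A).asIdeal) = ringKrullDim (A ⧸ p) from rfl]
      at h1
    rw [h1] at h2
    exact lt_irrefl _ h2
  obtain ⟨n, hn⟩ := ENat.ne_top_iff_exists.1 hfin
  obtain ⟨l, hl1, hl2⟩ := Order.exists_series_of_coheight_eq_coe (⟨p, hp⟩ : PrimeSpectrum A) hn.symm
  obtain ⟨P, hP⟩ := PrimeSpectrum.comap_surjective_of_faithfullyFlat (A := A) (B := A') l.last
  haveI : P.asIdeal.LiesOver l.last.asIdeal := ⟨(congrArg PrimeSpectrum.asIdeal hP).symm⟩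
  obtain ⟨L, hL1, hL2, hL3⟩ := Ideal.exists_ltSeries_of_hasGoingDown l P.asIdeal
  have hhead : PrimeSpectrum.comap (algebraMap A A') L.head = l.head := by
    have h0 : (List.map (PrimeSpectrum.comap (algebraMap A A')) L.toList)[0]'(by
        rw [List.length_map, RelSeries.length_toList]; omega) = l.toList[0]'(by
        rw [RelSeries.length_toList]; omega) := by
      congr 1
    rw [List.getElem_map, RelSeries.toList_getElem_zero_eq_head,
      RelSeries.toList_getElem_zero_eq_head] at h0
    exact h0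
  refine ⟨L.head.asIdeal, L.head.2, ?_, ?_⟩
  · have := congrArg PrimeSpectrum.asIdeal hhead
    rw [hl1] at this
    exact this
  · haveI : L.head.asIdeal.LiesOver p := by
      constructor
      have := congrArg PrimeSpectrum.asIdeal hhead
      rw [hl1] at this
      exact this.symm
    apply le_antisymm (dim_quotient_le hloc hfib L.head.asIdeal p)
    have h1 := Groth.Agent.Helper5.FtDim.ringKrullDim_quotient_eq_coheight (⟨p, hp⟩ : PrimeSpectrum A)
    have h2 := Groth.Agent.Helper5.FtDim.ringKrullDim_quotient_eq_coheight L.head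
    change ringKrullDim (A ⧸ p) = _ at h1
    rw [h1, h2, ← hn]
    have h3 : (L.length : ℕ∞) ≤ Order.coheight L.head := Order.length_le_coheight_head
    rw [hL1, hl2] at h3
    exact_mod_cast h3

end Eq

end Groth.Agent.Helper8.FFDim
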