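import Mathlib
import Groth.Agent.Helper8.FFDimA
import Groth.Agent.Helper5.FibBC3

/-!
# FFDimB: the invariant `δ` under a faithfully flat local base change (S5196)
-/

set_option autoImplicit false
universe u

open CategoryTheory CategoryTheory.Limits AlgebraicGeometry Opposite

namespace Groth.Agent.Helper8.FFDim

open Groth.Agent.Helper5

set_option maxHeartbeats 1000000 in
theorem s5196 (A A' : Type u) [CommRing A] [CommRing A'] [IsLocalRing A] [IsLocalRing A']
    [IsNoetherianRing A] [IsNoetherianRing A'] [Algebra A A'] [Module.FaithfullyFlat A A']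
    (hfib : ∀ q : Ideal A', ∀ _ : q.IsPrime,
      q.comap (algebraMap A A') = IsLocalRing.maximalIdeal A → q = IsLocalRing.maximalIdeal A')
    (X : Scheme.{u}) (f : X ⟶ (Spec (CommRingCat.of A))) [LocallyOfFiniteType f] :
    (∀ x' : ↥(pullback f (Spec.map (CommRingCat.ofHom (algebraMap A A')))),
      @Algebra.trdeg ↑((Spec (CommRingCat.of A')).residueField
          ((pullback.snd f (Spec.map (CommRingCat.ofHom (algebraMap A A')))).base x'))
        ↑((pullback f (Spec.map (CommRingCat.ofHom (algebraMap A A')))).residueField x') _ _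
        ((pullback.snd f (Spec.map (CommRingCat.ofHom (algebraMap A A')))).residueFieldMap
          x').hom.toAlgebra ≤
      @Algebra.trdeg ↑((Spec (CommRingCat.of A)).residueField
          (f.base ((pullback.fst f (Spec.map (CommRingCat.ofHom (algebraMap A A')))).base x')))
        ↑(X.residueField
          ((pullback.fst f (Spec.map (CommRingCat.ofHom (algebraMap A A')))).base x')) _ _
        (f.residueFieldMap
          ((pullback.fst f (Spec.map (CommRingCat.ofHom (algebraMap A A')))).base x')).hom.toAlgebra ∧
      ringKrullDim (A' ⧸ ((pullback.snd f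
          (Spec.map (CommRingCat.ofHom (algebraMap A A')))).base x').asIdeal) ≤
        ringKrullDim (A ⧸ (f.base ((pullback.fst f
          (Spec.map (CommRingCat.ofHom (algebraMap A A')))).base x')).asIdeal)) ∧
    (∀ x : X, ∃ x' : ↥(pullback f (Spec.map (CommRingCat.ofHom (algebraMap A A')))),
      (pullback.fst f (Spec.map (CommRingCat.ofHom (algebraMap A A')))).base x' = x ∧
      @Algebra.trdeg ↑((Spec (CommRingCat.of A')).residueField
          ((pullback.snd f (Spec.map (CommRingCat.ofHom (algebraMap A A')))).base x'))
        ↑((pullback f (Spec.map (CommRingCat.ofHom (algebraMap A A')))).residueField x') _ _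
        ((pullback.snd f (Spec.map (CommRingCat.ofHom (algebraMap A A')))).residueFieldMap
          x').hom.toAlgebra =
      @Algebra.trdeg ↑((Spec (CommRingCat.of A)).residueField
          (f.base ((pullback.fst f (Spec.map (CommRingCat.ofHom (algebraMap A A')))).base x')))
        ↑(X.residueField
          ((pullback.fst f (Spec.map (CommRingCat.ofHom (algebraMap A A')))).base x')) _ _
        (f.residueFieldMap
          ((pullback.fst f (Spec.map (CommRingCat.ofHom (algebraMap A A')))).base x')).hom.toAlgebra ∧
      ringKrullDim (A' ⧸ ((pullback.snd f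
          (Spec.map (CommRingCat.ofHom (algebraMap A A')))).base x').asIdeal) =
        ringKrullDim (A ⧸ (f.base ((pullback.fst f
          (Spec.map (CommRingCat.ofHom (algebraMap A A')))).base x')).asIdeal)) := by
  obtain ⟨g, hg⟩ : ∃ g : Spec (CommRingCat.of A') ⟶ Spec (CommRingCat.of A),
      g = Spec.map (CommRingCat.ofHom (algebraMap A A')) := ⟨_, rfl⟩
  rw [← hg]
  have hsq : IsPullback (pullback.fst f g) (pullback.snd f g) f g := IsPullback.of_hasPullback f g
  have hloc := comap_maximalIdeal hfib
  have hgbase : ∀ s' : ↥(Spec (CommRingCat.of A')),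
      (g.base s').asIdeal = s'.asIdeal.comap (algebraMap A A') := by
    intro s'
    rw [hg]
    rfl
  have hcomm : ∀ x' : ↥(pullback f g),
      f.base ((pullback.fst f g).base x') = g.base ((pullback.snd f g).base x') := by
    intro x'
    have h1 := congrArg (fun ψ : pullback f g ⟶ Spec (CommRingCat.of A) => ψ.base x') hsq.w
    simpa using h1
  refine ⟨fun x' => ⟨?_, ?_⟩, fun x => ?_⟩
  · obtain ⟨k, n, k', n', hk, hn, hk', hn', hsum, hle⟩ :=
      FibBC.invariants_of_isPullback f g _ _ hsq x'
    rw [FibBC.resTrdeg_eq] at hn hn'
    have hn1 : @Algebra.trdeg ↑((Spec (CommRingCat.of A)).residueField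
          (f.base ((pullback.fst f g).base x')))
        ↑(X.residueField ((pullback.fst f g).base x')) _ _
        (f.residueFieldMap ((pullback.fst f g).base x')).hom.toAlgebra = (n : Cardinal.{u}) := hn
    have hn2 : @Algebra.trdeg ↑((Spec (CommRingCat.of A')).residueField
          ((pullback.snd f g).base x'))
        ↑((pullback f g).residueField x') _ _
        ((pullback.snd f g).residueFieldMap x').hom.toAlgebra = (n' : Cardinal.{u}) := hn'
    rw [hn1, hn2]
    have : n' ≤ n := by omega
    exact_mod_cast this
  · haveI : ((pullback.snd f g).base x').asIdeal.LiesOver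
        (f.base ((pullback.fst f g).base x')).asIdeal := by
      constructor
      rw [hcomm x', hgbase]
    exact dim_quotient_le hloc hfib _ _
  · obtain ⟨p', hp', hp'c, hdim⟩ := exists_dim_quotient_eq hfib (f.base x).asIdeal
    have hu : f.base x = g.base (⟨p', hp'⟩ : PrimeSpectrum A') := by
      apply PrimeSpectrum.ext
      rw [hgbase]
      exact hp'c.symm
    obtain ⟨x', hx1, hx2, hx3⟩ :=
      FibBC.exists_lift_resTrdeg_eq f g _ _ hsq x (⟨p', hp'⟩ : PrimeSpectrum A') hu
    have hx1' : (pullback.fst f g).base x' = x := hx1
    have hx2' : (pullback.snd f g).base x' = (⟨p', hp'⟩ : PrimeSpectrum A') := hx2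
    subst hx1'
    refine ⟨x', rfl, ?_, ?_⟩
    · rw [FibBC.resTrdeg_eq, FibBC.resTrdeg_eq] at hx3
      exact hx3
    · rw [hx2']
      exact hdim
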