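import Mathlib

/-!
# Canonical coefficients in a base change of a finite projective algebra

`B` a finite projective `A`-algebra with "dual basis" `(b j, l j)`, `R = B ⊗_A C` a pushout.  Every
element of `R` is uniquely `∑ b_j c_j` with `c` fixed by the idempotent matrix `(l k (b j))`.
-/

set_option autoImplicit false
universe u

namespace Groth.Agent.Helper8.FLFSec

open CategoryTheory CategoryTheory.Limits TensorProduct

section algebra

theorem existsUnique_coeff {A B C R : Type u} [CommRing A] [CommRing B] [CommRing C] [CommRing R]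
    [Algebra A B] [Algebra A C] [Algebra B R] [Algebra C R] [Algebra A R]
    [IsScalarTower A B R] [IsScalarTower A C R] [Algebra.IsPushout A B C R]
    {n : ℕ} (b : Fin n → B) (l : Fin n → (B →ₗ[A] A)) (hbl : ∀ x : B, ∑ j, l j x • b j = x)
    (r : R) :
    ∃! c : Fin n → C, (∀ k, c k = ∑ j, algebraMap A C (l k (b j)) * c j) ∧
      r = ∑ j, algebraMap B R (b j) * algebraMap C R (c j) := by
  classical
  let e := Algebra.IsPushout.equiv A B C R
  have he : ∀ (x : B) (y : C), e (x ⊗ₜ[A] y) = algebraMap B R x * algebraMap C R y :=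
    fun x y => Algebra.IsPushout.equiv_tmul A B C R x y
  let Λ : Fin n → (B ⊗[A] C →ₗ[A] C) :=
    fun k => TensorProduct.lift ((LinearMap.lsmul A C).comp (l k))
  have hΛ : ∀ k (x : B) (y : C), Λ k (x ⊗ₜ[A] y) = l k x • y := fun k x y => by
    simp [Λ]
  have hrep : ∀ z : B ⊗[A] C, ∃ c' : Fin n → C, z = ∑ j, b j ⊗ₜ[A] c' j := by
    intro z
    induction z using TensorProduct.induction_on with
    | zero => exact ⟨0, by simp⟩
    | tmul x y =>
      refine ⟨fun j => l j x • y, ?_⟩
      calc x ⊗ₜ[A] y = (∑ j, l j x • b j) ⊗ₜ[A] y := by rw [hbl]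
        _ = ∑ j, (l j x • b j) ⊗ₜ[A] y := TensorProduct.sum_tmul _ _ _
        _ = ∑ j, b j ⊗ₜ[A] (l j x • y) := by simp only [TensorProduct.smul_tmul]
    | add z z' hz hz' =>
      obtain ⟨c, hc⟩ := hz
      obtain ⟨c', hc'⟩ := hz'
      refine ⟨c + c', ?_⟩
      rw [hc, hc', ← Finset.sum_add_distrib]
      simp [TensorProduct.tmul_add]
  have hE : ∀ k m, ∑ j, l k (b j) * l j (b m) = l k (b m) := by
    intro k m
    have h1 := congrArg (l k) (hbl (b m))
    rw [map_sum] at h1
    rw [← h1]
    refine Finset.sum_congr rfl fun j _ => ?_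
    rw [map_smul, smul_eq_mul, mul_comm]
  have hcan : ∀ (c : Fin n → C), (∀ k, c k = ∑ j, algebraMap A C (l k (b j)) * c j) →
      ∀ k, Λ k (∑ j, b j ⊗ₜ[A] c j) = c k := by
    intro c hc k
    rw [map_sum, hc k]
    refine Finset.sum_congr rfl fun j _ => ?_
    rw [hΛ, Algebra.smul_def]
  refine existsUnique_of_exists_of_unique ?_ ?_
  · obtain ⟨c', hc'⟩ := hrep (e.symm r)
    refine ⟨fun k => ∑ j, algebraMap A C (l k (b j)) * c' j, fun k => ?_, ?_⟩
    · -- canonical
      simp only [Finset.mul_sum]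
      rw [Finset.sum_comm]
      refine Finset.sum_congr rfl fun j _ => ?_
      rw [← hE k j, map_sum, Finset.sum_mul]
      refine Finset.sum_congr rfl fun m _ => ?_
      rw [map_mul, mul_assoc]
    · have h2 : ∑ k, b k ⊗ₜ[A] (∑ j, algebraMap A C (l k (b j)) * c' j) = e.symm r := by
        rw [hc']
        simp only [TensorProduct.tmul_sum]
        rw [Finset.sum_comm]
        refine Finset.sum_congr rfl fun j _ => ?_
        calc ∑ k, b k ⊗ₜ[A] (algebraMap A C (l k (b j)) * c' j)
            = ∑ k, (l k (b j) • b k) ⊗ₜ[A] c' j := by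
              refine Finset.sum_congr rfl fun k _ => ?_
              rw [← Algebra.smul_def, TensorProduct.smul_tmul]
          _ = (∑ k, l k (b j) • b k) ⊗ₜ[A] c' j := (TensorProduct.sum_tmul _ _ _).symm
          _ = b j ⊗ₜ[A] c' j := by rw [hbl]
      have h3 := congrArg e h2
      rw [AlgEquiv.apply_symm_apply, map_sum] at h3
      rw [← h3]
      refine Finset.sum_congr rfl fun k _ => ?_
      rw [he]
  · rintro c d ⟨hc, hrc⟩ ⟨hd, hrd⟩
    have h1 : e (∑ j, b j ⊗ₜ[A] c j) = e (∑ j, b j ⊗ₜ[A] d j) := by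
      rw [map_sum, map_sum]
      simp only [he]
      rw [← hrc, ← hrd]
    have h2 := e.injective h1
    funext k
    rw [← hcan c hc k, ← hcan d hd k, h2]

theorem existsUnique_coeff_of_isPushout {A B C R : CommRingCat.{u}} {φ : A ⟶ B} {ψ : A ⟶ C}
    {β : B ⟶ R} {α : C ⟶ R} (hpo : IsPushout φ ψ β α) {n : ℕ} (b : Fin n → B)
    (l : Fin n → (B →+ A)) (hl : ∀ k (a : A) (x : B), l k (φ.hom a * x) = a * l k x)
    (hbl : ∀ x : B, ∑ j, φ.hom (l j x) * b j = x) (r : R) :
    ∃! c : Fin n → C, (∀ k, c k = ∑ j, ψ.hom (l k (b j)) * c j) ∧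
      r = ∑ j, β.hom (b j) * α.hom (c j) := by
  letI : Algebra A B := φ.hom.toAlgebra
  letI : Algebra A C := ψ.hom.toAlgebra
  letI : Algebra B R := β.hom.toAlgebra
  letI : Algebra C R := α.hom.toAlgebra
  letI : Algebra A R := (β.hom.comp φ.hom).toAlgebra
  haveI : IsScalarTower A B R := IsScalarTower.of_algebraMap_eq (fun _ => rfl)
  haveI : IsScalarTower A C R := IsScalarTower.of_algebraMap_eq
    (fun a => congrArg (fun k => k.hom a) hpo.w)
  have hP : Algebra.IsPushout A B C R := CommRingCat.isPushout_iff_isPushout.mp hpo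
  let l' : Fin n → (B →ₗ[A] A) := fun k =>
    { toFun := l k
      map_add' := map_add _
      map_smul' := fun a x => by
        show l k (a • x) = a • l k x
        rw [Algebra.smul_def, smul_eq_mul]
        exact hl k a x }
  exact existsUnique_coeff (A := A) (B := B) (C := C) (R := R) b l'
    (fun x => by
      simp only [Algebra.smul_def]
      exact hbl x) r

end algebra

end Groth.Agent.Helper8.FLFSec
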