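import Groth.Agent.Helper8.FLFSecA
import Groth.Agent.Helper1.ClopenIdem1

/-!
# Functions on the base change of a finite locally free scheme

`q : W ⟶ S` finite, flat, locally of finite presentation; `f : X ⟶ S` with `O_S → f_* O_X` bijective;
`P = W ×_S X`.  Then `O_W → (p1)_* O_P` is bijective on all opens `q⁻¹ U`.
-/

set_option autoImplicit false
universe u

namespace Groth.Agent.Helper8.FLFSec

open CategoryTheory CategoryTheory.Limits AlgebraicGeometry Opposite TopologicalSpace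
open Groth.Agent.Helper1.CC

/-- "dual basis" of a finite flat finitely presented ring map -/
lemma exists_dualBasis {A B : Type u} [CommRing A] [CommRing B] (φ : A →+* B) (hfin : φ.Finite)
    (hflat : φ.Flat) (hfp : φ.FinitePresentation) :
    ∃ (n : ℕ) (b : Fin n → B) (l : Fin n → (B →+ A)),
      (∀ k (a : A) (x : B), l k (φ a * x) = a * l k x) ∧ ∀ x : B, ∑ j, φ (l j x) * b j = x := by
  classical
  algebraize [φ]
  haveI : Module.FinitePresentation A B :=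
    Module.FinitePresentation.of_finite_of_finitePresentation A B
  haveI : Module.Projective A B := Module.Flat.projective_of_finitePresentation
  obtain ⟨n, f', g, -, -, hfg⟩ := Module.Finite.exists_comp_eq_id_of_projective A B
  refine ⟨n, fun j => f' (fun j' => if j = j' then 1 else 0),
    fun k => ((LinearMap.proj k).comp g).toAddMonoidHom, fun k a x => ?_, fun x => ?_⟩
  · show g (φ a * x) k = a * g x k
    have : φ a * x = a • x := (Algebra.smul_def a x).symm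
    rw [this, map_smul]
    rfl
  · have h1 : f' (g x) = x := congrArg (fun m => m x) hfg
    have h2 := LinearMap.pi_apply_eq_sum_univ f' (g x)
    calc _ = ∑ j, g x j • f' (fun j' => if j = j' then 1 else 0) := by
          refine Finset.sum_congr rfl fun j _ => ?_
          exact (Algebra.smul_def _ _).symm
      _ = f' (g x) := h2.symm
      _ = x := h1

variable {X S W P : Scheme.{u}} {f : X ⟶ S} {q : W ⟶ S} {p1 : P ⟶ W} {p2 : P ⟶ X}
  (H : IsPullback p1 p2 q f)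

include H in
lemma apply_eq (z : P) : q (p1 z) = f (p2 z) := by
  rw [← Scheme.Hom.comp_apply, ← Scheme.Hom.comp_apply, H.w]

include H in
lemma preimage_eq (U : S.Opens) : p2 ⁻¹ᵁ (f ⁻¹ᵁ U) = p1 ⁻¹ᵁ (q ⁻¹ᵁ U) := by
  rw [← Scheme.Hom.comp_preimage, ← Scheme.Hom.comp_preimage, H.w]

include H in
lemma preimage_le {U : S.Opens} {V : X.Opens} (hVU : V ≤ f ⁻¹ᵁ U) :
    p2 ⁻¹ᵁ V ≤ p1 ⁻¹ᵁ (q ⁻¹ᵁ U) := by
  rw [← preimage_eq H U]
  exact p2.preimage_mono hVU

include H in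
lemma isPushout_appLE [IsAffineHom q] {U : S.Opens} (hU : IsAffineOpen U) {V : X.Opens}
    (hV : IsAffineOpen V) (hVU : V ≤ f ⁻¹ᵁ U) :
    IsPushout (q.app U) (f.appLE U V hVU)
      (p1.appLE (q ⁻¹ᵁ U) (p2 ⁻¹ᵁ V) (preimage_le H hVU)) (p2.app V) := by
  have hUY : p2 ⁻¹ᵁ V = p1 ⁻¹ᵁ (q ⁻¹ᵁ U) ⊓ p2 ⁻¹ᵁ V :=
    (inf_eq_right.mpr (preimage_le H hVU)).symm
  have hW : IsAffineOpen (q ⁻¹ᵁ U) := hU.preimage q
  haveI := isIso_pushoutSection_of_isAffineOpen H hVU (le_refl (q ⁻¹ᵁ U)) hUY hU hV hW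
  have h := (isIso_pushoutSection_iff H hVU (le_refl (q ⁻¹ᵁ U)) hUY).mp inferInstance
  rw [Scheme.Hom.appLE_eq_app] at h
  have h2 : p2.appLE V (p2 ⁻¹ᵁ V) (le_refl _) = p2.app V :=
    Scheme.Hom.appLE_eq_app p2
  rw [h2] at h
  exact h

section core

variable [IsFinite q] [Flat q] [LocallyOfFinitePresentation q]
  {U : S.Opens} (hU : IsAffineOpen U)

/-- restriction of `appLE` in the source -/
lemma appLE_ρ {Y Z : Scheme.{u}} (g : Y ⟶ Z) {U : Z.Opens} {V V' : Y.Opens} (e : V ≤ g ⁻¹ᵁ U)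
    (h : V' ≤ V) (a : Γ(Z, U)) :
    ρ h ((g.appLE U V e).hom a) = (g.appLE U V' (h.trans e)).hom a := by
  have := g.appLE_map e (homOfLE h).op
  exact congrArg (fun m => m.hom a) this

/-- `app` commutes with restriction -/
lemma app_ρ {Y Z : Scheme.{u}} (g : Y ⟶ Z) {V V' : Z.Opens} (h : V' ≤ V) (a : Γ(Z, V)) :
    (g.app V').hom (ρ h a) = ρ (g.preimage_mono h) ((g.app V).hom a) := by
  have := g.naturality (homOfLE h).op
  exact congrArg (fun m => m.hom a) this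

lemma appLE_eq_ρ {Y Z : Scheme.{u}} (g : Y ⟶ Z) {U : Z.Opens} {V : Y.Opens} (e : V ≤ g ⁻¹ᵁ U)
    (a : Γ(Z, U)) : (g.appLE U V e).hom a = ρ e ((g.app U).hom a) := rfl

include H hU in
theorem bijective_app_of_isAffineOpen (hfU : Function.Bijective (f.app U)) :
    Function.Bijective (p1.app (q ⁻¹ᵁ U)) := by
  classical
  have hWU : IsAffineOpen (q ⁻¹ᵁ U) := hU.preimage q
  have hflat : (q.app U).hom.Flat := by
    have := q.flat_appLE hU hWU le_rfl
    rwa [Scheme.Hom.appLE_eq_app] at this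
  have hfp : (q.app U).hom.FinitePresentation := by
    have := q.finitePresentation_appLE hU hWU le_rfl
    rwa [Scheme.Hom.appLE_eq_app] at this
  obtain ⟨n, b, l, hl, hbl⟩ := exists_dualBasis (q.app U).hom (q.finite_app U hU) hflat hfp
  -- notation
  let ψ : ∀ (V : X.Opens) (hVU : V ≤ f ⁻¹ᵁ U), Γ(S, U) →+* Γ(X, V) :=
    fun V hVU => (f.appLE U V hVU).hom
  let β : ∀ (V : X.Opens) (hVU : V ≤ f ⁻¹ᵁ U), Γ(W, q ⁻¹ᵁ U) →+* Γ(P, p2 ⁻¹ᵁ V) :=
    fun V hVU => (p1.appLE (q ⁻¹ᵁ U) (p2 ⁻¹ᵁ V) (preimage_le H hVU)).hom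
  let α : ∀ (V : X.Opens), Γ(X, V) →+* Γ(P, p2 ⁻¹ᵁ V) := fun V => (p2.app V).hom
  have hβφ : ∀ (V : X.Opens) (hVU : V ≤ f ⁻¹ᵁ U) (a : Γ(S, U)),
      β V hVU ((q.app U).hom a) = α V (ψ V hVU a) := by
    intro V hVU a
    show (p1.appLE (q ⁻¹ᵁ U) (p2 ⁻¹ᵁ V) (preimage_le H hVU)).hom ((q.app U).hom a) =
      (p2.app V).hom ((f.appLE U V hVU).hom a)
    have h1 : q.app U ≫ p1.appLE (q ⁻¹ᵁ U) (p2 ⁻¹ᵁ V) (preimage_le H hVU) =
        f.appLE U V hVU ≫ p2.app V := by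
      rw [← Scheme.Hom.comp_appLE, p2.app_eq_appLE, Scheme.Hom.appLE_comp_appLE]
      congr 1
      exact H.w
    exact congrArg (fun m => m.hom a) h1
  -- the two predicates
  let Can : ∀ (V : X.Opens) (hVU : V ≤ f ⁻¹ᵁ U), (Fin n → Γ(X, V)) → Prop :=
    fun V hVU c => ∀ k, c k = ∑ j, ψ V hVU (l k (b j)) * c j
  let Rep : ∀ (V : X.Opens) (hVU : V ≤ f ⁻¹ᵁ U), (Fin n → Γ(X, V)) → Γ(P, p2 ⁻¹ᵁ V) → Prop :=
    fun V hVU c r => r = ∑ j, β V hVU (b j) * α V (c j)
  have hP : ∀ (V : X.Opens) (hV : IsAffineOpen V) (hVU : V ≤ f ⁻¹ᵁ U) (r : Γ(P, p2 ⁻¹ᵁ V)),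
      ∃! c : Fin n → Γ(X, V), Can V hVU c ∧ Rep V hVU c r := fun V hV hVU r =>
    existsUnique_coeff_of_isPushout (isPushout_appLE H hU hV hVU) b l hl hbl r
  -- restriction of representations
  have hres : ∀ (V V' : X.Opens) (hVU : V ≤ f ⁻¹ᵁ U) (h : V' ≤ V) (c : Fin n → Γ(X, V))
      (r : Γ(P, p2 ⁻¹ᵁ V)), Can V hVU c → Rep V hVU c r →
      Can V' (h.trans hVU) (fun j => ρ h (c j)) ∧
        Rep V' (h.trans hVU) (fun j => ρ h (c j)) (ρ (p2.preimage_mono h) r) := by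
    intro V V' hVU h c r hc hr
    constructor
    · intro k
      show ρ h (c k) = ∑ j, (f.appLE U V' (h.trans hVU)).hom (l k (b j)) * ρ h (c j)
      rw [hc k, map_sum]
      refine Finset.sum_congr rfl fun j _ => ?_
      rw [map_mul]
      congr 1
      exact appLE_ρ f hVU h _
    · show ρ (p2.preimage_mono h) r = ∑ j,
        (p1.appLE (q ⁻¹ᵁ U) (p2 ⁻¹ᵁ V') (preimage_le H (h.trans hVU))).hom (b j) *
          (p2.app V').hom (ρ h (c j))
      rw [hr, map_sum]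
      refine Finset.sum_congr rfl fun j _ => ?_
      rw [map_mul]
      congr 1
      · exact appLE_ρ p1 (preimage_le H hVU) (p2.preimage_mono h) _
      · exact (app_ρ p2 h (c j)).symm
  -- canonical coefficients of elements of `B`
  have hB : ∀ (V : X.Opens) (hVU : V ≤ f ⁻¹ᵁ U) (x : Γ(W, q ⁻¹ᵁ U)),
      Can V hVU (fun j => ψ V hVU (l j x)) ∧ Rep V hVU (fun j => ψ V hVU (l j x)) (β V hVU x) := by
    intro V hVU x
    constructor
    · intro k
      show ψ V hVU (l k x) = ∑ j, ψ V hVU (l k (b j)) * ψ V hVU (l j x)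
      have hx : l k x = ∑ j, l k (b j) * l j x := by
        have h0 := congrArg (l k) (hbl x)
        rw [map_sum] at h0
        rw [← h0]
        refine Finset.sum_congr rfl fun j _ => ?_
        rw [hl, mul_comm]
      rw [hx, map_sum]
      refine Finset.sum_congr rfl fun j _ => ?_
      rw [map_mul]
    · show β V hVU x = ∑ j, β V hVU (b j) * α V (ψ V hVU (l j x))
      have h0 := congrArg (β V hVU) (hbl x)
      rw [map_sum] at h0
      rw [← h0]
      refine Finset.sum_congr rfl fun j _ => ?_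
      rw [map_mul, hβφ, mul_comm]
  have hzero : ∀ (V : X.Opens) (hVU : V ≤ f ⁻¹ᵁ U),
      Can V hVU (fun _ => 0) ∧ Rep V hVU (fun _ => 0) 0 := by
    intro V hVU
    constructor
    · intro k
      simp
    · show (0 : Γ(P, p2 ⁻¹ᵁ V)) = ∑ j, β V hVU (b j) * α V 0
      simp
  have hcoverX : ∀ x ∈ f ⁻¹ᵁ U, ∃ V : X.Opens, IsAffineOpen V ∧ V ≤ f ⁻¹ᵁ U ∧ x ∈ V := by
    intro x hx
    obtain ⟨_, ⟨V, hV, rfl⟩, hxV, hVU⟩ :=
      X.isBasis_affineOpens.exists_subset_of_mem_open hx (f ⁻¹ᵁ U).2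
    exact ⟨V, hV, hVU, hxV⟩
  have hβρ : ∀ (V : X.Opens) (hVU : V ≤ f ⁻¹ᵁ U) (x : Γ(W, q ⁻¹ᵁ U)),
      β V hVU x = ρ (preimage_le H hVU) ((p1.app (q ⁻¹ᵁ U)).hom x) := fun V hVU x => rfl
  constructor
  · -- injectivity
    rw [injective_iff_map_eq_zero]
    intro x hx
    have hx' : (p1.app (q ⁻¹ᵁ U)).hom x = 0 := hx
    have hlx : ∀ j, l j x = 0 := by
      intro j
      apply hfU.1
      rw [map_zero]
      apply eq_of_locally
      intro y hy
      obtain ⟨V, hV, hVU, hyV⟩ := hcoverX y hy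
      refine ⟨V, hVU, hyV, ?_⟩
      rw [map_zero]
      have h1 := hB V hVU x
      have h2 : β V hVU x = 0 := by rw [hβρ V hVU x, hx', map_zero]
      rw [h2] at h1
      have h3 := (hP V hV hVU 0).unique h1 (hzero V hVU)
      exact congrFun h3 j
    rw [← hbl x]
    refine Finset.sum_eq_zero fun j _ => ?_
    rw [hlx j, map_zero, zero_mul]
  · -- surjectivity
    intro σ
    let I := {V : X.affineOpens // V.1 ≤ f ⁻¹ᵁ U}
    let r : ∀ i : I, Γ(P, p2 ⁻¹ᵁ i.1.1) := fun i => ρ (preimage_le H i.2) σ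
    let c : ∀ i : I, Fin n → Γ(X, i.1.1) := fun i => (hP i.1.1 i.1.2 i.2 (r i)).exists.choose
    have hc : ∀ i : I, Can i.1.1 i.2 (c i) ∧ Rep i.1.1 i.2 (c i) (r i) :=
      fun i => (hP i.1.1 i.1.2 i.2 (r i)).exists.choose_spec
    have hK : ∀ (i i' : I) (h : i'.1.1 ≤ i.1.1) (j : Fin n), ρ h (c i j) = c i' j := by
      intro i i' h j
      have h1 := hres i.1.1 i'.1.1 i.2 h (c i) (r i) (hc i).1 (hc i).2
      have h2 : ρ (p2.preimage_mono h) (r i) = r i' := ρ_ρ _ _ σ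
      rw [h2] at h1
      exact congrFun ((hP i'.1.1 i'.1.2 i'.2 (r i')).unique h1 (hc i')) j
    have hcompat : ∀ j, TopCat.Presheaf.IsCompatible X.presheaf (fun i : I => i.1.1)
        (fun i => c i j) := by
      intro j i i'
      show ρ (inf_le_left : i.1.1 ⊓ i'.1.1 ≤ i.1.1) (c i j) =
        ρ (inf_le_right : i.1.1 ⊓ i'.1.1 ≤ i'.1.1) (c i' j)
      apply eq_of_locally
      intro y hy
      obtain ⟨_, ⟨V, hV, rfl⟩, hyV, hVii⟩ :=
        X.isBasis_affineOpens.exists_subset_of_mem_open hy (i.1.1 ⊓ i'.1.1).2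
      have hVi : V ≤ i.1.1 := hVii.trans inf_le_left
      have hVi' : V ≤ i'.1.1 := hVii.trans inf_le_right
      let i'' : I := ⟨⟨V, hV⟩, hVi.trans i.2⟩
      refine ⟨V, hVii, hyV, ?_⟩
      rw [ρ_ρ, ρ_ρ]
      exact (hK i i'' hVi j).trans (hK i' i'' hVi' j).symm
    have hcover : f ⁻¹ᵁ U ≤ ⨆ i : I, i.1.1 := by
      intro y hy
      obtain ⟨V, hV, hVU, hyV⟩ := hcoverX y hy
      exact Opens.mem_iSup.2 ⟨⟨⟨V, hV⟩, hVU⟩, hyV⟩
    have hglue : ∀ j, ∃ s : Γ(X, f ⁻¹ᵁ U), ∀ i : I, ρ i.2 s = c i j := by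
      intro j
      obtain ⟨s, hs, -⟩ := X.sheaf.existsUnique_gluing' (fun i : I => i.1.1) (f ⁻¹ᵁ U)
        (fun i => homOfLE i.2) hcover (fun i => c i j) (hcompat j)
      exact ⟨s, hs⟩
    choose s hs using hglue
    have ha : ∀ j, ∃ a : Γ(S, U), (f.app U).hom a = s j := fun j => hfU.2 (s j)
    choose a ha using ha
    refine ⟨∑ j, (q.app U).hom (a j) * b j, ?_⟩
    show (p1.app (q ⁻¹ᵁ U)).hom (∑ j, (q.app U).hom (a j) * b j) = σ
    apply eq_of_locally
    intro z hz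
    have hz' : p2 z ∈ f ⁻¹ᵁ U := by
      have : z ∈ p2 ⁻¹ᵁ (f ⁻¹ᵁ U) := by rw [preimage_eq H U]; exact hz
      exact this
    obtain ⟨V, hV, hVU, hzV⟩ := hcoverX (p2 z) hz'
    let i : I := ⟨⟨V, hV⟩, hVU⟩
    refine ⟨p2 ⁻¹ᵁ V, preimage_le H hVU, hzV, ?_⟩
    rw [← hβρ V hVU (∑ j, (q.app U).hom (a j) * b j)]
    show β V hVU (∑ j, (q.app U).hom (a j) * b j) = r i
    rw [(hc i).2, map_sum]
    refine Finset.sum_congr rfl fun j _ => ?_
    rw [map_mul, hβφ, mul_comm]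
    congr 2
    show ψ V hVU (a j) = c i j
    rw [← hs j i, ← ha j]
    rfl

end core

include H in
theorem bijective_app [IsFinite q] [Flat q] [LocallyOfFinitePresentation q]
    (hf : ∀ U : S.Opens, Function.Bijective (f.app U)) (U : S.Opens) :
    Function.Bijective (p1.app (q ⁻¹ᵁ U)) := by
  let F : TopCat.Sheaf CommRingCat S :=
    (TopCat.Sheaf.pushforward CommRingCat q.base).obj W.sheaf
  let G : TopCat.Sheaf CommRingCat S :=
    (TopCat.Sheaf.pushforward CommRingCat q.base).obj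
      ((TopCat.Sheaf.pushforward CommRingCat p1.base).obj P.sheaf)
  let φ : F ⟶ G := (TopCat.Sheaf.pushforward CommRingCat q.base).map ⟨p1.c⟩
  have hbasis : Opens.IsBasis (Set.range (fun i : S.affineOpens => i.1)) := by
    rw [Subtype.range_coe]
    exact S.isBasis_affineOpens
  have hi : ∀ i : S.affineOpens, IsIso (φ.hom.app (op i.1)) := by
    intro i
    show IsIso (p1.app (q ⁻¹ᵁ i.1))
    exact (ConcreteCategory.isIso_iff_bijective _).mpr
      (bijective_app_of_isAffineOpen H i.2 (hf i.1))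
  haveI : IsIso φ := TopCat.Sheaf.isIso_iff_isIso_basis hbasis hi
  haveI : IsIso φ.hom := by
    have : IsIso ((TopCat.Sheaf.forget CommRingCat S).map φ) := inferInstance
    exact this
  have h3 : IsIso (φ.hom.app (op U)) := inferInstance
  have h4 : IsIso (p1.app (q ⁻¹ᵁ U)) := h3
  exact ConcreteCategory.bijective_of_isIso _

end Groth.Agent.Helper8.FLFSec
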