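import Mathlib
import Groth.Agent.Helper8.EssFreeD
import Groth.Prelude.Def_Magnet3

/-! Descent of the closed fixed locus along a fixed-point-reflecting étale atlas. -/

set_option autoImplicit false
set_option linter.style.haveILetI false
set_option linter.unusedSectionVars false
set_option linter.unusedVariables false

open AlgebraicGeometry CategoryTheory CategoryTheory.Limits TopologicalSpace Opposite
open MonoidalCategory CartesianMonoidalCategory MonObj

universe u

namespace Groth.Agent.Helper8.FPRDesc

open Groth.Agent.Helper3 Groth.Agent.Helper8.EssFree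

variable {S : Scheme.{u}}

/-- factorization through the closed subscheme of an ideal sheaf, in `Over S` -/
lemma exists_lift_over_iff (Y : Over S) (K : Y.left.IdealSheafData) (T : Over S) (g : T ⟶ Y) :
    (∃ w : T ⟶ Over.mk (K.subschemeι ≫ Y.hom),
      w ≫ (Over.homMk K.subschemeι rfl : Over.mk (K.subschemeι ≫ Y.hom) ⟶ Y) = g) ↔
      K ≤ g.left.ker := by
  have h1 := KerLocal.exists_lift_iff_le_ker K.subschemeι g.left
  rw [K.ker_subschemeι] at h1
  rw [← h1]
  constructor
  · rintro ⟨z, rfl⟩
    exact ⟨z.left, rfl⟩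
  · rintro ⟨z', hz'⟩
    refine ⟨Over.homMk z' ?_, ?_⟩
    · change z' ≫ K.subschemeι ≫ Y.hom = T.hom
      rw [← Category.assoc, hz', Over.w]
    · ext
      exact hz'

theorem main {A X U : Over S} [MonObj A] (aX : Magnet.MonAct A X) (aU : Magnet.MonAct A U)
    (f : U ⟶ X) [Etale f.left] [Surjective f.left]
    (hf : Magnet.MonAct.IsEquivariant aU aX f)
    (hfpr : IsPullback (Magnet.MonAct.fixedPsh.map f hf) (Magnet.MonAct.fixedPshι aU)
      (Magnet.MonAct.fixedPshι aX) (yoneda.map f))
    (hU : ∃ (W' : Over S) (i' : W' ⟶ U) (e' : (Magnet.MonAct.fixedPsh aU).RepresentableBy W'),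
      IsClosedImmersion i'.left ∧ ∀ (T : Over S) (w : T ⟶ W'),
        (Magnet.MonAct.fixedPshι aU).app (op T) (e'.homEquiv w) = w ≫ i') :
    ∃ (W : Over S) (i : W ⟶ X) (e : (Magnet.MonAct.fixedPsh aX).RepresentableBy W),
      IsClosedImmersion i.left ∧ ∀ (T : Over S) (w : T ⟶ W),
        (Magnet.MonAct.fixedPshι aX).app (op T) (e.homEquiv w) = w ≫ i := by
  obtain ⟨W', i', e', hi', he'⟩ := hU
  haveI := hi'
  -- Step A: points of `W'`
  have hA : ∀ (T : Over S) (x : T ⟶ U), FixAff.Fixed aU.act x ↔ ∃ w : T ⟶ W', w ≫ i' = x := by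
    intro T x
    constructor
    · intro hx
      let c : (Magnet.MonAct.fixedPsh aU).obj (op T) := ⟨x, hx⟩
      refine ⟨e'.homEquiv.symm c, ?_⟩
      have h1 := he' T (e'.homEquiv.symm c)
      rw [Equiv.apply_symm_apply] at h1
      exact h1.symm
    · rintro ⟨w, rfl⟩
      have h1 : (e'.homEquiv w).1 = w ≫ i' := he' T w
      intro T' t g
      have h2 := (e'.homEquiv w).2 T' t g
      rw [h1] at h2
      exact h2
  -- Step B: fixed points are reflected and preserved
  have hB : ∀ (T : Over S) (v : T ⟶ U), FixAff.Fixed aX.act (v ≫ f) → FixAff.Fixed aU.act v := by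
    intro T v hv
    let a : (Magnet.MonAct.fixedPsh aX).obj (op T) := ⟨v ≫ f, hv⟩
    let s : yoneda.obj T ⟶ Magnet.MonAct.fixedPsh aX := yonedaEquiv.symm a
    have hcomp : s ≫ Magnet.MonAct.fixedPshι aX = yoneda.map v ≫ yoneda.map f := by
      apply yonedaEquiv.injective
      rw [yonedaEquiv_comp, Equiv.apply_symm_apply, ← Functor.map_comp, yonedaEquiv_yoneda_map]
      rfl
    let l := hfpr.lift s (yoneda.map v) hcomp
    have hl : l ≫ Magnet.MonAct.fixedPshι aU = yoneda.map v := hfpr.lift_snd _ _ _
    have h1 : (yonedaEquiv l).1 = v := by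
      have h0 := congrArg yonedaEquiv hl
      rw [yonedaEquiv_comp, yonedaEquiv_yoneda_map] at h0
      exact h0
    have h2 := (yonedaEquiv l).2
    rw [h1] at h2
    exact h2
  have hE : ∀ (T : Over S) (v : T ⟶ U), FixAff.Fixed aU.act v → FixAff.Fixed aX.act (v ≫ f) := by
    intro T v hv
    exact ((Magnet.MonAct.fixedPsh.map f hf).app (op T) ⟨v, hv⟩).2
  -- Step C1: the ideal of `W'`
  have hC1 : ∀ (T : Over S) (x : T ⟶ U), i'.left.ker ≤ x.left.ker ↔ FixAff.Fixed aU.act x := by
    intro T x
    rw [hA, ← KerLocal.exists_lift_iff_le_ker]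
    constructor
    · rintro ⟨w, hw⟩
      refine ⟨Over.homMk w ?_, ?_⟩
      · rw [← Over.w i', ← Category.assoc, hw, Over.w]
      · apply Over.OverMorphism.ext
        exact hw
    · rintro ⟨w, rfl⟩
      exact ⟨w.left, rfl⟩
  -- Step C: descent of the ideal
  have hcov : Presieve.ofArrows (fun _ : PUnit.{u + 1} => U.left) (fun _ => f.left) ∈
      Scheme.fpqcPrecoverage X.left := by
    rw [Presieve.ofArrows_pUnit]
    apply Scheme.fppfPrecoverage_le_fpqcPrecoverage
    exact Scheme.Hom.singleton_mem_fppfPrecoverage f.left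
  have compat : ∀ _ _ : PUnit.{u + 1}, i'.left.ker.comap (pullback.fst f.left f.left) =
      i'.left.ker.comap (pullback.snd f.left f.left) := by
    intro _ _
    refine ideal_eq_of_forall _ _ fun T x => ?_
    rw [comap_le_ker_iff, comap_le_ker_iff]
    have hw : (x ≫ pullback.snd f.left f.left) ≫ U.hom =
        (x ≫ pullback.fst f.left f.left) ≫ U.hom := by
      rw [← Over.w f]
      simp only [Category.assoc]
      rw [pullback.condition_assoc]
    let T₀ : Over S := Over.mk ((x ≫ pullback.fst f.left f.left) ≫ U.hom)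
    let v₁ : T₀ ⟶ U := Over.homMk (x ≫ pullback.fst f.left f.left) rfl
    let v₂ : T₀ ⟶ U := Over.homMk (x ≫ pullback.snd f.left f.left) hw
    have hv : v₁ ≫ f = v₂ ≫ f := by
      apply Over.OverMorphism.ext
      show (x ≫ pullback.fst f.left f.left) ≫ f.left = (x ≫ pullback.snd f.left f.left) ≫ f.left
      rw [Category.assoc, Category.assoc, pullback.condition]
    have h1 : i'.left.ker ≤ (x ≫ pullback.fst f.left f.left).ker ↔ FixAff.Fixed aU.act v₁ :=
      hC1 T₀ v₁
    have h2 : i'.left.ker ≤ (x ≫ pullback.snd f.left f.left).ker ↔ FixAff.Fixed aU.act v₂ :=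
      hC1 T₀ v₂
    rw [h1, h2]
    constructor
    · intro h
      have h3 := hE T₀ v₁ h
      rw [hv] at h3
      exact hB T₀ v₂ h3
    · intro h
      have h3 := hE T₀ v₂ h
      rw [← hv] at h3
      exact hB T₀ v₁ h3
  obtain ⟨I, hI, -⟩ := IdDesc.main (fun _ : PUnit.{u + 1} => f.left) hcov
    (fun _ => i'.left.ker) compat
  have hI' : I.comap f.left = i'.left.ker := hI PUnit.unit
  -- Step D: points of `V(I)`
  have hD : ∀ (T : Over S) (x : T ⟶ X), FixAff.Fixed aX.act x ↔ I ≤ x.left.ker := by
    intro T x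
    let p := pullback.fst x.left f.left
    let x' := pullback.snd x.left f.left
    let T'o : Over S := Over.mk (p ≫ T.hom)
    let po : T'o ⟶ T := Over.homMk p rfl
    have hx' : x' ≫ U.hom = p ≫ T.hom := by
      rw [← Over.w f, ← Category.assoc, ← pullback.condition, Category.assoc, Over.w]
    let x'o : T'o ⟶ U := Over.homMk x' hx'
    have hsq : po ≫ x = x'o ≫ f := by
      apply Over.OverMorphism.ext
      exact pullback.condition
    haveI : Etale p := inferInstance
    haveI : Surjective p := inferInstance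
    have k1 : I ≤ x.left.ker ↔ I ≤ (p ≫ x.left).ker := by
      rw [← comap_le_ker_iff I x.left p, le_ker_iff_comap_le_bot (I.comap x.left) p,
        comap_le_bot_iff_of_flat_surjective p (I.comap x.left)]
      exact le_ker_iff_comap_le_bot I x.left
    have k2 : I ≤ (p ≫ x.left).ker ↔ i'.left.ker ≤ x'.ker := by
      rw [show p ≫ x.left = x' ≫ f.left from pullback.condition, ← comap_le_ker_iff, hI']
    have k3 : FixAff.Fixed aX.act (po ≫ x) ↔ FixAff.Fixed aU.act x'o := by
      rw [hsq]
      exact ⟨hB T'o x'o, hE T'o x'o⟩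
    have k4 : FixAff.Fixed aX.act (po ≫ x) ↔ FixAff.Fixed aX.act x := by
      constructor
      · intro h
        rw [← fixed_iff] at h ⊢
        rw [MonoidalCategory.comp_whiskerRight, Category.assoc, Category.assoc] at h
        have hpb := Groth.Agent.Helper5.GrpDense.isPullback_whiskerRight po A
        haveI : Etale (po ▷ A).left :=
          MorphismProperty.of_isPullback (P := @Etale) hpb.flip (inferInstanceAs (Etale p))
        haveI : Surjective (po ▷ A).left :=
          MorphismProperty.of_isPullback (P := @Surjective) hpb.flip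
            (inferInstanceAs (Surjective p))
        haveI : Epi ((Over.forget S).map (po ▷ A)) := inferInstanceAs (Epi (po ▷ A).left)
        haveI : Epi (po ▷ A) := (Over.forget S).epi_of_epi_map inferInstance
        exact (cancel_epi (po ▷ A)).mp h
      · intro h
        exact h.comp po
    have k5 : i'.left.ker ≤ x'.ker ↔ FixAff.Fixed aU.act x'o := hC1 T'o x'o
    exact k4.symm.trans (k3.trans (k5.symm.trans (k2.symm.trans k1.symm)))
  -- Step E: the representing object
  let W : Over S := Over.mk (I.subschemeι ≫ X.hom)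
  let i : W ⟶ X := Over.homMk I.subschemeι rfl
  haveI : Mono ((Over.forget S).map i) := inferInstanceAs (Mono I.subschemeι)
  haveI : Mono i := (Over.forget S).mono_of_mono_map inferInstance
  have hfac : ∀ (T : Over S) (x : T ⟶ X), FixAff.Fixed aX.act x ↔ ∃ w : T ⟶ W, w ≫ i = x := by
    intro T x
    rw [hD]
    exact (exists_lift_over_iff X I T x).symm
  let e : (Magnet.MonAct.fixedPsh aX).RepresentableBy W :=
    { homEquiv := fun {T} =>
        { toFun := fun w => ⟨w ≫ i, (hfac T (w ≫ i)).mpr ⟨w, rfl⟩⟩
          invFun := fun c => ((hfac T c.1).mp c.2).choose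
          left_inv := fun w => by
            rw [← cancel_mono i]
            exact ((hfac T (w ≫ i)).mp ((hfac T (w ≫ i)).mpr ⟨w, rfl⟩)).choose_spec
          right_inv := fun c => Subtype.ext ((hfac T c.1).mp c.2).choose_spec }
      homEquiv_comp := fun {T T'} t w => by
        apply Subtype.ext
        exact Category.assoc _ _ _ }
  exact ⟨W, i, e, inferInstanceAs (IsClosedImmersion I.subschemeι), fun T w => rfl⟩

end Groth.Agent.Helper8.FPRDesc
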