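import Mathlib

set_option autoImplicit false
universe u v
open scoped Classical

namespace Groth.Agent.Helper8.FacCount
open Polynomial UniqueFactorizationMonoid

section r
variable {F : Type*} [Field F]

/-- the pairing of two multisets of polynomials -/
noncomputable def r (A B : Multiset F[X]) : ℕ := (A.map fun Q => B.count Q * Q.natDegree).sum

lemma sum_eq_r (A B : Multiset F[X]) :
    ∑ P ∈ A.toFinset, A.count P * B.count P * P.natDegree = r A B := by
  rw [r, Finset.sum_multiset_map_count]
  refine Finset.sum_congr rfl fun P _ => ?_
  rw [smul_eq_mul, mul_assoc]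

lemma r_bind_left {ι : Type*} (A : Multiset ι) (β : ι → Multiset F[X]) (C : Multiset F[X]) :
    r (A.bind β) C = (A.map fun P => r (β P) C).sum := by
  simp only [r]
  rw [Multiset.map_bind, Multiset.sum_bind]

lemma r_bind_right {ι : Type*} (D : Multiset F[X]) (B : Multiset ι) (β : ι → Multiset F[X]) :
    r D (B.bind β) = (B.map fun P' => r D (β P')).sum := by
  simp only [r]
  rw [Multiset.sum_map_sum_map]
  congr 1
  refine Multiset.map_congr rfl fun Q _ => ?_
  rw [Multiset.count_bind, Multiset.sum_map_mul_right]

end r

variable (K : Type u) (L : Type v) [Field K] [PerfectField K] [Field L] [Algebra K L]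

/-- factors of the base change -/
noncomputable def β (P : K[X]) : Multiset L[X] := normalizedFactors (P.map (algebraMap K L))

variable {K}

omit [PerfectField K] in
lemma nf_map (f : K[X]) (hf : f ≠ 0) :
    normalizedFactors (f.map (algebraMap K L)) = (normalizedFactors f).bind (β K L) := by
  have h1 : Associated ((normalizedFactors f).prod) f := prod_normalizedFactors hf
  have h2 : Associated (((normalizedFactors f).prod).map (algebraMap K L))
      (f.map (algebraMap K L)) := h1.map (mapRingHom (algebraMap K L))
  rw [← h2.normalizedFactors_eq, Polynomial.map_multiset_prod, normalizedFactors_multiset_prod]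
  · rw [Multiset.bind, Multiset.join, Multiset.map_map]; rfl
  · intro h0
    obtain ⟨P, hP, hP0⟩ := Multiset.mem_map.mp h0
    have : P = 0 := by
      have hinj : Function.Injective (Polynomial.map (algebraMap K L)) :=
        Polynomial.map_injective _ (algebraMap K L).injective
      exact hinj (by rw [hP0, Polynomial.map_zero])
    exact zero_notMem_normalizedFactors f (this ▸ hP)

omit [PerfectField K] in
lemma sum_deg_nf (g : L[X]) (hg : g ≠ 0) :
    ((normalizedFactors g).map natDegree).sum = g.natDegree := by
  have h1 : Associated ((normalizedFactors g).prod) g := prod_normalizedFactors hg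
  rw [← natDegree_eq_of_degree_eq (degree_eq_degree_of_associated h1),
    natDegree_multiset_prod _ (zero_notMem_normalizedFactors g)]

lemma r_same (P : K[X]) (hP : Irreducible P) : r (β K L P) (β K L P) = P.natDegree := by
  have hsep : (P.map (algebraMap K L)).Separable := (PerfectField.separable_of_irreducible hP).map
  have hne : P.map (algebraMap K L) ≠ 0 := hsep.ne_zero
  have hnd : (β K L P).Nodup :=
    (squarefree_iff_nodup_normalizedFactors hne).mp hsep.squarefree
  have : (β K L P).map (fun Q => (β K L P).count Q * Q.natDegree) = (β K L P).map natDegree := by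
    refine Multiset.map_congr rfl fun Q hQ => ?_
    rw [Multiset.count_eq_one_of_mem hnd hQ, one_mul]
  rw [r, this, β, sum_deg_nf L _ hne, natDegree_map]

omit [PerfectField K] in
lemma r_diff (P P' : K[X]) (hP : Irreducible P) (hP' : Irreducible P') (hm : P.Monic)
    (hm' : P'.Monic) (hne : P ≠ P') : r (β K L P) (β K L P') = 0 := by
  have hcop : IsCoprime P P' := by
    rw [hP.coprime_iff_not_dvd]
    intro hdvd
    exact hne (eq_of_monic_of_associated hm hm' (hP.associated_of_dvd hP' hdvd))
  have hcopL : IsCoprime (P.map (algebraMap K L)) (P'.map (algebraMap K L)) :=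
    hcop.map (mapRingHom (algebraMap K L))
  have hdis := disjoint_normalizedFactors hcopL.isRelPrime
  rw [r]
  apply Multiset.sum_eq_zero
  intro x hx
  obtain ⟨Q, hQ, rfl⟩ := Multiset.mem_map.mp hx
  have : Q ∉ β K L P' := fun h => Multiset.disjoint_left.mp hdis hQ h
  rw [Multiset.count_eq_zero_of_notMem this, zero_mul]

theorem main (f₁ f₂ : K[X]) (h₁ : f₁ ≠ 0) (h₂ : f₂ ≠ 0) :
    ∑ P ∈ (normalizedFactors (f₁.map (algebraMap K L))).toFinset,
        (normalizedFactors (f₁.map (algebraMap K L))).count P *
          (normalizedFactors (f₂.map (algebraMap K L))).count P * P.natDegree =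
      ∑ P ∈ (normalizedFactors f₁).toFinset,
        (normalizedFactors f₁).count P * (normalizedFactors f₂).count P * P.natDegree := by
  rw [sum_eq_r, sum_eq_r, nf_map L f₁ h₁, nf_map L f₂ h₂, r_bind_left]
  rw [r]
  congr 1
  refine Multiset.map_congr rfl fun P hP => ?_
  rw [r_bind_right]
  have hPirr := irreducible_of_normalized_factor P hP
  have hPm : P.Monic := by
    have := normalize_normalized_factor P hP
    rw [← this]; exact monic_normalize hPirr.ne_zero
  -- sum over P' of [P = P'] deg P
  have : (normalizedFactors f₂).map (fun P' => r (β K L P) (β K L P')) =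
      (normalizedFactors f₂).map (fun P' => if P' = P then P.natDegree else 0) := by
    refine Multiset.map_congr rfl fun P' hP' => ?_
    have hP'irr := irreducible_of_normalized_factor P' hP'
    have hP'm : P'.Monic := by
      have := normalize_normalized_factor P' hP'
      rw [← this]; exact monic_normalize hP'irr.ne_zero
    split_ifs with h
    · subst h; exact r_same L P' hP'irr
    · exact r_diff L P P' hPirr hP'irr hPm hP'm (Ne.symm h)
  rw [this, Multiset.sum_map_eq_nsmul_single P]
  · simp [Multiset.count_eq_card_filter_eq, smul_eq_mul]
  · intro P' hne _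
    rw [if_neg hne]

end Groth.Agent.Helper8.FacCount
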