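import Mathlib

set_option autoImplicit false

namespace Groth.Agent.Helper8.RatCone

open Filter Topology Matrix

/-- A real vector with nonzero coordinates lies in the open cone spanned by the rows of an
invertible rational matrix, all of whose rows lie in a prescribed open neighbourhood. -/
lemma exists_rat_simplex {r : ℕ} (ε : Fin r → ℝ) (hε : ∀ l, ε l ≠ 0)
    (U : Set (Fin r → ℝ)) (hU : IsOpen U) (hεU : ε ∈ U) :
    ∃ (T : Matrix (Fin r) (Fin r) ℚ) (z : Fin r → ℝ), T.det ≠ 0 ∧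
      (∀ i, (fun l => ((T i l : ℚ) : ℝ)) ∈ U) ∧ (∀ i, 0 < z i) ∧
      ∀ l, ε l = ∑ i, z i * ((T i l : ℚ) : ℝ) := by
  classical
  obtain ⟨s, hs⟩ : ∃ s : Fin r → ℝ, ∀ l, s l * ε l = |ε l| ∧ s l * |ε l| = ε l ∧ s l * s l = 1 := by
    refine ⟨fun l => if 0 < ε l then 1 else -1, fun l => ?_⟩
    by_cases h : 0 < ε l
    · simp [h, abs_of_pos h]
    · have h' : ε l < 0 := lt_of_le_of_ne (not_lt.mp h) (hε l)
      simp [h, abs_of_neg h']
  have habs : ∀ l, 0 < |ε l| := fun l => abs_pos.mpr (hε l)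
  obtain ⟨E', hE'def⟩ : ∃ E' : ℝ, E' = ∑ l, |ε l| := ⟨_, rfl⟩
  have hE' : 0 ≤ E' := by rw [hE'def]; exact Finset.sum_nonneg (fun l _ => (habs l).le)
  have hev : ∀ᶠ δ : ℝ in 𝓝[>] 0, ∀ i : Fin r,
      (fun l => ε l + if i = l then δ * s l else 0 : Fin r → ℝ) ∈ U := by
    rw [Filter.eventually_all]
    intro i
    have hcont : Continuous (fun δ : ℝ =>
        (fun l => ε l + if i = l then δ * s l else 0 : Fin r → ℝ)) := by
      refine continuous_pi (fun l => ?_)
      by_cases h : i = l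
      · simp only [h, if_true]; exact continuous_const.add (continuous_id.mul continuous_const)
      · simp only [h, if_false]; exact continuous_const
    have h0 : (fun l => ε l + if i = l then (0:ℝ) * s l else 0 : Fin r → ℝ) = ε := by
      funext l; by_cases h : i = l <;> simp [h]
    have hmem : U ∈ 𝓝 ((fun δ : ℝ =>
        (fun l => ε l + if i = l then δ * s l else 0 : Fin r → ℝ)) 0) := by
      show U ∈ 𝓝 (fun l => ε l + if i = l then (0:ℝ) * s l else 0 : Fin r → ℝ)
      rw [h0]; exact hU.mem_nhds hεU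
    have := hcont.continuousAt.eventually_mem hmem
    exact this.filter_mono nhdsWithin_le_nhds
  obtain ⟨δ, hδU, hδ⟩ := (hev.and eventually_mem_nhdsWithin).exists
  have hδ' : (0:ℝ) < δ := hδ
  have hEδ : 0 < E' + δ := by linarith
  obtain ⟨T₀, hT₀def⟩ : ∃ T₀ : Matrix (Fin r) (Fin r) ℝ,
      T₀ = Matrix.of (fun i l => ε l + if i = l then δ * s l else 0) := ⟨_, rfl⟩
  have hvm : ∀ (v : Fin r → ℝ) (l : Fin r),
      (v ᵥ* T₀) l = (∑ i, v i) * ε l + v l * (δ * s l) := by
    intro v l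
    rw [hT₀def]
    simp only [Matrix.vecMul, dotProduct, Matrix.of_apply, mul_add, Finset.sum_add_distrib,
      mul_ite, mul_zero, Finset.sum_ite_eq', Finset.mem_univ, if_true, Finset.sum_mul]
  obtain ⟨z₀, hz₀def⟩ : ∃ z₀ : Fin r → ℝ, z₀ = fun i => |ε i| / (E' + δ) := ⟨_, rfl⟩
  have hz₀pos : ∀ i, 0 < z₀ i := fun i => by rw [hz₀def]; exact div_pos (habs i) hEδ
  have hz₀sum : ∑ i, z₀ i = E' / (E' + δ) := by
    rw [hz₀def, hE'def, Finset.sum_div]
  have hz₀ : z₀ ᵥ* T₀ = ε := by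
    funext l
    rw [hvm, hz₀sum, hz₀def]
    have h2 := (hs l).2.1
    field_simp
    linear_combination δ * h2
  have hdet : T₀.det ≠ 0 := by
    intro h0
    obtain ⟨v, hv, hv0⟩ := Matrix.exists_vecMul_eq_zero_iff.mpr h0
    apply hv
    have key : ∀ l, (∑ i, v i) * |ε l| + v l * δ = 0 := by
      intro l
      have h1 := congrFun hv0 l
      rw [hvm, Pi.zero_apply] at h1
      have h2 : (∑ i, v i) * (s l * ε l) + v l * δ * (s l * s l) = 0 := by
        linear_combination (s l) * h1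
      rw [(hs l).1, (hs l).2.2, mul_one] at h2
      exact h2
    have hS : (∑ i, v i) = 0 := by
      have h1 : ∑ l, ((∑ i, v i) * |ε l| + v l * δ) = 0 :=
        Finset.sum_eq_zero (fun l _ => key l)
      rw [Finset.sum_add_distrib, ← Finset.mul_sum, ← Finset.sum_mul, ← hE'def] at h1
      have h2 : (∑ i, v i) * (E' + δ) = 0 := by linarith
      rcases mul_eq_zero.mp h2 with h | h
      · exact h
      · exact absurd h hEδ.ne'
    funext l
    have h1 := key l
    rw [hS, zero_mul, zero_add] at h1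
    rcases mul_eq_zero.mp h1 with h | h
    · exact h
    · exact absurd h hδ'.ne'
  -- density and continuity
  have hd : DenseRange (fun (T : Matrix (Fin r) (Fin r) ℚ) =>
      (T.map (fun q : ℚ => (q : ℝ)) : Matrix (Fin r) (Fin r) ℝ)) :=
    DenseRange.piMap (fun _ => DenseRange.piMap (fun _ => Rat.denseRange_cast))
  have hinv : ContinuousAt (Inv.inv : Matrix (Fin r) (Fin r) ℝ → Matrix (Fin r) (Fin r) ℝ) T₀ :=
    continuousAt_matrix_inv T₀ (NormedRing.inverse_continuousAt (Units.mk0 _ hdet))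
  have hvc : Continuous (fun S : Matrix (Fin r) (Fin r) ℝ => ε ᵥ* S) :=
    Continuous.matrix_vecMul continuous_const continuous_id
  have hf : ContinuousAt (fun T : Matrix (Fin r) (Fin r) ℝ => ε ᵥ* T⁻¹) T₀ :=
    hvc.continuousAt.comp hinv
  have hunit : IsUnit T₀.det := isUnit_iff_ne_zero.mpr hdet
  have hfT₀ : ε ᵥ* T₀⁻¹ = z₀ := by
    rw [← hz₀, Matrix.vecMul_vecMul, Matrix.mul_nonsing_inv _ hunit, Matrix.vecMul_one]
  have N1 : {T : Matrix (Fin r) (Fin r) ℝ | T.det ≠ 0} ∈ 𝓝 T₀ :=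
    (isOpen_ne.preimage (continuous_id.matrix_det)).mem_nhds hdet
  have N2 : {T : Matrix (Fin r) (Fin r) ℝ | ∀ i, T i ∈ U} ∈ 𝓝 T₀ := by
    have hopen : IsOpen {T : Matrix (Fin r) (Fin r) ℝ | ∀ i, T i ∈ U} := by
      simp only [Set.setOf_forall]
      exact isOpen_iInter_of_finite (fun i => hU.preimage (continuous_apply i))
    refine hopen.mem_nhds (fun i => ?_)
    have := hδU i
    rw [hT₀def]
    exact this
  have N3 : {T : Matrix (Fin r) (Fin r) ℝ | ∀ i, 0 < (ε ᵥ* T⁻¹) i} ∈ 𝓝 T₀ := by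
    have hopen : IsOpen {z : Fin r → ℝ | ∀ i, 0 < z i} := by
      simp only [Set.setOf_forall]
      exact isOpen_iInter_of_finite (fun i => isOpen_lt continuous_const (continuous_apply i))
    have hmem : {z : Fin r → ℝ | ∀ i, 0 < z i} ∈ 𝓝 (ε ᵥ* T₀⁻¹) := by
      rw [hfT₀]; exact hopen.mem_nhds hz₀pos
    exact hf hmem
  obtain ⟨Tq, hTq⟩ := hd.mem_nhds (Filter.inter_mem N1 (Filter.inter_mem N2 N3))
  obtain ⟨h1, h2, h3⟩ := hTq
  have hdetq : (Tq.map (fun q : ℚ => (q : ℝ))).det ≠ 0 := h1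
  have hunitq : IsUnit (Tq.map (fun q : ℚ => (q : ℝ))).det := isUnit_iff_ne_zero.mpr hdetq
  refine ⟨Tq, ε ᵥ* (Tq.map (fun q : ℚ => (q : ℝ)))⁻¹, ?_, ?_, h3, ?_⟩
  · intro h0
    apply hdetq
    have := RingHom.map_det (Rat.castHom ℝ) Tq
    rw [RingHom.mapMatrix_apply, h0, map_zero] at this
    exact this.symm
  · intro i
    exact h2 i
  · intro l
    have : (ε ᵥ* (Tq.map (fun q : ℚ => (q : ℝ)))⁻¹) ᵥ* (Tq.map (fun q : ℚ => (q : ℝ))) = ε := by
      rw [Matrix.vecMul_vecMul, Matrix.nonsing_inv_mul _ hunitq, Matrix.vecMul_one]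
    have h4 := congrFun this l
    rw [← h4]
    simp only [Matrix.vecMul, dotProduct, Matrix.map_apply]

/-- Rational simplicial decomposition of a nonnegative real vector, compatible with all rational
linear relations among its coordinates. -/
lemma rat_simplicial {J : Type*} [Fintype J] (P : J → ℝ) (hP0 : ∀ j, 0 ≤ P j) (hP : P ≠ 0) :
    ∃ (r : ℕ) (A : Fin r → J → ℚ) (z : Fin r → ℝ), 0 < r ∧
      (∀ i, 0 < z i) ∧ (∀ j, P j = ∑ i, z i * ((A i j : ℚ) : ℝ)) ∧ (∀ i j, 0 ≤ A i j) ∧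
      LinearIndependent ℚ A ∧
      ∀ lam : J → ℚ, ∑ j, (lam j : ℝ) * P j = 0 → ∀ i, ∑ j, lam j * A i j = 0 := by
  classical
  obtain ⟨V, hVdef⟩ : ∃ V : Submodule ℚ ℝ, V = Submodule.span ℚ (Set.range P) := ⟨_, rfl⟩
  have hfd : FiniteDimensional ℚ V := by
    rw [hVdef]; exact FiniteDimensional.span_of_finite ℚ (Set.finite_range P)
  have hPV : ∀ j, P j ∈ V := fun j => by rw [hVdef]; exact Submodule.subset_span ⟨j, rfl⟩
  obtain ⟨r, hrdef⟩ : ∃ r : ℕ, r = Module.finrank ℚ V := ⟨_, rfl⟩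
  obtain ⟨b⟩ : Nonempty (Module.Basis (Fin r) ℚ V) := by
    rw [hrdef]; exact ⟨Module.finBasis ℚ V⟩
  obtain ⟨ε, hεdef⟩ : ∃ ε : Fin r → ℝ, ε = fun l => ((b l : V) : ℝ) := ⟨_, rfl⟩
  obtain ⟨a, hadef⟩ : ∃ a : J → Fin r → ℚ, a = fun j l => b.repr ⟨P j, hPV j⟩ l := ⟨_, rfl⟩
  have hPa : ∀ j, P j = ∑ l, ((a j l : ℚ) : ℝ) * ε l := by
    intro j
    have h1 := b.sum_repr ⟨P j, hPV j⟩
    have h2 := congrArg (Subtype.val) h1
    rw [Submodule.coe_sum] at h2
    simp only at h2
    rw [← h2, hadef, hεdef]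
    refine Finset.sum_congr rfl fun l _ => ?_
    rw [Submodule.coe_smul, Rat.smul_def]
  have hε0 : ∀ l, ε l ≠ 0 := fun l => by
    rw [hεdef]; exact fun h => b.ne_zero l (Subtype.ext h)
  have hindep : ∀ c : Fin r → ℚ, ∑ l, ((c l : ℚ) : ℝ) * ε l = 0 → ∀ l, c l = 0 := by
    intro c hc
    refine Fintype.linearIndependent_iff.mp b.linearIndependent c (Subtype.ext ?_)
    rw [Submodule.coe_sum]
    simp only [Submodule.coe_smul, Rat.smul_def, Submodule.coe_zero]
    rw [hεdef] at hc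
    exact hc
  have hspan : ∀ τ : Fin r → ℚ, (∀ j, ∑ l, a j l * τ l = 0) → τ = 0 := by
    intro τ hτ
    obtain ⟨ρ, hρdef⟩ : ∃ ρ : V →ₗ[ℚ] ℚ, ρ = b.constr ℚ τ := ⟨_, rfl⟩
    have hρP : ∀ j, ρ ⟨P j, hPV j⟩ = 0 := by
      intro j
      rw [hρdef, Module.Basis.constr_apply_fintype]
      simp only [Module.Basis.equivFun_apply, smul_eq_mul]
      rw [← hτ j, hadef]
    have hle : Submodule.span ℚ (Set.range P) ≤ Submodule.map V.subtype (LinearMap.ker ρ) := by
      refine Submodule.span_le.mpr ?_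
      rintro _ ⟨j, rfl⟩
      exact ⟨⟨P j, hPV j⟩, hρP j, rfl⟩
    have hker : ∀ x : V, ρ x = 0 := by
      intro x
      have hx : (x : ℝ) ∈ Submodule.span ℚ (Set.range P) := by rw [← hVdef]; exact x.2
      obtain ⟨x', hx', hxx'⟩ := hle hx
      have : x' = x := Subtype.ext hxx'
      rw [← this]; exact hx'
    funext l
    have := hker (b l)
    rw [hρdef, Module.Basis.constr_basis] at this
    exact this
  obtain ⟨U, hUdef⟩ : ∃ U : Set (Fin r → ℝ),
      U = {τ : Fin r → ℝ | ∀ j, 0 < P j → 0 < ∑ l, ((a j l : ℚ) : ℝ) * τ l} := ⟨_, rfl⟩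
  have hUopen : IsOpen U := by
    rw [hUdef]
    simp only [Set.setOf_forall]
    refine isOpen_iInter_of_finite (fun j => isOpen_iInter_of_finite (fun _ => ?_))
    exact isOpen_lt continuous_const
      (continuous_finset_sum _ (fun l _ => continuous_const.mul (continuous_apply l)))
  have hεU : ε ∈ U := by
    rw [hUdef]; intro j hj; rw [← hPa j]; exact hj
  obtain ⟨T, z, hdet, hTU, hz, hεz⟩ := exists_rat_simplex ε hε0 U hUopen hεU
  obtain ⟨A, hAdef⟩ : ∃ A : Fin r → J → ℚ, A = fun i j => ∑ l, a j l * T i l := ⟨_, rfl⟩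
  have hAcast : ∀ i j, ((A i j : ℚ) : ℝ) = ∑ l, ((a j l : ℚ) : ℝ) * ((T i l : ℚ) : ℝ) := by
    intro i j; rw [hAdef]; push_cast; rfl
  refine ⟨r, A, z, ?_, hz, ?_, ?_, ?_, ?_⟩
  · by_contra h
    have hr0 : r = 0 := by omega
    apply hP
    funext j
    rw [hPa j]
    subst hr0
    simp
  · intro j
    rw [hPa j]
    simp only [hεz, Finset.mul_sum, hAcast]
    rw [Finset.sum_comm]
    refine Finset.sum_congr rfl fun i _ => ?_
    refine Finset.sum_congr rfl fun l _ => ?_
    ring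
  · intro i j
    by_cases hj : 0 < P j
    · have h1 := hTU i
      rw [hUdef] at h1
      have h2 := h1 j hj
      have h3 : (0:ℝ) < ((A i j : ℚ) : ℝ) := by rw [hAcast]; exact h2
      exact_mod_cast h3.le
    · have hj0 : P j = 0 := le_antisymm (not_lt.mp hj) (hP0 j)
      have h1 : ∀ l, a j l = 0 := by
        intro l
        rw [hadef]
        have : (⟨P j, hPV j⟩ : V) = 0 := Subtype.ext hj0
        simp only [this, map_zero, Finsupp.zero_apply]
      rw [hAdef]
      simp only [h1, zero_mul, Finset.sum_const_zero, le_refl]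
  · rw [Fintype.linearIndependent_iff]
    intro c hc
    have hτ0 : (fun l => ∑ i, c i * T i l) = 0 := by
      apply hspan
      intro j
      have h1 := congrFun hc j
      rw [Finset.sum_apply] at h1
      simp only [Pi.smul_apply, smul_eq_mul, Pi.zero_apply] at h1
      rw [← h1, hAdef]
      simp only [Finset.mul_sum]
      rw [Finset.sum_comm]
      refine Finset.sum_congr rfl fun i _ => ?_
      refine Finset.sum_congr rfl fun l _ => ?_
      ring
    have hc0 : c = 0 := by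
      by_contra hne
      refine hdet (Matrix.exists_vecMul_eq_zero_iff.mp ⟨c, hne, ?_⟩)
      funext l
      have := congrFun hτ0 l
      simpa [Matrix.vecMul, dotProduct] using this
    intro i
    rw [hc0]; rfl
  · intro lam hlam i
    have h1 : ∀ l, ∑ j, lam j * a j l = 0 := by
      apply hindep (fun l => ∑ j, lam j * a j l)
      push_cast
      simp only [Finset.sum_mul]
      rw [Finset.sum_comm, ← hlam]
      refine Finset.sum_congr rfl fun j _ => ?_
      rw [hPa j, Finset.mul_sum]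
      refine Finset.sum_congr rfl fun l _ => ?_
      ring
    rw [hAdef]
    simp only [Finset.mul_sum]
    rw [Finset.sum_comm]
    refine Finset.sum_eq_zero fun l _ => ?_
    calc ∑ j, lam j * (a j l * T i l) = (∑ j, lam j * a j l) * T i l := by
          rw [Finset.sum_mul]; exact Finset.sum_congr rfl fun j _ => by ring
      _ = 0 := by rw [h1 l, zero_mul]

end Groth.Agent.Helper8.RatCone
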