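import Groth.Prelude.Def_W4c6instabfans3Fan
import Groth.Agent.Helper8.RatCone

set_option autoImplicit false

namespace Groth.Agent.Helper8.FanRel

open CategoryTheory Opposite Instab Instab.Fan

universe u

lemma lin_apply_eq_sum {k n : ℕ} (L : (Fin k → ℤ) →ₗ[ℤ] (Fin n → ℤ)) (v : Fin k → ℤ)
    (j : Fin n) : L v j = ∑ i, L (Pi.single i 1) j * v i := by
  classical
  have hv : v = ∑ i, v i • (Pi.single i (1:ℤ) : Fin k → ℤ) := by
    funext l
    simp [Finset.sum_apply, Pi.single_apply]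
  conv_lhs => rw [hv]
  rw [map_sum, Finset.sum_apply]
  refine Finset.sum_congr rfl fun i _ => ?_
  rw [map_smul, Pi.smul_apply, smul_eq_mul, mul_comm]

lemma realMap_apply {k n : ICone} (φ : k ⟶ n) (v : Fin k.dim → ℝ) (j : Fin n.dim) :
    φ.realMap v j = ∑ i, ((φ.toLin (Pi.single i 1) j : ℤ) : ℝ) * v i := rfl

lemma id_toLin (n : ICone) : (𝟙 n : n ⟶ n).toLin = LinearMap.id := rfl

lemma comp_toLin {k m n : ICone} (φ : k ⟶ m) (χ : m ⟶ n) :
    (φ ≫ χ).toLin = χ.toLin.comp φ.toLin := rfl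

lemma realMap_id (n : ICone) (v : Fin n.dim → ℝ) : (𝟙 n : n ⟶ n).realMap v = v := by
  classical
  funext j
  rw [realMap_apply]
  have : ∀ i, (((𝟙 n : n ⟶ n).toLin (Pi.single i 1) j : ℤ) : ℝ) = if j = i then 1 else 0 := by
    intro i
    rw [id_toLin, LinearMap.id_apply, Pi.single_apply]
    split_ifs <;> simp
  simp only [this, ite_mul, one_mul, zero_mul, Finset.sum_ite_eq, Finset.mem_univ, if_true]

lemma realMap_comp {k m n : ICone} (φ : k ⟶ m) (χ : m ⟶ n) (v : Fin k.dim → ℝ) :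
    (φ ≫ χ).realMap v = χ.realMap (φ.realMap v) := by
  funext j
  simp only [realMap_apply]
  have h : ∀ i, (((φ ≫ χ).toLin (Pi.single i 1) j : ℤ) : ℝ) =
      ∑ l, ((χ.toLin (Pi.single l 1) j : ℤ) : ℝ) * ((φ.toLin (Pi.single i 1) l : ℤ) : ℝ) := by
    intro i
    rw [comp_toLin, LinearMap.comp_apply, lin_apply_eq_sum χ.toLin]
    push_cast
    rfl
  simp only [h, Finset.sum_mul, Finset.mul_sum]
  rw [Finset.sum_comm]
  exact Finset.sum_congr rfl fun l _ => Finset.sum_congr rfl fun i _ => by ring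

lemma realMap_smul {k n : ICone} (φ : k ⟶ n) (c : ℝ) (v : Fin k.dim → ℝ) :
    φ.realMap (c • v) = c • φ.realMap v := by
  funext j
  simp only [realMap_apply, Pi.smul_apply, smul_eq_mul, Finset.mul_sum]
  exact Finset.sum_congr rfl fun i _ => by ring

lemma map_comp_op (F : Fan.{u}) {m k n : ICone} (ψ : m ⟶ k) (φ : k ⟶ n) (ξ : F.obj (op n)) :
    F.map (ψ ≫ φ).op ξ = F.map ψ.op (F.map φ.op ξ) := by
  rw [op_comp, F.map_comp_apply]

lemma map_id_op (F : Fan.{u}) {n : ICone} (ξ : F.obj (op n)) :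
    F.map (𝟙 n : n ⟶ n).op ξ = ξ := by
  rw [op_id, F.map_id_apply]

/-- The fibre product of two cones over a third contains a simplicial sub-cone through any given
point. -/
lemma exists_common_subcone {k k' n : ICone} (α : k ⟶ n) (β : k' ⟶ n) (y : Orth k)
    (y' : Orth k') (t : ℝ) (ht : 0 < t) (h : α.realMap y.1 = t • β.realMap y'.1) :
    ∃ (m : ICone) (ψ : m ⟶ k) (ψ' : m ⟶ k') (z : Orth m) (a' : ℝ), 0 < a' ∧
      ψ ≫ α = ψ' ≫ β ∧ y.1 = ψ.realMap z.1 ∧ y'.1 = a' • ψ'.realMap z.1 := by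
  classical
  obtain ⟨P, hPdef⟩ : ∃ P : Fin k.dim ⊕ Fin k'.dim → ℝ, P = Sum.elim y.1 (t • y'.1) := ⟨_, rfl⟩
  have hPl : ∀ l, P (Sum.inl l) = y.1 l := fun l => by rw [hPdef]; rfl
  have hPr : ∀ l, P (Sum.inr l) = t * y'.1 l := fun l => by rw [hPdef]; rfl
  have hP0 : ∀ j, 0 ≤ P j := by
    rintro (j | j)
    · rw [hPl]; exact y.2.1 j
    · rw [hPr]; exact mul_nonneg ht.le (y'.2.1 j)
  have hP : P ≠ 0 := by
    intro h0
    apply y.2.2
    funext j
    have := congrFun h0 (Sum.inl j)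
    rw [hPl] at this
    exact this
  obtain ⟨r, A, z, hr, hz, hPz, hA0, hAind, hArel⟩ := RatCone.rat_simplicial P hP0 hP
  -- the relations
  have hrel : ∀ i (j : Fin n.dim),
      ∑ l, ((α.toLin (Pi.single l 1) j : ℤ) : ℚ) * A i (Sum.inl l) =
        ∑ l, ((β.toLin (Pi.single l 1) j : ℤ) : ℚ) * A i (Sum.inr l) := by
    intro i j
    have h1 := hArel (Sum.elim (fun l => ((α.toLin (Pi.single l 1) j : ℤ) : ℚ))
      (fun l => -((β.toLin (Pi.single l 1) j : ℤ) : ℚ))) ?_ i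
    · rw [Fintype.sum_sum_type] at h1
      simp only [Sum.elim_inl, Sum.elim_inr, neg_mul, Finset.sum_neg_distrib] at h1
      linarith
    · rw [Fintype.sum_sum_type]
      simp only [Sum.elim_inl, Sum.elim_inr, hPl, hPr]
      have h2 := congrFun h j
      rw [realMap_apply, Pi.smul_apply, realMap_apply, smul_eq_mul, Finset.mul_sum] at h2
      push_cast
      rw [h2, ← Finset.sum_add_distrib]
      exact Finset.sum_eq_zero fun l _ => by ring
  -- denominators
  obtain ⟨D, hDdef⟩ : ∃ D : Fin r → ℕ, D = fun i => ∏ x, (A i x).den := ⟨_, rfl⟩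
  have hDpos : ∀ i, 0 < D i := fun i => by
    rw [hDdef]; exact Finset.prod_pos (fun x _ => (A i x).den_pos)
  have hp : ∀ i x, ∃ n : ℤ, ((n : ℤ) : ℚ) = (D i : ℚ) * A i x ∧ 0 ≤ n := by
    intro i x
    obtain ⟨c, hc⟩ : (A i x).den ∣ D i := by
      rw [hDdef]; exact Finset.dvd_prod_of_mem (fun x => (A i x).den) (Finset.mem_univ x)
    refine ⟨(c : ℤ) * (A i x).num, ?_, mul_nonneg (Int.natCast_nonneg c)
      (Rat.num_nonneg.mpr (hA0 i x))⟩
    have h1 := Rat.mul_den_eq_num (A i x)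
    rw [hc]
    push_cast
    rw [← h1]
    ring
  choose p hp hp0 using hp
  have hpR : ∀ i x, ((p i x : ℤ) : ℝ) = (D i : ℝ) * ((A i x : ℚ) : ℝ) := by
    intro i x
    have := congrArg (Rat.cast : ℚ → ℝ) (hp i x)
    push_cast at this
    exact this
  -- the key identity
  have hαβ : ∀ i, α.toLin (fun l => p i (Sum.inl l)) = β.toLin (fun l => p i (Sum.inr l)) := by
    intro i
    funext j
    rw [lin_apply_eq_sum, lin_apply_eq_sum]
    apply Int.cast_injective (α := ℚ)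
    push_cast
    simp only [hp]
    have := hrel i j
    calc ∑ l, ((α.toLin (Pi.single l 1) j : ℤ) : ℚ) * ((D i : ℚ) * A i (Sum.inl l))
        = (D i : ℚ) * ∑ l, ((α.toLin (Pi.single l 1) j : ℤ) : ℚ) * A i (Sum.inl l) := by
          rw [Finset.mul_sum]; exact Finset.sum_congr rfl fun l _ => by ring
      _ = (D i : ℚ) * ∑ l, ((β.toLin (Pi.single l 1) j : ℤ) : ℚ) * A i (Sum.inr l) := by
          rw [this]
      _ = ∑ l, ((β.toLin (Pi.single l 1) j : ℤ) : ℚ) * ((D i : ℚ) * A i (Sum.inr l)) := by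
          rw [Finset.mul_sum]; exact Finset.sum_congr rfl fun l _ => by ring
  -- vanishing criterion
  have hzero : ∀ c : Fin r → ℤ, (∀ x, ∑ i, c i * p i x = 0) → c = 0 := by
    intro c hc
    have h1 : ∑ i, ((c i : ℚ) * (D i : ℚ)) • A i = 0 := by
      funext x
      rw [Finset.sum_apply]
      simp only [Pi.smul_apply, smul_eq_mul, Pi.zero_apply]
      have h2 := congrArg (Int.cast : ℤ → ℚ) (hc x)
      push_cast at h2
      simp only [hp] at h2
      rw [← h2]
      exact Finset.sum_congr rfl fun i _ => by ring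
    have h3 := Fintype.linearIndependent_iff.mp hAind _ h1
    funext i
    have h4 := h3 i
    have hD : ((D i : ℕ) : ℚ) ≠ 0 := by exact_mod_cast (hDpos i).ne'
    rcases mul_eq_zero.mp h4 with h5 | h5
    · exact_mod_cast h5
    · exact absurd h5 hD
  have hlr : ∀ c : Fin r → ℤ, (∀ l, ∑ i, c i * p i (Sum.inl l) = 0) →
      ∀ l, ∑ i, c i * p i (Sum.inr l) = 0 := by
    intro c hc
    have h1 : ∑ i, c i • (fun l => p i (Sum.inl l) : Fin k.dim → ℤ) = 0 := by
      funext l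
      rw [Finset.sum_apply]
      simp only [Pi.smul_apply, smul_eq_mul, Pi.zero_apply]
      exact hc l
    have h2 := congrArg α.toLin h1
    rw [map_sum, map_zero] at h2
    simp only [map_smul, hαβ] at h2
    have h3 : β.toLin (∑ i, c i • (fun l => p i (Sum.inr l) : Fin k'.dim → ℤ)) = 0 := by
      rw [map_sum]; simp only [map_smul]; exact h2
    have h4 := β.injective (h3.trans (map_zero β.toLin).symm)
    intro l
    have h5 := congrFun h4 l
    rw [Finset.sum_apply] at h5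
    simpa only [Pi.smul_apply, smul_eq_mul, Pi.zero_apply] using h5
  have hrl : ∀ c : Fin r → ℤ, (∀ l, ∑ i, c i * p i (Sum.inr l) = 0) →
      ∀ l, ∑ i, c i * p i (Sum.inl l) = 0 := by
    intro c hc
    have h1 : ∑ i, c i • (fun l => p i (Sum.inr l) : Fin k'.dim → ℤ) = 0 := by
      funext l
      rw [Finset.sum_apply]
      simp only [Pi.smul_apply, smul_eq_mul, Pi.zero_apply]
      exact hc l
    have h2 := congrArg β.toLin h1
    rw [map_sum, map_zero] at h2
    simp only [map_smul, ← hαβ] at h2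
    have h3 : α.toLin (∑ i, c i • (fun l => p i (Sum.inl l) : Fin k.dim → ℤ)) = 0 := by
      rw [map_sum]; simp only [map_smul]; exact h2
    have h4 := α.injective (h3.trans (map_zero α.toLin).symm)
    intro l
    have h5 := congrFun h4 l
    rw [Finset.sum_apply] at h5
    simpa only [Pi.smul_apply, smul_eq_mul, Pi.zero_apply] using h5
  -- the cone [m]
  obtain ⟨m, hm⟩ : ∃ m : ICone, (m.dim : ℕ) = r := ⟨⟨⟨r, hr⟩⟩, rfl⟩
  subst hm
  let ψ : m ⟶ k :=
    { toLin := Fintype.linearCombination ℤ (fun i => (fun l => p i (Sum.inl l) : Fin k.dim → ℤ))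
      injective := by
        rw [injective_iff_map_eq_zero]
        intro c hc
        rw [Fintype.linearCombination_apply] at hc
        have h1 : ∀ l, ∑ i, c i * p i (Sum.inl l) = 0 := by
          intro l
          have h5 := congrFun hc l
          rw [Finset.sum_apply] at h5
          simpa only [Pi.smul_apply, smul_eq_mul, Pi.zero_apply] using h5
        have h2 := hlr c h1
        apply hzero
        rintro (l | l)
        · exact h1 l
        · exact h2 l
      nonneg := by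
        intro v hv j
        rw [Fintype.linearCombination_apply, Finset.sum_apply]
        refine Finset.sum_nonneg fun i _ => ?_
        simp only [Pi.smul_apply, smul_eq_mul]
        exact mul_nonneg (hv i) (hp0 i _) }
  let ψ' : m ⟶ k' :=
    { toLin := Fintype.linearCombination ℤ (fun i => (fun l => p i (Sum.inr l) : Fin k'.dim → ℤ))
      injective := by
        rw [injective_iff_map_eq_zero]
        intro c hc
        rw [Fintype.linearCombination_apply] at hc
        have h1 : ∀ l, ∑ i, c i * p i (Sum.inr l) = 0 := by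
          intro l
          have h5 := congrFun hc l
          rw [Finset.sum_apply] at h5
          simpa only [Pi.smul_apply, smul_eq_mul, Pi.zero_apply] using h5
        have h2 := hrl c h1
        apply hzero
        rintro (l | l)
        · exact h2 l
        · exact h1 l
      nonneg := by
        intro v hv j
        rw [Fintype.linearCombination_apply, Finset.sum_apply]
        refine Finset.sum_nonneg fun i _ => ?_
        simp only [Pi.smul_apply, smul_eq_mul]
        exact mul_nonneg (hv i) (hp0 i _) }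
  have hψ1 : ∀ i, ψ.toLin (Pi.single i 1) = fun l => p i (Sum.inl l) := by
    intro i
    show Fintype.linearCombination ℤ _ (Pi.single i 1) = _
    rw [Fintype.linearCombination_apply_single, one_smul]
  have hψ'1 : ∀ i, ψ'.toLin (Pi.single i 1) = fun l => p i (Sum.inr l) := by
    intro i
    show Fintype.linearCombination ℤ _ (Pi.single i 1) = _
    rw [Fintype.linearCombination_apply_single, one_smul]
  have hDR : ∀ i, (0:ℝ) < (D i : ℝ) := fun i => by exact_mod_cast hDpos i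
  let z' : Orth m := ⟨fun i => z i / (D i : ℝ), fun i => (div_pos (hz i) (hDR i)).le, fun h0 => by
    have := congrFun h0 ⟨0, hr⟩
    have h1 : 0 < z ⟨0, hr⟩ / (D ⟨0, hr⟩ : ℝ) := div_pos (hz _) (hDR _)
    simp only [Pi.zero_apply] at this
    linarith⟩
  have hz'1 : ∀ i, z'.1 i = z i / (D i : ℝ) := fun i => rfl
  refine ⟨m, ψ, ψ', z', 1 / t, by positivity, ?_, ?_, ?_⟩
  · apply ICone.Hom.ext
    rw [comp_toLin, comp_toLin]
    apply LinearMap.ext
    intro v
    show α.toLin (Fintype.linearCombination ℤ _ v) = β.toLin (Fintype.linearCombination ℤ _ v)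
    rw [Fintype.linearCombination_apply, Fintype.linearCombination_apply, map_sum, map_sum]
    simp only [map_smul, hαβ]
  · funext l
    rw [realMap_apply, ← hPl, hPz]
    refine Finset.sum_congr rfl fun i _ => ?_
    rw [hψ1, hpR, hz'1]
    have := (hDR i).ne'
    field_simp
  · funext l
    rw [Pi.smul_apply, realMap_apply, smul_eq_mul]
    have h1 : y'.1 l = (1 / t) * P (Sum.inr l) := by
      rw [hPr]; field_simp
    rw [h1, hPz]
    congr 1
    refine Finset.sum_congr rfl fun i _ => ?_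
    rw [hψ'1, hpR, hz'1]
    have := (hDR i).ne'
    field_simp

/-- The span relation on points. -/
def SpanRel (F : Fan.{u}) (p q : Pt F) : Prop :=
  ∃ (k : ICone) (φ₁ : k ⟶ p.1.1) (φ₂ : k ⟶ q.1.1) (y : Orth k) (c₁ c₂ : ℝ),
    F.map φ₁.op p.1.2 = F.map φ₂.op q.1.2 ∧ 0 < c₁ ∧ 0 < c₂ ∧
    p.2.1 = c₁ • φ₁.realMap y.1 ∧ q.2.1 = c₂ • φ₂.realMap y.1

lemma spanRel_refl (F : Fan.{u}) (p : Pt F) : SpanRel F p p :=
  ⟨p.1.1, 𝟙 _, 𝟙 _, p.2, 1, 1, rfl, one_pos, one_pos, by rw [realMap_id, one_smul],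
    by rw [realMap_id, one_smul]⟩

lemma spanRel_symm (F : Fan.{u}) {p q : Pt F} (h : SpanRel F p q) : SpanRel F q p := by
  obtain ⟨k, φ₁, φ₂, y, c₁, c₂, e, h1, h2, h3, h4⟩ := h
  exact ⟨k, φ₂, φ₁, y, c₂, c₁, e.symm, h2, h1, h4, h3⟩

lemma spanRel_of_rel (F : Fan.{u}) {p q : Pt F} (h : Rel F p q) : SpanRel F p q := by
  obtain @⟨k, n, φ, ξ, v, w, c, hc, hw⟩ := h
  refine ⟨k, 𝟙 k, φ, v, 1, c, ?_, one_pos, hc, ?_, hw⟩
  · show F.map (𝟙 k : k ⟶ k).op (F.map φ.op ξ) = F.map φ.op ξ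
    rw [map_id_op]
  · show v.1 = (1:ℝ) • (𝟙 k : k ⟶ k).realMap v.1
    rw [realMap_id, one_smul]

lemma spanRel_trans (F : Fan.{u}) {p q s : Pt F} (h₁ : SpanRel F p q) (h₂ : SpanRel F q s) :
    SpanRel F p s := by
  obtain ⟨k, φ₁, φ₂, y, c₁, c₂, e, hc₁, hc₂, hp, hq⟩ := h₁
  obtain ⟨k', φ₂', φ₃', y', c₂', c₃', e', hc₂', hc₃', hq', hs⟩ := h₂
  have hkey : φ₂.realMap y.1 = (c₂' / c₂) • φ₂'.realMap y'.1 := by
    have h1 : c₂ • φ₂.realMap y.1 = c₂' • φ₂'.realMap y'.1 := hq.symm.trans hq'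
    have h2 : φ₂.realMap y.1 = c₂⁻¹ • (c₂ • φ₂.realMap y.1) := by
      rw [smul_smul, inv_mul_cancel₀ hc₂.ne', one_smul]
    rw [h2, h1, smul_smul, div_eq_inv_mul]
  obtain ⟨m, ψ, ψ', z, a', ha', hcomm, hy, hy'⟩ :=
    exists_common_subcone φ₂ φ₂' y y' (c₂' / c₂) (div_pos hc₂' hc₂) hkey
  refine ⟨m, ψ ≫ φ₁, ψ' ≫ φ₃', z, c₁, c₃' * a', ?_, hc₁, mul_pos hc₃' ha', ?_, ?_⟩
  · rw [map_comp_op, e, ← map_comp_op, hcomm, map_comp_op, e', ← map_comp_op]
  · rw [realMap_comp, ← hy]; exact hp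
  · rw [realMap_comp, mul_smul, ← realMap_smul, ← hy']; exact hs

theorem spanRel_of_eq (F : Fan.{u}) (p q : Pt F)
    (h : Quot.mk (Rel F) p = Quot.mk (Rel F) q) : SpanRel F p q := by
  have h' := Quot.eqvGen_exact h
  clear h
  induction h' with
  | rel _ _ h => exact spanRel_of_rel F h
  | refl _ => exact spanRel_refl F _
  | symm _ _ _ ih => exact spanRel_symm F ih
  | trans _ _ _ _ _ ih1 ih2 => exact spanRel_trans F ih1 ih2

theorem main (F : Fan.{u}) {n₁ n₂ : ICone} (σ₁ : F.obj (op n₁)) (σ₂ : F.obj (op n₂))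
    (v₁ : Fan.Orth n₁) (v₂ : Fan.Orth n₂) (h : Fan.P.mk σ₁ v₁ = Fan.P.mk σ₂ v₂) :
    ∃ (k : ICone) (φ₁ : k ⟶ n₁) (φ₂ : k ⟶ n₂) (y : Fan.Orth k) (c₁ c₂ : ℝ),
      F.map φ₁.op σ₁ = F.map φ₂.op σ₂ ∧ 0 < c₁ ∧ 0 < c₂ ∧
        v₁.1 = c₁ • φ₁.realMap y.1 ∧ v₂.1 = c₂ • φ₂.realMap y.1 :=
  spanRel_of_eq F ⟨⟨n₁, σ₁⟩, v₁⟩ ⟨⟨n₂, σ₂⟩, v₂⟩ h

end Groth.Agent.Helper8.FanRel
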