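import Groth.Prelude.Def_W4c6instabfans3Fan
import Groth.Agent.Helper8.FanRel

set_option autoImplicit false

namespace Groth.Agent.Helper8.FanBasic

open CategoryTheory Opposite Instab Instab.Fan

universe u

lemma mk_glue {F : Fan.{u}} {k n : ICone} (φ : k ⟶ n) (ξ : F.obj (op n)) (v : Orth k)
    (w : Orth n) (c : ℝ) (hc : 0 < c) (h : w.1 = c • φ.realMap v.1) :
    P.mk (F.map φ.op ξ) v = P.mk ξ w :=
  Quot.sound (Rel.glue φ ξ v w c hc h)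

lemma map_mk {F G : Fan.{u}} (f : F ⟶ G) {n : ICone} (σ : F.obj (op n)) (v : Orth n) :
    P.map f (P.mk σ v) = P.mk (f.app _ σ) v := rfl

lemma exists_rep {F : Fan.{u}} (x : P F) :
    ∃ (n : ICone) (σ : F.obj (op n)) (v : Orth n), x = P.mk σ v := by
  obtain ⟨⟨⟨n, σ⟩, v⟩, rfl⟩ := Quot.exists_rep x
  exact ⟨n, σ, v, rfl⟩

lemma mk_eq_mk_of_span {F : Fan.{u}} {n₁ n₂ k : ICone} (σ₁ : F.obj (op n₁))
    (σ₂ : F.obj (op n₂)) (v₁ : Orth n₁) (v₂ : Orth n₂) (φ₁ : k ⟶ n₁) (φ₂ : k ⟶ n₂)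
    (y : Orth k) (c₁ c₂ : ℝ) (e : F.map φ₁.op σ₁ = F.map φ₂.op σ₂) (h1 : 0 < c₁) (h2 : 0 < c₂)
    (hv₁ : v₁.1 = c₁ • φ₁.realMap y.1) (hv₂ : v₂.1 = c₂ • φ₂.realMap y.1) :
    P.mk σ₁ v₁ = P.mk σ₂ v₂ := by
  rw [← mk_glue φ₁ σ₁ y v₁ c₁ h1 hv₁, ← mk_glue φ₂ σ₂ y v₂ c₂ h2 hv₂, e]

theorem s19358 {F G : Fan.{u}} (f : F ⟶ G) :
    ((∀ n : ICone, Function.Injective (f.app (op n))) → Function.Injective (Fan.P.map f)) ∧
      ((∀ n : ICone, Function.Surjective (f.app (op n))) →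
        Function.Surjective (Fan.P.map f)) := by
  constructor
  · intro hinj x x' hxx'
    obtain ⟨n₁, σ₁, v₁, rfl⟩ := exists_rep x
    obtain ⟨n₂, σ₂, v₂, rfl⟩ := exists_rep x'
    rw [map_mk, map_mk] at hxx'
    obtain ⟨k, φ₁, φ₂, y, c₁, c₂, e, h1, h2, hv₁, hv₂⟩ := FanRel.main G _ _ _ _ hxx'
    have e' : F.map φ₁.op σ₁ = F.map φ₂.op σ₂ := by
      apply hinj k
      rw [NatTrans.naturality_apply f φ₁.op σ₁, NatTrans.naturality_apply f φ₂.op σ₂]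
      exact e
    exact mk_eq_mk_of_span σ₁ σ₂ v₁ v₂ φ₁ φ₂ y c₁ c₂ e' h1 h2 hv₁ hv₂
  · intro hsurj y
    obtain ⟨n, τ, v, rfl⟩ := exists_rep y
    obtain ⟨σ, rfl⟩ := hsurj n τ
    exact ⟨P.mk σ v, rfl⟩

lemma pullback_isPullback_app {F F' G : Fan.{u}} (f : F ⟶ G) (g : F' ⟶ G) (k : ICone) :
    IsPullback ((Limits.pullback.fst f g).app (op k)) ((Limits.pullback.snd f g).app (op k))
      (f.app (op k)) (g.app (op k)) :=
  (IsPullback.of_hasPullback f g).map ((evaluation _ _).obj (op k))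

lemma pullback_condition_apply {F F' G : Fan.{u}} (f : F ⟶ G) (g : F' ⟶ G) {k : ICone}
    (w : (Limits.pullback f g).obj (op k)) :
    f.app _ ((Limits.pullback.fst f g).app _ w) = g.app _ ((Limits.pullback.snd f g).app _ w) := by
  have hw := ConcreteCategory.congr_hom (pullback_isPullback_app f g k).w w
  simpa using hw

lemma pullback_exists {F F' G : Fan.{u}} (f : F ⟶ G) (g : F' ⟶ G) {k : ICone}
    (a : F.obj (op k)) (a' : F'.obj (op k)) (h : f.app _ a = g.app _ a') :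
    ∃ w : (Limits.pullback f g).obj (op k),
      (Limits.pullback.fst f g).app _ w = a ∧ (Limits.pullback.snd f g).app _ w = a' :=
  Limits.Types.exists_of_isPullback (pullback_isPullback_app f g k) a a' h

lemma pullback_ext {F F' G : Fan.{u}} (f : F ⟶ G) (g : F' ⟶ G) {k : ICone}
    (w w' : (Limits.pullback f g).obj (op k))
    (h1 : (Limits.pullback.fst f g).app _ w = (Limits.pullback.fst f g).app _ w')
    (h2 : (Limits.pullback.snd f g).app _ w = (Limits.pullback.snd f g).app _ w') : w = w' :=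
  Limits.Types.ext_of_isPullback (pullback_isPullback_app f g k) h1 h2

theorem s19360 {F F' G : Fan.{u}} (f : F ⟶ G) (g : F' ⟶ G) (x : Fan.P F) (x' : Fan.P F')
    (h : Fan.P.map f x = Fan.P.map g x') :
    ∃ y : Fan.P (Limits.pullback f g),
      Fan.P.map (Limits.pullback.fst f g) y = x ∧ Fan.P.map (Limits.pullback.snd f g) y = x' := by
  obtain ⟨n₁, σ₁, v₁, rfl⟩ := exists_rep x
  obtain ⟨n₂, σ₂, v₂, rfl⟩ := exists_rep x'
  rw [map_mk, map_mk] at h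
  obtain ⟨k, φ₁, φ₂, y, c₁, c₂, e, h1, h2, hv₁, hv₂⟩ := FanRel.main G _ _ _ _ h
  have e' : f.app _ (F.map φ₁.op σ₁) = g.app _ (F'.map φ₂.op σ₂) := by
    rw [NatTrans.naturality_apply f φ₁.op σ₁, NatTrans.naturality_apply g φ₂.op σ₂]; exact e
  obtain ⟨w, hw1, hw2⟩ := pullback_exists f g _ _ e'
  refine ⟨P.mk w y, ?_, ?_⟩
  · rw [map_mk, hw1]; exact mk_glue φ₁ σ₁ y v₁ c₁ h1 hv₁
  · rw [map_mk, hw2]; exact mk_glue φ₂ σ₂ y v₂ c₂ h2 hv₂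

lemma mem_range_ι_iff {F : Fan.{u}} (S : Subfunctor F) (x : P F) :
    x ∈ Set.range (P.map S.ι) ↔
      ∃ (n : ICone) (σ : F.obj (op n)) (v : Orth n), σ ∈ S.obj (op n) ∧ x = P.mk σ v := by
  constructor
  · rintro ⟨y, rfl⟩
    obtain ⟨n, σ, v, rfl⟩ := exists_rep y
    exact ⟨n, σ.1, v, σ.2, rfl⟩
  · rintro ⟨n, σ, v, hσ, rfl⟩
    exact ⟨P.mk (F := S.toFunctor) ⟨σ, hσ⟩ v, rfl⟩

theorem s19362 {F G G' : Fan.{u}} (f : F ⟶ G) (g : G' ⟶ G) :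
    Set.range (Fan.P.map f) = Set.range (Fan.P.map (Subfunctor.range f).ι) ∧
      Set.range (Fan.P.map (Limits.pullback.snd f g)) =
        Fan.P.map g ⁻¹' Set.range (Fan.P.map f) := by
  constructor
  · ext x
    rw [mem_range_ι_iff]
    constructor
    · rintro ⟨y, rfl⟩
      obtain ⟨n, σ, v, rfl⟩ := exists_rep y
      exact ⟨n, f.app _ σ, v, ⟨σ, rfl⟩, rfl⟩
    · rintro ⟨n, τ, v, ⟨σ, rfl⟩, rfl⟩
      exact ⟨P.mk σ v, rfl⟩
  · ext y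
    constructor
    · rintro ⟨z, rfl⟩
      obtain ⟨n, w, v, rfl⟩ := exists_rep z
      refine ⟨P.mk ((Limits.pullback.fst f g).app _ w) v, ?_⟩
      rw [map_mk, map_mk, map_mk, pullback_condition_apply]
    · rintro ⟨x, hx⟩
      obtain ⟨z, -, hz2⟩ := s19360 f g x y hx
      exact ⟨z, hz2⟩

theorem s19368 (F : Fan.{u}) :
    (∀ U V : Set (Fan.P F), Fan.IsRealizable U → Fan.IsRealizable V →
        Fan.IsRealizable (U ∩ V)) ∧
      ∀ (ι : Type u) (U : ι → Set (Fan.P F)), (∀ i, Fan.IsRealizable (U i)) →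
        Fan.IsRealizable (Set.iUnion U) := by
  constructor
  · rintro U V ⟨S, rfl⟩ ⟨T, rfl⟩
    refine ⟨S ⊓ T, ?_⟩
    ext x
    rw [Set.mem_inter_iff, mem_range_ι_iff, mem_range_ι_iff, mem_range_ι_iff]
    constructor
    · rintro ⟨⟨n₁, σ₁, v₁, hσ₁, rfl⟩, ⟨n₂, σ₂, v₂, hσ₂, hx⟩⟩
      obtain ⟨k, φ₁, φ₂, y, c₁, c₂, e, h1, h2, hv₁, hv₂⟩ := FanRel.main F _ _ _ _ hx
      have hS : F.map φ₁.op σ₁ ∈ S.obj (op k) := S.map φ₁.op hσ₁
      have hT : F.map φ₁.op σ₁ ∈ T.obj (op k) := by rw [e]; exact T.map φ₂.op hσ₂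
      exact ⟨k, F.map φ₁.op σ₁, y, ⟨hS, hT⟩, (mk_glue φ₁ σ₁ y v₁ c₁ h1 hv₁).symm⟩
    · rintro ⟨n, σ, v, ⟨hS, hT⟩, rfl⟩
      exact ⟨⟨n, σ, v, hS, rfl⟩, ⟨n, σ, v, hT, rfl⟩⟩
  · intro ι U hU
    choose S hS using hU
    refine ⟨⨆ i, S i, ?_⟩
    ext x
    rw [Set.mem_iUnion, mem_range_ι_iff]
    constructor
    · rintro ⟨i, hi⟩
      rw [hS i, mem_range_ι_iff] at hi
      obtain ⟨n, σ, v, hσ, rfl⟩ := hi
      exact ⟨n, σ, v, by rw [Subfunctor.iSup_obj]; exact Set.mem_iUnion.mpr ⟨i, hσ⟩, rfl⟩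
    · rintro ⟨n, σ, v, hσ, rfl⟩
      rw [Subfunctor.iSup_obj] at hσ
      obtain ⟨i, hi⟩ := Set.mem_iUnion.mp hσ
      exact ⟨i, by rw [hS i, mem_range_ι_iff]; exact ⟨n, σ, v, hi, rfl⟩⟩

end Groth.Agent.Helper8.FanBasic
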