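import Groth.Prelude.Def_W4c6instabfans3Fan
import Groth.Agent.Helper8.FanBasic

set_option autoImplicit false

namespace Groth.Agent.Helper8.FanQS

open CategoryTheory Opposite Instab Instab.Fan
open Groth.Agent.Helper8.FanBasic

universe u

lemma coneMap_app {F : Fan.{u}} {n k : ICone} (σ : F.obj (op n))
    (x : (uliftYoneda.{u}.obj n).obj (op k)) :
    (coneMap σ).app (op k) x = F.map x.down.op σ := rfl

lemma yoneda_map_down {n k k' : ICone} (ψ : k' ⟶ k) (x : (uliftYoneda.{u}.obj n).obj (op k)) :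
    ((uliftYoneda.{u}.obj n).map ψ.op x).down = ψ ≫ x.down := rfl

lemma coneMap_comp {F G : Fan.{u}} (f : F ⟶ G) {n : ICone} (σ : F.obj (op n)) :
    coneMap σ ≫ f = coneMap (f.app _ σ) :=
  uliftYonedaEquiv_symm_comp σ f

lemma toLin_single_nonneg {k n : ICone} (φ : k ⟶ n) (i : Fin k.dim) (j : Fin n.dim) :
    0 ≤ φ.toLin (Pi.single i 1) j := by
  classical
  exact φ.nonneg _ (fun l => by rw [Pi.single_apply]; split_ifs <;> norm_num) j

lemma realMap_nonneg {k n : ICone} (φ : k ⟶ n) (v : Fin k.dim → ℝ) (hv : ∀ i, 0 ≤ v i)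
    (j : Fin n.dim) : 0 ≤ φ.realMap v j := by
  rw [FanRel.realMap_apply]
  exact Finset.sum_nonneg fun i _ =>
    mul_nonneg (by exact_mod_cast toLin_single_nonneg φ i j) (hv i)

lemma realMap_ne_zero {k n : ICone} (φ : k ⟶ n) (v : Orth k) : φ.realMap v.1 ≠ 0 := by
  classical
  have hex : ∃ i, v.1 i ≠ 0 := by
    by_contra h
    push Not at h
    exact v.2.2 (funext h)
  obtain ⟨i, hi⟩ := hex
  have hvi : 0 < v.1 i := lt_of_le_of_ne (v.2.1 i) (Ne.symm hi)
  have hφi : φ.toLin (Pi.single i 1) ≠ 0 := by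
    intro h0
    have := φ.injective (h0.trans (map_zero φ.toLin).symm)
    have h1 := congrFun this i
    simp at h1
  obtain ⟨j, hj⟩ : ∃ j, φ.toLin (Pi.single i 1) j ≠ 0 := by
    by_contra h
    push Not at h
    exact hφi (funext h)
  have hjpos : (0:ℝ) < ((φ.toLin (Pi.single i 1) j : ℤ) : ℝ) := by
    have := lt_of_le_of_ne (toLin_single_nonneg φ i j) (Ne.symm hj)
    exact_mod_cast this
  intro h0
  have h1 := congrFun h0 j
  rw [FanRel.realMap_apply, Pi.zero_apply] at h1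
  have h2 : ((φ.toLin (Pi.single i 1) j : ℤ) : ℝ) * v.1 i ≤
      ∑ l, ((φ.toLin (Pi.single l 1) j : ℤ) : ℝ) * v.1 l :=
    Finset.single_le_sum (f := fun l => ((φ.toLin (Pi.single l 1) j : ℤ) : ℝ) * v.1 l)
      (fun l _ => mul_nonneg (by exact_mod_cast toLin_single_nonneg φ l j) (v.2.1 l))
      (Finset.mem_univ i)
  have := mul_pos hjpos hvi
  linarith

/-- The image of a point of the punctured orthant under a cone morphism. -/
noncomputable def orthMap {k n : ICone} (φ : k ⟶ n) (v : Orth k) : Orth n :=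
  ⟨φ.realMap v.1, realMap_nonneg φ v.1 v.2.1, realMap_ne_zero φ v⟩

lemma orthMap_val {k n : ICone} (φ : k ⟶ n) (v : Orth k) : (orthMap φ v).1 = φ.realMap v.1 := rfl

lemma mk_map_eq {F : Fan.{u}} {k n : ICone} (φ : k ⟶ n) (ξ : F.obj (op n)) (v : Orth k) :
    P.mk (F.map φ.op ξ) v = P.mk ξ (orthMap φ v) :=
  mk_glue φ ξ v _ 1 one_pos (by rw [one_smul]; rfl)

/-- The pair of cone morphisms underlying a cone of the fibre product of two cones. -/
noncomputable def toPair {G : Fan.{u}} {n n' : ICone} (ξ : G.obj (op n)) (ξ' : G.obj (op n'))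
    (e : Σ k : ICone, (Limits.pullback (coneMap ξ) (coneMap ξ')).obj (op k)) :
    Σ k : ICone, (k ⟶ n) × (k ⟶ n') :=
  ⟨e.1, (((Limits.pullback.fst (coneMap ξ) (coneMap ξ')).app _ e.2).down,
    ((Limits.pullback.snd (coneMap ξ) (coneMap ξ')).app _ e.2).down)⟩

theorem s19373 (G : Fan.{u}) (hG : G.IsQuasiSeparated) {n n' : ICone} (ξ : G.obj (op n))
    (ξ' : G.obj (op n')) :
    ∃ s : Finset (Σ k : ICone, (k ⟶ n) × (k ⟶ n')),
      (∀ e ∈ s, G.map e.2.1.op ξ = G.map e.2.2.op ξ') ∧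
        ∀ (v : Fan.Orth n) (w : Fan.Orth n'),
          Fan.P.mk ξ v = Fan.P.mk ξ' w ↔
            ∃ e ∈ s, ∃ (y : Fan.Orth e.1) (c c' : ℝ),
              0 < c ∧ 0 < c' ∧ v.1 = c • e.2.1.realMap y.1 ∧ w.1 = c' • e.2.2.realMap y.1 := by
  classical
  obtain ⟨s₀, hs₀⟩ := hG n n' ξ ξ'
  have hpair : ∀ e, G.map (toPair ξ ξ' e).2.1.op ξ = G.map (toPair ξ ξ' e).2.2.op ξ' := by
    intro e
    have := pullback_condition_apply (coneMap ξ) (coneMap ξ') e.2
    rw [coneMap_app, coneMap_app] at this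
    exact this
  refine ⟨s₀.image (toPair ξ ξ'), ?_, ?_⟩
  · intro e he
    obtain ⟨e₀, -, rfl⟩ := Finset.mem_image.mp he
    exact hpair e₀
  · intro v w
    constructor
    · intro hvw
      obtain ⟨k₀, φ₁, φ₂, y₀, c₁, c₂, e, hc₁, hc₂, hv, hw⟩ := FanRel.main G _ _ _ _ hvw
      obtain ⟨w₀, hw₀1, hw₀2⟩ := pullback_exists (coneMap ξ) (coneMap ξ') (k := k₀)
        (ULift.up φ₁) (ULift.up φ₂) (by rw [coneMap_app, coneMap_app]; exact e)
      obtain ⟨e₀, he₀, y', hy'⟩ := hs₀ (P.mk w₀ y₀)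
      obtain ⟨k₁, ψ₂, ψ₁, y₁, d₂, d₁, eB, hd₂, hd₁, hy'1, hy₀1⟩ :=
        FanRel.main _ _ _ _ _ hy'
      have hfst : ψ₂ ≫ (toPair ξ ξ' e₀).2.1 = ψ₁ ≫ φ₁ := by
        have h1 := congrArg
          (fun t => ((Limits.pullback.fst (coneMap ξ) (coneMap ξ')).app _ t).down) eB
        simp only at h1
        rw [NatTrans.naturality_apply, NatTrans.naturality_apply, hw₀1, yoneda_map_down,
          yoneda_map_down] at h1
        exact h1
      have hsnd : ψ₂ ≫ (toPair ξ ξ' e₀).2.2 = ψ₁ ≫ φ₂ := by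
        have h1 := congrArg
          (fun t => ((Limits.pullback.snd (coneMap ξ) (coneMap ξ')).app _ t).down) eB
        simp only at h1
        rw [NatTrans.naturality_apply, NatTrans.naturality_apply, hw₀2, yoneda_map_down,
          yoneda_map_down] at h1
        exact h1
      have h1 : φ₁.realMap y₀.1 = d₁ • (toPair ξ ξ' e₀).2.1.realMap (ψ₂.realMap y₁.1) := by
        rw [hy₀1, FanRel.realMap_smul, ← FanRel.realMap_comp ψ₁ φ₁, ← hfst, FanRel.realMap_comp]
        rfl
      have h2 : φ₂.realMap y₀.1 = d₁ • (toPair ξ ξ' e₀).2.2.realMap (ψ₂.realMap y₁.1) := by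
        rw [hy₀1, FanRel.realMap_smul, ← FanRel.realMap_comp ψ₁ φ₂, ← hsnd, FanRel.realMap_comp]
        rfl
      refine ⟨toPair ξ ξ' e₀, Finset.mem_image_of_mem _ he₀, orthMap ψ₂ y₁, c₁ * d₁, c₂ * d₁,
        mul_pos hc₁ hd₁, mul_pos hc₂ hd₁, ?_, ?_⟩
      · rw [hv, h1, smul_smul]; rfl
      · rw [hw, h2, smul_smul]; rfl
    · rintro ⟨e, he, y, c, c', hc, hc', hv, hw⟩
      obtain ⟨e₀, -, rfl⟩ := Finset.mem_image.mp he
      exact mk_eq_mk_of_span ξ ξ' v w _ _ y c c' (hpair e₀) hc hc' hv hw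

lemma yoneda_isBounded (n : ICone) : Fan.IsBounded (uliftYoneda.{u}.obj n) := by
  classical
  refine ⟨{⟨n, ULift.up (𝟙 n)⟩}, fun x => ?_⟩
  obtain ⟨k, σ, v, rfl⟩ := exists_rep x
  refine ⟨⟨n, ULift.up (𝟙 n)⟩, Finset.mem_singleton_self _, orthMap σ.down v, ?_⟩
  have h1 : σ = (uliftYoneda.{u}.obj n).map σ.down.op (ULift.up (𝟙 n)) := by
    apply ULift.ext
    rw [yoneda_map_down]
    exact (Category.comp_id _).symm
  conv_rhs => rw [h1]
  exact (mk_map_eq (F := uliftYoneda.{u}.obj n) σ.down (ULift.up (𝟙 n)) v).symm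

theorem s19359 (G : Fan.{u}) :
    G.IsQuasiSeparated ↔ ∀ (F : Fan.{u}) (f : F ⟶ G), F.IsBounded → Fan.IsBoundedMap f := by
  classical
  constructor
  · intro hG F f hF n σ
    obtain ⟨sF, hsF⟩ := hF
    -- for each cone of F, the bounded fan and its finite cover
    have hB : ∀ e : (Σ m : ICone, F.obj (op m)),
        Fan.IsBounded (Limits.pullback (coneMap (f.app _ e.2)) (coneMap σ)) :=
      fun e => hG e.1 n (f.app _ e.2) σ
    choose t ht using hB
    -- the comparison maps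
    have hΘ : ∀ e : (Σ m : ICone, F.obj (op m)),
        (Limits.pullback.fst (coneMap (f.app _ e.2)) (coneMap σ) ≫ coneMap e.2) ≫ f =
          Limits.pullback.snd (coneMap (f.app _ e.2)) (coneMap σ) ≫ coneMap σ := by
      intro e
      rw [Category.assoc, coneMap_comp, Limits.pullback.condition]
    obtain ⟨Θ, hΘdef⟩ : ∃ Θ : ∀ e : (Σ m : ICone, F.obj (op m)),
        Limits.pullback (coneMap (f.app _ e.2)) (coneMap σ) ⟶ Limits.pullback f (coneMap σ),
        Θ = fun e => Limits.pullback.lift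
          (Limits.pullback.fst (coneMap (f.app _ e.2)) (coneMap σ) ≫ coneMap e.2)
          (Limits.pullback.snd (coneMap (f.app _ e.2)) (coneMap σ)) (hΘ e) := ⟨_, rfl⟩
    have hΘfst : ∀ e (k : ICone) (z : (Limits.pullback (coneMap (f.app _ e.2)) (coneMap σ)).obj (op k)),
        (Limits.pullback.fst f (coneMap σ)).app _ ((Θ e).app _ z) =
          (coneMap e.2).app _ ((Limits.pullback.fst (coneMap (f.app _ e.2)) (coneMap σ)).app _ z) := by
      intro e k z
      have h1 : Θ e ≫ Limits.pullback.fst f (coneMap σ) =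
          Limits.pullback.fst (coneMap (f.app _ e.2)) (coneMap σ) ≫ coneMap e.2 := by
        rw [hΘdef]; exact Limits.pullback.lift_fst _ _ _
      have h2 := ConcreteCategory.congr_hom (congr_app h1 (op k)) z
      simpa using h2
    have hΘsnd : ∀ e (k : ICone) (z : (Limits.pullback (coneMap (f.app _ e.2)) (coneMap σ)).obj (op k)),
        (Limits.pullback.snd f (coneMap σ)).app _ ((Θ e).app _ z) =
          (Limits.pullback.snd (coneMap (f.app _ e.2)) (coneMap σ)).app _ z := by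
      intro e k z
      have h1 : Θ e ≫ Limits.pullback.snd f (coneMap σ) =
          Limits.pullback.snd (coneMap (f.app _ e.2)) (coneMap σ) := by
        rw [hΘdef]; exact Limits.pullback.lift_snd _ _ _
      have h2 := ConcreteCategory.congr_hom (congr_app h1 (op k)) z
      simpa using h2
    refine ⟨sF.biUnion (fun e => (t e).image (fun d => ⟨d.1, (Θ e).app _ d.2⟩)), fun x => ?_⟩
    obtain ⟨k, w, v, rfl⟩ := exists_rep x
    -- the underlying point of P F
    obtain ⟨e, he, v', hv'⟩ := hsF (P.mk ((Limits.pullback.fst f (coneMap σ)).app _ w) v)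
    obtain ⟨k', φ₂, φ₁, y, c₂, c₁, eF, hc₂, hc₁, hv'1, hv1⟩ := FanRel.main F _ _ _ _ hv'
    -- the cone of B_e
    have hcond : (coneMap (f.app _ e.2)).app (op k') (ULift.up φ₂) =
        (coneMap σ).app (op k') (ULift.up (φ₁ ≫ ((Limits.pullback.snd f (coneMap σ)).app _ w).down)) := by
      rw [coneMap_app, coneMap_app]
      show G.map φ₂.op (f.app _ e.2) = G.map (φ₁ ≫ _).op σ
      rw [FanRel.map_comp_op, ← NatTrans.naturality_apply f φ₂.op e.2, eF,
        NatTrans.naturality_apply f φ₁.op]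
      congr 1
      have := pullback_condition_apply f (coneMap σ) w
      rw [coneMap_app] at this
      exact this
    obtain ⟨we, hwe1, hwe2⟩ := pullback_exists (coneMap (f.app _ e.2)) (coneMap σ) _ _ hcond
    obtain ⟨d, hd, y'', hy''⟩ := ht e (P.mk we y)
    have hΘwe : (Θ e).app _ we = (Limits.pullback f (coneMap σ)).map φ₁.op w := by
      apply pullback_ext f (coneMap σ)
      · rw [hΘfst, hwe1, coneMap_app, NatTrans.naturality_apply]
        exact eF
      · rw [hΘsnd, hwe2, NatTrans.naturality_apply]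
        apply ULift.ext
        rw [yoneda_map_down]
    refine ⟨⟨d.1, (Θ e).app _ d.2⟩, ?_, y'', ?_⟩
    · exact Finset.mem_biUnion.mpr ⟨e, he, Finset.mem_image_of_mem _ hd⟩
    · have h1 := congrArg (P.map (Θ e)) hy''
      rw [map_mk, map_mk, hΘwe] at h1
      rw [h1]
      exact mk_glue φ₁ w y v c₁ hc₁ hv1
  · intro h n₀ n₁ σ₀ σ₁
    exact h _ (coneMap σ₀) (yoneda_isBounded n₀) n₁ σ₁

end Groth.Agent.Helper8.FanQS
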