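import Groth.Prelude.Def_W4c6instabfans3Fan
import Groth.Agent.Helper8.FanQS

set_option autoImplicit false

namespace Groth.Agent.Helper8.FanTop

open CategoryTheory Opposite Instab Instab.Fan
open Groth.Agent.Helper8.FanBasic Groth.Agent.Helper8.FanQS

universe u

/-- The real extension of a cone morphism is injective. -/
lemma realMap_eq_zero {k n : ICone} (φ : k ⟶ n) (x : Fin k.dim → ℝ) (hx : φ.realMap x = 0) :
    x = 0 := by
  classical
  funext i₀
  rw [Pi.zero_apply, ← Module.forall_dual_apply_eq_zero_iff ℚ (x i₀)]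
  intro ρ
  obtain ⟨q, hq⟩ : ∃ q : Fin k.dim → ℚ, q = fun i => ρ (x i) := ⟨_, rfl⟩
  have hMq : ∀ j, ∑ i, ((φ.toLin (Pi.single i 1) j : ℤ) : ℚ) * q i = 0 := by
    intro j
    have h1 := congrFun hx j
    rw [FanRel.realMap_apply, Pi.zero_apply] at h1
    have h2 := congrArg ρ h1
    rw [map_sum, map_zero] at h2
    rw [← h2, hq]
    refine Finset.sum_congr rfl fun i _ => ?_
    have : (((φ.toLin (Pi.single i 1) j : ℤ) : ℝ)) * x i =
        ((φ.toLin (Pi.single i 1) j : ℤ) : ℚ) • x i := by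
      rw [Rat.smul_def]; push_cast; rfl
    rw [this, map_smul, smul_eq_mul]
  obtain ⟨D, hD⟩ : ∃ D : ℕ, D = ∏ i, (q i).den := ⟨_, rfl⟩
  have hDpos : 0 < D := by rw [hD]; exact Finset.prod_pos fun i _ => (q i).den_pos
  have hp : ∀ i, ∃ m : ℤ, ((m : ℤ) : ℚ) = (D : ℚ) * q i := by
    intro i
    obtain ⟨c, hc⟩ : (q i).den ∣ D := by
      rw [hD]; exact Finset.dvd_prod_of_mem (fun i => (q i).den) (Finset.mem_univ i)
    refine ⟨(c : ℤ) * (q i).num, ?_⟩
    have h1 := Rat.mul_den_eq_num (q i)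
    rw [hc]; push_cast; rw [← h1]; ring
  choose p hp using hp
  have hφp : φ.toLin p = 0 := by
    funext j
    rw [FanRel.lin_apply_eq_sum, Pi.zero_apply]
    apply Int.cast_injective (α := ℚ)
    push_cast
    simp only [hp]
    calc ∑ i, ((φ.toLin (Pi.single i 1) j : ℤ) : ℚ) * ((D : ℚ) * q i)
        = (D : ℚ) * ∑ i, ((φ.toLin (Pi.single i 1) j : ℤ) : ℚ) * q i := by
          rw [Finset.mul_sum]; exact Finset.sum_congr rfl fun i _ => by ring
      _ = 0 := by rw [hMq j, mul_zero]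
  have hp0 : p = 0 := φ.injective (hφp.trans (map_zero φ.toLin).symm)
  have h3 : (D : ℚ) * q i₀ = 0 := by rw [← hp i₀, hp0]; simp
  have hq0 : q i₀ = 0 := by
    rcases mul_eq_zero.mp h3 with h | h
    · exact absurd h (by exact_mod_cast hDpos.ne')
    · exact h
  rw [hq] at hq0
  exact hq0

lemma realMap_add {k n : ICone} (φ : k ⟶ n) (v w : Fin k.dim → ℝ) :
    φ.realMap (v + w) = φ.realMap v + φ.realMap w := by
  funext j
  simp only [FanRel.realMap_apply, Pi.add_apply, mul_add, Finset.sum_add_distrib]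

/-- The real extension as a linear map. -/
noncomputable def realLin {k n : ICone} (φ : k ⟶ n) : (Fin k.dim → ℝ) →ₗ[ℝ] (Fin n.dim → ℝ) where
  toFun := φ.realMap
  map_add' := realMap_add φ
  map_smul' c v := by rw [FanRel.realMap_smul]; rfl

lemma realLin_apply {k n : ICone} (φ : k ⟶ n) (v : Fin k.dim → ℝ) : realLin φ v = φ.realMap v := rfl

lemma realLin_isClosedEmbedding {k n : ICone} (φ : k ⟶ n) :
    Topology.IsClosedEmbedding (realLin φ) := by
  apply LinearMap.isClosedEmbedding_of_injective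
  rw [LinearMap.ker_eq_bot']
  intro x hx
  exact realMap_eq_zero φ x hx

lemma continuous_realMap {k n : ICone} (φ : k ⟶ n) : Continuous φ.realMap :=
  (realLin_isClosedEmbedding φ).continuous

lemma orth_isInducing (n : ICone) : Topology.IsInducing (fun v : Orth n => v.1) := ⟨rfl⟩

lemma continuous_orthMap {k n : ICone} (φ : k ⟶ n) : Continuous (orthMap φ) := by
  rw [(orth_isInducing n).continuous_iff]
  exact (continuous_realMap φ).comp (orth_isInducing k).continuous

/-- The cone over the image of a closed scale-invariant set of rays is closed. -/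
lemma isClosed_coneImage {k n : ICone} (φ : k ⟶ n) (T : Set (Orth k)) (hT : IsClosed T)
    (hTs : ∀ v w : Orth k, v ∈ T → ∀ c : ℝ, 0 < c → w.1 = c • v.1 → w ∈ T) :
    IsClosed {w : Orth n | ∃ y ∈ T, ∃ c : ℝ, 0 < c ∧ w.1 = c • φ.realMap y.1} := by
  obtain ⟨C, hC, hCT⟩ := (orth_isInducing k).isClosed_iff.mp hT
  have hT' : IsClosed ((C ∪ {0}) ∩ {x : Fin k.dim → ℝ | ∀ i, 0 ≤ x i}) := by
    refine (hC.union isClosed_singleton).inter ?_
    simp only [Set.setOf_forall]
    exact isClosed_iInter fun i => isClosed_le continuous_const (continuous_apply i)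
  have himg := (realLin_isClosedEmbedding φ).isClosedMap _ hT'
  have hpre := himg.preimage (orth_isInducing n).continuous
  convert hpre using 1
  ext w
  simp only [Set.mem_setOf_eq, Set.mem_preimage, Set.mem_image, Set.mem_inter_iff, Set.mem_union,
    Set.mem_singleton_iff]
  constructor
  · rintro ⟨y, hyT, c, hc, hw⟩
    refine ⟨c • y.1, ⟨Or.inl ?_, fun i => mul_nonneg hc.le (y.2.1 i)⟩, ?_⟩
    · have hcy : (⟨c • y.1, fun i => mul_nonneg hc.le (y.2.1 i),
          smul_ne_zero hc.ne' y.2.2⟩ : Orth k) ∈ T := hTs y _ hyT c hc rfl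
      rw [← hCT] at hcy
      exact hcy
    · rw [realLin_apply, FanRel.realMap_smul, hw]
  · rintro ⟨x, ⟨hxC, hxnn⟩, hLx⟩
    have hx0 : x ≠ 0 := by
      intro h0
      rw [h0, map_zero] at hLx
      exact w.2.2 hLx.symm
    have hxC' : x ∈ C := hxC.resolve_right hx0
    refine ⟨⟨x, hxnn, hx0⟩, ?_, 1, one_pos, ?_⟩
    · rw [← hCT]; exact hxC'
    · rw [one_smul, ← hLx]; rfl

lemma continuous_mk {F : Fan.{u}} {n : ICone} (ξ : F.obj (op n)) : Continuous (P.mk ξ) :=
  continuous_quot_mk.comp continuous_sigmaMk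

lemma isClosed_iff_forall {F : Fan.{u}} (S : Set (P F)) :
    IsClosed S ↔ ∀ (n : ICone) (ξ : F.obj (op n)), IsClosed (P.mk ξ ⁻¹' S) := by
  have h1 : IsClosed S ↔ IsClosed ((Quot.mk (Rel F) : Pt F → P F) ⁻¹' S) :=
    (isQuotientMap_quot_mk (X := Pt F) (r := Rel F)).1.isClosed_preimage.symm
  have h2 := @isClosed_sigma_iff (Σ n : ICone, F.obj (op n)) (fun e => Orth e.1) _
    ((Quot.mk (Rel F) : Pt F → P F) ⁻¹' S)
  refine h1.trans (h2.trans ?_)
  constructor
  · intro h n ξ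
    exact h ⟨n, ξ⟩
  · rintro h ⟨n, ξ⟩
    exact h n ξ

theorem s19366 (F : Fan.{u}) (hF : F.IsQuasiSeparated) :
    (∀ (n : ICone) (ξ : F.obj (op n)) (S : Set (Fan.Orth n)), IsClosed S →
        (∀ v w : Fan.Orth n, v ∈ S → ∀ c : ℝ, 0 < c → w.1 = c • v.1 → w ∈ S) →
        IsClosed (Fan.P.mk ξ '' S)) ∧
      ∀ S : Set (Fan.P F), IsClosed S ↔
        ∀ (n : ICone) (ξ : F.obj (op n)), IsClosed (S ∩ Fan.P.cell ξ) := by
  have part1 : ∀ (n : ICone) (ξ : F.obj (op n)) (S : Set (Fan.Orth n)), IsClosed S →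
      (∀ v w : Fan.Orth n, v ∈ S → ∀ c : ℝ, 0 < c → w.1 = c • v.1 → w ∈ S) →
      IsClosed (Fan.P.mk ξ '' S) := by
    intro n ξ S hS hSs
    rw [isClosed_iff_forall]
    intro n' ξ'
    obtain ⟨s, -, hs⟩ := s19373 F hF ξ ξ'
    have hset : P.mk ξ' ⁻¹' (P.mk ξ '' S) =
        ⋃ e ∈ s, {w : Orth n' | ∃ y ∈ {y : Orth e.1 | orthMap e.2.1 y ∈ S},
          ∃ c : ℝ, 0 < c ∧ w.1 = c • e.2.2.realMap y.1} := by
      ext w
      simp only [Set.mem_preimage, Set.mem_image, Set.mem_iUnion, Set.mem_setOf_eq, exists_prop]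
      constructor
      · rintro ⟨v, hvS, hvw⟩
        obtain ⟨e, he, y, c, c', hc, hc', hv, hw⟩ := (hs v w).mp hvw
        refine ⟨e, he, y, ?_, c', hc', hw⟩
        refine hSs v _ hvS c⁻¹ (inv_pos.mpr hc) ?_
        rw [orthMap_val, hv, smul_smul, inv_mul_cancel₀ hc.ne', one_smul]
      · rintro ⟨e, he, y, hyS, c', hc', hw⟩
        refine ⟨orthMap e.2.1 y, hyS, ?_⟩
        exact (hs _ w).mpr ⟨e, he, y, 1, c', one_pos, hc', by rw [one_smul]; rfl, hw⟩
    rw [hset]
    refine isClosed_biUnion_finset fun e _ => ?_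
    refine isClosed_coneImage e.2.2 _ (hS.preimage (continuous_orthMap e.2.1)) ?_
    intro v w hv c hc hwv
    refine hSs _ _ hv c hc ?_
    rw [orthMap_val, orthMap_val, hwv, FanRel.realMap_smul]
  refine ⟨part1, fun S => ⟨fun hS n ξ => ?_, fun h => ?_⟩⟩
  · refine hS.inter ?_
    have := part1 n ξ Set.univ isClosed_univ (fun _ _ _ _ _ _ => Set.mem_univ _)
    rw [Set.image_univ] at this
    exact this
  · rw [isClosed_iff_forall]
    intro n ξ
    have h1 : P.mk ξ ⁻¹' S = P.mk ξ ⁻¹' (S ∩ P.cell ξ) := by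
      ext v
      simp only [Set.mem_preimage, Set.mem_inter_iff, P.cell, Set.mem_range, exists_apply_eq_apply,
        and_true]
    rw [h1]
    exact (h n ξ).preimage (continuous_mk ξ)

end Groth.Agent.Helper8.FanTop
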