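import Groth.Prelude.Def_W4c6instabfans3Fan
import Groth.Agent.Helper8.FanTop

set_option autoImplicit false

namespace Groth.Agent.Helper8.FanBdd

open CategoryTheory Opposite Instab Instab.Fan
open Groth.Agent.Helper8.FanBasic Groth.Agent.Helper8.FanQS Groth.Agent.Helper8.FanTop

universe u

lemma mk_smul {F : Fan.{u}} {n : ICone} (ξ : F.obj (op n)) (v w : Orth n) (c : ℝ) (hc : 0 < c)
    (h : w.1 = c • v.1) : P.mk ξ v = P.mk ξ w := by
  have := mk_glue (𝟙 n) ξ v w c hc (by rw [FanRel.realMap_id]; exact h)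
  rw [FanRel.map_id_op] at this
  exact this

lemma continuous_map {F G : Fan.{u}} (f : F ⟶ G) : Continuous (P.map f) := by
  unfold P.map
  refine continuous_quot_lift _ (continuous_quot_mk.comp ?_)
  refine continuous_sigma (fun e => ?_)
  exact (continuous_sigmaMk (σ := fun e' : (Σ n : ICone, G.obj (op n)) => Orth e'.1)
    (i := ⟨e.1, f.app _ e.2⟩))

lemma yoneda_mk_eq {n k : ICone} (χ : k ⟶ n) (y : Orth k) (v : Orth n)
    (h : P.mk (F := uliftYoneda.{u}.obj n) (n := k) (ULift.up χ) y =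
      P.mk (F := uliftYoneda.{u}.obj n) (n := n) (ULift.up (𝟙 n)) v) :
    ∃ c : ℝ, 0 < c ∧ v.1 = c • χ.realMap y.1 := by
  obtain ⟨k', φ₁, φ₂, y₂, c₁, c₂, e, hc₁, hc₂, hy, hv⟩ := FanRel.main _ _ _ _ _ h
  have e' : φ₁ ≫ χ = φ₂ := by
    have := congrArg ULift.down e
    rw [yoneda_map_down, yoneda_map_down] at this
    simpa using this
  refine ⟨c₂ / c₁, div_pos hc₂ hc₁, ?_⟩
  rw [hv, ← e', FanRel.realMap_comp, hy, FanRel.realMap_smul, smul_smul,
    div_mul_cancel₀ _ hc₁.ne']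

lemma fibre_iff {F G : Fan.{u}} (ψ : F ⟶ G) {n : ICone} (ξ : G.obj (op n))
    (s₀ : Finset (Σ k : ICone, (Limits.pullback ψ (coneMap ξ)).obj (op k)))
    (hs₀ : ∀ x : P (Limits.pullback ψ (coneMap ξ)), ∃ e ∈ s₀, x ∈ P.cell e.2)
    (x : P F) (v : Orth n) :
    P.map ψ x = P.mk ξ v ↔ ∃ e ∈ s₀, ∃ y : Orth e.1,
      x = P.mk ((Limits.pullback.fst ψ (coneMap ξ)).app _ e.2) y ∧
      ∃ c : ℝ, 0 < c ∧
        v.1 = c • ((Limits.pullback.snd ψ (coneMap ξ)).app _ e.2).down.realMap y.1 := by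
  constructor
  · intro hx
    have h1 : P.map (coneMap ξ) (P.mk (F := uliftYoneda.{u}.obj n) (n := n) (ULift.up (𝟙 n)) v) =
        P.mk ξ v := by
      rw [map_mk, coneMap_app]
      show P.mk (G.map (𝟙 n : n ⟶ n).op ξ) v = P.mk ξ v
      rw [FanRel.map_id_op]
    obtain ⟨z, hz1, hz2⟩ := s19360 ψ (coneMap ξ) x _ (hx.trans h1.symm)
    obtain ⟨e, he, y, hy⟩ := hs₀ z
    refine ⟨e, he, y, ?_, ?_⟩
    · rw [← hz1, ← hy, map_mk]
    · apply yoneda_mk_eq
      rw [← hz2, ← hy, map_mk]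
      rfl
  · rintro ⟨e, he, y, rfl, c, hc, hv⟩
    rw [map_mk, pullback_condition_apply, coneMap_app]
    exact mk_glue _ ξ y v c hc hv

theorem s19363 {F G : Fan.{u}} (ψ : F ⟶ G) (hψ : Fan.IsBoundedMap ψ) :
    IsClosedMap (Fan.P.map ψ) ∧ (∀ y : Fan.P G, (Fan.P.map ψ ⁻¹' {y}).Finite) ∧
      ∀ (n : ICone) (ξ : G.obj (op n)), ∃ s : Finset (Σ k : ICone, k ⟶ n),
        {v : Fan.Orth n | Fan.P.mk ξ v ∈ Set.range (Fan.P.map ψ)} =
          ⋃ e ∈ s, {v : Fan.Orth n | ∃ (y : Fan.Orth e.1) (c : ℝ),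
            0 < c ∧ v.1 = c • e.2.realMap y.1} := by
  classical
  refine ⟨?_, ?_, ?_⟩
  · intro C hC
    rw [isClosed_iff_forall]
    intro n ξ
    obtain ⟨s₀, hs₀⟩ := hψ n ξ
    have hset : P.mk ξ ⁻¹' (P.map ψ '' C) = ⋃ e ∈ s₀, {v : Orth n |
        ∃ y ∈ (P.mk ((Limits.pullback.fst ψ (coneMap ξ)).app _ e.2) ⁻¹' C), ∃ c : ℝ, 0 < c ∧
          v.1 = c • ((Limits.pullback.snd ψ (coneMap ξ)).app _ e.2).down.realMap y.1} := by
      ext v
      simp only [Set.mem_preimage, Set.mem_image, Set.mem_iUnion, Set.mem_setOf_eq, exists_prop]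
      constructor
      · rintro ⟨x, hxC, hx⟩
        obtain ⟨e, he, y, rfl, c, hc, hv⟩ := (fibre_iff ψ ξ s₀ hs₀ x v).mp hx
        exact ⟨e, he, y, hxC, c, hc, hv⟩
      · rintro ⟨e, he, y, hyC, c, hc, hv⟩
        exact ⟨_, hyC, (fibre_iff ψ ξ s₀ hs₀ _ v).mpr ⟨e, he, y, rfl, c, hc, hv⟩⟩
    rw [hset]
    refine isClosed_biUnion_finset fun e _ => ?_
    refine isClosed_coneImage _ _ (hC.preimage (continuous_mk _)) ?_
    intro v w hv c hc hwv
    show P.mk _ w ∈ C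
    rw [← mk_smul _ v w c hc hwv]; exact hv
  · intro y₀
    obtain ⟨n, ξ, v, rfl⟩ := exists_rep y₀
    obtain ⟨s₀, hs₀⟩ := hψ n ξ
    have hsub : P.map ψ ⁻¹' {P.mk ξ v} ⊆ ⋃ e : ↥s₀, {x | ∃ y : Orth e.1.1,
        x = P.mk ((Limits.pullback.fst ψ (coneMap ξ)).app _ e.1.2) y ∧ ∃ c : ℝ, 0 < c ∧
          v.1 = c • ((Limits.pullback.snd ψ (coneMap ξ)).app _ e.1.2).down.realMap y.1} := by
      intro x hx
      obtain ⟨e, he, hh⟩ := (fibre_iff ψ ξ s₀ hs₀ x v).mp hx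
      exact Set.mem_iUnion.mpr ⟨⟨e, he⟩, hh⟩
    refine Set.Finite.subset (Set.finite_iUnion fun e => Set.Subsingleton.finite ?_) hsub
    rintro x ⟨y, rfl, c, hc, hv⟩ x' ⟨y', rfl, c', hc', hv'⟩
    have h0 : ((Limits.pullback.snd ψ (coneMap ξ)).app _ e.1.2).down.realMap
        (c • y.1 - c' • y'.1) = 0 := by
      rw [← realLin_apply, map_sub, realLin_apply, realLin_apply, FanRel.realMap_smul,
        FanRel.realMap_smul, ← hv, ← hv', sub_self]
    have h1 := realMap_eq_zero _ _ h0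
    apply mk_smul _ y y' (c / c') (div_pos hc hc')
    have h2 : c' • y'.1 = c • y.1 := (sub_eq_zero.mp h1).symm
    rw [div_eq_inv_mul, mul_smul, ← h2, smul_smul, inv_mul_cancel₀ hc'.ne', one_smul]
  · intro n ξ
    obtain ⟨s₀, hs₀⟩ := hψ n ξ
    refine ⟨s₀.image (fun e => (⟨e.1, ((Limits.pullback.snd ψ (coneMap ξ)).app _ e.2).down⟩ :
      Σ k : ICone, k ⟶ n)), ?_⟩
    ext v
    simp only [Set.mem_setOf_eq, Set.mem_range, Set.mem_iUnion, Finset.mem_image, exists_prop]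
    constructor
    · rintro ⟨x, hx⟩
      obtain ⟨e, he, y, -, c, hc, hv⟩ := (fibre_iff ψ ξ s₀ hs₀ x v).mp hx
      exact ⟨_, ⟨e, he, rfl⟩, y, c, hc, hv⟩
    · rintro ⟨_, ⟨e, he, rfl⟩, y, c, hc, hv⟩
      exact ⟨_, (fibre_iff ψ ξ s₀ hs₀ _ v).mpr ⟨e, he, y, rfl, c, hc, hv⟩⟩

theorem s19365 {F G : Fan.{u}} (ψ : F ⟶ G) (hψ : Fan.IsBoundedMap ψ)
    (hinj : ∀ n : ICone, Function.Injective (ψ.app (op n))) :
    Topology.IsClosedEmbedding (Fan.P.map ψ) :=
  Topology.IsClosedEmbedding.of_continuous_injective_isClosedMap (continuous_map ψ)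
    ((s19358 ψ).1 hinj) (s19363 ψ hψ).1

/-- The cone morphism `[1] ⟶ [n]` given by a nonzero nonnegative integer vector. -/
noncomputable def rayHom {n : ICone} (p : Fin n.dim → ℤ) (hp0 : ∀ i, 0 ≤ p i) (hp : p ≠ 0) :
    Fan.one ⟶ n where
  toLin := (LinearMap.toSpanSingleton ℤ _ p).comp
    (LinearMap.proj (⟨0, Fan.one.dim.pos⟩ : Fin Fan.one.dim))
  injective := by
    rw [injective_iff_map_eq_zero]
    intro t ht
    have h1 : t ⟨0, Fan.one.dim.pos⟩ • p = 0 := ht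
    have h2 : t ⟨0, Fan.one.dim.pos⟩ = 0 := (smul_eq_zero.mp h1).resolve_right hp
    funext i
    have hi : i = ⟨0, Fan.one.dim.pos⟩ := by
      apply Fin.ext
      have h3 : (Fan.one.dim : ℕ) = 1 := rfl
      have := i.2
      simp only
      omega
    rw [hi, h2]; rfl
  nonneg := by
    intro t ht j
    show 0 ≤ (t ⟨0, Fan.one.dim.pos⟩ • p) j
    rw [Pi.smul_apply, smul_eq_mul]
    exact mul_nonneg (ht _) (hp0 j)

lemma rayHom_realMap_ones {n : ICone} (p : Fin n.dim → ℤ) (hp0 : ∀ i, 0 ≤ p i) (hp : p ≠ 0) :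
    (rayHom p hp0 hp).realMap (Orth.ones Fan.one).1 = fun j => ((p j : ℤ) : ℝ) := by
  classical
  funext j
  rw [FanRel.realMap_apply]
  have hi : ∀ i : Fin Fan.one.dim, i = ⟨0, Fan.one.dim.pos⟩ := by
    intro i
    apply Fin.ext
    have h3 : (Fan.one.dim : ℕ) = 1 := rfl
    have := i.2
    simp only
    omega
  rw [Finset.sum_eq_single (⟨0, Fan.one.dim.pos⟩ : Fin Fan.one.dim)
    (fun i _ hne => absurd (hi i) hne) (fun h => absurd (Finset.mem_univ _) h)]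
  have h1 : (rayHom p hp0 hp).toLin (Pi.single ⟨0, Fan.one.dim.pos⟩ 1) = p := by
    show (Pi.single (⟨0, Fan.one.dim.pos⟩ : Fin Fan.one.dim) (1:ℤ) :
      Fin Fan.one.dim → ℤ) ⟨0, Fan.one.dim.pos⟩ • p = p
    rw [Pi.single_eq_same, one_smul]
  rw [h1]
  show ((p j : ℤ) : ℝ) * 1 = _
  rw [mul_one]

theorem s19364 {F G : Fan.{u}} (ψ : F ⟶ G) (hψ : Fan.IsBoundedMap ψ) :
    Function.Surjective (Fan.P.map ψ) ↔
      ∀ y : Fan.P G, y.IsRational → y ∈ Set.range (Fan.P.map ψ) := by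
  classical
  constructor
  · intro h y _
    exact h y
  · intro h y₀
    obtain ⟨n, ξ, v, rfl⟩ := exists_rep y₀
    obtain ⟨s, hs⟩ := (s19363 ψ hψ).2.2 n ξ
    have hRclosed : IsClosed {v : Orth n | P.mk ξ v ∈ Set.range (P.map ψ)} := by
      rw [hs]
      refine isClosed_biUnion_finset fun e _ => ?_
      have := isClosed_coneImage e.2 Set.univ isClosed_univ (fun _ _ _ _ _ _ => Set.mem_univ _)
      convert this using 1
      ext w
      simp
    -- an index with positive coordinate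
    have hex : ∃ i, v.1 i ≠ 0 := by
      by_contra hcon
      push Not at hcon
      exact v.2.2 (funext hcon)
    obtain ⟨i₀, hi₀⟩ := hex
    have hvi₀ : 0 < v.1 i₀ := lt_of_le_of_ne (v.2.1 i₀) (Ne.symm hi₀)
    -- integer approximations
    obtain ⟨p, hpdef⟩ : ∃ p : ℕ → Fin n.dim → ℤ,
        p = fun N i => ((⌈v.1 i * (((N + 1 : ℕ)) : ℝ)⌉₊ : ℕ) : ℤ) := ⟨_, rfl⟩
    have hp0 : ∀ N i, 0 ≤ p N i := fun N i => by rw [hpdef]; exact Int.natCast_nonneg _
    have hpne : ∀ N, p N ≠ 0 := by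
      intro N h0
      have h1 := congrFun h0 i₀
      rw [hpdef] at h1
      simp only [Pi.zero_apply, Int.natCast_eq_zero, Nat.ceil_eq_zero] at h1
      have h2 : (0:ℝ) < v.1 i₀ * (((N + 1 : ℕ)) : ℝ) := mul_pos hvi₀ (by positivity)
      linarith
    have hN1 : ∀ N : ℕ, (0:ℝ) < (((N + 1 : ℕ)) : ℝ) := fun N => by positivity
    obtain ⟨w, hwdef⟩ : ∃ w : ℕ → Orth n, ∀ N, (w N).1 =
        (1 / (((N + 1 : ℕ)) : ℝ)) • (fun j => ((p N j : ℤ) : ℝ)) := by
      refine ⟨fun N => ⟨(1 / (((N + 1 : ℕ)) : ℝ)) • (fun j => ((p N j : ℤ) : ℝ)), ?_, ?_⟩,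
        fun N => rfl⟩
      · intro j
        rw [Pi.smul_apply, smul_eq_mul]
        exact mul_nonneg (div_pos one_pos (hN1 N)).le (by exact_mod_cast hp0 N j)
      · intro h0
        apply hpne N
        funext j
        have h1 := congrFun h0 j
        rw [Pi.smul_apply, smul_eq_mul, Pi.zero_apply] at h1
        rcases mul_eq_zero.mp h1 with h2 | h2
        · exact absurd h2 (div_pos one_pos (hN1 N)).ne'
        · exact_mod_cast h2
    have hwR : ∀ N, w N ∈ {v : Orth n | P.mk ξ v ∈ Set.range (P.map ψ)} := by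
      intro N
      apply h
      refine ⟨G.map (rayHom (p N) (hp0 N) (hpne N)).op ξ, ?_⟩
      refine (mk_glue (rayHom (p N) (hp0 N) (hpne N)) ξ (Orth.ones Fan.one) (w N)
        (1 / (((N + 1 : ℕ)) : ℝ)) (div_pos one_pos (hN1 N)) ?_).symm
      rw [rayHom_realMap_ones, hwdef]
    have htend : Filter.Tendsto w Filter.atTop (nhds v) := by
      rw [(orth_isInducing n).tendsto_nhds_iff, tendsto_pi_nhds]
      intro j
      have h1 := (tendsto_nat_ceil_mul_div_atTop (R := ℝ) (v.2.1 j)).comp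
        (tendsto_natCast_atTop_atTop.comp (Filter.tendsto_add_atTop_nat 1))
      refine h1.congr (fun N => ?_)
      simp only [Function.comp_apply]
      rw [hwdef, Pi.smul_apply, smul_eq_mul, hpdef]
      push_cast
      ring
    exact hRclosed.mem_of_tendsto htend (Filter.Eventually.of_forall hwR)

end Groth.Agent.Helper8.FanBdd
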