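import Groth.Prelude.Def_W4c6instabfans3Fan
import Groth.Agent.Helper8.FanBdd

set_option autoImplicit false

namespace Groth.Agent.Helper8.FanRat

open CategoryTheory Opposite Instab Instab.Fan
open Groth.Agent.Helper8.FanBasic Groth.Agent.Helper8.FanQS Groth.Agent.Helper8.FanTop
open Groth.Agent.Helper8.FanBdd

universe u

lemma isRational_mk {F : Fan.{u}} {n : ICone} (ξ : F.obj (op n)) (p : Fin n.dim → ℤ)
    (hp0 : ∀ i, 0 ≤ p i) (hp : p ≠ 0) (w : Orth n) (c : ℝ) (hc : 0 < c)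
    (hw : w.1 = c • (fun j => ((p j : ℤ) : ℝ))) : (P.mk ξ w).IsRational :=
  ⟨F.map (rayHom p hp0 hp).op ξ,
    (mk_glue (rayHom p hp0 hp) ξ (Orth.ones Fan.one) w c hc
      (by rw [rayHom_realMap_ones]; exact hw)).symm⟩

/-- A closed set of rays containing all rational rays is everything. -/
lemma mem_of_closed_of_rational {n : ICone} (R : Set (Orth n)) (hR : IsClosed R)
    (hrat : ∀ (p : Fin n.dim → ℤ) (_ : ∀ i, 0 ≤ p i) (_ : p ≠ 0) (w : Orth n) (c : ℝ), 0 < c →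
      w.1 = c • (fun j => ((p j : ℤ) : ℝ)) → w ∈ R) (v : Orth n) : v ∈ R := by
  classical
  have hex : ∃ i, v.1 i ≠ 0 := by
    by_contra hcon
    push Not at hcon
    exact v.2.2 (funext hcon)
  obtain ⟨i₀, hi₀⟩ := hex
  have hvi₀ : 0 < v.1 i₀ := lt_of_le_of_ne (v.2.1 i₀) (Ne.symm hi₀)
  obtain ⟨p, hpdef⟩ : ∃ p : ℕ → Fin n.dim → ℤ,
      p = fun N i => ((⌈v.1 i * (((N + 1 : ℕ)) : ℝ)⌉₊ : ℕ) : ℤ) := ⟨_, rfl⟩
  have hp0 : ∀ N i, 0 ≤ p N i := fun N i => by rw [hpdef]; exact Int.natCast_nonneg _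
  have hpne : ∀ N, p N ≠ 0 := by
    intro N h0
    have h1 := congrFun h0 i₀
    rw [hpdef] at h1
    simp only [Pi.zero_apply, Int.natCast_eq_zero, Nat.ceil_eq_zero] at h1
    have h2 : (0:ℝ) < v.1 i₀ * (((N + 1 : ℕ)) : ℝ) := mul_pos hvi₀ (by positivity)
    linarith
  have hN1 : ∀ N : ℕ, (0:ℝ) < (((N + 1 : ℕ)) : ℝ) := fun N => by positivity
  obtain ⟨w, hwdef⟩ : ∃ w : ℕ → Orth n, ∀ N, (w N).1 =
      (1 / (((N + 1 : ℕ)) : ℝ)) • (fun j => ((p N j : ℤ) : ℝ)) := by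
    refine ⟨fun N => ⟨(1 / (((N + 1 : ℕ)) : ℝ)) • (fun j => ((p N j : ℤ) : ℝ)), ?_, ?_⟩,
      fun N => rfl⟩
    · intro j
      rw [Pi.smul_apply, smul_eq_mul]
      exact mul_nonneg (div_pos one_pos (hN1 N)).le (by exact_mod_cast hp0 N j)
    · intro h0
      apply hpne N
      funext j
      have h1 := congrFun h0 j
      rw [Pi.smul_apply, smul_eq_mul, Pi.zero_apply] at h1
      rcases mul_eq_zero.mp h1 with h2 | h2
      · exact absurd h2 (div_pos one_pos (hN1 N)).ne'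
      · exact_mod_cast h2
  have hwR : ∀ N, w N ∈ R := fun N =>
    hrat (p N) (hp0 N) (hpne N) (w N) _ (div_pos one_pos (hN1 N)) (hwdef N)
  have htend : Filter.Tendsto w Filter.atTop (nhds v) := by
    rw [(orth_isInducing n).tendsto_nhds_iff, tendsto_pi_nhds]
    intro j
    have h1 := (tendsto_nat_ceil_mul_div_atTop (R := ℝ) (v.2.1 j)).comp
      (tendsto_natCast_atTop_atTop.comp (Filter.tendsto_add_atTop_nat 1))
    refine h1.congr (fun N => ?_)
    simp only [Function.comp_apply]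
    rw [hwdef, Pi.smul_apply, smul_eq_mul, hpdef]
    push_cast
    ring
  exact hR.mem_of_tendsto htend (Filter.Eventually.of_forall hwR)

lemma pos_smul_iff {E : Type*} [NormedAddCommGroup E] [NormedSpace ℝ E] (a b : E) (ha : a ≠ 0)
    (hb : b ≠ 0) : (∃ t : ℝ, 0 < t ∧ a = t • b) ↔ ‖b‖ • a = ‖a‖ • b := by
  have hna : 0 < ‖a‖ := norm_pos_iff.mpr ha
  have hnb : 0 < ‖b‖ := norm_pos_iff.mpr hb
  constructor
  · rintro ⟨t, ht, rfl⟩
    rw [norm_smul, Real.norm_eq_abs, abs_of_pos ht, smul_smul, mul_comm]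
  · intro h
    refine ⟨‖a‖ / ‖b‖, div_pos hna hnb, ?_⟩
    rw [div_eq_inv_mul, mul_smul, ← h, smul_smul, inv_mul_cancel₀ hnb.ne', one_smul]

theorem s19367 {F G : Fan.{u}} (ψ : F ⟶ G) (hF : F.IsQuasiSeparated) :
    Function.Injective (Fan.P.map ψ) ↔
      ∀ x y : Fan.P F, x.IsRational → y.IsRational → Fan.P.map ψ x = Fan.P.map ψ y → x = y := by
  constructor
  · intro h x y _ _ hxy
    exact h hxy
  · intro hrat x x' hxx'
    obtain ⟨n₁, σ₁, v₁, rfl⟩ := exists_rep x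
    obtain ⟨n₂, σ₂, v₂, rfl⟩ := exists_rep x'
    rw [map_mk, map_mk] at hxx'
    obtain ⟨k, φ₁, φ₂, y, c₁, c₂, e, h1, h2, hv₁, hv₂⟩ := FanRel.main G _ _ _ _ hxx'
    have e' : ψ.app _ (F.map φ₁.op σ₁) = ψ.app _ (F.map φ₂.op σ₂) := by
      rw [NatTrans.naturality_apply ψ φ₁.op σ₁, NatTrans.naturality_apply ψ φ₂.op σ₂]
      exact e
    rw [← mk_glue φ₁ σ₁ y v₁ c₁ h1 hv₁, ← mk_glue φ₂ σ₂ y v₂ c₂ h2 hv₂]
    generalize F.map φ₁.op σ₁ = a at e' ⊢
    generalize F.map φ₂.op σ₂ = a' at e' ⊢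
    obtain ⟨s, -, hs⟩ := s19373 F hF a a'
    have hE : IsClosed {u : Orth k | P.mk a u = P.mk a' u} := by
      have hset : {u : Orth k | P.mk a u = P.mk a' u} = ⋃ e ∈ s, {u : Orth k |
          ∃ y ∈ {y : Orth e.1 | ∃ t : ℝ, 0 < t ∧ e.2.1.realMap y.1 = t • e.2.2.realMap y.1},
            ∃ c : ℝ, 0 < c ∧ u.1 = c • e.2.1.realMap y.1} := by
        ext u
        simp only [Set.mem_setOf_eq, Set.mem_iUnion, exists_prop]
        rw [hs u u]
        constructor
        · rintro ⟨e, he, y, c, c', hc, hc', hu, hu'⟩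
          refine ⟨e, he, y, ⟨c' / c, div_pos hc' hc, ?_⟩, c, hc, hu⟩
          have h3 : c • e.2.1.realMap y.1 = c' • e.2.2.realMap y.1 := hu.symm.trans hu'
          have h4 : e.2.1.realMap y.1 = c⁻¹ • (c • e.2.1.realMap y.1) := by
            rw [smul_smul, inv_mul_cancel₀ hc.ne', one_smul]
          rw [h4, h3, smul_smul, div_eq_inv_mul]
        · rintro ⟨e, he, y, ⟨t, ht, hty⟩, c, hc, hu⟩
          exact ⟨e, he, y, c, c * t, hc, mul_pos hc ht, hu, by rw [hu, hty, smul_smul]⟩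
      rw [hset]
      refine isClosed_biUnion_finset fun e _ => isClosed_coneImage e.2.1 _ ?_ ?_
      · have h5 : {y : Orth e.1 | ∃ t : ℝ, 0 < t ∧ e.2.1.realMap y.1 = t • e.2.2.realMap y.1} =
            {y : Orth e.1 | ‖e.2.2.realMap y.1‖ • e.2.1.realMap y.1 =
              ‖e.2.1.realMap y.1‖ • e.2.2.realMap y.1} := by
          ext y
          exact pos_smul_iff _ _ (realMap_ne_zero e.2.1 y) (realMap_ne_zero e.2.2 y)
        rw [h5]
        have hc1 : Continuous (fun y : Orth e.1 => e.2.1.realMap y.1) :=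
          (continuous_realMap e.2.1).comp (orth_isInducing e.1).continuous
        have hc2 : Continuous (fun y : Orth e.1 => e.2.2.realMap y.1) :=
          (continuous_realMap e.2.2).comp (orth_isInducing e.1).continuous
        exact isClosed_eq (hc2.norm.smul hc1) (hc1.norm.smul hc2)
      · rintro v w ⟨t, ht, hvt⟩ c hc hwv
        refine ⟨t, ht, ?_⟩
        rw [hwv, FanRel.realMap_smul, FanRel.realMap_smul, hvt, smul_comm]
    refine mem_of_closed_of_rational _ hE ?_ y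
    intro p hp0 hp w c hc hw
    refine hrat _ _ (isRational_mk a p hp0 hp w c hc hw) (isRational_mk a' p hp0 hp w c hc hw) ?_
    rw [map_mk, map_mk, e']

end Groth.Agent.Helper8.FanRat
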