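import Groth.Prelude.Def_W4c6instabfans3FanCvx
import Groth.Agent.Helper8.FanRat

set_option autoImplicit false

namespace Groth.Agent.Helper8.FanCvx

open CategoryTheory Opposite Instab Instab.Fan
open Groth.Agent.Helper8.FanBasic Groth.Agent.Helper8.FanQS Groth.Agent.Helper8.FanTop
open Groth.Agent.Helper8.FanBdd Groth.Agent.Helper8.FanRat

universe u v

lemma two_cases (j : Fin two.dim) : j = 0 ∨ j = 1 := by
  have h : ∀ j : Fin 2, j = 0 ∨ j = 1 := by decide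
  exact h j

lemma two_ne : (1 : Fin two.dim) ≠ 0 := by
  have h : (1 : Fin 2) ≠ 0 := by decide
  exact h

lemma basis_apply (i j : Fin two.dim) :
    (Orth.basis two i).1 j = if j = i then (1:ℝ) else 0 := rfl

lemma basis_not_prop : ¬ ∃ c : ℝ, (Orth.basis two 1).1 = c • (Orth.basis two 0).1 := by
  rintro ⟨c, hc⟩
  have h1 := congr_fun hc 1
  rw [Pi.smul_apply, basis_apply, basis_apply, if_pos rfl, if_neg two_ne, smul_eq_mul,
    mul_zero] at h1
  exact one_ne_zero h1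

lemma exists_rational_gt {F : Fan.{u}} (U : Set (P F)) (hR : IsRealizable U) {Γ : Type v}
    [LinearOrder Γ] (Φ : U → Γ) (hlsc : ∀ c : Γ, IsClosed {x : U | Φ x ≤ c}) (x y : U)
    (hxy : Φ x < Φ y) : ∃ y' : U, (y' : P F).IsRational ∧ Φ x < Φ y' := by
  obtain ⟨S, hS⟩ := hR
  have hUeq : ∀ z : P F, z ∈ U ↔ z ∈ Set.range (P.map S.ι) := fun z => by rw [hS]
  obtain ⟨n, σ, v, hσ, hyv⟩ := (mem_range_ι_iff S y.1).mp ((hUeq _).mp y.2)
  have hcell : ∀ v' : Orth n, P.mk σ v' ∈ U := fun v' =>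
    (hUeq _).mpr ((mem_range_ι_iff S _).mpr ⟨n, σ, v', hσ, rfl⟩)
  by_contra hcon
  push Not at hcon
  have hg : Continuous (fun v' : Orth n => (⟨P.mk σ v', hcell v'⟩ : U)) :=
    (continuous_mk σ).subtype_mk _
  have hRc : IsClosed ((fun v' : Orth n => (⟨P.mk σ v', hcell v'⟩ : U)) ⁻¹'
      {z : U | Φ z ≤ Φ x}) := (hlsc (Φ x)).preimage hg
  have hv := mem_of_closed_of_rational _ hRc (fun p hp0 hp w c hc hw =>
    hcon ⟨P.mk σ w, hcell w⟩ (isRational_mk σ p hp0 hp w c hc hw)) v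
  have hyeq : (⟨P.mk σ v, hcell v⟩ : U) = y := Subtype.ext hyv.symm
  have h2 : Φ y ≤ Φ x := by rw [← hyeq]; exact hv
  exact absurd hxy (not_lt.mpr h2)

noncomputable def segPt (t : ℝ) : Orth two :=
  ⟨fun j => if j = 0 then 1 else |t|, fun j => by
    show (0:ℝ) ≤ if j = 0 then (1:ℝ) else |t|
    by_cases h : j = 0
    · rw [if_pos h]; exact zero_le_one
    · rw [if_neg h]; exact abs_nonneg t, fun h => by
    have h1 : (if (0 : Fin two.dim) = 0 then (1:ℝ) else |t|) = 0 := congr_fun h 0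
    rw [if_pos rfl] at h1
    exact one_ne_zero h1⟩

lemma segPt_apply (t : ℝ) (j : Fin two.dim) : (segPt t).1 j = if j = 0 then (1:ℝ) else |t| := rfl

lemma continuous_segPt : Continuous segPt := by
  rw [(orth_isInducing two).continuous_iff]
  refine continuous_pi fun j => ?_
  show Continuous (fun t : ℝ => if j = 0 then (1:ℝ) else |t|)
  by_cases h : j = 0
  · simp only [if_pos h]; exact continuous_const
  · simp only [if_neg h]; exact continuous_abs

lemma not_isLocalMax_of_seg {F : Fan.{u}} (U : Set (P F)) {Γ : Type v} [LinearOrder Γ]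
    (Φ : U → Γ) (hΦ : IsQuasiConcaveOn U Φ) (τ : F.obj (op two)) (hτ : P.cell τ ⊆ U) (x y : U)
    (hx : P.mk τ (Orth.basis two 0) = x.1) (hy : P.mk τ (Orth.basis two 1) = y.1)
    (hxy : Φ x < Φ y) : ¬ IsLocalMax Φ x := by
  intro hmax
  have hmem : ∀ w : Orth two, P.mk τ w ∈ U := fun w => hτ ⟨w, rfl⟩
  obtain ⟨Z, hZdef⟩ : ∃ Z : ℝ → U, ∀ t, Z t = ⟨P.mk τ (segPt t), hmem _⟩ := ⟨_, fun _ => rfl⟩
  have hZc : Continuous Z := by
    have h1 : Z = fun t => ⟨P.mk τ (segPt t), hmem _⟩ := funext hZdef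
    rw [h1]
    exact ((continuous_mk τ).comp continuous_segPt).subtype_mk _
  have hseg0 : segPt 0 = Orth.basis two 0 := by
    apply Subtype.ext
    funext j
    rw [segPt_apply, basis_apply, abs_zero]
  have hZ0 : Z 0 = x := by
    rw [hZdef]
    exact Subtype.ext (show P.mk τ (segPt 0) = x.1 by rw [hseg0]; exact hx)
  have h1 := hZc.tendsto 0
  rw [hZ0] at h1
  have hmax' : ∀ᶠ z in nhds x, Φ z ≤ Φ x := hmax
  have hev : ∀ᶠ t in nhds (0:ℝ), Φ (Z t) ≤ Φ x := h1.eventually hmax'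
  obtain ⟨ε, hε, hball⟩ := Metric.eventually_nhds_iff.mp hev
  have ht : (0:ℝ) < ε / 2 := by linarith
  have hle : Φ (Z (ε / 2)) ≤ Φ x :=
    hball (by rw [Real.dist_eq, sub_zero, abs_of_pos ht]; linarith)
  have hcomb : (segPt (ε / 2)).1 =
      (1:ℝ) • (Orth.basis two 0).1 + (ε / 2) • (Orth.basis two 1).1 := by
    funext j
    rw [Pi.add_apply, Pi.smul_apply, Pi.smul_apply, segPt_apply, basis_apply, basis_apply,
      smul_eq_mul, smul_eq_mul, abs_of_pos ht]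
    rcases two_cases j with rfl | rfl
    · rw [if_pos rfl, if_pos rfl, if_neg two_ne.symm]; ring
    · rw [if_neg two_ne, if_neg two_ne, if_pos rfl]; ring
  have hq := hΦ two τ (Orth.basis two 0) (segPt (ε / 2)) (Orth.basis two 1) (hmem _) (hmem _)
    (hmem _) basis_not_prop ⟨1, ε / 2, one_pos, ht, hcomb⟩
  have e0 : (⟨P.mk τ (Orth.basis two 0), hmem _⟩ : U) = x := Subtype.ext hx
  have e2 : (⟨P.mk τ (Orth.basis two 1), hmem _⟩ : U) = y := Subtype.ext hy
  have e1 : (⟨P.mk τ (segPt (ε / 2)), hmem _⟩ : U) = Z (ε / 2) := (hZdef _).symm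
  rw [e0, e2, e1, min_eq_left hxy.le] at hq
  obtain ⟨hq1, hq2⟩ := hq
  have h3 : Φ (Z (ε / 2)) = Φ x := le_antisymm hle hq1
  exact absurd (hq2 h3) hxy.ne

theorem s19370 (F : Fan.{u}) (U : Set (Fan.P F))
    (hU : Fan.IsConvex U) {Γ : Type v} [LinearOrder Γ] (Φ : U → Γ)
    (hΦ : Fan.IsQuasiConcaveOn U Φ)
    (hlsc : ∀ c : Γ, IsClosed {x : U | Φ x ≤ c}) :
    (∀ x : U, (x : Fan.P F).IsRational → IsLocalMax Φ x → ∀ y : U, Φ y ≤ Φ x) ∧
    (Fan.IsStrictQuasiConcaveOn U Φ → ∀ x y : U, (x : Fan.P F).IsRational →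
      (y : Fan.P F).IsRational → IsLocalMax Φ x → IsLocalMax Φ y → x = y) := by
  obtain ⟨hLC, hR, hconv⟩ := hU
  have part1 : ∀ x : U, (x : Fan.P F).IsRational → IsLocalMax Φ x → ∀ y : U, Φ y ≤ Φ x := by
    intro x hxr hmax y
    by_contra hcon
    rw [not_le] at hcon
    obtain ⟨y', hy'r, hxy'⟩ := exists_rational_gt U hR Φ hlsc x y hcon
    have hne : (x : P F) ≠ y' := by
      intro h
      have h2 : x = y' := Subtype.ext h
      rw [h2] at hxy'
      exact lt_irrefl _ hxy'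
    obtain ⟨τ, hτ, hτx, hτy⟩ := hconv x.1 y'.1 x.2 y'.2 hxr hy'r hne
    exact not_isLocalMax_of_seg U Φ hΦ τ hτ x y' hτx hτy hxy' hmax
  refine ⟨part1, ?_⟩
  intro hstrict x y hxr hyr hmx hmy
  by_contra hne
  have hne' : (x : P F) ≠ y := fun h => hne (Subtype.ext h)
  obtain ⟨τ, hτ, hτx, hτy⟩ := hconv x.1 y.1 x.2 y.2 hxr hyr hne'
  have hmem : ∀ w : Orth two, P.mk τ w ∈ U := fun w => hτ ⟨w, rfl⟩
  have hxy : Φ x = Φ y := le_antisymm (part1 y hyr hmy x) (part1 x hxr hmx y)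
  have hcomb : (Orth.ones two).1 =
      (1:ℝ) • (Orth.basis two 0).1 + (1:ℝ) • (Orth.basis two 1).1 := by
    funext j
    rw [Pi.add_apply, Pi.smul_apply, Pi.smul_apply, basis_apply, basis_apply,
      smul_eq_mul, smul_eq_mul]
    show (1:ℝ) = _
    rcases two_cases j with rfl | rfl
    · rw [if_pos rfl, if_neg two_ne.symm]; ring
    · rw [if_neg two_ne, if_pos rfl]; ring
  have hq := hstrict two τ (Orth.basis two 0) (Orth.ones two) (Orth.basis two 1) (hmem _) (hmem _)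
    (hmem _) basis_not_prop ⟨1, 1, one_pos, one_pos, hcomb⟩
  have e0 : (⟨P.mk τ (Orth.basis two 0), hmem _⟩ : U) = x := Subtype.ext hτx
  have e2 : (⟨P.mk τ (Orth.basis two 1), hmem _⟩ : U) = y := Subtype.ext hτy
  rw [e0, e2, ← hxy, min_self] at hq
  exact absurd (part1 x hxr hmx _) (not_le.mpr hq)

end Groth.Agent.Helper8.FanCvx
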