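import Groth.Prelude.Def_W4c6instabfans3Fan
import Groth.Agent.Helper8.FanRat
import Mathlib.Analysis.Convex.StdSimplex
import Mathlib.Topology.Sequences

set_option autoImplicit false

namespace Groth.Agent.Helper8.FanSeq

open CategoryTheory Opposite Instab Instab.Fan
open Groth.Agent.Helper8.FanBasic Groth.Agent.Helper8.FanQS Groth.Agent.Helper8.FanTop
open Groth.Agent.Helper8.FanBdd Groth.Agent.Helper8.FanRat

universe u

lemma continuous_val (n : ICone) : Continuous (fun v : Orth n => v.1) :=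
  (orth_isInducing n).continuous

/-- A ray is closed in the punctured orthant. -/
lemma isClosed_ray {n : ICone} (v : Orth n) :
    IsClosed {w : Orth n | ∃ c : ℝ, 0 < c ∧ w.1 = c • v.1} := by
  have h5 : {w : Orth n | ∃ c : ℝ, 0 < c ∧ w.1 = c • v.1} =
      {w : Orth n | ‖v.1‖ • w.1 = ‖w.1‖ • v.1} := by
    ext w
    exact pos_smul_iff w.1 v.1 w.2.2 v.2.2
  rw [h5]
  have h1 : Continuous (fun w : Orth n => ‖v.1‖ • w.1) := (continuous_val n).const_smul ‖v.1‖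
  have h2 : Continuous (fun w : Orth n => ‖w.1‖ • v.1) :=
    (continuous_val n).norm.smul continuous_const
  exact isClosed_eq h1 h2

/-- Points of the projective realization of a quasi-separated fan are closed. -/
lemma isClosed_point {F : Fan.{u}} (hF : F.IsQuasiSeparated) (y : P F) :
    IsClosed ({y} : Set (P F)) := by
  obtain ⟨n, σ, v, rfl⟩ := exists_rep y
  have h1 := (s19366 F hF).1 n σ {w : Orth n | ∃ c : ℝ, 0 < c ∧ w.1 = c • v.1} (isClosed_ray v)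
    (by
      rintro v' w ⟨c₁, hc₁, hv'⟩ c hc hw
      exact ⟨c * c₁, mul_pos hc hc₁, by rw [hw, hv', smul_smul]⟩)
  have h2 : P.mk σ '' {w : Orth n | ∃ c : ℝ, 0 < c ∧ w.1 = c • v.1} = {P.mk σ v} := by
    ext z
    constructor
    · rintro ⟨w, ⟨c, hc, hw⟩, rfl⟩
      exact (mk_smul σ v w c hc hw).symm
    · intro hz
      exact ⟨v, ⟨1, one_pos, (one_smul _ _).symm⟩, hz.symm⟩
  rw [← h2]
  exact h1

noncomputable def osum {n : ICone} (w : Orth n) : ℝ := ∑ i, w.1 i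

lemma osum_pos {n : ICone} (w : Orth n) : 0 < osum w := by
  have hex : ∃ i, w.1 i ≠ 0 := by
    by_contra hcon
    push Not at hcon
    exact w.2.2 (funext hcon)
  obtain ⟨i, hi⟩ := hex
  exact Finset.sum_pos' (fun j _ => w.2.1 j)
    ⟨i, Finset.mem_univ _, lt_of_le_of_ne (w.2.1 i) (Ne.symm hi)⟩

lemma osum_smul {n : ICone} (v w : Orth n) (c : ℝ) (h : w.1 = c • v.1) :
    osum w = c * osum v := by
  unfold osum
  rw [h, Finset.mul_sum]
  rfl

lemma continuous_osum (n : ICone) : Continuous (fun v : Orth n => osum v) :=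
  continuous_finset_sum _ (fun i _ => (continuous_apply i).comp (continuous_val n))

noncomputable def norm1 {n : ICone} (w : Orth n) : Orth n :=
  ⟨(osum w)⁻¹ • w.1, fun i => by
      rw [Pi.smul_apply, smul_eq_mul]
      exact mul_nonneg (inv_pos.mpr (osum_pos w)).le (w.2.1 i),
    fun h => w.2.2 ((smul_eq_zero.mp h).resolve_left (inv_ne_zero (osum_pos w).ne'))⟩

lemma norm1_val {n : ICone} (w : Orth n) : (norm1 w).1 = (osum w)⁻¹ • w.1 := rfl

lemma osum_norm1 {n : ICone} (w : Orth n) : osum (norm1 w) = 1 := by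
  rw [osum_smul w (norm1 w) _ (norm1_val w)]
  exact inv_mul_cancel₀ (osum_pos w).ne'

lemma norm1_mem {n : ICone} (w : Orth n) : (norm1 w).1 ∈ stdSimplex ℝ (Fin n.dim) :=
  ⟨(norm1 w).2.1, osum_norm1 w⟩

lemma mk_norm1 {F : Fan.{u}} {n : ICone} (ξ : F.obj (op n)) (w : Orth n) :
    P.mk ξ (norm1 w) = P.mk ξ w :=
  (mk_smul ξ w (norm1 w) _ (inv_pos.mpr (osum_pos w)) rfl).symm

/-- A closed scale-invariant neighbourhood of the ray of `v₀`. -/
def nbd {n : ICone} (v₀ : Orth n) (δ : ℝ) : Set (Orth n) :=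
  {v : Orth n | ‖v.1 - osum v • v₀.1‖ ≤ δ * osum v}

lemma isClosed_nbd {n : ICone} (v₀ : Orth n) (δ : ℝ) : IsClosed (nbd v₀ δ) :=
  isClosed_le (((continuous_val n).sub ((continuous_osum n).smul continuous_const)).norm)
    (continuous_const.mul (continuous_osum n))

lemma nbd_smul {n : ICone} (v₀ : Orth n) (δ : ℝ) (v w : Orth n) (hv : v ∈ nbd v₀ δ) (c : ℝ)
    (hc : 0 < c) (hw : w.1 = c • v.1) : w ∈ nbd v₀ δ := by
  have h1 : w.1 - osum w • v₀.1 = c • (v.1 - osum v • v₀.1) := by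
    rw [osum_smul v w c hw, hw, smul_sub, smul_smul]
  show ‖w.1 - osum w • v₀.1‖ ≤ δ * osum w
  rw [h1, norm_smul, Real.norm_eq_abs, abs_of_pos hc, osum_smul v w c hw]
  calc c * ‖v.1 - osum v • v₀.1‖ ≤ c * (δ * osum v) := mul_le_mul_of_nonneg_left hv hc.le
    _ = δ * (c * osum v) := by ring

lemma nbd_norm1 {n : ICone} (v₀ : Orth n) (δ : ℝ) (v : Orth n) (hv : v ∈ nbd v₀ δ) :
    dist (norm1 v).1 v₀.1 ≤ δ := by
  have hs := osum_pos v
  have h1 : (norm1 v).1 - v₀.1 = (osum v)⁻¹ • (v.1 - osum v • v₀.1) := by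
    rw [norm1_val, smul_sub, smul_smul, inv_mul_cancel₀ hs.ne', one_smul]
  rw [dist_eq_norm, h1, norm_smul, Real.norm_eq_abs, abs_of_pos (inv_pos.mpr hs)]
  calc (osum v)⁻¹ * ‖v.1 - osum v • v₀.1‖ ≤ (osum v)⁻¹ * (δ * osum v) :=
        mul_le_mul_of_nonneg_left hv (inv_pos.mpr hs).le
    _ = δ := by field_simp

lemma mem_nbd_of_dist {n : ICone} (v₀ : Orth n) (δ : ℝ) (v : Orth n) (hs : osum v = 1)
    (hd : dist v.1 v₀.1 ≤ δ) : v ∈ nbd v₀ δ := by
  show ‖v.1 - osum v • v₀.1‖ ≤ δ * osum v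
  rw [hs, one_smul, mul_one, ← dist_eq_norm]
  exact hd

theorem s19369 (F : Fan.{u}) (hF : F.IsQuasiSeparated)
    (x : ℕ → Fan.P F) (x₀ : Fan.P F) (hx : Filter.Tendsto x Filter.atTop (nhds x₀)) :
    ∃ (n : ICone) (σ : F.obj (op n)) (r : ℕ → ℕ) (v : ℕ → Fan.Orth n) (v₀ : Fan.Orth n),
      StrictMono r ∧ (∀ j, Fan.P.mk σ (v j) = x (r j)) ∧ Fan.P.mk σ v₀ = x₀ ∧
        Filter.Tendsto v Filter.atTop (nhds v₀) := by
  classical
  by_cases hfreq : ∃ᶠ i in Filter.atTop, x i = x₀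
  · obtain ⟨n, σ, v₀, hv₀⟩ := exists_rep x₀
    obtain ⟨r, hr, hrx⟩ := Filter.extraction_of_frequently_atTop hfreq
    exact ⟨n, σ, r, fun _ => v₀, v₀, hr, fun j => by rw [hrx j, hv₀], hv₀.symm,
      tendsto_const_nhds⟩
  have hev : ∀ᶠ i in Filter.atTop, ¬ x i = x₀ := Filter.not_frequently.mp hfreq
  obtain ⟨i₀, hi₀⟩ := Filter.eventually_atTop.mp hev
  -- some cell contains infinitely many terms
  have hcell : ∃ (n : ICone) (ξ : F.obj (op n)), {i | i₀ ≤ i ∧ x i ∈ P.cell ξ}.Infinite := by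
    by_contra hcon
    push Not at hcon
    have hS : IsClosed (x '' {i | i₀ ≤ i}) := by
      rw [isClosed_iff_forall]
      intro n ξ
      have hset : P.mk ξ ⁻¹' (x '' {i | i₀ ≤ i}) =
          ⋃ i ∈ {i | i₀ ≤ i ∧ x i ∈ P.cell ξ}, P.mk ξ ⁻¹' {x i} := by
        ext w
        simp only [Set.mem_preimage, Set.mem_image, Set.mem_setOf_eq, Set.mem_iUnion,
          Set.mem_singleton_iff, exists_prop]
        constructor
        · rintro ⟨i, hi, hxi⟩
          exact ⟨i, ⟨hi, ⟨w, hxi.symm⟩⟩, hxi.symm⟩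
        · rintro ⟨i, ⟨hi, -⟩, hxi⟩
          exact ⟨i, hi, hxi.symm⟩
      rw [hset]
      exact (hcon n ξ).isClosed_biUnion
        (fun i _ => (isClosed_point hF (x i)).preimage (continuous_mk ξ))
    have hx₀ : x₀ ∉ x '' {i | i₀ ≤ i} := by
      rintro ⟨i, hi, hxi⟩
      exact hi₀ i hi hxi
    have hnb : (x '' {i | i₀ ≤ i})ᶜ ∈ nhds x₀ := hS.isOpen_compl.mem_nhds hx₀
    obtain ⟨i, hi1, hi2⟩ := ((hx.eventually hnb).and (Filter.eventually_ge_atTop i₀)).exists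
    exact hi1 ⟨i, hi2, rfl⟩
  obtain ⟨n, ξ, hinf⟩ := hcell
  obtain ⟨r₁, hr₁, hr₁x⟩ := Filter.extraction_of_frequently_atTop
    (Nat.frequently_atTop_iff_infinite.mpr hinf)
  have hlift : ∀ j, ∃ w : Orth n, P.mk ξ w = x (r₁ j) := fun j => (hr₁x j).2
  choose w hw using hlift
  have hw' : ∀ j, P.mk ξ (norm1 (w j)) = x (r₁ j) := fun j => by rw [mk_norm1, hw]
  obtain ⟨a, ha, φ, hφ, hconv⟩ := (isCompact_stdSimplex ℝ (Fin n.dim)).tendsto_subseq
    (fun j => norm1_mem (w j))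
  have ha0 : a ≠ 0 := by
    intro h0
    have h1 := ha.2
    rw [h0] at h1
    simp at h1
  obtain ⟨v₀, hv₀⟩ : ∃ v₀ : Orth n, v₀.1 = a := ⟨⟨a, ha.1, ha0⟩, rfl⟩
  have hconv' : Filter.Tendsto (fun j => norm1 (w (φ j))) Filter.atTop (nhds v₀) := by
    rw [(orth_isInducing n).tendsto_nhds_iff, hv₀]
    exact hconv
  have hrφ : StrictMono (r₁ ∘ φ) := hr₁.comp hφ
  refine ⟨n, ξ, r₁ ∘ φ, fun j => norm1 (w (φ j)), v₀, hrφ, fun j => hw' (φ j), ?_, hconv'⟩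
  by_contra hne
  -- the fibre over x₀ is closed and misses v₀
  have hA : IsClosed (P.mk ξ ⁻¹' {x₀}) := (isClosed_point hF x₀).preimage (continuous_mk ξ)
  obtain ⟨O, hO, hOA⟩ := (orth_isInducing n).isOpen_iff.mp hA.isOpen_compl
  have hv₀O : v₀.1 ∈ O := by
    have h1 : v₀ ∈ (fun v : Orth n => v.1) ⁻¹' O := by
      rw [hOA]
      exact hne
    exact h1
  obtain ⟨ε, hε, hball⟩ := Metric.isOpen_iff.mp hO v₀.1 hv₀O
  have hε2 : 0 < ε / 2 := by linarith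
  have hdisj : ∀ v ∈ nbd v₀ (ε / 2), P.mk ξ v ≠ x₀ := by
    intro v hv hvx
    have h1 : dist (norm1 v).1 v₀.1 ≤ ε / 2 := nbd_norm1 v₀ _ v hv
    have h2 : (norm1 v).1 ∈ O := hball (by rw [Metric.mem_ball]; linarith)
    have h3 : norm1 v ∈ (P.mk ξ ⁻¹' {x₀})ᶜ := by
      rw [← hOA]
      exact h2
    exact h3 (by rw [Set.mem_preimage, mk_norm1, hvx]; rfl)
  have hC : IsClosed (P.mk ξ '' nbd v₀ (ε / 2)) :=
    (s19366 F hF).1 n ξ _ (isClosed_nbd v₀ _) (fun v w hv c hc hw => nbd_smul v₀ _ v w hv c hc hw)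
  have hx₀C : x₀ ∉ P.mk ξ '' nbd v₀ (ε / 2) := by
    rintro ⟨v, hv, hvx⟩
    exact hdisj v hv hvx
  have hnb : (P.mk ξ '' nbd v₀ (ε / 2))ᶜ ∈ nhds x₀ := hC.isOpen_compl.mem_nhds hx₀C
  have hev1 : ∀ᶠ j in Filter.atTop, x ((r₁ ∘ φ) j) ∈ (P.mk ξ '' nbd v₀ (ε / 2))ᶜ :=
    (hx.comp hrφ.tendsto_atTop).eventually hnb
  have hev2 : ∀ᶠ j in Filter.atTop, dist (norm1 (w (φ j))).1 v₀.1 < ε / 2 := by
    have h1 : Filter.Tendsto (fun j => (norm1 (w (φ j))).1) Filter.atTop (nhds v₀.1) := by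
      rw [hv₀]
      exact hconv
    exact (Metric.tendsto_nhds.mp h1) _ hε2
  obtain ⟨j, hj1, hj2⟩ := (hev1.and hev2).exists
  apply hj1
  refine ⟨norm1 (w (φ j)), mem_nbd_of_dist v₀ _ _ (osum_norm1 _) hj2.le, ?_⟩
  exact hw' (φ j)

end Groth.Agent.Helper8.FanSeq
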