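import Groth.Prelude.Def_W4c6instabfans3FanCvx
import Groth.Agent.Helper8.FanCvx
import Groth.Agent.Helper8.FanSeq
import Mathlib.Analysis.Convex.PathConnected
import Mathlib.Topology.Order.Compact
import Mathlib.Topology.Separation.Hausdorff

set_option autoImplicit false

namespace Groth.Agent.Helper8.FanMax

open CategoryTheory Opposite Instab Instab.Fan
open Groth.Agent.Helper8.FanBasic Groth.Agent.Helper8.FanQS Groth.Agent.Helper8.FanTop
open Groth.Agent.Helper8.FanBdd Groth.Agent.Helper8.FanRat Groth.Agent.Helper8.FanCvx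
open Groth.Agent.Helper8.FanSeq

universe u v

lemma orth_preconnected (n : ICone) : PreconnectedSpace (Orth n) := by
  have hconv : Convex ℝ {v : Fin n.dim → ℝ | (∀ i, 0 ≤ v i) ∧ v ≠ 0} := by
    intro v hv w hw a b ha hb hab
    refine ⟨fun i => ?_, ?_⟩
    · rw [Pi.add_apply, Pi.smul_apply, Pi.smul_apply, smul_eq_mul, smul_eq_mul]
      exact add_nonneg (mul_nonneg ha (hv.1 i)) (mul_nonneg hb (hw.1 i))
    · intro h0
      have hi : ∀ i, a * v i = 0 ∧ b * w i = 0 := by
        intro i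
        have h1 := congr_fun h0 i
        rw [Pi.add_apply, Pi.smul_apply, Pi.smul_apply, smul_eq_mul, smul_eq_mul,
          Pi.zero_apply] at h1
        have h2 := mul_nonneg ha (hv.1 i)
        have h3 := mul_nonneg hb (hw.1 i)
        constructor <;> linarith
      rcases eq_or_lt_of_le ha with ha0 | ha0
      · have hb1 : b = 1 := by linarith
        apply hw.2
        funext i
        have h4 := (hi i).2
        rw [hb1, one_mul] at h4
        exact h4
      · apply hv.2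
        funext i
        rcases mul_eq_zero.mp (hi i).1 with h | h
        · exact absurd h ha0.ne'
        · exact h
  exact Subtype.preconnectedSpace hconv.isPreconnected

noncomputable def mid {n : ICone} (a b : Orth n) : Orth n :=
  ⟨(1/2 : ℝ) • a.1 + (1/2 : ℝ) • b.1, fun i => by
    rw [Pi.add_apply, Pi.smul_apply, Pi.smul_apply, smul_eq_mul, smul_eq_mul]
    exact add_nonneg (mul_nonneg (by norm_num) (a.2.1 i)) (mul_nonneg (by norm_num) (b.2.1 i)),
   fun h0 => a.2.2 (funext fun i => by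
    have h1 := congr_fun h0 i
    rw [Pi.add_apply, Pi.smul_apply, Pi.smul_apply, smul_eq_mul, smul_eq_mul,
      Pi.zero_apply] at h1
    have h2 := a.2.1 i
    have h3 := b.2.1 i
    show a.1 i = 0
    linarith)⟩

lemma mid_val {n : ICone} (a b : Orth n) :
    (mid a b).1 = (1/2 : ℝ) • a.1 + (1/2 : ℝ) • b.1 := rfl

lemma dist_mid {n : ICone} (a b : Orth n) : dist (mid a b).1 a.1 = (1/2) * dist b.1 a.1 := by
  rw [dist_eq_norm, dist_eq_norm, mid_val]
  have h1 : (1/2 : ℝ) • a.1 + (1/2 : ℝ) • b.1 - a.1 = (1/2 : ℝ) • (b.1 - a.1) := by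
    funext i
    simp only [Pi.add_apply, Pi.sub_apply, Pi.smul_apply, smul_eq_mul]
    ring
  rw [h1, norm_smul, Real.norm_eq_abs, abs_of_pos (by norm_num : (0:ℝ) < 1/2)]

lemma not_prop_of_mk_ne {F : Fan.{u}} {n : ICone} (ξ : F.obj (op n)) (a b : Orth n)
    (h : P.mk ξ b ≠ P.mk ξ a) : ¬ ∃ c : ℝ, b.1 = c • a.1 := by
  rintro ⟨c, hc⟩
  rcases lt_or_ge 0 c with hpos | hle
  · exact h (mk_smul ξ a b c hpos hc).symm
  · apply b.2.2
    funext i
    have h1 := congr_fun hc i
    rw [Pi.smul_apply, smul_eq_mul] at h1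
    have h2 := b.2.1 i
    have h3 := a.2.1 i
    have h4 : c * a.1 i ≤ 0 := mul_nonpos_of_nonpos_of_nonneg hle h3
    show b.1 i = 0
    linarith

lemma exists_rational_mem_open {F : Fan.{u}} (U : Set (P F)) (hR : IsRealizable U) (O : Set U)
    (hO : IsOpen O) (z : U) (hz : z ∈ O) : ∃ z' : U, (z' : P F).IsRational ∧ z' ∈ O := by
  obtain ⟨S, hS⟩ := hR
  have hUeq : ∀ p : P F, p ∈ U ↔ p ∈ Set.range (P.map S.ι) := fun p => by rw [hS]
  obtain ⟨n, σ, v, hσ, hzv⟩ := (mem_range_ι_iff S z.1).mp ((hUeq _).mp z.2)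
  have hcell : ∀ v' : Orth n, P.mk σ v' ∈ U := fun v' =>
    (hUeq _).mpr ((mem_range_ι_iff S _).mpr ⟨n, σ, v', hσ, rfl⟩)
  by_contra hcon
  push Not at hcon
  have hg : Continuous (fun v' : Orth n => (⟨P.mk σ v', hcell v'⟩ : U)) :=
    (continuous_mk σ).subtype_mk _
  have hRc : IsClosed ((fun v' : Orth n => (⟨P.mk σ v', hcell v'⟩ : U)) ⁻¹' Oᶜ) :=
    hO.isClosed_compl.preimage hg
  have hv := mem_of_closed_of_rational _ hRc (fun p hp0 hp w c hc hw =>
    hcon ⟨P.mk σ w, hcell w⟩ (isRational_mk σ p hp0 hp w c hc hw)) v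
  have hzeq : (⟨P.mk σ v, hcell v⟩ : U) = z := Subtype.ext hzv.symm
  have hv' : (⟨P.mk σ v, hcell v⟩ : U) ∉ O := hv
  rw [hzeq] at hv'
  exact hv' hz

lemma main {F : Fan.{u}} (hT2 : T2Space (P F)) (U : Set (P F)) (hUc : IsCompact U)
    (hU : IsConvex U) {Γ : Type v} [LinearOrder Γ] [TopologicalSpace Γ] [OrderTopology Γ]
    (Φ : U → Γ) (hΦc : Continuous Φ) (hΦ : IsStrictQuasiConcaveOn U Φ) (x y : U)
    (hy : IsLocalMax Φ y) (hxy : Φ y ≤ Φ x) : x = y := by
  classical
  haveI := hT2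
  obtain ⟨hLC, hR, hconv⟩ := hU
  by_contra hne
  have hUcl : IsClosed U := hUc.isClosed
  haveI : CompactSpace U := isCompact_iff_compactSpace.mp hUc
  obtain ⟨A, hA⟩ : ∃ A : Set U, A = {z : U | Φ y ≤ Φ z} := ⟨_, rfl⟩
  obtain ⟨A', hA'⟩ : ∃ A' : Set U, A' = {z : U | Φ y ≤ Φ z ∧ z ≠ y} := ⟨_, rfl⟩
  have hAcl : IsClosed A := by rw [hA]; exact isClosed_le continuous_const hΦc
  have hA'A : A' ⊆ A := by rw [hA, hA']; exact fun z hz => hz.1
  have hxA' : x ∈ A' := by rw [hA']; exact ⟨hxy, hne⟩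
  have hyA' : y ∉ A' := by rw [hA']; exact fun h => h.2 rfl
  have hAy : ∀ z ∈ A, z ∉ A' → z = y := by
    intro z hz hz'
    by_contra hzy
    apply hz'
    rw [hA']; rw [hA] at hz
    exact ⟨hz, hzy⟩
  by_cases hcl : IsClosed (Subtype.val '' A')
  · -- Case B: connectivity
    have hA'cl : IsClosed A' := by
      have h1 := hcl.preimage (continuous_subtype_val (p := fun p => p ∈ U))
      rwa [Set.preimage_image_eq _ Subtype.val_injective] at h1
    obtain ⟨W, V, hW, hV, hyW, hA'V, hWV⟩ :=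
      SeparatedNhds.of_isCompact_isCompact (isCompact_singleton (x := y)) hA'cl.isCompact
        (Set.disjoint_singleton_left.mpr hyA')
    have hyW' : y ∈ W := hyW (Set.mem_singleton y)
    have hxV : x ∈ V := hA'V hxA'
    have hQc : IsCompact (W ∪ V)ᶜ := (hW.union hV).isClosed_compl.isCompact
    have hQlt : ∀ q ∈ (W ∪ V)ᶜ, Φ q < Φ y := by
      intro q hq
      by_contra hcon
      rw [not_lt] at hcon
      have hqy : q ≠ y := fun h => hq (Or.inl (h ▸ hyW'))
      have h1 : q ∈ A' := by rw [hA']; exact ⟨hcon, hqy⟩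
      exact hq (Or.inr (hA'V h1))
    have hK : ∀ x' y' : U, (x' : P F).IsRational → (y' : P F).IsRational → x' ∈ V → y' ∈ W →
        ∃ q ∈ (W ∪ V)ᶜ, min (Φ x') (Φ y') < Φ q := by
      intro x' y' hx'r hy'r hx'V hy'W
      have hne' : (x' : P F) ≠ y' := by
        intro h
        have h2 : x' = y' := Subtype.ext h
        rw [h2] at hx'V
        exact Set.disjoint_left.mp hWV hy'W hx'V
      obtain ⟨τ, hτ, hτx, hτy⟩ := hconv x'.1 y'.1 x'.2 y'.2 hx'r hy'r hne'
      have hmem : ∀ w : Orth two, P.mk τ w ∈ U := fun w => hτ ⟨w, rfl⟩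
      obtain ⟨g, hgdef⟩ : ∃ g : Orth two → U, ∀ w, g w = ⟨P.mk τ w, hmem w⟩ :=
        ⟨_, fun _ => rfl⟩
      have hgc : Continuous g := by
        have h1 : g = fun w => ⟨P.mk τ w, hmem w⟩ := funext hgdef
        rw [h1]
        exact (continuous_mk τ).subtype_mk _
      have hg0 : g (Orth.basis two 0) = x' := by rw [hgdef]; exact Subtype.ext hτx
      have hg1 : g (Orth.basis two 1) = y' := by rw [hgdef]; exact Subtype.ext hτy
      haveI := orth_preconnected two
      have hpre : IsPreconnected (Set.range g) := isPreconnected_range hgc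
      have hex : ∃ w, g w ∉ W ∪ V := by
        by_contra hcon
        push Not at hcon
        have hsub : Set.range g ⊆ W ∪ V := by
          rintro _ ⟨w, rfl⟩
          exact hcon w
        obtain ⟨p, -, hpW, hpV⟩ := hpre W V hW hV hsub ⟨y', ⟨_, hg1⟩, hy'W⟩ ⟨x', ⟨_, hg0⟩, hx'V⟩
        exact Set.disjoint_left.mp hWV hpW hpV
      obtain ⟨w, hw⟩ := hex
      refine ⟨g w, hw, ?_⟩
      obtain ⟨a, ha⟩ : ∃ a : ℝ, a = w.1 0 := ⟨_, rfl⟩
      obtain ⟨b, hb⟩ : ∃ b : ℝ, b = w.1 1 := ⟨_, rfl⟩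
      have hwdec : w.1 = a • (Orth.basis two 0).1 + b • (Orth.basis two 1).1 := by
        funext j
        rw [Pi.add_apply, Pi.smul_apply, Pi.smul_apply, basis_apply, basis_apply, smul_eq_mul,
          smul_eq_mul, ha, hb]
        rcases two_cases j with rfl | rfl
        · rw [if_pos rfl, if_neg two_ne.symm]; ring
        · rw [if_neg two_ne, if_pos rfl]; ring
      have ha0 : 0 ≤ a := by rw [ha]; exact w.2.1 0
      have hb0 : 0 ≤ b := by rw [hb]; exact w.2.1 1
      have hapos : 0 < a := by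
        rcases eq_or_lt_of_le ha0 with h | h
        · exfalso
          have hbpos : 0 < b := by
            rcases eq_or_lt_of_le hb0 with h' | h'
            · exfalso
              apply w.2.2
              rw [hwdec, ← h, ← h', zero_smul, zero_smul, add_zero]
            · exact h'
          have h2 : w.1 = b • (Orth.basis two 1).1 := by
            rw [hwdec, ← h, zero_smul, zero_add]
          have h3 : P.mk τ (Orth.basis two 1) = P.mk τ w := mk_smul τ _ w b hbpos h2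
          apply hw
          refine Or.inl ?_
          have h4 : g w = y' := by rw [hgdef]; exact Subtype.ext (h3.symm.trans hτy)
          rw [h4]; exact hy'W
        · exact h
      have hbpos : 0 < b := by
        rcases eq_or_lt_of_le hb0 with h | h
        · exfalso
          have h2 : w.1 = a • (Orth.basis two 0).1 := by
            rw [hwdec, ← h, zero_smul, add_zero]
          have h3 : P.mk τ (Orth.basis two 0) = P.mk τ w := mk_smul τ _ w a hapos h2
          apply hw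
          refine Or.inr ?_
          have h4 : g w = x' := by rw [hgdef]; exact Subtype.ext (h3.symm.trans hτx)
          rw [h4]; exact hx'V
        · exact h
      have hq := hΦ two τ (Orth.basis two 0) w (Orth.basis two 1) (hmem _) (hmem _) (hmem _)
        basis_not_prop ⟨a, b, hapos, hbpos, hwdec⟩
      have e0 : (⟨P.mk τ (Orth.basis two 0), hmem _⟩ : U) = x' := Subtype.ext hτx
      have e2 : (⟨P.mk τ (Orth.basis two 1), hmem _⟩ : U) = y' := Subtype.ext hτy
      have e1 : (⟨P.mk τ w, hmem _⟩ : U) = g w := (hgdef w).symm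
      rw [e0, e2, e1] at hq
      exact hq
    obtain ⟨x0, hx0r, hx0V⟩ := exists_rational_mem_open U hR V hV x hxV
    obtain ⟨y0, hy0r, hy0W⟩ := exists_rational_mem_open U hR W hW y hyW'
    obtain ⟨q0, hq0, -⟩ := hK x0 y0 hx0r hy0r hx0V hy0W
    obtain ⟨qm, hqm, hqmax⟩ := hQc.exists_isMaxOn ⟨q0, hq0⟩ hΦc.continuousOn
    have hqmy : Φ qm < Φ y := hQlt qm hqm
    have hOpen : IsOpen {z : U | Φ qm < Φ z} := isOpen_lt continuous_const hΦc
    obtain ⟨x1, hx1r, hx1⟩ := exists_rational_mem_open U hR (V ∩ {z : U | Φ qm < Φ z})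
      (hV.inter hOpen) x ⟨hxV, lt_of_lt_of_le hqmy hxy⟩
    obtain ⟨y1, hy1r, hy1⟩ := exists_rational_mem_open U hR (W ∩ {z : U | Φ qm < Φ z})
      (hW.inter hOpen) y ⟨hyW', hqmy⟩
    obtain ⟨q, hq, hqlt⟩ := hK x1 y1 hx1r hy1r hx1.1 hy1.1
    have h1 : Φ q ≤ Φ qm := isMaxOn_iff.mp hqmax q hq
    have h2 : Φ qm < min (Φ x1) (Φ y1) := lt_min hx1.2 hy1.2
    exact absurd (lt_of_lt_of_le (lt_trans h2 hqlt) h1) (lt_irrefl _)
  · -- Case A: a cell in which A' accumulates at a lift of y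
    rw [isClosed_iff_forall] at hcl
    push Not at hcl
    obtain ⟨n, ξ, hncl⟩ := hcl
    have hALcl : IsClosed (P.mk ξ ⁻¹' (Subtype.val '' A)) :=
      (hUcl.isClosedEmbedding_subtypeVal.isClosedMap _ hAcl).preimage (continuous_mk ξ)
    have hsub : ¬ closure (P.mk ξ ⁻¹' (Subtype.val '' A')) ⊆ P.mk ξ ⁻¹' (Subtype.val '' A') :=
      fun h => hncl (closure_subset_iff_isClosed.mp h)
    obtain ⟨zt, hzt1, hzt2⟩ := Set.not_subset.mp hsub
    have hzt3 : zt ∈ P.mk ξ ⁻¹' (Subtype.val '' A) :=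
      closure_minimal (Set.preimage_mono (Set.image_mono hA'A)) hALcl hzt1
    obtain ⟨z, hzA, hzz⟩ := hzt3
    have hzy : z = y := hAy z hzA (fun hz' => hzt2 ⟨z, hz', hzz⟩)
    have hzt : P.mk ξ zt = y.1 := by rw [← hzz, hzy]
    have hy' : ∀ᶠ z in nhds y, Φ z ≤ Φ y := hy
    obtain ⟨t, ht1, ht2, ht3⟩ := eventually_nhds_iff.mp hy'
    obtain ⟨O, hO, hOt⟩ := isOpen_induced_iff.mp ht2
    have hOpre : IsOpen (P.mk ξ ⁻¹' O) := hO.preimage (continuous_mk ξ)
    obtain ⟨O', hO', hO'eq⟩ := (orth_isInducing n).isOpen_iff.mp hOpre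
    have hztO : zt.1 ∈ O' := by
      have h1 : zt ∈ (fun v : Orth n => v.1) ⁻¹' O' := by
        rw [hO'eq]
        show P.mk ξ zt ∈ O
        rw [hzt]
        have h2 : y ∈ Subtype.val ⁻¹' O := by rw [hOt]; exact ht3
        exact h2
      exact h1
    obtain ⟨ε, hε, hball⟩ := Metric.isOpen_iff.mp hO' zt.1 hztO
    obtain ⟨zt', hzt'1, hzt'2⟩ := mem_closure_iff.mp hzt1
      ((fun v : Orth n => v.1) ⁻¹' Metric.ball zt.1 ε)
      (Metric.isOpen_ball.preimage (continuous_val n)) (Metric.mem_ball_self hε)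
    obtain ⟨z', hz'A, hz'z⟩ := hzt'2
    have hd : dist (mid zt zt').1 zt.1 < ε := by
      rw [dist_mid]
      have h1 : dist zt'.1 zt.1 < ε := hzt'1
      have h0 : 0 ≤ dist zt'.1 zt.1 := dist_nonneg
      linarith
    have hmO : P.mk ξ (mid zt zt') ∈ O := by
      have h1 : mid zt zt' ∈ (fun v : Orth n => v.1) ⁻¹' O' := hball hd
      rw [hO'eq] at h1
      exact h1
    have h₀ : P.mk ξ zt ∈ U := by rw [hzt]; exact y.2
    have h₂ : P.mk ξ zt' ∈ U := by rw [← hz'z]; exact z'.2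
    have hcomb : ∃ a b : ℝ, 0 < a ∧ 0 < b ∧ (mid zt zt').1 = a • zt.1 + b • zt'.1 :=
      ⟨1/2, 1/2, by norm_num, by norm_num, rfl⟩
    have h₁ : P.mk ξ (mid zt zt') ∈ U := hLC n ξ zt (mid zt zt') zt' h₀ h₂ hcomb
    have hz'y : z' ≠ y := by rw [hA'] at hz'A; exact hz'A.2
    have hnp : ¬ ∃ c : ℝ, zt'.1 = c • zt.1 := by
      apply not_prop_of_mk_ne ξ zt zt'
      rw [hzt, ← hz'z]
      exact fun h => hz'y (Subtype.ext h)
    have hq := hΦ n ξ zt (mid zt zt') zt' h₀ h₁ h₂ hnp hcomb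
    have e0 : (⟨P.mk ξ zt, h₀⟩ : U) = y := Subtype.ext hzt
    have e2 : (⟨P.mk ξ zt', h₂⟩ : U) = z' := Subtype.ext hz'z.symm
    rw [e0, e2] at hq
    have hz'ge : Φ y ≤ Φ z' := by rw [hA'] at hz'A; exact hz'A.1
    rw [min_eq_left hz'ge] at hq
    have hmt : (⟨P.mk ξ (mid zt zt'), h₁⟩ : U) ∈ t := by
      rw [← hOt]
      exact hmO
    exact absurd (ht1 _ hmt) (not_le.mpr hq)

theorem s19371 (F : Fan.{u})
    (hF : F.IsQuasiSeparated) (hT2 : T2Space (Fan.P F)) (U : Set (Fan.P F)) (hUc : IsCompact U)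
    (hU : Fan.IsConvex U) {Γ : Type v} [LinearOrder Γ] [TopologicalSpace Γ] [OrderTopology Γ]
    (Φ : U → Γ) (hΦc : Continuous Φ) (hΦ : Fan.IsStrictQuasiConcaveOn U Φ) (x y : U)
    (hx : IsLocalMax Φ x) (hy : IsLocalMax Φ y) : x = y := by
  rcases le_total (Φ y) (Φ x) with h | h
  · exact main hT2 U hUc hU Φ hΦc hΦ x y hy h
  · exact (main hT2 U hUc hU Φ hΦc hΦ y x hx h).symm

end Groth.Agent.Helper8.FanMax
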