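import Groth.Agent.Helper8.GerbeBC
import Mathlib.CategoryTheory.Limits.Shapes.Pullback.Categorical.Basic

set_option autoImplicit false
set_option backward.isDefEq.respectTransparency false
set_option backward.isDefEq.respectTransparency.types false

open CategoryTheory CategoryTheory.Limits

namespace Groth.Agent.Helper8.FibPull

open Groth.Agent.Helper8.GerbeLib Groth.Agent.Helper8.GerbeBC

universe v₁ u₁ v₂ u₂ v₃ u₃

section General

variable {S : Type u₁} [Category.{v₁} S] {A : Type u₂} [Category.{v₂} A]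
  {B : Type u₃} [Category.{v₃} B]

theorem exists_factor' {p : A ⥤ S} (h : FibCat.IsFibGrpd p) {a a' b : A} {R R' T : S}
    (f : R ⟶ T) (φ : a ⟶ b) [p.IsHomLift f φ] (g : R' ⟶ R) (φ' : a' ⟶ b)
    [p.IsHomLift (g ≫ f) φ'] :
    ∃ χ : a' ⟶ a, p.IsHomLift g χ ∧ χ ≫ φ = φ' := by
  haveI h1 : (BasedCategory.ofFunctor p).p.IsHomLift f φ := (inferInstance : p.IsHomLift f φ)
  haveI h2 : (BasedCategory.ofFunctor p).p.IsHomLift (g ≫ f) φ' :=
    (inferInstance : p.IsHomLift (g ≫ f) φ')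
  exact exists_factor (𝒴 := BasedCategory.ofFunctor p) h f φ g φ'

theorem factor_unique' {p : A ⥤ S} (h : FibCat.IsFibGrpd p) {a a' b : A} {R R' T : S}
    (f : R ⟶ T) (φ : a ⟶ b) [p.IsHomLift f φ] (g : R' ⟶ R)
    (χ χ' : a' ⟶ a) [p.IsHomLift g χ] [p.IsHomLift g χ'] (e : χ ≫ φ = χ' ≫ φ) : χ = χ' := by
  haveI h1 : (BasedCategory.ofFunctor p).p.IsHomLift f φ := (inferInstance : p.IsHomLift f φ)
  haveI h2 : (BasedCategory.ofFunctor p).p.IsHomLift g χ := (inferInstance : p.IsHomLift g χ)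
  haveI h3 : (BasedCategory.ofFunctor p).p.IsHomLift g χ' := (inferInstance : p.IsHomLift g χ')
  exact exists_factor_unique (𝒴 := BasedCategory.ofFunctor p) h f φ g χ χ' e

theorem exists_iso_of_lifts' {p : A ⥤ S} (h : FibCat.IsFibGrpd p) {a a' b : A} {R T : S}
    (f : R ⟶ T) (φ : a ⟶ b) (φ' : a' ⟶ b) [p.IsHomLift f φ] [p.IsHomLift f φ'] :
    ∃ θ : a ≅ a', p.IsHomLift (𝟙 R) θ.hom ∧ θ.hom ≫ φ' = φ := by
  haveI h1 : (BasedCategory.ofFunctor p).p.IsHomLift f φ := (inferInstance : p.IsHomLift f φ)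
  haveI h2 : (BasedCategory.ofFunctor p).p.IsHomLift f φ' := (inferInstance : p.IsHomLift f φ')
  exact exists_iso_of_lifts (𝒴 := BasedCategory.ofFunctor p) h f φ φ'

theorem isHomLift_comp_iff (p : A ⥤ B) (q : B ⥤ S) {a a' : A} (φ : a ⟶ a') {R R' : S}
    (f : R ⟶ R') : (p ⋙ q).IsHomLift f φ ↔ q.IsHomLift f (p.map φ) := by
  constructor
  · intro h
    obtain ⟨⟩ := h
    show q.IsHomLift (q.map (p.map φ)) (p.map φ)
    infer_instance
  · intro h
    haveI := h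
    apply IsHomLift.of_fac (p ⋙ q) f φ (IsHomLift.domain_eq q f (p.map φ))
      (IsHomLift.codomain_eq q f (p.map φ))
    exact IsHomLift.fac q f (p.map φ)

theorem isHomLift_of_isHomLift_map (p : A ⥤ B) (q : B ⥤ S) {a a' : A} (φ : a ⟶ a')
    {b b' : B} (ψ : b ⟶ b') [p.IsHomLift ψ φ] {R R' : S} (f : R ⟶ R') [q.IsHomLift f ψ] :
    q.IsHomLift f (p.map φ) := by
  rw [IsHomLift.fac' p ψ φ]
  infer_instance

theorem isFibGrpd_comp (p : A ⥤ B) (q : B ⥤ S) (hp : FibCat.IsFibGrpd p)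
    (hq : FibCat.IsFibGrpd q) : FibCat.IsFibGrpd (p ⋙ q) where
  exists_lift := by
    intro a V f
    obtain ⟨b, ψ, hψ⟩ := hq.exists_lift (x := p.obj a) f
    haveI := hψ
    obtain ⟨a', φ, hφ⟩ := hp.exists_lift (x := a) ψ
    haveI := hφ
    exact ⟨a', φ, (isHomLift_comp_iff p q φ f).mpr (isHomLift_of_isHomLift_map p q φ ψ f)⟩
  isStronglyCartesian := by
    intro a₁ a₂ φ
    refine { toIsHomLift := inferInstance, universal_property' := ?_ }
    intro a₀ g φ' hφ'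
    have h1 : q.IsHomLift (g ≫ q.map (p.map φ)) (p.map φ') :=
      (isHomLift_comp_iff p q φ' _).mp hφ'
    haveI := h1
    obtain ⟨χB, hχB, eχB⟩ := exists_factor' hq (q.map (p.map φ)) (p.map φ) g (p.map φ')
    haveI := hχB
    haveI : p.IsHomLift (χB ≫ p.map φ) φ' := by rw [eχB]; infer_instance
    obtain ⟨χ, hχ, eχ⟩ := exists_factor' hp (p.map φ) φ χB φ'
    haveI := hχ
    refine ⟨χ, ⟨(isHomLift_comp_iff p q χ g).mpr (isHomLift_of_isHomLift_map p q χ χB g), eχ⟩, ?_⟩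
    rintro χ' ⟨hχ', eχ'⟩
    have h2 : q.IsHomLift g (p.map χ') := (isHomLift_comp_iff p q χ' g).mp hχ'
    haveI := h2
    have h3 : p.map χ' = χB :=
      factor_unique' hq (q.map (p.map φ)) (p.map φ) g (p.map χ') χB
        (by rw [← p.map_comp, eχ', eχB])
    haveI : p.IsHomLift χB χ' := by rw [← h3]; infer_instance
    exact factor_unique' hp (p.map φ) φ χB χ' χ (by rw [eχ', eχ])

end General

section Pullback

variable {S : Type u₁} [Category.{v₁} S] {X : Type u₂} [Category.{v₂} X]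
  {Y : Type u₃} [Category.{v₃} Y]

theorem isFibGrpd_pi2 (πX : X ⥤ S) (hX : FibCat.IsFibGrpd πX) (F : Y ⥤ X)
    (hY : FibCat.IsFibGrpd (F ⋙ πX)) :
    FibCat.IsFibGrpd (CategoricalPullback.π₂ F (𝟭 X)) where
  exists_lift := by
    intro Q x' f
    obtain ⟨f', hf'⟩ : ∃ f' : x' ⟶ Q.snd, f' = f := ⟨f, rfl⟩
    obtain ⟨ψ, hψ⟩ : ∃ ψ : x' ⟶ F.obj Q.fst, ψ = f' ≫ Q.iso.inv := ⟨_, rfl⟩
    obtain ⟨y', a, ha⟩ := hY.exists_lift (x := Q.fst) (πX.map ψ)
    have ha' : πX.IsHomLift (πX.map ψ) (F.map a) := (isHomLift_comp_iff F πX a _).mp ha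
    haveI := ha'
    obtain ⟨θ, hθ, eθ⟩ := exists_iso_of_lifts' hX (πX.map ψ) (F.map a) ψ
    have w : F.map a ≫ Q.iso.hom = θ.hom ≫ (𝟭 X).map f' := by
      rw [← eθ, hψ]
      simp
    refine ⟨⟨y', x', θ⟩, ⟨a, f', w⟩, ?_⟩
    subst hf'
    exact IsHomLift.map (CategoricalPullback.π₂ F (𝟭 X))
      (⟨a, f', w⟩ : (⟨y', x', θ⟩ : CategoricalPullback F (𝟭 X)) ⟶ Q)
  isStronglyCartesian := by
    intro Q₁ Q₂ Φ
    refine { toIsHomLift := inferInstance, universal_property' := ?_ }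
    intro Q₀ g Φ' hΦ'
    haveI := hΦ'
    obtain ⟨g', hg'⟩ : ∃ g' : Q₀.snd ⟶ Q₁.snd, g' = g := ⟨g, rfl⟩
    have eb : Φ'.snd = g' ≫ Φ.snd := by
      rw [hg']
      exact (IsHomLift.eq_of_isHomLift (CategoricalPullback.π₂ F (𝟭 X))
        (g ≫ (CategoricalPullback.π₂ F (𝟭 X)).map Φ) Φ').symm
    obtain ⟨m, hm⟩ : ∃ m : F.obj Q₀.fst ⟶ F.obj Q₁.fst, m = Q₀.iso.hom ≫ g' ≫ Q₁.iso.inv :=
      ⟨_, rfl⟩
    have wΦ : F.map Φ.fst ≫ Q₂.iso.hom = Q₁.iso.hom ≫ Φ.snd := Φ.w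
    have wΦ' : F.map Φ'.fst ≫ Q₂.iso.hom = Q₀.iso.hom ≫ Φ'.snd := Φ'.w
    have e1 : F.map Φ.fst = Q₁.iso.hom ≫ Φ.snd ≫ Q₂.iso.inv := by
      rw [← Category.assoc, ← wΦ, Category.assoc, Iso.hom_inv_id, Category.comp_id]
    have e2 : F.map Φ'.fst = Q₀.iso.hom ≫ Φ'.snd ≫ Q₂.iso.inv := by
      rw [← Category.assoc, ← wΦ', Category.assoc, Iso.hom_inv_id, Category.comp_id]
    have key1 : m ≫ F.map Φ.fst = F.map Φ'.fst := by
      rw [hm, e1, e2, eb]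
      simp only [Category.assoc, Iso.inv_hom_id_assoc]
    haveI : (F ⋙ πX).IsHomLift (πX.map m ≫ (F ⋙ πX).map Φ.fst) Φ'.fst := by
      have h5 : πX.map m ≫ (F ⋙ πX).map Φ.fst = (F ⋙ πX).map Φ'.fst := by
        show πX.map m ≫ πX.map (F.map Φ.fst) = πX.map (F.map Φ'.fst)
        rw [← πX.map_comp, key1]
      rw [h5]; infer_instance
    obtain ⟨c, hc, ec⟩ := exists_factor' hY ((F ⋙ πX).map Φ.fst) Φ.fst (πX.map m) Φ'.fst
    haveI := hc
    have hFc : πX.IsHomLift (πX.map m) (F.map c) := (isHomLift_comp_iff F πX c _).mp hc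
    haveI := hFc
    have eFc : F.map c = m :=
      factor_unique' hX (πX.map (F.map Φ.fst)) (F.map Φ.fst) (πX.map m) (F.map c) m
        (by rw [← F.map_comp, ec, key1])
    have wχ : F.map c ≫ Q₁.iso.hom = Q₀.iso.hom ≫ (𝟭 X).map g' := by
      rw [eFc, hm]
      simp
    refine ⟨⟨c, g', wχ⟩, ⟨?_, ?_⟩, ?_⟩
    · subst hg'
      exact IsHomLift.map (CategoricalPullback.π₂ F (𝟭 X)) (⟨c, g', wχ⟩ : Q₀ ⟶ Q₁)
    · exact CategoricalPullback.hom_ext ec eb.symm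
    · rintro χ' ⟨hχ', eχ'⟩
      haveI := hχ'
      have h6 : χ'.snd = g' := by
        rw [hg']
        exact (IsHomLift.eq_of_isHomLift (CategoricalPullback.π₂ F (𝟭 X)) g χ').symm
      have wχ' : F.map χ'.fst ≫ Q₁.iso.hom = Q₀.iso.hom ≫ χ'.snd := χ'.w
      have h7 : F.map χ'.fst = m := by
        rw [hm, ← h6, ← Category.assoc, ← wχ', Category.assoc, Iso.hom_inv_id, Category.comp_id]
      have h8 : (F ⋙ πX).IsHomLift (πX.map m) χ'.fst := by
        refine (isHomLift_comp_iff F πX χ'.fst _).mpr ?_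
        rw [h7]; infer_instance
      haveI := h8
      have h9 : χ'.fst ≫ Φ.fst = Φ'.fst := by
        have := congrArg CategoricalPullback.Hom.fst eχ'
        exact this
      have h10 : χ'.fst = c :=
        factor_unique' hY ((F ⋙ πX).map Φ.fst) Φ.fst (πX.map m) χ'.fst c (by rw [h9, ec])
      exact CategoricalPullback.hom_ext h10 h6

theorem main (πX : X ⥤ S) (πY : Y ⥤ S) (hX : FibCat.IsFibGrpd πX) (hY : FibCat.IsFibGrpd πY)
    (F : Y ⥤ X) (hF : F ⋙ πX = πY) :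
    FibCat.IsFibGrpd (CategoricalPullback.π₂ F (𝟭 X)) ∧
      FibCat.IsFibGrpd (CategoricalPullback.π₂ F (𝟭 X) ⋙ πX) := by
  subst hF
  exact ⟨isFibGrpd_pi2 πX hX F hY,
    isFibGrpd_comp _ _ (isFibGrpd_pi2 πX hX F hY) hX⟩

end Pullback

end Groth.Agent.Helper8.FibPull
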