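import Mathlib
set_option autoImplicit false
open TensorProduct

namespace Groth.Agent.Helper8.FibRank

universe u

section
variable (R : Type u) [CommRing R] (M : Type u) [AddCommGroup M] [Module R M]

/-- pure tensors `1 ⊗ m` span `κ ⊗ M` over `κ`. -/
lemma span_one_tmul (κ : Type u) [Field κ] [Algebra R κ] :
    Submodule.span κ (Set.range fun m : M => (1 : κ) ⊗ₜ[R] m) = ⊤ := by
  rw [eq_top_iff]
  intro x hx
  clear hx
  induction x using TensorProduct.induction_on with
  | zero => exact zero_mem _
  | tmul c m =>
    have : c ⊗ₜ[R] m = c • ((1 : κ) ⊗ₜ[R] m) := by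
      rw [TensorProduct.smul_tmul', smul_eq_mul, mul_one]
    rw [this]
    exact Submodule.smul_mem _ _ (Submodule.subset_span ⟨m, rfl⟩)
  | add x y hx hy => exact add_mem hx hy

/-- There are finitely many elements of `M` whose images form a basis of the fibre. -/
lemma exists_fibre_basis [Module.Finite R M] (κ : Type u) [Field κ] [Algebra R κ] :
    ∃ (ι : Type u) (_ : Fintype ι) (m : ι → M),
      Fintype.card ι = Module.finrank κ (κ ⊗[R] M) ∧
      Submodule.span κ (Set.range fun i => (1 : κ) ⊗ₜ[R] m i) = ⊤ := by
  classical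
  obtain ⟨b, hbT, hbspan, hbli⟩ := exists_linearIndependent κ
    (Set.range fun m : M => (1 : κ) ⊗ₜ[R] m)
  rw [span_one_tmul] at hbspan
  have hfin : b.Finite := hbli.setFinite
  let _ : Fintype b := hfin.fintype
  have hsp : ⊤ ≤ Submodule.span κ (Set.range ((↑) : b → κ ⊗[R] M)) := by
    rw [Subtype.range_coe, hbspan]
  let B := Module.Basis.mk hbli hsp
  choose m hm using fun i : b => hbT i.2
  refine ⟨b, inferInstance, m, ?_, ?_⟩
  · exact (Module.finrank_eq_card_basis B).symm
  · have : (fun i : b => (1 : κ) ⊗ₜ[R] m i) = ((↑) : b → κ ⊗[R] M) := funext hm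
    rw [this, Subtype.range_coe, hbspan]

/-- If the `1 ⊗ m i` span the fibre at `p`, some `g ∉ p` kills `M / span (m i)`. -/
lemma exists_kill_coker [Module.Finite R M] (p : PrimeSpectrum R) {ι : Type u} (m : ι → M)
    (hm : Submodule.span p.asIdeal.ResidueField
      (Set.range fun i => (1 : p.asIdeal.ResidueField) ⊗ₜ[R] m i) = ⊤) :
    ∃ g : R, g ∉ p.asIdeal ∧ ∀ y : M, g • y ∈ Submodule.span R (Set.range m) := by
  set N : Submodule R M := Submodule.span R (Set.range m) with hN
  have hsub : Subsingleton (p.asIdeal.ResidueField ⊗[R] (M ⧸ N)) := by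
    have hzero : (N.mkQ.baseChange p.asIdeal.ResidueField) = 0 := by
      apply LinearMap.ext_on_range (v := fun i => (1 : p.asIdeal.ResidueField) ⊗ₜ[R] m i) hm
      intro i
      simp only [LinearMap.baseChange_tmul, Submodule.mkQ_apply, LinearMap.zero_apply]
      rw [(Submodule.Quotient.mk_eq_zero N).2 (Submodule.subset_span ⟨i, rfl⟩), tmul_zero]
    have hsurj : Function.Surjective (N.mkQ.baseChange p.asIdeal.ResidueField) :=
      LinearMap.lTensor_surjective _ (Submodule.mkQ_surjective N)
    refine ⟨fun a b => ?_⟩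
    obtain ⟨a', rfl⟩ := hsurj a
    obtain ⟨b', rfl⟩ := hsurj b
    rw [hzero]; rfl
  have hp : p ∉ Module.support R (M ⧸ N) := by
    rw [Module.mem_support_iff_nontrivial_residueField_tensorProduct]
    exact not_nontrivial_iff_subsingleton.2 hsub
  rw [Module.support_eq_zeroLocus, PrimeSpectrum.mem_zeroLocus, SetLike.coe_subset_coe,
    SetLike.not_le_iff_exists] at hp
  obtain ⟨g, hg, hgp⟩ := hp
  refine ⟨g, hgp, fun y => ?_⟩
  have := Module.mem_annihilator.1 hg (Submodule.Quotient.mk y)
  rwa [← Submodule.Quotient.mk_smul, Submodule.Quotient.mk_eq_zero] at this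

/-- Kernel coordinates vanish in the residue field at `q` when the fibre rank is right. -/
lemma coord_mem [Module.Finite R M] (q : PrimeSpectrum R) {ι : Type u} [Fintype ι] (m : ι → M)
    (g : R) (hg : g ∉ q.asIdeal) (hgy : ∀ y : M, g • y ∈ Submodule.span R (Set.range m))
    (hcard : Fintype.card ι =
      Module.finrank q.asIdeal.ResidueField (q.asIdeal.ResidueField ⊗[R] M))
    (v : ι → R) (hv : ∑ i, v i • m i = 0) (i : ι) : v i ∈ q.asIdeal := by
  classical
  have : Nontrivial R := ⟨⟨0, 1, fun h => q.isPrime.ne_top (by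
    rw [Ideal.eq_top_iff_one, ← h]; exact zero_mem _)⟩⟩
  set π : (ι → R) →ₗ[R] M := Fintype.linearCombination R m with hπ
  have hgne : algebraMap R q.asIdeal.ResidueField g ≠ 0 := by
    rw [Ne, Ideal.algebraMap_residueField_eq_zero]; exact hg
  have hsurj : Function.Surjective (π.baseChange q.asIdeal.ResidueField) := by
    rw [← LinearMap.range_eq_top, eq_top_iff, ← span_one_tmul R M q.asIdeal.ResidueField,
      Submodule.span_le]
    rintro _ ⟨y, rfl⟩
    have hy := hgy y
    rw [← Fintype.range_linearCombination, LinearMap.mem_range] at hy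
    obtain ⟨x, hx⟩ := hy
    refine ⟨(algebraMap R q.asIdeal.ResidueField g)⁻¹ ⊗ₜ[R] x, ?_⟩
    rw [LinearMap.baseChange_tmul]
    show (algebraMap R q.asIdeal.ResidueField g)⁻¹ ⊗ₜ[R] (Fintype.linearCombination R m x) = _
    rw [hx, TensorProduct.tmul_smul, TensorProduct.smul_tmul', Algebra.smul_def,
      mul_inv_cancel₀ hgne]
  have hfr : Module.finrank q.asIdeal.ResidueField (q.asIdeal.ResidueField ⊗[R] (ι → R)) =
      Module.finrank q.asIdeal.ResidueField (q.asIdeal.ResidueField ⊗[R] M) := by
    rw [Module.finrank_baseChange, Module.finrank_pi, hcard]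
  have hinj : Function.Injective (π.baseChange q.asIdeal.ResidueField) :=
    (LinearMap.injective_iff_surjective_of_finrank_eq_finrank hfr).2 hsurj
  have h0 : (1 : q.asIdeal.ResidueField) ⊗ₜ[R] v = 0 := by
    apply hinj
    rw [LinearMap.baseChange_tmul, map_zero]
    have : π v = 0 := by rw [hπ, Fintype.linearCombination_apply]; exact hv
    rw [this, tmul_zero]
  have h4 := congrArg (fun z => TensorProduct.rid R q.asIdeal.ResidueField
    (LinearMap.lTensor q.asIdeal.ResidueField (LinearMap.proj i : (ι → R) →ₗ[R] R) z)) h0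
  simp only [LinearMap.lTensor_tmul, TensorProduct.rid_tmul, map_zero, LinearMap.proj_apply] at h4
  rw [Algebra.smul_def, mul_one] at h4
  exact Ideal.algebraMap_residueField_eq_zero.1 h4

omit [AddCommGroup M] [Module R M] in
lemma eq_zero_of_forall_prime [IsReduced R] (a : R) (ha : ∀ p : Ideal R, p.IsPrime → a ∈ p) :
    a = 0 := by
  have : a ∈ nilradical R := by
    rw [nilradical_eq_sInf]
    exact Submodule.mem_sInf.2 (fun p hp => ha p hp)
  rwa [nilradical_eq_zero, Ideal.zero_eq_bot, Ideal.mem_bot] at this

lemma exists_free_nbhd [IsReduced R] [Module.Finite R M]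
    (hlc : IsLocallyConstant (fun p : PrimeSpectrum R =>
      Module.finrank p.asIdeal.ResidueField (p.asIdeal.ResidueField ⊗[R] M)))
    (p : PrimeSpectrum R) :
    ∃ h : R, h ∉ p.asIdeal ∧
      Module.Free (Localization.Away h) (LocalizedModule (Submonoid.powers h) M) := by
  classical
  obtain ⟨ι, _, m, hcard, hspan⟩ := exists_fibre_basis R M p.asIdeal.ResidueField
  obtain ⟨g, hgp, hgy⟩ := exists_kill_coker R M p m hspan
  have hopen := hlc.isOpen_fiber
    (Module.finrank p.asIdeal.ResidueField (p.asIdeal.ResidueField ⊗[R] M))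
  obtain ⟨_, ⟨f, rfl⟩, hpf, hfU⟩ :=
    PrimeSpectrum.isTopologicalBasis_basic_opens.exists_subset_of_mem_open
      (show p ∈ {x : PrimeSpectrum R |
        Module.finrank x.asIdeal.ResidueField (x.asIdeal.ResidueField ⊗[R] M) =
        Module.finrank p.asIdeal.ResidueField (p.asIdeal.ResidueField ⊗[R] M)} from rfl) hopen
  have hfp : f ∉ p.asIdeal := hpf
  refine ⟨f * g, fun hmem => (p.isPrime.mem_or_mem hmem).elim hfp hgp, ?_⟩
  have hker : ∀ v : ι → R, ∑ i, v i • m i = 0 → ∀ i, (f * g) * v i = 0 := by
    intro v hv i
    apply eq_zero_of_forall_prime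
    intro q hq
    obtain ⟨q', rfl⟩ : ∃ q' : PrimeSpectrum R, q'.asIdeal = q := ⟨⟨q, hq⟩, rfl⟩
    by_cases hq' : f * g ∈ q'.asIdeal
    · exact q'.asIdeal.mul_mem_right _ hq'
    · have hfq : f ∉ q'.asIdeal := fun hf => hq' (q'.asIdeal.mul_mem_right _ hf)
      have hgq : g ∉ q'.asIdeal := fun hg => hq' (q'.asIdeal.mul_mem_left _ hg)
      have hqU : q' ∈ (PrimeSpectrum.basicOpen f : Set _) := hfq
      have hrk : Module.finrank q'.asIdeal.ResidueField (q'.asIdeal.ResidueField ⊗[R] M) =
        Module.finrank p.asIdeal.ResidueField (p.asIdeal.ResidueField ⊗[R] M) := hfU hqU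
      exact q'.asIdeal.mul_mem_left _
        (coord_mem R M q' m g hgq hgy (hcard.trans hrk.symm) v hv i)
  have hloc : IsLocalizedModule (Submonoid.powers (f * g))
      ((LocalizedModule.mkLinearMap (Submonoid.powers (f * g)) M) ∘ₗ
        (Fintype.linearCombination R m)) := by
    constructor
    · intro s
      exact IsLocalizedModule.map_units
        (LocalizedModule.mkLinearMap (Submonoid.powers (f * g)) M) s
    · intro y
      induction y using LocalizedModule.induction_on with
      | h a t =>
        have ha : (f * g) • a ∈ Submodule.span R (Set.range m) := by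
          rw [mul_smul]
          exact Submodule.smul_mem _ _ (hgy a)
        rw [← Fintype.range_linearCombination, LinearMap.mem_range] at ha
        obtain ⟨x, hx⟩ := ha
        refine ⟨(x, ⟨f * g, Submonoid.mem_powers _⟩ * t), ?_⟩
        simp only [LinearMap.comp_apply, hx, LocalizedModule.mkLinearMap_apply]
        rw [Submonoid.smul_def, LocalizedModule.smul'_mk, LocalizedModule.mk_eq]
        refine ⟨1, ?_⟩
        simp only [one_smul, Submonoid.smul_def, Submonoid.coe_mul, smul_smul]
        congr 1
        ring
    · intro x₁ x₂ hx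
      have h0 : LocalizedModule.mkLinearMap (Submonoid.powers (f * g)) M
          (Fintype.linearCombination R m (x₁ - x₂)) = 0 := by
        rw [map_sub, map_sub]
        exact sub_eq_zero.2 hx
      obtain ⟨t, ht⟩ := (IsLocalizedModule.eq_zero_iff (Submonoid.powers (f * g))
        (LocalizedModule.mkLinearMap (Submonoid.powers (f * g)) M)).1 h0
      refine ⟨⟨f * g, Submonoid.mem_powers _⟩ * t, ?_⟩
      rw [← sub_eq_zero, ← smul_sub]
      ext i
      have h1 : ∑ j, ((t : R) • (x₁ - x₂)) j • m j = 0 := by
        rw [← Fintype.linearCombination_apply, map_smul]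
        exact ht
      have := hker _ h1 i
      simp only [Pi.smul_apply, smul_eq_mul, Submonoid.smul_def, Submonoid.coe_mul,
        Pi.zero_apply] at this ⊢
      rw [mul_assoc]
      exact this
  exact Module.free_of_isLocalizedModule (Submonoid.powers (f * g))
    ((LocalizedModule.mkLinearMap (Submonoid.powers (f * g)) M) ∘ₗ
        (Fintype.linearCombination R m))

lemma fibre_rank_eq [Module.Finite R M] [Module.Projective R M] (p : PrimeSpectrum R) :
    Module.finrank p.asIdeal.ResidueField (p.asIdeal.ResidueField ⊗[R] M) =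
      Module.rankAtStalk M p := by
  have h1 := Module.rankAtStalk_baseChange (R := R) (M := M) (S := p.asIdeal.ResidueField)
    ⟨⊥, Ideal.isPrime_bot⟩
  have h2 : (⟨⊥, Ideal.isPrime_bot⟩ : PrimeSpectrum p.asIdeal.ResidueField).comap
      (algebraMap R p.asIdeal.ResidueField) = p := by
    ext1
    exact Ideal.ker_algebraMap_residueField _
  rw [h2] at h1
  rw [← h1]
  exact (congrFun (Module.rankAtStalk_eq_finrank_of_free (R := p.asIdeal.ResidueField)
      (M := p.asIdeal.ResidueField ⊗[R] M)) _).symm

theorem s6266 [IsReduced R] :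
    (Module.Finite R M ∧ Module.Projective R M) ↔ (Module.Finite R M ∧
      IsLocallyConstant (fun p : PrimeSpectrum R =>
        Module.finrank p.asIdeal.ResidueField (p.asIdeal.ResidueField ⊗[R] M))) := by
  constructor
  · rintro ⟨hfin, hproj⟩
    refine ⟨hfin, ?_⟩
    have : (fun p : PrimeSpectrum R =>
        Module.finrank p.asIdeal.ResidueField (p.asIdeal.ResidueField ⊗[R] M)) =
        Module.rankAtStalk (R := R) M := funext (fibre_rank_eq R M)
    rw [this]
    have := Module.finitePresentation_of_projective R M
    exact Module.isLocallyConstant_rankAtStalk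
  · rintro ⟨hfin, hlc⟩
    refine ⟨hfin, ?_⟩
    let s : Set R := {h | Module.Free (Localization.Away h)
      (LocalizedModule (Submonoid.powers h) M)}
    have hs : Ideal.span s = ⊤ := by
      by_contra hne
      obtain ⟨m, hm, hle⟩ := Ideal.exists_le_maximal _ hne
      obtain ⟨h, hhm, hfree⟩ := exists_free_nbhd R M hlc ⟨m, hm.isPrime⟩
      exact hhm (hle (Ideal.subset_span hfree))
    have hfp : Module.FinitePresentation R M :=
      Module.FinitePresentation.of_localizationSpan s hs (fun g => by
        have : Module.Free (Localization.Away g.1)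
          (LocalizedModule (Submonoid.powers g.1) M) := g.2
        have : Module.Finite (Localization.Away g.1)
          (LocalizedModule (Submonoid.powers g.1) M) := inferInstance
        exact Module.finitePresentation_of_projective _ _)
    have hflat : Module.Flat R M := Module.flat_of_localized_span (S := R) (M := M)
        (s := s) (spn := hs) (fun g => by
      have : Module.Free (Localization.Away g.1)
        (LocalizedModule (Submonoid.powers g.1) M) := g.2
      exact Module.Flat.trans R (Localization.Away g.1) _)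
    exact Module.Flat.projective_of_finitePresentation

end

end Groth.Agent.Helper8.FibRank
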