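import Mathlib
import Groth.Agent.Helper8.IdemLift

/-!
# Finite projective modules over a ring complete for a filtration

`W` an `I`-adically complete ring, `J n` ideals contained in `I`, each containing a power of `I`,
with `⋂ J n = 0`.  A `W`-module `P` which is separated for the filtration `J n • P` and such that
all `P / J n P` (and `P / I P`) are finite projective is itself finite projective.
-/

namespace Groth.Agent.Helper8.FilProj

open Groth.Agent.Helper8.IdemLift

variable {W : Type*} [CommRing W]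

/-- Nilpotent ideals give adic completeness. -/
theorem isAdicComplete_of_pow_eq_bot (I : Ideal W) (M : Type*) [AddCommGroup M] [Module W M]
    (N : ℕ) (hN : I ^ N = ⊥) : IsAdicComplete I M := by
  refine { haus' := ?_, prec' := ?_ }
  · intro x hx
    have := hx N
    rw [SModEq.sub_mem, sub_zero, hN, Submodule.bot_smul] at this
    simpa using this
  · intro f hf
    refine ⟨f N, fun n => ?_⟩
    rcases le_total n N with h | h
    · exact hf h
    · have := hf h
      rw [SModEq.sub_mem, hN, Submodule.bot_smul, Submodule.mem_bot, sub_eq_zero] at this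
      rw [this]

/-- Lifting a finite projective module along `W → W ⧸ I` for `W` complete. -/
theorem exists_lift (I : Ideal W) [IsAdicComplete I W] (Pb : Type*) [AddCommGroup Pb] [Module W Pb]
    [Module (W ⧸ I) Pb] [IsScalarTower W (W ⧸ I) Pb] [Module.Finite (W ⧸ I) Pb]
    [Module.Projective (W ⧸ I) Pb] :
    ∃ (r : ℕ) (Q : Submodule W (Fin r → W)), Module.Finite W Q ∧ Module.Projective W Q ∧
      ∃ ψ : Q →ₗ[W] Pb, Function.Surjective ψ ∧ LinearMap.ker ψ = (I • ⊤ : Submodule W Q) := by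
  classical
  haveI : Module.Finite W Pb := Module.Finite.trans (W ⧸ I) Pb
  obtain ⟨r, π₀, hπ₀⟩ := Module.Finite.exists_fin' W Pb
  have hkill : ∀ (a : W) (_ : a ∈ I) (y : Pb), a • y = 0 := by
    intro a ha y
    rw [← algebraMap_smul (W ⧸ I) a y]
    have : algebraMap W (W ⧸ I) a = 0 := Ideal.Quotient.eq_zero_iff_mem.mpr ha
    rw [this, zero_smul]
  have hπI : ∀ x ∈ (I • ⊤ : Submodule W (Fin r → W)), π₀ x = 0 := by
    intro x hx
    refine Submodule.smul_induction_on hx (fun a ha y _ => ?_) (fun x y hx hy => ?_)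
    · rw [map_smul, hkill a ha]
    · rw [map_add, hx, hy, add_zero]
  let πb₀ : ((Fin r → W) ⧸ (I • ⊤ : Submodule W (Fin r → W))) →ₗ[W] Pb :=
    Submodule.liftQ _ π₀ (fun x hx => hπI x hx)
  let πb : ((Fin r → W) ⧸ (I • ⊤ : Submodule W (Fin r → W))) →ₗ[W ⧸ I] Pb :=
    πb₀.extendScalarsOfSurjective Ideal.Quotient.mk_surjective
  have hπb_mk : ∀ v, πb (Submodule.Quotient.mk v) = π₀ v := fun v => rfl
  have hπb : Function.Surjective πb := by
    intro y
    obtain ⟨v, rfl⟩ := hπ₀ y
    exact ⟨Submodule.Quotient.mk v, hπb_mk v⟩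
  obtain ⟨σ, hσ⟩ := Module.projective_lifting_property πb LinearMap.id hπb
  have hσ' : ∀ y, πb (σ y) = y := fun y => LinearMap.congr_fun hσ y
  obtain ⟨a, ha⟩ := Module.projective_lifting_property
    (Submodule.mkQ (I • ⊤ : Submodule W (Fin r → W))) ((σ.restrictScalars W) ∘ₗ π₀)
    (Submodule.mkQ_surjective _)
  have ha' : ∀ v, (Submodule.Quotient.mk (a v) :
      (Fin r → W) ⧸ (I • ⊤ : Submodule W (Fin r → W))) = σ (π₀ v) := fun v =>
    LinearMap.congr_fun ha v
  have hπa : ∀ v, π₀ (a v) = π₀ v := by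
    intro v
    rw [← hπb_mk, ha', hσ']
  have haa : a * a - a ∈ (I • ⊤ : Submodule W (Module.End W (Fin r → W))) := by
    apply mem_smul_top_end
    intro v
    rw [← Submodule.Quotient.mk_eq_zero, LinearMap.sub_apply, Module.End.mul_apply,
      Submodule.Quotient.mk_sub, ha', ha', hπa, sub_self]
  haveI : IsAdicComplete I (Module.End W (Fin r → W)) := isAdicComplete_end I (Fin r → W)
  obtain ⟨e, he, hea⟩ := exists_idempotent_lift I a haa
  have hee : ∀ v, e (e v) = e v := fun v => by
    have := LinearMap.congr_fun he.eq v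
    simpa using this
  have hea' : ∀ v, e v - a v ∈ (I • ⊤ : Submodule W (Fin r → W)) := fun v => by
    have := apply_mem_smul_top I (Fin r → W) (e - a) hea v
    simpa using this
  let Q : Submodule W (Fin r → W) := LinearMap.range e
  let e' : (Fin r → W) →ₗ[W] Q := e.rangeRestrict
  have he'sub : ∀ x : Q, e' (x : Fin r → W) = x := by
    intro x
    obtain ⟨v, hv⟩ := x.2
    apply Subtype.ext
    show e (x : Fin r → W) = x
    rw [← hv, hee]
  have hQp : Module.Projective W Q :=
    Module.Projective.of_split Q.subtype e' (by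
      ext x : 1
      exact he'sub x)
  have hQf : Module.Finite W Q := Module.Finite.range e
  refine ⟨r, Q, hQf, hQp, π₀ ∘ₗ Q.subtype, ?_, ?_⟩
  · intro y
    obtain ⟨v, rfl⟩ := hπ₀ y
    refine ⟨e' v, ?_⟩
    show π₀ (e v) = π₀ v
    have : e v = a v + (e v - a v) := by abel
    rw [this, map_add, hπa, hπI _ (hea' v), add_zero]
  · ext x
    rw [LinearMap.mem_ker]
    constructor
    · intro hx
      have hx' : π₀ (x : Fin r → W) = 0 := hx
      have h1 : a (x : Fin r → W) ∈ (I • ⊤ : Submodule W (Fin r → W)) := by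
        rw [← Submodule.Quotient.mk_eq_zero, ha', hx', map_zero]
      have h2 : e (x : Fin r → W) ∈ (I • ⊤ : Submodule W (Fin r → W)) := by
        have : e (x : Fin r → W) = a x + (e x - a x) := by abel
        rw [this]
        exact Submodule.add_mem _ h1 (hea' _)
      have h3 := map_mem_smul_top I e' h2
      have h4 : e' (e (x : Fin r → W)) = x := by
        apply Subtype.ext
        show e (e (x : Fin r → W)) = x
        rw [hee]
        exact congrArg Subtype.val (he'sub x)
      rwa [h4] at h3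
    · intro hx
      have := map_mem_smul_top I Q.subtype hx
      exact hπI _ this

/-- Surjectivity from surjectivity modulo `I` for a complete source and separated target. -/
theorem surj_of_complete (I : Ideal W) {Q P : Type*} [AddCommGroup Q] [Module W Q]
    [AddCommGroup P] [Module W P] [IsPrecomplete I Q] (φ : Q →ₗ[W] P)
    (h : ∀ y : P, ∃ q, y - φ q ∈ (I • ⊤ : Submodule W P))
    (hP : ∀ y : P, (∀ k, y ∈ (I ^ k • ⊤ : Submodule W P)) → y = 0) : Function.Surjective φ := by
  classical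
  have step : ∀ (k : ℕ) (y : P), y ∈ (I ^ k • ⊤ : Submodule W P) →
      ∃ q ∈ (I ^ k • ⊤ : Submodule W Q), y - φ q ∈ (I ^ (k + 1) • ⊤ : Submodule W P) := by
    intro k y hy
    refine Submodule.smul_induction_on hy (fun a ha z _ => ?_) (fun x y hx hy => ?_)
    · obtain ⟨q, hq⟩ := h z
      refine ⟨a • q, Submodule.smul_mem_smul ha Submodule.mem_top, ?_⟩
      rw [map_smul, ← smul_sub, pow_succ, mul_smul]
      exact Submodule.smul_mem_smul ha hq
    · obtain ⟨q1, hq1, h1⟩ := hx
      obtain ⟨q2, hq2, h2⟩ := hy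
      refine ⟨q1 + q2, Submodule.add_mem _ hq1 hq2, ?_⟩
      have : x + y - φ (q1 + q2) = (x - φ q1) + (y - φ q2) := by rw [map_add]; abel
      rw [this]
      exact Submodule.add_mem _ h1 h2
  intro y
  choose! g hg1 hg2 using step
  -- the sequence
  let s : ℕ → Q := fun k => Nat.rec (motive := fun _ => Q) 0 (fun k q => q + g k (y - φ q)) k
  have hs0 : s 0 = 0 := rfl
  have hss : ∀ k, s (k + 1) = s k + g k (y - φ (s k)) := fun k => rfl
  have hmem : ∀ k, y - φ (s k) ∈ (I ^ k • ⊤ : Submodule W P) := by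
    intro k
    induction k with
    | zero => simp
    | succ k ih =>
      have := hg2 k _ ih
      rw [hss, map_add]
      have e1 : y - (φ (s k) + φ (g k (y - φ (s k)))) = y - φ (s k) - φ (g k (y - φ (s k))) := by
        abel
      rw [e1]
      exact this
  have hdiff : ∀ k, s (k + 1) - s k ∈ (I ^ k • ⊤ : Submodule W Q) := by
    intro k
    rw [hss, add_sub_cancel_left]
    exact hg1 k _ (hmem k)
  have hcauchy : ∀ {m n}, m ≤ n → s m ≡ s n [SMOD (I ^ m • ⊤ : Submodule W Q)] := by
    intro m n hmn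
    rw [SModEq.sub_mem]
    induction n, hmn using Nat.le_induction with
    | base => simp
    | succ n hmn ih =>
      have : s m - s (n + 1) = (s m - s n) - (s (n + 1) - s n) := by abel
      rw [this]
      refine Submodule.sub_mem _ ih ?_
      exact Submodule.smul_mono_left (Ideal.pow_le_pow_right hmn) (hdiff n)
  obtain ⟨L, hL⟩ := IsPrecomplete.prec' (I := I) (M := Q) s hcauchy
  refine ⟨L, ?_⟩
  symm
  rw [← sub_eq_zero]
  apply hP
  intro k
  have h1 := hL k
  rw [SModEq.sub_mem] at h1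
  have h2 := map_mem_smul_top (I ^ k) φ h1
  have : y - φ L = (y - φ (s k)) + φ (s k - L) := by rw [map_sub]; abel
  rw [this]
  exact Submodule.add_mem _ (hmem k) h2

/-- The kernel of a surjection onto a module with projective reduction is small. -/
theorem ker_le_of_projective (I : Ideal W) (hjac : I ≤ (⊥ : Ideal W).jacobson) (Jn : Ideal W)
    (hle : Jn ≤ I)
    {Q P : Type*} [AddCommGroup Q] [Module W Q] [Module.Finite W Q] [AddCommGroup P] [Module W P]
    [Module.Projective (W ⧸ Jn) (P ⧸ (Jn • ⊤ : Submodule W P))]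
    (φ : Q →ₗ[W] P) (hsurj : Function.Surjective φ)
    (hker : ∀ x, φ x ∈ (I • ⊤ : Submodule W P) → x ∈ (I • ⊤ : Submodule W Q)) :
    LinearMap.ker φ ≤ (Jn • ⊤ : Submodule W Q) := by
  classical
  let χ₀ : (Q ⧸ (Jn • ⊤ : Submodule W Q)) →ₗ[W] (P ⧸ (Jn • ⊤ : Submodule W P)) :=
    Submodule.mapQ _ _ φ (fun x hx => map_mem_smul_top Jn φ hx)
  let χ : (Q ⧸ (Jn • ⊤ : Submodule W Q)) →ₗ[W ⧸ Jn] (P ⧸ (Jn • ⊤ : Submodule W P)) :=
    χ₀.extendScalarsOfSurjective Ideal.Quotient.mk_surjective
  have hχmk : ∀ x, χ₀ (Submodule.Quotient.mk x) = Submodule.Quotient.mk (φ x) := fun x => rfl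
  have hχ : Function.Surjective χ := by
    intro y
    obtain ⟨y, rfl⟩ := Submodule.Quotient.mk_surjective _ y
    obtain ⟨x, rfl⟩ := hsurj y
    exact ⟨Submodule.Quotient.mk x, rfl⟩
  obtain ⟨s, hs⟩ := Module.projective_lifting_property χ LinearMap.id hχ
  have hs' : ∀ y, χ₀ (s y) = y := fun y => LinearMap.congr_fun hs y
  let θ : (Q ⧸ (Jn • ⊤ : Submodule W Q)) →ₗ[W] (Q ⧸ (Jn • ⊤ : Submodule W Q)) :=
    (s.restrictScalars W) ∘ₗ χ₀
  let K : Submodule W (Q ⧸ (Jn • ⊤ : Submodule W Q)) := LinearMap.ker χ₀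
  let ρ : (Q ⧸ (Jn • ⊤ : Submodule W Q)) →ₗ[W] (Q ⧸ (Jn • ⊤ : Submodule W Q)) :=
    LinearMap.id - θ
  have hρ : ∀ z, ρ z = z - s (χ₀ z) := fun z => rfl
  have hK1 : K ≤ (I • ⊤ : Submodule W (Q ⧸ (Jn • ⊤ : Submodule W Q))) := by
    intro xb hxb
    obtain ⟨x, rfl⟩ := Submodule.Quotient.mk_surjective _ xb
    have h1 : χ₀ (Submodule.Quotient.mk x) = 0 := hxb
    rw [hχmk, Submodule.Quotient.mk_eq_zero] at h1
    have h2 : φ x ∈ (I • ⊤ : Submodule W P) := Submodule.smul_mono_left hle h1
    exact map_mem_smul_top I (Submodule.mkQ _) (hker x h2)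
  have hrange : Submodule.map ρ ⊤ ≤ K := by
    rintro _ ⟨z, -, rfl⟩
    show χ₀ (ρ z) = 0
    rw [hρ, map_sub, hs', sub_self]
  have hfix : ∀ x ∈ K, ρ x = x := by
    intro x hx
    have h1 : χ₀ x = 0 := hx
    rw [hρ, h1, map_zero, sub_zero]
  have hKeq : K = Submodule.map ρ ⊤ := by
    apply le_antisymm _ hrange
    intro x hx
    exact ⟨x, Submodule.mem_top, hfix x hx⟩
  have hK2 : K ≤ I • K := by
    intro x hx
    have h1 : ρ x ∈ Submodule.map ρ
        (I • ⊤ : Submodule W (Q ⧸ (Jn • ⊤ : Submodule W Q))) := ⟨x, hK1 hx, rfl⟩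
    rw [Submodule.map_smul'', hfix x hx] at h1
    exact Submodule.smul_mono le_rfl hrange h1
  have hKfg : K.FG := by
    rw [hKeq]
    exact Submodule.FG.map _ (Module.Finite.fg_top)
  have hK0 : K = ⊥ := Submodule.eq_bot_of_le_smul_of_le_jacobson_bot I K hKfg hK2 hjac
  intro x hx
  have h1 : (Submodule.Quotient.mk x : Q ⧸ (Jn • ⊤ : Submodule W Q)) ∈ K := by
    show χ₀ (Submodule.Quotient.mk x) = 0
    rw [hχmk, LinearMap.mem_ker.mp hx, Submodule.Quotient.mk_zero]
  rw [hK0, Submodule.mem_bot, Submodule.Quotient.mk_eq_zero] at h1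
  exact h1

/-- Main abstract theorem, (ii) ⇒ (i). -/
theorem fin_proj_of_quotients (I : Ideal W) [IsAdicComplete I W] (J : ℕ → Ideal W)
    (hle : ∀ n, J n ≤ I) (hpow : ∀ n, ∃ m, I ^ m ≤ J n)
    (hsep : ∀ x : W, (∀ n, x ∈ J n) → x = 0)
    (P : Type*) [AddCommGroup P] [Module W P]
    (hP : ∀ y : P, (∀ n, y ∈ (J n • ⊤ : Submodule W P)) → y = 0)
    [Module.Finite (W ⧸ I) (P ⧸ (I • ⊤ : Submodule W P))]
    [Module.Projective (W ⧸ I) (P ⧸ (I • ⊤ : Submodule W P))]
    (hproj : ∀ n, Module.Projective (W ⧸ J n) (P ⧸ (J n • ⊤ : Submodule W P))) :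
    Module.Finite W P ∧ Module.Projective W P := by
  obtain ⟨r, Q, hQf, hQp, ψ, hψs, hψk⟩ := exists_lift I (P ⧸ (I • ⊤ : Submodule W P))
  obtain ⟨φ, hφ⟩ := Module.projective_lifting_property
    (Submodule.mkQ (I • ⊤ : Submodule W P)) ψ (Submodule.mkQ_surjective _)
  have hφ' : ∀ q, (Submodule.Quotient.mk (φ q) : P ⧸ (I • ⊤ : Submodule W P)) = ψ q := fun q =>
    LinearMap.congr_fun hφ q
  have hIpow : ∀ y : P, (∀ k, y ∈ (I ^ k • ⊤ : Submodule W P)) → y = 0 := by
    intro y hy
    apply hP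
    intro n
    obtain ⟨m, hm⟩ := hpow n
    exact Submodule.smul_mono_left hm (hy m)
  have hsurj : Function.Surjective φ := by
    haveI : IsAdicComplete I Q := isAdicComplete_of_finite_projective I Q
    apply surj_of_complete I φ _ hIpow
    intro y
    obtain ⟨q, hq⟩ := hψs (Submodule.Quotient.mk y)
    refine ⟨q, ?_⟩
    rw [← Submodule.Quotient.mk_eq_zero, Submodule.Quotient.mk_sub, hφ', hq, sub_self]
  have hker : ∀ x, φ x ∈ (I • ⊤ : Submodule W P) → x ∈ (I • ⊤ : Submodule W Q) := by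
    intro x hx
    rw [← hψk, LinearMap.mem_ker, ← hφ', Submodule.Quotient.mk_eq_zero]
    exact hx
  have hinj : Function.Injective φ := by
    rw [← LinearMap.ker_eq_bot, eq_bot_iff]
    intro x hx
    have key : ∀ n, x ∈ (J n • ⊤ : Submodule W Q) := fun n => by
      have := hproj n
      exact ker_le_of_projective I (IsAdicComplete.le_jacobson_bot I) (J n) (hle n) φ hsurj hker hx
    rw [Submodule.mem_bot]
    apply Subtype.ext
    funext i
    apply hsep
    intro n
    have := map_mem_smul_top (J n) ((LinearMap.proj i : (Fin r → W) →ₗ[W] W).comp Q.subtype) (key n)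
    simpa using this
  let E : Q ≃ₗ[W] P := LinearEquiv.ofBijective φ ⟨hinj, hsurj⟩
  exact ⟨Module.Finite.equiv E, Module.Projective.of_equiv E⟩

/-- (i) ⇒ (ii), quotients. -/
theorem quotients_of_fin_proj (J : Ideal W) (P : Type*) [AddCommGroup P] [Module W P]
    [Module.Finite W P] [Module.Projective W P] :
    Module.Finite (W ⧸ J) (P ⧸ (J • ⊤ : Submodule W P)) ∧
      Module.Projective (W ⧸ J) (P ⧸ (J • ⊤ : Submodule W P)) := by
  let e := (TensorProduct.quotTensorEquivQuotSMul P J).extendScalarsOfSurjective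
      (Ideal.Quotient.mk_surjective (I := J))
  exact ⟨Module.Finite.equiv e, Module.Projective.of_equiv e⟩

/-- (i) ⇒ (ii), separatedness. -/
theorem sep_of_fin_proj (J : ℕ → Ideal W) (hsep : ∀ x : W, (∀ n, x ∈ J n) → x = 0)
    (P : Type*) [AddCommGroup P] [Module W P] [Module.Finite W P] [Module.Projective W P]
    (y : P) (hy : ∀ n, y ∈ (J n • ⊤ : Submodule W P)) : y = 0 := by
  obtain ⟨n, f, g, -, hg, -⟩ := Module.Finite.exists_comp_eq_id_of_projective W P
  apply hg
  rw [map_zero]
  funext i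
  apply hsep
  intro k
  have := map_mem_smul_top (J k) ((LinearMap.proj i : (Fin n → W) →ₗ[W] W).comp g) (hy k)
  simpa using this

end Groth.Agent.Helper8.FilProj
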