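import Mathlib
import Groth.Agent.Helper9.FilCxFM
import Groth.Agent.Helper9.FM3

set_option autoImplicit false

namespace Groth.Agent.Helper8.FilSerre

open CategoryTheory CategoryTheory.Limits SpSeq SpSeq.FilCx
open Groth.Agent.Helper9.FM Groth.Agent.Helper9.FMH Groth.Agent.Helper9.FilCxFM

universe v u

variable {A : Type u} [Category.{v} A] [Abelian A]

section Serre

open scoped ZeroObject

theorem exact_mk₄ {S₀ S₁ S₂ S₃ S₄ : A} (f₀ : S₀ ⟶ S₁) (f₁ : S₁ ⟶ S₂) (f₂ : S₂ ⟶ S₃)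
    (f₃ : S₃ ⟶ S₄) (w₀ : f₀ ≫ f₁ = 0) (w₁ : f₁ ≫ f₂ = 0) (w₂ : f₂ ≫ f₃ = 0)
    (e₀ : (ShortComplex.mk f₀ f₁ w₀).Exact) (e₁ : (ShortComplex.mk f₁ f₂ w₁).Exact)
    (e₂ : (ShortComplex.mk f₂ f₃ w₂).Exact) : (ComposableArrows.mk₄ f₀ f₁ f₂ f₃).Exact :=
  ComposableArrows.exact_of_δ₀ (ComposableArrows.exact₂_mk _ w₀ e₀)
    (ComposableArrows.exact_of_δ₀ (ComposableArrows.exact₂_mk _ w₁ e₁)
      (ComposableArrows.exact₂_mk _ w₂ e₂))

variable (P : ObjectProperty A) [P.IsClosedUnderIsomorphisms]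
  (h0 : ∃ Z : A, IsZero Z ∧ P Z)
  (hP : ∀ S : ComposableArrows A 4, S.Exact → P (S.obj 0) → P (S.obj 1) → P (S.obj 3) →
    P (S.obj 4) → P (S.obj 2))

include h0 in
theorem P_zero {Z : A} (hZ : IsZero Z) : P Z := by
  obtain ⟨Z', hZ', hPZ'⟩ := h0
  exact P.prop_of_iso (hZ'.iso hZ) hPZ'

include h0 hP in
theorem P_of_right {A₁ A₂ A₃ : A} (f : A₁ ⟶ A₂) (g : A₂ ⟶ A₃) (w : f ≫ g = 0)
    (ex : (ShortComplex.mk f g w).Exact) (hg : Epi g) (h1 : P A₁) (h2 : P A₂) : P A₃ := by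
  have hz : P (0 : A) := P_zero P h0 (isZero_zero A)
  have := hP (ComposableArrows.mk₄ f g (0 : A₃ ⟶ (0 : A)) (0 : (0 : A) ⟶ (0 : A)))
    (exact_mk₄ f g 0 0 w comp_zero comp_zero ex
      ((ShortComplex.exact_iff_epi _ (by simp)).2 hg)
      (ShortComplex.exact_of_isZero_X₂ _ (isZero_zero A))) h1 h2 hz hz
  exact this

include h0 hP in
theorem P_of_left {A₁ A₂ A₃ : A} (f : A₁ ⟶ A₂) (g : A₂ ⟶ A₃) (w : f ≫ g = 0)
    (ex : (ShortComplex.mk f g w).Exact) (hf : Mono f) (h2 : P A₂) (h3 : P A₃) : P A₁ := by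
  have hz : P (0 : A) := P_zero P h0 (isZero_zero A)
  have := hP (ComposableArrows.mk₄ (0 : (0 : A) ⟶ (0 : A)) (0 : (0 : A) ⟶ A₁) f g)
    (exact_mk₄ 0 0 f g zero_comp zero_comp w
      (ShortComplex.exact_of_isZero_X₂ _ (isZero_zero A))
      ((ShortComplex.exact_iff_mono _ (by simp)).2 hf) ex) hz hz h2 h3
  exact this

include h0 hP in
theorem P_of_ext {A₁ A₂ A₃ : A} (f : A₁ ⟶ A₂) (g : A₂ ⟶ A₃) (w : f ≫ g = 0)
    (ex : (ShortComplex.mk f g w).Exact) (hf : Mono f) (hg : Epi g) (h1 : P A₁) (h3 : P A₃) :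
    P A₂ := by
  have hz : P (0 : A) := P_zero P h0 (isZero_zero A)
  have := hP (ComposableArrows.mk₄ (0 : (0 : A) ⟶ A₁) f g (0 : A₃ ⟶ (0 : A)))
    (exact_mk₄ 0 f g 0 zero_comp w comp_zero
      ((ShortComplex.exact_iff_mono _ (by simp)).2 hf) ex
      ((ShortComplex.exact_iff_epi _ (by simp)).2 hg)) hz h1 h3 hz
  exact this

end Serre

section Subquot

variable {X : A}

/-- projection to the subquotient -/
noncomputable def qm (Z B : Subobject X) (h : B ≤ Z) : (Z : A) ⟶ subquot Z B h :=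
  cokernel.π (B.ofLE Z h)

theorem arrow_injective (Z : Subobject X) : Function.Injective (m Z.arrow) :=
  (mono_iff _).1 inferInstance

theorem ofLE_arrow_apply (B Z : Subobject X) (h : B ≤ Z) (b : (F A).obj (B : A)) :
    m Z.arrow (m (B.ofLE Z h) b) = m B.arrow b := by
  rw [← m_comp_apply, Subobject.ofLE_arrow]

theorem qm_surjective (Z B : Subobject X) (h : B ≤ Z) : Function.Surjective (m (qm Z B h)) :=
  cokernel_π_surjective _

theorem qm_eq_zero_iff (Z B : Subobject X) (h : B ≤ Z) (z : (F A).obj (Z : A)) :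
    m (qm Z B h) z = 0 ↔ m Z.arrow z ∈ sub B := by
  have key : m (qm Z B h) z = 0 ↔ ∃ b, m (B.ofLE Z h) b = z :=
    cokernel_π_eq_zero_iff (B.ofLE Z h) z
  rw [key]
  constructor
  · rintro ⟨b, rfl⟩
    exact ⟨b, (ofLE_arrow_apply B Z h b).symm⟩
  · rintro ⟨b, hb⟩
    exact ⟨b, arrow_injective Z (by rw [ofLE_arrow_apply, hb])⟩

/-- `x` represents `e` -/
def Rep (Z B : Subobject X) (h : B ≤ Z) (e : (F A).obj (subquot Z B h)) (x : (F A).obj X) : Prop :=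
  ∃ z : (F A).obj (Z : A), m Z.arrow z = x ∧ m (qm Z B h) z = e

variable {Z B : Subobject X} {h : B ≤ Z}

theorem Rep.mem {e : (F A).obj (subquot Z B h)} {x : (F A).obj X} (hr : Rep Z B h e x) :
    x ∈ sub Z := by
  obtain ⟨z, rfl, -⟩ := hr
  exact ⟨z, rfl⟩

theorem rep_exists (e : (F A).obj (subquot Z B h)) : ∃ x, Rep Z B h e x := by
  obtain ⟨z, rfl⟩ := qm_surjective Z B h e
  exact ⟨_, z, rfl, rfl⟩

theorem rep_of_mem (x : (F A).obj X) (hx : x ∈ sub Z) : ∃ e, Rep Z B h e x := by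
  obtain ⟨z, rfl⟩ := hx
  exact ⟨_, z, rfl, rfl⟩

theorem Rep.eq_zero_iff {e : (F A).obj (subquot Z B h)} {x : (F A).obj X}
    (hr : Rep Z B h e x) : e = 0 ↔ x ∈ sub B := by
  obtain ⟨z, rfl, rfl⟩ := hr
  exact qm_eq_zero_iff Z B h z

theorem Rep.diff {e e' : (F A).obj (subquot Z B h)} {x x' : (F A).obj X}
    (hr : Rep Z B h e x) (hr' : Rep Z B h e' x') : Rep Z B h (e - e') (x - x') := by
  obtain ⟨z, rfl, rfl⟩ := hr
  obtain ⟨z', rfl, rfl⟩ := hr'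
  exact ⟨z - z', by rw [map_sub], by rw [map_sub]⟩

theorem Rep.unique' {e e' : (F A).obj (subquot Z B h)} {x x' : (F A).obj X}
    (hr : Rep Z B h e x) (hr' : Rep Z B h e' x') (hd : x - x' ∈ sub B) : e = e' := by
  rw [← sub_eq_zero]
  exact (hr.diff hr').eq_zero_iff.2 hd

theorem Rep.unique {e e' : (F A).obj (subquot Z B h)} {x : (F A).obj X}
    (hr : Rep Z B h e x) (hr' : Rep Z B h e' x) : e = e' :=
  hr.unique' hr' (by rw [sub_self]; exact zero_mem _)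

theorem Rep.shift {e : (F A).obj (subquot Z B h)} {x x' : (F A).obj X}
    (hr : Rep Z B h e x) (hx' : x' ∈ sub Z) (hd : x - x' ∈ sub B) : Rep Z B h e x' := by
  obtain ⟨e', he'⟩ := rep_of_mem (B := B) (h := h) x' hx'
  have := hr.unique' he' hd
  rw [this]
  exact he'

theorem rep_exists' (Zt : Subobject X) (hZt : Zt ≤ Z) (ha : sub Z ≤ sub Zt ⊔ sub B)
    (e : (F A).obj (subquot Z B h)) : ∃ x, x ∈ sub Zt ∧ Rep Z B h e x := by
  obtain ⟨x, hx⟩ := rep_exists e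
  obtain ⟨xt, hxt, b, hb, hsum⟩ := Submodule.mem_sup.1 (ha hx.mem)
  refine ⟨xt, hxt, hx.shift (sub_mono hZt hxt) ?_⟩
  have : x - xt = b := by rw [← hsum]; abel
  rw [this]
  exact hb

theorem exists_map {Y : A} (φ : X ⟶ Y) (Z B : Subobject X) (h : B ≤ Z) (Z' B' : Subobject Y)
    (h' : B' ≤ Z') (Zt : Subobject X) (hZt : Zt ≤ Z)
    (ha : sub Z ≤ sub Zt ⊔ sub B)
    (hb : ∀ x ∈ sub Zt, m φ x ∈ sub Z')
    (hc : ∀ x ∈ sub Zt, x ∈ sub B → m φ x ∈ sub B') :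
    ∃ δ : subquot Z B h ⟶ subquot Z' B' h', ∀ e x, Rep Z B h e x → x ∈ sub Zt →
      Rep Z' B' h' (m δ e) (m φ x) := by
  let p : (Zt : A) ⟶ subquot Z B h := Zt.ofLE Z hZt ≫ qm Z B h
  have hp : Epi p := by
    rw [epi_iff]
    intro e
    obtain ⟨xt, hxt, hrep⟩ := rep_exists' (h := h) Zt hZt ha e
    obtain ⟨zt, rfl⟩ := hxt
    refine ⟨zt, ?_⟩
    have h1 : Rep Z B h (m p zt) (m Zt.arrow zt) :=
      ⟨m (Zt.ofLE Z hZt) zt, ofLE_arrow_apply _ _ _ _, (m_comp_apply _ _ _).symm⟩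
    exact h1.unique hrep
  have hfac : Z'.Factors (Zt.arrow ≫ φ) := (factors_iff _ _).2 (by
    rintro _ ⟨zt, rfl⟩
    rw [m_comp_apply]
    exact hb _ ⟨zt, rfl⟩)
  let k : (Zt : A) ⟶ subquot Z' B' h' := Z'.factorThru _ hfac ≫ qm Z' B' h'
  have hk : ∀ zt, Rep Z' B' h' (m k zt) (m φ (m Zt.arrow zt)) := fun zt =>
    ⟨m (Z'.factorThru _ hfac) zt, by
      rw [← m_comp_apply, Subobject.factorThru_arrow, m_comp_apply], (m_comp_apply _ _ _).symm⟩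
  have hker : LinearMap.ker (m p) ≤ LinearMap.ker (m k) := by
    intro zt hzt
    rw [LinearMap.mem_ker] at hzt ⊢
    have h1 : Rep Z B h (m p zt) (m Zt.arrow zt) :=
      ⟨m (Zt.ofLE Z hZt) zt, ofLE_arrow_apply _ _ _ _, (m_comp_apply _ _ _).symm⟩
    have h2 : m Zt.arrow zt ∈ sub B := h1.eq_zero_iff.1 hzt
    exact (hk zt).eq_zero_iff.2 (hc _ ⟨zt, rfl⟩ h2)
  haveI := hp
  obtain ⟨δ, hδ⟩ := exists_desc_of_ker_le p k hker
  refine ⟨δ, ?_⟩
  intro e x hrep hx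
  obtain ⟨zt, rfl⟩ := hx
  have h1 : Rep Z B h (m p zt) (m Zt.arrow zt) :=
    ⟨m (Zt.ofLE Z hZt) zt, ofLE_arrow_apply _ _ _ _, (m_comp_apply _ _ _).symm⟩
  have h2 : e = m p zt := hrep.unique h1
  rw [h2, ← m_comp_apply, hδ]
  exact hk zt

theorem exists_incl (Z B Z' B' : Subobject X) (h : B ≤ Z) (h' : B' ≤ Z') (hZ : Z ≤ Z')
    (hB : B ≤ B') :
    ∃ δ : subquot Z B h ⟶ subquot Z' B' h', ∀ e x, Rep Z B h e x → Rep Z' B' h' (m δ e) x := by
  have hid : ∀ x : (F A).obj X, m (𝟙 X) x = x := fun x => by rw [m_id]; rfl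
  obtain ⟨δ, hδ⟩ := exists_map (𝟙 X) Z B h Z' B' h' Z le_rfl le_sup_left
    (fun x hx => by rw [hid]; exact sub_mono hZ hx)
    (fun x _ hx => by rw [hid]; exact sub_mono hB hx)
  refine ⟨δ, fun e x hrep => ?_⟩
  have := hδ e x hrep hrep.mem
  rwa [hid] at this

end Subquot

section Pages

variable (K : SpSeq.FilCx A)

theorem sub_BSub' (r : ℕ) (p n i : ℤ) (hi : i + 1 = n) :
    sub (K.BSub r p n) =
      (Fm K p n ⊓ (Fm K (p - r + 1) i).map (m (K.obj.d i n))) ⊔ Fm K (p + 1) n := by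
  obtain rfl : i = n - 1 := by omega
  exact sub_BSub K r p n

/-- the "tilde" cycles `F^p ∩ d⁻¹ F^{p+r}` -/
noncomputable def Zt (r : ℕ) (p n : ℤ) : Subobject (K.obj.X n) :=
  K.filX p n ⊓ (Subobject.pullback (K.obj.d n (n + 1))).obj (K.filX (p + r) (n + 1))

theorem sub_Zt (r : ℕ) (p n : ℤ) :
    sub (Zt K r p n) =
      Fm K p n ⊓ (Fm K (p + r) (n + 1)).comap (m (K.obj.d n (n + 1))) := by
  unfold Zt Fm; rw [Groth.Agent.Helper9.FM.sub_inf, sub_pullback]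

theorem Zt_le (r : ℕ) (p n : ℤ) : Zt K r p n ≤ K.ZSub r p n := le_sup_left

theorem Fm_succ_le_BSub (r : ℕ) (p n : ℤ) : Fm K (p + 1) n ≤ sub (K.BSub r p n) := by
  rw [sub_BSub]; exact le_sup_right

theorem Fm_succ_le_ZSub (r : ℕ) (p n : ℤ) : Fm K (p + 1) n ≤ sub (K.ZSub r p n) := by
  rw [sub_ZSub]; exact le_sup_right

theorem sub_ZSub_le (r : ℕ) (p n : ℤ) :
    sub (K.ZSub r p n) ≤ sub (Zt K r p n) ⊔ sub (K.BSub r p n) := by
  rw [sub_ZSub, sub_Zt]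
  exact sup_le le_sup_left (le_sup_of_le_right (Fm_succ_le_BSub K r p n))

theorem ZSub_succ_le (r : ℕ) (p n : ℤ) : K.ZSub (r + 1) p n ≤ K.ZSub r p n := by
  rw [sub_le_iff, sub_ZSub, sub_ZSub]
  refine sup_le_sup_right (inf_le_inf_left _ (Submodule.comap_mono (Fm_anti K (n + 1) ?_))) _
  push_cast; omega

theorem BSub_le_succ (r : ℕ) (p n : ℤ) : K.BSub r p n ≤ K.BSub (r + 1) p n := by
  rw [sub_le_iff, sub_BSub, sub_BSub]
  refine sup_le_sup_right (inf_le_inf_left _ (Submodule.map_mono (Fm_anti K (n - 1) ?_))) _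
  push_cast; omega

theorem BSub_le_ZSub_succ (r : ℕ) (p n : ℤ) : K.BSub r p n ≤ K.ZSub (r + 1) p n :=
  (BSub_le_succ K r p n).trans (K.BSub_le_ZSub (r + 1) p n)

theorem d_mem_ZSub (r : ℕ) (p n : ℤ) (x : (F A).obj (K.obj.X n)) (hx : x ∈ sub (Zt K r p n)) :
    m (K.obj.d n (n + 1)) x ∈ sub (K.ZSub r (p + r) (n + 1)) := by
  rw [sub_Zt] at hx
  rw [sub_ZSub]
  refine Submodule.mem_sup_left ⟨hx.2, ?_⟩
  rw [SetLike.mem_coe, Submodule.mem_comap, d_d]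
  exact zero_mem _

theorem d_mem_BSub (r : ℕ) (p n : ℤ) (x : (F A).obj (K.obj.X n)) (hx : x ∈ sub (Zt K r p n))
    (hxB : x ∈ sub (K.BSub r p n)) :
    m (K.obj.d n (n + 1)) x ∈ sub (K.BSub r (p + r) (n + 1)) := by
  rw [sub_Zt] at hx
  rw [sub_BSub] at hxB
  rw [sub_BSub' K r (p + r) (n + 1) n rfl]
  obtain ⟨b, hb, y, hy, hsum⟩ := Submodule.mem_sup.1 hxB
  obtain ⟨-, t, -, rfl⟩ := hb
  have hdx : m (K.obj.d n (n + 1)) x = m (K.obj.d n (n + 1)) y := by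
    rw [← hsum, map_add, d_d, zero_add]
  have e : p + (r : ℤ) - r + 1 = p + 1 := by ring
  rw [e]
  refine Submodule.mem_sup_left ⟨hx.2, ?_⟩
  rw [hdx]
  exact ⟨y, hy, rfl⟩

theorem key_ker (r : ℕ) (p n : ℤ) (x : (F A).obj (K.obj.X n)) (hx : x ∈ sub (Zt K r p n))
    (hd : m (K.obj.d n (n + 1)) x ∈ sub (K.BSub r (p + r) (n + 1))) :
    x ∈ sub (K.ZSub (r + 1) p n) := by
  rw [sub_Zt] at hx
  rw [sub_BSub' K r (p + r) (n + 1) n rfl] at hd
  rw [sub_ZSub]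
  have e : p + (r : ℤ) - r + 1 = p + 1 := by ring
  rw [e] at hd
  obtain ⟨β, hβ, w, hw, hsum⟩ := Submodule.mem_sup.1 hd
  obtain ⟨-, y, hy, rfl⟩ := hβ
  have hxy : x = (x - y) + y := by abel
  rw [hxy]
  refine Submodule.add_mem_sup ⟨sub_mem hx.1 (Fm_anti K n (by omega) hy), ?_⟩ hy
  have hw' : m (K.obj.d n (n + 1)) (x - y) = w := by rw [map_sub, ← hsum]; abel
  have e2 : p + ((r + 1 : ℕ) : ℤ) = p + r + 1 := by push_cast; ring
  rw [SetLike.mem_coe, Submodule.mem_comap, hw', e2]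
  exact hw

theorem key_w (r : ℕ) (p n : ℤ) (x : (F A).obj (K.obj.X n))
    (hx : x ∈ sub (K.ZSub (r + 1) p n)) :
    ∃ xt, xt ∈ sub (Zt K r p n) ∧ x - xt ∈ Fm K (p + 1) n ∧
      m (K.obj.d n (n + 1)) xt ∈ Fm K (p + r + 1) (n + 1) := by
  rw [sub_ZSub] at hx
  obtain ⟨xt, hxt, y, hy, rfl⟩ := Submodule.mem_sup.1 hx
  have e2 : p + ((r + 1 : ℕ) : ℤ) = p + r + 1 := by push_cast; ring
  rw [e2] at hxt
  refine ⟨xt, ?_, ?_, hxt.2⟩
  · rw [sub_Zt]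
    exact ⟨hxt.1, Fm_anti K (n + 1) (by omega) hxt.2⟩
  · have : xt + y - xt = y := by abel
    rw [this]; exact hy

theorem d_mem_BSub_succ (r : ℕ) (p n : ℤ) (x : (F A).obj (K.obj.X n))
    (hx : x ∈ sub (Zt K r p n)) :
    m (K.obj.d n (n + 1)) x ∈ sub (K.BSub (r + 1) (p + r) (n + 1)) := by
  rw [sub_Zt] at hx
  rw [sub_BSub' K (r + 1) (p + r) (n + 1) n rfl]
  have e : p + (r : ℤ) - ((r + 1 : ℕ) : ℤ) + 1 = p := by push_cast; ring
  rw [e]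
  exact Submodule.mem_sup_left ⟨hx.2, x, hx.1, rfl⟩

theorem key_epi (r : ℕ) (p n : ℤ) (x : (F A).obj (K.obj.X (n + 1)))
    (hx : x ∈ sub (K.BSub (r + 1) (p + r) (n + 1))) :
    ∃ t, t ∈ sub (Zt K r p n) ∧
      x - m (K.obj.d n (n + 1)) t ∈ sub (K.BSub r (p + r) (n + 1)) := by
  rw [sub_BSub' K (r + 1) (p + r) (n + 1) n rfl] at hx
  have e : p + (r : ℤ) - ((r + 1 : ℕ) : ℤ) + 1 = p := by push_cast; ring
  rw [e] at hx
  obtain ⟨β, hβ, y, hy, rfl⟩ := Submodule.mem_sup.1 hx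
  obtain ⟨hβ1, t, ht, rfl⟩ := hβ
  refine ⟨t, ?_, ?_⟩
  · rw [sub_Zt]; exact ⟨ht, hβ1⟩
  · have : m (K.obj.d n (n + 1)) t + y - m (K.obj.d n (n + 1)) t = y := by abel
    rw [this]; exact Fm_succ_le_BSub K r (p + r) (n + 1) hy

end Pages

section PagesP

variable (K : SpSeq.FilCx A)

/-- zero composition, exactness and mono-ness for the "kernel of `d_r`" sequences -/
theorem w_ex (r : ℕ) (p n : ℤ) (Z' : Subobject (K.obj.X (n + 1)))
    (h' : K.BSub r (p + r) (n + 1) ≤ Z')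
    (i₁ : subquot (K.ZSub (r + 1) p n) (K.BSub r p n) (BSub_le_ZSub_succ K r p n) ⟶
      subquot (K.ZSub r p n) (K.BSub r p n) (K.BSub_le_ZSub r p n))
    (hi₁ : ∀ e x, Rep _ _ (BSub_le_ZSub_succ K r p n) e x →
      Rep _ _ (K.BSub_le_ZSub r p n) (m i₁ e) x)
    (δ : subquot (K.ZSub r p n) (K.BSub r p n) (K.BSub_le_ZSub r p n) ⟶
      subquot Z' (K.BSub r (p + r) (n + 1)) h')
    (hδ : ∀ e x, Rep _ _ (K.BSub_le_ZSub r p n) e x → x ∈ sub (Zt K r p n) →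
      Rep _ _ h' (m δ e) (m (K.obj.d n (n + 1)) x)) :
    ∃ w : i₁ ≫ δ = 0, (ShortComplex.mk i₁ δ w).Exact ∧ Mono i₁ := by
  have w : i₁ ≫ δ = 0 := by
    rw [comp_eq_zero_iff]
    intro e
    obtain ⟨x, hx⟩ := rep_exists e
    obtain ⟨xt, hxt, hdiff, hd⟩ := key_w K r p n x hx.mem
    have h1 := hi₁ e x hx
    have h2 := h1.shift (sub_mono (Zt_le K r p n) hxt) (Fm_succ_le_BSub K r p n hdiff)
    have h3 := hδ _ _ h2 hxt
    exact h3.eq_zero_iff.2 (Fm_succ_le_BSub K r (p + r) (n + 1) hd)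
  refine ⟨w, ?_, ?_⟩
  · rw [exact_iff]
    intro e2 he2
    obtain ⟨xt, hxt, hrep⟩ := rep_exists' (h := K.BSub_le_ZSub r p n) (Zt K r p n)
      (Zt_le K r p n) (sub_ZSub_le K r p n) e2
    have h3 := hδ _ _ hrep hxt
    have h4 : m (K.obj.d n (n + 1)) xt ∈ sub (K.BSub r (p + r) (n + 1)) :=
      h3.eq_zero_iff.1 he2
    have h5 := key_ker K r p n xt hxt h4
    obtain ⟨e1, he1⟩ := rep_of_mem (B := K.BSub r p n) (h := BSub_le_ZSub_succ K r p n) xt h5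
    exact ⟨e1, (hi₁ e1 xt he1).unique hrep⟩
  · rw [mono_iff, injective_iff_map_eq_zero]
    intro e he
    obtain ⟨x, hx⟩ := rep_exists e
    have := hi₁ e x hx
    exact hx.eq_zero_iff.2 (this.eq_zero_iff.1 he)

open scoped ZeroObject

variable (P : ObjectProperty A) [P.IsClosedUnderIsomorphisms]
  (h0 : ∃ Z : A, IsZero Z ∧ P Z)
  (hP : ∀ S : ComposableArrows A 4, S.Exact → P (S.obj 0) → P (S.obj 1) → P (S.obj 3) →
    P (S.obj 4) → P (S.obj 2))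

include h0 hP

theorem P_Zsucc (r : ℕ) (p n : ℤ) (h1 : P (K.E r p n)) (h2 : P (K.E r (p + r) (n + 1))) :
    P (subquot (K.ZSub (r + 1) p n) (K.BSub r p n) (BSub_le_ZSub_succ K r p n)) := by
  obtain ⟨i₁, hi₁⟩ := exists_incl (K.ZSub (r + 1) p n) (K.BSub r p n) (K.ZSub r p n)
    (K.BSub r p n) (BSub_le_ZSub_succ K r p n) (K.BSub_le_ZSub r p n) (ZSub_succ_le K r p n) le_rfl
  obtain ⟨δ, hδ⟩ := exists_map (K.obj.d n (n + 1)) (K.ZSub r p n) (K.BSub r p n)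
    (K.BSub_le_ZSub r p n) (K.ZSub r (p + r) (n + 1)) (K.BSub r (p + r) (n + 1))
    (K.BSub_le_ZSub r (p + r) (n + 1)) (Zt K r p n) (Zt_le K r p n) (sub_ZSub_le K r p n)
    (d_mem_ZSub K r p n) (d_mem_BSub K r p n)
  obtain ⟨w, ex, hmono⟩ := w_ex K r p n _ _ i₁ hi₁ δ hδ
  exact P_of_left P h0 hP i₁ δ w ex hmono h1 h2

theorem P_Bsucc (r : ℕ) (p₀ n₀ p n : ℤ) (hp : p₀ + r = p) (hn : n₀ + 1 = n)
    (h1 : P (subquot (K.ZSub (r + 1) p₀ n₀) (K.BSub r p₀ n₀) (BSub_le_ZSub_succ K r p₀ n₀)))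
    (h2 : P (K.E r p₀ n₀)) :
    P (subquot (K.BSub (r + 1) p n) (K.BSub r p n) (BSub_le_succ K r p n)) := by
  subst hp hn
  obtain ⟨i₁, hi₁⟩ := exists_incl (K.ZSub (r + 1) p₀ n₀) (K.BSub r p₀ n₀) (K.ZSub r p₀ n₀)
    (K.BSub r p₀ n₀) (BSub_le_ZSub_succ K r p₀ n₀) (K.BSub_le_ZSub r p₀ n₀)
    (ZSub_succ_le K r p₀ n₀) le_rfl
  obtain ⟨δ, hδ⟩ := exists_map (K.obj.d n₀ (n₀ + 1)) (K.ZSub r p₀ n₀) (K.BSub r p₀ n₀)
    (K.BSub_le_ZSub r p₀ n₀) (K.BSub (r + 1) (p₀ + r) (n₀ + 1)) (K.BSub r (p₀ + r) (n₀ + 1))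
    (BSub_le_succ K r (p₀ + r) (n₀ + 1)) (Zt K r p₀ n₀) (Zt_le K r p₀ n₀)
    (sub_ZSub_le K r p₀ n₀) (d_mem_BSub_succ K r p₀ n₀) (d_mem_BSub K r p₀ n₀)
  obtain ⟨w, ex, -⟩ := w_ex K r p₀ n₀ _ _ i₁ hi₁ δ hδ
  have hepi : Epi δ := by
    rw [epi_iff]
    intro e3
    obtain ⟨x, hx⟩ := rep_exists e3
    obtain ⟨t, ht, hdiff⟩ := key_epi K r p₀ n₀ x hx.mem
    obtain ⟨e2, he2⟩ := rep_of_mem (B := K.BSub r p₀ n₀) (h := K.BSub_le_ZSub r p₀ n₀) t
      (sub_mono (Zt_le K r p₀ n₀) ht)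
    have h3 := hδ e2 t he2 ht
    refine ⟨e2, h3.unique' hx ?_⟩
    have : m (K.obj.d n₀ (n₀ + 1)) t - x = -(x - m (K.obj.d n₀ (n₀ + 1)) t) := by abel
    rw [this]
    exact neg_mem hdiff
  exact P_of_right P h0 hP i₁ δ w ex hepi h1 h2

theorem P_Esucc (r : ℕ) (p n : ℤ)
    (h1 : P (subquot (K.BSub (r + 1) p n) (K.BSub r p n) (BSub_le_succ K r p n)))
    (h2 : P (subquot (K.ZSub (r + 1) p n) (K.BSub r p n) (BSub_le_ZSub_succ K r p n))) :
    P (K.E (r + 1) p n) := by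
  obtain ⟨i₂, hi₂⟩ := exists_incl (K.BSub (r + 1) p n) (K.BSub r p n) (K.ZSub (r + 1) p n)
    (K.BSub r p n) (BSub_le_succ K r p n) (BSub_le_ZSub_succ K r p n)
    (K.BSub_le_ZSub (r + 1) p n) le_rfl
  obtain ⟨π, hπ⟩ := exists_incl (K.ZSub (r + 1) p n) (K.BSub r p n) (K.ZSub (r + 1) p n)
    (K.BSub (r + 1) p n) (BSub_le_ZSub_succ K r p n) (K.BSub_le_ZSub (r + 1) p n) le_rfl
    (BSub_le_succ K r p n)
  have w : i₂ ≫ π = 0 := by
    rw [comp_eq_zero_iff]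
    intro e
    obtain ⟨x, hx⟩ := rep_exists e
    exact (hπ _ _ (hi₂ _ _ hx)).eq_zero_iff.2 hx.mem
  have ex : (ShortComplex.mk i₂ π w).Exact := by
    rw [exact_iff]
    intro e2 he2
    obtain ⟨x, hx⟩ := rep_exists e2
    have hxB : x ∈ sub (K.BSub (r + 1) p n) := (hπ _ _ hx).eq_zero_iff.1 he2
    obtain ⟨e1, he1⟩ := rep_of_mem (B := K.BSub r p n) (h := BSub_le_succ K r p n) x hxB
    exact ⟨e1, (hi₂ _ _ he1).unique hx⟩
  have hepi : Epi π := by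
    rw [epi_iff]
    intro e3
    obtain ⟨x, hx⟩ := rep_exists e3
    obtain ⟨e2, he2⟩ := rep_of_mem (B := K.BSub r p n) (h := BSub_le_ZSub_succ K r p n) x hx.mem
    exact ⟨e2, (hπ _ _ he2).unique hx⟩
  exact P_of_right P h0 hP i₂ π w ex hepi h1 h2

theorem P_E_succ_all (r : ℕ) (hr : ∀ p n : ℤ, P (K.E r p n)) : ∀ p n : ℤ, P (K.E (r + 1) p n) := by
  intro p n
  have hZ : ∀ p n : ℤ, P (subquot (K.ZSub (r + 1) p n) (K.BSub r p n)
      (BSub_le_ZSub_succ K r p n)) :=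
    fun p n => P_Zsucc K P h0 hP r p n (hr p n) (hr _ _)
  have hB := P_Bsucc K P h0 hP r (p - r) (n - 1) p n (by ring) (by ring) (hZ _ _) (hr _ _)
  exact P_Esucc K P h0 hP r p n hB (hZ p n)

theorem P_E_all (r : ℕ) (hr : ∀ p n : ℤ, P (K.E r p n)) (r' : ℕ) (hrr' : r ≤ r') :
    ∀ p n : ℤ, P (K.E r' p n) := by
  induction r', hrr' using Nat.le_induction with
  | base => exact hr
  | succ k _ ih => exact P_E_succ_all K P h0 hP k ih

end PagesP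

section Abut

variable (K : SpSeq.FilCx A)

theorem BBot_le_ZTop (p n : ℤ) : K.BBot p n ≤ K.ZTop p n := by
  rw [sub_le_iff, sub_BBot, sub_ZTop]
  refine sup_le_sup_right (inf_le_inf_left _ ?_) _
  rintro _ ⟨y, rfl⟩
  rw [LinearMap.mem_ker, d_d]

theorem mem_filH_iff (p n : ℤ) (h : (F A).obj (K.obj.homology n)) :
    h ∈ sub (K.filH p n) ↔
      ∃ (x : (F A).obj (K.obj.X n)) (hx : m (K.obj.d n (n + 1)) x = 0),
        x ∈ Fm K p n ∧ cls K.obj n x hx = h := by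
  unfold filH
  rw [sub_image]
  constructor
  · rintro ⟨h', rfl⟩
    obtain ⟨x', hx', rfl⟩ := exists_cls _ n h'
    exact ⟨m ((ι K p).f n) x', by rw [ι_d, hx', map_zero], (mem_Fm_iff ..).2 ⟨_, rfl⟩,
      (homologyMap_cls n (ι K p) hx').symm⟩
  · rintro ⟨x, hx, hxF, rfl⟩
    obtain ⟨x', rfl⟩ := (mem_Fm_iff ..).1 hxF
    exact ⟨cls _ n x' (cocycle_of_ι K hx), homologyMap_cls n (ι K p) _⟩

/-- the left component of `ZTop` -/
noncomputable def ZTt (p n : ℤ) : Subobject (K.obj.X n) :=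
  K.filX p n ⊓ kernelSubobject (K.obj.d n (n + 1))

theorem sub_ZTt (p n : ℤ) :
    sub (ZTt K p n) = Fm K p n ⊓ LinearMap.ker (m (K.obj.d n (n + 1))) := by
  unfold ZTt Fm; rw [Groth.Agent.Helper9.FM.sub_inf, sub_kernel]

theorem ZTt_le (p n : ℤ) : ZTt K p n ≤ K.ZTop p n := le_sup_left

theorem Fm_succ_le_BBot (p n : ℤ) : Fm K (p + 1) n ≤ sub (K.BBot p n) := by
  rw [sub_BBot]; exact le_sup_right

theorem sub_ZTop_le (p n : ℤ) : sub (K.ZTop p n) ≤ sub (ZTt K p n) ⊔ sub (K.BBot p n) := by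
  rw [sub_ZTop, sub_ZTt]
  exact sup_le le_sup_left (le_sup_of_le_right (Fm_succ_le_BBot K p n))

theorem exists_eps (p n : ℤ) :
    ∃ ε : (K.filH p n : A) ⟶ subquot (K.ZTop p n) (K.BBot p n) (BBot_le_ZTop K p n),
      ∀ (t : (F A).obj (K.filH p n : A)) (x : (F A).obj (K.obj.X n))
        (hx : m (K.obj.d n (n + 1)) x = 0), x ∈ Fm K p n →
        m (K.filH p n).arrow t = cls K.obj n x hx →
        Rep _ _ (BBot_le_ZTop K p n) (m ε t) x := by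
  change ∃ ε : (imageSubobject (HomologicalComplex.homologyMap (ι K p) n) : A) ⟶
      subquot (K.ZTop p n) (K.BBot p n) (BBot_le_ZTop K p n),
      ∀ (t : (F A).obj (imageSubobject (HomologicalComplex.homologyMap (ι K p) n) : A))
        (x : (F A).obj (K.obj.X n))
        (hx : m (K.obj.d n (n + 1)) x = 0), x ∈ Fm K p n →
        m (imageSubobject (HomologicalComplex.homologyMap (ι K p) n)).arrow t =
          cls K.obj n x hx →
        Rep _ _ (BBot_le_ZTop K p n) (m ε t) x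
  let Cx : CochainComplex A ℤ := (K.fil p : CochainComplex A ℤ)
  let e : Cx.cycles n ⟶ (imageSubobject (HomologicalComplex.homologyMap (ι K p) n) : A) :=
    Cx.homologyπ n ≫ factorThruImageSubobject (HomologicalComplex.homologyMap (ι K p) n)
  haveI : Epi e := epi_comp _ _
  let k₀ : Cx.cycles n ⟶ K.obj.X n := Cx.iCycles n ≫ (ι K p).f n
  have hcyc : ∀ c, m (K.obj.d n (n + 1)) (m ((ι K p).f n) (m (Cx.iCycles n) c)) = 0 := by
    intro c
    rw [ι_d, iCycles_d_apply, map_zero]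
  have hfac : (K.ZTop p n).Factors k₀ := (factors_iff _ _).2 (by
    rintro _ ⟨c, rfl⟩
    rw [m_comp_apply, sub_ZTop]
    exact Submodule.mem_sup_left ⟨(mem_Fm_iff ..).2 ⟨_, rfl⟩, hcyc c⟩)
  let k : Cx.cycles n ⟶ subquot (K.ZTop p n) (K.BBot p n) (BBot_le_ZTop K p n) :=
    (K.ZTop p n).factorThru k₀ hfac ≫ qm _ _ _
  have hk : ∀ c, Rep _ _ (BBot_le_ZTop K p n) (m k c)
      (m ((ι K p).f n) (m (Cx.iCycles n) c)) := fun c =>
    ⟨m ((K.ZTop p n).factorThru k₀ hfac) c, by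
      rw [← m_comp_apply, Subobject.factorThru_arrow, m_comp_apply], (m_comp_apply _ _ _).symm⟩
  have harrow : ∀ c, m (imageSubobject (HomologicalComplex.homologyMap (ι K p) n)).arrow (m e c) =
      cls K.obj n (m ((ι K p).f n) (m (Cx.iCycles n) c)) (hcyc c) := by
    intro c
    have h1 : m (imageSubobject (HomologicalComplex.homologyMap (ι K p) n)).arrow (m e c) =
        m (HomologicalComplex.homologyMap (ι K p) n) (m (Cx.homologyπ n) c) := by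
      rw [m_comp_apply, ← m_comp_apply (factorThruImageSubobject _),
        imageSubobject_arrow_comp]
    rw [h1, ← cls_eq Cx n (iCycles_d_apply Cx n c) c rfl, homologyMap_cls]
  have hker : LinearMap.ker (m e) ≤ LinearMap.ker (m k) := by
    intro c hc
    rw [LinearMap.mem_ker] at hc ⊢
    have h1 := harrow c
    rw [hc, map_zero] at h1
    obtain ⟨y, hy⟩ := (cls_eq_zero_iff _ n (hcyc c)).1 h1.symm
    refine (hk c).eq_zero_iff.2 ?_
    rw [sub_BBot]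
    exact Submodule.mem_sup_left ⟨(mem_Fm_iff ..).2 ⟨_, rfl⟩, ⟨y, hy⟩⟩
  obtain ⟨ε, hε⟩ := exists_desc_of_ker_le e k hker
  refine ⟨ε, ?_⟩
  intro t x hx hxF ht
  obtain ⟨x', rfl⟩ := (mem_Fm_iff ..).1 hxF
  have hx' := cocycle_of_ι K hx
  obtain ⟨c, rfl⟩ := exists_cycle Cx n x' hx'
  have h2 : t = m e c := arrow_injective _ (by rw [ht, harrow c])
  rw [h2, ← m_comp_apply, hε]
  exact hk c

open scoped ZeroObject

variable (P : ObjectProperty A) [P.IsClosedUnderIsomorphisms]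
  (h0 : ∃ Z : A, IsZero Z ∧ P Z)
  (hP : ∀ S : ComposableArrows A 4, S.Exact → P (S.obj 0) → P (S.obj 1) → P (S.obj 3) →
    P (S.obj 4) → P (S.obj 2))

include h0 hP

theorem P_filH_step (p p' n : ℤ) (hp : p + 1 = p') (h1 : P (K.filH p' n : A))
    (h2 : P (subquot (K.ZTop p n) (K.BBot p n) (BBot_le_ZTop K p n))) : P (K.filH p n : A) := by
  subst hp
  obtain ⟨ε, hε⟩ := exists_eps K p n
  let j : (K.filH (p + 1) n : A) ⟶ (K.filH p n : A) :=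
    (K.filH (p + 1) n).ofLE (K.filH p n) (K.filH_anti n (by omega))
  have hj : ∀ t1, m (K.filH p n).arrow (m j t1) = m (K.filH (p + 1) n).arrow t1 :=
    fun t1 => ofLE_arrow_apply _ _ _ t1
  have w : j ≫ ε = 0 := by
    rw [comp_eq_zero_iff]
    intro t1
    obtain ⟨y, hy, hyF, hcls⟩ := (mem_filH_iff K (p + 1) n _).1 ⟨t1, rfl⟩
    have h3 := hε (m j t1) y hy (Fm_anti K n (by omega) hyF) (by rw [hj, hcls])
    exact h3.eq_zero_iff.2 (Fm_succ_le_BBot K p n hyF)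
  have ex : (ShortComplex.mk j ε w).Exact := by
    rw [exact_iff]
    intro t ht
    obtain ⟨x, hx, hxF, hcls⟩ := (mem_filH_iff K p n _).1 ⟨t, rfl⟩
    have h3 := hε t x hx hxF hcls.symm
    have h4 : x ∈ sub (K.BBot p n) := h3.eq_zero_iff.1 ht
    rw [sub_BBot] at h4
    obtain ⟨b, hb, y, hy, hsum⟩ := Submodule.mem_sup.1 h4
    obtain ⟨-, s, rfl⟩ := hb
    have hdy : m (K.obj.d n (n + 1)) y = 0 := by
      have : y = x - m (K.obj.d (n - 1) n) s := by rw [← hsum]; abel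
      rw [this, map_sub, hx, d_d, sub_zero]
    have hcls' : cls K.obj n x hx = cls K.obj n y hdy := by
      rw [cls_eq_cls_iff]
      exact ⟨s, by rw [← hsum]; abel⟩
    obtain ⟨t1, ht1⟩ := (mem_filH_iff K (p + 1) n _).2 ⟨y, hdy, hy, rfl⟩
    refine ⟨t1, arrow_injective _ ?_⟩
    change m (K.filH p n).arrow (m j t1) = _
    rw [hj, ht1, ← hcls', hcls]
  have hepi : Epi ε := by
    rw [epi_iff]
    intro e3
    obtain ⟨x, hxt, hrep⟩ := rep_exists' (h := BBot_le_ZTop K p n) (ZTt K p n) (ZTt_le K p n)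
      (sub_ZTop_le K p n) e3
    rw [sub_ZTt] at hxt
    have hx : m (K.obj.d n (n + 1)) x = 0 := hxt.2
    obtain ⟨t, ht⟩ := (mem_filH_iff K p n _).2 ⟨x, hx, hxt.1, rfl⟩
    exact ⟨t, (hε t x hx hxt.1 ht).unique hrep⟩
  exact P_of_ext P h0 hP j ε w ex inferInstance hepi h1 h2

omit h0 hP in
theorem subquot_congr {X : A} {Z Z' B B' : Subobject X} (hZ : Z = Z') (hB : B = B') (h : B ≤ Z)
    (h' : B' ≤ Z') (hPq : P (subquot Z B h)) : P (subquot Z' B' h') := by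
  subst hZ hB
  exact hPq

theorem main (hK : ∀ n : ℤ, (K.XFil n).IsFinite) (r : ℕ) (hr : ∀ p n : ℤ, P (K.E r p n))
    (n : ℤ) : P (K.obj.homology n) := by
  have hgr : ∀ p, P (subquot (K.ZTop p n) (K.BBot p n) (BBot_le_ZTop K p n)) := by
    intro p
    obtain ⟨-, ⟨b1, hb1⟩⟩ := hK (n + 1)
    obtain ⟨⟨a0, ha0⟩, -⟩ := hK (n - 1)
    change K.filX b1 (n + 1) = ⊥ at hb1
    change K.filX a0 (n - 1) = ⊤ at ha0
    obtain ⟨r', hr'⟩ : ∃ r' : ℕ, r' = r + 1 + (b1 - p).toNat + (p + 1 - a0).toNat := ⟨_, rfl⟩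
    have hZ : K.ZSub r' p n = K.ZTop p n := Z_eq K r' p n (by omega)
      (acyc_of_eq_bot K (le_bot_iff.1 (hb1 ▸ K.filX_anti (n + 1) (by omega : b1 ≤ p + r'))))
    have hB : K.BSub r' p n = K.BBot p n := B_eq K r' p n (by omega)
      (injH_of_eq_top K (fun i hi => by
        obtain rfl : i = n - 1 := by omega
        exact top_le_iff.1 (ha0 ▸ K.filX_anti (n - 1) (by omega : p - r' + 1 ≤ a0))))
    have hPE := P_E_all K P h0 hP r hr r' (by omega) p n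
    exact subquot_congr P hZ hB _ _ hPE
  obtain ⟨⟨a, ha⟩, ⟨b, hb⟩⟩ := hK n
  change K.filX a n = ⊤ at ha
  change K.filX b n = ⊥ at hb
  have hTb : K.filH b n = ⊥ := filH_eq_bot K (acyc_of_eq_bot K hb)
  have hdown : ∀ k : ℕ, P (K.filH (b - k) n : A) := by
    intro k
    induction k with
    | zero =>
      have e : b - ((0 : ℕ) : ℤ) = b := by simp
      rw [e, hTb]
      exact P.prop_of_iso Subobject.botCoeIsoZero.symm (P_zero P h0 (isZero_zero A))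
    | succ k ih =>
      exact P_filH_step K P h0 hP (b - ((k + 1 : ℕ) : ℤ)) (b - (k : ℤ)) n (by push_cast; ring) ih
        (hgr _)
  obtain ⟨k, hk⟩ : ∃ k : ℕ, k = (b - a).toNat := ⟨_, rfl⟩
  have ha' : K.filX (b - k) n = ⊤ :=
    top_le_iff.1 (ha ▸ K.filX_anti n (by omega : b - (k : ℤ) ≤ a))
  have hTa : K.filH (b - k) n = ⊤ := filH_eq_top K (surjH_of_eq_top K ha')
  haveI : IsIso (K.filH (b - k) n).arrow := (Subobject.isIso_arrow_iff_eq_top _).2 hTa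
  exact P.prop_of_iso (asIso (K.filH (b - k) n).arrow) (hdown k)

end Abut

end Groth.Agent.Helper8.FilSerre
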