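import Mathlib

namespace Groth.Agent.Helper8.FiltTP

open scoped TensorProduct
universe u v w

variable {Γ : Type w} [AddCommGroup Γ] [LinearOrder Γ] [IsOrderedAddMonoid Γ]
variable {R : Type u} [CommRing R] {M : Type v} [AddCommGroup M] [Module R M]

section proj
variable (G : Γ → Submodule R M) (hG : DirectSum.IsInternal G)

open Classical in
/-- the projection to the β-component -/
noncomputable def π (β : Γ) : M →ₗ[R] M :=
  (G β).subtype ∘ₗ DirectSum.component R Γ (fun i => G i) β ∘ₗ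
    (LinearEquiv.ofBijective (DirectSum.coeLinearMap G) hG).symm.toLinearMap

variable {G}

lemma π_mem (β : Γ) (x : M) : π G hG β x ∈ G β := by
  simp [π]

open Classical in
lemma symm_of_mem {η : Γ} {x : M} (hx : x ∈ G η) :
    (LinearEquiv.ofBijective (DirectSum.coeLinearMap G) hG).symm x
      = DirectSum.lof R Γ (fun i => G i) η ⟨x, hx⟩ := by
  rw [LinearEquiv.symm_apply_eq]
  simp [DirectSum.coeLinearMap_lof]

lemma π_of_mem_same {β : Γ} {x : M} (hx : x ∈ G β) : π G hG β x = x := by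
  classical
  simp only [π, LinearMap.coe_comp, Function.comp_apply, LinearEquiv.coe_coe]
  rw [symm_of_mem hG hx]
  simp [DirectSum.component.lof_self]

lemma π_of_mem_ne {β η : Γ} (hne : η ≠ β) {x : M} (hx : x ∈ G η) : π G hG β x = 0 := by
  classical
  simp only [π, LinearMap.coe_comp, Function.comp_apply, LinearEquiv.coe_coe]
  rw [symm_of_mem hG hx]
  rw [DirectSum.component.of _ _ ]
  simp [hne]

lemma mem_iSup_of_π_eq_zero (γ : Γ) (x : M) (h : ∀ β < γ, π G hG β x = 0) :
    x ∈ ⨆ η ∈ Set.Ici γ, G η := by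
  classical
  obtain ⟨d, hd⟩ : ∃ d, d = (LinearEquiv.ofBijective (DirectSum.coeLinearMap G) hG).symm x := ⟨_, rfl⟩
  have hx : x = DirectSum.coeLinearMap G d := by
    rw [hd]; simp
  have hcomp : ∀ β, π G hG β x = (d β : M) := by
    intro β
    simp only [π, LinearMap.coe_comp, Function.comp_apply, LinearEquiv.coe_coe, ← hd]
    rfl
  rw [hx, DirectSum.coeLinearMap_eq_dfinsuppSum]
  rw [DFinsupp.sum]
  refine Submodule.sum_mem _ fun i _ => ?_
  by_cases hi : i < γ
  · have := h i hi
    rw [hcomp] at this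
    rw [this]; exact Submodule.zero_mem _
  · push Not at hi
    exact Submodule.mem_iSup_of_mem i (Submodule.mem_iSup_of_mem hi (d i).2)

lemma iSup_le_ker_π {β γ : Γ} (hβ : β < γ) :
    (⨆ η ∈ Set.Ici γ, G η) ≤ LinearMap.ker (π G hG β) := by
  refine iSup_le fun η => iSup_le fun hη => ?_
  intro x hx
  rw [LinearMap.mem_ker]
  exact π_of_mem_ne hG (ne_of_gt (lt_of_lt_of_le hβ hη)) hx

include hG in
lemma finite_support [Module.Finite R M] : {η | G η ≠ ⊥}.Finite := by
  classical
  obtain ⟨s, hs⟩ := (Module.finite_def (R := R) (M := M)).1 inferInstance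
  let e := (LinearEquiv.ofBijective (DirectSum.coeLinearMap G) hG).symm
  refine Set.Finite.subset (s.biUnion fun g => (e g).support).finite_toSet ?_
  intro η hη
  by_contra hcon
  apply hη
  have hz : π G hG η = 0 := by
    apply LinearMap.ext_on_range (v := fun g : s => (g : M))
    · simpa using hs
    · intro g
      simp only [LinearMap.zero_apply]
      simp only [π, LinearMap.coe_comp, Function.comp_apply, LinearEquiv.coe_coe]
      have : (e g) η = 0 := by
        by_contra h0
        apply hcon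
        simp only [Finset.coe_biUnion, Set.mem_iUnion, Finset.mem_coe]
        exact ⟨g, g.2, by simpa [DFinsupp.mem_support_iff] using h0⟩
      change ((G η).subtype ((e g) η)) = 0
      rw [this]; simp
  rw [eq_bot_iff]
  intro x hx
  rw [← π_of_mem_same hG hx, hz]; simp

end proj


lemma map_eq_zero_of_eq_zero {ι : Type*} [Fintype ι] {s t : ι → Type*}
    [∀ i, AddCommGroup (s i)] [∀ i, Module R (s i)] [∀ i, AddCommGroup (t i)] [∀ i, Module R (t i)]
    (f : ∀ i, s i →ₗ[R] t i) (i : ι) (hi : f i = 0) : PiTensorProduct.map f = 0 := by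
  apply PiTensorProduct.ext
  apply MultilinearMap.ext
  intro x
  simp only [LinearMap.compMultilinearMap_apply, PiTensorProduct.map_tprod, LinearMap.zero_apply]
  exact (PiTensorProduct.tprod R).map_coord_zero i (by simp [hi])

/-- Descending induction for the coefficient argument. -/
lemma coeff_descent {J : Type*} [Fintype J] (a : J → R) (T : Set R) (t : J → J → R)
    (ht : ∀ l j, t l j ∈ T) (ha : ∀ l, a l = ∑ j, a j * t l j) (n : ℕ)
    (hn : ∀ l, ∀ s : Fin n → R, (∀ i, s i ∈ T) → a l * ∏ i, s i = 0) : ∀ l, a l = 0 := by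
  induction n with
  | zero =>
    intro l
    simpa using hn l Fin.elim0 (fun i => i.elim0)
  | succ n ih =>
    apply ih
    intro l s hs
    rw [ha l, Finset.sum_mul]
    refine Finset.sum_eq_zero fun j _ => ?_
    have := hn j (Fin.cons (t l j) s) (by
      intro i
      refine Fin.cases ?_ (fun i => ?_) i
      · simpa using ht l j
      · simpa using hs i)
    rw [Fin.prod_univ_succ] at this
    simpa [mul_assoc] using this

section key
variable [Module.Finite R M] [Module.Projective R M]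
variable {G₂ : Γ → Submodule R M} (hG₂ : DirectSum.IsInternal G₂)
include hG₂

/-- If `mβ ∈ G₂ β` and all the pure tensors `mβ ⊗ x₁ ⊗ ⋯ ⊗ x_k'` with `x_i ∈ G₂ β` vanish, then `mβ = 0`. -/
lemma eq_zero_of_tprod_eq_zero (β : Γ) (k' : ℕ) (mβ : M) (hmβ : mβ ∈ G₂ β)
    (hA : ∀ x : Fin k' → M, (∀ i, x i ∈ G₂ β) →
      PiTensorProduct.tprod R (Fin.cons (α := fun _ : Fin (k' + 1) => M) mβ x) = 0) :
    mβ = 0 := by
  classical
  obtain ⟨n, f, g, -, -, hfg⟩ := Module.Finite.exists_comp_eq_id_of_projective R M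
  -- functionals
  let φ : Fin n → Module.Dual R M := fun j => LinearMap.proj j ∘ₗ g
  let e : Fin n → M := fun j => f (Pi.single j 1)
  have hdual : ∀ x : M, x = ∑ j, φ j x • e j := by
    intro x
    have h1 : x = f (g x) := by
      have := LinearMap.congr_fun hfg x
      simpa using this.symm
    conv_lhs => rw [h1]
    have h2 : g x = ∑ j, (g x j) • (Pi.single j (1 : R) : Fin n → R) := by
      ext i
      simp [Finset.sum_apply, Pi.single_apply]
    conv_lhs => rw [h2]
    simp [map_sum, φ, e]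
  -- Step B
  have hB : ∀ (ψ : Fin (k' + 1) → Module.Dual R M) (x : Fin k' → M), (∀ i, x i ∈ G₂ β) →
      ψ 0 mβ * ∏ i : Fin k', ψ i.succ (x i) = 0 := by
    intro ψ x hx
    have h0 := hA x hx
    have := congrArg (PiTensorProduct.lift
      ((MultilinearMap.mkPiAlgebra R (Fin (k' + 1)) R).compLinearMap ψ)) h0
    rw [PiTensorProduct.lift.tprod, map_zero, MultilinearMap.compLinearMap_apply,
      MultilinearMap.mkPiAlgebra_apply, Fin.prod_univ_succ] at this
    simpa using this
  let T : Set R := {r | ∃ (ψ : Module.Dual R M) (x : M), x ∈ G₂ β ∧ r = ψ x}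
  let a : Fin n → R := fun j => φ j mβ
  let p : Fin n → M := fun j => π G₂ hG₂ β (e j)
  have hsum : mβ = ∑ j, a j • p j := by
    conv_lhs => rw [← π_of_mem_same hG₂ hmβ, hdual mβ]
    simp [map_sum, a, p]
  have ha : ∀ l, a l = ∑ j, a j * φ l (p j) := by
    intro l
    change φ l mβ = _
    conv_lhs => rw [hsum]
    simp [map_sum]
  have hall : ∀ l, a l = 0 := by
    refine coeff_descent a T (fun l j => φ l (p j)) (fun l j => ⟨φ l, p j, π_mem hG₂ β _, rfl⟩) ha k' ?_
    intro l s hs
    choose ψ x hx hψ using hs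
    have := hB (Fin.cons (α := fun _ : Fin (k' + 1) => Module.Dual R M) (φ l) ψ) x hx
    simp only [Fin.cons_zero, Fin.cons_succ] at this
    simpa [a, hψ] using this
  rw [hsum]
  simp [hall]

variable {F₁ F₂ : Γ → Submodule R M}

lemma key (hF₂ : ∀ γ, F₂ γ = ⨆ η ∈ Set.Ici γ, G₂ η) (k' : ℕ)
    (h : ∀ γ : Γ,
      (⨆ c : {c : Fin (k' + 1) → Γ // ∑ i, c i = γ},
        LinearMap.range (PiTensorProduct.map (R := R) (fun i => (F₁ (c.1 i)).subtype))) ≤
      (⨆ c : {c : Fin (k' + 1) → Γ // ∑ i, c i = γ},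
        LinearMap.range (PiTensorProduct.map (R := R) (fun i => (F₂ (c.1 i)).subtype))))
    (γ : Γ) (hsub : ∀ β < γ, G₂ β ≤ F₁ β) : F₁ γ ≤ F₂ γ := by
  intro m hm
  rw [hF₂]
  apply mem_iSup_of_π_eq_zero hG₂
  intro β hβ
  apply eq_zero_of_tprod_eq_zero hG₂ β k' _ (π_mem hG₂ β m)
  intro x hx
  -- the element t
  have hmem : ∀ i : Fin (k' + 1), Fin.cons (α := fun _ : Fin (k' + 1) => M) m x i ∈
      F₁ (Fin.cons (α := fun _ : Fin (k' + 1) => Γ) γ (fun _ => β) i) := by
    intro i
    refine Fin.cases ?_ (fun i => ?_) i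
    · simpa using hm
    · simpa using hsub β hβ (hx i)
  have hsumc : ∑ i, (Fin.cons (α := fun _ : Fin (k' + 1) => Γ) γ (fun _ => β) : Fin (k' + 1) → Γ) i
      = γ + k' • β := by
    rw [Fin.sum_univ_succ]
    simp
  have ht : PiTensorProduct.tprod R (Fin.cons (α := fun _ : Fin (k' + 1) => M) m x) ∈
      (⨆ c : {c : Fin (k' + 1) → Γ // ∑ i, c i = γ + k' • β},
        LinearMap.range (PiTensorProduct.map (R := R) (fun i => (F₁ (c.1 i)).subtype))) := by
    refine Submodule.mem_iSup_of_mem ⟨_, hsumc⟩ ⟨PiTensorProduct.tprod R (fun i => ⟨_, hmem i⟩), ?_⟩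
    rw [PiTensorProduct.map_tprod]
    rfl
  have ht2 := h _ ht
  have hker : (⨆ c : {c : Fin (k' + 1) → Γ // ∑ i, c i = γ + k' • β},
        LinearMap.range (PiTensorProduct.map (R := R) (fun i => (F₂ (c.1 i)).subtype))) ≤
      LinearMap.ker (PiTensorProduct.map (R := R) (fun _ : Fin (k' + 1) => π G₂ hG₂ β)) := by
    refine iSup_le fun c => ?_
    obtain ⟨i, hi⟩ : ∃ i, β < c.1 i := by
      by_contra hcon
      push Not at hcon
      have h1 : ∑ i, c.1 i ≤ ∑ _i : Fin (k' + 1), β := Finset.sum_le_sum fun i _ => hcon i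
      rw [c.2] at h1
      simp only [Finset.sum_const, Finset.card_univ, Fintype.card_fin, succ_nsmul] at h1
      have h2 : k' • β + β < γ + k' • β := by
        rw [add_comm]
        exact add_lt_add_left hβ _
      exact absurd h1 (not_le.mpr h2)
    rintro _ ⟨y, rfl⟩
    rw [LinearMap.mem_ker, ← LinearMap.comp_apply, ← PiTensorProduct.map_comp]
    rw [map_eq_zero_of_eq_zero _ i]
    · simp
    · apply LinearMap.ext
      intro z
      simp only [LinearMap.coe_comp, Function.comp_apply, Submodule.subtype_apply,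
        LinearMap.zero_apply]
      have hz : (z : M) ∈ ⨆ η ∈ Set.Ici (c.1 i), G₂ η := (hF₂ (c.1 i)) ▸ z.2
      exact iSup_le_ker_π hG₂ hi hz
  have h3 := hker ht2
  rw [LinearMap.mem_ker, PiTensorProduct.map_tprod] at h3
  rw [← h3]
  congr 1
  funext i
  refine Fin.cases ?_ (fun i => ?_) i
  · simp
  · simp [π_of_mem_same hG₂ (hx i)]

end key

theorem main [Nontrivial Γ] [Module.Finite R M] [Module.Projective R M]
    (F₁ F₂ : Γ → Submodule R M)
    (h₁ : ∃ G : Γ → Submodule R M, DirectSum.IsInternal G ∧ ∀ γ, F₁ γ = ⨆ η ∈ Set.Ici γ, G η)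
    (h₂ : ∃ G : Γ → Submodule R M, DirectSum.IsInternal G ∧ ∀ γ, F₂ γ = ⨆ η ∈ Set.Ici γ, G η)
    (k : ℕ) (hk : 1 ≤ k)
    (h : ∀ γ : Γ,
      (⨆ c : {c : Fin k → Γ // ∑ i, c i = γ}, LinearMap.range (PiTensorProduct.map (R := R) (fun i => (F₁ (c.1 i)).subtype))) =
      (⨆ c : {c : Fin k → Γ // ∑ i, c i = γ}, LinearMap.range (PiTensorProduct.map (R := R) (fun i => (F₂ (c.1 i)).subtype)))) :
    F₁ = F₂ := by
  classical
  obtain ⟨G₁, hG₁, hF₁⟩ := h₁
  obtain ⟨G₂, hG₂, hF₂⟩ := h₂
  obtain ⟨k', rfl⟩ : ∃ k', k = k' + 1 := ⟨k - 1, by omega⟩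
  have hfin₁ := finite_support hG₁
  have hfin₂ := finite_support hG₂
  let S : Finset Γ := hfin₁.toFinset ∪ hfin₂.toFinset
  have hS₁ : ∀ η, G₁ η ≠ ⊥ → η ∈ S := fun η hη =>
    Finset.mem_union_left _ (by simpa using hη)
  have hS₂ : ∀ η, G₂ η ≠ ⊥ → η ∈ S := fun η hη =>
    Finset.mem_union_right _ (by simpa using hη)
  have hmain : ∀ n : ℕ, ∀ γ : Γ, (S.filter (· < γ)).card = n → F₁ γ = F₂ γ := by
    intro n
    induction n using Nat.strong_induction_on with
    | _ n ih =>
      intro γ hγ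
      have hlt : ∀ β < γ, β ∈ S → F₁ β = F₂ β := by
        intro β hβ hβS
        refine ih _ ?_ β rfl
        rw [← hγ]
        apply Finset.card_lt_card
        refine ⟨fun x hx => ?_, fun hcon => ?_⟩
        · simp only [Finset.mem_filter] at hx ⊢
          exact ⟨hx.1, hx.2.trans hβ⟩
        · have := hcon (Finset.mem_filter.mpr ⟨hβS, hβ⟩)
          simp at this
      apply le_antisymm
      · apply key hG₂ hF₂ k' (fun γ' => (h γ').le) γ
        intro β hβ
        by_cases hb : G₂ β = ⊥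
        · rw [hb]; exact bot_le
        · rw [hlt β hβ (hS₂ β hb), hF₂]
          exact le_iSup₂_of_le β (Set.mem_Ici.mpr le_rfl) le_rfl
      · apply key hG₁ hF₁ k' (fun γ' => (h γ').ge) γ
        intro β hβ
        by_cases hb : G₁ β = ⊥
        · rw [hb]; exact bot_le
        · rw [← hlt β hβ (hS₁ β hb), hF₁]
          exact le_iSup₂_of_le β (Set.mem_Ici.mpr le_rfl) le_rfl
  funext γ
  exact hmain _ γ rfl

end Groth.Agent.Helper8.FiltTP
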