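import Mathlib.RingTheory.Etale.Field
import Mathlib.RingTheory.Etale.Pi
import Mathlib.RingTheory.Artinian.Ring
import Mathlib.FieldTheory.IsAlgClosed.Basic
import Mathlib.FieldTheory.Perfect

/-! Finite algebras over an algebraically closed field. -/

set_option autoImplicit false

namespace Groth.Agent.Helper8

universe u v

open Algebra

/-- A finite reduced algebra over an algebraically closed field is formally étale. -/
theorem formallyEtale_of_finite_isReduced (k : Type u) [Field k] [IsAlgClosed k]
    (B : Type v) [CommRing B] [Algebra k B] [Module.Finite k B] [IsReduced B] :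
    Algebra.FormallyEtale k B := by
  have : IsArtinianRing B := IsArtinianRing.of_finite k B
  let _ (I : MaximalSpectrum B) : Field (B ⧸ I.asIdeal) := Ideal.Quotient.field I.asIdeal
  have (I : MaximalSpectrum B) : Algebra.FormallyEtale k (B ⧸ I.asIdeal) := by
    have : Algebra.IsAlgebraic k (B ⧸ I.asIdeal) := Algebra.IsAlgebraic.of_finite k _
    exact Algebra.FormallyEtale.of_isSeparable k (B ⧸ I.asIdeal)
  exact .of_equiv ((IsArtinianRing.equivPi B).restrictScalars k).symm

end Groth.Agent.Helper8
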