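import Mathlib
import Groth.Agent.Helper9.TorsorProps

/-!
# Torsors under finite connected group schemes over a field

`G` a finite connected group scheme over a field `K`.
* `eq_unit`: every point of `G` with values in a reduced `K`-scheme is the unit.
* `pt_unique`: a pseudo-torsor under `G` has at most one point with values in a reduced scheme.
* `hasSection_of_separable`: if the residue field of a point of a finite pseudo-torsor is separable
  over `K`, the pseudo-torsor has a `K`-point.
-/

set_option autoImplicit false

namespace Groth.Agent.Helper8.FinConn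

open CategoryTheory CategoryTheory.Limits MonoidalCategory CartesianMonoidalCategory MonObj
  AlgebraicGeometry

universe u

variable {K : Type u} [Field K]

theorem discrete_of_isFinite {Y : Scheme.{u}} (f : Y ⟶ Spec (CommRingCat.of K)) [IsFinite f] :
    DiscreteTopology Y := by
  haveI : IsAffine Y := isAffine_of_isAffineHom f
  have hfin : RingHom.Finite f.appTop.hom :=
    ((HasAffineProperty.iff_of_isAffine (P := @IsFinite)).mp ‹IsFinite f›).2
  letI := f.appTop.hom.toAlgebra
  haveI : Module.Finite Γ(Spec (CommRingCat.of K), ⊤) Γ(Y, ⊤) := hfin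
  haveI : IsArtinianRing Γ(Spec (CommRingCat.of K), ⊤) :=
    (Scheme.ΓSpecIso (CommRingCat.of K)).commRingCatIsoToRingEquiv.symm.surjective.isArtinianRing
  haveI : IsArtinianRing Γ(Y, ⊤) :=
    IsArtinianRing.of_finite Γ(Spec (CommRingCat.of K), ⊤) Γ(Y, ⊤)
  haveI : DiscreteTopology (Spec Γ(Y, ⊤)) := inferInstanceAs (DiscreteTopology (PrimeSpectrum _))
  exact Y.isoSpec.hom.homeomorph.symm.discreteTopology

section

variable (G : Over (Spec (CommRingCat.of K))) [GrpObj G] [IsFinite G.hom] [ConnectedSpace G.left]

include G in
omit [GrpObj G] in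
theorem subsingleton_left : Subsingleton G.left := by
  haveI := discrete_of_isFinite G.hom
  exact PreconnectedSpace.trivial_of_discrete

/-- every point of `G` with values in a reduced scheme is the unit -/
theorem eq_unit (T : Over (Spec (CommRingCat.of K))) [IsReduced T.left] (g : T ⟶ G) :
    g = toUnit T ≫ η[G] := by
  let e : Spec (CommRingCat.of K) ⟶ G.left := (η[G]).left
  have he : e ≫ G.hom = 𝟙 _ := Over.w η[G]
  haveI : IsClosedImmersion e := isClosedImmersion_of_comp_eq_id G.hom e he
  haveI := subsingleton_left G
  haveI : Surjective e := ⟨fun y => ⟨default, Subsingleton.elim _ _⟩⟩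
  haveI : IsIso (pullback.fst g.left e) := isIso_of_isClosedImmersion_of_surjective _
  have h1 : g.left = (inv (pullback.fst g.left e) ≫ pullback.snd g.left e) ≫ e := by
    rw [Category.assoc, ← pullback.condition, IsIso.inv_hom_id_assoc]
  have h2 : inv (pullback.fst g.left e) ≫ pullback.snd g.left e = T.hom := by
    have h3 : g.left ≫ G.hom = T.hom := Over.w g
    rw [← h3]
    conv_rhs => rw [h1, Category.assoc, he, Category.comp_id]
  ext1
  rw [Over.comp_left, h1, h2]
  rfl

variable {G}
variable {X : Over (Spec (CommRingCat.of K))} (a : AlgGrp.Action G X)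
  (hps : IsIso (lift a.act (snd G X)))

include hps in
/-- a pseudo-torsor under `G` has at most one point with values in a reduced scheme -/
theorem pt_unique {T : Scheme.{u}} [IsReduced T] (p q : T ⟶ X.left)
    (h : p ≫ X.hom = q ≫ X.hom) : p = q := by
  let T' : Over (Spec (CommRingCat.of K)) := Over.mk (p ≫ X.hom)
  haveI : IsReduced T'.left := ‹IsReduced T›
  let x : T' ⟶ X := Over.homMk p rfl
  let y : T' ⟶ X := Over.homMk q h.symm
  have h1 := Groth.Agent.Helper9.TorsorTriv.act_dv a hps x y
  rw [eq_unit G T' (lift x y ≫ Groth.Agent.Helper9.TorsorTriv.dv a hps)] at h1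
  have h2 : lift (toUnit T' ≫ η[G]) y ≫ a.act = y := by
    rw [← lift_whiskerRight, Category.assoc, a.one_act, lift_leftUnitor_hom]
  have h3 : x = y := h1.symm.trans h2
  exact congrArg (fun f => f.left) h3

include hps in
theorem subsingleton_torsor : Subsingleton X.left := by
  refine ⟨fun x x' => ?_⟩
  obtain ⟨z, hz1, hz2⟩ := Scheme.Pullback.exists_preimage_pullback (f := X.hom) (g := X.hom) x x'
    (Subsingleton.elim _ _)
  let i := (pullback X.hom X.hom).fromSpecResidueField z
  have h0 := pt_unique a hps (i ≫ pullback.fst X.hom X.hom) (i ≫ pullback.snd X.hom X.hom)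
    (by rw [Category.assoc, Category.assoc, pullback.condition])
  have h1 : (i ≫ pullback.fst X.hom X.hom) (IsLocalRing.closedPoint _) = x := by
    rw [Scheme.Hom.comp_apply, Scheme.fromSpecResidueField_apply, hz1]
  have h2 : (i ≫ pullback.snd X.hom X.hom) (IsLocalRing.closedPoint _) = x' := by
    rw [Scheme.Hom.comp_apply, Scheme.fromSpecResidueField_apply, hz2]
  rw [← h1, h0, h2]

variable [IsFinite X.hom]

include hps in
/-- the residue fields of a finite pseudo-torsor are finite over `K` -/
theorem finite_residue (x : X.left) (φ : CommRingCat.of K ⟶ X.left.residueField x)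
    (hφ : Spec.map φ = X.left.fromSpecResidueField x ≫ X.hom) : φ.hom.Finite := by
  haveI := subsingleton_torsor a hps
  have hcl : IsClosed ({x} : Set X.left) := by
    rw [Subsingleton.eq_univ_of_nonempty (s := ({x} : Set X.left)) ⟨x, rfl⟩]
    exact isClosed_univ
  haveI : IsClosedImmersion (X.left.fromSpecResidueField x) :=
    isClosed_singleton_iff_isClosedImmersion.mp hcl
  haveI : IsFinite (Spec.map φ) := by rw [hφ]; infer_instance
  exact (IsFinite.SpecMap_iff φ).mp inferInstance

include hps in
/-- if the residue field of a point of a finite pseudo-torsor under a finite connected group is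
separable over the base field then the pseudo-torsor has a rational point -/
theorem hasSection_of_separable (x : X.left) (φ : CommRingCat.of K ⟶ X.left.residueField x)
    (hφ : Spec.map φ = X.left.fromSpecResidueField x ≫ X.hom)
    (hsep : @Algebra.IsSeparable K (X.left.residueField x) _ _ φ.hom.toAlgebra) :
    NonAbH1.HasSectionOver X (𝟙 (Spec (CommRingCat.of K))) := by
  have hfin := finite_residue a hps x φ hφ
  letI alg : Algebra K (X.left.residueField x) := φ.hom.toAlgebra
  haveI : Module.Finite K (X.left.residueField x) := hfin
  haveI : Algebra.IsSeparable K (X.left.residueField x) := hsep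
  -- all embeddings into an algebraic closure agree
  have hsub : Subsingleton (Field.Emb K (X.left.residueField x)) := by
    refine ⟨fun ψ₁ ψ₂ => ?_⟩
    have hc : ∀ ψ : X.left.residueField x →ₐ[K] AlgebraicClosure (X.left.residueField x),
        (Spec.map (CommRingCat.ofHom (ψ : X.left.residueField x →+* _)) ≫
          X.left.fromSpecResidueField x) ≫ X.hom =
        Spec.map (CommRingCat.ofHom (algebraMap K (AlgebraicClosure (X.left.residueField x)))) := by
      intro ψ
      rw [Category.assoc, ← hφ, ← Spec.map_comp]
      congr 1
      ext r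
      exact ψ.commutes r
    have h0 := pt_unique a hps _ _ ((hc ψ₁).trans (hc ψ₂).symm)
    rw [cancel_mono] at h0
    have h1 := Spec.map_injective h0
    ext r
    exact congrArg (fun f => f.hom r) h1
  have hne : Nonempty (Field.Emb K (X.left.residueField x)) :=
    ⟨IsScalarTower.toAlgHom K _ _⟩
  have hcard : Field.finSepDegree K (X.left.residueField x) = 1 :=
    Nat.card_eq_one_iff_unique.mpr ⟨hsub, hne⟩
  have hrank : Module.finrank K (X.left.residueField x) = 1 := by
    rw [← Field.finSepDegree_eq_finrank_of_isSeparable K (X.left.residueField x)]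
    exact hcard
  have hsurj : Function.Surjective (algebraMap K (X.left.residueField x)) :=
    Algebra.surjective_algebraMap_iff.mpr (Subalgebra.bot_eq_top_of_finrank_eq_one hrank).symm
  have hbij : Function.Bijective φ.hom := ⟨φ.hom.injective, hsurj⟩
  let ε := RingEquiv.ofBijective φ.hom hbij
  refine ⟨Spec.map (CommRingCat.ofHom (ε.symm : X.left.residueField x →+* K)) ≫
    X.left.fromSpecResidueField x, ?_⟩
  rw [Category.assoc, ← hφ, ← Spec.map_comp]
  have : φ ≫ CommRingCat.ofHom (ε.symm : X.left.residueField x →+* K) = 𝟙 _ := by
    ext r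
    exact ε.symm_apply_apply r
  exact (congrArg Spec.map this).trans (Spec.map_id _)

end

end Groth.Agent.Helper8.FinConn
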