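import Mathlib
import Groth.Agent.Helper8.FinConn

/-!
# Torsors under finite connected group schemes: Frobenius twists

`G` finite connected over a field `K` of characteristic exponent `p ≠ 1`.  There is `n` such that
points of `G` precomposed with the `n`-th Frobenius of an affine test scheme are trivial
(`exists_frob_trivial`), so two points of a pseudo-torsor agree after this Frobenius
(`frob_pt_unique`), and a finite pseudo-torsor has a section over the `n`-th Frobenius of `K`
(`hasSection_frob`).
-/

set_option autoImplicit false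

namespace Groth.Agent.Helper8.FinConn

open CategoryTheory CategoryTheory.Limits MonoidalCategory CartesianMonoidalCategory MonObj
  AlgebraicGeometry

universe u

/-- ring level: in an artinian local `K`-algebra with residue field `K`, a fixed Frobenius power of
`f` only depends on the residue class of `f` -/
theorem exists_pow_eq {A K : Type u} [CommRing A] [Field K] (p : ℕ) [ExpChar K p] (hp : p ≠ 1)
    (inc : K →+* A) (ε : A →+* K) (hιε : ∀ r, ε (inc r) = r) [IsArtinianRing A]
    (hsub : Subsingleton (PrimeSpectrum A)) :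
    ∃ n : ℕ, ∀ f : A, f ^ p ^ n = (inc (ε f)) ^ p ^ n := by
  haveI : Nontrivial A := RingHom.domain_nontrivial ε
  haveI : ExpChar A p := expChar_of_injective_ringHom inc.injective p
  obtain ⟨N, hN⟩ := IsArtinianRing.isNilpotent_nilradical (R := A)
  have hp2 : 2 ≤ p := by
    have hpos : 0 < p := expChar_pos K p
    omega
  refine ⟨N, fun f => ?_⟩
  have hker : (f - inc (ε f)) ∈ nilradical A := by
    rw [mem_nilradical, nilpotent_iff_mem_prime]
    intro J hJ
    haveI : (RingHom.ker ε).IsPrime := RingHom.ker_isPrime ε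
    have hJe : J = RingHom.ker ε :=
      congrArg PrimeSpectrum.asIdeal (Subsingleton.elim (⟨J, hJ⟩ : PrimeSpectrum A) ⟨_, ‹_›⟩)
    rw [hJe, RingHom.mem_ker, map_sub, hιε, sub_self]
  have h0 : (f - inc (ε f)) ^ N = 0 := by
    have : (f - inc (ε f)) ^ N ∈ nilradical A ^ N := Ideal.pow_mem_pow hker N
    rw [hN] at this
    exact this
  have h1 : (f - inc (ε f)) ^ p ^ N = 0 :=
    pow_eq_zero_of_le (Nat.lt_pow_self hp2).le h0
  rw [sub_pow_expChar_pow, sub_eq_zero] at h1
  exact h1

variable {K : Type u} [Field K]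

theorem isArtinianRing_of_isFinite {Y : Scheme.{u}} (f : Y ⟶ Spec (CommRingCat.of K)) [IsFinite f] :
    IsArtinianRing Γ(Y, ⊤) := by
  haveI : IsAffine Y := isAffine_of_isAffineHom f
  have hfin : RingHom.Finite f.appTop.hom :=
    ((HasAffineProperty.iff_of_isAffine (P := @IsFinite)).mp ‹IsFinite f›).2
  letI := f.appTop.hom.toAlgebra
  haveI : Module.Finite Γ(Spec (CommRingCat.of K), ⊤) Γ(Y, ⊤) := hfin
  haveI : IsArtinianRing Γ(Spec (CommRingCat.of K), ⊤) :=
    (Scheme.ΓSpecIso (CommRingCat.of K)).commRingCatIsoToRingEquiv.symm.surjective.isArtinianRing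
  exact IsArtinianRing.of_finite Γ(Spec (CommRingCat.of K), ⊤) Γ(Y, ⊤)

section

variable (G : Over (Spec (CommRingCat.of K))) [GrpObj G] [IsFinite G.hom] [ConnectedSpace G.left]

/-- points of `G` precomposed with a fixed Frobenius power of the (affine) source are trivial -/
theorem exists_frob_trivial (p : ℕ) [ExpChar K p] (hp : p ≠ 1) :
    ∃ n : ℕ, ∀ (C : Type u) [CommRing C] [ExpChar C p] (h : Spec (CommRingCat.of C) ⟶ G.left),
      Spec.map (CommRingCat.ofHom (iterateFrobenius C p n)) ≫ h =
        (Spec.map (CommRingCat.ofHom (iterateFrobenius C p n)) ≫ h ≫ G.hom) ≫ (η[G]).left := by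
  let e : Spec (CommRingCat.of K) ⟶ G.left := (η[G]).left
  have he : e ≫ G.hom = 𝟙 _ := Over.w η[G]
  haveI : IsAffine G.left := isAffine_of_isAffineHom G.hom
  haveI : IsArtinianRing Γ(G.left, ⊤) := isArtinianRing_of_isFinite G.hom
  haveI := subsingleton_left G
  have hsub : Subsingleton (PrimeSpectrum Γ(G.left, ⊤)) :=
    G.left.isoSpec.inv.isOpenEmbedding.injective.subsingleton
  obtain ⟨ε', hε'⟩ := Spec.map_surjective (e ≫ G.left.isoSpec.hom)
  obtain ⟨inc', hinc'⟩ := Spec.map_surjective (G.left.isoSpec.inv ≫ G.hom)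
  have hιε : inc' ≫ ε' = 𝟙 _ := by
    apply Spec.map_injective
    rw [Spec.map_comp, hε', hinc', Category.assoc, Iso.hom_inv_id_assoc, he, Spec.map_id]
  obtain ⟨n, hn⟩ := exists_pow_eq (A := Γ(G.left, ⊤)) (K := K) p hp inc'.hom ε'.hom
    (fun r => congrArg (fun g => g.hom r) hιε) hsub
  refine ⟨n, fun C _ _ h => ?_⟩
  obtain ⟨gam, hgam⟩ := Spec.map_surjective (h ≫ G.left.isoSpec.hom)
  have hh : h = Spec.map gam ≫ G.left.isoSpec.inv := by
    rw [hgam, Category.assoc, Iso.hom_inv_id, Category.comp_id]
  have key : gam ≫ CommRingCat.ofHom (iterateFrobenius C p n) =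
      ε' ≫ inc' ≫ gam ≫ CommRingCat.ofHom (iterateFrobenius C p n) := by
    ext f
    show iterateFrobenius C p n (gam.hom f) = iterateFrobenius C p n (gam.hom (inc'.hom (ε'.hom f)))
    rw [iterateFrobenius_def, iterateFrobenius_def, ← map_pow, ← map_pow, hn f]
  calc Spec.map (CommRingCat.ofHom (iterateFrobenius C p n)) ≫ h
      = Spec.map (gam ≫ CommRingCat.ofHom (iterateFrobenius C p n)) ≫ G.left.isoSpec.inv := by
        rw [hh, Spec.map_comp, Category.assoc]
    _ = Spec.map (ε' ≫ inc' ≫ gam ≫ CommRingCat.ofHom (iterateFrobenius C p n)) ≫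
          G.left.isoSpec.inv := by rw [← key]
    _ = (Spec.map (CommRingCat.ofHom (iterateFrobenius C p n)) ≫ h ≫ G.hom) ≫ e := by
        rw [Spec.map_comp, Spec.map_comp, Spec.map_comp, hε', hinc', hgam]
        simp only [Category.assoc, Iso.hom_inv_id_assoc, Iso.hom_inv_id, Category.comp_id]

variable {G}
variable {X : Over (Spec (CommRingCat.of K))} (a : AlgGrp.Action G X)
  (hps : IsIso (lift a.act (snd G X)))

include hps in
omit [IsFinite G.hom] [ConnectedSpace G.left] in
/-- two points of a pseudo-torsor agree after a Frobenius power for which the points of `G`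
become trivial -/
theorem frob_pt_unique (p n : ℕ) {C : Type u} [CommRing C] [ExpChar C p]
    (hn : ∀ h : Spec (CommRingCat.of C) ⟶ G.left,
      Spec.map (CommRingCat.ofHom (iterateFrobenius C p n)) ≫ h =
        (Spec.map (CommRingCat.ofHom (iterateFrobenius C p n)) ≫ h ≫ G.hom) ≫ (η[G]).left)
    (p₁ p₂ : Spec (CommRingCat.of C) ⟶ X.left) (h : p₁ ≫ X.hom = p₂ ≫ X.hom) :
    Spec.map (CommRingCat.ofHom (iterateFrobenius C p n)) ≫ p₁ =
      Spec.map (CommRingCat.ofHom (iterateFrobenius C p n)) ≫ p₂ := by
  let T' : Over (Spec (CommRingCat.of K)) := Over.mk (p₁ ≫ X.hom)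
  let x : T' ⟶ X := Over.homMk p₁ rfl
  let y : T' ⟶ X := Over.homMk p₂ h.symm
  let g : T' ⟶ G := lift x y ≫ Groth.Agent.Helper9.TorsorTriv.dv a hps
  have h1 : lift g y ≫ a.act = x := Groth.Agent.Helper9.TorsorTriv.act_dv a hps x y
  let T'' : Over (Spec (CommRingCat.of K)) :=
    Over.mk (Spec.map (CommRingCat.ofHom (iterateFrobenius C p n)) ≫ p₁ ≫ X.hom)
  let Fr : T'' ⟶ T' := Over.homMk (Spec.map (CommRingCat.ofHom (iterateFrobenius C p n))) rfl
  have h2 : Fr ≫ g = toUnit T'' ≫ η[G] := by
    ext1
    rw [Over.comp_left, Over.comp_left]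
    have h3 : g.left ≫ G.hom = p₁ ≫ X.hom := Over.w g
    show Spec.map (CommRingCat.ofHom (iterateFrobenius C p n)) ≫ g.left = _
    rw [hn g.left, h3]
    rfl
  have h4 : Fr ≫ x = Fr ≫ y := by
    calc Fr ≫ x = lift (Fr ≫ g) (Fr ≫ y) ≫ a.act := by rw [← h1, ← Category.assoc, comp_lift]
      _ = Fr ≫ y := by
        rw [h2, ← lift_whiskerRight, Category.assoc, a.one_act, lift_leftUnitor_hom]
  exact congrArg (fun f => f.left) h4

include hps in
omit [IsFinite G.hom] [ConnectedSpace G.left] in
/-- a pseudo-torsor with a point has a section over a Frobenius power of the base field for which the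
points of `G` become trivial -/
theorem hasSection_frob (p n : ℕ) [ExpChar K p]
    (hn : ∀ (C : Type u) [CommRing C] [ExpChar C p] (h : Spec (CommRingCat.of C) ⟶ G.left),
      Spec.map (CommRingCat.ofHom (iterateFrobenius C p n)) ≫ h =
        (Spec.map (CommRingCat.ofHom (iterateFrobenius C p n)) ≫ h ≫ G.hom) ≫ (η[G]).left)
    (x : X.left) :
    NonAbH1.HasSectionOver X (Spec.map (CommRingCat.ofHom (iterateFrobenius K p n))) := by
  obtain ⟨φ, hφ⟩ := Spec.map_surjective (X.left.fromSpecResidueField x ≫ X.hom)
  letI alg : Algebra K (X.left.residueField x) := φ.hom.toAlgebra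
  haveI : ExpChar (X.left.residueField x) p :=
    expChar_of_injective_algebraMap (algebraMap K (X.left.residueField x)).injective p
  let C := TensorProduct K (X.left.residueField x) (X.left.residueField x)
  haveI : Nontrivial C :=
    RingHom.domain_nontrivial (Algebra.TensorProduct.lmul' K (S := X.left.residueField x)).toRingHom
  haveI : ExpChar C p := by
    refine expChar_of_injective_algebraMap (R := K) (A := C) ?_ p
    exact (algebraMap K C).injective
  let i₁ : X.left.residueField x →+* C := Algebra.TensorProduct.includeLeftRingHom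
  let i₂ : X.left.residueField x →+* C :=
    (Algebra.TensorProduct.includeRight (R := K) (A := X.left.residueField x)
      (B := X.left.residueField x)).toRingHom
  have hc : (Spec.map (CommRingCat.ofHom i₁) ≫ X.left.fromSpecResidueField x) ≫ X.hom =
      (Spec.map (CommRingCat.ofHom i₂) ≫ X.left.fromSpecResidueField x) ≫ X.hom := by
    rw [Category.assoc, Category.assoc, ← hφ, ← Spec.map_comp, ← Spec.map_comp]
    congr 1
    ext r
    exact Algebra.TensorProduct.tmul_one_eq_one_tmul (R := K) (A := X.left.residueField x)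
      (B := X.left.residueField x) r
  have h0 := frob_pt_unique a hps p n (hn C) _ _ hc
  rw [← Category.assoc, ← Category.assoc, cancel_mono, ← Spec.map_comp, ← Spec.map_comp] at h0
  have h1 := Spec.map_injective h0
  -- all `p ^ n`-th powers lie in `K`
  have hmem : ∀ c : X.left.residueField x,
      iterateFrobenius (X.left.residueField x) p n c ∈ (algebraMap K (X.left.residueField x)).range := by
    intro c
    have h2 : (i₁ c) ^ p ^ n = (i₂ c) ^ p ^ n := congrArg (fun f => f.hom c) h1
    have h3 : (c ^ p ^ n) ⊗ₜ[K] (1 : X.left.residueField x) = 1 ⊗ₜ[K] (c ^ p ^ n) := by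
      have e1 : (i₁ c) ^ p ^ n = (c ^ p ^ n) ⊗ₜ[K] (1 : X.left.residueField x) := by
        show (c ⊗ₜ[K] (1 : X.left.residueField x)) ^ p ^ n = _
        rw [Algebra.TensorProduct.tmul_pow, one_pow]
      have e2 : (i₂ c) ^ p ^ n = (1 : X.left.residueField x) ⊗ₜ[K] (c ^ p ^ n) := by
        show ((1 : X.left.residueField x) ⊗ₜ[K] c) ^ p ^ n = _
        rw [Algebra.TensorProduct.tmul_pow, one_pow]
      rw [← e1, ← e2, h2]
    have heff := Algebra.IsEffective.eqLocus_includeLeft_includeRight
      (Algebra.IsEffective.of_faithfullyFlat K (X.left.residueField x))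
    have : c ^ p ^ n ∈ (Set.range (algebraMap K (X.left.residueField x))) := by
      rw [← heff]
      exact h3
    exact this
  -- the resulting ring homomorphism to `K`
  let ρ₀ : X.left.residueField x →+* (algebraMap K (X.left.residueField x)).range :=
    (iterateFrobenius (X.left.residueField x) p n).codRestrict _ hmem
  let eq : K ≃+* (algebraMap K (X.left.residueField x)).range :=
    RingEquiv.ofBijective (algebraMap K (X.left.residueField x)).rangeRestrict
      ⟨fun r₁ r₂ hr => (algebraMap K (X.left.residueField x)).injective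
          (congrArg Subtype.val hr),
       (algebraMap K (X.left.residueField x)).rangeRestrict_surjective⟩
  let ρ : X.left.residueField x →+* K := (eq.symm : _ →+* K).comp ρ₀
  have hρ : ∀ c, algebraMap K (X.left.residueField x) (ρ c) = c ^ p ^ n := by
    intro c
    have : eq (ρ c) = ρ₀ c := eq.apply_symm_apply _
    exact congrArg Subtype.val this
  refine ⟨Spec.map (CommRingCat.ofHom ρ) ≫ X.left.fromSpecResidueField x, ?_⟩
  rw [Category.assoc, ← hφ, ← Spec.map_comp]
  congr 1
  ext r
  apply (algebraMap K (X.left.residueField x)).injective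
  show algebraMap K (X.left.residueField x) (ρ (φ.hom r)) = _
  rw [hρ]
  show (algebraMap K (X.left.residueField x) r) ^ p ^ n =
    algebraMap K (X.left.residueField x) (iterateFrobenius K p n r)
  rw [iterateFrobenius_def, map_pow]

end

end Groth.Agent.Helper8.FinConn
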