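import Mathlib
import Groth.Agent.Helper8.FinConn

/-!
# Torsors under infinitesimal groups and separable extensions
-/

set_option autoImplicit false

namespace Groth.Agent.Helper8.FinConn

open CategoryTheory CategoryTheory.Limits MonoidalCategory CartesianMonoidalCategory MonObj
  AlgebraicGeometry

universe u

/-- a pseudo-torsor under an infinitesimal group over `k` with a point over an extension `L` such
that `L ⊗_k L` is reduced has a `k`-point -/
theorem hasSection_of_reduced_tensor (k : Type u) [Field k] (L : Type u) [Field L] [Algebra k L]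
    [IsReduced (TensorProduct k L L)]
    (I E : Over (Spec (CommRingCat.of k))) [GrpObj I] [IsFinite I.hom] [Subsingleton ↥(I.left)]
    (a : AlgGrp.Action I E) (hps : IsIso (lift a.act (snd I E)))
    (hL : NonAbH1.HasSectionOver E (Spec.map (CommRingCat.ofHom (algebraMap k L)))) :
    NonAbH1.HasSectionOver E (𝟙 (Spec (CommRingCat.of k))) := by
  obtain ⟨p, hp⟩ := hL
  haveI : Nonempty I.left := ⟨(η[I]).left (default : Spec (CommRingCat.of k))⟩
  haveI : ConnectedSpace I.left := { toPreconnectedSpace := inferInstance, toNonempty := ‹_› }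
  set τ : Spec (CommRingCat.of L) ⟶ Spec (CommRingCat.of k) :=
    Spec.map (CommRingCat.ofHom (algebraMap k L)) with hτ
  haveI : IsReduced (pullback τ τ) := by
    haveI : IsReduced (Spec (CommRingCat.of (TensorProduct k L L))) := inferInstance
    exact isReduced_of_isOpenImmersion (pullbackSpecIso k L L).hom
  have h0 := pt_unique a hps (pullback.fst τ τ ≫ p) (pullback.snd τ τ ≫ p)
    (by rw [Category.assoc, Category.assoc, hp, pullback.condition])
  haveI : Surjective τ := ⟨fun y => ⟨default, Subsingleton.elim _ _⟩⟩
  haveI : Flat τ := inferInstance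
  haveI : IsRegularEpi τ := isRegularEpi_of_flat_of_surjective_of_isAffine τ
  obtain ⟨v, hv⟩ := IsRegularEpi.exists_of_isKernelPair τ (IsPullback.of_hasPullback τ τ) p h0
  refine ⟨v, ?_⟩
  haveI : Epi τ := Flat.epi_of_flat_of_surjective τ
  rw [← cancel_epi τ, ← Category.assoc, hv, hp, Category.comp_id]

end Groth.Agent.Helper8.FinConn
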