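import Mathlib

set_option autoImplicit false

namespace Groth.Agent.Helper8.FinFreeSub

open CategoryTheory Limits

universe u w

variable {R : Type u} [CommRing R] (F : CochainComplex (ModuleCat.{u} R) ℤ)

section Sub

variable (Gs : ∀ n : ℤ, Submodule R (F.X n))
  (hG : ∀ i j : ℤ, ∀ x ∈ Gs i, (F.d i j).hom x ∈ Gs j)

/-- The subcomplex attached to a stable family of submodules. -/
noncomputable def subCx : CochainComplex (ModuleCat.{u} R) ℤ where
  X n := ModuleCat.of R (Gs n)
  d i j := ModuleCat.ofHom ((F.d i j).hom.restrict (hG i j))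
  shape i j h := by
    ext x
    show (F.d i j).hom x.1 = 0
    rw [F.shape i j h]
    rfl
  d_comp_d' i j k _ _ := by
    ext x
    show (F.d j k).hom ((F.d i j).hom x.1) = 0
    have h2 : (F.d i j ≫ F.d j k).hom x.1 = 0 := by
      rw [F.d_comp_d]
      rfl
    exact h2

/-- The inclusion of the subcomplex. -/
noncomputable def subι : subCx F Gs hG ⟶ F where
  f n := ModuleCat.ofHom (Gs n).subtype
  comm' i j _ := by
    ext x
    rfl

end Sub

variable {I : ℤ → Type w} (β : ∀ n, Module.Basis (I n) R (F.X n))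
  {N : ℕ} (deg : Fin N → ℤ) (f : ∀ i : Fin N, F.X (deg i))

/-- The support of an element in the basis. -/
noncomputable def supp (n : ℤ) (x : F.X n) : Finset (I n) := ((β n).repr x).support

lemma mem_span_supp (n : ℤ) (x : F.X n) :
    x ∈ Submodule.span R ((β n) '' (supp F β n x : Set (I n))) :=
  Module.Basis.mem_span_repr_support _ _

/-- Basis vectors reachable from the given elements. -/
inductive Reach : (n : ℤ) → I n → Prop
  | base (i : Fin N) (e : I (deg i)) (he : e ∈ supp F β (deg i) (f i)) : Reach (deg i) e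
  | step (m n : ℤ) (e : I m) (e' : I n) (hmn : m + 1 = n) (hr : Reach m e)
      (he' : e' ∈ supp F β n ((F.d m n).hom (β m e))) : Reach n e'

/-- The family of submodules. -/
noncomputable def Gs (n : ℤ) : Submodule R (F.X n) :=
  Submodule.span R (Set.range (fun e : {e : I n // Reach F β deg f n e} => β n e.1))

lemma basis_mem_Gs (n : ℤ) (e : I n) (he : Reach F β deg f n e) : β n e ∈ Gs F β deg f n :=
  Submodule.subset_span ⟨⟨e, he⟩, rfl⟩

lemma span_le_Gs (n : ℤ) (s : Set (I n)) (hs : ∀ e ∈ s, Reach F β deg f n e) :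
    Submodule.span R ((β n) '' s) ≤ Gs F β deg f n := by
  rw [Submodule.span_le]
  rintro _ ⟨e, he, rfl⟩
  exact basis_mem_Gs F β deg f n e (hs e he)

lemma Gs_stable (i j : ℤ) : ∀ x ∈ Gs F β deg f i, (F.d i j).hom x ∈ Gs F β deg f j := by
  by_cases hij : i + 1 = j
  · have : Gs F β deg f i ≤ (Gs F β deg f j).comap (F.d i j).hom := by
      rw [Gs, Submodule.span_le]
      rintro _ ⟨⟨e, he⟩, rfl⟩
      show (F.d i j).hom (β i e) ∈ Gs F β deg f j
      exact span_le_Gs F β deg f j _ (fun e' he' => Reach.step i j e e' hij he he')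
        (mem_span_supp F β j _)
    exact fun x hx => this hx
  · intro x _
    have : F.d i j = 0 := F.shape i j hij
    rw [this]
    exact Submodule.zero_mem _

lemma f_mem_Gs (i : Fin N) : f i ∈ Gs F β deg f (deg i) :=
  span_le_Gs F β deg f (deg i) _ (fun e he => Reach.base i e he) (mem_span_supp F β _ _)

lemma le_of_reach (a : ℤ) (ha : ∀ i, a ≤ deg i) (n : ℤ) (e : I n) (h : Reach F β deg f n e) :
    a ≤ n := by
  induction h with
  | base i e he => exact ha i
  | step m n e e' hmn hr he' ih => omega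

/-- The reachable set at level `n` inside the sigma type. -/
def Rset (n : ℤ) : Set (Σ n, I n) := {x | x.1 = n ∧ Reach F β deg f x.1 x.2}

lemma Rset_finite (a : ℤ) (ha : ∀ i, a ≤ deg i) (n : ℤ) : (Rset F β deg f n).Finite := by
  by_cases hn : a - 1 ≤ n
  · induction n, hn using Int.le_induction with
    | base =>
      convert Set.finite_empty
      ext x
      simp only [Rset, Set.mem_setOf_eq, Set.mem_empty_iff_false, iff_false, not_and]
      intro hx hr
      have := le_of_reach F β deg f a ha _ _ hr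
      omega
    | succ n hn ih =>
      have hsub : Rset F β deg f (n + 1) ⊆
          (⋃ i : Fin N, (fun e => (⟨deg i, e⟩ : Σ n, I n)) '' (supp F β (deg i) (f i) : Set _)) ∪
          (⋃ x ∈ Rset F β deg f n, (fun e' => (⟨n + 1, e'⟩ : Σ n, I n)) ''
            (supp F β (n + 1) ((F.d x.1 (n + 1)).hom (β x.1 x.2)) : Set _)) := by
        rintro ⟨n', e'⟩ ⟨hx1, hx2⟩
        dsimp only at hx1 hx2
        cases hx2 with
        | base i e he =>
          left
          exact Set.mem_iUnion.2 ⟨i, ⟨_, he, rfl⟩⟩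
        | step m _ e _ hmn hr he' =>
          right
          subst hx1
          have hm : m = n := by omega
          subst hm
          refine Set.mem_biUnion (x := ⟨m, e⟩) ⟨rfl, hr⟩ ?_
          exact ⟨e', he', rfl⟩
      refine Set.Finite.subset (Set.Finite.union ?_ ?_) hsub
      · exact Set.finite_iUnion fun i => (Finset.finite_toSet _).image _
      · exact Set.Finite.biUnion ih fun x _ => (Finset.finite_toSet _).image _
  · convert Set.finite_empty
    ext x
    simp only [Rset, Set.mem_setOf_eq, Set.mem_empty_iff_false, iff_false, not_and]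
    intro hx hr
    have := le_of_reach F β deg f a ha _ _ hr
    omega

lemma reach_finite (a : ℤ) (ha : ∀ i, a ≤ deg i) (n : ℤ) :
    {e : I n | Reach F β deg f n e}.Finite := by
  have h : {e : I n | Reach F β deg f n e} = (Sigma.mk n) ⁻¹' (Rset F β deg f n) := by
    ext e
    simp [Rset]
  rw [h]
  exact (Rset_finite F β deg f a ha n).preimage (sigma_mk_injective.injOn)

lemma Gs_finite (a : ℤ) (ha : ∀ i, a ≤ deg i) (n : ℤ) : Module.Finite R (Gs F β deg f n) := by
  haveI : Finite {e : I n // Reach F β deg f n e} := (reach_finite F β deg f a ha n).to_subtype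
  exact Module.Finite.span_of_finite R (Set.finite_range _)

lemma Gs_free (n : ℤ) : Module.Free R (Gs F β deg f n) := by
  have hli : LinearIndependent R (fun e : {e : I n // Reach F β deg f n e} => β n e.1) :=
    (β n).linearIndependent.comp _ Subtype.val_injective
  exact Module.Free.of_basis (Module.Basis.span hli)

lemma Gs_subsingleton_of_lt (a : ℤ) (ha : ∀ i, a ≤ deg i) (n : ℤ) (hn : n < a) :
    Subsingleton (Gs F β deg f n) := by
  haveI : IsEmpty {e : I n // Reach F β deg f n e} :=
    ⟨fun e => by have := le_of_reach F β deg f a ha n e.1 e.2; omega⟩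
  have : Gs F β deg f n = ⊥ := by
    rw [Gs, Set.range_eq_empty, Submodule.span_empty]
  rw [this]
  infer_instance

theorem main (R : Type u) [CommRing R]
    (F : CochainComplex (ModuleCat.{u} R) ℤ) (hfree : ∀ n : ℤ, Module.Free R (F.X n))
    (b : ℤ) (hb : ∀ n : ℤ, b < n → IsZero (F.X n))
    (N : ℕ) (deg : Fin N → ℤ) (f : ∀ i : Fin N, F.X (deg i)) :
    ∃ (G : CochainComplex (ModuleCat.{u} R) ℤ) (ι : G ⟶ F),
      (∀ n : ℤ, Function.Injective (ι.f n)) ∧
      (∃ a c : ℤ, ∀ n : ℤ, (n < a ∨ c < n) → IsZero (G.X n)) ∧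
      (∀ n : ℤ, Module.Finite R (G.X n) ∧ Module.Free R (G.X n)) ∧
      ∀ i : Fin N, f i ∈ Set.range (ι.f (deg i)) := by
  let β : ∀ n, Module.Basis (Module.Free.ChooseBasisIndex R (F.X n)) R (F.X n) := fun n =>
    haveI := hfree n
    Module.Free.chooseBasis R (F.X n)
  obtain ⟨a, ha⟩ : ∃ a : ℤ, ∀ i, a ≤ deg i := by
    obtain ⟨a, ha⟩ := (Set.finite_range deg).bddBelow
    exact ⟨a, fun i => ha ⟨i, rfl⟩⟩
  refine ⟨subCx F (Gs F β deg f) (Gs_stable F β deg f),
    subι F (Gs F β deg f) (Gs_stable F β deg f), ?_, ⟨a, b, ?_⟩, ?_, ?_⟩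
  · intro n x y hxy
    exact Subtype.ext hxy
  · rintro n (hn | hn)
    · haveI := Gs_subsingleton_of_lt F β deg f a ha n hn
      exact ModuleCat.isZero_of_subsingleton (ModuleCat.of R (Gs F β deg f n))
    · haveI : Subsingleton (F.X n) := ModuleCat.subsingleton_of_isZero (hb n hn)
      haveI : Subsingleton (Gs F β deg f n) := ⟨fun x y => Subtype.ext (Subsingleton.elim _ _)⟩
      exact ModuleCat.isZero_of_subsingleton (ModuleCat.of R (Gs F β deg f n))
  · intro n
    exact ⟨Gs_finite F β deg f a ha n, Gs_free F β deg f n⟩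
  · intro i
    exact ⟨⟨f i, f_mem_Gs F β deg f i⟩, rfl⟩

end Groth.Agent.Helper8.FinFreeSub
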