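import Mathlib
import Groth.Prelude.Def_SGA1
import Groth.Agent.Helper6.QuotSpec
import Groth.Agent.Helper9.FinQuot
import Groth.Agent.Helper9.QuotAff
import Groth.Agent.Helper8.GrpdGlueB

/-!
# Quotients by finite groups: local quotients on stable affine opens

For a finite group `G` acting on a scheme `X` through `ρ : G →* Aut X`, and a `G`-stable open `W`,
`M ρ W hW = Spec Γ(W)^G` and `qW : W ⟶ M`; for stable opens `W₁ ≤ W₂` the transition maps
`Fmap : M W₁ ⟶ M W₂`, which are open immersions when the `Wᵢ` are affine.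
-/

set_option autoImplicit false
universe u

namespace Groth.Agent.Helper8.FinGrpQuot

open CategoryTheory CategoryTheory.Limits AlgebraicGeometry
open Groth.Agent.Helper9.QuotAff
open Groth.Agent.Helper8.GrpdGlue (isOpenImmersion_of_local isLocalization_homOfLE)

section Alg

/-- invariants of a finite group commute with localisation at an invariant element -/
theorem isLocalization_invariants {A A' : Type u} [CommRing A] [CommRing A'] {G : Type u}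
    [Finite G] (σ : G → A →+* A) (σ' : G → A' →+* A') (α : A →+* A')
    (hσ : ∀ g a, α (σ g a) = σ' g (α a))
    (C : Subring A) (C' : Subring A') (hC : ∀ a, a ∈ C ↔ ∀ g, σ g a = a)
    (hC' : ∀ a, a ∈ C' ↔ ∀ g, σ' g a = a) (c : A) (hc : c ∈ C)
    (hα : @IsLocalization.Away A _ c A' _ α.toAlgebra)
    (γ : C →+* C') (hγ : ∀ x : C, (γ x : A') = α x) :
    @IsLocalization.Away C _ ⟨c, hc⟩ C' _ γ.toAlgebra := by
  classical
  letI := α.toAlgebra
  letI := γ.toAlgebra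
  haveI := hα
  haveI : Fintype G := Fintype.ofFinite G
  have hcg : ∀ g, σ g c = c := (hC c).mp hc
  refine IsLocalization.Away.mk (⟨c, hc⟩ : C) ?_ ?_ ?_
  · obtain ⟨u, hu⟩ := (IsLocalization.Away.algebraMap_isUnit (S := A') c).exists_right_inv
    have hu' : α c * u = 1 := hu
    have hum : u ∈ C' := by
      rw [hC']
      intro g
      have h1 : α c * σ' g u = 1 := by
        have : σ' g (α c) * σ' g u = 1 := by rw [← map_mul, hu', map_one]
        rwa [← hσ, hcg] at this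
      calc σ' g u = σ' g u * (α c * u) := by rw [hu', mul_one]
        _ = (α c * σ' g u) * u := by ring
        _ = u := by rw [h1, one_mul]
    refine IsUnit.of_mul_eq_one (⟨u, hum⟩ : C') ?_
    apply Subtype.ext
    show (γ ⟨c, hc⟩ : A') * u = 1
    rw [hγ]
    exact hu'
  · intro z
    obtain ⟨n, a, hna⟩ := IsLocalization.Away.surj c (z : A')
    have hna' : (z : A') * α c ^ n = α a := hna
    have hz : ∀ g, σ' g (z : A') = (z : A') := (hC' _).mp z.2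
    have h1 : ∀ g, α (σ g a) = α a := by
      intro g
      rw [hσ, ← hna', map_mul, map_pow, hz, ← hσ, hcg]
    have h2 : ∀ g, ∃ m : ℕ, c ^ m * σ g a = c ^ m * a := fun g =>
      IsLocalization.Away.exists_of_eq (S := A') c (h1 g)
    choose mg hmg using h2
    let m : ℕ := Finset.univ.sup mg
    have hm : ∀ g, c ^ m * σ g a = c ^ m * a := by
      intro g
      have hle : mg g ≤ m := Finset.le_sup (Finset.mem_univ g)
      obtain ⟨k, hk⟩ := Nat.exists_eq_add_of_le hle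
      rw [hk, pow_add, mul_comm (c ^ mg g), mul_assoc, mul_assoc, hmg g]
    have hmem : c ^ m * a ∈ C := by
      rw [hC]
      intro g
      rw [map_mul, map_pow, hcg, hm g]
    refine ⟨n + m, ⟨c ^ m * a, hmem⟩, ?_⟩
    apply Subtype.ext
    show (z : A') * (γ ⟨c, hc⟩ : A') ^ (n + m) = (γ ⟨c ^ m * a, hmem⟩ : A')
    rw [hγ, hγ]
    show (z : A') * α c ^ (n + m) = α (c ^ m * a)
    rw [map_mul, map_pow, pow_add, ← mul_assoc, hna']
    ring
  · intro x y hxy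
    have hxy' : α x = α y := by
      have := congrArg Subtype.val hxy
      rw [← hγ, ← hγ]
      exact this
    obtain ⟨n, hn⟩ := IsLocalization.Away.exists_of_eq (S := A') c hxy'
    exact ⟨n, Subtype.ext hn⟩

end Alg

variable {X : Scheme.{u}} {G : Type u} [Group G] (ρ : G →* Aut X)

/-- stable opens -/
def IsStable (W : X.Opens) : Prop := ∀ g : G, W ≤ (ρ g).hom ⁻¹ᵁ W

variable {ρ}

theorem IsStable.apply_mem {W : X.Opens} (hW : IsStable ρ W) (g : G) {x : X} (hx : x ∈ W) :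
    (ρ g).hom x ∈ W := hW g hx

theorem hom_inv_apply (g : G) (x : X) : (ρ g⁻¹).hom ((ρ g).hom x) = x := by
  rw [← Scheme.Hom.comp_apply, hom_inv_hom]
  rfl

theorem inv_hom_apply (g : G) (x : X) : (ρ g).hom ((ρ g⁻¹).hom x) = x := by
  rw [← Scheme.Hom.comp_apply, inv_hom_hom]
  rfl

theorem hom_mul_apply (g h : G) (x : X) : (ρ (g * h)).hom x = (ρ g).hom ((ρ h).hom x) := by
  rw [hom_mul, Scheme.Hom.comp_apply]

theorem IsStable.mem_iff {W : X.Opens} (hW : IsStable ρ W) (g : G) (x : X) :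
    (ρ g).hom x ∈ W ↔ x ∈ W := by
  constructor
  · intro h
    have := hW.apply_mem g⁻¹ h
    rwa [hom_inv_apply] at this
  · exact fun h => hW.apply_mem g h

theorem IsStable.inf {W W' : X.Opens} (h : IsStable ρ W) (h' : IsStable ρ W') :
    IsStable ρ (W ⊓ W') := fun g _ hx => ⟨h g hx.1, h' g hx.2⟩

theorem isStable_top : IsStable ρ (⊤ : X.Opens) := fun _ _ _ => trivial

theorem isStable_preimage {Y : Scheme.{u}} (p : X ⟶ Y) (hinv : ∀ g : G, (ρ g).hom ≫ p = p)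
    (V : Y.Opens) : IsStable ρ (p ⁻¹ᵁ V) := fun g => SGA1.preimage_le_of_inv ρ p hinv g V

variable (ρ)

/-- the action on the functions of a stable open -/
noncomputable def act {W : X.Opens} (hW : IsStable ρ W) (g : G) :
    Γ(W.toScheme, ⊤) →+* Γ(W.toScheme, ⊤) :=
  (restrictAct ρ W hW g).hom.appTop.hom

/-- the invariant functions on a stable open -/
noncomputable def inv (W : X.Opens) (hW : IsStable ρ W) : Subring Γ(W.toScheme, ⊤) where
  carrier := {a | ∀ g : G, act ρ hW g a = a}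
  mul_mem' ha hb g := by rw [map_mul, ha g, hb g]
  one_mem' g := map_one _
  add_mem' ha hb g := by rw [map_add, ha g, hb g]
  zero_mem' g := map_zero _
  neg_mem' ha g := by rw [map_neg, ha g]

theorem mem_inv_iff {W : X.Opens} (hW : IsStable ρ W) (a : Γ(W.toScheme, ⊤)) :
    a ∈ inv ρ W hW ↔ ∀ g : G, act ρ hW g a = a := Iff.rfl

/-- the local quotient -/
noncomputable abbrev M (W : X.Opens) (hW : IsStable ρ W) : Scheme.{u} :=
  Spec (CommRingCat.of (inv ρ W hW))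

/-- the inclusion of the invariants -/
noncomputable def incl (W : X.Opens) (hW : IsStable ρ W) :
    CommRingCat.of (inv ρ W hW) ⟶ Γ(W.toScheme, ⊤) :=
  CommRingCat.ofHom (inv ρ W hW).subtype

/-- the local quotient map -/
noncomputable def qW (W : X.Opens) (hW : IsStable ρ W) : W.toScheme ⟶ M ρ W hW :=
  W.toScheme.toSpecΓ ≫ Spec.map (incl ρ W hW)

variable {W : X.Opens} (hW : IsStable ρ W)

theorem act_qW (g : G) : (restrictAct ρ W hW g).hom ≫ qW ρ W hW = qW ρ W hW := by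
  have e : incl ρ W hW ≫ (restrictAct ρ W hW g).hom.appTop = incl ρ W hW := by
    ext a
    exact a.2 g
  unfold qW
  rw [← Category.assoc, Scheme.toSpecΓ_naturality, Category.assoc, ← Spec.map_comp, e]

theorem qW_appTop : (qW ρ W hW).appTop = (Scheme.ΓSpecIso _).hom ≫ incl ρ W hW := by
  unfold qW
  rw [Scheme.Hom.comp_appTop, Scheme.toSpecΓ_appTop, Scheme.ΓSpecIso_naturality]

theorem qW_appTop_injective : Function.Injective (qW ρ W hW).appTop.hom := by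
  rw [qW_appTop]
  exact (Subtype.val_injective).comp
    (ConcreteCategory.bijective_of_isIso (Scheme.ΓSpecIso _).hom).1

theorem isQuot_qW [Finite G] (hA : IsAffineOpen W) :
    SGA1.IsQuot (restrictAct ρ W hW) (qW ρ W hW) := by
  haveI : IsAffine W.toScheme := hA
  refine Groth.Agent.Helper6.QuotSpec.isQuot_of_affine _ _ (act_qW ρ hW) ?_ ?_
  · exact qW_appTop_injective ρ hW
  · intro s hs
    have hmem : s ∈ inv ρ W hW := by
      intro g
      have h1 := hs g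
      unfold Groth.Agent.Helper6.QuotAct.pb at h1
      rw [Groth.Agent.Helper6.QuotSpec.appLE_top'] at h1
      exact h1
    refine ⟨(Scheme.ΓSpecIso _).inv.hom ⟨s, hmem⟩, ?_⟩
    show (qW ρ W hW).appTop.hom _ = s
    rw [qW_appTop]
    show (incl ρ W hW).hom ((Scheme.ΓSpecIso _).hom.hom ((Scheme.ΓSpecIso _).inv.hom ⟨s, hmem⟩)) = s
    have : (Scheme.ΓSpecIso (CommRingCat.of (inv ρ W hW))).hom.hom
        ((Scheme.ΓSpecIso _).inv.hom ⟨s, hmem⟩) = ⟨s, hmem⟩ := by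
      rw [← CommRingCat.comp_apply, Iso.inv_hom_id]
      rfl
    rw [this]
    rfl

theorem qW_surjective [Finite G] (hA : IsAffineOpen W) : Function.Surjective (qW ρ W hW) :=
  Groth.Agent.Helper9.FinQuot.surjective (isQuot_qW ρ hW hA)

theorem restrictAct_apply (g : G) (x : W.toScheme) :
    ((restrictAct ρ W hW g).hom x).1 = (ρ g).hom x.1 := by
  have := congrArg (fun f : W.toScheme ⟶ X => f x) (restrictAct_ι ρ W hW g)
  simp only [Scheme.Hom.comp_apply] at this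
  exact this

theorem qW_eq_iff [Finite G] (hA : IsAffineOpen W) (x y : W.toScheme) :
    qW ρ W hW x = qW ρ W hW y ↔ ∃ g : G, (ρ g).hom x.1 = y.1 := by
  constructor
  · intro h
    obtain ⟨g, hg⟩ := Groth.Agent.Helper9.FinQuot.orbit (isQuot_qW ρ hW hA) x y h
    refine ⟨g, ?_⟩
    rw [← restrictAct_apply ρ hW g x]
    exact congrArg Subtype.val hg
  · rintro ⟨g, hg⟩
    have h1 : (restrictAct ρ W hW g).hom x = y := Subtype.ext ((restrictAct_apply ρ hW g x).trans hg)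
    rw [← h1, ← Scheme.Hom.comp_apply, act_qW]

theorem isIntegralHom_qW [Finite G] (hA : IsAffineOpen W) : IsIntegralHom (qW ρ W hW) :=
  Groth.Agent.Helper9.FinQuot.isIntegralHom (isQuot_qW ρ hW hA)

section Res

variable {W₁ W₂ W₃ : X.Opens} (h₁ : IsStable ρ W₁) (h₂ : IsStable ρ W₂) (h₃ : IsStable ρ W₃)

theorem act_homOfLE (h : W₁ ≤ W₂) (g : G) :
    (restrictAct ρ W₁ h₁ g).hom ≫ X.homOfLE h = X.homOfLE h ≫ (restrictAct ρ W₂ h₂ g).hom := by
  rw [← cancel_mono W₂.ι, Category.assoc, Category.assoc, Scheme.homOfLE_ι, restrictAct_ι,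
    restrictAct_ι, Scheme.homOfLE_ι_assoc]

theorem res_mem (h : W₁ ≤ W₂) (a : Γ(W₂.toScheme, ⊤)) (ha : a ∈ inv ρ W₂ h₂) :
    (X.homOfLE h).appTop.hom a ∈ inv ρ W₁ h₁ := by
  intro g
  have h1 := congrArg (fun f => (Scheme.Hom.appTop f).hom a) (act_homOfLE ρ h₁ h₂ h g)
  simp only [Scheme.Hom.comp_appTop, CommRingCat.hom_comp, RingHom.comp_apply] at h1
  show (restrictAct ρ W₁ h₁ g).hom.appTop.hom ((X.homOfLE h).appTop.hom a) = _
  rw [h1]
  congr 1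
  exact ha g

/-- restriction of invariant functions -/
noncomputable def resInv (h : W₁ ≤ W₂) : inv ρ W₂ h₂ →+* inv ρ W₁ h₁ :=
  ((X.homOfLE h).appTop.hom.comp (inv ρ W₂ h₂).subtype).codRestrict (inv ρ W₁ h₁)
    (fun a => res_mem ρ h₁ h₂ h a.1 a.2)

theorem resInv_coe (h : W₁ ≤ W₂) (a : inv ρ W₂ h₂) :
    (resInv ρ h₁ h₂ h a).1 = (X.homOfLE h).appTop.hom a.1 := rfl

/-- the transition maps of the local quotients -/
noncomputable def Fmap (h : W₁ ≤ W₂) : M ρ W₁ h₁ ⟶ M ρ W₂ h₂ :=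
  Spec.map (CommRingCat.ofHom (resInv ρ h₁ h₂ h))

theorem incl_res (h : W₁ ≤ W₂) :
    incl ρ W₂ h₂ ≫ (X.homOfLE h).appTop = CommRingCat.ofHom (resInv ρ h₁ h₂ h) ≫ incl ρ W₁ h₁ := by
  ext a
  rfl

theorem qW_natural (h : W₁ ≤ W₂) :
    X.homOfLE h ≫ qW ρ W₂ h₂ = qW ρ W₁ h₁ ≫ Fmap ρ h₁ h₂ h := by
  unfold qW Fmap
  rw [← Category.assoc, Scheme.toSpecΓ_naturality, Category.assoc, Category.assoc,
    ← Spec.map_comp, ← Spec.map_comp, incl_res]

theorem Fmap_qW_apply (h : W₁ ≤ W₂) (x : W₁.toScheme) :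
    Fmap ρ h₁ h₂ h (qW ρ W₁ h₁ x) = qW ρ W₂ h₂ (X.homOfLE h x) := by
  rw [← Scheme.Hom.comp_apply, ← Scheme.Hom.comp_apply, qW_natural]

theorem resInv_id : resInv ρ h₁ h₁ (le_refl W₁) = RingHom.id _ := by
  ext a
  show (resInv ρ h₁ h₁ (le_refl W₁) a).1 = a.1
  rw [resInv_coe]
  have : X.homOfLE (le_refl W₁) = 𝟙 _ := Scheme.homOfLE_rfl _ _
  rw [this]
  rfl

theorem resInv_comp (h₁₂ : W₁ ≤ W₂) (h₂₃ : W₂ ≤ W₃) :
    (resInv ρ h₁ h₂ h₁₂).comp (resInv ρ h₂ h₃ h₂₃) = resInv ρ h₁ h₃ (h₁₂.trans h₂₃) := by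
  ext a
  show (resInv ρ h₁ h₂ h₁₂ (resInv ρ h₂ h₃ h₂₃ a)).1 = (resInv ρ h₁ h₃ (h₁₂.trans h₂₃) a).1
  rw [resInv_coe, resInv_coe, resInv_coe,
    ← Scheme.homOfLE_homOfLE X h₁₂ h₂₃, Scheme.Hom.comp_appTop]
  rfl

theorem Fmap_id : Fmap ρ h₁ h₁ (le_refl W₁) = 𝟙 _ := by
  unfold Fmap
  rw [resInv_id]
  exact Spec.map_id _

theorem Fmap_comp (h₁₂ : W₁ ≤ W₂) (h₂₃ : W₂ ≤ W₃) :
    Fmap ρ h₁ h₂ h₁₂ ≫ Fmap ρ h₂ h₃ h₂₃ = Fmap ρ h₁ h₃ (h₁₂.trans h₂₃) := by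
  unfold Fmap
  rw [← Spec.map_comp, ← CommRingCat.ofHom_comp, resInv_comp]

end Res

section Basic

/-- the basic open of `W` defined by a function on `W`, as an open of `X` -/
noncomputable def Db (W : X.Opens) (c : Γ(W.toScheme, ⊤)) : X.Opens :=
  W.ι ''ᵁ (W.toScheme.basicOpen c)

theorem Db_le (c : Γ(W.toScheme, ⊤)) : Db W c ≤ W := Scheme.Opens.ι_image_le _ _

theorem mem_Db {c : Γ(W.toScheme, ⊤)} {x : X} :
    x ∈ Db W c ↔ ∃ hx : x ∈ W, (⟨x, hx⟩ : W.toScheme) ∈ W.toScheme.basicOpen c := by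
  constructor
  · rintro ⟨y, hy, rfl⟩
    exact ⟨y.2, hy⟩
  · rintro ⟨hx, h⟩
    exact ⟨⟨x, hx⟩, h, rfl⟩

theorem isAffineOpen_Db (hA : IsAffineOpen W) (c : Γ(W.toScheme, ⊤)) : IsAffineOpen (Db W c) := by
  haveI : IsAffine W.toScheme := hA
  exact ((isAffineOpen_top W.toScheme).basicOpen c).image_of_isOpenImmersion W.ι

theorem isStable_Db (c : Γ(W.toScheme, ⊤)) (hc : c ∈ inv ρ W hW) : IsStable ρ (Db W c) := by
  intro g x hx
  obtain ⟨hxW, hxb⟩ := mem_Db.mp hx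
  show (ρ g).hom x ∈ Db W c
  have hgW : (ρ g).hom x ∈ W := hW.apply_mem g hxW
  refine mem_Db.mpr ⟨hgW, ?_⟩
  have e : (restrictAct ρ W hW g).hom ⁻¹ᵁ (W.toScheme.basicOpen c) = W.toScheme.basicOpen c := by
    rw [Scheme.preimage_basicOpen_top]
    congr 1
    exact hc g
  have h1 : (⟨x, hxW⟩ : W.toScheme) ∈ (restrictAct ρ W hW g).hom ⁻¹ᵁ (W.toScheme.basicOpen c) := by
    rw [e]
    exact hxb
  have h2 : (restrictAct ρ W hW g).hom ⟨x, hxW⟩ = ⟨(ρ g).hom x, hgW⟩ :=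
    Subtype.ext (restrictAct_apply ρ hW g ⟨x, hxW⟩)
  rw [← h2]
  exact h1

theorem Db_res {W₁ W₂ : X.Opens} (h : W₁ ≤ W₂) (c : Γ(W₂.toScheme, ⊤)) :
    Db W₁ ((X.homOfLE h).appTop c) = W₁ ⊓ Db W₂ c := by
  ext y
  show y ∈ Db W₁ ((X.homOfLE h).appTop c) ↔ y ∈ W₁ ∧ y ∈ Db W₂ c
  rw [mem_Db]
  constructor
  · rintro ⟨hy₁, hyb⟩
    rw [← Scheme.preimage_basicOpen_top] at hyb
    have h1 : X.homOfLE h ⟨y, hy₁⟩ ∈ W₂.toScheme.basicOpen c := hyb
    rw [Scheme.homOfLE_apply'] at h1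
    exact ⟨hy₁, mem_Db.mpr ⟨_, h1⟩⟩
  · rintro ⟨hy₁, hyD⟩
    obtain ⟨hy₂, hyb⟩ := mem_Db.mp hyD
    refine ⟨hy₁, ?_⟩
    rw [← Scheme.preimage_basicOpen_top]
    show X.homOfLE h ⟨y, hy₁⟩ ∈ W₂.toScheme.basicOpen c
    rw [Scheme.homOfLE_apply']
    exact hyb

end Basic

section OpenImm

variable [Finite G]

theorem isOpenImmersion_Fmap_basic {W D : X.Opens} (h : D ≤ W) (hW : IsStable ρ W)
    (hDs : IsStable ρ D) (hA : IsAffineOpen W) (c : Γ(W.toScheme, ⊤)) (hc : c ∈ inv ρ W hW)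
    (hD : D = Db W c) : IsOpenImmersion (Fmap ρ hDs hW h) := by
  have hα := isLocalization_homOfLE h hA c hD
  have key := isLocalization_invariants (act ρ hW) (act ρ hDs) (X.homOfLE h).appTop.hom
    (fun g a => by
      have h1 := congrArg (fun f => (Scheme.Hom.appTop f).hom a) (act_homOfLE ρ hDs hW h g)
      simp only [Scheme.Hom.comp_appTop, CommRingCat.hom_comp, RingHom.comp_apply] at h1
      exact h1.symm)
    (inv ρ W hW) (inv ρ D hDs) (mem_inv_iff ρ hW) (mem_inv_iff ρ hDs) c hc hα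
    (resInv ρ hDs hW h) (fun x => rfl)
  exact @IsOpenImmersion.of_isLocalization _ _ _ _ (resInv ρ hDs hW h).toAlgebra ⟨c, hc⟩ key

theorem qW_preimage_basicOpen (c' : inv ρ W hW) :
    qW ρ W hW ⁻¹ᵁ (PrimeSpectrum.basicOpen c') = W.toScheme.basicOpen c'.1 :=
  Scheme.toSpecΓ_preimage_basicOpen W.toScheme c'.1

theorem exists_basic_le (hA : IsAffineOpen W) (O' : X.Opens)
    (hO' : IsStable ρ O') (x : X) (hxW : x ∈ W) (hxO : x ∈ O') :
    ∃ c : Γ(W.toScheme, ⊤), c ∈ inv ρ W hW ∧ x ∈ Db W c ∧ Db W c ≤ O' := by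
  haveI : IsIntegralHom (qW ρ W hW) := isIntegralHom_qW ρ hW hA
  have hcl : IsClosedMap (qW ρ W hW) := (qW ρ W hW).isClosedMap
  let Z : Set W.toScheme := {y | y.1 ∉ O'}
  have hZ : IsClosed Z := (W.ι ⁻¹ᵁ O').isOpen.isClosed_compl
  have hx₀ : qW ρ W hW ⟨x, hxW⟩ ∉ qW ρ W hW '' Z := by
    rintro ⟨z, hz, hzx⟩
    obtain ⟨g, hg⟩ := (qW_eq_iff ρ hW hA ⟨x, hxW⟩ z).mp hzx.symm
    apply hz
    rw [← hg]
    exact hO'.apply_mem g hxO
  obtain ⟨_, ⟨c', rfl⟩, hxc, hcZ⟩ :=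
    PrimeSpectrum.isTopologicalBasis_basic_opens.exists_subset_of_mem_open
      (show qW ρ W hW ⟨x, hxW⟩ ∈ (qW ρ W hW '' Z)ᶜ from hx₀) (hcl Z hZ).isOpen_compl
  have hpre := qW_preimage_basicOpen ρ hW c'
  refine ⟨c'.1, c'.2, mem_Db.mpr ⟨hxW, ?_⟩, ?_⟩
  · have h1 : (⟨x, hxW⟩ : W.toScheme) ∈ qW ρ W hW ⁻¹ᵁ PrimeSpectrum.basicOpen c' := hxc
    rw [hpre] at h1
    exact h1
  · intro y hy
    obtain ⟨hyW, hyb⟩ := mem_Db.mp hy
    have h1 : (⟨y, hyW⟩ : W.toScheme) ∈ W.toScheme.basicOpen c'.1 := hyb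
    rw [← hpre] at h1
    by_contra hyO
    exact hcZ h1 ⟨⟨y, hyW⟩, hyO, rfl⟩

theorem Fmap_injective {W₁ W₂ : X.Opens} (h : W₁ ≤ W₂) (h₁ : IsStable ρ W₁)
    (hA₁ : IsAffineOpen W₁) (h₂ : IsStable ρ W₂) (hA₂ : IsAffineOpen W₂) :
    Function.Injective (Fmap ρ h₁ h₂ h) := by
  intro m m' hmm
  obtain ⟨x, rfl⟩ := qW_surjective ρ h₁ hA₁ m
  obtain ⟨x', rfl⟩ := qW_surjective ρ h₁ hA₁ m'
  change Fmap ρ h₁ h₂ h (qW ρ W₁ h₁ x) = Fmap ρ h₁ h₂ h (qW ρ W₁ h₁ x') at hmm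
  rw [Fmap_qW_apply, Fmap_qW_apply] at hmm
  obtain ⟨g, hg⟩ := (qW_eq_iff ρ h₂ hA₂ _ _).mp hmm
  rw [Scheme.homOfLE_apply, Scheme.homOfLE_apply] at hg
  exact (qW_eq_iff ρ h₁ hA₁ x x').mpr ⟨g, hg⟩

theorem isOpenImmersion_Fmap {W₁ W₂ : X.Opens} (h : W₁ ≤ W₂) (h₁ : IsStable ρ W₁)
    (hA₁ : IsAffineOpen W₁) (h₂ : IsStable ρ W₂) (hA₂ : IsAffineOpen W₂) :
    IsOpenImmersion (Fmap ρ h₁ h₂ h) := by
  apply isOpenImmersion_of_local _ (Fmap_injective ρ h h₁ hA₁ h₂ hA₂)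
  intro m
  obtain ⟨x, rfl⟩ := qW_surjective ρ h₁ hA₁ m
  obtain ⟨c, hc, hxD, hDle⟩ := exists_basic_le ρ h₂ hA₂ W₁ h₁ x.1 (h x.2) x.2
  have hD' : Db W₂ c = Db W₁ ((X.homOfLE h).appTop c) := by
    rw [Db_res h c]
    exact (inf_eq_right.mpr hDle).symm
  have hDs : IsStable ρ (Db W₂ c) := isStable_Db ρ h₂ c hc
  refine ⟨M ρ (Db W₂ c) hDs, Fmap ρ hDs h₁ hDle, ?_, ?_, ?_⟩
  · exact isOpenImmersion_Fmap_basic ρ hDle h₁ hDs hA₁ _ (res_mem ρ h₁ h₂ h c hc) hD'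
  · rw [Fmap_comp]
    exact isOpenImmersion_Fmap_basic ρ (hDle.trans h) h₂ hDs hA₂ c hc rfl
  · refine ⟨qW ρ (Db W₂ c) hDs ⟨x.1, hxD⟩, ?_⟩
    rw [Fmap_qW_apply]
    show qW ρ W₁ h₁ _ = qW ρ W₁ h₁ x
    congr 1
    exact Subtype.ext (Scheme.homOfLE_apply _ _)

end OpenImm

end Groth.Agent.Helper8.FinGrpQuot
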