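import Mathlib
import Groth.Agent.Helper8.FinGrpQuotA
import Groth.Agent.Helper9.QuotCharts
import Groth.Agent.Helper4.SymOrbA

/-!
# Quotients by finite groups: gluing the local quotients

If every orbit of the finite group `G` acting on `X` is contained in an affine open, the local
quotients `Spec Γ(W)^G` over the stable affine opens `W` glue to a quotient `q : X ⟶ Y`.
-/

set_option autoImplicit false
universe u

namespace Groth.Agent.Helper8.FinGrpQuot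

open CategoryTheory CategoryTheory.Limits AlgebraicGeometry
open Groth.Agent.Helper9.QuotAff

variable {X : Scheme.{u}} {G : Type u} [Group G] (ρ : G →* Aut X)

theorem mem_iInf_fin [Finite G] (V : G → X.Opens) (x : X) : x ∈ ⨅ g, V g ↔ ∀ g, x ∈ V g := by
  rw [← SetLike.mem_coe, TopologicalSpace.Opens.coe_iInf, Set.mem_iInter]
  rfl

theorem iInf_affine_of_le [Finite G] {U₀ : X.Opens} (hU₀ : IsAffineOpen U₀) (V : G → X.Opens)
    (hV : ∀ g, IsAffineOpen (V g)) (hle : ∀ g, V g ≤ U₀) : IsAffineOpen (⨅ g, V g) := by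
  haveI : IsAffine U₀.toScheme := hU₀
  have hV' : ∀ g, IsAffineOpen (U₀.ι ⁻¹ᵁ V g) := fun g =>
    (hV g).preimage_of_isOpenImmersion U₀.ι (by rw [Scheme.Opens.opensRange_ι]; exact hle g)
  have h1 : IsAffineOpen (⨅ g, U₀.ι ⁻¹ᵁ V g) := IsAffineOpen.iInf hV'
  have h2 : IsAffineOpen (U₀.ι ''ᵁ (⨅ g, U₀.ι ⁻¹ᵁ V g)) := h1.image_of_isOpenImmersion U₀.ι
  have e : U₀.ι ''ᵁ (⨅ g, U₀.ι ⁻¹ᵁ V g) = ⨅ g, V g := by
    ext x
    constructor
    · rintro ⟨y, hy, rfl⟩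
      have hy' : ∀ g, y ∈ U₀.ι ⁻¹ᵁ V g := (mem_iInf_fin _ y).mp hy
      exact (mem_iInf_fin V _).mpr (fun g => hy' g)
    · intro hx
      have hx' : ∀ g, x ∈ V g := (mem_iInf_fin V x).mp hx
      refine ⟨⟨x, hle 1 (hx' 1)⟩, ?_, rfl⟩
      exact (mem_iInf_fin _ _).mpr (fun g => hx' g)
  rw [← e]
  exact h2

/-- every orbit is contained in an affine open -/
class OrbAff (ρ : G →* Aut X) : Prop where
  out : ∀ x : X, ∃ U : X.Opens, IsAffineOpen U ∧ ∀ g : G, (ρ g).hom.base x ∈ U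

variable [Finite G] [OrbAff ρ]

theorem exists_stableAffine (O' : X.Opens) (hO' : IsStable ρ O') (x : X) (hx : x ∈ O') :
    ∃ W : X.Opens, IsAffineOpen W ∧ IsStable ρ W ∧ x ∈ W ∧ W ≤ O' := by
  classical
  haveI : Fintype G := Fintype.ofFinite G
  obtain ⟨U, hU, hxU⟩ := OrbAff.out (ρ := ρ) x
  have hxU' : ∀ g : G, (ρ g).hom x ∈ U := hxU
  let O : X.Opens := (⨅ g : G, (ρ g).hom ⁻¹ᵁ U) ⊓ O'
  have hO_mem : ∀ y : X, y ∈ O ↔ (∀ g : G, (ρ g).hom y ∈ U) ∧ y ∈ O' := by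
    intro y
    show y ∈ (⨅ g : G, (ρ g).hom ⁻¹ᵁ U) ∧ y ∈ O' ↔ _
    rw [mem_iInf_fin]
    rfl
  let T : Finset X := Finset.univ.image (fun g : G => (ρ g).hom x)
  have hT : ∀ y ∈ T, y ∈ U ∧ y ∈ O := by
    intro y hy
    obtain ⟨k, -, rfl⟩ := Finset.mem_image.mp hy
    refine ⟨hxU' k, (hO_mem _).mpr ⟨fun g => ?_, hO'.apply_mem k hx⟩⟩
    rw [← hom_mul_apply]
    exact hxU' (g * k)
  obtain ⟨f, hfO, hfT⟩ := Groth.Agent.Helper4.SymOrbA.exists_basicOpen_le_of_finset hU O T hT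
  let D : X.Opens := X.basicOpen f
  have hDA : IsAffineOpen D := hU.basicOpen f
  have hDO : D ≤ O := hfO
  let V : G → X.Opens := fun g => (ρ g).hom ⁻¹ᵁ D
  have hVA : ∀ g, IsAffineOpen (V g) := fun g => hDA.preimage_of_isIso (ρ g).hom
  have hVU : ∀ g, V g ≤ U := by
    intro g y hy
    have h1 : (ρ g).hom y ∈ O := hDO hy
    have h2 := ((hO_mem _).mp h1).1 g⁻¹
    rwa [hom_inv_apply] at h2
  have hWmem : ∀ y : X, y ∈ ⨅ g, V g ↔ ∀ g : G, (ρ g).hom y ∈ D := by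
    intro y
    rw [mem_iInf_fin]
    rfl
  refine ⟨⨅ g, V g, iInf_affine_of_le hU V hVA hVU, ?_, ?_, ?_⟩
  · intro k y hy
    show (ρ k).hom y ∈ ⨅ g, V g
    rw [hWmem] at hy ⊢
    intro g
    rw [← hom_mul_apply]
    exact hy (g * k)
  · rw [hWmem]
    intro g
    exact hfT _ (Finset.mem_image.mpr ⟨g, Finset.mem_univ g, rfl⟩)
  · intro y hy
    rw [hWmem] at hy
    have h1 := hy 1
    have h2 : (ρ 1).hom y = y := by
      rw [hom_one]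
      rfl
    rw [h2] at h1
    exact ((hO_mem y).mp (hDO h1)).2

/-- the stable affine opens -/
def J (ρ : G →* Aut X) : Type u := {W : X.Opens // IsAffineOpen W ∧ IsStable ρ W}

instance : Preorder (J ρ) :=
  inferInstanceAs (Preorder {W : X.Opens // IsAffineOpen W ∧ IsStable ρ W})

/-- the diagram of local quotients -/
noncomputable def F : J ρ ⥤ Scheme.{u} where
  obj W := M ρ W.1 W.2.2
  map {W₁ W₂} f := Fmap ρ W₁.2.2 W₂.2.2 (show W₁.1 ≤ W₂.1 from leOfHom f)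
  map_id W := Fmap_id ρ W.2.2
  map_comp f g := (Fmap_comp ρ _ _ _ _ _).symm

instance {W₁ W₂ : J ρ} (f : W₁ ⟶ W₂) : IsOpenImmersion ((F ρ).map f) :=
  isOpenImmersion_Fmap ρ _ W₁.2.2 W₁.2.1 W₂.2.2 W₂.2.1

theorem F_map_qW_apply {W₁ W₂ : J ρ} (f : W₁ ⟶ W₂) (x : W₁.1.toScheme) :
    (F ρ).map f (qW ρ W₁.1 W₁.2.2 x) = qW ρ W₂.1 W₂.2.2 (X.homOfLE (leOfHom f) x) :=
  Fmap_qW_apply ρ _ _ _ x

theorem qWJ_surjective (W : J ρ) : Function.Surjective (qW ρ W.1 W.2.2) :=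
  qW_surjective ρ W.2.2 W.2.1

theorem qWJ_eq_iff (W : J ρ) (x y : W.1.toScheme) :
    qW ρ W.1 W.2.2 x = qW ρ W.1 W.2.2 y ↔ ∃ g : G, (ρ g).hom x.1 = y.1 :=
  qW_eq_iff ρ W.2.2 W.2.1 x y

instance : ((F ρ) ⋙ Scheme.forget).IsLocallyDirected where
  cond {i j k} fi fj xi xj h := by
    change (F ρ).map fi xi = (F ρ).map fj xj at h
    obtain ⟨ui, rfl⟩ := qWJ_surjective ρ i xi
    obtain ⟨uj, rfl⟩ := qWJ_surjective ρ j xj
    rw [F_map_qW_apply, F_map_qW_apply] at h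
    obtain ⟨g, hg⟩ := (qWJ_eq_iff ρ k _ _).mp h
    rw [Scheme.homOfLE_apply, Scheme.homOfLE_apply] at hg
    have huj : uj.1 ∈ i.1 := by
      rw [← hg]
      exact i.2.2.apply_mem g ui.2
    obtain ⟨W, hA, hst, hxW, hle⟩ := exists_stableAffine ρ (i.1 ⊓ j.1) (i.2.2.inf j.2.2) uj.1
      ⟨huj, uj.2⟩
    let l : J ρ := ⟨W, hA, hst⟩
    have hli : l ≤ i := hle.trans inf_le_left
    have hlj : l ≤ j := hle.trans inf_le_right
    refine ⟨l, homOfLE hli, homOfLE hlj, qW ρ W hst ⟨uj.1, hxW⟩, ?_, ?_⟩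
    · change (F ρ).map (homOfLE hli) (qW ρ l.1 l.2.2 ⟨uj.1, hxW⟩) = qW ρ i.1 i.2.2 ui
      rw [F_map_qW_apply]
      refine (qWJ_eq_iff ρ i _ _).mpr ⟨g⁻¹, ?_⟩
      rw [Scheme.homOfLE_apply, ← hg, hom_inv_apply]
    · change (F ρ).map (homOfLE hlj) (qW ρ l.1 l.2.2 ⟨uj.1, hxW⟩) = qW ρ j.1 j.2.2 uj
      rw [F_map_qW_apply]
      congr 1
      exact Subtype.ext (Scheme.homOfLE_apply _ _)

/-- the quotient scheme -/
noncomputable def Y : Scheme.{u} := colimit (F ρ)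

/-- the canonical open immersions of the local quotients into the quotient -/
noncomputable def ιY (W : J ρ) : M ρ W.1 W.2.2 ⟶ Y ρ := colimit.ι (F ρ) W

instance (W : J ρ) : IsOpenImmersion (ιY ρ W) :=
  inferInstanceAs (IsOpenImmersion (colimit.ι (F ρ) W))

theorem F_map_ιY {W₁ W₂ : J ρ} (f : W₁ ⟶ W₂) : (F ρ).map f ≫ ιY ρ W₂ = ιY ρ W₁ :=
  colimit.w (F ρ) f

/-- the cover of `X` by stable affine opens -/
@[reducible] noncomputable def coverU : X.OpenCover where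
  I₀ := J ρ
  X W := W.1.toScheme
  f W := W.1.ι
  mem₀ := by
    rw [Scheme.presieve₀_mem_precoverage_iff]
    refine ⟨fun x => ?_, fun W => inferInstanceAs (IsOpenImmersion W.1.ι)⟩
    obtain ⟨W, hA, hst, hxW, -⟩ := exists_stableAffine ρ ⊤ isStable_top x trivial
    exact ⟨⟨W, hA, hst⟩, ⟨x, hxW⟩, rfl⟩

instance : Preorder (coverU ρ).I₀ := inferInstanceAs (Preorder (J ρ))

noncomputable instance : (coverU ρ).LocallyDirected where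
  trans {W₁ W₂} f := X.homOfLE (show W₁.1 ≤ W₂.1 from leOfHom f)
  trans_id W := Scheme.homOfLE_rfl _ _
  trans_comp f g := (Scheme.homOfLE_homOfLE _ _ _).symm
  w f := Scheme.homOfLE_ι _ _
  directed {W₁ W₂} z := by
    let x : X := (pullback.fst W₁.1.ι W₂.1.ι ≫ W₁.1.ι) z
    have hx1 : x ∈ W₁.1 := (pullback.fst W₁.1.ι W₂.1.ι z).2
    have hx2 : x ∈ W₂.1 := by
      have : x = (pullback.snd W₁.1.ι W₂.1.ι ≫ W₂.1.ι) z := by
        show (pullback.fst W₁.1.ι W₂.1.ι ≫ W₁.1.ι) z = _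
        rw [pullback.condition]
      rw [this]
      exact (pullback.snd W₁.1.ι W₂.1.ι z).2
    obtain ⟨W, hA, hst, hxW, hle⟩ := exists_stableAffine ρ (W₁.1 ⊓ W₂.1) (W₁.2.2.inf W₂.2.2) x
      ⟨hx1, hx2⟩
    let l : J ρ := ⟨W, hA, hst⟩
    have hl1 : l ≤ W₁ := hle.trans inf_le_left
    have hl2 : l ≤ W₂ := hle.trans inf_le_right
    refine ⟨l, homOfLE hl1, homOfLE hl2, ⟨x, hxW⟩, ?_⟩
    apply (pullback.fst W₁.1.ι W₂.1.ι ≫ W₁.1.ι).isOpenEmbedding.injective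
    rw [← Scheme.Hom.comp_apply, pullback.lift_fst_assoc]
    exact congrArg (fun f : l.1.toScheme ⟶ X => f ⟨x, hxW⟩) (Scheme.homOfLE_ι X hl1)
  property_trans f := inferInstance

theorem q_compat {W₁ W₂ : (coverU ρ).I₀} (f : W₁ ⟶ W₂) :
    (coverU ρ).trans f ≫ qW ρ W₂.1 W₂.2.2 ≫ ιY ρ W₂ = qW ρ W₁.1 W₁.2.2 ≫ ιY ρ W₁ := by
  show X.homOfLE (show W₁.1 ≤ W₂.1 from leOfHom f) ≫ qW ρ W₂.1 W₂.2.2 ≫ ιY ρ W₂ =
    qW ρ W₁.1 W₁.2.2 ≫ ιY ρ W₁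
  rw [← Category.assoc, qW_natural ρ W₁.2.2 W₂.2.2, Category.assoc]
  congr 1
  exact F_map_ιY ρ f

/-- the quotient morphism -/
noncomputable def q : X ⟶ Y ρ :=
  (coverU ρ).glueMorphismsOfLocallyDirected (fun W => qW ρ W.1 W.2.2 ≫ ιY ρ W) (q_compat ρ)

theorem ι_q (W : J ρ) : W.1.ι ≫ q ρ = qW ρ W.1 W.2.2 ≫ ιY ρ W :=
  (coverU ρ).map_glueMorphismsOfLocallyDirected (fun W => qW ρ W.1 W.2.2 ≫ ιY ρ W) (q_compat ρ) W

theorem q_apply (W : J ρ) (x : W.1.toScheme) : q ρ x.1 = ιY ρ W (qW ρ W.1 W.2.2 x) := by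
  show q ρ (W.1.ι x) = _
  rw [← Scheme.Hom.comp_apply, ι_q, Scheme.Hom.comp_apply]

theorem exists_J_mem (x : X) : ∃ W : J ρ, x ∈ W.1 := by
  obtain ⟨W, hA, hst, hxW, -⟩ := exists_stableAffine ρ ⊤ isStable_top x trivial
  exact ⟨⟨W, hA, hst⟩, hxW⟩

theorem exists_ιY_eq (y : Y ρ) : ∃ (W : J ρ) (m : M ρ W.1 W.2.2), ιY ρ W m = y :=
  Scheme.IsLocallyDirected.ι_jointly_surjective (F ρ) y

theorem q_eq_iff (x x' : X) : q ρ x = q ρ x' ↔ ∃ g : G, (ρ g).hom x = x' := by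
  constructor
  · intro h
    obtain ⟨W, hxW⟩ := exists_J_mem ρ x
    obtain ⟨W', hxW'⟩ := exists_J_mem ρ x'
    rw [q_apply ρ W ⟨x, hxW⟩, q_apply ρ W' ⟨x', hxW'⟩] at h
    obtain ⟨k, fi, fj, m, hm1, hm2⟩ := (Scheme.IsLocallyDirected.ι_eq_ι_iff (F ρ)).mp h
    obtain ⟨u, rfl⟩ := qWJ_surjective ρ k m
    rw [F_map_qW_apply] at hm1 hm2
    obtain ⟨g₁, hg₁⟩ := (qWJ_eq_iff ρ W _ _).mp hm1
    obtain ⟨g₂, hg₂⟩ := (qWJ_eq_iff ρ W' _ _).mp hm2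
    rw [Scheme.homOfLE_apply] at hg₁ hg₂
    refine ⟨g₂ * g₁⁻¹, ?_⟩
    rw [hom_mul_apply]
    show (ρ g₂).hom ((ρ g₁⁻¹).hom x) = x'
    have : (ρ g₁⁻¹).hom x = u.1 := by
      have h3 : (ρ g₁).hom u.1 = x := hg₁
      rw [← h3, hom_inv_apply]
    rw [this]
    exact hg₂
  · rintro ⟨g, rfl⟩
    obtain ⟨W, hxW⟩ := exists_J_mem ρ x
    have hxW' : (ρ g).hom x ∈ W.1 := W.2.2.apply_mem g hxW
    rw [q_apply ρ W ⟨x, hxW⟩, q_apply ρ W ⟨(ρ g).hom x, hxW'⟩]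
    congr 1
    exact (qWJ_eq_iff ρ W _ _).mpr ⟨g, rfl⟩

theorem q_preimage_range (W : J ρ) : q ρ ⁻¹ᵁ (ιY ρ W).opensRange = W.1 := by
  ext x
  constructor
  · rintro ⟨m, hm⟩
    obtain ⟨u, rfl⟩ := qWJ_surjective ρ W m
    rw [← q_apply ρ W u] at hm
    obtain ⟨g, hg⟩ := (q_eq_iff ρ _ _).mp hm
    show x ∈ W.1
    rw [← hg]
    exact W.2.2.apply_mem g u.2
  · intro hx
    exact ⟨qW ρ W.1 W.2.2 ⟨x, hx⟩, (q_apply ρ W ⟨x, hx⟩).symm⟩

theorem q_inv (g : G) : (ρ g).hom ≫ q ρ = q ρ := by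
  apply Scheme.Cover.hom_ext (coverU ρ)
  intro W
  show W.1.ι ≫ (ρ g).hom ≫ q ρ = W.1.ι ≫ q ρ
  rw [← Category.assoc, ← restrictAct_ι ρ W.1 W.2.2 g, Category.assoc, ι_q, ← Category.assoc,
    act_qW]

theorem isQuot_q : SGA1.IsQuot ρ (q ρ) :=
  Groth.Agent.Helper9.QuotCharts.isQuot_of_charts ρ (q ρ) (q_inv ρ)
    (fun W : J ρ => W.1.toScheme) (fun W => M ρ W.1 W.2.2) (fun W => W.1.ι) (fun W => ιY ρ W)
    (fun W => qW ρ W.1 W.2.2) (fun W => ι_q ρ W)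
    (fun W => by rw [q_preimage_range, Scheme.Opens.opensRange_ι])
    (fun y => by
      obtain ⟨W, m, rfl⟩ := exists_ιY_eq ρ y
      exact ⟨W, m, rfl⟩)
    (fun W => restrictAct ρ W.1 W.2.2) (fun W g => restrictAct_ι ρ W.1 W.2.2 g)
    (fun W => isQuot_qW ρ W.2.2 W.2.1)

end Groth.Agent.Helper8.FinGrpQuot
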