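import Mathlib.LinearAlgebra.Eigenspace.Basic
import Mathlib.FieldTheory.Separable
import Mathlib.FieldTheory.IsAlgClosed.Basic
import Mathlib.RingTheory.Polynomial.Basic
import Mathlib.Tactic

/-! An endomorphism of finite order over an algebraically closed field of characteristic zero is
diagonalizable (no finiteness assumption on the space). -/

set_option autoImplicit false

namespace Groth.Agent.Helper8

open Polynomial

theorem ker_aeval_prod_X_sub_C {k V : Type*} [Field k] [AddCommGroup V] [Module k V]
    (f : Module.End k V) (s : Finset k) :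
    LinearMap.ker (aeval f (∏ a ∈ s, (X - C a))) = ⨆ a ∈ s, Module.End.eigenspace f a := by
  classical
  induction s using Finset.induction_on with
  | empty =>
    simp only [Finset.prod_empty, map_one, Finset.notMem_empty, iSup_false, iSup_bot]
    exact LinearMap.ker_id
  | insert a s ha ih =>
    rw [Finset.prod_insert ha, Finset.iSup_insert, ← ih]
    have hcop : IsCoprime (X - C a) (∏ b ∈ s, (X - C b)) := by
      refine IsCoprime.prod_right fun b hb => ?_
      refine isCoprime_X_sub_C_of_isUnit_sub (sub_ne_zero_of_ne ?_).isUnit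
      rintro rfl
      exact ha hb
    rw [← sup_ker_aeval_eq_ker_aeval_mul_of_coprime f hcop]
    congr 1
    rw [Module.End.eigenspace_def]
    congr 1
    simp [Algebra.algebraMap_eq_smul_one]

theorem iSup_eigenspace_eq_top_of_pow_eq_one {k V : Type*} [Field k] [IsAlgClosed k] [CharZero k]
    [AddCommGroup V] [Module k V] (f : Module.End k V) (m : ℕ) (hm : 0 < m) (hf : f ^ m = 1) :
    ⨆ μ : k, Module.End.eigenspace f μ = ⊤ := by
  classical
  set p : k[X] := X ^ m - C 1 with hp
  have hmonic : p.Monic := monic_X_pow_sub_C 1 hm.ne'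
  have hsep : p.Separable :=
    separable_X_pow_sub_C (1 : k) (by exact_mod_cast hm.ne') one_ne_zero
  have hsplit : p.Splits := IsAlgClosed.splits p
  have hnodup := nodup_roots hsep
  have hprod : p = ∏ a ∈ p.roots.toFinset, (X - C a) := by
    conv_lhs => rw [hsplit.eq_prod_roots_of_monic hmonic]
    rw [Finset.prod_eq_multiset_prod, Multiset.toFinset_val, Multiset.dedup_eq_self.mpr hnodup]
  have hzero : aeval f p = 0 := by
    rw [hp]
    simp [hf]
  have h1 : LinearMap.ker (aeval f p) = ⊤ := by rw [hzero]; exact LinearMap.ker_zero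
  rw [hprod, ker_aeval_prod_X_sub_C] at h1
  rw [eq_top_iff, ← h1]
  exact iSup₂_le fun a _ => le_iSup (fun μ => Module.End.eigenspace f μ) a

end Groth.Agent.Helper8
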