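import Mathlib
import Groth.Prelude.Def_Fitting
import Groth.Agent.Helper7.Fitt11
import Groth.Agent.Helper3.Fitt0

/-!
# Ring-level lemmas on Fitting ideals, pushouts of commutative rings, and local freeness
-/

set_option autoImplicit false
set_option linter.unusedSectionVars false
set_option linter.style.haveILetI false
universe u

open CategoryTheory CategoryTheory.Limits TensorProduct

namespace Groth.Agent.Helper8.FitShA

open Groth.Agent.Helper7.FittLib

/-- Fitting ideals commute with base change, phrased with a pushout square in `CommRingCat`: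
`b : R ⟶ R₁` is the base change, `a : R ⟶ A` the (finite) algebra. -/
theorem fitt_map_of_isPushout {R R₁ A A₁ : CommRingCat.{u}} {a : R ⟶ A} {b : R ⟶ R₁}
    {a₁ : R₁ ⟶ A₁} {b₁ : A ⟶ A₁} (H : IsPushout b a a₁ b₁) (hfin : a.hom.Finite) (k : ℕ) :
    (letI := a₁.hom.toAlgebra; Fitt.ideal R₁ A₁ k) =
      (letI := a.hom.toAlgebra; Fitt.ideal R A k).map b.hom := by
  letI := a.hom.toAlgebra
  letI := b.hom.toAlgebra
  letI := a₁.hom.toAlgebra
  letI := b₁.hom.toAlgebra
  letI := (a ≫ b₁).hom.toAlgebra
  haveI : IsScalarTower R R₁ A₁ := .of_algebraMap_eq' (by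
    show (a ≫ b₁).hom = a₁.hom.comp b.hom
    rw [← CommRingCat.hom_comp, H.w])
  haveI : IsScalarTower R A A₁ := .of_algebraMap_eq' rfl
  have hP : Algebra.IsPushout R R₁ A A₁ := CommRingCat.isPushout_iff_isPushout.mp H
  haveI : Module.Finite R A := hfin
  exact fitt_isBaseChange R₁ _ hP.out k

/-- In a pushout square of commutative rings with `b` surjective, the kernel of the
opposite map is generated by the image of the kernel of `b`. -/
theorem ker_of_isPushout_of_surjective {R A B P : CommRingCat.{u}} {a : R ⟶ A} {b : R ⟶ B}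
    {a' : A ⟶ P} {b' : B ⟶ P} (H : IsPushout a b a' b') (hb : Function.Surjective b.hom) :
    RingHom.ker a'.hom = (RingHom.ker b.hom).map a.hom := by
  apply le_antisymm
  · set J : Ideal A := (RingHom.ker b.hom).map a.hom with hJ
    have hker : RingHom.ker b.hom ≤ RingHom.ker ((Ideal.Quotient.mk J).comp a.hom) := by
      intro x hx
      rw [RingHom.mem_ker, RingHom.comp_apply, Ideal.Quotient.eq_zero_iff_mem]
      exact Ideal.mem_map_of_mem _ hx
    let c : B →+* A ⧸ J := b.hom.liftOfSurjective hb ⟨(Ideal.Quotient.mk J).comp a.hom, hker⟩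
    have hc : c.comp b.hom = (Ideal.Quotient.mk J).comp a.hom :=
      b.hom.liftOfSurjective_comp hb ⟨(Ideal.Quotient.mk J).comp a.hom, hker⟩
    have w : a ≫ CommRingCat.ofHom (Ideal.Quotient.mk J) = b ≫ CommRingCat.ofHom c := by
      ext x
      exact (congrArg (fun f => f x) hc).symm
    have h1 : a' ≫ H.desc _ _ w = CommRingCat.ofHom (Ideal.Quotient.mk J) := H.inl_desc _ _ w
    intro x hx
    rw [RingHom.mem_ker] at hx
    have h2 : (H.desc _ _ w).hom (a'.hom x) = Ideal.Quotient.mk J x :=
      congrArg (fun f => f.hom x) h1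
    rw [hx, map_zero] at h2
    exact Ideal.Quotient.eq_zero_iff_mem.mp h2.symm
  · rw [Ideal.map_le_iff_le_comap]
    intro x hx
    rw [RingHom.mem_ker] at hx
    rw [Ideal.mem_comap, RingHom.mem_ker]
    have : a'.hom (a.hom x) = b'.hom (b.hom x) := by
      have := congrArg (fun f => f.hom x) H.w
      simpa using this
    rw [this, hx, map_zero]

/-- A finite algebra whose Fitting ideals are `⊥` below `d` and `⊤` from `d` on is flat, finitely
presented and of constant rank `d`. -/
theorem flat_fp_rank_of_fitt {A B : Type u} [CommRing A] [CommRing B] [Algebra A B]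
    [Module.Finite A B] (d : ℕ)
    (h1 : ∀ k, k < d → Fitt.ideal A B k = ⊥) (h2 : ∀ k, d ≤ k → Fitt.ideal A B k = ⊤) :
    Module.Flat A B ∧ Module.FinitePresentation A B ∧
      ∀ p : PrimeSpectrum A, Module.rankAtStalk (R := A) B p = d := by
  have H := (locally_free_iff_fitt (R := A) B d).mpr ⟨h1, h2⟩
  let s : Set A := {f | Module.Free (Localization.Away f) (LocalizedModule (Submonoid.powers f) B)}
  have hs : Ideal.span s = ⊤ := by
    by_contra hne
    obtain ⟨m, hm, hle⟩ := Ideal.exists_le_maximal _ hne
    haveI := hm.isPrime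
    obtain ⟨f, hf, hfree, -⟩ := H m
    exact hf (hle (Ideal.subset_span hfree))
  have hflat : Module.Flat A B := by
    refine Module.flat_of_localized_span A B s hs (fun r => ?_)
    haveI : Module.Free (Localization.Away r.1) (LocalizedModule (Submonoid.powers r.1) B) := r.2
    exact Module.Flat.trans A (Localization.Away r.1) _
  have hfp : Module.FinitePresentation A B := by
    refine Module.FinitePresentation.of_localizationSpan s hs (fun r => ?_)
    haveI : Module.Free (Localization.Away r.1) (LocalizedModule (Submonoid.powers r.1) B) := r.2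
    haveI : Module.Finite (Localization.Away r.1) (LocalizedModule (Submonoid.powers r.1) B) :=
      Module.Finite.of_isLocalizedModule (Submonoid.powers r.1)
        (LocalizedModule.mkLinearMap (Submonoid.powers r.1) B)
    exact Module.finitePresentation_of_projective _ _
  refine ⟨hflat, hfp, fun p => ?_⟩
  rw [Module.rankAtStalk_eq]
  have hp := (fitt_not_le_iff B d p.asIdeal).1
  have hd : Module.finrank p.asIdeal.ResidueField (p.asIdeal.ResidueField ⊗[A] B) ≤ d := by
    apply hp.mp
    rw [h2 d le_rfl]
    intro h
    exact p.2.ne_top (top_le_iff.mp h)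
  rcases Nat.eq_zero_or_pos d with h0 | hpos
  · change Module.finrank p.asIdeal.ResidueField (p.asIdeal.ResidueField ⊗[A] B) = d
    omega
  · have hp' := (fitt_not_le_iff B (d - 1) p.asIdeal).1
    have : ¬ Module.finrank p.asIdeal.ResidueField (p.asIdeal.ResidueField ⊗[A] B) ≤ d - 1 := by
      intro h
      have := hp'.mpr h
      rw [h1 (d - 1) (by omega)] at this
      exact this bot_le
    change Module.finrank p.asIdeal.ResidueField (p.asIdeal.ResidueField ⊗[A] B) = d
    omega

end Groth.Agent.Helper8.FitShA
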