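import Mathlib
import Groth.Prelude.Def_Fitting
import Groth.Agent.Helper8.FitShA

/-!
# The Fitting ideal sheaves of a finite morphism

For a finite morphism `π : X ⟶ Y` we define the quasi-coherent ideal sheaf `fitSh π r` on `Y` whose
sections over an affine open `V` form the `r`-th Fitting ideal of the `Γ(Y, V)`-module
`Γ(X, π⁻¹ V)`, and show that it commutes with arbitrary base change (`fitSh_comap`).  We also
compute the pullback ideal sheaf `I.comap g` on affine opens (`ideal_comap_of_le`).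
-/

set_option autoImplicit false
set_option linter.unusedSectionVars false
set_option linter.style.haveILetI false
universe u

open CategoryTheory CategoryTheory.Limits AlgebraicGeometry TopologicalSpace

namespace Groth.Agent.Helper8.FitShB

open Groth.Agent.Helper7.FittLib Groth.Agent.Helper8.FitShA

variable {X Y X' Y' : Scheme.{u}}

/-- The `r`-th Fitting ideal of `Γ(X, π⁻¹ V)` over `Γ(Y, V)`. -/
noncomputable def fitIdeal (π : X ⟶ Y) (r : ℕ) (V : Y.Opens) : Ideal Γ(Y, V) :=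
  letI := (π.app V).hom.toAlgebra
  Fitt.ideal Γ(Y, V) Γ(X, π ⁻¹ᵁ V) r

lemma id_appLE (V V' : Y.Opens) (h : V' ≤ (𝟙 Y : Y ⟶ Y) ⁻¹ᵁ V) :
    (𝟙 Y : Y ⟶ Y).appLE V V' h = Y.presheaf.map (homOfLE h).op := by
  simp only [Scheme.Hom.appLE, Scheme.Hom.id_app]
  exact Category.id_comp _

/-- Fitting ideals commute with base change (affine-local form). -/
theorem fit_map {g' : X' ⟶ X} {π' : X' ⟶ Y'} {π : X ⟶ Y} {g : Y' ⟶ Y}
    (H : IsPullback g' π' π g) [IsFinite π] (r : ℕ) {V : Y.Opens} (hV : IsAffineOpen V)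
    {V' : Y'.Opens} (hV' : IsAffineOpen V') (h : V' ≤ g ⁻¹ᵁ V) :
    fitIdeal π' r V' = (fitIdeal π r V).map (g.appLE V V' h).hom := by
  have hle : π' ⁻¹ᵁ V' ≤ g' ⁻¹ᵁ (π ⁻¹ᵁ V) := by
    have e : π' ⁻¹ᵁ (g ⁻¹ᵁ V) = g' ⁻¹ᵁ (π ⁻¹ᵁ V) := by
      show (π' ≫ g) ⁻¹ᵁ V = (g' ≫ π) ⁻¹ᵁ V
      rw [H.w]
    rw [← e]
    exact π'.preimage_mono h
  have hUY : π' ⁻¹ᵁ V' = g' ⁻¹ᵁ (π ⁻¹ᵁ V) ⊓ π' ⁻¹ᵁ V' := (inf_eq_right.mpr hle).symm
  haveI := isIso_pushoutSection_of_isAffineOpen H h (le_refl (π ⁻¹ᵁ V)) hUY hV hV'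
    (hV.preimage π)
  have hPO := (isIso_pushoutSection_iff H h (le_refl (π ⁻¹ᵁ V)) hUY).mp this
  rw [Scheme.Hom.appLE_eq_app, Scheme.Hom.appLE_eq_app] at hPO
  exact fitt_map_of_isPushout hPO.flip (π.finite_app V hV) r

/-- The `r`-th Fitting ideal sheaf of a finite morphism. -/
noncomputable def fitSh (π : X ⟶ Y) [IsFinite π] (r : ℕ) : Y.IdealSheafData where
  ideal V := fitIdeal π r V.1
  map_ideal_basicOpen V f := by
    have H : IsPullback (𝟙 X) π π (𝟙 Y) := IsPullback.of_horiz_isIso ⟨by simp⟩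
    have := fit_map H r V.2 (V.2.basicOpen f) (Y.basicOpen_le f)
    rw [id_appLE] at this
    exact this.symm

@[simp] lemma fitSh_ideal (π : X ⟶ Y) [IsFinite π] (r : ℕ) (V : Y.affineOpens) :
    (fitSh π r).ideal V = fitIdeal π r V.1 := rfl

/-- The pullback of an ideal sheaf, computed on affine opens. -/
theorem ideal_comap_of_le (I : Y.IdealSheafData) (g : Y' ⟶ Y) {V : Y.Opens} (hV : IsAffineOpen V)
    {V' : Y'.Opens} (hV' : IsAffineOpen V') (h : V' ≤ g ⁻¹ᵁ V) :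
    (I.comap g).ideal ⟨V', hV'⟩ = (I.ideal ⟨V, hV⟩).map (g.appLE V V' h).hom := by
  have H := IsPullback.of_hasPullback g I.subschemeι
  have hUY : pullback.fst g I.subschemeι ⁻¹ᵁ V' =
      pullback.fst g I.subschemeι ⁻¹ᵁ V' ⊓ pullback.snd g I.subschemeι ⁻¹ᵁ (I.subschemeι ⁻¹ᵁ V) := by
    refine (inf_eq_left.mpr ?_).symm
    have e : pullback.snd g I.subschemeι ⁻¹ᵁ (I.subschemeι ⁻¹ᵁ V) =
        pullback.fst g I.subschemeι ⁻¹ᵁ (g ⁻¹ᵁ V) := by
      show (pullback.snd g I.subschemeι ≫ I.subschemeι) ⁻¹ᵁ V =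
        (pullback.fst g I.subschemeι ≫ g) ⁻¹ᵁ V
      rw [pullback.condition]
    rw [e]
    exact (pullback.fst g I.subschemeι).preimage_mono h
  haveI := isIso_pushoutSection_of_isAffineOpen H (le_refl (I.subschemeι ⁻¹ᵁ V)) h hUY hV
    (hV.preimage I.subschemeι) hV'
  have hPO := (isIso_pushoutSection_iff H (le_refl (I.subschemeι ⁻¹ᵁ V)) h hUY).mp this
  rw [Scheme.Hom.appLE_eq_app, Scheme.Hom.appLE_eq_app] at hPO
  have hsurj : Function.Surjective (I.subschemeι.app V).hom :=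
    I.subschemeι_app_surjective ⟨V, hV⟩
  have hk := ker_of_isPushout_of_surjective hPO hsurj
  rw [I.ker_subschemeι_app ⟨V, hV⟩] at hk
  rw [← hk]
  exact Scheme.Hom.ker_apply (pullback.fst g I.subschemeι) ⟨V', hV'⟩

/-- Fitting ideal sheaves commute with base change. -/
theorem fitSh_comap {g' : X' ⟶ X} {π' : X' ⟶ Y'} {π : X ⟶ Y} {g : Y' ⟶ Y}
    (H : IsPullback g' π' π g) [IsFinite π] [IsFinite π'] (r : ℕ) :
    fitSh π' r = (fitSh π r).comap g := by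
  let ι := {p : Y'.affineOpens × Y.affineOpens // p.1.1 ≤ g ⁻¹ᵁ p.2.1}
  refine Scheme.IdealSheafData.ext_of_iSup_eq_top (ι := ι) (fun p => p.1.1) ?_ ?_
  · rw [eq_top_iff]
    intro y _
    obtain ⟨_, ⟨V, hV, rfl⟩, hyV, -⟩ :=
      Y.isBasis_affineOpens.exists_subset_of_mem_open (Set.mem_univ (g y)) isOpen_univ
    obtain ⟨_, ⟨V', hV', rfl⟩, hyV', hV'V⟩ :=
      Y'.isBasis_affineOpens.exists_subset_of_mem_open (show y ∈ g ⁻¹ᵁ V from hyV) (g ⁻¹ᵁ V).2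
    exact Opens.mem_iSup.mpr ⟨⟨⟨⟨V', hV'⟩, ⟨V, hV⟩⟩, hV'V⟩, hyV'⟩
  · rintro ⟨⟨V', V⟩, h⟩
    show fitIdeal π' r V'.1 = ((fitSh π r).comap g).ideal V'
    rw [ideal_comap_of_le (fitSh π r) g V.2 V'.2 h, fit_map H r V.2 V'.2 h]
    rfl

end Groth.Agent.Helper8.FitShB
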