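import Mathlib
import Groth.Prelude.Def_Fitting
import Groth.Prelude.Def_Mor2
import Groth.Agent.Helper8.FitShB

/-!
# Fitting ideal sheaves of a finite morphism: local freeness criterion and basic properties
-/

set_option autoImplicit false
set_option linter.unusedSectionVars false
set_option linter.style.haveILetI false
universe u

open CategoryTheory CategoryTheory.Limits AlgebraicGeometry TopologicalSpace

namespace Groth.Agent.Helper8.FitShC

open Groth.Agent.Helper7.FittLib Groth.Agent.Helper8.FitShA Groth.Agent.Helper8.FitShB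

variable {X Y : Scheme.{u}}

/-- For an affine morphism, a property given by a local property of ring maps can be checked on
the maps `Γ(Y, U) ⟶ Γ(X, f⁻¹ U)` for `U` affine (after helper4's `FinLocFree6.affineHom_iff_app`). -/
theorem affineHom_iff_app (P : MorphismProperty Scheme.{u})
    (Q : ∀ {R S : Type u} [CommRing R] [CommRing S], (R →+* S) → Prop)
    [HasRingHomProperty P Q] (f : X ⟶ Y) [IsAffineHom f] :
    P f ↔ ∀ U : Y.Opens, IsAffineOpen U → Q (f.app U).hom := by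
  have hQ := HasRingHomProperty.isLocal_ringHomProperty P (Q := Q)
  have h1 := targetAffineLocally_affineAnd_iff_affineLocally hQ f
  have h2 := targetAffineLocally_affineAnd_iff' hQ.respectsIso f
  rw [HasRingHomProperty.eq_affineLocally P (Q := Q)]
  constructor
  · intro h
    exact (h2.mp (h1.mpr ⟨inferInstance, h⟩)).2
  · intro h
    exact (h1.mp (h2.mpr ⟨inferInstance, h⟩)).2

/-- A finite morphism whose Fitting ideal sheaves are `⊥` below `d` and `⊤` from `d` on is finite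
locally free of degree `d`. -/
theorem isFinLocFreeOfDeg_of_fitSh (π : X ⟶ Y) [IsFinite π] (d : ℕ)
    (h1 : ∀ k, k < d → fitSh π k = ⊥) (h2 : ∀ k, d ≤ k → fitSh π k = ⊤) :
    Mor2.IsFinLocFreeOfDeg d π := by
  have key : ∀ (V : Y.Opens) (hV : IsAffineOpen V),
      letI := (π.app V).hom.toAlgebra
      Module.Flat Γ(Y, V) Γ(X, π ⁻¹ᵁ V) ∧ Module.FinitePresentation Γ(Y, V) Γ(X, π ⁻¹ᵁ V) ∧
        ∀ p : PrimeSpectrum Γ(Y, V), Module.rankAtStalk (R := Γ(Y, V)) Γ(X, π ⁻¹ᵁ V) p = d := by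
    intro V hV
    letI := (π.app V).hom.toAlgebra
    haveI : Module.Finite Γ(Y, V) Γ(X, π ⁻¹ᵁ V) := π.finite_app V hV
    refine flat_fp_rank_of_fitt d (fun k hk => ?_) (fun k hk => ?_)
    · have := congrArg (fun I : Y.IdealSheafData => I.ideal ⟨V, hV⟩) (h1 k hk)
      exact this
    · have := congrArg (fun I : Y.IdealSheafData => I.ideal ⟨V, hV⟩) (h2 k hk)
      exact this
  have hflat : Flat π := by
    rw [affineHom_iff_app @Flat RingHom.Flat π]
    intro V hV
    exact (key V hV).1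
  have hfp : LocallyOfFinitePresentation π := by
    rw [affineHom_iff_app @LocallyOfFinitePresentation RingHom.FinitePresentation π]
    intro V hV
    letI := (π.app V).hom.toAlgebra
    haveI := (key V hV).2.1
    exact (inferInstance : Algebra.FinitePresentation Γ(Y, V) Γ(X, π ⁻¹ᵁ V))
  refine ⟨⟨inferInstance, hflat, hfp⟩, fun y => ?_⟩
  obtain ⟨_, ⟨V, hV, rfl⟩, hyV, -⟩ :=
    Y.isBasis_affineOpens.exists_subset_of_mem_open (Set.mem_univ y) isOpen_univ
  have hV' : IsAffineOpen (π ⁻¹ᵁ V) := hV.preimage π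
  have happ : π.app V = π.appLE V (π ⁻¹ᵁ V) le_rfl := π.app_eq_appLE
  have hf₁ : (π.app V).hom.Finite := π.finite_app V hV
  have hf₂ : (π.app V).hom.Flat := (key V hV).1
  let p := hV.primeIdealOf ⟨y, hyV⟩
  have hp : hV.fromSpec p = y := hV.fromSpec_primeIdealOf ⟨y, hyV⟩
  have hpb : IsPullback hV'.fromSpec (Spec.map (π.app V)) π hV.fromSpec := by
    refine (IsOpenImmersion.isPullback (Spec.map (π.app V)) hV'.fromSpec hV.fromSpec π ?_
      ?_).flip
    · rw [happ, IsAffineOpen.SpecMap_appLE_fromSpec]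
    · rw [hV.opensRange_fromSpec, hV'.opensRange_fromSpec]
  have h3 := Scheme.Hom.finrank_of_isPullback _ _ _ _ hpb p
  rw [hp, Scheme.Hom.finrank_SpecMap_eq_finrank hf₁ hf₂] at h3
  rw [← h3]
  exact (key V hV).2.2 p

/-- Fitting ideal sheaves increase with the index. -/
theorem fitSh_mono (π : X ⟶ Y) [IsFinite π] : Monotone (fitSh π) := by
  intro r r' h V
  letI := (π.app V.1).hom.toAlgebra
  exact fitt_mono_index (R := Γ(Y, V.1)) (M := Γ(X, π ⁻¹ᵁ V.1)) h

/-- Every point has an index from which on the Fitting ideal sheaf is trivial nearby. -/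
theorem exists_notMem_support_fitSh (π : X ⟶ Y) [IsFinite π] (y : Y) :
    ∃ n, y ∉ (fitSh π n).support := by
  obtain ⟨_, ⟨V, hV, rfl⟩, hyV, -⟩ :=
    Y.isBasis_affineOpens.exists_subset_of_mem_open (Set.mem_univ y) isOpen_univ
  letI := (π.app V).hom.toAlgebra
  haveI : Module.Finite Γ(Y, V) Γ(X, π ⁻¹ᵁ V) := π.finite_app V hV
  obtain ⟨n, x, hx⟩ := Module.Finite.exists_fin (R := Γ(Y, V)) (M := Γ(X, π ⁻¹ᵁ V))
  refine ⟨n, fun hy => ?_⟩
  rw [Scheme.IdealSheafData.mem_support_iff_of_mem (U := ⟨V, hV⟩) hyV] at hy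
  have htop : (fitSh π n).ideal ⟨V, hV⟩ = ⊤ :=
    fitt_eq_top_of_le x hx (by simp)
  rw [htop] at hy
  rw [Scheme.mem_zeroLocus_iff] at hy
  have := hy 1 (by simp)
  rw [Scheme.basicOpen_of_isUnit _ isUnit_one] at this
  exact this hyV

/-- If `π` has a section then the zeroth Fitting ideal sheaf vanishes. -/
theorem fitSh_zero_of_section (π : X ⟶ Y) [IsFinite π] (e : Y ⟶ X) (he : e ≫ π = 𝟙 Y) :
    fitSh π 0 = ⊥ := by
  ext V : 2
  show fitIdeal π 0 V.1 = ⊥
  rw [eq_bot_iff]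
  letI := (π.app V.1).hom.toAlgebra
  refine (Groth.Agent.Helper3.FittLib.ideal_zero_le_annihilator
    (R := Γ(Y, V.1)) (M := Γ(X, π ⁻¹ᵁ V.1))).trans ?_
  intro a ha
  rw [Module.mem_annihilator] at ha
  have h1 : (π.app V.1).hom a = 0 := by
    have := ha 1
    rwa [Algebra.smul_def, mul_one] at this
  have hle : V.1 ≤ e ⁻¹ᵁ (π ⁻¹ᵁ V.1) := by
    show V.1 ≤ (e ≫ π) ⁻¹ᵁ V.1
    rw [he]
    exact le_rfl
  have h2 : π.app V.1 ≫ e.appLE (π ⁻¹ᵁ V.1) V.1 hle = 𝟙 _ := by
    rw [Scheme.Hom.app_eq_appLE, Scheme.Hom.appLE_comp_appLE]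
    have : ∀ (f : Y ⟶ Y) (hf : f = 𝟙 Y) (h : V.1 ≤ f ⁻¹ᵁ V.1), f.appLE V.1 V.1 h = 𝟙 _ := by
      rintro f rfl h
      rw [id_appLE]
      exact Y.presheaf.map_id _
    exact this _ he _
  have h3 : a = (e.appLE (π ⁻¹ᵁ V.1) V.1 hle).hom ((π.app V.1).hom a) := by
    have := congrArg (fun f => f.hom a) h2
    exact this.symm
  rw [Ideal.mem_bot, h3, h1, map_zero]

end Groth.Agent.Helper8.FitShC
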