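import Mathlib
import Groth.Agent.Helper8.FixAffA
import Groth.Agent.Helper8.IdDesc

/-! Fixed points of an affine, locally free group scheme: gluing. -/

set_option autoImplicit false
set_option linter.style.haveILetI false
set_option linter.unusedSectionVars false
set_option linter.unusedVariables false

open AlgebraicGeometry CategoryTheory CategoryTheory.Limits TopologicalSpace
open MonoidalCategory CartesianMonoidalCategory

universe u

namespace Groth.Agent.Helper8.FixAff

open Groth.Agent.Helper3 Groth.Agent.Helper3.CoefIdeal Groth.Agent.Helper3.WeilRes1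

variable {S : Scheme.{u}}

/-- restriction of an object of `Over S` to an open -/
noncomputable def res (T : Over S) (V : T.left.Opens) : Over S := Over.mk (V.ι ≫ T.hom)

noncomputable def resι (T : Over S) (V : T.left.Opens) : res T V ⟶ T := Over.homMk V.ι rfl

noncomputable def resMap {T Y : Over S} (y : T ⟶ Y) (W : Y.left.Opens) :
    res T (y.left ⁻¹ᵁ W) ⟶ res Y W :=
  Over.homMk (y.left ∣_ W) (by
    show (y.left ∣_ W) ≫ W.ι ≫ Y.hom = (y.left ⁻¹ᵁ W).ι ≫ T.hom
    rw [← Category.assoc, morphismRestrict_ι, Category.assoc, Over.w])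

lemma resMap_resι {T Y : Over S} (y : T ⟶ Y) (W : Y.left.Opens) :
    resMap y W ≫ resι Y W = resι T (y.left ⁻¹ᵁ W) ≫ y := by
  apply Over.OverMorphism.ext
  exact morphismRestrict_ι _ _

/-- projective sections over an open where `G` is free -/
theorem projSections_of_free (G Y' : Over S) [IsAffineHom G.hom] (U : S.affineOpens)
    (hY' : Y'.hom ⁻¹ᵁ U.1 = ⊤)
    (hfree : @Module.Free Γ(S, U.1) Γ(G.left, G.hom ⁻¹ᵁ U.1) _ _
      (G.hom.app U.1).hom.toAlgebra.toModule) :
    ProjSections (fst Y' G).left := by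
  intro V
  have hpb : IsPullback (fst Y' G).left (snd Y' G).left Y'.hom G.hom :=
    IsPullback.of_hasPullback _ _
  have hUST : G.hom ⁻¹ᵁ U.1 ≤ G.hom ⁻¹ᵁ U.1 := le_rfl
  have hUSX : V.1 ≤ Y'.hom ⁻¹ᵁ U.1 := by rw [hY']; exact le_top
  have hUY : (fst Y' G).left ⁻¹ᵁ V.1 =
      (fst Y' G).left ⁻¹ᵁ V.1 ⊓ (snd Y' G).left ⁻¹ᵁ (G.hom ⁻¹ᵁ U.1) := by
    apply le_antisymm
    · refine le_inf le_rfl ?_
      intro p hp
      show G.hom ((snd Y' G).left p) ∈ U.1
      rw [← Scheme.Hom.comp_apply, ← hpb.w, Scheme.Hom.comp_apply]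
      exact hUSX hp
    · exact inf_le_left
  have hiso := isIso_pushoutSection_of_isAffineOpen hpb hUST hUSX hUY U.2
    (U.2.preimage G.hom) V.2
  have hp := (isIso_pushoutSection_iff hpb hUST hUSX hUY).mp hiso
  refine WeilRes2.projective_of_isPushout _ _ _ _ hp ?_
  rw [Scheme.Hom.app_eq_appLE] at hfree
  letI := (G.hom.appLE U.1 (G.hom ⁻¹ᵁ U.1) hUST).hom.toAlgebra
  haveI := hfree
  exact Module.Projective.of_free

/-- ideal sheaves cutting out the same subfunctor are equal -/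
lemma ideal_eq_of_forall {Q : Over S} (K K' : Q.left.IdealSheafData)
    (h : ∀ (T : Over S) (x : T ⟶ Q), K ≤ x.left.ker ↔ K' ≤ x.left.ker) : K = K' := by
  apply le_antisymm
  · have h1 := (h (Over.mk (K'.subschemeι ≫ Q.hom)) (Over.homMk K'.subschemeι rfl)).mpr (by
      show K' ≤ K'.subschemeι.ker
      rw [K'.ker_subschemeι])
    have h2 : K ≤ K'.subschemeι.ker := h1
    rwa [K'.ker_subschemeι] at h2
  · have h1 := (h (Over.mk (K.subschemeι ≫ Q.hom)) (Over.homMk K.subschemeι rfl)).mp (by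
      show K ≤ K.subschemeι.ker
      rw [K.ker_subschemeι])
    have h2 : K' ≤ K.subschemeι.ker := h1
    rwa [K.ker_subschemeι] at h2

lemma comap_le_ker_iff {A B C : Scheme.{u}} (I : B.IdealSheafData) (f : A ⟶ B) (x : C ⟶ A) :
    I.comap f ≤ x.ker ↔ I ≤ (x ≫ f).ker := by
  rw [← Scheme.IdealSheafData.map_ker, Scheme.IdealSheafData.le_map_iff_comap_le]

/-- being fixed is local on the source -/
lemma fixed_of_cover {G Y : Over S} (act : G ⊗ Y ⟶ Y) {T : Over S} (y : T ⟶ Y) {κ : Type*}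
    (V : κ → T.left.Opens) (hV : IsOpenCover V)
    (h : ∀ U, Fixed act (resι T (V U) ≫ y)) : Fixed act y := by
  intro T' t g
  apply Over.OverMorphism.ext
  let 𝒰 := T'.left.openCoverOfIsOpenCover (fun U => t.left ⁻¹ᵁ V U) (by
    rw [IsOpenCover, eq_top_iff]
    intro p _
    obtain ⟨U, hU⟩ := hV.exists_mem (t.left p)
    exact Opens.mem_iSup.mpr ⟨U, hU⟩)
  refine Scheme.Cover.hom_ext 𝒰 _ _ fun U => ?_
  have h1 := h U (res T' (t.left ⁻¹ᵁ V U)) (resMap t (V U)) (resι T' _ ≫ g)
  rw [← Category.assoc (resMap t (V U)), resMap_resι, Category.assoc, ← comp_lift,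
    Category.assoc] at h1
  exact congrArg (fun q => q.left) h1

/-- containment in the kernel is local on the target -/
lemma le_ker_iff_of_openCover {T Y : Scheme.{u}} (y : T ⟶ Y) (J : Y.IdealSheafData) {κ : Type*}
    (W : κ → Y.Opens) (hW : IsOpenCover W) :
    J ≤ y.ker ↔ ∀ U, J.comap (W U).ι ≤ (y ∣_ W U).ker := by
  constructor
  · intro h U
    rw [comap_le_ker_iff, morphismRestrict_ι]
    exact h.trans (Scheme.Hom.le_ker_comp _ _)
  · intro h
    rw [← J.ker_subschemeι, ← KerLocal.exists_lift_iff_le_ker]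
    refine KerLocal.exists_lift_of_cover J.subschemeι y
      (T.openCoverOfIsOpenCover (fun U => y ⁻¹ᵁ W U) (by
        rw [IsOpenCover, eq_top_iff]
        intro p _
        obtain ⟨U, hU⟩ := hW.exists_mem (y p)
        exact Opens.mem_iSup.mpr ⟨U, hU⟩)) (fun U => ?_)
    rw [KerLocal.exists_lift_iff_le_ker, J.ker_subschemeι]
    have := h U
    rw [comap_le_ker_iff, morphismRestrict_ι] at this
    exact this

/-- the fixed point functor of an affine, locally free group scheme acting on a separated scheme is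
a closed subscheme -/
theorem main (G Y : Over S) [IsAffineHom G.hom] [IsSeparated Y.hom] (act : G ⊗ Y ⟶ Y)
    (hfree : ∀ s : S, ∃ U : S.affineOpens, s ∈ (U : S.Opens) ∧
      @Module.Free Γ(S, U) Γ(G.left, G.hom ⁻¹ᵁ U) _ _ (G.hom.app U).hom.toAlgebra.toModule) :
    ∃ (Z : Over S) (i : Z ⟶ Y), IsClosedImmersion i.left ∧
      ∀ (T : Over S) (y : T ⟶ Y), Fixed act y ↔ ∃ z : T ⟶ Z, z ≫ i = y := by
  classical
  let κ := {U : S.affineOpens // @Module.Free Γ(S, U.1) Γ(G.left, G.hom ⁻¹ᵁ U.1) _ _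
    (G.hom.app U.1).hom.toAlgebra.toModule}
  let W : κ → Y.left.Opens := fun U => Y.hom ⁻¹ᵁ U.1.1
  have hW : IsOpenCover W := by
    rw [IsOpenCover, eq_top_iff]
    intro y _
    obtain ⟨U, hU, hf⟩ := hfree (Y.hom y)
    exact Opens.mem_iSup.mpr ⟨⟨U, hf⟩, hU⟩
  have hloc : ∀ U : κ, ∃ 𝓘 : ((W U : Y.left.Opens) : Scheme.{u}).IdealSheafData,
      ∀ (T : Over S) (x : T ⟶ res Y (W U)),
        𝓘 ≤ x.left.ker ↔ Fixed act (x ≫ resι Y (W U)) := by
    intro U
    refine exists_ideal_fixed G Y (res Y (W U)) act (resι Y (W U))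
      (projSections_of_free G _ U.1 ?_ U.2)
    rw [eq_top_iff]
    intro p _
    show Y.hom ((W U).ι p) ∈ U.1.1
    exact p.2
  choose 𝓘 h𝓘 using hloc
  have hcov : Presieve.ofArrows (fun U : κ => ((W U : Y.left.Opens) : Scheme.{u}))
      (fun U => (W U).ι) ∈ Scheme.fpqcPrecoverage Y.left := by
    apply Scheme.zariskiPrecoverage_le_fpqcPrecoverage
    rw [Scheme.ofArrows_mem_precoverage_iff]
    refine ⟨fun y => ?_, fun U => inferInstance⟩
    obtain ⟨U, hU⟩ := hW.exists_mem y
    exact ⟨U, ⟨y, hU⟩, rfl⟩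
  have compat : ∀ U U' : κ, (𝓘 U).comap (pullback.fst (W U).ι (W U').ι) =
      (𝓘 U').comap (pullback.snd (W U).ι (W U').ι) := by
    intro U U'
    let Q : Over S := Over.mk (pullback.fst (W U).ι (W U').ι ≫ (W U).ι ≫ Y.hom)
    refine ideal_eq_of_forall (Q := Q) _ _ fun T x => ?_
    let p1 : Q ⟶ res Y (W U) := Over.homMk (pullback.fst (W U).ι (W U').ι) rfl
    let p2 : Q ⟶ res Y (W U') := Over.homMk (pullback.snd (W U).ι (W U').ι) (by
      show pullback.snd (W U).ι (W U').ι ≫ (W U').ι ≫ Y.hom =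
        pullback.fst (W U).ι (W U').ι ≫ (W U).ι ≫ Y.hom
      rw [← Category.assoc, ← pullback.condition, Category.assoc])
    have hp : p1 ≫ resι Y (W U) = p2 ≫ resι Y (W U') :=
      Over.OverMorphism.ext pullback.condition
    have a1 := h𝓘 U T (x ≫ p1)
    have a2 := h𝓘 U' T (x ≫ p2)
    rw [Category.assoc, hp, ← Category.assoc] at a1
    rw [comap_le_ker_iff, comap_le_ker_iff]
    exact a1.trans a2.symm
  obtain ⟨J, hJ, -⟩ := IdDesc.main (fun U : κ => (W U).ι) hcov 𝓘 compat
  refine ⟨Over.mk (J.subschemeι ≫ Y.hom), Over.homMk J.subschemeι rfl,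
    inferInstanceAs (IsClosedImmersion J.subschemeι), fun T y => ?_⟩
  have s1 : (∃ z : T ⟶ Over.mk (J.subschemeι ≫ Y.hom), z ≫ Over.homMk J.subschemeι rfl = y) ↔
      J ≤ y.left.ker := by
    have h1 := KerLocal.exists_lift_iff_le_ker J.subschemeι y.left
    rw [J.ker_subschemeι] at h1
    rw [← h1]
    constructor
    · rintro ⟨z, rfl⟩
      exact ⟨z.left, rfl⟩
    · rintro ⟨z', hz'⟩
      refine ⟨Over.homMk z' ?_, ?_⟩
      · change z' ≫ J.subschemeι ≫ Y.hom = T.hom
        rw [← Category.assoc, hz', Over.w]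
      · apply Over.OverMorphism.ext
        exact hz'
  rw [s1, le_ker_iff_of_openCover y.left J W hW]
  constructor
  · intro h U
    rw [hJ U]
    have := (h𝓘 U _ (resMap y (W U))).mpr (by
      rw [resMap_resι]
      exact h.comp _)
    exact this
  · intro h
    refine fixed_of_cover act y (fun U => y.left ⁻¹ᵁ W U) ?_ (fun U => ?_)
    · rw [IsOpenCover, eq_top_iff]
      intro p _
      obtain ⟨U, hU⟩ := hW.exists_mem (y.left p)
      exact Opens.mem_iSup.mpr ⟨U, hU⟩
    · rw [← resMap_resι]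
      refine (h𝓘 U _ (resMap y (W U))).mp ?_
      have := h U
      rw [hJ U] at this
      exact this

end Groth.Agent.Helper8.FixAff
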