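import Mathlib
set_option autoImplicit false
universe u v

namespace Groth.Agent.Helper8.FixSmooth

variable (R : Type u) [CommRing R] (O : Type u) [CommRing O] [Algebra R O]
  (G : Type v) [Group G] [Fintype G] [MulSemiringAction G O] [SMulCommClass G R O]

section Avg
variable {R O G} {B : Type*} [CommRing B] [Algebra R B] (J : Ideal B) (hJ : J ^ 2 = ⊥)
  (ψ : O →ₐ[R] B) (hψ : ∀ (g : G) (a : O), ψ (g • a) - ψ a ∈ J)
  (c : R) (hc : c * (Fintype.card G : R) = 1)

/-- the trace-like sum -/
def T (a : O) : B := ∑ g : G, ψ (g • a)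

include hJ hψ in
theorem T_mul (a b : O) : (Fintype.card G : B) * T (G := G) ψ (a * b) = T (G := G) ψ a * T (G := G) ψ b := by
  have hJJ : ∀ x ∈ J, ∀ y ∈ J, x * y = 0 := by
    intro x hx y hy
    have : x * y ∈ J ^ 2 := by rw [pow_two]; exact Ideal.mul_mem_mul hx hy
    rwa [hJ, Ideal.mem_bot] at this
  have key : ∀ g h : G, ψ (g • a) * (ψ (g • b) - ψ (h • b)) = ψ a * (ψ (g • b) - ψ (h • b)) := by
    intro g h
    have h1 : ψ (g • b) - ψ (h • b) ∈ J := by
      have : ψ (g • b) - ψ (h • b) = (ψ (g • b) - ψ b) - (ψ (h • b) - ψ b) := by ring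
      rw [this]; exact Ideal.sub_mem _ (hψ g b) (hψ h b)
    have := hJJ _ (hψ g a) _ h1
    linear_combination this
  have e1 : (Fintype.card G : B) * T (G := G) ψ (a * b) = ∑ g : G, ∑ _h : G, ψ (g • a) * ψ (g • b) := by
    simp only [T, Finset.sum_const, Finset.card_univ, nsmul_eq_mul, smul_mul', map_mul, Finset.mul_sum]
  have e2 : T (G := G) ψ a * T (G := G) ψ b = ∑ g : G, ∑ h : G, ψ (g • a) * ψ (h • b) := by
    simp only [T, Finset.sum_mul_sum]
  rw [e1, e2, ← sub_eq_zero, ← Finset.sum_sub_distrib]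
  simp_rw [← Finset.sum_sub_distrib, ← mul_sub, key]
  simp_rw [← Finset.mul_sum, Finset.sum_sub_distrib]
  have : (∑ x : G, ∑ _x1 : G, ψ (x • b)) = ∑ _x : G, ∑ x : G, ψ (x • b) := Finset.sum_comm
  rw [this, sub_self, mul_zero]


include hc in
theorem cB : algebraMap R B c * (Fintype.card G : B) = 1 := by
  have := congrArg (algebraMap R B) hc
  simpa using this

/-- the averaged lift -/
noncomputable def avg : O →ₐ[R] B where
  toFun a := c • T (G := G) ψ a
  map_one' := by
    have h := cB (G := G) (B := B) c hc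
    simp only [T, smul_one, map_one, Finset.sum_const, Finset.card_univ, nsmul_eq_mul, mul_one]
    rw [Algebra.smul_def]; exact h
  map_mul' a b := by
    have h := cB (G := G) (B := B) c hc
    have hT := T_mul J hJ ψ hψ a b
    simp only [Algebra.smul_def]
    calc algebraMap R B c * T (G := G) ψ (a * b)
        = algebraMap R B c * (algebraMap R B c * (Fintype.card G : B)) * T (G := G) ψ (a * b) := by
          rw [h, mul_one]
      _ = algebraMap R B c * algebraMap R B c * ((Fintype.card G : B) * T (G := G) ψ (a * b)) := by ring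
      _ = _ := by rw [hT]; ring
  map_zero' := by simp [T]
  map_add' a b := by simp [T, Finset.sum_add_distrib, smul_add]
  commutes' r := by
    have h := cB (G := G) (B := B) c hc
    simp only [T, smul_algebraMap, AlgHom.commutes, Finset.sum_const, Finset.card_univ, nsmul_eq_mul]
    rw [Algebra.smul_def, ← mul_assoc, h, one_mul]

theorem avg_apply (a : O) : avg J hJ ψ hψ c hc a = c • T (G := G) ψ a := rfl

theorem avg_smul (h : G) (a : O) : avg J hJ ψ hψ c hc (h • a) = avg J hJ ψ hψ c hc a := by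
  rw [avg_apply, avg_apply]
  congr 1
  simp only [T, ← mul_smul]
  exact Fintype.sum_equiv (Equiv.mulRight h) _ _ (fun g => rfl)

theorem avg_mk (a : O) :
    Ideal.Quotient.mk J (avg J hJ ψ hψ c hc a) = Ideal.Quotient.mk J (ψ a) := by
  have h := cB (G := G) (B := B) c hc
  rw [avg_apply, Algebra.smul_def, map_mul, T, map_sum]
  have : ∀ g : G, Ideal.Quotient.mk J (ψ (g • a)) = Ideal.Quotient.mk J (ψ a) :=
    fun g => Ideal.Quotient.eq.2 (hψ g a)
  simp only [this, Finset.sum_const, Finset.card_univ, nsmul_eq_mul]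
  rw [← mul_assoc, ← map_natCast (Ideal.Quotient.mk J), ← map_mul, h, map_one, one_mul]

end Avg

theorem main_fintype [Algebra.FormallySmooth R O] (I : Ideal O)
    (hI : I = Ideal.span {x : O | ∃ (g : G) (f : O), x = g • f - f})
    (hG : IsUnit (Fintype.card G : R)) :
    Algebra.FormallySmooth R (O ⧸ I) := by
  apply Algebra.FormallySmooth.of_comp_surjective
  intro B _ _ J hJ φ
  obtain ⟨c, hc⟩ := hG.exists_left_inv
  obtain ⟨ψ, hψ⟩ := Algebra.FormallySmooth.comp_surjective R O J hJ (φ.comp (Ideal.Quotient.mkₐ R I))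
  have hψ' : ∀ a : O, Ideal.Quotient.mk J (ψ a) = φ (Ideal.Quotient.mk I a) := fun a =>
    congrArg (fun f : O →ₐ[R] B ⧸ J => f a) hψ
  have hinv : ∀ (g : G) (a : O), ψ (g • a) - ψ a ∈ J := by
    intro g a
    rw [← Ideal.Quotient.eq, hψ', hψ']
    congr 1
    rw [Ideal.Quotient.eq]
    rw [hI]
    exact Ideal.subset_span ⟨g, a, rfl⟩
  have hkill : ∀ a ∈ I, avg J hJ ψ hinv c hc a = 0 := by
    intro a ha
    rw [hI] at ha
    induction ha using Submodule.span_induction with
    | mem x hx =>
      obtain ⟨g, f, rfl⟩ := hx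
      rw [map_sub, avg_smul, sub_self]
    | zero => exact map_zero _
    | add x y _ _ hx hy => rw [map_add, hx, hy, add_zero]
    | smul r x _ hx => rw [smul_eq_mul, map_mul, hx, mul_zero]
  refine ⟨Ideal.Quotient.liftₐ I (avg J hJ ψ hinv c hc) hkill, ?_⟩
  apply AlgHom.ext
  intro x
  obtain ⟨a, rfl⟩ := Ideal.Quotient.mk_surjective x
  change Ideal.Quotient.mk J (avg J hJ ψ hinv c hc a) = φ (Ideal.Quotient.mk I a)
  rw [avg_mk, hψ']

omit [Fintype G] in
theorem main [Algebra.FormallySmooth R O] [Finite G] (hG : IsUnit (Nat.card G : R)) :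
    Algebra.FormallySmooth R (O ⧸ Ideal.span {x : O | ∃ (g : G) (f : O), x = g • f - f}) := by
  haveI := Fintype.ofFinite G
  rw [Nat.card_eq_fintype_card] at hG
  exact main_fintype R O G _ rfl hG

end Groth.Agent.Helper8.FixSmooth
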