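import Mathlib
import Groth.Agent.Helper8.FixSmooth
set_option autoImplicit false
universe u v
open CategoryTheory AlgebraicGeometry Limits

namespace Groth.Agent.Helper8.FixPt

section Alg

variable {R O : Type u} [CommRing R] [CommRing O]

/-- family version of `FixSmooth.main` -/
theorem formallySmooth_quot [Algebra R O] [Algebra.FormallySmooth R O] {G : Type v} [Group G]
    [Finite G] (σ : G → O →+* O) (h1 : σ 1 = RingHom.id O)
    (hmul : ∀ g h, σ (g * h) = (σ h).comp (σ g))
    (hR : ∀ g r, σ g (algebraMap R O r) = algebraMap R O r)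
    (hG : IsUnit (Nat.card G : R)) :
    Algebra.FormallySmooth R (O ⧸ Ideal.span {x : O | ∃ (g : G) (f : O), x = σ g f - f}) := by
  letI : MulSemiringAction G O :=
    { smul := fun g o => σ g⁻¹ o
      one_smul := fun o => by
        show σ (1 : G)⁻¹ o = o
        rw [inv_one, h1]; rfl
      mul_smul := fun g h o => by
        show σ (g * h)⁻¹ o = σ g⁻¹ (σ h⁻¹ o)
        rw [mul_inv_rev, hmul]; rfl
      smul_zero := fun g => map_zero (σ g⁻¹)
      smul_add := fun g => map_add (σ g⁻¹)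
      smul_one := fun g => map_one (σ g⁻¹)
      smul_mul := fun g => map_mul (σ g⁻¹) }
  haveI : SMulCommClass G R O := ⟨fun g r o => by
    show σ g⁻¹ (r • o) = r • σ g⁻¹ o
    rw [Algebra.smul_def, map_mul, hR, Algebra.smul_def]⟩
  have := FixSmooth.main R O G hG
  have e : {x : O | ∃ (g : G) (f : O), x = σ g f - f} =
      {x : O | ∃ (g : G) (f : O), x = g • f - f} := by
    ext x; constructor
    · rintro ⟨g, f, rfl⟩
      refine ⟨g⁻¹, f, ?_⟩
      show _ = σ (g⁻¹)⁻¹ f - f
      rw [inv_inv]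
    · rintro ⟨g, f, rfl⟩; exact ⟨g⁻¹, f, rfl⟩
  rw [e]; exact this

theorem span_fg [Algebra R O] [Algebra.FiniteType R O] {G : Type v} [Finite G]
    (σ : G → O →+* O) (hR : ∀ g r, σ g (algebraMap R O r) = algebraMap R O r) :
    (Ideal.span {x : O | ∃ (g : G) (f : O), x = σ g f - f}).FG := by
  obtain ⟨s, hs⟩ := (Algebra.FiniteType.out : (⊤ : Subalgebra R O).FG)
  let gens : Set O := (fun p : G × O => σ p.1 p.2 - p.2) '' (Set.univ ×ˢ (s : Set O))
  have hfin : gens.Finite := (Set.finite_univ.prod s.finite_toSet).image _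
  have key : ∀ (g : G) (f : O), σ g f - f ∈ Ideal.span gens := by
    intro g f
    have hf : f ∈ Algebra.adjoin R (s : Set O) := by rw [hs]; trivial
    induction hf using Algebra.adjoin_induction with
    | mem x hx => exact Ideal.subset_span ⟨(g, x), ⟨Set.mem_univ _, hx⟩, rfl⟩
    | algebraMap r => rw [hR, sub_self]; exact zero_mem _
    | add x y _ _ hx hy =>
      have : σ g (x + y) - (x + y) = (σ g x - x) + (σ g y - y) := by rw [map_add]; ring
      rw [this]; exact add_mem hx hy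
    | mul x y _ _ hx hy =>
      have : σ g (x * y) - x * y = σ g x * (σ g y - y) + (σ g x - x) * y := by
        rw [map_mul]; ring
      rw [this]
      exact add_mem (Ideal.mul_mem_left _ _ hy) (Ideal.mul_mem_right _ _ hx)
  have : Ideal.span {x : O | ∃ (g : G) (f : O), x = σ g f - f} = Ideal.span gens := by
    apply le_antisymm
    · rw [Ideal.span_le]; rintro x ⟨g, f, rfl⟩; exact key g f
    · apply Ideal.span_mono; rintro x ⟨⟨g, f⟩, -, rfl⟩; exact ⟨g, f, rfl⟩
  rw [this]
  exact Submodule.fg_span hfin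

theorem smooth_comp {B : Type u} [CommRing B] (φ : R →+* O) (hφ : φ.Smooth) (π : O →+* B)
    (hπ : Function.Surjective π) {G : Type v} [Group G] [Finite G]
    (σ : G → O →+* O) (h1 : σ 1 = RingHom.id O) (hmul : ∀ g h, σ (g * h) = (σ h).comp (σ g))
    (hR : ∀ g, (σ g).comp φ = φ) (hG : IsUnit (Nat.card G : R))
    (hker : RingHom.ker π = Ideal.span {x : O | ∃ (g : G) (f : O), x = σ g f - f}) :
    (π.comp φ).Smooth := by
  letI := φ.toAlgebra
  haveI : Algebra.Smooth R O := hφ
  have hR' : ∀ g r, σ g (algebraMap R O r) = algebraMap R O r := fun g r =>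
    RingHom.congr_fun (hR g) r
  haveI h1' := formallySmooth_quot σ h1 hmul hR' hG
  haveI h2' : Algebra.FinitePresentation R
      (O ⧸ Ideal.span {x : O | ∃ (g : G) (f : O), x = σ g f - f}) :=
    Algebra.FinitePresentation.quotient (span_fg σ hR')
  have hs : (algebraMap R (O ⧸ Ideal.span {x : O | ∃ (g : G) (f : O), x = σ g f - f})).Smooth := by
    rw [RingHom.smooth_algebraMap]; exact ⟨h1', h2'⟩
  let e : (O ⧸ Ideal.span {x : O | ∃ (g : G) (f : O), x = σ g f - f}) ≃+* B :=
    (Ideal.quotEquivOfEq hker.symm).trans (RingHom.quotientKerEquivOfSurjective hπ)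
  have := RingHom.Smooth.respectsIso.1 _ e hs
  convert this using 1
  ext r
  simp [e]
  rfl

end Alg

section Sch

theorem appLE_congr_hom {X Y : Scheme.{u}} {f g : X ⟶ Y} (h : f = g) (U : Y.Opens) (V : X.Opens)
    (e : V ≤ f ⁻¹ᵁ U) : f.appLE U V e = g.appLE U V (h ▸ e) := by
  subst h; rfl

theorem id_appLE' {X : Scheme.{u}} (f : X ⟶ X) (hf : f = 𝟙 X) (V : X.Opens) (e : V ≤ f ⁻¹ᵁ V) :
    f.appLE V V e = 𝟙 _ := by
  subst hf
  simp only [Scheme.Hom.appLE, Scheme.Hom.id_app]
  exact X.presheaf.map_id _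

variable {S : Scheme.{u}} (X : Over S) {G : Type v} [Group G] (ρ : G →* Aut X)

/-- the action morphisms -/
noncomputable def act (g : G) : X.left ⟶ X.left := (ρ g).hom.left

theorem act_w (g : G) : act X ρ g ≫ X.hom = X.hom := Over.w (ρ g).hom

theorem act_one : act X ρ 1 = 𝟙 X.left := by
  show (ρ 1).hom.left = _
  rw [map_one]; rfl

theorem act_mul (g h : G) : act X ρ (g * h) = act X ρ h ≫ act X ρ g := by
  show (ρ (g * h)).hom.left = _
  rw [map_mul]; rfl

instance (g : G) : IsIso (act X ρ g) := by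
  show IsIso ((Over.forget S).map (ρ g).hom); infer_instance

theorem exists_fixed_closed [IsSeparated X.hom] (F : Finset G) :
    ∃ (W : Scheme.{u}) (j : W ⟶ X.left), IsClosedImmersion j ∧ (∀ g ∈ F, j ≫ act X ρ g = j) ∧
      ∀ (T : Scheme.{u}) (t : T ⟶ X.left), (∀ g ∈ F, t ≫ act X ρ g = t) →
        ∃ t' : T ⟶ W, t' ≫ j = t := by
  classical
  induction F using Finset.induction_on with
  | empty =>
    exact ⟨X.left, 𝟙 _, inferInstance, by simp, fun T t _ => ⟨t, Category.comp_id _⟩⟩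
  | insert g F hg ih =>
    obtain ⟨W, j, hj, hfix, huniv⟩ := ih
    let E : Over S := equalizer (ρ g).hom (𝟙 X)
    let e : E ⟶ X := equalizer.ι (ρ g).hom (𝟙 X)
    haveI : IsClosedImmersion e.left := isClosedImmersion_equalizer_ι_left _ _
    have he : e.left ≫ act X ρ g = e.left := by
      have := congrArg CommaMorphism.left (equalizer.condition (ρ g).hom (𝟙 X))
      simp only [Over.comp_left, Category.comp_id] at this
      exact this
    refine ⟨pullback j e.left, pullback.fst j e.left ≫ j, inferInstance, ?_, ?_⟩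
    · intro h hh
      rcases Finset.mem_insert.mp hh with hh | hh
      · rw [hh, pullback.condition, Category.assoc, he]
      · rw [Category.assoc, hfix h hh]
    · intro T t ht
      obtain ⟨t₁, ht₁⟩ := huniv T t (fun h hh => ht h (Finset.mem_insert_of_mem hh))
      let T' : Over S := Over.mk (t ≫ X.hom)
      let tt : T' ⟶ X := Over.homMk t rfl
      have htt : tt ≫ (ρ g).hom = tt ≫ 𝟙 X := by
        rw [Category.comp_id]
        ext
        exact ht g (Finset.mem_insert_self g F)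
      let t₂ : T' ⟶ E := equalizer.lift tt htt
      have ht₂ : t₂.left ≫ e.left = t :=
        congrArg CommaMorphism.left (equalizer.lift_ι tt htt)
      refine ⟨pullback.lift t₁ t₂.left (by rw [ht₁, ht₂]), ?_⟩
      rw [pullback.lift_fst_assoc, ht₁]

theorem isClosedImmersion_of_univ [Finite G] [IsSeparated X.hom] (Z : Over S) (ι : Z ⟶ X)
    (hι : ∀ g : G, ι ≫ (ρ g).hom = ι)
    (hZ : ∀ (T : Over S) (t : T ⟶ X),
      (∀ g : G, t ≫ (ρ g).hom = t) ↔ ∃! t' : T ⟶ Z, t' ≫ ι = t) :
    IsClosedImmersion ι.left := by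
  classical
  cases nonempty_fintype G
  obtain ⟨W, j, hj, hfix, huniv⟩ := exists_fixed_closed X ρ (Finset.univ : Finset G)
  have hι' : ∀ g, ι.left ≫ act X ρ g = ι.left := fun g => congrArg CommaMorphism.left (hι g)
  obtain ⟨u, hu⟩ := huniv Z.left ι.left (fun g _ => hι' g)
  let Wo : Over S := Over.mk (j ≫ X.hom)
  let jo : Wo ⟶ X := Over.homMk j rfl
  have hjo : ∀ g : G, jo ≫ (ρ g).hom = jo := by
    intro g
    ext
    exact hfix g (Finset.mem_univ g)
  obtain ⟨vo, hvo, -⟩ := (hZ Wo jo).mp hjo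
  have hv : vo.left ≫ ι.left = j := congrArg CommaMorphism.left hvo
  have huv : u ≫ vo.left = 𝟙 Z.left := by
    have hw : (u ≫ vo.left) ≫ Z.hom = Z.hom := by
      calc (u ≫ vo.left) ≫ Z.hom = u ≫ (vo.left ≫ ι.left) ≫ X.hom := by
            rw [← Over.w ι]; simp only [Category.assoc]
        _ = Z.hom := by rw [hv, ← Category.assoc, hu, Over.w ι]
    let uv : Z ⟶ Z := Over.homMk (u ≫ vo.left) hw
    have h1 : uv ≫ ι = ι := by
      ext
      show (u ≫ vo.left) ≫ ι.left = ι.left
      rw [Category.assoc, hv, hu]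
    obtain ⟨w, -, hw2⟩ := (hZ Z ι).mp hι
    have := (hw2 uv h1).trans (hw2 (𝟙 Z) (Category.id_comp ι)).symm
    exact congrArg CommaMorphism.left this
  have hvu : vo.left ≫ u = 𝟙 W := by
    refine (cancel_mono j).mp ?_
    rw [Category.assoc, hu, hv]
    exact (Category.id_comp j).symm
  haveI : IsIso u := ⟨vo.left, huv, hvu⟩
  rw [← hu]; infer_instance

theorem exists_stable_affine [Finite G] [IsSeparated X.hom] (x : X.left)
    (hx : ∀ g, act X ρ g x = x) :
    ∃ (U : S.Opens) (V : X.left.Opens), IsAffineOpen U ∧ IsAffineOpen V ∧ x ∈ V ∧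
      V ≤ X.hom ⁻¹ᵁ U ∧ ∀ g, V ≤ act X ρ g ⁻¹ᵁ V := by
  obtain ⟨U, hU, hxU, -⟩ :=
    exists_isAffineOpen_mem_and_subset (x := X.hom x) (U := ⊤) trivial
  obtain ⟨V, hV, hxV, hVU⟩ :=
    exists_isAffineOpen_mem_and_subset (x := x) (U := X.hom ⁻¹ᵁ U) hxU
  let s : Set X.left.Opens := {V | IsAffineOpen V ∧ V ≤ X.hom ⁻¹ᵁ U}
  have hs : InfClosed s := by
    intro V₁ h₁ V₂ h₂
    exact ⟨isAffineHom_diagonal_iff.mp inferInstance U hU V₁ h₁.2 V₂ h₂.2 h₁.1 h₂.1,
      inf_le_left.trans h₁.2⟩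
  have hmem : ∀ g, act X ρ g ⁻¹ᵁ V ∈ s := by
    intro g
    refine ⟨hV.preimage_of_isIso _, ?_⟩
    intro y hy
    have h1 : act X ρ g y ∈ X.hom ⁻¹ᵁ U := hVU hy
    show X.hom y ∈ U
    have h2 : X.hom (act X ρ g y) = X.hom y := by
      rw [← Scheme.Hom.comp_apply, act_w]
    rw [← h2]; exact h1
  have hV' := hs.iInf_mem_of_nonempty hmem
  have mem_iff : ∀ y, y ∈ (⨅ g, act X ρ g ⁻¹ᵁ V : X.left.Opens) ↔ ∀ g, act X ρ g y ∈ V := by
    intro y
    rw [← SetLike.mem_coe, TopologicalSpace.Opens.coe_iInf, Set.mem_iInter]; rfl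
  refine ⟨U, ⨅ g, act X ρ g ⁻¹ᵁ V, hU, hV'.1, ?_, hV'.2, ?_⟩
  · rw [mem_iff]; intro g; rw [hx g]; exact hxV
  · intro g y hy
    show act X ρ g y ∈ (⨅ g, act X ρ g ⁻¹ᵁ V : X.left.Opens)
    rw [mem_iff] at hy ⊢
    intro h
    have := hy (h * g)
    rw [act_mul, Scheme.Hom.comp_apply] at this
    exact this

theorem smooth_of_univ [Finite G] [Smooth X.hom] [IsSeparated X.hom]
    (hG : IsUnit (Nat.card G : Γ(S, ⊤)))
    (Z : Over S) (ι : Z ⟶ X) (hι : ∀ g : G, ι ≫ (ρ g).hom = ι)
    (hZ : ∀ (T : Over S) (t : T ⟶ X),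
      (∀ g : G, t ≫ (ρ g).hom = t) ↔ ∃! t' : T ⟶ Z, t' ≫ ι = t)
    [IsClosedImmersion ι.left] : Smooth Z.hom := by
  rw [HasRingHomProperty.iff_exists_appLE (P := @Smooth)
    (RingHom.Smooth.stableUnderComposition.stableUnderCompositionWithLocalizationAway
      RingHom.Smooth.holdsForLocalizationAway).1]
  intro z
  have hι' : ∀ g, ι.left ≫ act X ρ g = ι.left := fun g => congrArg CommaMorphism.left (hι g)
  have hx : ∀ g, act X ρ g (ι.left z) = ι.left z := fun g => by
    rw [← Scheme.Hom.comp_apply, hι' g]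
  obtain ⟨U, V, hU, hV, hxV, hVU, hst⟩ := exists_stable_affine X ρ (ι.left z) hx
  have hW : IsAffineOpen (ι.left ⁻¹ᵁ V) := hV.preimage ι.left
  have hWU : ι.left ⁻¹ᵁ V ≤ Z.hom ⁻¹ᵁ U := by
    intro y hy
    show Z.hom y ∈ U
    have : Z.hom y = X.hom (ι.left y) := by rw [← Scheme.Hom.comp_apply, Over.w ι]
    rw [this]; exact hVU hy
  refine ⟨⟨U, hU⟩, ⟨ι.left ⁻¹ᵁ V, hW⟩, hxV, hWU, ?_⟩
  have hcomp : Z.hom.appLE U (ι.left ⁻¹ᵁ V) hWU =
      X.hom.appLE U V hVU ≫ ι.left.appLE V (ι.left ⁻¹ᵁ V) le_rfl := by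
    rw [Scheme.Hom.appLE_comp_appLE]
    exact appLE_congr_hom (Over.w ι).symm _ _ _
  show RingHom.Smooth (Z.hom.appLE U (ι.left ⁻¹ᵁ V) hWU).hom
  rw [hcomp, CommRingCat.hom_comp]
  -- notation
  have hσcomp : ∀ g, (act X ρ g).appLE V V (hst g) ≫ ι.left.appLE V (ι.left ⁻¹ᵁ V) le_rfl =
      ι.left.appLE V (ι.left ⁻¹ᵁ V) le_rfl := by
    intro g
    rw [Scheme.Hom.appLE_comp_appLE]
    exact appLE_congr_hom (hι' g) _ _ _
  refine smooth_comp (G := G) _ (Smooth.smooth_appLE X.hom hU hV hVU) _ ?_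
    (fun g => ((act X ρ g).appLE V V (hst g)).hom) ?_ ?_ ?_ ?_ ?_
  · -- surjective
    have : ι.left.appLE V (ι.left ⁻¹ᵁ V) le_rfl = ι.left.app V :=
      (Scheme.Hom.app_eq_appLE _).symm
    rw [this]
    exact Scheme.Hom.app_surjective ι.left V hV
  · -- σ 1 = id
    show ((act X ρ 1).appLE V V (hst 1)).hom = RingHom.id _
    rw [id_appLE' _ (act_one X ρ)]
    rfl
  · -- multiplicativity
    intro g h
    show ((act X ρ (g * h)).appLE V V (hst (g * h))).hom =
      ((act X ρ h).appLE V V (hst h)).hom.comp ((act X ρ g).appLE V V (hst g)).hom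
    rw [← CommRingCat.hom_comp, Scheme.Hom.appLE_comp_appLE]
    exact congrArg CommRingCat.Hom.hom (appLE_congr_hom (act_mul X ρ g h) _ _ _)
  · -- R-linearity
    intro g
    show ((act X ρ g).appLE V V (hst g)).hom.comp (X.hom.appLE U V hVU).hom =
      (X.hom.appLE U V hVU).hom
    rw [← CommRingCat.hom_comp, Scheme.Hom.appLE_comp_appLE]
    exact congrArg CommRingCat.Hom.hom (appLE_congr_hom (act_w X ρ g) _ _ _)
  · -- unit
    have := hG.map (S.presheaf.map (homOfLE (le_top : U ≤ ⊤)).op).hom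
    rwa [map_natCast] at this
  · -- kernel
    apply le_antisymm
    · -- ker ≤ span
      intro o ho
      set I : Ideal Γ(X.left, V) := Ideal.span {x | ∃ (g : G) (f : Γ(X.left, V)),
        x = ((act X ρ g).appLE V V (hst g)).hom f - f} with hI
      let q : Γ(X.left, V) ⟶ CommRingCat.of (Γ(X.left, V) ⧸ I) :=
        CommRingCat.ofHom (Ideal.Quotient.mk I)
      have hσq : ∀ g, (act X ρ g).appLE V V (hst g) ≫ q = q := by
        intro g
        ext f
        show Ideal.Quotient.mk I (((act X ρ g).appLE V V (hst g)).hom f) = Ideal.Quotient.mk I f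
        rw [Ideal.Quotient.eq]
        exact Ideal.subset_span ⟨g, f, rfl⟩
      let t : Spec (CommRingCat.of (Γ(X.left, V) ⧸ I)) ⟶ X.left := Spec.map q ≫ hV.fromSpec
      have ht : ∀ g, t ≫ act X ρ g = t := by
        intro g
        show (Spec.map q ≫ hV.fromSpec) ≫ act X ρ g = Spec.map q ≫ hV.fromSpec
        rw [Category.assoc, ← IsAffineOpen.SpecMap_appLE_fromSpec (act X ρ g) hV hV (hst g),
          ← Category.assoc, ← Spec.map_comp, hσq g]
      let T : Over S := Over.mk (t ≫ X.hom)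
      let tt : T ⟶ X := Over.homMk t rfl
      have htt : ∀ g : G, tt ≫ (ρ g).hom = tt := by
        intro g
        ext
        exact ht g
      obtain ⟨t', ht', -⟩ := (hZ T tt).mp htt
      have ht'' : t'.left ≫ ι.left = t := congrArg CommaMorphism.left ht'
      have hrange : Set.range t'.left ⊆ Set.range hW.fromSpec := by
        rw [hW.range_fromSpec]
        rintro _ ⟨y, rfl⟩
        show ι.left (t'.left y) ∈ V
        rw [← Scheme.Hom.comp_apply, ht'']
        have : t y ∈ Set.range hV.fromSpec := ⟨Spec.map q y, rfl⟩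
        rw [hV.range_fromSpec] at this
        exact this
      let l := IsOpenImmersion.lift hW.fromSpec t'.left hrange
      have hl : l ≫ hW.fromSpec = t'.left := IsOpenImmersion.lift_fac _ _ _
      have key : Spec.map q = Spec.map (ι.left.appLE V (ι.left ⁻¹ᵁ V) le_rfl ≫ Spec.preimage l) := by
        rw [← cancel_mono hV.fromSpec, Spec.map_comp, Spec.map_preimage, Category.assoc,
          IsAffineOpen.SpecMap_appLE_fromSpec ι.left hV hW le_rfl, ← Category.assoc, hl, ht'']
      have key2 := Spec.map_injective key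
      have : q.hom o = 0 := by
        rw [key2]
        show (Spec.preimage l).hom ((ι.left.appLE V (ι.left ⁻¹ᵁ V) le_rfl).hom o) = 0
        rw [RingHom.mem_ker.mp ho, map_zero]
      exact Ideal.Quotient.eq_zero_iff_mem.mp this
    · rw [Ideal.span_le]
      rintro _ ⟨g, f, rfl⟩
      rw [SetLike.mem_coe, RingHom.mem_ker, map_sub, sub_eq_zero]
      exact congrArg (fun m => m.hom f) (hσcomp g)

end Sch

end Groth.Agent.Helper8.FixPt
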