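import Mathlib

/-!
# Descent of flatness at a prime along a flat local covering of the base (S6919)
-/

set_option autoImplicit false

universe u

namespace Groth.Agent.Helper8.FlDesc

open TensorProduct

/-- primes of a tensor product over a pair of primes with the same contraction -/
theorem exists_prime_tensor (P B T : Type u) [CommRing P] [CommRing B] [CommRing T]
    [Algebra P B] [Algebra P T] (Q : PrimeSpectrum B) (p : PrimeSpectrum T)
    (h : PrimeSpectrum.comap (algebraMap P T) p = PrimeSpectrum.comap (algebraMap P B) Q) :
    ∃ z : PrimeSpectrum (T ⊗[P] B),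
      PrimeSpectrum.comap (algebraMap T (T ⊗[P] B)) z = p ∧
      PrimeSpectrum.comap (Algebra.TensorProduct.includeRight : B →ₐ[P] T ⊗[P] B).toRingHom z
        = Q := by
  have hpb := AlgebraicGeometry.isPullback_SpecMap_of_isPushout _ _ _ _
    (CommRingCat.isPushout_tensorProduct P T B)
  obtain ⟨z, hz1, hz2⟩ := AlgebraicGeometry.Scheme.exists_preimage_of_isPullback hpb p Q h
  exact ⟨z, hz1, hz2⟩

section LemmaD

variable {R A T : Type*} [CommRing R] [CommRing A] [CommRing T] [Algebra R A] [Algebra A T]
  [Algebra R T] [IsScalarTower R A T] [Module.FaithfullyFlat A T]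
  (Y : Type*) [AddCommGroup Y] [Module A Y] [Module R Y] [IsScalarTower R A Y]

/-- If `T` is faithfully flat over `A` and `T ⊗[A] Y` is flat over `R`, then `Y` is flat
over `R`. -/
theorem flat_of_flat_tensor (h : Module.Flat R (T ⊗[A] Y)) : Module.Flat R Y := by
  rw [Module.Flat.iff_lTensor_injective']
  intro I
  have h1 := (Module.Flat.iff_lTensor_injective'.mp h) I
  let ψ : Y ⊗[R] I →ₗ[A] Y ⊗[R] R := AlgebraTensorModule.lTensor A Y I.subtype
  let eI := AlgebraTensorModule.assoc R A T T Y I
  let eR := AlgebraTensorModule.assoc R A T T Y R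
  have hcomm : ∀ x, eR (LinearMap.lTensor (T ⊗[A] Y) I.subtype x) =
      LinearMap.lTensor T ψ (eI x) := by
    intro x
    induction x using TensorProduct.induction_on with
    | zero => simp
    | add a b ha hb => simp only [map_add, ha, hb]
    | tmul ty i =>
      induction ty using TensorProduct.induction_on with
      | zero => simp
      | add a b ha hb => simp only [add_tmul, map_add, ha, hb]
      | tmul t y => simp [eR, eI, ψ]
  have h2 : Function.Injective (LinearMap.lTensor T ψ) := by
    intro a b hab
    obtain ⟨a', rfl⟩ := eI.surjective a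
    obtain ⟨b', rfl⟩ := eI.surjective b
    rw [← hcomm, ← hcomm] at hab
    have := h1 (eR.injective hab)
    rw [this]
  have h3 : Function.Injective ψ :=
    (Module.FaithfullyFlat.lTensor_injective_iff_injective A T ψ).mp h2
  exact h3

end LemmaD

section LemmaF

variable {R S R' S' : Type u} [CommRing R] [CommRing S] [CommRing R'] [CommRing S']
    [Algebra R S] [Algebra R R'] [Algebra S S'] [Algebra R' S'] [Algebra R S'] [IsScalarTower R S S']
    [IsScalarTower R R' S'] [Algebra.IsPushout R S R' S']

/-- The local ring of `S' = S ⊗[R] R'` at a prime `q'` over `p'` is flat over `S` when the local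
ring of `R'` at `p'` is flat over `R`. -/
theorem flat_localization_of_flat (p' : Ideal R') [p'.IsPrime] (q' : Ideal S') [q'.IsPrime]
    (hq'p' : q'.comap (algebraMap R' S') = p')
    (hfl : Module.Flat R (Localization.AtPrime p')) :
    Module.Flat S (Localization.AtPrime q') := by
  let Rp' := Localization.AtPrime p'
  let C := Localization (Algebra.algebraMapSubmonoid S' p'.primeCompl)
  let T := Localization.AtPrime q'
  haveI t1 : IsScalarTower R Rp' C := IsScalarTower.to₁₃₄ R R' Rp' C
  haveI hpush1 : Algebra.IsPushout R' S' Rp' C :=
    Algebra.isPushout_of_isLocalization p'.primeCompl Rp' S' C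
  haveI hsymm : Algebra.IsPushout R R' S S' := Algebra.IsPushout.symm inferInstance
  have hpush2 : Algebra.IsPushout R Rp' S C :=
    (Algebra.IsPushout.comp_iff R R' S (S' := S') (T := Rp') (T' := C)).mpr hpush1.symm
  have hpush3 : Algebra.IsPushout R S Rp' C := hpush2.symm
  haveI hflC : Module.Flat S C := Module.Flat.isBaseChange (R := R) (S := S) (M := Rp') C hpush3.out
  -- `T` is a localization of `C`
  have hle : Algebra.algebraMapSubmonoid S' p'.primeCompl ≤ q'.primeCompl := by
    rintro _ ⟨r, hr, rfl⟩
    intro hmem
    apply hr
    rw [← hq'p']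
    exact hmem
  letI algCT : Algebra C T := IsLocalization.localizationAlgebraOfSubmonoidLe C T
    (Algebra.algebraMapSubmonoid S' p'.primeCompl) q'.primeCompl hle
  haveI t2 : IsScalarTower S' C T := IsLocalization.localization_isScalarTower_of_submonoid_le C T
    (Algebra.algebraMapSubmonoid S' p'.primeCompl) q'.primeCompl hle
  haveI hloc : IsLocalization (q'.primeCompl.map (algebraMap S' C)) T :=
    IsLocalization.isLocalization_of_submonoid_le C T
      (Algebra.algebraMapSubmonoid S' p'.primeCompl) q'.primeCompl hle
  haveI hflT : Module.Flat C T := IsLocalization.flat T (q'.primeCompl.map (algebraMap S' C))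
  haveI t3 : IsScalarTower S C T := IsScalarTower.to₁₃₄ S S' C T
  exact Module.Flat.trans S C T

end LemmaF

end Groth.Agent.Helper8.FlDesc
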