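import Mathlib
import Groth.Prelude.Def_FlatCA
import Groth.Agent.Helper8.FlDescA

/-!
# Descent of flatness at a prime (S6919): main argument
-/

set_option autoImplicit false

universe u

namespace Groth.Agent.Helper8.FlDesc

open TensorProduct

section Main

variable {R S R' S' : Type u} [CommRing R] [CommRing S] [CommRing R'] [CommRing S']
    [Algebra R S] [Algebra R R'] [Algebra S S'] [Algebra R' S'] [Algebra R S'] [IsScalarTower R S S']
    [IsScalarTower R R' S'] [Algebra.IsPushout R S R' S']
    {M M' : Type u} [AddCommGroup M] [Module S M] [Module R M] [IsScalarTower R S M]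
    [AddCommGroup M'] [Module S' M'] [Module R' M'] [IsScalarTower R' S' M'] [Module S M']
    [IsScalarTower S S' M']

set_option maxHeartbeats 1000000 in
/-- the key descent step at a single pair of primes -/
theorem flat_descent_at (f : M →ₗ[S] M') (hf : IsBaseChange S' f)
    (q : Ideal S) [q.IsPrime] (p' : Ideal R') [p'.IsPrime] (q' : Ideal S') [q'.IsPrime]
    (hq'q : q'.comap (algebraMap S S') = q) (hq'p' : q'.comap (algebraMap R' S') = p')
    (hfl : Module.Flat R (Localization.AtPrime p'))
    (hX : Module.Flat R' (LocalizedModule q'.primeCompl M')) :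
    Module.Flat R (LocalizedModule q.primeCompl M) := by
  let A := Localization.AtPrime q
  let T := Localization.AtPrime q'
  let Rp' := Localization.AtPrime p'
  let Y := LocalizedModule q.primeCompl M
  let X' := LocalizedModule q'.primeCompl M'
  -- algebra `A → T`
  letI algAT : Algebra A T :=
    (Localization.localRingHom q q' (algebraMap S S') hq'q.symm).toAlgebra
  have hAT : ∀ s : S, algebraMap A T (algebraMap S A s) = algebraMap S' T (algebraMap S S' s) :=
    fun s => Localization.localRingHom_to_map q q' (algebraMap S S') hq'q.symm s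
  haveI tSAT : IsScalarTower S A T := IsScalarTower.of_algebraMap_eq (fun s => by
    rw [hAT, ← IsScalarTower.algebraMap_apply S S' T])
  haveI tRAT : IsScalarTower R A T := IsScalarTower.of_algebraMap_eq (fun r => by
    rw [IsScalarTower.algebraMap_apply R S A, hAT, ← IsScalarTower.algebraMap_apply S S' T,
      ← IsScalarTower.algebraMap_apply R S T])
  haveI hlocal : IsLocalHom (algebraMap A T) :=
    Localization.isLocalHom_localRingHom q q' (algebraMap S S') hq'q.symm
  -- flatness of `T` over `A`
  haveI hflST : Module.Flat S T := flat_localization_of_flat p' q' hq'p' hfl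
  haveI hflAT : Module.Flat A T := (Module.flat_iff_of_isLocalization A q.primeCompl T).mpr hflST
  haveI hff : Module.FaithfullyFlat A T := Module.FaithfullyFlat.of_flat_of_isLocalHom
  -- algebra `Rp' → T`
  letI algRpT : Algebra Rp' T :=
    (Localization.localRingHom p' q' (algebraMap R' S') hq'p'.symm).toAlgebra
  have hRpT : ∀ r : R', algebraMap Rp' T (algebraMap R' Rp' r) =
      algebraMap S' T (algebraMap R' S' r) :=
    fun r => Localization.localRingHom_to_map p' q' (algebraMap R' S') hq'p'.symm r
  -- module structures on `X'`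
  letI modRp : Module Rp' X' := Module.compHom X' (algebraMap Rp' T)
  haveI tRp : IsScalarTower R' Rp' X' := ⟨fun r a x => by
    show (algebraMap Rp' T (r • a)) • x = r • ((algebraMap Rp' T a) • x)
    rw [Algebra.smul_def, map_mul, hRpT, ← IsScalarTower.algebraMap_apply R' S' T, mul_smul,
      algebraMap_smul]⟩
  haveI hflRp : Module.Flat Rp' X' :=
    (Module.flat_iff_of_isLocalization Rp' p'.primeCompl X').mpr hX
  letI modR : Module R X' := Module.compHom X' (algebraMap R T)
  haveI tRT : IsScalarTower R T X' := ⟨fun r t x => by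
    show (r • t) • x = (algebraMap R T r) • (t • x)
    rw [Algebra.smul_def, mul_smul]⟩
  haveI tRRp : IsScalarTower R Rp' X' := ⟨fun r a x => by
    show (algebraMap Rp' T (r • a)) • x = (algebraMap R T r) • ((algebraMap Rp' T a) • x)
    rw [Algebra.smul_def, map_mul, IsScalarTower.algebraMap_apply R R' Rp', hRpT,
      ← IsScalarTower.algebraMap_apply R' S' T, ← IsScalarTower.algebraMap_apply R R' T, mul_smul]⟩
  haveI hflRX : Module.Flat R X' := Module.Flat.trans R Rp' X'
  -- the chain of isomorphisms
  let e1 : T ⊗[S'] M' ≃ₗ[T] X' :=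
    (IsLocalizedModule.isBaseChange q'.primeCompl T
      (LocalizedModule.mkLinearMap q'.primeCompl M')).equiv
  let e2 : T ⊗[S'] (S' ⊗[S] M) ≃ₗ[T] T ⊗[S'] M' :=
    AlgebraTensorModule.congr (LinearEquiv.refl T T) hf.equiv
  let e3 : T ⊗[S'] (S' ⊗[S] M) ≃ₗ[T] T ⊗[S] M :=
    AlgebraTensorModule.cancelBaseChange S S' T T M
  let e4 : T ⊗[A] (A ⊗[S] M) ≃ₗ[T] T ⊗[S] M :=
    AlgebraTensorModule.cancelBaseChange S A T T M
  let e5 : A ⊗[S] M ≃ₗ[A] Y :=
    (IsLocalizedModule.isBaseChange q.primeCompl A
      (LocalizedModule.mkLinearMap q.primeCompl M)).equiv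
  let e6 : T ⊗[A] (A ⊗[S] M) ≃ₗ[T] T ⊗[A] Y :=
    AlgebraTensorModule.congr (LinearEquiv.refl T T) e5
  let E : X' ≃ₗ[T] T ⊗[A] Y := e1.symm ≪≫ₗ e2.symm ≪≫ₗ e3 ≪≫ₗ e4.symm ≪≫ₗ e6
  have hflTY : Module.Flat R (T ⊗[A] Y) :=
    Module.Flat.of_linearEquiv (E.restrictScalars R).symm
  exact flat_of_flat_tensor (R := R) (A := A) (T := T) Y hflTY

end Main

end Groth.Agent.Helper8.FlDesc
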