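import Mathlib
import Groth.Prelude.Def_FlatCA
import Groth.Agent.Helper8.FlDescB

/-!
# Descent of flatness at primes over ideals (S6919)
-/

set_option autoImplicit false

universe u

namespace Groth.Agent.Helper8.FlDesc

open TensorProduct

theorem main {R S R' S' : Type u} [CommRing R] [CommRing S] [CommRing R'] [CommRing S']
    [Algebra R S] [Algebra R R'] [Algebra S S'] [Algebra R' S'] [Algebra R S'] [IsScalarTower R S S']
    [IsScalarTower R R' S'] [Algebra.IsPushout R S R' S']
    (I : Ideal R) (I' : Ideal R')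
    {M M' : Type u} [AddCommGroup M] [Module S M] [Module R M] [IsScalarTower R S M]
    [AddCommGroup M'] [Module S' M'] [Module R' M'] [IsScalarTower R' S' M'] [Module S M']
    [IsScalarTower S S' M']
    (f : M →ₗ[S] M') (hf : IsBaseChange S' f) (J : Ideal S)
    (hsurj : ∀ (p : Ideal R) [p.IsPrime], I ≤ p → ∃ (p' : Ideal R') (_ : p'.IsPrime),
      I' ≤ p' ∧ p'.comap (algebraMap R R') = p)
    (hflat : ∀ (p' : Ideal R') [p'.IsPrime], I' ≤ p' → Module.Flat R (Localization.AtPrime p'))
    (h : (∀ (q : Ideal S') [q.IsPrime],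
      I'.map (algebraMap R' S') ⊔ J.map (algebraMap S S') ≤ q → FlatCA.FlatAt R' q M')) :
    (∀ (q : Ideal S) [q.IsPrime], I.map (algebraMap R S) ⊔ J ≤ q → FlatCA.FlatAt R q M) := by
  intro q hq hle
  have hIp : I ≤ q.comap (algebraMap R S) := Ideal.map_le_iff_le_comap.mp (le_sup_left.trans hle)
  obtain ⟨p', hp', hI'p', hp'p⟩ := hsurj (q.comap (algebraMap R S)) hIp
  obtain ⟨z, hz1, hz2⟩ := exists_prime_tensor R R' S ⟨p', hp'⟩ ⟨q, hq⟩ (by
    apply PrimeSpectrum.ext
    exact hp'p.symm)
  have hz1' : z.asIdeal.comap (algebraMap S (S ⊗[R] R')) = q := congrArg PrimeSpectrum.asIdeal hz1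
  have hz2' : z.asIdeal.comap
      (Algebra.TensorProduct.includeRight : R' →ₐ[R] S ⊗[R] R').toRingHom = p' :=
    congrArg PrimeSpectrum.asIdeal hz2
  let e : S ⊗[R] R' ≃ₐ[S] S' := Algebra.IsPushout.equiv R S R' S'
  let q' : Ideal S' := z.asIdeal.comap (e.symm : S' →+* S ⊗[R] R')
  haveI hq'prime : q'.IsPrime := Ideal.comap_isPrime _ _
  have hq'q : q'.comap (algebraMap S S') = q := by
    rw [← hz1']
    ext x
    simp only [q', Ideal.mem_comap]
    have : (e.symm : S' →+* S ⊗[R] R') (algebraMap S S' x) = algebraMap S (S ⊗[R] R') x :=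
      Algebra.IsPushout.equiv_symm_algebraMap_left R S R' S' x
    rw [this]
  have hq'p' : q'.comap (algebraMap R' S') = p' := by
    rw [← hz2']
    ext x
    simp only [q', Ideal.mem_comap]
    have : (e.symm : S' →+* S ⊗[R] R') (algebraMap R' S' x) = (1 : S) ⊗ₜ[R] x :=
      Algebra.IsPushout.equiv_symm_algebraMap_right R S R' S' x
    rw [this]
    rfl
  have hq'le : I'.map (algebraMap R' S') ⊔ J.map (algebraMap S S') ≤ q' := by
    apply sup_le
    · rw [Ideal.map_le_iff_le_comap, hq'p']; exact hI'p'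
    · rw [Ideal.map_le_iff_le_comap, hq'q]; exact le_sup_right.trans hle
  have hX : Module.Flat R' (LocalizedModule q'.primeCompl M') := h q' hq'le
  exact flat_descent_at f hf q p' q' hq'q hq'p' (hflat p' hI'p') hX

end Groth.Agent.Helper8.FlDesc
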