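import Mathlib
import Groth.Agent.Helper1.FlatCxLinAlg
set_option autoImplicit false


open CategoryTheory CategoryTheory.Limits

namespace Groth.Agent.Helper8.FlatCyc

universe u

variable {A : Type u} [CommRing A] (F : CochainComplex (ModuleCat.{u} A) ℤ)

theorem iCycles_injective (p : ℤ) : Function.Injective (F.iCycles p) :=
  (ModuleCat.mono_iff_injective _).mp inferInstance

theorem d_iCycles (p q : ℤ) (z : F.cycles p) : (F.d p q) ((F.iCycles p) z) = 0 := by
  have := F.iCycles_d p q
  have h2 : (F.iCycles p ≫ F.d p q).hom z = (0 : F.cycles p ⟶ F.X q).hom z := by rw [this]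
  exact h2

theorem iCycles_toCycles (p q : ℤ) (y : F.X p) :
    (F.iCycles q) ((F.toCycles p q) y) = (F.d p q) y := by
  have := F.toCycles_i p q
  have h2 : (F.toCycles p q ≫ F.iCycles q).hom y = (F.d p q).hom y := by rw [this]
  exact h2

theorem exists_cycle (p : ℤ) (y : F.X p) (hy : (F.d p (p + 1)) y = 0) :
    ∃ z : F.cycles p, (F.iCycles p) z = y := by
  have hS : (ShortComplex.mk (F.iCycles p) (F.d p (p + 1)) (F.iCycles_d p (p + 1))).Exact :=
    ShortComplex.exact_of_f_is_kernel _ (F.cyclesIsKernel p (p + 1) (by simp))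
  rw [ShortComplex.moduleCat_exact_iff] at hS
  exact hS y hy

theorem toCycles_surjective (p : ℤ) (h : F.ExactAt (p + 1)) :
    Function.Surjective (F.toCycles p (p + 1)) := by
  rw [HomologicalComplex.exactAt_iff' _ p (p + 1) (p + 1 + 1) (by simp) (by simp),
    ShortComplex.moduleCat_exact_iff] at h
  intro z
  obtain ⟨y, hy⟩ := h ((F.iCycles (p + 1)) z) (d_iCycles F (p + 1) (p + 1 + 1) z)
  have hy' : (F.d p (p + 1)) (y : F.X p) = (F.iCycles (p + 1)) z := hy
  refine ⟨(y : F.X p), ?_⟩
  apply iCycles_injective F (p + 1)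
  exact (iCycles_toCycles F p (p + 1) (y : F.X p)).trans hy'

theorem exact_iCycles_toCycles (p : ℤ) :
    Function.Exact (F.iCycles p).hom (F.toCycles p (p + 1)).hom := by
  intro y
  constructor
  · intro hy
    have h1 : (F.d p (p + 1)) y = 0 := by
      rw [← iCycles_toCycles]
      have : (F.toCycles p (p + 1)) y = 0 := hy
      rw [this, map_zero]
    obtain ⟨z, hz⟩ := exists_cycle F p y h1
    exact ⟨z, hz⟩
  · rintro ⟨z, rfl⟩
    apply iCycles_injective F (p + 1)
    have := iCycles_toCycles F p (p + 1) ((F.iCycles p) z)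
    rw [d_iCycles] at this
    rw [map_zero]
    exact this

theorem flat_cycles_step (p : ℤ) (hX : Module.Flat A (F.X p)) (hZ : Module.Flat A (F.cycles (p + 1)))
    (h : F.ExactAt (p + 1)) : Module.Flat A (F.cycles p) :=
  Groth.Agent.Helper1.FlatCx.flat_of_exact_of_flat (F.iCycles p).hom (F.toCycles p (p + 1)).hom
    (iCycles_injective F p) (toCycles_surjective F p h) (exact_iCycles_toCycles F p)

theorem s14612 (hF : ∀ i, Module.Flat A (F.X i))
    (hb : ∃ b : ℤ, ∀ i, b < i → IsZero (F.X i)) (d : ℤ) (hac : ∀ p, d < p → IsZero (F.homology p)) :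
    Module.Flat A (F.cycles d) := by
  obtain ⟨b, hb⟩ := hb
  have key : ∀ n : ℕ, ∀ p : ℤ, d ≤ p → b + 1 ≤ p + n → Module.Flat A (F.cycles p) := by
    intro n
    induction n with
    | zero =>
      intro p _ hp
      have h0 : IsZero (F.X p) := hb p (by omega)
      have h1 : Subsingleton (F.X p) := ModuleCat.subsingleton_of_isZero h0
      have h2 : Subsingleton (F.cycles p) := (iCycles_injective F p).subsingleton
      infer_instance
    | succ n ih =>
      intro p hdp hp
      have hZ := ih (p + 1) (by omega) (by omega)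
      have hex : F.ExactAt (p + 1) := by
        rw [HomologicalComplex.exactAt_iff_isZero_homology]
        exact hac (p + 1) (by omega)
      exact flat_cycles_step F p (hF p) hZ hex
  exact key (b + 1 - d).toNat d le_rfl (by omega)

end Groth.Agent.Helper8.FlatCyc
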