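import Mathlib

set_option autoImplicit false
universe u

namespace Groth.Agent.Helper8.FlatLocMod

theorem flat_locMod_iff {A R : Type u} [CommRing A] [CommRing R] [Algebra A R] (p : Ideal R) [p.IsPrime] :
    Module.Flat A (LocalizedModule p.primeCompl R) ↔ Module.Flat A (Localization.AtPrime p) := by
  have e : LocalizedModule p.primeCompl R ≃ₗ[R] Localization.AtPrime p :=
    IsLocalizedModule.iso p.primeCompl (Algebra.linearMap R (Localization.AtPrime p))
  have eA : LocalizedModule p.primeCompl R ≃ₗ[A] Localization.AtPrime p := e.restrictScalars A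
  exact ⟨fun h => Module.Flat.of_linearEquiv eA.symm, fun h => Module.Flat.of_linearEquiv eA⟩

end Groth.Agent.Helper8.FlatLocMod
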