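import Mathlib

set_option autoImplicit false
universe u

namespace Groth.Agent.Helper8.FlatZModPow

open TensorProduct

variable (p n : ℕ) [hp : Fact p.Prime]

omit hp in
theorem pow_n_eq_zero : ((p : ZMod (p ^ n)) ^ n) = 0 := by
  rw [← Nat.cast_pow, ZMod.natCast_self]

/-- annihilator of `p^i` in `ZMod (p^n)` -/
theorem exists_eq_mul_of_mul_eq_zero (i : ℕ) (hi : i ≤ n) (a : ZMod (p ^ n))
    (ha : (p : ZMod (p ^ n)) ^ i * a = 0) : ∃ c : ZMod (p ^ n), a = (p : ZMod (p ^ n)) ^ (n - i) * c := by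
  haveI : NeZero (p ^ n) := ⟨pow_ne_zero _ hp.out.ne_zero⟩
  obtain ⟨x, rfl⟩ := ZMod.natCast_zmod_surjective a
  rw [← Nat.cast_pow, ← Nat.cast_mul, ZMod.natCast_eq_zero_iff] at ha
  have h1 : p ^ n = p ^ i * p ^ (n - i) := by rw [← pow_add]; congr 1; omega
  rw [h1] at ha
  have h2 : p ^ (n - i) ∣ x := (Nat.mul_dvd_mul_iff_left (pow_pos hp.out.pos i)).1 ha
  obtain ⟨c, rfl⟩ := h2
  exact ⟨(c : ZMod (p ^ n)), by push_cast; ring⟩

/-- ideals of `ZMod (p^n)` -/
theorem ideal_eq_span (I : Ideal (ZMod (p ^ n))) :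
    ∃ i, i ≤ n ∧ I = Ideal.span {(p : ZMod (p ^ n)) ^ i} := by
  let f : ℤ →+* ZMod (p ^ n) := Int.castRingHom _
  have hf : Function.Surjective f := ZMod.intCast_surjective
  let J : Ideal ℤ := I.comap f
  obtain ⟨a, ha⟩ : ∃ a, J = Ideal.span {a} := (IsPrincipalIdealRing.principal J).principal
  have hpn : ((p ^ n : ℕ) : ℤ) ∈ J := by
    show f ((p ^ n : ℕ) : ℤ) ∈ I
    have : f ((p ^ n : ℕ) : ℤ) = 0 := by
      show (((p ^ n : ℕ) : ℤ) : ZMod (p ^ n)) = 0
      rw [Int.cast_natCast, ZMod.natCast_self]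
    rw [this]
    exact I.zero_mem
  rw [ha, Ideal.mem_span_singleton] at hpn
  have h1 : a.natAbs ∣ p ^ n := by
    have := Int.natAbs_dvd_natAbs.2 hpn
    rwa [Int.natAbs_natCast] at this
  obtain ⟨i, hi, hai⟩ := (Nat.dvd_prime_pow hp.out).1 h1
  refine ⟨i, hi, ?_⟩
  have hJ : J = Ideal.span {((p ^ i : ℕ) : ℤ)} := by
    rw [ha, ← hai, Int.span_natAbs]
  have hI : I = J.map f := (Ideal.map_comap_of_surjective f hf I).symm
  rw [hI, hJ, Ideal.map_span, Set.image_singleton]
  congr 2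
  show (((p ^ i : ℕ) : ℤ) : ZMod (p ^ n)) = _
  push_cast
  rfl

theorem main (H : Type u) [AddCommGroup H] [Module (ZMod (p ^ n)) H] :
    Module.Flat (ZMod (p ^ n)) H ↔
      ∀ i : ℕ, i ≤ n →
        LinearMap.ker ((p ^ i : ZMod (p ^ n)) • (LinearMap.id : H →ₗ[ZMod (p ^ n)] H)) =
          LinearMap.range ((p ^ (n - i) : ZMod (p ^ n)) • (LinearMap.id : H →ₗ[ZMod (p ^ n)] H)) := by
  constructor
  · intro hflat i hi
    apply le_antisymm
    · intro h hh
      rw [LinearMap.mem_ker, LinearMap.smul_apply, LinearMap.id_apply] at hh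
      have hrel : ∑ _j : Fin 1, (fun _ : Fin 1 => (p : ZMod (p ^ n)) ^ i) _j •
          (fun _ : Fin 1 => h) _j = 0 := by
        simpa using hh
      obtain ⟨k, a, y, hxy, hfa⟩ := Module.Flat.isTrivialRelation_of_sum_smul_eq_zero hrel
      have hc : ∀ j, ∃ c : ZMod (p ^ n), a 0 j = (p : ZMod (p ^ n)) ^ (n - i) * c := by
        intro j
        apply exists_eq_mul_of_mul_eq_zero p n i hi
        simpa using hfa j
      choose c hc using hc
      rw [LinearMap.mem_range]
      refine ⟨∑ j, c j • y j, ?_⟩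
      have hx0 : h = ∑ j, a 0 j • y j := hxy 0
      rw [LinearMap.smul_apply, LinearMap.id_apply, Finset.smul_sum, hx0]
      apply Finset.sum_congr rfl
      intro j _
      rw [hc j, mul_smul]
    · rintro h ⟨h', rfl⟩
      rw [LinearMap.mem_ker, LinearMap.smul_apply, LinearMap.id_apply, LinearMap.smul_apply,
        LinearMap.id_apply, ← mul_smul, ← pow_add]
      have : i + (n - i) = n := by omega
      rw [this, pow_n_eq_zero, zero_smul]
  · intro hker
    rw [Module.Flat.iff_rTensor_injective']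
    intro I
    obtain ⟨i, hi, rfl⟩ := ideal_eq_span p n I
    set q : ZMod (p ^ n) := (p : ZMod (p ^ n)) ^ i with hq
    have hqmem : q ∈ Ideal.span {q} := Ideal.mem_span_singleton_self q
    -- every element is a pure tensor with first component q
    have hpure : ∀ z : (Ideal.span {q} : Ideal (ZMod (p ^ n))) ⊗[ZMod (p ^ n)] H,
        ∃ h : H, z = (⟨q, hqmem⟩ : (Ideal.span {q} : Ideal (ZMod (p ^ n)))) ⊗ₜ[ZMod (p ^ n)] h := by
      intro z
      induction z using TensorProduct.induction_on with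
      | zero => exact ⟨0, by rw [tmul_zero]⟩
      | tmul x h =>
        obtain ⟨r, hr⟩ := Ideal.mem_span_singleton'.1 x.2
        refine ⟨r • h, ?_⟩
        rw [tmul_smul, smul_tmul']
        congr 1
        apply Subtype.ext
        rw [Submodule.coe_smul, smul_eq_mul, hr]
      | add z z' hz hz' =>
        obtain ⟨h, rfl⟩ := hz
        obtain ⟨h', rfl⟩ := hz'
        exact ⟨h + h', by rw [tmul_add]⟩
    rw [injective_iff_map_eq_zero]
    intro z hz
    obtain ⟨h, rfl⟩ := hpure z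
    rw [LinearMap.rTensor_tmul, Submodule.subtype_apply] at hz
    have hqh : q • h = 0 := by
      have := congrArg (TensorProduct.lid (ZMod (p ^ n)) H) hz
      rwa [TensorProduct.lid_tmul, map_zero] at this
    have hmem : h ∈ LinearMap.ker ((p ^ i : ZMod (p ^ n)) •
        (LinearMap.id : H →ₗ[ZMod (p ^ n)] H)) := by
      rw [LinearMap.mem_ker, LinearMap.smul_apply, LinearMap.id_apply]
      exact hqh
    rw [hker i hi] at hmem
    obtain ⟨h', rfl⟩ := hmem
    rw [LinearMap.smul_apply, LinearMap.id_apply, tmul_smul, smul_tmul']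
    have : ((p : ZMod (p ^ n)) ^ (n - i)) • (⟨q, hqmem⟩ : (Ideal.span {q} : Ideal (ZMod (p ^ n)))) = 0 := by
      apply Subtype.ext
      rw [Submodule.coe_smul, smul_eq_mul]
      show (p : ZMod (p ^ n)) ^ (n - i) * q = 0
      rw [hq, ← pow_add]
      have : n - i + i = n := by omega
      rw [this, pow_n_eq_zero]
    rw [this, zero_tmul]

end Groth.Agent.Helper8.FlatZModPow
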