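import Mathlib
import Groth.Agent.Helper2.NilpCrit
import Groth.Agent.Helper8.FlatZModPow

set_option autoImplicit false
universe u

namespace Groth.Agent.Helper8.FlatSqZeroP

open TensorProduct

theorem main (p : ℕ) [Fact p.Prime]
    (Al : Type u) [CommRing Al] [Algebra (ZMod (p ^ 2)) Al] [Module.Flat (ZMod (p ^ 2)) Al]
    (Bl : Type u) [CommRing Bl] [Algebra Al Bl]
    (hB : Module.Flat (Al ⧸ Ideal.span {(p : Al)})
      (Bl ⧸ (Ideal.span {(p : Al)}).map (algebraMap Al Bl))) :
    Module.Flat Al Bl ↔ ∀ b : Bl, (p : Bl) * b = 0 → b ∈ Ideal.span {(p : Bl)} := by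
  have hp2 : (p : Al) ^ 2 = 0 := by
    have h1 : ((p : ZMod (p ^ 2)) ^ 2) = 0 := FlatZModPow.pow_n_eq_zero p 2
    have h2 := congrArg (algebraMap (ZMod (p ^ 2)) Al) h1
    simpa using h2
  constructor
  · intro hflat b hb
    letI : Algebra (ZMod (p ^ 2)) Bl := ((algebraMap Al Bl).comp (algebraMap (ZMod (p ^ 2)) Al)).toAlgebra
    haveI : IsScalarTower (ZMod (p ^ 2)) Al Bl := IsScalarTower.of_algebraMap_eq (fun _ => rfl)
    haveI : Module.Flat (ZMod (p ^ 2)) Bl := Module.Flat.trans (ZMod (p ^ 2)) Al Bl
    have hker := (FlatZModPow.main p 2 Bl).1 inferInstance 1 (by norm_num)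
    have hpB : ∀ x : Bl, (p : ZMod (p ^ 2)) • x = (p : Bl) * x := by
      intro x
      rw [Algebra.smul_def, map_natCast]
    have hmem : b ∈ LinearMap.ker (((p : ZMod (p ^ 2)) ^ 1) •
        (LinearMap.id : Bl →ₗ[ZMod (p ^ 2)] Bl)) := by
      rw [LinearMap.mem_ker, LinearMap.smul_apply, LinearMap.id_apply, pow_one, hpB]
      exact hb
    rw [hker] at hmem
    obtain ⟨b', hb'⟩ := hmem
    rw [LinearMap.smul_apply, LinearMap.id_apply, show 2 - 1 = 1 from rfl, pow_one, hpB] at hb'
    rw [Ideal.mem_span_singleton]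
    exact ⟨b', hb'.symm⟩
  · intro hcond
    set J : Ideal Al := Ideal.span {(p : Al)} with hJ
    have hJ2 : J ^ 2 = ⊥ := by
      rw [hJ, Ideal.span_singleton_pow, hp2]
      simp
    haveI : Module.Flat (Al ⧸ J) ((Al ⧸ J) ⊗[Al] Bl) :=
      Module.Flat.of_linearEquiv
        (Algebra.TensorProduct.quotIdealMapEquivQuotTensor Bl J).symm.toLinearEquiv
    apply Groth.Agent.Helper2.NilpCrit.flat_of_nilpotent J ⟨2, hJ2⟩
    intro j
    have hpmem : (p : Al) ∈ J := Ideal.mem_span_singleton_self _
    rcases Nat.lt_or_ge j 2 with hj | hj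
    · interval_cases j
      · -- J^0 = ⊤
        rw [pow_zero, Ideal.one_eq_top]
        have : Function.Injective ((⊤ : Ideal Al).subtype) := Subtype.val_injective
        have hsurj : Function.Surjective ((⊤ : Ideal Al).subtype) := fun x => ⟨⟨x, trivial⟩, rfl⟩
        let e : (⊤ : Ideal Al) ≃ₗ[Al] Al := LinearEquiv.ofBijective _ ⟨this, hsurj⟩
        have : LinearMap.rTensor Bl ((⊤ : Ideal Al).subtype) =
            (TensorProduct.congr e (LinearEquiv.refl Al Bl)).toLinearMap := by
          ext x b
          rfl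
        rw [this]
        exact LinearEquiv.injective _
      · rw [pow_one]
        have hpure : ∀ z : J ⊗[Al] Bl, ∃ b : Bl, z = (⟨(p : Al), hpmem⟩ : J) ⊗ₜ[Al] b := by
          intro z
          induction z using TensorProduct.induction_on with
          | zero => exact ⟨0, by rw [tmul_zero]⟩
          | tmul x b =>
            obtain ⟨r, hr⟩ := Ideal.mem_span_singleton'.1 x.2
            refine ⟨r • b, ?_⟩
            rw [tmul_smul, smul_tmul']
            congr 1
            apply Subtype.ext
            rw [Submodule.coe_smul, smul_eq_mul, hr]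
          | add z z' hz hz' =>
            obtain ⟨b, rfl⟩ := hz
            obtain ⟨b', rfl⟩ := hz'
            exact ⟨b + b', by rw [tmul_add]⟩
        rw [injective_iff_map_eq_zero]
        intro z hz
        obtain ⟨b, rfl⟩ := hpure z
        rw [LinearMap.rTensor_tmul, Submodule.subtype_apply] at hz
        have hpb : (p : Bl) * b = 0 := by
          have := congrArg (TensorProduct.lid Al Bl) hz
          rw [TensorProduct.lid_tmul, map_zero, Algebra.smul_def, map_natCast] at this
          exact this
        obtain ⟨b', rfl⟩ := Ideal.mem_span_singleton'.1 (hcond b hpb)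
        have hb' : b' * (p : Bl) = (p : Al) • b' := by
          rw [Algebra.smul_def, map_natCast, mul_comm]
        rw [hb', tmul_smul, smul_tmul']
        have : (p : Al) • (⟨(p : Al), hpmem⟩ : J) = 0 := by
          apply Subtype.ext
          rw [Submodule.coe_smul, smul_eq_mul]
          show (p : Al) * (p : Al) = 0
          rw [← sq, hp2]
        rw [this, zero_tmul]
    · have hJj : J ^ j = ⊥ := by
        obtain ⟨c, rfl⟩ := Nat.exists_eq_add_of_le hj
        rw [pow_add, hJ2, Ideal.bot_mul]
      have hsub : Subsingleton ((J ^ j : Ideal Al) ⊗[Al] Bl) := by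
        haveI : Subsingleton (J ^ j : Ideal Al) := by
          rw [hJj]
          infer_instance
        infer_instance
      intro x y _
      exact Subsingleton.elim _ _

end Groth.Agent.Helper8.FlatSqZeroP
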