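import Mathlib

set_option autoImplicit false

namespace Groth.Agent.Helper8.FormalDisc

open MvPowerSeries

universe u

section Construction

variable (k : Type u) [Field k] (n : ℕ) (R : Type u) [CommRing R]
  [Algebra (MvPowerSeries (Fin n) k) R]

/-- polynomial ring on the would-be coefficients -/
abbrev S := MvPolynomial (R × (Fin n →₀ ℕ)) k

/-- the relations saying that `r ↦ ∑ X (r, m) z^m` is a `k[[z]]`-algebra hom -/
inductive Rel : S k n R → Prop
  | add (r s : R) (m : Fin n →₀ ℕ) :
      Rel (MvPolynomial.X (r + s, m) - MvPolynomial.X (r, m) - MvPolynomial.X (s, m))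
  | mul (r s : R) (m : Fin n →₀ ℕ) :
      Rel (MvPolynomial.X (r * s, m) -
        ∑ p ∈ Finset.HasAntidiagonal.antidiagonal m, MvPolynomial.X (r, p.1) * MvPolynomial.X (s, p.2))
  | alg (c : MvPowerSeries (Fin n) k) (m : Fin n →₀ ℕ) :
      Rel (MvPolynomial.X (algebraMap (MvPowerSeries (Fin n) k) R c, m) -
        MvPolynomial.C (coeff m c))

noncomputable def I : Ideal (S k n R) := Ideal.span {x | Rel k n R x}

abbrev P := S k n R ⧸ I k n R

noncomputable def gen (r : R) (m : Fin n →₀ ℕ) : P k n R :=
  Ideal.Quotient.mk (I k n R) (MvPolynomial.X (r, m))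

theorem gen_add (r s : R) (m : Fin n →₀ ℕ) :
    gen k n R (r + s) m = gen k n R r m + gen k n R s m := by
  have h : Ideal.Quotient.mk (I k n R)
      (MvPolynomial.X (r + s, m) - MvPolynomial.X (r, m) - MvPolynomial.X (s, m)) = 0 :=
    Ideal.Quotient.eq_zero_iff_mem.2 (Ideal.subset_span (Rel.add r s m))
  rw [map_sub, map_sub] at h
  unfold gen
  linear_combination h

theorem gen_mul (r s : R) (m : Fin n →₀ ℕ) :
    gen k n R (r * s) m = ∑ p ∈ Finset.HasAntidiagonal.antidiagonal m, gen k n R r p.1 * gen k n R s p.2 := by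
  have h : Ideal.Quotient.mk (I k n R)
      (MvPolynomial.X (r * s, m) -
        ∑ p ∈ Finset.HasAntidiagonal.antidiagonal m, MvPolynomial.X (r, p.1) * MvPolynomial.X (s, p.2)) = 0 :=
    Ideal.Quotient.eq_zero_iff_mem.2 (Ideal.subset_span (Rel.mul r s m))
  rw [map_sub, map_sum] at h
  simp only [map_mul] at h
  unfold gen
  linear_combination h

theorem mk_C (a : k) :
    Ideal.Quotient.mk (I k n R) (MvPolynomial.C a) = algebraMap k (P k n R) a := rfl

theorem gen_alg (c : MvPowerSeries (Fin n) k) (m : Fin n →₀ ℕ) :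
    gen k n R (algebraMap (MvPowerSeries (Fin n) k) R c) m = algebraMap k (P k n R) (coeff m c) := by
  have h : Ideal.Quotient.mk (I k n R)
      (MvPolynomial.X (algebraMap (MvPowerSeries (Fin n) k) R c, m) -
        MvPolynomial.C (coeff m c)) = 0 :=
    Ideal.Quotient.eq_zero_iff_mem.2 (Ideal.subset_span (Rel.alg c m))
  rw [map_sub, mk_C] at h
  unfold gen
  linear_combination h

/-- the universal power series attached to `r` -/
noncomputable def uFun (r : R) : MvPowerSeries (Fin n) (P k n R) := fun m => gen k n R r m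

theorem coeff_uFun (r : R) (m : Fin n →₀ ℕ) : coeff m (uFun k n R r) = gen k n R r m := rfl

/-- the universal map as a ring hom -/
noncomputable def uHom : R →+* MvPowerSeries (Fin n) (P k n R) where
  toFun := uFun k n R
  map_one' := by
    ext m
    have h1 : (1 : R) = algebraMap (MvPowerSeries (Fin n) k) R 1 := (map_one _).symm
    rw [coeff_uFun, h1, gen_alg, coeff_one, coeff_one]
    split_ifs <;> simp
  map_mul' r s := by
    ext m
    rw [coeff_mul, coeff_uFun, gen_mul]
    rfl
  map_zero' := by
    ext m
    have h1 : (0 : R) = algebraMap (MvPowerSeries (Fin n) k) R 0 := (map_zero _).symm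
    rw [coeff_uFun, h1, gen_alg]
    simp
  map_add' r s := by
    ext m
    rw [map_add, coeff_uFun, coeff_uFun, coeff_uFun, gen_add]

theorem coeff_uHom (r : R) (m : Fin n →₀ ℕ) : coeff m (uHom k n R r) = gen k n R r m := rfl

/-- the universal map as an algebra hom -/
noncomputable def uAlg : R →ₐ[MvPowerSeries (Fin n) k] MvPowerSeries (Fin n) (P k n R) :=
  { uHom k n R with
    commutes' := fun c => by
      ext m
      change coeff m (uHom k n R (algebraMap _ R c)) = _
      rw [coeff_uHom, gen_alg, MvPowerSeries.algebraMap_apply'', coeff_map] }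

theorem coeff_uAlg (r : R) (m : Fin n →₀ ℕ) : coeff m (uAlg k n R r) = gen k n R r m := rfl

variable {k n R}

section UP

variable (Q : Type u) [CommRing Q] [Algebra k Q]
  (f : R →ₐ[MvPowerSeries (Fin n) k] MvPowerSeries (Fin n) Q)

noncomputable def g₀ : S k n R →ₐ[k] Q :=
  MvPolynomial.aeval (fun p : R × (Fin n →₀ ℕ) => coeff p.2 (f p.1))

theorem g₀_rel (x : S k n R) (hx : Rel k n R x) : g₀ Q f x = 0 := by
  cases hx with
  | add r s m =>
    simp only [g₀, map_sub, MvPolynomial.aeval_X, map_add]
    ring
  | mul r s m =>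
    simp only [g₀, map_sub, MvPolynomial.aeval_X, map_mul, map_sum, coeff_mul]
    ring
  | alg c m =>
    simp only [g₀, map_sub, MvPolynomial.aeval_X, MvPolynomial.aeval_C]
    rw [f.commutes, MvPowerSeries.algebraMap_apply'', coeff_map, sub_self]

theorem g₀_mem (a : S k n R) (ha : a ∈ I k n R) : g₀ Q f a = 0 := by
  have hle : I k n R ≤ RingHom.ker (g₀ Q f : S k n R →+* Q) := by
    unfold I
    rw [Ideal.span_le]
    intro x hx
    exact g₀_rel Q f x hx
  exact hle ha

noncomputable def gHom : P k n R →ₐ[k] Q :=
  Ideal.Quotient.liftₐ (I k n R) (g₀ Q f) (g₀_mem Q f)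

theorem gHom_gen (r : R) (m : Fin n →₀ ℕ) : gHom Q f (gen k n R r m) = coeff m (f r) := by
  unfold gHom gen
  rw [Ideal.Quotient.liftₐ_apply, Ideal.Quotient.lift_mk]
  simp [g₀]

end UP

variable (k n R)

theorem main :
    ∃ (P : Type u) (_ : CommRing P) (_ : Algebra k P)
      (u : R →ₐ[MvPowerSeries (Fin n) k] MvPowerSeries (Fin n) P),
      (∀ (Q : Type u) [CommRing Q] [Algebra k Q]
          (f : R →ₐ[MvPowerSeries (Fin n) k] MvPowerSeries (Fin n) Q),
          ∃! g : P →ₐ[k] Q,
            (MvPowerSeries.map (σ := Fin n) (g : P →+* Q)).comp (u : R →+* MvPowerSeries (Fin n) P) =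
              (f : R →+* MvPowerSeries (Fin n) Q)) ∧
      ((∃ s : Set R, s.Countable ∧ Algebra.adjoin (MvPowerSeries (Fin n) k) s = ⊤) →
        ∃ t : Set P, t.Countable ∧ Algebra.adjoin k t = ⊤) := by
  refine ⟨P k n R, inferInstance, inferInstance, uAlg k n R, ?_, ?_⟩
  · intro Q _ _ f
    refine ⟨gHom Q f, ?_, ?_⟩
    · ext r m
      change coeff m (MvPowerSeries.map (gHom Q f : P k n R →+* Q) (uAlg k n R r)) = coeff m (f r)
      rw [coeff_map, coeff_uAlg]
      exact gHom_gen Q f r m
    · intro g' hg'
      apply Ideal.Quotient.algHom_ext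
      apply MvPolynomial.algHom_ext
      rintro ⟨r, m⟩
      have h1 := RingHom.congr_fun hg' r
      have h2 := congrArg (coeff m) h1
      change coeff m (MvPowerSeries.map (g' : P k n R →+* Q) (uAlg k n R r)) = coeff m (f r) at h2
      rw [coeff_map, coeff_uAlg] at h2
      change g' (gen k n R r m) = gHom Q f (gen k n R r m)
      rw [gHom_gen]
      exact h2
  · rintro ⟨s, hs, hsgen⟩
    let t : Set (P k n R) :=
      (fun p : R × (Fin n →₀ ℕ) => gen k n R p.1 p.2) '' (s ×ˢ (Set.univ : Set (Fin n →₀ ℕ)))
    refine ⟨t, ?_, ?_⟩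
    · exact (hs.prod Set.countable_univ).image _
    · -- the subalgebra of elements all of whose coefficient generators lie in `adjoin k t`
      let T : Subalgebra (MvPowerSeries (Fin n) k) R :=
        { carrier := {r | ∀ m, gen k n R r m ∈ Algebra.adjoin k t}
          mul_mem' := by
            intro a b ha hb m
            rw [gen_mul]
            exact Subalgebra.sum_mem _ (fun p _ => Subalgebra.mul_mem _ (ha p.1) (hb p.2))
          add_mem' := by
            intro a b ha hb m
            rw [gen_add]
            exact Subalgebra.add_mem _ (ha m) (hb m)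
          algebraMap_mem' := by
            intro c m
            rw [gen_alg]
            exact Subalgebra.algebraMap_mem _ _ }
      have hsT : s ⊆ (T : Set R) := by
        intro r hr m
        exact Algebra.subset_adjoin ⟨(r, m), ⟨hr, Set.mem_univ _⟩, rfl⟩
      have hT : T = ⊤ := by
        rw [eq_top_iff, ← hsgen]
        exact Algebra.adjoin_le hsT
      have hgen : ∀ r m, gen k n R r m ∈ Algebra.adjoin k t := by
        intro r m
        have : r ∈ T := by rw [hT]; trivial
        exact this m
      rw [eq_top_iff]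
      intro p _
      obtain ⟨q, rfl⟩ := Ideal.Quotient.mk_surjective p
      induction q using MvPolynomial.induction_on with
      | C a => exact Subalgebra.algebraMap_mem _ a
      | add p q hp hq =>
        rw [map_add]
        exact Subalgebra.add_mem _ (hp trivial) (hq trivial)
      | mul_X p i hp =>
        rw [map_mul]
        exact Subalgebra.mul_mem _ (hp trivial) (hgen i.1 i.2)

end Construction

end Groth.Agent.Helper8.FormalDisc
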