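import Mathlib

set_option autoImplicit false
universe u
open CategoryTheory Limits AlgebraicGeometry

/-!
# Finite point counts for schemes of finite type over finite rings

* `finite_of_fg`: a finitely generated subring of a field algebraic over `𝔽_p` is finite;
* `finite_ringHom`: finitely many ring maps from a finite type algebra over a finite ring to a
  finite ring;
* `finite_hom_spec`: finitely many morphisms `Spec B ⟶ X` for `B` a finite domain and `X`
  quasi-compact locally of finite type over a finite ring.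
-/

namespace Groth.Agent.Helper8.FpTors

/-- every element of a field satisfying `x ^ (p ^ n) = x` is integral over `ZMod p` -/
lemma isIntegral_of_halg (p : ℕ) [Fact p.Prime] (k : Type u) [Field k] [CharP k p]
    (halg : ∀ x : k, ∃ n : ℕ, 0 < n ∧ x ^ (p ^ n) = x) (x : k) :
    letI := ZMod.algebra k p
    IsIntegral (ZMod p) x := by
  letI := ZMod.algebra k p
  obtain ⟨n, hn, hx⟩ := halg x
  by_cases h0 : x = 0
  · subst h0; exact isIntegral_zero
  · have hp : 1 < p ^ n := Nat.one_lt_pow hn.ne' (Fact.out : p.Prime).one_lt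
    have h1 : x ^ (p ^ n - 1) = 1 := by
      have : x ^ (p ^ n - 1) * x = 1 * x := by
        rw [← pow_succ, Nat.sub_add_cancel hp.le, one_mul, hx]
      exact mul_right_cancel₀ h0 this
    refine IsIntegral.of_pow (n := p ^ n - 1) (by omega) ?_
    rw [h1]
    exact isIntegral_one

/-- a finitely generated subring of a field algebraic over the prime field `𝔽_p` is finite -/
theorem finite_of_fg (p : ℕ) [Fact p.Prime] (k : Type u) [Field k] [CharP k p]
    (halg : ∀ x : k, ∃ n : ℕ, 0 < n ∧ x ^ (p ^ n) = x) (B : Subalgebra ℤ k) (hB : B.FG) :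
    Finite B := by
  classical
  letI := ZMod.algebra k p
  obtain ⟨S, hS⟩ := hB
  let E := IntermediateField.adjoin (ZMod p) (S : Set k)
  haveI : FiniteDimensional (ZMod p) E :=
    IntermediateField.finiteDimensional_adjoin (fun x _ => isIntegral_of_halg p k halg x)
  haveI : Finite E := Module.finite_of_finite (ZMod p)
  have hle : B ≤ E.toSubalgebra.restrictScalars ℤ := by
    rw [← hS]
    refine Algebra.adjoin_le ?_
    intro x hx
    exact IntermediateField.subset_adjoin (ZMod p) (S : Set k) hx
  have hfin : (E : Set k).Finite := Set.toFinite _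
  have : (B : Set k).Finite := hfin.subset (fun x hx => hle hx)
  exact this.to_subtype

/-- finitely many ring maps from a finite type algebra over a finite ring to a finite ring -/
theorem finite_ringHom {R R' B : Type*} [CommRing R] [CommRing R'] [CommRing B] [Finite R]
    [Finite B] (ψ : R →+* R') (hψ : ψ.FiniteType) : Finite (R' →+* B) := by
  classical
  algebraize [ψ]
  obtain ⟨S, hS⟩ := (‹Algebra.FiniteType R R'›).out
  let Φ : (R' →+* B) → (R → B) × (S → B) := fun ρ => (fun r => ρ (ψ r), fun s => ρ s.1)
  have hΦ : Function.Injective Φ := by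
    intro ρ ρ' h
    ext x
    have hx : x ∈ Algebra.adjoin R (S : Set R') := hS ▸ Algebra.mem_top
    induction hx using Algebra.adjoin_induction with
    | mem x hx => exact congrFun (congrArg Prod.snd h) ⟨x, hx⟩
    | algebraMap r => exact congrFun (congrArg Prod.fst h) r
    | add x y _ _ hx hy => rw [map_add, map_add, hx, hy]
    | mul x y _ _ hx hy => rw [map_mul, map_mul, hx, hy]
  exact Finite.of_injective Φ hΦ

/-- the spectrum of a finite domain is a point -/
lemma subsingleton_spec_of_finite_domain (B : Type u) [CommRing B] [IsDomain B] [Finite B] :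
    Subsingleton (Spec (CommRingCat.of B)) := by
  have hB : IsField B := Finite.isField_of_domain B
  have key : ∀ P : PrimeSpectrum B, P.asIdeal = ⊥ := by
    intro P
    rw [eq_bot_iff]
    intro x hx
    by_contra h0
    obtain ⟨y, hy⟩ := hB.mul_inv_cancel (by simpa using h0)
    have : (1 : B) ∈ P.asIdeal := hy ▸ P.asIdeal.mul_mem_right y hx
    exact P.2.ne_top ((Ideal.eq_top_iff_one _).mpr this)
  refine ⟨fun P Q => ?_⟩
  exact PrimeSpectrum.ext ((key P).trans (key Q).symm)

/-- finitely many morphisms from the spectrum of a finite domain to a quasi-compact scheme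
locally of finite type over a finite ring -/
theorem finite_hom_spec {R : Type u} [CommRing R] [Finite R] {B : Type u} [CommRing B]
    [IsDomain B] [Finite B] {X : Scheme.{u}} [CompactSpace X]
    (f : X ⟶ Spec (CommRingCat.of R)) [LocallyOfFiniteType f] :
    Finite (Spec (CommRingCat.of B) ⟶ X) := by
  classical
  let 𝒰 := X.affineCover.finiteSubcover
  haveI : Finite Γ(Spec (CommRingCat.of R), ⊤) :=
    Finite.of_equiv R (Scheme.ΓSpecIso (CommRingCat.of R)).commRingCatIsoToRingEquiv.symm.toEquiv
  have hfin : ∀ l : 𝒰.I₀, Finite (Γ(𝒰.X l, ⊤) →+* B) := by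
    intro l
    have h2 : (𝒰.f l ≫ f).appTop.hom.FiniteType :=
      HasRingHomProperty.appTop (P := @LocallyOfFiniteType) _ inferInstance
    exact finite_ringHom _ h2
  haveI := hfin
  let Φ : (Σ l : 𝒰.I₀, (Γ(𝒰.X l, ⊤) →+* B)) → (Spec (CommRingCat.of B) ⟶ X) :=
    fun q => Spec.map (CommRingCat.ofHom q.2) ≫ (𝒰.X q.1).isoSpec.inv ≫ 𝒰.f q.1
  have hΦ : Function.Surjective Φ := by
    intro φ
    haveI := subsingleton_spec_of_finite_domain B
    haveI : Nonempty (Spec (CommRingCat.of B)) :=
      (inferInstance : Nonempty (PrimeSpectrum B))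
    let pt : Spec (CommRingCat.of B) := Classical.arbitrary _
    obtain ⟨l, y, hy⟩ := 𝒰.exists_eq (φ pt)
    have hrange : Set.range φ ⊆ Set.range (𝒰.f l) := by
      rintro _ ⟨z, rfl⟩
      rw [Subsingleton.elim z pt]
      exact ⟨y, hy⟩
    let ψ : Spec (CommRingCat.of B) ⟶ 𝒰.X l := IsOpenImmersion.lift (𝒰.f l) φ hrange
    have hψ : ψ ≫ 𝒰.f l = φ := IsOpenImmersion.lift_fac _ _ _
    let ρ := Spec.preimage (ψ ≫ (𝒰.X l).isoSpec.hom)
    refine ⟨⟨l, ρ.hom⟩, ?_⟩
    change Spec.map (CommRingCat.ofHom ρ.hom) ≫ (𝒰.X l).isoSpec.inv ≫ 𝒰.f l = φ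
    rw [CommRingCat.ofHom_hom, Spec.map_preimage, Category.assoc, Iso.hom_inv_id_assoc, hψ]
  exact Finite.of_surjective Φ hΦ

end Groth.Agent.Helper8.FpTors
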