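import Mathlib
import Groth.Agent.Helper8.FpTorsA
import Groth.Agent.Lead.LimExist
import Groth.Agent.Lead.SubalgSys

set_option autoImplicit false
universe u
open CategoryTheory Limits AlgebraicGeometry

/-!
# Orbits of rational points under endomorphisms over `𝔽̄_p` are finite
-/

namespace Groth.Agent.Helper8.FpTors

open Groth.Agent.Lead Groth.Agent.Lead.LimPullback Groth.Agent.Lead.LimHom
  Groth.Agent.Lead.LimExist

set_option backward.isDefEq.respectTransparency false in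
/-- Let `k` be algebraic over `𝔽_p`, `X` a scheme of finite type over `k`, `r` a `k`-endomorphism
of `X` and `e` a `k`-point.  Then there is a finite set of `k`-points containing `e` and stable
under `r`. -/
theorem exists_finite_stable (p : ℕ) [Fact p.Prime] (k : Type u) [Field k] [CharP k p]
    (halg : ∀ x : k, ∃ n : ℕ, 0 < n ∧ x ^ (p ^ n) = x)
    {X : Scheme.{u}} (f : X ⟶ Spec (CommRingCat.of k)) [LocallyOfFiniteType f]
    [CompactSpace X] [QuasiSeparatedSpace X]
    (r : X ⟶ X) (hr : r ≫ f = f) (e : Spec (CommRingCat.of k) ⟶ X) (he : e ≫ f = 𝟙 _) :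
    ∃ T : Set (Spec (CommRingCat.of k) ⟶ X), T.Finite ∧ e ∈ T ∧ ∀ x ∈ T, x ≫ r ∈ T := by
  classical
  have hfg : (⊥ : Subalgebra ℤ k).FG := Subalgebra.fg_bot
  haveI := SubalgSys.isCofiltered hfg
  have hc : IsLimit (SubalgSys.cone k ⊥) := SubalgSys.coneIsLimit hfg
  haveI : ∀ (i j : (SubalgSys.Idx k ⊥)ᵒᵖ) (f : i ⟶ j),
      IsAffineHom ((SubalgSys.D k ⊥).map f) := fun _ _ f => inferInstance
  haveI : ∀ i, CompactSpace ((SubalgSys.D k ⊥).obj i) := fun i => inferInstance
  haveI : ∀ i, QuasiSeparatedSpace ((SubalgSys.D k ⊥).obj i) := fun i => inferInstance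
  haveI : LocallyOfFinitePresentation f :=
    (LocallyOfFinitePresentation.iff_locallyOfFiniteType).mpr inferInstance
  obtain ⟨i₀, ⟨M⟩⟩ := LimExist.exists_model hc (show X ⟶ (SubalgSys.cone k ⊥).pt from f)
  -- finiteness of the sets of points over finite stages
  have hfinHom : ∀ j : Over i₀, Finite ((SubalgSys.D k ⊥).obj j.left ⟶ M.Xi) := by
    intro j
    haveI : Finite ↥i₀.unop.1 := finite_of_fg p k halg _ i₀.unop.2.1
    haveI : Finite ↥j.left.unop.1 := finite_of_fg p k halg _ j.left.unop.2.1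
    have hlft : LocallyOfFiniteType M.fi := inferInstance
    exact @finite_hom_spec ↥i₀.unop.1 _ _ ↥j.left.unop.1 _ _ _ M.Xi _ M.fi hlft
  let Q : Over i₀ → Set (Spec (CommRingCat.of k) ⟶ X) := fun j =>
    {x | x ≫ f = 𝟙 _ ∧ ∃ y : (SubalgSys.D k ⊥).obj j.left ⟶ M.Xi,
      y ≫ M.fi = (SubalgSys.D k ⊥).map j.hom ∧
        x ≫ M.g = (SubalgSys.cone k ⊥).π.app j.left ≫ y}
  have hQfin : ∀ j, (Q j).Finite := by
    intro j
    haveI := hfinHom j
    have H : ∀ x : Q j, ∃ y : (SubalgSys.D k ⊥).obj j.left ⟶ M.Xi,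
        y ≫ M.fi = (SubalgSys.D k ⊥).map j.hom ∧
          x.1 ≫ M.g = (SubalgSys.cone k ⊥).π.app j.left ≫ y := fun x => x.2.2
    choose Y hY1 hY2 using H
    have hinj : Function.Injective Y := by
      intro x x' h
      apply Subtype.ext
      apply M.sq.hom_ext
      · rw [hY2 x, hY2 x', h]
      · exact x.2.1.trans x'.2.1.symm
    exact Set.finite_coe_iff.mp (Finite.of_injective Y hinj)
  -- descent of `r`
  have hA : ∀ {j j' : Over i₀} (φ : j ⟶ j'),
      IsAffineHom ((pbDiag (SubalgSys.D k ⊥) i₀ M.fi).map φ) :=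
    fun φ ↦ isAffineHom_pbDiag_map i₀ M.fi φ
  have hC : ∀ j : Over i₀, CompactSpace ↥((pbDiag (SubalgSys.D k ⊥) i₀ M.fi).obj j) :=
    fun j ↦ compactSpace_pbDiag (SubalgSys.D k ⊥) i₀ M.fi j
  have hQS : ∀ j : Over i₀, QuasiSeparatedSpace ↥((pbDiag (SubalgSys.D k ⊥) i₀ M.fi).obj j) :=
    fun j ↦ quasiSeparatedSpace_pbDiag (SubalgSys.D k ⊥) i₀ M.fi j
  obtain ⟨jr, gr, hgr1, hgr2⟩ := Scheme.exists_π_app_comp_eq_of_locallyOfFinitePresentation
    (pbDiag (SubalgSys.D k ⊥) i₀ M.fi) (pbT (SubalgSys.D k ⊥) i₀ M.fi) M.fi M.cone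
    (M.coneIsLimit hc) (r ≫ M.g) (by
      ext j
      simp only [NatTrans.comp_app, Functor.const_obj_obj, Functor.const_map_app]
      change (M.rebase j).g ≫ pullback.snd _ _ ≫ M.fi = (r ≫ M.g) ≫ M.fi
      rw [Model.rebase_g_snd_assoc, Category.assoc, M.sq.w]
      exact (congrArg (· ≫ (SubalgSys.cone k ⊥).π.app i₀) hr).symm.trans (Category.assoc _ _ _))
  -- descent of `e`
  let D₂ : Over i₀ ⥤ Scheme.{u} := Over.forget i₀ ⋙ SubalgSys.D k ⊥
  let t₂ : D₂ ⟶ (Functor.const (Over i₀)).obj ((SubalgSys.D k ⊥).obj i₀) :=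
    { app := fun j => (SubalgSys.D k ⊥).map j.hom
      naturality := fun j j' φ => by
        simp only [Functor.const_obj_obj, Functor.const_obj_map, Category.comp_id]
        change (SubalgSys.D k ⊥).map φ.left ≫ (SubalgSys.D k ⊥).map j'.hom = _
        rw [← Functor.map_comp, Over.w] }
  have hc₂ : IsLimit ((SubalgSys.cone k ⊥).whisker (Over.forget i₀)) :=
    (Functor.Initial.isLimitWhiskerEquiv (Over.forget i₀) (SubalgSys.cone k ⊥)).symm hc
  haveI hA₂ : ∀ {j j' : Over i₀} (φ : j ⟶ j'), IsAffineHom (D₂.map φ) :=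
    fun φ => inferInstanceAs (IsAffineHom ((SubalgSys.D k ⊥).map φ.left))
  haveI hC₂ : ∀ j : Over i₀, CompactSpace ↥(D₂.obj j) :=
    fun j => inferInstanceAs (CompactSpace ↥((SubalgSys.D k ⊥).obj j.left))
  haveI hQ₂ : ∀ j : Over i₀, QuasiSeparatedSpace ↥(D₂.obj j) :=
    fun j => inferInstanceAs (QuasiSeparatedSpace ↥((SubalgSys.D k ⊥).obj j.left))
  obtain ⟨je, ye, hye1, hye2⟩ := Scheme.exists_π_app_comp_eq_of_locallyOfFinitePresentation
    D₂ t₂ M.fi ((SubalgSys.cone k ⊥).whisker (Over.forget i₀)) hc₂ (e ≫ M.g) (by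
      ext j
      simp only [NatTrans.comp_app, Functor.const_obj_obj, Functor.const_map_app]
      change (SubalgSys.cone k ⊥).π.app j.left ≫ (SubalgSys.D k ⊥).map j.hom = (e ≫ M.g) ≫ M.fi
      rw [Cone.w, Category.assoc, M.sq.w]
      exact ((congrArg (· ≫ (SubalgSys.cone k ⊥).π.app i₀) he).trans
        (Category.id_comp _)).symm.trans (Category.assoc _ _ _))
  change (SubalgSys.cone k ⊥).π.app je.left ≫ ye = e ≫ M.g at hye1
  change ye ≫ M.fi = (SubalgSys.D k ⊥).map je.hom at hye2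
  change gr ≫ M.fi = pullback.snd _ _ ≫ M.fi at hgr2
  -- a common stage
  let j : Over i₀ := IsCofiltered.min je jr
  let φe : j ⟶ je := IsCofiltered.minToLeft je jr
  let φr : j ⟶ jr := IsCofiltered.minToRight je jr
  refine ⟨Q j, hQfin j, ⟨he, (SubalgSys.D k ⊥).map φe.left ≫ ye, ?_, ?_⟩, ?_⟩
  · rw [Category.assoc, hye2, ← Functor.map_comp, Over.w]
  · rw [Cone.w_assoc, hye1]
  · rintro x ⟨hx1, y, hy1, hy2⟩
    refine ⟨by rw [Category.assoc, hr, hx1], ?_⟩
    have hcond : (SubalgSys.D k ⊥).map φr.left ≫ (SubalgSys.D k ⊥).map jr.hom = y ≫ M.fi := by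
      rw [hy1, ← Functor.map_comp, Over.w]
    refine ⟨pullback.lift ((SubalgSys.D k ⊥).map φr.left) y hcond ≫ gr, ?_, ?_⟩
    · rw [Category.assoc, hgr2, pullback.lift_snd_assoc, hy1]
    · have key : x ≫ M.cone.π.app jr = (SubalgSys.cone k ⊥).π.app j.left ≫
          pullback.lift ((SubalgSys.D k ⊥).map φr.left) y hcond := by
        apply pullback.hom_ext
        · change (x ≫ (M.rebase jr).g) ≫ pullback.fst _ _ = _
          rw [Category.assoc, Model.rebase_g_fst, Category.assoc, pullback.lift_fst, Cone.w]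
          exact (Category.assoc _ _ _).symm.trans
            ((congrArg (· ≫ (SubalgSys.cone k ⊥).π.app jr.left) hx1).trans (Category.id_comp _))
        · change (x ≫ (M.rebase jr).g) ≫ pullback.snd _ _ = _
          rw [Category.assoc, Model.rebase_g_snd, Category.assoc, pullback.lift_snd, hy2]
      rw [Category.assoc, ← hgr1, ← Category.assoc, key, Category.assoc]

end Groth.Agent.Helper8.FpTors
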