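import Mathlib
import Groth.Agent.Helper8.FpTorsB

set_option autoImplicit false
universe u
open CategoryTheory MonoidalCategory CartesianMonoidalCategory MonObj GrpObj AlgebraicGeometry

/-!
# Rational points of group schemes of finite type over `𝔽̄_p` are torsion
-/

namespace Groth.Agent.Helper8.FpTors

set_option backward.isDefEq.respectTransparency false in
theorem isOfFinOrder_point (p : ℕ) [Fact (Nat.Prime p)] (k : Type u) [Field k] [CharP k p]
    (halg : ∀ x : k, ∃ n : ℕ, 0 < n ∧ x ^ (p ^ n) = x)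
    (A : Over (Spec (CommRingCat.of k))) [GrpObj A] [LocallyOfFiniteType A.hom]
    [CompactSpace A.left] [QuasiSeparatedSpace A.left]
    (a : 𝟙_ (Over (Spec (CommRingCat.of k))) ⟶ A) : IsOfFinOrder a := by
  classical
  -- right translation by `a`
  let ra : A ⟶ A := (𝟙 A) * (toUnit A ≫ a)
  have hra : ∀ x : 𝟙_ (Over (Spec (CommRingCat.of k))) ⟶ A, x ≫ ra = x * a := by
    intro x
    rw [MonObj.comp_mul, Category.comp_id, ← Category.assoc,
      Subsingleton.elim (x ≫ toUnit A) (𝟙 _), Category.id_comp]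
  obtain ⟨T, hTfin, hT1, hTr⟩ := exists_finite_stable p k halg A.hom ra.left (Over.w ra)
    (1 : 𝟙_ (Over (Spec (CommRingCat.of k))) ⟶ A).left (Over.w _)
  have hmem : ∀ n : ℕ, (a ^ n).left ∈ T := by
    intro n
    induction n with
    | zero => rw [pow_zero]; exact hT1
    | succ n ih =>
      rw [pow_succ, ← hra]
      exact hTr _ ih
  haveI : Finite T := hTfin.to_subtype
  obtain ⟨n, m, hnm, h⟩ := Finite.exists_ne_map_eq_of_infinite
    (fun n : ℕ => (⟨(a ^ n).left, hmem n⟩ : T))
  have h' : a ^ n = a ^ m := Over.OverMorphism.ext (congrArg Subtype.val h)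
  wlog hlt : n < m generalizing n m
  · exact this m n hnm.symm h.symm h'.symm (lt_of_le_of_ne (not_lt.mp hlt) hnm.symm)
  rw [isOfFinOrder_iff_pow_eq_one]
  refine ⟨m - n, Nat.sub_pos_of_lt hlt, ?_⟩
  have h2 : a ^ n * a ^ (m - n) = a ^ n * 1 := by
    rw [← pow_add, Nat.add_sub_cancel' hlt.le, _root_.mul_one, h']
  exact mul_left_cancel h2

end Groth.Agent.Helper8.FpTors
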