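import Mathlib
import Groth.Prelude
import Groth.Agent.Helper8.QFSch

set_option autoImplicit false
open CategoryTheory CategoryTheory.Limits AlgebraicGeometry Opposite TopologicalSpace
universe w u

namespace Groth.Agent.Helper8.FppfQF

/-- the property "flat, locally of finite presentation, locally quasi-finite". -/
abbrev P' : MorphismProperty Scheme.{u} :=
  (@Flat ⊓ @LocallyOfFinitePresentation) ⊓ @LocallyQuasiFinite

instance : (P'.{u}).IsMultiplicative where
  id_mem X := ⟨⟨inferInstance, inferInstance⟩, inferInstance⟩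
  comp_mem f g hf hg := by
    haveI := hf.1.1
    haveI := hf.1.2
    haveI := hf.2
    haveI := hg.1.1
    haveI := hg.1.2
    haveI := hg.2
    exact ⟨⟨inferInstance, inferInstance⟩, inferInstance⟩

/-- the fppf topology is generated by quasi-finite fppf covers. -/
theorem fppf_le : Scheme.fppfTopology.{u} ≤ Scheme.propQCTopology P'.{u} := by
  rw [Precoverage.toGrothendieck_le_iff_le_toPrecoverage]
  intro T R hR
  rw [GrothendieckTopology.mem_toPrecoverage_iff]
  have hex : ∀ t : T, ∃ (W : Scheme.{u}) (g : W ⟶ T), P' g ∧ t ∈ Set.range g ∧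
      (Sieve.generate R).arrows g := by
    intro t
    have hR' : R ∈ Scheme.precoverage
        (@Flat ⊓ @LocallyOfFinitePresentation : MorphismProperty Scheme.{u}) T := hR
    obtain ⟨Y, f, hf, y, hy⟩ := Scheme.JointlySurjective.exists_eq
      (K := Scheme.precoverage
        (@Flat ⊓ @LocallyOfFinitePresentation : MorphismProperty Scheme.{u})) R hR' t
    have hP : (@Flat ⊓ @LocallyOfFinitePresentation : MorphismProperty Scheme.{u}) f := hR.2 hf
    haveI : Flat f := hP.1
    haveI : LocallyOfFinitePresentation f := hP.2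
    obtain ⟨W, g, h, -, hc, h1, h2, h3, h4⟩ := QFSch.exists_local_sch f y
    exact ⟨W, g, ⟨⟨h1, h2⟩, h3⟩, hy ▸ h4, ⟨Y, h, f, hf, hc⟩⟩
  choose W g hg ht hgen using hex
  let 𝒰 : Scheme.Cover.{u} (Scheme.precoverage P') T :=
    Scheme.Cover.mkOfCovers T W g (fun t => by
      obtain ⟨y, hy⟩ := ht t
      exact ⟨t, y, hy⟩) hg
  haveI : QuasiCompactCover 𝒰.toPreZeroHypercover :=
    QuasiCompactCover.of_isOpenMap (fun t => by
      haveI : Flat (g t) := (hg t).1.1
      haveI : LocallyOfFinitePresentation (g t) := (hg t).1.2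
      exact (g t).isOpenMap)
  have hmem := Scheme.Cover.mem_propQCTopology 𝒰
  refine GrothendieckTopology.superset_covering _ ?_ hmem
  rw [Sieve.ofArrows, Sieve.generate_le_iff]
  rintro Y f ⟨t⟩
  exact hgen t

/-- **S5238**. -/
theorem main (F : Scheme.{u}ᵒᵖ ⥤ Type w) :
    Presheaf.IsSheaf Scheme.fppfTopology F ↔
      Presheaf.IsSheaf Scheme.zariskiTopology F ∧
        ∀ (T S : Scheme.{u}) [IsAffine T] [IsAffine S] (f : T ⟶ S)
          [Flat f] [Surjective f] [LocallyOfFinitePresentation f] [LocallyQuasiFinite f],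
          Presieve.IsSheafFor F (Presieve.singleton f) := by
  rw [isSheaf_iff_isSheaf_of_type, isSheaf_iff_isSheaf_of_type]
  constructor
  · intro hF
    refine ⟨Presieve.isSheaf_of_le _
      (Precoverage.toGrothendieck_mono Scheme.zariskiPrecoverage_le_fppfPrecoverage) hF, ?_⟩
    intro T S _ _ f _ _ _ _
    exact hF.isSheafFor _
      (Precoverage.generate_mem_toGrothendieck f.singleton_mem_fppfPrecoverage)
  · rintro ⟨hzar, hcond⟩
    refine Presieve.isSheaf_of_le _ fppf_le ?_
    rw [isSheaf_type_propQCTopology_iff]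
    refine ⟨hzar, fun {R S} f hf hs => ?_⟩
    haveI : Flat (Spec.map f) := hf.1.1
    haveI : LocallyOfFinitePresentation (Spec.map f) := hf.1.2
    haveI : LocallyQuasiFinite (Spec.map f) := hf.2
    exact hcond _ _ (Spec.map f)

end Groth.Agent.Helper8.FppfQF
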