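import Mathlib
import Groth.Agent.Helper8.ChainHom

/-!
Chain complexes of projective modules: contractions of acyclic complexes, retractions and sections
of quasi-isomorphic inclusions with projective quotients.
-/

set_option autoImplicit false
universe u v
open CategoryTheory

namespace Groth.Agent.Helper8.FreeCx

section contraction

variable {R : Type u} [Ring R] (Q : ℕ → Type v) [∀ q, AddCommGroup (Q q)] [∀ q, Module R (Q q)]
  [∀ q, Module.Projective R (Q q)]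
  (d : ∀ q, Q (q + 1) →ₗ[R] Q q)

/-- one step in the construction of a contraction -/
theorem contraction_step (hdd : ∀ q x, d q (d (q + 1) x) = 0)
    (hex : ∀ q (x : Q (q + 1)), d q x = 0 → ∃ y, d (q + 1) y = x) (q : ℕ)
    (c : Q q →ₗ[R] Q (q + 1)) (hc : ∀ x, d q (c (d q x)) = d q x) :
    ∃ c' : Q (q + 1) →ₗ[R] Q (q + 2), (∀ x, d (q + 1) (c' x) + c (d q x) = x) ∧
      ∀ x, d (q + 1) (c' (d (q + 1) x)) = d (q + 1) x := by
  have hmem : ∀ x : Q (q + 1), x - c (d q x) ∈ LinearMap.range (d (q + 1)) := by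
    intro x
    apply hex q
    rw [map_sub, hc, sub_self]
  let g : Q (q + 1) →ₗ[R] LinearMap.range (d (q + 1)) :=
    (LinearMap.id - c.comp (d q)).codRestrict _ hmem
  obtain ⟨c', hc'⟩ := Module.projective_lifting_property (d (q + 1)).rangeRestrict g
    (LinearMap.surjective_rangeRestrict _)
  have h1 : ∀ x, d (q + 1) (c' x) = x - c (d q x) := by
    intro x
    have := congrArg (fun φ => (φ x : Q (q + 1))) hc'
    exact this
  refine ⟨c', fun x => by rw [h1]; abel, ?_⟩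
  intro x
  rw [h1]
  have h2 : d q (d (q + 1) x) = 0 := hdd q x
  rw [h2, map_zero, sub_zero]

/-- An exact, bounded below complex of projective modules is contractible. -/
theorem exists_contraction (hdd : ∀ q x, d q (d (q + 1) x) = 0)
    (h0 : Function.Surjective (d 0))
    (hex : ∀ q (x : Q (q + 1)), d q x = 0 → ∃ y, d (q + 1) y = x) :
    ∃ c : ∀ q, Q q →ₗ[R] Q (q + 1), (∀ x, d 0 (c 0 x) = x) ∧
      ∀ q x, d (q + 1) (c (q + 1) x) + c q (d q x) = x := by
  obtain ⟨c0, hc0⟩ := Module.projective_lifting_property (d 0) LinearMap.id h0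
  have hc0' : ∀ x, d 0 (c0 x) = x := fun x => LinearMap.congr_fun hc0 x
  have hstep := contraction_step Q d hdd hex
  choose next hnext1 hnext2 using hstep
  let T : ℕ → Type v := fun q => {c : Q q →ₗ[R] Q (q + 1) // ∀ x, d q (c (d q x)) = d q x}
  let seq : ∀ q, T q := fun q => Nat.rec (motive := T)
    ⟨c0, fun x => hc0' _⟩ (fun q cq => ⟨next q cq.1 cq.2, hnext2 q cq.1 cq.2⟩) q
  refine ⟨fun q => (seq q).1, hc0', ?_⟩
  intro q x
  exact hnext1 q (seq q).1 (seq q).2 x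

end contraction


section setting

variable {R : Type u} [Ring R] {A' A : ChainComplex (ModuleCat.{v} R) ℕ} (f : A' ⟶ A)
  (Q : ℕ → Type v) [∀ q, AddCommGroup (Q q)] [∀ q, Module R (Q q)]
  (dQ : ∀ q, Q (q + 1) →ₗ[R] Q q) (π : ∀ q, A.X q →ₗ[R] Q q)

omit f in
theorem dQ_dQ (hπ : ∀ q, Function.Surjective (π q))
    (hπd : ∀ q (a : A.X (q + 1)), π q ((A.d (q + 1) q).hom a) = dQ q (π (q + 1) a)) :
    ∀ q x, dQ q (dQ (q + 1) x) = 0 := by
  intro q x
  obtain ⟨a, rfl⟩ := hπ (q + 2) x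
  rw [← hπd, ← hπd, ChainHom.d_comp_d_apply, map_zero]

theorem dQ_zero_surjective [QuasiIso f] (hπ : ∀ q, Function.Surjective (π q))
    (hex : ∀ q, LinearMap.ker (π q) = LinearMap.range (f.f q).hom)
    (hπd : ∀ q (a : A.X (q + 1)), π q ((A.d (q + 1) q).hom a) = dQ q (π (q + 1) a)) :
    Function.Surjective (dQ 0) := by
  intro x
  obtain ⟨a, rfl⟩ := hπ 0 x
  have hepi : Epi (HomologicalComplex.homologyMap f 0) := inferInstance
  rw [ChainHom.epi_homologyMap_zero_iff] at hepi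
  obtain ⟨c', e, he⟩ := hepi a
  refine ⟨π 1 e, ?_⟩
  have : (f.f 0).hom c' ∈ LinearMap.ker (π 0) := by rw [hex]; exact ⟨c', rfl⟩
  rw [← hπd, he, map_add, LinearMap.mem_ker.mp this]
  exact (zero_add _).symm

theorem dQ_exact [QuasiIso f] (hf : ∀ q, Function.Injective (f.f q).hom)
    (hπ : ∀ q, Function.Surjective (π q))
    (hex : ∀ q, LinearMap.ker (π q) = LinearMap.range (f.f q).hom)
    (hπd : ∀ q (a : A.X (q + 1)), π q ((A.d (q + 1) q).hom a) = dQ q (π (q + 1) a)) :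
    ∀ q (x : Q (q + 1)), dQ q x = 0 → ∃ y, dQ (q + 1) y = x := by
  intro q x hx
  obtain ⟨a, rfl⟩ := hπ (q + 1) x
  rw [← hπd] at hx
  have h1 : (A.d (q + 1) q).hom a ∈ LinearMap.ker (π q) := hx
  rw [hex] at h1
  obtain ⟨a', ha'⟩ := h1
  -- a' is a cycle
  have hmono : Mono (HomologicalComplex.homologyMap f q) := inferInstance
  rw [ChainHom.mono_homologyMap_iff' f (q + 1) q ((ComplexShape.down ℕ).next q)
    (ChainComplex.prev ℕ _) rfl] at hmono
  have h2 : (A'.d q ((ComplexShape.down ℕ).next q)).hom a' = 0 := by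
    apply hf
    rw [map_zero, ← ChainHom.comm_apply, ha', ChainHom.d_comp_d_apply]
  obtain ⟨b', hb'⟩ := hmono a' h2 ⟨a, ha'.symm⟩
  have hepi : Epi (HomologicalComplex.homologyMap f (q + 1)) := inferInstance
  rw [ChainHom.epi_homologyMap_succ_iff] at hepi
  have h3 : (A.d (q + 1) q).hom (a - (f.f (q + 1)).hom b') = 0 := by
    rw [map_sub, ChainHom.comm_apply, hb', ha', sub_self]
  obtain ⟨c', _, e, he⟩ := hepi _ h3
  refine ⟨π (q + 2) e, ?_⟩
  rw [← hπd]
  have h4 : a = (f.f (q + 1)).hom (b' + c') + (A.d (q + 2) (q + 1)).hom e := by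
    rw [map_add, add_assoc, ← he]; abel
  have h5 : (f.f (q + 1)).hom (b' + c') ∈ LinearMap.ker (π (q + 1)) := by
    rw [hex]; exact ⟨_, rfl⟩
  conv_rhs => rw [h4]
  rw [map_add, LinearMap.mem_ker.mp h5, zero_add]

theorem exists_data [QuasiIso f] [∀ q, Module.Projective R (Q q)]
    (hf : ∀ q, Function.Injective (f.f q).hom)
    (hπ : ∀ q, Function.Surjective (π q))
    (hex : ∀ q, LinearMap.ker (π q) = LinearMap.range (f.f q).hom)
    (hπd : ∀ q (a : A.X (q + 1)), π q ((A.d (q + 1) q).hom a) = dQ q (π (q + 1) a)) :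
    ∃ (s : ∀ q, Q q →ₗ[R] A.X q) (ρ : ∀ q, A.X q →ₗ[R] A'.X q) (γ : ∀ q, Q q →ₗ[R] A'.X q)
      (c : ∀ q, Q q →ₗ[R] Q (q + 1)),
      (∀ q x, π q (s q x) = x) ∧
      (∀ q a, (f.f q).hom (ρ q a) = a - s q (π q a)) ∧
      (∀ x, dQ 0 (c 0 x) = x) ∧
      (∀ q x, dQ (q + 1) (c (q + 1) x) + c q (dQ q x) = x) ∧
      (∀ q x, (A'.d (q + 1) q).hom (γ (q + 1) x) =
        γ q (dQ q x) + ρ q ((A.d (q + 1) q).hom (s (q + 1) x))) := by
  have hdd := dQ_dQ Q dQ π hπ hπd
  obtain ⟨c, hc0, hc⟩ := exists_contraction Q dQ hdd (dQ_zero_surjective f Q dQ π hπ hex hπd)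
    (dQ_exact f Q dQ π hf hπ hex hπd)
  have hs : ∀ q, ∃ s : Q q →ₗ[R] A.X q, (π q).comp s = LinearMap.id := fun q =>
    Module.projective_lifting_property (π q) LinearMap.id (hπ q)
  choose s hs using hs
  have hs' : ∀ q x, π q (s q x) = x := fun q x => LinearMap.congr_fun (hs q) x
  have hmem : ∀ q (a : A.X q), a - s q (π q a) ∈ LinearMap.range (f.f q).hom := by
    intro q a
    rw [← hex, LinearMap.mem_ker, map_sub, hs', sub_self]
  let ρ : ∀ q, A.X q →ₗ[R] A'.X q := fun q =>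
    ((LinearEquiv.ofInjective (f.f q).hom (hf q)).symm : _ →ₗ[R] _).comp
      ((LinearMap.id - (s q).comp (π q)).codRestrict _ (hmem q))
  have hρ : ∀ q a, (f.f q).hom (ρ q a) = a - s q (π q a) := by
    intro q a
    have h1 : (LinearEquiv.ofInjective (f.f q).hom (hf q)) (ρ q a) =
        (LinearMap.id - (s q).comp (π q)).codRestrict _ (hmem q) a := by
      change (LinearEquiv.ofInjective (f.f q).hom (hf q))
        ((LinearEquiv.ofInjective (f.f q).hom (hf q)).symm _) = _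
      rw [LinearEquiv.apply_symm_apply]
    exact congrArg Subtype.val h1
  let τ : ∀ q, Q (q + 1) →ₗ[R] A'.X q := fun q =>
    (ρ q).comp ((A.d (q + 1) q).hom.comp (s (q + 1)))
  have hτ : ∀ q (y : Q (q + 2)), (A'.d (q + 1) q).hom (τ (q + 1) y) = -τ q (dQ (q + 1) y) := by
    intro q y
    apply hf q
    rw [← ChainHom.comm_apply, map_neg]
    change (A.d (q + 1) q).hom ((f.f (q + 1)).hom (ρ (q + 1) ((A.d (q + 2) (q + 1)).hom
      (s (q + 2) y)))) = -(f.f q).hom (ρ q ((A.d (q + 1) q).hom (s (q + 1) (dQ (q + 1) y))))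
    rw [hρ, hρ, map_sub, ChainHom.d_comp_d_apply, hπd, hπd, hs', hs', hdd, map_zero]
    abel
  refine ⟨s, ρ, fun q => -((τ q).comp (c q)), c, hs', hρ, hc0, hc, ?_⟩
  intro q x
  change (A'.d (q + 1) q).hom (-(τ (q + 1) (c (q + 1) x))) = -(τ q (c q (dQ q x))) + τ q x
  rw [map_neg, hτ, neg_neg]
  have h1 : dQ (q + 1) (c (q + 1) x) = x - c q (dQ q x) := eq_sub_of_add_eq (hc q x)
  rw [h1, map_sub]; abel

end setting


section mk

variable {R : Type u} [Ring R] {C D : ChainComplex (ModuleCat.{v} R) ℕ}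

/-- chain map from linear components -/
def mkHom (φ : ∀ q, C.X q →ₗ[R] D.X q)
    (h : ∀ q (x : C.X (q + 1)), (D.d (q + 1) q).hom (φ (q + 1) x) = φ q ((C.d (q + 1) q).hom x)) :
    C ⟶ D where
  f q := ModuleCat.ofHom (φ q)
  comm' i j hij := by
    have : j + 1 = i := hij
    subst this
    ext x
    exact h j x

@[simp] theorem mkHom_f_hom (φ : ∀ q, C.X q →ₗ[R] D.X q)
    (h : ∀ q (x : C.X (q + 1)), (D.d (q + 1) q).hom (φ (q + 1) x) = φ q ((C.d (q + 1) q).hom x))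
    (q : ℕ) : ((mkHom φ h).f q).hom = φ q := rfl

/-- homotopy from components -/
def mkHomotopy (g₁ g₂ : C ⟶ D) (H : ∀ q, C.X q ⟶ D.X (q + 1))
    (h0 : g₁.f 0 = H 0 ≫ D.d 1 0 + g₂.f 0)
    (hs : ∀ q, g₁.f (q + 1) = C.d (q + 1) q ≫ H q + H (q + 1) ≫ D.d (q + 2) (q + 1) + g₂.f (q + 1)) :
    Homotopy g₁ g₂ where
  hom i j := if h : i + 1 = j then H i ≫ eqToHom (by rw [h]) else 0
  zero i j hij := dif_neg (fun h => hij h)
  comm i := by
    cases i with
    | zero =>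
      rw [Homotopy.dNext_zero_chainComplex, Homotopy.prevD_chainComplex, zero_add, dif_pos rfl,
        eqToHom_refl, Category.comp_id]
      exact h0
    | succ q =>
      rw [Homotopy.dNext_succ_chainComplex, Homotopy.prevD_chainComplex, dif_pos rfl, dif_pos rfl,
        eqToHom_refl, Category.comp_id, eqToHom_refl, Category.comp_id]
      exact hs q

theorem mkHomotopy_hom (g₁ g₂ : C ⟶ D) (H : ∀ q, C.X q ⟶ D.X (q + 1))
    (h0 : g₁.f 0 = H 0 ≫ D.d 1 0 + g₂.f 0)
    (hs : ∀ q, g₁.f (q + 1) = C.d (q + 1) q ≫ H q + H (q + 1) ≫ D.d (q + 2) (q + 1) + g₂.f (q + 1))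
    (i j : ℕ) : (mkHomotopy g₁ g₂ H h0 hs).hom i j =
      if h : i + 1 = j then H i ≫ eqToHom (by rw [h]) else 0 := rfl

end mk


section results

variable {R : Type u} [Ring R] {A' A : ChainComplex (ModuleCat.{v} R) ℕ} (f : A' ⟶ A)
  (Q : ℕ → Type v) [∀ q, AddCommGroup (Q q)] [∀ q, Module R (Q q)]
  [∀ q, Module.Projective R (Q q)]
  (dQ : ∀ q, Q (q + 1) →ₗ[R] Q q) (π : ∀ q, A.X q →ₗ[R] Q q) [QuasiIso f]

theorem exists_retraction
    (hf : ∀ q, Function.Injective (f.f q).hom)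
    (hπ : ∀ q, Function.Surjective (π q))
    (hex : ∀ q, LinearMap.ker (π q) = LinearMap.range (f.f q).hom)
    (hπd : ∀ q (a : A.X (q + 1)), π q ((A.d (q + 1) q).hom a) = dQ q (π (q + 1) a)) :
    ∃ g : A ⟶ A', f ≫ g = 𝟙 A' := by
  obtain ⟨s, ρ, γ, c, hs, hρ, _, _, hγ⟩ := exists_data f Q dQ π hf hπ hex hπd
  have hπf : ∀ q a', π q ((f.f q).hom a') = 0 := by
    intro q a'
    have : (f.f q).hom a' ∈ LinearMap.ker (π q) := by rw [hex]; exact ⟨a', rfl⟩
    exact this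
  have hρf : ∀ q a', ρ q ((f.f q).hom a') = a' := by
    intro q a'
    apply hf q
    rw [hρ, hπf, map_zero, sub_zero]
  have hρs : ∀ q x, ρ q (s q x) = 0 := by
    intro q x
    apply hf q
    rw [hρ, hs, sub_self, map_zero]
  have hdec : ∀ q (a : A.X q), a = (f.f q).hom (ρ q a) + s q (π q a) := by
    intro q a
    rw [hρ]; abel
  let g : ∀ q, A.X q →ₗ[R] A'.X q := fun q => ρ q + (γ q).comp (π q)
  have hgf : ∀ q a', g q ((f.f q).hom a') = a' := by
    intro q a'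
    change ρ q _ + γ q (π q _) = a'
    rw [hρf, hπf, map_zero, add_zero]
  have hgs : ∀ q x, g q (s q x) = γ q x := by
    intro q x
    change ρ q _ + γ q (π q _) = _
    rw [hρs, hs, zero_add]
  have hcomm : ∀ q (a : A.X (q + 1)),
      (A'.d (q + 1) q).hom (g (q + 1) a) = g q ((A.d (q + 1) q).hom a) := by
    intro q a
    rw [hdec (q + 1) a, map_add, map_add, map_add, map_add, hgf, hgs, ChainHom.comm_apply, hgf, hγ]
    congr 1
    change _ = ρ q _ + γ q (π q _)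
    rw [hπd, hs, add_comm]
  refine ⟨mkHom g hcomm, ?_⟩
  ext q x
  exact hgf q x

theorem exists_section_maps
    (hf : ∀ q, Function.Injective (f.f q).hom)
    (hπ : ∀ q, Function.Surjective (π q))
    (hex : ∀ q, LinearMap.ker (π q) = LinearMap.range (f.f q).hom)
    (hπd : ∀ q (a : A.X (q + 1)), π q ((A.d (q + 1) q).hom a) = dQ q (π (q + 1) a)) :
    ∃ h : ∀ q, Q q →ₗ[R] A.X q, (∀ q x, π q (h q x) = x) ∧
      ∀ q x, (A.d (q + 1) q).hom (h (q + 1) x) = h q (dQ q x) := by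
  obtain ⟨s, ρ, γ, c, hs, hρ, _, _, hγ⟩ := exists_data f Q dQ π hf hπ hex hπd
  have hπf : ∀ q a', π q ((f.f q).hom a') = 0 := by
    intro q a'
    have : (f.f q).hom a' ∈ LinearMap.ker (π q) := by rw [hex]; exact ⟨a', rfl⟩
    exact this
  refine ⟨fun q => s q - (f.f q).hom.comp (γ q), ?_, ?_⟩
  · intro q x
    change π q (s q x - (f.f q).hom (γ q x)) = x
    rw [map_sub, hs, hπf, sub_zero]
  · intro q x
    change (A.d (q + 1) q).hom (s (q + 1) x - (f.f (q + 1)).hom (γ (q + 1) x)) =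
      s q (dQ q x) - (f.f q).hom (γ q (dQ q x))
    rw [map_sub, ChainHom.comm_apply, hγ, map_add, hρ, hπd, hs]
    abel

theorem exists_homotopy
    (hf : ∀ q, Function.Injective (f.f q).hom)
    (hπ : ∀ q, Function.Surjective (π q))
    (hex : ∀ q, LinearMap.ker (π q) = LinearMap.range (f.f q).hom)
    (hπd : ∀ q (a : A.X (q + 1)), π q ((A.d (q + 1) q).hom a) = dQ q (π (q + 1) a))
    (g₁ g₂ : A ⟶ A') (h₁ : f ≫ g₁ = 𝟙 A') (h₂ : f ≫ g₂ = 𝟙 A') :
    ∃ H : Homotopy g₁ g₂, ∀ i j : ℕ, f.f i ≫ H.hom i j = 0 := by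
  obtain ⟨s, ρ, γ, c, hs, hρ, hc0, hc, _⟩ := exists_data f Q dQ π hf hπ hex hπd
  have hπf : ∀ q a', π q ((f.f q).hom a') = 0 := by
    intro q a'
    have : (f.f q).hom a' ∈ LinearMap.ker (π q) := by rw [hex]; exact ⟨a', rfl⟩
    exact this
  have hg₁ : ∀ q a', (g₁.f q).hom ((f.f q).hom a') = a' := by
    intro q a'
    have := congrArg (fun φ => (φ.f q).hom a') h₁
    exact this
  have hg₂ : ∀ q a', (g₂.f q).hom ((f.f q).hom a') = a' := by
    intro q a'
    have := congrArg (fun φ => (φ.f q).hom a') h₂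
    exact this
  let Δ : ∀ q, A.X q →ₗ[R] A'.X q := fun q => (g₁.f q).hom - (g₂.f q).hom
  have hΔf : ∀ q a', Δ q ((f.f q).hom a') = 0 := by
    intro q a'
    change (g₁.f q).hom _ - (g₂.f q).hom _ = 0
    rw [hg₁, hg₂, sub_self]
  have hΔs : ∀ q a, Δ q a = Δ q (s q (π q a)) := by
    intro q a
    have : a = (f.f q).hom (ρ q a) + s q (π q a) := by rw [hρ]; abel
    conv_lhs => rw [this]
    rw [map_add, hΔf, zero_add]
  have hΔd : ∀ q (a : A.X (q + 1)), (A'.d (q + 1) q).hom (Δ (q + 1) a) =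
      Δ q ((A.d (q + 1) q).hom a) := by
    intro q a
    change (A'.d (q + 1) q).hom ((g₁.f (q + 1)).hom a - (g₂.f (q + 1)).hom a) =
      (g₁.f q).hom _ - (g₂.f q).hom _
    rw [map_sub, ChainHom.comm_apply, ChainHom.comm_apply]
  let H : ∀ q, A.X q →ₗ[R] A'.X (q + 1) := fun q =>
    (Δ (q + 1)).comp ((s (q + 1)).comp ((c q).comp (π q)))
  have hH : ∀ q a, H q a = Δ (q + 1) (s (q + 1) (c q (π q a))) := fun q a => rfl
  have hdH : ∀ q a, (A'.d (q + 1) q).hom (H q a) = Δ q (s q (dQ q (c q (π q a)))) := by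
    intro q a
    rw [hH, hΔd, hΔs, hπd, hs]
  have key0 : ∀ a : A.X 0, (g₁.f 0).hom a = (A'.d 1 0).hom (H 0 a) + (g₂.f 0).hom a := by
    intro a
    rw [hdH, hc0, ← hΔs]
    change _ = ((g₁.f 0).hom a - (g₂.f 0).hom a) + _
    abel
  have keys : ∀ q (a : A.X (q + 1)), (g₁.f (q + 1)).hom a =
      H q ((A.d (q + 1) q).hom a) + (A'.d (q + 2) (q + 1)).hom (H (q + 1) a) +
        (g₂.f (q + 1)).hom a := by
    intro q a
    rw [hdH, hH, hπd, ← map_add, ← map_add, add_comm (c q _), hc, ← hΔs]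
    change _ = ((g₁.f (q + 1)).hom a - (g₂.f (q + 1)).hom a) + _
    abel
  refine ⟨mkHomotopy g₁ g₂ (fun q => ModuleCat.ofHom (H q)) ?_ ?_, ?_⟩
  · ext a
    exact key0 a
  · intro q
    ext a
    exact keys q a
  · intro i j
    rw [mkHomotopy_hom]
    split_ifs with h
    · subst h
      rw [eqToHom_refl, Category.comp_id]
      ext a'
      change H i ((f.f i).hom a') = 0
      rw [hH, hπf, map_zero, map_zero, map_zero]
    · rw [Limits.comp_zero]

end results


section quot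

variable {R : Type u} [Ring R] {A' A : ChainComplex (ModuleCat.{v} R) ℕ} (f : A' ⟶ A)

/-- the induced differential on degreewise quotients -/
def dQuo (q : ℕ) : ((A.X (q + 1)) ⧸ LinearMap.range (f.f (q + 1)).hom) →ₗ[R]
    ((A.X q) ⧸ LinearMap.range (f.f q).hom) :=
  Submodule.mapQ _ _ (A.d (q + 1) q).hom (by
    rintro _ ⟨a', rfl⟩
    exact ⟨(A'.d (q + 1) q).hom a', (ChainHom.comm_apply f (q + 1) q a').symm⟩)

theorem exists_retraction_quot [QuasiIso f]
    [∀ q, Module.Projective R ((A.X q) ⧸ LinearMap.range (f.f q).hom)]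
    (hf : ∀ q, Function.Injective (f.f q).hom) :
    ∃ g : A ⟶ A', f ≫ g = 𝟙 A' :=
  exists_retraction f (fun q => (A.X q) ⧸ LinearMap.range (f.f q).hom) (dQuo f)
    (fun _ => Submodule.mkQ _) hf (fun _ => Submodule.mkQ_surjective _)
    (fun _ => Submodule.ker_mkQ _) (fun _ _ => rfl)

theorem exists_homotopy_quot [QuasiIso f]
    [∀ q, Module.Projective R ((A.X q) ⧸ LinearMap.range (f.f q).hom)]
    (hf : ∀ q, Function.Injective (f.f q).hom)
    (g₁ g₂ : A ⟶ A') (h₁ : f ≫ g₁ = 𝟙 A') (h₂ : f ≫ g₂ = 𝟙 A') :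
    ∃ H : Homotopy g₁ g₂, ∀ i j : ℕ, f.f i ≫ H.hom i j = 0 :=
  exists_homotopy f (fun q => (A.X q) ⧸ LinearMap.range (f.f q).hom) (dQuo f)
    (fun _ => Submodule.mkQ _) hf (fun _ => Submodule.mkQ_surjective _)
    (fun _ => Submodule.ker_mkQ _) (fun _ _ => rfl) g₁ g₂ h₁ h₂

end quot


theorem projective_int_of_free {M : Type v} [AddCommGroup M] (m : Module ℤ M)
    (h : @Module.Free ℤ M _ _ (AddCommGroup.toIntModule M)) : @Module.Projective ℤ _ M _ m := by
  have e : m = AddCommGroup.toIntModule M := Subsingleton.elim _ _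
  subst e
  infer_instance

end Groth.Agent.Helper8.FreeCx
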