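import Mathlib
import Groth.Prelude.Def_ArtFun3
set_option autoImplicit false
universe u v

namespace Groth.Agent.Helper8.FreeSm
open ArtFun ArtFun.Art IsLocalRing CategoryTheory TensorProduct

section General

variable {Λ : Type u} {k : Type u} [CommRing Λ] [Field k] [Algebra Λ k] (C : Art Λ k)

/-- below a non-zero ideal there is an ideal with principal quotient killed by the maximal ideal -/
theorem exists_lower (J : Ideal C) (hJ : J ≠ ⊥) :
    ∃ (J' : Ideal C) (t : C), J' < J ∧ maximalIdeal C * J ≤ J' ∧ t ∈ J ∧ J = J' ⊔ Ideal.span {t} := by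
  have hne : maximalIdeal C * J ≠ J := by
    intro h
    apply hJ
    refine Submodule.eq_bot_of_le_smul_of_le_jacobson_bot (maximalIdeal C) J (IsNoetherian.noetherian J) ?_ ?_
    · rw [smul_eq_mul, h]
    · rw [IsLocalRing.jacobson_eq_maximalIdeal ⊥ bot_ne_top]
  have hlt : maximalIdeal C * J < J := lt_of_le_of_ne Ideal.mul_le_right hne
  obtain ⟨J', ⟨hJ'1, hJ'2⟩, hmax⟩ := (set_has_maximal_iff_noetherian (R := C) (M := C)).2 inferInstance
    {J'' : Ideal C | maximalIdeal C * J ≤ J'' ∧ J'' < J} ⟨_, le_rfl, hlt⟩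
  obtain ⟨t, htJ, htJ'⟩ := Set.exists_of_ssubset hJ'2
  refine ⟨J', t, hJ'2, hJ'1, htJ, ?_⟩
  by_contra hne'
  have hle : J' ⊔ Ideal.span {t} ≤ J := sup_le hJ'2.le ((Ideal.span_singleton_le_iff_mem J).2 htJ)
  have hlt' : J' ⊔ Ideal.span {t} < J := lt_of_le_of_ne hle (Ne.symm hne')
  have h2 : J' < J' ⊔ Ideal.span {t} := by
    refine lt_of_le_of_ne le_sup_left ?_
    intro h
    apply htJ'
    have : t ∈ J' ⊔ Ideal.span {t} := Ideal.mem_sup_right (Ideal.subset_span rfl)
    rw [← h] at this
    exact this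
  exact hmax _ ⟨hJ'1.trans le_sup_left, hlt'⟩ h2

/-- the small extension `C/J' → C/J` -/
theorem isSmallExt_quot (J J' : Ideal C) (t : C) (hJm : J ≤ maximalIdeal C) (hlt : J' < J)
    (hmul : maximalIdeal C * J ≤ J') (htJ : t ∈ J) (hsup : J = J' ⊔ Ideal.span {t}) :
    ∃ (hJ' : J' ≤ maximalIdeal C)
      (hle : J' ≤ RingHom.ker (quotMk C J hJm).toAlgHom),
      IsSmallExt (quotFactor hJ' (quotMk C J hJm) hle) ∧
      ∀ x : C, (quotMk C J' hJ' x) ∈
        RingHom.ker (quotFactor hJ' (quotMk C J hJm) hle).toAlgHom ↔ x ∈ J := by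
  have hJ' : J' ≤ maximalIdeal C := hlt.le.trans hJm
  have hle : J' ≤ RingHom.ker (quotMk C J hJm).toAlgHom := by
    intro x hx
    rw [RingHom.mem_ker]
    exact Ideal.Quotient.eq_zero_iff_mem.2 (hlt.le hx)
  have hker : ∀ x : C, (quotMk C J' hJ' x) ∈
      RingHom.ker (quotFactor hJ' (quotMk C J hJm) hle).toAlgHom ↔ x ∈ J := by
    intro x
    rw [RingHom.mem_ker]
    exact Ideal.Quotient.eq_zero_iff_mem
  have hmk0 : ∀ x : C, x ∈ J' → quotMk C J' hJ' x = 0 := fun x hx => Ideal.Quotient.eq_zero_iff_mem.2 hx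
  have hmk0' : ∀ x : C, quotMk C J' hJ' x = 0 → x ∈ J' := fun x hx => Ideal.Quotient.eq_zero_iff_mem.1 hx
  have hsurj := quotMk_surjective C J' hJ'
  refine ⟨hJ', hle, ⟨?_, ?_, ?_, ?_⟩, hker⟩
  · intro y
    obtain ⟨x, rfl⟩ := quotMk_surjective C J hJm y
    exact ⟨quotMk C J' hJ' x, rfl⟩
  · intro h
    obtain ⟨s, hsJ, hsJ'⟩ := Set.exists_of_ssubset hlt
    have h1 := (hker s).2 hsJ
    rw [h, Ideal.mem_bot] at h1
    exact hsJ' (hmk0' s h1)
  · refine ⟨⟨quotMk C J' hJ' t, ?_⟩⟩
    apply le_antisymm
    · intro y hy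
      obtain ⟨x, rfl⟩ := hsurj y
      have hx := (hker x).1 hy
      rw [hsup] at hx
      obtain ⟨a, ha, b, hb, rfl⟩ := Submodule.mem_sup.1 hx
      obtain ⟨c, rfl⟩ := Ideal.mem_span_singleton'.1 hb
      have e : quotMk C J' hJ' (a + c * t) = quotMk C J' hJ' c * quotMk C J' hJ' t := by
        have h1 : quotMk C J' hJ' (a + c * t) = quotMk C J' hJ' a + quotMk C J' hJ' (c * t) :=
          map_add (quotMk C J' hJ').toAlgHom a (c * t)
        have h2 : quotMk C J' hJ' (c * t) = quotMk C J' hJ' c * quotMk C J' hJ' t :=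
          map_mul (quotMk C J' hJ').toAlgHom c t
        rw [h1, h2, hmk0 a ha, zero_add]
      rw [e]
      exact Submodule.mem_span_singleton.2 ⟨quotMk C J' hJ' c, rfl⟩
    · rw [Submodule.span_le, Set.singleton_subset_iff]
      exact (hker t).2 htJ
  · rw [eq_bot_iff, Ideal.mul_le]
    intro y hy z hz
    obtain ⟨a, rfl⟩ := hsurj y
    obtain ⟨b, rfl⟩ := hsurj z
    have hb := (hker b).1 hz
    have ha : a ∈ maximalIdeal C := by
      have h1 := ((Art.quot C J' hJ').mem_maximalIdeal_iff _).1 hy
      have h2 : (Art.quot C J' hJ').res (quotMk C J' hJ' a) = C.res a := Art.res_app (quotMk C J' hJ') a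
      rw [h2] at h1
      exact (C.mem_maximalIdeal_iff a).2 h1
    rw [Ideal.mem_bot]
    have e : quotMk C J' hJ' a * quotMk C J' hJ' b = quotMk C J' hJ' (a * b) :=
      (map_mul (quotMk C J' hJ').toAlgHom a b).symm
    rw [e]
    exact hmk0 _ (hmul (Ideal.mul_mem_mul ha hb))

end General


section Main

variable {R : Type u} {k : Type u} [CommRing R] [Field k] [Algebra R k] (C : Art R k)
  (M : Type u) [AddCommGroup M] [Module R M]

theorem injective_lTensor_of_le
    (h : ∀ (A' A : Art R k) (p : A' ⟶ A), IsSmallExt p →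
      Function.Injective (LinearMap.lTensor M (((RingHom.ker p.toAlgHom).restrictScalars R).subtype)))
    (J : Ideal C) (hJm : J ≤ maximalIdeal C) :
    Function.Injective (LinearMap.lTensor M ((J.restrictScalars R).subtype)) := by
  induction J using WellFoundedLT.induction with
  | _ J ih =>
  by_cases hJ : J = ⊥
  · subst hJ
    have hzero : ∀ x : M ⊗[R] ↥((⊥ : Ideal C).restrictScalars R), x = 0 := by
      intro x
      induction x using TensorProduct.induction_on with
      | zero => rfl
      | tmul a j =>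
        have hj : j = 0 := Subtype.ext (Ideal.mem_bot.1 j.2)
        rw [hj, TensorProduct.tmul_zero]
      | add x y hx hy => rw [hx, hy, add_zero]
    intro x y _
    rw [hzero x, hzero y]
  · obtain ⟨J', t, hlt, hmul, htJ, hsup⟩ := exists_lower C J hJ
    obtain ⟨hJ', hle, hsmall, hker⟩ := isSmallExt_quot C J J' t hJm hlt hmul htJ hsup
    have hinj := h _ _ _ hsmall
    have ih' := ih J' hlt hJ'
    -- the maps
    let g : ↥(J.restrictScalars R) →ₗ[R]
        ↥((RingHom.ker (quotFactor hJ' (quotMk C J hJm) hle).toAlgHom).restrictScalars R) :=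
      { toFun := fun j => ⟨quotMk C J' hJ' j.1, (hker j.1).2 j.2⟩
        map_add' := fun a b => Subtype.ext (map_add (quotMk C J' hJ').toAlgHom a.1 b.1)
        map_smul' := fun r a => Subtype.ext (map_smul (quotMk C J' hJ').toAlgHom r a.1) }
    let incl : ↥(J'.restrictScalars R) →ₗ[R] ↥(J.restrictScalars R) :=
      Submodule.inclusion (fun x hx => hlt.le hx)
    let q : C →ₗ[R] (Art.quot C J' hJ') := (quotMk C J' hJ').toAlgHom.toLinearMap
    have hexact : Function.Exact incl g := by
      intro j
      constructor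
      · intro hj
        have h1 : quotMk C J' hJ' j.1 = 0 := congrArg Subtype.val hj
        have h2 : j.1 ∈ J' := Ideal.Quotient.eq_zero_iff_mem.1 h1
        exact ⟨⟨j.1, h2⟩, Subtype.ext rfl⟩
      · rintro ⟨j', rfl⟩
        apply Subtype.ext
        exact Ideal.Quotient.eq_zero_iff_mem.2 j'.2
    have hsurj : Function.Surjective g := by
      rintro ⟨y, hy⟩
      obtain ⟨x, rfl⟩ := quotMk_surjective C J' hJ' y
      exact ⟨⟨x, (hker x).1 hy⟩, Subtype.ext rfl⟩
    have hsq : ((RingHom.ker (quotFactor hJ' (quotMk C J hJm) hle).toAlgHom).restrictScalars R).subtype ∘ₗ g =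
        q ∘ₗ (J.restrictScalars R).subtype := LinearMap.ext fun _ => rfl
    have htri : (J.restrictScalars R).subtype ∘ₗ incl = (J'.restrictScalars R).subtype :=
      LinearMap.ext fun _ => rfl
    rw [injective_iff_map_eq_zero]
    intro x hx
    have h1 : LinearMap.lTensor M
        (((RingHom.ker (quotFactor hJ' (quotMk C J hJm) hle).toAlgHom).restrictScalars R).subtype)
        (LinearMap.lTensor M g x) = 0 := by
      rw [← LinearMap.comp_apply, ← LinearMap.lTensor_comp, hsq, LinearMap.lTensor_comp,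
        LinearMap.comp_apply, hx, map_zero]
    have h2 : LinearMap.lTensor M g x = 0 := by
      apply hinj
      rw [h1, map_zero]
    obtain ⟨y, rfl⟩ := (lTensor_exact M hexact hsurj x).1 h2
    have h3 : LinearMap.lTensor M ((J'.restrictScalars R).subtype) y = 0 := by
      rw [← htri, LinearMap.lTensor_comp, LinearMap.comp_apply, hx]
    have h4 : y = 0 := by
      apply ih'
      rw [h3, map_zero]
    rw [h4, map_zero]

end Main


section Final

/-- the ring itself as an object -/
noncomputable def selfArt (R : Type u) [CommRing R] [IsArtinianRing R] [IsLocalRing R]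
    (k : Type u) [Field k] [Algebra R k] (hk : Function.Surjective (algebraMap R k)) : Art R k :=
  { carrier := R
    res := Algebra.ofId R k
    res_surjective := hk }

theorem s18256
    (R : Type u) [CommRing R] [IsArtinianRing R] [IsLocalRing R]
    (k : Type u) [Field k] [Algebra R k] (hk : Function.Surjective (algebraMap R k))
    (M : Type u) [AddCommGroup M] [Module R M] [Module.Finite R M]
    (h : ∀ (A' A : ArtFun.Art R k) (p : A' ⟶ A), ArtFun.Art.IsSmallExt p →
      Function.Injective
        (LinearMap.lTensor M (((RingHom.ker p.toAlgHom).restrictScalars R).subtype))) :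
    Module.Free R M := by
  have H := injective_lTensor_of_le (selfArt R k hk) M h (maximalIdeal (selfArt R k hk)) le_rfl
  have H' : Function.Injective (LinearMap.lTensor M ((maximalIdeal R).subtype)) := H
  haveI : Module.FinitePresentation R M := Module.finitePresentation_of_finite R M
  exact Module.free_of_maximalIdeal_rTensor_injective ((LinearMap.lTensor_inj_iff_rTensor_inj M _).1 H')

end Final

end Groth.Agent.Helper8.FreeSm
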