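import Groth.Prelude.Def_Frob
import Mathlib

set_option autoImplicit false
open CategoryTheory CategoryTheory.Limits AlgebraicGeometry
universe u
open FrobSch

namespace Groth.Agent.Helper8.FrobA

/-- in a reduced ring with `p = 0`, `p`-th powers are injective -/
lemma pow_p_injective (p : ℕ) [Fact p.Prime] (R : Type u) [CommRing R] [IsReduced R]
    (h : (p : R) = 0) {x y : R} (hxy : x ^ p = y ^ p) : x = y := by
  rcases subsingleton_or_nontrivial R with hR | hR
  · exact Subsingleton.elim _ _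
  · haveI : CharP R p := (CharP.charP_iff_prime_eq_zero Fact.out).2 h
    have h1 : (x - y) ^ p = 0 := by rw [sub_pow_char, hxy, sub_self]
    exact sub_eq_zero.1 (IsReduced.eq_zero _ ⟨p, h1⟩)

lemma res_res {Y : Scheme.{u}} {V W : Y.Opens} (e : V = W) (e' : W = V) (y : Γ(Y, W)) :
    (Y.presheaf.map (eqToHom e').op).hom ((Y.presheaf.map (eqToHom e).op).hom y) = y := by
  subst e
  simp

/-- the absolute Frobenius of a reduced scheme is an epimorphism (left cancellable) -/
theorem eq_of_frob_comp_eq (p : ℕ) [Fact p.Prime] {Y Z : Scheme.{u}} [IsCharP Y p] [IsReduced Y]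
    (g₁ g₂ : Y ⟶ Z) (h : frob Y p ≫ g₁ = frob Y p ≫ g₂) : g₁ = g₂ := by
  have hb : g₁.base = g₂.base := by
    have := congrArg (fun f : Y ⟶ Z => f.base) h
    simpa using this
  refine Scheme.Hom.ext hb (fun U => ?_)
  have happ := Scheme.Hom.congr_app h U
  rw [Scheme.Hom.comp_app, Scheme.Hom.comp_app] at happ
  ext s
  have h1 := congrArg (fun φ => φ.hom s) happ
  simp only [CommRingCat.hom_comp, RingHom.comp_apply] at h1
  have e : g₁ ⁻¹ᵁ U = g₂ ⁻¹ᵁ U := congr((TopologicalSpace.Opens.map $hb).obj U)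
  have h2 : (g₁.app U s) ^ p = (Y.presheaf.map (eqToHom e).op).hom ((g₂.app U s) ^ p) := h1
  rw [map_pow] at h2
  have h3 : g₁.app U s = (Y.presheaf.map (eqToHom e).op).hom (g₂.app U s) :=
    pow_p_injective p _ (natCast_eq_zero_app Y p _) h2
  change (Y.presheaf.map (eqToHom e.symm).op).hom (g₁.app U s) = g₂.app U s
  rw [h3]
  exact res_res e e.symm _

theorem main (p : ℕ) [Fact p.Prime]
    {Y Z S : Scheme.{u}} [FrobSch.IsCharP S p]
    [IsReduced Y] (a : Y ⟶ S) (b : Z ⟶ S) (g₁ g₂ : Y ⟶ Z) (hg₁ : g₁ ≫ b = a) (hg₂ : g₂ ≫ b = a)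
    (h : FrobSch.relFrob a p ≫ pullback.map a (FrobSch.frob S p) b (FrobSch.frob S p) g₁ (𝟙 S) (𝟙 S)
        ((Category.comp_id a).trans hg₁.symm) ((Category.comp_id _).trans (Category.id_comp _).symm) =
      FrobSch.relFrob a p ≫ pullback.map a (FrobSch.frob S p) b (FrobSch.frob S p) g₂ (𝟙 S) (𝟙 S)
        ((Category.comp_id a).trans hg₂.symm) ((Category.comp_id _).trans (Category.id_comp _).symm)) :
    g₁ = g₂ := by
  haveI : IsCharP Y p := IsCharP.of_hom a p
  apply eq_of_frob_comp_eq p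
  have h1 := congrArg (fun φ => φ ≫ pullback.fst b (frob S p)) h
  simp only [pullback.map, Category.assoc, pullback.lift_fst] at h1
  rw [relFrob_fst_assoc, relFrob_fst_assoc] at h1
  exact h1

end Groth.Agent.Helper8.FrobA
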