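import Groth.Prelude.Def_W4c3convisocdirimgFrobIter
import Mathlib

set_option autoImplicit false
open CategoryTheory CategoryTheory.Limits AlgebraicGeometry
universe u
open FrobSch

namespace Groth.Agent.Helper8.FrobB

variable (p : ℕ) [Fact p.Prime]

instance quasiCompact_frob (T : Scheme.{u}) [IsCharP T p] : QuasiCompact (frob T p) :=
  ⟨fun _ _ hU => hU⟩

lemma quasiCompact_frobIter (T : Scheme.{u}) [IsCharP T p] (n : ℕ) :
    QuasiCompact (frobIter T p n) := by
  induction n with
  | zero => rw [frobIter_zero]; infer_instance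
  | succ n ih => rw [frobIter_succ]; haveI := ih; infer_instance

lemma frobIter_app_pow (T : Scheme.{u}) [IsCharP T p] (n : ℕ) (U : T.Opens) (s : Γ(T, U))
    (hs : (frobIter T p (n + 1)).app U s = 0) : (frobIter T p n).app U (s ^ p) = 0 := by
  have h1 : (frobIter T p (n + 1)).app U s = ((frobIter T p n).app U s) ^ p := rfl
  rw [map_pow]
  rw [h1] at hs
  exact hs

lemma ker_le (T : Scheme.{u}) [IsCharP T p] (n : ℕ) :
    (frobIter T p (n + 1)).ker ≤
      ((frobIter T p n).ker.subschemeι ≫ frob T p).ker := by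
  haveI := quasiCompact_frobIter p T n
  refine Scheme.IdealSheafData.le_ofIdeals_iff.mpr (fun U s hs => ?_)
  have h1 : (frobIter T p (n + 1)).app U s = 0 :=
    (frobIter T p (n + 1)).ideal_ker_le U hs
  have h2 := frobIter_app_pow p T n U s h1
  have h3 : s ^ p ∈ (frobIter T p n).ker.ideal U := by
    rw [Scheme.Hom.ker_apply]
    exact h2
  rw [← Scheme.IdealSheafData.ker_subschemeι_app] at h3
  rw [RingHom.mem_ker]
  have h4 : (((frobIter T p n).ker.subschemeι ≫ frob T p).app U).hom s =
      ((frobIter T p n).ker.subschemeι.app U).hom (s ^ p) := rfl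
  rw [h4]
  exact h3

theorem main (k : Type u) [Field k] [CharP k p] (n : ℕ)
    {T X : Scheme.{u}} [FrobSch.IsCharP T p] (t : T ⟶ Spec (CommRingCat.of k))
    (x : X ⟶ Spec (CommRingCat.of k))
    (i : T.nilradical.subscheme ⟶ (FrobSch.frobIter T p (n + 1)).ker.subscheme)
    (hi : i ≫ (FrobSch.frobIter T p (n + 1)).ker.subschemeι = T.nilradical.subschemeι)
    (j : T.nilradical.subscheme ⟶ (FrobSch.frobIter T p n).ker.subscheme)
    (hj : j ≫ (FrobSch.frobIter T p n).ker.subschemeι = T.nilradical.subschemeι)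
    (w : (FrobSch.frobIter T p (n + 1)).ker.subscheme ⟶ X)
    (hw : w ≫ x = (FrobSch.frobIter T p (n + 1)).ker.subschemeι ≫ t) :
    ∃ v : (FrobSch.frobIter T p n).ker.subscheme ⟶ FrobSch.frobTwist x p,
      v ≫ pullback.snd x (FrobSch.frob (Spec (CommRingCat.of k)) p) =
          (FrobSch.frobIter T p n).ker.subschemeι ≫ t ∧
        j ≫ v = i ≫ w ≫ FrobSch.relFrob x p := by
  haveI : IsCharP X p := IsCharP.of_hom x p
  haveI : IsCharP (frobIter T p n).ker.subscheme p :=
    IsCharP.of_hom (frobIter T p n).ker.subschemeι p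
  haveI : IsCharP (frobIter T p (n + 1)).ker.subscheme p :=
    IsCharP.of_hom (frobIter T p (n + 1)).ker.subschemeι p
  haveI : IsCharP T.nilradical.subscheme p := IsCharP.of_hom T.nilradical.subschemeι p
  have H : (frobIter T p (n + 1)).ker.subschemeι.ker ≤
      ((frobIter T p n).ker.subschemeι ≫ frob T p).ker := by
    rw [Scheme.IdealSheafData.ker_subschemeι]
    exact ker_le p T n
  let Φ := IsClosedImmersion.lift (frobIter T p (n + 1)).ker.subschemeι
    ((frobIter T p n).ker.subschemeι ≫ frob T p) H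
  have hΦ : Φ ≫ (frobIter T p (n + 1)).ker.subschemeι =
      (frobIter T p n).ker.subschemeι ≫ frob T p := IsClosedImmersion.lift_fac _ _ _
  have hcomm : (Φ ≫ w) ≫ x =
      ((frobIter T p n).ker.subschemeι ≫ t) ≫ frob (Spec (CommRingCat.of k)) p := by
    rw [Category.assoc, hw, ← Category.assoc, hΦ, Category.assoc, Category.assoc, frob_comp]
  refine ⟨pullback.lift (Φ ≫ w) ((frobIter T p n).ker.subschemeι ≫ t) hcomm,
    pullback.lift_snd _ _ _, ?_⟩
  have h1 : j ≫ Φ = frob T.nilradical.subscheme p ≫ i := by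
    rw [← cancel_mono (frobIter T p (n + 1)).ker.subschemeι, Category.assoc, hΦ,
      ← Category.assoc, hj, Category.assoc, hi, frob_comp]
  apply pullback.hom_ext
  · rw [Category.assoc, pullback.lift_fst, Category.assoc, Category.assoc, relFrob_fst,
      ← Category.assoc, h1, Category.assoc, frob_comp, Category.assoc]
  · rw [Category.assoc, pullback.lift_snd, Category.assoc, Category.assoc, relFrob_snd, hw,
      ← Category.assoc, hj, ← Category.assoc, hi]

end Groth.Agent.Helper8.FrobB
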