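import Groth.Prelude.Def_Frob
import Mathlib

set_option autoImplicit false
open CategoryTheory CategoryTheory.Limits AlgebraicGeometry
universe u
open FrobSch

namespace Groth.Agent.Helper8.FrobC

variable (p : ℕ) [Fact p.Prime]

lemma isIso_relFrob_iff {Y S : Scheme.{u}} [IsCharP S p] [IsCharP Y p] (q : Y ⟶ S) :
    IsIso (relFrob q p) ↔ IsPullback (frob Y p) q q (frob S p) := by
  constructor
  · intro h
    exact IsPullback.of_iso_pullback ⟨frob_comp p q⟩ (asIso (relFrob q p)) (relFrob_fst q p)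
      (relFrob_snd q p)
  · intro h
    have h1 : relFrob q p = h.isoPullback.hom := by
      apply pullback.hom_ext
      · rw [relFrob_fst, IsPullback.isoPullback_hom_fst]
      · rw [relFrob_snd, IsPullback.isoPullback_hom_snd]
    rw [h1]
    infer_instance

/-- relative perfectness is stable under base change -/
lemma isIso_relFrob_snd {Y S T : Scheme.{u}} [IsCharP S p] [IsCharP T p] (r : Y ⟶ S) (f : T ⟶ S)
    (hr : IsIso (relFrob r p)) : IsIso (relFrob (pullback.snd r f) p) := by
  haveI : IsCharP Y p := IsCharP.of_hom r p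
  haveI : IsCharP (pullback r f) p := IsCharP.of_hom (pullback.snd r f) p
  have hr' := (isIso_relFrob_iff p r).1 hr
  have hA : IsPullback (pullback.fst r f) (pullback.snd r f) r f := IsPullback.of_hasPullback r f
  rw [isIso_relFrob_iff]
  have hout : IsPullback (pullback.fst r f ≫ frob Y p) (pullback.snd r f) r (f ≫ frob S p) :=
    hA.paste_horiz hr'
  rw [← frob_comp, ← frob_comp] at hout
  exact IsPullback.of_right hout (frob_comp p (pullback.snd r f)) hA

theorem main {X X' T S : Scheme.{u}}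
    [FrobSch.IsCharP S p] [FrobSch.IsCharP T p] (f : T ⟶ S) (hf : IsIso (FrobSch.relFrob f p))
    (g : X ⟶ T) (π : X' ⟶ T) (hπ : IsIso (FrobSch.relFrob π p)) (c : X ⟶ X') (hc : c ≫ π = g)
    (huniv : ∀ (Y : Scheme.{u}) (q : Y ⟶ T), IsIso (FrobSch.relFrob q p) →
      ∀ k : X ⟶ Y, k ≫ q = g → ∃! h : X' ⟶ Y, h ≫ q = π ∧ c ≫ h = k) :
    IsIso (FrobSch.relFrob (π ≫ f) p) ∧
      ∀ (Y : Scheme.{u}) (r : Y ⟶ S), IsIso (FrobSch.relFrob r p) →
        ∀ k : X ⟶ Y, k ≫ r = g ≫ f → ∃! h : X' ⟶ Y, h ≫ r = π ≫ f ∧ c ≫ h = k := by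
  haveI : IsCharP X' p := IsCharP.of_hom π p
  have hπ' := (isIso_relFrob_iff p π).1 hπ
  have hf' := (isIso_relFrob_iff p f).1 hf
  constructor
  · rw [isIso_relFrob_iff]
    exact hπ'.paste_vert hf'
  · intro Y r hr k hk
    have hq := isIso_relFrob_snd p r f hr
    obtain ⟨hT, ⟨h1, h2⟩, huniq⟩ := huniv (pullback r f) (pullback.snd r f) hq
      (pullback.lift k g hk) (pullback.lift_snd _ _ _)
    refine ⟨hT ≫ pullback.fst r f, ⟨?_, ?_⟩, ?_⟩
    · rw [Category.assoc, pullback.condition, ← Category.assoc, h1]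
    · rw [← Category.assoc, h2, pullback.lift_fst]
    · rintro h' ⟨h1', h2'⟩
      have h3 : pullback.lift h' π h1' = hT := by
        apply huniq
        refine ⟨pullback.lift_snd _ _ _, ?_⟩
        apply pullback.hom_ext
        · rw [Category.assoc, pullback.lift_fst, pullback.lift_fst, h2']
        · rw [Category.assoc, pullback.lift_snd, pullback.lift_snd, hc]
      rw [← h3, pullback.lift_fst]

end Groth.Agent.Helper8.FrobC
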