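import Mathlib

namespace Groth.Agent.Helper8.FrobEtale

open MvPolynomial

universe u

variable (p : ℕ) [Fact p.Prime] (A : Type u) [CommRing A] [CharP A p] (n : ℕ)
  (h : Matrix (Fin n) (Fin n) A)

noncomputable def rel (j : Fin n) : MvPolynomial (Fin n) A :=
  (MvPolynomial.X j) ^ p - ∑ i : Fin n, MvPolynomial.C (h i j) * MvPolynomial.X i

abbrev B := MvPolynomial (Fin n) A ⧸ Ideal.span (Set.range (rel p A n h))

theorem pderiv_rel (i j : Fin n) : pderiv i (rel p A n h j) = - C (h i j) := by
  unfold rel
  rw [map_sub, Derivation.leibniz_pow, map_sum]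
  have hp0 : (p : MvPolynomial (Fin n) A) = 0 := CharP.cast_eq_zero _ p
  have h1 : ∀ i' : Fin n, pderiv i (C (h i' j) * X i') = if i = i' then C (h i' j) else 0 := by
    intro i'
    rw [Derivation.leibniz, pderiv_C, pderiv_X]
    by_cases hii : i = i'
    · subst hii; simp
    · simp [hii, Pi.single_apply, Ne.symm hii]
  simp only [h1, Finset.sum_ite_eq, Finset.mem_univ, if_true]
  rw [nsmul_eq_mul, hp0]
  simp

noncomputable def pres : Algebra.PreSubmersivePresentation A (B p A n h) (Fin n) (Fin n) :=
  { Algebra.Presentation.naive (v := rel p A n h) with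
    map := id
    map_inj := Function.injective_id }

theorem jac : (pres p A n h).jacobiMatrix = - (C.mapMatrix h) := by
  refine Matrix.ext (fun i j => ?_)
  rw [Algebra.PreSubmersivePresentation.jacobiMatrix_apply]
  change pderiv i (rel p A n h j) = _
  rw [pderiv_rel]
  simp

theorem etale_of_isUnit (hdet : IsUnit h.det) : Algebra.Etale A (B p A n h) := by
  have hjac : IsUnit (pres p A n h).jacobian := by
    rw [Algebra.PreSubmersivePresentation.jacobian_eq_jacobiMatrix_det, jac]
    apply IsUnit.map
    rw [Matrix.det_neg, ← RingHom.map_det]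
    exact IsUnit.mul (IsUnit.pow _ isUnit_one.neg) (hdet.map C)
  let P : Algebra.SubmersivePresentation A (B p A n h) (Fin n) (Fin n) :=
    { pres p A n h with jacobian_isUnit := hjac }
  haveI : Algebra.IsStandardSmoothOfRelativeDimension 0 A (B p A n h) :=
    P.isStandardSmoothOfRelativeDimension (by simp [Algebra.Presentation.dimension])
  infer_instance

/-- retraction `B → A`, `X ↦ 0` -/
noncomputable def retr : B p A n h →ₐ[A] A :=
  Ideal.Quotient.liftₐ _ (MvPolynomial.aeval (fun _ : Fin n => (0 : A))) (by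
    intro a ha
    have : Ideal.span (Set.range (rel p A n h)) ≤
        RingHom.ker (MvPolynomial.aeval (R := A) (fun _ : Fin n => (0 : A))) := by
      rw [Ideal.span_le]
      rintro _ ⟨j, rfl⟩
      rw [SetLike.mem_coe, RingHom.mem_ker]
      have hp : p ≠ 0 := (Fact.out : p.Prime).ne_zero
      simp [rel, hp]
    exact this ha)

/-- the matrix over `B` -/
noncomputable abbrev hB : Matrix (Fin n) (Fin n) (B p A n h) := h.map (algebraMap A (B p A n h))

/-- gradient map -/
noncomputable def E : MvPolynomial (Fin n) A →ₗ[A] (Fin n → B p A n h) :=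
  LinearMap.pi (fun i => (Ideal.Quotient.mkₐ A _).toLinearMap ∘ₗ (pderiv i).toLinearMap)

theorem E_apply (g : MvPolynomial (Fin n) A) (i : Fin n) :
    E p A n h g i = Ideal.Quotient.mk _ (pderiv i g) := rfl

theorem E_mul (g₁ g₂ : MvPolynomial (Fin n) A) :
    E p A n h (g₁ * g₂) = (Ideal.Quotient.mk _ g₁ : B p A n h) • E p A n h g₂ +
      (Ideal.Quotient.mk _ g₂ : B p A n h) • E p A n h g₁ := by
  ext i
  simp only [E_apply, Derivation.leibniz, Pi.add_apply, Pi.smul_apply, smul_eq_mul, map_add,
    map_mul]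

theorem E_mem (g : MvPolynomial (Fin n) A) (hg : g ∈ Ideal.span (Set.range (rel p A n h))) :
    E p A n h g ∈ LinearMap.range (Matrix.mulVecLin (hB p A n h)) := by
  refine Submodule.span_induction ?_ ?_ ?_ ?_ hg
  · rintro _ ⟨j, rfl⟩
    refine ⟨- Pi.single j 1, ?_⟩
    ext i
    rw [E_apply, pderiv_rel]
    simp [Matrix.mulVec_neg, Matrix.mulVec_single]
    rfl
  · simp
  · intro x y _ _ hx hy
    rw [map_add]; exact Submodule.add_mem _ hx hy
  · intro a x hx hEx
    rw [smul_eq_mul, E_mul]
    have h0 : (Ideal.Quotient.mk (Ideal.span (Set.range (rel p A n h))) x : B p A n h) = 0 :=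
      Ideal.Quotient.eq_zero_iff_mem.mpr hx
    rw [h0]
    have hz : (0 : B p A n h) • E p A n h a = 0 := by funext i; simp
    rw [hz, add_zero]
    exact Submodule.smul_mem _ _ hEx

noncomputable abbrev W : Submodule (B p A n h) (Fin n → B p A n h) :=
  LinearMap.range (Matrix.mulVecLin (hB p A n h))

noncomputable def Dbar : B p A n h →ₗ[A] ((Fin n → B p A n h) ⧸ W p A n h) :=
  (Submodule.liftQ ((Ideal.span (Set.range (rel p A n h))).restrictScalars A)
    (((W p A n h).mkQ.restrictScalars A) ∘ₗ E p A n h) (by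
      intro g hg
      rw [LinearMap.mem_ker]
      exact (Submodule.Quotient.mk_eq_zero _).mpr (E_mem p A n h g hg))) ∘ₗ
  (Submodule.Quotient.restrictScalarsEquiv A (Ideal.span (Set.range (rel p A n h)))).symm.toLinearMap

theorem Dbar_mk (g : MvPolynomial (Fin n) A) :
    Dbar p A n h (Ideal.Quotient.mk _ g) = (W p A n h).mkQ (E p A n h g) := rfl

noncomputable def Der : Derivation A (B p A n h) ((Fin n → B p A n h) ⧸ W p A n h) :=
  Derivation.mk' (Dbar p A n h) (by
    intro b₁ b₂
    obtain ⟨g₁, rfl⟩ := Ideal.Quotient.mk_surjective b₁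
    obtain ⟨g₂, rfl⟩ := Ideal.Quotient.mk_surjective b₂
    rw [← map_mul, Dbar_mk, Dbar_mk, Dbar_mk, E_mul, map_add]
    rfl)

theorem isUnit_of_etale (het : Algebra.Etale A (B p A n h)) : IsUnit h.det := by
  classical
  haveI : Algebra.FormallyUnramified A (B p A n h) := inferInstance
  have hsub : Subsingleton (Ω[B p A n h⁄A]) := inferInstance
  have hD : ∀ b, Der p A n h b = 0 := by
    intro b
    rw [← Derivation.liftKaehlerDifferential_comp_D (Der p A n h) b]
    rw [Subsingleton.elim (KaehlerDifferential.D A (B p A n h) b) 0, map_zero]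
  have hW : W p A n h = ⊤ := by
    rw [eq_top_iff]
    intro v _
    have hv : v = ∑ i, v i • (Pi.single i 1 : Fin n → B p A n h) := by
      ext j
      simp [Finset.sum_apply, Pi.single_apply]
    rw [hv]
    refine Submodule.sum_mem _ (fun i _ => Submodule.smul_mem _ _ ?_)
    have h1 := hD (Ideal.Quotient.mk _ (X i))
    change Dbar p A n h (Ideal.Quotient.mk _ (X i)) = 0 at h1
    rw [Dbar_mk, Submodule.mkQ_apply, Submodule.Quotient.mk_eq_zero] at h1
    convert h1 using 1
    ext j
    rw [E_apply, pderiv_X]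
    simp [Pi.single_apply, eq_comm]
  have hsurj : Function.Surjective (hB p A n h).mulVec := by
    intro v
    have : v ∈ W p A n h := hW ▸ Submodule.mem_top
    obtain ⟨w, hw⟩ := this
    exact ⟨w, hw⟩
  have hu : IsUnit (hB p A n h) := Matrix.mulVec_surjective_iff_isUnit.mp hsurj
  have hdet : IsUnit (hB p A n h).det := (Matrix.isUnit_iff_isUnit_det _).mp hu
  have hdet' : (hB p A n h).det = algebraMap A (B p A n h) h.det := by
    rw [RingHom.map_det]; rfl
  rw [hdet'] at hdet
  have := hdet.map (retr p A n h)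
  rwa [AlgHom.commutes, Algebra.algebraMap_self_apply] at this

theorem main (p : ℕ) [Fact p.Prime]
    (A : Type u) [CommRing A] [CharP A p] (n : ℕ) (h : Matrix (Fin n) (Fin n) A) :
    Algebra.Etale A (MvPolynomial (Fin n) A ⧸ Ideal.span (Set.range fun j : Fin n =>
        (MvPolynomial.X j : MvPolynomial (Fin n) A) ^ p -
          ∑ i : Fin n, MvPolynomial.C (h i j) * MvPolynomial.X i)) ↔
      IsUnit h.det :=
  ⟨isUnit_of_etale p A n h, etale_of_isUnit p A n h⟩

end Groth.Agent.Helper8.FrobEtale
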