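import Mathlib
set_option autoImplicit false


open scoped TensorProduct

namespace Groth.Agent.Helper8.FrobFree

universe u v

section minimal
variable (R : Type u) [CommRing R] [IsLocalRing R] (M : Type v) [AddCommGroup M] [Module R M]
  [Module.Finite R M]

/-- minimal generators of a finite module over a local ring. -/
theorem exists_minimal_generators :
    ∃ (r : ℕ) (x : Fin r → M), Submodule.span R (Set.range x) = ⊤ ∧
      ∀ a : Fin r → R, ∑ i, a i • x i = 0 → ∀ i, a i ∈ IsLocalRing.maximalIdeal R := by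
  let k := IsLocalRing.ResidueField R
  let b := Module.finBasis k (k ⊗[R] M)
  have hsurj : ∀ v : k ⊗[R] M, ∃ m : M, (1 : k) ⊗ₜ[R] m = v :=
    TensorProduct.mk_surjective R M k Ideal.Quotient.mk_surjective
  choose f hf using fun i => hsurj (b i)
  refine ⟨_, f, IsLocalRing.span_eq_top_of_tmul_eq_basis f b hf, ?_⟩
  intro a ha i
  have h1 : ∑ i, (IsLocalRing.residue R (a i)) • b i = 0 := by
    have h2 : (1 : k) ⊗ₜ[R] (∑ i, a i • f i) = 0 := by rw [ha, TensorProduct.tmul_zero]
    rw [TensorProduct.tmul_sum] at h2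
    rw [← h2]
    apply Finset.sum_congr rfl
    intro i _
    rw [TensorProduct.tmul_smul, hf i, ← algebraMap_smul k (a i) (b i)]
    rfl
  have h3 := Fintype.linearIndependent_iff.1 b.linearIndependent _ h1 i
  exact (IsLocalRing.residue_eq_zero_iff _).1 h3

end minimal


section core
variable {R : Type u} [CommRing R] [IsLocalRing R] {M : Type v} [AddCommGroup M] [Module R M]
  [Module.FinitePresentation R M]

theorem core (p : ℕ) (hp : 2 ≤ p) (ψ : M → M)
    (hG : Submodule.span R (Set.range ψ) = ⊤)
    (hadd : ∀ x y, ψ (x + y) = ψ x + ψ y) (hsmul : ∀ (a : R) x, ψ (a • x) = a ^ p • ψ x)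
    (hV : ∀ (r : ℕ) (x : Fin r → M) (z : Fin r → R), Submodule.span R (Set.range x) = ⊤ →
      ∑ j, z j • ψ (x j) = 0 →
      ∃ (k : ℕ) (a : Fin r → Fin k → R) (y : Fin k → R),
        (∀ i, z i = ∑ j, a i j ^ p * y j) ∧ ∀ j, ∑ i, a i j • x i = 0) :
    Module.Free R M := by
  classical
  obtain ⟨r, x, hx, hmin⟩ := exists_minimal_generators R M
  set π : (Fin r → R) →ₗ[R] M := Fintype.linearCombination R x with hπ
  have hπapp : ∀ a : Fin r → R, π a = ∑ i, a i • x i := fun a => by
    rw [hπ, Fintype.linearCombination_apply]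
  have hπsurj : Function.Surjective π := by
    rw [← LinearMap.range_eq_top, hπ, Fintype.range_linearCombination, hx]
  -- finitely many generators of the kernel
  have hKfg : (LinearMap.ker π).FG := Module.FinitePresentation.fg_ker π hπsurj
  obtain ⟨G, hGspan⟩ := hKfg
  set I : Ideal R := Ideal.span {c | ∃ g ∈ G, ∃ i, c = g i} with hI
  have hIfg : I.FG := by
    refine ⟨(G.biUnion fun g => Finset.univ.image fun i => g i), ?_⟩
    rw [hI]
    congr 1
    ext c
    simp only [Finset.coe_biUnion, Finset.mem_coe, Finset.coe_image, Finset.coe_univ,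
      Set.image_univ, Set.mem_iUnion, Set.mem_range, exists_prop, Set.mem_ofPred_eq]
    constructor
    · rintro ⟨g, hg, i, rfl⟩
      exact ⟨g, hg, i, rfl⟩
    · rintro ⟨g, hg, i, rfl⟩
      exact ⟨g, hg, i, rfl⟩
  have hKI : ∀ a ∈ LinearMap.ker π, ∀ i, a i ∈ I := by
    intro a ha
    rw [← hGspan] at ha
    refine Submodule.span_induction ?_ ?_ ?_ ?_ ha
    · intro g hg i
      exact Ideal.subset_span ⟨g, hg, i, rfl⟩
    · intro i; exact I.zero_mem
    · intro a b _ _ h1 h2 i
      exact I.add_mem (h1 i) (h2 i)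
    · intro c a _ h1 i
      exact I.mul_mem_left c (h1 i)
  have hIm : I ≤ IsLocalRing.maximalIdeal R := by
    rw [hI, Ideal.span_le]
    rintro c ⟨g, hg, i, rfl⟩
    have hgK : g ∈ LinearMap.ker π := hGspan ▸ Submodule.subset_span hg
    exact hmin g (by rw [← hπapp]; exact hgK) i
  -- the map L
  set L : (Fin r → R) →ₗ[R] M := Fintype.linearCombination R (ψ ∘ x) with hL
  have hLapp : ∀ z : Fin r → R, L z = ∑ j, z j • ψ (x j) := fun z => by
    rw [hL, Fintype.linearCombination_apply]; rfl
  have hψsum : ∀ (s : Finset (Fin r)) (a : Fin r → R),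
      ψ (∑ j ∈ s, a j • x j) = ∑ j ∈ s, a j ^ p • ψ (x j) := by
    intro s a
    induction s using Finset.induction_on with
    | empty =>
      simp only [Finset.sum_empty]
      have := hsmul 0 0
      rw [zero_smul, zero_pow (by omega), zero_smul] at this
      exact this
    | insert j s hj ih =>
      rw [Finset.sum_insert hj, Finset.sum_insert hj, hadd, hsmul, ih]
  have hLsurj : Function.Surjective L := by
    rw [← LinearMap.range_eq_top, eq_top_iff, ← hG, Submodule.span_le]
    rintro _ ⟨m, rfl⟩
    obtain ⟨a, rfl⟩ := hπsurj m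
    refine ⟨fun j => a j ^ p, ?_⟩
    rw [hLapp, hπapp, hψsum]
  obtain ⟨P, hP⟩ := Module.projective_lifting_property π L hπsurj
  have hPapp : ∀ z, π (P z) = L z := fun z => LinearMap.congr_fun hP z
  -- kernel of π lies in m • ⊤
  have hKm : LinearMap.ker π ≤ IsLocalRing.maximalIdeal R • (⊤ : Submodule R (Fin r → R)) := by
    intro a ha
    have h1 : ∀ i, a i ∈ IsLocalRing.maximalIdeal R := hmin a (by rw [← hπapp]; exact ha)
    have h2 : a = ∑ i, a i • (Pi.single i (1 : R) : Fin r → R) := by
      funext j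
      simp [Finset.sum_apply, Pi.single_apply]
    rw [h2]
    exact Submodule.sum_mem _ fun i _ => Submodule.smul_mem_smul (h1 i) Submodule.mem_top
  have hPsurj : Function.Surjective P := by
    rw [← LinearMap.range_eq_top, eq_top_iff]
    apply Submodule.le_of_le_smul_of_le_jacobson_bot (I := IsLocalRing.maximalIdeal R)
      (Module.Finite.fg_top) (IsLocalRing.maximalIdeal_le_jacobson _)
    intro y _
    obtain ⟨z, hz⟩ := hLsurj (π y)
    have h1 : y - P z ∈ LinearMap.ker π := by
      rw [LinearMap.mem_ker, map_sub, hPapp, hz, sub_self]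
    have : y = P z + (y - P z) := by abel
    rw [this]
    exact Submodule.add_mem_sup ⟨z, rfl⟩ (hKm h1)
  -- coordinates of the kernel lie in m * I
  have hkey : ∀ g ∈ LinearMap.ker π, ∀ i, g i ∈ IsLocalRing.maximalIdeal R * I := by
    intro g hg i
    obtain ⟨z, rfl⟩ := hPsurj g
    have h0 : ∑ j, z j • ψ (x j) = 0 := by
      rw [← hLapp, ← hPapp]; exact hg
    obtain ⟨k, a, y, hz, ha⟩ := hV r x z hx h0
    have hzmem : ∀ j, z j ∈ IsLocalRing.maximalIdeal R * I := by
      intro j
      rw [hz j]
      refine Ideal.sum_mem _ fun l _ => Ideal.mul_mem_right _ _ ?_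
      have hal : a j l ∈ I := hKI (fun i => a i l) (by rw [LinearMap.mem_ker, hπapp]; exact ha l) j
      have : a j l ^ p = a j l ^ (p - 1) * a j l := by
        rw [← pow_succ]; congr 1; omega
      rw [this]
      exact Ideal.mul_mem_mul (Ideal.pow_mem_of_mem _ (hIm hal) _ (by omega)) hal
    have h2 : z = ∑ j, z j • (Pi.single j (1 : R) : Fin r → R) := by
      funext j
      simp [Finset.sum_apply, Pi.single_apply]
    rw [h2, map_sum, Finset.sum_apply]
    refine Ideal.sum_mem _ fun j _ => ?_
    rw [map_smul, Pi.smul_apply, smul_eq_mul]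
    exact Ideal.mul_mem_right _ _ (hzmem j)
  have hIle : I ≤ IsLocalRing.maximalIdeal R • I := by
    rw [hI, Ideal.span_le]
    rintro c ⟨g, hg, i, rfl⟩
    have hgK : g ∈ LinearMap.ker π := hGspan ▸ Submodule.subset_span hg
    rw [← hI, smul_eq_mul]
    exact hkey g hgK i
  have hI0 : I = ⊥ := Submodule.eq_bot_of_le_smul_of_le_jacobson_bot
    (IsLocalRing.maximalIdeal R) I hIfg hIle (IsLocalRing.maximalIdeal_le_jacobson _)
  have hπinj : Function.Injective π := by
    rw [← LinearMap.ker_eq_bot, eq_bot_iff]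
    intro a ha
    rw [Submodule.mem_bot]
    funext i
    have := hKI a ha i
    rw [hI0, Submodule.mem_bot] at this
    exact this
  exact Module.Free.of_equiv (LinearEquiv.ofBijective π ⟨hπinj, hπsurj⟩)

end core

end Groth.Agent.Helper8.FrobFree
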