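import Mathlib
import Groth.Prelude.Def_FrobAlg
import Groth.Agent.Helper8.FrobFree
set_option autoImplicit false


open scoped TensorProduct

namespace Groth.Agent.Helper8.FrobFree

universe u v

theorem s16368 (p : ℕ) [Fact p.Prime] (R : Type u) [CommRing R] [IsLocalRing R] [CharP R p]
    (M : Type v) [AddCommGroup M] [Module R M] [Module.FinitePresentation R M]
    (e : (FrobAlg.Twist p R ⊗[R] M) →ₛₗ[((FrobAlg.toTwist p R).symm : FrobAlg.Twist p R →+* R)] M)
    (he : Function.Bijective e) :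
    Module.Free R M := by
  have hp2 : 2 ≤ p := (Fact.out : p.Prime).two_le
  have hsmulT : ∀ (a : R) (w : FrobAlg.Twist p R ⊗[R] M),
      a • w = (FrobAlg.toTwist p R (a ^ p)) • w := by
    intro a w
    rw [← FrobAlg.algebraMap_twist, algebraMap_smul]
  have hetmul : ∀ (t : FrobAlg.Twist p R) (m : M),
      e (t ⊗ₜ[R] m) = (FrobAlg.toTwist p R).symm t • e ((1 : FrobAlg.Twist p R) ⊗ₜ[R] m) := by
    intro t m
    have : t ⊗ₜ[R] m = t • ((1 : FrobAlg.Twist p R) ⊗ₜ[R] m) := by
      rw [TensorProduct.smul_tmul', smul_eq_mul, mul_one]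
    rw [this, map_smulₛₗ]
    rfl
  refine core p hp2 (fun m => e ((1 : FrobAlg.Twist p R) ⊗ₜ[R] m)) ?_ ?_ ?_ ?_
  · -- generation
    rw [eq_top_iff]
    intro m' _
    obtain ⟨w, rfl⟩ := he.2 m'
    clear * - hetmul
    induction w using TensorProduct.induction_on with
    | zero => rw [map_zero]; exact Submodule.zero_mem _
    | tmul t m =>
      rw [hetmul]
      exact Submodule.smul_mem _ _ (Submodule.subset_span ⟨m, rfl⟩)
    | add w1 w2 h1 h2 => rw [map_add]; exact Submodule.add_mem _ h1 h2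
  · intro x y
    simp only [TensorProduct.tmul_add, map_add]
  · intro a x
    rw [TensorProduct.tmul_smul, hsmulT, map_smulₛₗ]
    simp
  · intro r x z hx hz
    have h1 : e (∑ j, (FrobAlg.toTwist p R (z j)) ⊗ₜ[R] x j) = 0 := by
      rw [map_sum, ← hz]
      apply Finset.sum_congr rfl
      intro j _
      rw [hetmul]
      simp
    have h2 : ∑ j, (FrobAlg.toTwist p R (z j)) ⊗ₜ[R] x j = 0 := he.1 (h1.trans (map_zero e).symm)
    have h3 : ∑ j, x j ⊗ₜ[R] (FrobAlg.toTwist p R (z j)) = 0 := by
      have := congrArg (TensorProduct.comm R (FrobAlg.Twist p R) M) h2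
      simpa using this
    obtain ⟨k, a, y, hy, ha⟩ := TensorProduct.vanishesTrivially_of_sum_tmul_eq_zero R hx h3
    refine ⟨k, a, fun j => (FrobAlg.toTwist p R).symm (y j), ?_, ha⟩
    intro i
    have h4 := congrArg (FrobAlg.toTwist p R).symm (hy i)
    rw [RingEquiv.symm_apply_apply, map_sum] at h4
    rw [h4]
    apply Finset.sum_congr rfl
    intro j _
    rw [Algebra.smul_def, FrobAlg.algebraMap_twist, map_mul, RingEquiv.symm_apply_apply]

end Groth.Agent.Helper8.FrobFree
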