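import Mathlib
import Groth.Agent.Helper8.FrobFree
set_option autoImplicit false


open scoped TensorProduct
open CategoryTheory ChangeOfRings

namespace Groth.Agent.Helper8.FrobFree

universe u v u₁ u₂

section general

variable {R : Type u₁} {S : Type u₂} [CommRing R] [CommRing S] (f : R →+* S)
  (M : ModuleCat.{v} R) (N : ModuleCat.{max v u₂} S)
  (i : (ModuleCat.extendScalars f).obj M ≅ N)

/-- the map `m ↦ i (1 ⊗ m)`. -/
noncomputable def psi : M → N := fun m => i.hom ((1 : S) ⊗ₜ[R, f] m)

variable {f M N}

set_option backward.isDefEq.respectTransparency false in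
theorem psi_add (x y : M) : psi f M N i (x + y) = psi f M N i x + psi f M N i y := by
  unfold psi
  rw [← map_add]
  congr 1
  exact TensorProduct.tmul_add _ _ _

set_option backward.isDefEq.respectTransparency false in
theorem hom_tmul (s : S) (m : M) : i.hom (s ⊗ₜ[R, f] m) = s • psi f M N i m := by
  unfold psi
  rw [← map_smul, ModuleCat.ExtendScalars.smul_tmul, mul_one]

set_option backward.isDefEq.respectTransparency false in
theorem psi_smul (a : R) (x : M) : psi f M N i (a • x) = f a • psi f M N i x := by
  rw [← hom_tmul]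
  unfold psi
  congr 1
  let _ := f.toAlgebra
  have : (f a : S) = a • (1 : S) := by
    rw [Algebra.smul_def, mul_one]; rfl
  rw [this]
  exact (TensorProduct.smul_tmul a (1 : S) x).symm

set_option backward.isDefEq.respectTransparency false in
theorem span_psi : Submodule.span S (Set.range (psi f M N i)) = ⊤ := by
  rw [eq_top_iff]
  rintro n -
  have hsurj : Function.Surjective i.hom :=
    ((ConcreteCategory.isIso_iff_bijective i.hom).mp inferInstance).2
  obtain ⟨w, rfl⟩ := hsurj n
  let _ := f.toAlgebra
  induction w using TensorProduct.induction_on with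
  | zero => rw [map_zero]; exact Submodule.zero_mem _
  | tmul t m =>
    have := hom_tmul i t m
    rw [this]
    exact Submodule.smul_mem _ _ (Submodule.subset_span ⟨m, rfl⟩)
  | add w1 w2 h1 h2 => rw [map_add]; exact Submodule.add_mem _ h1 h2

set_option backward.isDefEq.respectTransparency false in
theorem vanish (r : ℕ) (x : Fin r → M) (z : Fin r → S)
    (hx : Submodule.span R (Set.range x) = ⊤)
    (hz : ∑ j, z j • psi f M N i (x j) = 0) :
    ∃ (k : ℕ) (a : Fin r → Fin k → R) (y : Fin k → S),
      (∀ l, z l = ∑ j, f (a l j) * y j) ∧ ∀ j, ∑ l, a l j • x l = 0 := by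
  have hinj : Function.Injective i.hom :=
    ((ConcreteCategory.isIso_iff_bijective i.hom).mp inferInstance).1
  have h1 : i.hom (∑ j, (z j) ⊗ₜ[R, f] (x j)) = 0 := by
    rw [map_sum, ← hz]
    apply Finset.sum_congr rfl
    intro j _
    exact hom_tmul i (z j) (x j)
  have h2 : ∑ j, (z j) ⊗ₜ[R, f] (x j) = (0 : (ModuleCat.extendScalars f).obj M) :=
    hinj (h1.trans (map_zero _).symm)
  let _ := f.toAlgebra
  have h3 : ∑ j, x j ⊗ₜ[R] (z j) = (0 : M ⊗[R] S) := by
    have := congrArg (TensorProduct.comm R S M) h2
    simpa using this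
  obtain ⟨k, a, y, hy, ha⟩ := TensorProduct.vanishesTrivially_of_sum_tmul_eq_zero R hx h3
  refine ⟨k, a, y, ?_, ha⟩
  intro l
  rw [hy l]
  apply Finset.sum_congr rfl
  intro j _
  rw [Algebra.smul_def]
  rfl

end general

theorem s0337 (p : ℕ) [Fact p.Prime] (R : Type u) [CommRing R] [IsLocalRing R] [IsNoetherianRing R] [CharP R p] (M : Type u) [AddCommGroup M] [Module R M] [Module.Finite R M] (h : Nonempty ((ModuleCat.extendScalars (frobenius R p)).obj (ModuleCat.of R M) ≅ ModuleCat.of R M)) : Module.Free R M := by
  obtain ⟨i⟩ := h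
  have hp2 : 2 ≤ p := (Fact.out : p.Prime).two_le
  have : Module.FinitePresentation R M := Module.finitePresentation_of_finite R M
  refine core p hp2 (psi (frobenius R p) (ModuleCat.of R M) (ModuleCat.of R M) i) (span_psi i) (psi_add i) ?_ ?_
  · intro a x
    exact psi_smul i a x
  · intro r x z hx hz
    exact vanish i r x z hx hz

end Groth.Agent.Helper8.FrobFree
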