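import Mathlib

namespace Groth.Agent.Helper8.FrobGR

open TensorProduct

universe u

theorem main (k : Type u) [Field k] (p : ℕ) [Fact p.Prime] [CharP k p]
    (R : Type u) [CommRing R] [Algebra k R] [Algebra.FiniteType k R] :
    ∃ n : ℕ, Algebra.IsGeometricallyReduced k
      ↥(Algebra.adjoin k (Set.range (fun x : R => x ^ (p ^ n)))) := by
  haveI : Algebra.FiniteType (AlgebraicClosure k) (AlgebraicClosure k ⊗[k] R) := inferInstance
  haveI : IsNoetherianRing (AlgebraicClosure k ⊗[k] R) :=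
    Algebra.FiniteType.isNoetherianRing (AlgebraicClosure k) _
  obtain ⟨m, hm⟩ := IsNoetherianRing.isNilpotent_nilradical (AlgebraicClosure k ⊗[k] R)
  refine ⟨m, ?_⟩
  rw [Algebra.isGeometricallyReduced_field_iff]
  have hmp : m ≤ p ^ m := (Nat.lt_pow_self (Fact.out : p.Prime).one_lt).le
  have hnil : ∀ y : AlgebraicClosure k ⊗[k] R, IsNilpotent y → y ^ (p ^ m) = 0 := by
    intro y hy
    have h1 : y ∈ nilradical (AlgebraicClosure k ⊗[k] R) := (mem_nilradical).2 hy
    have h2 : y ^ (p ^ m) ∈ (nilradical (AlgebraicClosure k ⊗[k] R)) ^ (p ^ m) :=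
      Ideal.pow_mem_pow h1 _
    have h3 := Ideal.pow_le_pow_right (I := nilradical (AlgebraicClosure k ⊗[k] R)) hmp h2
    rw [hm] at h3
    exact h3
  -- abbreviations
  obtain ⟨S, hS⟩ : ∃ S : Subalgebra k R,
      S = Algebra.adjoin k (Set.range (fun x : R => x ^ (p ^ m))) := ⟨_, rfl⟩
  rw [← hS]
  -- the injection K ⊗ S → K ⊗ R
  obtain ⟨ι, hι⟩ : ∃ ι : AlgebraicClosure k ⊗[k] S →ₐ[AlgebraicClosure k] AlgebraicClosure k ⊗[k] R,
      ι = Algebra.TensorProduct.map (AlgHom.id _ _) S.val := ⟨_, rfl⟩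
  have hιinj : Function.Injective ι := by
    have h1 : Function.Injective (S.val.toLinearMap.lTensor (AlgebraicClosure k)) :=
      Module.Flat.lTensor_preserves_injective_linearMap _ Subtype.val_injective
    intro a b hab
    apply h1
    have h2 : ∀ z, S.val.toLinearMap.lTensor (AlgebraicClosure k) z = ι z := by
      intro z
      induction z using TensorProduct.induction_on with
      | zero => simp
      | tmul c s => rw [hι]; simp
      | add a b ha hb => rw [map_add, map_add, ha, hb]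
    rw [h2, h2, hab]
  rcases subsingleton_or_nontrivial (AlgebraicClosure k ⊗[k] R) with hsub | hnt
  · haveI : Subsingleton (AlgebraicClosure k ⊗[k] S) := hιinj.subsingleton
    exact ⟨fun x _ => Subsingleton.elim _ _⟩
  haveI : CharP (AlgebraicClosure k) p :=
    charP_of_injective_algebraMap (algebraMap k (AlgebraicClosure k)).injective p
  haveI : CharP (AlgebraicClosure k ⊗[k] R) p :=
    charP_of_injective_algebraMap
      (algebraMap (AlgebraicClosure k) (AlgebraicClosure k ⊗[k] R)).injective p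
  have hppos : 0 < p ^ m := pow_pos (Fact.out : p.Prime).pos m
  -- every pure tensor `c ⊗ s` with `s ∈ S` is a `p^m`-th power in `K ⊗ R`
  have hpure : ∀ s : R, s ∈ S → ∀ c : AlgebraicClosure k,
      ∃ y : AlgebraicClosure k ⊗[k] R, c ⊗ₜ[k] s = y ^ (p ^ m) := by
    intro s hs
    rw [hS] at hs
    induction hs using Algebra.adjoin_induction with
    | mem x hx =>
      obtain ⟨x0, rfl⟩ := hx
      intro c
      obtain ⟨b, hb⟩ := IsAlgClosed.exists_pow_nat_eq c hppos
      refine ⟨b ⊗ₜ x0, ?_⟩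
      rw [Algebra.TensorProduct.tmul_pow, hb]
    | algebraMap r =>
      intro c
      obtain ⟨b, hb⟩ := IsAlgClosed.exists_pow_nat_eq (c * algebraMap k _ r) hppos
      refine ⟨b ⊗ₜ 1, ?_⟩
      rw [Algebra.TensorProduct.tmul_pow, hb, one_pow, Algebra.algebraMap_eq_smul_one,
        Algebra.algebraMap_eq_smul_one, TensorProduct.tmul_smul, mul_smul_comm, mul_one,
        TensorProduct.smul_tmul']
    | add s t _ _ hs ht =>
      intro c
      obtain ⟨y1, h1⟩ := hs c
      obtain ⟨y2, h2⟩ := ht c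
      refine ⟨y1 + y2, ?_⟩
      rw [TensorProduct.tmul_add, h1, h2, add_pow_char_pow]
    | mul s t _ _ hs ht =>
      intro c
      obtain ⟨y1, h1⟩ := hs c
      obtain ⟨y2, h2⟩ := ht 1
      refine ⟨y1 * y2, ?_⟩
      rw [mul_pow, ← h1, ← h2, Algebra.TensorProduct.tmul_mul_tmul, mul_one]
  have hpow : ∀ z : AlgebraicClosure k ⊗[k] S, ∃ y : AlgebraicClosure k ⊗[k] R,
      ι z = y ^ (p ^ m) := by
    intro z
    induction z using TensorProduct.induction_on with
    | zero => exact ⟨0, by rw [map_zero, zero_pow hppos.ne']⟩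
    | tmul c s =>
      obtain ⟨y, hy⟩ := hpure s.1 s.2 c
      exact ⟨y, by rw [hι]; simpa using hy⟩
    | add a b ha hb =>
      obtain ⟨y1, h1⟩ := ha
      obtain ⟨y2, h2⟩ := hb
      exact ⟨y1 + y2, by rw [map_add, h1, h2, add_pow_char_pow]⟩
  refine ⟨fun z hz => ?_⟩
  obtain ⟨y, hy⟩ := hpow z
  have h1 : IsNilpotent (ι z) := hz.map ι
  rw [hy] at h1
  have h2 : IsNilpotent y := by
    obtain ⟨e, he⟩ := h1
    rw [← pow_mul] at he
    exact ⟨_, he⟩
  have h3 := hnil y h2
  rw [← hy] at h3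
  exact hιinj (by rw [h3, map_zero])

end Groth.Agent.Helper8.FrobGR
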