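import Mathlib
import Groth.Agent.Helper8.FrobKer2

namespace Groth.Agent.Helper8.FrobKer
open MvPolynomial

theorem card_red (p d : ℕ) (hp : 0 < p) :
    Nat.card {n : Fin d →₀ ℕ // n ∈ {n : Fin d →₀ ℕ | ∀ i, n i ≤ p - 1}} = p ^ d := by
  let e : {n : Fin d →₀ ℕ // n ∈ {n : Fin d →₀ ℕ | ∀ i, n i ≤ p - 1}} ≃ (Fin d → Fin p) :=
    { toFun := fun n i => ⟨n.1 i, by have := n.2 i; omega⟩
      invFun := fun f => ⟨Finsupp.equivFunOnFinite.symm (fun i => (f i : ℕ)), fun i => by
        have := (f i).2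
        simp only [Finsupp.equivFunOnFinite_symm_apply_apply]
        omega⟩
      left_inv := fun n => by
        ext i
        simp
      right_inv := fun f => by
        ext i
        simp }
  rw [Nat.card_congr e, Nat.card_fun, Nat.card_fin, Nat.card_fin]

theorem finrank_eq {k : Type*} [Field k] (p : ℕ) [Fact p.Prime] [CharP k p]
    {B : Type*} [CommRing B] [Algebra k B] {d : ℕ}
    (ε : B →ₐ[k] k) (x : Fin d → B) (D : Fin d → B →ₗ[k] B)
    (N : ℕ) (hN : (RingHom.ker ε) ^ N = ⊥)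
    (hx : ∀ i, ε (x i) = 0)
    (hspan : ∀ a, ε a = 0 → ∃ c : Fin d → k, a - ∑ i, c i • x i ∈ (RingHom.ker ε) ^ 2)
    (hp : ∀ b, ε b = 0 → b ^ p = 0)
    (hD : ∀ j a b, D j (a * b) = a * D j b + D j a * b)
    (hDx : ∀ i j, ε (D j (x i)) = if i = j then 1 else 0) :
    Module.finrank k B = p ^ d := by
  have hs := aeval_surjective ε x N hN hx hspan
  let L : restrictDegree (Fin d) k (p - 1) →ₗ[k] B :=
    (aeval x : MvPolynomial (Fin d) k →ₐ[k] B).toLinearMap ∘ₗ (restrictDegree (Fin d) k (p - 1)).subtype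
  have hLinj : Function.Injective L := by
    rw [← LinearMap.ker_eq_bot, LinearMap.ker_eq_bot']
    intro g hg
    obtain ⟨n, hn⟩ : ∃ n, ∀ e ∈ g.1.support, e.degree < n := by
      refine ⟨g.1.support.sup (fun e => e.degree) + 1, fun e he => ?_⟩
      exact Nat.lt_succ_of_le (Finset.le_sup (f := fun e : Fin d →₀ ℕ => e.degree) he)
    exact Subtype.ext (red_ker p ε x D hp hD hDx n g.1 g.2 hn hg)
  have hLsurj : Function.Surjective L := by
    intro b
    obtain ⟨f, rfl⟩ := hs b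
    obtain ⟨g, hg, hfg⟩ := exists_red p d f
    refine ⟨⟨g, hg⟩, ?_⟩
    have h1 := K_le_ker p ε x hx hp hfg
    rw [RingHom.mem_ker, map_sub, sub_eq_zero] at h1
    exact h1.symm
  have e := LinearEquiv.ofBijective L ⟨hLinj, hLsurj⟩
  rw [← e.finrank_eq]
  have hb := Module.finrank_eq_nat_card_basis
    (basisRestrictSupport k {n : Fin d →₀ ℕ | ∀ i, n i ≤ p - 1})
  rw [← card_red p d (Fact.out : p.Prime).pos, ← hb]
  rfl

universe u v

theorem main2 (k : Type u) [Field k]
    (p : ℕ) [Fact p.Prime] [CharP k p] (A : Type v) [CommRing A] [HopfAlgebra k A]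
    [Module.Finite k A]
    (h1 : ∀ f : A, Bialgebra.counitAlgHom k A f = 0 → f ^ p = 0) :
    Module.finrank k A =
      p ^ Module.finrank k (RingHom.ker (Bialgebra.counitAlgHom k A)).Cotangent := by
  set I := RingHom.ker (Bialgebra.counitAlgHom k A) with hIdef
  have hI : ∀ a : A, a ∈ I ↔ Coalgebra.counit (R := k) a = 0 := fun a => Iff.rfl
  obtain ⟨x, D, hx, hspan, hD, hDx⟩ := exists_data I hI _ rfl
  obtain ⟨N, hN⟩ : ∃ N, I ^ N = ⊥ := by
    have hart : IsArtinianRing A := IsArtinianRing.of_finite k A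
    obtain ⟨N, hN⟩ := IsArtinianRing.isNilpotent_jacobson_bot (R := A)
    refine ⟨N, ?_⟩
    rw [eq_bot_iff, ← Ideal.zero_eq_bot, ← hN]
    apply Ideal.pow_right_mono
    intro a ha
    have hnil : a ∈ nilradical A := by
      rw [mem_nilradical]
      exact ⟨p, h1 a ha⟩
    rw [Ideal.jacobson_bot]
    exact (nilradical_le_jacobson A) hnil
  exact finrank_eq p (Bialgebra.counitAlgHom k A) x D N hN hx hspan h1 hD hDx

end Groth.Agent.Helper8.FrobKer
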