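import Mathlib

set_option autoImplicit false
universe u v

namespace Groth.Agent.Helper8.FrobLA

open Polynomial Matrix

section Mat

variable {K : Type u} [Field K] {ι : Type v} [Fintype ι] [DecidableEq ι]

theorem det_mul_det_of_mul_eq (M N : Matrix ι ι K) (c : K) (h : M * N = c • (1 : Matrix ι ι K)) :
    M.det * N.det = c ^ Fintype.card ι := by
  rw [← Matrix.det_mul, h, Matrix.det_smul, Matrix.det_one, mul_one]

theorem charpoly_of_mul_eq (M N : Matrix ι ι K) (c : K) (h : M * N = c • (1 : Matrix ι ι K)) :
    M.det • N.charpoly.reverse = (-1 : K[X]) ^ Fintype.card ι * M.charpoly.comp (C c * X) := by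
  rw [Matrix.reverse_charpoly, Matrix.charpolyRev]
  -- left-hand side
  have hL : M.det • (1 - (X : K[X]) • N.map C).det =
      (M.map C - (C c * X) • (1 : Matrix ι ι K[X])).det := by
    have h1 : (M.map C).det = C M.det := by
      rw [← RingHom.mapMatrix_apply, ← RingHom.map_det]
    rw [smul_eq_C_mul, ← h1, ← Matrix.det_mul]
    congr 1
    rw [Matrix.mul_sub, Matrix.mul_one, Matrix.mul_smul, ← Matrix.map_mul, h]
    congr 1
    ext i j
    simp only [Matrix.smul_apply, Matrix.map_apply, Matrix.one_apply, smul_eq_mul]
    by_cases hij : i = j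
    · rw [if_pos hij, if_pos hij, mul_one, mul_one, mul_comm]
    · rw [if_neg hij, if_neg hij, mul_zero, mul_zero, map_zero, mul_zero]
  -- right-hand side
  have hR : M.charpoly.comp (C c * X) =
      ((C c * X) • (1 : Matrix ι ι K[X]) - M.map C).det := by
    unfold Matrix.charpoly
    have := RingHom.map_det (Polynomial.compRingHom (C c * X : K[X])) (M.charmatrix)
    rw [Polynomial.coe_compRingHom_apply] at this
    rw [this]
    congr 1
    ext i j
    simp only [RingHom.mapMatrix_apply, Matrix.map_apply, Matrix.charmatrix_apply,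
      Polynomial.coe_compRingHom_apply, Matrix.sub_apply, Matrix.smul_apply, Matrix.one_apply,
      Matrix.diagonal_apply, smul_eq_mul]
    split_ifs <;> simp
  rw [hL, hR]
  have : (C c * X) • (1 : Matrix ι ι K[X]) - M.map C = -(M.map C - (C c * X) • 1) := by
    rw [neg_sub]
  rw [this, Matrix.det_neg, ← mul_assoc, ← pow_add, ← two_mul, pow_mul]
  simp

end Mat

section Lin

variable {K : Type u} [Field K] {V W : Type v} [AddCommGroup V] [Module K V] [AddCommGroup W]
  [Module K W] [Module.Finite K V] [Module.Finite K W]

/-- A pair of endomorphisms adjoint up to a scalar for a perfect pairing. -/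
theorem adjoint_pair (P : V →ₗ[K] W →ₗ[K] K) (hP : P.IsPerfPair) (A : V →ₗ[K] V)
    (A' : W →ₗ[K] W) (c : K) (h : ∀ v w, P (A v) (A' w) = c * P v w) :
    LinearMap.det A' * LinearMap.det A = c ^ Module.finrank K V ∧
      LinearMap.det A • A'.charpoly.reverse =
        (-1 : K[X]) ^ Module.finrank K V * A.charpoly.comp (C c * X) := by
  classical
  haveI := hP.flip
  let b := Module.finBasis K V
  let θ : W ≃ₗ[K] Module.Dual K V := P.flip.toPerfPair
  let b' : Module.Basis (Fin (Module.finrank K V)) K W := b.dualBasis.map θ.symm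
  have hθ : ∀ w v, θ w v = P v w := fun w v => rfl
  have hbb' : ∀ i j, P (b i) (b' j) = if i = j then 1 else 0 := by
    intro i j
    rw [← hθ]
    show θ (θ.symm (b.dualBasis j)) (b i) = _
    rw [LinearEquiv.apply_symm_apply, Module.Basis.dualBasis_apply_self]
  set M := LinearMap.toMatrix b b A with hM
  set M' := LinearMap.toMatrix b' b' A' with hM'
  have hAb : ∀ i, A (b i) = ∑ k, M k i • b k := by
    intro i
    conv_lhs => rw [← b.sum_repr (A (b i))]
    refine Finset.sum_congr rfl fun k _ => ?_
    rw [hM, LinearMap.toMatrix_apply]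
  have hAb' : ∀ j, A' (b' j) = ∑ l, M' l j • b' l := by
    intro j
    conv_lhs => rw [← b'.sum_repr (A' (b' j))]
    refine Finset.sum_congr rfl fun k _ => ?_
    rw [hM', LinearMap.toMatrix_apply]
  have hMM : Mᵀ * M' = c • (1 : Matrix _ _ K) := by
    ext i j
    have h1 := h (b i) (b' j)
    rw [hAb, hAb'] at h1
    simp only [map_sum, map_smul, LinearMap.sum_apply, LinearMap.smul_apply, smul_eq_mul,
      hbb'] at h1
    rw [Matrix.mul_apply, Matrix.smul_apply, Matrix.one_apply]
    simp only [Matrix.transpose_apply, smul_eq_mul]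
    rw [← h1]
    refine Finset.sum_congr rfl fun k _ => ?_
    simp [mul_comm]
  have hcard : Fintype.card (Fin (Module.finrank K V)) = Module.finrank K V := Fintype.card_fin _
  constructor
  · have := det_mul_det_of_mul_eq _ _ c hMM
    rw [Matrix.det_transpose, hcard, LinearMap.det_toMatrix, LinearMap.det_toMatrix] at this
    rw [mul_comm]
    exact this
  · have := charpoly_of_mul_eq _ _ c hMM
    rw [Matrix.det_transpose, Matrix.charpoly_transpose, hcard, LinearMap.det_toMatrix,
      LinearMap.charpoly_toMatrix, LinearMap.charpoly_toMatrix] at this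
    exact this

end Lin

end Groth.Agent.Helper8.FrobLA
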