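import Mathlib

set_option autoImplicit false
universe u v

namespace Groth.Agent.Helper8.FrobLA2

open Polynomial Matrix

/-- A space with a perfect skew-symmetric pairing has even dimension. -/
theorem even_finrank_of_skew {K : Type u} [Field K] [CharZero K] {V : Type v} [AddCommGroup V]
    [Module K V] [Module.Finite K V] (P : V →ₗ[K] V →ₗ[K] K) (hP : P.IsPerfPair)
    (hskew : ∀ x y, P x y = - P y x) : Even (Module.finrank K V) := by
  classical
  let b := Module.finBasis K V
  let G : Matrix (Fin (Module.finrank K V)) (Fin (Module.finrank K V)) K :=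
    fun i j => P (b i) (b j)
  have hGt : Gᵀ = -G := by
    ext i j
    show P (b j) (b i) = - P (b i) (b j)
    exact hskew _ _
  have hdet : G.det ≠ 0 := by
    intro h0
    obtain ⟨x, hx0, hx⟩ := (Matrix.exists_mulVec_eq_zero_iff (M := G)).2 h0
    -- the vector `v = Σ x_j b_j` is orthogonal to everything
    let v : V := ∑ j, x j • b j
    have hv : ∀ i, P (b i) v = 0 := by
      intro i
      have := congrFun hx i
      simp only [Matrix.mulVec, dotProduct, Pi.zero_apply] at this
      rw [← this]
      show P (b i) (∑ j, x j • b j) = _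
      rw [map_sum]
      refine Finset.sum_congr rfl fun j _ => ?_
      rw [map_smul, smul_eq_mul, mul_comm]
    have hv0 : P.flip v = 0 := by
      apply b.ext
      intro i
      exact hv i
    haveI := hP.flip
    have hinj : Function.Injective P.flip := (LinearMap.IsPerfPair.bijective_left P.flip).1
    have : v = 0 := hinj (by rw [hv0, map_zero])
    have hx' : x = 0 := by
      have h1 : b.repr v = 0 := by rw [this, map_zero]
      funext j
      have h2 : b.repr v j = x j := by
        show b.repr (∑ j, x j • b j) j = x j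
        simp [Finsupp.single_apply]
      rw [← h2, h1]
      rfl
    exact hx0 hx'
  have h1 : G.det = (-1) ^ Fintype.card (Fin (Module.finrank K V)) * G.det := by
    conv_lhs => rw [← Matrix.det_transpose, hGt, Matrix.det_neg]
  rw [Fintype.card_fin] at h1
  have h2 : ((-1 : K) ^ Module.finrank K V) = 1 := by
    have : ((-1 : K) ^ Module.finrank K V - 1) * G.det = 0 := by
      rw [sub_mul, one_mul, ← h1, sub_self]
    rcases mul_eq_zero.1 this with h | h
    · exact sub_eq_zero.1 h
    · exact absurd h hdet
  have hne : (-1 : K) ≠ 1 := by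
    intro h
    have : (2 : K) = 0 := by linear_combination -h
    exact two_ne_zero this
  exact (neg_one_pow_eq_one_iff_even hne).1 h2

/-- Parity of a symmetric sum of odd length. -/
theorem sum_symm_parity (m : ℕ) : ∀ (a : ℕ → ℤ), (∀ i, i < 2 * m + 1 → a i = a (2 * m - i)) →
    Even ((∑ i ∈ Finset.range (2 * m + 1), a i) - a m) := by
  induction m with
  | zero =>
    intro a _
    simp
  | succ m ih =>
    intro a ha
    have h0 : a (2 * (m + 1)) = a 0 := (ha 0 (by omega)).symm
    have hs : ∀ i, i < 2 * m + 1 → a (i + 1) = a (2 * m - i + 1) := by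
      intro i hi
      rw [ha (i + 1) (by omega)]
      congr 1
      omega
    have := ih (fun i => a (i + 1)) hs
    have e : 2 * (m + 1) + 1 = (2 * m + 1) + 1 + 1 := by ring
    rw [e, Finset.sum_range_succ, Finset.sum_range_succ']
    have e2 : 2 * m + 1 + 1 = 2 * (m + 1) := by ring
    rw [e2, h0]
    obtain ⟨c, hc⟩ := this
    refine ⟨c + a 0, ?_⟩
    beta_reduce at hc
    linarith

/-- Splitting an alternating sum. -/
theorem sum_range_even_odd (n : ℕ) (g : ℕ → ℤ) :
    ∑ i ∈ Finset.range (2 * n + 1), g i =
      ∑ i ∈ Finset.range (n + 1), g (2 * i) + ∑ i ∈ Finset.range n, g (2 * i + 1) := by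
  induction n with
  | zero => simp
  | succ n ih =>
    have e : 2 * (n + 1) + 1 = (2 * n + 1) + 1 + 1 := by ring
    rw [e, Finset.sum_range_succ, Finset.sum_range_succ, ih,
      Finset.sum_range_succ (fun i => g (2 * i)) (n + 1),
      Finset.sum_range_succ (fun i => g (2 * i + 1)) n]
    have e2 : 2 * (n + 1) = 2 * n + 1 + 1 := by ring
    rw [e2]
    ring

/-- Evaluating a reversed polynomial at an inverse. -/
theorem aeval_inv_reverse {K : Type u} [Field K] {L : Type v} [Field L] [Algebra K L]
    (χ : K[X]) (z : L) (hz : z ≠ 0) :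
    aeval z⁻¹ χ.reverse = aeval z χ * (z⁻¹) ^ χ.natDegree := by
  letI := invertibleOfNonzero hz
  have h := Polynomial.eval₂_reverse_mul_pow (algebraMap K L) z χ
  rw [invOf_eq_inv] at h
  rw [aeval_def, aeval_def, ← h, mul_assoc, ← mul_pow, mul_inv_cancel₀ hz, one_pow, mul_one]

end Groth.Agent.Helper8.FrobLA2
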