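import Mathlib
import Groth.Agent.Helper8.FrobLA2

set_option autoImplicit false
universe u

namespace Groth.Agent.Helper8.FrobLA3

open Polynomial Finset Groth.Agent.Helper8.FrobLA2

variable {K : Type u} [Field K] [CharZero K]

theorem funeq_abstract (n : ℕ) (Q : K) (hQ : Q ≠ 0) (d : ℤ → K) (B : ℤ → ℕ) (χ : ℤ → K[X])
    (hχ : ∀ i, (χ i).natDegree = B i)
    (F1 : ∀ i, d (2 * (n : ℤ) - i) * d i = Q ^ (n * B i))
    (F2 : ∀ i, d i • (χ (2 * (n : ℤ) - i)).reverse =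
      (-1 : K[X]) ^ (B i) * (χ i).comp (C (Q ^ n) * X))
    (F3 : ∀ i, B (2 * (n : ℤ) - i) = B i)
    (F4 : Odd n → Even (B (n : ℤ))) :
    ∃ ε : K, (ε = 1 ∨ ε = -1) ∧
      aeval ((RatFunc.X : RatFunc K)⁻¹ * RatFunc.C (Q ^ n)⁻¹)
          (∏ i ∈ range n, (χ ((2 * i + 1 : ℕ) : ℤ)).reverse) /
        aeval ((RatFunc.X : RatFunc K)⁻¹ * RatFunc.C (Q ^ n)⁻¹)
          (∏ i ∈ range (n + 1), (χ ((2 * i : ℕ) : ℤ)).reverse) =
      RatFunc.C ε * RatFunc.C Q ^ ((n : ℤ) *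
          (∑ i ∈ range (2 * n + 1), (-1 : ℤ) ^ i * (B (i : ℤ) : ℤ)) / 2) *
        (RatFunc.X : RatFunc K) ^ (∑ i ∈ range (2 * n + 1), (-1 : ℤ) ^ i * (B (i : ℤ) : ℤ)) *
        (algebraMap K[X] (RatFunc K) (∏ i ∈ range n, (χ ((2 * i + 1 : ℕ) : ℤ)).reverse) /
          algebraMap K[X] (RatFunc K) (∏ i ∈ range (n + 1), (χ ((2 * i : ℕ) : ℤ)).reverse)) := by
  classical
  -- the variable `z = q^n t`
  set z : RatFunc K := RatFunc.C (Q ^ n) * RatFunc.X with hzdef
  have hCQ : RatFunc.C (Q ^ n) ≠ (0 : RatFunc K) := by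
    rw [Ne, map_eq_zero]
    exact pow_ne_zero _ hQ
  have hz : z ≠ 0 := mul_ne_zero hCQ RatFunc.X_ne_zero
  have hu : (RatFunc.X : RatFunc K)⁻¹ * RatFunc.C (Q ^ n)⁻¹ = z⁻¹ := by
    rw [hzdef, mul_inv_rev, map_inv₀]
  rw [hu]
  have hd : ∀ i, d i ≠ 0 := by
    intro i h0
    have := F1 i
    rw [h0, mul_zero] at this
    exact pow_ne_zero _ hQ this.symm
  -- the identity for each degree
  have key : ∀ i : ℤ, aeval z⁻¹ (χ i).reverse =
      (-1 : RatFunc K) ^ (B i) * RatFunc.C (d i) * (z⁻¹) ^ (B i) *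
        algebraMap K[X] (RatFunc K) (χ (2 * (n : ℤ) - i)).reverse := by
    intro i
    have h1 := aeval_inv_reverse (χ i) z hz
    rw [hχ] at h1
    have h2 : aeval z (χ i) = algebraMap K[X] (RatFunc K) ((χ i).comp (C (Q ^ n) * X)) := by
      rw [← RatFunc.aeval_X_left_eq_algebraMap, aeval_comp]
      congr 2
      rw [map_mul, aeval_C, aeval_X, hzdef]
      rfl
    have h3 : (χ i).comp (C (Q ^ n) * X) =
        (-1 : K[X]) ^ (B i) * (d i • (χ (2 * (n : ℤ) - i)).reverse) := by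
      rw [F2 i, ← mul_assoc, ← pow_add, ← two_mul, pow_mul]
      simp
    rw [h1, h2, h3, map_mul, map_pow, map_neg, map_one, smul_eq_C_mul, map_mul,
      RatFunc.algebraMap_C]
    ring
  -- sums and products
  set so : ℕ := ∑ i ∈ range n, B ((2 * i + 1 : ℕ) : ℤ) with hso
  set se : ℕ := ∑ i ∈ range (n + 1), B ((2 * i : ℕ) : ℤ) with hse
  set Do : K := ∏ i ∈ range n, d ((2 * i + 1 : ℕ) : ℤ) with hDo
  set De : K := ∏ i ∈ range (n + 1), d ((2 * i : ℕ) : ℤ) with hDe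
  set N0 := algebraMap K[X] (RatFunc K) (∏ i ∈ range n, (χ ((2 * i + 1 : ℕ) : ℤ)).reverse)
    with hN0
  set D0 := algebraMap K[X] (RatFunc K) (∏ i ∈ range (n + 1), (χ ((2 * i : ℕ) : ℤ)).reverse)
    with hD0
  have hNu : aeval z⁻¹ (∏ i ∈ range n, (χ ((2 * i + 1 : ℕ) : ℤ)).reverse) =
      ((-1 : RatFunc K) ^ so * RatFunc.C Do * (z⁻¹) ^ so) * N0 := by
    rw [map_prod]
    simp only [key]
    rw [prod_mul_distrib, prod_mul_distrib, prod_mul_distrib, prod_pow_eq_pow_sum,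
      prod_pow_eq_pow_sum, ← map_prod (RatFunc.C : K →+* RatFunc K), hN0,
      map_prod (algebraMap K[X] (RatFunc K))]
    congr 1
    rw [← prod_range_reflect (fun j => algebraMap K[X] (RatFunc K)
      (χ ((2 * j + 1 : ℕ) : ℤ)).reverse) n]
    refine prod_congr rfl fun j hj => ?_
    have hj' := mem_range.1 hj
    congr 3
    omega
  have hDe' : aeval z⁻¹ (∏ i ∈ range (n + 1), (χ ((2 * i : ℕ) : ℤ)).reverse) =
      ((-1 : RatFunc K) ^ se * RatFunc.C De * (z⁻¹) ^ se) * D0 := by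
    rw [map_prod]
    simp only [key]
    rw [prod_mul_distrib, prod_mul_distrib, prod_mul_distrib, prod_pow_eq_pow_sum,
      prod_pow_eq_pow_sum, ← map_prod (RatFunc.C : K →+* RatFunc K), hD0,
      map_prod (algebraMap K[X] (RatFunc K))]
    congr 1
    rw [← prod_range_reflect (fun j => algebraMap K[X] (RatFunc K)
      (χ ((2 * j : ℕ) : ℤ)).reverse) (n + 1)]
    refine prod_congr rfl fun j hj => ?_
    have hj' := mem_range.1 hj
    congr 3
    omega
  rw [hNu, hDe', mul_div_mul_comm]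
  -- the Euler characteristic
  set E : ℤ := ∑ i ∈ range (2 * n + 1), (-1 : ℤ) ^ i * (B (i : ℤ) : ℤ) with hE
  have hEeq : E = (se : ℤ) - (so : ℤ) := by
    rw [hE, sum_range_even_odd n (fun i => (-1 : ℤ) ^ i * (B (i : ℤ) : ℤ)), hse, hso]
    push_cast
    rw [sub_eq_add_neg, ← sum_neg_distrib]
    congr 1
    · refine sum_congr rfl fun i _ => ?_
      rw [pow_mul]
      simp
    · refine sum_congr rfl fun i _ => ?_
      rw [pow_succ, pow_mul]
      simp
  -- parity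
  have hpar : Even ((n : ℤ) * E) := by
    rcases Nat.even_or_odd n with hn | hn
    · exact (Int.even_coe_nat n |>.2 hn).mul_right _
    · apply Even.mul_left
      have h4 := F4 hn
      obtain ⟨m, hm⟩ := hn
      have hsym : ∀ i, i < 2 * n + 1 → ((B (i : ℤ) : ℕ) : ℤ) = ((B ((2 * n - i : ℕ) : ℤ) : ℕ) : ℤ) := by
        intro i hi
        have : ((2 * n - i : ℕ) : ℤ) = 2 * (n : ℤ) - (i : ℤ) := by omega
        rw [this, F3]
      have h5 := sum_symm_parity n (fun i => ((B (i : ℤ) : ℕ) : ℤ)) hsym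
      -- `E ≡ Σ B_i`
      have h6 : Even (E - ∑ i ∈ range (2 * n + 1), ((B (i : ℤ) : ℕ) : ℤ)) := by
        rw [hE, ← sum_sub_distrib]
        apply Finset.even_sum
        intro i _
        rcases Nat.even_or_odd i with hi | hi
        · rw [hi.neg_one_pow, one_mul, sub_self]
          exact ⟨0, by ring⟩
        · rw [hi.neg_one_pow]
          refine ⟨-(B (i : ℤ) : ℤ), by ring⟩
      have h7 : Even ((B (n : ℤ) : ℕ) : ℤ) := (Int.even_coe_nat _).2 h4
      have := (h6.add h5).add h7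
      simpa using this
  obtain ⟨h, hh⟩ : ∃ h : ℤ, (n : ℤ) * E = 2 * h := by
    obtain ⟨c, hc⟩ := hpar
    exact ⟨c, by rw [hc]; ring⟩
  have hdiv : (n : ℤ) * E / 2 = h := by
    rw [hh]
    exact Int.mul_ediv_cancel_left _ two_ne_zero
  rw [hdiv]
  -- squares of the determinants
  have hDe2 : De * De = Q ^ (n * se) := by
    have hrefl : De = ∏ i ∈ range (n + 1), d (2 * (n : ℤ) - ((2 * i : ℕ) : ℤ)) := by
      rw [hDe, ← prod_range_reflect (fun j => d ((2 * j : ℕ) : ℤ)) (n + 1)]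
      refine prod_congr rfl fun j hj => ?_
      have hj' := mem_range.1 hj
      congr 1
      omega
    have h1 : De * De = (∏ i ∈ range (n + 1), d (2 * (n : ℤ) - ((2 * i : ℕ) : ℤ))) *
        (∏ i ∈ range (n + 1), d ((2 * i : ℕ) : ℤ)) := by rw [← hrefl]
    rw [h1, ← prod_mul_distrib]
    simp only [F1]
    rw [prod_pow_eq_pow_sum, hse, mul_sum]
  have hDo2 : Do * Do = Q ^ (n * so) := by
    have hrefl : Do = ∏ i ∈ range n, d (2 * (n : ℤ) - ((2 * i + 1 : ℕ) : ℤ)) := by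
      rw [hDo, ← prod_range_reflect (fun j => d ((2 * j + 1 : ℕ) : ℤ)) n]
      refine prod_congr rfl fun j hj => ?_
      have hj' := mem_range.1 hj
      congr 1
      omega
    have h1 : Do * Do = (∏ i ∈ range n, d (2 * (n : ℤ) - ((2 * i + 1 : ℕ) : ℤ))) *
        (∏ i ∈ range n, d ((2 * i + 1 : ℕ) : ℤ)) := by rw [← hrefl]
    rw [h1, ← prod_mul_distrib]
    simp only [F1]
    rw [prod_pow_eq_pow_sum, hso, mul_sum]
  have hDe0 : De ≠ 0 := by
    rw [hDe]
    exact prod_ne_zero_iff.2 fun i _ => hd _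
  -- the sign
  set s : K := (-1) ^ so / (-1) ^ se with hs
  have hs2 : s * s = 1 := by
    rw [hs, div_mul_div_comm, ← pow_add, ← pow_add, ← two_mul, ← two_mul, pow_mul, pow_mul]
    simp
  set ε : K := s * (Do / De) * Q ^ h with hε
  have hε2 : ε * ε = 1 := by
    have h1 : ε * ε = (s * s) * ((Do * Do) / (De * De)) * (Q ^ h * Q ^ h) := by
      rw [hε]
      field_simp
    rw [h1, hs2, hDo2, hDe2, one_mul, ← zpow_add₀ hQ, ← zpow_natCast, ← zpow_natCast,
      ← zpow_sub₀ hQ, ← zpow_add₀ hQ]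
    have : ((n * so : ℕ) : ℤ) - ((n * se : ℕ) : ℤ) + (h + h) = 0 := by
      push_cast
      have := hh
      rw [hEeq] at this
      linarith
    rw [this, zpow_zero]
  refine ⟨ε, mul_self_eq_one_iff.1 hε2, ?_⟩
  congr 1
  -- the scalar identity
  have hzE : (z⁻¹) ^ so / (z⁻¹) ^ se = RatFunc.C Q ^ (2 * h) * (RatFunc.X : RatFunc K) ^ E := by
    rw [inv_pow, inv_pow, inv_div_inv, ← zpow_natCast, ← zpow_natCast, ← zpow_sub₀ hz, ← hEeq,
      hzdef, mul_zpow, map_pow, ← zpow_natCast (RatFunc.C Q) n, ← zpow_mul, hh]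
  have hCε : RatFunc.C ε = RatFunc.C s * (RatFunc.C Do / RatFunc.C De) * RatFunc.C Q ^ h := by
    rw [hε, map_mul, map_mul, map_zpow₀, map_div₀ (RatFunc.C : K →+* RatFunc K) Do De]
  have hCs : RatFunc.C s = (-1 : RatFunc K) ^ so / (-1) ^ se := by
    rw [hs, map_div₀, map_pow, map_pow, map_neg, map_one]
  have hCQ' : (RatFunc.C Q : RatFunc K) ≠ 0 := by
    rw [Ne, map_eq_zero]
    exact hQ
  rw [mul_div_mul_comm, mul_div_mul_comm, hzE, hCε, hCs, two_mul, zpow_add₀ hCQ']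
  ring

end Groth.Agent.Helper8.FrobLA3
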