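import Mathlib.RingTheory.WittVector.Frobenius
import Mathlib.RingTheory.WittVector.Identities
import Mathlib.RingTheory.Ideal.Maps
import Mathlib.RingTheory.Ideal.Quotient.Operations
import Mathlib.LinearAlgebra.Basis.Defs
import Mathlib.LinearAlgebra.Basis.Basic
import Mathlib.Algebra.CharP.Lemmas

set_option autoImplicit false

namespace Groth.Agent.Helper8.FrobNil

open WittVector

section Ideals

universe u
variable (p : ℕ) [hp : Fact p.Prime] {S : Type u} [CommRing S]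

/-- the ideal generated by `p^i * a^(p^j)`, `i + j = k`, `a ∈ 𝔞`. -/
def dI (𝔞 : Ideal S) (k : ℕ) : Ideal S :=
  Ideal.span {s | ∃ i j : ℕ, ∃ a ∈ 𝔞, i + j = k ∧ s = (p : S) ^ i * a ^ (p ^ j)}

theorem le_dI_zero (𝔞 : Ideal S) : 𝔞 ≤ dI p 𝔞 0 := by
  intro a ha
  refine Ideal.subset_span ⟨0, 0, a, ha, rfl, ?_⟩
  simp

theorem p_mul_mem {𝔞 : Ideal S} {k : ℕ} {b : S} (hb : b ∈ dI p 𝔞 k) :
    (p : S) * b ∈ dI p 𝔞 (k + 1) := by
  refine Submodule.span_induction (p := fun b _ => (p : S) * b ∈ dI p 𝔞 (k + 1)) ?_ ?_ ?_ ?_ hb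
  · rintro s ⟨i, j, a, ha, hij, rfl⟩
    refine Ideal.subset_span ⟨i + 1, j, a, ha, by omega, ?_⟩
    rw [pow_succ]; ring
  · simp
  · intro x y _ _ hx hy
    rw [mul_add]; exact add_mem hx hy
  · intro s x _ hx
    rw [smul_eq_mul, mul_left_comm]
    exact Ideal.mul_mem_left _ _ hx

theorem pow_p_mem {𝔞 : Ideal S} {k : ℕ} {b : S} (hb : b ∈ dI p 𝔞 k) :
    b ^ p ∈ dI p 𝔞 (k + 1) := by
  have hp0 : p ≠ 0 := hp.out.ne_zero
  refine Submodule.span_induction (p := fun b _ => b ^ p ∈ dI p 𝔞 (k + 1)) ?_ ?_ ?_ ?_ hb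
  · rintro s ⟨i, j, a, ha, hij, rfl⟩
    have : ((p : S) ^ i * a ^ p ^ j) ^ p = (p : S) ^ (i * p - i) * ((p : S) ^ i * a ^ (p ^ (j + 1))) := by
      rw [mul_pow, ← pow_mul, ← pow_mul, ← mul_assoc, ← pow_add, ← pow_succ]
      congr 2
      have : i ≤ i * p := Nat.le_mul_of_pos_right i hp.out.pos
      omega
    rw [this]
    exact Ideal.mul_mem_left _ _ (Ideal.subset_span ⟨i, j + 1, a, ha, by omega, rfl⟩)
  · rw [zero_pow hp0]; exact zero_mem _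
  · intro x y hx' _ hx hy
    obtain ⟨r, hr⟩ := exists_add_pow_prime_eq hp.out x y
    rw [hr]
    refine add_mem (add_mem hx hy) ?_
    have : (p : S) * x * y * r = (y * r) * ((p : S) * x) := by ring
    rw [this]
    exact Ideal.mul_mem_left _ _ (p_mul_mem p hx')
  · intro s x _ hx
    rw [smul_eq_mul, mul_pow]
    exact Ideal.mul_mem_left _ _ hx

theorem dI_eq_bot (𝔞 : Ideal S) (e m : ℕ) (hpe : (p : S) ^ e = 0) (hm : ∀ a ∈ 𝔞, a ^ (p ^ m) = 0)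
    (k : ℕ) (hk : e + m ≤ k) : dI p 𝔞 k = ⊥ := by
  rw [eq_bot_iff, dI, Ideal.span_le]
  rintro s ⟨i, j, a, ha, hij, rfl⟩
  rw [SetLike.mem_coe, Ideal.mem_bot]
  by_cases hi : e ≤ i
  · rw [← Nat.sub_add_cancel hi, pow_add, hpe, mul_zero, zero_mul]
  · have hj : m ≤ j := by omega
    have : a ^ p ^ j = 0 := by
      rw [← Nat.sub_add_cancel hj, pow_add, mul_comm, pow_mul, hm a ha, zero_pow]
      exact (pow_pos hp.out.pos _).ne'
    rw [this, mul_zero]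

theorem constantCoeff_aux (n : ℕ) : MvPolynomial.constantCoeff (frobeniusPolyAux p n) = 0 := by
  have h := coeff_frobenius (p := p) (0 : WittVector p ℤ) n
  rw [map_zero, zero_coeff] at h
  have h0 : (0 : WittVector p ℤ).coeff = (0 : ℕ → ℤ) := by
    funext i; exact zero_coeff p ℤ i
  rw [h0, MvPolynomial.aeval_zero, frobeniusPoly, map_add, map_pow, MvPolynomial.constantCoeff_X,
    zero_pow hp.out.ne_zero, zero_add, map_mul, MvPolynomial.constantCoeff_C] at h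
  simp only [algebraMap_int_eq, eq_intCast, Int.cast_eq, Int.cast_mul, Int.cast_natCast] at h
  have hp0 : (p : ℤ) ≠ 0 := by exact_mod_cast hp.out.ne_zero
  rcases mul_eq_zero.mp h.symm with h | h
  · exact absurd h hp0
  · exact h

theorem aeval_mem_of_constantCoeff {σ : Type*} (g : MvPolynomial σ ℤ)
    (hg : MvPolynomial.constantCoeff g = 0) (I : Ideal S) (x : σ → S) (hx : ∀ i, x i ∈ I) :
    MvPolynomial.aeval x g ∈ I := by
  rw [← Ideal.Quotient.eq_zero_iff_mem, MvPolynomial.map_aeval]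
  have : (fun i => Ideal.Quotient.mk I (x i)) = (0 : σ → S ⧸ I) := by
    funext i; exact Ideal.Quotient.eq_zero_iff_mem.mpr (hx i)
  rw [this, MvPolynomial.eval₂Hom_zero_apply, hg, map_zero]

theorem coeff_frobenius_mem {𝔞 : Ideal S} {k : ℕ} (x : WittVector p S) (hx : ∀ n, x.coeff n ∈ dI p 𝔞 k) (n : ℕ) :
    (frobenius x).coeff n ∈ dI p 𝔞 (k + 1) := by
  rw [coeff_frobenius, frobeniusPoly, map_add, map_pow, MvPolynomial.aeval_X, map_mul,
    MvPolynomial.aeval_C]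
  refine add_mem (pow_p_mem p (hx n)) ?_
  have h1 := aeval_mem_of_constantCoeff (frobeniusPolyAux p n) (constantCoeff_aux p n) _ x.coeff hx
  have h2 := p_mul_mem p h1
  simpa using h2

/-- Witt vectors with all coefficients in `dI k`. -/
noncomputable def cI (𝔞 : Ideal S) (k : ℕ) : Ideal (WittVector p S) :=
  RingHom.ker (WittVector.map (p := p) (Ideal.Quotient.mk (dI p 𝔞 k)))

theorem mem_cI {𝔞 : Ideal S} {k : ℕ} (x : WittVector p S) : x ∈ cI p 𝔞 k ↔ ∀ n, x.coeff n ∈ dI p 𝔞 k := by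
  rw [cI, RingHom.mem_ker, WittVector.ext_iff]
  refine forall_congr' fun n => ?_
  rw [map_coeff, zero_coeff, Ideal.Quotient.eq_zero_iff_mem]

theorem frobenius_mem_cI {𝔞 : Ideal S} {k : ℕ} (x : WittVector p S) (hx : x ∈ cI p 𝔞 k) :
    frobenius x ∈ cI p 𝔞 (k + 1) := by
  rw [mem_cI] at hx ⊢
  exact coeff_frobenius_mem p x hx

theorem ker_map_le_cI {R : Type*} [CommRing R] (φ : S →+* R) :
    RingHom.ker (WittVector.map (p := p) φ) ≤ cI p (RingHom.ker φ) 0 := by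
  intro x hx
  rw [mem_cI]
  intro n
  apply le_dI_zero
  rw [RingHom.mem_ker, WittVector.ext_iff] at hx
  have := hx n
  rwa [map_coeff, zero_coeff] at this

theorem cI_eq_bot (𝔞 : Ideal S) (e m : ℕ) (hpe : (p : S) ^ e = 0) (hm : ∀ a ∈ 𝔞, a ^ (p ^ m) = 0)
    (k : ℕ) (hk : e + m ≤ k) : cI p 𝔞 k = ⊥ := by
  rw [eq_bot_iff]
  intro x hx
  rw [mem_cI, dI_eq_bot p 𝔞 e m hpe hm k hk] at hx
  rw [Ideal.mem_bot]
  ext n
  rw [zero_coeff]
  exact hx n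

theorem frobenius_mem_ker_map {R : Type u} [CommRing R] (φ : S →+* R) (x : WittVector p S)
    (hx : x ∈ RingHom.ker (WittVector.map (p := p) φ)) :
    frobenius x ∈ RingHom.ker (WittVector.map (p := p) φ) := by
  rw [RingHom.mem_ker] at hx ⊢
  have h : WittVector.map φ (frobenius x) = frobenius (WittVector.map φ x) := (frobenius_isPoly p).map φ x
  rw [h, hx, map_zero]

end Ideals


section Lin

variable {A : Type*} [CommRing A] (σ : A →+* A)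
variable {P₁ P₂ : Type*} [AddCommGroup P₁] [Module A P₁] [AddCommGroup P₂] [Module A P₂]
variable {ι : Type*} (b c : Module.Basis ι A P₁)
variable (F₁ : P₁ →ₛₗ[σ] P₁) (F₂ : P₂ →ₛₗ[σ] P₂)

/-- the operator `ω ↦ F₂ ∘ ω ∘ F₁⁻¹` (linearised). -/
noncomputable def U (ω : P₁ →ₗ[A] P₂) : P₁ →ₗ[A] P₂ := c.constr A (fun i => F₂ (ω (b i)))

theorem U_basis (ω : P₁ →ₗ[A] P₂) (i : ι) : U σ b c F₂ ω (c i) = F₂ (ω (b i)) := by
  rw [U, Module.Basis.constr_basis]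

variable {c F₁} in
theorem U_F (hc : ∀ i, c i = F₁ (b i)) (ω : P₁ →ₗ[A] P₂) (x : P₁) :
    U σ b c F₂ ω (F₁ x) = F₂ (ω x) := by
  have h : (U σ b c F₂ ω).comp F₁ = F₂.comp ω := by
    refine b.ext fun i => ?_
    rw [LinearMap.comp_apply, LinearMap.comp_apply, ← hc, U_basis]
  exact LinearMap.congr_fun h x

theorem U_add (ω ω' : P₁ →ₗ[A] P₂) : U σ b c F₂ (ω + ω') = U σ b c F₂ ω + U σ b c F₂ ω' := by
  refine c.ext fun i => ?_
  rw [LinearMap.add_apply, U_basis, U_basis, U_basis, LinearMap.add_apply, map_add]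

theorem U_zero : U σ b c F₂ (0 : P₁ →ₗ[A] P₂) = 0 := by
  refine c.ext fun i => ?_
  rw [U_basis, LinearMap.zero_apply, map_zero, LinearMap.zero_apply]

theorem U_sub (ω ω' : P₁ →ₗ[A] P₂) : U σ b c F₂ (ω - ω') = U σ b c F₂ ω - U σ b c F₂ ω' := by
  have := U_add σ b c F₂ (ω - ω') ω'
  rw [sub_add_cancel] at this
  rw [this, add_sub_cancel_right]

variable {c F₁} in
theorem U_eq_self_iff (hc : ∀ i, c i = F₁ (b i)) (α : P₁ →ₗ[A] P₂) :
    U σ b c F₂ α = α ↔ ∀ x, F₂ (α x) = α (F₁ x) := by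
  constructor
  · intro h x
    rw [← U_F σ b F₂ hc, h]
  · intro h
    refine c.ext fun i => ?_
    rw [U_basis, h, hc]

theorem F₂_mem {𝔠 𝔠' : Ideal A} (h : ∀ a ∈ 𝔠, σ a ∈ 𝔠') {y : P₂}
    (hy : y ∈ 𝔠 • (⊤ : Submodule A P₂)) : F₂ y ∈ 𝔠' • (⊤ : Submodule A P₂) := by
  refine Submodule.smul_induction_on hy ?_ ?_
  · intro a ha z _
    rw [LinearMap.map_smulₛₗ]
    exact Submodule.smul_mem_smul (h a ha) Submodule.mem_top
  · intro y z hy hz
    rw [map_add]; exact add_mem hy hz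

theorem U_mem [Finite ι] {𝔠 𝔠' : Ideal A} (h : ∀ a ∈ 𝔠, σ a ∈ 𝔠') {ω : P₁ →ₗ[A] P₂}
    (hω : ∀ x, ω x ∈ 𝔠 • (⊤ : Submodule A P₂)) (x : P₁) :
    U σ b c F₂ ω x ∈ 𝔠' • (⊤ : Submodule A P₂) := by
  cases nonempty_fintype ι
  rw [← c.sum_repr x, map_sum]
  refine Submodule.sum_mem _ fun i _ => ?_
  rw [map_smul, U_basis]
  exact Submodule.smul_mem _ _ (F₂_mem σ F₂ h (hω _))

theorem U_iterate_mem [Finite ι] (𝔠 : ℕ → Ideal A) (hstep : ∀ k, ∀ a ∈ 𝔠 k, σ a ∈ 𝔠 (k + 1))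
    {ω : P₁ →ₗ[A] P₂} (hω : ∀ x, ω x ∈ 𝔠 0 • (⊤ : Submodule A P₂)) (k : ℕ) (x : P₁) :
    (U σ b c F₂)^[k] ω x ∈ 𝔠 k • (⊤ : Submodule A P₂) := by
  induction k generalizing x with
  | zero => exact hω x
  | succ k ih =>
    rw [Function.iterate_succ_apply']
    exact U_mem σ b c F₂ (hstep k) ih x

theorem U_iterate_eq_zero [Finite ι] (𝔠 : ℕ → Ideal A) (hstep : ∀ k, ∀ a ∈ 𝔠 k, σ a ∈ 𝔠 (k + 1))
    (K : ℕ) (hK : 𝔠 K = ⊥)
    {ω : P₁ →ₗ[A] P₂} (hω : ∀ x, ω x ∈ 𝔠 0 • (⊤ : Submodule A P₂)) :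
    (U σ b c F₂)^[K] ω = 0 := by
  ext x
  have := U_iterate_mem σ b c F₂ 𝔠 hstep hω K x
  rw [hK, Submodule.bot_smul, Submodule.mem_bot] at this
  rw [this, LinearMap.zero_apply]

variable {c F₁} in
theorem main_unique [Finite ι] (hc : ∀ i, c i = F₁ (b i))
    (𝔠 : ℕ → Ideal A) (hstep : ∀ k, ∀ a ∈ 𝔠 k, σ a ∈ 𝔠 (k + 1)) (K : ℕ) (hK : 𝔠 K = ⊥)
    (α α' : P₁ →ₗ[A] P₂) (h : ∀ x, α x - α' x ∈ 𝔠 0 • (⊤ : Submodule A P₂))
    (hα : ∀ x, F₂ (α x) = α (F₁ x)) (hα' : ∀ x, F₂ (α' x) = α' (F₁ x)) : α = α' := by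
  have h1 : U σ b c F₂ (α - α') = α - α' := by
    rw [U_sub, (U_eq_self_iff σ b F₂ hc α).mpr hα, (U_eq_self_iff σ b F₂ hc α').mpr hα']
  have h2 : ∀ k, (U σ b c F₂)^[k] (α - α') = α - α' := by
    intro k
    induction k with
    | zero => rfl
    | succ k ih => rw [Function.iterate_succ_apply', ih, h1]
  have h3 := U_iterate_eq_zero σ b c F₂ 𝔠 hstep K hK (ω := α - α') (fun x => by
    rw [LinearMap.sub_apply]; exact h x)
  rw [h2] at h3
  exact sub_eq_zero.mp h3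

variable {c F₁} in
theorem main_exists [Finite ι] (hc : ∀ i, c i = F₁ (b i))
    (𝔠' : Ideal A) (h𝔠' : ∀ a ∈ 𝔠', σ a ∈ 𝔠')
    (𝔠 : ℕ → Ideal A) (h0 : 𝔠' ≤ 𝔠 0) (hstep : ∀ k, ∀ a ∈ 𝔠 k, σ a ∈ 𝔠 (k + 1)) (K : ℕ) (hK : 𝔠 K = ⊥)
    (α₀ : P₁ →ₗ[A] P₂) (hα₀ : ∀ x, F₂ (α₀ x) - α₀ (F₁ x) ∈ 𝔠' • (⊤ : Submodule A P₂)) :
    ∃ α : P₁ →ₗ[A] P₂, (∀ x, α x - α₀ x ∈ 𝔠' • (⊤ : Submodule A P₂)) ∧ ∀ x, F₂ (α x) = α (F₁ x) := by
  cases nonempty_fintype ι
  set η : P₁ →ₗ[A] P₂ := U σ b c F₂ α₀ - α₀ with hη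
  have hηmem : ∀ x, η x ∈ 𝔠' • (⊤ : Submodule A P₂) := by
    intro x
    rw [← c.sum_repr x, map_sum]
    refine Submodule.sum_mem _ fun i _ => ?_
    rw [map_smul, hη, LinearMap.sub_apply, U_basis, hc]
    exact Submodule.smul_mem _ _ (hα₀ _)
  have hit : ∀ k x, (U σ b c F₂)^[k] η x ∈ 𝔠' • (⊤ : Submodule A P₂) := by
    intro k
    induction k with
    | zero => exact hηmem
    | succ k ih =>
      intro x
      rw [Function.iterate_succ_apply']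
      exact U_mem σ b c F₂ h𝔠' ih x
  have hK0 : (U σ b c F₂)^[K] η = 0 :=
    U_iterate_eq_zero σ b c F₂ 𝔠 hstep K hK (fun x => Submodule.smul_mono_left h0 (hηmem x))
  refine ⟨α₀ + ∑ k ∈ Finset.range K, (U σ b c F₂)^[k] η, ?_, ?_⟩
  · intro x
    rw [LinearMap.add_apply, add_sub_cancel_left, LinearMap.sum_apply]
    exact Submodule.sum_mem _ fun k _ => hit k x
  · rw [← U_eq_self_iff σ b F₂ hc]
    have hsum : ∀ n : ℕ, U σ b c F₂ (∑ k ∈ Finset.range n, (U σ b c F₂)^[k] η) =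
        ∑ k ∈ Finset.range n, (U σ b c F₂)^[k + 1] η := by
      intro n
      induction n with
      | zero => rw [Finset.sum_range_zero, Finset.sum_range_zero, U_zero]
      | succ n ih =>
        rw [Finset.sum_range_succ, U_add, ih, Finset.sum_range_succ, Function.iterate_succ_apply']
    have e1 : ∑ k ∈ Finset.range K, (U σ b c F₂)^[k + 1] η + η =
        ∑ k ∈ Finset.range K, (U σ b c F₂)^[k] η + (U σ b c F₂)^[K] η := by
      rw [← Finset.sum_range_succ, Finset.sum_range_succ']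
      rfl
    rw [hK0, add_zero] at e1
    rw [U_add, hsum, ← e1, hη]
    abel

end Lin


section Final

universe u v w z

variable (p : ℕ) [hp : Fact p.Prime] (S R : Type u) [CommRing S] [CommRing R] (φ : S →+* R)

theorem chain_data (hpn : IsNilpotent (p : S)) (N : ℕ) (hN : ∀ a : S, φ a = 0 → a ^ N = 0) :
    ∃ K : ℕ, cI p (RingHom.ker φ) K = ⊥ := by
  obtain ⟨e, he⟩ := hpn
  refine ⟨e + N, cI_eq_bot p _ e N he ?_ _ le_rfl⟩
  intro a ha
  have hle : N ≤ p ^ N := (Nat.lt_pow_self hp.out.one_lt).le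
  rw [← Nat.sub_add_cancel hle, pow_add, hN a ha, mul_zero]

variable {S R}

theorem main66 (hpn : IsNilpotent (p : S)) (N : ℕ) (hN : ∀ a : S, φ a = 0 → a ^ N = 0)
    {P₁ : Type v} [AddCommGroup P₁] [Module (WittVector p S) P₁]
    {P₂ : Type w} [AddCommGroup P₂] [Module (WittVector p S) P₂]
    {ι₁ : Type z} [Finite ι₁]
    (b₁ : Module.Basis ι₁ (WittVector p S) P₁)
    (F₁ : P₁ →ₛₗ[(WittVector.frobenius : WittVector p S →+* WittVector p S)] P₁)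
    (F₂ : P₂ →ₛₗ[(WittVector.frobenius : WittVector p S →+* WittVector p S)] P₂)
    (hF₁ : LinearIndependent (WittVector p S) (fun i => F₁ (b₁ i)) ∧
      Submodule.span (WittVector p S) (Set.range fun i => F₁ (b₁ i)) = ⊤)
    (𝔠 : Ideal (WittVector p S)) (h𝔠 : 𝔠 ≤ RingHom.ker (WittVector.map (p := p) φ))
    (h𝔠F : ∀ x ∈ 𝔠, WittVector.frobenius x ∈ 𝔠)
    (α₀ : P₁ →ₗ[WittVector p S] P₂)
    (hα₀ : ∀ x : P₁, F₂ (α₀ x) - α₀ (F₁ x) ∈ 𝔠 • (⊤ : Submodule (WittVector p S) P₂)) :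
    ∃ α : P₁ →ₗ[WittVector p S] P₂,
      (∀ x : P₁, α x - α₀ x ∈ 𝔠 • (⊤ : Submodule (WittVector p S) P₂)) ∧ ∀ x : P₁, F₂ (α x) = α (F₁ x) := by
  obtain ⟨K, hK⟩ := chain_data p S R φ hpn N hN
  have hc : ∀ i, (Module.Basis.mk hF₁.1 hF₁.2.ge) i = F₁ (b₁ i) := fun i => Module.Basis.mk_apply _ _ i
  exact main_exists (WittVector.frobenius : WittVector p S →+* WittVector p S) b₁ F₂ hc 𝔠 h𝔠F
    (fun k => cI p (RingHom.ker φ) k) (h𝔠.trans (ker_map_le_cI p φ))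
    (fun k a ha => frobenius_mem_cI p a ha) K hK α₀ hα₀

theorem main65 (hpn : IsNilpotent (p : S)) (N : ℕ) (hN : ∀ a : S, φ a = 0 → a ^ N = 0)
    {P₁ : Type v} [AddCommGroup P₁] [Module (WittVector p S) P₁]
    {P₂ : Type w} [AddCommGroup P₂] [Module (WittVector p S) P₂]
    {ι₁ : Type z} [Finite ι₁]
    (b₁ : Module.Basis ι₁ (WittVector p S) P₁)
    (F₁ : P₁ →ₛₗ[(WittVector.frobenius : WittVector p S →+* WittVector p S)] P₁)
    (F₂ : P₂ →ₛₗ[(WittVector.frobenius : WittVector p S →+* WittVector p S)] P₂)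
    (hF₁ : LinearIndependent (WittVector p S) (fun i => F₁ (b₁ i)) ∧
      Submodule.span (WittVector p S) (Set.range fun i => F₁ (b₁ i)) = ⊤)
    (α₀ : P₁ →ₗ[WittVector p S] P₂)
    (hα₀ : ∀ x : P₁, F₂ (α₀ x) - α₀ (F₁ x) ∈
      RingHom.ker (WittVector.map (p := p) φ) • (⊤ : Submodule (WittVector p S) P₂)) :
    ∃! α : P₁ →ₗ[WittVector p S] P₂,
      (∀ x : P₁, α x - α₀ x ∈ RingHom.ker (WittVector.map (p := p) φ) • (⊤ : Submodule (WittVector p S) P₂)) ∧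
        ∀ x : P₁, F₂ (α x) = α (F₁ x) := by
  obtain ⟨α, h1, h2⟩ := main66 p φ hpn N hN b₁ F₁ F₂ hF₁ _ le_rfl
    (fun x hx => frobenius_mem_ker_map p φ x hx) α₀ hα₀
  refine ⟨α, ⟨h1, h2⟩, ?_⟩
  rintro α' ⟨h1', h2'⟩
  obtain ⟨K, hK⟩ := chain_data p S R φ hpn N hN
  have hc : ∀ i, (Module.Basis.mk hF₁.1 hF₁.2.ge) i = F₁ (b₁ i) := fun i => Module.Basis.mk_apply _ _ i
  refine main_unique (WittVector.frobenius : WittVector p S →+* WittVector p S) b₁ F₂ hc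
    (fun k => cI p (RingHom.ker φ) k) (fun k a ha => frobenius_mem_cI p a ha) K hK α' α ?_ h2' h2
  intro x
  have : α' x - α x = (α' x - α₀ x) - (α x - α₀ x) := by abel
  rw [this]
  exact Submodule.smul_mono_left (ker_map_le_cI p φ) (sub_mem (h1' x) (h1 x))

end Final

end Groth.Agent.Helper8.FrobNil
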