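import Mathlib

namespace Groth.Agent.Helper8.FundCyc

open Matrix

variable {r : ℕ} (A : Matrix (Fin r) (Fin r) ℤ)

/-- min of two admissible vectors is admissible -/
theorem min_mem (hoff : ∀ i j, i ≠ j → 0 ≤ A i j) (z z' : Fin r → ℤ)
    (hz : ∀ i, A.mulVec z i ≤ 0) (hz' : ∀ i, A.mulVec z' i ≤ 0) :
    ∀ i, A.mulVec (fun j => min (z j) (z' j)) i ≤ 0 := by
  intro i
  have key : ∀ (y : Fin r → ℤ), (∀ j, min (z j) (z' j) ≤ y j) → min (z i) (z' i) = y i →
      A.mulVec (fun j => min (z j) (z' j)) i ≤ A.mulVec y i := by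
    intro y hy hyi
    simp only [mulVec, dotProduct]
    apply Finset.sum_le_sum
    intro j _
    by_cases hj : i = j
    · subst hj
      rw [hyi]
    · exact mul_le_mul_of_nonneg_left (hy j) (hoff i j hj)
  rcases le_total (z i) (z' i) with h | h
  · exact (key z (fun j => min_le_left _ _) (min_eq_left h)).trans (hz i)
  · exact (key z' (fun j => min_le_right _ _) (min_eq_right h)).trans (hz' i)

theorem exists_mem (hoff : ∀ i j, i ≠ j → 0 ≤ A i j)
    (hneg : ∀ a : Fin r → ℤ, a ≠ 0 → a ⬝ᵥ A.mulVec a < 0) :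
    ∃ z : Fin r → ℤ, (∀ i, 1 ≤ z i) ∧ (∀ i, A.mulVec z i ≤ 0) := by
  have hdet : A.det ≠ 0 := by
    intro h0
    obtain ⟨v, hv, hAv⟩ := Matrix.exists_mulVec_eq_zero_iff.mpr h0
    have := hneg v hv
    rw [hAv, dotProduct_zero] at this
    exact lt_irrefl _ this
  -- w with A w = -D
  obtain ⟨w, D, hD, hw⟩ : ∃ (w : Fin r → ℤ) (D : ℤ), 0 < D ∧ ∀ i, A.mulVec w i = -D := by
    have h1 : A.mulVec (A.adjugate.mulVec (fun _ => 1)) = fun _ => A.det := by
      rw [mulVec_mulVec, mul_adjugate]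
      funext i
      simp [mulVec, dotProduct, Matrix.smul_apply, Matrix.one_apply]
    rcases lt_or_gt_of_ne hdet with h | h
    · refine ⟨A.adjugate.mulVec (fun _ => 1), -A.det, by omega, fun i => ?_⟩
      rw [h1]; ring
    · refine ⟨-(A.adjugate.mulVec (fun _ => 1)), A.det, h, fun i => ?_⟩
      rw [mulVec_neg, h1]; rfl
  -- negative part
  set m : Fin r → ℤ := fun i => max (- w i) 0 with hm
  set pp : Fin r → ℤ := fun i => max (w i) 0 with hpp
  have hwpm : w = pp - m := by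
    funext i
    simp only [hm, hpp, Pi.sub_apply]
    rcases le_total (w i) 0 with h | h
    · rw [max_eq_right h, max_eq_left (by omega)]; ring
    · rw [max_eq_left h, max_eq_right (by omega)]; ring
  have hm0 : ∀ i, 0 ≤ m i := fun i => le_max_right _ _
  have hp0 : ∀ i, 0 ≤ pp i := fun i => le_max_right _ _
  have hmp : ∀ i, m i * pp i = 0 := by
    intro i
    simp only [hm, hpp]
    rcases le_total (w i) 0 with h | h
    · rw [max_eq_right h, mul_zero]
    · rw [max_eq_right (show - w i ≤ 0 by omega), zero_mul]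
  have hmzero : m = 0 := by
    by_contra hne
    have h1 := hneg m hne
    have h2 : m ⬝ᵥ A.mulVec w = m ⬝ᵥ A.mulVec pp - m ⬝ᵥ A.mulVec m := by
      rw [hwpm, mulVec_sub, dotProduct_sub]
    have h3 : m ⬝ᵥ A.mulVec w ≤ 0 := by
      simp only [dotProduct]
      apply Finset.sum_nonpos
      intro i _
      rw [hw]
      have := hm0 i
      nlinarith
    have h4 : 0 ≤ m ⬝ᵥ A.mulVec pp := by
      simp only [dotProduct, mulVec]
      apply Finset.sum_nonneg
      intro i _
      rw [Finset.mul_sum]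
      apply Finset.sum_nonneg
      intro j _
      by_cases hij : i = j
      · subst hij
        have : m i * (A i i * pp i) = A i i * (m i * pp i) := by ring
        rw [this, hmp, mul_zero]
      · exact mul_nonneg (hm0 i) (mul_nonneg (hoff i j hij) (hp0 j))
    omega
  have hw0 : ∀ i, 0 ≤ w i := by
    intro i
    have : m i = 0 := by rw [hmzero]; rfl
    simp only [hm] at this
    have := le_max_left (- w i) 0
    omega
  refine ⟨w, fun i => ?_, fun i => by rw [hw]; omega⟩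
  by_contra hlt
  have hwi : w i = 0 := by have := hw0 i; omega
  have h5 : 0 ≤ A.mulVec w i := by
    simp only [mulVec, dotProduct]
    apply Finset.sum_nonneg
    intro j _
    by_cases hij : i = j
    · subst hij
      rw [hwi, mul_zero]
    · exact mul_nonneg (hoff i j hij) (hw0 j)
  rw [hw] at h5
  omega

theorem main (hsymm : A.IsSymm)
    (hoff : ∀ i j, i ≠ j → 0 ≤ A i j)
    (hneg : ∀ a : Fin r → ℤ, a ≠ 0 → a ⬝ᵥ A.mulVec a < 0) :
    ∃ z : Fin r → ℤ, (∀ i, 1 ≤ z i) ∧ (∀ i, A.mulVec z i ≤ 0) ∧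
      ∀ z' : Fin r → ℤ, (∀ i, 1 ≤ z' i) → (∀ i, A.mulVec z' i ≤ 0) → ∀ i, z i ≤ z' i := by
  classical
  have hex : ∃ n : ℕ, ∃ z : Fin r → ℤ, (∀ i, 1 ≤ z i) ∧ (∀ i, A.mulVec z i ≤ 0) ∧
      (∑ i, z i).toNat = n := by
    obtain ⟨z, h1, h2⟩ := exists_mem A hoff hneg
    exact ⟨_, z, h1, h2, rfl⟩
  obtain ⟨z, hz1, hz2, hzn⟩ := Nat.find_spec hex
  refine ⟨z, hz1, hz2, ?_⟩
  intro z' hz'1 hz'2
  set u : Fin r → ℤ := fun j => min (z j) (z' j) with hu
  have hu1 : ∀ i, 1 ≤ u i := fun i => le_min (hz1 i) (hz'1 i)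
  have hu2 : ∀ i, A.mulVec u i ≤ 0 := min_mem A hoff z z' hz2 hz'2
  have hmin := Nat.find_min' hex ⟨u, hu1, hu2, rfl⟩
  rw [← hzn] at hmin
  have hsum_u : 0 ≤ ∑ i, u i := Finset.sum_nonneg (fun i _ => by have := hu1 i; omega)
  have hsum_z : 0 ≤ ∑ i, z i := Finset.sum_nonneg (fun i _ => by have := hz1 i; omega)
  have hle : ∑ i, z i ≤ ∑ i, u i := by omega
  have hule : ∀ i, u i ≤ z i := fun i => min_le_left _ _
  have hzero : ∑ i, (z i - u i) = 0 := by
    have h1 : 0 ≤ ∑ i, (z i - u i) := Finset.sum_nonneg (fun i _ => by have := hule i; omega)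
    rw [Finset.sum_sub_distrib] at h1 ⊢
    have h2 : ∑ i, u i ≤ ∑ i, z i := Finset.sum_le_sum (fun i _ => hule i)
    omega
  intro i
  have h3 := (Finset.sum_eq_zero_iff_of_nonneg (fun i _ => by have := hule i; omega)).mp hzero i
    (Finset.mem_univ i)
  have h4 : u i ≤ z' i := min_le_right _ _
  omega

end Groth.Agent.Helper8.FundCyc
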