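import Mathlib
set_option autoImplicit false
open Finset Nat fwdDiff Function

namespace Groth.Agent.Helper8.FwdDiffPow

lemma two_mul_choose_two (n : ℕ) : 2 * (n + 1).choose 2 = (n + 1) * n := by
  have h : (n + 1) * n.choose 1 = (n + 1).choose 2 * 2 := Nat.add_one_mul_choose_eq n 1
  rw [Nat.choose_one_right] at h
  omega

/-- the `n`-th forward difference of `r ↦ r^(n+1)` -/
theorem fwdDiff_iter_pow_succ (n : ℕ) :
    (fwdDiff (1 : ℤ))^[n] (fun r : ℤ ↦ r ^ (n + 1)) =
      fun x ↦ ((n + 1)! : ℤ) * x + ((n ! * (n + 1).choose 2 : ℕ) : ℤ) := by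
  induction n with
  | zero => funext x; simp
  | succ n IH =>
    have h1 : (Δ_[1] fun (r : ℤ) ↦ r ^ (n + 1 + 1)) =
        ∑ i ∈ range (n + 1 + 1), (n + 1 + 1).choose i • fun r ↦ r ^ i := by
      ext x
      simp [nsmul_eq_mul, fwdDiff, add_pow, sum_range_succ, mul_comm]
    rw [iterate_succ_apply, h1, fwdDiff_iter_finsetSum]
    simp_rw [fwdDiff_iter_const_smul]
    rw [sum_range_succ, sum_range_succ, sum_eq_zero (fun i hi ↦ by
      rw [fwdDiff_iter_pow_eq_zero_of_lt (mem_range.mp hi), smul_zero]), zero_add, IH,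
      fwdDiff_iter_eq_factorial]
    funext x
    rw [Pi.add_apply, Pi.smul_apply, Pi.smul_apply, Pi.natCast_apply, nsmul_eq_mul, nsmul_eq_mul]
    have hc1 : (n + 1 + 1).choose n = (n + 1 + 1).choose 2 :=
      (Nat.choose_symm_add (a := n) (b := 2))
    have hc2 : (n + 1 + 1).choose (n + 1) = n + 1 + 1 := by
      rw [Nat.choose_succ_self_right]
    have hc3 : (n + 1 + 1).choose 2 = (n + 1) + (n + 1).choose 2 := by
      rw [Nat.choose_succ_succ' (n + 1) 1, Nat.choose_one_right]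
    have hc4 := two_mul_choose_two n
    rw [hc1, hc2, hc3]
    have hf1 : ((n + 1 + 1)! : ℤ) = ((n : ℤ) + 2) * ((n : ℤ) + 1) * (n ! : ℤ) := by
      rw [Nat.factorial_succ, Nat.factorial_succ]; push_cast; ring
    have hf2 : ((n + 1)! : ℤ) = ((n : ℤ) + 1) * (n ! : ℤ) := by
      rw [Nat.factorial_succ]; push_cast; ring
    have hc4' : (2 : ℤ) * ((n + 1).choose 2 : ℤ) = ((n : ℤ) + 1) * n := by exact_mod_cast hc4
    push_cast
    rw [hf1, hf2]
    linear_combination ((n ! : ℤ)) * hc4'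

theorem altSum (n k : ℕ) :
    (∑ j ∈ Finset.range (n + 1), (-1 : ℤ) ^ (n - j) * (n.choose j : ℤ) * (j : ℤ) ^ k) =
      (fwdDiff (1 : ℤ))^[n] (fun r : ℤ ↦ r ^ k) 0 := by
  rw [fwdDiff_iter_eq_sum_shift]
  refine Finset.sum_congr rfl fun j _ => ?_
  simp

theorem altSum_cases (n k : ℕ) (hk : k ≤ n + 1) :
    (∑ j ∈ Finset.range (n + 1), (-1 : ℤ) ^ (n - j) * (n.choose j : ℤ) * (j : ℤ) ^ k) =
      (if k = n + 1 then (((n + 1).choose 2 * n.factorial : ℕ) : ℤ)
        else if k = n then (n.factorial : ℤ) else 0) := by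
  rw [altSum]
  split_ifs with h1 h2
  · subst h1
    rw [fwdDiff_iter_pow_succ]
    simp [mul_comm]
  · subst h2
    rw [fwdDiff_iter_eq_factorial]
    simp
  · have : k < n := by omega
    rw [fwdDiff_iter_pow_eq_zero_of_lt this]
    simp

end Groth.Agent.Helper8.FwdDiffPow
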