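import Mathlib

/-!
# Descent data for a single morphism: an abstract full faithfulness criterion
-/

set_option autoImplicit false
set_option linter.unusedSectionVars false
set_option linter.unusedVariables false

universe t v' u' v₁ u₁

open CategoryTheory Opposite

noncomputable section

namespace Groth.Agent.Helper8.GDesc

variable {C : Type u₁} [Category.{v₁} C] (F : Pseudofunctor (LocallyDiscrete Cᵒᵖ) Cat.{v', u'})

/-- the composition isomorphism of a pseudofunctor, evaluated at an object, with iterated target -/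
def cIso {X Y Z : LocallyDiscrete Cᵒᵖ} (a : X ⟶ Y) (b : Y ⟶ Z) (c : X ⟶ Z) (h : a ≫ b = c)
    (M : F.obj X) :
    (F.map c).toFunctor.obj M ≅ (F.map b).toFunctor.obj ((F.map a).toFunctor.obj M) :=
  (Cat.Hom.toNatIso (F.mapComp' a b c h)).app M

/-- transport of a morphism between pullbacks along a further pullback -/
def conj {X Y Z : LocallyDiscrete Cᵒᵖ} (a : X ⟶ Y) (b : Y ⟶ Z) (c : X ⟶ Z) (h : a ≫ b = c)
    {M N : F.obj X} (γ : (F.map a).toFunctor.obj M ⟶ (F.map a).toFunctor.obj N) :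
    (F.map c).toFunctor.obj M ⟶ (F.map c).toFunctor.obj N :=
  (cIso F a b c h M).hom ≫ (F.map b).toFunctor.map γ ≫ (cIso F a b c h N).inv

variable {S X : C} (f : X ⟶ S)

lemma ofObj_hom_eq (M : F.obj (.mk (op S))) {Y : C} (q : Y ⟶ S) (f₁ f₂ : Y ⟶ X)
    (hf₁ : f₁ ≫ f = q) (hf₂ : f₂ ≫ f = q) :
    (Pseudofunctor.DescentData.ofObj (F := F) (f := fun _ : PUnit.{t + 1} => f) M).hom q
        (i₁ := PUnit.unit) (i₂ := PUnit.unit) f₁ f₂ hf₁ hf₂ =
      (cIso F f.op.toLoc f₁.op.toLoc q.op.toLoc (by rw [← hf₁]; rfl) M).inv ≫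
        (cIso F f.op.toLoc f₂.op.toLoc q.op.toLoc (by rw [← hf₂]; rfl) M).hom := rfl

/-- full faithfulness of the canonical descent datum functor on a pair of objects -/
def FF (M N : F.obj (.mk (op S))) : Prop :=
  Function.Bijective (fun φ : M ⟶ N =>
    (F.toDescentData (fun _ : PUnit.{t + 1} => f)).map φ)

theorem bijective_of (M N : F.obj (.mk (op S))) {Y : C} (p₁ p₂ : Y ⟶ X) (q : Y ⟶ S)
    (h₁ : p₁ ≫ f = q) (h₂ : p₂ ≫ f = q)
    (hinj : Function.Injective (fun φ : M ⟶ N => (F.map f.op.toLoc).toFunctor.map φ))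
    (hsurj : ∀ γ : (F.map f.op.toLoc).toFunctor.obj M ⟶ (F.map f.op.toLoc).toFunctor.obj N,
      conj F f.op.toLoc p₁.op.toLoc q.op.toLoc (by rw [← h₁]; rfl) γ =
        conj F f.op.toLoc p₂.op.toLoc q.op.toLoc (by rw [← h₂]; rfl) γ →
      ∃ φ : M ⟶ N, (F.map f.op.toLoc).toFunctor.map φ = γ) :
    FF.{t} F f M N := by
  constructor
  · intro φ φ' h
    apply hinj
    exact congrArg (fun k => Pseudofunctor.DescentData.Hom.hom k PUnit.unit) h
  · intro g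
    have hcomm := g.comm q (i₁ := PUnit.unit) (i₂ := PUnit.unit) p₁ p₂ h₁ h₂
    change _ ≫ (Pseudofunctor.DescentData.ofObj (F := F) (f := fun _ : PUnit.{t + 1} => f) N).hom q
        (i₁ := PUnit.unit) (i₂ := PUnit.unit) p₁ p₂ h₁ h₂ =
      (Pseudofunctor.DescentData.ofObj (F := F) (f := fun _ : PUnit.{t + 1} => f) M).hom q
        (i₁ := PUnit.unit) (i₂ := PUnit.unit) p₁ p₂ h₁ h₂ ≫ _ at hcomm
    rw [ofObj_hom_eq, ofObj_hom_eq] at hcomm
    have key : conj F f.op.toLoc p₁.op.toLoc q.op.toLoc (by rw [← h₁]; rfl) (g.hom PUnit.unit) =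
        conj F f.op.toLoc p₂.op.toLoc q.op.toLoc (by rw [← h₂]; rfl) (g.hom PUnit.unit) := by
      unfold conj
      rw [← cancel_mono (cIso F f.op.toLoc p₂.op.toLoc q.op.toLoc (by rw [← h₂]; rfl) N).hom,
        ← cancel_epi (cIso F f.op.toLoc p₁.op.toLoc q.op.toLoc (by rw [← h₁]; rfl) M).inv]
      simp only [Category.assoc, Iso.inv_hom_id, Category.comp_id, Iso.inv_hom_id_assoc]
      exact hcomm.trans (Category.assoc _ _ _)
    obtain ⟨φ, hφ⟩ := hsurj (g.hom PUnit.unit) key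
    refine ⟨φ, ?_⟩
    apply Pseudofunctor.DescentData.Hom.ext
    funext i
    exact hφ

/-- a criterion for a descent datum to be effective -/
theorem nonempty_iso_of (M : F.obj (.mk (op S)))
    (D : F.DescentData (fun _ : PUnit.{t + 1} => f))
    (ε : (F.map f.op.toLoc).toFunctor.obj M ≅ D.obj PUnit.unit)
    (comm : ∀ ⦃Y : C⦄ (q : Y ⟶ S) (f₁ f₂ : Y ⟶ X) (hf₁ : f₁ ≫ f = q) (hf₂ : f₂ ≫ f = q),
      (F.map f₁.op.toLoc).toFunctor.map ε.hom ≫
          D.hom q (i₁ := PUnit.unit) (i₂ := PUnit.unit) f₁ f₂ hf₁ hf₂ =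
        ((cIso F f.op.toLoc f₁.op.toLoc q.op.toLoc (by rw [← hf₁]; rfl) M).inv ≫
          (cIso F f.op.toLoc f₂.op.toLoc q.op.toLoc (by rw [← hf₂]; rfl) M).hom) ≫
          (F.map f₂.op.toLoc).toFunctor.map ε.hom) :
    Nonempty ((F.toDescentData (fun _ : PUnit.{t + 1} => f)).obj M ≅ D) :=
  ⟨Pseudofunctor.DescentData.isoMk (fun _ => ε) (by
    intro Y q i₁ i₂ f₁ f₂ hf₁ hf₂
    exact comm q f₁ f₂ hf₁ hf₂)⟩

/-- the pullback of a comparison map of a descent datum, through the composition isomorphisms -/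
theorem map_hom_eq (D : F.DescentData (fun _ : PUnit.{t + 1} => f)) ⦃Y' Y : C⦄ (g : Y' ⟶ Y)
    (q : Y ⟶ S) (q' : Y' ⟶ S) (hq : g ≫ q = q') (f₁ f₂ : Y ⟶ X) (hf₁ : f₁ ≫ f = q)
    (hf₂ : f₂ ≫ f = q) (gf₁ gf₂ : Y' ⟶ X) (hgf₁ : g ≫ f₁ = gf₁) (hgf₂ : g ≫ f₂ = gf₂)
    (hq₁ : gf₁ ≫ f = q') (hq₂ : gf₂ ≫ f = q') :
    (F.map g.op.toLoc).toFunctor.map
        (D.hom q (i₁ := PUnit.unit) (i₂ := PUnit.unit) f₁ f₂ hf₁ hf₂) =
      (cIso F f₁.op.toLoc g.op.toLoc gf₁.op.toLoc (by rw [← hgf₁]; rfl) (D.obj PUnit.unit)).inv ≫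
        D.hom q' (i₁ := PUnit.unit) (i₂ := PUnit.unit) gf₁ gf₂ hq₁ hq₂ ≫
          (cIso F f₂.op.toLoc g.op.toLoc gf₂.op.toLoc (by rw [← hgf₂]; rfl)
            (D.obj PUnit.unit)).hom := by
  have key := Pseudofunctor.LocallyDiscreteOpToCat.map_eq_pullHom (F := F)
    (D.hom q (i₁ := PUnit.unit) (i₂ := PUnit.unit) f₁ f₂ hf₁ hf₂) g gf₁ gf₂ hgf₁ hgf₂
  have hp := D.pullHom_hom g q q' hq (i₁ := PUnit.unit) (i₂ := PUnit.unit) f₁ f₂ hf₁ hf₂
    gf₁ gf₂ hgf₁ hgf₂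
  rw [hp] at key
  exact key

end Groth.Agent.Helper8.GDesc
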