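import Mathlib

/-!
# Pure tensors in an extension of scalars, with a fixed elaboration

`tm f N s x` is the pure tensor `s ⊗ x` of `(extendScalars f).obj N`.  Stating everything through
this function keeps terms syntactically uniform.
-/

set_option autoImplicit false
set_option linter.unusedSectionVars false
set_option linter.unusedVariables false

universe u

open CategoryTheory TensorProduct

noncomputable section

namespace Groth.Agent.Helper8.GDesc

open ModuleCat ChangeOfRings

variable {A B C : Type u} [CommRing A] [CommRing B] [CommRing C]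

/-- `B` as an `A`-module through restriction of scalars -/
abbrev Sg (f : A →+* B) : Type u := ↑((restrictScalars.{u,u,u} f).obj (ModuleCat.of B B))

/-- the pure tensor `s ⊗ x` in the extension of scalars -/
def tm (f : A →+* B) (N : ModuleCat.{u} A) (s : B) (x : N) :
    ↑((extendScalars.{u,u,u} f).obj N) :=
  s ⊗ₜ[A, f] x

/-- an element of `B` as an element of `Sg f` -/
def toSg (f : A →+* B) (s : B) : Sg f := s

/-- `tm` as an element of the tensor product -/
lemma tm_eq (f : A →+* B) (N : ModuleCat.{u} A) (s : B) (x : N) :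
    tm f N s x = (toSg f s ⊗ₜ[A] x : Sg f ⊗[A] N) := rfl

lemma tm_add_right (f : A →+* B) (N : ModuleCat.{u} A) (s : B) (x x' : N) :
    tm f N s (x + x') = tm f N s x + tm f N s x' :=
  TensorProduct.tmul_add (R := A) (M := Sg f) (N := N) s x x'

lemma tm_add_left (f : A →+* B) (N : ModuleCat.{u} A) (s s' : B) (x : N) :
    tm f N (s + s') x = tm f N s x + tm f N s' x :=
  TensorProduct.add_tmul (R := A) (M := Sg f) (N := N) s s' x

set_option backward.isDefEq.respectTransparency false in
lemma smul_tm (f : A →+* B) (N : ModuleCat.{u} A) (s s' : B) (x : N) :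
    s • tm f N s' x = tm f N (s * s') x :=
  ExtendScalars.smul_tmul f s s' x

lemma tm_smul_right (f : A →+* B) (N : ModuleCat.{u} A) (s : B) (a : A) (x : N) :
    tm f N s (a • x) = tm f N (f a * s) x := by
  have h := TensorProduct.tmul_smul (R := A) (M := Sg f) (N := N) a (toSg f s) x
  have h2 := TensorProduct.smul_tmul' (R := A) (M := Sg f) (N := N) a (toSg f s) x
  rw [tm_eq, tm_eq, h, h2]
  rfl

lemma tm_one_smul_right (f : A →+* B) (N : ModuleCat.{u} A) (a : A) (x : N) :
    tm f N 1 (a • x) = f a • tm f N 1 x := by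
  rw [tm_smul_right, smul_tm]

lemma tm_eq_smul_one (f : A →+* B) (N : ModuleCat.{u} A) (s : B) (x : N) :
    tm f N s x = s • tm f N 1 x := by
  rw [smul_tm, mul_one]

lemma tm_induction (f : A →+* B) (N : ModuleCat.{u} A)
    {P : ↑((extendScalars.{u,u,u} f).obj N) → Prop}
    (h₁ : ∀ s x, P (tm f N s x)) (h₂ : ∀ y y', P y → P y' → P (y + y'))
    (y : ↑((extendScalars.{u,u,u} f).obj N)) : P y := by
  have h0 : P 0 := by
    have := h₁ 0 0
    have e : tm f N 0 0 = 0 := TensorProduct.zero_tmul (R := A) (Sg f) (0 : N)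
    rwa [e] at this
  exact TensorProduct.induction_on (R := A) (M := Sg f) (N := N) (motive := P) y h0
    (fun s x => h₁ s x) (fun y y' hy hy' => h₂ y y' hy hy')

lemma map_tm (f : A →+* B) {N N' : ModuleCat.{u} A} (g : N ⟶ N') (s : B) (x : N) :
    ((extendScalars.{u,u,u} f).map g).hom (tm f N s x) = tm f N' s (g.hom x) :=
  ExtendScalars.map_tmul f g s x

lemma hom_ext_tm (f : A →+* B) {N : ModuleCat.{u} A} {W : ModuleCat.{u} B}
    {α β : (extendScalars.{u,u,u} f).obj N ⟶ W}
    (h : ∀ x : N, α.hom (tm f N 1 x) = β.hom (tm f N 1 x)) : α = β :=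
  ExtendScalars.hom_ext h

/-! ### Linear maps between restrictions of scalars -/

/-- the unit `A → B` as an `A`-linear map -/
def linUnit (f : A →+* B) : A →ₗ[A] Sg f where
  toFun a := toSg f (f a)
  map_add' := map_add f
  map_smul' a a' := map_mul f a a'

lemma linUnit_apply (f : A →+* B) (a : A) : linUnit f a = f a := rfl

/-- a ring hom `j : B → C` over `A` as an `A`-linear map -/
def linOf (f : A →+* B) (g : A →+* C) (j : B →+* C) (hj : ∀ a, j (f a) = g a) :
    Sg f →ₗ[A] Sg g where
  toFun b := toSg g (j b)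
  map_add' := map_add j
  map_smul' a b := (map_mul j (f a) b).trans (congrArg (fun t => t * j b) (hj a))

lemma linOf_apply (f : A →+* B) (g : A →+* C) (j : B →+* C) (hj : ∀ a, j (f a) = g a) (b : B) :
    linOf f g j hj b = j b := rfl

lemma rTensor_tm (f : A →+* B) (g : A →+* C) (j : B →+* C) (hj : ∀ a, j (f a) = g a)
    (N : ModuleCat.{u} A) (s : B) (x : N) :
    (linOf f g j hj).rTensor N (tm f N s x) = tm g N (j s) x := by
  rw [tm_eq, LinearMap.rTensor_tmul]
  rfl

/-! ### The algebra of the equalizer argument -/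

section Alg

variable {P Q : Type u} [AddCommGroup P] [Module A P] [AddCommGroup Q] [Module A Q]
  (N : Type u) [AddCommGroup N] [Module A N] [Module.Flat A N]

lemma exists_of_rTensor_eq (e : A →ₗ[A] P) (d₁ d₂ : P →ₗ[A] Q)
    (hex : ∀ p, d₁ p = d₂ p → ∃ a, e a = p) (hcomp : ∀ a, d₁ (e a) = d₂ (e a))
    (y : P ⊗[A] N) (hy : d₁.rTensor N y = d₂.rTensor N y) : ∃ n : N, y = e 1 ⊗ₜ[A] n := by
  have hexact : Function.Exact e (d₁ - d₂) := by
    intro p
    constructor
    · intro hp
      have : d₁ p = d₂ p := by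
        rw [LinearMap.sub_apply, sub_eq_zero] at hp
        exact hp
      obtain ⟨a, ha⟩ := hex p this
      exact ⟨a, ha⟩
    · rintro ⟨a, rfl⟩
      rw [LinearMap.sub_apply, sub_eq_zero]
      exact hcomp a
  have hexact' := Module.Flat.rTensor_exact N hexact
  have hy' : (d₁ - d₂).rTensor N y = 0 := by
    rw [LinearMap.rTensor_sub, LinearMap.sub_apply, sub_eq_zero]
    exact hy
  obtain ⟨z, hz⟩ := (hexact' y).mp hy'
  refine ⟨TensorProduct.lid A N z, ?_⟩
  have hz' : z = (1 : A) ⊗ₜ[A] (TensorProduct.lid A N z) := by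
    rw [← TensorProduct.lid_symm_apply, LinearEquiv.symm_apply_apply]
  rw [← hz, hz']
  simp

lemma injective_tmul (e : A →ₗ[A] P) (he : Function.Injective e) :
    Function.Injective (fun n : N => e 1 ⊗ₜ[A] n) := by
  have h1 : Function.Injective (e.rTensor N) :=
    Module.Flat.rTensor_preserves_injective_linearMap e he
  have h2 : (fun n : N => e 1 ⊗ₜ[A] n) = (e.rTensor N) ∘ (TensorProduct.lid A N).symm := by
    funext n
    simp
  rw [h2]
  exact h1.comp (TensorProduct.lid A N).symm.injective

end Alg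

/-! ### `rTensor` on extensions of scalars -/

/-- `rTensor` on extensions of scalars -/
def rT (f : A →+* B) (g : A →+* C) (N : ModuleCat.{u} A) (l : Sg f →ₗ[A] Sg g)
    (y : ↑((extendScalars.{u,u,u} f).obj N)) : ↑((extendScalars.{u,u,u} g).obj N) :=
  l.rTensor N y

lemma rT_add (f : A →+* B) (g : A →+* C) (N : ModuleCat.{u} A) (l : Sg f →ₗ[A] Sg g)
    (y y' : ↑((extendScalars.{u,u,u} f).obj N)) :
    rT f g N l (y + y') = rT f g N l y + rT f g N l y' :=
  map_add (l.rTensor N) y y'

lemma rT_tm (f : A →+* B) (g : A →+* C) (j : B →+* C) (hj : ∀ a, j (f a) = g a)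
    (N : ModuleCat.{u} A) (s : B) (x : N) :
    rT f g N (linOf f g j hj) (tm f N s x) = tm g N (j s) x :=
  rTensor_tm f g j hj N s x

lemma exists_of_rT_eq (f : A →+* B) (g : A →+* C) (j₁ j₂ : B →+* C)
    (hj₁ : ∀ a, j₁ (f a) = g a) (hj₂ : ∀ a, j₂ (f a) = g a)
    (N : ModuleCat.{u} A) [Module.Flat A N]
    (hex : ∀ b, j₁ b = j₂ b → ∃ a, f a = b)
    (y : ↑((extendScalars.{u,u,u} f).obj N))
    (hy : rT f g N (linOf f g j₁ hj₁) y = rT f g N (linOf f g j₂ hj₂) y) :
    ∃ n : N, y = tm f N 1 n := by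
  obtain ⟨n, hn⟩ := exists_of_rTensor_eq (A := A) (P := Sg f) (Q := Sg g) N (linUnit f)
    (linOf f g j₁ hj₁) (linOf f g j₂ hj₂) (fun p hp => hex p hp)
    (fun a => (hj₁ a).trans (hj₂ a).symm) y hy
  refine ⟨n, hn.trans ?_⟩
  have : linUnit f 1 = toSg f 1 := map_one f
  rw [this]
  rfl

lemma tm_one_injective (f : A →+* B) (hf : Function.Injective f)
    (N : ModuleCat.{u} A) [Module.Flat A N] :
    Function.Injective (fun n : N => tm f N 1 n) := by
  have h := injective_tmul (A := A) (P := Sg f) N (linUnit f) hf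
  have e : (fun n : N => tm f N 1 n) = (fun n : N => linUnit f 1 ⊗ₜ[A] n) := by
    funext n
    have : linUnit f 1 = toSg f 1 := map_one f
    rw [this]
    rfl
  rw [e]
  exact h

end Groth.Agent.Helper8.GDesc
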