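import Mathlib
import Groth.Agent.Helper8.GDescA
import Groth.Agent.Helper8.GDescT

/-!
# Descent for modules over a ring-valued functor: the pseudofunctor layer

For a functor `Φ : CommRingCat ⥤ CommRingCat` we describe at the level of elements the
pseudofunctor `R ↦ (Φ R)-modules` (extension of scalars).
-/

set_option autoImplicit false
set_option linter.unusedSectionVars false
set_option linter.unusedVariables false

universe u

open CategoryTheory Opposite

noncomputable section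

namespace Groth.Agent.Helper8.GDesc

open ModuleCat ChangeOfRings

variable (Φ : CommRingCat.{u} ⥤ CommRingCat.{u})

/-- the pseudofunctor -/
def PF : Pseudofunctor (LocallyDiscrete (CommRingCat.{u}ᵒᵖ)ᵒᵖ) Cat.{u, u + 1} :=
  ((unopUnop CommRingCat.{u}) ⋙ Φ).toPseudofunctor.comp
    CommRingCat.moduleCatExtendScalarsPseudofunctor.{u}

variable {S T T' : Type u} [CommRing S] [CommRing T] [CommRing T']

/-- the 1-morphism attached to a ring hom -/
abbrev loc (a : S →+* T) :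
    (LocallyDiscrete.mk (op (op (CommRingCat.of S))) : LocallyDiscrete (CommRingCat.{u}ᵒᵖ)ᵒᵖ) ⟶
      LocallyDiscrete.mk (op (op (CommRingCat.of T))) :=
  (CommRingCat.ofHom a).op.op.toLoc

lemma loc_comp (a : S →+* T) (b : T →+* T') : loc a ≫ loc b = loc (b.comp a) := rfl

/-- the ring attached to `T` -/
abbrev Wn (T : Type u) [CommRing T] : Type u := ↑(Φ.obj (CommRingCat.of T))

/-- the induced map -/
abbrev Wm (a : S →+* T) : Wn Φ S →+* Wn Φ T := (Φ.map (CommRingCat.ofHom a)).hom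

lemma Wm_comp (a : S →+* T) (b : T →+* T') (x : Wn Φ S) :
    Wm Φ (b.comp a) x = Wm Φ b (Wm Φ a x) := by
  have h : Φ.map (CommRingCat.ofHom (b.comp a)) =
      Φ.map (CommRingCat.ofHom a) ≫ Φ.map (CommRingCat.ofHom b) := by
    rw [← Φ.map_comp]
    rfl
  rw [show Wm Φ (b.comp a) = (Φ.map (CommRingCat.ofHom a) ≫ Φ.map (CommRingCat.ofHom b)).hom from
    congrArg CommRingCat.Hom.hom h]
  rfl

set_option backward.isDefEq.respectTransparency false in
lemma map₂_apply {A B : CommRingCat.{u}}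
    {f g : (LocallyDiscrete.mk A : LocallyDiscrete CommRingCat.{u}) ⟶ LocallyDiscrete.mk B}
    (η : f ⟶ g) (N : ModuleCat.{u} A) (s : B) (x : N) :
    ((CommRingCat.moduleCatExtendScalarsPseudofunctor.{u}.map₂ η).toNatTrans.app N).hom
      (s ⊗ₜ[A, f.as.hom] x) = s ⊗ₜ[A, g.as.hom] x := by
  obtain rfl : f = g := LocallyDiscrete.eq_of_hom η
  have : η = 𝟙 f := Subsingleton.elim _ _
  subst this
  simp

theorem compIso_exists (a : S →+* T) (b : T →+* T') (c : S →+* T')
    (h : loc a ≫ loc b = loc c) (N : ModuleCat.{u} (Wn Φ S)) :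
    ∃ e : (extendScalars.{u,u,u} (Wm Φ c)).obj N ≅
        (extendScalars.{u,u,u} (Wm Φ b)).obj ((extendScalars.{u,u,u} (Wm Φ a)).obj N),
      e = cIso (PF Φ) (loc a) (loc b) (loc c) h N :=
  ⟨_, rfl⟩

/-- the composition isomorphism of the pseudofunctor, with explicit types (opaque to the
kernel: it is obtained by choice from `compIso_exists`) -/
def compIso (a : S →+* T) (b : T →+* T') (c : S →+* T')
    (h : loc a ≫ loc b = loc c) (N : ModuleCat.{u} (Wn Φ S)) :
    (extendScalars.{u,u,u} (Wm Φ c)).obj N ≅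
      (extendScalars.{u,u,u} (Wm Φ b)).obj ((extendScalars.{u,u,u} (Wm Φ a)).obj N) :=
  (compIso_exists Φ a b c h N).choose

lemma compIso_eq (a : S →+* T) (b : T →+* T') (c : S →+* T')
    (h : loc a ≫ loc b = loc c) (N : ModuleCat.{u} (Wn Φ S)) :
    compIso Φ a b c h N = cIso (PF Φ) (loc a) (loc b) (loc c) h N :=
  (compIso_exists Φ a b c h N).choose_spec

lemma eq_comp_of_loc (a : S →+* T) (b : T →+* T') (c : S →+* T')
    (h : loc a ≫ loc b = loc c) : c = b.comp a := by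
  have := congrArg (fun x => x.as.unop.unop.hom) h
  exact this.symm

set_option backward.isDefEq.respectTransparency false in
theorem compIso_hom_tm (a : S →+* T) (b : T →+* T') (c : S →+* T')
    (h : loc a ≫ loc b = loc c) (N : ModuleCat.{u} (Wn Φ S)) (x : N) :
    (compIso Φ a b c h N).hom.hom (tm (Wm Φ c) N 1 x) =
      tm (Wm Φ b) ((extendScalars.{u,u,u} (Wm Φ a)).obj N) 1 (tm (Wm Φ a) N 1 x) := by
  obtain rfl := eq_comp_of_loc a b c h
  rw [compIso_eq]
  unfold cIso tm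
  have e : (PF Φ).mapComp' (loc a) (loc b) (loc (b.comp a)) h = (PF Φ).mapComp (loc a) (loc b) :=
    Pseudofunctor.mapComp'_eq_mapComp _ _ _
  rw [e]
  simp [PF]
  refine (congrArg _ (map₂_apply _ N 1 x)).trans ?_
  exact extendScalarsComp_hom_app_one_tmul (Wm Φ a) (Wm Φ b) N x

theorem compIso_inv_hom_apply (a : S →+* T) (b : T →+* T') (c : S →+* T')
    (h : loc a ≫ loc b = loc c) (N : ModuleCat.{u} (Wn Φ S))
    (y : (extendScalars.{u,u,u} (Wm Φ c)).obj N) :
    (compIso Φ a b c h N).inv.hom ((compIso Φ a b c h N).hom.hom y) = y := by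
  rw [← LinearMap.comp_apply, ← ModuleCat.hom_comp, Iso.hom_inv_id, ModuleCat.hom_id,
    LinearMap.id_apply]

theorem compIso_inv_tm (a : S →+* T) (b : T →+* T') (c : S →+* T')
    (h : loc a ≫ loc b = loc c) (N : ModuleCat.{u} (Wn Φ S)) (x : N) :
    (compIso Φ a b c h N).inv.hom
      (tm (Wm Φ b) ((extendScalars.{u,u,u} (Wm Φ a)).obj N) 1 (tm (Wm Φ a) N 1 x)) =
      tm (Wm Φ c) N 1 x := by
  rw [← compIso_hom_tm Φ a b c h N x, compIso_inv_hom_apply]

/-- the concrete form of `conj` -/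
def conjC (a : S →+* T) (b : T →+* T') (c : S →+* T')
    (h : loc a ≫ loc b = loc c) {M N : ModuleCat.{u} (Wn Φ S)}
    (γ : (extendScalars.{u,u,u} (Wm Φ a)).obj M ⟶ (extendScalars.{u,u,u} (Wm Φ a)).obj N) :
    (extendScalars.{u,u,u} (Wm Φ c)).obj M ⟶ (extendScalars.{u,u,u} (Wm Φ c)).obj N :=
  (compIso Φ a b c h M).hom ≫ (extendScalars.{u,u,u} (Wm Φ b)).map γ ≫ (compIso Φ a b c h N).inv

lemma conj_eq (a : S →+* T) (b : T →+* T') (c : S →+* T')
    (h : loc a ≫ loc b = loc c) {M N : ModuleCat.{u} (Wn Φ S)}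
    (γ : (extendScalars.{u,u,u} (Wm Φ a)).obj M ⟶ (extendScalars.{u,u,u} (Wm Φ a)).obj N) :
    conj (PF Φ) (loc a) (loc b) (loc c) h (M := M) (N := N) γ = conjC Φ a b c h γ := by
  unfold conjC
  rw [compIso_eq, compIso_eq]
  rfl

/-- the base change map `Φ(T) ⊗ N → Φ(T') ⊗ N` along `b : T → T'` -/
def bcmFun (a : S →+* T) (b : T →+* T') (c : S →+* T')
    (h : loc a ≫ loc b = loc c) (N : ModuleCat.{u} (Wn Φ S))
    (y : (extendScalars.{u,u,u} (Wm Φ a)).obj N) : (extendScalars.{u,u,u} (Wm Φ c)).obj N :=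
  (compIso Φ a b c h N).inv.hom (tm (Wm Φ b) ((extendScalars.{u,u,u} (Wm Φ a)).obj N) 1 y)

lemma conjC_tm (a : S →+* T) (b : T →+* T') (c : S →+* T')
    (h : loc a ≫ loc b = loc c) {M N : ModuleCat.{u} (Wn Φ S)}
    (γ : (extendScalars.{u,u,u} (Wm Φ a)).obj M ⟶ (extendScalars.{u,u,u} (Wm Φ a)).obj N)
    (m : M) :
    (conjC Φ a b c h γ).hom (tm (Wm Φ c) M 1 m) =
      bcmFun Φ a b c h N (γ.hom (tm (Wm Φ a) M 1 m)) := by
  unfold conjC bcmFun
  rw [ModuleCat.hom_comp, ModuleCat.hom_comp, LinearMap.comp_apply, LinearMap.comp_apply,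
    compIso_hom_tm, map_tm]

lemma bcmFun_add (a : S →+* T) (b : T →+* T') (c : S →+* T')
    (h : loc a ≫ loc b = loc c) (N : ModuleCat.{u} (Wn Φ S))
    (y y' : (extendScalars.{u,u,u} (Wm Φ a)).obj N) :
    bcmFun Φ a b c h N (y + y') = bcmFun Φ a b c h N y + bcmFun Φ a b c h N y' := by
  unfold bcmFun
  rw [tm_add_right, map_add]

lemma bcmFun_tm (a : S →+* T) (b : T →+* T') (c : S →+* T')
    (h : loc a ≫ loc b = loc c) (N : ModuleCat.{u} (Wn Φ S)) (s : Wn Φ T) (x : N) :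
    bcmFun Φ a b c h N (tm (Wm Φ a) N s x) = tm (Wm Φ c) N (Wm Φ b s) x := by
  unfold bcmFun
  rw [tm_eq_smul_one (Wm Φ a) N s x, tm_one_smul_right, map_smul, compIso_inv_tm, smul_tm, mul_one]

lemma bcmFun_eq_rT (a : S →+* T) (b : T →+* T') (c : S →+* T')
    (h : loc a ≫ loc b = loc c) (N : ModuleCat.{u} (Wn Φ S))
    (hj : ∀ x, Wm Φ b (Wm Φ a x) = Wm Φ c x)
    (y : (extendScalars.{u,u,u} (Wm Φ a)).obj N) :
    bcmFun Φ a b c h N y = rT (Wm Φ a) (Wm Φ c) N (linOf (Wm Φ a) (Wm Φ c) (Wm Φ b) hj) y := by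
  induction y using tm_induction with
  | h₁ s x => rw [bcmFun_tm, rT_tm]
  | h₂ y y' hy hy' => rw [bcmFun_add, hy, hy', rT_add]

end Groth.Agent.Helper8.GDesc
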