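import Mathlib
import Groth.Agent.Helper8.GDescB

/-!
# Descent for modules over a ring-valued functor: full faithfulness on flat modules

Let `Φ : CommRingCat ⥤ CommRingCat` be a functor and `R → S` a ring map with two maps
`i₁ i₂ : S → T` agreeing on `R`.  If `Φ(R) → Φ(S)` is injective and `Φ(R)` is the equalizer of
`Φ(S) ⇉ Φ(T)`, then the functor from `Φ(R)`-modules to descent data is fully faithful on
morphisms into a flat module.
-/

set_option autoImplicit false
set_option linter.unusedSectionVars false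
set_option linter.unusedVariables false

universe u

open CategoryTheory Opposite

noncomputable section

namespace Groth.Agent.Helper8.GDesc

open ModuleCat ChangeOfRings

variable (Φ : CommRingCat.{u} ⥤ CommRingCat.{u})

variable {R S T : Type u} [CommRing R] [CommRing S] [CommRing T] [Algebra R S]

theorem main (i₁ i₂ : S →+* T) (hc : i₁.comp (algebraMap R S) = i₂.comp (algebraMap R S))
    (hinj : Function.Injective (Wm Φ (algebraMap R S)))
    (hex : ∀ w : Wn Φ S, Wm Φ i₁ w = Wm Φ i₂ w → ∃ v, Wm Φ (algebraMap R S) v = w)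
    (M N : ModuleCat.{u} (Wn Φ R)) [Module.Flat (Wn Φ R) N] :
    FF.{u} (PF Φ) (CommRingCat.ofHom (algebraMap R S)).op M N := by
  have h₁ : loc (algebraMap R S) ≫ loc i₁ = loc (i₁.comp (algebraMap R S)) := rfl
  have h₂ : loc (algebraMap R S) ≫ loc i₂ = loc (i₁.comp (algebraMap R S)) := by
    rw [loc_comp, hc]
  have hq₂ : (CommRingCat.ofHom i₂).op ≫ (CommRingCat.ofHom (algebraMap R S)).op =
      (CommRingCat.ofHom (i₁.comp (algebraMap R S))).op := by
    change (CommRingCat.ofHom (i₂.comp (algebraMap R S))).op = _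
    rw [hc]
  have hj₁ : ∀ x, Wm Φ i₁ (Wm Φ (algebraMap R S) x) = Wm Φ (i₁.comp (algebraMap R S)) x :=
    fun x => (Wm_comp Φ (algebraMap R S) i₁ x).symm
  have hj₂ : ∀ x, Wm Φ i₂ (Wm Φ (algebraMap R S) x) = Wm Φ (i₁.comp (algebraMap R S)) x := by
    intro x
    rw [hc]
    exact (Wm_comp Φ (algebraMap R S) i₂ x).symm
  have hinjN := tm_one_injective (Wm Φ (algebraMap R S)) hinj N
  refine bijective_of (PF Φ) ((CommRingCat.ofHom (algebraMap R S)).op) M N (CommRingCat.ofHom i₁).op (CommRingCat.ofHom i₂).op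
    (CommRingCat.ofHom (i₁.comp (algebraMap R S))).op rfl hq₂ ?_ ?_
  · change Function.Injective (fun φ : M ⟶ N =>
      (extendScalars.{u,u,u} (Wm Φ (algebraMap R S))).map φ)
    intro φ φ' hφ'
    simp only [] at hφ'
    apply ModuleCat.hom_ext
    apply LinearMap.ext
    intro m
    apply hinjN
    change tm _ N 1 (φ.hom m) = tm _ N 1 (φ'.hom m)
    rw [← map_tm, ← map_tm, hφ']
  · change ∀ γ' : (extendScalars.{u,u,u} (Wm Φ (algebraMap R S))).obj M ⟶
        (extendScalars.{u,u,u} (Wm Φ (algebraMap R S))).obj N,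
      conj (PF Φ) (loc (algebraMap R S)) (loc i₁) (loc (i₁.comp (algebraMap R S))) h₁
          (M := M) (N := N) γ' =
        conj (PF Φ) (loc (algebraMap R S)) (loc i₂) (loc (i₁.comp (algebraMap R S))) h₂
          (M := M) (N := N) γ' →
      ∃ φ : M ⟶ N, (extendScalars.{u,u,u} (Wm Φ (algebraMap R S))).map φ = γ'
    intro γ' hγ
    have hγ' : conjC Φ (algebraMap R S) i₁ (i₁.comp (algebraMap R S)) h₁ γ' =
        conjC Φ (algebraMap R S) i₂ (i₁.comp (algebraMap R S)) h₂ γ' := by
      rw [← conj_eq, ← conj_eq]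
      exact hγ
    have key : ∀ m : M, ∃ n : N, γ'.hom (tm (Wm Φ (algebraMap R S)) M 1 m) =
        tm (Wm Φ (algebraMap R S)) N 1 n := by
      intro m
      have e : (conjC Φ (algebraMap R S) i₁ (i₁.comp (algebraMap R S)) h₁ γ').hom
          (tm (Wm Φ (i₁.comp (algebraMap R S))) M 1 m) =
        (conjC Φ (algebraMap R S) i₂ (i₁.comp (algebraMap R S)) h₂ γ').hom
          (tm (Wm Φ (i₁.comp (algebraMap R S))) M 1 m) := by
        rw [hγ']
      rw [conjC_tm, conjC_tm, bcmFun_eq_rT Φ _ _ _ h₁ N hj₁, bcmFun_eq_rT Φ _ _ _ h₂ N hj₂] at e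
      exact exists_of_rT_eq (Wm Φ (algebraMap R S)) (Wm Φ (i₁.comp (algebraMap R S)))
        (Wm Φ i₁) (Wm Φ i₂) hj₁ hj₂ N hex _ e
    choose hfun hh using key
    let hlin : M →ₗ[Wn Φ R] N :=
      { toFun := hfun
        map_add' := fun m m' => by
          apply hinjN
          change tm _ N 1 (hfun (m + m')) = tm _ N 1 (hfun m + hfun m')
          rw [tm_add_right, ← hh, ← hh, ← hh, tm_add_right, map_add]
        map_smul' := fun a m => by
          apply hinjN
          change tm _ N 1 (hfun (a • m)) = tm _ N 1 (a • hfun m)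
          rw [tm_one_smul_right, ← hh, ← hh, tm_one_smul_right, map_smul] }
    refine ⟨ModuleCat.ofHom hlin, ?_⟩
    apply hom_ext_tm
    intro m
    rw [map_tm, hh m]
    rfl

end Groth.Agent.Helper8.GDesc
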