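import Mathlib
import Groth.Agent.Helper8.GDescB
import Groth.Agent.Helper8.FFDesc3

/-!
# Descent data for modules over a ring-valued functor: element-level description and an
effectivity criterion
-/

set_option autoImplicit false
set_option linter.unusedSectionVars false
set_option linter.unusedVariables false

universe u

open CategoryTheory Opposite TensorProduct

noncomputable section

namespace Groth.Agent.Helper8.GDesc

open ModuleCat ChangeOfRings

variable (Φ : CommRingCat.{u} ⥤ CommRingCat.{u})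

section DD

variable {T T' : Type u} [CommRing T] [CommRing T']

variable (R : Type u) (S : Type u) [CommRing R] [CommRing S] [Algebra R S]

/-- the covering morphism `Spec S ⟶ Spec R` -/
abbrev f₀ : (op (CommRingCat.of S) : CommRingCat.{u}ᵒᵖ) ⟶ op (CommRingCat.of R) :=
  (CommRingCat.ofHom (algebraMap R S)).op

/-- descent data relative to `Spec S ⟶ Spec R` -/
abbrev DD := (PF Φ).DescentData (fun _ : PUnit.{u + 1} => f₀ R S)

variable {R S} {Φ}

/-- the underlying `Φ(S)`-module of a descent datum -/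
def Nmod (D : DD Φ R S) : ModuleCat.{u} (Wn Φ S) := D.obj PUnit.unit

variable (D : DD Φ R S)

/-- the comparison map of a descent datum over a pair of points -/
def Dhom (a₁ a₂ : S →+* T) (hc : a₁.comp (algebraMap R S) = a₂.comp (algebraMap R S)) :
    (extendScalars.{u,u,u} (Wm Φ a₁)).obj (Nmod D) ⟶ (extendScalars.{u,u,u} (Wm Φ a₂)).obj (Nmod D) :=
  D.hom (Y := op (CommRingCat.of T)) (CommRingCat.ofHom (a₁.comp (algebraMap R S))).op
    (i₁ := PUnit.unit) (i₂ := PUnit.unit)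
    (CommRingCat.ofHom a₁).op (CommRingCat.ofHom a₂).op rfl
    (by
      change (CommRingCat.ofHom (a₂.comp (algebraMap R S))).op = _
      rw [hc])

/-- `Dhom` does not depend on the choice of the structure morphism -/
lemma hom_eq_Dhom (a₁ a₂ : S →+* T) (hc : a₁.comp (algebraMap R S) = a₂.comp (algebraMap R S))
    (q : (op (CommRingCat.of T) : CommRingCat.{u}ᵒᵖ) ⟶ op (CommRingCat.of R))
    (h₁ : (CommRingCat.ofHom a₁).op ≫ f₀ R S = q) (h₂ : (CommRingCat.ofHom a₂).op ≫ f₀ R S = q) :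
    D.hom (Y := op (CommRingCat.of T)) q (i₁ := PUnit.unit) (i₂ := PUnit.unit)
      (CommRingCat.ofHom a₁).op (CommRingCat.ofHom a₂).op h₁ h₂ = Dhom D a₁ a₂ hc := by
  subst h₁
  rfl

lemma Dhom_self (a : S →+* T) : Dhom D a a rfl = 𝟙 _ := by
  unfold Dhom
  exact D.hom_self (Y := op (CommRingCat.of T)) (CommRingCat.ofHom (a.comp (algebraMap R S))).op
    (i := PUnit.unit) (CommRingCat.ofHom a).op rfl

lemma Dhom_comp (a₁ a₂ a₃ : S →+* T)
    (h₁₂ : a₁.comp (algebraMap R S) = a₂.comp (algebraMap R S))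
    (h₂₃ : a₂.comp (algebraMap R S) = a₃.comp (algebraMap R S)) :
    Dhom D a₁ a₂ h₁₂ ≫ Dhom D a₂ a₃ h₂₃ = Dhom D a₁ a₃ (h₁₂.trans h₂₃) := by
  have hq₂ : (CommRingCat.ofHom a₂).op ≫ f₀ R S =
      (CommRingCat.ofHom (a₁.comp (algebraMap R S))).op := by
    change (CommRingCat.ofHom (a₂.comp (algebraMap R S))).op = _
    rw [h₁₂]
  have hq₃ : (CommRingCat.ofHom a₃).op ≫ f₀ R S =
      (CommRingCat.ofHom (a₁.comp (algebraMap R S))).op := by
    change (CommRingCat.ofHom (a₃.comp (algebraMap R S))).op = _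
    rw [← h₂₃, h₁₂]
  rw [← hom_eq_Dhom D a₁ a₂ h₁₂ _ rfl hq₂, ← hom_eq_Dhom D a₂ a₃ h₂₃ _ hq₂ hq₃,
    ← hom_eq_Dhom D a₁ a₃ (h₁₂.trans h₂₃) _ rfl hq₃]
  exact D.hom_comp (Y := op (CommRingCat.of T)) _ _ _ _ rfl hq₂ hq₃

set_option backward.isDefEq.respectTransparency false in
lemma map_Dhom (a₁ a₂ : S →+* T) (hc : a₁.comp (algebraMap R S) = a₂.comp (algebraMap R S))
    (g : T →+* T') :
    (extendScalars.{u,u,u} (Wm Φ g)).map (Dhom D a₁ a₂ hc) =
      (compIso Φ a₁ g (g.comp a₁) (loc_comp a₁ g) (Nmod D)).inv ≫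
        Dhom D (g.comp a₁) (g.comp a₂) (by rw [RingHom.comp_assoc, hc, RingHom.comp_assoc]) ≫
          (compIso Φ a₂ g (g.comp a₂) (loc_comp a₂ g) (Nmod D)).hom := by
  have hc' : (g.comp a₁).comp (algebraMap R S) = (g.comp a₂).comp (algebraMap R S) := by
    rw [RingHom.comp_assoc, hc, RingHom.comp_assoc]
  have h2 : (CommRingCat.ofHom a₂).op ≫ f₀ R S =
      (CommRingCat.ofHom (a₁.comp (algebraMap R S))).op := by
    change (CommRingCat.ofHom (a₂.comp (algebraMap R S))).op = _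
    rw [hc]
  have h2' : (CommRingCat.ofHom (g.comp a₂)).op ≫ f₀ R S =
      (CommRingCat.ofHom ((g.comp a₁).comp (algebraMap R S))).op := by
    change (CommRingCat.ofHom ((g.comp a₂).comp (algebraMap R S))).op = _
    rw [hc']
  rw [compIso_eq, compIso_eq, ← hom_eq_Dhom D (g.comp a₁) (g.comp a₂) hc' _ rfl h2']
  exact map_hom_eq (PF Φ) (f₀ R S) D (Y' := op (CommRingCat.of T')) (Y := op (CommRingCat.of T))
    (CommRingCat.ofHom g).op (CommRingCat.ofHom (a₁.comp (algebraMap R S))).op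
    (CommRingCat.ofHom ((g.comp a₁).comp (algebraMap R S))).op rfl
    (CommRingCat.ofHom a₁).op (CommRingCat.ofHom a₂).op rfl h2
    (CommRingCat.ofHom (g.comp a₁)).op (CommRingCat.ofHom (g.comp a₂)).op rfl rfl rfl h2'

/-- the comparison map on the generators `1 ⊗ n` -/
def theta (a₁ a₂ : S →+* T) (hc : a₁.comp (algebraMap R S) = a₂.comp (algebraMap R S))
    (n : Nmod D) : (extendScalars.{u,u,u} (Wm Φ a₂)).obj (Nmod D) :=
  (Dhom D a₁ a₂ hc).hom (tm (Wm Φ a₁) (Nmod D) 1 n)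

lemma theta_self (a : S →+* T) (n : Nmod D) :
    theta D a a rfl n = tm (Wm Φ a) (Nmod D) 1 n := by
  unfold theta
  rw [Dhom_self]
  rfl

lemma Dhom_theta (a₁ a₂ a₃ : S →+* T)
    (h₁₂ : a₁.comp (algebraMap R S) = a₂.comp (algebraMap R S))
    (h₂₃ : a₂.comp (algebraMap R S) = a₃.comp (algebraMap R S)) (n : Nmod D) :
    (Dhom D a₂ a₃ h₂₃).hom (theta D a₁ a₂ h₁₂ n) = theta D a₁ a₃ (h₁₂.trans h₂₃) n := by
  unfold theta
  rw [← Dhom_comp D a₁ a₂ a₃ h₁₂ h₂₃]
  rfl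

lemma theta_nat (a₁ a₂ : S →+* T) (hc : a₁.comp (algebraMap R S) = a₂.comp (algebraMap R S))
    (g : T →+* T') (n : Nmod D) :
    theta D (g.comp a₁) (g.comp a₂) (by rw [RingHom.comp_assoc, hc, RingHom.comp_assoc]) n =
      bcmFun Φ a₂ g (g.comp a₂) (loc_comp a₂ g) (Nmod D) (theta D a₁ a₂ hc n) := by
  have hc' : (g.comp a₁).comp (algebraMap R S) = (g.comp a₂).comp (algebraMap R S) := by
    rw [RingHom.comp_assoc, hc, RingHom.comp_assoc]
  have key := congrArg (fun φ => φ.hom (tm (Wm Φ g) ((extendScalars.{u,u,u} (Wm Φ a₁)).obj (Nmod D)) 1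
    (tm (Wm Φ a₁) (Nmod D) 1 n))) (map_Dhom D a₁ a₂ hc g)
  beta_reduce at key
  rw [map_tm, ModuleCat.hom_comp, ModuleCat.hom_comp, LinearMap.comp_apply, LinearMap.comp_apply,
    compIso_inv_tm] at key
  unfold bcmFun
  change _ = (compIso Φ a₂ g (g.comp a₂) (loc_comp a₂ g) (Nmod D)).inv.hom
    (tm (Wm Φ g) _ 1 ((Dhom D a₁ a₂ hc).hom (tm (Wm Φ a₁) (Nmod D) 1 n)))
  rw [key, compIso_inv_hom_apply]
  rfl

lemma theta_nat' (a₁ a₂ : S →+* T)
    (hc : a₁.comp (algebraMap R S) = a₂.comp (algebraMap R S))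
    (g : T →+* T') (b₁ b₂ : S →+* T') (h₁ : g.comp a₁ = b₁) (h₂ : g.comp a₂ = b₂)
    (hcb : b₁.comp (algebraMap R S) = b₂.comp (algebraMap R S))
    (hl : loc a₂ ≫ loc g = loc b₂) (n : Nmod D) :
    theta D b₁ b₂ hcb n = bcmFun Φ a₂ g b₂ hl (Nmod D) (theta D a₁ a₂ hc n) := by
  subst h₁ h₂
  exact theta_nat D a₁ a₂ hc g n

/-- `theta` is additive -/
lemma theta_add (a₁ a₂ : S →+* T)
    (hc : a₁.comp (algebraMap R S) = a₂.comp (algebraMap R S)) (n n' : Nmod D) :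
    theta D a₁ a₂ hc (n + n') = theta D a₁ a₂ hc n + theta D a₁ a₂ hc n' := by
  unfold theta
  rw [tm_add_right, map_add]

/-- `theta` is semilinear -/
lemma theta_smul (a₁ a₂ : S →+* T)
    (hc : a₁.comp (algebraMap R S) = a₂.comp (algebraMap R S)) (s : Wn Φ S) (n : Nmod D) :
    theta D a₁ a₂ hc (s • n) = Wm Φ a₁ s • theta D a₁ a₂ hc n := by
  unfold theta
  rw [tm_one_smul_right, map_smul]

lemma theta_sum {ι : Type*} (s : Finset ι) (a₁ a₂ : S →+* T)
    (hc : a₁.comp (algebraMap R S) = a₂.comp (algebraMap R S)) (c : ι → Wn Φ S)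
    (x : ι → Nmod D) :
    theta D a₁ a₂ hc (∑ i ∈ s, c i • x i) = ∑ i ∈ s, Wm Φ a₁ (c i) • theta D a₁ a₂ hc (x i) := by
  classical
  induction s using Finset.induction_on with
  | empty =>
    simp only [Finset.sum_empty]
    unfold theta
    have : tm (Wm Φ a₁) (Nmod D) 1 (0 : Nmod D) = 0 :=
      TensorProduct.tmul_zero (R := Wn Φ S) (M := Sg (Wm Φ a₁)) (Nmod D) (toSg (Wm Φ a₁) 1)
    rw [this, map_zero]
  | insert i s hi ih =>
    rw [Finset.sum_insert hi, Finset.sum_insert hi, theta_add, theta_smul, ih]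

/-- the value of `Dhom` on a general pure tensor -/
lemma Dhom_tm (a₁ a₂ : S →+* T)
    (hc : a₁.comp (algebraMap R S) = a₂.comp (algebraMap R S)) (t : Wn Φ T) (n : Nmod D) :
    (Dhom D a₁ a₂ hc).hom (tm (Wm Φ a₁) (Nmod D) t n) = t • theta D a₁ a₂ hc n := by
  rw [tm_eq_smul_one, map_smul]
  rfl

/-! ### The universal pair -/

open Groth.Agent.Helper8.FFDesc (i₁ i₂ hc₀ iL iR)

/-- on invariant elements all comparison maps are trivial -/
lemma theta_of_inv (a₁ a₂ : S →+* T)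
    (hc : a₁.comp (algebraMap R S) = a₂.comp (algebraMap R S)) (x : Nmod D)
    (hx : theta D (i₁ (R := R) (S := S)) (i₂ (R := R) (S := S)) hc₀ x =
      tm (Wm Φ (i₂ (R := R) (S := S))) (Nmod D) 1 x) :
    theta D a₁ a₂ hc x = tm (Wm Φ a₂) (Nmod D) 1 x := by
  letI : Algebra R T := (a₁.comp (algebraMap R S)).toAlgebra
  let α₁ : S →ₐ[R] T := { a₁ with commutes' := fun r => rfl }
  let α₂ : S →ₐ[R] T := { a₂ with commutes' := fun r => (congrArg (fun f => f r) hc).symm }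
  let g : S ⊗[R] S →+* T := (Algebra.TensorProduct.productMap α₁ α₂).toRingHom
  have hg₁ : g.comp (i₁ (R := R) (S := S)) = a₁ := by
    ext s
    simp [g, i₁, iL, α₁]
  have hg₂ : g.comp (i₂ (R := R) (S := S)) = a₂ := by
    ext s
    simp [g, i₂, iR, α₂]
  have hl : loc (i₂ (R := R) (S := S)) ≫ loc g = loc a₂ := by rw [loc_comp, hg₂]
  have h := theta_nat' D i₁ i₂ hc₀ g a₁ a₂ hg₁ hg₂ hc hl x
  rw [h, hx, bcmFun_tm, map_one]

/-- the commutation of a candidate isomorphism with the comparison maps -/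
lemma comm_key (M : ModuleCat.{u} (Wn Φ R))
    (ε : (extendScalars.{u,u,u} (Wm Φ (algebraMap R S))).obj M ⟶ Nmod D)
    (hε : ∀ m : M, theta D (i₁ (R := R) (S := S)) (i₂ (R := R) (S := S)) hc₀
        (ε.hom (tm (Wm Φ (algebraMap R S)) M 1 m)) =
      tm (Wm Φ (i₂ (R := R) (S := S))) (Nmod D) 1 (ε.hom (tm (Wm Φ (algebraMap R S)) M 1 m)))
    (a₁ a₂ : S →+* T)
    (hc : a₁.comp (algebraMap R S) = a₂.comp (algebraMap R S)) (c : R →+* T)
    (h₁ : loc (algebraMap R S) ≫ loc a₁ = loc c) (h₂ : loc (algebraMap R S) ≫ loc a₂ = loc c) :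
    (extendScalars.{u,u,u} (Wm Φ a₁)).map ε ≫ Dhom D a₁ a₂ hc =
      ((compIso Φ (algebraMap R S) a₁ c h₁ M).inv ≫ (compIso Φ (algebraMap R S) a₂ c h₂ M).hom) ≫
        (extendScalars.{u,u,u} (Wm Φ a₂)).map ε := by
  rw [← cancel_epi (compIso Φ (algebraMap R S) a₁ c h₁ M).hom, Category.assoc,
    Iso.hom_inv_id_assoc]
  apply hom_ext_tm
  intro m
  rw [ModuleCat.hom_comp, ModuleCat.hom_comp, LinearMap.comp_apply, LinearMap.comp_apply,
    ModuleCat.hom_comp, LinearMap.comp_apply, compIso_hom_tm, compIso_hom_tm, map_tm, map_tm]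
  exact theta_of_inv D a₁ a₂ hc _ (hε m)

set_option backward.isDefEq.respectTransparency false in
theorem nonempty_iso (M : ModuleCat.{u} (Wn Φ R))
    (ε : (extendScalars.{u,u,u} (Wm Φ (algebraMap R S))).obj M ≅ Nmod D)
    (hε : ∀ m : M, theta D (i₁ (R := R) (S := S)) (i₂ (R := R) (S := S)) hc₀
        (ε.hom.hom (tm (Wm Φ (algebraMap R S)) M 1 m)) =
      tm (Wm Φ (i₂ (R := R) (S := S))) (Nmod D) 1
        (ε.hom.hom (tm (Wm Φ (algebraMap R S)) M 1 m))) :
    Nonempty (((PF Φ).toDescentData (fun _ : PUnit.{u + 1} => f₀ R S)).obj M ≅ D) := by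
  apply nonempty_iso_of (PF Φ) (f₀ R S) M D ε
  intro Y q f₁ f₂ hf₁ hf₂
  obtain ⟨T', rfl⟩ : ∃ T' : CommRingCat.{u}, Y = op T' := ⟨Y.unop, rfl⟩
  obtain ⟨T, _, rfl⟩ : ∃ (T : Type u) (_ : CommRing T), T' = CommRingCat.of T :=
    ⟨T', inferInstance, rfl⟩
  obtain ⟨a₁, rfl⟩ : ∃ a₁ : S →+* T, f₁ = (CommRingCat.ofHom a₁).op := ⟨f₁.unop.hom, rfl⟩
  obtain ⟨a₂, rfl⟩ : ∃ a₂ : S →+* T, f₂ = (CommRingCat.ofHom a₂).op := ⟨f₂.unop.hom, rfl⟩
  subst hf₁
  have hc : a₁.comp (algebraMap R S) = a₂.comp (algebraMap R S) := by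
    have := congrArg (fun x => x.unop.hom) hf₂
    exact this.symm
  rw [hom_eq_Dhom D a₁ a₂ hc _ rfl hf₂]
  have h₂ : loc (algebraMap R S) ≫ loc a₂ = loc (a₁.comp (algebraMap R S)) := by
    rw [loc_comp, hc]
  have key := comm_key D M ε.hom hε a₁ a₂ hc (a₁.comp (algebraMap R S)) (loc_comp _ _) h₂
  rw [compIso_eq, compIso_eq] at key
  exact key

end DD

end Groth.Agent.Helper8.GDesc
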