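import Mathlib
import Groth.Agent.Helper8.GDescT

/-!
# Presentations of finitely generated projective modules by idempotent matrices

`Pres e m` says that the family `m : Fin h → M` identifies `M` with the image of the idempotent
matrix `e`.
-/

set_option autoImplicit false
set_option linter.unusedSectionVars false
set_option linter.unusedVariables false

universe u v

open CategoryTheory Matrix

noncomputable section

namespace Groth.Agent.Helper8.PresMat

variable {A : Type u} [CommRing A] {h : ℕ}

/-- the family `m` presents `M` as the image of the idempotent matrix `e` -/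
structure Pres (e : Matrix (Fin h) (Fin h) A) {M : Type v} [AddCommGroup M] [Module A M]
    (m : Fin h → M) : Prop where
  idem : e * e = e
  rel : ∀ k, ∑ j, e j k • m j = m k
  ker : ∀ v : Fin h → A, ∑ j, v j • m j = 0 → e *ᵥ v = 0
  span : Submodule.span A (Set.range m) = ⊤

/-- linear combinations -/
def comb {M : Type v} [AddCommGroup M] [Module A M] (m : Fin h → M) : (Fin h → A) →ₗ[A] M :=
  Fintype.linearCombination A m

lemma comb_apply {M : Type v} [AddCommGroup M] [Module A M] (m : Fin h → M) (v : Fin h → A) :
    comb m v = ∑ j, v j • m j := by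
  simp [comb, Fintype.linearCombination_apply]

lemma comb_single {M : Type v} [AddCommGroup M] [Module A M] (m : Fin h → M) (k : Fin h) :
    comb (A := A) m (Pi.single k 1) = m k := by
  simp [comb]

namespace Pres

variable {e : Matrix (Fin h) (Fin h) A} {M : Type v} [AddCommGroup M] [Module A M]
  {m : Fin h → M} (P : Pres e m)

include P in
lemma comb_surjective : Function.Surjective (comb (A := A) m) := by
  rw [← LinearMap.range_eq_top]
  unfold comb
  rw [Fintype.range_linearCombination]
  exact P.span

include P in
lemma comb_mulVec (v : Fin h → A) : comb m (e *ᵥ v) = comb m v := by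
  rw [comb_apply, comb_apply]
  simp only [Matrix.mulVec, dotProduct, Finset.sum_smul]
  rw [Finset.sum_comm]
  refine Finset.sum_congr rfl fun k _ => ?_
  rw [← P.rel k, Finset.smul_sum]
  refine Finset.sum_congr rfl fun j _ => ?_
  rw [smul_smul, mul_comm]

include P in
lemma ker_le : LinearMap.ker (comb (A := A) m) ≤ LinearMap.ker (Matrix.toLin' e) := by
  intro v hv
  rw [LinearMap.mem_ker] at hv ⊢
  rw [Matrix.toLin'_apply]
  exact P.ker v (by rw [← comb_apply]; exact hv)

/-- the coordinates of an element -/
def sigma : M →ₗ[A] (Fin h → A) :=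
  ((LinearMap.ker (comb (A := A) m)).liftQ (Matrix.toLin' e) P.ker_le).comp
    ((comb (A := A) m).quotKerEquivOfSurjective P.comb_surjective).symm.toLinearMap

lemma sigma_comb (v : Fin h → A) : P.sigma (comb m v) = e *ᵥ v := by
  unfold sigma
  rw [LinearMap.comp_apply]
  have : ((comb (A := A) m).quotKerEquivOfSurjective P.comb_surjective).symm (comb m v) =
      Submodule.Quotient.mk v := by
    rw [LinearEquiv.symm_apply_eq]
    rfl
  rw [LinearEquiv.coe_coe, this, Submodule.liftQ_apply, Matrix.toLin'_apply]

lemma comb_sigma (x : M) : comb m (P.sigma x) = x := by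
  obtain ⟨v, rfl⟩ := P.comb_surjective x
  rw [sigma_comb, P.comb_mulVec]

lemma mulVec_sigma (x : M) : e *ᵥ P.sigma x = P.sigma x := by
  obtain ⟨v, rfl⟩ := P.comb_surjective x
  rw [sigma_comb, Matrix.mulVec_mulVec, P.idem]

lemma sigma_gen (k : Fin h) : P.sigma (m k) = fun i => e i k := by
  rw [← comb_single (A := A) m k, sigma_comb]
  ext i
  simp [Matrix.mulVec, dotProduct, Pi.single_apply]

include P in
lemma coord_unique (v w : Fin h → A) (hv : e *ᵥ v = v) (hw : e *ᵥ w = w)
    (hvw : comb m v = comb m w) : v = w := by
  rw [← hv, ← hw, ← P.sigma_comb, ← P.sigma_comb, hvw]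

/-- two modules with the same presentation are isomorphic -/
def iso {N : Type v} [AddCommGroup N] [Module A N] {n : Fin h → N} (Q : Pres e n) :
    M ≃ₗ[A] N where
  toFun x := comb n (P.sigma x)
  map_add' x y := by rw [map_add, map_add]
  map_smul' a x := by rw [map_smul, map_smul, RingHom.id_apply]
  invFun y := comb m (Q.sigma y)
  left_inv x := by
    change comb m (Q.sigma (comb n (P.sigma x))) = x
    rw [Q.sigma_comb, P.mulVec_sigma, P.comb_sigma]
  right_inv y := by
    change comb n (P.sigma (comb m (Q.sigma y))) = y
    rw [P.sigma_comb, Q.mulVec_sigma, Q.comb_sigma]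

lemma iso_gen {N : Type v} [AddCommGroup N] [Module A N] {n : Fin h → N} (Q : Pres e n)
    (k : Fin h) : P.iso Q (m k) = n k := by
  change comb n (P.sigma (m k)) = n k
  rw [← comb_single (A := A) m k, P.sigma_comb, Q.comb_mulVec, comb_single]

include P in
/-- change of generators by a corner-invertible matrix -/
theorem change (g g' : Matrix (Fin h) (Fin h) A) (h1 : e * g = g) (h2 : g * e = g)
    (h3 : e * g' = g') (h4 : g' * e = g') (h5 : g * g' = e) (h6 : g' * g = e) :
    Pres e (fun k => ∑ j, g j k • m j) := by
  have hcomb : ∀ v : Fin h → A, comb (fun k => ∑ j, g j k • m j) v = comb m (g *ᵥ v) := by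
    intro v
    rw [comb_apply, comb_apply]
    simp only [Matrix.mulVec, dotProduct, Finset.sum_smul, Finset.smul_sum]
    rw [Finset.sum_comm]
    refine Finset.sum_congr rfl fun j _ => Finset.sum_congr rfl fun k _ => ?_
    rw [smul_smul, mul_comm]
  refine ⟨P.idem, ?_, ?_, ?_⟩
  · intro k
    have := hcomb (fun j => e j k)
    rw [comb_apply] at this
    rw [this]
    have e1 : (g *ᵥ fun j => e j k) = fun j => g j k := by
      ext i
      have := congrFun (congrFun h2 i) k
      rw [Matrix.mul_apply] at this
      simpa [Matrix.mulVec, dotProduct] using this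
    rw [e1, comb_apply]
  · intro v hv
    rw [← comb_apply, hcomb] at hv
    have h7 : e *ᵥ (g *ᵥ v) = 0 := P.ker _ (by rw [← comb_apply]; exact hv)
    rw [Matrix.mulVec_mulVec, h1] at h7
    have : g' *ᵥ (g *ᵥ v) = 0 := by rw [h7, Matrix.mulVec_zero]
    rwa [Matrix.mulVec_mulVec, h6] at this
  · rw [eq_top_iff, ← P.span, Submodule.span_le]
    rintro _ ⟨k, rfl⟩
    have : m k = comb (fun k => ∑ j, g j k • m j) (fun l => g' l k) := by
      rw [hcomb]
      have e1 : (g *ᵥ fun l => g' l k) = fun j => e j k := by
        ext i
        have := congrFun (congrFun h5 i) k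
        rw [Matrix.mul_apply] at this
        simpa [Matrix.mulVec, dotProduct] using this
      rw [e1, comb_apply, P.rel]
    rw [this, comb_apply]
    exact Submodule.sum_mem _ fun l _ => Submodule.smul_mem _ _ (Submodule.subset_span ⟨l, rfl⟩)

end Pres

/-! ### The standard module presented by an idempotent -/

/-- the image of an idempotent matrix -/
def stdM (e : Matrix (Fin h) (Fin h) A) : Submodule A (Fin h → A) :=
  LinearMap.range (Matrix.toLin' e)

/-- its generators -/
def stdGen (e : Matrix (Fin h) (Fin h) A) (k : Fin h) : stdM e :=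
  ⟨e *ᵥ Pi.single k 1, ⟨Pi.single k 1, Matrix.toLin'_apply _ _⟩⟩

lemma stdGen_val (e : Matrix (Fin h) (Fin h) A) (k : Fin h) :
    (stdGen e k : Fin h → A) = fun i => e i k := by
  ext i
  simp [stdGen]

lemma comb_stdGen_val (e : Matrix (Fin h) (Fin h) A) (v : Fin h → A) :
    ((comb (stdGen e) v : stdM e) : Fin h → A) = e *ᵥ v := by
  rw [comb_apply]
  ext i
  simp only [Submodule.coe_sum, Submodule.coe_smul, stdGen_val, Finset.sum_apply, Pi.smul_apply,
    smul_eq_mul, Matrix.mulVec, dotProduct]
  exact Finset.sum_congr rfl fun j _ => mul_comm _ _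

theorem pres_std (e : Matrix (Fin h) (Fin h) A) (he : e * e = e) : Pres e (stdGen e) := by
  refine ⟨he, ?_, ?_, ?_⟩
  · intro k
    apply Subtype.ext
    have := comb_stdGen_val e (fun j => e j k)
    rw [comb_apply] at this
    rw [this, stdGen_val]
    ext i
    have := congrFun (congrFun he i) k
    rw [Matrix.mul_apply] at this
    simpa [Matrix.mulVec, dotProduct] using this
  · intro v hv
    rw [← comb_apply] at hv
    have := comb_stdGen_val e v
    rw [hv] at this
    exact this.symm
  · rw [eq_top_iff]
    intro x _
    obtain ⟨v, hv⟩ := x.2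
    have : x = comb (stdGen e) v := by
      apply Subtype.ext
      rw [comb_stdGen_val, ← hv, Matrix.toLin'_apply]
    rw [this, comb_apply]
    exact Submodule.sum_mem _ fun l _ => Submodule.smul_mem _ _ (Submodule.subset_span ⟨l, rfl⟩)

instance finite_stdM (e : Matrix (Fin h) (Fin h) A) : Module.Finite A (stdM e) := by
  unfold stdM
  infer_instance

theorem projective_stdM (e : Matrix (Fin h) (Fin h) A) (he : e * e = e) :
    Module.Projective A (stdM e) := by
  refine Module.Projective.of_split (stdM e).subtype
    ((Matrix.toLin' e).codRestrict (stdM e) fun v => ⟨v, rfl⟩) ?_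
  apply LinearMap.ext
  rintro ⟨x, v, rfl⟩
  apply Subtype.ext
  simp only [LinearMap.comp_apply, Submodule.subtype_apply, LinearMap.codRestrict_apply,
    LinearMap.id_apply]
  rw [Matrix.toLin'_apply, Matrix.toLin'_apply, Matrix.mulVec_mulVec, he]

/-- a module presented by an idempotent is finitely generated projective -/
theorem Pres.finite {e : Matrix (Fin h) (Fin h) A} {M : Type u} [AddCommGroup M] [Module A M]
    {m : Fin h → M} (P : Pres e m) : Module.Finite A M :=
  Module.Finite.equiv ((pres_std e P.idem).iso P)

theorem Pres.projective {e : Matrix (Fin h) (Fin h) A} {M : Type u} [AddCommGroup M]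
    [Module A M] {m : Fin h → M} (P : Pres e m) : Module.Projective A M := by
  haveI := projective_stdM e P.idem
  exact Module.Projective.of_equiv ((pres_std e P.idem).iso P)

/-- every finitely generated projective module has a presentation -/
theorem exists_pres (M : Type v) [AddCommGroup M] [Module A M] [Module.Finite A M]
    [Module.Projective A M] :
    ∃ (h : ℕ) (e : Matrix (Fin h) (Fin h) A) (m : Fin h → M), Pres e m := by
  obtain ⟨h, m, hm⟩ := Module.Finite.exists_fin (R := A) (M := M)
  have hsurj : Function.Surjective (comb (A := A) m) := by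
    rw [← LinearMap.range_eq_top]
    unfold comb
    rw [Fintype.range_linearCombination]
    exact hm
  obtain ⟨s, hs⟩ := Module.projective_lifting_property (comb (A := A) m) LinearMap.id hsurj
  have hs' : ∀ x, comb m (s x) = x := fun x => congrArg (fun f => f x) hs
  refine ⟨h, LinearMap.toMatrix' (s.comp (comb m)), m, ?_, ?_, ?_, hm⟩
  · rw [← LinearMap.toMatrix'_comp]
    congr 1
    apply LinearMap.ext
    intro v
    simp only [LinearMap.comp_apply, hs']
  · intro k
    have : (fun j => LinearMap.toMatrix' (s.comp (comb m)) j k) = s (m k) := by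
      ext j
      rw [LinearMap.toMatrix'_apply, LinearMap.comp_apply, comb_single]
    rw [← comb_apply, this, hs']
  · intro v hv
    rw [← comb_apply] at hv
    rw [← Matrix.toLin'_apply, Matrix.toLin'_toMatrix', LinearMap.comp_apply, hv, map_zero]

/-! ### Base change of presentations -/

section BaseChange

open ModuleCat ChangeOfRings Groth.Agent.Helper8.GDesc

variable {B : Type u} [CommRing B]

/-- the lift of a semilinear map to the extension of scalars -/
def liftSL (f : A →+* B) (N : ModuleCat.{u} A) (Q : ModuleCat.{u} B) (g : N →+ Q)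
    (hg : ∀ (a : A) (x : N), g (a • x) = f a • g x) :
    (extendScalars.{u,u,u} f).obj N ⟶ Q :=
  ModuleCat.ExtendRestrictScalarsAdj.HomEquiv.fromExtendScalars f
    (ModuleCat.ofHom (Y := (restrictScalars f).obj Q)
      { toFun := fun x => g x
        map_add' := fun x y => map_add g x y
        map_smul' := fun a x => hg a x })

set_option backward.isDefEq.respectTransparency false in
lemma liftSL_tm (f : A →+* B) (N : ModuleCat.{u} A) (Q : ModuleCat.{u} B) (g : N →+ Q)
    (hg : ∀ (a : A) (x : N), g (a • x) = f a • g x) (s : B) (x : N) :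
    (liftSL f N Q g hg).hom (tm f N s x) = s • g x := by
  unfold liftSL tm
  erw [ModuleCat.ExtendRestrictScalarsAdj.HomEquiv.fromExtendScalars_hom_apply]
  rfl

/-- base change of a presentation -/
theorem pres_extend (f : A →+* B) {e : Matrix (Fin h) (Fin h) A} (N : ModuleCat.{u} A)
    {m : Fin h → N} (P : Pres e m) :
    Pres (e.map f) (fun k => tm f N 1 (m k)) := by
  have tm_sum : ∀ (v : Fin h → A), tm f N 1 (∑ j, v j • m j) = ∑ j, f (v j) • tm f N 1 (m j) := by
    intro v
    have hadd : ∀ (s : Finset (Fin h)), tm f N 1 (∑ j ∈ s, v j • m j) =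
        ∑ j ∈ s, f (v j) • tm f N 1 (m j) := by
      intro s
      induction s using Finset.induction_on with
      | empty =>
        simp only [Finset.sum_empty]
        exact TensorProduct.tmul_zero (R := A) (M := Sg f) N (toSg f 1)
      | insert a s ha ih =>
        rw [Finset.sum_insert ha, Finset.sum_insert ha, tm_add_right, ih, tm_one_smul_right]
    exact hadd Finset.univ
  refine ⟨by rw [← Matrix.map_mul, P.idem], ?_, ?_, ?_⟩
  · intro k
    have := tm_sum (fun j => e j k)
    rw [P.rel k] at this
    rw [this]
    rfl
  · intro w hw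
    -- the coordinate map of the base change
    let Q : ModuleCat.{u} B := ModuleCat.of B (Fin h → B)
    let g : N →+ Q :=
      { toFun := fun x => (fun i => f (P.sigma x i) : Fin h → B)
        map_zero' := by
          funext i
          change f (P.sigma 0 i) = 0
          rw [map_zero, Pi.zero_apply, map_zero]
        map_add' := fun x y => by
          funext i
          change f (P.sigma (x + y) i) = f (P.sigma x i) + f (P.sigma y i)
          rw [map_add, Pi.add_apply, map_add] }
    have hg : ∀ (a : A) (x : N), g (a • x) = f a • g x := by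
      intro a x
      ext i
      change f (P.sigma (a • x) i) = f a * f (P.sigma x i)
      rw [map_smul, Pi.smul_apply, smul_eq_mul, map_mul]
    have key2 : ∀ j, (liftSL f N Q g hg).hom (w j • tm f N 1 (m j)) =
        (w j • (fun i => f (e i j)) : Fin h → B) := by
      intro j
      rw [map_smul, liftSL_tm, one_smul]
      congr 1
      funext i
      change f (P.sigma (m j) i) = _
      rw [P.sigma_gen]
    have key : ∑ j, (w j • (fun i => f (e i j)) : Fin h → B) = 0 := by
      rw [← map_zero (liftSL f N Q g hg).hom, ← hw, map_sum]
      exact Finset.sum_congr rfl (fun j _ => (key2 j).symm)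
    ext i
    have := congrFun key i
    simp only [Finset.sum_apply, Pi.smul_apply, smul_eq_mul, Pi.zero_apply] at this
    simp only [Matrix.mulVec, dotProduct, Matrix.map_apply, Pi.zero_apply]
    rw [← this]
    exact Finset.sum_congr rfl fun j _ => mul_comm _ _
  · rw [eq_top_iff]
    have hall : ∀ y : ↑((extendScalars.{u,u,u} f).obj N),
        y ∈ Submodule.span B (Set.range fun k => tm f N 1 (m k)) := by
      intro y
      induction y using tm_induction with
      | h₁ s x =>
        obtain ⟨v, rfl⟩ := P.comb_surjective x
        rw [tm_eq_smul_one, comb_apply, tm_sum]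
        apply Submodule.smul_mem
        exact Submodule.sum_mem _ fun l _ =>
          Submodule.smul_mem _ _ (Submodule.subset_span ⟨l, rfl⟩)
      | h₂ y y' hy hy' => exact Submodule.add_mem _ hy hy'
    exact fun y _ => hall y

end BaseChange

end Groth.Agent.Helper8.PresMat
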