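import Mathlib
import Groth.Agent.Helper8.GDescD
import Groth.Agent.Helper8.PresMat
import Groth.Agent.Helper8.FFDesc6

/-!
# Reduction of descent data along an augmentation `Φ(T) → T`

For a ring-valued functor `Φ` with a natural augmentation `θ_T : Φ(T) → T`, a descent datum of
`Φ`-modules relative to `R → S` induces an ordinary descent datum of `S`-modules.  By faithfully
flat descent the latter is effective.
-/

set_option autoImplicit false
set_option linter.unusedSectionVars false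
set_option linter.unusedVariables false

universe u

open CategoryTheory Opposite TensorProduct

noncomputable section

namespace Groth.Agent.Helper8.GDescR

open ModuleCat ChangeOfRings Groth.Agent.Helper8.GDesc Groth.Agent.Helper8.PresMat

variable (Φ : CommRingCat.{u} ⥤ CommRingCat.{u})

/-- a natural augmentation `Φ(T) → T` -/
structure Aug where
  /-- the augmentation -/
  θ : ∀ (T : Type u) [CommRing T], Wn Φ T →+* T
  nat : ∀ {T T' : Type u} [CommRing T] [CommRing T'] (g : T →+* T') (x : Wn Φ T),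
    θ T' (Wm Φ g x) = g (θ T x)

variable {Φ}
variable {R S : Type u} [CommRing R] [CommRing S] [Algebra R S]
variable (A : Aug Φ) (D : DD Φ R S)
variable {T T' : Type u} [CommRing T] [CommRing T']

/-- the reduction of the underlying module -/
abbrev Mbar : ModuleCat.{u} S := (extendScalars.{u,u,u} (A.θ S)).obj (Nmod D)

/-- the generators of the base change of the reduction -/
def gen (a : S →+* T) (m : Nmod D) : ↑((extendScalars.{u,u,u} a).obj (Mbar A D)) :=
  tm a (Mbar A D) 1 (tm (A.θ S) (Nmod D) 1 m)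

lemma gen_add (a : S →+* T) (m m' : Nmod D) :
    gen A D a (m + m') = gen A D a m + gen A D a m' := by
  unfold gen
  rw [tm_add_right, tm_add_right]

lemma gen_smul (a : S →+* T) (w : Wn Φ S) (m : Nmod D) :
    gen A D a (w • m) = a (A.θ S w) • gen A D a m := by
  unfold gen
  rw [tm_one_smul_right, tm_one_smul_right]

lemma hom_ext_gen (a : S →+* T) {W : ModuleCat.{u} T}
    {α β : (extendScalars.{u,u,u} a).obj (Mbar A D) ⟶ W}
    (h : ∀ m : Nmod D, α.hom (gen A D a m) = β.hom (gen A D a m)) : α = β := by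
  apply hom_ext_tm
  intro x
  induction x using tm_induction with
  | h₁ s m =>
    rw [tm_eq_smul_one (A.θ S) (Nmod D) s m, tm_one_smul_right, map_smul, map_smul]
    exact congrArg (fun z => a s • z) (h m)
  | h₂ y y' hy hy' =>
    rw [tm_add_right, map_add, map_add, hy, hy']

/-- the reduction map as an additive map on generators -/
def redAux (a : S →+* T) : Nmod D →+
    ↑((restrictScalars.{u,u,u} (A.θ T)).obj ((extendScalars.{u,u,u} a).obj (Mbar A D))) :=
  AddMonoidHom.mk' (fun m => gen A D a m) (fun m m' => gen_add A D a m m')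

lemma redAux_smul (a : S →+* T) (w : Wn Φ S) (m : Nmod D) :
    redAux A D a (w • m) = Wm Φ a w • redAux A D a m := by
  change gen A D a (w • m) = A.θ T (Wm Φ a w) • gen A D a m
  rw [gen_smul, A.nat]

/-- the reduction map `Φ(T) ⊗ M' → T ⊗ (S ⊗ M')` -/
def redW (a : S →+* T) : (extendScalars.{u,u,u} (Wm Φ a)).obj (Nmod D) ⟶
    (restrictScalars.{u,u,u} (A.θ T)).obj ((extendScalars.{u,u,u} a).obj (Mbar A D)) :=
  liftSL (Wm Φ a) (Nmod D) _ (redAux A D a) (redAux_smul A D a)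

/-- the reduction map as a function -/
def red (a : S →+* T) (y : ↑((extendScalars.{u,u,u} (Wm Φ a)).obj (Nmod D))) :
    ↑((extendScalars.{u,u,u} a).obj (Mbar A D)) :=
  (redW A D a).hom y

lemma red_tm (a : S →+* T) (t : Wn Φ T) (m : Nmod D) :
    red A D a (tm (Wm Φ a) (Nmod D) t m) = A.θ T t • gen A D a m := by
  unfold red redW
  rw [liftSL_tm]
  rfl

lemma red_add (a : S →+* T) (y y' : ↑((extendScalars.{u,u,u} (Wm Φ a)).obj (Nmod D))) :
    red A D a (y + y') = red A D a y + red A D a y' := by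
  unfold red
  exact map_add (redW A D a).hom y y'

lemma red_smul (a : S →+* T) (t : Wn Φ T) (y : ↑((extendScalars.{u,u,u} (Wm Φ a)).obj (Nmod D))) :
    red A D a (t • y) = A.θ T t • red A D a y := by
  unfold red
  exact map_smul (redW A D a).hom t y

/-! ### The reduced comparison maps -/

/-- the inner additive map -/
def innerAux (a₁ a₂ : S →+* T) (hc : a₁.comp (algebraMap R S) = a₂.comp (algebraMap R S)) :
    Nmod D →+ ↑((restrictScalars.{u,u,u} a₁).obj ((extendScalars.{u,u,u} a₂).obj (Mbar A D))) :=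
  AddMonoidHom.mk' (fun m => red A D a₂ (theta D a₁ a₂ hc m))
    (fun m m' => by
      change red A D a₂ (theta D a₁ a₂ hc (m + m')) = red A D a₂ (theta D a₁ a₂ hc m) +
        red A D a₂ (theta D a₁ a₂ hc m')
      rw [theta_add, red_add])

lemma innerAux_smul (a₁ a₂ : S →+* T)
    (hc : a₁.comp (algebraMap R S) = a₂.comp (algebraMap R S)) (w : Wn Φ S) (m : Nmod D) :
    innerAux A D a₁ a₂ hc (w • m) = A.θ S w • innerAux A D a₁ a₂ hc m := by
  change red A D a₂ (theta D a₁ a₂ hc (w • m)) = a₁ (A.θ S w) • red A D a₂ (theta D a₁ a₂ hc m)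
  rw [theta_smul, red_smul, A.nat]

/-- the inner map `S ⊗ M' → T ⊗ (S ⊗ M')` -/
def inner (a₁ a₂ : S →+* T) (hc : a₁.comp (algebraMap R S) = a₂.comp (algebraMap R S)) :
    Mbar A D ⟶ (restrictScalars.{u,u,u} a₁).obj ((extendScalars.{u,u,u} a₂).obj (Mbar A D)) :=
  liftSL (A.θ S) (Nmod D) _ (innerAux A D a₁ a₂ hc) (innerAux_smul A D a₁ a₂ hc)

/-- the inner map as an additive map -/
def innerAdd (a₁ a₂ : S →+* T) (hc : a₁.comp (algebraMap R S) = a₂.comp (algebraMap R S)) :
    ↑(Mbar A D) →+ ↑((extendScalars.{u,u,u} a₂).obj (Mbar A D)) :=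
  AddMonoidHom.mk' (fun x => (inner A D a₁ a₂ hc).hom x)
    (fun x y => map_add (inner A D a₁ a₂ hc).hom x y)

lemma innerAdd_smul (a₁ a₂ : S →+* T)
    (hc : a₁.comp (algebraMap R S) = a₂.comp (algebraMap R S)) (s : S) (x : ↑(Mbar A D)) :
    innerAdd A D a₁ a₂ hc (s • x) = a₁ s • innerAdd A D a₁ a₂ hc x := by
  change (inner A D a₁ a₂ hc).hom (s • x) = a₁ s • (inner A D a₁ a₂ hc).hom x
  rw [map_smul]
  rfl

/-- the reduced comparison map -/
def redHom (a₁ a₂ : S →+* T) (hc : a₁.comp (algebraMap R S) = a₂.comp (algebraMap R S)) :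
    (extendScalars.{u,u,u} a₁).obj (Mbar A D) ⟶ (extendScalars.{u,u,u} a₂).obj (Mbar A D) :=
  liftSL a₁ (Mbar A D) _ (innerAdd A D a₁ a₂ hc) (innerAdd_smul A D a₁ a₂ hc)

lemma redHom_gen (a₁ a₂ : S →+* T)
    (hc : a₁.comp (algebraMap R S) = a₂.comp (algebraMap R S)) (m : Nmod D) :
    (redHom A D a₁ a₂ hc).hom (gen A D a₁ m) = red A D a₂ (theta D a₁ a₂ hc m) := by
  unfold redHom gen
  rw [liftSL_tm, one_smul]
  change (inner A D a₁ a₂ hc).hom (tm (A.θ S) (Nmod D) 1 m) = _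
  unfold inner
  rw [liftSL_tm, one_smul]
  rfl

lemma redHom_red (a₁ a₂ : S →+* T)
    (hc : a₁.comp (algebraMap R S) = a₂.comp (algebraMap R S))
    (y : ↑((extendScalars.{u,u,u} (Wm Φ a₁)).obj (Nmod D))) :
    (redHom A D a₁ a₂ hc).hom (red A D a₁ y) = red A D a₂ ((Dhom D a₁ a₂ hc).hom y) := by
  induction y using tm_induction with
  | h₁ t m =>
    rw [red_tm, map_smul, redHom_gen, Dhom_tm, red_smul]
  | h₂ y y' hy hy' =>
    rw [red_add, map_add, hy, hy', map_add, red_add]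

lemma redHom_self (a : S →+* T) : redHom A D a a rfl = 𝟙 _ := by
  apply hom_ext_gen
  intro m
  rw [redHom_gen, theta_self, red_tm, map_one, one_smul]
  rfl

lemma redHom_comp (a₁ a₂ a₃ : S →+* T)
    (h₁₂ : a₁.comp (algebraMap R S) = a₂.comp (algebraMap R S))
    (h₂₃ : a₂.comp (algebraMap R S) = a₃.comp (algebraMap R S)) :
    redHom A D a₁ a₂ h₁₂ ≫ redHom A D a₂ a₃ h₂₃ = redHom A D a₁ a₃ (h₁₂.trans h₂₃) := by
  apply hom_ext_gen
  intro m
  rw [ModuleCat.hom_comp, LinearMap.comp_apply, redHom_gen, redHom_red, Dhom_theta, redHom_gen]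

lemma bcm_red (a : S →+* T) (g : T →+* T')
    (y : ↑((extendScalars.{u,u,u} (Wm Φ a)).obj (Nmod D))) :
    (FFDesc.bcm a g (g.comp a) (FFDesc.loc_comp a g) (Mbar A D)).hom (red A D a y) =
      red A D (g.comp a) (bcmFun Φ a g (g.comp a) (loc_comp a g) (Nmod D) y) := by
  induction y using tm_induction with
  | h₁ t m =>
    rw [red_tm, FFDesc.bcm_smul, bcmFun_tm, red_tm, A.nat]
    congr 1
    exact FFDesc.bcm_one_tmul a g (g.comp a) (FFDesc.loc_comp a g) (Mbar A D) _
  | h₂ y y' hy hy' =>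
    rw [red_add, map_add, hy, hy', bcmFun_add, red_add]
    rfl

set_option backward.isDefEq.respectTransparency false in
lemma redHom_pull (a₁ a₂ : S →+* T)
    (hc : a₁.comp (algebraMap R S) = a₂.comp (algebraMap R S)) (g : T →+* T') :
    (FFDesc.compIso a₁ g (g.comp a₁) (FFDesc.loc_comp a₁ g) (Mbar A D)).hom ≫
      (extendScalars.{u,u,u} g).map (redHom A D a₁ a₂ hc) ≫
        (FFDesc.compIso a₂ g (g.comp a₂) (FFDesc.loc_comp a₂ g) (Mbar A D)).inv =
      redHom A D (g.comp a₁) (g.comp a₂)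
        (by rw [RingHom.comp_assoc, hc, RingHom.comp_assoc]) := by
  apply hom_ext_gen
  intro m
  rw [ModuleCat.hom_comp, ModuleCat.hom_comp, LinearMap.comp_apply, LinearMap.comp_apply,
    redHom_gen, theta_nat D a₁ a₂ hc g m, ← bcm_red, FFDesc.bcm_apply, ← redHom_gen A D a₁ a₂ hc m]
  congr 1
  have h1 : (FFDesc.compIso a₁ g (g.comp a₁) (FFDesc.loc_comp a₁ g) (Mbar A D)).hom.hom
      (gen A D (g.comp a₁) m) = tm g _ 1 (gen A D a₁ m) :=
    FFDesc.compIso_hom_one_tmul a₁ g (g.comp a₁) (FFDesc.loc_comp a₁ g) (Mbar A D) _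
  rw [h1, map_tm]
  rfl

/-! ### The reduced descent datum -/

lemma hc_of {Y : CommRingCat.{u}ᵒᵖ} (q : Y ⟶ op (CommRingCat.of R))
    (f₁ f₂ : Y ⟶ op (CommRingCat.of S)) (hf₁ : f₁ ≫ FFDesc.f₀ R S = q)
    (hf₂ : f₂ ≫ FFDesc.f₀ R S = q) :
    f₁.unop.hom.comp (algebraMap R S) = f₂.unop.hom.comp (algebraMap R S) := by
  have := congrArg (fun x => x.unop.hom) (hf₁.trans hf₂.symm)
  exact this

/-- the comparison maps of the reduced descent datum -/
def DbarHom {Y : CommRingCat.{u}ᵒᵖ} (q : Y ⟶ op (CommRingCat.of R))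
    (f₁ f₂ : Y ⟶ op (CommRingCat.of S)) (hf₁ : f₁ ≫ FFDesc.f₀ R S = q)
    (hf₂ : f₂ ≫ FFDesc.f₀ R S = q) :
    (extendScalars.{u,u,u} f₁.unop.hom).obj (Mbar A D) ⟶
      (extendScalars.{u,u,u} f₂.unop.hom).obj (Mbar A D) :=
  redHom A D f₁.unop.hom f₂.unop.hom (hc_of q f₁ f₂ hf₁ hf₂)

set_option backward.isDefEq.respectTransparency false in
/-- the reduced descent datum -/
def Dbar : FFDesc.DD R S where
  obj _ := show ModuleCat.{u} S from Mbar A D
  hom Y q i₁ i₂ f₁ f₂ hf₁ hf₂ := DbarHom A D q f₁ f₂ hf₁ hf₂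
  pullHom_hom := by
    intro Y' Y g q q' hq i₁ i₂ f₁ f₂ hf₁ hf₂ gf₁ gf₂ hgf₁ hgf₂
    subst hgf₁ hgf₂
    exact redHom_pull A D f₁.unop.hom f₂.unop.hom (hc_of q f₁ f₂ hf₁ hf₂) g.unop.hom
  hom_self := by
    intro Y q i g hg
    exact redHom_self A D g.unop.hom
  hom_comp := by
    intro Y q i₁ i₂ i₃ f₁ f₂ f₃ hf₁ hf₂ hf₃
    exact redHom_comp A D f₁.unop.hom f₂.unop.hom f₃.unop.hom _ _

lemma Dbar_Dhom (a₁ a₂ : S →+* T)
    (hc : a₁.comp (algebraMap R S) = a₂.comp (algebraMap R S)) :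
    FFDesc.Dhom (Dbar A D) a₁ a₂ hc = redHom A D a₁ a₂ hc := rfl

/-! ### Effectivity of the reduced datum -/

open Groth.Agent.Helper8.FFDesc (i₁ i₂ hc₀)

set_option backward.isDefEq.respectTransparency false in
theorem exists_descent [Module.FaithfullyFlat R S] :
    ∃ (M₀ : ModuleCat.{u} R)
      (ε : (extendScalars.{u,u,u} (algebraMap R S)).obj M₀ ≅ Mbar A D),
      ∀ m₀ : M₀, (redHom A D (i₁ (R := R) (S := S)) (i₂ (R := R) (S := S)) hc₀).hom
          (tm (i₁ (R := R) (S := S)) (Mbar A D) 1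
            (ε.hom.hom (tm (algebraMap R S) M₀ 1 m₀))) =
        tm (i₂ (R := R) (S := S)) (Mbar A D) 1 (ε.hom.hom (tm (algebraMap R S) M₀ 1 m₀)) := by
  haveI := FFDesc.comparison_isEquivalence (R := R) (S := S)
  let M₀ := (Comonad.comparison (FFDesc.adj₀ R S)).objPreimage (FFDesc.coalg (Dbar A D))
  let e := (Comonad.comparison (FFDesc.adj₀ R S)).objObjPreimageIso (FFDesc.coalg (Dbar A D))
  refine ⟨M₀, (Comonad.forget _).mapIso e, ?_⟩
  intro m₀
  exact FFDesc.inv_of_hom (Dbar A D) M₀ e.hom m₀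

end Groth.Agent.Helper8.GDescR
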