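import Mathlib

/-!
# Vanishing of a non-abelian `H¹` by successive approximation

A truncated cosimplicial ring `A₀ ⇉ A₁ ⇶ A₂` with compatible finite filtrations by two-sided
ideals `J a` such that `J 0 * J a ⊆ J (a + 1)` and such that the graded pieces are exact in degree
one: every `1`-cocycle congruent to `1` modulo `J 0` is a coboundary.
-/

set_option autoImplicit false
set_option linter.unusedSectionVars false
set_option linter.unusedVariables false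

universe u

noncomputable section

namespace Groth.Agent.Helper8.NAH1

/-- a filtration by two-sided ideals -/
structure Fil (A : Type*) [Ring A] (L : ℕ) where
  /-- the ideals -/
  J : ℕ → AddSubgroup A
  anti : ∀ a, J (a + 1) ≤ J a
  mul_left : ∀ a x y, x ∈ J a → y * x ∈ J a
  mul_right : ∀ a x y, x ∈ J a → x * y ∈ J a
  mul_zero : ∀ a x y, x ∈ J 0 → y ∈ J a → x * y ∈ J (a + 1)
  zero_mul : ∀ a x y, x ∈ J 0 → y ∈ J a → y * x ∈ J (a + 1)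
  top : ∀ x, x ∈ J L → x = 0

namespace Fil

variable {A : Type*} [Ring A] {L : ℕ} (F : Fil A L)

lemma le_zero (a : ℕ) : F.J a ≤ F.J 0 := by
  induction a with
  | zero => exact le_rfl
  | succ a ih => exact (F.anti a).trans ih

lemma pow_mem {y : A} (hy : y ∈ F.J 0) (m : ℕ) : y ^ (m + 1) ∈ F.J m := by
  induction m with
  | zero => simpa using hy
  | succ m ih =>
    rw [pow_succ']
    exact F.mul_zero m y _ hy ih

lemma isNilpotent {y : A} (hy : y ∈ F.J 0) : IsNilpotent y :=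
  ⟨L + 1, F.top _ (F.pow_mem hy L)⟩

end Fil

section Main

variable {A₀ A₁ A₂ : Type*} [Ring A₀] [Ring A₁] [Ring A₂] {L : ℕ}
  (F₀ : Fil A₀ L) (F₁ : Fil A₁ L) (F₂ : Fil A₂ L)
  (d₁ d₂ : A₀ →+* A₁) (d₁₂ d₁₃ d₂₃ : A₁ →+* A₂)
  (h11 : ∀ x, d₁₂ (d₁ x) = d₁₃ (d₁ x)) (h22 : ∀ x, d₁₂ (d₂ x) = d₂₃ (d₁ x))
  (h33 : ∀ x, d₁₃ (d₂ x) = d₂₃ (d₂ x))
  (hd₁ : ∀ a x, x ∈ F₀.J a → d₁ x ∈ F₁.J a) (hd₂ : ∀ a x, x ∈ F₀.J a → d₂ x ∈ F₁.J a)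
  (hd₁₂ : ∀ a x, x ∈ F₁.J a → d₁₂ x ∈ F₂.J a) (hd₁₃ : ∀ a x, x ∈ F₁.J a → d₁₃ x ∈ F₂.J a)
  (hd₂₃ : ∀ a x, x ∈ F₁.J a → d₂₃ x ∈ F₂.J a)
  (GE : ∀ a, a < L → ∀ x, x ∈ F₁.J a → d₂₃ x - d₁₃ x + d₁₂ x ∈ F₂.J (a + 1) →
    ∃ y, y ∈ F₀.J 0 ∧ x - (d₂ y - d₁ y) ∈ F₁.J (a + 1))

include h11 h22 h33 hd₁ hd₂ hd₁₂ hd₁₃ hd₂₃ GE in
theorem aux : ∀ (d a : ℕ), a + d = L → ∀ ψ : A₁, ψ - 1 ∈ F₁.J a →
    d₁₃ ψ = d₂₃ ψ * d₁₂ ψ → ∃ g : A₀, g - 1 ∈ F₀.J 0 ∧ ψ * d₁ g = d₂ g := by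
  intro d
  induction d with
  | zero =>
    intro a ha ψ hψ _
    have : a = L := by omega
    subst this
    have h1 : ψ = 1 := sub_eq_zero.mp (F₁.top _ hψ)
    refine ⟨1, by simp, ?_⟩
    rw [h1, map_one, map_one, mul_one]
  | succ d ih =>
    intro a ha ψ hψ hc
    have haL : a < L := by omega
    set x : A₁ := ψ - 1 with hx
    have hψx : ψ = 1 + x := by rw [hx]; abel
    -- the defect of additivity
    have hdef : d₂₃ x - d₁₃ x + d₁₂ x = -(d₂₃ x * d₁₂ x) := by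
      have h := hc
      rw [hψx] at h
      simp only [map_add, map_one] at h
      have : d₁₃ x = d₂₃ x + d₁₂ x + d₂₃ x * d₁₂ x := by
        have h' : (1 : A₂) + d₁₃ x = 1 + (d₂₃ x + d₁₂ x + d₂₃ x * d₁₂ x) := by
          rw [h]; noncomm_ring
        exact add_left_cancel h'
      rw [this]
      abel
    have hmem : d₂₃ x - d₁₃ x + d₁₂ x ∈ F₂.J (a + 1) := by
      rw [hdef]
      apply AddSubgroup.neg_mem
      exact F₂.mul_zero a _ _ (F₂.le_zero a (hd₂₃ a x hψ)) (hd₁₂ a x hψ)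
    obtain ⟨y, hy0, hxy⟩ := GE a haL x hψ hmem
    have hnil : IsNilpotent y := F₀.isNilpotent hy0
    obtain ⟨g₁, hg₁⟩ := hnil.isUnit_one_add
    -- `g₁ = 1 + y`, a unit of `A₀`
    set u : A₀ := ↑g₁⁻¹ with hu
    have hgu : (1 + y) * u = 1 := by rw [← hg₁]; exact Units.mul_inv g₁
    have hug : u * (1 + y) = 1 := by rw [← hg₁]; exact Units.inv_mul g₁
    set ψ' : A₁ := d₂ u * ψ * d₁ (1 + y) with hψ'
    have h2ug : d₂ u * d₂ (1 + y) = 1 := by rw [← map_mul, hug, map_one]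
    have h2gu : d₂ (1 + y) * d₂ u = 1 := by rw [← map_mul, hgu, map_one]
    have hψ'1 : ψ' - 1 ∈ F₁.J (a + 1) := by
      have e : ψ' - 1 = d₂ u * ((x - (d₂ y - d₁ y)) + x * d₁ y) := by
        have : ψ' - 1 = d₂ u * (ψ * d₁ (1 + y) - d₂ (1 + y)) := by
          rw [mul_sub, ← mul_assoc, h2ug]
        rw [this, hψx]
        simp only [map_add, map_one]
        congr 1
        noncomm_ring
      rw [e]
      apply F₁.mul_left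
      apply AddSubgroup.add_mem _ hxy
      exact F₁.zero_mul a _ _ (hd₁ 0 y hy0) hψ
    have hc' : d₁₃ ψ' = d₂₃ ψ' * d₁₂ ψ' := by
      rw [hψ']
      simp only [map_mul]
      rw [hc, h33 u, ← h11 (1 + y)]
      have hmid : d₂₃ (d₁ (1 + y)) * d₁₂ (d₂ u) = 1 := by
        rw [h22 u, ← map_mul, ← map_mul, hgu, map_one, map_one]
      calc d₂₃ (d₂ u) * (d₂₃ ψ * d₁₂ ψ) * d₁₂ (d₁ (1 + y))
          = d₂₃ (d₂ u) * d₂₃ ψ * 1 * d₁₂ ψ * d₁₂ (d₁ (1 + y)) := by noncomm_ring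
        _ = d₂₃ (d₂ u) * d₂₃ ψ * (d₂₃ (d₁ (1 + y)) * d₁₂ (d₂ u)) * d₁₂ ψ * d₁₂ (d₁ (1 + y)) := by
            rw [hmid]
        _ = d₂₃ (d₂ u) * d₂₃ ψ * d₂₃ (d₁ (1 + y)) * (d₁₂ (d₂ u) * d₁₂ ψ * d₁₂ (d₁ (1 + y))) := by
            noncomm_ring
    obtain ⟨g₂, hg₂, hg₂'⟩ := ih (a + 1) (by omega) ψ' hψ'1 hc'
    refine ⟨(1 + y) * g₂, ?_, ?_⟩
    · have e : (1 + y) * g₂ - 1 = y + (g₂ - 1) + y * (g₂ - 1) := by noncomm_ring
      rw [e]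
      apply AddSubgroup.add_mem _ (AddSubgroup.add_mem _ hy0 hg₂)
      exact F₀.mul_right 0 _ _ hy0
    · rw [map_mul, map_mul, ← hg₂', hψ']
      calc ψ * (d₁ (1 + y) * d₁ g₂) = 1 * ψ * d₁ (1 + y) * d₁ g₂ := by noncomm_ring
        _ = d₂ (1 + y) * d₂ u * ψ * d₁ (1 + y) * d₁ g₂ := by rw [h2gu]
        _ = d₂ (1 + y) * (d₂ u * ψ * d₁ (1 + y) * d₁ g₂) := by noncomm_ring

include h11 h22 h33 hd₁ hd₂ hd₁₂ hd₁₃ hd₂₃ GE in
/-- every cocycle congruent to `1` is a coboundary -/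
theorem main (ψ : A₁) (hψ : ψ - 1 ∈ F₁.J 0) (hc : d₁₃ ψ = d₂₃ ψ * d₁₂ ψ) :
    ∃ g : A₀, g - 1 ∈ F₀.J 0 ∧ ψ * d₁ g = d₂ g :=
  aux F₀ F₁ F₂ d₁ d₂ d₁₂ d₁₃ d₂₃ h11 h22 h33 hd₁ hd₂ hd₁₂ hd₁₃ hd₂₃ GE L 0 (by omega) ψ hψ hc

end Main

end Groth.Agent.Helper8.NAH1
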