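import Mathlib
import Groth.Agent.Helper8.NAH1

/-!
# Non-abelian `H¹` for matrices with an idempotent

Matrix form of `NAH1.main`, for cocycles living in the corner cut out by an idempotent matrix
defined over the base.
-/

set_option autoImplicit false
set_option linter.unusedSectionVars false
set_option linter.unusedVariables false

universe u

noncomputable section

namespace Groth.Agent.Helper8.NAH2

open Groth.Agent.Helper8.NAH1 Matrix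

/-! ### corner inverses -/

lemma corner_inv {B : Type*} [Ring B] (e z : B) (he : e * e = e) (hez : e * z = z)
    (hze : z * e = z) (hz : IsNilpotent z) :
    ∃ g' : B, e * g' = g' ∧ g' * e = g' ∧ (e + z) * g' = e ∧ g' * (e + z) = e := by
  obtain ⟨w, hw⟩ := hz.isUnit_one_add
  set u : B := ↑w⁻¹ with hu
  have hgu : (1 + z) * u = 1 := by rw [← hw]; exact Units.mul_inv w
  have hug : u * (1 + z) = 1 := by rw [← hw]; exact Units.inv_mul w
  have hcomm : (1 + z) * e = e * (1 + z) := by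
    rw [add_mul, mul_add, one_mul, mul_one, hez, hze]
  have hue : u * e = e * u := by
    calc u * e = u * e * ((1 + z) * u) := by rw [hgu, mul_one]
      _ = u * (e * (1 + z)) * u := by noncomm_ring
      _ = u * ((1 + z) * e) * u := by rw [hcomm]
      _ = (u * (1 + z)) * e * u := by noncomm_ring
      _ = e * u := by rw [hug, one_mul]
  have h1 : e + z = e * (1 + z) := by rw [mul_add, mul_one, hez]
  refine ⟨e * u, ?_, ?_, ?_, ?_⟩
  · rw [← mul_assoc, he]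
  · rw [mul_assoc, hue, ← mul_assoc, he]
  · rw [h1]
    calc e * (1 + z) * (e * u) = e * ((1 + z) * e) * u := by noncomm_ring
      _ = e * (e * (1 + z)) * u := by rw [hcomm]
      _ = (e * e) * ((1 + z) * u) := by noncomm_ring
      _ = e := by rw [he, hgu, mul_one]
  · rw [h1]
    calc e * u * (e * (1 + z)) = e * (u * e) * (1 + z) := by noncomm_ring
      _ = e * (e * u) * (1 + z) := by rw [hue]
      _ = (e * e) * (u * (1 + z)) := by noncomm_ring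
      _ = e := by rw [he, hug, mul_one]

/-! ### filtrations of matrix rings -/

/-- a finite filtration of a commutative ring by ideals -/
structure IFil (Λ : Type u) [CommRing Λ] (L : ℕ) where
  /-- the ideals -/
  I : ℕ → Ideal Λ
  anti : ∀ a, I (a + 1) ≤ I a
  mul : ∀ a x y, x ∈ I 0 → y ∈ I a → x * y ∈ I (a + 1)
  top : I L = ⊥

variable {h : ℕ}

/-- the induced filtration of the matrix ring -/
def matFil {Λ : Type u} [CommRing Λ] {L : ℕ} (F : IFil Λ L) :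
    Fil (Matrix (Fin h) (Fin h) Λ) L where
  J a :=
    { carrier := {X | ∀ i j, X i j ∈ F.I a}
      add_mem' := fun {X Y} hX hY i j => by
        rw [Matrix.add_apply]; exact (F.I a).add_mem (hX i j) (hY i j)
      zero_mem' := fun i j => by rw [Matrix.zero_apply]; exact (F.I a).zero_mem
      neg_mem' := fun {X} hX i j => by rw [Matrix.neg_apply]; exact (F.I a).neg_mem (hX i j) }
  anti a X hX i j := F.anti a (hX i j)
  mul_left a X Y hX i j := by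
    rw [Matrix.mul_apply]
    exact (F.I a).sum_mem fun l _ => (F.I a).mul_mem_left _ (hX l j)
  mul_right a X Y hX i j := by
    rw [Matrix.mul_apply]
    exact (F.I a).sum_mem fun l _ => (F.I a).mul_mem_right _ (hX i l)
  mul_zero a X Y hX hY i j := by
    rw [Matrix.mul_apply]
    exact (F.I (a + 1)).sum_mem fun l _ => F.mul a _ _ (hX i l) (hY l j)
  zero_mul a X Y hX hY i j := by
    rw [Matrix.mul_apply]
    exact (F.I (a + 1)).sum_mem fun l _ => by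
      rw [mul_comm]; exact F.mul a _ _ (hX l j) (hY i l)
  top X hX := by
    ext i j
    have := hX i j
    rw [F.top] at this
    simpa using this

lemma mem_matFil {Λ : Type u} [CommRing Λ] {L : ℕ} (F : IFil Λ L) (a : ℕ)
    (X : Matrix (Fin h) (Fin h) Λ) : X ∈ (matFil (h := h) F).J a ↔ ∀ i j, X i j ∈ F.I a :=
  Iff.rfl

section Main

variable {Λ₀ Λ₁ Λ₂ : Type u} [CommRing Λ₀] [CommRing Λ₁] [CommRing Λ₂] {L : ℕ}
  (F₀ : IFil Λ₀ L) (F₁ : IFil Λ₁ L) (F₂ : IFil Λ₂ L)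
  (d₁ d₂ : Λ₀ →+* Λ₁) (d₁₂ d₁₃ d₂₃ : Λ₁ →+* Λ₂)
  (h11 : ∀ x, d₁₂ (d₁ x) = d₁₃ (d₁ x)) (h22 : ∀ x, d₁₂ (d₂ x) = d₂₃ (d₁ x))
  (h33 : ∀ x, d₁₃ (d₂ x) = d₂₃ (d₂ x))
  (hd₁ : ∀ a x, x ∈ F₀.I a → d₁ x ∈ F₁.I a) (hd₂ : ∀ a x, x ∈ F₀.I a → d₂ x ∈ F₁.I a)
  (hd₁₂ : ∀ a x, x ∈ F₁.I a → d₁₂ x ∈ F₂.I a) (hd₁₃ : ∀ a x, x ∈ F₁.I a → d₁₃ x ∈ F₂.I a)
  (hd₂₃ : ∀ a x, x ∈ F₁.I a → d₂₃ x ∈ F₂.I a)
  (GE : ∀ a, a < L → ∀ x, x ∈ F₁.I a → d₂₃ x - d₁₃ x + d₁₂ x ∈ F₂.I (a + 1) →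
    ∃ y, y ∈ F₀.I 0 ∧ x - (d₂ y - d₁ y) ∈ F₁.I (a + 1))

include h11 h22 h33 hd₁ hd₂ hd₁₂ hd₁₃ hd₂₃ GE in
/-- the unital matrix version -/
theorem mat_main (ψ : Matrix (Fin h) (Fin h) Λ₁) (hψ : ∀ i j, (ψ - 1) i j ∈ F₁.I 0)
    (hc : ψ.map d₁₃ = ψ.map d₂₃ * ψ.map d₁₂) :
    ∃ g : Matrix (Fin h) (Fin h) Λ₀, (∀ i j, (g - 1) i j ∈ F₀.I 0) ∧ ψ * g.map d₁ = g.map d₂ := by
  have key := NAH1.main (matFil (h := h) F₀) (matFil (h := h) F₁) (matFil (h := h) F₂)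
    (RingHom.mapMatrix d₁) (RingHom.mapMatrix d₂) (RingHom.mapMatrix d₁₂)
    (RingHom.mapMatrix d₁₃) (RingHom.mapMatrix d₂₃)
    (fun X => by ext i j; simp [h11]) (fun X => by ext i j; simp [h22])
    (fun X => by ext i j; simp [h33])
    (fun a X hX i j => by simpa using hd₁ a _ (hX i j))
    (fun a X hX i j => by simpa using hd₂ a _ (hX i j))
    (fun a X hX i j => by simpa using hd₁₂ a _ (hX i j))
    (fun a X hX i j => by simpa using hd₁₃ a _ (hX i j))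
    (fun a X hX i j => by simpa using hd₂₃ a _ (hX i j))
    (by
      intro a ha X hX hdef
      have hex : ∀ i j, ∃ y, y ∈ F₀.I 0 ∧ X i j - (d₂ y - d₁ y) ∈ F₁.I (a + 1) := by
        intro i j
        apply GE a ha (X i j) (hX i j)
        have := hdef i j
        simpa using this
      choose Y hY hY' using hex
      refine ⟨Matrix.of Y, fun i j => hY i j, fun i j => ?_⟩
      simpa using hY' i j)
    ψ hψ (by simpa using hc)
  obtain ⟨g, hg, hg'⟩ := key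
  exact ⟨g, hg, by simpa using hg'⟩

include h11 h22 h33 hd₁ hd₂ hd₁₂ hd₁₃ hd₂₃ GE in
/-- the corner version: cocycles in the corner of an idempotent defined over the base -/
theorem corner_main (e : Matrix (Fin h) (Fin h) Λ₀) (he : e * e = e)
    (he12 : e.map d₁ = e.map d₂)
    (ψ : Matrix (Fin h) (Fin h) Λ₁) (hψ₁ : e.map d₁ * ψ = ψ) (hψ₂ : ψ * e.map d₁ = ψ)
    (hψ : ∀ i j, (ψ - e.map d₁) i j ∈ F₁.I 0)
    (hc : ψ.map d₁₃ = ψ.map d₂₃ * ψ.map d₁₂) :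
    ∃ g g' : Matrix (Fin h) (Fin h) Λ₀, e * g = g ∧ g * e = g ∧ e * g' = g' ∧ g' * e = g' ∧
      g * g' = e ∧ g' * g = e ∧ (∀ i j, (g - e) i j ∈ F₀.I 0) ∧ ψ * g.map d₁ = g.map d₂ := by
  obtain ⟨e₁, he₁⟩ : ∃ e₁ : Matrix (Fin h) (Fin h) Λ₁, e₁ = e.map d₁ := ⟨_, rfl⟩
  rw [← he₁] at hψ₁ hψ₂ hψ
  have he₁' : e₁ = e.map d₂ := he₁.trans he12
  have he₁e₁ : e₁ * e₁ = e₁ := by
    rw [he₁, ← Matrix.map_mul, he]
  -- the three images of `e₁` agree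
  have e12 : e₁.map d₁₂ = e₁.map d₁₃ := by
    ext i j; simp [he₁, h11]
  have e23 : e₁.map d₂₃ = e₁.map d₁₂ := by
    ext i j
    rw [Matrix.map_apply, Matrix.map_apply]
    conv_lhs => rw [he₁]
    conv_rhs => rw [he₁']
    rw [Matrix.map_apply, Matrix.map_apply, h22]
  obtain ⟨e₂, he₂⟩ : ∃ e₂ : Matrix (Fin h) (Fin h) Λ₂, e₂ = e₁.map d₁₂ := ⟨_, rfl⟩
  have he₂e₂ : e₂ * e₂ = e₂ := by
    rw [he₂, ← Matrix.map_mul, he₁e₁]
  -- the unital cocycle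
  obtain ⟨ψ', hψ'⟩ : ∃ ψ' : Matrix (Fin h) (Fin h) Λ₁, ψ' = ψ + (1 - e₁) := ⟨_, rfl⟩
  have hψ'1 : ∀ i j, (ψ' - 1) i j ∈ F₁.I 0 := by
    intro i j
    have : ψ' - 1 = ψ - e₁ := by rw [hψ']; abel
    rw [this]
    exact hψ i j
  have m12 : ψ'.map d₁₂ = ψ.map d₁₂ + (1 - e₂) := by
    rw [hψ', Matrix.map_add _ (map_add d₁₂), Matrix.map_sub _ (map_sub d₁₂),
      Matrix.map_one _ (map_zero d₁₂) (map_one d₁₂), he₂]
  have m13 : ψ'.map d₁₃ = ψ.map d₁₃ + (1 - e₂) := by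
    rw [hψ', Matrix.map_add _ (map_add d₁₃), Matrix.map_sub _ (map_sub d₁₃),
      Matrix.map_one _ (map_zero d₁₃) (map_one d₁₃), ← e12, he₂]
  have m23 : ψ'.map d₂₃ = ψ.map d₂₃ + (1 - e₂) := by
    rw [hψ', Matrix.map_add _ (map_add d₂₃), Matrix.map_sub _ (map_sub d₂₃),
      Matrix.map_one _ (map_zero d₂₃) (map_one d₂₃), e23, he₂]
  have k1 : ψ.map d₂₃ * e₂ = ψ.map d₂₃ := by
    rw [he₂, ← e23, ← Matrix.map_mul, hψ₂]
  have k2 : e₂ * ψ.map d₁₂ = ψ.map d₁₂ := by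
    rw [he₂, ← Matrix.map_mul, hψ₁]
  have hc' : ψ'.map d₁₃ = ψ'.map d₂₃ * ψ'.map d₁₂ := by
    rw [m12, m13, m23, hc]
    have : (ψ.map d₂₃ + (1 - e₂)) * (ψ.map d₁₂ + (1 - e₂)) =
        ψ.map d₂₃ * ψ.map d₁₂ + (ψ.map d₂₃ - ψ.map d₂₃ * e₂) + (ψ.map d₁₂ - e₂ * ψ.map d₁₂) +
          (1 - e₂ - e₂ + e₂ * e₂) := by noncomm_ring
    rw [this, k1, k2, he₂e₂]
    abel
  obtain ⟨g₀, hg₀, hg₀'⟩ := mat_main F₀ F₁ F₂ d₁ d₂ d₁₂ d₁₃ d₂₃ h11 h22 h33 hd₁ hd₂ hd₁₂ hd₁₃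
    hd₂₃ GE ψ' hψ'1 hc'
  obtain ⟨z, hz⟩ : ∃ z : Matrix (Fin h) (Fin h) Λ₀, z = e * (g₀ - 1) * e := ⟨_, rfl⟩
  have hzmem : z ∈ (matFil (h := h) F₀).J 0 := by
    rw [hz]
    exact (matFil F₀).mul_right 0 _ _ ((matFil F₀).mul_left 0 _ _ hg₀)
  have hez : e * z = z := by rw [hz, ← mul_assoc, ← mul_assoc, he]
  have hze : z * e = z := by rw [hz, mul_assoc, he]
  obtain ⟨g', hg'1, hg'2, hg'3, hg'4⟩ :=
    corner_inv e z he hez hze ((matFil F₀).isNilpotent hzmem)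
  have hg : e + z = e * g₀ * e := by
    rw [hz]
    have : e * (g₀ - 1) * e = e * g₀ * e - e * e := by noncomm_ring
    rw [this, he]
    abel
  refine ⟨e + z, g', ?_, ?_, hg'1, hg'2, hg'3, hg'4, ?_, ?_⟩
  · rw [mul_add, he, hez]
  · rw [add_mul, he, hze]
  · intro i j
    have : e + z - e = z := by abel
    rw [this]
    exact hzmem i j
  · rw [hg, Matrix.map_mul, Matrix.map_mul, Matrix.map_mul, Matrix.map_mul, ← he₁', ← he₁]
    have hψe : ψ = e₁ * ψ' := by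
      rw [hψ', mul_add, mul_sub, mul_one, he₁e₁, hψ₁]
      abel
    calc ψ * (e₁ * g₀.map d₁ * e₁) = (ψ * e₁) * g₀.map d₁ * e₁ := by noncomm_ring
      _ = ψ * g₀.map d₁ * e₁ := by rw [hψ₂]
      _ = e₁ * (ψ' * g₀.map d₁) * e₁ := by rw [hψe]; noncomm_ring
      _ = e₁ * g₀.map d₂ * e₁ := by rw [hg₀']

end Main

end Groth.Agent.Helper8.NAH2
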