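import Mathlib
import Groth.Agent.Helper8.PresMat
import Groth.Agent.Helper8.NAH2

/-!
# Lifting presentations of projective modules through nilpotent thickenings

Let `π : A → Ā` be a surjection of rings whose kernel is nilpotent (in the matrix sense), `P` a
finitely generated projective `A`-module and `e` an idempotent matrix over `A`.  Every
presentation of `Ā ⊗ P` by the image of `e` lifts to a presentation of `P` by `e`.
-/

set_option autoImplicit false
set_option linter.unusedSectionVars false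
set_option linter.unusedVariables false

universe u v

open CategoryTheory Matrix

noncomputable section

namespace Groth.Agent.Helper8.LiftPres

open Groth.Agent.Helper8.PresMat Groth.Agent.Helper8.GDesc ModuleCat ChangeOfRings

section Fam

variable {A : Type u} [CommRing A] {M : Type v} [AddCommGroup M] [Module A M] {r h k : ℕ}

/-- the family `u · X` -/
def fam (u : Fin r → M) (X : Matrix (Fin r) (Fin h) A) : Fin h → M := fun j => ∑ i, X i j • u i

lemma fam_apply (u : Fin r → M) (X : Matrix (Fin r) (Fin h) A) (j : Fin h) :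
    fam u X j = comb u (fun i => X i j) := by
  rw [comb_apply]
  rfl

lemma comb_fam (u : Fin r → M) (X : Matrix (Fin r) (Fin h) A) (v : Fin h → A) :
    comb (fam u X) v = comb u (X *ᵥ v) := by
  rw [comb_apply, comb_apply]
  simp only [fam, Matrix.mulVec, dotProduct, Finset.sum_smul, Finset.smul_sum]
  rw [Finset.sum_comm]
  refine Finset.sum_congr rfl fun i _ => Finset.sum_congr rfl fun j _ => ?_
  rw [smul_smul, mul_comm]

lemma fam_fam (u : Fin r → M) (X : Matrix (Fin r) (Fin h) A) (Y : Matrix (Fin h) (Fin k) A) :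
    fam (fam u X) Y = fam u (X * Y) := by
  funext l
  rw [fam_apply, comb_fam, fam_apply]
  congr 1

lemma fam_self {e : Matrix (Fin h) (Fin h) A} {m : Fin h → M} (P : Pres e m) : fam m e = m := by
  funext k
  exact P.rel k

lemma fam_unique {ε : Matrix (Fin r) (Fin r) A} {u : Fin r → M} (P : Pres ε u)
    (X Y : Matrix (Fin r) (Fin h) A) (hX : ε * X = X) (hY : ε * Y = Y)
    (hXY : fam u X = fam u Y) : X = Y := by
  ext i j
  have key := P.coord_unique (fun i => X i j) (fun i => Y i j) ?_ ?_ ?_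
  · exact congrFun key i
  · funext i
    have := congrFun (congrFun hX i) j
    rw [Matrix.mul_apply] at this
    simpa [Matrix.mulVec, dotProduct] using this
  · funext i
    have := congrFun (congrFun hY i) j
    rw [Matrix.mul_apply] at this
    simpa [Matrix.mulVec, dotProduct] using this
  · rw [← fam_apply, ← fam_apply, hXY]

lemma exists_fam {ε : Matrix (Fin r) (Fin r) A} {u : Fin r → M} (P : Pres ε u)
    (m : Fin h → M) : ∃ X : Matrix (Fin r) (Fin h) A, ε * X = X ∧ fam u X = m := by
  refine ⟨Matrix.of (fun i j => P.sigma (m j) i), ?_, ?_⟩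
  · ext i j
    rw [Matrix.mul_apply]
    have := congrFun (P.mulVec_sigma (m j)) i
    simpa [Matrix.mulVec, dotProduct] using this
  · funext j
    rw [fam_apply]
    exact P.comb_sigma (m j)

lemma fam_mem_span (u : Fin r → M) (X : Matrix (Fin r) (Fin h) A) (j : Fin h) :
    fam u X j ∈ Submodule.span A (Set.range u) :=
  Submodule.sum_mem _ fun i _ => Submodule.smul_mem _ _ (Submodule.subset_span ⟨i, rfl⟩)

end Fam

section Lift

variable {A Ā : Type u} [CommRing A] [CommRing Ā] (π : A →+* Ā)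

lemma tm_sum_smul {ι : Type*} (N : ModuleCat.{u} A) (s : Finset ι) (c : ι → A) (x : ι → N) :
    tm π N 1 (∑ i ∈ s, c i • x i) = ∑ i ∈ s, π (c i) • tm π N 1 (x i) := by
  classical
  induction s using Finset.induction_on with
  | empty =>
    simp only [Finset.sum_empty]
    exact TensorProduct.tmul_zero (R := A) (M := Sg π) N (toSg π 1)
  | insert a s ha ih =>
    rw [Finset.sum_insert ha, Finset.sum_insert ha, tm_add_right, ih, tm_one_smul_right]

lemma tm_fam {r h : ℕ} (N : ModuleCat.{u} A) (u : Fin r → N) (X : Matrix (Fin r) (Fin h) A) :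
    (fun j => tm π N 1 (fam u X j)) = fam (fun i => tm π N 1 (u i)) (X.map π) := by
  funext j
  unfold fam
  rw [tm_sum_smul]
  rfl

lemma tm_surjective (hπ : Function.Surjective π) (N : ModuleCat.{u} A)
    (y : ↑((extendScalars.{u,u,u} π).obj N)) : ∃ x : N, tm π N 1 x = y := by
  induction y using tm_induction with
  | h₁ s x =>
    obtain ⟨a, rfl⟩ := hπ s
    refine ⟨a • x, ?_⟩
    rw [tm_smul_right, mul_one]
  | h₂ y y' hy hy' =>
    obtain ⟨x, rfl⟩ := hy
    obtain ⟨x', rfl⟩ := hy'
    exact ⟨x + x', tm_add_right _ _ _ _ _⟩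

theorem lift_pres (hπ : Function.Surjective π)
    (hnil : ∀ (k : ℕ) (Z : Matrix (Fin k) (Fin k) A), Z.map π = 0 → IsNilpotent Z)
    (P : ModuleCat.{u} A) [Module.Finite A P] [Module.Projective A P]
    {h : ℕ} (e : Matrix (Fin h) (Fin h) A) (he : e * e = e)
    (xb : Fin h → ↑((extendScalars.{u,u,u} π).obj P)) (Px : Pres (e.map π) xb) :
    ∃ m : Fin h → P, Pres e m ∧ ∀ j, tm π P 1 (m j) = xb j := by
  obtain ⟨r, ε, u, Pu⟩ := exists_pres (A := A) P
  have hε := Pu.idem
  have Pub := pres_extend π P Pu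
  have hεb : ε.map π * ε.map π = ε.map π := Pub.idem
  have heb : e.map π * e.map π = e.map π := Px.idem
  -- lift the generators
  choose m0 hm0 using fun j => tm_surjective π hπ P (xb j)
  obtain ⟨m, hm⟩ : ∃ m : Fin h → P, m = fam m0 e := ⟨_, rfl⟩
  have hme : fam m e = m := by rw [hm, fam_fam, he]
  have hmx : (fun j => tm π P 1 (m j)) = xb := by
    rw [hm, tm_fam]
    have : (fun i => tm π P 1 (m0 i)) = xb := funext hm0
    rw [this]
    exact fam_self Px
  -- the transition matrices
  obtain ⟨a0, ha0, ha0'⟩ := exists_fam Pu m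
  obtain ⟨a, ha⟩ : ∃ a : Matrix (Fin r) (Fin h) A, a = a0 * e := ⟨_, rfl⟩
  have hεa : ε * a = a := by rw [ha, ← Matrix.mul_assoc, ha0]
  have hae : a * e = a := by rw [ha, Matrix.mul_assoc, he]
  have hua : fam u a = m := by rw [ha, ← fam_fam, ha0', hme]
  obtain ⟨bb0, hbb0, hbb0'⟩ := exists_fam Px (fun i => tm π P 1 (u i))
  obtain ⟨bb, hbb⟩ : ∃ bb : Matrix (Fin h) (Fin r) Ā, bb = bb0 * ε.map π := ⟨_, rfl⟩
  have hebb : e.map π * bb = bb := by rw [hbb, ← Matrix.mul_assoc, hbb0]
  have hbbε : bb * ε.map π = bb := by rw [hbb, Matrix.mul_assoc, hεb]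
  have hxbb : fam xb bb = fun i => tm π P 1 (u i) := by
    rw [hbb, ← fam_fam, hbb0']
    exact fam_self Pub
  have hubar : fam (fun i => tm π P 1 (u i)) (a.map π) = xb := by
    rw [← tm_fam, hua, hmx]
  have hab : a.map π * bb = ε.map π := by
    apply fam_unique Pub
    · rw [← Matrix.mul_assoc, ← Matrix.map_mul, hεa]
    · exact hεb
    · rw [← fam_fam, hubar, hxbb]
      exact (fam_self Pub).symm
  have hba : bb * a.map π = e.map π := by
    apply fam_unique Px
    · rw [← Matrix.mul_assoc, hebb]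
    · exact heb
    · rw [← fam_fam, hxbb, hubar]
      exact (fam_self Px).symm
  -- lift `bb`
  choose b0 hb0 using fun j i => hπ (bb j i)
  obtain ⟨b, hb⟩ : ∃ b : Matrix (Fin h) (Fin r) A, b = e * Matrix.of b0 * ε := ⟨_, rfl⟩
  have hb0' : (Matrix.of b0).map π = bb := by
    ext j i
    exact hb0 j i
  have hbmap : b.map π = bb := by
    rw [hb, Matrix.map_mul, Matrix.map_mul, hb0', hebb, hbbε]
  have heb' : e * b = b := by rw [hb, ← Matrix.mul_assoc, ← Matrix.mul_assoc, he]
  have hbε : b * ε = b := by rw [hb, Matrix.mul_assoc, hε]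
  -- corner inverses
  obtain ⟨z, hz⟩ : ∃ z : Matrix (Fin r) (Fin r) A, z = a * b - ε := ⟨_, rfl⟩
  have hzmap : z.map π = 0 := by
    rw [hz, Matrix.map_sub (f := π) (map_sub π), Matrix.map_mul, hbmap, hab, sub_self]
  have hεz : ε * z = z := by
    rw [hz, Matrix.mul_sub, ← Matrix.mul_assoc, hεa, hε]
  have hzε : z * ε = z := by
    rw [hz, Matrix.sub_mul, Matrix.mul_assoc, hbε, hε]
  obtain ⟨c, hc1, hc2, hc3, hc4⟩ := NAH2.corner_inv ε z hε hεz hzε (hnil r z hzmap)
  have hεz' : ε + z = a * b := by rw [hz]; abel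
  rw [hεz'] at hc3 hc4
  obtain ⟨z', hz'⟩ : ∃ z' : Matrix (Fin h) (Fin h) A, z' = b * a - e := ⟨_, rfl⟩
  have hz'map : z'.map π = 0 := by
    rw [hz', Matrix.map_sub (f := π) (map_sub π), Matrix.map_mul, hbmap, hba, sub_self]
  have hez' : e * z' = z' := by
    rw [hz', Matrix.mul_sub, ← Matrix.mul_assoc, heb', he]
  have hz'e : z' * e = z' := by
    rw [hz', Matrix.sub_mul, Matrix.mul_assoc, hae, he]
  obtain ⟨c', hc'1, hc'2, hc'3, hc'4⟩ := NAH2.corner_inv e z' he hez' hz'e (hnil h z' hz'map)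
  have hez'' : e + z' = b * a := by rw [hz']; abel
  rw [hez''] at hc'3 hc'4
  refine ⟨m, ⟨he, fun k => congrFun hme k, ?_, ?_⟩, fun j => congrFun hmx j⟩
  · intro v hv
    rw [← comb_apply, ← hua, comb_fam] at hv
    have h1 : ε *ᵥ (a *ᵥ v) = 0 := Pu.ker _ (by rw [← comb_apply]; exact hv)
    rw [Matrix.mulVec_mulVec, hεa] at h1
    have h2 : (c' * b) *ᵥ (a *ᵥ v) = 0 := by rw [h1, Matrix.mulVec_zero]
    rwa [Matrix.mulVec_mulVec, Matrix.mul_assoc, hc'4] at h2
  · rw [eq_top_iff, ← Pu.span, Submodule.span_le]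
    rintro _ ⟨i, rfl⟩
    have h1 : u = fam m (b * c) := by
      rw [← hua, fam_fam, ← Matrix.mul_assoc, hc3]
      exact (fam_self Pu).symm
    rw [h1]
    exact fam_mem_span m (b * c) i

end Lift

end Groth.Agent.Helper8.LiftPres
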