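import Mathlib
import Groth.Agent.Helper8.GDescR
import Groth.Agent.Helper8.LiftPres
import Groth.Agent.Helper8.ExtScBridge

/-!
# Effectivity of descent for finite projective modules over a filtered ring-valued functor

Let `Φ` be a ring-valued functor with a natural surjective augmentation `Φ(T) → T` whose kernel
carries a finite filtration with additive graded pieces satisfying Amitsur exactness along a
faithfully flat map `R → S`.  Then descent data of finite projective `Φ(S)`-modules relative to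
`R → S` are effective.
-/

set_option autoImplicit false
set_option linter.unusedSectionVars false
set_option linter.unusedVariables false

universe u v

open CategoryTheory Opposite TensorProduct Matrix

noncomputable section

namespace Groth.Agent.Helper8.GEff

open ModuleCat ChangeOfRings Groth.Agent.Helper8.GDesc Groth.Agent.Helper8.PresMat
  Groth.Agent.Helper8.LiftPres Groth.Agent.Helper8.GDescR

open Groth.Agent.Helper8.FFDesc (i₁ i₂ hc₀ j₁ j₂ j₃ incR g₁₂ g₁₃ g₁₂_comp_i₁ g₁₂_comp_i₂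
  g₁₃_comp_i₁ g₁₃_comp_i₂ hc₁₂ hc₂₃)

/-! ### Generalities -/

theorem pres_map_equiv {A : Type u} [CommRing A] {h : ℕ} {e : Matrix (Fin h) (Fin h) A}
    {M N : Type v} [AddCommGroup M] [Module A M] [AddCommGroup N] [Module A N]
    {m : Fin h → M} (P : Pres e m) (φ : M ≃ₗ[A] N) : Pres e (fun k => φ (m k)) := by
  refine ⟨P.idem, ?_, ?_, ?_⟩
  · intro k
    rw [← P.rel k, map_sum]
    exact Finset.sum_congr rfl fun j _ => (map_smul φ _ _).symm
  · intro v hv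
    apply P.ker v
    apply φ.injective
    rw [map_sum, map_zero, ← hv]
    exact Finset.sum_congr rfl fun j _ => map_smul φ _ _
  · rw [eq_top_iff]
    intro y _
    obtain ⟨x, rfl⟩ := φ.surjective y
    obtain ⟨v, rfl⟩ := P.comb_surjective x
    rw [comb_apply, map_sum]
    exact Submodule.sum_mem _ fun j _ => by
      rw [map_smul]
      exact Submodule.smul_mem _ _ (Submodule.subset_span ⟨j, rfl⟩)

variable {Φ : CommRingCat.{u} ⥤ CommRingCat.{u}}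

section Gen

variable {S T T' : Type u} [CommRing S] [CommRing T] [CommRing T']

lemma map_map_Wm {r h : ℕ} (a : S →+* T) (b : T →+* T') (X : Matrix (Fin r) (Fin h) (Wn Φ S)) :
    (X.map (Wm Φ a)).map (Wm Φ b) = X.map (Wm Φ (b.comp a)) := by
  ext i j
  simp only [Matrix.map_apply]
  exact (Wm_comp Φ a b _).symm

lemma bcmFun_smul (a : S →+* T) (b : T →+* T') (c : S →+* T')
    (h : loc a ≫ loc b = loc c) (N : ModuleCat.{u} (Wn Φ S)) (t : Wn Φ T)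
    (y : (extendScalars.{u,u,u} (Wm Φ a)).obj N) :
    bcmFun Φ a b c h N (t • y) = Wm Φ b t • bcmFun Φ a b c h N y := by
  induction y using tm_induction with
  | h₁ s x => rw [smul_tm, bcmFun_tm, bcmFun_tm, map_mul, smul_tm]
  | h₂ y y' hy hy' => rw [smul_add, bcmFun_add, hy, hy', bcmFun_add, smul_add]

lemma bcmFun_zero (a : S →+* T) (b : T →+* T') (c : S →+* T')
    (h : loc a ≫ loc b = loc c) (N : ModuleCat.{u} (Wn Φ S)) :
    bcmFun Φ a b c h N 0 = 0 := by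
  have := bcmFun_smul a b c h N 0 (0 : (extendScalars.{u,u,u} (Wm Φ a)).obj N)
  rw [zero_smul, map_zero, zero_smul] at this
  exact this

lemma bcmFun_sum {ι : Type*} (s : Finset ι) (a : S →+* T) (b : T →+* T') (c : S →+* T')
    (h : loc a ≫ loc b = loc c) (N : ModuleCat.{u} (Wn Φ S)) (t : ι → Wn Φ T)
    (y : ι → (extendScalars.{u,u,u} (Wm Φ a)).obj N) :
    bcmFun Φ a b c h N (∑ i ∈ s, t i • y i) = ∑ i ∈ s, Wm Φ b (t i) • bcmFun Φ a b c h N (y i) := by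
  classical
  induction s using Finset.induction_on with
  | empty => simp only [Finset.sum_empty]; exact bcmFun_zero a b c h N
  | insert i s hi ih =>
    rw [Finset.sum_insert hi, Finset.sum_insert hi, bcmFun_add, bcmFun_smul, ih]

lemma bcmFun_fam {r h : ℕ} (a : S →+* T) (b : T →+* T') (c : S →+* T')
    (hl : loc a ≫ loc b = loc c) (N : ModuleCat.{u} (Wn Φ S)) (m : Fin r → N)
    (X : Matrix (Fin r) (Fin h) (Wn Φ T)) :
    (fun j => bcmFun Φ a b c hl N (fam (fun k => tm (Wm Φ a) N 1 (m k)) X j)) =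
      fam (fun k => tm (Wm Φ c) N 1 (m k)) (X.map (Wm Φ b)) := by
  funext j
  unfold fam
  rw [bcmFun_sum]
  refine Finset.sum_congr rfl fun k _ => ?_
  rw [bcmFun_tm, map_one]
  rfl

end Gen

section DDsec

variable {R S : Type u} [CommRing R] [CommRing S] [Algebra R S]
variable {T : Type u} [CommRing T]

lemma theta_fam (D : DD Φ R S) {r h : ℕ} (a₁ a₂ : S →+* T)
    (hc : a₁.comp (algebraMap R S) = a₂.comp (algebraMap R S)) (m : Fin r → Nmod D)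
    (X : Matrix (Fin r) (Fin h) (Wn Φ S)) :
    (fun j => theta D a₁ a₂ hc (fam m X j)) =
      fam (fun k => theta D a₁ a₂ hc (m k)) (X.map (Wm Φ a₁)) := by
  funext j
  unfold fam
  exact theta_sum D Finset.univ a₁ a₂ hc (fun i => X i j) m

lemma Dhom_fam (D : DD Φ R S) {r h : ℕ} (a₂ a₃ : S →+* T)
    (hc : a₂.comp (algebraMap R S) = a₃.comp (algebraMap R S)) (m : Fin r → Nmod D)
    (X : Matrix (Fin r) (Fin h) (Wn Φ T)) (j : Fin h) :
    (Dhom D a₂ a₃ hc).hom (fam (fun k => tm (Wm Φ a₂) (Nmod D) 1 (m k)) X j) =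
      fam (fun k => theta D a₂ a₃ hc (m k)) X j := by
  unfold fam
  rw [map_sum]
  refine Finset.sum_congr rfl fun k _ => ?_
  rw [map_smul]
  rfl

variable (A : Aug Φ) (D : DD Φ R S)

lemma red_zero (a : S →+* T) : red A D a 0 = 0 := by
  unfold red
  exact map_zero (redW A D a).hom

lemma red_sum {ι : Type*} (s : Finset ι) (a : S →+* T) (t : ι → Wn Φ T)
    (y : ι → ↑((extendScalars.{u,u,u} (Wm Φ a)).obj (Nmod D))) :
    red A D a (∑ i ∈ s, t i • y i) = ∑ i ∈ s, A.θ T (t i) • red A D a (y i) := by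
  classical
  induction s using Finset.induction_on with
  | empty => simp only [Finset.sum_empty]; exact red_zero A D a
  | insert i s hi ih =>
    rw [Finset.sum_insert hi, Finset.sum_insert hi, red_add, red_smul, ih]

lemma red_fam {r h : ℕ} (a : S →+* T) (m : Fin r → Nmod D)
    (X : Matrix (Fin r) (Fin h) (Wn Φ T)) :
    (fun j => red A D a (fam (fun k => tm (Wm Φ a) (Nmod D) 1 (m k)) X j)) =
      fam (fun k => gen A D a (m k)) (X.map (A.θ T)) := by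
  funext j
  unfold fam
  rw [red_sum]
  refine Finset.sum_congr rfl fun k _ => ?_
  rw [red_tm, map_one, one_smul]
  rfl

end DDsec

/-! ### The main theorem -/

section Main

variable {R S : Type u} [CommRing R] [CommRing S] [Algebra R S]

/-- Stage A: a presentation of the underlying module by an idempotent defined over `Φ(R)`, whose
comparison matrix reduces to the idempotent. -/
theorem stageA [Module.FaithfullyFlat R S] (A : Aug Φ) (D : DD Φ R S)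
    [Module.Finite (Wn Φ S) (Nmod D)] [Module.Projective (Wn Φ S) (Nmod D)]
    (hθR : Function.Surjective (A.θ R)) (hθS : Function.Surjective (A.θ S))
    (hnilR : ∀ (k : ℕ) (Z : Matrix (Fin k) (Fin k) (Wn Φ R)), Z.map (A.θ R) = 0 → IsNilpotent Z)
    (hnilS : ∀ (k : ℕ) (Z : Matrix (Fin k) (Fin k) (Wn Φ S)), Z.map (A.θ S) = 0 → IsNilpotent Z) :
    ∃ (h : ℕ) (e : Matrix (Fin h) (Fin h) (Wn Φ R)) (m : Fin h → Nmod D), e * e = e ∧
      Pres (e.map (Wm Φ (algebraMap R S))) m ∧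
      ∀ ψ : Matrix (Fin h) (Fin h) (Wn Φ (S ⊗[R] S)),
        (e.map (Wm Φ (algebraMap R S))).map (Wm Φ (i₂ (R := R) (S := S))) * ψ = ψ →
        fam (fun k => tm (Wm Φ (i₂ (R := R) (S := S))) (Nmod D) 1 (m k)) ψ =
          (fun j => theta D (i₁ (R := R) (S := S)) (i₂ (R := R) (S := S)) hc₀ (m j)) →
        ψ.map (A.θ (S ⊗[R] S)) =
          ((e.map (Wm Φ (algebraMap R S))).map (Wm Φ (i₂ (R := R) (S := S)))).map
            (A.θ (S ⊗[R] S)) := by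
  classical
  obtain ⟨M₀, ε, hε⟩ := exists_descent A D
  -- `M₀` is finite projective
  obtain ⟨r, εM, uM, PM⟩ := exists_pres (A := Wn Φ S) (Nmod D)
  have PMbar := pres_extend (A.θ S) (Nmod D) PM
  haveI : Module.Finite S (Mbar A D) := PMbar.finite
  haveI : Module.Projective S (Mbar A D) := PMbar.projective
  haveI : Module.Finite S ((extendScalars.{u,u,u} (algebraMap R S)).obj M₀) :=
    Module.Finite.equiv ε.symm.toLinearEquiv
  haveI : Module.Projective S ((extendScalars.{u,u,u} (algebraMap R S)).obj M₀) :=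
    Module.Projective.of_equiv ε.symm.toLinearEquiv
  obtain ⟨hfin, hproj⟩ := ExtScBridge.projective_of_extendScalars R S M₀
  haveI := hfin
  haveI := hproj
  obtain ⟨h, e₀, x, Px⟩ := exists_pres (A := R) M₀
  -- lift the idempotent
  obtain ⟨e, he, hemap⟩ : ∃ e : Matrix (Fin h) (Fin h) (Wn Φ R),
      e * e = e ∧ e.map (A.θ R) = e₀ := by
    have hker : ∀ Z ∈ RingHom.ker
        (RingHom.mapMatrix (A.θ R) : Matrix (Fin h) (Fin h) (Wn Φ R) →+* Matrix (Fin h) (Fin h) R),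
        IsNilpotent Z := by
      intro Z hZ
      apply hnilR h Z
      rw [RingHom.mem_ker, RingHom.mapMatrix_apply] at hZ
      exact hZ
    have hrange : e₀ ∈ (RingHom.mapMatrix (A.θ R) :
        Matrix (Fin h) (Fin h) (Wn Φ R) →+* Matrix (Fin h) (Fin h) R).range := by
      choose l hl using fun i j => hθR (e₀ i j)
      exact ⟨Matrix.of l, by ext i j; exact hl i j⟩
    obtain ⟨e, he, hee⟩ := exists_isIdempotentElem_eq_of_ker_isNilpotent _ hker e₀ hrange Px.idem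
    exact ⟨e, he, hee⟩
  obtain ⟨eS, heSdef⟩ : ∃ eS : Matrix (Fin h) (Fin h) (Wn Φ S),
      eS = e.map (Wm Φ (algebraMap R S)) := ⟨_, rfl⟩
  have heS : eS * eS = eS := by rw [heSdef, ← Matrix.map_mul, he]
  have heSθ : eS.map (A.θ S) = e₀.map (algebraMap R S) := by
    ext i j
    rw [heSdef, ← hemap]
    simp only [Matrix.map_apply]
    exact A.nat _ _
  -- the generators of the reduction
  obtain ⟨xb, hxb⟩ : ∃ xb : Fin h → ↑(Mbar A D),
      xb = fun j => ε.hom.hom (tm (algebraMap R S) M₀ 1 (x j)) := ⟨_, rfl⟩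
  have Pxb : Pres (e₀.map (algebraMap R S)) xb := by
    rw [hxb]
    exact pres_map_equiv (pres_extend (algebraMap R S) M₀ Px) ε.toLinearEquiv
  have Pxb' : Pres (eS.map (A.θ S)) xb := by rw [heSθ]; exact Pxb
  obtain ⟨m, Pm, hm⟩ := lift_pres (A.θ S) hθS hnilS (Nmod D) eS heS xb Pxb'
  refine ⟨h, e, m, he, heSdef ▸ Pm, ?_⟩
  rw [← heSdef]
  intro ψ hψ₁' hψfam
  have Pyb := pres_extend (i₂ (R := R) (S := S)) (Mbar A D) Pxb
  have heθ₂ : (eS.map (Wm Φ (i₂ (R := R) (S := S)))).map (A.θ (S ⊗[R] S)) =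
      (e₀.map (algebraMap R S)).map (i₂ (R := R) (S := S)) := by
    rw [← heSθ]
    ext i j
    simp only [Matrix.map_apply]
    exact A.nat _ _
  have hgen : ∀ a : S →+* S ⊗[R] S, (fun k => gen A D a (m k)) =
      fun k => tm a (Mbar A D) 1 (xb k) := by
    intro a
    funext k
    unfold gen
    rw [hm k]
  rw [heθ₂]
  apply fam_unique Pyb
  · rw [← heθ₂, ← Matrix.map_mul, hψ₁']
  · exact Pyb.idem
  · rw [fam_self Pyb, ← hgen, ← red_fam, hψfam]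
    funext j
    rw [← redHom_gen]
    have := congrFun (hgen (i₁ (R := R) (S := S))) j
    beta_reduce at this
    have h2 := congrFun (hgen (i₂ (R := R) (S := S))) j
    beta_reduce at h2
    rw [this, h2, hxb]
    exact hε (x j)

/-- Stage B: the cocycle condition for the comparison matrix. -/
theorem stageB (D : DD Φ R S) {T₃ : Type u} [CommRing T₃] (q₁₂ q₁₃ q₂₃ : S ⊗[R] S →+* T₃)
    (H11 : q₁₂.comp (i₁ (R := R) (S := S)) = q₁₃.comp (i₁ (R := R) (S := S)))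
    (H22 : q₁₂.comp (i₂ (R := R) (S := S)) = q₂₃.comp (i₁ (R := R) (S := S)))
    (H33 : q₁₃.comp (i₂ (R := R) (S := S)) = q₂₃.comp (i₂ (R := R) (S := S)))
    {h : ℕ} (eS : Matrix (Fin h) (Fin h) (Wn Φ S))
    (m : Fin h → Nmod D) (Pm : Pres eS m)
    (ψ : Matrix (Fin h) (Fin h) (Wn Φ (S ⊗[R] S)))
    (hψ₁' : eS.map (Wm Φ (i₂ (R := R) (S := S))) * ψ = ψ)
    (hψfam : fam (fun k => tm (Wm Φ (i₂ (R := R) (S := S))) (Nmod D) 1 (m k)) ψ =
      (fun j => theta D (i₁ (R := R) (S := S)) (i₂ (R := R) (S := S)) hc₀ (m j))) :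
    ψ.map (Wm Φ q₁₃) = ψ.map (Wm Φ q₂₃) * ψ.map (Wm Φ q₁₂) := by
  obtain ⟨k₁, hk₁⟩ : ∃ k₁ : S →+* T₃, k₁ = q₁₂.comp (i₁ (R := R) (S := S)) := ⟨_, rfl⟩
  obtain ⟨k₂, hk₂⟩ : ∃ k₂ : S →+* T₃, k₂ = q₁₂.comp (i₂ (R := R) (S := S)) := ⟨_, rfl⟩
  obtain ⟨k₃, hk₃⟩ : ∃ k₃ : S →+* T₃, k₃ = q₁₃.comp (i₂ (R := R) (S := S)) := ⟨_, rfl⟩
  have c12a : q₁₂.comp (i₁ (R := R) (S := S)) = k₁ := hk₁.symm
  have c12b : q₁₂.comp (i₂ (R := R) (S := S)) = k₂ := hk₂.symm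
  have c13a : q₁₃.comp (i₁ (R := R) (S := S)) = k₁ := by rw [← H11, hk₁]
  have c13b : q₁₃.comp (i₂ (R := R) (S := S)) = k₃ := hk₃.symm
  have c23a : q₂₃.comp (i₁ (R := R) (S := S)) = k₂ := by rw [← H22, hk₂]
  have c23b : q₂₃.comp (i₂ (R := R) (S := S)) = k₃ := by rw [← H33, hk₃]
  have h₁₂ : k₁.comp (algebraMap R S) = k₂.comp (algebraMap R S) := by
    rw [hk₁, hk₂, RingHom.comp_assoc, RingHom.comp_assoc, hc₀]
  have h₂₃ : k₂.comp (algebraMap R S) = k₃.comp (algebraMap R S) := by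
    rw [← c23a, ← c23b, RingHom.comp_assoc, RingHom.comp_assoc, hc₀]
  have P₃ := pres_extend (Wm Φ k₃) (Nmod D) Pm
  have hl₁₃ : loc (i₂ (R := R) (S := S)) ≫ loc q₁₃ = loc k₃ := by rw [loc_comp, c13b]
  have hl₁₂ : loc (i₂ (R := R) (S := S)) ≫ loc q₁₂ = loc k₂ := by rw [loc_comp, c12b]
  have hl₂₃ : loc (i₂ (R := R) (S := S)) ≫ loc q₂₃ = loc k₃ := by rw [loc_comp, c23b]
  have hth13 : (fun j => theta D k₁ k₃ (h₁₂.trans h₂₃) (m j)) =
      fam (fun k => tm (Wm Φ k₃) (Nmod D) 1 (m k)) (ψ.map (Wm Φ q₁₃)) := by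
    rw [← bcmFun_fam i₂ q₁₃ k₃ hl₁₃ (Nmod D) m ψ, hψfam]
    funext j
    exact theta_nat' D i₁ i₂ hc₀ q₁₃ k₁ k₃ c13a c13b (h₁₂.trans h₂₃) hl₁₃ (m j)
  have hth12 : (fun j => theta D k₁ k₂ h₁₂ (m j)) =
      fam (fun k => tm (Wm Φ k₂) (Nmod D) 1 (m k)) (ψ.map (Wm Φ q₁₂)) := by
    rw [← bcmFun_fam i₂ q₁₂ k₂ hl₁₂ (Nmod D) m ψ, hψfam]
    funext j
    exact theta_nat' D i₁ i₂ hc₀ q₁₂ k₁ k₂ c12a c12b h₁₂ hl₁₂ (m j)
  have hth23 : (fun j => theta D k₂ k₃ h₂₃ (m j)) =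
      fam (fun k => tm (Wm Φ k₃) (Nmod D) 1 (m k)) (ψ.map (Wm Φ q₂₃)) := by
    rw [← bcmFun_fam i₂ q₂₃ k₃ hl₂₃ (Nmod D) m ψ, hψfam]
    funext j
    exact theta_nat' D i₁ i₂ hc₀ q₂₃ k₂ k₃ c23a c23b h₂₃ hl₂₃ (m j)
  have he₃a : eS.map (Wm Φ k₃) =
      (eS.map (Wm Φ (i₂ (R := R) (S := S)))).map (Wm Φ q₁₃) := by
    rw [map_map_Wm, c13b]
  have he₃b : eS.map (Wm Φ k₃) =
      (eS.map (Wm Φ (i₂ (R := R) (S := S)))).map (Wm Φ q₂₃) := by
    rw [map_map_Wm, c23b]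
  apply fam_unique P₃
  · rw [he₃a, ← Matrix.map_mul, hψ₁']
  · rw [← Matrix.mul_assoc, he₃b, ← Matrix.map_mul, hψ₁']
  · rw [← hth13, ← fam_fam, ← hth23]
    funext j
    rw [← Dhom_fam D k₂ k₃ h₂₃ m _ j]
    have := congrFun hth12 j
    beta_reduce at this
    rw [← this]
    exact (Dhom_theta D k₁ k₂ k₃ h₁₂ h₂₃ (m j)).symm

/-- Stage C: invariant generators give the descended module. -/
theorem stageC (D : DD Φ R S) {h : ℕ} (e : Matrix (Fin h) (Fin h) (Wn Φ R)) (he : e * e = e)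
    (m' : Fin h → Nmod D) (Pm' : Pres (e.map (Wm Φ (algebraMap R S))) m')
    (hinv : ∀ j, theta D (i₁ (R := R) (S := S)) (i₂ (R := R) (S := S)) hc₀ (m' j) =
      tm (Wm Φ (i₂ (R := R) (S := S))) (Nmod D) 1 (m' j)) :
    ∃ M : ModuleCat.{u} (Wn Φ R), Module.Finite (Wn Φ R) M ∧ Module.Projective (Wn Φ R) M ∧
      Nonempty (((PF Φ).toDescentData (fun _ : PUnit.{u + 1} => f₀ R S)).obj M ≅ D) := by
  obtain ⟨M, hM⟩ : ∃ M : ModuleCat.{u} (Wn Φ R), M = ModuleCat.of (Wn Φ R) (stdM e) := ⟨_, rfl⟩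
  have Pstd : Pres e (stdGen e) := pres_std e he
  obtain ⟨sg, hsg⟩ : ∃ sg : Fin h → M, Pres e sg := by
    rw [hM]
    exact ⟨stdGen e, Pstd⟩
  have PstdS := pres_extend (Wm Φ (algebraMap R S)) M hsg
  obtain ⟨α, hα⟩ : ∃ α : ↑((extendScalars.{u,u,u} (Wm Φ (algebraMap R S))).obj M) ≃ₗ[Wn Φ S]
      ↑(Nmod D), ∀ k, α (tm (Wm Φ (algebraMap R S)) M 1 (sg k)) = m' k :=
    ⟨PstdS.iso Pm', fun k => PstdS.iso_gen Pm' k⟩
  obtain ⟨αiso, hαiso⟩ : ∃ αiso : (extendScalars.{u,u,u} (Wm Φ (algebraMap R S))).obj M ≅ Nmod D,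
      ∀ y, αiso.hom.hom y = α y := ⟨α.toModuleIso, fun y => rfl⟩
  have hfin : Module.Finite (Wn Φ R) M := by
    rw [hM]
    exact finite_stdM e
  have hproj : Module.Projective (Wn Φ R) M := by
    rw [hM]
    exact projective_stdM e he
  refine ⟨M, hfin, hproj, nonempty_iso D M αiso ?_⟩
  intro y
  obtain ⟨v, rfl⟩ := hsg.comb_surjective y
  have e1 : αiso.hom.hom (tm (Wm Φ (algebraMap R S)) M 1 (comb sg v)) =
      ∑ j, Wm Φ (algebraMap R S) (v j) • m' j := by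
    rw [hαiso, comb_apply, tm_sum_smul, map_sum]
    refine Finset.sum_congr rfl fun j _ => ?_
    rw [map_smul, hα]
  rw [e1, theta_sum, tm_sum_smul]
  refine Finset.sum_congr rfl fun j _ => ?_
  rw [hinv j, ← Wm_comp, ← Wm_comp, hc₀]

theorem main [Module.FaithfullyFlat R S] (A : Aug Φ) (D : DD Φ R S)
    [Module.Finite (Wn Φ S) (Nmod D)] [Module.Projective (Wn Φ S) (Nmod D)]
    (hθR : Function.Surjective (A.θ R)) (hθS : Function.Surjective (A.θ S))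
    (hnilR : ∀ (k : ℕ) (Z : Matrix (Fin k) (Fin k) (Wn Φ R)), Z.map (A.θ R) = 0 → IsNilpotent Z)
    (hnilS : ∀ (k : ℕ) (Z : Matrix (Fin k) (Fin k) (Wn Φ S)), Z.map (A.θ S) = 0 → IsNilpotent Z)
    {T₃ : Type u} [CommRing T₃] (q₁₂ q₁₃ q₂₃ : S ⊗[R] S →+* T₃)
    (H11 : q₁₂.comp (i₁ (R := R) (S := S)) = q₁₃.comp (i₁ (R := R) (S := S)))
    (H22 : q₁₂.comp (i₂ (R := R) (S := S)) = q₂₃.comp (i₁ (R := R) (S := S)))
    (H33 : q₁₃.comp (i₂ (R := R) (S := S)) = q₂₃.comp (i₂ (R := R) (S := S)))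
    {L : ℕ} (F₀ : NAH2.IFil (Wn Φ S) L) (F₁ : NAH2.IFil (Wn Φ (S ⊗[R] S)) L)
    (F₂ : NAH2.IFil (Wn Φ T₃) L)
    (hF₁ : ∀ x : Wn Φ (S ⊗[R] S), A.θ (S ⊗[R] S) x = 0 → x ∈ F₁.I 0)
    (hd₁ : ∀ a x, x ∈ F₀.I a → Wm Φ (i₁ (R := R) (S := S)) x ∈ F₁.I a)
    (hd₂ : ∀ a x, x ∈ F₀.I a → Wm Φ (i₂ (R := R) (S := S)) x ∈ F₁.I a)
    (hd₁₂ : ∀ a x, x ∈ F₁.I a → Wm Φ q₁₂ x ∈ F₂.I a)
    (hd₁₃ : ∀ a x, x ∈ F₁.I a → Wm Φ q₁₃ x ∈ F₂.I a)
    (hd₂₃ : ∀ a x, x ∈ F₁.I a → Wm Φ q₂₃ x ∈ F₂.I a)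
    (GE : ∀ a, a < L → ∀ x, x ∈ F₁.I a →
      Wm Φ q₂₃ x - Wm Φ q₁₃ x + Wm Φ q₁₂ x ∈ F₂.I (a + 1) →
      ∃ y, y ∈ F₀.I 0 ∧ x - (Wm Φ (i₂ (R := R) (S := S)) y - Wm Φ (i₁ (R := R) (S := S)) y) ∈
        F₁.I (a + 1)) :
    ∃ M : ModuleCat.{u} (Wn Φ R), Module.Finite (Wn Φ R) M ∧ Module.Projective (Wn Φ R) M ∧
      Nonempty (((PF Φ).toDescentData (fun _ : PUnit.{u + 1} => f₀ R S)).obj M ≅ D) := by
  classical
  obtain ⟨h, e, m, he, Pm, hred⟩ := stageA A D hθR hθS hnilR hnilS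
  obtain ⟨eS, heSdef⟩ : ∃ eS : Matrix (Fin h) (Fin h) (Wn Φ S),
      eS = e.map (Wm Φ (algebraMap R S)) := ⟨_, rfl⟩
  rw [← heSdef] at Pm hred
  have heS : eS * eS = eS := Pm.idem
  -- the cocycle matrix
  have P₂ := pres_extend (Wm Φ (i₂ (R := R) (S := S))) (Nmod D) Pm
  obtain ⟨ψ, hψ₁', hψfam⟩ := exists_fam P₂ (fun j => theta D i₁ i₂ hc₀ (m j))
  have he12 : eS.map (Wm Φ (i₁ (R := R) (S := S))) = eS.map (Wm Φ (i₂ (R := R) (S := S))) := by
    rw [heSdef, map_map_Wm, map_map_Wm, hc₀]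
  have hψ₁ : eS.map (Wm Φ (i₁ (R := R) (S := S))) * ψ = ψ := by rw [he12]; exact hψ₁'
  have hψ₂ : ψ * eS.map (Wm Φ (i₁ (R := R) (S := S))) = ψ := by
    apply fam_unique P₂ _ _ (by rw [← Matrix.mul_assoc, hψ₁']) hψ₁'
    rw [← fam_fam, hψfam, ← theta_fam, fam_self Pm]
  have hψθ := hred ψ hψ₁' hψfam
  have hψ : ∀ i j, (ψ - eS.map (Wm Φ (i₁ (R := R) (S := S)))) i j ∈ F₁.I 0 := by
    intro i j
    apply hF₁
    rw [he12, Matrix.sub_apply, map_sub, sub_eq_zero]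
    exact congrFun (congrFun hψθ i) j
  have hc := stageB D q₁₂ q₁₃ q₂₃ H11 H22 H33 eS m Pm ψ hψ₁' hψfam
  -- trivialize the cocycle
  have h11 : ∀ x, Wm Φ q₁₂ (Wm Φ (i₁ (R := R) (S := S)) x) =
      Wm Φ q₁₃ (Wm Φ (i₁ (R := R) (S := S)) x) := by
    intro x
    rw [← Wm_comp, ← Wm_comp, H11]
  have h22 : ∀ x, Wm Φ q₁₂ (Wm Φ (i₂ (R := R) (S := S)) x) =
      Wm Φ q₂₃ (Wm Φ (i₁ (R := R) (S := S)) x) := by
    intro x
    rw [← Wm_comp, ← Wm_comp, H22]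
  have h33 : ∀ x, Wm Φ q₁₃ (Wm Φ (i₂ (R := R) (S := S)) x) =
      Wm Φ q₂₃ (Wm Φ (i₂ (R := R) (S := S)) x) := by
    intro x
    rw [← Wm_comp, ← Wm_comp, H33]
  obtain ⟨g, g', hg1, hg2, hg3, hg4, hg5, hg6, -, hg8⟩ :=
    NAH2.corner_main F₀ F₁ F₂ (Wm Φ (i₁ (R := R) (S := S))) (Wm Φ (i₂ (R := R) (S := S)))
      (Wm Φ q₁₂) (Wm Φ q₁₃) (Wm Φ q₂₃) h11 h22 h33 hd₁ hd₂ hd₁₂ hd₁₃ hd₂₃ GE eS heS he12 ψ
      hψ₁ hψ₂ hψ hc
  -- the invariant generators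
  have Pm' : Pres eS (fam m g) := Pm.change g g' hg1 hg2 hg3 hg4 hg5 hg6
  have hinv : (fun j => theta D i₁ i₂ hc₀ (fam m g j)) =
      fun j => tm (Wm Φ (i₂ (R := R) (S := S))) (Nmod D) 1 (fam m g j) := by
    rw [theta_fam, ← hψfam, fam_fam, hg8, tm_fam]
  rw [heSdef] at Pm'
  exact stageC D e he (fam m g) Pm' (fun j => congrFun hinv j)

end Main

end Groth.Agent.Helper8.GEff
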