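import Mathlib
import Groth.Prelude.Def_Found
import Groth.Prelude.Def_EGA4b
import Groth.Agent.Helper7.CKz2
import Groth.Agent.Helper2.RegLoc
import Groth.Agent.Helper2.RegComp
import Groth.Agent.Helper2.CplDesc
import Groth.Agent.Helper2.CplMap
import Groth.Agent.Helper2.LocHom

/-!
# GFibA: transfer of geometric regularity of a single formal fibre along an essentially
finite type extension of Noetherian local rings (S9290)
-/

set_option autoImplicit false
set_option linter.style.haveILetI false
set_option linter.unusedSectionVars false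
set_option linter.unusedVariables false
open TensorProduct IsLocalRing
universe u

namespace Groth.Agent.Helper8.GFib

section Comp
variable (A B C : Type u) [CommRing A] [CommRing B] [CommRing C]
    [Algebra A B] [Algebra B C] [Algebra A C] [IsScalarTower A B C]

/-- per-fibre version of helper2 `RegComp.regular_baseChange_finite`. -/
theorem regular_baseChange_finite' (p : Ideal A) [p.IsPrime] (k' : Type u) [Field k']
    [Algebra p.ResidueField k'] [Algebra A k'] [IsScalarTower A p.ResidueField k']
    [Module.Finite p.ResidueField k']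
    (hAB : IsRegularRing (k' ⊗[p.ResidueField] (p.Fiber B))) (hBC : CAlg.IsRegularHom B C)
    [IsNoetherianRing (p.Fiber C)] :
    IsRegularRing (k' ⊗[p.ResidueField] (p.Fiber C)) := by
  -- (a)
  haveI hB'' : IsRegularRing (B ⊗[A] k') := by
    haveI : IsRegularRing (k' ⊗[p.ResidueField] (p.Fiber B)) := hAB
    exact IsRegularRing.of_ringEquiv
      ((Algebra.TensorProduct.cancelBaseChange A p.ResidueField k' k' B).toRingEquiv.trans
        (Algebra.TensorProduct.comm A k' B).toRingEquiv)
  -- (b)
  have eC : (k' ⊗[p.ResidueField] (p.Fiber C)) ≃+* (C ⊗[A] k') :=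
    (Algebra.TensorProduct.cancelBaseChange A p.ResidueField k' k' C).toRingEquiv.trans
        (Algebra.TensorProduct.comm A k' C).toRingEquiv
  haveI hC'' : IsNoetherianRing (C ⊗[A] k') := by
    haveI : IsNoetherianRing ((p.Fiber C) ⊗[p.ResidueField] k') :=
      IsNoetherianRing.of_finite (p.Fiber C) _
    have e1 : ((p.Fiber C) ⊗[p.ResidueField] k') ≃+* (k' ⊗[p.ResidueField] (p.Fiber C)) :=
      (Algebra.TensorProduct.comm p.ResidueField (p.Fiber C) k').toRingEquiv
    exact isNoetherianRing_of_ringEquiv _ (e1.trans eC)
  -- (c)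
  letI : Algebra (B ⊗[A] k') (C ⊗[A] k') :=
    (Algebra.TensorProduct.map (IsScalarTower.toAlgHom A B C) (AlgHom.id A k')).toRingHom.toAlgebra
  haveI : IsScalarTower B (B ⊗[A] k') (C ⊗[A] k') := by
    refine IsScalarTower.of_algebraMap_eq (R := B) (S := B ⊗[A] k') (A := C ⊗[A] k') (fun x => ?_)
    rw [RingHom.algebraMap_toAlgebra
      (Algebra.TensorProduct.map (IsScalarTower.toAlgHom A B C) (AlgHom.id A k')).toRingHom]
    simp only [Algebra.TensorProduct.algebraMap_apply, AlgHom.toRingHom_eq_coe, RingHom.coe_coe,
      Algebra.TensorProduct.map_tmul, map_one]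
    rfl
  haveI hpo : Algebra.IsPushout B C (B ⊗[A] k') (C ⊗[A] k') :=
    Algebra.IsPushout.tensorProduct_tensorProduct A k' B C (by
      ext c
      simp [RingHom.algebraMap_toAlgebra])
  -- (d)
  haveI : Algebra.QuasiFinite A k' := Algebra.QuasiFinite.trans A p.ResidueField k'
  haveI : Algebra.QuasiFinite B (B ⊗[A] k') := inferInstance
  -- (e)
  haveI := Groth.Agent.Helper2.RegComp.isRegularRing_of_pushout B C (B ⊗[A] k') (C ⊗[A] k') hBC
  exact IsRegularRing.of_ringEquiv eC.symm

end Comp

section Desc
variable (B C : Type u) [CommRing B] [CommRing C] [Algebra B C] [IsLocalRing B]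
  [IsNoetherianRing B] [IsNoetherianRing C] [Module.Flat B C]

set_option maxHeartbeats 1000000 in
/-- If the fibre of `B → C` at `Q'` is geometrically regular, `n` is a prime of `C` with
`B → C_n` local and `C_n → (C_n)^` is regular, then the formal fibre of `B` at `Q'` is
geometrically regular. -/
theorem geomRegular_formalFibre_of_loc (Q' : Ideal B) [Q'.IsPrime]
    (hC : CAlg.IsGeometricallyRegular Q'.ResidueField (Q'.Fiber C))
    (n : Ideal C) [n.IsPrime] [IsLocalHom (algebraMap B (Localization.AtPrime n))]
    (hDreg : CAlg.IsRegularHom (Localization.AtPrime n) (EGA4.Cpl (Localization.AtPrime n))) :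
    CAlg.IsGeometricallyRegular Q'.ResidueField (EGA4.formalFibre B Q') := by
  haveI := Groth.Agent.Helper2.CplIff.noeth B
  haveI : IsNoetherianRing (Localization.AtPrime n) :=
    IsLocalization.isNoetherianRing n.primeCompl _ inferInstance
  haveI : Module.Flat B (Localization.AtPrime n) :=
    Module.Flat.trans B C (Localization.AtPrime n)
  haveI := Groth.Agent.Helper2.CplIff.noeth (Localization.AtPrime n)
  obtain ⟨alg, hst, hff⟩ := Groth.Agent.Helper2.CplMap.exists_algebra B (Localization.AtPrime n)
  intro k' _ _ hfin
  haveI := hfin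
  letI : Algebra B k' :=
    ((algebraMap Q'.ResidueField k').comp (algebraMap B Q'.ResidueField)).toAlgebra
  haveI : IsScalarTower B Q'.ResidueField k' := IsScalarTower.of_algebraMap_eq (fun _ => rfl)
  -- global fibre
  haveI h1 : IsRegularRing (k' ⊗[Q'.ResidueField] (Q'.Fiber C)) := hC k' hfin
  obtain ⟨eg⟩ := Groth.Agent.Helper2.LocHom.nonempty_equiv_glob B C Q' k'
  haveI h2 : IsRegularRing (C ⊗[B] k') :=
    IsRegularRing.of_ringEquiv (R := k' ⊗[Q'.ResidueField] (Q'.Fiber C)) eg
  -- localise
  haveI hl : IsLocalization (Algebra.algebraMapSubmonoid (C ⊗[B] k') n.primeCompl)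
      ((C ⊗[B] k') ⊗[C] Localization.AtPrime n) :=
    IsLocalization.tensor (Localization.AtPrime n) n.primeCompl
  haveI h3 : IsRegularRing ((C ⊗[B] k') ⊗[C] Localization.AtPrime n) := by
    haveI := Groth.Agent.Helper2.RegLoc.isRegularRing_localization (C ⊗[B] k')
      (Algebra.algebraMapSubmonoid (C ⊗[B] k') n.primeCompl)
    exact IsRegularRing.of_ringEquiv
      (R := Localization (Algebra.algebraMapSubmonoid (C ⊗[B] k') n.primeCompl))
      (IsLocalization.algEquiv
      (Algebra.algebraMapSubmonoid (C ⊗[B] k') n.primeCompl)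
      (Localization (Algebra.algebraMapSubmonoid (C ⊗[B] k') n.primeCompl))
      ((C ⊗[B] k') ⊗[C] Localization.AtPrime n)).toRingEquiv
  obtain ⟨el⟩ := Groth.Agent.Helper2.LocHom.nonempty_equiv_loc B C Q' k' n
  haveI h4 : IsRegularRing (k' ⊗[Q'.ResidueField] (Q'.Fiber (Localization.AtPrime n))) :=
    IsRegularRing.of_ringEquiv (R := (C ⊗[B] k') ⊗[C] Localization.AtPrime n) el
  -- compose with the completion of the localisation
  haveI : IsNoetherianRing (Q'.Fiber (EGA4.Cpl (Localization.AtPrime n))) :=
    Groth.Agent.Helper2.RegBC.isNoetherianRing_fiber B (EGA4.Cpl (Localization.AtPrime n)) Q'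
  have h5 := regular_baseChange_finite' B (Localization.AtPrime n)
    (EGA4.Cpl (Localization.AtPrime n)) Q' k' h4 hDreg
  -- descend to the completion of `B`
  exact Groth.Agent.Helper2.CplDesc.regular_fiber_descent B (EGA4.Cpl B)
    (EGA4.Cpl (Localization.AtPrime n)) Q' k' h5

end Desc

section Main
variable (A : Type u) [CommRing A] [IsNoetherianRing A] [IsLocalRing A]
  (B : Type u) [CommRing B] [IsNoetherianRing B] [IsLocalRing B] [Algebra A B]
  [Algebra.EssFiniteType A B]

set_option maxHeartbeats 1000000 in
/-- If `B` is a Noetherian local ring essentially of finite type over the Noetherian local ring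
`A`, and the prime `Q'` of `B` lies over the prime `Q` of `A`, then geometric regularity of the
formal fibre of `A` at `Q` implies geometric regularity of the formal fibre of `B` at `Q'`. -/
theorem geomRegular_formalFibre (Q : Ideal A) [Q.IsPrime] (Q' : Ideal B) [Q'.IsPrime]
    [Q'.LiesOver Q]
    (h : CAlg.IsGeometricallyRegular Q.ResidueField (EGA4.formalFibre A Q)) :
    CAlg.IsGeometricallyRegular Q'.ResidueField (EGA4.formalFibre B Q') := by
  haveI := Groth.Agent.Helper2.CplIff.noeth A
  haveI := Groth.Agent.Helper2.CplIff.ff A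
  haveI := Groth.Agent.Helper7.CKd.isNoetherianRing_tensor_cpl A B
  -- the fibre of `B → B ⊗ Â` at `Q'`
  have hC : CAlg.IsGeometricallyRegular Q'.ResidueField (Q'.Fiber (B ⊗[A] EGA4.Cpl A)) := by
    letI := Localization.AtPrime.algebraOfLiesOver Q Q'
    obtain ⟨e⟩ := Groth.Agent.Helper2.RegBC.nonempty_fiber_algEquiv A B (EGA4.Cpl A) Q Q'
    haveI : Algebra.EssFiniteType Q.ResidueField Q'.ResidueField := inferInstance
    exact Groth.Agent.Helper2.RegBC.geomRegular_of_algEquiv e.symm
      (Groth.Agent.Helper2.GeomReg.geomRegular_ascent Q.ResidueField (Q.Fiber (EGA4.Cpl A)) h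
        Q'.ResidueField)
  obtain ⟨n, hnp, hn⟩ := Groth.Agent.Helper7.CKd.exists_prime_over_max A B
  haveI := hnp
  haveI hloc := Groth.Agent.Helper7.CKd.isLocalHom_loc A B n hn
  have hDreg := Groth.Agent.Helper7.CKd.isRegularHom_cpl_loc A B n
  haveI : Module.Flat B (B ⊗[A] EGA4.Cpl A) := inferInstance
  exact geomRegular_formalFibre_of_loc B (B ⊗[A] EGA4.Cpl A) Q' hC n hDreg

end Main

set_option maxHeartbeats 1000000 in
theorem s9290 (R R' : Type u) [CommRing R] [CommRing R']
    [IsNoetherianRing R] [IsNoetherianRing R'] [Algebra R R'] [Algebra.FiniteType R R']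
    (p' : Ideal R') [p'.IsPrime] [Algebra.QuasiFiniteAt R p']
    (Q' : Ideal (Localization.AtPrime p')) [Q'.IsPrime]
    (Q : Ideal (Localization.AtPrime (Ideal.comap (algebraMap R R') p'))) [Q.IsPrime]
    (hQ : Ideal.comap (algebraMap R (Localization.AtPrime (Ideal.comap (algebraMap R R') p'))) Q =
      Ideal.comap (algebraMap R (Localization.AtPrime p')) Q')
    (h : CAlg.IsGeometricallyRegular Q.ResidueField
      (EGA4.formalFibre (Localization.AtPrime (Ideal.comap (algebraMap R R') p')) Q)) :
    CAlg.IsGeometricallyRegular Q'.ResidueField (EGA4.formalFibre (Localization.AtPrime p') Q') := by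
  haveI : IsNoetherianRing (Localization.AtPrime (Ideal.comap (algebraMap R R') p')) :=
    IsLocalization.isNoetherianRing (Ideal.comap (algebraMap R R') p').primeCompl _ inferInstance
  haveI : IsNoetherianRing (Localization.AtPrime p') :=
    IsLocalization.isNoetherianRing p'.primeCompl _ inferInstance
  letI : Algebra (Localization.AtPrime (Ideal.comap (algebraMap R R') p')) (Localization.AtPrime p') :=
    (Localization.localRingHom (Ideal.comap (algebraMap R R') p') p' (algebraMap R R') rfl).toAlgebra
  haveI : IsScalarTower R (Localization.AtPrime (Ideal.comap (algebraMap R R') p'))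
      (Localization.AtPrime p') :=
    IsScalarTower.of_algebraMap_eq (fun r => by
      show algebraMap R (Localization.AtPrime p') r =
        Localization.localRingHom _ p' _ rfl (algebraMap R _ r)
      rw [Localization.localRingHom_to_map]
      exact IsScalarTower.algebraMap_apply R R' (Localization.AtPrime p') r)
  haveI : Algebra.EssFiniteType R (Localization.AtPrime p') := inferInstance
  haveI : Algebra.EssFiniteType (Localization.AtPrime (Ideal.comap (algebraMap R R') p'))
      (Localization.AtPrime p') :=
    Algebra.EssFiniteType.of_comp R _ _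
  haveI : Q'.LiesOver Q := by
    constructor
    have h2 := IsLocalization.map_comap (Ideal.comap (algebraMap R R') p').primeCompl
      (Localization.AtPrime (Ideal.comap (algebraMap R R') p')) Q
    have h3 := IsLocalization.map_comap (Ideal.comap (algebraMap R R') p').primeCompl
      (Localization.AtPrime (Ideal.comap (algebraMap R R') p'))
      (Q'.under (Localization.AtPrime (Ideal.comap (algebraMap R R') p')))
    rw [← h2, ← h3]
    congr 1
    rw [Ideal.under_def, Ideal.under_def, Ideal.under_def, hQ, Ideal.comap_comap,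
      ← IsScalarTower.algebraMap_eq]
  exact geomRegular_formalFibre _ _ Q Q' h

end Groth.Agent.Helper8.GFib
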