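import Mathlib

/-!
# GFibB: realising a finite extension of a residue field by a finite free algebra
-/

set_option autoImplicit false
set_option linter.style.haveILetI false
set_option linter.unusedSectionVars false
set_option linter.unusedVariables false
universe u
open Polynomial

namespace Groth.Agent.Helper8.GFib

/-- `x` is a fraction of two elements of `S` in the field `k'`. -/
def IsFrac (S : Type u) [CommRing S] {k' : Type u} [Field k'] [Algebra S k'] (x : k') : Prop :=
  ∃ s t : S, algebraMap S k' t ≠ 0 ∧ x * algebraMap S k' t = algebraMap S k' s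

section Frac
variable {S k' : Type u} [CommRing S] [Field k'] [Algebra S k']

theorem isFrac_algebraMap (s : S) : IsFrac S (algebraMap S k' s) :=
  ⟨s, 1, by rw [map_one]; exact one_ne_zero, by rw [map_one, mul_one]⟩

theorem IsFrac.add {x y : k'} (hx : IsFrac S x) (hy : IsFrac S y) : IsFrac S (x + y) := by
  obtain ⟨s, t, ht, h⟩ := hx
  obtain ⟨s', t', ht', h'⟩ := hy
  refine ⟨s * t' + s' * t, t * t', ?_, ?_⟩
  · rw [map_mul]; exact mul_ne_zero ht ht'
  · rw [map_mul, map_add, map_mul, map_mul, ← h, ← h']; ring

theorem IsFrac.mul {x y : k'} (hx : IsFrac S x) (hy : IsFrac S y) : IsFrac S (x * y) := by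
  obtain ⟨s, t, ht, h⟩ := hx
  obtain ⟨s', t', ht', h'⟩ := hy
  refine ⟨s * s', t * t', ?_, ?_⟩
  · rw [map_mul]; exact mul_ne_zero ht ht'
  · rw [map_mul, map_mul, ← h, ← h']; ring

theorem IsFrac.div_of_mul {x : k'} {d : S} (hd : algebraMap S k' d ≠ 0)
    (hx : IsFrac S (algebraMap S k' d * x)) : IsFrac S x := by
  obtain ⟨s, t, ht, h⟩ := hx
  refine ⟨s, d * t, ?_, ?_⟩
  · rw [map_mul]; exact mul_ne_zero hd ht
  · rw [map_mul, ← h]; ring

theorem IsFrac.of_tower {S' : Type u} [CommRing S'] [Algebra S' k'] (f : S →+* S')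
    (hf : ∀ s, algebraMap S' k' (f s) = algebraMap S k' s) {x : k'} (hx : IsFrac S x) :
    IsFrac S' x := by
  obtain ⟨s, t, ht, h⟩ := hx
  exact ⟨f s, f t, by rwa [hf], by rw [hf, hf, h]⟩

end Frac

section Integral
variable (R K k' : Type u) [CommRing R] [Field K] [Field k'] [Algebra R K] [Algebra K k']
  [Algebra R k'] [IsScalarTower R K k']

theorem exists_integral_mul
    (hK : ∀ x : K, ∃ a b : R, algebraMap R K b ≠ 0 ∧ x * algebraMap R K b = algebraMap R K a)
    (g : k') (hg : IsIntegral K g) :
    ∃ d : R, algebraMap R K d ≠ 0 ∧ IsIntegral R (algebraMap R k' d * g) := by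
  -- the domain `R₀ = R / ker`
  letI algR0K : Algebra (R ⧸ RingHom.ker (algebraMap R K)) K :=
    (RingHom.kerLift (algebraMap R K)).toAlgebra
  have hinj : Function.Injective (algebraMap (R ⧸ RingHom.ker (algebraMap R K)) K) :=
    RingHom.kerLift_injective (algebraMap R K)
  haveI : FaithfulSMul (R ⧸ RingHom.ker (algebraMap R K)) K :=
    (faithfulSMul_iff_algebraMap_injective _ _).2 hinj
  have hmk : ∀ r : R, algebraMap (R ⧸ RingHom.ker (algebraMap R K)) K
      (Ideal.Quotient.mk _ r) = algebraMap R K r := fun r => rfl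
  haveI : IsFractionRing (R ⧸ RingHom.ker (algebraMap R K)) K := by
    apply IsFractionRing.of_field
    intro z
    obtain ⟨a, b, hb, h⟩ := hK z
    refine ⟨Ideal.Quotient.mk _ a, Ideal.Quotient.mk _ b, ?_⟩
    rw [hmk, hmk, eq_div_iff hb, h]
  haveI : IsDomain (R ⧸ RingHom.ker (algebraMap R K)) :=
    hinj.isDomain (algebraMap (R ⧸ RingHom.ker (algebraMap R K)) K)
  letI algR0k' : Algebra (R ⧸ RingHom.ker (algebraMap R K)) k' :=
    ((algebraMap K k').comp (algebraMap (R ⧸ RingHom.ker (algebraMap R K)) K)).toAlgebra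
  haveI : IsScalarTower (R ⧸ RingHom.ker (algebraMap R K)) K k' :=
    IsScalarTower.of_algebraMap_eq (fun _ => rfl)
  haveI : IsScalarTower R (R ⧸ RingHom.ker (algebraMap R K)) k' :=
    IsScalarTower.of_algebraMap_eq (fun r => by
      show algebraMap R k' r = algebraMap K k' (algebraMap (R ⧸ RingHom.ker (algebraMap R K)) K
        (Ideal.Quotient.mk _ r))
      rw [hmk, ← IsScalarTower.algebraMap_apply])
  have halg : IsAlgebraic (R ⧸ RingHom.ker (algebraMap R K)) g :=
    (IsFractionRing.isAlgebraic_iff (R ⧸ RingHom.ker (algebraMap R K)) K k').2 hg.isAlgebraic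
  obtain ⟨y, hy0, hy⟩ := halg.exists_integral_multiple
  obtain ⟨d, rfl⟩ := Ideal.Quotient.mk_surjective y
  refine ⟨d, ?_, ?_⟩
  · intro h0
    apply hy0
    apply hinj
    rw [hmk, h0, map_zero]
  · haveI : Algebra.IsIntegral R (R ⧸ RingHom.ker (algebraMap R K)) :=
      Algebra.isIntegral_of_surjective Ideal.Quotient.mk_surjective
    have h1 : IsIntegral R ((Ideal.Quotient.mk (RingHom.ker (algebraMap R K)) d) • g) :=
      isIntegral_trans _ hy
    have h2 : (Ideal.Quotient.mk (RingHom.ker (algebraMap R K)) d) • g =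
        algebraMap R k' d * g := by
      rw [Algebra.smul_def]
      congr 1
      show algebraMap K k' (algebraMap (R ⧸ RingHom.ker (algebraMap R K)) K
        (Ideal.Quotient.mk _ d)) = _
      rw [hmk, ← IsScalarTower.algebraMap_apply]
    rwa [h2] at h1

end Integral

/-- a finite free `R`-algebra mapping to `k'`. -/
structure Pack (R k' : Type u) [CommRing R] [Field k'] [Algebra R k'] where
  S : Type u
  [cr : CommRing S]
  [alg : Algebra R S]
  [fin : Module.Finite R S]
  [free : Module.Free R S]
  [algk : Algebra S k']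
  [tower : IsScalarTower R S k']

attribute [instance] Pack.cr Pack.alg Pack.fin Pack.free Pack.algk Pack.tower

section Main
variable (R K k' : Type u) [CommRing R] [Field K] [Field k'] [Algebra R K] [Algebra K k']
  [Algebra R k'] [IsScalarTower R K k'] [Module.Finite K k']

theorem exists_pack_finset
    (hK : ∀ x : K, ∃ a b : R, algebraMap R K b ≠ 0 ∧ x * algebraMap R K b = algebraMap R K a)
    (G : Finset k') : ∃ P : Pack R k', ∀ g ∈ G, IsFrac P.S g := by
  classical
  induction G using Finset.induction_on with
  | empty =>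
    exact ⟨{ S := R }, fun g hg => absurd hg (Finset.notMem_empty g)⟩
  | insert g G hgG ih =>
    obtain ⟨P, hP⟩ := ih
    have hgint : IsIntegral K g := Algebra.IsIntegral.isIntegral g
    obtain ⟨d, hd, hint⟩ := exists_integral_mul R K k' hK g hgint
    obtain ⟨F, hFm, hF0⟩ := hint
    -- the monic polynomial over `P.S`
    have hFm' : (F.map (algebraMap R P.S)).Monic := hFm.map _
    have hroot : (F.map (algebraMap R P.S)).eval₂ (algebraMap P.S k') (algebraMap R k' d * g) = 0 := by
      rw [Polynomial.eval₂_map, ← IsScalarTower.algebraMap_eq]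
      exact hF0
    haveI := hFm'.finite_adjoinRoot
    haveI := hFm'.free_adjoinRoot
    haveI : Module.Finite R (AdjoinRoot (F.map (algebraMap R P.S))) :=
      Module.Finite.trans P.S _
    haveI : Module.Free R (AdjoinRoot (F.map (algebraMap R P.S))) :=
      Module.Free.trans (R := R) (S := P.S) (M := AdjoinRoot (F.map (algebraMap R P.S)))
    letI algk : Algebra (AdjoinRoot (F.map (algebraMap R P.S))) k' :=
      (AdjoinRoot.lift (algebraMap P.S k') (algebraMap R k' d * g) hroot).toAlgebra
    have hof : ∀ s : P.S, algebraMap (AdjoinRoot (F.map (algebraMap R P.S))) k'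
        (AdjoinRoot.of (F.map (algebraMap R P.S)) s) = algebraMap P.S k' s := by
      intro s
      exact AdjoinRoot.lift_of hroot
    haveI : IsScalarTower R (AdjoinRoot (F.map (algebraMap R P.S))) k' :=
      IsScalarTower.of_algebraMap_eq (fun r => by
        rw [IsScalarTower.algebraMap_apply R P.S (AdjoinRoot (F.map (algebraMap R P.S))),
          AdjoinRoot.algebraMap_eq, hof, ← IsScalarTower.algebraMap_apply])
    refine ⟨{ S := AdjoinRoot (F.map (algebraMap R P.S)) }, ?_⟩
    intro x hx
    rw [Finset.mem_insert] at hx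
    rcases hx with rfl | hx
    · -- the new element
      have hdk : algebraMap (AdjoinRoot (F.map (algebraMap R P.S))) k'
          (algebraMap R (AdjoinRoot (F.map (algebraMap R P.S))) d) ≠ 0 := by
        rw [← IsScalarTower.algebraMap_apply, IsScalarTower.algebraMap_apply R K k']
        exact (map_ne_zero_iff _ (algebraMap K k').injective).2 hd
      apply IsFrac.div_of_mul hdk
      have : algebraMap (AdjoinRoot (F.map (algebraMap R P.S))) k'
          (algebraMap R (AdjoinRoot (F.map (algebraMap R P.S))) d) * x =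
          algebraMap (AdjoinRoot (F.map (algebraMap R P.S))) k'
            (AdjoinRoot.root (F.map (algebraMap R P.S))) := by
        rw [← IsScalarTower.algebraMap_apply]
        exact (AdjoinRoot.lift_root hroot).symm
      rw [this]
      exact isFrac_algebraMap _
    · exact IsFrac.of_tower (AdjoinRoot.of (F.map (algebraMap R P.S))) hof (hP x hx)

theorem exists_pack
    (hK : ∀ x : K, ∃ a b : R, algebraMap R K b ≠ 0 ∧ x * algebraMap R K b = algebraMap R K a) :
    ∃ P : Pack R k', ∀ x : k', IsFrac P.S x := by
  classical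
  obtain ⟨G, hG⟩ := (Module.finite_def.1 (inferInstance : Module.Finite K k'))
  obtain ⟨P, hP⟩ := exists_pack_finset R K k' hK G
  refine ⟨P, ?_⟩
  -- the `K`-subalgebra of fractions
  have hKfrac : ∀ c : K, IsFrac P.S (algebraMap K k' c) := by
    intro c
    obtain ⟨a, b, hb, h⟩ := hK c
    refine ⟨algebraMap R P.S a, algebraMap R P.S b, ?_, ?_⟩
    · rw [← IsScalarTower.algebraMap_apply, IsScalarTower.algebraMap_apply R K k']
      exact (map_ne_zero_iff _ (algebraMap K k').injective).2 hb
    · rw [← IsScalarTower.algebraMap_apply, ← IsScalarTower.algebraMap_apply,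
        IsScalarTower.algebraMap_apply R K k', IsScalarTower.algebraMap_apply R K k', ← map_mul, h]
  intro x
  have hx : x ∈ Submodule.span K (G : Set k') := by rw [hG]; trivial
  induction hx using Submodule.span_induction with
  | mem y hy => exact hP y hy
  | zero => exact ⟨0, 1, by rw [map_one]; exact one_ne_zero, by simp⟩
  | add y z _ _ hy hz => exact hy.add hz
  | smul c y _ hy =>
    rw [Algebra.smul_def]
    exact (hKfrac c).mul hy

end Main

end Groth.Agent.Helper8.GFib
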