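import Mathlib
import Groth.Prelude.Def_Found
import Groth.Prelude.Def_EGA4b
import Groth.Agent.Helper7.CKx2

/-!
# GFibC: the completion of a local ring of a finite algebra `S` over `R` at a prime over `p0`
is the completion of the corresponding local ring of `S ⊗ (R_p0)^`
-/

set_option autoImplicit false
set_option linter.style.haveILetI false
set_option linter.unusedSectionVars false
set_option linter.unusedVariables false
open TensorProduct IsLocalRing
universe u

namespace Groth.Agent.Helper8.GFib

theorem mem_of_unit_mul_mem {D : Type*} [CommRing D] (J : Ideal D) {u x : D} (hu : IsUnit u)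
    (h : u * x ∈ J) : x ∈ J := by
  obtain ⟨w, hw⟩ := hu.exists_left_inv
  have := J.mul_mem_left w h
  rwa [← mul_assoc, hw, one_mul] at this

section Lvl
variable (B D : Type u) [CommRing B] [CommRing D] [IsLocalRing B] [IsLocalRing D]
  [Algebra B D] [IsLocalHom (algebraMap B D)]

theorem map_maximalIdeal_le : (maximalIdeal B).map (algebraMap B D) ≤ maximalIdeal D := by
  have h : IsLocalHom (algebraMap B D) := inferInstance
  exact ((IsLocalRing.local_hom_TFAE (algebraMap B D)).out 0 2).mp h

theorem maximalIdeal_eq_map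
    (hd : ∀ z : D, ∃ b : B, z - algebraMap B D b ∈ (maximalIdeal B).map (algebraMap B D)) :
    maximalIdeal D = (maximalIdeal B).map (algebraMap B D) := by
  apply le_antisymm _ (map_maximalIdeal_le B D)
  intro z hz
  obtain ⟨b, hb⟩ := hd z
  have h1 : algebraMap B D b ∈ maximalIdeal D := by
    have : algebraMap B D b = z - (z - algebraMap B D b) := by ring
    rw [this]
    exact Ideal.sub_mem _ hz (map_maximalIdeal_le B D hb)
  have h2 : b ∈ maximalIdeal B := by
    by_contra hb'
    have hu : IsUnit b := by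
      rwa [mem_maximalIdeal, mem_nonunits_iff, not_not] at hb'
    exact (mem_maximalIdeal _).1 h1 (hu.map _)
  have : z = (z - algebraMap B D b) + algebraMap B D b := by ring
  rw [this]
  exact Ideal.add_mem _ hb (Ideal.mem_map_of_mem _ h2)

theorem exists_cplEquiv [Module.Flat B D]
    (hd : ∀ (j : ℕ) (z : D), ∃ b : B,
      z - algebraMap B D b ∈ (maximalIdeal B ^ j).map (algebraMap B D)) :
    ∃ e : EGA4.Cpl B ≃+* EGA4.Cpl D, ∀ b : B,
      e (algebraMap B (EGA4.Cpl B) b) = algebraMap D (EGA4.Cpl D) (algebraMap B D b) := by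
  haveI : Module.FaithfullyFlat B D := Module.FaithfullyFlat.of_flat_of_isLocalHom
  have hmax : maximalIdeal D = (maximalIdeal B).map (algebraMap B D) :=
    maximalIdeal_eq_map B D (fun z => by simpa using hd 1 z)
  have hpow : ∀ n, maximalIdeal D ^ n = (maximalIdeal B ^ n).map (algebraMap B D) := fun n => by
    rw [hmax, Ideal.map_pow]
  have hΦ := map_maximalIdeal_le B D
  have hbij := Groth.Agent.Helper7.CKd.lift_bijective_of_levelwise (maximalIdeal B)
    (maximalIdeal D) (algebraMap B D) hΦ
    (fun n t ht => by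
      rw [hpow] at ht
      have h1 : t ∈ ((maximalIdeal B ^ n).map (algebraMap B D)).comap (algebraMap B D) := ht
      rwa [Ideal.comap_map_eq_self_of_faithfullyFlat] at h1)
    (fun n z => by
      obtain ⟨b, hb⟩ := hd n z
      exact ⟨b, by rw [hpow]; exact hb⟩)
  exact ⟨RingEquiv.ofBijective _ hbij,
    fun b => Groth.Agent.Helper3.ComplMap.lift_of _ _ _ hΦ b⟩

end Lvl

section general
variable {S : Type*} [CommRing S] (I : Ideal S)

open AdicCompletion in
lemma mem_map_pow_of_evalₐ_eq_zero (hfg : I.FG) (n : ℕ) (t : AdicCompletion I S)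
    (ht : evalₐ I n t = 0) : t ∈ (I ^ n).map (algebraMap S (AdicCompletion I S)) := by
  have h1 : t ∈ (I ^ n • ⊤ : Submodule S (AdicCompletion I S)) := by
    rw [pow_smul_top_eq_ker_eval hfg, LinearMap.mem_ker]
    induction t using AdicCompletion.induction_on with
    | h x =>
      rw [evalₐ_mk, Ideal.Quotient.eq_zero_iff_mem] at ht
      rw [eval_apply, mk_apply_coe, Submodule.mkQ_apply, Submodule.Quotient.mk_eq_zero,
        smul_eq_mul, Ideal.mul_top]
      exact ht
  rw [Ideal.smul_top_eq_map] at h1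
  exact h1

end general

section Dense
variable (R : Type u) [CommRing R] [IsNoetherianRing R] (p0 : Ideal R) [p0.IsPrime]
  (S : Type u) [CommRing S] [Algebra R S]

/-- every element of the completion of `R_p0` is, up to a unit of `R_p0` coming from `R`, an element
of `R` modulo `p0^j`. -/
theorem exists_approx (j : ℕ) (x : EGA4.Cpl (Localization.AtPrime p0)) :
    ∃ (r u : R), u ∉ p0 ∧
      algebraMap R (EGA4.Cpl (Localization.AtPrime p0)) u * x -
        algebraMap R (EGA4.Cpl (Localization.AtPrime p0)) r ∈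
        (p0 ^ j).map (algebraMap R (EGA4.Cpl (Localization.AtPrime p0))) := by
  haveI : IsNoetherianRing (Localization.AtPrime p0) :=
    IsLocalization.isNoetherianRing p0.primeCompl _ inferInstance
  have hfg : (maximalIdeal (Localization.AtPrime p0)).FG :=
    (maximalIdeal (Localization.AtPrime p0)).fg_of_isNoetherianRing
  obtain ⟨a, ha⟩ := Ideal.Quotient.mk_surjective
    (AdicCompletion.evalₐ (maximalIdeal (Localization.AtPrime p0)) j x)
  have h1 : x - algebraMap (Localization.AtPrime p0) (EGA4.Cpl (Localization.AtPrime p0)) a ∈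
      (maximalIdeal (Localization.AtPrime p0) ^ j).map
        (algebraMap (Localization.AtPrime p0) (EGA4.Cpl (Localization.AtPrime p0))) := by
    apply mem_map_pow_of_evalₐ_eq_zero _ hfg
    rw [map_sub, ← ha]
    have : algebraMap (Localization.AtPrime p0) (EGA4.Cpl (Localization.AtPrime p0)) a =
        AdicCompletion.of (maximalIdeal (Localization.AtPrime p0)) (Localization.AtPrime p0) a := rfl
    rw [this, AdicCompletion.evalₐ_of, sub_self]
  obtain ⟨⟨r, u⟩, hru⟩ := IsLocalization.surj p0.primeCompl a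
  refine ⟨r, u.1, u.2, ?_⟩
  have hm : maximalIdeal (Localization.AtPrime p0) ^ j =
      (p0 ^ j).map (algebraMap R (Localization.AtPrime p0)) := by
    rw [Ideal.map_pow, Localization.AtPrime.map_eq_maximalIdeal]
  rw [hm, Ideal.map_map, ← IsScalarTower.algebraMap_eq] at h1
  have h2 : algebraMap R (EGA4.Cpl (Localization.AtPrime p0)) u * x -
      algebraMap R (EGA4.Cpl (Localization.AtPrime p0)) r =
      algebraMap R (EGA4.Cpl (Localization.AtPrime p0)) u *
        (x - algebraMap (Localization.AtPrime p0) (EGA4.Cpl (Localization.AtPrime p0)) a) := by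
    have h3 : algebraMap R (EGA4.Cpl (Localization.AtPrime p0)) r =
        algebraMap R (EGA4.Cpl (Localization.AtPrime p0)) u *
          algebraMap (Localization.AtPrime p0) (EGA4.Cpl (Localization.AtPrime p0)) a := by
      rw [IsScalarTower.algebraMap_apply R (Localization.AtPrime p0)
        (EGA4.Cpl (Localization.AtPrime p0)) r, ← hru, map_mul,
        ← IsScalarTower.algebraMap_apply]
      ring
    rw [h3]; ring
  rw [h2]
  exact Ideal.mul_mem_left _ _ h1

variable (M : Ideal (S ⊗[R] EGA4.Cpl (Localization.AtPrime p0))) [M.IsPrime]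

/-- the contraction of `M` to `S`. -/
noncomputable abbrev qOf : Ideal S :=
  M.comap (algebraMap S (S ⊗[R] EGA4.Cpl (Localization.AtPrime p0)))

instance : (qOf R p0 S M).IsPrime := Ideal.comap_isPrime _ _

variable (hM : ∀ x ∈ maximalIdeal (EGA4.Cpl (Localization.AtPrime p0)),
    ((1 : S) ⊗ₜ[R] x) ∈ M)

include hM in
theorem algebraMap_mem_q {r : R} (hr : r ∈ p0) : algebraMap R S r ∈ qOf R p0 S M := by
  show algebraMap S (S ⊗[R] EGA4.Cpl (Localization.AtPrime p0)) (algebraMap R S r) ∈ M
  have h1 : algebraMap S (S ⊗[R] EGA4.Cpl (Localization.AtPrime p0)) (algebraMap R S r) =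
      (1 : S) ⊗ₜ[R] (algebraMap R (EGA4.Cpl (Localization.AtPrime p0)) r) := by
    rw [Algebra.TensorProduct.algebraMap_apply]
    show (algebraMap R S r) ⊗ₜ[R] (1 : EGA4.Cpl (Localization.AtPrime p0)) = _
    rw [Algebra.algebraMap_eq_smul_one, Algebra.algebraMap_eq_smul_one
      (A := EGA4.Cpl (Localization.AtPrime p0)), TensorProduct.smul_tmul]
  rw [h1]
  apply hM
  haveI : IsNoetherianRing (Localization.AtPrime p0) :=
    IsLocalization.isNoetherianRing p0.primeCompl _ inferInstance
  rw [IsScalarTower.algebraMap_apply R (Localization.AtPrime p0)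
    (EGA4.Cpl (Localization.AtPrime p0)) r]
  have h2 : algebraMap R (Localization.AtPrime p0) r ∈ maximalIdeal (Localization.AtPrime p0) := by
    rw [← Localization.AtPrime.map_eq_maximalIdeal]
    exact Ideal.mem_map_of_mem _ hr
  have h3 : IsLocalHom (algebraMap (Localization.AtPrime p0)
      (EGA4.Cpl (Localization.AtPrime p0))) := inferInstance
  by_contra hnot
  have hu : IsUnit (algebraMap (Localization.AtPrime p0) (EGA4.Cpl (Localization.AtPrime p0))
      (algebraMap R (Localization.AtPrime p0) r)) := by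
    rwa [mem_maximalIdeal, mem_nonunits_iff, not_not] at hnot
  exact (mem_maximalIdeal _).1 h2 (h3.map_nonunit _ hu)

theorem algebraMap_notMem_q {u : R} (hu : u ∉ p0) : algebraMap R S u ∉ qOf R p0 S M := by
  intro hmem
  have hmem' : algebraMap S (S ⊗[R] EGA4.Cpl (Localization.AtPrime p0)) (algebraMap R S u) ∈ M :=
    hmem
  have h1 : algebraMap S (S ⊗[R] EGA4.Cpl (Localization.AtPrime p0)) (algebraMap R S u) =
      algebraMap R (S ⊗[R] EGA4.Cpl (Localization.AtPrime p0)) u := by
    rw [← IsScalarTower.algebraMap_apply]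
  rw [h1] at hmem'
  have h2 : IsUnit (algebraMap R (Localization.AtPrime p0) u) :=
    IsLocalization.map_units (Localization.AtPrime p0) (⟨u, hu⟩ : p0.primeCompl)
  have h3 : IsUnit (algebraMap R (S ⊗[R] EGA4.Cpl (Localization.AtPrime p0)) u) := by
    have h4 : algebraMap R (S ⊗[R] EGA4.Cpl (Localization.AtPrime p0)) u =
        (Algebra.TensorProduct.includeRight : EGA4.Cpl (Localization.AtPrime p0) →ₐ[R]
          S ⊗[R] EGA4.Cpl (Localization.AtPrime p0))
          (algebraMap (Localization.AtPrime p0) (EGA4.Cpl (Localization.AtPrime p0))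
            (algebraMap R (Localization.AtPrime p0) u)) := by
      rw [← IsScalarTower.algebraMap_apply R (Localization.AtPrime p0)
        (EGA4.Cpl (Localization.AtPrime p0)), AlgHom.commutes]
    rw [h4]
    exact (h2.map _).map _
  exact (Ideal.IsPrime.ne_top inferInstance) (Ideal.eq_top_of_isUnit_mem _ hmem' h3)

include hM in
theorem map_le_q : p0.map (algebraMap R S) ≤ qOf R p0 S M :=
  Ideal.map_le_iff_le_comap.2 (fun r hr => algebraMap_mem_q R p0 S M hM hr)

variable (B D : Type u) [CommRing B] [CommRing D] [Algebra S B]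
  [Algebra (S ⊗[R] EGA4.Cpl (Localization.AtPrime p0)) D]
  [IsLocalization.AtPrime B (qOf R p0 S M)] [IsLocalization.AtPrime D M]
  [IsLocalRing B] [IsLocalRing D]
  [Algebra B D] [Algebra S D] [IsScalarTower S (S ⊗[R] EGA4.Cpl (Localization.AtPrime p0)) D]
  [IsScalarTower S B D] [IsLocalHom (algebraMap B D)]

theorem algebraMap_BD (s : S) :
    algebraMap B D (algebraMap S B s) =
    algebraMap (S ⊗[R] EGA4.Cpl (Localization.AtPrime p0)) D (s ⊗ₜ 1) := by
  rw [← IsScalarTower.algebraMap_apply S B D, IsScalarTower.algebraMap_apply S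
    (S ⊗[R] EGA4.Cpl (Localization.AtPrime p0)) D, Algebra.TensorProduct.algebraMap_apply]
  rfl

include hM in
theorem map_pow_mem (j : ℕ) {π : R} (hπ : π ∈ p0 ^ j) :
    algebraMap (S ⊗[R] EGA4.Cpl (Localization.AtPrime p0)) D
      (algebraMap R (S ⊗[R] EGA4.Cpl (Localization.AtPrime p0)) π) ∈
    (maximalIdeal B ^ j).map (algebraMap B D) := by
  have h1 : algebraMap R (S ⊗[R] EGA4.Cpl (Localization.AtPrime p0)) π =
      (algebraMap R S π) ⊗ₜ[R] (1 : EGA4.Cpl (Localization.AtPrime p0)) := by
    rw [IsScalarTower.algebraMap_apply R S (S ⊗[R] EGA4.Cpl (Localization.AtPrime p0)),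
      Algebra.TensorProduct.algebraMap_apply]
    rfl
  rw [h1, ← algebraMap_BD R p0 S B D]
  apply Ideal.mem_map_of_mem
  have h2 : algebraMap R S π ∈ (qOf R p0 S M) ^ j := by
    have h3 : algebraMap R S π ∈ (p0 ^ j).map (algebraMap R S) := Ideal.mem_map_of_mem _ hπ
    rw [Ideal.map_pow] at h3
    exact Ideal.pow_right_mono (map_le_q R p0 S M hM) j h3
  have h4 := Ideal.mem_map_of_mem (algebraMap S B) h2
  rwa [Ideal.map_pow, IsLocalization.AtPrime.map_eq_maximalIdeal (qOf R p0 S M) B] at h4

include hM in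
theorem tmul_mem (j : ℕ) {y : EGA4.Cpl (Localization.AtPrime p0)}
    (hy : y ∈ (p0 ^ j).map (algebraMap R (EGA4.Cpl (Localization.AtPrime p0)))) (s : S) :
    algebraMap (S ⊗[R] EGA4.Cpl (Localization.AtPrime p0)) D (s ⊗ₜ[R] y) ∈
    (maximalIdeal B ^ j).map (algebraMap B D) := by
  unfold Ideal.map at hy
  induction hy using Submodule.span_induction generalizing s with
  | mem y hy =>
    obtain ⟨π, hπ, rfl⟩ := hy
    have h1 : s ⊗ₜ[R] (algebraMap R (EGA4.Cpl (Localization.AtPrime p0)) π) =
        algebraMap R (S ⊗[R] EGA4.Cpl (Localization.AtPrime p0)) π *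
          (s ⊗ₜ[R] (1 : EGA4.Cpl (Localization.AtPrime p0))) := by
      rw [Algebra.algebraMap_eq_smul_one (A := EGA4.Cpl (Localization.AtPrime p0)),
        TensorProduct.tmul_smul]
      exact Algebra.smul_def π (s ⊗ₜ[R] (1 : EGA4.Cpl (Localization.AtPrime p0)))
    rw [h1, map_mul]
    exact Ideal.mul_mem_right _ _ (map_pow_mem R p0 S M hM B D j hπ)
  | zero =>
    rw [TensorProduct.tmul_zero, map_zero]
    exact Ideal.zero_mem _
  | add y z _ _ hy hz =>
    rw [TensorProduct.tmul_add, map_add]
    exact Ideal.add_mem _ (hy s) (hz s)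
  | smul a y _ hy =>
    have h1 : s ⊗ₜ[R] (a • y) = ((1 : S) ⊗ₜ[R] a) * (s ⊗ₜ[R] y) := by
      rw [Algebra.TensorProduct.tmul_mul_tmul, one_mul, smul_eq_mul]
    rw [h1, map_mul]
    exact Ideal.mul_mem_left _ _ (hy s)

include hM in
theorem exists_sub_mem_T (j : ℕ) (t : S ⊗[R] EGA4.Cpl (Localization.AtPrime p0)) :
    ∃ b : B, algebraMap (S ⊗[R] EGA4.Cpl (Localization.AtPrime p0)) D t - algebraMap B D b ∈
      (maximalIdeal B ^ j).map (algebraMap B D) := by
  induction t using TensorProduct.induction_on with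
  | zero => exact ⟨0, by simp⟩
  | add t₁ t₂ h₁ h₂ =>
    obtain ⟨b₁, hb₁⟩ := h₁
    obtain ⟨b₂, hb₂⟩ := h₂
    refine ⟨b₁ + b₂, ?_⟩
    have : algebraMap (S ⊗[R] EGA4.Cpl (Localization.AtPrime p0)) D (t₁ + t₂) -
        algebraMap B D (b₁ + b₂) =
        (algebraMap (S ⊗[R] EGA4.Cpl (Localization.AtPrime p0)) D t₁ - algebraMap B D b₁) +
        (algebraMap (S ⊗[R] EGA4.Cpl (Localization.AtPrime p0)) D t₂ - algebraMap B D b₂) := by
      rw [map_add, map_add]; ring
    rw [this]
    exact Ideal.add_mem _ hb₁ hb₂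
  | tmul s x =>
    obtain ⟨r, u, hu, h⟩ := exists_approx R p0 j x
    have hunit : IsUnit (algebraMap S B (algebraMap R S u)) :=
      IsLocalization.map_units B
        (⟨algebraMap R S u, algebraMap_notMem_q R p0 S M hu⟩ : (qOf R p0 S M).primeCompl)
    obtain ⟨v, hv⟩ := hunit.exists_right_inv
    refine ⟨v * algebraMap S B (algebraMap R S r * s), ?_⟩
    have hunitD : IsUnit (algebraMap B D (algebraMap S B (algebraMap R S u))) := hunit.map _
    have e1 : algebraMap B D (algebraMap S B (algebraMap R S u)) *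
        algebraMap (S ⊗[R] EGA4.Cpl (Localization.AtPrime p0)) D (s ⊗ₜ[R] x) =
        algebraMap (S ⊗[R] EGA4.Cpl (Localization.AtPrime p0)) D
          (s ⊗ₜ[R] (algebraMap R (EGA4.Cpl (Localization.AtPrime p0)) u * x)) := by
      rw [algebraMap_BD R p0 S B D, ← map_mul, Algebra.TensorProduct.tmul_mul_tmul, one_mul]
      congr 1
      rw [Algebra.algebraMap_eq_smul_one (A := S), Algebra.algebraMap_eq_smul_one
        (A := EGA4.Cpl (Localization.AtPrime p0)), smul_mul_assoc, one_mul, smul_mul_assoc,
        one_mul, TensorProduct.smul_tmul]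
    have e2 : algebraMap B D (algebraMap S B (algebraMap R S u)) *
        algebraMap B D (v * algebraMap S B (algebraMap R S r * s)) =
        algebraMap (S ⊗[R] EGA4.Cpl (Localization.AtPrime p0)) D
          (s ⊗ₜ[R] (algebraMap R (EGA4.Cpl (Localization.AtPrime p0)) r)) := by
      rw [← map_mul, ← mul_assoc, hv, one_mul, algebraMap_BD R p0 S B D]
      congr 1
      rw [Algebra.algebraMap_eq_smul_one (A := S), Algebra.algebraMap_eq_smul_one
        (A := EGA4.Cpl (Localization.AtPrime p0)), smul_mul_assoc, one_mul,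
        TensorProduct.smul_tmul]
    have key : algebraMap B D (algebraMap S B (algebraMap R S u)) *
        (algebraMap (S ⊗[R] EGA4.Cpl (Localization.AtPrime p0)) D (s ⊗ₜ[R] x) -
          algebraMap B D (v * algebraMap S B (algebraMap R S r * s))) =
        algebraMap (S ⊗[R] EGA4.Cpl (Localization.AtPrime p0)) D
          (s ⊗ₜ[R] (algebraMap R (EGA4.Cpl (Localization.AtPrime p0)) u * x -
            algebraMap R (EGA4.Cpl (Localization.AtPrime p0)) r)) := by
      rw [mul_sub, e1, e2, ← map_sub, ← TensorProduct.tmul_sub]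
    have hmem := tmul_mem R p0 S M hM B D j h s
    rw [← key] at hmem
    exact mem_of_unit_mul_mem _ hunitD hmem

include hM in
theorem dense (j : ℕ) (z : D) :
    ∃ b : B, z - algebraMap B D b ∈ (maximalIdeal B ^ j).map (algebraMap B D) := by
  rcases Nat.eq_zero_or_pos j with rfl | hj
  · refine ⟨0, ?_⟩
    rw [pow_zero, Ideal.one_eq_top, Ideal.map_top]
    trivial
  obtain ⟨t, σ, rfl⟩ := IsLocalization.exists_mk'_eq M.primeCompl z
  obtain ⟨bt, hbt⟩ := exists_sub_mem_T R p0 S M hM B D j t
  obtain ⟨bσ, hbσ⟩ := exists_sub_mem_T R p0 S M hM B D j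
    (σ : S ⊗[R] EGA4.Cpl (Localization.AtPrime p0))
  have hσunit : IsUnit (algebraMap (S ⊗[R] EGA4.Cpl (Localization.AtPrime p0)) D σ) :=
    IsLocalization.map_units _ σ
  have hJle : (maximalIdeal B ^ j).map (algebraMap B D) ≤ maximalIdeal D :=
    (Ideal.map_mono (Ideal.pow_le_self (Nat.pos_iff_ne_zero.1 hj))).trans
      (map_maximalIdeal_le B D)
  have hbσunit : IsUnit bσ := by
    by_contra hnot
    have h1 : bσ ∈ maximalIdeal B := hnot
    have h2 : algebraMap B D bσ ∈ maximalIdeal D :=
      map_maximalIdeal_le B D (Ideal.mem_map_of_mem _ h1)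
    have h3 := Ideal.add_mem _ (hJle hbσ) h2
    rw [sub_add_cancel] at h3
    exact (mem_maximalIdeal _).1 h3 hσunit
  obtain ⟨v, hv⟩ := hbσunit.exists_right_inv
  refine ⟨bt * v, ?_⟩
  have h1 : algebraMap (S ⊗[R] EGA4.Cpl (Localization.AtPrime p0)) D σ *
      IsLocalization.mk' D t σ =
      algebraMap (S ⊗[R] EGA4.Cpl (Localization.AtPrime p0)) D t := by
    rw [mul_comm, IsLocalization.mk'_spec]
  have h2 : algebraMap B D bσ * algebraMap B D (bt * v) = algebraMap B D bt := by
    rw [← map_mul]
    congr 1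
    rw [mul_comm bt v, ← mul_assoc, hv, one_mul]
  have key : algebraMap (S ⊗[R] EGA4.Cpl (Localization.AtPrime p0)) D σ *
      (IsLocalization.mk' D t σ - algebraMap B D (bt * v)) =
      (algebraMap (S ⊗[R] EGA4.Cpl (Localization.AtPrime p0)) D t - algebraMap B D bt) -
      (algebraMap (S ⊗[R] EGA4.Cpl (Localization.AtPrime p0)) D σ - algebraMap B D bσ) *
        algebraMap B D (bt * v) := by
    linear_combination h1 - h2
  have hmem : algebraMap (S ⊗[R] EGA4.Cpl (Localization.AtPrime p0)) D σ *
      (IsLocalization.mk' D t σ - algebraMap B D (bt * v)) ∈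
      (maximalIdeal B ^ j).map (algebraMap B D) := by
    rw [key]
    exact Ideal.sub_mem _ hbt (Ideal.mul_mem_right _ _ hbσ)
  exact mem_of_unit_mul_mem _ hσunit hmem

include M in
theorem flat_BD : Module.Flat B D := by
  haveI : IsNoetherianRing (Localization.AtPrime p0) :=
    IsLocalization.isNoetherianRing p0.primeCompl _ inferInstance
  haveI : Module.Flat R (Localization.AtPrime p0) := IsLocalization.flat _ p0.primeCompl
  haveI : Module.Flat (Localization.AtPrime p0) (EGA4.Cpl (Localization.AtPrime p0)) :=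
    inferInstance
  haveI : Module.Flat R (EGA4.Cpl (Localization.AtPrime p0)) :=
    Module.Flat.trans R (Localization.AtPrime p0) _
  haveI : Module.Flat S (S ⊗[R] EGA4.Cpl (Localization.AtPrime p0)) := inferInstance
  haveI : Module.Flat (S ⊗[R] EGA4.Cpl (Localization.AtPrime p0)) D :=
    IsLocalization.flat _ M.primeCompl
  haveI : Module.Flat S D :=
    Module.Flat.trans S (S ⊗[R] EGA4.Cpl (Localization.AtPrime p0)) _
  exact (Module.flat_iff_of_isLocalization B (qOf R p0 S M).primeCompl D).2 inferInstance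

end Dense

end Groth.Agent.Helper8.GFib
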