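import Mathlib
import Groth.Prelude.Def_Found
import Groth.Prelude.Def_EGA4b
import Groth.Agent.Helper8.GFibA
import Groth.Agent.Helper8.GFibB
import Groth.Agent.Helper8.GFibC
import Groth.Agent.Helper7.CKv5

/-!
# GFibD: G-rings via formal fibres of local rings of finite free algebras (S9274), key step
-/

set_option autoImplicit false
set_option linter.style.haveILetI false
set_option linter.unusedSectionVars false
set_option linter.unusedVariables false
open TensorProduct IsLocalRing
universe u

namespace Groth.Agent.Helper8.GFib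

section ResEquiv
variable (B L : Type u) [CommRing B] [Field L] [Algebra B L]

instance ker_isPrime : (RingHom.ker (algebraMap B L)).IsPrime := RingHom.ker_isPrime _

/-- a field generated by fractions of the image of `B` is the residue field of the kernel. -/
theorem exists_residueField_algEquiv (hfrac : ∀ x : L, IsFrac B x) :
    Nonempty ((RingHom.ker (algebraMap B L)).ResidueField ≃ₐ[B] L) := by
  have hf₂ : (RingHom.ker (algebraMap B L)).primeCompl ≤
      (IsUnit.submonoid L).comap (Algebra.ofId B L) := by
    intro x hx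
    have : algebraMap B L x ≠ 0 := fun h => hx h
    exact isUnit_iff_ne_zero.2 this
  have hf₁ : RingHom.ker (algebraMap B L) ≤ RingHom.ker (Algebra.ofId B L) := le_rfl
  obtain ⟨f, hf⟩ : ∃ f : (RingHom.ker (algebraMap B L)).ResidueField →ₐ[B] L,
      ∀ b : B, f (algebraMap B _ b) = algebraMap B L b :=
    ⟨Ideal.ResidueField.liftₐ (RingHom.ker (algebraMap B L)) (Algebra.ofId B L) hf₁ hf₂,
      fun b => Ideal.ResidueField.liftₐ_algebraMap _ _ hf₁ hf₂ b⟩
  have hsurj : Function.Surjective f := by
    intro x
    obtain ⟨s, t, ht, h⟩ := hfrac x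
    refine ⟨algebraMap B _ s / algebraMap B _ t, ?_⟩
    rw [map_div₀, hf, hf, div_eq_iff ht, h]
  exact ⟨AlgEquiv.ofBijective f ⟨f.toRingHom.injective, hsurj⟩⟩

theorem essFiniteType_of_isFrac (hfrac : ∀ x : L, IsFrac B x) : Algebra.EssFiniteType B L := by
  obtain ⟨e⟩ := exists_residueField_algEquiv B L hfrac
  exact (Algebra.EssFiniteType.iff_of_algEquiv e).mp inferInstance

end ResEquiv

section Glob
variable (S T L : Type u) [CommRing S] [CommRing T] [Field L] [Algebra S T] [Algebra S L]
  [IsNoetherianRing T]

theorem isRegularRing_of_loc (hfrac : ∀ x : L, IsFrac S x)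
    (h : ∀ (M : Ideal T) [M.IsMaximal],
      IsRegularRing ((T ⊗[S] L) ⊗[T] Localization.AtPrime M)) :
    IsRegularRing (T ⊗[S] L) := by
  haveI := essFiniteType_of_isFrac S L hfrac
  haveI : IsNoetherianRing (T ⊗[S] L) :=
    Groth.Agent.Helper2.GeomReg.isNoetherianRing_of_essFiniteType T (T ⊗[S] L)
  exact Groth.Agent.Helper2.LocHom.isRegularRing_of_forall_maximal_tensor T (T ⊗[S] L) h

end Glob

section Loc
variable (S T L : Type u) [CommRing S] [CommRing T] [Field L] [Algebra S T] [Algebra S L]
  (q : Ideal S) [q.IsPrime] [IsNoetherianRing (Localization.AtPrime q)]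
  (D : Type u) [CommRing D] [Algebra T D] [Algebra S D] [IsScalarTower S T D] [IsLocalRing D]
  [IsNoetherianRing D]
  [Algebra (Localization.AtPrime q) D] [IsScalarTower S (Localization.AtPrime q) D]

set_option maxHeartbeats 1000000 in
theorem isRegularRing_tensor_of_cplEquiv (hfrac : ∀ x : L, IsFrac S x)
    (hunitD : ∀ s : S, s ∉ q → IsUnit (algebraMap S D s))
    (Hq : ∀ (p : Ideal (Localization.AtPrime q)) [p.IsPrime],
      IsRegularRing (EGA4.formalFibre (Localization.AtPrime q) p))
    (hcpl : ∃ e : EGA4.Cpl (Localization.AtPrime q) ≃+* EGA4.Cpl D, ∀ b : Localization.AtPrime q,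
      e (algebraMap (Localization.AtPrime q) (EGA4.Cpl (Localization.AtPrime q)) b) =
        algebraMap D (EGA4.Cpl D) (algebraMap (Localization.AtPrime q) D b)) :
    IsRegularRing ((T ⊗[S] L) ⊗[T] D) := by
  -- reduce to `D ⊗[S] L`
  suffices hmain : IsRegularRing (D ⊗[S] L) by
    let e1 : (T ⊗[S] L) ⊗[T] D ≃ₐ[T] D ⊗[T] (T ⊗[S] L) := Algebra.TensorProduct.comm _ _ _
    let e2 : D ⊗[T] (T ⊗[S] L) ≃ₐ[D] D ⊗[S] L :=
      Algebra.TensorProduct.cancelBaseChange S T D D L
    exact IsRegularRing.of_ringEquiv (R := D ⊗[S] L) (e1.toRingEquiv.trans e2.toRingEquiv).symm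
  by_cases hker : RingHom.ker (algebraMap S L) ≤ q
  swap
  · -- the tensor product vanishes
    obtain ⟨s, hs0, hsq⟩ := Set.not_subset.1 hker
    have hs0' : algebraMap S L s = 0 := hs0
    obtain ⟨d, hd⟩ := (hunitD s hsq).exists_left_inv
    haveI : Subsingleton (D ⊗[S] L) := by
      apply subsingleton_of_zero_eq_one
      have h1 : (1 : D ⊗[S] L) = (d * algebraMap S D s) ⊗ₜ[S] (1 : L) := by
        rw [hd]; rfl
      rw [h1, mul_comm, ← Algebra.smul_def, TensorProduct.smul_tmul, Algebra.smul_def, hs0',
        zero_mul, TensorProduct.tmul_zero]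
    exact Groth.Agent.Helper2.LocHom.isRegularRing_of_subsingleton _
  -- `L` is an algebra over `B = S_q`
  have hunits : ∀ y : q.primeCompl, IsUnit (algebraMap S L (y : S)) := by
    intro y
    apply isUnit_iff_ne_zero.2
    intro h0
    exact y.2 (hker h0)
  letI algBL : Algebra (Localization.AtPrime q) L :=
    (IsLocalization.lift (M := q.primeCompl) (g := algebraMap S L) hunits).toAlgebra
  haveI hSBL : IsScalarTower S (Localization.AtPrime q) L :=
    IsScalarTower.of_algebraMap_eq (fun s => by
      rw [RingHom.algebraMap_toAlgebra, IsLocalization.lift_eq])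
  have hfracB : ∀ x : L, IsFrac (Localization.AtPrime q) x := fun x =>
    (hfrac x).of_tower (algebraMap S (Localization.AtPrime q))
      (fun s => (IsScalarTower.algebraMap_apply S (Localization.AtPrime q) L s).symm)
  obtain ⟨eκ⟩ := exists_residueField_algEquiv (Localization.AtPrime q) L hfracB
  obtain ⟨e, he⟩ := hcpl
  let eCpl : EGA4.Cpl (Localization.AtPrime q) ≃ₐ[Localization.AtPrime q] EGA4.Cpl D :=
    AlgEquiv.ofRingEquiv (f := e) (fun b => by
      rw [he, ← IsScalarTower.algebraMap_apply])
  -- the hypothesis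
  have hB := Hq (RingHom.ker (algebraMap (Localization.AtPrime q) L))
  have hD : IsRegularRing ((RingHom.ker (algebraMap (Localization.AtPrime q) L)).Fiber
      (EGA4.Cpl D)) :=
    IsRegularRing.of_ringEquiv (R := (RingHom.ker (algebraMap
      (Localization.AtPrime q) L)).Fiber (EGA4.Cpl (Localization.AtPrime q)))
      (Algebra.TensorProduct.congr
        (AlgEquiv.refl : (RingHom.ker (algebraMap (Localization.AtPrime q) L)).ResidueField
          ≃ₐ[Localization.AtPrime q] _) eCpl).toRingEquiv
  haveI hD' : IsRegularRing ((RingHom.ker (algebraMap (Localization.AtPrime q) L)).ResidueField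
      ⊗[(RingHom.ker (algebraMap (Localization.AtPrime q) L)).ResidueField]
      ((RingHom.ker (algebraMap (Localization.AtPrime q) L)).Fiber (EGA4.Cpl D))) :=
    IsRegularRing.of_ringEquiv (R := (RingHom.ker (algebraMap
      (Localization.AtPrime q) L)).Fiber (EGA4.Cpl D))
      (Algebra.TensorProduct.lid _ _).symm.toRingEquiv
  haveI := Groth.Agent.Helper2.CplIff.noeth D
  haveI := Groth.Agent.Helper2.CplIff.ff D
  have h1 := Groth.Agent.Helper2.CplDesc.regular_fiber_descent (Localization.AtPrime q)
    D (EGA4.Cpl D)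
    (RingHom.ker (algebraMap (Localization.AtPrime q) L))
    (RingHom.ker (algebraMap (Localization.AtPrime q) L)).ResidueField hD'
  obtain ⟨eg⟩ := Groth.Agent.Helper2.LocHom.nonempty_equiv_glob (Localization.AtPrime q) D
    (RingHom.ker (algebraMap (Localization.AtPrime q) L))
    (RingHom.ker (algebraMap (Localization.AtPrime q) L)).ResidueField
  haveI h2 : IsRegularRing (D ⊗[Localization.AtPrime q]
      (RingHom.ker (algebraMap (Localization.AtPrime q) L)).ResidueField) :=
    IsRegularRing.of_ringEquiv
      (R := (RingHom.ker (algebraMap (Localization.AtPrime q) L)).ResidueField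
      ⊗[(RingHom.ker (algebraMap (Localization.AtPrime q) L)).ResidueField]
      ((RingHom.ker (algebraMap (Localization.AtPrime q) L)).Fiber D)) eg
  haveI h3 : IsRegularRing (D ⊗[Localization.AtPrime q] L) :=
    IsRegularRing.of_ringEquiv
      (R := D ⊗[Localization.AtPrime q]
        (RingHom.ker (algebraMap (Localization.AtPrime q) L)).ResidueField)
      (Algebra.TensorProduct.congr
      (AlgEquiv.refl : D ≃ₐ[Localization.AtPrime q] D) eκ).toRingEquiv
  exact IsRegularRing.of_ringEquiv (R := D ⊗[Localization.AtPrime q] L)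
    (IsLocalization.algebraTensorEquiv q.primeCompl
    (Localization.AtPrime q) D L).toRingEquiv

end Loc

section Key
variable (R : Type u) [CommRing R] [IsNoetherianRing R]
  (H : ∀ (S : Type u) [CommRing S] [Algebra R S] [Module.Finite R S] [Module.Free R S]
    (q : Ideal S) [q.IsPrime] (p : Ideal (Localization.AtPrime q)) [p.IsPrime],
    IsRegularRing (EGA4.formalFibre (Localization.AtPrime q) p))
  (p0 : Ideal R) [p0.IsPrime]
  (S : Type u) [CommRing S] [Algebra R S] [Module.Finite R S] [Module.Free R S]
  (L : Type u) [Field L] [Algebra S L]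

theorem isNoetherianRing_T :
    IsNoetherianRing (S ⊗[R] EGA4.Cpl (Localization.AtPrime p0)) := by
  haveI : IsNoetherianRing (Localization.AtPrime p0) :=
    IsLocalization.isNoetherianRing p0.primeCompl _ inferInstance
  haveI := Groth.Agent.Helper2.CplIff.noeth (Localization.AtPrime p0)
  haveI : IsNoetherianRing (EGA4.Cpl (Localization.AtPrime p0) ⊗[R] S) :=
    IsNoetherianRing.of_finite (EGA4.Cpl (Localization.AtPrime p0)) _
  exact isNoetherianRing_of_ringEquiv _
    (Algebra.TensorProduct.comm R (EGA4.Cpl (Localization.AtPrime p0)) S).toRingEquiv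

/-- maximal ideals of `S ⊗ Â` contain the maximal ideal of `Â`. -/
theorem mem_of_isMaximal (M : Ideal (S ⊗[R] EGA4.Cpl (Localization.AtPrime p0))) [M.IsMaximal]
    (x : EGA4.Cpl (Localization.AtPrime p0))
    (hx : x ∈ maximalIdeal (EGA4.Cpl (Localization.AtPrime p0))) :
    ((1 : S) ⊗ₜ[R] x) ∈ M := by
  let g : EGA4.Cpl (Localization.AtPrime p0) →+* S ⊗[R] EGA4.Cpl (Localization.AtPrime p0) :=
    (Algebra.TensorProduct.includeRight : EGA4.Cpl (Localization.AtPrime p0) →ₐ[R]
      S ⊗[R] EGA4.Cpl (Localization.AtPrime p0)).toRingHom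
  let ec := Algebra.TensorProduct.comm R (EGA4.Cpl (Localization.AtPrime p0)) S
  have hg : g.IsIntegral := by
    apply RingHom.Finite.to_isIntegral
    have h1 : g = ec.toRingEquiv.toRingHom.comp
        (algebraMap (EGA4.Cpl (Localization.AtPrime p0))
          (EGA4.Cpl (Localization.AtPrime p0) ⊗[R] S)) := by
      ext y
      simp [g, ec]
    rw [h1]
    apply RingHom.Finite.comp
    · exact RingHom.Finite.of_surjective _ (fun y => ⟨ec.symm y, ec.apply_symm_apply y⟩)
    · exact (RingHom.finite_algebraMap).2 inferInstance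
  haveI : (M.comap g).IsMaximal := Ideal.isMaximal_comap_of_isIntegral_of_isMaximal' g hg M
  have h2 : M.comap g = maximalIdeal (EGA4.Cpl (Localization.AtPrime p0)) :=
    IsLocalRing.eq_maximalIdeal inferInstance
  have h3 : x ∈ M.comap g := by rw [h2]; exact hx
  exact h3

include H in
set_option maxHeartbeats 1000000 in
theorem isRegularRing_glob (hfrac : ∀ x : L, IsFrac S x) :
    IsRegularRing ((S ⊗[R] EGA4.Cpl (Localization.AtPrime p0)) ⊗[S] L) := by
  haveI : IsNoetherianRing (S ⊗[R] EGA4.Cpl (Localization.AtPrime p0)) := isNoetherianRing_T R p0 S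
  apply isRegularRing_of_loc S (S ⊗[R] EGA4.Cpl (Localization.AtPrime p0)) L hfrac
  intro M hMmax
  have hM := mem_of_isMaximal R p0 S M
  haveI : IsNoetherianRing (Localization.AtPrime M) :=
    IsLocalization.isNoetherianRing M.primeCompl _ inferInstance
  haveI : IsNoetherianRing S := IsNoetherianRing.of_finite R S
  haveI : IsNoetherianRing (Localization.AtPrime (qOf R p0 S M)) :=
    IsLocalization.isNoetherianRing (qOf R p0 S M).primeCompl _ inferInstance
  letI algBD : Algebra (Localization.AtPrime (qOf R p0 S M)) (Localization.AtPrime M) :=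
    (Localization.localRingHom (qOf R p0 S M) M
      (algebraMap S (S ⊗[R] EGA4.Cpl (Localization.AtPrime p0))) rfl).toAlgebra
  haveI : IsLocalHom (algebraMap (Localization.AtPrime (qOf R p0 S M))
      (Localization.AtPrime M)) :=
    Localization.isLocalHom_localRingHom _ _ _ rfl
  haveI hST : IsScalarTower S (Localization.AtPrime (qOf R p0 S M)) (Localization.AtPrime M) :=
    IsScalarTower.of_algebraMap_eq (fun s => by
      rw [RingHom.algebraMap_toAlgebra, Localization.localRingHom_to_map]
      exact IsScalarTower.algebraMap_apply S (S ⊗[R] EGA4.Cpl (Localization.AtPrime p0))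
        (Localization.AtPrime M) s)
  haveI := flat_BD R p0 S M (Localization.AtPrime (qOf R p0 S M)) (Localization.AtPrime M)
  have hunitD : ∀ s : S, s ∉ qOf R p0 S M → IsUnit (algebraMap S (Localization.AtPrime M) s) := by
    intro s hs
    rw [IsScalarTower.algebraMap_apply S (S ⊗[R] EGA4.Cpl (Localization.AtPrime p0))
      (Localization.AtPrime M)]
    exact IsLocalization.map_units (Localization.AtPrime M)
      (⟨algebraMap S _ s, hs⟩ : M.primeCompl)
  exact isRegularRing_tensor_of_cplEquiv S (S ⊗[R] EGA4.Cpl (Localization.AtPrime p0)) L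
    (qOf R p0 S M) (Localization.AtPrime M) hfrac hunitD (fun p _ => H S (qOf R p0 S M) p)
    (exists_cplEquiv (Localization.AtPrime (qOf R p0 S M)) (Localization.AtPrime M)
      (dense R p0 S M hM (Localization.AtPrime (qOf R p0 S M)) (Localization.AtPrime M)))

end Key

end Groth.Agent.Helper8.GFib
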