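import Mathlib
import Groth.Prelude.Def_Found
import Groth.Prelude.Def_EGA4b
import Groth.Agent.Helper8.GFibD

/-!
# GFibE: S9274
-/

set_option autoImplicit false
set_option linter.style.haveILetI false
set_option linter.unusedSectionVars false
set_option linter.unusedVariables false
open TensorProduct IsLocalRing
universe u

namespace Groth.Agent.Helper8.GFib

/-- the residue field of a prime of `R_p0` consists of fractions of elements of `R`. -/
theorem residueField_frac (R : Type u) [CommRing R] (p0 : Ideal R) [p0.IsPrime]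
    (P : Ideal (Localization.AtPrime p0)) [P.IsPrime] (x : P.ResidueField) :
    ∃ a b : R, algebraMap (Localization.AtPrime p0) P.ResidueField
        (algebraMap R (Localization.AtPrime p0) b) ≠ 0 ∧
      x * algebraMap (Localization.AtPrime p0) P.ResidueField
        (algebraMap R (Localization.AtPrime p0) b) =
      algebraMap (Localization.AtPrime p0) P.ResidueField
        (algebraMap R (Localization.AtPrime p0) a) := by
  obtain ⟨y, z, hz, rfl⟩ := IsFractionRing.div_surjective (A := Localization.AtPrime p0 ⧸ P) x
  obtain ⟨y, rfl⟩ := Ideal.Quotient.mk_surjective y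
  obtain ⟨z, rfl⟩ := Ideal.Quotient.mk_surjective z
  obtain ⟨⟨r₁, u₁⟩, h₁⟩ := IsLocalization.surj p0.primeCompl y
  obtain ⟨⟨r₂, u₂⟩, h₂⟩ := IsLocalization.surj p0.primeCompl z
  simp only at h₁ h₂
  have hz0 : algebraMap (Localization.AtPrime p0) P.ResidueField z ≠ 0 := by
    have := map_ne_zero_of_mem_nonZeroDivisors _
      P.injective_algebraMap_quotient_residueField hz
    exact this
  have hu : ∀ u : p0.primeCompl, algebraMap (Localization.AtPrime p0) P.ResidueField
      (algebraMap R (Localization.AtPrime p0) u) ≠ 0 := by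
    intro u
    have h1 : IsUnit (algebraMap R (Localization.AtPrime p0) (u : R)) :=
      IsLocalization.map_units _ u
    exact (h1.map _).ne_zero
  refine ⟨r₁ * u₂, r₂ * u₁, ?_, ?_⟩
  · rw [map_mul, map_mul, ← h₂, map_mul]
    exact mul_ne_zero (mul_ne_zero hz0 (hu u₂)) (hu u₁)
  · rw [Ideal.algebraMap_quotient_residueField_mk, Ideal.algebraMap_quotient_residueField_mk,
      map_mul, map_mul, map_mul, map_mul, ← h₁, ← h₂, map_mul, map_mul]
    field_simp

set_option maxHeartbeats 1000000 in
theorem s9274 (R : Type u) [CommRing R] [IsNoetherianRing R] :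
    CAlg.IsGRing R ↔
      ∀ (S : Type u) [CommRing S] [Algebra R S] [Module.Finite R S] [Module.Free R S]
        (q : Ideal S) [q.IsPrime] (p : Ideal (Localization.AtPrime q)) [p.IsPrime],
        IsRegularRing (EGA4.formalFibre (Localization.AtPrime q) p) := by
  constructor
  · intro hR S _ _ _ _ q _ p _
    haveI : Algebra.FiniteType R S := inferInstance
    have hS := Groth.Agent.Helper7.CKd.s0599 R hR S
    obtain ⟨hN, hG⟩ := ((hS.2 q).2 p)
    haveI := hG p.ResidueField (inferInstance : Module.Finite p.ResidueField p.ResidueField)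
    exact IsRegularRing.of_ringEquiv
      (R := p.ResidueField ⊗[p.ResidueField]
        (p.Fiber (AdicCompletion (maximalIdeal (Localization.AtPrime q))
          (Localization.AtPrime q))))
      (Algebra.TensorProduct.lid p.ResidueField
      (p.Fiber (AdicCompletion (maximalIdeal (Localization.AtPrime q))
        (Localization.AtPrime q)))).toRingEquiv
  · intro H
    refine ⟨inferInstance, fun p0 _ => ?_⟩
    haveI : IsNoetherianRing (Localization.AtPrime p0) :=
      IsLocalization.isNoetherianRing p0.primeCompl _ inferInstance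
    haveI := Groth.Agent.Helper2.CplIff.noeth (Localization.AtPrime p0)
    haveI := Groth.Agent.Helper2.CplIff.ff (Localization.AtPrime p0)
    refine ⟨inferInstance, fun P _ =>
      ⟨Groth.Agent.Helper2.RegBC.isNoetherianRing_fiber (Localization.AtPrime p0)
        (EGA4.Cpl (Localization.AtPrime p0)) P, ?_⟩⟩
    intro k' _ _ hfin
    haveI := hfin
    letI algAk : Algebra (Localization.AtPrime p0) k' :=
      ((algebraMap P.ResidueField k').comp
        (algebraMap (Localization.AtPrime p0) P.ResidueField)).toAlgebra
    haveI : IsScalarTower (Localization.AtPrime p0) P.ResidueField k' :=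
      IsScalarTower.of_algebraMap_eq (fun _ => rfl)
    letI algRκ : Algebra R P.ResidueField :=
      ((algebraMap (Localization.AtPrime p0) P.ResidueField).comp
        (algebraMap R (Localization.AtPrime p0))).toAlgebra
    letI algRk : Algebra R k' :=
      ((algebraMap (Localization.AtPrime p0) k').comp
        (algebraMap R (Localization.AtPrime p0))).toAlgebra
    haveI : IsScalarTower R (Localization.AtPrime p0) k' :=
      IsScalarTower.of_algebraMap_eq (fun _ => rfl)
    haveI : IsScalarTower R P.ResidueField k' :=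
      IsScalarTower.of_algebraMap_eq (fun _ => rfl)
    have hK : ∀ x : P.ResidueField, ∃ a b : R, algebraMap R P.ResidueField b ≠ 0 ∧
        x * algebraMap R P.ResidueField b = algebraMap R P.ResidueField a :=
      fun x => residueField_frac R p0 P x
    obtain ⟨Pk, hPk⟩ := exists_pack R P.ResidueField k' hK
    have hreg := isRegularRing_glob R H p0 Pk.S k' hPk
    obtain ⟨eg⟩ := Groth.Agent.Helper2.LocHom.nonempty_equiv_glob (Localization.AtPrime p0)
      (EGA4.Cpl (Localization.AtPrime p0)) P k'
    let e1 : EGA4.Cpl (Localization.AtPrime p0) ⊗[Localization.AtPrime p0] k' ≃ₐ[Localization.AtPrime p0]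
        EGA4.Cpl (Localization.AtPrime p0) ⊗[R] k' :=
      IsLocalization.algebraTensorEquiv p0.primeCompl (Localization.AtPrime p0)
        (EGA4.Cpl (Localization.AtPrime p0)) k'
    let e2 : (Pk.S ⊗[R] EGA4.Cpl (Localization.AtPrime p0)) ⊗[Pk.S] k' ≃ₐ[Pk.S]
        k' ⊗[Pk.S] (Pk.S ⊗[R] EGA4.Cpl (Localization.AtPrime p0)) :=
      Algebra.TensorProduct.comm _ _ _
    let e3 : k' ⊗[Pk.S] (Pk.S ⊗[R] EGA4.Cpl (Localization.AtPrime p0)) ≃ₐ[k']
        k' ⊗[R] EGA4.Cpl (Localization.AtPrime p0) :=
      Algebra.TensorProduct.cancelBaseChange R Pk.S k' k' (EGA4.Cpl (Localization.AtPrime p0))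
    let e4 : k' ⊗[R] EGA4.Cpl (Localization.AtPrime p0) ≃ₐ[R]
        EGA4.Cpl (Localization.AtPrime p0) ⊗[R] k' :=
      Algebra.TensorProduct.comm _ _ _
    exact IsRegularRing.of_ringEquiv
      (R := (Pk.S ⊗[R] EGA4.Cpl (Localization.AtPrime p0)) ⊗[Pk.S] k')
      (((e2.toRingEquiv.trans e3.toRingEquiv).trans e4.toRingEquiv).trans
        (e1.symm.toRingEquiv.trans eg.symm))

end Groth.Agent.Helper8.GFib
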