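import Mathlib

namespace Groth.Agent.Helper8.GITChain

open Finset

/-- chain sum at the level of ℕ-indexed sequences -/
def S (μ : ℕ) (c : ℕ → ℕ) (e r : ℕ → ℝ) : ℝ :=
  ∑ j ∈ range μ, (e (c (j + 1)) - e (c j)) * (r (c (j + 1)) + r (c j))

theorem abel (μ : ℕ) (D Rr : ℕ → ℝ) (h0 : D 0 = 0) (hμ : D μ = 0) :
    ∑ j ∈ range μ, (D (j + 1) - D j) * (Rr (j + 1) + Rr j) =
      ∑ j ∈ range (μ - 1), D (j + 1) * (Rr j - Rr (j + 2)) := by
  rcases μ with _ | k
  · simp
  · have h1 : ∀ j, (D (j + 1) - D j) * (Rr (j + 1) + Rr j) =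
        (D (j + 1) * Rr (j + 1) - D j * Rr j) + (D (j + 1) * Rr j - D j * Rr (j + 1)) := by
      intro j; ring
    simp only [h1, Finset.sum_add_distrib, Finset.sum_sub_distrib]
    have h2 := Finset.sum_range_sub (fun j => D j * Rr j) (k + 1)
    simp only [Finset.sum_sub_distrib] at h2
    rw [h2, h0, hμ, zero_mul, zero_mul, sub_zero, zero_add, Finset.sum_range_succ,
      Finset.sum_range_succ' (fun j => D j * Rr (j + 1)), hμ, h0, zero_mul, zero_mul, add_zero,
      add_zero, Nat.add_sub_cancel, ← Finset.sum_sub_distrib]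
    refine Finset.sum_congr rfl fun j _ => ?_
    ring

theorem S_mono (μ : ℕ) (c : ℕ → ℕ) (e E r : ℕ → ℝ) (h0 : e (c 0) = E (c 0))
    (hμ : e (c μ) = E (c μ)) (hle : ∀ j, j ≤ μ → e (c j) ≤ E (c j))
    (hr : ∀ j, j + 2 ≤ μ → r (c (j + 2)) ≤ r (c j)) : S μ c e r ≤ S μ c E r := by
  have key : S μ c E r - S μ c e r =
      ∑ j ∈ range μ, ((E (c (j + 1)) - e (c (j + 1))) - (E (c j) - e (c j))) *
        (r (c (j + 1)) + r (c j)) := by
    unfold S
    rw [← Finset.sum_sub_distrib]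
    refine Finset.sum_congr rfl fun j _ => ?_
    ring
  have h2 := abel μ (fun j => E (c j) - e (c j)) (fun j => r (c j)) (by simp [h0]) (by simp [hμ])
  rw [h2] at key
  have h3 : 0 ≤ ∑ j ∈ range (μ - 1), (E (c (j + 1)) - e (c (j + 1))) *
      (r (c j) - r (c (j + 2))) := by
    refine Finset.sum_nonneg fun j hj => ?_
    rw [Finset.mem_range] at hj
    refine mul_nonneg ?_ ?_
    · have := hle (j + 1) (by omega); linarith
    · have := hr j (by omega); linarith
  linarith

theorem trap_sum (R : ℕ → ℝ) (p q : ℕ) (h : p ≤ q) :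
    ∑ j ∈ Ico p q, (R (j + 1) + R j) = 2 * ∑ i ∈ Ico p (q + 1), R i - R p - R q := by
  induction q, h using Nat.le_induction with
  | base => simp; ring
  | succ q hq ih =>
    rw [Finset.sum_Ico_succ_top hq, ih, Finset.sum_Ico_succ_top (by omega : p ≤ q + 1)]
    ring

theorem sum_range_id (k : ℕ) : ∑ i ∈ range k, (i : ℝ) = (k : ℝ) * (k - 1) / 2 := by
  induction k with
  | zero => simp
  | succ k ih => rw [Finset.sum_range_succ, ih]; push_cast; ring

theorem sum_Ico_id (p q : ℕ) (h : p ≤ q) :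
    ∑ i ∈ Ico p q, (i : ℝ) = ((q : ℝ) * (q - 1) - (p : ℝ) * (p - 1)) / 2 := by
  rw [Finset.sum_Ico_eq_sub _ h, sum_range_id, sum_range_id]; ring

/-- node positions in the extremal configuration -/
noncomputable def X (m g : ℕ) (i : ℕ) : ℝ := if i ≤ m then (i : ℝ) else (i : ℝ) + g

theorem X_lo (m g i : ℕ) (h : i ≤ m) : X m g i = i := by unfold X; rw [if_pos h]
theorem X_hi (m g i : ℕ) (h : m < i) : X m g i = (i : ℝ) + g := by
  unfold X; rw [if_neg (by omega)]

theorem sum_X (m g p q : ℕ) (hp : p ≤ m + 1) (hq : m + 1 ≤ q) :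
    ∑ i ∈ Ico p q, X m g i =
      ((q : ℝ) * (q - 1) - (p : ℝ) * (p - 1)) / 2 + g * ((q : ℝ) - m - 1) := by
  rw [← Finset.sum_Ico_consecutive _ hp hq]
  have h1 : ∑ i ∈ Ico p (m + 1), X m g i = ∑ i ∈ Ico p (m + 1), (i : ℝ) := by
    refine Finset.sum_congr rfl fun i hi => ?_
    rw [Finset.mem_Ico] at hi
    rw [X_lo _ _ _ (by omega)]
  have h2 : ∑ i ∈ Ico (m + 1) q, X m g i = ∑ i ∈ Ico (m + 1) q, ((i : ℝ) + g) := by
    refine Finset.sum_congr rfl fun i hi => ?_
    rw [Finset.mem_Ico] at hi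
    rw [X_hi _ _ _ (by omega)]
  rw [h1, h2, Finset.sum_add_distrib, sum_Ico_id _ _ hp, sum_Ico_id _ _ hq, Finset.sum_const,
    Nat.card_Ico, nsmul_eq_mul, Nat.cast_sub hq]
  push_cast; ring

theorem exists_bridge (n m g : ℕ) (hmn : m + g = n) (hg : 1 ≤ g) (R : ℕ → ℝ) :
    ∃ a b, a ≤ m ∧ m < b ∧ b ≤ n ∧ ∀ i, i ≤ n →
      R a * (X m g b - X m g i) + R b * (X m g i - X m g a) ≤ R i * (X m g b - X m g a) := by
  set xs : ℝ := (m : ℝ) + 1 / 2 with hxs
  let f : ℕ × ℕ → ℝ := fun p =>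
    (R p.1 * (X m g p.2 - xs) + R p.2 * (xs - X m g p.1)) / (X m g p.2 - X m g p.1)
  have hne : ((range (m + 1)) ×ˢ (Ico (m + 1) (n + 1))).Nonempty :=
    ⟨(0, n), by simp only [Finset.mem_product, Finset.mem_range, Finset.mem_Ico]; omega⟩
  obtain ⟨⟨a, b⟩, hab, hmin⟩ := Finset.exists_min_image _ f hne
  simp only [Finset.mem_product, Finset.mem_range, Finset.mem_Ico] at hab
  refine ⟨a, b, by omega, by omega, by omega, ?_⟩
  have hXlo : ∀ i, i ≤ m → X m g i < xs := by
    intro i hi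
    rw [X_lo _ _ _ hi, hxs]
    have : (i : ℝ) ≤ m := by exact_mod_cast hi
    linarith
  have hXhi : ∀ i, m < i → xs < X m g i := by
    intro i hi
    rw [X_hi _ _ _ hi, hxs]
    have : (m : ℝ) + 1 ≤ i := by exact_mod_cast hi
    have : (0 : ℝ) ≤ g := Nat.cast_nonneg _
    linarith
  have dA := hXlo a (by omega)
  have dB := hXhi b (by omega)
  intro i hi
  by_cases him : i ≤ m
  · have h := hmin (i, b) (by simp only [Finset.mem_product, Finset.mem_range, Finset.mem_Ico]; omega)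
    simp only [f] at h
    have dI := hXlo i him
    rw [div_le_div_iff₀ (by linarith) (by linarith)] at h
    have e : (R i * (X m g b - X m g a) - (R a * (X m g b - X m g i) + R b * (X m g i - X m g a)))
        * (X m g b - xs) =
        (R i * (X m g b - xs) + R b * (xs - X m g i)) * (X m g b - X m g a) -
        (R a * (X m g b - xs) + R b * (xs - X m g a)) * (X m g b - X m g i) := by ring
    have h2 : 0 ≤ (R i * (X m g b - X m g a) -
        (R a * (X m g b - X m g i) + R b * (X m g i - X m g a))) * (X m g b - xs) := by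
      rw [e]; linarith
    have h3 := (mul_nonneg_iff_of_pos_right (by linarith : 0 < X m g b - xs)).mp h2
    linarith
  · have h := hmin (a, i) (by simp only [Finset.mem_product, Finset.mem_range, Finset.mem_Ico]; omega)
    simp only [f] at h
    have dI := hXhi i (by omega)
    rw [div_le_div_iff₀ (by linarith) (by linarith)] at h
    have e : (R i * (X m g b - X m g a) - (R a * (X m g b - X m g i) + R b * (X m g i - X m g a)))
        * (xs - X m g a) =
        (R a * (X m g i - xs) + R i * (xs - X m g a)) * (X m g b - X m g a) -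
        (R a * (X m g b - xs) + R b * (xs - X m g a)) * (X m g i - X m g a) := by ring
    have h2 : 0 ≤ (R i * (X m g b - X m g a) -
        (R a * (X m g b - X m g i) + R b * (X m g i - X m g a))) * (xs - X m g a) := by
      rw [e]; linarith
    have h3 := (mul_nonneg_iff_of_pos_right (by linarith : 0 < xs - X m g a)).mp h2
    linarith


theorem final_ineq (A B M G Ra Rb R0 Rn T1 T2 T3 : ℝ) (hT : T1 + T2 + T3 = 0)
    (hA : A ≤ M) (hB : M + 1 ≤ B) (hG : 1 ≤ G) (hGM : G ≤ M) (hab : Rb ≤ Ra)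
    (hnd : Ra = 0 → Rb = 0 → False)
    (hint : Ra * ((B - A - 1) * (B + G) -
        ((B * (B - 1) - (A + 1) * A) / 2 + G * (B - M - 1))) +
      Rb * (((B * (B - 1) - (A + 1) * A) / 2 + G * (B - M - 1)) - (B - A - 1) * A) ≤
      T2 * (B + G - A))
    (hall : Ra * ((M + G + 1) * (B + G) - ((M + G + 1) * (M + G) / 2 + G * (M + G - M))) +
      Rb * (((M + G + 1) * (M + G) / 2 + G * (M + G - M)) - (M + G + 1) * A) ≤ 0) :
    2 * T1 - R0 - Ra + (B + G - A) * (Rb + Ra) + (2 * T3 - Rb - Rn) < -(R0 + Rn) := by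
  obtain ⟨Y, hY⟩ : ∃ Y : ℝ, Y = G * M + G * (G + 1) / 2 := ⟨_, rfl⟩
  obtain ⟨W, hW⟩ : ∃ W : ℝ, W = Ra * (G * (B + G) - Y) + Rb * (Y - G * A) := ⟨_, rfl⟩
  have hlen : 0 < B + G - A := by linarith
  have id1 : (B + G - A) * ((B + G - A) - 1) * (Ra + Rb) -
      2 * (Ra * ((B - A - 1) * (B + G) - ((B * (B - 1) - (A + 1) * A) / 2 + G * (B - M - 1))) +
        Rb * (((B * (B - 1) - (A + 1) * A) / 2 + G * (B - M - 1)) - (B - A - 1) * A)) =
      2 * W := by
    rw [hW, hY]; ring
  have hZ : 0 < G / 2 * ((M + G + 1) * (M + 1) - 2 * G ^ 2) := by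
    have : 0 < (M + G + 1) * (M + 1) - 2 * G ^ 2 := by nlinarith
    positivity
  have id2 : (M + G + 1) * W =
      G * (Ra * ((M + G + 1) * (B + G) - ((M + G + 1) * (M + G) / 2 + G * (M + G - M))) +
        Rb * (((M + G + 1) * (M + G) / 2 + G * (M + G - M)) - (M + G + 1) * A)) -
      G / 2 * ((M + G + 1) * (M + 1) - 2 * G ^ 2) * (Ra - Rb) := by
    rw [hW, hY]; ring
  have hWneg : W < 0 := by
    rcases lt_or_eq_of_le hab with h | h
    · have h1 : 0 < G / 2 * ((M + G + 1) * (M + 1) - 2 * G ^ 2) * (Ra - Rb) :=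
        mul_pos hZ (by linarith)
      have h2 : G * (Ra * ((M + G + 1) * (B + G) - ((M + G + 1) * (M + G) / 2 + G * (M + G - M))) +
        Rb * (((M + G + 1) * (M + G) / 2 + G * (M + G - M)) - (M + G + 1) * A)) ≤ 0 :=
        mul_nonpos_of_nonneg_of_nonpos (by linarith) hall
      have h3 : (M + G + 1) * W < 0 := by rw [id2]; linarith
      by_contra hc
      push Not at hc
      have : 0 ≤ (M + G + 1) * W := mul_nonneg (by linarith) hc
      linarith
    · -- Ra = Rb
      have hW' : W = Ra * (G * (B + G - A)) := by rw [hW, h]; ring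
      have hall' : Ra * ((M + G + 1) * (B + G - A)) ≤ 0 := by
        rw [h] at hall
        have e : Ra * ((M + G + 1) * (B + G - A)) =
          Ra * ((M + G + 1) * (B + G) - ((M + G + 1) * (M + G) / 2 + G * (M + G - M))) +
          Ra * (((M + G + 1) * (M + G) / 2 + G * (M + G - M)) - (M + G + 1) * A) := by ring
        rw [e]; exact hall
      have hRa : Ra ≤ 0 := by
        by_contra hc
        push Not at hc
        have : 0 < Ra * ((M + G + 1) * (B + G - A)) :=
          mul_pos hc (mul_pos (by linarith) hlen)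
        linarith
      rcases lt_or_eq_of_le hRa with h0 | h0
      · rw [hW']
        exact mul_neg_of_neg_of_pos h0 (mul_pos (by linarith) hlen)
      · exact (hnd h0 (h.trans h0)).elim
  have hfin : (B + G - A) * ((2 * T1 - R0 - Ra + (B + G - A) * (Rb + Ra) +
      (2 * T3 - Rb - Rn)) + (R0 + Rn)) ≤ 2 * W := by
    rw [← id1]
    have e : (B + G - A) * ((2 * T1 - R0 - Ra + (B + G - A) * (Rb + Ra) +
        (2 * T3 - Rb - Rn)) + (R0 + Rn)) =
        (B + G - A) * ((B + G - A) - 1) * (Ra + Rb) - 2 * (T2 * (B + G - A)) := by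
      rw [show T1 = -T2 - T3 by linarith]; ring
    rw [e]
    linarith [hint]
  have : (B + G - A) * ((2 * T1 - R0 - Ra + (B + G - A) * (Rb + Ra) +
      (2 * T3 - Rb - Rn)) + (R0 + Rn)) < 0 := by linarith
  rcases mul_neg_iff.mp this with ⟨_, h6⟩ | ⟨h6, _⟩
  · linarith
  · linarith

theorem core (n m g : ℕ) (hmn : m + g = n) (hg : 1 ≤ g) (hgm : g ≤ m) (R : ℕ → ℝ)
    (hanti : ∀ i j, i ≤ j → j ≤ n → R j ≤ R i) (hsum : ∑ i ∈ range (n + 1), R i = 0)
    (hne : ∃ i, i ≤ n ∧ R i ≠ 0)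
    (a b : ℕ) (ha : a ≤ m) (hb : m < b) (hbn : b ≤ n)
    (BR : ∀ i, i ≤ n →
      R a * (X m g b - X m g i) + R b * (X m g i - X m g a) ≤ R i * (X m g b - X m g a)) :
    S (a + (n - b) + 1) (fun j => if j ≤ a then j else j + (b - a - 1)) (X m g) R
      < -(R 0 + R n) := by
  set k := b - a - 1 with hk
  set μ := a + (n - b) + 1 with hμ
  -- step 1: decomposition
  have hS : S μ (fun j => if j ≤ a then j else j + k) (X m g) R =
      ∑ j ∈ Ico 0 a, (R (j + 1) + R j) + (X m g b - X m g a) * (R b + R a) +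
      ∑ j ∈ Ico b n, (R (j + 1) + R j) := by
    unfold S
    set F : ℕ → ℝ := fun j =>
      (X m g (if j + 1 ≤ a then j + 1 else j + 1 + k) - X m g (if j ≤ a then j else j + k)) *
        (R (if j + 1 ≤ a then j + 1 else j + 1 + k) + R (if j ≤ a then j else j + k)) with hF
    have p1 : ∑ j ∈ Ico 0 a, F j = ∑ j ∈ Ico 0 a, (R (j + 1) + R j) := by
      refine Finset.sum_congr rfl fun j hj => ?_
      rw [Finset.mem_Ico] at hj
      simp only [hF, if_pos (by omega : j + 1 ≤ a), if_pos (by omega : j ≤ a)]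
      rw [X_lo _ _ _ (by omega), X_lo _ _ _ (by omega)]
      push_cast; ring
    have p2 : ∑ j ∈ Ico a (a + 1), F j = (X m g b - X m g a) * (R b + R a) := by
      rw [Nat.Ico_succ_singleton, Finset.sum_singleton]
      simp only [hF, if_neg (by omega : ¬ a + 1 ≤ a), if_pos (le_refl a)]
      rw [show a + 1 + k = b by omega]
    have p3 : ∑ j ∈ Ico (a + 1) μ, F j = ∑ j ∈ Ico b n, (R (j + 1) + R j) := by
      have : ∀ j ∈ Ico (a + 1) μ, F j = (fun i => R (i + 1) + R i) (j + k) := by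
        intro j hj
        rw [Finset.mem_Ico] at hj
        simp only [hF, if_neg (by omega : ¬ j + 1 ≤ a), if_neg (by omega : ¬ j ≤ a)]
        rw [show j + 1 + k = j + k + 1 by omega, X_hi _ _ _ (by omega), X_hi _ _ _ (by omega)]
        push_cast; ring
      rw [Finset.sum_congr rfl this, Finset.sum_Ico_add' (fun i => R (i + 1) + R i)]
      rw [show a + 1 + k = b by omega, show μ + k = n by omega]
    have hsplit : ∑ j ∈ range μ, F j =
        ∑ j ∈ Ico 0 a, F j + ∑ j ∈ Ico a (a + 1), F j + ∑ j ∈ Ico (a + 1) μ, F j := by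
      rw [Finset.range_eq_Ico, Finset.sum_Ico_consecutive F (Nat.zero_le a) (by omega : a ≤ a + 1),
        Finset.sum_Ico_consecutive F (Nat.zero_le _) (by omega : a + 1 ≤ μ)]
    rw [← p1, ← p2, ← p3, ← hsplit]
  rw [hS, trap_sum R 0 a (Nat.zero_le a), trap_sum R b n hbn]
  -- the three partial sums
  set T1 := ∑ i ∈ Ico 0 (a + 1), R i
  set T2 := ∑ i ∈ Ico (a + 1) b, R i
  set T3 := ∑ i ∈ Ico b (n + 1), R i
  have hT : T1 + T2 + T3 = 0 := by
    rw [Finset.sum_Ico_consecutive _ (Nat.zero_le _) (by omega : a + 1 ≤ b),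
      Finset.sum_Ico_consecutive _ (Nat.zero_le _) (by omega : b ≤ n + 1), ← Finset.range_eq_Ico]
    exact hsum
  -- real abbreviations
  have hXa : X m g a = a := X_lo _ _ _ ha
  have hXb : X m g b = (b : ℝ) + g := X_hi _ _ _ hb
  rw [hXa, hXb] at BR ⊢
  have hn' : (n : ℝ) = (m : ℝ) + g := by rw [← hmn]; push_cast; ring
  have hA : (a : ℝ) ≤ m := by exact_mod_cast ha
  have hB : (m : ℝ) + 1 ≤ b := by exact_mod_cast hb
  have hG : (1 : ℝ) ≤ g := by exact_mod_cast hg
  have hGM : (g : ℝ) ≤ m := by exact_mod_cast hgm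
  -- summed bridge inequalities
  have hint : R a * ∑ i ∈ Ico (a + 1) b, ((b : ℝ) + g - X m g i) +
      R b * ∑ i ∈ Ico (a + 1) b, (X m g i - a) ≤ T2 * ((b : ℝ) + g - a) := by
    rw [Finset.mul_sum, Finset.mul_sum, ← Finset.sum_add_distrib, Finset.sum_mul]
    refine Finset.sum_le_sum fun i hi => ?_
    rw [Finset.mem_Ico] at hi
    exact BR i (by omega)
  have hall : R a * ∑ i ∈ Ico 0 (n + 1), ((b : ℝ) + g - X m g i) +
      R b * ∑ i ∈ Ico 0 (n + 1), (X m g i - a) ≤ 0 := by
    have : R a * ∑ i ∈ Ico 0 (n + 1), ((b : ℝ) + g - X m g i) +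
        R b * ∑ i ∈ Ico 0 (n + 1), (X m g i - a) ≤
        (∑ i ∈ Ico 0 (n + 1), R i) * ((b : ℝ) + g - a) := by
      rw [Finset.mul_sum, Finset.mul_sum, ← Finset.sum_add_distrib, Finset.sum_mul]
      refine Finset.sum_le_sum fun i hi => ?_
      rw [Finset.mem_Ico] at hi
      exact BR i (by omega)
    rw [← Finset.range_eq_Ico, hsum, zero_mul] at this
    rw [← Finset.range_eq_Ico]
    exact this
  -- closed forms
  have c1 : ∑ i ∈ Ico (a + 1) b, ((b : ℝ) + g - X m g i) =
      ((b : ℝ) - a - 1) * ((b : ℝ) + g) -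
      (((b : ℝ) * (b - 1) - ((a : ℝ) + 1) * a) / 2 + g * ((b : ℝ) - m - 1)) := by
    rw [Finset.sum_sub_distrib, Finset.sum_const, Nat.card_Ico, nsmul_eq_mul,
      sum_X m g (a + 1) b (by omega) (by omega), Nat.cast_sub (by omega)]
    push_cast; ring
  have c2 : ∑ i ∈ Ico (a + 1) b, (X m g i - a) =
      (((b : ℝ) * (b - 1) - ((a : ℝ) + 1) * a) / 2 + g * ((b : ℝ) - m - 1)) -
      ((b : ℝ) - a - 1) * a := by
    rw [Finset.sum_sub_distrib, Finset.sum_const, Nat.card_Ico, nsmul_eq_mul,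
      sum_X m g (a + 1) b (by omega) (by omega), Nat.cast_sub (by omega)]
    push_cast; ring
  have c3 : ∑ i ∈ Ico 0 (n + 1), ((b : ℝ) + g - X m g i) =
      ((n : ℝ) + 1) * ((b : ℝ) + g) - (((n : ℝ) + 1) * n / 2 + g * ((n : ℝ) - m)) := by
    rw [Finset.sum_sub_distrib, Finset.sum_const, Nat.card_Ico, nsmul_eq_mul,
      sum_X m g 0 (n + 1) (by omega) (by omega)]
    push_cast; ring
  have c4 : ∑ i ∈ Ico 0 (n + 1), (X m g i - a) =
      (((n : ℝ) + 1) * n / 2 + g * ((n : ℝ) - m)) - ((n : ℝ) + 1) * a := by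
    rw [Finset.sum_sub_distrib, Finset.sum_const, Nat.card_Ico, nsmul_eq_mul,
      sum_X m g 0 (n + 1) (by omega) (by omega)]
    push_cast; ring
  rw [c1, c2] at hint
  rw [c3, c4, hn'] at hall
  have hab : R b ≤ R a := hanti a b (by omega) hbn
  refine final_ineq (a : ℝ) (b : ℝ) (m : ℝ) (g : ℝ) (R a) (R b) (R 0) (R n) T1 T2 T3 hT hA hB hG
    hGM hab ?_ hint hall
  intro h0 h0'
  have hlen : (0 : ℝ) < (b : ℝ) + g - a := by linarith
  have hnn : ∀ i ∈ range (n + 1), 0 ≤ R i := by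
    intro i hi
    rw [Finset.mem_range] at hi
    have := BR i (by omega)
    rw [h0, h0', zero_mul, zero_mul, add_zero] at this
    exact (mul_nonneg_iff_of_pos_right hlen).mp this
  have hz := (Finset.sum_eq_zero_iff_of_nonneg hnn).mp hsum
  obtain ⟨i, hi, hRi⟩ := hne
  exact hRi (hz i (Finset.mem_range.mpr (by omega)))


/-- extension of a `Fin`-indexed sequence by zero -/
noncomputable def ext {n : ℕ} (r : Fin (n + 1) → ℝ) (i : ℕ) : ℝ :=
  if h : i < n + 1 then r ⟨i, h⟩ else 0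

theorem ext_val {n : ℕ} (r : Fin (n + 1) → ℝ) (i : Fin (n + 1)) : ext r (i : ℕ) = r i := by
  unfold ext
  rw [dif_pos i.2]

theorem exists_chain_of_nat (n : ℕ) (e : Fin (n + 1) → ℕ) (r : Fin (n + 1) → ℝ) (μ : ℕ)
    (c : ℕ → ℕ) (hc_mono : ∀ i j, i < j → j ≤ μ → c i < c j) (hc0 : c 0 = 0) (hcμ : c μ = n)
    (hS : S μ c (ext (fun i => (e i : ℝ))) (ext r) < 0) :
    ∃ (μ : ℕ) (c : Fin (μ + 1) → Fin (n + 1)), StrictMono c ∧ c 0 = 0 ∧
      c (Fin.last μ) = Fin.last n ∧
      ∑ j : Fin μ, ((e (c j.succ) : ℝ) - (e (c j.castSucc) : ℝ)) *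
        (r (c j.succ) + r (c j.castSucc)) < 0 := by
  have hle : ∀ j, j ≤ μ → c j ≤ n := by
    intro j hj
    rcases Nat.lt_or_ge j μ with h | h
    · have := hc_mono j μ h le_rfl; omega
    · have : j = μ := by omega
      rw [this, hcμ]
  refine ⟨μ, fun j => ⟨c j, by have := hle j (by omega); omega⟩, ?_, ?_, ?_, ?_⟩
  · intro i j hij
    exact hc_mono i j hij (by omega)
  · ext; simp [hc0]
  · ext; simp [hcμ]
  · have : ∑ j : Fin μ, ((e (⟨c (j.succ : Fin (μ + 1)), by
          have := hle (j.succ : Fin (μ + 1)) (by omega); omega⟩ : Fin (n + 1)) : ℝ) -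
        (e (⟨c (j.castSucc : Fin (μ + 1)), by
          have := hle (j.castSucc : Fin (μ + 1)) (by omega); omega⟩ : Fin (n + 1)) : ℝ)) *
        (r ⟨c (j.succ : Fin (μ + 1)), by
          have := hle (j.succ : Fin (μ + 1)) (by omega); omega⟩ +
         r ⟨c (j.castSucc : Fin (μ + 1)), by
          have := hle (j.castSucc : Fin (μ + 1)) (by omega); omega⟩) = S μ c (ext (fun i => (e i : ℝ))) (ext r) := by
      unfold S
      rw [← Fin.sum_univ_eq_sum_range (fun j => (ext (fun i => (e i : ℝ)) (c (j + 1)) -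
        ext (fun i => (e i : ℝ)) (c j)) * (ext r (c (j + 1)) + ext r (c j))) μ]
      refine Finset.sum_congr rfl fun j _ => ?_
      have h1 : c ((j : ℕ) + 1) < n + 1 := by have := hle (j + 1) (by omega); omega
      have h2 : c (j : ℕ) < n + 1 := by have := hle j (by omega); omega
      simp only [ext, dif_pos h1, dif_pos h2, Fin.val_succ, Fin.val_castSucc]
    rw [this]
    exact hS

theorem main (n g : ℕ) (hg : 1 ≤ g) (hn : 2 * g ≤ n)
    (e : Fin (n + 1) → ℕ) (he0 : e 0 = 0) (hen : e (Fin.last n) = n + g) (hmono : Monotone e)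
    (hle : ∀ i : Fin (n + 1), (i : ℕ) ≤ n - g → e i ≤ (i : ℕ))
    (hle' : ∀ i : Fin (n + 1), e i ≤ (i : ℕ) + g)
    (r : Fin (n + 1) → ℝ) (hanti : Antitone r) (hsum : ∑ i, r i = 0) (hr : r ≠ 0) :
    ∃ (μ : ℕ) (c : Fin (μ + 1) → Fin (n + 1)), StrictMono c ∧ c 0 = 0 ∧
      c (Fin.last μ) = Fin.last n ∧
      ∑ j : Fin μ, ((e (c j.succ) : ℝ) - (e (c j.castSucc) : ℝ)) *
        (r (c j.succ) + r (c j.castSucc)) < 0 := by
  obtain ⟨m, hm⟩ : ∃ m, m = n - g := ⟨_, rfl⟩
  have hmn : m + g = n := by omega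
  have hgm : g ≤ m := by omega
  obtain ⟨R, hR⟩ : ∃ R, R = ext r := ⟨_, rfl⟩
  obtain ⟨Ee, hEe⟩ : ∃ Ee, Ee = ext (fun i => (e i : ℝ)) := ⟨_, rfl⟩
  have hRanti : ∀ i j, i ≤ j → j ≤ n → R j ≤ R i := by
    intro i j hij hj
    simp only [hR, ext, dif_pos (by omega : i < n + 1), dif_pos (by omega : j < n + 1)]
    exact hanti (by simpa using hij)
  have hRsum : ∑ i ∈ range (n + 1), R i = 0 := by
    rw [← hsum, ← Fin.sum_univ_eq_sum_range]
    refine Finset.sum_congr rfl fun i _ => ?_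
    rw [hR, ext_val]
  have hRne : ∃ i, i ≤ n ∧ R i ≠ 0 := by
    by_contra hc
    push Not at hc
    apply hr
    funext i
    have := hc i (by omega)
    rw [hR, ext_val] at this
    simpa using this
  have hE0 : Ee 0 = 0 := by
    have := ext_val (fun i => (e i : ℝ)) (0 : Fin (n + 1))
    simp only [Fin.val_zero, he0, Nat.cast_zero] at this
    rw [hEe]; exact this
  have hEn : Ee n = (n : ℝ) + g := by
    have := ext_val (fun i => (e i : ℝ)) (Fin.last n)
    simp only [Fin.val_last, hen] at this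
    rw [hEe, this]; push_cast; ring
  have hnpos : 0 < n := by omega
  by_cases hneg : R 0 + R n < 0
  · -- the two-point chain
    refine exists_chain_of_nat n e r 1 (fun j => if j = 0 then 0 else n) ?_ ?_ ?_ ?_
    · intro i j hij hj
      have hi : i = 0 := by omega
      have hj' : j = 1 := by omega
      subst hi; subst hj'
      simpa using hnpos
    · simp
    · simp
    · rw [← hR, ← hEe]
      unfold S
      rw [Finset.sum_range_one]
      simp only [zero_add, if_neg one_ne_zero, if_true]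
      rw [hE0, hEn, sub_zero]
      have : (0 : ℝ) < (n : ℝ) + g := by positivity
      have h2 : R n + R 0 < 0 := by linarith
      exact mul_neg_of_pos_of_neg this h2
  · -- the bridge chain
    obtain ⟨a, b, ha, hb, hbn, BR⟩ := exists_bridge n m g hmn hg R
    have hcore := core n m g hmn hg hgm R hRanti hRsum hRne a b ha hb hbn BR
    have hc_le : ∀ j, j ≤ a + (n - b) + 1 →
        (fun j => if j ≤ a then j else j + (b - a - 1)) j ≤ n := by
      intro j hj
      simp only
      split_ifs <;> omega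
    have hc_mono : ∀ i j, i < j →
        (fun j => if j ≤ a then j else j + (b - a - 1)) i <
        (fun j => if j ≤ a then j else j + (b - a - 1)) j := by
      intro i j hij
      simp only
      split_ifs <;> omega
    have hEX : ∀ i, i ≤ n → Ee i ≤ X m g i := by
      intro i hi
      have h1 := ext_val (fun i => (e i : ℝ)) (⟨i, by omega⟩ : Fin (n + 1))
      simp only at h1
      rw [hEe, h1]
      by_cases him : i ≤ m
      · rw [X_lo _ _ _ him]
        exact_mod_cast hle ⟨i, by omega⟩ (by simp only; omega)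
      · rw [X_hi _ _ _ (by omega)]
        exact_mod_cast hle' ⟨i, by omega⟩
    refine exists_chain_of_nat n e r (a + (n - b) + 1)
      (fun j => if j ≤ a then j else j + (b - a - 1)) ?_ ?_ ?_ ?_
    · intro i j hij _
      exact hc_mono i j hij
    · simp
    · beta_reduce
      rw [if_neg (by omega)]
      omega
    · rw [← hR, ← hEe]
      refine lt_of_le_of_lt (S_mono _ _ Ee (X m g) R ?_ ?_ ?_ ?_) (by linarith)
      · simp only [Nat.zero_le, if_true]
        rw [hE0, X_lo _ _ _ (Nat.zero_le _)]; simp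
      · have : (if a + (n - b) + 1 ≤ a then a + (n - b) + 1
            else a + (n - b) + 1 + (b - a - 1)) = n := by
          rw [if_neg (by omega)]
          omega
        beta_reduce
        rw [this, hEn, X_hi _ _ _ (by omega)]
      · intro j hj
        exact hEX _ (hc_le j hj)
      · intro j hj
        exact hRanti _ _ (hc_mono j (j + 2) (by omega)).le (hc_le (j + 2) hj)

end Groth.Agent.Helper8.GITChain
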