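import Mathlib
import Groth.Prelude.Def_W4c5flasquetoriphsGLat

set_option autoImplicit false

namespace Groth.Agent.Helper8.GLatRes

open GLat

/-- `H¹(H, ℤ[X]) = 0` for a finite group acting on a finite set (elementary Shapiro lemma) -/
theorem shapiro {G : Type} [Group G] [Finite G] {ι : Type} [MulAction G ι] [Finite ι]
    (τ : Representation ℤ G (ι →₀ ℤ)) (hτ : ∀ g (m : ι →₀ ℤ) x, τ g m x = m (g⁻¹ • x))
    (H : Subgroup G) (f : H → (ι →₀ ℤ))
    (hf : ∀ a b : H, f (a * b) = f a + τ (a : G) (f b)) :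
    ∃ m : ι →₀ ℤ, ∀ a : H, f a = τ (a : G) m - m := by
  have hF : ∀ (a b : H) x, f (a * b) x = f a x + f b ((a : G)⁻¹ • x) := by
    intro a b x; rw [hf, Finsupp.add_apply, hτ]
  have hf1 : f 1 = 0 := by
    have := hf 1 1
    simp only [mul_one, OneMemClass.coe_one, map_one, Module.End.one_apply] at this
    simpa using this
  have hstab : ∀ (k : H) (x₀ : ι), (k : G) • x₀ = x₀ → f k x₀ = 0 := by
    intro k x₀ hk
    have hk' : (k : G)⁻¹ • x₀ = x₀ := by rw [inv_smul_eq_iff, hk]
    have hpow : ∀ j : ℕ, f (k ^ j) x₀ = j * f k x₀ := by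
      intro j
      induction j with
      | zero => simp [hf1]
      | succ j ih => rw [pow_succ', hF, hk', ih]; push_cast; ring
    have h1 := hpow (orderOf k)
    rw [pow_orderOf_eq_one, hf1, Finsupp.zero_apply] at h1
    have hpos : 0 < orderOf k := orderOf_pos k
    have hne : (orderOf k : ℤ) ≠ 0 := by exact_mod_cast hpos.ne'
    rcases mul_eq_zero.1 h1.symm with h | h
    · exact absurd h hne
    · exact h
  -- orbit representatives
  let q : ι → MulAction.orbitRel.Quotient H ι := Quotient.mk''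
  let rep : ι → ι := fun x => (q x).out
  have hrep : ∀ x, ∃ a : H, (a : G) • rep x = x := by
    intro x
    have h1 : q (rep x) = q x := Quotient.out_eq' (q x)
    have h2 : rep x ∈ MulAction.orbit H x := by
      rw [← MulAction.orbitRel_apply]
      exact Quotient.exact' h1
    obtain ⟨a, ha⟩ := h2
    refine ⟨a⁻¹, ?_⟩
    rw [← ha]
    change (a⁻¹ : H) • (a • x) = x
    rw [inv_smul_smul]
  have hrep_eq : ∀ (a : H) x, rep ((a : G) • x) = rep x := by
    intro a x
    have : q ((a : G) • x) = q x := by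
      apply Quotient.sound'
      rw [MulAction.orbitRel_apply]
      exact ⟨a, rfl⟩
    change (q ((a : G) • x)).out = (q x).out
    rw [this]
  choose α hα using hrep
  let m₀ : ι → ℤ := fun x => -(f (α x) x)
  have key : ∀ (a : H) x, f a x = m₀ ((a : G)⁻¹ • x) - m₀ x := by
    intro a x
    have hy : rep ((a : G)⁻¹ • x) = rep x := by
      have := hrep_eq a⁻¹ x
      simpa using this
    set y := (a : G)⁻¹ • x with hydef
    set b := α y with hb
    set c := α x with hc
    have hby : (b : G) • rep x = y := by rw [← hy]; exact hα y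
    have hcx : (c : G) • rep x = x := hα x
    have hk : ((c⁻¹ * a * b : H) : G) • rep x = rep x := by
      push_cast
      rw [mul_smul, mul_smul, hby, hydef, smul_inv_smul, inv_smul_eq_iff, hcx]
    have h1 := hstab _ _ hk
    have h2 : a * b = c * (c⁻¹ * a * b) := by group
    have h3 := hF a b x
    have h4 := hF c (c⁻¹ * a * b) x
    rw [← h2] at h4
    have h5 : (c : G)⁻¹ • x = rep x := by rw [inv_smul_eq_iff, hcx]
    rw [h5, h1, add_zero] at h4
    rw [h4] at h3
    change f a x = -(f b y) - -(f c x)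
    rw [← hydef] at h3
    linarith
  refine ⟨Finsupp.equivFunOnFinite.symm m₀, fun a => ?_⟩
  ext x
  rw [Finsupp.sub_apply, hτ, Finsupp.coe_equivFunOnFinite_symm]
  exact key a x

section Main

variable {G : Type} [Group G] {A : Type} [AddCommGroup A] (ρ : Representation ℤ G A)

/-- invariants of a subgroup -/
def inv (H : Subgroup G) : Submodule ℤ A where
  carrier := {a | ∀ h ∈ H, ρ h a = a}
  add_mem' := by intro a b ha hb h hh; rw [map_add, ha h hh, hb h hh]
  zero_mem' := by intro h _; rw [map_zero]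
  smul_mem' := by intro c a ha h hh; rw [map_smul, ha h hh]

theorem mem_inv (H : Subgroup G) (a : A) : a ∈ inv ρ H ↔ ∀ h ∈ H, ρ h a = a := Iff.rfl

theorem exists_gens [Module.Finite ℤ A] :
    ∃ (n : Subgroup G → ℕ) (s : (H : Subgroup G) → Fin (n H) → A),
      ∀ H, Submodule.span ℤ (Set.range (s H)) = inv ρ H := by
  haveI : IsNoetherian ℤ A := isNoetherian_of_isNoetherianRing_of_finite ℤ A
  have h : ∀ H : Subgroup G, ∃ (n : ℕ) (s : Fin n → A),
      Submodule.span ℤ (Set.range s) = inv ρ H :=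
    fun H => Submodule.fg_iff_exists_fin_generating_family.1 (IsNoetherian.noetherian _)
  choose n s hs using h
  exact ⟨n, s, hs⟩

variable (n : Subgroup G → ℕ)

/-- the index set of the permutation cover -/
abbrev Idx := Σ x : (Σ H : Subgroup G, Fin (n H)), G ⧸ x.1

variable {n} (s : (H : Subgroup G) → Fin (n H) → A) (hs : ∀ H k, s H k ∈ inv ρ H)

/-- the value of the cover on basis vectors -/
def vfun : Idx n → A :=
  fun x => Quotient.liftOn' x.2 (fun g => ρ g (s x.1.1 x.1.2)) (by
    intro g₁ g₂ h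
    rw [QuotientGroup.leftRel_apply] at h
    have h1 := hs x.1.1 x.1.2 _ h
    show ρ g₁ (s x.1.1 x.1.2) = ρ g₂ (s x.1.1 x.1.2)
    calc ρ g₁ (s x.1.1 x.1.2) = ρ g₁ (ρ (g₁⁻¹ * g₂) (s x.1.1 x.1.2)) := by rw [h1]
      _ = ρ g₂ (s x.1.1 x.1.2) := by
        rw [← Module.End.mul_apply, ← map_mul, mul_inv_cancel_left])

theorem vfun_mk (H : Subgroup G) (k : Fin (n H)) (g : G) :
    vfun ρ s hs ⟨⟨H, k⟩, (g : G ⧸ H)⟩ = ρ g (s H k) := rfl

theorem vfun_smul (g : G) (x : Idx n) : vfun ρ s hs (g • x) = ρ g (vfun ρ s hs x) := by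
  obtain ⟨⟨H, k⟩, c⟩ := x
  induction c using QuotientGroup.induction_on with
  | H g' =>
    show vfun ρ s hs ⟨⟨H, k⟩, g • (g' : G ⧸ H)⟩ = _
    rw [MulAction.Quotient.smul_mk, vfun_mk, vfun_mk, smul_eq_mul, map_mul, Module.End.mul_apply]

variable (n) in
/-- the permutation representation on `ℤ[Idx]` -/
noncomputable def tau : Representation ℤ G (Idx n →₀ ℤ) where
  toFun g := Finsupp.lmapDomain ℤ ℤ (g • ·)
  map_one' := by ext x; simp
  map_mul' g h := by ext x; simp [mul_smul]

theorem tau_single (g : G) (x : Idx n) (c : ℤ) :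
    tau n g (Finsupp.single x c) = Finsupp.single (g • x) c := by
  show Finsupp.lmapDomain ℤ ℤ (g • ·) (Finsupp.single x c) = _
  rw [Finsupp.lmapDomain_apply, Finsupp.mapDomain_single]

theorem tau_apply (g : G) (m : Idx n →₀ ℤ) (x : Idx n) : tau n g m x = m (g⁻¹ • x) := by
  show Finsupp.lmapDomain ℤ ℤ (g • ·) m x = _
  rw [Finsupp.lmapDomain_apply]
  exact Finsupp.mapDomain_equiv_apply (f := MulAction.toPerm g) m x

/-- the cover map -/
noncomputable def pim : (Idx n →₀ ℤ) →ₗ[ℤ] A := Finsupp.linearCombination ℤ (vfun ρ s hs)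

theorem pim_single (x : Idx n) (c : ℤ) :
    pim ρ s hs (Finsupp.single x c) = c • vfun ρ s hs x := by
  unfold pim; rw [Finsupp.linearCombination_single]

theorem pim_equivariant (g : G) (m : Idx n →₀ ℤ) : pim ρ s hs (tau n g m) = ρ g (pim ρ s hs m) := by
  have : (pim ρ s hs) ∘ₗ (tau n g) = (ρ g) ∘ₗ (pim ρ s hs) := by
    apply Finsupp.lhom_ext
    intro x c
    rw [LinearMap.comp_apply, LinearMap.comp_apply, tau_single, pim_single, pim_single,
      vfun_smul, map_smul]
  exact LinearMap.congr_fun this m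

end Main

theorem main (G : Type) [Group G] [Finite G]
    (A : Type) [AddCommGroup A] [Module.Finite ℤ A] (ρ : Representation ℤ G A) :
    ∃ (Q : Type) (_ : AddCommGroup Q) (P : Type) (_ : AddCommGroup P)
      (_ : Module.Finite ℤ Q) (_ : Module.Free ℤ Q) (_ : Module.Finite ℤ P) (_ : Module.Free ℤ P)
      (σ : Representation ℤ G Q) (τ : Representation ℤ G P) (i : Q →ₗ[ℤ] P) (π : P →ₗ[ℤ] A),
      GLat.IsEquivariant σ τ i ∧ GLat.IsEquivariant τ ρ π ∧ Function.Injective i ∧ Function.Surjective π ∧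
      LinearMap.range i = LinearMap.ker π ∧ GLat.IsPermutation τ ∧ GLat.IsCoflasque σ := by
  obtain ⟨n, s, hspan⟩ := exists_gens ρ
  have hs : ∀ H k, s H k ∈ inv ρ H := fun H k => by
    rw [← hspan H]; exact Submodule.subset_span ⟨k, rfl⟩
  have hstab : ∀ g (m : Idx n →₀ ℤ), m ∈ LinearMap.ker (pim ρ s hs) →
      tau n g m ∈ LinearMap.ker (pim ρ s hs) := by
    intro g m hm
    rw [LinearMap.mem_ker] at hm ⊢
    rw [pim_equivariant, hm, map_zero]
  let σ : Representation ℤ G (LinearMap.ker (pim ρ s hs)) :=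
    { toFun := fun g => (tau n g).restrict (hstab g)
      map_one' := by
        ext ⟨m, hm⟩
        simp
      map_mul' := fun g h => by
        ext ⟨m, hm⟩
        simp }
  refine ⟨LinearMap.ker (pim ρ s hs), inferInstance, Idx n →₀ ℤ, inferInstance, ?_, ?_, ?_, ?_, σ,
    tau n, (LinearMap.ker (pim ρ s hs)).subtype, pim ρ s hs, ?_, ?_, ?_, ?_, ?_, ?_, ?_⟩
  · infer_instance
  · infer_instance
  · infer_instance
  · infer_instance
  · intro g m
    rfl
  · intro g m
    exact pim_equivariant ρ s hs g m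
  · exact Subtype.val_injective
  · rw [← LinearMap.range_eq_top, eq_top_iff]
    have h1 : inv ρ (⊥ : Subgroup G) = ⊤ := by
      rw [eq_top_iff]
      intro a _ h hh
      rw [Subgroup.mem_bot] at hh
      rw [hh, map_one, Module.End.one_apply]
    rw [← h1, ← hspan ⊥, Submodule.span_le]
    rintro _ ⟨k, rfl⟩
    refine ⟨Finsupp.single ⟨⟨⊥, k⟩, ((1 : G) : G ⧸ (⊥ : Subgroup G))⟩ 1, ?_⟩
    rw [pim_single, vfun_mk, map_one, Module.End.one_apply, one_smul]
  · exact Submodule.range_subtype _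
  · refine ⟨Idx n, Finsupp.basisSingleOne, fun g i => ⟨g • i, ?_⟩⟩
    rw [Finsupp.coe_basisSingleOne, tau_single]
  · intro H' f hf
    obtain ⟨m, hm⟩ := shapiro (tau n) tau_apply H' (fun a => (f a : Idx n →₀ ℤ)) (by
      intro a b
      have := congrArg Subtype.val (hf a b)
      exact this)
    have hinv : pim ρ s hs m ∈ inv ρ H' := by
      intro h hh
      have h1 := hm ⟨h, hh⟩
      have h2 : pim ρ s hs (tau n h m - m) = 0 := by
        rw [← h1]; exact (f ⟨h, hh⟩).2
      rw [map_sub, pim_equivariant, sub_eq_zero] at h2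
      exact h2
    rw [← hspan H'] at hinv
    obtain ⟨c, hc⟩ := (Submodule.mem_span_range_iff_exists_fun ℤ).1 hinv
    obtain ⟨p', hp'⟩ : ∃ p' : Idx n →₀ ℤ,
        p' = ∑ k, Finsupp.single (⟨⟨H', k⟩, ((1 : G) : G ⧸ H')⟩ : Idx n) (c k) := ⟨_, rfl⟩
    have hp'π : pim ρ s hs p' = pim ρ s hs m := by
      rw [hp', map_sum, ← hc]
      refine Finset.sum_congr rfl (fun k _ => ?_)
      rw [pim_single, vfun_mk, map_one, Module.End.one_apply]
    have hp'inv : ∀ h ∈ H', tau n h p' = p' := by
      intro h hh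
      rw [hp', map_sum]
      refine Finset.sum_congr rfl (fun k _ => ?_)
      rw [tau_single]
      congr 1
      show (⟨⟨H', k⟩, h • ((1 : G) : G ⧸ H')⟩ : Idx n) = _
      rw [MulAction.Quotient.smul_mk, smul_eq_mul, mul_one]
      congr 1
      exact QuotientGroup.eq.2 (by simpa using H'.inv_mem hh)
    refine ⟨⟨m - p', ?_⟩, ?_⟩
    · rw [LinearMap.mem_ker, map_sub, hp'π, sub_self]
    · intro a
      apply Subtype.ext
      show (f a : Idx n →₀ ℤ) = tau n a (m - p') - (m - p')
      rw [hm a, map_sub, hp'inv a a.2]; abel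


end Groth.Agent.Helper8.GLatRes
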