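import Mathlib
import Groth.Agent.Helper8.GLatRes

set_option autoImplicit false

namespace Groth.Agent.Helper8.GLatRes

open GLat

section Perm

variable (G ι : Type) [Group G] [MulAction G ι]

/-- the permutation representation on `ℤ[ι]` -/
noncomputable def perm : Representation ℤ G (ι →₀ ℤ) where
  toFun g := Finsupp.lmapDomain ℤ ℤ (g • ·)
  map_one' := by ext x; simp
  map_mul' g h := by ext x; simp [mul_smul]

variable {G ι}

theorem perm_single (g : G) (x : ι) (c : ℤ) :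
    perm G ι g (Finsupp.single x c) = Finsupp.single (g • x) c := by
  show Finsupp.lmapDomain ℤ ℤ (g • ·) (Finsupp.single x c) = _
  rw [Finsupp.lmapDomain_apply, Finsupp.mapDomain_single]

theorem perm_apply (g : G) (m : ι →₀ ℤ) (x : ι) : perm G ι g m x = m (g⁻¹ • x) := by
  show Finsupp.lmapDomain ℤ ℤ (g • ·) m x = _
  rw [Finsupp.lmapDomain_apply]
  exact Finsupp.mapDomain_equiv_apply (f := MulAction.toPerm g) m x

theorem perm_isPermutation : IsPermutation (perm G ι) := by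
  refine ⟨ι, Finsupp.basisSingleOne, fun g i => ⟨g • i, ?_⟩⟩
  rw [Finsupp.coe_basisSingleOne, perm_single]

end Perm

section Embed

variable {G : Type} [Group G] {A : Type} [AddCommGroup A] [Module.Finite ℤ A] [Module.Free ℤ A]
  (ρ : Representation ℤ G A)

/-- index set of the induced permutation lattice -/
abbrev X₀ (A : Type) [AddCommGroup A] [Module.Free ℤ A] : Type :=
  Σ _ : Module.Free.ChooseBasisIndex ℤ A, G

variable [Finite G]

/-- the embedding into the induced permutation lattice -/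
noncomputable def jm : A →ₗ[ℤ] (X₀ (G := G) A →₀ ℤ) :=
  (Finsupp.linearEquivFunOnFinite ℤ ℤ (X₀ (G := G) A)).symm.toLinearMap ∘ₗ
    (LinearMap.pi (fun x : X₀ (G := G) A =>
      ((Module.Free.chooseBasis ℤ A).coord x.1) ∘ₗ (ρ x.2⁻¹)))

theorem jm_apply (a : A) (x : X₀ (G := G) A) :
    jm ρ a x = (Module.Free.chooseBasis ℤ A).repr (ρ x.2⁻¹ a) x.1 := by
  unfold jm
  simp [Finsupp.linearEquivFunOnFinite]

theorem jm_equivariant (h : G) (a : A) : jm ρ (ρ h a) = perm G (X₀ (G := G) A) h (jm ρ a) := by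
  ext ⟨k, g⟩
  rw [perm_apply, jm_apply, jm_apply]
  show _ = (Module.Free.chooseBasis ℤ A).repr (ρ (h⁻¹ * g)⁻¹ a) k
  rw [mul_inv_rev, inv_inv, map_mul, Module.End.mul_apply]

theorem jm_injective : Function.Injective (jm ρ) := by
  rw [injective_iff_map_eq_zero]
  intro a ha
  apply (Module.Free.chooseBasis ℤ A).repr.injective
  ext k
  have := DFunLike.congr_fun ha (⟨k, 1⟩ : X₀ (G := G) A)
  rw [jm_apply] at this
  simpa using this

end Embed

section Quot

variable {G : Type} [Group G] {P A : Type} [AddCommGroup P] [AddCommGroup A]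
  (τ : Representation ℤ G P) (ρ : Representation ℤ G A) (j : A →ₗ[ℤ] P)
  (hj : ∀ g a, j (ρ g a) = τ g (j a))

include hj in
theorem range_le_comap (g : G) : LinearMap.range j ≤ (LinearMap.range j).comap (τ g) := by
  rintro _ ⟨a, rfl⟩
  exact ⟨ρ g a, hj g a⟩

/-- the induced representation on the cokernel -/
noncomputable def quotRep : Representation ℤ G (P ⧸ LinearMap.range j) where
  toFun g := Submodule.mapQ _ _ (τ g) (range_le_comap τ ρ j hj g)
  map_one' := by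
    apply Submodule.linearMap_qext
    ext x
    simp
  map_mul' g h := by
    apply Submodule.linearMap_qext
    ext x
    simp

theorem quotRep_mk (g : G) (x : P) :
    quotRep τ ρ j hj g (Submodule.Quotient.mk x) = Submodule.Quotient.mk (τ g x) := rfl

end Quot

theorem main2 (G : Type) [Group G] [Finite G]
    (A : Type) [AddCommGroup A] [Module.Finite ℤ A] [Module.Free ℤ A] (ρ : Representation ℤ G A) :
    ∃ (Q : Type) (_ : AddCommGroup Q) (P : Type) (_ : AddCommGroup P)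
      (_ : Module.Finite ℤ Q) (_ : Module.Free ℤ Q) (_ : Module.Finite ℤ P) (_ : Module.Free ℤ P)
      (σ : Representation ℤ G Q) (τ : Representation ℤ G P) (i : A →ₗ[ℤ] Q) (π : Q →ₗ[ℤ] P),
      GLat.IsEquivariant ρ σ i ∧ GLat.IsEquivariant σ τ π ∧ Function.Injective i ∧ Function.Surjective π ∧
      LinearMap.range i = LinearMap.ker π ∧ GLat.IsCoflasque σ ∧ GLat.IsPermutation τ := by
  -- the induced lattice and its quotient
  let τ₀ := perm G (X₀ (G := G) A)
  let j := jm ρ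
  have hj : ∀ g a, j (ρ g a) = τ₀ g (j a) := jm_equivariant ρ
  let ρC := quotRep τ₀ ρ j hj
  let q : (X₀ (G := G) A →₀ ℤ) →ₗ[ℤ] ((X₀ (G := G) A →₀ ℤ) ⧸ LinearMap.range j) :=
    (LinearMap.range j).mkQ
  have hq : ∀ g x, q (τ₀ g x) = ρC g (q x) := fun g x => rfl
  obtain ⟨Q₁, instQ, P₁, instP, finQ, freeQ, finP, freeP, σ₁, τ₁, i₁, π₁, eq_i, eq_π, inj_i,
    surj_π, range_eq, perm₁, cofl⟩ := main G _ ρC
  -- the pullback
  let Φ : ((X₀ (G := G) A →₀ ℤ) × P₁) →ₗ[ℤ] ((X₀ (G := G) A →₀ ℤ) ⧸ LinearMap.range j) :=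
    q ∘ₗ LinearMap.fst ℤ _ _ - π₁ ∘ₗ LinearMap.snd ℤ _ _
  have hΦ : ∀ e, e ∈ LinearMap.ker Φ ↔ q e.1 = π₁ e.2 := by
    intro e
    rw [LinearMap.mem_ker]
    show q e.1 - π₁ e.2 = 0 ↔ _
    rw [sub_eq_zero]
  have hstab : ∀ g e, e ∈ LinearMap.ker Φ →
      (LinearMap.prodMap (τ₀ g) (τ₁ g)) e ∈ LinearMap.ker Φ := by
    intro g e he
    rw [hΦ] at he ⊢
    show q (τ₀ g e.1) = π₁ (τ₁ g e.2)
    rw [hq, eq_π, he]
  let σE : Representation ℤ G (LinearMap.ker Φ) :=
    { toFun := fun g => (LinearMap.prodMap (τ₀ g) (τ₁ g)).restrict (hstab g)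
      map_one' := by
        ext ⟨e, he⟩ : 2
        simp
      map_mul' := fun g h => by
        ext ⟨e, he⟩ : 2
        simp }
  have hjmem : ∀ a, (LinearMap.prod j (0 : A →ₗ[ℤ] P₁)) a ∈ LinearMap.ker Φ := by
    intro a
    rw [hΦ]
    show q (j a) = π₁ 0
    rw [map_zero]
    exact (Submodule.Quotient.mk_eq_zero _).2 ⟨a, rfl⟩
  refine ⟨LinearMap.ker Φ, inferInstance, P₁, instP, ?_, ?_, finP, freeP, σE, τ₁,
    LinearMap.codRestrict _ (LinearMap.prod j 0) hjmem,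
    LinearMap.snd ℤ _ _ ∘ₗ (LinearMap.ker Φ).subtype, ?_, ?_, ?_, ?_, ?_, ?_, perm₁⟩
  · infer_instance
  · infer_instance
  · intro g a
    apply Subtype.ext
    show (j (ρ g a), (0 : P₁)) = (τ₀ g (j a), τ₁ g 0)
    rw [hj, map_zero]
  · intro g e
    rfl
  · intro a a' h
    have h1 := congrArg (fun e : LinearMap.ker Φ => (e : (X₀ (G := G) A →₀ ℤ) × P₁).1) h
    exact jm_injective ρ h1
  · intro y
    obtain ⟨x, hx⟩ := Submodule.mkQ_surjective (LinearMap.range j) (π₁ y)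
    exact ⟨⟨(x, y), (hΦ _).2 hx⟩, rfl⟩
  · ext ⟨⟨x, y⟩, he⟩
    rw [LinearMap.mem_ker]
    constructor
    · rintro ⟨a, ha⟩
      have h2 := congrArg (fun e : LinearMap.ker Φ => (e : (X₀ (G := G) A →₀ ℤ) × P₁).2) ha
      exact h2.symm
    · intro hy
      change y = 0 at hy
      subst hy
      have h1 : q x = π₁ 0 := (hΦ _).1 he
      rw [map_zero] at h1
      obtain ⟨a, ha⟩ := (Submodule.Quotient.mk_eq_zero _).1 h1
      refine ⟨a, Subtype.ext ?_⟩
      show (j a, (0 : P₁)) = (x, 0)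
      rw [ha]
  · intro H f hf
    -- first components
    have hf0 : ∀ a b : H, (f (a * b) : (X₀ (G := G) A →₀ ℤ) × P₁).1 =
        (f a : (X₀ (G := G) A →₀ ℤ) × P₁).1 + τ₀ (a : G) (f b : (X₀ (G := G) A →₀ ℤ) × P₁).1 :=
      fun a b => congrArg (fun e : LinearMap.ker Φ => (e : (X₀ (G := G) A →₀ ℤ) × P₁).1) (hf a b)
    have hf1 : ∀ a b : H, (f (a * b) : (X₀ (G := G) A →₀ ℤ) × P₁).2 =
        (f a : (X₀ (G := G) A →₀ ℤ) × P₁).2 + τ₁ (a : G) (f b : (X₀ (G := G) A →₀ ℤ) × P₁).2 :=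
      fun a b => congrArg (fun e : LinearMap.ker Φ => (e : (X₀ (G := G) A →₀ ℤ) × P₁).2) (hf a b)
    obtain ⟨x, hx⟩ := shapiro τ₀ perm_apply H
      (fun a => (f a : (X₀ (G := G) A →₀ ℤ) × P₁).1) hf0
    obtain ⟨y₀, hy₀⟩ := surj_π (q x)
    -- the corrected second component lies in ker π₁ = range i₁
    have hker : ∀ a : H, (f a : (X₀ (G := G) A →₀ ℤ) × P₁).2 - (τ₁ (a : G) y₀ - y₀) ∈
        LinearMap.range i₁ := by
      intro a
      rw [range_eq, LinearMap.mem_ker, map_sub, map_sub, eq_π, hy₀,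
        ← (hΦ _).1 (f a).2, hx a, map_sub, hq, sub_self]
    choose z hz using hker
    have hzc : ∀ a b : H, z (a * b) = z a + σ₁ (a : G) (z b) := by
      intro a b
      apply inj_i
      rw [map_add, eq_i, hz, hz, hz, hf1 a b]
      have : τ₁ ((a * b : H) : G) y₀ = τ₁ (a : G) (τ₁ (b : G) y₀) := by
        rw [Subgroup.coe_mul, map_mul, Module.End.mul_apply]
      rw [this, map_sub, map_sub]
      abel
    obtain ⟨w, hw⟩ := cofl H z hzc
    have hmem1 : ((x, y₀) : (X₀ (G := G) A →₀ ℤ) × P₁) ∈ LinearMap.ker Φ := (hΦ _).2 hy₀.symm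
    have hmem2 : ((0, i₁ w) : (X₀ (G := G) A →₀ ℤ) × P₁) ∈ LinearMap.ker Φ := by
      rw [hΦ]
      show q 0 = π₁ (i₁ w)
      have : i₁ w ∈ LinearMap.ker π₁ := by rw [← range_eq]; exact ⟨w, rfl⟩
      rw [map_zero, LinearMap.mem_ker.1 this]
    refine ⟨⟨(x, y₀), hmem1⟩ + ⟨(0, i₁ w), hmem2⟩, fun a => Subtype.ext ?_⟩
    apply Prod.ext
    · show (f a : (X₀ (G := G) A →₀ ℤ) × P₁).1 = τ₀ (a : G) (x + 0) - (x + 0)
      rw [add_zero]
      exact hx a
    · show (f a : (X₀ (G := G) A →₀ ℤ) × P₁).2 = τ₁ (a : G) (y₀ + i₁ w) - (y₀ + i₁ w)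
      have h1 := hz a
      rw [hw a, map_sub, eq_i] at h1
      rw [map_add]
      have : (f a : (X₀ (G := G) A →₀ ℤ) × P₁).2 = (τ₁ (a : G) y₀ - y₀) +
          ((f a : (X₀ (G := G) A →₀ ℤ) × P₁).2 - (τ₁ (a : G) y₀ - y₀)) := by abel
      rw [this, ← h1]
      abel

end Groth.Agent.Helper8.GLatRes
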