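import Mathlib
import Groth.Agent.Helper8.GLatRes2

set_option autoImplicit false

namespace Groth.Agent.Helper8.GLatRes

open GLat

section Sat

variable {A : Type} [AddCommGroup A]

/-- saturation of a subgroup -/
def sat (I : Submodule ℤ A) : Submodule ℤ A where
  carrier := {a | ∃ m : ℤ, m ≠ 0 ∧ m • a ∈ I}
  add_mem' := by
    rintro a b ⟨m, hm, ha⟩ ⟨m', hm', hb⟩
    refine ⟨m * m', mul_ne_zero hm hm', ?_⟩
    have : (m * m') • (a + b) = m' • (m • a) + m • (m' • b) := by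
      rw [smul_add, mul_smul, mul_smul, smul_comm m m' a]
    rw [this]
    exact I.add_mem (I.smul_mem _ ha) (I.smul_mem _ hb)
  zero_mem' := ⟨1, one_ne_zero, by rw [smul_zero]; exact I.zero_mem⟩
  smul_mem' := by
    rintro c a ⟨m, hm, ha⟩
    refine ⟨m, hm, ?_⟩
    rw [smul_comm]
    exact I.smul_mem _ ha

theorem mem_sat (I : Submodule ℤ A) (a : A) : a ∈ sat I ↔ ∃ m : ℤ, m ≠ 0 ∧ m • a ∈ I := Iff.rfl

theorem le_sat (I : Submodule ℤ A) : I ≤ sat I := fun a ha => ⟨1, one_ne_zero, by rwa [one_smul]⟩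

theorem sat_bot [Module.IsTorsionFree ℤ A] : sat (⊥ : Submodule ℤ A) = ⊥ := by
  rw [eq_bot_iff]
  rintro a ⟨m, hm, ha⟩
  rw [Submodule.mem_bot] at ha ⊢
  rcases smul_eq_zero.1 ha with h | h
  · exact absurd h hm
  · exact h

/-- a quotient by a saturated subgroup is torsion-free -/
theorem torsionFree_quot (N : Submodule ℤ A) (hN : ∀ (m : ℤ) (a : A), m ≠ 0 → m • a ∈ N → a ∈ N) :
    Module.IsTorsionFree ℤ (A ⧸ N) := by
  apply Module.IsTorsionFree.of_smul_eq_zero
  intro r x hx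
  by_cases hr : r = 0
  · exact Or.inl hr
  · right
    obtain ⟨a, rfl⟩ := Submodule.Quotient.mk_surjective N x
    rw [← Submodule.Quotient.mk_smul, Submodule.Quotient.mk_eq_zero] at hx
    rw [Submodule.Quotient.mk_eq_zero]
    exact hN r a hr hx

theorem free_quot [Module.Finite ℤ A] (N : Submodule ℤ A)
    (hN : ∀ (m : ℤ) (a : A), m ≠ 0 → m • a ∈ N → a ∈ N) :
    Module.Free ℤ (A ⧸ N) := by
  haveI := torsionFree_quot N hN
  infer_instance

theorem sat_saturated (I : Submodule ℤ A) (m : ℤ) (a : A) (hm : m ≠ 0) (h : m • a ∈ sat I) :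
    a ∈ sat I := by
  obtain ⟨m', hm', h'⟩ := h
  exact ⟨m' * m, mul_ne_zero hm' hm, by rwa [mul_smul]⟩

instance [Module.Finite ℤ A] (I : Submodule ℤ A) : Module.Free ℤ (A ⧸ sat I) :=
  free_quot _ (sat_saturated I)

end Sat

section Nrm

variable {G : Type} [Group G] {A B : Type} [AddCommGroup A] [AddCommGroup B]
  (ρ : Representation ℤ G A) (σ : Representation ℤ G B) (H : Subgroup G) [Fintype H]

/-- the norm of a subgroup -/
def nrm : A →ₗ[ℤ] A := ∑ h : H, ρ (h : G)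

theorem nrm_apply (a : A) : nrm ρ H a = ∑ h : H, ρ (h : G) a := by
  unfold nrm; rw [LinearMap.sum_apply]

theorem nrm_eq_finsum (a : A) : nrm ρ H a = ∑ᶠ h : H, ρ (h : G) a := by
  rw [nrm_apply, finsum_eq_sum_of_fintype]

theorem nrm_rho (h₀ : G) (hh : h₀ ∈ H) (a : A) : nrm ρ H (ρ h₀ a) = nrm ρ H a := by
  rw [nrm_apply, nrm_apply]
  refine Fintype.sum_equiv (Equiv.mulRight (⟨h₀, hh⟩ : H)) _ _ (fun h => ?_)
  rw [Equiv.coe_mulRight, Subgroup.coe_mul, map_mul, Module.End.mul_apply]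

theorem rho_nrm (h₀ : G) (hh : h₀ ∈ H) (a : A) : ρ h₀ (nrm ρ H a) = nrm ρ H a := by
  rw [nrm_apply, map_sum]
  refine Fintype.sum_equiv (Equiv.mulLeft (⟨h₀, hh⟩ : H)) _ _ (fun h => ?_)
  rw [Equiv.coe_mulLeft, Subgroup.coe_mul, map_mul, Module.End.mul_apply]

theorem nrm_of_inv (a : A) (ha : ∀ h ∈ H, ρ h a = a) : nrm ρ H a = (Fintype.card H : ℤ) • a := by
  rw [nrm_apply, Finset.sum_congr rfl (fun (h : H) _ => ha (h : G) h.2), Finset.sum_const,
    Finset.card_univ, Nat.cast_smul_eq_nsmul]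

theorem nrm_equivariant (f : A →ₗ[ℤ] B) (hf : ∀ g a, f (ρ g a) = σ g (f a)) (a : A) :
    f (nrm ρ H a) = nrm σ H (f a) := by
  rw [nrm_apply, nrm_apply, map_sum]
  exact Finset.sum_congr rfl (fun h _ => hf h a)

omit [Fintype H] in
/-- the augmentation submodule -/
def Iaug : Submodule ℤ A :=
  Submodule.span ℤ {x : A | ∃ (h : H) (y : A), x = ρ (h : G) y - y}

omit [Fintype H] in
theorem sub_mem_Iaug (h : G) (hh : h ∈ H) (y : A) : ρ h y - y ∈ Iaug ρ H :=
  Submodule.subset_span ⟨⟨h, hh⟩, y, rfl⟩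

theorem nrm_Iaug (x : A) (hx : x ∈ Iaug ρ H) : nrm ρ H x = 0 := by
  have : Iaug ρ H ≤ LinearMap.ker (nrm ρ H) := by
    unfold Iaug
    rw [Submodule.span_le]
    rintro _ ⟨h, y, rfl⟩
    rw [SetLike.mem_coe, LinearMap.mem_ker, map_sub, nrm_rho ρ H h h.2, sub_self]
  exact LinearMap.mem_ker.1 (this hx)

theorem nrm_sat [Module.IsTorsionFree ℤ A] (x : A) (hx : x ∈ sat (Iaug ρ H)) : nrm ρ H x = 0 := by
  obtain ⟨m, hm, h⟩ := hx
  have := nrm_Iaug ρ H _ h
  rw [map_smul] at this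
  rcases smul_eq_zero.1 this with h | h
  · exact absurd h hm
  · exact h

omit [Fintype H] in
theorem map_Iaug_le (f : A →ₗ[ℤ] B) (hf : ∀ g a, f (ρ g a) = σ g (f a)) :
    Iaug ρ H ≤ (Iaug σ H).comap f := by
  unfold Iaug
  rw [Submodule.span_le]
  rintro _ ⟨h, y, rfl⟩
  rw [SetLike.mem_coe, Submodule.mem_comap, map_sub, hf]
  exact sub_mem_Iaug σ H h h.2 (f y)

end Nrm


/-- `Ĥ⁻¹(H, ℤ[X]) = 0` for a finite group acting on a set -/
theorem perm_flasque {G : Type} [Group G] {ι : Type} [MulAction G ι]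
    (τ : Representation ℤ G (ι →₀ ℤ))
    (hτ : ∀ g (x : ι) (c : ℤ), τ g (Finsupp.single x c) = Finsupp.single (g • x) c)
    (H : Subgroup G) [Fintype H] (m : ι →₀ ℤ) (hm : ∑ h : H, τ (h : G) m = 0) :
    m ∈ Submodule.span ℤ {x : ι →₀ ℤ | ∃ (h : H) (y : ι →₀ ℤ), x = τ (h : G) y - y} := by
  -- orbit representatives
  let q : ι → MulAction.orbitRel.Quotient H ι := Quotient.mk''
  let rep : ι → ι := fun x => (q x).out
  have hrep : ∀ x, ∃ a : H, (a : G) • rep x = x := by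
    intro x
    have h1 : q (rep x) = q x := Quotient.out_eq' (q x)
    have h2 : rep x ∈ MulAction.orbit H x := by
      rw [← MulAction.orbitRel_apply]
      exact Quotient.exact' h1
    obtain ⟨a, ha⟩ := h2
    refine ⟨a⁻¹, ?_⟩
    rw [← ha]
    change (a⁻¹ : H) • (a • x) = x
    rw [inv_smul_smul]
  have hrep_eq : ∀ (a : H) x, rep ((a : G) • x) = rep x := by
    intro a x
    have : q ((a : G) • x) = q x := by
      apply Quotient.sound'
      rw [MulAction.orbitRel_apply]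
      exact ⟨a, rfl⟩
    change (q ((a : G) • x)).out = (q x).out
    rw [this]
  choose α hα using hrep
  let R : (ι →₀ ℤ) →ₗ[ℤ] (ι →₀ ℤ) := Finsupp.lmapDomain ℤ ℤ rep
  have hRs : ∀ x c, R (Finsupp.single x c) = Finsupp.single (rep x) c := by
    intro x c
    show Finsupp.lmapDomain ℤ ℤ rep (Finsupp.single x c) = _
    rw [Finsupp.lmapDomain_apply, Finsupp.mapDomain_single]
  have hRτ : ∀ (h : H) (y : ι →₀ ℤ), R (τ (h : G) y) = R y := by
    intro h y
    have : R ∘ₗ τ (h : G) = R := by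
      apply Finsupp.lhom_ext
      intro x c
      rw [LinearMap.comp_apply, hτ, hRs, hRs, hrep_eq]
    exact LinearMap.congr_fun this y
  have hRm : R m = 0 := by
    have h1 := congrArg R hm
    rw [map_sum, map_zero, Finset.sum_congr rfl (fun h _ => hRτ h m), Finset.sum_const,
      Finset.card_univ] at h1
    have hpos : Fintype.card H ≠ 0 := Fintype.card_ne_zero
    ext x
    have h2 := DFunLike.congr_fun h1 x
    rw [Finsupp.smul_apply, Finsupp.zero_apply, nsmul_eq_mul] at h2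
    rcases mul_eq_zero.1 h2 with h | h
    · exact absurd (by exact_mod_cast h) hpos
    · exact h
  have key : ∀ y : ι →₀ ℤ, y - R y ∈
      Submodule.span ℤ {x : ι →₀ ℤ | ∃ (h : H) (y : ι →₀ ℤ), x = τ (h : G) y - y} := by
    intro y
    induction y using Finsupp.induction_linear with
    | zero => rw [map_zero, sub_zero]; exact Submodule.zero_mem _
    | add f g hf hg =>
      have : f + g - R (f + g) = (f - R f) + (g - R g) := by rw [map_add]; abel
      rw [this]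
      exact Submodule.add_mem _ hf hg
    | single x c =>
      refine Submodule.subset_span ⟨α x, Finsupp.single (rep x) c, ?_⟩
      rw [hτ, hα, hRs]
  have := key m
  rwa [hRm, sub_zero] at this


section Flasque

variable {G : Type} [Group G] [Finite G] {A : Type} [AddCommGroup A] [Module.Finite ℤ A]
  [Module.Free ℤ A] (ρ : Representation ℤ G A)

/-- the saturated augmentation submodule -/
abbrev SH (H : Subgroup G) : Submodule ℤ A := sat (Iaug ρ H)

/-- rank of the torsion-free coinvariants -/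
noncomputable abbrev nH (H : Subgroup G) : ℕ := Module.finrank ℤ (A ⧸ SH ρ H)

/-- the invariant functionals -/
noncomputable def phi (H : Subgroup G) (k : Fin (nH ρ H)) : Module.Dual ℤ A :=
  (Module.finBasis ℤ (A ⧸ SH ρ H)).coord k ∘ₗ (SH ρ H).mkQ

theorem mkQ_rho (H : Subgroup G) (h : G) (hh : h ∈ H) (a : A) :
    (SH ρ H).mkQ (ρ h a) = (SH ρ H).mkQ a := by
  rw [← sub_eq_zero, ← map_sub, Submodule.mkQ_apply, Submodule.Quotient.mk_eq_zero]
  exact le_sat _ (sub_mem_Iaug ρ H h hh a)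

theorem phi_inv (H : Subgroup G) (k : Fin (nH ρ H)) :
    phi ρ H k ∈ inv (Representation.dual ρ) H := by
  intro h hh
  ext a
  rw [Representation.dual_apply, Module.Dual.transpose_apply, LinearMap.comp_apply]
  unfold phi
  rw [LinearMap.comp_apply, LinearMap.comp_apply, mkQ_rho ρ H _ (H.inv_mem hh)]

theorem phi_div (H : Subgroup G) (a : A) (m : ℤ) (hdiv : ∀ k, m ∣ phi ρ H k a) :
    ∃ a', a - m • a' ∈ SH ρ H := by
  choose c hc using hdiv
  obtain ⟨b, hb⟩ : ∃ b, b = Module.finBasis ℤ (A ⧸ SH ρ H) := ⟨_, rfl⟩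
  obtain ⟨a', ha'⟩ := Submodule.mkQ_surjective (SH ρ H) (∑ k, c k • b k)
  refine ⟨a', ?_⟩
  rw [← Submodule.Quotient.mk_eq_zero, Submodule.Quotient.mk_sub, Submodule.Quotient.mk_smul]
  apply b.repr.injective
  ext k
  rw [map_sub, map_smul, map_zero, Finsupp.sub_apply, Finsupp.smul_apply, Finsupp.zero_apply]
  have h1 : b.repr (Submodule.Quotient.mk a) k = m * c k := by rw [hb]; exact hc k
  have h2 : b.repr (Submodule.Quotient.mk a') k = c k := by
    rw [← Submodule.mkQ_apply, ha', b.repr_sum_self]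
  rw [h1, h2, smul_eq_mul, sub_self]

/-- the embedding into the permutation lattice -/
noncomputable def im : A →ₗ[ℤ] (Idx (nH ρ) →₀ ℤ) :=
  (Finsupp.linearEquivFunOnFinite ℤ ℤ (Idx (nH ρ))).symm.toLinearMap ∘ₗ
    LinearMap.pi (fun x => vfun (Representation.dual ρ) (phi ρ) (phi_inv ρ) x)

theorem im_apply (a : A) (x : Idx (nH ρ)) :
    im ρ a x = vfun (Representation.dual ρ) (phi ρ) (phi_inv ρ) x a := by
  unfold im
  simp [Finsupp.linearEquivFunOnFinite]

theorem im_one (a : A) (H : Subgroup G) (k : Fin (nH ρ H)) :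
    im ρ a ⟨⟨H, k⟩, ((1 : G) : G ⧸ H)⟩ = phi ρ H k a := by
  rw [im_apply, vfun_mk, map_one]; rfl

theorem im_equivariant (g : G) (a : A) : im ρ (ρ g a) = tau (nH ρ) g (im ρ a) := by
  ext x
  rw [tau_apply, im_apply, im_apply, vfun_smul, Representation.dual_apply, inv_inv]
  rfl

theorem SH_bot : SH ρ ⊥ = ⊥ := by
  have : Iaug ρ (⊥ : Subgroup G) = ⊥ := by
    unfold Iaug
    rw [Submodule.span_eq_bot]
    rintro _ ⟨h, y, rfl⟩
    have : (h : G) = 1 := Subgroup.mem_bot.1 h.2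
    rw [this, map_one, Module.End.one_apply, sub_self]
  show sat (Iaug ρ ⊥) = ⊥
  rw [this, sat_bot]

theorem im_sat (m : ℤ) (p : Idx (nH ρ) →₀ ℤ) (a : A) (h : m • p = im ρ a) :
    ∃ a', a = m • a' := by
  have hdiv : ∀ k, m ∣ phi ρ ⊥ k a := by
    intro k
    rw [← im_one, ← h, Finsupp.smul_apply, smul_eq_mul]
    exact dvd_mul_right _ _
  obtain ⟨a', ha'⟩ := phi_div ρ ⊥ a m hdiv
  rw [SH_bot, Submodule.mem_bot, sub_eq_zero] at ha'
  exact ⟨a', ha'⟩

theorem im_injective : Function.Injective (im ρ) := by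
  rw [injective_iff_map_eq_zero]
  intro a ha
  obtain ⟨a', ha'⟩ := im_sat ρ 0 0 a (by rw [ha, smul_zero])
  rw [ha', zero_smul]

theorem range_saturated (m : ℤ) (p : Idx (nH ρ) →₀ ℤ) (hm : m ≠ 0)
    (h : m • p ∈ LinearMap.range (im ρ)) : p ∈ LinearMap.range (im ρ) := by
  obtain ⟨a, ha⟩ := h
  obtain ⟨a', rfl⟩ := im_sat ρ m p a ha.symm
  rw [map_smul] at ha
  exact ⟨a', smul_right_injective _ hm ha⟩

theorem quot_flasque :
    IsFlasque (quotRep (tau (nH ρ)) ρ (im ρ) (im_equivariant ρ)) := by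
  intro H x hx
  haveI : Fintype H := Fintype.ofFinite H
  obtain ⟨τF, hτF⟩ : ∃ τF, τF = quotRep (tau (nH ρ)) ρ (im ρ) (im_equivariant ρ) := ⟨_, rfl⟩
  rw [← hτF] at hx ⊢
  have hq : ∀ g (y : Idx (nH ρ) →₀ ℤ),
      (LinearMap.range (im ρ)).mkQ (tau (nH ρ) g y) = τF g ((LinearMap.range (im ρ)).mkQ y) := by
    intro g y; rw [hτF]; rfl
  obtain ⟨p, rfl⟩ := Submodule.mkQ_surjective _ x
  have h1 : nrm τF H ((LinearMap.range (im ρ)).mkQ p) = 0 := by rw [nrm_eq_finsum]; exact hx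
  rw [← nrm_equivariant (tau (nH ρ)) τF H _ hq, Submodule.mkQ_apply,
    Submodule.Quotient.mk_eq_zero] at h1
  obtain ⟨a, ha⟩ := h1
  -- `a` is `H`-invariant
  have hainv : ∀ h ∈ H, ρ h a = a := by
    intro h hh
    apply im_injective ρ
    rw [im_equivariant, ha, rho_nrm _ _ h hh]
  -- divisibility
  have hdiv : ∀ k, (Fintype.card H : ℤ) ∣ phi ρ H k a := by
    intro k
    rw [← im_one, ha, nrm_apply, Finsupp.finset_sum_apply]
    have : ∀ h : H, tau (nH ρ) (h : G) p ⟨⟨H, k⟩, ((1 : G) : G ⧸ H)⟩ =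
        p ⟨⟨H, k⟩, ((1 : G) : G ⧸ H)⟩ := by
      intro h
      rw [tau_apply]
      congr 1
      show (⟨⟨H, k⟩, (h : G)⁻¹ • ((1 : G) : G ⧸ H)⟩ : Idx (nH ρ)) = _
      rw [MulAction.Quotient.smul_mk, smul_eq_mul, mul_one]
      congr 1
      exact QuotientGroup.eq.2 (by simp)
    rw [Finset.sum_congr rfl (fun h _ => this h), Finset.sum_const, Finset.card_univ,
      nsmul_eq_mul]
    exact dvd_mul_right _ _
  obtain ⟨a', ha'⟩ := phi_div ρ H a _ hdiv
  have h3 : nrm ρ H (a - (Fintype.card H : ℤ) • a') = 0 := nrm_sat ρ H _ ha'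
  rw [map_sub, map_smul, nrm_of_inv ρ H a hainv, ← smul_sub, smul_eq_zero] at h3
  have h4 : a = nrm ρ H a' := by
    rcases h3 with h | h
    · exact absurd h (by exact_mod_cast Fintype.card_ne_zero)
    · exact sub_eq_zero.1 h
  have h5 : ∑ h : H, tau (nH ρ) (h : G) (p - im ρ a') = 0 := by
    rw [← nrm_apply, map_sub, ← nrm_equivariant ρ (tau (nH ρ)) H (im ρ) (im_equivariant ρ),
      ← h4, ha, sub_self]
  have h6 := perm_flasque (tau (nH ρ)) (fun g x c => tau_single g x c) H _ h5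
  have h7 := map_Iaug_le (tau (nH ρ)) τF H _ hq h6
  rw [Submodule.mem_comap, map_sub] at h7
  have h8 : (LinearMap.range (im ρ)).mkQ (im ρ a') = 0 :=
    (Submodule.Quotient.mk_eq_zero _).2 ⟨a', rfl⟩
  rw [h8, sub_zero] at h7
  exact h7

end Flasque

theorem main3 (G : Type) [Group G] [Finite G]
    (A : Type) [AddCommGroup A] [Module.Finite ℤ A] [Module.Free ℤ A] (ρ : Representation ℤ G A) :
    ∃ (P : Type) (_ : AddCommGroup P) (F : Type) (_ : AddCommGroup F)
      (_ : Module.Finite ℤ P) (_ : Module.Free ℤ P) (_ : Module.Finite ℤ F) (_ : Module.Free ℤ F)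
      (σ : Representation ℤ G P) (τ : Representation ℤ G F) (i : A →ₗ[ℤ] P) (π : P →ₗ[ℤ] F),
      GLat.IsEquivariant ρ σ i ∧ GLat.IsEquivariant σ τ π ∧ Function.Injective i ∧ Function.Surjective π ∧
      LinearMap.range i = LinearMap.ker π ∧ GLat.IsPermutation σ ∧ GLat.IsFlasque τ := by
  refine ⟨Idx (nH ρ) →₀ ℤ, inferInstance, (Idx (nH ρ) →₀ ℤ) ⧸ LinearMap.range (im ρ), inferInstance,
    ?_, ?_, ?_, ?_, tau (nH ρ), quotRep (tau (nH ρ)) ρ (im ρ) (im_equivariant ρ), im ρ,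
    (LinearMap.range (im ρ)).mkQ, im_equivariant ρ, fun g m => rfl, im_injective ρ,
    Submodule.mkQ_surjective _, (Submodule.ker_mkQ _).symm, ?_, quot_flasque ρ⟩
  · infer_instance
  · infer_instance
  · infer_instance
  · exact free_quot _ (range_saturated ρ)
  · refine ⟨Idx (nH ρ), Finsupp.basisSingleOne, fun g i => ⟨g • i, ?_⟩⟩
    rw [Finsupp.coe_basisSingleOne, tau_single]

end Groth.Agent.Helper8.GLatRes
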