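import Mathlib
import Groth.Agent.Helper8.GLatRes3

set_option autoImplicit false

namespace Groth.Agent.Helper8.GLatRes

open GLat

theorem isFlasque_iff {G : Type} [Group G] [Finite G] {A : Type} [AddCommGroup A]
    (ρ : Representation ℤ G A) :
    IsFlasque ρ ↔ ∀ (H : Subgroup G) [Fintype H] (m : A), nrm ρ H m = 0 → m ∈ Iaug ρ H := by
  constructor
  · intro h H _ m hm
    rw [nrm_eq_finsum] at hm
    exact h H m hm
  · intro h H m hm
    haveI : Fintype H := Fintype.ofFinite H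
    rw [← nrm_eq_finsum] at hm
    exact h H m hm

/-- a permutation module is flasque -/
theorem isFlasque_of_isPermutation {G : Type} [Group G] [Finite G] {A : Type} [AddCommGroup A]
    (ρ : Representation ℤ G A) (hρ : IsPermutation ρ) : IsFlasque ρ := by
  obtain ⟨ι, b, hb⟩ := hρ
  choose act hact using hb
  letI : MulAction G ι :=
    { smul := act
      one_smul := by
        intro i
        apply b.injective
        show b (act 1 i) = b i
        rw [← hact, map_one, Module.End.one_apply]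
      mul_smul := by
        intro g h i
        apply b.injective
        show b (act (g * h) i) = b (act g (act h i))
        rw [← hact, ← hact, ← hact, map_mul, Module.End.mul_apply] }
  have hsm : ∀ g (i : ι), ρ g (b i) = b (g • i) := hact
  let τ : Representation ℤ G (ι →₀ ℤ) :=
    { toFun := fun g => b.repr.toLinearMap ∘ₗ ρ g ∘ₗ b.repr.symm.toLinearMap
      map_one' := by
        ext x
        simp
      map_mul' := fun g h => by
        ext x
        simp }
  have hτdef : ∀ g y, τ g y = b.repr (ρ g (b.repr.symm y)) := fun g y => rfl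
  have hτ : ∀ g (x : ι) (c : ℤ), τ g (Finsupp.single x c) = Finsupp.single (g • x) c := by
    intro g x c
    rw [hτdef, Module.Basis.repr_symm_single, map_smul, hsm, map_smul, Module.Basis.repr_self,
      Finsupp.smul_single, smul_eq_mul, mul_one]
  have hf : ∀ g y, b.repr.symm.toLinearMap (τ g y) = ρ g (b.repr.symm.toLinearMap y) := by
    intro g y
    rw [hτdef]
    simp
  rw [isFlasque_iff]
  intro H _ m hm
  have h1 : ∑ h : H, τ (h : G) (b.repr m) = 0 := by
    have := congrArg b.repr hm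
    rw [nrm_apply, map_sum, map_zero] at this
    rw [← this]
    refine Finset.sum_congr rfl (fun h _ => ?_)
    rw [hτdef, LinearEquiv.symm_apply_apply]
  have h2 := perm_flasque τ hτ H _ h1
  have h3 := map_Iaug_le τ ρ H b.repr.symm.toLinearMap hf h2
  rw [Submodule.mem_comap] at h3
  simpa using h3

/-- an extension of flasque modules is flasque -/
theorem flasque_ext {G : Type} [Group G] [Finite G] {A B C : Type} [AddCommGroup A]
    [AddCommGroup B] [AddCommGroup C] (ρA : Representation ℤ G A) (ρB : Representation ℤ G B)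
    (ρC : Representation ℤ G C) (i : A →ₗ[ℤ] B) (π : B →ₗ[ℤ] C)
    (hi : ∀ g a, i (ρA g a) = ρB g (i a)) (hπ : ∀ g b, π (ρB g b) = ρC g (π b))
    (inj : Function.Injective i) (surj : Function.Surjective π)
    (hex : LinearMap.range i = LinearMap.ker π) (hA : IsFlasque ρA) (hC : IsFlasque ρC) :
    IsFlasque ρB := by
  rw [isFlasque_iff] at hA hC ⊢
  intro H _ x hx
  have h1 : π x ∈ Iaug ρC H := by
    apply hC H
    rw [← nrm_equivariant ρB ρC H π hπ, hx, map_zero]
  have h2 : Iaug ρC H ≤ (Iaug ρB H).map π := by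
    unfold Iaug
    rw [Submodule.span_le]
    rintro _ ⟨h, c, rfl⟩
    obtain ⟨y, rfl⟩ := surj c
    refine ⟨ρB (h : G) y - y, Submodule.subset_span ⟨h, y, rfl⟩, ?_⟩
    rw [map_sub, hπ]
  obtain ⟨y, hy, hyx⟩ := h2 h1
  have h3 : x - y ∈ LinearMap.range i := by
    rw [hex, LinearMap.mem_ker, map_sub, hyx, sub_self]
  obtain ⟨a, ha⟩ := h3
  have h4 : nrm ρA H a = 0 := by
    apply inj
    rw [nrm_equivariant ρA ρB H i hi, ha, map_sub, hx, nrm_Iaug ρB H y hy, sub_zero, map_zero]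
  have h5 : i a ∈ Iaug ρB H := map_Iaug_le ρA ρB H i hi (hA H a h4)
  have : x = y + i a := by rw [ha]; abel
  rw [this]
  exact Submodule.add_mem _ hy h5

theorem main4 (G : Type) [Group G] [Finite G]
    (A : Type) [AddCommGroup A] [Module.Finite ℤ A] (ρ : Representation ℤ G A) :
    ∃ (P : Type) (_ : AddCommGroup P) (F : Type) (_ : AddCommGroup F)
      (_ : Module.Finite ℤ P) (_ : Module.Free ℤ P) (_ : Module.Finite ℤ F) (_ : Module.Free ℤ F)
      (σ : Representation ℤ G P) (τ : Representation ℤ G F) (i : P →ₗ[ℤ] F) (π : F →ₗ[ℤ] A),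
      GLat.IsEquivariant σ τ i ∧ GLat.IsEquivariant τ ρ π ∧ Function.Injective i ∧ Function.Surjective π ∧
      LinearMap.range i = LinearMap.ker π ∧ GLat.IsPermutation σ ∧ GLat.IsFlasque τ := by
  obtain ⟨M, _, P₁, _, finM, freeM, finP₁, freeP₁, μ, τ₁, i₁, π₁, eq_i₁, eq_π₁, inj_i₁, surj_π₁,
    range₁, perm₁, -⟩ := main G A ρ
  obtain ⟨P, _, F₁, _, finP, freeP, finF₁, freeF₁, σ, φ₁, i₂, π₂, eq_i₂, eq_π₂, inj_i₂, surj_π₂,
    range₂, perm₂, flas₁⟩ := main3 G M μ
  -- the pushout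
  let jj : M →ₗ[ℤ] P × P₁ := LinearMap.prod i₂ (-i₁)
  have hjj_apply : ∀ m, jj m = (i₂ m, -i₁ m) := fun m => rfl
  have hjj : ∀ g m, jj (μ g m) = (σ.prod τ₁) g (jj m) := by
    intro g m
    show (i₂ (μ g m), -i₁ (μ g m)) = (σ g (i₂ m), τ₁ g (-i₁ m))
    rw [eq_i₂, eq_i₁, map_neg]
  let τF := quotRep (σ.prod τ₁) μ jj hjj
  have hmk : ∀ g (e : P × P₁), (LinearMap.range jj).mkQ ((σ.prod τ₁) g e) =
      τF g ((LinearMap.range jj).mkQ e) := fun g e => rfl
  have hmk0 : ∀ e : P × P₁, (LinearMap.range jj).mkQ e = 0 ↔ ∃ m, (i₂ m, -i₁ m) = e := by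
    intro e
    rw [Submodule.mkQ_apply, Submodule.Quotient.mk_eq_zero]
    rfl
  -- the maps
  let i : P →ₗ[ℤ] (P × P₁) ⧸ LinearMap.range jj :=
    (LinearMap.range jj).mkQ ∘ₗ LinearMap.inl ℤ P P₁
  have hle : LinearMap.range jj ≤ LinearMap.ker (π₁ ∘ₗ LinearMap.snd ℤ P P₁) := by
    rintro _ ⟨m, rfl⟩
    rw [LinearMap.mem_ker]
    show π₁ (-i₁ m) = 0
    have : i₁ m ∈ LinearMap.ker π₁ := by rw [← range₁]; exact ⟨m, rfl⟩
    rw [map_neg, LinearMap.mem_ker.1 this, neg_zero]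
  let π : (P × P₁) ⧸ LinearMap.range jj →ₗ[ℤ] A :=
    (LinearMap.range jj).liftQ (π₁ ∘ₗ LinearMap.snd ℤ P P₁) hle
  have hπ_mk : ∀ e : P × P₁, π ((LinearMap.range jj).mkQ e) = π₁ e.2 := fun e => rfl
  let i' : P₁ →ₗ[ℤ] (P × P₁) ⧸ LinearMap.range jj :=
    (LinearMap.range jj).mkQ ∘ₗ LinearMap.inr ℤ P P₁
  have hle' : LinearMap.range jj ≤ LinearMap.ker (π₂ ∘ₗ LinearMap.fst ℤ P P₁) := by
    rintro _ ⟨m, rfl⟩
    rw [LinearMap.mem_ker]
    show π₂ (i₂ m) = 0
    have : i₂ m ∈ LinearMap.ker π₂ := by rw [← range₂]; exact ⟨m, rfl⟩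
    exact LinearMap.mem_ker.1 this
  let π' : (P × P₁) ⧸ LinearMap.range jj →ₗ[ℤ] F₁ :=
    (LinearMap.range jj).liftQ (π₂ ∘ₗ LinearMap.fst ℤ P P₁) hle'
  have hπ'_mk : ∀ e : P × P₁, π' ((LinearMap.range jj).mkQ e) = π₂ e.1 := fun e => rfl
  -- saturation
  have hsat : ∀ (n : ℤ) (e : P × P₁), n ≠ 0 → n • e ∈ LinearMap.range jj →
      e ∈ LinearMap.range jj := by
    rintro n ⟨p, p₁⟩ hn ⟨m, hm⟩
    have hm1 : i₂ m = n • p := congrArg Prod.fst hm
    have hm2 : -i₁ m = n • p₁ := congrArg Prod.snd hm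
    have h1 : π₂ p = 0 := by
      have : n • π₂ p = 0 := by
        rw [← map_smul, ← hm1]
        have : i₂ m ∈ LinearMap.ker π₂ := by rw [← range₂]; exact ⟨m, rfl⟩
        exact LinearMap.mem_ker.1 this
      rcases smul_eq_zero.1 this with h | h
      · exact absurd h hn
      · exact h
    have h2 : p ∈ LinearMap.range i₂ := by rw [range₂]; exact LinearMap.mem_ker.2 h1
    obtain ⟨m', rfl⟩ := h2
    have h3 : m = n • m' := by
      apply inj_i₂
      rw [hm1, map_smul]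
    refine ⟨m', ?_⟩
    show (i₂ m', -i₁ m') = (i₂ m', p₁)
    congr 1
    apply smul_right_injective P₁ hn
    show n • -i₁ m' = n • p₁
    rw [← hm2, h3, map_smul, smul_neg]
  have freeF : Module.Free ℤ ((P × P₁) ⧸ LinearMap.range jj) := free_quot _ hsat
  have flasF : IsFlasque τF := by
    refine flasque_ext τ₁ τF φ₁ i' π' ?_ ?_ ?_ ?_ ?_ (isFlasque_of_isPermutation τ₁ perm₁) flas₁
    · intro g p₁
      show (LinearMap.range jj).mkQ ((0 : P), τ₁ g p₁) = τF g ((LinearMap.range jj).mkQ (0, p₁))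
      rw [← hmk]
      show _ = (LinearMap.range jj).mkQ (σ g 0, τ₁ g p₁)
      rw [map_zero]
    · intro g x
      obtain ⟨e, rfl⟩ := Submodule.mkQ_surjective _ x
      rw [← hmk, hπ'_mk, hπ'_mk]
      exact eq_π₂ g e.1
    · rw [injective_iff_map_eq_zero]
      intro p₁ hp
      obtain ⟨m, hm⟩ := (hmk0 _).1 hp
      have hm1 : i₂ m = 0 := congrArg Prod.fst hm
      have hm2 : -i₁ m = p₁ := congrArg Prod.snd hm
      have : m = 0 := inj_i₂ (by rw [hm1, map_zero])
      rw [← hm2, this, map_zero, neg_zero]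
    · intro c
      obtain ⟨p, rfl⟩ := surj_π₂ c
      exact ⟨(LinearMap.range jj).mkQ (p, 0), rfl⟩
    · ext x
      obtain ⟨⟨p, p₁⟩, rfl⟩ := Submodule.mkQ_surjective _ x
      rw [LinearMap.mem_ker, hπ'_mk]
      constructor
      · rintro ⟨q₁, hq⟩
        have h0 : (LinearMap.range jj).mkQ ((0, q₁) - (p, p₁)) = 0 := by
          rw [map_sub, sub_eq_zero]; exact hq
        obtain ⟨m, hm⟩ := (hmk0 _).1 h0
        have hm1 : i₂ m = 0 - p := congrArg Prod.fst hm
        have : p = i₂ (-m) := by rw [map_neg, hm1]; abel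
        show π₂ p = 0
        rw [this]
        have : i₂ (-m) ∈ LinearMap.ker π₂ := by rw [← range₂]; exact ⟨-m, rfl⟩
        exact LinearMap.mem_ker.1 this
      · intro hp
        change π₂ p = 0 at hp
        have h2 : p ∈ LinearMap.range i₂ := by rw [range₂]; exact LinearMap.mem_ker.2 hp
        obtain ⟨m, rfl⟩ := h2
        refine ⟨p₁ + i₁ m, ?_⟩
        show (LinearMap.range jj).mkQ ((0 : P), p₁ + i₁ m) = (LinearMap.range jj).mkQ (i₂ m, p₁)
        rw [← sub_eq_zero, ← map_sub, hmk0]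
        refine ⟨-m, ?_⟩
        show (i₂ (-m), -i₁ (-m)) = (0 - i₂ m, p₁ + i₁ m - p₁)
        rw [map_neg, map_neg]
        congr 1 <;> abel
  refine ⟨P, inferInstance, (P × P₁) ⧸ LinearMap.range jj, inferInstance, finP, freeP, ?_, freeF,
    σ, τF, i, π, ?_, ?_, ?_, ?_, ?_, perm₂, flasF⟩
  · infer_instance
  · intro g p
    show (LinearMap.range jj).mkQ (σ g p, (0 : P₁)) = τF g ((LinearMap.range jj).mkQ (p, 0))
    rw [← hmk]
    show _ = (LinearMap.range jj).mkQ (σ g p, τ₁ g 0)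
    rw [map_zero]
  · intro g x
    obtain ⟨e, rfl⟩ := Submodule.mkQ_surjective _ x
    rw [← hmk, hπ_mk, hπ_mk]
    exact eq_π₁ g e.2
  · rw [injective_iff_map_eq_zero]
    intro p hp
    obtain ⟨m, hm⟩ := (hmk0 _).1 hp
    have hm1 : i₂ m = p := congrArg Prod.fst hm
    have hm2 : -i₁ m = 0 := congrArg Prod.snd hm
    have : m = 0 := inj_i₁ (by rw [map_zero, ← neg_eq_zero, hm2])
    rw [← hm1, this, map_zero]
  · intro a
    obtain ⟨p₁, rfl⟩ := surj_π₁ a
    exact ⟨(LinearMap.range jj).mkQ (0, p₁), rfl⟩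
  · ext x
    obtain ⟨⟨p, p₁⟩, rfl⟩ := Submodule.mkQ_surjective _ x
    rw [LinearMap.mem_ker, hπ_mk]
    constructor
    · rintro ⟨q, hq⟩
      have h0 : (LinearMap.range jj).mkQ ((q, 0) - (p, p₁)) = 0 := by
        rw [map_sub, sub_eq_zero]; exact hq
      obtain ⟨m, hm⟩ := (hmk0 _).1 h0
      have hm2 : -i₁ m = 0 - p₁ := congrArg Prod.snd hm
      have : p₁ = i₁ m := by
        have := neg_eq_iff_eq_neg.1 hm2
        rw [this]; abel
      show π₁ p₁ = 0
      rw [this]
      have : i₁ m ∈ LinearMap.ker π₁ := by rw [← range₁]; exact ⟨m, rfl⟩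
      exact LinearMap.mem_ker.1 this
    · intro hp
      change π₁ p₁ = 0 at hp
      have h2 : p₁ ∈ LinearMap.range i₁ := by rw [range₁]; exact LinearMap.mem_ker.2 hp
      obtain ⟨m, rfl⟩ := h2
      refine ⟨p + i₂ m, ?_⟩
      show (LinearMap.range jj).mkQ (p + i₂ m, (0 : P₁)) = (LinearMap.range jj).mkQ (p, i₁ m)
      rw [← sub_eq_zero, ← map_sub, hmk0]
      refine ⟨m, ?_⟩
      show (i₂ m, -i₁ m) = (p + i₂ m - p, 0 - i₁ m)
      congr 1 <;> abel

end Groth.Agent.Helper8.GLatRes
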