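import Mathlib
import Groth.Prelude.Def_W4bk4git07Quot
import Groth.Prelude.Def_ChGrp
import Groth.Agent.Helper8.GQDesc

/-!
# Universal geometric quotients descend along fpqc base change
-/

set_option autoImplicit false
universe u

namespace Groth.Agent.Helper8.GQUniv

open CategoryTheory CategoryTheory.Limits MonoidalCategory CartesianMonoidalCategory MonObj GrpObj
  AlgebraicGeometry Topology

noncomputable section

section Induced

variable {S : Scheme.{u}} {G X Y X₁ Y₁ : Over S} [GrpObj G] (a : AlgGrp.Action G X) (φ : X ⟶ Y)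
  (hinv : GIT.IsInvariant a φ) (pr : X₁ ⟶ X) (φ₁ : X₁ ⟶ Y₁) (g : Y₁ ⟶ Y)
  (hpb : IsPullback pr φ₁ φ g)

include hinv hpb in
theorem act₁_cond : ((G ◁ pr) ≫ a.act) ≫ φ = (snd G X₁ ≫ φ₁) ≫ g := by
  have h1 : a.act ≫ φ = snd G X ≫ φ := hinv
  rw [Category.assoc, h1, ← Category.assoc, whiskerLeft_snd, Category.assoc, hpb.w, Category.assoc]

/-- the induced action morphism on a base change -/
def act₁ : G ⊗ X₁ ⟶ X₁ :=
  hpb.lift ((G ◁ pr) ≫ a.act) (snd G X₁ ≫ φ₁) (act₁_cond a φ hinv pr φ₁ g hpb)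

theorem act₁_pr : act₁ a φ hinv pr φ₁ g hpb ≫ pr = (G ◁ pr) ≫ a.act := hpb.lift_fst _ _ _

theorem act₁_φ₁ : act₁ a φ hinv pr φ₁ g hpb ≫ φ₁ = snd G X₁ ≫ φ₁ := hpb.lift_snd _ _ _

theorem act₁_pt_pr {T : Over S} (h : T ⟶ G) (z : T ⟶ X₁) :
    (lift h z ≫ act₁ a φ hinv pr φ₁ g hpb) ≫ pr = lift h (z ≫ pr) ≫ a.act := by
  rw [Category.assoc, act₁_pr, lift_whiskerLeft_assoc]

theorem act₁_pt_φ₁ {T : Over S} (h : T ⟶ G) (z : T ⟶ X₁) :
    (lift h z ≫ act₁ a φ hinv pr φ₁ g hpb) ≫ φ₁ = z ≫ φ₁ := by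
  rw [Category.assoc, act₁_φ₁, lift_snd_assoc]

/-- the induced action on a base change -/
def inducedAction : AlgGrp.Action G X₁ where
  act := act₁ a φ hinv pr φ₁ g hpb
  one_act := by
    apply hpb.hom_ext
    · rw [Category.assoc, act₁_pr, ← whisker_exchange_assoc, a.one_act, leftUnitor_naturality]
    · rw [Category.assoc, act₁_φ₁, whiskerRight_snd_assoc, leftUnitor_hom]
  mul_act := by
    apply AlgGrp.Action.hom_ext_lift₃
    intro T h h' z
    apply hpb.hom_ext
    · simp only [Category.assoc]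
      rw [lift_whiskerRight_assoc, ← Hom.mul_def, ← Category.assoc, act₁_pt_pr,
        lift_lift_associator_hom_assoc, lift_whiskerLeft_assoc, ← Category.assoc, act₁_pt_pr,
        act₁_pt_pr, AlgGrp.Action.lift_mul_act]
    · simp only [Category.assoc]
      rw [lift_whiskerRight_assoc, ← Hom.mul_def, ← Category.assoc, act₁_pt_φ₁,
        lift_lift_associator_hom_assoc, lift_whiskerLeft_assoc, ← Category.assoc, act₁_pt_φ₁,
        act₁_pt_φ₁]

@[simp] theorem inducedAction_act :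
    (inducedAction a φ hinv pr φ₁ g hpb).act = act₁ a φ hinv pr φ₁ g hpb := rfl

theorem inducedAction_equivariant :
    (inducedAction a φ hinv pr φ₁ g hpb).act ≫ pr = (G ◁ pr) ≫ a.act :=
  act₁_pr a φ hinv pr φ₁ g hpb

theorem inducedAction_invariant : GIT.IsInvariant (inducedAction a φ hinv pr φ₁ g hpb) φ₁ :=
  act₁_φ₁ a φ hinv pr φ₁ g hpb

end Induced

section Main

/-- universal geometric quotients descend along fpqc base change -/
theorem isUnivGeomQuot_desc {S : Scheme.{u}} (G X Y X' Y' : Over S) [GrpObj G]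
    (a : AlgGrp.Action G X) (φ : X ⟶ Y) (hinv : GIT.IsInvariant a φ) [QuasiCompact φ.left]
    (α : Y' ⟶ Y) [Flat α.left] [Surjective α.left] [QuasiCompact α.left]
    (pr : X' ⟶ X) (φ' : X' ⟶ Y') (hpb : IsPullback pr φ' φ α)
    (a' : AlgGrp.Action G X') (heq : a'.act ≫ pr = (G ◁ pr) ≫ a.act)
    (hinv' : GIT.IsInvariant a' φ') (h : GIT.IsUnivGeomQuot a' φ') :
    GIT.IsUnivGeomQuot a φ := by
  refine ⟨GQDesc.isGeomQuot_desc G X Y X' Y' a φ hinv α pr φ' hpb a' heq hinv' h.1, ?_⟩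
  intro X₁ Y₁ pr₁ φ₁ g _ hpb₁ a₁ heq₁ hinv₁
  -- the base change `Y₁' = Y₁ ×_Y Y'` and `X₁' = X₁ ×_{Y₁} Y₁'`
  have hY : IsPullback (pullback.fst g α) (pullback.snd g α) g α := IsPullback.of_hasPullback g α
  have hX : IsPullback (pullback.fst φ₁ (pullback.fst g α)) (pullback.snd φ₁ (pullback.fst g α)) φ₁
      (pullback.fst g α) := IsPullback.of_hasPullback φ₁ (pullback.fst g α)
  -- instances
  have hYl : IsPullback (pullback.fst g α).left (pullback.snd g α).left g.left α.left :=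
    hY.map (Over.forget _)
  haveI : Flat (pullback.fst g α).left :=
    MorphismProperty.of_isPullback (P := @Flat) hYl.flip inferInstance
  haveI : Surjective (pullback.fst g α).left :=
    MorphismProperty.of_isPullback (P := @Surjective) hYl.flip inferInstance
  haveI : QuasiCompact (pullback.fst g α).left :=
    MorphismProperty.of_isPullback (P := @QuasiCompact) hYl.flip inferInstance
  have hpb₁l : IsPullback pr₁.left φ₁.left φ.left g.left := hpb₁.map (Over.forget _)
  haveI : QuasiCompact φ₁.left :=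
    MorphismProperty.of_isPullback (P := @QuasiCompact) hpb₁l inferInstance
  -- the outer rectangle
  have hout : IsPullback (pullback.fst φ₁ (pullback.fst g α) ≫ pr₁)
      (pullback.snd φ₁ (pullback.fst g α)) φ (pullback.fst g α ≫ g) := hX.paste_horiz hpb₁
  have hcond : pullback.fst g α ≫ g = pullback.snd g α ≫ α := pullback.condition
  have hql : (pullback.fst φ₁ (pullback.fst g α) ≫ pr₁) ≫ φ =
      (pullback.snd φ₁ (pullback.fst g α) ≫ pullback.snd g α) ≫ α := by
    rw [hout.w, hcond, Category.assoc]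
  have hq1 : hpb.lift _ _ hql ≫ pr = pullback.fst φ₁ (pullback.fst g α) ≫ pr₁ :=
    hpb.lift_fst _ _ _
  have hq2 : hpb.lift _ _ hql ≫ φ' = pullback.snd φ₁ (pullback.fst g α) ≫ pullback.snd g α :=
    hpb.lift_snd _ _ _
  have hout' : IsPullback (hpb.lift _ _ hql ≫ pr) (pullback.snd φ₁ (pullback.fst g α)) φ
      (pullback.snd g α ≫ α) := by
    rw [hq1, ← hcond]
    exact hout
  have hpbq : IsPullback (hpb.lift _ _ hql) (pullback.snd φ₁ (pullback.fst g α)) φ'
      (pullback.snd g α) := IsPullback.of_right hout' hq2 hpb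
  -- the induced action on `X₁'`
  have hact_pr := inducedAction_equivariant a₁ φ₁ hinv₁ _ _ _ hX
  have hact_inv := inducedAction_invariant a₁ φ₁ hinv₁ _ _ _ hX
  have hinv'' : a'.act ≫ φ' = snd G X' ≫ φ' := hinv'
  have hact_inv' : (inducedAction a₁ φ₁ hinv₁ _ _ _ hX).act ≫
      pullback.snd φ₁ (pullback.fst g α) = snd G _ ≫ pullback.snd φ₁ (pullback.fst g α) :=
    hact_inv
  have heqq : (inducedAction a₁ φ₁ hinv₁ _ _ _ hX).act ≫ hpb.lift _ _ hql =
      (G ◁ hpb.lift _ _ hql) ≫ a'.act := by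
    apply hpb.hom_ext
    · rw [Category.assoc, hq1, ← Category.assoc, hact_pr, Category.assoc, heq₁, Category.assoc,
        heq, ← whiskerLeft_comp_assoc, ← whiskerLeft_comp_assoc, hq1]
    · rw [Category.assoc, hq2, ← Category.assoc, hact_inv', Category.assoc, Category.assoc,
        hinv'', whiskerLeft_snd_assoc, hq2]
  have hgq : GIT.IsGeomQuot (inducedAction a₁ φ₁ hinv₁ _ _ _ hX)
      (pullback.snd φ₁ (pullback.fst g α)) :=
    h.2 (hpb.lift _ _ hql) (pullback.snd φ₁ (pullback.fst g α)) (pullback.snd g α) trivial hpbq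
      (inducedAction a₁ φ₁ hinv₁ _ _ _ hX) heqq hact_inv
  exact GQDesc.isGeomQuot_desc G X₁ Y₁ _ _ a₁ φ₁ hinv₁ (pullback.fst g α)
    (pullback.fst φ₁ (pullback.fst g α)) (pullback.snd φ₁ (pullback.fst g α)) hX
    (inducedAction a₁ φ₁ hinv₁ _ _ _ hX) hact_pr hact_inv hgq

/-- Main statement. -/
theorem main (k : Type u) [Field k]
    (G X Y X' Y' : Over (Spec (CommRingCat.of k))) [GrpObj G] [IsAffine G.left]
    [LocallyOfFiniteType G.hom]
    [LocallyOfFiniteType X.hom] [QuasiCompact X.hom] [IsSeparated X.hom]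
    [LocallyOfFiniteType Y.hom] [QuasiCompact Y.hom] [IsSeparated Y.hom]
    (a : AlgGrp.Action G X) (φ : X ⟶ Y) (hinv : GIT.IsInvariant a φ)
    (α : Y' ⟶ Y) [Flat α.left] [Surjective α.left] [QuasiCompact α.left]
    (pr : X' ⟶ X) (φ' : X' ⟶ Y') (hpb : IsPullback pr φ' φ α)
    (a' : AlgGrp.Action G X') (heq : a'.act ≫ pr = (G ◁ pr) ≫ a.act)
    (hinv' : GIT.IsInvariant a' φ')
    (h : GIT.IsUnivGeomQuot a' φ') :
    GIT.IsUnivGeomQuot a φ := by
  have hw : φ.left ≫ Y.hom = X.hom := Over.w φ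
  haveI : QuasiCompact (φ.left ≫ Y.hom) := by rw [hw]; infer_instance
  haveI : QuasiCompact φ.left := QuasiCompact.of_comp φ.left Y.hom
  exact isUnivGeomQuot_desc G X Y X' Y' a φ hinv α pr φ' hpb a' heq hinv' h

end Main

end

end Groth.Agent.Helper8.GQUniv
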