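import Mathlib

/-!
# Equivalence of idempotent matrices (Horrocks–Quillen project)

`IdemEquiv p q` : `p = a b`, `q = b a`.  For idempotents this says that the images of `p` and `q`
are isomorphic modules.  `FreeIdem E` : `E = U V`, `V U = 1` (the image of `E` is free).
-/

set_option autoImplicit false

namespace Groth.Agent.Helper8.HQ

open Matrix

section Basic

variable {B : Type*} [CommRing B] {n : Type*} [Fintype n] [DecidableEq n]

/-- Equivalence of (idempotent) matrices: `p = a b`, `q = b a`. -/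
def IdemEquiv (p q : Matrix n n B) : Prop :=
  ∃ a b : Matrix n n B, a * b = p ∧ b * a = q

theorem IdemEquiv.refl {p : Matrix n n B} (hp : p * p = p) : IdemEquiv p p :=
  ⟨p, p, hp, hp⟩

theorem IdemEquiv.symm {p q : Matrix n n B} (h : IdemEquiv p q) : IdemEquiv q p := by
  obtain ⟨a, b, h1, h2⟩ := h
  exact ⟨b, a, h2, h1⟩

theorem IdemEquiv.trans {p q s : Matrix n n B} (hp : p * p = p) (hs : s * s = s)
    (h1 : IdemEquiv p q) (h2 : IdemEquiv q s) : IdemEquiv p s := by
  obtain ⟨a, b, hab, hba⟩ := h1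
  obtain ⟨c, d, hcd, hdc⟩ := h2
  refine ⟨a * c, d * b, ?_, ?_⟩
  · calc a * c * (d * b) = a * (c * d) * b := by simp only [Matrix.mul_assoc]
      _ = a * (b * a) * b := by rw [hcd, hba]
      _ = (a * b) * (a * b) := by simp only [Matrix.mul_assoc]
      _ = p := by rw [hab, hp]
  · calc d * b * (a * c) = d * (b * a) * c := by simp only [Matrix.mul_assoc]
      _ = d * (c * d) * c := by rw [hba, hcd]
      _ = (d * c) * (d * c) := by simp only [Matrix.mul_assoc]
      _ = s := by rw [hdc, hs]

theorem IdemEquiv.map {C : Type*} [CommRing C] (φ : B →+* C) {p q : Matrix n n B}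
    (h : IdemEquiv p q) : IdemEquiv (φ.mapMatrix p) (φ.mapMatrix q) := by
  obtain ⟨a, b, hab, hba⟩ := h
  exact ⟨φ.mapMatrix a, φ.mapMatrix b, by rw [← map_mul, hab], by rw [← map_mul, hba]⟩

/-- The image of `E` is free: `E = U V`, `V U = 1`. -/
def FreeIdem (E : Matrix n n B) : Prop :=
  ∃ (ι : Type) (_ : Fintype ι) (_ : DecidableEq ι) (U : Matrix n ι B) (V : Matrix ι n B),
    U * V = E ∧ V * U = 1

theorem FreeIdem.zero : FreeIdem (0 : Matrix n n B) :=
  ⟨Empty, inferInstance, inferInstance, 0, 0, by simp, by ext i; exact i.elim⟩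

/-- If the image of `E` is free, then `E` is equivalent to its image under any ring endomorphism. -/
theorem FreeIdem.idemEquiv_map {E : Matrix n n B} (h : FreeIdem E) (ψ : B →+* B) :
    IdemEquiv E (ψ.mapMatrix E) := by
  obtain ⟨ι, _, _, U, V, hUV, hVU⟩ := h
  refine ⟨U * V.map ψ, U.map ψ * V, ?_, ?_⟩
  · calc U * V.map ψ * (U.map ψ * V) = U * (V.map ψ * U.map ψ) * V := by
          simp only [Matrix.mul_assoc]
      _ = U * ((V * U).map ψ) * V := by rw [Matrix.map_mul]
      _ = E := by rw [hVU, Matrix.map_one _ (map_zero ψ) (map_one ψ), Matrix.mul_one, hUV]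
  · calc U.map ψ * V * (U * V.map ψ) = U.map ψ * (V * U) * V.map ψ := by
          simp only [Matrix.mul_assoc]
      _ = U.map ψ * V.map ψ := by rw [hVU, Matrix.mul_one]
      _ = (U * V).map ψ := by rw [Matrix.map_mul]
      _ = ψ.mapMatrix E := by rw [hUV]; rfl

/-- Adding a free rank one summand. -/
theorem FreeIdem.add_rankOne {E E' : Matrix n n B} (s r : n → B)
    (hrs : r ⬝ᵥ s = 1) (hE : E = vecMulVec s r + E') (h1 : r ᵥ* E' = 0) (h2 : E' *ᵥ s = 0)
    (h : FreeIdem E') : FreeIdem E := by
  obtain ⟨ι, _, _, U, V, hUV, hVU⟩ := h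
  -- normalise `U`, `V`
  have hE'E' : E' * E' = E' := by
    rw [← hUV]
    calc U * V * (U * V) = U * (V * U) * V := by simp only [Matrix.mul_assoc]
      _ = U * V := by rw [hVU, Matrix.mul_one]
  have hrU : r ᵥ* U = 0 := by
    have : r ᵥ* U = r ᵥ* (E' * U) := by
      rw [← hUV]
      congr 1
      calc U = U * (V * U) := by rw [hVU, Matrix.mul_one]
        _ = U * V * U := by rw [Matrix.mul_assoc]
    rw [this, ← Matrix.vecMul_vecMul, h1, Matrix.zero_vecMul]
  have hVs : V *ᵥ s = 0 := by
    have : V *ᵥ s = (V * E') *ᵥ s := by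
      rw [← hUV]
      congr 1
      calc V = (V * U) * V := by rw [hVU, Matrix.one_mul]
        _ = V * (U * V) := by rw [Matrix.mul_assoc]
    rw [this, ← Matrix.mulVec_mulVec, h2, Matrix.mulVec_zero]
  refine ⟨Unit ⊕ ι, inferInstance, inferInstance,
    Matrix.fromCols (Matrix.replicateCol Unit s) U,
    Matrix.fromRows (Matrix.replicateRow Unit r) V, ?_, ?_⟩
  · rw [Matrix.fromCols_mul_fromRows, hE, hUV, Matrix.vecMulVec_eq Unit]
  · rw [Matrix.fromRows_mul_fromCols, hVU, ← Matrix.fromBlocks_one]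
    congr 1
    · ext i j
      simp [Matrix.mul_apply, dotProduct, ← hrs]
    · ext i j
      have := congrFun hrU j
      simpa [Matrix.mul_apply, Matrix.vecMul, dotProduct] using this
    · ext i j
      have := congrFun hVs i
      simpa [Matrix.mul_apply, Matrix.mulVec, dotProduct] using this

end Basic

end Groth.Agent.Helper8.HQ
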