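import Mathlib
import Groth.Agent.Helper8.HQIdem

/-!
# Rectangular equivalence of idempotent matrices, and base change to matrices
(monic-localization descent project)
-/

set_option autoImplicit false

namespace Groth.Agent.Helper8.HQ

open Matrix TensorProduct

section REquiv

variable {B : Type*} [CommRing B] {n m l : Type*} [Fintype n] [Fintype m] [Fintype l]
  [DecidableEq n] [DecidableEq m] [DecidableEq l]

/-- Rectangular equivalence of (idempotent) matrices: `p = a b`, `q = b a`. -/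
def REquiv (p : Matrix n n B) (q : Matrix m m B) : Prop :=
  ∃ (a : Matrix n m B) (b : Matrix m n B), a * b = p ∧ b * a = q

theorem REquiv.symm {p : Matrix n n B} {q : Matrix m m B} (h : REquiv p q) : REquiv q p := by
  obtain ⟨a, b, h1, h2⟩ := h
  exact ⟨b, a, h2, h1⟩

theorem REquiv.trans {p : Matrix n n B} {e : Matrix m m B} {q : Matrix l l B}
    (hp : p * p = p) (hq : q * q = q) (h1 : REquiv p e) (h2 : REquiv e q) : REquiv p q := by
  obtain ⟨a, b, hab, hba⟩ := h1
  obtain ⟨c, d, hcd, hdc⟩ := h2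
  refine ⟨a * c, d * b, ?_, ?_⟩
  · calc a * c * (d * b) = a * (c * d) * b := by simp only [Matrix.mul_assoc]
      _ = a * (b * a) * b := by rw [hcd, hba]
      _ = (a * b) * (a * b) := by simp only [Matrix.mul_assoc]
      _ = p := by rw [hab, hp]
  · calc d * b * (a * c) = d * (b * a) * c := by simp only [Matrix.mul_assoc]
      _ = d * (c * d) * c := by rw [hba, hcd]
      _ = (d * c) * (d * c) := by simp only [Matrix.mul_assoc]
      _ = q := by rw [hdc, hq]

theorem IdemEquiv.rEquiv {p q : Matrix n n B} (h : IdemEquiv p q) : REquiv p q := h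

theorem REquiv.map {C : Type*} [CommRing C] (φ : B →+* C) {p : Matrix n n B} {q : Matrix m m B}
    (h : REquiv p q) : REquiv (p.map φ) (q.map φ) := by
  obtain ⟨a, b, hab, hba⟩ := h
  exact ⟨a.map φ, b.map φ, by rw [← Matrix.map_mul, hab], by rw [← Matrix.map_mul, hba]⟩

/-- Normalisation: from `a b = c p`, `b a = c q` pass to `a₁ = a b a`, `b₁ = b a b`. -/
theorem exists_normalized {c : B} {p : Matrix n n B} {q : Matrix m m B}
    (hp : p * p = p) (hq : q * q = q) {a : Matrix n m B} {b : Matrix m n B}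
    (hab : a * b = c • p) (hba : b * a = c • q) :
    ∃ (a₁ : Matrix n m B) (b₁ : Matrix m n B), a₁ * b₁ = (c ^ 3) • p ∧ b₁ * a₁ = (c ^ 3) • q ∧
      p * a₁ = a₁ ∧ a₁ * q = a₁ ∧ q * b₁ = b₁ ∧ b₁ * p = b₁ := by
  refine ⟨a * b * a, b * a * b, ?_, ?_, ?_, ?_, ?_, ?_⟩
  · calc a * b * a * (b * a * b) = (a * b) * (a * b) * (a * b) := by
          simp only [Matrix.mul_assoc]
      _ = (c ^ 3) • p := by
          rw [hab]
          simp only [Matrix.smul_mul, Matrix.mul_smul, hp, smul_smul]
          congr 1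
          ring
  · calc b * a * b * (a * b * a) = (b * a) * (b * a) * (b * a) := by
          simp only [Matrix.mul_assoc]
      _ = (c ^ 3) • q := by
          rw [hba]
          simp only [Matrix.smul_mul, Matrix.mul_smul, hq, smul_smul]
          congr 1
          ring
  · rw [hab, Matrix.smul_mul, Matrix.mul_smul, ← Matrix.mul_assoc, hp]
  · rw [Matrix.mul_assoc a b a, hba, Matrix.mul_smul, Matrix.smul_mul, Matrix.mul_assoc, hq]
  · rw [hba, Matrix.smul_mul, Matrix.mul_smul, ← Matrix.mul_assoc, hq]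
  · rw [Matrix.mul_assoc b a b, hab, Matrix.mul_smul, Matrix.smul_mul, Matrix.mul_assoc, hp]

end REquiv

section Modules

variable {A : Type*} [CommRing A]
variable {P : Type*} [AddCommGroup P] [Module A P]
variable {P' : Type*} [AddCommGroup P'] [Module A P']
variable {n n' : ℕ} (f : (Fin n → A) →ₗ[A] P) (g : P →ₗ[A] (Fin n → A))
variable (f' : (Fin n' → A) →ₗ[A] P') (g' : P' →ₗ[A] (Fin n' → A))

theorem toMatrix'_idemG (hfg : f ∘ₗ g = LinearMap.id) :
    LinearMap.toMatrix' (g ∘ₗ f) * LinearMap.toMatrix' (g ∘ₗ f) = LinearMap.toMatrix' (g ∘ₗ f) := by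
  have : (g ∘ₗ f) ∘ₗ (g ∘ₗ f) = g ∘ₗ f := by
    refine LinearMap.ext fun x => ?_
    simp only [LinearMap.comp_apply]
    rw [show f (g (f x)) = f x from LinearMap.congr_fun hfg (f x)]
  rw [← LinearMap.toMatrix'_comp, this]

/-- Rectangularly equivalent idempotents have isomorphic images. -/
theorem nonempty_linearEquiv_of_rEquiv (hfg : f ∘ₗ g = LinearMap.id)
    (hfg' : f' ∘ₗ g' = LinearMap.id)
    (h : REquiv (LinearMap.toMatrix' (g ∘ₗ f)) (LinearMap.toMatrix' (g' ∘ₗ f'))) :
    Nonempty (P ≃ₗ[A] P') := by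
  obtain ⟨a, b, hab, hba⟩ := h
  have hfgx : ∀ x, f (g x) = x := LinearMap.congr_fun hfg
  have hfgx' : ∀ x, f' (g' x) = x := LinearMap.congr_fun hfg'
  have hab' : ∀ v, Matrix.toLin' a (Matrix.toLin' b v) = g (f v) := by
    intro v
    have := congrArg Matrix.toLin' hab
    rw [Matrix.toLin'_mul, Matrix.toLin'_toMatrix'] at this
    exact LinearMap.congr_fun this v
  have hba' : ∀ v, Matrix.toLin' b (Matrix.toLin' a v) = g' (f' v) := by
    intro v
    have := congrArg Matrix.toLin' hba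
    rw [Matrix.toLin'_mul, Matrix.toLin'_toMatrix'] at this
    exact LinearMap.congr_fun this v
  refine ⟨LinearEquiv.ofLinearMap (f' ∘ₗ Matrix.toLin' b ∘ₗ g) (f ∘ₗ Matrix.toLin' a ∘ₗ g')
    ?_ ?_⟩
  · refine LinearMap.ext fun y => ?_
    simp only [LinearMap.comp_apply, LinearMap.id_apply]
    rw [show g (f (Matrix.toLin' a (g' y))) =
      Matrix.toLin' a (Matrix.toLin' b (Matrix.toLin' a (g' y))) from (hab' _).symm,
      hba', hba', hfgx', hfgx', hfgx']
  · refine LinearMap.ext fun x => ?_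
    simp only [LinearMap.comp_apply, LinearMap.id_apply]
    rw [show g' (f' (Matrix.toLin' b (g x))) =
      Matrix.toLin' b (Matrix.toLin' a (Matrix.toLin' b (g x))) from (hba' _).symm,
      hab', hab', hfgx, hfgx, hfgx]

end Modules

section BaseChange

variable {A : Type*} [CommRing A] (B : Type*) [CommRing B] [Algebra A B]
variable {P : Type*} [AddCommGroup P] [Module A P]
variable {P' : Type*} [AddCommGroup P'] [Module A P']
variable {n n' : ℕ} (f : (Fin n → A) →ₗ[A] P) (g : P →ₗ[A] (Fin n → A))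
variable (f' : (Fin n' → A) →ₗ[A] P') (g' : P' →ₗ[A] (Fin n' → A))

/-- `Bⁿ → B ⊗ P`. -/
noncomputable def alphaG : (Fin n → B) →ₗ[B] (B ⊗[A] P) :=
  Fintype.linearCombination B (fun i => (1 : B) ⊗ₜ[A] f (Pi.single i 1))

/-- `B ⊗ P → Bⁿ`. -/
noncomputable def betaG : (B ⊗[A] P) →ₗ[B] (Fin n → B) :=
  LinearMap.liftBaseChange B (((Algebra.linearMap A B).compLeft (Fin n)) ∘ₗ g)

theorem betaG_tmul (b : B) (m : P) :
    betaG B g (b ⊗ₜ[A] m) = b • (fun i => algebraMap A B (g m i)) := rfl

theorem alphaG_apply (x : Fin n → B) :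
    alphaG B f x = ∑ i, x i • ((1 : B) ⊗ₜ[A] f (Pi.single i 1)) := rfl

theorem alphaG_algebraMap (v : Fin n → A) :
    alphaG B f (fun i => algebraMap A B (v i)) = (1 : B) ⊗ₜ[A] f v := by
  rw [alphaG_apply]
  have : ∀ i, algebraMap A B (v i) • ((1 : B) ⊗ₜ[A] f (Pi.single i 1)) =
      (1 : B) ⊗ₜ[A] f (v i • Pi.single i 1) := by
    intro i
    rw [algebraMap_smul, map_smul, TensorProduct.tmul_smul]
  simp_rw [this]
  rw [← TensorProduct.tmul_sum, ← map_sum]
  congr 2
  funext k
  simp [Finset.sum_apply, Pi.single_apply]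

theorem alphaG_betaG (hfg : f ∘ₗ g = LinearMap.id) (z : B ⊗[A] P) :
    alphaG B f (betaG B g z) = z := by
  induction z using TensorProduct.induction_on with
  | zero => simp
  | tmul b m =>
    rw [betaG_tmul, map_smul, alphaG_algebraMap]
    have : f (g m) = m := LinearMap.congr_fun hfg m
    rw [this, TensorProduct.smul_tmul', smul_eq_mul, mul_one]
  | add x y hx hy => rw [map_add, map_add, hx, hy]

theorem betaG_alphaG (x : Fin n → B) :
    betaG B g (alphaG B f x) =
      (LinearMap.toMatrix' (g ∘ₗ f)).map (algebraMap A B) *ᵥ x := by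
  have h : (betaG B g) ∘ₗ (alphaG B f) =
      Matrix.mulVecLin ((LinearMap.toMatrix' (g ∘ₗ f)).map (algebraMap A B)) := by
    refine (Pi.basisFun B (Fin n)).ext fun i => ?_
    rw [Pi.basisFun_apply, LinearMap.comp_apply, Matrix.mulVecLin_apply,
      Matrix.mulVec_single_one]
    have : alphaG B f (Pi.single i 1) = (1 : B) ⊗ₜ[A] f (Pi.single i 1) := by
      unfold alphaG
      rw [Fintype.linearCombination_apply_single, one_smul]
    rw [this, betaG_tmul, one_smul]
    funext k
    simp [LinearMap.toMatrix'_apply]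
  exact LinearMap.congr_fun h x

/-- An isomorphism of base changes gives a rectangular equivalence of the base-changed
idempotents. -/
theorem rEquiv_of_baseChange_equiv (hfg : f ∘ₗ g = LinearMap.id)
    (hfg' : f' ∘ₗ g' = LinearMap.id) (θ : (B ⊗[A] P) ≃ₗ[B] (B ⊗[A] P')) :
    REquiv ((LinearMap.toMatrix' (g ∘ₗ f)).map (algebraMap A B))
      ((LinearMap.toMatrix' (g' ∘ₗ f')).map (algebraMap A B)) := by
  refine ⟨LinearMap.toMatrix' (betaG B g ∘ₗ θ.symm.toLinearMap ∘ₗ alphaG B f'),
    LinearMap.toMatrix' (betaG B g' ∘ₗ θ.toLinearMap ∘ₗ alphaG B f), ?_, ?_⟩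
  · rw [← LinearMap.toMatrix'_comp]
    have : (betaG B g ∘ₗ θ.symm.toLinearMap ∘ₗ alphaG B f') ∘ₗ
        (betaG B g' ∘ₗ θ.toLinearMap ∘ₗ alphaG B f) =
        Matrix.toLin' ((LinearMap.toMatrix' (g ∘ₗ f)).map (algebraMap A B)) := by
      refine LinearMap.ext fun x => ?_
      simp only [LinearMap.comp_apply, LinearEquiv.coe_coe]
      rw [alphaG_betaG B f' g' hfg', θ.symm_apply_apply, betaG_alphaG]
      rfl
    rw [this, LinearMap.toMatrix'_toLin']
  · rw [← LinearMap.toMatrix'_comp]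
    have : (betaG B g' ∘ₗ θ.toLinearMap ∘ₗ alphaG B f) ∘ₗ
        (betaG B g ∘ₗ θ.symm.toLinearMap ∘ₗ alphaG B f') =
        Matrix.toLin' ((LinearMap.toMatrix' (g' ∘ₗ f')).map (algebraMap A B)) := by
      refine LinearMap.ext fun x => ?_
      simp only [LinearMap.comp_apply, LinearEquiv.coe_coe]
      rw [alphaG_betaG B f g hfg, θ.apply_symm_apply, betaG_alphaG]
      rfl
    rw [this, LinearMap.toMatrix'_toLin']

end BaseChange

end Groth.Agent.Helper8.HQ
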