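import Mathlib
import Groth.Agent.Helper8.HQMonicA

/-!
# Algebraic lemmas for descending isomorphisms of projective modules from Laurent series
-/

set_option autoImplicit false

namespace Groth.Agent.Helper8.HQ

open Matrix

section Clear

variable {S : Type*} [CommRing S] (M : Submonoid S)
variable (T : Type*) [CommRing T] [Algebra S T] [IsLocalization M T]
variable {n m : Type*} [Fintype n] [Fintype m] [DecidableEq n] [DecidableEq m]

/-- Clearing denominators in a rectangular equivalence over a localization. -/
theorem exists_clear (hinj : Function.Injective (algebraMap S T))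
    (p : Matrix n n S) (q : Matrix m m S) (a' : Matrix n m T)
    (b' : Matrix m n T) (hab : a' * b' = p.map (algebraMap S T))
    (hba : b' * a' = q.map (algebraMap S T)) :
    ∃ (F : S) (a₀ : Matrix n m S) (b₀ : Matrix m n S), F ∈ M ∧
      a₀ * b₀ = F • p ∧ b₀ * a₀ = F • q := by
  obtain ⟨F₁, hF₁⟩ := IsLocalization.exist_integer_multiples_of_finite M
    (fun ij : n × m => a' ij.1 ij.2)
  obtain ⟨F₂, hF₂⟩ := IsLocalization.exist_integer_multiples_of_finite M
    (fun ij : m × n => b' ij.1 ij.2)
  choose x hx using hF₁
  choose y hy using hF₂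
  have e1 : (Matrix.of fun i j => x (i, j)).map (algebraMap S T) =
      algebraMap S T F₁ • a' := by
    ext i j
    have := hx (i, j)
    rw [Algebra.smul_def] at this
    simp only [Matrix.map_apply, Matrix.of_apply, Matrix.smul_apply, smul_eq_mul]
    exact this
  have e2 : (Matrix.of fun i j => y (i, j)).map (algebraMap S T) =
      algebraMap S T F₂ • b' := by
    ext i j
    have := hy (i, j)
    rw [Algebra.smul_def] at this
    simp only [Matrix.map_apply, Matrix.of_apply, Matrix.smul_apply, smul_eq_mul]
    exact this
  refine ⟨F₁ * F₂, Matrix.of fun i j => x (i, j), Matrix.of fun i j => y (i, j),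
    M.mul_mem F₁.2 F₂.2, ?_, ?_⟩
  · apply Matrix.map_injective hinj
    dsimp only
    rw [Matrix.map_mul, e1, e2, Matrix.smul_mul, Matrix.mul_smul, hab, smul_smul]
    ext i j
    simp only [Matrix.map_apply, Matrix.smul_apply, smul_eq_mul, map_mul]
  · apply Matrix.map_injective hinj
    dsimp only
    rw [Matrix.map_mul, e1, e2, Matrix.smul_mul, Matrix.mul_smul, hba, smul_smul]
    ext i j
    simp only [Matrix.map_apply, Matrix.smul_apply, smul_eq_mul, map_mul]
    ring

end Clear

section Scalarize

variable {B : Type*} [CommRing B] {n m : Type*} [Fintype n] [Fintype m]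
  [DecidableEq n] [DecidableEq m]

/-- If `a b = s (P + x c)` and `b a = s (Q + x c')` then after correcting `b` by an adjugate both
products become the same scalar multiple of `P`, `Q`. -/
theorem scalarize (P : Matrix n n B) (Q : Matrix m m B) (hP : P * P = P)
    (a : Matrix n m B) (b : Matrix m n B) (hPa : P * a = a) (haQ : a * Q = a)
    (s x : B) (c : Matrix n n B) (c' : Matrix m m B)
    (hab : a * b = s • (P + x • c)) (hba : b * a = s • (Q + x • c'))
    (hPc : P * c = c) (hcP : c * P = c) (hQc' : Q * c' = c')
    (hreg : ∀ h : B, s * (1 + x • c').det * h = 0 → h = 0) :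
    ∃ b₂ : Matrix m n B, a * b₂ = (s * (1 + x • c).det) • P ∧
      b₂ * a = (s * (1 + x • c).det) • Q := by
  set U : Matrix n n B := 1 + x • c with hU
  set U' : Matrix m m B := 1 + x • c' with hU'
  have hPU : P * U = P + x • c := by
    rw [hU, Matrix.mul_add, Matrix.mul_one, Matrix.mul_smul, hPc]
  have hUP : U * P = P + x • c := by
    rw [hU, Matrix.add_mul, Matrix.one_mul, Matrix.smul_mul, hcP]
  have hQU' : Q * U' = Q + x • c' := by
    rw [hU', Matrix.mul_add, Matrix.mul_one, Matrix.mul_smul, hQc']
  have hUW : U * U.adjugate = U.det • (1 : Matrix n n B) := Matrix.mul_adjugate U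
  have hWU : U.adjugate * U = U.det • (1 : Matrix n n B) := Matrix.adjugate_mul U
  have hUW' : U' * U'.adjugate = U'.det • (1 : Matrix m m B) := Matrix.mul_adjugate U'
  refine ⟨b * U.adjugate * P, ?_, ?_⟩
  · calc a * (b * U.adjugate * P) = (a * b) * U.adjugate * P := by
          simp only [Matrix.mul_assoc]
      _ = s • (P * (U * U.adjugate) * P) := by
          rw [hab, ← hPU]
          simp only [Matrix.smul_mul, Matrix.mul_assoc]
      _ = (s * U.det) • P := by
          rw [hUW]
          simp only [Matrix.mul_smul, Matrix.smul_mul, Matrix.mul_one, hP, smul_smul]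
  · -- `e := b₂ a`
    have he : b * U.adjugate * P * a = b * U.adjugate * a := by
      rw [Matrix.mul_assoc, hPa]
    rw [he]
    have heQ : b * U.adjugate * a * Q = b * U.adjugate * a := by
      rw [Matrix.mul_assoc, haQ]
    have h1 : b * U.adjugate * a * (b * a) = (s * U.det) • (b * a) := by
      calc b * U.adjugate * a * (b * a) = b * U.adjugate * (a * b) * a := by
            simp only [Matrix.mul_assoc]
        _ = s • (b * (U.adjugate * U) * (P * a)) := by
            rw [hab, ← hUP]
            simp only [Matrix.smul_mul, Matrix.mul_smul, Matrix.mul_assoc]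
        _ = (s * U.det) • (b * a) := by
            rw [hWU, hPa]
            simp only [Matrix.mul_smul, Matrix.smul_mul, Matrix.mul_one, smul_smul]
    have h2 : (b * U.adjugate * a * (b * a)) * U'.adjugate =
        (s * U'.det) • (b * U.adjugate * a) := by
      calc (b * U.adjugate * a * (b * a)) * U'.adjugate
          = s • ((b * U.adjugate * a * Q) * (U' * U'.adjugate)) := by
            rw [hba, ← hQU']
            simp only [Matrix.smul_mul, Matrix.mul_smul, Matrix.mul_assoc]
        _ = (s * U'.det) • (b * U.adjugate * a) := by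
            rw [hUW', heQ]
            simp only [Matrix.mul_smul, Matrix.mul_one, smul_smul]
    have h3 : ((s * U.det) • (b * a)) * U'.adjugate = (s * U'.det) • ((s * U.det) • Q) := by
      calc ((s * U.det) • (b * a)) * U'.adjugate
          = (s * U.det) • (s • (Q * (U' * U'.adjugate))) := by
            rw [hba, ← hQU']
            simp only [Matrix.smul_mul, Matrix.mul_assoc]
        _ = (s * U'.det) • ((s * U.det) • Q) := by
            rw [hUW']
            simp only [Matrix.mul_smul, Matrix.mul_one, smul_smul]
            congr 1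
            ring
    have h4 : (s * U'.det) • (b * U.adjugate * a) = (s * U'.det) • ((s * U.det) • Q) := by
      rw [← h2, h1, h3]
    refine Matrix.ext fun i j => ?_
    have h5 := congrFun (congrFun h4 i) j
    simp only [Matrix.smul_apply, smul_eq_mul] at h5 ⊢
    have h6 : s * U'.det * ((b * U.adjugate * a) i j - s * U.det * Q i j) = 0 := by
      rw [mul_sub, h5, sub_self]
    exact sub_eq_zero.mp (hreg _ h6)

end Scalarize

section Regular

open Polynomial

variable {R : Type*} [CommRing R]

theorem eq_zero_of_mul_eq_zero_of_eval_zero (g h : R[X]) (hg : g.eval 0 = 1)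
    (hgh : g * h = 0) : h = 0 := by
  have hu : IsUnit (g : PowerSeries R) := by
    rw [PowerSeries.isUnit_iff_constantCoeff, ← PowerSeries.coeff_zero_eq_constantCoeff_apply,
      Polynomial.coeff_coe, coeff_zero_eq_eval_zero, hg]
    exact isUnit_one
  apply Polynomial.coe_injective
  have h1 := congrArg (fun f : R[X] => (f : PowerSeries R)) hgh
  simp only [Polynomial.coe_mul, Polynomial.coe_zero] at h1
  exact (hu.mul_right_eq_zero).mp h1

theorem eq_zero_of_X_pow_mul_mul_eq_zero (J : ℕ) (g h : R[X]) (hg : g.eval 0 = 1)
    (hgh : X ^ J * g * h = 0) : h = 0 := by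
  apply eq_zero_of_mul_eq_zero_of_eval_zero g h hg
  have hr : IsLeftRegular ((X : R[X]) ^ J) := (monic_X_pow J).isRegular.left
  apply hr
  simp only [mul_zero]
  rw [← mul_assoc]
  exact hgh

theorem eval_zero_det_one_add_X_smul {n : Type*} [Fintype n] [DecidableEq n]
    (c : Matrix n n R[X]) : ((1 + (X : R[X]) • c).det).eval 0 = 1 := by
  have h := RingHom.map_det (evalRingHom (0 : R)) (1 + (X : R[X]) • c)
  rw [coe_evalRingHom] at h
  rw [h]
  have : (evalRingHom (0 : R)).mapMatrix (1 + (X : R[X]) • c) = 1 := by
    ext i j
    simp [Matrix.one_apply]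
    split_ifs <;> simp
  rw [this, Matrix.det_one]

end Regular

end Groth.Agent.Helper8.HQ
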