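import Mathlib
import Groth.Agent.Helper8.LaurDescA

/-!
# Approximation framework for descending projective modules along `A[1/t] → Â[1/t]`

`GRData B C O` packages a ring map `φ : B → C` (think `A[1/t] → Â[1/t]`), an "integral model"
`ψ : O → C` (think `Â → Â[1/t]`), an element `t` with density and unit conditions.  We prove, in
matrix form, that rectangular equivalence of idempotents descends from `C` to `B`, and that split
surjections `Cᵐ → Cⁿ` can be approximated over `B`.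
-/

set_option autoImplicit false

namespace Groth.Agent.Helper8.GRApx

open Matrix
open Groth.Agent.Helper8.HQ (REquiv scalarize)

/-- Data for the approximation argument. -/
structure GRData (B C O : Type*) [CommRing B] [CommRing C] [CommRing O] where
  φ : B →+* C
  ψ : O →+* C
  t : B
  τ : O
  hτ : ψ τ = φ t
  ht : IsUnit t
  hP : ∀ ξ : C, ∃ K : ℕ, ∃ o : O, φ t ^ K * ξ = ψ o
  hD : ∀ (o : O) (N : ℕ), ∃ (x : B) (o' : O), ψ o = φ x + ψ (τ ^ N * o')
  hU : ∀ (x : B) (o : O), φ x = ψ (τ * o) → IsUnit (1 + x)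
  hUO : ∀ o : O, IsUnit (1 + τ * o)

section General

variable {R : Type*} [CommRing R] {n : Type*} [Fintype n] [DecidableEq n]

theorem exists_det_one_add_smul (x : R) (γ : Matrix n n R) :
    ∃ o : R, (1 + x • γ).det = 1 + x * o := by
  have h : (Ideal.Quotient.mk (Ideal.span {x})) ((1 + x • γ).det - 1) = 0 := by
    rw [map_sub, RingHom.map_det, map_one]
    have : (Ideal.Quotient.mk (Ideal.span {x})).mapMatrix (1 + x • γ) = 1 := by
      rw [map_add, map_one]
      have hx : (Ideal.Quotient.mk (Ideal.span {x})) x = 0 :=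
        Ideal.Quotient.eq_zero_iff_mem.mpr (Ideal.mem_span_singleton_self x)
      have : (Ideal.Quotient.mk (Ideal.span {x})).mapMatrix (x • γ) = 0 := by
        refine Matrix.ext fun i j => ?_
        simp [hx]
      rw [this, add_zero]
    rw [this, Matrix.det_one, sub_self]
  rw [Ideal.Quotient.eq_zero_iff_mem, Ideal.mem_span_singleton'] at h
  obtain ⟨o, ho⟩ := h
  exact ⟨o, by linear_combination -ho⟩

end General

variable {B C O : Type*} [CommRing B] [CommRing C] [CommRing O] (D : GRData B C O)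
variable {r c l : Type*} [Fintype r] [Fintype c] [Fintype l]
  [DecidableEq r] [DecidableEq c] [DecidableEq l]

/-- `s = φ t`. -/
def GRData.s : C := D.φ D.t

theorem GRData.isUnit_s : IsUnit D.s := D.ht.map D.φ

theorem GRData.psi_tau_pow (k : ℕ) : D.ψ (D.τ ^ k) = D.s ^ k := by
  rw [map_pow, D.hτ]; rfl

theorem GRData.map_smul_tau (k : ℕ) (A₀ : Matrix r c O) :
    (D.τ ^ k • A₀).map D.ψ = D.s ^ k • A₀.map D.ψ := by
  refine Matrix.ext fun i j => ?_
  simp only [Matrix.map_apply, Matrix.smul_apply, smul_eq_mul, map_mul, D.psi_tau_pow]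

/-- `A ∈ s^j · M(ψ O)`. -/
def IntAt (j : ℕ) (A : Matrix r c C) : Prop :=
  ∃ A₀ : Matrix r c O, A = D.s ^ j • A₀.map D.ψ

/-- `s^K A ∈ M(ψ O)`. -/
def BddAt (K : ℕ) (A : Matrix r c C) : Prop :=
  ∃ A₀ : Matrix r c O, D.s ^ K • A = A₀.map D.ψ

variable {D}

theorem IntAt.mono {j j' : ℕ} {A : Matrix r c C} (h : IntAt D j A) (hj : j' ≤ j) :
    IntAt D j' A := by
  obtain ⟨A₀, rfl⟩ := h
  refine ⟨D.τ ^ (j - j') • A₀, ?_⟩
  rw [D.map_smul_tau, smul_smul, ← pow_add, Nat.add_sub_cancel' hj]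

theorem IntAt.add {j : ℕ} {A A' : Matrix r c C} (h : IntAt D j A) (h' : IntAt D j A') :
    IntAt D j (A + A') := by
  obtain ⟨A₀, rfl⟩ := h
  obtain ⟨A₀', rfl⟩ := h'
  refine ⟨A₀ + A₀', ?_⟩
  rw [Matrix.map_add _ (map_add D.ψ), smul_add]

theorem IntAt.neg {j : ℕ} {A : Matrix r c C} (h : IntAt D j A) : IntAt D j (-A) := by
  obtain ⟨A₀, rfl⟩ := h
  refine ⟨-A₀, ?_⟩
  rw [Matrix.map_neg _ (map_neg D.ψ), smul_neg]

theorem IntAt.sub {j : ℕ} {A A' : Matrix r c C} (h : IntAt D j A) (h' : IntAt D j A') :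
    IntAt D j (A - A') := by
  rw [sub_eq_add_neg]
  exact h.add h'.neg

theorem IntAt.mul {j j' : ℕ} {A : Matrix r c C} {A' : Matrix c l C} (h : IntAt D j A)
    (h' : IntAt D j' A') : IntAt D (j + j') (A * A') := by
  obtain ⟨A₀, rfl⟩ := h
  obtain ⟨A₀', rfl⟩ := h'
  refine ⟨A₀ * A₀', ?_⟩
  rw [Matrix.map_mul, Matrix.smul_mul, Matrix.mul_smul, smul_smul, ← pow_add]

theorem BddAt.mul_intAt {K j : ℕ} {A : Matrix r c C} {A' : Matrix c l C} (h : BddAt D K A)
    (h' : IntAt D j A') (hK : K ≤ j) : IntAt D (j - K) (A * A') := by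
  obtain ⟨A₀, hA₀⟩ := h
  obtain ⟨A₀', rfl⟩ := h'
  refine ⟨A₀ * A₀', ?_⟩
  rw [Matrix.map_mul, ← hA₀, Matrix.smul_mul, Matrix.mul_smul, smul_smul, ← pow_add,
    Nat.sub_add_cancel hK]

theorem IntAt.mul_bddAt {K j : ℕ} {A : Matrix r c C} {A' : Matrix c l C} (h : IntAt D j A)
    (h' : BddAt D K A') (hK : K ≤ j) : IntAt D (j - K) (A * A') := by
  obtain ⟨A₀, rfl⟩ := h
  obtain ⟨A₀', hA₀'⟩ := h'
  refine ⟨A₀ * A₀', ?_⟩
  rw [Matrix.map_mul, ← hA₀', Matrix.smul_mul, Matrix.mul_smul, smul_smul,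
    ← pow_add, Nat.sub_add_cancel hK]

theorem BddAt.mono {K K' : ℕ} {A : Matrix r c C} (h : BddAt D K A) (hK : K ≤ K') :
    BddAt D K' A := by
  obtain ⟨A₀, hA₀⟩ := h
  refine ⟨D.τ ^ (K' - K) • A₀, ?_⟩
  rw [D.map_smul_tau, ← hA₀, smul_smul, ← pow_add, Nat.sub_add_cancel hK]

variable (D)

theorem exists_bddAt (A : Matrix r c C) : ∃ K, BddAt D K A := by
  choose Kf of hKf using fun ij : r × c => D.hP (A ij.1 ij.2)
  refine ⟨Finset.univ.sup Kf, Matrix.of fun i j =>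
    D.τ ^ (Finset.univ.sup Kf - Kf (i, j)) * of (i, j), ?_⟩
  refine Matrix.ext fun i j => ?_
  have hle : Kf (i, j) ≤ Finset.univ.sup Kf := Finset.le_sup (Finset.mem_univ (i, j))
  have h := hKf (i, j)
  simp only [Matrix.smul_apply, smul_eq_mul, Matrix.map_apply, Matrix.of_apply, map_mul,
    D.psi_tau_pow]
  rw [← h]
  change D.s ^ _ * A i j = D.s ^ _ * (D.s ^ _ * A i j)
  rw [← mul_assoc, ← pow_add, Nat.sub_add_cancel hle]

theorem exists_approx_entry (ξ : C) (N : ℕ) :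
    ∃ (x : B) (o' : O), ξ - D.φ x = D.s ^ N * D.ψ o' := by
  obtain ⟨K, o, hKo⟩ := D.hP ξ
  obtain ⟨x', o', hx'⟩ := D.hD o (N + K)
  obtain ⟨u, hu⟩ := D.ht
  refine ⟨(↑(u⁻¹ ^ K) : B) * x', o', ?_⟩
  have hsK : IsUnit (D.s ^ K) := D.isUnit_s.pow K
  apply hsK.mul_left_cancel
  have h1 : D.s ^ K * D.φ ((↑(u⁻¹ ^ K) : B) * x') = D.φ x' := by
    change D.φ D.t ^ K * _ = _
    rw [← map_pow, ← map_mul, ← hu, ← mul_assoc, ← Units.val_pow_eq_pow_val, ← Units.val_mul,
      ← mul_pow, mul_inv_cancel, one_pow, Units.val_one, one_mul]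
  rw [mul_sub, h1]
  change D.φ D.t ^ K * ξ - _ = _
  rw [hKo, hx', map_mul, D.psi_tau_pow, pow_add]
  ring

theorem exists_approx (A : Matrix r c C) (N : ℕ) :
    ∃ x : Matrix r c B, IntAt D N (A - x.map D.φ) := by
  choose xf of hf using fun ij : r × c => exists_approx_entry D (A ij.1 ij.2) N
  refine ⟨Matrix.of fun i j => xf (i, j), Matrix.of fun i j => of (i, j), ?_⟩
  refine Matrix.ext fun i j => ?_
  simp only [Matrix.sub_apply, Matrix.map_apply, Matrix.of_apply, Matrix.smul_apply, smul_eq_mul]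
  exact hf (i, j)

theorem isUnit_det_of_intAt_one (ε : Matrix r r B) (h : IntAt D 1 (ε.map D.φ)) :
    IsUnit (1 + ε).det := by
  obtain ⟨E₀, hE₀⟩ := h
  obtain ⟨o, ho⟩ := exists_det_one_add_smul D.τ E₀
  have hx : D.φ ((1 + ε).det - 1) = D.ψ (D.τ * o) := by
    rw [map_sub, RingHom.map_det, map_one]
    have h1 : D.φ.mapMatrix (1 + ε) = D.ψ.mapMatrix (1 + D.τ • E₀) := by
      rw [map_add, map_add, map_one, map_one]
      congr 1
      change ε.map D.φ = (D.τ • E₀).map D.ψ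
      rw [hE₀]
      have := D.map_smul_tau 1 E₀
      rw [pow_one, pow_one] at this
      rw [this, pow_one]
    rw [h1, ← RingHom.map_det, ho, map_add, map_one, add_sub_cancel_left]
  have := D.hU _ _ hx
  rwa [add_sub_cancel] at this

theorem isUnit_det_of_intAt_one' (γ : Matrix r r C) (h : IntAt D 1 γ) :
    IsUnit (1 + γ).det := by
  obtain ⟨E₀, rfl⟩ := h
  obtain ⟨o, ho⟩ := exists_det_one_add_smul D.τ E₀
  have h1 : (1 + D.s ^ 1 • E₀.map D.ψ : Matrix r r C) = D.ψ.mapMatrix (1 + D.τ • E₀) := by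
    rw [map_add, map_one]
    congr 1
    have := D.map_smul_tau 1 E₀
    rw [pow_one] at this
    exact this.symm
  rw [h1, ← RingHom.map_det, ho]
  exact (D.hUO o).map D.ψ

end Groth.Agent.Helper8.GRApx
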