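import Mathlib
import Groth.Agent.Helper8.GRApxA

/-!
# Descent of rectangular equivalences and of split surjections along a `GRData`
-/

set_option autoImplicit false

namespace Groth.Agent.Helper8.GRApx

open Matrix
open Groth.Agent.Helper8.HQ (REquiv scalarize)

variable {B C O : Type*} [CommRing B] [CommRing C] [CommRing O] (D : GRData B C O)
variable {r c : Type*} [Fintype r] [Fintype c] [DecidableEq r] [DecidableEq c]

/-- The error of a product of approximations. -/
theorem intAt_mul_sub {K j : ℕ} (hK : K ≤ j) {a' : Matrix r c C} {b' : Matrix c r C}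
    {ah : Matrix r c C} {bh : Matrix c r C} (ha : BddAt D K a') (hb : BddAt D K b')
    (hda : IntAt D j (a' - ah)) (hdb : IntAt D j (b' - bh)) :
    IntAt D (j - K) (ah * bh - a' * b') := by
  have e : ah * bh - a' * b' =
      -((a' - ah) * b') - a' * (b' - bh) + (a' - ah) * (b' - bh) := by
    simp only [Matrix.sub_mul, Matrix.mul_sub]
    abel
  rw [e]
  refine ((hda.mul_bddAt hb hK).neg.sub (ha.mul_intAt hdb hK)).add ?_
  exact (hda.mul hdb).mono (by omega)

/-- Rectangular equivalence of idempotents descends from `C` to `B`. -/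
theorem rEquiv_descent (p : Matrix r r B) (q : Matrix c c B) (hp : p * p = p) (hq : q * q = q)
    (h : REquiv (p.map D.φ) (q.map D.φ)) : REquiv p q := by
  obtain ⟨a₀', b₀', hab₀, hba₀⟩ := h
  set P := p.map D.φ with hPdef
  set Q := q.map D.φ with hQdef
  have hP2 : P * P = P := by rw [hPdef, ← Matrix.map_mul, hp]
  have hQ2 : Q * Q = Q := by rw [hQdef, ← Matrix.map_mul, hq]
  -- normalise
  obtain ⟨a', b', hab, hba, hPa, haQ, hQb, hbP⟩ :
      ∃ (a' : Matrix r c C) (b' : Matrix c r C), a' * b' = P ∧ b' * a' = Q ∧ P * a' = a' ∧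
        a' * Q = a' ∧ Q * b' = b' ∧ b' * P = b' := by
    refine ⟨P * a₀' * Q, Q * b₀' * P, ?_, ?_, ?_, ?_, ?_, ?_⟩
    · calc P * a₀' * Q * (Q * b₀' * P) = P * a₀' * (Q * Q) * b₀' * P := by
            simp only [Matrix.mul_assoc]
        _ = P * (a₀' * b₀') * (a₀' * b₀') * P := by
            rw [hQ2, ← hba₀]
            simp only [Matrix.mul_assoc]
        _ = P := by rw [hab₀, hP2, hP2, hP2]
    · calc Q * b₀' * P * (P * a₀' * Q) = Q * b₀' * (P * P) * a₀' * Q := by
            simp only [Matrix.mul_assoc]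
        _ = Q * (b₀' * a₀') * (b₀' * a₀') * Q := by
            rw [hP2, ← hab₀]
            simp only [Matrix.mul_assoc]
        _ = Q := by rw [hba₀, hQ2, hQ2, hQ2]
    · simp only [← Matrix.mul_assoc, hP2]
    · simp only [Matrix.mul_assoc, hQ2]
    · simp only [← Matrix.mul_assoc, hQ2]
    · simp only [Matrix.mul_assoc, hP2]
  -- bounds
  obtain ⟨K₁, hK₁⟩ := exists_bddAt D a'
  obtain ⟨K₂, hK₂⟩ := exists_bddAt D b'
  obtain ⟨K₃, hK₃⟩ := exists_bddAt D P
  obtain ⟨K₄, hK₄⟩ := exists_bddAt D Q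
  set K := max (max K₁ K₂) (max K₃ K₄) with hKdef
  have hKa : BddAt D K a' := hK₁.mono (by omega)
  have hKb : BddAt D K b' := hK₂.mono (by omega)
  have hKP : BddAt D K P := hK₃.mono (by omega)
  have hKQ : BddAt D K Q := hK₄.mono (by omega)
  obtain ⟨x, hx⟩ := exists_approx D a' (3 * K + 1)
  obtain ⟨y, hy⟩ := exists_approx D b' (3 * K + 1)
  set a₁ := p * x * q with ha₁
  set b₁ := q * y * p with hb₁
  have h1 : IntAt D (K + 1) (a' - a₁.map D.φ) := by
    have e : a' - a₁.map D.φ = P * (a' - x.map D.φ) * Q := by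
      rw [ha₁, Matrix.map_mul, Matrix.map_mul, Matrix.mul_sub, Matrix.sub_mul, hPa, haQ]
    rw [e]
    have h := ((hKP.mul_intAt hx (by omega)).mul_bddAt hKQ (by omega))
    exact h.mono (by omega)
  have h2 : IntAt D (K + 1) (b' - b₁.map D.φ) := by
    have e : b' - b₁.map D.φ = Q * (b' - y.map D.φ) * P := by
      rw [hb₁, Matrix.map_mul, Matrix.map_mul, Matrix.mul_sub, Matrix.sub_mul, hQb, hbP]
    rw [e]
    have h := ((hKQ.mul_intAt hy (by omega)).mul_bddAt hKP (by omega))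
    exact h.mono (by omega)
  have h3 : IntAt D 1 ((a₁ * b₁ - p).map D.φ) := by
    have e : (a₁ * b₁ - p).map D.φ = a₁.map D.φ * b₁.map D.φ - a' * b' := by
      rw [Matrix.map_sub _ (map_sub D.φ), Matrix.map_mul, hab]
    rw [e]
    exact (intAt_mul_sub D (K := K) (j := K + 1) (by omega) hKa hKb h1 h2).mono (by omega)
  have h4 : IntAt D 1 ((b₁ * a₁ - q).map D.φ) := by
    have e : (b₁ * a₁ - q).map D.φ = b₁.map D.φ * a₁.map D.φ - b' * a' := by
      rw [Matrix.map_sub _ (map_sub D.φ), Matrix.map_mul, hba]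
    rw [e]
    exact (intAt_mul_sub D (K := K) (j := K + 1) (by omega) hKb hKa h2 h1).mono (by omega)
  have hdet := isUnit_det_of_intAt_one D _ h3
  have hdet' := isUnit_det_of_intAt_one D _ h4
  have hpa₁ : p * a₁ = a₁ := by
    rw [ha₁]
    simp only [← Matrix.mul_assoc, hp]
  have ha₁q : a₁ * q = a₁ := by
    rw [ha₁]
    simp only [Matrix.mul_assoc, hq]
  have hqb₁ : q * b₁ = b₁ := by
    rw [hb₁]
    simp only [← Matrix.mul_assoc, hq]
  have hb₁p : b₁ * p = b₁ := by
    rw [hb₁]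
    simp only [Matrix.mul_assoc, hp]
  obtain ⟨b₂, hab₂, hba₂⟩ := scalarize p q hp a₁ b₁ hpa₁ ha₁q 1 1 (a₁ * b₁ - p) (b₁ * a₁ - q)
    (by rw [one_smul, one_smul, add_sub_cancel]) (by rw [one_smul, one_smul, add_sub_cancel])
    (by rw [Matrix.mul_sub, ← Matrix.mul_assoc, hpa₁, hp])
    (by rw [Matrix.sub_mul, Matrix.mul_assoc, hb₁p, hp])
    (by rw [Matrix.mul_sub, ← Matrix.mul_assoc, hqb₁, hq])
    (by
      intro h hh
      rw [one_smul, one_mul] at hh
      exact (hdet'.mul_right_eq_zero).mp hh)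
  rw [one_smul, one_mul] at hab₂ hba₂
  obtain ⟨u, hu⟩ := hdet
  refine ⟨a₁, (↑u⁻¹ : B) • b₂, ?_, ?_⟩
  · rw [Matrix.mul_smul, hab₂, ← hu, smul_smul, Units.inv_mul, one_smul]
  · rw [Matrix.smul_mul, hba₂, ← hu, smul_smul, Units.inv_mul, one_smul]

/-- A split surjection `Cᵐ → Cⁿ` can be approximated by a split surjection over `B` with
rectangularly equivalent kernel idempotent. -/
theorem stablyFree_descent (a' : Matrix r c C) (b' : Matrix c r C) (hab : a' * b' = 1) :
    ∃ (a : Matrix r c B) (b : Matrix c r B), a * b = 1 ∧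
      REquiv ((1 - b * a).map D.φ) (1 - b' * a') := by
  obtain ⟨K₁, hK₁⟩ := exists_bddAt D a'
  obtain ⟨K₂, hK₂⟩ := exists_bddAt D b'
  set K := max K₁ K₂ with hKdef
  have hKa : BddAt D K a' := hK₁.mono (by omega)
  have hKb : BddAt D K b' := hK₂.mono (by omega)
  obtain ⟨x, hx⟩ := exists_approx D a' (K + 1)
  obtain ⟨y, hy⟩ := exists_approx D b' (K + 1)
  have h3 : IntAt D 1 ((x * y - 1).map D.φ) := by
    have e : (x * y - 1).map D.φ = x.map D.φ * y.map D.φ - a' * b' := by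
      rw [Matrix.map_sub _ (map_sub D.φ), Matrix.map_mul, hab, Matrix.map_one _ (map_zero D.φ)
        (map_one D.φ)]
    rw [e]
    exact (intAt_mul_sub D (K := K) (j := K + 1) (by omega) hKa hKb hx hy).mono (by omega)
  have hdet : IsUnit (x * y).det := by
    have := isUnit_det_of_intAt_one D _ h3
    rwa [add_sub_cancel] at this
  set U := x * y with hU
  have hUinv : U * U⁻¹ = 1 := Matrix.mul_nonsing_inv U hdet
  -- the automorphism `g`
  have hg0 : IntAt D 1 (-(b' * (a' - x.map D.φ))) :=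
    ((hKb.mul_intAt hx (by omega)).mono (by omega)).neg
  have hgdet := isUnit_det_of_intAt_one' D _ hg0
  set g : Matrix c c C := 1 + -(b' * (a' - x.map D.φ)) with hg
  have hgi : g * g⁻¹ = 1 := Matrix.mul_nonsing_inv g hgdet
  have hig : g⁻¹ * g = 1 := Matrix.nonsing_inv_mul g hgdet
  set xh := x.map D.φ with hxh
  have hag : a' * g = xh := by
    rw [hg, Matrix.mul_add, Matrix.mul_one, Matrix.mul_neg, ← Matrix.mul_assoc, hab,
      Matrix.one_mul]
    abel
  have hxg : xh * g⁻¹ = a' := by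
    rw [← hag, Matrix.mul_assoc, hgi, Matrix.mul_one]
  refine ⟨x, y * U⁻¹, by rw [← Matrix.mul_assoc, hUinv], ?_⟩
  set b := y * U⁻¹ with hb
  have hxb : x * b = 1 := by rw [hb, ← Matrix.mul_assoc, hUinv]
  set bh := b.map D.φ with hbh
  have hxbh : xh * bh = 1 := by
    rw [hxh, hbh, ← Matrix.map_mul, hxb, Matrix.map_one _ (map_zero D.φ) (map_one D.φ)]
  have hE : (1 - b * x).map D.φ = 1 - bh * xh := by
    rw [Matrix.map_sub _ (map_sub D.φ), Matrix.map_mul,
      Matrix.map_one _ (map_zero D.φ) (map_one D.φ)]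
  rw [hE]
  set Eh : Matrix c c C := 1 - bh * xh with hEh
  set E' : Matrix c c C := 1 - b' * a' with hE'
  have hEh2 : Eh * Eh = Eh := by
    rw [hEh, Matrix.mul_sub, Matrix.mul_one, Matrix.sub_mul, Matrix.one_mul,
      Matrix.mul_assoc bh xh (bh * xh), ← Matrix.mul_assoc xh bh xh, hxbh, Matrix.one_mul]
    abel
  have hE'2 : E' * E' = E' := by
    rw [hE', Matrix.mul_sub, Matrix.mul_one, Matrix.sub_mul, Matrix.one_mul,
      Matrix.mul_assoc b' a' (b' * a'), ← Matrix.mul_assoc a' b' a', hab, Matrix.one_mul]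
    abel
  have haE' : a' * E' = 0 := by
    rw [hE', Matrix.mul_sub, Matrix.mul_one, ← Matrix.mul_assoc, hab, Matrix.one_mul, sub_self]
  have hxEh : xh * Eh = 0 := by
    rw [hEh, Matrix.mul_sub, Matrix.mul_one, ← Matrix.mul_assoc, hxbh, Matrix.one_mul, sub_self]
  have hiii : Eh * (g⁻¹ * E') = g⁻¹ * E' := by
    rw [hEh, Matrix.sub_mul, Matrix.one_mul, Matrix.mul_assoc bh xh, ← Matrix.mul_assoc xh,
      hxg, haE', Matrix.mul_zero, sub_zero]
  have hiv : E' * (g * Eh) = g * Eh := by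
    rw [hE', Matrix.sub_mul, Matrix.one_mul, Matrix.mul_assoc b' a', ← Matrix.mul_assoc a',
      hag, hxEh, Matrix.mul_zero, sub_zero]
  refine ⟨Eh * g⁻¹ * E', E' * g * Eh, ?_, ?_⟩
  · calc Eh * g⁻¹ * E' * (E' * g * Eh) = Eh * g⁻¹ * ((E' * E') * (g * Eh)) := by
          simp only [Matrix.mul_assoc]
      _ = Eh * g⁻¹ * (g * Eh) := by rw [hE'2, hiv]
      _ = Eh * (g⁻¹ * g) * Eh := by simp only [Matrix.mul_assoc]
      _ = Eh := by rw [hig, Matrix.mul_one, hEh2]
  · calc E' * g * Eh * (Eh * g⁻¹ * E') = E' * g * ((Eh * Eh) * (g⁻¹ * E')) := by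
          simp only [Matrix.mul_assoc]
      _ = E' * g * (g⁻¹ * E') := by rw [hEh2, hiii]
      _ = E' * (g * g⁻¹) * E' := by simp only [Matrix.mul_assoc]
      _ = E' := by rw [hgi, Matrix.mul_one, hE'2]

end Groth.Agent.Helper8.GRApx
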