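import Mathlib
import Groth.Agent.Helper8.HQMonicA

/-!
# From matrix statements to modules: isomorphism descent and stably free descent
-/

set_option autoImplicit false

universe u

namespace Groth.Agent.Helper8.GRApx

open Matrix TensorProduct
open Groth.Agent.Helper8.HQ

section Iso

variable {Lr S : Type u} [CommRing Lr] [CommRing S] [Algebra Lr S]

/-- If rectangular equivalence of idempotents descends along `Lr → S`, then so do isomorphisms of
finite projective modules. -/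
theorem nonempty_linearEquiv_of_rEquiv_descent
    (hmat : ∀ (n m : ℕ) (p : Matrix (Fin n) (Fin n) Lr) (q : Matrix (Fin m) (Fin m) Lr),
      p * p = p → q * q = q →
      REquiv (p.map (algebraMap Lr S)) (q.map (algebraMap Lr S)) → REquiv p q)
    (M N : Type u) [AddCommGroup M] [Module Lr M] [Module.Finite Lr M] [Module.Projective Lr M]
    [AddCommGroup N] [Module Lr N] [Module.Finite Lr N] [Module.Projective Lr N]
    (h : Nonempty (S ⊗[Lr] M ≃ₗ[S] S ⊗[Lr] N)) : Nonempty (M ≃ₗ[Lr] N) := by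
  obtain ⟨θ⟩ := h
  obtain ⟨n, f, g, -, -, hfg⟩ := Module.Finite.exists_comp_eq_id_of_projective Lr M
  obtain ⟨n', f', g', -, -, hfg'⟩ := Module.Finite.exists_comp_eq_id_of_projective Lr N
  have hp := toMatrix'_idemG f g hfg
  have hq := toMatrix'_idemG f' g' hfg'
  have h0 := rEquiv_of_baseChange_equiv S f g f' g' hfg hfg' θ
  exact nonempty_linearEquiv_of_rEquiv f g f' g' hfg hfg' (hmat _ _ _ _ hp hq h0)

end Iso

section Kernel

variable {Lr : Type u} [CommRing Lr] {n m : ℕ}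

/-- The kernel module of a split surjection given by matrices `a b = 1`. -/
abbrev kerMod (a : Matrix (Fin n) (Fin m) Lr) (b : Matrix (Fin m) (Fin n) Lr) :
    Submodule Lr (Fin m → Lr) :=
  LinearMap.range (Matrix.toLin' (1 - b * a))

variable (a : Matrix (Fin n) (Fin m) Lr) (b : Matrix (Fin m) (Fin n) Lr)

theorem idem_of_mul_eq_one (hab : a * b = 1) : (1 - b * a) * (1 - b * a) = 1 - b * a := by
  rw [Matrix.mul_sub, Matrix.mul_one, Matrix.sub_mul, Matrix.one_mul,
    Matrix.mul_assoc b a (b * a), ← Matrix.mul_assoc a b a, hab, Matrix.one_mul]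
  abel

/-- `Lrᵐ → kerMod`. -/
noncomputable def kerF : (Fin m → Lr) →ₗ[Lr] kerMod a b := (Matrix.toLin' (1 - b * a)).rangeRestrict

/-- `kerMod → Lrᵐ`. -/
noncomputable def kerG : kerMod a b →ₗ[Lr] (Fin m → Lr) := (kerMod a b).subtype

theorem kerG_kerF : kerG a b ∘ₗ kerF a b = Matrix.toLin' (1 - b * a) := by
  refine LinearMap.ext fun x => ?_
  rfl

theorem kerF_kerG (hab : a * b = 1) : kerF a b ∘ₗ kerG a b = LinearMap.id := by
  refine LinearMap.ext fun v => ?_
  obtain ⟨v, w, rfl⟩ := v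
  apply Subtype.ext
  show Matrix.toLin' (1 - b * a) (Matrix.toLin' (1 - b * a) w) = Matrix.toLin' (1 - b * a) w
  rw [← LinearMap.comp_apply, ← Matrix.toLin'_mul, idem_of_mul_eq_one a b hab]

theorem toMatrix'_kerG_kerF : LinearMap.toMatrix' (kerG a b ∘ₗ kerF a b) = 1 - b * a := by
  rw [kerG_kerF, LinearMap.toMatrix'_toLin']

/-- The kernel module is stably free. -/
theorem nonempty_kerMod_prod_equiv (hab : a * b = 1) :
    Nonempty ((kerMod a b × (Fin n → Lr)) ≃ₗ[Lr] (Fin m → Lr)) := by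
  have hE := idem_of_mul_eq_one a b hab
  have haE : a * (1 - b * a) = 0 := by
    rw [Matrix.mul_sub, Matrix.mul_one, ← Matrix.mul_assoc, hab, Matrix.one_mul, sub_self]
  have hEb : (1 - b * a) * b = 0 := by
    rw [Matrix.sub_mul, Matrix.one_mul, Matrix.mul_assoc, hab, Matrix.mul_one, sub_self]
  refine ⟨LinearEquiv.ofLinearMap
    ((kerG a b).coprod (Matrix.toLin' b))
    ((kerF a b).prod (Matrix.toLin' a)) ?_ ?_⟩
  · refine LinearMap.ext fun z => ?_
    simp only [LinearMap.comp_apply, LinearMap.prod_apply, Pi.prod, LinearMap.coprod_apply,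
      LinearMap.id_apply]
    show Matrix.toLin' (1 - b * a) z + Matrix.toLin' b (Matrix.toLin' a z) = z
    rw [← LinearMap.comp_apply (Matrix.toLin' b), ← Matrix.toLin'_mul, ← LinearMap.add_apply,
      ← map_add, sub_add_cancel, Matrix.toLin'_one, LinearMap.id_apply]
  · refine LinearMap.ext fun vw => ?_
    obtain ⟨⟨v, w₀, rfl⟩, w⟩ := vw
    simp only [LinearMap.comp_apply, LinearMap.prod_apply, Pi.prod, LinearMap.coprod_apply,
      LinearMap.id_apply]
    refine Prod.ext (Subtype.ext ?_) ?_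
    · show Matrix.toLin' (1 - b * a) (Matrix.toLin' (1 - b * a) w₀ + Matrix.toLin' b w) =
        Matrix.toLin' (1 - b * a) w₀
      rw [map_add, ← LinearMap.comp_apply, ← Matrix.toLin'_mul, hE,
        ← LinearMap.comp_apply (Matrix.toLin' (1 - b * a)), ← Matrix.toLin'_mul, hEb,
        map_zero, LinearMap.zero_apply, add_zero]
    · show Matrix.toLin' a (Matrix.toLin' (1 - b * a) w₀ + Matrix.toLin' b w) = w
      rw [map_add, ← LinearMap.comp_apply, ← Matrix.toLin'_mul, haE,
        ← LinearMap.comp_apply (Matrix.toLin' a), ← Matrix.toLin'_mul, hab,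
        map_zero, LinearMap.zero_apply, zero_add, Matrix.toLin'_one,
        LinearMap.id_apply]

end Kernel

section StablyFree

variable {S : Type u} [CommRing S] {n m : ℕ} {M' : Type u} [AddCommGroup M'] [Module S M']
  (θ : (M' × (Fin n → S)) ≃ₗ[S] (Fin m → S))

/-- `Sᵐ → Sⁿ`. -/
noncomputable def sfA : (Fin m → S) →ₗ[S] (Fin n → S) :=
  LinearMap.snd S M' (Fin n → S) ∘ₗ θ.symm.toLinearMap

/-- `Sⁿ → Sᵐ`. -/
noncomputable def sfB : (Fin n → S) →ₗ[S] (Fin m → S) :=
  θ.toLinearMap ∘ₗ LinearMap.inr S M' (Fin n → S)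

/-- `Sᵐ → M'`. -/
noncomputable def sfF : (Fin m → S) →ₗ[S] M' :=
  LinearMap.fst S M' (Fin n → S) ∘ₗ θ.symm.toLinearMap

/-- `M' → Sᵐ`. -/
noncomputable def sfG : M' →ₗ[S] (Fin m → S) :=
  θ.toLinearMap ∘ₗ LinearMap.inl S M' (Fin n → S)

theorem sfA_sfB : sfA θ ∘ₗ sfB θ = LinearMap.id := by
  refine LinearMap.ext fun w => ?_
  simp [sfA, sfB]

theorem sfF_sfG : sfF θ ∘ₗ sfG θ = LinearMap.id := by
  refine LinearMap.ext fun w => ?_
  simp [sfF, sfG]

theorem sfG_sfF : sfG θ ∘ₗ sfF θ = LinearMap.id - sfB θ ∘ₗ sfA θ := by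
  refine LinearMap.ext fun z => ?_
  simp only [sfG, sfF, sfB, sfA, LinearMap.comp_apply, LinearMap.sub_apply, LinearMap.id_apply,
    LinearEquiv.coe_coe, LinearMap.fst_apply, LinearMap.snd_apply, LinearMap.inl_apply,
    LinearMap.inr_apply]
  rw [eq_sub_iff_add_eq, ← map_add]
  have : ((θ.symm z).1, (0 : Fin n → S)) + ((0 : M'), (θ.symm z).2) = θ.symm z := by
    ext <;> simp
  rw [this, LinearEquiv.apply_symm_apply]

theorem toMatrix'_sfA_mul_sfB :
    LinearMap.toMatrix' (sfA θ) * LinearMap.toMatrix' (sfB θ) = 1 := by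
  rw [← LinearMap.toMatrix'_comp, sfA_sfB, LinearMap.toMatrix'_id]

theorem toMatrix'_sfG_sfF :
    LinearMap.toMatrix' (sfG θ ∘ₗ sfF θ) =
      1 - LinearMap.toMatrix' (sfB θ) * LinearMap.toMatrix' (sfA θ) := by
  rw [sfG_sfF, map_sub, LinearMap.toMatrix'_id, LinearMap.toMatrix'_comp]

end StablyFree

section Main

variable {Lr S : Type u} [CommRing Lr] [CommRing S] [Algebra Lr S]

/-- If split surjections can be approximated (in matrix form), stably free modules descend. -/
theorem exists_stablyFree_descent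
    (hmat : ∀ (n m : ℕ) (a' : Matrix (Fin n) (Fin m) S) (b' : Matrix (Fin m) (Fin n) S),
      a' * b' = 1 →
      ∃ (a : Matrix (Fin n) (Fin m) Lr) (b : Matrix (Fin m) (Fin n) Lr), a * b = 1 ∧
        REquiv ((1 - b * a).map (algebraMap Lr S)) (1 - b' * a'))
    (M' : Type u) [AddCommGroup M'] [Module S M']
    (h : ∃ n m : ℕ, Nonempty ((M' × (Fin n → S)) ≃ₗ[S] (Fin m → S))) :
    ∃ (M : Type u) (_ : AddCommGroup M) (_ : Module Lr M), Module.Finite Lr M ∧
      (∃ n m : ℕ, Nonempty ((M × (Fin n → Lr)) ≃ₗ[Lr] (Fin m → Lr))) ∧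
      Nonempty (S ⊗[Lr] M ≃ₗ[S] M') := by
  obtain ⟨n, m, ⟨θ⟩⟩ := h
  obtain ⟨a, b, hab, hR⟩ := hmat n m _ _ (toMatrix'_sfA_mul_sfB θ)
  refine ⟨kerMod a b, inferInstance, inferInstance, ?_, ⟨n, m, nonempty_kerMod_prod_equiv a b hab⟩,
    ?_⟩
  · exact Module.Finite.range _
  · have h1 : alphaG S (kerF a b) ∘ₗ betaG S (kerG a b) = LinearMap.id :=
      LinearMap.ext fun z => alphaG_betaG S (kerF a b) (kerG a b) (kerF_kerG a b hab) z
    have h2 : LinearMap.toMatrix' (betaG S (kerG a b) ∘ₗ alphaG S (kerF a b)) =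
        (1 - b * a).map (algebraMap Lr S) := by
      have : betaG S (kerG a b) ∘ₗ alphaG S (kerF a b) =
          Matrix.toLin' ((LinearMap.toMatrix' (kerG a b ∘ₗ kerF a b)).map (algebraMap Lr S)) :=
        LinearMap.ext fun x => betaG_alphaG S (kerF a b) (kerG a b) x
      rw [this, LinearMap.toMatrix'_toLin', toMatrix'_kerG_kerF]
    refine nonempty_linearEquiv_of_rEquiv (alphaG S (kerF a b)) (betaG S (kerG a b))
      (sfF θ) (sfG θ) h1 (sfF_sfG θ) ?_
    rw [h2, toMatrix'_sfG_sfF]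
    exact hR

end Main

end Groth.Agent.Helper8.GRApx
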