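import Mathlib
import Groth.Agent.Helper8.GRApxB
import Groth.Agent.Helper8.GRApxC

/-!
# The case `A[1/t] → Â[1/t]` for `t` in the Jacobson radical
-/

set_option autoImplicit false

universe u

namespace Groth.Agent.Helper8.GRApx

open Matrix TensorProduct
open Groth.Agent.Helper8.HQ

section Away

variable (A : Type u) [CommRing A] (t : A)

set_option quotPrecheck false in
local notation "II" => (Ideal.span {t} : Ideal A)
set_option quotPrecheck false in
local notation "Ah" => AdicCompletion (Ideal.span {t} : Ideal A) A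
set_option quotPrecheck false in
local notation "ι" => algebraMap A (AdicCompletion (Ideal.span {t} : Ideal A) A)
set_option quotPrecheck false in
local notation "Bt" => Localization.Away t
set_option quotPrecheck false in
local notation "Ct" => Localization.Away (algebraMap A (AdicCompletion (Ideal.span {t} : Ideal A) A) t)

variable [Algebra (Localization.Away t)
    (Localization.Away (algebraMap A (AdicCompletion (Ideal.span {t} : Ideal A) A) t))]
  (halg : algebraMap (Localization.Away t)
      (Localization.Away (algebraMap A (AdicCompletion (Ideal.span {t} : Ideal A) A) t)) =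
    Localization.awayMap (algebraMap A (AdicCompletion (Ideal.span {t} : Ideal A) A)) t)

include halg in
theorem algebraMap_comp (a : A) :
    algebraMap Bt Ct (algebraMap A Bt a) = algebraMap Ah Ct (ι a) := by
  rw [halg]
  simp [Localization.awayMap, IsLocalization.Away.map]

theorem eval_iota (N : ℕ) (a : A) :
    AdicCompletion.eval II A N (ι a) = Submodule.Quotient.mk a := by
  rw [AdicCompletion.algebraMap_apply, Algebra.algebraMap_self_apply, AdicCompletion.eval_of]
  rfl

theorem exists_eq_pow_mul_of_eval_eq_zero (N : ℕ) (o : Ah)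
    (ho : AdicCompletion.eval II A N o = 0) : ∃ o' : Ah, o = (ι t) ^ N * o' := by
  have hfg : (II).FG := ⟨{t}, by simp⟩
  have hmem : o ∈ (II ^ N • ⊤ : Submodule A Ah) := by
    rw [AdicCompletion.pow_smul_top_eq_ker_eval hfg]
    exact ho
  rw [Ideal.span_singleton_pow, Submodule.ideal_span_singleton_smul] at hmem
  obtain ⟨o', -, ho'⟩ := (Submodule.mem_smul_pointwise_iff_exists _ _ _).mp hmem
  refine ⟨o', ?_⟩
  rw [← ho', Algebra.smul_def, map_pow]

theorem eval_pow_mul (N : ℕ) (o : Ah) : AdicCompletion.eval II A N ((ι t) ^ N * o) = 0 := by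
  have hmem : (ι t) ^ N * o ∈ (II ^ N • ⊤ : Submodule A Ah) := by
    rw [Ideal.span_singleton_pow, Submodule.ideal_span_singleton_smul]
    refine (Submodule.mem_smul_pointwise_iff_exists _ _ _).mpr ⟨o, trivial, ?_⟩
    rw [Algebra.smul_def, map_pow]
  exact AdicCompletion.pow_smul_top_le_ker_eval (I := II) (M := A) N hmem

theorem isUnit_one_add_iota_mul (o : Ah) : IsUnit (1 + ι t * o) := by
  have hfg : (II).FG := ⟨{t}, by simp⟩
  have h1 : IsAdicComplete II Ah := AdicCompletion.isAdicComplete hfg
  have h2 : IsAdicComplete ((II).map ι) Ah := (IsAdicComplete.map_algebraMap_iff _ _).mpr h1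
  have h3 : ι t ∈ (⊥ : Ideal Ah).jacobson :=
    IsAdicComplete.le_jacobson_bot _ (Ideal.mem_map_of_mem _ (Ideal.mem_span_singleton_self t))
  have := (Ideal.mem_jacobson_bot.mp h3) o
  rwa [add_comm] at this

include halg in
/-- The approximation data for `A[1/t] → Â[1/t]`. -/
noncomputable def awayData (ht : t ∈ (⊥ : Ideal A).jacobson) : GRData Bt Ct Ah where
  φ := algebraMap Bt Ct
  ψ := algebraMap Ah Ct
  t := algebraMap A Bt t
  τ := ι t
  hτ := (algebraMap_comp A t halg t).symm
  ht := IsLocalization.Away.algebraMap_isUnit t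
  hP := by
    intro ξ
    obtain ⟨n, a, h⟩ := IsLocalization.Away.surj (ι t) ξ
    refine ⟨n, a, ?_⟩
    rw [algebraMap_comp A t halg t, mul_comm]
    exact h
  hD := by
    intro o N
    obtain ⟨a, ha⟩ := Submodule.Quotient.mk_surjective _ (AdicCompletion.eval II A N o)
    have h0 : AdicCompletion.eval II A N (o - ι a) = 0 := by
      rw [map_sub, eval_iota, ha, sub_self]
    obtain ⟨o', ho'⟩ := exists_eq_pow_mul_of_eval_eq_zero A t N _ h0
    refine ⟨algebraMap A Bt a, o', ?_⟩
    rw [algebraMap_comp A t halg a, ← map_add, ← ho']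
    congr 1
    ring
  hU := by
    intro x o hx
    obtain ⟨k, a, hka⟩ := IsLocalization.Away.surj t x
    have h1 : algebraMap Ah Ct (ι a) = algebraMap Ah Ct ((ι t) ^ (k + 1) * o) := by
      calc algebraMap Ah Ct (ι a) = algebraMap Bt Ct (algebraMap A Bt a) :=
            (algebraMap_comp A t halg a).symm
        _ = algebraMap Bt Ct (x * algebraMap A Bt t ^ k) := by rw [hka]
        _ = algebraMap Bt Ct x * (algebraMap Bt Ct (algebraMap A Bt t)) ^ k := by
            rw [map_mul, map_pow]
        _ = algebraMap Ah Ct (ι t * o) * (algebraMap Ah Ct (ι t)) ^ k := by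
            rw [hx, algebraMap_comp A t halg t]
        _ = algebraMap Ah Ct ((ι t) ^ (k + 1) * o) := by
            rw [← map_pow, ← map_mul]
            congr 1
            ring
    obtain ⟨m, hm⟩ := IsLocalization.Away.exists_of_eq (ι t) h1
    have h2 : ι (t ^ m * a) = (ι t) ^ (m + k + 1) * o := by
      rw [map_mul, map_pow, hm]
      ring
    have h3 : (Submodule.Quotient.mk (t ^ m * a) : A ⧸ (II ^ (m + k + 1) • ⊤ : Submodule A A)) = 0 := by
      rw [← eval_iota, h2, eval_pow_mul]
    rw [Submodule.Quotient.mk_eq_zero, smul_eq_mul, Ideal.mul_top, Ideal.span_singleton_pow,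
      Ideal.mem_span_singleton] at h3
    obtain ⟨z, hz⟩ := h3
    have hu := IsLocalization.Away.algebraMap_isUnit (S := Bt) t
    have hx' : x = algebraMap A Bt (t * z) := by
      have e1 : algebraMap A Bt t ^ (m + k) * x = algebraMap A Bt t ^ (m + k) * algebraMap A Bt (t * z) := by
        calc algebraMap A Bt t ^ (m + k) * x = algebraMap A Bt t ^ m * (x * algebraMap A Bt t ^ k) := by
              rw [pow_add]; ring
          _ = algebraMap A Bt (t ^ m * a) := by rw [hka, map_mul, map_pow]
          _ = algebraMap A Bt (t ^ (m + k + 1) * z) := by rw [hz]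
          _ = algebraMap A Bt t ^ (m + k) * algebraMap A Bt (t * z) := by
              rw [map_mul, map_mul, map_pow, pow_succ]; ring
      exact (hu.pow (m + k)).mul_left_cancel e1
    have hz1 : IsUnit (1 + t * z) := by
      have := (Ideal.mem_jacobson_bot.mp ht) z
      rwa [add_comm] at this
    rw [hx', ← map_one (algebraMap A Bt), ← map_add]
    exact hz1.map _
  hUO := isUnit_one_add_iota_mul A t

include halg in
/-- S15778 in packaged form. -/
theorem away_descent (ht : t ∈ (⊥ : Ideal A).jacobson) :
    (∀ (M N : Type u) [AddCommGroup M] [Module Bt M] [Module.Finite Bt M] [Module.Projective Bt M]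
        [AddCommGroup N] [Module Bt N] [Module.Finite Bt N] [Module.Projective Bt N],
        Nonempty (Ct ⊗[Bt] M ≃ₗ[Ct] Ct ⊗[Bt] N) → Nonempty (M ≃ₗ[Bt] N)) ∧
    (∀ (M' : Type u) [AddCommGroup M'] [Module Ct M'] [Module.Finite Ct M'],
        (∃ n m : ℕ, Nonempty ((M' × (Fin n → Ct)) ≃ₗ[Ct] (Fin m → Ct))) →
        ∃ (M : Type u) (_ : AddCommGroup M) (_ : Module Bt M), Module.Finite Bt M ∧
          (∃ n m : ℕ, Nonempty ((M × (Fin n → Bt)) ≃ₗ[Bt] (Fin m → Bt))) ∧
          Nonempty (Ct ⊗[Bt] M ≃ₗ[Ct] M')) := by
  refine ⟨?_, ?_⟩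
  · intro M N _ _ _ _ _ _ _ _ h
    exact nonempty_linearEquiv_of_rEquiv_descent
      (fun n m p q hp hq h => rEquiv_descent (awayData A t halg ht) p q hp hq h) M N h
  · intro M' _ _ _ h
    exact exists_stablyFree_descent
      (fun n m a' b' hab => stablyFree_descent (awayData A t halg ht) a' b' hab) M' h

end Away

end Groth.Agent.Helper8.GRApx
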