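import Mathlib
import Groth.Agent.Helper8.GRApxB
import Groth.Agent.Helper8.GRApxC

/-!
# The case `(R[t]_{1+tR[t]})[1/t] → R((t))`
-/

set_option autoImplicit false

universe u

namespace Groth.Agent.Helper8.GRApx

open Matrix TensorProduct Polynomial
open Groth.Agent.Helper8.HQ

section Laurent

variable (R : Type u) [CommRing R]

/-- The multiplicative set generated by `t` and `1 + tR[t]`. -/
noncomputable abbrev lSub : Submonoid R[X] := Submonoid.closure ({f : R[X] | f.coeff 0 = 1} ∪ {X})

variable {R}

theorem exists_eq_X_pow_mul_of_mem_lSub {s : R[X]} (hs : s ∈ lSub R) :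
    ∃ (k : ℕ) (f : R[X]), f.coeff 0 = 1 ∧ s = X ^ k * f := by
  induction hs using Submonoid.closure_induction with
  | mem s hs =>
    rcases hs with hs | hs
    · exact ⟨0, s, hs, by simp⟩
    · rw [Set.mem_singleton_iff] at hs
      exact ⟨1, 1, by simp, by simp [hs]⟩
  | one => exact ⟨0, 1, by simp, by simp⟩
  | mul s s' _ _ h h' =>
    obtain ⟨k, f, hf, rfl⟩ := h
    obtain ⟨k', f', hf', rfl⟩ := h'
    refine ⟨k + k', f * f', ?_, ?_⟩
    · rw [Polynomial.mul_coeff_zero, hf, hf', one_mul]
    · rw [pow_add]; ring

theorem mem_lSub_of_coeff_zero {f : R[X]} (hf : f.coeff 0 = 1) : f ∈ lSub R :=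
  Submonoid.subset_closure (Or.inl hf)

theorem X_mem_lSub : (X : R[X]) ∈ lSub R := Submonoid.subset_closure (Or.inr rfl)

variable (L : Type u) [CommRing L] [Algebra R[X] L] [IsLocalization (lSub R) L]
  (L' : Type u) [CommRing L'] [Algebra L L'] (e : L' ≃+* LaurentSeries R)
  (he : ∀ p : R[X], e (algebraMap L L' (algebraMap R[X] L p)) =
    HahnSeries.ofPowerSeries ℤ R (Polynomial.coeToPowerSeries.ringHom p))

include he in
/-- The approximation data for `L → R((t))`. -/
noncomputable def laurentData : GRData L (LaurentSeries R) (PowerSeries R) where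
  φ := (e : L' →+* LaurentSeries R).comp (algebraMap L L')
  ψ := HahnSeries.ofPowerSeries ℤ R
  t := algebraMap R[X] L X
  τ := PowerSeries.X
  hτ := by
    have := he X
    rw [Polynomial.coeToPowerSeries.ringHom_apply, Polynomial.coe_X] at this
    exact this.symm
  ht := IsLocalization.map_units L (⟨X, X_mem_lSub⟩ : lSub R)
  hP := by
    intro ξ
    obtain ⟨n, a, h⟩ := IsLocalization.Away.surj (PowerSeries.X : PowerSeries R) ξ
    refine ⟨n, a, ?_⟩
    have hX : ((e : L' →+* LaurentSeries R).comp (algebraMap L L')) (algebraMap R[X] L X) =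
        algebraMap (PowerSeries R) (LaurentSeries R) PowerSeries.X := by
      have := he X
      rw [Polynomial.coeToPowerSeries.ringHom_apply, Polynomial.coe_X] at this
      exact this
    rw [hX, mul_comm]
    exact h
  hD := by
    intro o N
    refine ⟨algebraMap R[X] L (PowerSeries.trunc N o),
      PowerSeries.mk fun i => PowerSeries.coeff (i + N) o, ?_⟩
    have h1 : ((e : L' →+* LaurentSeries R).comp (algebraMap L L'))
        (algebraMap R[X] L (PowerSeries.trunc N o)) =
        HahnSeries.ofPowerSeries ℤ R ((PowerSeries.trunc N o : R[X]) : PowerSeries R) :=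
      he _
    rw [h1, ← map_add]
    congr 1
    have := PowerSeries.eq_X_pow_mul_shift_add_trunc N o
    rw [add_comm] at this
    exact this
  hU := by
    intro x o hx
    obtain ⟨⟨y, s⟩, hys⟩ := IsLocalization.surj (lSub R) x
    obtain ⟨k, f, hf, hsf⟩ := exists_eq_X_pow_mul_of_mem_lSub s.2
    simp only at hys
    -- transport to power series
    have h1 : HahnSeries.ofPowerSeries ℤ R (PowerSeries.X * o * ((s : R[X]) : PowerSeries R)) =
        HahnSeries.ofPowerSeries ℤ R ((y : R[X]) : PowerSeries R) := by
      have hy := he y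
      have hs := he (s : R[X])
      rw [Polynomial.coeToPowerSeries.ringHom_apply] at hy hs
      have hx' : e (algebraMap L L' x) = HahnSeries.ofPowerSeries ℤ R (PowerSeries.X * o) := hx
      calc HahnSeries.ofPowerSeries ℤ R (PowerSeries.X * o * ((s : R[X]) : PowerSeries R))
          = e (algebraMap L L' x) * e (algebraMap L L' (algebraMap R[X] L (s : R[X]))) := by
            rw [map_mul (HahnSeries.ofPowerSeries ℤ R), hx', hs]
        _ = e (algebraMap L L' (x * algebraMap R[X] L (s : R[X]))) := by
            rw [map_mul (algebraMap L L'), map_mul e]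
        _ = HahnSeries.ofPowerSeries ℤ R ((y : R[X]) : PowerSeries R) := by rw [hys, hy]
    have h2 : PowerSeries.X * o * ((s : R[X]) : PowerSeries R) = ((y : R[X]) : PowerSeries R) :=
      HahnSeries.ofPowerSeries_injective h1
    have h3 : (X : R[X]) ^ (k + 1) ∣ y := by
      rw [Polynomial.X_pow_dvd_iff]
      intro d hd
      rw [← Polynomial.coeff_coe, ← h2, hsf, Polynomial.coe_mul, Polynomial.coe_pow,
        Polynomial.coe_X]
      have : PowerSeries.X * o * (PowerSeries.X ^ k * (f : PowerSeries R)) =
          PowerSeries.X ^ (k + 1) * (o * (f : PowerSeries R)) := by ring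
      rw [this, PowerSeries.coeff_X_pow_mul', if_neg (by omega)]
    obtain ⟨y', hy'⟩ := h3
    have hXu : IsUnit (algebraMap R[X] L X) := IsLocalization.map_units L (⟨X, X_mem_lSub⟩ : lSub R)
    have hfu : IsUnit (algebraMap R[X] L f) :=
      IsLocalization.map_units L (⟨f, mem_lSub_of_coeff_zero hf⟩ : lSub R)
    have hgu : IsUnit (algebraMap R[X] L (f + X * y')) := by
      refine IsLocalization.map_units L (⟨f + X * y', mem_lSub_of_coeff_zero ?_⟩ : lSub R)
      rw [Polynomial.coeff_add, hf, Polynomial.mul_coeff_zero, Polynomial.coeff_X_zero, zero_mul,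
        add_zero]
    have h4 : x * algebraMap R[X] L f = algebraMap R[X] L (X * y') := by
      have e1 : algebraMap R[X] L X ^ k * (x * algebraMap R[X] L f) =
          algebraMap R[X] L X ^ k * algebraMap R[X] L (X * y') := by
        calc algebraMap R[X] L X ^ k * (x * algebraMap R[X] L f)
            = x * algebraMap R[X] L (X ^ k * f) := by rw [map_mul, map_pow]; ring
          _ = algebraMap R[X] L y := by rw [← hsf, hys]
          _ = algebraMap R[X] L X ^ k * algebraMap R[X] L (X * y') := by
              rw [hy', map_mul, map_mul, map_pow, pow_succ]; ring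
      exact (hXu.pow k).mul_left_cancel e1
    have h5 : (1 + x) * algebraMap R[X] L f = algebraMap R[X] L (f + X * y') := by
      rw [add_mul, one_mul, h4, map_add]
    have h6 : IsUnit ((1 + x) * algebraMap R[X] L f) := h5 ▸ hgu
    exact (IsUnit.mul_iff.mp h6).1
  hUO := by
    intro o
    rw [PowerSeries.isUnit_iff_constantCoeff]
    simp

include he in
/-- S15759 in packaged form. -/
theorem laurent_loc_descent :
    (∀ (M N : Type u) [AddCommGroup M] [Module L M] [Module.Finite L M] [Module.Projective L M]
        [AddCommGroup N] [Module L N] [Module.Finite L N] [Module.Projective L N],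
        Nonempty (L' ⊗[L] M ≃ₗ[L'] L' ⊗[L] N) → Nonempty (M ≃ₗ[L] N)) ∧
    (∀ (M' : Type u) [AddCommGroup M'] [Module L' M'] [Module.Finite L' M'],
        (∃ n m : ℕ, Nonempty ((M' × (Fin n → L')) ≃ₗ[L'] (Fin m → L'))) →
        ∃ (M : Type u) (_ : AddCommGroup M) (_ : Module L M), Module.Finite L M ∧
          (∃ n m : ℕ, Nonempty ((M × (Fin n → L)) ≃ₗ[L] (Fin m → L))) ∧
          Nonempty (L' ⊗[L] M ≃ₗ[L'] M')) := by
  have hmapφ : ∀ {r c : Type} (Z : Matrix r c L),
      (Z.map (algebraMap L L')).map (e : L' →+* LaurentSeries R) =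
        Z.map (laurentData L L' e he).φ := by
    intro r c Z
    refine Matrix.ext fun i j => ?_
    rfl
  have hmapsymm : ∀ {r c : Type} (Z : Matrix r c L'),
      (Z.map (e : L' →+* LaurentSeries R)).map (e.symm : LaurentSeries R →+* L') = Z := by
    intro r c Z
    refine Matrix.ext fun i j => ?_
    simp
  refine ⟨?_, ?_⟩
  · intro M N _ _ _ _ _ _ _ _ h
    refine nonempty_linearEquiv_of_rEquiv_descent (Lr := L) (S := L') ?_ M N h
    intro n m p q hp hq hR
    have h1 := hR.map (e : L' →+* LaurentSeries R)
    rw [hmapφ, hmapφ] at h1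
    exact rEquiv_descent (laurentData L L' e he) p q hp hq h1
  · intro M' _ _ _ h
    refine exists_stablyFree_descent (Lr := L) (S := L') ?_ M' h
    intro n m a' b' hab
    have hab' : a'.map (e : L' →+* LaurentSeries R) * b'.map (e : L' →+* LaurentSeries R) = 1 := by
      rw [← Matrix.map_mul, hab, Matrix.map_one _ (map_zero _) (map_one _)]
    obtain ⟨a, b, hab1, hR⟩ := stablyFree_descent (laurentData L L' e he) _ _ hab'
    refine ⟨a, b, hab1, ?_⟩
    have h2 := hR.map (e.symm : LaurentSeries R →+* L')
    rw [← hmapφ, hmapsymm] at h2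
    have h3 : (1 - b'.map (e : L' →+* LaurentSeries R) * a'.map (e : L' →+* LaurentSeries R)).map
        (e.symm : LaurentSeries R →+* L') = 1 - b' * a' := by
      rw [Matrix.map_sub _ (map_sub _), Matrix.map_one _ (map_zero _) (map_one _), Matrix.map_mul,
        hmapsymm, hmapsymm]
    rw [h3] at h2
    exact h2

end Laurent

end Groth.Agent.Helper8.GRApx
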