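import Groth.Agent.Helper8.GabLocAB5
import Mathlib.CategoryTheory.Abelian.GrothendieckCategory.EnoughInjectives

universe w v u
open CategoryTheory CategoryTheory.Limits

namespace Groth.Agent.Helper8.GabLocA

variable {C : Type u} [Category.{v} C] [Abelian C] [EnoughInjectives C]

/-- `A' M Z`: `Hom(Z, M) = 0` and every map `Z ⟶ I/M` lifts to `I`, for `I` the chosen injective
containing `M`. -/
def A' (M Z : C) : Prop :=
  (∀ f : Z ⟶ M, f = 0) ∧
    ∀ g : Z ⟶ cokernel (Injective.ι M), ∃ gt : Z ⟶ Injective.under M,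
      gt ≫ cokernel.π (Injective.ι M) = g

variable {M : C}

lemma A'_unique {Z : C} (h : A' M Z) (a b : Z ⟶ Injective.under M)
    (hab : a ≫ cokernel.π (Injective.ι M) = b ≫ cokernel.π (Injective.ι M)) : a = b := by
  have h0 : (a - b) ≫ cokernel.π (Injective.ι M) = 0 := by
    rw [Preadditive.sub_comp, hab, sub_self]
  have ht := (ShortComplex.exact_cokernel (Injective.ι M)).lift_f (a - b) h0
  have : (ShortComplex.exact_cokernel (Injective.ι M)).lift (a - b) h0 = 0 := h.1 _
  rw [this] at ht
  have : a - b = 0 := by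
    rw [← ht]; exact zero_comp
  exact sub_eq_zero.1 this

lemma A'_of_isZero {Z : C} (hZ : IsZero Z) : A' M Z :=
  ⟨fun f => hZ.eq_of_src _ _, fun g => ⟨0, hZ.eq_of_src _ _⟩⟩

/-- `IsClosedFor P M` gives `A' M Z` for `Z` in `P`. -/
lemma A'_of_isClosedFor {P : ObjectProperty C} (h : GabLoc.IsClosedFor P M) {Z : C} (hZ : P Z) :
    A' M Z := by
  refine ⟨fun f => h.1 hZ f, fun g => ?_⟩
  -- pullback of π along g
  let π := cokernel.π (Injective.ι M)
  let i : M ⟶ pullback π g := pullback.lift (Injective.ι M) 0 (by simp [π])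
  have hi1 : i ≫ pullback.fst π g = Injective.ι M := pullback.lift_fst _ _ _
  have hi2 : i ≫ pullback.snd π g = 0 := pullback.lift_snd _ _ _
  haveI : Mono i := mono_of_mono_fac hi1
  haveI : Epi (pullback.snd π g) := inferInstance
  have hex : (ShortComplex.mk i (pullback.snd π g) hi2).Exact := by
    rw [ShortComplex.exact_iff_exact_up_to_refinements]
    intro W x hx
    have hx' : x ≫ pullback.snd π g = 0 := hx
    have h0 : (x ≫ pullback.fst π g) ≫ π = 0 := by
      rw [Category.assoc, pullback.condition, reassoc_of% hx', zero_comp]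
    refine ⟨W, 𝟙 W, inferInstance,
      (ShortComplex.exact_cokernel (Injective.ι M)).lift (x ≫ pullback.fst π g) h0, ?_⟩
    have hl := (ShortComplex.exact_cokernel (Injective.ι M)).lift_f (x ≫ pullback.fst π g) h0
    rw [Category.id_comp]
    change x = _ ≫ i
    apply pullback.hom_ext
    · rw [Category.assoc, hi1]; exact hl.symm
    · rw [Category.assoc, hi2, comp_zero, hx']
  have hse : (ShortComplex.mk i (pullback.snd π g) hi2).ShortExact :=
    ShortComplex.ShortExact.mk' hex ‹_› ‹_›
  haveI := h.2 i (pullback.snd π g) hi2 hZ hse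
  let sp := ShortComplex.Splitting.ofExactOfRetraction _ hex (retraction i)
    (IsSplitMono.id i) ‹Epi (pullback.snd π g)›
  refine ⟨sp.s ≫ pullback.fst π g, ?_⟩
  rw [Category.assoc]
  change sp.s ≫ pullback.fst π g ≫ π = g
  rw [pullback.condition]
  have := sp.s_g
  exact (by rw [reassoc_of% this])

/-- conversely -/
lemma isClosedFor_of_A' {P : ObjectProperty C} (h : ∀ Z, P Z → A' M Z) :
    GabLoc.IsClosedFor P M := by
  refine ⟨fun Y hY f => (h Y hY).1 f, fun N Y i p hp hY hS => ?_⟩
  haveI := hS.mono_f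
  haveI := hS.epi_g
  haveI : Mono i := hS.mono_f
  haveI : Epi p := hS.epi_g
  let π := cokernel.π (Injective.ι M)
  let e : N ⟶ Injective.under M := Injective.factorThru (Injective.ι M) i
  have he : i ≫ e = Injective.ι M := Injective.comp_factorThru _ _
  have h1 : i ≫ e ≫ π = 0 := by rw [reassoc_of% he]; exact cokernel.condition _
  let g : Y ⟶ cokernel (Injective.ι M) := hS.exact.desc (e ≫ π) h1
  have hg : p ≫ g = e ≫ π := hS.exact.g_desc _ _
  obtain ⟨gt, hgt⟩ := (h Y hY).2 g
  have h2 : (e - p ≫ gt) ≫ π = 0 := by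
    rw [Preadditive.sub_comp, Category.assoc, hgt, hg, sub_self]
  let r : N ⟶ M := (ShortComplex.exact_cokernel (Injective.ι M)).lift _ h2
  have hr : r ≫ Injective.ι M = e - p ≫ gt :=
    (ShortComplex.exact_cokernel (Injective.ι M)).lift_f _ h2
  refine ⟨⟨r, ?_⟩⟩
  rw [← cancel_mono (Injective.ι M), Category.assoc, hr, Preadditive.comp_sub, he,
    reassoc_of% hp, zero_comp, sub_zero, Category.id_comp]

/-- `A'` is closed under extensions -/
lemma A'_ext {S : ShortComplex C} (hS : S.ShortExact) (h1 : A' M S.X₁) (h3 : A' M S.X₃) :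
    A' M S.X₂ := by
  haveI := hS.mono_f
  haveI := hS.epi_g
  let π := cokernel.π (Injective.ι M)
  constructor
  · intro f
    have hf : S.f ≫ f = 0 := h1.1 _
    have := hS.exact.g_desc f hf
    rw [← this, h3.1 (hS.exact.desc f hf), comp_zero]
  · intro g
    obtain ⟨h', hh'⟩ := h1.2 (S.f ≫ g)
    let hh : S.X₂ ⟶ Injective.under M := Injective.factorThru h' S.f
    have hhf : S.f ≫ hh = h' := Injective.comp_factorThru _ _
    have h0 : S.f ≫ (g - hh ≫ π) = 0 := by
      rw [Preadditive.comp_sub, reassoc_of% hhf, hh', sub_self]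
    obtain ⟨gt, hgt⟩ := h3.2 (hS.exact.desc _ h0)
    have hd := hS.exact.g_desc _ h0
    refine ⟨hh + S.g ≫ gt, ?_⟩
    rw [Preadditive.add_comp, Category.assoc, hgt, hd]
    abel

end Groth.Agent.Helper8.GabLocA
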