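import Groth.Prelude.Def_W4c5qcohlocdualityLoc
import Mathlib.CategoryTheory.Abelian.GrothendieckCategory.Subobject
import Mathlib.CategoryTheory.Abelian.FunctorCategory
import Mathlib.CategoryTheory.Limits.Constructions.Filtered
import Mathlib.CategoryTheory.Abelian.Refinements

universe w v u
open CategoryTheory CategoryTheory.Limits

namespace Groth.Agent.Helper8.GabLocAB5

variable {C : Type u} [Category.{v} C] [Abelian C]

/-- objectwise exact short complexes of functors are exact -/
lemma exact_of_evaluation {J : Type w} [SmallCategory J] (S : ShortComplex (J ⥤ C))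
    (h : ∀ j, (S.map ((evaluation J C).obj j)).Exact) : S.Exact := by
  rw [ShortComplex.exact_iff_isZero_homology, Functor.isZero_iff]
  intro j
  have := h j
  rw [ShortComplex.exact_iff_isZero_homology] at this
  exact this.of_iso (S.mapHomologyIso ((evaluation J C).obj j)).symm

section AB5
variable {J : Type w} [SmallCategory J]
  {D : J ⥤ C} {c : Cocone D} {B : C} (b : B ⟶ c.pt)

/-- the pulled back diagram -/
noncomputable def pbDiag : J ⥤ C where
  obj j := pullback b (c.ι.app j)
  map {j j'} φ := pullback.lift (pullback.fst _ _) (pullback.snd _ _ ≫ D.map φ)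
    (by rw [pullback.condition, Category.assoc, c.w])
  map_id := by
    intros; apply pullback.hom_ext <;> simp [pullback.lift_fst, pullback.lift_snd]
  map_comp := by
    intros
    apply pullback.hom_ext <;>
      simp [pullback.lift_fst, pullback.lift_snd, pullback.lift_fst_assoc, pullback.lift_snd_assoc]

noncomputable def pbCocone : Cocone (pbDiag b) where
  pt := B
  ι := { app j := pullback.fst _ _, naturality := by intros; simp [pbDiag, pullback.lift_fst] }

noncomputable def pbNat : pbDiag b ⟶ D where
  app j := pullback.snd _ _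
  naturality := by intros; simp [pbDiag, pullback.lift_snd]

instance [Mono b] : Mono (pbNat b) := by
  haveI : ∀ j, Mono ((pbNat b).app j) := fun j => by
    change Mono (pullback.snd b (c.ι.app j))
    infer_instance
  exact NatTrans.mono_of_mono_app _

/-- the short complex of functors `pullback → D → const (coker b)` -/
noncomputable def pbSC : ShortComplex (J ⥤ C) :=
  ShortComplex.mk (pbNat b) (c.ι ≫ (Functor.const J).map (cokernel.π b)) (by
    ext j
    change pullback.snd b (c.ι.app j) ≫ c.ι.app j ≫ cokernel.π b = 0
    rw [← pullback.condition_assoc, cokernel.condition, comp_zero])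

lemma evSC_exact [Mono b] (j : J) :
    (ShortComplex.mk (pullback.snd b (c.ι.app j)) (c.ι.app j ≫ cokernel.π b)
      (by rw [← pullback.condition_assoc, cokernel.condition, comp_zero])).Exact := by
  rw [ShortComplex.exact_iff_exact_up_to_refinements]
  intro W x hx
  have hx' : (x ≫ c.ι.app j) ≫ cokernel.π b = 0 := by
    rw [Category.assoc]; exact hx
  have hy : (ShortComplex.exact_cokernel b).lift (x ≫ c.ι.app j) hx' ≫ b = x ≫ c.ι.app j :=
    (ShortComplex.exact_cokernel b).lift_f _ _
  refine ⟨W, 𝟙 W, inferInstance,
    pullback.lift ((ShortComplex.exact_cokernel b).lift (x ≫ c.ι.app j) hx') x hy, ?_⟩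
  rw [Category.id_comp]
  exact (pullback.lift_snd _ _ _).symm

lemma pbSC_exact [Mono b] : (pbSC b).Exact := by
  apply exact_of_evaluation
  intro j
  exact evSC_exact b j

attribute [local instance] IsFiltered.isConnected

variable [IsGrothendieckAbelian.{w} C] [IsFiltered J]

lemma pb_cond (j : J) :
    (pbCocone b).ι.app j ≫ b = (pbNat b).app j ≫ c.ι.app j :=
  pullback.condition

lemma isIso_desc_pbCocone (hc : IsColimit c) [Mono b] :
    IsIso (colimit.desc (pbDiag b) (pbCocone b)) := by
  have hv : ∀ j, colimit.ι (pbDiag b) j ≫ colimit.desc (pbDiag b) (pbCocone b) =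
      (pbCocone b).ι.app j := fun j => colimit.ι_desc _ _
  have hf : ∀ j, (colimit.cocone (pbDiag b)).ι.app j ≫ (colimit.desc (pbDiag b) (pbCocone b) ≫ b)
      = (pbSC b).f.app j ≫ c.ι.app j := by
    intro j
    change colimit.ι (pbDiag b) j ≫ colimit.desc (pbDiag b) (pbCocone b) ≫ b =
      (pbNat b).app j ≫ c.ι.app j
    rw [reassoc_of% (hv j)]
    exact pb_cond b j
  haveI : Mono (colimit.desc (pbDiag b) (pbCocone b) ≫ b) :=
    colim.map_mono' (pbNat b) (colimit.isColimit _) hc _ hf
  haveI : Mono (colimit.desc (pbDiag b) (pbCocone b)) := mono_of_mono _ b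
  have hg : ∀ j, c.ι.app j ≫ cokernel.π b =
      (pbSC b).g.app j ≫ (constCocone J (cokernel b)).ι.app j := by
    intro j
    change c.ι.app j ≫ cokernel.π b = (c.ι.app j ≫ cokernel.π b) ≫ 𝟙 _
    rw [Category.comp_id]
  have hex := colim.exact_mapShortComplex (pbSC_exact b) (colimit.isColimit _) hc
    (isColimitConstCocone J (cokernel b)) (colimit.desc (pbDiag b) (pbCocone b) ≫ b)
    (cokernel.π b) hf hg
  obtain ⟨W, π, hπ, y, hy⟩ := hex.exact_up_to_refinements b (cokernel.condition b)
  have hy' : π ≫ b = y ≫ (colimit.desc (pbDiag b) (pbCocone b) ≫ b) := hy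
  have hπv : π = y ≫ colimit.desc (pbDiag b) (pbCocone b) := by
    apply (cancel_mono b).1
    exact hy'.trans (Category.assoc _ _ _).symm
  haveI : Epi (y ≫ colimit.desc (pbDiag b) (pbCocone b)) := hπv ▸ hπ
  haveI : Epi (colimit.desc (pbDiag b) (pbCocone b)) := epi_of_epi y _
  exact isIso_of_mono_of_epi _

noncomputable def isColimit_pbCocone (hc : IsColimit c) [Mono b] : IsColimit (pbCocone b) := by
  haveI : IsIso ((colimit.isColimit (pbDiag b)).desc (pbCocone b)) := isIso_desc_pbCocone b hc
  exact IsColimit.ofPointIso (colimit.isColimit (pbDiag b))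

end AB5

end Groth.Agent.Helper8.GabLocAB5
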