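import Groth.Agent.Helper8.GabLocW
import Mathlib.CategoryTheory.ObjectProperty.FiniteProducts

universe w v u
open CategoryTheory CategoryTheory.Limits ZeroObject

namespace Groth.Agent.Helper8.GabLocC
open Groth.Agent.Helper8.GabLocA Groth.Agent.Helper8.GabLocAB5 Groth.Agent.Helper8.GabLocW

variable {C : Type u} [Category.{v} C] [Abelian C] [EnoughInjectives C] {M : C}

/-- filtered colimits of objects of `W M` lie in `W M` -/
lemma W_of_isColimit [IsGrothendieckAbelian.{w} C] {J : Type w} [SmallCategory J] [IsFiltered J]
    {D : J ⥤ C} {c : Cocone D} (hc : IsColimit c) (h : ∀ j, W M (D.obj j)) : W M c.pt := by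
  intro B b hb
  have hcB := isColimit_pbCocone b hc
  have hA : ∀ j, A' M ((pbDiag b).obj j) := fun j => by
    haveI : Mono ((pbNat b).app j) := by
      change Mono (pullback.snd b (c.ι.app j))
      infer_instance
    exact h j ((pbNat b).app j)
  constructor
  · intro f
    apply hcB.hom_ext
    intro j
    exact ((hA j).1 _).trans comp_zero.symm
  · intro g
    choose gt hgt using fun j => (hA j).2 ((pbCocone b).ι.app j ≫ g)
    let cc : Cocone (pbDiag b) :=
      { pt := Injective.under M
        ι :=
          { app := gt
            naturality := by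
              intro j j' φ
              apply A'_unique (hA j)
              rw [Category.assoc, hgt]
              change _ = (gt j ≫ 𝟙 _) ≫ _
              rw [Category.comp_id, hgt, ← Category.assoc, (pbCocone b).w φ] } }
    refine ⟨hcB.desc cc, ?_⟩
    apply hcB.hom_ext
    intro j
    have h1 : (pbCocone b).ι.app j ≫ hcB.desc cc = gt j := hcB.fac cc j
    exact ((Category.assoc _ _ _).symm.trans (by rw [h1])).trans (hgt j)

instance : ObjectProperty.IsClosedUnderBinaryCoproducts (W M) :=
  ObjectProperty.IsClosedUnderColimitsOfShape.mk' (by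
    rintro _ ⟨F, hF⟩
    have e : colimit F ≅ (F.obj ⟨.left⟩ ⊞ F.obj ⟨.right⟩) :=
      HasColimit.isoOfNatIso (diagramIsoPair F) ≪≫ (biprod.isoCoprod _ _).symm
    exact ObjectProperty.prop_of_iso (W M) e.symm
      (ObjectProperty.prop_biprod (W M) (hF _) (hF _)))

instance : ObjectProperty.IsClosedUnderFiniteCoproducts (W M) :=
  ObjectProperty.IsClosedUnderFiniteCoproducts.mk'

lemma W_coprod [IsGrothendieckAbelian.{w} C] (J : Type w) :
    ObjectProperty.IsClosedUnderColimitsOfShape (W M) (Discrete J) :=
  ObjectProperty.IsClosedUnderColimitsOfShape.mk' (by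
    rintro _ ⟨F, hF⟩
    classical
    let cc := CoproductsFromFiniteFiltered.liftToFinsetColimitCocone F
    have e : colimit F ≅ colimit (CoproductsFromFiniteFiltered.liftToFinsetObj F) :=
      (colimit.isColimit F).coconePointUniqueUpToIso cc.isColimit
    refine ObjectProperty.prop_of_iso (W M) e.symm ?_
    exact W_of_isColimit (colimit.isColimit (CoproductsFromFiniteFiltered.liftToFinsetObj F))
      (fun s => ObjectProperty.prop_coproduct (W M) (fun x => hF _)))

lemma W_isLocalizing [IsGrothendieckAbelian.{w} C] : GabLoc.IsLocalizing.{w} (W M) :=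
  ⟨inferInstance, W_coprod⟩

end Groth.Agent.Helper8.GabLocC
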