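import Groth.Agent.Helper8.GabLocC

universe w v u
open CategoryTheory CategoryTheory.Limits

namespace Groth.Agent.Helper8.GabLocMain
open Groth.Agent.Helper8.GabLocA Groth.Agent.Helper8.GabLocAB5 Groth.Agent.Helper8.GabLocW
  Groth.Agent.Helper8.GabLocC

theorem main45 {C : Type u} [Category.{v} C] [Abelian C]
    [IsGrothendieckAbelian.{w} C] (Q S : ObjectProperty C) (hQ : GabLoc.IsLocalizing.{w} Q)
    (hS : GabLoc.IsLocalizing.{w} S) (M : C) (hMQ : GabLoc.IsClosedFor Q M)
    (hMS : GabLoc.IsClosedFor S M) :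
    GabLoc.IsClosedFor (GabLoc.locClosure.{w} (Q ⊔ S)) M := by
  haveI := hQ.isSerreClass
  haveI := hS.isSerreClass
  have hle : Q ⊔ S ≤ W M := by
    rintro Y (hY | hY) B i _
    · exact A'_of_isClosedFor hMQ (Q.prop_of_mono i hY)
    · exact A'_of_isClosedFor hMS (S.prop_of_mono i hY)
  apply isClosedFor_of_A'
  intro Z hZ
  exact (hZ (W M) W_isLocalizing hle) (𝟙 Z)

theorem main44 {C : Type u} [Category.{v} C] [Abelian C]
    [IsGrothendieckAbelian.{w} C] (P : ObjectProperty C) [P.IsClosedUnderSubobjects] (M : C) :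
    GabLoc.IsClosedFor (GabLoc.locClosure.{w} P) M ↔ GabLoc.IsClosedFor P M := by
  constructor
  · intro h
    exact ⟨fun Y hY f => h.1 (fun Q _ hPQ => hPQ _ hY) f,
      fun N Y i p hp hY hse => h.2 i p hp (fun Q _ hPQ => hPQ _ hY) hse⟩
  · intro h
    have hle : P ≤ W M := fun Y hY B i _ => A'_of_isClosedFor h (P.prop_of_mono i hY)
    apply isClosedFor_of_A'
    intro Z hZ
    exact (hZ (W M) W_isLocalizing hle) (𝟙 Z)

end Groth.Agent.Helper8.GabLocMain
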