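import Groth.Agent.Helper8.GabLocAB5
import Mathlib.CategoryTheory.Preadditive.Injective.Basic
import Mathlib.CategoryTheory.Limits.Shapes.BinaryBiproducts
import Mathlib.CategoryTheory.Filtered.Basic
import Mathlib.Order.Zorn

universe w v u
open CategoryTheory CategoryTheory.Limits

namespace Groth.Agent.Helper8.GabLocU
open Groth.Agent.Helper8.GabLocAB5

variable {C : Type u} [Category.{v} C] [Abelian C]

/-- two subobjects of `E` are disjoint (in terms of generalized elements) -/
def Disj {E : C} (X Y : Subobject E) : Prop :=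
  ∀ ⦃T : C⦄ (x : T ⟶ E), X.Factors x → Y.Factors x → x = 0

lemma Disj.symm {E : C} {X Y : Subobject E} (h : Disj X Y) : Disj Y X :=
  fun _ x hy hx => h x hx hy

lemma Disj.mono_left {E : C} {X X' Y : Subobject E} (h : Disj X Y) (hle : X' ≤ X) : Disj X' Y :=
  fun _ x hx hy => h x (Subobject.factors_of_le x hle hx) hy

lemma Disj.mono_right {E : C} {X Y Y' : Subobject E} (h : Disj X Y) (hle : Y' ≤ Y) : Disj X Y' :=
  fun _ x hx hy => h x hx (Subobject.factors_of_le x hle hy)

lemma factors_mk_of_comm {E Y T : C} (f : Y ⟶ E) [Mono f] (x : T ⟶ E) (u : T ⟶ Y) (h : u ≫ f = x) :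
    (Subobject.mk f).Factors x := by
  rw [← h]
  exact Subobject.factors_of_factors_right u (Subobject.mk_factors_self f)

lemma exists_of_factors_mk {E Y T : C} (f : Y ⟶ E) [Mono f] (x : T ⟶ E)
    (h : (Subobject.mk f).Factors x) : ∃ u : T ⟶ Y, u ≫ f = x := by
  refine ⟨(Subobject.mk f).factorThru x h ≫ (Subobject.underlyingIso f).hom, ?_⟩
  rw [Category.assoc, Subobject.underlyingIso_hom_comp_eq_mk, Subobject.factorThru_arrow]

lemma isZero_pullback_of_disj {E Y Z : C} (f : Y ⟶ E) (g : Z ⟶ E) [Mono f] [Mono g]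
    (h : Disj (Subobject.mk f) (Subobject.mk g)) : IsZero (pullback f g) := by
  have hx : pullback.fst f g ≫ f = 0 :=
    h _ (factors_mk_of_comm f _ (pullback.fst f g) rfl)
      (factors_mk_of_comm g _ (pullback.snd f g) pullback.condition.symm)
  have h1 : pullback.fst f g = 0 := by
    rw [← cancel_mono f, hx, zero_comp]
  have h2 : pullback.snd f g = 0 := by
    rw [← cancel_mono g, ← pullback.condition, hx, zero_comp]
  rw [IsZero.iff_id_eq_zero]
  apply pullback.hom_ext
  · rw [Category.id_comp, h1, zero_comp]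
  · rw [Category.id_comp, h2, zero_comp]

lemma disj_of_isZero_pullback {E Y Z : C} (f : Y ⟶ E) (g : Z ⟶ E) [Mono f] [Mono g]
    (h : IsZero (pullback f g)) : Disj (Subobject.mk f) (Subobject.mk g) := by
  intro T x hf hg
  obtain ⟨u, hu⟩ := exists_of_factors_mk f x hf
  obtain ⟨v, hv⟩ := exists_of_factors_mk g x hg
  have hl : pullback.lift u v (hu.trans hv.symm) = 0 := h.eq_of_tgt _ _
  have : u = 0 := by
    rw [← pullback.lift_fst u v (hu.trans hv.symm), hl, zero_comp]
  rw [← hu, this, zero_comp]

section Zorn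

variable [IsGrothendieckAbelian.{w} C]

/-- a `w`-small index type for a `w`-small type (wrapper hiding other instances on `Shrink`) -/
def Idx (α : Type*) [Small.{w} α] : Type w := Shrink.{w} α

/-- the equivalence -/
noncomputable def Idx.equiv (α : Type*) [Small.{w} α] : Idx.{w} α ≃ α := (equivShrink α).symm

set_option backward.isDefEq.respectTransparency false in
lemma exists_ub {E : C} (A : Subobject E) (c : Set (Subobject E)) (hchain : IsChain (· ≤ ·) c)
    (hne : c.Nonempty) (hdisj : ∀ X ∈ c, Disj X A) :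
    ∃ K : Subobject E, Disj K A ∧ ∀ X ∈ c, X ≤ K := by
  classical
  obtain ⟨y, hy⟩ := hne
  haveI : Small.{w} (Subobject E) := inferInstance
  haveI : Small.{w} c := inferInstance
  let J := Idx.{w} c
  let e : J ≃ c := Idx.equiv c
  letI : Preorder J := Preorder.lift (fun j => (e j).1)
  haveI : Nonempty J := ⟨e.symm ⟨y, hy⟩⟩
  haveI : IsDirected J (· ≤ ·) := ⟨fun i j => by
    rcases hchain.total (e i).2 (e j).2 with h | h
    · exact ⟨j, h, le_rfl⟩
    · exact ⟨i, le_rfl, h⟩⟩
  haveI : IsFiltered J := isFiltered_of_directed_le_nonempty J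
  have hmono : Monotone (fun j : J => (e j).1) := fun _ _ h => h
  let F : J ⥤ MonoOver E := hmono.functor ⋙ Subobject.representative
  let D : J ⥤ C := F ⋙ MonoOver.forget _ ⋙ Over.forget _
  let f : colimit D ⟶ E :=
    colimit.desc D (Cocone.mk E
      { app j := (F.obj j).obj.hom
        naturality {j j'} g := by simp [D, MonoOver.forget] })
  have hf : ∀ j, (colimit.cocone D).ι.app j ≫ f = (F.obj j).obj.hom := fun j => by
    simp [f]
  haveI : Mono f :=
    IsGrothendieckAbelian.mono_of_isColimit_monoOver F (colimit.isColimit D) f hf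
  have harrow : ∀ j, (F.obj j).obj.hom = ((e j).1).arrow := fun j => rfl
  refine ⟨Subobject.mk f, ?_, ?_⟩
  · -- disjointness
    let a := A.arrow
    let b : pullback f a ⟶ (colimit.cocone D).pt := pullback.fst f a
    haveI : Mono b := by dsimp [b]; infer_instance
    have hP : IsColimit (pbCocone b) := isColimit_pbCocone b (colimit.isColimit D)
    have hz : ∀ j, IsZero ((pbDiag b).obj j) := by
      intro j
      change IsZero (pullback b ((colimit.cocone D).ι.app j))
      have hx : pullback.snd b ((colimit.cocone D).ι.app j) ≫ ((e j).1).arrow = 0 := by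
        apply hdisj _ (e j).2
        · exact Subobject.factors_comp_arrow _
        · have : pullback.snd b ((colimit.cocone D).ι.app j) ≫ ((e j).1).arrow =
              (pullback.fst b ((colimit.cocone D).ι.app j) ≫ pullback.snd f a) ≫ A.arrow := by
            rw [← harrow, ← hf j, ← pullback.condition_assoc, Category.assoc]
            change _ ≫ pullback.fst f a ≫ f = _
            rw [pullback.condition]
          rw [this]
          exact Subobject.factors_comp_arrow _
      have h2 : pullback.snd b ((colimit.cocone D).ι.app j) = 0 := by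
        rw [← cancel_mono ((e j).1).arrow, hx, zero_comp]
      have h1 : pullback.fst b ((colimit.cocone D).ι.app j) = 0 := by
        haveI : Mono (b ≫ f) := mono_comp _ _
        rw [← cancel_mono (b ≫ f), zero_comp, pullback.condition_assoc, hf j, harrow, hx]
      rw [IsZero.iff_id_eq_zero]
      apply pullback.hom_ext
      · rw [Category.id_comp, h1, zero_comp]
      · rw [Category.id_comp, h2, zero_comp]
    have hPz : IsZero (pullback f a) := by
      rw [IsZero.iff_id_eq_zero]
      exact hP.hom_ext (fun j => (hz j).eq_of_src _ _)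
    have := disj_of_isZero_pullback f a hPz
    rwa [Subobject.mk_arrow] at this
  · intro X hX
    obtain ⟨j, hj⟩ : ∃ j, (e j).1 = X := ⟨e.symm ⟨X, hX⟩, by simp⟩
    subst hj
    exact Subobject.le_mk_of_comm ((colimit.cocone D).ι.app j) (hf j)

lemma exists_maximal_disj {E : C} (A X₀ : Subobject E) (h₀ : Disj X₀ A) :
    ∃ X : Subobject E, X₀ ≤ X ∧ Disj X A ∧ ∀ X', X ≤ X' → Disj X' A → X' = X := by
  have key : ∀ c ⊆ {X | Disj X A}, IsChain (· ≤ ·) c → ∀ y ∈ c,
      ∃ ub ∈ {X | Disj X A}, ∀ z ∈ c, z ≤ ub := by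
    intro c hc hchain y hy
    obtain ⟨K, hK, hub⟩ := exists_ub A c hchain ⟨y, hy⟩ (fun X hX => hc hX)
    exact ⟨K, hK, hub⟩
  obtain ⟨m, hle, hmax⟩ := zorn_le_nonempty₀ {X | Disj X A} key X₀ h₀
  exact ⟨m, hle, hmax.prop, fun X' hX' hd => le_antisymm (hmax.le_of_ge hd hX') hX'⟩

end Zorn

section Split

/-- if `A` and `Cm` are mutually maximal disjoint subobjects of an injective `E`, then
`E ≅ A ⊞ Cm`. -/
theorem split_of_mutually_maximal {E : C} [Injective E] (A Cm : Subobject E) (hd : Disj A Cm)
    (hC : ∀ X', Cm ≤ X' → Disj X' A → X' = Cm) (hA : ∀ X', A ≤ X' → Disj X' Cm → X' = A) :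
    Nonempty (E ≅ (A : C) ⊞ (Cm : C)) := by
  let a := A.arrow
  let c := Cm.arrow
  let q := cokernel.π c
  have hcq : c ≫ q = 0 := cokernel.condition c
  -- lifting through the kernel of q
  have hlift : ∀ {T : C} (x : T ⟶ E), x ≫ q = 0 → ∃ k : T ⟶ (Cm : C), k ≫ c = x := by
    intro T x hx
    exact ⟨(ShortComplex.exact_cokernel c).lift x hx, (ShortComplex.exact_cokernel c).lift_f x hx⟩
  -- essentiality
  have hess : ∀ {D' : C} (d' : D' ⟶ cokernel c) [Mono d'],
      (∀ ⦃T : C⦄ (x : T ⟶ (A : C)) (y : T ⟶ D'), x ≫ a ≫ q = y ≫ d' → x = 0) → IsZero D' := by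
    intro D' d' _ hcond
    have hle : Cm ≤ Subobject.mk (pullback.snd d' q) :=
      Subobject.le_mk_of_comm (pullback.lift 0 c (by rw [zero_comp, hcq])) (pullback.lift_snd _ _ _)
    have hdis : Disj (Subobject.mk (pullback.snd d' q)) A := by
      intro T x hx hxa
      obtain ⟨u, hu⟩ := exists_of_factors_mk (pullback.snd d' q) x hx
      have hv := A.factorThru_arrow x hxa
      have : A.factorThru x hxa = 0 := by
        apply hcond (A.factorThru x hxa) (u ≫ pullback.fst d' q)
        rw [Category.assoc, pullback.condition, ← Category.assoc, ← Category.assoc]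
        congr 1
        rw [hu]
        exact hv
      rw [← hv, this, zero_comp]
    have heq := hC _ hle hdis
    have hsnd : pullback.snd d' q ≫ q = 0 := by
      have h1 : Subobject.ofMkLE (pullback.snd d' q) Cm (le_of_eq heq) ≫ c = pullback.snd d' q :=
        Subobject.ofMkLE_arrow _
      rw [← h1, Category.assoc, hcq, comp_zero]
    have hfst : pullback.fst d' q = 0 := by
      rw [← cancel_mono d', pullback.condition, hsnd, zero_comp]
    rw [IsZero.iff_id_eq_zero, ← cancel_epi (pullback.fst d' q), hfst, zero_comp, zero_comp]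
  -- a ≫ q is mono
  haveI : Mono (a ≫ q) := by
    apply Preadditive.mono_of_cancel_zero
    intro T x hx
    rw [← Category.assoc] at hx
    obtain ⟨k, hk⟩ := hlift (x ≫ a) hx
    have : x ≫ a = 0 := by
      apply hd
      · exact Subobject.factors_comp_arrow _
      · rw [← hk]; exact Subobject.factors_comp_arrow _
    rw [← cancel_mono a, this, zero_comp]
  let g : cokernel c ⟶ E := Injective.factorThru a (a ≫ q)
  have hg : (a ≫ q) ≫ g = a := Injective.comp_factorThru a (a ≫ q)
  have hg' : a ≫ q ≫ g = a := by rw [← Category.assoc]; exact hg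
  haveI : Mono g := by
    have hk : IsZero (kernel g) := by
      apply hess (kernel.ι g)
      intro T x y hxy
      have : x ≫ a = 0 := by
        have h1 : x ≫ a = (x ≫ a ≫ q) ≫ g := by
          rw [Category.assoc, Category.assoc, hg']
        rw [h1, hxy, Category.assoc, kernel.condition, comp_zero]
      rw [← cancel_mono a, this, zero_comp]
    exact Preadditive.mono_of_kernel_zero (hk.eq_of_src _ _)
  have hleA : A ≤ Subobject.mk g := Subobject.le_mk_of_comm (a ≫ q) hg
  have hdisg : Disj (Subobject.mk g) Cm := by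
    have hz : IsZero (pullback g c) := by
      apply hess (pullback.fst g c)
      intro T x y hxy
      have h1 : x ≫ a = (y ≫ pullback.snd g c) ≫ c := by
        calc x ≫ a = (x ≫ a ≫ q) ≫ g := by rw [Category.assoc, Category.assoc, hg']
          _ = (y ≫ pullback.snd g c) ≫ c := by
            rw [hxy, Category.assoc, pullback.condition, Category.assoc]
      have : x ≫ a = 0 := by
        apply hd
        · exact Subobject.factors_comp_arrow _
        · rw [h1]; exact Subobject.factors_comp_arrow _
      rw [← cancel_mono a, this, zero_comp]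
    have := disj_of_isZero_pullback g c hz
    rwa [Subobject.mk_arrow] at this
  have heq := hA _ hleA hdisg
  let r : cokernel c ⟶ (A : C) := Subobject.ofMkLE g A (le_of_eq heq)
  have hr : r ≫ a = g := Subobject.ofMkLE_arrow _
  have h1 : (a ≫ q) ≫ r = 𝟙 _ := by
    rw [← cancel_mono a, Category.assoc, hr, hg, Category.id_comp]
  haveI : Mono r := by
    haveI : Mono (r ≫ a) := by rw [hr]; infer_instance
    exact mono_of_mono r a
  have h2 : r ≫ (a ≫ q) = 𝟙 _ := by
    rw [← cancel_mono r, Category.assoc, h1, Category.comp_id, Category.id_comp]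
  let ρ : E ⟶ (A : C) := q ≫ r
  have haρ : a ≫ ρ = 𝟙 _ := by
    change a ≫ q ≫ r = _
    rw [← Category.assoc, h1]
  have hcρ : c ≫ ρ = 0 := by
    change c ≫ q ≫ r = _
    rw [← Category.assoc, hcq, zero_comp]
  have hρq : (ρ ≫ a) ≫ q = q := by
    change ((q ≫ r) ≫ a) ≫ q = q
    rw [Category.assoc, Category.assoc, h2, Category.comp_id]
  obtain ⟨t, ht⟩ := hlift (𝟙 E - ρ ≫ a) (by rw [Preadditive.sub_comp, Category.id_comp, hρq, sub_self])
  have hat : a ≫ t = 0 := by
    rw [← cancel_mono c, Category.assoc, ht, Preadditive.comp_sub, Category.comp_id,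
      ← Category.assoc, haρ, Category.id_comp, sub_self, zero_comp]
  have hct : c ≫ t = 𝟙 _ := by
    rw [← cancel_mono c, Category.assoc, ht, Preadditive.comp_sub, Category.comp_id,
      ← Category.assoc, hcρ, zero_comp, sub_zero, Category.id_comp]
  refine ⟨⟨biprod.lift ρ t, biprod.desc a c, ?_, ?_⟩⟩
  · rw [biprod.lift_desc, ht]
    abel
  · apply biprod.hom_ext' <;> apply biprod.hom_ext
    · simp [haρ]
    · simp [hat]
    · simp [hcρ]
    · simp [hct]

end Split

variable [IsGrothendieckAbelian.{w} C]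

/-- an indecomposable injective object is uniform -/
theorem uniform {E : C} [Injective E]
    (hind : ∀ (A B : C), Nonempty (E ≅ A ⊞ B) → IsZero A ∨ IsZero B)
    (A B : Subobject E) (hAB : Disj A B) : IsZero (A : C) ∨ IsZero (B : C) := by
  obtain ⟨Cm, hBC, hCA, hCmax⟩ := exists_maximal_disj A B hAB.symm
  obtain ⟨Am, hAA, hAC, hAmax⟩ := exists_maximal_disj Cm A hCA.symm
  have hCmax' : ∀ X', Cm ≤ X' → Disj X' Am → X' = Cm :=
    fun X' hle hdj => hCmax X' hle (hdj.mono_right hAA)
  obtain ⟨iso⟩ := split_of_mutually_maximal Am Cm hAC hCmax' hAmax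
  rcases hind _ _ ⟨iso⟩ with h | h
  · left
    exact IsZero.of_mono (Subobject.ofLE A Am hAA) h
  · right
    exact IsZero.of_mono (Subobject.ofLE B Cm hBC) h

theorem main {E : C} [Injective E]
    (hind : ∀ (A B : C), Nonempty (E ≅ A ⊞ B) → IsZero A ∨ IsZero B)
    (S₁ S₂ : ObjectProperty C) (h₁ : GabLoc.IsLocalizing.{w} S₁) (h₂ : GabLoc.IsLocalizing.{w} S₂)
    (ht₁ : GabLoc.HasTorsion S₁ E) (ht₂ : GabLoc.HasTorsion S₂ E) :
    GabLoc.HasTorsion (S₁ ⊓ S₂) E := by
  obtain ⟨Y₁, hY₁, f₁, hf₁⟩ := ht₁
  obtain ⟨Y₂, hY₂, f₂, hf₂⟩ := ht₂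
  haveI := h₁.isSerreClass
  haveI := h₂.isSerreClass
  have hS₁ : S₁ (image f₁) := S₁.prop_of_epi (factorThruImage f₁) hY₁
  have hS₂ : S₂ (image f₂) := S₂.prop_of_epi (factorThruImage f₂) hY₂
  have hnz : ¬ IsZero (pullback (image.ι f₁) (image.ι f₂)) := by
    intro hz
    have hd := disj_of_isZero_pullback (image.ι f₁) (image.ι f₂) hz
    rcases uniform hind _ _ hd with h | h
    · apply hf₁
      have h' : IsZero (image f₁) := h.of_iso (Subobject.underlyingIso (image.ι f₁)).symm
      rw [← image.fac f₁, h'.eq_of_tgt (factorThruImage f₁) 0, zero_comp]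
    · apply hf₂
      have h' : IsZero (image f₂) := h.of_iso (Subobject.underlyingIso (image.ι f₂)).symm
      rw [← image.fac f₂, h'.eq_of_tgt (factorThruImage f₂) 0, zero_comp]
  refine ⟨pullback (image.ι f₁) (image.ι f₂),
    ⟨S₁.prop_of_mono (pullback.fst _ _) hS₁, S₂.prop_of_mono (pullback.snd _ _) hS₂⟩,
    pullback.fst _ _ ≫ image.ι f₁, ?_⟩
  intro h0
  apply hnz
  have h1 : pullback.fst (image.ι f₁) (image.ι f₂) = 0 := by
    rw [← cancel_mono (image.ι f₁), h0, zero_comp]
  have h2 : pullback.snd (image.ι f₁) (image.ι f₂) = 0 := by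
    rw [← cancel_mono (image.ι f₂), ← pullback.condition, h0, zero_comp]
  rw [IsZero.iff_id_eq_zero]
  apply pullback.hom_ext
  · rw [Category.id_comp, h1, zero_comp]
  · rw [Category.id_comp, h2, zero_comp]

end Groth.Agent.Helper8.GabLocU
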