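import Groth.Agent.Helper8.GabLocA

universe w v u
open CategoryTheory CategoryTheory.Limits ZeroObject

namespace Groth.Agent.Helper8.GabLocW
open Groth.Agent.Helper8.GabLocA Groth.Agent.Helper8.GabLocAB5

variable {C : Type u} [Category.{v} C] [Abelian C] [EnoughInjectives C]

/-- objects all of whose subobjects satisfy `A' M` -/
def W (M : C) : ObjectProperty C := fun Y => ∀ ⦃B : C⦄ (i : B ⟶ Y) [Mono i], A' M B

variable {M : C}

instance : (W M).IsClosedUnderSubobjects where
  prop_of_mono {X Y} f _ hY := fun B i _ => hY (i ≫ f)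

instance : (W M).ContainsZero where
  exists_zero := ⟨0, isZero_zero C, fun B i _ => A'_of_isZero (IsZero.of_mono i (isZero_zero C))⟩

instance : (W M).IsClosedUnderQuotients where
  prop_of_epi {X Y} q _ hX := by
    intro B'' i'' _
    -- B := pullback of B'' along q
    let q' : pullback i'' q ⟶ B'' := pullback.fst i'' q
    let j : pullback i'' q ⟶ X := pullback.snd i'' q
    haveI : Epi q' := inferInstance
    haveI : Mono j := inferInstance
    have hB : A' M (pullback i'' q) := hX j
    have hL : A' M (kernel q') := hX (kernel.ι q' ≫ j)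
    constructor
    · intro f
      have : q' ≫ f = 0 := hB.1 _
      rw [← cancel_epi q', this, comp_zero]
    · intro g
      obtain ⟨gt', hgt'⟩ := hB.2 (q' ≫ g)
      have hk : kernel.ι q' ≫ gt' = 0 := by
        apply A'_unique hL
        rw [Category.assoc, hgt', kernel.condition_assoc, zero_comp, zero_comp]
      refine ⟨Abelian.epiDesc q' gt' hk, ?_⟩
      rw [← cancel_epi q', ← Category.assoc, Abelian.comp_epiDesc, hgt']

instance : (W M).IsClosedUnderExtensions where
  prop_X₂_of_shortExact {S} hS h1 h3 := by
    intro B i _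
    haveI := hS.mono_f
    haveI := hS.epi_g
    -- B' := pullback i S.f, B'' := image (i ≫ S.g)
    have hB' : A' M (pullback i S.f) := h1 (pullback.snd i S.f)
    have hB'' : A' M (image (i ≫ S.g)) := h3 (image.ι (i ≫ S.g))
    have hz : pullback.fst i S.f ≫ factorThruImage (i ≫ S.g) = 0 := by
      rw [← cancel_mono (image.ι (i ≫ S.g)), Category.assoc, image.fac, zero_comp,
        pullback.condition_assoc, S.zero, comp_zero]
    have hex : (ShortComplex.mk (pullback.fst i S.f) (factorThruImage (i ≫ S.g)) hz).Exact := by
      rw [ShortComplex.exact_iff_exact_up_to_refinements]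
      intro T x hx
      have hx' : x ≫ factorThruImage (i ≫ S.g) = 0 := hx
      have h0 : (x ≫ i) ≫ S.g = 0 := by
        have e1 : (x ≫ i) ≫ S.g = (x ≫ factorThruImage (i ≫ S.g)) ≫ image.ι (i ≫ S.g) := by
          rw [Category.assoc, Category.assoc, image.fac]
        rw [e1, hx', zero_comp]
      have hl := hS.exact.lift_f (x ≫ i) h0
      refine ⟨T, 𝟙 T, inferInstance, pullback.lift x (hS.exact.lift (x ≫ i) h0) hl.symm, ?_⟩
      rw [Category.id_comp]
      exact (pullback.lift_fst _ _ _).symm
    have hse : (ShortComplex.mk (pullback.fst i S.f) (factorThruImage (i ≫ S.g)) hz).ShortExact :=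
      ShortComplex.ShortExact.mk' hex inferInstance inferInstance
    exact A'_ext hse hB' hB''

instance : (W M).IsSerreClass where

end Groth.Agent.Helper8.GabLocW
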