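import Groth.Prelude.Def_W4c5qcohlocdualityLoc
import Mathlib.CategoryTheory.Abelian.GrothendieckCategory.Basic
import Mathlib.CategoryTheory.Abelian.GrothendieckCategory.Subobject
import Mathlib.CategoryTheory.MorphismProperty.TransfiniteComposition

universe w v u
open CategoryTheory CategoryTheory.Limits

namespace Groth.Agent.Helper8.GabTc

variable {C : Type u} [Category.{v} C] [Abelian C]

section Subquot
variable [HasCoproducts.{w} C] (P : ObjectProperty C)

lemma sq_of_iso {A A' : C} (e : A ≅ A') (h : GabLoc.subquotCoprod.{w} P A) :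
    GabLoc.subquotCoprod.{w} P A' := by
  obtain ⟨J, X, hX, B, i, p, hi, hp⟩ := h
  exact ⟨J, X, hX, B, i, p ≫ e.hom, hi, epi_comp _ _⟩

lemma sq_of_epi {A A' : C} (f : A ⟶ A') [Epi f] (h : GabLoc.subquotCoprod.{w} P A) :
    GabLoc.subquotCoprod.{w} P A' := by
  obtain ⟨J, X, hX, B, i, p, hi, hp⟩ := h
  exact ⟨J, X, hX, B, i, p ≫ f, hi, epi_comp _ _⟩

lemma sq_of_mono {A A' : C} (f : A' ⟶ A) [Mono f] (h : GabLoc.subquotCoprod.{w} P A) :
    GabLoc.subquotCoprod.{w} P A' := by
  obtain ⟨J, X, hX, B, i, p, hi, hp⟩ := h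
  haveI : Mono (pullback.snd f p) := inferInstance
  haveI : Epi (pullback.fst f p) := inferInstance
  exact ⟨J, X, hX, pullback f p, pullback.snd f p ≫ i, pullback.fst f p, mono_comp _ _,
    inferInstance⟩

lemma sq_of_prop {A : C} (h : P A) : GabLoc.subquotCoprod.{w} P A := by
  refine ⟨PUnit.{w+1}, fun _ => A, fun _ => h, ∐ (fun _ : PUnit.{w+1} => A), 𝟙 _,
    Sigma.desc (fun _ => 𝟙 A), inferInstance, ?_⟩
  have : Sigma.ι (fun _ : PUnit.{w+1} => A) PUnit.unit ≫ Sigma.desc (fun _ => 𝟙 A) = 𝟙 A :=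
    Sigma.ι_desc _ _
  exact epi_of_epi_fac this

lemma sq_of_isZero {A : C} (h : IsZero A) : GabLoc.subquotCoprod.{w} P A := by
  refine ⟨PEmpty.{w+1}, fun x => x.elim, fun x => x.elim, ∐ (fun x : PEmpty.{w+1} => (x.elim : C)),
    𝟙 _, 0, inferInstance, ?_⟩
  exact ⟨fun _ _ _ => h.eq_of_src _ _⟩

end Subquot

section Colim
variable [IsGrothendieckAbelian.{w} C]

/-- a localizing class is closed under small colimits -/
lemma prop_of_isColimit_of_localizing {Q : ObjectProperty C} (hQ : GabLoc.IsLocalizing.{w} Q)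
    {K : Type w} [SmallCategory K] {D : K ⥤ C} {c : Cocone D} (hc : IsColimit c)
    (hD : ∀ k, Q (D.obj k)) : Q c.pt := by
  haveI := hQ.isSerreClass
  haveI := hQ.isClosedUnderCoproducts K
  have h1 : Q (∐ D.obj) := Q.prop_colimit (Discrete.functor D.obj) (fun j => hD j.as)
  let s : ∐ D.obj ⟶ c.pt := Sigma.desc (fun k => c.ι.app k)
  haveI : Epi s := by
    constructor
    intro Z f g hfg
    apply hc.hom_ext
    intro k
    have := congrArg (fun t => Sigma.ι D.obj k ≫ t) hfg
    simpa [s] using this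
  exact Q.prop_of_epi s h1

end Colim

section Backward
variable [IsGrothendieckAbelian.{w} C]

open ZeroObject

lemma prop_of_sq {Q : ObjectProperty C} (hQ : GabLoc.IsLocalizing.{w} Q) {P : ObjectProperty C}
    (hPQ : P ≤ Q) {A : C} (h : GabLoc.subquotCoprod.{w} P A) : Q A := by
  haveI := hQ.isSerreClass
  obtain ⟨J, X, hX, B, i, p, hi, hp⟩ := h
  haveI := hQ.isClosedUnderCoproducts J
  have h1 : Q (∐ X) := Q.prop_colimit (Discrete.functor X) (fun j => hPQ _ (hX j.as))
  exact Q.prop_of_epi p (Q.prop_of_mono i h1)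

theorem locClosure_of_tc (P : ObjectProperty C) (X : C)
    (h : MorphismProperty.transfiniteCompositions.{w} (GabLoc.monoModSubquot.{w} P)
      (0 : (0 : C) ⟶ X)) : GabLoc.locClosure.{w} P X := by
  intro Q hQ hPQ
  haveI := hQ.isSerreClass
  rw [MorphismProperty.transfiniteCompositions_iff] at h
  obtain ⟨J, _, _, _, _, ⟨t⟩⟩ := h
  have key : ∀ j : J, Q (t.F.obj j) := by
    intro j
    induction j using SuccOrder.limitRecOn with
    | isMin j hj =>
      obtain rfl := hj.eq_bot
      exact Q.prop_of_iso t.isoBot.symm (Q.prop_of_isZero (isZero_zero C))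
    | succ j hj ih =>
      obtain ⟨hm, hc⟩ := t.map_mem j hj
      have h3 := prop_of_sq hQ hPQ hc
      let f := t.F.map (homOfLE (Order.le_succ j))
      haveI : Mono f := hm
      have hS : (ShortComplex.mk f (cokernel.π f) (cokernel.condition f)).ShortExact :=
        ShortComplex.ShortExact.mk' (ShortComplex.exact_cokernel f) hm inferInstance
      exact Q.prop_X₂_of_shortExact hS ih h3
    | isSuccLimit j hj ih =>
      exact prop_of_isColimit_of_localizing hQ (t.F.isColimitOfIsWellOrderContinuous j hj)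
        (fun k => ih k.1 k.2)
  exact prop_of_isColimit_of_localizing hQ t.isColimit key

end Backward

end Groth.Agent.Helper8.GabTc
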