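import Groth.Agent.Helper8.GabTcA
import Groth.Agent.Helper8.GabLocU

universe w v u
open CategoryTheory CategoryTheory.Limits

namespace Groth.Agent.Helper8.GabTc
open Groth.Agent.Helper8.GabLocU
open ZeroObject

variable {C : Type u} [Category.{v} C] [Abelian C]

/-- every nonzero quotient has a nonzero subobject which is a subquotient of a coproduct of
objects of `P` -/
def Q0 [HasCoproducts.{w} C] (P : ObjectProperty C) : ObjectProperty C :=
  fun X => ∀ ⦃Z : C⦄ (p : X ⟶ Z), Epi p → ¬ IsZero Z →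
    ∃ (N : C) (i : N ⟶ Z), Mono i ∧ ¬ IsZero N ∧ GabLoc.subquotCoprod.{w} P N

section
variable [HasCoproducts.{w} C] (P : ObjectProperty C)

lemma Q0_of_map {X Z : C} (hX : Q0.{w} P X) (f : X ⟶ Z) (hf : f ≠ 0) :
    ∃ (N : C) (i : N ⟶ Z), Mono i ∧ ¬ IsZero N ∧ GabLoc.subquotCoprod.{w} P N := by
  have hI : ¬ IsZero (image f) := by
    intro hz
    apply hf
    rw [← image.fac f, hz.eq_of_tgt (factorThruImage f) 0, zero_comp]
  obtain ⟨N, i, hi, hN, hP⟩ := hX (factorThruImage f) inferInstance hI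
  exact ⟨N, i ≫ image.ι f, mono_comp _ _, hN, hP⟩

lemma le_Q0 : P ≤ Q0.{w} P := by
  intro X hX Z p hp hZ
  haveI := hp
  exact ⟨Z, 𝟙 Z, inferInstance, hZ, sq_of_epi P p (sq_of_prop P hX)⟩

lemma Q0_of_epi {X Y : C} (f : X ⟶ Y) [Epi f] (hX : Q0.{w} P X) : Q0.{w} P Y := by
  intro Z p hp hZ
  haveI := hp
  exact hX (f ≫ p) (epi_comp _ _) hZ

lemma Q0_ext {S : ShortComplex C} (hS : S.ShortExact) (h1 : Q0.{w} P S.X₁)
    (h3 : Q0.{w} P S.X₃) : Q0.{w} P S.X₂ := by
  intro Z p hp hZ
  haveI := hp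
  haveI := hS.epi_g
  by_cases h : S.f ≫ p = 0
  · have hd := hS.exact.g_desc p h
    haveI : Epi (hS.exact.desc p h) := epi_of_epi_fac hd
    exact h3 (hS.exact.desc p h) inferInstance hZ
  · exact Q0_of_map P h1 (S.f ≫ p) h

lemma Q0_zero {X : C} (hX : IsZero X) : Q0.{w} P X := by
  intro Z p hp hZ
  haveI := hp
  exfalso
  apply hZ
  rw [IsZero.iff_id_eq_zero, ← cancel_epi p, comp_zero, hX.eq_of_src (p ≫ 𝟙 Z) 0]

lemma Q0_coprod {K : Type w} {D : Discrete K ⥤ C} {c : Cocone D} (hc : IsColimit c)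
    (hD : ∀ k, Q0.{w} P (D.obj k)) : Q0.{w} P c.pt := by
  intro Z p hp hZ
  haveI := hp
  have : ∃ k, c.ι.app k ≫ p ≠ 0 := by
    by_contra hcon
    push_neg at hcon
    apply hZ
    have hp0 : p = 0 := by
      apply hc.hom_ext
      intro k
      rw [hcon k, comp_zero]
    rw [IsZero.iff_id_eq_zero, ← cancel_epi p, comp_zero, hp0, zero_comp]
  obtain ⟨k, hk⟩ := this
  exact Q0_of_map P (hD k) _ hk

end

section Sub
variable [IsGrothendieckAbelian.{w} C] (P : ObjectProperty C)

lemma disj_bot {E : C} (A : Subobject E) : Disj (⊥ : Subobject E) A := by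
  intro T x hx _
  exact (Subobject.bot_factors_iff_zero x).1 hx

lemma Q0_of_mono {X' X : C} (i : X' ⟶ X) [Mono i] (hX : Q0.{w} P X) : Q0.{w} P X' := by
  intro Z p hp hZ
  haveI := hp
  -- pushout
  let inl : X ⟶ pushout i p := pushout.inl i p
  let inr : Z ⟶ pushout i p := pushout.inr i p
  haveI : Mono inr := by dsimp [inr]; infer_instance
  haveI : Epi inl := by dsimp [inl]; infer_instance
  obtain ⟨M, -, hMd, hMmax⟩ := exists_maximal_disj (Subobject.mk inr) ⊥ (disj_bot _)
  let q := cokernel.π M.arrow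
  have hMq : M.arrow ≫ q = 0 := cokernel.condition _
  -- inr ≫ q is mono
  haveI hmono : Mono (inr ≫ q) := by
    apply Preadditive.mono_of_cancel_zero
    intro T x hx
    rw [← Category.assoc] at hx
    have h1 : (x ≫ inr) = (ShortComplex.exact_cokernel M.arrow).lift (x ≫ inr) hx ≫ M.arrow :=
      ((ShortComplex.exact_cokernel M.arrow).lift_f (x ≫ inr) hx).symm
    have : x ≫ inr = 0 := by
      apply hMd
      · rw [h1]; exact Subobject.factors_comp_arrow _
      · exact factors_mk_of_comm inr _ x rfl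
    rw [← cancel_mono inr, this, zero_comp]
  have hZ' : ¬ IsZero (cokernel M.arrow) := fun hz => hZ (IsZero.of_mono (inr ≫ q) hz)
  obtain ⟨N, n, hn, hN, hPN⟩ := hX (inl ≫ q) (epi_comp _ _) hZ'
  haveI := hn
  -- the intersection of N and Z
  refine ⟨pullback n (inr ≫ q), pullback.snd n (inr ≫ q), inferInstance, ?_,
    sq_of_mono P (pullback.fst n (inr ≫ q)) hPN⟩
  intro hz
  apply hN
  -- preimage of N in the pushout
  let M' : Subobject (pushout i p) := Subobject.mk (pullback.snd n q)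
  have hle : M ≤ M' :=
    Subobject.le_mk_of_comm (pullback.lift 0 M.arrow (by rw [zero_comp, hMq]))
      (pullback.lift_snd _ _ _)
  have hdis : Disj M' (Subobject.mk inr) := by
    intro T x hx hxz
    obtain ⟨u, hu⟩ := exists_of_factors_mk (pullback.snd n q) x hx
    obtain ⟨v, hv⟩ := exists_of_factors_mk inr x hxz
    have hcomm : (u ≫ pullback.fst n q) ≫ n = v ≫ inr ≫ q := by
      rw [Category.assoc, pullback.condition, ← Category.assoc, hu, ← hv, Category.assoc]
    have hl : pullback.lift (u ≫ pullback.fst n q) v hcomm = 0 := hz.eq_of_tgt _ _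
    have hv0 : v = 0 := by
      rw [← pullback.lift_snd (u ≫ pullback.fst n q) v hcomm, hl, zero_comp]
    rw [← hv, hv0, zero_comp]
  have heq := hMmax M' hle hdis
  have hsnd : pullback.snd n q ≫ q = 0 := by
    have h1 : Subobject.ofMkLE (pullback.snd n q) M (le_of_eq heq) ≫ M.arrow = pullback.snd n q :=
      Subobject.ofMkLE_arrow _
    rw [← h1, Category.assoc, hMq, comp_zero]
  have hfst : pullback.fst n q = 0 := by
    rw [← cancel_mono n, pullback.condition, hsnd, zero_comp]
  haveI : Epi (pullback.fst n q) := inferInstance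
  rw [IsZero.iff_id_eq_zero, ← cancel_epi (pullback.fst n q), hfst, zero_comp, zero_comp]

theorem Q0_isLocalizing : GabLoc.IsLocalizing.{w} (Q0.{w} P) where
  isSerreClass :=
    { exists_zero := ⟨0, isZero_zero C, Q0_zero P (isZero_zero C)⟩
      prop_of_mono := fun f _ hY => Q0_of_mono P f hY
      prop_of_epi := fun f _ hX => Q0_of_epi P f hX
      prop_X₂_of_shortExact := fun hS h1 h3 => Q0_ext P hS h1 h3 }
  isClosedUnderCoproducts := fun J =>
    { colimitsOfShape_le := by
        rintro X ⟨h⟩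
        exact Q0_coprod P h.isColimit h.prop_diag_obj }

theorem Q0_of_locClosure {X : C} (h : GabLoc.locClosure.{w} P X) : Q0.{w} P X :=
  h (Q0.{w} P) (Q0_isLocalizing P) (le_Q0 P)

end Sub

end Groth.Agent.Helper8.GabTc
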