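import Groth.Agent.Helper8.GabTcB
import Mathlib.SetTheory.Cardinal.Order
import Mathlib.Order.SuccPred.Basic
import Mathlib.Order.SuccPred.Limit

universe w v u
open CategoryTheory CategoryTheory.Limits

namespace Groth.Agent.Helper8.GabTc
open ZeroObject

section Filt
variable {L : Type*} [CompleteLattice L] {J : Type*} [LinearOrder J] [WellFoundedLT J]

/-- the transfinite filtration obtained by iterating an inflationary operator -/
noncomputable def filt (next : L → L) : J → L :=
  WellFounded.fix (wellFounded_lt (α := J))
    (fun j ih => ⨆ (i : {i // i < j}), next (ih i.1 i.2))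

lemma filt_eq (next : L → L) (j : J) :
    filt next j = ⨆ (i : {i // i < j}), next (filt next i.1) :=
  WellFounded.fix_eq _ _ _

lemma filt_mono (next : L → L) : Monotone (filt next : J → L) := by
  intro i j h
  rw [filt_eq next i, filt_eq next j]
  exact iSup_le fun k => le_iSup_of_le (⟨k.1, lt_of_lt_of_le k.2 h⟩ : {k // k < j}) le_rfl

lemma next_filt_le (next : L → L) {i j : J} (h : i < j) : next (filt next i) ≤ filt next j := by
  rw [filt_eq next j]
  exact le_iSup (fun k : {k // k < j} => next (filt next k.1)) ⟨i, h⟩

lemma filt_bot [OrderBot J] (next : L → L) : filt next (⊥ : J) = ⊥ := by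
  rw [filt_eq, iSup_eq_bot]
  rintro ⟨i, hi⟩
  exact (not_lt_bot hi).elim

lemma filt_succ [SuccOrder J] (next : L → L) (hn : ∀ A, A ≤ next A) (j : J) (hj : ¬ IsMax j) :
    filt next (Order.succ j) = next (filt next j) := by
  apply le_antisymm
  · rw [filt_eq next (Order.succ j)]
    apply iSup_le
    rintro ⟨i, hi⟩
    have hij : i ≤ j := (Order.lt_succ_iff_of_not_isMax hj).1 hi
    rcases hij.lt_or_eq with h | rfl
    · exact (next_filt_le next h).trans (hn _)
    · exact le_rfl
  · exact next_filt_le next (Order.lt_succ_of_not_isMax hj)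

lemma filt_limit [SuccOrder J] (next : L → L) (m : J) (hm : Order.IsSuccLimit m) :
    filt next m = ⨆ (i : Set.Iio m), filt next i.1 := by
  apply le_antisymm
  · rw [filt_eq next m]
    apply iSup_le
    rintro ⟨i, hi⟩
    have hi' : ¬ IsMax i := not_isMax_of_lt hi
    have hlt : Order.succ i < m := hm.succ_lt hi
    refine le_trans ?_ (le_iSup (fun k : Set.Iio m => filt next k.1) ⟨Order.succ i, hlt⟩)
    exact next_filt_le next (Order.lt_succ_of_not_isMax hi')
  · exact iSup_le fun k => filt_mono next (le_of_lt k.2)

lemma filt_top_eq_top [OrderTop J] (next : L → L) (hn : ∀ A, A ≤ next A)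
    (hs : ∀ A, A ≠ ⊤ → next A ≠ A) (hinj : ¬ ∃ f : J → L, Function.Injective f) :
    filt next (⊤ : J) = ⊤ := by
  by_contra hne
  apply hinj
  refine ⟨filt next, ?_⟩
  have hlt : StrictMono (filt next : J → L) := by
    intro i j hij
    have hi : filt next i ≠ ⊤ := fun h => hne (top_le_iff.1 (h ▸ filt_mono next le_top))
    exact lt_of_lt_of_le (lt_of_le_of_ne (hn _) (hs _ hi).symm) (next_filt_le next hij)
  exact hlt.injective

end Filt

variable {C : Type u} [Category.{v} C] [Abelian C] [IsGrothendieckAbelian.{w} C]
  (P : ObjectProperty C)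

lemma exists_next {X : C} (hX : Q0.{w} P X) (A : Subobject X) :
    ∃ B : Subobject X, ∃ h : A ≤ B,
      GabLoc.subquotCoprod.{w} P (cokernel (Subobject.ofLE A B h)) ∧ (A ≠ ⊤ → B ≠ A) := by
  by_cases hA : A = ⊤
  · refine ⟨A, le_rfl, ?_, fun h => (h hA).elim⟩
    apply sq_of_isZero
    have : Subobject.ofLE A A le_rfl = 𝟙 _ := Subobject.ofLE_refl A
    rw [this]
    exact isZero_cokernel_of_epi _
  · let π := cokernel.π A.arrow
    have hnz : ¬ IsZero (cokernel A.arrow) := by
      intro hz
      apply hA
      haveI : Epi A.arrow := Preadditive.epi_of_isZero_cokernel A.arrow hz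
      haveI : IsIso A.arrow := isIso_of_mono_of_epi _
      exact Subobject.eq_top_of_isIso_arrow A
    obtain ⟨N, n, hn, hN, hPN⟩ := hX π inferInstance hnz
    haveI := hn
    let b : pullback n π ⟶ X := pullback.snd n π
    haveI : Mono b := by dsimp [b]; infer_instance
    have hle : A ≤ Subobject.mk b :=
      Subobject.le_mk_of_comm (pullback.lift 0 A.arrow (by rw [zero_comp, cokernel.condition]))
        (pullback.lift_snd _ _ _)
    refine ⟨Subobject.mk b, hle, ?_, ?_⟩
    · let a' := Subobject.ofLE A (Subobject.mk b) hle
      let φ : ((Subobject.mk b : Subobject X) : C) ⟶ N :=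
        (Subobject.underlyingIso b).hom ≫ pullback.fst n π
      have hφ : φ ≫ n = (Subobject.mk b).arrow ≫ π := by
        dsimp [φ]
        rw [Category.assoc, pullback.condition, ← Category.assoc,
          Subobject.underlyingIso_hom_comp_eq_mk]
      have hzero : a' ≫ φ = 0 := by
        rw [← cancel_mono n, Category.assoc, hφ, zero_comp, ← Category.assoc]
        dsimp [a']
        rw [Subobject.ofLE_arrow, cokernel.condition]
      haveI : Epi (pullback.fst n π) := inferInstance
      haveI : Epi φ := epi_comp _ _
      have hex : (ShortComplex.mk a' φ hzero).Exact := by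
        rw [ShortComplex.exact_iff_exact_up_to_refinements]
        intro T x hx
        have hx0 : x ≫ φ = 0 := hx
        have hx' : (x ≫ (Subobject.mk b).arrow) ≫ π = 0 := by
          rw [Category.assoc, ← hφ, ← Category.assoc, hx0, zero_comp]
        have hy := (ShortComplex.exact_cokernel A.arrow).lift_f _ hx'
        refine ⟨T, 𝟙 T, inferInstance, (ShortComplex.exact_cokernel A.arrow).lift _ hx', ?_⟩
        rw [Category.id_comp]
        rw [← cancel_mono (Subobject.mk b).arrow]
        change x ≫ _ = (_ ≫ a') ≫ _
        rw [Category.assoc]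
        dsimp [a']
        rw [Subobject.ofLE_arrow]
        exact hy.symm
      have e : cokernel a' ≅ N :=
        (colimit.isColimit _).coconePointUniqueUpToIso hex.gIsCokernel
      exact sq_of_iso P e.symm hPN
    · intro _ heq
      apply hN
      have hb : b ≫ π = 0 := by
        have h1 : Subobject.ofMkLE b A (le_of_eq heq) ≫ A.arrow = b := Subobject.ofMkLE_arrow _
        rw [← h1, Category.assoc, cokernel.condition, comp_zero]
      have hfst : pullback.fst n π = 0 := by
        rw [← cancel_mono n, pullback.condition, hb, zero_comp]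
      haveI : Epi (pullback.fst n π) := inferInstance
      rw [IsZero.iff_id_eq_zero, ← cancel_epi (pullback.fst n π), hfst, zero_comp, zero_comp]

/-- the next step of the filtration -/
noncomputable def next {X : C} (hX : Q0.{w} P X) (A : Subobject X) : Subobject X :=
  (exists_next P hX A).choose

lemma le_next {X : C} (hX : Q0.{w} P X) (A : Subobject X) : A ≤ next P hX A :=
  (exists_next P hX A).choose_spec.choose

lemma next_sq {X : C} (hX : Q0.{w} P X) (A : Subobject X) :
    GabLoc.subquotCoprod.{w} P (cokernel (Subobject.ofLE A (next P hX A) (le_next P hX A))) :=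
  (exists_next P hX A).choose_spec.choose_spec.1

lemma next_ne {X : C} (hX : Q0.{w} P X) (A : Subobject X) (hA : A ≠ ⊤) : next P hX A ≠ A :=
  (exists_next P hX A).choose_spec.choose_spec.2 hA

lemma mem_of_eq_next {X : C} (hX : Q0.{w} P X) (A B : Subobject X) (h : A ≤ B)
    (hB : B = next P hX A) :
    GabLoc.monoModSubquot.{w} P (Subobject.ofLE A B h) := by
  subst hB
  exact ⟨inferInstance, next_sq P hX A⟩

end Groth.Agent.Helper8.GabTc
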