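import Groth.Agent.Helper8.GabTcC

universe w v u
open CategoryTheory CategoryTheory.Limits

namespace Groth.Agent.Helper8.GabTc
open ZeroObject

variable {C : Type u} [Category.{v} C] [Abelian C] [IsGrothendieckAbelian.{w} C]
  (P : ObjectProperty C)

/-- the power set, without the order instances of `Set` -/
def PowT (α : Type w) : Type w := Set α

section Shape
variable (J : Type w) [LinearOrder J] [SuccOrder J] [OrderBot J] [OrderTop J] [WellFoundedLT J]
  {X : C} (hX : Q0.{w} P X)

/-- the filtration of `X` -/
noncomputable def fl (j : J) : Subobject X := filt (next P hX) j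

lemma fl_mono : Monotone (fl P J hX) := filt_mono _

/-- the filtration as a functor to `MonoOver X` -/
noncomputable def flG : J ⥤ MonoOver X := (fl_mono P J hX).functor ⋙ Subobject.representative

/-- the filtration as a functor to `C` -/
noncomputable def flF : J ⥤ C := flG P J hX ⋙ MonoOver.forget X ⋙ Over.forget X

lemma flF_map {i j : J} (h : i ≤ j) :
    (flF P J hX).map (homOfLE h) = Subobject.ofLE (fl P J hX i) (fl P J hX j) (fl_mono P J hX h) :=
  rfl

lemma flF_map_arrow {i j : J} (f : i ⟶ j) :
    (flF P J hX).map f ≫ (fl P J hX j).arrow = (fl P J hX i).arrow := by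
  have hf : f = homOfLE (leOfHom f) := rfl
  rw [hf, flF_map]
  exact Subobject.ofLE_arrow _

instance flF_woc : (flF P J hX).IsWellOrderContinuous where
  nonempty_isColimit m hm := by
    haveI : Nonempty (Set.Iio m) := ⟨⟨⊥, hm.bot_lt⟩⟩
    haveI : IsFiltered (Set.Iio m) := isFiltered_of_directed_le_nonempty _
    let s := Set.principalSegIio m
    let K : Set.Iio m ⥤ MonoOver X := s.monotone.functor ⋙ flG P J hX
    let cK : Cocone (K ⋙ MonoOver.forget X) := (MonoOver.forget X).mapCocone (s.cocone (flG P J hX))
    haveI : Mono cK.pt.hom := by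
      change Mono (fl P J hX m).arrow
      infer_instance
    have h : Subobject.mk cK.pt.hom = ⨆ j, Subobject.mk (K.obj j).obj.hom := by
      change Subobject.mk (fl P J hX m).arrow =
        ⨆ j : Set.Iio m, Subobject.mk (fl P J hX j.1).arrow
      simp only [Subobject.mk_arrow]
      exact filt_limit _ m hm
    have hc := IsGrothendieckAbelian.isColimitMapCoconeOfSubobjectMkEqISup K cK h
    exact ⟨IsColimit.ofIsoColimit hc (Cocone.ext (Iso.refl _) (fun j => by
      dsimp
      exact Category.comp_id _))⟩

/-- the transfinite composition -/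
noncomputable def tcOfShape (hJ : ¬ ∃ f : J → Subobject X, Function.Injective f) :
    (GabLoc.monoModSubquot.{w} P).TransfiniteCompositionOfShape J (0 : (0 : C) ⟶ X) where
  F := flF P J hX
  isoBot :=
    eqToIso (congrArg (fun A : Subobject X => (A : C)) (filt_bot (next P hX))) ≪≫
      Subobject.botCoeIsoZero
  isWellOrderContinuous := flF_woc P J hX
  incl :=
    { app j := (fl P J hX j).arrow
      naturality := fun i j f => by
        dsimp
        rw [Category.comp_id]
        exact flF_map_arrow P J hX f }
  isColimit := by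
    have htop : fl P J hX (⊤ : J) = ⊤ :=
      filt_top_eq_top (next P hX) (le_next P hX) (next_ne P hX) hJ
    haveI : IsIso (fl P J hX (⊤ : J)).arrow := (Subobject.isIso_arrow_iff_eq_top _).2 htop
    let e : ((fl P J hX (⊤ : J) : Subobject X) : C) ≅ X := asIso (fl P J hX (⊤ : J)).arrow
    refine IsColimit.ofIsoColimit (colimitOfDiagramTerminal isTerminalTop (flF P J hX))
      (Cocone.ext e ?_)
    intro j
    dsimp
    exact flF_map_arrow P J hX _
  fac := (isZero_zero C).eq_of_src _ _
  map_mem j hj := by
    rw [flF_map]
    exact mem_of_eq_next P hX _ _ _ (filt_succ (next P hX) (le_next P hX) j hj)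

end Shape

theorem tc_of_Q0 {X : C} (hX : Q0.{w} P X) :
    MorphismProperty.transfiniteCompositions.{w} (GabLoc.monoModSubquot.{w} P)
      (0 : (0 : C) ⟶ X) := by
  classical
  haveI : Small.{w} (Subobject X) := inferInstance
  let T : Type w := PowT (Shrink.{w} (Subobject X))
  obtain ⟨lo, wf⟩ := exists_wellFoundedLT T
  letI := lo
  haveI := wf
  haveI : Nonempty T := ⟨(∅ : Set (Shrink.{w} (Subobject X)))⟩
  letI ob : OrderBot T := WellFoundedLT.toOrderBot T
  letI so : SuccOrder (WithTop T) := SuccOrder.ofLinearWellFoundedLT (WithTop T)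
  have hJ : ¬ ∃ f : WithTop T → Subobject X, Function.Injective f := by
    rintro ⟨f, hf⟩
    apply Function.cantor_injective (fun s : Set (Shrink.{w} (Subobject X)) =>
      equivShrink (Subobject X) (f (WithTop.some (show T from s))))
    intro s t hst
    have h1 := (equivShrink (Subobject X)).injective hst
    have h2 := hf h1
    exact WithTop.coe_injective h2
  rw [MorphismProperty.transfiniteCompositions_iff]
  exact ⟨WithTop T, inferInstance, so, inferInstance, inferInstance, ⟨tcOfShape P (WithTop T) hX hJ⟩⟩

theorem main (X : C) :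
    GabLoc.locClosure.{w} P X ↔
      MorphismProperty.transfiniteCompositions.{w} (GabLoc.monoModSubquot.{w} P)
        (0 : (0 : C) ⟶ X) :=
  ⟨fun h => tc_of_Q0 P (Q0_of_locClosure P h), locClosure_of_tc P X⟩

end Groth.Agent.Helper8.GabTc
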