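import Mathlib

namespace Groth.Agent.Helper8.GalLat

open CategoryTheory groupCohomology



lemma exists_equivariant_choice {Γ X V : Type} [Group Γ] [MulAction Γ X]
    (act : Γ → V → V) (act_mul : ∀ a b v, act (a * b) v = act a (act b v))
    (F : X → Set V) (hne : ∀ x, (F x).Nonempty)
    (hact : ∀ γ x v, v ∈ F x → act γ v ∈ F (γ • x))
    (hstab : ∀ x v, v ∈ F x → ∀ γ : Γ, γ • x = x → act γ v = v) :
    ∃ e : X → V, (∀ x, e x ∈ F x) ∧ ∀ γ x, e (γ • x) = act γ (e x) := by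
  classical
  let Q := MulAction.orbitRel.Quotient Γ X
  let mk : X → Q := fun x => Quotient.mk'' x
  let r : X → X := fun x => (mk x).out
  have hr : ∀ x, ∃ γ : Γ, γ • r x = x := by
    intro x
    have h1 : (MulAction.orbitRel Γ X).r (r x) x := Quotient.mk_out (s := MulAction.orbitRel Γ X) x
    have h2 : r x ∈ MulAction.orbit Γ x := h1
    obtain ⟨γ, hγ⟩ := h2
    refine ⟨γ⁻¹, ?_⟩
    have : γ • x = r x := hγ
    rw [← this, inv_smul_smul]
  choose τ hτ using hr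
  have hv : ∀ q : Q, ∃ v, v ∈ F q.out := fun q => hne _
  choose v hvF using hv
  have hmk : ∀ (γ : Γ) (x : X), mk (γ • x) = mk x := by
    intro γ x
    apply Quotient.sound'
    exact MulAction.mem_orbit x γ
  refine ⟨fun x => act (τ x) (v (mk x)), fun x => ?_, fun γ x => ?_⟩
  · have := hact (τ x) (r x) (v (mk x)) (hvF (mk x))
    rwa [hτ x] at this
  · have hrr : r (γ • x) = r x := by simp only [r, hmk]
    have hw : v (mk (γ • x)) = v (mk x) := by rw [hmk]
    show act (τ (γ • x)) (v (mk (γ • x))) = act γ (act (τ x) (v (mk x)))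
    rw [hw, ← act_mul]
    have h1 : τ (γ • x) • r x = γ • x := by rw [← hrr]; exact hτ _
    have h2 : (γ * τ x) • r x = γ • x := by rw [mul_smul, hτ]
    have h3 : ((γ * τ x)⁻¹ * τ (γ • x)) • r x = r x := by
      rw [mul_smul, h1, ← h2, inv_smul_smul]
    have h4 := hstab (r x) (v (mk x)) (hvF (mk x)) _ h3
    have h5 : τ (γ • x) = (γ * τ x) * ((γ * τ x)⁻¹ * τ (γ • x)) := by group
    rw [h5, act_mul, h4]


variable {k : Type} [CommRing k]

lemma isZero_H1_iff {G : Type} [Group G] (A : Rep k G) :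
    Limits.IsZero (groupCohomology A 1) ↔
      ∀ f : G → A.V, (∀ g h, f (g * h) = A.ρ g (f h) + f g) →
        ∃ a : A.V, ∀ g, f g = A.ρ g a - a := by
  constructor
  · intro hz f hf
    have hmem : f ∈ cocycles₁ A := (mem_cocycles₁_iff f).2 hf
    have h0 : H1π A ⟨f, hmem⟩ = 0 := by
      have : Subsingleton (H1 A) := ModuleCat.subsingleton_of_isZero hz
      exact Subsingleton.elim _ _
    rw [H1π_eq_zero_iff] at h0
    obtain ⟨a, ha⟩ := h0
    refine ⟨a, fun g => ?_⟩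
    have := congrFun ha g
    simpa using this.symm
  · intro h
    rw [ModuleCat.isZero_iff_subsingleton]
    refine ⟨fun x y => ?_⟩
    have key : ∀ z : H1 A, z = 0 := by
      intro z
      induction z using H1_induction_on with
      | h c =>
        rw [H1π_eq_zero_iff]
        obtain ⟨a, ha⟩ := h c ((mem_cocycles₁_iff c).1 c.2)
        refine ⟨a, ?_⟩
        funext g
        simpa using (ha g).symm
    rw [key x, key y]


/-- The linear map out of `k[X]` with prescribed values on the basis. -/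
noncomputable def basisLift {X V : Type} [AddCommGroup V] [Module k V] (e : X → V) :
    MonoidAlgebra k X →ₗ[k] V :=
  (Finsupp.linearCombination k e) ∘ₗ (MonoidAlgebra.coeffLinearEquiv k).toLinearMap

@[simp] lemma basisLift_single {X V : Type} [AddCommGroup V] [Module k V] (e : X → V) (x : X) (n : k) :
    basisLift e (MonoidAlgebra.single x n) = n • e x := by
  simp [basisLift]

section Converse

variable {Γ : Type} [Group Γ] (Λ : Rep k Γ) (Γ' : Subgroup Γ)

noncomputable def sec (x : Γ ⧸ Γ') : Γ := by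
  classical exact if x = ((1 : Γ) : Γ ⧸ Γ') then 1 else x.out

lemma sec_spec (x : Γ ⧸ Γ') : ((sec Γ' x : Γ) : Γ ⧸ Γ') = x := by
  classical
  unfold sec
  split_ifs with h
  · exact h.symm
  · exact QuotientGroup.out_eq' x

lemma sec_one : sec Γ' ((1 : Γ) : Γ ⧸ Γ') = 1 := by
  classical
  simp [sec]

noncomputable def hh (γ : Γ) (x : Γ ⧸ Γ') : Γ := (sec Γ' (γ • x))⁻¹ * γ * sec Γ' x

lemma hh_mem (γ : Γ) (x : Γ ⧸ Γ') : hh Γ' γ x ∈ Γ' := by
  have h1 : ((sec Γ' (γ • x) : Γ) : Γ ⧸ Γ') = ((γ * sec Γ' x : Γ) : Γ ⧸ Γ') := by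
    rw [sec_spec, ← smul_eq_mul, ← MulAction.Quotient.smul_mk, sec_spec]
  have := QuotientGroup.eq.1 h1
  simpa [hh, mul_assoc] using this

lemma hh_mul (γ δ : Γ) (x : Γ ⧸ Γ') : hh Γ' (γ * δ) x = hh Γ' γ (δ • x) * hh Γ' δ x := by
  simp only [hh, mul_smul]
  group

lemma sec_mul_hh (γ : Γ) (x : Γ ⧸ Γ') : sec Γ' (γ • x) * hh Γ' γ x = γ * sec Γ' x := by
  simp only [hh]
  group

variable (c : Γ → Λ.V)

noncomputable def chat (γ : Γ) (x : Γ ⧸ Γ') : Λ.V := Λ.ρ (sec Γ' (γ • x)) (c (hh Γ' γ x))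

variable (hc : ∀ a ∈ Γ', ∀ b ∈ Γ', c (a * b) = Λ.ρ a (c b) + c a)

include hc in
lemma c_one : c 1 = 0 := by
  have := hc 1 Γ'.one_mem 1 Γ'.one_mem
  simpa using this

include hc in
lemma chat_one (x : Γ ⧸ Γ') : chat Λ Γ' c 1 x = 0 := by
  have : hh Γ' 1 x = 1 := by simp [hh]
  simp [chat, this, c_one Λ Γ' c hc]

include hc in
lemma chat_mul (γ δ : Γ) (x : Γ ⧸ Γ') :
    chat Λ Γ' c (γ * δ) x = Λ.ρ γ (chat Λ Γ' c δ x) + chat Λ Γ' c γ (δ • x) := by
  simp only [chat]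
  rw [hh_mul, hc _ (hh_mem Γ' γ (δ • x)) _ (hh_mem Γ' δ x), map_add, mul_smul]
  congr 1
  have := sec_mul_hh Γ' γ (δ • x)
  rw [← Module.End.mul_apply, ← map_mul, this, map_mul, Module.End.mul_apply,
    ← Module.End.mul_apply, ← map_mul]

/-- The twisting linear map. -/
noncomputable def TT (γ : Γ) : MonoidAlgebra k (Γ ⧸ Γ') →ₗ[k] Λ.V := basisLift (chat Λ Γ' c γ)

include hc in
lemma TT_one : TT Λ Γ' c 1 = 0 := by
  apply MonoidAlgebra.lhom_ext'
  intro x
  apply LinearMap.ext_ring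
  simp [TT, chat_one Λ Γ' c hc]

include hc in
lemma TT_mul (γ δ : Γ) : TT Λ Γ' c (γ * δ) =
    Λ.ρ γ ∘ₗ TT Λ Γ' c δ + TT Λ Γ' c γ ∘ₗ Representation.ofMulAction k Γ (Γ ⧸ Γ') δ := by
  apply MonoidAlgebra.lhom_ext'
  intro x
  apply LinearMap.ext_ring
  simp [TT, chat_mul Λ Γ' c hc]

/-- The twisted representation on `Λ × k[Γ/Γ']`. -/
noncomputable def twistRep : Representation k Γ (Λ.V × MonoidAlgebra k (Γ ⧸ Γ')) where
  toFun γ := LinearMap.prod (LinearMap.coprod (Λ.ρ γ) (TT Λ Γ' c γ))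
    ((Representation.ofMulAction k Γ (Γ ⧸ Γ') γ) ∘ₗ LinearMap.snd k _ _)
  map_one' := by
    apply LinearMap.ext
    rintro ⟨l, p⟩
    simp [TT_one Λ Γ' c hc]
  map_mul' γ δ := by
    apply LinearMap.ext
    rintro ⟨l, p⟩
    simp [TT_mul Λ Γ' c hc, add_assoc]


lemma twistRep_apply (γ : Γ) (l : Λ.V) (p : MonoidAlgebra k (Γ ⧸ Γ')) :
    twistRep Λ Γ' c hc γ (l, p) =
      (Λ.ρ γ l + TT Λ Γ' c γ p, Representation.ofMulAction k Γ (Γ ⧸ Γ') γ p) := rfl

noncomputable def twistE : Rep k Γ := Rep.of (twistRep Λ Γ' c hc)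

noncomputable def twistF : Λ ⟶ twistE Λ Γ' c hc :=
  Rep.ofHom ⟨LinearMap.inl k _ _, fun γ => by
    apply LinearMap.ext
    intro l
    simp [twistRep_apply]⟩

noncomputable def twistG : twistE Λ Γ' c hc ⟶ Rep.ofMulAction k Γ (Γ ⧸ Γ') :=
  Rep.ofHom ⟨LinearMap.snd k _ _, fun γ => by
    apply LinearMap.ext
    rintro ⟨l, p⟩
    simp [twistRep_apply]⟩

lemma twistF_apply (l : Λ.V) : (twistF Λ Γ' c hc).hom l = (l, 0) := rfl

lemma twistG_apply (w : Λ.V × MonoidAlgebra k (Γ ⧸ Γ')) : (twistG Λ Γ' c hc).hom w = w.2 := rfl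

noncomputable def twistSC : ShortComplex (Rep k Γ) :=
  ShortComplex.mk (twistF Λ Γ' c hc) (twistG Λ Γ' c hc) (by
    apply Rep.hom_ext
    apply Representation.IntertwiningMap.ext
    apply LinearMap.ext
    intro l
    rfl)

lemma twistSC_shortExact : (twistSC Λ Γ' c hc).ShortExact := by
  have hex : (twistSC Λ Γ' c hc).Exact := by
    rw [← ShortComplex.exact_map_iff_of_faithful _ (forget₂ (Rep k Γ) (ModuleCat k))]
    rw [ShortComplex.moduleCat_exact_iff]
    intro x hx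
    have hx' : x.2 = 0 := hx
    exact ⟨x.1, Prod.ext rfl hx'.symm⟩
  have hm : Mono (twistSC Λ Γ' c hc).f := by
    rw [Rep.mono_iff_injective]
    intro a b hab
    exact congrArg Prod.fst hab
  have he : Epi (twistSC Λ Γ' c hc).g := by
    rw [Rep.epi_iff_surjective]
    intro p
    exact ⟨(0, p), rfl⟩
  exact { exact := hex, mono_f := hm, epi_g := he }

end Converse

/-- The morphism out of a permutation representation given by an equivariant family. -/
noncomputable def permLift {Γ X : Type} [Group Γ] [MulAction Γ X] (A : Rep k Γ) (e : X → A.V)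
    (he : ∀ γ x, e (γ • x) = A.ρ γ (e x)) : Rep.ofMulAction k Γ X ⟶ A :=
  Rep.ofHom ⟨basisLift e, fun γ => by
    apply MonoidAlgebra.lhom_ext'
    intro x
    apply LinearMap.ext_ring
    simp [he]⟩

lemma permLift_single {Γ X : Type} [Group Γ] [MulAction Γ X] (A : Rep k Γ) (e : X → A.V)
    (he : ∀ γ x, e (γ • x) = A.ρ γ (e x)) (x : X) :
    (permLift A e he).hom (MonoidAlgebra.single x 1) = e x := by
  simp [permLift]

lemma perm_hom_ext {Γ X : Type} [Group Γ] [MulAction Γ X] (A : Rep k Γ)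
    (f g : Rep.ofMulAction k Γ X ⟶ A)
    (h : ∀ x, f.hom (MonoidAlgebra.single x 1) = g.hom (MonoidAlgebra.single x 1)) : f = g := by
  apply Rep.hom_ext
  apply Representation.IntertwiningMap.ext
  apply MonoidAlgebra.lhom_ext'
  intro x
  apply LinearMap.ext_ring
  simpa using h x


theorem forward {Γ : Type} [Group Γ] (Λ : Rep k Γ)
    (hH : ∀ Γ' : Subgroup Γ, Limits.IsZero (groupCohomology (Rep.res Γ'.subtype Λ) 1))
    (X : Type) [MulAction Γ X] (E : ShortComplex (Rep k Γ)) (hE : E.ShortExact)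
    (α : E.X₁ ≅ Λ) (β : E.X₃ ≅ Rep.ofMulAction k Γ X) : Nonempty E.Splitting := by
  have hinj : Function.Injective E.f.hom := (Rep.mono_iff_injective E.f).1 hE.mono_f
  have hsurj : Function.Surjective E.g.hom := (Rep.epi_iff_surjective E.g).1 hE.epi_g
  have hzero : ∀ l : E.X₁.V, E.g.hom (E.f.hom l) = 0 := by
    intro l
    have h := E.zero
    have : (E.f ≫ E.g).hom l = 0 := by rw [h]; rfl
    exact this
  have hex : ∀ v : E.X₂.V, E.g.hom v = 0 → ∃ l : E.X₁.V, E.f.hom l = v := by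
    have h1 := hE.exact.map (forget₂ (Rep k Γ) (ModuleCat k))
    rw [ShortComplex.moduleCat_exact_iff] at h1
    intro v hv
    exact h1 v hv
  let F : X → Set E.X₂.V := fun x =>
    {v | E.g.hom v = β.inv.hom (MonoidAlgebra.single x 1) ∧ ∀ γ : Γ, γ • x = x → E.X₂.ρ γ v = v}
  have hne : ∀ x, (F x).Nonempty := by
    intro x
    obtain ⟨v₀, hv₀⟩ := hsurj (β.inv.hom (MonoidAlgebra.single x 1))
    have hker : ∀ γ : MulAction.stabilizer Γ x, E.g.hom (E.X₂.ρ γ v₀ - v₀) = 0 := by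
      intro γ
      have hγ : (γ : Γ) • x = x := γ.2
      rw [map_sub, Rep.hom_comm_apply, hv₀, ← Rep.hom_comm_apply]
      simp [hγ]
    choose l hl using fun γ : MulAction.stabilizer Γ x => hex _ (hker γ)
    have hcoc : ∀ g h : MulAction.stabilizer Γ x,
        l (g * h) = E.X₁.ρ (g : Γ) (l h) + l g := by
      intro g h
      apply hinj
      rw [map_add, Rep.hom_comm_apply, hl, hl, hl]
      simp [map_mul]
    obtain ⟨a, ha⟩ := (isZero_H1_iff _).1 (hH (MulAction.stabilizer Γ x))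
      (fun γ => α.hom.hom (l γ)) (by
        intro g h
        show α.hom.hom (l (g * h)) = Λ.ρ (g : Γ) (α.hom.hom (l h)) + α.hom.hom (l g)
        rw [hcoc, map_add, Rep.hom_comm_apply])
    have ha' : ∀ γ : MulAction.stabilizer Γ x,
        l γ = E.X₁.ρ (γ : Γ) (α.inv.hom a) - α.inv.hom a := by
      intro γ
      have h1 : α.hom.hom (l γ) = Λ.ρ (γ : Γ) a - a := ha γ
      have h2 : l γ = α.inv.hom (α.hom.hom (l γ)) := (Rep.inv_hom_apply _ _ α (l γ)).symm
      rw [h2, h1, map_sub, Rep.hom_comm_apply]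
    refine ⟨v₀ - E.f.hom (α.inv.hom a), ?_, ?_⟩
    · rw [map_sub, hzero, sub_zero, hv₀]
    · intro γ hγ
      have h3 := hl ⟨γ, hγ⟩
      have h4 := ha' ⟨γ, hγ⟩
      simp only at h3 h4
      rw [map_sub, ← Rep.hom_comm_apply]
      have h5 : E.X₂.ρ γ v₀ = v₀ + E.f.hom (l ⟨γ, hγ⟩) := by rw [h3]; abel
      rw [h5, h4, map_sub]
      abel
  have hact : ∀ (γ : Γ) (x : X) (v : E.X₂.V), v ∈ F x → E.X₂.ρ γ v ∈ F (γ • x) := by
    rintro γ x v ⟨h1, h2⟩
    refine ⟨?_, fun δ hδ => ?_⟩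
    · rw [Rep.hom_comm_apply, h1, ← Rep.hom_comm_apply]
      simp
    · have h3 : (γ⁻¹ * δ * γ) • x = x := by
        rw [mul_smul, mul_smul, hδ, inv_smul_smul]
      have h4 := h2 _ h3
      calc E.X₂.ρ δ (E.X₂.ρ γ v) = E.X₂.ρ (γ * (γ⁻¹ * δ * γ)) v := by
            rw [← Module.End.mul_apply, ← map_mul]
            congr 2
            group
        _ = E.X₂.ρ γ (E.X₂.ρ (γ⁻¹ * δ * γ) v) := by
            rw [map_mul, Module.End.mul_apply]
        _ = E.X₂.ρ γ v := by rw [h4]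
  obtain ⟨e, he1, he2⟩ := exists_equivariant_choice (fun γ v => E.X₂.ρ γ v)
    (fun a b v => by simp [map_mul]) F hne hact (fun x v hv γ hγ => hv.2 γ hγ)
  have hsg : permLift E.X₂ e he2 ≫ E.g = β.inv := by
    apply perm_hom_ext
    intro x
    rw [Rep.comp_apply]
    have := permLift_single E.X₂ e he2 x
    rw [this]
    exact (he1 x).1
  refine ⟨ShortComplex.Splitting.ofExactOfSection E hE.exact (β.hom ≫ permLift E.X₂ e he2) ?_
    hE.mono_f⟩
  rw [Category.assoc, hsg, Iso.hom_inv_id]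

theorem backward {Γ : Type} [Group Γ] [Finite Γ] (Λ : Rep k Γ)
    (hs : ∀ (X : Type) [MulAction Γ X] [Finite X] (E : ShortComplex (Rep k Γ)),
        E.ShortExact → Nonempty (E.X₁ ≅ Λ) → Nonempty (E.X₃ ≅ Rep.ofMulAction k Γ X) →
          Nonempty E.Splitting)
    (Γ' : Subgroup Γ) : Limits.IsZero (groupCohomology (Rep.res Γ'.subtype Λ) 1) := by
  classical
  rw [isZero_H1_iff]
  intro f hf
  let c : Γ → Λ.V := fun γ => if h : γ ∈ Γ' then f ⟨γ, h⟩ else 0
  have hc : ∀ a ∈ Γ', ∀ b ∈ Γ', c (a * b) = Λ.ρ a (c b) + c a := by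
    intro a ha b hb
    simp only [c, dif_pos ha, dif_pos hb, dif_pos (Γ'.mul_mem ha hb)]
    exact hf ⟨a, ha⟩ ⟨b, hb⟩
  obtain ⟨σ⟩ := hs (Γ ⧸ Γ') (twistSC Λ Γ' c hc) (twistSC_shortExact Λ Γ' c hc)
    ⟨Iso.refl _⟩ ⟨Iso.refl _⟩
  obtain ⟨x₀, hx₀⟩ : ∃ x₀ : Γ ⧸ Γ', x₀ = ((1 : Γ) : Γ ⧸ Γ') := ⟨_, rfl⟩
  obtain ⟨w, hw⟩ : ∃ w : Λ.V × MonoidAlgebra k (Γ ⧸ Γ'),
      w = σ.s.hom (MonoidAlgebra.single x₀ 1) := ⟨_, rfl⟩
  have hw2 : w.2 = MonoidAlgebra.single x₀ 1 := by
    have := congrArg (fun φ => φ.hom (MonoidAlgebra.single x₀ 1)) σ.s_g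
    simp only [Rep.comp_apply] at this
    rw [hw]
    exact this
  refine ⟨-w.1, fun γ => ?_⟩
  have hγ : (γ : Γ) • x₀ = x₀ := by
    rw [hx₀, MulAction.Quotient.smul_mk, smul_eq_mul, mul_one]
    rw [QuotientGroup.eq]
    simp
  have h1 : twistRep Λ Γ' c hc γ w = w := by
    have := Rep.hom_comm_apply σ.s (γ : Γ) (MonoidAlgebra.single x₀ 1)
    have h0 : ((twistSC Λ Γ' c hc).X₃.ρ ↑γ) (MonoidAlgebra.single x₀ 1) =
        MonoidAlgebra.single x₀ 1 := by
      show Representation.ofMulAction k Γ (Γ ⧸ Γ') γ (MonoidAlgebra.single x₀ 1) = _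
      simp [hγ]
    rw [h0] at this
    rw [hw]
    exact this.symm
  have h2 := congrArg Prod.fst h1
  obtain ⟨w1, w2⟩ := w
  simp only at hw2
  rw [twistRep_apply] at h2
  simp only at h2
  have hchat : chat Λ Γ' c (γ : Γ) x₀ = f γ := by
    simp only [chat, hh]
    rw [hγ, hx₀, sec_one]
    simp [c, γ.2]
  rw [hw2, TT, basisLift_single, one_smul, hchat] at h2
  show f γ = Λ.ρ (γ : Γ) (-w1) - (-w1)
  have h3 : f γ = w1 - Λ.ρ (γ : Γ) w1 := eq_sub_of_add_eq (by rw [add_comm]; exact h2)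
  rw [map_neg, h3]
  abel

theorem main (Γ : Type) [Group Γ] [Finite Γ] (Λ : Rep ℤ Γ) :
    (∀ Γ' : Subgroup Γ, Limits.IsZero (groupCohomology (Rep.res Γ'.subtype Λ) 1)) ↔
      ∀ (X : Type) [MulAction Γ X] [Finite X] (E : ShortComplex (Rep ℤ Γ)),
        E.ShortExact → Nonempty (E.X₁ ≅ Λ) → Nonempty (E.X₃ ≅ Rep.ofMulAction ℤ Γ X) →
          Nonempty E.Splitting := by
  constructor
  · intro hH X _ _ E hE ⟨α⟩ ⟨β⟩
    exact forward Λ hH X E hE α β
  · intro hs Γ'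
    exact backward Λ hs Γ'

end Groth.Agent.Helper8.GalLat
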