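import Mathlib

set_option autoImplicit false
open BigOperators

namespace Groth.Agent.Helper8.GaussJacobi

variable {F : Type} [Field F] [Fintype F] [DecidableEq F] {R : Type} [CommRing R] [IsDomain R]

/-- `T φ s = Σ_{y : Σ y = s} ∏ φ i (y i)` -/
noncomputable def TT {N : ℕ} (φ : Fin N → MulChar F R) (s : F) : R :=
  ∑ y ∈ (Finset.univ : Finset (Fin N → F)).filter (fun y => ∑ i, y i = s), ∏ i, φ i (y i)

lemma units_sum_eq {N : ℕ} (φ : Fin N → MulChar F R) (s : F) :
    ∑ x ∈ (Finset.univ : Finset (Fin N → Fˣ)).filter (fun x => ∑ i, ((x i : Fˣ) : F) = s),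
      ∏ i, φ i ((x i : Fˣ) : F) = TT φ s := by
  unfold TT
  apply Finset.sum_of_injOn (fun x i => ((x i : Fˣ) : F))
  · intro x _ x' _ hxx'
    funext i
    exact Units.ext (congrFun hxx' i)
  · intro x hx
    simp only [Finset.coe_filter, Finset.mem_univ, true_and, Set.mem_setOf_eq] at hx ⊢
    exact hx
  · intro y hy hnot
    have hex : ∃ i, y i = 0 := by
      by_contra hall
      push Not at hall
      apply hnot
      refine ⟨fun i => Units.mk0 (y i) (hall i), ?_, ?_⟩
      · simp only [Finset.coe_filter, Finset.mem_univ, true_and, Set.mem_setOf_eq, Units.val_mk0]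
        exact (Finset.mem_filter.1 hy).2
      · funext i; rfl
    obtain ⟨i, hi⟩ := hex
    exact Finset.prod_eq_zero (Finset.mem_univ i) (by rw [hi, MulChar.map_zero])
  · intro x _; rfl

lemma TT_smul {N : ℕ} (φ : Fin N → MulChar F R) (c : F) (hc : c ≠ 0) (s : F) :
    TT φ (c * s) = (∏ i, φ i c) * TT φ s := by
  unfold TT
  rw [Finset.mul_sum]
  symm
  apply Finset.sum_nbij' (fun y i => c * y i) (fun y i => c⁻¹ * y i)
  · intro y hy
    simp only [Finset.mem_filter, Finset.mem_univ, true_and] at hy ⊢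
    rw [← Finset.mul_sum, hy]
  · intro y hy
    simp only [Finset.mem_filter, Finset.mem_univ, true_and] at hy ⊢
    rw [← Finset.mul_sum, hy, inv_mul_cancel_left₀ hc]
  · intro y _; funext i; exact inv_mul_cancel_left₀ hc _
  · intro y _; funext i; exact mul_inv_cancel_left₀ hc _
  · intro y _
    rw [← Finset.prod_mul_distrib]
    apply Finset.prod_congr rfl
    intro i _
    rw [map_mul]

lemma mulChar_prod_apply {ι : Type*} (s : Finset ι) (φ : ι → MulChar F R) (c : F) (hc : c ≠ 0) :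
    (∏ i ∈ s, φ i) c = ∏ i ∈ s, φ i c := by
  classical
  induction s using Finset.induction_on with
  | empty =>
    rw [Finset.prod_empty, Finset.prod_empty]
    exact MulChar.one_apply (isUnit_iff_ne_zero.2 hc)
  | insert a s ha ih =>
    rw [Finset.prod_insert ha, Finset.prod_insert ha, MulChar.mul_apply, ih]

lemma addChar_map_sum {ι : Type*} (Ψ : AddChar F R) (s : Finset ι) (f : ι → F) :
    Ψ (∑ i ∈ s, f i) = ∏ i ∈ s, Ψ (f i) := by
  classical
  induction s using Finset.induction_on with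
  | empty => rw [Finset.sum_empty, Finset.prod_empty, AddChar.map_zero_eq_one]
  | insert a s ha ih =>
    rw [Finset.sum_insert ha, Finset.prod_insert ha, AddChar.map_add_eq_mul, ih]

lemma prod_gauss {N : ℕ} (φ : Fin N → MulChar F R) (Ψ : AddChar F R) :
    ∏ i, (∑ y : F, Ψ y * φ i y) = ∑ s : F, Ψ s * TT φ s := by
  rw [Finset.prod_univ_sum, Fintype.piFinset_univ,
    ← Finset.sum_fiberwise Finset.univ (fun y : Fin N → F => ∑ i, y i)]
  apply Finset.sum_congr rfl
  intro s _
  unfold TT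
  rw [Finset.mul_sum]
  apply Finset.sum_congr rfl
  intro y hy
  rw [Finset.prod_mul_distrib, ← addChar_map_sum, (Finset.mem_filter.1 hy).2]

lemma prod_sum_eq {N : ℕ} (φ : Fin N → MulChar F R) :
    ∏ i, (∑ y : F, φ i y) = ∑ s : F, TT φ s := by
  rw [Finset.prod_univ_sum, Fintype.piFinset_univ,
    ← Finset.sum_fiberwise Finset.univ (fun y : Fin N → F => ∑ i, y i)]
  rfl

lemma prod_zero {N : ℕ} (hN : 1 ≤ N) (φ : Fin N → MulChar F R) : ∏ i, φ i (0 : F) = 0 :=
  Finset.prod_eq_zero (Finset.mem_univ (⟨0, hN⟩ : Fin N)) (MulChar.map_zero _)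

/-- weighted sums of `T` -/
lemma sum_weight_TT {N : ℕ} (hN : 1 ≤ N) (φ : Fin N → MulChar F R) (u : F → R) (hu : u 0 = 1) :
    ∑ s : F, u s * TT φ s = TT φ 0 + TT φ 1 * ∑ s : F, u s * ∏ i, φ i s := by
  have hpt : ∀ s : F, u s * TT φ s =
      (if s = 0 then TT φ 0 else 0) + TT φ 1 * (u s * ∏ i, φ i s) := by
    intro s
    by_cases hs : s = 0
    · subst hs
      rw [if_pos rfl, hu, prod_zero hN, mul_zero, mul_zero, add_zero, one_mul]
    · rw [if_neg hs, zero_add]
      have := TT_smul φ s hs 1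
      rw [mul_one] at this
      rw [this]; ring
  rw [Finset.sum_congr rfl (fun s _ => hpt s), Finset.sum_add_distrib, Finset.sum_ite_eq',
    if_pos (Finset.mem_univ _), Finset.mul_sum]

/-- sums against a function which is `0` at `0` and `1` elsewhere -/
lemma sum_mul_indicator (u : F → R) (f : F → R) (hf0 : f 0 = 0) (hf : ∀ s, s ≠ 0 → f s = 1) :
    ∑ s : F, u s * f s = ∑ s : F, u s - u 0 := by
  have hpt : ∀ s : F, u s * f s = u s - (if s = 0 then u 0 else 0) := by
    intro s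
    by_cases hs : s = 0
    · subst hs; rw [if_pos rfl, hf0, mul_zero, sub_self]
    · rw [if_neg hs, hf s hs, mul_one, sub_zero]
  rw [Finset.sum_congr rfl (fun s _ => hpt s), Finset.sum_sub_distrib, Finset.sum_ite_eq',
    if_pos (Finset.mem_univ _)]

theorem main (M : ℕ) (ψ : Fin (M + 1 + 1) → MulChar F R) (hprod : ∏ i, ψ i = 1)
    (hnt : ∃ i, ψ i ≠ 1) (Ψ : AddChar F R) (hΨ : Ψ ≠ 1) :
    (Fintype.card F : R) * ((-1) ^ M *
        ∑ x ∈ (Finset.univ : Finset (Fin (M + 1) → Fˣ)).filter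
            (fun x => ∑ i, ((x i : Fˣ) : F) = -1),
          ∏ i : Fin (M + 1), (ψ i.succ) ((x i : Fˣ) : F)) =
      ∏ i : Fin (M + 1 + 1), (-(∑ y : F, Ψ y * (ψ i) y)) := by
  have hN : 1 ≤ M + 1 := by omega
  obtain ⟨φ, hφ⟩ : ∃ φ : Fin (M + 1) → MulChar F R, φ = fun i => ψ i.succ := ⟨_, rfl⟩
  have hφ' : ∀ i, ψ i.succ = φ i := fun i => by rw [hφ]
  simp only [hφ']
  rw [units_sum_eq φ (-1), Fin.prod_univ_succ]
  simp only [hφ']
  rw [Finset.prod_neg, Finset.card_univ, Fintype.card_fin, prod_gauss,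
    sum_weight_TT hN φ Ψ (AddChar.map_zero_eq_one Ψ)]
  -- notation
  obtain ⟨Pf, hPf⟩ : ∃ Pf : F → R, Pf = fun c => ∏ i, φ i c := ⟨_, rfl⟩
  have hPf' : ∀ c, ∏ i, φ i c = Pf c := fun c => by rw [hPf]
  simp only [hPf']
  have hP : ∀ c : F, c ≠ 0 → ψ 0 c * Pf c = 1 := by
    intro c hc
    have h1 : (∏ i, ψ i) c = (1 : MulChar F R) c := by rw [hprod]
    rw [mulChar_prod_apply _ _ c hc, Fin.prod_univ_succ,
      MulChar.one_apply (isUnit_iff_ne_zero.2 hc)] at h1
    simp only [hφ', hPf'] at h1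
    exact h1
  have hPmul : ∀ a b : F, Pf (a * b) = Pf a * Pf b := by
    intro a b
    rw [hPf]
    simp only [map_mul]
    exact Finset.prod_mul_distrib
  have hP1 : Pf 1 = 1 := by rw [hPf]; simp
  have hP0 : Pf 0 = 0 := by rw [← hPf']; exact prod_zero hN φ
  have hsq : Pf (-1) * Pf (-1) = 1 := by rw [← hPmul, neg_mul_neg, one_mul, hP1]
  have hTm1 : TT φ (-1) = Pf (-1) * TT φ 1 := by
    have := TT_smul φ (-1) (neg_ne_zero.2 one_ne_zero) 1
    rw [mul_one, hPf'] at this
    exact this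
  rw [hTm1]
  by_cases h0 : ψ 0 = 1
  · -- trivial ψ 0
    have hPone : ∀ c : F, c ≠ 0 → Pf c = 1 := by
      intro c hc
      have := hP c hc
      rwa [h0, MulChar.one_apply (isUnit_iff_ne_zero.2 hc), one_mul] at this
    have hsumΨ : ∑ s : F, Ψ s = 0 := AddChar.sum_eq_zero_of_ne_one hΨ
    have hG : ∑ y : F, Ψ y * ψ 0 y = -1 := by
      rw [sum_mul_indicator Ψ (fun y => ψ 0 y) (MulChar.map_zero _)
        (fun s hs => by rw [h0]; exact MulChar.one_apply (isUnit_iff_ne_zero.2 hs)), hsumΨ,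
        AddChar.map_zero_eq_one, zero_sub]
    have hG' : ∑ s : F, Ψ s * Pf s = -1 := by
      rw [sum_mul_indicator Ψ Pf hP0 hPone, hsumΨ, AddChar.map_zero_eq_one, zero_sub]
    -- sum of all T vanishes
    have hsumT : ∑ s : F, TT φ s = 0 := by
      rw [← prod_sum_eq]
      obtain ⟨j, hj⟩ := hnt
      have hj0 : j ≠ 0 := fun e => hj (e ▸ h0)
      obtain ⟨i, rfl⟩ := Fin.exists_succ_eq.2 hj0
      rw [hφ' i] at hj
      exact Finset.prod_eq_zero (Finset.mem_univ i) (MulChar.sum_eq_zero_of_ne_one hj)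
    have hsumT' : TT φ 0 + TT φ 1 * ((Fintype.card F : R) - 1) = 0 := by
      have h1 := sum_weight_TT hN φ (fun _ => (1 : R)) rfl
      simp only [one_mul, hPf'] at h1
      rw [hsumT] at h1
      have h2 : ∑ s : F, Pf s = (Fintype.card F : R) - 1 := by
        have h3 := sum_mul_indicator (fun _ : F => (1 : R)) Pf hP0 hPone
        simp only [one_mul, Finset.sum_const, Finset.card_univ, nsmul_eq_mul, mul_one] at h3
        exact h3
      rw [h2] at h1
      exact h1.symm
    rw [hG, hG', hPone (-1) (neg_ne_zero.2 one_ne_zero)]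
    linear_combination ((-1) ^ M) * hsumT'
  · -- nontrivial ψ 0
    obtain ⟨a, ha⟩ := MulChar.ne_one_iff.1 h0
    have ha0 : (a : F) ≠ 0 := a.ne_zero
    have hT0 : TT φ 0 = 0 := by
      have h1 := TT_smul φ (a : F) ha0 0
      rw [mul_zero, hPf'] at h1
      have h2 : (1 - Pf a) * TT φ 0 = 0 := by linear_combination h1
      rcases mul_eq_zero.1 h2 with h3 | h3
      · exfalso
        apply ha
        have h4 := hP a ha0
        have h5 : Pf a = 1 := by linear_combination -h3
        rwa [h5, mul_one] at h4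
      · exact h3
    have hinv : ∀ c : F, (ψ 0)⁻¹ c = Pf c := by
      intro c
      by_cases hc : c = 0
      · subst hc; rw [MulChar.map_zero, hP0]
      · have h1 : ψ 0 c * (ψ 0)⁻¹ c = 1 := by
          rw [← MulChar.mul_apply, mul_inv_cancel, MulChar.one_apply (isUnit_iff_ne_zero.2 hc)]
        have h2 := hP c hc
        have hne : ψ 0 c ≠ 0 := by
          intro h3; rw [h3, zero_mul] at h2; exact zero_ne_one h2
        exact mul_left_cancel₀ hne (h1.trans h2.symm)
    have hg := gaussSum_mul_gaussSum_eq_card h0 (AddChar.IsPrimitive.of_ne_one hΨ)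
    have hg1 : gaussSum (ψ 0) Ψ = ∑ y : F, Ψ y * ψ 0 y := by
      unfold gaussSum
      exact Finset.sum_congr rfl (fun y _ => mul_comm _ _)
    have hg2 : gaussSum (ψ 0)⁻¹ Ψ⁻¹ = Pf (-1) * ∑ s : F, Ψ s * Pf s := by
      unfold gaussSum
      rw [← Equiv.sum_comp (Equiv.neg F), Finset.mul_sum]
      apply Finset.sum_congr rfl
      intro b _
      rw [Equiv.neg_apply, hinv, AddChar.inv_apply, neg_neg, ← neg_one_mul b, hPmul]
      ring
    rw [hg1, hg2] at hg
    rw [hT0, ← hg]
    linear_combination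
      ((-1) ^ M * TT φ 1 * (∑ y : F, Ψ y * ψ 0 y) * (∑ s : F, Ψ s * Pf s)) * hsq

end Groth.Agent.Helper8.GaussJacobi
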