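import Mathlib
import Groth.Prelude
import Groth.Agent.Helper8.DHomB

/-!
# Schematic density of the generic fibre of a flat scheme over a domain, and an application to
group schemes whose generic fibre is killed by a power of the characteristic
-/

set_option autoImplicit false
set_option linter.unusedSectionVars false
set_option linter.style.haveILetI false
set_option linter.unusedVariables false

universe u

open CategoryTheory CategoryTheory.Limits MonoidalCategory CartesianMonoidalCategory MonObj
  AlgebraicGeometry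

noncomputable section

namespace Groth.Agent.Helper8.GenDense

open Groth.Agent.Helper8.DSPts Groth.Agent.Helper8.DHomB

section Pow

variable {S S' : Scheme.{u}} (g : S' ⟶ S) {X G : Over S} [GrpObj G]

theorem map_pow' (x : X ⟶ G) (n : ℕ) :
    (Over.pullback g).map (x ^ n) = ((Over.pullback g).map x) ^ n := by
  induction n with
  | zero =>
    rw [pow_zero, pow_zero]
    exact Functor.map_one (Over.pullback g)
  | succ n ih => rw [pow_succ, pow_succ, Functor.map_mul, ih]

end Pow

section Dense

variable (R : Type u) [CommRing R] [IsDomain R]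

theorem genPt_schDom : IsSchemeTheoreticallyDominant (Neron.genPt R) := by
  haveI : IsDominant (Neron.genPt R) := by
    constructor
    have h : DenseRange (PrimeSpectrum.comap (algebraMap R (FractionRing R))) := by
      rw [PrimeSpectrum.denseRange_comap_iff_ker_le_nilRadical,
        (RingHom.injective_iff_ker_eq_bot _).mp (IsFractionRing.injective R (FractionRing R))]
      exact bot_le
    exact h
  exact IsSchemeTheoreticallyDominant.of_isDominant _

variable {R}

/-- two morphisms from a flat to a separated `R`-scheme which agree on the generic fibre are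
equal -/
theorem eq_of_comp_eq {U X : Over (Spec (CommRingCat.of R))} [Flat U.hom] [IsSeparated X.hom]
    (a b : U ⟶ X)
    (h : pullback.fst U.hom (Neron.genPt R) ≫ a.left =
      pullback.fst U.hom (Neron.genPt R) ≫ b.left) : a = b := by
  haveI := genPt_schDom R
  haveI : QuasiCompact (Neron.genPt R) := inferInstance
  let j := pullback.fst U.hom (Neron.genPt R)
  haveI : IsSchemeTheoreticallyDominant j := inferInstance
  let E : Over (Spec (CommRingCat.of R)) := Over.mk (j ≫ U.hom)
  let ε : E ⟶ U := Over.homMk j rfl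
  have hε : ε ≫ a = ε ≫ b := Over.OverMorphism.ext h
  let e := equalizer.ι a b
  haveI : IsClosedImmersion e.left := inferInstance
  let l : E ⟶ equalizer a b := equalizer.lift ε hε
  have hl : l ≫ e = ε := equalizer.lift_ι ε hε
  have hker : e.left.ker = ⊥ := by
    have h1 : e.left.ker ≤ (l.left ≫ e.left).ker := Scheme.Hom.le_ker_comp l.left e.left
    have h2 : l.left ≫ e.left = j := by
      rw [← Over.comp_left, hl]
      rfl
    rw [h2, Scheme.Hom.ker_eq_bot j] at h1
    exact le_bot_iff.mp h1
  haveI : IsIso e.left := IsClosedImmersion.isIso_iff_ker_eq_bot.mpr hker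
  have h3 : e.left ≫ a.left = e.left ≫ b.left := by
    rw [← Over.comp_left, ← Over.comp_left, equalizer.condition]
  exact Over.OverMorphism.ext ((cancel_epi e.left).mp h3)

end Dense

section Main

variable (R : Type u) [CommRing R] [IsDomain R]

theorem main (p : ℕ) (hp : p.Prime) [CharP (FractionRing R) p]
    (U : Over (Spec (CommRingCat.of R))) [GrpObj U] [Flat U.hom] [IsSeparated U.hom]
    (N : ℕ)
    (hN : (𝟙 (Red.bc (Neron.genPt R) U) :
      Red.bc (Neron.genPt R) U ⟶ Red.bc (Neron.genPt R) U) ^ (p ^ N) = 1)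
    (ℓ : ℕ) (hℓ : ℓ.Prime) (hℓu : IsUnit (ℓ : R)) : IsIso ((𝟙 U : U ⟶ U) ^ ℓ) := by
  let g := Neron.genPt R
  let x : U ⟶ U := 𝟙 U
  -- the power map is trivial on `U`
  have h1 : x ^ (p ^ N) = 1 := by
    apply eq_of_comp_eq
    have h2 : (Over.pullback g).map (x ^ (p ^ N)) = (Over.pullback g).map 1 := by
      rw [map_pow', Functor.map_one]
      change ((Over.pullback g).map (𝟙 U)) ^ (p ^ N) = 1
      rw [CategoryTheory.Functor.map_id]
      exact hN
    have h3 := adjPt_map g (x ^ (p ^ N)) (𝟙 (Red.bc g U))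
    have h4 := adjPt_map g (1 : U ⟶ U) (𝟙 (Red.bc g U))
    rw [h2] at h3
    have h5 : adjPt g U (𝟙 _) ≫ x ^ (p ^ N) = adjPt g U (𝟙 _) ≫ 1 := h3.symm.trans h4
    have h6 := congrArg (fun z => z.left) h5
    simp only [Over.comp_left, adjPt_left, Over.id_left, Category.id_comp] at h6
    exact h6
  -- coprimality
  have hne : ℓ ≠ p := by
    intro h
    have hp0 : ((p : ℕ) : FractionRing R) = 0 := CharP.cast_eq_zero _ p
    rw [← h] at hp0
    have h0 : ((ℓ : ℕ) : R) = 0 := by
      apply IsFractionRing.injective R (FractionRing R)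
      rw [map_natCast, hp0, map_zero]
    rw [h0] at hℓu
    exact not_isUnit_zero hℓu
  have hcop : Nat.Coprime ℓ (p ^ N) :=
    Nat.Coprime.pow_right N ((Nat.coprime_primes hℓ hp).mpr hne)
  let a : ℤ := Nat.gcdA ℓ (p ^ N)
  let b : ℤ := Nat.gcdB ℓ (p ^ N)
  have hb : (ℓ : ℤ) * a + ((p ^ N : ℕ) : ℤ) * b = 1 := by
    have h := Nat.gcd_eq_gcd_ab ℓ (p ^ N)
    rw [hcop.gcd_eq_one] at h
    exact_mod_cast h.symm
  have hx : x ^ ((ℓ : ℤ) * a) = x := by
    have h : (ℓ : ℤ) * a = 1 - ((p ^ N : ℕ) : ℤ) * b := by linarith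
    rw [h, zpow_sub, zpow_one, zpow_mul, zpow_natCast, h1, one_zpow, inv_one, _root_.mul_one]
  refine ⟨x ^ a, ?_, ?_⟩
  · rw [GrpObj.comp_zpow]
    change ((x ^ ℓ) ≫ 𝟙 U) ^ a = 𝟙 U
    rw [Category.comp_id, ← zpow_natCast, ← zpow_mul, hx]
  · rw [MonObj.comp_pow]
    change ((x ^ a) ≫ 𝟙 U) ^ ℓ = 𝟙 U
    rw [Category.comp_id, ← zpow_natCast, ← zpow_mul, Int.mul_comm, hx]

end Main

end Groth.Agent.Helper8.GenDense
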