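import Mathlib

namespace Groth.Agent.Helper8.GenFP

open Submodule

/-- If `e` is a linearly independent family in `S` over `P` such that every element of `S` is
carried into the span of `e` by a power of `g`, then `S_g` is finitely presented over `P`. -/
theorem final {P S : Type*} [CommRing P] [CommRing S] [Algebra P S]
    {ι : Type*} [Finite ι] (e : ι → S) (he : LinearIndependent P e) (g : P)
    (hspan : ∀ s : S, ∃ m : ℕ, g ^ m • s ∈ Submodule.span P (Set.range e))
    (Sg : Type*) [CommRing Sg] [Algebra S Sg] [Algebra P Sg] [IsScalarTower P S Sg]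
    [IsLocalization.Away (algebraMap P S g) Sg] : Algebra.FinitePresentation P Sg := by
  classical
  let Pg := Localization.Away g
  have hu : IsUnit (algebraMap P Sg g) := by
    rw [IsScalarTower.algebraMap_apply P S Sg]
    exact IsLocalization.Away.algebraMap_isUnit _
  letI : Algebra Pg Sg := (IsLocalization.Away.lift g hu).toAlgebra
  haveI : IsScalarTower P Pg Sg := IsScalarTower.of_algebraMap_eq fun x => by
    rw [RingHom.algebraMap_toAlgebra, IsLocalization.Away.lift_eq]
  let f : S →ₗ[P] Sg := (IsScalarTower.toAlgHom P S Sg).toLinearMap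
  haveI : IsLocalization (Algebra.algebraMapSubmonoid S (Submonoid.powers g)) Sg := by
    have : Algebra.algebraMapSubmonoid S (Submonoid.powers g)
        = Submonoid.powers (algebraMap P S g) := by
      simp [Algebra.algebraMapSubmonoid, Submonoid.map_powers]
    rw [this]; infer_instance
  haveI : IsLocalizedModule (Submonoid.powers g) f := isLocalizedModule_iff_isLocalization.mpr ‹_›
  have hli : LinearIndependent Pg (f ∘ e) :=
    LinearIndependent.of_isLocalizedModule Pg (Submonoid.powers g) f he
  have hsp : ⊤ ≤ Submodule.span Pg (Set.range (f ∘ e)) := by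
    intro x _
    obtain ⟨⟨s, ⟨_, k, rfl⟩⟩, hx⟩ := IsLocalization.surj (Submonoid.powers (algebraMap P S g)) x
    obtain ⟨m, hm⟩ := hspan s
    have h1 : f (g ^ m • s) ∈ Submodule.span Pg (Set.range (f ∘ e)) := by
      have : f (g ^ m • s) ∈ (Submodule.span P (Set.range e)).map f := Submodule.mem_map_of_mem hm
      rw [Submodule.map_span, ← Set.range_comp] at this
      exact Submodule.span_subset_span P Pg _ this
    have hu' : IsUnit (algebraMap P Pg g ^ (k + m)) :=
      (IsLocalization.Away.algebraMap_isUnit g).pow _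
    rw [← Submodule.smul_mem_iff_of_isUnit _ hu']
    convert h1 using 1
    simp only at hx
    rw [← map_pow, algebraMap_smul, map_smul]
    change _ = g ^ m • algebraMap S Sg s
    rw [← hx, pow_add, mul_smul, Algebra.smul_def (g ^ k), map_pow, map_pow,
      IsScalarTower.algebraMap_apply P S Sg, mul_comm x]
    rw [mul_smul_comm]
  let b : Module.Basis ι Pg Sg := Module.Basis.mk hli hsp
  haveI : Module.Finite Pg Sg := Module.Finite.of_basis b
  haveI : Module.Free Pg Sg := Module.Free.of_basis b
  haveI : Module.FinitePresentation Pg Sg := Module.finitePresentation_of_projective Pg Sg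
  haveI : Algebra.FinitePresentation Pg Sg := inferInstance
  haveI : Algebra.FinitePresentation P Pg := IsLocalization.Away.finitePresentation g
  exact Algebra.FinitePresentation.trans P Pg Sg


open MvPolynomial

theorem lemmaA {R S K L : Type*} [CommRing R] [IsDomain R] [CommRing S] [Algebra R S]
    [Field K] [Algebra R K] [IsFractionRing R K] [CommRing L] [Algebra S L] [Algebra R L]
    [Algebra K L] [IsScalarTower R K L] [IsScalarTower R S L] (t : L)
    (ht : t ∈ Algebra.adjoin K (Set.range (algebraMap S L))) :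
    ∃ r : R, r ≠ 0 ∧ ∃ s : S, r • t = algebraMap S L s := by
  induction ht using Algebra.adjoin_induction with
  | mem x hx =>
    obtain ⟨s, rfl⟩ := hx
    exact ⟨1, one_ne_zero, s, one_smul _ _⟩
  | algebraMap k =>
    obtain ⟨a, b, hb, rfl⟩ := IsFractionRing.div_surjective (A := R) k
    have hb0 : b ≠ 0 := nonZeroDivisors.ne_zero hb
    have hb' : algebraMap R K b ≠ 0 := by
      simpa using (IsFractionRing.injective R K).ne hb0
    refine ⟨b, hb0, algebraMap R S a, ?_⟩
    rw [← IsScalarTower.algebraMap_apply R S L, IsScalarTower.algebraMap_apply R K L,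
      ← algebraMap_smul K b, Algebra.smul_def, ← map_mul, mul_div_cancel₀ _ hb']
  | add x y hx hy ihx ihy =>
    obtain ⟨r₁, hr₁, s₁, h₁⟩ := ihx
    obtain ⟨r₂, hr₂, s₂, h₂⟩ := ihy
    refine ⟨r₁ * r₂, mul_ne_zero hr₁ hr₂, r₂ • s₁ + r₁ • s₂, ?_⟩
    rw [map_add, Algebra.smul_def r₂, Algebra.smul_def r₁, map_mul, map_mul, ← h₁, ← h₂,
      ← IsScalarTower.algebraMap_apply R S L, ← IsScalarTower.algebraMap_apply R S L]
    simp only [Algebra.smul_def, map_mul]
    ring
  | mul x y hx hy ihx ihy =>
    obtain ⟨r₁, hr₁, s₁, h₁⟩ := ihx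
    obtain ⟨r₂, hr₂, s₂, h₂⟩ := ihy
    refine ⟨r₁ * r₂, mul_ne_zero hr₁ hr₂, s₁ * s₂, ?_⟩
    rw [map_mul, ← h₁, ← h₂]
    simp only [Algebra.smul_def, map_mul]
    ring

attribute [local instance] MvPolynomial.algebraMvPolynomial in
theorem lemmaB {R K L : Type*} [CommRing R] [IsDomain R] [Field K] [Algebra R K]
    [IsFractionRing R K] [CommRing L] [Algebra R L] [Algebra K L] [IsScalarTower R K L]
    {d : ℕ} (z : Fin d → L) (x : L)
    (hx : (aeval z : MvPolynomial (Fin d) K →ₐ[K] L).toRingHom.IsIntegralElem x) :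
    ∃ c : R, c ≠ 0 ∧
      (aeval z : MvPolynomial (Fin d) R →ₐ[R] L).toRingHom.IsIntegralElem (c • x) := by
  letI : Algebra (MvPolynomial (Fin d) K) L :=
    (aeval z : MvPolynomial (Fin d) K →ₐ[K] L).toRingHom.toAlgebra
  letI : Algebra (MvPolynomial (Fin d) R) L :=
    (aeval z : MvPolynomial (Fin d) R →ₐ[R] L).toRingHom.toAlgebra
  haveI : IsScalarTower (MvPolynomial (Fin d) R) (MvPolynomial (Fin d) K) L :=
    IsScalarTower.of_algebraMap_eq fun p => by
      change aeval z p = aeval z (map (algebraMap R K) p)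
      rw [aeval_map_algebraMap]
  have hx' : IsIntegral (MvPolynomial (Fin d) K) x := hx
  obtain ⟨⟨m, hm⟩, hmx⟩ := IsIntegral.exists_multiple_integral_of_isLocalization
    (R := MvPolynomial (Fin d) R) ((nonZeroDivisors R).map (C (σ := Fin d))) x hx'
  have hm2 := hm
  obtain ⟨c, hc, hcm⟩ := hm2
  refine ⟨c, nonZeroDivisors.ne_zero hc, ?_⟩
  have : (⟨m, hm⟩ : (nonZeroDivisors R).map (C (σ := Fin d))) • x = c • x := by
    rw [Submonoid.smul_def, Algebra.smul_def, Algebra.smul_def]
    change aeval z m * x = _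
    rw [← hcm]
    change aeval z (C c) * x = _
    rw [aeval_C]
  rw [this] at hmx
  exact hmx



theorem core {R S : Type*} [CommRing R] [IsDomain R] [CommRing S] [IsDomain S] [Algebra R S]
    [Algebra.FiniteType R S] (hinj : Function.Injective (algebraMap R S)) :
    ∃ (d : ℕ) (y : Fin d → S),
      Function.Injective (aeval y : MvPolynomial (Fin d) R →ₐ[R] S) ∧
      ∀ s : S, ∃ c : R, c ≠ 0 ∧
        (aeval y : MvPolynomial (Fin d) R →ₐ[R] S).toRingHom.IsIntegralElem (c • s) := by
  classical
  let K := FractionRing R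
  let L := FractionRing S
  haveI : FaithfulSMul R S := (faithfulSMul_iff_algebraMap_injective R S).mpr hinj
  have hSL : Function.Injective (algebraMap S L) := IsFractionRing.injective S L
  haveI : FaithfulSMul R L := (faithfulSMul_iff_algebraMap_injective R L).mpr (by
    rw [IsScalarTower.algebraMap_eq R S L]
    exact hSL.comp hinj)
  letI : Algebra K L := FractionRing.liftAlgebra R L
  haveI : IsScalarTower R K L := FractionRing.isScalarTower_liftAlgebra R L
  let T : Subalgebra K L := Algebra.adjoin K (Set.range (algebraMap S L))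
  obtain ⟨t, ht⟩ := (Algebra.FiniteType.out : (⊤ : Subalgebra R S).FG)
  have hT : T = Algebra.adjoin K ((algebraMap S L) '' (t : Set S)) := by
    apply le_antisymm
    · apply Algebra.adjoin_le
      rintro _ ⟨s, rfl⟩
      have hs : s ∈ Algebra.adjoin R (t : Set S) := by rw [ht]; trivial
      induction hs using Algebra.adjoin_induction with
      | mem x hx => exact Algebra.subset_adjoin ⟨x, hx, rfl⟩
      | algebraMap r =>
        rw [← IsScalarTower.algebraMap_apply R S L, IsScalarTower.algebraMap_apply R K L]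
        exact Subalgebra.algebraMap_mem _ _
      | add x y _ _ hx hy => rw [map_add]; exact add_mem hx hy
      | mul x y _ _ hx hy => rw [map_mul]; exact mul_mem hx hy
    · exact Algebra.adjoin_mono (Set.image_subset_range _ _)
  haveI : Algebra.FiniteType K T := (Subalgebra.fg_iff_finiteType T).mp
    ⟨t.image (algebraMap S L), by rw [hT]; simp⟩
  obtain ⟨d, ι, hιinj, hιint⟩ := exists_integral_inj_algHom_of_fg K T
  have hA : ∀ i : Fin d, ∃ r : R, r ≠ 0 ∧ ∃ s : S, r • ((ι (X i) : T) : L) = algebraMap S L s :=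
    fun i => lemmaA (R := R) (S := S) (K := K) (L := L) _ (ι (X i)).2
  choose r hr y hy using hA
  have hrK : ∀ i, algebraMap R K (r i) ≠ 0 := fun i => by
    simpa using (IsFractionRing.injective R K).ne (hr i)
  let σ : MvPolynomial (Fin d) K →ₐ[K] MvPolynomial (Fin d) K :=
    aeval fun i => C (algebraMap R K (r i)) * X i
  let σ' : MvPolynomial (Fin d) K →ₐ[K] MvPolynomial (Fin d) K :=
    aeval fun i => C (algebraMap R K (r i))⁻¹ * X i
  have h1 : σ.comp σ' = AlgHom.id K _ := by
    apply MvPolynomial.algHom_ext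
    intro i
    simp only [σ, σ', AlgHom.comp_apply, aeval_X, map_mul, aeval_C, AlgHom.id_apply]
    rw [← mul_assoc, algebraMap_eq, ← C_mul, inv_mul_cancel₀ (hrK i), C_1, one_mul]
  have h2 : σ'.comp σ = AlgHom.id K _ := by
    apply MvPolynomial.algHom_ext
    intro i
    simp only [σ, σ', AlgHom.comp_apply, aeval_X, map_mul, aeval_C, AlgHom.id_apply]
    rw [← mul_assoc, algebraMap_eq, ← C_mul, mul_inv_cancel₀ (hrK i), C_1, one_mul]
  have hσinj : Function.Injective σ := fun a b hab => by
    have := congrArg σ' hab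
    rwa [← AlgHom.comp_apply, ← AlgHom.comp_apply, h2] at this
  have hσsurj : Function.Surjective σ := fun a => ⟨σ' a, by
    rw [← AlgHom.comp_apply, h1]; rfl⟩
  -- the new parameters
  let z' : Fin d → L := fun i => algebraMap S L (y i)
  have hz' : (aeval z' : MvPolynomial (Fin d) K →ₐ[K] L) = (T.val.comp ι).comp σ := by
    apply MvPolynomial.algHom_ext
    intro i
    simp only [σ, z', AlgHom.comp_apply, aeval_X, map_mul, aeval_C]
    rw [← hy i, ← algebraMap_eq, AlgHom.commutes, AlgHom.commutes, Algebra.smul_def,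
      IsScalarTower.algebraMap_apply R K L]
    rfl
  have hz'inj : Function.Injective (aeval z' : MvPolynomial (Fin d) K →ₐ[K] L) := by
    rw [hz']
    exact (Subtype.val_injective.comp hιinj).comp hσinj
  have hz'int : ∀ s : S, (aeval z' : MvPolynomial (Fin d) K →ₐ[K] L).toRingHom.IsIntegralElem
      (algebraMap S L s) := by
    intro s
    have hsT : algebraMap S L s ∈ T := Algebra.subset_adjoin ⟨s, rfl⟩
    obtain ⟨q, hq, hq0⟩ := hιint ⟨algebraMap S L s, hsT⟩
    refine ⟨q.map σ'.toRingHom, hq.map _, ?_⟩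
    rw [Polynomial.eval₂_map, hz']
    have key : (((T.val.comp ι).comp σ : MvPolynomial (Fin d) K →ₐ[K] L).toRingHom).comp
        σ'.toRingHom = (T.val.toRingHom).comp ι.toRingHom := by
      apply RingHom.ext
      intro a
      change T.val (ι (σ (σ' a))) = T.val (ι a)
      rw [← AlgHom.comp_apply σ σ', h1]; rfl
    rw [key]
    have h7 := Polynomial.hom_eval₂ q ι.toRingHom T.val.toRingHom ⟨algebraMap S L s, hsT⟩
    rw [hq0, map_zero] at h7
    exact h7.symm
  refine ⟨d, y, ?_, ?_⟩
  · rw [injective_iff_map_eq_zero]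
    intro p hp
    have h3 : aeval z' (map (algebraMap R K) p) = 0 := by
      rw [aeval_map_algebraMap]
      change aeval (algebraMap S L ∘ y) p = 0
      rw [aeval_algebraMap_apply, hp, map_zero]
    have h4 := (injective_iff_map_eq_zero _).mp hz'inj _ h3
    exact (injective_iff_map_eq_zero _).mp
      (MvPolynomial.map_injective _ (IsFractionRing.injective R K)) _ h4
  · intro s
    obtain ⟨c, hc, q, hq, hq0⟩ := lemmaB (R := R) (K := K) z' _ (hz'int s)
    refine ⟨c, hc, q, hq, ?_⟩
    apply hSL
    rw [map_zero]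
    have h5 : (algebraMap S L).comp (aeval y : MvPolynomial (Fin d) R →ₐ[R] S).toRingHom
        = (aeval z' : MvPolynomial (Fin d) R →ₐ[R] L).toRingHom :=
      RingHom.ext fun p => (aeval_algebraMap_apply L y p).symm
    have h6 : algebraMap S L (c • s) = c • algebraMap S L s := by
      rw [Algebra.smul_def, Algebra.smul_def, map_mul, ← IsScalarTower.algebraMap_apply]
    have h7 := Polynomial.hom_eval₂ q (aeval y : MvPolynomial (Fin d) R →ₐ[R] S).toRingHom
      (algebraMap S L) (c • s)
    rw [h5, h6, hq0] at h7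
    exact h7



universe u

theorem main {R S : Type u} [CommRing R] [IsDomain R] [CommRing S] [IsDomain S]
    [Algebra R S] [Algebra.FiniteType R S] (hinj : Function.Injective (algebraMap R S)) :
    ∃ (f : R) (g : S), f ≠ 0 ∧ g ≠ 0 ∧
      ∀ (Rf Sfg : Type u) [CommRing Rf] [CommRing Sfg] [Algebra R Rf] [IsLocalization.Away f Rf]
        [Algebra S Sfg] [IsLocalization.Away (algebraMap R S f * g) Sfg] [Algebra Rf Sfg]
        [Algebra R Sfg] [IsScalarTower R S Sfg] [IsScalarTower R Rf Sfg],
        Algebra.FinitePresentation Rf Sfg := by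
  classical
  obtain ⟨d, y, hν, hint⟩ := core hinj
  let P := MvPolynomial (Fin d) R
  let ν : P →ₐ[R] S := aeval y
  letI : Algebra P S := ν.toRingHom.toAlgebra
  haveI : IsScalarTower R P S := IsScalarTower.of_algebraMap_eq fun r => (ν.commutes r).symm
  have hCsmul : ∀ (r : R) (s : S), (C r : P) • s = r • s := fun r s => by
    rw [Algebra.smul_def, Algebra.smul_def]
    change ν (C r) * s = _
    rw [show ν (C r) = algebraMap R S r from aeval_C _ _]
  obtain ⟨t, ht⟩ := (Algebra.FiniteType.out : (⊤ : Subalgebra R S).FG)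
  choose c hc hcint using hint
  let f : R := ∏ x ∈ t, c x
  have hf : f ≠ 0 := Finset.prod_ne_zero_iff.mpr fun x _ => hc x
  let t' : Set S := (fun x => c x • x) '' (t : Set S)
  let A : Subalgebra P S := Algebra.adjoin P t'
  have hAfg : A.toSubmodule.FG := fg_adjoin_of_finite (t.finite_toSet.image _) (by
    rintro _ ⟨x, hx, rfl⟩
    exact hcint x)
  have hA : ∀ s : S, ∃ k : ℕ, (C f : P) ^ k • s ∈ A := by
    intro s
    have hs : s ∈ Algebra.adjoin R (t : Set S) := by rw [ht]; trivial
    induction hs using Algebra.adjoin_induction with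
    | mem x hx =>
      refine ⟨1, ?_⟩
      have hx' : x ∈ t := hx
      rw [pow_one, hCsmul]
      change (∏ x ∈ t, c x) • x ∈ A
      rw [← Finset.mul_prod_erase t c hx', mul_comm, mul_smul, ← hCsmul]
      exact A.smul_mem (Algebra.subset_adjoin ⟨x, hx, rfl⟩) _
    | algebraMap r =>
      refine ⟨0, ?_⟩
      rw [pow_zero, one_smul, IsScalarTower.algebraMap_apply R P S]
      exact A.algebraMap_mem _
    | add x y _ _ hx hy =>
      obtain ⟨k, hk⟩ := hx
      obtain ⟨l, hl⟩ := hy
      refine ⟨k + l, ?_⟩
      rw [smul_add]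
      refine add_mem ?_ ?_
      · rw [pow_add, mul_comm, mul_smul]; exact A.smul_mem hk _
      · rw [pow_add, mul_smul]; exact A.smul_mem hl _
    | mul x y _ _ hx hy =>
      obtain ⟨k, hk⟩ := hx
      obtain ⟨l, hl⟩ := hy
      refine ⟨k + l, ?_⟩
      have : (C f : P) ^ (k + l) • (x * y) = ((C f : P) ^ k • x) * ((C f : P) ^ l • y) := by
        rw [pow_add, mul_smul, smul_mul_smul_comm, ← mul_smul, ← pow_add]
      rw [this]
      exact mul_mem hk hl
  obtain ⟨m, a, ha⟩ := Submodule.fg_iff_exists_fin_generating_family.mp hAfg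
  obtain ⟨s₀, hli, hmax⟩ := exists_maximal_linearIndepOn P a
  have hb : ∀ i, ∃ b : P, b ≠ 0 ∧ b • a i ∈ Submodule.span P (a '' s₀) := fun i => by
    by_cases hi : i ∈ s₀
    · exact ⟨1, one_ne_zero, by rw [one_smul]; exact Submodule.subset_span ⟨i, hi, rfl⟩⟩
    · exact hmax i hi
  choose b hb0 hb using hb
  let g₀ : P := ∏ i, b i
  have hg₀ : g₀ ≠ 0 := Finset.prod_ne_zero_iff.mpr fun i _ => hb0 i
  have hg₀A : ∀ x ∈ A, g₀ • x ∈ Submodule.span P (a '' s₀) := by
    intro x hx
    have hx' : x ∈ Submodule.span P (Set.range a) := by rw [ha]; exact hx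
    have hle : Submodule.span P (Set.range a) ≤
        (Submodule.span P (a '' s₀)).comap (LinearMap.lsmul P S g₀) := by
      rw [Submodule.span_le]
      rintro _ ⟨i, rfl⟩
      change (∏ i, b i) • a i ∈ Submodule.span P (a '' s₀)
      rw [← Finset.mul_prod_erase Finset.univ b (Finset.mem_univ i), mul_comm, mul_smul]
      exact Submodule.smul_mem _ _ (hb i)
    exact hle hx'
  let e : s₀ → S := fun i => a i
  have he : LinearIndependent P e := hli
  have hrange : Set.range e = a '' s₀ := by
    ext x; simp [e]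
  let g' : P := C f * g₀
  have hspan : ∀ s : S, ∃ n : ℕ, g' ^ n • s ∈ Submodule.span P (Set.range e) := by
    intro s
    obtain ⟨k, hk⟩ := hA s
    refine ⟨k + 1, ?_⟩
    have : g' ^ (k + 1) • s = (C f * g₀ ^ k) • (g₀ • ((C f : P) ^ k • s)) := by
      rw [← mul_smul, ← mul_smul]
      congr 1
      simp only [g']
      ring
    rw [this, hrange]
    exact Submodule.smul_mem _ _ (hg₀A _ hk)
  have hνg₀ : ν g₀ ≠ 0 := fun h => hg₀ ((injective_iff_map_eq_zero _).mp hν _ h)
  refine ⟨f, ν g₀, hf, hνg₀, ?_⟩
  intro Rf Sfg _ _ _ _ _ _ _ _ _ _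
  letI : Algebra P Sfg := ((algebraMap S Sfg).comp (algebraMap P S)).toAlgebra
  haveI : IsScalarTower P S Sfg := IsScalarTower.of_algebraMap_eq fun _ => rfl
  haveI : IsScalarTower R P Sfg := IsScalarTower.of_algebraMap_eq fun r => by
    rw [IsScalarTower.algebraMap_apply R S Sfg, IsScalarTower.algebraMap_apply R P S]; rfl
  haveI hloc : IsLocalization.Away (algebraMap P S g') Sfg := by
    have : algebraMap P S g' = algebraMap R S f * ν g₀ := by
      change ν (C f * g₀) = _
      rw [map_mul, show ν (C f) = algebraMap R S f from aeval_C _ _]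
    rw [this]; infer_instance
  haveI : Algebra.FinitePresentation P Sfg := final e he g' hspan Sfg
  haveI : Algebra.FinitePresentation R Sfg := Algebra.FinitePresentation.trans R P Sfg
  haveI : Algebra.FinitePresentation R Rf := IsLocalization.Away.finitePresentation f
  exact Algebra.FinitePresentation.of_restrict_scalars_finitePresentation R Rf Sfg

end Groth.Agent.Helper8.GenFP
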