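import Mathlib
import Groth.Agent.Helper8.GeomIrrC

namespace Groth.Agent.Helper8.GeomIrr

open TensorProduct Polynomial

attribute [local instance] Polynomial.algebra

universe u

theorem geomIrr_iff_ratFunc {k K : Type u} [Field k] [Field K] [Algebra k K]
    (kt Kt : Type u) [Field kt] [Field Kt] [Algebra (Polynomial k) kt]
    [IsFractionRing (Polynomial k) kt] [Algebra (Polynomial K) Kt]
    [IsFractionRing (Polynomial K) Kt] [Algebra kt Kt]
    (hcompat : ∀ p : Polynomial k, algebraMap kt Kt (algebraMap (Polynomial k) kt p) =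
      algebraMap (Polynomial K) Kt (Polynomial.map (algebraMap k K) p)) :
    (∀ (k' : Type u) [Field k'] [Algebra k k'], IrreducibleSpace (PrimeSpectrum (k' ⊗[k] K))) ↔
      ∀ (L : Type u) [Field L] [Algebra kt L], IrreducibleSpace (PrimeSpectrum (L ⊗[kt] Kt)) := by
  constructor
  · intro h L _ _
    letI : Algebra k[X] Kt := ((algebraMap kt Kt).comp (algebraMap k[X] kt)).toAlgebra
    haveI : IsScalarTower k[X] kt Kt := IsScalarTower.of_algebraMap_eq (fun _ => rfl)
    haveI : IsScalarTower k[X] K[X] Kt := IsScalarTower.of_algebraMap_eq (fun p => hcompat p)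
    letI : Algebra k[X] L := ((algebraMap kt L).comp (algebraMap k[X] kt)).toAlgebra
    haveI : IsScalarTower k[X] kt L := IsScalarTower.of_algebraMap_eq (fun _ => rfl)
    letI : Algebra k L := ((algebraMap k[X] L).comp (C : k →+* k[X])).toAlgebra
    haveI : IsScalarTower k k[X] L := IsScalarTower.of_algebraMap_eq (fun _ => rfl)
    exact (nilPrime_iff_irreducibleSpace (L ⊗[kt] Kt)).mp
      (ratFunc_forward kt Kt L ((nilPrime_iff_irreducibleSpace (L ⊗[k] K)).mpr (h L)))
  · intro h
    rw [geomIrr_iff]
    have h2 := (geomIrr_iff (k := kt) (K := Kt)).mp h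
    intro α hα
    let β : Kt := algebraMap K[X] Kt (C α)
    let φ : k →+* kt := (algebraMap k[X] kt).comp (C : k →+* k[X])
    have hφ : (algebraMap kt Kt).comp φ =
        ((algebraMap K[X] Kt).comp (C : K →+* K[X])).comp (algebraMap k K) := by
      ext c
      simp only [RingHom.comp_apply, φ]
      rw [hcompat, Polynomial.map_C]
    have hβsep : IsSeparable kt β := by
      have h0 : aeval β ((minpoly k α).map φ) = 0 := by
        rw [aeval_def, eval₂_map, hφ]
        have := Polynomial.hom_eval₂ (minpoly k α) (algebraMap k K)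
          ((algebraMap K[X] Kt).comp (C : K →+* K[X])) α
        rw [← aeval_def, minpoly.aeval, map_zero] at this
        exact this.symm
      exact (Separable.map hα).of_dvd (minpoly.dvd kt β h0)
    obtain ⟨γ, hγ⟩ := h2 β hβsep
    obtain ⟨p, q, hq, rfl⟩ := IsFractionRing.div_surjective (A := k[X]) γ
    have hq0 : q ≠ 0 := nonZeroDivisors.ne_zero hq
    have hqt : algebraMap k[X] kt q ≠ 0 := by
      simpa using (IsFractionRing.injective k[X] kt).ne hq0
    have h3 : algebraMap K[X] Kt (C α * q.map (algebraMap k K)) =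
        algebraMap K[X] Kt (p.map (algebraMap k K)) := by
      rw [map_mul, ← hcompat, ← hcompat]
      change β * _ = _
      rw [← hγ, ← map_mul, div_mul_cancel₀ _ hqt]
    have h4 := IsFractionRing.injective K[X] Kt h3
    have h5 := congrArg (fun r => r.coeff q.natDegree) h4
    simp only [coeff_C_mul, coeff_map, coeff_natDegree] at h5
    have hlc : algebraMap k K q.leadingCoeff ≠ 0 := by
      simpa using (algebraMap k K).injective.ne (leadingCoeff_ne_zero.mpr hq0)
    refine ⟨p.coeff q.natDegree / q.leadingCoeff, ?_⟩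
    rw [map_div₀, ← h5, mul_div_cancel_right₀ _ hlc]

end Groth.Agent.Helper8.GeomIrr
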