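import Groth.Prelude.Def_CAlgX
import Mathlib.FieldTheory.IsSepClosed
import Mathlib.RingTheory.TensorProduct.Basic
import Groth.Agent.Helper8.GeomIrrA

set_option autoImplicit false
universe u
open TensorProduct

namespace Groth.Agent.Helper8.GeomIrr

theorem hasUnique_iff_nilPrime (A : Type u) [CommRing A] :
    CAlgX.HasUniqueMinimalPrime A ↔ NilPrime A := by
  unfold CAlgX.HasUniqueMinimalPrime NilPrime
  constructor
  · rintro ⟨p, hp, huniq⟩
    have h1 : minimalPrimes A = {p} := by
      ext q
      constructor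
      · intro hq; exact huniq q hq
      · rintro rfl; exact hp
    have h2 : nilradical A = p := by
      have := Ideal.sInf_minimalPrimes (I := (⊥ : Ideal A))
      have h3 : nilradical A = sInf (minimalPrimes A) := this.symm
      rw [h3, h1, sInf_singleton]
    rw [h2]
    exact hp.1.1
  · intro h
    have hmin : nilradical A ∈ minimalPrimes A := by
      refine ⟨⟨h, bot_le⟩, ?_⟩
      rintro q ⟨hq, -⟩ -
      exact nilradical_le_prime q
    refine ⟨nilradical A, hmin, ?_⟩
    intro q hq
    have hq1 : q.IsPrime := hq.1.1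
    have hle : nilradical A ≤ q := nilradical_le_prime q
    exact le_antisymm (hq.2 hmin.1 hle) hle

/-- general tensor over an algebraically closed field -/
theorem NilPrime.tensor_tensor_of_isAlgClosed {F X Y : Type*} [Field F] [IsAlgClosed F]
    [CommRing X] [Algebra F X] [CommRing Y] [Algebra F Y] (hX : NilPrime X) (hY : NilPrime Y) :
    NilPrime (X ⊗[F] Y) := by
  haveI : (nilradical X).IsPrime := hX
  haveI : (nilradical Y).IsPrime := hY
  let D := X ⧸ nilradical X
  let E := Y ⧸ nilradical Y
  let f : X →ₐ[F] D := Ideal.Quotient.mkₐ F (nilradical X)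
  let g : Y →ₐ[F] E := Ideal.Quotient.mkₐ F (nilradical Y)
  have hf : Function.Surjective f := Ideal.Quotient.mk_surjective
  have hg : Function.Surjective g := Ideal.Quotient.mk_surjective
  let π : X ⊗[F] Y →ₐ[F] D ⊗[F] E := Algebra.TensorProduct.map f g
  haveI : IsDomain (D ⊗[F] E) := isDomain_tensor
  have hker : ∀ x, π x = 0 → IsNilpotent x := by
    intro x hx
    have hx' : x ∈ RingHom.ker π := hx
    rw [Algebra.TensorProduct.map_ker f g hf hg] at hx'
    have hle1 : (RingHom.ker f).map
        (Algebra.TensorProduct.includeLeft : X →ₐ[F] X ⊗[F] Y) ≤ nilradical (X ⊗[F] Y) := by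
      rw [Ideal.map_le_iff_le_comap]
      intro y hy
      have hy' : IsNilpotent y := by
        have h0 : Ideal.Quotient.mk (nilradical X) y = 0 := hy
        exact mem_nilradical.mp (Ideal.Quotient.eq_zero_iff_mem.mp h0)
      exact mem_nilradical.mpr (hy'.map _)
    have hle2 : (RingHom.ker g).map
        (Algebra.TensorProduct.includeRight : Y →ₐ[F] X ⊗[F] Y) ≤ nilradical (X ⊗[F] Y) := by
      rw [Ideal.map_le_iff_le_comap]
      intro y hy
      have hy' : IsNilpotent y := by
        have h0 : Ideal.Quotient.mk (nilradical Y) y = 0 := hy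
        exact mem_nilradical.mp (Ideal.Quotient.eq_zero_iff_mem.mp h0)
      exact mem_nilradical.mpr (hy'.map _)
    exact mem_nilradical.mp (sup_le hle1 hle2 hx')
  rw [nilPrime_iff]
  refine ⟨π.toRingHom.domain_nontrivial, fun a b hab => ?_⟩
  have : π a * π b = 0 := by rw [← map_mul]; exact IsNilpotent.eq_zero (hab.map π)
  rcases mul_eq_zero.mp this with h | h
  · exact Or.inl (hker _ h)
  · exact Or.inr (hker _ h)

/-- over a separably closed field, irreducible implies geometrically irreducible -/
theorem NilPrime.algebraicClosure_of_isSepClosed {k R : Type u} [Field k] [IsSepClosed k]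
    [CommRing R] [Algebra k R] (hR : NilPrime R) : NilPrime (AlgebraicClosure k ⊗[k] R) := by
  have h := (tfae_geomIrr (k := k) (R := R)).out 1 3
  refine (nilPrime_iff_irreducibleSpace _).mpr (h.mp ?_)
  intro k' _ _ _ _
  have hbij : Function.Bijective (algebraMap k k') := IsSepClosed.algebraMap_bijective k k'
  let e0 : k ≃ₐ[k] k' := AlgEquiv.ofBijective (Algebra.ofId k k') hbij
  let e : k' ⊗[k] R ≃ₐ[k] R :=
    (Algebra.TensorProduct.congr e0.symm AlgEquiv.refl).trans (Algebra.TensorProduct.lid k R)
  exact (nilPrime_iff_irreducibleSpace (k' ⊗[k] R)).mp (NilPrime.of_ringEquiv e.toRingEquiv hR)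

theorem unique_minimal_tensor {k R S : Type u} [Field k] [IsSepClosed k] [CommRing R] [CommRing S]
    [Algebra k R] [Algebra k S] (hR : CAlgX.HasUniqueMinimalPrime R)
    (hS : CAlgX.HasUniqueMinimalPrime S) :
    CAlgX.HasUniqueMinimalPrime (R ⊗[k] S) := by
  rw [hasUnique_iff_nilPrime] at hR hS ⊢
  let Ω := AlgebraicClosure k
  have h1 : NilPrime (Ω ⊗[k] R) := NilPrime.algebraicClosure_of_isSepClosed hR
  have h2 : NilPrime (Ω ⊗[k] S) := NilPrime.algebraicClosure_of_isSepClosed hS
  have h3 : NilPrime ((Ω ⊗[k] R) ⊗[Ω] (Ω ⊗[k] S)) := NilPrime.tensor_tensor_of_isAlgClosed h1 h2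
  have h4 : NilPrime ((Ω ⊗[k] R) ⊗[k] S) :=
    NilPrime.of_ringEquiv
      (Algebra.TensorProduct.cancelBaseChange k Ω Ω (Ω ⊗[k] R) S).symm.toRingEquiv h3
  -- R ⊗ S ↪ (Ω ⊗ R) ⊗ S
  let j : R →ₐ[k] Ω ⊗[k] R := Algebra.TensorProduct.includeRight
  have hj : Function.Injective j :=
    Algebra.TensorProduct.includeRight_injective (algebraMap k Ω).injective
  let J : R ⊗[k] S →ₐ[k] (Ω ⊗[k] R) ⊗[k] S := Algebra.TensorProduct.map j (AlgHom.id k S)
  have hJ : Function.Injective J := by
    have h1 : (J : R ⊗[k] S → (Ω ⊗[k] R) ⊗[k] S) = LinearMap.rTensor S j.toLinearMap := by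
      ext x
      induction x using TensorProduct.induction_on with
      | zero => simp
      | tmul c y => simp [J]
      | add x y hx hy => simp only [map_add, hx, hy]
    rw [h1]
    exact Module.Flat.rTensor_preserves_injective_linearMap _ hj
  exact NilPrime.of_injective J.toRingHom hJ h4

end Groth.Agent.Helper8.GeomIrr
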