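import Mathlib
import Groth.Agent.Helper8.GeomRedD

set_option autoImplicit false
universe u
open TensorProduct

namespace Groth.Agent.Helper8.GeomRed
open Groth.Agent.Helper8.GeomIrr

/-- purely inseparable base change of a field: every prime is the nilradical -/
theorem prime_eq_nilradical (k k' K : Type u) [Field k] [Field k'] [Field K] [Algebra k k']
    [Algebra k K] [IsPurelyInseparable k k'] (q : Ideal (k' ⊗[k] K)) [hq : q.IsPrime] :
    q = nilradical (k' ⊗[k] K) := by
  let p := ringExpChar k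
  haveI : ExpChar k p := ringExpChar.expChar k
  haveI : ExpChar (k' ⊗[k] K) p :=
    expChar_of_injective_algebraMap (algebraMap k (k' ⊗[k] K)).injective p
  have key : ∀ y : k' ⊗[k] K, ∃ (n : ℕ) (x : K), y ^ (p ^ n) = (1 : k') ⊗ₜ[k] x := by
    intro y
    induction y using TensorProduct.induction_on with
    | zero => exact ⟨0, 0, by simp⟩
    | tmul c r =>
      obtain ⟨n, s, hs⟩ := IsPurelyInseparable.pow_mem k p c
      refine ⟨n, s • r ^ (p ^ n), ?_⟩
      rw [Algebra.TensorProduct.tmul_pow, ← hs, Algebra.algebraMap_eq_smul_one,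
        TensorProduct.smul_tmul]
    | add x y hx hy =>
      obtain ⟨n, a, hn⟩ := hx
      obtain ⟨m, b, hm⟩ := hy
      refine ⟨n + m, a ^ (p ^ m) + b ^ (p ^ n), ?_⟩
      rw [add_pow_expChar_pow, TensorProduct.tmul_add]
      congr 1
      · rw [pow_add, pow_mul, hn, Algebra.TensorProduct.tmul_pow, one_pow]
      · rw [pow_add, mul_comm, pow_mul, hm, Algebra.TensorProduct.tmul_pow, one_pow]
  apply le_antisymm
  · intro y hy
    obtain ⟨n, x, hx⟩ := key y
    rw [mem_nilradical]
    by_cases hx0 : x = 0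
    · exact ⟨p ^ n, by rw [hx, hx0, TensorProduct.tmul_zero]⟩
    · exfalso
      apply hq.ne_top
      rw [Ideal.eq_top_iff_one]
      have h1 : (1 : k') ⊗ₜ[k] x ∈ q := by rw [← hx]; exact q.pow_mem_of_mem hy _ (pow_pos (expChar_pos k p) n)
      have h2 : ((1 : k') ⊗ₜ[k] x⁻¹) * ((1 : k') ⊗ₜ[k] x) = 1 := by
        rw [Algebra.TensorProduct.tmul_mul_tmul, one_mul, inv_mul_cancel₀ hx0]
        rfl
      rw [← h2]
      exact q.mul_mem_left _ h1
  · exact nilradical_le_prime q

theorem s4677 {k K : Type u} [Field k] [Field K] [Algebra k K]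
    [Algebra.EssFiniteType k K] :
    ∃ (k' : Type u) (_ : Field k') (_ : Algebra k k'), FiniteDimensional k k' ∧ IsPurelyInseparable k k' ∧
      ∀ (m : Ideal (k' ⊗[k] K)), m.IsMaximal → Algebra.IsGeometricallyReduced k' ((k' ⊗[k] K) ⧸ m) := by
  let P₀ := perfectClosure k (AlgebraicClosure k)
  haveI : IsNoetherianRing (↥P₀ ⊗[k] K) := isNoetherianRing_of_essFiniteType ↥P₀ (↥P₀ ⊗[k] K)
  obtain ⟨k', i1, i2, h1, h2, h3⟩ := core k ↥P₀ K
  refine ⟨k', i1, i2, h1, h2, fun m hm => ?_⟩
  have := prime_eq_nilradical k k' K m (hq := hm.isPrime)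
  subst this
  exact h3

end Groth.Agent.Helper8.GeomRed
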