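import Mathlib
import Groth.Agent.Helper8.GeomRedE

set_option autoImplicit false
universe u
open TensorProduct

namespace Groth.Agent.Helper8.GeomRed
open Groth.Agent.Helper8.GeomIrr

/-- abstract converse -/
theorem artinian_of_geomReduced (k k' K P : Type u) [Field k] [Field k'] [Field K] [Field P]
    [Algebra k k'] [Algebra k K] [Algebra k P] [Algebra k' P] [IsScalarTower k k' P]
    [Module.Finite k k'] [IsPurelyInseparable k P]
    (hB : Algebra.IsGeometricallyReduced k' ((k' ⊗[k] K) ⧸ nilradical (k' ⊗[k] K))) :
    IsArtinianRing (K ⊗[k] P) := by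
  let C := k' ⊗[k] K
  let NC := nilradical C
  let B := C ⧸ NC
  haveI : Algebra.IsAlgebraic k P := IsPurelyInseparable.isAlgebraic k P
  haveI : Algebra.IsAlgebraic k' P := Algebra.IsAlgebraic.tower_top (K := k) k'
  haveI : IsReduced (P ⊗[k'] B) := inferInstance
  -- C is noetherian
  haveI : IsNoetherianRing (K ⊗[k] k') := Algebra.FiniteType.isNoetherianRing K (K ⊗[k] k')
  haveI : IsNoetherianRing C :=
    isNoetherianRing_of_ringEquiv (K ⊗[k] k') (Algebra.TensorProduct.comm k K k').toRingEquiv
  let g : C →ₐ[k'] B := Ideal.Quotient.mkₐ k' NC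
  have hg : Function.Surjective g := Ideal.Quotient.mk_surjective
  let π : P ⊗[k'] C →ₐ[P] P ⊗[k'] B := Algebra.TensorProduct.map (AlgHom.id P P) g
  let Kid : Ideal (P ⊗[k'] C) :=
    NC.map (Algebra.TensorProduct.includeRight : C →ₐ[k'] P ⊗[k'] C)
  have hker : RingHom.ker π = Kid := by
    have := Algebra.TensorProduct.lTensor_ker (A := P) g hg
    have hg' : RingHom.ker g = NC := Ideal.Quotient.mkₐ_ker k' NC
    rw [hg'] at this
    exact this
  have hnil : nilradical (P ⊗[k'] C) = Kid := by
    apply le_antisymm
    · intro y hy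
      have : π y = 0 := ((mem_nilradical.mp hy).map π).eq_zero
      rw [← hker]; exact this
    · rw [Ideal.map_le_iff_le_comap]
      intro m hm
      exact mem_nilradical.mpr ((mem_nilradical.mp hm).map _)
  have hfg : (nilradical (P ⊗[k'] C)).FG := by
    rw [hnil]
    exact Ideal.FG.map ((isNoetherianRing_iff_ideal_fg C).mp inferInstance NC) _
  let c : P ⊗[k'] C ≃ₐ[P] P ⊗[k] K := Algebra.TensorProduct.cancelBaseChange k k' P P K
  let T := P ⊗[k] K
  have hfgT : (nilradical T).FG := by
    have : nilradical T = (nilradical (P ⊗[k'] C)).map c.toRingEquiv.toRingHom := by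
      apply le_antisymm
      · intro y hy
        have h1 : c.symm y ∈ nilradical (P ⊗[k'] C) :=
          mem_nilradical.mpr ((mem_nilradical.mp hy).map c.symm)
        have := Ideal.mem_map_of_mem c.toRingEquiv.toRingHom h1
        simpa using this
      · rw [Ideal.map_le_iff_le_comap]
        intro m hm
        exact mem_nilradical.mpr ((mem_nilradical.mp hm).map _)
    rw [this]
    exact Ideal.FG.map hfg _
  haveI : IsNoetherianRing T := IsNoetherianRing.of_prime (fun q hq => by
    rw [prime_eq_nilradical k P K q]; exact hfgT)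
  haveI : Ring.KrullDimLE 0 T := by
    rw [Ring.krullDimLE_zero_iff]
    intro q hq
    obtain ⟨m, hm⟩ := Ideal.exists_maximal T
    have h1 := prime_eq_nilradical k P K q
    have h2 := prime_eq_nilradical k P K m (hq := hm.isPrime)
    rw [h1, ← h2]; exact hm
  haveI : IsArtinianRing T := isArtinianRing_iff_isNoetherianRing_krullDimLE_zero.mpr
    ⟨inferInstance, inferInstance⟩
  exact (Algebra.TensorProduct.comm k K P).toRingEquiv.symm.isArtinianRing

end Groth.Agent.Helper8.GeomRed
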