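import Mathlib
import Groth.Agent.Helper8.GeomRedF

set_option autoImplicit false
universe u
open TensorProduct

namespace Groth.Agent.Helper8.GeomRed
open Groth.Agent.Helper8.GeomIrr

theorem s5061 (p : ℕ) [Fact p.Prime]
    (k K : Type u) [Field k] [CharP k p] [Field K] [Algebra k K]
    (P : Type u) [Field P] [Algebra k P] [PerfectRing P p] [IsPRadical (algebraMap k P) p] :
    IsArtinianRing (K ⊗[k] P) ↔
      ∃ (k' : Type u) (_ : Field k') (_ : Algebra k k'), Module.Finite k k' ∧ IsPurelyInseparable k k' ∧
        Algebra.IsGeometricallyReduced k' ((k' ⊗[k] K) ⧸ nilradical (k' ⊗[k] K)) := by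
  have hp : p.Prime := Fact.out
  haveI : ExpChar k p := ExpChar.prime hp
  haveI : IsPurelyInseparable k P := IsPRadical.isPurelyInseparable k P p
  haveI : CharP P p := charP_of_injective_algebraMap (algebraMap k P).injective p
  haveI : ExpChar P p := ExpChar.prime hp
  haveI : PerfectField P := PerfectRing.toPerfectField P p
  constructor
  · intro h
    haveI : IsNoetherianRing (K ⊗[k] P) := inferInstance
    haveI : IsNoetherianRing (P ⊗[k] K) :=
      isNoetherianRing_of_ringEquiv (K ⊗[k] P) (Algebra.TensorProduct.comm k K P).toRingEquiv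
    exact core k P K
  · rintro ⟨k', i1, i2, hfin, hpi, hB⟩
    haveI : CharP k' p := charP_of_injective_algebraMap (algebraMap k k').injective p
    haveI : ExpChar k' p := ExpChar.prime hp
    haveI : IsPRadical (algebraMap k k') p := IsPurelyInseparable.isPRadical k k' p
    let φ : k' →+* P := PerfectRing.lift (algebraMap k k') (algebraMap k P) p
    letI : Algebra k' P := φ.toAlgebra
    haveI : IsScalarTower k k' P := IsScalarTower.of_algebraMap_eq
      (fun x => (PerfectRing.lift_comp_apply (algebraMap k k') (algebraMap k P) p x).symm)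
    exact artinian_of_geomReduced k k' K P hB

end Groth.Agent.Helper8.GeomRed
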