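import Mathlib
import Groth.Agent.Helper8.GeomReg13
set_option autoImplicit false
universe u

namespace Groth.Agent.Helper8.GeomReg
open TensorProduct IsLocalRing

theorem s2037 {k A : Type u} [Field k] (p : ℕ)
    [Fact p.Prime] [CharP k p] [CommRing A] [IsLocalRing A] [IsNoetherianRing A] [Algebra k A] :
    CAlg.IsGeometricallyRegular k A ↔
      ∀ (k' : Type u) [Field k'] [Algebra k k'], Module.Finite k k' →
        (∀ x : k', x ^ p ∈ Set.range (algebraMap k k')) → IsRegularRing (k' ⊗[k] A) := by
  constructor
  · intro h k' _ _ hfin _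
    exact h k' hfin
  · intro h
    apply geomReg
    apply adic_of_pRadReg p
    intro k' _ _ hfin hx
    exact h k' hfin (fun x => by
      obtain ⟨a, ha⟩ := hx x
      exact ⟨a, ha⟩)

end Groth.Agent.Helper8.GeomReg
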