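import Mathlib
import Groth.Agent.Helper8.GeomReg3
import Groth.Agent.Lead.RegLocal
set_option autoImplicit false
universe u

namespace Groth.Agent.Helper8.GeomReg
open IsLocalRing TensorProduct

lemma isReduced_of_isRegularRing (R : Type*) [CommRing R] [IsRegularRing R] : IsReduced R := by
  apply isReduced_ofLocalizationMaximal
  intro P hP
  haveI : IsDomain (Localization.AtPrime P) :=
    Groth.Agent.Lead.RegLocal.isDomain_of_isRegularLocalRing _
  infer_instance

section
variable {k A K : Type u} [Field k] [CommRing A] [IsLocalRing A] [IsNoetherianRing A] [Algebra k A]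
  [Field K] [Algebra k K] [Algebra K A] [IsScalarTower k K A]

theorem s4513 (h : CAlgX.IsAdicFormallySmooth k A (maximalIdeal A)) :
    Algebra.IsGeometricallyReduced k K := by
  rw [Algebra.isGeometricallyReduced_field_iff]
  have key : ∀ (F : IntermediateField k (AlgebraicClosure k)), FiniteDimensional k F →
      IsReduced (F ⊗[k] K) := by
    intro F hF
    haveI hreg : IsRegularRing (F ⊗[k] A) := geomReg h F hF
    haveI : IsReduced (F ⊗[k] A) := isReduced_of_isRegularRing (F ⊗[k] A)
    exact isReduced_of_injective
      (Algebra.TensorProduct.map (AlgHom.id k F) (IsScalarTower.toAlgHom k K A))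
      (Module.Flat.lTensor_preserves_injective_linearMap _ (algebraMap K A).injective)
  haveI h2 : IsReduced (K ⊗[k] AlgebraicClosure k) := by
    apply IsReduced.tensorProduct_of_flat_of_forall_fg
    intro B hB
    obtain ⟨s, hs⟩ := hB
    let F := IntermediateField.adjoin k (s : Set (AlgebraicClosure k))
    have hF : FiniteDimensional k F :=
      IntermediateField.finiteDimensional_adjoin (fun x _ => Algebra.IsIntegral.isIntegral x)
    have hle : B ≤ F.toSubalgebra := by
      rw [← hs]; exact IntermediateField.algebra_adjoin_le_adjoin k _
    haveI := key F hF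
    haveI : IsReduced (K ⊗[k] F) :=
      isReduced_of_injective (Algebra.TensorProduct.comm k K F) (AlgEquiv.injective _)
    exact isReduced_of_injective
      (Algebra.TensorProduct.map (AlgHom.id k K) (Subalgebra.inclusion hle))
      (Module.Flat.lTensor_preserves_injective_linearMap _ (Subalgebra.inclusion_injective hle))
  exact isReduced_of_injective (Algebra.TensorProduct.comm k (AlgebraicClosure k) K)
    (AlgEquiv.injective _)

end

end Groth.Agent.Helper8.GeomReg
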