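import Groth.Agent.Helper8.GerbeLib

set_option autoImplicit false
set_option backward.isDefEq.respectTransparency false
set_option backward.isDefEq.respectTransparency.types false

open CategoryTheory CategoryTheory.Limits Gerb

namespace Groth.Agent.Helper8.GerbeBC

open Groth.Agent.Helper8.GerbeLib

universe v u v₂ u₂ v₃ u₃ v₄ u₄ v₅ u₅

variable {C : Type u} [Category.{v} C] {J : GrothendieckTopology C}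
  {𝒳 : BasedCategory.{v₂, u₂} C} {𝒴 : BasedCategory.{v₃, u₃} C} {𝒴' : BasedCategory.{v₄, u₄} C}
  {𝒳' : BasedCategory.{v₅, u₅} C}

theorem isHomLift_id_of_eq {𝒵 : BasedCategory.{v₃, u₃} C} {a b : 𝒵.obj} (φ : a ⟶ b) {R R' : C}
    (h : R = R') (hφ : 𝒵.p.IsHomLift (𝟙 R) φ) : 𝒵.p.IsHomLift (𝟙 R') φ := by
  subst h; exact hφ

theorem isHomLift_of_map {𝒵 : Type u₂} [Category.{v₂} 𝒵] {𝒱 : Type u₃} [Category.{v₃} 𝒱]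
    {p : 𝒵 ⥤ C} {q : 𝒱 ⥤ C} {a b : 𝒵} {c d : 𝒱} (Φ : a ⟶ b) (φ : c ⟶ d)
    (hq : q.IsHomLift (p.map Φ) φ) {R S : C} (h : R ⟶ S) [p.IsHomLift h Φ] :
    q.IsHomLift h φ := by
  subst_hom_lift p h Φ; exact hq

/-- two lifts of the same arrow with the same target are isomorphic over the identity -/
theorem exists_iso_of_lifts (h : FibCat.IsFibGrpd 𝒴.p) {a a' b : 𝒴.obj} {R S : C} (f : R ⟶ S)
    (φ : a ⟶ b) (φ' : a' ⟶ b) [𝒴.p.IsHomLift f φ] [𝒴.p.IsHomLift f φ'] :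
    ∃ θ : a ≅ a', 𝒴.p.IsHomLift (𝟙 R) θ.hom ∧ θ.hom ≫ φ' = φ := by
  haveI : 𝒴.p.IsHomLift (𝟙 R ≫ f) φ := inferInstance
  haveI : 𝒴.p.IsHomLift (𝟙 R ≫ f) φ' := inferInstance
  obtain ⟨χ, hχ, eχ⟩ := exists_factor h f φ' (𝟙 R) φ
  obtain ⟨χ', hχ', eχ'⟩ := exists_factor h f φ (𝟙 R) φ'
  haveI := hχ
  haveI := hχ'
  haveI : 𝒴.p.IsHomLift (𝟙 R) (𝟙 a) := IsHomLift.id (IsHomLift.domain_eq 𝒴.p f φ)
  haveI : 𝒴.p.IsHomLift (𝟙 R) (𝟙 a') := IsHomLift.id (IsHomLift.domain_eq 𝒴.p f φ')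
  refine ⟨⟨χ, χ', ?_, ?_⟩, hχ, eχ⟩
  · exact exists_factor_unique h f φ (𝟙 R) (χ ≫ χ') (𝟙 a)
      (by rw [Category.assoc, eχ', eχ, Category.id_comp])
  · exact exists_factor_unique h f φ' (𝟙 R) (χ' ≫ χ) (𝟙 a')
      (by rw [Category.assoc, eχ, eχ', Category.id_comp])

/-! ### Base change to the 2-fibre product -/

theorem fpFst_locSurjObj (h𝒴' : FibCat.IsFibGrpd 𝒴'.p) (h𝒴 : FibCat.IsFibGrpd 𝒴.p)
    (F : 𝒳 ⥤ᵇ 𝒴) (G : 𝒴' ⥤ᵇ 𝒴) (hF : LocSurjObj J F) :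
    LocSurjObj J (FibCat.fpFst G F) := by
  intro y'
  obtain ⟨R, hR, h⟩ := locSurjObj' hF (G.obj y') (G.w_obj y')
  refine ⟨R, hR, fun V f hf => ?_⟩
  obtain ⟨x, g, hg⟩ := h f hf
  haveI := hg
  obtain ⟨y'', β, hβ⟩ := h𝒴'.exists_lift (x := y') f
  haveI := hβ
  obtain ⟨θ, hθ, eθ⟩ := exists_iso_of_lifts h𝒴 f (G.map β) g
  have hy'' : 𝒴'.p.obj y'' = V := IsHomLift.domain_eq 𝒴'.p f β
  have hprop : FibCat.fpProp G F ⟨y'', x, θ⟩ := by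
    show 𝒴.p.IsHomLift (𝟙 (𝒴'.p.obj y'')) θ.hom
    exact isHomLift_id_of_eq θ.hom hy''.symm hθ
  exact ⟨⟨⟨y'', x, θ⟩, hprop⟩, β, hβ⟩

theorem fpFst_locSurjHom (h𝒴' : FibCat.IsFibGrpd 𝒴'.p) (h𝒴 : FibCat.IsFibGrpd 𝒴.p)
    (F : 𝒳 ⥤ᵇ 𝒴) (G : 𝒴' ⥤ᵇ 𝒴) (hF : LocSurjHom J F) :
    LocSurjHom J (FibCat.fpFst G F) := by
  intro P₁ P₂ b hb
  have hb' : 𝒴'.p.IsHomLift (𝟙 (𝒴'.p.obj P₁.obj.fst)) b := hb
  haveI := hb'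
  have hp1 : 𝒴.p.IsHomLift (𝟙 (𝒴'.p.obj P₁.obj.fst)) P₁.obj.iso.hom := P₁.property
  have hU2 : 𝒴'.p.obj P₂.obj.fst = 𝒴'.p.obj P₁.obj.fst :=
    IsHomLift.codomain_eq 𝒴'.p (𝟙 (𝒴'.p.obj P₁.obj.fst)) b
  have hp2 : 𝒴.p.IsHomLift (𝟙 (𝒴'.p.obj P₁.obj.fst)) P₂.obj.iso.hom :=
    isHomLift_id_of_eq _ hU2 P₂.property
  haveI := hp1
  haveI := hp2
  obtain ⟨bt, hbt⟩ : ∃ bt : F.obj P₁.obj.snd ⟶ F.obj P₂.obj.snd,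
      bt = P₁.obj.iso.inv ≫ G.map b ≫ P₂.obj.iso.hom := ⟨_, rfl⟩
  haveI : 𝒴.p.IsHomLift (𝟙 (𝒴'.p.obj P₁.obj.fst)) bt := by
    rw [hbt]; infer_instance
  have hx1 : 𝒳.p.obj P₁.obj.snd = 𝒴'.p.obj P₁.obj.fst :=
    (F.w_obj _).symm.trans
      (IsHomLift.codomain_eq 𝒴.p (𝟙 (𝒴'.p.obj P₁.obj.fst)) P₁.obj.iso.hom)
  obtain ⟨R, hR, h⟩ := locSurjHom' hF P₁.obj.snd P₂.obj.snd hx1 bt
  refine ⟨R, hR, fun V (f : V ⟶ 𝒴'.p.obj P₁.obj.fst) hf => ?_⟩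
  obtain ⟨x₀, φ, ψ, hφ, hψ, e⟩ := h f hf
  haveI := hφ
  haveI := hψ
  obtain ⟨y₀, β, hβ⟩ := h𝒴'.exists_lift (x := P₁.obj.fst) f
  haveI := hβ
  obtain ⟨θ₀, hθ₀, eθ₀⟩ := exists_iso_of_lifts h𝒴 f (G.map β ≫ P₁.obj.iso.hom) (F.map φ)
  have hy₀ : 𝒴'.p.obj y₀ = V := IsHomLift.domain_eq 𝒴'.p f β
  have hprop : FibCat.fpProp G F ⟨y₀, x₀, θ₀⟩ := by
    show 𝒴.p.IsHomLift (𝟙 (𝒴'.p.obj y₀)) θ₀.hom
    exact isHomLift_id_of_eq θ₀.hom hy₀.symm hθ₀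
  obtain ⟨P₀, hP₀⟩ : ∃ P₀ : (FibCat.fp G F).obj, P₀ = ⟨⟨y₀, x₀, θ₀⟩, hprop⟩ := ⟨_, rfl⟩
  subst hP₀
  have w1 : G.map β ≫ P₁.obj.iso.hom = θ₀.hom ≫ F.map φ := eθ₀.symm
  have w2 : G.map (β ≫ b) ≫ P₂.obj.iso.hom = θ₀.hom ≫ F.map ψ := by
    rw [← e, ← Category.assoc, eθ₀, hbt, Functor.map_comp]
    simp only [Category.assoc, Iso.hom_inv_id_assoc]
  refine ⟨⟨⟨y₀, x₀, θ₀⟩, hprop⟩, ObjectProperty.homMk ⟨β, φ, w1⟩,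
    ObjectProperty.homMk ⟨β ≫ b, ψ, w2⟩, ?_, ?_, rfl⟩
  · exact (BasedFunctor.isHomLift_iff (FibCat.fpFst G F) f _).mp hβ
  · refine (BasedFunctor.isHomLift_iff (FibCat.fpFst G F) f _).mp ?_
    show 𝒴'.p.IsHomLift f (β ≫ b)
    infer_instance

theorem fpFst_isGerbeOver (h𝒴' : FibCat.IsFibGrpd 𝒴'.p) (h𝒴 : FibCat.IsFibGrpd 𝒴.p)
    (F : 𝒳 ⥤ᵇ 𝒴) (G : 𝒴' ⥤ᵇ 𝒴) (hF : IsGerbeOver J F) :
    IsGerbeOver J (FibCat.fpFst G F) :=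
  ⟨fpFst_locSurjObj h𝒴' h𝒴 F G hF.1, fpFst_locSurjHom h𝒴' h𝒴 F G hF.2⟩

/-! ### Invariance under equivalences over `C` -/

section Equiv

variable {𝒲 : BasedCategory.{v₂, u₂} C} (E : 𝒳' ⥤ᵇ 𝒲) (π : 𝒲 ⥤ᵇ 𝒴')

theorem full_of_isEquivOver (hE : FibCat.IsEquivOver E) : E.toFunctor.Full := by
  obtain ⟨E', ⟨η⟩, ⟨ε⟩⟩ := hE
  let ηn : E.toFunctor ⋙ E'.toFunctor ≅ 𝟭 _ := (BasedNatTrans.forgetful _ _).mapIso η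
  let εn : E'.toFunctor ⋙ E.toFunctor ≅ 𝟭 _ := (BasedNatTrans.forgetful _ _).mapIso ε
  exact (CategoryTheory.Equivalence.mk E.toFunctor E'.toFunctor ηn.symm εn).full_functor

theorem comp_equiv_isGerbeOver (hE : FibCat.IsEquivOver E) (hπ : IsGerbeOver J π) :
    IsGerbeOver J (BasedFunctor.comp E π) := by
  haveI := full_of_isEquivOver E hE
  obtain ⟨E', ⟨η⟩, ⟨ε⟩⟩ := hE
  constructor
  · intro y'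
    obtain ⟨R, hR, h⟩ := hπ.1 y'
    refine ⟨R, hR, fun V f hf => ?_⟩
    obtain ⟨p, g, hg⟩ := h f hf
    haveI := hg
    have hpV : 𝒲.p.obj p = V := (π.w_obj p).symm.trans (IsHomLift.domain_eq 𝒴'.p f g)
    haveI : 𝒲.p.IsHomLift (𝟙 V) (ε.hom.toNatTrans.app p) := BasedNatTrans.isHomLift ε.hom hpV
    refine ⟨E'.obj p, π.map (ε.hom.toNatTrans.app p) ≫ g, ?_⟩
    infer_instance
  · intro x₁ x₂ b hb
    haveI := hb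
    obtain ⟨R, hR, h⟩ := locSurjHom' hπ.2 (E.obj x₁) (E.obj x₂) (E.w_obj x₁) b
    refine ⟨R, hR, fun V f hf => ?_⟩
    obtain ⟨p₀, φ, ψ, hφ, hψ, e⟩ := h f hf
    haveI := hφ
    haveI := hψ
    have hpV : 𝒲.p.obj p₀ = V := IsHomLift.domain_eq 𝒲.p f φ
    haveI : 𝒲.p.IsHomLift (𝟙 V) (ε.hom.toNatTrans.app p₀) := BasedNatTrans.isHomLift ε.hom hpV
    obtain ⟨φ', hφ'⟩ := E.toFunctor.map_surjective (ε.hom.toNatTrans.app p₀ ≫ φ)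
    obtain ⟨ψ', hψ'⟩ := E.toFunctor.map_surjective (ε.hom.toNatTrans.app p₀ ≫ ψ)
    refine ⟨E'.obj p₀, φ', ψ', ?_, ?_, ?_⟩
    · refine (BasedFunctor.isHomLift_iff E f φ').mp ?_
      show 𝒲.p.IsHomLift f (E.toFunctor.map φ')
      rw [hφ']; infer_instance
    · refine (BasedFunctor.isHomLift_iff E f ψ').mp ?_
      show 𝒲.p.IsHomLift f (E.toFunctor.map ψ')
      rw [hψ']; infer_instance
    · show π.map (E.toFunctor.map φ') ≫ b = π.map (E.toFunctor.map ψ')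
      rw [hφ', hψ', Functor.map_comp, Functor.map_comp, Category.assoc, e]

theorem of_comp_equiv_isGerbeOver (hE : FibCat.IsEquivOver E)
    (h : IsGerbeOver J (BasedFunctor.comp E π)) : IsGerbeOver J π := by
  obtain ⟨E', ⟨η⟩, ⟨ε⟩⟩ := hE
  constructor
  · intro y'
    obtain ⟨R, hR, h1⟩ := h.1 y'
    refine ⟨R, hR, fun V f hf => ?_⟩
    obtain ⟨x', g, hg⟩ := h1 f hf
    exact ⟨E.obj x', g, hg⟩
  · intro p₁ p₂ b hb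
    haveI := hb
    let εn : E'.toFunctor ⋙ E.toFunctor ≅ 𝟭 _ := (BasedNatTrans.forgetful _ _).mapIso ε
    have hε₁ : 𝒲.p.IsHomLift (𝟙 (𝒲.p.obj p₁)) (εn.app p₁).hom :=
      BasedNatTrans.isHomLift ε.hom rfl
    have hp₂ : 𝒲.p.obj p₂ = 𝒲.p.obj p₁ :=
      (π.w_obj p₂).symm.trans (IsHomLift.codomain_eq 𝒴'.p (𝟙 (𝒲.p.obj p₁)) b)
    have hε₂ : 𝒲.p.IsHomLift (𝟙 (𝒲.p.obj p₁)) (εn.app p₂).hom :=
      BasedNatTrans.isHomLift ε.hom hp₂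
    haveI := hε₁
    haveI := hε₂
    haveI : 𝒲.p.IsHomLift (𝟙 (𝒲.p.obj p₁)) (εn.app p₂).inv := inferInstance
    obtain ⟨b', hb'⟩ : ∃ b' : π.obj (E.obj (E'.obj p₁)) ⟶ π.obj (E.obj (E'.obj p₂)),
        b' = π.map (εn.app p₁).hom ≫ b ≫ π.map (εn.app p₂).inv := ⟨_, rfl⟩
    haveI : 𝒴'.p.IsHomLift (𝟙 (𝒲.p.obj p₁)) b' := by
      rw [hb']; infer_instance
    have hx : 𝒳'.p.obj (E'.obj p₁) = 𝒲.p.obj p₁ := E'.w_obj p₁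
    obtain ⟨R, hR, h2⟩ := locSurjHom' h.2 (E'.obj p₁) (E'.obj p₂) hx b'
    refine ⟨R, hR, fun V f hf => ?_⟩
    obtain ⟨x₀, φ', ψ', hφ', hψ', e⟩ := h2 f hf
    haveI := hφ'
    haveI := hψ'
    refine ⟨E.obj x₀, E.map φ' ≫ (εn.app p₁).hom, E.map ψ' ≫ (εn.app p₂).hom,
      inferInstance, inferInstance, ?_⟩
    have e' : π.map (E.map φ') ≫ b' = π.map (E.map ψ') := e
    have hinv : π.map (εn.app p₂).inv ≫ π.map (εn.app p₂).hom = 𝟙 (π.obj p₂) := by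
      rw [← CategoryTheory.Functor.map_comp, Iso.inv_hom_id]
      exact CategoryTheory.Functor.map_id _ _
    rw [Functor.map_comp, Functor.map_comp, Category.assoc, ← e', hb']
    simp only [Category.assoc]
    rw [hinv, Category.comp_id]

end Equiv

/-! ### Descent along a locally essentially surjective base change -/

theorem isIso_of_lift_id (h : FibCat.IsFibGrpd 𝒴.p) {a b : 𝒴.obj} {R : C} (φ : a ⟶ b)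
    [𝒴.p.IsHomLift (𝟙 R) φ] : IsIso φ := by
  haveI : 𝒴.p.IsHomLift (𝟙 R) (𝟙 b) := IsHomLift.id (IsHomLift.codomain_eq 𝒴.p (𝟙 R) φ)
  obtain ⟨θ, _, eθ⟩ := exists_iso_of_lifts h (𝟙 R) φ (𝟙 b)
  have : φ = θ.hom := by rw [← eθ, Category.comp_id]
  rw [this]; infer_instance

theorem descent_locSurjObj (h𝒳 : FibCat.IsFibGrpd 𝒳.p)
    (F : 𝒳 ⥤ᵇ 𝒴) (G : 𝒴' ⥤ᵇ 𝒴) (hG : LocSurjObj J G)
    (hπ : LocSurjObj J (FibCat.fpFst G F)) : LocSurjObj J F := by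
  refine locSurjObj_of_objSieve h𝒳 _ (fun y => ?_)
  obtain ⟨R₁, hR₁, h1⟩ := hG y
  refine J.transitive hR₁ _ ?_
  intro V f hf
  obtain ⟨y', g, hg⟩ := h1 f hf
  haveI := hg
  have hy'V : 𝒴'.p.obj y' = V := (G.w_obj y').symm.trans (IsHomLift.domain_eq 𝒴.p f g)
  obtain ⟨R₂, hR₂, h2⟩ := locSurjObj' hπ y' hy'V
  refine J.superset_covering ?_ hR₂
  intro W h hh
  obtain ⟨P, g', hg'⟩ := h2 h hh
  have hg'' : 𝒴'.p.IsHomLift h (show P.obj.fst ⟶ y' from g') := hg'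
  haveI := hg''
  have hPW : 𝒴'.p.obj P.obj.fst = W := IsHomLift.domain_eq 𝒴'.p h (show P.obj.fst ⟶ y' from g')
  have hθ : 𝒴.p.IsHomLift (𝟙 W) P.obj.iso.hom := isHomLift_id_of_eq _ hPW P.property
  haveI := hθ
  haveI : 𝒴.p.IsHomLift (𝟙 W) P.obj.iso.inv := inferInstance
  show (objSieve h𝒳 F y _).arrows (h ≫ f)
  exact ⟨P.obj.snd, P.obj.iso.inv ≫ G.map (show P.obj.fst ⟶ y' from g') ≫ g, inferInstance⟩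

theorem descent_locSurjHom (h𝒳 : FibCat.IsFibGrpd 𝒳.p) (h𝒴 : FibCat.IsFibGrpd 𝒴.p)
    (F : 𝒳 ⥤ᵇ 𝒴) (G : 𝒴' ⥤ᵇ 𝒴) (hG : LocSurjObj J G)
    (hπ : LocSurjHom J (FibCat.fpFst G F)) : LocSurjHom J F := by
  refine locSurjHom_of_homSieve h𝒳 _ (fun x₁ x₂ b hb => ?_)
  haveI := hb
  have hx₂ : 𝒳.p.obj x₂ = 𝒳.p.obj x₁ :=
    (F.w_obj x₂).symm.trans (IsHomLift.codomain_eq 𝒴.p (𝟙 _) b)
  obtain ⟨R₁, hR₁, h1⟩ := locSurjObj' hG (F.obj x₁) (F.w_obj x₁)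
  refine J.transitive hR₁ _ ?_
  intro V f hf
  obtain ⟨y', g, hg⟩ := h1 f hf
  haveI := hg
  have hy'V : 𝒴'.p.obj y' = V := (G.w_obj y').symm.trans (IsHomLift.domain_eq 𝒴.p f g)
  -- pull back `x₁`, `x₂` along `f`
  obtain ⟨z₁, α₁, hα₁⟩ := h𝒳.exists_lift (x := x₁) f
  haveI := hα₁
  obtain ⟨z₂, α₂, hα₂'⟩ := h𝒳.exists_lift (x := x₂) (f ≫ eqToHom hx₂.symm)
  have hα₂ : 𝒳.p.IsHomLift f α₂ :=
    (IsHomLift.lift_comp_eqToHom_iff 𝒳.p f α₂ hx₂.symm).mp hα₂'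
  haveI := hα₂
  obtain ⟨θ₁, hθ₁, eθ₁⟩ := exists_iso_of_lifts h𝒴 f g (F.map α₁)
  haveI := hθ₁
  haveI : 𝒴.p.IsHomLift (𝟙 V ≫ f) (F.map α₁ ≫ b) := inferInstance
  obtain ⟨bV, hbV, ebV⟩ := exists_factor h𝒴 f (F.map α₂) (𝟙 V) (F.map α₁ ≫ b)
  haveI := hbV
  haveI : IsIso bV := isIso_of_lift_id h𝒴 (R := V) bV
  have hprop₁ : FibCat.fpProp G F ⟨y', z₁, θ₁⟩ := by
    show 𝒴.p.IsHomLift (𝟙 (𝒴'.p.obj y')) θ₁.hom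
    exact isHomLift_id_of_eq θ₁.hom hy'V.symm hθ₁
  have hprop₂ : FibCat.fpProp G F ⟨y', z₂, θ₁ ≪≫ asIso bV⟩ := by
    show 𝒴.p.IsHomLift (𝟙 (𝒴'.p.obj y')) (θ₁.hom ≫ bV)
    exact isHomLift_id_of_eq (θ₁.hom ≫ bV) hy'V.symm inferInstance
  have hid : 𝒴'.p.IsHomLift (𝟙 V) (𝟙 y') := IsHomLift.id hy'V
  obtain ⟨R₂, hR₂, h2⟩ := locSurjHom' hπ (⟨⟨y', z₁, θ₁⟩, hprop₁⟩ : (FibCat.fp G F).obj)
    (⟨⟨y', z₂, θ₁ ≪≫ asIso bV⟩, hprop₂⟩ : (FibCat.fp G F).obj) hy'V (𝟙 y') (hb := hid)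
  refine J.superset_covering ?_ hR₂
  intro W h hh
  obtain ⟨P₀, Φ, Ψ, hΦ, hΨ, eΦΨ⟩ := h2 h hh
  haveI := hΦ
  haveI := hΨ
  have hΦs : 𝒳.p.IsHomLift h Φ.hom.snd :=
    isHomLift_of_map Φ Φ.hom.snd (FibCat.fp_isHomLift_snd G F Φ) h
  have hΨs : 𝒳.p.IsHomLift h Ψ.hom.snd :=
    isHomLift_of_map Ψ Ψ.hom.snd (FibCat.fp_isHomLift_snd G F Ψ) h
  haveI := hΦs
  haveI := hΨs
  have efst : Φ.hom.fst = Ψ.hom.fst := by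
    have h5 : Φ.hom.fst ≫ 𝟙 y' = Ψ.hom.fst := eΦΨ
    rw [Category.comp_id] at h5
    exact h5
  have wΦ : G.map Φ.hom.fst ≫ θ₁.hom = P₀.obj.iso.hom ≫ F.map Φ.hom.snd := Φ.hom.w
  have wΨ : G.map Ψ.hom.fst ≫ θ₁.hom ≫ bV = P₀.obj.iso.hom ≫ F.map Ψ.hom.snd := Ψ.hom.w
  have key : F.map Ψ.hom.snd = F.map Φ.hom.snd ≫ bV := by
    have h3 : P₀.obj.iso.hom ≫ F.map Ψ.hom.snd = P₀.obj.iso.hom ≫ F.map Φ.hom.snd ≫ bV := by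
      rw [← wΨ, ← efst, ← Category.assoc, wΦ, Category.assoc]
    exact (cancel_epi P₀.obj.iso.hom).mp h3
  show (homSieve h𝒳 F x₁ x₂ b _).arrows (h ≫ f)
  refine ⟨P₀.obj.snd, Φ.hom.snd ≫ α₁, Ψ.hom.snd ≫ α₂, inferInstance, inferInstance, ?_⟩
  rw [Functor.map_comp, Functor.map_comp, Category.assoc, ← ebV, key, Category.assoc]

theorem descent_isGerbeOver (h𝒳 : FibCat.IsFibGrpd 𝒳.p) (h𝒴 : FibCat.IsFibGrpd 𝒴.p)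
    (F : 𝒳 ⥤ᵇ 𝒴) (G : 𝒴' ⥤ᵇ 𝒴) (hG : LocSurjObj J G)
    (hπ : IsGerbeOver J (FibCat.fpFst G F)) : IsGerbeOver J F :=
  ⟨descent_locSurjObj h𝒳 F G hG hπ.1, descent_locSurjHom h𝒳 h𝒴 F G hG hπ.2⟩

end Groth.Agent.Helper8.GerbeBC
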