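import Groth.Prelude.Def_StGerb

set_option autoImplicit false
set_option backward.isDefEq.respectTransparency false
set_option backward.isDefEq.respectTransparency.types false

open CategoryTheory Gerb

namespace Groth.Agent.Helper8.GerbeLib

universe v u v₂ u₂ v₃ u₃ v₄ u₄

variable {C : Type u} [Category.{v} C] {J : GrothendieckTopology C}
  {𝒳 : BasedCategory.{v₂, u₂} C} {𝒴 : BasedCategory.{v₃, u₃} C} {𝒵 : BasedCategory.{v₄, u₄} C}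

/-- flexible strongly cartesian factorization in a category fibred in groupoids -/
theorem exists_factor (h : FibCat.IsFibGrpd 𝒴.p) {a a' b : 𝒴.obj} {R R' S : C}
    (f : R ⟶ S) (φ : a ⟶ b) [𝒴.p.IsHomLift f φ] (g : R' ⟶ R) (φ' : a' ⟶ b)
    [𝒴.p.IsHomLift (g ≫ f) φ'] :
    ∃ χ : a' ⟶ a, 𝒴.p.IsHomLift g χ ∧ χ ≫ φ = φ' := by
  have hsc : 𝒴.p.IsStronglyCartesian f φ := by
    subst_hom_lift 𝒴.p f φ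
    exact h.isStronglyCartesian φ
  obtain ⟨χ, ⟨h1, h2⟩, _⟩ :=
    Functor.IsStronglyCartesian.universal_property 𝒴.p f φ g (g ≫ f) rfl φ'
  exact ⟨χ, h1, h2⟩

theorem exists_factor_unique (h : FibCat.IsFibGrpd 𝒴.p) {a a' b : 𝒴.obj} {R R' S : C}
    (f : R ⟶ S) (φ : a ⟶ b) [𝒴.p.IsHomLift f φ] (g : R' ⟶ R)
    (χ χ' : a' ⟶ a) [𝒴.p.IsHomLift g χ] [𝒴.p.IsHomLift g χ'] (e : χ ≫ φ = χ' ≫ φ) : χ = χ' := by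
  have hsc : 𝒴.p.IsStronglyCartesian f φ := by
    subst_hom_lift 𝒴.p f φ
    exact h.isStronglyCartesian φ
  haveI : 𝒴.p.IsHomLift (g ≫ f) (χ' ≫ φ) := inferInstance
  obtain ⟨χ₀, _, hu⟩ :=
    Functor.IsStronglyCartesian.universal_property 𝒴.p f φ g (g ≫ f) rfl (χ' ≫ φ)
  rw [hu χ ⟨inferInstance, e⟩, hu χ' ⟨inferInstance, rfl⟩]

theorem locSurjObj' {F : 𝒳 ⥤ᵇ 𝒴} (hF : LocSurjObj J F) (y : 𝒴.obj) {U : C} (hy : 𝒴.p.obj y = U) :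
    ∃ R ∈ J U, ∀ ⦃V : C⦄ (f : V ⟶ U), R f →
      ∃ (x : 𝒳.obj) (g : F.obj x ⟶ y), 𝒴.p.IsHomLift f g := by
  subst hy; exact hF y

theorem locSurjHom' {F : 𝒳 ⥤ᵇ 𝒴} (hF : LocSurjHom J F) (x x' : 𝒳.obj) {U : C}
    (hx : 𝒳.p.obj x = U) (b : F.obj x ⟶ F.obj x') [hb : 𝒴.p.IsHomLift (𝟙 U) b] :
    ∃ R ∈ J U, ∀ ⦃V : C⦄ (f : V ⟶ U), R f →
      ∃ (x₀ : 𝒳.obj) (φ : x₀ ⟶ x) (ψ : x₀ ⟶ x'),
        𝒳.p.IsHomLift f φ ∧ 𝒳.p.IsHomLift f ψ ∧ F.map φ ≫ b = F.map ψ := by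
  subst hx; exact hF x x' b hb

/-- sieve of arrows along which `y` lifts -/
def objSieve (h𝒳 : FibCat.IsFibGrpd 𝒳.p) (F : 𝒳 ⥤ᵇ 𝒴) (y : 𝒴.obj) (U : C) : Sieve U where
  arrows V f := ∃ (x : 𝒳.obj) (g : F.obj x ⟶ y), 𝒴.p.IsHomLift f g
  downward_closed := by
    rintro V W f ⟨x, g, hg⟩ e
    haveI := hg
    have hxV : 𝒳.p.obj x = V := (F.w_obj x).symm.trans (IsHomLift.domain_eq 𝒴.p f g)
    subst hxV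
    obtain ⟨x', α, hα⟩ := h𝒳.exists_lift (x := x) e
    haveI := hα
    exact ⟨x', F.map α ≫ g, inferInstance⟩

/-- sieve of arrows along which `b` lifts -/
def homSieve (h𝒳 : FibCat.IsFibGrpd 𝒳.p) (F : 𝒳 ⥤ᵇ 𝒴) (x x' : 𝒳.obj)
    (b : F.obj x ⟶ F.obj x') (U : C) : Sieve U where
  arrows V f := ∃ (x₀ : 𝒳.obj) (φ : x₀ ⟶ x) (ψ : x₀ ⟶ x'),
        𝒳.p.IsHomLift f φ ∧ 𝒳.p.IsHomLift f ψ ∧ F.map φ ≫ b = F.map ψ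
  downward_closed := by
    rintro V W f ⟨x₀, φ, ψ, hφ, hψ, h⟩ e
    haveI := hφ
    haveI := hψ
    have hV : 𝒳.p.obj x₀ = V := IsHomLift.domain_eq 𝒳.p f φ
    subst hV
    obtain ⟨x₁, α, hα⟩ := h𝒳.exists_lift (x := x₀) e
    haveI := hα
    refine ⟨x₁, α ≫ φ, α ≫ ψ, inferInstance, inferInstance, ?_⟩
    rw [Functor.map_comp, Functor.map_comp, Category.assoc, h]

theorem locSurjObj_of_objSieve (h𝒳 : FibCat.IsFibGrpd 𝒳.p) (F : 𝒳 ⥤ᵇ 𝒴)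
    (h : ∀ y : 𝒴.obj, objSieve h𝒳 F y (𝒴.p.obj y) ∈ J (𝒴.p.obj y)) : LocSurjObj J F :=
  fun y => ⟨_, h y, fun _ _ hf => hf⟩

theorem objSieve_mem (h𝒳 : FibCat.IsFibGrpd 𝒳.p) {F : 𝒳 ⥤ᵇ 𝒴} (hF : LocSurjObj J F)
    (y : 𝒴.obj) {U : C} (hy : 𝒴.p.obj y = U) : objSieve h𝒳 F y U ∈ J U := by
  obtain ⟨R, hR, h⟩ := locSurjObj' hF y hy
  exact J.superset_covering (fun V f hf => h f hf) hR

theorem locSurjHom_of_homSieve (h𝒳 : FibCat.IsFibGrpd 𝒳.p) (F : 𝒳 ⥤ᵇ 𝒴)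
    (h : ∀ (x x' : 𝒳.obj) (b : F.obj x ⟶ F.obj x'), 𝒴.p.IsHomLift (𝟙 (𝒳.p.obj x)) b →
      homSieve h𝒳 F x x' b (𝒳.p.obj x) ∈ J (𝒳.p.obj x)) : LocSurjHom J F :=
  fun x x' b hb => ⟨_, h x x' b hb, fun _ _ hf => hf⟩

theorem homSieve_mem (h𝒳 : FibCat.IsFibGrpd 𝒳.p) {F : 𝒳 ⥤ᵇ 𝒴} (hF : LocSurjHom J F)
    (x x' : 𝒳.obj) {U : C} (hx : 𝒳.p.obj x = U) (b : F.obj x ⟶ F.obj x')
    [𝒴.p.IsHomLift (𝟙 U) b] : homSieve h𝒳 F x x' b U ∈ J U := by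
  obtain ⟨R, hR, h⟩ := locSurjHom' hF x x' hx b
  exact J.superset_covering (fun V f hf => h f hf) hR

theorem comp_locSurjObj (h𝒳 : FibCat.IsFibGrpd 𝒳.p) (F : 𝒳 ⥤ᵇ 𝒴) (G : 𝒴 ⥤ᵇ 𝒵)
    (hF : LocSurjObj J F) (hG : LocSurjObj J G) : LocSurjObj J (BasedFunctor.comp F G) := by
  refine locSurjObj_of_objSieve h𝒳 _ (fun z => ?_)
  obtain ⟨R₁, hR₁, h1⟩ := hG z
  refine J.transitive hR₁ _ ?_
  intro V f hf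
  obtain ⟨y, g₁, hg₁⟩ := h1 f hf
  haveI := hg₁
  have hyV : 𝒴.p.obj y = V := (G.w_obj y).symm.trans (IsHomLift.domain_eq 𝒵.p f g₁)
  obtain ⟨R₂, hR₂, h2⟩ := locSurjObj' hF y hyV
  refine J.superset_covering ?_ hR₂
  intro W h hh
  obtain ⟨x, g₂, hg₂⟩ := h2 h hh
  haveI := hg₂
  show (objSieve h𝒳 (BasedFunctor.comp F G) z _).arrows (h ≫ f)
  exact ⟨x, G.map g₂ ≫ g₁, inferInstance⟩

theorem comp_locSurjHom (h𝒳 : FibCat.IsFibGrpd 𝒳.p) (h𝒴 : FibCat.IsFibGrpd 𝒴.p)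
    (F : 𝒳 ⥤ᵇ 𝒴) (G : 𝒴 ⥤ᵇ 𝒵)
    (hF : IsGerbeOver J F) (hG : LocSurjHom J G) : LocSurjHom J (BasedFunctor.comp F G) := by
  refine locSurjHom_of_homSieve h𝒳 _ (fun x x' c hc => ?_)
  haveI := hc
  have hx' : 𝒳.p.obj x' = 𝒳.p.obj x :=
    ((BasedFunctor.comp F G).w_obj x').symm.trans (IsHomLift.codomain_eq 𝒵.p (𝟙 _) c)
  obtain ⟨R₁, hR₁, h1⟩ := locSurjHom' hG (F.obj x) (F.obj x') (F.w_obj x) c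
  refine J.transitive hR₁ _ ?_
  intro V f hf
  obtain ⟨y₀, φ₁, ψ₁, hφ₁, hψ₁, e1⟩ := h1 f hf
  haveI := hφ₁
  haveI := hψ₁
  have hy₀ : 𝒴.p.obj y₀ = V := IsHomLift.domain_eq 𝒴.p f φ₁
  obtain ⟨R₂, hR₂, h2⟩ := locSurjObj' hF.1 y₀ hy₀
  refine J.transitive hR₂ _ ?_
  intro W h hh
  obtain ⟨x₁, g, hg⟩ := h2 h hh
  haveI := hg
  have hx₁ : 𝒳.p.obj x₁ = W := (F.w_obj x₁).symm.trans (IsHomLift.domain_eq 𝒴.p h g)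
  obtain ⟨xW, α, hα⟩ := h𝒳.exists_lift (x := x) (h ≫ f)
  haveI := hα
  obtain ⟨b₁, hb₁, eb₁⟩ := exists_factor h𝒴 (h ≫ f) (F.map α) (𝟙 W) (g ≫ φ₁)
  haveI := hb₁
  obtain ⟨R₃, hR₃, h3⟩ := locSurjHom' hF.2 x₁ xW hx₁ b₁
  refine J.transitive hR₃ _ ?_
  intro W' k hk
  obtain ⟨x₂, φ₂, ψ₂, hφ₂, hψ₂, e2⟩ := h3 k hk
  haveI := hφ₂
  haveI := hψ₂
  have hx₂ : 𝒳.p.obj x₂ = W' := IsHomLift.domain_eq 𝒳.p k φ₂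
  obtain ⟨xW', α', hα'⟩ := h𝒳.exists_lift (x := x') ((k ≫ h ≫ f) ≫ eqToHom hx'.symm)
  have hα'' : 𝒳.p.IsHomLift (k ≫ h ≫ f) α' :=
    (IsHomLift.lift_comp_eqToHom_iff 𝒳.p (k ≫ h ≫ f) α' hx'.symm).mp hα'
  haveI := hα''
  obtain ⟨b₂, hb₂, eb₂⟩ := exists_factor h𝒴 (k ≫ h ≫ f) (F.map α') (𝟙 W')
    (F.map φ₂ ≫ g ≫ ψ₁)
  haveI := hb₂
  obtain ⟨R₄, hR₄, h4⟩ := locSurjHom' hF.2 x₂ xW' hx₂ b₂
  refine J.superset_covering ?_ hR₄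
  intro W'' l hl
  obtain ⟨x₃, φ₃, ψ₃, hφ₃, hψ₃, e3⟩ := h4 l hl
  haveI := hφ₃
  haveI := hψ₃
  show (homSieve h𝒳 (BasedFunctor.comp F G) x x' c _).arrows (((l ≫ k) ≫ h) ≫ f)
  have hassoc : ((l ≫ k) ≫ h) ≫ f = l ≫ k ≫ h ≫ f := by simp only [Category.assoc]
  rw [hassoc]
  have k1 : F.map (φ₃ ≫ ψ₂ ≫ α) = (F.map φ₃ ≫ F.map φ₂ ≫ g) ≫ φ₁ := by
    rw [Functor.map_comp, Functor.map_comp, ← e2]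
    simp only [Category.assoc]
    rw [eb₁]
  have k2 : F.map (ψ₃ ≫ α') = (F.map φ₃ ≫ F.map φ₂ ≫ g) ≫ ψ₁ := by
    rw [Functor.map_comp, ← e3]
    simp only [Category.assoc]
    rw [eb₂]
  refine ⟨x₃, φ₃ ≫ ψ₂ ≫ α, ψ₃ ≫ α', inferInstance, inferInstance, ?_⟩
  show G.map (F.map (φ₃ ≫ ψ₂ ≫ α)) ≫ c = G.map (F.map (ψ₃ ≫ α'))
  rw [k1, k2, Functor.map_comp, Category.assoc, e1, ← Functor.map_comp]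

theorem comp_isGerbeOver (h𝒳 : FibCat.IsFibGrpd 𝒳.p) (h𝒴 : FibCat.IsFibGrpd 𝒴.p)
    (F : 𝒳 ⥤ᵇ 𝒴) (G : 𝒴 ⥤ᵇ 𝒵)
    (hF : IsGerbeOver J F) (hG : IsGerbeOver J G) : IsGerbeOver J (BasedFunctor.comp F G) :=
  ⟨comp_locSurjObj h𝒳 F G hF.1 hG.1, comp_locSurjHom h𝒳 h𝒴 F G hF hG.2⟩

end Groth.Agent.Helper8.GerbeLib
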