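import Mathlib
import Groth.Prelude.Def_CAlg
import Groth.Agent.Helper8.CMGlue
import Groth.Agent.Helper5.FtDim4

/-!
# Graded algebras over a field: the irrelevant ideal computes the dimension

For a Noetherian `ℕ`-graded algebra `A` over a field `K` with `A₀ = K`, proper homogeneous ideals lie in
the irrelevant ideal `A₊`, which is maximal; `A` is of finite type over `K`; and for a proper homogeneous
ideal `I` the height of `A₊ / I` is the dimension of `A / I`.  We use this to glue Cohen–Macaulay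
quotients at the irrelevant ideal.
-/

set_option autoImplicit false

universe u v

open DirectSum IsLocalRing

namespace Groth.Agent.Helper8.GrIrr

/-- Heights of maximal ideals of a finite type domain over a field (any universes). -/
theorem height_of_isMaximal' {K : Type u} [Field K] {D : Type v} [CommRing D] [IsDomain D]
    [Algebra K D] [Algebra.FiniteType K D] (m : Ideal D) [m.IsMaximal] :
    (m.height : WithBot ℕ∞) = ringKrullDim D := by
  let f : K →+* D := algebraMap K D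
  have hinj : Function.Injective f.rangeRestrict := by
    intro x y hxy
    apply f.injective
    exact congrArg Subtype.val hxy
  let φ : K ≃+* f.range :=
    RingEquiv.ofBijective f.rangeRestrict ⟨hinj, f.rangeRestrict_surjective⟩
  have hF : IsField f.range := φ.symm.toMulEquiv.isField (Field.toIsField K)
  letI : Field f.range := hF.toField
  letI : Algebra K f.range := f.rangeRestrict.toAlgebra
  haveI : IsScalarTower K f.range D := IsScalarTower.of_algebraMap_eq (fun x => rfl)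
  haveI : Algebra.FiniteType f.range D :=
    Algebra.FiniteType.of_restrictScalars_finiteType K f.range D
  exact Groth.Agent.Helper5.FtDim.height_of_isMaximal f.range D m

/-- Heights do not decrease under contraction along a surjection. -/
theorem height_le_comap {R S : Type*} [CommRing R] [CommRing S] (f : R →+* S)
    (hf : Function.Surjective f) (p : Ideal S) [hp : p.IsPrime] :
    p.height ≤ (p.comap f).height := by
  have h1 := PrimeSpectrum.height_eq_orderHeight (⟨p, hp⟩ : PrimeSpectrum S)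
  have h2 := PrimeSpectrum.height_eq_orderHeight (PrimeSpectrum.comap f ⟨p, hp⟩)
  change p.height = _ at h1
  change (p.comap f).height = _ at h2
  rw [h1, h2]
  apply Order.height_le_height_apply_of_strictMono (PrimeSpectrum.comap f)
  intro a b hab
  refine lt_of_le_of_ne ?_
    (fun h => hab.ne (PrimeSpectrum.comap_injective_of_surjective f hf h))
  exact Ideal.comap_mono hab.le

section graded

variable {K : Type u} [Field K] {A : Type v} [CommRing A] [Algebra K A]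
  (𝒜 : ℕ → Submodule K A) [GradedAlgebra 𝒜]
  (h0 : ∀ a ∈ 𝒜 0, ∃ c : K, algebraMap K A c = a)

include h0

theorem le_irrelevant {I : Ideal A} (hI : I.IsHomogeneous 𝒜) (hne : I ≠ ⊤) :
    I ≤ (HomogeneousIdeal.irrelevant 𝒜).toIdeal := by
  intro a ha
  show a ∈ HomogeneousIdeal.irrelevant 𝒜
  rw [HomogeneousIdeal.mem_irrelevant_iff, GradedRing.proj_apply]
  have h1 : (decompose 𝒜 a 0 : A) ∈ I := hI 0 ha
  obtain ⟨c, hc⟩ := h0 _ (decompose 𝒜 a 0).2
  by_contra hne0
  apply hne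
  have hc0 : c ≠ 0 := by
    rintro rfl
    rw [map_zero] at hc
    exact hne0 hc.symm
  rw [Ideal.eq_top_iff_one]
  have h2 : (1 : A) = algebraMap K A c⁻¹ * (decompose 𝒜 a 0 : A) := by
    rw [← hc, ← map_mul, inv_mul_cancel₀ hc0, map_one]
  rw [h2]
  exact I.mul_mem_left _ h1

theorem irrelevant_isMaximal (hne : (HomogeneousIdeal.irrelevant 𝒜).toIdeal ≠ ⊤) :
    (HomogeneousIdeal.irrelevant 𝒜).toIdeal.IsMaximal := by
  rw [Ideal.isMaximal_iff]
  refine ⟨fun h1 => hne ((Ideal.eq_top_iff_one _).mpr h1), ?_⟩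
  intro J x hJ hx hxJ
  have hx0 : (decompose 𝒜 x 0 : A) ≠ 0 := by
    intro h
    apply hx
    show x ∈ HomogeneousIdeal.irrelevant 𝒜
    rw [HomogeneousIdeal.mem_irrelevant_iff, GradedRing.proj_apply]
    exact h
  obtain ⟨c, hc⟩ := h0 _ (decompose 𝒜 x 0).2
  have hc0 : c ≠ 0 := by
    rintro rfl
    rw [map_zero] at hc
    exact hx0 hc.symm
  have h3 : x - (decompose 𝒜 x 0 : A) ∈ (HomogeneousIdeal.irrelevant 𝒜).toIdeal := by
    show _ ∈ HomogeneousIdeal.irrelevant 𝒜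
    rw [HomogeneousIdeal.mem_irrelevant_iff, map_sub, sub_eq_zero, GradedRing.proj_apply,
      GradedRing.proj_apply]
    exact (decompose_of_mem_same 𝒜 (decompose 𝒜 x 0).2).symm
  have h4 : (decompose 𝒜 x 0 : A) ∈ J := by
    have := J.sub_mem hxJ (hJ h3)
    rwa [sub_sub_cancel] at this
  have h5 : (1 : A) = algebraMap K A c⁻¹ * (decompose 𝒜 x 0 : A) := by
    rw [← hc, ← map_mul, inv_mul_cancel₀ hc0, map_one]
  rw [h5]
  exact J.mul_mem_left _ h4

theorem finiteType [IsNoetherianRing A] : Algebra.FiniteType K A := by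
  classical
  have hfg : (Submodule.span A (⋃ i > 0, (𝒜 i : Set A))).FG := IsNoetherian.noetherian _
  obtain ⟨T, hTsub, hTspan⟩ := (Submodule.fg_span_iff_fg_span_finset_subset _).mp hfg
  have hdeg : ∀ t ∈ T, ∃ d : ℕ, 0 < d ∧ t ∈ 𝒜 d := by
    intro t ht
    have h1 := hTsub ht
    simp only [Set.mem_iUnion] at h1
    obtain ⟨i, hi, hti⟩ := h1
    exact ⟨i, hi, hti⟩
  choose! d hd using hdeg
  have key : ∀ n : ℕ, ∀ a ∈ 𝒜 n, a ∈ Algebra.adjoin K (T : Set A) := by
    intro n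
    induction n using Nat.strong_induction_on with
    | _ n ih =>
      intro a ha
      rcases Nat.eq_zero_or_pos n with rfl | hn
      · obtain ⟨c, rfl⟩ := h0 a ha
        exact Subalgebra.algebraMap_mem _ c
      · have haM : a ∈ Submodule.span A (T : Set A) := by
          rw [← hTspan]
          exact Submodule.subset_span (Set.mem_iUnion₂.mpr ⟨n, hn, ha⟩)
        obtain ⟨f, -, hsum⟩ := Submodule.mem_span_finset.mp haM
        have h1 : a = GradedRing.proj 𝒜 n a := by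
          rw [GradedRing.proj_apply, decompose_of_mem_same 𝒜 ha]
        rw [h1, ← hsum, map_sum]
        refine Subalgebra.sum_mem _ (fun t ht => ?_)
        rw [smul_eq_mul, GradedRing.proj_apply]
        by_cases hle : d t ≤ n
        · rw [coe_decompose_mul_of_right_mem_of_le 𝒜 (hd t ht).2 hle]
          refine Subalgebra.mul_mem _ ?_ (Algebra.subset_adjoin ht)
          exact ih (n - d t) (Nat.sub_lt hn (hd t ht).1) _ (decompose 𝒜 (f t) (n - d t)).2
        · rw [coe_decompose_mul_of_right_mem_of_not_le 𝒜 (hd t ht).2 hle]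
          exact Subalgebra.zero_mem _
  refine ⟨⟨T, ?_⟩⟩
  rw [eq_top_iff]
  intro a _
  rw [← sum_support_decompose 𝒜 a]
  exact Subalgebra.sum_mem _ (fun i _ => key i _ (decompose 𝒜 a i).2)

theorem ne_top_of_dim {𝔞 : Ideal A} (n : ℕ) (hdim : ringKrullDim (A ⧸ 𝔞) = (n : WithBot ℕ∞)) :
    𝔞 ≠ ⊤ := by
  rintro rfl
  haveI : Subsingleton (A ⧸ (⊤ : Ideal A)) := Ideal.Quotient.subsingleton_iff.mpr rfl
  rw [ringKrullDim_eq_bot_of_subsingleton] at hdim
  exact WithBot.bot_ne_coe hdim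

theorem height_irrelevant_quot [IsNoetherianRing A] {I : Ideal A} (hI : I.IsHomogeneous 𝒜)
    (e : ℕ) (hdim : ringKrullDim (A ⧸ I) = (e : WithBot ℕ∞))
    [hM : (HomogeneousIdeal.irrelevant 𝒜).toIdeal.IsMaximal] :
    ((HomogeneousIdeal.irrelevant 𝒜).toIdeal.map (Ideal.Quotient.mk I)).height = (e : ℕ∞) := by
  obtain ⟨M₀, hM₀⟩ : ∃ M : Ideal A, M = (HomogeneousIdeal.irrelevant 𝒜).toIdeal := ⟨_, rfl⟩
  rw [← hM₀]
  haveI hMmax : M₀.IsMaximal := hM₀ ▸ hM
  haveI : Algebra.FiniteType K A := finiteType 𝒜 h0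
  have hIne : I ≠ ⊤ := ne_top_of_dim 𝒜 h0 e hdim
  haveI : Nontrivial (A ⧸ I) := Ideal.Quotient.nontrivial_iff.mpr hIne
  have hIM : I ≤ M₀ := hM₀ ▸ le_irrelevant 𝒜 h0 hI hIne
  obtain ⟨P, hP⟩ : ∃ P : Ideal (A ⧸ I), P = M₀.map (Ideal.Quotient.mk I) := ⟨_, rfl⟩
  rw [← hP]
  haveI hPprime : P.IsPrime := hP ▸ Ideal.isPrime_map_quotientMk_of_isPrime hIM
  apply le_antisymm
  · have h1 : (P.height : WithBot ℕ∞) ≤ ringKrullDim (A ⧸ I) :=
      Ideal.height_le_ringKrullDim_of_ne_top hPprime.ne_top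
    rw [hdim] at h1
    exact_mod_cast h1
  · obtain ⟨l, hl⟩ := Order.le_krullDim_iff.mp (le_of_eq hdim.symm)
    obtain ⟨q', hq'min, hq'le⟩ := Ideal.exists_minimalPrimes_le
      (I := (⊥ : Ideal (A ⧸ I))) (J := l.head.asIdeal) bot_le
    haveI hq'prime : q'.IsPrime := hq'min.1.1
    have h2 : (e : ℕ∞) ≤ Order.coheight (⟨q', hq'prime⟩ : PrimeSpectrum (A ⧸ I)) := by
      rw [← hl]
      exact Order.length_le_coheight (x := (⟨q', hq'prime⟩ : PrimeSpectrum (A ⧸ I))) hq'le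
    have h3 : ringKrullDim ((A ⧸ I) ⧸ q') =
        (Order.coheight (⟨q', hq'prime⟩ : PrimeSpectrum (A ⧸ I)) : ℕ∞) :=
      Groth.Agent.Helper5.FtDim.ringKrullDim_quotient_eq_coheight
        (⟨q', hq'prime⟩ : PrimeSpectrum (A ⧸ I))
    -- the contraction of `q'` lies in the irrelevant ideal
    obtain ⟨q, hq⟩ : ∃ q : Ideal A, q = q'.comap (Ideal.Quotient.mk I) := ⟨_, rfl⟩
    haveI hqprime : q.IsPrime := hq ▸ Ideal.comap_isPrime _ _
    have hIq : I ≤ q := by
      intro x hx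
      rw [hq, Ideal.mem_comap, Ideal.Quotient.eq_zero_iff_mem.mpr hx]
      exact zero_mem _
    haveI hqsprime : (q.homogeneousCore 𝒜).toIdeal.IsPrime := Ideal.IsPrime.homogeneousCore hqprime
    have hIqs : I ≤ (q.homogeneousCore 𝒜).toIdeal :=
      calc I = (I.homogeneousCore 𝒜).toIdeal := hI.toIdeal_homogeneousCore_eq_self.symm
        _ ≤ _ := Ideal.homogeneousCore'_mono 𝒜 hIq
    have hqsq : (q.homogeneousCore 𝒜).toIdeal ≤ q := Ideal.toIdeal_homogeneousCore_le 𝒜 q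
    haveI hmapprime : ((q.homogeneousCore 𝒜).toIdeal.map (Ideal.Quotient.mk I)).IsPrime :=
      Ideal.isPrime_map_quotientMk_of_isPrime hIqs
    have hmaple : (q.homogeneousCore 𝒜).toIdeal.map (Ideal.Quotient.mk I) ≤ q' := by
      rw [Ideal.map_le_iff_le_comap, ← hq]
      exact hqsq
    have hq'le2 : q' ≤ (q.homogeneousCore 𝒜).toIdeal.map (Ideal.Quotient.mk I) :=
      hq'min.2 ⟨hmapprime, bot_le⟩ hmaple
    have hqM : q ≤ M₀ := by
      have h4 : q ≤ (q.homogeneousCore 𝒜).toIdeal := by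
        intro x hx
        have h5 : Ideal.Quotient.mk I x ∈
            (q.homogeneousCore 𝒜).toIdeal.map (Ideal.Quotient.mk I) := by
          apply hq'le2
          rw [hq] at hx
          exact hx
        have h6 : x ∈ ((q.homogeneousCore 𝒜).toIdeal.map (Ideal.Quotient.mk I)).comap
            (Ideal.Quotient.mk I) := h5
        rw [Ideal.comap_map_of_surjective' _ Ideal.Quotient.mk_surjective, Ideal.mk_ker,
          sup_of_le_left hIqs] at h6
        exact h6
      refine h4.trans ?_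
      rw [hM₀]
      exact le_irrelevant 𝒜 h0 (q.homogeneousCore 𝒜).isHomogeneous hqsprime.ne_top
    have hq'P : q' ≤ P := by
      have h4 : q' = q.map (Ideal.Quotient.mk I) := by
        rw [hq, Ideal.map_comap_of_surjective _ Ideal.Quotient.mk_surjective]
      rw [h4, hP]
      exact Ideal.map_mono hqM
    -- the maximal ideal of the domain `(A ⧸ I) ⧸ q'`
    haveI hPmax : P.IsMaximal := by
      rcases Ideal.map_eq_top_or_isMaximal_of_surjective (Ideal.Quotient.mk I)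
        Ideal.Quotient.mk_surjective hMmax with h | h
      · exact absurd (hP ▸ h) hPprime.ne_top
      · exact hP ▸ h
    haveI hmprime : (P.map (Ideal.Quotient.mk q')).IsPrime :=
      Ideal.isPrime_map_quotientMk_of_isPrime hq'P
    haveI hmmax : (P.map (Ideal.Quotient.mk q')).IsMaximal := by
      rcases Ideal.map_eq_top_or_isMaximal_of_surjective (Ideal.Quotient.mk q')
        Ideal.Quotient.mk_surjective hPmax with h | h
      · exact absurd h hmprime.ne_top
      · exact h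
    haveI : Algebra.FiniteType K (A ⧸ I) :=
      Algebra.FiniteType.of_surjective (Ideal.Quotient.mkₐ K I) (Ideal.Quotient.mkₐ_surjective K I)
    haveI : Algebra.FiniteType K ((A ⧸ I) ⧸ q') :=
      Algebra.FiniteType.of_surjective (Ideal.Quotient.mkₐ K q')
        (Ideal.Quotient.mkₐ_surjective K q')
    have h7 := height_of_isMaximal' (K := K) (P.map (Ideal.Quotient.mk q'))
    rw [h3] at h7
    have h8 : (P.map (Ideal.Quotient.mk q')).height =
        Order.coheight (⟨q', hq'prime⟩ : PrimeSpectrum (A ⧸ I)) := WithBot.coe_injective h7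
    have h9 := height_le_comap (Ideal.Quotient.mk q') Ideal.Quotient.mk_surjective
      (P.map (Ideal.Quotient.mk q'))
    rw [Ideal.comap_map_of_surjective' _ Ideal.Quotient.mk_surjective, Ideal.mk_ker,
      sup_of_le_left hq'P, h8] at h9
    exact h2.trans h9

end graded

section bridge

variable {S : Type u} [CommRing S] [IsNoetherianRing S] (M₀ : Ideal S) [M₀.IsPrime]

theorem nonempty_locEquiv (𝔞 : Ideal S) (h𝔞 : 𝔞 ≤ M₀)
    [hm : (M₀.map (Ideal.Quotient.mk 𝔞)).IsPrime] :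
    Nonempty ((Localization.AtPrime M₀ ⧸ 𝔞.map (algebraMap S (Localization.AtPrime M₀))) ≃+*
      Localization.AtPrime (M₀.map (Ideal.Quotient.mk 𝔞))) := by
  haveI hloc : IsLocalization (Algebra.algebraMapSubmonoid (S ⧸ 𝔞) M₀.primeCompl)
      (Localization.AtPrime M₀ ⧸ 𝔞.map (algebraMap S (Localization.AtPrime M₀))) := inferInstance
  rw [CMGlue.primeCompl_eq M₀ 𝔞 h𝔞] at hloc
  exact ⟨(IsLocalization.algEquiv (M₀.map (Ideal.Quotient.mk 𝔞)).primeCompl
      (Localization.AtPrime M₀ ⧸ 𝔞.map (algebraMap S (Localization.AtPrime M₀)))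
      (Localization.AtPrime (M₀.map (Ideal.Quotient.mk 𝔞)))).toRingEquiv⟩

theorem cmq_of_cmLocal (𝔞 : Ideal S) (h𝔞 : 𝔞 ≤ M₀)
    [hm : (M₀.map (Ideal.Quotient.mk 𝔞)).IsPrime] (e : ℕ)
    (hcm : LocCoh.IsCohenMacaulayLocalRing (Localization.AtPrime (M₀.map (Ideal.Quotient.mk 𝔞))))
    (hdim : ringKrullDim (Localization.AtPrime (M₀.map (Ideal.Quotient.mk 𝔞))) =
      (e : WithBot ℕ∞)) :
    CMGlue.CMq (𝔞.map (algebraMap S (Localization.AtPrime M₀))) e := by
  obtain ⟨φ⟩ := nonempty_locEquiv M₀ 𝔞 h𝔞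
  obtain ⟨𝔟, h𝔟⟩ : ∃ 𝔟 : Ideal (Localization.AtPrime M₀),
      𝔟 = 𝔞.map (algebraMap S (Localization.AtPrime M₀)) := ⟨_, rfl⟩
  rw [← h𝔟] at φ ⊢
  have hQ : LocCoh.IsCohenMacaulayLocalRing (Localization.AtPrime M₀ ⧸ 𝔟) :=
    GrLG.cmLocal_of_ringEquiv φ.symm hcm
  have hdimQ : ringKrullDim (Localization.AtPrime M₀ ⧸ 𝔟) = (e : WithBot ℕ∞) := by
    rw [ringKrullDim_eq_of_ringEquiv φ]
    exact hdim
  haveI : IsLocalRing (Localization.AtPrime M₀ ⧸ 𝔟) := hQ.toIsLocalRing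
  haveI : IsLocalHom (algebraMap (Localization.AtPrime M₀) (Localization.AtPrime M₀ ⧸ 𝔟)) :=
    IsLocalHom.of_surjective _ Ideal.Quotient.mk_surjective
  have h1 := hQ.supportDim_eq_depth
  rw [Module.supportDim_self_eq_ringKrullDim, hdimQ] at h1
  constructor
  · rw [Module.supportDim_quotient_eq_ringKrullDim]
    exact hdimQ
  · rw [Groth.Agent.Helper2.RegCM.depth_eq_of_isLocalHom (Localization.AtPrime M₀)
      (Localization.AtPrime M₀ ⧸ 𝔟) (Localization.AtPrime M₀ ⧸ 𝔟)]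
    have h2 : ((e : ℕ∞) : WithBot ℕ∞) =
        ((LocCoh.depth (Localization.AtPrime M₀ ⧸ 𝔟) (Localization.AtPrime M₀ ⧸ 𝔟) : ℕ∞) :
          WithBot ℕ∞) := h1
    exact (WithBot.coe_injective h2).symm

end bridge

section final

variable {K : Type u} [Field K] {A : Type v} [CommRing A] [Algebra K A] [IsNoetherianRing A]
  (𝒜 : ℕ → Submodule K A) [GradedAlgebra 𝒜]
  (h0 : ∀ a ∈ 𝒜 0, ∃ c : K, algebraMap K A c = a)

include h0

theorem cmq_of_cm [hMmax : (HomogeneousIdeal.irrelevant 𝒜).toIdeal.IsMaximal]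
    [hMp : (HomogeneousIdeal.irrelevant 𝒜).toIdeal.IsPrime]
    {𝔞 : Ideal A} (h𝔞 : 𝔞.IsHomogeneous 𝒜) (n : ℕ)
    (hcm : LocCoh.IsCohenMacaulayRing (A ⧸ 𝔞))
    (hdim : ringKrullDim (A ⧸ 𝔞) = (n : WithBot ℕ∞)) :
    CMGlue.CMq (𝔞.map (algebraMap A
      (Localization.AtPrime (HomogeneousIdeal.irrelevant 𝒜).toIdeal))) n := by
  have hne : 𝔞 ≠ ⊤ := ne_top_of_dim 𝒜 h0 n hdim
  have hle : 𝔞 ≤ (HomogeneousIdeal.irrelevant 𝒜).toIdeal := le_irrelevant 𝒜 h0 h𝔞 hne
  haveI hP : ((HomogeneousIdeal.irrelevant 𝒜).toIdeal.map (Ideal.Quotient.mk 𝔞)).IsPrime :=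
    Ideal.isPrime_map_quotientMk_of_isPrime hle
  have hht := height_irrelevant_quot 𝒜 h0 h𝔞 n hdim
  have hloc := hcm.isCohenMacaulayLocalRing_localization
    ((HomogeneousIdeal.irrelevant 𝒜).toIdeal.map (Ideal.Quotient.mk 𝔞))
  have hdimloc := IsLocalization.AtPrime.ringKrullDim_eq_height
    ((HomogeneousIdeal.irrelevant 𝒜).toIdeal.map (Ideal.Quotient.mk 𝔞))
    (Localization.AtPrime ((HomogeneousIdeal.irrelevant 𝒜).toIdeal.map (Ideal.Quotient.mk 𝔞)))
  refine cmq_of_cmLocal (HomogeneousIdeal.irrelevant 𝒜).toIdeal 𝔞 hle n hloc ?_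
  rw [hdimloc, hht]
  rfl

theorem main (I J : Ideal A) (hI : I.IsHomogeneous 𝒜)
    (hJ : J.IsHomogeneous 𝒜) (e : ℕ) (he : 1 ≤ e)
    (hIcm : LocCoh.IsCohenMacaulayRing (A ⧸ I)) (hJcm : LocCoh.IsCohenMacaulayRing (A ⧸ J))
    (hIJcm : LocCoh.IsCohenMacaulayRing (A ⧸ (I ⊔ J)))
    (hIdim : ringKrullDim (A ⧸ I) = (e : WithBot ℕ∞))
    (hJdim : ringKrullDim (A ⧸ J) = (e : WithBot ℕ∞))
    (hIJdim : ringKrullDim (A ⧸ (I ⊔ J)) = ((e - 1 : ℕ) : WithBot ℕ∞))
    [hm : ((HomogeneousIdeal.irrelevant 𝒜).toIdeal.map (Ideal.Quotient.mk (I ⊓ J))).IsPrime] :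
    LocCoh.IsCohenMacaulayLocalRing (Localization.AtPrime
        ((HomogeneousIdeal.irrelevant 𝒜).toIdeal.map (Ideal.Quotient.mk (I ⊓ J)))) ∧
      ringKrullDim (Localization.AtPrime
        ((HomogeneousIdeal.irrelevant 𝒜).toIdeal.map (Ideal.Quotient.mk (I ⊓ J)))) =
          (e : WithBot ℕ∞) := by
  have hIne : I ≠ ⊤ := ne_top_of_dim 𝒜 h0 e hIdim
  have hIM : I ≤ (HomogeneousIdeal.irrelevant 𝒜).toIdeal := le_irrelevant 𝒜 h0 hI hIne
  have hinf : I ⊓ J ≤ (HomogeneousIdeal.irrelevant 𝒜).toIdeal := inf_le_left.trans hIM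
  have hcomap : ((HomogeneousIdeal.irrelevant 𝒜).toIdeal.map
      (Ideal.Quotient.mk (I ⊓ J))).comap (Ideal.Quotient.mk (I ⊓ J)) =
      (HomogeneousIdeal.irrelevant 𝒜).toIdeal := by
    rw [Ideal.comap_map_of_surjective' _ Ideal.Quotient.mk_surjective, Ideal.mk_ker,
      sup_of_le_left hinf]
  haveI hMprime : (HomogeneousIdeal.irrelevant 𝒜).toIdeal.IsPrime := by
    have := Ideal.comap_isPrime (Ideal.Quotient.mk (I ⊓ J))
      ((HomogeneousIdeal.irrelevant 𝒜).toIdeal.map (Ideal.Quotient.mk (I ⊓ J)))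
    rwa [hcomap] at this
  haveI hMmax : (HomogeneousIdeal.irrelevant 𝒜).toIdeal.IsMaximal :=
    irrelevant_isMaximal 𝒜 h0 hMprime.ne_top
  have h1 := cmq_of_cm 𝒜 h0 hI e hIcm hIdim
  have h2 := cmq_of_cm 𝒜 h0 hJ e hJcm hJdim
  have h3 := cmq_of_cm 𝒜 h0 (hI.sup hJ) (e - 1) hIJcm hIJdim
  rw [Ideal.map_sup] at h3
  have h4 := CMGlue.cmq_inf _ _ e he h1 h2 h3
  rw [← IsLocalization.map_inf (HomogeneousIdeal.irrelevant 𝒜).toIdeal.primeCompl
    (Localization.AtPrime (HomogeneousIdeal.irrelevant 𝒜).toIdeal)] at h4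
  refine ⟨CMGlue.cmLocal_of_cmq (HomogeneousIdeal.irrelevant 𝒜).toIdeal (I ⊓ J) hinf e h4, ?_⟩
  obtain ⟨φ⟩ := nonempty_locEquiv (HomogeneousIdeal.irrelevant 𝒜).toIdeal (I ⊓ J) hinf
  rw [← ringKrullDim_eq_of_ringEquiv φ, ← Module.supportDim_quotient_eq_ringKrullDim]
  exact h4.1

end final

end Groth.Agent.Helper8.GrIrr
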