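import Mathlib

/-!
# Graded Skolem–Noether for endomorphism algebras of graded vector spaces (for S13846)
-/

open Module

namespace Groth.Agent.Helper8.GrSN

variable {k : Type*} [Field k]

section proj

variable {V : Type*} [AddCommGroup V] [Module k V] (𝒱 : ℤ → Submodule k V)
  (h𝒱 : DirectSum.IsInternal 𝒱)

/-- projection to a graded piece -/
noncomputable def proj (i : ℤ) : V →ₗ[k] 𝒱 i :=
  (DirectSum.component k ℤ (fun i => 𝒱 i) i).comp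
    (LinearEquiv.ofBijective (DirectSum.coeLinearMap 𝒱) h𝒱).symm.toLinearMap

theorem symm_apply_of_mem {i : ℤ} {x : V} (hx : x ∈ 𝒱 i) :
    (LinearEquiv.ofBijective (DirectSum.coeLinearMap 𝒱) h𝒱).symm x =
      DirectSum.lof k ℤ (fun i => 𝒱 i) i ⟨x, hx⟩ := by
  rw [LinearEquiv.symm_apply_eq]
  exact (DirectSum.coeLinearMap_lof (R := k) 𝒱 i ⟨x, hx⟩).symm

theorem proj_of_mem {i : ℤ} {x : V} (hx : x ∈ 𝒱 i) : proj 𝒱 h𝒱 i x = ⟨x, hx⟩ := by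
  rw [proj, LinearMap.comp_apply, LinearEquiv.coe_coe, symm_apply_of_mem 𝒱 h𝒱 hx,
    DirectSum.component.lof_self]

theorem proj_of_mem_ne {i i' : ℤ} (hne : i' ≠ i) {x : V} (hx : x ∈ 𝒱 i') :
    proj 𝒱 h𝒱 i x = 0 := by
  rw [proj, LinearMap.comp_apply, LinearEquiv.coe_coe, symm_apply_of_mem 𝒱 h𝒱 hx,
    DirectSum.component.of, dif_neg hne]

include h𝒱

theorem exists_functional {i : ℤ} {v : V} (hv : v ∈ 𝒱 i) (hv0 : v ≠ 0) :
    ∃ lam : V →ₗ[k] k, lam v = 1 ∧ ∀ i', i' ≠ i → ∀ x ∈ 𝒱 i', lam x = 0 := by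
  have hne : (⟨v, hv⟩ : 𝒱 i) ≠ 0 := fun h => hv0 (congrArg Subtype.val h)
  obtain ⟨d, hd⟩ := Module.Projective.exists_dual_eq_one k hne
  refine ⟨d.comp (proj 𝒱 h𝒱 i), ?_, ?_⟩
  · rw [LinearMap.comp_apply, proj_of_mem 𝒱 h𝒱 hv]; exact hd
  · intro i' hi' x hx
    rw [LinearMap.comp_apply, proj_of_mem_ne 𝒱 h𝒱 hi' hx, map_zero]

theorem eq_of_mem_of_mem {i j : ℤ} {x : V} (hx0 : x ≠ 0) (hi : x ∈ 𝒱 i) (hj : x ∈ 𝒱 j) :
    i = j := by
  by_contra hne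
  have hd := h𝒱.submodule_iSupIndep.pairwiseDisjoint hne
  exact hx0 ((Submodule.disjoint_def.mp hd) x hi hj)

theorem exists_ne_zero_mem [Nontrivial V] : ∃ (i : ℤ) (v : V), v ∈ 𝒱 i ∧ v ≠ 0 := by
  by_contra hcon
  push Not at hcon
  have : iSup 𝒱 = ⊥ := by
    rw [eq_bot_iff]
    apply iSup_le
    intro i x hx
    rw [Submodule.mem_bot]
    exact hcon i x hx
  rw [h𝒱.submodule_iSup_eq_top] at this
  exact top_ne_bot this

end proj

section lattice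

theorem eq_of_le_of_iSup_eq_top {ι : Type*} {M : Type*} [AddCommGroup M] [Module k M]
    (U W : ι → Submodule k M) (hle : ∀ j, U j ≤ W j) (hind : iSupIndep W)
    (htop : iSup U = ⊤) (j : ι) : U j = W j := by
  apply le_antisymm (hle j)
  intro y hy
  have hy' : y ∈ U j ⊔ ⨆ (l) (_ : l ≠ j), U l := by
    rw [← iSup_split_single U j, htop]; trivial
  obtain ⟨a, ha, b, hb, rfl⟩ := Submodule.mem_sup.mp hy'
  have hbW : b ∈ W j := by
    have := (W j).sub_mem hy (hle j ha)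
    simpa using this
  have hb' : b ∈ ⨆ (l) (_ : l ≠ j), W l := (iSup₂_mono fun l _ => hle l) hb
  have : b = 0 := Submodule.disjoint_def.mp (hind j) b hbW hb'
  rw [this, add_zero]; exact ha

end lattice

section main

variable {V W : Type*} [AddCommGroup V] [Module k V] [AddCommGroup W] [Module k W]
  (𝒱 : ℤ → Submodule k V) (h𝒱 : DirectSum.IsInternal 𝒱)
  (𝒲 : ℤ → Submodule k W) (h𝒲 : DirectSum.IsInternal 𝒲)
  (φ : Module.End k V ≃ₐ[k] Module.End k W)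
  (hφ : ∀ (d : ℤ) (f : Module.End k V), (∀ (i : ℤ) (x : V), x ∈ 𝒱 i → f x ∈ 𝒱 (i + d)) →
    ∀ (i : ℤ) (y : W), y ∈ 𝒲 i → φ f y ∈ 𝒲 (i + d))
  (g : V ≃ₗ[k] W)
  (hg : ∀ f : Module.End k V, φ f = (g : V →ₗ[k] W) ∘ₗ f ∘ₗ (g.symm : W →ₗ[k] V))

include h𝒱 h𝒲 hφ hg

theorem stepA {i : ℤ} {v : V} (hv : v ∈ 𝒱 i) (hv0 : v ≠ 0) : ∃ j, g v ∈ 𝒲 j := by
  obtain ⟨lam, hlv, hl0⟩ := exists_functional 𝒱 h𝒱 hv hv0
  have hdeg : ∀ (i' : ℤ) (x : V), x ∈ 𝒱 i' → (lam.smulRight v) x ∈ 𝒱 (i' + 0) := by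
    intro i' x hx
    rw [add_zero, LinearMap.smulRight_apply]
    by_cases hi : i' = i
    · subst hi; exact (𝒱 i').smul_mem _ hv
    · rw [hl0 i' hi x hx, zero_smul]; exact Submodule.zero_mem _
  have hW := hφ 0 (lam.smulRight v) hdeg
  -- a homogeneous `y` with `lam (g.symm y) ≠ 0`
  have : ∃ j, ∃ y ∈ 𝒲 j, lam (g.symm y) ≠ 0 := by
    by_contra hcon
    push Not at hcon
    have hle : iSup 𝒲 ≤ LinearMap.ker (lam.comp (g.symm : W →ₗ[k] V)) := by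
      apply iSup_le
      intro j y hy
      rw [LinearMap.mem_ker, LinearMap.comp_apply]
      exact hcon j y hy
    rw [h𝒲.submodule_iSup_eq_top] at hle
    have := hle (Submodule.mem_top (x := g v))
    rw [LinearMap.mem_ker, LinearMap.comp_apply, LinearEquiv.coe_coe, g.symm_apply_apply,
      hlv] at this
    exact one_ne_zero this
  obtain ⟨j, y, hy, hne⟩ := this
  refine ⟨j, ?_⟩
  have h1 := hW j y hy
  rw [add_zero, hg, LinearMap.comp_apply, LinearMap.comp_apply, LinearEquiv.coe_coe,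
    LinearEquiv.coe_coe, LinearMap.smulRight_apply, map_smul] at h1
  exact ((𝒲 j).smul_mem_iff hne).mp h1

theorem stepB {i i' j : ℤ} {v v' : V} (hv : v ∈ 𝒱 i) (hv0 : v ≠ 0) (hv' : v' ∈ 𝒱 i')
    (hj : g v ∈ 𝒲 j) : g v' ∈ 𝒲 (j + (i' - i)) := by
  obtain ⟨lam, hlv, hl0⟩ := exists_functional 𝒱 h𝒱 hv hv0
  have hdeg : ∀ (i'' : ℤ) (x : V), x ∈ 𝒱 i'' →
      (lam.smulRight v') x ∈ 𝒱 (i'' + (i' - i)) := by
    intro i'' x hx
    rw [LinearMap.smulRight_apply]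
    by_cases hi : i'' = i
    · subst hi
      rw [show i'' + (i' - i'') = i' by ring]
      exact (𝒱 i').smul_mem _ hv'
    · rw [hl0 i'' hi x hx, zero_smul]; exact Submodule.zero_mem _
  have h1 := hφ (i' - i) (lam.smulRight v') hdeg j (g v) hj
  rw [hg, LinearMap.comp_apply, LinearMap.comp_apply, LinearEquiv.coe_coe,
    LinearEquiv.coe_coe, g.symm_apply_apply, LinearMap.smulRight_apply, hlv, one_smul] at h1
  exact h1

theorem exists_shift [Nontrivial V] :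
    ∃ n : ℤ, ∀ i : ℤ, Submodule.map (g : V →ₗ[k] W) (𝒱 i) = 𝒲 (i + n) := by
  obtain ⟨i₀, v₀, hv₀, hv₀0⟩ := exists_ne_zero_mem 𝒱 h𝒱
  obtain ⟨j₀, hj₀⟩ := stepA 𝒱 h𝒱 𝒲 h𝒲 φ hφ g hg hv₀ hv₀0
  refine ⟨j₀ - i₀, ?_⟩
  have hle : ∀ i : ℤ, Submodule.map (g : V →ₗ[k] W) (𝒱 i) ≤ 𝒲 (i + (j₀ - i₀)) := by
    rintro i _ ⟨v', hv', rfl⟩
    have := stepB 𝒱 h𝒱 𝒲 h𝒲 φ hφ g hg hv₀ hv₀0 hv' hj₀
    rw [show j₀ + (i - i₀) = i + (j₀ - i₀) by ring] at this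
    exact this
  have key := eq_of_le_of_iSup_eq_top (k := k)
    (fun j : ℤ => Submodule.map (g : V →ₗ[k] W) (𝒱 (j - (j₀ - i₀)))) 𝒲
    (fun j => by
      have := hle (j - (j₀ - i₀))
      rw [show j - (j₀ - i₀) + (j₀ - i₀) = j by ring] at this
      exact this)
    h𝒲.submodule_iSupIndep
    (by
      rw [← Submodule.map_iSup]
      have : (⨆ j : ℤ, 𝒱 (j - (j₀ - i₀))) = ⨆ i, 𝒱 i :=
        (Equiv.subRight (j₀ - i₀)).iSup_comp (g := 𝒱)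
      rw [this, h𝒱.submodule_iSup_eq_top, Submodule.map_top, LinearMap.range_eq_top]
      exact g.surjective)
  intro i
  have := key (i + (j₀ - i₀))
  rw [show i + (j₀ - i₀) - (j₀ - i₀) = i by ring] at this
  exact this

omit h𝒲 hφ in
theorem unique_up_to_scalar [Nontrivial V] (g' : V ≃ₗ[k] W)
    (hg' : ∀ f : Module.End k V, φ f = (g' : V →ₗ[k] W) ∘ₗ f ∘ₗ (g'.symm : W →ₗ[k] V)) :
    ∃ c : kˣ, ∀ x : V, g' x = c • g x := by
  obtain ⟨i₀, v₀, hv₀, hv₀0⟩ := exists_ne_zero_mem 𝒱 h𝒱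
  obtain ⟨lam, hlv, -⟩ := exists_functional 𝒱 h𝒱 hv₀ hv₀0
  -- `h = g⁻¹ g'` commutes with all endomorphisms
  have hcomm : ∀ (f : Module.End k V) (x : V), g.symm (g' (f x)) = f (g.symm (g' x)) := by
    intro f x
    have h1 : φ f (g' x) = g' (f x) := by
      rw [hg', LinearMap.comp_apply, LinearMap.comp_apply, LinearEquiv.coe_coe,
        LinearEquiv.coe_coe, g'.symm_apply_apply]
    have h2 : φ f (g' x) = g (f (g.symm (g' x))) := by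
      rw [hg, LinearMap.comp_apply, LinearMap.comp_apply, LinearEquiv.coe_coe,
        LinearEquiv.coe_coe]
    rw [← h1, h2, g.symm_apply_apply]
  have hscal : ∀ x : V, g.symm (g' x) = lam (g.symm (g' v₀)) • x := by
    intro x
    have := hcomm (lam.smulRight x) v₀
    rw [LinearMap.smulRight_apply, LinearMap.smulRight_apply, hlv, one_smul] at this
    exact this
  have hc : lam (g.symm (g' v₀)) ≠ 0 := by
    intro h0
    have := hscal v₀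
    rw [h0, zero_smul] at this
    have h3 : g' v₀ = 0 := by
      have := congrArg g this
      rwa [g.apply_symm_apply, map_zero] at this
    exact hv₀0 (by simpa using h3)
  refine ⟨Units.mk0 _ hc, fun x => ?_⟩
  have := congrArg g (hscal x)
  rw [g.apply_symm_apply, map_smul] at this
  exact this

end main

theorem main (k : Type*) [Field k] (V W : Type*) [AddCommGroup V] [Module k V]
    [FiniteDimensional k V] [Nontrivial V] [AddCommGroup W] [Module k W] [FiniteDimensional k W]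
    (𝒱 : ℤ → Submodule k V) (h𝒱 : DirectSum.IsInternal 𝒱) (𝒲 : ℤ → Submodule k W)
    (h𝒲 : DirectSum.IsInternal 𝒲) (φ : Module.End k V ≃ₐ[k] Module.End k W)
    (hφ : ∀ (d : ℤ) (f : Module.End k V), (∀ (i : ℤ) (x : V), x ∈ 𝒱 i → f x ∈ 𝒱 (i + d)) →
      ∀ (i : ℤ) (y : W), y ∈ 𝒲 i → φ f y ∈ 𝒲 (i + d)) :
    ∃ (n : ℤ) (g : V ≃ₗ[k] W),
      (∀ i : ℤ, Submodule.map (g : V →ₗ[k] W) (𝒱 i) = 𝒲 (i + n)) ∧
      (∀ f : Module.End k V, φ f = (g : V →ₗ[k] W) ∘ₗ f ∘ₗ (g.symm : W →ₗ[k] V)) ∧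
      ∀ (n' : ℤ) (g' : V ≃ₗ[k] W),
        (∀ i : ℤ, Submodule.map (g' : V →ₗ[k] W) (𝒱 i) = 𝒲 (i + n')) →
        (∀ f : Module.End k V, φ f = (g' : V →ₗ[k] W) ∘ₗ f ∘ₗ (g'.symm : W →ₗ[k] V)) →
        n' = n ∧ ∃ c : kˣ, ∀ x : V, g' x = c • g x := by
  obtain ⟨g, hg0⟩ := φ.eq_linearEquivConjAlgEquiv
  have hg : ∀ f : Module.End k V, φ f = (g : V →ₗ[k] W) ∘ₗ f ∘ₗ (g.symm : W →ₗ[k] V) := by
    intro f; rw [hg0]; rfl
  obtain ⟨n, hn⟩ := exists_shift 𝒱 h𝒱 𝒲 h𝒲 φ hφ g hg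
  refine ⟨n, g, hn, hg, ?_⟩
  intro n' g' hn' hg'
  obtain ⟨c, hc⟩ := unique_up_to_scalar 𝒱 h𝒱 φ g hg g' hg'
  refine ⟨?_, c, hc⟩
  obtain ⟨i₀, v₀, hv₀, hv₀0⟩ := exists_ne_zero_mem 𝒱 h𝒱
  have h1 : g' v₀ ∈ 𝒲 (i₀ + n') := by
    rw [← hn']; exact ⟨v₀, hv₀, rfl⟩
  have h2 : g' v₀ ∈ 𝒲 (i₀ + n) := by
    rw [hc]
    apply (𝒲 (i₀ + n)).smul_mem
    rw [← hn]; exact ⟨v₀, hv₀, rfl⟩
  have h0 : g' v₀ ≠ 0 := fun h => hv₀0 (by simpa using h)
  have := eq_of_mem_of_mem 𝒲 h𝒲 h0 h1 h2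
  omega

end Groth.Agent.Helper8.GrSN
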