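import Mathlib

set_option autoImplicit false
universe u v w

namespace Groth.Agent.Helper8.GrSlice

open DirectSum

variable {k : Type u} [Field k] {A : Type v} [CommRing A] [Algebra k A]
  {Λ : Type w} [AddCommGroup Λ] [DecidableEq Λ] (𝒜 : Λ → Submodule k A) [GradedAlgebra 𝒜]

include 𝒜 in
theorem mul_eq_zero_of_pos (hpos : ∀ w : Λ, 𝒜 w ≠ ⊥ → 𝒜 (-w) ≠ ⊥ → w = 0) {w : Λ} (hw : w ≠ 0)
    {a b : A} (ha : a ∈ 𝒜 (-w)) (hb : b ∈ 𝒜 w) : a * b = 0 := by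
  by_contra h
  have ha0 : a ≠ 0 := fun h0 => h (by rw [h0, zero_mul])
  have hb0 : b ≠ 0 := fun h0 => h (by rw [h0, mul_zero])
  apply hw
  apply hpos w
  · intro hbot; rw [hbot] at hb; exact hb0 ((Submodule.mem_bot k).mp hb)
  · intro hbot; rw [hbot] at ha; exact ha0 ((Submodule.mem_bot k).mp ha)

theorem decompose_mul_of_mem (a : A) {x : A} {w : Λ} (hx : x ∈ 𝒜 w) :
    (decompose 𝒜 (a * x) 0 : A) = (decompose 𝒜 a (-w) : A) * x := by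
  have key : ∀ i : Λ, i = -w + w → (decompose 𝒜 (a * x) i : A) = (decompose 𝒜 a (-w) : A) * x := by
    intro i hi
    subst hi
    rw [coe_decompose_mul_add_of_right_mem 𝒜 hx]
  exact key 0 (neg_add_cancel w).symm

theorem proj_zero_mul_of_mem (hpos : ∀ w : Λ, 𝒜 w ≠ ⊥ → 𝒜 (-w) ≠ ⊥ → w = 0) {w : Λ} (hw : w ≠ 0)
    (a : A) {x : A} (hx : x ∈ 𝒜 w) : (decompose 𝒜 (a * x) 0 : A) = 0 := by
  rw [decompose_mul_of_mem 𝒜 a hx]
  exact mul_eq_zero_of_pos 𝒜 hpos hw (SetLike.coe_mem _) hx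

theorem claim1 (hpos : ∀ w : Λ, 𝒜 w ≠ ⊥ → 𝒜 (-w) ≠ ⊥ → w = 0) (x : A)
    (hx : x ∈ Ideal.span (⋃ (w : Λ) (_ : w ≠ 0), (𝒜 w : Set A))) :
    ∀ a : A, (decompose 𝒜 (a * x) 0 : A) = 0 := by
  induction hx using Submodule.span_induction with
  | mem x hx =>
    intro a
    simp only [Set.mem_iUnion] at hx
    obtain ⟨w, hw, hxw⟩ := hx
    exact proj_zero_mul_of_mem 𝒜 hpos hw a hxw
  | zero => intro a; simp
  | add x y _ _ hx hy =>
    intro a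
    rw [mul_add, decompose_add, DirectSum.add_apply, Submodule.coe_add, hx a, hy a, add_zero]
  | smul b x _ hx =>
    intro a
    rw [smul_eq_mul, ← mul_assoc]
    exact hx (a * b)

/-- the predicate: `z` is `δ` of a homogeneous element of degree `-d` -/
def P (δ : Derivation k A A) (d : Λ) (z : A) : Prop := ∃ s ∈ 𝒜 (-d), δ s = z

theorem P_zero (δ : Derivation k A A) (d : Λ) : P 𝒜 δ d 0 := ⟨0, zero_mem _, map_zero _⟩

theorem P_add (δ : Derivation k A A) (d : Λ) {z₁ z₂ : A} (h₁ : P 𝒜 δ d z₁) (h₂ : P 𝒜 δ d z₂) :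
    P 𝒜 δ d (z₁ + z₂) := by
  obtain ⟨s₁, hs₁, e₁⟩ := h₁
  obtain ⟨s₂, hs₂, e₂⟩ := h₂
  exact ⟨s₁ + s₂, add_mem hs₁ hs₂, by rw [map_add, e₁, e₂]⟩

theorem P_sum (δ : Derivation k A A) (d : Λ) {ι : Type*} (s : Finset ι) (f : ι → A)
    (h : ∀ i ∈ s, P 𝒜 δ d (f i)) : P 𝒜 δ d (∑ i ∈ s, f i) := by
  classical
  induction s using Finset.induction_on with
  | empty => simpa using P_zero 𝒜 δ d
  | insert i s hi ih =>
    rw [Finset.sum_insert hi]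
    exact P_add 𝒜 δ d (h i (Finset.mem_insert_self i s))
      (ih (fun j hj => h j (Finset.mem_insert_of_mem hj)))

theorem P_homog (hpos : ∀ w : Λ, 𝒜 w ≠ ⊥ → 𝒜 (-w) ≠ ⊥ → w = 0)
    (δ : Derivation k A A) (d : Λ) (hhom : ∀ (w : Λ) (a : A), a ∈ 𝒜 w → δ a ∈ 𝒜 (w + d))
    (hd : 𝒜 d = ⊥) (a : A) {v : Λ} {c : A} (hc : c ∈ 𝒜 v) :
    P 𝒜 δ d (decompose 𝒜 (a * δ c) 0 : A) := by
  have h1 : δ c ∈ 𝒜 (v + d) := hhom v c hc
  rw [decompose_mul_of_mem 𝒜 a h1]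
  have ha' : (decompose 𝒜 a (-(v + d)) : A) ∈ 𝒜 (-(v + d)) := SetLike.coe_mem _
  generalize (decompose 𝒜 a (-(v + d)) : A) = a₀ at ha'
  by_cases hvd : v + d = 0
  · rw [hvd, neg_zero] at ha'
    have hv : v = -d := eq_neg_of_add_eq_zero_left hvd
    have h2 : δ a₀ = 0 := by
      have h3 : δ a₀ ∈ 𝒜 (0 + d) := hhom 0 a₀ ha'
      rw [zero_add, hd] at h3
      exact (Submodule.mem_bot k).mp h3
    refine ⟨a₀ * c, ?_, ?_⟩
    · have := SetLike.GradedMul.mul_mem ha' hc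
      rwa [zero_add, hv] at this
    · rw [Derivation.leibniz, h2, smul_zero, add_zero, smul_eq_mul]
  · rw [mul_eq_zero_of_pos 𝒜 hpos hvd ha' h1]
    exact P_zero 𝒜 δ d

theorem P_range (hpos : ∀ w : Λ, 𝒜 w ≠ ⊥ → 𝒜 (-w) ≠ ⊥ → w = 0)
    (δ : Derivation k A A) (d : Λ) (hhom : ∀ (w : Λ) (a : A), a ∈ 𝒜 w → δ a ∈ 𝒜 (w + d))
    (hd : 𝒜 d = ⊥) (a c : A) :
    P 𝒜 δ d (decompose 𝒜 (a * δ c) 0 : A) := by
  classical
  have h1 : a * δ c = ∑ v ∈ (decompose 𝒜 c).support, a * δ (decompose 𝒜 c v : A) := by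
    conv_lhs => rw [← sum_support_decompose 𝒜 c]
    rw [map_sum, Finset.mul_sum]
  rw [h1, decompose_sum, DirectSum.sum_apply, AddSubmonoidClass.coe_finsetSum]
  apply P_sum
  intro v _
  exact P_homog 𝒜 hpos δ d hhom hd a (SetLike.coe_mem _)

theorem claim2 (hpos : ∀ w : Λ, 𝒜 w ≠ ⊥ → 𝒜 (-w) ≠ ⊥ → w = 0)
    (δ : Derivation k A A) (d : Λ) (hhom : ∀ (w : Λ) (a : A), a ∈ 𝒜 w → δ a ∈ 𝒜 (w + d))
    (hd : 𝒜 d = ⊥) (y : A) (hy : y ∈ Ideal.span (Set.range δ)) :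
    ∀ a : A, P 𝒜 δ d (decompose 𝒜 (a * y) 0 : A) := by
  induction hy using Submodule.span_induction with
  | mem y hy =>
    intro a
    obtain ⟨c, rfl⟩ := hy
    exact P_range 𝒜 hpos δ d hhom hd a c
  | zero => intro a; simpa using P_zero 𝒜 δ d
  | add x y _ _ hx hy =>
    intro a
    rw [mul_add, decompose_add, DirectSum.add_apply, Submodule.coe_add]
    exact P_add 𝒜 δ d (hx a) (hy a)
  | smul b x _ hx =>
    intro a
    rw [smul_eq_mul, ← mul_assoc]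
    exact hx (a * b)

theorem main (hpos : ∀ w : Λ, 𝒜 w ≠ ⊥ → 𝒜 (-w) ≠ ⊥ → w = 0)
    (δ : Derivation k A A) (d : Λ) (hhom : ∀ (w : Λ) (a : A), a ∈ 𝒜 w → δ a ∈ 𝒜 (w + d))
    (hd : 𝒜 d = ⊥)
    (hfix : ∀ m : Ideal A, m.IsMaximal → (∀ w : Λ, w ≠ 0 → (𝒜 w : Set A) ⊆ m) →
      ¬ (Set.range δ ⊆ m)) :
    ∃ s ∈ 𝒜 (-d), δ s = 1 := by
  set J : Ideal A := Ideal.span (⋃ (w : Λ) (_ : w ≠ 0), (𝒜 w : Set A)) ⊔ Ideal.span (Set.range δ)
    with hJ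
  have hJtop : J = ⊤ := by
    by_contra hne
    obtain ⟨m, hm, hJm⟩ := Ideal.exists_le_maximal J hne
    apply hfix m hm
    · intro w hw x hx
      apply hJm
      apply Ideal.mem_sup_left
      apply Ideal.subset_span
      simp only [Set.mem_iUnion]
      exact ⟨w, hw, hx⟩
    · intro x hx
      apply hJm
      apply Ideal.mem_sup_right
      exact Ideal.subset_span hx
  have h1 : (1 : A) ∈ J := by rw [hJtop]; trivial
  obtain ⟨x, hx, y, hy, hxy⟩ := Submodule.mem_sup.mp h1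
  have h2 : (decompose 𝒜 (x + y) 0 : A) = 1 := by
    rw [hxy]
    exact decompose_of_mem_same 𝒜 (SetLike.GradedOne.one_mem)
  have h3 := claim1 𝒜 hpos x hx 1
  have h4 := claim2 𝒜 hpos δ d hhom hd y hy 1
  rw [one_mul] at h3 h4
  rw [decompose_add, DirectSum.add_apply, Submodule.coe_add, h3, zero_add] at h2
  rw [h2] at h4
  exact h4

end Groth.Agent.Helper8.GrSlice
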