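import Groth.Prelude.Def_FSch4
import Mathlib

set_option autoImplicit false
set_option backward.isDefEq.respectTransparency false
set_option backward.isDefEq.respectTransparency.types false
universe u

open CategoryTheory AlgebraicGeometry Limits

namespace Groth.Agent.Helper8.GraphCl

theorem isAdicHom_graph {𝔛 𝔜 𝔖 : FSch.Sys.{u}} (h𝔜 : ∀ n, Mono (𝔜.ι n))
    (p : 𝔛 ⟶ 𝔖) (q : 𝔜 ⟶ 𝔖) (f : 𝔛 ⟶ 𝔜) (w : f ≫ q = p) :
    FSch.IsAdicHom (FSch.graph f p q w) := by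
  intro n
  haveI := h𝔜 n
  have hcomm := (FSch.graph f p q w : FSch.Hom _ _).comm n
  -- abbreviations
  set Γn := (FSch.graph f p q w : FSch.Hom _ _).app n with hΓn
  set Γn1 := (FSch.graph f p q w : FSch.Hom _ _).app (n + 1) with hΓn1
  set Pι := (FSch.pullbackSys p q).ι n with hPι
  have hfst_n : Γn ≫ pullback.fst _ _ = 𝟙 _ := pullback.lift_fst _ _ _
  have hsnd_n : Γn ≫ pullback.snd _ _ = (f : FSch.Hom 𝔛 𝔜).app n := pullback.lift_snd _ _ _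
  have hfst_n1 : Γn1 ≫ pullback.fst _ _ = 𝟙 _ := pullback.lift_fst _ _ _
  have hsnd_n1 : Γn1 ≫ pullback.snd _ _ = (f : FSch.Hom 𝔛 𝔜).app (n + 1) := pullback.lift_snd _ _ _
  have hPfst : Pι ≫ pullback.fst _ _ = pullback.fst _ _ ≫ 𝔛.ι n := pullback.lift_fst _ _ _
  have hPsnd : Pι ≫ pullback.snd _ _ = pullback.snd _ _ ≫ 𝔜.ι n := pullback.lift_snd _ _ _
  refine ⟨⟨hcomm.symm⟩, ⟨PullbackCone.IsLimit.mk _ (fun s => s.snd ≫ pullback.fst _ _) ?_ ?_ ?_⟩⟩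
  · intro s
    have h1 := s.condition
    calc (s.snd ≫ pullback.fst _ _) ≫ 𝔛.ι n = s.snd ≫ Pι ≫ pullback.fst _ _ := by
          rw [Category.assoc, hPfst]
      _ = (s.fst ≫ Γn1) ≫ pullback.fst _ _ := by rw [← Category.assoc, ← h1]
      _ = s.fst := by rw [Category.assoc, hfst_n1, Category.comp_id]
  · intro s
    have h1 := s.condition
    have hc : (s.snd ≫ pullback.fst _ _) ≫ 𝔛.ι n = s.fst := by
      calc (s.snd ≫ pullback.fst _ _) ≫ 𝔛.ι n = s.snd ≫ Pι ≫ pullback.fst _ _ := by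
            rw [Category.assoc, hPfst]
        _ = (s.fst ≫ Γn1) ≫ pullback.fst _ _ := by rw [← Category.assoc, ← h1]
        _ = s.fst := by rw [Category.assoc, hfst_n1, Category.comp_id]
    apply pullback.hom_ext
    · rw [Category.assoc, hfst_n, Category.comp_id]
    · rw [Category.assoc, hsnd_n, ← cancel_mono (𝔜.ι n)]
      calc ((s.snd ≫ pullback.fst _ _) ≫ (f : FSch.Hom 𝔛 𝔜).app n) ≫ 𝔜.ι n
          = (s.snd ≫ pullback.fst _ _) ≫ 𝔛.ι n ≫ (f : FSch.Hom 𝔛 𝔜).app (n + 1) := by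
            rw [Category.assoc, (f : FSch.Hom 𝔛 𝔜).comm n]
        _ = s.fst ≫ (f : FSch.Hom 𝔛 𝔜).app (n + 1) := by rw [← Category.assoc, hc]
        _ = (s.fst ≫ Γn1) ≫ pullback.snd _ _ := by rw [Category.assoc, hsnd_n1]
        _ = (s.snd ≫ Pι) ≫ pullback.snd _ _ := by rw [h1]
        _ = (s.snd ≫ pullback.snd _ _) ≫ 𝔜.ι n := by rw [Category.assoc, hPsnd, Category.assoc]
  · intro s m _ hm2
    rw [← hm2, Category.assoc, hfst_n, Category.comp_id]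

theorem main {𝔛 𝔜 𝔖 : FSch.Sys.{u}} (h𝔜 : 𝔜.IsFormal) (p : 𝔛 ⟶ 𝔖) (q : 𝔜 ⟶ 𝔖)
    (hq : IsSeparated ((q : FSch.Hom 𝔜 𝔖).app 0)) (f : 𝔛 ⟶ 𝔜) (w : f ≫ q = p) :
    FSch.IsClosedImmHom (FSch.graph f p q w) := by
  refine ⟨isAdicHom_graph (fun n => ?_) p q f w, ?_⟩
  · haveI := (h𝔜 n).1
    infer_instance
  · have h1 : (FSch.graph f p q w : FSch.Hom _ _).app 0 ≫
        pullback.fst ((p : FSch.Hom 𝔛 𝔖).app 0) ((q : FSch.Hom 𝔜 𝔖).app 0) = 𝟙 _ :=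
      pullback.lift_fst _ _ _
    haveI : IsClosedImmersion ((FSch.graph f p q w : FSch.Hom _ _).app 0 ≫
        pullback.fst ((p : FSch.Hom 𝔛 𝔖).app 0) ((q : FSch.Hom 𝔜 𝔖).app 0)) := by
      rw [h1]; infer_instance
    exact IsClosedImmersion.of_comp _
      (pullback.fst ((p : FSch.Hom 𝔛 𝔖).app 0) ((q : FSch.Hom 𝔜 𝔖).app 0))

end Groth.Agent.Helper8.GraphCl
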