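import Mathlib

/-!
# Sections of an immersion over an affine open in which the image is closed
-/

set_option autoImplicit false
set_option linter.unusedSectionVars false
universe u

open CategoryTheory CategoryTheory.Limits AlgebraicGeometry TopologicalSpace

namespace Groth.Agent.Helper8.GrpdBasicA

variable {X Y : Scheme.{u}}

theorem range_morphismRestrict (j : X ⟶ Y) (D : Y.Opens) :
    Set.range (j ∣_ D) = D.ι ⁻¹' Set.range j := by
  ext x
  constructor
  · rintro ⟨y, rfl⟩
    exact ⟨y.1, (morphismRestrict_base_coe j D y).symm⟩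
  · rintro ⟨y₀, hy₀⟩
    have hy₀D : y₀ ∈ j ⁻¹ᵁ D := by
      show j y₀ ∈ D
      rw [hy₀]
      exact x.2
    exact ⟨⟨y₀, hy₀D⟩, Subtype.ext ((morphismRestrict_base_coe j D ⟨y₀, hy₀D⟩).trans hy₀)⟩

/-- If the image of an immersion `j` is closed inside the affine open `D`, then `j` is
surjective on sections over `D`. -/
theorem app_surjective_of_immersion (j : X ⟶ Y) [IsImmersion j] (D : Y.Opens)
    (hD : IsAffineOpen D) (F : Set Y) (hF : IsClosed F)
    (hDF : (D : Set Y) ∩ Set.range j = (D : Set Y) ∩ F) :
    Function.Surjective (j.app D).hom := by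
  have hcl : IsClosed (Set.range (j ∣_ D)) := by
    rw [range_morphismRestrict]
    have : D.ι ⁻¹' Set.range j = D.ι ⁻¹' F := by
      ext x
      have hx : (D.ι x) ∈ (D : Set Y) := x.2
      constructor
      · intro h
        exact ((hDF.le ⟨hx, h⟩).2)
      · intro h
        exact ((hDF.ge ⟨hx, h⟩).2)
    rw [this]
    exact hF.preimage D.ι.continuous
  haveI : IsClosedImmersion (j ∣_ D) := IsClosedImmersion.of_isPreimmersion _ hcl
  haveI : IsAffine D.toScheme := hD
  obtain ⟨-, hsurj⟩ := IsClosedImmersion.isAffine_surjective_of_isAffine (f := j ∣_ D)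
  rw [morphismRestrict_appTop] at hsurj
  have key : ∀ (D' : Y.Opens) (_ : D' = D), Function.Surjective (j.app D').hom →
      Function.Surjective (j.app D).hom := by
    rintro D' rfl h
    exact h
  apply key _ D.ι_image_top
  intro x
  obtain ⟨y, hy⟩ := hsurj ((X.presheaf.map
    (eqToHom (image_morphismRestrict_preimage j D ⊤)).op).hom x)
  refine ⟨y, ?_⟩
  have hinj : Function.Injective (X.presheaf.map
      (eqToHom (image_morphismRestrict_preimage j D ⊤)).op).hom :=
    (ConcreteCategory.bijective_of_isIso _).1
  apply hinj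
  exact hy

end Groth.Agent.Helper8.GrpdBasicA
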