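import Mathlib
import Groth.Prelude.Def_Grpd
import Groth.Agent.Helper8.GrpdNormB

/-!
# The norm argument over an invariant thickening

If `s` is finite locally free over a closed subscheme `V' ⊆ V` with the same underlying space as the
open `V ⊆ U`, then for a basic open `D(f) ⊆ V` of an affine open `V₀` whose `s`-fibres are mapped
into `V₀` by `t`, the largest invariant subset of `D(f)` is again a basic open.
-/

set_option autoImplicit false
set_option linter.unusedSectionVars false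
set_option linter.style.haveILetI false
universe u

open CategoryTheory CategoryTheory.Limits AlgebraicGeometry TopologicalSpace

namespace Groth.Agent.Helper8.GrpdNormC

open Groth.Agent.Helper8.GrpdNormB

variable {S : Scheme.{u}} (G : Grpd.GroupoidScheme S) [IsFinite G.s]

theorem exists_basicOpen_eq_core (V : G.U.Opens) (K : (↑V : Scheme.{u}).IdealSheafData)
    (hsupp : K.support = ⊤)
    (hfl : Flat (pullback.snd G.s (K.subschemeι ≫ V.ι)))
    (hfp : LocallyOfFinitePresentation (pullback.snd G.s (K.subschemeι ≫ V.ι)))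
    (V₀ : G.U.Opens) (hV₀ : IsAffineOpen V₀) (f : Γ(G.U, V₀))
    (hle : G.U.basicOpen f ≤ V)
    (hcore : ∀ ρ : G.R, G.s ρ ∈ G.U.basicOpen f → G.t ρ ∈ V₀) :
    ∃ g : Γ(G.U, G.U.basicOpen f), (G.U.basicOpen g : Set G.U) = core G (G.U.basicOpen f) := by
  classical
  have hV₁ : IsAffineOpen (G.U.basicOpen f) := hV₀.basicOpen f
  have hV₁' : IsAffineOpen (V.ι ⁻¹ᵁ G.U.basicOpen f) :=
    hV₁.preimage_of_isOpenImmersion V.ι (by rw [Scheme.Opens.opensRange_ι]; exact hle)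
  have hY₁ : IsAffineOpen ((K.subschemeι ≫ V.ι) ⁻¹ᵁ G.U.basicOpen f) :=
    hV₁'.preimage K.subschemeι
  haveI : IsAffine ((K.subschemeι ≫ V.ι) ⁻¹ᵁ G.U.basicOpen f).toScheme := hY₁
  haveI : IsAffine (pullback.snd G.s (K.subschemeι ≫ V.ι) ⁻¹ᵁ
      ((K.subschemeι ≫ V.ι) ⁻¹ᵁ G.U.basicOpen f)).toScheme :=
    hY₁.preimage (pullback.snd G.s (K.subschemeι ≫ V.ι))
  let Y₁ : K.subscheme.Opens := (K.subschemeι ≫ V.ι) ⁻¹ᵁ G.U.basicOpen f
  let φ : (pullback.snd G.s (K.subschemeι ≫ V.ι) ⁻¹ᵁ Y₁).toScheme ⟶ Y₁.toScheme :=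
    pullback.snd G.s (K.subschemeι ≫ V.ι) ∣_ Y₁
  haveI : IsFinite φ := IsZariskiLocalAtTarget.restrict (P := @IsFinite)
    (inferInstance : IsFinite (pullback.snd G.s (K.subschemeι ≫ V.ι))) Y₁
  haveI : Flat φ := IsZariskiLocalAtTarget.restrict (P := @Flat) hfl Y₁
  haveI : LocallyOfFinitePresentation φ :=
    IsZariskiLocalAtTarget.restrict (P := @LocallyOfFinitePresentation) hfp Y₁
  let ψ : (pullback.snd G.s (K.subschemeι ≫ V.ι) ⁻¹ᵁ Y₁).toScheme ⟶ G.U :=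
    (pullback.snd G.s (K.subschemeι ≫ V.ι) ⁻¹ᵁ Y₁).ι ≫ pullback.fst G.s (K.subschemeι ≫ V.ι) ≫ G.t
  have hs : ∀ z : ↥(pullback G.s (K.subschemeι ≫ V.ι)),
      G.s (pullback.fst G.s (K.subschemeι ≫ V.ι) z) =
        (K.subschemeι ≫ V.ι) (pullback.snd G.s (K.subschemeι ≫ V.ι) z) := by
    intro z
    rw [← Scheme.Hom.comp_apply, ← Scheme.Hom.comp_apply, pullback.condition]
  have hψ : ∀ x' : (pullback.snd G.s (K.subschemeι ≫ V.ι) ⁻¹ᵁ Y₁).toScheme,
      ψ x' = G.t (pullback.fst G.s (K.subschemeι ≫ V.ι) x'.1) := fun x' => rfl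
  have hle' : (⊤ : (pullback.snd G.s (K.subschemeι ≫ V.ι) ⁻¹ᵁ Y₁).toScheme.Opens) ≤
      ψ ⁻¹ᵁ V₀ := by
    intro x' _
    show ψ x' ∈ V₀
    rw [hψ]
    apply hcore
    rw [hs]
    exact x'.2
  let h := ψ.appLE V₀ ⊤ hle' f
  have hh : ∀ x' : (pullback.snd G.s (K.subschemeι ≫ V.ι) ⁻¹ᵁ Y₁).toScheme,
      x' ∈ (pullback.snd G.s (K.subschemeι ≫ V.ι) ⁻¹ᵁ Y₁).toScheme.basicOpen h ↔
        G.t (pullback.fst G.s (K.subschemeι ≫ V.ι) x'.1) ∈ G.U.basicOpen f := by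
    intro x'
    rw [Scheme.basicOpen_appLE]
    simp only [TopologicalSpace.Opens.mem_inf, TopologicalSpace.Opens.mem_top, true_and]
    rfl
  obtain ⟨g', hg'⟩ := exists_nrm φ h
  have hφ : ∀ x' : (pullback.snd G.s (K.subschemeι ≫ V.ι) ⁻¹ᵁ Y₁).toScheme,
      (φ x').1 = pullback.snd G.s (K.subschemeι ≫ V.ι) x'.1 :=
    fun x' => morphismRestrict_base_coe (pullback.snd G.s (K.subschemeι ≫ V.ι)) Y₁ x'
  let θ : Y₁.toScheme ⟶ G.U := Y₁.ι ≫ K.subschemeι ≫ V.ι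
  have hθle : (⊤ : Y₁.toScheme.Opens) ≤ θ ⁻¹ᵁ G.U.basicOpen f := fun y _ => y.2
  have hsurj : Function.Surjective (θ.appLE (G.U.basicOpen f) ⊤ hθle).hom := by
    have e1 : θ.appLE (G.U.basicOpen f) ⊤ hθle =
        (K.subschemeι ≫ V.ι).app (G.U.basicOpen f) ≫ Y₁.ι.appLE Y₁ ⊤ hθle :=
      Scheme.Hom.comp_appLE Y₁.ι (K.subschemeι ≫ V.ι) (G.U.basicOpen f) ⊤ hθle
    have e2 : (K.subschemeι ≫ V.ι).app (G.U.basicOpen f) =
        V.ι.app (G.U.basicOpen f) ≫ K.subschemeι.app (V.ι ⁻¹ᵁ G.U.basicOpen f) :=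
      Scheme.Hom.comp_app K.subschemeι V.ι (G.U.basicOpen f)
    rw [e1, e2]
    haveI : IsIso (V.ι.app (G.U.basicOpen f)) := Scheme.Hom.isIso_app V.ι (G.U.basicOpen f)
      (by rw [Scheme.Opens.opensRange_ι]; exact hle)
    have h1 : Function.Surjective (V.ι.app (G.U.basicOpen f)).hom :=
      (ConcreteCategory.bijective_of_isIso (V.ι.app (G.U.basicOpen f))).2
    have h2 : Function.Surjective (K.subschemeι.app (V.ι ⁻¹ᵁ G.U.basicOpen f)).hom :=
      K.subschemeι_app_surjective ⟨_, hV₁'⟩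
    have h3 : Function.Surjective (Y₁.ι.appLE Y₁ ⊤ hθle).hom :=
      (ConcreteCategory.bijective_of_isIso (Y₁.ι.appLE Y₁ ⊤ hθle)).2
    simp only [CommRingCat.hom_comp, RingHom.coe_comp]
    exact h3.comp (h2.comp h1)
  obtain ⟨g, hg⟩ := hsurj g'
  refine ⟨g, ?_⟩
  have hbo : ∀ y : Y₁.toScheme, y ∈ Y₁.toScheme.basicOpen g' ↔ θ y ∈ G.U.basicOpen g := by
    intro y
    rw [← hg]
    change y ∈ Y₁.toScheme.basicOpen ((θ.appLE (G.U.basicOpen f) ⊤ hθle) g) ↔ _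
    rw [Scheme.basicOpen_appLE]
    simp only [TopologicalSpace.Opens.mem_inf, TopologicalSpace.Opens.mem_top, true_and]
    rfl
  have hθsurj : ∀ x ∈ G.U.basicOpen f, ∃ y : Y₁.toScheme, θ y = x := by
    intro x hx
    have hxV : x ∈ V := hle hx
    have hmem : (⟨x, hxV⟩ : ↑V) ∈ Set.range K.subschemeι := by
      rw [Scheme.IdealSheafData.range_subschemeι, hsupp]
      trivial
    obtain ⟨y, hy⟩ := hmem
    have hyx : (K.subschemeι ≫ V.ι) y = x := by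
      rw [Scheme.Hom.comp_apply, hy]
      rfl
    have hyY : y ∈ Y₁ := by
      show (K.subschemeι ≫ V.ι) y ∈ G.U.basicOpen f
      rw [hyx]
      exact hx
    exact ⟨⟨y, hyY⟩, hyx⟩
  ext x
  constructor
  · intro hx
    have hxV₁ : x ∈ G.U.basicOpen f := G.U.basicOpen_le g hx
    obtain ⟨y, rfl⟩ := hθsurj x hxV₁
    have hy := (hbo y).mpr hx
    intro ρ hρ
    obtain ⟨z, hz1, hz2⟩ := Scheme.Pullback.exists_preimage_pullback (f := G.s)
      (g := K.subschemeι ≫ V.ι) ρ y.1 hρ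
    have hzY : z ∈ pullback.snd G.s (K.subschemeι ≫ V.ι) ⁻¹ᵁ Y₁ := by
      show pullback.snd G.s (K.subschemeι ≫ V.ι) z ∈ Y₁
      rw [hz2]
      exact y.2
    have h4 := (hg' y).mp hy ⟨z, hzY⟩ (Subtype.ext ((hφ _).trans hz2))
    have h5 := (hh ⟨z, hzY⟩).mp h4
    rw [← hz1]
    exact h5
  · intro hx
    have hxV₁ : x ∈ G.U.basicOpen f := core_subset G _ hx
    obtain ⟨y, rfl⟩ := hθsurj x hxV₁
    refine (hbo y).mp ((hg' y).mpr fun x' hx' => (hh x').mpr (hx _ ?_))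
    rw [hs, ← hφ, hx']
    rfl

end Groth.Agent.Helper8.GrpdNormC
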