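import Mathlib
import Groth.Prelude.Def_Grpd
import Groth.Prelude.Def_Mor2
import Groth.Agent.Helper8.FitShC
import Groth.Agent.Helper2.Grpd2

/-!
# The Fitting stratification of a groupoid scheme with finite source and target
-/

set_option autoImplicit false
set_option linter.unusedSectionVars false
set_option linter.style.haveILetI false
universe u

open CategoryTheory CategoryTheory.Limits AlgebraicGeometry TopologicalSpace

namespace Groth.Agent.Helper8.GrpdFit

open Groth.Agent.Helper8.FitShB Groth.Agent.Helper8.FitShC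

/-- Two pullbacks of a closed subscheme with the same pullback ideal sheaf are isomorphic over the
base. -/
theorem exists_iso_of_comap_eq {X Y : Scheme.{u}} (I : Y.IdealSheafData) (f g : X ⟶ Y)
    (h : I.comap f = I.comap g) :
    ∃ φ : pullback f I.subschemeι ≅ pullback g I.subschemeι,
      φ.hom ≫ pullback.fst g I.subschemeι = pullback.fst f I.subschemeι := by
  have key : ∀ (J J' : X.IdealSheafData) (_ : J = J') {P P' : Scheme.{u}} (e : J.subscheme ≅ P)
      (e' : J'.subscheme ≅ P') (a : P ⟶ X) (a' : P' ⟶ X) (_ : e.hom ≫ a = J.subschemeι)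
      (_ : e'.hom ≫ a' = J'.subschemeι), ∃ φ : P ≅ P', φ.hom ≫ a' = a := by
    rintro J _ rfl P P' e e' a a' ha ha'
    refine ⟨e.symm ≪≫ e', ?_⟩
    rw [Iso.trans_hom, Iso.symm_hom, Category.assoc, ha', ← ha, Iso.inv_hom_id_assoc]
  exact key _ _ h (I.comapIso f) (I.comapIso g) _ _ (I.comapIso_hom_fst f) (I.comapIso_hom_fst g)

variable {S : Scheme.{u}} (G : Grpd.GroupoidScheme S) [IsFinite G.s]

/-- The `r`-th Fitting ideal sheaf of the source morphism. -/
noncomputable def Z (r : ℕ) : G.U.IdealSheafData := fitSh G.s r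

theorem Z_zero : Z G 0 = ⊥ := fitSh_zero_of_section G.s G.e G.e_s

theorem Z_mono : Monotone (Z G) := fitSh_mono G.s

theorem iInter_support : (⋂ r, ((Z G r).support : Set G.U)) = ∅ := by
  rw [Set.eq_empty_iff_forall_notMem]
  intro u hu
  obtain ⟨n, hn⟩ := exists_notMem_support_fitSh G.s u
  exact hn (Set.mem_iInter.mp hu n)

/-- Invariance of the Fitting ideal sheaves. -/
theorem comap_s_eq_comap_t (r : ℕ) : (Z G r).comap G.s = (Z G r).comap G.t := by
  have h1 := fitSh_comap (IsPullback.of_hasPullback G.s G.t) r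
  have h2 := fitSh_comap (Groth.Agent.Helper2.Grpd2.isPullback_c G) r
  exact h2.symm.trans h1

theorem exists_iso (r : ℕ) :
    ∃ φ : pullback G.s (Z G r).subschemeι ≅ pullback G.t (Z G r).subschemeι,
      φ.hom ≫ pullback.fst G.t (Z G r).subschemeι = pullback.fst G.s (Z G r).subschemeι :=
  exists_iso_of_comap_eq _ _ _ (comap_s_eq_comap_t G r)

/-- Base change of `s` along a morphism `j` killing `Z r` and avoiding the support of `Z (r+1)` is
finite locally free of degree `r + 1`. -/
theorem isFinLocFreeOfDeg_of_comap {T : Scheme.{u}} (j : T ⟶ G.U) (r : ℕ)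
    (h1 : (Z G r).comap j = ⊥) (h2 : (Z G (r + 1)).comap j = ⊤) :
    Mor2.IsFinLocFreeOfDeg (r + 1) (pullback.snd G.s j) := by
  have hcomap : ∀ k, fitSh (pullback.snd G.s j) k = (Z G k).comap j := fun k =>
    fitSh_comap (IsPullback.of_hasPullback G.s j) k
  apply isFinLocFreeOfDeg_of_fitSh
  · intro k hk
    rw [hcomap, ← le_bot_iff, ← h1]
    exact Scheme.IdealSheafData.comap_mono j (Z_mono G (by omega))
  · intro k hk
    rw [hcomap, ← top_le_iff, ← h2]
    exact Scheme.IdealSheafData.comap_mono j (Z_mono G hk)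

theorem comap_subschemeι_self {Y : Scheme.{u}} (I : Y.IdealSheafData) :
    I.comap I.subschemeι = ⊥ := by
  rw [← le_bot_iff, ← Scheme.IdealSheafData.le_map_iff_comap_le, Scheme.IdealSheafData.map_bot,
    Scheme.IdealSheafData.ker_subschemeι]

theorem comap_eq_top_of_disjoint {Y T : Scheme.{u}} (I : Y.IdealSheafData) (j : T ⟶ Y)
    (h : ∀ x : T, j x ∉ I.support) : I.comap j = ⊤ := by
  rw [← Scheme.IdealSheafData.support_eq_bot_iff, Scheme.IdealSheafData.support_comap]
  apply Closeds.ext
  rw [Closeds.coe_preimage, Closeds.coe_bot, Set.eq_empty_iff_forall_notMem]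
  intro x hx
  exact h x hx

theorem strata (r : ℕ) : Mor2.IsFinLocFreeOfDeg (r + 1)
    (pullback.snd G.s (((Z G r).subschemeι ⁻¹ᵁ (Z G (r + 1)).support.compl).ι ≫
      (Z G r).subschemeι)) := by
  apply isFinLocFreeOfDeg_of_comap
  · rw [Scheme.IdealSheafData.comap_comp, comap_subschemeι_self,
      Scheme.IdealSheafData.comap_bot]
  · apply comap_eq_top_of_disjoint
    intro x hx
    exact x.2 hx

theorem main [IsFinite G.t] :
    ∃ Z : ℕ → G.U.IdealSheafData, Z 0 = ⊥ ∧ Monotone Z ∧
      (⋂ r, ((Z r).support : Set G.U)) = ∅ ∧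
      (∀ r, ∃ φ : pullback G.s (Z r).subschemeι ≅ pullback G.t (Z r).subschemeι,
        φ.hom ≫ pullback.fst G.t (Z r).subschemeι = pullback.fst G.s (Z r).subschemeι) ∧
      ∀ r, Mor2.IsFinLocFreeOfDeg (r + 1)
        (pullback.snd G.s (((Z r).subschemeι ⁻¹ᵁ (Z (r + 1)).support.compl).ι ≫
          (Z r).subschemeι)) :=
  ⟨Z G, Z_zero G, Z_mono G, iInter_support G, exists_iso G, strata G⟩

end Groth.Agent.Helper8.GrpdFit
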