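import Mathlib
import Groth.Prelude.Def_Grpd
import Groth.Agent.Helper8.GrpdFit
import Groth.Agent.Helper8.GrpdNormB

/-!
# The invariant open `W` attached to the Fitting stratification of a groupoid scheme
-/

set_option autoImplicit false
set_option linter.unusedSectionVars false
set_option linter.style.haveILetI false
universe u

open CategoryTheory CategoryTheory.Limits AlgebraicGeometry TopologicalSpace

namespace Groth.Agent.Helper8.GrpdThickA

open Groth.Agent.Helper8.GrpdFit Groth.Agent.Helper8.GrpdNormB Groth.Agent.Helper8.FitShC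

variable {S : Scheme.{u}} (G : Grpd.GroupoidScheme S) [IsFinite G.s]

/-- The closed sets of the Fitting stratification. -/
def T (r : ℕ) : Set G.U := ((Z G r).support : Set G.U)

lemma isClosed_T (r : ℕ) : IsClosed (T G r) := (Z G r).support.isClosed

lemma T_zero : T G 0 = Set.univ := by
  unfold T
  rw [Z_zero, Scheme.IdealSheafData.support_bot]
  rfl

lemma T_anti {r r' : ℕ} (h : r ≤ r') : T G r' ⊆ T G r :=
  SetLike.coe_subset_coe.mpr (Scheme.IdealSheafData.support_antitone (Z_mono G h))

lemma exists_notMem_T (u : G.U) : ∃ n, u ∉ T G n := exists_notMem_support_fitSh G.s u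

lemma mem_T_iff (r : ℕ) (ρ : G.R) : G.s ρ ∈ T G r ↔ G.t ρ ∈ T G r := by
  have h := congrArg (fun I : G.R.IdealSheafData => (I.support : Set G.R))
    (comap_s_eq_comap_t G r)
  simp only [Scheme.IdealSheafData.support_comap, Closeds.coe_preimage] at h
  exact Set.ext_iff.mp h ρ

/-- The strata. -/
def Sg (r : ℕ) : Set G.U := T G r \ T G (r + 1)

lemma mem_Sg_iff (r : ℕ) (ρ : G.R) : G.s ρ ∈ Sg G r ↔ G.t ρ ∈ Sg G r := by
  simp only [Sg, Set.mem_diff, mem_T_iff]

lemma Sg_disjoint {r r' : ℕ} (h : r < r') : Disjoint (Sg G r) (Sg G r') := by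
  rw [Set.disjoint_left]
  rintro x ⟨-, hx⟩ ⟨hx', -⟩
  exact hx (T_anti G h hx')

lemma exists_mem_Sg (u : G.U) : ∃ r, u ∈ Sg G r := by
  classical
  have hex := exists_notMem_T G u
  have h0 : u ∉ T G (Nat.find hex) := Nat.find_spec hex
  have hpos : Nat.find hex ≠ 0 := by
    intro h
    rw [h, T_zero] at h0
    exact h0 trivial
  obtain ⟨m, hm⟩ := Nat.exists_eq_succ_of_ne_zero hpos
  refine ⟨m, ?_, ?_⟩
  · by_contra hcon
    exact Nat.find_min hex (show m < Nat.find hex by omega) hcon
  · rw [← Nat.succ_eq_add_one, ← hm]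
    exact h0

/-- The invariant open pieces. -/
def Wr (r : ℕ) : G.U.Opens := ⟨core G (interior (Sg G r)), isOpen_core G _ isOpen_interior⟩

lemma Wr_subset (r : ℕ) : (Wr G r : Set G.U) ⊆ Sg G r :=
  (core_subset G _).trans interior_subset

lemma mem_Wr_iff (r : ℕ) (ρ : G.R) : G.s ρ ∈ Wr G r ↔ G.t ρ ∈ Wr G r :=
  Set.ext_iff.mp (core_invariant G (interior (Sg G r))) ρ

lemma Wr_disjoint (r r' : ℕ) (h : r ≠ r') : Disjoint (Wr G r) (Wr G r') := by
  rw [disjoint_iff, eq_bot_iff]
  intro x hx
  have h1 := Wr_subset G r hx.1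
  have h2 := Wr_subset G r' hx.2
  rcases lt_or_gt_of_ne h with h | h
  · exact (Set.disjoint_left.mp (Sg_disjoint G h) h1 h2).elim
  · exact (Set.disjoint_left.mp (Sg_disjoint G h) h2 h1).elim

/-- The invariant open `W`. -/
def W : G.U.Opens := ⨆ r, Wr G r

lemma mem_W_iff (ρ : G.R) : G.s ρ ∈ W G ↔ G.t ρ ∈ W G := by
  simp only [W, Opens.mem_iSup, mem_Wr_iff]

lemma W_inv : G.s ⁻¹ᵁ W G = G.t ⁻¹ᵁ W G := by
  ext ρ
  exact mem_W_iff G ρ

lemma Wr_le_W (r : ℕ) : Wr G r ≤ W G := le_iSup (Wr G) r

theorem density [IsFinite G.t] (u : G.U) :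
    ∃ ρ : G.R, G.t ρ = u ∧ G.s ρ ∈ closure (W G : Set G.U) := by
  let C : Set G.U := G.t '' (G.s ⁻¹' closure (W G : Set G.U))
  have hC : IsClosed C := G.t.isClosedMap _ (isClosed_closure.preimage G.s.continuous)
  have key : ∀ r, ∀ u, u ∉ T G r → u ∈ C := by
    intro r
    induction r with
    | zero =>
      intro u hu
      rw [T_zero] at hu
      exact (hu trivial).elim
    | succ r ih =>
      intro u hu
      by_cases hur : u ∈ T G r
      · by_cases huW : u ∈ Wr G r
        · refine ⟨G.e u, ?_, e_t_apply G u⟩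
          show G.s (G.e u) ∈ closure (W G : Set G.U)
          rw [e_s_apply]
          exact subset_closure (Wr_le_W G r huW)
        · -- some orbit point is not interior
          have hex : ∃ ρ : G.R, G.s ρ = u ∧ G.t ρ ∉ interior (Sg G r) := by
            by_contra hcon
            push_neg at hcon
            exact huW hcon
          obtain ⟨ρ, hρs, hρt⟩ := hex
          have huS : u ∈ Sg G r := ⟨hur, hu⟩
          have hvS : G.t ρ ∈ Sg G r := (mem_Sg_iff G r ρ).mp (hρs ▸ huS)
          have hvcl : G.t ρ ∈ closure (T G r)ᶜ := by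
            by_contra hcon
            rw [closure_compl] at hcon
            have h1 : G.t ρ ∈ interior (T G r) := not_not.mp hcon
            have h2 : G.t ρ ∈ interior (T G r) ∩ (T G (r + 1))ᶜ := ⟨h1, hvS.2⟩
            have h3 : interior (T G r) ∩ (T G (r + 1))ᶜ ⊆ interior (Sg G r) := by
              apply interior_maximal
              · exact Set.inter_subset_inter_left _ interior_subset
              · exact isOpen_interior.inter (isClosed_T G (r + 1)).isOpen_compl
            exact hρt (h3 h2)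
          have hvC : G.t ρ ∈ C := closure_minimal (fun x hx => ih x hx) hC hvcl
          obtain ⟨ρ₂, hρ₂, hρ₂t⟩ := hvC
          obtain ⟨ρ₃, h3s, h3t⟩ := Groth.Agent.Helper2.Grpd1.exists_comp G (G.i ρ) ρ₂
            (by rw [i_s_apply, hρ₂t])
          refine ⟨ρ₃, ?_, ?_⟩
          · show G.s ρ₃ ∈ closure (W G : Set G.U)
            rw [h3s]
            exact hρ₂
          · rw [h3t, i_t_apply, hρs]
      · exact ih u hur
  obtain ⟨n, hn⟩ := exists_notMem_T G u
  obtain ⟨ρ, hρ, hρt⟩ := key n u hn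
  exact ⟨ρ, hρt, hρ⟩

end Groth.Agent.Helper8.GrpdThickA
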