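import Mathlib
import Groth.Agent.Helper8.FitShB
import Groth.Agent.Helper8.SchIdem

/-!
# Ideal sheaves: locality for pullbacks along open immersions and gluing over disjoint open covers
-/

set_option autoImplicit false
set_option linter.unusedSectionVars false
set_option linter.style.haveILetI false
universe u

open CategoryTheory CategoryTheory.Limits AlgebraicGeometry TopologicalSpace

namespace Groth.Agent.Helper8.IdlGlue

open Groth.Agent.Helper8.FitShB

variable {X : Scheme.{u}}

/-- If two ideal sheaves agree after restriction to an open `O`, they agree after pullback along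
any morphism landing in `O`. -/
theorem comap_eq_of_forall_mem {I J : X.IdealSheafData} (O : X.Opens)
    (h : I.comap O.ι = J.comap O.ι) {T : Scheme.{u}} (f : T ⟶ X) (hf : ∀ x, f x ∈ O) :
    I.comap f = J.comap f := by
  have hr : Set.range f ⊆ Set.range O.ι := by
    rw [Scheme.Opens.range_ι]
    rintro _ ⟨x, rfl⟩
    exact hf x
  have hfac : IsOpenImmersion.lift O.ι f hr ≫ O.ι = f := IsOpenImmersion.lift_fac _ _ _
  rw [← hfac, Scheme.IdealSheafData.comap_comp, Scheme.IdealSheafData.comap_comp, h]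

/-- Restriction of an ideal sheaf to an open, on affine opens contained in it. -/
theorem ideal_eq_of_comap_ι_eq {I J : X.IdealSheafData} (O : X.Opens)
    (h : I.comap O.ι = J.comap O.ι) (V : X.affineOpens) (hV : V.1 ≤ O) :
    I.ideal V = J.ideal V := by
  have hV' : IsAffineOpen (O.ι ⁻¹ᵁ V.1) := V.2.preimage_of_isOpenImmersion O.ι
    (by rw [Scheme.Opens.opensRange_ι]; exact hV)
  have h1 := ideal_comap_of_le I O.ι V.2 hV' le_rfl
  have h2 := ideal_comap_of_le J O.ι V.2 hV' le_rfl
  rw [h] at h1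
  have h3 := h1.symm.trans h2
  rw [Scheme.Hom.appLE_eq_app] at h3
  haveI : IsIso (O.ι.app V.1) := Scheme.Hom.isIso_app O.ι V.1
    (by rw [Scheme.Opens.opensRange_ι]; exact hV)
  have hb : Function.Bijective (O.ι.app V.1).hom := ConcreteCategory.bijective_of_isIso _
  have := congrArg (Ideal.comap (O.ι.app V.1).hom) h3
  rwa [Ideal.comap_map_of_bijective _ hb, Ideal.comap_map_of_bijective _ hb] at this

theorem comap_ι_eq_of_ideal_eq {I J : X.IdealSheafData} (O : X.Opens)
    (h : ∀ V : X.affineOpens, V.1 ≤ O → I.ideal V = J.ideal V) :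
    I.comap O.ι = J.comap O.ι := by
  ext V : 2
  rw [Scheme.IdealSheafData.ideal_comap_of_isOpenImmersion,
    Scheme.IdealSheafData.ideal_comap_of_isOpenImmersion, h]
  exact (Scheme.Hom.image_le_opensRange O.ι V.1).trans (Scheme.Opens.opensRange_ι O).le

/-- Ideal sheaves can be compared on an open cover. -/
theorem ext_of_comap_ι {I J : X.IdealSheafData} {κ : Type*} (O : κ → X.Opens)
    (hO : ⨆ k, O k = ⊤) (h : ∀ k, I.comap (O k).ι = J.comap (O k).ι) : I = J := by
  let ι := {p : κ × X.affineOpens // p.2.1 ≤ O p.1}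
  refine Scheme.IdealSheafData.ext_of_iSup_eq_top (ι := ι) (fun p => p.1.2) ?_ ?_
  · rw [eq_top_iff]
    intro x _
    have hx : x ∈ (⨆ k, O k : X.Opens) := hO ▸ trivial
    obtain ⟨k, hk⟩ := Opens.mem_iSup.mp hx
    obtain ⟨_, ⟨V, hV, rfl⟩, hxV, hVO⟩ :=
      X.isBasis_affineOpens.exists_subset_of_mem_open hk (O k).2
    exact Opens.mem_iSup.mpr ⟨⟨⟨k, ⟨V, hV⟩⟩, hVO⟩, hxV⟩
  · rintro ⟨⟨k, V⟩, hV⟩
    exact ideal_eq_of_comap_ι_eq (O k) (h k) V hV

/-- Gluing ideal sheaves over a pairwise disjoint open cover. -/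
theorem exists_glue {κ : Type*} (O : κ → X.Opens) (hdisj : ∀ k k', k ≠ k' → Disjoint (O k) (O k'))
    (hcov : ⨆ k, O k = ⊤) (I : κ → X.IdealSheafData) :
    ∃ J : X.IdealSheafData, ∀ k, J.comap (O k).ι = (I k).comap (O k).ι := by
  classical
  have hclopen : ∀ k, IsClopen (O k : Set X) := by
    intro k
    refine ⟨?_, (O k).2⟩
    have hc : ((O k : Set X))ᶜ = ⋃ k' ∈ {k' | k' ≠ k}, (O k' : Set X) := by
      ext x
      simp only [Set.mem_compl_iff, SetLike.mem_coe, Set.mem_iUnion, Set.mem_ofPred_eq,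
        exists_prop]
      constructor
      · intro hx
        have hx' : x ∈ (⨆ k, O k : X.Opens) := hcov ▸ trivial
        obtain ⟨k', hk'⟩ := Opens.mem_iSup.mp hx'
        exact ⟨k', fun h => hx (h ▸ hk'), hk'⟩
      · rintro ⟨k', hne, hk'⟩ hx
        exact (hdisj k' k hne).le_bot ⟨hk', hx⟩
    rw [← isOpen_compl_iff, hc]
    exact isOpen_biUnion (fun k' _ => (O k').2)
  choose ε hε hεO using fun k => SchIdem.exists_idem_basicOpen_eq (O k : Set X) (hclopen k)
  refine ⟨⨆ k, I k * Scheme.IdealSheafData.ofIdealTop (Ideal.span {ε k}), fun k => ?_⟩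
  apply comap_ι_eq_of_ideal_eq
  intro V hV
  have hres : ∀ k', (X.presheaf.map (homOfLE (le_top : V.1 ≤ ⊤)).op).hom (ε k') =
      if k' = k then 1 else 0 := by
    intro k'
    refine TopCat.Presheaf.section_ext X.sheaf V.1 _ _ (fun x hx => ?_)
    have hg : X.presheaf.germ V.1 x hx ((X.presheaf.map (homOfLE (le_top : V.1 ≤ ⊤)).op).hom (ε k'))
        = X.presheaf.germ ⊤ x trivial (ε k') :=
      TopCat.Presheaf.germ_res_apply X.presheaf (homOfLE (le_top : V.1 ≤ ⊤)) x hx (ε k')
    show X.presheaf.germ V.1 x hx _ = X.presheaf.germ V.1 x hx _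
    rw [hg]
    split_ifs with h
    · subst h
      rw [map_one]
      refine (SchIdem.germ_idem (ε k') (hε k') x).1 ?_
      rw [← SetLike.mem_coe, hεO]
      exact hV hx
    · rw [map_zero]
      refine (SchIdem.germ_idem (ε k') (hε k') x).2 ?_
      rw [← SetLike.mem_coe, hεO]
      intro hx'
      exact (hdisj k' k h).le_bot ⟨hx', hV hx⟩
  have hterm : ∀ k', (I k' * Scheme.IdealSheafData.ofIdealTop (Ideal.span {ε k'})).ideal V =
      if k' = k then (I k).ideal V else ⊥ := by
    intro k'
    rw [Scheme.IdealSheafData.ideal_mul, Pi.mul_apply, Scheme.IdealSheafData.ofIdealTop_ideal,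
      Ideal.map_span, Set.image_singleton, hres k']
    split_ifs with h
    · subst h
      rw [Ideal.span_singleton_one, Ideal.mul_top]
    · rw [Ideal.span_singleton_eq_bot.mpr rfl, Ideal.mul_bot]
  rw [Scheme.IdealSheafData.ideal_iSup, iSup_apply]
  apply le_antisymm
  · refine iSup_le fun k' => ?_
    rw [hterm k']
    split_ifs
    · exact le_rfl
    · exact bot_le
  · refine le_iSup_of_le k ?_
    rw [hterm k, if_pos rfl]

end Groth.Agent.Helper8.IdlGlue
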