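import Mathlib
import Groth.Prelude.Def_Grpd
import Groth.Prelude.Def_Mor2
import Groth.Agent.Helper8.GrpdThickA
import Groth.Agent.Helper8.IdlGlue
import Groth.Agent.Helper2.Grpd19

/-!
# The invariant thickening `W' ⊆ W` over which a finite groupoid is finite locally free
-/

set_option autoImplicit false
set_option linter.unusedSectionVars false
set_option linter.style.haveILetI false
universe u

open CategoryTheory CategoryTheory.Limits AlgebraicGeometry TopologicalSpace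

namespace Groth.Agent.Helper8.GrpdThickB

open Groth.Agent.Helper8.GrpdFit Groth.Agent.Helper8.GrpdThickA Groth.Agent.Helper8.IdlGlue
  Groth.Agent.Helper8.FitShC

section General

/-- A property local on the target holds for a base change `pullback.snd f g` if it holds after
further restricting to an open cover of the new base. -/
theorem of_openCover_snd (P : MorphismProperty Scheme.{u}) [IsZariskiLocalAtTarget P]
    {A B B' : Scheme.{u}} (f : A ⟶ B) (g : B' ⟶ B) (𝒰 : B'.OpenCover)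
    (h : ∀ i, P (pullback.snd f (𝒰.f i ≫ g))) : P (pullback.snd f g) := by
  rw [IsZariskiLocalAtTarget.iff_of_openCover (P := P) 𝒰]
  intro i
  show P (pullback.snd (pullback.snd f g) (𝒰.f i))
  rw [← pullbackLeftPullbackSndIso_hom_snd f g (𝒰.f i)]
  exact (P.cancel_left_of_respectsIso _ _).mpr (h i)

/-- Changing the first leg of a pullback by an isomorphism. -/
theorem snd_iff_of_iso (P : MorphismProperty Scheme.{u}) [P.RespectsIso]
    {R U Y : Scheme.{u}} (s t : R ⟶ U) (a : R ⟶ R) [IsIso a] (ha : a ≫ s = t) (j : Y ⟶ U) :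
    P (pullback.snd t j) ↔ P (pullback.snd s j) := by
  have hpb : IsPullback (pullback.fst t j ≫ a) (pullback.snd t j) s j :=
    IsPullback.of_iso (IsPullback.of_hasPullback t j) (Iso.refl _) (asIso a) (Iso.refl _)
      (Iso.refl _) (by simp) (by simp) (by simp [ha]) (by simp)
  rw [← hpb.isoPullback_hom_snd]
  exact P.cancel_left_of_respectsIso _ _

end General

variable {S : Scheme.{u}} (G : Grpd.GroupoidScheme S) [IsFinite G.s]

/-- The pieces of `W` as opens of the scheme `W`. -/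
def O (r : ℕ) : (↑(W G) : Scheme.{u}).Opens := (W G).ι ⁻¹ᵁ (Wr G r)

lemma O_cover : ⨆ r, O G r = ⊤ := by
  rw [eq_top_iff]
  intro x _
  have hx : ((W G).ι x) ∈ W G := x.2
  obtain ⟨r, hr⟩ := Opens.mem_iSup.mp hx
  exact Opens.mem_iSup.mpr ⟨r, hr⟩

lemma O_disjoint (r r' : ℕ) (h : r ≠ r') : Disjoint (O G r) (O G r') := by
  rw [disjoint_iff, eq_bot_iff]
  intro x hx
  exact ((Wr_disjoint G r r' h).le_bot ⟨hx.1, hx.2⟩).elim

/-- The defining property of the glued ideal sheaf. -/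
def IsGlue (J : (↑(W G) : Scheme.{u}).IdealSheafData) : Prop :=
  ∀ r, J.comap (O G r).ι = ((Z G r).comap (W G).ι).comap (O G r).ι

theorem exists_isGlue : ∃ J : (↑(W G) : Scheme.{u}).IdealSheafData, IsGlue G J :=
  exists_glue (O G) (O_disjoint G) (O_cover G) (fun r => (Z G r).comap (W G).ι)

variable {G}
variable {J : (↑(W G) : Scheme.{u}).IdealSheafData} (hJ : IsGlue G J)

include hJ

theorem comap_of_mem (r : ℕ) {T : Scheme.{u}} (h : T ⟶ ↑(W G))
    (hh : ∀ x, (h ≫ (W G).ι) x ∈ Wr G r) :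
    J.comap h = (Z G r).comap (h ≫ (W G).ι) := by
  rw [comap_eq_of_forall_mem (O G r) (hJ r) h (fun x => hh x),
    ← Scheme.IdealSheafData.comap_comp]

theorem support_eq_top : J.support = ⊤ := by
  rw [eq_top_iff]
  intro x _
  have hx : ((W G).ι x) ∈ W G := x.2
  obtain ⟨r, hr⟩ := Opens.mem_iSup.mp hx
  have h1 := comap_of_mem hJ r (O G r).ι (fun y => y.2)
  have h2 := congrArg (fun I : (↑(O G r) : Scheme.{u}).IdealSheafData =>
    (I.support : Set (↑(O G r) : Scheme.{u}))) h1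
  simp only [Scheme.IdealSheafData.support_comap, Closeds.coe_preimage] at h2
  have h3 : (⟨x, hr⟩ : ↑(O G r)) ∈ ((O G r).ι ≫ (W G).ι) ⁻¹' ((Z G r).support : Set G.U) := by
    exact (Wr_subset G r hr).1
  rw [← h2] at h3
  exact h3

/-- Factoring a morphism through `W' → W → U`. -/
theorem exists_factor {A : Scheme.{u}} (a : A ⟶ G.U) (ha : ∀ x, ∃ r, a x ∈ Wr G r)
    (hz : ∀ r, (Z G r).comap ((a ⁻¹ᵁ Wr G r).ι ≫ a) = ⊥) :
    ∃ m : A ⟶ J.subscheme, m ≫ J.subschemeι ≫ (W G).ι = a := by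
  have hr : Set.range a ⊆ Set.range (W G).ι := by
    rw [Scheme.Opens.range_ι]
    rintro _ ⟨x, rfl⟩
    obtain ⟨r, hr⟩ := ha x
    exact Opens.mem_iSup.mpr ⟨r, hr⟩
  have hfac : IsOpenImmersion.lift (W G).ι a hr ≫ (W G).ι = a := IsOpenImmersion.lift_fac _ _ _
  have hbot : J.comap (IsOpenImmersion.lift (W G).ι a hr) = ⊥ := by
    refine ext_of_comap_ι (fun r => a ⁻¹ᵁ Wr G r) ?_ (fun r => ?_)
    · rw [eq_top_iff]
      intro x _
      obtain ⟨r, hr⟩ := ha x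
      exact Opens.mem_iSup.mpr ⟨r, hr⟩
    · rw [← Scheme.IdealSheafData.comap_comp, Scheme.IdealSheafData.comap_bot,
        comap_of_mem hJ r ((a ⁻¹ᵁ Wr G r).ι ≫ IsOpenImmersion.lift (W G).ι a hr) ?_,
        Category.assoc, hfac, hz r]
      intro x
      rw [Category.assoc, hfac]
      exact x.2
  have hle : J.subschemeι.ker ≤ (IsOpenImmersion.lift (W G).ι a hr).ker := by
    rw [Scheme.IdealSheafData.ker_subschemeι, ← Scheme.IdealSheafData.map_bot,
      Scheme.IdealSheafData.le_map_iff_comap_le, hbot]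
  refine ⟨IsClosedImmersion.lift J.subschemeι (IsOpenImmersion.lift (W G).ι a hr) hle, ?_⟩
  rw [← Category.assoc, IsClosedImmersion.lift_fac, hfac]

/-- Comparison of the two pullbacks of `W'`. -/
theorem exists_lift_pullback (f₁ f₂ : G.R ⟶ G.U)
    (hZ : ∀ r, (Z G r).comap f₁ = (Z G r).comap f₂)
    (hW : ∀ r ρ, f₁ ρ ∈ Wr G r ↔ f₂ ρ ∈ Wr G r) :
    ∃ m : pullback f₁ (J.subschemeι ≫ (W G).ι) ⟶ pullback f₂ (J.subschemeι ≫ (W G).ι),
      m ≫ pullback.fst f₂ _ = pullback.fst f₁ _ := by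
  have key : ∀ x : ↥(pullback f₁ (J.subschemeι ≫ (W G).ι)),
      ∃ r, f₁ (pullback.fst f₁ (J.subschemeι ≫ (W G).ι) x) ∈ Wr G r := by
    intro x
    have e : f₁ (pullback.fst f₁ (J.subschemeι ≫ (W G).ι) x) =
        (W G).ι (J.subschemeι (pullback.snd f₁ (J.subschemeι ≫ (W G).ι) x)) := by
      rw [← Scheme.Hom.comp_apply, ← Scheme.Hom.comp_apply, ← Scheme.Hom.comp_apply,
        pullback.condition]
    rw [e]
    exact Opens.mem_iSup.mp (J.subschemeι (pullback.snd f₁ (J.subschemeι ≫ (W G).ι) x)).2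
  have hz : ∀ r, (Z G r).comap (((pullback.fst f₁ (J.subschemeι ≫ (W G).ι) ≫ f₂) ⁻¹ᵁ Wr G r).ι ≫
      pullback.fst f₁ (J.subschemeι ≫ (W G).ι) ≫ f₂) = ⊥ := by
    intro r
    have e1 : ((pullback.fst f₁ (J.subschemeι ≫ (W G).ι) ≫ f₂) ⁻¹ᵁ Wr G r).ι ≫
        pullback.fst f₁ (J.subschemeι ≫ (W G).ι) ≫ f₂ =
        (((pullback.fst f₁ (J.subschemeι ≫ (W G).ι) ≫ f₂) ⁻¹ᵁ Wr G r).ι ≫
          pullback.fst f₁ (J.subschemeι ≫ (W G).ι)) ≫ f₂ := by
      rw [Category.assoc]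
    rw [e1, Scheme.IdealSheafData.comap_comp, ← hZ r, ← Scheme.IdealSheafData.comap_comp,
      Category.assoc, pullback.condition]
    have e2 : ((pullback.fst f₁ (J.subschemeι ≫ (W G).ι) ≫ f₂) ⁻¹ᵁ Wr G r).ι ≫
        pullback.snd f₁ (J.subschemeι ≫ (W G).ι) ≫ J.subschemeι ≫ (W G).ι =
        (((pullback.fst f₁ (J.subschemeι ≫ (W G).ι) ≫ f₂) ⁻¹ᵁ Wr G r).ι ≫
          pullback.snd f₁ (J.subschemeι ≫ (W G).ι) ≫ J.subschemeι) ≫ (W G).ι := by
      simp only [Category.assoc]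
    have hmem : ∀ x, ((((pullback.fst f₁ (J.subschemeι ≫ (W G).ι) ≫ f₂) ⁻¹ᵁ Wr G r).ι ≫
          pullback.snd f₁ (J.subschemeι ≫ (W G).ι) ≫ J.subschemeι) ≫ (W G).ι) x ∈ Wr G r := by
      intro x
      have hx : f₂ (pullback.fst f₁ (J.subschemeι ≫ (W G).ι) x.1) ∈ Wr G r := x.2
      rw [← hW] at hx
      have e4 : ((((pullback.fst f₁ (J.subschemeι ≫ (W G).ι) ≫ f₂) ⁻¹ᵁ Wr G r).ι ≫
          pullback.snd f₁ (J.subschemeι ≫ (W G).ι) ≫ J.subschemeι) ≫ (W G).ι) x =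
          f₁ (pullback.fst f₁ (J.subschemeι ≫ (W G).ι) x.1) := by
        rw [← e2, ← pullback.condition]
        rfl
      rw [e4]
      exact hx
    rw [e2, ← comap_of_mem hJ r _ hmem]
    have e3 : ((pullback.fst f₁ (J.subschemeι ≫ (W G).ι) ≫ f₂) ⁻¹ᵁ Wr G r).ι ≫
        pullback.snd f₁ (J.subschemeι ≫ (W G).ι) ≫ J.subschemeι =
        (((pullback.fst f₁ (J.subschemeι ≫ (W G).ι) ≫ f₂) ⁻¹ᵁ Wr G r).ι ≫
          pullback.snd f₁ (J.subschemeι ≫ (W G).ι)) ≫ J.subschemeι := by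
      rw [Category.assoc]
    rw [e3, Scheme.IdealSheafData.comap_comp, comap_subschemeι_self,
      Scheme.IdealSheafData.comap_bot]
  obtain ⟨m, hm⟩ := exists_factor hJ (pullback.fst f₁ (J.subschemeι ≫ (W G).ι) ≫ f₂)
    (fun x => by
      obtain ⟨r, hr⟩ := key x
      exact ⟨r, (hW r _).mp hr⟩) hz
  exact ⟨pullback.lift (pullback.fst f₁ (J.subschemeι ≫ (W G).ι)) m (by rw [hm]),
    pullback.lift_fst _ _ _⟩

omit hJ in
theorem isIso_of_mono_factor {A B R : Scheme.{u}} (a : A ⟶ R) (b : B ⟶ R) [Mono a] [Mono b]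
    (m : A ⟶ B) (m' : B ⟶ A) (hm : m ≫ b = a) (hm' : m' ≫ a = b) :
    ∃ φ : A ≅ B, φ.hom ≫ b = a := by
  refine ⟨⟨m, m', ?_, ?_⟩, hm⟩
  · rw [← cancel_mono a, Category.assoc, hm', hm, Category.id_comp]
  · rw [← cancel_mono b, Category.assoc, hm, hm', Category.id_comp]

theorem exists_iso :
    ∃ φ : pullback G.s (J.subschemeι ≫ (W G).ι) ≅ pullback G.t (J.subschemeι ≫ (W G).ι),
      φ.hom ≫ pullback.fst G.t (J.subschemeι ≫ (W G).ι) =
        pullback.fst G.s (J.subschemeι ≫ (W G).ι) := by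
  obtain ⟨m, hm⟩ := exists_lift_pullback hJ G.s G.t (fun r => comap_s_eq_comap_t G r)
    (fun r ρ => mem_Wr_iff G r ρ)
  obtain ⟨m', hm'⟩ := exists_lift_pullback hJ G.t G.s (fun r => (comap_s_eq_comap_t G r).symm)
    (fun r ρ => (mem_Wr_iff G r ρ).symm)
  exact isIso_of_mono_factor _ _ m m' hm hm'

theorem isFinLocFree_s : Mor2.IsFinLocFree (pullback.snd G.s (J.subschemeι ≫ (W G).ι)) := by
  have hcov : IsOpenCover (fun r => J.subschemeι ⁻¹ᵁ O G r) := by
    show ⨆ r, J.subschemeι ⁻¹ᵁ O G r = ⊤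
    rw [← Scheme.Hom.preimage_iSup, O_cover]
    rfl
  let 𝒰 := J.subscheme.openCoverOfIsOpenCover (fun r => J.subschemeι ⁻¹ᵁ O G r) hcov
  have hloc : ∀ r : ℕ, Mor2.IsFinLocFreeOfDeg (r + 1)
      (pullback.snd G.s ((J.subschemeι ⁻¹ᵁ O G r).ι ≫ J.subschemeι ≫ (W G).ι)) := by
    intro r
    apply isFinLocFreeOfDeg_of_comap
    · have e : (J.subschemeι ⁻¹ᵁ O G r).ι ≫ J.subschemeι ≫ (W G).ι =
          ((J.subschemeι ⁻¹ᵁ O G r).ι ≫ J.subschemeι) ≫ (W G).ι := by rw [Category.assoc]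
      have hmem : ∀ x, (((J.subschemeι ⁻¹ᵁ O G r).ι ≫ J.subschemeι) ≫ (W G).ι) x ∈ Wr G r :=
        fun x => x.2
      rw [e, ← comap_of_mem hJ r _ hmem, Scheme.IdealSheafData.comap_comp,
        comap_subschemeι_self, Scheme.IdealSheafData.comap_bot]
    · apply comap_eq_top_of_disjoint
      intro x hx
      have hx' : (W G).ι (J.subschemeι x.1) ∈ Wr G r := x.2
      exact (Wr_subset G r hx').2 hx
  refine ⟨inferInstance, ?_, ?_⟩
  · exact of_openCover_snd @Flat G.s _ 𝒰 (fun r => (hloc r).1.2.1)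
  · exact of_openCover_snd @LocallyOfFinitePresentation G.s _ 𝒰 (fun r => (hloc r).1.2.2)

theorem isFinLocFree_t : Mor2.IsFinLocFree (pullback.snd G.t (J.subschemeι ≫ (W G).ι)) := by
  obtain ⟨h1, h2, h3⟩ := isFinLocFree_s hJ
  haveI : IsIso G.i := ⟨G.i, Groth.Agent.Helper2.Grpd19.i_comp_i G,
    Groth.Agent.Helper2.Grpd19.i_comp_i G⟩
  refine ⟨?_, ?_, ?_⟩
  · exact (snd_iff_of_iso @IsFinite G.s G.t G.i G.i_s _).mpr h1
  · exact (snd_iff_of_iso @Flat G.s G.t G.i G.i_s _).mpr h2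
  · exact (snd_iff_of_iso @LocallyOfFinitePresentation G.s G.t G.i G.i_s _).mpr h3

end Groth.Agent.Helper8.GrpdThickB
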