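import Mathlib
import Groth.Prelude.Def_Grpd
import Groth.Prelude.Def_Mor2
import Groth.Agent.Helper8.GrpdThickB

/-!
# The invariant thickening in the finitely presented case
-/

set_option autoImplicit false
set_option linter.unusedSectionVars false
set_option linter.style.haveILetI false
universe u

open CategoryTheory CategoryTheory.Limits AlgebraicGeometry TopologicalSpace

namespace Groth.Agent.Helper8.GrpdThickD

open Groth.Agent.Helper8.GrpdFit Groth.Agent.Helper8.GrpdThickA Groth.Agent.Helper8.GrpdThickB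
  Groth.Agent.Helper8.IdlGlue Groth.Agent.Helper8.FitShB Groth.Agent.Helper8.FitShC
  Groth.Agent.Helper8.GrpdNormB

section Ring

/-- If `f` lies in every prime contained in `p`, then `f` is nilpotent near `p`. -/
theorem exists_mul_pow_eq_zero {A : Type u} [CommRing A] (p : Ideal A) [p.IsPrime] (f : A)
    (h : ∀ q : Ideal A, q.IsPrime → q ≤ p → f ∈ q) : ∃ a : A, a ∉ p ∧ ∃ n : ℕ, a * f ^ n = 0 := by
  have hnil : algebraMap A (Localization.AtPrime p) f ∈ nilradical (Localization.AtPrime p) := by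
    rw [nilradical_eq_sInf, Ideal.mem_sInf]
    intro Q hQ
    have hQ' : Q.IsPrime := hQ
    obtain ⟨h1, h2⟩ := (IsLocalization.isPrime_iff_isPrime_disjoint p.primeCompl
      (Localization.AtPrime p) Q).mp hQ'
    have hle : Ideal.under A Q ≤ p := by
      intro x hx
      by_contra hxp
      exact Set.disjoint_left.mp h2 (show x ∈ (p.primeCompl : Set A) from hxp) hx
    exact h _ h1 hle
  obtain ⟨n, hn⟩ := mem_nilradical.mp hnil
  rw [← map_pow, IsLocalization.map_eq_zero_iff p.primeCompl] at hn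
  obtain ⟨m, hm⟩ := hn
  exact ⟨m.1, fun hmp => m.2 hmp, n, hm⟩

end Ring

section Sch

variable {X : Scheme.{u}}

/-- A point of an affine open in the closure of a basic open is a specialization of a point of
the basic open. -/
theorem exists_specializes_of_mem_closure_basicOpen {V : X.Opens} (hV : IsAffineOpen V)
    (f : Γ(X, V)) (v : X) (hv : v ∈ V) (hcl : v ∈ closure (X.basicOpen f : Set X)) :
    ∃ x ∈ X.basicOpen f, x ⤳ v := by
  by_contra hcon
  push Not at hcon
  let p := hV.primeIdealOf ⟨v, hv⟩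
  have hp : hV.fromSpec p = v := hV.fromSpec_primeIdealOf ⟨v, hv⟩
  have hall : ∀ q : Ideal Γ(X, V), q.IsPrime → q ≤ p.asIdeal → f ∈ q := by
    intro q hq hqp
    by_contra hfq
    let q' : PrimeSpectrum Γ(X, V) := ⟨q, hq⟩
    have hspec : q' ⤳ p := (PrimeSpectrum.le_iff_specializes q' p).mp hqp
    have hspec' : hV.fromSpec q' ⤳ hV.fromSpec p := hspec.map hV.fromSpec.continuous
    rw [hp] at hspec'
    have hmem : q' ∈ hV.fromSpec ⁻¹ᵁ X.basicOpen f := by
      rw [hV.fromSpec_preimage_basicOpen]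
      exact hfq
    exact hcon _ hmem hspec'
  obtain ⟨a, hap, n, hn⟩ := exists_mul_pow_eq_zero p.asIdeal f hall
  have hva : v ∈ X.basicOpen a := by
    have : p ∈ hV.fromSpec ⁻¹ᵁ X.basicOpen a := by
      rw [hV.fromSpec_preimage_basicOpen]
      exact hap
    rw [← hp]
    exact this
  obtain ⟨y, hya, hyf⟩ := mem_closure_iff.mp hcl _ (X.basicOpen a).2 hva
  have hy : y ∈ X.basicOpen (a * f ^ (n + 1)) := by
    rw [Scheme.basicOpen_mul, Scheme.basicOpen_pow _ _ (Nat.succ_pos n)]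
    exact ⟨hya, hyf⟩
  rw [pow_succ, ← mul_assoc, hn, zero_mul, Scheme.basicOpen_zero] at hy
  exact hy

end Sch

variable {S : Scheme.{u}} (G : Grpd.GroupoidScheme S) [IsFinite G.s]

/-- Fitting ideals of a finite, finitely presented morphism are finitely generated. -/
theorem fitIdeal_fg {X Y : Scheme.{u}} (π : X ⟶ Y) [IsFinite π] [LocallyOfFinitePresentation π]
    (r : ℕ) {V : Y.Opens} (hV : IsAffineOpen V) : (fitIdeal π r V).FG := by
  letI := (π.app V).hom.toAlgebra
  have happ : π.app V = π.appLE V (π ⁻¹ᵁ V) le_rfl := π.app_eq_appLE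
  have hf₁ : (π.app V).hom.Finite := π.finite_app V hV
  have hf₃ : (π.app V).hom.FinitePresentation :=
    happ ▸ π.finitePresentation_appLE hV (hV.preimage π) le_rfl
  haveI : Module.Finite Γ(Y, V) Γ(X, π ⁻¹ᵁ V) := hf₁
  haveI : Algebra.FinitePresentation Γ(Y, V) Γ(X, π ⁻¹ᵁ V) := hf₃
  haveI : Module.FinitePresentation Γ(Y, V) Γ(X, π ⁻¹ᵁ V) :=
    Module.FinitePresentation.of_finite_of_finitePresentation _ _
  exact Groth.Agent.Helper7.FittLib.fitt_fg (R := Γ(Y, V)) (M := Γ(X, π ⁻¹ᵁ V)) r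

/-- Maximal points whose whole orbit consists of maximal points lie in `W`. -/
theorem mem_W_of_maximal [LocallyOfFinitePresentation G.s] (u : G.U)
    (hu : ∀ ρ : G.R, G.s ρ = u → ∀ x : G.U, x ⤳ G.t ρ → x = G.t ρ) : u ∈ W G := by
  obtain ⟨r, hr⟩ := exists_mem_Sg G u
  refine Opens.mem_iSup.mpr ⟨r, ?_⟩
  show u ∈ core G (interior (Sg G r))
  intro ρ hρ
  have hvS : G.t ρ ∈ Sg G r := (mem_Sg_iff G r ρ).mp (hρ ▸ hr)
  have hmax := hu ρ hρ
  -- it suffices to show that `t ρ` is interior to `T r`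
  have hint : G.t ρ ∈ interior (T G r) := by
    by_contra hcon
    have hcl : G.t ρ ∈ closure (T G r)ᶜ := by
      rw [closure_compl]
      exact hcon
    obtain ⟨_, ⟨V, hV, rfl⟩, hvV, -⟩ :=
      G.U.isBasis_affineOpens.exists_subset_of_mem_open (Set.mem_univ (G.t ρ)) isOpen_univ
    have hfg : ((Z G r).ideal ⟨V, hV⟩).FG := fitIdeal_fg G.s r hV
    obtain ⟨s, hs⟩ := hfg
    have hcl2 : G.t ρ ∈ closure ((V : Set G.U) ∩ (T G r)ᶜ) :=
      V.2.inter_closure ⟨hvV, hcl⟩
    have hsub : (V : Set G.U) ∩ (T G r)ᶜ ⊆ ⋃ f ∈ (s : Set Γ(G.U, V)), (G.U.basicOpen f : Set G.U) := by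
      rintro x ⟨hxV, hxT⟩
      have h1 : x ∉ G.U.zeroLocus (U := V) ((Z G r).ideal ⟨V, hV⟩ : Set Γ(G.U, V)) := by
        intro hx
        exact hxT (((Z G r).coe_support_inter ⟨V, hV⟩).ge ⟨hx, hxV⟩).1
      rw [← hs, Scheme.zeroLocus_span, Scheme.mem_zeroLocus_iff] at h1
      push Not at h1
      obtain ⟨f, hf, hxf⟩ := h1
      exact Set.mem_biUnion hf hxf
    have hcl3 := closure_mono hsub hcl2
    rw [s.finite_toSet.closure_biUnion] at hcl3
    obtain ⟨f, hf, hclf⟩ := Set.mem_iUnion₂.mp hcl3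
    obtain ⟨x, hxf, hxv⟩ := exists_specializes_of_mem_closure_basicOpen hV f (G.t ρ) hvV hclf
    have hx := hmax x hxv
    rw [hx] at hxf
    -- `t ρ ∈ D(f)` with `f` in the ideal contradicts `t ρ ∈ T r`
    have h2 : G.t ρ ∈ G.U.zeroLocus (U := V) ((Z G r).ideal ⟨V, hV⟩ : Set Γ(G.U, V)) :=
      (((Z G r).coe_support_inter ⟨V, hV⟩).le ⟨hvS.1, hvV⟩).1
    rw [← hs, Scheme.zeroLocus_span, Scheme.mem_zeroLocus_iff] at h2
    exact h2 f hf hxf
  have h3 : interior (T G r) ∩ (T G (r + 1))ᶜ ⊆ interior (Sg G r) := by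
    apply interior_maximal
    · exact Set.inter_subset_inter_left _ interior_subset
    · exact isOpen_interior.inter (isClosed_T G (r + 1)).isOpen_compl
  exact h3 ⟨hint, hvS.2⟩

variable {G}
variable {J : (↑(W G) : Scheme.{u}).IdealSheafData} (hJ : IsGlue G J)

include hJ in
theorem lfp_subschemeι [LocallyOfFinitePresentation G.s] :
    LocallyOfFinitePresentation J.subschemeι := by
  have hQ : RingHom.StableUnderCompositionWithLocalizationAwaySource
      @RingHom.FinitePresentation := by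
    intro R T' T _ _ _ _ r _ f hf
    exact RingHom.finitePresentation_stableUnderComposition _ _
      (RingHom.finitePresentation_holdsForLocalizationAway T' r) hf
  rw [HasRingHomProperty.iff_exists_appLE (P := @LocallyOfFinitePresentation) hQ]
  intro x
  have hx : J.subschemeι x ∈ (⨆ r, O G r : (↑(W G) : Scheme.{u}).Opens) := by
    rw [O_cover]
    trivial
  obtain ⟨r, hr⟩ := Opens.mem_iSup.mp hx
  obtain ⟨_, ⟨V, hV, rfl⟩, hxV, hVO⟩ :=
    (↑(W G) : Scheme.{u}).isBasis_affineOpens.exists_subset_of_mem_open hr (O G r).2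
  refine ⟨⟨V, hV⟩, ⟨J.subschemeι ⁻¹ᵁ V, hV.preimage J.subschemeι⟩, hxV, le_rfl, ?_⟩
  rw [Scheme.Hom.appLE_eq_app]
  apply RingHom.FinitePresentation.of_surjective _ (J.subschemeι_app_surjective ⟨V, hV⟩)
  rw [J.ker_subschemeι_app ⟨V, hV⟩, ideal_eq_of_comap_ι_eq (O G r) (hJ r) ⟨V, hV⟩ hVO]
  have hV₂ : IsAffineOpen ((W G).ι ''ᵁ V) := hV.image_of_isOpenImmersion _
  rw [ideal_comap_of_le (Z G r) (W G).ι hV₂ hV
    (by rw [Scheme.Hom.preimage_image_eq])]
  exact (fitIdeal_fg G.s r hV₂).map _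

theorem main {S : Scheme.{u}} (G : Grpd.GroupoidScheme S) [IsFinite G.s] [IsFinite G.t]
    [LocallyOfFinitePresentation G.s] [LocallyOfFinitePresentation G.t] :
    ∃ (W : G.U.Opens) (W' : (↑W : Scheme.{u}).IdealSheafData), G.s ⁻¹ᵁ W = G.t ⁻¹ᵁ W ∧
      W'.support = ⊤ ∧
      (∃ φ : pullback G.s (W'.subschemeι ≫ W.ι) ≅ pullback G.t (W'.subschemeι ≫ W.ι),
        φ.hom ≫ pullback.fst G.t (W'.subschemeι ≫ W.ι) =
          pullback.fst G.s (W'.subschemeι ≫ W.ι)) ∧
      (∀ u : G.U, ∃ r : G.R, G.t r = u ∧ G.s r ∈ closure (W : Set G.U)) ∧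
      Mor2.IsFinLocFree (pullback.snd G.s (W'.subschemeι ≫ W.ι)) ∧
      Mor2.IsFinLocFree (pullback.snd G.t (W'.subschemeι ≫ W.ι)) ∧
      LocallyOfFinitePresentation W'.subschemeι ∧
      ∀ u : G.U, (∀ r : G.R, G.s r = u → ∀ x : G.U, x ⤳ G.t r → x = G.t r) → u ∈ W := by
  obtain ⟨J, hJ⟩ := exists_isGlue G
  exact ⟨W G, J, W_inv G, support_eq_top hJ, exists_iso hJ, density G, isFinLocFree_s hJ,
    isFinLocFree_t hJ, lfp_subschemeι hJ, mem_W_of_maximal G⟩

end Groth.Agent.Helper8.GrpdThickD
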