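import Mathlib
import Groth.Prelude.Def_Grpd
import Groth.Prelude.Def_Mor2
import Groth.Agent.Helper8.GrpdThickD

/-!
# Invariant thickenings over invariant opens `V ≤ W` (generalisation of `GrpdThickB`)
-/

set_option autoImplicit false
set_option linter.unusedSectionVars false
set_option linter.style.haveILetI false
universe u

open CategoryTheory CategoryTheory.Limits AlgebraicGeometry TopologicalSpace

namespace Groth.Agent.Helper8.GrpdThickE

open Groth.Agent.Helper8.GrpdFit Groth.Agent.Helper8.GrpdThickA Groth.Agent.Helper8.IdlGlue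
  Groth.Agent.Helper8.FitShB Groth.Agent.Helper8.FitShC
open Groth.Agent.Helper8.GrpdThickB (of_openCover_snd snd_iff_of_iso isIso_of_mono_factor)
open Groth.Agent.Helper8.GrpdThickD (fitIdeal_fg)

variable {S : Scheme.{u}} (G : Grpd.GroupoidScheme S) [IsFinite G.s] (V : G.U.Opens)

/-- The pieces of `V` as opens of the scheme `V`. -/
def O (r : ℕ) : (↑V : Scheme.{u}).Opens := V.ι ⁻¹ᵁ (Wr G r)

lemma O_cover (hVW : V ≤ W G) : ⨆ r, O G V r = ⊤ := by
  rw [eq_top_iff]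
  intro x _
  have hx : (V.ι x) ∈ W G := hVW x.2
  obtain ⟨r, hr⟩ := Opens.mem_iSup.mp hx
  exact Opens.mem_iSup.mpr ⟨r, hr⟩

lemma O_disjoint (r r' : ℕ) (h : r ≠ r') : Disjoint (O G V r) (O G V r') := by
  rw [disjoint_iff, eq_bot_iff]
  intro x hx
  exact ((Wr_disjoint G r r' h).le_bot ⟨hx.1, hx.2⟩).elim

/-- The defining property of the glued ideal sheaf. -/
def IsGlue (K : (↑V : Scheme.{u}).IdealSheafData) : Prop :=
  ∀ r, K.comap (O G V r).ι = ((Z G r).comap V.ι).comap (O G V r).ι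

theorem exists_isGlue (hVW : V ≤ W G) : ∃ K : (↑V : Scheme.{u}).IdealSheafData, IsGlue G V K :=
  exists_glue (O G V) (O_disjoint G V) (O_cover G V hVW) (fun r => (Z G r).comap V.ι)

variable {G V}
variable {K : (↑V : Scheme.{u}).IdealSheafData} (hK : IsGlue G V K) (hVW : V ≤ W G)

include hK

theorem comap_of_mem (r : ℕ) {T : Scheme.{u}} (h : T ⟶ ↑V)
    (hh : ∀ x, (h ≫ V.ι) x ∈ Wr G r) :
    K.comap h = (Z G r).comap (h ≫ V.ι) := by
  rw [comap_eq_of_forall_mem (O G V r) (hK r) h (fun x => hh x),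
    ← Scheme.IdealSheafData.comap_comp]

include hVW

theorem support_eq_top : K.support = ⊤ := by
  rw [eq_top_iff]
  intro x _
  have hx : (V.ι x) ∈ W G := hVW x.2
  obtain ⟨r, hr⟩ := Opens.mem_iSup.mp hx
  have h1 := comap_of_mem hK r (O G V r).ι (fun y => y.2)
  have h2 := congrArg (fun I : (↑(O G V r) : Scheme.{u}).IdealSheafData =>
    (I.support : Set (↑(O G V r) : Scheme.{u}))) h1
  simp only [Scheme.IdealSheafData.support_comap, Closeds.coe_preimage] at h2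
  have h3 : (⟨x, hr⟩ : ↑(O G V r)) ∈ ((O G V r).ι ≫ V.ι) ⁻¹' ((Z G r).support : Set G.U) := by
    exact (Wr_subset G r hr).1
  rw [← h2] at h3
  exact h3

/-- Factoring a morphism through `V' → V → U`. -/
theorem exists_factor {A : Scheme.{u}} (a : A ⟶ G.U) (ha : ∀ x, a x ∈ V)
    (hz : ∀ r, (Z G r).comap ((a ⁻¹ᵁ Wr G r).ι ≫ a) = ⊥) :
    ∃ m : A ⟶ K.subscheme, m ≫ K.subschemeι ≫ V.ι = a := by
  have hr : Set.range a ⊆ Set.range V.ι := by
    rw [Scheme.Opens.range_ι]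
    rintro _ ⟨x, rfl⟩
    exact ha x
  have hfac : IsOpenImmersion.lift V.ι a hr ≫ V.ι = a := IsOpenImmersion.lift_fac _ _ _
  have hbot : K.comap (IsOpenImmersion.lift V.ι a hr) = ⊥ := by
    refine ext_of_comap_ι (fun r => a ⁻¹ᵁ Wr G r) ?_ (fun r => ?_)
    · rw [eq_top_iff]
      intro x _
      obtain ⟨r, hr⟩ := Opens.mem_iSup.mp (hVW (ha x))
      exact Opens.mem_iSup.mpr ⟨r, hr⟩
    · rw [← Scheme.IdealSheafData.comap_comp, Scheme.IdealSheafData.comap_bot,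
        comap_of_mem hK r ((a ⁻¹ᵁ Wr G r).ι ≫ IsOpenImmersion.lift V.ι a hr) ?_,
        Category.assoc, hfac, hz r]
      intro x
      rw [Category.assoc, hfac]
      exact x.2
  have hle : K.subschemeι.ker ≤ (IsOpenImmersion.lift V.ι a hr).ker := by
    rw [Scheme.IdealSheafData.ker_subschemeι, ← Scheme.IdealSheafData.map_bot,
      Scheme.IdealSheafData.le_map_iff_comap_le, hbot]
  refine ⟨IsClosedImmersion.lift K.subschemeι (IsOpenImmersion.lift V.ι a hr) hle, ?_⟩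
  rw [← Category.assoc, IsClosedImmersion.lift_fac, hfac]

/-- Comparison of the two pullbacks of `V'`. -/
theorem exists_lift_pullback (f₁ f₂ : G.R ⟶ G.U)
    (hZ : ∀ r, (Z G r).comap f₁ = (Z G r).comap f₂)
    (hW : ∀ r ρ, f₁ ρ ∈ Wr G r ↔ f₂ ρ ∈ Wr G r) (hV : ∀ ρ, f₁ ρ ∈ V ↔ f₂ ρ ∈ V) :
    ∃ m : pullback f₁ (K.subschemeι ≫ V.ι) ⟶ pullback f₂ (K.subschemeι ≫ V.ι),
      m ≫ pullback.fst f₂ _ = pullback.fst f₁ _ := by
  have key : ∀ x : ↥(pullback f₁ (K.subschemeι ≫ V.ι)),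
      f₁ (pullback.fst f₁ (K.subschemeι ≫ V.ι) x) ∈ V := by
    intro x
    have e : f₁ (pullback.fst f₁ (K.subschemeι ≫ V.ι) x) =
        V.ι (K.subschemeι (pullback.snd f₁ (K.subschemeι ≫ V.ι) x)) := by
      rw [← Scheme.Hom.comp_apply, ← Scheme.Hom.comp_apply, ← Scheme.Hom.comp_apply,
        pullback.condition]
    rw [e]
    exact (K.subschemeι (pullback.snd f₁ (K.subschemeι ≫ V.ι) x)).2
  have hz : ∀ r, (Z G r).comap (((pullback.fst f₁ (K.subschemeι ≫ V.ι) ≫ f₂) ⁻¹ᵁ Wr G r).ι ≫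
      pullback.fst f₁ (K.subschemeι ≫ V.ι) ≫ f₂) = ⊥ := by
    intro r
    have e1 : ((pullback.fst f₁ (K.subschemeι ≫ V.ι) ≫ f₂) ⁻¹ᵁ Wr G r).ι ≫
        pullback.fst f₁ (K.subschemeι ≫ V.ι) ≫ f₂ =
        (((pullback.fst f₁ (K.subschemeι ≫ V.ι) ≫ f₂) ⁻¹ᵁ Wr G r).ι ≫
          pullback.fst f₁ (K.subschemeι ≫ V.ι)) ≫ f₂ := by
      rw [Category.assoc]
    rw [e1, Scheme.IdealSheafData.comap_comp, ← hZ r, ← Scheme.IdealSheafData.comap_comp,
      Category.assoc, pullback.condition]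
    have e2 : ((pullback.fst f₁ (K.subschemeι ≫ V.ι) ≫ f₂) ⁻¹ᵁ Wr G r).ι ≫
        pullback.snd f₁ (K.subschemeι ≫ V.ι) ≫ K.subschemeι ≫ V.ι =
        (((pullback.fst f₁ (K.subschemeι ≫ V.ι) ≫ f₂) ⁻¹ᵁ Wr G r).ι ≫
          pullback.snd f₁ (K.subschemeι ≫ V.ι) ≫ K.subschemeι) ≫ V.ι := by
      simp only [Category.assoc]
    have hmem : ∀ x, ((((pullback.fst f₁ (K.subschemeι ≫ V.ι) ≫ f₂) ⁻¹ᵁ Wr G r).ι ≫
          pullback.snd f₁ (K.subschemeι ≫ V.ι) ≫ K.subschemeι) ≫ V.ι) x ∈ Wr G r := by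
      intro x
      have hx : f₂ (pullback.fst f₁ (K.subschemeι ≫ V.ι) x.1) ∈ Wr G r := x.2
      rw [← hW] at hx
      have e4 : ((((pullback.fst f₁ (K.subschemeι ≫ V.ι) ≫ f₂) ⁻¹ᵁ Wr G r).ι ≫
          pullback.snd f₁ (K.subschemeι ≫ V.ι) ≫ K.subschemeι) ≫ V.ι) x =
          f₁ (pullback.fst f₁ (K.subschemeι ≫ V.ι) x.1) := by
        rw [← e2, ← pullback.condition]
        rfl
      rw [e4]
      exact hx
    rw [e2, ← comap_of_mem hK r _ hmem]
    have e3 : ((pullback.fst f₁ (K.subschemeι ≫ V.ι) ≫ f₂) ⁻¹ᵁ Wr G r).ι ≫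
        pullback.snd f₁ (K.subschemeι ≫ V.ι) ≫ K.subschemeι =
        (((pullback.fst f₁ (K.subschemeι ≫ V.ι) ≫ f₂) ⁻¹ᵁ Wr G r).ι ≫
          pullback.snd f₁ (K.subschemeι ≫ V.ι)) ≫ K.subschemeι := by
      rw [Category.assoc]
    rw [e3, Scheme.IdealSheafData.comap_comp, comap_subschemeι_self,
      Scheme.IdealSheafData.comap_bot]
  obtain ⟨m, hm⟩ := exists_factor hK hVW (pullback.fst f₁ (K.subschemeι ≫ V.ι) ≫ f₂)
    (fun x => (hV _).mp (key x)) hz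
  exact ⟨pullback.lift (pullback.fst f₁ (K.subschemeι ≫ V.ι)) m (by rw [hm]),
    pullback.lift_fst _ _ _⟩

theorem exists_iso (hVinv : ∀ ρ, G.s ρ ∈ V ↔ G.t ρ ∈ V) :
    ∃ φ : pullback G.s (K.subschemeι ≫ V.ι) ≅ pullback G.t (K.subschemeι ≫ V.ι),
      φ.hom ≫ pullback.fst G.t (K.subschemeι ≫ V.ι) =
        pullback.fst G.s (K.subschemeι ≫ V.ι) := by
  obtain ⟨m, hm⟩ := exists_lift_pullback hK hVW G.s G.t (fun r => comap_s_eq_comap_t G r)
    (fun r ρ => mem_Wr_iff G r ρ) hVinv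
  obtain ⟨m', hm'⟩ := exists_lift_pullback hK hVW G.t G.s
    (fun r => (comap_s_eq_comap_t G r).symm) (fun r ρ => (mem_Wr_iff G r ρ).symm)
    (fun ρ => (hVinv ρ).symm)
  exact isIso_of_mono_factor _ _ m m' hm hm'

theorem isFinLocFree_s : Mor2.IsFinLocFree (pullback.snd G.s (K.subschemeι ≫ V.ι)) := by
  have hcov : IsOpenCover (fun r => K.subschemeι ⁻¹ᵁ O G V r) := by
    show ⨆ r, K.subschemeι ⁻¹ᵁ O G V r = ⊤
    rw [← Scheme.Hom.preimage_iSup, O_cover G V hVW]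
    rfl
  let 𝒰 := K.subscheme.openCoverOfIsOpenCover (fun r => K.subschemeι ⁻¹ᵁ O G V r) hcov
  have hloc : ∀ r : ℕ, Mor2.IsFinLocFreeOfDeg (r + 1)
      (pullback.snd G.s ((K.subschemeι ⁻¹ᵁ O G V r).ι ≫ K.subschemeι ≫ V.ι)) := by
    intro r
    apply isFinLocFreeOfDeg_of_comap
    · have e : (K.subschemeι ⁻¹ᵁ O G V r).ι ≫ K.subschemeι ≫ V.ι =
          ((K.subschemeι ⁻¹ᵁ O G V r).ι ≫ K.subschemeι) ≫ V.ι := by rw [Category.assoc]
      have hmem : ∀ x, (((K.subschemeι ⁻¹ᵁ O G V r).ι ≫ K.subschemeι) ≫ V.ι) x ∈ Wr G r :=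
        fun x => x.2
      rw [e, ← comap_of_mem hK r _ hmem, Scheme.IdealSheafData.comap_comp,
        comap_subschemeι_self, Scheme.IdealSheafData.comap_bot]
    · apply comap_eq_top_of_disjoint
      intro x hx
      have hx' : V.ι (K.subschemeι x.1) ∈ Wr G r := x.2
      exact (Wr_subset G r hx').2 hx
  refine ⟨inferInstance, ?_, ?_⟩
  · exact of_openCover_snd @Flat G.s _ 𝒰 (fun r => (hloc r).1.2.1)
  · exact of_openCover_snd @LocallyOfFinitePresentation G.s _ 𝒰 (fun r => (hloc r).1.2.2)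

theorem isFinLocFree_t : Mor2.IsFinLocFree (pullback.snd G.t (K.subschemeι ≫ V.ι)) := by
  obtain ⟨h1, h2, h3⟩ := isFinLocFree_s hK hVW
  haveI : IsIso G.i := ⟨G.i, Groth.Agent.Helper2.Grpd19.i_comp_i G,
    Groth.Agent.Helper2.Grpd19.i_comp_i G⟩
  refine ⟨?_, ?_, ?_⟩
  · exact (snd_iff_of_iso @IsFinite G.s G.t G.i G.i_s _).mpr h1
  · exact (snd_iff_of_iso @Flat G.s G.t G.i G.i_s _).mpr h2
  · exact (snd_iff_of_iso @LocallyOfFinitePresentation G.s G.t G.i G.i_s _).mpr h3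

/-- The thickening is locally of finite presentation as soon as the Fitting ideals are finitely
generated. -/
theorem lfp_subschemeι
    (hfg : ∀ (r : ℕ) (V₂ : G.U.Opens) (hV₂ : IsAffineOpen V₂), ((Z G r).ideal ⟨V₂, hV₂⟩).FG) :
    LocallyOfFinitePresentation K.subschemeι := by
  have hQ : RingHom.StableUnderCompositionWithLocalizationAwaySource
      @RingHom.FinitePresentation := by
    intro R T' T _ _ _ _ r _ f hf
    exact RingHom.finitePresentation_stableUnderComposition _ _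
      (RingHom.finitePresentation_holdsForLocalizationAway T' r) hf
  rw [HasRingHomProperty.iff_exists_appLE (P := @LocallyOfFinitePresentation) hQ]
  intro x
  have hx : K.subschemeι x ∈ (⨆ r, O G V r : (↑V : Scheme.{u}).Opens) := by
    rw [O_cover G V hVW]
    trivial
  obtain ⟨r, hr⟩ := Opens.mem_iSup.mp hx
  obtain ⟨_, ⟨V₁, hV₁, rfl⟩, hxV, hVO⟩ :=
    (↑V : Scheme.{u}).isBasis_affineOpens.exists_subset_of_mem_open hr (O G V r).2
  refine ⟨⟨V₁, hV₁⟩, ⟨K.subschemeι ⁻¹ᵁ V₁, hV₁.preimage K.subschemeι⟩, hxV, le_rfl, ?_⟩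
  rw [Scheme.Hom.appLE_eq_app]
  apply RingHom.FinitePresentation.of_surjective _ (K.subschemeι_app_surjective ⟨V₁, hV₁⟩)
  rw [K.ker_subschemeι_app ⟨V₁, hV₁⟩, ideal_eq_of_comap_ι_eq (O G V r) (hK r) ⟨V₁, hV₁⟩ hVO]
  have hV₂ : IsAffineOpen (V.ι ''ᵁ V₁) := hV₁.image_of_isOpenImmersion _
  rw [ideal_comap_of_le (Z G r) V.ι hV₂ hV₁
    (by rw [Scheme.Hom.preimage_image_eq])]
  exact (hfg r _ hV₂).map _

end Groth.Agent.Helper8.GrpdThickE
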