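import Mathlib
import Groth.Agent.Helper8.GrpdThickD

/-!
# Finitely many maximal points of a quasi-separated scheme lie in a common affine open
-/

set_option autoImplicit false
set_option linter.unusedSectionVars false
universe u

open CategoryTheory CategoryTheory.Limits AlgebraicGeometry TopologicalSpace

namespace Groth.Agent.Helper8.MaxPts

open Groth.Agent.Helper8.GrpdThickD (exists_specializes_of_mem_closure_basicOpen)

variable {X : Scheme.{u}}

/-- A maximal point of an affine open that lies in the closure of a quasi-compact open subset of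
it lies in that subset. -/
theorem mem_of_mem_closure_of_maximal {V : X.Opens} (hV : IsAffineOpen V) (D : X.Opens)
    (hDV : D ≤ V) (hD : IsCompact (D : Set X)) (x : X) (hxV : x ∈ V)
    (hx : ∀ y : X, y ⤳ x → y = x) (hcl : x ∈ closure (D : Set X)) : x ∈ D := by
  have hcov : ∀ z : D, ∃ f : Γ(X, V), X.basicOpen f ≤ D ∧ (z : X) ∈ X.basicOpen f :=
    fun z => hV.exists_basicOpen_le z (hDV z.2)
  choose f hfD hzf using hcov
  obtain ⟨t, ht⟩ := hD.elim_finite_subcover (fun z : D => (X.basicOpen (f z) : Set X))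
    (fun z => (X.basicOpen (f z)).2)
    (fun z hz => Set.mem_iUnion.mpr ⟨⟨z, hz⟩, hzf ⟨z, hz⟩⟩)
  have h1 := closure_mono ht hcl
  rw [Finset.closure_biUnion] at h1
  obtain ⟨z, -, hz⟩ := Set.mem_iUnion₂.mp h1
  obtain ⟨y, hy, hyx⟩ := exists_specializes_of_mem_closure_basicOpen hV (f z) x hxV hz
  rw [hx y hyx] at hy
  exact hfD z hy

theorem exists_isAffineOpen_of_maximal [QuasiSeparatedSpace X] (F : Finset X)
    (hF : ∀ x ∈ F, ∀ y : X, y ⤳ x → y = x) :
    ∃ V : X.Opens, IsAffineOpen V ∧ ∀ x ∈ F, x ∈ V := by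
  classical
  induction F using Finset.induction_on with
  | empty => exact ⟨⊥, isAffineOpen_bot X, fun x hx => absurd hx (Finset.notMem_empty x)⟩
  | insert x F' hxF ih =>
    obtain ⟨V₁, hV₁, hFV₁⟩ := ih (fun y hy => hF y (Finset.mem_insert_of_mem hy))
    by_cases hxV₁ : x ∈ V₁
    · refine ⟨V₁, hV₁, fun y hy => ?_⟩
      rcases Finset.mem_insert.mp hy with rfl | hy
      · exact hxV₁
      · exact hFV₁ y hy
    obtain ⟨_, ⟨V₂, hV₂, rfl⟩, hxV₂, -⟩ :=
      X.isBasis_affineOpens.exists_subset_of_mem_open (Set.mem_univ x) isOpen_univ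
    have hD : IsCompact ((V₁ ⊓ V₂ : X.Opens) : Set X) :=
      QuasiSeparatedSpace.inter_isCompact _ _ V₁.2 hV₁.isCompact V₂.2 hV₂.isCompact
    have hxcl : x ∉ closure ((V₁ ⊓ V₂ : X.Opens) : Set X) := by
      intro hcl
      have := mem_of_mem_closure_of_maximal hV₂ (V₁ ⊓ V₂) inf_le_right hD x hxV₂
        (hF x (Finset.mem_insert_self x F')) hcl
      exact hxV₁ this.1
    let N : X.Opens := ⟨(closure ((V₁ ⊓ V₂ : X.Opens) : Set X))ᶜ, isClosed_closure.isOpen_compl⟩
    have hxN : x ∈ N ⊓ V₂ := ⟨hxcl, hxV₂⟩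
    obtain ⟨a, haN, hxa⟩ := hV₂.exists_basicOpen_le (V := N ⊓ V₂) ⟨x, hxN⟩ hxV₂
    have hdisj : Disjoint V₁ (X.basicOpen a) := by
      rw [disjoint_iff, eq_bot_iff]
      intro y hy
      have h1 := haN hy.2
      exact (h1.1 (subset_closure ⟨hy.1, h1.2⟩)).elim
    let Ufam : Bool → X.Opens := fun b => if b then V₁ else X.basicOpen a
    have hUaff : ∀ b, IsAffineOpen (Ufam b) := by
      intro b
      cases b
      · exact hV₂.basicOpen a
      · exact hV₁
    have hUdisj : Pairwise (Function.onFun Disjoint Ufam) := by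
      intro b b' hbb'
      cases b <;> cases b'
      · exact (hbb' rfl).elim
      · exact hdisj.symm
      · exact hdisj
      · exact (hbb' rfl).elim
    have hVaff := IsAffineOpen.iSup_of_disjoint hUaff hUdisj
    refine ⟨iSup Ufam, hVaff, fun y hy => ?_⟩
    rcases Finset.mem_insert.mp hy with rfl | hy
    · exact Opens.mem_iSup.mpr ⟨false, hxa⟩
    · exact Opens.mem_iSup.mpr ⟨true, hFV₁ y hy⟩

end Groth.Agent.Helper8.MaxPts
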