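import Mathlib
import Groth.Prelude.Def_Grpd
import Groth.Prelude.Def_Mor2
import Groth.Agent.Helper8.GrpdThickE
import Groth.Agent.Helper8.GrpdNormC
import Groth.Agent.Helper8.MaxPts

/-!
# Invariant affine thickenings around finitely many points with maximal orbits
-/

set_option autoImplicit false
set_option linter.unusedSectionVars false
set_option linter.style.haveILetI false
universe u

open CategoryTheory CategoryTheory.Limits AlgebraicGeometry TopologicalSpace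

namespace Groth.Agent.Helper8.GrpdThickF

open Groth.Agent.Helper8.GrpdFit Groth.Agent.Helper8.GrpdThickA Groth.Agent.Helper8.GrpdNormB
  Groth.Agent.Helper8.FitShB

variable {S : Scheme.{u}} (G : Grpd.GroupoidScheme S) [IsFinite G.s]

/-- Points all of whose translates are maximal points lie in `W`, provided the Fitting ideals are
finitely generated. -/
theorem mem_W_of_maximal
    (hfg : ∀ (r : ℕ) (V : G.U.Opens) (hV : IsAffineOpen V), ((Z G r).ideal ⟨V, hV⟩).FG)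
    (u : G.U) (hu : ∀ ρ : G.R, G.s ρ = u → ∀ x : G.U, x ⤳ G.t ρ → x = G.t ρ) : u ∈ W G := by
  obtain ⟨r, hr⟩ := exists_mem_Sg G u
  refine Opens.mem_iSup.mpr ⟨r, ?_⟩
  show u ∈ core G (interior (Sg G r))
  intro ρ hρ
  have hvS : G.t ρ ∈ Sg G r := (mem_Sg_iff G r ρ).mp (hρ ▸ hr)
  have hmax := hu ρ hρ
  have hint : G.t ρ ∈ interior (T G r) := by
    by_contra hcon
    have hcl : G.t ρ ∈ closure (T G r)ᶜ := by
      rw [closure_compl]
      exact hcon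
    obtain ⟨_, ⟨V, hV, rfl⟩, hvV, -⟩ :=
      G.U.isBasis_affineOpens.exists_subset_of_mem_open (Set.mem_univ (G.t ρ)) isOpen_univ
    obtain ⟨s, hs⟩ := hfg r V hV
    have hcl2 : G.t ρ ∈ closure ((V : Set G.U) ∩ (T G r)ᶜ) :=
      V.2.inter_closure ⟨hvV, hcl⟩
    have hsub : (V : Set G.U) ∩ (T G r)ᶜ ⊆
        ⋃ f ∈ (s : Set Γ(G.U, V)), (G.U.basicOpen f : Set G.U) := by
      rintro x ⟨hxV, hxT⟩
      have h1 : x ∉ G.U.zeroLocus (U := V) ((Z G r).ideal ⟨V, hV⟩ : Set Γ(G.U, V)) := by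
        intro hx
        exact hxT (((Z G r).coe_support_inter ⟨V, hV⟩).ge ⟨hx, hxV⟩).1
      rw [← hs, Scheme.zeroLocus_span, Scheme.mem_zeroLocus_iff] at h1
      push Not at h1
      obtain ⟨f, hf, hxf⟩ := h1
      exact Set.mem_biUnion hf hxf
    have hcl3 := closure_mono hsub hcl2
    rw [s.finite_toSet.closure_biUnion] at hcl3
    obtain ⟨f, hf, hclf⟩ := Set.mem_iUnion₂.mp hcl3
    obtain ⟨x, hxf, hxv⟩ :=
      GrpdThickD.exists_specializes_of_mem_closure_basicOpen hV f (G.t ρ) hvV hclf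
    have hx := hmax x hxv
    rw [hx] at hxf
    have h2 : G.t ρ ∈ G.U.zeroLocus (U := V) ((Z G r).ideal ⟨V, hV⟩ : Set Γ(G.U, V)) :=
      (((Z G r).coe_support_inter ⟨V, hV⟩).le ⟨hvS.1, hvV⟩).1
    rw [← hs, Scheme.zeroLocus_span, Scheme.mem_zeroLocus_iff] at h2
    exact h2 f hf hxf
  have h3 : interior (T G r) ∩ (T G (r + 1))ᶜ ⊆ interior (Sg G r) := by
    apply interior_maximal
    · exact Set.inter_subset_inter_left _ interior_subset
    · exact isOpen_interior.inter (isClosed_T G (r + 1)).isOpen_compl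
  exact h3 ⟨hint, hvS.2⟩

/-- An invariant affine open inside `W` containing finitely many points with maximal orbits. -/
theorem exists_invariant_affine [QuasiSeparatedSpace G.U] (m : ℕ) (u : Fin m → G.U)
    (hu : ∀ i (r : G.R), G.s r = u i → ∀ x : G.U, x ⤳ G.t r → x = G.t r)
    (huW : ∀ i, u i ∈ W G) :
    ∃ V : G.U.Opens, IsAffineOpen V ∧ (∀ i, u i ∈ V) ∧ (∀ ρ, G.s ρ ∈ V ↔ G.t ρ ∈ V) ∧
      V ≤ W G := by
  classical
  let O : Finset G.U := Finset.univ.biUnion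
    (fun i => (G.s.finite_preimage_singleton (u i)).toFinset.image G.t)
  have hOmem : ∀ i (ρ : G.R), G.s ρ = u i → G.t ρ ∈ O := by
    intro i ρ hρ
    refine Finset.mem_biUnion.mpr ⟨i, Finset.mem_univ i, Finset.mem_image.mpr ⟨ρ, ?_, rfl⟩⟩
    simpa using hρ
  have hOex : ∀ x ∈ O, ∃ i, ∃ ρ : G.R, G.s ρ = u i ∧ G.t ρ = x := by
    intro x hx
    obtain ⟨i, -, hx⟩ := Finset.mem_biUnion.mp hx
    obtain ⟨ρ, hρ, rfl⟩ := Finset.mem_image.mp hx
    exact ⟨i, ρ, by simpa using hρ, rfl⟩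
  have hOmax : ∀ x ∈ O, ∀ y : G.U, y ⤳ x → y = x := by
    intro x hx y hy
    obtain ⟨i, ρ, hρ, rfl⟩ := hOex x hx
    exact hu i ρ hρ y hy
  have hOW : ∀ x ∈ O, x ∈ W G := by
    intro x hx
    obtain ⟨i, ρ, hρ, rfl⟩ := hOex x hx
    exact (mem_W_iff G ρ).mp (hρ ▸ huW i)
  have hOorb : ∀ x ∈ O, ∀ ρ' : G.R, G.s ρ' = x → G.t ρ' ∈ O := by
    intro x hx ρ' hρ'
    obtain ⟨i, ρ, hρ, rfl⟩ := hOex x hx
    obtain ⟨ρ'', h1, h2⟩ := Groth.Agent.Helper2.Grpd1.exists_comp G ρ' ρ hρ'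
    rw [← h2]
    exact hOmem i ρ'' (h1.trans hρ)
  obtain ⟨V₀, hV₀, hOV₀⟩ := MaxPts.exists_isAffineOpen_of_maximal O hOmax
  let W₀ : G.U.Opens := ⟨core G V₀, isOpen_core G V₀ V₀.2⟩ ⊓ W G
  have hO : ∀ x ∈ O, x ∈ V₀ ∧ x ∈ W₀ := by
    intro x hx
    refine ⟨hOV₀ x hx, ?_, hOW x hx⟩
    intro ρ' hρ'
    exact hOV₀ _ (hOorb x hx ρ' hρ')
  obtain ⟨f, hfW₀, hfO⟩ :=
    Groth.Agent.Helper4.SymOrbA.exists_basicOpen_le_of_finset hV₀ W₀ O hO
  obtain ⟨J, hJ⟩ := GrpdThickB.exists_isGlue G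
  have hfl := (GrpdThickB.isFinLocFree_s hJ).2.1
  have hfp := (GrpdThickB.isFinLocFree_s hJ).2.2
  obtain ⟨g, hg⟩ := GrpdNormC.exists_basicOpen_eq_core G (W G) J (GrpdThickB.support_eq_top hJ)
    hfl hfp V₀ hV₀ f (hfW₀.trans inf_le_right)
    (fun ρ hρ => (hfW₀ hρ).1 ρ rfl)
  have hmemV : ∀ x : G.U, x ∈ G.U.basicOpen g ↔ x ∈ core G (G.U.basicOpen f) := by
    intro x
    rw [← hg]
    rfl
  refine ⟨G.U.basicOpen g, (hV₀.basicOpen f).basicOpen g, fun i => ?_, fun ρ => ?_, ?_⟩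
  · rw [hmemV]
    intro ρ hρ
    exact hfO _ (hOmem i ρ hρ)
  · rw [hmemV, hmemV]
    exact Set.ext_iff.mp (core_invariant G (G.U.basicOpen f : Set G.U)) ρ
  · exact (G.U.basicOpen_le g).trans (hfW₀.trans inf_le_right)

theorem main_fp [IsFinite G.t] [LocallyOfFinitePresentation G.s] [QuasiSeparatedSpace G.U]
    (m : ℕ) (u : Fin m → G.U)
    (hu : ∀ i (r : G.R), G.s r = u i → ∀ x : G.U, x ⤳ G.t r → x = G.t r) :
    ∃ (V : G.U.Opens) (V' : (↑V : Scheme.{u}).IdealSheafData), IsAffineOpen V ∧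
      (∀ i, u i ∈ V) ∧ G.s ⁻¹ᵁ V = G.t ⁻¹ᵁ V ∧ V'.support = ⊤ ∧
      LocallyOfFinitePresentation V'.subschemeι ∧
      (∃ φ : pullback G.s (V'.subschemeι ≫ V.ι) ≅ pullback G.t (V'.subschemeι ≫ V.ι),
        φ.hom ≫ pullback.fst G.t (V'.subschemeι ≫ V.ι) =
          pullback.fst G.s (V'.subschemeι ≫ V.ι)) ∧
      Mor2.IsFinLocFree (pullback.snd G.s (V'.subschemeι ≫ V.ι)) ∧
      Mor2.IsFinLocFree (pullback.snd G.t (V'.subschemeι ≫ V.ι)) := by
  have hfg : ∀ (r : ℕ) (V : G.U.Opens) (hV : IsAffineOpen V), ((Z G r).ideal ⟨V, hV⟩).FG :=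
    fun r V hV => GrpdThickD.fitIdeal_fg G.s r hV
  have huW : ∀ i, u i ∈ W G := fun i => mem_W_of_maximal G hfg (u i) (hu i)
  obtain ⟨V, hVaff, huV, hVinv, hVW⟩ := exists_invariant_affine G m u hu huW
  obtain ⟨K, hK⟩ := GrpdThickE.exists_isGlue G V hVW
  refine ⟨V, K, hVaff, huV, ?_, GrpdThickE.support_eq_top hK hVW,
    GrpdThickE.lfp_subschemeι hK hVW hfg, GrpdThickE.exists_iso hK hVW hVinv,
    GrpdThickE.isFinLocFree_s hK hVW, GrpdThickE.isFinLocFree_t hK hVW⟩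
  ext ρ
  exact hVinv ρ

theorem main_noeth [IsFinite G.t] [IsLocallyNoetherian G.U]
    (m : ℕ) (u : Fin m → G.U)
    (hu : ∀ i (r : G.R), G.s r = u i → ∀ x : G.U, x ⤳ G.t r → x = G.t r) :
    ∃ (V : G.U.Opens) (V' : (↑V : Scheme.{u}).IdealSheafData), IsAffineOpen V ∧
      (∀ i, u i ∈ V) ∧ G.s ⁻¹ᵁ V = G.t ⁻¹ᵁ V ∧ V'.support = ⊤ ∧
      (∃ φ : pullback G.s (V'.subschemeι ≫ V.ι) ≅ pullback G.t (V'.subschemeι ≫ V.ι),
        φ.hom ≫ pullback.fst G.t (V'.subschemeι ≫ V.ι) =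
          pullback.fst G.s (V'.subschemeι ≫ V.ι)) ∧
      Mor2.IsFinLocFree (pullback.snd G.s (V'.subschemeι ≫ V.ι)) ∧
      Mor2.IsFinLocFree (pullback.snd G.t (V'.subschemeι ≫ V.ι)) := by
  have hfg : ∀ (r : ℕ) (V : G.U.Opens) (hV : IsAffineOpen V), ((Z G r).ideal ⟨V, hV⟩).FG := by
    intro r V hV
    haveI : IsNoetherianRing Γ(G.U, V) := IsLocallyNoetherian.component_noetherian ⟨V, hV⟩
    exact IsNoetherian.noetherian _
  have huW : ∀ i, u i ∈ W G := fun i => mem_W_of_maximal G hfg (u i) (hu i)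
  obtain ⟨V, hVaff, huV, hVinv, hVW⟩ := exists_invariant_affine G m u hu huW
  obtain ⟨K, hK⟩ := GrpdThickE.exists_isGlue G V hVW
  refine ⟨V, K, hVaff, huV, ?_, GrpdThickE.support_eq_top hK hVW,
    GrpdThickE.exists_iso hK hVW hVinv,
    GrpdThickE.isFinLocFree_s hK hVW, GrpdThickE.isFinLocFree_t hK hVW⟩
  ext ρ
  exact hVinv ρ

end Groth.Agent.Helper8.GrpdThickF
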