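import Mathlib
import Groth.Prelude.Def_Grpd
import Groth.Prelude.Def_Mor2
import Groth.Agent.Helper8.GrpdThickF
import Groth.Agent.Helper8.GrpdBasicA

/-!
# Invariant affine opens of the form `j⁻¹ D(h)` for an immersion `j : U → Spec A`
-/

set_option autoImplicit false
set_option linter.unusedSectionVars false
set_option linter.style.haveILetI false
universe u

open CategoryTheory CategoryTheory.Limits AlgebraicGeometry TopologicalSpace

namespace Groth.Agent.Helper8.GrpdBasicB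

open Groth.Agent.Helper8.GrpdFit Groth.Agent.Helper8.GrpdThickA Groth.Agent.Helper8.GrpdNormB
  Groth.Agent.Helper8.FitShB

/-- Prime avoidance relative to a closed set. -/
theorem exists_mem_notMem {A : Type u} [CommRing A] (I : Ideal A) (C : Set (PrimeSpectrum A))
    (hC : IsClosed C) (P : Finset (PrimeSpectrum A)) (hP : ∀ p ∈ P, p ∉ C)
    (hIP : ∀ p ∈ P, p ∉ PrimeSpectrum.zeroLocus (I : Set A)) :
    ∃ h ∈ I, (∀ q ∈ C, h ∈ q.asIdeal) ∧ ∀ p ∈ P, h ∉ p.asIdeal := by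
  classical
  by_cases hne : P.Nonempty
  swap
  · refine ⟨0, I.zero_mem, fun q _ => q.asIdeal.zero_mem, fun p hp => ?_⟩
    exact absurd ⟨p, hp⟩ hne
  obtain ⟨p₀, hp₀⟩ := hne
  have hnot : ¬ (((I ⊓ PrimeSpectrum.vanishingIdeal C : Ideal A) : Set A) ⊆
      ⋃ p ∈ (P : Set (PrimeSpectrum A)), (p.asIdeal : Set A)) := by
    intro hsub
    obtain ⟨p, hp, hle⟩ := (Ideal.subset_union_prime
      (f := fun p : PrimeSpectrum A => p.asIdeal) p₀ p₀ (fun p _ _ _ => p.isPrime)).mp hsub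
    rcases (p.isPrime.inf_le).mp hle with h1 | h1
    · exact hIP p hp ((PrimeSpectrum.mem_zeroLocus _ _).mpr h1)
    · apply hP p hp
      have h2 : p ∈ PrimeSpectrum.zeroLocus (PrimeSpectrum.vanishingIdeal C : Set A) :=
        (PrimeSpectrum.mem_zeroLocus _ _).mpr h1
      rw [PrimeSpectrum.zeroLocus_vanishingIdeal_eq_closure, hC.closure_eq] at h2
      exact h2
  rw [Set.not_subset] at hnot
  obtain ⟨h, hh, hnot⟩ := hnot
  have hh' : h ∈ I ⊓ PrimeSpectrum.vanishingIdeal C := hh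
  obtain ⟨hhI, hhC⟩ := Submodule.mem_inf.mp hh'
  refine ⟨h, hhI, fun q hq => ?_, fun p hp hmem => ?_⟩
  · exact (PrimeSpectrum.mem_vanishingIdeal _ _).mp hhC q hq
  · exact hnot (Set.mem_biUnion hp hmem)

theorem spec_basicOpen_mul {A : Type u} [CommRing A] (a h₀ : A) :
    ((PrimeSpectrum.basicOpen (a * h₀) : Opens (PrimeSpectrum A)) :
        (Spec (CommRingCat.of A)).Opens) =
      (Spec (CommRingCat.of A)).basicOpen ((Scheme.ΓSpecIso (CommRingCat.of A)).inv a) ⊓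
      (Spec (CommRingCat.of A)).basicOpen ((Scheme.ΓSpecIso (CommRingCat.of A)).inv h₀) := by
  rw [basicOpen_eq_of_affine (R := CommRingCat.of A) a,
    basicOpen_eq_of_affine (R := CommRingCat.of A) h₀]
  exact PrimeSpectrum.basicOpen_mul a h₀

theorem final_step {X : Scheme.{u}} {A : Type u} [CommRing A] (j : X ⟶ Spec (CommRingCat.of A))
    (h₀ : A) (D₀ : (Spec (CommRingCat.of A)).Opens)
    (hD₀ : D₀ = (Spec (CommRingCat.of A)).basicOpen
      ((Scheme.ΓSpecIso (CommRingCat.of A)).inv h₀))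
    (V₁ : X.Opens) (hV₁ : V₁ = j ⁻¹ᵁ D₀)
    (hsurj : Function.Surjective (j.app D₀).hom) (g : Γ(X, V₁)) :
    ∃ a : A, j ⁻¹ᵁ (PrimeSpectrum.basicOpen (a * h₀)) = X.basicOpen g := by
  subst hV₁
  subst hD₀
  obtain ⟨b, rfl⟩ := hsurj g
  obtain ⟨f', hf'⟩ :=
    (isAffineOpen_top (Spec (CommRingCat.of A))).basicOpen_basicOpen_is_basicOpen _ b
  obtain ⟨a, rfl⟩ :=
    (ConcreteCategory.bijective_of_isIso (Scheme.ΓSpecIso (CommRingCat.of A)).inv).2 f'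
  refine ⟨a, ?_⟩
  refine Eq.trans ?_ (Scheme.preimage_basicOpen j b)
  exact congrArg (fun D => j ⁻¹ᵁ D) ((spec_basicOpen_mul a h₀).trans
    ((inf_eq_left.mpr (hf'.trans_le ((Spec (CommRingCat.of A)).basicOpen_le b))).trans hf'))

variable {S : Scheme.{u}} (G : Grpd.GroupoidScheme S) [IsFinite G.s]

theorem main [IsFinite G.t] [LocallyOfFinitePresentation G.s] (m : ℕ) (u : Fin m → G.U)
    (hu : ∀ i (r : G.R), G.s r = u i → ∀ x : G.U, x ⤳ G.t r → x = G.t r)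
    (A : Type u) [CommRing A] (j : G.U ⟶ Spec (CommRingCat.of A)) [IsImmersion j] (I : Ideal A)
    (hI : ∀ x : G.U, j x ∉ PrimeSpectrum.zeroLocus (I : Set A))
    (hcl : IsClosed (PrimeSpectrum.zeroLocus (I : Set A) ∪ Set.range j)) :
    ∃ h ∈ I, IsAffineOpen (j ⁻¹ᵁ PrimeSpectrum.basicOpen h) ∧
      (∀ i, u i ∈ j ⁻¹ᵁ PrimeSpectrum.basicOpen h) ∧
      G.s ⁻¹ᵁ (j ⁻¹ᵁ PrimeSpectrum.basicOpen h) = G.t ⁻¹ᵁ (j ⁻¹ᵁ PrimeSpectrum.basicOpen h) := by
  classical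
  haveI : QuasiSeparatedSpace G.U := quasiSeparatedSpace_of_quasiSeparated j
  have hfg : ∀ (r : ℕ) (V : G.U.Opens) (hV : IsAffineOpen V), ((Z G r).ideal ⟨V, hV⟩).FG :=
    fun r V hV => GrpdThickD.fitIdeal_fg G.s r hV
  have huW : ∀ i, u i ∈ W G := fun i => GrpdThickF.mem_W_of_maximal G hfg (u i) (hu i)
  obtain ⟨V, hVaff, huV, hVinv, hVW⟩ := GrpdThickF.exists_invariant_affine G m u hu huW
  -- the orbit of the given points
  let O : Finset G.U := Finset.univ.biUnion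
    (fun i => (G.s.finite_preimage_singleton (u i)).toFinset.image G.t)
  have hOmem : ∀ i (ρ : G.R), G.s ρ = u i → G.t ρ ∈ O := by
    intro i ρ hρ
    refine Finset.mem_biUnion.mpr ⟨i, Finset.mem_univ i, Finset.mem_image.mpr ⟨ρ, ?_, rfl⟩⟩
    simpa using hρ
  have hOex : ∀ x ∈ O, ∃ i, ∃ ρ : G.R, G.s ρ = u i ∧ G.t ρ = x := by
    intro x hx
    obtain ⟨i, -, hx⟩ := Finset.mem_biUnion.mp hx
    obtain ⟨ρ, hρ, rfl⟩ := Finset.mem_image.mp hx
    exact ⟨i, ρ, by simpa using hρ, rfl⟩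
  have hOV : ∀ x ∈ O, x ∈ V := by
    intro x hx
    obtain ⟨i, ρ, hρ, rfl⟩ := hOex x hx
    exact (hVinv ρ).mp (hρ ▸ huV i)
  -- an open of `Spec A` inducing `V`
  obtain ⟨N, hN, hNV⟩ := j.isEmbedding.isInducing.isOpen_iff.mp V.2
  have hC : IsClosed ((PrimeSpectrum.zeroLocus (I : Set A) ∪ Set.range j) ∩ Nᶜ) :=
    hcl.inter hN.isClosed_compl
  have hP1 : ∀ p ∈ O.image (fun x => (j x : PrimeSpectrum A)),
      p ∉ ((PrimeSpectrum.zeroLocus (I : Set A) ∪ Set.range j) ∩ Nᶜ) := by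
    rintro p hp ⟨-, hpN⟩
    obtain ⟨x, hx, rfl⟩ := Finset.mem_image.mp hp
    apply hpN
    have hxN : x ∈ j ⁻¹' N := by
      rw [hNV]
      exact hOV x hx
    exact hxN
  have hP2 : ∀ p ∈ O.image (fun x => (j x : PrimeSpectrum A)),
      p ∉ PrimeSpectrum.zeroLocus (I : Set A) := by
    intro p hp
    obtain ⟨x, hx, rfl⟩ := Finset.mem_image.mp hp
    exact hI x
  obtain ⟨h₀, hh₀I, hh₀C, hh₀P⟩ := exists_mem_notMem I _ hC _ hP1 hP2
  let D₀ : (Spec (CommRingCat.of A)).Opens := PrimeSpectrum.basicOpen h₀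
  have hmemD₀ : ∀ y : G.U, y ∈ j ⁻¹ᵁ D₀ ↔ h₀ ∉ (j y : PrimeSpectrum A).asIdeal :=
    fun y => Iff.rfl
  have hV₁V : j ⁻¹ᵁ D₀ ≤ V := by
    intro y hy
    have hy' : h₀ ∉ (j y : PrimeSpectrum A).asIdeal := (hmemD₀ y).mp hy
    have hyC : (j y : PrimeSpectrum A) ∉
        ((PrimeSpectrum.zeroLocus (I : Set A) ∪ Set.range j) ∩ Nᶜ) :=
      fun hc => hy' (hh₀C _ hc)
    have hyN : j y ∈ N := by
      by_contra hcon
      exact hyC ⟨Or.inr ⟨y, rfl⟩, hcon⟩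
    have hyN' : y ∈ j ⁻¹' N := hyN
    rw [hNV] at hyN'
    exact hyN'
  have hOV₁ : ∀ x ∈ O, x ∈ j ⁻¹ᵁ D₀ := fun x hx =>
    (hmemD₀ x).mpr (hh₀P _ (Finset.mem_image_of_mem _ hx))
  -- sections
  let s₀ : Γ(Spec (CommRingCat.of A), ⊤) := (Scheme.ΓSpecIso (CommRingCat.of A)).inv h₀
  have hs₀ : (Spec (CommRingCat.of A)).basicOpen s₀ = D₀ :=
    basicOpen_eq_of_affine (R := CommRingCat.of A) h₀
  let b₀ : Γ(G.U, ⊤) := j.appTop s₀
  have hb₀ : j ⁻¹ᵁ (Spec (CommRingCat.of A)).basicOpen s₀ = G.U.basicOpen b₀ :=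
    Scheme.preimage_basicOpen_top j s₀
  let f : Γ(G.U, V) := G.U.presheaf.map (homOfLE (le_top : V ≤ ⊤)).op b₀
  have hf : G.U.basicOpen f = V ⊓ G.U.basicOpen b₀ :=
    G.U.basicOpen_res b₀ (homOfLE (le_top : V ≤ ⊤)).op
  have hfV₁ : G.U.basicOpen f = j ⁻¹ᵁ D₀ := by
    rw [hf, ← hb₀, hs₀]
    exact inf_eq_right.mpr hV₁V
  -- the norm argument
  obtain ⟨J, hJ⟩ := GrpdThickB.exists_isGlue G
  have hfl := (GrpdThickB.isFinLocFree_s hJ).2.1
  have hfp := (GrpdThickB.isFinLocFree_s hJ).2.2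
  obtain ⟨g, hg⟩ := GrpdNormC.exists_basicOpen_eq_core G (W G) J (GrpdThickB.support_eq_top hJ)
    hfl hfp V hVaff f ((G.U.basicOpen_le f).trans hVW)
    (fun ρ hρ => (hVinv ρ).mp (G.U.basicOpen_le f hρ))
  -- surjectivity on sections over `D₀`
  have hD₀aff : IsAffineOpen D₀ := by
    rw [← hs₀]
    exact (isAffineOpen_top _).basicOpen s₀
  have hDF : (D₀ : Set (Spec (CommRingCat.of A))) ∩ Set.range j =
      (D₀ : Set (Spec (CommRingCat.of A))) ∩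
        (PrimeSpectrum.zeroLocus (I : Set A) ∪ Set.range j) := by
    ext y
    constructor
    · rintro ⟨h1, h2⟩
      exact ⟨h1, Or.inr h2⟩
    · rintro ⟨h1, h2 | h2⟩
      · exfalso
        have h1' : h₀ ∉ (y : PrimeSpectrum A).asIdeal := h1
        exact h1' ((PrimeSpectrum.mem_zeroLocus _ _).mp h2 hh₀I)
      · exact ⟨h1, h2⟩
  have hsurj := GrpdBasicA.app_surjective_of_immersion j D₀ hD₀aff _ hcl hDF
  obtain ⟨a, heq⟩ := final_step j h₀ D₀ hs₀.symm (G.U.basicOpen f) hfV₁ hsurj g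
  have heq' : j ⁻¹ᵁ PrimeSpectrum.basicOpen (a * h₀) = G.U.basicOpen g := heq
  have hmemV : ∀ x : G.U, x ∈ G.U.basicOpen g ↔ x ∈ core G (G.U.basicOpen f) := by
    intro x
    rw [← hg]
    rfl
  refine ⟨a * h₀, I.mul_mem_left a hh₀I, ?_, ?_, ?_⟩
  · rw [heq']
    exact (hVaff.basicOpen f).basicOpen g
  · intro i
    rw [heq', hmemV]
    intro ρ hρ
    rw [hfV₁]
    exact hOV₁ _ (hOmem i ρ hρ)
  · rw [heq']
    ext ρ
    show G.s ρ ∈ G.U.basicOpen g ↔ G.t ρ ∈ G.U.basicOpen g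
    rw [hmemV, hmemV]
    exact Set.ext_iff.mp (core_invariant G (G.U.basicOpen f : Set G.U)) ρ

end Groth.Agent.Helper8.GrpdBasicB
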