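import Mathlib
import Groth.Agent.Helper8.GrpdGlueF
import Groth.Agent.Helper2.FibCrit

/-!
# Complements to the quotient library: geometric points, descent of flatness, restriction
-/

set_option autoImplicit false
universe u

namespace Groth.Agent.Helper8.GrpdGlue

open CategoryTheory CategoryTheory.Limits AlgebraicGeometry Grpd
open Groth.Agent.Helper2 Groth.Agent.Helper2.Grpd23

section General

/-- descent of flatness along a flat surjective morphism on the source
(the stalk argument is the one of `Helper5.FlatOrbit.flat_stalkMap_of_comp`). -/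
theorem flat_of_comp_surjective {Z Y X : Scheme.{u}} (ν : Z ⟶ Y) (φ : Y ⟶ X) [Flat ν]
    [Surjective ν] [Flat (ν ≫ φ)] : Flat φ := by
  apply Flat.of_stalkMap
  intro y
  obtain ⟨z, rfl⟩ := ν.surjective y
  have h1 : ((ν ≫ φ).stalkMap z).hom.Flat := Flat.stalkMap (ν ≫ φ) z
  have h2 : (ν.stalkMap z).hom.Flat := Flat.stalkMap ν z
  rw [Scheme.Hom.stalkMap_comp] at h1
  algebraize [(φ.stalkMap (ν z)).hom, (ν.stalkMap z).hom,
    (ν.stalkMap z).hom.comp (φ.stalkMap (ν z)).hom]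
  have hff : Module.FaithfullyFlat (Y.presheaf.stalk (ν z)) (Z.presheaf.stalk z) :=
    @Module.FaithfullyFlat.of_flat_of_isLocalHom _ _ _ _ _ _ _ h2 (ν.toLRSHom.prop z)
  have hfl : Module.Flat (X.presheaf.stalk (φ (ν z))) (Z.presheaf.stalk z) := h1
  exact Groth.Agent.Helper2.FibCrit.flat_of_faithfullyFlat
    (A := X.presheaf.stalk (φ (ν z))) (B := Y.presheaf.stalk (ν z)) (M := Z.presheaf.stalk z)

/-- geometric points lift along surjective morphisms locally of finite type -/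
theorem lift_geom_point {X Y : Scheme.{u}} (f : X ⟶ Y) [LocallyOfFiniteType f] [Surjective f]
    {Ω : Type u} [Field Ω] [IsAlgClosed Ω] (y : Spec (CommRingCat.of Ω) ⟶ Y) :
    ∃ x : Spec (CommRingCat.of Ω) ⟶ X, x ≫ f = y := by
  haveI : Surjective (pullback.snd f y) := inferInstance
  haveI : LocallyOfFiniteType (pullback.snd f y) := inferInstance
  haveI : JacobsonSpace ↥(pullback f y) := LocallyOfFiniteType.jacobsonSpace (pullback.snd f y)
  obtain ⟨p0, -⟩ := (pullback.snd f y).surjective default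
  obtain ⟨p, -, hp⟩ := nonempty_inter_closedPoints (X := ↥(pullback f y)) (Z := Set.univ)
    ⟨p0, trivial⟩ isOpen_univ.isLocallyClosed
  refine ⟨pointOfClosedPoint (pullback.snd f y) p hp ≫ pullback.fst f y, ?_⟩
  rw [Category.assoc, pullback.condition, ← Category.assoc, pointOfClosedPoint_comp,
    Category.id_comp]

end General

variable {S : Scheme.{u}} (G : Grpd.GroupoidScheme S)

section Arrows

variable {T : Scheme.{u}}

theorem exists_inv (α : T ⟶ G.R) :
    ∃ δ : T ⟶ G.R, δ ≫ G.t = α ≫ G.s ∧ δ ≫ G.s = α ≫ G.t :=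
  ⟨α ≫ G.i, by rw [Category.assoc, G.i_t], by rw [Category.assoc, G.i_s]⟩

theorem exists_mul (α β : T ⟶ G.R) (h : α ≫ G.s = β ≫ G.t) :
    ∃ δ : T ⟶ G.R, δ ≫ G.t = α ≫ G.t ∧ δ ≫ G.s = β ≫ G.s :=
  ⟨Grpd2.mul G α β h, Grpd2.mul_t G α β h, Grpd2.mul_s G α β h⟩

theorem exists_divT (α β : T ⟶ G.R) (h : α ≫ G.s = β ≫ G.s) :
    ∃ δ : T ⟶ G.R, δ ≫ G.t = α ≫ G.t ∧ δ ≫ G.s = β ≫ G.t := by
  obtain ⟨β', hβt, hβs⟩ := exists_inv G β
  obtain ⟨δ, h1, h2⟩ := exists_mul G α β' (by rw [hβt, h])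
  exact ⟨δ, h1, by rw [h2, hβs]⟩

theorem eq_of_mono_j [Mono G.j] (α β : T ⟶ G.R) (ht : α ≫ G.t = β ≫ G.t)
    (hs : α ≫ G.s = β ≫ G.s) : α = β := by
  rw [← cancel_mono G.j]
  apply pullback.hom_ext
  · rw [Category.assoc, Category.assoc, j_fst, ht]
  · rw [Category.assoc, Category.assoc, j_snd, hs]

theorem exists_div_pt (r r₁ : G.R) (h : G.s r = G.s r₁) :
    ∃ ρ : G.R, G.t ρ = G.t r ∧ G.s ρ = G.t r₁ := by
  obtain ⟨r'', h1, h2⟩ := Grpd1.exists_comp G r (G.i r₁) (by rw [t_i_apply, h])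
  exact ⟨r'', h2, by rw [h1, s_i_apply]⟩

end Arrows

section Restrict

variable {U' : Scheme.{u}} (g : U' ⟶ G.U)

theorem mono_aux_g [Mono G.j] {T : Scheme.{u}} (α β : T ⟶ R' G g)
    (ht : α ≫ t' G g = β ≫ t' G g) (hs : α ≫ s' G g = β ≫ s' G g) : α = β := by
  have hπ : α ≫ π G g = β ≫ π G g := by
    apply eq_of_mono_j G
    · rw [Category.assoc, Category.assoc, π_t, ← Category.assoc, ← Category.assoc, ht]
    · rw [Category.assoc, Category.assoc, π_s, ← Category.assoc, ← Category.assoc, hs]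
  exact hom_ext' ht hπ hs

theorem mono_j_restrict [Mono G.j] : Mono (Grpd23.restrict G g).j := by
  constructor
  intro T α β h
  have ht : α ≫ (Grpd23.restrict G g).t = β ≫ (Grpd23.restrict G g).t := by
    have := congrArg (· ≫ pullback.fst (Grpd23.restrict G g).pU (Grpd23.restrict G g).pU) h
    simp only [Category.assoc] at this
    rwa [j_fst] at this
  have hs : α ≫ (Grpd23.restrict G g).s = β ≫ (Grpd23.restrict G g).s := by
    have := congrArg (· ≫ pullback.snd (Grpd23.restrict G g).pU (Grpd23.restrict G g).pU) h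
    simp only [Category.assoc] at this
    rwa [j_snd] at this
  exact mono_aux_g G g α β ht hs

theorem π_s_apply_g (r' : ↥(R' G g)) : G.s (π G g r') = g (s' G g r') := by
  rw [← Scheme.Hom.comp_apply, π_s, Scheme.Hom.comp_apply]

theorem π_t_apply_g (r' : ↥(R' G g)) : G.t (π G g r') = g (t' G g r') := by
  rw [← Scheme.Hom.comp_apply, π_t, Scheme.Hom.comp_apply]

end Restrict

section GeomQ

variable [QuotHyp G]

/-- geometric points of `U` with the same image in the quotient are related by an arrow -/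
theorem exists_geom_point_q {Ω : Type u} [Field Ω] [IsAlgClosed Ω]
    (x y : Spec (CommRingCat.of Ω) ⟶ G.U) (h : x ≫ q G = y ≫ q G) :
    ∃ r : Spec (CommRingCat.of Ω) ⟶ G.R, r ≫ G.t = x ∧ r ≫ G.s = y := by
  let s₀ : Spec (CommRingCat.of Ω) := default
  have hpt : ∀ s : Spec (CommRingCat.of Ω), s = s₀ := fun s => Subsingleton.elim _ _
  obtain ⟨W, hW⟩ := exists_J_mem G (x s₀)
  have hW' : y s₀ ∈ W.1 := by
    have e : q G (x s₀) = q G (y s₀) := by
      rw [← Scheme.Hom.comp_apply, ← Scheme.Hom.comp_apply, h]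
    obtain ⟨r, hr1, hr2⟩ := (q_eq_iff G _ _).mp e
    rw [← hr2]
    apply (W.2.2 r).mp
    rw [hr1]
    exact hW
  have hr1 : Set.range x ⊆ Set.range W.1.ι := by
    rintro _ ⟨s, rfl⟩
    rw [Scheme.Opens.range_ι, hpt s]
    exact hW
  have hr2 : Set.range y ⊆ Set.range W.1.ι := by
    rintro _ ⟨s, rfl⟩
    rw [Scheme.Opens.range_ι, hpt s]
    exact hW'
  let x' : Spec (CommRingCat.of Ω) ⟶ W.1.toScheme := IsOpenImmersion.lift W.1.ι _ hr1
  let y' : Spec (CommRingCat.of Ω) ⟶ W.1.toScheme := IsOpenImmersion.lift W.1.ι _ hr2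
  have hx : x' ≫ W.1.ι = x := IsOpenImmersion.lift_fac _ _ _
  have hy : y' ≫ W.1.ι = y := IsOpenImmersion.lift_fac _ _ _
  have hxy : x' ≫ (GW G W.1).toQuot = y' ≫ (GW G W.1).toQuot := by
    show x' ≫ qW G W.1 = y' ≫ qW G W.1
    rw [← cancel_mono (ιY G W), Category.assoc, Category.assoc, ← ι_q, ← Category.assoc,
      ← Category.assoc, hx, hy, h]
  obtain ⟨r, hrt, hrs⟩ := exists_geom_point G W.2.2 W.2.1 x' y' hxy
  exact ⟨r, by rw [hrt, hx], by rw [hrs, hy]⟩

end GeomQ

end Groth.Agent.Helper8.GrpdGlue
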