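import Mathlib
import Groth.Prelude.Def_Grpd
import Groth.Agent.Helper8.GrpdCartier

/-!
# Sub-groupoids of groupoid schemes along monomorphisms
-/

set_option linter.style.haveILetI false
set_option linter.unusedSectionVars false
set_option autoImplicit false

universe u

open CategoryTheory CategoryTheory.Limits AlgebraicGeometry

namespace Groth.Agent.Helper8.GrpdSub

open Groth.Agent.Helper8.GrpdCartier

variable {S : Scheme.{u}} (G : Grpd.GroupoidScheme S)

theorem comp_eq_of_eq {T : Scheme.{u}} {α α' β β' : T ⟶ G.R} (hα : α = α') (hβ : β = β')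
    (h : α ≫ G.s = β ≫ G.t) (h' : α' ≫ G.s = β' ≫ G.t) :
    comp G α β h = comp G α' β' h' := by
  subst hα hβ; rfl

theorem assoc' {T : Scheme.{u}} (α β γ : T ⟶ G.R) (h₁ : α ≫ G.s = β ≫ G.t)
    (h₂ : β ≫ G.s = γ ≫ G.t) :
    comp G (comp G α β h₁) γ ((comp_s' G α β h₁).trans h₂) =
      comp G α (comp G β γ h₂) (h₁.trans (comp_t' G β γ h₂).symm) :=
  G.assoc α β γ h₁ h₂

theorem comp_i' {T : Scheme.{u}} (α : T ⟶ G.R) :
    comp G α (α ≫ G.i) (by rw [Category.assoc, G.i_t]) = α ≫ G.t ≫ G.e := G.comp_i α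

theorem i_comp' {T : Scheme.{u}} (α : T ⟶ G.R) :
    comp G (α ≫ G.i) α (by rw [Category.assoc, G.i_s]) = α ≫ G.s ≫ G.e := G.i_comp α

/-- an idempotent arrow is an identity -/
theorem eq_e_of_idem {T : Scheme.{u}} (α : T ⟶ G.R) (hst : α ≫ G.s = α ≫ G.t)
    (hidem : comp G α α hst = α) : α = α ≫ G.s ≫ G.e := by
  have h0 : (α ≫ G.i) ≫ G.s = α ≫ G.t := by rw [Category.assoc, G.i_s]
  have h1 : comp G (α ≫ G.i) α h0 = α ≫ G.s ≫ G.e := G.i_comp α
  have h2 := assoc' G (α ≫ G.i) α α h0 hst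
  have h3 : comp G (α ≫ G.i) (comp G α α hst) (h0.trans (comp_t' G α α hst).symm) =
      α ≫ G.s ≫ G.e := by
    rw [← h1]
    exact comp_eq_of_eq G rfl hidem _ _
  have h4 : comp G (comp G (α ≫ G.i) α h0) α ((comp_s' G (α ≫ G.i) α h0).trans hst) = α := by
    have h5 : comp G (α ≫ G.i) α h0 = α ≫ G.t ≫ G.e := by
      rw [h1, ← Category.assoc, hst, Category.assoc]
    rw [comp_eq_of_eq G h5 rfl _ (by
      rw [Category.assoc, Category.assoc, G.e_s, Category.comp_id])]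
    exact e_comp' G _ _ rfl
  rw [← h3, ← h2, h4]

/-- uniqueness of inverses -/
theorem eq_i_of_comp {T : Scheme.{u}} (β γ : T ⟶ G.R) (h : β ≫ G.s = γ ≫ G.t)
    (hc : comp G β γ h = γ ≫ G.s ≫ G.e) : β = γ ≫ G.i := by
  have hγi : γ ≫ G.s = (γ ≫ G.i) ≫ G.t := by rw [Category.assoc, G.i_t]
  have h1 : comp G β (γ ≫ G.t ≫ G.e) (by
      rw [Category.assoc, Category.assoc, G.e_t, Category.comp_id, h]) = β := by
    apply comp_e'
    rw [← Category.assoc, ← h, Category.assoc]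
  have h2 : comp G γ (γ ≫ G.i) hγi = γ ≫ G.t ≫ G.e := G.comp_i γ
  have h3 := assoc' G β γ (γ ≫ G.i) h hγi
  have h4 : comp G β (comp G γ (γ ≫ G.i) hγi) (h.trans (comp_t' G γ (γ ≫ G.i) hγi).symm) = β :=
    (comp_eq_of_eq G rfl h2 _ _).trans h1
  have h5 : comp G (comp G β γ h) (γ ≫ G.i) ((comp_s' G β γ h).trans hγi) = γ ≫ G.i := by
    have h6 : comp G β γ h = (γ ≫ G.i) ≫ G.t ≫ G.e := by
      rw [hc, ← Category.assoc, hγi, Category.assoc]
    rw [comp_eq_of_eq G h6 rfl _ (by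
      simp only [Category.assoc, G.e_s, Category.comp_id])]
    exact e_comp' G _ _ rfl
  rw [← h4, ← h3, h5]

section hom

variable {G₁ G₂ : Grpd.GroupoidScheme S} (f : Grpd.GroupoidScheme.Hom G₁ G₂)

theorem hom_comp {T : Scheme.{u}} (α β : T ⟶ G₁.R) (h : α ≫ G₁.s = β ≫ G₁.t) :
    comp G₁ α β h ≫ f.fR = comp G₂ (α ≫ f.fR) (β ≫ f.fR) (by
      rw [Category.assoc, Category.assoc, f.comm_s, f.comm_t, ← Category.assoc, ← Category.assoc,
        h]) :=
  f.comm_c α β h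

/-- a morphism of groupoid schemes commutes with the identities -/
theorem hom_e : G₁.e ≫ f.fR = f.fU ≫ G₂.e := by
  have hs : (G₁.e ≫ f.fR) ≫ G₂.s = f.fU := by
    rw [Category.assoc, f.comm_s, ← Category.assoc, G₁.e_s, Category.id_comp]
  have ht : (G₁.e ≫ f.fR) ≫ G₂.t = f.fU := by
    rw [Category.assoc, f.comm_t, ← Category.assoc, G₁.e_t, Category.id_comp]
  have h1 : comp G₁ G₁.e G₁.e (by rw [G₁.e_s, G₁.e_t]) = G₁.e := by
    apply comp_e'
    rw [← Category.assoc, G₁.e_s, Category.id_comp]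
  have h2 := hom_comp f G₁.e G₁.e (by rw [G₁.e_s, G₁.e_t])
  rw [h1] at h2
  have h3 := eq_e_of_idem G₂ (G₁.e ≫ f.fR) (hs.trans ht.symm) h2.symm
  rw [h3, ← Category.assoc, hs]

/-- a morphism of groupoid schemes commutes with the inverses -/
theorem hom_i : G₁.i ≫ f.fR = f.fR ≫ G₂.i := by
  have h0 : G₁.i ≫ G₁.s = 𝟙 G₁.R ≫ G₁.t := by rw [G₁.i_s, Category.id_comp]
  have h1 : comp G₁ G₁.i (𝟙 _) h0 = G₁.s ≫ G₁.e :=
    (comp_eq_of_eq G₁ (Category.id_comp _).symm rfl _ _).trans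
      ((i_comp' G₁ (𝟙 G₁.R)).trans (Category.id_comp _))
  have h2 := hom_comp f G₁.i (𝟙 _) h0
  rw [h1] at h2
  have h3 : (G₁.i ≫ f.fR) ≫ G₂.s = f.fR ≫ G₂.t := by
    rw [Category.assoc, f.comm_s, ← Category.assoc, G₁.i_s, f.comm_t]
  apply eq_i_of_comp G₂ (G₁.i ≫ f.fR) f.fR h3
  refine (comp_eq_of_eq G₂ rfl (Category.id_comp _).symm _ _).trans (h2.symm.trans ?_)
  rw [Category.assoc, hom_e, ← Category.assoc, ← f.comm_s, Category.assoc]

/-- the universal form of compatibility with composition -/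
theorem map_c : pullback.map G₁.s G₁.t G₂.s G₂.t f.fR f.fR f.fU f.comm_s.symm f.comm_t.symm ≫ G₂.c =
    G₁.c ≫ f.fR := by
  have h := f.comm_c (pullback.fst G₁.s G₁.t) (pullback.snd G₁.s G₁.t) pullback.condition
  have h1 : pullback.lift (pullback.fst G₁.s G₁.t) (pullback.snd G₁.s G₁.t) pullback.condition =
      𝟙 _ := by
    apply pullback.hom_ext <;> simp
  rw [h1, Category.id_comp] at h
  rw [h]

end hom

section sub

variable {Z : Scheme.{u}} (ι : Z ⟶ G.R)
  (e' : G.U ⟶ Z) (he : e' ≫ ι = G.e)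
  (i' : Z ⟶ Z) (hi : i' ≫ ι = ι ≫ G.i)
  (c' : pullback (ι ≫ G.s) (ι ≫ G.t) ⟶ Z)
  (hc : c' ≫ ι = pullback.map (ι ≫ G.s) (ι ≫ G.t) G.s G.t ι ι (𝟙 _)
    (by rw [Category.comp_id]) (by rw [Category.comp_id]) ≫ G.c)

include hc in
theorem sub_c_ι {T : Scheme.{u}} (α β : T ⟶ Z) (h : α ≫ ι ≫ G.s = β ≫ ι ≫ G.t)
    (a b : T ⟶ G.R) (ha : α ≫ ι = a) (hb : β ≫ ι = b) (hab : a ≫ G.s = b ≫ G.t) :
    (pullback.lift α β h ≫ c') ≫ ι = comp G a b hab := by
  subst ha hb
  rw [Category.assoc, hc, ← Category.assoc]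
  unfold comp
  congr 1
  apply pullback.hom_ext
  · rw [Category.assoc, pullback.lift_fst, ← Category.assoc, pullback.lift_fst, pullback.lift_fst]
  · rw [Category.assoc, pullback.lift_snd, ← Category.assoc, pullback.lift_snd, pullback.lift_snd]

variable [Mono ι]

/-- the groupoid scheme induced on a subobject of the arrows stable under identity, inverse and
composition -/
noncomputable def subGrpd : Grpd.GroupoidScheme S where
  U := G.U
  R := Z
  pU := G.pU
  pR := ι ≫ G.pR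
  s := ι ≫ G.s
  t := ι ≫ G.t
  e := e'
  i := i'
  c := c'
  s_over := by rw [Category.assoc, G.s_over]
  t_over := by rw [Category.assoc, G.t_over]
  comp_s := fun α β h => by
    have hab : (α ≫ ι) ≫ G.s = (β ≫ ι) ≫ G.t := by simpa only [Category.assoc] using h
    have := sub_c_ι G ι c' hc α β h _ _ rfl rfl hab
    rw [← Category.assoc, this, comp_s', Category.assoc]
  comp_t := fun α β h => by
    have hab : (α ≫ ι) ≫ G.s = (β ≫ ι) ≫ G.t := by simpa only [Category.assoc] using h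
    have := sub_c_ι G ι c' hc α β h _ _ rfl rfl hab
    rw [← Category.assoc, this, comp_t', Category.assoc]
  assoc := fun α β γ h₁ h₂ => by
    have hαβ : (α ≫ ι) ≫ G.s = (β ≫ ι) ≫ G.t := by simpa only [Category.assoc] using h₁
    have hβγ : (β ≫ ι) ≫ G.s = (γ ≫ ι) ≫ G.t := by simpa only [Category.assoc] using h₂
    apply (cancel_mono ι).mp
    rw [sub_c_ι G ι c' hc _ γ _ _ _ (sub_c_ι G ι c' hc α β h₁ _ _ rfl rfl hαβ) rfl
        ((comp_s' G _ _ hαβ).trans hβγ),
      sub_c_ι G ι c' hc α _ _ _ _ rfl (sub_c_ι G ι c' hc β γ h₂ _ _ rfl rfl hβγ)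
        (hαβ.trans (comp_t' G _ _ hβγ).symm)]
    exact assoc' G _ _ _ hαβ hβγ
  e_s := by rw [← Category.assoc, he, G.e_s]
  e_t := by rw [← Category.assoc, he, G.e_t]
  comp_e := fun α => by
    apply (cancel_mono ι).mp
    have hb : (α ≫ (ι ≫ G.s) ≫ e') ≫ ι = (α ≫ ι) ≫ G.s ≫ G.e := by
      simp only [Category.assoc, he]
    rw [sub_c_ι G ι c' hc α _ _ _ _ rfl hb (by
      simp only [Category.assoc, G.e_t, Category.comp_id])]
    exact comp_e' G _ _ rfl
  e_comp := fun α => by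
    apply (cancel_mono ι).mp
    have ha : (α ≫ (ι ≫ G.t) ≫ e') ≫ ι = (α ≫ ι) ≫ G.t ≫ G.e := by
      simp only [Category.assoc, he]
    rw [sub_c_ι G ι c' hc _ α _ _ _ ha rfl (by
      simp only [Category.assoc, G.e_s, Category.comp_id])]
    exact e_comp' G _ _ rfl
  i_s := by rw [← Category.assoc, hi, Category.assoc, G.i_s]
  i_t := by rw [← Category.assoc, hi, Category.assoc, G.i_t]
  comp_i := fun α => by
    apply (cancel_mono ι).mp
    have hb : (α ≫ i') ≫ ι = (α ≫ ι) ≫ G.i := by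
      simp only [Category.assoc, hi]
    rw [sub_c_ι G ι c' hc α _ _ _ _ rfl hb (by simp only [Category.assoc, G.i_t])]
    rw [comp_i']
    simp only [Category.assoc, he]
  i_comp := fun α => by
    apply (cancel_mono ι).mp
    have ha : (α ≫ i') ≫ ι = (α ≫ ι) ≫ G.i := by
      simp only [Category.assoc, hi]
    rw [sub_c_ι G ι c' hc _ α _ _ _ ha rfl (by simp only [Category.assoc, G.i_s])]
    rw [i_comp']
    simp only [Category.assoc, he]

/-- the inclusion of the induced groupoid -/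
noncomputable def subHom : Grpd.GroupoidScheme.Hom (subGrpd G ι e' he i' hi c' hc) G where
  fU := 𝟙 _
  fR := ι
  fU_over := Category.id_comp _
  comm_s := (Category.comp_id _).symm
  comm_t := (Category.comp_id _).symm
  comm_c := fun α β h => by
    have h' : α ≫ ι ≫ G.s = β ≫ ι ≫ G.t := h
    have hab : (α ≫ ι) ≫ G.s = (β ≫ ι) ≫ G.t := by simpa only [Category.assoc] using h'
    exact sub_c_ι G ι c' hc α β h' _ _ rfl rfl hab

end sub

end Groth.Agent.Helper8.GrpdSub
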