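import Mathlib
import Groth.Prelude.Def_Grpd
import Groth.Agent.Helper8.GrpdSub

/-!
# The scheme-theoretic image of a morphism of groupoids on a field is a groupoid
-/

set_option linter.style.haveILetI false
set_option linter.unusedSectionVars false
set_option autoImplicit false

universe u

open CategoryTheory CategoryTheory.Limits AlgebraicGeometry

namespace Groth.Agent.Helper8.GrpdImg

open Groth.Agent.Helper8.GrpdCartier Groth.Agent.Helper8.GrpdSub

/-- if `d` is scheme-theoretically dominant and `d ≫ ψ` factors through the closed immersion `i`,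
so does `ψ` (helper3) -/
theorem exists_lift_of_dominant {W V G K : Scheme.{u}} (d : W ⟶ V)
    [IsSchemeTheoreticallyDominant d]
    (ψ : V ⟶ G) (i : K ⟶ G) [IsClosedImmersion i] (a : W ⟶ K) (h : d ≫ ψ = a ≫ i) :
    ∃ b : V ⟶ K, b ≫ i = ψ := by
  let c := pullback.fst ψ i
  haveI : IsClosedImmersion c := inferInstance
  let l : W ⟶ pullback ψ i := pullback.lift d a h
  have hl : l ≫ c = d := pullback.lift_fst _ _ _
  have hker : c.ker = ⊥ := by
    have h1 : c.ker ≤ (l ≫ c).ker := l.le_ker_comp c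
    rw [hl, d.ker_eq_bot] at h1
    exact le_bot_iff.mp h1
  haveI : IsIso c := IsClosedImmersion.isIso_iff_ker_eq_bot.mpr hker
  exact ⟨inv c ≫ pullback.snd ψ i, by
    rw [Category.assoc, ← pullback.condition, IsIso.inv_hom_id_assoc]⟩

/-- the canonical map to the scheme-theoretic image of a quasi-compact morphism is
scheme-theoretically dominant (helper3) -/
theorem std_toImage {X Y : Scheme.{u}} (f : X ⟶ Y) [QuasiCompact f] :
    IsSchemeTheoreticallyDominant f.toImage := by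
  rw [isSchemeTheoreticallyDominant_iff]
  have haff : ∀ U : Y.affineOpens, IsAffineOpen (f.imageι ⁻¹ᵁ U.1) := fun U => U.2.preimage f.imageι
  refine Scheme.IdealSheafData.ext_of_iSup_eq_top (fun U : Y.affineOpens => ⟨_, haff U⟩) ?_ ?_
  · rw [eq_top_iff]
    intro x _
    obtain ⟨_, ⟨U, hU, rfl⟩, hxU, -⟩ :=
      Y.isBasis_affineOpens.exists_subset_of_mem_open (Set.mem_univ (f.imageι x)) isOpen_univ
    exact TopologicalSpace.Opens.mem_iSup.mpr ⟨⟨U, hU⟩, hxU⟩
  · intro U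
    rw [Scheme.Hom.ker_apply]
    simp only [Scheme.IdealSheafData.ideal_bot, Pi.bot_apply]
    exact (RingHom.injective_iff_ker_eq_bot _).mp (f.toImage_app_injective U)

theorem isPullback_comp_mono {C : Type*} [Category C] {P X Y Z W : C} {fst : P ⟶ X} {snd : P ⟶ Y}
    {f : X ⟶ Z} {g : Y ⟶ Z} (i : Z ⟶ W) [Mono i] (h : IsPullback fst snd f g) :
    IsPullback fst snd (f ≫ i) (g ≫ i) := by
  refine ⟨⟨by rw [← Category.assoc, h.w, Category.assoc]⟩, ⟨PullbackCone.IsLimit.mk _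
    (fun s => h.lift s.fst s.snd ((cancel_mono i).mp (by
      simpa only [Category.assoc] using s.condition)))
    (fun s => h.lift_fst _ _ _) (fun s => h.lift_snd _ _ _)
    (fun s m h1 h2 => h.hom_ext (by rw [h1, h.lift_fst]) (by rw [h2, h.lift_snd]))⟩⟩

section

variable {S : Scheme.{u}} {G₁ G₂ : Grpd.GroupoidScheme S} (f : Grpd.GroupoidScheme.Hom G₁ G₂)
  [IsIso f.fU] [QuasiCompact f.fR]

theorem toImage_s : f.fR.toImage ≫ f.fR.imageι ≫ G₂.s = G₁.s ≫ f.fU := by
  rw [← Category.assoc, f.fR.toImage_imageι, f.comm_s]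

theorem toImage_t : f.fR.toImage ≫ f.fR.imageι ≫ G₂.t = G₁.t ≫ f.fU := by
  rw [← Category.assoc, f.fR.toImage_imageι, f.comm_t]

theorem exists_e : ∃ e' : G₂.U ⟶ f.fR.image, e' ≫ f.fR.imageι = G₂.e := by
  refine exists_lift_of_dominant f.fU G₂.e f.fR.imageι (G₁.e ≫ f.fR.toImage) ?_
  rw [Category.assoc, f.fR.toImage_imageι, hom_e]

theorem exists_i : ∃ i' : f.fR.image ⟶ f.fR.image, i' ≫ f.fR.imageι = f.fR.imageι ≫ G₂.i := by
  haveI := std_toImage f.fR
  refine exists_lift_of_dominant f.fR.toImage (f.fR.imageι ≫ G₂.i) f.fR.imageι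
    (G₁.i ≫ f.fR.toImage) ?_
  rw [← Category.assoc, Category.assoc G₁.i, f.fR.toImage_imageι, hom_i]

/-- the first partial product map -/
noncomputable def d₁ : pullback G₁.s G₁.t ⟶ pullback (f.fR.imageι ≫ G₂.s) (G₁.t ≫ f.fU) :=
  pullback.map G₁.s G₁.t (f.fR.imageι ≫ G₂.s) (G₁.t ≫ f.fU) f.fR.toImage (𝟙 _) f.fU
    (toImage_s f).symm (Category.id_comp _).symm

/-- the second partial product map -/
noncomputable def d₂ : pullback (f.fR.imageι ≫ G₂.s) (G₁.t ≫ f.fU) ⟶
    pullback (f.fR.imageι ≫ G₂.s) (f.fR.imageι ≫ G₂.t) :=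
  pullback.map (f.fR.imageι ≫ G₂.s) (G₁.t ≫ f.fU) (f.fR.imageι ≫ G₂.s) (f.fR.imageι ≫ G₂.t)
    (𝟙 _) f.fR.toImage (𝟙 _) (by rw [Category.comp_id, Category.id_comp])
    (by rw [Category.comp_id, toImage_t])

theorem isPullback_d₁ : IsPullback (pullback.fst G₁.s G₁.t) (d₁ f) f.fR.toImage
    (pullback.fst (f.fR.imageι ≫ G₂.s) (G₁.t ≫ f.fU)) := by
  have hbig : IsPullback (d₁ f ≫ pullback.snd (f.fR.imageι ≫ G₂.s) (G₁.t ≫ f.fU))
      (pullback.fst G₁.s G₁.t) (G₁.t ≫ f.fU) (f.fR.toImage ≫ f.fR.imageι ≫ G₂.s) := by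
    have h1 : d₁ f ≫ pullback.snd (f.fR.imageι ≫ G₂.s) (G₁.t ≫ f.fU) = pullback.snd G₁.s G₁.t := by
      unfold d₁
      rw [pullback.lift_snd, Category.comp_id]
    rw [h1, toImage_s]
    exact (isPullback_comp_mono f.fU (IsPullback.of_hasPullback G₁.s G₁.t)).flip
  have hright : IsPullback (pullback.snd (f.fR.imageι ≫ G₂.s) (G₁.t ≫ f.fU))
      (pullback.fst (f.fR.imageι ≫ G₂.s) (G₁.t ≫ f.fU)) (G₁.t ≫ f.fU) (f.fR.imageι ≫ G₂.s) :=
    (IsPullback.of_hasPullback _ _).flip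
  have hcomm : d₁ f ≫ pullback.fst (f.fR.imageι ≫ G₂.s) (G₁.t ≫ f.fU) =
      pullback.fst G₁.s G₁.t ≫ f.fR.toImage := by
    unfold d₁
    rw [pullback.lift_fst]
  exact (IsPullback.of_right hbig hcomm hright).flip

theorem isPullback_d₂ : IsPullback (pullback.snd (f.fR.imageι ≫ G₂.s) (G₁.t ≫ f.fU)) (d₂ f)
    f.fR.toImage (pullback.snd (f.fR.imageι ≫ G₂.s) (f.fR.imageι ≫ G₂.t)) := by
  have hbig : IsPullback (d₂ f ≫ pullback.fst (f.fR.imageι ≫ G₂.s) (f.fR.imageι ≫ G₂.t))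
      (pullback.snd (f.fR.imageι ≫ G₂.s) (G₁.t ≫ f.fU)) (f.fR.imageι ≫ G₂.s)
      (f.fR.toImage ≫ f.fR.imageι ≫ G₂.t) := by
    have h1 : d₂ f ≫ pullback.fst (f.fR.imageι ≫ G₂.s) (f.fR.imageι ≫ G₂.t) =
        pullback.fst (f.fR.imageι ≫ G₂.s) (G₁.t ≫ f.fU) := by
      unfold d₂
      rw [pullback.lift_fst, Category.comp_id]
    rw [h1, toImage_t]
    exact IsPullback.of_hasPullback _ _
  have hright : IsPullback (pullback.fst (f.fR.imageι ≫ G₂.s) (f.fR.imageι ≫ G₂.t))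
      (pullback.snd (f.fR.imageι ≫ G₂.s) (f.fR.imageι ≫ G₂.t)) (f.fR.imageι ≫ G₂.s)
      (f.fR.imageι ≫ G₂.t) := IsPullback.of_hasPullback _ _
  have hcomm : d₂ f ≫ pullback.snd (f.fR.imageι ≫ G₂.s) (f.fR.imageι ≫ G₂.t) =
      pullback.snd (f.fR.imageι ≫ G₂.s) (G₁.t ≫ f.fU) ≫ f.fR.toImage := by
    unfold d₂
    rw [pullback.lift_snd]
  exact (IsPullback.of_right hbig hcomm hright).flip

variable (hfl : ∀ {Y : Scheme.{u}} (p : Y ⟶ G₂.U), Flat p)

include hfl in
theorem std_d : IsSchemeTheoreticallyDominant (d₁ f ≫ d₂ f) := by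
  haveI := std_toImage f.fR
  haveI : Flat (G₁.t ≫ f.fU) := hfl _
  haveI : Flat (f.fR.imageι ≫ G₂.s) := hfl _
  haveI : Flat (pullback.fst (f.fR.imageι ≫ G₂.s) (G₁.t ≫ f.fU)) := inferInstance
  haveI : Flat (pullback.snd (f.fR.imageι ≫ G₂.s) (f.fR.imageι ≫ G₂.t)) := inferInstance
  haveI := IsSchemeTheoreticallyDominant.of_isPullback (isPullback_d₁ f)
  haveI := IsSchemeTheoreticallyDominant.of_isPullback (isPullback_d₂ f)
  infer_instance

include hfl in
theorem exists_c : ∃ c' : pullback (f.fR.imageι ≫ G₂.s) (f.fR.imageι ≫ G₂.t) ⟶ f.fR.image,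
    c' ≫ f.fR.imageι = pullback.map (f.fR.imageι ≫ G₂.s) (f.fR.imageι ≫ G₂.t) G₂.s G₂.t
      f.fR.imageι f.fR.imageι (𝟙 _) (by rw [Category.comp_id]) (by rw [Category.comp_id]) ≫
        G₂.c := by
  haveI := std_d f hfl
  refine exists_lift_of_dominant (d₁ f ≫ d₂ f) _ f.fR.imageι (G₁.c ≫ f.fR.toImage) ?_
  rw [Category.assoc G₁.c, f.fR.toImage_imageι, ← map_c, ← Category.assoc]
  congr 1
  apply pullback.hom_ext
  · unfold d₁ d₂
    simp only [Category.assoc, pullback.lift_fst, pullback.lift_fst_assoc, Category.comp_id]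
    rw [f.fR.toImage_imageι]
  · unfold d₁ d₂
    simp only [Category.assoc, pullback.lift_snd, pullback.lift_snd_assoc, Category.comp_id,
      Category.id_comp]
    rw [f.fR.toImage_imageι]

/-- the identity of the image groupoid -/
noncomputable def imgE : G₂.U ⟶ f.fR.image := (exists_e f).choose

theorem imgE_spec : imgE f ≫ f.fR.imageι = G₂.e := (exists_e f).choose_spec

/-- the inverse of the image groupoid -/
noncomputable def imgI : f.fR.image ⟶ f.fR.image := (exists_i f).choose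

theorem imgI_spec : imgI f ≫ f.fR.imageι = f.fR.imageι ≫ G₂.i := (exists_i f).choose_spec

/-- the composition of the image groupoid -/
noncomputable def imgC : pullback (f.fR.imageι ≫ G₂.s) (f.fR.imageι ≫ G₂.t) ⟶ f.fR.image :=
  (exists_c f hfl).choose

theorem imgC_spec : imgC f hfl ≫ f.fR.imageι =
    pullback.map (f.fR.imageι ≫ G₂.s) (f.fR.imageι ≫ G₂.t) G₂.s G₂.t
      f.fR.imageι f.fR.imageι (𝟙 _) (by rw [Category.comp_id]) (by rw [Category.comp_id]) ≫
        G₂.c := (exists_c f hfl).choose_spec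

/-- the groupoid scheme on the scheme-theoretic image of the arrow map -/
noncomputable def imgGrpd : Grpd.GroupoidScheme S :=
  subGrpd G₂ f.fR.imageι (imgE f) (imgE_spec f) (imgI f) (imgI_spec f) (imgC f hfl)
    (imgC_spec f hfl)

/-- the inclusion of the image groupoid -/
noncomputable def imgHom : Grpd.GroupoidScheme.Hom (imgGrpd f hfl) G₂ :=
  subHom G₂ f.fR.imageι (imgE f) (imgE_spec f) (imgI f) (imgI_spec f) (imgC f hfl)
    (imgC_spec f hfl)

/-- the morphism to the image groupoid -/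
noncomputable def toImgHom : Grpd.GroupoidScheme.Hom G₁ (imgGrpd f hfl) where
  fU := f.fU
  fR := f.fR.toImage
  fU_over := f.fU_over
  comm_s := toImage_s f
  comm_t := toImage_t f
  comm_c := fun α β h => by
    apply (cancel_mono f.fR.imageι).mp
    have h1 : ((pullback.lift α β h ≫ G₁.c) ≫ f.fR.toImage) ≫ f.fR.imageι =
        (pullback.lift α β h ≫ G₁.c) ≫ f.fR := by
      rw [Category.assoc, f.fR.toImage_imageι]
    refine h1.trans ((f.comm_c α β h).trans ?_)
    have hab : (α ≫ f.fR) ≫ G₂.s = (β ≫ f.fR) ≫ G₂.t := by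
      rw [Category.assoc, Category.assoc, f.comm_s, f.comm_t, ← Category.assoc, ← Category.assoc,
        h]
    have h' : (α ≫ f.fR.toImage) ≫ f.fR.imageι ≫ G₂.s =
        (β ≫ f.fR.toImage) ≫ f.fR.imageι ≫ G₂.t := by
      rw [Category.assoc, Category.assoc, toImage_s, toImage_t, ← Category.assoc,
        ← Category.assoc, h]
    exact (sub_c_ι G₂ f.fR.imageι (imgC f hfl) (imgC_spec f hfl) (α ≫ f.fR.toImage)
      (β ≫ f.fR.toImage) h' (α ≫ f.fR) (β ≫ f.fR)
      (by rw [Category.assoc, f.fR.toImage_imageι])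
      (by rw [Category.assoc, f.fR.toImage_imageι]) hab).symm

theorem imgHom_fU : (imgHom f hfl).fU = 𝟙 _ := rfl

theorem imgHom_fR : (imgHom f hfl).fR = f.fR.imageι := rfl

include hfl in
/-- the groupoid on the scheme-theoretic image -/
theorem exists_image : ∃ (G' : Grpd.GroupoidScheme S) (ψ : Grpd.GroupoidScheme.Hom G' G₂),
    IsIso ψ.fU ∧ IsClosedImmersion ψ.fR ∧ ψ.fR.ker = f.fR.ker := by
  refine ⟨imgGrpd f hfl, imgHom f hfl, ?_, ?_, ?_⟩
  · change IsIso (𝟙 G₂.U)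
    infer_instance
  · change IsClosedImmersion (f.fR.imageι : f.fR.image ⟶ G₂.R)
    infer_instance
  · change (f.fR.imageι : f.fR.image ⟶ G₂.R).ker = f.fR.ker
    exact Scheme.IdealSheafData.ker_subschemeι _

end

end Groth.Agent.Helper8.GrpdImg
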