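import Mathlib
import Groth.Prelude.Def_Grpd
import Groth.Agent.Helper8.GrpdImg
import Groth.Agent.Helper2.Grpd12

set_option linter.style.haveILetI false
set_option linter.unusedSectionVars false
set_option autoImplicit false

universe u

open CategoryTheory CategoryTheory.Limits AlgebraicGeometry

namespace Groth.Agent.Helper8.GrpdImgJ

open Groth.Agent.Helper8.GrpdImg Groth.Agent.Helper2.Grpd12

variable {S : Scheme.{u}} (G : Grpd.GroupoidScheme S)

/-- a morphism from the spectrum of a field is separated -/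
theorem isSeparated_of_iso_spec {U : Scheme.{u}} (k : Type u) [Field k]
    (eU : U ≅ Spec (CommRingCat.of k)) (p : U ⟶ S) : IsSeparated p := by
  haveI : IsAffine U := .of_isIso eU.hom
  have hs : Subsingleton U := eU.hom.homeomorph.subsingleton
  have hn : Nonempty U := ⟨eU.inv (Classical.arbitrary _)⟩
  obtain ⟨u⟩ := hn
  obtain ⟨_, ⟨V₀, hV, rfl⟩, hxV, -⟩ :=
    S.isBasis_affineOpens.exists_subset_of_mem_open (Set.mem_univ (p u)) isOpen_univ
  set V : S.Opens := V₀
  have hrg : Set.range p ⊆ Set.range V.ι := by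
    rintro _ ⟨u', rfl⟩
    rw [Subsingleton.elim u' u]
    simpa using hxV
  have hfac : IsOpenImmersion.lift V.ι p hrg ≫ V.ι = p := IsOpenImmersion.lift_fac _ _ _
  haveI : IsAffine V := hV
  rw [← hfac]
  infer_instance

theorem quasiCompact_j (k : Type u) [Field k] (eU : G.U ≅ Spec (CommRingCat.of k))
    [CompactSpace G.R] : QuasiCompact G.j := by
  haveI : IsAffine G.U := .of_isIso eU.hom
  haveI := isSeparated_of_iso_spec k eU G.pU
  have h1 : G.j ≫ pullback.snd G.pU G.pU = G.s := pullback.lift_snd _ _ _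
  haveI : QuasiCompact (G.j ≫ pullback.snd G.pU G.pU) := by
    rw [h1]
    exact (HasAffineProperty.iff_of_isAffine (P := @QuasiCompact)).mpr inferInstance
  exact QuasiCompact.of_comp G.j (pullback.snd G.pU G.pU)

theorem main (k : Type u) [Field k] (eU : G.U ≅ Spec (CommRingCat.of k)) [CompactSpace G.R] :
    ∃ (G' : Grpd.GroupoidScheme S) (φ : Grpd.GroupoidScheme.Hom G G'), IsIso φ.fU ∧
      IsClosedImmersion G'.j ∧ G'.j.ker = (G.j ≫ pullback.map G.pU G.pU G'.pU G'.pU φ.fU φ.fU
        (𝟙 S) ((Category.comp_id _).trans φ.fU_over.symm)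
        ((Category.comp_id _).trans φ.fU_over.symm)).ker := by
  have hs : Subsingleton G.U := eU.hom.homeomorph.subsingleton
  have hn : Nonempty G.U := ⟨eU.inv (Classical.arbitrary _)⟩
  haveI : IsIntegral G.U := isIntegral_of_isOpenImmersion eU.hom
  have hfl0 : ∀ {Y : Scheme.{u}} (q : Y ⟶ G.U), Flat q := fun q => inferInstance
  have hfl : ∀ {Y : Scheme.{u}} (p : Y ⟶ (pairGrpd G.pU).U), Flat p := fun p => hfl0 p
  haveI : IsIso (jHom G).fU := by
    change IsIso (𝟙 G.U)
    infer_instance
  haveI : QuasiCompact (jHom G).fR := quasiCompact_j G k eU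
  have hj : (imgGrpd (jHom G) hfl).j = ((jHom G).fR.imageι : _ ⟶ pullback G.pU G.pU) := by
    apply pullback.hom_ext
    · exact pullback.lift_fst _ _ _
    · exact pullback.lift_snd _ _ _
  refine ⟨imgGrpd (jHom G) hfl, toImgHom (jHom G) hfl, ?_, ?_, ?_⟩
  · change IsIso (𝟙 G.U)
    infer_instance
  · rw [hj]
    exact (inferInstance : IsClosedImmersion (jHom G).fR.imageι)
  · have hid : pullback.map G.pU G.pU (imgGrpd (jHom G) hfl).pU (imgGrpd (jHom G) hfl).pU
        (toImgHom (jHom G) hfl).fU (toImgHom (jHom G) hfl).fU (𝟙 S)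
        ((Category.comp_id _).trans (toImgHom (jHom G) hfl).fU_over.symm)
        ((Category.comp_id _).trans (toImgHom (jHom G) hfl).fU_over.symm) = 𝟙 _ := by
      apply pullback.hom_ext
      · refine (pullback.lift_fst _ _ _).trans ?_
        exact (Category.comp_id (pullback.fst G.pU G.pU)).trans (Category.id_comp _).symm
      · refine (pullback.lift_snd _ _ _).trans ?_
        exact (Category.comp_id (pullback.snd G.pU G.pU)).trans (Category.id_comp _).symm
    have h2 : G.j ≫ pullback.map G.pU G.pU (imgGrpd (jHom G) hfl).pU (imgGrpd (jHom G) hfl).pU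
        (toImgHom (jHom G) hfl).fU (toImgHom (jHom G) hfl).fU (𝟙 S)
        ((Category.comp_id _).trans (toImgHom (jHom G) hfl).fU_over.symm)
        ((Category.comp_id _).trans (toImgHom (jHom G) hfl).fU_over.symm) = G.j := by
      rw [hid]
      exact Category.comp_id G.j
    rw [h2, hj]
    exact Scheme.IdealSheafData.ker_subschemeι _

end Groth.Agent.Helper8.GrpdImgJ
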