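import Mathlib
import Groth.Prelude.Def_Grpd
import Groth.Agent.Helper8.AlgClosedAut

/-!
# Points of the restriction of a groupoid to an algebraically closed field
-/

set_option linter.style.haveILetI false
set_option linter.unusedSectionVars false
set_option autoImplicit false

universe u

open CategoryTheory CategoryTheory.Limits AlgebraicGeometry IsLocalRing

namespace Groth.Agent.Helper8.GrpdPt

/-- if `x ≫ π` is an isomorphism then `π` induces an isomorphism on residue fields at points in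
the image of `x` -/
theorem isIso_residueFieldMap_of_isIso_comp {T X Y : Scheme.{u}} (x : T ⟶ X) (π : X ⟶ Y)
    [IsIso (x ≫ π)] (p : T) : IsIso (π.residueFieldMap (x p)) := by
  have h1 : (x ≫ π).residueFieldMap p = π.residueFieldMap (x p) ≫ x.residueFieldMap p :=
    Scheme.residueFieldMap_comp x π p
  haveI h2 : IsIso ((x ≫ π).residueFieldMap p) := inferInstance
  have hsurj : Function.Surjective (x.residueFieldMap p).hom := by
    intro b
    have h3 := (ConcreteCategory.isIso_iff_bijective ((x ≫ π).residueFieldMap p)).mp h2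
    obtain ⟨a, ha⟩ := h3.2 b
    refine ⟨(π.residueFieldMap (x p)).hom a, ?_⟩
    rw [← ha, h1]
    rfl
  haveI h4 : IsIso (x.residueFieldMap p) := by
    rw [ConcreteCategory.isIso_iff_bijective]
    exact ⟨(x.residueFieldMap p).hom.injective, hsurj⟩
  haveI : IsIso (π.residueFieldMap (x p) ≫ x.residueFieldMap p) := h1 ▸ h2
  exact IsIso.of_isIso_comp_right _ (x.residueFieldMap p)

variable {S : Scheme.{u}} (G : Grpd.GroupoidScheme S)

theorem main (k : Type u) [Field k] (eU : G.U ≅ Spec (CommRingCat.of k)) (r : G.R) :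
    ∃ (k' : Type u) (_ : Field k') (_ : IsAlgClosed k') (_ : Algebra k k'),
      ∃ r' : ↑(pullback (pullback.snd (Spec.map (CommRingCat.ofHom (algebraMap k k')) ≫ eU.inv)
          G.t ≫ G.s) (Spec.map (CommRingCat.ofHom (algebraMap k k')) ≫ eU.inv)),
        (pullback.fst (pullback.snd (Spec.map (CommRingCat.ofHom (algebraMap k k')) ≫ eU.inv)
            G.t ≫ G.s) (Spec.map (CommRingCat.ofHom (algebraMap k k')) ≫ eU.inv) ≫
          pullback.snd (Spec.map (CommRingCat.ofHom (algebraMap k k')) ≫ eU.inv) G.t) r' = r ∧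
        IsIso ((pullback.snd (pullback.snd (Spec.map (CommRingCat.ofHom (algebraMap k k')) ≫
            eU.inv) G.t ≫ G.s) (Spec.map (CommRingCat.ofHom (algebraMap k k')) ≫
            eU.inv)).residueFieldMap r') ∧
        IsIso ((pullback.fst (pullback.snd (Spec.map (CommRingCat.ofHom (algebraMap k k')) ≫
            eU.inv) G.t ≫ G.s) (Spec.map (CommRingCat.ofHom (algebraMap k k')) ≫ eU.inv) ≫
          pullback.fst (Spec.map (CommRingCat.ofHom (algebraMap k k')) ≫ eU.inv)
            G.t).residueFieldMap r') := by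
  -- the two structure maps of the residue field
  let σ₀ : CommRingCat.of k ⟶ G.R.residueField r :=
    Spec.preimage (G.R.fromSpecResidueField r ≫ G.s ≫ eU.hom)
  let τ₀ : CommRingCat.of k ⟶ G.R.residueField r :=
    Spec.preimage (G.R.fromSpecResidueField r ≫ G.t ≫ eU.hom)
  have hσ₀ : Spec.map σ₀ = G.R.fromSpecResidueField r ≫ G.s ≫ eU.hom := Spec.map_preimage _
  have hτ₀ : Spec.map τ₀ = G.R.fromSpecResidueField r ≫ G.t ≫ eU.hom := Spec.map_preimage _
  obtain ⟨L, hLf, hLc, j₀, φ, hφ⟩ :=
    Groth.Agent.Helper8.AlgClosedAut.exists_aut k (G.R.residueField r) σ₀.hom τ₀.hom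
  let j : (G.R.residueField r : Type u) →+* L := j₀
  have hφ : ∀ c : k, φ (j (τ₀.hom c)) = j (σ₀.hom c) := hφ
  let J : G.R.residueField r ⟶ CommRingCat.of L := CommRingCat.ofHom j
  letI : Algebra k L := (τ₀ ≫ J).hom.toAlgebra
  refine ⟨L, hLf, hLc, inferInstance, ?_⟩
  have halg : CommRingCat.ofHom (algebraMap k L) = τ₀ ≫ J := rfl
  set g : Spec (CommRingCat.of L) ⟶ G.U :=
    Spec.map (CommRingCat.ofHom (algebraMap k L)) ≫ eU.inv with hg
  let xR : Spec (CommRingCat.of L) ⟶ G.R := Spec.map J ≫ G.R.fromSpecResidueField r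
  have hxRt : xR ≫ G.t = g := by
    have e1 : xR ≫ G.t = Spec.map J ≫ (G.R.fromSpecResidueField r ≫ G.t ≫ eU.hom) ≫ eU.inv := by
      simp only [xR, Category.assoc, Iso.hom_inv_id, Category.comp_id]
    rw [e1, ← hτ₀, hg, halg, Spec.map_comp, Category.assoc]
  let Φ : CommRingCat.of L ⟶ CommRingCat.of L := CommRingCat.ofHom φ.toRingHom
  let xs : Spec (CommRingCat.of L) ⟶ Spec (CommRingCat.of L) := Spec.map Φ
  have hφ' : (τ₀ ≫ J) ≫ Φ = σ₀ ≫ J := by
    ext c
    exact hφ c
  have hxRs : xR ≫ G.s = xs ≫ g := by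
    have e1 : xR ≫ G.s = Spec.map J ≫ (G.R.fromSpecResidueField r ≫ G.s ≫ eU.hom) ≫ eU.inv := by
      simp only [xR, Category.assoc, Iso.hom_inv_id, Category.comp_id]
    rw [e1, ← hσ₀, hg, halg, ← Category.assoc xs, ← Spec.map_comp, hφ', Spec.map_comp,
      Category.assoc]
  have h₁ : 𝟙 (Spec (CommRingCat.of L)) ≫ g = xR ≫ G.t := by rw [Category.id_comp, hxRt]
  have h₂ : pullback.lift (𝟙 _) xR h₁ ≫ pullback.snd g G.t ≫ G.s = xs ≫ g := by
    rw [← Category.assoc, pullback.lift_snd, hxRs]
  let x : Spec (CommRingCat.of L) ⟶ pullback (pullback.snd g G.t ≫ G.s) g :=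
    pullback.lift (pullback.lift (𝟙 _) xR h₁) xs h₂
  refine ⟨x (closedPoint L), ?_, ?_, ?_⟩
  · rw [← Scheme.Hom.comp_apply]
    have : x ≫ pullback.fst (pullback.snd g G.t ≫ G.s) g ≫ pullback.snd g G.t = xR := by
      rw [← Category.assoc, pullback.lift_fst, pullback.lift_snd]
    rw [this, Scheme.Hom.comp_apply, Scheme.fromSpecResidueField_apply]
  · haveI : IsIso (x ≫ pullback.snd (pullback.snd g G.t ≫ G.s) g) := by
      rw [pullback.lift_snd]
      haveI : IsIso Φ := (ConcreteCategory.isIso_iff_bijective _).mpr φ.bijective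
      infer_instance
    exact isIso_residueFieldMap_of_isIso_comp x _ _
  · haveI : IsIso (x ≫ pullback.fst (pullback.snd g G.t ≫ G.s) g ≫ pullback.fst g G.t) := by
      rw [← Category.assoc, pullback.lift_fst, pullback.lift_fst]
      infer_instance
    exact isIso_residueFieldMap_of_isIso_comp x _ _

end Groth.Agent.Helper8.GrpdPt
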