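import Mathlib
import Groth.Agent.Helper8.GrpdGlueG

/-!
# Quotient of a groupoid admitting a finite locally free quasi-section (SGA3 V 6.1)
-/

set_option autoImplicit false
universe u

namespace Groth.Agent.Helper8.GrpdQSec

open CategoryTheory CategoryTheory.Limits AlgebraicGeometry Grpd
open Groth.Agent.Helper2 Groth.Agent.Helper2.Grpd23 Groth.Agent.Helper8.GrpdGlue

variable {S : Scheme.{u}} (G : Grpd.GroupoidScheme S) {U' : Scheme.{u}} (g : U' ⟶ G.U)

/-- the map `v : U' ×_{g,U,t} R → U` induced by the source map -/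
noncomputable abbrev vv : pullback g G.t ⟶ G.U := pullback.snd g G.t ≫ G.s

/-- `g : U' → U` is a finite locally free quasi-section -/
class QSec : Prop where
  isFinite : IsFinite (vv G g)
  flat : Flat (vv G g)
  lfp : LocallyOfFinitePresentation (vv G g)
  surj : Surjective (vv G g)
  haff : ∀ E : Set U', (∀ x ∈ E, ∀ y ∈ E, ∃ r : G.R, G.t r = g x ∧ G.s r = g y) →
      ∃ W : U'.Opens, IsAffineOpen W ∧ E ⊆ (W : Set U')

attribute [instance] QSec.isFinite QSec.flat QSec.lfp QSec.surj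

variable [QSec G g]

instance quotHyp : QuotHyp (Grpd23.restrict G g) where
  isFinite := inferInstanceAs (IsFinite (pullback.snd (vv G g) g))
  flat := inferInstanceAs (Flat (pullback.snd (vv G g) g))
  lfp := inferInstanceAs (LocallyOfFinitePresentation (pullback.snd (vv G g) g))
  haff := by
    intro x
    obtain ⟨W, hW, hEW⟩ := QSec.haff (G := G) (g := g)
      ((t' G g) '' ((s' G g) ⁻¹' {x})) (by
        rintro _ ⟨r₁, hr₁, rfl⟩ _ ⟨r₂, hr₂, rfl⟩
        have h1 : s' G g r₁ = x := hr₁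
        have h2 : s' G g r₂ = x := hr₂
        obtain ⟨ρ, hρt, hρs⟩ := exists_div_pt G (π G g r₁) (π G g r₂)
          (by rw [π_s_apply_g, π_s_apply_g, h1, h2])
        exact ⟨ρ, by rw [hρt, π_t_apply_g], by rw [hρs, π_t_apply_g]⟩)
    exact ⟨W, hW, hEW⟩

/-- the quotient -/
noncomputable abbrev YY : Scheme.{u} := Y (Grpd23.restrict G g)

/-- the quotient map of the restricted groupoid -/
noncomputable abbrev qq : U' ⟶ YY G g := q (Grpd23.restrict G g)

theorem s'_qq : s' G g ≫ qq G g = t' G g ≫ qq G g := s_q (Grpd23.restrict G g)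

instance epi_qq : Epi (qq G g) := epi_q (Grpd23.restrict G g)

instance isIntegralHom_qq : IsIntegralHom (qq G g) := isIntegralHom_q (Grpd23.restrict G g)

theorem qq_surjective : Function.Surjective (qq G g) := q_surjective (Grpd23.restrict G g)

theorem isOpenMap_qq : IsOpenMap (qq G g) := isOpenMap_q (Grpd23.restrict G g)

theorem exists_desc_qq {Z : Scheme.{u}} (f₀ : U' ⟶ Z) (hf₀ : s' G g ≫ f₀ = t' G g ≫ f₀) :
    ∃ d : YY G g ⟶ Z, qq G g ≫ d = f₀ := exists_desc (Grpd23.restrict G g) f₀ hf₀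

theorem exists_geom_point_qq {Ω : Type u} [Field Ω] [IsAlgClosed Ω]
    (x y : Spec (CommRingCat.of Ω) ⟶ U') (h : x ≫ qq G g = y ≫ qq G g) :
    ∃ r : Spec (CommRingCat.of Ω) ⟶ R' G g, r ≫ t' G g = x ∧ r ≫ s' G g = y :=
  exists_geom_point_q (Grpd23.restrict G g) x y h

theorem flat_qq [Mono G.j] : Flat (qq G g) := by
  haveI := mono_j_restrict G g
  exact flat_q (Grpd23.restrict G g)

theorem isPullback_qq [Mono G.j] : IsPullback (t' G g) (s' G g) (qq G g) (qq G g) := by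
  haveI := mono_j_restrict G g
  haveI := isIso_φ (Grpd23.restrict G g)
  have hpb : IsPullback (Grpd23.restrict G g).t (Grpd23.restrict G g).s
      (q (Grpd23.restrict G g)) (q (Grpd23.restrict G g)) :=
    IsPullback.of_iso_pullback ⟨(s_q (Grpd23.restrict G g)).symm⟩
      (asIso (φ (Grpd23.restrict G g))) (φ_fst (Grpd23.restrict G g))
      (φ_snd (Grpd23.restrict G g))
  exact hpb

theorem desc_cond {Z : Scheme.{u}} (g₁ g₂ : Z ⟶ pullback g G.t)
    (h : g₁ ≫ vv G g = g₂ ≫ vv G g) :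
    g₁ ≫ pullback.fst g G.t ≫ qq G g = g₂ ≫ pullback.fst g G.t ≫ qq G g := by
  obtain ⟨δ, hδt, hδs⟩ := exists_divT G (g₁ ≫ pullback.snd g G.t) (g₂ ≫ pullback.snd g G.t)
    (by simpa only [Category.assoc] using h)
  have h1 : (g₁ ≫ pullback.fst g G.t) ≫ g = δ ≫ G.t := by
    rw [hδt, Category.assoc, Category.assoc, pullback.condition]
  have h2 : δ ≫ G.s = (g₂ ≫ pullback.fst g G.t) ≫ g := by
    rw [hδs, Category.assoc, Category.assoc, pullback.condition]
  obtain ⟨r', e1, e2⟩ : ∃ r' : Z ⟶ R' G g, r' ≫ t' G g = g₁ ≫ pullback.fst g G.t ∧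
      r' ≫ s' G g = g₂ ≫ pullback.fst g G.t :=
    ⟨mk (g₁ ≫ pullback.fst g G.t) δ (g₂ ≫ pullback.fst g G.t) h1 h2, mk_t _ _ _ _ _, mk_s _ _ _ _ _⟩
  rw [← Category.assoc, ← Category.assoc, ← e1, ← e2, Category.assoc, Category.assoc, s'_qq]

/-- the quotient map `U → Y` -/
noncomputable def pp : G.U ⟶ YY G g :=
  EffectiveEpi.desc (vv G g) (pullback.fst g G.t ≫ qq G g)
    (fun g₁ g₂ h => desc_cond G g g₁ g₂ h)

theorem vv_pp : vv G g ≫ pp G g = pullback.fst g G.t ≫ qq G g := EffectiveEpi.fac _ _ _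

theorem vv_pp' {Z : Scheme.{u}} (z : Z ⟶ pullback g G.t) :
    (z ≫ vv G g) ≫ pp G g = (z ≫ pullback.fst g G.t) ≫ qq G g := by
  rw [Category.assoc, vv_pp, Category.assoc]

theorem g_pp : g ≫ pp G g = qq G g := by
  let σ : U' ⟶ pullback g G.t := pullback.lift (𝟙 U') (g ≫ G.e)
    (by rw [Category.id_comp, Category.assoc, G.e_t, Category.comp_id])
  have h1 : σ ≫ vv G g = g := by
    rw [← Category.assoc, pullback.lift_snd, Category.assoc, G.e_s, Category.comp_id]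
  have h2 : σ ≫ pullback.fst g G.t = 𝟙 U' := pullback.lift_fst _ _ _
  calc g ≫ pp G g = (σ ≫ vv G g) ≫ pp G g := by rw [h1]
    _ = (σ ≫ pullback.fst g G.t) ≫ qq G g := vv_pp' G g σ
    _ = qq G g := by rw [h2, Category.id_comp]

theorem t_pp : G.t ≫ pp G g = G.s ≫ pp G g := by
  haveI : Epi (pullback.snd (vv G g) G.s) := Flat.epi_of_flat_of_surjective _
  rw [← cancel_epi (pullback.snd (vv G g) G.s)]
  obtain ⟨a, ha⟩ : ∃ a : pullback (vv G g) G.s ⟶ pullback g G.t, a = pullback.fst (vv G g) G.s :=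
    ⟨_, rfl⟩
  obtain ⟨b, hb⟩ : ∃ b : pullback (vv G g) G.s ⟶ G.R, b = pullback.snd (vv G g) G.s := ⟨_, rfl⟩
  have hab : a ≫ vv G g = b ≫ G.s := by rw [ha, hb]; exact pullback.condition
  rw [← hb]
  obtain ⟨δ, hδt, hδs⟩ := exists_divT G (a ≫ pullback.snd g G.t) b
    (by rw [Category.assoc]; exact hab)
  have h1 : (a ≫ pullback.fst g G.t) ≫ g = δ ≫ G.t := by
    rw [hδt, Category.assoc, Category.assoc, pullback.condition]
  obtain ⟨a', ha'1, ha'2⟩ : ∃ a' : pullback (vv G g) G.s ⟶ pullback g G.t,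
      a' ≫ pullback.fst g G.t = a ≫ pullback.fst g G.t ∧ a' ≫ pullback.snd g G.t = δ :=
    ⟨pullback.lift _ _ h1, pullback.lift_fst _ _ _, pullback.lift_snd _ _ _⟩
  have h2 : a' ≫ vv G g = b ≫ G.t := by
    rw [← Category.assoc, ha'2, hδs]
  calc b ≫ G.t ≫ pp G g = (a' ≫ vv G g) ≫ pp G g := by rw [h2, Category.assoc]
    _ = (a' ≫ pullback.fst g G.t) ≫ qq G g := vv_pp' G g a'
    _ = (a ≫ pullback.fst g G.t) ≫ qq G g := by rw [ha'1]
    _ = (a ≫ vv G g) ≫ pp G g := (vv_pp' G g a).symm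
    _ = b ≫ G.s ≫ pp G g := by rw [hab, Category.assoc]

theorem t_pp_apply (r : G.R) : pp G g (G.t r) = pp G g (G.s r) := by
  rw [← Scheme.Hom.comp_apply, t_pp, Scheme.Hom.comp_apply]

theorem key_aux (c : Cofork G.t G.s) : ∃ d : YY G g ⟶ c.pt, pp G g ≫ d = c.π ∧
    ∀ m : YY G g ⟶ c.pt, pp G g ≫ m = c.π → m = d := by
  have hc : G.t ≫ c.π = G.s ≫ c.π := c.condition
  have hf : s' G g ≫ g ≫ c.π = t' G g ≫ g ≫ c.π := by
    rw [← Category.assoc, ← π_s, ← Category.assoc (t' G g), ← π_t, Category.assoc,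
      Category.assoc, hc]
  obtain ⟨d, hd⟩ := exists_desc_qq G g (g ≫ c.π) hf
  refine ⟨d, ?_, ?_⟩
  · haveI : Epi (vv G g) := Flat.epi_of_flat_of_surjective _
    rw [← cancel_epi (vv G g)]
    rw [← Category.assoc, vv_pp, Category.assoc, hd, ← Category.assoc, pullback.condition,
      Category.assoc, hc, ← Category.assoc]
  · intro m hm
    rw [← cancel_epi (qq G g), hd, ← g_pp, Category.assoc, hm]


theorem nonempty_isColimit : Nonempty (IsColimit (Cofork.ofπ (pp G g) (t_pp G g))) := by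
  have key : ∀ c : Cofork G.t G.s, ∃ d : YY G g ⟶ c.pt, pp G g ≫ d = c.π ∧
      ∀ m : YY G g ⟶ c.pt, pp G g ≫ m = c.π → m = d := by
    intro c
    exact key_aux G g c
  exact ⟨Cofork.IsColimit.mk' _ (fun c => ⟨(key c).choose, (key c).choose_spec.1,
    fun {m} hm => (key c).choose_spec.2 m hm⟩)⟩

instance surjective_pp : Surjective (pp G g) := by
  constructor
  intro y
  obtain ⟨x', rfl⟩ := qq_surjective G g y
  exact ⟨g x', by rw [← Scheme.Hom.comp_apply, g_pp]⟩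

/-- connecting two points of `V` whose `U'`-components are related -/
theorem exists_conn {T : Scheme.{u}} (z₁ z₂ : T ⟶ pullback g G.t) (r' : T ⟶ R' G g)
    (h1 : r' ≫ t' G g = z₁ ≫ pullback.fst g G.t) (h2 : r' ≫ s' G g = z₂ ≫ pullback.fst g G.t) :
    ∃ ρ : T ⟶ G.R, ρ ≫ G.t = z₁ ≫ vv G g ∧ ρ ≫ G.s = z₂ ≫ vv G g := by
  have e1 : (r' ≫ π G g) ≫ G.t = (z₁ ≫ pullback.snd g G.t) ≫ G.t := by
    rw [Category.assoc, π_t, ← Category.assoc, h1, Category.assoc, pullback.condition,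
      Category.assoc]
  have e2 : (r' ≫ π G g) ≫ G.s = (z₂ ≫ pullback.snd g G.t) ≫ G.t := by
    rw [Category.assoc, π_s, ← Category.assoc, h2, Category.assoc, pullback.condition,
      Category.assoc]
  obtain ⟨δ₁, hδ₁t, hδ₁s⟩ := exists_inv G (z₁ ≫ pullback.snd g G.t)
  obtain ⟨δ₂, hδ₂t, hδ₂s⟩ := exists_mul G δ₁ (r' ≫ π G g) (by rw [hδ₁s, e1])
  obtain ⟨ρ, hρt, hρs⟩ := exists_mul G δ₂ (z₂ ≫ pullback.snd g G.t) (by rw [hδ₂s, e2])
  refine ⟨ρ, ?_, ?_⟩
  · rw [hρt, hδ₂t, hδ₁t, Category.assoc]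
  · rw [hρs, Category.assoc]

/-- geometric points with the same image in the quotient are related by an arrow -/
theorem exists_geom_arrow {Ω : Type u} [Field Ω] [IsAlgClosed Ω]
    (a b : Spec (CommRingCat.of Ω) ⟶ G.U) (h : a ≫ pp G g = b ≫ pp G g) :
    ∃ ρ : Spec (CommRingCat.of Ω) ⟶ G.R, ρ ≫ G.t = a ∧ ρ ≫ G.s = b := by
  obtain ⟨z₁, hz₁⟩ := lift_geom_point (vv G g) a
  obtain ⟨z₂, hz₂⟩ := lift_geom_point (vv G g) b
  have hx : (z₁ ≫ pullback.fst g G.t) ≫ qq G g = (z₂ ≫ pullback.fst g G.t) ≫ qq G g := by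
    rw [← vv_pp', ← vv_pp', hz₁, hz₂, h]
  obtain ⟨r', hr't, hr's⟩ := exists_geom_point_qq G g _ _ hx
  obtain ⟨ρ, hρt, hρs⟩ := exists_conn G g z₁ z₂ r' hr't hr's
  exact ⟨ρ, by rw [hρt, hz₁], by rw [hρs, hz₂]⟩

theorem lift_surjective : Function.Surjective (pullback.lift G.t G.s (t_pp G g)) := by
  intro z
  let PP := pullback (pp G g) (pp G g)
  let Ω := AlgebraicClosure (PP.residueField z)
  obtain ⟨zbar, hzbar⟩ : ∃ zbar : Spec (CommRingCat.of Ω) ⟶ PP,
      ∀ s : Spec (CommRingCat.of Ω), zbar s = z := by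
    refine ⟨Spec.map (CommRingCat.ofHom (algebraMap (PP.residueField z) Ω)) ≫
      PP.fromSpecResidueField z, fun s => ?_⟩
    rw [Scheme.Hom.comp_apply, Scheme.fromSpecResidueField_apply]
  obtain ⟨ρ, hρt, hρs⟩ := exists_geom_arrow G g (zbar ≫ pullback.fst (pp G g) (pp G g))
    (zbar ≫ pullback.snd (pp G g) (pp G g))
    (by rw [Category.assoc, Category.assoc, pullback.condition])
  have hρ : ρ ≫ pullback.lift G.t G.s (t_pp G g) = zbar := by
    apply pullback.hom_ext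
    · rw [Category.assoc, pullback.lift_fst, hρt]
    · rw [Category.assoc, pullback.lift_snd, hρs]
  refine ⟨ρ default, ?_⟩
  rw [← Scheme.Hom.comp_apply, hρ, hzbar]

theorem exists_of_pp_eq (x₁ x₂ : G.U) (h : pp G g x₁ = pp G g x₂) :
    ∃ r : G.R, G.t r = x₁ ∧ G.s r = x₂ := by
  obtain ⟨z, hz1, hz2⟩ := Scheme.Pullback.exists_preimage_pullback (f := pp G g) (g := pp G g)
    x₁ x₂ h
  obtain ⟨r, rfl⟩ := lift_surjective G g z
  refine ⟨r, ?_, ?_⟩
  · rw [← hz1, ← Scheme.Hom.comp_apply, pullback.lift_fst]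
  · rw [← hz2, ← Scheme.Hom.comp_apply, pullback.lift_snd]

theorem isOpenMap_pp (ht : IsOpenMap G.t) : IsOpenMap (pp G g) := by
  intro O hO
  have hq := isOpenMap_qq G g
  have : (pp G g) '' O = (qq G g) '' (g ⁻¹' (G.t '' (G.s ⁻¹' O))) := by
    ext y
    constructor
    · rintro ⟨x, hx, rfl⟩
      obtain ⟨x', hx'⟩ := qq_surjective G g (pp G g x)
      have e : pp G g (g x') = pp G g x := by
        rw [← Scheme.Hom.comp_apply, g_pp]; exact hx'
      obtain ⟨r, hr1, hr2⟩ := exists_of_pp_eq G g _ _ e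
      exact ⟨x', ⟨r, by show G.s r ∈ O; rw [hr2]; exact hx, hr1⟩, hx'⟩
    · rintro ⟨x', ⟨r, hr, hr'⟩, rfl⟩
      refine ⟨G.s r, hr, ?_⟩
      rw [← t_pp_apply, hr', ← Scheme.Hom.comp_apply, g_pp]
  rw [this]
  exact hq _ ((ht _ (hO.preimage G.s.continuous)).preimage g.continuous)

theorem universallyClosed_pp [UniversallyClosed G.t] : UniversallyClosed (pp G g) := by
  haveI : UniversallyClosed (pullback.fst g G.t) :=
    MorphismProperty.pullback_fst (P := @UniversallyClosed) _ _ ‹_›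
  haveI : UniversallyClosed (qq G g) := inferInstance
  haveI : UniversallyClosed (vv G g ≫ pp G g) := by
    rw [vv_pp]; infer_instance
  exact UniversallyClosed.of_comp_surjective (vv G g) (pp G g)

section Mono

variable [Mono G.j]

theorem flat_pp [Flat G.t] : Flat (pp G g) := by
  haveI : Flat (qq G g) := flat_qq G g
  haveI : Flat (vv G g ≫ pp G g) := by
    rw [vv_pp]; infer_instance
  exact flat_of_comp_surjective (vv G g) (pp G g)

theorem isPullback_pp : IsPullback G.t G.s (pp G g) (pp G g) := by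
  have hpb : IsPullback (t' G g) (s' G g) (qq G g) (qq G g) := isPullback_qq G g
  -- the cover of `U ×_Y U`
  obtain ⟨a, ha⟩ : ∃ a : pullback (pp G g) (pp G g) ⟶ G.U, a = pullback.fst _ _ := ⟨_, rfl⟩
  obtain ⟨b, hb⟩ : ∃ b : pullback (pp G g) (pp G g) ⟶ G.U, b = pullback.snd _ _ := ⟨_, rfl⟩
  have hab : a ≫ pp G g = b ≫ pp G g := by rw [ha, hb]; exact pullback.condition
  obtain ⟨c₁, hc₁⟩ : ∃ c₁ : pullback (vv G g) a ⟶ pullback (pp G g) (pp G g),
      c₁ = pullback.snd _ _ := ⟨_, rfl⟩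
  obtain ⟨c₂, hc₂⟩ : ∃ c₂ : pullback (vv G g) (c₁ ≫ b) ⟶ pullback (vv G g) a,
      c₂ = pullback.snd _ _ := ⟨_, rfl⟩
  haveI : Flat c₁ := by rw [hc₁]; infer_instance
  haveI : Surjective c₁ := by rw [hc₁]; infer_instance
  haveI : LocallyOfFinitePresentation c₁ := by rw [hc₁]; infer_instance
  haveI : Flat c₂ := by rw [hc₂]; infer_instance
  haveI : Surjective c₂ := by rw [hc₂]; infer_instance
  haveI : LocallyOfFinitePresentation c₂ := by rw [hc₂]; infer_instance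
  obtain ⟨z₁, hz₁⟩ : ∃ z₁ : pullback (vv G g) (c₁ ≫ b) ⟶ pullback g G.t,
      z₁ ≫ vv G g = (c₂ ≫ c₁) ≫ a := by
    refine ⟨c₂ ≫ pullback.fst (vv G g) a, ?_⟩
    rw [Category.assoc, pullback.condition, ← hc₁, Category.assoc]
  obtain ⟨z₂, hz₂⟩ : ∃ z₂ : pullback (vv G g) (c₁ ≫ b) ⟶ pullback g G.t,
      z₂ ≫ vv G g = (c₂ ≫ c₁) ≫ b := by
    refine ⟨pullback.fst (vv G g) (c₁ ≫ b), ?_⟩
    rw [pullback.condition, ← hc₂, Category.assoc]
  have hx : (z₁ ≫ pullback.fst g G.t) ≫ qq G g = (z₂ ≫ pullback.fst g G.t) ≫ qq G g := by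
    rw [← vv_pp', ← vv_pp', hz₁, hz₂]
    simp only [Category.assoc]
    rw [hab]
  obtain ⟨r', hr't, hr's⟩ : ∃ r' : pullback (vv G g) (c₁ ≫ b) ⟶ R' G g,
      r' ≫ t' G g = z₁ ≫ pullback.fst g G.t ∧ r' ≫ s' G g = z₂ ≫ pullback.fst g G.t :=
    ⟨hpb.lift _ _ hx, hpb.lift_fst _ _ _, hpb.lift_snd _ _ _⟩
  obtain ⟨ρ, hρt, hρs⟩ := exists_conn G g z₁ z₂ r' hr't hr's
  rw [hz₁] at hρt
  rw [hz₂] at hρs
  obtain ⟨σ, hσ⟩ : ∃ σ : pullback (pp G g) (pp G g) ⟶ G.R, (c₂ ≫ c₁) ≫ σ = ρ := by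
    refine ⟨EffectiveEpi.desc (c₂ ≫ c₁) ρ (fun g₁ g₂ h => ?_), EffectiveEpi.fac _ _ _⟩
    apply eq_of_mono_j G
    · rw [Category.assoc, Category.assoc, hρt]
      simp only [Category.assoc]
      exact (reassoc_of% h) a
    · rw [Category.assoc, Category.assoc, hρs]
      simp only [Category.assoc]
      exact (reassoc_of% h) b
  haveI : Epi (c₂ ≫ c₁) := Flat.epi_of_flat_of_surjective _
  have hσt : σ ≫ G.t = a := by
    rw [← cancel_epi (c₂ ≫ c₁), ← Category.assoc, hσ, hρt]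
  have hσs : σ ≫ G.s = b := by
    rw [← cancel_epi (c₂ ≫ c₁), ← Category.assoc, hσ, hρs]
  -- `σ` is inverse to `(t, s)`
  have h1 : σ ≫ pullback.lift G.t G.s (t_pp G g) = 𝟙 _ := by
    apply pullback.hom_ext
    · rw [Category.assoc, pullback.lift_fst, hσt, ha, Category.id_comp]
    · rw [Category.assoc, pullback.lift_snd, hσs, hb, Category.id_comp]
  have h2 : pullback.lift G.t G.s (t_pp G g) ≫ σ = 𝟙 _ := by
    apply eq_of_mono_j G
    · rw [Category.assoc, hσt, ha, pullback.lift_fst, Category.id_comp]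
    · rw [Category.assoc, hσs, hb, pullback.lift_snd, Category.id_comp]
  exact IsPullback.of_iso_pullback ⟨t_pp G g⟩ ⟨pullback.lift G.t G.s (t_pp G g), σ, h2, h1⟩
    (pullback.lift_fst _ _ _) (pullback.lift_snd _ _ _)

end Mono

end Groth.Agent.Helper8.GrpdQSec
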