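import Mathlib
import Groth.Prelude.Def_Grpd
import Groth.Agent.Helper8.GrpdImg
import Groth.Agent.Helper5.RedGrp
import Groth.Agent.S4372
import Groth.Agent.S7462

/-!
# The reduced closure of the image of a morphism of groupoids on a perfect field is a groupoid
-/

set_option linter.style.haveILetI false
set_option linter.unusedSectionVars false
set_option autoImplicit false

universe u

open CategoryTheory CategoryTheory.Limits AlgebraicGeometry

namespace Groth.Agent.Helper8.GrpdRedImg

open Groth.Agent.Helper8.GrpdCartier Groth.Agent.Helper8.GrpdSub Groth.Agent.Helper8.GrpdImg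

/-- a morphism from a reduced scheme with range in a closed set factors through the reduced
induced closed subscheme -/
theorem exists_lift_reduced {T Y : Scheme.{u}} [IsReduced T] (g : T ⟶ Y)
    (C : TopologicalSpace.Closeds Y) (h : Set.range g ⊆ C) :
    ∃ b : T ⟶ (Scheme.IdealSheafData.vanishingIdeal C).subscheme,
      b ≫ (Scheme.IdealSheafData.vanishingIdeal C).subschemeι = g := by
  have hker : (Scheme.IdealSheafData.vanishingIdeal C).subschemeι.ker ≤ g.ker := by
    rw [Scheme.IdealSheafData.ker_subschemeι, Groth.Agent.S4372.ker_eq_vanishingIdeal]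
    apply Scheme.IdealSheafData.vanishingIdeal_antimono
    intro x hx
    exact closure_minimal h C.isClosed hx
  exact ⟨IsClosedImmersion.lift _ g hker, IsClosedImmersion.lift_fac _ _ _⟩

section

variable {S : Scheme.{u}} {G₁ G₂ : Grpd.GroupoidScheme S} (f : Grpd.GroupoidScheme.Hom G₁ G₂)
  [IsIso f.fU] (k : Type u) [Field k] [PerfectField k] (eU : G₂.U ≅ Spec (CommRingCat.of k))

/-- the closure of the image of the arrow map -/
noncomputable def C : TopologicalSpace.Closeds G₂.R := .closure (Set.range f.fR)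

/-- the reduced closed subscheme on the closure of the image -/
noncomputable abbrev Z : Scheme.{u} := (Scheme.IdealSheafData.vanishingIdeal (C f)).subscheme

/-- its inclusion -/
noncomputable abbrev ι : Z f ⟶ G₂.R := (Scheme.IdealSheafData.vanishingIdeal (C f)).subschemeι

theorem isReduced_Z : IsReduced (Z f) := Groth.Agent.S4372.isReduced_vanishingIdeal_subscheme _

theorem range_ι : Set.range (ι f) = closure (Set.range f.fR) := by
  rw [Scheme.IdealSheafData.range_subschemeι, Groth.Agent.S4372.support_vanishingIdeal]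
  rfl

theorem ι_mem (z : Z f) : ι f z ∈ closure (Set.range f.fR) := by
  rw [← range_ι]; exact ⟨z, rfl⟩

include eU in
theorem exists_e : ∃ e' : G₂.U ⟶ Z f, e' ≫ ι f = G₂.e := by
  haveI : IsReduced G₂.U := isReduced_of_isOpenImmersion eU.hom
  apply exists_lift_reduced
  rintro _ ⟨u, rfl⟩
  apply subset_closure
  refine ⟨G₁.e (inv f.fU u), ?_⟩
  rw [← Scheme.Hom.comp_apply, hom_e, ← Scheme.Hom.comp_apply, ← Category.assoc,
    IsIso.inv_hom_id, Category.id_comp]

theorem exists_i : ∃ i' : Z f ⟶ Z f, i' ≫ ι f = ι f ≫ G₂.i := by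
  haveI := isReduced_Z f
  apply exists_lift_reduced
  rintro _ ⟨z, rfl⟩
  rw [Scheme.Hom.comp_apply]
  have h1 := ι_mem f z
  have h2 : G₂.i '' (closure (Set.range f.fR)) ⊆ closure (Set.range f.fR) := by
    refine (image_closure_subset_closure_image G₂.i.continuous).trans (closure_mono ?_)
    rintro _ ⟨_, ⟨x, rfl⟩, rfl⟩
    refine ⟨G₁.i x, ?_⟩
    rw [← Scheme.Hom.comp_apply, hom_i, Scheme.Hom.comp_apply]
  exact h2 ⟨_, h1, rfl⟩

include eU in
theorem isReduced_prod : IsReduced (pullback (ι f ≫ G₂.s) (ι f ≫ G₂.t)) := by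
  haveI := isReduced_Z f
  have h1 := Groth.Agent.Helper5.RedGrp.isReduced_pullback_of_perfectField k
    ((ι f ≫ G₂.s) ≫ eU.hom) ((ι f ≫ G₂.t) ≫ eU.hom)
  have h2 := isPullback_comp_mono eU.hom (IsPullback.of_hasPullback (ι f ≫ G₂.s) (ι f ≫ G₂.t))
  exact isReduced_of_isOpenImmersion h2.isoPullback.hom

include eU in
theorem exists_c : ∃ c' : pullback (ι f ≫ G₂.s) (ι f ≫ G₂.t) ⟶ Z f,
    c' ≫ ι f = pullback.map (ι f ≫ G₂.s) (ι f ≫ G₂.t) G₂.s G₂.t
      (ι f) (ι f) (𝟙 _) (by rw [Category.comp_id]) (by rw [Category.comp_id]) ≫ G₂.c := by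
  haveI := isReduced_prod f k eU
  apply exists_lift_reduced
  rintro _ ⟨x, rfl⟩
  rw [Scheme.Hom.comp_apply]
  apply Groth.Agent.S7462.result S G₁ G₂ f k eU
  · rw [← Scheme.Hom.comp_apply, pullback.lift_fst, Scheme.Hom.comp_apply]
    exact ι_mem f _
  · rw [← Scheme.Hom.comp_apply, pullback.lift_snd, Scheme.Hom.comp_apply]
    exact ι_mem f _

/-- the identity of the reduced image groupoid -/
noncomputable def redE : G₂.U ⟶ Z f := (exists_e f k eU).choose

theorem redE_spec : redE f k eU ≫ ι f = G₂.e := (exists_e f k eU).choose_spec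

/-- the inverse of the reduced image groupoid -/
noncomputable def redI : Z f ⟶ Z f := (exists_i f).choose

theorem redI_spec : redI f ≫ ι f = ι f ≫ G₂.i := (exists_i f).choose_spec

/-- the composition of the reduced image groupoid -/
noncomputable def redC : pullback (ι f ≫ G₂.s) (ι f ≫ G₂.t) ⟶ Z f := (exists_c f k eU).choose

theorem redC_spec : redC f k eU ≫ ι f = pullback.map (ι f ≫ G₂.s) (ι f ≫ G₂.t) G₂.s G₂.t
    (ι f) (ι f) (𝟙 _) (by rw [Category.comp_id]) (by rw [Category.comp_id]) ≫ G₂.c :=
  (exists_c f k eU).choose_spec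

/-- the groupoid scheme on the reduced closure of the image of the arrow map -/
noncomputable def redGrpd : Grpd.GroupoidScheme S :=
  subGrpd G₂ (ι f) (redE f k eU) (redE_spec f k eU) (redI f) (redI_spec f) (redC f k eU)
    (redC_spec f k eU)

/-- the inclusion of the reduced image groupoid -/
noncomputable def redHom : Grpd.GroupoidScheme.Hom (redGrpd f k eU) G₂ :=
  subHom G₂ (ι f) (redE f k eU) (redE_spec f k eU) (redI f) (redI_spec f) (redC f k eU)
    (redC_spec f k eU)

include eU in
theorem exists_redImage : ∃ (G' : Grpd.GroupoidScheme S) (ψ : Grpd.GroupoidScheme.Hom G' G₂),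
    IsIso ψ.fU ∧ IsClosedImmersion ψ.fR ∧ IsReduced G'.R ∧
      Set.range ⇑ψ.fR = closure (Set.range ⇑f.fR) := by
  refine ⟨redGrpd f k eU, redHom f k eU, ?_, ?_, ?_, ?_⟩
  · change IsIso (𝟙 G₂.U)
    infer_instance
  · change IsClosedImmersion (ι f)
    infer_instance
  · exact isReduced_Z f
  · exact range_ι f

end

end Groth.Agent.Helper8.GrpdRedImg
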