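import Mathlib
import Groth.Prelude.Def_Grpd
import Groth.Agent.Helper8.GrpdRedImg
import Groth.Agent.Helper2.Grpd12

set_option linter.style.haveILetI false
set_option linter.unusedSectionVars false
set_option autoImplicit false

universe u

open CategoryTheory CategoryTheory.Limits AlgebraicGeometry

namespace Groth.Agent.Helper8.GrpdRedImgJ

open Groth.Agent.Helper8.GrpdRedImg Groth.Agent.Helper2.Grpd12

variable {S : Scheme.{u}} (G : Grpd.GroupoidScheme S)

theorem main (k : Type u) [Field k] [PerfectField k] (eU : G.U ≅ Spec (CommRingCat.of k)) :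
    ∃ (G' : Grpd.GroupoidScheme S) (ψ : G'.U ≅ G.U) (hψ : ψ.hom ≫ G.pU = G'.pU),
      IsReduced G'.R ∧ IsClosedImmersion G'.j ∧
        Set.range ⇑(G'.j ≫ pullback.map G'.pU G'.pU G.pU G.pU ψ.hom ψ.hom (𝟙 S)
          ((Category.comp_id _).trans hψ.symm) ((Category.comp_id _).trans hψ.symm)) =
          closure (Set.range ⇑G.j) := by
  haveI : IsIso (jHom G).fU := by
    change IsIso (𝟙 G.U)
    infer_instance
  let eU' : (pairGrpd G.pU).U ≅ Spec (CommRingCat.of k) := eU
  have hj : (redGrpd (jHom G) k eU').j = (ι (jHom G) : _ ⟶ pullback G.pU G.pU) := by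
    apply pullback.hom_ext
    · exact pullback.lift_fst _ _ _
    · exact pullback.lift_snd _ _ _
  let ψ : (redGrpd (jHom G) k eU').U ≅ G.U := Iso.refl G.U
  have hψ : ψ.hom ≫ G.pU = (redGrpd (jHom G) k eU').pU := Category.id_comp G.pU
  refine ⟨redGrpd (jHom G) k eU', ψ, hψ, ?_, ?_, ?_⟩
  · exact isReduced_Z (jHom G)
  · rw [hj]
    exact (inferInstance : IsClosedImmersion (ι (jHom G)))
  · have hid : pullback.map (redGrpd (jHom G) k eU').pU (redGrpd (jHom G) k eU').pU G.pU G.pU
        ψ.hom ψ.hom (𝟙 S) ((Category.comp_id _).trans hψ.symm)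
        ((Category.comp_id _).trans hψ.symm) = 𝟙 _ := by
      apply pullback.hom_ext
      · refine (pullback.lift_fst _ _ _).trans ?_
        exact (Category.comp_id (pullback.fst G.pU G.pU)).trans (Category.id_comp _).symm
      · refine (pullback.lift_snd _ _ _).trans ?_
        exact (Category.comp_id (pullback.snd G.pU G.pU)).trans (Category.id_comp _).symm
    have h2 : (redGrpd (jHom G) k eU').j ≫ pullback.map (redGrpd (jHom G) k eU').pU
        (redGrpd (jHom G) k eU').pU G.pU G.pU
        ψ.hom ψ.hom (𝟙 S) ((Category.comp_id _).trans hψ.symm)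
        ((Category.comp_id _).trans hψ.symm) = (ι (jHom G) : _ ⟶ pullback G.pU G.pU) := by
      rw [hid, hj]
      exact Category.comp_id _
    rw [h2]
    exact range_ι (jHom G)

end Groth.Agent.Helper8.GrpdRedImgJ
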