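import Mathlib
import Groth.Prelude.Def_Grpd
import Groth.Agent.Helper8.ChevInt

/-!
# Invariant affine opens via restriction along an integral morphism (Stacks 0ABC-type lemma)
-/

set_option autoImplicit false

namespace Groth.Agent.Helper8.GrpdRestr

open CategoryTheory CategoryTheory.Limits AlgebraicGeometry

universe u

variable {S : Scheme.{u}} (G : Grpd.GroupoidScheme S)

/-- division morphism `(a, b) ↦ a ∘ b⁻¹` on pairs with the same source -/
noncomputable def dv : pullback G.s G.s ⟶ G.R :=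
  pullback.lift (pullback.fst G.s G.s) (pullback.snd G.s G.s ≫ G.i)
    (by rw [Category.assoc, G.i_t]; exact pullback.condition) ≫ G.c

theorem dv_t : dv G ≫ G.t = pullback.fst G.s G.s ≫ G.t := G.comp_t _ _ _

theorem dv_s : dv G ≫ G.s = pullback.snd G.s G.s ≫ G.t := by
  rw [dv, G.comp_s, Category.assoc, G.i_s]

theorem exists_div (r r₁ : G.R) (h : G.s r = G.s r₁) :
    ∃ ρ : G.R, G.t ρ = G.t r ∧ G.s ρ = G.t r₁ := by
  obtain ⟨z, hz1, hz2⟩ := Scheme.Pullback.exists_preimage_pullback (f := G.s) (g := G.s) r r₁ h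
  refine ⟨dv G z, ?_, ?_⟩
  · rw [← Scheme.Hom.comp_apply, dv_t, Scheme.Hom.comp_apply, hz1]
  · rw [← Scheme.Hom.comp_apply, dv_s, Scheme.Hom.comp_apply, hz2]

theorem s_i_apply (r : G.R) : G.s (G.i r) = G.t r := by
  rw [← Scheme.Hom.comp_apply, G.i_s]

theorem t_i_apply (r : G.R) : G.t (G.i r) = G.s r := by
  rw [← Scheme.Hom.comp_apply, G.i_t]

theorem s_e_apply (x : G.U) : G.s (G.e x) = x := by
  rw [← Scheme.Hom.comp_apply, G.e_s]; rfl

theorem t_e_apply (x : G.U) : G.t (G.e x) = x := by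
  rw [← Scheme.Hom.comp_apply, G.e_t]; rfl

theorem main [IsIntegralHom G.s] [IsIntegralHom G.t] (U' : Scheme.{u}) (g : U' ⟶ G.U)
    [IsIntegralHom g] (horb : ∀ u : G.U, ∃ r : G.R, G.s r = u ∧ G.t r ∈ Set.range ⇑g) (u' : U')
    (W' : U'.Opens) (hW' : IsAffineOpen W') (hu' : u' ∈ W')
    (hinv : (pullback.fst (pullback.snd g G.t ≫ G.s) g ≫ pullback.fst g G.t) ⁻¹ᵁ W' =
      (pullback.snd (pullback.snd g G.t ≫ G.s) g) ⁻¹ᵁ W') :
    ∃ W : G.U.Opens, IsAffineOpen W ∧ g u' ∈ W ∧ G.s ⁻¹ᵁ W = G.t ⁻¹ᵁ W := by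
  -- notation
  have hcond : ∀ z : ↥(pullback g G.t), g (pullback.fst g G.t z) = G.t (pullback.snd g G.t z) := by
    intro z
    rw [← Scheme.Hom.comp_apply, ← Scheme.Hom.comp_apply, pullback.condition]
  have hh : ∀ z : ↥(pullback g G.t),
      (pullback.snd g G.t ≫ G.s) z = G.s (pullback.snd g G.t z) := fun z => rfl
  set Wt : (pullback g G.t).Opens := pullback.fst g G.t ⁻¹ᵁ W' with hWt
  have hWtaff : IsAffineOpen Wt := hW'.preimage (pullback.fst g G.t)
  set Wset : Set G.U := (pullback.snd g G.t ≫ G.s) '' (Wt : Set ↥(pullback g G.t)) with hWset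
  -- (A)
  have hA : ∀ z : ↥(pullback g G.t), (pullback.snd g G.t ≫ G.s) z ∈ Wset → z ∈ Wt := by
    rintro z ⟨z₁, hz₁, hzz⟩
    rw [hh, hh] at hzz
    obtain ⟨ρ, hρt, hρs⟩ := exists_div G (pullback.snd g G.t z) (pullback.snd g G.t z₁) hzz.symm
    obtain ⟨z', hz'1, hz'2⟩ := Scheme.Pullback.exists_preimage_pullback (f := g) (g := G.t)
      (pullback.fst g G.t z) ρ (by rw [hρt, hcond])
    obtain ⟨z'', hz''1, hz''2⟩ := Scheme.Pullback.exists_preimage_pullback
      (f := pullback.snd g G.t ≫ G.s) (g := g) z' (pullback.fst g G.t z₁)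
      (by rw [hh, hz'2, hρs, hcond])
    have h1 : z'' ∈ (pullback.snd (pullback.snd g G.t ≫ G.s) g) ⁻¹ᵁ W' := by
      show pullback.snd (pullback.snd g G.t ≫ G.s) g z'' ∈ W'
      rw [hz''2]; exact hz₁
    rw [← hinv] at h1
    have h2 : (pullback.fst (pullback.snd g G.t ≫ G.s) g ≫ pullback.fst g G.t) z'' ∈ W' := h1
    rw [Scheme.Hom.comp_apply, hz''1, hz'1] at h2
    exact h2
  -- (B)
  have hB : Function.Surjective (pullback.snd g G.t ≫ G.s) := by
    intro u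
    obtain ⟨r, hr, x, hx⟩ := horb u
    obtain ⟨z, hz1, hz2⟩ := Scheme.Pullback.exists_preimage_pullback (f := g) (g := G.t) x r hx
    exact ⟨z, by rw [hh, hz2, hr]⟩
  -- (C)
  have hC : IsOpen Wset := by
    have hcompl : Wsetᶜ = (pullback.snd g G.t ≫ G.s) '' ((Wt : Set ↥(pullback g G.t))ᶜ) := by
      ext y
      constructor
      · intro hy
        obtain ⟨z, rfl⟩ := hB y
        refine ⟨z, fun hz => hy ⟨z, hz, rfl⟩, rfl⟩
      · rintro ⟨z, hz, rfl⟩ hy
        exact hz (hA z hy)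
    rw [← isClosed_compl_iff, hcompl]
    exact (pullback.snd g G.t ≫ G.s).isClosedMap _ Wt.isOpen.isClosed_compl
  -- (D)
  have hD1 : ∀ r : G.R, G.s r ∈ Wset → G.t r ∈ Wset := by
    rintro r ⟨z₁, hz₁, hzz⟩
    rw [hh] at hzz
    obtain ⟨ρ, hρt, hρs⟩ := exists_div G (pullback.snd g G.t z₁) r hzz
    obtain ⟨z', hz'1, hz'2⟩ := Scheme.Pullback.exists_preimage_pullback (f := g) (g := G.t)
      (pullback.fst g G.t z₁) ρ (by rw [hρt, hcond])
    refine ⟨z', ?_, by rw [hh, hz'2, hρs]⟩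
    show pullback.fst g G.t z' ∈ W'
    rw [hz'1]; exact hz₁
  have hD : ∀ r : G.R, G.s r ∈ Wset ↔ G.t r ∈ Wset := by
    intro r
    refine ⟨hD1 r, fun h => ?_⟩
    have := hD1 (G.i r) (by rw [s_i_apply]; exact h)
    rwa [t_i_apply] at this
  -- (E)
  have hE : g u' ∈ Wset := by
    obtain ⟨z, hz1, hz2⟩ := Scheme.Pullback.exists_preimage_pullback (f := g) (g := G.t)
      u' (G.e (g u')) (by rw [t_e_apply])
    refine ⟨z, ?_, by rw [hh, hz2, s_e_apply]⟩
    show pullback.fst g G.t z ∈ W'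
    rw [hz1]; exact hu'
  -- (F)
  let W : G.U.Opens := ⟨Wset, hC⟩
  have hF : (pullback.snd g G.t ≫ G.s) ⁻¹ᵁ W = Wt := by
    ext z
    constructor
    · intro hz; exact hA z hz
    · intro hz; exact ⟨z, hz, rfl⟩
  have haff : IsAffineOpen W := by
    haveI : IsAffine ((pullback.snd g G.t ≫ G.s) ⁻¹ᵁ W : Scheme.{u}) := by
      have : IsAffineOpen ((pullback.snd g G.t ≫ G.s) ⁻¹ᵁ W) := hF ▸ hWtaff
      exact this
    haveI : IsIntegralHom ((pullback.snd g G.t ≫ G.s) ∣_ W) :=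
      IsZariskiLocalAtTarget.restrict (P := @IsIntegralHom)
        (inferInstanceAs (IsIntegralHom (pullback.snd g G.t ≫ G.s))) W
    haveI : Surjective (pullback.snd g G.t ≫ G.s) := ⟨hB⟩
    haveI : Surjective ((pullback.snd g G.t ≫ G.s) ∣_ W) :=
      IsZariskiLocalAtTarget.restrict (P := @Surjective)
        (inferInstanceAs (Surjective (pullback.snd g G.t ≫ G.s))) W
    exact ChevInt.isAffine_of_integral_surjective ((pullback.snd g G.t ≫ G.s) ∣_ W)
  refine ⟨W, haff, hE, ?_⟩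
  ext r
  exact hD r

end Groth.Agent.Helper8.GrpdRestr
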