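import Mathlib
import Groth.Prelude.Def_Grpd
import Groth.Prelude.Def_Mor2
import Groth.Agent.Helper8.GrpdThickB

/-!
# Existence of an invariant thickening over which a finite groupoid is finite locally free
-/

set_option autoImplicit false
universe u

open CategoryTheory CategoryTheory.Limits AlgebraicGeometry TopologicalSpace

namespace Groth.Agent.Helper8.GrpdThickC

open Groth.Agent.Helper8.GrpdThickA Groth.Agent.Helper8.GrpdThickB

theorem main {S : Scheme.{u}} (G : Grpd.GroupoidScheme S) [IsFinite G.s] [IsFinite G.t] :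
    ∃ (W : G.U.Opens) (W' : (↑W : Scheme.{u}).IdealSheafData), G.s ⁻¹ᵁ W = G.t ⁻¹ᵁ W ∧
      W'.support = ⊤ ∧
      (∃ φ : pullback G.s (W'.subschemeι ≫ W.ι) ≅ pullback G.t (W'.subschemeι ≫ W.ι),
        φ.hom ≫ pullback.fst G.t (W'.subschemeι ≫ W.ι) =
          pullback.fst G.s (W'.subschemeι ≫ W.ι)) ∧
      (∀ u : G.U, ∃ r : G.R, G.t r = u ∧ G.s r ∈ closure (W : Set G.U)) ∧
      Mor2.IsFinLocFree (pullback.snd G.s (W'.subschemeι ≫ W.ι)) ∧
      Mor2.IsFinLocFree (pullback.snd G.t (W'.subschemeι ≫ W.ι)) := by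
  obtain ⟨J, hJ⟩ := exists_isGlue G
  exact ⟨W G, J, W_inv G, support_eq_top hJ, exists_iso hJ, density G, isFinLocFree_s hJ,
    isFinLocFree_t hJ⟩

end Groth.Agent.Helper8.GrpdThickC
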