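import Mathlib

namespace Groth.Agent.Helper8.H2Units

open groupCohomology CategoryTheory

section general
variable {G : Type} [Group G] [Finite G]

/-- `|G|` kills `H²`. -/
lemma card_smul_mem_coboundaries₂ (A : Rep ℤ G) (f : G × G → A) (hf : f ∈ cocycles₂ A) :
    (Nat.card G) • f ∈ coboundaries₂ A := by
  classical
  haveI := Fintype.ofFinite G
  refine ⟨fun x => ∑ y, f (x, y), ?_⟩
  funext ⟨a, b⟩
  rw [d₁₂_hom_apply]
  have h := (mem_cocycles₂_iff f).1 hf a b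
  have hsum : ∑ j, (f (a * b, j) + f (a, b)) = ∑ j, (A.ρ a (f (b, j)) + f (a, b * j)) :=
    Finset.sum_congr rfl (fun j _ => h j)
  rw [Finset.sum_add_distrib, Finset.sum_add_distrib, Finset.sum_const, Finset.card_univ] at hsum
  have hre : ∑ j, f (a, b * j) = ∑ j, f (a, j) :=
    Fintype.sum_equiv (Equiv.mulLeft b) _ _ (fun _ => rfl)
  rw [hre, ← map_sum] at hsum
  simp only [Pi.smul_apply, Nat.card_eq_fintype_card]
  calc A.ρ a (∑ x, f (b, x)) - ∑ x, f (a * b, x) + ∑ x, f (a, x)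
      = (A.ρ a (∑ x, f (b, x)) + ∑ x, f (a, x)) - ∑ x, f (a * b, x) := by abel
    _ = _ := by rw [← hsum]; abel

lemma exists_of_H3 (hQ : Subsingleton (groupCohomology (Rep.trivial ℤ G ℤ) 3))
    (e : G × G × G → ℤ) (c : G × G → ℤ) (n : ℕ) (hn : n ≠ 0)
    (hc : d₂₃ (Rep.trivial ℤ G ℤ) c = n • e) :
    ∃ b : G × G → ℤ, d₂₃ (Rep.trivial ℤ G ℤ) b = e := by
  have hex : (inhomogeneousCochains (Rep.trivial ℤ G ℤ)).ExactAt 3 := by
    rw [HomologicalComplex.exactAt_iff_isZero_homology]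
    haveI : Subsingleton ((inhomogeneousCochains (Rep.trivial ℤ G ℤ)).homology 3) := hQ
    exact ModuleCat.isZero_of_subsingleton _
  rw [HomologicalComplex.exactAt_iff' _ 2 3 4 (by simp) (by simp),
    ShortComplex.moduleCat_exact_iff] at hex
  have h1 : (inhomogeneousCochains (Rep.trivial ℤ G ℤ)).d 3 4
      ((cochainsIso₃ (Rep.trivial ℤ G ℤ)).inv e) = 0 := by
    have h2 : (n : ℤ) • (inhomogeneousCochains (Rep.trivial ℤ G ℤ)).d 3 4
        ((cochainsIso₃ (Rep.trivial ℤ G ℤ)).inv e) = 0 := by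
      rw [← map_smul, ← map_smul]
      have : ((n : ℤ) • e) = d₂₃ (Rep.trivial ℤ G ℤ) c := by rw [hc]; simp
      rw [this]
      have h3 := ConcreteCategory.congr_hom (eq_d₂₃_comp_inv (Rep.trivial ℤ G ℤ)) c
      simp only [ModuleCat.hom_comp, LinearMap.comp_apply] at h3
      rw [← h3]
      have h7 := ConcreteCategory.congr_hom
        ((inhomogeneousCochains (Rep.trivial ℤ G ℤ)).d_comp_d 2 3 4)
        ((cochainsIso₂ (Rep.trivial ℤ G ℤ)).inv c)
      simp only [ModuleCat.hom_comp, LinearMap.comp_apply] at h7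
      exact h7
    have h6 : ∀ x : (Fin 4 → G) → ℤ, (n : ℤ) • x = 0 → x = 0 := by
      intro x hx
      funext g
      have := congrFun hx g
      simp only [Pi.smul_apply, smul_eq_mul, Pi.zero_apply, mul_eq_zero] at this
      rcases this with h | h
      · exact absurd (by exact_mod_cast h) hn
      · exact h
    exact h6 _ h2
  obtain ⟨b0, hb⟩ := hex _ h1
  obtain ⟨b, hbb⟩ : ∃ b : (inhomogeneousCochains (Rep.trivial ℤ G ℤ)).X 2, b = b0 := ⟨b0, rfl⟩
  have hb' : (inhomogeneousCochains (Rep.trivial ℤ G ℤ)).d 2 3 b =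
      (cochainsIso₃ (Rep.trivial ℤ G ℤ)).inv e := by rw [hbb]; exact hb
  refine ⟨(cochainsIso₂ (Rep.trivial ℤ G ℤ)).hom b, ?_⟩
  have h4 : d₂₃ (Rep.trivial ℤ G ℤ) ((cochainsIso₂ (Rep.trivial ℤ G ℤ)).hom b) =
      (cochainsIso₃ (Rep.trivial ℤ G ℤ)).hom
        ((inhomogeneousCochains (Rep.trivial ℤ G ℤ)).d 2 3 b) :=
    ConcreteCategory.congr_hom (comp_d₂₃_eq (Rep.trivial ℤ G ℤ)) b
  rw [h4, hb']
  simp

lemma torsion_mem_coboundaries₂ (hQ : Subsingleton (groupCohomology (Rep.trivial ℤ G ℤ) 3))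
    (M : Type) [AddCommGroup M] (ζ η : M) (hη : (Nat.card G) • η = ζ)
    (hζ0 : (Nat.card G) • ζ = 0)
    (hζ1 : ∀ m : ℤ, m • ζ = 0 → ((Nat.card G : ℕ) : ℤ) ∣ m)
    (hζ2 : ∀ u : M, (Nat.card G) • u = 0 → ∃ i : ℤ, i • ζ = u)
    (f : G × G → M) (hf : f ∈ cocycles₂ (Rep.trivial ℤ G M)) (hnf : (Nat.card G) • f = 0) :
    f ∈ coboundaries₂ (Rep.trivial ℤ G M) := by
  have hn0 : Nat.card G ≠ 0 := Nat.card_pos.ne'
  choose c hc using fun ab : G × G => hζ2 (f ab) (congrFun hnf ab)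
  have hdvd : ∀ x : G × G × G, ((Nat.card G : ℕ) : ℤ) ∣ d₂₃ (Rep.trivial ℤ G ℤ) c x := by
    rintro ⟨a, b, j⟩
    apply hζ1
    rw [d₂₃_hom_apply]
    simp only [Representation.trivial_apply]
    rw [sub_smul, add_smul, sub_smul, hc, hc, hc, hc]
    have := (mem_cocycles₂_def (A := Rep.trivial ℤ G M) f).1 hf a b j
    simpa [Representation.trivial_apply] using this
  choose e he using hdvd
  obtain ⟨b, hb⟩ := exists_of_H3 hQ e c (Nat.card G) hn0 (by
    funext x; rw [he x]; simp)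
  obtain ⟨c', hc'def⟩ : ∃ c' : G × G → ℤ, c' = c - ((Nat.card G : ℕ) : ℤ) • b := ⟨_, rfl⟩
  have hc' : c' ∈ cocycles₂ (Rep.trivial ℤ G ℤ) := by
    rw [cocycles₂, LinearMap.mem_ker, hc'def, map_sub, map_smul]
    have hb' : (d₂₃ (Rep.trivial ℤ G ℤ)).hom b = e := hb
    rw [hb']
    funext x
    have := he x
    simp only [Pi.sub_apply, Pi.smul_apply, smul_eq_mul]
    rw [Pi.zero_apply, sub_eq_zero]
    exact this
  have hz : (fun ab => c' ab • η) ∈ cocycles₂ (Rep.trivial ℤ G M) := by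
    rw [mem_cocycles₂_iff]
    intro a b j
    have := (mem_cocycles₂_iff (A := Rep.trivial ℤ G ℤ) c').1 hc' a b j
    simp only [Representation.trivial_apply] at this ⊢
    rw [← add_smul, ← add_smul, this]
  have hnz : (Nat.card G) • (fun ab => c' ab • η) = f := by
    funext ab
    simp only [Pi.smul_apply]
    rw [← natCast_zsmul, smul_comm, natCast_zsmul, hη, hc'def]
    simp only [Pi.sub_apply, Pi.smul_apply, smul_eq_mul]
    rw [sub_smul, hc, mul_comm, mul_smul, natCast_zsmul, hζ0, smul_zero, sub_zero]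
  rw [← hnz]
  exact card_smul_mem_coboundaries₂ _ _ hz

end general

section general2
variable {G : Type} [Group G] [Finite G]

lemma all_coboundaries (hQ : Subsingleton (groupCohomology (Rep.trivial ℤ G ℤ) 3))
    (M : Type) [AddCommGroup M] (ζ η : M) (hη : (Nat.card G) • η = ζ)
    (hζ0 : (Nat.card G) • ζ = 0)
    (hζ1 : ∀ m : ℤ, m • ζ = 0 → ((Nat.card G : ℕ) : ℤ) ∣ m)
    (hζ2 : ∀ u : M, (Nat.card G) • u = 0 → ∃ i : ℤ, i • ζ = u)
    (hdiv : ∀ x : M, ∃ y : M, (Nat.card G) • y = x)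
    (F : G × G → M) (hFc : F ∈ cocycles₂ (Rep.trivial ℤ G M)) :
    F ∈ coboundaries₂ (Rep.trivial ℤ G M) := by
  have key := torsion_mem_coboundaries₂ hQ M ζ η hη hζ0 hζ1 hζ2
  obtain ⟨g, hg⟩ := card_smul_mem_coboundaries₂ (Rep.trivial ℤ G M) F hFc
  choose h hh using fun x => hdiv (g x)
  obtain ⟨D, hD⟩ : ∃ D : G × G → M,
      D = (d₁₂ (Rep.trivial ℤ G M)).hom h := ⟨_, rfl⟩
  have hDc : D ∈ cocycles₂ (Rep.trivial ℤ G M) := by
    rw [hD]; exact d₁₂_apply_mem_cocycles₂ (A := Rep.trivial ℤ G M) h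
  have hDb : D ∈ coboundaries₂ (Rep.trivial ℤ G M) := ⟨h, hD.symm⟩
  have h1 : F - D ∈ cocycles₂ (Rep.trivial ℤ G M) :=
    Submodule.sub_mem _ hFc hDc
  have h2 : (Nat.card G) • (F - D) = 0 := by
    have hgh : (Nat.card G) • h = g := funext hh
    have : (Nat.card G) • D = (Nat.card G) • F := by
      rw [hD, ← map_nsmul, hgh]
      exact hg
    rw [smul_sub, this, sub_self]
  have h3 := key _ h1 h2
  have h4 : F = (F - D) + D := by abel
  rw [h4]
  exact Submodule.add_mem _ h3 hDb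

omit [Finite G] in
lemma subsingleton_H2_of (A : Rep ℤ G) (h : ∀ f ∈ cocycles₂ A, f ∈ coboundaries₂ A) :
    Subsingleton (groupCohomology A 2) := by
  refine ⟨fun x y => ?_⟩
  suffices h : ∀ x : H2 A, x = 0 by rw [h x, h y]
  intro x
  induction x using H2_induction_on with
  | h f =>
    rw [H2π_eq_zero_iff]
    exact h _ f.2

end general2

theorem main (Q : Type) [Group Q] [Finite Q]
    (hQ : Subsingleton (groupCohomology (Rep.trivial ℤ Q ℤ) 3)) (k : Type) [Field k] [IsSepClosed k]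
    (p : ℕ) [CharP k p] (hp : ¬ p ∣ Nat.card Q) :
    Subsingleton (groupCohomology (Rep.trivial ℤ Q (Additive kˣ)) 2) := by
  have hn0 : Nat.card Q ≠ 0 := Nat.card_pos.ne'
  haveI : NeZero ((Nat.card Q : ℕ) : k) := ⟨by rwa [Ne, CharP.cast_eq_zero_iff k p]⟩
  -- divisibility
  have hdivU : ∀ u : kˣ, ∃ v : kˣ, v ^ (Nat.card Q) = u := by
    intro u
    obtain ⟨z, hz⟩ := IsSepClosed.exists_pow_nat_eq (u : k) (Nat.card Q)
    have hz0 : z ≠ 0 := by
      rintro rfl
      rw [zero_pow hn0] at hz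
      exact u.ne_zero hz.symm
    refine ⟨Units.mk0 z hz0, ?_⟩
    ext
    simp [hz]
  have hdiv : ∀ x : Additive kˣ, ∃ y : Additive kˣ, (Nat.card Q) • y = x := by
    intro x
    obtain ⟨v, hv⟩ := hdivU (Additive.toMul x)
    refine ⟨Additive.ofMul v, ?_⟩
    rw [← ofMul_pow, hv]
    rfl
  -- primitive root
  obtain ⟨ζ0, hζ0⟩ := HasEnoughRootsOfUnity.exists_primitiveRoot k (Nat.card Q)
  obtain ⟨ζ, hζdef⟩ : ∃ ζ : kˣ, (ζ : k) = ζ0 := ⟨(hζ0.isUnit hn0).unit, rfl⟩
  have hζ : IsPrimitiveRoot ζ (Nat.card Q) := by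
    rw [← IsPrimitiveRoot.coe_units_iff, hζdef]; exact hζ0
  obtain ⟨η, hη⟩ := hdivU ζ
  apply subsingleton_H2_of
  refine all_coboundaries hQ (Additive kˣ) (Additive.ofMul ζ) (Additive.ofMul η)
    (by rw [← ofMul_pow, hη])
    (by rw [← ofMul_pow, hζ.pow_eq_one]; rfl)
    (by
      intro m hm
      rw [← ofMul_zpow] at hm
      exact (hζ.zpow_eq_one_iff_dvd m).1 (Additive.ofMul.injective hm))
    (by
      intro u hu
      have hu' : (Additive.toMul u) ^ (Nat.card Q) = 1 := by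
        have := congrArg Additive.toMul hu
        simpa using this
      have hu'' : ((Additive.toMul u : kˣ) : k) ^ (Nat.card Q) = 1 := by
        rw [← Units.val_pow_eq_pow_val, hu']; rfl
      obtain ⟨i, -, hi⟩ := hζ0.eq_pow_of_pow_eq_one hu''
      refine ⟨(i : ℤ), ?_⟩
      rw [natCast_zsmul, ← ofMul_pow]
      apply Additive.toMul.injective
      ext
      simp [hζdef, hi])
    hdiv

end Groth.Agent.Helper8.H2Units
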