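import Mathlib
import Groth.Prelude.Def_W4c2submetdescSubtr
import Groth.Agent.S14791

/-!
# A ring as the filtered colimit of its finitely generated subalgebras, and the
limit step for S-subtrusive morphisms
-/

universe u

namespace Groth.Agent.Helper8.SubtrNoethA

open AlgebraicGeometry CategoryTheory Limits Opposite

section Colim

variable (A V : Type u) [CommRing A] [CommRing V] [Algebra A V]

/-- The subalgebra generated by a finite set. -/
abbrev sub (S : Finset V) : Subalgebra A V := Algebra.adjoin A (S : Set V)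

theorem sub_mono {S T : Finset V} (h : S ≤ T) : sub A V S ≤ sub A V T :=
  Algebra.adjoin_mono (Finset.coe_subset.mpr h)

/-- The diagram of finitely generated subalgebras. -/
noncomputable def F : Finset V ⥤ CommRingCat.{u} where
  obj S := CommRingCat.of (sub A V S)
  map {S T} h := CommRingCat.ofHom (Subalgebra.inclusion (sub_mono A V (leOfHom h))).toRingHom
  map_id S := by ext x; rfl
  map_comp f g := by ext x; rfl

/-- The cocone with vertex the whole ring. -/
noncomputable def cocone : Cocone (F A V) where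
  pt := CommRingCat.of V
  ι := { app := fun S => CommRingCat.ofHom (sub A V S).val.toRingHom
         naturality := fun S T h => by ext x; rfl }

theorem mem_single (v : V) : v ∈ sub A V {v} := Algebra.subset_adjoin (by simp)

/-- The underlying function of the descent map. -/
noncomputable def descFun (s : Cocone (F A V)) (v : V) : s.pt :=
  (s.ι.app {v}).hom ⟨v, mem_single A V v⟩

theorem desc_key (s : Cocone (F A V)) (S : Finset V) (x : sub A V S) :
    (s.ι.app S).hom x = descFun A V s x.1 := by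
  classical
  let T : Finset V := S ∪ {x.1}
  have h1 : S ≤ T := Finset.subset_union_left
  have h2 : ({x.1} : Finset V) ≤ T := Finset.subset_union_right
  have n1 := ConcreteCategory.congr_hom (s.ι.naturality (homOfLE h1)) x
  have n2 := ConcreteCategory.congr_hom (s.ι.naturality (homOfLE h2)) ⟨x.1, mem_single A V x.1⟩
  simp only [Functor.const_obj_obj, Functor.const_obj_map, Category.comp_id,
    CommRingCat.comp_apply] at n1 n2
  unfold descFun
  change _ = (s.ι.app {x.1}) ⟨x.1, mem_single A V x.1⟩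
  change (s.ι.app S) x = _
  rw [← n1, ← n2]
  rfl

/-- The descent ring homomorphism. -/
noncomputable def descHom (s : Cocone (F A V)) : V →+* s.pt where
  toFun := descFun A V s
  map_one' := by
    have k := desc_key A V s ∅ 1
    exact k.symm.trans (map_one (s.ι.app ∅).hom)
  map_zero' := by
    have k := desc_key A V s ∅ 0
    exact k.symm.trans (map_zero (s.ι.app ∅).hom)
  map_mul' v w := by
    classical
    let S : Finset V := {v, w}
    have hv : v ∈ sub A V S := Algebra.subset_adjoin (by simp [S])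
    have hw : w ∈ sub A V S := Algebra.subset_adjoin (by simp [S])
    have k1 := desc_key A V s S ⟨v, hv⟩
    have k2 := desc_key A V s S ⟨w, hw⟩
    have k3 := desc_key A V s S (⟨v, hv⟩ * ⟨w, hw⟩)
    have k3' : (s.ι.app S).hom (⟨v, hv⟩ * ⟨w, hw⟩) =
        (s.ι.app S).hom ⟨v, hv⟩ * (s.ι.app S).hom ⟨w, hw⟩ := map_mul (s.ι.app S).hom _ _
    rw [k1, k2] at k3'
    exact k3.symm.trans k3'
  map_add' v w := by
    classical
    let S : Finset V := {v, w}
    have hv : v ∈ sub A V S := Algebra.subset_adjoin (by simp [S])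
    have hw : w ∈ sub A V S := Algebra.subset_adjoin (by simp [S])
    have k1 := desc_key A V s S ⟨v, hv⟩
    have k2 := desc_key A V s S ⟨w, hw⟩
    have k3 := desc_key A V s S (⟨v, hv⟩ + ⟨w, hw⟩)
    have k3' : (s.ι.app S).hom (⟨v, hv⟩ + ⟨w, hw⟩) =
        (s.ι.app S).hom ⟨v, hv⟩ + (s.ι.app S).hom ⟨w, hw⟩ := map_add (s.ι.app S).hom _ _
    rw [k1, k2] at k3'
    exact k3.symm.trans k3'

/-- The ring is the colimit of its finitely generated subalgebras. -/
noncomputable def isColimit : IsColimit (cocone A V) where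
  desc s := CommRingCat.ofHom (descHom A V s)
  fac s S := by
    ext x
    exact (desc_key A V s S x).symm
  uniq s m hm := by
    ext v
    exact ConcreteCategory.congr_hom (hm {v}) ⟨v, mem_single A V v⟩

/-- The diagram of spectra. -/
noncomputable abbrev D : (Finset V)ᵒᵖ ⥤ Scheme.{u} := (F A V).op ⋙ Scheme.Spec

/-- The cone of spectra. -/
noncomputable abbrev cone : Cone (D A V) := Scheme.Spec.mapCone (cocone A V).op

/-- The spectrum of the ring is the limit of the spectra of the subalgebras. -/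
noncomputable def isLimit : IsLimit (cone A V) :=
  isLimitOfPreserves Scheme.Spec (isColimit A V).op

end Colim

section Transfer

open Subtr

theorem isSSubtrusive_of_iso_target {X Y Z P Q : Scheme.{u}} {f : X ⟶ Y} {g : Z ⟶ Y}
    (hs : IsSSubtrusive (pullback.snd f g)) (Ψ : pullback f g ⟶ Q) (q : Q ⟶ P) (w : P ⟶ Z)
    [IsIso w] (h : Ψ ≫ q ≫ w = pullback.snd f g) : IsSSubtrusive q := by
  have key : ∀ a, (inv w) (w a) = a := fun a => by
    rw [← Scheme.Hom.comp_apply, IsIso.hom_inv_id]; rfl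
  have hh : ∀ x, w (q (Ψ x)) = pullback.snd f g x := fun x => by
    rw [← h]; rfl
  intro p p' hp
  obtain ⟨x, x', hx, h1, h2⟩ := hs (hp.map w.continuous)
  refine ⟨Ψ x, Ψ x', hx.map Ψ.continuous, ?_, ?_⟩
  · rw [← key (q (Ψ x)), hh, h1, key]
  · rw [← key (q (Ψ x')), hh, h2, key]

theorem isSSubtrusive_snd_of_iso_target {X Y Z P Q : Scheme.{u}} {f : X ⟶ Y} {g : Z ⟶ Y}
    {q : Q ⟶ P} (hq : IsSSubtrusive q) (Φ : Q ⟶ pullback f g) (w : P ⟶ Z) [IsIso w]
    (h : Φ ≫ pullback.snd f g = q ≫ w) : IsSSubtrusive (pullback.snd f g) := by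
  have key : ∀ a, w ((inv w) a) = a := fun a => by
    rw [← Scheme.Hom.comp_apply, IsIso.inv_hom_id]; rfl
  have hh : ∀ x, pullback.snd f g (Φ x) = w (q x) := fun x => by
    rw [← Scheme.Hom.comp_apply, h]; rfl
  intro z z' hz
  obtain ⟨x, x', hx, h1, h2⟩ := hq (hz.map (inv w).continuous)
  refine ⟨Φ x, Φ x', hx.map Φ.continuous, ?_, ?_⟩
  · rw [hh, h1, key]
  · rw [hh, h2, key]

end Transfer

section Limit

open Subtr

theorem conclude {X Y Y₀ Z : Scheme.{u}} (f : X ⟶ Y) (g₀ : Y₀ ⟶ Y) (π₀ : Z ⟶ Y₀) (g : Z ⟶ Y)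
    (hg : π₀ ≫ g₀ = g)
    (key : IsSSubtrusive (pullback.snd (pullback.snd f g₀) (pullback.fst (𝟙 Y₀) π₀))) :
    IsSSubtrusive (pullback.snd f g) := by
  have hw : pullback.fst (𝟙 Y₀) π₀ = pullback.snd (𝟙 Y₀) π₀ ≫ π₀ := by
    have := pullback.condition (f := 𝟙 Y₀) (g := π₀)
    rw [Category.comp_id] at this
    exact this
  have c1 := pullback.condition (f := f) (g := g₀)
  have c2 := pullback.condition (f := pullback.snd f g₀) (g := pullback.fst (𝟙 Y₀) π₀)
  have cond : (pullback.fst (pullback.snd f g₀) (pullback.fst (𝟙 Y₀) π₀) ≫ pullback.fst f g₀) ≫ f =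
      (pullback.snd (pullback.snd f g₀) (pullback.fst (𝟙 Y₀) π₀) ≫ pullback.snd (𝟙 Y₀) π₀) ≫ g := by
    calc (pullback.fst (pullback.snd f g₀) (pullback.fst (𝟙 Y₀) π₀) ≫ pullback.fst f g₀) ≫ f
        = (pullback.fst (pullback.snd f g₀) (pullback.fst (𝟙 Y₀) π₀) ≫ pullback.snd f g₀) ≫ g₀ := by
          rw [Category.assoc, c1, Category.assoc]
      _ = (pullback.snd (pullback.snd f g₀) (pullback.fst (𝟙 Y₀) π₀) ≫
            pullback.fst (𝟙 Y₀) π₀) ≫ g₀ := by rw [c2]
      _ = (pullback.snd (pullback.snd f g₀) (pullback.fst (𝟙 Y₀) π₀) ≫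
            (pullback.snd (𝟙 Y₀) π₀ ≫ π₀)) ≫ g₀ :=
          congrArg (fun m => (pullback.snd (pullback.snd f g₀) (pullback.fst (𝟙 Y₀) π₀) ≫ m) ≫ g₀) hw
      _ = (pullback.snd (pullback.snd f g₀) (pullback.fst (𝟙 Y₀) π₀) ≫ pullback.snd (𝟙 Y₀) π₀) ≫ g := by
          rw [← hg]; simp only [Category.assoc]
  exact isSSubtrusive_snd_of_iso_target key (pullback.lift _ _ cond) (pullback.snd (𝟙 Y₀) π₀)
    (pullback.lift_snd _ _ _)

theorem stage {X Y Y₀ Z : Scheme.{u}} (f : X ⟶ Y) (g₀ : Y₀ ⟶ Y) (Dm : Z ⟶ Y₀) (gS : Z ⟶ Y)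
    (h : Dm ≫ g₀ = gS) (hs : IsSSubtrusive (pullback.snd f gS)) :
    IsSSubtrusive (pullback.snd (pullback.snd f g₀) (pullback.fst (𝟙 Y₀) Dm)) := by
  have c1 : pullback.fst f gS ≫ f = (pullback.snd f gS ≫ Dm) ≫ g₀ := by
    rw [pullback.condition, Category.assoc, h]
  have c2 : (pullback.snd f gS ≫ Dm) ≫ 𝟙 Y₀ = pullback.snd f gS ≫ Dm :=
    Category.comp_id _
  have c3 : pullback.lift (pullback.fst f gS) (pullback.snd f gS ≫ Dm) c1 ≫ pullback.snd f g₀ =
      pullback.lift (pullback.snd f gS ≫ Dm) (pullback.snd f gS) c2 ≫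
        pullback.fst (𝟙 Y₀) Dm := by
    rw [pullback.lift_snd, pullback.lift_fst]
  refine isSSubtrusive_of_iso_target hs (pullback.lift _ _ c3)
    (pullback.snd (pullback.snd f g₀) (pullback.fst (𝟙 Y₀) Dm))
    (pullback.snd (𝟙 Y₀) Dm) ?_
  rw [← Category.assoc, pullback.lift_snd, pullback.lift_snd]

variable {A V : Type u} [CommRing A] [CommRing V] [Algebra A V]

theorem limit_step {X Y : Scheme.{u}} (f : X ⟶ Y) [QuasiCompact f]
    (j : Spec (CommRingCat.of A) ⟶ Y)
    (H : ∀ S : Finset V, IsSSubtrusive (pullback.snd f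
      (Spec.map (CommRingCat.ofHom (algebraMap A (sub A V S))) ≫ j))) :
    IsSSubtrusive (pullback.snd f (Spec.map (CommRingCat.ofHom (algebraMap A V)) ≫ j)) := by
  classical
  haveI : ∀ (i k : (Finset V)ᵒᵖ) (a : i ⟶ k), IsAffineHom ((D A V).map a) := fun i k a => by
    change IsAffineHom (Spec.map _); infer_instance
  have hD : ∀ (i : (Finset V)ᵒᵖ) (a : i ⟶ op ∅), (D A V).map a ≫
      (Spec.map (CommRingCat.ofHom (algebraMap A (sub A V ∅))) ≫ j) =
      Spec.map (CommRingCat.ofHom (algebraMap A (sub A V i.unop))) ≫ j := by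
    intro i a
    rw [← Category.assoc]
    congr 1
    change Spec.map _ ≫ Spec.map _ = Spec.map _
    rw [← Spec.map_comp]
    congr 1
  have hπ : (cone A V).π.app (op ∅) ≫
      (Spec.map (CommRingCat.ofHom (algebraMap A (sub A V ∅))) ≫ j) =
      Spec.map (CommRingCat.ofHom (algebraMap A V)) ≫ j := by
    rw [← Category.assoc]
    congr 1
    change Spec.map _ ≫ Spec.map _ = Spec.map _
    rw [← Spec.map_comp]
    congr 1
  have key := Groth.Agent.S14791.result (D A V) (cone A V) (isLimit A V) (op ∅)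
    (pullback.snd f (Spec.map (CommRingCat.ofHom (algebraMap A (sub A V ∅))) ≫ j)) (𝟙 _)
    ⟨op ∅, 𝟙 _, fun i φ => stage f _ _ _ (hD i (φ ≫ 𝟙 _)) (H i.unop)⟩
  exact conclude f _ _ _ hπ key

end Limit

end Groth.Agent.Helper8.SubtrNoethA
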