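import Mathlib

/-!
# Chains of primes and valuation rings (algebra part for S19530)

* `comap_map_eq_self`: for a ring map `ψ : V → W` from a valuation ring to a local ring, every
  prime `q` with `ker ψ ≤ q ≤ ψ⁻¹(𝔪_W)` satisfies `q^{ec} = q` (hence is a contraction of a prime).
* `step`: composite of a valuation ring with a valuation ring of its residue field.
* `exists_valuationRing_chain`: every finite chain of primes of a ring `A` is the contraction of
  a chain of primes of a valuation ring `V` along some `A → V`.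
-/

universe u

namespace Groth.Agent.Helper8.ValChain

open IsLocalRing

theorem comap_map_eq_self {V W : Type*} [CommRing V] [IsDomain V] [ValuationRing V]
    [CommRing W] [IsLocalRing W] (ψ : V →+* W) (q : Ideal V) [hqp : q.IsPrime]
    (hker : RingHom.ker ψ ≤ q) (hq : q ≤ (maximalIdeal W).comap ψ) :
    (q.map ψ).comap ψ = q := by
  refine le_antisymm ?_ Ideal.le_comap_map
  have key : ∀ x ∈ q.map ψ, ∃ a ∈ q, ∃ w : W, x = ψ a * w := by
    intro x hx
    refine Submodule.span_induction ?_ ?_ ?_ ?_ hx
    · rintro _ ⟨a, ha, rfl⟩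
      exact ⟨a, ha, 1, by simp⟩
    · exact ⟨0, q.zero_mem, 0, by simp⟩
    · rintro x y _ _ ⟨a, ha, w, rfl⟩ ⟨b, hb, w', rfl⟩
      obtain ⟨c, hc | hc⟩ := ValuationRing.cond a b
      · exact ⟨a, ha, w + ψ c * w', by rw [← hc, map_mul]; ring⟩
      · exact ⟨b, hb, ψ c * w + w', by rw [← hc, map_mul]; ring⟩
    · rintro r x _ ⟨a, ha, w, rfl⟩
      exact ⟨a, ha, r * w, by rw [smul_eq_mul]; ring⟩
  intro v hv
  obtain ⟨a, ha, w, hw⟩ := key _ (Ideal.mem_comap.mp hv)
  by_contra hvq
  obtain ⟨c, hc | hc⟩ := ValuationRing.cond v a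
  · have hcq : c ∈ q := (hqp.mem_or_mem (hc ▸ ha : v * c ∈ q)).resolve_left hvq
    have hcm : ψ c ∈ maximalIdeal W := hq hcq
    have hunit : IsUnit (1 - ψ c * w) :=
      IsLocalRing.isUnit_one_sub_self_of_mem_nonunits _ (Ideal.mul_mem_right _ _ hcm)
    have h2 : ψ v = ψ v * ψ c * w := by rw [← map_mul, hc, ← hw]
    have h3 : ψ v * (1 - ψ c * w) = 0 := by linear_combination h2
    have h0 : ψ v = 0 := (hunit.mul_left_eq_zero).mp h3
    exact hvq (hker h0)
  · exact hvq (hc ▸ q.mul_mem_right _ ha)

theorem step {A V : Type u} [CommRing A] [CommRing V] [IsDomain V] [ValuationRing V]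
    (φ : A →+* V) (p' : Ideal A) [p'.IsPrime] (hmax : (maximalIdeal V).comap φ ≤ p') :
    ∃ (V'' : Subring V) (_ : ValuationRing V'') (φ'' : A →+* V''),
      V''.subtype.comp φ'' = φ ∧ (maximalIdeal V'').comap φ'' = p' := by
  classical
  let g : A →+* ResidueField V := (residue V).comp φ
  have hg : ∀ y : p'.primeCompl, IsUnit (g y) := by
    intro y
    rw [isUnit_iff_ne_zero]
    intro h0
    exact y.2 (hmax (Ideal.mem_comap.mpr ((residue_eq_zero_iff _).mp h0)))
  let f : Localization.AtPrime p' →+* ResidueField V := IsLocalization.lift hg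
  have hf : ∀ a, f (algebraMap A _ a) = residue V (φ a) := fun a => IsLocalization.lift_eq hg a
  obtain ⟨V', hV', hloc⟩ := IsLocalRing.exists_factor_valuationRing f
  let f' : Localization.AtPrime p' →+* V' := f.codRestrict V'.toSubring hV'
  let V'' : Subring V := V'.toSubring.comap (residue V)
  have memV'' : ∀ x : V, x ∈ V'' ↔ residue V x ∈ V' := fun x => Iff.rfl
  have inv_mem : ∀ x : V, ∀ e ∈ V', residue V x * e = 1 → ∃ d : V, x * d = 1 ∧ d ∈ V'' := by
    intro x e he hxe
    have hx0 : residue V x ≠ 0 := left_ne_zero_of_mul_eq_one hxe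
    have hu : IsUnit x := by
      by_contra hnu
      exact hx0 ((residue_eq_zero_iff x).mpr ((mem_maximalIdeal x).mpr hnu))
    obtain ⟨u, rfl⟩ := hu
    refine ⟨↑u⁻¹, by simp, ?_⟩
    rw [memV'']
    have h1 : residue V ↑u * residue V ↑u⁻¹ = 1 := by rw [← map_mul]; simp
    have : residue V ↑u⁻¹ = e := by
      calc residue V ↑u⁻¹ = (residue V ↑u * e) * residue V ↑u⁻¹ := by rw [hxe, one_mul]
        _ = e * (residue V ↑u * residue V ↑u⁻¹) := by ring
        _ = e := by rw [h1, mul_one]
    rw [this]; exact he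
  have hval : ValuationRing V'' := by
    have aux : ∀ (a b : V'') (c : V), (a : V) * c = b →
        ∃ c'' : V'', a * c'' = b ∨ b * c'' = a := by
      intro a b c hc
      by_cases hcV : residue V c ∈ V'
      · exact ⟨⟨c, hcV⟩, Or.inl (Subtype.ext hc)⟩
      · have hc0 : residue V c ≠ 0 := fun h => hcV (h ▸ V'.zero_mem)
        obtain ⟨d, hd1, hd2⟩ := inv_mem c _ ((V'.mem_or_inv_mem _).resolve_left hcV)
          (mul_inv_cancel₀ hc0)
        refine ⟨⟨d, hd2⟩, Or.inr (Subtype.ext ?_)⟩
        show (b : V) * d = a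
        rw [← hc, mul_assoc, hd1, mul_one]
    refine @ValuationRing.mk _ _ _ ⟨fun a b => ?_⟩
    obtain ⟨c, hc | hc⟩ := ValuationRing.cond (a : V) (b : V)
    · exact aux a b c hc
    · obtain ⟨c'', h | h⟩ := aux b a c hc
      · exact ⟨c'', Or.inr h⟩
      · exact ⟨c'', Or.inl h⟩
  have hφmem : ∀ a, φ a ∈ V'' := fun a => by rw [memV'', ← hf]; exact hV' _
  let φ'' : A →+* V'' := φ.codRestrict V'' hφmem
  refine ⟨V'', hval, φ'', RingHom.ext fun a => rfl, ?_⟩
  let ρ : V'' →+* V' := ((residue V).comp V''.subtype).codRestrict V'.toSubring (fun x => x.2)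
  have hρ : ∀ a, ρ (φ'' a) = f' (algebraMap A _ a) := fun a => Subtype.ext (hf a).symm
  ext a
  rw [Ideal.mem_comap, mem_maximalIdeal, mem_nonunits_iff]
  constructor
  · intro hnu
    by_contra hap
    apply hnu
    have hua : IsUnit (algebraMap A (Localization.AtPrime p') a) :=
      IsLocalization.map_units _ (⟨a, hap⟩ : p'.primeCompl)
    obtain ⟨e', he'⟩ := (hua.map f').exists_right_inv
    obtain ⟨d, hd1, hd2⟩ := inv_mem (φ a) e'.1 e'.2 (by rw [← hf]; exact congrArg Subtype.val he')
    exact IsUnit.of_mul_eq_one (⟨d, hd2⟩ : V'') (Subtype.ext hd1)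
  · intro hap hu
    have h1 : IsUnit (f' (algebraMap A _ a)) := hρ a ▸ hu.map ρ
    have h2 : IsUnit (algebraMap A (Localization.AtPrime p') a) := hloc.map_nonunit _ h1
    exact (IsLocalization.AtPrime.isUnit_to_map_iff _ p' a).mp h2 hap

theorem exists_valuationRing_chain (n : ℕ) : ∀ (A : Type u) [CommRing A]
    (p : Fin (n + 1) → PrimeSpectrum A) (_ : Monotone p),
    ∃ (V : Type u) (_ : CommRing V) (_ : IsDomain V) (_ : ValuationRing V) (φ : A →+* V)
      (q : Fin (n + 1) → PrimeSpectrum V), Monotone q ∧ (∀ i, (q i).comap φ = p i) ∧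
        (q (Fin.last n)).asIdeal = maximalIdeal V := by
  induction n with
  | zero =>
    intro A _ p hp
    refine ⟨(p 0).asIdeal.ResidueField, inferInstance, inferInstance, inferInstance,
      algebraMap A _, fun _ => ⊥, fun _ _ _ => le_rfl, ?_, ?_⟩
    · intro i
      have : i = 0 := Fin.fin_one_eq_zero i
      subst this
      apply PrimeSpectrum.ext
      rw [PrimeSpectrum.comap_asIdeal, PrimeSpectrum.asIdeal_bot, ← RingHom.ker_eq_comap_bot,
        Ideal.ker_algebraMap_residueField]
    · rw [PrimeSpectrum.asIdeal_bot, IsLocalRing.maximalIdeal_eq_bot]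
  | succ n ih =>
    intro A _ p hp
    obtain ⟨V, iV1, iV2, iV3, φ, q, hqm, hqc, hql⟩ := ih A (fun i => p i.castSucc)
      (fun i j h => hp (Fin.castSucc_le_castSucc_iff.mpr h))
    have hmax : (maximalIdeal V).comap φ ≤ (p (Fin.last (n + 1))).asIdeal := by
      rw [← hql, ← PrimeSpectrum.comap_asIdeal, hqc (Fin.last n)]
      exact hp (Fin.le_last _)
    obtain ⟨V'', hval, φ'', hφ, hm⟩ := step φ (p (Fin.last (n + 1))).asIdeal hmax
    refine ⟨V'', inferInstance, inferInstance, hval, φ'',
      Fin.lastCases (closedPoint V'') (fun i => (q i).comap V''.subtype), ?_, ?_, ?_⟩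
    · intro i j hij
      induction j using Fin.lastCases with
      | last =>
        dsimp only
        rw [Fin.lastCases_last]
        exact IsLocalRing.le_maximalIdeal (PrimeSpectrum.isPrime _).ne_top
      | cast j =>
        induction i using Fin.lastCases with
        | last => exact absurd hij (not_le.mpr (Fin.castSucc_lt_last j))
        | cast i =>
          dsimp only
          rw [Fin.lastCases_castSucc, Fin.lastCases_castSucc]
          exact Ideal.comap_mono (hqm (Fin.castSucc_le_castSucc_iff.mp hij))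
    · intro i
      induction i using Fin.lastCases with
      | last =>
        dsimp only
        rw [Fin.lastCases_last]; exact PrimeSpectrum.ext hm
      | cast i =>
        dsimp only
        rw [Fin.lastCases_castSucc]
        have := hqc i
        rw [← hφ] at this
        exact this
    · dsimp only
      rw [Fin.lastCases_last]; rfl

end Groth.Agent.Helper8.ValChain
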