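import Mathlib
import Groth.Prelude.Def_W4c2submetdescSubtr
import Groth.Agent.Helper8.ValChainA

/-!
# Lifting finite chains along universally S-subtrusive morphisms (S19530)
-/

universe u

namespace Groth.Agent.Helper8.ValChain

open IsLocalRing AlgebraicGeometry CategoryTheory Limits

/-- A specialization `z' ⤳ z` in a scheme is the image of (generic point, closed point) under a
morphism from the spectrum of a valuation ring. -/
theorem exists_valuation_hom {Z : Scheme.{u}} {z z' : Z} (hz : z' ⤳ z) :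
    ∃ (W : Type u) (_ : CommRing W) (_ : IsDomain W) (_ : ValuationRing W)
      (h : Spec (.of W) ⟶ Z), h (closedPoint W) = z ∧ h (⊥ : PrimeSpectrum W) = z' := by
  let s : Z.presheaf.stalk z ⟶ Z.residueField z' :=
    Z.presheaf.stalkSpecializes hz ≫ Z.residue z'
  obtain ⟨W, hW, hloc⟩ := IsLocalRing.exists_factor_valuationRing s.hom
  let t : Z.presheaf.stalk z ⟶ .of W := CommRingCat.ofHom (s.hom.codRestrict _ hW)
  refine ⟨W, inferInstance, inferInstance, inferInstance, Spec.map t ≫ Z.fromSpecStalk z, ?_, ?_⟩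
  · rw [Scheme.Hom.comp_apply]
    have : Spec.map t (closedPoint W) = closedPoint (Z.presheaf.stalk z) :=
      comap_closedPoint (S := W) (s.hom.codRestrict W.toSubring hW)
    rw [this, Z.fromSpecStalk_closedPoint]
  · have w : Spec.map (CommRingCat.ofHom (algebraMap W (Z.residueField z'))) ≫
        Spec.map t ≫ Z.fromSpecStalk z = Z.fromSpecResidueField z' := by
      rw [Scheme.fromSpecResidueField, ← Scheme.SpecMap_stalkSpecializes_fromSpecStalk hz,
        ← Spec.map_comp_assoc, ← Spec.map_comp_assoc]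
      rfl
    have hpt : Spec.map (CommRingCat.ofHom (algebraMap W (Z.residueField z')))
        (closedPoint (Z.residueField z')) = (⊥ : PrimeSpectrum W) := by
      apply PrimeSpectrum.ext
      show Ideal.comap (algebraMap W (Z.residueField z')) (maximalIdeal (Z.residueField z')) = ⊥
      rw [IsLocalRing.maximalIdeal_eq_bot, ← RingHom.ker_eq_comap_bot]
      exact (RingHom.injective_iff_ker_eq_bot _).mp Subtype.val_injective
    rw [← hpt, ← Scheme.Hom.comp_apply, w, Scheme.fromSpecResidueField_apply]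

theorem main {X Y : Scheme.{u}} (f : X ⟶ Y)
    (hf : Subtr.UnivSSubtrusive f) (n : ℕ) (y : Fin (n + 1) → Y)
    (hy : ∀ i j : Fin (n + 1), i ≤ j → y i ⤳ y j) :
    ∃ x : Fin (n + 1) → X, (∀ i j : Fin (n + 1), i ≤ j → x i ⤳ x j) ∧ ∀ i, f (x i) = y i := by
  classical
  obtain ⟨U, hU, hyU⟩ : ∃ U : Y.Opens, IsAffineOpen U ∧ y (Fin.last n) ∈ U := by
    obtain ⟨_, ⟨U, hU, rfl⟩, hxU, -⟩ := Y.isBasis_affineOpens.exists_subset_of_mem_open
      (Set.mem_univ (y (Fin.last n))) isOpen_univ
    exact ⟨U, hU, hxU⟩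
  have hmem : ∀ i, y i ∈ U := fun i => (hy i (Fin.last n) (Fin.le_last i)).mem_open U.2 hyU
  have hrange : ∀ i, ∃ p : PrimeSpectrum Γ(Y, U), hU.fromSpec p = y i := by
    intro i
    have : y i ∈ Set.range hU.fromSpec := by rw [hU.range_fromSpec]; exact hmem i
    exact this
  choose p hp using hrange
  have hpm : Monotone p := by
    intro i j hij
    rw [PrimeSpectrum.le_iff_specializes]
    have := hy i j hij
    rw [← hp i, ← hp j] at this
    exact hU.fromSpec.isOpenEmbedding.isInducing.specializes_iff.mp this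
  obtain ⟨V, _, _, _, φ, q, hqm, hqc, hql⟩ := exists_valuationRing_chain n Γ(Y, U) p hpm
  let g : Spec (.of V) ⟶ Y := Spec.map (CommRingCat.ofHom φ) ≫ hU.fromSpec
  have hg : ∀ i, g (q i) = y i := by
    intro i
    rw [Scheme.Hom.comp_apply, ← hp i]
    congr 1
    exact hqc i
  have hsub : Subtr.IsSSubtrusive (pullback.snd f g) :=
    hf _ _ _ (IsPullback.of_hasPullback f g).flip
  have hspec : (q 0 : Spec (.of V)) ⤳ q (Fin.last n) :=
    (PrimeSpectrum.le_iff_specializes _ _).mp (hqm (Fin.zero_le _))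
  obtain ⟨z, z', hzz, hz, hz'⟩ := hsub hspec
  obtain ⟨W, _, _, _, h, hc, hb⟩ := exists_valuation_hom hzz
  let ψc : CommRingCat.of V ⟶ CommRingCat.of W := Spec.preimage (h ≫ pullback.snd f g)
  have hψ : Spec.map ψc = h ≫ pullback.snd f g := Spec.map_preimage _
  let ψ : V →+* W := ψc.hom
  have hpts : ∀ Q : PrimeSpectrum W, (h ≫ pullback.snd f g) Q = PrimeSpectrum.comap ψ Q := by
    intro Q; rw [← hψ]; rfl
  have hker : RingHom.ker ψ = (q 0).asIdeal := by
    have := hpts ⊥
    rw [Scheme.Hom.comp_apply, hb, hz'] at this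
    rw [this, PrimeSpectrum.comap_asIdeal, PrimeSpectrum.asIdeal_bot, RingHom.ker_eq_comap_bot]
  have hmaxW : (maximalIdeal W).comap ψ = (q (Fin.last n)).asIdeal := by
    have := hpts (closedPoint W)
    rw [Scheme.Hom.comp_apply, hc, hz] at this
    rw [this]; rfl
  have hex : ∀ i, ∃ Q : PrimeSpectrum W, PrimeSpectrum.comap ψ Q = q i := by
    intro i
    have := comap_map_eq_self ψ (q i).asIdeal (hker ▸ (hqm (Fin.zero_le i)))
      (hmaxW ▸ (hqm (Fin.le_last i)))
    obtain ⟨Q, hQ, hQc⟩ := (Ideal.comap_map_eq_self_iff_of_isPrime _).mp this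
    exact ⟨⟨Q, hQ⟩, PrimeSpectrum.ext hQc⟩
  let Qf : PrimeSpectrum V → PrimeSpectrum W := fun r =>
    if hr : ∃ Q : PrimeSpectrum W, PrimeSpectrum.comap ψ Q = r then hr.choose else ⊥
  have hQf : ∀ i, PrimeSpectrum.comap ψ (Qf (q i)) = q i := by
    intro i; simp only [Qf, dif_pos (hex i)]; exact (hex i).choose_spec
  have hQm : ∀ i j, i ≤ j → Qf (q i) ≤ Qf (q j) := by
    intro i j hij
    rcases Std.Total.total (r := (· ≤ ·)) (Qf (q i)).asIdeal (Qf (q j)).asIdeal with h1 | h1
    · exact h1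
    · have h2 : q j ≤ q i := by
        rw [← hQf i, ← hQf j]; exact Ideal.comap_mono h1
      have : q i = q j := le_antisymm (hqm hij) h2
      rw [this]
  refine ⟨fun i => (h ≫ pullback.fst f g) (Qf (q i)), ?_, ?_⟩
  · intro i j hij
    exact ((PrimeSpectrum.le_iff_specializes _ _).mp (hQm i j hij)).map
      (h ≫ pullback.fst f g).continuous
  · intro i
    show f ((h ≫ pullback.fst f g) (Qf (q i))) = y i
    rw [← Scheme.Hom.comp_apply, Category.assoc, pullback.condition, ← Category.assoc,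
      Scheme.Hom.comp_apply, hpts, hQf, hg]

end Groth.Agent.Helper8.ValChain
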