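import Mathlib
import Groth.Prelude.Def_SGA1
import Groth.Prelude.Def_W4c2submetdescSubtr
import Groth.Agent.Helper8.ValChainB

/-!
# Universally submersive morphisms are tested on valuation rings (S14767)
-/

universe u

namespace Groth.Agent.Helper8.UnivSubm

open AlgebraicGeometry CategoryTheory Limits IsLocalRing

/-- The image of a closed set under a quasi-compact morphism is closed as soon as it is stable
under specialization. -/
theorem isClosed_image_of_stable {X Y : Scheme.{u}} (f : X ⟶ Y) [QuasiCompact f] (Z : Set X)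
    (hZ : IsClosed Z) (hs : StableUnderSpecialization (f '' Z)) : IsClosed (f '' Z) := by
  rw [← isOpen_compl_iff, isOpen_iff_forall_mem_open]
  intro y hy
  obtain ⟨_, ⟨U, hU, rfl⟩, hyU, -⟩ := Y.isBasis_affineOpens.exists_subset_of_mem_open
      (Set.mem_univ y) isOpen_univ
  have hc : IsCompact ((f ⁻¹ᵁ U : X.Opens) : Set X) := f.isCompact_preimage hU.isCompact
  obtain ⟨R, g, hg⟩ := isCompact_iff_exists.mp hc
  have hgmem : ∀ r, f (g r) ∈ U := by
    intro r
    have : g r ∈ ((f ⁻¹ᵁ U : X.Opens) : Set X) := by rw [← hg]; exact Set.mem_range_self r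
    exact this
  have hrange : Set.range (g ≫ f) ⊆ Set.range hU.fromSpec := by
    rw [hU.range_fromSpec]
    rintro _ ⟨r, rfl⟩
    rw [Scheme.Hom.comp_apply]
    exact hgmem r
  let h : Spec R ⟶ Spec Γ(Y, U) := IsOpenImmersion.lift hU.fromSpec (g ≫ f) hrange
  have hh : h ≫ hU.fromSpec = g ≫ f := IsOpenImmersion.lift_fac _ _ _
  have hh' : ∀ r, hU.fromSpec (h r) = f (g r) := by
    intro r
    rw [← Scheme.Hom.comp_apply, hh, Scheme.Hom.comp_apply]
  have hinj : Function.Injective hU.fromSpec := hU.fromSpec.isOpenEmbedding.injective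
  have hT : hU.fromSpec ⁻¹' (f '' Z) = h '' (g ⁻¹' Z) := by
    ext p
    constructor
    · rintro ⟨z, hz, hzp⟩
      have hzU : z ∈ ((f ⁻¹ᵁ U : X.Opens) : Set X) := by
        show f z ∈ (U : Set Y)
        rw [hzp, ← hU.range_fromSpec]
        exact Set.mem_range_self p
      rw [← hg] at hzU
      obtain ⟨r, rfl⟩ := hzU
      refine ⟨r, hz, hinj ?_⟩
      rw [hh', hzp]
    · rintro ⟨r, hr, rfl⟩
      exact ⟨g r, hr, (hh' r).symm⟩
  have hTc : IsClosed (hU.fromSpec ⁻¹' (f '' Z)) := by
    have hst : StableUnderSpecialization (hU.fromSpec ⁻¹' (f '' Z)) := by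
      intro a b hab ha
      exact hs (hab.map hU.fromSpec.continuous) ha
    rw [hT] at hst ⊢
    obtain ⟨φ, hφ⟩ : ∃ φ, Spec.map φ = h := ⟨Spec.preimage h, Spec.map_preimage h⟩
    rw [← hφ] at hst ⊢
    exact PrimeSpectrum.isClosed_image_of_stableUnderSpecialization φ.hom (g ⁻¹' Z)
      (hZ.preimage g.continuous) hst
  refine ⟨hU.fromSpec '' (hU.fromSpec ⁻¹' (f '' Z))ᶜ, ?_, ?_, ?_⟩
  · rintro _ ⟨p, hp, rfl⟩
    exact hp
  · exact hU.fromSpec.isOpenEmbedding.isOpenMap _ hTc.isOpen_compl
  · obtain ⟨p, rfl⟩ : y ∈ Set.range hU.fromSpec := by rw [hU.range_fromSpec]; exact hyU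
    exact ⟨p, hy, rfl⟩

/-- Base change of a base change along a valuation ring point. -/
theorem isQuotientMap_snd_of_isPullback {X Y X' Y' : Scheme.{u}} {f : X ⟶ Y} {f' : X' ⟶ Y'}
    {i₁ : X' ⟶ X} {i₂ : Y' ⟶ Y} (hpb : IsPullback f' i₁ i₂ f)
    (H : ∀ (V : Type u) [CommRing V] [IsDomain V] [ValuationRing V]
      (g : Spec (CommRingCat.of V) ⟶ Y), Topology.IsQuotientMap (pullback.snd f g))
    (V : Type u) [CommRing V] [IsDomain V] [ValuationRing V]
    (g : Spec (CommRingCat.of V) ⟶ Y') : Topology.IsQuotientMap (pullback.snd f' g) := by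
  have s : IsPullback (pullback.snd f' g) (pullback.fst f' g) g f' :=
    (IsPullback.of_hasPullback f' g).flip
  have t : IsPullback (pullback.snd f' g) (pullback.fst f' g ≫ i₁) (g ≫ i₂) f :=
    s.paste_vert hpb
  let e := t.flip.isoPullback
  have he : e.hom ≫ pullback.snd f (g ≫ i₂) = pullback.snd f' g := t.flip.isoPullback_hom_snd
  have hq := H V (g ≫ i₂)
  have : (pullback.snd f' g : _ → _) = (pullback.snd f (g ≫ i₂)) ∘ (Scheme.homeoOfIso e) := by
    funext w
    rw [← he, Scheme.Hom.comp_apply]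
    rfl
  rw [this]
  exact hq.comp (Scheme.homeoOfIso e).isQuotientMap

theorem main {X Y : Scheme.{u}} (f : X ⟶ Y) [QuasiCompact f] :
    SGA1.UnivSubmersive f ↔
      ∀ (V : Type u) [CommRing V] [IsDomain V] [ValuationRing V]
        (g : Spec (CommRingCat.of V) ⟶ Y), Topology.IsQuotientMap (pullback.snd f g) := by
  constructor
  · intro H V _ _ _ g
    exact H _ _ _ (IsPullback.of_hasPullback f g).flip
  · intro H X' Y' i₁ i₂ f' hpb
    have hqc : QuasiCompact f' := MorphismProperty.of_isPullback (P := @QuasiCompact) hpb.flip ‹_›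
    have H' := isQuotientMap_snd_of_isPullback hpb H
    show Topology.IsQuotientMap f'
    have hsurj : Function.Surjective f' := by
      intro y'
      obtain ⟨W, _, _, _, h, hc, -⟩ := ValChain.exists_valuation_hom (specializes_refl y')
      obtain ⟨w, hw⟩ := (H' W h).surjective (closedPoint W)
      refine ⟨pullback.fst f' h w, ?_⟩
      rw [← Scheme.Hom.comp_apply, pullback.condition, Scheme.Hom.comp_apply, hw, hc]
    rw [Topology.isQuotientMap_iff_isClosed]
    refine ⟨hsurj, fun s => ⟨fun hs => hs.preimage f'.continuous, fun hs => ?_⟩⟩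
    have hst : StableUnderSpecialization s := by
      intro a b hab ha
      obtain ⟨W, _, _, _, h, hc, hb⟩ := ValChain.exists_valuation_hom hab
      have hq := H' W h
      have hcl : IsClosed (h ⁻¹' s) := by
        rw [← hq.isClosed_preimage]
        have : pullback.snd f' h ⁻¹' (h ⁻¹' s) = pullback.fst f' h ⁻¹' (f' ⁻¹' s) := by
          ext w
          simp only [Set.mem_preimage]
          rw [← Scheme.Hom.comp_apply, ← Scheme.Hom.comp_apply, pullback.condition]
        rw [this]
        exact hs.preimage (pullback.fst f' h).continuous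
      have hbot : (⊥ : PrimeSpectrum W) ∈ h ⁻¹' s := by
        show h (⊥ : PrimeSpectrum W) ∈ s
        rw [hb]; exact ha
      have hsp : (⊥ : PrimeSpectrum W) ⤳ closedPoint W :=
        (PrimeSpectrum.le_iff_specializes _ _).mp bot_le
      have := hsp.mem_closed hcl hbot
      rw [← hc]
      exact this
    have himg : f' '' (f' ⁻¹' s) = s := Set.image_preimage_eq s hsurj
    rw [← himg]
    apply isClosed_image_of_stable f' _ hs
    rw [himg]
    exact hst

end Groth.Agent.Helper8.UnivSubm
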