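import Mathlib
import Groth.Prelude.Def_W4c2submetdescSubtr
import Groth.Agent.Helper8.ValChainB

/-!
# S-subtrusive morphisms over a valuation ring (S14765)
-/

universe u

namespace Groth.Agent.Helper8.ValChain

open IsLocalRing AlgebraicGeometry CategoryTheory Limits

/-- flat + surjective ⇒ universally S-subtrusive -/
theorem univSSubtrusive_of_flat_surjective {X Y : Scheme.{u}} (f : X ⟶ Y) [Flat f]
    [Surjective f] : Subtr.UnivSSubtrusive f := by
  intro X' Y' i₁ i₂ f' hpb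
  have hflat : Flat f' := MorphismProperty.of_isPullback (P := @Flat) hpb.flip inferInstance
  have hsurj : Surjective f' :=
    MorphismProperty.of_isPullback (P := @Surjective) hpb.flip inferInstance
  intro y y' hyy
  obtain ⟨x, rfl⟩ := f'.surjective y
  obtain ⟨x', hx', rfl⟩ := (Flat.generalizingMap f') hyy
  exact ⟨x, x', hx', rfl, rfl⟩

/-- if `g ≫ f` is universally S-subtrusive then so is `f` -/
theorem univSSubtrusive_of_comp {X' X Y : Scheme.{u}} (g : X' ⟶ X) (f : X ⟶ Y)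
    (h : Subtr.UnivSSubtrusive (g ≫ f)) : Subtr.UnivSSubtrusive f := by
  intro P Y' i₁ i₂ f' hpb
  have h1 : IsPullback (pullback.snd g i₁) (pullback.fst g i₁) i₁ g :=
    (IsPullback.of_hasPullback g i₁).flip
  have h2 := h1.paste_horiz hpb
  have h3 : Subtr.IsSSubtrusive (pullback.snd g i₁ ≫ f') := h _ _ _ h2
  intro y y' hyy
  obtain ⟨x, x', hxx, hx, hx'⟩ := h3 hyy
  exact ⟨pullback.snd g i₁ x, pullback.snd g i₁ x', hxx.map (pullback.snd g i₁).continuous,
    by rw [← Scheme.Hom.comp_apply]; exact hx, by rw [← Scheme.Hom.comp_apply]; exact hx'⟩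

theorem ringHom_flat_of_torsionFree {V C : Type*} [CommRing V] [IsDomain V] [ValuationRing V]
    [CommRing C] (ψ : V →+* C) (h : ∀ v : V, v ≠ 0 → ∀ c : C, ψ v * c = 0 → c = 0) :
    ψ.Flat := by
  letI := ψ.toAlgebra
  show Module.Flat V C
  rw [Module.Flat.flat_iff_torsion_eq_bot_of_isBezout, eq_bot_iff]
  rintro c ⟨⟨a, ha⟩, hac⟩
  refine (Submodule.mem_bot _).mpr (h a (nonZeroDivisors.ne_zero ha) c ?_)
  simpa [Algebra.smul_def, RingHom.algebraMap_toAlgebra] using hac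

theorem exists_valuation_hom_surjective {V : Type u} [CommRing V] [IsDomain V] [ValuationRing V]
    {X : Scheme.{u}} (f : X ⟶ Spec (CommRingCat.of V)) {x x' : X} (hxx : x' ⤳ x)
    (hx : f x = closedPoint V) (hx' : f x' = (⟨⊥, Ideal.isPrime_bot⟩ : PrimeSpectrum V)) :
    ∃ (W : Type u) (_ : CommRing W) (_ : IsDomain W) (_ : ValuationRing W)
      (g : Spec (CommRingCat.of W) ⟶ X), g (⊥ : PrimeSpectrum W) = x' ∧ Surjective (g ≫ f) := by
  obtain ⟨W, _, _, _, h, hc, hb⟩ := exists_valuation_hom hxx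
  refine ⟨W, inferInstance, inferInstance, inferInstance, h, hb, ⟨fun y => ?_⟩⟩
  let ψc : CommRingCat.of V ⟶ CommRingCat.of W := Spec.preimage (h ≫ f)
  have hψ : Spec.map ψc = h ≫ f := Spec.map_preimage _
  let ψ : V →+* W := ψc.hom
  have hpts : ∀ Q : PrimeSpectrum W, (h ≫ f) Q = PrimeSpectrum.comap ψ Q := by
    intro Q; rw [← hψ]; rfl
  have hker : RingHom.ker ψ = ⊥ := by
    have := hpts ⊥
    rw [Scheme.Hom.comp_apply, hb, hx'] at this
    have h2 := congrArg PrimeSpectrum.asIdeal this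
    rw [PrimeSpectrum.comap_asIdeal, PrimeSpectrum.asIdeal_bot, ← RingHom.ker_eq_comap_bot] at h2
    exact h2.symm
  have hmaxW : (maximalIdeal W).comap ψ = maximalIdeal V := by
    have := hpts (closedPoint W)
    rw [Scheme.Hom.comp_apply, hc, hx] at this
    exact (congrArg PrimeSpectrum.asIdeal this).symm
  have := comap_map_eq_self ψ (y : PrimeSpectrum V).asIdeal (hker ▸ bot_le)
    (hmaxW ▸ IsLocalRing.le_maximalIdeal (PrimeSpectrum.isPrime _).ne_top)
  obtain ⟨Q, hQ, hQc⟩ := (Ideal.comap_map_eq_self_iff_of_isPrime _).mp this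
  exact ⟨(⟨Q, hQ⟩ : PrimeSpectrum W), (hpts _).trans (PrimeSpectrum.ext hQc)⟩

theorem flat_of_surjective_valuationRing {V W : Type u} [CommRing V] [IsDomain V]
    [ValuationRing V] [CommRing W] [IsDomain W]
    (k : Spec (CommRingCat.of W) ⟶ Spec (CommRingCat.of V)) [Surjective k] : Flat k := by
  let ψc := Spec.preimage k
  have hψ : Spec.map ψc = k := Spec.map_preimage _
  obtain ⟨Q, hQ⟩ := k.surjective (⊥ : PrimeSpectrum V)
  rw [← hψ, HasRingHomProperty.Spec_iff (P := @Flat)]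
  apply ringHom_flat_of_torsionFree
  intro v hv c hc
  have : ψc.hom v ≠ 0 := by
    intro h0
    apply hv
    have h1 : v ∈ ((⊥ : PrimeSpectrum V)).asIdeal := by
      rw [← hQ, ← hψ]
      show v ∈ Ideal.comap ψc.hom _
      rw [Ideal.mem_comap, h0]; exact zero_mem _
    simpa using h1
  exact (mul_eq_zero.mp hc).resolve_left this

theorem closure_of_surjective {V W : Type u} [CommRing V] [IsDomain V]
    [CommRing W] [IsDomain W]
    {X : Scheme.{u}} (f : X ⟶ Spec (CommRingCat.of V)) (g : Spec (CommRingCat.of W) ⟶ X)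
    [Surjective (g ≫ f)] :
    f (g (⊥ : PrimeSpectrum W)) = (⟨⊥, Ideal.isPrime_bot⟩ : PrimeSpectrum V) ∧
      ∀ y : Spec (CommRingCat.of V), ∃ Q : PrimeSpectrum W,
        g Q ∈ closure {g (⊥ : PrimeSpectrum W)} ∧ f (g Q) = y := by
  constructor
  · obtain ⟨Q0, hQ0⟩ := (g ≫ f).surjective (⟨⊥, Ideal.isPrime_bot⟩ : PrimeSpectrum V)
    have h1 : (⊥ : PrimeSpectrum W) ⤳ Q0 := (PrimeSpectrum.le_iff_specializes _ _).mp bot_le
    have h2 := h1.map (g ≫ f).continuous
    rw [hQ0] at h2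
    have h3 := (PrimeSpectrum.le_iff_specializes
      ((g ≫ f) (⊥ : PrimeSpectrum W) : PrimeSpectrum V) ⟨⊥, Ideal.isPrime_bot⟩).mpr h2
    rw [← Scheme.Hom.comp_apply]
    exact PrimeSpectrum.ext (le_bot_iff.mp ((PrimeSpectrum.asIdeal_le_asIdeal _ _).mpr h3))
  · intro y
    obtain ⟨Q, hQ⟩ := (g ≫ f).surjective y
    refine ⟨Q, ?_, by rw [← Scheme.Hom.comp_apply]; exact hQ⟩
    have h1 : (⊥ : PrimeSpectrum W) ⤳ Q := (PrimeSpectrum.le_iff_specializes _ _).mp bot_le
    exact specializes_iff_mem_closure.mp (h1.map g.continuous)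

theorem exists_le_of_mem_closure {V B : Type*} [CommRing V] [IsDomain V] [CommRing B]
    (φ : V →+* B) (P : PrimeSpectrum B)
    (hP : P ∈ closure {P' : PrimeSpectrum B | Ideal.comap φ P'.asIdeal = ⊥}) :
    ∃ P' : PrimeSpectrum B, P' ≤ P ∧ Ideal.comap φ P'.asIdeal = ⊥ := by
  let M : Submonoid B := (nonZeroDivisors V).map φ
  have hT : {P' : PrimeSpectrum B | Ideal.comap φ P'.asIdeal = ⊥} =
      Set.range (PrimeSpectrum.comap (algebraMap B (Localization M))) := by
    rw [PrimeSpectrum.localization_comap_range (Localization M) M]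
    ext P'
    simp only [Set.mem_ofPred_eq]
    constructor
    · intro h
      rw [Set.disjoint_left]
      rintro _ ⟨v, hv, rfl⟩ hmem
      have : v ∈ Ideal.comap φ P'.asIdeal := hmem
      rw [h] at this
      exact nonZeroDivisors.ne_zero hv ((Ideal.mem_bot).mp this)
    · intro h
      rw [eq_bot_iff]
      intro v hv
      by_contra hv0
      exact Set.disjoint_left.mp h ⟨v, mem_nonZeroDivisors_of_ne_zero hv0, rfl⟩ hv
  rw [hT, PrimeSpectrum.closure_range_comap] at hP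
  have hle : RingHom.ker (algebraMap B (Localization M)) ≤ P.asIdeal := by
    simpa [PrimeSpectrum.mem_zeroLocus] using hP
  rw [RingHom.ker_eq_comap_bot] at hle
  obtain ⟨p, hp, hpP⟩ := Ideal.exists_minimalPrimes_le hle
  obtain ⟨p', hp', -, hpc⟩ :=
    Ideal.exists_comap_eq_of_mem_minimalPrimes (algebraMap B (Localization M)) p hp
  have hmem : (⟨p, hp.1.1⟩ : PrimeSpectrum B) ∈
      Set.range (PrimeSpectrum.comap (algebraMap B (Localization M))) :=
    ⟨⟨p', hp'⟩, PrimeSpectrum.ext hpc⟩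
  rw [← hT] at hmem
  exact ⟨⟨p, hp.1.1⟩, hpP, hmem⟩

theorem exists_specializes_of_mem_closure {V : Type u} [CommRing V] [IsDomain V]
    {X : Scheme.{u}} (f : X ⟶ Spec (CommRingCat.of V)) (x : X)
    (hx : x ∈ closure (f ⁻¹' {(⟨⊥, Ideal.isPrime_bot⟩ : PrimeSpectrum V)})) :
    ∃ x' : X, x' ⤳ x ∧ f x' = (⟨⊥, Ideal.isPrime_bot⟩ : PrimeSpectrum V) := by
  obtain ⟨_, ⟨U, hU, rfl⟩, hxU, -⟩ := X.isBasis_affineOpens.exists_subset_of_mem_open
    (Set.mem_univ x) isOpen_univ
  have h1 : x ∈ closure ((U : Set X) ∩ f ⁻¹' {(⟨⊥, Ideal.isPrime_bot⟩ : PrimeSpectrum V)}) :=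
    U.2.inter_closure ⟨hxU, hx⟩
  let j := hU.fromSpec
  have hrange : Set.range j = U := hU.range_fromSpec
  obtain ⟨P, rfl⟩ : x ∈ Set.range j := by rw [hrange]; exact hxU
  have h2 : (U : Set X) ∩ f ⁻¹' {(⟨⊥, Ideal.isPrime_bot⟩ : PrimeSpectrum V)} =
      j '' (j ⁻¹' (f ⁻¹' {(⟨⊥, Ideal.isPrime_bot⟩ : PrimeSpectrum V)})) := by
    rw [Set.image_preimage_eq_inter_range, hrange, Set.inter_comm]
  rw [h2] at h1
  have h3 : P ∈ closure (j ⁻¹' (f ⁻¹' {(⟨⊥, Ideal.isPrime_bot⟩ : PrimeSpectrum V)})) := by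
    rw [j.isOpenEmbedding.isInducing.closure_eq_preimage_closure_image]; exact h1
  let φc : CommRingCat.of V ⟶ Γ(X, U) := Spec.preimage (j ≫ f)
  have hφ : Spec.map φc = j ≫ f := Spec.map_preimage _
  have hpts : ∀ Q : PrimeSpectrum Γ(X, U), f (j Q) = PrimeSpectrum.comap φc.hom Q := by
    intro Q; rw [← Scheme.Hom.comp_apply, ← hφ]; rfl
  have hset : j ⁻¹' (f ⁻¹' {(⟨⊥, Ideal.isPrime_bot⟩ : PrimeSpectrum V)}) =
      {P' : PrimeSpectrum Γ(X, U) | Ideal.comap φc.hom P'.asIdeal = ⊥} := by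
    ext Q
    simp only [Set.mem_preimage, Set.mem_singleton_iff, Set.mem_ofPred_eq]
    rw [hpts]
    constructor
    · intro h; exact congrArg PrimeSpectrum.asIdeal h
    · intro h; exact PrimeSpectrum.ext h
  rw [hset] at h3
  obtain ⟨P', hle, hP'⟩ := exists_le_of_mem_closure φc.hom P h3
  refine ⟨j P', ((PrimeSpectrum.le_iff_specializes _ _).mp hle).map j.continuous, ?_⟩
  rw [hpts]; exact PrimeSpectrum.ext hP'

theorem flat_closure {V : Type u} [CommRing V] [IsDomain V] [ValuationRing V]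
    {X : Scheme.{u}} (f : X ⟶ Spec (CommRingCat.of V)) (x' : X)
    (hx' : f x' = (⟨⊥, Ideal.isPrime_bot⟩ : PrimeSpectrum V)) :
    Flat ((Scheme.IdealSheafData.vanishingIdeal
      (⟨closure {x'}, isClosed_closure⟩ : TopologicalSpace.Closeds X)).subschemeι ≫ f) := by
  set I := Scheme.IdealSheafData.vanishingIdeal
    (⟨closure {x'}, isClosed_closure⟩ : TopologicalSpace.Closeds X) with hI
  rw [IsZariskiLocalAtSource.iff_of_openCover (P := @Flat) I.subschemeCover.openCover]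
  intro (U : X.affineOpens)
  let j := U.2.fromSpec
  let φc : CommRingCat.of V ⟶ Γ(X, U) := Spec.preimage (j ≫ f)
  have hφ : Spec.map φc = j ≫ f := Spec.map_preimage _
  have hpts : ∀ Q : PrimeSpectrum Γ(X, U), f (j Q) = PrimeSpectrum.comap φc.hom Q := by
    intro Q; rw [← Scheme.Hom.comp_apply, ← hφ]; rfl
  have e : I.subschemeCover.openCover.f U ≫ I.subschemeι ≫ f =
      Spec.map (φc ≫ CommRingCat.ofHom (Ideal.Quotient.mk (I.ideal U))) := by
    calc _ = (I.subschemeCover.f U ≫ I.subschemeι) ≫ f := (Category.assoc _ _ _).symm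
      _ = (Spec.map (CommRingCat.ofHom (Ideal.Quotient.mk (I.ideal U))) ≫ j) ≫ f := by
        rw [I.subschemeCover_map_subschemeι U, I.glueDataObjι_ι U]; rfl
      _ = _ := by rw [Category.assoc, ← hφ, ← Spec.map_comp]
  rw [e]
  refine (HasRingHomProperty.Spec_iff (P := @Flat)
    (φ := φc ≫ CommRingCat.ofHom (Ideal.Quotient.mk (I.ideal U)))).mpr ?_
  apply ringHom_flat_of_torsionFree
  intro v hv c hc
  obtain ⟨b, rfl⟩ := Ideal.Quotient.mk_surjective c
  have hc' : φc.hom v * b ∈ I.ideal U := by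
    rw [← Ideal.Quotient.eq_zero_iff_mem, map_mul]; exact hc
  rw [Ideal.Quotient.eq_zero_iff_mem]
  rw [hI, Scheme.IdealSheafData.vanishingIdeal_ideal] at hc' ⊢
  rw [PrimeSpectrum.mem_vanishingIdeal] at hc' ⊢
  intro P hP
  have hsp : x' ⤳ j P := specializes_iff_mem_closure.mpr hP
  have hxU : x' ∈ (U : Set X) :=
    hsp.mem_open U.1.2 (by rw [← U.2.range_fromSpec]; exact ⟨P, rfl⟩)
  obtain ⟨P', rfl⟩ : x' ∈ Set.range j := by rw [U.2.range_fromSpec]; exact hxU
  have hle : @LE.le (PrimeSpectrum Γ(X, U)) _ P' P := (PrimeSpectrum.le_iff_specializes _ _).mpr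
    (j.isOpenEmbedding.isInducing.specializes_iff.mp hsp)
  have hmem := hc' P' (subset_closure rfl)
  rcases P'.isPrime.mem_or_mem hmem with h | h
  · exfalso; apply hv
    have : v ∈ (PrimeSpectrum.comap φc.hom P').asIdeal := h
    rw [← hpts, hx'] at this
    exact this
  · exact hle h

end Groth.Agent.Helper8.ValChain
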