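import Mathlib
import Groth.Prelude.Def_SGA1
import Groth.Prelude.Def_W4c2submetdescSubtr
import Groth.Agent.S14766
import Groth.Agent.S14768
import Groth.Agent.S4450
import Groth.Agent.S14765
import Groth.Agent.Helper8.UnivSubm
import Groth.Agent.Helper8.SubtrNoethA

/-!
# Universally submersive = universally S-subtrusive over locally Noetherian bases
(S14770, S14771, S13734)
-/

universe u

namespace Groth.Agent.Helper8.SubtrNoethB

open AlgebraicGeometry CategoryTheory Limits IsLocalRing Subtr

/-- A quasi-compact S-subtrusive morphism is submersive. -/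
theorem isQuotientMap_of_isSSubtrusive {X Y : Scheme.{u}} (f : X ⟶ Y) [QuasiCompact f]
    (hf : IsSSubtrusive f) : Topology.IsQuotientMap f := by
  have hsurj : Function.Surjective f := by
    intro y
    obtain ⟨x, -, -, hx, -⟩ := hf (specializes_refl y)
    exact ⟨x, hx⟩
  rw [Topology.isQuotientMap_iff_isClosed]
  refine ⟨hsurj, fun s => ⟨fun hs => hs.preimage f.continuous, fun hs => ?_⟩⟩
  have hst : StableUnderSpecialization s := by
    intro a b hab ha
    obtain ⟨x, x', hx, h1, h2⟩ := hf hab
    have hx' : x' ∈ f ⁻¹' s := by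
      show f x' ∈ s
      rw [h2]; exact ha
    have := hx.mem_closed hs hx'
    rw [← h1]
    exact this
  have himg : f '' (f ⁻¹' s) = s := Set.image_preimage_eq s hsurj
  rw [← himg]
  apply UnivSubm.isClosed_image_of_stable f _ hs
  rw [himg]
  exact hst

/-- The limit argument: it suffices to test S-subtrusiveness after base changes locally of finite
type. -/
theorem univSSubtrusive_of_lft {X Y : Scheme.{u}} (f : X ⟶ Y) [QuasiCompact f]
    (H : ∀ (Z : Scheme.{u}) (g : Z ⟶ Y), LocallyOfFiniteType g →
      IsSSubtrusive (pullback.snd f g)) :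
    UnivSSubtrusive f := by
  rw [Groth.Agent.S14768.result]
  intro V _ _ _ g
  obtain ⟨_, ⟨U, hU, rfl⟩, hyU, -⟩ := Y.isBasis_affineOpens.exists_subset_of_mem_open
      (Set.mem_univ (g (closedPoint V))) isOpen_univ
  have hrange : Set.range g ⊆ Set.range hU.fromSpec := by
    rw [hU.range_fromSpec]
    rintro _ ⟨p, rfl⟩
    have hsp : p ⤳ closedPoint V := IsLocalRing.specializes_closedPoint p
    exact (hsp.map g.continuous).mem_open U.isOpen hyU
  let g' : Spec (CommRingCat.of V) ⟶ Spec Γ(Y, U) := IsOpenImmersion.lift hU.fromSpec g hrange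
  have hg' : g' ≫ hU.fromSpec = g := IsOpenImmersion.lift_fac _ _ _
  let φ : Γ(Y, U) ⟶ CommRingCat.of V := Spec.preimage g'
  have hφ : Spec.map φ = g' := Spec.map_preimage g'
  letI : Algebra Γ(Y, U) V := φ.hom.toAlgebra
  have key := SubtrNoethA.limit_step (A := Γ(Y, U)) (V := V) f hU.fromSpec (fun S => by
    apply H
    haveI : Algebra.FiniteType Γ(Y, U) (SubtrNoethA.sub Γ(Y, U) V S) :=
      (Subalgebra.fg_iff_finiteType _).mp (Subalgebra.fg_adjoin_finset S)
    haveI : LocallyOfFiniteType (Spec.map (CommRingCat.ofHom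
        (algebraMap Γ(Y, U) (SubtrNoethA.sub Γ(Y, U) V S)))) := by
      rw [HasRingHomProperty.Spec_iff (P := @LocallyOfFiniteType)]
      exact RingHom.finiteType_algebraMap.mpr inferInstance
    infer_instance)
  have e : Spec.map (CommRingCat.ofHom (algebraMap Γ(Y, U) V)) ≫ hU.fromSpec = g := by
    rw [← hg', ← hφ]; rfl
  rw [e] at key
  exact key

/-- Over a locally Noetherian base, S-subtrusiveness can be tested on discrete valuation rings. -/
theorem isSSubtrusive_of_dvr {W Z : Scheme.{u}} [IsLocallyNoetherian Z] (h : W ⟶ Z)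
    (H : ∀ (D : Type u) [CommRing D] [IsDomain D] [IsDiscreteValuationRing D]
      (t : Spec (CommRingCat.of D) ⟶ Z), IsSSubtrusive (pullback.snd h t)) :
    IsSSubtrusive h := by
  intro z z' hz
  by_cases hne : z = z'
  · subst hne
    let κ := Z.residueField z
    let t : Spec (CommRingCat.of (PowerSeries κ)) ⟶ Z :=
      Spec.map (CommRingCat.ofHom (algebraMap κ (PowerSeries κ))) ≫ Z.fromSpecResidueField z
    have ht : ∀ p, t p = z := fun p => by
      show (Z.fromSpecResidueField z) _ = z
      exact Scheme.fromSpecResidueField_apply _ _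
    obtain ⟨x, -, -, hx, -⟩ := H (PowerSeries κ) t (specializes_refl (closedPoint (PowerSeries κ)))
    refine ⟨pullback.fst h t x, pullback.fst h t x, specializes_rfl, ?_, ?_⟩ <;>
    · rw [← Scheme.Hom.comp_apply, pullback.condition, Scheme.Hom.comp_apply, ht]
  · obtain ⟨A, hA, hdvr, hcl, hcomm⟩ := Groth.Agent.S4450.result (𝟙 Z) z' z
      (by simpa using hz) (by simpa using hne)
    haveI := hdvr
    have hgen : hA (⊥ : PrimeSpectrum A) = z' := by
      let s : Spec (Z.residueField z') := (⊥ : PrimeSpectrum (Z.residueField z'))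
      have h1 : (Spec.map (CommRingCat.ofHom A.subtype)) s = (⊥ : PrimeSpectrum A) := by
        apply PrimeSpectrum.ext
        change Ideal.comap A.subtype ⊥ = ⊥
        exact (RingHom.injective_iff_ker_eq_bot _).mp A.subtype_injective
      rw [← h1, ← Scheme.Hom.comp_apply, hcomm, Category.comp_id]
      exact Scheme.fromSpecResidueField_apply _ _
    obtain ⟨x, x', hx, h1, h2⟩ := H A hA (IsLocalRing.specializes_closedPoint (⊥ : PrimeSpectrum A))
    refine ⟨pullback.fst h hA x, pullback.fst h hA x', hx.map (pullback.fst h hA).continuous,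
      ?_, ?_⟩
    · rw [← Scheme.Hom.comp_apply, pullback.condition, Scheme.Hom.comp_apply, h1, hcl]
    · rw [← Scheme.Hom.comp_apply, pullback.condition, Scheme.Hom.comp_apply, h2, hgen]

theorem main70 {X Y : Scheme.{u}} [IsLocallyNoetherian Y] (f : X ⟶ Y) [QuasiCompact f] :
    SGA1.UnivSubmersive f ↔ UnivSSubtrusive f := by
  constructor
  · intro H
    apply univSSubtrusive_of_lft f
    intro Z g hg
    haveI := hg
    haveI : IsLocallyNoetherian Z := LocallyOfFiniteType.isLocallyNoetherian g
    apply isSSubtrusive_of_dvr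
    intro D _ _ _ t
    rw [← Groth.Agent.S14766.result D]
    have s : IsPullback (pullback.snd (pullback.snd f g) t) (pullback.fst (pullback.snd f g) t) t
        (pullback.snd f g) := (IsPullback.of_hasPullback _ t).flip
    have s' : IsPullback (pullback.snd f g) (pullback.fst f g) g f :=
      (IsPullback.of_hasPullback f g).flip
    exact H _ _ _ (s.paste_vert s')
  · intro H
    rw [UnivSubm.main]
    intro V _ _ _ g
    exact isQuotientMap_of_isSSubtrusive _ (((Groth.Agent.S14768.result f).mp H) V g)

theorem main71 {X Y : Scheme.{u}} [IsLocallyNoetherian Y]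
    (f : X ⟶ Y) [LocallyOfFiniteType f] [QuasiCompact f] :
    List.TFAE [
      SGA1.UnivSubmersive f,
      Subtr.UnivSSubtrusive f,
      ∀ (D : Type u) [CommRing D] [IsDomain D] [IsDiscreteValuationRing D]
        (g : Spec (CommRingCat.of D) ⟶ Y),
        ∃ (D' : Type u) (_ : CommRing D') (_ : IsDomain D') (_ : IsDiscreteValuationRing D')
          (a : Spec (CommRingCat.of D') ⟶ X) (b : Spec (CommRingCat.of D') ⟶ Spec (CommRingCat.of D)),
          Surjective b ∧ a ≫ f = b ≫ g] := by
  tfae_have 1 ↔ 2 := main70 f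
  tfae_have 2 → 3 := by
    intro H D _ _ _ g
    have hs : IsSSubtrusive (pullback.snd f g) := (Groth.Agent.S14768.result f).mp H D g
    obtain ⟨x, x', hx, h1, h2⟩ := hs (IsLocalRing.specializes_closedPoint (⊥ : PrimeSpectrum D))
    have hne : x ≠ x' := by
      intro h
      rw [h, h2] at h1
      have h1' : (⊥ : Ideal D) = IsLocalRing.maximalIdeal D := congrArg PrimeSpectrum.asIdeal h1
      exact IsDiscreteValuationRing.not_a_field D h1'.symm
    haveI : IsLocallyNoetherian (pullback f g) :=
      LocallyOfFiniteType.isLocallyNoetherian (pullback.snd f g)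
    obtain ⟨A, hA, hdvr, hcl, hcomm⟩ := Groth.Agent.S4450.result (𝟙 (pullback f g)) x' x
      (by simpa using hx) (by simpa using hne)
    haveI := hdvr
    have hgen : hA (⊥ : PrimeSpectrum A) = x' := by
      let s : Spec ((pullback f g).residueField x') :=
        (⊥ : PrimeSpectrum ((pullback f g).residueField x'))
      have e1 : (Spec.map (CommRingCat.ofHom A.subtype)) s = (⊥ : PrimeSpectrum A) := by
        apply PrimeSpectrum.ext
        change Ideal.comap A.subtype ⊥ = ⊥
        exact (RingHom.injective_iff_ker_eq_bot _).mp A.subtype_injective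
      rw [← e1, ← Scheme.Hom.comp_apply, hcomm, Category.comp_id]
      exact Scheme.fromSpecResidueField_apply _ _
    refine ⟨A, inferInstance, inferInstance, hdvr, hA ≫ pullback.fst f g, hA ≫ pullback.snd f g,
      ⟨fun p => ?_⟩, ?_⟩
    · rcases Groth.Agent.S14766.eq_bot_or_closed D p with hp | hp
      · refine ⟨(⊥ : PrimeSpectrum A), ?_⟩
        rw [hp, Scheme.Hom.comp_apply, hgen, h2]
      · refine ⟨closedPoint A, ?_⟩
        rw [hp, Scheme.Hom.comp_apply, hcl, h1]
    · rw [Category.assoc, Category.assoc, pullback.condition]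
  tfae_have 3 → 2 := by
    intro H
    apply univSSubtrusive_of_lft f
    intro Z g hg
    haveI := hg
    haveI : IsLocallyNoetherian Z := LocallyOfFiniteType.isLocallyNoetherian g
    apply isSSubtrusive_of_dvr
    intro D _ _ _ t
    obtain ⟨D', _, _, _, a, b, hb, hab⟩ := H D (t ≫ g)
    refine ((Groth.Agent.S14765.result D (pullback.snd (pullback.snd f g) t)).out 1 4).mpr ?_
    have c1 : a ≫ f = (b ≫ t) ≫ g := by rw [hab, Category.assoc]
    have c2 : pullback.lift a (b ≫ t) c1 ≫ pullback.snd f g = b ≫ t := pullback.lift_snd _ _ _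
    refine ⟨D', inferInstance, inferInstance, inferInstance, pullback.lift _ b c2, ?_⟩
    rw [pullback.lift_snd]
    exact hb
  tfae_finish

theorem main34 {X S : Scheme.{u}} [IsNoetherian S] (f : X ⟶ S) [LocallyOfFiniteType f]
    [QuasiCompact f] :
    SGA1.UnivSubmersive f ↔ ∀ (R : Type u) [CommRing R] [IsDomain R] [IsDiscreteValuationRing R]
      (g : Spec (CommRingCat.of R) ⟶ S), ∃ (R' : Type u) (_ : CommRing R') (_ : IsDomain R')
        (_ : IsDiscreteValuationRing R') (φ : Spec (CommRingCat.of R') ⟶ Spec (CommRingCat.of R))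
        (h : Spec (CommRingCat.of R') ⟶ X), Surjective φ ∧ h ≫ f = φ ≫ g := by
  have h02 := (main71 f).out 0 2
  refine h02.trans ?_
  constructor
  · intro H R _ _ _ g
    obtain ⟨R', i1, i2, i3, a, b, hb, hab⟩ := H R g
    exact ⟨R', i1, i2, i3, b, a, hb, hab⟩
  · intro H R _ _ _ g
    obtain ⟨R', i1, i2, i3, b, a, hb, hab⟩ := H R g
    exact ⟨R', i1, i2, i3, a, b, hb, hab⟩

end Groth.Agent.Helper8.SubtrNoethB
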