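import Mathlib
import Groth.Prelude.Def_HTop
import Groth.Prelude.Def_SGA1
import Groth.Agent.S7476
import Groth.Agent.S7477
import Groth.Agent.S8980
import Groth.Agent.Helper8.SubtrNoethB

/-!
# h coverings of Noetherian schemes = universally submersive finite families (S8977)
-/

universe u

namespace Groth.Agent.Helper8.HCovNoeth

open AlgebraicGeometry CategoryTheory Limits Subtr

theorem quasiCompact_sigmaDesc {ι : Type u} [Finite ι] {Y : ι → Scheme.{u}} {X : Scheme.{u}}
    (f : ∀ i, Y i ⟶ X) [∀ i, QuasiCompact (f i)] : QuasiCompact (Sigma.desc f) := by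
  constructor
  intro U hU hc
  have : (Sigma.desc f) ⁻¹' U = ⋃ i, (Sigma.ι Y i) '' ((f i) ⁻¹' U) := by
    ext x
    constructor
    · intro hx
      obtain ⟨i, y, rfl⟩ := (sigmaOpenCover Y).exists_eq x
      refine Set.mem_iUnion.mpr ⟨i, y, ?_, rfl⟩
      have hx' : (Sigma.desc f) ((Sigma.ι Y i) y) ∈ U := hx
      rw [← Scheme.Hom.comp_apply, Sigma.ι_desc] at hx'
      exact hx'
    · intro hx
      obtain ⟨i, y, hy, rfl⟩ := Set.mem_iUnion.mp hx
      show (Sigma.desc f) ((Sigma.ι Y i) y) ∈ U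
      rw [← Scheme.Hom.comp_apply, Sigma.ι_desc]
      exact hy
  rw [this]
  exact isCompact_iUnion fun i =>
    (QuasiCompact.isCompact_preimage (f := f i) U hU hc).image (Sigma.ι Y i).continuous

theorem main {X : Scheme.{u}} [IsNoetherian X] (E : PreZeroHypercover.{u} X) [Finite E.I₀]
    [∀ i, LocallyOfFiniteType (E.f i)] [∀ i, QuasiCompact (E.f i)] :
    SGA1.UnivSubmersive (Sigma.desc E.f) ↔ HTop.IsHCover E := by
  constructor
  · intro hσ
    haveI : QuasiCompact (Sigma.desc E.f) := quasiCompact_sigmaDesc E.f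
    have hlfp : ∀ i, LocallyOfFinitePresentation (E.f i) := fun i => inferInstance
    have hss : UnivSSubtrusive (Sigma.desc E.f) := (SubtrNoethB.main70 (Sigma.desc E.f)).mp hσ
    have hval : HTop.HasValLift (PreZeroHypercover.singleton.{0} (Sigma.desc E.f)) := by
      refine (Groth.Agent.S7476.result.{u, 0, 0, 0} (Sigma.desc E.f)).2.mpr ?_
      intro Z g z' z hz
      have hs : IsSSubtrusive (pullback.fst g (Sigma.desc E.f)) :=
        hss _ _ _ (IsPullback.of_hasPullback g (Sigma.desc E.f))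
      obtain ⟨x, x', hx, h1, h2⟩ := hs hz
      exact ⟨x', x, hx, h2, h1⟩
    have hv : HTop.IsVCover (PreZeroHypercover.singleton.{0} (Sigma.desc E.f)) :=
      (Groth.Agent.S7476.result.{u, 0, 0, 0} (Sigma.desc E.f)).1.mpr hval
    have hlfpσ : LocallyOfFinitePresentation (Sigma.desc E.f) :=
      IsZariskiLocalAtSource.sigmaDesc (P := @LocallyOfFinitePresentation) hlfp
    exact (Groth.Agent.S8980.result E hlfp).mpr ⟨fun _ => hlfpσ, hv⟩
  · intro hE
    exact Groth.Agent.S7477.result E hE.2

end Groth.Agent.Helper8.HCovNoeth
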