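import Mathlib
import Groth.Prelude.Def_SGA1
import Groth.Agent.Helper5.VF

/-!
# Points of h-coverings: lifting specializations along universally submersive morphisms
-/

set_option autoImplicit false
universe u

namespace Groth.Agent.Helper8.HCovPt

open CategoryTheory CategoryTheory.Limits AlgebraicGeometry IsLocalRing

/-- a point in the closure of a basic open has a generization inside the basic open -/
theorem exists_generization_mem_basicOpen {P : Scheme.{u}} (f : Γ(P, ⊤)) (w : P)
    (hw : w ∈ closure (P.basicOpen f : Set P)) : ∃ ξ : P, ξ ⤳ w ∧ ξ ∈ P.basicOpen f := by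
  have hg : ¬ IsNilpotent (P.presheaf.germ ⊤ w trivial f) := by
    rintro ⟨n, hn⟩
    have h0 : P.presheaf.germ ⊤ w trivial (f ^ n) = P.presheaf.germ ⊤ w trivial 0 := by
      rw [map_pow, map_zero]; exact hn
    obtain ⟨N, hwN, i₁, i₂, hN⟩ := TopCat.Presheaf.germ_eq P.presheaf (U := ⊤) (V := ⊤) w
      trivial trivial _ _ h0
    obtain ⟨y, hyN, hyf⟩ := mem_closure_iff.mp hw N N.isOpen hwN
    have hu : IsUnit (P.presheaf.germ ⊤ y trivial f) := (Scheme.mem_basicOpen_top P f y).mp hyf
    have h1 : P.presheaf.germ ⊤ y trivial (f ^ n) = 0 := by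
      have e1 : P.presheaf.germ ⊤ y trivial (f ^ n) =
          P.presheaf.germ N y hyN (P.presheaf.map i₁.op (f ^ n)) :=
        (TopCat.Presheaf.germ_res_apply P.presheaf i₁ y hyN (f ^ n)).symm
      have e2 : P.presheaf.germ N y hyN (P.presheaf.map i₂.op 0) = 0 := by
        rw [map_zero, map_zero]
      rw [e1, hN, e2]
    rw [map_pow] at h1
    exact not_isUnit_zero (h1 ▸ hu.pow n)
  rw [nilpotent_iff_mem_prime] at hg
  obtain ⟨J, hJ, hgJ⟩ : ∃ J : Ideal (P.presheaf.stalk w), J.IsPrime ∧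
      P.presheaf.germ ⊤ w trivial f ∉ J := by
    by_contra hcon
    apply hg
    intro J hJ
    by_contra hgJ
    exact hcon ⟨J, hJ, hgJ⟩
  refine ⟨P.fromSpecStalk w ⟨J, hJ⟩, ?_, ?_⟩
  · have : P.fromSpecStalk w ⟨J, hJ⟩ ∈ Set.range (P.fromSpecStalk w) := Set.mem_range_self _
    rw [Scheme.range_fromSpecStalk] at this
    exact this
  · show (⟨J, hJ⟩ : PrimeSpectrum _) ∈ (P.fromSpecStalk w) ⁻¹ᵁ P.basicOpen f
    rw [Scheme.preimage_basicOpen_top, Scheme.fromSpecStalk_appTop]
    simp only [CommRingCat.comp_apply]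
    rw [Scheme.basicOpen_res]
    refine ⟨trivial, ?_⟩
    rw [basicOpen_eq_of_affine]
    exact hgJ

/-- the generic point of the spectrum of a discrete valuation ring -/
abbrev gen (A : Type u) [CommRing A] [IsDomain A] : PrimeSpectrum A := ⟨⊥, Ideal.isPrime_bot⟩

/-- in a DVR every prime is the generic or the closed point -/
theorem eq_gen_or_eq_closedPoint (A : Type u) [CommRing A] [IsDomain A]
    [IsDiscreteValuationRing A] (p : PrimeSpectrum A) : p = gen A ∨ p = closedPoint A := by
  by_cases h : p.asIdeal = ⊥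
  · left; exact PrimeSpectrum.ext h
  · right
    apply PrimeSpectrum.ext
    have : p.asIdeal.IsMaximal := p.2.isMaximal h
    exact IsLocalRing.eq_maximalIdeal this

theorem gen_ne_closedPoint (A : Type u) [CommRing A] [IsDomain A]
    [IsDiscreteValuationRing A] : gen A ≠ closedPoint A := by
  intro h
  have : (⊥ : Ideal A) = maximalIdeal A := congrArg PrimeSpectrum.asIdeal h
  exact IsDiscreteValuationRing.not_a_field A this.symm

/-- Lifting the specialization of a DVR along a submersive base change. -/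
theorem exists_specializes_over_dvr {Y S : Scheme.{u}} (g : Y ⟶ S) (A : Type u) [CommRing A]
    [IsDomain A] [IsDiscreteValuationRing A] (φ : Spec (CommRingCat.of A) ⟶ S)
    (hq : Topology.IsQuotientMap (pullback.snd g φ)) :
    ∃ ξ w : ↥(pullback g φ), ξ ⤳ w ∧ pullback.snd g φ ξ = gen A ∧
      pullback.snd g φ w = closedPoint A := by
  obtain ⟨ϖ, hϖ⟩ := IsDiscreteValuationRing.exists_irreducible A
  set q := pullback.snd g φ with hqdef
  let f : Γ(pullback g φ, ⊤) := q.appTop ((Scheme.ΓSpecIso (CommRingCat.of A)).inv ϖ)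
  have hD : ∀ p : PrimeSpectrum A, p ∈ PrimeSpectrum.basicOpen ϖ ↔ p = gen A := by
    intro p
    constructor
    · intro hp
      rcases eq_gen_or_eq_closedPoint A p with h | h
      · exact h
      · exfalso
        apply hp
        rw [h]
        show ϖ ∈ maximalIdeal A
        rw [hϖ.maximalIdeal_eq]
        exact Ideal.mem_span_singleton_self ϖ
    · rintro rfl
      show ϖ ∉ (⊥ : Ideal A)
      rw [Ideal.mem_bot]
      exact hϖ.ne_zero
  have hS : ((pullback g φ).basicOpen f : Set ↥(pullback g φ)) = q ⁻¹' {gen A} := by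
    have e : (pullback g φ).basicOpen f =
        q ⁻¹ᵁ (Spec (CommRingCat.of A)).basicOpen
          ((Scheme.ΓSpecIso (CommRingCat.of A)).inv ϖ) :=
      (Scheme.preimage_basicOpen_top q _).symm
    rw [e, basicOpen_eq_of_affine]
    ext z
    exact hD (q z)
  have hncl : ¬ IsClosed (q ⁻¹' {gen A}) := by
    rw [hq.isClosed_preimage]
    show ¬ IsClosed ({gen A} : Set (PrimeSpectrum A))
    rw [PrimeSpectrum.isClosed_singleton_iff_isMaximal]
    intro hmax
    have hle : (⊥ : Ideal A) ≤ maximalIdeal A := bot_le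
    have : (⊥ : Ideal A) = maximalIdeal A :=
      hmax.eq_of_le (IsLocalRing.maximalIdeal.isMaximal A).ne_top hle
    exact IsDiscreteValuationRing.not_a_field A this.symm
  obtain ⟨w, hwc, hwn⟩ : ∃ w, w ∈ closure (q ⁻¹' {gen A}) ∧ w ∉ q ⁻¹' {gen A} := by
    by_contra hcon
    have hsub : closure (q ⁻¹' {gen A}) ⊆ q ⁻¹' {gen A} := by
      intro w hw
      by_contra hwn
      exact hcon ⟨w, hw, hwn⟩
    exact hncl (closure_eq_iff_isClosed.mp (subset_antisymm hsub subset_closure))
  rw [← hS] at hwc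
  obtain ⟨ξ, hξw, hξf⟩ := exists_generization_mem_basicOpen f w hwc
  have hξ : ξ ∈ q ⁻¹' {gen A} := by rw [← hS]; exact hξf
  refine ⟨ξ, w, hξw, hξ, ?_⟩
  rcases eq_gen_or_eq_closedPoint A (q w) with h | h
  · exact absurd h hwn
  · exact h

/-- a DVR through a non-trivial specialization of a locally Noetherian scheme -/
theorem exists_dvr_spec (S : Scheme.{u}) [IsLocallyNoetherian S] (y₁ y₀ : S) (h : y₁ ⤳ y₀)
    (hne : y₁ ≠ y₀) :
    ∃ (A : Type u) (_ : CommRing A) (_ : IsDomain A) (_ : IsDiscreteValuationRing A)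
      (φ : Spec (CommRingCat.of A) ⟶ S), φ (closedPoint A) = y₀ ∧ φ (gen A) = y₁ := by
  obtain ⟨p, hp⟩ : y₁ ∈ Set.range (S.fromSpecStalk y₀) := by
    rw [Scheme.range_fromSpecStalk]; exact h
  have hpm : p.asIdeal ≠ maximalIdeal (S.presheaf.stalk y₀) := by
    intro hpm
    apply hne
    rw [← hp]
    have : p = closedPoint (S.presheaf.stalk y₀) := PrimeSpectrum.ext hpm
    rw [this, Scheme.fromSpecStalk_closedPoint]
  obtain ⟨B, _, _, _, _, hloc, hker⟩ := Groth.Agent.Helper5.VF.exists_dvr_of_prime p.asIdeal hpm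
  refine ⟨B, inferInstance, inferInstance, inferInstance,
    Spec.map (CommRingCat.ofHom (algebraMap (S.presheaf.stalk y₀) B)) ≫ S.fromSpecStalk y₀, ?_, ?_⟩
  · rw [Scheme.Hom.comp_apply]
    have : Spec.map (CommRingCat.ofHom (algebraMap (S.presheaf.stalk y₀) B))
        (closedPoint B) = closedPoint (S.presheaf.stalk y₀) :=
      IsLocalRing.comap_closedPoint (algebraMap (S.presheaf.stalk y₀) B)
    rw [this, Scheme.fromSpecStalk_closedPoint]
  · rw [Scheme.Hom.comp_apply]
    have : Spec.map (CommRingCat.ofHom (algebraMap (S.presheaf.stalk y₀) B)) (gen B) = p := by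
      apply PrimeSpectrum.ext
      show Ideal.comap (algebraMap (S.presheaf.stalk y₀) B) ⊥ = p.asIdeal
      rw [← hker]; rfl
    rw [this, hp]

/-- Main statement: every point is the image of a point having a generization over a maximal
point. -/
theorem main {X : Scheme.{u}} [IsNoetherian X] (E : PreZeroHypercover.{u} X)
    (hE : SGA1.UnivSubmersive (Sigma.desc E.f)) (x : X) :
    ∃ (i : E.I₀) (ξ u : E.X i), ξ ⤳ u ∧ E.f i u = x ∧
      closure {E.f i ξ} ∈ irreducibleComponents ↥X := by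
  have hZ : irreducibleComponent x ∈ irreducibleComponents ↥X :=
    irreducibleComponent_mem_irreducibleComponents x
  obtain ⟨η, hη⟩ := QuasiSober.sober (isIrreducible_irreducibleComponent (x := x))
    (isClosed_irreducibleComponent (x := x))
  have hηx : η ⤳ x := by
    rw [specializes_iff_mem_closure, hη.def]; exact mem_irreducibleComponent
  -- it suffices to find a specialization in the coproduct
  suffices H : ∃ ξ₀ u₀ : ↥(∐ E.X), ξ₀ ⤳ u₀ ∧ Sigma.desc E.f u₀ = x ∧ Sigma.desc E.f ξ₀ = η by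
    obtain ⟨ξ₀, u₀, hsp, hu₀, hξ₀⟩ := H
    obtain ⟨⟨i, u⟩, hu⟩ := (sigmaMk E.X).surjective u₀
    rw [sigmaMk_mk] at hu
    have hξr : ξ₀ ∈ Set.range (Sigma.ι E.X i) :=
      hsp.mem_open (Sigma.ι E.X i).isOpenEmbedding.isOpen_range ⟨u, hu⟩
    obtain ⟨ξ, hξ⟩ := hξr
    refine ⟨i, ξ, u, ?_, ?_, ?_⟩
    · rw [← (Sigma.ι E.X i).isOpenEmbedding.isInducing.specializes_iff, hξ, hu]
      exact hsp
    · rw [← hu₀, ← hu, ← Scheme.Hom.comp_apply, Sigma.ι_desc]
    · have : E.f i ξ = η := by
        rw [← hξ₀, ← hξ, ← Scheme.Hom.comp_apply, Sigma.ι_desc]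
      rw [this, hη.def]
      exact hZ
  by_cases hne : η = x
  · have hq : Topology.IsQuotientMap (Sigma.desc E.f) :=
      hE _ _ _ (IsPullback.of_id_snd (f := Sigma.desc E.f))
    obtain ⟨u₀, hu₀⟩ := hq.surjective x
    exact ⟨u₀, u₀, specializes_rfl, hu₀, hu₀.trans hne.symm⟩
  · obtain ⟨A, _, _, _, φ, hφc, hφg⟩ := exists_dvr_spec X η x hηx hne
    have hq : Topology.IsQuotientMap (pullback.snd (Sigma.desc E.f) φ) :=
      hE _ _ _ (IsPullback.of_hasPullback (Sigma.desc E.f) φ).flip
    obtain ⟨ξ, w, hsp, hξ, hw⟩ := exists_specializes_over_dvr (Sigma.desc E.f) A φ hq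
    refine ⟨pullback.fst (Sigma.desc E.f) φ ξ, pullback.fst (Sigma.desc E.f) φ w,
      hsp.map (pullback.fst (Sigma.desc E.f) φ).continuous, ?_, ?_⟩
    · rw [← Scheme.Hom.comp_apply, pullback.condition, Scheme.Hom.comp_apply, hw, hφc]
    · rw [← Scheme.Hom.comp_apply, pullback.condition, Scheme.Hom.comp_apply, hξ, hφg]

end Groth.Agent.Helper8.HCovPt
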