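import Mathlib
import Groth.Prelude.Def_QuadGrp
import Groth.Agent.Helper8.HalfDisc
set_option autoImplicit false

namespace Groth.Agent.Helper8.HDBlock

open QuadGrp Matrix Groth.Agent.Helper8.HalfDisc

variable {N : ℕ}

section Ring

variable {S : Type*} [CommRing S]

lemma block_of_domain [IsDomain S] [CharZero S] (hn : Odd (N + 1))
    (a : Sym2 (Fin (N + 1)) → S) (i0 : Fin (N + 1))
    (ha : ∀ j, j ≠ i0 → a s(i0, j) = 0) :
    H a = a s(i0, i0) * ((pol a).submatrix i0.succAbove i0.succAbove).det := by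
  have h1 : D a = 2 * (a s(i0, i0) * ((pol a).submatrix i0.succAbove i0.succAbove).det) := by
    rw [D_eq_det, Matrix.det_succ_row (pol a) i0, Finset.sum_eq_single i0]
    · have h2 : (-1 : S) ^ ((i0 : ℕ) + (i0 : ℕ)) = 1 := by
        rw [← two_mul, pow_mul]; simp
      have hd : pol a i0 i0 = 2 * a s(i0, i0) := by simp [pol]
      rw [h2, one_mul, hd]
      ring
    · intro j _ hj
      have h3 : pol a i0 j = 0 := by
        simp only [pol, Matrix.of_apply, if_neg (Ne.symm hj)]
        exact ha j hj
      rw [h3]; ring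
    · intro h; exact absurd (Finset.mem_univ _) h
  rw [D_eq_two_H hn] at h1
  exact mul_left_cancel₀ two_ne_zero h1

/-- generic coefficients with the `i0` off-diagonal entries killed -/
noncomputable def aU (i0 : Fin (N + 1)) :
    Sym2 (Fin (N + 1)) → MvPolynomial (Sym2 (Fin (N + 1))) ℤ :=
  Sym2.lift ⟨fun k l => if (k = i0 ∨ l = i0) ∧ k ≠ l then 0 else MvPolynomial.X s(k, l), by
    intro k l
    dsimp only
    by_cases h : (k = i0 ∨ l = i0) ∧ k ≠ l
    · rw [if_pos h, if_pos ⟨h.1.symm, h.2.symm⟩]
    · rw [if_neg h, if_neg (fun h' => h ⟨h'.1.symm, h'.2.symm⟩), Sym2.eq_swap]⟩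

lemma aU_mk (i0 k l : Fin (N + 1)) :
    aU i0 s(k, l) = if (k = i0 ∨ l = i0) ∧ k ≠ l then 0 else MvPolynomial.X s(k, l) := rfl

lemma map_pol_mat {S' : Type*} [CommRing S'] (ψ : S →+* S') (a : Sym2 (Fin (N + 1)) → S) :
    (pol a).map ψ = pol (ψ ∘ a) := by
  ext k l
  rw [Matrix.map_apply, map_pol]

theorem block (hn : Odd (N + 1)) (a : Sym2 (Fin (N + 1)) → S) (i0 : Fin (N + 1))
    (ha : ∀ j, j ≠ i0 → a s(i0, j) = 0) :
    H a = a s(i0, i0) * ((pol a).submatrix i0.succAbove i0.succAbove).det := by
  let ψ : MvPolynomial (Sym2 (Fin (N + 1))) ℤ →+* S :=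
    MvPolynomial.eval₂Hom (Int.castRingHom S) a
  have hψ : ψ ∘ aU i0 = a := by
    funext s
    induction s using Sym2.ind with
    | _ k l =>
      simp only [Function.comp_apply, aU_mk]
      split_ifs with h
      · rw [map_zero]
        rcases h with ⟨hk | hl, hne⟩
        · subst hk; exact (ha l (Ne.symm hne)).symm
        · subst hl; rw [Sym2.eq_swap]; exact (ha k hne).symm
      · simp [ψ]
  have hU := block_of_domain (S := MvPolynomial (Sym2 (Fin (N + 1))) ℤ) hn (aU i0) i0 (by
    intro j hj
    rw [aU_mk, if_pos ⟨Or.inl rfl, Ne.symm hj⟩])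
  have h := congrArg ψ hU
  rw [map_H, hψ, map_mul, RingHom.map_det, RingHom.mapMatrix_apply, ← Matrix.submatrix_map,
    map_pol_mat, hψ] at h
  have h2 : ψ (aU i0 s(i0, i0)) = a s(i0, i0) := congrFun hψ s(i0, i0)
  rw [h2] at h
  exact h

end Ring

section Module

variable {R : Type*} [CommRing R] {M : Type*} [AddCommGroup M] [Module R M]

lemma polar_comp (Q : QuadraticForm R M) (g : M →ₗ[R] M) (u v : M) :
    QuadraticMap.polar (Q.comp g) u v = QuadraticMap.polar Q (g u) (g v) := by
  simp [QuadraticMap.polar, QuadraticMap.comp_apply]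

theorem halfDisc_mul_sq (hn : Odd (N + 1)) (b : Module.Basis (Fin (N + 1)) R M)
    (Q : QuadraticForm R M) (x : M) (hx : ∀ y, QuadraticMap.polar Q x y = 0) (i0 : Fin (N + 1)) :
    (b.repr x i0) ^ 2 * halfDisc b (LinearEquiv.refl R R) Q =
      Q x * ((Matrix.of fun i j => QuadraticMap.polar Q (b i) (b j)).submatrix
        i0.succAbove i0.succAbove).det := by
  set g : M →ₗ[R] M := b.constr R (Function.update b i0 x) with hg
  have hgb : ∀ i, g (b i) = Function.update b i0 x i := fun i => by
    rw [hg, Module.Basis.constr_basis]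
  have hgi0 : g (b i0) = x := by rw [hgb, Function.update_self]
  have hgne : ∀ i, i ≠ i0 → g (b i) = b i := fun i hi => by
    rw [hgb, Function.update_of_ne hi]
  have hdet : LinearMap.det g = b.repr x i0 := by
    rw [← LinearMap.det_toMatrix b]
    have hmat : LinearMap.toMatrix b b g = (1 : Matrix (Fin (N + 1)) (Fin (N + 1)) R).updateCol i0
        (fun k => b.repr x k) := by
      ext k i
      rw [LinearMap.toMatrix_apply]
      by_cases hi : i = i0
      · subst hi
        rw [hgi0, Matrix.updateCol_self]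
      · rw [hgne i hi, Matrix.updateCol_ne hi, Module.Basis.repr_self, Matrix.one_apply,
          Finsupp.single_apply]
        by_cases hki : k = i
        · subst hki; simp
        · rw [if_neg (Ne.symm hki), if_neg hki]
    rw [hmat, ← Matrix.cramer_apply, Matrix.cramer_one]
    rfl
  have h1 := halfDisc_comp hn b Q g
  rw [hdet] at h1
  rw [← h1]
  have h2 : halfDisc b (LinearEquiv.refl R R) (Q.comp g) =
      H (coeffs b (LinearEquiv.refl R R) (Q.comp g)) := rfl
  rw [h2, block hn _ i0]
  · congr 1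
    · rw [coeffs_mk, if_pos rfl, LinearEquiv.refl_apply, QuadraticMap.comp_apply, hgi0]
    · congr 1
      ext k l
      simp only [Matrix.submatrix_apply, pol, Matrix.of_apply, coeffs_mk, LinearEquiv.refl_apply]
      have hk := hgne _ (Fin.succAbove_ne i0 k)
      have hl := hgne _ (Fin.succAbove_ne i0 l)
      by_cases hkl : i0.succAbove k = i0.succAbove l
      · rw [if_pos hkl, if_pos hkl, QuadraticMap.comp_apply, hk, ← hkl, QuadraticMap.polar_self,
          two_smul, two_mul]
      · rw [if_neg hkl, if_neg hkl, polar_comp, hk, hl]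
  · intro j hj
    rw [coeffs_mk, if_neg (Ne.symm hj), LinearEquiv.refl_apply, polar_comp, hgi0]
    exact hx _

end Module

end Groth.Agent.Helper8.HDBlock
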