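import Mathlib
import Groth.Prelude.Def_QuadGrp
import Groth.Agent.Helper8.HalfDisc
set_option autoImplicit false

namespace Groth.Agent.Helper8.QuadCentre

open TensorProduct QuadGrp
universe u
variable {R : Type u} [CommRing R] {M : Type*} [AddCommGroup M] [Module R M] [Module.Free R M]
variable (Q : QuadraticForm R M) (A : Type u) [CommRing A] [Algebra R A]

/-- `A ⊗ R ≃ A` as a linear map. -/
noncomputable abbrev tau : A ⊗[R] R →ₗ[A] A := (AlgebraTensorModule.rid R A A).toLinearMap

lemma tau_injective : Function.Injective (tau (R := R) A) :=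
  (AlgebraTensorModule.rid R A A).injective

/-- A-valued polar bilinear form of the base change. -/
noncomputable def bpol : (A ⊗[R] M) →ₗ[A] (A ⊗[R] M) →ₗ[A] A :=
  (QuadraticMap.polarBilin (QuadGrp.baseChange A Q)).compr₂ (tau A)

lemma bpol_apply (x y : A ⊗[R] M) :
    bpol Q A x y = tau A (QuadraticMap.polar (QuadGrp.baseChange A Q) x y) := rfl

lemma polar_baseChange_tmul (a b : A) (m m' : M) :
    QuadraticMap.polar (QuadGrp.baseChange A Q) (a ⊗ₜ m) (b ⊗ₜ m') =
      (a * b) ⊗ₜ QuadraticMap.polar Q m m' := by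
  unfold QuadGrp.baseChange
  rw [LinearMap.BilinMap.polar_toQuadraticMap, LinearMap.BilinMap.baseChange_tmul,
    LinearMap.BilinMap.baseChange_tmul]
  conv_rhs => rw [← bilinLift_spec Q, LinearMap.BilinMap.polar_toQuadraticMap, tmul_add]
  rw [mul_comm b a]

lemma bpol_tmul (a b : A) (m m' : M) :
    bpol Q A (a ⊗ₜ m) (b ⊗ₜ m') = QuadraticMap.polar Q m m' • (a * b) := by
  rw [bpol_apply, polar_baseChange_tmul]
  simp [tau]

lemma bpol_one_tmul (m m' : M) :
    bpol Q A (1 ⊗ₜ m) (1 ⊗ₜ m') = algebraMap R A (QuadraticMap.polar Q m m') := by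
  rw [bpol_tmul, mul_one, Algebra.algebraMap_eq_smul_one]

lemma bpol_comm (x y : A ⊗[R] M) : bpol Q A x y = bpol Q A y x := by
  rw [bpol_apply, bpol_apply, QuadraticMap.polar_comm]

lemma bpol_self (x : A ⊗[R] M) : bpol Q A x x = 2 * tau A (QuadGrp.baseChange A Q x) := by
  rw [bpol_apply, QuadraticMap.polar_self, two_smul, map_add, two_mul]

/-- the value of the base-changed form on `x + c • y` -/
lemma baseChange_add_smul (x y : A ⊗[R] M) (c : A) :
    tau A (QuadGrp.baseChange A Q (x + c • y)) =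
      tau A (QuadGrp.baseChange A Q x) + c * c * tau A (QuadGrp.baseChange A Q y) +
        c * bpol Q A x y := by
  rw [QuadraticMap.map_add (QuadGrp.baseChange A Q), QuadraticMap.map_smul,
    QuadraticMap.polar_smul_right, map_add, map_add, map_smul, map_smul, bpol_apply]
  simp only [smul_eq_mul]
  
/-- the Lie algebra element `x ↦ β(x,z) • w - β(x,w) • z` -/
noncomputable def Xop (z w : A ⊗[R] M) : (A ⊗[R] M) →ₗ[A] (A ⊗[R] M) :=
  ((bpol Q A).flip z).smulRight w - ((bpol Q A).flip w).smulRight z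

lemma Xop_apply (z w x : A ⊗[R] M) :
    Xop Q A z w x = bpol Q A x z • w - bpol Q A x w • z := by
  simp [Xop]

lemma bpol_Xop (z w x : A ⊗[R] M) : bpol Q A x (Xop Q A z w x) = 0 := by
  rw [Xop_apply, map_sub, map_smul, map_smul]
  simp only [smul_eq_mul]
  ring

/-- The infinitesimal isometry `1 + e X(z,w)` for `e` of square zero. -/
noncomputable def infEquiv (e : A) (he : e * e = 0) (z w : A ⊗[R] M) :
    (A ⊗[R] M) ≃ₗ[A] (A ⊗[R] M) :=
  LinearEquiv.ofLinear (LinearMap.id + e • Xop Q A z w) (LinearMap.id - e • Xop Q A z w)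
    (by
      refine LinearMap.ext fun x => ?_
      simp [smul_sub, smul_smul, he])
    (by
      refine LinearMap.ext fun x => ?_
      simp [smul_sub, smul_add, smul_smul, he])

lemma infEquiv_apply (e : A) (he : e * e = 0) (z w x : A ⊗[R] M) :
    infEquiv Q A e he z w x = x + e • Xop Q A z w x := rfl

lemma infEquiv_mem_orth (e : A) (he : e * e = 0) (z w : A ⊗[R] M) :
    infEquiv Q A e he z w ∈ QuadGrp.orth Q A := by
  intro x
  apply tau_injective
  rw [infEquiv_apply, baseChange_add_smul, he, bpol_Xop]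
  simp

lemma algebraMap_smul_one_tmul (r : R) (m : M) :
    algebraMap R A r • ((1 : A) ⊗ₜ[R] m) = (1 : A) ⊗ₜ[R] (r • m) := by
  rw [TensorProduct.smul_tmul', smul_eq_mul, mul_one, Algebra.algebraMap_eq_smul_one,
    TensorProduct.smul_tmul]

lemma Xop_one_tmul (z w x : M) :
    Xop Q A (1 ⊗ₜ z) (1 ⊗ₜ w) (1 ⊗ₜ x) =
      (1 : A) ⊗ₜ[R] (QuadraticMap.polar Q x z • w - QuadraticMap.polar Q x w • z) := by
  rw [Xop_apply, bpol_one_tmul, bpol_one_tmul, algebraMap_smul_one_tmul, algebraMap_smul_one_tmul,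
    tmul_sub]

section Dual

open DualNumber

/-- the `ε`-coefficient map `R[ε] ⊗ M → M` -/
noncomputable def epsCoeff : (DualNumber R) ⊗[R] M →ₗ[R] M :=
  (TensorProduct.lid R M).toLinearMap ∘ₗ LinearMap.rTensor M (TrivSqZeroExt.sndHom R R)

lemma epsCoeff_eps_smul (m : M) : epsCoeff (R := R) ((ε : DualNumber R) • ((1 : DualNumber R) ⊗ₜ[R] m)) = m := by
  rw [TensorProduct.smul_tmul', smul_eq_mul, mul_one]
  simp [epsCoeff]

variable {Q} in
lemma lie_comm_of_comm (g : M ≃ₗ[R] M) (z w : M)
    (h : g.baseChange R (DualNumber R) M M *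
        infEquiv Q (DualNumber R) ε DualNumber.eps_mul_eps (1 ⊗ₜ z) (1 ⊗ₜ w) =
      infEquiv Q (DualNumber R) ε DualNumber.eps_mul_eps (1 ⊗ₜ z) (1 ⊗ₜ w) *
        g.baseChange R (DualNumber R) M M) (x : M) :
    QuadraticMap.polar Q x z • g w - QuadraticMap.polar Q x w • g z =
      QuadraticMap.polar Q (g x) z • w - QuadraticMap.polar Q (g x) w • z := by
  have h1 := congrArg (fun f => f ((1 : DualNumber R) ⊗ₜ[R] x)) h
  simp only [LinearEquiv.mul_apply, infEquiv_apply, LinearEquiv.baseChange_tmul, Xop_one_tmul,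
    map_add, map_smul] at h1
  have h2 := add_left_cancel h1
  have h3 := congrArg (epsCoeff (R := R) (M := M)) h2
  rw [epsCoeff_eps_smul, epsCoeff_eps_smul] at h3
  rw [← h3]
  simp

end Dual

lemma exists_ne_ne {n : ℕ} (hn : 3 ≤ n) (k b : Fin n) : ∃ a : Fin n, a ≠ k ∧ a ≠ b := by
  by_contra hcon
  push Not at hcon
  have h0 := hcon ⟨0, by omega⟩
  have h1 := hcon ⟨1, by omega⟩
  have h2 := hcon ⟨2, by omega⟩
  simp only [ne_eq, Fin.ext_iff] at h0 h1 h2
  omega

section Scalar
variable {n : ℕ} (Q : QuadraticForm R (Fin n → R))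

/-- if `g e_b = c e_b` for all `b` then `g` is `c`. -/
lemma eq_smul_of_basis (g : (Fin n → R) ≃ₗ[R] (Fin n → R)) (c : R)
    (h : ∀ b, g (Pi.single b 1) = c • Pi.single b 1) (v : Fin n → R) : g v = c • v := by
  have : g.toLinearMap = c • LinearMap.id := by
    apply (Pi.basisFun R (Fin n)).ext
    intro b
    simpa using h b
  have := congrArg (fun f => f v) this
  simpa using this

theorem scalar_of_lie (hn : 3 ≤ n) (hsurj : Function.Surjective (QuadraticMap.polarBilin Q))
    (g : (Fin n → R) ≃ₗ[R] (Fin n → R))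
    (h : ∀ x z w : Fin n → R, QuadraticMap.polar Q x z • g w - QuadraticMap.polar Q x w • g z =
      QuadraticMap.polar Q (g x) z • w - QuadraticMap.polar Q (g x) w • z) :
    ∃ c : R, ∀ v, g v = c • v := by
  classical
  -- dual vectors
  have hdual : ∀ a : Fin n, ∃ x : Fin n → R, ∀ y, QuadraticMap.polar Q x y = y a := by
    intro a
    obtain ⟨x, hx⟩ := hsurj (LinearMap.proj a)
    refine ⟨x, fun y => ?_⟩
    have := congrArg (fun f => f y) hx
    simpa using this
  -- off-diagonal vanishing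
  have hoff : ∀ k b : Fin n, k ≠ b → g (Pi.single b 1) k = 0 := by
    intro k b hkb
    obtain ⟨a, hak, hab⟩ := exists_ne_ne hn k b
    obtain ⟨x, hx⟩ := hdual a
    have h1 := congrFun (h x (Pi.single a 1) (Pi.single b 1)) k
    simp only [hx, Pi.sub_apply, Pi.smul_apply, smul_eq_mul, Pi.single_eq_same,
      Pi.single_eq_of_ne hab, Pi.single_eq_of_ne hkb, Pi.single_eq_of_ne hak.symm] at h1
    simpa using h1
  -- diagonal
  have hdiag : ∀ a b : Fin n, a ≠ b → ∀ x, QuadraticMap.polar Q x (Pi.single a 1) * g (Pi.single b 1) b =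
      QuadraticMap.polar Q (g x) (Pi.single a 1) := by
    intro a b hab x
    have h1 := congrFun (h x (Pi.single a 1) (Pi.single b 1)) b
    simp only [Pi.sub_apply, Pi.smul_apply, smul_eq_mul, Pi.single_eq_same,
      Pi.single_eq_of_ne hab.symm, hoff b a hab.symm] at h1
    simpa using h1
  have heq : ∀ b b' : Fin n, g (Pi.single b 1) b = g (Pi.single b' 1) b' := by
    intro b b'
    obtain ⟨a, hab, hab'⟩ := exists_ne_ne hn b b'
    obtain ⟨x, hx⟩ := hdual a
    have h1 := hdiag a b hab x
    have h2 := hdiag a b' hab' x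
    rw [hx, Pi.single_eq_same, one_mul] at h1 h2
    rw [h1, h2]
  have h0 : 0 < n := by omega
  refine ⟨g (Pi.single ⟨0, h0⟩ 1) ⟨0, h0⟩, eq_smul_of_basis g _ fun b => ?_⟩
  funext k
  by_cases hkb : k = b
  · subst hkb
    simp [heq k ⟨0, h0⟩]
  · rw [hoff k b hkb]
    simp [Pi.single_eq_of_ne hkb]

end Scalar



section Dickson


open TensorProduct QuadGrp CliffordAlgebra
variable {R : Type u} [CommRing R] {M : Type*} [AddCommGroup M] [Module R M] [Module.Free R M]
variable (Q : QuadraticForm R M) (A : Type u) [CommRing A] [Algebra R A]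

lemma polar_baseChangeForm (x y : A ⊗[R] M) :
    QuadraticMap.polar (QuadGrp.baseChangeForm A Q) x y = bpol Q A x y := by
  rw [bpol_apply]
  simp only [QuadraticMap.polar, QuadGrp.baseChangeForm, LinearMap.compQuadraticMap_apply, map_sub]

lemma mem_O_baseChangeForm_of_mem_orth (h : (A ⊗[R] M) ≃ₗ[A] (A ⊗[R] M))
    (hh : h ∈ QuadGrp.orth Q A) : h ∈ QuadGrp.O (QuadGrp.baseChangeForm A Q) := by
  intro x
  have := hh x
  simp only [QuadGrp.baseChangeForm, LinearMap.compQuadraticMap_apply]
  rw [this]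

/-- the intertwining relation -/
lemma intertwine (e : A) (he : e * e = 0) (z w : A ⊗[R] M)
    (hh : infEquiv Q A e he z w ∈ QuadGrp.O (QuadGrp.baseChangeForm A Q))
    (y : CliffordAlgebra (QuadGrp.baseChangeForm A Q)) :
    (1 + e • (ι (QuadGrp.baseChangeForm A Q) w * ι (QuadGrp.baseChangeForm A Q) z)) * y =
      CliffordAlgebra.map (QuadGrp.isometryOfMem (QuadGrp.baseChangeForm A Q) (infEquiv Q A e he z w) hh) y *
        (1 + e • (ι (QuadGrp.baseChangeForm A Q) w * ι (QuadGrp.baseChangeForm A Q) z)) := by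
  induction y using CliffordAlgebra.induction with
  | algebraMap r =>
    rw [AlgHom.commutes, Algebra.commutes]
  | ι x =>
    rw [CliffordAlgebra.map_apply_ι, QuadGrp.isometryOfMem_apply, infEquiv_apply, map_add, map_smul,
      Xop_apply, map_sub, map_smul, map_smul]
    have h1 : ι (QuadGrp.baseChangeForm A Q) w * ι (QuadGrp.baseChangeForm A Q) z *
        ι (QuadGrp.baseChangeForm A Q) x =
        ι (QuadGrp.baseChangeForm A Q) x * (ι (QuadGrp.baseChangeForm A Q) w *
          ι (QuadGrp.baseChangeForm A Q) z) + (bpol Q A x z • ι (QuadGrp.baseChangeForm A Q) w -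
            bpol Q A x w • ι (QuadGrp.baseChangeForm A Q) z) := by
      rw [mul_assoc, ι_mul_ι_comm z x, mul_sub, ← mul_assoc, ι_mul_ι_comm w x, sub_mul,
        polar_baseChangeForm, polar_baseChangeForm, bpol_comm Q A z x, bpol_comm Q A w x,
        ← Algebra.commutes, Algebra.smul_def, Algebra.smul_def, mul_assoc]
      abel
    simp only [add_mul, mul_add, one_mul, mul_one, smul_mul_assoc, mul_smul_comm, smul_smul, he,
      zero_smul, add_zero, h1, smul_add]
    abel
  | mul a b ha hb =>
    rw [map_mul, ← mul_assoc, ha, mul_assoc, hb, mul_assoc]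
  | add a b ha hb =>
    rw [map_add, mul_add, ha, hb, add_mul]

lemma dickson_infEquiv (e : A) (he : e * e = 0) (z w : A ⊗[R] M)
    (hh : infEquiv Q A e he z w ∈ QuadGrp.O (QuadGrp.baseChangeForm A Q)) :
    QuadGrp.IsDicksonTrivial (QuadGrp.baseChangeForm A Q) (infEquiv Q A e he z w) hh := by
  intro c hc
  set u : CliffordAlgebra (QuadGrp.baseChangeForm A Q) :=
    1 + e • (ι (QuadGrp.baseChangeForm A Q) w * ι (QuadGrp.baseChangeForm A Q) z) with hu
  set u' : CliffordAlgebra (QuadGrp.baseChangeForm A Q) :=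
    1 - e • (ι (QuadGrp.baseChangeForm A Q) w * ι (QuadGrp.baseChangeForm A Q) z) with hu'
  have huu' : u * u' = 1 := by
    rw [hu, hu']
    have h1 : ∀ x : CliffordAlgebra (QuadGrp.baseChangeForm A Q), (1 + x) * (1 - x) = 1 - x * x := fun x => by noncomm_ring
    rw [h1, smul_mul_smul_comm, he, zero_smul, sub_zero]
  have hueven : u ∈ CliffordAlgebra.even (QuadGrp.baseChangeForm A Q) := by
    rw [← Subalgebra.mem_toSubmodule, CliffordAlgebra.even_toSubmodule]
    exact Submodule.add_mem _ (SetLike.one_mem_graded _)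
      (Submodule.smul_mem _ _ (ι_mul_ι_mem_evenOdd_zero (QuadGrp.baseChangeForm A Q) w z))
  have hcomm : u * (c : CliffordAlgebra (QuadGrp.baseChangeForm A Q)) = (c : CliffordAlgebra (QuadGrp.baseChangeForm A Q)) * u := by
    have := Subalgebra.mem_center_iff.mp hc ⟨u, hueven⟩
    have := congrArg Subtype.val this
    simpa using this
  have hint := intertwine Q A e he z w hh (c : CliffordAlgebra (QuadGrp.baseChangeForm A Q))
  rw [← hu, hcomm] at hint
  have := congrArg (fun t => t * u') hint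
  simp only [mul_assoc, huu', mul_one] at this
  exact this.symm


end Dickson

section Misc


open TensorProduct QuadGrp CliffordAlgebra
variable {R : Type u} [CommRing R] {M : Type*} [AddCommGroup M] [Module R M]
variable (Q : QuadraticForm R M) (A : Type u) [CommRing A] [Algebra R A]

lemma baseChange_comm_of_scalar (g : M ≃ₗ[R] M) (c : R) (hc : ∀ v, g v = c • v)
    (h : (A ⊗[R] M) ≃ₗ[A] (A ⊗[R] M)) :
    g.baseChange R A M M * h = h * g.baseChange R A M M := by
  have key : ∀ y : A ⊗[R] M, g.baseChange R A M M y = c • y := by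
    intro y
    induction y using TensorProduct.induction_on with
    | zero => simp
    | tmul a m => simp [hc, TensorProduct.tmul_smul]
    | add x y hx hy => rw [map_add, hx, hy, smul_add]
  ext y
  rw [LinearEquiv.mul_apply, LinearEquiv.mul_apply, key, key]
  exact ((h : (A ⊗[R] M) →ₗ[A] (A ⊗[R] M)).map_smul_of_tower c y).symm

lemma sq_eq_one_of_span (g : M ≃ₗ[R] M) (hg : g ∈ QuadGrp.O Q) (c : R) (hc : ∀ v, g v = c • v)
    (hspan : Ideal.span (Set.range fun p : M × M => QuadraticMap.polar Q p.1 p.2) = ⊤) :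
    c * c = 1 := by
  have hv : ∀ v, (c * c) * Q v = Q v := by
    intro v
    have := hg v
    rw [hc, QuadraticMap.map_smul] at this
    simpa using this
  have hp : ∀ x y, (c * c - 1) * QuadraticMap.polar Q x y = 0 := by
    intro x y
    simp only [QuadraticMap.polar, mul_sub, sub_mul, one_mul, hv]
    ring
  have h1 : (1 : R) ∈ Ideal.span (Set.range fun p : M × M => QuadraticMap.polar Q p.1 p.2) := by
    rw [hspan]; trivial
  have h2 : ∀ r ∈ Ideal.span (Set.range fun p : M × M => QuadraticMap.polar Q p.1 p.2),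
      (c * c - 1) * r = 0 := by
    intro r hr
    induction hr using Submodule.span_induction with
    | mem x hx => obtain ⟨p, rfl⟩ := hx; exact hp _ _
    | zero => simp
    | add x y _ _ hx hy => rw [mul_add, hx, hy, add_zero]
    | smul a x _ hx => rw [smul_eq_mul, mul_left_comm, hx, mul_zero]
  have := h2 1 h1
  rw [mul_one] at this
  exact sub_eq_zero.mp this

lemma sq_eq_one_of_polar (g : M ≃ₗ[R] M) (hg : g ∈ QuadGrp.O Q) (c : R) (hc : ∀ v, g v = c • v)
    (x y : M) (hxy : QuadraticMap.polar Q x y = 1) : c * c = 1 := by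
  apply sq_eq_one_of_span Q g hg c hc
  have hmem : (1 : R) ∈ Set.range fun p : M × M => QuadraticMap.polar Q p.1 p.2 := ⟨(x, y), hxy⟩
  exact Ideal.eq_top_of_isUnit_mem _ (Ideal.subset_span hmem) isUnit_one


end Misc


section Det


open TensorProduct QuadGrp
variable {R : Type u} [CommRing R] {M : Type*} [AddCommGroup M] [Module R M] [Module.Free R M]
  [Module.Finite R M]
variable (Q : QuadraticForm R M) (A : Type u) [CommRing A] [Algebra R A]

lemma trace_Xop (z w : A ⊗[R] M) : LinearMap.trace A _ (Xop Q A z w) = 0 := by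
  unfold Xop
  have h := (LinearMap.trace A (A ⊗[R] M)).map_sub (((bpol Q A).flip z).smulRight w)
    (((bpol Q A).flip w).smulRight z)
  rw [LinearMap.trace_smulRight, LinearMap.trace_smulRight] at h
  simp only [LinearMap.flip_apply] at h
  rw [bpol_comm, sub_self] at h
  exact h

lemma det_infEquiv (e : A) (he : e * e = 0) (z w : A ⊗[R] M) :
    LinearEquiv.det (infEquiv Q A e he z w) = 1 := by
  apply Units.ext
  rw [LinearEquiv.coe_det, Units.val_one]
  let b := Module.Free.chooseBasis A (A ⊗[R] M)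
  have h1 : ((infEquiv Q A e he z w : (A ⊗[R] M) ≃ₗ[A] (A ⊗[R] M)) : (A ⊗[R] M) →ₗ[A] (A ⊗[R] M)) =
      LinearMap.id + e • Xop Q A z w := rfl
  rw [h1, ← LinearMap.det_toMatrix b, map_add, map_smul, LinearMap.toMatrix_id,
    Matrix.det_one_add_smul, ← LinearMap.trace_eq_matrix_trace, trace_Xop, pow_two, he]
  simp

lemma infEquiv_mem_sorth' (e : A) (he : e * e = 0) (z w : A ⊗[R] M) :
    infEquiv Q A e he z w ∈ QuadGrp.sorth' Q A :=
  ⟨infEquiv_mem_orth Q A e he z w, det_infEquiv Q A e he z w⟩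


end Det

section PolyKill


open Polynomial
variable {R : Type u} [CommRing R]

lemma poly_kill (D : R[X]) (m : ℕ) (hD : D.natDegree ≤ m) (N : ℕ) :
    ∀ (d : ℕ) (π : R[X]), (∀ j, d ≤ j → π.coeff j = 0) → D ^ N * π = 0 →
      ∃ N' : ℕ, C (D.coeff m ^ N') * π = 0 := by
  intro d
  induction d with
  | zero =>
    intro π hπ _
    refine ⟨0, ?_⟩
    have : π = 0 := Polynomial.ext fun j => by simpa using hπ j (Nat.zero_le _)
    rw [this, mul_zero]
  | succ d ih =>
    intro π hπ h
    have hnd : π.natDegree ≤ d := by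
      rw [Polynomial.natDegree_le_iff_coeff_eq_zero]
      intro j hj
      exact hπ j hj
    have hDN : (D ^ N).natDegree ≤ N * m := Polynomial.natDegree_pow_le_of_le N hD
    have hc := Polynomial.coeff_mul_add_eq_of_natDegree_le hDN hnd
    rw [h, Polynomial.coeff_zero, Polynomial.coeff_pow_of_natDegree_le hD] at hc
    obtain ⟨N'', hN''⟩ := ih (C (D.coeff m ^ N) * π) (by
      intro j hj
      rw [Polynomial.coeff_C_mul]
      rcases Nat.eq_or_lt_of_le hj with rfl | hlt
      · exact hc.symm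
      · rw [hπ j hlt, mul_zero]) (by
      rw [mul_left_comm, h, mul_zero])
    refine ⟨N'' + N, ?_⟩
    rw [pow_add, C_mul, mul_assoc]
    exact hN''


end PolyKill

section PolyVanish


open Polynomial
variable {R : Type u} [CommRing R]

/-- quadratic polynomial with coefficient matrix `β` -/
noncomputable def qpoly {n : ℕ} (β : Fin n → Fin n → R) : MvPolynomial (Fin n) R :=
  ∑ i, ∑ j, MvPolynomial.C (β i j) * MvPolynomial.X i * MvPolynomial.X j

lemma aeval_qpoly {n : ℕ} (β : Fin n → Fin n → R) {A : Type*} [CommRing A] [Algebra R A]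
    (w : Fin n → A) :
    MvPolynomial.aeval w (qpoly β) = ∑ i, ∑ j, algebraMap R A (β i j) * w i * w j := by
  simp [qpoly, MvPolynomial.aeval_C]

lemma qpoly_line {n : ℕ} (β : Fin n → Fin n → R) (w0 u : Fin n → R) :
    MvPolynomial.aeval (fun i => (C (w0 i) + X * C (u i) : R[X])) (qpoly β) =
      C (∑ i, ∑ j, β i j * w0 i * w0 j) + C (∑ i, ∑ j, β i j * (w0 i * u j + u i * w0 j)) * X +
        C (∑ i, ∑ j, β i j * u i * u j) * X ^ 2 := by
  rw [aeval_qpoly]
  simp only [map_sum, Finset.sum_mul, ← Finset.sum_add_distrib]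
  refine Finset.sum_congr rfl fun i _ => Finset.sum_congr rfl fun j _ => ?_
  simp only [Polynomial.algebraMap_eq, map_mul, map_add]
  ring

theorem poly_vanish {n : ℕ} (β : Fin n → Fin n → R) (p : MvPolynomial (Fin n) R)
    (hp : ∀ (A : Type u) [CommRing A] [Algebra R A] (w : Fin n → A),
      IsUnit (MvPolynomial.aeval w (qpoly β)) → MvPolynomial.aeval w p = 0)
    (hspan : Ideal.span (Set.range fun u : Fin n → R => MvPolynomial.eval u (qpoly β)) = ⊤)
    (w0 : Fin n → R) : MvPolynomial.eval w0 p = 0 := by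
  set r := MvPolynomial.eval w0 p with hr
  let I : Ideal R := (Submodule.span R {r}).annihilator
  have hrad : Ideal.span (Set.range fun u : Fin n → R => MvPolynomial.eval u (qpoly β)) ≤ I.radical := by
    rw [Ideal.span_le]
    rintro _ ⟨u, rfl⟩
    let f : Fin n → R[X] := fun i => C (w0 i) + X * C (u i)
    set D : R[X] := MvPolynomial.aeval f (qpoly β) with hD
    set π : R[X] := MvPolynomial.aeval f p with hπ
    have hDshape := qpoly_line β w0 u
    have hDdeg : D.natDegree ≤ 2 := by
      rw [hD, hDshape]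
      compute_degree
    have hDc : D.coeff 2 = MvPolynomial.eval u (qpoly β) := by
      have haux : ∀ a b c : R, (C a + C b * X + C c * X ^ 2 : R[X]).coeff 2 = c := by
        intro a b c
        simp [Polynomial.coeff_C, Polynomial.coeff_X]
      rw [hD, hDshape, haux, ← MvPolynomial.aeval_eq_eval, aeval_qpoly]
      simp
    let A := Localization.Away D
    let φ : R[X] →ₐ[R] A := IsScalarTower.toAlgHom R R[X] A
    have hφ : ∀ x, φ x = algebraMap R[X] A x := fun x => rfl
    have h1 := hp A (fun i => φ (f i)) (by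
      rw [← MvPolynomial.comp_aeval_apply, hφ]
      exact IsLocalization.Away.algebraMap_isUnit D)
    rw [← MvPolynomial.comp_aeval_apply, hφ, IsLocalization.map_eq_zero_iff (Submonoid.powers D)] at h1
    obtain ⟨⟨_, N, rfl⟩, hN⟩ := h1
    obtain ⟨N', hN'⟩ := poly_kill D 2 hDdeg N (π.natDegree + 1) π (fun j hj =>
      Polynomial.coeff_eq_zero_of_natDegree_lt (by omega)) hN
    have h0 := congrArg (fun q => Polynomial.coeff q 0) hN'
    simp only [Polynomial.coeff_C_mul, Polynomial.coeff_zero] at h0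
    have hπ0 : π.coeff 0 = r := by
      rw [Polynomial.coeff_zero_eq_aeval_zero, hπ, MvPolynomial.comp_aeval_apply, hr,
        ← MvPolynomial.aeval_eq_eval]
      have hf0 : (fun i => Polynomial.aeval (0 : R) (f i)) = w0 := by
        funext i
        simp [f]
      rw [hf0]
    rw [hπ0, hDc] at h0
    refine ⟨N', ?_⟩
    rw [Submodule.mem_annihilator_span_singleton]
    exact h0
  rw [hspan, top_le_iff, Ideal.radical_eq_top] at hrad
  have h1 : (1 : R) ∈ I := by rw [hrad]; trivial
  rw [Submodule.mem_annihilator_span_singleton, one_smul] at h1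
  exact h1


end PolyVanish

section SR


open TensorProduct QuadGrp
variable {R : Type u} [CommRing R]

section ScalarRefl
variable {n : ℕ} (Q : QuadraticForm R (Fin n → R))

/-- the ideal generated by the polar matrix entries other than the `(k,k)` entry -/
def Jideal (k : Fin n) : Ideal R :=
  Ideal.span {r | ∃ i a : Fin n, (i ≠ k ∨ a ≠ k) ∧
    r = QuadraticMap.polar Q (Pi.single i 1) (Pi.single a 1)}

lemma eq_zero_of_sq_kill (S : Set R) (hS : Ideal.span S = ⊤) (d : R)
    (h : ∀ r ∈ S, ∃ N : ℕ, r ^ N * d = 0) : d = 0 := by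
  let I : Ideal R := (Submodule.span R {d}).annihilator
  have hrad : Ideal.span S ≤ I.radical := by
    rw [Ideal.span_le]
    intro r hr
    obtain ⟨N, hN⟩ := h r hr
    exact ⟨N, by rw [Submodule.mem_annihilator_span_singleton]; exact hN⟩
  rw [hS, top_le_iff, Ideal.radical_eq_top] at hrad
  have h1 : (1 : R) ∈ I := by rw [hrad]; trivial
  rw [Submodule.mem_annihilator_span_singleton, one_smul] at h1
  exact h1

theorem scalar_of_refl (hn : 3 ≤ n) (hJ : ∀ k, Jideal Q k = ⊤)
    (g : (Fin n → R) ≃ₗ[R] (Fin n → R))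
    (h : ∀ x w : Fin n → R, QuadraticMap.polar Q x w • g w = QuadraticMap.polar Q (g x) w • w) :
    ∃ c : R, ∀ v, g v = c • v := by
  classical
  -- polarised identity
  have hpol : ∀ x w w' : Fin n → R, QuadraticMap.polar Q x w • g w' + QuadraticMap.polar Q x w' • g w =
      QuadraticMap.polar Q (g x) w • w' + QuadraticMap.polar Q (g x) w' • w := by
    intro x w w'
    have h1 := h x (w + w')
    have h2 := h x w
    have h3 := h x w'
    rw [QuadraticMap.polar_add_right, QuadraticMap.polar_add_right, map_add, add_smul, add_smul,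
      smul_add, smul_add, smul_add, smul_add, h2, h3] at h1
    have h4 : QuadraticMap.polar Q x w • g w' + QuadraticMap.polar Q x w' • g w +
        (QuadraticMap.polar Q (g x) w • w + QuadraticMap.polar Q (g x) w' • w') =
        QuadraticMap.polar Q (g x) w • w' + QuadraticMap.polar Q (g x) w' • w +
        (QuadraticMap.polar Q (g x) w • w + QuadraticMap.polar Q (g x) w' • w') := by
      rw [add_comm (QuadraticMap.polar Q x w • g w' + QuadraticMap.polar Q x w' • g w),
        add_comm (QuadraticMap.polar Q (g x) w • w' + QuadraticMap.polar Q (g x) w' • w)]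
      calc _ = QuadraticMap.polar Q (g x) w • w + QuadraticMap.polar Q x w • g w' +
            (QuadraticMap.polar Q x w' • g w + QuadraticMap.polar Q (g x) w' • w') := by abel
        _ = _ := h1
        _ = _ := by abel
    exact add_right_cancel h4
  -- (1)
  have h1 : ∀ (x : Fin n → R) (a k : Fin n), k ≠ a →
      QuadraticMap.polar Q x (Pi.single a 1) * g (Pi.single a 1) k = 0 := by
    intro x a k hka
    have := congrFun (h x (Pi.single a 1)) k
    simpa [Pi.single_eq_of_ne hka] using this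
  -- (3)
  have h3 : ∀ (x : Fin n → R) (a b k : Fin n), k ≠ a → k ≠ b →
      QuadraticMap.polar Q x (Pi.single a 1) * g (Pi.single b 1) k +
        QuadraticMap.polar Q x (Pi.single b 1) * g (Pi.single a 1) k = 0 := by
    intro x a b k hka hkb
    have := congrFun (hpol x (Pi.single a 1) (Pi.single b 1)) k
    simpa [Pi.single_eq_of_ne hka, Pi.single_eq_of_ne hkb] using this
  -- off-diagonal vanishing
  have hoff : ∀ k b : Fin n, k ≠ b → g (Pi.single b 1) k = 0 := by
    intro k b hkb
    apply eq_zero_of_sq_kill _ (hJ k)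
    rintro r ⟨i, a, hia, rfl⟩
    -- reduce to the case a ≠ k
    have key : ∀ i a : Fin n, a ≠ k →
        QuadraticMap.polar Q (Pi.single i 1) (Pi.single a 1) ^ 2 * g (Pi.single b 1) k = 0 := by
      intro i a hak
      have e1 := h3 (Pi.single i 1) a b k hak.symm hkb
      have e2 := h1 (Pi.single i 1) a k hak.symm
      have : QuadraticMap.polar Q (Pi.single i 1) (Pi.single a 1) ^ 2 * g (Pi.single b 1) k =
          QuadraticMap.polar Q (Pi.single i 1) (Pi.single a 1) *
            (QuadraticMap.polar Q (Pi.single i 1) (Pi.single a 1) * g (Pi.single b 1) k +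
              QuadraticMap.polar Q (Pi.single i 1) (Pi.single b 1) * g (Pi.single a 1) k) -
          QuadraticMap.polar Q (Pi.single i 1) (Pi.single b 1) *
            (QuadraticMap.polar Q (Pi.single i 1) (Pi.single a 1) * g (Pi.single a 1) k) := by ring
      rw [this, e1, e2, mul_zero, mul_zero, sub_zero]
    refine ⟨2, ?_⟩
    by_cases hak : a = k
    · subst hak
      have hik : i ≠ a := by tauto
      rw [QuadraticMap.polar_comm]
      exact key a i hik
    · exact key i a hak
  -- diagonal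
  have hd1 : ∀ (x : Fin n → R) (a b : Fin n), a ≠ b →
      QuadraticMap.polar Q x (Pi.single a 1) * (g (Pi.single a 1) a - g (Pi.single b 1) b) = 0 := by
    intro x a b hab
    have e1 := congrFun (h x (Pi.single a 1)) a
    have e2 := congrFun (hpol x (Pi.single a 1) (Pi.single b 1)) b
    simp only [Pi.smul_apply, smul_eq_mul, Pi.single_eq_same, mul_one, Pi.add_apply,
      Pi.single_eq_of_ne hab.symm, mul_zero, add_zero, hoff b a hab.symm] at e1 e2
    rw [mul_sub, e1, e2, sub_self]
  have hdiag : ∀ a b : Fin n, g (Pi.single a 1) a = g (Pi.single b 1) b := by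
    intro a b
    by_cases hab : a = b
    · subst hab; rfl
    have h0 : 0 < n := by omega
    rw [← sub_eq_zero]
    apply eq_zero_of_sq_kill _ (hJ ⟨0, h0⟩)
    rintro r ⟨i, j, -, rfl⟩
    refine ⟨1, ?_⟩
    rw [pow_one]
    by_cases hja : j = a
    · subst hja; exact hd1 _ j b hab
    by_cases hjb : j = b
    · subst hjb
      have := hd1 (Pi.single i 1) j a (Ne.symm hab)
      rw [← neg_sub, mul_neg, this, neg_zero]
    · have e1 := hd1 (Pi.single i 1) j a hja
      have e2 := hd1 (Pi.single i 1) j b hjb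
      have : g (Pi.single a 1) a - g (Pi.single b 1) b =
          (g (Pi.single j 1) j - g (Pi.single b 1) b) - (g (Pi.single j 1) j - g (Pi.single a 1) a) := by
        ring
      rw [this, mul_sub, e1, e2, sub_zero]
  have h0 : 0 < n := by omega
  refine ⟨g (Pi.single ⟨0, h0⟩ 1) ⟨0, h0⟩, eq_smul_of_basis g _ fun b => ?_⟩
  funext k
  by_cases hkb : k = b
  · subst hkb
    simp [hdiag k ⟨0, h0⟩]
  · rw [hoff k b hkb]
    simp [Pi.single_eq_of_ne hkb]

end ScalarRefl


end SR

section HD


open QuadGrp Groth.Agent.Helper8.HalfDisc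

section HDiag
variable {n : ℕ}

/-- universal diagonal coefficients -/
noncomputable def aDiag (n : ℕ) : Sym2 (Fin n) → MvPolynomial (Fin n) ℤ :=
  Sym2.lift ⟨fun i j => if i = j then MvPolynomial.X i else 0, fun i j => by
    by_cases h : i = j
    · subst h; rfl
    · simp [h, Ne.symm h]⟩

lemma aDiag_mk (i j : Fin n) : aDiag n s(i, j) = if i = j then MvPolynomial.X i else 0 := rfl

lemma H_aDiag (hodd : Odd n) : H (aDiag n) = 2 ^ (n - 1) * ∏ i, (MvPolynomial.X i : MvPolynomial (Fin n) ℤ) := by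
  have h1 : D (aDiag n) = 2 * H (aDiag n) := D_eq_two_H hodd _
  have h2 : D (aDiag n) = ∏ i, (2 * MvPolynomial.X i : MvPolynomial (Fin n) ℤ) := by
    rw [D_eq_det]
    have : pol (aDiag n) = Matrix.diagonal fun i => (2 * MvPolynomial.X i : MvPolynomial (Fin n) ℤ) := by
      ext k l
      simp only [pol, Matrix.of_apply, aDiag_mk, Matrix.diagonal_apply]
      by_cases h : k = l
      · subst h; simp
      · simp [h]
    rw [this, Matrix.det_diagonal]
  rw [Finset.prod_mul_distrib, Finset.prod_const, Finset.card_univ, Fintype.card_fin] at h2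
  have hn : n = (n - 1) + 1 := by
    obtain ⟨k, hk⟩ := hodd; omega
  rw [h1] at h2
  have h3 : (2 : MvPolynomial (Fin n) ℤ) * H (aDiag n) =
      2 * (2 ^ (n - 1) * ∏ i, (MvPolynomial.X i : MvPolynomial (Fin n) ℤ)) := by
    rw [h2]
    have hp : (2 : MvPolynomial (Fin n) ℤ) ^ n = 2 ^ (n - 1) * 2 := by
      rw [← pow_succ]; congr 1
    rw [hp]; ring
  exact mul_left_cancel₀ two_ne_zero h3

lemma H_diag {S : Type*} [CommRing S] (hodd : Odd n) (a : Sym2 (Fin n) → S)
    (ha : ∀ i j, i ≠ j → a s(i, j) = 0) : H a = 2 ^ (n - 1) * ∏ i, a s(i, i) := by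
  let φ : MvPolynomial (Fin n) ℤ →+* S :=
    MvPolynomial.eval₂Hom (Int.castRingHom S) (fun i => a s(i, i))
  have hφ : φ ∘ aDiag n = a := by
    funext s
    induction s using Sym2.ind with
    | _ i j =>
      rw [Function.comp_apply, aDiag_mk]
      by_cases h : i = j
      · subst h
        simp [φ]
      · rw [if_neg h, map_zero, ha i j h]
  have := map_H φ (aDiag n)
  rw [hφ, H_aDiag hodd] at this
  rw [← this]
  simp [φ]

end HDiag


end HD

section JJ


open QuadGrp Groth.Agent.Helper8.HalfDisc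
variable {R : Type u} [CommRing R] {n : ℕ}

theorem Jideal_eq_top (hn : 3 ≤ n) (hodd : Odd n) (Q : QuadraticForm R (Fin n → R))
    (hQ : QuadGrp.IsSemiregular (Pi.basisFun R (Fin n)) (LinearEquiv.refl R R) Q) (k : Fin n) :
    Jideal Q k = ⊤ := by
  set a := coeffs (Pi.basisFun R (Fin n)) (LinearEquiv.refl R R) Q with ha
  have hH : IsUnit (H a) := hQ
  let ψ := Ideal.Quotient.mk (Jideal Q k)
  have h1 : ψ (H a) = H (ψ ∘ a) := map_H ψ a
  have hoff : ∀ i j, i ≠ j → (ψ ∘ a) s(i, j) = 0 := by
    intro i j hij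
    rw [Function.comp_apply, ha, coeffs_mk, if_neg hij, Ideal.Quotient.eq_zero_iff_mem]
    apply Ideal.subset_span
    refine ⟨i, j, ?_, ?_⟩
    · by_contra hcon
      push Not at hcon
      exact hij (hcon.1.trans hcon.2.symm)
    · simp [Pi.basisFun_apply]
  have hdiag2 : ∀ i, i ≠ k → 2 * (ψ ∘ a) s(i, i) = 0 := by
    intro i hik
    rw [Function.comp_apply, ha, coeffs_mk, if_pos rfl, ← map_ofNat ψ 2, ← map_mul,
      Ideal.Quotient.eq_zero_iff_mem]
    apply Ideal.subset_span
    refine ⟨i, i, Or.inl hik, ?_⟩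
    rw [QuadraticMap.polar_self]
    simp [Pi.basisFun_apply]
  rw [H_diag hodd _ hoff] at h1
  obtain ⟨i0, hi0, -⟩ := exists_ne_ne hn k k
  have hz : (2 : R ⧸ Jideal Q k) ^ (n - 1) * ∏ i, (ψ ∘ a) s(i, i) = 0 := by
    rw [← Finset.mul_prod_erase Finset.univ _ (Finset.mem_univ i0)]
    have : n - 1 = (n - 2) + 1 := by omega
    rw [this, pow_succ]
    calc _ = 2 ^ (n - 2) * (2 * (ψ ∘ a) s(i0, i0)) *
          ∏ x ∈ Finset.univ.erase i0, (ψ ∘ a) s(x, x) := by ring
      _ = 0 := by rw [hdiag2 i0 hi0]; ring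
  rw [hz, Ideal.Quotient.eq_zero_iff_mem] at h1
  exact Ideal.eq_top_of_isUnit_mem _ h1 hH


end JJ

section RR


open TensorProduct QuadGrp
variable {R : Type u} [CommRing R] {M : Type*} [AddCommGroup M] [Module R M] [Module.Free R M]
variable (Q : QuadraticForm R M) (A : Type u) [CommRing A] [Algebra R A]

section Refl

variable (wt : A ⊗[R] M) (υ : Aˣ) (hυ : tau A (QuadGrp.baseChange A Q wt) = υ)

/-- the linear form `x ↦ υ⁻¹ β(x, w)` -/
noncomputable def reflForm : (A ⊗[R] M) →ₗ[A] A := (↑υ⁻¹ : A) • (bpol Q A).flip wt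

include hυ in
lemma reflForm_self : reflForm Q A wt υ wt = 2 := by
  simp only [reflForm, LinearMap.smul_apply, LinearMap.flip_apply, smul_eq_mul]
  rw [bpol_self, hυ]
  rw [mul_comm 2, ← mul_assoc, Units.inv_mul, one_mul]

/-- the reflection in `w` -/
noncomputable def refl : (A ⊗[R] M) ≃ₗ[A] (A ⊗[R] M) :=
  Module.reflection (reflForm_self Q A wt υ hυ)

lemma refl_apply (x : A ⊗[R] M) :
    refl Q A wt υ hυ x = x - ((↑υ⁻¹ : A) * bpol Q A x wt) • wt := by
  simp [refl, Module.reflection_apply, reflForm]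

lemma refl_mem_orth : refl Q A wt υ hυ ∈ QuadGrp.orth Q A := by
  intro x
  apply tau_injective
  have hx : x - ((↑υ⁻¹ : A) * bpol Q A x wt) • wt = x + (-((↑υ⁻¹ : A) * bpol Q A x wt)) • wt := by
    rw [sub_eq_add_neg]
    congr 1
    exact (neg_smul _ _).symm
  rw [refl_apply, hx, baseChange_add_smul, hυ]
  have : (↑υ⁻¹ : A) * υ = 1 := Units.inv_mul υ
  linear_combination (bpol Q A x wt * bpol Q A x wt * (↑υ⁻¹ : A)) * this

variable {Q A wt υ hυ} in
lemma refl_comm_consequence (g : (A ⊗[R] M) ≃ₗ[A] (A ⊗[R] M)) (c : A) (hcu : IsUnit c)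
    (hc : ∀ x, g (c • refl Q A wt υ hυ x) = c • refl Q A wt υ hυ (g x)) (x : A ⊗[R] M) :
    bpol Q A x wt • g wt = bpol Q A (g x) wt • wt := by
  have h1 := hc x
  rw [map_smul] at h1
  have h2 := (hcu.smul_left_cancel).mp h1
  rw [refl_apply, refl_apply, map_sub, map_smul] at h2
  have h3 := sub_right_injective h2
  have h4 := congrArg (fun y => (υ : A) • y) h3
  simp only [smul_smul, ← mul_assoc, Units.mul_inv, one_mul] at h4
  exact h4

end Refl


end RR

section CC


open TensorProduct QuadGrp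
variable {R : Type u} [CommRing R]

section Coord
variable {n : ℕ} (Q : QuadraticForm R (Fin n → R)) (A : Type u) [CommRing A] [Algebra R A]

variable (R) in
/-- the vector with coordinates `w` -/
noncomputable def vec (w : Fin n → A) : A ⊗[R] (Fin n → R) :=
  ∑ i, w i • ((1 : A) ⊗ₜ[R] (Pi.single i (1 : R) : Fin n → R))

/-- coefficient matrix from the bilinear lift -/
noncomputable def bcoef (i j : Fin n) : R :=
  QuadGrp.bilinLift Q (Pi.single i 1) (Pi.single j 1)

lemma tau_baseChange_vec (w : Fin n → A) :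
    tau A (QuadGrp.baseChange A Q (vec R A w)) = MvPolynomial.aeval w (qpoly (bcoef Q)) := by
  rw [aeval_qpoly]
  unfold QuadGrp.baseChange vec
  rw [LinearMap.BilinMap.toQuadraticMap_apply]
  simp only [map_sum, LinearMap.sum_apply, map_smul, LinearMap.smul_apply,
    LinearMap.BilinMap.baseChange_tmul, smul_eq_mul]
  conv_rhs => rw [Finset.sum_comm]
  refine Finset.sum_congr rfl fun j _ => ?_
  rw [Finset.mul_sum]
  refine Finset.sum_congr rfl fun i _ => ?_
  simp only [tau, LinearEquiv.coe_coe, AlgebraTensorModule.rid_tmul, mul_one, bcoef,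
    Algebra.algebraMap_eq_smul_one]
  ring

/-- linear form `B(m, ·)` as a polynomial -/
noncomputable def lform (m : Fin n → R) : MvPolynomial (Fin n) R :=
  ∑ j, MvPolynomial.C (QuadraticMap.polar Q m (Pi.single j 1)) * MvPolynomial.X j

lemma bpol_one_tmul_vec (m : Fin n → R) (w : Fin n → A) :
    bpol Q A (1 ⊗ₜ m) (vec R A w) = MvPolynomial.aeval w (lform Q m) := by
  unfold vec lform
  simp only [map_sum, map_smul, bpol_one_tmul, smul_eq_mul, map_mul, MvPolynomial.aeval_C,
    MvPolynomial.aeval_X]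
  refine Finset.sum_congr rfl fun j _ => mul_comm _ _

lemma eval_lform (m w0 : Fin n → R) :
    MvPolynomial.eval w0 (lform Q m) = QuadraticMap.polar Q m w0 := by
  classical
  unfold lform
  simp only [map_sum, map_mul, MvPolynomial.eval_C, MvPolynomial.eval_X]
  conv_rhs => rw [pi_eq_sum_univ' w0]
  change _ = QuadraticMap.polarBilin Q m _
  rw [map_sum]
  refine Finset.sum_congr rfl fun j _ => ?_
  rw [map_smul, smul_eq_mul, mul_comm]
  rfl

/-- coordinate functional on the base change -/
noncomputable def coord (k : Fin n) : A ⊗[R] (Fin n → R) →ₗ[A] A :=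
  tau A ∘ₗ LinearMap.baseChange A (LinearMap.proj k : (Fin n → R) →ₗ[R] R)

lemma coord_tmul (k : Fin n) (a : A) (m : Fin n → R) : coord (R := R) A k (a ⊗ₜ[R] m) = m k • a := by
  simp [coord, tau]

lemma coord_vec (k : Fin n) (w : Fin n → A) : coord (R := R) A k (vec R A w) = w k := by
  classical
  unfold vec
  simp only [map_sum, map_smul, coord_tmul, smul_eq_mul]
  rw [Finset.sum_eq_single k]
  · simp
  · intro b _ hb
    simp [Pi.single_eq_of_ne hb.symm]
  · simp

/-- `k`-th coordinate of `g` as a polynomial -/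
noncomputable def gform (g : (Fin n → R) ≃ₗ[R] (Fin n → R)) (k : Fin n) : MvPolynomial (Fin n) R :=
  ∑ j, MvPolynomial.C (g (Pi.single j 1) k) * MvPolynomial.X j

lemma coord_g_vec (g : (Fin n → R) ≃ₗ[R] (Fin n → R)) (k : Fin n) (w : Fin n → A) :
    coord (R := R) A k (g.baseChange R A _ _ (vec R A w)) = MvPolynomial.aeval w (gform g k) := by
  unfold vec gform
  simp only [map_sum, map_smul, LinearEquiv.baseChange_tmul, coord_tmul, smul_eq_mul, map_mul,
    MvPolynomial.aeval_C, MvPolynomial.aeval_X]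
  refine Finset.sum_congr rfl fun j _ => ?_
  rw [Algebra.algebraMap_eq_smul_one, mul_comm]

lemma eval_gform (g : (Fin n → R) ≃ₗ[R] (Fin n → R)) (k : Fin n) (w0 : Fin n → R) :
    MvPolynomial.eval w0 (gform g k) = g w0 k := by
  classical
  unfold gform
  simp only [map_sum, map_mul, MvPolynomial.eval_C, MvPolynomial.eval_X]
  conv_rhs => rw [pi_eq_sum_univ' w0]
  simp only [map_sum, map_smul, Finset.sum_apply, Pi.smul_apply, smul_eq_mul]
  refine Finset.sum_congr rfl fun j _ => mul_comm _ _

lemma eval_qpoly_bcoef (u : Fin n → R) : MvPolynomial.eval u (qpoly (bcoef Q)) = Q u := by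
  classical
  rw [← MvPolynomial.aeval_eq_eval, aeval_qpoly]
  conv_rhs => rw [← QuadGrp.bilinLift_spec Q, LinearMap.BilinMap.toQuadraticMap_apply,
    pi_eq_sum_univ' u]
  simp only [map_sum, LinearMap.sum_apply, map_smul, LinearMap.smul_apply, smul_eq_mul]
  conv_lhs => rw [Finset.sum_comm]
  refine Finset.sum_congr rfl fun j _ => ?_
  rw [Finset.mul_sum]
  refine Finset.sum_congr rfl fun i _ => ?_
  simp only [bcoef, Algebra.algebraMap_self, RingHom.id_apply]
  ring

end Coord


end CC


section RRel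


open TensorProduct QuadGrp
variable {R : Type u} [CommRing R] {n : ℕ} (Q : QuadraticForm R (Fin n → R))

theorem refl_relation (g : (Fin n → R) ≃ₗ[R] (Fin n → R))
    (hspan : Ideal.span (Set.range fun u : Fin n → R => Q u) = ⊤)
    (H : ∀ (A : Type u) [CommRing A] [Algebra R A] (wt : A ⊗[R] (Fin n → R)) (υ : Aˣ)
        (hυ : tau A (QuadGrp.baseChange A Q wt) = υ),
        ∃ c : A, IsUnit c ∧ ∀ x, g.baseChange R A _ _ (c • refl Q A wt υ hυ x) =
          c • refl Q A wt υ hυ (g.baseChange R A _ _ x))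
    (m w0 : Fin n → R) :
    QuadraticMap.polar Q m w0 • g w0 = QuadraticMap.polar Q (g m) w0 • w0 := by
  funext k
  let p : MvPolynomial (Fin n) R := lform Q m * gform g k - lform Q (g m) * MvPolynomial.X k
  have hv := poly_vanish (bcoef Q) p (by
    intro A _ _ w hu
    have hυ : tau A (QuadGrp.baseChange A Q (vec R A w)) = ↑(hu.unit) := by
      rw [tau_baseChange_vec]; rfl
    obtain ⟨c, hcu, hc⟩ := H A (vec R A w) hu.unit hυ
    have h1 := refl_comm_consequence (g.baseChange R A _ _) c hcu hc (1 ⊗ₜ m)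
    have h2 := congrArg (coord (R := R) A k) h1
    rw [map_smul, map_smul, coord_g_vec, coord_vec, LinearEquiv.baseChange_tmul, bpol_one_tmul_vec,
      bpol_one_tmul_vec] at h2
    simp only [p, map_sub, map_mul, MvPolynomial.aeval_X]
    rw [sub_eq_zero]
    exact h2) (by
    convert hspan using 3
    funext u
    exact eval_qpoly_bcoef Q u) w0
  simp only [p, map_sub, map_mul, eval_lform, eval_gform, MvPolynomial.eval_X] at hv
  simpa [sub_eq_zero] using hv

section SRefl

variable (A : Type u) [CommRing A] [Algebra R A]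
variable (wt : A ⊗[R] (Fin n → R)) (υ : Aˣ) (hυ : tau A (QuadGrp.baseChange A Q wt) = υ)

lemma det_refl_sq : LinearEquiv.det (refl Q A wt υ hυ) * LinearEquiv.det (refl Q A wt υ hυ) = 1 := by
  rw [← map_mul]
  have : refl Q A wt υ hυ * refl Q A wt υ hυ = 1 := by
    ext x
    exact Module.involutive_reflection (reflForm_self Q A wt υ hυ) x
  rw [this, map_one]

/-- the reflection scaled by its determinant -/
noncomputable def sRefl : (A ⊗[R] (Fin n → R)) ≃ₗ[A] (A ⊗[R] (Fin n → R)) :=
  LinearEquiv.smulOfUnit (LinearEquiv.det (refl Q A wt υ hυ)) * refl Q A wt υ hυ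

lemma sRefl_apply (x : A ⊗[R] (Fin n → R)) :
    sRefl Q A wt υ hυ x = ((LinearEquiv.det (refl Q A wt υ hυ) : Aˣ) : A) • refl Q A wt υ hυ x := rfl

lemma sRefl_mem_orth : sRefl Q A wt υ hυ ∈ QuadGrp.orth Q A := by
  intro x
  rw [sRefl_apply, QuadraticMap.map_smul, ← Units.val_mul, det_refl_sq, Units.val_one, one_smul]
  exact refl_mem_orth Q A wt υ hυ x

lemma det_sRefl (hodd : Odd n) : LinearEquiv.det (sRefl Q A wt υ hυ) = 1 := by
  rcases subsingleton_or_nontrivial A with hA | hA
  · exact Subsingleton.elim _ _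
  haveI : Nontrivial R := (algebraMap R A).domain_nontrivial
  unfold sRefl
  rw [map_mul]
  have h1 : LinearEquiv.det (LinearEquiv.smulOfUnit (M := A ⊗[R] (Fin n → R))
      (LinearEquiv.det (refl Q A wt υ hυ))) = (LinearEquiv.det (refl Q A wt υ hυ)) ^ n := by
    apply Units.ext
    rw [LinearEquiv.coe_det, Units.val_pow_eq_pow_val]
    have h2 : (↑(LinearEquiv.smulOfUnit (M := A ⊗[R] (Fin n → R))
        (LinearEquiv.det (refl Q A wt υ hυ))) :
          (A ⊗[R] (Fin n → R)) →ₗ[A] (A ⊗[R] (Fin n → R))) =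
        ((LinearEquiv.det (refl Q A wt υ hυ) : Aˣ) : A) • LinearMap.id := by
      ext x
      rfl
    rw [h2, LinearMap.det_smul, LinearMap.det_id, mul_one, Module.finrank_baseChange,
      Module.finrank_fin_fun]
  rw [h1, ← pow_succ]
  obtain ⟨j, hj⟩ := hodd
  have hn1 : n + 1 = 2 * (j + 1) := by omega
  rw [hn1, pow_mul, pow_two, det_refl_sq, one_pow]

lemma sRefl_mem_sorth' (hodd : Odd n) : sRefl Q A wt υ hυ ∈ QuadGrp.sorth' Q A :=
  ⟨sRefl_mem_orth Q A wt υ hυ, det_sRefl Q A wt υ hυ hodd⟩

end SRefl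


end RRel

section Main


open TensorProduct QuadGrp
variable {R : Type u} [CommRing R] {n : ℕ} (Q : QuadraticForm R (Fin n → R))

open DualNumber in
theorem centre_main (hn : 3 ≤ n)
    (hQ : QuadGrp.IsNondeg (Pi.basisFun R (Fin n)) (LinearEquiv.refl R R) Q)
    (g : (Fin n → R) ≃ₗ[R] (Fin n → R)) (hgO : g ∈ QuadGrp.O Q)
    (Heven : Even n → ∀ z w : Fin n → R, g.baseChange R (DualNumber R) _ _ *
        infEquiv Q (DualNumber R) ε DualNumber.eps_mul_eps (1 ⊗ₜ z) (1 ⊗ₜ w) =
      infEquiv Q (DualNumber R) ε DualNumber.eps_mul_eps (1 ⊗ₜ z) (1 ⊗ₜ w) *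
        g.baseChange R (DualNumber R) _ _)
    (Hodd : Odd n → ∀ (A : Type u) [CommRing A] [Algebra R A] (wt : A ⊗[R] (Fin n → R)) (υ : Aˣ)
        (hυ : tau A (QuadGrp.baseChange A Q wt) = υ),
        ∃ c : A, IsUnit c ∧ ∀ x, g.baseChange R A _ _ (c • refl Q A wt υ hυ x) =
          c • refl Q A wt υ hυ (g.baseChange R A _ _ x)) :
    ∃ c : R, c * c = 1 ∧ ∀ v, g v = c • v := by
  rcases Nat.even_or_odd n with he | ho
  · have hreg := hQ.1 he
    have hlie : ∀ x z w : Fin n → R,
        QuadraticMap.polar Q x z • g w - QuadraticMap.polar Q x w • g z =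
          QuadraticMap.polar Q (g x) z • w - QuadraticMap.polar Q (g x) w • z :=
      fun x z w => lie_comm_of_comm g z w (Heven he z w) x
    obtain ⟨c, hc⟩ := scalar_of_lie Q hn hreg.2 g hlie
    refine ⟨c, ?_, hc⟩
    obtain ⟨x, hx⟩ := hreg.2 (LinearMap.proj ⟨0, by omega⟩)
    refine sq_eq_one_of_polar Q g hgO c hc x (Pi.single ⟨0, by omega⟩ 1) ?_
    have := congrArg (fun f => f (Pi.single ⟨0, by omega⟩ 1)) hx
    simpa using this
  · have hsr := hQ.2 ho
    have hJ : ∀ k, Jideal Q k = ⊤ := fun k => Jideal_eq_top hn ho Q hsr k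
    have hspanP : Ideal.span (Set.range fun p : (Fin n → R) × (Fin n → R) =>
        QuadraticMap.polar Q p.1 p.2) = ⊤ := by
      rw [← top_le_iff, ← hJ ⟨0, by omega⟩]
      unfold Jideal
      rw [Ideal.span_le]
      rintro r ⟨i, a, -, rfl⟩
      exact Ideal.subset_span ⟨(Pi.single i 1, Pi.single a 1), rfl⟩
    have hspanQ : Ideal.span (Set.range fun u : Fin n → R => Q u) = ⊤ := by
      rw [← top_le_iff, ← hspanP, Ideal.span_le]
      rintro r ⟨p, rfl⟩
      have hm : ∀ u, Q u ∈ Ideal.span (Set.range fun u : Fin n → R => Q u) :=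
        fun u => Ideal.subset_span ⟨u, rfl⟩
      exact Ideal.sub_mem _ (Ideal.sub_mem _ (hm _) (hm _)) (hm _)
    have hrel := refl_relation Q g hspanQ (Hodd ho)
    obtain ⟨c, hc⟩ := scalar_of_refl Q hn hJ g hrel
    exact ⟨c, sq_eq_one_of_span Q g hgO c hc hspanP, hc⟩


end Main

end Groth.Agent.Helper8.QuadCentre
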