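import Mathlib
import Groth.Prelude.Def_QuadGrp
import Groth.Agent.Helper8.HDBlock
import Groth.Agent.Helper8.QuadCentre
set_option autoImplicit false

namespace Groth.Agent.Helper8.HDNondeg

open QuadGrp Matrix Groth.Agent.Helper8.HalfDisc Groth.Agent.Helper8.HDBlock

section Field

variable {K : Type*} [Field K] {V : Type*} [AddCommGroup V] [Module K V] {N : ℕ}
variable (b : Module.Basis (Fin (N + 1)) K V) (Q : QuadraticForm K V)

/-- Gram matrix of the polar form -/
noncomputable def J : Matrix (Fin (N + 1)) (Fin (N + 1)) K :=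
  Matrix.of fun i j => QuadraticMap.polar Q (b i) (b j)

lemma mem_ker_iff (x : V) :
    (∀ y, QuadraticMap.polar Q x y = 0) ↔ ∀ j, QuadraticMap.polar Q x (b j) = 0 := by
  constructor
  · intro h j; exact h _
  · intro h y
    have h1 : QuadraticMap.polarBilin Q x = 0 := b.ext (fun j => by simpa using h j)
    have h2 := LinearMap.congr_fun h1 y
    simpa using h2

lemma polar_expand (x : V) (j : Fin (N + 1)) :
    QuadraticMap.polar Q x (b j) = ∑ i, b.repr x i * J b Q i j := by
  conv_lhs => rw [← b.sum_repr x]
  have h1 : ∀ z, QuadraticMap.polar Q z (b j) = (QuadraticMap.polarBilin Q).flip (b j) z :=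
    fun z => rfl
  rw [h1, map_sum]
  simp [J]

lemma polar_expand_right (w : V) (c : Fin (N + 1) → K) :
    QuadraticMap.polar Q w (∑ j, c j • b j) = ∑ j, c j * QuadraticMap.polar Q w (b j) := by
  have h1 : ∀ z, QuadraticMap.polar Q w z = (QuadraticMap.polarBilin Q) w z := fun z => rfl
  rw [h1, map_sum]
  simp

lemma polar_succAbove (i0 : Fin (N + 1)) (x : V) (hx0 : b.repr x i0 = 0) (j' : Fin N) :
    QuadraticMap.polar Q x (b (i0.succAbove j')) =
      (Matrix.vecMul (fun i' => b.repr x (i0.succAbove i'))
        ((J b Q).submatrix i0.succAbove i0.succAbove)) j' := by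
  rw [polar_expand, Fin.sum_univ_succAbove _ i0, hx0, zero_mul, zero_add]
  simp [Matrix.vecMul, dotProduct]

lemma exists_repr_ne_zero (x : V) (hx : x ≠ 0) : ∃ i0, b.repr x i0 ≠ 0 := by
  by_contra hall
  push Not at hall
  apply hx
  apply b.repr.map_eq_zero_iff.mp
  ext i
  simpa using hall i

lemma eq_zero_of_repr (i0 : Fin (N + 1)) (x : V) (h0 : b.repr x i0 = 0)
    (h1 : ∀ i', b.repr x (i0.succAbove i') = 0) : x = 0 := by
  apply b.repr.map_eq_zero_iff.mp
  ext i
  rcases Fin.eq_self_or_eq_succAbove i0 i with rfl | ⟨i', rfl⟩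
  · simpa using h0
  · simpa using h1 i'

theorem nondeg_of_ne_zero (hn : Odd (N + 1))
    (h : halfDisc b (LinearEquiv.refl K K) Q ≠ 0) : Q.Nondegenerate := by
  constructor
  · rw [Submodule.eq_bot_iff]
    intro x hx
    by_contra hx0
    obtain ⟨i0, hi0⟩ := exists_repr_ne_zero b x hx0
    have hx' : Q x = 0 ∧ QuadraticMap.polarBilin Q x = 0 := hx
    have hker : ∀ y, QuadraticMap.polar Q x y = 0 := fun y => by
      have := LinearMap.congr_fun hx'.2 y
      simpa using this
    have h1 := halfDisc_mul_sq hn b Q x hker i0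
    rw [hx'.1, zero_mul] at h1
    rcases mul_eq_zero.mp h1 with h2 | h2
    · exact hi0 (pow_eq_zero_iff two_ne_zero |>.mp h2)
    · exact h h2
  · rw [rank_le_one_iff]
    by_cases hex : ∃ v : LinearMap.ker (QuadraticMap.polarBilin Q), v ≠ 0
    · obtain ⟨v, hv⟩ := hex
      refine ⟨v, fun w => ?_⟩
      have hker : ∀ z : LinearMap.ker (QuadraticMap.polarBilin Q),
          ∀ y, QuadraticMap.polar Q (z : V) y = 0 := fun z y => by
        have h5 := LinearMap.congr_fun (LinearMap.mem_ker.mp z.2) y
        exact h5
      have hv0 : (v : V) ≠ 0 := fun h0 => hv (Subtype.ext h0)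
      obtain ⟨i0, hi0⟩ := exists_repr_ne_zero b (v : V) hv0
      have hBI := halfDisc_mul_sq hn b Q (v : V) (hker v) i0
      have hdet : ((J b Q).submatrix i0.succAbove i0.succAbove).det ≠ 0 := by
        intro h0
        have h3 : (Matrix.of fun i j => QuadraticMap.polar Q (b i) (b j)) = J b Q := rfl
        rw [h3, h0, mul_zero] at hBI
        rcases mul_eq_zero.mp hBI with h2 | h2
        · exact hi0 (pow_eq_zero_iff two_ne_zero |>.mp h2)
        · exact h h2
      set r : K := b.repr (w : V) i0 / b.repr (v : V) i0 with hr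
      refine ⟨r, ?_⟩
      set w' : V := (w : V) - r • (v : V) with hw'
      have hw'ker : ∀ y, QuadraticMap.polar Q w' y = 0 := by
        intro y
        have hmem : w' ∈ LinearMap.ker (QuadraticMap.polarBilin Q) :=
          Submodule.sub_mem _ w.2 (Submodule.smul_mem _ r v.2)
        exact hker ⟨w', hmem⟩ y
      have hw'0 : b.repr w' i0 = 0 := by
        rw [hw', map_sub, map_smul, Finsupp.sub_apply, Finsupp.smul_apply, smul_eq_mul, hr,
          div_mul_cancel₀ _ hi0, sub_self]
      have hvm : Matrix.vecMul (fun i' => b.repr w' (i0.succAbove i'))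
          ((J b Q).submatrix i0.succAbove i0.succAbove) = 0 := by
        ext j'
        rw [← polar_succAbove b Q i0 w' hw'0 j']
        exact hw'ker _
      have he := Matrix.eq_zero_of_vecMul_eq_zero hdet hvm
      have hzero : w' = 0 := eq_zero_of_repr b i0 w' hw'0 (fun i' => congrFun he i')
      apply Subtype.ext
      rw [Submodule.coe_smul]
      exact (sub_eq_zero.mp hzero).symm
    · push Not at hex
      exact ⟨0, fun w => ⟨0, by rw [hex w]; simp⟩⟩

theorem ne_zero_of_nondeg (hn : Odd (N + 1)) (hQ : Q.Nondegenerate) :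
    halfDisc b (LinearEquiv.refl K K) Q ≠ 0 := by
  have hpol : pol (coeffs b (LinearEquiv.refl K K) Q) = J b Q := by
    ext i j
    simp only [pol, J, Matrix.of_apply, coeffs_mk, LinearEquiv.refl_apply]
    by_cases hij : i = j
    · subst hij
      rw [if_pos rfl, if_pos rfl, QuadraticMap.polar_self, two_smul, two_mul]
    · rw [if_neg hij, if_neg hij]
  by_cases hdet : (J b Q).det = 0
  · obtain ⟨c, hc0, hc⟩ := Matrix.exists_vecMul_eq_zero_iff.mpr hdet
    set u : V := ∑ j, c j • b j with hu
    have hrepr : ∀ i, b.repr u i = c i := by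
      intro i
      rw [hu, map_sum, Finsupp.finsetSum_apply]
      simp [Finsupp.single_apply]
    have huker : ∀ y, QuadraticMap.polar Q u y = 0 := by
      rw [mem_ker_iff b]
      intro j
      rw [polar_expand]
      simp_rw [hrepr]
      exact congrFun hc j
    obtain ⟨i0, hi0⟩ : ∃ i0, c i0 ≠ 0 := by
      by_contra hall
      push Not at hall
      exact hc0 (funext hall)
    have hu0 : u ≠ 0 := by
      intro h0
      apply hi0
      rw [← hrepr, h0]
      simp
    have hQu : Q u ≠ 0 := by
      intro h0
      have hmem : u ∈ Q.radical := by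
        refine ⟨h0, ?_⟩
        ext y
        simpa using huker y
      rw [hQ.radical_eq_bot] at hmem
      exact hu0 ((Submodule.mem_bot K).mp hmem)
    have hminor : ((J b Q).submatrix i0.succAbove i0.succAbove).det ≠ 0 := by
      intro h0
      obtain ⟨e, he0, he⟩ := Matrix.exists_vecMul_eq_zero_iff.mpr h0
      set w : V := ∑ i', e i' • b (i0.succAbove i') with hw
      have hwrepr0 : b.repr w i0 = 0 := by
        rw [hw, map_sum, Finsupp.finsetSum_apply]
        apply Finset.sum_eq_zero
        intro i' _
        rw [map_smul, Module.Basis.repr_self, Finsupp.smul_apply, Finsupp.single_apply,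
          if_neg (Fin.succAbove_ne i0 i'), smul_zero]
      have hwrepr : ∀ i', b.repr w (i0.succAbove i') = e i' := by
        intro i'
        rw [hw, map_sum, Finsupp.finsetSum_apply, Finset.sum_eq_single i']
        · rw [map_smul, Module.Basis.repr_self, Finsupp.smul_apply, Finsupp.single_apply,
            if_pos rfl, smul_eq_mul, mul_one]
        · intro j' _ hj
          rw [map_smul, Module.Basis.repr_self, Finsupp.smul_apply, Finsupp.single_apply,
            if_neg (fun h => hj (Fin.succAbove_right_injective h)), smul_zero]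
        · intro h; exact absurd (Finset.mem_univ _) h
      have hw1 : ∀ j', QuadraticMap.polar Q w (b (i0.succAbove j')) = 0 := by
        intro j'
        rw [polar_succAbove b Q i0 w hwrepr0]
        simp_rw [hwrepr]
        exact congrFun he j'
      have hw2 : QuadraticMap.polar Q w u = 0 := by
        rw [QuadraticMap.polar_comm]; exact huker w
      have hw3 : QuadraticMap.polar Q w (b i0) = 0 := by
        rw [hu, polar_expand_right, Fin.sum_univ_succAbove _ i0] at hw2
        simp only [hw1, mul_zero, Finset.sum_const_zero, add_zero] at hw2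
        exact (mul_eq_zero.mp hw2).resolve_left hi0
      have hwker : ∀ y, QuadraticMap.polar Q w y = 0 := by
        rw [mem_ker_iff b]
        intro j
        rcases Fin.eq_self_or_eq_succAbove i0 j with rfl | ⟨j', rfl⟩
        · exact hw3
        · exact hw1 j'
      have hmemu : u ∈ LinearMap.ker (QuadraticMap.polarBilin Q) := by
        rw [LinearMap.mem_ker]; ext y; simpa using huker y
      have hmemw : w ∈ LinearMap.ker (QuadraticMap.polarBilin Q) := by
        rw [LinearMap.mem_ker]; ext y; simpa using hwker y
      obtain ⟨v₀, hv₀⟩ := rank_le_one_iff.mp hQ.rank_rad_polar_le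
      obtain ⟨r, hr⟩ := hv₀ ⟨u, hmemu⟩
      obtain ⟨s, hs⟩ := hv₀ ⟨w, hmemw⟩
      have hr' : r • (v₀ : V) = u := congrArg Subtype.val hr
      have hs' : s • (v₀ : V) = w := congrArg Subtype.val hs
      have h1 : s • u = r • w := by rw [← hr', ← hs', smul_smul, smul_smul, mul_comm]
      have h2 := congrArg (fun z => b.repr z i0) h1
      simp only [map_smul, Finsupp.smul_apply, smul_eq_mul, hrepr, hwrepr0, mul_zero] at h2
      have hs0 : s = 0 := (mul_eq_zero.mp h2).resolve_right hi0
      have hw0 : w = 0 := by rw [← hs', hs0, zero_smul]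
      apply he0
      funext i'
      rw [← hwrepr i', hw0]
      simp
    have hBI := halfDisc_mul_sq hn b Q u huker i0
    intro h0
    rw [h0, mul_zero] at hBI
    exact (mul_ne_zero hQu hminor) hBI.symm
  · intro h0
    apply hdet
    have h1 : D (coeffs b (LinearEquiv.refl K K) Q) = 2 * H (coeffs b (LinearEquiv.refl K K) Q) :=
      D_eq_two_H hn _
    rw [D_eq_det, hpol] at h1
    rw [h1]
    have h2 : H (coeffs b (LinearEquiv.refl K K) Q) = halfDisc b (LinearEquiv.refl K K) Q := rfl
    rw [h2, h0, mul_zero]

end Field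

section Assemble

universe u v
variable {R : Type u} [CommRing R] {M : Type v} [AddCommGroup M] [Module R M] [Module.Free R M]

lemma isUnit_iff_residue (a : R) :
    IsUnit a ↔ ∀ (p : Ideal R) [p.IsPrime], algebraMap R p.ResidueField a ≠ 0 := by
  constructor
  · intro h p _
    exact (h.map (algebraMap R p.ResidueField)).ne_zero
  · intro h
    by_contra hu
    obtain ⟨m, hm, ham⟩ := exists_max_ideal_of_mem_nonunits hu
    have := hm.isPrime
    exact h m (Ideal.algebraMap_residueField_eq_zero.mpr ham)

lemma coeffs_baseChange (A : Type u) [CommRing A] [Algebra R A] {n : ℕ}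
    (b : Module.Basis (Fin n) R M) (Q : QuadraticForm R M) :
    coeffs (b.baseChange A) (LinearEquiv.refl A A) (baseChangeForm A Q) =
      algebraMap R A ∘ coeffs b (LinearEquiv.refl R R) Q := by
  funext s
  induction s using Sym2.ind with
  | _ i j =>
    rw [coeffs_mk, Function.comp_apply, coeffs_mk]
    simp only [LinearEquiv.refl_apply, Module.Basis.baseChange_apply]
    split_ifs with h
    · simp [baseChangeForm, baseChange_tmul, Algebra.algebraMap_eq_smul_one]
    · rw [QuadCentre.polar_baseChangeForm, QuadCentre.bpol_one_tmul]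

lemma halfDisc_baseChange (A : Type u) [CommRing A] [Algebra R A] {n : ℕ}
    (b : Module.Basis (Fin n) R M) (Q : QuadraticForm R M) :
    halfDisc (b.baseChange A) (LinearEquiv.refl A A) (baseChangeForm A Q) =
      algebraMap R A (halfDisc b (LinearEquiv.refl R R) Q) := by
  have h1 : halfDisc (b.baseChange A) (LinearEquiv.refl A A) (baseChangeForm A Q) =
      H (coeffs (b.baseChange A) (LinearEquiv.refl A A) (baseChangeForm A Q)) := rfl
  have h2 : halfDisc b (LinearEquiv.refl R R) Q = H (coeffs b (LinearEquiv.refl R R) Q) := rfl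
  rw [h1, h2, map_H, coeffs_baseChange]

theorem fieldCase (K : Type u) [Field K] [Algebra R K] (m : ℕ)
    (b : Module.Basis (Fin (2 * m + 1)) R M) (Q : QuadraticForm R M) :
    algebraMap R K (QuadGrp.halfDisc b (LinearEquiv.refl R R) Q) ≠ 0 ↔
        QuadraticMap.Nondegenerate (Q := QuadGrp.baseChangeForm K Q) := by
  have hodd : Odd (2 * m + 1) := ⟨m, rfl⟩
  rw [← halfDisc_baseChange]
  constructor
  · intro h
    exact nondeg_of_ne_zero (b.baseChange K) (baseChangeForm K Q) hodd h
  · intro h
    exact ne_zero_of_nondeg (b.baseChange K) (baseChangeForm K Q) hodd h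

theorem main (m : ℕ) (b : Module.Basis (Fin (2 * m + 1)) R M) (Q : QuadraticForm R M) :
    IsUnit (QuadGrp.halfDisc b (LinearEquiv.refl R R) Q) ↔
      ∀ (p : Ideal R) [p.IsPrime],
        QuadraticMap.Nondegenerate (Q := QuadGrp.baseChangeForm p.ResidueField Q) := by
  rw [isUnit_iff_residue]
  refine forall_congr' fun p => forall_congr' fun hp => ?_
  exact fieldCase p.ResidueField m b Q

end Assemble

end Groth.Agent.Helper8.HDNondeg
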