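import Mathlib
import Groth.Agent.Lead.FlatUnivH

set_option autoImplicit false
set_option linter.unusedSectionVars false
set_option linter.unusedVariables false
open TensorProduct Function LinearMap IsLocalRing
universe u

/-!
# Valuative criterion of flatness: nilradical filtration step

Auxiliary algebra for the valuative criterion of flatness over a reduced Noetherian base.
* `AwayFlat a M`: `M` becomes flat after inverting `a` (torsion form).
* `step`: square-zero step of the nilradical filtration.
* `flat_of_torsionFlat_nilradical`: flatness modulo the nilradical plus flatness on the punctured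
  spectrum plus depth `≥ 1` gives flatness.
-/

namespace Groth.Agent.Helper8.ValFlatA

open Groth.Agent.Helper2.AdicFlat Groth.Agent.Helper2.FlatCL1 Groth.Agent.Helper2.FlatCL2
  Groth.Agent.Helper2.FlatCL4

section Basic
variable {R : Type u} [CommRing R]

/-- `M` becomes flat after inverting `a`, in torsion form. -/
def AwayFlat (a : R) (M : Type u) [AddCommGroup M] [Module R M] : Prop :=
  ∀ (X Y : Type u) [AddCommGroup X] [Module R X] [AddCommGroup Y] [Module R Y]
    (ι : X →ₗ[R] Y), Injective ι → ∀ t : M ⊗[R] X, lTensor M ι t = 0 → ∃ n : ℕ, a ^ n • t = 0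

lemma awayFlat_of_flat (a : R) (M : Type u) [AddCommGroup M] [Module R M] [Module.Flat R M] :
    AwayFlat a M := by
  intro X Y _ _ _ _ ι hι t ht
  refine ⟨0, ?_⟩
  have hinj := Module.Flat.lTensor_preserves_injective_linearMap (M := M) ι hι
  have : t = 0 := hinj (by rw [ht, map_zero])
  rw [this, smul_zero]

lemma awayFlat_of_flat_localized (a : R) (M : Type u) [AddCommGroup M] [Module R M]
    [Module.Flat R (LocalizedModule (Submonoid.powers a) M)] : AwayFlat a M := by
  intro X Y _ _ _ _ ι hι t ht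
  let g := LocalizedModule.mkLinearMap (Submonoid.powers a) M
  have hcomm : lTensor (LocalizedModule (Submonoid.powers a) M) ι (rTensor X g t) =
      rTensor Y g (lTensor M ι t) := by
    rw [← LinearMap.comp_apply, ← LinearMap.comp_apply, LinearMap.lTensor_comp_rTensor,
      LinearMap.rTensor_comp_lTensor]
  have h1 : lTensor (LocalizedModule (Submonoid.powers a) M) ι (rTensor X g t) = 0 := by
    rw [hcomm, ht, map_zero]
  have hinj := Module.Flat.lTensor_preserves_injective_linearMap
    (M := LocalizedModule (Submonoid.powers a) M) ι hι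
  have h2 : rTensor X g t = 0 := hinj (by rw [h1, map_zero])
  have h3 : AlgebraTensorModule.rTensor R X g t = 0 := h2
  obtain ⟨c, hc⟩ := (IsLocalizedModule.eq_zero_iff (Submonoid.powers a)
    (AlgebraTensorModule.rTensor R X g)).1 h3
  obtain ⟨n, hn⟩ := c.2
  refine ⟨n, ?_⟩
  have : (c : R) • t = 0 := hc
  rw [← hn] at this
  exact this

theorem flat_of_torsionFlat_bot (M : Type u) [AddCommGroup M] [Module R M]
    (h : TorsionFlat (⊥ : Ideal R) M) : Module.Flat R M := by
  rw [Module.Flat.iff_lTensor_preserves_injective_linearMap]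
  intro N' N'' _ _ _ _ ι hι
  exact h N' N'' (fun x a => by
      have : (a : R) = 0 := Ideal.mem_bot.1 a.2
      show (a : R) • x = 0
      rw [this, zero_smul]) (fun x a => by
      have : (a : R) = 0 := Ideal.mem_bot.1 a.2
      show (a : R) • x = 0
      rw [this, zero_smul]) ι hι

variable {S : Type u} [CommRing S] [Algebra R S]
  {M : Type u} [AddCommGroup M] [Module S M] [Module R M] [IsScalarTower R S M]

/-- localizations (over an algebra) of a flat module are flat over the base -/
theorem flat_localizedModule [Module.Flat R M] (T : Submonoid S) :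
    Module.Flat R (LocalizedModule T M) :=
  flat_of_torsionFlat_bot _ ((torsionFlat_of_flat' (⊥ : Ideal R) M).localized T)

/-- if `M` is flat after inverting `a` and `a ∉ q`, then `M_q` is flat -/
theorem flat_localized_of_awayFlat (q : Ideal S) [q.IsPrime] (a : R)
    (haq : algebraMap R S a ∉ q) (h : AwayFlat a M) :
    Module.Flat R (LocalizedModule q.primeCompl M) := by
  rw [Module.Flat.iff_lTensor_preserves_injective_linearMap]
  intro X Y _ _ _ _ ι hι
  let g := LocalizedModule.mkLinearMap q.primeCompl M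
  have h2 := IsLocalizedModule.map_lTensor (R := R) S q.primeCompl ι g
  change Injective (AlgebraTensorModule.lTensor S (LocalizedModule q.primeCompl M) ι)
  rw [← h2]
  apply map_injective_of_forall_exists_smul
  intro y hy
  obtain ⟨n, hn⟩ := h X Y ι hι y hy
  have hmem : algebraMap R S (a ^ n) ∈ q.primeCompl := by
    intro hmem
    rw [map_pow] at hmem
    exact haq (Ideal.IsPrime.mem_of_pow_mem inferInstance n hmem)
  refine ⟨⟨algebraMap R S (a ^ n), hmem⟩, ?_⟩
  rw [Submonoid.smul_def]
  change algebraMap R S (a ^ n) • y = 0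
  rw [algebraMap_smul]
  exact hn

end Basic

section Socle
variable {R : Type u} [CommRing R] [IsLocalRing R]

lemma eq_zero_of_pow_smul {U : Type*} [AddCommGroup U] [Module R U]
    (hsoc : ∀ u : U, (∀ a ∈ maximalIdeal R, a • u = 0) → u = 0) :
    ∀ (k : ℕ) (u : U), (∀ y ∈ maximalIdeal R ^ k, y • u = 0) → u = 0 := by
  intro k
  induction k with
  | zero =>
    intro u h
    have := h 1 (by rw [pow_zero, Ideal.one_eq_top]; trivial)
    rwa [one_smul] at this
  | succ k ih =>
    intro u h
    apply hsoc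
    intro a ha
    apply ih
    intro y hy
    rw [smul_smul]
    apply h
    rw [pow_succ]
    exact Ideal.mul_mem_mul hy ha

/-- saturation with respect to the maximal ideal -/
def Sat (J : Ideal R) : Prop :=
  ∀ x : R, (∃ n : ℕ, ∀ y ∈ maximalIdeal R ^ n, y * x ∈ J) → x ∈ J

end Socle

section Step
variable {R : Type u} [CommRing R] [IsLocalRing R] [IsNoetherianRing R]
  {S : Type u} [CommRing S] [Algebra R S]
  {M : Type u} [AddCommGroup M] [Module S M] [Module R M] [IsScalarTower R S M]

/-- **Square-zero step.** -/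
theorem step (q : Ideal S) [q.IsPrime] (J₀ J₁ : Ideal R) (h01 : J₀ ≤ J₁) (hsq : J₁ * J₁ ≤ J₀)
    (hsat : Sat J₀) (G : Set R) (hG : Ideal.span G = maximalIdeal R)
    (hP : ∀ a ∈ G, AwayFlat a M)
    (hJ₁ : TorsionFlat J₁ (LocalizedModule q.primeCompl M)) :
    TorsionFlat J₀ (LocalizedModule q.primeCompl M) := by
  classical
  let K : Submodule R J₁ := Submodule.comap J₁.subtype J₀
  let π : J₁ →ₗ[R] (J₁ ⧸ K) := K.mkQ
  have hπ : ∀ a : J₁, π a = 0 ↔ (a : R) ∈ J₀ := fun a => by
    rw [Submodule.mkQ_apply, Submodule.Quotient.mk_eq_zero]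
    rfl
  have hW : Module.IsTorsionBySet R (J₁ ⧸ K) J₁ := by
    intro w b
    obtain ⟨x, rfl⟩ := K.mkQ_surjective w
    show (b : R) • K.mkQ x = 0
    rw [← map_smul, Submodule.mkQ_apply, Submodule.Quotient.mk_eq_zero]
    show ((b : R) • x : J₁).1 ∈ J₀
    exact hsq (Ideal.mul_mem_mul b.2 x.2)
  -- socle-freeness of `P ⊗ W`
  have hsoc : ∀ u : (LocalizedModule q.primeCompl M) ⊗[R] (J₁ ⧸ K),
      (∀ a ∈ maximalIdeal R, a • u = 0) → u = 0 := by
    obtain ⟨n, gen, hgen⟩ := Submodule.fg_iff_exists_fin_generating_family.1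
      (IsNoetherian.noetherian (maximalIdeal R))
    let φ : (J₁ ⧸ K) →ₗ[R] (Fin n → (J₁ ⧸ K)) :=
      LinearMap.pi (fun i => gen i • LinearMap.id)
    have hφ : Injective φ := by
      rw [injective_iff_map_eq_zero]
      intro w hw
      obtain ⟨x, rfl⟩ := K.mkQ_surjective w
      have h1 : ∀ i, gen i * (x : R) ∈ J₀ := by
        intro i
        have h2 : gen i • K.mkQ x = 0 := congrFun hw i
        rw [← map_smul, Submodule.mkQ_apply, Submodule.Quotient.mk_eq_zero] at h2
        exact h2
      have h3 : ∀ a ∈ maximalIdeal R, a * (x : R) ∈ J₀ := by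
        intro a ha
        rw [← hgen] at ha
        induction ha using Submodule.span_induction with
        | mem y hy =>
          obtain ⟨i, rfl⟩ := hy
          exact h1 i
        | zero => rw [zero_mul]; exact zero_mem _
        | add y z _ _ hy hz => rw [add_mul]; exact add_mem hy hz
        | smul r y _ hy => rw [smul_eq_mul, mul_assoc]; exact J₀.mul_mem_left r hy
      have h4 : (x : R) ∈ J₀ := hsat _ ⟨1, by rw [pow_one]; exact h3⟩
      rw [Submodule.mkQ_apply, Submodule.Quotient.mk_eq_zero]
      exact h4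
    have hWn : Module.IsTorsionBySet R (Fin n → (J₁ ⧸ K)) J₁ := by
      intro f b
      funext i
      exact @hW (f i) b
    have hinj := hJ₁ (J₁ ⧸ K) (Fin n → (J₁ ⧸ K)) hW hWn φ hφ
    have hcomp : ∀ (u : (LocalizedModule q.primeCompl M) ⊗[R] (J₁ ⧸ K)) (i : Fin n),
        TensorProduct.piRight R R (LocalizedModule q.primeCompl M) (fun _ : Fin n => (J₁ ⧸ K))
          (lTensor (LocalizedModule q.primeCompl M) φ u) i = gen i • u := by
      intro u i
      induction u using TensorProduct.induction_on with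
      | zero => simp
      | add a b ha hb => simp only [map_add, Pi.add_apply, ha, hb, smul_add]
      | tmul p w =>
        rw [lTensor_tmul, TensorProduct.piRight_apply, TensorProduct.piRightHom_tmul]
        show p ⊗ₜ[R] (gen i • w) = gen i • (p ⊗ₜ[R] w)
        rw [TensorProduct.tmul_smul]
    intro u hu
    apply hinj
    rw [map_zero]
    apply (TensorProduct.piRight R R (LocalizedModule q.primeCompl M)
      (fun _ : Fin n => (J₁ ⧸ K))).injective
    rw [map_zero]
    funext i
    rw [hcomp]
    exact hu _ (hgen ▸ Submodule.subset_span ⟨i, rfl⟩)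
  have hH : ∀ t : (LocalizedModule q.primeCompl M) ⊗[R] J₁,
      lTensor (LocalizedModule q.primeCompl M) J₁.subtype t = 0 →
      lTensor (LocalizedModule q.primeCompl M) π t = 0 := by
    intro t ht
    let g := LocalizedModule.mkLinearMap q.primeCompl M
    have hcomm : ∀ {X Y : Type u} [AddCommGroup X] [Module R X] [AddCommGroup Y] [Module R Y]
        (φ : X →ₗ[R] Y) (z : M ⊗[R] X),
        lTensor (LocalizedModule q.primeCompl M) φ (AlgebraTensorModule.rTensor R X g z) =
        AlgebraTensorModule.rTensor R Y g (lTensor M φ z) := by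
      intro X Y _ _ _ _ φ z
      induction z using TensorProduct.induction_on with
      | zero => simp
      | add a b ha hb => simp only [map_add, ha, hb]
      | tmul m a => simp
    have hsm : ∀ {X Y : Type u} [AddCommGroup X] [Module R X] [AddCommGroup Y] [Module R Y]
        (φ : X →ₗ[R] Y) (s : S) (z : (LocalizedModule q.primeCompl M) ⊗[R] X),
        lTensor (LocalizedModule q.primeCompl M) φ (s • z) =
        s • lTensor (LocalizedModule q.primeCompl M) φ z := by
      intro X Y _ _ _ _ φ s z
      exact map_smul (AlgebraTensorModule.lTensor S (LocalizedModule q.primeCompl M) φ) s z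
    have hsm' : ∀ {X Y : Type u} [AddCommGroup X] [Module R X] [AddCommGroup Y] [Module R Y]
        (φ : X →ₗ[R] Y) (s : S) (z : M ⊗[R] X),
        lTensor M φ (s • z) = s • lTensor M φ z := by
      intro X Y _ _ _ _ φ s z
      exact map_smul (AlgebraTensorModule.lTensor S M φ) s z
    obtain ⟨⟨t₀, s⟩, hs⟩ := IsLocalizedModule.surj q.primeCompl
      (AlgebraTensorModule.rTensor R J₁ g) t
    simp only at hs
    have h1 : AlgebraTensorModule.rTensor R R g (lTensor M J₁.subtype t₀) = 0 := by
      rw [← hcomm, ← hs, Submonoid.smul_def, hsm, ht, smul_zero]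
    obtain ⟨c, hc⟩ := (IsLocalizedModule.eq_zero_iff q.primeCompl
      (AlgebraTensorModule.rTensor R R g)).1 h1
    have h2 : lTensor M J₁.subtype ((c : S) • t₀) = 0 := by
      rw [hsm']; exact hc
    -- for every generator, a power kills `t`
    have hkill : ∀ a ∈ G, ∃ n : ℕ, a ^ n • t = 0 := by
      intro a ha
      obtain ⟨n, hn⟩ := hP a ha J₁ R J₁.subtype Subtype.val_injective ((c : S) • t₀) h2
      refine ⟨n, ?_⟩
      have key : (algebraMap R S (a ^ n) * (c : S)) • t₀ = 0 := by
        rw [mul_smul, algebraMap_smul]; exact hn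
      have h5 := IsLocalizedModule.smul_injective (AlgebraTensorModule.rTensor R J₁ g) c
      have h6 := IsLocalizedModule.smul_injective (AlgebraTensorModule.rTensor R J₁ g) s
      apply h6
      apply h5
      simp only [smul_zero]
      rw [Submonoid.smul_def, Submonoid.smul_def, ← algebraMap_smul S (a ^ n) t, smul_smul,
        smul_smul]
      have hring : (c : S) * (s : S) * algebraMap R S (a ^ n) =
          (algebraMap R S (a ^ n) * (c : S)) * (s : S) := by ring
      rw [hring, mul_smul, ← Submonoid.smul_def s t, hs, ← map_smul, key, map_zero]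
    -- hence a power of the maximal ideal kills the image
    set tb := lTensor (LocalizedModule q.primeCompl M) π t with htb
    let 𝔟 : Ideal R := LinearMap.ker (LinearMap.toSpanSingleton R _ tb)
    have hmem𝔟 : ∀ r : R, r ∈ 𝔟 ↔ r • tb = 0 := by
      intro r
      rw [LinearMap.mem_ker, LinearMap.toSpanSingleton_apply]
    have hrad : maximalIdeal R ≤ 𝔟.radical := by
      rw [← hG, Ideal.span_le]
      intro a ha
      obtain ⟨n, hn⟩ := hkill a ha
      refine ⟨n, ?_⟩
      rw [hmem𝔟, htb, ← map_smul, hn, map_zero]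
    obtain ⟨k, hk⟩ := Ideal.exists_pow_le_of_le_radical_of_fg hrad
      (IsNoetherian.noetherian (maximalIdeal R))
    exact eq_zero_of_pow_smul hsoc k tb (fun y hy => (hmem𝔟 y).1 (hk hy))
  have hflat := Groth.Agent.Lead.FlatUnivA.flat_of_H J₁ J₀ (LocalizedModule q.primeCompl M)
    h01 hsq hJ₁ (J₁ ⧸ K) hW π hπ hH
  exact (torsionFlat_iff_flat J₀ _).2 hflat

end Step

section Nil
variable {R : Type u} [CommRing R] [IsLocalRing R] [IsNoetherianRing R]
  {S : Type u} [CommRing S] [Algebra R S]
  {M : Type u} [AddCommGroup M] [Module S M] [Module R M] [IsScalarTower R S M]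

lemma sat_nilradical (h0 : Sat (⊥ : Ideal R)) : Sat (nilradical R) := by
  intro x ⟨n, hn⟩
  rw [nilradical_eq_sInf, Ideal.mem_sInf]
  intro 𝔭 h𝔭
  have h𝔭' : 𝔭.IsPrime := h𝔭
  by_cases hm : maximalIdeal R ≤ 𝔭
  · -- then `𝔭 = m`; if `x ∉ m`, the maximal ideal is nilpotent, contradicting `h0`
    have h𝔭m : 𝔭 = maximalIdeal R := le_antisymm (le_maximalIdeal h𝔭'.ne_top) hm
    rw [h𝔭m]
    by_contra hx
    have hu : IsUnit x := by
      by_contra hnu
      exact hx ((mem_maximalIdeal x).2 (mem_nonunits_iff.2 hnu))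
    obtain ⟨y, hy⟩ := hu.exists_left_inv
    have h1 : maximalIdeal R ^ n ≤ nilradical R := by
      intro z hz
      have := (nilradical R).mul_mem_left y (hn z hz)
      rwa [mul_comm z x, ← mul_assoc, hy, one_mul] at this
    obtain ⟨e, he⟩ := IsNoetherianRing.isNilpotent_nilradical R
    have h2 : maximalIdeal R ^ (n * e) = ⊥ := by
      rw [pow_mul, eq_bot_iff]
      calc (maximalIdeal R ^ n) ^ e ≤ nilradical R ^ e := Ideal.pow_right_mono h1 e
        _ = ⊥ := he
    have h3 : (1 : R) ∈ (⊥ : Ideal R) := h0 1 ⟨n * e, fun z hz => by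
      rw [mul_one, ← h2]; exact hz⟩
    exact one_ne_zero (Ideal.mem_bot.1 h3)
  · obtain ⟨a, ha, ha𝔭⟩ := Set.not_subset.1 hm
    have h1 : a ^ n * x ∈ nilradical R := hn _ (Ideal.pow_mem_pow ha n)
    have h2 : a ^ n * x ∈ 𝔭 := by
      rw [nilradical_eq_sInf, Ideal.mem_sInf] at h1
      exact h1 h𝔭
    rcases h𝔭'.mem_or_mem h2 with h | h
    · exact absurd (h𝔭'.mem_of_pow_mem n h) ha𝔭
    · exact h

/-- **Nilradical filtration.** Flatness modulo the nilradical, flatness on the punctured
spectrum and depth `≥ 1` give flatness. -/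
theorem flat_of_torsionFlat_nilradical (q : Ideal S) [q.IsPrime]
    (h0 : Sat (⊥ : Ideal R)) (G : Set R) (hG : Ideal.span G = maximalIdeal R)
    (hP : ∀ a ∈ G, AwayFlat a M)
    (hN : TorsionFlat (nilradical R) (LocalizedModule q.primeCompl M)) :
    Module.Flat R (LocalizedModule q.primeCompl M) := by
  apply flat_of_torsionFlat_bot
  by_contra hbot
  have hNsat := sat_nilradical h0
  obtain ⟨J₀, ⟨hJ₀N, hJ₀sat, hJ₀nf⟩, hmax⟩ := set_has_maximal_iff_noetherian.mpr
    (inferInstance : IsNoetherian R R)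
    {J : Ideal R | J ≤ nilradical R ∧ Sat J ∧ ¬ TorsionFlat J (LocalizedModule q.primeCompl M)}
    ⟨⊥, bot_le, h0, hbot⟩
  have hJ₀ne : J₀ ≠ nilradical R := fun h => hJ₀nf (h ▸ hN)
  let J₁ : Ideal R := nilradical R ⊓ J₀.colon (nilradical R : Set R)
  have hmemJ₁ : ∀ c, c ∈ J₁ ↔ c ∈ nilradical R ∧ ∀ n ∈ nilradical R, c * n ∈ J₀ := by
    intro c
    show c ∈ nilradical R ∧ c ∈ J₀.colon (nilradical R : Set R) ↔ _
    rw [Submodule.mem_colon]
    rfl
  have h01 : J₀ ≤ J₁ := by
    intro c hc
    rw [hmemJ₁]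
    exact ⟨hJ₀N hc, fun n _ => Ideal.mul_mem_right n J₀ hc⟩
  have hJ₁N : J₁ ≤ nilradical R := inf_le_left
  have hne : J₀ ≠ J₁ := by
    intro heq
    obtain ⟨e, he⟩ := IsNoetherianRing.isNilpotent_nilradical R
    have hex : ∃ k : ℕ, nilradical R ^ (k + 1) ≤ J₀ := ⟨e, by
      rw [pow_succ, he, Ideal.zero_eq_bot, Ideal.bot_mul]; exact bot_le⟩
    classical
    let t := Nat.find hex
    have ht : nilradical R ^ (t + 1) ≤ J₀ := Nat.find_spec hex
    have ht0 : t ≠ 0 := by
      intro h
      rw [h, zero_add, pow_one] at ht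
      exact hJ₀ne (le_antisymm hJ₀N ht)
    obtain ⟨t', ht'⟩ := Nat.exists_eq_succ_of_ne_zero ht0
    have hmin : ¬ nilradical R ^ (t' + 1) ≤ J₀ := Nat.find_min hex (by omega)
    apply hmin
    rw [heq]
    intro c hc
    rw [hmemJ₁]
    refine ⟨Ideal.pow_le_self (Nat.succ_ne_zero t') hc, fun n hn => ?_⟩
    apply ht
    rw [ht', pow_succ (nilradical R) (t' + 1)]
    exact Ideal.mul_mem_mul hc hn
  have hlt : J₀ < J₁ := lt_of_le_of_ne h01 hne
  have hJ₁sat : Sat J₁ := by
    intro x ⟨k, hk⟩
    rw [hmemJ₁]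
    have hxN : x ∈ nilradical R := hNsat x ⟨k, fun y hy => hJ₁N (hk y hy)⟩
    refine ⟨hxN, fun n hn => ?_⟩
    apply hJ₀sat
    refine ⟨k, fun y hy => ?_⟩
    rw [← mul_assoc]
    exact ((hmemJ₁ _).1 (hk y hy)).2 n hn
  have hsq : J₁ * J₁ ≤ J₀ := by
    rw [Ideal.mul_le]
    intro c hc c' hc'
    exact ((hmemJ₁ c).1 hc).2 c' ((hmemJ₁ c').1 hc').1
  have hJ₁tf : TorsionFlat J₁ (LocalizedModule q.primeCompl M) := by
    by_contra hcon
    exact hmax J₁ ⟨hJ₁N, hJ₁sat, hcon⟩ hlt
  exact hJ₀nf (step q J₀ J₁ h01 hsq hJ₀sat G hG hP hJ₁tf)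

end Nil

end Groth.Agent.Helper8.ValFlatA
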