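import Mathlib
import Groth.Agent.Helper8.ValFlatA
import Groth.Agent.Helper7.CKO1
import Groth.Agent.Helper3.FinComp1

set_option autoImplicit false
set_option linter.unusedSectionVars false
set_option linter.unusedVariables false
open TensorProduct Function LinearMap IsLocalRing
universe u

/-!
# Valuative criterion of flatness: the complete case modulo the nilradical
-/

namespace Groth.Agent.Helper8.ValFlatB

open Groth.Agent.Helper2.AdicFlat Groth.Agent.Helper2.FlatCL1 Groth.Agent.Helper2.FlatCL2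
  Groth.Agent.Helper2.FlatCL4 Groth.Agent.Helper8.ValFlatA Groth.Agent.Lead.FlatUnivH
  Groth.Agent.Helper7.CKd

section Smaller
variable {R S : Type u} [CommRing R] [IsLocalRing R] [IsNoetherianRing R]
  [CommRing S] [IsNoetherianRing S] [Algebra R S]
  {M : Type u} [AddCommGroup M] [Module S M] [Module R M] [IsScalarTower R S M]
  [Module.Finite S M]

/-- the descent property of an ideal `K` of `R` with respect to `M_q` -/
def Good (q : Ideal S) [q.IsPrime] (K : Ideal R) : Prop :=
  ∀ I : Ideal R, I ≤ maximalIdeal R → TorsionFlat I (LocalizedModule q.primeCompl M) →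
    I ≤ K ∨ ∃ I₁ : Ideal R, I₁ < I ∧ I ⊓ K ≤ I₁ ∧
      TorsionFlat I₁ (LocalizedModule q.primeCompl M)

attribute [local instance] Algebra.TensorProduct.rightAlgebra in
/-- a local algebra over which `M` becomes flat gives a good ideal -/
theorem good_of_local (q : Ideal S) [q.IsPrime] (R' : Type u) [CommRing R'] [Algebra R R']
    [IsLocalRing R'] [IsLocalHom (algebraMap R R')] [Module.Flat R' (R' ⊗[R] M)] :
    Good (M := M) q (RingHom.ker (algebraMap R R')) := by
  intro I hIm hI
  haveI hfl2 : Module.Flat R' ((S ⊗[R] R') ⊗[S] M) :=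
    Module.Flat.of_linearEquiv
      (Algebra.IsPushout.cancelBaseChange R R' S (S ⊗[R] R') M)
  exact exists_smaller' (R := R) (S := S) (R' := R') (S' := S ⊗[R] R')
    (M := M) (M' := (S ⊗[R] R') ⊗[S] M)
    (TensorProduct.mk S (S ⊗[R] R') M 1)
    (TensorProduct.isBaseChange S M (S ⊗[R] R')) q
    (fun q' _ _ _ => flat_localizedModule (R := R') (S := S ⊗[R] R')
      (M := (S ⊗[R] R') ⊗[S] M) q'.primeCompl) I hIm hI

/-- a discrete valuation ring over which `M` becomes flat gives good ideals -/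
theorem good_of_dvr (q : Ideal S) [q.IsPrime] (V : Type u) [CommRing V] [IsDomain V]
    [IsDiscreteValuationRing V] [Algebra R V] [IsLocalHom (algebraMap R V)]
    [Module.Flat V (V ⊗[R] M)] (j : ℕ) :
    Good (M := M) q ((maximalIdeal V ^ (j + 1)).comap (algebraMap R V)) := by
  obtain ⟨𝔫, h𝔫def⟩ : ∃ 𝔫 : Ideal V, 𝔫 = maximalIdeal V ^ (j + 1) := ⟨_, rfl⟩
  rw [← h𝔫def]
  have h𝔫 : 𝔫 ≤ maximalIdeal V := by
    rw [h𝔫def]; exact Ideal.pow_le_self (Nat.succ_ne_zero j)
  haveI : Nontrivial (V ⧸ 𝔫) := Ideal.Quotient.nontrivial_iff.2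
    (ne_top_of_le_ne_top (maximalIdeal.isMaximal V).ne_top h𝔫)
  haveI : IsLocalRing (V ⧸ 𝔫) :=
    IsLocalRing.of_surjective' (Ideal.Quotient.mk 𝔫) Ideal.Quotient.mk_surjective
  haveI : IsLocalHom (Ideal.Quotient.mk 𝔫) :=
    IsLocalHom.of_surjective _ Ideal.Quotient.mk_surjective
  have halg : algebraMap R (V ⧸ 𝔫) = (Ideal.Quotient.mk 𝔫).comp (algebraMap R V) := rfl
  haveI : IsLocalHom (algebraMap R (V ⧸ 𝔫)) := by
    rw [halg]; exact RingHom.isLocalHom_comp _ _
  have hker : RingHom.ker (algebraMap R (V ⧸ 𝔫)) = 𝔫.comap (algebraMap R V) := by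
    ext r
    rw [RingHom.mem_ker, Ideal.mem_comap, halg, RingHom.comp_apply,
      Ideal.Quotient.eq_zero_iff_mem]
  haveI hfl1 : Module.Flat (V ⧸ 𝔫) ((V ⧸ 𝔫) ⊗[R] M) :=
    Module.Flat.of_linearEquiv
      (TensorProduct.AlgebraTensorModule.cancelBaseChange R V (V ⧸ 𝔫) (V ⧸ 𝔫) M).symm
  have key := good_of_local (R := R) (M := M) q (V ⧸ 𝔫)
  rw [hker] at key
  exact key

end Smaller

section Desc
variable {R S : Type u} [CommRing R] [IsLocalRing R] [IsNoetherianRing R]
  [CommRing S] [IsNoetherianRing S] [Algebra R S]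
  {M : Type u} [AddCommGroup M] [Module S M] [Module R M] [IsScalarTower R S M]
  [Module.Finite S M]

theorem torsionFlat_of_good (q : Ideal S) [q.IsPrime] (s : Finset (Ideal R))
    (hgood : ∀ K ∈ s, Good (M := M) q K)
    (hprim : ∀ K ∈ s, ∃ n : ℕ, maximalIdeal R ^ n ≤ K)
    (hm : s.inf _root_.id ≤ maximalIdeal R) :
    TorsionFlat (s.inf _root_.id) (LocalizedModule q.primeCompl M) := by
  classical
  choose! nn hnn using hprim
  have hN : maximalIdeal R ^ (s.sup nn) ≤ s.inf _root_.id := by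
    apply Finset.le_inf
    intro K hK
    exact (Ideal.pow_le_pow_right (Finset.le_sup hK)).trans (hnn K hK)
  apply torsionFlat_of_descent _ (s.inf _root_.id) hm (s.sup nn) hN
  intro I h𝔞I hIm hInle hI
  have hex : ∃ K ∈ s, ¬ I ≤ K := by
    by_contra hcon
    push_neg at hcon
    exact hInle (Finset.le_inf hcon)
  obtain ⟨K, hK, hIK⟩ := hex
  rcases hgood K hK I hIm hI with h | ⟨I₁, hlt, hle, hI₁⟩
  · exact absurd h hIK
  · exact ⟨I₁, hlt, (le_inf h𝔞I (Finset.inf_le hK)).trans hle, hI₁⟩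

end Desc

section CR
variable {C S : Type u} [CommRing C] [IsLocalRing C] [IsNoetherianRing C]
  [IsAdicComplete (maximalIdeal C) C]
  [CommRing S] [IsNoetherianRing S] [Algebra C S]
  {M : Type u} [AddCommGroup M] [Module S M] [Module C M] [IsScalarTower C S M]
  [Module.Finite S M]

/-- **Complete case modulo the nilradical.** -/
theorem torsionFlat_nilradical_of_complete (q : Ideal S) [q.IsPrime]
    (hq : q.comap (algebraMap C S) = maximalIdeal C)
    (hV : ∀ (V : Type u) [CommRing V] [IsDomain V] [IsDiscreteValuationRing V] [Algebra C V],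
      Module.Flat V (V ⊗[C] M)) :
    TorsionFlat (nilradical C) (LocalizedModule q.primeCompl M) := by
  classical
  obtain ⟨N, hNdef⟩ : ∃ N : Ideal C, N = nilradical C := ⟨_, rfl⟩
  rw [← hNdef]
  have hNm : N ≤ maximalIdeal C := by
    rw [hNdef, nilradical_eq_sInf]
    exact sInf_le (inferInstance : (maximalIdeal C).IsPrime)
  have hsurj : Function.Surjective (Ideal.Quotient.mk N) := Ideal.Quotient.mk_surjective
  haveI : Nontrivial (C ⧸ N) := Ideal.Quotient.nontrivial_iff.2
    (ne_top_of_le_ne_top (maximalIdeal.isMaximal C).ne_top hNm)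
  haveI : IsLocalRing (C ⧸ N) := IsLocalRing.of_surjective' (Ideal.Quotient.mk N) hsurj
  haveI : IsReduced (C ⧸ N) := by
    rw [hNdef]
    exact (Ideal.isRadical_iff_quotient_reduced _).1 (Ideal.radical_isRadical ⊥)
  have hmax : (maximalIdeal C).map (Ideal.Quotient.mk N) = maximalIdeal (C ⧸ N) :=
    IsLocalRing.map_maximalIdeal_of_surjective (Ideal.Quotient.mk N) hsurj
  haveI : IsAdicComplete (maximalIdeal (C ⧸ N)) (C ⧸ N) := by
    have := Groth.Agent.Helper3.FinComp1.isAdicComplete_map C (C ⧸ N)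
    rwa [show algebraMap C (C ⧸ N) = Ideal.Quotient.mk N from rfl, hmax] at this
  haveI : IsLocalHom (Ideal.Quotient.mk N) := IsLocalHom.of_surjective _ hsurj
  by_cases hfield : IsField (C ⧸ N)
  · -- `N` is the maximal ideal
    have hNmax : N.IsMaximal := (Ideal.Quotient.maximal_ideal_iff_isField_quotient N).2 hfield
    have : N = maximalIdeal C := IsLocalRing.eq_maximalIdeal hNmax
    rw [this, torsionFlat_iff_flat]
    letI : Field (C ⧸ maximalIdeal C) := Ideal.Quotient.field _
    infer_instance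
  -- the good ideals
  let 𝒦 : Set (Ideal C) := {K | N ≤ K ∧ (∃ n : ℕ, maximalIdeal C ^ n ≤ K) ∧ Good (M := M) q K}
  have hsep : ∀ x : C, x ∉ N → ∃ K ∈ 𝒦, x ∉ K := by
    intro x hx
    have hx' : Ideal.Quotient.mk N x ≠ 0 := fun h => hx (Ideal.Quotient.eq_zero_iff_mem.1 h)
    have hP : ∃ P : Ideal (C ⧸ N), CohtOne P ∧ Ideal.Quotient.mk N x ∉ P := by
      by_contra hcon
      push_neg at hcon
      apply hx'
      have h1 : Ideal.Quotient.mk N x ∈ sInf {P : Ideal (C ⧸ N) | CohtOne P} := by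
        rw [Submodule.mem_sInf]
        exact fun P hP => hcon P hP
      rw [sInf_cohtOne_eq_bot hfield] at h1
      exact Ideal.mem_bot.1 h1
    obtain ⟨P, hPc, hxP⟩ := hP
    obtain ⟨V, i1, i2, i3, φ, hloc, hfin, hkerφ⟩ := exists_dvr_of_cohtOne P hPc
    letI : Algebra C V := (φ.comp (Ideal.Quotient.mk N)).toAlgebra
    have halg : ∀ c : C, algebraMap C V c = φ (Ideal.Quotient.mk N c) := fun c => rfl
    haveI : IsLocalHom (algebraMap C V) := by
      show IsLocalHom (φ.comp (Ideal.Quotient.mk N))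
      exact RingHom.isLocalHom_comp _ _
    have hφx : φ (Ideal.Quotient.mk N x) ≠ 0 := by
      intro h
      apply hxP
      rw [← hkerφ, RingHom.mem_ker]
      exact h
    have hkrull : (⨅ n : ℕ, maximalIdeal V ^ n) = ⊥ :=
      Ideal.iInf_pow_eq_bot_of_isLocalRing _ (maximalIdeal.isMaximal V).ne_top
    have hexj : ∃ j : ℕ, φ (Ideal.Quotient.mk N x) ∉ maximalIdeal V ^ j := by
      by_contra hcon
      push_neg at hcon
      apply hφx
      have : φ (Ideal.Quotient.mk N x) ∈ (⨅ n : ℕ, maximalIdeal V ^ n) := by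
        rw [Ideal.mem_iInf]; exact hcon
      rw [hkrull] at this
      exact Ideal.mem_bot.1 this
    obtain ⟨j, hj⟩ := hexj
    haveI : Module.Flat V (V ⊗[C] M) := hV V
    refine ⟨(maximalIdeal V ^ (j + 1)).comap (algebraMap C V), ⟨?_, ⟨j + 1, ?_⟩,
      good_of_dvr q V j⟩, ?_⟩
    · intro n hn
      rw [Ideal.mem_comap, halg, Ideal.Quotient.eq_zero_iff_mem.2 hn, map_zero]
      exact zero_mem _
    · rw [← Ideal.map_le_iff_le_comap, Ideal.map_pow]
      apply Ideal.pow_right_mono
      exact ((IsLocalRing.local_hom_TFAE (algebraMap C V)).out 0 2).1 ‹IsLocalHom (algebraMap C V)›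
    · intro hmem
      rw [Ideal.mem_comap, halg] at hmem
      exact hj (Ideal.pow_le_pow_right (Nat.le_succ j) hmem)
  -- Chevalley's lemma in the reduced quotient
  let F : Set (Ideal (C ⧸ N)) := {Ib | ∃ s : Finset (Ideal C), (∀ K ∈ s, K ∈ 𝒦) ∧
    Ib.comap (Ideal.Quotient.mk N) = s.inf _root_.id}
  have hne : F.Nonempty := ⟨⊤, ∅, by simp, by simp⟩
  have hinf : ∀ I ∈ F, ∀ J ∈ F, I ⊓ J ∈ F := by
    rintro I ⟨s, hs, hsI⟩ J ⟨t, ht, htJ⟩
    refine ⟨s ∪ t, fun K hK => (Finset.mem_union.mp hK).elim (hs K) (ht K), ?_⟩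
    rw [Ideal.comap_inf, hsI, htJ, Finset.inf_union]
  have h0 : sInf F = ⊥ := by
    rw [eq_bot_iff]
    intro xb hxb
    obtain ⟨x, rfl⟩ := hsurj xb
    rw [Ideal.mem_bot]
    by_contra hne0
    have hxN : x ∉ N := fun h => hne0 (Ideal.Quotient.eq_zero_iff_mem.2 h)
    obtain ⟨K, hK, hxK⟩ := hsep x hxN
    have hcm : (K.map (Ideal.Quotient.mk N)).comap (Ideal.Quotient.mk N) = K := by
      rw [Ideal.comap_map_of_surjective _ hsurj, ← RingHom.ker_eq_comap_bot, Ideal.mk_ker,
        sup_eq_left.2 hK.1]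
    have hmemF : K.map (Ideal.Quotient.mk N) ∈ F :=
      ⟨{K}, fun K' hK' => by rw [Finset.mem_singleton.1 hK']; exact hK, by
        rw [hcm, Finset.inf_singleton]; rfl⟩
    have h1 : Ideal.Quotient.mk N x ∈ K.map (Ideal.Quotient.mk N) :=
      (Submodule.mem_sInf.1 hxb) _ hmemF
    have h2 : x ∈ (K.map (Ideal.Quotient.mk N)).comap (Ideal.Quotient.mk N) := h1
    rw [hcm] at h2
    exact hxK h2
  -- truncations
  have htr : ∀ k, 0 < k →
      TorsionFlat (N ⊔ maximalIdeal C ^ k) (LocalizedModule q.primeCompl M) := by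
    intro k hk
    obtain ⟨Ib, ⟨s, hs, hcomap⟩, hle⟩ := chevalley_directed F hne hinf h0 k
    have h𝔞 : s.inf _root_.id ≤ N ⊔ maximalIdeal C ^ k := by
      rw [← hcomap]
      calc Ib.comap (Ideal.Quotient.mk N)
          ≤ (maximalIdeal (C ⧸ N) ^ k).comap (Ideal.Quotient.mk N) := Ideal.comap_mono hle
        _ = N ⊔ maximalIdeal C ^ k := by
          rw [← hmax, ← Ideal.map_pow, Ideal.comap_map_of_surjective _ hsurj,
            ← RingHom.ker_eq_comap_bot, Ideal.mk_ker, sup_comm]
    have hmk : N ⊔ maximalIdeal C ^ k ≤ maximalIdeal C :=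
      sup_le hNm (Ideal.pow_le_self (Nat.pos_iff_ne_zero.1 hk))
    refine TorsionFlat.mono h𝔞 (torsionFlat_of_good q s (fun K hK => (hs K hK).2.2)
      (fun K hK => (hs K hK).2.1) (h𝔞.trans hmk))
  -- local criterion relative to `N`
  have hq' : (maximalIdeal C).map (algebraMap C S) ≤ q :=
    Ideal.map_le_iff_le_comap.2 (hq ▸ le_rfl)
  have hI : (maximalIdeal C).map (algebraMap C (Localization.AtPrime q)) ≤
      maximalIdeal (Localization.AtPrime q) := by
    rw [IsScalarTower.algebraMap_eq C S (Localization.AtPrime q), ← Ideal.map_map]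
    refine (Ideal.map_mono hq').trans ?_
    rw [Localization.AtPrime.map_eq_maximalIdeal]
  have hflat := flat_quot_of_torsionFlat (B := Localization.AtPrime q)
    (N := LocalizedModule q.primeCompl M) (maximalIdeal C) N hI
    ((Ideal.map_mono hNm).trans hI) htr
  exact (torsionFlat_iff_flat N _).2 hflat

end CR

end Groth.Agent.Helper8.ValFlatB
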