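import Mathlib
import Groth.Agent.Helper8.ValFlatB
import Groth.Agent.S0543

set_option autoImplicit false
set_option linter.unusedSectionVars false
set_option linter.unusedVariables false
open TensorProduct Function LinearMap IsLocalRing
universe u

/-!
# Valuative criterion of flatness over a reduced Noetherian base
-/

namespace Groth.Agent.Helper8.ValFlatC

open Groth.Agent.Helper2.AdicFlat Groth.Agent.Helper2.FlatCL1 Groth.Agent.Helper2.FlatCL2
  Groth.Agent.Helper2.FlatCL4 Groth.Agent.Helper8.ValFlatA Groth.Agent.Helper8.ValFlatB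

section Complete

/-- **Complete local case.** -/
theorem flat_of_complete {C : Type u} (S : Type u) [CommRing C] [IsLocalRing C]
    [IsNoetherianRing C] [IsAdicComplete (maximalIdeal C) C]
    [CommRing S] [IsNoetherianRing S] [Algebra C S]
    {M : Type u} [AddCommGroup M] [Module S M] [Module C M] [IsScalarTower C S M]
    [Module.Finite S M] (h0 : Sat (⊥ : Ideal C)) (G : Set C)
    (hG : Ideal.span G = maximalIdeal C) (hP : ∀ a ∈ G, AwayFlat a M)
    (hV : ∀ (V : Type u) [CommRing V] [IsDomain V] [IsDiscreteValuationRing V] [Algebra C V],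
      Module.Flat V (V ⊗[C] M)) :
    Module.Flat C M := by
  apply Module.flat_of_isLocalized_maximal S M (fun P _ => LocalizedModule P.primeCompl M)
    (fun P _ => LocalizedModule.mkLinearMap P.primeCompl M)
  intro Q hQ
  by_cases hQm : Q.comap (algebraMap C S) = maximalIdeal C
  · exact flat_of_torsionFlat_nilradical Q h0 G hG hP
      (torsionFlat_nilradical_of_complete Q hQm hV)
  · have hex : ∃ a ∈ G, algebraMap C S a ∉ Q := by
      by_contra hcon
      push_neg at hcon
      apply hQm
      have hp : (Q.comap (algebraMap C S)).IsPrime := Ideal.comap_isPrime _ _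
      refine le_antisymm (le_maximalIdeal hp.ne_top) ?_
      rw [← hG, Ideal.span_le]
      intro a ha
      exact hcon a ha
    obtain ⟨a, ha, haQ⟩ := hex
    exact flat_localized_of_awayFlat Q a haQ (hP a ha)

end Complete

section SatBot
variable {R C : Type u} [CommRing R] [IsLocalRing R] [IsNoetherianRing R] [IsReduced R]
  [CommRing C] [IsLocalRing C] [Algebra R C] [Module.Flat R C]

lemma sat_bot_of_flat (hR : ¬ IsField R)
    (hm : maximalIdeal C = (maximalIdeal R).map (algebraMap R C)) : Sat (⊥ : Ideal C) := by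
  classical
  -- a nonzerodivisor in the maximal ideal
  have hfin : (minimalPrimes R).Finite := minimalPrimes.finite_of_isNoetherianRing R
  have hnot : ¬ ((maximalIdeal R : Set R) ⊆ ⋃ 𝔭 ∈ (hfin.toFinset : Set (Ideal R)), (𝔭 : Set R)) := by
    intro hsub
    have h1 := (Ideal.subset_union_prime (R := R) (s := hfin.toFinset) (f := fun 𝔭 => 𝔭)
      (maximalIdeal R) (maximalIdeal R) (fun 𝔭 h𝔭 _ _ =>
        ((Set.Finite.mem_toFinset hfin).1 h𝔭).1.1) (I := maximalIdeal R)).1 hsub
    obtain ⟨𝔭, h𝔭, hle⟩ := h1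
    have h𝔭min : 𝔭 ∈ minimalPrimes R := (Set.Finite.mem_toFinset hfin).1 h𝔭
    have h𝔭prime : 𝔭.IsPrime := h𝔭min.1.1
    have h𝔭m : 𝔭 = maximalIdeal R := le_antisymm (le_maximalIdeal h𝔭prime.ne_top) hle
    -- every prime equals the maximal ideal, so the nilradical is the maximal ideal
    have hall : ∀ 𝔮 : Ideal R, 𝔮.IsPrime → maximalIdeal R ≤ 𝔮 := by
      intro 𝔮 h𝔮
      have := h𝔭min.2 ⟨h𝔮, bot_le⟩ (h𝔭m ▸ le_maximalIdeal h𝔮.ne_top)
      rwa [h𝔭m] at this
    have hnil : maximalIdeal R ≤ nilradical R := by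
      rw [nilradical_eq_sInf]
      exact le_sInf (fun 𝔮 h𝔮 => hall 𝔮 h𝔮)
    rw [nilradical_eq_zero] at hnil
    exact hR (IsLocalRing.isField_iff_maximalIdeal_eq.2 (le_bot_iff.1 hnil))
  obtain ⟨f, hfm, hf⟩ := Set.not_subset.1 hnot
  have hfreg : IsSMulRegular R f := by
    intro x y hxy
    have h1 : f * (x - y) = 0 := by
      rw [mul_sub]; exact sub_eq_zero.2 hxy
    have h2 : x - y ∈ nilradical R := by
      rw [nilradical, ← Ideal.sInf_minimalPrimes, Ideal.mem_sInf]
      intro 𝔭 h𝔭
      have h𝔭prime : 𝔭.IsPrime := h𝔭.1.1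
      have h3 : f * (x - y) ∈ 𝔭 := by rw [h1]; exact zero_mem _
      rcases h𝔭prime.mem_or_mem h3 with h | h
      · exfalso
        apply hf
        simp only [Set.mem_iUnion, Finset.mem_coe, Set.Finite.mem_toFinset]
        exact ⟨𝔭, h𝔭, h⟩
      · exact h
    rw [nilradical_eq_zero] at h2
    exact sub_eq_zero.1 (Ideal.mem_bot.1 h2)
  have hfC : IsSMulRegular C (algebraMap R C f) := hfreg.of_flat
  intro x ⟨n, hn⟩
  have hmem : algebraMap R C f ^ n ∈ maximalIdeal C ^ n := by
    apply Ideal.pow_mem_pow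
    rw [hm]
    exact Ideal.mem_map_of_mem _ hfm
  have h1 : algebraMap R C f ^ n * x = 0 := Ideal.mem_bot.1 (hn _ hmem)
  have hreg : IsSMulRegular C (algebraMap R C f ^ n) := hfC.pow n
  have : x = 0 := hreg (by simpa using h1)
  rw [this]
  exact zero_mem _

end SatBot

section Unit
variable {A : Type u} [CommRing A] {C : Type u} [CommRing C] [Algebra A C]
  {M : Type u} [AddCommGroup M] [Module A M]

lemma eq_zero_of_smul_of_isUnit {X : Type u} [AddCommGroup X] [Module C X] [Module A X]
    [IsScalarTower A C X] (s : A) (hs : IsUnit (algebraMap A C s)) (y : M ⊗[A] X)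
    (h : s • y = 0) : y = 0 := by
  obtain ⟨u, hu⟩ := hs
  let μ : X →ₗ[A] X :=
    { toFun := fun x => ((u⁻¹ : Cˣ) : C) • x
      map_add' := fun x y => smul_add _ x y
      map_smul' := fun r x => by
        simp only [RingHom.id_apply]
        rw [smul_comm] }
  have key : ∀ z : M ⊗[A] X, lTensor M μ (s • z) = z := by
    intro z
    induction z using TensorProduct.induction_on with
    | zero => simp
    | add a b ha hb => rw [smul_add, map_add, ha, hb]
    | tmul m x =>
      rw [TensorProduct.smul_tmul', TensorProduct.smul_tmul, lTensor_tmul]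
      congr 1
      show ((u⁻¹ : Cˣ) : C) • (s • x) = x
      rw [← algebraMap_smul C s x, ← hu, smul_smul, Units.inv_mul, one_smul]
  rw [← key y, h, map_zero]

end Unit

section Source
variable {A : Type u} [CommRing A] {M : Type u} [AddCommGroup M] [Module A M]

/-- flatness at the smaller primes kills the torsion after inverting `a₀` -/
lemma exists_pow_smul_eq_zero (p : Ideal A) [p.IsPrime] (a₀ : A) (ha₀p : a₀ ∈ p)
    (IH : ∀ p' : Ideal A, ∀ _ : p'.IsPrime, p' < p →
      Module.Flat A (LocalizedModule p'.primeCompl M))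
    {X Y : Type u} [AddCommGroup X] [Module A X] [AddCommGroup Y] [Module A Y]
    (hXinj : ∀ s : A, s ∉ p → ∀ y : M ⊗[A] X, s • y = 0 → y = 0)
    (ι₀ : X →ₗ[A] Y) (hι : Injective ι₀) (y : M ⊗[A] X) (hy : lTensor M ι₀ y = 0) :
    ∃ n : ℕ, a₀ ^ n • y = 0 := by
  by_contra hcon
  push_neg at hcon
  let 𝔟 : Ideal A := LinearMap.ker (LinearMap.toSpanSingleton A _ y)
  have hmem𝔟 : ∀ r : A, r ∈ 𝔟 ↔ r • y = 0 := by
    intro r
    rw [LinearMap.mem_ker, LinearMap.toSpanSingleton_apply]
  let T : Submonoid A := p.primeCompl ⊔ Submonoid.powers a₀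
  have hdisj : Disjoint (𝔟 : Set A) T := by
    rw [Set.disjoint_left]
    intro r hr hrT
    obtain ⟨s, hs, z, ⟨n, rfl⟩, rfl⟩ := Submonoid.mem_sup.1 hrT
    have h1 := (hmem𝔟 _).1 hr
    rw [mul_smul] at h1
    exact hcon n (hXinj s hs _ h1)
  obtain ⟨p', hp', h𝔟p', hp'T⟩ := Ideal.exists_le_prime_disjoint 𝔟 T hdisj
  have hle : p' ≤ p := by
    intro x hx
    by_contra hxp
    exact Set.disjoint_left.1 hp'T hx
      ((le_sup_left : p.primeCompl ≤ T) hxp)
  have ha₀ : a₀ ∉ p' := fun h => Set.disjoint_left.1 hp'T h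
    ((le_sup_right : Submonoid.powers a₀ ≤ T) (Submonoid.mem_powers a₀))
  have hlt : p' < p := lt_of_le_of_ne hle (fun h => ha₀ (h ▸ ha₀p))
  haveI := IH p' hp' hlt
  let g := LocalizedModule.mkLinearMap p'.primeCompl M
  have hcomm : lTensor (LocalizedModule p'.primeCompl M) ι₀ (rTensor X g y) =
      rTensor Y g (lTensor M ι₀ y) := by
    rw [← LinearMap.comp_apply, ← LinearMap.comp_apply, LinearMap.lTensor_comp_rTensor,
      LinearMap.rTensor_comp_lTensor]
  have h1 : lTensor (LocalizedModule p'.primeCompl M) ι₀ (rTensor X g y) = 0 := by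
    rw [hcomm, hy, map_zero]
  have hinj := Module.Flat.lTensor_preserves_injective_linearMap
    (M := LocalizedModule p'.primeCompl M) ι₀ hι
  have h2 : rTensor X g y = 0 := hinj (by rw [h1, map_zero])
  have h3 : AlgebraTensorModule.rTensor A X g y = 0 := h2
  obtain ⟨c, hc⟩ := (IsLocalizedModule.eq_zero_iff p'.primeCompl
    (AlgebraTensorModule.rTensor A X g)).1 h3
  have hc' : (c : A) • y = 0 := hc
  exact c.2 (h𝔟p' ((hmem𝔟 _).2 hc'))

end Source

section Transfer
attribute [local instance] Algebra.TensorProduct.rightAlgebra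

variable {A : Type u} [CommRing A] {B : Type u} [CommRing B] [Algebra A B]
  {M : Type u} [AddCommGroup M] [Module B M] [Module A M] [IsScalarTower A B M]
  (C : Type u) [CommRing C] [Algebra A C]

lemma dvr_baseChange
    (H : ∀ (R : Type u) [CommRing R] [IsDomain R] [IsDiscreteValuationRing R] [Algebra A R],
      Module.Flat R (R ⊗[A] M))
    (V : Type u) [CommRing V] [IsDomain V] [IsDiscreteValuationRing V] [Algebra C V] :
    Module.Flat V (V ⊗[C] ((C ⊗[A] B) ⊗[B] M)) := by
  letI : Algebra A V := ((algebraMap C V).comp (algebraMap A C)).toAlgebra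
  haveI : IsScalarTower A C V := IsScalarTower.of_algebraMap_eq (fun _ => rfl)
  haveI := H V
  let e₁ : (C ⊗[A] B) ⊗[B] M ≃ₗ[C] C ⊗[A] M :=
    Algebra.IsPushout.cancelBaseChange A C B (C ⊗[A] B) M
  let e₂ : V ⊗[C] ((C ⊗[A] B) ⊗[B] M) ≃ₗ[V] V ⊗[C] (C ⊗[A] M) :=
    TensorProduct.AlgebraTensorModule.congr (LinearEquiv.refl V V) e₁
  let e₃ : V ⊗[C] (C ⊗[A] M) ≃ₗ[V] V ⊗[A] M :=
    TensorProduct.AlgebraTensorModule.cancelBaseChange A C V V M
  exact Module.Flat.of_linearEquiv (e₂.trans e₃)

lemma awayFlat_baseChange (a₀ : A)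
    (hA : ∀ (X Y : Type u) [AddCommGroup X] [Module C X] [Module A X] [IsScalarTower A C X]
      [AddCommGroup Y] [Module C Y] [Module A Y] [IsScalarTower A C Y] (ι : X →ₗ[C] Y),
      Injective ι → ∀ y : M ⊗[A] X, lTensor M (ι.restrictScalars A) y = 0 →
      ∃ n : ℕ, a₀ ^ n • y = 0) :
    AwayFlat (algebraMap A C a₀) ((C ⊗[A] B) ⊗[B] M) := by
  intro X Y _ _ _ _ ι hι t ht
  letI : Module A X := Module.compHom X (algebraMap A C)
  letI : Module A Y := Module.compHom Y (algebraMap A C)
  haveI : IsScalarTower A C X := IsScalarTower.of_algebraMap_smul (fun _ _ => rfl)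
  haveI : IsScalarTower A C Y := IsScalarTower.of_algebraMap_smul (fun _ _ => rfl)
  have hf := TensorProduct.isBaseChange B M (C ⊗[A] B)
  obtain ⟨y, rfl⟩ := psi_surjective A C (C ⊗[A] B) X
    (TensorProduct.mk B (C ⊗[A] B) M 1) hf t
  have hy : lTensor M (ι.restrictScalars A) y = 0 := by
    apply psi_injective A C (C ⊗[A] B) Y (TensorProduct.mk B (C ⊗[A] B) M 1) hf
    rw [map_zero, psi_natural A C (C ⊗[A] B) (TensorProduct.mk B (C ⊗[A] B) M 1) ι y]
    exact ht
  obtain ⟨n, hn⟩ := hA X Y ι hι y hy
  refine ⟨n, ?_⟩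
  have h1 := psi_smul A C (C ⊗[A] B) X (TensorProduct.mk B (C ⊗[A] B) M 1)
    (algebraMap A B (a₀ ^ n)) y
  rw [algebraMap_smul, hn, map_zero] at h1
  rw [← map_pow, ← algebraMap_smul (C ⊗[A] B) (algebraMap A C (a₀ ^ n)),
    ← IsScalarTower.algebraMap_apply A C (C ⊗[A] B),
    IsScalarTower.algebraMap_apply A B (C ⊗[A] B)]
  exact h1.symm

end Transfer

section Main
attribute [local instance] Algebra.TensorProduct.rightAlgebra

theorem flat_localized_prime_aux {A : Type u} [CommRing A] [IsReduced A] [IsNoetherianRing A]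
    (B : Type u) [CommRing B] [Algebra A B] [Algebra.FiniteType A B]
    {M : Type u} [AddCommGroup M] [Module A M] [Module B M] [IsScalarTower A B M]
    [Module.Finite B M]
    (H : ∀ (R : Type u) [CommRing R] [IsDomain R] [IsDiscreteValuationRing R] [Algebra A R],
      Module.Flat R (R ⊗[A] M))
    (p : Ideal A) [p.IsPrime]
    (IH : ∀ p' : Ideal A, ∀ _ : p'.IsPrime, p' < p →
      Module.Flat A (LocalizedModule p'.primeCompl M))
    (hfield : ¬ IsField (Localization.AtPrime p))
    (C : Type u) [CommRing C] [IsLocalRing C] [IsNoetherianRing C]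
    [IsAdicComplete (maximalIdeal C) C] [Algebra (Localization.AtPrime p) C] [Algebra A C]
    [IsScalarTower A (Localization.AtPrime p) C]
    [Module.FaithfullyFlat (Localization.AtPrime p) C]
    (hmC : maximalIdeal C =
      (maximalIdeal (Localization.AtPrime p)).map (algebraMap (Localization.AtPrime p) C)) :
    Module.Flat A (LocalizedModule p.primeCompl M) := by
  have h0 : Sat (⊥ : Ideal C) := sat_bot_of_flat hfield hmC
  have hG : Ideal.span ((fun a => algebraMap A C a) '' (p : Set A)) = maximalIdeal C := by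
    rw [hmC, ← Localization.AtPrime.map_eq_maximalIdeal,
      Ideal.map_map, ← IsScalarTower.algebraMap_eq]
    rfl
  have hunit : ∀ s : A, s ∉ p → IsUnit (algebraMap A C s) := by
    intro s hs
    rw [IsScalarTower.algebraMap_apply A (Localization.AtPrime p) C]
    exact (IsLocalization.map_units (Localization.AtPrime p) (⟨s, hs⟩ : p.primeCompl)).map _
  have hP : ∀ a ∈ (fun a => algebraMap A C a) '' (p : Set A),
      AwayFlat a ((C ⊗[A] B) ⊗[B] M) := by
    rintro _ ⟨a₀, ha₀, rfl⟩
    apply awayFlat_baseChange C a₀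
    intro X Y _ _ _ _ _ _ _ _ ι hι y hy
    exact exists_pow_smul_eq_zero p a₀ ha₀ IH
      (fun s hs z hz => eq_zero_of_smul_of_isUnit (C := C) s (hunit s hs) z hz)
      (ι.restrictScalars A) hι y hy
  haveI : IsNoetherianRing (C ⊗[A] B) := Algebra.FiniteType.isNoetherianRing C (C ⊗[A] B)
  have hflatC : Module.Flat C ((C ⊗[A] B) ⊗[B] M) :=
    flat_of_complete (C ⊗[A] B) h0 _ hG hP (fun V _ _ _ _ => dvr_baseChange (B := B) C H V)
  -- descend
  haveI : Module.Flat C (C ⊗[A] M) :=
    Module.Flat.of_linearEquiv (Algebra.IsPushout.cancelBaseChange A C B (C ⊗[A] B) M).symm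
  haveI : Module.Flat C (C ⊗[Localization.AtPrime p] (Localization.AtPrime p ⊗[A] M)) :=
    Module.Flat.of_linearEquiv
      (TensorProduct.AlgebraTensorModule.cancelBaseChange A (Localization.AtPrime p) C C M)
  haveI : Module.Flat (Localization.AtPrime p) (Localization.AtPrime p ⊗[A] M) :=
    Module.Flat.of_flat_tensorProduct (Localization.AtPrime p) _ C
  haveI : Module.Flat (Localization.AtPrime p) (LocalizedModule p.primeCompl M) :=
    Module.Flat.of_linearEquiv (LocalizedModule.isBaseChange p.primeCompl M).equiv.symm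
  exact Module.Flat.trans A (Localization.AtPrime p) _

theorem flat_localized_prime {A : Type u} [CommRing A] [IsReduced A] [IsNoetherianRing A]
    (B : Type u) [CommRing B] [Algebra A B] [Algebra.FiniteType A B]
    {M : Type u} [AddCommGroup M] [Module A M] [Module B M] [IsScalarTower A B M]
    [Module.Finite B M]
    (H : ∀ (R : Type u) [CommRing R] [IsDomain R] [IsDiscreteValuationRing R] [Algebra A R],
      Module.Flat R (R ⊗[A] M))
    (p : Ideal A) [p.IsPrime]
    (IH : ∀ p' : Ideal A, ∀ _ : p'.IsPrime, p' < p →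
      Module.Flat A (LocalizedModule p'.primeCompl M)) :
    Module.Flat A (LocalizedModule p.primeCompl M) := by
  by_cases hfield : IsField (Localization.AtPrime p)
  · letI := hfield.toField
    haveI : Module.Flat (Localization.AtPrime p) (LocalizedModule p.primeCompl M) :=
      inferInstance
    exact Module.Flat.trans A (Localization.AtPrime p) _
  haveI hnoeth : IsNoetherianRing (AdicCompletion (maximalIdeal (Localization.AtPrime p))
      (Localization.AtPrime p)) := Groth.Agent.S0543.result _ _
  haveI : IsScalarTower A (Localization.AtPrime p)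
      (AdicCompletion (maximalIdeal (Localization.AtPrime p)) (Localization.AtPrime p)) :=
    IsScalarTower.of_algebraMap_eq (fun a => by
      rw [AdicCompletion.algebraMap_apply, AdicCompletion.algebraMap_apply]
      rfl)
  haveI : Module.FaithfullyFlat (Localization.AtPrime p)
      (AdicCompletion (maximalIdeal (Localization.AtPrime p)) (Localization.AtPrime p)) :=
    Module.FaithfullyFlat.of_flat_of_isLocalHom
  exact flat_localized_prime_aux B H p IH hfield
    (AdicCompletion (maximalIdeal (Localization.AtPrime p)) (Localization.AtPrime p))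
    AdicCompletion.maximalIdeal_eq_map

/-- **Valuative criterion of flatness** over a reduced Noetherian ring. -/
theorem main {A : Type u} [CommRing A] [IsReduced A] [IsNoetherianRing A]
    (B : Type u) [CommRing B] [Algebra A B] [Algebra.FiniteType A B]
    {M : Type u} [AddCommGroup M] [Module A M] [Module B M] [IsScalarTower A B M]
    [Module.Finite B M]
    (H : ∀ (R : Type u) [CommRing R] [IsDomain R] [IsDiscreteValuationRing R] [Algebra A R],
      Module.Flat R (R ⊗[A] M)) : Module.Flat A M := by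
  have claim : ∀ (n : ℕ) (p : Ideal A) (_ : p.IsPrime), p.height = (n : ℕ∞) →
      Module.Flat A (LocalizedModule p.primeCompl M) := by
    intro n
    induction n using Nat.strong_induction_on with
    | _ n ih =>
      intro p hp hpn
      apply flat_localized_prime B H p
      intro p' hp' hlt
      have h1 : p'.height < p.height := Ideal.height_strict_mono_of_isPrime hlt
      rw [hpn] at h1
      obtain ⟨m, hm⟩ := ENat.ne_top_iff_exists.1 (ne_top_of_lt h1)
      rw [← hm, Nat.cast_lt] at h1
      exact ih m h1 p' hp' hm.symm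
  apply Module.flat_of_localized_maximal
  intro p hp
  haveI : p.IsPrime := hp.isPrime
  obtain ⟨n, hn⟩ := ENat.ne_top_iff_exists.1 (Ideal.height_ne_top hp.ne_top)
  exact claim n p hp.isPrime hn.symm

end Main

end Groth.Agent.Helper8.ValFlatC
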