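import Mathlib
import Groth.Prelude
import Groth.Agent.Helper8.ValFlatC
import Groth.Agent.Helper8.SubtrNoethB
import Groth.Agent.Helper2.FlatStageLim

set_option autoImplicit false
set_option linter.unusedSectionVars false
set_option linter.unusedVariables false
open CategoryTheory CategoryTheory.Limits AlgebraicGeometry TensorProduct IsLocalRing
universe u

/-!
# Descent of flatness along universally submersive morphisms of finite type (reduced Noetherian
base), via the valuative criterion of flatness and lifting of DVR points.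
-/

namespace Groth.Agent.Helper8.HFlatDesc

/-- an extension of a discrete valuation ring by a domain which is surjective on spectra is
faithfully flat -/
lemma faithfullyFlat_of_surjective {R R' : Type u} [CommRing R] [IsDomain R]
    [IsDiscreteValuationRing R] [CommRing R'] [IsDomain R'] [Algebra R R']
    (hψ : Function.Surjective (PrimeSpectrum.comap (algebraMap R R'))) :
    Module.FaithfullyFlat R R' := by
  have hinj : Function.Injective (algebraMap R R') := by
    obtain ⟨q, hq⟩ := hψ ⟨⊥, Ideal.bot_prime⟩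
    rw [RingHom.injective_iff_ker_eq_bot, eq_bot_iff]
    intro r hr
    have h1 : r ∈ (PrimeSpectrum.comap (algebraMap R R') q).asIdeal := by
      show algebraMap R R' r ∈ q.asIdeal
      rw [RingHom.mem_ker.1 hr]
      exact zero_mem _
    rw [hq] at h1
    exact h1
  haveI : Module.IsTorsionFree R R' := by
    apply Module.IsTorsionFree.of_smul_eq_zero
    intro r m h
    rw [Algebra.smul_def, mul_eq_zero] at h
    rcases h with h | h
    · left
      exact hinj (by rw [h, map_zero])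
    · right; exact h
  haveI : Module.Flat R R' := inferInstance
  exact Module.FaithfullyFlat.of_comap_surjective hψ

theorem main {X S S' : Scheme.{u}} [IsNoetherian S] [IsReduced S] (f : X ⟶ S)
    [LocallyOfFiniteType f] (g : S' ⟶ S) [LocallyOfFiniteType g] [QuasiCompact g]
    (hg : SGA1.UnivSubmersive g) (hflat : Flat (pullback.snd f g)) : Flat f := by
  rw [HasRingHomProperty.iff_appLE (P := @Flat)]
  intro U V e
  have hU := U.2
  have hV := V.2
  letI algAB : Algebra Γ(S, U.1) Γ(X, V.1) := (f.appLE U.1 V.1 e).hom.toAlgebra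
  show (algebraMap Γ(S, U.1) Γ(X, V.1)).Flat
  rw [RingHom.flat_algebraMap_iff]
  haveI : IsNoetherianRing Γ(S, U.1) := IsLocallyNoetherian.component_noetherian ⟨U.1, hU⟩
  haveI : Algebra.FiniteType Γ(S, U.1) Γ(X, V.1) :=
    LocallyOfFiniteType.finiteType_appLE f hU hV e
  apply Groth.Agent.Helper8.ValFlatC.main (A := Γ(S, U.1)) Γ(X, V.1) (M := Γ(X, V.1))
  intro R _ _ _ _
  obtain ⟨γ, hγdef⟩ : ∃ γ : Spec (CommRingCat.of R) ⟶ S,
      γ = Spec.map (CommRingCat.ofHom (algebraMap Γ(S, U.1) R)) ≫ hU.fromSpec := ⟨_, rfl⟩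
  obtain ⟨R', i1, i2, i3, φ, h, hφsurj, hcomm⟩ :=
    (Groth.Agent.Helper8.SubtrNoethB.main34 g).1 hg R γ
  obtain ⟨ψ, hψ⟩ : ∃ ψ : CommRingCat.of R ⟶ CommRingCat.of R', Spec.map ψ = φ :=
    ⟨Spec.preimage φ, Spec.map_preimage φ⟩
  letI algRR' : Algebra R R' := ψ.hom.toAlgebra
  haveI : Module.FaithfullyFlat R R' := by
    apply faithfullyFlat_of_surjective
    intro p
    obtain ⟨p', hp'⟩ := hφsurj.surj p
    refine ⟨p', ?_⟩
    rw [← hψ] at hp'
    exact hp'
  letI algAR' : Algebra Γ(S, U.1) R' :=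
    ((algebraMap R R').comp (algebraMap Γ(S, U.1) R)).toAlgebra
  haveI : IsScalarTower Γ(S, U.1) R R' := IsScalarTower.of_algebraMap_eq (fun _ => rfl)
  suffices hsuff : Module.Flat R' (R' ⊗[Γ(S, U.1)] Γ(X, V.1)) by
    haveI : Module.Flat R' (R' ⊗[R] (R ⊗[Γ(S, U.1)] Γ(X, V.1))) :=
      Module.Flat.of_linearEquiv
        (TensorProduct.AlgebraTensorModule.cancelBaseChange Γ(S, U.1) R R' R' Γ(X, V.1))
    exact Module.Flat.of_flat_tensorProduct R _ R'
  -- the closed point of `Spec R'` lands in `g ⁻¹ U`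
  have hγU : ∀ z, γ z ∈ U.1 := by
    intro z
    rw [hγdef, Scheme.Hom.comp_apply]
    have : hU.fromSpec (Spec.map (CommRingCat.ofHom (algebraMap Γ(S, U.1) R)) z) ∈
        Set.range hU.fromSpec := ⟨_, rfl⟩
    rw [hU.range_fromSpec] at this
    exact this
  have hcl : h (closedPoint R') ∈ (g ⁻¹ᵁ U.1 : Set S') := by
    show g (h (closedPoint R')) ∈ U.1
    rw [← Scheme.Hom.comp_apply, hcomm, Scheme.Hom.comp_apply]
    exact hγU _
  obtain ⟨_, ⟨U', hU', rfl⟩, hyU', hU'le⟩ := S'.isBasis_affineOpens.exists_subset_of_mem_open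
    hcl (g ⁻¹ᵁ U.1).isOpen
  have eU' : U' ≤ g ⁻¹ᵁ U.1 := hU'le
  have hrange : Set.range h ⊆ Set.range hU'.fromSpec := by
    rw [hU'.range_fromSpec]
    rintro _ ⟨p, rfl⟩
    have hsp : p ⤳ closedPoint R' := IsLocalRing.specializes_closedPoint p
    exact (hsp.map h.continuous).mem_open U'.isOpen hyU'
  obtain ⟨h', hh'⟩ : ∃ h' : Spec (CommRingCat.of R') ⟶ Spec Γ(S', U'),
      h' ≫ hU'.fromSpec = h :=
    ⟨IsOpenImmersion.lift hU'.fromSpec h hrange, IsOpenImmersion.lift_fac _ _ _⟩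
  obtain ⟨θ, hθ⟩ : ∃ θ : Γ(S', U') ⟶ CommRingCat.of R', Spec.map θ = h' :=
    ⟨Spec.preimage h', Spec.map_preimage h'⟩
  -- compatibility of the ring maps
  have hcompat : g.appLE U.1 U' eU' ≫ θ = CommRingCat.ofHom (algebraMap Γ(S, U.1) R') := by
    apply Spec.map_injective
    rw [Spec.map_comp]
    have h1 : (Spec.map θ ≫ Spec.map (g.appLE U.1 U' eU')) ≫ hU.fromSpec =
        Spec.map (CommRingCat.ofHom (algebraMap Γ(S, U.1) R')) ≫ hU.fromSpec := by
      rw [Category.assoc, IsAffineOpen.SpecMap_appLE_fromSpec g hU hU' eU', hθ,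
        ← Category.assoc, hh', hcomm, hγdef, ← hψ, ← Category.assoc, ← Spec.map_comp]
      rfl
    exact (cancel_mono hU.fromSpec).1 h1
  -- the stage of the pullback
  have hc : IsPullback (pullback.fst f g) (pullback.snd f g) f g := IsPullback.of_hasPullback f g
  obtain ⟨W', hW'def⟩ : ∃ W' : (pullback f g).Opens,
      W' = pullback.fst f g ⁻¹ᵁ V.1 ⊓ pullback.snd f g ⁻¹ᵁ U' := ⟨_, rfl⟩
  obtain ⟨hW', hpo⟩ := Groth.Agent.Helper2.FlatStageLim.stage_pushout hc hU hV e hU' eU' hW'def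
  have e1 : W' ≤ pullback.snd f g ⁻¹ᵁ U' := by rw [hW'def]; exact inf_le_right
  have e2 : W' ≤ pullback.fst f g ⁻¹ᵁ V.1 := by rw [hW'def]; exact inf_le_left
  have hfl : ((pullback.snd f g).appLE U' W' e1).hom.Flat :=
    HasRingHomProperty.appLE (P := @Flat) _ hflat ⟨U', hU'⟩ ⟨W', hW'⟩ e1
  letI algAA' : Algebra Γ(S, U.1) Γ(S', U') := (g.appLE U.1 U' eU').hom.toAlgebra
  letI algBB' : Algebra Γ(X, V.1) Γ(pullback f g, W') :=
    ((pullback.fst f g).appLE V.1 W' e2).hom.toAlgebra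
  letI algA'B' : Algebra Γ(S', U') Γ(pullback f g, W') :=
    ((pullback.snd f g).appLE U' W' e1).hom.toAlgebra
  letI algAB' : Algebra Γ(S, U.1) Γ(pullback f g, W') :=
    ((f.appLE U.1 V.1 e) ≫ ((pullback.fst f g).appLE V.1 W' e2)).hom.toAlgebra
  haveI : IsScalarTower Γ(S, U.1) Γ(X, V.1) Γ(pullback f g, W') :=
    IsScalarTower.of_algebraMap_eq (fun _ => rfl)
  haveI : IsScalarTower Γ(S, U.1) Γ(S', U') Γ(pullback f g, W') :=
    IsScalarTower.of_algebraMap_eq (fun r => congr($(hpo.w).hom r))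
  haveI hpush : Algebra.IsPushout Γ(S, U.1) Γ(X, V.1) Γ(S', U') Γ(pullback f g, W') :=
    CommRingCat.isPushout_iff_isPushout.mp hpo
  haveI : Module.Flat Γ(S', U') Γ(pullback f g, W') :=
    (RingHom.flat_algebraMap_iff).1 hfl
  letI algA'R' : Algebra Γ(S', U') R' := θ.hom.toAlgebra
  haveI : IsScalarTower Γ(S, U.1) Γ(S', U') R' :=
    IsScalarTower.of_algebraMap_eq (fun a => (congr($(hcompat).hom a)).symm)
  haveI hpush' : Algebra.IsPushout Γ(S, U.1) Γ(S', U') Γ(X, V.1) Γ(pullback f g, W') :=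
    Algebra.IsPushout.symm hpush
  haveI : Module.Flat Γ(S', U') (Γ(S', U') ⊗[Γ(S, U.1)] Γ(X, V.1)) :=
    Module.Flat.of_linearEquiv
      (Algebra.IsPushout.equiv Γ(S, U.1) Γ(S', U') Γ(X, V.1) Γ(pullback f g, W')).toLinearEquiv
  haveI : Module.Flat R' (R' ⊗[Γ(S', U')] (Γ(S', U') ⊗[Γ(S, U.1)] Γ(X, V.1))) := inferInstance
  exact Module.Flat.of_linearEquiv
    (TensorProduct.AlgebraTensorModule.cancelBaseChange Γ(S, U.1) Γ(S', U') R' R' Γ(X, V.1)).symm

end Groth.Agent.Helper8.HFlatDesc
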