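import Mathlib
import Groth.Prelude.Def_W4c2invhilbsl2HJ
import Groth.Agent.Helper8.HJcopy

namespace Groth.Agent.Helper8.HJn

open W4c2invhilbsl2 HJFrac Groth.Agent.Helper8.HJcopy

lemma seq_coprime (c : List ℤ) (u₀ u₁ : ℤ) (h : IsCoprime u₀ u₁) (i : ℕ) :
    IsCoprime (seq c u₀ u₁ i) (seq c u₀ u₁ (i + 1)) := by
  induction i with
  | zero => simpa using h
  | succ n ih =>
    rw [seq_succ_succ]
    have := (ih.symm.neg_right).add_mul_left_right (c.getD n 0)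
    have e : -seq c u₀ u₁ n + seq c u₀ u₁ (n + 1) * c.getD n 0 =
        c.getD n 0 * seq c u₀ u₁ (n + 1) - seq c u₀ u₁ n := by ring
    rw [e] at this
    exact this

lemma coprime_bt (p q m : ℕ) (hpq : p < q) (hcop : Nat.Coprime p q) (hm : 0 < m) :
    Nat.Coprime (bB p q m) (tT p q m) := by
  have hg := gcdK_pos p q m hpq hm
  have hb := bB_mul p q m hpq hm
  have ht := tT_mul p q m hpq hm
  have hn : 0 < q - p := Nat.sub_pos_of_lt hpq
  have hβ : m * p % (q - p) ≤ q - p := (Nat.mod_lt _ hn).le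
  have h1 : Nat.gcd (gcdK p q m * bB p q m) (gcdK p q m * tT p q m) = gcdK p q m := by
    rw [hb, ht, Nat.gcd_self_sub_right hβ, Nat.gcd_comm, ← Nat.gcd_rec]
    have hcop' : Nat.Coprime p (q - p) := (Nat.coprime_sub_self_right hpq.le).mpr hcop
    rw [Nat.Coprime.gcd_mul_right_cancel_right m hcop', Nat.gcd_comm]
    rfl
  rw [Nat.gcd_mul_left] at h1
  have : gcdK p q m * Nat.gcd (bB p q m) (tT p q m) = gcdK p q m * 1 := by rw [h1, mul_one]
  exact Nat.eq_of_mul_eq_mul_left hg this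

theorem main35 (p q m : ℕ) (hpq : p < q) (hcop : Nat.Coprime p q) (hm : 0 < m)
    (c : List ℤ) (hc : W4c2invhilbsl2.IsHJDigits p q m c) :
    (∀ i : ℕ, i ≤ c.length + 1 →
      W4c2invhilbsl2.nN p q m c i = (W4c2invhilbsl2.gcdK p q m : ℤ) *
        ((W4c2invhilbsl2.tT p q m : ℤ) * W4c2invhilbsl2.hjP c i -
          (W4c2invhilbsl2.bB p q m : ℤ) * W4c2invhilbsl2.hjQ c i)) ∧
    (∀ i : ℕ, 2 ≤ i → i ≤ c.length + 1 →
      W4c2invhilbsl2.nN p q m c i = c.getD (i - 2) 0 * W4c2invhilbsl2.nN p q m c (i - 1) -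
        W4c2invhilbsl2.nN p q m c (i - 2)) ∧
    (∀ i : ℕ, i ≤ c.length → W4c2invhilbsl2.nN p q m c (i + 1) < W4c2invhilbsl2.nN p q m c i) ∧
    W4c2invhilbsl2.nN p q m c 0 = (q : ℤ) - p ∧
    W4c2invhilbsl2.nN p q m c c.length = W4c2invhilbsl2.gcdK p q m ∧
    W4c2invhilbsl2.nN p q m c (c.length + 1) = 0 := by
  have hgpos := gcdK_pos p q m hpq hm
  have hg : (0 : ℤ) < (gcdK p q m : ℤ) := by exact_mod_cast hgpos
  have htpos : (0 : ℤ) < (tT p q m : ℤ) := by exact_mod_cast tT_pos p q m hpq hm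
  have hbpos : (0 : ℤ) < (bB p q m : ℤ) := by exact_mod_cast bB_pos p q m hpq hm
  have hval := hval_cast p q m hpq hm c hc
  have hne : c ≠ [] := c_ne_nil c hc.1 _ _ htpos hval hbpos
  obtain ⟨h1, h2, h3⟩ := seq_props c hc.1 hne _ _ htpos hval
  refine ⟨fun i _ => ?_, fun i hi _ => ?_, fun i hi => ?_, ?_, ?_, ?_⟩
  · rw [nN_eq p q m hpq hm, seq_lin]
  · obtain ⟨j, rfl⟩ : ∃ j, i = j + 2 := ⟨i - 2, by omega⟩
    simp only [Nat.add_sub_cancel]
    have : j + 2 - 1 = j + 1 := by omega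
    rw [this, nN_eq p q m hpq hm, nN_eq p q m hpq hm, nN_eq p q m hpq hm, seq_succ_succ]
    ring
  · rw [nN_eq p q m hpq hm, nN_eq p q m hpq hm]
    exact mul_lt_mul_of_pos_left (h1 i hi) hg
  · rw [nN_eq p q m hpq hm, seq_zero]
    have := bB_mul p q m hpq hm
    have h' : ((gcdK p q m * bB p q m : ℕ) : ℤ) = ((q - p : ℕ) : ℤ) := by rw [this]
    rw [Nat.cast_sub hpq.le] at h'
    push_cast at h'
    exact h'
  · rw [nN_eq p q m hpq hm]
    have hcp : IsCoprime ((bB p q m : ℕ) : ℤ) ((tT p q m : ℕ) : ℤ) :=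
      Nat.isCoprime_iff_coprime.mpr (coprime_bt p q m hpq hcop hm)
    have := seq_coprime c _ _ hcp c.length
    rw [h3, isCoprime_zero_right, Int.isUnit_iff] at this
    have hpos := h2 c.length le_rfl
    rcases this with h | h
    · rw [h, mul_one]
    · rw [h] at hpos; omega
  · rw [nN_eq p q m hpq hm, h3, mul_zero]

end Groth.Agent.Helper8.HJn
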