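import Mathlib
import Groth.Prelude.Def_W4c2invhilbsl2

namespace Groth.Agent.Helper8.WtPiece

open MvPolynomial

variable {σ : Type*} {k : Type*} [CommRing k] {M : Type*} [AddCommGroup M] (w : σ → M)

/-- polynomials congruent modulo `P` to a weight-zero combination of the generators `g`. -/
def G {n : ℕ} (g : Fin n → MvPolynomial σ k) (P : Ideal (MvPolynomial σ k)) :
    Submodule k (MvPolynomial σ k) where
  carrier := {f | ∃ a : Fin n → MvPolynomial σ k,
    (∀ i, a i ∈ weightedHomogeneousSubmodule k w 0) ∧ f - ∑ i, a i * g i ∈ P}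
  zero_mem' := ⟨0, fun i => Submodule.zero_mem _, by simp⟩
  add_mem' := by
    rintro f f' ⟨a, ha, hf⟩ ⟨a', ha', hf'⟩
    refine ⟨a + a', fun i => Submodule.add_mem _ (ha i) (ha' i), ?_⟩
    have : f + f' - ∑ i, (a + a') i * g i = (f - ∑ i, a i * g i) + (f' - ∑ i, a' i * g i) := by
      simp only [Pi.add_apply, add_mul, Finset.sum_add_distrib]; ring
    rw [this]; exact P.add_mem hf hf'
  smul_mem' := by
    rintro c f ⟨a, ha, hf⟩
    refine ⟨c • a, fun i => Submodule.smul_mem _ c (ha i), ?_⟩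
    have : c • f - ∑ i, (c • a) i * g i = C c * (f - ∑ i, a i * g i) := by
      simp only [Pi.smul_apply, smul_eq_C_mul, mul_sub, Finset.mul_sum, mul_assoc]
    rw [this]; exact P.mul_mem_left _ hf

lemma mem_G {n : ℕ} (g : Fin n → MvPolynomial σ k) (P : Ideal (MvPolynomial σ k))
    (f : MvPolynomial σ k) : f ∈ G w g P ↔ ∃ a : Fin n → MvPolynomial σ k,
    (∀ i, a i ∈ weightedHomogeneousSubmodule k w 0) ∧ f - ∑ i, a i * g i ∈ P := Iff.rfl

lemma le_G_of_monomials (ν : M) {n : ℕ} (g : Fin n → MvPolynomial σ k)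
    (P : Ideal (MvPolynomial σ k))
    (h : ∀ d, Finsupp.weight w d = ν → ∀ c : k, monomial d c ∈ G w g P) :
    weightedHomogeneousSubmodule k w ν ≤ G w g P := by
  intro f hf
  rw [← support_sum_monomial_coeff f]
  exact Submodule.sum_mem _ fun d hd => h d (hf (mem_support_iff.mp hd)) _

lemma weight_sub_eq_zero {ν : M} {d e : σ →₀ ℕ} (hed : e ≤ d) (he : Finsupp.weight w e = ν)
    (hd : Finsupp.weight w d = ν) : Finsupp.weight w (d - e) = 0 := by
  have h1 : d - e + e = d := tsub_add_cancel_of_le hed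
  have h2 := congrArg (Finsupp.weight w) h1
  rw [map_add, he, hd] at h2
  exact add_eq_right.mp h2

lemma monomial_mem_of_le {ν : M} {n : ℕ} (g : Fin n → MvPolynomial σ k)
    (P : Ideal (MvPolynomial σ k)) (i : Fin n) (e : σ →₀ ℕ) (hg : g i = monomial e 1)
    (he : Finsupp.weight w e = ν) (d : σ →₀ ℕ) (hd : Finsupp.weight w d = ν) (hed : e ≤ d) (c : k) :
    monomial d c ∈ G w g P := by
  classical
  refine ⟨Pi.single i (monomial (d - e) c), fun j => ?_, ?_⟩
  · by_cases hj : j = i
    · subst hj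
      rw [Pi.single_eq_same]
      exact isWeightedHomogeneous_monomial _ _ _ (weight_sub_eq_zero w hed he hd)
    · rw [Pi.single_eq_of_ne hj]
      exact Submodule.zero_mem _
  · rw [Finset.sum_eq_single i]
    · rw [Pi.single_eq_same, hg, monomial_mul, mul_one, tsub_add_cancel_of_le hed, sub_self]
      exact P.zero_mem
    · intro j _ hj
      rw [Pi.single_eq_of_ne hj, zero_mul]
    · intro h; exact absurd (Finset.mem_univ i) h

lemma X_mul_X_eq (a b : σ) :
    (X a * X b : MvPolynomial σ k) = monomial (Finsupp.single a 1 + Finsupp.single b 1) 1 := by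
  rw [X, X, monomial_mul, mul_one]

lemma X_pow_eq' (a : σ) (n : ℕ) :
    (X a ^ n : MvPolynomial σ k) = monomial (Finsupp.single a n) 1 := by
  rw [X_pow_eq_monomial]

end Groth.Agent.Helper8.WtPiece
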