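import Mathlib
import Groth.Prelude.Def_W4c2invhilbsl2
import Groth.Agent.Helper8.WtPiece

namespace Groth.Agent.Helper8.WtPiece3

open MvPolynomial W4c2invhilbsl2 Groth.Agent.Helper8.WtPiece

lemma weight3_fst (p q m : ℕ) (d : Fin 3 →₀ ℕ) :
    (Finsupp.weight (wt3 p q m) d).1 = (d 0 : ℤ) - p * d 1 + q * d 2 := by
  rw [Finsupp.weight_eq_sum, Fin.sum_univ_three]
  simp [wt3]
  ring

lemma arith (p q a b c : ℕ) (hp : 0 < p) (hpq : p < q)
    (h : (a : ℤ) - p * b + q * c = q - p) (hbc : ¬ (1 ≤ b ∧ 1 ≤ c)) : q - p ≤ a := by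
  have hpq' : (p : ℤ) < q := by exact_mod_cast hpq
  have hp' : (0 : ℤ) < p := by exact_mod_cast hp
  zify [hpq.le]
  rcases Nat.eq_zero_or_pos b with hb | hb
  · subst hb
    rcases Nat.eq_zero_or_pos c with hc | hc
    · subst hc; simp at h; linarith
    · have h1 : (1 : ℤ) ≤ c := by exact_mod_cast hc
      have h2 : (q : ℤ) ≤ q * c := by nlinarith
      simp at h
      have h3 : (0 : ℤ) ≤ a := by positivity
      linarith
  · have hc : c = 0 := by omega
    subst hc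
    simp at h
    have h2 : (0 : ℤ) ≤ p * b := by positivity
    linarith

theorem main25 (k : Type*) [Field k] (p q m : ℕ) (hp : 0 < p) (hpq : p < q)
    (f : MvPolynomial (Fin 3) k)
    (hf : f ∈ MvPolynomial.weightedHomogeneousSubmodule k (W4c2invhilbsl2.wt3 p q m)
      ((q : ℤ) - (p : ℤ), (0 : ZMod m))) :
    ∃ a b : MvPolynomial (Fin 3) k,
      a ∈ MvPolynomial.weightedHomogeneousSubmodule k (W4c2invhilbsl2.wt3 p q m) 0 ∧
      b ∈ MvPolynomial.weightedHomogeneousSubmodule k (W4c2invhilbsl2.wt3 p q m) 0 ∧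
      f = a * MvPolynomial.X (0 : Fin 3) ^ (q - p) +
        b * (MvPolynomial.X (1 : Fin 3) * MvPolynomial.X (2 : Fin 3)) := by
  set ν : ℤ × ZMod m := ((q : ℤ) - (p : ℤ), (0 : ZMod m)) with hν
  set g : Fin 2 → MvPolynomial (Fin 3) k := ![X 0 ^ (q - p), X 1 * X 2] with hg
  have he0 : Finsupp.weight (wt3 p q m) (Finsupp.single (0 : Fin 3) (q - p)) = ν := by
    rw [Finsupp.weight_single]
    simp [wt3, hν, Nat.cast_sub hpq.le]
  have he1 : Finsupp.weight (wt3 p q m) (Finsupp.single (1 : Fin 3) 1 + Finsupp.single (2 : Fin 3) 1) = ν := by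
    rw [map_add, Finsupp.weight_single, Finsupp.weight_single]
    simp [wt3, hν]
    ring
  have key : weightedHomogeneousSubmodule k (wt3 p q m) ν ≤ G (wt3 p q m) g ⊥ := by
    refine le_G_of_monomials _ ν g ⊥ fun d hd c => ?_
    have h1 := congrArg Prod.fst hd
    rw [weight3_fst] at h1
    simp only [hν] at h1
    by_cases hc : 1 ≤ d 1 ∧ 1 ≤ d 2
    · refine monomial_mem_of_le _ g ⊥ 1 _ (by simp [hg, X_mul_X_eq]) he1 d hd ?_ c
      intro i
      fin_cases i <;> simp <;> omega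
    · refine monomial_mem_of_le _ g ⊥ 0 _ (by simp [hg, X_pow_eq']) he0 d hd ?_ c
      have h3 : q - p ≤ d 0 := arith p q (d 0) (d 1) (d 2) hp hpq h1 hc
      intro i
      fin_cases i <;> simp <;> omega
  obtain ⟨a, ha, hfa⟩ := key hf
  refine ⟨a 0, a 1, ha 0, ha 1, ?_⟩
  rw [Ideal.mem_bot, sub_eq_zero, Fin.sum_univ_two] at hfa
  rw [hfa]
  simp [hg]

end Groth.Agent.Helper8.WtPiece3
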