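import Mathlib
import Groth.Prelude.Def_W4c2invhilbsl2HJ
import Groth.Agent.Helper8.HJcopy
import Groth.Agent.Helper8.HJn
import Groth.Agent.Helper8.WtPiece
import Groth.Agent.Helper8.WtPiece3

namespace Groth.Agent.Helper8.HJpiece

open W4c2invhilbsl2 HJFrac Groth.Agent.Helper8.HJcopy

/-- the arithmetic core: a monomial of weight `(n, 0)` with `d0 < n` has `e ≤ d1`, `l ≤ d2`. -/
lemma core (p q m : ℕ) (hpq : p < q) (hm : 0 < m) (n P l e : ℤ) (hnlt : n < (q : ℤ) - p)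
    (hl : ((q : ℤ) - p) * l = n + p * m * P) (he : e = l + m * P)
    (hres : ∀ x : ℤ, 0 < x → x < P →
      Int.emod ((p : ℤ) * m * x + n) ((q : ℤ) - p) = n + Int.emod ((p : ℤ) * m * x) ((q : ℤ) - p))
    (d0 d1 d2 : ℕ) (h1 : (d0 : ℤ) - p * d1 + q * d2 = n) (h2 : (m : ℤ) ∣ (d2 : ℤ) - d1)
    (hd0 : (d0 : ℤ) < n) : e ≤ d1 ∧ l ≤ d2 := by
  have hqp : (0 : ℤ) < (q : ℤ) - p := by
    have : (p : ℤ) < q := by exact_mod_cast hpq
    linarith
  have hm' : (1 : ℤ) ≤ m := by exact_mod_cast hm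
  have hp0 : (0 : ℤ) ≤ p := by positivity
  obtain ⟨j, hj⟩ := h2
  set x : ℤ := -j with hx
  have hd1 : (d1 : ℤ) = d2 + m * x := by rw [hx]; linarith
  have hd0e : (d0 : ℤ) = n + p * m * x - ((q : ℤ) - p) * d2 := by
    rw [← h1, hd1]; ring
  have hd2nn : (0 : ℤ) ≤ d2 := by positivity
  have hd1nn : (0 : ℤ) ≤ d1 := by positivity
  have hd0nn : (0 : ℤ) ≤ d0 := by positivity
  rcases lt_trichotomy x 0 with hxneg | hx0 | hxpos
  · -- x < 0
    exfalso
    have h3 : (m : ℤ) * x ≤ -1 := by nlinarith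
    have h4 : (1 : ℤ) ≤ d2 := by linarith
    have h5 : (p : ℤ) * m * x ≤ 0 := by
      have : (p : ℤ) * m * x = p * (m * x) := by ring
      rw [this]; nlinarith
    have h6 : ((q : ℤ) - p) * 1 ≤ ((q : ℤ) - p) * d2 := by
      exact mul_le_mul_of_nonneg_left h4 hqp.le
    linarith
  · exfalso
    rw [hx0] at hd0e hd1
    simp only [mul_zero, add_zero] at hd0e hd1
    have h4 : (1 : ℤ) ≤ d2 := by
      by_contra hcon
      have : (d2 : ℤ) = 0 := by omega
      rw [this] at hd0e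
      linarith
    have h6 : ((q : ℤ) - p) * 1 ≤ ((q : ℤ) - p) * d2 := by
      exact mul_le_mul_of_nonneg_left h4 hqp.le
    linarith
  · rcases lt_or_ge x P with hxP | hxP
    · exfalso
      have h7 := hres x hxpos hxP
      have h8 : (d0 : ℤ) % ((q : ℤ) - p) = ((p : ℤ) * m * x + n) % ((q : ℤ) - p) := by
        have : (d0 : ℤ) = ((p : ℤ) * m * x + n) + ((q : ℤ) - p) * (-(d2 : ℤ)) := by
          rw [hd0e]; ring
        rw [this, Int.add_mul_emod_self_left]
      have h9 : (d0 : ℤ) % ((q : ℤ) - p) ≤ d0 := by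
        have h1' := Int.emod_add_mul_ediv (d0 : ℤ) ((q : ℤ) - p)
        have h2' : 0 ≤ (d0 : ℤ) / ((q : ℤ) - p) := Int.ediv_nonneg hd0nn hqp.le
        nlinarith
      have h10 : (0 : ℤ) ≤ ((p : ℤ) * m * x) % ((q : ℤ) - p) := Int.emod_nonneg _ hqp.ne'
      have h7' : ((p : ℤ) * m * x + n) % ((q : ℤ) - p) = n + ((p : ℤ) * m * x) % ((q : ℤ) - p) := h7
      linarith
    · -- x ≥ P
      have hz : l ≤ d2 := by
        by_contra hcon
        have h11 : (d2 : ℤ) + 1 ≤ l := by omega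
        have h12 : ((q : ℤ) - p) * ((d2 : ℤ) + 1) ≤ ((q : ℤ) - p) * l :=
          mul_le_mul_of_nonneg_left h11 hqp.le
        have h13 : (p : ℤ) * m * P ≤ p * m * x := by
          have : (0 : ℤ) ≤ (p : ℤ) * m := by positivity
          exact mul_le_mul_of_nonneg_left hxP this
        -- d0 = n + pmx - (q-p) d2 ≥ n + pmP - (q-p) d2 = (q-p) l - (q-p) d2 ≥ q - p > n
        linarith
      refine ⟨?_, hz⟩
      rw [he, hd1]
      have : (m : ℤ) * P ≤ m * x := mul_le_mul_of_nonneg_left hxP (by positivity)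
      linarith

lemma hj_facts (p q m : ℕ) (hpq : p < q) (hm : 0 < m)
    (c : List ℤ) (hc : IsHJDigits p q m c) (i : ℕ) (hi : 1 ≤ i) (hir : i ≤ c.length) :
    0 < nN p q m c i ∧ nN p q m c i < (q : ℤ) - p ∧
    ((q : ℤ) - p) * lL p q m c i = nN p q m c i + p * m * hjP c i ∧
    eE p q m c i = lL p q m c i + m * hjP c i ∧
    0 ≤ hjP c i ∧ 0 ≤ lL p q m c i ∧ 0 ≤ eE p q m c i ∧
    (∀ x : ℤ, 0 < x → x < hjP c i →
      Int.emod ((p : ℤ) * m * x + nN p q m c i) ((q : ℤ) - p) =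
        nN p q m c i + Int.emod ((p : ℤ) * m * x) ((q : ℤ) - p)) := by
  have hgpos := gcdK_pos p q m hpq hm
  have hg : (0 : ℤ) < (gcdK p q m : ℤ) := by exact_mod_cast hgpos
  have htpos : (0 : ℤ) < (tT p q m : ℤ) := by exact_mod_cast tT_pos p q m hpq hm
  have hbpos : (0 : ℤ) < (bB p q m : ℤ) := by exact_mod_cast bB_pos p q m hpq hm
  have hval := hval_cast p q m hpq hm c hc
  have hne : c ≠ [] := c_ne_nil c hc.1 _ _ htpos hval hbpos
  obtain ⟨h1, h2, h3⟩ := seq_props c hc.1 hne _ _ htpos hval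
  have hqp : (0 : ℤ) < (q : ℤ) - p := by
    have : (p : ℤ) < q := by exact_mod_cast hpq
    linarith
  have hn0 : 0 < nN p q m c i := by
    rw [nN_eq p q m hpq hm]
    exact mul_pos hg (h2 i hir)
  have hnlt : nN p q m c i < (q : ℤ) - p := by
    rw [nN_eq p q m hpq hm]
    have hlt := seq_lt_b c hc.1 _ _ htpos hval hbpos i hi (by omega)
    have hb := bB_mul p q m hpq hm
    have h' : ((gcdK p q m * bB p q m : ℕ) : ℤ) = ((q - p : ℕ) : ℤ) := by rw [hb]
    rw [Nat.cast_sub hpq.le] at h'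
    push_cast at h'
    rw [← h']
    exact mul_lt_mul_of_pos_left hlt hg
  have hP0 : 0 ≤ hjP c i := (hjP_mono' c hc.1 i hir).1
  have hel : eE p q m c i = lL p q m c i + m * hjP c i := by
    unfold eE lL; push_cast; ring
  have hl : ((q : ℤ) - p) * lL p q m c i = nN p q m c i + p * m * hjP c i := by
    unfold nN
    rw [hel]; ring
  have hl0 : 0 ≤ lL p q m c i := by
    have h5 : (0 : ℤ) ≤ p * m * hjP c i := by positivity
    have h6 : 0 < ((q : ℤ) - p) * lL p q m c i := by rw [hl]; linarith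
    by_contra hcon
    push Not at hcon
    have : ((q : ℤ) - p) * lL p q m c i ≤ 0 := by nlinarith
    linarith
  have he0 : 0 ≤ eE p q m c i := by
    rw [hel]
    have : (0 : ℤ) ≤ m * hjP c i := by positivity
    linarith
  refine ⟨hn0, hnlt, hl, hel, hP0, hl0, he0, ?_⟩
  intro x hx0 hxP
  rcases Nat.lt_or_ge 1 i with h1i | h1i
  · exact S15733_main p q m hpq hm c hc i h1i hir x hx0 hxP
  · have : i = 1 := by omega
    subst this
    have : hjP c 1 = 1 := rfl
    rw [this] at hxP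
    omega

open MvPolynomial Groth.Agent.Helper8.WtPiece

lemma weight3_snd (p q m : ℕ) (d : Fin 3 →₀ ℕ) :
    (Finsupp.weight (wt3 p q m) d).2 = (((d 2 : ℤ) - (d 1 : ℤ) : ℤ) : ZMod m) := by
  rw [Finsupp.weight_eq_sum, Fin.sum_univ_three]
  simp [wt3]
  ring

theorem main29 (k : Type*) [Field k] (p q m : ℕ) (hpq : p < q) (hm : 0 < m)
    (c : List ℤ) (hc : W4c2invhilbsl2.IsHJDigits p q m c) (i : ℕ) (hi : 1 ≤ i) (hir : i ≤ c.length)
    (f : MvPolynomial (Fin 3) k)
    (hf : f ∈ MvPolynomial.weightedHomogeneousSubmodule k (W4c2invhilbsl2.wt3 p q m)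
      (W4c2invhilbsl2.nN p q m c i, (0 : ZMod m))) :
    ∃ a b : MvPolynomial (Fin 3) k,
      a ∈ MvPolynomial.weightedHomogeneousSubmodule k (W4c2invhilbsl2.wt3 p q m) 0 ∧
      b ∈ MvPolynomial.weightedHomogeneousSubmodule k (W4c2invhilbsl2.wt3 p q m) 0 ∧
      f = a * MvPolynomial.X (0 : Fin 3) ^ (W4c2invhilbsl2.nN p q m c i).toNat +
        b * (MvPolynomial.X (1 : Fin 3) ^ (W4c2invhilbsl2.eE p q m c i).toNat *
          MvPolynomial.X (2 : Fin 3) ^ (W4c2invhilbsl2.lL p q m c i).toNat) := by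
  obtain ⟨hn0, hnlt, hl, hel, hP0, hl0, he0, hres⟩ := hj_facts p q m hpq hm c hc i hi hir
  set N := (nN p q m c i).toNat with hN
  set E := (eE p q m c i).toNat with hE
  set L := (lL p q m c i).toNat with hL
  have hNc : (N : ℤ) = nN p q m c i := Int.toNat_of_nonneg hn0.le
  have hEc : (E : ℤ) = eE p q m c i := Int.toNat_of_nonneg he0
  have hLc : (L : ℤ) = lL p q m c i := Int.toNat_of_nonneg hl0
  set ν : ℤ × ZMod m := (nN p q m c i, (0 : ZMod m)) with hν
  set g : Fin 2 → MvPolynomial (Fin 3) k := ![X 0 ^ N, X 1 ^ E * X 2 ^ L] with hg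
  have hw0 : Finsupp.weight (wt3 p q m) (Finsupp.single (0 : Fin 3) N) = ν := by
    rw [Finsupp.weight_single]
    simp [wt3, hν, hNc]
  have hw1 : Finsupp.weight (wt3 p q m)
      (Finsupp.single (1 : Fin 3) E + Finsupp.single (2 : Fin 3) L) = ν := by
    rw [map_add, Finsupp.weight_single, Finsupp.weight_single]
    refine Prod.ext ?_ ?_
    · simp [wt3, hν, hEc, hLc]
      unfold nN
      ring
    · have : ((L : ℤ) - (E : ℤ) : ℤ) = -(m : ℤ) * hjP c i := by rw [hEc, hLc, hel]; ring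
      have h2 : (((L : ℤ) - (E : ℤ) : ℤ) : ZMod m) = 0 := by
        rw [this]; push_cast; simp
      push_cast at h2
      simp only [Prod.snd_add, Prod.smul_snd, hν]
      simp [wt3]
      rw [← h2]; ring
  have key : weightedHomogeneousSubmodule k (wt3 p q m) ν ≤ G (wt3 p q m) g ⊥ := by
    refine le_G_of_monomials _ ν g ⊥ fun d hd cc => ?_
    have h1 := congrArg Prod.fst hd
    have h2 := congrArg Prod.snd hd
    rw [WtPiece3.weight3_fst] at h1
    rw [weight3_snd] at h2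
    simp only [hν] at h1 h2
    have h2' : (m : ℤ) ∣ (d 2 : ℤ) - d 1 := (ZMod.intCast_zmod_eq_zero_iff_dvd _ _).mp h2
    by_cases hNd : N ≤ d 0
    · refine monomial_mem_of_le _ g ⊥ 0 _ (by simp [hg, X_pow_eq_monomial]) hw0 d hd ?_ cc
      intro j
      fin_cases j <;> simp <;> omega
    · have hd0 : (d 0 : ℤ) < nN p q m c i := by rw [← hNc]; exact_mod_cast not_le.mp hNd
      obtain ⟨hE', hL'⟩ := core p q m hpq hm _ _ _ _ hnlt hl hel hres (d 0) (d 1) (d 2) h1 h2' hd0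
      have hE'' : E ≤ d 1 := by rw [← hEc] at hE'; exact_mod_cast hE'
      have hL'' : L ≤ d 2 := by rw [← hLc] at hL'; exact_mod_cast hL'
      refine monomial_mem_of_le _ g ⊥ 1 _ ?_ hw1 d hd ?_ cc
      · simp [hg, X_pow_eq_monomial, monomial_mul]
      · intro j
        fin_cases j <;> simp <;> omega
  obtain ⟨a, ha, hfa⟩ := key hf
  refine ⟨a 0, a 1, ha 0, ha 1, ?_⟩
  rw [Ideal.mem_bot, sub_eq_zero, Fin.sum_univ_two] at hfa
  rw [hfa]
  simp [hg]

end Groth.Agent.Helper8.HJpiece
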