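import Mathlib
import Groth.Prelude.Def_W4c2invhilbsl2
import Groth.Agent.Helper8.WtPiece
import Groth.Agent.Helper8.WtPiece3

namespace Groth.Agent.Helper8.WtPiece5

open MvPolynomial W4c2invhilbsl2 Groth.Agent.Helper8.WtPiece

lemma weight5_fst (p q m : ℕ) (d : Fin 5 →₀ ℕ) :
    (Finsupp.weight (wt5 p q m) d).1 = (d 0 : ℤ) - p * ((d 1 + d 2 : ℕ) : ℤ) + q * ((d 3 + d 4 : ℕ) : ℤ) := by
  rw [Finsupp.weight_eq_sum, Fin.sum_univ_five]
  simp [wt5]
  ring

lemma X_eq (a : Fin 5) {k : Type*} [CommRing k] :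
    (X a : MvPolynomial (Fin 5) k) = monomial (Finsupp.single a 1) 1 := rfl

lemma weight_single_one (p q m : ℕ) (a : Fin 5) :
    Finsupp.weight (wt5 p q m) (Finsupp.single a 1) = wt5 p q m a := by
  rw [Finsupp.weight_single, one_smul]

lemma weight_e0 (p q m : ℕ) (hpq : p < q) :
    Finsupp.weight (wt5 p q m) (Finsupp.single (0 : Fin 5) (q - p)) = ((q : ℤ) - p, (0 : ZMod m)) := by
  rw [Finsupp.weight_single]
  simp [wt5, Nat.cast_sub hpq.le]

lemma single_le_of {d : Fin 5 →₀ ℕ} {a : Fin 5} {n : ℕ} (h : n ≤ d a) : Finsupp.single a n ≤ d := by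
  intro i
  by_cases hi : i = a
  · subst hi; simpa using h
  · rw [Finsupp.single_eq_of_ne hi]; exact Nat.zero_le _

lemma single_add_single_le_of {d : Fin 5 →₀ ℕ} {a b : Fin 5} (hab : a ≠ b) (ha : 1 ≤ d a)
    (hb : 1 ≤ d b) : Finsupp.single a 1 + Finsupp.single b 1 ≤ d := by
  intro i
  by_cases hi : i = a
  · subst hi
    simp [Finsupp.single_eq_of_ne hab]
    exact ha
  · by_cases hi' : i = b
    · subst hi'
      simp [Finsupp.single_eq_of_ne hi]
      exact hb
    · simp [Finsupp.single_eq_of_ne hi, Finsupp.single_eq_of_ne hi']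

theorem main26 (k : Type*) [Field k] (p q m : ℕ) (hp : 0 < p) (hpq : p < q)
    (f : MvPolynomial (Fin 5) k)
    (hf : f ∈ MvPolynomial.weightedHomogeneousSubmodule k (W4c2invhilbsl2.wt5 p q m)
      ((q : ℤ) - (p : ℤ), (0 : ZMod m))) :
    ∃ a₁₃ a₁₄ a₂₃ a₂₄ : MvPolynomial (Fin 5) k,
      a₁₃ ∈ MvPolynomial.weightedHomogeneousSubmodule k (W4c2invhilbsl2.wt5 p q m) 0 ∧
      a₁₄ ∈ MvPolynomial.weightedHomogeneousSubmodule k (W4c2invhilbsl2.wt5 p q m) 0 ∧
      a₂₃ ∈ MvPolynomial.weightedHomogeneousSubmodule k (W4c2invhilbsl2.wt5 p q m) 0 ∧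
      a₂₄ ∈ MvPolynomial.weightedHomogeneousSubmodule k (W4c2invhilbsl2.wt5 p q m) 0 ∧
      f - (a₁₃ * (MvPolynomial.X (1 : Fin 5) * MvPolynomial.X 3) +
          a₁₄ * (MvPolynomial.X (1 : Fin 5) * MvPolynomial.X 4) +
          a₂₃ * (MvPolynomial.X (2 : Fin 5) * MvPolynomial.X 3) +
          a₂₄ * (MvPolynomial.X (2 : Fin 5) * MvPolynomial.X 4)) ∈
        Ideal.span {MvPolynomial.X (0 : Fin 5) ^ (q - p) - MvPolynomial.X 1 * MvPolynomial.X 4 +
          MvPolynomial.X 2 * MvPolynomial.X 3} := by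
  set ν : ℤ × ZMod m := ((q : ℤ) - (p : ℤ), (0 : ZMod m)) with hν
  set P : Ideal (MvPolynomial (Fin 5) k) :=
    Ideal.span {X (0 : Fin 5) ^ (q - p) - X 1 * X 4 + X 2 * X 3} with hP
  set g : Fin 4 → MvPolynomial (Fin 5) k := ![X 1 * X 3, X 1 * X 4, X 2 * X 3, X 2 * X 4] with hg
  have hw : ∀ a b : Fin 5, (a = 1 ∨ a = 2) → (b = 3 ∨ b = 4) →
      Finsupp.weight (wt5 p q m) (Finsupp.single a 1 + Finsupp.single b 1) = ν := by
    intro a b ha hb
    rw [map_add, weight_single_one, weight_single_one]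
    rcases ha with rfl | rfl <;> rcases hb with rfl | rfl <;> simp [wt5, hν] <;> ring
  have key : weightedHomogeneousSubmodule k (wt5 p q m) ν ≤ G (wt5 p q m) g P := by
    refine le_G_of_monomials _ ν g P fun d hd c => ?_
    have h1 := congrArg Prod.fst hd
    rw [weight5_fst] at h1
    simp only [hν] at h1
    by_cases hc : 1 ≤ d 1 + d 2 ∧ 1 ≤ d 3 + d 4
    · obtain ⟨hc1, hc2⟩ := hc
      rcases Nat.lt_or_ge (d 1) 1 with h1' | h1' <;> rcases Nat.lt_or_ge (d 3) 1 with h3' | h3'
      · exact monomial_mem_of_le _ g P 3 _ (by simp [hg, X_mul_X_eq]) (hw 2 4 (by simp) (by simp))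
          d hd (single_add_single_le_of (by decide) (by omega) (by omega)) c
      · exact monomial_mem_of_le _ g P 2 _ (by simp [hg, X_mul_X_eq]) (hw 2 3 (by simp) (by simp))
          d hd (single_add_single_le_of (by decide) (by omega) (by omega)) c
      · exact monomial_mem_of_le _ g P 1 _ (by simp [hg, X_mul_X_eq]) (hw 1 4 (by simp) (by simp))
          d hd (single_add_single_le_of (by decide) (by omega) (by omega)) c
      · exact monomial_mem_of_le _ g P 0 _ (by simp [hg, X_mul_X_eq]) (hw 1 3 (by simp) (by simp))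
          d hd (single_add_single_le_of (by decide) (by omega) (by omega)) c
    · have h3 : q - p ≤ d 0 := WtPiece3.arith p q (d 0) (d 1 + d 2) (d 3 + d 4) hp hpq h1 hc
      have hed : Finsupp.single (0 : Fin 5) (q - p) ≤ d := single_le_of h3
      have hM : monomial (d - Finsupp.single (0 : Fin 5) (q - p)) c ∈
          weightedHomogeneousSubmodule k (wt5 p q m) 0 :=
        isWeightedHomogeneous_monomial _ _ _
          (weight_sub_eq_zero _ hed (weight_e0 p q m hpq) hd)
      set Mo := monomial (d - Finsupp.single (0 : Fin 5) (q - p)) c with hMo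
      have hdM : monomial d c = Mo * X 0 ^ (q - p) := by
        rw [hMo, X_pow_eq_monomial, monomial_mul, mul_one, tsub_add_cancel_of_le hed]
      refine ⟨![0, Mo, -Mo, 0], ?_, ?_⟩
      · intro i
        fin_cases i
        · exact Submodule.zero_mem _
        · exact hM
        · exact Submodule.neg_mem _ hM
        · exact Submodule.zero_mem _
      · rw [Fin.sum_univ_four, hdM]
        have : Mo * X 0 ^ (q - p) - (![0, Mo, -Mo, 0] 0 * g 0 + ![0, Mo, -Mo, 0] 1 * g 1 +
            ![0, Mo, -Mo, 0] 2 * g 2 + ![0, Mo, -Mo, 0] 3 * g 3) =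
            Mo * (X (0 : Fin 5) ^ (q - p) - X 1 * X 4 + X 2 * X 3) := by
          simp [hg]
          ring
        rw [this]
        exact Ideal.mul_mem_left _ _ (Ideal.subset_span rfl)
  obtain ⟨a, ha, hfa⟩ := key hf
  refine ⟨a 0, a 1, a 2, a 3, ha 0, ha 1, ha 2, ha 3, ?_⟩
  rw [Fin.sum_univ_four] at hfa
  simpa [hg] using hfa


theorem main24 (k : Type*) [Field k] (p q m : ℕ) (hp : 0 < p) (hpq : p < q)
    (f : MvPolynomial (Fin 5) k) :
    (f ∈ MvPolynomial.weightedHomogeneousSubmodule k (W4c2invhilbsl2.wt5 p q m)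
        (W4c2invhilbsl2.wt5 p q m 1) →
      ∃ a b : MvPolynomial (Fin 5) k,
        a ∈ MvPolynomial.weightedHomogeneousSubmodule k (W4c2invhilbsl2.wt5 p q m) 0 ∧
        b ∈ MvPolynomial.weightedHomogeneousSubmodule k (W4c2invhilbsl2.wt5 p q m) 0 ∧
        f - (a * MvPolynomial.X (1 : Fin 5) + b * MvPolynomial.X (2 : Fin 5)) ∈
          Ideal.span {MvPolynomial.X (0 : Fin 5) ^ (q - p) - MvPolynomial.X 1 * MvPolynomial.X 4 +
            MvPolynomial.X 2 * MvPolynomial.X 3}) ∧
    (f ∈ MvPolynomial.weightedHomogeneousSubmodule k (W4c2invhilbsl2.wt5 p q m)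
        (W4c2invhilbsl2.wt5 p q m 3) →
      ∃ a b : MvPolynomial (Fin 5) k,
        a ∈ MvPolynomial.weightedHomogeneousSubmodule k (W4c2invhilbsl2.wt5 p q m) 0 ∧
        b ∈ MvPolynomial.weightedHomogeneousSubmodule k (W4c2invhilbsl2.wt5 p q m) 0 ∧
        f - (a * MvPolynomial.X (3 : Fin 5) + b * MvPolynomial.X (4 : Fin 5)) ∈
          Ideal.span {MvPolynomial.X (0 : Fin 5) ^ (q - p) - MvPolynomial.X 1 * MvPolynomial.X 4 +
            MvPolynomial.X 2 * MvPolynomial.X 3}) := by
  set P : Ideal (MvPolynomial (Fin 5) k) :=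
    Ideal.span {X (0 : Fin 5) ^ (q - p) - X 1 * X 4 + X 2 * X 3} with hP
  have hpq' : (p : ℤ) < q := by exact_mod_cast hpq
  have hp' : (0 : ℤ) < p := by exact_mod_cast hp
  constructor
  · intro hf
    set g : Fin 2 → MvPolynomial (Fin 5) k := ![X 1, X 2] with hg
    have key : weightedHomogeneousSubmodule k (wt5 p q m) (wt5 p q m 1) ≤ G (wt5 p q m) g P := by
      refine le_G_of_monomials _ _ g P fun d hd c => ?_
      have h1 := congrArg Prod.fst hd
      rw [weight5_fst] at h1
      simp only [wt5, Matrix.cons_val_one, Matrix.cons_val_zero] at h1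
      have h12 : 1 ≤ d 1 + d 2 := by
        by_contra hcon
        have h0 : d 1 + d 2 = 0 := by omega
        rw [h0] at h1
        have h2 : (0 : ℤ) ≤ q * ((d 3 + d 4 : ℕ) : ℤ) := by positivity
        have h3 : (0 : ℤ) ≤ d 0 := by positivity
        simp at h1
        push_cast at h2
        linarith
      rcases Nat.lt_or_ge (d 1) 1 with h1' | h1'
      · have h21 : wt5 p q m 2 = wt5 p q m 1 := by simp [wt5]
        exact monomial_mem_of_le _ g P 1 _ (by simp [hg, X_eq])
          ((weight_single_one p q m 2).trans h21) d hd (single_le_of (by omega)) c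
      · exact monomial_mem_of_le _ g P 0 _ (by simp [hg, X_eq]) (weight_single_one p q m 1)
          d hd (single_le_of (by omega)) c
    obtain ⟨a, ha, hfa⟩ := key hf
    refine ⟨a 0, a 1, ha 0, ha 1, ?_⟩
    rw [Fin.sum_univ_two] at hfa
    simpa [hg] using hfa
  · intro hf
    set g : Fin 2 → MvPolynomial (Fin 5) k := ![X 3, X 4] with hg
    have key : weightedHomogeneousSubmodule k (wt5 p q m) (wt5 p q m 3) ≤ G (wt5 p q m) g P := by
      refine le_G_of_monomials _ _ g P fun d hd c => ?_
      have h1 := congrArg Prod.fst hd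
      rw [weight5_fst] at h1
      have hw3 : (wt5 p q m 3).1 = (q : ℤ) := by simp [wt5]
      rw [hw3] at h1
      by_cases h34 : 1 ≤ d 3 + d 4
      · rcases Nat.lt_or_ge (d 3) 1 with h3' | h3'
        · have h43 : wt5 p q m 4 = wt5 p q m 3 := by simp [wt5]
          exact monomial_mem_of_le _ g P 1 _ (by simp [hg, X_eq])
            ((weight_single_one p q m 4).trans h43) d hd (single_le_of (by omega)) c
        · exact monomial_mem_of_le _ g P 0 _ (by simp [hg, X_eq]) (weight_single_one p q m 3)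
            d hd (single_le_of (by omega)) c
      · have h0 : d 3 + d 4 = 0 := by omega
        rw [h0] at h1
        have h3 : q - p ≤ d 0 := by
          zify [hpq.le]
          have h2 : (0 : ℤ) ≤ p * ((d 1 + d 2 : ℕ) : ℤ) := by positivity
          simp at h1
          push_cast at h2
          linarith
        have hed : Finsupp.single (0 : Fin 5) (q - p) ≤ d := single_le_of h3
        set Mo := monomial (d - Finsupp.single (0 : Fin 5) (q - p)) c with hMo
        have hwM : Finsupp.weight (wt5 p q m) (d - Finsupp.single (0 : Fin 5) (q - p)) =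
            wt5 p q m 3 - ((q : ℤ) - p, (0 : ZMod m)) := by
          have h5 := congrArg (Finsupp.weight (wt5 p q m)) (tsub_add_cancel_of_le hed)
          rw [map_add, weight_e0 p q m hpq, hd] at h5
          exact eq_sub_of_add_eq h5
        have hMh : IsWeightedHomogeneous (wt5 p q m) Mo
            (wt5 p q m 3 - ((q : ℤ) - p, (0 : ZMod m))) :=
          isWeightedHomogeneous_monomial _ _ _ hwM
        have hM1 : Mo * X 1 ∈ weightedHomogeneousSubmodule k (wt5 p q m) 0 := by
          have := hMh.mul (isWeightedHomogeneous_X (R := k) (wt5 p q m) 1)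
          have hz : wt5 p q m 3 - ((q : ℤ) - p, (0 : ZMod m)) + wt5 p q m 1 = 0 := by
            simp [wt5]
          rw [hz] at this
          exact this
        have hM2 : Mo * X 2 ∈ weightedHomogeneousSubmodule k (wt5 p q m) 0 := by
          have := hMh.mul (isWeightedHomogeneous_X (R := k) (wt5 p q m) 2)
          have hz : wt5 p q m 3 - ((q : ℤ) - p, (0 : ZMod m)) + wt5 p q m 2 = 0 := by
            simp [wt5]
          rw [hz] at this
          exact this
        have hdM : monomial d c = Mo * X 0 ^ (q - p) := by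
          rw [hMo, X_pow_eq_monomial, monomial_mul, mul_one, tsub_add_cancel_of_le hed]
        refine ⟨![-(Mo * X 2), Mo * X 1], ?_, ?_⟩
        · intro i
          fin_cases i
          · exact Submodule.neg_mem _ hM2
          · exact hM1
        · rw [Fin.sum_univ_two, hdM]
          have : Mo * X 0 ^ (q - p) - (![-(Mo * X 2), Mo * X 1] 0 * g 0 +
              ![-(Mo * X 2), Mo * X 1] 1 * g 1) =
              Mo * (X (0 : Fin 5) ^ (q - p) - X 1 * X 4 + X 2 * X 3) := by
            simp [hg]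
            ring
          rw [this]
          exact Ideal.mul_mem_left _ _ (Ideal.subset_span rfl)
    obtain ⟨a, ha, hfa⟩ := key hf
    refine ⟨a 0, a 1, ha 0, ha 1, ?_⟩
    rw [Fin.sum_univ_two] at hfa
    simpa [hg] using hfa

end Groth.Agent.Helper8.WtPiece5
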