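import Mathlib
import Groth.Prelude.Def_W4c2invhilbsl2

namespace Groth.Agent.Helper8.WtRank

open MvPolynomial W4c2invhilbsl2

section generic

variable {k : Type*} [Field k] {V : Type*} [AddCommGroup V] [Module k V]

lemma rank_le_one_of_pairwise (S : Set V)
    (h : ∀ x ∈ S, ∀ y ∈ S, ∃ c : k, y = c • x ∨ x = c • y) (s : Submodule k V)
    (hs : s ≤ Submodule.span k S) : Module.rank k s ≤ 1 := by
  rw [rank_submodule_le_one_iff']
  by_cases h0 : ∀ x ∈ S, x = 0
  · refine ⟨0, hs.trans ?_⟩
    rw [Submodule.span_le]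
    intro x hx
    rw [h0 x hx]
    exact Submodule.zero_mem _
  · push Not at h0
    obtain ⟨x, hxS, hx0⟩ := h0
    refine ⟨x, hs.trans ?_⟩
    rw [Submodule.span_le]
    intro y hy
    obtain ⟨c, hc | hc⟩ := h x hxS y hy
    · rw [hc]; exact Submodule.smul_mem _ _ (Submodule.mem_span_singleton_self x)
    · have hc0 : c ≠ 0 := by
        rintro rfl
        rw [zero_smul] at hc
        exact hx0 hc
      have : y = c⁻¹ • x := by rw [hc, smul_smul, inv_mul_cancel₀ hc0, one_smul]
      rw [this]; exact Submodule.smul_mem _ _ (Submodule.mem_span_singleton_self x)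

end generic

variable {σ : Type*} {k : Type*} [Field k] {M : Type*} [AddCommMonoid M] (w : σ → M)
  (I : Ideal (MvPolynomial σ k)) (ν : M)

lemma piece_le_span : piece k w I ν ≤
    Submodule.span k ((fun d => Ideal.Quotient.mk I (monomial d (1 : k))) ''
      {d | Finsupp.weight w d = ν}) := by
  rintro _ ⟨f, hf, rfl⟩
  rw [← support_sum_monomial_coeff f, map_sum]
  refine Submodule.sum_mem _ fun d hd => ?_
  have hd' : Finsupp.weight w d = ν := hf (mem_support_iff.mp hd)
  have : monomial d (coeff d f) = coeff d f • monomial d (1 : k) := by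
    rw [smul_monomial, smul_eq_mul, mul_one]
  rw [this, map_smul]
  exact Submodule.smul_mem _ _ (Submodule.subset_span ⟨d, hd', rfl⟩)

theorem rank_piece_le_one
    (h : ∀ d d', Finsupp.weight w d = ν → Finsupp.weight w d' = ν →
      ∃ c : k, Ideal.Quotient.mk I (monomial d' (1 : k)) = c • Ideal.Quotient.mk I (monomial d (1 : k)) ∨
        Ideal.Quotient.mk I (monomial d (1 : k)) = c • Ideal.Quotient.mk I (monomial d' (1 : k))) :
    Module.rank k (piece k w I ν) ≤ 1 := by
  refine rank_le_one_of_pairwise _ ?_ _ (piece_le_span w I ν)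
  rintro _ ⟨d, hd, rfl⟩ _ ⟨d', hd', rfl⟩
  exact h d d' hd hd'

end Groth.Agent.Helper8.WtRank
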