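import Mathlib
import Groth.Prelude.Def_W4c2invhilbsl2
import Groth.Agent.Helper8.WtRank
import Groth.Agent.Helper8.WtPiece5

namespace Groth.Agent.Helper8.WtRankI

open MvPolynomial W4c2invhilbsl2

section abstract

variable {k : Type*} [Field k] {Q : Type*} [CommRing Q] [Algebra k Q] (u0 u1 u4 : Q)

/-- the monomial `u0^a u1^b u4^e` -/
def T (a b e : ℕ) : Q := u0 ^ a * u1 ^ b * u4 ^ e

variable {u0 u1 u4} {n m p : ℕ} {s : k} (r1 : u0 ^ n = u1 * u4)
  (r4 : algebraMap k Q s = u0 ^ (m * p) * u1 ^ m)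

include r1 in
lemma T_mul_pow (a b e c : ℕ) : T u0 u1 u4 a b e * u1 ^ (e + c) = u0 ^ (a + n * e) * u1 ^ (b + c) := by
  unfold T
  rw [pow_add u0, pow_mul u0 n e, r1, mul_pow, pow_add u1 b c, pow_add u1 e c]
  ring

include r1 r4 in
lemma lemU (hs : s ≠ 0) (hm : 0 < m) {a b e a' b' e' j : ℕ}
    (h1 : a' + n * e' = a + n * e + p * m * j) (h2 : b' + e = b + e' + m * j) :
    T u0 u1 u4 a' b' e' = s ^ j • T u0 u1 u4 a b e := by
  have hu1 : IsUnit u1 := by
    refine IsUnit.of_mul_eq_one (u0 ^ (m * p) * u1 ^ (m - 1) * algebraMap k Q s⁻¹) ?_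
    have : u1 * (u0 ^ (m * p) * u1 ^ (m - 1) * algebraMap k Q s⁻¹) =
        (u0 ^ (m * p) * u1 ^ m) * algebraMap k Q s⁻¹ := by
      obtain ⟨m', rfl⟩ : ∃ m', m = m' + 1 := ⟨m - 1, by omega⟩
      simp only [Nat.add_sub_cancel, pow_succ]
      ring
    rw [this, ← r4, ← map_mul, mul_inv_cancel₀ hs, map_one]
  have hu : IsUnit (u1 ^ (e + e')) := hu1.pow _
  apply hu.mul_right_cancel
  have hL : T u0 u1 u4 a' b' e' * u1 ^ (e + e') = u0 ^ (a' + n * e') * u1 ^ (b' + e) := by
    rw [add_comm e e', T_mul_pow r1]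
  have hR : T u0 u1 u4 a b e * u1 ^ (e + e') = u0 ^ (a + n * e) * u1 ^ (b + e') :=
    T_mul_pow r1 a b e e'
  rw [hL, smul_mul_assoc, hR, h1, h2]
  have hsj : s ^ j • (u0 ^ (a + n * e) * u1 ^ (b + e')) =
      (u0 ^ (m * p) * u1 ^ m) ^ j * (u0 ^ (a + n * e) * u1 ^ (b + e')) := by
    rw [← r4, ← map_pow, Algebra.smul_def]
  rw [hsj, mul_pow, ← pow_mul, ← pow_mul, pow_add u0, pow_add u1 (b + e')]
  have e1 : p * m * j = m * p * j := by ring
  rw [e1]
  ring

section zero

variable (r0 : u0 ^ (m * p) * u1 ^ m = 0)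

include r1 r0 in
lemma zeroZ (j : ℕ) (hj : j ≤ m) : u0 ^ (m * p + n * j) * u1 ^ (m - j) = 0 := by
  have : u0 ^ (m * p + n * j) * u1 ^ (m - j) = (u0 ^ (m * p) * u1 ^ m) * u4 ^ j := by
    rw [pow_add, pow_mul u0 n j, r1, mul_pow]
    have : u1 ^ m = u1 ^ (m - j) * u1 ^ j := by rw [← pow_add]; congr 1; omega
    rw [this]
    ring
  rw [this, r0, zero_mul]

include r0 in
lemma zero1 {a b : ℕ} (e : ℕ) (hb : m ≤ b) (ha : m * p ≤ a) : T u0 u1 u4 a b e = 0 := by
  unfold T
  obtain ⟨a', rfl⟩ := Nat.exists_eq_add_of_le ha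
  obtain ⟨b', rfl⟩ := Nat.exists_eq_add_of_le hb
  rw [pow_add, pow_add]
  have : u0 ^ (m * p) * u0 ^ a' * (u1 ^ m * u1 ^ b') * u4 ^ e =
      (u0 ^ (m * p) * u1 ^ m) * (u0 ^ a' * u1 ^ b' * u4 ^ e) := by ring
  rw [this, r0, zero_mul]

include r1 r0 in
lemma zero2 {a b : ℕ} (e : ℕ) (hb : b ≤ m) (ha : m * p + n * (m - b) ≤ a) :
    T u0 u1 u4 a b e = 0 := by
  unfold T
  obtain ⟨a', rfl⟩ := Nat.exists_eq_add_of_le ha
  have h := zeroZ r1 r0 (m - b) (Nat.sub_le _ _)
  have hb' : m - (m - b) = b := by omega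
  rw [hb'] at h
  rw [pow_add]
  have : u0 ^ (m * p + n * (m - b)) * u0 ^ a' * u1 ^ b * u4 ^ e =
      (u0 ^ (m * p + n * (m - b)) * u1 ^ b) * (u0 ^ a' * u4 ^ e) := by ring
  rw [this, h, zero_mul]

include r1 in
lemma T_normal (a b e t : ℕ) (htb : t ≤ b) (hte : t ≤ e) :
    T u0 u1 u4 a b e = T u0 u1 u4 (a + n * t) (b - t) (e - t) := by
  unfold T
  obtain ⟨b', rfl⟩ := Nat.exists_eq_add_of_le htb
  obtain ⟨e', rfl⟩ := Nat.exists_eq_add_of_le hte
  simp only [Nat.add_sub_cancel_left]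
  rw [pow_add u0, pow_mul u0 n t, r1, mul_pow, pow_add, pow_add]
  ring

lemma nat_dvd_of_int {m x y : ℕ} (hxy : x ≤ y) (h : (m : ℤ) ∣ (y : ℤ) - x) : ∃ j : ℕ, y = x + m * j := by
  have h1 : ((y - x : ℕ) : ℤ) = (y : ℤ) - x := Nat.cast_sub hxy
  rw [← h1, Int.natCast_dvd_natCast] at h
  obtain ⟨j, hj⟩ := h
  exact ⟨j, by omega⟩

include r1 r0 in
lemma keyZeroN (hm : 0 < m) {q : ℕ} (hq : q = n + p) {a b e a' b' e' : ℕ} (hbe : b = 0 ∨ e = 0) (hbe' : b' = 0 ∨ e' = 0)
    (H1 : (a : ℤ) - p * b + q * e = a' - p * b' + q * e')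
    (H2 : (m : ℤ) ∣ ((e' : ℤ) - b') - (e - b)) :
    T u0 u1 u4 a b e = T u0 u1 u4 a' b' e' ∨ T u0 u1 u4 a b e = 0 ∨ T u0 u1 u4 a' b' e' = 0 := by
  subst hq
  -- two auxiliary facts
  have auxB : ∀ {a b a' b' : ℕ}, b ≤ b' → (a : ℤ) - p * b = a' - p * b' → (m : ℤ) ∣ (b' : ℤ) - b →
      T u0 u1 u4 a b 0 = T u0 u1 u4 a' b' 0 ∨ T u0 u1 u4 a' b' 0 = 0 := by
    intro a b a' b' hbb h1 h2
    obtain ⟨j, hj⟩ := nat_dvd_of_int hbb h2
    rcases Nat.eq_zero_or_pos j with rfl | hjpos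
    · have hb : b' = b := by omega
      subst hb
      have ha : a = a' := by
        have : (a : ℤ) = a' := by linarith
        exact_mod_cast this
      left; rw [ha]
    · right
      have h3 : m ≤ m * j := Nat.le_mul_of_pos_right m hjpos
      have h4 : (a' : ℤ) = a + p * (m * j) := by
        rw [hj] at h1; push_cast at h1; linarith
      have h5 : a' = a + p * (m * j) := by exact_mod_cast h4
      have h6 : m * p ≤ p * (m * j) := by
        calc m * p = p * m := Nat.mul_comm _ _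
          _ ≤ p * (m * j) := Nat.mul_le_mul_left p h3
      exact zero1 r0 0 (by omega) (by omega)
  have auxE : ∀ {a e a' e' : ℕ}, e ≤ e' → (a : ℤ) + (n + p : ℕ) * e = a' + (n + p : ℕ) * e' →
      (m : ℤ) ∣ (e' : ℤ) - e →
      T u0 u1 u4 a 0 e = T u0 u1 u4 a' 0 e' ∨ T u0 u1 u4 a 0 e = 0 := by
    intro a e a' e' hee h1 h2
    obtain ⟨j, hj⟩ := nat_dvd_of_int hee h2
    rcases Nat.eq_zero_or_pos j with rfl | hjpos
    · have he : e' = e := by omega
      subst he
      have ha : a = a' := by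
        have : (a : ℤ) = a' := by linarith
        exact_mod_cast this
      left; rw [ha]
    · right
      have h3 : m ≤ m * j := Nat.le_mul_of_pos_right m hjpos
      have h4 : (a : ℤ) = a' + (n + p : ℕ) * (m * j) := by
        rw [hj] at h1; push_cast at h1 ⊢; linarith
      have h5 : a = a' + (n + p) * (m * j) := by exact_mod_cast h4
      have h6 : (n + p) * m ≤ (n + p) * (m * j) := Nat.mul_le_mul_left _ h3
      refine zero2 r1 r0 e (Nat.zero_le _) ?_
      have : m * p + n * (m - 0) = (n + p) * m := by simp; ring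
      omega
  have auxM : ∀ {a b a' e' : ℕ}, (a : ℤ) - p * b = a' + (n + p : ℕ) * e' →
      (m : ℤ) ∣ (e' : ℤ) + b →
      T u0 u1 u4 a b 0 = T u0 u1 u4 a' 0 e' ∨ T u0 u1 u4 a b 0 = 0 := by
    intro a b a' e' h1 h2
    have h2' : m ∣ e' + b := by
      have : ((e' + b : ℕ) : ℤ) = (e' : ℤ) + b := by push_cast; ring
      rw [← this, Int.natCast_dvd_natCast] at h2
      exact h2
    rcases Nat.eq_zero_or_pos (e' + b) with h0 | hpos
    · have hb : b = 0 := by omega
      have he : e' = 0 := by omega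
      subst hb he
      have ha : a = a' := by
        have : (a : ℤ) = a' := by simp at h1; linarith
        exact_mod_cast this
      left; rw [ha]
    · right
      have hmle : m ≤ e' + b := Nat.le_of_dvd hpos h2'
      have h4 : (a : ℤ) = a' + (n + p : ℕ) * e' + p * b := by linarith
      have h5 : a = a' + (n + p) * e' + p * b := by exact_mod_cast h4
      rcases Nat.lt_or_ge b m with hbm | hbm
      · refine zero2 r1 r0 0 hbm.le ?_
        -- a + n b = a' + (n+p)(e'+b) ≥ (n+p) m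
        have h6 : (n + p) * m ≤ (n + p) * (e' + b) := Nat.mul_le_mul_left _ hmle
        have h7 : n * (m - b) + n * b = n * m := by
          rw [← Nat.mul_add]; congr 1; omega
        have h8 : (n + p) * (e' + b) = (n + p) * e' + p * b + n * b := by ring
        have h9 : (n + p) * m = m * p + n * m := by ring
        omega
      · have h6 : m * p ≤ p * b := by
          calc m * p = p * m := Nat.mul_comm _ _
            _ ≤ p * b := Nat.mul_le_mul_left p hbm
        exact zero1 r0 0 hbm (by omega)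
  rcases hbe with rfl | rfl <;> rcases hbe' with rfl | rfl
  · -- b = 0, b' = 0
    simp only [Nat.cast_zero, mul_zero, sub_zero] at H1 H2
    rcases le_total e e' with hee | hee
    · rcases auxE hee H1 H2 with h | h
      · exact Or.inl h
      · exact Or.inr (Or.inl h)
    · have H2' : (m : ℤ) ∣ (e : ℤ) - e' := by
        rw [← dvd_neg]; simpa using H2
      rcases auxE hee H1.symm H2' with h | h
      · exact Or.inl h.symm
      · exact Or.inr (Or.inr h)
  · -- b = 0, e' = 0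
    simp only [Nat.cast_zero, mul_zero, sub_zero, add_zero, zero_sub] at H1 H2
    have H2' : (m : ℤ) ∣ (e : ℤ) + b' := by
      rw [← dvd_neg]
      have : -((e : ℤ) + b') = -(b' : ℤ) - e := by ring
      rw [this]; exact H2
    rcases auxM H1.symm H2' with h | h
    · exact Or.inl h.symm
    · exact Or.inr (Or.inr h)
  · -- e = 0, b' = 0
    simp only [Nat.cast_zero, mul_zero, sub_zero, add_zero, zero_sub, sub_neg_eq_add] at H1 H2
    rcases auxM H1 H2 with h | h
    · exact Or.inl h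
    · exact Or.inr (Or.inl h)
  · -- e = 0, e' = 0
    simp only [Nat.cast_zero, mul_zero, add_zero, zero_sub, sub_neg_eq_add] at H1 H2
    rcases le_total b b' with hbb | hbb
    · have H2' : (m : ℤ) ∣ (b' : ℤ) - b := by
        rw [← dvd_neg]
        have : -((b' : ℤ) - b) = -(b' : ℤ) + b := by ring
        rw [this]; exact H2
      rcases auxB hbb H1 H2' with h | h
      · exact Or.inl h
      · exact Or.inr (Or.inr h)
    · have H2' : (m : ℤ) ∣ (b : ℤ) - b' := by
        have : (b : ℤ) - b' = -(b' : ℤ) + b := by ring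
        rw [this]; exact H2
      rcases auxB hbb H1.symm H2' with h | h
      · exact Or.inl h.symm
      · exact Or.inr (Or.inl h)

include r1 r0 in
lemma keyZero (hm : 0 < m) {q : ℕ} (hq : q = n + p) {a b e a' b' e' : ℕ}
    (H1 : (a : ℤ) - p * b + q * e = a' - p * b' + q * e')
    (H2 : (m : ℤ) ∣ ((e' : ℤ) - b') - (e - b)) :
    ∃ c : k, T u0 u1 u4 a' b' e' = c • T u0 u1 u4 a b e ∨
      T u0 u1 u4 a b e = c • T u0 u1 u4 a' b' e' := by
  have hN : T u0 u1 u4 a b e = T u0 u1 u4 (a + n * min b e) (b - min b e) (e - min b e) :=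
    T_normal r1 a b e _ (min_le_left _ _) (min_le_right _ _)
  have hN' : T u0 u1 u4 a' b' e' = T u0 u1 u4 (a' + n * min b' e') (b' - min b' e') (e' - min b' e') :=
    T_normal r1 a' b' e' _ (min_le_left _ _) (min_le_right _ _)
  have hq' : (q : ℤ) = n + p := by exact_mod_cast hq
  have key := keyZeroN r1 r0 hm hq (a := a + n * min b e) (b := b - min b e) (e := e - min b e)
    (a' := a' + n * min b' e') (b' := b' - min b' e') (e' := e' - min b' e')
    (by rcases le_total b e with h | h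
        · left; rw [min_eq_left h]; omega
        · right; rw [min_eq_right h]; omega)
    (by rcases le_total b' e' with h | h
        · left; rw [min_eq_left h]; omega
        · right; rw [min_eq_right h]; omega)
    (by
      rw [Nat.cast_sub (min_le_left b e), Nat.cast_sub (min_le_right b e),
        Nat.cast_sub (min_le_left b' e'), Nat.cast_sub (min_le_right b' e')]
      push_cast
      rw [hq'] at H1 ⊢
      linarith)
    (by
      rw [Nat.cast_sub (min_le_left b e), Nat.cast_sub (min_le_right b e),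
        Nat.cast_sub (min_le_left b' e'), Nat.cast_sub (min_le_right b' e')]
      have : ((e' : ℤ) - ((min b' e' : ℕ) : ℤ) - ((b' : ℤ) - ((min b' e' : ℕ) : ℤ)) -
          ((e : ℤ) - ((min b e : ℕ) : ℤ) - ((b : ℤ) - ((min b e : ℕ) : ℤ)))) =
          ((e' : ℤ) - b') - (e - b) := by ring
      rw [this]; exact H2)
  rw [← hN, ← hN'] at key
  rcases key with h | h | h
  · exact ⟨1, Or.inl (by rw [one_smul, h])⟩
  · exact ⟨0, Or.inr (by rw [zero_smul, h])⟩
  · exact ⟨0, Or.inl (by rw [zero_smul, h])⟩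

end zero

include r1 r4 in
lemma keyUnit (hs : s ≠ 0) (hm : 0 < m) {q : ℕ} (hq : q = n + p) {a b e a' b' e' : ℕ}
    (H1 : (a : ℤ) - p * b + q * e = a' - p * b' + q * e')
    (H2 : (m : ℤ) ∣ ((e' : ℤ) - b') - (e - b)) :
    ∃ c : k, T u0 u1 u4 a' b' e' = c • T u0 u1 u4 a b e ∨
      T u0 u1 u4 a b e = c • T u0 u1 u4 a' b' e' := by
  have hq' : (q : ℤ) = n + p := by exact_mod_cast hq
  rw [hq'] at H1
  obtain ⟨j, hj⟩ := H2
  rcases le_total j 0 with hj0 | hj0
  · obtain ⟨j0, rfl⟩ : ∃ j0 : ℕ, j = -(j0 : ℤ) := ⟨(-j).toNat, by omega⟩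
    refine ⟨s ^ j0, Or.inl (lemU r1 r4 hs hm ?_ ?_)⟩
    · zify
      have : (p : ℤ) * m * j0 = p * (m * j0) := by ring
      rw [this]
      have h3 : (m : ℤ) * j0 = ((b' : ℤ) - e') - (b - e) := by linarith
      rw [h3]
      linarith
    · zify
      linarith
  · obtain ⟨j0, rfl⟩ : ∃ j0 : ℕ, j = (j0 : ℤ) := ⟨j.toNat, by omega⟩
    refine ⟨s ^ j0, Or.inr (lemU r1 r4 hs hm ?_ ?_)⟩
    · zify
      have : (p : ℤ) * m * j0 = p * (m * j0) := by ring
      rw [this]
      have h3 : (m : ℤ) * j0 = ((e' : ℤ) - b') - (e - b) := by linarith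
      rw [h3]
      linarith
    · zify
      linarith

end abstract

lemma weight5_snd (p q m : ℕ) (d : Fin 5 →₀ ℕ) :
    (Finsupp.weight (wt5 p q m) d).2 =
      (((d 3 + d 4 : ℕ) : ℤ) - ((d 1 + d 2 : ℕ) : ℤ) : ℤ) := by
  rw [Finsupp.weight_eq_sum, Fin.sum_univ_five]
  simp [wt5]
  ring

lemma mk_monomial {k : Type*} [Field k] (I : Ideal (MvPolynomial (Fin 5) k)) (d : Fin 5 →₀ ℕ) :
    Ideal.Quotient.mk I (monomial d (1 : k)) =
      Ideal.Quotient.mk I (X 0) ^ d 0 * Ideal.Quotient.mk I (X 1) ^ d 1 *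
        Ideal.Quotient.mk I (X 2) ^ d 2 * Ideal.Quotient.mk I (X 3) ^ d 3 *
        Ideal.Quotient.mk I (X 4) ^ d 4 := by
  rw [monomial_eq, C_1, one_mul, Finsupp.prod_fintype _ _ (fun i => pow_zero _), Fin.prod_univ_five]
  simp only [map_mul, map_pow]

theorem main27 (k : Type*) [Field k] (p q m : ℕ) (hpq : p < q) (hm : 0 < m) (s : k)
    (ν : ℤ × ZMod m) :
    Module.rank k (W4c2invhilbsl2.piece k (W4c2invhilbsl2.wt5 p q m)
      (W4c2invhilbsl2.idealI k p q m s) ν) ≤ 1 := by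
  set I := idealI k p q m s with hI
  set u0 := Ideal.Quotient.mk I (X 0) with hu0
  set u1 := Ideal.Quotient.mk I (X 1) with hu1
  set u4 := Ideal.Quotient.mk I (X 4) with hu4
  have hu2 : Ideal.Quotient.mk I (X 2) = 0 :=
    Ideal.Quotient.eq_zero_iff_mem.mpr (Ideal.subset_span (by simp))
  have hu3 : Ideal.Quotient.mk I (X 3) = 0 :=
    Ideal.Quotient.eq_zero_iff_mem.mpr (Ideal.subset_span (by simp))
  have r1 : u0 ^ (q - p) = u1 * u4 := by
    rw [hu0, hu1, hu4, ← map_pow, ← map_mul, Ideal.Quotient.eq]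
    exact Ideal.subset_span (by simp)
  have r4 : algebraMap k (MvPolynomial (Fin 5) k ⧸ I) s = u0 ^ (m * p) * u1 ^ m := by
    have : algebraMap k (MvPolynomial (Fin 5) k ⧸ I) s = Ideal.Quotient.mk I (C s) := rfl
    rw [this, hu0, hu1, ← map_pow, ← map_pow, ← map_mul, Ideal.Quotient.eq]
    exact Ideal.subset_span (by simp)
  have hq : q = (q - p) + p := by omega
  refine WtRank.rank_piece_le_one _ _ _ fun d d' hd hd' => ?_
  rw [mk_monomial, mk_monomial, hu2, hu3]
  by_cases h23 : d 2 = 0 ∧ d 3 = 0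
  swap
  · refine ⟨0, Or.inr ?_⟩
    rw [zero_smul]
    rcases not_and_or.mp h23 with h | h
    · rw [zero_pow h]; ring
    · rw [zero_pow h]; ring
  by_cases h23' : d' 2 = 0 ∧ d' 3 = 0
  swap
  · refine ⟨0, Or.inl ?_⟩
    rw [zero_smul]
    rcases not_and_or.mp h23' with h | h
    · rw [zero_pow h]; ring
    · rw [zero_pow h]; ring
  obtain ⟨h2, h3⟩ := h23
  obtain ⟨h2', h3'⟩ := h23'
  rw [h2, h3, h2', h3']
  simp only [pow_zero, mul_one]
  have hfst := (congrArg Prod.fst hd).trans (congrArg Prod.fst hd').symm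
  have hsnd := (congrArg Prod.snd hd).trans (congrArg Prod.snd hd').symm
  rw [WtPiece5.weight5_fst, WtPiece5.weight5_fst, h2, h3, h2', h3'] at hfst
  rw [weight5_snd, weight5_snd, h2, h3, h2', h3', ZMod.intCast_eq_intCast_iff_dvd_sub] at hsnd
  simp only [add_zero, zero_add] at hfst hsnd
  have H2 : (m : ℤ) ∣ ((d' 4 : ℤ) - d' 1) - (d 4 - d 1) := hsnd
  change ∃ c : k, T u0 u1 u4 (d' 0) (d' 1) (d' 4) = c • T u0 u1 u4 (d 0) (d 1) (d 4) ∨
    T u0 u1 u4 (d 0) (d 1) (d 4) = c • T u0 u1 u4 (d' 0) (d' 1) (d' 4)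
  by_cases hs : s = 0
  · have r0 : u0 ^ (m * p) * u1 ^ m = 0 := by rw [← r4, hs, map_zero]
    exact keyZero (k := k) r1 r0 hm hq hfst H2
  · exact keyUnit r1 r4 hs hm hq hfst H2

end Groth.Agent.Helper8.WtRankI
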