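import Mathlib
import Groth.Prelude.Def_W4c2invhilbsl2HJ
import Groth.Agent.Helper8.HJpiece
import Groth.Agent.Helper8.WtPiece5
import Groth.Agent.Helper8.WtRankI

namespace Groth.Agent.Helper8.HJpiece5

open W4c2invhilbsl2 HJFrac MvPolynomial Groth.Agent.Helper8.WtPiece

variable {σ : Type*} {k : Type*} [CommRing k] {M : Type*} [AddCommGroup M] (w : σ → M)

/-- weight-zero combinations of `g₀` and a doubly indexed family `gg`. -/
def G2 (g₀ : MvPolynomial σ k) (s t : Finset ℕ) (gg : ℕ → ℕ → MvPolynomial σ k) :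
    Submodule k (MvPolynomial σ k) where
  carrier := {f | ∃ (a₀ : MvPolynomial σ k) (a : ℕ → ℕ → MvPolynomial σ k),
    a₀ ∈ weightedHomogeneousSubmodule k w 0 ∧ (∀ e l, a e l ∈ weightedHomogeneousSubmodule k w 0) ∧
    f = a₀ * g₀ + ∑ e ∈ s, ∑ l ∈ t, a e l * gg e l}
  zero_mem' := ⟨0, 0, Submodule.zero_mem _, fun _ _ => Submodule.zero_mem _, by simp⟩
  add_mem' := by
    rintro f f' ⟨a₀, a, h0, ha, rfl⟩ ⟨a₀', a', h0', ha', rfl⟩
    refine ⟨a₀ + a₀', a + a', Submodule.add_mem _ h0 h0',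
      fun e l => Submodule.add_mem _ (ha e l) (ha' e l), ?_⟩
    simp only [Pi.add_apply, add_mul, Finset.sum_add_distrib]
    ring
  smul_mem' := by
    rintro c f ⟨a₀, a, h0, ha, rfl⟩
    refine ⟨c • a₀, c • a, Submodule.smul_mem _ c h0, fun e l => Submodule.smul_mem _ c (ha e l), ?_⟩
    simp only [Pi.smul_apply, smul_add, Finset.smul_sum, smul_mul_assoc]

lemma le_G2_of_monomials (ν : M) (g₀ : MvPolynomial σ k) (s t : Finset ℕ)
    (gg : ℕ → ℕ → MvPolynomial σ k)
    (h : ∀ d, Finsupp.weight w d = ν → ∀ c : k, monomial d c ∈ G2 w g₀ s t gg) :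
    weightedHomogeneousSubmodule k w ν ≤ G2 w g₀ s t gg := by
  intro f hf
  rw [← support_sum_monomial_coeff f]
  exact Submodule.sum_mem _ fun d hd => h d (hf (mem_support_iff.mp hd)) _

lemma mem_G2_left {ν : M} (g₀ : MvPolynomial σ k) (s t : Finset ℕ)
    (gg : ℕ → ℕ → MvPolynomial σ k) (e₀ : σ →₀ ℕ) (hg : g₀ = monomial e₀ 1)
    (he : Finsupp.weight w e₀ = ν) (d : σ →₀ ℕ) (hd : Finsupp.weight w d = ν) (hed : e₀ ≤ d)
    (c : k) : monomial d c ∈ G2 w g₀ s t gg := by
  refine ⟨monomial (d - e₀) c, 0, ?_, fun _ _ => Submodule.zero_mem _, ?_⟩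
  · exact isWeightedHomogeneous_monomial _ _ _ (weight_sub_eq_zero w hed he hd)
  · simp [hg, monomial_mul, tsub_add_cancel_of_le hed]

lemma mem_G2_right {ν : M} (g₀ : MvPolynomial σ k) (s t : Finset ℕ)
    (gg : ℕ → ℕ → MvPolynomial σ k) (e l : ℕ) (hes : e ∈ s) (hlt : l ∈ t) (ee : σ →₀ ℕ)
    (hg : gg e l = monomial ee 1)
    (he : Finsupp.weight w ee = ν) (d : σ →₀ ℕ) (hd : Finsupp.weight w d = ν) (hed : ee ≤ d)
    (c : k) : monomial d c ∈ G2 w g₀ s t gg := by
  classical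
  refine ⟨0, fun e' l' => if e' = e ∧ l' = l then monomial (d - ee) c else 0,
    Submodule.zero_mem _, fun e' l' => ?_, ?_⟩
  · beta_reduce
    split_ifs
    · exact isWeightedHomogeneous_monomial _ _ _ (weight_sub_eq_zero w hed he hd)
    · exact Submodule.zero_mem _
  · rw [zero_mul, zero_add, Finset.sum_eq_single e, Finset.sum_eq_single l]
    · simp [hg, monomial_mul, tsub_add_cancel_of_le hed]
    · intro l' _ hl'
      simp [hl']
    · intro h; exact absurd hlt h
    · intro e' _ he'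
      apply Finset.sum_eq_zero
      intro l' _
      simp [he']
    · intro h; exact absurd hes h

open Groth.Agent.Helper8.HJpiece in
theorem main32 (k : Type*) [Field k] (p q m : ℕ) (hpq : p < q) (hm : 0 < m)
    (c : List ℤ) (hc : W4c2invhilbsl2.IsHJDigits p q m c) (i : ℕ) (hi : 1 ≤ i) (hir : i ≤ c.length)
    (f : MvPolynomial (Fin 5) k)
    (hf : f ∈ MvPolynomial.weightedHomogeneousSubmodule k (W4c2invhilbsl2.wt5 p q m)
      (W4c2invhilbsl2.nN p q m c i, (0 : ZMod m))) :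
    ∃ (a₀ : MvPolynomial (Fin 5) k) (a : ℕ → ℕ → MvPolynomial (Fin 5) k),
      a₀ ∈ MvPolynomial.weightedHomogeneousSubmodule k (W4c2invhilbsl2.wt5 p q m) 0 ∧
      (∀ e l : ℕ, a e l ∈ MvPolynomial.weightedHomogeneousSubmodule k (W4c2invhilbsl2.wt5 p q m) 0) ∧
      f - (a₀ * MvPolynomial.X (0 : Fin 5) ^ (W4c2invhilbsl2.nN p q m c i).toNat +
          ∑ e ∈ Finset.range ((W4c2invhilbsl2.eE p q m c i).toNat + 1),
            ∑ l ∈ Finset.range ((W4c2invhilbsl2.lL p q m c i).toNat + 1),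
            a e l * (MvPolynomial.X (1 : Fin 5) ^ ((W4c2invhilbsl2.eE p q m c i).toNat - e) *
              MvPolynomial.X (2 : Fin 5) ^ e *
              MvPolynomial.X (3 : Fin 5) ^ ((W4c2invhilbsl2.lL p q m c i).toNat - l) *
              MvPolynomial.X (4 : Fin 5) ^ l)) ∈
        Ideal.span {MvPolynomial.X (0 : Fin 5) ^ (q - p) - MvPolynomial.X 1 * MvPolynomial.X 4 +
          MvPolynomial.X 2 * MvPolynomial.X 3} := by
  obtain ⟨hn0, hnlt, hl, hel, hP0, hl0, he0, hres⟩ := hj_facts p q m hpq hm c hc i hi hir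
  set N := (nN p q m c i).toNat with hN
  set E := (eE p q m c i).toNat with hE
  set L := (lL p q m c i).toNat with hL
  have hNc : (N : ℤ) = nN p q m c i := Int.toNat_of_nonneg hn0.le
  have hEc : (E : ℤ) = eE p q m c i := Int.toNat_of_nonneg he0
  have hLc : (L : ℤ) = lL p q m c i := Int.toNat_of_nonneg hl0
  set ν : ℤ × ZMod m := (nN p q m c i, (0 : ZMod m)) with hν
  set gg : ℕ → ℕ → MvPolynomial (Fin 5) k :=
    fun e l => X 1 ^ (E - e) * X 2 ^ e * X 3 ^ (L - l) * X 4 ^ l with hgg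
  have hw0 : Finsupp.weight (wt5 p q m) (Finsupp.single (0 : Fin 5) N) = ν := by
    rw [Finsupp.weight_single]
    simp [wt5, hν, hNc]
  have hLE : (((L : ℤ) - (E : ℤ) : ℤ) : ZMod m) = 0 := by
    have : ((L : ℤ) - (E : ℤ) : ℤ) = -(m : ℤ) * hjP c i := by rw [hEc, hLc, hel]; ring
    rw [this]; push_cast; simp
  have hw1 : ∀ e l, e ≤ E → l ≤ L → Finsupp.weight (wt5 p q m)
      (Finsupp.single (1 : Fin 5) (E - e) + Finsupp.single (2 : Fin 5) e +
        Finsupp.single (3 : Fin 5) (L - l) + Finsupp.single (4 : Fin 5) l) = ν := by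
    intro e l he hl'
    refine Prod.ext ?_ ?_
    · rw [WtPiece5.weight5_fst]
      simp only [Finsupp.add_apply, Finsupp.single_apply, hν]
      simp only [Fin.isValue, Fin.reduceEq, if_true, if_false, add_zero, zero_add]
      have h1 : E - e + e = E := by omega
      have h2 : L - l + l = L := by omega
      rw [h1, h2, hEc, hLc]
      unfold nN
      simp
    · rw [WtRankI.weight5_snd]
      simp only [Finsupp.add_apply, Finsupp.single_apply, hν]
      simp only [Fin.isValue, Fin.reduceEq, if_true, if_false, add_zero, zero_add]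
      have h1 : E - e + e = E := by omega
      have h2 : L - l + l = L := by omega
      rw [h1, h2]
      exact hLE
  have hggm : ∀ e l, gg e l = monomial (Finsupp.single (1 : Fin 5) (E - e) +
      Finsupp.single (2 : Fin 5) e + Finsupp.single (3 : Fin 5) (L - l) +
      Finsupp.single (4 : Fin 5) l) 1 := by
    intro e l
    simp only [hgg, X_pow_eq_monomial, monomial_mul, mul_one]
  have key : weightedHomogeneousSubmodule k (wt5 p q m) ν ≤
      G2 (wt5 p q m) (X 0 ^ N) (Finset.range (E + 1)) (Finset.range (L + 1)) gg := by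
    refine le_G2_of_monomials _ ν _ _ _ _ fun d hd cc => ?_
    have h1 := congrArg Prod.fst hd
    have h2 := congrArg Prod.snd hd
    rw [WtPiece5.weight5_fst] at h1
    rw [WtRankI.weight5_snd] at h2
    simp only [hν] at h1 h2
    have h2' : (m : ℤ) ∣ ((d 3 + d 4 : ℕ) : ℤ) - ((d 1 + d 2 : ℕ) : ℤ) :=
      (ZMod.intCast_zmod_eq_zero_iff_dvd _ _).mp h2
    by_cases hNd : N ≤ d 0
    · exact mem_G2_left _ _ _ _ _ _ X_pow_eq_monomial hw0 d hd (WtPiece5.single_le_of hNd) cc
    · have hd0 : (d 0 : ℤ) < nN p q m c i := by rw [← hNc]; exact_mod_cast not_le.mp hNd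
      obtain ⟨hE', hL'⟩ := core p q m hpq hm _ _ _ _ hnlt hl hel hres (d 0) (d 1 + d 2) (d 3 + d 4)
        h1 h2' hd0
      have hE'' : E ≤ d 1 + d 2 := by rw [← hEc] at hE'; exact_mod_cast hE'
      have hL'' : L ≤ d 3 + d 4 := by rw [← hLc] at hL'; exact_mod_cast hL'
      obtain ⟨e, heE, hed2, hed1⟩ : ∃ e, e ≤ E ∧ e ≤ d 2 ∧ E - e ≤ d 1 := by
        rcases le_total (d 2) E with h | h
        · exact ⟨d 2, h, le_rfl, by omega⟩
        · exact ⟨E, le_rfl, h, by omega⟩
      obtain ⟨l, hlL, hld4, hld3⟩ : ∃ l, l ≤ L ∧ l ≤ d 4 ∧ L - l ≤ d 3 := by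
        rcases le_total (d 4) L with h | h
        · exact ⟨d 4, h, le_rfl, by omega⟩
        · exact ⟨L, le_rfl, h, by omega⟩
      refine mem_G2_right _ _ _ _ _ e l (Finset.mem_range.mpr (by omega))
        (Finset.mem_range.mpr (by omega)) _ (hggm e l) (hw1 e l heE hlL) d hd ?_ cc
      intro j
      fin_cases j <;> simp <;> omega
  obtain ⟨a₀, a, h0, ha, hfa⟩ := key hf
  refine ⟨a₀, a, h0, ha, ?_⟩
  rw [hfa, sub_self]
  exact Ideal.zero_mem _

end Groth.Agent.Helper8.HJpiece5
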