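import Mathlib
import Groth.Prelude.Def_W4c2invhilbsl2HJ
import Groth.Agent.Helper8.HJcopy
import Groth.Agent.Helper8.HJn
import Groth.Agent.Helper8.HJpiece
import Groth.Agent.Helper8.WtRank
import Groth.Agent.Helper8.WtPiece3

namespace Groth.Agent.Helper8.HJrank

open W4c2invhilbsl2 HJFrac Groth.Agent.Helper8.HJcopy

lemma lattice (n n' P P' u v : ℤ) (hn : 0 < n) (hnn' : n < n') (hP' : 0 ≤ P') (hPP' : P' < P)
    (hx0 : 0 < u * P' + v * P) (hxP : u * P' + v * P < P) (ha0 : 0 < u * n' + v * n)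
    (han : u * n' + v * n < n') : False := by
  have hn' : 0 < n' := lt_trans hn hnn'
  have hP : 0 < P := lt_of_le_of_lt hP' hPP'
  rcases le_or_gt v 0 with hv0 | hv1
  · have hvn : v * n ≤ 0 := mul_nonpos_of_nonpos_of_nonneg hv0 hn.le
    have hu1 : 1 ≤ u := by
      by_contra hc2
      have hu0 : u ≤ 0 := by omega
      have : u * n' ≤ 0 := mul_nonpos_of_nonpos_of_nonneg hu0 hn'.le
      linarith
    have e1 : (-v) * n ≤ (-v) * n' := mul_le_mul_of_nonneg_left hnn'.le (by linarith)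
    have e2 : (u - 1) * n' < (-v) * n' := by linarith
    have e3 : u - 1 < -v := lt_of_mul_lt_mul_right e2 hn'.le
    have e4 : (-v) * P' ≤ (-v) * P := mul_le_mul_of_nonneg_left hPP'.le (by linarith)
    have e5 : u * P' ≤ (-v) * P' := mul_le_mul_of_nonneg_right (by linarith) hP'
    linarith
  · have hv1' : 1 ≤ v := hv1
    rcases le_or_gt 1 u with hu1 | hu0
    · have e1 : n' ≤ u * n' := le_mul_of_one_le_left hn'.le hu1
      have e2 : 0 < v * n := mul_pos (by linarith) hn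
      linarith
    · have hu0' : u ≤ 0 := by omega
      have hvP : P ≤ v * P := le_mul_of_one_le_left hP.le hv1'
      have e1 : (-u) * P' ≤ (-u) * P := mul_le_mul_of_nonneg_left hPP'.le (by linarith)
      have e2 : (v - 1) * P < (-u) * P := by linarith
      have e3 : v - 1 < -u := lt_of_mul_lt_mul_right e2 hP.le
      have e4 : (-u) * n ≤ (-u) * n' := mul_le_mul_of_nonneg_left hnn'.le (by linarith)
      have e5 : v * n ≤ (-u) * n := mul_le_mul_of_nonneg_right (by linarith) hn.le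
      linarith

/-- arithmetic core: a monomial `X₁^b X₂^c` of weight `(a, 0)` with `0 < a < n'` has
`(b, c) ≥ (e, l)`. -/
lemma coreB (p q m : ℕ) (hpq : p < q) (hm : 0 < m) (n n' P P' l l' : ℤ)
    (hn : 0 < n) (hnn' : n < n') (hn'le : n' ≤ (q : ℤ) - p) (hP' : 0 ≤ P') (hPP' : P' < P)
    (hl : ((q : ℤ) - p) * l = n + p * m * P) (hl' : ((q : ℤ) - p) * l' = n' + p * m * P')
    (hdet : P * l' - P' * l = 1)
    (b c : ℕ) (a : ℤ) (ha : a = (q : ℤ) * c - p * b) (hmod : (m : ℤ) ∣ (c : ℤ) - b)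
    (ha0 : 0 < a) (han' : a < n') : l ≤ c ∧ l + m * P ≤ b := by
  have hqp : (0 : ℤ) < (q : ℤ) - p := by
    have : (p : ℤ) < q := by exact_mod_cast hpq
    linarith
  have hm' : (1 : ℤ) ≤ m := by exact_mod_cast hm
  have hp0 : (0 : ℤ) ≤ p := by positivity
  obtain ⟨j, hj⟩ := hmod
  set x : ℤ := -j with hx
  have hb : (b : ℤ) = c + m * x := by rw [hx]; linarith
  have hae : a = ((q : ℤ) - p) * c - p * m * x := by rw [ha, hb]; ring
  have hcnn : (0 : ℤ) ≤ c := by positivity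
  have hbnn : (0 : ℤ) ≤ b := by positivity
  have hpm : (0 : ℤ) ≤ (p : ℤ) * m := by positivity
  -- x > 0
  have hxpos : 0 < x := by
    by_contra hcon
    have hx0 : x ≤ 0 := not_lt.mp hcon
    have h5 : (p : ℤ) * m * x ≤ 0 := mul_nonpos_of_nonneg_of_nonpos hpm hx0
    rcases eq_or_lt_of_le hcnn with hc0 | hc0
    · have hmx : (m : ℤ) * x ≤ 0 := mul_nonpos_of_nonneg_of_nonpos (by linarith) hx0
      have hb00 : (b : ℤ) = 0 := by linarith
      rw [ha, hb00, ← hc0] at ha0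
      simp at ha0
    · have h4 : (1 : ℤ) ≤ c := by linarith
      have h6 : ((q : ℤ) - p) * 1 ≤ ((q : ℤ) - p) * c := mul_le_mul_of_nonneg_left h4 hqp.le
      linarith
  -- lattice coordinates
  set u : ℤ := c * P - x * l with hu
  set v : ℤ := x * l' - c * P' with hv
  have hxe : x = u * P' + v * P := by
    rw [hu, hv]
    have : (c * P - x * l) * P' + (x * l' - c * P') * P = x * (P * l' - P' * l) := by ring
    rw [this, hdet, mul_one]
  have hae2 : a = u * n' + v * n := by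
    have h1 : ((q : ℤ) - p) * (u * l' + v * l) = ((q : ℤ) - p) * c := by
      have : u * l' + v * l = c * (P * l' - P' * l) := by rw [hu, hv]; ring
      rw [this, hdet, mul_one]
    have h2 : ((q : ℤ) - p) * (u * l' + v * l) = u * (n' + p * m * P') + v * (n + p * m * P) := by
      rw [← hl, ← hl']; ring
    have h3 : u * (n' + p * m * P') + v * (n + p * m * P) = u * n' + v * n + p * m * x := by
      rw [hxe]; ring
    rw [hae]; linarith
  -- x ≥ P
  have hxP : P ≤ x := by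
    by_contra hcon
    have hxlt : x < P := not_le.mp hcon
    rw [hxe] at hxlt hxpos
    rw [hae2] at ha0 han'
    exact lattice n n' P P' u v hn hnn' hP' hPP' hxpos hxlt ha0 han'
  have hz : l ≤ c := by
    by_contra hcon
    have h11 : (c : ℤ) + 1 ≤ l := by omega
    have h12 : ((q : ℤ) - p) * ((c : ℤ) + 1) ≤ ((q : ℤ) - p) * l :=
      mul_le_mul_of_nonneg_left h11 hqp.le
    have h13 : (p : ℤ) * m * P ≤ p * m * x := mul_le_mul_of_nonneg_left hxP hpm
    linarith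
  refine ⟨hz, ?_⟩
  rw [hb]
  have : (m : ℤ) * P ≤ m * x := mul_le_mul_of_nonneg_left hxP (by positivity)
  linarith


section abstract

variable {k : Type*} [Field k] {Q : Type*} [CommRing Q] [Algebra k Q]

/-- proportionality relation -/
def R (x y : Q) : Prop := ∃ c : k, y = c • x ∨ x = c • y

omit [Field k] in
lemma R_symm [Field k] [Algebra k Q] {x y : Q} (h : R (k := k) x y) : R (k := k) y x := by
  obtain ⟨c, h | h⟩ := h
  · exact ⟨c, Or.inr h⟩
  · exact ⟨c, Or.inl h⟩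

lemma R_refl (x : Q) : R (k := k) x x := ⟨1, Or.inl (one_smul _ _).symm⟩

lemma R_zero_right (x : Q) : R (k := k) x 0 := ⟨0, Or.inl (zero_smul _ _).symm⟩

lemma R_zero_left (x : Q) : R (k := k) 0 x := ⟨0, Or.inr (zero_smul _ _).symm⟩

lemma R_mul (g : Q) {x y : Q} (h : R (k := k) x y) : R (k := k) (g * x) (g * y) := by
  obtain ⟨c, h | h⟩ := h
  · exact ⟨c, Or.inl (by rw [h, mul_smul_comm])⟩
  · exact ⟨c, Or.inr (by rw [h, mul_smul_comm])⟩

variable (u0 u1 u2 : Q)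

def T (a b c : ℕ) : Q := u0 ^ a * u1 ^ b * u2 ^ c

lemma T_add (a b c a' b' c' : ℕ) :
    T u0 u1 u2 (a + a') (b + b') (c + c') = T u0 u1 u2 a b c * T u0 u1 u2 a' b' c' := by
  unfold T; ring

variable (p q m : ℕ) (s : k) (N N' E L : ℕ)

variable (hK : ∀ a b c : ℕ, (a ≠ 0 ∨ b ≠ 0 ∨ c ≠ 0) → (a : ℤ) - p * b + q * c = 0 →
    (m : ℤ) ∣ (c : ℤ) - b → T u0 u1 u2 a b c = 0)
  (h0 : u0 ^ N' = 0) (h1 : u1 ^ E * u2 ^ L = s • u0 ^ N)
  (hcore : ∀ (b c : ℕ) (a : ℤ), a = (q : ℤ) * c - p * b → (m : ℤ) ∣ (c : ℤ) - b → 0 < a →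
    a < N' → E ≤ b ∧ L ≤ c)
  (hN : (N : ℤ) = (q : ℤ) * L - p * E) (hEL : (m : ℤ) ∣ (L : ℤ) - E)
  (hN'q : N' ≤ q) (hp : 0 < p) (hq : 0 < q) (hNpos : 0 < N)

include hK h1 hcore hN hEL hNpos in
lemma keyB : ∀ a : ℕ, ∀ b c : ℕ, (a : ℤ) = (q : ℤ) * c - p * b → (m : ℤ) ∣ (c : ℤ) - b → 0 < a →
    a < N' → ∃ ε : k, u1 ^ b * u2 ^ c = ε • u0 ^ a := by
  intro a
  induction a using Nat.strong_induction_on with
  | _ a ih =>
    intro b c ha hmod ha0 haN'
    obtain ⟨hE, hL⟩ := hcore b c a ha hmod (by exact_mod_cast ha0) (by exact_mod_cast haN')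
    obtain ⟨b₁, rfl⟩ : ∃ b₁, b = E + b₁ := ⟨b - E, by omega⟩
    obtain ⟨c₁, rfl⟩ : ∃ c₁, c = L + c₁ := ⟨c - L, by omega⟩
    have hsplit : u1 ^ (E + b₁) * u2 ^ (L + c₁) = s • (u0 ^ N * (u1 ^ b₁ * u2 ^ c₁)) := by
      rw [pow_add, pow_add, ← smul_mul_assoc, ← h1]; ring
    have hmod₁ : (m : ℤ) ∣ (c₁ : ℤ) - b₁ := by
      have : (c₁ : ℤ) - b₁ = (((L + c₁ : ℕ) : ℤ) - ((E + b₁ : ℕ) : ℤ)) - ((L : ℤ) - E) := by
        push_cast; ring
      rw [this]; exact dvd_sub hmod hEL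
    have hw₁ : (q : ℤ) * c₁ - p * b₁ = (a : ℤ) - N := by
      rw [ha, hN]; push_cast; ring
    rcases lt_trichotomy a N with haN | haN | haN
    · refine ⟨0, ?_⟩
      rw [zero_smul, hsplit]
      have hz : T u0 u1 u2 (N - a) b₁ c₁ = 0 := by
        refine hK _ _ _ (Or.inl (by omega)) ?_ hmod₁
        rw [Nat.cast_sub haN.le]; linarith
      have : u0 ^ N * (u1 ^ b₁ * u2 ^ c₁) = u0 ^ a * T u0 u1 u2 (N - a) b₁ c₁ := by
        unfold T
        have : N = a + (N - a) := by omega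
        conv_lhs => rw [this, pow_add]
        ring
      rw [this, hz, mul_zero, smul_zero]
    · subst haN
      by_cases hbc : b₁ = 0 ∧ c₁ = 0
      · obtain ⟨rfl, rfl⟩ := hbc
        exact ⟨s, by rw [hsplit]; simp⟩
      · refine ⟨0, ?_⟩
        rw [zero_smul, hsplit]
        have hz : T u0 u1 u2 0 b₁ c₁ = 0 := by
          refine hK _ _ _ (Or.inr (by omega)) ?_ hmod₁
          push_cast; linarith
        have : u1 ^ b₁ * u2 ^ c₁ = T u0 u1 u2 0 b₁ c₁ := by unfold T; ring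
        rw [this, hz, mul_zero, smul_zero]
    · obtain ⟨ε', hε'⟩ := ih (a - N) (by omega) b₁ c₁
        (by rw [Nat.cast_sub haN.le]; linarith) hmod₁ (by omega) (by omega)
      refine ⟨s * ε', ?_⟩
      rw [hsplit, hε', mul_smul_comm, smul_smul, ← pow_add]
      congr 2
      omega

include hK h0 h1 hcore hN hEL hNpos in
lemma dir (a b c : ℕ) (ha : (a : ℤ) = (q : ℤ) * c - p * b) (hmod : (m : ℤ) ∣ (c : ℤ) - b) :
    R (k := k) (u0 ^ a) (u1 ^ b * u2 ^ c) := by
  rcases Nat.eq_zero_or_pos a with ha0 | ha0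
  · subst ha0
    by_cases hbc : b = 0 ∧ c = 0
    · obtain ⟨rfl, rfl⟩ := hbc
      simp only [pow_zero, mul_one]
      exact R_refl _
    · have hz : T u0 u1 u2 0 b c = 0 := by
        refine hK _ _ _ (Or.inr (by omega)) ?_ hmod
        push_cast at ha ⊢; linarith
      have : u1 ^ b * u2 ^ c = T u0 u1 u2 0 b c := by unfold T; ring
      rw [this, hz]
      exact R_zero_right _
  · rcases Nat.lt_or_ge a N' with haN' | haN'
    · obtain ⟨ε, hε⟩ := keyB u0 u1 u2 p q m s N N' E L hK h1 hcore hN hEL hNpos a b c ha hmod ha0 haN'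
      exact ⟨ε, Or.inl hε⟩
    · have : u0 ^ a = 0 := by
        have : a = N' + (a - N') := by omega
        rw [this, pow_add, h0, zero_mul]
      rw [this]
      exact R_zero_left _

include hK in
lemma R_one_of_wt0 (a b c : ℕ) (hw : (a : ℤ) - p * b + q * c = 0) (hmod : (m : ℤ) ∣ (c : ℤ) - b) :
    R (k := k) 1 (T u0 u1 u2 a b c) := by
  by_cases h : a = 0 ∧ b = 0 ∧ c = 0
  · obtain ⟨rfl, rfl, rfl⟩ := h
    unfold T; simp only [pow_zero, mul_one]
    exact R_refl _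
  · rw [hK a b c (by omega) hw hmod]
    exact R_zero_right _

include hK h0 h1 hcore hN hEL hN'q hp hq hNpos in
lemma cop_aux (b c a' b' c' : ℕ) (hb : b = 0 ∨ b' = 0) (hc : c = 0 ∨ c' = 0)
    (hw : (0 : ℤ) - p * b + q * c = (a' : ℤ) - p * b' + q * c')
    (hmod : (m : ℤ) ∣ ((c : ℤ) - b) - ((c' : ℤ) - b')) :
    R (k := k) (T u0 u1 u2 0 b c) (T u0 u1 u2 a' b' c') := by
  have hp' : (0 : ℤ) < p := by exact_mod_cast hp
  have hq' : (0 : ℤ) < q := by exact_mod_cast hq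
  rcases hb with rfl | rfl <;> rcases hc with rfl | rfl
  · -- (0,0,0) vs (a',b',c')
    have h1' : T u0 u1 u2 0 0 0 = 1 := by unfold T; simp
    rw [h1']
    refine R_one_of_wt0 u0 u1 u2 p q m hK a' b' c' ?_ ?_
    · push_cast at hw; linarith
    · have : (c' : ℤ) - b' = -((((0 : ℕ) : ℤ) - ((0 : ℕ) : ℤ)) - ((c' : ℤ) - b')) := by
        push_cast; ring
      rw [this]; exact (dvd_neg).mpr hmod
  · -- (0,0,c) vs (a',b',0)
    rcases Nat.eq_zero_or_pos c with rfl | hcpos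
    · have h1' : T u0 u1 u2 0 0 0 = 1 := by unfold T; simp
      rw [h1']
      refine R_one_of_wt0 u0 u1 u2 p q m hK a' b' 0 ?_ ?_
      · push_cast at hw ⊢; linarith
      · have : (((0 : ℕ) : ℤ)) - b' = -((((0 : ℕ) : ℤ) - ((0 : ℕ) : ℤ)) - ((((0 : ℕ) : ℤ)) - b')) := by
          push_cast; ring
        rw [this]; exact (dvd_neg).mpr hmod
    · have hq1 : (q : ℤ) ≤ q * c := by
        have : (1 : ℤ) ≤ c := by exact_mod_cast hcpos
        nlinarith
      have hb0 : (0 : ℤ) ≤ (p : ℤ) * b' := by positivity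
      have ha' : (q : ℤ) ≤ a' := by push_cast at hw; linarith
      have ha'N : N' ≤ a' := by
        have : q ≤ a' := by exact_mod_cast ha'
        omega
      have : T u0 u1 u2 a' b' 0 = 0 := by
        unfold T
        have : a' = N' + (a' - N') := by omega
        rw [this, pow_add, h0]; ring
      rw [this]; exact R_zero_right _
  · -- (0,b,0) vs (a',0,c')
    have hb0 : (0 : ℤ) ≤ (p : ℤ) * b := by positivity
    have hc0 : (0 : ℤ) ≤ (q : ℤ) * c' := by positivity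
    have ha0 : (0 : ℤ) ≤ a' := by positivity
    push_cast at hw
    have hb' : (p : ℤ) * b = 0 := by linarith
    have hc' : (q : ℤ) * c' = 0 := by linarith
    have ha' : (a' : ℤ) = 0 := by linarith
    have hb'' : b = 0 := by
      rcases mul_eq_zero.mp hb' with h | h
      · omega
      · exact_mod_cast h
    have hc'' : c' = 0 := by
      rcases mul_eq_zero.mp hc' with h | h
      · omega
      · exact_mod_cast h
    have ha'' : a' = 0 := by exact_mod_cast ha'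
    subst hb'' hc'' ha''
    exact R_refl _
  · -- (0,b,c) vs (a',0,0)
    have e1 : T u0 u1 u2 0 b c = u1 ^ b * u2 ^ c := by unfold T; ring
    have e2 : T u0 u1 u2 a' 0 0 = u0 ^ a' := by unfold T; ring
    rw [e1, e2]
    refine R_symm (dir u0 u1 u2 p q m s N N' E L hK h0 h1 hcore hN hEL hNpos a' b c ?_ ?_)
    · push_cast at hw; linarith
    · have : (c : ℤ) - b = ((c : ℤ) - b) - ((((0 : ℕ) : ℤ)) - ((0 : ℕ) : ℤ)) := by push_cast; ring
      rw [this]; exact hmod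

end abstract


section abstract

variable {k : Type*} [Field k] {Q : Type*} [CommRing Q] [Algebra k Q]
variable (u0 u1 u2 : Q)
variable (p q m : ℕ) (s : k) (N N' E L : ℕ)

variable (hK : ∀ a b c : ℕ, (a ≠ 0 ∨ b ≠ 0 ∨ c ≠ 0) → (a : ℤ) - p * b + q * c = 0 →
    (m : ℤ) ∣ (c : ℤ) - b → T u0 u1 u2 a b c = 0)
  (h0 : u0 ^ N' = 0) (h1 : u1 ^ E * u2 ^ L = s • u0 ^ N)
  (hcore : ∀ (b c : ℕ) (a : ℤ), a = (q : ℤ) * c - p * b → (m : ℤ) ∣ (c : ℤ) - b → 0 < a →
    a < N' → E ≤ b ∧ L ≤ c)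
  (hN : (N : ℤ) = (q : ℤ) * L - p * E) (hEL : (m : ℤ) ∣ (L : ℤ) - E)
  (hN'q : N' ≤ q) (hp : 0 < p) (hq : 0 < q) (hNpos : 0 < N)

include hK h0 h1 hcore hN hEL hN'q hp hq hNpos in
lemma cop (a b c a' b' c' : ℕ) (ha : a = 0 ∨ a' = 0) (hb : b = 0 ∨ b' = 0) (hc : c = 0 ∨ c' = 0)
    (hw : (a : ℤ) - p * b + q * c = (a' : ℤ) - p * b' + q * c')
    (hmod : (m : ℤ) ∣ ((c : ℤ) - b) - ((c' : ℤ) - b')) :
    R (k := k) (T u0 u1 u2 a b c) (T u0 u1 u2 a' b' c') := by
  rcases ha with rfl | rfl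
  · exact cop_aux u0 u1 u2 p q m s N N' E L hK h0 h1 hcore hN hEL hN'q hp hq hNpos b c a' b' c'
      hb hc (by push_cast at hw ⊢; linarith) hmod
  · refine R_symm (cop_aux u0 u1 u2 p q m s N N' E L hK h0 h1 hcore hN hEL hN'q hp hq hNpos
      b' c' a b c hb.symm hc.symm (by push_cast at hw ⊢; linarith) ?_)
    have : ((c' : ℤ) - b') - ((c : ℤ) - b) = -(((c : ℤ) - b) - ((c' : ℤ) - b')) := by ring
    rw [this]; exact (dvd_neg).mpr hmod

include hK h0 h1 hcore hN hEL hN'q hp hq hNpos in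
lemma keyMain (a b c a' b' c' : ℕ)
    (hw : (a : ℤ) - p * b + q * c = (a' : ℤ) - p * b' + q * c')
    (hmod : (m : ℤ) ∣ ((c : ℤ) - b) - ((c' : ℤ) - b')) :
    R (k := k) (T u0 u1 u2 a b c) (T u0 u1 u2 a' b' c') := by
  obtain ⟨α, hα⟩ : ∃ α, a = min a a' + α := ⟨a - min a a', by omega⟩
  obtain ⟨α', hα'⟩ : ∃ α', a' = min a a' + α' := ⟨a' - min a a', by omega⟩
  obtain ⟨β, hβ⟩ : ∃ β, b = min b b' + β := ⟨b - min b b', by omega⟩
  obtain ⟨β', hβ'⟩ : ∃ β', b' = min b b' + β' := ⟨b' - min b b', by omega⟩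
  obtain ⟨γ, hγ⟩ : ∃ γ, c = min c c' + γ := ⟨c - min c c', by omega⟩
  obtain ⟨γ', hγ'⟩ : ∃ γ', c' = min c c' + γ' := ⟨c' - min c c', by omega⟩
  have hαα : α = 0 ∨ α' = 0 := by omega
  have hββ : β = 0 ∨ β' = 0 := by omega
  have hγγ : γ = 0 ∨ γ' = 0 := by omega
  set g0 := min a a'
  set g1 := min b b'
  set g2 := min c c'
  rw [hα, hβ, hγ, hα', hβ', hγ', T_add, T_add]
  refine R_mul _ (cop u0 u1 u2 p q m s N N' E L hK h0 h1 hcore hN hEL hN'q hp hq hNpos
    α β γ α' β' γ' hαα hββ hγγ ?_ ?_)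
  · rw [hα, hβ, hγ, hα', hβ', hγ'] at hw
    push_cast at hw
    linarith
  · have : ((γ : ℤ) - β) - ((γ' : ℤ) - β') = ((c : ℤ) - b) - ((c' : ℤ) - b') := by
      rw [hβ, hγ, hβ', hγ']
      push_cast; ring
    rw [this]; exact hmod

end abstract


lemma hj_facts2 (p q m : ℕ) (hpq : p < q) (hm : 0 < m) (c : List ℤ) (hc : IsHJDigits p q m c)
    (i : ℕ) (hi : 1 ≤ i) (hir : i ≤ c.length) :
    0 < nN p q m c i ∧ nN p q m c i < nN p q m c (i - 1) ∧ nN p q m c (i - 1) ≤ (q : ℤ) - p ∧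
    0 ≤ hjP c (i - 1) ∧ hjP c (i - 1) < hjP c i ∧
    (∀ j, ((q : ℤ) - p) * lL p q m c j = nN p q m c j + p * m * hjP c j) ∧
    hjP c i * lL p q m c (i - 1) - hjP c (i - 1) * lL p q m c i = 1 ∧
    eE p q m c i = lL p q m c i + m * hjP c i ∧ 0 ≤ lL p q m c i ∧ 0 ≤ eE p q m c i := by
  obtain ⟨hn0, hnlt, hl, hel, hP0, hl0, he0, -⟩ := HJpiece.hj_facts p q m hpq hm c hc i hi hir
  have hgpos := gcdK_pos p q m hpq hm
  have hg : (0 : ℤ) < (gcdK p q m : ℤ) := by exact_mod_cast hgpos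
  have htpos : (0 : ℤ) < (tT p q m : ℤ) := by exact_mod_cast tT_pos p q m hpq hm
  have hbpos : (0 : ℤ) < (bB p q m : ℤ) := by exact_mod_cast bB_pos p q m hpq hm
  have hval := hval_cast p q m hpq hm c hc
  have hne : c ≠ [] := c_ne_nil c hc.1 _ _ htpos hval hbpos
  obtain ⟨h1, h2, h3⟩ := seq_props c hc.1 hne _ _ htpos hval
  obtain ⟨j, rfl⟩ : ∃ j, i = j + 1 := ⟨i - 1, by omega⟩
  simp only [Nat.add_sub_cancel]
  have hlgen : ∀ j, ((q : ℤ) - p) * lL p q m c j = nN p q m c j + p * m * hjP c j := by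
    intro j
    have hel' : eE p q m c j = lL p q m c j + m * hjP c j := by
      unfold eE lL; push_cast; ring
    unfold nN
    rw [hel']; ring
  refine ⟨hn0, ?_, ?_, (hjP_mono' c hc.1 j (by omega)).1, ?_, hlgen, ?_, hel, hl0, he0⟩
  · rw [nN_eq p q m hpq hm, nN_eq p q m hpq hm]
    exact mul_lt_mul_of_pos_left (h1 j (by omega)) hg
  · rcases Nat.eq_zero_or_pos j with rfl | hj
    · have : nN p q m c 0 = (q : ℤ) - p := by
        unfold nN eE lL
        simp only [hjP, hjQ]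
        push_cast; ring
      rw [this]
    · exact (HJpiece.hj_facts p q m hpq hm c hc j hj (by omega)).2.1.le
  · have := hjP_mono c hc.1 j (by omega)
    linarith
  · have hdet := det_PQ c j
    unfold lL
    linear_combination hdet

section main

open MvPolynomial

lemma mk_monomial3 {k : Type*} [Field k] (I : Ideal (MvPolynomial (Fin 3) k)) (d : Fin 3 →₀ ℕ) :
    Ideal.Quotient.mk I (monomial d (1 : k)) =
      T (Ideal.Quotient.mk I (X 0)) (Ideal.Quotient.mk I (X 1)) (Ideal.Quotient.mk I (X 2))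
        (d 0) (d 1) (d 2) := by
  unfold T
  rw [monomial_eq, C_1, one_mul, Finsupp.prod_fintype _ _ (fun i => pow_zero _),
    Fin.prod_univ_three]
  simp only [map_mul, map_pow]

theorem main (k : Type*) [Field k] (p q m : ℕ) (hp : 0 < p) (hpq : p < q) (hm : 0 < m)
    (c : List ℤ) (hc : W4c2invhilbsl2.IsHJDigits p q m c) (i : ℕ) (hi : 1 ≤ i)
    (hir : i ≤ c.length) (s : k) (ν : ℤ × ZMod m) :
    Module.rank k (W4c2invhilbsl2.piece k (W4c2invhilbsl2.wt3 p q m)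
      (W4c2invhilbsl2.idealL k p q m c i s) ν) ≤ 1 := by
  obtain ⟨hn0, hnn', hn'le, hP', hPP', hlgen, hdet, hel, hl0, he0⟩ :=
    hj_facts2 p q m hpq hm c hc i hi hir
  set I := idealL k p q m c i s with hI
  set N := (nN p q m c i).toNat with hN
  set N' := (nN p q m c (i - 1)).toNat with hN'
  set E := (eE p q m c i).toNat with hE
  set L := (lL p q m c i).toNat with hL
  have hNc : (N : ℤ) = nN p q m c i := Int.toNat_of_nonneg hn0.le
  have hN'c : (N' : ℤ) = nN p q m c (i - 1) := Int.toNat_of_nonneg (by linarith)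
  have hEc : (E : ℤ) = eE p q m c i := Int.toNat_of_nonneg he0
  have hLc : (L : ℤ) = lL p q m c i := Int.toNat_of_nonneg hl0
  set u0 := Ideal.Quotient.mk I (X 0) with hu0
  set u1 := Ideal.Quotient.mk I (X 1) with hu1
  set u2 := Ideal.Quotient.mk I (X 2) with hu2
  have hpq' : (p : ℤ) < q := by exact_mod_cast hpq
  -- the hypotheses
  have hK : ∀ a b c' : ℕ, (a ≠ 0 ∨ b ≠ 0 ∨ c' ≠ 0) → (a : ℤ) - p * b + q * c' = 0 →
      (m : ℤ) ∣ (c' : ℤ) - b → T u0 u1 u2 a b c' = 0 := by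
    intro a b c' hne hw hmod
    set d : Fin 3 →₀ ℕ := Finsupp.single 0 a + Finsupp.single 1 b + Finsupp.single 2 c' with hd
    have hd0 : d 0 = a := by simp [hd]
    have hd1 : d 1 = b := by simp [hd]
    have hd2 : d 2 = c' := by simp [hd]
    have : T u0 u1 u2 a b c' = Ideal.Quotient.mk I (monomial d (1 : k)) := by
      rw [mk_monomial3, hd0, hd1, hd2]
    rw [this, Ideal.Quotient.eq_zero_iff_mem, hI]
    refine Ideal.mem_sup_right (Ideal.subset_span ⟨d, ?_, ?_, rfl⟩)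
    · intro h0
      rw [h0] at hd0 hd1 hd2
      simp at hd0 hd1 hd2
      omega
    · refine Prod.ext ?_ ?_
      · rw [WtPiece3.weight3_fst, hd0, hd1, hd2]; exact hw
      · rw [HJpiece.weight3_snd, hd1, hd2]
        exact (ZMod.intCast_zmod_eq_zero_iff_dvd _ _).mpr hmod
  have h0 : u0 ^ N' = 0 := by
    rw [hu0, ← map_pow, Ideal.Quotient.eq_zero_iff_mem, hI]
    exact Ideal.mem_sup_left (Ideal.subset_span (by simp [hN']))
  have h1 : u1 ^ E * u2 ^ L = s • u0 ^ N := by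
    have hmem : C s * X 0 ^ N - X 1 ^ E * X 2 ^ L ∈ I := by
      rw [hI]
      exact Ideal.mem_sup_left (Ideal.subset_span (by simp [hN, hE, hL]))
    have h2 : Ideal.Quotient.mk I (C s * X 0 ^ N) = Ideal.Quotient.mk I (X 1 ^ E * X 2 ^ L) :=
      Ideal.Quotient.eq.mpr hmem
    have h3 : s • u0 ^ N = Ideal.Quotient.mk I (C s * X 0 ^ N) := by
      rw [← smul_eq_C_mul, hu0, ← map_pow]; rfl
    rw [h3, h2, hu1, hu2, map_mul, map_pow, map_pow]
  have hcore : ∀ (b c' : ℕ) (a : ℤ), a = (q : ℤ) * c' - p * b → (m : ℤ) ∣ (c' : ℤ) - b → 0 < a →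
      a < N' → E ≤ b ∧ L ≤ c' := by
    intro b c' a ha hmod ha0 haN'
    rw [hN'c] at haN'
    obtain ⟨h1', h2'⟩ := coreB p q m hpq hm (nN p q m c i) (nN p q m c (i - 1)) (hjP c i)
      (hjP c (i - 1)) (lL p q m c i) (lL p q m c (i - 1)) hn0 hnn' hn'le hP' hPP' (hlgen i)
      (hlgen (i - 1)) hdet b c' a ha hmod ha0 haN'
    rw [← hel, ← hEc] at h2'
    rw [← hLc] at h1'
    exact ⟨by exact_mod_cast h2', by exact_mod_cast h1'⟩
  have hNeq : (N : ℤ) = (q : ℤ) * L - p * E := by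
    rw [hNc, hLc, hEc]; unfold nN; ring
  have hEL : (m : ℤ) ∣ (L : ℤ) - E := by
    rw [hLc, hEc, hel]
    exact ⟨-hjP c i, by ring⟩
  have hN'q : N' ≤ q := by
    have : (N' : ℤ) ≤ q := by
      rw [hN'c]
      have : (0 : ℤ) ≤ p := by positivity
      linarith
    exact_mod_cast this
  have hNpos : 0 < N := by
    have : (0 : ℤ) < N := by rw [hNc]; exact hn0
    exact_mod_cast this
  refine WtRank.rank_piece_le_one _ _ _ fun d d' hd hd' => ?_
  rw [mk_monomial3, mk_monomial3]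
  have hfst := (congrArg Prod.fst hd).trans (congrArg Prod.fst hd').symm
  have hsnd := (congrArg Prod.snd hd).trans (congrArg Prod.snd hd').symm
  rw [WtPiece3.weight3_fst, WtPiece3.weight3_fst] at hfst
  rw [HJpiece.weight3_snd, HJpiece.weight3_snd, ZMod.intCast_eq_intCast_iff_dvd_sub] at hsnd
  refine keyMain u0 u1 u2 p q m s N N' E L hK h0 h1 hcore hNeq hEL hN'q hp (by omega) hNpos
    (d 0) (d 1) (d 2) (d' 0) (d' 1) (d' 2) hfst ?_
  have : ((d 2 : ℤ) - d 1) - ((d' 2 : ℤ) - d' 1) = -(((d' 2 : ℤ) - d' 1) - ((d 2 : ℤ) - d 1)) := by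
    ring
  rw [this]
  exact (dvd_neg).mpr hsnd

end main

end Groth.Agent.Helper8.HJrank
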