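import Mathlib

/-!
# Laurent polynomial helpers (Horrocks–Quillen project)

`plus p = p(T)`, `minus p = p(T⁻¹)`, clearing denominators, coefficient lemmas.
-/

set_option autoImplicit false

namespace Groth.Agent.Helper8.HQ

open Polynomial LaurentPolynomial

section Basic

variable {A : Type*} [CommRing A]

/-- The involution `T ↦ T⁻¹` as a ring hom. -/
noncomputable def inv : A[T;T⁻¹] →+* A[T;T⁻¹] :=
  (LaurentPolynomial.invert (R := A)).toRingEquiv.toRingHom

/-- `p ↦ p(T)`. -/
noncomputable def plus : A[X] →+* A[T;T⁻¹] := Polynomial.toLaurent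

/-- `p ↦ p(T⁻¹)`. -/
noncomputable def minus : A[X] →+* A[T;T⁻¹] := inv.comp Polynomial.toLaurent

theorem inv_apply (f : A[T;T⁻¹]) : inv f = LaurentPolynomial.invert f := rfl

theorem inv_inv (f : A[T;T⁻¹]) : inv (inv f) = f := LaurentPolynomial.involutive_invert f

theorem inv_injective : Function.Injective (inv : A[T;T⁻¹] →+* A[T;T⁻¹]) :=
  (LaurentPolynomial.involutive_invert (R := A)).injective

@[simp] theorem inv_T (n : ℤ) : inv (T n : A[T;T⁻¹]) = T (-n) := LaurentPolynomial.invert_T n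

theorem inv_plus (p : A[X]) : inv (plus p) = minus p := rfl

theorem inv_minus (p : A[X]) : inv (minus p) = plus p := inv_inv _

theorem plus_injective : Function.Injective (plus : A[X] →+* A[T;T⁻¹]) :=
  Polynomial.toLaurent_injective

theorem minus_injective : Function.Injective (minus : A[X] →+* A[T;T⁻¹]) :=
  inv_injective.comp Polynomial.toLaurent_injective

@[simp] theorem plus_X : plus (X : A[X]) = T 1 := Polynomial.toLaurent_X

@[simp] theorem minus_X : minus (X : A[X]) = T (-1) := by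
  rw [← inv_plus, plus_X, inv_T]

@[simp] theorem plus_C (a : A) : plus (Polynomial.C a) = LaurentPolynomial.C a :=
  Polynomial.toLaurent_C a

@[simp] theorem minus_C (a : A) : minus (Polynomial.C a) = LaurentPolynomial.C a := by
  rw [← inv_plus, plus_C, inv_apply, LaurentPolynomial.invert_C]

theorem plus_X_pow (n : ℕ) : plus (X ^ n : A[X]) = T (n : ℤ) := Polynomial.toLaurent_X_pow n

theorem minus_X_pow (n : ℕ) : minus (X ^ n : A[X]) = T (-(n : ℤ)) := by
  rw [← inv_plus, plus_X_pow, inv_T]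

theorem T_mul_T (i j : ℤ) : (T i * T j : A[T;T⁻¹]) = T (i + j) := (T_add i j).symm

theorem T_neg_mul_T (i : ℤ) : (T (-i) * T i : A[T;T⁻¹]) = 1 := by
  rw [T_mul_T, neg_add_cancel, T_zero]

theorem T_mul_T_neg (i : ℤ) : (T i * T (-i) : A[T;T⁻¹]) = 1 := by
  rw [T_mul_T, add_neg_cancel, T_zero]

/-- Reversal: `T^d u(T⁻¹) = (reverse u)(T)`. -/
theorem T_natDegree_mul_minus (u : A[X]) :
    T (u.natDegree : ℤ) * minus u = plus u.reverse := by
  show _ = Polynomial.toLaurent u.reverse
  rw [LaurentPolynomial.toLaurent_reverse, mul_comm]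
  rfl

end Basic

section Coeff

variable {A : Type*} [CommRing A]

/-- The coefficient functional. -/
noncomputable def lcoeff (n : ℤ) : A[T;T⁻¹] →ₗ[A] A where
  toFun f := f.coeff n
  map_add' f g := by simp [AddMonoidAlgebra.coeff_add]
  map_smul' c f := by simp

@[simp] theorem lcoeff_apply (n : ℤ) (f : A[T;T⁻¹]) : lcoeff n f = f.coeff n := rfl

theorem coeff_T_mul (d n : ℤ) (f : A[T;T⁻¹]) : (T d * f).coeff n = f.coeff (n - d) := by
  unfold T
  rw [AddMonoidAlgebra.coeff_single_mul_apply, one_mul, neg_add_eq_sub]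

theorem coeff_plus_nat (p : A[X]) (n : ℕ) : (plus p).coeff (n : ℤ) = p.coeff n := by
  show (Polynomial.toLaurent p).coeff (n : ℤ) = _
  rw [LaurentPolynomial.coeff_toLaurent]
  have := Finsupp.mapDomain_apply (Nat.castEmbedding (R := ℤ)).injective p.toFinsupp.coeff n
  refine Eq.trans ?_ (this.trans ?_)
  · rfl
  · cases p; rfl

theorem coeff_plus_neg (p : A[X]) {n : ℤ} (hn : n < 0) : (plus p).coeff n = 0 := by
  show (Polynomial.toLaurent p).coeff n = _
  rw [LaurentPolynomial.coeff_toLaurent]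
  apply Finsupp.mapDomain_of_notMem_range
  rintro ⟨k, hk⟩
  have : (0 : ℤ) ≤ n := by rw [← hk]; exact Int.natCast_nonneg k
  omega

theorem coeff_minus_pos (q : A[X]) {n : ℤ} (hn : 0 < n) : (minus q).coeff n = 0 := by
  rw [← inv_plus, inv_apply, LaurentPolynomial.invert_apply]
  exact coeff_plus_neg q (by omega)

end Coeff

section Clear

variable {A : Type*} [CommRing A] {ι : Type*} [Fintype ι]

/-- Multiplying by a large power of `T` lands in the image of `plus`. -/
theorem exists_plus_vec (v : ι → A[T;T⁻¹]) :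
    ∃ n : ℕ, ∀ j : ℤ, (n : ℤ) ≤ j → ∃ p : ι → A[X], ∀ i, T j * v i = plus (p i) := by
  classical
  choose n f hf using fun i => LaurentPolynomial.exists_T_pow (v i)
  refine ⟨∑ i, n i, fun j hj => ?_⟩
  have hle : ∀ i, (n i : ℤ) ≤ j := fun i => by
    have : n i ≤ ∑ i, n i := Finset.single_le_sum (fun _ _ => Nat.zero_le _) (Finset.mem_univ i)
    exact le_trans (by exact_mod_cast this) hj
  refine ⟨fun i => f i * X ^ (j - n i).toNat, fun i => ?_⟩
  rw [map_mul, plus_X_pow, Int.toNat_of_nonneg (sub_nonneg.mpr (hle i))]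
  show _ = Polynomial.toLaurent (f i) * _
  rw [hf i, mul_assoc, T_mul_T, mul_comm]
  congr 2
  ring

/-- Multiplying by a very negative power of `T` lands in the image of `minus`. -/
theorem exists_minus_vec (v : ι → A[T;T⁻¹]) :
    ∃ n : ℕ, ∀ j : ℤ, j ≤ -(n : ℤ) → ∃ q : ι → A[X], ∀ i, T j * v i = minus (q i) := by
  obtain ⟨n, hn⟩ := exists_plus_vec (fun i => inv (v i))
  refine ⟨n, fun j hj => ?_⟩
  obtain ⟨p, hp⟩ := hn (-j) (by omega)
  refine ⟨p, fun i => ?_⟩
  apply inv_injective
  rw [map_mul, inv_T, hp i, inv_minus]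

end Clear

section Span

variable {A : Type*} [CommRing A] {ι : Type*} [Fintype ι] [DecidableEq ι]

/-- `A[T;T⁻¹]^ι` is spanned over `A` by the `T^j eᵢ`. -/
theorem span_T_smul_single :
    Submodule.span A {w : ι → A[T;T⁻¹] | ∃ (j : ℤ) (i : ι), w = (T j : A[T;T⁻¹]) • (Pi.single i 1 : ι → A[T;T⁻¹])} = ⊤ := by
  rw [eq_top_iff]
  intro w _
  have key : ∀ (f : A[T;T⁻¹]) (i : ι), (Pi.single i f : ι → A[T;T⁻¹]) ∈
      Submodule.span A {w : ι → A[T;T⁻¹] | ∃ (j : ℤ) (i : ι), w = (T j : A[T;T⁻¹]) • (Pi.single i 1 : ι → A[T;T⁻¹])} := by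
    intro f i
    induction f using LaurentPolynomial.induction_on' with
    | add p q hp hq =>
      rw [Pi.single_add]
      exact add_mem hp hq
    | C_mul_T n a =>
      have : (Pi.single i (LaurentPolynomial.C a * T n) : ι → A[T;T⁻¹]) =
          a • ((T n : A[T;T⁻¹]) • (Pi.single i 1 : ι → A[T;T⁻¹])) := by
        ext k : 1
        by_cases hk : k = i
        · subst hk
          simp [LaurentPolynomial.smul_eq_C_mul]
        · simp [Pi.single_eq_of_ne hk]
      rw [this]
      exact Submodule.smul_mem _ _ (Submodule.subset_span ⟨n, i, rfl⟩)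
  rw [← Finset.univ_sum_single w]
  exact Submodule.sum_mem _ fun i _ => key (w i) i

end Span

section Map

variable {A B : Type*} [CommRing A] [CommRing B] (φ : A →+* B)

/-- Base change of Laurent polynomials. -/
noncomputable def mapL : A[T;T⁻¹] →+* B[T;T⁻¹] := AddMonoidAlgebra.mapRingHom ℤ φ

@[simp] theorem coeff_mapL (f : A[T;T⁻¹]) (n : ℤ) : (mapL φ f).coeff n = φ (f.coeff n) :=
  AddMonoidAlgebra.coeff_mapRingHom φ f n

theorem mapL_T (n : ℤ) : mapL φ (T n) = T n := by
  unfold T mapL
  rw [AddMonoidAlgebra.mapRingHom_single, map_one]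

theorem mapL_inv (f : A[T;T⁻¹]) : mapL φ (inv f) = inv (mapL φ f) := by
  ext n
  simp [inv_apply]

theorem mapL_plus (p : A[X]) : mapL φ (plus p) = plus (p.map φ) := by
  induction p using Polynomial.induction_on' with
  | add p q hp hq => rw [map_add, map_add, hp, hq, Polynomial.map_add, map_add]
  | monomial n a =>
    rw [Polynomial.map_monomial, ← Polynomial.C_mul_X_pow_eq_monomial,
      ← Polynomial.C_mul_X_pow_eq_monomial, map_mul, map_mul, map_mul, plus_C, plus_C,
      plus_X_pow, plus_X_pow, mapL_T]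
    congr 1
    ext k
    simp [LaurentPolynomial.C_apply, apply_ite φ]

theorem mapL_minus (p : A[X]) : mapL φ (minus p) = minus (p.map φ) := by
  rw [← inv_plus, mapL_inv, mapL_plus, inv_plus]

end Map

end Groth.Agent.Helper8.HQ
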