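import Mathlib
import Groth.Agent.Helper8.HQLaurent

/-!
# Abstract two-chart lemmas (Horrocks–Quillen project)

`W` is a module over `A[T;T⁻¹]`, `M₀`, `N₀` are `A`-submodules stable under `T`, `T⁻¹` respectively.
`lemmaG` : the "maximal line subbundle" lemma modulo a maximal ideal.
`lemmaN1`, `lemmaN2` : Nakayama-type lifting.
-/

set_option autoImplicit false

namespace Groth.Agent.Helper8.HQ

open Polynomial LaurentPolynomial

section Chart

variable {A : Type*} [CommRing A]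
variable {W : Type*} [AddCommGroup W] [Module A W] [Module A[T;T⁻¹] W]
  [IsScalarTower A A[T;T⁻¹] W]

/-- Multiplication by `T^j` as an `A`-linear map. -/
noncomputable def Tmul (j : ℤ) : W →ₗ[A] W where
  toFun w := (T j : A[T;T⁻¹]) • w
  map_add' := smul_add _
  map_smul' c w := smul_comm _ _ _

theorem Tmul_apply (j : ℤ) (w : W) : Tmul (A := A) j w = (T j : A[T;T⁻¹]) • w := rfl

theorem T_smul_T_smul (i j : ℤ) (w : W) :
    (T i : A[T;T⁻¹]) • (T j : A[T;T⁻¹]) • w = (T (i + j) : A[T;T⁻¹]) • w := by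
  rw [← mul_smul, T_mul_T]

theorem T_zero_smul (w : W) : (T 0 : A[T;T⁻¹]) • w = w := by
  rw [T_zero, one_smul]

/-- `T^b N₀`. -/
noncomputable def shiftSub (N₀ : Submodule A W) (b : ℤ) : Submodule A W :=
  N₀.comap (Tmul (-b))

theorem mem_shiftSub {N₀ : Submodule A W} {b : ℤ} {w : W} :
    w ∈ shiftSub N₀ b ↔ (T (-b) : A[T;T⁻¹]) • w ∈ N₀ := Iff.rfl

theorem T_smul_mem_shift {N₀ : Submodule A W} {b j : ℤ} {w : W} (hw : w ∈ shiftSub N₀ b) :
    (T j : A[T;T⁻¹]) • w ∈ shiftSub N₀ (b + j) := by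
  rw [mem_shiftSub, T_smul_T_smul]
  have : -(b + j) + j = -b := by ring
  rw [this]
  exact hw

/-- The axioms of a two-chart structure. -/
structure TwoChart (M₀ N₀ : Submodule A W) : Prop where
  stabM : ∀ w ∈ M₀, (T 1 : A[T;T⁻¹]) • w ∈ M₀
  stabN : ∀ w ∈ N₀, (T (-1) : A[T;T⁻¹]) • w ∈ N₀
  exhM : ∀ w : W, ∃ j₀ : ℤ, ∀ j, j₀ ≤ j → (T j : A[T;T⁻¹]) • w ∈ M₀
  exhN : ∀ w : W, ∃ j₀ : ℤ, ∀ j, j ≤ j₀ → (T j : A[T;T⁻¹]) • w ∈ N₀

namespace TwoChart

variable {M₀ N₀ : Submodule A W} (h : TwoChart M₀ N₀)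

include h

theorem stabM_nat (n : ℕ) {w : W} (hw : w ∈ M₀) : (T (n : ℤ) : A[T;T⁻¹]) • w ∈ M₀ := by
  induction n with
  | zero => simpa [T_zero_smul] using hw
  | succ n ih =>
    have := h.stabM _ ih
    rw [T_smul_T_smul] at this
    have e : (1 : ℤ) + (n : ℤ) = ((n + 1 : ℕ) : ℤ) := by push_cast; ring
    rwa [e] at this

theorem stabM_nonneg {j : ℤ} (hj : 0 ≤ j) {w : W} (hw : w ∈ M₀) :
    (T j : A[T;T⁻¹]) • w ∈ M₀ := by
  obtain ⟨n, rfl⟩ := Int.eq_ofNat_of_zero_le hj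
  exact h.stabM_nat n hw

theorem stabN_nat (n : ℕ) {w : W} (hw : w ∈ N₀) : (T (-(n : ℤ)) : A[T;T⁻¹]) • w ∈ N₀ := by
  induction n with
  | zero => simpa [T_zero_smul] using hw
  | succ n ih =>
    have := h.stabN _ ih
    rw [T_smul_T_smul] at this
    have e : (-1 : ℤ) + -(n : ℤ) = -((n + 1 : ℕ) : ℤ) := by push_cast; ring
    rwa [e] at this

theorem stabN_nonpos {j : ℤ} (hj : j ≤ 0) {w : W} (hw : w ∈ N₀) :
    (T j : A[T;T⁻¹]) • w ∈ N₀ := by
  obtain ⟨n, hn⟩ := Int.eq_ofNat_of_zero_le (neg_nonneg.mpr hj)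
  have : j = -(n : ℤ) := by omega
  rw [this]
  exact h.stabN_nat n hw

theorem shift_mono {b b' : ℤ} (hbb' : b ≤ b') : shiftSub N₀ b ≤ shiftSub N₀ b' := by
  intro w hw
  rw [mem_shiftSub] at hw ⊢
  have := h.stabN_nonpos (j := -(b' - b)) (by omega) hw
  rw [T_smul_T_smul] at this
  have e : -(b' - b) + -b = -b' := by ring
  rwa [e] at this

end TwoChart

theorem T_smul_mem_smul_top (m : Ideal A) {w : W} (hw : w ∈ m • (⊤ : Submodule A W)) (j : ℤ) :
    (T j : A[T;T⁻¹]) • w ∈ m • (⊤ : Submodule A W) := by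
  refine Submodule.smul_induction_on hw (fun c hc w' _ => ?_) (fun x y hx hy => ?_)
  · rw [smul_comm]
    exact Submodule.smul_mem_smul hc Submodule.mem_top
  · rw [smul_add]
    exact add_mem hx hy

theorem map_eq_zero_of_mem_smul_top (m : Ideal A) (ℓ : W →ₗ[A] A ⧸ m) {w : W}
    (hw : w ∈ m • (⊤ : Submodule A W)) : ℓ w = 0 := by
  refine Submodule.smul_induction_on hw (fun c hc w' _ => ?_) (fun x y hx hy => ?_)
  · rw [map_smul, Algebra.smul_def, Ideal.Quotient.algebraMap_eq,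
      Ideal.Quotient.eq_zero_iff_mem.mpr hc, zero_mul]
  · rw [map_add, hx, hy, add_zero]

/-- A nonzero functional with values in `A ⧸ m` vanishing on a proper submodule containing `mW`. -/
theorem exists_functional (m : Ideal A) [m.IsMaximal] {K : Submodule A W}
    (hK : m • (⊤ : Submodule A W) ≤ K) (hK' : K ≠ ⊤) :
    ∃ ℓ : W →ₗ[A] (A ⧸ m), (∀ w ∈ K, ℓ w = 0) ∧ ∃ w, ℓ w ≠ 0 := by
  have htor : Module.IsTorsionBySet A (W ⧸ K) (m : Set A) := by
    intro q c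
    obtain ⟨w, rfl⟩ := Submodule.Quotient.mk_surjective K q
    rw [← Submodule.Quotient.mk_smul, Submodule.Quotient.mk_eq_zero]
    exact hK (Submodule.smul_mem_smul c.2 Submodule.mem_top)
  letI := Ideal.Quotient.field m
  letI : Module (A ⧸ m) (W ⧸ K) := htor.module
  obtain ⟨w₀, hw₀⟩ : ∃ w, w ∉ K := by
    by_contra hcon
    push Not at hcon
    exact hK' (eq_top_iff.mpr fun w _ => hcon w)
  have hq : (Submodule.Quotient.mk w₀ : W ⧸ K) ≠ 0 := by
    rwa [Ne, Submodule.Quotient.mk_eq_zero]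
  obtain ⟨f, hf⟩ := Module.Projective.exists_dual_ne_zero (A ⧸ m) hq
  refine ⟨{ toFun := fun w => f (Submodule.Quotient.mk w), map_add' := ?_, map_smul' := ?_ },
    ?_, ⟨w₀, hf⟩⟩
  · intro x y
    rw [Submodule.Quotient.mk_add, map_add]
  · intro c x
    have e : (Submodule.Quotient.mk (c • x) : W ⧸ K) =
        (Ideal.Quotient.mk m c) • (Submodule.Quotient.mk x : W ⧸ K) := rfl
    rw [e, map_smul, RingHom.id_apply, smul_eq_mul, Algebra.smul_def,
      Ideal.Quotient.algebraMap_eq]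
  · intro w hw
    show f (Submodule.Quotient.mk w) = 0
    rw [(Submodule.Quotient.mk_eq_zero K).mpr hw, map_zero]

/-- **The maximal line subbundle lemma** (modulo a maximal ideal). -/
theorem lemmaG (m : Ideal A) [m.IsMaximal] {M₀ N₀ : Submodule A W} (h : TwoChart M₀ N₀)
    (hvan : ∃ b, M₀ ⊔ shiftSub N₀ b ⊔ m • ⊤ = ⊤)
    (hnv : ∃ b, M₀ ⊔ shiftSub N₀ b ⊔ m • ⊤ ≠ ⊤) :
    ∃ (a : ℤ) (ℓ : W →ₗ[A] A ⧸ m) (μ ν : W), μ ∈ M₀ ∧ ν ∈ shiftSub N₀ a ∧
      μ - ν ∈ m • (⊤ : Submodule A W) ∧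
      (∀ w ∈ M₀, ℓ w = 0) ∧ (∀ w ∈ shiftSub N₀ (a - 2), ℓ w = 0) ∧
      ℓ ((T (-1) : A[T;T⁻¹]) • μ) = 1 ∧ M₀ ⊔ shiftSub N₀ (a - 1) ⊔ m • ⊤ = ⊤ := by
  classical
  have hmono : ∀ b b' : ℤ, b ≤ b' → M₀ ⊔ shiftSub N₀ b ⊔ m • ⊤ = ⊤ →
      M₀ ⊔ shiftSub N₀ b' ⊔ m • ⊤ = ⊤ := by
    intro b b' hbb' hb
    refine eq_top_iff.mpr (le_trans (ge_of_eq hb) ?_)
    exact sup_le_sup_right (sup_le_sup_left (h.shift_mono hbb') _) _
  obtain ⟨b₁, hb₁⟩ := hvan
  obtain ⟨b₀, hb₀⟩ := hnv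
  obtain ⟨a₀, ha₀, hmin⟩ := Int.exists_least_of_bdd
    (P := fun b => M₀ ⊔ shiftSub N₀ b ⊔ m • ⊤ = ⊤)
    ⟨b₀, fun z hz => by
      by_contra hcon
      push Not at hcon
      exact hb₀ (hmono z b₀ hcon.le hz)⟩ ⟨b₁, hb₁⟩
  set a : ℤ := a₀ + 1 with ha
  have hPa : M₀ ⊔ shiftSub N₀ (a - 1) ⊔ m • ⊤ = ⊤ := by
    have : a - 1 = a₀ := by omega
    rw [this]; exact ha₀
  have hPa2 : M₀ ⊔ shiftSub N₀ (a - 2) ⊔ m • ⊤ ≠ ⊤ := by
    intro hcon
    have := hmin _ hcon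
    omega
  obtain ⟨ℓ, hℓK, w₁, hw₁⟩ := exists_functional m (K := M₀ ⊔ shiftSub N₀ (a - 2) ⊔ m • ⊤)
    le_sup_right hPa2
  have hℓM : ∀ w ∈ M₀, ℓ w = 0 := fun w hw =>
    hℓK w (Submodule.mem_sup_left (Submodule.mem_sup_left hw))
  have hℓN : ∀ w ∈ shiftSub N₀ (a - 2), ℓ w = 0 := fun w hw =>
    hℓK w (Submodule.mem_sup_left (Submodule.mem_sup_right hw))
  have hℓm : ∀ w ∈ m • (⊤ : Submodule A W), ℓ w = 0 := fun w hw =>
    hℓK w (Submodule.mem_sup_right hw)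
  have hex : ∃ μ ν, μ ∈ M₀ ∧ ν ∈ shiftSub N₀ a ∧ μ - ν ∈ m • (⊤ : Submodule A W) ∧
      ℓ ((T (-1) : A[T;T⁻¹]) • μ) ≠ 0 := by
    by_contra hcon
    push Not at hcon
    have claim1 : ∀ μ ν, μ ∈ M₀ → ν ∈ shiftSub N₀ a → μ - ν ∈ m • (⊤ : Submodule A W) →
        ∀ j : ℤ, ℓ ((T j : A[T;T⁻¹]) • μ) = 0 := by
      intro μ ν hμ hν hd j
      rcases lt_trichotomy j (-1) with hj | hj | hj
      · have e : (T j : A[T;T⁻¹]) • μ =
            (T j : A[T;T⁻¹]) • ν + (T j : A[T;T⁻¹]) • (μ - ν) := by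
          rw [← smul_add, add_sub_cancel]
        rw [e, map_add, hℓm _ (T_smul_mem_smul_top m hd j), add_zero]
        apply hℓN
        exact h.shift_mono (by omega) (T_smul_mem_shift hν)
      · subst hj
        exact hcon μ ν hμ hν hd
      · exact hℓM _ (h.stabM_nonneg (by omega) hμ)
    have claim2 : ∀ n : ℕ, ∀ v ∈ shiftSub N₀ a, ∀ j : ℤ, j ≤ (n : ℤ) - 2 →
        ℓ ((T j : A[T;T⁻¹]) • v) = 0 := by
      intro n
      induction n with
      | zero =>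
        intro v hv j hj
        apply hℓN
        exact h.shift_mono (by push_cast at hj; omega) (T_smul_mem_shift hv)
      | succ n ih =>
        intro v hv j hj
        have hv' : v ∈ M₀ ⊔ shiftSub N₀ (a - 1) ⊔ m • ⊤ := by
          rw [hPa]; exact Submodule.mem_top
        obtain ⟨x, hx, ε, hε, rfl⟩ := Submodule.mem_sup.mp hv'
        obtain ⟨μ, hμ, ν, hν, rfl⟩ := Submodule.mem_sup.mp hx
        have hν' : ν ∈ shiftSub N₀ a := h.shift_mono (by omega) hν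
        have hvν : μ + ν + ε - ν ∈ shiftSub N₀ a := sub_mem hv hν'
        have hd : μ - (μ + ν + ε - ν) ∈ m • (⊤ : Submodule A W) := by
          have : μ - (μ + ν + ε - ν) = -ε := by abel
          rw [this]; exact neg_mem hε
        have h1 := claim1 μ _ hμ hvν hd j
        rw [smul_add, smul_add, map_add, map_add, h1, zero_add,
          hℓm _ (T_smul_mem_smul_top m hε j), add_zero]
        have e : (T j : A[T;T⁻¹]) • ν =
            (T (j - 1) : A[T;T⁻¹]) • ((T 1 : A[T;T⁻¹]) • ν) := by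
          rw [T_smul_T_smul, sub_add_cancel]
        rw [e]
        apply ih _ _ _ (by push_cast at hj; omega)
        have := T_smul_mem_shift (j := 1) hν
        rwa [sub_add_cancel] at this
    have claim3 : ∀ w, ℓ w = 0 := by
      intro w
      obtain ⟨j₀, hj₀⟩ := h.exhN w
      have hv : (T (j₀ + a) : A[T;T⁻¹]) • w ∈ shiftSub N₀ a := by
        rw [mem_shiftSub, T_smul_T_smul]
        exact hj₀ _ (by omega)
      have := claim2 (2 - (j₀ + a)).toNat _ hv (-(j₀ + a))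
        (by have := Int.self_le_toNat (2 - (j₀ + a)); omega)
      rwa [T_smul_T_smul, neg_add_cancel, T_zero_smul] at this
    exact hw₁ (claim3 w₁)
  obtain ⟨μ, ν, hμ, hν, hd, hne⟩ := hex
  obtain ⟨y, hy⟩ := Ideal.Quotient.exists_inv hne
  obtain ⟨c, rfl⟩ := Ideal.Quotient.mk_surjective y
  refine ⟨a, ℓ, c • μ, c • ν, M₀.smul_mem c hμ, Submodule.smul_mem _ c hν, ?_, hℓM, hℓN, ?_, hPa⟩
  · rw [← smul_sub]
    exact Submodule.smul_mem _ c hd
  · rw [smul_comm, map_smul, Algebra.smul_def, Ideal.Quotient.algebraMap_eq, mul_comm]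
    exact hy

end Chart

section Nak

variable {A : Type*} [CommRing A]
variable {W : Type*} [AddCommGroup W] [Module A W] [Module A[T;T⁻¹] W]
  [IsScalarTower A A[T;T⁻¹] W]
variable {ι : Type*} [Fintype ι]

theorem exists_sup_shift_eq_top {M₀ N₀ : Submodule A W} (h : TwoChart M₀ N₀) (g : ι → W)
    (hspan : Submodule.span A {w : W | ∃ (j : ℤ) (i : ι), w = (T j : A[T;T⁻¹]) • g i} = ⊤) :
    ∃ b, M₀ ⊔ shiftSub N₀ b = ⊤ := by
  choose j₀ hj₀ using fun i => h.exhM (g i)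
  choose j₁ hj₁ using fun i => h.exhN (g i)
  refine ⟨∑ i, |j₀ i - j₁ i|, ?_⟩
  rw [eq_top_iff, ← hspan, Submodule.span_le]
  rintro w ⟨j, i, rfl⟩
  have hb : j₀ i - j₁ i ≤ ∑ i, |j₀ i - j₁ i| :=
    le_trans (le_abs_self _)
      (Finset.single_le_sum (f := fun i => |j₀ i - j₁ i|) (fun _ _ => abs_nonneg _)
        (Finset.mem_univ i))
  by_cases hj : j₀ i ≤ j
  · exact Submodule.mem_sup_left (hj₀ i j hj)
  · apply Submodule.mem_sup_right
    rw [mem_shiftSub, T_smul_T_smul]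
    exact hj₁ i _ (by omega)

theorem lemmaN1 {m : Ideal A} (hjac : m ≤ Ideal.jacobson ⊥) {M₀ N₀ : Submodule A W}
    (h : TwoChart M₀ N₀) (g : ι → W)
    (hspan : Submodule.span A {w : W | ∃ (j : ℤ) (i : ι), w = (T j : A[T;T⁻¹]) • g i} = ⊤)
    (a : ℤ) (hsup : M₀ ⊔ shiftSub N₀ a ⊔ m • ⊤ = ⊤) : M₀ ⊔ shiftSub N₀ a = ⊤ := by
  classical
  choose j₀ hj₀ using fun i => h.exhM (g i)
  choose j₁ hj₁ using fun i => h.exhN (g i)
  set Fset : Finset W := Finset.univ.biUnion fun i =>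
    (Finset.Ioo (j₁ i + a) (j₀ i)).image fun j => (T j : A[T;T⁻¹]) • g i with hFset
  set F : Submodule A W := Submodule.span A (Fset : Set W) with hF
  have hFG : F.FG := Submodule.fg_span (Finset.finite_toSet _)
  set S : Submodule A W := M₀ ⊔ shiftSub N₀ a with hS
  have hSF : S ⊔ F = ⊤ := by
    rw [eq_top_iff, ← hspan, Submodule.span_le]
    rintro w ⟨j, i, rfl⟩
    by_cases hj : j₀ i ≤ j
    · exact Submodule.mem_sup_left (Submodule.mem_sup_left (hj₀ i j hj))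
    · by_cases hj' : j ≤ j₁ i + a
      · apply Submodule.mem_sup_left
        apply Submodule.mem_sup_right
        rw [mem_shiftSub, T_smul_T_smul]
        exact hj₁ i _ (by omega)
      · apply Submodule.mem_sup_right
        apply Submodule.subset_span
        rw [hFset, Finset.coe_biUnion]
        simp only [Finset.coe_univ, Set.mem_univ, Set.iUnion_true, Set.mem_iUnion,
          Finset.coe_image, Set.mem_image, Finset.coe_Ioo, Set.mem_Ioo]
        exact ⟨i, j, ⟨by omega, by omega⟩, rfl⟩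
  have h1 : (⊤ : Submodule A W) ≤ S ⊔ m • F := by
    calc (⊤ : Submodule A W) = S ⊔ m • (⊤ : Submodule A W) := hsup.symm
      _ = S ⊔ m • (S ⊔ F) := by rw [hSF]
      _ = S ⊔ (m • S ⊔ m • F) := by rw [Submodule.smul_sup]
      _ ≤ S ⊔ m • F :=
        sup_le le_sup_left (sup_le (le_trans Submodule.smul_le_right le_sup_left) le_sup_right)
  have h2 : F ≤ S := Submodule.le_of_le_smul_of_le_jacobson_bot hFG hjac (le_trans le_top h1)
  rw [← hSF]
  exact (sup_eq_left.mpr h2).symm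

theorem lemmaN2 {m : Ideal A} {M₀ N₀ : Submodule A W} (a : ℤ)
    (hsup : M₀ ⊔ shiftSub N₀ a = ⊤) {μ ν : W} (hμ : μ ∈ M₀) (hν : ν ∈ shiftSub N₀ a)
    (hd : μ - ν ∈ m • (⊤ : Submodule A W)) :
    ∃ σ, σ ∈ M₀ ∧ σ ∈ shiftSub N₀ a ∧ σ - μ ∈ m • (⊤ : Submodule A W) := by
  rw [← hsup, Submodule.smul_sup] at hd
  obtain ⟨x, hx, y, hy, hxy⟩ := Submodule.mem_sup.mp hd
  refine ⟨μ - x, sub_mem hμ (Submodule.smul_le_right hx), ?_, ?_⟩
  · have : μ - x = ν + y := by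
      rw [sub_eq_iff_eq_add, add_assoc, add_comm y x, hxy]; abel
    rw [this]
    exact add_mem hν (Submodule.smul_le_right hy)
  · have : μ - x - μ = -x := by abel
    rw [this]
    exact neg_mem (Submodule.smul_mono le_rfl le_top hx)

end Nak

end Groth.Agent.Helper8.HQ
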