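import Mathlib
import Groth.Agent.Helper8.HQIdem
import Groth.Agent.Helper8.HQLaurent
import Groth.Agent.Helper8.HQChart

/-!
# Matrix data for a vector bundle on the projective line (Horrocks–Quillen project)

A `Datum` consists of idempotent matrices `E`, `F` over `A[X]` and matrices `G`, `H` over
`A[T;T⁻¹]` with `H G = E(T)`, `G H = F(T⁻¹)`.
-/

set_option autoImplicit false

namespace Groth.Agent.Helper8.HQ

open Polynomial LaurentPolynomial Matrix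

section Vec

variable {A : Type*} [CommRing A] {r r' : Type*} [Fintype r] [Fintype r']

/-- `v ↦ v(T)` coordinatewise. -/
noncomputable def pv (v : r → A[X]) : r → A[T;T⁻¹] := plus ∘ v

/-- `v ↦ v(T⁻¹)` coordinatewise. -/
noncomputable def mv (v : r → A[X]) : r → A[T;T⁻¹] := minus ∘ v

theorem pv_apply (v : r → A[X]) (i : r) : pv v i = plus (v i) := rfl
theorem mv_apply (v : r → A[X]) (i : r) : mv v i = minus (v i) := rfl

theorem pv_injective : Function.Injective (pv : (r → A[X]) → r → A[T;T⁻¹]) :=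
  fun _ _ h => funext fun i => plus_injective (congrFun h i)

theorem mv_injective : Function.Injective (mv : (r → A[X]) → r → A[T;T⁻¹]) :=
  fun _ _ h => funext fun i => minus_injective (congrFun h i)

@[simp] theorem pv_zero : pv (0 : r → A[X]) = 0 := by ext i; simp [pv]
@[simp] theorem mv_zero : mv (0 : r → A[X]) = 0 := by ext i; simp [mv]
theorem pv_add (v w : r → A[X]) : pv (v + w) = pv v + pv w := by ext i; simp [pv]
theorem mv_add (v w : r → A[X]) : mv (v + w) = mv v + mv w := by ext i; simp [mv]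

theorem pv_smul (p : A[X]) (v : r → A[X]) : pv (p • v) = plus p • pv v := by
  ext i; simp [pv]

theorem mv_smul (p : A[X]) (v : r → A[X]) : mv (p • v) = minus p • mv v := by
  ext i; simp [mv]

theorem pv_C_smul (c : A) (v : r → A[X]) : pv (Polynomial.C c • v) = c • pv v := by
  ext i
  simp [pv, LaurentPolynomial.smul_eq_C_mul]

theorem mv_C_smul (c : A) (v : r → A[X]) : mv (Polynomial.C c • v) = c • mv v := by
  ext i
  simp [mv, LaurentPolynomial.smul_eq_C_mul]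

theorem pv_X_smul (v : r → A[X]) : pv ((X : A[X]) • v) = (T 1 : A[T;T⁻¹]) • pv v := by
  rw [pv_smul, plus_X]

theorem mv_X_smul (v : r → A[X]) : mv ((X : A[X]) • v) = (T (-1) : A[T;T⁻¹]) • mv v := by
  rw [mv_smul, minus_X]

theorem map_plus_mulVec (M : Matrix r r' A[X]) (v : r' → A[X]) :
    M.map plus *ᵥ pv v = pv (M *ᵥ v) := by
  funext i
  exact (RingHom.map_mulVec plus M v i).symm

theorem map_minus_mulVec (M : Matrix r r' A[X]) (v : r' → A[X]) :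
    M.map minus *ᵥ mv v = mv (M *ᵥ v) := by
  funext i
  exact (RingHom.map_mulVec minus M v i).symm

theorem pv_dotProduct (v w : r → A[X]) : pv v ⬝ᵥ pv w = plus (v ⬝ᵥ w) :=
  (RingHom.map_dotProduct plus v w).symm

theorem mv_dotProduct (v w : r → A[X]) : mv v ⬝ᵥ mv w = minus (v ⬝ᵥ w) :=
  (RingHom.map_dotProduct minus v w).symm

theorem map_vecMulVec {R S : Type*} [CommRing R] [CommRing S] (f : R →+* S) (v : r → R)
    (w : r' → R) : (vecMulVec v w).map f = vecMulVec (f ∘ v) (f ∘ w) := by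
  ext i j
  simp [vecMulVec_apply]

end Vec

section Datum

/-- Matrix data of a vector bundle on the projective line over `A`. -/
structure Datum (A : Type*) [CommRing A] (r r' : Type*) [Fintype r] [Fintype r']
    [DecidableEq r] [DecidableEq r'] where
  E : Matrix r r A[X]
  F : Matrix r' r' A[X]
  G : Matrix r' r A[T;T⁻¹]
  H : Matrix r r' A[T;T⁻¹]
  hE : E * E = E
  hF : F * F = F
  hG1 : F.map minus * G = G
  hG2 : G * E.map plus = G
  hHG : H * G = E.map plus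
  hGH : G * H = F.map minus

variable {A : Type*} [CommRing A] {r r' : Type*} [Fintype r] [Fintype r']
  [DecidableEq r] [DecidableEq r']

namespace Datum

variable (D : Datum A r r')

/-- `E(T)`. -/
noncomputable def Ep : Matrix r r A[T;T⁻¹] := D.E.map plus

/-- `F(T⁻¹)`. -/
noncomputable def Fm : Matrix r' r' A[T;T⁻¹] := D.F.map minus

theorem Ep_mul_Ep : D.Ep * D.Ep = D.Ep := by
  unfold Ep
  rw [← Matrix.map_mul, D.hE]

theorem Fm_mul_Fm : D.Fm * D.Fm = D.Fm := by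
  unfold Fm
  rw [← Matrix.map_mul, D.hF]

theorem Fm_mul_G : D.Fm * D.G = D.G := D.hG1
theorem G_mul_Ep : D.G * D.Ep = D.G := D.hG2
theorem H_mul_G : D.H * D.G = D.Ep := D.hHG
theorem G_mul_H : D.G * D.H = D.Fm := D.hGH

theorem Ep_mulVec_pv (v : r → A[X]) : D.Ep *ᵥ pv v = pv (D.E *ᵥ v) := map_plus_mulVec _ _
theorem Fm_mulVec_mv (v : r' → A[X]) : D.Fm *ᵥ mv v = mv (D.F *ᵥ v) := map_minus_mulVec _ _

/-- The chart at `0`: vectors `w` with `E(T) w` polynomial in `T`. -/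
noncomputable def M₀ : Submodule A (r → A[T;T⁻¹]) where
  carrier := {w | ∃ p : r → A[X], D.Ep *ᵥ w = pv p}
  add_mem' := by
    rintro a b ⟨p, hp⟩ ⟨q, hq⟩
    exact ⟨p + q, by rw [Matrix.mulVec_add, hp, hq, pv_add]⟩
  zero_mem' := ⟨0, by rw [Matrix.mulVec_zero, pv_zero]⟩
  smul_mem' := by
    rintro c w ⟨p, hp⟩
    exact ⟨Polynomial.C c • p, by rw [Matrix.mulVec_smul, hp, pv_C_smul]⟩

/-- The chart at `∞`: vectors `w` with `G w` polynomial in `T⁻¹`. -/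
noncomputable def N₀ : Submodule A (r → A[T;T⁻¹]) where
  carrier := {w | ∃ q : r' → A[X], D.G *ᵥ w = mv q}
  add_mem' := by
    rintro a b ⟨p, hp⟩ ⟨q, hq⟩
    exact ⟨p + q, by rw [Matrix.mulVec_add, hp, hq, mv_add]⟩
  zero_mem' := ⟨0, by rw [Matrix.mulVec_zero, mv_zero]⟩
  smul_mem' := by
    rintro c w ⟨p, hp⟩
    exact ⟨Polynomial.C c • p, by rw [Matrix.mulVec_smul, hp, mv_C_smul]⟩

theorem mem_M₀ {w : r → A[T;T⁻¹]} : w ∈ D.M₀ ↔ ∃ p : r → A[X], D.Ep *ᵥ w = pv p := Iff.rfl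
theorem mem_N₀ {w : r → A[T;T⁻¹]} : w ∈ D.N₀ ↔ ∃ q : r' → A[X], D.G *ᵥ w = mv q := Iff.rfl

theorem twoChart : TwoChart D.M₀ D.N₀ where
  stabM := by
    rintro w ⟨p, hp⟩
    exact ⟨(X : A[X]) • p, by rw [Matrix.mulVec_smul, hp, pv_X_smul]⟩
  stabN := by
    rintro w ⟨q, hq⟩
    exact ⟨(X : A[X]) • q, by rw [Matrix.mulVec_smul, hq, mv_X_smul]⟩
  exhM := by
    intro w
    obtain ⟨n, hn⟩ := exists_plus_vec (D.Ep *ᵥ w)
    refine ⟨n, fun j hj => ?_⟩
    obtain ⟨p, hp⟩ := hn j hj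
    refine ⟨p, ?_⟩
    rw [Matrix.mulVec_smul]
    funext i
    exact hp i
  exhN := by
    intro w
    obtain ⟨n, hn⟩ := exists_minus_vec (D.G *ᵥ w)
    refine ⟨-(n : ℤ), fun j hj => ?_⟩
    obtain ⟨q, hq⟩ := hn j hj
    refine ⟨q, ?_⟩
    rw [Matrix.mulVec_smul]
    funext i
    exact hq i

theorem mem_M₀_of_Ep_mulVec_eq_zero {w : r → A[T;T⁻¹]} (hw : D.Ep *ᵥ w = 0) : w ∈ D.M₀ :=
  ⟨0, by rw [hw, pv_zero]⟩

theorem G_mulVec_eq_zero {w : r → A[T;T⁻¹]} (hw : D.Ep *ᵥ w = 0) : D.G *ᵥ w = 0 := by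
  rw [← D.G_mul_Ep, ← Matrix.mulVec_mulVec, hw, Matrix.mulVec_zero]

theorem Ep_mulVec_mem_M₀ {w : r → A[T;T⁻¹]} (hw : w ∈ D.M₀) : D.Ep *ᵥ w ∈ D.M₀ := by
  obtain ⟨p, hp⟩ := hw
  exact ⟨p, by rw [Matrix.mulVec_mulVec, D.Ep_mul_Ep, hp]⟩

theorem Ep_mulVec_mem_shift {w : r → A[T;T⁻¹]} {b : ℤ} (hw : w ∈ shiftSub D.N₀ b) :
    D.Ep *ᵥ w ∈ shiftSub D.N₀ b := by
  obtain ⟨q, hq⟩ := hw
  refine ⟨q, ?_⟩
  rw [← hq]
  show D.G *ᵥ ((T (-b) : A[T;T⁻¹]) • D.Ep *ᵥ w) = D.G *ᵥ ((T (-b) : A[T;T⁻¹]) • w)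
  rw [Matrix.mulVec_smul, Matrix.mulVec_smul, Matrix.mulVec_mulVec, D.G_mul_Ep]

/-- The nonvanishing of `H¹` for very negative twists. -/
theorem exists_ne_top (m : Ideal A) {i₀ j₀ : r} (h0 : (D.E i₀ j₀).coeff 0 ∉ m) :
    ∃ b, D.M₀ ⊔ shiftSub D.N₀ b ⊔ m • ⊤ ≠ ⊤ := by
  obtain ⟨n, hn⟩ := exists_minus_vec (fun ij : r × r' => D.H ij.1 ij.2)
  obtain ⟨q, hq⟩ := hn (-(n : ℤ)) le_rfl
  have hH : ∀ i j, D.H i j = T (n : ℤ) * minus (q (i, j)) := by
    intro i j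
    rw [← hq (i, j), ← mul_assoc, T_mul_T_neg, one_mul]
  -- the functional
  let c : (r → A[T;T⁻¹]) →ₗ[A] A ⧸ m :=
    (Algebra.linearMap A (A ⧸ m)) ∘ₗ (lcoeff (-1)) ∘ₗ
      (LinearMap.proj i₀ : (r → A[T;T⁻¹]) →ₗ[A] A[T;T⁻¹]) ∘ₗ
      ((Matrix.mulVecLin D.Ep).restrictScalars A)
  have hc : ∀ w, c w = Ideal.Quotient.mk m (((D.Ep *ᵥ w) i₀).coeff (-1)) := fun w => rfl
  refine ⟨-(n : ℤ) - 2, fun htop => ?_⟩
  have hker : D.M₀ ⊔ shiftSub D.N₀ (-(n : ℤ) - 2) ⊔ m • ⊤ ≤ LinearMap.ker c := by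
    refine sup_le (sup_le ?_ ?_) ?_
    · rintro w ⟨p, hp⟩
      rw [LinearMap.mem_ker, hc, hp, pv_apply, coeff_plus_neg _ (by omega), map_zero]
    · rintro w ⟨q', hq'⟩
      change D.G *ᵥ ((T (-(-(n : ℤ) - 2)) : A[T;T⁻¹]) • w) = mv q' at hq'
      rw [LinearMap.mem_ker, hc]
      have e1 : D.G *ᵥ w = (T (-(n : ℤ) - 2) : A[T;T⁻¹]) • mv q' := by
        rw [← hq', Matrix.mulVec_smul, ← mul_smul, T_mul_T]
        have : -(n : ℤ) - 2 + -(-(n : ℤ) - 2) = 0 := by ring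
        rw [this, T_zero, one_smul]
      have e2 : (D.Ep *ᵥ w) i₀ = T (-2 : ℤ) *
          minus (((Matrix.of fun i j => q (i, j)) *ᵥ q') i₀) := by
        rw [← D.H_mul_G, ← Matrix.mulVec_mulVec, e1, Matrix.mulVec_smul, Pi.smul_apply,
          smul_eq_mul]
        have : (D.H *ᵥ mv q') i₀ = T (n : ℤ) *
            minus (((Matrix.of fun i j => q (i, j)) *ᵥ q') i₀) := by
          simp only [Matrix.mulVec, dotProduct, mv_apply, map_sum, map_mul, Matrix.of_apply,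
            Finset.mul_sum]
          refine Finset.sum_congr rfl fun j _ => ?_
          rw [hH, mul_assoc]
        rw [this, ← mul_assoc, T_mul_T]
        congr 2
        ring
      rw [e2, coeff_T_mul, coeff_minus_pos _ (by norm_num), map_zero]
    · intro w hw
      exact map_eq_zero_of_mem_smul_top m c hw
  have hw₀ : ((T (-1) : A[T;T⁻¹]) • (Pi.single j₀ 1 : r → A[T;T⁻¹])) ∈ LinearMap.ker c := by
    apply hker
    rw [htop]
    exact Submodule.mem_top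
  rw [LinearMap.mem_ker, hc, Matrix.mulVec_smul, Matrix.mulVec_single_one, Pi.smul_apply,
    smul_eq_mul, coeff_T_mul] at hw₀
  have e3 : (D.Ep.col j₀ i₀).coeff (-1 - -1) = (D.E i₀ j₀).coeff 0 := by
    have : (-1 : ℤ) - -1 = ((0 : ℕ) : ℤ) := by norm_num
    rw [this]
    exact coeff_plus_nat _ 0
  rw [e3, Ideal.Quotient.eq_zero_iff_mem] at hw₀
  exact h0 hw₀

theorem hspan : Submodule.span A {w : r → A[T;T⁻¹] | ∃ (j : ℤ) (i : r),
    w = (T j : A[T;T⁻¹]) • (Pi.single i 1 : r → A[T;T⁻¹])} = ⊤ :=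
  span_T_smul_single

end Datum

end Datum

end Groth.Agent.Helper8.HQ
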