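import Mathlib
import Groth.Agent.Helper8.HQDatum

/-!
# Splitting off a line bundle from a datum (Horrocks–Quillen project)
-/

set_option autoImplicit false

namespace Groth.Agent.Helper8.HQ

open Polynomial LaurentPolynomial Matrix

section CutAux

variable {R : Type*} [CommRing R] {r r' : Type*} [Fintype r] [Fintype r']
  [DecidableEq r] [DecidableEq r']

theorem cut_aux (e p e' : Matrix r r R) (f q f' : Matrix r' r' R) (G : Matrix r' r R)
    (H : Matrix r r' R) (he'def : e' = e - p) (hf'def : f' = f - q)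
    (he : e * e = e) (hf : f * f = f) (hep : e * p = p) (hpe : p * e = p) (hpp : p * p = p)
    (hfq : f * q = q) (hqf : q * f = q) (hqq : q * q = q)
    (hG1 : f * G = G) (hG2 : G * e = G) (hHG : H * G = e) (hGH : G * H = f)
    (K1 : f' * G * p = 0) (K2 : e' * H * q = 0) :
    e' * e' = e' ∧ f' * f' = f' ∧
    e' * H * f' * (f' * G * e') = e' ∧ f' * G * e' * (e' * H * f') = f' := by
  have he' : e' * e' = e' := by
    rw [he'def]
    simp only [Matrix.sub_mul, Matrix.mul_sub, he, hep, hpe, hpp]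
    abel
  have hf' : f' * f' = f' := by
    rw [hf'def]
    simp only [Matrix.sub_mul, Matrix.mul_sub, hf, hfq, hqf, hqq]
    abel
  have he'e : e' * e = e' := by rw [he'def, Matrix.sub_mul, he, hpe]
  have hf'f : f' * f = f' := by rw [hf'def, Matrix.sub_mul, hf, hqf]
  refine ⟨he', hf', ?_, ?_⟩
  · have hHfG : H * f' * G = e - H * q * G := by
      rw [hf'def, Matrix.mul_sub, Matrix.sub_mul, Matrix.mul_assoc H f G, hG1, hHG]
    calc e' * H * f' * (f' * G * e')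
        = e' * (H * (f' * f') * G) * e' := by simp only [Matrix.mul_assoc]
      _ = e' * (e - H * q * G) * e' := by rw [hf', hHfG]
      _ = e' * e * e' - e' * H * q * G * e' := by
          rw [Matrix.mul_sub, Matrix.sub_mul]
          simp only [Matrix.mul_assoc]
      _ = e' := by rw [K2, he'e, he', Matrix.zero_mul, Matrix.zero_mul, sub_zero]
  · have hGeH : G * e' * H = f - G * p * H := by
      rw [he'def, Matrix.mul_sub, Matrix.sub_mul, hG2, hGH]
    calc f' * G * e' * (e' * H * f')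
        = f' * (G * (e' * e') * H) * f' := by simp only [Matrix.mul_assoc]
      _ = f' * (f - G * p * H) * f' := by rw [he', hGeH]
      _ = f' * f * f' - f' * G * p * H * f' := by
          rw [Matrix.mul_sub, Matrix.sub_mul]
          simp only [Matrix.mul_assoc]
      _ = f' := by rw [K1, hf'f, hf', Matrix.zero_mul, Matrix.zero_mul, sub_zero]

end CutAux

section Cut

variable {A : Type*} [CommRing A] {r r' : Type*} [Fintype r] [Fintype r']
  [DecidableEq r] [DecidableEq r']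

/-- The data needed to split off a line bundle. -/
structure CutData (D : Datum A r r') where
  a : ℤ
  s : r → A[X]
  ρ : r → A[X]
  t : r' → A[X]
  ρ' : r' → A[X]
  hs : D.E *ᵥ s = s
  hρ : ρ ᵥ* D.E = ρ
  hρs : ρ ⬝ᵥ s = 1
  ht : D.F *ᵥ t = t
  hρ' : ρ' ᵥ* D.F = ρ'
  hρt : ρ' ⬝ᵥ t = 1
  link : D.G *ᵥ pv s = (T a : A[T;T⁻¹]) • mv t

theorem pv_vecMul (M : Matrix r r A[X]) (v : r → A[X]) :
    pv v ᵥ* M.map plus = pv (v ᵥ* M) := by
  funext i
  exact (RingHom.map_vecMul plus M v i).symm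

theorem mv_vecMul (M : Matrix r r A[X]) (v : r → A[X]) :
    mv v ᵥ* M.map minus = mv (v ᵥ* M) := by
  funext i
  exact (RingHom.map_vecMul minus M v i).symm

namespace CutData

variable {D : Datum A r r'} (c : CutData D)

theorem H_mulVec_mv_t : D.H *ᵥ mv c.t = (T (-c.a) : A[T;T⁻¹]) • pv c.s := by
  have h1 : mv c.t = (T (-c.a) : A[T;T⁻¹]) • D.G *ᵥ pv c.s := by
    rw [c.link, ← mul_smul, T_neg_mul_T, one_smul]
  rw [h1, Matrix.mulVec_smul, Matrix.mulVec_mulVec, D.H_mul_G, D.Ep_mulVec_pv, c.hs]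

/-- the rank one idempotent `s ρ` over the Laurent ring -/
noncomputable def p : Matrix r r A[T;T⁻¹] := vecMulVec (pv c.s) (pv c.ρ)

/-- the rank one idempotent `t ρ'` over the Laurent ring -/
noncomputable def q : Matrix r' r' A[T;T⁻¹] := vecMulVec (mv c.t) (mv c.ρ')

theorem map_plus_E' : (D.E - vecMulVec c.s c.ρ).map plus = D.Ep - c.p := by
  rw [Matrix.map_sub _ (fun a b => map_sub plus a b), map_vecMulVec]
  rfl

theorem map_minus_F' : (D.F - vecMulVec c.t c.ρ').map minus = D.Fm - c.q := by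
  rw [Matrix.map_sub _ (fun a b => map_sub minus a b), map_vecMulVec]
  rfl

theorem Ep_mul_p : D.Ep * c.p = c.p := by
  unfold p
  rw [Matrix.mul_vecMulVec, D.Ep_mulVec_pv, c.hs]

theorem p_mul_Ep : c.p * D.Ep = c.p := by
  unfold p Datum.Ep
  rw [Matrix.vecMulVec_mul, pv_vecMul, c.hρ]

theorem p_mul_p : c.p * c.p = c.p := by
  unfold p
  rw [Matrix.vecMulVec_mul_vecMulVec, pv_dotProduct, c.hρs, map_one, one_smul]

theorem Fm_mul_q : D.Fm * c.q = c.q := by
  unfold q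
  rw [Matrix.mul_vecMulVec, D.Fm_mulVec_mv, c.ht]

theorem q_mul_Fm : c.q * D.Fm = c.q := by
  unfold q Datum.Fm
  rw [Matrix.vecMulVec_mul, mv_vecMul, c.hρ']

theorem q_mul_q : c.q * c.q = c.q := by
  unfold q
  rw [Matrix.vecMulVec_mul_vecMulVec, mv_dotProduct, c.hρt, map_one, one_smul]

theorem K1 : (D.Fm - c.q) * D.G * c.p = 0 := by
  unfold p
  rw [Matrix.mul_assoc, Matrix.mul_vecMulVec, Matrix.mul_vecMulVec, c.link, Matrix.mulVec_smul,
    Matrix.sub_mulVec, D.Fm_mulVec_mv, c.ht]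
  unfold q
  rw [Matrix.vecMulVec_mulVec, mv_dotProduct, c.hρt, map_one, MulOpposite.op_one, one_smul,
    sub_self, smul_zero]
  ext i j
  simp [vecMulVec_apply]

theorem K2 : (D.Ep - c.p) * D.H * c.q = 0 := by
  unfold q
  rw [Matrix.mul_assoc, Matrix.mul_vecMulVec, Matrix.mul_vecMulVec, c.H_mulVec_mv_t,
    Matrix.mulVec_smul, Matrix.sub_mulVec, D.Ep_mulVec_pv, c.hs]
  unfold p
  rw [Matrix.vecMulVec_mulVec, pv_dotProduct, c.hρs, map_one, MulOpposite.op_one, one_smul,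
    sub_self, smul_zero]
  ext i j
  simp [vecMulVec_apply]

theorem aux :
    (D.Ep - c.p) * (D.Ep - c.p) = D.Ep - c.p ∧ (D.Fm - c.q) * (D.Fm - c.q) = D.Fm - c.q ∧
    (D.Ep - c.p) * D.H * (D.Fm - c.q) * ((D.Fm - c.q) * D.G * (D.Ep - c.p)) = D.Ep - c.p ∧
    (D.Fm - c.q) * D.G * (D.Ep - c.p) * ((D.Ep - c.p) * D.H * (D.Fm - c.q)) = D.Fm - c.q :=
  cut_aux D.Ep c.p (D.Ep - c.p) D.Fm c.q (D.Fm - c.q) D.G D.H rfl rfl D.Ep_mul_Ep D.Fm_mul_Fm
    c.Ep_mul_p c.p_mul_Ep c.p_mul_p c.Fm_mul_q c.q_mul_Fm c.q_mul_q D.Fm_mul_G D.G_mul_Ep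
    D.H_mul_G D.G_mul_H c.K1 c.K2

theorem E'_mul_E' :
    (D.E - vecMulVec c.s c.ρ) * (D.E - vecMulVec c.s c.ρ) = D.E - vecMulVec c.s c.ρ := by
  have h1 : D.E * vecMulVec c.s c.ρ = vecMulVec c.s c.ρ := by
    rw [Matrix.mul_vecMulVec, c.hs]
  have h2 : vecMulVec c.s c.ρ * D.E = vecMulVec c.s c.ρ := by
    rw [Matrix.vecMulVec_mul, c.hρ]
  have h3 : vecMulVec c.s c.ρ * vecMulVec c.s c.ρ = vecMulVec c.s c.ρ := by
    rw [Matrix.vecMulVec_mul_vecMulVec, c.hρs, one_smul]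
  simp only [Matrix.sub_mul, Matrix.mul_sub, D.hE, h1, h2, h3]
  abel

theorem F'_mul_F' :
    (D.F - vecMulVec c.t c.ρ') * (D.F - vecMulVec c.t c.ρ') = D.F - vecMulVec c.t c.ρ' := by
  have h1 : D.F * vecMulVec c.t c.ρ' = vecMulVec c.t c.ρ' := by
    rw [Matrix.mul_vecMulVec, c.ht]
  have h2 : vecMulVec c.t c.ρ' * D.F = vecMulVec c.t c.ρ' := by
    rw [Matrix.vecMulVec_mul, c.hρ']
  have h3 : vecMulVec c.t c.ρ' * vecMulVec c.t c.ρ' = vecMulVec c.t c.ρ' := by
    rw [Matrix.vecMulVec_mul_vecMulVec, c.hρt, one_smul]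
  simp only [Matrix.sub_mul, Matrix.mul_sub, D.hF, h1, h2, h3]
  abel

/-- The datum obtained by splitting off the line bundle. -/
noncomputable def cut : Datum A r r' where
  E := D.E - vecMulVec c.s c.ρ
  F := D.F - vecMulVec c.t c.ρ'
  G := (D.Fm - c.q) * D.G * (D.Ep - c.p)
  H := (D.Ep - c.p) * D.H * (D.Fm - c.q)
  hE := c.E'_mul_E'
  hF := c.F'_mul_F'
  hG1 := by
    rw [c.map_minus_F', ← Matrix.mul_assoc, ← Matrix.mul_assoc, c.aux.2.1]
  hG2 := by
    rw [c.map_plus_E', Matrix.mul_assoc, c.aux.1]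
  hHG := by
    rw [c.map_plus_E']
    exact c.aux.2.2.1
  hGH := by
    rw [c.map_minus_F']
    exact c.aux.2.2.2

@[simp] theorem cut_E : c.cut.E = D.E - vecMulVec c.s c.ρ := rfl

theorem E_eq : D.E = vecMulVec c.s c.ρ + c.cut.E := by
  rw [cut_E, add_sub_cancel]

theorem ρ_vecMul_cut_E : c.ρ ᵥ* c.cut.E = 0 := by
  rw [cut_E, Matrix.vecMul_sub, c.hρ, Matrix.vecMul_vecMulVec, c.hρs, one_smul, sub_self]

theorem cut_E_mulVec_s : c.cut.E *ᵥ c.s = 0 := by
  rw [cut_E, Matrix.sub_mulVec, c.hs, Matrix.vecMulVec_mulVec, c.hρs, MulOpposite.op_one,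
    one_smul, sub_self]

theorem E_mul_cut_E : D.E * c.cut.E = c.cut.E := by
  rw [cut_E, Matrix.mul_sub, D.hE, Matrix.mul_vecMulVec, c.hs]

end CutData

end Cut

end Groth.Agent.Helper8.HQ
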