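import Mathlib

/-!
# The residue pairing lemma (Horrocks–Quillen project)

Given a functional `ℓ : W → A ⧸ m`, an endomorphism `τ` with one-sided inverse `τ'`, and a
`τ`-stable submodule `M` killed by `ℓ`, the series `Θ(w) = ∑ ℓ(τ'^{n+1} w) Xⁿ` is
"`A[X]`-linear" on `M`.  This produces rows `λ` with `λ · u ≡ 1` modulo `m`.
-/

set_option autoImplicit false

namespace Groth.Agent.Helper8.HQ

open Polynomial

section Theta

variable {A : Type*} [CommRing A] (m : Ideal A)
variable {W : Type*} [AddCommGroup W] [Module A W]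

/-- `Θ(w) = ∑ ℓ(τ'^{n+1} w) Xⁿ`. -/
noncomputable def thetaHat (ℓ : W →ₗ[A] A ⧸ m) (τ' : Module.End A W) :
    W →ₗ[A] PowerSeries (A ⧸ m) where
  toFun w := PowerSeries.mk fun n => ℓ ((τ' ^ (n + 1)) w)
  map_add' x y := by
    ext n
    simp only [PowerSeries.coeff_mk, map_add]
  map_smul' c x := by
    ext n
    simp only [PowerSeries.coeff_mk, map_smul, RingHom.id_apply, PowerSeries.coeff_smul]

variable {m}
variable (ℓ : W →ₗ[A] A ⧸ m) (τ τ' : Module.End A W)

theorem coeff_thetaHat (n : ℕ) (w : W) :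
    PowerSeries.coeff n (thetaHat m ℓ τ' w) = ℓ ((τ' ^ (n + 1)) w) := by
  simp only [thetaHat, LinearMap.coe_mk, AddHom.coe_mk, PowerSeries.coeff_mk]

theorem smul_powerSeries (c : A) (g : PowerSeries (A ⧸ m)) :
    c • g = PowerSeries.C (Ideal.Quotient.mk m c) * g := by
  ext k
  rw [PowerSeries.coeff_smul, PowerSeries.coeff_C_mul, Algebra.smul_def,
    Ideal.Quotient.algebraMap_eq]

theorem monomial_powerSeries (n : ℕ) (a : A ⧸ m) :
    PowerSeries.monomial n a = PowerSeries.C a * PowerSeries.X ^ n := by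
  ext k
  rw [PowerSeries.coeff_monomial, PowerSeries.coeff_C_mul_X_pow]

theorem thetaHat_tau (hττ : ∀ w, τ' (τ w) = w) (w : W) :
    thetaHat m ℓ τ' (τ w) = PowerSeries.C (ℓ w) + PowerSeries.X * thetaHat m ℓ τ' w := by
  ext n
  rw [coeff_thetaHat, map_add]
  cases n with
  | zero =>
    rw [PowerSeries.coeff_zero_C, PowerSeries.coeff_zero_X_mul, add_zero, zero_add, pow_one, hττ]
  | succ n =>
    rw [PowerSeries.coeff_C, if_neg (Nat.succ_ne_zero n), zero_add, PowerSeries.coeff_succ_X_mul,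
      coeff_thetaHat, pow_succ (τ') (n + 1), Module.End.mul_apply, hττ]

variable {M : Submodule A W} (hM : ∀ w ∈ M, τ w ∈ M) (hℓ : ∀ w ∈ M, ℓ w = 0)

include hM in
theorem pow_mem_of_stable (n : ℕ) {w : W} (hw : w ∈ M) : (τ ^ n) w ∈ M := by
  induction n with
  | zero => simpa using hw
  | succ n ih =>
    rw [pow_succ', Module.End.mul_apply]
    exact hM _ ih

include hM hℓ in
theorem thetaHat_pow (hττ : ∀ w, τ' (τ w) = w) (n : ℕ) {w : W} (hw : w ∈ M) :
    thetaHat m ℓ τ' ((τ ^ n) w) = PowerSeries.X ^ n * thetaHat m ℓ τ' w := by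
  induction n with
  | zero => simp
  | succ n ih =>
    rw [pow_succ', Module.End.mul_apply, thetaHat_tau ℓ τ τ' hττ, ih,
      hℓ _ (pow_mem_of_stable τ hM n hw), map_zero, zero_add, pow_succ', mul_assoc]

include hM hℓ in
theorem thetaHat_aeval (hττ : ∀ w, τ' (τ w) = w) {w : W} (hw : w ∈ M) (p : A[X]) :
    thetaHat m ℓ τ' (aeval τ p w) =
      ((p.map (Ideal.Quotient.mk m) : (A ⧸ m)[X]) : PowerSeries (A ⧸ m)) * thetaHat m ℓ τ' w := by
  induction p using Polynomial.induction_on' with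
  | add p q hp hq =>
    rw [map_add (aeval τ), LinearMap.add_apply, map_add, hp, hq, Polynomial.map_add,
      Polynomial.coe_add, add_mul]
  | monomial n c =>
    rw [aeval_monomial, Module.End.mul_apply, Module.algebraMap_end_apply, map_smul,
      thetaHat_pow ℓ τ τ' hM hℓ hττ n hw, Polynomial.map_monomial, Polynomial.coe_monomial]
    rw [smul_powerSeries, monomial_powerSeries, mul_assoc]

include hM hℓ in
/-- From the residue pairing to a row `λ` with `λ · u ≡ 1` modulo `m`. -/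
theorem exists_row_of_theta {ι : Type*} [Fintype ι] (hττ : ∀ w, τ' (τ w) = w)
    (w : ι → W) (hw : ∀ i, w i ∈ M)
    (hfin : ∀ i, ∃ B : ℕ, ∀ n, B ≤ n → ℓ ((τ' ^ (n + 1)) (w i)) = 0)
    (u : ι → A[X]) (h0 : ℓ (τ' (∑ i, aeval τ (u i) (w i))) = 1)
    (hpos : ∀ n : ℕ, 0 < n → ℓ ((τ' ^ (n + 1)) (∑ i, aeval τ (u i) (w i))) = 0) :
    ∃ lam : ι → A[X], (∑ i, lam i * u i).map (Ideal.Quotient.mk m) = 1 := by
  classical
  have h1 : thetaHat m ℓ τ' (∑ i, aeval τ (u i) (w i)) = 1 := by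
    ext n
    rw [coeff_thetaHat, PowerSeries.coeff_one]
    cases n with
    | zero => rw [if_pos rfl, zero_add, pow_one]; exact h0
    | succ n => rw [if_neg (Nat.succ_ne_zero n)]; exact hpos _ (Nat.succ_pos n)
  have h2 : thetaHat m ℓ τ' (∑ i, aeval τ (u i) (w i)) =
      ∑ i, (((u i).map (Ideal.Quotient.mk m) : (A ⧸ m)[X]) : PowerSeries (A ⧸ m)) *
        thetaHat m ℓ τ' (w i) := by
    rw [map_sum]
    exact Finset.sum_congr rfl fun i _ => thetaHat_aeval ℓ τ τ' hM hℓ hττ (hw i) (u i)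
  choose B hB using hfin
  have hq : ∀ i, ((PowerSeries.trunc (B i) (thetaHat m ℓ τ' (w i)) : (A ⧸ m)[X]) :
      PowerSeries (A ⧸ m)) = thetaHat m ℓ τ' (w i) := by
    intro i
    ext n
    rw [Polynomial.coeff_coe, PowerSeries.coeff_trunc]
    split_ifs with hn
    · rfl
    · rw [coeff_thetaHat, hB i n (not_lt.mp hn)]
  choose lam hlam using fun i => Polynomial.map_surjective (Ideal.Quotient.mk m)
    Ideal.Quotient.mk_surjective (PowerSeries.trunc (B i) (thetaHat m ℓ τ' (w i)))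
  refine ⟨lam, ?_⟩
  apply Polynomial.coe_injective
  rw [Polynomial.coe_one, ← h1, h2, Polynomial.map_sum,
    ← Polynomial.coeToPowerSeries.ringHom_apply, map_sum]
  refine Finset.sum_congr rfl fun i _ => ?_
  rw [Polynomial.coeToPowerSeries.ringHom_apply, Polynomial.map_mul, Polynomial.coe_mul, hlam i,
    hq i, mul_comm]

end Theta

end Groth.Agent.Helper8.HQ
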