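import Mathlib
import Groth.Agent.Helper8.HQLaurent

/-!
# Unimodularity criterion (Horrocks–Quillen project)

Over a local ring `A`, an ideal of `A[X]` containing a monic polynomial and a polynomial congruent to
`1` modulo the maximal ideal is the unit ideal.  The monic polynomial is produced by reversal.
-/

set_option autoImplicit false

namespace Groth.Agent.Helper8.HQ

open Polynomial LaurentPolynomial

section Unimod

variable {A : Type*} [CommRing A] [IsLocalRing A]

theorem ideal_eq_top_of_monic_of_residue_one (I : Ideal A[X]) {g f : A[X]} (hg : g.Monic)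
    (hgI : g ∈ I) (hfI : f ∈ I)
    (hf : f.map (Ideal.Quotient.mk (IsLocalRing.maximalIdeal A)) = 1) : I = ⊤ := by
  have hle : Ideal.span {g} ≤ I := (Ideal.span_singleton_le_iff_mem (I := I)).mpr hgI
  have := hg.finite_quotient
  have hfin : Module.Finite A (A[X] ⧸ I) :=
    Module.Finite.of_surjective (Ideal.Quotient.factorₐ A hle).toLinearMap
      (Ideal.Quotient.factor_surjective hle)
  have hone : (1 : A[X] ⧸ I) ∈
      Ideal.map (algebraMap A (A[X] ⧸ I)) (IsLocalRing.maximalIdeal A) := by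
    have h1f : (Ideal.Quotient.mk I) (1 - f) = 1 := by
      rw [map_sub, map_one, Ideal.Quotient.eq_zero_iff_mem.mpr hfI, sub_zero]
    rw [← h1f, Polynomial.as_sum_range_C_mul_X_pow (1 - f), map_sum]
    refine Ideal.sum_mem _ fun i _ => ?_
    rw [map_mul]
    apply Ideal.mul_mem_right
    have hc : (1 - f).coeff i ∈ IsLocalRing.maximalIdeal A := by
      rw [← Ideal.Quotient.eq_zero_iff_mem, ← Polynomial.coeff_map, Polynomial.map_sub, hf,
        Polynomial.map_one, sub_self, coeff_zero]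
    exact Ideal.mem_map_of_mem _ hc
  have htop : (⊤ : Submodule A (A[X] ⧸ I)) ≤
      IsLocalRing.maximalIdeal A • (⊤ : Submodule A (A[X] ⧸ I)) := by
    intro b _
    rw [Ideal.smul_top_eq_map]
    show b ∈ Ideal.map (algebraMap A (A[X] ⧸ I)) (IsLocalRing.maximalIdeal A)
    have := Ideal.mul_mem_left _ b hone
    rwa [mul_one] at this
  have hbot := Submodule.eq_bot_of_le_smul_of_le_jacobson_bot (IsLocalRing.maximalIdeal A) ⊤
    Module.Finite.fg_top htop (IsLocalRing.maximalIdeal_le_jacobson ⊥)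
  have h10 : (1 : A[X] ⧸ I) = 0 := by
    have h1 : (1 : A[X] ⧸ I) ∈ (⊤ : Submodule A (A[X] ⧸ I)) := Submodule.mem_top
    rw [hbot] at h1
    exact (Submodule.mem_bot A).mp h1
  rw [Ideal.eq_top_iff_one, ← Ideal.Quotient.eq_zero_iff_mem, map_one]
  exact h10

theorem exists_monic_of_reverse (I : Ideal A[X]) {g₀ u : A[X]} (hg₀ : g₀ ∈ I)
    (hu : u.map (Ideal.Quotient.mk (IsLocalRing.maximalIdeal A)) = 1) {e : ℤ}
    (he : (u.natDegree : ℤ) ≤ e) (hrel : plus g₀ = T e * minus u) : ∃ g ∈ I, g.Monic := by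
  obtain ⟨n₀, hn₀⟩ := Int.eq_ofNat_of_zero_le (sub_nonneg.mpr he)
  have hg₀' : g₀ = X ^ n₀ * u.reverse := by
    apply plus_injective
    rw [hrel, map_mul, plus_X_pow, ← T_natDegree_mul_minus, ← mul_assoc, T_mul_T]
    congr 2
    omega
  have hε : IsUnit (u.coeff 0) := by
    have h1 : Ideal.Quotient.mk (IsLocalRing.maximalIdeal A) (u.coeff 0) = 1 := by
      rw [← Polynomial.coeff_map, hu, Polynomial.coeff_one_zero]
    by_contra hnu
    have hmem : u.coeff 0 ∈ IsLocalRing.maximalIdeal A := (IsLocalRing.mem_maximalIdeal _).mpr hnu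
    rw [Ideal.Quotient.eq_zero_iff_mem.mpr hmem] at h1
    exact zero_ne_one h1
  obtain ⟨ε, hε'⟩ := hε
  refine ⟨Polynomial.C (↑ε⁻¹ : A) * g₀, I.mul_mem_left _ hg₀, ?_⟩
  apply Polynomial.monic_of_natDegree_le_of_coeff_eq_one (n₀ + u.natDegree)
  · rw [hg₀']
    calc natDegree (Polynomial.C (↑ε⁻¹ : A) * (X ^ n₀ * u.reverse))
        ≤ natDegree (X ^ n₀ * u.reverse) := natDegree_C_mul_le _ _
      _ ≤ natDegree (X ^ n₀ : A[X]) + natDegree u.reverse := natDegree_mul_le
      _ ≤ n₀ + u.natDegree := add_le_add (natDegree_X_pow_le n₀) (reverse_natDegree_le u)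
  · rw [hg₀', coeff_C_mul, add_comm n₀ u.natDegree, coeff_X_pow_mul, coeff_reverse,
      revAt_le le_rfl, Nat.sub_self, ← hε', Units.inv_mul]

theorem ideal_eq_top_of_reverse (I : Ideal A[X]) {f g₀ u : A[X]} (hfI : f ∈ I)
    (hf : f.map (Ideal.Quotient.mk (IsLocalRing.maximalIdeal A)) = 1) (hg₀ : g₀ ∈ I)
    (hu : u.map (Ideal.Quotient.mk (IsLocalRing.maximalIdeal A)) = 1) {e : ℤ}
    (he : (u.natDegree : ℤ) ≤ e) (hrel : plus g₀ = T e * minus u) : I = ⊤ := by
  obtain ⟨g, hgI, hg⟩ := exists_monic_of_reverse I hg₀ hu he hrel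
  exact ideal_eq_top_of_monic_of_residue_one I hg hgI hfI hf

end Unimod

end Groth.Agent.Helper8.HQ
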