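import Mathlib
import Groth.Agent.Helper8.HQCut
import Groth.Agent.Helper8.HQTheta
import Groth.Agent.Helper8.HQUnimod

/-!
# Local Horrocks (Horrocks–Quillen project)

For a datum over a local ring, the idempotent `E` has free image.
-/

set_option autoImplicit false

namespace Groth.Agent.Helper8.HQ

open Polynomial LaurentPolynomial Matrix

section Act

variable {A : Type*} [CommRing A]
variable {W : Type*} [AddCommGroup W] [Module A W] [Module A[T;T⁻¹] W]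
  [IsScalarTower A A[T;T⁻¹] W]

theorem Tmul_pow_apply (j : ℤ) (n : ℕ) (w : W) :
    ((Tmul j : Module.End A W) ^ n) w = (T ((n : ℤ) * j) : A[T;T⁻¹]) • w := by
  induction n with
  | zero => simp [T_zero_smul]
  | succ n ih =>
    rw [pow_succ', Module.End.mul_apply, ih, Tmul_apply, T_smul_T_smul]
    congr 2
    push_cast
    ring

theorem C_smul_eq (c : A) (w : W) : (LaurentPolynomial.C c : A[T;T⁻¹]) • w = c • w := by
  rw [LaurentPolynomial.C_eq_algebraMap, algebraMap_smul]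

theorem aeval_Tmul_one (p : A[X]) (w : W) :
    aeval (Tmul 1 : Module.End A W) p w = (plus p : A[T;T⁻¹]) • w := by
  induction p using Polynomial.induction_on' with
  | add p q hp hq => rw [map_add, LinearMap.add_apply, hp, hq, map_add, add_smul]
  | monomial n c =>
    rw [aeval_monomial, Module.End.mul_apply, Module.algebraMap_end_apply, Tmul_pow_apply,
      ← C_mul_X_pow_eq_monomial, map_mul, plus_C, plus_X_pow, mul_smul, mul_one, C_smul_eq]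

theorem aeval_Tmul_neg_one (p : A[X]) (w : W) :
    aeval (Tmul (-1) : Module.End A W) p w = (minus p : A[T;T⁻¹]) • w := by
  induction p using Polynomial.induction_on' with
  | add p q hp hq => rw [map_add, LinearMap.add_apply, hp, hq, map_add, add_smul]
  | monomial n c =>
    rw [aeval_monomial, Module.End.mul_apply, Module.algebraMap_end_apply, Tmul_pow_apply,
      ← C_mul_X_pow_eq_monomial, map_mul, minus_C, minus_X_pow, mul_smul, mul_neg_one, C_smul_eq]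

theorem ell_T_smul_eq_zero {M₀ N₀ : Submodule A W} (h : TwoChart M₀ N₀) (m : Ideal A)
    (ℓ : W →ₗ[A] A ⧸ m) (a : ℤ) (hℓM : ∀ w ∈ M₀, ℓ w = 0)
    (hℓN : ∀ w ∈ shiftSub N₀ (a - 2), ℓ w = 0) {μ ν : W} (hμ : μ ∈ M₀)
    (hν : ν ∈ shiftSub N₀ a) (hd : μ - ν ∈ m • (⊤ : Submodule A W)) {j : ℤ} (hj : j ≠ -1) :
    ℓ ((T j : A[T;T⁻¹]) • μ) = 0 := by
  rcases lt_or_gt_of_ne hj with hj | hj
  · have e : (T j : A[T;T⁻¹]) • μ =
        (T j : A[T;T⁻¹]) • ν + (T j : A[T;T⁻¹]) • (μ - ν) := by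
      rw [← smul_add, add_sub_cancel]
    rw [e, map_add, map_eq_zero_of_mem_smul_top m ℓ (T_smul_mem_smul_top m hd j), add_zero]
    apply hℓN
    exact h.shift_mono (by omega) (T_smul_mem_shift hν)
  · exact hℓM _ (h.stabM_nonneg (by omega) hμ)

end Act

section Step

variable {A : Type*} [CommRing A] [IsLocalRing A] {r r' : Type*} [Fintype r] [Fintype r']
  [DecidableEq r] [DecidableEq r']

theorem sum_smul_single (v : r → A[T;T⁻¹]) :
    ∑ i, v i • (Pi.single i 1 : r → A[T;T⁻¹]) = v := by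
  funext k
  simp [Finset.sum_apply, Pi.single_apply]

/-- The key step: splitting off a line bundle when `E(0)` is nonzero modulo the maximal ideal. -/
theorem Datum.exists_cutData (D : Datum A r r') {i₀ j₀ : r}
    (h0 : (D.E i₀ j₀).coeff 0 ∉ IsLocalRing.maximalIdeal A) : Nonempty (CutData D) := by
  classical
  set m := IsLocalRing.maximalIdeal A with hm
  have hTC := D.twoChart
  have hjac : m ≤ Ideal.jacobson ⊥ := IsLocalRing.maximalIdeal_le_jacobson ⊥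
  obtain ⟨b₁, hb₁⟩ := exists_sup_shift_eq_top hTC
    (fun i : r => (Pi.single i 1 : r → A[T;T⁻¹])) Datum.hspan
  have hvan : ∃ b, D.M₀ ⊔ shiftSub D.N₀ b ⊔ m • ⊤ = ⊤ := ⟨b₁, by rw [hb₁, top_sup_eq]⟩
  have hnv := D.exists_ne_top m h0
  obtain ⟨a, ℓ, μ, ν, hμ, hν, hd, hℓM, hℓN, hℓ1, hPa⟩ := lemmaG m hTC hvan hnv
  have hsup1 : D.M₀ ⊔ shiftSub D.N₀ a ⊔ m • ⊤ = ⊤ := by
    refine eq_top_iff.mpr (le_trans (ge_of_eq hPa) ?_)
    exact sup_le_sup_right (sup_le_sup_left (hTC.shift_mono (by omega)) _) _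
  have hsup := lemmaN1 hjac hTC _ Datum.hspan a hsup1
  obtain ⟨σ, hσM, hσN, hσd⟩ := lemmaN2 a hsup hμ hν hd
  have hℓμ : ∀ j : ℤ, j ≠ -1 → ℓ ((T j : A[T;T⁻¹]) • μ) = 0 := fun j hj =>
    ell_T_smul_eq_zero hTC m ℓ a hℓM hℓN hμ hν hd hj
  -- normalise `σ`
  obtain ⟨σ₁, hσ₁⟩ : ∃ σ₁, σ₁ = D.Ep *ᵥ σ := ⟨_, rfl⟩
  have hσ₁M : σ₁ ∈ D.M₀ := hσ₁ ▸ D.Ep_mulVec_mem_M₀ hσM
  have hσ₁N : σ₁ ∈ shiftSub D.N₀ a := hσ₁ ▸ D.Ep_mulVec_mem_shift hσN
  have hEσ₁ : D.Ep *ᵥ σ₁ = σ₁ := by rw [hσ₁, Matrix.mulVec_mulVec, D.Ep_mul_Ep]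
  have hℓσ : ∀ j : ℤ, ℓ ((T j : A[T;T⁻¹]) • σ₁) = ℓ ((T j : A[T;T⁻¹]) • μ) := by
    intro j
    have e : (T j : A[T;T⁻¹]) • σ₁ = (T j : A[T;T⁻¹]) • μ +
        ((T j : A[T;T⁻¹]) • (σ - μ) + (T j : A[T;T⁻¹]) • (σ₁ - σ)) := by
      rw [← smul_add, ← smul_add]
      congr 1
      abel
    rw [e, map_add, map_add,
      map_eq_zero_of_mem_smul_top m ℓ (T_smul_mem_smul_top m hσd j), zero_add]
    have hker : D.Ep *ᵥ ((T j : A[T;T⁻¹]) • (σ₁ - σ)) = 0 := by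
      rw [Matrix.mulVec_smul, Matrix.mulVec_sub, hEσ₁, ← hσ₁, sub_self, smul_zero]
    rw [hℓM _ (D.mem_M₀_of_Ep_mulVec_eq_zero hker), add_zero]
  -- the sections `s`, `t`
  obtain ⟨s, hs⟩ := hσ₁M
  rw [hEσ₁] at hs
  have hEs : D.E *ᵥ s = s := by
    apply pv_injective
    rw [← D.Ep_mulVec_pv, ← hs, hEσ₁]
  obtain ⟨t, ht⟩ := hσ₁N
  change D.G *ᵥ ((T (-a) : A[T;T⁻¹]) • σ₁) = mv t at ht
  have hlink : D.G *ᵥ pv s = (T a : A[T;T⁻¹]) • mv t := by
    rw [← ht, Matrix.mulVec_smul, ← mul_smul, T_mul_T_neg, one_smul, hs]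
  have hFt : D.F *ᵥ t = t := by
    apply mv_injective
    rw [← D.Fm_mulVec_mv, ← ht, Matrix.mulVec_mulVec, D.Fm_mul_G]
  have hHt : D.H *ᵥ mv t = (T (-a) : A[T;T⁻¹]) • σ₁ := by
    rw [← ht, Matrix.mulVec_smul, Matrix.mulVec_smul, Matrix.mulVec_mulVec, D.H_mul_G, hEσ₁]
  -- the row on the `M`-side
  have hττ1 : ∀ w : r → A[T;T⁻¹], (Tmul (-1) : Module.End A (r → A[T;T⁻¹]))
      ((Tmul 1 : Module.End A (r → A[T;T⁻¹])) w) = w := by
    intro w
    rw [Tmul_apply, Tmul_apply, T_smul_T_smul]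
    norm_num [T_zero_smul]
  have hwM : ∀ i : r, D.Ep *ᵥ (Pi.single i 1 : r → A[T;T⁻¹]) ∈ D.M₀ := by
    intro i
    refine ⟨fun k => D.E k i, ?_⟩
    rw [Matrix.mulVec_mulVec, D.Ep_mul_Ep, Matrix.mulVec_single_one]
    rfl
  have hfinM : ∀ i : r, ∃ B : ℕ, ∀ n, B ≤ n →
      ℓ (((Tmul (-1) : Module.End A (r → A[T;T⁻¹])) ^ (n + 1))
        (D.Ep *ᵥ (Pi.single i 1 : r → A[T;T⁻¹]))) = 0 := by
    intro i
    obtain ⟨j₁, hj₁⟩ := hTC.exhN (D.Ep *ᵥ (Pi.single i 1 : r → A[T;T⁻¹]))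
    refine ⟨(1 - a - j₁).toNat, fun n hn => ?_⟩
    rw [Tmul_pow_apply]
    apply hℓN
    rw [mem_shiftSub, T_smul_T_smul]
    apply hj₁
    have := Int.self_le_toNat (1 - a - j₁)
    push_cast
    omega
  have hsumM : ∑ i, aeval (Tmul 1 : Module.End A (r → A[T;T⁻¹])) (s i)
      (D.Ep *ᵥ (Pi.single i 1 : r → A[T;T⁻¹])) = σ₁ := by
    simp_rw [aeval_Tmul_one, ← Matrix.mulVec_smul]
    have h1 := map_sum (Matrix.mulVecLin D.Ep)
      (fun i => (plus (s i) : A[T;T⁻¹]) • (Pi.single i 1 : r → A[T;T⁻¹])) Finset.univ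
    simp only [Matrix.mulVecLin_apply] at h1
    have : ∑ i, (plus (s i) : A[T;T⁻¹]) • (Pi.single i 1 : r → A[T;T⁻¹]) = pv s :=
      sum_smul_single (pv s)
    rw [← h1, this, ← hs, hEσ₁]
  obtain ⟨lam, hlam⟩ := exists_row_of_theta (m := m) ℓ (Tmul 1) (Tmul (-1)) (M := D.M₀)
    hTC.stabM hℓM hττ1 (fun i : r => D.Ep *ᵥ (Pi.single i 1 : r → A[T;T⁻¹])) hwM hfinM s
    (by rw [hsumM, Tmul_apply, hℓσ, hℓ1])
    (by
      intro n hn
      rw [hsumM, Tmul_pow_apply, hℓσ]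
      apply hℓμ
      push_cast
      omega)
  -- the row on the `N`-side
  have hττ2 : ∀ w : r → A[T;T⁻¹], (Tmul 1 : Module.End A (r → A[T;T⁻¹]))
      ((Tmul (-1) : Module.End A (r → A[T;T⁻¹])) w) = w := by
    intro w
    rw [Tmul_apply, Tmul_apply, T_smul_T_smul]
    norm_num [T_zero_smul]
  have hℓ'' : ∀ w ∈ D.N₀, (ℓ ∘ₗ (Tmul (a - 2) : (r → A[T;T⁻¹]) →ₗ[A] (r → A[T;T⁻¹]))) w = 0 := by
    intro w hw
    show ℓ ((T (a - 2) : A[T;T⁻¹]) • w) = 0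
    apply hℓN
    rw [mem_shiftSub, T_smul_T_smul, neg_add_cancel, T_zero_smul]
    exact hw
  have hwN : ∀ j : r', D.H *ᵥ (Pi.single j 1 : r' → A[T;T⁻¹]) ∈ D.N₀ := by
    intro j
    refine ⟨fun k => D.F k j, ?_⟩
    rw [Matrix.mulVec_mulVec, D.G_mul_H, Matrix.mulVec_single_one]
    rfl
  have hfinN : ∀ j : r', ∃ B : ℕ, ∀ n, B ≤ n →
      (ℓ ∘ₗ (Tmul (a - 2) : (r → A[T;T⁻¹]) →ₗ[A] (r → A[T;T⁻¹])))
        (((Tmul 1 : Module.End A (r → A[T;T⁻¹])) ^ (n + 1))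
        (D.H *ᵥ (Pi.single j 1 : r' → A[T;T⁻¹]))) = 0 := by
    intro j
    obtain ⟨j₀', hj₀'⟩ := hTC.exhM (D.H *ᵥ (Pi.single j 1 : r' → A[T;T⁻¹]))
    refine ⟨(j₀' - a + 1).toNat, fun n hn => ?_⟩
    show ℓ ((T (a - 2) : A[T;T⁻¹]) • _) = 0
    rw [Tmul_pow_apply, T_smul_T_smul]
    apply hℓM
    apply hj₀'
    have := Int.self_le_toNat (j₀' - a + 1)
    push_cast
    omega
  have hsumN : ∑ j, aeval (Tmul (-1) : Module.End A (r → A[T;T⁻¹])) (t j)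
      (D.H *ᵥ (Pi.single j 1 : r' → A[T;T⁻¹])) = (T (-a) : A[T;T⁻¹]) • σ₁ := by
    simp_rw [aeval_Tmul_neg_one, ← Matrix.mulVec_smul]
    have h1 := map_sum (Matrix.mulVecLin D.H)
      (fun j => (minus (t j) : A[T;T⁻¹]) • (Pi.single j 1 : r' → A[T;T⁻¹])) Finset.univ
    simp only [Matrix.mulVecLin_apply] at h1
    have : ∑ j, (minus (t j) : A[T;T⁻¹]) • (Pi.single j 1 : r' → A[T;T⁻¹]) = mv t :=
      sum_smul_single (mv t)
    rw [← h1, this, hHt]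
  obtain ⟨mu, hmu⟩ := exists_row_of_theta (m := m)
    (ℓ ∘ₗ (Tmul (a - 2) : (r → A[T;T⁻¹]) →ₗ[A] (r → A[T;T⁻¹]))) (Tmul (-1)) (Tmul 1)
    (M := D.N₀) hTC.stabN hℓ'' hττ2
    (fun j : r' => D.H *ᵥ (Pi.single j 1 : r' → A[T;T⁻¹])) hwN hfinN t
    (by
      rw [hsumN]
      show ℓ ((T (a - 2) : A[T;T⁻¹]) • ((T 1 : A[T;T⁻¹]) • ((T (-a) : A[T;T⁻¹]) • σ₁))) = 1
      rw [T_smul_T_smul, T_smul_T_smul]
      have : a - 2 + 1 + -a = -1 := by ring
      rw [this, hℓσ, hℓ1])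
    (by
      intro n hn
      rw [hsumN]
      show ℓ ((T (a - 2) : A[T;T⁻¹]) • _) = 0
      rw [Tmul_pow_apply, T_smul_T_smul, T_smul_T_smul, hℓσ]
      apply hℓμ
      push_cast
      omega)
  -- unimodularity of `s`
  have hsI : ∀ κ : r → A[X], ∑ i, κ i * s i ∈ Ideal.span (Set.range s) := fun κ =>
    Ideal.sum_mem _ fun i _ => Ideal.mul_mem_left _ _ (Ideal.subset_span ⟨i, rfl⟩)
  have htI : ∀ κ : r' → A[X], ∑ j, κ j * t j ∈ Ideal.span (Set.range t) := fun κ =>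
    Ideal.sum_mem _ fun j _ => Ideal.mul_mem_left _ _ (Ideal.subset_span ⟨j, rfl⟩)
  have hIs : Ideal.span (Set.range s) = ⊤ := by
    obtain ⟨n, hn⟩ := exists_plus_vec (mv mu ᵥ* D.G)
    obtain ⟨κ, hκ⟩ := hn (max (n : ℤ) (((∑ j, mu j * t j).natDegree : ℤ) - a)) (le_max_left _ _)
    refine ideal_eq_top_of_reverse _ (hsI lam) hlam (hsI κ) hmu
      (e := max (n : ℤ) (((∑ j, mu j * t j).natDegree : ℤ) - a) + a)
      (by have := le_max_right (n : ℤ) (((∑ j, mu j * t j).natDegree : ℤ) - a); omega) ?_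
    have e1 : pv κ = (T (max (n : ℤ) (((∑ j, mu j * t j).natDegree : ℤ) - a)) : A[T;T⁻¹]) •
        (mv mu ᵥ* D.G) := by
      funext i
      exact (hκ i).symm
    calc plus (∑ i, κ i * s i) = pv κ ⬝ᵥ pv s := (pv_dotProduct κ s).symm
      _ = T (max (n : ℤ) (((∑ j, mu j * t j).natDegree : ℤ) - a)) *
          ((mv mu ᵥ* D.G) ⬝ᵥ pv s) := by rw [e1, smul_dotProduct, smul_eq_mul]
      _ = T (max (n : ℤ) (((∑ j, mu j * t j).natDegree : ℤ) - a)) *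
          (T a * minus (∑ j, mu j * t j)) := by
          rw [← Matrix.dotProduct_mulVec, hlink, dotProduct_smul, smul_eq_mul, mv_dotProduct]
          rfl
      _ = _ := by rw [← mul_assoc, T_mul_T]
  have hIt : Ideal.span (Set.range t) = ⊤ := by
    obtain ⟨n, hn⟩ := exists_minus_vec (pv lam ᵥ* D.H)
    obtain ⟨κ, hκ⟩ := hn (-(max (n : ℤ) (((∑ i, lam i * s i).natDegree : ℤ) - a)))
      (by have := le_max_left (n : ℤ) (((∑ i, lam i * s i).natDegree : ℤ) - a); omega)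
    refine ideal_eq_top_of_reverse _ (htI mu) hmu (htI κ) hlam
      (e := max (n : ℤ) (((∑ i, lam i * s i).natDegree : ℤ) - a) + a)
      (by have := le_max_right (n : ℤ) (((∑ i, lam i * s i).natDegree : ℤ) - a); omega) ?_
    have e1 : mv κ = (T (-(max (n : ℤ) (((∑ i, lam i * s i).natDegree : ℤ) - a))) :
        A[T;T⁻¹]) • (pv lam ᵥ* D.H) := by
      funext j
      exact (hκ j).symm
    apply inv_injective
    rw [inv_plus, map_mul, inv_T, inv_minus]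
    calc minus (∑ j, κ j * t j) = mv κ ⬝ᵥ mv t := (mv_dotProduct κ t).symm
      _ = T (-(max (n : ℤ) (((∑ i, lam i * s i).natDegree : ℤ) - a))) *
          ((pv lam ᵥ* D.H) ⬝ᵥ mv t) := by rw [e1, smul_dotProduct, smul_eq_mul]
      _ = T (-(max (n : ℤ) (((∑ i, lam i * s i).natDegree : ℤ) - a))) *
          (T (-a) * plus (∑ i, lam i * s i)) := by
          rw [← Matrix.dotProduct_mulVec, hHt, dotProduct_smul, smul_eq_mul, hs, pv_dotProduct]
          rfl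
      _ = _ := by
          rw [← mul_assoc, T_mul_T]
          congr 2
          ring
  obtain ⟨lam', hlam'⟩ := Ideal.mem_span_range_iff_exists_fun.mp
    (show (1 : A[X]) ∈ Ideal.span (Set.range s) by rw [hIs]; exact Submodule.mem_top)
  obtain ⟨mu', hmu'⟩ := Ideal.mem_span_range_iff_exists_fun.mp
    (show (1 : A[X]) ∈ Ideal.span (Set.range t) by rw [hIt]; exact Submodule.mem_top)
  exact ⟨{
    a := a
    s := s
    ρ := lam' ᵥ* D.E
    t := t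
    ρ' := mu' ᵥ* D.F
    hs := hEs
    hρ := by rw [Matrix.vecMul_vecMul, D.hE]
    hρs := by rw [← Matrix.dotProduct_mulVec, hEs]; exact hlam'
    ht := hFt
    hρ' := by rw [Matrix.vecMul_vecMul, D.hF]
    hρt := by rw [← Matrix.dotProduct_mulVec, hFt]; exact hmu'
    link := hlink }⟩

end Step

end Groth.Agent.Helper8.HQ
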