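import Mathlib
import Groth.Agent.Helper8.HQLocal

/-!
# Local Horrocks: the induction (Horrocks–Quillen project)
-/

set_option autoImplicit false

namespace Groth.Agent.Helper8.HQ

open Polynomial LaurentPolynomial Matrix

section Base

variable {A : Type*} [CommRing A] [IsLocalRing A] {r : Type*} [Fintype r] [DecidableEq r]

theorem idem_eq_zero_of_mem_maximalIdeal {e : Matrix r r A} (he : e * e = e)
    (h : ∀ i j, e i j ∈ IsLocalRing.maximalIdeal A) : e = 0 := by
  have hres : (IsLocalRing.residue A).mapMatrix e = 0 := by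
    ext i j
    simp only [RingHom.mapMatrix_apply, Matrix.map_apply, Matrix.zero_apply]
    exact (IsLocalRing.residue_eq_zero_iff _).mpr (h i j)
  have hdet : IsUnit (1 - e).det := by
    have h1 : IsLocalRing.residue A (1 - e).det = 1 := by
      rw [RingHom.map_det, map_sub, map_one, hres, sub_zero, det_one]
    by_contra hnu
    have hmem : (1 - e).det ∈ IsLocalRing.maximalIdeal A :=
      (IsLocalRing.mem_maximalIdeal _).mpr hnu
    rw [(IsLocalRing.residue_eq_zero_iff _).mpr hmem] at h1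
    exact zero_ne_one h1
  have hunit : IsUnit (1 - e) := (Matrix.isUnit_iff_isUnit_det _).mpr hdet
  have h0 : e * (1 - e) = 0 := by rw [Matrix.mul_sub, Matrix.mul_one, he, sub_self]
  exact (hunit.mul_left_eq_zero).mp h0

theorem eq_zero_of_const_mem {E : Matrix r r A[X]} (hE : E * E = E)
    (h : ∀ i j, (E i j).coeff 0 ∈ IsLocalRing.maximalIdeal A) : E = 0 := by
  have he₀0 : (evalRingHom (0 : A)).mapMatrix E = 0 := by
    apply idem_eq_zero_of_mem_maximalIdeal
    · rw [← map_mul, hE]
    · intro i j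
      simp only [RingHom.mapMatrix_apply, Matrix.map_apply, coe_evalRingHom,
        ← coeff_zero_eq_eval_zero]
      exact h i j
  have hc0 : ∀ i j, (E i j).coeff 0 = 0 := by
    intro i j
    have := congrFun (congrFun he₀0 i) j
    simpa [coeff_zero_eq_eval_zero] using this
  obtain ⟨E₁, hE₁⟩ : ∃ E₁ : Matrix r r A[X], E₁ = E.map divX := ⟨_, rfl⟩
  have hX : E = (X : A[X]) • E₁ := by
    refine Matrix.ext fun i j => ?_
    rw [Matrix.smul_apply, smul_eq_mul, hE₁, Matrix.map_apply]
    conv_lhs => rw [← X_mul_divX_add (E i j), hc0, map_zero, add_zero]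
  have hX' : E = (X : A[X]) • (E₁ * E) := by
    rw [← Matrix.smul_mul, ← hX, hE]
  have hpow : ∀ n : ℕ, E = (X : A[X]) ^ n • (E₁ ^ n * E) := by
    intro n
    induction n with
    | zero => simp
    | succ n ih =>
      rw [pow_succ, pow_succ, mul_smul, Matrix.mul_assoc, ← Matrix.mul_smul, ← hX']
      exact ih
  refine Matrix.ext fun i j => ?_
  ext k
  have := congrFun (congrFun (hpow (k + 1)) i) j
  rw [this, Matrix.smul_apply, smul_eq_mul, coeff_X_pow_mul', if_neg (by omega)]
  simp

end Base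

section Main

variable {A : Type*} [CommRing A] [IsLocalRing A] {r r' : Type*} [Fintype r] [Fintype r']
  [DecidableEq r] [DecidableEq r']

/-- Evaluation at `0` followed by reduction to the residue field. -/
noncomputable def ev0 : A[X] →+* IsLocalRing.ResidueField A :=
  (IsLocalRing.residue A).comp (evalRingHom 0)

theorem rank_cut_lt (D : Datum A r r') (c : CutData D) :
    ((ev0 (A := A)).mapMatrix c.cut.E).rank < ((ev0 (A := A)).mapMatrix D.E).rank := by
  have hmul : (ev0 (A := A)).mapMatrix D.E * (ev0 (A := A)).mapMatrix c.cut.E =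
      (ev0 (A := A)).mapMatrix c.cut.E := by
    rw [← map_mul, c.E_mul_cut_E]
  have h1 : (ev0 (A := A)).mapMatrix D.E *ᵥ (ev0 ∘ c.s) = ev0 ∘ c.s := by
    funext i
    rw [RingHom.mapMatrix_apply, ← RingHom.map_mulVec, c.hs]
    rfl
  have h2 : (ev0 ∘ c.ρ) ᵥ* (ev0 (A := A)).mapMatrix c.cut.E = 0 := by
    funext i
    rw [RingHom.mapMatrix_apply, ← RingHom.map_vecMul, c.ρ_vecMul_cut_E]
    simp
  have h3 : (ev0 (A := A) ∘ c.ρ) ⬝ᵥ (ev0 ∘ c.s) = 1 := by
    rw [← RingHom.map_dotProduct, c.hρs, map_one]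
  unfold Matrix.rank
  apply Submodule.finrank_lt_finrank_of_lt
  refine lt_of_le_of_ne ?_ ?_
  · rintro _ ⟨v, rfl⟩
    exact ⟨(ev0 (A := A)).mapMatrix c.cut.E *ᵥ v, by
      rw [Matrix.mulVecLin_apply, Matrix.mulVecLin_apply, Matrix.mulVec_mulVec, hmul]⟩
  · intro heq
    have hs : (ev0 (A := A) ∘ c.s) ∈ LinearMap.range ((ev0 (A := A)).mapMatrix D.E).mulVecLin :=
      ⟨ev0 ∘ c.s, h1⟩
    rw [← heq] at hs
    obtain ⟨v, hv⟩ := hs
    have : (1 : IsLocalRing.ResidueField A) = 0 := by
      rw [← h3, ← hv, Matrix.mulVecLin_apply, Matrix.dotProduct_mulVec, h2, zero_dotProduct]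
    exact one_ne_zero this

theorem Datum.freeIdem_aux (n : ℕ) :
    ∀ D : Datum A r r', ((ev0 (A := A)).mapMatrix D.E).rank = n → FreeIdem D.E := by
  induction n using Nat.strong_induction_on with
  | _ n ih =>
    intro D hn
    by_cases hzero : ∀ i j, (D.E i j).coeff 0 ∈ IsLocalRing.maximalIdeal A
    · rw [eq_zero_of_const_mem D.hE hzero]
      exact FreeIdem.zero
    · push Not at hzero
      obtain ⟨i₀, j₀, h0⟩ := hzero
      obtain ⟨c⟩ := D.exists_cutData h0
      have hlt : ((ev0 (A := A)).mapMatrix c.cut.E).rank < n := hn ▸ rank_cut_lt D c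
      have hfree := ih _ hlt c.cut rfl
      exact FreeIdem.add_rankOne c.s c.ρ c.hρs c.E_eq c.ρ_vecMul_cut_E c.cut_E_mulVec_s hfree

/-- **Local Horrocks**: over a local ring, a datum has free image. -/
theorem Datum.freeIdem (D : Datum A r r') : FreeIdem D.E :=
  Datum.freeIdem_aux _ D rfl

end Main

end Groth.Agent.Helper8.HQ
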