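import Mathlib
import Groth.Agent.Helper8.HQIdem

/-!
# Quillen patching for idempotent matrices (Vaserstein's ideal)

For an idempotent matrix `E` over `A[X]`, if for every maximal ideal `m` of `A` the image of `E` over
`A_m[X]` is equivalent to the constant idempotent `E(0)`, then `E` is equivalent to `E(0)` over
`A[X]`.
-/

set_option autoImplicit false

namespace Groth.Agent.Helper8.HQ

open Polynomial Matrix

section Subst

variable {A : Type*} [CommRing A]

/-- `X ↦ X + hY` as a ring hom `A[X] → A[X][Y]`. -/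
noncomputable def sig (h : A) : A[X] →+* A[X][X] :=
  eval₂RingHom (C.comp C) (C X + C (C h) * X)

/-- `Y ↦ cY` on `A[X][Y]`. -/
noncomputable def tau (c : A) : A[X][X] →+* A[X][X] :=
  eval₂RingHom C (C (C c) * X)

/-- `X ↦ X + hY`, `Y ↦ Y` on `A[X][Y]`. -/
noncomputable def kap (h : A) : A[X][X] →+* A[X][X] :=
  eval₂RingHom (sig h) X

/-- `X ↦ 0` on `A[X][Y]`, landing in `A[Y]`. -/
noncomputable def eps : A[X][X] →+* A[X] := mapRingHom (evalRingHom 0)

/-- The constant term, as a ring endomorphism of `A[X]`. -/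
noncomputable def cst : A[X] →+* A[X] := C.comp (evalRingHom 0)

@[simp] theorem sig_C (h a : A) : sig h (C a) = C (C a) := by simp [sig]
@[simp] theorem sig_X (h : A) : sig h X = C X + C (C h) * X := by simp [sig]
@[simp] theorem tau_C (c : A) (p : A[X]) : tau c (C p) = C p := by simp [tau]
@[simp] theorem tau_X (c : A) : tau c X = C (C c) * X := by simp [tau]
@[simp] theorem kap_C (h : A) (p : A[X]) : kap h (C p) = sig h p := by simp [kap]
@[simp] theorem kap_X (h : A) : kap h (X : A[X][X]) = X := by simp [kap]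

theorem sig_zero : sig (0 : A) = (C : A[X] →+* A[X][X]) := by
  apply Polynomial.ringHom_ext
  · intro a; simp
  · simp

theorem kap_comp_sig (h₁ h₂ : A) : (kap h₁).comp (sig h₂) = sig (h₁ + h₂) := by
  apply Polynomial.ringHom_ext
  · intro a; simp
  · simp only [RingHom.comp_apply, sig_X, map_add, map_mul, kap_C, kap_X, sig_C]
    ring

theorem kap_comp_C (h : A) : (kap h).comp (C : A[X] →+* A[X][X]) = sig h :=
  RingHom.ext fun p => by simp

theorem tau_comp_sig (c h : A) : (tau c).comp (sig h) = sig (c * h) := by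
  apply Polynomial.ringHom_ext
  · intro a; simp
  · simp only [RingHom.comp_apply, sig_X, map_add, map_mul, tau_C, tau_X]
    ring

theorem tau_comp_C (c : A) : (tau c).comp (C : A[X] →+* A[X][X]) = C :=
  RingHom.ext fun p => by simp

theorem tau_comp_tau (c d : A) : (tau c).comp (tau d) = tau (c * d) := by
  apply Polynomial.ringHom_ext
  · intro a; simp
  · simp only [RingHom.comp_apply, tau_X, map_mul, tau_C]
    ring

theorem eps_comp_sig_one : (eps (A := A)).comp (sig 1) = RingHom.id _ := by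
  apply Polynomial.ringHom_ext
  · intro a; simp [eps]
  · simp [eps]

theorem eps_comp_C : (eps (A := A)).comp (C : A[X] →+* A[X][X]) = cst :=
  RingHom.ext fun p => by simp [eps, cst]

theorem eval0_comp_sig (h : A) : (evalRingHom (0 : A[X])).comp (sig h) = RingHom.id _ := by
  apply Polynomial.ringHom_ext
  · intro a; simp
  · simp

theorem sig_cst (h : A) (p : A[X]) : sig h (cst p) = C (cst p) := by
  simp [cst]

variable {A' : Type*} [CommRing A'] (φ : A →+* A')

theorem map_comp_sig (h : A) :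
    (mapRingHom (mapRingHom φ)).comp (sig h) = (sig (φ h)).comp (mapRingHom φ) := by
  apply Polynomial.ringHom_ext
  · intro a; simp
  · simp

theorem map_comp_tau (c : A) :
    (mapRingHom (mapRingHom φ)).comp (tau c) = (tau (φ c)).comp (mapRingHom (mapRingHom φ)) := by
  apply Polynomial.ringHom_ext
  · intro a; simp
  · simp

theorem map_comp_C :
    (mapRingHom (mapRingHom φ)).comp (C : A[X] →+* A[X][X]) = C.comp (mapRingHom φ) :=
  RingHom.ext fun p => by simp

theorem map_comp_cst : (mapRingHom φ).comp cst = cst.comp (mapRingHom φ) := by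
  apply Polynomial.ringHom_ext
  · intro a; simp [cst]
  · simp [cst]

end Subst

section QIdeal

variable {A : Type*} [CommRing A] {n : Type*} [Fintype n] [DecidableEq n]

theorem mapMatrix_mapMatrix {R S T : Type*} [CommRing R] [CommRing S] [CommRing T]
    (f : R →+* S) (g : S →+* T) (M : Matrix n n R) :
    g.mapMatrix (f.mapMatrix M) = (g.comp f).mapMatrix M := by
  ext i j; rfl

/-- Vaserstein's ideal. -/
def QSet (E : Matrix n n A[X]) : Set A :=
  {h | IdemEquiv ((sig h).mapMatrix E) ((C : A[X] →+* A[X][X]).mapMatrix E)}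

variable {E : Matrix n n A[X]} (hE : E * E = E)

include hE

theorem zero_mem_QSet : (0 : A) ∈ QSet E := by
  show IdemEquiv _ _
  rw [sig_zero]
  exact IdemEquiv.refl (by rw [← map_mul, hE])

theorem add_mem_QSet {h₁ h₂ : A} (H₁ : h₁ ∈ QSet E) (H₂ : h₂ ∈ QSet E) : h₁ + h₂ ∈ QSet E := by
  show IdemEquiv _ _
  have h := IdemEquiv.map (kap h₁) H₂
  rw [mapMatrix_mapMatrix, mapMatrix_mapMatrix, kap_comp_sig, kap_comp_C] at h
  exact IdemEquiv.trans (by rw [← map_mul, hE]) (by rw [← map_mul, hE]) h H₁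

omit hE in
theorem smul_mem_QSet (c : A) {h : A} (H : h ∈ QSet E) : c * h ∈ QSet E := by
  show IdemEquiv _ _
  have h' := IdemEquiv.map (tau c) H
  rwa [mapMatrix_mapMatrix, mapMatrix_mapMatrix, tau_comp_sig, tau_comp_C] at h'

/-- Vaserstein's ideal as an ideal. -/
def QIdeal : Ideal A where
  carrier := QSet E
  add_mem' := add_mem_QSet hE
  zero_mem' := zero_mem_QSet hE
  smul_mem' c _ H := smul_mem_QSet c H

omit hE in
theorem idemEquiv_cst_of_one_mem (h1 : (1 : A) ∈ QSet E) : IdemEquiv E (cst.mapMatrix E) := by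
  have h := IdemEquiv.map eps h1
  rwa [mapMatrix_mapMatrix, mapMatrix_mapMatrix, eps_comp_sig_one, eps_comp_C,
    RingHom.mapMatrix_id, RingHom.id_apply] at h

end QIdeal

section Local

variable {A : Type*} [CommRing A] {n : Type*} [Fintype n] [DecidableEq n]
variable (S : Submonoid A) (A' : Type*) [CommRing A'] [Algebra A A'] [IsLocalization S A']

attribute [local instance] Polynomial.algebra

/-- Clearing denominators in a matrix over `A'[X][Y]`. -/
theorem exists_integer_multiple (M' : Matrix n n A'[X][X]) :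
    ∃ s ∈ S, ∃ M : Matrix n n A[X][X],
      (mapRingHom (mapRingHom (algebraMap A A'))).mapMatrix M =
        (C (C (algebraMap A A' s)) : A'[X][X]) • M' := by
  have h1 : IsLocalization (S.map C) A'[X] := Polynomial.isLocalization S A'
  have h2 : IsLocalization ((S.map C).map C) A'[X][X] := Polynomial.isLocalization (S.map C) A'[X]
  obtain ⟨b, hb⟩ := IsLocalization.exist_integer_multiples_of_finite ((S.map C).map C)
    (fun ij : n × n => M' ij.1 ij.2)
  obtain ⟨b₁, hb₁, hb₁'⟩ := Submonoid.mem_map.mp b.2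
  obtain ⟨s, hs, hs'⟩ := Submonoid.mem_map.mp hb₁
  choose x hx using hb
  refine ⟨s, hs, Matrix.of fun i j => x (i, j), ?_⟩
  ext i j : 1
  have := hx (i, j)
  rw [RingHom.mapMatrix_apply, Matrix.map_apply, Matrix.of_apply, Matrix.smul_apply, smul_eq_mul]
  have e1 : (b : A[X][X]) = C (C s) := by rw [← hb₁', ← hs']
  rw [Algebra.smul_def, e1] at this
  rw [show (mapRingHom (mapRingHom (algebraMap A A'))) (x (i, j)) =
    algebraMap A[X][X] A'[X][X] (x (i, j)) from rfl, this]
  congr 1
  show (mapRingHom (mapRingHom (algebraMap A A'))) (C (C s)) = _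
  simp

/-- A matrix over `A[X][Y]` vanishing over the localization is killed by an element of `S`. -/
theorem exists_smul_eq_zero (M : Matrix n n A[X][X])
    (hM : (mapRingHom (mapRingHom (algebraMap A A'))).mapMatrix M = 0) :
    ∃ s ∈ S, (C (C s) : A[X][X]) • M = 0 := by
  classical
  have h1 : IsLocalization (S.map C) A'[X] := Polynomial.isLocalization S A'
  have h2 : IsLocalization ((S.map C).map C) A'[X][X] := Polynomial.isLocalization (S.map C) A'[X]
  have key : ∀ ij : n × n, ∃ s ∈ S, (C (C s) : A[X][X]) * M ij.1 ij.2 = 0 := by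
    intro ij
    have h0 : algebraMap A[X][X] A'[X][X] (M ij.1 ij.2) = 0 := by
      have := congrFun (congrFun hM ij.1) ij.2
      exact this
    obtain ⟨b, hb⟩ := (IsLocalization.map_eq_zero_iff ((S.map C).map C) A'[X][X] _).mp h0
    obtain ⟨b₁, hb₁, hb₁'⟩ := Submonoid.mem_map.mp b.2
    obtain ⟨s, hs, hs'⟩ := Submonoid.mem_map.mp hb₁
    refine ⟨s, hs, ?_⟩
    have e1 : (b : A[X][X]) = C (C s) := by rw [← hb₁', ← hs']
    rw [← e1]; exact hb
  choose s hs hs0 using key
  refine ⟨∏ ij, s ij, prod_mem fun ij _ => hs ij, ?_⟩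
  ext i j
  rw [Matrix.smul_apply, smul_eq_mul, Matrix.zero_apply]
  have hdvd : s (i, j) ∣ ∏ ij, s ij := Finset.dvd_prod_of_mem _ (Finset.mem_univ _)
  obtain ⟨c, hc⟩ := hdvd
  rw [hc, map_mul, map_mul, mul_comm (C (C (s (i, j)))), mul_assoc, hs0 (i, j), mul_zero]

end Local

section Local2

variable {A : Type*} [CommRing A] {n : Type*} [Fintype n] [DecidableEq n]
variable (S : Submonoid A) (A' : Type*) [CommRing A'] [Algebra A A'] [IsLocalization S A']

/-- Clearing denominators in two matrices over `A'[X][Y]` simultaneously. -/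
theorem exists_integer_multiple₂ (M' N' : Matrix n n A'[X][X]) :
    ∃ s ∈ S, ∃ M N : Matrix n n A[X][X],
      (mapRingHom (mapRingHom (algebraMap A A'))).mapMatrix M =
        (C (C (algebraMap A A' s)) : A'[X][X]) • M' ∧
      (mapRingHom (mapRingHom (algebraMap A A'))).mapMatrix N =
        (C (C (algebraMap A A' s)) : A'[X][X]) • N' := by
  obtain ⟨s, hs, M, hM⟩ := exists_integer_multiple S A' M'
  obtain ⟨t, ht, N, hN⟩ := exists_integer_multiple S A' N'
  refine ⟨s * t, mul_mem hs ht, (C (C t) : A[X][X]) • M, (C (C s) : A[X][X]) • N, ?_, ?_⟩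
  · ext i j : 1
    have h := congrFun (congrFun hM i) j
    simp only [RingHom.mapMatrix_apply, Matrix.map_apply, Matrix.smul_apply, smul_eq_mul] at h ⊢
    rw [map_mul (mapRingHom (mapRingHom (algebraMap A A'))), h]
    simp only [coe_mapRingHom, map_C, map_mul]
    ring
  · ext i j : 1
    have h := congrFun (congrFun hN i) j
    simp only [RingHom.mapMatrix_apply, Matrix.map_apply, Matrix.smul_apply, smul_eq_mul] at h ⊢
    rw [map_mul (mapRingHom (mapRingHom (algebraMap A A'))), h]
    simp only [coe_mapRingHom, map_C, map_mul]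
    ring

end Local2

section Key

variable {A : Type*} [CommRing A] {n : Type*} [Fintype n] [DecidableEq n]

theorem tau_eq (c : A) (p : A[X][X]) :
    tau c p = C (p.coeff 0) + X * (C (C c) * tau c (divX p)) := by
  conv_lhs => rw [← X_mul_divX_add p]
  simp only [map_add, map_mul, tau_X, tau_C]
  ring

theorem tau_eq_zero (c : A) (p : A[X][X]) (h1 : C (C c) * p = 0) (h0 : p.coeff 0 = 0) :
    tau c p = 0 := by
  have e : tau c p = p.comp (C (C c) * X) := by
    simp only [tau, coe_eval₂RingHom, Polynomial.comp]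
  rw [e]
  ext k : 1
  rw [comp_C_mul_X_coeff, coeff_zero]
  rcases k with _ | k
  · rw [h0, zero_mul]
  · have h2 : C c * p.coeff (k + 1) = 0 := by
      have := congrArg (fun q : A[X][X] => q.coeff (k + 1)) h1
      simpa only [coeff_C_mul, coeff_zero] using this
    rw [pow_succ', ← mul_assoc, mul_comm (p.coeff (k + 1)), h2, zero_mul]

variable {A' : Type*} [CommRing A'] (φ : A →+* A') (S : Submonoid A)

theorem exists_mem_QSet_mem_aux
    (hint : ∀ M' N' : Matrix n n A'[X][X], ∃ s ∈ S, ∃ M N : Matrix n n A[X][X],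
      (mapRingHom (mapRingHom φ)).mapMatrix M = (C (C (φ s)) : A'[X][X]) • M' ∧
      (mapRingHom (mapRingHom φ)).mapMatrix N = (C (C (φ s)) : A'[X][X]) • N')
    (hzero : ∀ M : Matrix n n A[X][X], (mapRingHom (mapRingHom φ)).mapMatrix M = 0 →
      ∃ s ∈ S, (C (C s) : A[X][X]) • M = 0)
    (E : Matrix n n A[X]) (hE : E * E = E)
    (hloc : IdemEquiv ((mapRingHom φ).mapMatrix E)
      ((mapRingHom φ).mapMatrix (cst.mapMatrix E))) :
    ∃ g ∈ QSet E, g ∈ S := by
  set E' := (mapRingHom φ).mapMatrix E with hE'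
  have hE'E' : E' * E' = E' := by rw [hE', ← map_mul, hE]
  have hcst : (mapRingHom φ).mapMatrix (cst.mapMatrix E) = cst.mapMatrix E' := by
    rw [hE', mapMatrix_mapMatrix, mapMatrix_mapMatrix, map_comp_cst]
  rw [hcst] at hloc
  obtain ⟨a, b, hab, hba⟩ := hloc
  -- the equivalence over `A'[X][Y]`
  set α₁ := (sig (1 : A')).mapMatrix a * (C : A'[X] →+* A'[X][X]).mapMatrix b with hα₁
  set β₁ := (C : A'[X] →+* A'[X][X]).mapMatrix a * (sig (1 : A')).mapMatrix b with hβ₁
  have hcc : (sig (1 : A')).mapMatrix (cst.mapMatrix E') =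
      (C : A'[X] →+* A'[X][X]).mapMatrix (cst.mapMatrix E') := by
    ext i j : 1
    simp only [RingHom.mapMatrix_apply, Matrix.map_apply]
    exact sig_cst 1 _
  have habab : a * cst.mapMatrix E' * b = E' := by
    rw [← hba, ← Matrix.mul_assoc, hab, Matrix.mul_assoc, hab, hE'E']
  have hαβ : α₁ * β₁ = (sig (1 : A')).mapMatrix E' := by
    rw [hα₁, hβ₁]
    calc (sig (1 : A')).mapMatrix a * (C : A'[X] →+* A'[X][X]).mapMatrix b *
          ((C : A'[X] →+* A'[X][X]).mapMatrix a * (sig (1 : A')).mapMatrix b)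
        = (sig (1 : A')).mapMatrix a * ((C : A'[X] →+* A'[X][X]).mapMatrix (b * a)) *
          (sig (1 : A')).mapMatrix b := by
          rw [map_mul]; simp only [Matrix.mul_assoc]
      _ = (sig (1 : A')).mapMatrix (a * cst.mapMatrix E' * b) := by
          rw [hba, ← hcc, map_mul, map_mul]
      _ = _ := by rw [habab]
  have hβα : β₁ * α₁ = (C : A'[X] →+* A'[X][X]).mapMatrix E' := by
    rw [hα₁, hβ₁]
    calc (C : A'[X] →+* A'[X][X]).mapMatrix a * (sig (1 : A')).mapMatrix b *
          ((sig (1 : A')).mapMatrix a * (C : A'[X] →+* A'[X][X]).mapMatrix b)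
        = (C : A'[X] →+* A'[X][X]).mapMatrix a * ((sig (1 : A')).mapMatrix (b * a)) *
          (C : A'[X] →+* A'[X][X]).mapMatrix b := by
          rw [map_mul]; simp only [Matrix.mul_assoc]
      _ = (C : A'[X] →+* A'[X][X]).mapMatrix (a * cst.mapMatrix E' * b) := by
          rw [hba, hcc, map_mul, map_mul]
      _ = _ := by rw [habab]
  have hevC : (evalRingHom (0 : A'[X])).comp (C : A'[X] →+* A'[X][X]) = RingHom.id _ :=
    RingHom.ext fun p => by simp
  have hev_α : (evalRingHom (0 : A'[X])).mapMatrix α₁ = E' := by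
    rw [hα₁, map_mul, mapMatrix_mapMatrix, mapMatrix_mapMatrix, eval0_comp_sig,
      hevC, RingHom.mapMatrix_id, RingHom.id_apply, RingHom.id_apply, hab]
  have hev_β : (evalRingHom (0 : A'[X])).mapMatrix β₁ = E' := by
    rw [hβ₁, map_mul, mapMatrix_mapMatrix, mapMatrix_mapMatrix, eval0_comp_sig,
      hevC, RingHom.mapMatrix_id, RingHom.id_apply, RingHom.id_apply, hab]
  -- clear denominators
  obtain ⟨s₁, hs₁, Φ, Ψ, hΦ, hΨ⟩ := hint (α₁.map divX) (β₁.map divX)
  set αt : Matrix n n A[X][X] :=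
    (C : A[X] →+* A[X][X]).mapMatrix E + (X : A[X][X]) • (tau s₁).mapMatrix Φ with hαt
  set βt : Matrix n n A[X][X] :=
    (C : A[X] →+* A[X][X]).mapMatrix E + (X : A[X][X]) • (tau s₁).mapMatrix Ψ with hβt
  have key : ∀ (γ : Matrix n n A'[X][X]) (Θ : Matrix n n A[X][X]),
      (evalRingHom (0 : A'[X])).mapMatrix γ = E' →
      (mapRingHom (mapRingHom φ)).mapMatrix Θ = (C (C (φ s₁)) : A'[X][X]) • γ.map divX →
      (mapRingHom (mapRingHom φ)).mapMatrix
        ((C : A[X] →+* A[X][X]).mapMatrix E + (X : A[X][X]) • (tau s₁).mapMatrix Θ) =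
      (tau (φ s₁)).mapMatrix γ := by
    intro γ Θ hγ hΘ
    ext i j : 1
    have h1 : mapRingHom (mapRingHom φ) (Θ i j) = C (C (φ s₁)) * divX (γ i j) :=
      congrFun (congrFun hΘ i) j
    have h2 : (γ i j).coeff 0 = mapRingHom φ (E i j) := by
      rw [coeff_zero_eq_eval_zero]
      exact congrFun (congrFun hγ i) j
    have h3 : mapRingHom (mapRingHom φ) (tau s₁ (Θ i j)) =
        tau (φ s₁) (mapRingHom (mapRingHom φ) (Θ i j)) :=
      RingHom.congr_fun (map_comp_tau φ s₁) (Θ i j)
    simp only [RingHom.mapMatrix_apply, Matrix.map_apply, Matrix.add_apply, Matrix.smul_apply,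
      smul_eq_mul]
    rw [tau_eq (φ s₁) (γ i j), h2, map_add, map_mul, h3, h1, map_mul, tau_C]
    simp only [coe_mapRingHom, map_C, map_X]
  have hA : (mapRingHom (mapRingHom φ)).mapMatrix αt = (tau (φ s₁)).mapMatrix α₁ :=
    key α₁ Φ hev_α hΦ
  have hB : (mapRingHom (mapRingHom φ)).mapMatrix βt = (tau (φ s₁)).mapMatrix β₁ :=
    key β₁ Ψ hev_β hΨ
  have hB1 : (mapRingHom (mapRingHom φ)).mapMatrix (αt * βt - (sig s₁).mapMatrix E) = 0 := by
    rw [map_sub, map_mul, hA, hB, ← map_mul, hαβ, mapMatrix_mapMatrix, tau_comp_sig, mul_one,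
      mapMatrix_mapMatrix (sig s₁), map_comp_sig, ← mapMatrix_mapMatrix, sub_self]
  have hB2 : (mapRingHom (mapRingHom φ)).mapMatrix
      (βt * αt - (C : A[X] →+* A[X][X]).mapMatrix E) = 0 := by
    rw [map_sub, map_mul, hB, hA, ← map_mul, hβα, mapMatrix_mapMatrix, tau_comp_C,
      mapMatrix_mapMatrix (C : A[X] →+* A[X][X]), map_comp_C, ← mapMatrix_mapMatrix, sub_self]
  have hαt0 : (evalRingHom (0 : A[X])).mapMatrix αt = E := by
    ext i j : 1
    simp [hαt]
  have hβt0 : (evalRingHom (0 : A[X])).mapMatrix βt = E := by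
    ext i j : 1
    simp [hβt]
  have hevC' : (evalRingHom (0 : A[X])).comp (C : A[X] →+* A[X][X]) = RingHom.id _ :=
    RingHom.ext fun p => by simp
  have h10 : (evalRingHom (0 : A[X])).mapMatrix (αt * βt - (sig s₁).mapMatrix E) = 0 := by
    rw [map_sub, map_mul, hαt0, hβt0, mapMatrix_mapMatrix, eval0_comp_sig, RingHom.mapMatrix_id,
      RingHom.id_apply, hE, sub_self]
  have h20 : (evalRingHom (0 : A[X])).mapMatrix
      (βt * αt - (C : A[X] →+* A[X][X]).mapMatrix E) = 0 := by
    rw [map_sub, map_mul, hαt0, hβt0, mapMatrix_mapMatrix, hevC', RingHom.mapMatrix_id,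
      RingHom.id_apply, hE, sub_self]
  obtain ⟨s₂, hs₂, hk₂⟩ := hzero _ hB1
  obtain ⟨s₃, hs₃, hk₃⟩ := hzero _ hB2
  have kill : ∀ (δ : Matrix n n A[X][X]) (s t : A), (C (C s) : A[X][X]) • δ = 0 →
      (evalRingHom (0 : A[X])).mapMatrix δ = 0 → (tau (s * t)).mapMatrix δ = 0 := by
    intro δ s t h1 h0
    ext i j : 1
    have h1' : (C (C s) : A[X][X]) * δ i j = 0 := congrFun (congrFun h1 i) j
    have h0' : (δ i j).coeff 0 = 0 := by
      rw [coeff_zero_eq_eval_zero]
      exact congrFun (congrFun h0 i) j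
    show tau (s * t) (δ i j) = 0
    apply tau_eq_zero _ _ _ h0'
    rw [map_mul, map_mul, mul_comm (C (C s)), mul_assoc, h1', mul_zero]
  have hτ1 := kill _ s₂ s₃ hk₂ h10
  have hτ2 := kill _ s₃ s₂ hk₃ h20
  rw [mul_comm s₃ s₂] at hτ2
  refine ⟨s₂ * s₃ * s₁, ?_, mul_mem (mul_mem hs₂ hs₃) hs₁⟩
  show IdemEquiv _ _
  refine ⟨(tau (s₂ * s₃)).mapMatrix αt, (tau (s₂ * s₃)).mapMatrix βt, ?_, ?_⟩
  · rw [map_sub, map_mul, mapMatrix_mapMatrix, tau_comp_sig, sub_eq_zero] at hτ1
    exact hτ1
  · rw [map_sub, map_mul, mapMatrix_mapMatrix, tau_comp_C, sub_eq_zero] at hτ2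
    exact hτ2

/-- If `E` is equivalent to its constant term over `S⁻¹A[X]`, then Vaserstein's set meets `S`. -/
theorem exists_mem_QSet_mem (A' : Type*) [CommRing A'] [Algebra A A'] [IsLocalization S A']
    (E : Matrix n n A[X]) (hE : E * E = E)
    (hloc : IdemEquiv ((mapRingHom (algebraMap A A')).mapMatrix E)
      ((mapRingHom (algebraMap A A')).mapMatrix (cst.mapMatrix E))) :
    ∃ g ∈ QSet E, g ∈ S :=
  exists_mem_QSet_mem_aux (algebraMap A A') S (exists_integer_multiple₂ S A')
    (exists_smul_eq_zero S A') E hE hloc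

/-- **Quillen patching** for idempotent matrices. -/
theorem quillen_patching (E : Matrix n n A[X]) (hE : E * E = E)
    (hloc : ∀ (m : Ideal A) [m.IsMaximal], IdemEquiv
      ((mapRingHom (algebraMap A (Localization.AtPrime m))).mapMatrix E)
      ((mapRingHom (algebraMap A (Localization.AtPrime m))).mapMatrix (cst.mapMatrix E))) :
    IdemEquiv E (cst.mapMatrix E) := by
  apply idemEquiv_cst_of_one_mem
  by_contra h1
  have hne : QIdeal hE ≠ ⊤ := fun h => h1 ((Ideal.eq_top_iff_one _).mp h)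
  obtain ⟨m, hm, hle⟩ := Ideal.exists_le_maximal _ hne
  obtain ⟨g, hg, hgm⟩ := exists_mem_QSet_mem m.primeCompl (Localization.AtPrime m) E hE (hloc m)
  exact hgm (hle hg)

end Key

end Groth.Agent.Helper8.HQ
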