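import Mathlib
import Groth.Agent.Helper8.HQLocal2
import Groth.Agent.Helper8.HQPatch

/-!
# Horrocks–Quillen in matrix form

For a datum over an arbitrary commutative ring, `E` is equivalent to its constant term.
-/

set_option autoImplicit false

namespace Groth.Agent.Helper8.HQ

open Polynomial LaurentPolynomial Matrix

section Map

variable {A B : Type*} [CommRing A] [CommRing B] (φ : A →+* B)
variable {r r' : Type*} [Fintype r] [Fintype r'] [DecidableEq r] [DecidableEq r']

omit [Fintype r] [Fintype r'] [DecidableEq r] [DecidableEq r'] in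
theorem map_map_plus (M : Matrix r r' A[X]) :
    (M.map (mapRingHom φ)).map plus = (M.map plus).map (mapL φ) := by
  refine Matrix.ext fun i j => ?_
  simp only [Matrix.map_apply, coe_mapRingHom]
  exact (mapL_plus φ _).symm

omit [Fintype r] [Fintype r'] [DecidableEq r] [DecidableEq r'] in
theorem map_map_minus (M : Matrix r r' A[X]) :
    (M.map (mapRingHom φ)).map minus = (M.map minus).map (mapL φ) := by
  refine Matrix.ext fun i j => ?_
  simp only [Matrix.map_apply, coe_mapRingHom]
  exact (mapL_minus φ _).symm

/-- Base change of a datum. -/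
noncomputable def Datum.map (D : Datum A r r') : Datum B r r' where
  E := D.E.map (mapRingHom φ)
  F := D.F.map (mapRingHom φ)
  G := D.G.map (mapL φ)
  H := D.H.map (mapL φ)
  hE := by rw [← Matrix.map_mul, D.hE]
  hF := by rw [← Matrix.map_mul, D.hF]
  hG1 := by rw [map_map_minus, ← Matrix.map_mul, D.hG1]
  hG2 := by rw [map_map_plus, ← Matrix.map_mul, D.hG2]
  hHG := by rw [map_map_plus, ← Matrix.map_mul, D.hHG]
  hGH := by rw [map_map_minus, ← Matrix.map_mul, D.hGH]

theorem Datum.map_E (D : Datum A r r') :
    (D.map φ).E = (mapRingHom φ).mapMatrix D.E := rfl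

end Map

section Global

variable {A : Type*} [CommRing A]
variable {r r' : Type*} [Fintype r] [Fintype r'] [DecidableEq r] [DecidableEq r']

/-- **Horrocks–Quillen, matrix form.** -/
theorem Datum.idemEquiv_cst (D : Datum A r r') : IdemEquiv D.E (cst.mapMatrix D.E) := by
  apply quillen_patching D.E D.hE
  intro m hm
  have hfree := (D.map (algebraMap A (Localization.AtPrime m))).freeIdem
  have h := hfree.idemEquiv_map cst
  rw [Datum.map_E] at h
  have e : cst.mapMatrix ((mapRingHom (algebraMap A (Localization.AtPrime m))).mapMatrix D.E) =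
      (mapRingHom (algebraMap A (Localization.AtPrime m))).mapMatrix (cst.mapMatrix D.E) := by
    rw [mapMatrix_mapMatrix, mapMatrix_mapMatrix, map_comp_cst]
  rw [← e]
  exact h

end Global

end Groth.Agent.Helper8.HQ
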