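import Mathlib
import Groth.Agent.Helper8.HQGlobal

/-!
# From modules to matrix data (Horrocks–Quillen project)
-/

set_option autoImplicit false

namespace Groth.Agent.Helper8.HQ

open Polynomial LaurentPolynomial Matrix TensorProduct

section AlphaBeta

variable {A : Type*} [CommRing A]
variable {M : Type*} [AddCommGroup M] [Module A[X] M]
variable {n : ℕ} (f : (Fin n → A[X]) →ₗ[A[X]] M) (g : M →ₗ[A[X]] (Fin n → A[X]))

/-- `m ↦ (g m)(T)`. -/
noncomputable def jmap : M →ₗ[A[X]] (Fin n → A[T;T⁻¹]) where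
  toFun m := pv (g m)
  map_add' x y := by rw [map_add, pv_add]
  map_smul' p x := by
    rw [map_smul, pv_smul, RingHom.id_apply]
    funext i
    rfl

/-- `L ⊗ M → Lⁿ`. -/
noncomputable def beta : (A[T;T⁻¹] ⊗[A[X]] M) →ₗ[A[T;T⁻¹]] (Fin n → A[T;T⁻¹]) :=
  LinearMap.liftBaseChange A[T;T⁻¹] (jmap g)

/-- `Lⁿ → L ⊗ M`. -/
noncomputable def alpha : (Fin n → A[T;T⁻¹]) →ₗ[A[T;T⁻¹]] (A[T;T⁻¹] ⊗[A[X]] M) :=
  Fintype.linearCombination A[T;T⁻¹]
    (fun i => (1 : A[T;T⁻¹]) ⊗ₜ[A[X]] f (Pi.single i 1))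

theorem beta_tmul (a : A[T;T⁻¹]) (m : M) : beta g (a ⊗ₜ[A[X]] m) = a • pv (g m) := rfl

theorem alpha_apply (x : Fin n → A[T;T⁻¹]) :
    alpha f x = ∑ i, x i • ((1 : A[T;T⁻¹]) ⊗ₜ[A[X]] f (Pi.single i 1)) := rfl

theorem plus_smul_one_tmul (p : A[X]) (m : M) :
    (plus p : A[T;T⁻¹]) • ((1 : A[T;T⁻¹]) ⊗ₜ[A[X]] m) = (1 : A[T;T⁻¹]) ⊗ₜ[A[X]] (p • m) := by
  rw [TensorProduct.smul_tmul', smul_eq_mul, mul_one, ← TensorProduct.smul_tmul]
  congr 1
  show plus p = Polynomial.toLaurent p * 1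
  rw [mul_one]
  rfl

theorem alpha_pv (v : Fin n → A[X]) : alpha f (pv v) = (1 : A[T;T⁻¹]) ⊗ₜ[A[X]] f v := by
  rw [alpha_apply]
  simp_rw [pv_apply, plus_smul_one_tmul, ← map_smul]
  rw [← TensorProduct.tmul_sum, ← map_sum]
  congr 2
  funext k
  simp [Finset.sum_apply, Pi.single_apply]

variable (hfg : f ∘ₗ g = LinearMap.id)

include hfg in
theorem alpha_beta (z : A[T;T⁻¹] ⊗[A[X]] M) : alpha f (beta g z) = z := by
  induction z using TensorProduct.induction_on with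
  | zero => simp
  | tmul a m =>
    rw [beta_tmul, map_smul, alpha_pv]
    have : f (g m) = m := LinearMap.congr_fun hfg m
    rw [this, TensorProduct.smul_tmul', smul_eq_mul, mul_one]
  | add x y hx hy => rw [map_add, map_add, hx, hy]

theorem beta_alpha (x : Fin n → A[T;T⁻¹]) :
    beta g (alpha f x) = (LinearMap.toMatrix' (g ∘ₗ f)).map plus *ᵥ x := by
  have h : (beta g) ∘ₗ (alpha f) =
      Matrix.mulVecLin ((LinearMap.toMatrix' (g ∘ₗ f)).map plus) := by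
    refine (Pi.basisFun A[T;T⁻¹] (Fin n)).ext fun i => ?_
    rw [Pi.basisFun_apply, LinearMap.comp_apply, Matrix.mulVecLin_apply,
      Matrix.mulVec_single_one]
    have : alpha f (Pi.single i 1) = (1 : A[T;T⁻¹]) ⊗ₜ[A[X]] f (Pi.single i 1) := by
      unfold alpha
      rw [Fintype.linearCombination_apply_single, one_smul]
    rw [this, beta_tmul, one_smul]
    funext k
    simp [pv_apply, LinearMap.toMatrix'_apply]
  exact LinearMap.congr_fun h x

end AlphaBeta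

section Entry

variable {A : Type*} [CommRing A]
variable {M : Type*} [AddCommGroup M] [Module A[X] M]
variable {N : Type*} [AddCommGroup N] [Module A[X] N]
variable {n n' : ℕ} (f : (Fin n → A[X]) →ₗ[A[X]] M) (g : M →ₗ[A[X]] (Fin n → A[X]))
variable (f' : (Fin n' → A[X]) →ₗ[A[X]] N) (g' : N →ₗ[A[X]] (Fin n' → A[X]))
variable (e : (A[T;T⁻¹] ⊗[A[X]] M) →ₛₗ[(LaurentPolynomial.invert (R := A)).toRingEquiv.toRingHom]
  (A[T;T⁻¹] ⊗[A[X]] N))

theorem e_smul (a : A[T;T⁻¹]) (z : A[T;T⁻¹] ⊗[A[X]] M) : e (a • z) = inv a • e z :=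
  map_smulₛₗ e a z

theorem inv_comp_smul {k : Type*} (a : A[T;T⁻¹]) (w : k → A[T;T⁻¹]) :
    (inv : A[T;T⁻¹] →+* A[T;T⁻¹]) ∘ (a • w) = inv a • ((inv : A[T;T⁻¹] →+* A[T;T⁻¹]) ∘ w) := by
  funext i
  simp

theorem inv_comp_add {k : Type*} (v w : k → A[T;T⁻¹]) :
    (inv : A[T;T⁻¹] →+* A[T;T⁻¹]) ∘ (v + w) =
      ((inv : A[T;T⁻¹] →+* A[T;T⁻¹]) ∘ v) + ((inv : A[T;T⁻¹] →+* A[T;T⁻¹]) ∘ w) := by
  funext i
  simp

theorem inv_comp_inv_comp {k : Type*} (w : k → A[T;T⁻¹]) :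
    (inv : A[T;T⁻¹] →+* A[T;T⁻¹]) ∘ ((inv : A[T;T⁻¹] →+* A[T;T⁻¹]) ∘ w) = w := by
  funext i
  exact inv_inv _

theorem inv_comp_mulVec {k l : Type*} [Fintype l] (F : Matrix k l A[X]) (v : l → A[T;T⁻¹]) :
    (inv : A[T;T⁻¹] →+* A[T;T⁻¹]) ∘ (F.map plus *ᵥ v) =
      F.map minus *ᵥ ((inv : A[T;T⁻¹] →+* A[T;T⁻¹]) ∘ v) := by
  funext i
  have := RingHom.map_mulVec (inv : A[T;T⁻¹] →+* A[T;T⁻¹]) (F.map plus) v i
  rw [Function.comp_apply, this]
  rfl

/-- The `L`-linear map underlying `G`. -/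
noncomputable def Gam : (Fin n → A[T;T⁻¹]) →ₗ[A[T;T⁻¹]] (Fin n' → A[T;T⁻¹]) where
  toFun x := (inv : A[T;T⁻¹] →+* A[T;T⁻¹]) ∘ (beta g' (e (alpha f x)))
  map_add' x y := by rw [map_add, map_add, map_add, inv_comp_add]
  map_smul' a x := by
    rw [map_smul, e_smul, map_smul, inv_comp_smul, inv_inv, RingHom.id_apply]

variable (einv : (A[T;T⁻¹] ⊗[A[X]] N) → (A[T;T⁻¹] ⊗[A[X]] M))
  (h1 : ∀ z, einv (e z) = z) (h2 : ∀ z, e (einv z) = z)

include h1 h2 in
theorem einv_add (x y : A[T;T⁻¹] ⊗[A[X]] N) : einv (x + y) = einv x + einv y := by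
  have hinj : Function.Injective e := Function.LeftInverse.injective h1
  apply hinj
  rw [map_add, h2, h2, h2]

include h1 h2 in
theorem einv_smul (a : A[T;T⁻¹]) (x : A[T;T⁻¹] ⊗[A[X]] N) :
    einv (a • x) = inv a • einv x := by
  have hinj : Function.Injective e := Function.LeftInverse.injective h1
  apply hinj
  rw [e_smul, h2, h2, inv_inv]

/-- The `L`-linear map underlying `H`. -/
noncomputable def Eta : (Fin n' → A[T;T⁻¹]) →ₗ[A[T;T⁻¹]] (Fin n → A[T;T⁻¹]) where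
  toFun y := beta g (einv (alpha f' ((inv : A[T;T⁻¹] →+* A[T;T⁻¹]) ∘ y)))
  map_add' x y := by rw [inv_comp_add, map_add, einv_add e einv h1 h2, map_add]
  map_smul' a x := by
    rw [inv_comp_smul, map_smul, einv_smul e einv h1 h2, map_smul, inv_inv, RingHom.id_apply]

theorem Gam_apply (x : Fin n → A[T;T⁻¹]) :
    Gam f g' e x = (inv : A[T;T⁻¹] →+* A[T;T⁻¹]) ∘ (beta g' (e (alpha f x))) := rfl

theorem Eta_apply (y : Fin n' → A[T;T⁻¹]) :
    Eta (g := g) (f' := f') (e := e) (einv := einv) h1 h2 y =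
      beta g (einv (alpha f' ((inv : A[T;T⁻¹] →+* A[T;T⁻¹]) ∘ y))) := rfl

variable (hfg : f ∘ₗ g = LinearMap.id) (hfg' : f' ∘ₗ g' = LinearMap.id)

include hfg' in
theorem Fm_Gam (x : Fin n → A[T;T⁻¹]) :
    (LinearMap.toMatrix' (g' ∘ₗ f')).map minus *ᵥ Gam f g' e x = Gam f g' e x := by
  rw [Gam_apply, ← inv_comp_mulVec, ← beta_alpha, alpha_beta f' g' hfg']

include hfg in
theorem Gam_Ep (x : Fin n → A[T;T⁻¹]) :
    Gam f g' e ((LinearMap.toMatrix' (g ∘ₗ f)).map plus *ᵥ x) = Gam f g' e x := by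
  rw [← beta_alpha, Gam_apply, Gam_apply, alpha_beta f g hfg]

include hfg' in
theorem Eta_Gam (x : Fin n → A[T;T⁻¹]) :
    Eta (g := g) (f' := f') (e := e) (einv := einv) h1 h2 (Gam f g' e x) =
      (LinearMap.toMatrix' (g ∘ₗ f)).map plus *ᵥ x := by
  rw [Eta_apply, Gam_apply, inv_comp_inv_comp, alpha_beta f' g' hfg', h1, beta_alpha]

include hfg in
theorem Gam_Eta (y : Fin n' → A[T;T⁻¹]) :
    Gam f g' e (Eta (g := g) (f' := f') (e := e) (einv := einv) h1 h2 y) =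
      (LinearMap.toMatrix' (g' ∘ₗ f')).map minus *ᵥ y := by
  rw [Eta_apply, Gam_apply, alpha_beta f g hfg, h2, beta_alpha, inv_comp_mulVec,
    inv_comp_inv_comp]

omit [Module A[X] M] in
theorem matrix_eq_of_mulVec {R : Type*} [CommRing R] {k l : Type*} [Fintype l] [DecidableEq l]
    {P Q : Matrix k l R} (h : ∀ x, P *ᵥ x = Q *ᵥ x) : P = Q := by
  refine Matrix.ext fun i j => ?_
  have := congrFun (h (Pi.single j 1)) i
  rwa [Matrix.mulVec_single_one, Matrix.mulVec_single_one] at this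

include hfg in
theorem toMatrix'_idem :
    LinearMap.toMatrix' (g ∘ₗ f) * LinearMap.toMatrix' (g ∘ₗ f) = LinearMap.toMatrix' (g ∘ₗ f) := by
  have : (g ∘ₗ f) ∘ₗ (g ∘ₗ f) = g ∘ₗ f := by
    refine LinearMap.ext fun x => ?_
    simp only [LinearMap.comp_apply]
    rw [show f (g (f x)) = f x from LinearMap.congr_fun hfg (f x)]
  rw [← LinearMap.toMatrix'_comp, this]

/-- The datum attached to a gluing. -/
noncomputable def mkDatum : Datum A (Fin n) (Fin n') where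
  E := LinearMap.toMatrix' (g ∘ₗ f)
  F := LinearMap.toMatrix' (g' ∘ₗ f')
  G := LinearMap.toMatrix' (Gam f g' e)
  H := LinearMap.toMatrix' (Eta (g := g) (f' := f') (e := e) (einv := einv) h1 h2)
  hE := toMatrix'_idem (f := f) (g := g) hfg
  hF := toMatrix'_idem (f := f') (g := g') hfg'
  hG1 := by
    apply matrix_eq_of_mulVec
    intro x
    rw [← Matrix.mulVec_mulVec, LinearMap.toMatrix'_mulVec]
    exact Fm_Gam (f := f) (g' := g') (f' := f') (e := e) hfg' x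
  hG2 := by
    apply matrix_eq_of_mulVec
    intro x
    rw [← Matrix.mulVec_mulVec, LinearMap.toMatrix'_mulVec, LinearMap.toMatrix'_mulVec]
    exact Gam_Ep (f := f) (g := g) (g' := g') (e := e) hfg x
  hHG := by
    apply matrix_eq_of_mulVec
    intro x
    rw [← Matrix.mulVec_mulVec, LinearMap.toMatrix'_mulVec, LinearMap.toMatrix'_mulVec]
    exact Eta_Gam (f := f) (g := g) (f' := f') (g' := g') (e := e) (einv := einv) h1 h2 hfg' x
  hGH := by
    apply matrix_eq_of_mulVec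
    intro y
    rw [← Matrix.mulVec_mulVec, LinearMap.toMatrix'_mulVec, LinearMap.toMatrix'_mulVec]
    exact Gam_Eta (f := f) (g := g) (f' := f') (g' := g') (e := e) (einv := einv) h1 h2 hfg y

theorem mkDatum_E :
    (mkDatum (f := f) (g := g) (f' := f') (g' := g') (e := e) (einv := einv) h1 h2 hfg hfg').E =
      LinearMap.toMatrix' (g ∘ₗ f) := rfl

end Entry

end Groth.Agent.Helper8.HQ
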