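import Mathlib
import Groth.Agent.Helper8.HQEntry

/-!
# From matrix equivalence back to modules (Horrocks–Quillen project)
-/

set_option autoImplicit false

namespace Groth.Agent.Helper8.HQ

open Polynomial Matrix TensorProduct

section Exit

variable {A : Type*} [CommRing A] {n : ℕ}
variable (E₀ : Matrix (Fin n) (Fin n) A)

/-- `v ↦ C ∘ v` on the image of `E₀`. -/
noncomputable def jC : LinearMap.range (Matrix.mulVecLin E₀) →ₗ[A] (Fin n → A[X]) where
  toFun v := fun i => C ((v : Fin n → A) i)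
  map_add' x y := by
    funext i
    simp
  map_smul' c x := by
    funext i
    simp [Polynomial.smul_eq_C_mul]

/-- `A[X] ⊗ P₀ → A[X]ⁿ`. -/
noncomputable def PhiMap :
    (A[X] ⊗[A] LinearMap.range (Matrix.mulVecLin E₀)) →ₗ[A[X]] (Fin n → A[X]) :=
  LinearMap.liftBaseChange A[X] (jC E₀)

/-- The generators of the image of `E₀`. -/
noncomputable def uGen (i : Fin n) : LinearMap.range (Matrix.mulVecLin E₀) :=
  ⟨Matrix.mulVecLin E₀ (Pi.single i 1), LinearMap.mem_range_self _ _⟩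

/-- `A[X]ⁿ → A[X] ⊗ P₀`. -/
noncomputable def PsiMap :
    (Fin n → A[X]) →ₗ[A[X]] (A[X] ⊗[A] LinearMap.range (Matrix.mulVecLin E₀)) :=
  Fintype.linearCombination A[X] (fun i => (1 : A[X]) ⊗ₜ[A] uGen E₀ i)

theorem PhiMap_tmul (p : A[X]) (v : LinearMap.range (Matrix.mulVecLin E₀)) :
    PhiMap E₀ (p ⊗ₜ[A] v) = p • jC E₀ v := rfl

theorem PsiMap_apply (w : Fin n → A[X]) :
    PsiMap E₀ w = ∑ i, w i • ((1 : A[X]) ⊗ₜ[A] uGen E₀ i) := rfl

theorem PhiMap_PsiMap (w : Fin n → A[X]) : PhiMap E₀ (PsiMap E₀ w) = E₀.map C *ᵥ w := by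
  have h : (PhiMap E₀) ∘ₗ (PsiMap E₀) = Matrix.mulVecLin (E₀.map C) := by
    refine (Pi.basisFun A[X] (Fin n)).ext fun i => ?_
    rw [Pi.basisFun_apply, LinearMap.comp_apply, Matrix.mulVecLin_apply,
      Matrix.mulVec_single_one]
    have : PsiMap E₀ (Pi.single i 1) = (1 : A[X]) ⊗ₜ[A] uGen E₀ i := by
      unfold PsiMap
      rw [Fintype.linearCombination_apply_single, one_smul]
    rw [this, PhiMap_tmul, one_smul]
    funext k
    simp [jC, uGen]
  exact LinearMap.congr_fun h w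

variable (hE₀ : E₀ * E₀ = E₀)

include hE₀ in
theorem sum_smul_uGen (v : LinearMap.range (Matrix.mulVecLin E₀)) :
    ∑ i, ((v : Fin n → A) i) • uGen E₀ i = v := by
  apply Subtype.ext
  rw [Submodule.coe_sum]
  simp only [Submodule.coe_smul, uGen]
  simp_rw [← map_smul]
  rw [← map_sum]
  have h1 : ∑ i, ((v : Fin n → A) i) • (Pi.single i 1 : Fin n → A) = (v : Fin n → A) := by
    funext k
    simp [Finset.sum_apply, Pi.single_apply]
  rw [h1]
  obtain ⟨w, hw⟩ := v.2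
  rw [← hw, Matrix.mulVecLin_apply, Matrix.mulVecLin_apply, Matrix.mulVec_mulVec, hE₀]

include hE₀ in
theorem PsiMap_PhiMap (x : A[X] ⊗[A] LinearMap.range (Matrix.mulVecLin E₀)) :
    PsiMap E₀ (PhiMap E₀ x) = x := by
  induction x using TensorProduct.induction_on with
  | zero => simp
  | tmul p v =>
    rw [PhiMap_tmul, map_smul, PsiMap_apply]
    have h1 : ∀ i, (jC E₀ v i) • ((1 : A[X]) ⊗ₜ[A] uGen E₀ i) =
        (1 : A[X]) ⊗ₜ[A] (((v : Fin n → A) i) • uGen E₀ i) := by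
      intro i
      show (C ((v : Fin n → A) i)) • ((1 : A[X]) ⊗ₜ[A] uGen E₀ i) = _
      rw [TensorProduct.smul_tmul', smul_eq_mul, mul_one, ← TensorProduct.smul_tmul,
        Polynomial.smul_eq_C_mul, mul_one]
    simp_rw [h1]
    rw [← TensorProduct.tmul_sum, sum_smul_uGen E₀ hE₀, TensorProduct.smul_tmul', smul_eq_mul,
      mul_one]
  | add x y hx hy => rw [map_add, map_add, hx, hy]

end Exit

section ExitMain

universe u

variable {A : Type u} [CommRing A] {M : Type u} [AddCommGroup M] [Module A[X] M] {n : ℕ}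
variable (f : (Fin n → A[X]) →ₗ[A[X]] M) (g : M →ₗ[A[X]] (Fin n → A[X]))
variable (hfg : f ∘ₗ g = LinearMap.id)

include hfg in
theorem exists_extended_of_idemEquiv
    (h : IdemEquiv (LinearMap.toMatrix' (g ∘ₗ f)) (cst.mapMatrix (LinearMap.toMatrix' (g ∘ₗ f)))) :
    ∃ (P : Type u) (_ : AddCommGroup P) (_ : Module A P),
      Nonempty (M ≃ₗ[A[X]] (A[X] ⊗[A] P)) := by
  obtain ⟨a, b, hab, hba⟩ := h
  obtain ⟨E, hEdef⟩ : ∃ E, E = LinearMap.toMatrix' (g ∘ₗ f) := ⟨_, rfl⟩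
  rw [← hEdef] at hab hba
  have hE : E * E = E := by rw [hEdef]; exact toMatrix'_idem (f := f) (g := g) hfg
  have hEv : ∀ v, E *ᵥ v = g (f v) := fun v => by
    rw [hEdef, LinearMap.toMatrix'_mulVec]; rfl
  obtain ⟨E₀, hE₀def⟩ : ∃ E₀, E₀ = (evalRingHom (0 : A)).mapMatrix E := ⟨_, rfl⟩
  have hE₀ : E₀ * E₀ = E₀ := by rw [hE₀def, ← map_mul, hE]
  have hcst : cst.mapMatrix E = E₀.map C := by
    rw [hE₀def]
    rfl
  rw [hcst] at hba
  refine ⟨LinearMap.range (Matrix.mulVecLin E₀), inferInstance, inferInstance, ⟨?_⟩⟩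
  refine LinearEquiv.ofLinearMap
    ((PsiMap E₀) ∘ₗ (Matrix.mulVecLin b) ∘ₗ g)
    (f ∘ₗ (Matrix.mulVecLin a) ∘ₗ (PhiMap E₀)) ?_ ?_
  · refine LinearMap.ext fun x => ?_
    simp only [LinearMap.comp_apply, Matrix.mulVecLin_apply, LinearMap.id_apply]
    rw [← hEv, Matrix.mulVec_mulVec, Matrix.mulVec_mulVec]
    have h1 : b * E * a = E₀.map C := by
      rw [← hab]
      calc b * (a * b) * a = (b * a) * (b * a) := by simp only [Matrix.mul_assoc]
        _ = E₀.map C := by rw [hba, ← Matrix.map_mul, hE₀]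
    rw [h1, ← PhiMap_PsiMap, PsiMap_PhiMap E₀ hE₀, PsiMap_PhiMap E₀ hE₀]
  · refine LinearMap.ext fun m => ?_
    simp only [LinearMap.comp_apply, Matrix.mulVecLin_apply, LinearMap.id_apply]
    rw [PhiMap_PsiMap, Matrix.mulVec_mulVec, Matrix.mulVec_mulVec]
    have h1 : a * E₀.map C * b = E := by
      rw [← hba]
      calc a * (b * a) * b = (a * b) * (a * b) := by simp only [Matrix.mul_assoc]
        _ = E := by rw [hab, hE]
    rw [h1, hEv]
    have h2 : ∀ m, f (g m) = m := fun m => LinearMap.congr_fun hfg m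
    rw [h2, h2]

end ExitMain

end Groth.Agent.Helper8.HQ
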