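import Mathlib
import Groth.Agent.Helper8.HQExit

/-!
# The Horrocks–Quillen theorem

A finitely generated projective `A[X]`-module is extended from `A` iff it extends to a vector bundle
on the projective line over `A`.
-/

set_option autoImplicit false

namespace Groth.Agent.Helper8.HQ

open Polynomial LaurentPolynomial Matrix TensorProduct

section Forward

universe u

variable {A : Type u} [CommRing A]

instance isScalarTower_laurent : IsScalarTower A A[X] A[T;T⁻¹] :=
  IsScalarTower.of_algebraMap_eq fun a => by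
    rw [← LaurentPolynomial.C_eq_algebraMap, ← Polynomial.C_eq_algebraMap,
      LaurentPolynomial.algebraMap_eq_toLaurent, Polynomial.toLaurent_C]

variable {M : Type u} [AddCommGroup M] [Module A[X] M]
variable {P₀ : Type u} [AddCommGroup P₀] [Module A P₀]

/-- `T ↦ T⁻¹` on `L ⊗[A] P₀`. -/
noncomputable def iotaMap : (A[T;T⁻¹] ⊗[A] P₀) →ₗ[A] (A[T;T⁻¹] ⊗[A] P₀) :=
  TensorProduct.map (LaurentPolynomial.invert (R := A)).toLinearMap LinearMap.id

theorem iotaMap_tmul (b : A[T;T⁻¹]) (p : P₀) :
    iotaMap (b ⊗ₜ[A] p) = LaurentPolynomial.invert b ⊗ₜ[A] p := rfl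

theorem iotaMap_smul (a : A[T;T⁻¹]) (w : A[T;T⁻¹] ⊗[A] P₀) :
    iotaMap (a • w) = LaurentPolynomial.invert a • iotaMap w := by
  induction w using TensorProduct.induction_on with
  | zero => simp
  | tmul b p =>
    rw [TensorProduct.smul_tmul', iotaMap_tmul, iotaMap_tmul, TensorProduct.smul_tmul',
      smul_eq_mul, smul_eq_mul, map_mul]
  | add x y hx hy => rw [smul_add, map_add, map_add, hx, hy, smul_add]

theorem iotaMap_iotaMap (w : A[T;T⁻¹] ⊗[A] P₀) : iotaMap (iotaMap w) = w := by
  induction w using TensorProduct.induction_on with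
  | zero => simp
  | tmul b p =>
    rw [iotaMap_tmul, iotaMap_tmul, LaurentPolynomial.involutive_invert b]
  | add x y hx hy => rw [map_add, map_add, hx, hy]

variable (φ : M ≃ₗ[A[X]] (A[X] ⊗[A] P₀))

/-- `L ⊗[A[X]] M ≃ L ⊗[A] P₀`. -/
noncomputable def psiEquiv : (A[T;T⁻¹] ⊗[A[X]] M) ≃ₗ[A[T;T⁻¹]] (A[T;T⁻¹] ⊗[A] P₀) :=
  (TensorProduct.AlgebraTensorModule.congr (LinearEquiv.refl A[T;T⁻¹] A[T;T⁻¹]) φ) ≪≫ₗ
    TensorProduct.AlgebraTensorModule.cancelBaseChange A A[X] A[T;T⁻¹] A[T;T⁻¹] P₀

/-- The semilinear involution of `L ⊗[A[X]] M` for an extended module `M`. -/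
noncomputable def forwardMap :
    (A[T;T⁻¹] ⊗[A[X]] M) →ₛₗ[(LaurentPolynomial.invert (R := A)).toRingEquiv.toRingHom]
      (A[T;T⁻¹] ⊗[A[X]] M) where
  toFun z := (psiEquiv φ).symm (iotaMap (psiEquiv φ z))
  map_add' x y := by rw [map_add, map_add, map_add]
  map_smul' a z := by
    rw [map_smul, iotaMap_smul, map_smul]
    rfl

theorem forwardMap_apply (z : A[T;T⁻¹] ⊗[A[X]] M) :
    forwardMap φ z = (psiEquiv φ).symm (iotaMap (psiEquiv φ z)) := rfl

theorem forwardMap_bijective : Function.Bijective (forwardMap φ) := by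
  have hinv : Function.Involutive (forwardMap φ) := by
    intro z
    rw [forwardMap_apply, forwardMap_apply, LinearEquiv.apply_symm_apply, iotaMap_iotaMap,
      LinearEquiv.symm_apply_apply]
  exact hinv.bijective

end Forward

section Main

universe u

/-- **Horrocks–Quillen**: a finitely generated projective `A[X]`-module is extended from `A` if and
only if it extends to the projective line. -/
theorem horrocks_quillen (A : Type u) [CommRing A] (M : Type u) [AddCommGroup M] [Module A[X] M]
    [Module.Finite A[X] M] [Module.Projective A[X] M] :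
    (∃ (P : Type u) (_ : AddCommGroup P) (_ : Module A P),
        Nonempty (M ≃ₗ[A[X]] (A[X] ⊗[A] P))) ↔
      ∃ (N : Type u) (_ : AddCommGroup N) (_ : Module A[X] N),
        Module.Finite A[X] N ∧ Module.Projective A[X] N ∧
        ∃ e : (A[T;T⁻¹] ⊗[A[X]] M) →ₛₗ[(LaurentPolynomial.invert (R := A)).toRingEquiv.toRingHom]
            (A[T;T⁻¹] ⊗[A[X]] N), Function.Bijective e := by
  constructor
  · rintro ⟨P₀, _, _, ⟨φ⟩⟩
    exact ⟨M, inferInstance, inferInstance, inferInstance, inferInstance, forwardMap φ,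
      forwardMap_bijective φ⟩
  · rintro ⟨N, _, _, hfin, hproj, e, he⟩
    obtain ⟨n, f, g, -, -, hfg⟩ := Module.Finite.exists_comp_eq_id_of_projective A[X] M
    obtain ⟨n', f', g', -, -, hfg'⟩ := Module.Finite.exists_comp_eq_id_of_projective A[X] N
    have h1 : ∀ z, (Equiv.ofBijective e he).symm (e z) = z := fun z =>
      (Equiv.ofBijective e he).symm_apply_apply z
    have h2 : ∀ z, e ((Equiv.ofBijective e he).symm z) = z := fun z =>
      (Equiv.ofBijective e he).apply_symm_apply z
    have hD := (mkDatum (f := f) (g := g) (f' := f') (g' := g') (e := e)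
      (einv := (Equiv.ofBijective e he).symm) h1 h2 hfg hfg').idemEquiv_cst
    rw [mkDatum_E] at hD
    exact exists_extended_of_idemEquiv f g hfg hD

end Main

end Groth.Agent.Helper8.HQ
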