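import Mathlib
import Groth.Agent.Helper8.HQMain

/-!
# Corollaries of Horrocks–Quillen: local freeness over a cover of the base
-/

set_option autoImplicit false

namespace Groth.Agent.Helper8.HQ

open Polynomial LaurentPolynomial Matrix TensorProduct

section Refined

universe u

variable {A : Type u} [CommRing A] {M : Type u} [AddCommGroup M] [Module A[X] M] {n : ℕ}
variable (f : (Fin n → A[X]) →ₗ[A[X]] M) (g : M →ₗ[A[X]] (Fin n → A[X]))
variable (hfg : f ∘ₗ g = LinearMap.id)

include hfg in
theorem exists_extended_range_of_idemEquiv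
    (h : IdemEquiv (LinearMap.toMatrix' (g ∘ₗ f)) (cst.mapMatrix (LinearMap.toMatrix' (g ∘ₗ f)))) :
    ∃ E₀ : Matrix (Fin n) (Fin n) A, E₀ * E₀ = E₀ ∧
      Nonempty (M ≃ₗ[A[X]] (A[X] ⊗[A] LinearMap.range (Matrix.mulVecLin E₀))) := by
  obtain ⟨a, b, hab, hba⟩ := h
  obtain ⟨E, hEdef⟩ : ∃ E, E = LinearMap.toMatrix' (g ∘ₗ f) := ⟨_, rfl⟩
  rw [← hEdef] at hab hba
  have hE : E * E = E := by rw [hEdef]; exact toMatrix'_idem (f := f) (g := g) hfg
  have hEv : ∀ v, E *ᵥ v = g (f v) := fun v => by
    rw [hEdef, LinearMap.toMatrix'_mulVec]; rfl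
  obtain ⟨E₀, hE₀def⟩ : ∃ E₀, E₀ = (evalRingHom (0 : A)).mapMatrix E := ⟨_, rfl⟩
  have hE₀ : E₀ * E₀ = E₀ := by rw [hE₀def, ← map_mul, hE]
  have hcst : cst.mapMatrix E = E₀.map Polynomial.C := by
    rw [hE₀def]
    rfl
  rw [hcst] at hba
  refine ⟨E₀, hE₀, ⟨?_⟩⟩
  refine LinearEquiv.ofLinearMap
    ((PsiMap E₀) ∘ₗ (Matrix.mulVecLin b) ∘ₗ g)
    (f ∘ₗ (Matrix.mulVecLin a) ∘ₗ (PhiMap E₀)) ?_ ?_
  · refine LinearMap.ext fun x => ?_
    simp only [LinearMap.comp_apply, Matrix.mulVecLin_apply, LinearMap.id_apply]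
    rw [← hEv, Matrix.mulVec_mulVec, Matrix.mulVec_mulVec]
    have h1 : b * E * a = E₀.map Polynomial.C := by
      rw [← hab]
      calc b * (a * b) * a = (b * a) * (b * a) := by simp only [Matrix.mul_assoc]
        _ = E₀.map Polynomial.C := by rw [hba, ← Matrix.map_mul, hE₀]
    rw [h1, ← PhiMap_PsiMap, PsiMap_PhiMap E₀ hE₀, PsiMap_PhiMap E₀ hE₀]
  · refine LinearMap.ext fun m => ?_
    simp only [LinearMap.comp_apply, Matrix.mulVecLin_apply, LinearMap.id_apply]
    rw [PhiMap_PsiMap, Matrix.mulVec_mulVec, Matrix.mulVec_mulVec]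
    have h1 : a * E₀.map Polynomial.C * b = E := by
      rw [← hba]
      calc a * (b * a) * b = (a * b) * (a * b) := by simp only [Matrix.mul_assoc]
        _ = E := by rw [hab, hE]
    rw [h1, hEv]
    have h2 : ∀ m, f (g m) = m := fun m => LinearMap.congr_fun hfg m
    rw [h2, h2]

/-- Horrocks–Quillen with an explicit finitely generated projective module. -/
theorem horrocks_quillen_range (A : Type u) [CommRing A] (M : Type u) [AddCommGroup M]
    [Module A[X] M] [Module.Finite A[X] M] [Module.Projective A[X] M]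
    (N : Type u) [AddCommGroup N] [Module A[X] N] [Module.Finite A[X] N]
    [Module.Projective A[X] N]
    (e : (A[T;T⁻¹] ⊗[A[X]] M) →ₛₗ[(LaurentPolynomial.invert (R := A)).toRingEquiv.toRingHom]
      (A[T;T⁻¹] ⊗[A[X]] N)) (he : Function.Bijective e) :
    ∃ (n : ℕ) (E₀ : Matrix (Fin n) (Fin n) A), E₀ * E₀ = E₀ ∧
      Nonempty (M ≃ₗ[A[X]] (A[X] ⊗[A] LinearMap.range (Matrix.mulVecLin E₀))) := by
  obtain ⟨n, f, g, -, -, hfg⟩ := Module.Finite.exists_comp_eq_id_of_projective A[X] M
  obtain ⟨n', f', g', -, -, hfg'⟩ := Module.Finite.exists_comp_eq_id_of_projective A[X] N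
  have h1 : ∀ z, (Equiv.ofBijective e he).symm (e z) = z := fun z =>
    (Equiv.ofBijective e he).symm_apply_apply z
  have h2 : ∀ z, e ((Equiv.ofBijective e he).symm z) = z := fun z =>
    (Equiv.ofBijective e he).apply_symm_apply z
  have hD := (mkDatum (f := f) (g := g) (f' := f') (g' := g') (e := e)
    (einv := (Equiv.ofBijective e he).symm) h1 h2 hfg hfg').idemEquiv_cst
  rw [mkDatum_E] at hD
  exact ⟨n, exists_extended_range_of_idemEquiv f g hfg hD⟩

end Refined

section Proj

variable {R : Type*} [CommRing R] {n : ℕ} (E₀ : Matrix (Fin n) (Fin n) R) (hE₀ : E₀ * E₀ = E₀)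

instance range_finite : Module.Finite R (LinearMap.range (Matrix.mulVecLin E₀)) :=
  Module.Finite.range _

include hE₀ in
theorem range_projective : Module.Projective R (LinearMap.range (Matrix.mulVecLin E₀)) := by
  refine Module.Projective.of_split (LinearMap.range (Matrix.mulVecLin E₀)).subtype
    (Matrix.mulVecLin E₀).rangeRestrict ?_
  refine LinearMap.ext fun v => ?_
  apply Subtype.ext
  obtain ⟨w, hw⟩ := v.2
  show Matrix.mulVecLin E₀ (v : Fin n → R) = v
  rw [← hw, Matrix.mulVecLin_apply, Matrix.mulVecLin_apply, Matrix.mulVec_mulVec, hE₀]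

end Proj

section Cover

variable {R : Type*} [CommRing R] (Q : Type*) [AddCommGroup Q] [Module R Q]
  [Module.Finite R Q] [Module.Projective R Q]

/-- A finitely generated projective module is free on a finite cover by basic open sets. -/
theorem exists_cover_free :
    ∃ (n : ℕ) (g : Fin n → R), Ideal.span (Set.range g) = ⊤ ∧
      ∀ i, Module.Free (Localization.Away (g i)) (LocalizedModule (Submonoid.powers (g i)) Q) := by
  classical
  have hfp : Module.FinitePresentation R Q := Module.finitePresentation_of_projective R Q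
  have hspan : Ideal.span {g : R | Module.Free (Localization.Away g)
      (LocalizedModule (Submonoid.powers g) Q)} = ⊤ := by
    by_contra hne
    obtain ⟨m, hm, hle⟩ := Ideal.exists_le_maximal _ hne
    have hfree : Module.Free (Localization.AtPrime m) (LocalizedModule m.primeCompl Q) :=
      Module.free_of_flat_of_isLocalRing
    obtain ⟨r, hr, hr', -⟩ := Module.FinitePresentation.exists_free_localizedModule_powers
      m.primeCompl (LocalizedModule.mkLinearMap m.primeCompl Q) (Localization.AtPrime m)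
    exact hr (hle (Ideal.subset_span hr'))
  obtain ⟨s', hs', hs'top⟩ := (Ideal.span_eq_top_iff_finite _).mp hspan
  refine ⟨s'.card, fun i => (s'.equivFin.symm i : R), ?_, fun i => ?_⟩
  · have : Set.range (fun i => (s'.equivFin.symm i : R)) = (s' : Set R) := by
      ext x
      constructor
      · rintro ⟨i, rfl⟩
        exact (s'.equivFin.symm i).2
      · intro hx
        exact ⟨s'.equivFin ⟨x, hx⟩, by simp⟩
    rw [this, hs'top]
  · exact hs' (s'.equivFin.symm i).2

end Cover

end Groth.Agent.Helper8.HQ
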