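import Mathlib
import Groth.Agent.Helper8.HQCor

/-!
# Freeness of an extended module over a cover of the base (for S15499)
-/

set_option autoImplicit false

namespace Groth.Agent.Helper8.HQ

open Polynomial LaurentPolynomial Matrix TensorProduct

section FreeBC

variable {R : Type*} [CommRing R] {B : Type*} [CommRing B] [Algebra R B] (g : R)
variable (Q : Type*) [AddCommGroup Q] [Module R Q]

theorem free_tensor_of_free_away (hg : IsUnit (algebraMap R B g))
    [hfree : Module.Free (Localization.Away g) (LocalizedModule (Submonoid.powers g) Q)] :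
    Module.Free B (B ⊗[R] Q) := by
  letI : Algebra (Localization.Away g) B := (IsLocalization.Away.lift g hg).toAlgebra
  haveI : IsScalarTower R (Localization.Away g) B := IsScalarTower.of_algebraMap_eq fun r => by
    show algebraMap R B r = IsLocalization.Away.lift g hg (algebraMap R (Localization.Away g) r)
    rw [IsLocalization.Away.lift_eq]
  have e1 : (Localization.Away g ⊗[R] Q) ≃ₗ[Localization.Away g]
      LocalizedModule (Submonoid.powers g) Q :=
    (IsLocalizedModule.isBaseChange (Submonoid.powers g) (Localization.Away g)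
      (LocalizedModule.mkLinearMap (Submonoid.powers g) Q)).equiv
  haveI : Module.Free (Localization.Away g) (Localization.Away g ⊗[R] Q) :=
    Module.Free.of_equiv e1.symm
  have e2 : (B ⊗[Localization.Away g] (Localization.Away g ⊗[R] Q)) ≃ₗ[B] B ⊗[R] Q :=
    TensorProduct.AlgebraTensorModule.cancelBaseChange R (Localization.Away g) B B Q
  exact Module.Free.of_equiv e2

end FreeBC

section Ext

universe u

theorem free_localizedModule_of_extended {R : Type u} [CommRing R] (P : Type u) [AddCommGroup P]
    [Module R[X] P] (Q : Type u) [AddCommGroup Q] [Module R Q]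
    (φ : P ≃ₗ[R[X]] (R[X] ⊗[R] Q)) (g : R)
    [Module.Free (Localization.Away g) (LocalizedModule (Submonoid.powers g) Q)] :
    Module.Free (Localization.Away (Polynomial.C g : R[X]))
      (LocalizedModule (Submonoid.powers (Polynomial.C g : R[X])) P) := by
  have hunit : IsUnit (algebraMap R (Localization.Away (Polynomial.C g : R[X])) g) := by
    rw [IsScalarTower.algebraMap_apply R R[X] (Localization.Away (Polynomial.C g : R[X]))]
    exact IsLocalization.Away.algebraMap_isUnit (Polynomial.C g)
  haveI : Module.Free (Localization.Away (Polynomial.C g : R[X]))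
      (Localization.Away (Polynomial.C g : R[X]) ⊗[R] Q) := free_tensor_of_free_away g Q hunit
  have e1 : (Localization.Away (Polynomial.C g : R[X]) ⊗[R[X]] P)
      ≃ₗ[Localization.Away (Polynomial.C g : R[X])]
      LocalizedModule (Submonoid.powers (Polynomial.C g : R[X])) P :=
    (IsLocalizedModule.isBaseChange (Submonoid.powers (Polynomial.C g : R[X]))
      (Localization.Away (Polynomial.C g : R[X]))
      (LocalizedModule.mkLinearMap (Submonoid.powers (Polynomial.C g : R[X])) P)).equiv
  have e2 : (Localization.Away (Polynomial.C g : R[X]) ⊗[R[X]] P)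
      ≃ₗ[Localization.Away (Polynomial.C g : R[X])]
      (Localization.Away (Polynomial.C g : R[X]) ⊗[R[X]] (R[X] ⊗[R] Q)) :=
    TensorProduct.AlgebraTensorModule.congr
      (LinearEquiv.refl (Localization.Away (Polynomial.C g : R[X]))
        (Localization.Away (Polynomial.C g : R[X]))) φ
  have e3 : (Localization.Away (Polynomial.C g : R[X]) ⊗[R[X]] (R[X] ⊗[R] Q))
      ≃ₗ[Localization.Away (Polynomial.C g : R[X])]
      (Localization.Away (Polynomial.C g : R[X]) ⊗[R] Q) :=
    TensorProduct.AlgebraTensorModule.cancelBaseChange R R[X]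
      (Localization.Away (Polynomial.C g : R[X])) (Localization.Away (Polynomial.C g : R[X])) Q
  exact Module.Free.of_equiv (e3.symm ≪≫ₗ e2.symm ≪≫ₗ e1)

/-- The corollary: a bundle on the projective line over `R` is, on the affine line, free over a
finite cover of `Spec R` by basic open sets. -/
theorem exists_cover_free_of_glues (R : Type u) [CommRing R]
    (P : Type u) [AddCommGroup P] [Module R[X] P] [Module.Finite R[X] P]
    [Module.Projective R[X] P]
    (P' : Type u) [AddCommGroup P'] [Module R[X] P'] [Module.Finite R[X] P']
    [Module.Projective R[X] P']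
    (e : R[T;T⁻¹] ⊗[R[X]] P ≃+ R[T;T⁻¹] ⊗[R[X]] P')
    (he : ∀ (a : R[T;T⁻¹]) (m : R[T;T⁻¹] ⊗[R[X]] P),
      e (a • m) = LaurentPolynomial.invert a • e m) :
    ∃ (n : ℕ) (g : Fin n → R), Ideal.span (Set.range g) = ⊤ ∧
      ∀ i, Module.Free (Localization.Away (Polynomial.C (g i) : R[X]))
        (LocalizedModule (Submonoid.powers (Polynomial.C (g i) : R[X])) P) := by
  obtain ⟨n, E₀, hE₀, ⟨φ⟩⟩ := horrocks_quillen_range R P P'
    { toFun := e, map_add' := e.map_add, map_smul' := he } e.bijective
  haveI := range_projective E₀ hE₀
  obtain ⟨k, g, hspan, hfree⟩ := exists_cover_free (R := R) (LinearMap.range (Matrix.mulVecLin E₀))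
  refine ⟨k, g, hspan, fun i => ?_⟩
  haveI := hfree i
  exact free_localizedModule_of_extended P _ φ (g i)

end Ext

end Groth.Agent.Helper8.HQ
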