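import Mathlib
import Groth.Agent.Helper8.HQMonicA
import Groth.Agent.Helper8.HQGlobal

/-!
# Descent of isomorphism classes of projective modules along `A → A(t)`
(localization of `A[t]` at the monic polynomials), via Horrocks–Quillen in matrix form.
-/

set_option autoImplicit false

universe u

namespace Groth.Agent.Helper8.HQ

open Polynomial Matrix TensorProduct

section Clear

variable {A : Type*} [CommRing A] (M : Submonoid A[X]) (hM : ∀ f : A[X], f ∈ M ↔ f.Monic)
variable (At : Type*) [CommRing At] [Algebra A[X] At] [IsLocalization M At]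
variable {n m : Type*} [Fintype n] [Fintype m] [DecidableEq n] [DecidableEq m]

include hM in
/-- Clearing monic denominators in a rectangular equivalence over `A(t)`. -/
theorem exists_monic_clear (p : Matrix n n A[X]) (q : Matrix m m A[X]) (a' : Matrix n m At)
    (b' : Matrix m n At) (hab : a' * b' = p.map (algebraMap A[X] At))
    (hba : b' * a' = q.map (algebraMap A[X] At)) :
    ∃ (F : A[X]) (a₀ : Matrix n m A[X]) (b₀ : Matrix m n A[X]), F.Monic ∧
      a₀ * b₀ = F • p ∧ b₀ * a₀ = F • q := by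
  have hinj : Function.Injective (algebraMap A[X] At) :=
    IsLocalization.injective At (fun f hf => ((hM f).mp hf).mem_nonZeroDivisors)
  obtain ⟨F₁, hF₁⟩ := IsLocalization.exist_integer_multiples_of_finite M
    (fun ij : n × m => a' ij.1 ij.2)
  obtain ⟨F₂, hF₂⟩ := IsLocalization.exist_integer_multiples_of_finite M
    (fun ij : m × n => b' ij.1 ij.2)
  choose x hx using hF₁
  choose y hy using hF₂
  have e1 : (Matrix.of fun i j => x (i, j)).map (algebraMap A[X] At) =
      algebraMap A[X] At F₁ • a' := by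
    ext i j
    have := hx (i, j)
    rw [Algebra.smul_def] at this
    simp only [Matrix.map_apply, Matrix.of_apply, Matrix.smul_apply, smul_eq_mul]
    exact this
  have e2 : (Matrix.of fun i j => y (i, j)).map (algebraMap A[X] At) =
      algebraMap A[X] At F₂ • b' := by
    ext i j
    have := hy (i, j)
    rw [Algebra.smul_def] at this
    simp only [Matrix.map_apply, Matrix.of_apply, Matrix.smul_apply, smul_eq_mul]
    exact this
  refine ⟨F₁ * F₂, Matrix.of fun i j => x (i, j), Matrix.of fun i j => y (i, j),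
    ((hM _).mp F₁.2).mul ((hM _).mp F₂.2), ?_, ?_⟩
  · apply Matrix.map_injective hinj
    dsimp only
    rw [Matrix.map_mul, e1, e2, Matrix.smul_mul, Matrix.mul_smul, hab, smul_smul]
    ext i j
    simp only [Matrix.map_apply, Matrix.smul_apply, smul_eq_mul, map_mul]
  · apply Matrix.map_injective hinj
    dsimp only
    rw [Matrix.map_mul, e1, e2, Matrix.smul_mul, Matrix.mul_smul, hba, smul_smul]
    ext i j
    simp only [Matrix.map_apply, Matrix.smul_apply, smul_eq_mul, map_mul]
    ring

end Clear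

section Reverse

variable {A : Type*} [CommRing A] {n m : Type*} [Fintype n] [Fintype m]
  [DecidableEq n] [DecidableEq m]

theorem reflect_sum' {ι : Type*} (s : Finset ι) (f : ι → A[X]) (N : ℕ) :
    reflect N (∑ i ∈ s, f i) = ∑ i ∈ s, reflect N (f i) := by
  classical
  induction s using Finset.induction_on with
  | empty => simp
  | insert a s ha ih => rw [Finset.sum_insert ha, Finset.sum_insert ha, reflect_add, ih]

theorem map_reflect_mul {l : Type*} [Fintype l] (a₀ : Matrix n l A[X]) (b₀ : Matrix l m A[X])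
    (N : ℕ) (hNa : ∀ i j, (a₀ i j).natDegree ≤ N) (hNb : ∀ i j, (b₀ i j).natDegree ≤ N) :
    a₀.map (reflect N) * b₀.map (reflect N) = (a₀ * b₀).map (reflect (N + N)) := by
  refine Matrix.ext fun i k => ?_
  simp only [Matrix.mul_apply, Matrix.map_apply]
  rw [reflect_sum']
  refine Finset.sum_congr rfl fun j _ => ?_
  rw [reflect_mul _ _ (hNa i j) (hNb j k)]

/-- Reversal: pass from the coordinate `t` to `s = 1/t`. -/
theorem exists_reversed (p : Matrix n n A) (q : Matrix m m A) (F : A[X]) (hF : F.Monic)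
    (a₀ : Matrix n m A[X]) (b₀ : Matrix m n A[X]) (hab : a₀ * b₀ = F • p.map C)
    (hba : b₀ * a₀ = F • q.map C) :
    ∃ (k : ℕ) (g : A[X]) (a : Matrix n m A[X]) (b : Matrix m n A[X]), g.eval 0 = 1 ∧
      a * b = (X ^ k * g) • p.map C ∧ b * a = (X ^ k * g) • q.map C := by
  obtain ⟨N, hNa, hNb, hNF⟩ : ∃ N : ℕ, (∀ i j, (a₀ i j).natDegree ≤ N) ∧
      (∀ i j, (b₀ i j).natDegree ≤ N) ∧ F.natDegree ≤ N := by
    refine ⟨(Finset.univ.sup fun ij : n × m => (a₀ ij.1 ij.2).natDegree) ⊔
      (Finset.univ.sup fun ij : m × n => (b₀ ij.1 ij.2).natDegree) ⊔ F.natDegree, ?_, ?_, ?_⟩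
    · intro i j
      exact le_sup_of_le_left (le_sup_of_le_left
        (Finset.le_sup (f := fun ij : n × m => (a₀ ij.1 ij.2).natDegree)
          (Finset.mem_univ (i, j))))
    · intro i j
      exact le_sup_of_le_left (le_sup_of_le_right
        (Finset.le_sup (f := fun ij : m × n => (b₀ ij.1 ij.2).natDegree)
          (Finset.mem_univ (i, j))))
    · exact le_sup_right
  obtain ⟨k, hk⟩ : ∃ k, N + N = F.natDegree + k := ⟨N + N - F.natDegree, by omega⟩
  have key : ∀ (c : A), reflect (N + N) (F * C c) = X ^ k * F.reverse * C c := by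
    intro c
    rw [hk, reflect_mul _ _ le_rfl ((natDegree_C c).le.trans (Nat.zero_le k)), reflect_C]
    unfold reverse
    ring
  refine ⟨k, F.reverse, a₀.map (reflect N), b₀.map (reflect N), ?_, ?_, ?_⟩
  · rw [← coeff_zero_eq_eval_zero, coeff_zero_reverse, hF.leadingCoeff]
  · rw [map_reflect_mul _ _ N hNa hNb, hab]
    refine Matrix.ext fun i l => ?_
    simp only [Matrix.map_apply, Matrix.smul_apply, smul_eq_mul]
    exact key _
  · rw [map_reflect_mul _ _ N hNb hNa, hba]
    refine Matrix.ext fun i l => ?_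
    simp only [Matrix.map_apply, Matrix.smul_apply, smul_eq_mul]
    exact key _

theorem isCoprime_X_pow_of_eval_zero (g : A[X]) (hg : g.eval 0 = 1) (k : ℕ) :
    IsCoprime (X ^ k) g := by
  apply IsCoprime.pow_left
  refine ⟨-g.divX, 1, ?_⟩
  have h := divX_mul_X_add g
  rw [coeff_zero_eq_eval_zero, hg, C_1] at h
  linear_combination (-1 : A[X]) * h

end Reverse

section Build

variable {n m : Type*} [Fintype n] [Fintype m] [DecidableEq n] [DecidableEq m]

/-- The algebra behind the patching of `P[s, 1/s]` and `P'[s]_g` along the comaximal pair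
`(s, g)`. -/
theorem build_aux {R : Type*} [CommRing R] (s g u v : R) (huv : u * s + v * g = 1)
    (P : Matrix n n R) (Q : Matrix m m R) (hP : P * P = P) (hQ : Q * Q = Q)
    (a : Matrix n m R) (b : Matrix m n R) (hab : a * b = (s * g) • P) (hba : b * a = (s * g) • Q)
    (h1 : P * a = a) (h2 : a * Q = a) (h3 : Q * b = b) (h4 : b * P = b) :
    ∃ (E : Matrix (n ⊕ m) (n ⊕ m) R) (G₀ : Matrix n (n ⊕ m) R) (H₀ : Matrix (n ⊕ m) n R)
      (Φ : Matrix m (n ⊕ m) R) (Ψ : Matrix (n ⊕ m) m R),
      E * E = E ∧ P * G₀ = G₀ ∧ G₀ * E = G₀ ∧ H₀ * G₀ = s • E ∧ G₀ * H₀ = s • P ∧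
      Ψ * Φ = g • E ∧ Φ * Ψ = g • Q := by
  refine ⟨fromBlocks ((u * s) • P) (u • a) (v • b) ((v * g) • Q), fromCols (s • P) a,
    fromRows ((u * s) • P) (v • b), fromCols b (g • Q), fromRows (u • a) ((v * g) • Q),
    ?_, ?_, ?_, ?_, ?_, ?_, ?_⟩
  · rw [Matrix.fromBlocks_multiply]
    simp only [Matrix.smul_mul, Matrix.mul_smul, smul_smul, hP, hQ, hab, hba, h1, h2, h3, h4,
      ← add_smul]
    congr 1
    · congr 1; linear_combination (u * s) * huv
    · congr 1; linear_combination u * huv
    · congr 1; linear_combination v * huv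
    · congr 1; linear_combination (v * g) * huv
  · rw [Matrix.mul_fromCols, Matrix.mul_smul, hP, h1]
  · rw [Matrix.fromCols_mul_fromBlocks]
    simp only [Matrix.smul_mul, Matrix.mul_smul, smul_smul, hP, hQ, hab, hba, h1, h2, h3, h4,
      ← add_smul]
    congr 1
    · congr 1; linear_combination s * huv
    · rw [huv, one_smul]
  · rw [Matrix.fromRows_mul_fromCols, Matrix.fromBlocks_smul]
    simp only [Matrix.smul_mul, Matrix.mul_smul, smul_smul, hP, hQ, hab, hba, h1, h2, h3, h4]
    congr 1 <;> (try (congr 1; ring))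
  · rw [Matrix.fromCols_mul_fromRows]
    simp only [Matrix.smul_mul, Matrix.mul_smul, smul_smul, hP, hQ, hab, hba, h1, h2, h3, h4,
      ← add_smul]
    congr 1; linear_combination s * huv
  · rw [Matrix.fromRows_mul_fromCols, Matrix.fromBlocks_smul]
    simp only [Matrix.smul_mul, Matrix.mul_smul, smul_smul, hP, hQ, hab, hba, h1, h2, h3, h4]
    congr 1 <;> (try (congr 1; ring))
  · rw [Matrix.fromCols_mul_fromRows]
    simp only [Matrix.smul_mul, Matrix.mul_smul, smul_smul, hP, hQ, hab, hba, h1, h2, h3, h4,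
      ← add_smul]
    congr 1; linear_combination g * huv

variable {A : Type*} [CommRing A]

omit [Fintype n] [Fintype m] [DecidableEq n] [DecidableEq m] in
theorem map_C_map_plus_eq_minus (p : Matrix n m A) :
    (p.map Polynomial.C).map plus = (p.map Polynomial.C).map minus := by
  ext i j
  simp only [Matrix.map_apply, plus_C, minus_C]

omit [Fintype n] [Fintype m] [DecidableEq n] [DecidableEq m] in
theorem map_plus_X_pow_smul (k : ℕ) (N : Matrix n m A[X]) :
    ((X ^ k : A[X]) • N).map plus = (LaurentPolynomial.T (k : ℤ) : LaurentPolynomial A) • N.map plus := by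
  ext i j
  simp only [Matrix.map_apply, Matrix.smul_apply, smul_eq_mul, map_mul, plus_X_pow]

/-- From reversed, normalised data to a rectangular equivalence over `A`: build the bundle on the
projective line, apply Horrocks–Quillen, and compare the fibres at `s = 1` and `s = 0`. -/
theorem rEquiv_of_reversed (p : Matrix n n A) (q : Matrix m m A) (hp : p * p = p) (hq : q * q = q)
    (k : ℕ) (g : A[X]) (hg : g.eval 0 = 1) (a : Matrix n m A[X]) (b : Matrix m n A[X])
    (hab : a * b = (X ^ k * g) • p.map Polynomial.C)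
    (hba : b * a = (X ^ k * g) • q.map Polynomial.C)
    (h1 : p.map Polynomial.C * a = a) (h2 : a * q.map Polynomial.C = a)
    (h3 : q.map Polynomial.C * b = b) (h4 : b * p.map Polynomial.C = b) : REquiv p q := by
  obtain ⟨u, v, huv⟩ := isCoprime_X_pow_of_eval_zero g hg k
  have hP : p.map Polynomial.C * p.map Polynomial.C = p.map (Polynomial.C : A →+* A[X]) := by
    rw [← Matrix.map_mul, hp]
  have hQ : q.map Polynomial.C * q.map Polynomial.C = q.map (Polynomial.C : A →+* A[X]) := by
    rw [← Matrix.map_mul, hq]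
  obtain ⟨E, G₀, H₀, Φ, Ψ, hE, hPG, hGE, hHG, hGH, hΨΦ, hΦΨ⟩ :=
    build_aux (X ^ k) g u v huv _ _ hP hQ a b hab hba h1 h2 h3 h4
  have hTT : (LaurentPolynomial.T (-(k : ℤ)) * LaurentPolynomial.T (k : ℤ) : LaurentPolynomial A) = 1 :=
    T_neg_mul_T _
  let D : Datum A (n ⊕ m) n :=
    { E := E
      F := p.map Polynomial.C
      G := G₀.map plus
      H := (LaurentPolynomial.T (-(k : ℤ)) : LaurentPolynomial A) • H₀.map plus
      hE := hE
      hF := hP
      hG1 := by rw [← map_C_map_plus_eq_minus, ← Matrix.map_mul, hPG]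
      hG2 := by rw [← Matrix.map_mul, hGE]
      hHG := by
        rw [Matrix.smul_mul, ← Matrix.map_mul, hHG, map_plus_X_pow_smul, smul_smul, hTT, one_smul]
      hGH := by
        rw [Matrix.mul_smul, ← Matrix.map_mul, hGH, map_plus_X_pow_smul, smul_smul, hTT, one_smul,
          map_C_map_plus_eq_minus] }
  have idem : IdemEquiv E (cst.mapMatrix E) := D.idemEquiv_cst
  have h10 : (cst.mapMatrix E).map (evalRingHom (1 : A)) = E.map (evalRingHom (0 : A)) := by
    ext i j
    simp [cst]
  have hcd : REquiv (E.map (evalRingHom (1 : A))) (E.map (evalRingHom (0 : A))) := by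
    have := (IdemEquiv.rEquiv idem).map (evalRingHom (1 : A))
    rwa [h10] at this
  have hp1 : REquiv p (E.map (evalRingHom (1 : A))) := by
    refine ⟨G₀.map (evalRingHom (1 : A)), H₀.map (evalRingHom (1 : A)), ?_, ?_⟩
    · rw [← Matrix.map_mul, hGH]
      ext i j
      simp
    · rw [← Matrix.map_mul, hHG]
      ext i j
      simp
  have h0q : REquiv (E.map (evalRingHom (0 : A))) q := by
    refine ⟨Ψ.map (evalRingHom (0 : A)), Φ.map (evalRingHom (0 : A)), ?_, ?_⟩
    · rw [← Matrix.map_mul, hΨΦ]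
      ext i j
      simp [hg]
    · rw [← Matrix.map_mul, hΦΨ]
      ext i j
      simp [hg]
  have hE0 : E.map (evalRingHom (0 : A)) * E.map (evalRingHom (0 : A)) =
      E.map (evalRingHom (0 : A)) := by
    rw [← Matrix.map_mul, hE]
  exact (hp1.trans hp hE0 hcd).trans hp hq h0q

end Build

section Main

/-- Finite projective modules that become isomorphic over `A(t)` are isomorphic. -/
theorem monic_descent (A : Type u) [CommRing A] (M : Submonoid A[X])
    (hM : ∀ f : A[X], f ∈ M ↔ f.Monic)
    (At : Type u) [CommRing At] [Algebra A[X] At] [IsLocalization M At]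
    [Algebra A At] [IsScalarTower A A[X] At]
    (P P' : Type u) [AddCommGroup P] [Module A P] [Module.Finite A P] [Module.Projective A P]
    [AddCommGroup P'] [Module A P'] [Module.Finite A P'] [Module.Projective A P']
    (h : Nonempty ((At ⊗[A] P) ≃ₗ[At] (At ⊗[A] P'))) :
    Nonempty (P ≃ₗ[A] P') := by
  obtain ⟨θ⟩ := h
  obtain ⟨n, f, g, -, -, hfg⟩ := Module.Finite.exists_comp_eq_id_of_projective A P
  obtain ⟨n', f', g', -, -, hfg'⟩ := Module.Finite.exists_comp_eq_id_of_projective A P'
  have hp := toMatrix'_idemG f g hfg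
  have hq := toMatrix'_idemG f' g' hfg'
  obtain ⟨a', b', hab', hba'⟩ := rEquiv_of_baseChange_equiv At f g f' g' hfg hfg' θ
  have hmap : ∀ {r c : Type} (N : Matrix r c A),
      N.map (algebraMap A At) = (N.map Polynomial.C).map (algebraMap A[X] At) := by
    intro r c N
    ext i j
    simp only [Matrix.map_apply]
    rw [IsScalarTower.algebraMap_apply A A[X] At]
    rfl
  obtain ⟨F, a₀, b₀, hF, hab₀, hba₀⟩ := exists_monic_clear M hM At
    ((LinearMap.toMatrix' (g ∘ₗ f)).map Polynomial.C)
    ((LinearMap.toMatrix' (g' ∘ₗ f')).map Polynomial.C) a' b'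
    (by rw [hab', hmap]) (by rw [hba', hmap])
  obtain ⟨k, gg, a, b, hgg, hab, hba⟩ := exists_reversed _ _ F hF a₀ b₀ hab₀ hba₀
  have hP : (LinearMap.toMatrix' (g ∘ₗ f)).map Polynomial.C *
      (LinearMap.toMatrix' (g ∘ₗ f)).map Polynomial.C =
      (LinearMap.toMatrix' (g ∘ₗ f)).map (Polynomial.C : A →+* A[X]) := by
    rw [← Matrix.map_mul, hp]
  have hQ : (LinearMap.toMatrix' (g' ∘ₗ f')).map Polynomial.C *
      (LinearMap.toMatrix' (g' ∘ₗ f')).map Polynomial.C =
      (LinearMap.toMatrix' (g' ∘ₗ f')).map (Polynomial.C : A →+* A[X]) := by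
    rw [← Matrix.map_mul, hq]
  obtain ⟨a₁, b₁, hab₁, hba₁, h1, h2, h3, h4⟩ := exists_normalized hP hQ hab hba
  have hc : (X ^ k * gg) ^ 3 = X ^ (k * 3) * gg ^ 3 := by rw [mul_pow, ← pow_mul]
  rw [hc] at hab₁ hba₁
  have hgg3 : (gg ^ 3).eval 0 = 1 := by rw [eval_pow, hgg, one_pow]
  exact nonempty_linearEquiv_of_rEquiv f g f' g' hfg hfg'
    (rEquiv_of_reversed _ _ hp hq (k * 3) (gg ^ 3) hgg3 a₁ b₁ hab₁ hba₁ h1 h2 h3 h4)

end Main

end Groth.Agent.Helper8.HQ
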