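import Mathlib

namespace Groth.Agent.Helper8.HRec

open Polynomial

theorem main (a : ℕ) (ha : 0 < a) :
    let P : (MvPolynomial (Fin a) ℤ)[X] := ∏ i : Fin a, (X - C (MvPolynomial.X i))
    let coef : ℤ → MvPolynomial (Fin a) ℤ := fun j =>
      if j < 0 then 0 else ((X : (MvPolynomial (Fin a) ℤ)[X]) ^ (a - 1 + j.toNat) %ₘ P).coeff (a - 1)
    coef 0 = 1 ∧ ∀ j : ℕ, 0 < j →
      (∑ i ∈ Finset.range (a + 1), (-1 : MvPolynomial (Fin a) ℤ) ^ i * MvPolynomial.esymm (Fin a) ℤ i *
        coef ((j : ℤ) - i)) = 0 := by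
  intro P coef
  have hPm : P.Monic := monic_prod_of_monic _ _ (fun i _ => monic_X_sub_C _)
  have hPdeg : P.natDegree = a := by
    have := natDegree_finset_prod_X_sub_C_eq_card (Finset.univ : Finset (Fin a))
      (fun i => (MvPolynomial.X i : MvPolynomial (Fin a) ℤ))
    rw [Finset.card_univ, Fintype.card_fin] at this
    exact this
  have hPdeg' : P.degree = (a : WithBot ℕ) := by
    rw [degree_eq_natDegree hPm.ne_zero, hPdeg]
  have hsmall : ∀ n, n < a → (X : (MvPolynomial (Fin a) ℤ)[X]) ^ n %ₘ P = X ^ n := by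
    intro n hn
    rw [modByMonic_eq_self_iff hPm, degree_X_pow, hPdeg']
    exact_mod_cast hn
  have hVieta : P = ∑ i ∈ Finset.range (a + 1),
      (-1) ^ i * (C (MvPolynomial.esymm (Fin a) ℤ i) * X ^ (a - i)) := by
    have h1 := Multiset.prod_X_sub_X_eq_sum_esymm
      (Finset.univ.val.map fun i : Fin a => (MvPolynomial.X i : MvPolynomial (Fin a) ℤ))
    have h2 : Multiset.card (Finset.univ.val.map
        fun i : Fin a => (MvPolynomial.X i : MvPolynomial (Fin a) ℤ)) = a := by simp
    rw [h2] at h1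
    simp only [← MvPolynomial.esymm_eq_multiset_esymm] at h1
    rw [← h1, Multiset.map_map]
    rfl
  let c : ℕ → MvPolynomial (Fin a) ℤ := fun n => ((X : (MvPolynomial (Fin a) ℤ)[X]) ^ n %ₘ P).coeff (a - 1)
  have hcoef : ∀ (j i : ℕ), 0 < j → i ≤ a → coef ((j : ℤ) - i) = c (a - i + j - 1) := by
    intro j i hj hi
    simp only [coef, c]
    split_ifs with h
    · have hlt : a - i + j - 1 < a - 1 := by omega
      rw [hsmall _ (by omega), coeff_X_pow, if_neg (by omega)]
    · have : a - 1 + ((j : ℤ) - i).toNat = a - i + j - 1 := by omega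
      rw [this]
  constructor
  · simp only [coef]
    rw [if_neg (by omega)]
    simp only [Int.toNat_zero, add_zero]
    rw [hsmall _ (by omega), coeff_X_pow, if_pos rfl]
  · intro j hj
    have h1 : (X ^ (j - 1) * P) %ₘ P = 0 := by
      rw [modByMonic_eq_zero_iff_dvd hPm]
      exact dvd_mul_left _ _
    have h2 : X ^ (j - 1) * P = ∑ i ∈ Finset.range (a + 1),
        ((-1) ^ i * MvPolynomial.esymm (Fin a) ℤ i) • (X : (MvPolynomial (Fin a) ℤ)[X]) ^ (a - i + j - 1) := by
      conv_lhs => rw [hVieta]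
      rw [Finset.mul_sum]
      apply Finset.sum_congr rfl
      intro i hi
      have hi' : i ≤ a := by
        have := Finset.mem_range.mp hi; omega
      have h3 : a - i + j - 1 = (j - 1) + (a - i) := by omega
      rw [h3, pow_add, smul_eq_C_mul, map_mul, map_pow, map_neg, map_one]
      ring
    have h3 : (∑ i ∈ Finset.range (a + 1), ((-1) ^ i * MvPolynomial.esymm (Fin a) ℤ i) •
        ((X : (MvPolynomial (Fin a) ℤ)[X]) ^ (a - i + j - 1) %ₘ P)) = 0 := by
      have := congrArg (modByMonicHom P) h2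
      rw [map_sum] at this
      simp only [map_smul, modByMonicHom_apply] at this
      rw [← this, h1]
    have h4 := congrArg (fun p => p.coeff (a - 1)) h3
    simp only [finsetSum_coeff, coeff_smul, coeff_zero, smul_eq_mul] at h4
    rw [← h4]
    apply Finset.sum_congr rfl
    intro i hi
    have hi' : i ≤ a := by
      have := Finset.mem_range.mp hi; omega
    rw [hcoef j i hj hi']

end Groth.Agent.Helper8.HRec
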