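import Mathlib
import Groth.Prelude.Def_NCTr

set_option autoImplicit false

namespace Groth.Agent.Helper8.HSTrace

open NCTr Module

variable {Λ : Type*} [Ring Λ]

/-- the quotient map as an additive hom -/
noncomputable def φ (Λ : Type*) [Ring Λ] : Λ →+ Abel Λ := QuotientAddGroup.mk' (commutatorSubgroup Λ)

theorem φ_apply (a : Λ) : φ Λ a = (QuotientAddGroup.mk a : Abel Λ) := rfl

theorem φ_mul_comm (a b : Λ) : φ Λ (a * b) = φ Λ (b * a) := by
  rw [φ_apply, φ_apply, QuotientAddGroup.eq]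
  apply AddSubgroup.subset_closure
  exact ⟨b, a, by abel⟩

theorem hsTrace_eq_sum {P : Type*} [AddCommGroup P] [Module Λ P] {κ : Type*} [Fintype κ]
    (c : Basis κ Λ P) (v : P →ₗ[Λ] P) : hsTrace c v = ∑ i, φ Λ (c.repr (v (c i)) i) := rfl

theorem hsTrace_indep {P : Type*} [AddCommGroup P] [Module Λ P] {κ κ' : Type*} [Fintype κ]
    [Fintype κ'] (c : Basis κ Λ P) (c' : Basis κ' Λ P) (v : P →ₗ[Λ] P) :
    hsTrace c v = hsTrace c' v := by
  classical
  obtain ⟨S, hS⟩ : ∃ S : κ → κ' → Λ, ∀ i j, S i j = c'.repr (c i) j := ⟨_, fun _ _ => rfl⟩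
  obtain ⟨T, hT⟩ : ∃ T : κ' → κ → Λ, ∀ j i, T j i = c.repr (c' j) i := ⟨_, fun _ _ => rfl⟩
  obtain ⟨A, hA⟩ : ∃ A : κ' → κ' → Λ, ∀ j l, A j l = c'.repr (v (c' j)) l := ⟨_, fun _ _ => rfl⟩
  have hc : ∀ i, c i = ∑ j, S i j • c' j := by
    intro i
    simp_rw [hS]
    exact (c'.sum_repr (c i)).symm
  have hc' : ∀ l, c' l = ∑ i, T l i • c i := by
    intro l
    simp_rw [hT]
    exact (c.sum_repr (c' l)).symm
  have hv : ∀ j, v (c' j) = ∑ l, A j l • c' l := by
    intro j
    simp_rw [hA]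
    exact (c'.sum_repr (v (c' j))).symm
  have key1 : ∀ i, c.repr (v (c i)) i = ∑ j, ∑ l, S i j * (A j l * T l i) := by
    intro i
    conv_lhs => rw [hc i]
    simp only [map_sum, map_smul, hv, Finsupp.coe_finset_sum, Finset.sum_apply,
      Finsupp.coe_smul, Pi.smul_apply, smul_eq_mul, Finset.smul_sum, Finset.mul_sum, hT]
  have key2 : ∀ l j, ∑ i, T l i * S i j = if l = j then 1 else 0 := by
    intro l j
    have h1 : c'.repr (c' l) j = ∑ i, T l i * S i j := by
      conv_lhs => rw [hc' l]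
      simp only [map_sum, map_smul, Finsupp.coe_finset_sum, Finset.sum_apply,
        Finsupp.coe_smul, Pi.smul_apply, smul_eq_mul, hS]
    rw [← h1, Basis.repr_self, Finsupp.single_apply]
  rw [hsTrace_eq_sum, hsTrace_eq_sum]
  simp_rw [key1, map_sum]
  calc ∑ i, ∑ j, ∑ l, φ Λ (S i j * (A j l * T l i))
      = ∑ i, ∑ j, ∑ l, φ Λ ((A j l * T l i) * S i j) := by
        simp_rw [φ_mul_comm]
    _ = ∑ j, ∑ l, ∑ i, φ Λ (A j l * (T l i * S i j)) := by
        rw [Finset.sum_comm]
        apply Finset.sum_congr rfl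
        intro j _
        rw [Finset.sum_comm]
        simp_rw [mul_assoc]
    _ = ∑ j, ∑ l, φ Λ (A j l * (if l = j then 1 else 0)) := by
        simp_rw [← map_sum, ← Finset.mul_sum, key2]
    _ = ∑ j, φ Λ (c'.repr (v (c' j)) j) := by
        apply Finset.sum_congr rfl
        intro j _
        simp only [mul_ite, mul_one, mul_zero]
        rw [← map_sum, Finset.sum_ite_eq' Finset.univ j]
        simp only [Finset.mem_univ, if_true, hA]

theorem main
    (Λ : Type*) [Ring Λ] (G : Type*) [Group G] [Fintype G]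
    (P : Type*) [AddCommGroup P] [Module Λ P] [Module (MonoidAlgebra Λ G) P]
    [IsScalarTower Λ (MonoidAlgebra Λ G) P]
    {ι κ : Type*} [Fintype ι] [Fintype κ]
    (b : Module.Basis ι (MonoidAlgebra Λ G) P) (c : Module.Basis κ Λ P)
    (u : P →ₗ[MonoidAlgebra Λ G] P) :
    NCTr.hsTrace c (u.restrictScalars Λ) =
      Fintype.card G • ∑ i, (QuotientAddGroup.mk ((b.repr (u (b i)) i).coeff 1) : NCTr.Abel Λ) := by
  classical
  let c' : Basis (G × ι) Λ P := (MonoidAlgebra.basis G Λ).smulTower b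
  rw [hsTrace_indep c c', hsTrace_eq_sum]
  have hterm : ∀ (g : G) (i : ι), c'.repr ((u.restrictScalars Λ) (c' (g, i))) (g, i) =
      (b.repr (u (b i)) i).coeff 1 := by
    intro g i
    have h1 : c' (g, i) = MonoidAlgebra.single g (1 : Λ) • b i := by
      simp only [c', Basis.smulTower_apply, MonoidAlgebra.basis_apply]
    rw [h1, LinearMap.restrictScalars_apply, map_smul]
    simp only [c', Basis.smulTower_repr, map_smul, Finsupp.smul_apply, smul_eq_mul]
    show ((MonoidAlgebra.single g (1 : Λ)) * (b.repr (u (b i)) i)).coeff g = _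
    rw [MonoidAlgebra.coeff_single_mul_eq_mul_coeff (m₂ := 1), one_mul]
    intro m' _
    simp
  rw [Fintype.sum_prod_type]
  simp_rw [hterm, φ_apply]
  rw [Finset.sum_const, Finset.card_univ]

end Groth.Agent.Helper8.HSTrace
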