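import Mathlib

/-!
# An elementwise algebraic Hartogs lemma

`ρ : R → N` a ring map which becomes an isomorphism after inverting each element of a finite set `G`
(in elementwise form), such that `N` has no `G`-power torsion, and such that `R` has "depth ≥ 2" at every
prime containing `G`.  Then `ρ` is bijective.
-/

set_option autoImplicit false
universe u

namespace Groth.Agent.Helper8.HartogsAlg

variable {R N : Type u} [CommRing R] [CommRing N] (ρ : R →+* N) (G : Finset R)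

/-- depth ≥ 2 at the prime `q`, in elementwise terms. -/
def DepthTwoAt (q : Ideal R) : Prop :=
  ∃ a b : R, a ∈ q ∧ b ∈ q ∧
    (∀ c : R, (∃ u, u ∉ q ∧ u * (a * c) = 0) → ∃ w, w ∉ q ∧ w * c = 0) ∧
    (∀ c d : R, (∃ u, u ∉ q ∧ u * (b * c - a * d) = 0) → ∃ w c', w ∉ q ∧ w * c = a * c')

/-- the hypotheses. -/
structure Hyp : Prop where
  k1a : ∀ r ∈ G, ∀ s : R, ρ s = 0 → ∃ n : ℕ, r ^ n * s = 0
  k1b : ∀ r ∈ G, ∀ t : N, ∃ (n : ℕ) (s : R), ρ s = ρ r ^ n * t
  k3 : ∀ t : N, (∀ r ∈ G, ∃ m : ℕ, ρ r ^ m * t = 0) → t = 0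
  depth : ∀ q : Ideal R, q.IsPrime → (∀ r ∈ G, r ∈ q) → DepthTwoAt q

omit [CommRing N] in
lemma exists_pow_mul_mem_of_minimal {𝔞 q : Ideal R} (hq : q ∈ 𝔞.minimalPrimes) {a : R}
    (ha : a ∈ q) : ∃ (k : ℕ) (u : R), u ∉ q ∧ u * a ^ k ∈ 𝔞 := by
  by_contra hcon
  push Not at hcon
  have hqp : q.IsPrime := hq.1.1
  have h1q : (1 : R) ∉ q := fun h => hqp.ne_top ((Ideal.eq_top_iff_one _).mpr h)
  let T : Submonoid R :=
    { carrier := {x | ∃ (k : ℕ) (u : R), u ∉ q ∧ x = u * a ^ k}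
      one_mem' := ⟨0, 1, h1q, by simp⟩
      mul_mem' := by
        rintro _ _ ⟨k, u, hu, rfl⟩ ⟨k', u', hu', rfl⟩
        exact ⟨k + k', u * u', fun h => (hqp.mem_or_mem h).elim hu hu', by ring⟩ }
  obtain ⟨q', hq'p, h𝔞q', hdisj⟩ := Ideal.exists_le_prime_disjoint 𝔞 T (by
    rw [Set.disjoint_left]
    rintro x hx ⟨k, u, hu, rfl⟩
    exact hcon k u hu hx)
  have hle : q' ≤ q := fun x hx => by
    by_contra hxq
    exact Set.disjoint_left.mp hdisj hx ⟨0, x, hxq, by simp⟩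
  have hge : q ≤ q' := hq.2 ⟨hq'p, h𝔞q'⟩ hle
  exact Set.disjoint_left.mp hdisj (hge ha) ⟨1, 1, h1q, by simp⟩

omit [CommRing N] in
lemma kill_of_pow {q : Ideal R} {a : R}
    (hi : ∀ c : R, (∃ u, u ∉ q ∧ u * (a * c) = 0) → ∃ w, w ∉ q ∧ w * c = 0) (k : ℕ) (c : R)
    (h : ∃ u, u ∉ q ∧ u * (a ^ k * c) = 0) : ∃ w, w ∉ q ∧ w * c = 0 := by
  induction k with
  | zero => simpa using h
  | succ k ih =>
    obtain ⟨u, hu, h1⟩ := h
    apply ih
    apply hi
    exact ⟨u, hu, by rw [← h1]; ring⟩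

omit [CommRing N] in
lemma exists_minimal_of_ne_top {𝔞 : Ideal R} (h : 𝔞 ≠ ⊤) : ∃ q, q ∈ 𝔞.minimalPrimes := by
  obtain ⟨m, hm, hle⟩ := Ideal.exists_le_maximal 𝔞 h
  haveI := hm.isPrime
  obtain ⟨q, hq, -⟩ := Ideal.exists_minimalPrimes_le hle
  exact ⟨q, hq⟩

variable {ρ G}

theorem injective (h : Hyp ρ G) : Function.Injective ρ := by
  rw [injective_iff_map_eq_zero]
  intro s hs
  by_contra hs0
  let 𝔞 : Ideal R := LinearMap.ker (LinearMap.toSpanSingleton R R s)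
  have h𝔞 : ∀ x : R, x ∈ 𝔞 ↔ x * s = 0 := fun x => by
    rw [LinearMap.mem_ker, LinearMap.toSpanSingleton_apply, smul_eq_mul]
  have hne : 𝔞 ≠ ⊤ := fun htop => hs0 (by
    have h1 : (1 : R) ∈ 𝔞 := htop ▸ Submodule.mem_top
    rwa [h𝔞, one_mul] at h1)
  obtain ⟨q, hq⟩ := exists_minimal_of_ne_top hne
  haveI hqp : q.IsPrime := hq.1.1
  have hGq : ∀ r ∈ G, r ∈ q := fun r hr => by
    obtain ⟨n, hn⟩ := h.k1a r hr s hs
    exact hqp.mem_of_pow_mem n (hq.1.2 ((h𝔞 _).mpr hn))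
  obtain ⟨a, b, ha, -, hi, -⟩ := h.depth q hqp hGq
  obtain ⟨k, u, hu, huk⟩ := exists_pow_mul_mem_of_minimal hq ha
  obtain ⟨w, hw, hws⟩ := kill_of_pow hi k s ⟨u, hu, by rw [← mul_assoc]; exact (h𝔞 _).mp huk⟩
  exact hw (hq.1.2 ((h𝔞 w).mpr hws))

lemma kill_N (h : Hyp ρ G) {q : Ideal R} [hqp : q.IsPrime] {a : R}
    (hi : ∀ c : R, (∃ u, u ∉ q ∧ u * (a * c) = 0) → ∃ w, w ∉ q ∧ w * c = 0)
    (t : N) (ht : ρ a * t = 0) : ∃ w, w ∉ q ∧ ρ w * t = 0 := by
  classical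
  have hinj := injective h
  have h1q : (1 : R) ∉ q := fun h => hqp.ne_top ((Ideal.eq_top_iff_one _).mpr h)
  have h1 : ∀ r ∈ G, ∃ (m : ℕ) (w : R), w ∉ q ∧ ρ w * (ρ r ^ m * t) = 0 := by
    intro r hr
    obtain ⟨m, s, hs⟩ := h.k1b r hr t
    have h2 : ρ (a * s) = 0 := by
      rw [map_mul, hs, ← mul_assoc, mul_comm (ρ a), mul_assoc, ht, mul_zero]
    have h3 : a * s = 0 := hinj (by rw [h2, map_zero])
    obtain ⟨w, hw, hws⟩ := hi s ⟨1, h1q, by rw [one_mul, h3]⟩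
    exact ⟨m, w, hw, by rw [← hs, ← map_mul, hws, map_zero]⟩
  choose! m w hw hwt using h1
  refine ⟨∏ r ∈ G, w r, ?_, ?_⟩
  · intro hmem
    obtain ⟨r, hr, hrq⟩ := (Ideal.IsPrime.prod_mem_iff).mp hmem
    exact hw r hr hrq
  · apply h.k3
    intro r hr
    refine ⟨m r, ?_⟩
    rw [← Finset.mul_prod_erase G w hr, map_mul]
    calc ρ r ^ m r * (ρ (w r) * ρ (∏ x ∈ G.erase r, w x) * t)
        = ρ (∏ x ∈ G.erase r, w x) * (ρ (w r) * (ρ r ^ m r * t)) := by ring
      _ = 0 := by rw [hwt r hr, mul_zero]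

theorem surjective (h : Hyp ρ G) : Function.Surjective ρ := by
  have hinj := injective h
  intro t
  by_contra ht
  let D : Ideal R :=
    { carrier := {d | ∃ s, ρ s = ρ d * t}
      add_mem' := by
        rintro d d' ⟨s, hs⟩ ⟨s', hs'⟩
        exact ⟨s + s', by rw [map_add, map_add, add_mul, hs, hs']⟩
      zero_mem' := ⟨0, by simp⟩
      smul_mem' := by
        rintro c d ⟨s, hs⟩
        exact ⟨c * s, by rw [smul_eq_mul, map_mul, map_mul, hs, mul_assoc]⟩ }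
  have hD : ∀ d : R, d ∈ D ↔ ∃ s, ρ s = ρ d * t := fun d => Iff.rfl
  have hne : D ≠ ⊤ := fun htop => ht (by
    have h1 : (1 : R) ∈ D := htop ▸ Submodule.mem_top
    obtain ⟨s, hs⟩ := (hD 1).mp h1
    exact ⟨s, by rw [hs, map_one, one_mul]⟩)
  obtain ⟨q, hq⟩ := exists_minimal_of_ne_top hne
  haveI hqp : q.IsPrime := hq.1.1
  have hGq : ∀ r ∈ G, r ∈ q := fun r hr => by
    obtain ⟨n, s, hs⟩ := h.k1b r hr t
    exact hqp.mem_of_pow_mem n (hq.1.2 ((hD _).mpr ⟨s, by rw [hs, map_pow]⟩))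
  obtain ⟨a, b, ha, hb, hi, hii⟩ := h.depth q hqp hGq
  -- local membership in the range
  let InLoc : N → Prop := fun t' => ∃ w s, w ∉ q ∧ ρ s = ρ w * t'
  have hmul : ∀ (x : R) (t' : N), InLoc t' → InLoc (ρ x * t') := by
    rintro x t' ⟨w, s, hw, hs⟩
    exact ⟨w, x * s, hw, by rw [map_mul, hs]; ring⟩
  have claimC : ∀ t' : N, InLoc (ρ a * t') → InLoc (ρ b * t') → InLoc t' := by
    rintro t' ⟨w₁, s₁, hw₁, hs₁⟩ ⟨w₂, s₂, hw₂, hs₂⟩
    have h1q : (1 : R) ∉ q := fun h => hqp.ne_top ((Ideal.eq_top_iff_one _).mpr h)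
    have e1 : b * (w₂ * s₁) - a * (w₁ * s₂) = 0 := by
      apply hinj
      rw [map_zero, map_sub, map_mul, map_mul, map_mul, map_mul, hs₁, hs₂]
      ring
    obtain ⟨w₃, c', hw₃, hc'⟩ := hii (w₂ * s₁) (w₁ * s₂) ⟨1, h1q, by rw [one_mul, e1]⟩
    have e2 : ρ a * (ρ (w₃ * w₂ * w₁) * t' - ρ c') = 0 := by
      have e3 : ρ (a * c') = ρ (w₃ * (w₂ * s₁)) := by rw [hc']
      rw [map_mul, map_mul, map_mul, hs₁] at e3
      rw [mul_sub, e3, map_mul, map_mul]
      ring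
    obtain ⟨w₄, hw₄, e4⟩ := kill_N h hi _ e2
    refine ⟨w₄ * (w₃ * w₂ * w₁), w₄ * c', fun hmem => ?_, ?_⟩
    · rcases hqp.mem_or_mem hmem with h | h
      · exact hw₄ h
      · rcases hqp.mem_or_mem h with h | h
        · rcases hqp.mem_or_mem h with h | h
          · exact hw₃ h
          · exact hw₂ h
        · exact hw₁ h
    · rw [mul_sub, sub_eq_zero] at e4
      rw [map_mul ρ w₄ c', map_mul ρ w₄ (w₃ * w₂ * w₁), mul_assoc, e4]
  have hP : ∀ (l : ℕ) (t' : N), InLoc (ρ a * t') → InLoc (ρ b ^ l * t') → InLoc t' := by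
    intro l
    induction l with
    | zero => intro t' _ h0; simpa using h0
    | succ l ih =>
      intro t' h1 h2
      apply ih t' h1
      apply claimC
      · have := hmul (b ^ l) _ h1
        rw [map_pow] at this
        convert this using 1
        ring
      · convert h2 using 1
        ring
  have hQ : ∀ (k : ℕ) (t' : N), InLoc (ρ a ^ k * t') → (∃ l, InLoc (ρ b ^ l * t')) → InLoc t' := by
    intro k
    induction k with
    | zero => intro t' h0 _; simpa using h0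
    | succ k ih =>
      intro t' h1 ⟨l, h2⟩
      apply ih t' _ ⟨l, h2⟩
      apply hP l
      · convert h1 using 1
        ring
      · have := hmul (a ^ k) _ h2
        rw [map_pow] at this
        convert this using 1
        ring
  obtain ⟨k, u, hu, huk⟩ := exists_pow_mul_mem_of_minimal hq ha
  obtain ⟨l, u', hu', hul⟩ := exists_pow_mul_mem_of_minimal hq hb
  obtain ⟨s₁, hs₁⟩ := (hD _).mp huk
  obtain ⟨s₂, hs₂⟩ := (hD _).mp hul
  have hA : InLoc (ρ a ^ k * t) := ⟨u, s₁, hu, by rw [hs₁, map_mul, map_pow, mul_assoc]⟩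
  have hB : InLoc (ρ b ^ l * t) := ⟨u', s₂, hu', by rw [hs₂, map_mul, map_pow, mul_assoc]⟩
  obtain ⟨w, s, hw, hs⟩ := hQ k t hA ⟨l, hB⟩
  exact hw (hq.1.2 ((hD w).mpr ⟨s, hs⟩))

theorem bijective (h : Hyp ρ G) : Function.Bijective ρ := ⟨injective h, surjective h⟩

section Bridge

variable {S : Type u} [CommRing S] [Algebra R S]

omit [CommRing N] in
/-- from a localization at `q` with a "regular sequence of length two" of non-units. -/
lemma depthTwoAt_of_isLocalization (q : Ideal R) [hqp : q.IsPrime] [IsLocalization.AtPrime S q]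
    (a b : S) (ha : ¬ IsUnit a) (hb : ¬ IsUnit b)
    (hi : ∀ c : S, a * c = 0 → c = 0)
    (hii : ∀ c d : S, b * c = a * d → ∃ c', c = a * c') : DepthTwoAt q := by
  obtain ⟨⟨a', v⟩, hav⟩ := IsLocalization.surj q.primeCompl a
  obtain ⟨⟨b', v'⟩, hbv⟩ := IsLocalization.surj q.primeCompl b
  simp only at hav hbv
  have hunit : ∀ x : R, x ∉ q → IsUnit (algebraMap R S x) := fun x hx =>
    IsLocalization.map_units S (⟨x, hx⟩ : q.primeCompl)
  have ha' : a' ∈ q := by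
    by_contra hcon
    exact ha (isUnit_of_mul_isUnit_left (hav ▸ hunit a' hcon))
  have hb' : b' ∈ q := by
    by_contra hcon
    exact hb (isUnit_of_mul_isUnit_left (hbv ▸ hunit b' hcon))
  refine ⟨a', b', ha', hb', ?_, ?_⟩
  · rintro c ⟨u, hu, huc⟩
    have e1 : algebraMap R S u * (algebraMap R S a' * algebraMap R S c) = 0 := by
      rw [← map_mul, ← map_mul, huc, map_zero]
    have e2 : algebraMap R S a' * algebraMap R S c = 0 :=
      (hunit u hu).mul_right_eq_zero.mp e1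
    rw [← hav, mul_assoc] at e2
    have e3 := hi _ e2
    rw [← map_mul, IsLocalization.map_eq_zero_iff q.primeCompl] at e3
    obtain ⟨w, hw⟩ := e3
    exact ⟨w.1 * v.1, fun h => (hqp.mem_or_mem h).elim w.2 v.2, by rw [mul_assoc]; exact hw⟩
  · rintro c d ⟨u, hu, hucd⟩
    have e1 : algebraMap R S u * (algebraMap R S b' * algebraMap R S c -
        algebraMap R S a' * algebraMap R S d) = 0 := by
      rw [← map_mul, ← map_mul, ← map_sub, ← map_mul, hucd, map_zero]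
    have e2 : algebraMap R S b' * algebraMap R S c = algebraMap R S a' * algebraMap R S d :=
      sub_eq_zero.mp ((hunit u hu).mul_right_eq_zero.mp e1)
    rw [← hav, ← hbv, mul_assoc, mul_assoc] at e2
    obtain ⟨c'', hc''⟩ := hii _ _ e2
    obtain ⟨⟨c₀, w₀⟩, hcw⟩ := IsLocalization.surj q.primeCompl c''
    simp only at hcw
    have e3 : algebraMap R S (v'.1 * c * w₀.1 * v.1) = algebraMap R S (a' * c₀) := by
      rw [map_mul, map_mul, map_mul, hc'', map_mul, ← hav, ← hcw]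
      ring
    obtain ⟨w₁, hw₁⟩ := (IsLocalization.eq_iff_exists q.primeCompl S).mp e3
    refine ⟨w₁.1 * v'.1 * w₀.1 * v.1, w₁.1 * c₀, fun h => ?_, ?_⟩
    · rcases hqp.mem_or_mem h with h | h
      · rcases hqp.mem_or_mem h with h | h
        · rcases hqp.mem_or_mem h with h | h
          · exact w₁.2 h
          · exact v'.2 h
        · exact w₀.2 h
      · exact v.2 h
    · calc w₁.1 * v'.1 * w₀.1 * v.1 * c = w₁.1 * (v'.1 * c * w₀.1 * v.1) := by ring
        _ = w₁.1 * (a' * c₀) := hw₁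
        _ = a' * (w₁.1 * c₀) := by ring

end Bridge

end Groth.Agent.Helper8.HartogsAlg
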