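import Mathlib
import Groth.Agent.Helper8.HartogsAlg

/-!
# Hartogs extension of sections of an affine morphism across a closed set of depth ≥ 2

`X` a scheme, `U` a quasi-compact open such that at every point outside `U` the local ring
contains a regular sequence of length two.  Then for affine `f : Y ⟶ X` every section of `f`
over `U` extends uniquely to a section over `X`.
-/

set_option autoImplicit false
universe u

open AlgebraicGeometry CategoryTheory CategoryTheory.Limits TopologicalSpace Opposite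

namespace Groth.Agent.Helper8.HartogsSch

/-! ### elementwise depth two -/

/-- elementwise depth ≥ 2 for a (local) ring -/
def DepthTwo (S : Type u) [CommRing S] : Prop :=
  ∃ a b : S, ¬ IsUnit a ∧ ¬ IsUnit b ∧ (∀ c, a * c = 0 → c = 0) ∧
    (∀ c d, b * c = a * d → ∃ c', c = a * c')

lemma DepthTwo.of_ringEquiv {S S' : Type u} [CommRing S] [CommRing S'] (e : S ≃+* S')
    (h : DepthTwo S) : DepthTwo S' := by
  obtain ⟨a, b, ha, hb, hi, hii⟩ := h
  refine ⟨e a, e b, fun h => ha (by simpa using h.map e.symm),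
    fun h => hb (by simpa using h.map e.symm), ?_, ?_⟩
  · intro c hc
    have h1 : a * e.symm c = 0 := by
      apply e.injective
      rw [map_mul, e.apply_symm_apply, hc, map_zero]
    have h2 := hi _ h1
    have h3 := congrArg e h2
    rwa [e.apply_symm_apply, map_zero] at h3
  · intro c d hcd
    have h1 : b * e.symm c = a * e.symm d := by
      apply e.injective
      rw [map_mul, map_mul, e.apply_symm_apply, e.apply_symm_apply, hcd]
    obtain ⟨c', hc'⟩ := hii _ _ h1
    refine ⟨e c', ?_⟩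
    have h3 := congrArg e hc'
    rwa [e.apply_symm_apply, map_mul] at h3

lemma depthTwo_of_isWeaklyRegular {S : Type u} [CommRing S] [IsLocalRing S] (a b : S)
    (ha : a ∈ IsLocalRing.maximalIdeal S) (hb : b ∈ IsLocalRing.maximalIdeal S)
    (h : RingTheory.Sequence.IsWeaklyRegular S [a, b]) : DepthTwo S := by
  rw [RingTheory.Sequence.isWeaklyRegular_cons_iff,
    RingTheory.Sequence.isWeaklyRegular_cons_iff] at h
  obtain ⟨h1, h2, -⟩ := h
  refine ⟨a, b, (IsLocalRing.mem_maximalIdeal a).mp ha, (IsLocalRing.mem_maximalIdeal b).mp hb,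
    ?_, ?_⟩
  · intro c hc
    apply h1
    show a • c = a • (0 : S)
    rw [smul_eq_mul, smul_eq_mul, hc, mul_zero]
  · intro c d hcd
    have h3 : (Submodule.Quotient.mk c : QuotSMulTop a S) = 0 := by
      apply h2
      show b • (Submodule.Quotient.mk c : QuotSMulTop a S) = b • (0 : QuotSMulTop a S)
      rw [smul_zero, ← Submodule.Quotient.mk_smul, Submodule.Quotient.mk_eq_zero, smul_eq_mul, hcd]
      exact Submodule.smul_mem_pointwise_smul d a ⊤ Submodule.mem_top
    rw [Submodule.Quotient.mk_eq_zero, Submodule.mem_smul_pointwise_iff_exists] at h3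
    obtain ⟨c', -, hc'⟩ := h3
    exact ⟨c', by rw [← hc', smul_eq_mul]⟩

/-! ### restriction maps on an affine scheme -/

section PartA

variable {P : Scheme.{u}}

lemma res_comp {U₁ U₂ U₃ : P.Opens} (h₁ : U₁ ≤ U₂) (h₂ : U₂ ≤ U₃) (x : Γ(P, U₃)) :
    (P.presheaf.map (homOfLE h₁).op).hom ((P.presheaf.map (homOfLE h₂).op).hom x) =
      (P.presheaf.map (homOfLE (h₁.trans h₂)).op).hom x := by
  rw [← RingHom.comp_apply, ← CommRingCat.hom_comp, ← Functor.map_comp]
  rfl

lemma res_eq_zero_of_eq {U W W' : P.Opens} (e : W = W') (h : W ≤ U) (h' : W' ≤ U) (x : Γ(P, U))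
    (hx : (P.presheaf.map (homOfLE h').op).hom x = 0) :
    (P.presheaf.map (homOfLE h).op).hom x = 0 := by
  subst e
  exact hx

variable [IsAffine P] (V : P.Opens)

/-- restriction map from global sections -/
noncomputable abbrev res : Γ(P, ⊤) →+* Γ(P, V) :=
  (P.presheaf.map (homOfLE (le_top : V ≤ ⊤)).op).hom

theorem hyp_res (hV : IsCompact (V : Set P))
    (hd : ∀ z : P, z ∉ V → DepthTwo (P.presheaf.stalk z)) :
    ∃ G : Finset Γ(P, ⊤), HartogsAlg.Hyp (res V) G := by
  classical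
  obtain ⟨s, hs, hVs⟩ :=
    isCompact_and_isOpen_iff_finite_and_eq_biUnion_basicOpen.mp ⟨hV, V.isOpen⟩
  have hle : ∀ r ∈ s, P.basicOpen r ≤ V := fun r hr x hx => by
    have h1 : x ∈ (V : Set P) := by
      rw [hVs]
      exact Set.mem_biUnion hr hx
    exact h1
  have hcov : ∀ x ∈ V, ∃ r ∈ s, x ∈ P.basicOpen r := fun x hx => by
    have h1 : x ∈ (V : Set P) := hx
    rw [hVs] at h1
    obtain ⟨r, hr, hxr⟩ := Set.mem_iUnion₂.mp h1
    exact ⟨r, hr, hxr⟩
  refine ⟨hs.toFinset, ⟨?_, ?_, ?_, ?_⟩⟩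
  · -- k1a
    intro r hr t ht
    rw [Set.Finite.mem_toFinset] at hr
    apply exists_pow_mul_eq_zero_of_res_basicOpen_eq_zero_of_isAffineOpen P (isAffineOpen_top P) t r
    show (P.presheaf.map (homOfLE (P.basicOpen_le r)).op).hom t = 0
    have h1 := res_comp (hle r hr) (le_top : V ≤ ⊤) t
    have h2 : (P.presheaf.map (homOfLE (le_top : V ≤ ⊤)).op).hom t = 0 := ht
    rw [h2, map_zero] at h1
    exact h1.symm
  · -- k1b
    intro r hr t
    rw [Set.Finite.mem_toFinset] at hr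
    obtain ⟨n, y, hy⟩ := exists_eq_pow_mul_of_isAffineOpen P ⊤ (isAffineOpen_top P) r
      ((P.presheaf.map (homOfLE (hle r hr)).op).hom t)
    have hb : P.basicOpen (res V r) = P.basicOpen r :=
      (Scheme.basicOpen_res P r (homOfLE (le_top : V ≤ ⊤)).op).trans
        (inf_eq_right.mpr (hle r hr))
    have key : (P.presheaf.map (homOfLE (P.basicOpen_le (res V r))).op).hom
        (res V y - res V r ^ n * t) = 0 := by
      refine res_eq_zero_of_eq hb _ (hle r hr) _ ?_
      rw [map_sub, map_mul, map_pow, res_comp, res_comp, sub_eq_zero]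
      exact hy
    obtain ⟨m, hm⟩ := exists_pow_mul_eq_zero_of_res_basicOpen_eq_zero_of_isCompact P hV
      (res V y - res V r ^ n * t) (res V r) key
    refine ⟨m + n, r ^ m * y, ?_⟩
    rw [mul_sub, sub_eq_zero] at hm
    rw [map_mul, map_pow, pow_add, mul_assoc]
    exact hm
  · -- k3
    intro t ht
    refine P.sheaf.eq_of_locally_eq' (fun i : s => P.basicOpen i.1) V
      (fun i => homOfLE (hle i.1 i.2)) ?_ t 0 (fun i => ?_)
    · intro x hx
      obtain ⟨r, hr, hxr⟩ := hcov x hx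
      exact Opens.mem_iSup.2 ⟨⟨r, hr⟩, hxr⟩
    · rw [map_zero]
      obtain ⟨m, hm⟩ := ht i.1 (hs.mem_toFinset.mpr i.2)
      have h1 := congrArg (P.presheaf.map (homOfLE (hle i.1 i.2)).op).hom hm
      rw [map_mul, map_pow, map_zero, res_comp] at h1
      have hu : IsUnit ((P.presheaf.map (homOfLE (P.basicOpen_le i.1)).op).hom i.1) :=
        RingedSpace.isUnit_res_basicOpen _ i.1
      exact (hu.pow m).mul_right_eq_zero.mp h1
  · -- depth
    intro q hq hG
    let y : PrimeSpectrum Γ(P, ⊤) := ⟨q, hq⟩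
    let z : P := (isAffineOpen_top P).fromSpec y
    let _ : Algebra Γ(P, ⊤) (P.presheaf.stalk z) :=
      TopCat.Presheaf.algebra_section_stalk P.presheaf (U := ⊤) ⟨z, trivial⟩
    have hloc : IsLocalization.AtPrime (P.presheaf.stalk z) q :=
      (isAffineOpen_top P).isLocalization_stalk' y trivial
    have hzV : z ∉ V := by
      intro hz
      obtain ⟨r, hr, hzr⟩ := hcov z hz
      rw [Scheme.mem_basicOpen_top] at hzr
      have h1 : IsUnit (algebraMap Γ(P, ⊤) (P.presheaf.stalk z) r) := hzr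
      rw [IsLocalization.AtPrime.isUnit_to_map_iff (P.presheaf.stalk z) q] at h1
      exact h1 (hG r (hs.mem_toFinset.mpr hr))
    obtain ⟨a, b, ha, hb, hi, hii⟩ := hd z hzV
    exact HartogsAlg.depthTwoAt_of_isLocalization q a b ha hb hi hii

theorem bijective_res (hV : IsCompact (V : Set P))
    (hd : ∀ z : P, z ∉ V → DepthTwo (P.presheaf.stalk z)) :
    Function.Bijective (res V) := by
  obtain ⟨G, hG⟩ := hyp_res V hV hd
  exact HartogsAlg.bijective hG

end PartA

/-! ### quasi-compact open immersions into an affine scheme -/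

theorem bijective_appTop {W P : Scheme.{u}} [IsAffine P] (j : W ⟶ P) [IsOpenImmersion j]
    [QuasiCompact j]
    (hd : ∀ z : P, z ∉ Set.range j → DepthTwo (P.presheaf.stalk z)) :
    Function.Bijective j.appTop.hom := by
  let V : P.Opens := j.opensRange
  have hV' : V.ι ''ᵁ ⊤ = V := Scheme.Opens.ι_image_top V
  have hrange : IsCompact (Set.range j) := by
    have h0 : IsCompact (j ⁻¹' (Set.univ : Set P)) :=
      QuasiCompact.isCompact_preimage (f := j) _ isOpen_univ isCompact_univ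
    have h1 := h0.image j.continuous
    rwa [Set.preimage_univ, Set.image_univ] at h1
  have hcomp : IsCompact ((V.ι ''ᵁ ⊤ : P.Opens) : Set P) := by
    rw [hV']
    exact hrange
  have h1 := bijective_res (V.ι ''ᵁ ⊤) hcomp (fun z hz => hd z (by
    rw [hV'] at hz
    exact hz))
  have h2 : Function.Bijective V.ι.appTop.hom := h1
  have h3 : j.appTop = V.ι.appTop ≫ j.isoOpensRange.hom.appTop := by
    rw [← Scheme.Hom.comp_appTop, Scheme.Hom.isoOpensRange_hom_ι]
  have h5 : Function.Bijective j.isoOpensRange.hom.appTop.hom := by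
    refine Function.bijective_iff_has_inverse.mpr ⟨j.isoOpensRange.inv.appTop.hom, ?_, ?_⟩
    · intro x
      rw [← RingHom.comp_apply, ← CommRingCat.hom_comp, ← Scheme.Hom.comp_appTop,
        Iso.inv_hom_id, Scheme.Hom.id_appTop]
      rfl
    · intro x
      rw [← RingHom.comp_apply, ← CommRingCat.hom_comp, ← Scheme.Hom.comp_appTop,
        Iso.hom_inv_id, Scheme.Hom.id_appTop]
      rfl
  rw [h3, CommRingCat.hom_comp, RingHom.coe_comp]
  exact h5.comp h2

/-! ### morphisms to affine schemes -/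

lemma isoSpec_inv_appTop (X : Scheme.{u}) [IsAffine X] :
    X.isoSpec.inv.appTop = (Scheme.ΓSpecIso Γ(X, ⊤)).inv := by
  rw [← cancel_mono (Scheme.ΓSpecIso Γ(X, ⊤)).hom, Iso.inv_hom_id, ← Scheme.toSpecΓ_appTop,
    ← Scheme.Hom.comp_appTop, Scheme.toSpecΓ_isoSpec_inv]
  rfl

lemma exists_hom_of_appTop {Y X : Scheme.{u}} [IsAffine X] (φ : Γ(X, ⊤) ⟶ Γ(Y, ⊤)) :
    ∃ u : Y ⟶ X, u.appTop = φ := by
  refine ⟨(ΓSpec.adjunction.homEquiv Y (op Γ(X, ⊤))) φ.op ≫ X.isoSpec.inv, ?_⟩
  rw [Scheme.Hom.comp_appTop, ΓSpec_adjunction_homEquiv_eq, isoSpec_inv_appTop,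
    Iso.inv_hom_id_assoc]

lemma cancel_of_appTop_injective {W P Z : Scheme.{u}} [IsAffine Z] (j : W ⟶ P)
    (hj : Function.Injective j.appTop.hom) {σ σ' : P ⟶ Z} (h : j ≫ σ = j ≫ σ') : σ = σ' := by
  apply ext_of_isAffine
  apply CommRingCat.hom_ext
  apply RingHom.ext
  intro x
  apply hj
  have h1 := congrArg (fun φ => φ.appTop.hom x) h
  exact h1

lemma exists_extension {W P Z : Scheme.{u}} [IsAffine Z] (j : W ⟶ P)
    (hj : Function.Bijective j.appTop.hom) (τ : W ⟶ Z) : ∃ σ : P ⟶ Z, j ≫ σ = τ := by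
  let e := RingEquiv.ofBijective j.appTop.hom hj
  obtain ⟨σ, hσ⟩ := exists_hom_of_appTop (Y := P) (X := Z)
    (τ.appTop ≫ CommRingCat.ofHom e.symm.toRingHom)
  refine ⟨σ, ?_⟩
  apply ext_of_isAffine
  apply CommRingCat.hom_ext
  apply RingHom.ext
  intro x
  show j.appTop.hom (σ.appTop.hom x) = τ.appTop.hom x
  rw [hσ]
  exact e.apply_symm_apply (τ.appTop.hom x)

/-! ### the local statement -/

section Local

variable {X : Scheme.{u}} (U : X.Opens) {Y : Scheme.{u}} (f : Y ⟶ X)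
  (t : (U : Scheme.{u}) ⟶ Y)

/-- `g` lifts `π` through `f`, compatibly with `t` over `U`. -/
def Good {P : Scheme.{u}} (π : P ⟶ X) (g : P ⟶ Y) : Prop :=
  g ≫ f = π ∧ pullback.snd U.ι π ≫ g = pullback.fst U.ι π ≫ t

variable {U f t}

lemma Good.test {P : Scheme.{u}} {π : P ⟶ X} {g : P ⟶ Y} (hg : Good U f t π g)
    {T : Scheme.{u}} (u : T ⟶ U) (p : T ⟶ P) (h : u ≫ U.ι = p ≫ π) : p ≫ g = u ≫ t := by
  calc p ≫ g = (pullback.lift u p h ≫ pullback.snd U.ι π) ≫ g := by rw [pullback.lift_snd]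
    _ = pullback.lift u p h ≫ pullback.fst U.ι π ≫ t := by rw [Category.assoc, hg.2]
    _ = u ≫ t := by rw [← Category.assoc, pullback.lift_fst]

lemma Good.comp {P P' : Scheme.{u}} {π : P ⟶ X} {g : P ⟶ Y} (hg : Good U f t π g)
    (a : P' ⟶ P) {π' : P' ⟶ X} (hπ : a ≫ π = π') : Good U f t π' (a ≫ g) := by
  subst hπ
  refine ⟨by rw [Category.assoc, hg.1], ?_⟩
  have h1 := hg.test (pullback.fst U.ι (a ≫ π)) (pullback.snd U.ι (a ≫ π) ≫ a)
    (by rw [Category.assoc]; exact pullback.condition)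
  rw [Category.assoc] at h1
  exact h1

variable (U f t)

theorem existsUnique_good [QuasiCompact U.ι] [IsAffineHom f] (ht : t ≫ f = U.ι)
    (hZ : ∀ z : X, z ∉ U → DepthTwo (X.presheaf.stalk z))
    {P : Scheme.{u}} [IsAffine P] (π : P ⟶ X) [IsOpenImmersion π] :
    ∃! g : P ⟶ Y, Good U f t π g := by
  let j : pullback U.ι π ⟶ P := pullback.snd U.ι π
  have hdepth : ∀ z : P, z ∉ Set.range j → DepthTwo (P.presheaf.stalk z) := by
    intro z hz
    have hπz : π z ∉ U := by
      intro h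
      apply hz
      rw [Scheme.Pullback.range_snd]
      show π z ∈ Set.range U.ι
      rw [Scheme.Opens.range_ι]
      exact h
    exact (hZ (π z) hπz).of_ringEquiv (asIso (π.stalkMap z)).commRingCatIsoToRingEquiv
  have hbij : Function.Bijective j.appTop.hom := bijective_appTop j hdepth
  let τ' : pullback U.ι π ⟶ pullback f π :=
    pullback.lift (pullback.fst U.ι π ≫ t) j (by
      rw [Category.assoc, ht]
      exact pullback.condition)
  have hτ1 : τ' ≫ pullback.fst f π = pullback.fst U.ι π ≫ t := pullback.lift_fst _ _ _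
  have hτ2 : τ' ≫ pullback.snd f π = j := pullback.lift_snd _ _ _
  obtain ⟨σ, hσ⟩ := exists_extension j hbij τ'
  have hσ1 : σ ≫ pullback.snd f π = 𝟙 P := by
    apply cancel_of_appTop_injective j hbij.1
    rw [← Category.assoc, hσ, hτ2, Category.comp_id]
  refine ⟨σ ≫ pullback.fst f π, ⟨?_, ?_⟩, ?_⟩
  · rw [Category.assoc, pullback.condition, ← Category.assoc, hσ1, Category.id_comp]
  · show j ≫ σ ≫ pullback.fst f π = pullback.fst U.ι π ≫ t
    rw [← Category.assoc, hσ, hτ1]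
  · intro g' hg'
    let σ' : P ⟶ pullback f π := pullback.lift g' (𝟙 P) (by rw [hg'.1, Category.id_comp])
    have hσ'1 : σ' ≫ pullback.fst f π = g' := pullback.lift_fst _ _ _
    have hσ'2 : σ' ≫ pullback.snd f π = 𝟙 P := pullback.lift_snd _ _ _
    have hjσ' : j ≫ σ' = τ' := by
      apply pullback.hom_ext
      · rw [Category.assoc, hσ'1, hτ1]
        exact hg'.2
      · rw [Category.assoc, hσ'2, hτ2, Category.comp_id]
    have hσσ' : σ' = σ := by
      apply cancel_of_appTop_injective j hbij.1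
      rw [hjσ', hσ]
    rw [← hσ'1, hσσ']

end Local

/-! ### gluing -/

theorem main (X : Scheme.{u}) (U : X.Opens) [QuasiCompact U.ι]
    (hZ : ∀ z : X, z ∉ U → DepthTwo (X.presheaf.stalk z))
    (Y : Scheme.{u}) (f : Y ⟶ X) [IsAffineHom f]
    (t : (U : Scheme.{u}) ⟶ Y) (ht : t ≫ f = U.ι) :
    ∃! s : X ⟶ Y, s ≫ f = 𝟙 X ∧ U.ι ≫ s = t := by
  let 𝒰 : X.OpenCover := X.affineCover
  have hex : ∀ i : 𝒰.I₀, ∃! g : 𝒰.X i ⟶ Y, Good U f t (𝒰.f i) g :=
    fun i => existsUnique_good U f t ht hZ (𝒰.f i)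
  let g : ∀ i : 𝒰.I₀, 𝒰.X i ⟶ Y := fun i => (hex i).choose
  have hg : ∀ i, Good U f t (𝒰.f i) (g i) := fun i => (hex i).choose_spec.1
  have hcompat : ∀ i j, pullback.fst (𝒰.f i) (𝒰.f j) ≫ g i =
      pullback.snd (𝒰.f i) (𝒰.f j) ≫ g j := by
    intro i j
    refine Scheme.Cover.hom_ext (pullback (𝒰.f i) (𝒰.f j)).affineCover _ _ fun k => ?_
    have h1 : Good U f t
        ((pullback (𝒰.f i) (𝒰.f j)).affineCover.f k ≫ pullback.fst (𝒰.f i) (𝒰.f j) ≫ 𝒰.f i)
        ((pullback (𝒰.f i) (𝒰.f j)).affineCover.f k ≫ pullback.fst (𝒰.f i) (𝒰.f j) ≫ g i) := by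
      have h := (hg i).comp
        ((pullback (𝒰.f i) (𝒰.f j)).affineCover.f k ≫ pullback.fst (𝒰.f i) (𝒰.f j))
        (Category.assoc _ _ _)
      rwa [Category.assoc] at h
    have h2 : Good U f t
        ((pullback (𝒰.f i) (𝒰.f j)).affineCover.f k ≫ pullback.fst (𝒰.f i) (𝒰.f j) ≫ 𝒰.f i)
        ((pullback (𝒰.f i) (𝒰.f j)).affineCover.f k ≫ pullback.snd (𝒰.f i) (𝒰.f j) ≫ g j) := by
      have h := (hg j).comp
        ((pullback (𝒰.f i) (𝒰.f j)).affineCover.f k ≫ pullback.snd (𝒰.f i) (𝒰.f j))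
        (π' := (pullback (𝒰.f i) (𝒰.f j)).affineCover.f k ≫
          pullback.fst (𝒰.f i) (𝒰.f j) ≫ 𝒰.f i)
        (by rw [Category.assoc, pullback.condition])
      rwa [Category.assoc] at h
    exact (existsUnique_good U f t ht hZ _).unique h1 h2
  refine ⟨𝒰.glueMorphisms g hcompat, ⟨?_, ?_⟩, ?_⟩
  · refine Scheme.Cover.hom_ext 𝒰 _ _ fun i => ?_
    rw [← Category.assoc, Scheme.Cover.ι_glueMorphisms, (hg i).1, Category.comp_id]
  · refine Scheme.Cover.hom_ext (𝒰.pullback₁ U.ι) _ _ fun (i : 𝒰.I₀) => ?_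
    show pullback.fst U.ι (𝒰.f i) ≫ U.ι ≫ 𝒰.glueMorphisms g hcompat =
      pullback.fst U.ι (𝒰.f i) ≫ t
    rw [← Category.assoc, pullback.condition, Category.assoc, Scheme.Cover.ι_glueMorphisms,
      (hg i).2]
  · rintro s' ⟨hs1, hs2⟩
    refine Scheme.Cover.hom_ext 𝒰 _ _ fun i => ?_
    rw [Scheme.Cover.ι_glueMorphisms]
    refine (hex i).unique ⟨by rw [Category.assoc, hs1, Category.comp_id], ?_⟩ (hg i)
    rw [← Category.assoc, ← pullback.condition, Category.assoc, hs2]

/-- the statement in the form of the milestone. -/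
theorem main' (X : Scheme.{u}) (U : X.Opens) [QuasiCompact U.ι]
    (hZ : ∀ z : X, z ∉ U → ∃ a b : X.presheaf.stalk z,
      a ∈ IsLocalRing.maximalIdeal (X.presheaf.stalk z) ∧
      b ∈ IsLocalRing.maximalIdeal (X.presheaf.stalk z) ∧
      RingTheory.Sequence.IsWeaklyRegular (X.presheaf.stalk z) [a, b])
    (Y : Scheme.{u}) (f : Y ⟶ X) [IsAffineHom f]
    (t : (U : Scheme.{u}) ⟶ Y) (ht : t ≫ f = U.ι) :
    ∃! s : X ⟶ Y, s ≫ f = 𝟙 X ∧ U.ι ≫ s = t := by
  refine main X U (fun z hz => ?_) Y f t ht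
  obtain ⟨a, b, ha, hb, hreg⟩ := hZ z hz
  exact depthTwo_of_isWeaklyRegular a b ha hb hreg

end Groth.Agent.Helper8.HartogsSch
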