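import Mathlib

set_option autoImplicit false
universe u
open CategoryTheory CategoryTheory.Limits AlgebraicGeometry TopologicalSpace Opposite
open scoped TensorProduct

namespace Groth.Agent.Helper8.HensCoupleA

/-- for a flat `B`-algebra `C` and any `B`-algebra `R₀`, the kernel of `C → R₀ ⊗ C` is `ker(B → R₀) C` -/
theorem ker_includeRight (B R₀ C : Type u) [CommRing B] [CommRing R₀] [CommRing C]
    [Algebra B R₀] [Algebra B C] [Module.Flat B C] :
    RingHom.ker (Algebra.TensorProduct.includeRight : C →ₐ[B] R₀ ⊗[B] C).toRingHom =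
      (RingHom.ker (algebraMap B R₀)).map (algebraMap B C) := by
  apply le_antisymm
  · intro c hc
    rw [RingHom.mem_ker] at hc
    have hc' : (1 : R₀) ⊗ₜ[B] c = 0 := hc
    set K : Ideal B := RingHom.ker (algebraMap B R₀) with hK
    let ρ : (B ⧸ K) →ₐ[B] R₀ := Ideal.Quotient.liftₐ K (Algebra.ofId B R₀) (fun a ha => ha)
    have hρ : Function.Injective ρ.toLinearMap := by
      rw [← LinearMap.ker_eq_bot, LinearMap.ker_eq_bot']
      intro x hx
      obtain ⟨b, rfl⟩ := Ideal.Quotient.mk_surjective x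
      have : algebraMap B R₀ b = 0 := hx
      exact Ideal.Quotient.eq_zero_iff_mem.2 this
    have hinj := Module.Flat.rTensor_preserves_injective_linearMap (M := C) ρ.toLinearMap hρ
    have ht : ((1 : B ⧸ K) ⊗ₜ[B] c) = 0 := by
      apply hinj
      rw [map_zero, LinearMap.rTensor_tmul]
      have : ρ.toLinearMap 1 = 1 := map_one ρ
      rw [this, hc']
    have h2 := congrArg (TensorProduct.quotTensorEquivQuotSMul C K) ht
    rw [TensorProduct.quotTensorEquivQuotSMul_mk_one_tmul, map_zero,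
      Submodule.Quotient.mk_eq_zero, Ideal.smul_top_eq_map] at h2
    exact h2
  · rw [Ideal.map_le_iff_le_comap]
    intro b hb
    rw [Ideal.mem_comap, RingHom.mem_ker]
    have hb' : algebraMap B R₀ b = 0 := hb
    show (Algebra.TensorProduct.includeRight : C →ₐ[B] R₀ ⊗[B] C) (algebraMap B C b) = 0
    rw [AlgHom.commutes, Algebra.TensorProduct.algebraMap_apply, hb', TensorProduct.zero_tmul]

/-- the kernel of the second inclusion into a pushout of commutative rings along a flat map -/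
theorem ker_inr_of_isPushout {B R₀ C P : CommRingCat.{u}} {ρ : B ⟶ R₀} {φ : B ⟶ C}
    {inl : R₀ ⟶ P} {inr : C ⟶ P} (h : IsPushout ρ φ inl inr) (hφ : φ.hom.Flat) :
    RingHom.ker inr.hom = (RingHom.ker ρ.hom).map φ.hom := by
  letI : Algebra B R₀ := ρ.hom.toAlgebra
  letI : Algebra B C := φ.hom.toAlgebra
  haveI : Module.Flat B C := hφ
  have h' := CommRingCat.isPushout_tensorProduct B R₀ C
  have hk : RingHom.ker inr.hom =
      RingHom.ker (Algebra.TensorProduct.includeRight : C →ₐ[B] R₀ ⊗[B] C).toRingHom := by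
    apply le_antisymm
    · intro c hc
      rw [RingHom.mem_ker] at hc ⊢
      have h1 := h.inr_desc _ _ h'.w
      have h2 := congrArg (fun f => f.hom c) h1
      simp only [CommRingCat.hom_comp, RingHom.coe_comp, Function.comp_apply] at h2
      rw [hc, map_zero] at h2
      exact h2.symm
    · intro c hc
      rw [RingHom.mem_ker] at hc ⊢
      have h1 := h'.inr_desc _ _ h.w
      have h2 := congrArg (fun f => f.hom c) h1
      simp only [CommRingCat.hom_comp, RingHom.coe_comp, Function.comp_apply] at h2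
      have hc' : (CommRingCat.ofHom (Algebra.TensorProduct.includeRight :
          C →ₐ[B] R₀ ⊗[B] C).toRingHom).hom c = 0 := hc
      rw [hc', map_zero] at h2
      exact h2.symm
  rw [hk]
  exact ker_includeRight B R₀ C

/-- flat base change for global sections, packaged as a pushout square of rings -/
theorem isPushout_appTop {X' Y' : Scheme.{u}} {B C : CommRingCat.{u}} (a : X' ⟶ Spec B)
    (φ : B ⟶ C) (g' : Y' ⟶ X') (q' : Y' ⟶ Spec C)
    (H : IsPullback g' q' a (Spec.map φ)) (hφ : φ.hom.Flat)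
    [CompactSpace X'] [QuasiSeparatedSpace X'] :
    IsPushout ((Scheme.ΓSpecIso B).inv ≫ a.appTop) φ g'.appTop
      ((Scheme.ΓSpecIso C).inv ≫ q'.appTop) := by
  haveI : Flat (Spec.map φ) := (Flat.SpecMap_iff).2 hφ
  have hUST : (⊤ : (Spec C).Opens) ≤ (Spec.map φ) ⁻¹ᵁ (⊤ : (Spec B).Opens) := le_of_eq rfl
  have hUSX : (⊤ : X'.Opens) ≤ a ⁻¹ᵁ (⊤ : (Spec B).Opens) := le_of_eq rfl
  have hUY : (⊤ : Y'.Opens) = g' ⁻¹ᵁ (⊤ : X'.Opens) ⊓ q' ⁻¹ᵁ (⊤ : (Spec C).Opens) := by
    simp
  have h1 := isIso_pushoutSection_of_isQuasiSeparated_of_flat_right H hUST hUSX hUY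
    (isAffineOpen_top _) (isAffineOpen_top _) isCompact_univ isQuasiSeparated_univ
  have h2 := (isIso_pushoutSection_iff H hUST hUSX hUY).1 h1
  have e1 : a.appLE ⊤ ⊤ hUSX = a.appTop := by
    simp [Scheme.Hom.appLE, Scheme.Hom.appTop]
  have e2 : (Spec.map φ).appLE ⊤ ⊤ hUST = (Spec.map φ).appTop := by
    simp [Scheme.Hom.appLE, Scheme.Hom.appTop]
  have e3 : ∀ h, g'.appLE ⊤ ⊤ h = g'.appTop := by
    intro h
    simp [Scheme.Hom.appLE, Scheme.Hom.appTop]
  have e4 : ∀ h, q'.appLE ⊤ ⊤ h = q'.appTop := by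
    intro h
    simp [Scheme.Hom.appLE, Scheme.Hom.appTop]
  rw [e1, e2, e3, e4] at h2
  refine h2.of_iso (Scheme.ΓSpecIso B) (Iso.refl _) (Scheme.ΓSpecIso C) (Iso.refl _) ?_ ?_ ?_ ?_
  · simp
  · simp
  · simp
  · simp

end Groth.Agent.Helper8.HensCoupleA
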