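import Mathlib
import Groth.Agent.Helper8.ClopLiftSch
import Groth.Agent.Helper8.SchIdem
import Groth.Agent.Helper8.HensCoupleA
import Groth.Agent.S5057
import Groth.Agent.S17968

set_option autoImplicit false
universe u
open CategoryTheory CategoryTheory.Limits AlgebraicGeometry TopologicalSpace Opposite

namespace Groth.Agent.Helper8.HensCoupleB

open Groth.Agent.Helper8

theorem isUnit_of_basicOpen_eq_univ {X : Scheme.{u}} (f : Γ(X, ⊤))
    (h : (X.basicOpen f : Set X) = Set.univ) : IsUnit f := by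
  apply X.toRingedSpace.isUnit_of_isUnit_germ ⊤ f
  intro x hx
  have hx' : x ∈ X.basicOpen f := by
    rw [← SetLike.mem_coe, h]; trivial
  exact (Scheme.mem_basicOpen _ _ _ hx).1 hx'

variable {X X₀ : Scheme.{u}} (i : X₀ ⟶ X) [IsClosedImmersion i]

theorem ker_le_jacobson
    (hX : ∀ (Y : Scheme.{u}) (g : Y ⟶ X), IsFinite g →
      ∀ V : Set ↥(pullback g (i)), IsClopen V →
        ∃! U : Set ↥Y, IsClopen U ∧ (pullback.fst g (i)).base ⁻¹' U = V) :
    RingHom.ker i.appTop.hom ≤ Ideal.jacobson ⊥ := by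
  intro b hb
  rw [Ideal.mem_jacobson_bot]
  intro y
  have hby : i.appTop.hom (b * y + 1) = 1 := by
    rw [map_add, map_mul, (RingHom.mem_ker).1 hb, zero_mul, zero_add, map_one]
  have hpre : i ⁻¹ᵁ X.basicOpen (b * y + 1) = ⊤ := by
    rw [Scheme.preimage_basicOpen_top]
    have : i.appTop (b * y + 1) = 1 := hby
    rw [this, Scheme.basicOpen_one]
  have hsub : Set.range (pullback.fst (𝟙 X) i).base ⊆ (X.basicOpen (b * y + 1) : Set X) := by
    rw [ClopLiftSch.range_fst]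
    rintro x ⟨x₀, hx₀⟩
    have hx₀' : i.base x₀ = x := hx₀
    have : x₀ ∈ i ⁻¹ᵁ X.basicOpen (b * y + 1) := by rw [hpre]; trivial
    rw [← hx₀']
    exact this
  have h1 := Groth.Agent.S5057.result i hX (𝟙 X) _ (X.basicOpen (b * y + 1)).2 hsub
  exact isUnit_of_basicOpen_eq_univ _ h1

theorem surjOn_idem [CompactSpace ↥X] [QuasiSeparatedSpace ↥X]
    (hX : ∀ (Y : Scheme.{u}) (g : Y ⟶ X), IsFinite g →
      ∀ V : Set ↥(pullback g (i)), IsClopen V →
        ∃! U : Set ↥Y, IsClopen U ∧ (pullback.fst g (i)).base ⁻¹' U = V)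
    (p : Polynomial Γ(X, ⊤)) (hp : p.Monic) :
    Set.SurjOn (Ideal.Quotient.mk (Ideal.map (algebraMap Γ(X, ⊤) (AdjoinRoot p))
        (RingHom.ker i.appTop.hom)))
      {e : AdjoinRoot p | IsIdempotentElem e} {e | IsIdempotentElem e} := by
  classical
  let B : CommRingCat.{u} := Γ(X, ⊤)
  let C : CommRingCat.{u} := CommRingCat.of (AdjoinRoot p)
  let φ : B ⟶ C := CommRingCat.ofHom (algebraMap Γ(X, ⊤) (AdjoinRoot p))
  haveI : Module.Free Γ(X, ⊤) (AdjoinRoot p) := hp.free_adjoinRoot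
  haveI : Module.Finite Γ(X, ⊤) (AdjoinRoot p) := hp.finite_adjoinRoot
  have hφflat : φ.hom.Flat := RingHom.flat_algebraMap_iff.2 inferInstance
  have hφfin : φ.hom.Finite := RingHom.finite_algebraMap.2 inferInstance
  let c : X ⟶ Spec B := X.toSpecΓ
  let π : Spec C ⟶ Spec B := Spec.map φ
  haveI : IsFinite π := (IsFinite.SpecMap_iff φ).2 hφfin
  let g : pullback c π ⟶ X := pullback.fst c π
  let q : pullback c π ⟶ Spec C := pullback.snd c π
  haveI : IsFinite g := inferInstance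
  -- global sections of `Y`
  have hpo1 := HensCoupleA.isPushout_appTop c φ g q (IsPullback.of_hasPullback c π) hφflat
  have hid : (Scheme.ΓSpecIso B).inv ≫ c.appTop = 𝟙 B := by
    rw [Scheme.toSpecΓ_appTop]; simp
  haveI : IsIso ((Scheme.ΓSpecIso B).inv ≫ c.appTop) := by rw [hid]; infer_instance
  have hθ : IsIso ((Scheme.ΓSpecIso C).inv ≫ q.appTop) := hpo1.isIso_inr_of_isIso
  -- kernel of `C → Γ(Y₀)`
  let P : pullback g i ⟶ pullback c π := pullback.fst g i
  let s : pullback g i ⟶ X₀ := pullback.snd g i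
  haveI : CompactSpace ↥X₀ := i.isClosedEmbedding.compactSpace
  haveI : QuasiSeparatedSpace ↥X₀ := quasiSeparatedSpace_of_quasiSeparated i
  have hpb : IsPullback s (P ≫ q) (i ≫ c) π :=
    ((IsPullback.of_hasPullback g i).paste_horiz (IsPullback.of_hasPullback c π).flip).flip
  have hpo2 := HensCoupleA.isPushout_appTop (i ≫ c) φ s (P ≫ q) hpb hφflat
  have hρ : (Scheme.ΓSpecIso B).inv ≫ (i ≫ c).appTop = i.appTop := by
    rw [Scheme.Hom.comp_appTop, ← Category.assoc, hid, Category.id_comp]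
  rw [hρ] at hpo2
  have hker := HensCoupleA.ker_inr_of_isPushout hpo2 hφflat
  set rC : AdjoinRoot p →+* Γ(pullback g i, ⊤) :=
    ((Scheme.ΓSpecIso C).inv ≫ (P ≫ q).appTop).hom with hrCdef
  set θ : AdjoinRoot p →+* Γ(pullback c π, ⊤) := ((Scheme.ΓSpecIso C).inv ≫ q.appTop).hom
    with hθdef
  have hrC : ∀ x, rC x = P.appTop.hom (θ x) := by
    intro x
    simp only [hrCdef, hθdef, Scheme.Hom.comp_appTop, CommRingCat.hom_comp, RingHom.coe_comp,
      Function.comp_apply]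
  have hθbij : Function.Bijective θ := (ConcreteCategory.isIso_iff_bijective _).1 hθ
  have hker' : RingHom.ker rC = Ideal.map (algebraMap Γ(X, ⊤) (AdjoinRoot p))
      (RingHom.ker i.appTop.hom) := hker
  -- main argument
  intro ē hē
  obtain ⟨c₀, rfl⟩ := Ideal.Quotient.mk_surjective ē
  have hc₀ : c₀ * c₀ - c₀ ∈ RingHom.ker rC := by
    rw [hker']
    have h1 : Ideal.Quotient.mk (Ideal.map (algebraMap Γ(X, ⊤) (AdjoinRoot p))
        (RingHom.ker i.appTop.hom)) (c₀ * c₀) = Ideal.Quotient.mk (Ideal.map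
        (algebraMap Γ(X, ⊤) (AdjoinRoot p)) (RingHom.ker i.appTop.hom)) c₀ := by
      rw [map_mul]; exact hē
    exact Ideal.Quotient.eq.1 h1
  have hσ : IsIdempotentElem (rC c₀) := by
    show rC c₀ * rC c₀ = rC c₀
    rw [← map_mul, ← sub_eq_zero, ← map_sub]
    exact hc₀
  have hV := SchIdem.isClopen_basicOpen (rC c₀) hσ
  obtain ⟨U, ⟨hU1, hU2⟩, -⟩ := hX (pullback c π) g inferInstance _ hV
  obtain ⟨ε, hε, hεU⟩ := SchIdem.exists_idem_basicOpen_eq U hU1
  obtain ⟨e, rfl⟩ := hθbij.2 ε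
  have he : IsIdempotentElem e := hθbij.1 (by rw [map_mul]; exact hε)
  refine ⟨e, he, ?_⟩
  have h3 : (pullback g i).basicOpen (rC e) = (pullback g i).basicOpen (rC c₀) := by
    ext x
    rw [hrC e]
    have h4 : P ⁻¹ᵁ (pullback c π).basicOpen (θ e) = (pullback g i).basicOpen (P.appTop.hom (θ e)) :=
      Scheme.preimage_basicOpen_top P (θ e)
    rw [← h4]
    have h5 : x ∈ P.base ⁻¹' U ↔ x ∈ ((pullback g i).basicOpen (rC c₀) : Set _) := by rw [hU2]
    rw [← hεU] at h5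
    exact h5
  have h6 : rC e = rC c₀ := SchIdem.eq_of_basicOpen_eq _ _ (he.map rC) hσ h3
  have h7 : e - c₀ ∈ RingHom.ker rC := by rw [RingHom.mem_ker, map_sub, h6, sub_self]
  rw [hker'] at h7
  exact Ideal.Quotient.eq.2 h7

theorem main [CompactSpace ↥X] [QuasiSeparatedSpace ↥X]
    (hX : ∀ (Y : Scheme.{u}) (g : Y ⟶ X), IsFinite g →
      ∀ V : Set ↥(pullback g (i)), IsClopen V →
        ∃! U : Set ↥Y, IsClopen U ∧ (pullback.fst g (i)).base ⁻¹' U = V) :
    HenselianRing (Γ(X, ⊤) : Type u) (RingHom.ker i.appTop.hom) :=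
  Groth.Agent.S17968.result _ _ (ker_le_jacobson i hX)
    (fun _ p hp _ => surjOn_idem i hX p hp)

end Groth.Agent.Helper8.HensCoupleB
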