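import Mathlib
import Groth.Agent.Helper8.HensCoupleB
import Groth.Agent.S0002
import Groth.Agent.Lead.ProperFinA
import Groth.Agent.Helper1.Dev4

/-!
# A proper scheme over a Noetherian ring forming a henselian couple with the closed fibre is proper
over a henselian pair (namely over its ring of global functions)
-/

set_option autoImplicit false
set_option linter.unusedSectionVars false
set_option linter.style.haveILetI false
universe u

open CategoryTheory CategoryTheory.Limits AlgebraicGeometry TopologicalSpace Opposite Polynomial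

namespace Groth.Agent.Helper8.HensProper

/-- a unit modulo an ideal contained in the Jacobson radical is a unit -/
theorem isUnit_of_isUnit_mk {R : Type*} [CommRing R] {I : Ideal R} (hI : I ≤ Ideal.jacobson ⊥)
    (u : R) (hu : IsUnit (Ideal.Quotient.mk I u)) : IsUnit u := by
  obtain ⟨w, hw⟩ := isUnit_iff_exists_inv.1 hu
  obtain ⟨v, rfl⟩ := Ideal.Quotient.mk_surjective w
  have h1 : u * v - 1 ∈ I := by
    rw [← Ideal.Quotient.eq, map_mul, hw, map_one]
  have h2 : IsUnit (u * v) := Ideal.isUnit_of_sub_one_mem_jacobson_bot _ (hI h1)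
  exact isUnit_of_mul_isUnit_left h2

/-- a henselian pair stays henselian when the ideal is shrunk -/
theorem henselianRing_of_le {R : Type*} [CommRing R] {I J : Ideal R} (h : J ≤ I)
    [hI : HenselianRing R I] : HenselianRing R J where
  jac := h.trans hI.jac
  is_henselian := by
    intro f hf a₀ h₁ h₂
    have h₂' : IsUnit (Ideal.Quotient.mk I (f.derivative.eval a₀)) := by
      have := h₂.map (Ideal.Quotient.factor h)
      simpa using this
    obtain ⟨a, ha, haI⟩ := hI.is_henselian f hf a₀ (h h₁) h₂'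
    refine ⟨a, ha, ?_⟩
    obtain ⟨k, hk⟩ := f.binomExpansion a₀ (a - a₀)
    have haa : a₀ + (a - a₀) = a := by ring
    rw [haa, ha] at hk
    set u := f.derivative.eval a₀ + k * (a - a₀) with hu
    have hu_unit : IsUnit u := by
      apply isUnit_of_isUnit_mk hI.jac
      have : Ideal.Quotient.mk I u = Ideal.Quotient.mk I (f.derivative.eval a₀) := by
        rw [hu, map_add, map_mul, Ideal.Quotient.eq_zero_iff_mem.2 haI, mul_zero, add_zero]
      rw [this]; exact h₂'
    have h3 : (a - a₀) * u = -(f.eval a₀) := by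
      rw [hu]; linear_combination -hk
    obtain ⟨v, hv⟩ := hu_unit.exists_right_inv
    have h4 : a - a₀ = -(f.eval a₀) * v := by
      rw [← h3, mul_assoc, hv, mul_one]
    rw [h4]
    exact Ideal.mul_mem_right _ _ (neg_mem h₁)

theorem main (A : Type u) [CommRing A] [IsNoetherianRing A] (I : Ideal A) {X : Scheme.{u}}
    (f : X ⟶ Spec (CommRingCat.of A)) [IsProper f]
    (hX : ∀ (Y : Scheme.{u}) (g : Y ⟶ X), IsFinite g →
      ∀ V : Set ↥(pullback g (pullback.fst f (Spec.map (CommRingCat.ofHom (Ideal.Quotient.mk I))))),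
        IsClopen V →
        ∃! U : Set ↥Y, IsClopen U ∧ (pullback.fst g (pullback.fst f
          (Spec.map (CommRingCat.ofHom (Ideal.Quotient.mk I))))).base ⁻¹' U = V) :
    ∃ (A' : Type u) (_ : CommRing A') (I' : Ideal A') (_ : HenselianRing A' I')
      (_ : IsNoetherianRing A')
      (f' : X ⟶ Spec (CommRingCat.of A')) (_ : IsProper f')
      (t : pullback f (Spec.map (CommRingCat.ofHom (Ideal.Quotient.mk I))) ⟶
        Spec (CommRingCat.of (A' ⧸ I'))),
      IsPullback (pullback.fst f (Spec.map (CommRingCat.ofHom (Ideal.Quotient.mk I)))) t f'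
        (Spec.map (CommRingCat.ofHom (Ideal.Quotient.mk I'))) := by
  set q : Spec (CommRingCat.of (A ⧸ I)) ⟶ Spec (CommRingCat.of A) :=
    Spec.map (CommRingCat.ofHom (Ideal.Quotient.mk I)) with hq
  haveI : IsClosedImmersion q :=
    IsClosedImmersion.spec_of_surjective _ Ideal.Quotient.mk_surjective
  set i : pullback f q ⟶ X := pullback.fst f q with hi
  haveI : IsClosedImmersion i := inferInstance
  haveI : CompactSpace X := QuasiCompact.compactSpace_of_compactSpace f
  haveI : QuasiSeparatedSpace X := quasiSeparatedSpace_of_quasiSeparated f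
  haveI hH : HenselianRing (Γ(X, ⊤) : Type u) (RingHom.ker i.appTop.hom) :=
    HensCoupleB.main i hX
  -- the ring of global functions
  let φ : A →+* Γ(X, ⊤) := f.appTop.hom.comp (Scheme.ΓSpecIso (CommRingCat.of A)).inv.hom
  have hφfin : φ.Finite := by
    letI : X.Over (Spec (CommRingCat.of A)) := ⟨f⟩
    haveI : IsProper (X ↘ Spec (CommRingCat.of A)) := ‹IsProper f›
    exact Groth.Agent.Lead.ProperFinA.finite_toGlobal f
      (Groth.Agent.S0002.result A X (Coh.structureModule X)
        (Groth.Agent.Helper1.Dev.isCoh_structureModule X) 0)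
  haveI : IsNoetherianRing (Γ(X, ⊤) : Type u) := by
    letI := φ.toAlgebra
    haveI : Module.Finite A Γ(X, ⊤) := hφfin
    exact Algebra.FiniteType.isNoetherianRing A Γ(X, ⊤)
  let I' : Ideal Γ(X, ⊤) := I.map φ
  have hI' : I' ≤ RingHom.ker i.appTop.hom := by
    rw [Ideal.map_le_iff_le_comap]
    intro a ha
    rw [Ideal.mem_comap, RingHom.mem_ker]
    have h1 : f.appTop ≫ i.appTop = q.appTop ≫ (pullback.snd f q).appTop := by
      rw [← Scheme.Hom.comp_appTop, ← Scheme.Hom.comp_appTop, pullback.condition]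
    have h2 : (Scheme.ΓSpecIso (CommRingCat.of A)).inv ≫ q.appTop =
        CommRingCat.ofHom (Ideal.Quotient.mk I) ≫ (Scheme.ΓSpecIso (CommRingCat.of (A ⧸ I))).inv :=
      (Scheme.ΓSpecIso_inv_naturality (CommRingCat.ofHom (Ideal.Quotient.mk I))).symm
    have h3 : i.appTop.hom (φ a) = ((Scheme.ΓSpecIso (CommRingCat.of A)).inv ≫ f.appTop ≫
        i.appTop).hom a := rfl
    rw [h3, h1, ← Category.assoc, h2]
    show (pullback.snd f q).appTop.hom ((Scheme.ΓSpecIso (CommRingCat.of (A ⧸ I))).inv.hom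
      (Ideal.Quotient.mk I a)) = 0
    rw [Ideal.Quotient.eq_zero_iff_mem.2 ha, map_zero, map_zero]
  haveI : HenselianRing (Γ(X, ⊤) : Type u) I' := henselianRing_of_le hI'
  -- the morphism to `Spec Γ(X)`
  let f' : X ⟶ Spec Γ(X, ⊤) := X.toSpecΓ
  have hff' : f' ≫ Spec.map (CommRingCat.ofHom φ) = f := by
    have hφ : CommRingCat.ofHom φ = (Scheme.ΓSpecIso (CommRingCat.of A)).inv ≫ f.appTop := rfl
    rw [hφ, Spec.map_comp, ← Scheme.toSpecΓ_naturality_assoc, toSpecΓ_SpecMap_ΓSpecIso_inv,
      Category.comp_id]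
  haveI : IsProper f' := by
    haveI : IsProper (f' ≫ Spec.map (CommRingCat.ofHom φ)) := by rw [hff']; infer_instance
    exact IsProper.of_comp f' (Spec.map (CommRingCat.ofHom φ))
  -- the morphism `X₀ ⟶ Spec (Γ(X)/I')`
  let ψ : (Γ(X, ⊤) : Type u) ⧸ I' →+* Γ(pullback f q, ⊤) :=
    Ideal.Quotient.lift I' i.appTop.hom (fun b hb => hI' hb)
  let q' : Spec (CommRingCat.of ((Γ(X, ⊤) : Type u) ⧸ I')) ⟶ Spec Γ(X, ⊤) :=
    Spec.map (CommRingCat.ofHom (Ideal.Quotient.mk I'))
  haveI : IsClosedImmersion q' :=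
    IsClosedImmersion.spec_of_surjective _ Ideal.Quotient.mk_surjective
  let t : pullback f q ⟶ Spec (CommRingCat.of ((Γ(X, ⊤) : Type u) ⧸ I')) :=
    (pullback f q).toSpecΓ ≫ Spec.map (CommRingCat.ofHom ψ)
  have ht : t ≫ q' = i ≫ f' := by
    have h1 : CommRingCat.ofHom (Ideal.Quotient.mk I') ≫ CommRingCat.ofHom ψ = i.appTop := by
      ext b
      rfl
    show ((pullback f q).toSpecΓ ≫ Spec.map (CommRingCat.ofHom ψ)) ≫
      Spec.map (CommRingCat.ofHom (Ideal.Quotient.mk I')) = i ≫ X.toSpecΓ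
    rw [Category.assoc, ← Spec.map_comp, h1, Scheme.toSpecΓ_naturality]
  -- the comparison of the quotients
  let c : Spec (CommRingCat.of ((Γ(X, ⊤) : Type u) ⧸ I')) ⟶ Spec (CommRingCat.of (A ⧸ I)) :=
    Spec.map (CommRingCat.ofHom (Ideal.quotientMap I' φ Ideal.le_comap_map))
  have hc : c ≫ q = q' ≫ Spec.map (CommRingCat.ofHom φ) := by
    show Spec.map _ ≫ Spec.map _ = Spec.map _ ≫ Spec.map _
    rw [← Spec.map_comp, ← Spec.map_comp]
    congr 1
  refine ⟨(Γ(X, ⊤) : Type u), inferInstance, I', inferInstance, inferInstance, f', inferInstance, t,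
    ?_⟩
  have hw : ∀ s : PullbackCone f' q', s.fst ≫ f = (s.snd ≫ c) ≫ q := by
    intro s
    rw [← hff', ← Category.assoc, s.condition, Category.assoc, Category.assoc, hc]
  refine ⟨⟨ht.symm⟩, ⟨PullbackCone.IsLimit.mk _
    (fun s => pullback.lift s.fst (s.snd ≫ c) (hw s)) ?_ ?_ ?_⟩⟩
  · intro s
    exact pullback.lift_fst _ _ _
  · intro s
    rw [← cancel_mono q', Category.assoc, ht, ← Category.assoc]
    have : pullback.lift s.fst (s.snd ≫ c) (hw s) ≫ i = s.fst := pullback.lift_fst _ _ _
    rw [this, s.condition]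
  · intro s m hm _
    rw [← cancel_mono i]
    have : pullback.lift s.fst (s.snd ≫ c) (hw s) ≫ i = s.fst := pullback.lift_fst _ _ _
    rw [this]
    exact hm

end Groth.Agent.Helper8.HensProper
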