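import Mathlib

namespace Groth.Agent.Helper8.HenselLow

universe u

theorem coprime_lift (A : Type u) [CommRing A] [IsLocalRing A]
    (Q R : Polynomial A) (hQ : Q.Monic)
    (h : IsCoprime (Polynomial.map (IsLocalRing.residue A) Q) (Polynomial.map (IsLocalRing.residue A) R)) :
    IsCoprime Q R := by
  classical
  obtain ⟨a, b, hab⟩ := h
  obtain ⟨a', rfl⟩ := Polynomial.map_surjective (IsLocalRing.residue A) IsLocalRing.residue_surjective a
  obtain ⟨b', rfl⟩ := Polynomial.map_surjective (IsLocalRing.residue A) IsLocalRing.residue_surjective b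
  set I : Ideal (Polynomial A) := Ideal.span {Q, R} with hI
  -- E := a' Q + b' R - 1 has coefficients in the maximal ideal
  set E : Polynomial A := a' * Q + b' * R - 1 with hE
  have hEmap : Polynomial.map (IsLocalRing.residue A) E = 0 := by
    rw [hE, Polynomial.map_sub, Polynomial.map_add, Polynomial.map_mul, Polynomial.map_mul, hab,
      Polynomial.map_one, sub_self]
  have hEcoef : ∀ (P : Polynomial A) (i : ℕ), (P * E).coeff i ∈ IsLocalRing.maximalIdeal A := by
    intro P i
    have : Polynomial.map (IsLocalRing.residue A) (P * E) = 0 := by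
      rw [Polynomial.map_mul, hEmap, mul_zero]
    have h2 := congrArg (fun q => Polynomial.coeff q i) this
    simp only [Polynomial.coeff_map, Polynomial.coeff_zero] at h2
    exact (IsLocalRing.residue_eq_zero_iff _).1 h2
  -- the quotient module
  have hfin : Module.Finite A (Polynomial A ⧸ Ideal.span {Q}) := hQ.finite_quotient
  have hle : Ideal.span {Q} ≤ I := Ideal.span_mono (by simp)
  let π : (Polynomial A ⧸ Ideal.span {Q}) →ₗ[A] (Polynomial A ⧸ I) :=
    (Ideal.Quotient.factorₐ A hle).toLinearMap
  have hπ : Function.Surjective π := Ideal.Quotient.factor_surjective hle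
  have hfin2 : Module.Finite A (Polynomial A ⧸ I) := Module.Finite.of_surjective π hπ
  have htop : (⊤ : Submodule A (Polynomial A ⧸ I)) ≤ IsLocalRing.maximalIdeal A • ⊤ := by
    intro x _
    obtain ⟨P, rfl⟩ := Ideal.Quotient.mk_surjective x
    have hPE : Ideal.Quotient.mk I P = - Ideal.Quotient.mk I (P * E) := by
      rw [eq_neg_iff_add_eq_zero, ← map_add, Ideal.Quotient.eq_zero_iff_mem]
      have : P + P * E = P * a' * Q + P * b' * R := by rw [hE]; ring
      rw [this]
      exact I.add_mem (I.mul_mem_left _ (Ideal.subset_span (by simp)))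
        (I.mul_mem_left _ (Ideal.subset_span (by simp)))
    rw [hPE]
    apply Submodule.neg_mem
    rw [← Polynomial.sum_monomial_eq (P * E), Polynomial.sum, map_sum]
    refine Submodule.sum_mem _ fun i _ => ?_
    have : Ideal.Quotient.mk I (Polynomial.monomial i ((P * E).coeff i)) =
        (P * E).coeff i • Ideal.Quotient.mk I (Polynomial.X ^ i) := by
      rw [← Polynomial.smul_X_eq_monomial]
      exact map_smul (Ideal.Quotient.mkₐ A I) _ _
    rw [this]
    exact Submodule.smul_mem_smul (hEcoef P i) Submodule.mem_top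
  have hbot : (⊤ : Submodule A (Polynomial A ⧸ I)) = ⊥ :=
    Submodule.eq_bot_of_le_smul_of_le_jacobson_bot (IsLocalRing.maximalIdeal A) ⊤ Module.Finite.fg_top
      htop (IsLocalRing.maximalIdeal_le_jacobson _)
  have h1 : (1 : Polynomial A) ∈ I := by
    rw [← Ideal.Quotient.eq_zero_iff_mem]
    have : (Ideal.Quotient.mk I 1 : Polynomial A ⧸ I) ∈ (⊤ : Submodule A (Polynomial A ⧸ I)) := trivial
    rw [hbot] at this
    exact (Submodule.mem_bot A).1 this
  rw [hI, Ideal.mem_span_pair] at h1
  obtain ⟨x, y, hxy⟩ := h1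
  exact ⟨x, y, hxy⟩

end Groth.Agent.Helper8.HenselLow
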