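import Groth.Agent.Helper7.QuadMax
import Mathlib

set_option autoImplicit false
universe u v

namespace Groth.Agent.Helper8.HermDiag

open Matrix

/-- alternating matrices of odd size have zero determinant -/
theorem det_eq_zero_of_alt {R : Type*} [CommRing R] {m : ℕ} (hm : Odd m)
    (N : Matrix (Fin m) (Fin m) R) (h0 : ∀ i, N i i = 0) (hs : ∀ i j, N i j = - N j i) :
    N.det = 0 := by
  classical
  rw [Matrix.det_apply]
  refine Finset.sum_involution (fun σ _ => σ⁻¹) ?_ ?_ (fun _ _ => Finset.mem_univ _)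
    (fun σ _ => inv_inv σ)
  · intro σ _
    show Equiv.Perm.sign σ • ∏ i, N (σ i) i + Equiv.Perm.sign σ⁻¹ • ∏ i, N (σ⁻¹ i) i = 0
    have h1 : ∏ i, N (σ⁻¹ i) i = ∏ j, N j (σ j) := by
      refine (Equiv.prod_comp σ (fun i => N (σ⁻¹ i) i)).symm.trans ?_
      refine Finset.prod_congr rfl fun j _ => ?_
      show N (σ⁻¹ (σ j)) (σ j) = N j (σ j)
      have e0 : σ⁻¹ (σ j) = j := Equiv.symm_apply_apply σ j
      rw [e0]
    have h2 : ∏ j, N j (σ j) = - ∏ j, N (σ j) j := by
      have e1 : ∏ j, N j (σ j) = ∏ j, ((-1 : R) * N (σ j) j) :=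
        Finset.prod_congr rfl fun j _ => by rw [hs j (σ j)]; ring
      rw [e1, Finset.prod_mul_distrib, Finset.prod_const, Finset.card_univ, Fintype.card_fin,
        hm.neg_one_pow, neg_one_mul]
    rw [Equiv.Perm.sign_inv, h1, h2, smul_neg, add_neg_cancel]
  · intro σ _ hne heq
    have heq' : σ⁻¹ = σ := heq
    apply hne
    show Equiv.Perm.sign σ • ∏ i, N (σ i) i = 0
    have hsq : σ ^ 2 = 1 := by
      rw [pow_two]
      calc σ * σ = σ⁻¹ * σ := by rw [heq']
        _ = 1 := inv_mul_cancel σ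
    have hdvd := Equiv.Perm.two_dvd_card_support hsq
    have hex : ∃ i, σ i = i := by
      by_contra hcon
      push Not at hcon
      have hsupp : σ.support = Finset.univ := by
        ext i
        simp only [Equiv.Perm.mem_support, Finset.mem_univ, iff_true]
        exact hcon i
      rw [hsupp, Finset.card_univ, Fintype.card_fin] at hdvd
      exact (Nat.not_even_iff_odd.mpr hm) (even_iff_two_dvd.mpr hdvd)
    obtain ⟨i, hi⟩ := hex
    rw [Finset.prod_eq_zero (Finset.mem_univ i) (by rw [hi]; exact h0 i), smul_zero]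

variable {B : Type u} {A : Type v} [CommRing B] [CommRing A] [Algebra B A]
  (lam : A ≃+* A)

theorem isUnit_of_notMem [IsLocalRing B] (hlam : Function.Involutive lam)
    (hB : RInv.IsFixedRing B A lam) (M : Ideal A) [M.IsMaximal] (a : A)
    (h1 : a ∉ M) (h2 : lam a ∉ M) : IsUnit a := by
  by_contra hnu
  obtain ⟨N, hN, haN⟩ := exists_max_ideal_of_mem_nonunits (mem_nonunits_iff.mpr hnu)
  haveI : N.IsMaximal := hN
  rcases Groth.Agent.Helper7.QuadMax.maximal_dichotomy lam hlam hB M N with h | h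
  · rw [h] at haN; exact h1 haN
  · rw [h] at haN; exact h2 haN

theorem isUnit_of_sym [IsLocalRing B] (hlam : Function.Involutive lam)
    (hB : RInv.IsFixedRing B A lam) (M : Ideal A) [M.IsMaximal] (q : A)
    (hq : lam q = q ∨ lam q = -q) (h1 : q ∉ M) : IsUnit q := by
  refine isUnit_of_notMem lam hlam hB M q h1 ?_
  rcases hq with h | h
  · rw [h]; exact h1
  · rw [h]; exact fun hh => h1 (by simpa using M.neg_mem hh)

variable {n : ℕ} (h : Matrix (Fin n) (Fin n) A)

/-- the sesquilinear form `(u, v) ↦ (lam u)ᵀ h v` -/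
def Hf (u v : Fin n → A) : A := ∑ i, ∑ j, lam (u i) * h i j * v j

theorem Hf_add_right (u v w : Fin n → A) :
    Hf lam h u (v + w) = Hf lam h u v + Hf lam h u w := by
  simp only [Hf, Pi.add_apply, mul_add, Finset.sum_add_distrib]

theorem Hf_add_left (u v w : Fin n → A) :
    Hf lam h (u + v) w = Hf lam h u w + Hf lam h v w := by
  simp only [Hf, Pi.add_apply, map_add, add_mul, Finset.sum_add_distrib]

theorem Hf_smul_right (c : A) (u v : Fin n → A) :
    Hf lam h u (c • v) = c * Hf lam h u v := by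
  simp only [Hf, Pi.smul_apply, smul_eq_mul, Finset.mul_sum]
  refine Finset.sum_congr rfl fun i _ => Finset.sum_congr rfl fun j _ => ?_
  ring

theorem Hf_smul_left (c : A) (u v : Fin n → A) :
    Hf lam h (c • u) v = lam c * Hf lam h u v := by
  simp only [Hf, Pi.smul_apply, smul_eq_mul, map_mul, Finset.mul_sum]
  refine Finset.sum_congr rfl fun i _ => Finset.sum_congr rfl fun j _ => ?_
  ring

theorem Hf_neg_right (u v : Fin n → A) : Hf lam h u (-v) = - Hf lam h u v := by
  simp only [Hf, Pi.neg_apply, mul_neg, Finset.sum_neg_distrib]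

theorem Hf_neg_left (u v : Fin n → A) : Hf lam h (-u) v = - Hf lam h u v := by
  simp only [Hf, Pi.neg_apply, map_neg, neg_mul, Finset.sum_neg_distrib]

theorem Hf_sub_right (u v w : Fin n → A) :
    Hf lam h u (v - w) = Hf lam h u v - Hf lam h u w := by
  rw [sub_eq_add_neg, Hf_add_right, Hf_neg_right, ← sub_eq_add_neg]

theorem Hf_sub_left (u v w : Fin n → A) :
    Hf lam h (u - v) w = Hf lam h u w - Hf lam h v w := by
  rw [sub_eq_add_neg, Hf_add_left, Hf_neg_left, ← sub_eq_add_neg]

theorem Hf_zero_right (u : Fin n → A) : Hf lam h u 0 = 0 := by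
  simp [Hf]

theorem Hf_zero_left (v : Fin n → A) : Hf lam h 0 v = 0 := by
  simp [Hf]

theorem Hf_sum_right {κ : Type*} (s : Finset κ) (u : Fin n → A) (f : κ → Fin n → A) :
    Hf lam h u (∑ a ∈ s, f a) = ∑ a ∈ s, Hf lam h u (f a) := by
  classical
  induction s using Finset.induction_on with
  | empty => simp [Hf_zero_right]
  | insert a s ha ih => rw [Finset.sum_insert ha, Finset.sum_insert ha, Hf_add_right, ih]

theorem Hf_sum_left {κ : Type*} (s : Finset κ) (f : κ → Fin n → A) (w : Fin n → A) :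
    Hf lam h (∑ a ∈ s, f a) w = ∑ a ∈ s, Hf lam h (f a) w := by
  classical
  induction s using Finset.induction_on with
  | empty => simp [Hf_zero_left]
  | insert a s ha ih => rw [Finset.sum_insert ha, Finset.sum_insert ha, Hf_add_left, ih]

theorem hent {ε : A} (herm : ε • (h.map lam).transpose = h) (i j : Fin n) :
    h i j = ε * lam (h j i) := by
  have := congrFun (congrFun herm i) j
  simp only [Matrix.smul_apply, Matrix.transpose_apply, Matrix.map_apply, smul_eq_mul] at this
  exact this.symm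

theorem Hf_symm (hlam : Function.Involutive lam) {ε : A}
    (herm : ε • (h.map lam).transpose = h) (u v : Fin n → A) :
    Hf lam h v u = ε * lam (Hf lam h u v) := by
  have he : ∀ i j, h i j = ε * lam (h j i) := hent lam h herm
  simp only [Hf, map_sum, map_mul, Finset.mul_sum]
  rw [Finset.sum_comm]
  refine Finset.sum_congr rfl fun i _ => Finset.sum_congr rfl fun j _ => ?_
  rw [hlam (u i), he j i]
  ring

theorem Hf_orth_symm (hlam : Function.Involutive lam) {ε : A}
    (herm : ε • (h.map lam).transpose = h) (u v : Fin n → A) (huv : Hf lam h u v = 0) :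
    Hf lam h v u = 0 := by
  rw [Hf_symm lam h hlam herm u v, huv, map_zero, mul_zero]

theorem Hf_sym_norm (hlam : Function.Involutive lam) {ε : A} (hε : ε = 1 ∨ ε = -1)
    (herm : ε • (h.map lam).transpose = h) (u : Fin n → A) :
    lam (Hf lam h u u) = Hf lam h u u ∨ lam (Hf lam h u u) = - Hf lam h u u := by
  have hs := Hf_symm lam h hlam herm u u
  rcases hε with rfl | rfl
  · left; rw [one_mul] at hs; exact hs.symm
  · right
    rw [neg_one_mul] at hs
    rw [eq_neg_iff_add_eq_zero]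
    nth_rewrite 2 [hs]
    ring

theorem Hf_single (i : Fin n) : Hf lam h (Pi.single i 1) (Pi.single i 1) = h i i := by
  classical
  unfold Hf
  rw [Finset.sum_eq_single i]
  · rw [Finset.sum_eq_single i]
    · simp
    · intro b _ hb; simp [Pi.single_apply, hb]
    · intro hi; exact absurd (Finset.mem_univ i) hi
  · intro a _ ha
    refine Finset.sum_eq_zero fun b _ => ?_
    simp [Pi.single_apply, ha]
  · intro hi; exact absurd (Finset.mem_univ i) hi

theorem Hf_eval (hlam : Function.Involutive lam) (g : Matrix (Fin n) (Fin n) A) (hg : g * h = 1)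
    (i : Fin n) (v : Fin n → A) :
    Hf lam h (fun i' => lam (g i i')) v = v i := by
  classical
  have e : ∀ x, lam (lam x) = x := hlam
  have h1 : ∀ j, ∑ i', g i i' * h i' j = if i = j then 1 else 0 := fun j => by
    have := congrFun (congrFun hg i) j
    rw [Matrix.mul_apply, Matrix.one_apply] at this
    exact this
  unfold Hf
  simp only [e]
  rw [Finset.sum_comm]
  calc ∑ j, ∑ i', g i i' * h i' j * v j = ∑ j, (if i = j then 1 else 0) * v j := by
        refine Finset.sum_congr rfl fun j _ => ?_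
        rw [← Finset.sum_mul, h1 j]
    _ = v i := by simp

theorem gram_apply (X : Matrix (Fin n) (Fin n) A) (a b : Fin n) :
    ((X.map lam).transpose * h * X) a b = Hf lam h (fun i => X i a) (fun i => X i b) := by
  unfold Hf
  simp only [Matrix.mul_apply, Matrix.transpose_apply, Matrix.map_apply, Finset.sum_mul]
  exact Finset.sum_comm

section W

variable {ι : Type} [Fintype ι] [DecidableEq ι] (x : ι → Fin n → A) (Gi : ι → ι → A)

/-- coefficients of the projection -/
def cf (v : Fin n → A) (a : ι) : A := ∑ b, Gi a b * Hf lam h (x b) v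

/-- projection to the orthogonal complement of the family -/
def Pr (v : Fin n → A) : Fin n → A := v - ∑ a, cf lam h x Gi v a • x a

theorem Pr_orth (hGi : ∀ c b, ∑ a, Hf lam h (x c) (x a) * Gi a b = if c = b then 1 else 0)
    (c : ι) (v : Fin n → A) : Hf lam h (x c) (Pr lam h x Gi v) = 0 := by
  unfold Pr
  rw [Hf_sub_right, Hf_sum_right]
  have key : ∑ a, Hf lam h (x c) (cf lam h x Gi v a • x a) = Hf lam h (x c) v := by
    calc ∑ a, Hf lam h (x c) (cf lam h x Gi v a • x a)
        = ∑ a, ∑ b, (Hf lam h (x c) (x a) * Gi a b) * Hf lam h (x b) v := by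
          refine Finset.sum_congr rfl fun a _ => ?_
          rw [Hf_smul_right, cf, Finset.sum_mul]
          refine Finset.sum_congr rfl fun b _ => ?_
          ring
      _ = ∑ b, (∑ a, Hf lam h (x c) (x a) * Gi a b) * Hf lam h (x b) v := by
          rw [Finset.sum_comm]
          refine Finset.sum_congr rfl fun b _ => ?_
          rw [Finset.sum_mul]
      _ = ∑ b, (if c = b then 1 else 0) * Hf lam h (x b) v := by
          refine Finset.sum_congr rfl fun b _ => ?_
          rw [hGi c b]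
      _ = Hf lam h (x c) v := by simp
  rw [key, sub_self]

theorem Hf_Pr_left (u w : Fin n → A) (hw : ∀ c, Hf lam h (x c) w = 0) :
    Hf lam h (Pr lam h x Gi u) w = Hf lam h u w := by
  unfold Pr
  rw [Hf_sub_left, Hf_sum_left]
  have key : ∑ a, Hf lam h (cf lam h x Gi u a • x a) w = 0 := by
    refine Finset.sum_eq_zero fun a _ => ?_
    rw [Hf_smul_left, hw a, mul_zero]
  rw [key, sub_zero]

theorem exists_notMem (hlam : Function.Involutive lam) (g : Matrix (Fin n) (Fin n) A)
    (hg : g * h = 1) (hcard : Fintype.card ι < n)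
    (hGi : ∀ c b, ∑ a, Hf lam h (x c) (x a) * Gi a b = if c = b then 1 else 0)
    (N : Ideal A) [N.IsMaximal] :
    ∃ w₁ w₂ : Fin n → A, (∀ c, Hf lam h (x c) w₁ = 0) ∧ (∀ c, Hf lam h (x c) w₂ = 0) ∧
      Hf lam h w₁ w₂ ∉ N := by
  classical
  have key : ∃ j i : Fin n, Pr lam h x Gi (Pi.single j 1) i ∉ N := by
    by_contra hcon
    push Not at hcon
    letI : Field (A ⧸ N) := Ideal.Quotient.field N
    have hmem : ∀ j : Fin n, (Pi.single j 1 : Fin n → A ⧸ N) ∈
        Submodule.span (A ⧸ N) (Set.range fun (a : ι) (i : Fin n) => Ideal.Quotient.mk N (x a i)) := by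
      intro j
      have heq : (Pi.single j 1 : Fin n → A ⧸ N) =
          ∑ a, Ideal.Quotient.mk N (cf lam h x Gi (Pi.single j 1) a) •
            (fun (i : Fin n) => Ideal.Quotient.mk N (x a i)) := by
        funext i
        have h0 := hcon j i
        rw [← Ideal.Quotient.eq_zero_iff_mem] at h0
        unfold Pr at h0
        simp only [Pi.sub_apply, Finset.sum_apply, Pi.smul_apply, smul_eq_mul, map_sub, map_sum,
          map_mul] at h0
        have e1 : Ideal.Quotient.mk N ((Pi.single j (1:A) : Fin n → A) i) =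
            (Pi.single j (1 : A ⧸ N) : Fin n → A ⧸ N) i := by
          rw [Pi.single_apply, Pi.single_apply]; split_ifs <;> simp
        rw [Finset.sum_apply]
        simp only [Pi.smul_apply, smul_eq_mul]
        rw [← e1]
        exact sub_eq_zero.mp h0
      rw [heq]
      refine Submodule.sum_mem _ fun a _ => Submodule.smul_mem _ _ (Submodule.subset_span ⟨a, rfl⟩)
    have htop : Submodule.span (A ⧸ N)
        (Set.range fun (a : ι) (i : Fin n) => Ideal.Quotient.mk N (x a i)) = ⊤ := by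
      rw [eq_top_iff, ← (Pi.basisFun (A ⧸ N) (Fin n)).span_eq]
      apply Submodule.span_le.mpr
      rintro _ ⟨j, rfl⟩
      rw [Pi.basisFun_apply]
      exact hmem j
    have hfr := finrank_range_le_card (R := A ⧸ N)
      (fun (a : ι) (i : Fin n) => Ideal.Quotient.mk N (x a i))
    unfold Set.finrank at hfr
    rw [htop, finrank_top, Module.finrank_fin_fun] at hfr
    omega
  obtain ⟨j, i, hji⟩ := key
  refine ⟨Pr lam h x Gi (fun i' => lam (g i i')), Pr lam h x Gi (Pi.single j 1),
    fun c => Pr_orth lam h x Gi hGi c _, fun c => Pr_orth lam h x Gi hGi c _, ?_⟩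
  rw [Hf_Pr_left lam h x Gi _ _ (fun c => Pr_orth lam h x Gi hGi c _),
    Hf_eval lam h hlam g hg i]
  exact hji

theorem exists_unit_pair [IsLocalRing B] (hlam : Function.Involutive lam)
    (hB : RInv.IsFixedRing B A lam) (g : Matrix (Fin n) (Fin n) A)
    (hg : g * h = 1) (hcard : Fintype.card ι < n)
    (hGi : ∀ c b, ∑ a, Hf lam h (x c) (x a) * Gi a b = if c = b then 1 else 0) :
    ∃ w₁ w₂ : Fin n → A, (∀ c, Hf lam h (x c) w₁ = 0) ∧ (∀ c, Hf lam h (x c) w₂ = 0) ∧
      IsUnit (Hf lam h w₁ w₂) := by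
  classical
  have e : ∀ x, lam (lam x) = x := hlam
  haveI : Nontrivial A := hB.1.nontrivial
  obtain ⟨M, hM⟩ := Ideal.exists_maximal A
  haveI := hM
  haveI hM' : (M.comap (lam : A →+* A)).IsMaximal :=
    Ideal.comap_isMaximal_of_surjective _ lam.surjective
  obtain ⟨a₁, a₂, ha₁, ha₂, ha⟩ := exists_notMem lam h x Gi hlam g hg hcard hGi M
  obtain ⟨b₁, b₂, hb₁, hb₂, hb⟩ :=
    exists_notMem lam h x Gi hlam g hg hcard hGi (M.comap (lam : A →+* A))
  by_cases hMM : M = M.comap (lam : A →+* A)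
  · refine ⟨a₁, a₂, ha₁, ha₂, isUnit_of_notMem lam hlam hB M _ ha ?_⟩
    intro hh
    have h3 : Hf lam h a₁ a₂ ∈ M.comap (lam : A →+* A) := hh
    rw [← hMM] at h3
    exact ha h3
  · have hsup := hM.coprime_of_ne hM' hMM
    have h1 : (1 : A) ∈ M ⊔ M.comap (lam : A →+* A) := by rw [hsup]; exact Submodule.mem_top
    obtain ⟨m, hm, c, hc, hmc⟩ := Submodule.mem_sup.mp h1
    have hc1 : c - 1 ∈ M := by
      have h4 : c - 1 = -m := by rw [← hmc]; ring
      rw [h4]; exact M.neg_mem hm
    refine ⟨lam c • a₁ + (1 - lam c) • b₁, c • a₂ + (1 - c) • b₂, ?_, ?_, ?_⟩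
    · intro d
      rw [Hf_add_right, Hf_smul_right, Hf_smul_right, ha₁ d, hb₁ d]; ring
    · intro d
      rw [Hf_add_right, Hf_smul_right, Hf_smul_right, ha₂ d, hb₂ d]; ring
    · have hexp : Hf lam h (lam c • a₁ + (1 - lam c) • b₁) (c • a₂ + (1 - c) • b₂)
          = c * c * Hf lam h a₁ a₂ + c * (1 - c) * Hf lam h a₁ b₂
            + (1 - c) * c * Hf lam h b₁ a₂ + (1 - c) * (1 - c) * Hf lam h b₁ b₂ := by
        simp only [Hf_add_left, Hf_add_right, Hf_smul_left, Hf_smul_right, map_sub, map_one, e]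
        ring
      refine isUnit_of_notMem lam hlam hB M _ ?_ ?_
      · intro hT
        apply ha
        have h5 : Hf lam h (lam c • a₁ + (1 - lam c) • b₁) (c • a₂ + (1 - c) • b₂)
            - Hf lam h a₁ a₂ = (c - 1) * ((c + 1) * Hf lam h a₁ a₂ - c * Hf lam h a₁ b₂
              - c * Hf lam h b₁ a₂ + (c - 1) * Hf lam h b₁ b₂) := by
          rw [hexp]; ring
        have h6 := M.sub_mem hT (h5 ▸ M.mul_mem_right _ hc1)
        simpa using h6
      · intro hT
        apply hb
        have hT' : Hf lam h (lam c • a₁ + (1 - lam c) • b₁) (c • a₂ + (1 - c) • b₂) ∈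
            M.comap (lam : A →+* A) := hT
        have h5 : Hf lam h (lam c • a₁ + (1 - lam c) • b₁) (c • a₂ + (1 - c) • b₂)
            - Hf lam h b₁ b₂ = c * (c * Hf lam h a₁ a₂ + (1 - c) * Hf lam h a₁ b₂
              + (1 - c) * Hf lam h b₁ a₂ + (c - 2) * Hf lam h b₁ b₂) := by
          rw [hexp]; ring
        have h6 := (M.comap (lam : A →+* A)).sub_mem hT'
          (h5 ▸ (M.comap (lam : A →+* A)).mul_mem_right _ hc)
        simpa using h6

end W

theorem cons_orth (hlam : Function.Involutive lam) {ε : A}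
    (herm : ε • (h.map lam).transpose = h) {k : ℕ} (x : Fin k → Fin n → A) (z : Fin n → A)
    (hx0 : ∀ a b, a ≠ b → Hf lam h (x a) (x b) = 0) (hx1 : ∀ a, IsUnit (Hf lam h (x a) (x a)))
    (hz0 : ∀ a, Hf lam h (x a) z = 0) (hz1 : IsUnit (Hf lam h z z)) :
    (∀ a b : Fin (k + 1), a ≠ b →
      Hf lam h ((Fin.cons z x : Fin (k + 1) → Fin n → A) a)
        ((Fin.cons z x : Fin (k + 1) → Fin n → A) b) = 0) ∧
    (∀ a : Fin (k + 1), IsUnit (Hf lam h ((Fin.cons z x : Fin (k + 1) → Fin n → A) a)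
        ((Fin.cons z x : Fin (k + 1) → Fin n → A) a))) := by
  constructor
  · intro a b
    refine Fin.cases ?_ (fun a' => ?_) a
    · refine Fin.cases ?_ (fun b' => ?_) b
      · intro hab; exact absurd rfl hab
      · intro _
        simp only [Fin.cons_zero, Fin.cons_succ]
        exact Hf_orth_symm lam h hlam herm _ _ (hz0 b')
    · refine Fin.cases ?_ (fun b' => ?_) b
      · intro _
        simp only [Fin.cons_zero, Fin.cons_succ]
        exact hz0 a'
      · intro hab
        simp only [Fin.cons_succ]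
        exact hx0 a' b' (fun e => hab (by rw [e]))
  · intro a
    refine Fin.cases ?_ (fun a' => ?_) a
    · simp only [Fin.cons_zero]; exact hz1
    · simp only [Fin.cons_succ]; exact hx1 a'

theorem step [IsLocalRing B] (hlam : Function.Involutive lam)
    (hB : RInv.IsFixedRing B A lam) {ε : A} (hε : ε = 1 ∨ ε = -1)
    (herm : ε • (h.map lam).transpose = h) (g : Matrix (Fin n) (Fin n) A) (hg : g * h = 1)
    {k : ℕ} (hk : k + 1 < n) (x : Fin k → Fin n → A)
    (hx0 : ∀ a b, a ≠ b → Hf lam h (x a) (x b) = 0) (hx1 : ∀ a, IsUnit (Hf lam h (x a) (x a)))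
    (z : Fin n → A) (hz0 : ∀ a, Hf lam h (x a) z = 0) (hz1 : IsUnit (Hf lam h z z)) :
    ∃ z' y : Fin n → A, (∀ a, Hf lam h (x a) z' = 0) ∧ IsUnit (Hf lam h z' z') ∧
      (∀ a, Hf lam h (x a) y = 0) ∧ Hf lam h z' y = 0 ∧ IsUnit (Hf lam h y y) := by
  classical
  haveI : Nontrivial A := hB.1.nontrivial
  obtain ⟨M, hM⟩ := Ideal.exists_maximal A
  haveI := hM
  -- the family indexed by `Option (Fin k)`
  obtain ⟨fam, hfam⟩ : ∃ fam : Option (Fin k) → Fin n → A, fam = fun o => o.elim z x := ⟨_, rfl⟩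
  have hfn : fam none = z := by rw [hfam]; rfl
  have hfs : ∀ a, fam (some a) = x a := fun a => by rw [hfam]; rfl
  have hf0 : ∀ o o', o ≠ o' → Hf lam h (fam o) (fam o') = 0 := by
    intro o o' hoo
    cases o with
    | none =>
      cases o' with
      | none => exact absurd rfl hoo
      | some b => rw [hfn, hfs]; exact Hf_orth_symm lam h hlam herm _ _ (hz0 b)
    | some a =>
      cases o' with
      | none => rw [hfn, hfs]; exact hz0 a
      | some b => rw [hfs, hfs]; exact hx0 a b (fun e => hoo (by rw [e]))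
  have hf1 : ∀ o, IsUnit (Hf lam h (fam o) (fam o)) := by
    intro o
    cases o with
    | none => rw [hfn]; exact hz1
    | some a => rw [hfs]; exact hx1 a
  obtain ⟨Gi, hGidef⟩ : ∃ Gi : Option (Fin k) → Option (Fin k) → A,
      Gi = fun o o' => if o = o' then Ring.inverse (Hf lam h (fam o) (fam o)) else 0 := ⟨_, rfl⟩
  have hGi : ∀ c b, ∑ a, Hf lam h (fam c) (fam a) * Gi a b = if c = b then 1 else 0 := by
    intro c b
    rw [Finset.sum_eq_single b]
    · rw [hGidef]
      simp only [if_true]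
      by_cases hcb : c = b
      · subst hcb
        rw [if_pos rfl, Ring.mul_inverse_cancel _ (hf1 c)]
      · rw [if_neg hcb, hf0 c b hcb, zero_mul]
    · intro a _ hab
      rw [hGidef]
      simp only [if_neg hab, mul_zero]
    · intro hb; exact absurd (Finset.mem_univ b) hb
  have hcard : Fintype.card (Option (Fin k)) < n := by
    rw [Fintype.card_option, Fintype.card_fin]; exact hk
  obtain ⟨w₁, w₂, hw₁, hw₂, hb⟩ := exists_unit_pair lam h fam Gi hlam hB g hg hcard hGi
  have hzw₁ : Hf lam h z w₁ = 0 := by have := hw₁ none; rwa [hfn] at this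
  have hzw₂ : Hf lam h z w₂ = 0 := by have := hw₂ none; rwa [hfn] at this
  have hxw₁ : ∀ a, Hf lam h (x a) w₁ = 0 := fun a => by have := hw₁ (some a); rwa [hfs] at this
  have hxw₂ : ∀ a, Hf lam h (x a) w₂ = 0 := fun a => by have := hw₂ (some a); rwa [hfs] at this
  have hw₁z : Hf lam h w₁ z = 0 := Hf_orth_symm lam h hlam herm _ _ hzw₁
  have hw₂z : Hf lam h w₂ z = 0 := Hf_orth_symm lam h hlam herm _ _ hzw₂
  by_cases hu1 : IsUnit (Hf lam h w₁ w₁)
  · exact ⟨z, w₁, hz0, hz1, hxw₁, hzw₁, hu1⟩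
  by_cases hu2 : IsUnit (Hf lam h w₂ w₂)
  · exact ⟨z, w₂, hz0, hz1, hxw₂, hzw₂, hu2⟩
  have hn1 : Hf lam h w₁ w₁ ∈ M := by
    by_contra hcon
    exact hu1 (isUnit_of_sym lam hlam hB M _ (Hf_sym_norm lam h hlam hε herm w₁) hcon)
  have hn2 : Hf lam h w₂ w₂ ∈ M := by
    by_contra hcon
    exact hu2 (isUnit_of_sym lam hlam hB M _ (Hf_sym_norm lam h hlam hε herm w₂) hcon)
  obtain ⟨ua, hua⟩ := hz1
  have hai : Hf lam h z z * (↑ua⁻¹ : A) = 1 := by rw [← hua]; exact Units.mul_inv ua
  have hza : Hf lam h z z ∉ M := by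
    intro hmem
    exact hM.ne_top (Ideal.eq_top_of_isUnit_mem _ hmem (hua ▸ ua.isUnit))
  obtain ⟨c, hc⟩ : ∃ c : A, c = (↑ua⁻¹ : A) * Hf lam h w₁ w₂ := ⟨_, rfl⟩
  have hcu : IsUnit c := by rw [hc]; exact (ua⁻¹).isUnit.mul hb
  refine ⟨z + w₁, w₂ - c • z, ?_, ?_, ?_, ?_, ?_⟩
  · intro a
    rw [Hf_add_right, hz0 a, hxw₁ a, add_zero]
  · have hnorm : Hf lam h (z + w₁) (z + w₁) = Hf lam h z z + Hf lam h w₁ w₁ := by
      simp only [Hf_add_left, Hf_add_right, hzw₁, hw₁z]
      ring
    refine isUnit_of_sym lam hlam hB M _ (Hf_sym_norm lam h hlam hε herm _) ?_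
    rw [hnorm]
    intro hmem
    apply hza
    have := M.sub_mem hmem hn1
    simpa using this
  · intro a
    rw [Hf_sub_right, Hf_smul_right, hxw₂ a, hz0 a]; ring
  · simp only [Hf_add_left, Hf_sub_right, Hf_smul_right, hzw₂, hw₁z]
    rw [hc]
    linear_combination (-(Hf lam h w₁ w₂)) * hai
  · have hnorm : Hf lam h (w₂ - c • z) (w₂ - c • z) =
        Hf lam h w₂ w₂ + lam c * c * Hf lam h z z := by
      simp only [Hf_sub_left, Hf_sub_right, Hf_smul_left, Hf_smul_right, hzw₂, hw₂z]
      ring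
    refine isUnit_of_sym lam hlam hB M _ (Hf_sym_norm lam h hlam hε herm _) ?_
    rw [hnorm]
    intro hmem
    have h7 : lam c * c * Hf lam h z z ∈ M := by
      have := M.sub_mem hmem hn2
      simpa using this
    have h8 : IsUnit (lam c * c * Hf lam h z z) :=
      ((hcu.map lam).mul hcu).mul (hua ▸ ua.isUnit)
    exact hM.ne_top (Ideal.eq_top_of_isUnit_mem _ h7 h8)

theorem base [IsLocalRing B] (hlam : Function.Involutive lam)
    (hB : RInv.IsFixedRing B A lam) {ε : A} (hε : ε = 1 ∨ ε = -1)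
    (herm : ε • (h.map lam).transpose = h) (hh : IsUnit h)
    (g : Matrix (Fin n) (Fin n) A) (hg : g * h = 1) (hn : 0 < n)
    (hcase : (∃ a : A, lam a - a ∉ Ring.jacobson A) ∨ ε + 1 ∉ Ring.jacobson A ∨ Odd n) :
    ∃ z : Fin n → A, IsUnit (Hf lam h z z) := by
  classical
  have e : ∀ x, lam (lam x) = x := hlam
  haveI : Nontrivial A := hB.1.nontrivial
  obtain ⟨M, hM⟩ := Ideal.exists_maximal A
  haveI := hM
  by_cases hU : ∃ t : A, IsUnit (t + ε * lam t)
  · obtain ⟨t, ht⟩ := hU
    have hGi : ∀ c b : Fin 0, ∑ a, Hf lam h ((fun a : Fin 0 => a.elim0) c)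
        ((fun a : Fin 0 => a.elim0) a) * (fun _ _ : Fin 0 => (0 : A)) a b
          = if c = b then 1 else 0 := fun c => c.elim0
    have hcard : Fintype.card (Fin 0) < n := by rw [Fintype.card_fin]; exact hn
    obtain ⟨w₁, w₂, -, -, hb⟩ := exists_unit_pair lam h (fun a : Fin 0 => a.elim0)
      (fun _ _ : Fin 0 => (0 : A)) hlam hB g hg hcard hGi
    by_cases hu1 : IsUnit (Hf lam h w₁ w₁)
    · exact ⟨w₁, hu1⟩
    by_cases hu2 : IsUnit (Hf lam h w₂ w₂)
    · exact ⟨w₂, hu2⟩
    have hn1 : Hf lam h w₁ w₁ ∈ M := by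
      by_contra hcon
      exact hu1 (isUnit_of_sym lam hlam hB M _ (Hf_sym_norm lam h hlam hε herm w₁) hcon)
    have hn2 : Hf lam h w₂ w₂ ∈ M := by
      by_contra hcon
      exact hu2 (isUnit_of_sym lam hlam hB M _ (Hf_sym_norm lam h hlam hε herm w₂) hcon)
    obtain ⟨ub, hub⟩ := hb
    have hbi : Hf lam h w₁ w₂ * (↑ub⁻¹ : A) = 1 := by rw [← hub]; exact Units.mul_inv ub
    obtain ⟨c, hc⟩ : ∃ c : A, c = (↑ub⁻¹ : A) * t := ⟨_, rfl⟩
    have hcb : c * Hf lam h w₁ w₂ = t := by rw [hc]; linear_combination t * hbi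
    have hcb' : lam c * lam (Hf lam h w₁ w₂) = lam t := by rw [← map_mul, hcb]
    have hsymm : Hf lam h w₂ w₁ = ε * lam (Hf lam h w₁ w₂) := Hf_symm lam h hlam herm w₁ w₂
    refine ⟨w₁ + c • w₂, ?_⟩
    have hnorm : Hf lam h (w₁ + c • w₂) (w₁ + c • w₂) =
        (t + ε * lam t) + (Hf lam h w₁ w₁ + lam c * c * Hf lam h w₂ w₂) := by
      simp only [Hf_add_left, Hf_add_right, Hf_smul_left, Hf_smul_right, hsymm]
      linear_combination hcb + ε * hcb'
    refine isUnit_of_sym lam hlam hB M _ (Hf_sym_norm lam h hlam hε herm _) ?_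
    rw [hnorm]
    intro hmem
    have h7 : t + ε * lam t ∈ M := by
      have := M.sub_mem hmem (M.add_mem hn1 (M.mul_mem_left (lam c * c) hn2))
      simpa using this
    exact hM.ne_top (Ideal.eq_top_of_isUnit_mem _ h7 ht)
  · push Not at hU
    have hlε : lam ε = ε := by
      rcases hε with rfl | rfl
      · exact map_one lam
      · rw [map_neg, map_one]
    have hεε : ε * ε = 1 := by
      rcases hε with rfl | rfl <;> ring
    have hUN : ∀ (N : Ideal A) [N.IsMaximal] (t : A), t + ε * lam t ∈ N := by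
      intro N _ t
      by_contra hcon
      refine hU t (isUnit_of_sym lam hlam hB N _ ?_ hcon)
      rcases hε with rfl | rfl
      · left; rw [map_add, map_mul, map_one, e]; ring
      · right; rw [map_add, map_mul, map_neg, map_one, e]; ring
    have hJ : ∀ t : A, t + ε * lam t ∈ Ring.jacobson A := by
      intro t
      rw [Ring.jacobson_eq_sInf_isMaximal, Submodule.mem_sInf]
      intro N hN
      have hN' : Ideal.IsMaximal N := hN
      haveI := hN'
      exact hUN N t
    rcases hcase with ⟨a, ha⟩ | hc2 | hodd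
    · exfalso
      apply ha
      rcases hε with rfl | rfl
      · have h2 := hJ 1
        have h3 := hJ a
        have h4 : lam a - a = (a + 1 * lam a) - (1 + 1 * lam 1) * a := by
          rw [map_one]; ring
        rw [h4]
        exact (Ring.jacobson A).sub_mem h3 ((Ring.jacobson A).mul_mem_right a h2)
      · have h3 := hJ (-a)
        have h4 : lam a - a = -a + -1 * lam (-a) := by rw [map_neg]; ring
        rw [h4]; exact h3
    · exfalso
      apply hc2
      have h2 := hJ 1
      rw [map_one, mul_one, add_comm] at h2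
      exact h2
    · by_cases hd : ∃ i, h i i ∉ M
      · obtain ⟨i, hi⟩ := hd
        refine ⟨Pi.single i 1, ?_⟩
        have hs := Hf_sym_norm lam h hlam hε herm (Pi.single i 1)
        rw [Hf_single] at hs ⊢
        exact isUnit_of_sym lam hlam hB M _ hs hi
      · exfalso
        push Not at hd
        have he : ∀ i j, h i j = ε * lam (h j i) := hent lam h herm
        have h0 : ∀ i, (h.map (Ideal.Quotient.mk M)) i i = 0 := fun i => by
          rw [Matrix.map_apply]; exact Ideal.Quotient.eq_zero_iff_mem.mpr (hd i)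
        have hs : ∀ i j, (h.map (Ideal.Quotient.mk M)) i j = - (h.map (Ideal.Quotient.mk M)) j i := by
          intro i j
          rw [Matrix.map_apply, Matrix.map_apply, eq_neg_iff_add_eq_zero, ← map_add,
            Ideal.Quotient.eq_zero_iff_mem]
          have := hUN M (h j i)
          rw [← he i j, add_comm] at this
          exact this
        have hdet := det_eq_zero_of_alt hodd _ h0 hs
        have hdet' : Ideal.Quotient.mk M h.det = 0 := by
          rw [RingHom.map_det, RingHom.mapMatrix_apply]; exact hdet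
        rw [Ideal.Quotient.eq_zero_iff_mem] at hdet'
        exact hM.ne_top (Ideal.eq_top_of_isUnit_mem _ hdet' ((Matrix.isUnit_iff_isUnit_det h).mp hh))

theorem chain [IsLocalRing B] (hlam : Function.Involutive lam)
    (hB : RInv.IsFixedRing B A lam) {ε : A} (hε : ε = 1 ∨ ε = -1)
    (herm : ε • (h.map lam).transpose = h) (hh : IsUnit h)
    (g : Matrix (Fin n) (Fin n) A) (hg : g * h = 1)
    (hcase : (∃ a : A, lam a - a ∉ Ring.jacobson A) ∨ ε + 1 ∉ Ring.jacobson A ∨ Odd n) :
    ∀ k, k + 1 ≤ n → ∃ (x : Fin k → Fin n → A) (z : Fin n → A),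
      (∀ a b, a ≠ b → Hf lam h (x a) (x b) = 0) ∧ (∀ a, IsUnit (Hf lam h (x a) (x a))) ∧
      (∀ a, Hf lam h (x a) z = 0) ∧ IsUnit (Hf lam h z z) := by
  intro k
  induction k with
  | zero =>
    intro hk
    obtain ⟨z, hz⟩ := base lam h hlam hB hε herm hh g hg (by omega) hcase
    exact ⟨fun a => a.elim0, z, fun a => a.elim0, fun a => a.elim0, fun a => a.elim0, hz⟩
  | succ k ih =>
    intro hk
    obtain ⟨x, z, hx0, hx1, hz0, hz1⟩ := ih (by omega)
    obtain ⟨z', y, hz'0, hz'1, hy0, hz'y, hy1⟩ :=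
      step lam h hlam hB hε herm g hg (by omega : k + 1 < n) x hx0 hx1 z hz0 hz1
    obtain ⟨hc0, hc1⟩ := cons_orth lam h hlam herm x z' hx0 hx1 hz'0 hz'1
    refine ⟨Fin.cons z' x, y, hc0, hc1, ?_, hy1⟩
    intro a
    refine Fin.cases ?_ (fun a' => ?_) a
    · simp only [Fin.cons_zero]; exact hz'y
    · simp only [Fin.cons_succ]; exact hy0 a'

theorem main [IsLocalRing B] (hlam : Function.Involutive lam)
    (hB : RInv.IsFixedRing B A lam) (n : ℕ) (ε : A) (hε : ε = 1 ∨ ε = -1)
    (h : Matrix (Fin n) (Fin n) A)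
    (hh : IsUnit h) (herm : ε • (h.map lam).transpose = h)
    (hcase : (∃ a : A, lam a - a ∉ Ring.jacobson A) ∨ ε + 1 ∉ Ring.jacobson A ∨ Odd n) :
    ∃ v : Matrix (Fin n) (Fin n) A, IsUnit v ∧
      ∃ d : Fin n → A, (v.map lam).transpose * h * v = Matrix.diagonal d := by
  rcases Nat.eq_zero_or_pos n with rfl | hn
  · exact ⟨1, isUnit_one, fun i => i.elim0, by ext i; exact i.elim0⟩
  obtain ⟨m, rfl⟩ : ∃ m, n = m + 1 := ⟨n - 1, by omega⟩
  obtain ⟨g, hg⟩ : ∃ g : Matrix (Fin (m + 1)) (Fin (m + 1)) A, g * h = 1 := by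
    obtain ⟨u, hu⟩ := id hh
    exact ⟨↑u⁻¹, by rw [← hu]; exact Units.inv_mul u⟩
  obtain ⟨x, z, hx0, hx1, hz0, hz1⟩ := chain lam h hlam hB hε herm hh g hg hcase m le_rfl
  obtain ⟨hf0, hf1⟩ := cons_orth lam h hlam herm x z hx0 hx1 hz0 hz1
  obtain ⟨f, hf⟩ : ∃ f : Fin (m + 1) → Fin (m + 1) → A, f = Fin.cons z x := ⟨_, rfl⟩
  rw [← hf] at hf0 hf1
  have hgram : ((Matrix.of fun i j => f j i).map lam).transpose * h * (Matrix.of fun i j => f j i)
      = Matrix.diagonal (fun a => Hf lam h (f a) (f a)) := by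
    ext a b
    rw [gram_apply]
    by_cases hab : a = b
    · subst hab; rw [Matrix.diagonal_apply_eq]; rfl
    · rw [Matrix.diagonal_apply_ne _ hab]; exact hf0 a b hab
  refine ⟨Matrix.of fun i j => f j i, ?_, _, hgram⟩
  rw [Matrix.isUnit_iff_isUnit_det]
  have hdet := congrArg Matrix.det hgram
  rw [Matrix.det_mul, Matrix.det_mul, Matrix.det_diagonal] at hdet
  have hu : IsUnit (∏ a, Hf lam h (f a) (f a)) := IsUnit.prod_univ_iff.mpr hf1
  rw [← hdet] at hu
  exact isUnit_of_mul_isUnit_right hu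

end Groth.Agent.Helper8.HermDiag
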