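import Mathlib
import Groth.Prelude
import Groth.Agent.Helper2.PairHensProps
import Groth.Agent.Helper2.FFDesc
import Groth.Agent.S17592
import Groth.Agent.S17593

set_option autoImplicit false
universe u

namespace Groth.Agent.Helper8.HfpFlat

open Groth.Agent.Helper2.PairHens

/-- transport of a henselization along a ring isomorphism -/
theorem isPairHenselization_of_ringEquiv {R : Type u} [CommRing R] (K : Ideal R)
    (H B : Type u) [CommRing H] [CommRing B] [Algebra R H] [Algebra R B]
    (ε : H ≃+* B) (hε : ∀ r, ε (algebraMap R H r) = algebraMap R B r)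
    (hH : Hens2.IsPairHenselization R K H) : Hens2.IsPairHenselization R K B := by
  have hcomp : (ε : H →+* B).comp (algebraMap R H) = algebraMap R B := RingHom.ext hε
  have hcomp' : (ε.symm : B →+* H).comp (algebraMap R B) = algebraMap R H := by
    ext r
    simp [← hε r]
  refine ⟨?_, ?_⟩
  · have h1 : K.map (algebraMap R B) = (K.map (algebraMap R H)).map (ε : H →+* B) := by
      rw [Ideal.map_map, hcomp]
    rw [h1]
    haveI := hH.1
    -- transport henselian property along the isomorphism
    refine ⟨?_, ?_⟩
    · intro x hx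
      obtain ⟨y, rfl⟩ := ε.surjective x
      have hy : y ∈ K.map (algebraMap R H) := by
        have := Ideal.mem_map_of_mem (ε.symm : B →+* H) hx
        rw [Ideal.map_map] at this
        have h2 : (ε.symm : B →+* H).comp (ε : H →+* B) = RingHom.id H := by
          ext z; simp
        rw [h2, Ideal.map_id] at this
        simpa using this
      have hjac := HenselianRing.jac (R := H) (I := K.map (algebraMap R H)) hy
      rw [Ideal.mem_jacobson_bot] at hjac ⊢
      intro z
      obtain ⟨w, rfl⟩ := ε.surjective z
      have := (hjac w).map ε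
      simpa using this
    · intro f hf a₀ h₁ h₂
      obtain ⟨b₀, rfl⟩ := ε.surjective a₀
      set f' : Polynomial H := f.map (ε.symm : B →+* H) with hf'
      have hff' : f'.map (ε : H →+* B) = f := by
        rw [hf', Polynomial.map_map]
        have h2 : (ε : H →+* B).comp (ε.symm : B →+* H) = RingHom.id B := by
          ext z; simp
        rw [h2, Polynomial.map_id]
      have hev : ∀ (g : Polynomial H) (x : H), (g.map (ε : H →+* B)).eval (ε x) = ε (g.eval x) := by
        intro g x
        exact Polynomial.eval_map_apply (ε : H →+* B) x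
      have hmem : ∀ z : H, ε z ∈ (K.map (algebraMap R H)).map (ε : H →+* B) →
          z ∈ K.map (algebraMap R H) := by
        intro z hz
        have := Ideal.mem_map_of_mem (ε.symm : B →+* H) hz
        rw [Ideal.map_map] at this
        have h2 : (ε.symm : B →+* H).comp (ε : H →+* B) = RingHom.id H := by
          ext z; simp
        rw [h2, Ideal.map_id] at this
        simpa using this
      have h₁' : f'.eval b₀ ∈ K.map (algebraMap R H) := by
        apply hmem
        rw [← hev, hff']
        exact h₁
      have h₂' : IsUnit (Ideal.Quotient.mk (K.map (algebraMap R H)) (f'.derivative.eval b₀)) := by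
        rw [← hff'] at h₂
        rw [Polynomial.derivative_map, hev] at h₂
        -- transport unit through quotient iso
        let q : H ⧸ K.map (algebraMap R H) ≃+* B ⧸ (K.map (algebraMap R H)).map (ε : H →+* B) :=
          Ideal.quotientEquiv _ _ ε rfl
        have hq : q (Ideal.Quotient.mk _ (f'.derivative.eval b₀)) =
            Ideal.Quotient.mk _ (ε (f'.derivative.eval b₀)) := rfl
        rw [← hq] at h₂
        have := h₂.map q.symm
        simpa using this
      obtain ⟨b, hb1, hb2⟩ := HenselianRing.is_henselian (R := H) (I := K.map (algebraMap R H))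
        f' (hf.map _) b₀ h₁' h₂'
      refine ⟨ε b, ?_, ?_⟩
      · rw [Polynomial.IsRoot.def, ← hff', hev, hb1.eq_zero, map_zero]
      · rw [← map_sub]
        exact Ideal.mem_map_of_mem _ hb2
  · intro C _ J f hC hfJ
    obtain ⟨g', hg', hguniq⟩ := hH.2 C J f hC hfJ
    refine ⟨g'.comp (ε.symm : B →+* H), ?_, ?_⟩
    · show (g'.comp (ε.symm : B →+* H)).comp (algebraMap R B) = f
      rw [RingHom.comp_assoc, hcomp', hg']
    · intro g₂ hg₂
      have hg₂' : g₂.comp (algebraMap R B) = f := hg₂
      have h1 : (g₂.comp (ε : H →+* B)).comp (algebraMap R H) = f := by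
        rw [RingHom.comp_assoc, hcomp, hg₂']
      have h2 := hguniq _ h1
      rw [← h2]
      ext b
      simp

/-- if a henselization `B` of `(R₀, IR₀)` is `A`-flat, then `R₀` is `A`-flat at all primes
containing `IR₀` -/
theorem flat_atPrime_of_hens (A : Type u) [CommRing A] (I : Ideal A) (R₀ : Type u) [CommRing R₀]
    [Algebra A R₀] (B : Type u) [CommRing B] [Algebra R₀ B] [Algebra A B] [IsScalarTower A R₀ B]
    (hB : Hens2.IsPairHenselization R₀ (I.map (algebraMap A R₀)) B) [Module.Flat A B]
    (p : Ideal R₀) [p.IsPrime] (hp : I.map (algebraMap A R₀) ≤ p) :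
    Module.Flat A (Localization.AtPrime p) := by
  set K : Ideal R₀ := I.map (algebraMap A R₀) with hK
  haveI : Module.Flat R₀ B := flat_of_isPairHenselization hB
  have hbij := quotientMap_bijective hB 1
  rw [pow_one] at hbij
  let e : R₀ ⧸ K ≃+* B ⧸ K.map (algebraMap R₀ B) := RingEquiv.ofBijective _ hbij
  have he : ∀ r : R₀, e (Ideal.Quotient.mk K r) = Ideal.Quotient.mk _ (algebraMap R₀ B r) :=
    fun r => rfl
  haveI hpbar : (p.map (Ideal.Quotient.mk K)).IsPrime :=
    Ideal.map_isPrime_of_surjective Ideal.Quotient.mk_surjective (by rw [Ideal.mk_ker]; exact hp)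
  let q : Ideal B := ((p.map (Ideal.Quotient.mk K)).comap (e.symm : (B ⧸ K.map (algebraMap R₀ B)) →+* (R₀ ⧸ K))).comap
    (Ideal.Quotient.mk (K.map (algebraMap R₀ B)))
  haveI : q.IsPrime := by
    haveI : ((p.map (Ideal.Quotient.mk K)).comap (e.symm : (B ⧸ K.map (algebraMap R₀ B)) →+* (R₀ ⧸ K))).IsPrime :=
      Ideal.comap_isPrime _ _
    exact Ideal.comap_isPrime _ _
  have hq : q.comap (algebraMap R₀ B) = p := by
    ext r
    simp only [q, Ideal.mem_comap]
    rw [← he r]
    show e.symm (e (Ideal.Quotient.mk K r)) ∈ _ ↔ _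
    rw [e.symm_apply_apply]
    exact Ideal.mem_quotient_iff_mem hp
  haveI : q.LiesOver p := ⟨hq.symm⟩
  letI := Localization.AtPrime.algebraOfLiesOver p q
  haveI : IsLocalHom (algebraMap (Localization.AtPrime p) (Localization.AtPrime q)) := by
    rw [RingHom.algebraMap_toAlgebra]
    exact Localization.isLocalHom_localRingHom p q (algebraMap R₀ B) Ideal.LiesOver.over
  haveI : Module.FaithfullyFlat (Localization.AtPrime p) (Localization.AtPrime q) :=
    Module.FaithfullyFlat.of_flat_of_isLocalHom
  haveI : Module.Flat A (Localization.AtPrime q) := Module.Flat.trans A B (Localization.AtPrime q)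
  exact Groth.Agent.Helper2.FFDesc.flat_of_flat_comp A (Localization.AtPrime p)
    (Localization.AtPrime q)

theorem main (A : Type u) [CommRing A]
    (I : Ideal A) [HenselianRing A I]
    (R₀ : Type u) [CommRing R₀] [Algebra A R₀] [Algebra.FinitePresentation A R₀]
    (B : Type u) [CommRing B] [Algebra R₀ B] [Algebra A B] [IsScalarTower A R₀ B]
    (hB : Hens2.IsPairHenselization R₀ (I.map (algebraMap A R₀)) B) [Module.Flat A B] :
    ∃ (S : Type u) (_ : CommRing S) (_ : Algebra A S) (_ : Algebra S B) (_ : IsScalarTower A S B),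
      Algebra.FinitePresentation A S ∧ Module.Flat A S ∧
      Hens2.IsPairHenselization S (I.map (algebraMap A S)) B := by
  obtain ⟨R', _, _, _, _, hét, hqb, hflat⟩ := Groth.Agent.S17593.result A I R₀
    (fun p _ hp => flat_atPrime_of_hens A I R₀ B hB p hp)
  set K : Ideal R₀ := I.map (algebraMap A R₀) with hK
  set K' : Ideal R' := K.map (algebraMap R₀ R') with hK'
  have hKK' : I.map (algebraMap A R') = K' := by
    rw [hK', hK, Ideal.map_map, ← IsScalarTower.algebraMap_eq]
  -- the explicit henselization of (R', K')
  letI : Algebra R₀ (Hens K') :=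
    ((algebraMap R' (Hens K')).comp (algebraMap R₀ R')).toAlgebra
  haveI : IsScalarTower R₀ R' (Hens K') := IsScalarTower.of_algebraMap_eq (fun _ => rfl)
  have hH' : Hens2.IsPairHenselization R' K' (Hens K') := Hens.isPairHenselization R' K'
  have hH0 : Hens2.IsPairHenselization R₀ K (Hens K') :=
    Groth.Agent.S17592.result R₀ K R' hqb (Hens K') hH'
  obtain ⟨ε₁⟩ := exists_algEquiv hH0
  obtain ⟨ε₂⟩ := exists_algEquiv hB
  let ε : Hens K' ≃ₐ[R₀] B := ε₁.symm.trans ε₂
  letI : Algebra R' B := ((ε : Hens K' →+* B).comp (algebraMap R' (Hens K'))).toAlgebra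
  have hεR' : ∀ r : R', ε (algebraMap R' (Hens K') r) = algebraMap R' B r := fun _ => rfl
  haveI : IsScalarTower R₀ R' B := IsScalarTower.of_algebraMap_eq (fun r => by
    rw [← hεR', ← IsScalarTower.algebraMap_apply R₀ R' (Hens K'), ε.commutes])
  haveI : IsScalarTower A R' B := IsScalarTower.of_algebraMap_eq (fun a => by
    rw [IsScalarTower.algebraMap_apply A R₀ B, IsScalarTower.algebraMap_apply R₀ R' B,
      ← IsScalarTower.algebraMap_apply A R₀ R'])
  refine ⟨R', inferInstance, inferInstance, inferInstance, inferInstance, ?_, hflat, ?_⟩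
  · haveI : Algebra.FinitePresentation R₀ R' := hét.finitePresentation
    exact Algebra.FinitePresentation.trans A R₀ R'
  · rw [hKK']
    exact isPairHenselization_of_ringEquiv K' (Hens K') B ε.toRingEquiv hεR' hH'

end Groth.Agent.Helper8.HfpFlat
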