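import Mathlib
import Groth.Agent.Helper9.Reynolds2
import Groth.Agent.Helper9.LRss
import Groth.Prelude.Def_HopfRep
import Groth.Prelude.Def_GLin

set_option autoImplicit false
universe u v w

namespace Groth.Agent.Helper8.InvNoeth2

open TensorProduct

section
variable (k : Type u) [Field k] (H : Type v) [CommRing H] [HopfAlgebra k H]
  (A : Type w) [CommRing A] [Algebra k A] [HopfRep.Comod k H A] [GLin.IsCoactAlg k H A]
  (hG : HopfRep.IsSemisimpleComod k H A)

include hG in
/-- the Reynolds operator on a comodule algebra of a linearly reductive group -/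
theorem exists_reynolds :
    ∃ E : A →ₗ[k] A, Hoch.IsComodHom H E ∧ (∀ x, E (E x) = E x) ∧
      (∀ x : A, E x = x ↔ x ∈ HopfRep.fixedPts k H A) ∧
      (∀ i ∈ GLin.invariants k H A, ∀ r : A, E (i * r) = i * E r) := by
  have hss : HopfRep.IsSemisimpleComod k H A := hG
  obtain ⟨E, hE₁, hE₂, hE₃⟩ := Groth.Agent.Helper9.exists_reynolds hss
  exact ⟨E, hE₁, hE₂, hE₃, fun i hi r =>
    Groth.Agent.Helper9.reynolds_mul hss E hE₁ hE₂ hE₃ i hi r⟩

include hG in
theorem comap_map (I : Ideal (GLin.invariants k H A)) :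
    Ideal.comap (GLin.invariants k H A).val.toRingHom
        (Ideal.map (GLin.invariants k H A).val.toRingHom I) = I := by
  obtain ⟨E, hE₁, hE₂, hE₃, hE₄⟩ := exists_reynolds k H A hG
  apply le_antisymm _ Ideal.le_comap_map
  intro f hf
  rw [Ideal.mem_comap] at hf
  have key : ∀ x ∈ Ideal.map (GLin.invariants k H A).val.toRingHom I, ∀ r : A,
      ∃ y ∈ I, (y : A) = E (r * x) := by
    intro x hx
    unfold Ideal.map at hx
    induction hx using Submodule.span_induction with
    | mem x hx =>
      obtain ⟨i, hi, rfl⟩ := hx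
      intro r
      refine ⟨i * ⟨E r, (hE₃ _).mp (hE₂ r)⟩, I.mul_mem_right _ hi, ?_⟩
      show (i : A) * E r = E (r * (i : A))
      rw [mul_comm r, hE₄ i.1 i.2]
    | zero =>
      intro r
      exact ⟨0, I.zero_mem, by simp⟩
    | add x y _ _ hx hy =>
      intro r
      obtain ⟨a, ha, hax⟩ := hx r
      obtain ⟨b, hb, hby⟩ := hy r
      refine ⟨a + b, I.add_mem ha hb, ?_⟩
      rw [mul_add, map_add, ← hax, ← hby]
      rfl
    | smul s x _ hx =>
      intro r
      obtain ⟨a, ha, hax⟩ := hx (r * s)
      exact ⟨a, ha, by rw [hax, smul_eq_mul, mul_assoc]⟩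
  obtain ⟨y, hy, hyf⟩ := key _ hf 1
  rw [one_mul] at hyf
  have h1 : E (f : A) = f := (hE₃ _).mpr f.2
  have h2 : y = f := Subtype.ext (hyf.trans h1)
  rw [← h2]
  exact hy

include hG in
theorem main [IsNoetherianRing A] : IsNoetherianRing ↥(GLin.invariants k H A) := by
  rw [isNoetherianRing_iff, isNoetherian_iff']
  haveI : WellFoundedGT (Ideal A) := (isNoetherian_iff' (R := A) (M := A)).mp inferInstance
  have hmono : Monotone (Ideal.map (GLin.invariants k H A).val.toRingHom) :=
    fun _ _ h => Ideal.map_mono h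
  have hinj : Function.Injective (Ideal.map (GLin.invariants k H A).val.toRingHom) := by
    intro I J hIJ
    rw [← comap_map k H A hG I, ← comap_map k H A hG J, hIJ]
  exact (hmono.strictMono_of_injective hinj).wellFoundedGT

end

end Groth.Agent.Helper8.InvNoeth2
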