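import Groth.Agent.Helper8.HilbFin4
import Groth.Agent.Helper8.InvNoeth2
import Groth.Agent.Helper9.Integral

set_option autoImplicit false
set_option linter.unusedSectionVars false
universe u v w w'

namespace Groth.Agent.Helper8.HilbFin

open TensorProduct
open Groth.Agent.Helper8.Chev

section mainU
variable (k : Type u) [Field k] (H : Type v) [CommRing H] [HopfAlgebra k H]
  (A : Type w) [CommRing A] [Algebra k A] [HopfRep.Comod k H A] [GLin.IsCoactAlg k H A]
  (C : Type w') [CommRing C] [Algebra k C] [HopfRep.Comod k H C] [GLin.IsCoactAlg k H C]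
  [Algebra A C] [IsScalarTower k A C]

/-- the data of an equivariant presentation of `C` by a polynomial ring -/
theorem exists_presentationU [Algebra.FiniteType A C]
    (hAC : Hoch.IsComodHom H (IsScalarTower.toAlgHom k A C).toLinearMap) :
    ∃ (n : ℕ) (M : Matrix (Fin n) (Fin n) H) (_ : IsMult k M) (π : MvPolynomial (Fin n) A →ₐ[A] C),
      Function.Surjective π ∧
      ∀ p, HopfRep.Comod.coact (k := k) (A := H) (π p) =
        (π.restrictScalars k).toLinearMap.rTensor H (polyCoact (k := k) M p) := by
  classical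
  obtain ⟨t, ht⟩ := (Algebra.FiniteType.out : (⊤ : Subalgebra A C).FG)
  obtain ⟨V, hfin, hsub, htV⟩ := exists_fd_of_finset' (k := k) (H := H) t
  haveI := hfin
  set c' : HopfRep.Comod k H V := ComodSub.Comod.restr (inferInstance : HopfRep.Comod k H C) V hsub
    with hc'
  set b := Module.finBasis k V with hb
  obtain ⟨M, hcoact, hM⟩ := exists_matrix' c' b
  have hcoactC : ∀ j, HopfRep.Comod.coact (k := k) (A := H) (b j : C) =
      ∑ i, (b i : C) ⊗ₜ[k] M i j := by
    intro j
    have h1 := ComodSub.restr_coact_coe (inferInstance : HopfRep.Comod k H C) V hsub (b j)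
    rw [← hc', hcoact j] at h1
    simp only [map_sum, LinearMap.rTensor_tmul, Submodule.subtype_apply] at h1
    exact h1.symm
  set π : MvPolynomial (Fin (Module.finrank k V)) A →ₐ[A] C :=
    MvPolynomial.aeval (fun j => (b j : C)) with hπ
  refine ⟨_, M, hM, π, ?_, ?_⟩
  · -- surjectivity
    rw [← AlgHom.range_eq_top, hπ, ← Algebra.adjoin_range_eq_range_aeval, eq_top_iff, ← ht]
    apply Algebra.adjoin_le
    intro x hx
    have hxV : x ∈ V := htV hx
    have h3 : (⟨x, hxV⟩ : V) ∈ Submodule.span k (Set.range b) := by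
      rw [b.span_eq]; trivial
    have h5 := Submodule.apply_mem_span_image_of_mem_span V.subtype h3
    simp only [Submodule.subtype_apply] at h5
    have h6 : Submodule.span k (V.subtype '' Set.range b) ≤
        (Subalgebra.toSubmodule (Algebra.adjoin A (Set.range fun j => (b j : C)))).restrictScalars k := by
      rw [Submodule.span_le]
      rintro _ ⟨_, ⟨j, rfl⟩, rfl⟩
      exact Algebra.subset_adjoin ⟨j, rfl⟩
    exact h6 h5
  · -- equivariance
    set ρ := polyCoact (k := k) (A := A) M with hρ
    let L : MvPolynomial (Fin (Module.finrank k V)) A →ₐ[k] C ⊗[k] H :=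
      (GLin.coactAlgHom k H C).comp (π.restrictScalars k)
    let Rr : MvPolynomial (Fin (Module.finrank k V)) A →ₐ[k] C ⊗[k] H :=
      (Algebra.TensorProduct.map (π.restrictScalars k) (AlgHom.id k H)).comp ρ
    have hL : ∀ p, L p = HopfRep.Comod.coact (k := k) (A := H) (π p) := fun p => rfl
    have hR : ∀ p, Rr p = (π.restrictScalars k).toLinearMap.rTensor H (ρ p) := fun p => rfl
    have hLR : L = Rr := by
      apply AlgHom.coe_ringHom_injective
      apply MvPolynomial.ringHom_ext
      · intro a
        change L (MvPolynomial.C a) = Rr (MvPolynomial.C a)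
        rw [hL, hR, hρ, polyCoact_C']
        have h1 : π (MvPolynomial.C a) = algebraMap A C a := by
          rw [hπ, MvPolynomial.aeval_C]
        rw [h1]
        have h2 := LinearMap.congr_fun hAC a
        simp only [LinearMap.comp_apply, AlgHom.toLinearMap_apply, IsScalarTower.coe_toAlgHom'] at h2
        rw [h2]
        generalize HopfRep.Comod.coact (k := k) (A := H) a = y
        induction y using TensorProduct.induction_on with
        | zero => simp
        | tmul a' h' =>
          simp only [LinearMap.rTensor_tmul, AlgHom.toLinearMap_apply, cl_apply,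
            IsScalarTower.coe_toAlgHom', AlgHom.coe_restrictScalars', hπ, MvPolynomial.aeval_C]
        | add x y hx hy => simp only [map_add, hx, hy]
      · intro j
        change L (MvPolynomial.X j) = Rr (MvPolynomial.X j)
        rw [hL, hR, hρ, polyCoact_X, vars]
        have h1 : π (MvPolynomial.X j) = (b j : C) := by
          rw [hπ, MvPolynomial.aeval_X]
        rw [h1, hcoactC j]
        simp only [map_sum, LinearMap.rTensor_tmul, AlgHom.toLinearMap_apply,
          AlgHom.coe_restrictScalars', hπ, MvPolynomial.aeval_X]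
    intro p
    rw [← hL, ← hR, hLR]

theorem mainU (α : H →ₗ[k] k)
    (hα : @Hoch.IsComodHom k _ H _ _ _ H _ _ _ k _ _ (HopfRep.Comod.trivial k H k) α) (h1 : α 1 = 1)
    [IsNoetherianRing A] [Algebra.FiniteType A C]
    (hAC : Hoch.IsComodHom H (IsScalarTower.toAlgHom k A C).toLinearMap) :
    ∃ s : Finset C, GLin.invariants k H C =
      Algebra.adjoin k (⇑(algebraMap A C) '' ↑(GLin.invariants k H A) ∪ ↑s) := by
  classical
  obtain ⟨n, M, hM, π, hsurj, hequiv⟩ := exists_presentationU k H A C hAC
  -- the polynomial ring as a comodule algebra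
  letI cP : HopfRep.Comod k H (MvPolynomial (Fin n) A) := polyComod M hM
  haveI : GLin.IsCoactAlg k H (MvPolynomial (Fin n) A) := polyComod_isCoactAlg M hM
  have hπhom : Hoch.IsComodHom H (π.restrictScalars k).toLinearMap := by
    apply LinearMap.ext
    intro p
    exact hequiv p
  have hssP : HopfRep.IsSemisimpleComod k H (MvPolynomial (Fin n) A) :=
    Groth.Agent.Helper9.Integral.semisimple α hα h1
  have hssC : HopfRep.IsSemisimpleComod k H C :=
    Groth.Agent.Helper9.Integral.semisimple α hα h1
  have hN : IsNoetherianRing (invP (k := k) (A := A) M hM) :=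
    Groth.Agent.Helper8.InvNoeth2.main k H (MvPolynomial (Fin n) A) hssP
  obtain ⟨sP, hsP, hinv⟩ := invP_fg M hM hN
  obtain ⟨EP, hEP₁, hEP₂, hEP₃⟩ := Groth.Agent.Helper9.exists_reynolds hssP
  obtain ⟨EC, hEC₁, hEC₂, hEC₃⟩ := Groth.Agent.Helper9.exists_reynolds hssC
  have hmap : ∀ c : C, c ∈ GLin.invariants k H C ↔ ∃ p ∈ invP (k := k) (A := A) M hM, π p = c := by
    intro c
    constructor
    · intro hc
      obtain ⟨p₀, rfl⟩ := hsurj c
      refine ⟨EP p₀, (hEP₃ _).mp (hEP₂ p₀), ?_⟩
      have h1 := Groth.Agent.Helper9.reynolds_comm hssP EP hEP₁ hEP₂ hEP₃ EC hEC₁ hEC₂ hEC₃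
        (π.restrictScalars k).toLinearMap hπhom p₀
      have h2 : EC (π p₀) = π p₀ := (hEC₃ _).mpr hc
      rw [← h2]
      exact h1.symm
    · rintro ⟨p, hp, rfl⟩
      exact Groth.Agent.Helper9.map_mem_fixedPts hπhom hp
  refine ⟨sP.image π, ?_⟩
  have himg : (invP (k := k) (A := A) M hM).map (π.restrictScalars k) =
      Algebra.adjoin k (⇑(algebraMap A C) '' ↑(GLin.invariants k H A) ∪ ↑(sP.image π)) := by
    rw [hinv, AlgHom.map_adjoin]
    congr 1
    rw [Set.image_union, Set.image_image, Finset.coe_image]
    congr 1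
    ext x
    simp only [Set.mem_image, AlgHom.coe_restrictScalars', MvPolynomial.algHom_C]
  rw [← himg]
  ext c
  rw [hmap c, Subalgebra.mem_map]
  rfl

end mainU

end Groth.Agent.Helper8.HilbFin
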