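import Groth.Prelude.Def_FGA
import Groth.Agent.Helper8.AdicSys2
import Mathlib.AlgebraicGeometry.Morphisms.Separated
import Mathlib.AlgebraicGeometry.Morphisms.Immersion
import Mathlib.AlgebraicGeometry.Morphisms.Proper
import Mathlib.AlgebraicGeometry.Pullbacks
import Mathlib.CategoryTheory.Comma.Over.Basic

set_option backward.isDefEq.respectTransparency false
set_option backward.isDefEq.respectTransparency.types false

universe u
open CategoryTheory CategoryTheory.Limits AlgebraicGeometry

namespace Groth.Agent.Helper8.HilbImm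

variable {W X S : Scheme.{u}} (f : X ⟶ S) (ι : W ⟶ X) (T : Over S)

/-- the base change map `W ×_S T ⟶ X ×_S T`. -/
noncomputable abbrev gmap : pullback (ι ≫ f) T.hom ⟶ pullback f T.hom :=
  pullback.map (ι ≫ f) T.hom f T.hom ι (𝟙 T.left) (𝟙 S)
    (Category.comp_id _) ((Category.comp_id _).trans (Category.id_comp _).symm)

theorem isPullback_gmap :
    IsPullback (gmap f ι T) (pullback.fst (ι ≫ f) T.hom) (pullback.fst f T.hom) ι := by
  have hbig : IsPullback (pullback.snd (ι ≫ f) T.hom) (pullback.fst (ι ≫ f) T.hom) T.hom (ι ≫ f) :=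
    (IsPullback.of_hasPullback (ι ≫ f) T.hom).flip
  have hright : IsPullback (pullback.snd f T.hom) (pullback.fst f T.hom) T.hom f :=
    (IsPullback.of_hasPullback f T.hom).flip
  have e : gmap f ι T ≫ pullback.snd f T.hom = pullback.snd (ι ≫ f) T.hom := by
    simp [gmap]
  rw [← e] at hbig
  exact IsPullback.of_right hbig (by simp [gmap]) hright

instance [IsImmersion ι] : IsImmersion (gmap f ι T) :=
  MorphismProperty.of_isPullback (P := @IsImmersion) (isPullback_gmap f ι T).flip inferInstance

theorem isClosedImmersion_comp [IsSeparated f] [IsImmersion ι] (V : FGA.HilbSet (ι ≫ f) T) :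
    IsClosedImmersion (V.1.subschemeι ≫ gmap f ι T) := by
  have hV : IsProper (V.1.subschemeι ≫ pullback.snd (ι ≫ f) T.hom) := V.2.1
  have e : (V.1.subschemeι ≫ gmap f ι T) ≫ pullback.snd f T.hom =
      V.1.subschemeι ≫ pullback.snd (ι ≫ f) T.hom := by
    simp [gmap]
  haveI : IsProper ((V.1.subschemeι ≫ gmap f ι T) ≫ pullback.snd f T.hom) := by
    rw [e]; exact hV
  haveI : IsProper (V.1.subschemeι ≫ gmap f ι T) :=
    IsProper.of_comp _ (pullback.snd f T.hom)
  exact IsClosedImmersion.of_isPreimmersion _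
    (V.1.subschemeι ≫ gmap f ι T).isClosedMap.isClosed_range

theorem injective_ker [IsSeparated f] [IsImmersion ι] :
    Function.Injective (fun V : FGA.HilbSet (ι ≫ f) T => (V.1.subschemeι ≫ gmap f ι T).ker) := by
  intro V V' h
  have key : ∀ V : FGA.HilbSet (ι ≫ f) T,
      V.1 = (V.1.subschemeι ≫ gmap f ι T).ker.comap (gmap f ι T) := by
    intro V
    haveI := isClosedImmersion_comp f ι T V
    have sq : IsPullback V.1.subschemeι (𝟙 _) (gmap f ι T) (V.1.subschemeι ≫ gmap f ι T) :=
      IsPullback.of_vert_isIso_mono ⟨by simp⟩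
    have := AdicSys.ker_eq_comap_of_isPullback sq
    rwa [Scheme.IdealSheafData.ker_subschemeι] at this
  apply Subtype.ext
  rw [key V, key V']
  exact congrArg (fun K => Scheme.IdealSheafData.comap K (gmap f ι T)) h

end Groth.Agent.Helper8.HilbImm
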