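import Mathlib
import Groth.Prelude.Def_HilbD

set_option autoImplicit false
set_option backward.isDefEq.respectTransparency false
set_option backward.isDefEq.respectTransparency.types false
universe u

namespace Groth.Agent.Helper8.HilbOne

open CategoryTheory CategoryTheory.Limits AlgebraicGeometry

variable {X S : Scheme.{u}} (f : X ⟶ S)

/-- The graph of an `S`-morphism `x : T ⟶ X`. -/
noncomputable def graph (T : Over S) (x : T.left ⟶ X) (hx : x ≫ f = T.hom) :
    T.left ⟶ PicF.XT f T :=
  pullback.lift x (𝟙 T.left) (by simpa using hx)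

@[reassoc (attr := simp)]
lemma graph_fst (T : Over S) (x : T.left ⟶ X) (hx : x ≫ f = T.hom) :
    graph f T x hx ≫ pullback.fst f T.hom = x := pullback.lift_fst _ _ _

@[reassoc (attr := simp)]
lemma graph_snd (T : Over S) (x : T.left ⟶ X) (hx : x ≫ f = T.hom) :
    graph f T x hx ≫ pullback.snd f T.hom = 𝟙 _ := pullback.lift_snd _ _ _

lemma secGraph_eq (T : Over S) (x : T.left ⟶ X) (hx : x ≫ f = T.hom) :
    HilbD.secGraph f T x hx = (graph f T x hx).ker := rfl

@[reassoc (attr := simp)]
lemma XTmap_fst {T T' : Over S} (g : T' ⟶ T) :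
    PicF.XTmap f g ≫ pullback.fst f T.hom = pullback.fst f T'.hom := by
  simp [PicF.XTmap]

@[reassoc (attr := simp)]
lemma XTmap_snd {T T' : Over S} (g : T' ⟶ T) :
    PicF.XTmap f g ≫ pullback.snd f T.hom = pullback.snd f T'.hom ≫ g.left := by
  simp [PicF.XTmap]

/-- The diagonal. -/
noncomputable abbrev diag : X ⟶ PicF.XT f (Over.mk f) :=
  graph f (Over.mk f) (𝟙 X) (Category.id_comp f)

@[reassoc (attr := simp)]
lemma diag_fst : diag f ≫ pullback.fst f f = 𝟙 X :=
  graph_fst f (Over.mk f) (𝟙 X) (Category.id_comp f)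

@[reassoc (attr := simp)]
lemma diag_snd : diag f ≫ pullback.snd f f = 𝟙 X :=
  graph_snd f (Over.mk f) (𝟙 X) (Category.id_comp f)

@[reassoc (attr := simp)]
lemma XTmap_fst' {T' : Over S} (g : T' ⟶ Over.mk f) :
    PicF.XTmap f g ≫ pullback.fst f f = pullback.fst f T'.hom :=
  XTmap_fst f g

@[reassoc (attr := simp)]
lemma XTmap_snd' {T' : Over S} (g : T' ⟶ Over.mk f) :
    PicF.XTmap f g ≫ pullback.snd f f = pullback.snd f T'.hom ≫ g.left :=
  XTmap_snd f g

lemma isPullback_graph (T : Over S) (g : T ⟶ Over.mk f) :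
    IsPullback (graph f T g.left (Over.w g)) g.left (PicF.XTmap f g) (diag f) := by
  have hcomm : graph f T g.left (Over.w g) ≫ PicF.XTmap f g = g.left ≫ diag f := by
    apply pullback.hom_ext
    · simp
    · simp
  refine ⟨⟨hcomm⟩, ⟨PullbackCone.IsLimit.mk _ (fun s => s.fst ≫ pullback.snd _ _) ?_ ?_ ?_⟩⟩
  · intro s
    have h1 : s.fst ≫ pullback.fst f T.hom = s.snd := by
      have := congrArg (· ≫ pullback.fst f (Over.mk f).hom) s.condition
      simpa using this
    have h2 : s.fst ≫ pullback.snd f T.hom ≫ g.left = s.snd := by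
      have := congrArg (· ≫ pullback.snd f (Over.mk f).hom) s.condition
      simpa using this
    apply pullback.hom_ext
    · simp [h1, h2]
    · simp
  · intro s
    have h2 : s.fst ≫ pullback.snd f T.hom ≫ g.left = s.snd := by
      have := congrArg (· ≫ pullback.snd f (Over.mk f).hom) s.condition
      simpa using this
    simpa using h2
  · intro s m hm1 hm2
    have := congrArg (· ≫ pullback.snd f T.hom) hm1
    simpa using this

instance [IsSeparated f] : IsClosedImmersion (diag f) :=
  inferInstanceAs (IsClosedImmersion (pullback.diagonal f))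

lemma isClosedImmersion_graph [IsSeparated f] (T : Over S) (g : T ⟶ Over.mk f) :
    IsClosedImmersion (graph f T g.left (Over.w g)) :=
  MorphismProperty.of_isPullback (P := @IsClosedImmersion) (isPullback_graph f T g).flip
    inferInstance

lemma diag_finLocFree [IsSeparated f] :
    Mor2.IsFinLocFreeOfDeg 1
      ((HilbD.secGraph f (Over.mk f) (𝟙 X) (Category.id_comp f)).subschemeι ≫
        PicF.XTproj f (Over.mk f)) := by
  have e : (diag f).imageι ≫ pullback.snd f f = inv (diag f).toImage := by
    rw [← cancel_epi (diag f).toImage, ← Category.assoc, (diag f).toImage_imageι,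
      IsIso.hom_inv_id]
    exact diag_snd f
  have : IsIso ((diag f).imageι ≫ pullback.snd f f) := by rw [e]; infer_instance
  change Mor2.IsFinLocFreeOfDeg 1 ((diag f).imageι ≫ pullback.snd f f)
  exact ⟨⟨inferInstance, inferInstance, inferInstance⟩,
    fun y => congrFun (Scheme.Hom.finrank_eq_one_of_isIso _) y⟩

lemma pull_eq [IsSeparated f] (T : Over S) (g : T ⟶ Over.mk f) :
    HilbD.pull f g (HilbD.secGraph f (Over.mk f) (𝟙 X) (Category.id_comp f)) =
      (graph f T g.left (Over.w g)).ker := by
  have s₂ : IsPullback (diag f) (diag f).toImage (𝟙 _) (diag f).imageι :=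
    IsPullback.of_vert_isIso ⟨by simp [(diag f).toImage_imageι]⟩
  have s := ((isPullback_graph f T g).paste_vert s₂).flip
  rw [Category.comp_id] at s
  have h := s.isoPullback_hom_snd
  show (pullback.snd (diag f).imageι (PicF.XTmap f g)).ker = _
  rw [← h, Scheme.Hom.ker_comp_of_isIso]

theorem main [IsSeparated f] :
    ∃ Δ : HilbD.Obj f 1 (Over.mk f),
      Δ.1 = HilbD.secGraph f (Over.mk f) (𝟙 X) (Category.id_comp f) ∧
      HilbD.IsUniversal f 1 (Over.mk f) Δ := by
  refine ⟨⟨_, diag_finLocFree f⟩, rfl, ?_⟩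
  intro T Z'
  obtain ⟨⟨hfin, hflat, hfp⟩, hrank⟩ := Z'.2
  have hp : IsIso (Z'.1.subschemeι ≫ PicF.XTproj f T) :=
    (Scheme.Hom.isIso_iff_finrank_eq _).mpr (funext hrank)
  set p := Z'.1.subschemeι ≫ PicF.XTproj f T with hpdef
  let g₀ : T.left ⟶ X := inv p ≫ Z'.1.subschemeι ≫ pullback.fst f T.hom
  have hg₀ : g₀ ≫ f = T.hom := by
    simp only [g₀, Category.assoc, pullback.condition]
    rw [← Category.assoc Z'.1.subschemeι, ← hpdef, IsIso.inv_hom_id_assoc]
  let g : T ⟶ Over.mk f := Over.homMk g₀ hg₀
  have hγ : graph f T g.left (Over.w g) = inv p ≫ Z'.1.subschemeι := by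
    apply pullback.hom_ext
    · simp [g, g₀]
    · simp only [graph_snd, Category.assoc]
      rw [← hpdef, IsIso.inv_hom_id]
  have hγker : (graph f T g.left (Over.w g)).ker = Z'.1 := by
    rw [hγ, Scheme.Hom.ker_comp_of_isIso, Scheme.IdealSheafData.ker_subschemeι]
  refine ⟨g, ?_, ?_⟩
  · show HilbD.pull f g _ = Z'.1
    rw [pull_eq, hγker]
  · intro g' hg'
    have hg'' : (graph f T g'.left (Over.w g')).ker = Z'.1 := by
      rw [← pull_eq]; exact hg'
    haveI := isClosedImmersion_graph f T g'
    haveI := isClosedImmersion_graph f T g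
    let θ := IsClosedImmersion.lift (graph f T g'.left (Over.w g')) (graph f T g.left (Over.w g))
      (le_of_eq (hg''.trans hγker.symm))
    have hθ : θ ≫ graph f T g'.left (Over.w g') = graph f T g.left (Over.w g) :=
      IsClosedImmersion.lift_fac _ _ _
    have hθ1 : θ = 𝟙 _ := by
      have := congrArg (· ≫ pullback.snd f T.hom) hθ
      simpa using this
    rw [hθ1, Category.id_comp] at hθ
    apply Over.OverMorphism.ext
    have := congrArg (· ≫ pullback.fst f T.hom) hθ
    simpa using this

end Groth.Agent.Helper8.HilbOne
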