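import Mathlib
import Groth.Prelude.Def_HilbD
import Groth.Agent.Helper8.ClDesc
import Groth.Agent.Helper8.HilbOne
import Groth.Agent.Helper8.IdDesc
import Groth.Agent.S9867

set_option autoImplicit false
set_option backward.isDefEq.respectTransparency false
set_option backward.isDefEq.respectTransparency.types false
universe u

namespace Groth.Agent.Helper8.HilbSh

open CategoryTheory CategoryTheory.Limits AlgebraicGeometry
open Groth.Agent.Helper8 Groth.Agent.Helper8.HilbOne

variable {X S : Scheme.{u}} (f : X ⟶ S)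

lemma pull_eq_comap {T T' : Over S} (g : T' ⟶ T) (I : (PicF.XT f T).IdealSheafData) :
    HilbD.pull f g I = I.comap (PicF.XTmap f g) := by
  unfold HilbD.pull Scheme.IdealSheafData.comap
  rw [← pullbackSymmetry_hom_comp_fst, Scheme.Hom.ker_comp_of_isIso]

variable (T : Over S) {T' : Scheme.{u}} (g : T' ⟶ T.left)

/-- the base change of `g` to `X` -/
noncomputable abbrev gh : PicF.XT f (HilbD.coverOver T g) ⟶ PicF.XT f T :=
  PicF.XTmap f (HilbD.coverHom T g)

lemma isPullback_gh :
    IsPullback (gh f T g) (PicF.XTproj f (HilbD.coverOver T g)) (PicF.XTproj f T) g := by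
  refine IsPullback.of_right ?_ ?_ (IsPullback.of_hasPullback f T.hom)
  · rw [XTmap_fst]
    exact IsPullback.of_hasPullback f (g ≫ T.hom)
  · exact XTmap_snd f (HilbD.coverHom T g)

variable [QuasiCompact g] [Flat g] [Surjective g]

instance : Flat (gh f T g) :=
  MorphismProperty.of_isPullback (P := @Flat) (isPullback_gh f T g).flip ‹_›
instance : Surjective (gh f T g) :=
  MorphismProperty.of_isPullback (P := @Surjective) (isPullback_gh f T g).flip ‹_›
instance : QuasiCompact (gh f T g) :=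
  MorphismProperty.of_isPullback (P := @QuasiCompact) (isPullback_gh f T g).flip ‹_›

omit [QuasiCompact g] [Flat g] [Surjective g] in
/-- kernel pair stability from the overlap condition -/
lemma kp (I' : (PicF.XT f (HilbD.coverOver T g)).IdealSheafData)
    (h : I'.comap (PicF.XTmap f (HilbD.overlapFst T g)) =
      I'.comap (PicF.XTmap f (HilbD.overlapSnd T g))) :
    I'.comap (pullback.fst (gh f T g) (gh f T g)) = I'.comap (pullback.snd (gh f T g) (gh f T g)) := by
  have e_fst : gh f T g ≫ pullback.fst f T.hom = pullback.fst f (g ≫ T.hom) :=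
    XTmap_fst f (HilbD.coverHom T g)
  have e_snd : gh f T g ≫ pullback.snd f T.hom = pullback.snd f (g ≫ T.hom) ≫ g :=
    XTmap_snd f (HilbD.coverHom T g)
  have hc : pullback.fst (gh f T g) (gh f T g) ≫ pullback.fst f (g ≫ T.hom) =
      pullback.snd (gh f T g) (gh f T g) ≫ pullback.fst f (g ≫ T.hom) := by
    rw [← e_fst, ← Category.assoc, ← Category.assoc, pullback.condition]
  let q : pullback (gh f T g) (gh f T g) ⟶ pullback g g :=
    pullback.lift (pullback.fst _ _ ≫ pullback.snd f (g ≫ T.hom))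
      (pullback.snd _ _ ≫ pullback.snd f (g ≫ T.hom)) (by
        rw [Category.assoc, Category.assoc, ← e_snd, ← Category.assoc, ← Category.assoc,
          pullback.condition])
  have hq1 : q ≫ pullback.fst g g = pullback.fst _ _ ≫ pullback.snd f (g ≫ T.hom) :=
    pullback.lift_fst _ _ _
  have hq2 : q ≫ pullback.snd g g = pullback.snd _ _ ≫ pullback.snd f (g ≫ T.hom) :=
    pullback.lift_snd _ _ _
  let n : pullback (gh f T g) (gh f T g) ⟶ PicF.XT f (HilbD.overlapOver T g) :=
    pullback.lift (pullback.fst _ _ ≫ pullback.fst f (g ≫ T.hom)) q (by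
      change _ = q ≫ (pullback.fst g g ≫ g) ≫ T.hom
      rw [← Category.assoc q, ← Category.assoc q, hq1, Category.assoc, Category.assoc,
        Category.assoc, pullback.condition])
  have hn1 : n ≫ pullback.fst f ((pullback.fst g g ≫ g) ≫ T.hom) =
      pullback.fst _ _ ≫ pullback.fst f (g ≫ T.hom) :=
    pullback.lift_fst _ _ _
  have hn2 : n ≫ pullback.snd f ((pullback.fst g g ≫ g) ≫ T.hom) = q := pullback.lift_snd _ _ _
  have o1_fst : PicF.XTmap f (HilbD.overlapFst T g) ≫ pullback.fst f (g ≫ T.hom) =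
      pullback.fst f ((pullback.fst g g ≫ g) ≫ T.hom) := XTmap_fst f (HilbD.overlapFst T g)
  have o1_snd : PicF.XTmap f (HilbD.overlapFst T g) ≫ pullback.snd f (g ≫ T.hom) =
      pullback.snd f ((pullback.fst g g ≫ g) ≫ T.hom) ≫ pullback.fst g g :=
    XTmap_snd f (HilbD.overlapFst T g)
  have o2_fst : PicF.XTmap f (HilbD.overlapSnd T g) ≫ pullback.fst f (g ≫ T.hom) =
      pullback.fst f ((pullback.fst g g ≫ g) ≫ T.hom) := XTmap_fst f (HilbD.overlapSnd T g)
  have o2_snd : PicF.XTmap f (HilbD.overlapSnd T g) ≫ pullback.snd f (g ≫ T.hom) =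
      pullback.snd f ((pullback.fst g g ≫ g) ≫ T.hom) ≫ pullback.snd g g :=
    XTmap_snd f (HilbD.overlapSnd T g)
  refine IdDesc.comap_eq_of_fac h n ?_ ?_
  · refine pullback.hom_ext (f := f) (g := g ≫ T.hom) ?_ ?_
    · rw [Category.assoc, o1_fst, hn1]
    · rw [Category.assoc, o1_snd, ← Category.assoc, hn2, hq1]
  · refine pullback.hom_ext (f := f) (g := g ≫ T.hom) ?_ ?_
    · rw [Category.assoc, o2_fst, hn1, hc]
    · rw [Category.assoc, o2_snd, ← Category.assoc, hn2, hq2]

theorem main (d : ℕ) (Z' : HilbD.Obj f d (HilbD.coverOver T g))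
    (hZ' : HilbD.pull f (HilbD.overlapFst T g) Z'.1 = HilbD.pull f (HilbD.overlapSnd T g) Z'.1) :
    ∃! I : (PicF.XT f T).IdealSheafData, Mor2.IsFinLocFreeOfDeg d (I.subschemeι ≫ PicF.XTproj f T) ∧
      HilbD.pull f (HilbD.coverHom T g) I = Z'.1 := by
  obtain ⟨I', hI'⟩ := Z'
  rw [pull_eq_comap, pull_eq_comap] at hZ'
  have hkp := kp f T g I' hZ'
  obtain ⟨I, hI⟩ : ∃ I : (PicF.XT f T).IdealSheafData, I.comap (gh f T g) = I' :=
    ⟨_, ClDesc.comap_map_eq (gh f T g) I' hkp⟩
  subst hI
  refine ⟨I, ⟨?_, pull_eq_comap f _ I⟩, ?_⟩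
  · -- descent of finite local freeness
    have s1 : IsPullback (I.comap (gh f T g)).subschemeι
        ((I.comapIso (gh f T g)).hom ≫ pullback.snd _ _) (gh f T g) I.subschemeι := by
      refine IsPullback.of_iso (IsPullback.of_hasPullback (gh f T g) I.subschemeι)
        (I.comapIso (gh f T g)).symm (Iso.refl _) (Iso.refl _) (Iso.refl _) ?_ ?_ ?_ ?_
      · simp
      · simp only [Iso.refl_hom, Category.comp_id, Iso.symm_hom, Iso.inv_hom_id_assoc]
      · simp
      · simp
    have s2 := (s1.flip.paste_vert (isPullback_gh f T g)).flip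
    haveI := (Groth.Agent.S9867.result.{u}).2 d
    exact MorphismProperty.of_isPullback_of_descendsAlong
      (P := fun _ _ f => Mor2.IsFinLocFreeOfDeg d f)
      (Q := (@Surjective ⊓ @Flat ⊓ @QuasiCompact : MorphismProperty Scheme.{u})) s2
      ⟨⟨‹_›, ‹_›⟩, ‹_›⟩ hI'
  · rintro I₂ ⟨-, h₂⟩
    rw [pull_eq_comap] at h₂
    rw [← ClDesc.map_comap_eq (gh f T g) I₂, h₂, ClDesc.map_comap_eq]

end Groth.Agent.Helper8.HilbSh
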