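import Mathlib
import Groth.Prelude.Def_HilbD
import Groth.Agent.Helper3.WeilRes3
import Groth.Agent.Helper8.HilbSh
import Groth.Agent.Helper8.AdicSys2

set_option autoImplicit false
set_option backward.isDefEq.respectTransparency false
set_option backward.isDefEq.respectTransparency.types false
set_option linter.style.haveILetI false
universe u

namespace Groth.Agent.Helper8.HilbInc

open CategoryTheory CategoryTheory.Limits AlgebraicGeometry
open Groth.Agent.Helper8 Groth.Agent.Helper8.HilbOne Groth.Agent.Helper8.HilbSh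
open Groth.Agent.Helper3

variable {X S : Scheme.{u}} (f : X ⟶ S)

/-! ### Generalities on `XTmap` and `pull` -/

lemma isPullback_XTmap {T T' : Over S} (g : T' ⟶ T) :
    IsPullback (PicF.XTmap f g) (PicF.XTproj f T') (PicF.XTproj f T) g.left := by
  have hw : g.left ≫ T.hom = T'.hom := Over.w g
  refine IsPullback.of_right ?_ (XTmap_snd f g) (IsPullback.of_hasPullback f T.hom)
  rw [XTmap_fst, hw]
  exact IsPullback.of_hasPullback f T'.hom

lemma XTmap_comp {T T' T'' : Over S} (g : T'' ⟶ T') (p : T' ⟶ T) :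
    PicF.XTmap f (g ≫ p) = PicF.XTmap f g ≫ PicF.XTmap f p := by
  apply pullback.hom_ext
  · simp
  · simp

lemma XTmap_id (T : Over S) : PicF.XTmap f (𝟙 T) = 𝟙 _ := by
  apply pullback.hom_ext
  · simp
  · simp

lemma pull_comp {T T' T'' : Over S} (g : T'' ⟶ T') (p : T' ⟶ T)
    (I : (PicF.XT f T).IdealSheafData) :
    HilbD.pull f (g ≫ p) I = HilbD.pull f g (HilbD.pull f p I) := by
  rw [pull_eq_comap, pull_eq_comap, pull_eq_comap, XTmap_comp,
    Scheme.IdealSheafData.comap_comp]

lemma pull_id {T : Over S} (I : (PicF.XT f T).IdealSheafData) :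
    HilbD.pull f (𝟙 T) I = I := by
  rw [pull_eq_comap, XTmap_id, Scheme.IdealSheafData.comap_id]

/-! ### Finite locally free of degree `d` -/

lemma isFinLocFreeOfDeg_iso_comp {A B C : Scheme.{u}} (d : ℕ) (φ : A ⟶ B) [IsIso φ] (h : B ⟶ C)
    (hh : Mor2.IsFinLocFreeOfDeg d h) : Mor2.IsFinLocFreeOfDeg d (φ ≫ h) := by
  obtain ⟨⟨h1, h2, h3⟩, h4⟩ := hh
  haveI := h1; haveI := h2; haveI := h3
  refine ⟨⟨inferInstance, inferInstance, inferInstance⟩, fun y => ?_⟩
  rw [Scheme.Hom.finrank_comp_left_of_isIso]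
  exact h4 y

lemma isFinLocFreeOfDeg_of_isPullback {P A B C : Scheme.{u}} (d : ℕ) {fst : P ⟶ A} {snd : P ⟶ B}
    {h : A ⟶ C} {g : B ⟶ C} (sq : IsPullback fst snd h g)
    (hh : Mor2.IsFinLocFreeOfDeg d h) : Mor2.IsFinLocFreeOfDeg d snd := by
  obtain ⟨⟨h1, h2, h3⟩, h4⟩ := hh
  haveI := h1; haveI := h2; haveI := h3
  refine ⟨⟨MorphismProperty.of_isPullback (P := @IsFinite) sq h1,
    MorphismProperty.of_isPullback (P := @Flat) sq h2,
    MorphismProperty.of_isPullback (P := @LocallyOfFinitePresentation) sq h3⟩, fun y => ?_⟩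
  rw [Scheme.Hom.finrank_of_isPullback fst snd h g sq]
  exact h4 _

/-- the base change square of a closed subscheme of `X_T`. -/
lemma isPullback_comap_subscheme {A B : Scheme.{u}} (h : A ⟶ B) (I : B.IdealSheafData) :
    IsPullback (I.comap h).subschemeι ((I.comapIso h).hom ≫ pullback.snd _ _) h I.subschemeι := by
  refine IsPullback.of_iso (IsPullback.of_hasPullback h I.subschemeι)
    (I.comapIso h).symm (Iso.refl _) (Iso.refl _) (Iso.refl _) ?_ ?_ ?_ ?_
  · simp
  · simp only [Iso.refl_hom, Category.comp_id, Iso.symm_hom, Iso.inv_hom_id_assoc]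
  · simp
  · simp

lemma pull_mem (d : ℕ) {T T' : Over S} (g : T' ⟶ T) (Z : HilbD.Obj f d T) :
    Mor2.IsFinLocFreeOfDeg d ((HilbD.pull f g Z.1).subschemeι ≫ PicF.XTproj f T') := by
  rw [pull_eq_comap]
  have s1 := isPullback_comap_subscheme (PicF.XTmap f g) Z.1
  have s2 := (s1.flip.paste_vert (isPullback_XTmap f g))
  exact isFinLocFreeOfDeg_of_isPullback d s2 Z.2

/-! ### The containment locus -/

/-- Given closed subschemes `Y₁, Y₂ ⊆ X_T` with `Y₁` finite locally free over `T`, the locus of `T`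
over which `Y₁ ⊆ Y₂` is a closed subscheme of `T`. -/
theorem exists_containment_locus {T : Over S} (I₁ I₂ : (PicF.XT f T).IdealSheafData)
    (h₁ : Mor2.IsFinLocFree (I₁.subschemeι ≫ PicF.XTproj f T)) :
    ∃ J : T.left.IdealSheafData, ∀ (T' : Over S) (g : T' ⟶ T),
      J ≤ g.left.ker ↔ HilbD.pull f g I₂ ≤ HilbD.pull f g I₁ := by
  obtain ⟨hfin, hflat, hfp⟩ := h₁
  haveI := hfin; haveI := hflat; haveI := hfp
  have hπ := WeilRes3.projSections_of_finite_flat (I₁.subschemeι ≫ PicF.XTproj f T)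
  refine ⟨WeilRes1.weilIdeal (I₁.subschemeι ≫ PicF.XTproj f T) hπ
    (pullback.fst I₁.subschemeι I₂.subschemeι).ker, fun T' g => ?_⟩
  have sq : IsPullback (pullback.snd I₁.subschemeι (PicF.XTmap f g) ≫ PicF.XTproj f T')
      (pullback.fst I₁.subschemeι (PicF.XTmap f g)) g.left
      (I₁.subschemeι ≫ PicF.XTproj f T) :=
    (IsPullback.of_hasPullback I₁.subschemeι (PicF.XTmap f g)).flip.paste_horiz
      (isPullback_XTmap f g).flip
  rw [WeilRes1.weilIdeal_le_ker_iff _ hπ _ _ _ _ sq,
    Scheme.IdealSheafData.ker_fst_of_isClosedImmersion, Scheme.IdealSheafData.ker_subschemeι,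
    ← Scheme.IdealSheafData.le_map_iff_comap_le, Scheme.IdealSheafData.map_ker,
    pullback.condition, ← Scheme.IdealSheafData.map_ker,
    Scheme.IdealSheafData.le_map_iff_comap_le, pull_eq_comap]
  rfl

/-! ### Separatedness of the Hilbert scheme of points -/

theorem isSeparated_of_isUniversal (d : ℕ) (H : Over S) (Z : HilbD.Obj f d H)
    (hZ : HilbD.IsUniversal f d H Z) : IsSeparated H.hom := by
  let PD : Over S := Over.mk (pullback.fst H.hom H.hom ≫ H.hom)
  let p₁ : PD ⟶ H := Over.homMk (pullback.fst H.hom H.hom) rfl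
  let p₂ : PD ⟶ H := Over.homMk (pullback.snd H.hom H.hom) pullback.condition.symm
  have hI₁ := pull_mem f d p₁ Z
  have hI₂ := pull_mem f d p₂ Z
  obtain ⟨J₁, hJ₁⟩ := exists_containment_locus f (HilbD.pull f p₁ Z.1) (HilbD.pull f p₂ Z.1) hI₁.1
  obtain ⟨J₂, hJ₂⟩ := exists_containment_locus f (HilbD.pull f p₂ Z.1) (HilbD.pull f p₁ Z.1) hI₂.1
  have key : ∀ (T' : Over S) (g : T' ⟶ PD), J₁ ⊔ J₂ ≤ g.left.ker ↔ g ≫ p₁ = g ≫ p₂ := by
    intro T' g
    rw [sup_le_iff, hJ₁, hJ₂]
    constructor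
    · rintro ⟨h1, h2⟩
      have e : HilbD.pull f g (HilbD.pull f p₁ Z.1) = HilbD.pull f g (HilbD.pull f p₂ Z.1) :=
        le_antisymm h2 h1
      rw [← pull_comp, ← pull_comp] at e
      obtain ⟨u, -, hu⟩ := hZ T' ⟨HilbD.pull f (g ≫ p₁) Z.1, pull_mem f d (g ≫ p₁) Z⟩
      exact (hu _ rfl).trans (hu _ e.symm).symm
    · intro h
      have e : HilbD.pull f g (HilbD.pull f p₁ Z.1) = HilbD.pull f g (HilbD.pull f p₂ Z.1) := by
        rw [← pull_comp, ← pull_comp, h]
      exact ⟨e.ge, e.le⟩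
  set W := J₁ ⊔ J₂ with hW
  have hΔ : W ≤ (pullback.diagonal H.hom).ker := by
    have h0 : (pullback.diagonal H.hom) ≫ PD.hom = H.hom := by
      change pullback.diagonal H.hom ≫ pullback.fst H.hom H.hom ≫ H.hom = H.hom
      rw [pullback.diagonal_fst_assoc]
    have := (key H (Over.homMk (pullback.diagonal H.hom) h0)).mpr (by
      apply Over.OverMorphism.ext
      change pullback.diagonal H.hom ≫ pullback.fst H.hom H.hom =
        pullback.diagonal H.hom ≫ pullback.snd H.hom H.hom
      rw [pullback.diagonal_fst, pullback.diagonal_snd])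
    exact this
  obtain ⟨z, hz⟩ := (KerLocal.exists_lift_iff_le_ker W.subschemeι (pullback.diagonal H.hom)).mpr
    (by rwa [Scheme.IdealSheafData.ker_subschemeι])
  have heq : W.subschemeι ≫ pullback.fst H.hom H.hom = W.subschemeι ≫ pullback.snd H.hom H.hom := by
    have := (key (Over.mk (W.subschemeι ≫ PD.hom)) (Over.homMk W.subschemeι rfl)).mp (by
      change W ≤ W.subschemeι.ker
      rw [Scheme.IdealSheafData.ker_subschemeι])
    exact congrArg (fun t => t.left) this
  have hr : (W.subschemeι ≫ pullback.fst H.hom H.hom) ≫ pullback.diagonal H.hom =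
      W.subschemeι := by
    apply pullback.hom_ext
    · rw [Category.assoc, pullback.diagonal_fst, Category.comp_id]
    · rw [Category.assoc, pullback.diagonal_snd, Category.comp_id, heq]
  haveI : IsIso z := by
    refine ⟨W.subschemeι ≫ pullback.fst H.hom H.hom, ?_, ?_⟩
    · rw [← Category.assoc, hz, pullback.diagonal_fst]
    · rw [← cancel_mono W.subschemeι, Category.assoc, hz, hr, Category.id_comp]
  have : IsClosedImmersion (pullback.diagonal H.hom) := by
    rw [← hz]; infer_instance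
  exact ⟨this⟩

end Groth.Agent.Helper8.HilbInc
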