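import Mathlib
import Groth.Prelude.Def_HilbD
import Groth.Agent.Helper8.HilbInc
import Groth.Agent.Helper8.HilbImm

set_option autoImplicit false
set_option backward.isDefEq.respectTransparency false
set_option backward.isDefEq.respectTransparency.types false
set_option linter.style.haveILetI false
universe u

namespace Groth.Agent.Helper8.HilbInc2

open CategoryTheory CategoryTheory.Limits AlgebraicGeometry
open Groth.Agent.Helper8 Groth.Agent.Helper8.HilbOne Groth.Agent.Helper8.HilbSh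
open Groth.Agent.Helper8.HilbInc Groth.Agent.Helper8.HilbImm
open Groth.Agent.Helper3

/-! ### Closed subschemes of a closed subscheme -/

section general

variable {A B : Scheme.{u}} (c : A ⟶ B) [IsClosedImmersion c]

lemma comap_ker_comp (I' : A.IdealSheafData) : (I'.subschemeι ≫ c).ker.comap c = I' := by
  have sq : IsPullback I'.subschemeι (𝟙 _) c (I'.subschemeι ≫ c) :=
    IsPullback.of_vert_isIso_mono ⟨by simp⟩
  have := AdicSys.ker_eq_comap_of_isPullback sq
  rw [Scheme.IdealSheafData.ker_subschemeι] at this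
  exact this.symm

/-- a closed subscheme of `B` contained in `A`, viewed in `A`: same scheme. -/
lemma exists_iso_comap (I : B.IdealSheafData) (hI : c.ker ≤ I) :
    ∃ φ : (I.comap c).subscheme ⟶ I.subscheme, IsIso φ ∧
      (I.comap c).subschemeι ≫ c = φ ≫ I.subschemeι := by
  obtain ⟨w, hw⟩ := (KerLocal.exists_lift_iff_le_ker c I.subschemeι).mpr
    (by rwa [Scheme.IdealSheafData.ker_subschemeι])
  haveI : IsIso (pullback.snd c I.subschemeι) := by
    refine ⟨pullback.lift w (𝟙 _) (by rw [hw, Category.id_comp]), ?_, pullback.lift_snd _ _ _⟩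
    rw [← cancel_mono (pullback.snd c I.subschemeι), Category.assoc, pullback.lift_snd,
      Category.comp_id, Category.id_comp]
  refine ⟨(I.comapIso c).hom ≫ pullback.snd c I.subschemeι, inferInstance, ?_⟩
  rw [Category.assoc, ← pullback.condition, ← Category.assoc,
    Scheme.IdealSheafData.comapIso_hom_fst]

lemma ker_comap_comp (I : B.IdealSheafData) (hI : c.ker ≤ I) :
    ((I.comap c).subschemeι ≫ c).ker = I := by
  obtain ⟨φ, hφ, e⟩ := exists_iso_comap c I hI
  rw [e, Scheme.Hom.ker_comp_of_isIso, Scheme.IdealSheafData.ker_subschemeι]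

end general

/-! ### The Hilbert functor of a closed subscheme -/

variable {X Y S : Scheme.{u}} (i : X ⟶ Y) [IsClosedImmersion i] (g : Y ⟶ S)

instance (T : Over S) : IsClosedImmersion (gmap g i T) :=
  MorphismProperty.of_isPullback (P := @IsClosedImmersion) (isPullback_gmap g i T).flip
    inferInstance

omit [IsClosedImmersion i] in
lemma push_eq (T : Over S) (I : (PicF.XT (i ≫ g) T).IdealSheafData) :
    HilbD.push i g T I = (I.subschemeι ≫ gmap g i T).ker := rfl

omit [IsClosedImmersion i] in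
@[reassoc]
lemma gmap_fst (T : Over S) :
    gmap g i T ≫ pullback.fst g T.hom = pullback.fst (i ≫ g) T.hom ≫ i := by
  simp [gmap]

omit [IsClosedImmersion i] in
@[reassoc]
lemma gmap_snd (T : Over S) :
    gmap g i T ≫ pullback.snd g T.hom = pullback.snd (i ≫ g) T.hom := by
  simp [gmap]

@[reassoc]
lemma gmap_natural {T T' : Over S} (v : T' ⟶ T) :
    PicF.XTmap (i ≫ g) v ≫ gmap g i T = gmap g i T' ≫ PicF.XTmap g v := by
  apply pullback.hom_ext
  · rw [Category.assoc, Category.assoc, gmap_fst, XTmap_fst, XTmap_fst_assoc, gmap_fst]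
  · rw [Category.assoc, Category.assoc, gmap_snd, XTmap_snd, XTmap_snd, gmap_snd_assoc]

lemma isPullback_gmap_natural {T T' : Over S} (v : T' ⟶ T) :
    IsPullback (gmap g i T') (PicF.XTmap (i ≫ g) v) (PicF.XTmap g v) (gmap g i T) := by
  refine IsPullback.of_bot ?_ (gmap_natural i g v).symm (isPullback_gmap g i T)
  rw [XTmap_fst, XTmap_fst]
  exact isPullback_gmap g i T'

/-- the ideal of `X_T` in `Y_T` is compatible with base change. -/
lemma ker_gmap_pull {T T' : Over S} (v : T' ⟶ T) :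
    (gmap g i T').ker = HilbD.pull g v (gmap g i T).ker := by
  rw [pull_eq_comap]
  exact AdicSys.ker_eq_comap_of_isPullback (isPullback_gmap_natural i g v)

lemma push_mem (d : ℕ) (T : Over S) (Z' : HilbD.Obj (i ≫ g) d T) :
    Mor2.IsFinLocFreeOfDeg d ((HilbD.push i g T Z'.1).subschemeι ≫ PicF.XTproj g T) := by
  rw [push_eq]
  have e : ((Z'.1.subschemeι ≫ gmap g i T).ker).subschemeι ≫ PicF.XTproj g T =
      inv (Z'.1.subschemeι ≫ gmap g i T).toImage ≫ (Z'.1.subschemeι ≫ PicF.XTproj (i ≫ g) T) := by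
    rw [IsIso.eq_inv_comp]
    have h1 := (Z'.1.subschemeι ≫ gmap g i T).toImage_imageι
    change (Z'.1.subschemeι ≫ gmap g i T).toImage ≫
      ((Z'.1.subschemeι ≫ gmap g i T).ker).subschemeι = _ at h1
    rw [← Category.assoc, h1, Category.assoc, gmap_snd]
  rw [e]
  exact isFinLocFreeOfDeg_iso_comp d _ _ Z'.2

/-- restriction of a closed subscheme of `Y_T` contained in `X_T` -/
lemma comap_gmap_mem (d : ℕ) (T : Over S) (Z' : HilbD.Obj g d T)
    (h : (gmap g i T).ker ≤ Z'.1) :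
    Mor2.IsFinLocFreeOfDeg d ((Z'.1.comap (gmap g i T)).subschemeι ≫ PicF.XTproj (i ≫ g) T) := by
  obtain ⟨φ, hφ, e⟩ := exists_iso_comap (gmap g i T) Z'.1 h
  have e' : (Z'.1.comap (gmap g i T)).subschemeι ≫ PicF.XTproj (i ≫ g) T =
      φ ≫ (Z'.1.subschemeι ≫ PicF.XTproj g T) := by
    have h2 : PicF.XTproj (i ≫ g) T = gmap g i T ≫ PicF.XTproj g T := (gmap_snd i g T).symm
    rw [h2, ← Category.assoc, e, Category.assoc]
  rw [e']
  exact isFinLocFreeOfDeg_iso_comp d _ _ Z'.2

lemma pull_comap_gmap {T T' : Over S} (v : T' ⟶ T) (I : (PicF.XT g T).IdealSheafData) :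
    HilbD.pull (i ≫ g) v (I.comap (gmap g i T)) = (HilbD.pull g v I).comap (gmap g i T') := by
  rw [pull_eq_comap, pull_eq_comap, ← Scheme.IdealSheafData.comap_comp,
    ← Scheme.IdealSheafData.comap_comp, gmap_natural]

theorem main (d : ℕ) (H : Over S) (Z : HilbD.Obj g d H) (hZ : HilbD.IsUniversal g d H Z) :
    HilbD.Representable (i ≫ g) d ∧
    ∀ (H' : Over S) (Z' : HilbD.Obj (i ≫ g) d H') (_ : HilbD.IsUniversal (i ≫ g) d H' Z')
      (m : H' ⟶ H),
      HilbD.pull g m Z.1 = HilbD.push i g H' Z'.1 → IsClosedImmersion m.left := by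
  obtain ⟨J, hJ⟩ := exists_containment_locus g Z.1 (gmap g i H).ker Z.2.1
  have hJ' : ∀ (T : Over S) (v : T ⟶ H), J ≤ v.left.ker ↔ (gmap g i T).ker ≤ HilbD.pull g v Z.1 := by
    intro T v
    rw [hJ, ← ker_gmap_pull]
  let H₀ : Over S := Over.mk (J.subschemeι ≫ H.hom)
  let m₀ : H₀ ⟶ H := Over.homMk J.subschemeι rfl
  haveI : Mono m₀ := by
    refine ⟨fun a b hab => ?_⟩
    apply Over.OverMorphism.ext
    have := congrArg (fun t => t.left) hab
    simp only [Over.comp_left] at this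
    exact (cancel_mono J.subschemeι).mp this
  have hK₀ : (gmap g i H₀).ker ≤ HilbD.pull g m₀ Z.1 := by
    rw [← hJ']
    change J ≤ J.subschemeι.ker
    rw [Scheme.IdealSheafData.ker_subschemeι]
  let Z₀ : HilbD.Obj (i ≫ g) d H₀ :=
    ⟨(HilbD.pull g m₀ Z.1).comap (gmap g i H₀),
      comap_gmap_mem i g d H₀ ⟨HilbD.pull g m₀ Z.1, pull_mem g d m₀ Z⟩ hK₀⟩
  -- the classifying property of `m₀`
  have hcl : ∀ (T : Over S) (v : T ⟶ H₀),
      HilbD.pull g (v ≫ m₀) Z.1 = HilbD.push i g T (HilbD.pull (i ≫ g) v Z₀.1) := by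
    intro T v
    change _ = HilbD.push i g T (HilbD.pull (i ≫ g) v ((HilbD.pull g m₀ Z.1).comap (gmap g i H₀)))
    rw [pull_comap_gmap, push_eq, ← pull_comp, ker_comap_comp]
    rw [pull_comp, ker_gmap_pull i g v, pull_eq_comap, pull_eq_comap]
    exact Scheme.IdealSheafData.comap_mono _ hK₀
  have huniv : HilbD.IsUniversal (i ≫ g) d H₀ Z₀ := by
    intro T Z''
    obtain ⟨v, hv, hvu⟩ := hZ T ⟨HilbD.push i g T Z''.1, push_mem i g d T Z''⟩
    change HilbD.pull g v Z.1 = HilbD.push i g T Z''.1 at hv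
    have hle : J ≤ v.left.ker := by
      rw [hJ', hv, push_eq]
      exact Scheme.Hom.le_ker_comp _ _
    obtain ⟨z, hz⟩ := (KerLocal.exists_lift_iff_le_ker J.subschemeι v.left).mpr
      (by rwa [Scheme.IdealSheafData.ker_subschemeι])
    have hzw : z ≫ H₀.hom = T.hom := by
      change z ≫ J.subschemeι ≫ H.hom = T.hom
      rw [← Category.assoc, hz, Over.w]
    let v' : T ⟶ H₀ := Over.homMk z hzw
    have hv' : v' ≫ m₀ = v := by
      apply Over.OverMorphism.ext
      exact hz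
    refine ⟨v', ?_, ?_⟩
    · change HilbD.pull (i ≫ g) v' ((HilbD.pull g m₀ Z.1).comap (gmap g i H₀)) = Z''.1
      rw [pull_comap_gmap, ← pull_comp, hv', hv, push_eq, comap_ker_comp]
    · intro v'' hv''
      change HilbD.pull (i ≫ g) v'' Z₀.1 = Z''.1 at hv''
      have := hcl T v''
      rw [hv''] at this
      have h1 := hvu (v'' ≫ m₀) this
      rw [← hv'] at h1
      exact (cancel_mono m₀).mp h1
  refine ⟨⟨H₀, Z₀, huniv⟩, ?_⟩
  intro H' Z' hZ' m hm
  obtain ⟨a, ha, -⟩ := huniv H' Z'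
  obtain ⟨b, hb, -⟩ := hZ' H₀ Z₀
  change HilbD.pull (i ≫ g) a Z₀.1 = Z'.1 at ha
  change HilbD.pull (i ≫ g) b Z'.1 = Z₀.1 at hb
  have hab : a ≫ b = 𝟙 H' := by
    obtain ⟨u, -, hu⟩ := hZ' H' Z'
    refine (hu _ ?_).trans (hu _ ?_).symm
    · change HilbD.pull (i ≫ g) (a ≫ b) Z'.1 = Z'.1
      rw [pull_comp, hb, ha]
    · change HilbD.pull (i ≫ g) (𝟙 H') Z'.1 = Z'.1
      rw [pull_id]
  have hba : b ≫ a = 𝟙 H₀ := by
    obtain ⟨u, -, hu⟩ := huniv H₀ Z₀
    refine (hu _ ?_).trans (hu _ ?_).symm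
    · change HilbD.pull (i ≫ g) (b ≫ a) Z₀.1 = Z₀.1
      rw [pull_comp, ha, hb]
    · change HilbD.pull (i ≫ g) (𝟙 H₀) Z₀.1 = Z₀.1
      rw [pull_id]
  haveI : IsIso a := ⟨b, hab, hba⟩
  have hma : m = a ≫ m₀ := by
    obtain ⟨u, -, hu⟩ := hZ H' ⟨HilbD.push i g H' Z'.1, push_mem i g d H' Z'⟩
    refine (hu _ hm).trans (hu _ ?_).symm
    change HilbD.pull g (a ≫ m₀) Z.1 = HilbD.push i g H' Z'.1
    rw [hcl, ha]
  haveI : IsIso a.left := (Over.forget S).map_isIso a
  rw [hma, Over.comp_left]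
  change IsClosedImmersion (a.left ≫ J.subschemeι)
  infer_instance

end Groth.Agent.Helper8.HilbInc2
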