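import Mathlib
import Groth.Prelude.Def_KZero

namespace Groth.Agent.Helper8.HilbK0


/-- eventually a numerical polynomial with coefficients in an abelian group -/
def EvPoly {G : Type*} [AddCommGroup G] (g : ℕ → G) : Prop :=
  ∃ (ρ : ℕ) (a : ℕ → G) (N : ℕ), (∀ i, ρ ≤ i → a i = 0) ∧
    ∀ n, N ≤ n → g n = ∑ i ∈ Finset.range ρ, ((n.choose i : ℕ) : ℤ) • a i

variable {G : Type*} [AddCommGroup G]

lemma EvPoly.of_eventually_zero {g : ℕ → G} (N : ℕ) (h : ∀ n, N ≤ n → g n = 0) : EvPoly g :=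
  ⟨0, fun _ => 0, N, fun _ _ => rfl, fun n hn => by simp [h n hn]⟩

lemma sum_range_extend (a : ℕ → G) (ρ ρ' : ℕ) (hρ : ρ ≤ ρ') (ha : ∀ i, ρ ≤ i → a i = 0) (n : ℕ) :
    ∑ i ∈ Finset.range ρ', ((n.choose i : ℕ) : ℤ) • a i =
      ∑ i ∈ Finset.range ρ, ((n.choose i : ℕ) : ℤ) • a i := by
  symm
  apply Finset.sum_subset (Finset.range_mono hρ)
  intro i _ hi
  rw [Finset.mem_range, not_lt] at hi
  rw [ha i hi, smul_zero]

lemma EvPoly.add {g h : ℕ → G} (hg : EvPoly g) (hh : EvPoly h) : EvPoly (fun n => g n + h n) := by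
  obtain ⟨ρ₁, a₁, N₁, ha₁, h₁⟩ := hg
  obtain ⟨ρ₂, a₂, N₂, ha₂, h₂⟩ := hh
  refine ⟨max ρ₁ ρ₂, fun i => a₁ i + a₂ i, max N₁ N₂, fun i hi => ?_, fun n hn => ?_⟩
  · show a₁ i + a₂ i = 0
    rw [ha₁ i (le_trans (le_max_left _ _) hi), ha₂ i (le_trans (le_max_right _ _) hi), add_zero]
  · simp only [smul_add, Finset.sum_add_distrib]
    rw [sum_range_extend a₁ ρ₁ _ (le_max_left _ _) ha₁, sum_range_extend a₂ ρ₂ _ (le_max_right _ _) ha₂,
      h₁ n (le_trans (le_max_left _ _) hn), h₂ n (le_trans (le_max_right _ _) hn)]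

lemma EvPoly.neg {g : ℕ → G} (hg : EvPoly g) : EvPoly (fun n => - g n) := by
  obtain ⟨ρ₁, a₁, N₁, ha₁, h₁⟩ := hg
  refine ⟨ρ₁, fun i => - a₁ i, N₁, fun i hi => by show - a₁ i = 0; rw [ha₁ i hi, neg_zero], fun n hn => ?_⟩
  simp only [smul_neg, Finset.sum_neg_distrib]
  rw [h₁ n hn]

lemma EvPoly.sub {g h : ℕ → G} (hg : EvPoly g) (hh : EvPoly h) : EvPoly (fun n => g n - h n) := by
  simpa [sub_eq_add_neg] using hg.add hh.neg

lemma EvPoly.of_diff {g d : ℕ → G} (N : ℕ) (h : ∀ n, N ≤ n → g (n + 1) - g n = d n)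
    (hd : EvPoly d) : EvPoly g := by
  obtain ⟨ρ, b, N', hb, hd⟩ := hd
  obtain ⟨N₀, hN₀⟩ : ∃ N₀, N₀ = max N N' := ⟨_, rfl⟩
  obtain ⟨a₀, ha₀⟩ : ∃ a₀ : G, a₀ = g N₀ - ∑ i ∈ Finset.range ρ, ((N₀.choose (i + 1) : ℕ) : ℤ) • b i :=
    ⟨_, rfl⟩
  let a : ℕ → G := fun i => match i with
    | 0 => a₀
    | (i + 1) => b i
  have key : ∀ n, N₀ ≤ n → g n = a₀ + ∑ i ∈ Finset.range ρ, ((n.choose (i + 1) : ℕ) : ℤ) • b i := by
    intro n hn
    induction n, hn using Nat.le_induction with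
    | base => rw [ha₀]; abel
    | succ n hn ih =>
      have h1 := h n (le_trans (by rw [hN₀]; exact le_max_left _ _) hn)
      have h2 := hd n (le_trans (by rw [hN₀]; exact le_max_right _ _) hn)
      have h3 : g (n + 1) = g n + d n := by rw [← h1]; abel
      rw [h3, ih, h2, add_assoc, ← Finset.sum_add_distrib]
      congr 1
      apply Finset.sum_congr rfl
      intro i _
      rw [Nat.choose_succ_succ n i]
      push_cast
      rw [add_smul]
      abel
  refine ⟨ρ + 1, a, N₀, ?_, ?_⟩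
  · intro i hi
    match i, hi with
    | (i + 1), hi => exact hb i (by omega)
  · intro n hn
    rw [key n hn, Finset.sum_range_succ']
    simp only [a, Nat.choose_zero_right, Nat.cast_one, one_smul]
    abel


lemma EvPoly.congr {g h : ℕ → G} (hgh : ∀ n, h n = g n) (hg : EvPoly g) : EvPoly h := by
  have : h = g := funext hgh
  rw [this]; exact hg

open CategoryTheory

universe u


variable {A : Type u} [CommRing A]

/-- class of a module in `K'₀(A)` -/
noncomputable abbrev cls (A : Type u) [CommRing A] (X : ModuleCat.{u} A) :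
    KZero.K0sub (fun X : ModuleCat.{u} A => Module.Finite A X) :=
  KZero.clSub (fun X : ModuleCat.{u} A => Module.Finite A X) X

lemma cls_add {N₁ N₂ N₃ : Type u} [AddCommGroup N₁] [AddCommGroup N₂] [AddCommGroup N₃]
    [Module A N₁] [Module A N₂] [Module A N₃] [Module.Finite A N₁] [Module.Finite A N₂]
    [Module.Finite A N₃] (f : N₁ →ₗ[A] N₂) (g : N₂ →ₗ[A] N₃) (hf : Function.Injective f)
    (hg : Function.Surjective g) (hfg : LinearMap.range f = LinearMap.ker g) :
    cls A (ModuleCat.of A N₂) = cls A (ModuleCat.of A N₁) + cls A (ModuleCat.of A N₃) := by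
  have hzero : ModuleCat.ofHom f ≫ ModuleCat.ofHom g = 0 := by
    ext x
    have : f x ∈ LinearMap.ker g := by rw [← hfg]; exact ⟨x, rfl⟩
    simpa using this
  let S : ShortComplex (ModuleCat.{u} A) := ShortComplex.mk (ModuleCat.ofHom f) (ModuleCat.ofHom g) hzero
  have hS : S.ShortExact := by
    have hex : S.Exact := by
      rw [ShortComplex.moduleCat_exact_iff]
      intro x hx
      have : x ∈ LinearMap.range f := by rw [hfg]; exact hx
      exact this
    have : Mono S.f := (ModuleCat.mono_iff_injective _).2 hf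
    have : Epi S.g := (ModuleCat.epi_iff_surjective _).2 hg
    exact { exact := hex }
  have h1 : Module.Finite A (ModuleCat.of A N₁) := ‹Module.Finite A N₁›
  have h2 : Module.Finite A (ModuleCat.of A N₂) := ‹Module.Finite A N₂›
  have h3 : Module.Finite A (ModuleCat.of A N₃) := ‹Module.Finite A N₃›
  have hmem : FreeAbelianGroup.of (⟨ModuleCat.of A N₂, h2⟩ : Subtype (fun X : ModuleCat.{u} A => Module.Finite A X))
      - FreeAbelianGroup.of ⟨ModuleCat.of A N₁, h1⟩ - FreeAbelianGroup.of ⟨ModuleCat.of A N₃, h3⟩ ∈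
      KZero.relSub (fun X : ModuleCat.{u} A => Module.Finite A X) :=
    AddSubgroup.subset_closure ⟨S, h1, h2, h3, hS, rfl⟩
  have h0 := (QuotientAddGroup.eq_zero_iff _).2 hmem
  simp only [cls, KZero.clSub]
  rw [dif_pos h1, dif_pos h2, dif_pos h3]
  rw [QuotientAddGroup.mk_sub, QuotientAddGroup.mk_sub, sub_sub, sub_eq_zero] at h0
  exact h0


lemma cls_of_subsingleton (N : Type u) [AddCommGroup N] [Module A N] [Subsingleton N] :
    cls A (ModuleCat.of A N) = 0 := by
  have h := cls_add (A := A) (N₁ := N) (N₂ := N) (N₃ := N) (LinearMap.id) (0 : N →ₗ[A] N)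
    (fun _ _ h => h) (fun y => ⟨y, Subsingleton.elim _ _⟩)
    (by
      ext x
      simp [Subsingleton.elim x 0])
  have : cls A (ModuleCat.of A N) + 0 = cls A (ModuleCat.of A N) + cls A (ModuleCat.of A N) := by
    rw [add_zero]; exact h
  exact (add_left_cancel this).symm

lemma cls_congr {N N' : Type u} [AddCommGroup N] [AddCommGroup N'] [Module A N] [Module A N']
    [Module.Finite A N] (e : N ≃ₗ[A] N') :
    cls A (ModuleCat.of A N) = cls A (ModuleCat.of A N') := by
  have : Module.Finite A N' := Module.Finite.equiv e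
  have h := cls_add (A := A) (N₁ := PUnit.{u+1}) (N₂ := N) (N₃ := N') (0 : PUnit.{u+1} →ₗ[A] N)
    e.toLinearMap (fun _ _ _ => Subsingleton.elim _ _) e.surjective
    (by
      rw [LinearMap.range_zero]
      exact (LinearMap.ker_eq_bot.2 e.injective).symm)
  rw [h, cls_of_subsingleton, zero_add]

/-- class of a submodule -/
noncomputable abbrev phi {M : Type u} [AddCommGroup M] [Module A M] (W : Submodule A M) :=
  cls A (ModuleCat.of A ↥W)

lemma phi_rel {M : Type u} [AddCommGroup M] [Module A M] (W T : Submodule A M) (g : M →ₗ[A] M)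
    (hW : W.FG) (hW' : (W ⊓ T.comap g).FG) (hT : T.FG) (hTW : (T ⊔ W.map g).FG) :
    phi W - phi (W ⊓ T.comap g) = phi (T ⊔ W.map g) - phi T := by
  have i1 : Module.Finite A ↥W := Module.Finite.iff_fg.2 hW
  have i2 : Module.Finite A ↥(W ⊓ T.comap g) := Module.Finite.iff_fg.2 hW'
  have i3 : Module.Finite A ↥T := Module.Finite.iff_fg.2 hT
  have i4 : Module.Finite A ↥(T ⊔ W.map g) := Module.Finite.iff_fg.2 hTW
  let T' : Submodule A ↥(T ⊔ W.map g) := Submodule.comap (T ⊔ W.map g).subtype T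
  -- first sequence
  have s1 := cls_add (A := A) (Submodule.inclusion (le_sup_left : T ≤ T ⊔ W.map g)) T'.mkQ
    (Submodule.inclusion_injective _) (Submodule.mkQ_surjective _)
    (by rw [Submodule.ker_mkQ, Submodule.range_inclusion])
  -- second sequence
  let γ : ↥W →ₗ[A] ↥(T ⊔ W.map g) :=
    (g.domRestrict W).codRestrict (T ⊔ W.map g)
      (fun w => Submodule.mem_sup_right (Submodule.mem_map_of_mem w.2))
  have s2 := cls_add (A := A) (Submodule.inclusion (inf_le_left : W ⊓ T.comap g ≤ W))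
    (T'.mkQ ∘ₗ γ) (Submodule.inclusion_injective _)
    (by
      intro q
      obtain ⟨⟨y, hy⟩, rfl⟩ := Submodule.mkQ_surjective T' q
      obtain ⟨t, ht, z, hz, rfl⟩ := Submodule.mem_sup.1 hy
      obtain ⟨w, hw, rfl⟩ := Submodule.mem_map.1 hz
      refine ⟨⟨w, hw⟩, ?_⟩
      rw [LinearMap.comp_apply, Submodule.mkQ_apply, Submodule.mkQ_apply, Submodule.Quotient.eq]
      show ((γ ⟨w, hw⟩ - ⟨t + g w, hy⟩ : ↥(T ⊔ W.map g)) : M) ∈ T
      simp only [γ, Submodule.coe_sub, LinearMap.codRestrict_apply, LinearMap.domRestrict_apply]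
      have : g w - (t + g w) = -t := by abel
      rw [this]
      exact T.neg_mem ht)
    (by
      ext ⟨w, hw⟩
      rw [Submodule.range_inclusion, LinearMap.mem_ker, LinearMap.comp_apply, Submodule.mkQ_apply,
        Submodule.Quotient.mk_eq_zero]
      simp only [Submodule.mem_comap, Submodule.subtype_apply, Submodule.mem_inf, T', γ,
        LinearMap.codRestrict_apply, LinearMap.domRestrict_apply]
      tauto)
  simp only [phi]
  rw [s1, s2]
  abel



section Graded

variable {A S : Type u} [CommRing A] [CommRing S] [Algebra A S]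
  (𝒜 : ℕ → Submodule A S) [GradedAlgebra 𝒜]
  {M : Type u} [AddCommGroup M] [Module A M] [Module S M] [IsScalarTower A S M]
  (ℳ : ℕ → Submodule A M) [DirectSum.Decomposition ℳ] [SetLike.GradedSMul 𝒜 ℳ]

/-- projection to the degree `n` component, as an `A`-linear endomorphism -/
noncomputable def prj (n : ℕ) : M →ₗ[A] M :=
  (ℳ n).subtype ∘ₗ (DirectSum.component A ℕ (fun i => ℳ i) n) ∘ₗ
    (DirectSum.decomposeLinearEquiv ℳ).toLinearMap

lemma prj_apply (n : ℕ) (m : M) : prj ℳ n m = ((DirectSum.decompose ℳ m) n : M) := rfl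

lemma prj_mem (n : ℕ) (m : M) : prj ℳ n m ∈ ℳ n := by
  rw [prj_apply]; exact Subtype.property _

lemma prj_of_mem {n : ℕ} {m : M} (h : m ∈ ℳ n) : prj ℳ n m = m := by
  rw [prj_apply]; exact DirectSum.decompose_of_mem_same ℳ h

lemma prj_of_mem_ne {n k : ℕ} {m : M} (h : m ∈ ℳ k) (hne : k ≠ n) : prj ℳ n m = 0 := by
  rw [prj_apply]; exact DirectSum.decompose_of_mem_ne ℳ h hne

open Classical in
lemma sum_prj (m : M) : ∑ i ∈ (DirectSum.decompose ℳ m).support, prj ℳ i m = m :=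
  DirectSum.sum_support_decompose ℳ m

open Classical in
lemma prj_eq_zero_of_notMem_support {m : M} {i : ℕ} (h : i ∉ (DirectSum.decompose ℳ m).support) :
    prj ℳ i m = 0 := by
  rw [DFinsupp.notMem_support_iff] at h
  rw [prj_apply, h]; rfl

include 𝒜 in
lemma prj_smul_hom {k : ℕ} {s : S} (hs : s ∈ 𝒜 k) (n : ℕ) (m : M) :
    prj ℳ n (s • m) = if k ≤ n then s • prj ℳ (n - k) m else 0 := by
  classical
  have hterm : ∀ i, prj ℳ n (s • prj ℳ i m) = if k + i = n then s • prj ℳ i m else 0 := by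
    intro i
    have hmem : s • prj ℳ i m ∈ ℳ (k + i) := SetLike.GradedSMul.smul_mem hs (prj_mem ℳ i m)
    split_ifs with h
    · rw [← h]; exact prj_of_mem ℳ hmem
    · exact prj_of_mem_ne ℳ hmem h
  have h1 : prj ℳ n (s • m) = ∑ i ∈ (DirectSum.decompose ℳ m).support, prj ℳ n (s • prj ℳ i m) := by
    conv_lhs => rw [← sum_prj ℳ m]
    rw [Finset.smul_sum, map_sum]
  rw [h1]
  simp only [hterm]
  split_ifs with hk
  · by_cases hns : n - k ∈ (DirectSum.decompose ℳ m).support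
    · rw [Finset.sum_eq_single_of_mem (n - k) hns]
      · rw [if_pos (by omega)]
      · intro i _ hi; rw [if_neg (by omega)]
    · rw [prj_eq_zero_of_notMem_support ℳ hns, smul_zero]
      apply Finset.sum_eq_zero
      intro i hi
      rw [if_neg]
      intro h
      apply hns
      have : n - k = i := by omega
      rw [this]; exact hi
  · apply Finset.sum_eq_zero; intro i _; rw [if_neg (by omega)]

lemma prj_smul_right {d : ℕ} {m' : M} (hm : m' ∈ ℳ d) (n : ℕ) (s : S) :
    prj ℳ n (s • m') = if d ≤ n then (GradedRing.proj 𝒜 (n - d) s) • m' else 0 := by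
  classical
  have hterm : ∀ i, prj ℳ n ((GradedRing.proj 𝒜 i s) • m') =
      if i + d = n then (GradedRing.proj 𝒜 i s) • m' else 0 := by
    intro i
    have hpm : GradedRing.proj 𝒜 i s ∈ 𝒜 i := by
      rw [GradedRing.proj_apply]; exact Subtype.property _
    have hmem : (GradedRing.proj 𝒜 i s) • m' ∈ ℳ (i + d) :=
      SetLike.GradedSMul.smul_mem hpm hm
    split_ifs with h
    · rw [← h]; exact prj_of_mem ℳ hmem
    · exact prj_of_mem_ne ℳ hmem h
  have hs : ∑ i ∈ (DirectSum.decompose 𝒜 s).support, GradedRing.proj 𝒜 i s = s := by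
    simp only [GradedRing.proj_apply]
    exact DirectSum.sum_support_decompose 𝒜 s
  have h1 : prj ℳ n (s • m') =
      ∑ i ∈ (DirectSum.decompose 𝒜 s).support, prj ℳ n ((GradedRing.proj 𝒜 i s) • m') := by
    conv_lhs => rw [← hs]
    rw [Finset.sum_smul, map_sum]
  rw [h1]
  simp only [hterm]
  split_ifs with hk
  · by_cases hns : n - d ∈ (DirectSum.decompose 𝒜 s).support
    · rw [Finset.sum_eq_single_of_mem (n - d) hns]
      · rw [if_pos (by omega)]
      · intro i _ hi; rw [if_neg (by omega)]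
    · have h0 : GradedRing.proj 𝒜 (n - d) s = 0 := by
        rw [DFinsupp.notMem_support_iff] at hns
        rw [GradedRing.proj_apply, hns]; rfl
      rw [h0, zero_smul]
      apply Finset.sum_eq_zero
      intro i hi
      rw [if_neg]
      intro h
      apply hns
      have : n - d = i := by omega
      rw [this]; exact hi
  · apply Finset.sum_eq_zero; intro i _; rw [if_neg (by omega)]


/-- homogeneous `S`-submodules -/
def IsHom (U : Submodule S M) : Prop := ∀ m ∈ U, ∀ i, prj ℳ i m ∈ U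

/-- the degree `n` piece of an `S`-submodule, as an `A`-submodule -/
def piece (U : Submodule S M) (n : ℕ) : Submodule A M := U.restrictScalars A ⊓ ℳ n

lemma mem_piece {U : Submodule S M} {n : ℕ} {m : M} : m ∈ piece ℳ U n ↔ m ∈ U ∧ m ∈ ℳ n := by
  simp [piece]

open Classical in
/-- expansion of a projection of a multiple of an arbitrary element -/
lemma prj_smul_gen (n : ℕ) (t : S) (g : M) :
    prj ℳ n (t • g) = ∑ d ∈ (DirectSum.decompose ℳ g).support,
      if d ≤ n then (GradedRing.proj 𝒜 (n - d) t) • prj ℳ d g else 0 := by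
  conv_lhs => rw [← sum_prj ℳ g]
  rw [Finset.smul_sum, map_sum]
  apply Finset.sum_congr rfl
  intro d _
  exact prj_smul_right 𝒜 ℳ (prj_mem ℳ d g) n t

lemma proj_mem (i : ℕ) (s : S) : GradedRing.proj 𝒜 i s ∈ 𝒜 i := by
  rw [GradedRing.proj_apply]; exact Subtype.property _

include 𝒜 in
lemma fg_piece (hfg : ∀ k, (𝒜 k).FG) (U : Submodule S M) (hU : IsHom ℳ U) (hUfg : U.FG) (n : ℕ) :
    (piece ℳ U n).FG := by
  classical
  obtain ⟨G, hG⟩ := hUfg
  let ψ : M → (S →ₗ[A] M) := fun h => (LinearMap.toSpanSingleton S M h).restrictScalars A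
  let C : Submodule A M := ⨆ g ∈ G, ⨆ d ∈ Finset.range (n + 1), (𝒜 (n - d)).map (ψ (prj ℳ d g))
  have hC : C.FG := Submodule.fg_biSup _ _ (fun g _ => Submodule.fg_biSup _ _
    (fun d _ => (hfg _).map _))
  have hmemC : ∀ g ∈ G, ∀ d, d ≤ n → ∀ t ∈ 𝒜 (n - d), t • prj ℳ d g ∈ C := by
    intro g hg d hd t ht
    refine Submodule.mem_iSup_of_mem g (Submodule.mem_iSup_of_mem hg
      (Submodule.mem_iSup_of_mem d (Submodule.mem_iSup_of_mem (Finset.mem_range.2 (by omega)) ?_)))
    exact ⟨t, ht, rfl⟩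
  have heq : piece ℳ U n = C := by
    apply le_antisymm
    · intro m hm
      obtain ⟨hmU, hmn⟩ := (mem_piece ℳ).1 hm
      rw [← hG] at hmU
      obtain ⟨f, -, hf⟩ := Submodule.mem_span_finset.1 hmU
      rw [← prj_of_mem ℳ hmn, ← hf, map_sum]
      apply Submodule.sum_mem
      intro g hg
      rw [prj_smul_gen 𝒜 ℳ]
      apply Submodule.sum_mem
      intro d _
      split_ifs with hd
      · exact hmemC g hg d hd _ (proj_mem 𝒜 _ _)
      · exact Submodule.zero_mem _
    · refine iSup_le fun g => iSup_le fun hg => iSup_le fun d => iSup_le fun hd => ?_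
      rintro _ ⟨t, ht, rfl⟩
      have hd' : d ≤ n := by have := Finset.mem_range.1 hd; omega
      rw [mem_piece]
      have hgU : g ∈ U := by rw [← hG]; exact Submodule.subset_span hg
      refine ⟨U.smul_mem t (hU g hgU d), ?_⟩
      have := SetLike.GradedSMul.smul_mem (A := 𝒜) (B := ℳ) ht (prj_mem ℳ d g)
      have he : (n - d) +ᵥ d = n := by rw [vadd_eq_add]; omega
      rw [he] at this
      exact this
  rw [heq]; exact hC


include 𝒜 in
lemma piece_le_of_kill (s' : Finset S)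
    (hs' : Ideal.span (s' : Set S) = (HomogeneousIdeal.irrelevant 𝒜).toIdeal)
    (U V : Submodule S M) (hU : IsHom ℳ U) (hUfg : U.FG)
    (hkill : ∀ y ∈ s', ∀ u ∈ U, y • u ∈ V) :
    ∃ N, ∀ n, N ≤ n → ∀ m ∈ piece ℳ U n, m ∈ V := by
  classical
  obtain ⟨G, hG⟩ := hUfg
  have hirr : ∀ t ∈ (HomogeneousIdeal.irrelevant 𝒜).toIdeal, ∀ u ∈ U, t • u ∈ V := by
    intro t ht u hu
    rw [← hs'] at ht
    induction ht using Submodule.span_induction with
    | mem y hy => exact hkill y hy u hu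
    | zero => rw [zero_smul]; exact V.zero_mem
    | add a b _ _ ha hb => rw [add_smul]; exact V.add_mem ha hb
    | smul c a _ ha => rw [smul_eq_mul, mul_smul]; exact V.smul_mem c ha
  have hpos : ∀ j, 0 < j → ∀ t ∈ 𝒜 j, t ∈ (HomogeneousIdeal.irrelevant 𝒜).toIdeal := by
    intro j hj t ht
    rw [HomogeneousIdeal.mem_iff]
    exact HomogeneousIdeal.mem_irrelevant_of_mem 𝒜 hj ht
  refine ⟨1 + G.sup (fun g => (DirectSum.decompose ℳ g).support.sup id), fun n hn m hm => ?_⟩
  obtain ⟨hmU, hmn⟩ := (mem_piece ℳ).1 hm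
  rw [← hG] at hmU
  obtain ⟨f, -, hf⟩ := Submodule.mem_span_finset.1 hmU
  rw [← prj_of_mem ℳ hmn, ← hf, map_sum]
  apply Submodule.sum_mem
  intro g hg
  rw [prj_smul_gen 𝒜 ℳ]
  apply Submodule.sum_mem
  intro d hd
  have hgU : g ∈ U := by rw [← hG]; exact Submodule.subset_span hg
  have hd1 : d ≤ (DirectSum.decompose ℳ g).support.sup id := Finset.le_sup (f := id) hd
  have hd2 : (DirectSum.decompose ℳ g).support.sup id ≤
      G.sup (fun g => (DirectSum.decompose ℳ g).support.sup id) :=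
    Finset.le_sup (f := fun g => (DirectSum.decompose ℳ g).support.sup id) hg
  have hdn : d < n := by
    have : d ≤ G.sup (fun g => (DirectSum.decompose ℳ g).support.sup id) := le_trans hd1 hd2
    omega
  rw [if_pos hdn.le]
  exact hirr _ (hpos (n - d) (by omega) _ (proj_mem 𝒜 _ _)) _ (hU g hgU d)

end Graded

section GradeFG

variable {A S : Type u} [CommRing A] [CommRing S] [Algebra A S]
  (𝒜 : ℕ → Submodule A S) [GradedAlgebra 𝒜]

lemma fg_grade (h0 : ∀ s ∈ 𝒜 0, s ∈ Set.range (algebraMap A S)) (s' : Finset S)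
    (hs'1 : ∀ y ∈ s', y ∈ 𝒜 1)
    (hs' : Ideal.span (s' : Set S) = (HomogeneousIdeal.irrelevant 𝒜).toIdeal) :
    ∀ k, (𝒜 k).FG := by
  classical
  intro k
  induction k with
  | zero =>
    have : 𝒜 0 = Submodule.span A {(1 : S)} := by
      apply le_antisymm
      · intro s hs
        obtain ⟨a, rfl⟩ := h0 s hs
        rw [Algebra.algebraMap_eq_smul_one]
        exact Submodule.smul_mem _ a (Submodule.subset_span rfl)
      · rw [Submodule.span_le]
        rintro _ rfl
        exact SetLike.GradedOne.one_mem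
    rw [this]
    exact Submodule.fg_span_singleton _
  | succ k ih =>
    have : 𝒜 (k + 1) = ⨆ y ∈ s', (𝒜 k).map (LinearMap.mulLeft A y) := by
      apply le_antisymm
      · intro s hs
        have hirr : s ∈ (HomogeneousIdeal.irrelevant 𝒜).toIdeal := by
          rw [HomogeneousIdeal.mem_iff]
          exact HomogeneousIdeal.mem_irrelevant_of_mem 𝒜 (Nat.succ_pos k) hs
        rw [← hs'] at hirr
        obtain ⟨f, -, hf⟩ := Submodule.mem_span_finset.1 hirr
        rw [← prj_of_mem 𝒜 hs, ← hf, map_sum]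
        apply Submodule.sum_mem
        intro y hy
        have h1 : f y • y = y • f y := by rw [smul_eq_mul, smul_eq_mul, mul_comm]
        rw [h1, prj_smul_hom 𝒜 𝒜 (hs'1 y hy), if_pos (by omega)]
        refine Submodule.mem_iSup_of_mem y (Submodule.mem_iSup_of_mem hy ?_)
        refine ⟨prj 𝒜 (k + 1 - 1) (f y), ?_, rfl⟩
        have := prj_mem 𝒜 (k + 1 - 1) (f y)
        simpa using this
      · refine iSup_le fun y => iSup_le fun hy => ?_
        rintro _ ⟨t, ht, rfl⟩
        have := SetLike.mul_mem_graded (hs'1 y hy) ht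
        rw [add_comm] at this
        exact this
    rw [this]
    exact Submodule.fg_biSup _ _ (fun y _ => ih.map _)

end GradeFG

section Ops

variable {A S : Type u} [CommRing A] [CommRing S] [Algebra A S]
  (𝒜 : ℕ → Submodule A S) [GradedAlgebra 𝒜]
  {M : Type u} [AddCommGroup M] [Module A M] [Module S M] [IsScalarTower A S M]
  (ℳ : ℕ → Submodule A M) [DirectSum.Decomposition ℳ] [SetLike.GradedSMul 𝒜 ℳ]

/-- multiplication by `x` as an `A`-linear map -/
noncomputable def muA (x : S) : M →ₗ[A] M := (LinearMap.lsmul S M x).restrictScalars A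

omit [IsScalarTower A S M] in
lemma muA_apply [IsScalarTower A S M] (x : S) (m : M) : muA (A := A) x m = x • m := rfl

/-- `{u ∈ U | x u ∈ V}` -/
def colon (U V : Submodule S M) (x : S) : Submodule S M := U ⊓ V.comap (LinearMap.lsmul S M x)

/-- `V + x U` -/
def plus (U V : Submodule S M) (x : S) : Submodule S M := V ⊔ U.map (LinearMap.lsmul S M x)

lemma mem_colon {U V : Submodule S M} {x : S} {m : M} : m ∈ colon U V x ↔ m ∈ U ∧ x • m ∈ V := by
  simp [colon]

include 𝒜 in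
lemma prj_succ_smul {x : S} (hx : x ∈ 𝒜 1) (n : ℕ) (m : M) :
    prj ℳ (n + 1) (x • m) = x • prj ℳ n m := by
  rw [prj_smul_hom 𝒜 ℳ hx, if_pos (by omega)]
  simp

include 𝒜 in
lemma prj_zero_smul {x : S} (hx : x ∈ 𝒜 1) (m : M) : prj ℳ 0 (x • m) = 0 := by
  rw [prj_smul_hom 𝒜 ℳ hx, if_neg (by omega)]

include 𝒜 in
lemma prj_smul_cases {x : S} (hx : x ∈ 𝒜 1) (i : ℕ) (m : M) :
    ∃ m', prj ℳ i (x • m) = x • m' ∧ (m' = 0 ∨ ∃ j, m' = prj ℳ j m) := by
  cases i with
  | zero => exact ⟨0, by rw [prj_zero_smul 𝒜 ℳ hx, smul_zero], Or.inl rfl⟩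
  | succ j => exact ⟨prj ℳ j m, prj_succ_smul 𝒜 ℳ hx j m, Or.inr ⟨j, rfl⟩⟩

include 𝒜 in
lemma isHom_colon {U V : Submodule S M} (hU : IsHom ℳ U) (hV : IsHom ℳ V) {x : S} (hx : x ∈ 𝒜 1) :
    IsHom ℳ (colon U V x) := by
  intro m hm i
  obtain ⟨hmU, hmV⟩ := mem_colon.1 hm
  refine mem_colon.2 ⟨hU m hmU i, ?_⟩
  rw [← prj_succ_smul 𝒜 ℳ hx]
  exact hV _ hmV _

include 𝒜 in
lemma isHom_plus {U V : Submodule S M} (hU : IsHom ℳ U) (hV : IsHom ℳ V) {x : S} (hx : x ∈ 𝒜 1) :
    IsHom ℳ (plus U V x) := by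
  intro m hm i
  obtain ⟨v, hv, z, hz, rfl⟩ := Submodule.mem_sup.1 hm
  obtain ⟨u, hu, rfl⟩ := Submodule.mem_map.1 hz
  rw [map_add]
  refine Submodule.add_mem _ (Submodule.mem_sup_left (hV v hv i)) (Submodule.mem_sup_right ?_)
  rw [LinearMap.lsmul_apply]
  obtain ⟨m', hm', h⟩ := prj_smul_cases 𝒜 ℳ hx i u
  rw [hm']
  refine Submodule.mem_map.2 ⟨m', ?_, rfl⟩
  rcases h with rfl | ⟨j, rfl⟩
  · exact U.zero_mem
  · exact hU u hu j

include 𝒜 in
lemma smul_mem_succ {x : S} (hx : x ∈ 𝒜 1) {n : ℕ} {m : M} (hm : m ∈ ℳ n) : x • m ∈ ℳ (n + 1) := by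
  have := SetLike.GradedSMul.smul_mem (A := 𝒜) (B := ℳ) hx hm
  have he : 1 +ᵥ n = n + 1 := by rw [vadd_eq_add]; omega
  rw [he] at this
  exact this

include 𝒜 in
lemma piece_colon (U V : Submodule S M) {x : S} (hx : x ∈ 𝒜 1) (n : ℕ) :
    piece ℳ (colon U V x) n = piece ℳ U n ⊓ (piece ℳ V (n + 1)).comap (muA (A := A) x) := by
  ext m
  simp only [mem_piece, mem_colon, Submodule.mem_inf, Submodule.mem_comap, muA_apply]
  constructor
  · rintro ⟨⟨h1, h2⟩, h3⟩
    exact ⟨⟨h1, h3⟩, h2, smul_mem_succ 𝒜 ℳ hx h3⟩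
  · rintro ⟨⟨h1, h3⟩, h2, -⟩
    exact ⟨⟨h1, h2⟩, h3⟩

include 𝒜 in
lemma piece_plus {U V : Submodule S M} (hU : IsHom ℳ U) (hV : IsHom ℳ V) {x : S} (hx : x ∈ 𝒜 1)
    (n : ℕ) :
    piece ℳ (plus U V x) (n + 1) = piece ℳ V (n + 1) ⊔ (piece ℳ U n).map (muA (A := A) x) := by
  apply le_antisymm
  · intro m hm
    obtain ⟨hmP, hmn⟩ := (mem_piece ℳ).1 hm
    obtain ⟨v, hv, z, hz, rfl⟩ := Submodule.mem_sup.1 hmP
    obtain ⟨u, hu, rfl⟩ := Submodule.mem_map.1 hz
    rw [← prj_of_mem ℳ hmn, map_add, LinearMap.lsmul_apply, prj_succ_smul 𝒜 ℳ hx]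
    refine Submodule.add_mem_sup ((mem_piece ℳ).2 ⟨hV v hv _, prj_mem ℳ _ _⟩) ?_
    exact Submodule.mem_map.2 ⟨prj ℳ n u, (mem_piece ℳ).2 ⟨hU u hu _, prj_mem ℳ _ _⟩, rfl⟩
  · apply sup_le
    · intro m hm
      obtain ⟨h1, h2⟩ := (mem_piece ℳ).1 hm
      exact (mem_piece ℳ).2 ⟨Submodule.mem_sup_left h1, h2⟩
    · rintro _ ⟨u, hu, rfl⟩
      obtain ⟨h1, h2⟩ := (mem_piece ℳ).1 hu
      refine (mem_piece ℳ).2 ⟨Submodule.mem_sup_right (Submodule.mem_map.2 ⟨u, h1, rfl⟩), ?_⟩
      rw [muA_apply]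
      exact smul_mem_succ 𝒜 ℳ hx h2

end Ops


section Main

variable {A S : Type u} [CommRing A] [CommRing S] [Algebra A S]
  (𝒜 : ℕ → Submodule A S) [GradedAlgebra 𝒜]
  {M : Type u} [AddCommGroup M] [Module A M] [Module S M] [IsScalarTower A S M]
  (ℳ : ℕ → Submodule A M) [DirectSum.Decomposition ℳ] [SetLike.GradedSMul 𝒜 ℳ]

include 𝒜 in
theorem key [IsNoetherian S M] (s' : Finset S) (hs'1 : ∀ y ∈ s', y ∈ 𝒜 1)
    (hs' : Ideal.span (s' : Set S) = (HomogeneousIdeal.irrelevant 𝒜).toIdeal)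
    (hfg : ∀ k, (𝒜 k).FG) :
    ∀ T : Finset S, T ⊆ s' → ∀ U V : Submodule S M, IsHom ℳ U → IsHom ℳ V → V ≤ U →
      (∀ y ∈ s', y ∉ T → ∀ u ∈ U, y • u ∈ V) →
      EvPoly (fun n => phi (piece ℳ U n) - phi (piece ℳ V n)) := by
  classical
  intro T
  induction T using Finset.induction_on with
  | empty =>
    intro _ U V hU hV hVU hkill
    obtain ⟨N, hN⟩ := piece_le_of_kill 𝒜 ℳ s' hs' U V hU (IsNoetherian.noetherian U)
      (fun y hy u hu => hkill y hy (Finset.notMem_empty y) u hu)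
    apply EvPoly.of_eventually_zero N
    intro n hn
    have : piece ℳ U n = piece ℳ V n := by
      apply le_antisymm
      · intro m hm
        exact (mem_piece ℳ).2 ⟨hN n hn m hm, ((mem_piece ℳ).1 hm).2⟩
      · intro m hm
        exact (mem_piece ℳ).2 ⟨hVU ((mem_piece ℳ).1 hm).1, ((mem_piece ℳ).1 hm).2⟩
    rw [this, sub_self]
  | insert x T hxT ih =>
    intro hsub U V hU hV hVU hkill
    have hxs : x ∈ s' := hsub (Finset.mem_insert_self x T)
    have hTs : T ⊆ s' := fun y hy => hsub (Finset.mem_insert_of_mem hy)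
    have hx : x ∈ 𝒜 1 := hs'1 x hxs
    -- the two auxiliary pairs
    have hU' : IsHom ℳ (colon U V x) := isHom_colon 𝒜 ℳ hU hV hx
    have hV'' : IsHom ℳ (plus U V x) := isHom_plus 𝒜 ℳ hU hV hx
    have hVU' : V ≤ colon U V x := fun v hv => mem_colon.2 ⟨hVU hv, V.smul_mem x hv⟩
    have hV''U : plus U V x ≤ U := by
      apply sup_le hVU
      rintro _ ⟨u, hu, rfl⟩
      exact U.smul_mem x hu
    have e1 := ih hTs (colon U V x) V hU' hV hVU' (by
      intro y hy hyT u hu
      by_cases hyx : y = x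
      · rw [hyx]; exact (mem_colon.1 hu).2
      · exact hkill y hy (by simp [hyx, hyT]) u (mem_colon.1 hu).1)
    have e2 := ih hTs U (plus U V x) hU hV'' hV''U (by
      intro y hy hyT u hu
      by_cases hyx : y = x
      · rw [hyx]; exact Submodule.mem_sup_right (Submodule.mem_map.2 ⟨u, hu, rfl⟩)
      · exact Submodule.mem_sup_left (hkill y hy (by simp [hyx, hyT]) u hu))
    -- the relation
    have hrel : ∀ n, phi (piece ℳ U n) - phi (piece ℳ (colon U V x) n) =
        phi (piece ℳ (plus U V x) (n + 1)) - phi (piece ℳ V (n + 1)) := by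
      intro n
      rw [piece_colon 𝒜 ℳ U V hx n, piece_plus 𝒜 ℳ hU hV hx n]
      apply phi_rel
      · exact fg_piece 𝒜 ℳ hfg U hU (IsNoetherian.noetherian U) n
      · rw [← piece_colon 𝒜 ℳ U V hx n]
        exact fg_piece 𝒜 ℳ hfg _ hU' (IsNoetherian.noetherian _) n
      · exact fg_piece 𝒜 ℳ hfg V hV (IsNoetherian.noetherian V) (n + 1)
      · rw [← piece_plus 𝒜 ℳ hU hV hx n]
        exact fg_piece 𝒜 ℳ hfg _ hV'' (IsNoetherian.noetherian _) (n + 1)
    -- g n := a(U,V,n) - a(U,V'',n) = phi(V''_n) - phi(V_n)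
    have e3 : EvPoly (fun n => phi (piece ℳ (plus U V x) n) - phi (piece ℳ V n)) := by
      apply EvPoly.of_diff 0 (d := fun n =>
        (phi (piece ℳ U n) - phi (piece ℳ (plus U V x) n)) -
          (phi (piece ℳ (colon U V x) n) - phi (piece ℳ V n)))
      · intro n _
        have := hrel n
        have h2 : phi (piece ℳ (plus U V x) (n + 1)) - phi (piece ℳ V (n + 1)) =
            phi (piece ℳ U n) - phi (piece ℳ (colon U V x) n) := this.symm
        rw [h2]
        abel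
      · exact e2.sub e1
    have := e3.add e2
    refine (EvPoly.congr ?_ this)
    intro n
    abel


theorem main {A S : Type u} [CommRing A] [CommRing S] [Algebra A S] [IsNoetherianRing S]
    (𝒜 : ℕ → Submodule A S) [GradedAlgebra 𝒜]
    (h0 : ∀ s ∈ 𝒜 0, s ∈ Set.range (algebraMap A S))
    (h1 : (HomogeneousIdeal.irrelevant 𝒜).toIdeal = Ideal.span (𝒜 1 : Set S))
    (M : Type u) [AddCommGroup M] [Module A M] [Module S M] [IsScalarTower A S M]
    [Module.Finite S M] (ℳ : ℕ → Submodule A M) [DirectSum.Decomposition ℳ]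
    [SetLike.GradedSMul 𝒜 ℳ] :
    ∃ (r : ℕ) (a : Fin r → KZero.K0sub (fun X : ModuleCat.{u} A => Module.Finite A X)) (N : ℕ),
      ∀ n : ℕ, N ≤ n →
        KZero.clSub (fun X : ModuleCat.{u} A => Module.Finite A X) (ModuleCat.of A ↥(ℳ n)) =
          ∑ i : Fin r, ((n.choose (i : ℕ) : ℕ) : ℤ) • a i := by
  classical
  have hN : IsNoetherian S M := isNoetherian_of_isNoetherianRing_of_finite S M
  have hfgI : ((HomogeneousIdeal.irrelevant 𝒜).toIdeal).FG :=
    IsNoetherian.noetherian _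
  rw [h1] at hfgI
  obtain ⟨s', hs'sub, hs'span⟩ := (Submodule.fg_span_iff_fg_span_finset_subset _).1 hfgI
  have hs'1 : ∀ y ∈ s', y ∈ 𝒜 1 := fun y hy => hs'sub hy
  have hs' : Ideal.span (s' : Set S) = (HomogeneousIdeal.irrelevant 𝒜).toIdeal := by
    rw [h1]; exact hs'span.symm
  have hfg := fg_grade 𝒜 h0 s' hs'1 hs'
  have hk := key 𝒜 ℳ s' hs'1 hs' hfg s' (le_refl _) ⊤ ⊥
    (fun m _ i => Submodule.mem_top) (fun m hm i => by
      rw [Submodule.mem_bot] at hm
      rw [hm, map_zero]; exact Submodule.zero_mem _) bot_le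
    (fun y hy hyn => absurd hy hyn)
  obtain ⟨ρ, a, N, -, h⟩ := hk
  refine ⟨ρ, fun i => a i, N, fun n hn => ?_⟩
  have h2 : phi (piece ℳ (⊤ : Submodule S M) n) - phi (piece ℳ (⊥ : Submodule S M) n) =
      ∑ i ∈ Finset.range ρ, ((n.choose i : ℕ) : ℤ) • a i := h n hn
  have hbot : piece ℳ (⊥ : Submodule S M) n = ⊥ := by
    ext m
    rw [mem_piece]
    simp only [Submodule.mem_bot]
    constructor
    · exact fun h => h.1
    · intro h; rw [h]; exact ⟨rfl, Submodule.zero_mem _⟩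
  have htop : piece ℳ (⊤ : Submodule S M) n = ℳ n := by
    ext m
    rw [mem_piece]
    simp
  rw [hbot, htop] at h2
  have h3 : phi (⊥ : Submodule A M) = 0 := cls_of_subsingleton _
  rw [h3, sub_zero] at h2
  rw [Fin.sum_univ_eq_sum_range (fun i => ((n.choose i : ℕ) : ℤ) • a i) ρ]
  exact h2

end Main

end Groth.Agent.Helper8.HilbK0
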