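import Mathlib

namespace Groth.Agent.Helper8.HilbLex

open Polynomial Finset

/-- the triangular transformation -/
def T (c : ℕ → ℚ) (g : ℕ → ℕ → ℚ) (V : ℕ → ℚ) (j : ℕ) : ℚ :=
  c j + ∑ i ∈ range (j + 1), g j i * V i

theorem T_lt (c : ℕ → ℚ) (g : ℕ → ℕ → ℚ) (hg : ∀ j, g j j = 1) (ℓ : ℕ) (V W : ℕ → ℚ)
    (h : toLex (fun j : Fin ℓ => V j) < toLex (fun j : Fin ℓ => W j)) :
    toLex (fun j : Fin ℓ => T c g V j) < toLex (fun j : Fin ℓ => T c g W j) := by
  obtain ⟨i, hi1, hi2⟩ := h
  refine ⟨i, ?_, ?_⟩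
  · intro j hj
    show T c g V j = T c g W j
    unfold T
    congr 1
    refine Finset.sum_congr rfl fun i' hi' => ?_
    rw [Finset.mem_range] at hi'
    have : i' < ℓ := by have := j.2; omega
    have h1 := hi1 ⟨i', this⟩ (Fin.lt_def.mpr (by
      have : (j : ℕ) < i := hj
      simp only; omega))
    simp only at h1
    rw [show V i' = W i' from h1]
  · show T c g V i < T c g W i
    unfold T
    rw [Finset.sum_range_succ, Finset.sum_range_succ, hg, one_mul, one_mul]
    have : ∑ x ∈ range (i : ℕ), g i x * V x = ∑ x ∈ range (i : ℕ), g i x * W x := by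
      refine Finset.sum_congr rfl fun i' hi' => ?_
      rw [Finset.mem_range] at hi'
      have hl : i' < ℓ := by have := i.2; omega
      have h1 := hi1 ⟨i', hl⟩ (Fin.lt_def.mpr hi')
      simp only at h1
      rw [show V i' = W i' from h1]
    rw [this]
    have h2 : V i < W i := hi2
    linarith

theorem T_le_iff (c : ℕ → ℚ) (g : ℕ → ℕ → ℚ) (hg : ∀ j, g j j = 1) (ℓ : ℕ) (V W : ℕ → ℚ) :
    toLex (fun j : Fin ℓ => V j) ≤ toLex (fun j : Fin ℓ => W j) ↔
    toLex (fun j : Fin ℓ => T c g V j) ≤ toLex (fun j : Fin ℓ => T c g W j) := by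
  constructor
  · intro h
    rcases lt_or_eq_of_le h with h | h
    · exact (T_lt c g hg ℓ V W h).le
    · apply le_of_eq
      have h' : (fun j : Fin ℓ => V j) = (fun j : Fin ℓ => W j) := toLex_inj.mp h
      congr 1
      funext j
      unfold T
      congr 1
      refine Finset.sum_congr rfl fun i' hi' => ?_
      rw [Finset.mem_range] at hi'
      have hl : i' < ℓ := by have := j.2; omega
      have := congrFun h' ⟨i', hl⟩
      simp only at this
      rw [this]
  · intro h
    by_contra hc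
    have := T_lt c g hg ℓ W V (not_le.mp hc)
    exact absurd h (not_le.mpr this)

/-- coefficients of the translate -/
theorem coeff_comp_sub (R : ℚ[X]) (a : ℚ) (i : ℕ) :
    (R.comp (X - C a)).coeff i =
      ∑ k ∈ range (R.natDegree + 1), R.coeff k * ((-a) ^ (k - i) * (k.choose i : ℚ)) := by
  rw [comp_eq_sum_left, sum_over_range, finsetSum_coeff]
  · refine Finset.sum_congr rfl fun k _ => ?_
    rw [coeff_C_mul, sub_eq_add_neg, ← C_neg, coeff_X_add_C_pow]
  · intro n; simp

/-- factorial-normalised coefficients of the difference -/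
theorem diff_coeff (R : ℚ[X]) (a : ℚ) (i : ℕ) :
    (R - R.comp (X - C a)).coeff i * (i.factorial : ℚ) =
      ∑ k ∈ range (R.natDegree + 1),
        if i < k then -(R.coeff k * (k.factorial : ℚ)) * ((-a) ^ (k - i) / ((k - i).factorial : ℚ))
        else 0 := by
  rw [coeff_sub, coeff_comp_sub, sub_mul, Finset.sum_mul]
  by_cases hi : i ∈ range (R.natDegree + 1)
  · rw [← Finset.add_sum_erase _ _ hi, ← Finset.add_sum_erase (range (R.natDegree + 1)) _ hi]
    rw [if_neg (lt_irrefl i), Nat.sub_self, pow_zero, Nat.choose_self, Nat.cast_one, mul_one,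
      mul_one, zero_add, sub_add_eq_sub_sub, sub_self, zero_sub, ← Finset.sum_neg_distrib]
    refine Finset.sum_congr rfl fun k hk => ?_
    have hki : k ≠ i := Finset.ne_of_mem_erase hk
    by_cases hik : i < k
    · rw [if_pos hik]
      have h1 : (k.choose i : ℚ) * (i.factorial : ℚ) * ((k - i).factorial : ℚ) = k.factorial := by
        exact_mod_cast Nat.choose_mul_factorial_mul_factorial hik.le
      have h2 : ((k - i).factorial : ℚ) ≠ 0 := by positivity
      field_simp
      rw [← h1]; ring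
    · rw [if_neg hik, Nat.choose_eq_zero_of_lt (by omega)]
      simp
  · have hd : R.natDegree < i := by
      rw [Finset.mem_range] at hi; omega
    rw [coeff_eq_zero_of_natDegree_lt hd, zero_mul, zero_sub, ← Finset.sum_neg_distrib]
    refine Finset.sum_congr rfl fun k hk => ?_
    rw [Finset.mem_range] at hk
    rw [if_neg (by omega), Nat.choose_eq_zero_of_lt (by omega)]
    simp


/-- `β t = -(-a)^t / t!` -/
noncomputable def β (a : ℚ) (t : ℕ) : ℚ := -((-a) ^ t / (t.factorial : ℚ))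

theorem β_one (a : ℚ) : β a 1 = a := by simp [β]

/-- normalised coefficient ratios -/
noncomputable def V (R : ℚ[X]) (d : ℕ) (i : ℕ) : ℚ :=
  (R.coeff (d - 1 - i) * ((d - 1 - i).factorial : ℚ)) / (R.coeff d * (d.factorial : ℚ))

theorem denom_eq (R : ℚ[X]) (a : ℚ) (d : ℕ) (hd : R.natDegree = d) (hd1 : 1 ≤ d) :
    (R - R.comp (X - C a)).coeff (d - 1) * ((d - 1).factorial : ℚ) =
      a * (R.coeff d * (d.factorial : ℚ)) := by
  rw [diff_coeff, hd, Finset.sum_range_succ, Finset.sum_eq_zero, zero_add, if_pos (by omega)]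
  · have : d - (d - 1) = 1 := by omega
    rw [this]; simp; ring
  · intro k hk
    rw [Finset.mem_range] at hk
    rw [if_neg (by omega)]

theorem numer_eq (R : ℚ[X]) (a : ℚ) (d j : ℕ) (hd : R.natDegree = d) (hj : j + 2 ≤ d) :
    (R - R.comp (X - C a)).coeff (d - 1 - 1 - j) * ((d - 1 - 1 - j).factorial : ℚ) =
      ∑ s ∈ range (j + 2), β a (j + 2 - s) * (R.coeff (d - s) * ((d - s).factorial : ℚ)) := by
  rw [diff_coeff, hd, ← Finset.sum_range_reflect]
  have hfilter : (range (d + 1)).filter (fun s => s < j + 2) = range (j + 2) := by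
    ext s
    simp only [Finset.mem_filter, Finset.mem_range]
    omega
  rw [← hfilter, Finset.sum_filter]
  refine Finset.sum_congr rfl fun s hs => ?_
  rw [Finset.mem_range] at hs
  have e1 : d + 1 - 1 - s = d - s := by omega
  rw [e1]
  by_cases h : s < j + 2
  · rw [if_pos h, if_pos (by omega)]
    have e2 : d - s - (d - 1 - 1 - j) = j + 2 - s := by omega
    rw [e2]
    unfold β
    ring
  · rw [if_neg h, if_neg (by omega)]

theorem ratio_eq (R : ℚ[X]) (a : ℚ) (ha : a ≠ 0) (d j : ℕ) (hd : R.natDegree = d) (hR : R ≠ 0)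
    (hj : j + 2 ≤ d) :
    ((R - R.comp (X - C a)).coeff ((d - 1) - 1 - j) * (Nat.factorial ((d - 1) - 1 - j) : ℚ)) /
      ((R - R.comp (X - C a)).coeff (d - 1) * (Nat.factorial (d - 1) : ℚ)) =
    T (fun j => β a (j + 2) / a) (fun j i => β a (j + 1 - i) / a) (V R d) j := by
  have hlead : R.coeff d ≠ 0 := by
    rw [← hd]; exact leadingCoeff_ne_zero.mpr hR
  have hfac : (d.factorial : ℚ) ≠ 0 := by positivity
  rw [numer_eq R a d j hd hj, denom_eq R a d hd (by omega), Finset.sum_range_succ']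
  unfold T V
  rw [add_div, add_comm]
  congr 1
  · rw [Nat.sub_zero, Nat.sub_zero]
    field_simp
  · rw [Finset.sum_div]
    refine Finset.sum_congr rfl fun i hi => ?_
    have e1 : j + 2 - (i + 1) = j + 1 - i := by omega
    have e2 : d - (i + 1) = d - 1 - i := by omega
    rw [e1, e2]
    field_simp

theorem main (d ℓ : ℕ) (hℓ : ℓ + 1 ≤ d) (a : ℚ) (ha : a ≠ 0)
    (P Q : ℚ[X]) (hP : P.natDegree = d) (hQ : Q.natDegree = d) (hP0 : P ≠ 0) (hQ0 : Q ≠ 0) :
    toLex (fun j : Fin ℓ => ((P).coeff (d - 1 - (j : ℕ)) * (Nat.factorial (d - 1 - (j : ℕ)) : ℚ)) / ((P).coeff (d) * (Nat.factorial (d) : ℚ))) ≤ toLex (fun j : Fin ℓ => ((Q).coeff (d - 1 - (j : ℕ)) * (Nat.factorial (d - 1 - (j : ℕ)) : ℚ)) / ((Q).coeff (d) * (Nat.factorial (d) : ℚ))) ↔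
      toLex (fun j : Fin ℓ => ((P - P.comp (X - C a)).coeff ((d - 1) - 1 - (j : ℕ)) * (Nat.factorial ((d - 1) - 1 - (j : ℕ)) : ℚ)) / ((P - P.comp (X - C a)).coeff ((d - 1)) * (Nat.factorial ((d - 1)) : ℚ))) ≤
        toLex (fun j : Fin ℓ => ((Q - Q.comp (X - C a)).coeff ((d - 1) - 1 - (j : ℕ)) * (Nat.factorial ((d - 1) - 1 - (j : ℕ)) : ℚ)) / ((Q - Q.comp (X - C a)).coeff ((d - 1)) * (Nat.factorial ((d - 1)) : ℚ))) := by
  have hg : ∀ j, (fun j i => β a (j + 1 - i) / a) j j = 1 := by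
    intro j
    simp only
    rw [show j + 1 - j = 1 by omega, β_one, div_self ha]
  have key := T_le_iff (fun j => β a (j + 2) / a) (fun j i => β a (j + 1 - i) / a) hg ℓ
    (V P d) (V Q d)
  have e1 : (fun j : Fin ℓ => ((P - P.comp (X - C a)).coeff ((d - 1) - 1 - (j : ℕ)) * (Nat.factorial ((d - 1) - 1 - (j : ℕ)) : ℚ)) / ((P - P.comp (X - C a)).coeff ((d - 1)) * (Nat.factorial ((d - 1)) : ℚ))) =
      (fun j : Fin ℓ => T (fun j => β a (j + 2) / a) (fun j i => β a (j + 1 - i) / a) (V P d) j) := by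
    funext j
    exact ratio_eq P a ha d j hP hP0 (by have := j.2; omega)
  have e2 : (fun j : Fin ℓ => ((Q - Q.comp (X - C a)).coeff ((d - 1) - 1 - (j : ℕ)) * (Nat.factorial ((d - 1) - 1 - (j : ℕ)) : ℚ)) / ((Q - Q.comp (X - C a)).coeff ((d - 1)) * (Nat.factorial ((d - 1)) : ℚ))) =
      (fun j : Fin ℓ => T (fun j => β a (j + 2) / a) (fun j i => β a (j + 1 - i) / a) (V Q d) j) := by
    funext j
    exact ratio_eq Q a ha d j hQ hQ0 (by have := j.2; omega)
  rw [e1, e2]
  exact key

end Groth.Agent.Helper8.HilbLex
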