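import Groth.Prelude.Def_Hoch
import Mathlib
set_option autoImplicit false
universe u v
open TensorProduct

namespace Groth.Agent.Helper8.HochInd

variable (k : Type u) [CommRing k] (A : Type v) [CommRing A] [Bialgebra k A]
  (P : Type v) [AddCommGroup P] [Module k P]

/-- contracting homotopy in degree zero -/
noncomputable def s0 : (Hoch.Ind k A P) ⊗[k] A →ₗ[k] Hoch.Ind k A P :=
  (Hoch.Ind.equiv k A P).toLinearMap ∘ₗ (Hoch.Ind.counit k A P).rTensor A

/-- contracting homotopy -/
noncomputable def sH : (n : ℕ) → ((Hoch.cochain k A (Hoch.Ind k A P) (n + 1) : Type v) →ₗ[k]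
    (Hoch.cochain k A (Hoch.Ind k A P) n : Type v))
  | 0 => s0 k A P
  | n + 1 => (sH n).rTensor A

theorem tail_nat {M M' : Type v} [AddCommGroup M] [Module k M] [AddCommGroup M'] [Module k M']
    (f : M →ₗ[k] M') (x : M ⊗[k] A) :
    Hoch.tail k A M' (f.rTensor A x) = (f.rTensor A).rTensor A (Hoch.tail k A M x) := by
  induction x using TensorProduct.induction_on with
  | zero => simp
  | add x y hx hy => simp only [map_add, hx, hy]
  | tmul m a =>
    rw [LinearMap.rTensor_tmul, Hoch.tail_tmul, Hoch.tail_tmul]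
    generalize (Coalgebra.comul (R := k) a - a ⊗ₜ[k] 1 - 1 ⊗ₜ[k] a) = t
    induction t using TensorProduct.induction_on with
    | zero => simp
    | add x y hx hy => simp only [tmul_add, map_add, hx, hy]
    | tmul x y => simp

/-- plain versions -/
noncomputable def s0' : (P ⊗[k] A) ⊗[k] A →ₗ[k] P ⊗[k] A :=
  ((TensorProduct.rid k P).toLinearMap ∘ₗ (Coalgebra.counit (R := k) (A := A)).lTensor P).rTensor A

noncomputable def d0' : P ⊗[k] A →ₗ[k] (P ⊗[k] A) ⊗[k] A :=
  Hoch.Ind.coactAux k A P - (TensorProduct.mk k (P ⊗[k] A) A).flip 1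

noncomputable def d1' : (P ⊗[k] A) ⊗[k] A →ₗ[k] ((P ⊗[k] A) ⊗[k] A) ⊗[k] A :=
  (d0' k A P).rTensor A + ((-1 : k) ^ (0 + 1)) • Hoch.tail k A (P ⊗[k] A)

theorem s0'_tmul (p : P) (a b : A) :
    s0' k A P ((p ⊗ₜ[k] a) ⊗ₜ[k] b) = (Coalgebra.counit (R := k) a • p) ⊗ₜ[k] b := by
  simp [s0']

theorem L2 (p : P) (t : A ⊗[k] A) :
    s0' k A P ((TensorProduct.assoc k P A A).symm (p ⊗ₜ[k] t)) =
      p ⊗ₜ[k] (TensorProduct.lid k A
        ((Coalgebra.counit (R := k) (A := A)).rTensor A t)) := by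
  induction t using TensorProduct.induction_on with
  | zero => simp
  | add x y hx hy => simp only [tmul_add, map_add, hx, hy]
  | tmul x y =>
    rw [TensorProduct.assoc_symm_tmul, s0'_tmul]
    simp only [LinearMap.rTensor_tmul, TensorProduct.lid_tmul]
    rw [TensorProduct.tmul_smul, ← TensorProduct.smul_tmul']

theorem L1 (p : P) (a : A) (t : A ⊗[k] A) :
    (s0' k A P).rTensor A ((TensorProduct.assoc k (P ⊗[k] A) A A).symm
      ((p ⊗ₜ[k] a) ⊗ₜ[k] t)) =
      Coalgebra.counit (R := k) a • (TensorProduct.assoc k P A A).symm (p ⊗ₜ[k] t) := by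
  induction t using TensorProduct.induction_on with
  | zero => simp
  | add x y hx hy => simp only [tmul_add, map_add, hx, hy, smul_add]
  | tmul x y =>
    rw [TensorProduct.assoc_symm_tmul, TensorProduct.assoc_symm_tmul, LinearMap.rTensor_tmul,
      s0'_tmul]
    rw [TensorProduct.smul_tmul', TensorProduct.smul_tmul']

theorem base_tmul (p : P) (a b : A) :
    d0' k A P (s0' k A P ((p ⊗ₜ[k] a) ⊗ₜ[k] b)) +
      (s0' k A P).rTensor A (d1' k A P ((p ⊗ₜ[k] a) ⊗ₜ[k] b)) = (p ⊗ₜ[k] a) ⊗ₜ[k] b := by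
  simp only [d1', d0', LinearMap.add_apply, LinearMap.smul_apply, LinearMap.rTensor_tmul, map_add,
    map_smul, Hoch.tail_tmul, zero_add, pow_one, neg_smul, one_smul, map_neg, LinearMap.sub_apply,
    Hoch.Ind.coactAux_tmul, LinearMap.flip_apply, TensorProduct.mk_apply, s0'_tmul, L1, sub_tmul,
    map_sub, L2, tmul_sub]
  have h1 := LinearMap.congr_fun (Coalgebra.rTensor_counit_comp_comul (R := k) (A := A)) a
  simp only [LinearMap.coe_comp, Function.comp_apply] at h1
  rw [h1]
  simp only [TensorProduct.mk_apply, TensorProduct.lid_tmul, one_smul, map_one,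
    ← TensorProduct.smul_tmul', map_smul, TensorProduct.assoc_symm_tmul]
  module

theorem base' (c : (P ⊗[k] A) ⊗[k] A) :
    d0' k A P (s0' k A P c) + (s0' k A P).rTensor A (d1' k A P c) = c := by
  induction c using TensorProduct.induction_on with
  | zero => simp
  | add x y hx hy =>
    rw [map_add, map_add, map_add, map_add]
    conv_rhs => rw [← hx, ← hy]
    abel
  | tmul x b =>
    induction x using TensorProduct.induction_on with
    | zero => simp
    | add x y hx hy =>
      rw [add_tmul, map_add, map_add, map_add, map_add]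
      conv_rhs => rw [← hx, ← hy]
      abel
    | tmul p a => exact base_tmul k A P p a b

theorem base (c : (Hoch.Ind k A P) ⊗[k] A) :
    Hoch.d k A (Hoch.Ind k A P) 0 (s0 k A P c) +
      (s0 k A P).rTensor A (Hoch.d k A (Hoch.Ind k A P) 1 c) = c :=
  base' k A P c

theorem homotopy (n : ℕ) :
    Hoch.d k A (Hoch.Ind k A P) n ∘ₗ sH k A P n +
      sH k A P (n + 1) ∘ₗ Hoch.d k A (Hoch.Ind k A P) (n + 1) = LinearMap.id := by
  induction n with
  | zero =>
    apply LinearMap.ext
    intro c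
    exact base k A P c
  | succ n ih =>
    apply LinearMap.ext
    intro c
    show Hoch.d k A (Hoch.Ind k A P) (n + 1) ((sH k A P n).rTensor A c) +
      (sH k A P (n + 1)).rTensor A (Hoch.d k A (Hoch.Ind k A P) (n + 2) c) = c
    rw [Hoch.d_succ, Hoch.d_succ k A _ (n + 1)]
    simp only [LinearMap.add_apply, LinearMap.smul_apply, map_add, map_smul]
    rw [tail_nat, ← LinearMap.rTensor_comp_apply, ← LinearMap.rTensor_comp_apply]
    have hs : sH k A P (n + 1) = (sH k A P n).rTensor A := rfl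
    have h1 : (-1 : k) ^ (n + 1) • ((sH k A P n).rTensor A).rTensor A
          (Hoch.tail k A _ c) +
        (-1 : k) ^ (n + 1 + 1) • (sH k A P (n + 1)).rTensor A (Hoch.tail k A _ c) = 0 := by
      rw [hs, pow_succ (-1 : k) (n + 1), mul_neg_one, neg_smul, add_neg_cancel]
    have h2 : (Hoch.d k A (Hoch.Ind k A P) n ∘ₗ sH k A P n).rTensor A c +
        (sH k A P (n + 1) ∘ₗ Hoch.d k A (Hoch.Ind k A P) (n + 1)).rTensor A c = c := by
      rw [← LinearMap.add_apply, ← LinearMap.rTensor_add, ih, LinearMap.rTensor_id]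
      rfl
    calc _ = ((Hoch.d k A (Hoch.Ind k A P) n ∘ₗ sH k A P n).rTensor A c +
        (sH k A P (n + 1) ∘ₗ Hoch.d k A (Hoch.Ind k A P) (n + 1)).rTensor A c) +
        ((-1 : k) ^ (n + 1) • ((sH k A P n).rTensor A).rTensor A
          (Hoch.tail k A _ c) +
        (-1 : k) ^ (n + 1 + 1) • (sH k A P (n + 1)).rTensor A (Hoch.tail k A _ c)) := by abel
      _ = c := by rw [h1, h2, add_zero]

theorem main (n : ℕ) :
    Hoch.cocycles k A (Hoch.Ind k A P) (n + 1) ≤ Hoch.coboundaries k A (Hoch.Ind k A P) (n + 1) := by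
  intro c hc
  have hc' : Hoch.d k A (Hoch.Ind k A P) (n + 1) c = 0 := hc
  have h := LinearMap.congr_fun (homotopy k A P n) c
  simp only [LinearMap.add_apply, LinearMap.coe_comp, Function.comp_apply, hc', map_zero,
    add_zero, LinearMap.id_coe, id_eq] at h
  exact ⟨sH k A P n c, h⟩

end Groth.Agent.Helper8.HochInd
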