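import Mathlib
set_option autoImplicit false
open TensorProduct

namespace Groth.Agent.Helper8.HomNZ

/-- finitely many elements acting nilpotently on `y₀ ≠ 0`: some nonzero multiple is killed by all. -/
lemma exists_killed {B Q : Type*} [CommRing B] [AddCommGroup Q] [Module B Q] :
    ∀ (s : Finset B) (y₀ : Q), y₀ ≠ 0 → (∀ a ∈ s, ∃ n : ℕ, a ^ n • y₀ = 0) →
      ∃ c : B, c • y₀ ≠ 0 ∧ ∀ a ∈ s, a • (c • y₀) = 0 := by
  classical
  intro s
  induction s using Finset.induction_on with
  | empty =>
    intro y₀ hy _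
    exact ⟨1, by simpa using hy, by simp⟩
  | insert a s' ha ih =>
    intro y₀ hy h
    have hnil : ∃ n : ℕ, a ^ n • y₀ = 0 := h a (Finset.mem_insert_self a s')
    have hn0 : Nat.find hnil ≠ 0 := by
      intro h0
      have := Nat.find_spec hnil
      rw [h0, pow_zero, one_smul] at this
      exact hy this
    obtain ⟨n, hn⟩ : ∃ n, Nat.find hnil = n + 1 := Nat.exists_eq_succ_of_ne_zero hn0
    have hy₁ : a ^ n • y₀ ≠ 0 := Nat.find_min hnil (by omega)
    have hay₁ : a • (a ^ n • y₀) = 0 := by
      have := Nat.find_spec hnil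
      rw [hn, pow_succ', mul_smul] at this
      exact this
    obtain ⟨c', hc', hk⟩ := ih (a ^ n • y₀) hy₁ (fun a' ha' => by
      obtain ⟨k, hk⟩ := h a' (Finset.mem_insert_of_mem ha')
      exact ⟨k, by rw [smul_comm, hk, smul_zero]⟩)
    refine ⟨c' * a ^ n, by rwa [mul_smul], ?_⟩
    intro a' ha'
    rw [mul_smul]
    rcases Finset.mem_insert.1 ha' with rfl | ha'
    · rw [smul_comm, hay₁, smul_zero]
    · exact hk a' ha'

lemma local_hom {B : Type*} [CommRing B] [IsLocalRing B] {P Q : Type*} [AddCommGroup P]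
    [Module B P] [Module.FinitePresentation B P] [Nontrivial P] [AddCommGroup Q] [Module B Q]
    (y₀ : Q) (hy₀ : y₀ ≠ 0)
    (hnil : ∀ a ∈ IsLocalRing.maximalIdeal B, ∃ n : ℕ, a ^ n • y₀ = 0) :
    ∃ g : P →ₗ[B] Q, g ≠ 0 := by
  classical
  have hV : Nontrivial (IsLocalRing.ResidueField B ⊗[B] P) := by
    rw [← not_subsingleton_iff_nontrivial, IsLocalRing.subsingleton_tensorProduct]
    exact not_subsingleton P
  let b := Module.finBasis (IsLocalRing.ResidueField B) (IsLocalRing.ResidueField B ⊗[B] P)
  obtain ⟨n, hn⟩ : ∃ n, n = Module.finrank (IsLocalRing.ResidueField B)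
    (IsLocalRing.ResidueField B ⊗[B] P) := ⟨_, rfl⟩
  have hnpos : 0 < Module.finrank (IsLocalRing.ResidueField B)
    (IsLocalRing.ResidueField B ⊗[B] P) := Module.finrank_pos
  have hsurj : Function.Surjective (TensorProduct.mk B (IsLocalRing.ResidueField B) P 1) :=
    TensorProduct.mk_surjective B P (IsLocalRing.ResidueField B) IsLocalRing.residue_surjective
  choose p hp using fun i => hsurj (b i)
  have hspan : Submodule.span B (Set.range p) = ⊤ :=
    IsLocalRing.span_eq_top_of_tmul_eq_basis p b hp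
  let π : (Fin (Module.finrank (IsLocalRing.ResidueField B)
    (IsLocalRing.ResidueField B ⊗[B] P)) → B) →ₗ[B] P := Fintype.linearCombination B p
  have hπ : Function.Surjective π := by
    rw [← LinearMap.range_eq_top, Fintype.range_linearCombination, hspan]
  have hK : (LinearMap.ker π).FG := Module.FinitePresentation.fg_ker π hπ
  have hKm : ∀ v ∈ LinearMap.ker π, ∀ i, v i ∈ IsLocalRing.maximalIdeal B := by
    intro v hv i
    have h1 : ∑ j, v j • p j = 0 := by
      simpa [π, Fintype.linearCombination_apply] using hv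
    have h2 := congrArg (TensorProduct.mk B (IsLocalRing.ResidueField B) P 1) h1
    rw [map_sum, map_zero] at h2
    have h3 : ∑ j, (IsLocalRing.residue B (v j)) • b j = 0 := by
      rw [← h2]
      refine Finset.sum_congr rfl fun j _ => ?_
      rw [map_smul, hp]
      rfl
    have := Fintype.linearIndependent_iff.1 b.linearIndependent _ h3 i
    rwa [IsLocalRing.residue_eq_zero_iff] at this
  obtain ⟨t, ht⟩ := hK
  let s : Finset B := t.biUnion fun v => Finset.univ.image v
  obtain ⟨c, hc, hkill⟩ := exists_killed s y₀ hy₀ (fun a ha => by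
      obtain ⟨v, hv, hav⟩ := Finset.mem_biUnion.1 ha
      obtain ⟨i, _, rfl⟩ := Finset.mem_image.1 hav
      exact hnil _ (hKm v (ht ▸ Submodule.subset_span hv) i))
  let i₀ : Fin (Module.finrank (IsLocalRing.ResidueField B)
    (IsLocalRing.ResidueField B ⊗[B] P)) := ⟨0, hnpos⟩
  let g₀ : (Fin (Module.finrank (IsLocalRing.ResidueField B)
    (IsLocalRing.ResidueField B ⊗[B] P)) → B) →ₗ[B] Q :=
    (LinearMap.toSpanSingleton B Q (c • y₀)) ∘ₗ (LinearMap.proj i₀)
  have hg₀ : LinearMap.ker π ≤ LinearMap.ker g₀ := by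
    rw [← ht, Submodule.span_le]
    intro v hv
    simp only [SetLike.mem_coe, LinearMap.mem_ker, g₀, LinearMap.comp_apply, LinearMap.proj_apply,
      LinearMap.toSpanSingleton_apply]
    exact hkill _ (Finset.mem_biUnion.2 ⟨v, hv, Finset.mem_image.2 ⟨i₀, Finset.mem_univ _, rfl⟩⟩)
  let e := π.quotKerEquivOfSurjective hπ
  let g : P →ₗ[B] Q := (Submodule.liftQ _ g₀ hg₀) ∘ₗ e.symm.toLinearMap
  refine ⟨g, fun h0 => hc ?_⟩
  have h4 : e.symm (π (Pi.single i₀ 1)) = Submodule.Quotient.mk (Pi.single i₀ 1) := by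
    rw [LinearEquiv.symm_apply_eq]; rfl
  have : g (π (Pi.single i₀ 1)) = c • y₀ := by
    simp only [g, LinearMap.comp_apply, LinearEquiv.coe_coe, h4, Submodule.liftQ_apply, g₀,
      LinearMap.proj_apply, Pi.single_eq_same, LinearMap.toSpanSingleton_apply, one_smul]
  rw [h0] at this
  simpa using this.symm

universe u v

theorem s6710 (A : Type u) [CommRing A] (M : Type v) [AddCommGroup M] [Module A M]
    [Module.FinitePresentation A M] (N : Type v) [AddCommGroup N] [Module A N] [Nontrivial N]
    (h : Module.support A N ⊆ Module.support A M) : Nontrivial (M →ₗ[A] N) := by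
  obtain ⟨x, hx⟩ := exists_ne (0 : N)
  obtain ⟨I, hI⟩ : ∃ I : Ideal A, I = (Submodule.span A {x}).annihilator := ⟨_, rfl⟩
  have hIx : ∀ i ∈ I, i • x = 0 := fun i hi =>
    (Submodule.mem_annihilator_span_singleton _ _).1 (hI ▸ hi)
  have hItop : I ≠ ⊤ := by
    intro h1
    have : (1 : A) ∈ I := h1 ▸ Submodule.mem_top
    have := hIx 1 this
    rw [one_smul] at this
    exact hx this
  obtain ⟨q, hq, hIq⟩ := Ideal.exists_le_maximal I hItop
  have := hq.isPrime
  obtain ⟨p, hp, hpq⟩ := Ideal.exists_minimalPrimes_le hIq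
  have : p.IsPrime := hp.1.1
  have hIp : I ≤ p := hp.1.2
  have hpN : (⟨p, inferInstance⟩ : PrimeSpectrum A) ∈ Module.support A N := by
    rw [Module.mem_support_iff_exists_annihilator]
    exact ⟨x, hI ▸ hIp⟩
  have hpM := h hpN
  rw [Module.mem_support_iff] at hpM
  change Nontrivial (LocalizedModule p.primeCompl M) at hpM
  let y₀ : LocalizedModule p.primeCompl N := LocalizedModule.mkLinearMap p.primeCompl N x
  have hy₀ : y₀ ≠ 0 := by
    intro h0
    obtain ⟨s, hs⟩ := (IsLocalizedModule.eq_zero_iff p.primeCompl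
      (LocalizedModule.mkLinearMap p.primeCompl N)).1 h0
    have : (s : A) ∈ I := by
      rw [hI, Submodule.mem_annihilator_span_singleton]
      exact hs
    exact s.2 (hIp this)
  have hnil : ∀ a ∈ IsLocalRing.maximalIdeal (Localization.AtPrime p),
      ∃ n : ℕ, a ^ n • y₀ = 0 := by
    intro a ha
    rw [← IsLocalization.AtPrime.map_eq_maximalIdeal p (Localization.AtPrime p),
      ← IsLocalization.AtPrime.radical_map_of_mem_minimalPrimes (Localization.AtPrime p) p I hp]
      at ha
    obtain ⟨n, hn⟩ := ha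
    refine ⟨n, ?_⟩
    have hle : I.map (algebraMap A (Localization.AtPrime p)) ≤
        (Submodule.span (Localization.AtPrime p) {y₀}).annihilator := by
      rw [Ideal.map_le_iff_le_comap]
      intro i hi
      rw [Ideal.mem_comap, Submodule.mem_annihilator_span_singleton, algebraMap_smul]
      show i • LocalizedModule.mkLinearMap p.primeCompl N x = 0
      rw [← map_smul, hIx i hi, map_zero]
    exact (Submodule.mem_annihilator_span_singleton _ _).1 (hle hn)
  obtain ⟨g, hg⟩ := local_hom (B := Localization.AtPrime p)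
    (P := LocalizedModule p.primeCompl M) y₀ hy₀ hnil
  let g' : M →ₗ[A] LocalizedModule p.primeCompl N :=
    (g.restrictScalars A) ∘ₗ LocalizedModule.mkLinearMap p.primeCompl M
  have hg' : g' ≠ 0 := by
    intro h0
    apply hg
    have : g.restrictScalars A = 0 := by
      apply IsLocalizedModule.ext p.primeCompl (LocalizedModule.mkLinearMap p.primeCompl M)
        (IsLocalizedModule.map_units (LocalizedModule.mkLinearMap p.primeCompl N))
      rw [LinearMap.zero_comp]
      exact h0
    ext z
    exact LinearMap.congr_fun this z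
  obtain ⟨hh, s, hs⟩ := Module.FinitePresentation.exists_lift_of_isLocalizedModule p.primeCompl
    (LocalizedModule.mkLinearMap p.primeCompl N) g'
  refine ⟨hh, 0, fun h0 => hg' ?_⟩
  rw [h0, LinearMap.comp_zero] at hs
  ext m
  have h5 : s • g' m = 0 := (LinearMap.congr_fun hs.symm m)
  have h6 : s • g' m = s • (0 : LocalizedModule p.primeCompl N) := by rw [h5, smul_zero]
  exact (IsLocalizedModule.smul_inj (LocalizedModule.mkLinearMap p.primeCompl N) s _ _).1 h6

end Groth.Agent.Helper8.HomNZ
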