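import Mathlib

/-!
# Hopf ideals of a Hopf algebra over a Dedekind domain versus its generic fibre

For a flat Hopf algebra `A` over a Dedekind domain `R` with fraction field `K`, Hopf ideals `J'` of
`A` with `A ⧸ J'` flat correspond bijectively to Hopf ideals of `K ⊗[R] A`.
-/

set_option autoImplicit false

namespace Groth.Agent.Helper8.HopfDed

open TensorProduct

universe u

section Ring

variable (R : Type u) [CommRing R] [IsDomain R] (K : Type u) [Field K] [Algebra R K]
  [IsFractionRing R K] (A : Type u) [CommRing A] [Algebra R A]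

/-- `a ↦ 1 ⊗ a`. -/
noncomputable abbrev inc : A →ₐ[R] K ⊗[R] A := Algebra.TensorProduct.includeRight

lemma inc_apply (a : A) : inc R K A a = (1 : K) ⊗ₜ[R] a := rfl

variable {R K A}

lemma algebraMap_ne_zero {r : R} (hr : r ≠ 0) : algebraMap R K r ≠ 0 := by
  intro h
  exact hr ((IsFractionRing.injective R K) (by rw [h, map_zero]))

lemma exists_smul_eq (z : K ⊗[R] A) :
    ∃ r : R, r ≠ 0 ∧ ∃ a : A, r • z = (1 : K) ⊗ₜ[R] a := by
  induction z using TensorProduct.induction_on with
  | zero => exact ⟨1, one_ne_zero, 0, by simp⟩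
  | tmul x a =>
    obtain ⟨n, d, hd, rfl⟩ := IsFractionRing.div_surjective (A := R) x
    refine ⟨d, nonZeroDivisors.ne_zero hd, n • a, ?_⟩
    have h1 : d • (algebraMap R K n / algebraMap R K d) = n • (1 : K) := by
      rw [Algebra.smul_def, Algebra.smul_def, mul_one,
        mul_div_cancel₀ _ (algebraMap_ne_zero (nonZeroDivisors.ne_zero hd))]
    rw [TensorProduct.smul_tmul', h1, TensorProduct.smul_tmul]
  | add z w hz hw =>
    obtain ⟨r₁, hr₁, a₁, h₁⟩ := hz
    obtain ⟨r₂, hr₂, a₂, h₂⟩ := hw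
    refine ⟨r₁ * r₂, mul_ne_zero hr₁ hr₂, r₂ • a₁ + r₁ • a₂, ?_⟩
    rw [smul_add, mul_comm r₁ r₂, mul_smul, h₁, mul_comm r₂ r₁, mul_smul, h₂,
      TensorProduct.tmul_add, TensorProduct.tmul_smul, TensorProduct.tmul_smul]

lemma smul_eq_algebraMap_tmul_mul (r : R) (z : K ⊗[R] A) :
    r • z = ((algebraMap R K r) ⊗ₜ[R] (1 : A)) * z := by
  induction z using TensorProduct.induction_on with
  | zero => simp
  | tmul x a =>
    rw [Algebra.TensorProduct.tmul_mul_tmul, one_mul, TensorProduct.smul_tmul', Algebra.smul_def]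
  | add z w hz hw => rw [smul_add, hz, hw, mul_add]

lemma mem_map_iff (J' : Ideal A) (z : K ⊗[R] A) :
    z ∈ Ideal.map (inc R K A) J' ↔ ∃ r : R, r ≠ 0 ∧ ∃ j ∈ J', r • z = (1 : K) ⊗ₜ[R] j := by
  constructor
  · intro hz
    refine Submodule.span_induction (p := fun z _ => ∃ r : R, r ≠ 0 ∧ ∃ j ∈ J',
      r • z = (1 : K) ⊗ₜ[R] j) ?_ ?_ ?_ ?_ hz
    · rintro _ ⟨j, hj, rfl⟩
      exact ⟨1, one_ne_zero, j, hj, by rw [one_smul]; rfl⟩
    · exact ⟨1, one_ne_zero, 0, J'.zero_mem, by simp⟩
    · rintro z w _ _ ⟨r₁, hr₁, a₁, ha₁, h₁⟩ ⟨r₂, hr₂, a₂, ha₂, h₂⟩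
      refine ⟨r₁ * r₂, mul_ne_zero hr₁ hr₂, r₂ • a₁ + r₁ • a₂,
        J'.add_mem (Submodule.smul_of_tower_mem J' r₂ ha₁) (Submodule.smul_of_tower_mem J' r₁ ha₂),
        ?_⟩
      rw [smul_add, mul_comm r₁ r₂, mul_smul, h₁, mul_comm r₂ r₁, mul_smul, h₂,
        TensorProduct.tmul_add, TensorProduct.tmul_smul, TensorProduct.tmul_smul]
    · rintro w z _ ⟨r, hr, j, hj, h⟩
      obtain ⟨r', hr', a', h'⟩ := exists_smul_eq w
      refine ⟨r' * r, mul_ne_zero hr' hr, a' * j, J'.mul_mem_left _ hj, ?_⟩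
      rw [smul_eq_mul, mul_smul, ← mul_smul_comm, h, ← smul_mul_assoc, h',
        Algebra.TensorProduct.tmul_mul_tmul, one_mul]
  · rintro ⟨r, hr, j, hj, h⟩
    have hmem : (1 : K) ⊗ₜ[R] j ∈ Ideal.map (inc R K A) J' := Ideal.mem_map_of_mem _ hj
    have h2 : z = (((algebraMap R K r)⁻¹) ⊗ₜ[R] (1 : A)) * (r • z) := by
      rw [smul_eq_algebraMap_tmul_mul, ← mul_assoc, Algebra.TensorProduct.tmul_mul_tmul,
        inv_mul_cancel₀ (algebraMap_ne_zero hr), one_mul]
      exact (one_mul z).symm
    rw [h2, h]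
    exact Ideal.mul_mem_left _ _ hmem

lemma map_comap_eq (J : Ideal (K ⊗[R] A)) :
    Ideal.map (inc R K A) (Ideal.comap (inc R K A) J) = J := by
  apply le_antisymm Ideal.map_comap_le
  intro z hz
  obtain ⟨r, hr, a, h⟩ := exists_smul_eq z
  rw [mem_map_iff]
  refine ⟨r, hr, a, ?_, h⟩
  rw [Ideal.mem_comap, inc_apply, ← h, smul_eq_algebraMap_tmul_mul]
  exact Ideal.mul_mem_left _ _ hz

lemma inc_injective [Module.Flat R A] : Function.Injective (inc R K A) := by
  have h1 : Function.Injective ((Algebra.linearMap R K).rTensor A) :=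
    Module.Flat.rTensor_preserves_injective_linearMap _ (IsFractionRing.injective R K)
  have h2 : ∀ a : A, inc R K A a = (Algebra.linearMap R K).rTensor A ((TensorProduct.lid R A).symm a) := by
    intro a
    simp [inc_apply]
  intro a b hab
  rw [h2, h2] at hab
  exact (TensorProduct.lid R A).symm.injective (h1 hab)

lemma comap_map_eq [Module.Flat R A] (J' : Ideal A)
    (htf : ∀ (r : R) (a : A), r ≠ 0 → r • a ∈ J' → a ∈ J') :
    Ideal.comap (inc R K A) (Ideal.map (inc R K A) J') = J' := by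
  apply le_antisymm _ Ideal.le_comap_map
  intro a ha
  rw [Ideal.mem_comap, mem_map_iff] at ha
  obtain ⟨r, hr, j, hj, h⟩ := ha
  apply htf r a hr
  have h3 : inc R K A (r • a) = inc R K A j := by
    rw [map_smul]
    exact h
  rw [inc_injective h3]
  exact hj

end Ring

section Hopf

variable {R : Type u} [CommRing R] [IsDomain R] {K : Type u} [Field K] [Algebra R K]
  [IsFractionRing R K] {A : Type u} [CommRing A] [HopfAlgebra R A]

/-- `ι ⊗ ι : A ⊗[R] A → (K ⊗ A) ⊗[K] (K ⊗ A)`. -/
noncomputable def incinc : A ⊗[R] A →ₗ[R] (K ⊗[R] A) ⊗[K] (K ⊗[R] A) :=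
  ((IsLocalization.moduleTensorEquiv (nonZeroDivisors R) K (K ⊗[R] A)
      (K ⊗[R] A)).symm.toLinearMap.restrictScalars R) ∘ₗ
    TensorProduct.map (inc R K A).toLinearMap (inc R K A).toLinearMap

lemma incinc_tmul (a b : A) :
    incinc (K := K) (a ⊗ₜ[R] b) = ((1 : K) ⊗ₜ[R] a) ⊗ₜ[K] ((1 : K) ⊗ₜ[R] b) := rfl

lemma comul_inc (a : A) :
    Coalgebra.comul (R := K) ((1 : K) ⊗ₜ[R] a) = incinc (K := K) (Coalgebra.comul (R := R) a) := by
  rw [TensorProduct.comul_tmul, CommSemiring.comul_apply]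
  generalize Coalgebra.comul (R := R) a = t
  induction t using TensorProduct.induction_on with
  | zero => simp
  | tmul x y =>
    rw [TensorProduct.AlgebraTensorModule.tensorTensorTensorComm_tmul, incinc_tmul]
  | add x y hx hy => rw [TensorProduct.tmul_add, map_add, hx, hy, map_add]

lemma counit_inc (a : A) :
    Coalgebra.counit (R := K) ((1 : K) ⊗ₜ[R] a) = algebraMap R K (Coalgebra.counit (R := R) a) := by
  rw [TensorProduct.counit_tmul, CommSemiring.counit_apply, Algebra.smul_def, mul_one]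

lemma antipode_inc (a : A) :
    HopfAlgebra.antipode K ((1 : K) ⊗ₜ[R] a) = (1 : K) ⊗ₜ[R] (HopfAlgebra.antipode R a) := by
  rw [TensorProduct.antipode_def, TensorProduct.AlgebraTensorModule.map_tmul,
    HopfAlgebra.antipode_one]

variable (J' : Ideal A) (J : Ideal (K ⊗[R] A)) (hle : J' ≤ Ideal.comap (inc R K A) J)

/-- The induced map `A / J' → (K ⊗ A) / J`. -/
noncomputable def incQ : (A ⧸ J'.restrictScalars R) →ₗ[R] ((K ⊗[R] A) ⧸ J.restrictScalars K) :=
  Submodule.mapQ (J'.restrictScalars R) ((J.restrictScalars K).restrictScalars R)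
    (inc R K A).toLinearMap hle

lemma incQ_mk (a : A) :
    incQ J' J hle (Submodule.Quotient.mk a) = Submodule.Quotient.mk ((1 : K) ⊗ₜ[R] a) := rfl

/-- `θ : (A/J') ⊗[R] (A/J') → ((K⊗A)/J) ⊗[K] ((K⊗A)/J)`. -/
noncomputable def theta : (A ⧸ J'.restrictScalars R) ⊗[R] (A ⧸ J'.restrictScalars R) →ₗ[R]
    ((K ⊗[R] A) ⧸ J.restrictScalars K) ⊗[K] ((K ⊗[R] A) ⧸ J.restrictScalars K) :=
  ((IsLocalization.moduleTensorEquiv (nonZeroDivisors R) K ((K ⊗[R] A) ⧸ J.restrictScalars K)
      ((K ⊗[R] A) ⧸ J.restrictScalars K)).symm.toLinearMap.restrictScalars R) ∘ₗ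
    TensorProduct.map (incQ J' J hle) (incQ J' J hle)

lemma theta_tmul (x y : A ⧸ J'.restrictScalars R) :
    theta J' J hle (x ⊗ₜ[R] y) = (incQ J' J hle x) ⊗ₜ[K] (incQ J' J hle y) := rfl

lemma theta_nat (t : A ⊗[R] A) :
    TensorProduct.map (J.restrictScalars K).mkQ (J.restrictScalars K).mkQ (incinc (K := K) t) =
      theta J' J hle (TensorProduct.map (J'.restrictScalars R).mkQ (J'.restrictScalars R).mkQ t) := by
  induction t using TensorProduct.induction_on with
  | zero => simp
  | tmul x y =>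
    rw [incinc_tmul, TensorProduct.map_tmul, TensorProduct.map_tmul, theta_tmul]
    rfl
  | add x y hx hy => rw [map_add, map_add, hx, hy, map_add, map_add]

lemma smul_eq_zero_imp {N : Type*} [AddCommGroup N] [Module K N] [Module R N]
    [IsScalarTower R K N] {r : R} (hr : r ≠ 0) {x : N} (h : r • x = 0) : x = 0 := by
  rw [← algebraMap_smul K r x] at h
  exact (smul_eq_zero.mp h).resolve_left (algebraMap_ne_zero hr)

include hle in
/-- `map ι J'` is a Hopf ideal when `J'` is (here `J = map ι J'`). -/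
theorem isHopfIdeal_map [J'.IsHopfIdeal R] (hJ : J = Ideal.map (inc R K A) J') :
    J.IsHopfIdeal K := by
  have hchar : ∀ z ∈ J, ∃ r : R, r ≠ 0 ∧ ∃ j ∈ J', r • z = (1 : K) ⊗ₜ[R] j := by
    intro z hz
    rw [hJ] at hz
    exact (mem_map_iff J' z).mp hz
  have hco : (J'.restrictScalars R).IsCoideal := inferInstance
  refine { toIsCoideal := ⟨?_, ?_⟩, antipode_mem := ?_ }
  · intro z hz
    obtain ⟨r, hr, j, hj, h⟩ := hchar z hz
    apply smul_eq_zero_imp (K := K) hr
    have h1 : Coalgebra.counit (R := K) (r • z) = r • Coalgebra.counit (R := K) z := by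
      rw [← algebraMap_smul K r z, map_smul, algebraMap_smul]
    rw [← h1, h, counit_inc, hco.counit_eq_zero (x := j) hj, map_zero]
  · intro z hz
    obtain ⟨r, hr, j, hj, h⟩ := hchar z hz
    apply smul_eq_zero_imp (K := K) hr
    have h1 : TensorProduct.map (J.restrictScalars K).mkQ (J.restrictScalars K).mkQ
        (Coalgebra.comul (R := K) (r • z)) =
        r • TensorProduct.map (J.restrictScalars K).mkQ (J.restrictScalars K).mkQ
          (Coalgebra.comul (R := K) z) := by
      rw [← algebraMap_smul K r z, map_smul, map_smul, algebraMap_smul]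
    rw [← h1, h, comul_inc, theta_nat J' J hle, hco.map_mkQ_comul_eq_zero (x := j) hj, map_zero]
  · intro z hz
    obtain ⟨r, hr, j, hj, h⟩ := hchar z hz
    have h1 : r • HopfAlgebra.antipode K z = (1 : K) ⊗ₜ[R] (HopfAlgebra.antipode R j) := by
      rw [← antipode_inc, ← h, ← algebraMap_smul K r z, map_smul, algebraMap_smul]
    rw [hJ, mem_map_iff]
    exact ⟨r, hr, _, Ideal.IsHopfIdeal.antipode_mem (R := R) hj, h1⟩

lemma incQ_injective (hJ' : J' = Ideal.comap (inc R K A) J) :
    Function.Injective (incQ J' J hle) := by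
  rw [injective_iff_map_eq_zero]
  intro x hx
  obtain ⟨a, rfl⟩ := Submodule.Quotient.mk_surjective _ x
  rw [incQ_mk, Submodule.Quotient.mk_eq_zero] at hx
  rw [Submodule.Quotient.mk_eq_zero]
  show a ∈ J'
  rw [hJ']
  exact hx

end Hopf

section Dedekind

variable {R : Type u} [CommRing R] [IsDedekindDomain R] {K : Type u} [Field K] [Algebra R K]
  [IsFractionRing R K] {A : Type u} [CommRing A] [HopfAlgebra R A]

lemma flat_of_field_module (N : Type*) [AddCommGroup N] [Module K N] [Module R N]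
    [IsScalarTower R K N] : Module.Flat R N := by
  rw [IsDedekindDomain.flat_iff_torsion_eq_bot, Submodule.eq_bot_iff]
  intro x hx
  rw [Submodule.mem_torsion_iff] at hx
  obtain ⟨a, ha⟩ := hx
  rw [Submonoid.smul_def] at ha
  exact smul_eq_zero_imp (K := K) (nonZeroDivisors.coe_ne_zero a) ha

lemma flat_of_injective {M N : Type*} [AddCommGroup M] [Module R M] [AddCommGroup N] [Module R N]
    [Module.Flat R N] (f : M →ₗ[R] N) (hf : Function.Injective f) : Module.Flat R M := by
  rw [IsDedekindDomain.flat_iff_torsion_eq_bot, Submodule.eq_bot_iff]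
  intro x hx
  rw [Submodule.mem_torsion_iff] at hx
  obtain ⟨a, ha⟩ := hx
  rw [Submonoid.smul_def] at ha
  have h1 : (a : R) • f x = 0 := by
    have := congrArg f ha
    rwa [map_smul, map_zero] at this
  have h2 : f x = 0 := by
    have hreg := Module.Flat.isSMulRegular_of_nonZeroDivisors (M := N) a.2
    apply hreg
    simpa using h1
  exact hf (by rw [h2, map_zero])

/-- The contraction of a Hopf ideal of the generic fibre is a Hopf ideal with flat quotient. -/
theorem isHopfIdeal_comap (J : Ideal (K ⊗[R] A)) [J.IsHopfIdeal K] :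
    (Ideal.comap (inc R K A) J).IsHopfIdeal R ∧ Module.Flat R (A ⧸ Ideal.comap (inc R K A) J) := by
  set J' := Ideal.comap (inc R K A) J with hJ'
  have hle : J' ≤ Ideal.comap (inc R K A) J := le_rfl
  have hinj := incQ_injective J' J hle hJ'
  have hco : (J.restrictScalars K).IsCoideal := inferInstance
  haveI hN : Module.Flat R ((K ⊗[R] A) ⧸ J.restrictScalars K) := flat_of_field_module (K := K) _
  haveI hM : Module.Flat R (A ⧸ J'.restrictScalars R) := flat_of_injective _ hinj
  constructor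
  · refine { toIsCoideal := ⟨?_, ?_⟩, antipode_mem := ?_ }
    · intro a ha
      have h1 : (1 : K) ⊗ₜ[R] a ∈ J.restrictScalars K := ha
      have h2 := hco.counit_eq_zero h1
      rw [counit_inc] at h2
      exact (IsFractionRing.injective R K) (by rw [h2, map_zero])
    · intro a ha
      have h1 : (1 : K) ⊗ₜ[R] a ∈ J.restrictScalars K := ha
      have h2 := hco.map_mkQ_comul_eq_zero h1
      rw [comul_inc, theta_nat J' J hle] at h2
      have hθ : Function.Injective (theta J' J hle) := by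
        unfold theta
        rw [LinearMap.coe_comp]
        refine Function.Injective.comp ?_ ?_
        · exact (IsLocalization.moduleTensorEquiv (nonZeroDivisors R) K _ _).symm.injective
        · exact TensorProduct.map_injective_of_flat_flat' _ _ hinj hinj
      exact hθ (by rw [h2, map_zero])
    · intro a ha
      have h1 : (1 : K) ⊗ₜ[R] a ∈ J := ha
      have h2 := Ideal.IsHopfIdeal.antipode_mem (R := K) h1
      rw [antipode_inc] at h2
      exact h2
  · exact Module.Flat.of_linearEquiv (Submodule.Quotient.restrictScalarsEquiv R J').symm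

end Dedekind

end Groth.Agent.Helper8.HopfDed
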