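import Mathlib

namespace Groth.Agent.Helper8.HopfEpi

open TensorProduct WithConv

universe u v w

section
variable {k : Type*} [CommSemiring k] {A : Type*} [CommSemiring A] [HopfAlgebra k A]

lemma id_antipode_cancel :
    toConv (AlgHom.id k A) * toConv (HopfAlgebra.antipodeAlgHom k A) = 1 := by
  apply WithConv.ofConv_injective
  apply AlgHom.toLinearMap_injective
  apply WithConv.toConv_injective
  rw [AlgHom.toLinearMap_convMul, AlgHom.toLinearMap_convOne]
  simp [LinearMap.id_mul_antipode]

variable {C : Type*} [CommSemiring C] [Algebra k C]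

lemma comp_one (h : A →ₐ[k] C) :
    h.comp (1 : WithConv (A →ₐ[k] A)).ofConv = (1 : WithConv (A →ₐ[k] C)).ofConv := by
  ext a
  simp

lemma inv_left (h : A →ₐ[k] C) :
    toConv (h.comp (HopfAlgebra.antipodeAlgHom k A)) * toConv h = 1 := by
  have := AlgHom.comp_convMul_distrib h (toConv (HopfAlgebra.antipodeAlgHom k A))
    (toConv (AlgHom.id k A))
  rw [AlgHom.antipode_id_cancel, comp_one] at this
  apply WithConv.ofConv_injective
  rw [this]
  simp

lemma inv_right (h : A →ₐ[k] C) :
    toConv h * toConv (h.comp (HopfAlgebra.antipodeAlgHom k A)) = 1 := by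
  have := AlgHom.comp_convMul_distrib h (toConv (AlgHom.id k A))
    (toConv (HopfAlgebra.antipodeAlgHom k A))
  rw [id_antipode_cancel, comp_one] at this
  apply WithConv.ofConv_injective
  rw [this]
  simp

end

theorem main (k : Type u) [Field k] (A : Type v) (B : Type w)
    [CommRing A] [HopfAlgebra k A] [Module.Finite k A]
    [CommRing B] [HopfAlgebra k B] [Module.Finite k B]
    (f : B →ₐc[k] A) (hinj : Function.Injective f)
    (hker : Ideal.map f (RingHom.ker (Bialgebra.counitAlgHom k B)) =
      RingHom.ker (Bialgebra.counitAlgHom k A)) :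
    Function.Bijective f := by
  refine ⟨hinj, ?_⟩
  letI : Algebra B A := (f : B →+* A).toAlgebra
  have hfalg : ∀ b : B, algebraMap B A b = f b := fun b => rfl
  haveI : IsScalarTower k B A := IsScalarTower.of_algebraMap_eq fun r => by
    rw [hfalg]; exact (AlgHomClass.commutes f r).symm
  haveI : Module.Finite B A := Module.Finite.of_restrictScalars_finite k B A
  suffices h : Algebra.IsEpi B A from
    Algebra.isEpi_iff_surjective_algebraMap_of_finite.mp h
  rw [Algebra.isEpi_iff_forall_one_tmul_eq]
  let ι₁ : A →ₐ[k] A ⊗[B] A := Algebra.TensorProduct.includeLeft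
  let ι₂ : A →ₐ[k] A ⊗[B] A :=
    (Algebra.TensorProduct.includeRight : A →ₐ[B] A ⊗[B] A).restrictScalars k
  let fa : B →ₐc[k] A := f
  have hf12 : ι₂.comp (fa : B →ₐ[k] A) = ι₁.comp (fa : B →ₐ[k] A) := by
    ext b
    change (1 : A) ⊗ₜ[B] (f b) = (f b) ⊗ₜ[B] (1 : A)
    rw [← hfalg, Algebra.algebraMap_eq_smul_one, ← TensorProduct.smul_tmul]
  let U : WithConv (A →ₐ[k] A ⊗[B] A) := toConv (ι₁.comp (HopfAlgebra.antipodeAlgHom k A))
  have hu1 : U * toConv ι₁ = 1 := inv_left ι₁
  have hu2 : toConv ι₁ * U = 1 := inv_right ι₁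
  have hT : U * toConv ι₂ = 1 := by
    set T := U * toConv ι₂ with hT
    have h1 : T.ofConv.comp (fa : B →ₐ[k] A) = (1 : WithConv (B →ₐ[k] A ⊗[B] A)).ofConv := by
      rw [hT, AlgHom.convMul_comp_bialgHom_distrib]
      simp only [WithConv.ofConv_toConv]
      rw [hf12]
      have := AlgHom.convMul_comp_bialgHom_distrib U (toConv ι₁) fa
      simp only [WithConv.ofConv_toConv] at this
      rw [← this, hu1]
      ext b
      simp
    have hle : Ideal.map f (RingHom.ker (Bialgebra.counitAlgHom k B)) ≤
        RingHom.ker (T.ofConv : A →+* A ⊗[B] A) := by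
      rw [Ideal.map_le_iff_le_comap]
      intro b hb
      rw [RingHom.mem_ker] at hb
      rw [Ideal.mem_comap, RingHom.mem_ker]
      have := congrArg (fun g => g b) h1
      simp only [AlgHom.comp_apply] at this
      change T.ofConv (f b) = _ at this
      change T.ofConv (f b) = 0
      rw [this, AlgHom.convOne_apply]
      change algebraMap k _ (Bialgebra.counitAlgHom k B b) = 0
      rw [hb, map_zero]
    apply WithConv.ofConv_injective
    ext y
    have hz : y - algebraMap k A (Bialgebra.counitAlgHom k A y) ∈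
        RingHom.ker (Bialgebra.counitAlgHom k A) := by
      rw [RingHom.mem_ker, map_sub, AlgHom.commutes]
      simp
    rw [← hker] at hz
    have hz' := hle hz
    rw [RingHom.mem_ker, map_sub, sub_eq_zero] at hz'
    change T.ofConv y = _ at hz'
    rw [hz']
    simp
  have key : toConv ι₁ = toConv ι₂ := by
    calc toConv ι₁ = toConv ι₁ * (U * toConv ι₂) := by rw [hT, mul_one]
      _ = (toConv ι₁ * U) * toConv ι₂ := (mul_assoc _ _ _).symm
      _ = toConv ι₂ := by rw [hu2, one_mul]
  intro a
  exact (congrArg (fun g => g.ofConv a) key).symm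

end Groth.Agent.Helper8.HopfEpi
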