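import Mathlib

set_option autoImplicit false

namespace Groth.Agent.Helper8.HypEuler

lemma choose_zmod (p : ℕ) [Fact p.Prime] (j e : ℕ) (hd : p ^ j ∣ e + 1) :
    ∀ i, i < p ^ j → ((e.choose i : ℕ) : ZMod p) = (-1) ^ i := by
  intro i
  induction i with
  | zero => intro _; simp
  | succ i ih =>
    intro hi
    have hp : p.Prime := Fact.out
    have h1 : p ∣ (e + 1).choose (i + 1) := by
      by_contra hnd
      have hcop : Nat.Coprime (p ^ j) ((e + 1).choose (i + 1)) :=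
        Nat.Coprime.pow_left _ ((Nat.Prime.coprime_iff_not_dvd hp).2 hnd)
      have h2 : p ^ j ∣ (e + 1).choose (i + 1) * (i + 1) := by
        rw [← Nat.add_one_mul_choose_eq]
        exact Dvd.dvd.mul_right hd _
      have h3 : p ^ j ∣ i + 1 := hcop.dvd_of_dvd_mul_left h2
      have := Nat.le_of_dvd (Nat.succ_pos i) h3
      omega
    have h4 : (((e + 1).choose (i + 1) : ℕ) : ZMod p) = 0 := (ZMod.natCast_eq_zero_iff _ _).2 h1
    rw [Nat.choose_succ_succ, Nat.cast_add, ih (by omega)] at h4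
    rw [pow_succ]
    linear_combination h4

lemma not_dvd_choose (p : ℕ) (hp : p.Prime) (j e : ℕ) (hd : p ^ j ∣ e + 1) (i : ℕ)
    (hi : i < p ^ j) : ¬ p ∣ e.choose i := by
  have : Fact p.Prime := ⟨hp⟩
  intro h
  have h0 : ((e.choose i : ℕ) : ZMod p) = 0 := (ZMod.natCast_eq_zero_iff _ _).2 h
  rw [choose_zmod p j e hd i hi] at h0
  exact ((isUnit_neg_one (α := ZMod p)).pow i).ne_zero h0

/-- `d / gcd(d,k)` divides `C(d,k)`. -/
lemma div_gcd_dvd_choose (e k : ℕ) :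
    (e + 1) / Nat.gcd (e + 1) (k + 1) ∣ (e + 1).choose (k + 1) := by
  set δ := Nat.gcd (e + 1) (k + 1) with hδ
  have hδpos : 0 < δ := Nat.gcd_pos_of_pos_left _ (Nat.succ_pos e)
  have hcop : Nat.Coprime ((e + 1) / δ) ((k + 1) / δ) := Nat.coprime_div_gcd_div_gcd hδpos
  have ha : (e + 1) / δ * δ = e + 1 := Nat.div_mul_cancel (Nat.gcd_dvd_left _ _)
  have hb : (k + 1) / δ * δ = k + 1 := Nat.div_mul_cancel (Nat.gcd_dvd_right _ _)
  have h := Nat.add_one_mul_choose_eq e k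
  have h' : (e + 1) / δ * e.choose k = (e + 1).choose (k + 1) * ((k + 1) / δ) := by
    apply Nat.eq_of_mul_eq_mul_right hδpos
    calc (e + 1) / δ * e.choose k * δ = ((e + 1) / δ * δ) * e.choose k := by ring
      _ = (e + 1).choose (k + 1) * ((k + 1) / δ * δ) := by rw [ha, hb]; exact h
      _ = (e + 1).choose (k + 1) * ((k + 1) / δ) * δ := by ring
  have : (e + 1) / δ ∣ (e + 1).choose (k + 1) * ((k + 1) / δ) := ⟨_, h'.symm⟩
  exact hcop.dvd_of_dvd_mul_right this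

lemma dvd_div_of_dvd_choose (e N g : ℕ) (hg : ∀ k ∈ Finset.Icc 1 N, g ∣ (e + 1).choose k)
    (δ : ℕ) (hδ1 : 1 ≤ δ) (hδN : δ ≤ N) (hδd : δ ∣ e + 1) : g ∣ (e + 1) / δ := by
  rw [Nat.dvd_iff_prime_pow_dvd_dvd]
  intro p k hp hpk
  obtain ⟨j, δ', hδ', rfl⟩ := Nat.exists_eq_pow_mul_and_not_dvd (n := δ) (by omega) p hp.ne_one
  obtain ⟨m, hm⟩ := hδd
  have hpj : 1 ≤ p ^ j := Nat.one_le_pow _ _ hp.pos
  have hδ'pos : 0 < δ' := by
    rcases Nat.eq_zero_or_pos δ' with h | h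
    · rw [h] at hδ1; simp at hδ1
    · exact h
  have hpjN : p ^ j ≤ N := le_trans (Nat.le_mul_of_pos_right _ hδ'pos) hδN
  have hdiv : (e + 1) / (p ^ j * δ') = m := by
    rw [hm]; exact Nat.mul_div_cancel_left _ (by omega)
  rw [hdiv]
  obtain ⟨i, hi⟩ : ∃ i, p ^ j = i + 1 := ⟨p ^ j - 1, by omega⟩
  have h1 : p ^ k ∣ (e + 1).choose (i + 1) :=
    hpk.trans (hg _ (Finset.mem_Icc.2 ⟨by omega, by omega⟩))
  have h2 := Nat.add_one_mul_choose_eq e i
  have hpd : p ^ j ∣ e + 1 := ⟨δ' * m, by rw [hm]; ring⟩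
  have hnd : ¬ p ∣ e.choose i := not_dvd_choose p hp j e hpd i (by omega)
  have h3 : δ' * m * e.choose i = (e + 1).choose (i + 1) := by
    apply Nat.eq_of_mul_eq_mul_right (show 0 < p ^ j by omega)
    calc δ' * m * e.choose i * p ^ j = (p ^ j * δ' * m) * e.choose i := by ring
      _ = (e + 1).succ.pred.succ.pred * e.choose i := by simp [hm]
      _ = (e + 1).choose (i + 1) * p ^ j := by
        simp only [Nat.pred_succ]
        rw [hi]; exact h2
  rw [← h3] at h1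
  have hc1 : Nat.Coprime (p ^ k) δ' :=
    Nat.Coprime.pow_left _ ((Nat.Prime.coprime_iff_not_dvd hp).2 hδ')
  have hc2 : Nat.Coprime (p ^ k) (e.choose i) :=
    Nat.Coprime.pow_left _ ((Nat.Prime.coprime_iff_not_dvd hp).2 hnd)
  have h4 : p ^ k ∣ δ' * m := hc2.dvd_of_dvd_mul_right h1
  exact hc1.dvd_of_dvd_mul_left h4

theorem main (d N : ℕ) (hd : 1 ≤ d) (hN : 1 ≤ N) :
    (Finset.Icc 1 N).gcd (fun n => 1 - (-1 : ℤ) ^ n * ((d - 1).choose n : ℤ)) =
      ((Finset.Icc 1 N).filter (fun δ => δ ∣ d)).gcd (fun δ => ((d / δ : ℕ) : ℤ)) := by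
  obtain ⟨e, rfl⟩ : ∃ e, d = e + 1 := ⟨d - 1, by omega⟩
  simp only [Nat.add_sub_cancel]
  set χ : ℕ → ℤ := fun n => 1 - (-1 : ℤ) ^ n * (e.choose n : ℤ) with hχ
  have hχ0 : χ 0 = 0 := by simp [hχ]
  have hχs : ∀ k, χ (k + 1) - χ k = (-1) ^ k * ((e + 1).choose (k + 1) : ℤ) := by
    intro k
    simp only [hχ]
    rw [Nat.choose_succ_succ]
    push_cast
    ring
  have h1 : ∀ g : ℤ, (∀ n ∈ Finset.Icc 1 N, g ∣ χ n) ↔
      (∀ k ∈ Finset.Icc 1 N, g ∣ ((e + 1).choose k : ℤ)) := by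
    intro g
    constructor
    · intro h k hk
      rw [Finset.mem_Icc] at hk
      obtain ⟨k', rfl⟩ : ∃ k', k = k' + 1 := ⟨k - 1, by omega⟩
      have hk1 : g ∣ χ (k' + 1) := h _ (Finset.mem_Icc.2 hk)
      have hk0 : g ∣ χ k' := by
        rcases Nat.eq_zero_or_pos k' with rfl | hpos
        · rw [hχ0]; exact dvd_zero _
        · exact h _ (Finset.mem_Icc.2 ⟨hpos, by omega⟩)
      have := dvd_sub hk1 hk0
      rw [hχs] at this
      exact (IsUnit.dvd_mul_left ((isUnit_neg_one (α := ℤ)).pow k')).1 this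
    · intro h
      have : ∀ n, n ≤ N → g ∣ χ n := by
        intro n
        induction n with
        | zero => intro _; rw [hχ0]; exact dvd_zero _
        | succ n ih =>
          intro hn
          have e1 : χ (n + 1) = χ n + (-1) ^ n * ((e + 1).choose (n + 1) : ℤ) := by
            rw [← hχs]; ring
          rw [e1]
          exact dvd_add (ih (by omega))
            (Dvd.dvd.mul_left (h _ (Finset.mem_Icc.2 ⟨by omega, hn⟩)) _)
      intro n hn
      exact this n (Finset.mem_Icc.1 hn).2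
  apply dvd_antisymm_of_normalize_eq (Finset.normalize_gcd) (Finset.normalize_gcd)
  · rw [Finset.dvd_gcd_iff]
    intro δ hδ
    rw [Finset.mem_filter, Finset.mem_Icc] at hδ
    obtain ⟨⟨hδ1, hδN⟩, hδd⟩ := hδ
    have hG : ∀ k ∈ Finset.Icc 1 N, (Finset.Icc 1 N).gcd χ ∣ ((e + 1).choose k : ℤ) :=
      (h1 _).1 (fun n hn => Finset.gcd_dvd hn)
    rw [Int.dvd_natCast]
    apply dvd_div_of_dvd_choose e N _ _ δ hδ1 hδN hδd
    intro k hk
    have := hG k hk
    rwa [Int.dvd_natCast] at this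
  · rw [Finset.dvd_gcd_iff]
    refine (h1 _).2 ?_
    intro k hk
    rw [Finset.mem_Icc] at hk
    obtain ⟨k', rfl⟩ : ∃ k', k = k' + 1 := ⟨k - 1, by omega⟩
    have hδmem : Nat.gcd (e + 1) (k' + 1) ∈ (Finset.Icc 1 N).filter (fun δ => δ ∣ e + 1) := by
      rw [Finset.mem_filter, Finset.mem_Icc]
      refine ⟨⟨Nat.gcd_pos_of_pos_left _ (Nat.succ_pos e), ?_⟩, Nat.gcd_dvd_left _ _⟩
      exact le_trans (Nat.le_of_dvd (Nat.succ_pos k') (Nat.gcd_dvd_right _ _)) hk.2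
    refine dvd_trans (Finset.gcd_dvd hδmem) ?_
    exact Int.natCast_dvd_natCast.2 (div_gcd_dvd_choose e k')

end Groth.Agent.Helper8.HypEuler
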