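import Mathlib
import Groth.Prelude.Def_Desc
import Groth.Agent.Helper8.DDGrpd
import Groth.Agent.Helper8.DGlueA
import Groth.Agent.Helper8.DescAffA
import Groth.Agent.Helper8.DescAffC

/-!
# Descent of quasi-affine schemes: the affine hull of a descent datum

For `p : X ⟶ S` a flat morphism of affine schemes and a descent datum `D` on a quasi-compact
quasi-separated `V ⟶ X`, the affine hull `V̄ = Spec Γ(V)` carries a descent datum (`hullDD`), and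
`V ⟶ V̄` is a morphism of descent data.  Hence descent data on quasi-affine schemes are effective.
-/

set_option autoImplicit false
universe u

namespace Groth.Agent.Helper8.QAff

open CategoryTheory CategoryTheory.Limits AlgebraicGeometry
open Groth.Agent.Helper8.DDGrpd Groth.Agent.Helper8.DGlue

section Basic

lemma exists_appTop (Z : Scheme.{u}) [IsAffine Z] {T : Scheme.{u}} (φ : Γ(Z, ⊤) ⟶ Γ(T, ⊤)) :
    ∃ m : T ⟶ Z, m.appTop = φ := by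
  refine ⟨T.toSpecΓ ≫ Spec.map φ ≫ Z.isoSpec.inv, ?_⟩
  have h1 : Z.isoSpec.inv.appTop ≫ Z.toSpecΓ.appTop = 𝟙 _ := by
    rw [← Scheme.Hom.comp_appTop]
    have : Z.toSpecΓ ≫ Z.isoSpec.inv = 𝟙 _ := Z.isoSpec.hom_inv_id
    rw [this]; rfl
  rw [Scheme.Hom.comp_appTop, Scheme.Hom.comp_appTop, Scheme.toSpecΓ_appTop, Category.assoc,
    Scheme.ΓSpecIso_naturality, ← Category.assoc, ← Scheme.toSpecΓ_appTop, h1, Category.id_comp]

lemma appLE_top_top {X Y : Scheme.{u}} (f : X ⟶ Y) (e : (⊤ : X.Opens) ≤ f ⁻¹ᵁ ⊤) :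
    f.appLE ⊤ ⊤ e = f.appTop := by
  simp [Scheme.Hom.appLE]

/-- flat base change for global sections -/
theorem isPushout_appTop {V X S Y : Scheme.{u}} [IsAffine X] [IsAffine S] [CompactSpace V]
    [QuasiSeparatedSpace V] {g : Y ⟶ V} {iY : Y ⟶ X} {iV : V ⟶ S} {p : X ⟶ S} [Flat p]
    (H : IsPullback g iY iV p) : IsPushout iV.appTop p.appTop g.appTop iY.appTop := by
  have hUY : (⊤ : Y.Opens) = g ⁻¹ᵁ ⊤ ⊓ iY ⁻¹ᵁ ⊤ := by simp
  have hUST : (⊤ : X.Opens) ≤ p ⁻¹ᵁ ⊤ := fun _ _ => trivial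
  have hUSX : (⊤ : V.Opens) ≤ iV ⁻¹ᵁ ⊤ := fun _ _ => trivial
  have h := isIso_pushoutSection_of_isQuasiSeparated_of_flat_right H (US := ⊤) (UT := ⊤) (UX := ⊤)
    (UY := ⊤) hUST hUSX hUY (isAffineOpen_top S) (isAffineOpen_top X)
    CompactSpace.isCompact_univ isQuasiSeparated_univ
  have h2 := (isIso_pushoutSection_iff H hUST hUSX hUY).mp h
  rwa [appLE_top_top, appLE_top_top, appLE_top_top, appLE_top_top] at h2

end Basic

section Hull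

variable {X S : Scheme.{u}} {p : X ⟶ S} (D : Desc.SchDD p) [IsAffine X] [IsAffine S] [Flat p]
  [CompactSpace D.obj.left] [QuasiSeparatedSpace D.obj.left]
  {Vb : Scheme.{u}} [IsAffine Vb] (η : D.obj.left ⟶ Vb) [IsIso η.appTop] (fb : Vb ⟶ X)
  (hfb : η ≫ fb = D.obj.hom)

include hfb in
omit [IsAffine X] [IsAffine S] [Flat p] [CompactSpace D.obj.left] [QuasiSeparatedSpace D.obj.left]
  [IsAffine Vb] [IsIso η.appTop] in
lemma f_appTop : (f D).appTop = (p.appTop ≫ fb.appTop) ≫ η.appTop := by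
  show (D.obj.hom ≫ p).appTop = _
  rw [← hfb, Scheme.Hom.comp_appTop, Scheme.Hom.comp_appTop, Category.assoc]

include hfb in
omit [IsAffine Vb] in
lemma po1 : IsPushout (p.appTop ≫ fb.appTop) p.appTop (η.appTop ≫ (sR D).appTop)
    (xR D).appTop := by
  have h0 : IsPushout (f D).appTop p.appTop (sR D).appTop (xR D).appTop :=
    isPushout_appTop (IsPullback.of_hasPullback (f D) p)
  refine h0.of_iso (Iso.refl _) (asIso η.appTop).symm (Iso.refl _) (Iso.refl _) ?_ ?_ ?_ ?_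
  · rw [f_appTop D η fb hfb]
    simp
  · simp
  · simp
  · simp

omit [IsAffine X] [IsAffine S] [Flat p] [CompactSpace D.obj.left] [QuasiSeparatedSpace D.obj.left]
  [IsAffine Vb] in
lemma phi_cond {T : Scheme.{u}} (vb : T ⟶ Vb) (x₁ : T ⟶ X) (h : (vb ≫ fb) ≫ p = x₁ ≫ p) :
    (p.appTop ≫ fb.appTop) ≫ vb.appTop = p.appTop ≫ x₁.appTop := by
  rw [Category.assoc, ← Scheme.Hom.comp_appTop, ← Scheme.Hom.comp_appTop,
    ← Scheme.Hom.comp_appTop, h]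

/-- the ring map classifying the pair `(v̄, x₁)` -/
noncomputable def phi {T : Scheme.{u}} (vb : T ⟶ Vb) (x₁ : T ⟶ X) (h : (vb ≫ fb) ≫ p = x₁ ≫ p) :
    Γ(R D, ⊤) ⟶ Γ(T, ⊤) :=
  (po1 D η fb hfb).desc vb.appTop x₁.appTop (phi_cond fb vb x₁ h)

omit [IsAffine Vb] in
lemma s_phi {T : Scheme.{u}} (vb : T ⟶ Vb) (x₁ : T ⟶ X) (h : (vb ≫ fb) ≫ p = x₁ ≫ p) :
    η.appTop ≫ (sR D).appTop ≫ phi D η fb hfb vb x₁ h = vb.appTop := by
  have := (po1 D η fb hfb).inl_desc vb.appTop x₁.appTop (phi_cond fb vb x₁ h)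
  rw [Category.assoc] at this
  exact this

omit [IsAffine Vb] in
lemma x_phi {T : Scheme.{u}} (vb : T ⟶ Vb) (x₁ : T ⟶ X) (h : (vb ≫ fb) ≫ p = x₁ ≫ p) :
    (xR D).appTop ≫ phi D η fb hfb vb x₁ h = x₁.appTop :=
  (po1 D η fb hfb).inr_desc vb.appTop x₁.appTop (phi_cond fb vb x₁ h)

include hfb in
omit [IsAffine Vb] in
lemma phi_ext {K : CommRingCat.{u}} {a b : Γ(R D, ⊤) ⟶ K}
    (h1 : η.appTop ≫ (sR D).appTop ≫ a = η.appTop ≫ (sR D).appTop ≫ b)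
    (h2 : (xR D).appTop ≫ a = (xR D).appTop ≫ b) : a = b :=
  (po1 D η fb hfb).hom_ext (by simpa only [Category.assoc] using h1) h2

omit [IsAffine Vb] in
lemma phi_comp {T T' : Scheme.{u}} (g : T' ⟶ T) (vb : T ⟶ Vb) (x₁ : T ⟶ X)
    (h : (vb ≫ fb) ≫ p = x₁ ≫ p) (h' : ((g ≫ vb) ≫ fb) ≫ p = (g ≫ x₁) ≫ p) :
    phi D η fb hfb vb x₁ h ≫ g.appTop = phi D η fb hfb (g ≫ vb) (g ≫ x₁) h' := by
  apply phi_ext D η fb hfb
  · rw [← Category.assoc (sR D).appTop, ← Category.assoc η.appTop, ← Category.assoc η.appTop,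
      Category.assoc η.appTop, s_phi, s_phi, Scheme.Hom.comp_appTop]
  · rw [← Category.assoc, x_phi, x_phi, Scheme.Hom.comp_appTop]

/-- the transport on the affine hull -/
noncomputable def tb {T : Scheme.{u}} (x₀ x₁ : T ⟶ X) (h : x₀ ≫ p = x₁ ≫ p) (vb : T ⟶ Vb)
    (hvb : vb ≫ fb = x₀) : T ⟶ Vb :=
  (exists_appTop Vb (η.appTop ≫ (tR D).appTop ≫ phi D η fb hfb vb x₁ (by rw [hvb, h]))).choose

lemma tb_appTop {T : Scheme.{u}} (x₀ x₁ : T ⟶ X) (h : x₀ ≫ p = x₁ ≫ p) (vb : T ⟶ Vb)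
    (hvb : vb ≫ fb = x₀) :
    (tb D η fb hfb x₀ x₁ h vb hvb).appTop =
      η.appTop ≫ (tR D).appTop ≫ phi D η fb hfb vb x₁ (by rw [hvb, h]) :=
  (exists_appTop Vb (η.appTop ≫ (tR D).appTop ≫ phi D η fb hfb vb x₁ (by rw [hvb, h]))).choose_spec

lemma tb_hom {T : Scheme.{u}} (x₀ x₁ : T ⟶ X) (h : x₀ ≫ p = x₁ ≫ p) (vb : T ⟶ Vb)
    (hvb : vb ≫ fb = x₀) : tb D η fb hfb x₀ x₁ h vb hvb ≫ fb = x₁ := by
  apply ext_of_isAffine
  rw [Scheme.Hom.comp_appTop, tb_appTop, ← Category.assoc, ← Scheme.Hom.comp_appTop, hfb,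
    ← Category.assoc, ← Scheme.Hom.comp_appTop, tR_hom, x_phi]

lemma tb_nat {T T' : Scheme.{u}} (g : T' ⟶ T) (x₀ x₁ : T ⟶ X) (h : x₀ ≫ p = x₁ ≫ p) (vb : T ⟶ Vb)
    (hvb : vb ≫ fb = x₀) (h' : (g ≫ x₀) ≫ p = (g ≫ x₁) ≫ p) (hvb' : (g ≫ vb) ≫ fb = g ≫ x₀) :
    g ≫ tb D η fb hfb x₀ x₁ h vb hvb = tb D η fb hfb (g ≫ x₀) (g ≫ x₁) h' (g ≫ vb) hvb' := by
  apply ext_of_isAffine
  rw [Scheme.Hom.comp_appTop, tb_appTop, tb_appTop, Category.assoc, Category.assoc, phi_comp]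

lemma tb_self {T : Scheme.{u}} (x : T ⟶ X) (vb : T ⟶ Vb) (hvb : vb ≫ fb = x) :
    tb D η fb hfb x x rfl vb hvb = vb := by
  apply ext_of_isAffine
  rw [tb_appTop]
  have hσε : (sR D).appTop ≫ (eR D).appTop = 𝟙 _ := by
    rw [← Scheme.Hom.comp_appTop, eR_s]; rfl
  have hξε : (xR D).appTop ≫ (eR D).appTop = fb.appTop ≫ η.appTop := by
    rw [← Scheme.Hom.comp_appTop, eR_x, ← hfb, Scheme.Hom.comp_appTop]
  have hτε : (tR D).appTop ≫ (eR D).appTop = 𝟙 _ := by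
    rw [← Scheme.Hom.comp_appTop, eR_t]; rfl
  have hφ : phi D η fb hfb vb x (by rw [hvb]) = (eR D).appTop ≫ inv η.appTop ≫ vb.appTop := by
    apply phi_ext D η fb hfb
    · rw [s_phi, ← Category.assoc (sR D).appTop, hσε, Category.id_comp, IsIso.hom_inv_id_assoc]
    · rw [x_phi, ← Category.assoc (xR D).appTop, hξε, Category.assoc, IsIso.hom_inv_id_assoc,
        ← Scheme.Hom.comp_appTop, hvb]
  rw [hφ, ← Category.assoc (tR D).appTop, hτε, Category.id_comp, IsIso.hom_inv_id_assoc]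

end Hull

section R2

variable {X S : Scheme.{u}} {p : X ⟶ S} (D : Desc.SchDD p)

/-- triples `(v, x₁, x₂)` -/
noncomputable abbrev R2 : Scheme.{u} := pullback (sR D ≫ f D) p

/-- `(v, x₁, x₂) ↦ (v, x₁)` -/
noncomputable abbrev m1 : R2 D ⟶ R D := pullback.fst (sR D ≫ f D) p

/-- `(v, x₁, x₂) ↦ x₂` -/
noncomputable abbrev x2 : R2 D ⟶ X := pullback.snd (sR D ≫ f D) p

lemma R2_cond : (m1 D ≫ sR D) ≫ f D = x2 D ≫ p := by
  rw [Category.assoc]; exact pullback.condition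

lemma R2_cond' : (m1 D ≫ tR D) ≫ f D = x2 D ≫ p := by
  rw [← R2_cond D]
  show (m1 D ≫ tR D) ≫ D.obj.hom ≫ p = (m1 D ≫ sR D) ≫ D.obj.hom ≫ p
  rw [Category.assoc, ← Category.assoc (tR D), tR_hom, ← cond D, Category.assoc, Category.assoc]

/-- `(v, x₁, x₂) ↦ (t(v, x₁), x₂)` -/
noncomputable def m2 : R2 D ⟶ R D := pullback.lift (m1 D ≫ tR D) (x2 D) (R2_cond' D)

/-- `(v, x₁, x₂) ↦ (v, x₂)` -/
noncomputable def m02 : R2 D ⟶ R D := pullback.lift (m1 D ≫ sR D) (x2 D) (R2_cond D)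

lemma m2_s : m2 D ≫ sR D = m1 D ≫ tR D := pullback.lift_fst _ _ _
lemma m2_x : m2 D ≫ xR D = x2 D := pullback.lift_snd _ _ _
lemma m02_s : m02 D ≫ sR D = m1 D ≫ sR D := pullback.lift_fst _ _ _
lemma m02_x : m02 D ≫ xR D = x2 D := pullback.lift_snd _ _ _

lemma m2_t : m2 D ≫ tR D = m02 D ≫ tR D := by
  have h01 : ((m1 D ≫ sR D) ≫ D.obj.hom) ≫ p = (m1 D ≫ xR D) ≫ p := comp_cond D (m1 D) _ rfl
  have h12 : (m1 D ≫ xR D) ≫ p = x2 D ≫ p := by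
    rw [← h01, ← R2_cond D]; simp only [Category.assoc]
  have e1 : m1 D ≫ tR D = tr D ((m1 D ≫ sR D) ≫ D.obj.hom) (m1 D ≫ xR D) h01 (m1 D ≫ sR D) rfl :=
    comp_tR D (m1 D) _ rfl
  have hx : (m2 D ≫ sR D) ≫ D.obj.hom = m1 D ≫ xR D := by
    rw [m2_s, Category.assoc, tR_hom]
  have e2 : m2 D ≫ tR D = tr D (m1 D ≫ xR D) (x2 D) h12
      (tr D ((m1 D ≫ sR D) ≫ D.obj.hom) (m1 D ≫ xR D) h01 (m1 D ≫ sR D) rfl) (tr_hom D _ _ _ _ _) := by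
    rw [comp_tR D (m2 D) (m1 D ≫ xR D) hx]
    exact tr_congr D rfl (m2_x D) ((m2_s D).trans e1) _ _ _ _
  have hx' : (m02 D ≫ sR D) ≫ D.obj.hom = (m1 D ≫ sR D) ≫ D.obj.hom := by rw [m02_s]
  have e3 : m02 D ≫ tR D = tr D ((m1 D ≫ sR D) ≫ D.obj.hom) (x2 D) (h01.trans h12) (m1 D ≫ sR D) rfl := by
    rw [comp_tR D (m02 D) _ hx']
    exact tr_congr D rfl (m02_x D) (m02_s D) _ _ _ _
  rw [e2, e3]
  exact tr_tr D _ _ _ h01 h12 _ rfl

end R2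

section Hull2

variable {X S : Scheme.{u}} {p : X ⟶ S} (D : Desc.SchDD p) [IsAffine X] [IsAffine S] [Flat p]
  [CompactSpace D.obj.left] [QuasiSeparatedSpace D.obj.left]
  {Vb : Scheme.{u}} [IsAffine Vb] (η : D.obj.left ⟶ Vb) [IsIso η.appTop] (fb : Vb ⟶ X)
  (hfb : η ≫ fb = D.obj.hom)

omit [Flat p] [QuasiSeparatedSpace D.obj.left] in
lemma compactSpace_R : CompactSpace (R D) := by
  haveI : QuasiCompact (sR D) := inferInstanceAs (QuasiCompact (pullback.fst (f D) p))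
  exact QuasiCompact.compactSpace_of_compactSpace (sR D)

omit [IsAffine S] [Flat p] [CompactSpace D.obj.left] in
lemma quasiSeparatedSpace_R : QuasiSeparatedSpace (R D) := by
  haveI : QuasiSeparated (sR D) := inferInstanceAs (QuasiSeparated (pullback.fst (f D) p))
  exact quasiSeparatedSpace_of_quasiSeparated (sR D)

lemma po2 : IsPushout (sR D ≫ f D).appTop p.appTop (m1 D).appTop (x2 D).appTop := by
  haveI := compactSpace_R D
  haveI := quasiSeparatedSpace_R D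
  exact isPushout_appTop (IsPullback.of_hasPullback (sR D ≫ f D) p)

include hfb in
omit [IsAffine Vb] in
lemma theta_cond {T : Scheme.{u}} (vb : T ⟶ Vb) (x₁ x₂ : T ⟶ X) (h₁ : (vb ≫ fb) ≫ p = x₁ ≫ p)
    (h₂ : (vb ≫ fb) ≫ p = x₂ ≫ p) :
    (sR D ≫ f D).appTop ≫ phi D η fb hfb vb x₁ h₁ = p.appTop ≫ x₂.appTop := by
  rw [Scheme.Hom.comp_appTop, f_appTop D η fb hfb, Category.assoc, Category.assoc, s_phi,
    phi_cond fb vb x₂ h₂]

/-- the ring map classifying the triple `(v̄, x₁, x₂)` -/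
noncomputable def theta {T : Scheme.{u}} (vb : T ⟶ Vb) (x₁ x₂ : T ⟶ X)
    (h₁ : (vb ≫ fb) ≫ p = x₁ ≫ p) (h₂ : (vb ≫ fb) ≫ p = x₂ ≫ p) : Γ(R2 D, ⊤) ⟶ Γ(T, ⊤) :=
  (po2 D).desc (phi D η fb hfb vb x₁ h₁) x₂.appTop (theta_cond D η fb hfb vb x₁ x₂ h₁ h₂)

omit [IsAffine Vb] in
lemma m1_theta {T : Scheme.{u}} (vb : T ⟶ Vb) (x₁ x₂ : T ⟶ X)
    (h₁ : (vb ≫ fb) ≫ p = x₁ ≫ p) (h₂ : (vb ≫ fb) ≫ p = x₂ ≫ p) :
    (m1 D).appTop ≫ theta D η fb hfb vb x₁ x₂ h₁ h₂ = phi D η fb hfb vb x₁ h₁ :=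
  (po2 D).inl_desc _ _ _

omit [IsAffine Vb] in
lemma x2_theta {T : Scheme.{u}} (vb : T ⟶ Vb) (x₁ x₂ : T ⟶ X)
    (h₁ : (vb ≫ fb) ≫ p = x₁ ≫ p) (h₂ : (vb ≫ fb) ≫ p = x₂ ≫ p) :
    (x2 D).appTop ≫ theta D η fb hfb vb x₁ x₂ h₁ h₂ = x₂.appTop :=
  (po2 D).inr_desc _ _ _

lemma tb_comp {T : Scheme.{u}} (x₀ x₁ x₂ : T ⟶ X) (h₀₁ : x₀ ≫ p = x₁ ≫ p) (h₁₂ : x₁ ≫ p = x₂ ≫ p)
    (vb : T ⟶ Vb) (hvb : vb ≫ fb = x₀) :
    tb D η fb hfb x₁ x₂ h₁₂ (tb D η fb hfb x₀ x₁ h₀₁ vb hvb) (tb_hom D η fb hfb x₀ x₁ h₀₁ vb hvb) =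
      tb D η fb hfb x₀ x₂ (h₀₁.trans h₁₂) vb hvb := by
  have h₁ : (vb ≫ fb) ≫ p = x₁ ≫ p := by rw [hvb, h₀₁]
  have h₂ : (vb ≫ fb) ≫ p = x₂ ≫ p := by rw [hvb, h₀₁, h₁₂]
  have hw : (tb D η fb hfb x₀ x₁ h₀₁ vb hvb ≫ fb) ≫ p = x₂ ≫ p := by rw [tb_hom, h₁₂]
  have k2 : phi D η fb hfb (tb D η fb hfb x₀ x₁ h₀₁ vb hvb) x₂ hw =
      (m2 D).appTop ≫ theta D η fb hfb vb x₁ x₂ h₁ h₂ := by
    apply phi_ext D η fb hfb
    · rw [s_phi, tb_appTop, ← Category.assoc (sR D).appTop, ← Scheme.Hom.comp_appTop, m2_s,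
        Scheme.Hom.comp_appTop, Category.assoc (tR D).appTop, m1_theta]
    · rw [x_phi, ← Category.assoc, ← Scheme.Hom.comp_appTop, m2_x, x2_theta]
  have k02 : phi D η fb hfb vb x₂ h₂ = (m02 D).appTop ≫ theta D η fb hfb vb x₁ x₂ h₁ h₂ := by
    apply phi_ext D η fb hfb
    · rw [s_phi, ← Category.assoc (sR D).appTop, ← Scheme.Hom.comp_appTop, m02_s,
        Scheme.Hom.comp_appTop, Category.assoc (sR D).appTop, m1_theta, s_phi]
    · rw [x_phi, ← Category.assoc, ← Scheme.Hom.comp_appTop, m02_x, x2_theta]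
  apply ext_of_isAffine
  rw [tb_appTop, tb_appTop, k2, k02, ← Category.assoc (tR D).appTop, ← Scheme.Hom.comp_appTop,
    m2_t, Scheme.Hom.comp_appTop, Category.assoc (tR D).appTop]

/-- the descent datum on the affine hull -/
noncomputable def hullDD : Desc.SchDD p :=
  DescAff.mkDD (Over.mk fb) (fun _ x₀ x₁ h vb hvb => tb D η fb hfb x₀ x₁ h vb hvb)
    (fun _ x₀ x₁ h vb hvb => tb_hom D η fb hfb x₀ x₁ h vb hvb)
    (fun _ _ g x₀ x₁ h vb hvb h' hvb' => tb_nat D η fb hfb g x₀ x₁ h vb hvb h' hvb')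
    (fun _ x vb hvb => tb_self D η fb hfb x vb hvb)
    (fun _ x₀ x₁ x₂ h₀₁ h₁₂ vb hvb => tb_comp D η fb hfb x₀ x₁ x₂ h₀₁ h₁₂ vb hvb)

lemma tr_hullDD {T : Scheme.{u}} (x₀ x₁ : T ⟶ X) (h : x₀ ≫ p = x₁ ≫ p) (vb : T ⟶ Vb)
    (hvb : vb ≫ fb = x₀) :
    tr (hullDD D η fb hfb) x₀ x₁ h vb hvb = tb D η fb hfb x₀ x₁ h vb hvb := rfl

/-- the morphism to the affine hull is a morphism of descent data -/
noncomputable def etaHom : D ⟶ hullDD D η fb hfb :=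
  mkHom (Over.homMk η hfb) (by
    intro T x₀ x₁ h v hv
    show tb D η fb hfb x₀ x₁ h (v ≫ η) (by rw [Category.assoc, hfb, hv]) = tr D x₀ x₁ h v hv ≫ η
    have hc : v ≫ f D = x₁ ≫ p := by rw [← Category.assoc, hv, h]
    have h1 : pullback.lift v x₁ hc ≫ sR D = v := pullback.lift_fst _ _ _
    have h2 : pullback.lift v x₁ hc ≫ xR D = x₁ := pullback.lift_snd _ _ _
    have h3 : pullback.lift v x₁ hc ≫ tR D = tr D x₀ x₁ h v hv := by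
      rw [comp_tR D _ x₀ (by rw [h1, hv])]
      exact tr_congr D rfl h2 h1 _ _ _ _
    have hvη : ((v ≫ η) ≫ fb) ≫ p = x₁ ≫ p := by rw [Category.assoc v η fb, hfb, hv, h]
    have hφ : phi D η fb hfb (v ≫ η) x₁ hvη = (pullback.lift v x₁ hc).appTop := by
      apply phi_ext D η fb hfb
      · rw [s_phi, ← Scheme.Hom.comp_appTop, h1, Scheme.Hom.comp_appTop]
      · rw [x_phi, ← Scheme.Hom.comp_appTop, h2]
    apply ext_of_isAffine
    rw [tb_appTop, hφ, ← Scheme.Hom.comp_appTop, h3, Scheme.Hom.comp_appTop])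

lemma etaHom_left : (etaHom D η fb hfb).hom.left = η := rfl

end Hull2

end Groth.Agent.Helper8.QAff
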