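import Mathlib
import Groth.Prelude.Def_Desc
import Groth.Prelude.Def_Mor2
import Groth.Agent.Helper8.QAffA
import Groth.Agent.Helper8.DGlueC
import Groth.Agent.Helper8.DescAffB
import Groth.Agent.Helper8.DescAffC

/-!
# fpqc descent of quasi-affine schemes

`effective_of_isQuasiAffine`: descent data relative to an fpqc morphism whose total space is quasi-affine
over the cover are effective.
-/

set_option autoImplicit false
universe u

namespace Groth.Agent.Helper8.QAff

open CategoryTheory CategoryTheory.Limits AlgebraicGeometry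
open Groth.Agent.Helper8.DDGrpd Groth.Agent.Helper8.DGlue Groth.Agent.Helper8.DescAff

section Open

variable {X S : Scheme.{u}} {p : X ⟶ S}

/-- the range of an open immersion of descent data is stable -/
theorem isSt_range_gen {D' D : Desc.SchDD p} (e : D' ⟶ D) [IsOpenImmersion e.hom.left]
    (W : D.obj.left.Opens) (hW : Set.range e.hom.left = (W : Set D.obj.left)) : IsSt D W := by
  have key : ∀ r : R D, sR D r ∈ W → tR D r ∈ W := by
    intro r hr
    let Ω : (R D).Opens := sR D ⁻¹ᵁ W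
    have hrΩ : r ∈ Ω := hr
    let a : Ω.toScheme ⟶ D.obj.left := Ω.ι ≫ sR D
    have hra : Set.range a ⊆ Set.range e.hom.left := by
      rintro _ ⟨ω, rfl⟩
      rw [hW]
      show (Ω.ι ≫ sR D) ω ∈ W
      rw [Scheme.Hom.comp_apply]
      exact ω.2
    let a' : Ω.toScheme ⟶ D'.obj.left := IsOpenImmersion.lift e.hom.left a hra
    have ha' : a' ≫ e.hom.left = a := IsOpenImmersion.lift_fac e.hom.left a hra
    have hx₀ : (Ω.ι ≫ sR D) ≫ D.obj.hom = a' ≫ D'.obj.hom := by
      rw [← Over.w e.hom, ← Category.assoc, ha']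
    have e1 := comp_tR D Ω.ι (a' ≫ D'.obj.hom) hx₀
    have e2 := tr_map e (a' ≫ D'.obj.hom) (Ω.ι ≫ xR D) (comp_cond D Ω.ι _ hx₀) a' rfl
    have e3 : Ω.ι ≫ tR D =
        tr D' (a' ≫ D'.obj.hom) (Ω.ι ≫ xR D) (comp_cond D Ω.ι _ hx₀) a' rfl ≫ e.hom.left := by
      rw [e1, ← e2]
      exact tr_congr D rfl rfl ha'.symm _ _ _ _
    have e4 : tR D r = (Ω.ι ≫ tR D) ⟨r, hrΩ⟩ := by
      rw [Scheme.Hom.comp_apply]; rfl
    rw [e4, e3, Scheme.Hom.comp_apply]
    have : e.hom.left ((tr D' (a' ≫ D'.obj.hom) (Ω.ι ≫ xR D)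
          (comp_cond D Ω.ι _ hx₀) a' rfl) ⟨r, hrΩ⟩) ∈ Set.range e.hom.left := ⟨_, rfl⟩
    rw [hW] at this
    exact this
  intro r
  refine ⟨key r, fun hr => ?_⟩
  have h1 : sR D (iR D r) = tR D r := by rw [← Scheme.Hom.comp_apply, iR_s]
  have h2 : tR D (iR D r) = sR D r := by rw [← Scheme.Hom.comp_apply, iR_t]
  rw [← h2]
  exact key _ (by rw [h1]; exact hr)

variable [Surjective p] [Flat p] [QuasiCompact p]

/-- the source of an open immersion of descent data into an effective descent datum is effective -/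
theorem effective_of_openImmersion {D Db : Desc.SchDD p} (η : D ⟶ Db) [IsOpenImmersion η.hom.left]
    (h : ∃ Ub : Over S, Nonempty ((Desc.toDD p).obj Ub ≅ Db)) :
    ∃ U : Over S, Nonempty ((Desc.toDD p).obj U ≅ D) := by
  obtain ⟨Ub, ⟨eb⟩⟩ := h
  let W : Db.obj.left.Opens := η.hom.left.opensRange
  have hWr : Set.range η.hom.left = (W : Set Db.obj.left) := rfl
  have hW : IsSt Db W := isSt_range_gen η W hWr
  haveI : IsIso eb.hom.hom.left :=
    ⟨eb.inv.hom.left,
      congrArg (fun m : (Desc.toDD p).obj Ub ⟶ (Desc.toDD p).obj Ub => m.hom.left) eb.hom_inv_id,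
      congrArg (fun m : Db ⟶ Db => m.hom.left) eb.inv_hom_id⟩
  have hEff : Eff Db ⊤ := by
    refine ⟨Ub, eb.hom, inferInstance, ?_⟩
    rw [Set.range_eq_univ.mpr]
    · rfl
    · intro y
      refine ⟨eb.inv.hom.left y, ?_⟩
      rw [← Scheme.Hom.comp_apply]
      have h1 : eb.inv.hom.left ≫ eb.hom.hom.left = 𝟙 _ :=
        congrArg (fun m : Db ⟶ Db => m.hom.left) eb.inv_hom_id
      rw [h1]; rfl
  obtain ⟨U₀, e₀, he₀, hr₀⟩ := hEff.inf hW
  haveI := he₀
  have hr₀' : Set.range e₀.hom.left = Set.range η.hom.left := by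
    rw [hr₀, hWr]
    simp
  obtain ⟨c, hc⟩ := exists_lift e₀ η hr₀'.le
  obtain ⟨c', hc'⟩ := exists_lift η e₀ hr₀'.ge
  haveI : Mono e₀.hom.left := inferInstance
  haveI : Mono η.hom.left := inferInstance
  exact ⟨U₀, ⟨⟨c, c', hom_ext_of_mono e₀ (by rw [Category.assoc, hc', hc, Category.id_comp]),
    hom_ext_of_mono η (by rw [Category.assoc, hc, hc', Category.id_comp])⟩⟩⟩

/-- **quasi-affine descent, affine case** -/
theorem effective_affine [IsAffine X] [IsAffine S] (D : Desc.SchDD p)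
    [D.obj.left.IsQuasiAffine] : ∃ U : Over S, Nonempty ((Desc.toDD p).obj U ≅ D) := by
  haveI : QuasiSeparatedSpace D.obj.left := quasiSeparatedSpace_of_quasiSeparated D.obj.left.toSpecΓ
  haveI : IsIso (D.obj.left.toSpecΓ).appTop := by rw [Scheme.toSpecΓ_appTop]; infer_instance
  obtain ⟨fb, hfb⟩ := exists_appTop X (T := Spec Γ(D.obj.left, ⊤))
    (D.obj.hom.appTop ≫ inv (D.obj.left.toSpecΓ).appTop)
  have hfb' : D.obj.left.toSpecΓ ≫ fb = D.obj.hom := by
    apply ext_of_isAffine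
    rw [Scheme.Hom.comp_appTop, hfb, Category.assoc, IsIso.inv_hom_id, Category.comp_id]
  haveI : IsOpenImmersion (etaHom D D.obj.left.toSpecΓ fb hfb').hom.left :=
    inferInstanceAs (IsOpenImmersion D.obj.left.toSpecΓ)
  apply effective_of_openImmersion (etaHom D D.obj.left.toSpecΓ fb hfb')
  haveI : IsAffine (hullDD D D.obj.left.toSpecΓ fb hfb').obj.left :=
    inferInstanceAs (IsAffine (Spec Γ(D.obj.left, ⊤)))
  exact affine_effective (hullDD D D.obj.left.toSpecΓ fb hfb')

end Open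

end Groth.Agent.Helper8.QAff
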