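import Mathlib

set_option autoImplicit false

namespace Groth.Agent.Helper8.IdStab

open IsLocalRing

variable {B : Type*} [CommRing B] [IsLocalRing B] {Γ : Type*} [Group Γ] [MulSemiringAction Γ B]
  (hin : ∀ (γ : Γ) (b : B), γ • b - b ∈ maximalIdeal B)
  (hst : ∀ (γ : Γ) (b : B), ∃ u : B, γ • b = b * u)

theorem sub_mem_of_mul_eq {b u u' : B} (hb : b ≠ 0) (h : b * u = b * u') :
    u - u' ∈ maximalIdeal B := by
  by_contra hn
  have hu : IsUnit (u - u') := notMem_maximalIdeal.mp hn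
  apply hb
  have h0 : b * (u - u') = 0 := by rw [mul_sub, h, sub_self]
  exact (hu.mul_left_eq_zero).mp h0

include hin in
theorem smul_mem_max (γ : Γ) {t : B} (ht : t ∈ maximalIdeal B) : γ • t ∈ maximalIdeal B := by
  have := add_mem (hin γ t) ht
  rwa [sub_add_cancel] at this

theorem smul_natCast' (γ : Γ) (j : ℕ) : γ • (j : B) = j :=
  map_natCast (MulSemiringAction.toRingHom Γ B γ) j

/-- the character `γ ↦ (γ b / b mod m)`. -/
noncomputable def chi (b : B) (γ : Γ) : ResidueField B :=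
  residue B (Classical.choose (hst γ b))

theorem chi_eq {b : B} (hb : b ≠ 0) (γ : Γ) {u : B} (hu : γ • b = b * u) :
    chi hst b γ = residue B u := by
  have h1 : γ • b = b * Classical.choose (hst γ b) := Classical.choose_spec (hst γ b)
  have h2 := sub_mem_of_mul_eq hb (h1.symm.trans hu)
  rw [← residue_eq_zero_iff, map_sub, sub_eq_zero] at h2
  exact h2

theorem chi_one {b : B} (hb : b ≠ 0) : chi hst b (1 : Γ) = 1 := by
  rw [chi_eq hst hb 1 (u := 1) (by rw [one_smul, mul_one]), map_one]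

include hin in
theorem chi_mul {b : B} (hb : b ≠ 0) (γ δ : Γ) :
    chi hst b (γ * δ) = chi hst b γ * chi hst b δ := by
  obtain ⟨u, hu⟩ := hst γ b
  obtain ⟨v, hv⟩ := hst δ b
  have h1 : (γ * δ) • b = b * (u * γ • v) := by
    rw [mul_smul, hv, smul_mul', hu]; ring
  rw [chi_eq hst hb (γ * δ) h1, chi_eq hst hb γ hu, chi_eq hst hb δ hv, map_mul]
  congr 1
  rw [← sub_eq_zero, ← map_sub, residue_eq_zero_iff]
  exact hin γ v

/-- `chi` as a monoid hom, for `b ≠ 0`. -/
noncomputable def chiHom (b : {b : B // b ≠ 0}) : Γ →* ResidueField B where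
  toFun := chi hst b.1
  map_one' := chi_one hst b.2
  map_mul' := chi_mul hin hst b.2

/-- all characters together. -/
noncomputable def Phi : Γ →* ({b : B // b ≠ 0} → (ResidueField B)ˣ) :=
  MonoidHom.pi fun b => (chiHom hin hst b).toHomUnits

theorem Phi_apply_val (γ : Γ) (b : {b : B // b ≠ 0}) :
    ((Phi hin hst γ b : (ResidueField B)ˣ) : ResidueField B) = chi hst b.1 γ := rfl

theorem mem_ker_Phi_iff (γ : Γ) :
    γ ∈ (Phi hin hst).ker ↔ ∀ b : B, ∃ x ∈ maximalIdeal B, γ • b = b + b * x := by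
  rw [MonoidHom.mem_ker]
  constructor
  · intro h b
    by_cases hb : b = 0
    · exact ⟨0, zero_mem _, by rw [hb, smul_zero, zero_mul, add_zero]⟩
    · obtain ⟨u, hu⟩ := hst γ b
      have h1 : chi hst b γ = 1 := by
        have h2 := congrArg Units.val (congrFun h ⟨b, hb⟩)
        rw [Phi_apply_val] at h2
        exact h2
      rw [chi_eq hst hb γ hu] at h1
      refine ⟨u - 1, ?_, by rw [hu]; ring⟩
      rw [← residue_eq_zero_iff, map_sub, h1, map_one, sub_self]
  · intro h
    funext b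
    apply Units.ext
    obtain ⟨x, hx, hγ⟩ := h b.1
    have h1 : γ • b.1 = b.1 * (1 + x) := by rw [hγ]; ring
    rw [Phi_apply_val, chi_eq hst b.2 γ h1, map_add, map_one, (residue_eq_zero_iff x).mpr hx,
      add_zero]
    rfl

include hin in
theorem pow_sub {γ : Γ} (hγ : ∀ b : B, ∃ x ∈ maximalIdeal B, γ • b = b + b * x) (b : B) (j : ℕ) :
    ∃ t ∈ maximalIdeal B, γ ^ j • b - b - (j : B) * (γ • b - b) = (γ • b - b) * t := by
  induction j with
  | zero => exact ⟨0, zero_mem _, by simp⟩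
  | succ j ih =>
    obtain ⟨t, ht, h⟩ := ih
    obtain ⟨x', hx', hy⟩ := hγ (γ • b - b)
    refine ⟨(j : B) * x' + (1 + x') * γ • t, ?_, ?_⟩
    · exact add_mem (Ideal.mul_mem_left _ _ hx') (Ideal.mul_mem_left _ _ (smul_mem_max hin γ ht))
    · have e1 : γ ^ (j + 1) • b = γ • (γ ^ j • b) := by rw [pow_succ', mul_smul]
      have e2 : γ ^ j • b = b + (j : B) * (γ • b - b) + (γ • b - b) * t := by rw [← h]; ring
      have e3 : γ • (γ ^ j • b) = γ • b + (j : B) * (γ • (γ • b - b)) + (γ • (γ • b - b)) * γ • t := by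
        rw [e2, smul_add, smul_add, smul_mul', smul_mul', smul_natCast']
      rw [e1, e3, hy]
      push_cast
      ring

include hin in
theorem smul_eq_of_pow {γ : Γ} (hγ : ∀ b : B, ∃ x ∈ maximalIdeal B, γ • b = b + b * x)
    (n : ℕ) (hn : γ ^ n = 1) (hnm : (n : B) ∉ maximalIdeal B) (b : B) : γ • b = b := by
  obtain ⟨t, ht, h⟩ := pow_sub hin hγ b n
  rw [hn, one_smul, sub_self, zero_sub] at h
  have hu : IsUnit ((n : B) + t) := by
    rw [← notMem_maximalIdeal]
    intro hmem
    apply hnm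
    have := sub_mem hmem ht
    rwa [add_sub_cancel_right] at this
  have h0 : (γ • b - b) * ((n : B) + t) = 0 := by rw [mul_add, ← h]; ring
  exact sub_eq_zero.mp (hu.mul_left_eq_zero.mp h0)

theorem main (B : Type*) [CommRing B] [IsLocalRing B]
    (Γ : Type*) [Group Γ] [Finite Γ] [MulSemiringAction Γ B] [FaithfulSMul Γ B]
    (hin : ∀ (γ : Γ) (b : B), γ • b - b ∈ IsLocalRing.maximalIdeal B)
    (hst : ∀ (γ : Γ) (b : B), ∃ u : B, γ • b = b * u)
    (S : Set Γ)
    (hS : ∀ γ : Γ, γ ∈ S ↔ ∀ b : B, ∃ x ∈ IsLocalRing.maximalIdeal B, γ • b = b + b * x) :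
    (ringChar (IsLocalRing.ResidueField B) = 0 → S = {1}) ∧
      (∀ (p : ℕ) [Fact p.Prime], ringChar (IsLocalRing.ResidueField B) = p →
        ∃ Q : Sylow p Γ, (Q : Set Γ) = S) ∧
      (∀ γ δ : Γ, γ * δ * γ⁻¹ * δ⁻¹ ∈ S) ∧
      (∀ (γ : Γ) (n : ℕ), 0 < n → γ ^ n ∈ S → (∀ i : ℕ, 0 < i → i < n → γ ^ i ∉ S) →
        ∃ ζ : IsLocalRing.ResidueField B, IsPrimitiveRoot ζ n) := by
  classical
  have hSker : ∀ γ : Γ, γ ∈ S ↔ γ ∈ (Phi hin hst).ker :=
    fun γ => (hS γ).trans (mem_ker_Phi_iff hin hst γ).symm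
  have hfaith : ∀ σ : Γ, (∀ b : B, σ • b = b) → σ = 1 := fun σ h =>
    eq_of_smul_eq_smul (α := B) fun b => by rw [h b, one_smul]
  refine ⟨?_, ?_, ?_, ?_⟩
  · intro h0
    haveI : CharP (ResidueField B) 0 := ringChar.of_eq h0
    haveI : CharZero (ResidueField B) := CharP.charP_to_charZero _
    ext γ
    rw [Set.mem_singleton_iff, hS]
    constructor
    · intro hγ
      apply hfaith
      intro b
      refine smul_eq_of_pow hin hγ (orderOf γ) (pow_orderOf_eq_one γ) ?_ b
      rw [← residue_eq_zero_iff, map_natCast, Nat.cast_eq_zero]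
      exact (orderOf_pos γ).ne'
    · rintro rfl b
      exact ⟨0, zero_mem _, by rw [one_smul, mul_zero, add_zero]⟩
  · intro p hp hchar
    haveI : CharP (ResidueField B) p := ringChar.of_eq hchar
    haveI : ExpChar (ResidueField B) p := ExpChar.prime hp.out
    have hP : IsPGroup p (Phi hin hst).ker := by
      intro g
      obtain ⟨γ, hγ⟩ := g
      have hN : orderOf γ ≠ 0 := (orderOf_pos γ).ne'
      obtain ⟨a, n', hn', hN'⟩ := Nat.exists_eq_pow_mul_and_not_dvd hN p hp.out.ne_one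
      refine ⟨a, ?_⟩
      apply Subtype.ext
      rw [Subgroup.coe_pow, Subgroup.coe_one]
      show γ ^ p ^ a = 1
      apply hfaith
      intro b
      have hτ : γ ^ p ^ a ∈ (Phi hin hst).ker := pow_mem hγ _
      refine smul_eq_of_pow hin ((mem_ker_Phi_iff hin hst _).mp hτ) n' ?_ ?_ b
      · rw [← pow_mul, ← hN', pow_orderOf_eq_one]
      · rw [← residue_eq_zero_iff, map_natCast, CharP.cast_eq_zero_iff (ResidueField B) p]
        exact hn'
    haveI : Finite (Phi hin hst).range :=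
      Finite.of_surjective (Phi hin hst).rangeRestrict (Phi hin hst).rangeRestrict_surjective
    have hidx : ¬ p ∣ (Phi hin hst).ker.index := by
      rw [Subgroup.index_ker]
      intro hdvd
      obtain ⟨x, hx⟩ := exists_prime_orderOf_dvd_card' p hdvd
      have hx1 : x ≠ 1 := by
        intro h1
        rw [h1, orderOf_one] at hx
        exact hp.out.one_lt.ne hx
      have hx2 : (x : {b : B // b ≠ 0} → (ResidueField B)ˣ) ≠ 1 := fun h => hx1 (Subtype.ext h)
      obtain ⟨b, hb⟩ := Function.ne_iff.mp hx2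
      apply hb
      have h1 : ((x : {b : B // b ≠ 0} → (ResidueField B)ˣ) b) ^ (p ^ 1 * 1) = 1 := by
        rw [pow_one, mul_one, ← Pi.pow_apply, ← Subgroup.coe_pow, ← hx, pow_orderOf_eq_one,
          Subgroup.coe_one, Pi.one_apply]
      have h2 := (mem_rootsOfUnity_prime_pow_mul_iff (ResidueField B) p 1 1).mp
        ((mem_rootsOfUnity _ _).mpr h1)
      rw [mem_rootsOfUnity, pow_one] at h2
      exact h2
    refine ⟨hP.toSylow hidx, ?_⟩
    ext γ
    rw [SetLike.mem_coe, IsPGroup.mem_toSylow, hSker]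
  · intro γ δ
    rw [hSker, MonoidHom.mem_ker, map_mul, map_mul, map_mul, map_inv, map_inv,
      mul_comm (Phi hin hst γ) (Phi hin hst δ), mul_inv_cancel_right, mul_inv_cancel]
  · intro γ n hn hγn hmin
    haveI : NeZero n := ⟨hn.ne'⟩
    obtain ⟨ζ, hζ⟩ := IsCyclic.exists_generator (α := rootsOfUnity n (ResidueField B))
    have hd : 0 < orderOf ζ := orderOf_pos ζ
    have hmem : ∀ b, (Phi hin hst γ) b ∈ rootsOfUnity n (ResidueField B) := by
      intro b
      have h1 : (Phi hin hst γ) ^ n = 1 := by rw [← map_pow]; exact (hSker _).mp hγn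
      have h2 := congrFun h1 b
      exact (mem_rootsOfUnity _ _).mpr h2
    have hpow : γ ^ orderOf ζ ∈ S := by
      rw [hSker, MonoidHom.mem_ker, map_pow]
      funext b
      rw [Pi.pow_apply, Pi.one_apply]
      obtain ⟨j, hj⟩ := Subgroup.mem_zpowers_iff.mp (hζ ⟨_, hmem b⟩)
      have h1 : (⟨(Phi hin hst γ) b, hmem b⟩ : rootsOfUnity n (ResidueField B)) ^ orderOf ζ = 1 := by
        rw [← hj, ← zpow_natCast, ← zpow_mul, mul_comm, zpow_mul, zpow_natCast,
          pow_orderOf_eq_one, one_zpow]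
      have h2 := congrArg Subtype.val h1
      rw [Subgroup.coe_pow, Subgroup.coe_one] at h2
      exact h2
    have hge : n ≤ orderOf ζ := by
      by_contra hlt
      push Not at hlt
      exact hmin _ hd hlt hpow
    have hdvd : orderOf ζ ∣ n := by
      apply orderOf_dvd_of_pow_eq_one
      apply Subtype.ext
      rw [Subgroup.coe_pow, Subgroup.coe_one]
      exact (mem_rootsOfUnity _ _).mp ζ.2
    have heq : orderOf ζ = n := le_antisymm (Nat.le_of_dvd hn hdvd) hge
    refine ⟨((ζ : (ResidueField B)ˣ) : ResidueField B), ?_⟩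
    rw [IsPrimitiveRoot.coe_units_iff]
    have key : IsPrimitiveRoot (ζ : (ResidueField B)ˣ) (orderOf (ζ : (ResidueField B)ˣ)) :=
      IsPrimitiveRoot.orderOf _
    rw [Subgroup.orderOf_coe, heq] at key
    exact key

end Groth.Agent.Helper8.IdStab
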