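import Mathlib
import Groth.Prelude.Def_HopfRep
import Groth.Prelude.Def_GLin
import Groth.Agent.Helper9.LocFin

set_option autoImplicit false
universe u v w

namespace Groth.Agent.Helper8.IdealGen

open TensorProduct

theorem main (k : Type u) [Field k]
    (A : Type v) [CommRing A] [HopfAlgebra k A]
    (R : Type w) [CommRing R] [Algebra k R] [HopfRep.Comod k A R]
    (hR : Algebra.FiniteType k R) (I : Ideal R)
    (hI : HopfRep.IsSubcomod (k := k) (A := A) (I.restrictScalars k)) :
    ∃ W : Submodule k R, Module.Finite k W ∧ HopfRep.IsSubcomod (k := k) (A := A) W ∧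
      W ≤ I.restrictScalars k ∧ Ideal.span (W : Set R) = I := by
  classical
  haveI : IsNoetherianRing R := Algebra.FiniteType.isNoetherianRing k R
  obtain ⟨s, hs⟩ : I.FG := IsNoetherian.noetherian I
  have hgen_le : ∀ f ∈ s, Groth.Agent.Helper9.gen k A f ≤ I.restrictScalars k := by
    intro f hf
    have hfI : f ∈ I := by rw [← hs]; exact Submodule.subset_span hf
    unfold Groth.Agent.Helper9.gen
    rw [Submodule.span_le]
    rintro _ ⟨φ, rfl⟩
    exact (Groth.Agent.Helper9.isSubcomod_iff_act _).mp hI φ f hfI
  refine ⟨⨆ f : s, Groth.Agent.Helper9.gen k A (f : R), ?_, ?_, ?_, ?_⟩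
  · haveI : ∀ f : s, Module.Finite k (Groth.Agent.Helper9.gen k A (f : R)) :=
      fun f => Groth.Agent.Helper9.finite_gen _
    exact Submodule.finite_iSup _
  · exact Groth.Agent.Helper9.isSubcomod_iSup fun f => Groth.Agent.Helper9.isSubcomod_gen _
  · exact iSup_le fun f => hgen_le f f.2
  · apply le_antisymm
    · rw [Ideal.span_le]
      intro x hx
      exact (iSup_le fun f : s => hgen_le f f.2) hx
    · rw [← hs]
      apply Submodule.span_le.mpr
      intro f hf
      apply Ideal.subset_span
      have : Groth.Agent.Helper9.gen k A f ≤ ⨆ f : s, Groth.Agent.Helper9.gen k A (f : R) :=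
        le_iSup (fun f : s => Groth.Agent.Helper9.gen k A (f : R)) ⟨f, hf⟩
      exact this (Groth.Agent.Helper9.mem_gen f)

end Groth.Agent.Helper8.IdealGen
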