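import Mathlib.RingTheory.Flat.Tensor
import Mathlib.RingTheory.Flat.Basic
import Mathlib.LinearAlgebra.TensorProduct.Basic

set_option autoImplicit false

open TensorProduct

namespace Groth.Agent.Helper8.IdealSemi

universe u v
variable {A : Type u} [CommRing A] (σ : A →+* A) (I : Ideal A)
variable {M : Type v} [AddCommGroup M] [Module A M]

/-- `a ⊗ m ↦ a • m`. -/
noncomputable def mu : (I ⊗[A] M) →ₗ[A] M := TensorProduct.lift ((LinearMap.lsmul A M).comp I.subtype)

@[simp] theorem mu_tmul (a : I) (m : M) : mu I (a ⊗ₜ[A] m) = (a : A) • m := by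
  simp [mu]

theorem mu_injective [Module.Flat A M] : Function.Injective (mu I (M := M)) := by
  have h := (Module.Flat.iff_rTensor_injective' (R := A) (M := M)).mp inferInstance I
  have : (mu I (M := M)) = (TensorProduct.lid A M).toLinearMap ∘ₗ (LinearMap.rTensor M I.subtype) := by
    ext a m
    simp [mu]
  rw [this]
  exact (TensorProduct.lid A M).injective.comp h

theorem range_mu : LinearMap.range (mu I (M := M)) = I • (⊤ : Submodule A M) := by
  apply le_antisymm
  · rintro _ ⟨t, rfl⟩
    induction t using TensorProduct.induction_on with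
    | zero => rw [map_zero]; exact zero_mem _
    | tmul a m => rw [mu_tmul]; exact Submodule.smul_mem_smul a.2 Submodule.mem_top
    | add x y hx hy => rw [map_add]; exact add_mem hx hy
  · rw [Submodule.smul_le]
    intro a ha m _
    exact ⟨(⟨a, ha⟩ : I) ⊗ₜ m, mu_tmul I _ _⟩

variable (vinv : I →ₛₗ[σ] A) (F : M →ₛₗ[σ] M)

/-- `a ⊗ m ↦ vinv a • F m` on `I ⊗ M`. -/
noncomputable def G : (I ⊗[A] M) →ₛₗ[σ] M :=
  TensorProduct.lift
    { toFun := fun a => vinv a • F
      map_add' := fun a b => by rw [map_add, add_smul]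
      map_smul' := fun r a => by rw [LinearMap.map_smulₛₗ, smul_eq_mul, mul_smul] }

@[simp] theorem G_tmul (a : I) (m : M) : G σ I vinv F (a ⊗ₜ[A] m) = vinv a • F m := by
  simp [G]

/-- the semilinear map `I • M → M`, `a • m ↦ vinv a • F m`, for flat `M`. -/
noncomputable def VI [Module.Flat A M] : ↥(I • (⊤ : Submodule A M)) →ₛₗ[σ] M :=
  (G σ I vinv F).comp
    (((LinearEquiv.ofInjective (mu I (M := M)) (mu_injective I)).symm.toLinearMap).comp
      (Submodule.inclusion (range_mu I (M := M)).ge))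

theorem VI_smul [Module.Flat A M] (a : A) (ha : a ∈ I) (m : M) (h : a • m ∈ I • (⊤ : Submodule A M)) :
    VI σ I vinv F ⟨a • m, h⟩ = vinv ⟨a, ha⟩ • F m := by
  have h1 : (LinearEquiv.ofInjective (mu I (M := M)) (mu_injective I)).symm
      (Submodule.inclusion (range_mu I (M := M)).ge ⟨a • m, h⟩) = (⟨a, ha⟩ : I) ⊗ₜ[A] m := by
    rw [LinearEquiv.symm_apply_eq]
    apply Subtype.ext
    rw [LinearEquiv.ofInjective_apply, mu_tmul]
    rfl
  rw [VI, LinearMap.comp_apply, LinearMap.comp_apply]
  erw [h1]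
  rw [G_tmul]

end Groth.Agent.Helper8.IdealSemi
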