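import Mathlib
import Groth.Agent.Helper8.IdemLift

/-!
# More idempotent lifting

* `exists_idempotent_lift_hom`: idempotent lifting in a complete algebra, compatibly with a ring
  homomorphism with closed kernel.
* Matrix rings over a complete ring are complete; entrywise criterion for `I • ⊤`.
* Matrices with entries in a nil ideal (of a commutative ring) are nilpotent.
* `bijective_of_mod`: a map of finite (projective) modules that is bijective modulo an ideal in the
  Jacobson radical is bijective.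
-/

namespace Groth.Agent.Helper8.IdemLift2

open Groth.Agent.Helper8.IdemLift

section Lift

variable {R : Type*} [CommRing R] (I : Ideal R) {E : Type*} [Ring E] [Algebra R E]

theorem map_seq {E' : Type*} [Ring E'] (Φ : E →+* E') (a : E) (hΦ : IsIdempotentElem (Φ a))
    (n : ℕ) : Φ (seq a n) = Φ a := by
  induction n with
  | zero => rfl
  | succ n ih =>
    have h1 : seq a (n + 1) = 3 * (seq a n * seq a n) - 2 * (seq a n * seq a n * seq a n) := rfl
    have h3 : Φ 3 = 3 := map_ofNat Φ 3
    have h2 : Φ 2 = 2 := map_ofNat Φ 2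
    rw [h1]
    simp only [map_sub, map_mul, ih, h3, h2, hΦ.eq]
    noncomm_ring

theorem exists_idempotent_lift_hom [IsAdicComplete I E] {E' : Type*} [Ring E'] (Φ : E →+* E')
    (a : E) (ha : a * a - a ∈ (I • ⊤ : Submodule R E)) (hΦ : IsIdempotentElem (Φ a))
    (hclosed : ∀ x : E, (∀ n, ∃ y, Φ y = 0 ∧ x - y ∈ (I ^ n • ⊤ : Submodule R E)) → Φ x = 0) :
    ∃ e : E, IsIdempotentElem e ∧ e - a ∈ (I • ⊤ : Submodule R E) ∧ Φ e = Φ a := by
  obtain ⟨e, he⟩ := IsPrecomplete.prec' (I := I) (M := E) (seq a) (by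
    intro m n hmn
    rw [SModEq.sub_mem]
    have := seq_cauchy I a ha hmn
    rw [← neg_sub]
    exact Submodule.neg_mem _ this)
  have he' : ∀ n, e - seq a n ∈ (I ^ n • ⊤ : Submodule R E) := by
    intro n
    have := he n
    rw [SModEq.sub_mem] at this
    rw [← neg_sub]
    exact Submodule.neg_mem _ this
  refine ⟨e, ?_, ?_, ?_⟩
  · have h0 : e * e - e = 0 := by
      apply IsHausdorff.haus' (I := I) (e * e - e)
      intro n
      rw [SModEq.sub_mem, sub_zero]
      set d := e - seq a n with hd
      have hdm : d ∈ (I ^ n • ⊤ : Submodule R E) := he' n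
      have e1 : e * e - e = (seq a n * seq a n - seq a n) + seq a n * d + d * seq a n + d * d - d := by
        have : e = seq a n + d := by rw [hd]; abel
        rw [this]
        noncomm_ring
      rw [e1]
      refine Submodule.sub_mem _ (Submodule.add_mem _ (Submodule.add_mem _ (Submodule.add_mem _
        (mem_of_le I (by omega) (seq_idem I a ha n)) (mul_left_mem _ hdm _))
        (mul_right_mem _ hdm _)) (mul_right_mem _ hdm _)) hdm
    exact sub_eq_zero.mp h0
  · have h1 := he' 1
    have h2 := seq_sub I a ha 0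
    rw [pow_one] at h1
    simp only [zero_add, pow_one] at h2
    have : e - a = (e - seq a 1) + (seq a 1 - seq a 0) := by
      simp [seq]
    rw [this]
    exact Submodule.add_mem _ h1 h2
  · have : Φ (e - a) = 0 := by
      apply hclosed
      intro n
      refine ⟨seq a n - a, ?_, ?_⟩
      · rw [map_sub, map_seq Φ a hΦ, sub_self]
      · have : e - a - (seq a n - a) = e - seq a n := by abel
        rw [this]
        exact he' n
    rw [map_sub, sub_eq_zero] at this
    exact this

end Lift

section Mat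

variable {R : Type*} [CommRing R]

theorem matrix_mem_smul_top_iff (J : Ideal R) (r : ℕ) (x : Matrix (Fin r) (Fin r) R) :
    x ∈ (J • ⊤ : Submodule R (Matrix (Fin r) (Fin r) R)) ↔ ∀ i j, x i j ∈ J := by
  constructor
  · intro hx i j
    have := map_mem_smul_top J (Matrix.entryLinearMap R R i j) hx
    simpa using this
  · intro hx
    rw [Matrix.matrix_eq_sum_single x]
    refine Submodule.sum_mem _ (fun i _ => Submodule.sum_mem _ (fun j _ => ?_))
    have : Matrix.single i j (x i j) = (x i j) • Matrix.single i j (1 : R) := by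
      rw [Matrix.smul_single, smul_eq_mul, mul_one]
    rw [this]
    exact Submodule.smul_mem_smul (hx i j) Submodule.mem_top

theorem isAdicComplete_matrix (I : Ideal R) [IsAdicComplete I R] (r : ℕ) :
    IsAdicComplete I (Matrix (Fin r) (Fin r) R) := by
  haveI : IsAdicComplete I (Fin r → R) := isAdicComplete_pi I r
  exact isAdicComplete_pi I (M := Fin r → R) r

theorem pow_entries_mem (𝔟 : Ideal R) (r : ℕ) (x : Matrix (Fin r) (Fin r) R)
    (hx : ∀ i j, x i j ∈ 𝔟) (k : ℕ) : ∀ i j, (x ^ (k + 1)) i j ∈ 𝔟 ^ (k + 1) := by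
  induction k with
  | zero => simpa using hx
  | succ k ih =>
    intro i j
    have hx2 : x ^ (k + 1 + 1) = x ^ (k + 1) * x := pow_succ _ _
    rw [hx2, Matrix.mul_apply]
    refine Ideal.sum_mem _ (fun l _ => ?_)
    rw [pow_succ 𝔟]
    exact Ideal.mul_mem_mul (ih i l) (hx l j)

theorem isNilpotent_of_entries (r : ℕ) (x : Matrix (Fin r) (Fin r) R)
    (hx : ∀ i j, IsNilpotent (x i j)) : IsNilpotent x := by
  classical
  let 𝔟 : Ideal R := Ideal.span (Set.range (fun ij : Fin r × Fin r => x ij.1 ij.2))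
  have hfg : 𝔟.FG := ⟨(Finset.univ.image (fun ij : Fin r × Fin r => x ij.1 ij.2)), by
    simp [𝔟]⟩
  have hle : 𝔟 ≤ nilradical R := by
    rw [Ideal.span_le]
    rintro _ ⟨ij, rfl⟩
    exact hx ij.1 ij.2
  obtain ⟨k, hk⟩ := (Ideal.FG.isNilpotent_iff_le_nilradical hfg).mpr hle
  refine ⟨k + 1, ?_⟩
  ext i j
  have := pow_entries_mem 𝔟 r x (fun i j => Ideal.subset_span ⟨(i, j), rfl⟩) k i j
  rw [pow_succ, hk, Ideal.zero_eq_bot, Ideal.bot_mul, Ideal.mem_bot] at this
  rw [this]
  rfl

/-- Lifting idempotent matrices along `f : A → B`, `A` complete for `I`, `B` separated for `I'`. -/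
theorem exists_idem_matrix_lift {A B : Type*} [CommRing A] [CommRing B] (I : Ideal A)
    [IsAdicComplete I A] (f : A →+* B) (I' : Ideal B) [IsHausdorff I' B]
    (hf : ∀ (n : ℕ) (x : A), x ∈ I ^ n → f x ∈ I' ^ n)
    (r : ℕ) (a : Matrix (Fin r) (Fin r) A) (ha : ∀ i j, (a * a - a) i j ∈ I)
    (hΦ : IsIdempotentElem (RingHom.mapMatrix f a)) :
    ∃ e : Matrix (Fin r) (Fin r) A, IsIdempotentElem e ∧
      RingHom.mapMatrix f e = RingHom.mapMatrix f a := by
  haveI : IsAdicComplete I (Matrix (Fin r) (Fin r) A) := isAdicComplete_matrix I r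
  have ha' : a * a - a ∈ (I • ⊤ : Submodule A (Matrix (Fin r) (Fin r) A)) := by
    rw [matrix_mem_smul_top_iff]
    exact ha
  have hclosed : ∀ x : Matrix (Fin r) (Fin r) A,
      (∀ n, ∃ y, RingHom.mapMatrix f y = 0 ∧
        x - y ∈ (I ^ n • ⊤ : Submodule A (Matrix (Fin r) (Fin r) A))) →
      RingHom.mapMatrix f x = 0 := by
    intro x hx
    apply Matrix.ext
    intro i j
    rw [RingHom.mapMatrix_apply, Matrix.map_apply, Matrix.zero_apply]
    apply IsHausdorff.haus' (I := I') (M := B)
    intro n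
    rw [SModEq.sub_mem, sub_zero, smul_eq_mul, Ideal.mul_top]
    obtain ⟨y, hy0, hy⟩ := hx n
    rw [matrix_mem_smul_top_iff] at hy
    have h1 : f (y i j) = 0 := by
      have h3 : (RingHom.mapMatrix f y) i j = (0 : Matrix (Fin r) (Fin r) B) i j := by
        rw [hy0]
      rw [RingHom.mapMatrix_apply, Matrix.map_apply, Matrix.zero_apply] at h3
      exact h3
    have h2 : f (x i j) = f ((x - y) i j) := by
      rw [Matrix.sub_apply, map_sub, h1, sub_zero]
    rw [h2]
    exact hf n _ (hy i j)
  obtain ⟨e, he, -, heΦ⟩ := exists_idempotent_lift_hom I (RingHom.mapMatrix f) a ha' hΦ hclosed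
  exact ⟨e, he, heΦ⟩

end Mat

section Mod

variable {A : Type*} [CommRing A]

/-- Bijectivity modulo an ideal in the radical implies bijectivity (target projective). -/
theorem bijective_of_mod (J : Ideal A) (hJ : J ≤ (⊥ : Ideal A).jacobson)
    {M N : Type*} [AddCommGroup M] [Module A M] [Module.Finite A M]
    [AddCommGroup N] [Module A N] [Module.Finite A N] [Module.Projective A N]
    (e : M →ₗ[A] N)
    (hs : ∀ y : N, ∃ x, y - e x ∈ (J • ⊤ : Submodule A N))
    (hi : ∀ x, e x ∈ (J • ⊤ : Submodule A N) → x ∈ (J • ⊤ : Submodule A M)) :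
    Function.Bijective e := by
  have hsurj : Function.Surjective e := by
    rw [← LinearMap.range_eq_top, eq_top_iff]
    apply Submodule.le_of_le_smul_of_le_jacobson_bot (Module.Finite.fg_top) hJ
    intro y _
    obtain ⟨x, hx⟩ := hs y
    have : y = e x + (y - e x) := by abel
    rw [this]
    exact Submodule.add_mem_sup (LinearMap.mem_range_self e x) hx
  refine ⟨?_, hsurj⟩
  obtain ⟨s, hs'⟩ := Module.projective_lifting_property e LinearMap.id hsurj
  have hs'' : ∀ y, e (s y) = y := fun y => LinearMap.congr_fun hs' y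
  let ρ : M →ₗ[A] M := LinearMap.id - s ∘ₗ e
  have hρ : ∀ z, ρ z = z - s (e z) := fun z => rfl
  let K : Submodule A M := LinearMap.ker e
  have hK1 : K ≤ (J • ⊤ : Submodule A M) := by
    intro x hx
    apply hi
    rw [LinearMap.mem_ker.mp hx]
    exact Submodule.zero_mem _
  have hrange : Submodule.map ρ ⊤ ≤ K := by
    rintro _ ⟨z, -, rfl⟩
    show e (ρ z) = 0
    rw [hρ, map_sub, hs'', sub_self]
  have hfix : ∀ x ∈ K, ρ x = x := by
    intro x hx
    have h1 : e x = 0 := hx
    rw [hρ, h1, map_zero, sub_zero]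
  have hKeq : K = Submodule.map ρ ⊤ := by
    apply le_antisymm _ hrange
    intro x hx
    exact ⟨x, Submodule.mem_top, hfix x hx⟩
  have hK2 : K ≤ J • K := by
    intro x hx
    have h1 : ρ x ∈ Submodule.map ρ (J • ⊤ : Submodule A M) := ⟨x, hK1 hx, rfl⟩
    rw [Submodule.map_smul'', hfix x hx] at h1
    exact Submodule.smul_mono le_rfl hrange h1
  have hKfg : K.FG := by
    rw [hKeq]
    exact Submodule.FG.map _ (Module.Finite.fg_top)
  have hK0 : K = ⊥ := Submodule.eq_bot_of_le_smul_of_le_jacobson_bot J K hKfg hK2 hJ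
  rw [← LinearMap.ker_eq_bot]
  exact hK0

end Mod

end Groth.Agent.Helper8.IdemLift2
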