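import Mathlib
import Groth.Agent.Helper1.CoeffField
import Groth.Agent.Helper8.CKaePS
import Groth.Agent.Helper5.MvPSIdeal
set_option autoImplicit false
universe u

namespace Groth.Agent.Helper8.ImpEx
open IsLocalRing MvPowerSeries

section u
variable {k K : Type u} [Field k] [Field K] [Algebra k K] {n : ℕ}

local notation "P" => MvPowerSeries (Fin n) K

/-- the first-order datum -/
noncomputable def lin (D : Fin n → Derivation ℤ k K) (c : k) : P := ∑ j, C (D j c) * X j

noncomputable def tau (D : Fin n → Derivation ℤ k K) (c : k) : P :=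
  C (algebraMap k K c) + lin D c

theorem lin_mem (D : Fin n → Derivation ℤ k K) (c : k) : lin D c ∈ maximalIdeal P := by
  rw [Groth.Agent.Helper5.MvPSDim.maximalIdeal_eq]
  exact Ideal.sum_mem _ fun j _ => Ideal.mul_mem_left _ _ (Ideal.subset_span ⟨j, rfl⟩)

theorem lin_add (D : Fin n → Derivation ℤ k K) (c d : k) : lin D (c + d) = lin D c + lin D d := by
  unfold lin
  rw [← Finset.sum_add_distrib]
  exact Finset.sum_congr rfl fun j _ => by rw [map_add, map_add, add_mul]

theorem lin_mul (D : Fin n → Derivation ℤ k K) (c d : k) :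
    lin D (c * d) = C (algebraMap k K c) * lin D d + C (algebraMap k K d) * lin D c := by
  unfold lin
  rw [Finset.mul_sum, Finset.mul_sum, ← Finset.sum_add_distrib]
  refine Finset.sum_congr rfl fun j _ => ?_
  rw [Derivation.leibniz, Algebra.smul_def, Algebra.smul_def, map_add, map_mul, map_mul]
  ring

theorem tau_mul_sub (D : Fin n → Derivation ℤ k K) (c d : k) :
    tau D c * tau D d - tau D (c * d) ∈ maximalIdeal P ^ 2 := by
  have : tau D c * tau D d - tau D (c * d) = lin D c * lin D d := by
    unfold tau
    rw [lin_mul, map_mul, map_mul]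
    ring
  rw [this, pow_two]
  exact Ideal.mul_mem_mul (lin_mem D c) (lin_mem D d)

/-- the first order ring map -/
noncomputable def theta (D : Fin n → Derivation ℤ k K) : k →+* P ⧸ maximalIdeal P ^ 2 where
  toFun c := Ideal.Quotient.mk _ (tau D c)
  map_one' := by
    have : tau D (1 : k) = 1 := by
      unfold tau lin
      simp
    rw [this, map_one]
  map_mul' c d := by
    rw [← map_mul, eq_comm, Ideal.Quotient.eq]
    exact tau_mul_sub D c d
  map_zero' := by
    have : tau D (0 : k) = 0 := by
      unfold tau lin
      simp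
    rw [this, map_zero]
  map_add' c d := by
    rw [← map_add]
    congr 1
    unfold tau
    rw [lin_add, map_add, map_add]
    ring

theorem exists_u (D : Fin n → Derivation ℤ k K) :
    ∃ u : k →+* P, ∀ c, u c - tau D c ∈ maximalIdeal P ^ 2 := by
  haveI : IsAdicComplete (maximalIdeal P ^ 2) P :=
    Groth.Agent.Helper1.CoeffField.isAdicComplete_pow (maximalIdeal P) P (by norm_num)
  obtain ⟨v, hv⟩ := Groth.Agent.Helper1.CoeffField.exists_lift (maximalIdeal P ^ 2)
    ((C : K →+* P).comp (algebraMap k K)) (theta D)
  refine ⟨v, fun c => ?_⟩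
  rw [← Ideal.Quotient.eq]
  exact congr($hv c)

end u

end Groth.Agent.Helper8.ImpEx
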