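import Mathlib
import Groth.Agent.Helper8.ImpEx1
import Groth.Agent.Helper8.GeomReg9
set_option autoImplicit false
universe u

namespace Groth.Agent.Helper8.ImpEx
open IsLocalRing MvPowerSeries TensorProduct Groth.Agent.Helper8.Cot Groth.Agent.Helper8.GeomReg

section coeffs
variable {K : Type u} [Field K] {n : ℕ}

local notation "P" => MvPowerSeries (Fin n) K

theorem constantCoeff_of_mem (q : P) (hq : q ∈ maximalIdeal P) : constantCoeff q = 0 := by
  by_contra h
  have : IsUnit q := by
    rw [MvPowerSeries.isUnit_iff_constantCoeff]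
    exact isUnit_iff_ne_zero.mpr h
  exact (mem_maximalIdeal q).mp hq this

theorem coeff_single_eq (g : P) (j : Fin n) :
    coeff (Finsupp.single j 1) g = constantCoeff (MvPowerSeries.pderiv K j g) := by
  rw [← coeff_zero_eq_constantCoeff_apply, coeff_pderiv]
  simp

theorem coeff_single_mul (a b : P) (j : Fin n) :
    coeff (Finsupp.single j 1) (a * b) =
      constantCoeff a * coeff (Finsupp.single j 1) b + constantCoeff b * coeff (Finsupp.single j 1) a := by
  rw [coeff_single_eq, coeff_single_eq, coeff_single_eq, Derivation.leibniz, map_add, smul_eq_mul,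
    smul_eq_mul, map_mul, map_mul]

theorem constantCoeff_of_mem_sq (q : P) (hq : q ∈ maximalIdeal P ^ 2) : constantCoeff q = 0 :=
  constantCoeff_of_mem q (Ideal.pow_le_self (by norm_num) hq)

theorem coeff_single_of_mem_sq (q : P) (hq : q ∈ maximalIdeal P ^ 2) (j : Fin n) :
    coeff (Finsupp.single j 1) q = 0 := by
  rw [pow_two] at hq
  refine Submodule.mul_induction_on hq ?_ ?_
  · intro a ha b hb
    rw [coeff_single_mul, constantCoeff_of_mem a ha, constantCoeff_of_mem b hb, zero_mul, zero_mul,
      add_zero]
  · intro a b ha hb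
    rw [map_add, ha, hb, add_zero]

variable {k : Type u} [Field k] [Algebra k K]

theorem constantCoeff_tau (D : Fin n → Derivation ℤ k K) (c : k) :
    constantCoeff (tau (n := n) D c) = algebraMap k K c := by
  unfold tau
  rw [map_add, constantCoeff_of_mem _ (lin_mem D c), add_zero, constantCoeff_C]

theorem coeff_single_tau (D : Fin n → Derivation ℤ k K) (c : k) (j : Fin n) :
    coeff (Finsupp.single j 1) (tau (n := n) D c) = D j c := by
  classical
  unfold tau lin
  rw [map_add, map_sum, coeff_C, if_neg (by
    intro h
    have := congrArg (fun f => f j) h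
    simp at this), zero_add]
  simp_rw [coeff_C_mul, coeff_X]
  rw [Finset.sum_eq_single j]
  · simp
  · intro i _ hij
    rw [if_neg, mul_zero]
    intro h
    have := congrArg (fun f => f j) h
    simp [Finsupp.single_apply, hij] at this
  · intro h; exact absurd (Finset.mem_univ j) h

theorem constantCoeff_u (D : Fin n → Derivation ℤ k K) (v : k →+* P)
    (hv : ∀ c, v c - tau D c ∈ maximalIdeal P ^ 2) (c : k) :
    constantCoeff (v c) = algebraMap k K c := by
  have := constantCoeff_of_mem_sq _ (hv c)
  rw [map_sub, sub_eq_zero] at this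
  rw [this, constantCoeff_tau]

theorem coeff_single_u (D : Fin n → Derivation ℤ k K) (v : k →+* P)
    (hv : ∀ c, v c - tau D c ∈ maximalIdeal P ^ 2) (c : k) (j : Fin n) :
    coeff (Finsupp.single j 1) (v c) = D j c := by
  have := coeff_single_of_mem_sq _ (hv c) j
  rw [map_sub, sub_eq_zero] at this
  rw [this, coeff_single_tau]

end coeffs

end Groth.Agent.Helper8.ImpEx
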