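import Mathlib
import Groth.Agent.Helper8.ImpEx2
import Groth.Prelude.Def_EGA41
set_option autoImplicit false
universe u

namespace Groth.Agent.Helper8.ImpEx
open IsLocalRing MvPowerSeries TensorProduct Groth.Agent.Helper8.Cot Groth.Agent.Helper8.GeomReg

section tw
variable (k K : Type u) [Field k] [Field K] [Algebra k K] (n : ℕ)

/-- structure maps `k → K[[T]]` lifting `k → K` -/
structure UMap where
  u : k →+* MvPowerSeries (Fin n) K
  h0 : ∀ c, constantCoeff (u c) = algebraMap k K c

variable {k K n}

/-- the power series ring with the `k`-structure given by `w` -/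
def Tw (_w : UMap k K n) : Type u := MvPowerSeries (Fin n) K

variable (w : UMap k K n)

noncomputable instance : CommRing (Tw w) := inferInstanceAs (CommRing (MvPowerSeries (Fin n) K))
instance : IsLocalRing (Tw w) := inferInstanceAs (IsLocalRing (MvPowerSeries (Fin n) K))
instance : IsNoetherianRing (Tw w) := inferInstanceAs (IsNoetherianRing (MvPowerSeries (Fin n) K))
noncomputable instance algkTw : Algebra k (Tw w) := RingHom.toAlgebra (w.u : k →+* Tw w)
noncomputable instance algTwK : Algebra (Tw w) K :=
  RingHom.toAlgebra (constantCoeff : MvPowerSeries (Fin n) K →+* K)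
instance : IsScalarTower k (Tw w) K := IsScalarTower.of_algebraMap_eq fun c => (w.h0 c).symm

/-- the identification with the power series ring -/
noncomputable def eqv : Tw w ≃+* MvPowerSeries (Fin n) K := RingEquiv.refl _

theorem algebraMap_Tw_K (g : Tw w) :
    algebraMap (Tw w) K g = constantCoeff (eqv w g) := rfl

theorem eqv_algebraMap (c : k) : eqv w (algebraMap k (Tw w) c) = w.u c := rfl

theorem algebraMap_Tw_K_surjective : Function.Surjective (algebraMap (Tw w) K) := fun z =>
  ⟨(eqv w).symm (C z), by rw [algebraMap_Tw_K, RingEquiv.apply_symm_apply, constantCoeff_C]⟩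

/-- the first order coefficient, as a derivation -/
noncomputable def E (j : Fin n) : Derivation ℤ (Tw w) K :=
  Derivation.mk'
    ({ toFun := fun g => coeff (Finsupp.single j 1) (eqv w g)
       map_zero' := by rw [map_zero, map_zero]
       map_add' := fun a b => by rw [map_add, map_add] } : Tw w →+ K).toIntLinearMap
    (fun a b => by
      change coeff (Finsupp.single j 1) (eqv w (a * b)) =
        a • coeff (Finsupp.single j 1) (eqv w b) + b • coeff (Finsupp.single j 1) (eqv w a)
      rw [map_mul, coeff_single_mul, Algebra.smul_def, Algebra.smul_def, algebraMap_Tw_K,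
        algebraMap_Tw_K])

theorem E_apply (j : Fin n) (g : Tw w) :
    E w j g = coeff (Finsupp.single j 1) (eqv w g) := rfl

/-- the second projection -/
noncomputable def pi2 : K ⊗[Tw w] Ω[Tw w⁄ℤ] →ₗ[K] (Fin n → K) :=
  LinearMap.pi fun j => LinearMap.liftBaseChange K (E w j).liftKaehlerDifferential

theorem pi2_tmul_D (z : K) (g : Tw w) (j : Fin n) :
    pi2 w (z ⊗ₜ KaehlerDifferential.D ℤ (Tw w) g) j = z * E w j g := by
  unfold pi2
  rw [LinearMap.pi_apply, LinearMap.liftBaseChange_tmul, Derivation.liftKaehlerDifferential_comp_D,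
    smul_eq_mul]

theorem beta_tmap (x : K ⊗[k] Ω[k⁄ℤ]) :
    KaehlerDifferential.mapBaseChange ℤ (Tw w) K (tmap k (Tw w) K x) =
      KaehlerDifferential.mapBaseChange ℤ k K x := by
  have : (KaehlerDifferential.mapBaseChange ℤ (Tw w) K) ∘ₗ (tmap k (Tw w) K) =
      KaehlerDifferential.mapBaseChange ℤ k K := by
    apply LinearMap.ext_on (span_one_tmul_D k K)
    rintro _ ⟨c, rfl⟩
    rw [LinearMap.comp_apply, tmap_tmul_D, KaehlerDifferential.mapBaseChange_tmul,
      KaehlerDifferential.mapBaseChange_tmul, one_smul, one_smul, KaehlerDifferential.map_D,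
      KaehlerDifferential.map_D, ← IsScalarTower.algebraMap_apply]
  exact congr($this x)

theorem tmap_injective (Dt : K ⊗[k] Ω[k⁄ℤ] →ₗ[K] (Fin n → K))
    (hDt : ∀ c j, Dt ((1 : K) ⊗ₜ KaehlerDifferential.D ℤ k c) j =
      coeff (Finsupp.single j 1) (w.u c))
    (hinj : ∀ x ∈ EGA41.imperfection ℤ k K, Dt x = 0 → x = 0) :
    Function.Injective (tmap k (Tw w) K) := by
  have hπ : (pi2 w) ∘ₗ (tmap k (Tw w) K) = Dt := by
    apply LinearMap.ext_on (span_one_tmul_D k K)
    rintro _ ⟨c, rfl⟩
    funext j
    rw [LinearMap.comp_apply, tmap_tmul_D, pi2_tmul_D, one_mul, E_apply, hDt, eqv_algebraMap]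
  rw [injective_iff_map_eq_zero]
  intro x hx
  apply hinj x
  · change KaehlerDifferential.mapBaseChange ℤ k K x = 0
    rw [← beta_tmap w, hx, map_zero]
  · rw [← hπ, LinearMap.comp_apply, hx, map_zero]

end tw

end Groth.Agent.Helper8.ImpEx
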