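import Mathlib
import Groth.Agent.Helper8.ImpEx3
set_option autoImplicit false
universe u

namespace Groth.Agent.Helper8.ImpEx
open IsLocalRing MvPowerSeries TensorProduct Groth.Agent.Helper8.Cot Groth.Agent.Helper8.GeomReg

section ex
variable {k K : Type u} [Field k] [Field K] [Algebra k K]

theorem exists_good [Module.Finite K (EGA41.imperfection ℤ k K)] (n : ℕ)
    (hn : Module.finrank K (EGA41.imperfection ℤ k K) ≤ n) :
    ∃ w : UMap k K n, Function.Injective (tmap k (Tw w) K) := by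
  haveI : Module.Free K (EGA41.imperfection ℤ k K) :=
    Module.Free.of_divisionRing K (EGA41.imperfection ℤ k K)
  have hrank : Module.rank K (EGA41.imperfection ℤ k K) ≤ Module.rank K (Fin n → K) := by
    rw [← Module.finrank_eq_rank, rank_fin_fun]
    exact_mod_cast hn
  obtain ⟨j, hj⟩ := rank_le_iff_exists_linearMap.mp hrank
  obtain ⟨Dt, hDt⟩ := LinearMap.exists_extend j
  let D : Fin n → Derivation ℤ k K := fun j' =>
    (((LinearMap.proj j' ∘ₗ Dt : K ⊗[k] Ω[k⁄ℤ] →ₗ[K] K).restrictScalars k) ∘ₗ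
      (TensorProduct.mk k K Ω[k⁄ℤ] 1)).compDer (KaehlerDifferential.D ℤ k)
  have hD : ∀ j' c, D j' c = Dt ((1 : K) ⊗ₜ KaehlerDifferential.D ℤ k c) j' := fun j' c => rfl
  obtain ⟨u, hu⟩ := exists_u D
  refine ⟨⟨u, constantCoeff_u D u hu⟩, ?_⟩
  apply tmap_injective _ Dt
  · intro c j'
    rw [← hD]
    exact (coeff_single_u D u hu c j').symm
  · intro x hx hx0
    have h1 : j ⟨x, hx⟩ = 0 := by
      rw [← hx0, ← hDt]
      rfl
    have h2 : (⟨x, hx⟩ : EGA41.imperfection ℤ k K) = 0 := hj (by rw [h1, map_zero])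
    exact congrArg Subtype.val h2

theorem ker_eq (n : ℕ) (w : UMap k K n) :
    RingHom.ker (algebraMap (Tw w) K) = maximalIdeal (Tw w) := by
  haveI : (RingHom.ker (algebraMap (Tw w) K)).IsMaximal :=
    RingHom.ker_isMaximal_of_surjective _ (algebraMap_Tw_K_surjective w)
  exact IsLocalRing.eq_maximalIdeal inferInstance

theorem isRegular_Tw (n : ℕ) (w : UMap k K n) : IsRegularLocalRing (Tw w) :=
  Groth.Agent.Helper5.MvPSDim.isRegular K n

theorem isAdicComplete_Tw (n : ℕ) (w : UMap k K n) : IsAdicComplete (maximalIdeal (Tw w)) (Tw w) :=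
  Groth.Agent.Helper8.CKaePS.complete K n

theorem ringKrullDim_Tw (n : ℕ) (w : UMap k K n) : ringKrullDim (Tw w) = n :=
  le_antisymm (Groth.Agent.Helper5.MvPSDim.ringKrullDim_le K n)
    (Groth.Agent.Helper5.MvPSDim.le_ringKrullDim K n)

/-- the residue field of the twisted power series ring -/
noncomputable def residueEquiv (n : ℕ) (w : UMap k K n) : ResidueField (Tw w) ≃ₐ[k] K :=
  AlgEquiv.ofBijective
    (Ideal.Quotient.liftₐ (maximalIdeal (Tw w)) (IsScalarTower.toAlgHom k (Tw w) K) (fun a ha => by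
      rw [← ker_eq n w] at ha
      exact ha))
    ⟨RingHom.injective _, fun z => by
      obtain ⟨g, rfl⟩ := algebraMap_Tw_K_surjective w z
      exact ⟨Ideal.Quotient.mk _ g, rfl⟩⟩

theorem adic_Tw (n : ℕ) (w : UMap k K n) (hinj : Function.Injective (tmap k (Tw w) K)) :
    CAlgX.IsAdicFormallySmooth k (Tw w) (maximalIdeal (Tw w)) := by
  have hD := derExt_of_injective_tmap K (algebraMap_Tw_K_surjective w) hinj
  rw [ker_eq] at hD
  exact adic_of_regular_of_derExt (isRegular_Tw n w) hD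

end ex

end Groth.Agent.Helper8.ImpEx
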