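import Mathlib
import Groth.Agent.Helper8.ImpEx4
set_option autoImplicit false
universe u

namespace Groth.Agent.Helper8.ImpEx
open IsLocalRing MvPowerSeries TensorProduct Groth.Agent.Helper8.Cot Groth.Agent.Helper8.GeomReg

section gen
variable (k A K : Type u) [CommRing k] [CommRing A] [Field K] [Algebra k A] [Algebra A K] [Algebra k K]
  [IsScalarTower k A K]

theorem beta_tmap' (x : K ⊗[k] Ω[k⁄ℤ]) :
    KaehlerDifferential.mapBaseChange ℤ A K (tmap k A K x) =
      KaehlerDifferential.mapBaseChange ℤ k K x := by
  have : (KaehlerDifferential.mapBaseChange ℤ A K) ∘ₗ (tmap k A K) =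
      KaehlerDifferential.mapBaseChange ℤ k K := by
    apply LinearMap.ext_on (span_one_tmul_D k K)
    rintro _ ⟨c, rfl⟩
    rw [LinearMap.comp_apply, tmap_tmul_D, KaehlerDifferential.mapBaseChange_tmul,
      KaehlerDifferential.mapBaseChange_tmul, one_smul, one_smul, KaehlerDifferential.map_D,
      KaehlerDifferential.map_D, ← IsScalarTower.algebraMap_apply]
  exact congr($this x)

end gen

section nec
variable {k A K : Type u} [Field k] [CommRing A] [IsLocalRing A] [IsNoetherianRing A] [Algebra k A]
  [Field K] [Algebra k K]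

theorem finite_imperfection_of_adic (h : CAlgX.IsAdicFormallySmooth k A (maximalIdeal A))
    (e : ResidueField A ≃ₐ[k] K) : Module.Finite K (EGA41.imperfection ℤ k K) := by
  letI : Algebra A K := ((e : ResidueField A →+* K).comp (residue A)).toAlgebra
  haveI : IsScalarTower k A K := IsScalarTower.of_algebraMap_eq fun c => by
    change algebraMap k K c = e (residue A (algebraMap k A c))
    rw [← e.commutes]
    rfl
  have hsurj : Function.Surjective (algebraMap A K) :=
    e.surjective.comp IsLocalRing.residue_surjective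
  have hker : RingHom.ker (algebraMap A K) = maximalIdeal A := by
    haveI : (RingHom.ker (algebraMap A K)).IsMaximal := RingHom.ker_isMaximal_of_surjective _ hsurj
    exact IsLocalRing.eq_maximalIdeal inferInstance
  have hD := derExt_of_adic _ h
  rw [← hker] at hD
  have hinj := injective_tmap_of_derExt K hD
  have hex := KaehlerDifferential.exact_kerCotangentToTensor_mapBaseChange ℤ A K hsurj
  have hfg : (LinearMap.ker (KaehlerDifferential.mapBaseChange ℤ A K)).FG := by
    apply Submodule.FG.of_restrictScalars A
    have : (LinearMap.ker (KaehlerDifferential.mapBaseChange ℤ A K)).restrictScalars A =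
        LinearMap.range (KaehlerDifferential.kerCotangentToTensor ℤ A K) := by
      ext y
      rw [Submodule.restrictScalars_mem, LinearMap.mem_ker, LinearMap.mem_range]
      exact hex y
    haveI hcot : Module.Finite A (RingHom.ker (algebraMap A K)).Cotangent :=
      Module.Finite.of_surjective (RingHom.ker (algebraMap A K)).toCotangent
        (Ideal.toCotangent_surjective _)
    rw [this, LinearMap.range_eq_map]
    exact Submodule.FG.map _ Module.Finite.fg_top
  haveI : Module.Finite K (LinearMap.ker (KaehlerDifferential.mapBaseChange ℤ A K)) :=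
    Module.Finite.iff_fg.mpr hfg
  haveI : IsNoetherian K (LinearMap.ker (KaehlerDifferential.mapBaseChange ℤ A K)) :=
    isNoetherian_of_isNoetherianRing_of_finite K
      (LinearMap.ker (KaehlerDifferential.mapBaseChange ℤ A K))
  let φ : EGA41.imperfection ℤ k K →ₗ[K] LinearMap.ker (KaehlerDifferential.mapBaseChange ℤ A K) :=
    (tmap k A K).restrict (fun x hx => by
      rw [LinearMap.mem_ker, beta_tmap']
      exact hx)
  refine Module.Finite.of_injective φ ?_
  intro x y hxy
  apply Subtype.ext
  apply hinj
  exact congrArg Subtype.val hxy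

end nec

theorem s2472 {k K : Type u} [Field k] [Field K] [Algebra k K] :
    ((∃ (A : Type u) (_ : CommRing A) (_ : IsLocalRing A) (_ : IsNoetherianRing A) (_ : Algebra k A),
        CAlgX.IsAdicFormallySmooth k A (maximalIdeal A) ∧ Nonempty (ResidueField A ≃ₐ[k] K)) ↔
      Module.Finite K (EGA41.imperfection ℤ k K)) ∧
    (Module.Finite K (EGA41.imperfection ℤ k K) → ∀ n : ℕ, Module.finrank K (EGA41.imperfection ℤ k K) ≤ n →
      ∃ (A : Type u) (_ : CommRing A) (_ : IsLocalRing A) (_ : IsNoetherianRing A) (_ : Algebra k A),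
        IsAdicComplete (maximalIdeal A) A ∧ CAlgX.IsAdicFormallySmooth k A (maximalIdeal A) ∧
        Nonempty (ResidueField A ≃ₐ[k] K) ∧ ringKrullDim A = n) := by
  have part2 : Module.Finite K (EGA41.imperfection ℤ k K) → ∀ n : ℕ,
      Module.finrank K (EGA41.imperfection ℤ k K) ≤ n →
      ∃ (A : Type u) (_ : CommRing A) (_ : IsLocalRing A) (_ : IsNoetherianRing A) (_ : Algebra k A),
        IsAdicComplete (maximalIdeal A) A ∧ CAlgX.IsAdicFormallySmooth k A (maximalIdeal A) ∧
        Nonempty (ResidueField A ≃ₐ[k] K) ∧ ringKrullDim A = n := by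
    intro hfin n hn
    obtain ⟨w, hw⟩ := exists_good n hn
    exact ⟨Tw w, inferInstance, inferInstance, inferInstance, inferInstance, isAdicComplete_Tw n w,
      adic_Tw n w hw, ⟨residueEquiv n w⟩, ringKrullDim_Tw n w⟩
  refine ⟨⟨?_, ?_⟩, part2⟩
  · rintro ⟨A, _, _, _, _, h, ⟨e⟩⟩
    exact finite_imperfection_of_adic h e
  · intro hfin
    obtain ⟨A, i1, i2, i3, i4, -, h, he, -⟩ := part2 hfin _ le_rfl
    exact ⟨A, i1, i2, i3, i4, h, he⟩

end Groth.Agent.Helper8.ImpEx
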