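import Mathlib
import Groth.Agent.Helper8.DivML

set_option autoImplicit false

namespace Groth.Agent.Helper8.IndCof

open CategoryTheory Limits

universe v u

section General

variable {V : Type u} [Category.{v} V] [Abelian V]

/-- membership in the image, up to refinements -/
lemma mem_im_iff {X Y S : V} (f : X ⟶ Y) (x : S ⟶ Y) :
    x ≫ cokernel.π f = 0 ↔
      ∃ (S' : V) (π : S' ⟶ S) (_ : Epi π) (z : S' ⟶ X), π ≫ x = z ≫ f := by
  have := Limits.CokernelCofork.IsColimit.comp_π_eq_zero_iff_up_to_refinements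
    (cokernelIsCokernel f) x
  simpa using this

lemma im_arrow_comp_cokernel {X Y : V} (g : X ⟶ Y) :
    (imageSubobject g).arrow ≫ cokernel.π g = 0 := by
  rw [← cancel_epi (factorThruImageSubobject g), ← Category.assoc, imageSubobject_arrow_comp,
    cokernel.condition, comp_zero]

lemma im_le_iff {X X' Y : V} (f : X ⟶ Y) (g : X' ⟶ Y) :
    imageSubobject f ≤ imageSubobject g ↔ f ≫ cokernel.π g = 0 := by
  constructor
  · intro h
    have h2 : f = factorThruImageSubobject f ≫ Subobject.ofLE _ _ h ≫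
        (imageSubobject g).arrow := by
      rw [Subobject.ofLE_arrow, imageSubobject_arrow_comp]
    rw [h2, Category.assoc, Category.assoc, im_arrow_comp_cokernel, comp_zero, comp_zero]
  · intro h
    have h0 : f ≫ cokernel.π (imageSubobject g).arrow = 0 := by
      have hd : cokernel.π g ≫ cokernel.desc g (cokernel.π (imageSubobject g).arrow)
          (DivML.comp_cokernel_im g) = cokernel.π (imageSubobject g).arrow :=
        cokernel.π_desc _ _ _
      rw [← hd, ← Category.assoc, h, zero_comp]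
    exact imageSubobject_le _ (Abelian.monoLift (imageSubobject g).arrow f h0)
      (Abelian.monoLift_comp _ _ _)

lemma isIso_cokernel_desc {X Y Z : V} (f : X ⟶ Y) (g : Y ⟶ Z) (w : f ≫ g = 0) [Epi g]
    (hex : ∀ ⦃S : V⦄ (k : S ⟶ Y), k ≫ g = 0 →
      ∃ (S' : V) (π : S' ⟶ S) (_ : Epi π) (k' : S' ⟶ X), π ≫ k = k' ≫ f) :
    IsIso (cokernel.desc f g w) := by
  haveI : Epi (cokernel.desc f g w) := epi_of_epi_fac (cokernel.π_desc f g w)
  haveI : Mono (cokernel.desc f g w) := by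
    refine Preadditive.mono_of_cancel_zero _ (fun {S} a ha => ?_)
    obtain ⟨S', π, hπ, k, hk⟩ := surjective_up_to_refinements_of_epi (cokernel.π f) a
    have hk0 : k ≫ g = 0 := by
      rw [← cokernel.π_desc f g w, ← Category.assoc, ← hk, Category.assoc, ha, comp_zero]
    obtain ⟨S'', π', hπ', k', hk'⟩ := hex k hk0
    have h0 : (π' ≫ π) ≫ a = 0 := by
      rw [Category.assoc, hk, ← Category.assoc, hk', Category.assoc, cokernel.condition,
        comp_zero]
    haveI := hπ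
    haveI := hπ'
    exact (cancel_epi (π' ≫ π)).1 (by rw [h0, comp_zero])
  exact isIso_of_mono_of_epi _

variable (A : V) (p : ℕ)

/-- multiplication by `p ^ n` -/
noncomputable abbrev P (n : ℕ) : A ⟶ A := (p ^ n) • 𝟙 A

lemma P_comp (a b : ℕ) : P A p a ≫ P A p b = P A p (a + b) := by
  simp only [P]
  rw [Preadditive.nsmul_comp, Category.id_comp, smul_smul, pow_add]

lemma P_congr {a b : ℕ} (h : a = b) : P A p a = P A p b := by subst h; rfl

lemma comp_P {S : V} (x : S ⟶ A) (n : ℕ) : x ≫ P A p n = (p ^ n) • x := by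
  simp only [P]
  rw [Preadditive.comp_nsmul, Category.comp_id]

lemma P_zero : P A p 0 = 𝟙 A := by simp [P]

lemma kι_P (m : ℕ) {a b : ℕ} (h : a + b = m) :
    kernel.ι (P A p m) ≫ P A p a ≫ P A p b = 0 := by
  subst h
  rw [P_comp, kernel.condition]

/-- `p ^ n : A[p^(n+1)] ⟶ A[p]` -/
noncomputable def vmap (n : ℕ) : kernel (P A p (n + 1)) ⟶ kernel (P A p 1) :=
  kernel.lift (P A p 1) (kernel.ι (P A p (n + 1)) ≫ P A p n)
    (by rw [Category.assoc]; exact kι_P A p (n + 1) rfl)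

@[reassoc]
lemma vmap_ι (n : ℕ) :
    vmap A p n ≫ kernel.ι (P A p 1) = kernel.ι (P A p (n + 1)) ≫ P A p n :=
  kernel.lift_ι _ _ _

/-- `p : A[p^(n+2)] ⟶ A[p^(n+1)]` -/
noncomputable def lam (n : ℕ) : kernel (P A p (n + 1 + 1)) ⟶ kernel (P A p (n + 1)) :=
  kernel.lift (P A p (n + 1)) (kernel.ι (P A p (n + 1 + 1)) ≫ P A p 1)
    (by rw [Category.assoc]; exact kι_P A p (n + 1 + 1) (by omega))

lemma lam_vmap (n : ℕ) : lam A p n ≫ vmap A p n = vmap A p (n + 1) := by
  rw [← cancel_mono (kernel.ι (P A p 1)), Category.assoc, vmap_ι, vmap_ι]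
  unfold lam
  rw [kernel.lift_ι_assoc, Category.assoc, P_comp, P_congr A p (Nat.add_comm 1 n)]

lemma vmap_antitone : Antitone (fun n => imageSubobject (vmap A p n)) := by
  refine antitone_nat_of_succ_le (fun n => ?_)
  show imageSubobject (vmap A p (n + 1)) ≤ imageSubobject (vmap A p n)
  rw [← lam_vmap]
  exact imageSubobject_comp_le _ _

theorem Phi (N : ℕ)
    (key : ∀ n, N ≤ n → vmap A p n ≫ cokernel.π (vmap A p (n + 1)) = 0) :
    ∀ (m : ℕ) (S : V) (x : S ⟶ A), x ≫ P A p m = 0 → ∀ n, N ≤ n →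
      x ≫ cokernel.π (P A p n) = 0 → x ≫ cokernel.π (P A p (n + 1)) = 0 := by
  intro m
  induction m with
  | zero =>
    intro S x hx n _ _
    rw [P_zero, Category.comp_id] at hx
    rw [hx, zero_comp]
  | succ m ih =>
    intro S x hx n hn hxn
    obtain ⟨S₁, π₁, hπ₁, w, hw⟩ := (mem_im_iff (P A p n) x).1 hxn
    have hw0 : w ≫ P A p (n + m + 1) = 0 := by
      have h1 : w ≫ P A p n ≫ P A p (m + 1) = 0 := by
        rw [← Category.assoc, ← hw, Category.assoc, hx, comp_zero]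
      rw [P_comp] at h1
      exact h1
    obtain ⟨w', hw'⟩ : ∃ w' : S₁ ⟶ kernel (P A p (n + m + 1)), w' ≫ kernel.ι _ = w :=
      ⟨kernel.lift _ w hw0, kernel.lift_ι _ _ _⟩
    have hy' : (w' ≫ vmap A p (n + m)) ≫ cokernel.π (vmap A p (n + m + 1)) = 0 := by
      rw [Category.assoc, key (n + m) (by omega), comp_zero]
    obtain ⟨S₂, π₂, hπ₂, z', hz'⟩ :=
      (mem_im_iff (vmap A p (n + m + 1)) (w' ≫ vmap A p (n + m))).1 hy'
    obtain ⟨z, hzdef⟩ : ∃ z : S₂ ⟶ A, z = z' ≫ kernel.ι (P A p (n + m + 1 + 1)) := ⟨_, rfl⟩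
    have hz : π₂ ≫ w ≫ P A p (n + m) = z ≫ P A p (n + m + 1) := by
      have h1 := congrArg (· ≫ kernel.ι (P A p 1)) hz'
      simp only [Category.assoc, vmap_ι] at h1
      rw [hzdef, ← hw', Category.assoc, Category.assoc]
      exact h1
    haveI := hπ₁
    haveI := hπ₂
    have hx'1 : (π₂ ≫ π₁ ≫ x - z ≫ P A p (n + 1)) ≫ P A p m = 0 := by
      rw [Preadditive.sub_comp, sub_eq_zero]
      calc (π₂ ≫ π₁ ≫ x) ≫ P A p m = π₂ ≫ (π₁ ≫ x) ≫ P A p m := by
            simp only [Category.assoc]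
        _ = π₂ ≫ w ≫ P A p (n + m) := by rw [hw, Category.assoc, P_comp]
        _ = z ≫ P A p (n + m + 1) := hz
        _ = (z ≫ P A p (n + 1)) ≫ P A p m := by
            rw [Category.assoc, P_comp, P_congr A p (show n + 1 + m = n + m + 1 by omega)]
    have hx'2 : (π₂ ≫ π₁ ≫ x - z ≫ P A p (n + 1)) ≫ cokernel.π (P A p n) = 0 := by
      rw [Preadditive.sub_comp, sub_eq_zero]
      have h1 : (π₂ ≫ π₁ ≫ x) ≫ cokernel.π (P A p n) = 0 := by
        simp only [Category.assoc]
        rw [hxn, comp_zero, comp_zero]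
      have h2 : (z ≫ P A p (n + 1)) ≫ cokernel.π (P A p n) = 0 := by
        rw [P_congr A p (Nat.add_comm n 1), ← P_comp, Category.assoc, Category.assoc,
          cokernel.condition, comp_zero, comp_zero]
      rw [h1, h2]
    have h3 := ih S₂ _ hx'1 n hn hx'2
    rw [Preadditive.sub_comp, sub_eq_zero] at h3
    have h4 : (z ≫ P A p (n + 1)) ≫ cokernel.π (P A p (n + 1)) = 0 := by
      rw [Category.assoc, cokernel.condition, comp_zero]
    rw [h4] at h3
    have h5 : (π₂ ≫ π₁) ≫ x ≫ cokernel.π (P A p (n + 1)) = 0 := by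
      simp only [Category.assoc] at h3 ⊢
      exact h3
    exact (cancel_epi (π₂ ≫ π₁)).1 (by rw [h5, comp_zero])

end General

section MoreGeneral

variable {V : Type u} [Category.{v} V] [Abelian V] (A : V) (p : ℕ)

/-- `p ^ n : A[p^(N+n)] ⟶ A[p^N]` -/
noncomputable def psi (N n : ℕ) : kernel (P A p (N + n)) ⟶ kernel (P A p N) :=
  kernel.lift (P A p N) (kernel.ι (P A p (N + n)) ≫ P A p n)
    (by rw [Category.assoc]; exact kι_P A p (N + n) (by omega))

@[reassoc]
lemma psi_ι (N n : ℕ) :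
    psi A p N n ≫ kernel.ι (P A p N) = kernel.ι (P A p (N + n)) ≫ P A p n :=
  kernel.lift_ι _ _ _

lemma psi_q (N n : ℕ) :
    psi A p N n ≫ kernel.ι (P A p N) ≫ cokernel.π (P A p n) = 0 := by
  rw [psi_ι_assoc, cokernel.condition, comp_zero]

/-- `A[p^N] → A / p^n A` is onto with kernel the image of `psi`, provided `p^N A = p^(N+n) A`. -/
theorem coker_iso (N n : ℕ)
    (hN : imageSubobject (P A p N) ≤ imageSubobject (P A p (N + n))) :
    IsIso (cokernel.desc (psi A p N n) (kernel.ι (P A p N) ≫ cokernel.π (P A p n))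
      (psi_q A p N n)) := by
  have hN' : P A p N ≫ cokernel.π (P A p (N + n)) = 0 := (im_le_iff _ _).1 hN
  haveI : Epi (kernel.ι (P A p N) ≫ cokernel.π (P A p n)) := by
    rw [epi_iff_surjective_up_to_refinements]
    intro S a
    obtain ⟨S', π, hπ, x, hx⟩ := surjective_up_to_refinements_of_epi (cokernel.π (P A p n)) a
    have h1 : (x ≫ P A p N) ≫ cokernel.π (P A p (N + n)) = 0 := by
      rw [Category.assoc, hN', comp_zero]
    obtain ⟨S'', π', hπ', z, hz⟩ := (mem_im_iff (P A p (N + n)) (x ≫ P A p N)).1 h1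
    have hk0 : (π' ≫ x - z ≫ P A p n) ≫ P A p N = 0 := by
      rw [Preadditive.sub_comp, sub_eq_zero, Category.assoc, Category.assoc, hz, P_comp,
        P_congr A p (Nat.add_comm n N)]
    haveI := hπ
    haveI := hπ'
    refine ⟨S'', π' ≫ π, inferInstance, kernel.lift _ _ hk0, ?_⟩
    rw [← Category.assoc (kernel.lift _ _ hk0), kernel.lift_ι, Preadditive.sub_comp,
      Category.assoc, Category.assoc, Category.assoc, cokernel.condition, comp_zero, sub_zero,
      hx]
  refine isIso_cokernel_desc _ _ _ (fun S k hk => ?_)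
  rw [← Category.assoc] at hk
  obtain ⟨S', π, hπ, w, hw⟩ := (mem_im_iff (P A p n) (k ≫ kernel.ι (P A p N))).1 hk
  have hw0 : w ≫ P A p (N + n) = 0 := by
    rw [P_congr A p (Nat.add_comm N n), ← P_comp, ← Category.assoc, ← hw, Category.assoc,
      Category.assoc, kernel.condition, comp_zero, comp_zero]
  refine ⟨S', π, hπ, kernel.lift _ w hw0, ?_⟩
  rw [← cancel_mono (kernel.ι (P A p N)), Category.assoc, Category.assoc, psi_ι,
    kernel.lift_ι_assoc, hw]

/-- the inclusion `A[p^N] ⟶ A[p^(N+n)]` -/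
noncomputable def incl (N n : ℕ) : kernel (P A p N) ⟶ kernel (P A p (N + n)) :=
  kernel.lift (P A p (N + n)) (kernel.ι (P A p N))
    (by rw [← P_comp, kernel.condition_assoc, zero_comp])

@[reassoc]
lemma incl_ι (N n : ℕ) :
    incl A p N n ≫ kernel.ι (P A p (N + n)) = kernel.ι (P A p N) :=
  kernel.lift_ι _ _ _

/-- notation: the object `p^N A` -/
noncomputable abbrev Dobj (N : ℕ) : V := ((imageSubobject (P A p N) : Subobject A) : V)

lemma theta0_cond (N n : ℕ) :
    (kernel.ι (P A p (N + n)) ≫ factorThruImageSubobject (P A p N)) ≫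
      ((p ^ n) • 𝟙 (Dobj A p N)) = 0 := by
  rw [← cancel_mono (imageSubobject (P A p N)).arrow, zero_comp, Category.assoc, Category.assoc,
    DivML.nsmul_comm_arrow, imageSubobject_arrow_comp_assoc]
  exact kι_P A p (N + n) rfl

/-- `p^N : A[p^(N+n)] ⟶ (p^N A)[p^n]` -/
noncomputable def theta (N n : ℕ) :
    kernel (P A p (N + n)) ⟶ kernel ((p ^ n) • 𝟙 (Dobj A p N)) :=
  kernel.lift _ (kernel.ι (P A p (N + n)) ≫ factorThruImageSubobject (P A p N))
    (theta0_cond A p N n)

@[reassoc]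
lemma theta_ι (N n : ℕ) :
    theta A p N n ≫ kernel.ι ((p ^ n) • 𝟙 (Dobj A p N)) =
      kernel.ι (P A p (N + n)) ≫ factorThruImageSubobject (P A p N) :=
  kernel.lift_ι _ _ _

lemma incl_theta (N n : ℕ) : incl A p N n ≫ theta A p N n = 0 := by
  rw [← cancel_mono (kernel.ι ((p ^ n) • 𝟙 (Dobj A p N))), Category.assoc, theta_ι,
    incl_ι_assoc, zero_comp, ← cancel_mono (imageSubobject (P A p N)).arrow, Category.assoc,
    imageSubobject_arrow_comp, kernel.condition, zero_comp]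

/-- `(p^N A)[p^n] ≅ A[p^(N+n)] / A[p^N]` -/
theorem torsion_iso (N n : ℕ) :
    IsIso (cokernel.desc (incl A p N n) (theta A p N n) (incl_theta A p N n)) := by
  haveI : Epi (theta A p N n) := by
    rw [epi_iff_surjective_up_to_refinements]
    intro S a
    obtain ⟨S', π, hπ, x, hx⟩ := surjective_up_to_refinements_of_epi
      (factorThruImageSubobject (P A p N)) (a ≫ kernel.ι ((p ^ n) • 𝟙 (Dobj A p N)))
    have hx0 : x ≫ P A p (N + n) = 0 := by
      rw [← P_comp, ← imageSubobject_arrow_comp (P A p N), Category.assoc,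
        ← DivML.nsmul_comm_arrow, ← Category.assoc, ← Category.assoc, ← hx]
      simp only [Category.assoc]
      rw [kernel.condition_assoc, zero_comp, comp_zero, comp_zero]
    refine ⟨S', π, hπ, kernel.lift _ x hx0, ?_⟩
    rw [← cancel_mono (kernel.ι ((p ^ n) • 𝟙 (Dobj A p N))), Category.assoc, Category.assoc,
      theta_ι, kernel.lift_ι_assoc, hx]
  refine isIso_cokernel_desc _ _ _ (fun S k hk => ?_)
  have hk1 : (k ≫ kernel.ι (P A p (N + n))) ≫ P A p N = 0 := by
    have h1 := congrArg (· ≫ kernel.ι ((p ^ n) • 𝟙 (Dobj A p N)) ≫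
      (imageSubobject (P A p N)).arrow) hk
    simp only [Category.assoc, zero_comp, theta_ι_assoc, imageSubobject_arrow_comp] at h1
    rw [Category.assoc]
    exact h1
  refine ⟨S, 𝟙 S, inferInstance, kernel.lift _ _ hk1, ?_⟩
  rw [Category.id_comp, ← cancel_mono (kernel.ι (P A p (N + n))), Category.assoc, incl_ι,
    kernel.lift_ι]

lemma epi_pow_of_epi {B : V} (h : Epi (p • 𝟙 B)) (n : ℕ) : Epi ((p ^ n) • 𝟙 B) := by
  induction n with
  | zero => simp only [pow_zero, one_smul]; infer_instance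
  | succ n ih =>
    have : (p ^ (n + 1)) • 𝟙 B = ((p ^ n) • 𝟙 B) ≫ (p • 𝟙 B) := by
      rw [Preadditive.nsmul_comp, Category.id_comp, smul_smul, pow_succ]
    rw [this]
    exact epi_comp _ _

end MoreGeneral

section IndPart

variable {C : Type v} [SmallCategory C] [Abelian C]

noncomputable instance yonedaAdditive : (Ind.yoneda (C := C)).Additive :=
  Functor.additive_of_preserves_binary_products _

/-- the essential image of `C` in `Ind C` -/
abbrev E : ObjectProperty (Ind C) := (Ind.yoneda (C := C)).essImage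

lemma E_of_iso {A B : Ind C} (e : A ≅ B) (h : E A) : E B :=
  Functor.essImage.ofIso e h

lemma E_kernel {A B : Ind C} (f : A ⟶ B) (hA : E A) (hB : E B) : E (kernel f) := by
  obtain ⟨X, ⟨eA⟩⟩ := hA
  obtain ⟨Y, ⟨eB⟩⟩ := hB
  obtain ⟨g, hg⟩ : ∃ g : X ⟶ Y, (Ind.yoneda (C := C)).map g = eA.hom ≫ f ≫ eB.inv :=
    ⟨_, Functor.map_preimage _ _⟩
  refine ⟨kernel g, ⟨PreservesKernel.iso Ind.yoneda g ≪≫ kernel.mapIso _ _ eA eB ?_⟩⟩
  rw [hg]
  simp

lemma E_cokernel {A B : Ind C} (f : A ⟶ B) (hA : E A) (hB : E B) : E (cokernel f) := by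
  obtain ⟨X, ⟨eA⟩⟩ := hA
  obtain ⟨Y, ⟨eB⟩⟩ := hB
  obtain ⟨g, hg⟩ : ∃ g : X ⟶ Y, (Ind.yoneda (C := C)).map g = eA.hom ≫ f ≫ eB.inv :=
    ⟨_, Functor.map_preimage _ _⟩
  refine ⟨cokernel g, ⟨PreservesCokernel.iso Ind.yoneda g ≪≫ cokernel.mapIso _ _ eA eB ?_⟩⟩
  rw [hg]
  simp

lemma E_imageSubobject {A B : Ind C} (f : A ⟶ B) (hA : E A) (hB : E B) :
    E ((imageSubobject f : Subobject B) : Ind C) := by
  have h1 : E (cokernel f) := E_cokernel f hA hB
  have h2 : E (kernel (cokernel.π f)) := E_kernel _ hB h1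
  exact E_of_iso ((Abelian.imageIsoImage f) ≪≫ (imageSubobjectIso f).symm) h2

lemma chain_stab (hart : ∀ X : C, IsArtinianObject X) {B : Ind C} (hB : E B)
    (G : ℕ → Subobject B) (hG : Antitone G) (hE : ∀ n, E ((G n : Subobject B) : Ind C)) :
    ∃ N, ∀ n, N ≤ n → G n = G N := by
  obtain ⟨X, ⟨e⟩⟩ := hB
  choose Z hZ using hE
  have eZ : ∀ n, (Ind.yoneda (C := C)).obj (Z n) ≅ ((G n : Subobject B) : Ind C) :=
    fun n => (hZ n).some
  have hg : ∀ n, ∃ g : Z n ⟶ X,
      (Ind.yoneda (C := C)).map g = (eZ n).hom ≫ (G n).arrow ≫ e.inv :=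
    fun n => ⟨_, Functor.map_preimage _ _⟩
  choose g hg using hg
  haveI : ∀ n, Mono (g n) := fun n => by
    apply Functor.mono_of_mono_map (Ind.yoneda (C := C))
    rw [hg]
    infer_instance
  haveI := hart X
  have hanti : ∀ m n, m ≤ n → Subobject.mk (g n) ≤ Subobject.mk (g m) := by
    intro m n hmn
    have hle := hG hmn
    obtain ⟨h, hh⟩ : ∃ h : Z n ⟶ Z m, (Ind.yoneda (C := C)).map h =
        (eZ n).hom ≫ Subobject.ofLE _ _ hle ≫ (eZ m).inv := ⟨_, Functor.map_preimage _ _⟩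
    refine Subobject.mk_le_mk_of_comm h ?_
    apply (Ind.yoneda (C := C)).map_injective
    rw [Functor.map_comp, hh, hg, hg]
    simp
  obtain ⟨N, hN⟩ := antitone_chain_condition_of_isArtinianObject (X := X)
    ⟨fun n => OrderDual.toDual (Subobject.mk (g n)), fun m n hmn => hanti m n hmn⟩
  refine ⟨N, fun n hn => le_antisymm (hG hn) ?_⟩
  have h1 : Subobject.mk (g N) = Subobject.mk (g n) := OrderDual.toDual.injective (hN n hn)
  have hle : Subobject.mk (g N) ≤ Subobject.mk (g n) := h1.le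
  refine Subobject.le_of_comm
    ((eZ N).inv ≫ (Ind.yoneda (C := C)).map (Subobject.ofMkLEMk _ _ hle) ≫ (eZ n).hom) ?_
  have h2 : (Ind.yoneda (C := C)).map (Subobject.ofMkLEMk _ _ hle) ≫
      (Ind.yoneda (C := C)).map (g n) = (Ind.yoneda (C := C)).map (g N) := by
    rw [← Functor.map_comp, Subobject.ofMkLEMk_comp]
  rw [hg, hg] at h2
  rw [← cancel_mono e.inv, ← cancel_epi (eZ N).hom]
  simp only [Category.assoc, Iso.hom_inv_id_assoc]
  exact h2

lemma eq_zero_of_yoneda_test {A B : Ind C} (f : A ⟶ B)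
    (h : ∀ (T : C) (t : (Ind.yoneda (C := C)).obj T ⟶ A), t ≫ f = 0) : f = 0 := by
  refine Ind.isSeparating_range_yoneda f 0 (fun G hG t => ?_)
  obtain ⟨T⟩ := hG
  rw [h T t, comp_zero]

theorem stab (hart : ∀ X : C, IsArtinianObject X) (p : ℕ)
    (htor : ∀ X : C, ∃ n : ℕ, (p ^ n) • 𝟙 X = 0)
    (A : Ind C) (hA : ∀ n : ℕ, E (kernel ((p ^ n) • 𝟙 A))) :
    ∃ N : ℕ, ∀ n : ℕ, N ≤ n →
      imageSubobject ((p ^ n) • 𝟙 A) = imageSubobject ((p ^ N) • 𝟙 A) := by
  obtain ⟨N, hN⟩ := chain_stab hart (hA 1) (fun n => imageSubobject (vmap A p n))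
    (vmap_antitone A p) (fun n => E_imageSubobject _ (hA (n + 1)) (hA 1))
  have key : ∀ n, N ≤ n → vmap A p n ≫ cokernel.π (vmap A p (n + 1)) = 0 := by
    intro n hn
    rw [← im_le_iff]
    have h1 := hN n hn
    have h2 := hN (n + 1) (by omega)
    rw [h1, h2]
  have step : ∀ n, N ≤ n → imageSubobject (P A p (n + 1)) = imageSubobject (P A p n) := by
    intro n hn
    apply le_antisymm
    · rw [P_congr A p (Nat.add_comm n 1), ← P_comp]
      exact imageSubobject_comp_le _ _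
    · rw [im_le_iff]
      refine eq_zero_of_yoneda_test _ (fun T t => ?_)
      obtain ⟨m, hm⟩ := htor T
      rw [← Category.assoc]
      refine Phi A p N key m _ (t ≫ P A p n) ?_ n hn ?_
      · rw [comp_P]
        have h0 : (p ^ m) • 𝟙 ((Ind.yoneda (C := C)).obj T) = 0 := by
          have h00 := (Ind.yoneda (C := C)).map_nsmul (f := 𝟙 T) (n := p ^ m)
          rw [hm, (Ind.yoneda (C := C)).map_zero, (Ind.yoneda (C := C)).map_id] at h00
          exact h00.symm
        calc (p ^ m) • (t ≫ P A p n)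
            = ((p ^ m) • 𝟙 ((Ind.yoneda (C := C)).obj T)) ≫ (t ≫ P A p n) := by
              rw [Preadditive.nsmul_comp, Category.id_comp]
          _ = 0 := by rw [h0, zero_comp]
      · rw [Category.assoc, cokernel.condition, comp_zero]
  refine ⟨N, fun n hn => ?_⟩
  induction n, hn using Nat.le_induction with
  | base => rfl
  | succ n hn ih => exact (step n hn).trans ih

theorem coker_mem (hart : ∀ X : C, IsArtinianObject X) (p : ℕ)
    (htor : ∀ X : C, ∃ n : ℕ, (p ^ n) • 𝟙 X = 0)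
    (A : Ind C) (hA : ∀ n : ℕ, E (kernel ((p ^ n) • 𝟙 A))) (n : ℕ) :
    E (cokernel ((p ^ n) • 𝟙 A)) := by
  obtain ⟨N, hN⟩ := stab hart p htor A hA
  have h1 : imageSubobject (P A p N) ≤ imageSubobject (P A p (N + n)) :=
    (hN (N + n) (by omega)).ge
  haveI := coker_iso A p N n h1
  exact E_of_iso (asIso (cokernel.desc (psi A p N n)
    (kernel.ι (P A p N) ≫ cokernel.π (P A p n)) (psi_q A p N n)))
    (E_cokernel _ (hA (N + n)) (hA N))

theorem divPart (hart : ∀ X : C, IsArtinianObject X) (p : ℕ)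
    (htor : ∀ X : C, ∃ n : ℕ, (p ^ n) • 𝟙 X = 0)
    (A : Ind C) (hA : ∀ n : ℕ, E (kernel ((p ^ n) • 𝟙 A))) (N : ℕ)
    (hN : ∀ n : ℕ, N ≤ n →
      imageSubobject ((p ^ n) • 𝟙 A) = imageSubobject ((p ^ N) • 𝟙 A)) :
    (∀ n : ℕ, E (kernel ((p ^ n) • 𝟙 ((imageSubobject ((p ^ N) • 𝟙 A) : Subobject A) : Ind C)))) ∧
      Epi (p • 𝟙 ((imageSubobject ((p ^ N) • 𝟙 A) : Subobject A) : Ind C)) ∧
      (∀ D : Subobject A, Epi (p • 𝟙 (D : Ind C)) → D ≤ imageSubobject ((p ^ N) • 𝟙 A)) ∧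
      (∀ (Q : Ind C) (q : A ⟶ Q), Epi q → E Q →
        (imageSubobject ((p ^ N) • 𝟙 A)).arrow ≫ q = 0) := by
  refine ⟨fun n => ?_, ?_, fun D hD => ?_, fun Q q _ hQ => ?_⟩
  · haveI := torsion_iso A p N n
    exact E_of_iso (asIso (cokernel.desc (incl A p N n) (theta A p N n) (incl_theta A p N n)))
      (E_cokernel _ (hA N) (hA (N + n)))
  · apply DivML.epi_of_im_eq
    have h1 : imageSubobject ((imageSubobject (P A p N)).arrow ≫ (p • 𝟙 A)) =
        imageSubobject (P A p (N + 1)) := by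
      rw [← DivML.imageSubobject_epi_comp (factorThruImageSubobject (P A p N))]
      apply DivML.im_congr
      rw [imageSubobject_arrow_comp_assoc, ← P_comp]
      simp [P]
    rw [h1]
    exact hN (N + 1) (by omega)
  · haveI := epi_pow_of_epi p hD N
    exact DivML.le_im_of_epi D (p ^ N)
  · obtain ⟨X, ⟨e⟩⟩ := hQ
    obtain ⟨k, hk⟩ := htor X
    have hQ0 : (p ^ k) • 𝟙 Q = 0 := by
      have h0 : (p ^ k) • 𝟙 ((Ind.yoneda (C := C)).obj X) = 0 := by
        have h00 := (Ind.yoneda (C := C)).map_nsmul (f := 𝟙 X) (n := p ^ k)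
        rw [hk, (Ind.yoneda (C := C)).map_zero, (Ind.yoneda (C := C)).map_id] at h00
        exact h00.symm
      have h1 : (p ^ k) • 𝟙 Q = e.inv ≫ ((p ^ k) • 𝟙 ((Ind.yoneda (C := C)).obj X)) ≫ e.hom := by
        rw [Preadditive.nsmul_comp, Preadditive.comp_nsmul, Category.id_comp, e.inv_hom_id]
      rw [h1, h0, zero_comp, comp_zero]
    have h2 : P A p (N + k) ≫ q = 0 := by
      rw [← P_comp, Category.assoc]
      have : P A p k ≫ q = q ≫ ((p ^ k) • 𝟙 Q) := by
        simp only [P]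
        rw [Preadditive.nsmul_comp, Preadditive.comp_nsmul, Category.id_comp, Category.comp_id]
      rw [this, hQ0, comp_zero, comp_zero]
    have key : ∀ S : Subobject A, S = imageSubobject (P A p (N + k)) → S.arrow ≫ q = 0 := by
      rintro _ rfl
      rw [← cancel_epi (factorThruImageSubobject (P A p (N + k))), ← Category.assoc,
        imageSubobject_arrow_comp, h2, comp_zero]
    exact key _ (hN (N + k) (by omega)).symm

end IndPart

end Groth.Agent.Helper8.IndCof
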