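import Mathlib
import Groth.Agent.Helper8.IndCof

set_option autoImplicit false

namespace Groth.Agent.Helper8.IndCof2

open CategoryTheory Limits Groth.Agent.Helper8.IndCof

universe v u

section QuotCof

variable {V : Type u} [Category.{v} V] [Abelian V] {K A : V} (k : K ⟶ A) (p : ℕ)

lemma k_P (m : ℕ) : k ≫ P A p m = P K p m ≫ k := by
  simp only [P]
  rw [Preadditive.comp_nsmul, Preadditive.nsmul_comp, Category.comp_id, Category.id_comp]

lemma pow_ι (B : V) (M n : ℕ) :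
    ((p ^ n) • 𝟙 (kernel (P B p M))) ≫ kernel.ι (P B p M) = kernel.ι (P B p M) ≫ P B p n := by
  simp only [P]
  rw [Preadditive.comp_nsmul, Preadditive.nsmul_comp, Category.comp_id, Category.id_comp]

lemma π_pow (n : ℕ) :
    cokernel.π k ≫ ((p ^ n) • 𝟙 (cokernel k)) = P A p n ≫ cokernel.π k := by
  simp only [P]
  rw [Preadditive.comp_nsmul, Preadditive.nsmul_comp, Category.comp_id, Category.id_comp]

/-- `K[p^M] ⟶ A[p^M]` -/
noncomputable def kM (M : ℕ) : kernel (P K p M) ⟶ kernel (P A p M) :=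
  kernel.lift (P A p M) (kernel.ι (P K p M) ≫ k)
    (by rw [Category.assoc, k_P, kernel.condition_assoc, zero_comp])

@[reassoc]
lemma kM_ι (M : ℕ) : kM k p M ≫ kernel.ι (P A p M) = kernel.ι (P K p M) ≫ k :=
  kernel.lift_ι _ _ _

/-- `A[p^M] ⟶ A[p^M] / K[p^M]`, `x ↦ [p^n x]` -/
noncomputable def gmap (M n : ℕ) : kernel (P A p M) ⟶ cokernel (kM k p M) :=
  ((p ^ n) • 𝟙 (kernel (P A p M))) ≫ cokernel.π (kM k p M)

lemma gmap_eq (M n : ℕ) :
    gmap k p M n = ((p ^ n) • 𝟙 (kernel (P A p M))) ≫ cokernel.π (kM k p M) := rfl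

lemma kM_g (M n : ℕ) : kM k p M ≫ gmap k p M n = 0 := by
  rw [gmap_eq, Preadditive.nsmul_comp, Category.id_comp, Preadditive.comp_nsmul,
    cokernel.condition, smul_zero]

lemma kg_cond (M n : ℕ) :
    (kernel.ι (gmap k p M n) ≫ ((p ^ n) • 𝟙 (kernel (P A p M)))) ≫ cokernel.π (kM k p M) = 0 := by
  rw [Category.assoc]
  exact kernel.condition (gmap k p M n)

lemma sigma_cond (M n : ℕ) :
    (kernel.ι (gmap k p M n) ≫ kernel.ι (P A p M) ≫ cokernel.π k) ≫
      ((p ^ n) • 𝟙 (cokernel k)) = 0 := by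
  obtain ⟨S', ρ, hρ, y, hy⟩ := (mem_im_iff (kM k p M) _).1 (kg_cond k p M n)
  haveI := hρ
  rw [← cancel_epi ρ, comp_zero]
  calc ρ ≫ (kernel.ι (gmap k p M n) ≫ kernel.ι (P A p M) ≫ cokernel.π k) ≫
        ((p ^ n) • 𝟙 (cokernel k))
      = ρ ≫ kernel.ι (gmap k p M n) ≫ (kernel.ι (P A p M) ≫ P A p n) ≫ cokernel.π k := by
        simp only [Category.assoc, π_pow]
    _ = (ρ ≫ kernel.ι (gmap k p M n) ≫ ((p ^ n) • 𝟙 (kernel (P A p M)))) ≫
          kernel.ι (P A p M) ≫ cokernel.π k := by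
        rw [← pow_ι]
        simp only [Category.assoc]
    _ = (y ≫ kM k p M) ≫ kernel.ι (P A p M) ≫ cokernel.π k := by rw [hy]
    _ = 0 := by
        rw [Category.assoc, kM_ι_assoc, cokernel.condition, comp_zero, comp_zero]

/-- `T ⟶ (A/K)[p^n]` -/
noncomputable def sigma (M n : ℕ) :
    kernel (gmap k p M n) ⟶ kernel ((p ^ n) • 𝟙 (cokernel k)) :=
  kernel.lift _ (kernel.ι (gmap k p M n) ≫ kernel.ι (P A p M) ≫ cokernel.π k)
    (sigma_cond k p M n)

@[reassoc]
lemma sigma_ι (M n : ℕ) :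
    sigma k p M n ≫ kernel.ι ((p ^ n) • 𝟙 (cokernel k)) =
      kernel.ι (gmap k p M n) ≫ kernel.ι (P A p M) ≫ cokernel.π k :=
  kernel.lift_ι _ _ _

/-- `K[p^M] ⟶ T` -/
noncomputable def jmap (M n : ℕ) : kernel (P K p M) ⟶ kernel (gmap k p M n) :=
  kernel.lift _ (kM k p M) (kM_g k p M n)

@[reassoc]
lemma jmap_ι (M n : ℕ) : jmap k p M n ≫ kernel.ι (gmap k p M n) = kM k p M :=
  kernel.lift_ι _ _ _

lemma j_sigma (M n : ℕ) : jmap k p M n ≫ sigma k p M n = 0 := by
  rw [← cancel_mono (kernel.ι ((p ^ n) • 𝟙 (cokernel k))), Category.assoc, sigma_ι,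
    jmap_ι_assoc, kM_ι_assoc, cokernel.condition, comp_zero, zero_comp]

theorem quot_iso [Mono k] (N n : ℕ)
    (hN : imageSubobject (P K p N) ≤ imageSubobject (P K p (N + n))) :
    IsIso (cokernel.desc (jmap k p (N + n) n) (sigma k p (N + n) n) (j_sigma k p (N + n) n)) := by
  have hN' : P K p N ≫ cokernel.π (P K p (N + n)) = 0 := (im_le_iff _ _).1 hN
  haveI : Epi (sigma k p (N + n) n) := by
    rw [epi_iff_surjective_up_to_refinements]
    intro S a
    obtain ⟨S₁, ρ₁, hρ₁, x, hx⟩ := surjective_up_to_refinements_of_epi (cokernel.π k)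
      (a ≫ kernel.ι ((p ^ n) • 𝟙 (cokernel k)))
    have hx1 : (x ≫ P A p n) ≫ cokernel.π k = 0 := by
      rw [Category.assoc, ← π_pow, ← Category.assoc, ← hx, Category.assoc, Category.assoc,
        kernel.condition, comp_zero, comp_zero]
    obtain ⟨S₂, ρ₂, hρ₂, y, hy⟩ := (mem_im_iff k (x ≫ P A p n)).1 hx1
    have hy1 : (y ≫ P K p N) ≫ cokernel.π (P K p (N + n)) = 0 := by
      rw [Category.assoc, hN', comp_zero]
    obtain ⟨S₃, ρ₃, hρ₃, d, hd⟩ := (mem_im_iff (P K p (N + n)) (y ≫ P K p N)).1 hy1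
    have hx'0 : (ρ₃ ≫ ρ₂ ≫ x - d ≫ k) ≫ P A p (N + n) = 0 := by
      rw [Preadditive.sub_comp, sub_eq_zero]
      calc (ρ₃ ≫ ρ₂ ≫ x) ≫ P A p (N + n)
          = ρ₃ ≫ (ρ₂ ≫ x ≫ P A p n) ≫ P A p N := by
            rw [P_congr A p (Nat.add_comm N n), ← P_comp]
            simp only [Category.assoc]
        _ = ρ₃ ≫ (y ≫ k) ≫ P A p N := by rw [hy]
        _ = (ρ₃ ≫ y ≫ P K p N) ≫ k := by simp only [Category.assoc, k_P]
        _ = (d ≫ P K p (N + n)) ≫ k := by rw [hd]
        _ = (d ≫ k) ≫ P A p (N + n) := by simp only [Category.assoc, k_P]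
    have hy'k : (ρ₃ ≫ y - d ≫ P K p n) ≫ k = (ρ₃ ≫ ρ₂ ≫ x - d ≫ k) ≫ P A p n := by
      rw [Preadditive.sub_comp, Preadditive.sub_comp]
      congr 1
      · rw [Category.assoc, ← hy]
        simp only [Category.assoc]
      · simp only [Category.assoc, k_P]
    have hy'0 : (ρ₃ ≫ y - d ≫ P K p n) ≫ P K p (N + n) = 0 := by
      rw [← cancel_mono k, zero_comp, Category.assoc, ← k_P, ← Category.assoc, hy'k,
        Category.assoc, P_comp, P_congr A p (Nat.add_comm n (N + n)), ← P_comp,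
        ← Category.assoc, hx'0, zero_comp]
    have h3 : kernel.lift (P A p (N + n)) _ hx'0 ≫ ((p ^ n) • 𝟙 _) =
        kernel.lift (P K p (N + n)) _ hy'0 ≫ kM k p (N + n) := by
      rw [← cancel_mono (kernel.ι (P A p (N + n))), Category.assoc, pow_ι,
        kernel.lift_ι_assoc, Category.assoc, kM_ι, kernel.lift_ι_assoc, hy'k]
    have hx''g : kernel.lift (P A p (N + n)) _ hx'0 ≫ gmap k p (N + n) n = 0 := by
      rw [gmap_eq, ← Category.assoc, h3, Category.assoc, cokernel.condition, comp_zero]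
    haveI := hρ₁
    haveI := hρ₂
    haveI := hρ₃
    refine ⟨S₃, ρ₃ ≫ ρ₂ ≫ ρ₁, inferInstance, kernel.lift _ _ hx''g, ?_⟩
    rw [← cancel_mono (kernel.ι ((p ^ n) • 𝟙 (cokernel k)))]
    simp only [Category.assoc, sigma_ι, kernel.lift_ι_assoc]
    rw [hx, Preadditive.sub_comp, Category.assoc d, cokernel.condition, comp_zero, sub_zero]
    simp only [Category.assoc]
  refine isIso_cokernel_desc _ _ _ (fun S t ht => ?_)
  have ht1 : (t ≫ kernel.ι (gmap k p (N + n) n) ≫ kernel.ι (P A p (N + n))) ≫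
      cokernel.π k = 0 := by
    have h1 := congrArg (· ≫ kernel.ι ((p ^ n) • 𝟙 (cokernel k))) ht
    simp only [Category.assoc, zero_comp, sigma_ι] at h1
    simp only [Category.assoc]
    exact h1
  obtain ⟨S', ρ, hρ, y, hy⟩ := (mem_im_iff k _).1 ht1
  have hy0 : y ≫ P K p (N + n) = 0 := by
    rw [← cancel_mono k, zero_comp, Category.assoc, ← k_P, ← Category.assoc, ← hy]
    simp only [Category.assoc]
    rw [kernel.condition, comp_zero, comp_zero, comp_zero]
  refine ⟨S', ρ, hρ, kernel.lift _ y hy0, ?_⟩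
  rw [← cancel_mono (kernel.ι (gmap k p (N + n) n)), ← cancel_mono (kernel.ι (P A p (N + n)))]
  simp only [Category.assoc, jmap_ι, kM_ι, kernel.lift_ι_assoc]
  exact hy

end QuotCof


section KerIso

variable {V : Type u} [Category.{v} V] [Abelian V] {A B : V} (f : A ⟶ B) (p : ℕ)

/-- `A[p^n] ⟶ B[p^n]` -/
noncomputable def fn (n : ℕ) : kernel (P A p n) ⟶ kernel (P B p n) :=
  kernel.lift (P B p n) (kernel.ι (P A p n) ≫ f)
    (by rw [Category.assoc, k_P, kernel.condition_assoc, zero_comp])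

@[reassoc]
lemma fn_ι (n : ℕ) : fn f p n ≫ kernel.ι (P B p n) = kernel.ι (P A p n) ≫ f :=
  kernel.lift_ι _ _ _

lemma pow_ιf (n : ℕ) :
    ((p ^ n) • 𝟙 (kernel f)) ≫ kernel.ι f = kernel.ι f ≫ P A p n := by
  simp only [P]
  rw [Preadditive.comp_nsmul, Preadditive.nsmul_comp, Category.comp_id, Category.id_comp]

noncomputable def kerIso (n : ℕ) : kernel ((p ^ n) • 𝟙 (kernel f)) ≅ kernel (fn f p n) where
  hom := kernel.lift (fn f p n)
    (kernel.lift (P A p n) (kernel.ι ((p ^ n) • 𝟙 (kernel f)) ≫ kernel.ι f)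
      (by rw [Category.assoc, ← pow_ιf, kernel.condition_assoc, zero_comp]))
    (by
      rw [← cancel_mono (kernel.ι (P B p n)), Category.assoc, fn_ι, kernel.lift_ι_assoc,
        Category.assoc, kernel.condition, comp_zero, zero_comp])
  inv := kernel.lift ((p ^ n) • 𝟙 (kernel f))
    (kernel.lift f (kernel.ι (fn f p n) ≫ kernel.ι (P A p n))
      (by rw [Category.assoc, ← fn_ι, kernel.condition_assoc, zero_comp]))
    (by
      rw [← cancel_mono (kernel.ι f), Category.assoc, pow_ιf, kernel.lift_ι_assoc,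
        Category.assoc, kernel.condition, comp_zero, zero_comp])
  hom_inv_id := by
    rw [← cancel_mono (kernel.ι ((p ^ n) • 𝟙 (kernel f))), ← cancel_mono (kernel.ι f)]
    simp only [Category.assoc, kernel.lift_ι, kernel.lift_ι_assoc, Category.id_comp]
  inv_hom_id := by
    rw [← cancel_mono (kernel.ι (fn f p n)), ← cancel_mono (kernel.ι (P A p n))]
    simp only [Category.assoc, kernel.lift_ι, kernel.lift_ι_assoc, Category.id_comp]

end KerIso

section PsiSec

variable {V : Type u} [Category.{v} V] [Abelian V] (A : V) (b : ℕ)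

lemma shift_mem {S : V} (x : S ⟶ A) (k : ℕ) (hx : x ≫ cokernel.π (P A b k) = 0) :
    (b • x) ≫ cokernel.π (P A b (k + 1)) = 0 := by
  obtain ⟨S', π, hπ, w, hw⟩ := (mem_im_iff _ _).1 hx
  refine (mem_im_iff _ _).2 ⟨S', π, hπ, w, ?_⟩
  rw [← P_comp, ← Category.assoc, ← hw, Category.assoc, comp_P, pow_one]

lemma coprime_case (t : ℕ) (ht : Nat.Coprime t b) {S : V} (x : S ⟶ A) (hx : t • x = 0)
    (k : ℕ) (hk : x ≫ cokernel.π (P A b k) = 0) :
    x ≫ cokernel.π (P A b (k + 1)) = 0 := by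
  rcases Nat.lt_or_ge 1 t with h1 | h1
  · obtain ⟨m, -, hm⟩ := Nat.exists_mul_mod_eq_one_of_coprime ht.symm h1
    have h2 : b * m = t * (b * m / t) + 1 := by
      have := Nat.div_add_mod (b * m) t
      omega
    have h3 : x = m • (b • x) := by
      rw [smul_smul, mul_comm m b, h2, add_smul, one_smul, mul_comm t, mul_smul, hx, smul_zero,
        zero_add]
    rw [h3, Preadditive.nsmul_comp, shift_mem A b x k hk, smul_zero]
  · interval_cases t
    · simp only [Nat.coprime_zero_left] at ht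
      subst ht
      have h4 : P A 1 (k + 1) = 𝟙 A := by simp [P]
      haveI : IsIso (P A 1 (k + 1)) := by rw [h4]; infer_instance
      have : cokernel.π (P A 1 (k + 1)) = 0 := by
        rw [← cancel_epi (P A 1 (k + 1)), cokernel.condition, comp_zero]
      rw [this, comp_zero]
    · rw [one_smul] at hx
      rw [hx, zero_comp]

theorem Psi (N : ℕ)
    (key : ∀ n, N ≤ n → vmap A b n ≫ cokernel.π (vmap A b (n + 1)) = 0) :
    ∀ t : ℕ, 0 < t → ∀ (S : V) (x : S ⟶ A), t • x = 0 → ∀ k, N ≤ k →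
      x ≫ cokernel.π (P A b k) = 0 → x ≫ cokernel.π (P A b (k + 1)) = 0 := by
  intro t
  induction t using Nat.recOnPosPrimePosCoprime with
  | prime_pow q e hq he =>
    intro _ S x hx k hk hxk
    by_cases hqb : q ∣ b
    · obtain ⟨c, hc⟩ := pow_dvd_pow_of_dvd hqb e
      refine Phi A b N key e S x ?_ k hk hxk
      rw [comp_P, hc, mul_comm, mul_smul, hx, smul_zero]
    · exact coprime_case A b (q ^ e)
        (Nat.Coprime.pow_left e ((Nat.Prime.coprime_iff_not_dvd hq).2 hqb)) x hx k hxk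
  | zero => intro h; exact absurd h (lt_irrefl 0)
  | one =>
    intro _ S x hx k _ _
    rw [one_smul] at hx
    rw [hx, zero_comp]
  | coprime t₁ t₂ h1 h2 hcop ih1 ih2 =>
    intro _ S x hx k hk hxk
    obtain ⟨m, -, hm⟩ := Nat.exists_mul_mod_eq_one_of_coprime hcop h2
    have h3 : t₁ * m = t₂ * (t₁ * m / t₂) + 1 := by
      have := Nat.div_add_mod (t₁ * m) t₂
      omega
    obtain ⟨c, hc⟩ : ∃ c, c = t₁ * m / t₂ := ⟨_, rfl⟩
    rw [← hc] at h3
    have e2 : ((t₁ * m) • x) ≫ cokernel.π (P A b (k + 1)) = 0 := by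
      refine ih2 (by omega) S _ ?_ k hk ?_
      · rw [smul_smul, show t₂ * (t₁ * m) = m * (t₁ * t₂) by ring, mul_smul, hx, smul_zero]
      · rw [Preadditive.nsmul_comp, hxk, smul_zero]
    have e1 : ((t₂ * c) • x) ≫ cokernel.π (P A b (k + 1)) = 0 := by
      refine ih1 (by omega) S _ ?_ k hk ?_
      · rw [smul_smul, show t₁ * (t₂ * c) = c * (t₁ * t₂) by ring, mul_smul, hx, smul_zero]
      · rw [Preadditive.nsmul_comp, hxk, smul_zero]
    have e3 : (t₁ * m) • x = (t₂ * c) • x + x := by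
      rw [h3, add_smul, one_smul]
    rw [e3, Preadditive.add_comp, e1, zero_add] at e2
    exact e2

end PsiSec

section IndPart2

variable {C : Type v} [SmallCategory C] [Abelian C]

lemma E_kernel_congr {X : Ind C} {a b : ℕ} (h : a = b) (hE : E (kernel (a • 𝟙 X))) :
    E (kernel (b • 𝟙 X)) := by
  subst h
  exact hE

/-- `b`-cofinite type -/
def Cof (b : ℕ) (A : Ind C) : Prop := ∀ n : ℕ, E (kernel ((b ^ n) • 𝟙 A))

/-- images of `b^n` stabilise -/
def Stab (b : ℕ) (A : Ind C) : Prop :=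
  ∃ N : ℕ, ∀ n : ℕ, N ≤ n → imageSubobject ((b ^ n) • 𝟙 A) = imageSubobject ((b ^ N) • 𝟙 A)

lemma cof_iso (b : ℕ) {A B : Ind C} (e : A ≅ B) (h : Cof b A) : Cof b B := by
  intro n
  refine E_of_iso (kernel.mapIso _ _ e e ?_) (h n)
  rw [Preadditive.nsmul_comp, Preadditive.comp_nsmul, Category.id_comp, Category.comp_id]

lemma cof_kernel (b : ℕ) {A B : Ind C} (f : A ⟶ B) (hA : Cof b A) (hB : Cof b B) :
    Cof b (kernel f) := by
  intro n
  exact E_of_iso (kerIso f b n).symm (E_kernel _ (hA n) (hB n))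

lemma cof_cokernel_mono (b : ℕ) {K A : Ind C} (k : K ⟶ A) [Mono k] (hK : Cof b K)
    (hA : Cof b A) (hst : Stab b K) : Cof b (cokernel k) := by
  intro n
  obtain ⟨N, hN⟩ := hst
  have h1 : imageSubobject (P K b N) ≤ imageSubobject (P K b (N + n)) :=
    (hN (N + n) (by omega)).ge
  haveI := quot_iso k b N n h1
  have hT : E (kernel (gmap k b (N + n) n)) :=
    E_kernel _ (hA (N + n)) (E_cokernel _ (hK (N + n)) (hA (N + n)))
  exact E_of_iso (asIso (cokernel.desc (jmap k b (N + n) n) (sigma k b (N + n) n)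
    (j_sigma k b (N + n) n))) (E_cokernel _ (hK (N + n)) hT)

lemma cof_cokernel (b : ℕ) (hstab : ∀ X : Ind C, Cof b X → Stab b X)
    {A B : Ind C} (f : A ⟶ B) (hA : Cof b A) (hB : Cof b B) : Cof b (cokernel f) := by
  have hK : Cof b (kernel f) := cof_kernel b f hA hB
  have hQ1 : Cof b (cokernel (kernel.ι f)) :=
    cof_cokernel_mono b (kernel.ι f) hK hA (hstab _ hK)
  have hI : Cof b (kernel (cokernel.π f)) := cof_iso b (Abelian.coimageIsoImage f) hQ1
  have hQ2 : Cof b (cokernel (kernel.ι (cokernel.π f))) :=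
    cof_cokernel_mono b (kernel.ι (cokernel.π f)) hI hB (hstab _ hI)
  haveI : IsIso (cokernel.desc (kernel.ι (cokernel.π f)) (cokernel.π f)
      (kernel.condition _)) :=
    isIso_cokernel_desc _ _ _ (fun S k hk =>
      ⟨S, 𝟙 S, inferInstance, kernel.lift _ k hk, by rw [Category.id_comp, kernel.lift_ι]⟩)
  exact cof_iso b (asIso (cokernel.desc (kernel.ι (cokernel.π f)) (cokernel.π f)
      (kernel.condition _))) hQ2

theorem stab_gen (hart : ∀ X : C, IsArtinianObject X) (b : ℕ)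
    (htor : ∀ X : C, ∃ n : ℕ, 0 < n ∧ n • 𝟙 X = 0)
    (A : Ind C) (hA : Cof b A) : Stab b A := by
  obtain ⟨N, hN⟩ := chain_stab hart (hA 1) (fun n => imageSubobject (vmap A b n))
    (vmap_antitone A b) (fun n => E_imageSubobject _ (hA (n + 1)) (hA 1))
  have key : ∀ n, N ≤ n → vmap A b n ≫ cokernel.π (vmap A b (n + 1)) = 0 := by
    intro n hn
    rw [← im_le_iff]
    have h1 := hN n hn
    have h2 := hN (n + 1) (by omega)
    rw [h1, h2]
  have step : ∀ n, N ≤ n → imageSubobject (P A b (n + 1)) = imageSubobject (P A b n) := by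
    intro n hn
    apply le_antisymm
    · rw [P_congr A b (Nat.add_comm n 1), ← P_comp]
      exact imageSubobject_comp_le _ _
    · rw [im_le_iff]
      refine eq_zero_of_yoneda_test _ (fun T t => ?_)
      obtain ⟨m, hm0, hm⟩ := htor T
      rw [← Category.assoc]
      refine Psi A b N key m hm0 _ (t ≫ P A b n) ?_ n hn ?_
      · have h0 : m • 𝟙 ((Ind.yoneda (C := C)).obj T) = 0 := by
          have h00 := (Ind.yoneda (C := C)).map_nsmul (f := 𝟙 T) (n := m)
          rw [hm, (Ind.yoneda (C := C)).map_zero, (Ind.yoneda (C := C)).map_id] at h00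
          exact h00.symm
        calc m • (t ≫ P A b n)
            = (m • 𝟙 ((Ind.yoneda (C := C)).obj T)) ≫ (t ≫ P A b n) := by
              rw [Preadditive.nsmul_comp, Category.id_comp]
          _ = 0 := by rw [h0, zero_comp]
      · rw [Category.assoc, cokernel.condition, comp_zero]
  refine ⟨N, fun n hn => ?_⟩
  induction n, hn using Nat.le_induction with
  | base => rfl
  | succ n hn ih => exact (step n hn).trans ih

theorem coker_mem_gen (hart : ∀ X : C, IsArtinianObject X) (b : ℕ)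
    (htor : ∀ X : C, ∃ n : ℕ, 0 < n ∧ n • 𝟙 X = 0)
    (A : Ind C) (hA : Cof b A) (n : ℕ) : E (cokernel ((b ^ n) • 𝟙 A)) := by
  obtain ⟨N, hN⟩ := stab_gen hart b htor A hA
  have h1 : imageSubobject (P A b N) ≤ imageSubobject (P A b (N + n)) :=
    (hN (N + n) (by omega)).ge
  haveI := coker_iso A b N n h1
  exact E_of_iso (asIso (cokernel.desc (psi A b N n)
    (kernel.ι (P A b N) ≫ cokernel.π (P A b n)) (psi_q A b N n)))
    (E_cokernel _ (hA (N + n)) (hA N))

/-- S14493 -/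
theorem main93 (hart : ∀ X : C, IsArtinianObject X) (p : ℕ)
    (htor : ∀ X : C, ∃ n : ℕ, (p ^ n) • 𝟙 X = 0)
    (A B : Ind C) (hA : ∀ n : ℕ, E (kernel ((p ^ n) • 𝟙 A)))
    (hB : ∀ n : ℕ, E (kernel ((p ^ n) • 𝟙 B))) (f : A ⟶ B) :
    (∀ n : ℕ, E (kernel ((p ^ n) • 𝟙 (kernel f)))) ∧
      (∀ n : ℕ, E (kernel ((p ^ n) • 𝟙 (cokernel f)))) :=
  ⟨cof_kernel p f hA hB,
    cof_cokernel p (fun X hX => stab hart p htor X hX) f hA hB⟩

/-- S14499 -/
theorem main99 (hart : ∀ X : C, IsArtinianObject X)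
    (htor : ∀ X : C, ∃ n : ℕ, 0 < n ∧ n • 𝟙 X = 0)
    (A : Ind C) (hA : ∀ n : ℕ, 0 < n → E (kernel (n • 𝟙 A))) (n : ℕ) (hn : 0 < n) :
    E (cokernel (n • 𝟙 A)) := by
  have h := coker_mem_gen hart n htor A (fun k => hA (n ^ k) (pow_pos hn k)) 1
  rw [pow_one] at h
  exact h

/-- S14500 -/
theorem main500 (hart : ∀ X : C, IsArtinianObject X)
    (htor : ∀ X : C, ∃ n : ℕ, 0 < n ∧ n • 𝟙 X = 0)
    (A B : Ind C) (hA : ∀ n : ℕ, 0 < n → E (kernel (n • 𝟙 A)))
    (hB : ∀ n : ℕ, 0 < n → E (kernel (n • 𝟙 B))) (f : A ⟶ B) :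
    (∀ n : ℕ, 0 < n → E (kernel (n • 𝟙 (kernel f)))) ∧
      (∀ n : ℕ, 0 < n → E (kernel (n • 𝟙 (cokernel f)))) := by
  refine ⟨fun n hn => ?_, fun n hn => ?_⟩
  · have h := cof_kernel n f (fun k => hA (n ^ k) (pow_pos hn k))
      (fun k => hB (n ^ k) (pow_pos hn k)) 1
    exact E_kernel_congr (pow_one n) h
  · have h := cof_cokernel n (fun X hX => stab_gen hart n htor X hX) f
      (fun k => hA (n ^ k) (pow_pos hn k)) (fun k => hB (n ^ k) (pow_pos hn k)) 1
    exact E_kernel_congr (pow_one n) h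

end IndPart2

end Groth.Agent.Helper8.IndCof2
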