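import Mathlib
import Groth.Agent.Helper8.IndCof2

set_option autoImplicit false

namespace Groth.Agent.Helper8.IndCof3

open CategoryTheory Limits Groth.Agent.Helper8.IndCof Groth.Agent.Helper8.IndCof2

universe v u

section Art

variable {V : Type u} [Category.{v} V] [Abelian V]

lemma mem_of_le {X X' Y S : V} {f' : X' ⟶ Y} {f : X ⟶ Y}
    (h : imageSubobject f' ≤ imageSubobject f) (x : S ⟶ Y) (hx : x ≫ cokernel.π f' = 0) :
    x ≫ cokernel.π f = 0 := by
  obtain ⟨S', ρ, hρ, w, hw⟩ := (mem_im_iff f' x).1 hx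
  haveI := hρ
  rw [← cancel_epi ρ, comp_zero, ← Category.assoc, hw, Category.assoc, (im_le_iff _ _).1 h,
    comp_zero]

lemma im_comp_le {X X' Y Z : V} {f : X ⟶ Y} {g : X' ⟶ Y}
    (h : imageSubobject f ≤ imageSubobject g) (m : Y ⟶ Z) :
    imageSubobject (f ≫ m) ≤ imageSubobject (g ≫ m) := by
  rw [im_le_iff]
  obtain ⟨S', ρ, hρ, w, hw⟩ := (mem_im_iff g f).1 ((im_le_iff _ _).1 h)
  haveI := hρ
  have h0 := cokernel.condition (g ≫ m)
  rw [Category.assoc] at h0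
  rw [← cancel_epi ρ, comp_zero, ← Category.assoc, ← Category.assoc, hw, Category.assoc,
    Category.assoc, h0, comp_zero]

lemma mem_mono {B A S : V} (a : B ⟶ A) (x : S ⟶ B) : (x ≫ a) ≫ cokernel.π a = 0 := by
  rw [Category.assoc, cokernel.condition, comp_zero]

lemma lift_of_mem {B A S : V} (a : B ⟶ A) [Mono a] (x : S ⟶ A) (hx : x ≫ cokernel.π a = 0) :
    ∃ x' : S ⟶ B, x' ≫ a = x := ⟨Abelian.monoLift a x hx, Abelian.monoLift_comp _ _ _⟩

lemma im_arrow_eq {X Y : V} (f : X ⟶ Y) :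
    imageSubobject (imageSubobject f).arrow = imageSubobject f := by
  rw [imageSubobject_mono, Subobject.mk_arrow]

lemma cπ_im_arrow_iff {X Y S : V} (f : X ⟶ Y) (x : S ⟶ Y) :
    x ≫ cokernel.π (imageSubobject f).arrow = 0 ↔ x ≫ cokernel.π f = 0 :=
  ⟨fun h => mem_of_le (im_arrow_eq f).le x h, fun h => mem_of_le (im_arrow_eq f).ge x h⟩

theorem theta (A : V) (p : ℕ) (D D' : Subobject A) (hle : D ≤ D')
    (hD : Epi (p • 𝟙 (D : V)))
    (hb : ∀ (S : V) (x : S ⟶ A), x ≫ cokernel.π D'.arrow = 0 → x ≫ P A p 1 = 0 →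
      x ≫ cokernel.π D.arrow = 0) :
    ∀ (k : ℕ) (S : V) (x : S ⟶ A), x ≫ cokernel.π D'.arrow = 0 → x ≫ P A p k = 0 →
      x ≫ cokernel.π D.arrow = 0 := by
  intro k
  induction k with
  | zero =>
    intro S x _ hx
    rw [P_zero, Category.comp_id] at hx
    rw [hx, zero_comp]
  | succ k ih =>
    intro S x hxD' hx
    have hy1 : (x ≫ P A p k) ≫ cokernel.π D'.arrow = 0 := by
      rw [comp_P, Preadditive.nsmul_comp, hxD', smul_zero]
    have hy2 : (x ≫ P A p k) ≫ P A p 1 = 0 := by rw [Category.assoc, P_comp, hx]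
    have hy := hb S _ hy1 hy2
    obtain ⟨y', hy'⟩ := lift_of_mem D.arrow _ hy
    haveI := epi_pow_of_epi p hD k
    obtain ⟨S', ρ, hρ, z', hz'⟩ :=
      surjective_up_to_refinements_of_epi ((p ^ k) • 𝟙 (D : V)) y'
    have hz : (z' ≫ D.arrow) ≫ P A p k = ρ ≫ x ≫ P A p k := by
      rw [Category.assoc, k_P D.arrow p k, ← Category.assoc, ← hz', Category.assoc, hy']
    have hx'1 : (ρ ≫ x - z' ≫ D.arrow) ≫ cokernel.π D'.arrow = 0 := by
      rw [Preadditive.sub_comp, Category.assoc, hxD', comp_zero, zero_sub, neg_eq_zero,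
        ← Subobject.ofLE_arrow hle, ← Category.assoc, mem_mono]
    have hx'2 : (ρ ≫ x - z' ≫ D.arrow) ≫ P A p k = 0 := by
      rw [Preadditive.sub_comp, hz, Category.assoc, sub_self]
    have h3 := ih S' _ hx'1 hx'2
    rw [Preadditive.sub_comp, mem_mono, sub_zero] at h3
    haveI := hρ
    rw [← cancel_epi ρ, comp_zero, ← Category.assoc]
    exact h3

lemma Ga {B A : V} (a : B ⟶ A) [Mono a] (p N : ℕ) {T : V} (x' : T ⟶ kernel (P A p 1))
    (h : (x' ≫ kernel.ι (P A p 1)) ≫ cokernel.π (a ≫ P A p N) = 0) :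
    x' ≫ cokernel.π (vmap B p N ≫ kM a p 1) = 0 := by
  obtain ⟨T', ρ, hρ, w, hw⟩ := (mem_im_iff _ _).1 h
  have hw0 : w ≫ P B p (N + 1) = 0 := by
    rw [← cancel_mono a, zero_comp, Category.assoc, ← k_P, ← P_comp, ← Category.assoc,
      ← Category.assoc, Category.assoc w, ← hw, Category.assoc, Category.assoc,
      kernel.condition, comp_zero, comp_zero]
  refine (mem_im_iff _ _).2 ⟨T', ρ, hρ, kernel.lift _ w hw0, ?_⟩
  rw [← cancel_mono (kernel.ι (P A p 1)), Category.assoc, hw, Category.assoc, Category.assoc,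
    kM_ι, vmap_ι_assoc, kernel.lift_ι_assoc, k_P]

lemma Gb {B A : V} (a : B ⟶ A) (p N : ℕ) :
    ((vmap B p N ≫ kM a p 1) ≫ kernel.ι (P A p 1)) ≫ cokernel.π (a ≫ P A p N) = 0 := by
  have : (vmap B p N ≫ kM a p 1) ≫ kernel.ι (P A p 1) =
      kernel.ι (P B p (N + 1)) ≫ a ≫ P A p N := by
    rw [Category.assoc, kM_ι, vmap_ι_assoc, k_P]
  have h0 := cokernel.condition (a ≫ P A p N)
  rw [Category.assoc] at h0
  rw [this, Category.assoc, Category.assoc, h0, comp_zero]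


lemma le_of_mem {A : V} (D' D : Subobject A) (h : D'.arrow ≫ cokernel.π D.arrow = 0) :
    D' ≤ D :=
  Subobject.le_of_comm (Abelian.monoLift D.arrow D'.arrow h) (Abelian.monoLift_comp _ _ _)

lemma H_zero {B B' A : V} (a : B ⟶ A) [Mono a] (a' : B' ⟶ A) (i : B' ⟶ B) (hi : i ≫ a = a')
    (p N N' : ℕ)
    (hDD : imageSubobject (a' ≫ P A p N') ≤ imageSubobject (a ≫ P A p N)) :
    P B' p N' ≫ i ≫ cokernel.π (P B p N) = 0 := by
  obtain ⟨T, ρ, hρ, w, hw⟩ := (mem_im_iff _ _).1 ((im_le_iff _ _).1 hDD)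
  haveI := hρ
  rw [← cancel_epi ρ, comp_zero]
  have h1 : ρ ≫ P B' p N' ≫ i = w ≫ P B p N := by
    rw [← cancel_mono a]
    simp only [Category.assoc]
    rw [hi, ← k_P, hw, k_P]
  rw [← Category.assoc, ← Category.assoc, Category.assoc ρ, h1, Category.assoc,
    cokernel.condition, comp_zero]

theorem H_iso {B B' A : V} (a : B ⟶ A) [Mono a] (a' : B' ⟶ A) [Mono a'] (i : B' ⟶ B)
    (hi : i ≫ a = a') (p N N' : ℕ)
    (hDD : imageSubobject (a' ≫ P A p N') = imageSubobject (a ≫ P A p N))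
    (w0 : P B' p N' ≫ factorThruImageSubobject (i ≫ cokernel.π (P B p N)) = 0) :
    IsIso (cokernel.desc (P B' p N')
      (factorThruImageSubobject (i ≫ cokernel.π (P B p N))) w0) := by
  refine isIso_cokernel_desc _ _ _ (fun T x hx => ?_)
  have hx1 : (x ≫ i) ≫ cokernel.π (P B p N) = 0 := by
    have h0 := congrArg (· ≫ (imageSubobject (i ≫ cokernel.π (P B p N))).arrow) hx
    simp only [Category.assoc, imageSubobject_arrow_comp, zero_comp] at h0
    rw [Category.assoc]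
    exact h0
  obtain ⟨T₁, ρ, hρ, w, hw⟩ := (mem_im_iff _ _).1 hx1
  have h2 : (ρ ≫ x ≫ a') ≫ cokernel.π (a ≫ P A p N) = 0 := by
    refine (mem_im_iff _ _).2 ⟨T₁, 𝟙 _, inferInstance, w, ?_⟩
    rw [Category.id_comp, ← hi, ← Category.assoc x, ← Category.assoc ρ, hw, Category.assoc,
      k_P]
  have h3 := mem_of_le hDD.ge _ h2
  obtain ⟨T₂, ρ', hρ', w', hw'⟩ := (mem_im_iff _ _).1 h3
  haveI := hρ
  haveI := hρ'
  refine ⟨T₂, ρ' ≫ ρ, inferInstance, w', ?_⟩
  rw [← cancel_mono a', Category.assoc, Category.assoc, hw', Category.assoc, k_P]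

lemma final_step {B B' B'' A : V} (a : B ⟶ A) [Mono a] (a' : B' ⟶ A) (a'' : B'' ⟶ A)
    (i : B' ⟶ B) (hi : i ≫ a = a') (i'' : B'' ⟶ B) (hi'' : i'' ≫ a = a'') (p N N' : ℕ)
    (hDD : imageSubobject (a ≫ P A p N) ≤ imageSubobject (a' ≫ P A p N'))
    (hH : imageSubobject (i'' ≫ cokernel.π (P B p N)) ≤
      imageSubobject (i ≫ cokernel.π (P B p N))) :
    a'' ≫ cokernel.π a' = 0 := by
  obtain ⟨T, ρ, hρ, w, hw⟩ := (mem_im_iff _ _).1 ((im_le_iff _ _).1 hH)
  have h1 : (ρ ≫ i'' - w ≫ i) ≫ cokernel.π (P B p N) = 0 := by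
    rw [Preadditive.sub_comp, sub_eq_zero]
    simpa only [Category.assoc] using hw
  obtain ⟨T', ρ', hρ', z, hz⟩ := (mem_im_iff _ _).1 h1
  have h2 : a ≫ P A p N ≫ cokernel.π a' = 0 := by
    obtain ⟨T₂, ρ₂, hρ₂, w₂, hw₂⟩ := (mem_im_iff _ _).1 ((im_le_iff _ _).1 hDD)
    haveI := hρ₂
    rw [← cancel_epi ρ₂, comp_zero, ← Category.assoc a, ← Category.assoc ρ₂, hw₂, k_P,
      ← Category.assoc w₂, mem_mono]
  haveI := hρ
  haveI := hρ'
  rw [← cancel_epi (ρ' ≫ ρ), comp_zero]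
  have h3 : (ρ' ≫ ρ) ≫ a'' = (ρ' ≫ w) ≫ a' + z ≫ a ≫ P A p N := by
    have h0 := congrArg (· ≫ a) hz
    simp only [Preadditive.comp_sub, Preadditive.sub_comp, Category.assoc, hi, hi''] at h0
    rw [← k_P] at h0
    simp only [Category.assoc]
    rw [← h0]
    abel
  rw [← Category.assoc, h3, Preadditive.add_comp, mem_mono, zero_add, Category.assoc,
    Category.assoc, h2, comp_zero]

end Art


section ArtInd

variable {C : Type v} [SmallCategory C] [Abelian C]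

lemma yoneda_kill (p : ℕ) (htor : ∀ X : C, ∃ n : ℕ, (p ^ n) • 𝟙 X = 0) {A : Ind C} (T : C)
    (t : (Ind.yoneda (C := C)).obj T ⟶ A) : ∃ k, t ≫ P A p k = 0 := by
  obtain ⟨m, hm⟩ := htor T
  refine ⟨m, ?_⟩
  have h0 : (p ^ m) • 𝟙 ((Ind.yoneda (C := C)).obj T) = 0 := by
    have h00 := (Ind.yoneda (C := C)).map_nsmul (f := 𝟙 T) (n := p ^ m)
    rw [hm, (Ind.yoneda (C := C)).map_zero, (Ind.yoneda (C := C)).map_id] at h00
    exact h00.symm
  rw [comp_P]
  calc (p ^ m) • t = ((p ^ m) • 𝟙 _) ≫ t := by rw [Preadditive.nsmul_comp, Category.id_comp]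
    _ = 0 := by rw [h0, zero_comp]

theorem art (hart : ∀ X : C, IsArtinianObject X) (p : ℕ)
    (htor : ∀ X : C, ∃ n : ℕ, (p ^ n) • 𝟙 X = 0)
    (A : Ind C) (hA : ∀ n : ℕ, E (kernel ((p ^ n) • 𝟙 A))) (S : ℕ → Subobject A)
    (hS : Antitone S)
    (hcof : ∀ m n : ℕ, E (kernel ((p ^ n) • 𝟙 ((S m : Subobject A) : Ind C)))) :
    ∃ N : ℕ, ∀ m : ℕ, N ≤ m → S m = S N := by
  have hst : ∀ m, Stab p ((S m : Subobject A) : Ind C) :=
    fun m => stab hart p htor _ (hcof m)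
  choose Nn hNn using hst
  have hD2 : ∀ m n, Nn m ≤ n → imageSubobject ((S m).arrow ≫ P A p n) =
      imageSubobject ((S m).arrow ≫ P A p (Nn m)) := by
    intro m n hn
    rw [k_P, k_P]
    exact le_antisymm (im_comp_le (hNn m n hn).le _) (im_comp_le (hNn m n hn).ge _)
  have hD3 : ∀ m m', m ≤ m' → imageSubobject ((S m').arrow ≫ P A p (Nn m')) ≤
      imageSubobject ((S m).arrow ≫ P A p (Nn m)) := by
    intro m m' hmm
    rw [← hD2 m' (max (Nn m) (Nn m')) (le_max_right _ _),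
      ← hD2 m (max (Nn m) (Nn m')) (le_max_left _ _),
      ← Subobject.ofLE_arrow (hS hmm), Category.assoc]
    exact imageSubobject_comp_le _ _
  have hDdiv : ∀ m, Epi (p • 𝟙 ((imageSubobject ((S m).arrow ≫ P A p (Nn m)) :
      Subobject A) : Ind C)) := by
    intro m
    apply DivML.epi_of_im_eq
    have e1 : imageSubobject ((imageSubobject ((S m).arrow ≫ P A p (Nn m))).arrow ≫
        (p • 𝟙 A)) = imageSubobject (((S m).arrow ≫ P A p (Nn m)) ≫ (p • 𝟙 A)) := by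
      rw [← DivML.imageSubobject_epi_comp
        (factorThruImageSubobject ((S m).arrow ≫ P A p (Nn m)))]
      apply DivML.im_congr
      rw [imageSubobject_arrow_comp_assoc]
    have e2 : ((S m).arrow ≫ P A p (Nn m)) ≫ (p • 𝟙 A) =
        (S m).arrow ≫ P A p (Nn m + 1) := by
      rw [Category.assoc, ← P_comp]
      simp [P]
    exact e1.trans ((DivML.im_congr e2).trans (hD2 m _ (by omega)))
  have hGanti : Antitone (fun m => imageSubobject
      (vmap ((S m : Subobject A) : Ind C) p (Nn m) ≫ kM (S m).arrow p 1)) := by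
    intro m m' hmm
    show imageSubobject _ ≤ imageSubobject _
    rw [im_le_iff]
    exact Ga (S m).arrow p (Nn m) _ (mem_of_le (hD3 m m' hmm) _ (Gb (S m').arrow p (Nn m')))
  obtain ⟨M₁, hM₁⟩ := chain_stab hart (hA 1) _ hGanti
    (fun m => E_imageSubobject _ (hcof m (Nn m + 1)) (hA 1))
  have hDeq : ∀ m, M₁ ≤ m → imageSubobject ((S M₁).arrow ≫ P A p (Nn M₁)) ≤
      imageSubobject ((S m).arrow ≫ P A p (Nn m)) := by
    intro m hm
    apply le_of_mem
    refine eq_zero_of_yoneda_test _ (fun T t => ?_)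
    obtain ⟨k, hk⟩ := yoneda_kill p htor T
      (t ≫ (imageSubobject ((S M₁).arrow ≫ P A p (Nn M₁))).arrow)
    rw [← Category.assoc]
    refine theta A p _ _ (hD3 M₁ m hm) (hDdiv m) ?_ k _ _ (mem_mono _ _) hk
    intro S' x hx1 hx2
    rw [cπ_im_arrow_iff] at hx1 ⊢
    have h1 : (kernel.lift (P A p 1) x hx2 ≫ kernel.ι (P A p 1)) ≫
        cokernel.π ((S M₁).arrow ≫ P A p (Nn M₁)) = 0 := by
      rw [kernel.lift_ι]
      exact hx1
    have h2 := Ga (S M₁).arrow p (Nn M₁) _ h1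
    have h3 := mem_of_le (hM₁ m hm).ge _ h2
    obtain ⟨S'', ρ, hρ, w, hw⟩ := (mem_im_iff _ _).1 h3
    haveI := hρ
    rw [← cancel_epi ρ, comp_zero]
    have h4 : ρ ≫ x = w ≫ (vmap ((S m : Subobject A) : Ind C) p (Nn m) ≫
        kM (S m).arrow p 1) ≫ kernel.ι (P A p 1) := by
      rw [← Category.assoc w, ← hw, Category.assoc, kernel.lift_ι]
    rw [← Category.assoc, h4, Category.assoc, Gb, comp_zero]
  have hQ : E (cokernel (P ((S M₁ : Subobject A) : Ind C) p (Nn M₁))) :=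
    coker_mem hart p htor _ (hcof M₁) (Nn M₁)
  have hle : ∀ j, S (M₁ + j) ≤ S M₁ := fun j => hS (Nat.le_add_right _ _)
  have hHanti : Antitone (fun j => imageSubobject (Subobject.ofLE _ _ (hle j) ≫
      cokernel.π (P ((S M₁ : Subobject A) : Ind C) p (Nn M₁)))) := by
    intro j j' hjj
    show imageSubobject _ ≤ imageSubobject _
    have h0 : Subobject.ofLE _ _ (hle j') =
        Subobject.ofLE _ _ (hS (by omega : M₁ + j ≤ M₁ + j')) ≫ Subobject.ofLE _ _ (hle j) :=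
      (Subobject.ofLE_comp_ofLE _ _ _ _ _).symm
    rw [h0, Category.assoc]
    exact imageSubobject_comp_le _ _
  have hDeq' : ∀ j, imageSubobject ((S (M₁ + j)).arrow ≫ P A p (Nn (M₁ + j))) =
      imageSubobject ((S M₁).arrow ≫ P A p (Nn M₁)) :=
    fun j => le_antisymm (hD3 M₁ (M₁ + j) (by omega)) (hDeq (M₁ + j) (by omega))
  have hHE : ∀ j, E ((imageSubobject (Subobject.ofLE _ _ (hle j) ≫
      cokernel.π (P ((S M₁ : Subobject A) : Ind C) p (Nn M₁))) : Subobject _) : Ind C) := by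
    intro j
    have w0 : P ((S (M₁ + j) : Subobject A) : Ind C) p (Nn (M₁ + j)) ≫
        factorThruImageSubobject (Subobject.ofLE _ _ (hle j) ≫
          cokernel.π (P ((S M₁ : Subobject A) : Ind C) p (Nn M₁))) = 0 := by
      rw [← cancel_mono (imageSubobject _).arrow, zero_comp, Category.assoc,
        imageSubobject_arrow_comp]
      exact H_zero (S M₁).arrow (S (M₁ + j)).arrow _ (Subobject.ofLE_arrow _) p _ _
        (hDeq' j).le
    haveI := H_iso (S M₁).arrow (S (M₁ + j)).arrow _ (Subobject.ofLE_arrow (hle j)) p _ _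
      (hDeq' j) w0
    exact E_of_iso (asIso (cokernel.desc _ _ w0))
      (coker_mem hart p htor _ (hcof (M₁ + j)) (Nn (M₁ + j)))
  obtain ⟨J, hJ⟩ := chain_stab hart hQ _ hHanti hHE
  refine ⟨M₁ + J, fun m hm => le_antisymm (hS hm) ?_⟩
  obtain ⟨j, rfl⟩ : ∃ j, m = M₁ + j := ⟨m - M₁, by omega⟩
  apply le_of_mem
  exact final_step (S M₁).arrow (S (M₁ + j)).arrow (S (M₁ + J)).arrow _
    (Subobject.ofLE_arrow (hle j)) _ (Subobject.ofLE_arrow (hle J)) p (Nn M₁) (Nn (M₁ + j))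
    (hDeq' j).ge (hJ j (by omega)).ge

end ArtInd

end Groth.Agent.Helper8.IndCof3
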