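import Mathlib

set_option autoImplicit false
universe u

namespace Groth.Agent.Helper8.InitMon
open MvPolynomial

section general
variable {σ : Type*} {k : Type*} [Field k]

/-- span of monomials with exponents in a set -/
noncomputable def monSpan (𝓜 : Set (σ →₀ ℕ)) : Submodule k (MvPolynomial σ k) :=
  Submodule.span k {f | ∃ e : σ →₀ ℕ, e ∈ 𝓜 ∧ f = monomial e 1}

lemma mem_monSpan_iff (𝓜 : Set (σ →₀ ℕ)) (f : MvPolynomial σ k) :
    f ∈ monSpan (k := k) 𝓜 ↔ ∀ e ∈ f.support, e ∈ 𝓜 := by
  classical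
  constructor
  · intro hf
    induction hf using Submodule.span_induction with
    | mem x hx =>
      obtain ⟨e, he, rfl⟩ := hx
      intro e' he'
      rw [support_monomial, if_neg one_ne_zero, Finset.mem_singleton] at he'
      rw [he']; exact he
    | zero => intro e he; simp at he
    | add x y _ _ hx hy =>
      intro e he
      rcases Finset.mem_union.1 (MvPolynomial.support_add he) with h | h
      · exact hx e h
      · exact hy e h
    | smul c x _ hx =>
      intro e he
      exact hx e (MvPolynomial.support_smul he)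
  · intro h
    rw [← f.support_sum_monomial_coeff]
    refine Submodule.sum_mem _ fun e he => ?_
    have : monomial e (f.coeff e) = f.coeff e • (monomial e (1 : k)) := by
      rw [smul_monomial, smul_eq_mul, mul_one]
    rw [this]
    exact Submodule.smul_mem _ _ (Submodule.subset_span ⟨e, h e he, rfl⟩)

lemma monSpan_le_of_leading (m : MonomialOrder σ) (𝓜 : Set (σ →₀ ℕ))
    (P : Submodule k (MvPolynomial σ k)) (hP : P ≤ monSpan 𝓜)
    (hlead : ∀ e ∈ 𝓜, ∃ p ∈ P, p ≠ 0 ∧ m.degree p = e) : monSpan 𝓜 ≤ P := by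
  classical
  have key : ∀ (x : m.syn) (f : MvPolynomial σ k), f ∈ monSpan (k := k) 𝓜 →
      m.toSyn (m.degree f) = x → f ∈ P := by
    intro x
    induction x using WellFoundedLT.induction with
    | _ x ih =>
      intro f hf hx
      by_cases hf0 : f = 0
      · rw [hf0]; exact P.zero_mem
      have he : m.degree f ∈ 𝓜 := (mem_monSpan_iff 𝓜 f).1 hf _ (m.degree_mem_support hf0)
      obtain ⟨p, hpP, hp0, hpdeg⟩ := hlead _ he
      have hlcp : m.leadingCoeff p ≠ 0 := m.leadingCoeff_ne_zero_iff.2 hp0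
      set c := m.leadingCoeff f / m.leadingCoeff p with hc
      set g := f - c • p with hg
      have hgS : g ∈ monSpan (k := k) 𝓜 :=
        Submodule.sub_mem _ hf (Submodule.smul_mem _ _ (hP hpP))
      have hfg : f = g + c • p := by rw [hg]; ring
      by_cases hg0 : g = 0
      · rw [hfg, hg0, zero_add]; exact P.smul_mem _ hpP
      have hcoeff : g.coeff (m.degree f) = 0 := by
        rw [hg, coeff_sub, coeff_smul, smul_eq_mul]
        have h1 : p.coeff (m.degree f) = m.leadingCoeff p := by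
          rw [← hpdeg]; rfl
        have h2 : f.coeff (m.degree f) = m.leadingCoeff f := rfl
        rw [h1, h2, hc, div_mul_cancel₀ _ hlcp, sub_self]
      have hle : m.toSyn (m.degree g) ≤ m.toSyn (m.degree f) := by
        refine le_trans m.degree_sub_le (sup_le le_rfl ?_)
        refine le_trans m.degree_smul_le ?_
        rw [hpdeg]
      have hne : m.degree g ≠ m.degree f := by
        intro h
        have := m.degree_mem_support hg0
        rw [h, mem_support_iff] at this
        exact this hcoeff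
      have hlt : m.toSyn (m.degree g) < x := by
        rw [← hx]
        exact lt_of_le_of_ne hle (fun h => hne (m.toSyn.injective h))
      have hgP := ih _ hlt g hgS rfl
      rw [hfg]
      exact P.add_mem hgP (P.smul_mem _ hpP)
  intro f hf
  exact key _ f hf rfl

end general


section specific
variable (k : Type u) [Field k]

/-- exponents of bidegree `(a, b)` -/
def D (a b : ℕ) : Set (Fin 4 →₀ ℕ) := {e | e 2 + e 3 = a ∧ e 0 + e 1 = b + e 2}

lemma span_eq (a b : ℕ) :
    Submodule.span k {f : MvPolynomial (Fin 4) k | ∃ e : Fin 4 →₀ ℕ,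
      e 2 + e 3 = a ∧ e 0 + e 1 = b + e 2 ∧ f = MvPolynomial.monomial e 1} = monSpan (D a b) := by
  unfold monSpan D
  congr 1
  ext f
  constructor
  · rintro ⟨e, h1, h2, h3⟩; exact ⟨e, ⟨h1, h2⟩, h3⟩
  · rintro ⟨e, ⟨h1, h2⟩, h3⟩; exact ⟨e, h1, h2, h3⟩

lemma mul_le (a b c : ℕ) (W : Submodule k (MvPolynomial (Fin 4) k)) (hW : W ≤ monSpan (D a b)) :
    W * monSpan (k := k) (D 0 c) ≤ monSpan (D a (b + c)) := by
  classical
  rw [Submodule.mul_le]
  intro w hw s hs
  rw [mem_monSpan_iff]
  intro e he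
  have := MvPolynomial.support_mul w s he
  obtain ⟨e1, he1, e2, he2, rfl⟩ := Finset.mem_add.1 this
  obtain ⟨h1, h2⟩ := (mem_monSpan_iff _ w).1 (hW hw) e1 he1
  obtain ⟨h3, h4⟩ := (mem_monSpan_iff _ s).1 hs e2 he2
  constructor
  · simp only [Finsupp.add_apply]; omega
  · simp only [Finsupp.add_apply]; omega

theorem main (mo : MonomialOrder (Fin 4)) (a b c : ℕ) (W : Submodule k (MvPolynomial (Fin 4) k))
    (hW : W ≤ Submodule.span k {f : MvPolynomial (Fin 4) k | ∃ e : Fin 4 →₀ ℕ, e 2 + e 3 = a ∧ e 0 + e 1 = b + e 2 ∧ f = MvPolynomial.monomial e 1})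
    (h₁ : ∀ i j : ℕ, i ≤ a → j * (c + 1) < b + i → ∃ w ∈ W, w ≠ 0 ∧
      mo.degree w = Finsupp.single 0 (b + i - j * (c + 1)) + Finsupp.single 1 (j * (c + 1)) +
        Finsupp.single 2 i + Finsupp.single 3 (a - i))
    (h₂ : ∀ i : ℕ, i ≤ a → ∃ w ∈ W, w ≠ 0 ∧
      mo.degree w = Finsupp.single 1 (b + i) + Finsupp.single 2 i + Finsupp.single 3 (a - i)) :
    W * Submodule.span k {f : MvPolynomial (Fin 4) k | ∃ e : Fin 4 →₀ ℕ, e 2 + e 3 = 0 ∧ e 0 + e 1 = c + e 2 ∧ f = MvPolynomial.monomial e 1} =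
      Submodule.span k {f : MvPolynomial (Fin 4) k | ∃ e : Fin 4 →₀ ℕ, e 2 + e 3 = a ∧ e 0 + e 1 = (b + c) + e 2 ∧ f = MvPolynomial.monomial e 1} := by
  classical
  rw [span_eq] at hW ⊢
  rw [span_eq]
  apply le_antisymm (mul_le k a b c W hW)
  apply monSpan_le_of_leading mo _ _ (mul_le k a b c W hW)
  rintro e ⟨he1, he2⟩
  have hi : e 2 ≤ a := by omega
  have hmon : ∀ t : Fin 4 →₀ ℕ, (monomial t (1 : k)) ≠ 0 := fun t => by
    rw [Ne, monomial_eq_zero]; exact one_ne_zero
  have hdegmon : ∀ t : Fin 4 →₀ ℕ, mo.degree (monomial t (1 : k)) = t := fun t => by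
    rw [mo.degree_monomial, if_neg one_ne_zero]
  by_cases hcase : b + e 2 ≤ e 1
  · obtain ⟨w, hwW, hw0, hwdeg⟩ := h₂ (e 2) hi
    set t : Fin 4 →₀ ℕ := Finsupp.single 0 (e 0) + Finsupp.single 1 (e 1 - (b + e 2)) with ht
    have htD : t ∈ D 0 c := by
      constructor
      · simp [ht]
      · simp [ht]; omega
    refine ⟨w * monomial t 1, Submodule.mul_mem_mul hwW ((mem_monSpan_iff _ _).2 ?_),
      mul_ne_zero hw0 (hmon t), ?_⟩
    · intro e' he'
      rw [support_monomial, if_neg one_ne_zero, Finset.mem_singleton] at he'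
      rw [he']; exact htD
    · rw [mo.degree_mul hw0 (hmon t), hdegmon, hwdeg, ht]
      ext x
      fin_cases x
      · simp
      · simp; omega
      · simp
      · simp; omega
  · have hlt : e 1 < b + e 2 := not_le.1 hcase
    obtain ⟨j, v, hv, hjv⟩ : ∃ j v : ℕ, v < c + 1 ∧ e 1 = j * (c + 1) + v :=
      ⟨e 1 / (c + 1), e 1 % (c + 1), Nat.mod_lt _ (Nat.succ_pos c), by
        rw [mul_comm]; exact (Nat.div_add_mod _ _).symm⟩
    have hj : j * (c + 1) < b + e 2 := by omega
    obtain ⟨w, hwW, hw0, hwdeg⟩ := h₁ (e 2) j hi hj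
    set t : Fin 4 →₀ ℕ := Finsupp.single 0 (c - v) + Finsupp.single 1 v with ht
    have htD : t ∈ D 0 c := by
      constructor
      · simp [ht]
      · simp [ht]; omega
    refine ⟨w * monomial t 1, Submodule.mul_mem_mul hwW ((mem_monSpan_iff _ _).2 ?_),
      mul_ne_zero hw0 (hmon t), ?_⟩
    · intro e' he'
      rw [support_monomial, if_neg one_ne_zero, Finset.mem_singleton] at he'
      rw [he']; exact htD
    · rw [mo.degree_mul hw0 (hmon t), hdegmon, hwdeg, ht]
      generalize j * (c + 1) = q at *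
      ext x
      fin_cases x
      · simp; omega
      · simp; omega
      · simp
      · simp; omega

end specific

end Groth.Agent.Helper8.InitMon
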