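import Mathlib

set_option autoImplicit false
universe u

namespace Groth.Agent.Helper8.IntDiv
open Polynomial

theorem main {A : Type u} [CommRing A] (p : Ideal A) [p.IsPrime] (ζ u : A) (hu : u ∉ p) :
    IsIntegral (A ⧸ p)
        (algebraMap (A ⧸ p) (FractionRing (A ⧸ p)) (Ideal.Quotient.mk p ζ) /
          algebraMap (A ⧸ p) (FractionRing (A ⧸ p)) (Ideal.Quotient.mk p u)) ↔
      ∃ (N : ℕ) (a : ℕ → A),
        ζ ^ N + ∑ i ∈ Finset.Icc 1 N, a i * ζ ^ (N - i) * u ^ i ∈ p := by
  set φ := algebraMap (A ⧸ p) (FractionRing (A ⧸ p)) with hφ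
  have hφinj : Function.Injective φ := IsFractionRing.injective _ _
  set z := φ (Ideal.Quotient.mk p ζ) with hz
  set w := φ (Ideal.Quotient.mk p u) with hw
  have hw0 : w ≠ 0 := by
    intro h
    have : Ideal.Quotient.mk p u = 0 := hφinj (by rw [← hw, h, map_zero])
    exact hu (Ideal.Quotient.eq_zero_iff_mem.mp this)
  -- key transfer: membership in p iff image vanishes
  have key : ∀ (N : ℕ) (a : ℕ → A),
      (ζ ^ N + ∑ i ∈ Finset.Icc 1 N, a i * ζ ^ (N - i) * u ^ i ∈ p) ↔
        z ^ N + ∑ j ∈ Finset.range N, φ (Ideal.Quotient.mk p (a (N - j))) * z ^ j * w ^ (N - j) = 0 := by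
    intro N a
    rw [← Ideal.Quotient.eq_zero_iff_mem, ← map_eq_zero_iff φ hφinj]
    simp only [map_add, map_pow, map_sum, map_mul]
    rw [← hz, ← hw]
    have : ∑ i ∈ Finset.Icc 1 N, φ (Ideal.Quotient.mk p (a i)) * z ^ (N - i) * w ^ i =
        ∑ j ∈ Finset.range N, φ (Ideal.Quotient.mk p (a (N - j))) * z ^ j * w ^ (N - j) := by
      refine Finset.sum_nbij' (fun i => N - i) (fun j => N - j) ?_ ?_ ?_ ?_ ?_
      · intro i hi; simp only [Finset.mem_Icc] at hi; simp only [Finset.mem_range]; omega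
      · intro j hj; simp only [Finset.mem_range] at hj; simp only [Finset.mem_Icc]; omega
      · intro i hi; simp only [Finset.mem_Icc] at hi; omega
      · intro j hj; simp only [Finset.mem_range] at hj; omega
      · intro i hi
        simp only [Finset.mem_Icc] at hi
        have : N - (N - i) = i := by omega
        rw [this]
    rw [this]
  -- evaluation of the polynomial at z / w
  have hev : ∀ (N : ℕ) (c : ℕ → A ⧸ p),
      eval₂ φ (z / w) (X ^ N + ∑ j : Fin N, C (c j) * X ^ (j : ℕ)) * w ^ N =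
        z ^ N + ∑ j ∈ Finset.range N, φ (c j) * z ^ j * w ^ (N - j) := by
    intro N c
    rw [eval₂_add, eval₂_pow, eval₂_X, eval₂_finsetSum, add_mul, div_pow,
      div_mul_cancel₀ _ (pow_ne_zero _ hw0), Finset.sum_mul,
      Fin.sum_univ_eq_sum_range (fun j => eval₂ φ (z / w) (C (c j) * X ^ j) * w ^ N) N]
    congr 1
    refine Finset.sum_congr rfl fun j hj => ?_
    have hj' : j < N := Finset.mem_range.mp hj
    rw [eval₂_mul, eval₂_C, eval₂_pow, eval₂_X, div_pow]
    have : w ^ N = w ^ j * w ^ (N - j) := by rw [← pow_add]; congr 1; omega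
    rw [this]
    field_simp
  constructor
  · rintro ⟨P, hPm, hPx⟩
    set N := P.natDegree with hN
    refine ⟨N, fun i => Function.surjInv Ideal.Quotient.mk_surjective (P.coeff (N - i)), ?_⟩
    rw [key]
    have hc : ∀ j, Ideal.Quotient.mk p
        (Function.surjInv Ideal.Quotient.mk_surjective (P.coeff (N - (N - j)))) =
        P.coeff (N - (N - j)) := fun j => Function.surjInv_eq _ _
    have hP : P = X ^ N + ∑ j : Fin N, C (P.coeff j) * X ^ (j : ℕ) := by
      conv_lhs => rw [hPm.as_sum]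
      rw [Fin.sum_univ_eq_sum_range (fun j => C (P.coeff j) * X ^ j) N]
    have h1 := hev N (fun j => P.coeff j)
    rw [← hP, hPx, zero_mul] at h1
    rw [h1]
    congr 1
    refine Finset.sum_congr rfl fun j hj => ?_
    have hj' : j < N := Finset.mem_range.mp hj
    rw [hc]
    have : N - (N - j) = j := by omega
    rw [this]
  · rintro ⟨N, a, hmem⟩
    rw [key] at hmem
    refine ⟨X ^ N + ∑ j : Fin N, C (Ideal.Quotient.mk p (a (N - j))) * X ^ (j : ℕ),
      monic_X_pow_add (degree_sum_fin_lt _), ?_⟩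
    have h1 := hev N (fun j => Ideal.Quotient.mk p (a (N - j)))
    rw [hmem] at h1
    exact (mul_eq_zero.mp h1).resolve_right (pow_ne_zero _ hw0)

end Groth.Agent.Helper8.IntDiv
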