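import Mathlib

/-!
# Intertwiners of endomorphisms: formal properties (for S16837)
-/

open Module

namespace Groth.Agent.Helper8.Intertw

variable {K : Type*} [Field K]

section basic

variable {V₁ V₂ : Type*} [AddCommGroup V₁] [Module K V₁] [AddCommGroup V₂] [Module K V₂]

/-- the space of intertwiners -/
def Int (π₁ : Module.End K V₁) (π₂ : Module.End K V₂) : Submodule K (V₁ →ₗ[K] V₂) :=
  LinearMap.ker (LinearMap.lcomp K V₂ π₁ - LinearMap.llcomp K V₁ V₂ V₂ π₂)

theorem mem_Int {π₁ : Module.End K V₁} {π₂ : Module.End K V₂} {h : V₁ →ₗ[K] V₂} :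
    h ∈ Int π₁ π₂ ↔ ∀ x, h (π₁ x) = π₂ (h x) := by
  rw [Int, LinearMap.mem_ker, LinearMap.sub_apply, sub_eq_zero]
  constructor
  · intro hh x
    have := LinearMap.congr_fun hh x
    simpa using this
  · intro hh
    ext x
    simpa using hh x

end basic

section conj

variable {V₁ V₂ U : Type*} [AddCommGroup V₁] [Module K V₁] [AddCommGroup V₂] [Module K V₂]
  [AddCommGroup U] [Module K U]

/-- conjugation invariance in the first variable -/
noncomputable def conjLeft (π₁ : Module.End K V₁) (π₂ : Module.End K V₂) (γ : Module.End K U)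
    (e : U ≃ₗ[K] V₁) (he : ∀ u, π₁ (e u) = e (γ u)) : Int π₁ π₂ ≃ₗ[K] Int γ π₂ where
  toFun h := ⟨h.1 ∘ₗ e.toLinearMap, by
    rw [mem_Int]; intro x
    have := mem_Int.mp h.2 (e x)
    simp only [LinearMap.comp_apply, LinearEquiv.coe_coe]
    rw [← he, this]⟩
  invFun h := ⟨h.1 ∘ₗ e.symm.toLinearMap, by
    rw [mem_Int]; intro x
    have := mem_Int.mp h.2 (e.symm x)
    simp only [LinearMap.comp_apply, LinearEquiv.coe_coe]
    rw [← this]
    congr 1
    apply e.injective
    rw [← he, e.apply_symm_apply, e.apply_symm_apply]⟩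
  map_add' a b := by ext x; simp
  map_smul' c a := by ext x; simp
  left_inv h := by ext x; simp
  right_inv h := by ext x; simp

/-- conjugation invariance in the second variable -/
noncomputable def conjRight (π₁ : Module.End K V₁) (π₂ : Module.End K V₂) (γ : Module.End K U)
    (e : U ≃ₗ[K] V₂) (he : ∀ u, π₂ (e u) = e (γ u)) : Int π₁ π₂ ≃ₗ[K] Int π₁ γ where
  toFun h := ⟨e.symm.toLinearMap ∘ₗ h.1, by
    rw [mem_Int]; intro x
    have := mem_Int.mp h.2 x
    simp only [LinearMap.comp_apply, LinearEquiv.coe_coe]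
    rw [this]
    apply e.injective
    rw [← he, e.apply_symm_apply, e.apply_symm_apply]⟩
  invFun h := ⟨e.toLinearMap ∘ₗ h.1, by
    rw [mem_Int]; intro x
    have := mem_Int.mp h.2 x
    simp only [LinearMap.comp_apply, LinearEquiv.coe_coe]
    rw [this, he]⟩
  map_add' a b := by ext x; simp
  map_smul' c a := by ext x; simp
  left_inv h := by ext x; simp
  right_inv h := by ext x; simp

end conj

section prod

variable {V₁ V₂ A B : Type*} [AddCommGroup V₁] [Module K V₁] [AddCommGroup V₂] [Module K V₂]
  [AddCommGroup A] [Module K A] [AddCommGroup B] [Module K B]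

/-- additivity in the first variable -/
noncomputable def prodLeft (α : Module.End K A) (β : Module.End K B) (π₂ : Module.End K V₂) :
    (Int α π₂ × Int β π₂) ≃ₗ[K] Int (α.prodMap β) π₂ where
  toFun h := ⟨h.1.1.coprod h.2.1, by
    rw [mem_Int]; rintro ⟨a, b⟩
    have h1 := mem_Int.mp h.1.2 a
    have h2 := mem_Int.mp h.2.2 b
    simp only [LinearMap.prodMap_apply, LinearMap.coprod_apply, map_add]
    rw [h1, h2]⟩
  invFun h := (⟨h.1 ∘ₗ LinearMap.inl K A B, by
      rw [mem_Int]; intro a
      have := mem_Int.mp h.2 (a, 0)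
      simpa using this⟩,
    ⟨h.1 ∘ₗ LinearMap.inr K A B, by
      rw [mem_Int]; intro b
      have := mem_Int.mp h.2 (0, b)
      simpa using this⟩)
  map_add' a b := by
    ext x <;> simp
  map_smul' c a := by
    ext x <;> simp
  left_inv h := by
    ext x <;> simp
  right_inv h := by
    ext x <;> simp

/-- additivity in the second variable -/
noncomputable def prodRight (π₁ : Module.End K V₁) (α : Module.End K A) (β : Module.End K B) :
    (Int π₁ α × Int π₁ β) ≃ₗ[K] Int π₁ (α.prodMap β) where
  toFun h := ⟨h.1.1.prod h.2.1, by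
    rw [mem_Int]; intro x
    have h1 := mem_Int.mp h.1.2 x
    have h2 := mem_Int.mp h.2.2 x
    show (h.1.1 (π₁ x), h.2.1 (π₁ x)) = (α (h.1.1 x), β (h.2.1 x))
    rw [h1, h2]⟩
  invFun h := (⟨LinearMap.fst K A B ∘ₗ h.1, by
      rw [mem_Int]; intro x
      have := mem_Int.mp h.2 x
      simp only [LinearMap.comp_apply, LinearMap.fst_apply]
      rw [this]; rfl⟩,
    ⟨LinearMap.snd K A B ∘ₗ h.1, by
      rw [mem_Int]; intro x
      have := mem_Int.mp h.2 x
      simp only [LinearMap.comp_apply, LinearMap.snd_apply]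
      rw [this]; rfl⟩)
  map_add' a b := by
    ext x <;> simp
  map_smul' c a := by
    ext x <;> simp
  left_inv h := by
    ext x <;> simp
  right_inv h := by
    ext x <;> simp

end prod

section split

variable {V : Type*} [AddCommGroup V] [Module K V]

/-- a decomposition into complementary invariant subspaces realises `π` as a product map -/
theorem conj_prodEquiv (π : Module.End K V) {p q : Submodule K V} (hp : p ∈ π.invtSubmodule)
    (hq : q ∈ π.invtSubmodule) (hpq : IsCompl p q) (u : p × q) :
    π (Submodule.prodEquivOfIsCompl p q hpq u) =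
      Submodule.prodEquivOfIsCompl p q hpq (((π.restrict hp).prodMap (π.restrict hq)) u) := by
  obtain ⟨a, b⟩ := u
  simp [Submodule.coe_prodEquivOfIsCompl', LinearMap.restrict_coe_apply]

end split

end Groth.Agent.Helper8.Intertw
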