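import Groth.Agent.Helper8.Intertw1

/-!
# Intertwiners of irreducible endomorphisms (for S16837)
-/

open Module Polynomial

namespace Groth.Agent.Helper8.Intertw

variable {K : Type*} [Field K]

section irr

variable {W : Type*} [AddCommGroup W] [Module K W]

/-- no proper nonzero invariant subspaces -/
def Irr (α : Module.End K W) : Prop := ∀ p ∈ α.invtSubmodule, p = ⊥ ∨ p = ⊤

/-- evaluation at a vector -/
noncomputable def ev (α : Module.End K W) (w : W) : K[X] →ₗ[K] W :=
  (LinearMap.applyₗ w).comp (Polynomial.aeval α).toLinearMap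

theorem ev_apply (α : Module.End K W) (w : W) (p : K[X]) : ev α w p = aeval α p w := rfl

theorem ev_X_mul (α : Module.End K W) (w : W) (p : K[X]) : ev α w (X * p) = α (ev α w p) := by
  rw [ev_apply, ev_apply, map_mul, aeval_X]; rfl

theorem ev_mul (α : Module.End K W) (w : W) (p q : K[X]) :
    ev α w (p * q) = aeval α p (ev α w q) := by
  rw [ev_apply, ev_apply, map_mul]; rfl

theorem ev_one (α : Module.End K W) (w : W) : ev α w 1 = w := by
  rw [ev_apply, map_one]; rfl

theorem range_ev_invt (α : Module.End K W) (w : W) :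
    LinearMap.range (ev α w) ∈ α.invtSubmodule := by
  rw [Module.End.mem_invtSubmodule]
  rintro _ ⟨p, rfl⟩
  exact ⟨X * p, ev_X_mul α w p⟩

theorem range_ev_eq_top {α : Module.End K W} (hα : Irr α) {w : W} (hw : w ≠ 0) :
    LinearMap.range (ev α w) = ⊤ := by
  rcases hα _ (range_ev_invt α w) with h | h
  · exfalso
    have : w ∈ LinearMap.range (ev α w) := ⟨1, ev_one α w⟩
    rw [h, Submodule.mem_bot] at this
    exact hw this
  · exact h

theorem aeval_comm (α : Module.End K W) (a : K[X]) (x : W) :
    aeval α a (α x) = α (aeval α a x) := by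
  have : aeval α a * α = α * aeval α a := by
    calc aeval α a * α = aeval α a * aeval α (X : K[X]) := by rw [aeval_X]
      _ = aeval α (a * X) := (map_mul _ _ _).symm
      _ = aeval α (X * a) := by rw [mul_comm]
      _ = aeval α (X : K[X]) * aeval α a := map_mul _ _ _
      _ = α * aeval α a := by rw [aeval_X]
  exact LinearMap.congr_fun this x

theorem ker_aeval_invt (α : Module.End K W) (a : K[X]) :
    LinearMap.ker (aeval α a) ∈ α.invtSubmodule := by
  rw [Module.End.mem_invtSubmodule]
  intro x hx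
  rw [Submodule.mem_comap, LinearMap.mem_ker, aeval_comm, LinearMap.mem_ker.mp hx, map_zero]

theorem isUnit_of_eq_mul_of_dvd {μ a b : K[X]} (hμ : μ ≠ 0) (h : μ = a * b) (hd : μ ∣ a) :
    IsUnit b := by
  obtain ⟨c, rfl⟩ := hd
  have : μ * 1 = μ * (c * b) := by rw [mul_one, ← mul_assoc]; exact h
  have h1 := mul_left_cancel₀ hμ this
  exact IsUnit.of_mul_eq_one c (by rw [mul_comm]; exact h1.symm)

variable [FiniteDimensional K W]

theorem minpoly_irreducible [Nontrivial W] {α : Module.End K W} (hα : Irr α) :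
    Irreducible (minpoly K α) := by
  have hint : IsIntegral K α := Algebra.IsIntegral.isIntegral α
  have hμ0 : minpoly K α ≠ 0 := minpoly.ne_zero hint
  rw [irreducible_iff]
  refine ⟨minpoly.not_isUnit K α, ?_⟩
  intro a b hab
  have hzero : ∀ x, aeval α a (aeval α b x) = 0 := by
    intro x
    have : aeval α (a * b) = 0 := by rw [← hab]; exact minpoly.aeval K α
    rw [map_mul] at this
    exact LinearMap.congr_fun this x
  rcases hα _ (ker_aeval_invt α a) with h | h
  · left
    have hb : aeval α b = 0 := by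
      ext x
      have : aeval α b x ∈ LinearMap.ker (aeval α a) := LinearMap.mem_ker.mpr (hzero x)
      rw [h, Submodule.mem_bot] at this
      rw [this]; rfl
    exact isUnit_of_eq_mul_of_dvd hμ0 (by rw [hab, mul_comm]) (minpoly.dvd K α hb)
  · right
    have ha : aeval α a = 0 := LinearMap.ker_eq_top.mp h
    exact isUnit_of_eq_mul_of_dvd hμ0 hab (minpoly.dvd K α ha)

omit [FiniteDimensional K W] in
theorem ker_ev_eq {α : Module.End K W} (hirr : Irreducible (minpoly K α)) {w : W} (hw : w ≠ 0) :
    LinearMap.ker (ev α w) = (Ideal.span {minpoly K α}).restrictScalars K := by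
  ext p
  rw [LinearMap.mem_ker, Submodule.restrictScalars_mem, Ideal.mem_span_singleton]
  constructor
  · intro hp
    rcases EuclideanDomain.dvd_or_coprime (minpoly K α) p hirr with h | h
    · exact h
    · exfalso
      obtain ⟨u, v, huv⟩ := h
      have h1 : ev α w (u * minpoly K α + v * p) = w := by rw [huv, ev_one]
      rw [map_add, ev_mul, ev_mul, hp, map_zero, add_zero, ev_apply, minpoly.aeval] at h1
      rw [LinearMap.zero_apply, map_zero] at h1
      exact hw h1.symm
  · rintro ⟨q, rfl⟩
    rw [mul_comm, ev_mul, ev_apply, minpoly.aeval, LinearMap.zero_apply, map_zero]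

theorem finrank_eq_natDegree_minpoly [Nontrivial W] {α : Module.End K W} (hα : Irr α) :
    finrank K W = (minpoly K α).natDegree := by
  obtain ⟨w, hw⟩ := exists_ne (0 : W)
  have hirr := minpoly_irreducible hα
  have e1 := (ev α w).quotKerEquivOfSurjective
    (LinearMap.range_eq_top.mp (range_ev_eq_top hα hw))
  have e2 := Submodule.quotEquivOfEq _ _ (ker_ev_eq hirr hw)
  have e3 := Submodule.Quotient.restrictScalarsEquiv K (Ideal.span {minpoly K α})
  rw [← e1.finrank_eq, e2.finrank_eq, e3.finrank_eq, finrank_quotient_span_eq_natDegree]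

theorem charpoly_eq_minpoly [Nontrivial W] {α : Module.End K W} (hα : Irr α) :
    α.charpoly = minpoly K α := by
  apply Polynomial.eq_of_monic_of_dvd_of_natDegree_le (minpoly.monic (Algebra.IsIntegral.isIntegral α))
    (LinearMap.charpoly_monic α) (LinearMap.minpoly_dvd_charpoly α)
  rw [LinearMap.charpoly_natDegree, finrank_eq_natDegree_minpoly hα]

theorem charpoly_irreducible [Nontrivial W] {α : Module.End K W} (hα : Irr α) :
    Irreducible α.charpoly := by
  rw [charpoly_eq_minpoly hα]; exact minpoly_irreducible hα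

end irr

section schur

variable {W₁ W₂ : Type*} [AddCommGroup W₁] [Module K W₁] [AddCommGroup W₂] [Module K W₂]
  {α : Module.End K W₁} {β : Module.End K W₂}

theorem bijective_of_ne_zero (hα : Irr α) (hβ : Irr β) {h : W₁ →ₗ[K] W₂} (hh : h ∈ Int α β)
    (h0 : h ≠ 0) : Function.Bijective h := by
  have hk : LinearMap.ker h ∈ α.invtSubmodule := by
    rw [Module.End.mem_invtSubmodule]; intro x hx
    rw [Submodule.mem_comap, LinearMap.mem_ker, mem_Int.mp hh, LinearMap.mem_ker.mp hx, map_zero]
  have hr : LinearMap.range h ∈ β.invtSubmodule := by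
    rw [Module.End.mem_invtSubmodule]; rintro _ ⟨x, rfl⟩
    exact ⟨α x, mem_Int.mp hh x⟩
  constructor
  · rcases hα _ hk with h1 | h1
    · exact LinearMap.ker_eq_bot.mp h1
    · exact absurd (LinearMap.ker_eq_top.mp h1) h0
  · rcases hβ _ hr with h1 | h1
    · exact absurd (LinearMap.range_eq_bot.mp h1) h0
    · exact LinearMap.range_eq_top.mp h1

variable [FiniteDimensional K W₁] [FiniteDimensional K W₂]

theorem charpoly_eq_of_ne_zero (hα : Irr α) (hβ : Irr β) {h : W₁ →ₗ[K] W₂} (hh : h ∈ Int α β)
    (h0 : h ≠ 0) : α.charpoly = β.charpoly := by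
  let e := LinearEquiv.ofBijective h (bijective_of_ne_zero hα hβ hh h0)
  have : e.conj α = β := by
    ext y
    rw [LinearEquiv.conj_apply_apply]
    show h (α (e.symm y)) = β y
    rw [mem_Int.mp hh]
    congr 1
    exact e.apply_symm_apply y
  rw [← this, LinearEquiv.charpoly_conj]

/-- two irreducible endomorphisms with the same characteristic polynomial: the space of
intertwiners is identified with the target by evaluation at a nonzero vector -/
theorem finrank_Int_of_charpoly_eq [Nontrivial W₁] [Nontrivial W₂] (hα : Irr α) (hβ : Irr β)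
    (hc : α.charpoly = β.charpoly) : finrank K (Int α β) = finrank K W₂ := by
  obtain ⟨w₁, hw₁⟩ := exists_ne (0 : W₁)
  obtain ⟨w₂, hw₂⟩ := exists_ne (0 : W₂)
  have hm : minpoly K α = minpoly K β := by
    rw [← charpoly_eq_minpoly hα, ← charpoly_eq_minpoly hβ, hc]
  have hker : LinearMap.ker (ev α w₁) = LinearMap.ker (ev β w₂) := by
    rw [ker_ev_eq (minpoly_irreducible hα) hw₁, ker_ev_eq (minpoly_irreducible hβ) hw₂, hm]
  have hsurj₁ := range_ev_eq_top hα hw₁
  have hsurj₂ := range_ev_eq_top hβ hw₂
  obtain ⟨s, hs⟩ := (ev α w₁).exists_rightInverse_of_surjective hsurj₁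
  have hs' : ∀ x, ev α w₁ (s x) = x := fun x => LinearMap.congr_fun hs x
  obtain ⟨h₀, hh₀⟩ : ∃ h₀ : W₁ →ₗ[K] W₂, h₀ = (ev β w₂).comp s := ⟨_, rfl⟩
  have key : ∀ p, h₀ (ev α w₁ p) = ev β w₂ p := by
    intro p
    have : s (ev α w₁ p) - p ∈ LinearMap.ker (ev β w₂) := by
      rw [← hker, LinearMap.mem_ker, map_sub, hs', sub_self]
    rw [LinearMap.mem_ker, map_sub, sub_eq_zero] at this
    rw [hh₀, LinearMap.comp_apply]
    exact this
  have hh₀Int : h₀ ∈ Int α β := by
    rw [mem_Int]; intro x
    obtain ⟨p, rfl⟩ : ∃ p, ev α w₁ p = x := LinearMap.range_eq_top.mp hsurj₁ x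
    rw [← ev_X_mul, key, key, ev_X_mul]
  have hh₀w : h₀ w₁ = w₂ := by
    have := key 1
    rwa [ev_one, ev_one] at this
  -- evaluation at `w₁`
  let E : Int α β →ₗ[K] W₂ := (LinearMap.applyₗ w₁).domRestrict (Int α β)
  have hE : ∀ h : Int α β, E h = h.1 w₁ := fun h => rfl
  have hinj : Function.Injective E := by
    rw [← LinearMap.ker_eq_bot, LinearMap.ker_eq_bot']
    intro h hh
    rw [hE] at hh
    by_contra hne
    have hne' : h.1 ≠ 0 := fun h0 => hne (Subtype.ext h0)
    have := (bijective_of_ne_zero hα hβ h.2 hne').1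
    exact hw₁ (this (by rw [hh, map_zero]))
  have hsurj : Function.Surjective E := by
    intro v
    obtain ⟨p, rfl⟩ : ∃ p, ev β w₂ p = v := LinearMap.range_eq_top.mp hsurj₂ v
    refine ⟨⟨(aeval β p).comp h₀, ?_⟩, ?_⟩
    · rw [mem_Int]; intro x
      rw [LinearMap.comp_apply, LinearMap.comp_apply, mem_Int.mp hh₀Int, aeval_comm]
    · rw [hE]
      show aeval β p (h₀ w₁) = _
      rw [hh₀w, ev_apply]
  exact (LinearEquiv.ofBijective E ⟨hinj, hsurj⟩).finrank_eq

theorem Int_eq_bot_of_charpoly_ne (hα : Irr α) (hβ : Irr β)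
    (hc : α.charpoly ≠ β.charpoly) : Int α β = ⊥ := by
  rw [Submodule.eq_bot_iff]
  intro h hh
  by_contra h0
  exact hc (charpoly_eq_of_ne_zero hα hβ hh h0)

end schur

end Groth.Agent.Helper8.Intertw
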