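import Groth.Agent.Helper8.Intertw2

/-!
# Dimension of the space of intertwiners of semisimple endomorphisms (for S16837)
-/

open Module Polynomial UniqueFactorizationMonoid

open scoped Classical

namespace Groth.Agent.Helper8.Intertw

universe u v w

variable {K : Type u} [Field K]

/-- the pairing `Σ_P mult_P(f) mult_P(g) deg P` -/
noncomputable def r (f g : K[X]) : ℕ :=
  ((normalizedFactors f).map (fun P => (normalizedFactors g).count P * P.natDegree)).sum

theorem r_mul_left {f f' : K[X]} (hf : f ≠ 0) (hf' : f' ≠ 0) (g : K[X]) :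
    r (f * f') g = r f g + r f' g := by
  rw [r, normalizedFactors_mul hf hf', Multiset.map_add, Multiset.sum_add]; rfl

theorem r_mul_right (f : K[X]) {g g' : K[X]} (hg : g ≠ 0) (hg' : g' ≠ 0) :
    r f (g * g') = r f g + r f g' := by
  rw [r, normalizedFactors_mul hg hg']
  simp only [Multiset.count_add, add_mul]
  rw [Multiset.sum_map_add]; rfl

theorem r_one_left (g : K[X]) : r 1 g = 0 := by
  rw [r, normalizedFactors_one]; rfl

theorem r_one_right (f : K[X]) : r f 1 = 0 := by
  rw [r, normalizedFactors_one]; simp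

theorem r_irred {P Q : K[X]} (hP : Irreducible P) (hPm : P.Monic) (hQ : Irreducible Q)
    (hQm : Q.Monic) : r P Q = if P = Q then P.natDegree else 0 := by
  rw [r, normalizedFactors_irreducible hP, normalizedFactors_irreducible hQ,
    hPm.normalize_eq_self, hQm.normalize_eq_self]
  simp only [Multiset.map_singleton, Multiset.sum_singleton, Multiset.count_singleton]
  split_ifs <;> simp

theorem r_eq_sum (f g : K[X]) :
    r f g = ∑ P ∈ (normalizedFactors f).toFinset,
      (normalizedFactors f).count P * (normalizedFactors g).count P * P.natDegree := by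
  rw [r, Finset.sum_multiset_map_count]
  apply Finset.sum_congr rfl
  intro P _
  rw [smul_eq_mul, mul_assoc]

theorem charpoly_eq_one_of_subsingleton {V : Type*} [AddCommGroup V] [Module K V]
    [FiniteDimensional K V] [Subsingleton V] (π : Module.End K V) : π.charpoly = 1 := by
  have h1 : π.charpoly.natDegree = 0 := by
    rw [LinearMap.charpoly_natDegree, finrank_zero_of_subsingleton]
  exact (Polynomial.Monic.natDegree_eq_zero (LinearMap.charpoly_monic π)).mp h1

theorem charpoly_ne_zero {V : Type*} [AddCommGroup V] [Module K V]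
    [FiniteDimensional K V] (π : Module.End K V) : π.charpoly ≠ 0 :=
  (LinearMap.charpoly_monic π).ne_zero

/-- splitting along complementary invariant subspaces: characteristic polynomial -/
theorem charpoly_split {V : Type*} [AddCommGroup V] [Module K V] [FiniteDimensional K V]
    (π : Module.End K V) {p q : Submodule K V} (hp : p ∈ π.invtSubmodule)
    (hq : q ∈ π.invtSubmodule) (hpq : IsCompl p q) :
    π.charpoly = (π.restrict hp).charpoly * (π.restrict hq).charpoly := by
  have : (Submodule.prodEquivOfIsCompl p q hpq).conj ((π.restrict hp).prodMap (π.restrict hq)) = π := by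
    ext x
    rw [LinearEquiv.conj_apply_apply, ← conj_prodEquiv π hp hq hpq, LinearEquiv.apply_symm_apply]
  have h2 := LinearEquiv.charpoly_conj (Submodule.prodEquivOfIsCompl p q hpq)
    ((π.restrict hp).prodMap (π.restrict hq))
  rw [this] at h2
  rw [h2, LinearMap.charpoly_prodMap]

theorem finrank_Int_prod_left {A : Type*} {B : Type*} {V₂ : Type*} [AddCommGroup A] [Module K A]
    [FiniteDimensional K A] [AddCommGroup B] [Module K B] [FiniteDimensional K B]
    [AddCommGroup V₂] [Module K V₂] [FiniteDimensional K V₂]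
    (α : Module.End K A) (β : Module.End K B) (π₂ : Module.End K V₂) :
    finrank K (Int (α.prodMap β) π₂) = finrank K (Int α π₂) + finrank K (Int β π₂) := by
  rw [← (prodLeft α β π₂).finrank_eq, Module.finrank_prod]

theorem finrank_Int_prod_right {A : Type*} {B : Type*} {V₁ : Type*} [AddCommGroup A] [Module K A]
    [FiniteDimensional K A] [AddCommGroup B] [Module K B] [FiniteDimensional K B]
    [AddCommGroup V₁] [Module K V₁] [FiniteDimensional K V₁]
    (π₁ : Module.End K V₁) (α : Module.End K A) (β : Module.End K B) :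
    finrank K (Int π₁ (α.prodMap β)) = finrank K (Int π₁ α) + finrank K (Int π₁ β) := by
  rw [← (prodRight π₁ α β).finrank_eq, Module.finrank_prod]

theorem finrank_split_left {V₁ : Type v} {V₂ : Type w} [AddCommGroup V₁] [Module K V₁]
    [FiniteDimensional K V₁] [AddCommGroup V₂] [Module K V₂] [FiniteDimensional K V₂]
    (π₁ : Module.End K V₁) (π₂ : Module.End K V₂) {p q : Submodule K V₁}
    (hp : p ∈ π₁.invtSubmodule) (hq : q ∈ π₁.invtSubmodule) (hpq : IsCompl p q) :
    finrank K (Int π₁ π₂) = finrank K (Int (π₁.restrict hp) π₂) +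
      finrank K (Int (π₁.restrict hq) π₂) :=
  ((conjLeft π₁ π₂ ((π₁.restrict hp).prodMap (π₁.restrict hq))
    (Submodule.prodEquivOfIsCompl p q hpq) (conj_prodEquiv π₁ hp hq hpq)).finrank_eq).trans
    (finrank_Int_prod_left (π₁.restrict hp) (π₁.restrict hq) π₂)

theorem finrank_split_right {V₁ : Type v} {V₂ : Type w} [AddCommGroup V₁] [Module K V₁]
    [FiniteDimensional K V₁] [AddCommGroup V₂] [Module K V₂] [FiniteDimensional K V₂]
    (π₁ : Module.End K V₁) (π₂ : Module.End K V₂) {p q : Submodule K V₂}
    (hp : p ∈ π₂.invtSubmodule) (hq : q ∈ π₂.invtSubmodule) (hpq : IsCompl p q) :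
    finrank K (Int π₁ π₂) = finrank K (Int π₁ (π₂.restrict hp)) +
      finrank K (Int π₁ (π₂.restrict hq)) :=
  ((conjRight π₁ π₂ ((π₂.restrict hp).prodMap (π₂.restrict hq))
    (Submodule.prodEquivOfIsCompl p q hpq) (conj_prodEquiv π₂ hp hq hpq)).finrank_eq).trans
    (finrank_Int_prod_right π₁ (π₂.restrict hp) (π₂.restrict hq))

/-- a reducible semisimple endomorphism splits into two smaller pieces -/
theorem exists_split {V : Type*} [AddCommGroup V] [Module K V] [FiniteDimensional K V]
    {π : Module.End K V} (hs : π.IsSemisimple) (hirr : ¬ Irr π) :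
    ∃ (p q : Submodule K V) (hp : p ∈ π.invtSubmodule) (hq : q ∈ π.invtSubmodule),
      IsCompl p q ∧ finrank K p < finrank K V ∧ finrank K q < finrank K V := by
  rw [Irr] at hirr
  push Not at hirr
  obtain ⟨p, hp, hpb, hpt⟩ := hirr
  obtain ⟨q, hq, hpq⟩ := (Module.End.isSemisimple_iff.mp hs) p hp
  refine ⟨p, q, hp, hq, hpq, Submodule.finrank_lt hpt, Submodule.finrank_lt ?_⟩
  rintro rfl
  exact hpb (by simpa using hpq.inf_eq_bot)

theorem main_aux : ∀ N : ℕ, ∀ (V₁ : Type v) [AddCommGroup V₁] [Module K V₁]
    [FiniteDimensional K V₁] (V₂ : Type w) [AddCommGroup V₂] [Module K V₂]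
    [FiniteDimensional K V₂] (π₁ : Module.End K V₁) (π₂ : Module.End K V₂),
    π₁.IsSemisimple → π₂.IsSemisimple → finrank K V₁ + finrank K V₂ = N →
    finrank K (Int π₁ π₂) = r π₁.charpoly π₂.charpoly := by
  intro N
  induction N using Nat.strong_induction_on with
  | _ N ih =>
  intro V₁ _ _ _ V₂ _ _ _ π₁ π₂ h₁ h₂ hN
  by_cases hirr1 : Irr π₁
  · by_cases hirr2 : Irr π₂
    · -- both irreducible
      rcases subsingleton_or_nontrivial V₁ with hV₁ | hV₁
      · rw [charpoly_eq_one_of_subsingleton, r_one_left]
        have : Subsingleton (Int π₁ π₂) := by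
          constructor
          intro a b
          ext x
          rw [Subsingleton.elim x 0, map_zero, map_zero]
        exact finrank_zero_of_subsingleton
      rcases subsingleton_or_nontrivial V₂ with hV₂ | hV₂
      · rw [charpoly_eq_one_of_subsingleton π₂, r_one_right]
        have : Subsingleton (Int π₁ π₂) := by
          constructor
          intro a b
          ext x
          exact Subsingleton.elim _ _
        exact finrank_zero_of_subsingleton
      rw [r_irred (charpoly_irreducible hirr1) (LinearMap.charpoly_monic π₁)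
        (charpoly_irreducible hirr2) (LinearMap.charpoly_monic π₂)]
      split_ifs with hc
      · rw [finrank_Int_of_charpoly_eq hirr1 hirr2 hc, hc, LinearMap.charpoly_natDegree]
      · rw [Int_eq_bot_of_charpoly_ne hirr1 hirr2 hc, finrank_bot]
    · -- split V₂
      obtain ⟨p, q, hp, hq, hpq, hlp, hlq⟩ := exists_split h₂ hirr2
      rw [finrank_split_right π₁ π₂ hp hq hpq, charpoly_split π₂ hp hq hpq,
        r_mul_right _ (charpoly_ne_zero _) (charpoly_ne_zero _)]
      rw [ih (finrank K V₁ + finrank K p) (by omega) V₁ p π₁ (π₂.restrict hp) h₁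
        (h₂.restrict hp) rfl,
        ih (finrank K V₁ + finrank K q) (by omega) V₁ q π₁ (π₂.restrict hq) h₁
        (h₂.restrict hq) rfl]
  · -- split V₁
    obtain ⟨p, q, hp, hq, hpq, hlp, hlq⟩ := exists_split h₁ hirr1
    rw [finrank_split_left π₁ π₂ hp hq hpq, charpoly_split π₁ hp hq hpq,
      r_mul_left (charpoly_ne_zero _) (charpoly_ne_zero _)]
    rw [ih (finrank K p + finrank K V₂) (by omega) p V₂ (π₁.restrict hp) π₂ (h₁.restrict hp)
      h₂ rfl,
      ih (finrank K q + finrank K V₂) (by omega) q V₂ (π₁.restrict hq) π₂ (h₁.restrict hq)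
      h₂ rfl]

theorem main (V₁ : Type v) (V₂ : Type w) [AddCommGroup V₁] [Module K V₁] [FiniteDimensional K V₁]
    [AddCommGroup V₂] [Module K V₂] [FiniteDimensional K V₂]
    (π₁ : Module.End K V₁) (π₂ : Module.End K V₂) (h₁ : π₁.IsSemisimple) (h₂ : π₂.IsSemisimple) :
    Module.finrank K (LinearMap.ker (LinearMap.lcomp K V₂ π₁ - LinearMap.llcomp K V₁ V₂ V₂ π₂ :
        (V₁ →ₗ[K] V₂) →ₗ[K] (V₁ →ₗ[K] V₂))) =
      ∑ P ∈ (normalizedFactors π₁.charpoly).toFinset,
        (normalizedFactors π₁.charpoly).count P * (normalizedFactors π₂.charpoly).count P *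
          P.natDegree := by
  rw [← r_eq_sum]
  exact main_aux _ V₁ V₂ π₁ π₂ h₁ h₂ rfl

end Groth.Agent.Helper8.Intertw
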