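import Mathlib
import Groth.Agent.Helper8.PNorm

/-!
# Generic norm polynomial with invariant coefficients

For a finite projective `A`-algebra `B` with a retraction `(F, Gm)`, and elements `b j : B`
on which two base-change maps `lam₁`, `lam₂` agree, the generic determinant
`det (1 + ∑ⱼ Xⱼ • mat (b j))` has coefficients in the equaliser of `τ` and `algebraMap A B`.
-/

set_option autoImplicit false

namespace Groth.Agent.Helper8.InvBC

open Polynomial CategoryTheory Matrix TensorProduct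

universe u

section Gen

variable {A : Type*} [CommRing A] {n : ℕ} {ι : Type*} [Fintype ι]

/-- The generic determinant `det (1 + ∑ⱼ Xⱼ • Mⱼ)`. -/
noncomputable def W (M : ι → Matrix (Fin n) (Fin n) A) : MvPolynomial ι A :=
  (1 + ∑ j, (MvPolynomial.X j : MvPolynomial ι A) •
    (M j).map (MvPolynomial.C : A →+* MvPolynomial ι A)).det

theorem eval₂_W {R : Type*} [CommRing R] (θ : A →+* R) (v : ι → R)
    (M : ι → Matrix (Fin n) (Fin n) A) :
    MvPolynomial.eval₂ θ v (W M) = (1 + ∑ j, v j • (M j).map θ).det := by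
  unfold W
  rw [← MvPolynomial.coe_eval₂Hom, RingHom.map_det]
  congr 1
  rw [map_add, map_one, map_sum]
  congr 1
  refine Finset.sum_congr rfl fun j _ => ?_
  ext k l
  simp

theorem map_W {R : Type*} [CommRing R] (ρ : A →+* R) (M : ι → Matrix (Fin n) (Fin n) A) :
    MvPolynomial.map ρ (W M) = W (fun j => (M j).map ρ) := by
  have h : MvPolynomial.map ρ (W M) =
      MvPolynomial.eval₂ ((MvPolynomial.C : R →+* MvPolynomial ι R).comp ρ)
        (MvPolynomial.X : ι → MvPolynomial ι R) (W M) := by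
    rw [MvPolynomial.map_eq_eval₂Hom_C_comp]
    rfl
  rw [h, eval₂_W]
  unfold W
  simp only [Matrix.map_map]
  rfl

end Gen

section Inv

variable {A B P : Type u} [CommRing A] [CommRing B] [CommRing P]
    [Algebra A B] [Algebra B P] (τ : A →+* B) (lam₁ lam₂ : B →+* P)

theorem W_map_eq
    (h₁ : IsPushout (CommRingCat.ofHom τ) (CommRingCat.ofHom (algebraMap A B))
      (CommRingCat.ofHom (algebraMap B P)) (CommRingCat.ofHom lam₁))
    (h₂ : IsPushout (CommRingCat.ofHom (algebraMap A B)) (CommRingCat.ofHom (algebraMap A B))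
      (CommRingCat.ofHom (algebraMap B P)) (CommRingCat.ofHom lam₂))
    {n : ℕ} (F : (Fin n → A) →ₗ[A] B) (Gm : B →ₗ[A] (Fin n → A))
    (hFG : F ∘ₗ Gm = LinearMap.id) {ι : Type*} [Fintype ι] (b : ι → B)
    (hb : ∀ j, lam₁ (b j) = lam₂ (b j)) :
    MvPolynomial.map τ (W fun j => PNorm.mat F Gm (b j)) =
      MvPolynomial.map (algebraMap A B) (W fun j => PNorm.mat F Gm (b j)) := by
  obtain ⟨F₁, G₁, hid₁, hm₁, -⟩ := PNorm.exists_baseChange τ lam₁ h₁ F Gm hFG
  obtain ⟨F₂, G₂, hid₂, hm₂, -⟩ := PNorm.exists_baseChange (algebraMap A B) lam₂ h₂ F Gm hFG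
  rw [map_W, map_W]
  let φ : ι → (P →ₗ[B] P) := fun j => LinearMap.mulLeft B (lam₁ (b j))
  let U : Matrix (Fin n) (Fin n) B := LinearMap.toMatrix' (G₁ ∘ₗ F₂)
  let Y : ι → Matrix (Fin n) (Fin n) B := fun j =>
    LinearMap.toMatrix' ((G₂ ∘ₗ φ j ∘ₗ F₂) ∘ₗ (G₂ ∘ₗ F₁))
  have e1 : ∀ j, (PNorm.mat F Gm (b j)).map τ = U * Y j := by
    intro j
    calc (PNorm.mat F Gm (b j)).map τ = PNorm.matOf F₁ G₁ (φ j) := (hm₁ (b j)).symm
      _ = LinearMap.toMatrix' ((G₁ ∘ₗ F₂) ∘ₗ ((G₂ ∘ₗ φ j ∘ₗ F₂) ∘ₗ (G₂ ∘ₗ F₁))) :=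
          congrArg _ (PNorm.retract_eq₁ F₁ F₂ G₁ G₂ hid₂ (φ j))
      _ = U * Y j := LinearMap.toMatrix'_comp _ _
  have e2 : ∀ j, (PNorm.mat F Gm (b j)).map (algebraMap A B) = Y j * U := by
    intro j
    calc (PNorm.mat F Gm (b j)).map (algebraMap A B)
        = PNorm.matOf F₂ G₂ (LinearMap.mulLeft B (lam₂ (b j))) := (hm₂ (b j)).symm
      _ = PNorm.matOf F₂ G₂ (φ j) := by rw [← hb j]
      _ = LinearMap.toMatrix' (((G₂ ∘ₗ φ j ∘ₗ F₂) ∘ₗ (G₂ ∘ₗ F₁)) ∘ₗ (G₁ ∘ₗ F₂)) :=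
          congrArg _ (PNorm.retract_eq₂ F₁ F₂ G₁ G₂ hid₁ hid₂ (φ j))
      _ = Y j * U := LinearMap.toMatrix'_comp _ _
  simp only [e1, e2]
  unfold W
  have s1 : ∑ j, (MvPolynomial.X j : MvPolynomial ι B) •
        (U * Y j).map (MvPolynomial.C : B →+* MvPolynomial ι B) =
      U.map (MvPolynomial.C : B →+* MvPolynomial ι B) *
        ∑ j, (MvPolynomial.X j : MvPolynomial ι B) •
        (Y j).map (MvPolynomial.C : B →+* MvPolynomial ι B) := by
    rw [Finset.mul_sum]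
    refine Finset.sum_congr rfl fun j _ => ?_
    rw [Matrix.map_mul, Matrix.mul_smul]
  have s2 : ∑ j, (MvPolynomial.X j : MvPolynomial ι B) •
        (Y j * U).map (MvPolynomial.C : B →+* MvPolynomial ι B) =
      (∑ j, (MvPolynomial.X j : MvPolynomial ι B) •
        (Y j).map (MvPolynomial.C : B →+* MvPolynomial ι B)) *
        U.map (MvPolynomial.C : B →+* MvPolynomial ι B) := by
    rw [Finset.sum_mul]
    refine Finset.sum_congr rfl fun j _ => ?_
    rw [Matrix.map_mul, Matrix.smul_mul]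
  rw [s1, s2, Matrix.det_one_add_mul_comm]

end Inv

section DpSec

variable {A : Type*} [CommRing A] {n : ℕ}

/-- `det (1 + (X - 1) • E)`, the rank polynomial of an idempotent matrix `E`. -/
noncomputable def Dp (E : Matrix (Fin n) (Fin n) A) : A[X] :=
  (1 + (X - 1 : A[X]) • E.map C).det

theorem eval₂_Dp {R : Type*} [CommRing R] (θ : A →+* R) (y : R)
    (E : Matrix (Fin n) (Fin n) A) :
    (Dp E).eval₂ θ y = (1 + (y - 1) • E.map θ).det := by
  unfold Dp
  rw [← Polynomial.coe_eval₂RingHom, RingHom.map_det]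
  congr 1
  rw [map_add, map_one]
  congr 1
  ext k l
  simp

theorem det_mul_det {R : Type*} [CommRing R] (E' : Matrix (Fin n) (Fin n) R)
    (hE : E' * E' = E') (y y' : R) :
    (1 + (y - 1) • E').det * (1 + (y' - 1) • E').det = (1 + (y * y' - 1) • E').det := by
  rw [← Matrix.det_mul]
  congr 1
  simp only [add_mul, mul_add, one_mul, mul_one, Matrix.smul_mul, Matrix.mul_smul, hE, smul_smul]
  module

theorem map_idem {R : Type*} [CommRing R] (θ : A →+* R) (E : Matrix (Fin n) (Fin n) A)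
    (hE : E * E = E) : E.map θ * E.map θ = E.map θ := by
  rw [← Matrix.map_mul, hE]

theorem eval₂_Dp_one {R : Type*} [CommRing R] (θ : A →+* R) (E : Matrix (Fin n) (Fin n) A) :
    (Dp E).eval₂ θ 1 = 1 := by
  rw [eval₂_Dp]
  simp

theorem eval₂_Dp_mul {R : Type*} [CommRing R] (θ : A →+* R) (E : Matrix (Fin n) (Fin n) A)
    (hE : E * E = E) (y y' : R) :
    (Dp E).eval₂ θ y * (Dp E).eval₂ θ y' = (Dp E).eval₂ θ (y * y') := by
  rw [eval₂_Dp, eval₂_Dp, eval₂_Dp]
  exact det_mul_det _ (map_idem θ E hE) y y'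

theorem eval₂_Dp_pow {R : Type*} [CommRing R] (θ : A →+* R) (E : Matrix (Fin n) (Fin n) A)
    (hE : E * E = E) (y : R) (k : ℕ) :
    (Dp E).eval₂ θ y ^ k = (Dp E).eval₂ θ (y ^ k) := by
  induction k with
  | zero => rw [pow_zero, pow_zero, eval₂_Dp_one]
  | succ k ih => rw [pow_succ, pow_succ, ih, eval₂_Dp_mul θ E hE]

theorem coeff_mul_eval₂ {R : Type*} [CommRing R] (E : Matrix (Fin n) (Fin n) A)
    (hE : E * E = E) (θ : A →+* R) (y : R) (r : ℕ) :
    θ ((Dp E).coeff r) * (Dp E).eval₂ θ y = θ ((Dp E).coeff r) * y ^ r := by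
  have h := eval₂_Dp_mul ((C : R →+* R[X]).comp θ) E hE (X : R[X]) (C y)
  have h1 : (Dp E).eval₂ ((C : R →+* R[X]).comp θ) (X : R[X]) = (Dp E).map θ := by
    rw [← Polynomial.eval₂_map, Polynomial.eval₂_C_X]
  have h2 : (Dp E).eval₂ ((C : R →+* R[X]).comp θ) (C y) = C ((Dp E).eval₂ θ y) := by
    rw [Polynomial.hom_eval₂]
  have h3 : (Dp E).eval₂ ((C : R →+* R[X]).comp θ) (X * C y) =
      ((Dp E).map θ).comp (C y * X) := by
    rw [Polynomial.comp, Polynomial.eval₂_map, mul_comm]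
  rw [h1, h2, h3] at h
  have h4 := congrArg (fun p => p.coeff r) h
  simp only [Polynomial.coeff_mul_C, Polynomial.comp_C_mul_X_coeff, Polynomial.coeff_map] at h4
  exact h4

theorem sum_coeff_Dp (E : Matrix (Fin n) (Fin n) A) :
    ∑ r ∈ Finset.range ((Dp E).natDegree + 1), (Dp E).coeff r = 1 := by
  have h := eval₂_Dp_one (RingHom.id A) E
  rw [Polynomial.eval₂_eq_sum_range] at h
  simpa using h

end DpSec

end Groth.Agent.Helper8.InvBC
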