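import Mathlib
import Groth.Agent.Helper8.PNorm
import Groth.Agent.Helper8.InvBC1

/-!
# Base change of invariants: ring-level statements
-/

set_option autoImplicit false

namespace Groth.Agent.Helper8.InvBC

open Polynomial CategoryTheory Matrix TensorProduct

universe u

section Main

variable {A B P C C' : Type u} [CommRing A] [CommRing B] [CommRing P] [CommRing C] [CommRing C']
  [Algebra A B] [Algebra B P] [Algebra C A] [Algebra C B] [IsScalarTower C A B] [Algebra C C']
  (τ : A →+* B) (lam₁ lam₂ : B →+* P)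

theorem sum_entries {n : ℕ} (F : (Fin n → A) →ₗ[A] B) (Gm : B →ₗ[A] (Fin n → A))
    {ι₀ : Type*} [Fintype ι₀] (a : ι₀ → A) (c : ι₀ → C')
    (hst : ∑ i, algebraMap A B (a i) ⊗ₜ[C] c i = ∑ i, τ (a i) ⊗ₜ[C] c i) (k l : Fin n) :
    ∑ i, (PNorm.mat F Gm (τ (a i)) k l) ⊗ₜ[C] c i =
      (∑ i, a i ⊗ₜ[C] c i) * ((PNorm.mat F Gm 1 k l) ⊗ₜ[C] (1 : C')) := by
  let g : B →ₗ[A] A :=
    (LinearMap.proj k) ∘ₗ Gm ∘ₗ LinearMap.mulRight A (F (Pi.single l 1))
  have hg : ∀ x : B, g x = PNorm.mat F Gm x k l := by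
    intro x
    simp [g, PNorm.mat, PNorm.matOf_apply]
  have h := congrArg (LinearMap.rTensor C' (g.restrictScalars C)) hst
  simp only [map_sum, LinearMap.rTensor_tmul, LinearMap.restrictScalars_apply] at h
  rw [Finset.sum_mul]
  calc ∑ i, (PNorm.mat F Gm (τ (a i)) k l) ⊗ₜ[C] c i
      = ∑ i, g (τ (a i)) ⊗ₜ[C] c i := by simp only [hg]
    _ = ∑ i, g (algebraMap A B (a i)) ⊗ₜ[C] c i := h.symm
    _ = ∑ i, a i ⊗ₜ[C] c i * (PNorm.mat F Gm 1 k l) ⊗ₜ[C] (1 : C') := by
        refine Finset.sum_congr rfl fun i _ => ?_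
        rw [Algebra.TensorProduct.tmul_mul_tmul, mul_one, ← hg,
          Algebra.algebraMap_eq_smul_one, map_smul, smul_eq_mul]

theorem mat_one_idem {n : ℕ} (F : (Fin n → A) →ₗ[A] B) (Gm : B →ₗ[A] (Fin n → A))
    (hFG : F ∘ₗ Gm = LinearMap.id) :
    PNorm.mat F Gm 1 * PNorm.mat F Gm 1 = PNorm.mat F Gm 1 := by
  have e1 : ∀ m, F (Gm m) = m := fun m => LinearMap.congr_fun hFG m
  unfold PNorm.mat PNorm.matOf
  rw [← LinearMap.toMatrix'_comp]
  congr 1
  refine LinearMap.ext fun x => ?_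
  simp [e1]

theorem coeff_zero_Dp {n : ℕ} (F : (Fin n → A) →ₗ[A] B) (Gm : B →ₗ[A] (Fin n → A))
    (hFG : F ∘ₗ Gm = LinearMap.id) (hinj : Function.Injective (algebraMap A B)) :
    (Dp (PNorm.mat F Gm 1)).coeff 0 = 0 := by
  have h0 : (Dp (PNorm.mat F Gm 1)).coeff 0 = PNorm.nrm F Gm 0 := by
    rw [Polynomial.coeff_zero_eq_eval_zero]
    have := eval₂_Dp (RingHom.id A) 0 (PNorm.mat F Gm 1)
    rw [Polynomial.eval₂_id] at this
    rw [this]
    unfold PNorm.nrm PNorm.mat PNorm.matOf
    congr 2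
    ext i j
    simp
  obtain ⟨x, hx⟩ := PNorm.exists_mul_eq_nrm F Gm hFG 0
  rw [zero_mul] at hx
  rw [h0]
  exact hinj (hx.trans (map_zero _).symm)

omit [Algebra A B] [IsScalarTower C A B] [Algebra C B] in
/-- The abstract computation: all the data live over an arbitrary target ring `R'`. -/
theorem partA_core {R' : Type u} [CommRing R'] (ρ : A →+* R') (ir : C' →+* R')
    (hcomm : ∀ x : C, ir (algebraMap C C' x) = ρ (algebraMap C A x))
    {n : ℕ} {ι₀ : Type u} [Fintype ι₀] (M : Option ι₀ → Matrix (Fin n) (Fin n) A)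
    (WC : MvPolynomial (Option ι₀) C) (hWC : MvPolynomial.map (algebraMap C A) WC = W M)
    (hEE : M none * M none = M none) (he0 : (Dp (M none)).coeff 0 = 0)
    (c : ι₀ → C') (f : R')
    (hent : ∀ k l, ∑ i, ir (c i) * ρ (M (some i) k l) = f * ρ (M none k l)) :
    ∃ (N : ℕ) (Q : C'[X]), 0 < N ∧ Q.map ir = (X - Polynomial.C f) ^ N := by
  classical
  obtain ⟨E, hE⟩ : ∃ E : Matrix (Fin n) (Fin n) A, E = M none := ⟨_, rfl⟩
  rw [← hE] at hEE he0
  obtain ⟨D, hD⟩ : ∃ D : A[X], D = Dp E := ⟨_, rfl⟩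
  rw [← hD] at he0
  -- the rank polynomial comes from `C`
  let vC : Option ι₀ → C[X] := fun j => j.elim (X - 1) (fun _ => 0)
  obtain ⟨DC, hDCdef⟩ : ∃ DC : C[X],
      DC = MvPolynomial.eval₂ (Polynomial.C : C →+* C[X]) vC WC := ⟨_, rfl⟩
  have hDC : DC.map (algebraMap C A) = D := by
    have e0 : DC.map (algebraMap C A) = Polynomial.mapRingHom (algebraMap C A) DC := rfl
    rw [e0, hDCdef, MvPolynomial.eval₂_comp_left, Polynomial.mapRingHom_comp_C,
      ← MvPolynomial.eval₂_map, hWC, eval₂_W, Fintype.sum_option, hD, Dp]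
    congr 2
    simp [vC, hE]
  let θ : A →+* R'[X] := (Polynomial.C : R' →+* R'[X]).comp ρ
  have hθ : ∀ x : A, θ x = Polynomial.C (ρ x) := fun x => rfl
  -- the polynomial P₀
  let v₀ : Option ι₀ → C'[X] := fun j => j.elim (X - 1) (fun i => - Polynomial.C (c i))
  obtain ⟨P₀, hP₀def⟩ : ∃ P₀ : C'[X], P₀ =
    MvPolynomial.eval₂ ((Polynomial.C : C' →+* C'[X]).comp (algebraMap C C')) v₀ WC := ⟨_, rfl⟩
  have hmat : (∑ i, Polynomial.map ir (v₀ (some i)) • (M (some i)).map θ) =
      (- Polynomial.C f) • E.map θ := by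
    refine Matrix.ext fun k l => ?_
    rw [Matrix.sum_apply]
    have hs' := hent k l
    have hs'' := congrArg (Polynomial.C : R' →+* R'[X]) hs'
    rw [map_sum, map_mul] at hs''
    have e4 : ∀ i, (Polynomial.map ir (v₀ (some i)) • (M (some i)).map θ) k l =
        -(Polynomial.C (ir (c i)) * Polynomial.C (ρ (M (some i) k l))) := by
      intro i
      change Polynomial.map ir (- Polynomial.C (c i)) * θ (M (some i) k l) = _
      rw [Polynomial.map_neg, Polynomial.map_C, hθ, neg_mul]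
    calc ∑ i, (Polynomial.map ir (v₀ (some i)) • (M (some i)).map θ) k l
        = ∑ i, -(Polynomial.C (ir (c i)) * Polynomial.C (ρ (M (some i) k l))) :=
          Finset.sum_congr rfl fun i _ => e4 i
      _ = -(∑ i, Polynomial.C (ir (c i)) * Polynomial.C (ρ (M (some i) k l))) :=
          Finset.sum_neg_distrib _
      _ = -(Polynomial.C f * Polynomial.C (ρ (M none k l))) := by
          rw [← hs'']
          simp only [map_mul]
      _ = ((- Polynomial.C f) • E.map θ) k l := by
          change _ = (- Polynomial.C f) * θ (E k l)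
          rw [hE, hθ, neg_mul]
  have hP₀ : P₀.map ir = D.eval₂ θ (X - Polynomial.C f) := by
    have e0 : P₀.map ir = Polynomial.mapRingHom ir P₀ := rfl
    have e1 : (Polynomial.mapRingHom ir).comp
        ((Polynomial.C : C' →+* C'[X]).comp (algebraMap C C')) =
        θ.comp (algebraMap C A) := by
      refine RingHom.ext fun x => ?_
      simp only [RingHom.comp_apply, Polynomial.coe_mapRingHom, Polynomial.map_C, θ]
      rw [hcomm]
    rw [e0, hP₀def, MvPolynomial.eval₂_comp_left, e1, ← MvPolynomial.eval₂_map, hWC, eval₂_W,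
      Fintype.sum_option, hD, eval₂_Dp]
    congr 2
    simp only [Function.comp_apply, Polynomial.coe_mapRingHom]
    rw [hmat, ← hE]
    have e2 : Polynomial.map ir (v₀ none) = X - 1 := by
      change Polynomial.map ir (X - 1) = X - 1
      rw [Polynomial.map_sub, Polynomial.map_X, Polynomial.map_one]
    rw [e2, ← add_smul]
    congr 1
    ring
  -- coefficients of D
  have hcoeff : ∀ r, D.coeff r = algebraMap C A (DC.coeff r) := by
    intro r
    rw [← hDC, Polynomial.coeff_map]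
  obtain ⟨N, hN⟩ : ∃ N : ℕ, N = D.natDegree := ⟨_, rfl⟩
  obtain ⟨y, hy⟩ : ∃ y : R'[X], y = X - Polynomial.C f := ⟨_, rfl⟩
  rw [← hy] at hP₀ ⊢
  refine ⟨N.factorial, ∑ r ∈ Finset.range (N + 1), if r = 0 then 0 else
    Polynomial.C (algebraMap C C' (DC.coeff r)) * P₀ ^ (N.factorial / r), Nat.factorial_pos N, ?_⟩
  rw [Polynomial.map_sum]
  have hterm : ∀ r ∈ Finset.range (N + 1),
      Polynomial.map ir (if r = 0 then 0 else
        Polynomial.C (algebraMap C C' (DC.coeff r)) * P₀ ^ (N.factorial / r)) =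
      θ (D.coeff r) * y ^ N.factorial := by
    intro r hr
    by_cases h0 : r = 0
    · subst h0
      rw [if_pos rfl, he0, map_zero, Polynomial.map_zero, zero_mul]
    · rw [if_neg h0, Polynomial.map_mul, Polynomial.map_pow, Polynomial.map_C, hcomm, hP₀,
        ← hcoeff]
      have hrN : r ≤ N := Nat.lt_succ_iff.mp (Finset.mem_range.mp hr)
      have hdvd : r ∣ N.factorial := Nat.dvd_factorial (Nat.pos_of_ne_zero h0) hrN
      change θ (D.coeff r) * _ = _
      rw [hD, eval₂_Dp_pow θ E hEE, coeff_mul_eval₂ E hEE θ, ← pow_mul, Nat.div_mul_cancel hdvd]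
  rw [Finset.sum_congr rfl hterm, ← Finset.sum_mul, ← map_sum, hN, hD, sum_coeff_Dp, map_one,
    one_mul]

theorem partA
    (h₁ : IsPushout (CommRingCat.ofHom τ) (CommRingCat.ofHom (algebraMap A B))
      (CommRingCat.ofHom (algebraMap B P)) (CommRingCat.ofHom lam₁))
    (h₂ : IsPushout (CommRingCat.ofHom (algebraMap A B)) (CommRingCat.ofHom (algebraMap A B))
      (CommRingCat.ofHom (algebraMap B P)) (CommRingCat.ofHom lam₂))
    (hlam : ∀ a, lam₁ (τ a) = lam₂ (τ a))
    [Module.Finite A B] [Module.Projective A B]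
    (hinj : Function.Injective (algebraMap A B))
    (hC : ∀ a : A, algebraMap A B a = τ a → a ∈ Set.range (algebraMap C A))
    {ι₀ : Type u} [Fintype ι₀] (a : ι₀ → A) (c : ι₀ → C')
    (hst : ∑ i, algebraMap A B (a i) ⊗ₜ[C] c i = ∑ i, τ (a i) ⊗ₜ[C] c i) :
    ∃ (N : ℕ) (Q : C'[X]), 0 < N ∧
      Q.map (Algebra.TensorProduct.includeRight : C' →ₐ[C] A ⊗[C] C').toRingHom =
        (X - Polynomial.C (∑ i, a i ⊗ₜ[C] c i)) ^ N := by
  classical
  obtain ⟨n, F, Gm, -, -, hFG⟩ := Module.Finite.exists_comp_eq_id_of_projective A B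
  -- the family
  let b : Option ι₀ → B := fun j => j.elim 1 (fun i => τ (a i))
  have hb : ∀ j, lam₁ (b j) = lam₂ (b j) := by
    rintro (_ | i)
    · simp [b]
    · exact hlam (a i)
  obtain ⟨M, hM⟩ : ∃ M : Option ι₀ → Matrix (Fin n) (Fin n) A,
      M = fun j => PNorm.mat F Gm (b j) := ⟨_, rfl⟩
  have hW := W_map_eq τ lam₁ lam₂ h₁ h₂ F Gm hFG b hb
  rw [← hM] at hW
  obtain ⟨WC, hWC⟩ : W M ∈ Set.range (MvPolynomial.map (algebraMap C A)) := by
    rw [MvPolynomial.mem_range_map_iff_coeffs_subset]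
    intro x hx
    obtain ⟨s, -, rfl⟩ := MvPolynomial.mem_coeffs_iff.mp (Finset.mem_coe.mp hx)
    apply hC
    have := congrArg (MvPolynomial.coeff s) hW
    simp only [MvPolynomial.coeff_map] at this
    exact this.symm
  have hMnone : M none = PNorm.mat F Gm 1 := by
    rw [hM]
    rfl
  have hMsome : ∀ i, M (some i) = PNorm.mat F Gm (τ (a i)) := fun i => by
    rw [hM]
    rfl
  have hEE : M none * M none = M none := by
    rw [hMnone]
    exact mat_one_idem F Gm hFG
  have he0 : (Dp (M none)).coeff 0 = 0 := by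
    rw [hMnone]
    exact coeff_zero_Dp F Gm hFG hinj
  have hcomm : ∀ x : C,
      (Algebra.TensorProduct.includeRight : C' →ₐ[C] A ⊗[C] C').toRingHom (algebraMap C C' x) =
      (Algebra.TensorProduct.includeLeft : A →ₐ[C] A ⊗[C] C').toRingHom (algebraMap C A x) := by
    intro x
    exact ((Algebra.TensorProduct.includeRight : C' →ₐ[C] A ⊗[C] C').commutes x).trans
      ((Algebra.TensorProduct.includeLeft : A →ₐ[C] A ⊗[C] C').commutes x).symm
  refine partA_core (Algebra.TensorProduct.includeLeft : A →ₐ[C] A ⊗[C] C').toRingHom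
    (Algebra.TensorProduct.includeRight : C' →ₐ[C] A ⊗[C] C').toRingHom hcomm M WC hWC hEE he0 c
    (∑ i, a i ⊗ₜ[C] c i) ?_
  intro k l
  have hs := sum_entries (C := C) (C' := C') τ F Gm a c hst k l
  have e3 : ∀ i, M (some i) k l = PNorm.mat F Gm (τ (a i)) k l := fun i =>
    Matrix.ext_iff.mpr (hMsome i) k l
  have e5 : M none k l = PNorm.mat F Gm 1 k l := Matrix.ext_iff.mpr hMnone k l
  rw [e5]
  change _ = _ * ((PNorm.mat F Gm 1 k l) ⊗ₜ[C] (1 : C'))
  rw [← hs]
  refine Finset.sum_congr rfl fun i _ => ?_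
  rw [e3]
  change ((1 : A) ⊗ₜ[C] c i) * ((PNorm.mat F Gm (τ (a i)) k l) ⊗ₜ[C] (1 : C')) = _
  rw [Algebra.TensorProduct.tmul_mul_tmul, one_mul, mul_one]

end Main

section PartB

variable {A C C' : Type u} [CommRing A] [CommRing C] [CommRing C'] [Algebra C A] [Algebra C C']

open AlgebraicGeometry CategoryTheory.Limits in
theorem ker_nil [Algebra.IsIntegral C A] (hinj : Function.Injective (algebraMap C A)) (c : C')
    (hc : (1 : A) ⊗ₜ[C] c = 0) : IsNilpotent c := by
  rw [nilpotent_iff_mem_prime]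
  intro q' hq'
  have hker : RingHom.ker (algebraMap C A) ≤ q'.comap (algebraMap C C') := by
    rw [(RingHom.injective_iff_ker_eq_bot _).mp hinj]
    exact bot_le
  obtain ⟨Q, -, hQ, hQp⟩ :=
    Ideal.exists_ideal_over_prime_of_isIntegral (S := A)
      (q'.comap (algebraMap C C')) (⊥ : Ideal A) (by rwa [← RingHom.ker_eq_comap_bot])
  let x : Spec (CommRingCat.of A) := ⟨Q, hQ⟩
  let y : Spec (CommRingCat.of C') := ⟨q', hq'⟩
  have hxy : Spec.map (CommRingCat.ofHom (algebraMap C A)) x =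
      Spec.map (CommRingCat.ofHom (algebraMap C C')) y := by
    apply PrimeSpectrum.ext
    exact hQp
  obtain ⟨z, -, hz2⟩ := Scheme.Pullback.exists_preimage_pullback x y hxy
  let z' : Spec (CommRingCat.of (A ⊗[C] C')) := (pullbackSpecIso C A C').hom z
  have hz' : Spec.map (CommRingCat.ofHom
      (Algebra.TensorProduct.includeRight : C' →ₐ[C] A ⊗[C] C').toRingHom) z' = y := by
    have h' : ((pullbackSpecIso C A C').hom ≫ Spec.map (CommRingCat.ofHom
        (RingHomClass.toRingHom (Algebra.TensorProduct.includeRight : C' →ₐ[C] A ⊗[C] C')))) z =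
        (pullback.snd (Spec.map (CommRingCat.ofHom (algebraMap C A)))
          (Spec.map (CommRingCat.ofHom (algebraMap C C')))) z := by
      rw [pullbackSpecIso_hom_snd]
    exact h'.trans hz2
  have h1 : (Algebra.TensorProduct.includeRight : C' →ₐ[C] A ⊗[C] C') c ∈ z'.asIdeal := by
    have : (Algebra.TensorProduct.includeRight : C' →ₐ[C] A ⊗[C] C') c = 0 := hc
    rw [this]
    exact zero_mem _
  have h2 := congrArg PrimeSpectrum.asIdeal hz'
  have h3 : c ∈ (Spec.map (CommRingCat.ofHom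
      (Algebra.TensorProduct.includeRight : C' →ₐ[C] A ⊗[C] C').toRingHom) z').asIdeal := h1
  rw [h2] at h3
  exact h3

end PartB

section PartC

variable {A B C C' : Type u} [CommRing A] [CommRing B] [CommRing C] [CommRing C']
  [Algebra A B] [Algebra C A] [Algebra C B] [IsScalarTower C A B] [Algebra C C']

theorem partC [Module.Flat C C'] (τ : A →+* B)
    (hCτ : ∀ x : C, τ (algebraMap C A x) = algebraMap C B x)
    (hinjC : Function.Injective (algebraMap C A))
    (hC : ∀ a : A, algebraMap A B a = τ a → a ∈ Set.range (algebraMap C A))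
    (sT tT : A ⊗[C] C' →ₗ[C] B ⊗[C] C')
    (hs : ∀ a c, sT (a ⊗ₜ c) = algebraMap A B a ⊗ₜ c) (ht : ∀ a c, tT (a ⊗ₜ c) = τ a ⊗ₜ c) :
    Function.Injective (Algebra.TensorProduct.includeRight : C' →ₐ[C] A ⊗[C] C') ∧
      ∀ f : A ⊗[C] C', sT f = tT f →
        f ∈ Set.range (Algebra.TensorProduct.includeRight : C' →ₐ[C] A ⊗[C] C') := by
  let incl : C →ₗ[C] A := Algebra.linearMap C A
  let τl : A →ₗ[C] B :=
    { toFun := τ
      map_add' := map_add τ
      map_smul' := fun x a => by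
        simp only [RingHom.id_apply, Algebra.smul_def, map_mul, hCτ] }
  let δ : A →ₗ[C] B := (IsScalarTower.toAlgHom C A B).toLinearMap - τl
  have hδ : ∀ a, δ a = algebraMap A B a - τ a := fun a => rfl
  have hex : Function.Exact incl δ := by
    intro a
    rw [hδ, sub_eq_zero]
    constructor
    · intro h
      exact hC a h
    · rintro ⟨x, rfl⟩
      change algebraMap A B (algebraMap C A x) = τ (algebraMap C A x)
      rw [hCτ, ← IsScalarTower.algebraMap_apply]
  have hex' := Module.Flat.rTensor_exact C' hex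
  have hδT : δ.rTensor C' = sT - tT := by
    refine TensorProduct.ext' fun a c => ?_
    rw [LinearMap.rTensor_tmul]
    change δ a ⊗ₜ[C] c = sT (a ⊗ₜ c) - tT (a ⊗ₜ c)
    rw [hs, ht, hδ, TensorProduct.sub_tmul]
  have hrange : ∀ g : C ⊗[C] C', incl.rTensor C' g ∈
      Set.range (Algebra.TensorProduct.includeRight : C' →ₐ[C] A ⊗[C] C') := by
    intro g
    induction g using TensorProduct.induction_on with
    | zero => exact ⟨0, by simp⟩
    | tmul x c' =>
      refine ⟨x • c', ?_⟩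
      rw [LinearMap.rTensor_tmul]
      change (1 : A) ⊗ₜ[C] (x • c') = (algebraMap C A x) ⊗ₜ[C] c'
      rw [Algebra.algebraMap_eq_smul_one, TensorProduct.smul_tmul]
    | add g₁ g₂ h₁ h₂ =>
      obtain ⟨c₁, h₁⟩ := h₁
      obtain ⟨c₂, h₂⟩ := h₂
      exact ⟨c₁ + c₂, by rw [map_add, map_add, h₁, h₂]⟩
  constructor
  · have hinjT : Function.Injective (incl.rTensor C') :=
      Module.Flat.rTensor_preserves_injective_linearMap incl hinjC
    intro c₁ c₂ h12
    have e : ∀ c' : C', (Algebra.TensorProduct.includeRight : C' →ₐ[C] A ⊗[C] C') c' =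
        incl.rTensor C' ((TensorProduct.lid C C').symm c') := by
      intro c'
      rw [TensorProduct.lid_symm_apply, LinearMap.rTensor_tmul]
      change (1 : A) ⊗ₜ[C] c' = (algebraMap C A 1) ⊗ₜ[C] c'
      rw [map_one]
    rw [e, e] at h12
    exact (TensorProduct.lid C C').symm.injective (hinjT h12)
  · intro f hf
    have h0 : δ.rTensor C' f = 0 := by
      rw [hδT, LinearMap.sub_apply, hf, sub_self]
    obtain ⟨g, rfl⟩ := (hex' f).mp h0
    exact hrange g

end PartC

end Groth.Agent.Helper8.InvBC
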