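import Mathlib
import Groth.Prelude.Def_Grpd
import Groth.Agent.Helper8.GrpdNormA
import Groth.Agent.Helper8.InvBC2

/-!
# Base change of the ring of invariants of a finite locally free affine groupoid
-/

set_option autoImplicit false

namespace Groth.Agent.Helper8.InvBC

open CategoryTheory CategoryTheory.Limits AlgebraicGeometry Grpd TensorProduct
open Groth.Agent.Helper8

universe u

variable {S : Scheme.{u}} (G : Grpd.GroupoidScheme S)

theorem s_appTop_injective : Function.Injective G.s.appTop.hom := by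
  have h : G.s.appTop ≫ G.e.appTop = 𝟙 _ := by
    rw [← Scheme.Hom.comp_appTop, G.e_s]
    rfl
  intro a b hab
  have h1 := congrArg (fun φ => φ.hom a) h
  have h2 := congrArg (fun φ => φ.hom b) h
  simp only [CommRingCat.hom_comp, RingHom.comp_apply, CommRingCat.hom_id, RingHom.id_apply] at h1 h2
  rw [← h1, ← h2, hab]

theorem main [IsAffine G.U] [IsAffine G.R] [IsFinite G.s] [Flat G.s]
    [LocallyOfFinitePresentation G.s] [IsFinite G.t] [Flat G.t] [LocallyOfFinitePresentation G.t]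
    (C' : Type u) [CommRing C'] [Algebra G.invariants C'] :
    letI : Algebra G.invariants Γ(G.R, ⊤) :=
      (G.s.appTop.hom.comp G.invariants.subtype).toAlgebra
    ∀ (sT tT : TensorProduct G.invariants Γ(G.U, ⊤) C' →ₐ[G.invariants]
      TensorProduct G.invariants Γ(G.R, ⊤) C'),
      (∀ (a : Γ(G.U, ⊤)) (c : C'), sT (a ⊗ₜ c) = G.s.appTop.hom a ⊗ₜ c) →
      (∀ (a : Γ(G.U, ⊤)) (c : C'), tT (a ⊗ₜ c) = G.t.appTop.hom a ⊗ₜ c) →
      (∀ f : TensorProduct G.invariants Γ(G.U, ⊤) C', sT f = tT f →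
        ∃ (n : ℕ) (P : Polynomial C'), 0 < n ∧
          Polynomial.map (Algebra.TensorProduct.includeRight :
            C' →ₐ[G.invariants] TensorProduct G.invariants Γ(G.U, ⊤) C').toRingHom P =
          (Polynomial.X - Polynomial.C f) ^ n) ∧
      (∀ c : C', (Algebra.TensorProduct.includeRight :
          C' →ₐ[G.invariants] TensorProduct G.invariants Γ(G.U, ⊤) C') c = 0 → IsNilpotent c) ∧
      (Module.Flat G.invariants C' →
        Function.Injective (Algebra.TensorProduct.includeRight :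
          C' →ₐ[G.invariants] TensorProduct G.invariants Γ(G.U, ⊤) C') ∧
        ∀ f : TensorProduct G.invariants Γ(G.U, ⊤) C', sT f = tT f →
          f ∈ Set.range (Algebra.TensorProduct.includeRight :
            C' →ₐ[G.invariants] TensorProduct G.invariants Γ(G.U, ⊤) C')) := by
  letI algC : Algebra G.invariants Γ(G.R, ⊤) :=
    (G.s.appTop.hom.comp G.invariants.subtype).toAlgebra
  intro sT tT hs ht
  letI algA : Algebra Γ(G.U, ⊤) Γ(G.R, ⊤) := G.s.appTop.hom.toAlgebra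
  haveI : IsScalarTower G.invariants Γ(G.U, ⊤) Γ(G.R, ⊤) := IsScalarTower.of_algebraMap_eq' rfl
  letI : Algebra Γ(G.R, ⊤) Γ(pullback G.s G.t, ⊤) := (pullback.snd G.s G.t).appTop.hom.toAlgebra
  haveI : Module.Finite Γ(G.U, ⊤) Γ(G.R, ⊤) := GrpdNormA.finite_s G
  haveI : Module.Projective Γ(G.U, ⊤) Γ(G.R, ⊤) := GrpdNormA.projective_s G
  haveI : Algebra.IsIntegral G.invariants Γ(G.U, ⊤) := GrpdNormA.isIntegral G
  have hCmem : ∀ a : Γ(G.U, ⊤), algebraMap Γ(G.U, ⊤) Γ(G.R, ⊤) a = G.t.appTop.hom a →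
      a ∈ Set.range (algebraMap G.invariants Γ(G.U, ⊤)) := fun a h => ⟨⟨a, h⟩, rfl⟩
  have hinjC : Function.Injective (algebraMap G.invariants Γ(G.U, ⊤)) := Subtype.val_injective
  refine ⟨?_, ?_, ?_⟩
  · intro f hf
    obtain ⟨Sf, hSf⟩ := TensorProduct.exists_finset f
    have hf' : f = ∑ i : Sf, i.1.1 ⊗ₜ[G.invariants] i.1.2 := by
      rw [hSf]
      exact (Finset.sum_coe_sort Sf (fun i => i.1 ⊗ₜ[G.invariants] i.2)).symm
    have hst : ∑ i : Sf, algebraMap Γ(G.U, ⊤) Γ(G.R, ⊤) i.1.1 ⊗ₜ[G.invariants] i.1.2 =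
        ∑ i : Sf, G.t.appTop.hom i.1.1 ⊗ₜ[G.invariants] i.1.2 := by
      have h1 : sT f = ∑ i : Sf, algebraMap Γ(G.U, ⊤) Γ(G.R, ⊤) i.1.1 ⊗ₜ[G.invariants] i.1.2 := by
        rw [hf', map_sum]
        exact Finset.sum_congr rfl fun i _ => hs _ _
      have h2 : tT f = ∑ i : Sf, G.t.appTop.hom i.1.1 ⊗ₜ[G.invariants] i.1.2 := by
        rw [hf', map_sum]
        exact Finset.sum_congr rfl fun i _ => ht _ _
      rw [← h1, ← h2, hf]
    obtain ⟨N, Q, hN, hQ⟩ := partA (C := G.invariants) (C' := C') G.t.appTop.hom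
      (pullback.fst G.s G.t).appTop.hom G.c.appTop.hom (GrpdNormA.isPushout₁ G)
      (GrpdNormA.isPushout₂ G) (GrpdNormA.fst_t_eq_c_t G) (s_appTop_injective G) hCmem
      (fun i : Sf => i.1.1) (fun i : Sf => i.1.2) hst
    refine ⟨N, Q, hN, ?_⟩
    rw [hQ, ← hf']
  · intro c hc
    exact ker_nil (A := Γ(G.U, ⊤)) (C := G.invariants) hinjC c hc
  · intro hflat
    exact partC (A := Γ(G.U, ⊤)) (B := Γ(G.R, ⊤)) (C := G.invariants) (C' := C') G.t.appTop.hom
      (fun x => x.2.symm) hinjC hCmem sT.toLinearMap tT.toLinearMap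
      (fun a c => hs a c) (fun a c => ht a c)

end Groth.Agent.Helper8.InvBC
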