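import Groth.Agent.Helper8.HilbFin5
import Groth.Agent.Helper9.LRint

set_option autoImplicit false
set_option linter.unusedSectionVars false
universe u v w

namespace Groth.Agent.Helper8.InvFT

open TensorProduct

section
variable (k : Type u) [Field k] (H : Type v) [CommRing H] [HopfAlgebra k H]
  (A : Type w) [CommRing A] [Algebra k A] [HopfRep.Comod k H A] [GLin.IsCoactAlg k H A]

/-- `A ⊗ H` with `G` acting on the second factor only, as an algebra over `A` through the coaction -/
def Cρ : Type (max w v) := A ⊗[k] H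

noncomputable instance : CommRing (Cρ k H A) := inferInstanceAs (CommRing (A ⊗[k] H))
noncomputable instance : Algebra k (Cρ k H A) := inferInstanceAs (Algebra k (A ⊗[k] H))

noncomputable instance instComodCρ : HopfRep.Comod k H (Cρ k H A) := Hoch.Ind.comod k H A

/-- the coaction of `Cρ` as an algebra map -/
noncomputable def coactAlg : A ⊗[k] H →ₐ[k] (A ⊗[k] H) ⊗[k] H :=
  (Algebra.TensorProduct.assoc k k k A H H).symm.toAlgHom.comp
    (Algebra.TensorProduct.map (AlgHom.id k A) (Bialgebra.comulAlgHom k H))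

theorem coact_eq (x : Cρ k H A) :
    HopfRep.Comod.coact (k := k) (A := H) x = coactAlg k H A x := rfl

instance : GLin.IsCoactAlg k H (Cρ k H A) where
  coact_one := by
    rw [coact_eq]
    exact map_one (coactAlg k H A)
  coact_mul := by
    intro f g
    rw [coact_eq, coact_eq, coact_eq]
    exact map_mul (coactAlg k H A) f g

noncomputable instance instAlgCρ : Algebra A (Cρ k H A) :=
  (GLin.coactAlgHom k H A).toRingHom.toAlgebra

theorem algebraMap_Cρ (a : A) :
    algebraMap A (Cρ k H A) a = HopfRep.Comod.coact (k := k) (A := H) a := rfl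

instance : IsScalarTower k A (Cρ k H A) :=
  IsScalarTower.of_algebraMap_eq (fun r => by
    rw [algebraMap_Cρ]
    exact ((GLin.coactAlgHom k H A).commutes r).symm)

theorem coact_tmul (a : A) (h : H) :
    HopfRep.Comod.coact (k := k) (A := H) (V := Cρ k H A) (a ⊗ₜ[k] h : A ⊗[k] H) =
      (TensorProduct.assoc k A H H).symm (a ⊗ₜ[k] Coalgebra.comul (R := k) h) := rfl

theorem coact_def (z : A ⊗[k] H) :
    HopfRep.Comod.coact (k := k) (A := H) (V := Cρ k H A) z =
      (TensorProduct.assoc k A H H).symm ((Coalgebra.comul (R := k) (A := H)).lTensor A z) := rfl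

/-- the structure map `A → Cρ` is equivariant -/
theorem isComodHom_algebraMap :
    Hoch.IsComodHom H (IsScalarTower.toAlgHom k A (Cρ k H A)).toLinearMap := by
  apply LinearMap.ext
  intro a
  simp only [LinearMap.comp_apply, AlgHom.toLinearMap_apply, IsScalarTower.coe_toAlgHom',
    algebraMap_Cρ]
  have h := LinearMap.congr_fun (HopfRep.Comod.coassoc (k := k) (A := H) (V := A)) a
  simp only [LinearMap.comp_apply, LinearEquiv.coe_coe] at h
  rw [coact_def, ← h, LinearEquiv.symm_apply_apply]
  rfl

/-- the coaction of `Cρ` on the underlying tensor product -/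
noncomputable def coactT : A ⊗[k] H →ₗ[k] (A ⊗[k] H) ⊗[k] H :=
  (TensorProduct.assoc k A H H).symm.toLinearMap ∘ₗ (Coalgebra.comul (R := k) (A := H)).lTensor A

/-- `(a ⊗ h) ↦ ε(h) a` -/
noncomputable def eps : A ⊗[k] H →ₗ[k] A :=
  (TensorProduct.rid k A).toLinearMap ∘ₗ (Coalgebra.counit (R := k) (A := H)).lTensor A

theorem eps_coactT (z : A ⊗[k] H) : (eps k H A).rTensor H (coactT k H A z) = z := by
  induction z using TensorProduct.induction_on with
  | zero => simp
  | tmul a h =>
    have h1 := Coalgebra.rTensor_counit_comul (R := k) h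
    have h3 : ∀ w : H ⊗[k] H, (eps k H A).rTensor H ((TensorProduct.assoc k A H H).symm (a ⊗ₜ[k] w)) =
        a ⊗ₜ[k] (TensorProduct.lid k H ((Coalgebra.counit (R := k) (A := H)).rTensor H w)) := by
      intro w
      induction w using TensorProduct.induction_on with
      | zero => simp
      | tmul x y => simp [eps, TensorProduct.smul_tmul]
      | add x y hx hy => simp only [TensorProduct.tmul_add, map_add, hx, hy]
    simp only [coactT, LinearMap.comp_apply, LinearMap.lTensor_tmul, LinearEquiv.coe_coe]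
    rw [h3, h1]
    simp
  | add x y hx hy => simp only [map_add, hx, hy]

/-- invariants of `Cρ` are the constants `a ⊗ 1` -/
theorem mem_invariants_iff (z : A ⊗[k] H) :
    (z : Cρ k H A) ∈ GLin.invariants k H (Cρ k H A) ↔ ∃ a : A, z = a ⊗ₜ[k] (1 : H) := by
  constructor
  · intro hc
    have hc' : coactT k H A z = z ⊗ₜ[k] (1 : H) := hc
    refine ⟨eps k H A z, ?_⟩
    have := eps_coactT k H A z
    rw [hc', LinearMap.rTensor_tmul] at this
    exact this.symm
  · rintro ⟨a, rfl⟩
    show coactT k H A (a ⊗ₜ[k] (1 : H)) = _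
    simp only [coactT, LinearMap.comp_apply, LinearMap.lTensor_tmul, LinearEquiv.coe_coe,
      Bialgebra.comul_one]
    rfl

/-- `y ⊗ h ↦ y * (1 ⊗ S h)` -/
noncomputable def Psi' : (A ⊗[k] H) ⊗[k] H →ₗ[k] A ⊗[k] H :=
  TensorProduct.lift
    ((LinearMap.mul k (A ⊗[k] H)).compl₂
      ((Algebra.TensorProduct.includeRight : H →ₐ[k] A ⊗[k] H).toLinearMap ∘ₗ HopfAlgebra.antipode k))

theorem Psi'_tmul (y : A ⊗[k] H) (h : H) :
    Psi' k H A (y ⊗ₜ[k] h) = y * ((1 : A) ⊗ₜ[k] HopfAlgebra.antipode k h) := rfl

theorem Psi'_assoc (a : A) (w : H ⊗[k] H) :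
    Psi' k H A ((TensorProduct.assoc k A H H).symm (a ⊗ₜ[k] w)) =
      a ⊗ₜ[k] (LinearMap.mul' k H ((HopfAlgebra.antipode k).lTensor H w)) := by
  induction w using TensorProduct.induction_on with
  | zero => simp
  | tmul x y => simp [Psi'_tmul]
  | add x y hx hy => simp only [TensorProduct.tmul_add, map_add, hx, hy]

theorem Psi'_coact (a : A) :
    Psi' k H A ((HopfRep.Comod.coact (k := k) (A := H) (V := A)).rTensor H
      (HopfRep.Comod.coact (k := k) (A := H) a)) = a ⊗ₜ[k] (1 : H) := by
  have h := LinearMap.congr_fun (HopfRep.Comod.coassoc (k := k) (A := H) (V := A)) a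
  simp only [LinearMap.comp_apply, LinearEquiv.coe_coe] at h
  have h' : (HopfRep.Comod.coact (k := k) (A := H) (V := A)).rTensor H
      (HopfRep.Comod.coact (k := k) (A := H) a) = (TensorProduct.assoc k A H H).symm
        ((Coalgebra.comul (R := k) (A := H)).lTensor A (HopfRep.Comod.coact (k := k) (A := H) a)) := by
    rw [← h, LinearEquiv.symm_apply_apply]
  rw [h']
  have hc := LinearMap.congr_fun (HopfRep.Comod.counit_comp (k := k) (A := H) (V := A)) a
  simp only [LinearMap.comp_apply, LinearMap.flip_apply, TensorProduct.mk_apply] at hc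
  have key : ∀ z : A ⊗[k] H, Psi' k H A ((TensorProduct.assoc k A H H).symm
      ((Coalgebra.comul (R := k) (A := H)).lTensor A z)) =
      (TensorProduct.rid k A ((Coalgebra.counit (R := k) (A := H)).lTensor A z)) ⊗ₜ[k] (1 : H) := by
    intro z
    induction z using TensorProduct.induction_on with
    | zero => simp
    | tmul a' h' =>
      rw [LinearMap.lTensor_tmul, Psi'_assoc, HopfAlgebra.mul_antipode_lTensor_comul_apply]
      simp [Algebra.algebraMap_eq_smul_one, TensorProduct.smul_tmul]
    | add x y hx hy => simp only [map_add, hx, hy, TensorProduct.add_tmul]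
  rw [key, hc]
  simp

/-- `A ⊗ H` is generated by `ρ(A)` and `1 ⊗ t` -/
theorem mem_adjoin_pure (t : Finset H) (ht : Algebra.adjoin k (t : Set H) = ⊤) (z : A ⊗[k] H) :
    z ∈ Algebra.adjoin k
      (Set.range (fun a : A => (HopfRep.Comod.coact (k := k) (A := H) a : A ⊗[k] H)) ∪
        (fun h : H => ((1 : A) ⊗ₜ[k] h : A ⊗[k] H)) '' (t : Set H)) := by
  set B := Algebra.adjoin k
      (Set.range (fun a : A => (HopfRep.Comod.coact (k := k) (A := H) a : A ⊗[k] H)) ∪
        (fun h : H => ((1 : A) ⊗ₜ[k] h : A ⊗[k] H)) '' (t : Set H)) with hB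
  have h1 : ∀ h : H, ((1 : A) ⊗ₜ[k] h : A ⊗[k] H) ∈ B := by
    intro h
    have hmem : h ∈ Algebra.adjoin k (t : Set H) := by rw [ht]; trivial
    induction hmem using Algebra.adjoin_induction with
    | mem x hx =>
      apply Algebra.subset_adjoin
      right
      exact ⟨x, hx, rfl⟩
    | algebraMap r =>
      have : ((1 : A) ⊗ₜ[k] algebraMap k H r : A ⊗[k] H) = algebraMap k (A ⊗[k] H) r := by
        rw [Algebra.algebraMap_eq_smul_one, TensorProduct.tmul_smul]
        rw [Algebra.algebraMap_eq_smul_one]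
        rfl
      rw [this]
      exact Subalgebra.algebraMap_mem B r
    | add x y _ _ hx hy =>
      rw [TensorProduct.tmul_add]
      exact B.add_mem hx hy
    | mul x y _ _ hx hy =>
      have : ((1 : A) ⊗ₜ[k] (x * y) : A ⊗[k] H) =
          ((1 : A) ⊗ₜ[k] x : A ⊗[k] H) * ((1 : A) ⊗ₜ[k] y : A ⊗[k] H) := by
        rw [Algebra.TensorProduct.tmul_mul_tmul, one_mul]
      rw [this]
      exact B.mul_mem hx hy
  have h2 : ∀ y : A ⊗[k] H, Psi' k H A
      ((HopfRep.Comod.coact (k := k) (A := H) (V := A)).rTensor H y) ∈ B := by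
    intro y
    induction y using TensorProduct.induction_on with
    | zero => simp
    | tmul x h =>
      rw [LinearMap.rTensor_tmul, Psi'_tmul]
      exact B.mul_mem (Algebra.subset_adjoin (Or.inl ⟨x, rfl⟩)) (h1 _)
    | add x y hx hy =>
      rw [map_add, map_add]
      exact B.add_mem hx hy
  have h3 : ∀ a : A, (a ⊗ₜ[k] (1 : H) : A ⊗[k] H) ∈ B := by
    intro a
    rw [← Psi'_coact]
    exact h2 _
  induction z using TensorProduct.induction_on with
  | zero => exact B.zero_mem
  | tmul a h =>
    have : (a ⊗ₜ[k] h : A ⊗[k] H) = (a ⊗ₜ[k] (1 : H) : A ⊗[k] H) * ((1 : A) ⊗ₜ[k] h : A ⊗[k] H) := by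
      rw [Algebra.TensorProduct.tmul_mul_tmul, one_mul, mul_one]
    rw [this]
    exact B.mul_mem (h3 a) (h1 h)
  | add x y hx hy => exact B.add_mem hx hy

/-- the identity map, to move between the synonym and the tensor product -/
def ofT : A ⊗[k] H → Cρ k H A := fun x => x

theorem finiteType_Cρ [Algebra.FiniteType k H] : Algebra.FiniteType A (Cρ k H A) := by
  classical
  obtain ⟨t, ht⟩ := (Algebra.FiniteType.out : (⊤ : Subalgebra k H).FG)
  refine ⟨⟨t.image (fun h => ofT k H A ((1 : A) ⊗ₜ[k] h)), ?_⟩⟩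
  rw [eq_top_iff]
  intro z _
  set B : Subalgebra A (Cρ k H A) :=
    Algebra.adjoin A (↑(t.image (fun h => ofT k H A ((1 : A) ⊗ₜ[k] h))) : Set (Cρ k H A)) with hB
  have hz := mem_adjoin_pure k H A t ht z
  have key : ∀ x : A ⊗[k] H, x ∈ Algebra.adjoin k
      (Set.range (fun a : A => (HopfRep.Comod.coact (k := k) (A := H) a : A ⊗[k] H)) ∪
        (fun h : H => ((1 : A) ⊗ₜ[k] h : A ⊗[k] H)) '' (t : Set H)) → ofT k H A x ∈ B := by
    intro x hx
    induction hx using Algebra.adjoin_induction with
    | mem x hx =>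
      rcases hx with ⟨a, rfl⟩ | ⟨h, hh, rfl⟩
      · exact Subalgebra.algebraMap_mem B a
      · apply Algebra.subset_adjoin
        simp only [Finset.coe_image, Set.mem_image, Finset.mem_coe]
        exact ⟨h, hh, rfl⟩
    | algebraMap r => exact Subalgebra.algebraMap_mem (B.restrictScalars k) r
    | add x y _ _ hx hy => exact B.add_mem hx hy
    | mul x y _ _ hx hy => exact B.mul_mem hx hy
  exact key z hz

/-- `a ⊗ h ↦ ε(h) a`, as an algebra map -/
noncomputable def epsAlg : A ⊗[k] H →ₐ[k] A :=
  (Algebra.TensorProduct.rid k k A).toAlgHom.comp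
    (Algebra.TensorProduct.map (AlgHom.id k A) (Bialgebra.counitAlgHom k H))

theorem epsAlg_tmul (a : A) (h : H) :
    epsAlg k H A (a ⊗ₜ[k] h) = Coalgebra.counit (R := k) h • a := by
  simp [epsAlg]

theorem epsAlg_coact (a : A) :
    epsAlg k H A (HopfRep.Comod.coact (k := k) (A := H) a) = a := by
  have hc := LinearMap.congr_fun (HopfRep.Comod.counit_comp (k := k) (A := H) (V := A)) a
  simp only [LinearMap.comp_apply, LinearMap.flip_apply, TensorProduct.mk_apply] at hc
  have key : ∀ z : A ⊗[k] H, epsAlg k H A z =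
      TensorProduct.rid k A ((Coalgebra.counit (R := k) (A := H)).lTensor A z) := by
    intro z
    induction z using TensorProduct.induction_on with
    | zero => simp
    | tmul a h => simp [epsAlg_tmul]
    | add x y hx hy => simp only [map_add, hx, hy]
  rw [key, hc]
  simp

theorem main [Algebra.FiniteType k H] (hG : HopfRep.IsLinearlyReductive k H) [IsNoetherianRing A] :
    Algebra.FiniteType ↥(GLin.invariants k H A) A := by
  classical
  obtain ⟨α, hα, h1⟩ := Groth.Agent.Helper9.exists_integral hG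
  haveI : Algebra.FiniteType A (Cρ k H A) := finiteType_Cρ k H A
  obtain ⟨s, hs⟩ := Groth.Agent.Helper8.HilbFin.mainU k H A (Cρ k H A) α hα h1
    (isComodHom_algebraMap k H A)
  refine ⟨⟨s.image (fun x : Cρ k H A => epsAlg k H A x), ?_⟩⟩
  rw [eq_top_iff]
  intro a _
  set B : Subalgebra (GLin.invariants k H A) A :=
    Algebra.adjoin (GLin.invariants k H A) (↑(s.image (fun x : Cρ k H A => epsAlg k H A x)) : Set A)
    with hB
  have hmem : ofT k H A (a ⊗ₜ[k] (1 : H)) ∈ GLin.invariants k H (Cρ k H A) :=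
    (mem_invariants_iff k H A _).mpr ⟨a, rfl⟩
  rw [hs] at hmem
  have key : ∀ x : Cρ k H A, x ∈ Algebra.adjoin k
      (⇑(algebraMap A (Cρ k H A)) '' ↑(GLin.invariants k H A) ∪ (↑s : Set (Cρ k H A))) →
      epsAlg k H A x ∈ B := by
    intro x hx
    induction hx using Algebra.adjoin_induction with
    | mem x hx =>
      rcases hx with ⟨b, hb, rfl⟩ | hxs
      · rw [algebraMap_Cρ, epsAlg_coact]
        exact Subalgebra.algebraMap_mem B ⟨b, hb⟩
      · apply Algebra.subset_adjoin
        simp only [Finset.coe_image, Set.mem_image, Finset.mem_coe]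
        exact ⟨x, hxs, rfl⟩
    | algebraMap r =>
      have : epsAlg k H A (algebraMap k (Cρ k H A) r) = algebraMap k A r :=
        (epsAlg k H A).commutes r
      rw [this]
      exact Subalgebra.algebraMap_mem (B.restrictScalars k) r
    | add x y _ _ hx hy =>
      have : epsAlg k H A (x + y) = epsAlg k H A x + epsAlg k H A y := map_add (epsAlg k H A) x y
      rw [this]
      exact B.add_mem hx hy
    | mul x y _ _ hx hy =>
      have : epsAlg k H A (x * y) = epsAlg k H A x * epsAlg k H A y := map_mul (epsAlg k H A) x y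
      rw [this]
      exact B.mul_mem hx hy
  have := key _ hmem
  have e : epsAlg k H A (ofT k H A (a ⊗ₜ[k] (1 : H))) = a := by
    show epsAlg k H A (a ⊗ₜ[k] (1 : H)) = a
    rw [epsAlg_tmul, Bialgebra.counit_one, one_smul]
  rw [e] at this
  exact this

end

end Groth.Agent.Helper8.InvFT
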