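import Mathlib.RingTheory.MvPolynomial.Basic
import Mathlib.RingTheory.Ideal.Span
import Mathlib.Data.ZMod.Basic
import Mathlib.Tactic.Ring
import Mathlib.Algebra.Ring.GeomSum
import Mathlib.Tactic.Linarith
import Mathlib.Tactic.LinearCombination

set_option autoImplicit false

namespace Groth.Agent.Helper8.InvHilb

open MvPolynomial

section
variable {k : Type*} [Field k]

/-- same `n`, same `c`: the two monomials agree modulo `X₀^(q-p) - X₁X₂` -/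
theorem core (p q : ℕ) (hpq : p < q) (d0 d1 d2 e0 e1 e2 : ℕ)
    (hn : (e0 : ℤ) - (p : ℤ) * e1 + (q : ℤ) * e2 = (d0 : ℤ) - (p : ℤ) * d1 + (q : ℤ) * d2)
    (hc : (d1 : ℤ) - d2 = (e1 : ℤ) - e2) :
    (X (0 : Fin 3) ^ (q - p) - X (1 : Fin 3) * X (2 : Fin 3) : MvPolynomial (Fin 3) k) ∣
      X (0 : Fin 3) ^ d0 * X (1 : Fin 3) ^ d1 * X (2 : Fin 3) ^ d2 -
        X (0 : Fin 3) ^ e0 * X (1 : Fin 3) ^ e1 * X (2 : Fin 3) ^ e2 := by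
  have hqp : ((q - p : ℕ) : ℤ) = (q : ℤ) - p := Nat.cast_sub hpq.le
  -- one direction, then symmetry
  have key : ∀ (d0 d1 d2 e0 e1 e2 : ℕ),
      (e0 : ℤ) - (p : ℤ) * e1 + (q : ℤ) * e2 = (d0 : ℤ) - (p : ℤ) * d1 + (q : ℤ) * d2 →
      (d1 : ℤ) - d2 = (e1 : ℤ) - e2 → e1 ≤ d1 →
      (X (0 : Fin 3) ^ (q - p) - X (1 : Fin 3) * X (2 : Fin 3) : MvPolynomial (Fin 3) k) ∣
        X (0 : Fin 3) ^ d0 * X (1 : Fin 3) ^ d1 * X (2 : Fin 3) ^ d2 -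
          X (0 : Fin 3) ^ e0 * X (1 : Fin 3) ^ e1 * X (2 : Fin 3) ^ e2 := by
    intro d0 d1 d2 e0 e1 e2 hn hc hle
    obtain ⟨t, rfl⟩ : ∃ t, d1 = e1 + t := ⟨d1 - e1, by omega⟩
    have hd2 : d2 = e2 + t := by push_cast at hc; omega
    subst hd2
    have he0 : e0 = d0 + (q - p) * t := by
      have : (e0 : ℤ) = d0 + ((q - p : ℕ) : ℤ) * t := by
        rw [hqp]; push_cast at hn; linarith
      exact_mod_cast this
    subst he0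
    have h1 := sub_dvd_pow_sub_pow (X (0 : Fin 3) ^ (q - p) : MvPolynomial (Fin 3) k)
      (X (1 : Fin 3) * X (2 : Fin 3)) t
    have h2 : (X (0 : Fin 3) ^ d0 * X (1 : Fin 3) ^ (e1 + t) * X (2 : Fin 3) ^ (e2 + t) -
        X (0 : Fin 3) ^ (d0 + (q - p) * t) * X (1 : Fin 3) ^ e1 * X (2 : Fin 3) ^ e2 :
          MvPolynomial (Fin 3) k) =
        -(X (0 : Fin 3) ^ d0 * X (1 : Fin 3) ^ e1 * X (2 : Fin 3) ^ e2) *
          ((X (0 : Fin 3) ^ (q - p)) ^ t - (X (1 : Fin 3) * X (2 : Fin 3)) ^ t) := by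
      rw [pow_add, pow_add, pow_add, pow_mul, mul_pow]
      ring
    rw [h2]
    exact Dvd.dvd.mul_left h1 _
  rcases le_total e1 d1 with h | h
  · exact key d0 d1 d2 e0 e1 e2 hn hc h
  · have := key e0 e1 e2 d0 d1 d2 hn.symm hc.symm h
    have hsw : (X (0 : Fin 3) ^ d0 * X (1 : Fin 3) ^ d1 * X (2 : Fin 3) ^ d2 -
        X (0 : Fin 3) ^ e0 * X (1 : Fin 3) ^ e1 * X (2 : Fin 3) ^ e2 : MvPolynomial (Fin 3) k) =
        -(X (0 : Fin 3) ^ e0 * X (1 : Fin 3) ^ e1 * X (2 : Fin 3) ^ e2 -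
          X (0 : Fin 3) ^ d0 * X (1 : Fin 3) ^ d1 * X (2 : Fin 3) ^ d2) := (neg_sub _ _).symm
    rw [hsw]
    exact (dvd_neg.mpr this)

theorem main15738 (p q m : ℕ) (hp : 0 < p) (hpq : p < q) (hm : 0 < m)
    (d0 d1 d2 e0 e1 e2 : ℕ)
    (hn : (e0 : ℤ) - (p : ℤ) * e1 + (q : ℤ) * e2 = (d0 : ℤ) - (p : ℤ) * d1 + (q : ℤ) * d2)
    (hc : (m : ℤ) ∣ ((d1 : ℤ) - d2) - ((e1 : ℤ) - e2)) :
    ((d1 : ℤ) - d2 = (e1 : ℤ) - e2 →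
      (X (0 : Fin 3) ^ d0 * X (1 : Fin 3) ^ d1 * X (2 : Fin 3) ^ d2 - X (0 : Fin 3) ^ e0 * X (1 : Fin 3) ^ e1 * X (2 : Fin 3) ^ e2 : MvPolynomial (Fin 3) k) ∈ Ideal.span {X (0 : Fin 3) ^ (q - p) - X (1 : Fin 3) * X (2 : Fin 3)}) ∧
    ((e1 : ℤ) - e2 < (d1 : ℤ) - d2 →
      (X (0 : Fin 3) ^ d0 * X (1 : Fin 3) ^ d1 * X (2 : Fin 3) ^ d2 : MvPolynomial (Fin 3) k) ∈ Ideal.span {X (0 : Fin 3) ^ (q - p) - X (1 : Fin 3) * X (2 : Fin 3), X (0 : Fin 3) ^ (m * p) * X (1 : Fin 3) ^ m}) ∧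
    ((X (0 : Fin 3) ^ d0 * X (1 : Fin 3) ^ d1 * X (2 : Fin 3) ^ d2 - X (0 : Fin 3) ^ e0 * X (1 : Fin 3) ^ e1 * X (2 : Fin 3) ^ e2 : MvPolynomial (Fin 3) k) ∈ Ideal.span {X (0 : Fin 3) ^ (q - p) - X (1 : Fin 3) * X (2 : Fin 3), 1 - X (0 : Fin 3) ^ (m * p) * X (1 : Fin 3) ^ m}) := by
  set f : MvPolynomial (Fin 3) k := X (0 : Fin 3) ^ (q - p) - X (1 : Fin 3) * X (2 : Fin 3) with hf
  set g : MvPolynomial (Fin 3) k := X (0 : Fin 3) ^ (m * p) * X (1 : Fin 3) ^ m with hg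
  -- shifting by `g ^ l`
  have shift : ∀ (d0 d1 d2 e0 e1 e2 : ℕ) (l : ℕ),
      (e0 : ℤ) - (p : ℤ) * e1 + (q : ℤ) * e2 = (d0 : ℤ) - (p : ℤ) * d1 + (q : ℤ) * d2 →
      ((d1 : ℤ) - d2) - ((e1 : ℤ) - e2) = (m : ℤ) * l →
      f ∣ X (0 : Fin 3) ^ d0 * X (1 : Fin 3) ^ d1 * X (2 : Fin 3) ^ d2 -
          X (0 : Fin 3) ^ e0 * X (1 : Fin 3) ^ e1 * X (2 : Fin 3) ^ e2 * g ^ l := by
    intro d0 d1 d2 e0 e1 e2 l hn hl
    have := core (k := k) p q hpq d0 d1 d2 (e0 + m * p * l) (e1 + m * l) e2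
      (by push_cast; linarith) (by push_cast; linarith)
    have h2 : (X (0 : Fin 3) ^ (e0 + m * p * l) * X (1 : Fin 3) ^ (e1 + m * l) * X (2 : Fin 3) ^ e2 :
        MvPolynomial (Fin 3) k) =
        X (0 : Fin 3) ^ e0 * X (1 : Fin 3) ^ e1 * X (2 : Fin 3) ^ e2 * g ^ l := by
      rw [hg, mul_pow, ← pow_mul, ← pow_mul, pow_add, pow_add]
      ring
    rwa [h2] at this
  refine ⟨fun h => Ideal.mem_span_singleton.mpr (core p q hpq d0 d1 d2 e0 e1 e2 hn h), ?_, ?_⟩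
  · intro hlt
    obtain ⟨l', hl'⟩ := hc
    have hl'pos : 0 < l' := by
      by_contra hneg
      have : l' ≤ 0 := not_lt.mp hneg
      have hm' : (0 : ℤ) < m := by exact_mod_cast hm
      nlinarith
    obtain ⟨l, rfl⟩ : ∃ l : ℕ, l' = l := ⟨l'.toNat, (Int.toNat_of_nonneg hl'pos.le).symm⟩
    have hl1 : 1 ≤ l := by exact_mod_cast hl'pos
    obtain ⟨w, hw⟩ := shift d0 d1 d2 e0 e1 e2 l hn hl'
    rw [Ideal.mem_span_pair]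
    obtain ⟨l₀, rfl⟩ : ∃ l₀, l = l₀ + 1 := ⟨l - 1, by omega⟩
    refine ⟨w, X (0 : Fin 3) ^ e0 * X (1 : Fin 3) ^ e1 * X (2 : Fin 3) ^ e2 * g ^ l₀, ?_⟩
    rw [pow_succ] at hw
    linear_combination -hw
  · -- general case
    have gen : ∀ (d0 d1 d2 e0 e1 e2 : ℕ) (l : ℕ),
        (e0 : ℤ) - (p : ℤ) * e1 + (q : ℤ) * e2 = (d0 : ℤ) - (p : ℤ) * d1 + (q : ℤ) * d2 →
        ((d1 : ℤ) - d2) - ((e1 : ℤ) - e2) = (m : ℤ) * l →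
        (X (0 : Fin 3) ^ d0 * X (1 : Fin 3) ^ d1 * X (2 : Fin 3) ^ d2 -
          X (0 : Fin 3) ^ e0 * X (1 : Fin 3) ^ e1 * X (2 : Fin 3) ^ e2 : MvPolynomial (Fin 3) k) ∈
          Ideal.span {f, 1 - g} := by
      intro d0 d1 d2 e0 e1 e2 l hn hl
      obtain ⟨w, hw⟩ := shift d0 d1 d2 e0 e1 e2 l hn hl
      obtain ⟨v, hv⟩ := sub_dvd_pow_sub_pow (1 : MvPolynomial (Fin 3) k) g l
      rw [one_pow] at hv
      rw [Ideal.mem_span_pair]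
      refine ⟨w, -(X (0 : Fin 3) ^ e0 * X (1 : Fin 3) ^ e1 * X (2 : Fin 3) ^ e2) * v, ?_⟩
      linear_combination -hw + (X (0 : Fin 3) ^ e0 * X (1 : Fin 3) ^ e1 * X (2 : Fin 3) ^ e2) * hv
    obtain ⟨l', hl'⟩ := hc
    rcases le_total 0 l' with h0 | h0
    · obtain ⟨l, rfl⟩ : ∃ l : ℕ, l' = l := ⟨l'.toNat, (Int.toNat_of_nonneg h0).symm⟩
      exact gen d0 d1 d2 e0 e1 e2 l hn hl'
    · obtain ⟨l, hl⟩ : ∃ l : ℕ, -l' = l := ⟨(-l').toNat, (Int.toNat_of_nonneg (by omega)).symm⟩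
      have := gen e0 e1 e2 d0 d1 d2 l hn.symm (by rw [← hl]; linarith)
      have hsw : (X (0 : Fin 3) ^ d0 * X (1 : Fin 3) ^ d1 * X (2 : Fin 3) ^ d2 -
          X (0 : Fin 3) ^ e0 * X (1 : Fin 3) ^ e1 * X (2 : Fin 3) ^ e2 : MvPolynomial (Fin 3) k) =
          -(X (0 : Fin 3) ^ e0 * X (1 : Fin 3) ^ e1 * X (2 : Fin 3) ^ e2 -
            X (0 : Fin 3) ^ d0 * X (1 : Fin 3) ^ d1 * X (2 : Fin 3) ^ d2) := (neg_sub _ _).symm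
      rw [hsw]
      exact (Ideal.neg_mem_iff _).mpr this

end

end Groth.Agent.Helper8.InvHilb
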