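import Groth.Agent.Helper8.InvHilb
import Mathlib.RingTheory.Coprime.Lemmas
import Mathlib.Algebra.Order.Group.Unbundled.Int

set_option autoImplicit false

namespace Groth.Agent.Helper8.InvHilb

open MvPolynomial

section
variable {k : Type*} [Field k]

/-- arithmetic core: from the weight relations, the exponents differ by a multiple of `(0, aq, ap)` -/
theorem arith (p q m : ℕ) (hp : 0 < p) (hpq : p < q) (hcop : Nat.Coprime p q) (hm : 0 < m)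
    (d0 d1 d2 e0 e1 e2 : ℕ)
    (hn : (e0 : ℤ) - (p : ℤ) * e1 + (q : ℤ) * e2 = (d0 : ℤ) - (p : ℤ) * d1 + (q : ℤ) * d2)
    (hcd : (m : ℤ) ∣ (d1 : ℤ) - d2) (hce : (m : ℤ) ∣ (e1 : ℤ) - e2)
    (hd0 : d0 < Nat.gcd m (q - p)) (he0 : e0 < Nat.gcd m (q - p)) :
    d0 = e0 ∧ ∃ x₂ : ℤ, ((d1 : ℤ) - d2) - ((e1 : ℤ) - e2) =
        ((m : ℤ) * ((q - p) / Nat.gcd m (q - p) : ℕ)) * x₂ ∧
      (e2 : ℤ) - d2 = -(((m / Nat.gcd m (q - p) : ℕ) : ℤ) * p * x₂) ∧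
      (e1 : ℤ) - d1 = -(((m / Nat.gcd m (q - p) : ℕ) : ℤ) * q * x₂) := by
  set g := Nat.gcd m (q - p) with hg
  set a := m / g with ha
  set b := (q - p) / g with hb
  have hgm : g ∣ m := Nat.gcd_dvd_left _ _
  have hgqp : g ∣ q - p := Nat.gcd_dvd_right _ _
  have hma : m = g * a := (Nat.mul_div_cancel' hgm).symm
  have hqpb : q - p = g * b := (Nat.mul_div_cancel' hgqp).symm
  have hgpos : 0 < g := Nat.gcd_pos_of_pos_left _ hm
  have hqp : ((q - p : ℕ) : ℤ) = (q : ℤ) - p := Nat.cast_sub hpq.le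
  have hqpZ : (q : ℤ) - p = (g : ℤ) * b := by rw [← hqp, hqpb]; push_cast; ring
  have hmZ : (m : ℤ) = (g : ℤ) * a := by rw [hma]; push_cast; ring
  set x : ℤ := ((d1 : ℤ) - d2) - ((e1 : ℤ) - e2) with hx
  -- the basic relation
  have hrel : (d0 : ℤ) - e0 = (p : ℤ) * x - ((q : ℤ) - p) * ((d2 : ℤ) - e2) := by
    rw [hx]; linarith
  have hmx : (m : ℤ) ∣ x := dvd_sub hcd hce
  have hgx : (g : ℤ) ∣ x := (Dvd.intro _ hmZ.symm).trans hmx
  have hd0e0 : (d0 : ℤ) - e0 = 0 := by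
    apply Int.eq_zero_of_abs_lt_dvd (m := (g : ℤ))
    · rw [hrel]
      exact dvd_sub (Dvd.dvd.mul_left hgx _) (Dvd.dvd.mul_right (Dvd.intro _ hqpZ.symm) _)
    · rw [abs_lt]
      constructor <;> · have : (d0 : ℤ) < g := by exact_mod_cast hd0
                        have : (e0 : ℤ) < g := by exact_mod_cast he0
                        omega
  have hde : d0 = e0 := by exact_mod_cast sub_eq_zero.mp hd0e0
  refine ⟨hde, ?_⟩
  rw [hd0e0] at hrel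
  -- `(q - p) ∣ x`
  have hcopZ : IsCoprime ((q : ℤ) - p) (p : ℤ) := by
    have h1 : Nat.Coprime p (q - p) := (Nat.coprime_sub_self_right hpq.le).mpr hcop
    have h2 := Nat.isCoprime_iff_coprime.mpr h1.symm
    rwa [hqp] at h2
  have hqx : ((q : ℤ) - p) ∣ x := by
    apply hcopZ.dvd_of_dvd_mul_left
    exact ⟨(d2 : ℤ) - e2, by linarith⟩
  obtain ⟨x₁, hx₁⟩ := hmx
  have hab : IsCoprime (b : ℤ) (a : ℤ) := by
    have := Nat.coprime_div_gcd_div_gcd (m := m) (n := q - p) hgpos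
    exact Nat.isCoprime_iff_coprime.mpr this.symm
  have hgne : (g : ℤ) ≠ 0 := by exact_mod_cast hgpos.ne'
  have hbx₁ : (b : ℤ) ∣ x₁ := by
    apply hab.dvd_of_dvd_mul_left
    have : (g : ℤ) * b ∣ (g : ℤ) * (a * x₁) := by
      rw [← hqpZ]
      obtain ⟨w, hw⟩ := hqx
      exact ⟨w, by rw [← hw, hx₁, hmZ]; ring⟩
    exact (mul_dvd_mul_iff_left hgne).mp this
  obtain ⟨x₂, hx₂⟩ := hbx₁
  have hxx : x = (m : ℤ) * (b : ℤ) * x₂ := by rw [hx₁, hx₂]; ring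
  have hqpne : (q : ℤ) - p ≠ 0 := by
    have : (p : ℤ) < q := by exact_mod_cast hpq
    omega
  have he2 : (e2 : ℤ) - d2 = -((a : ℤ) * p * x₂) := by
    have h1 : ((q : ℤ) - p) * ((d2 : ℤ) - e2) = ((q : ℤ) - p) * ((a : ℤ) * p * x₂) := by
      have : (p : ℤ) * x = ((q : ℤ) - p) * ((d2 : ℤ) - e2) := by linarith
      rw [← this, hxx, hmZ, hqpZ]; ring
    have := mul_left_cancel₀ hqpne h1
    linarith
  refine ⟨x₂, hxx, he2, ?_⟩
  have : (e1 : ℤ) - d1 = -x + ((e2 : ℤ) - d2) := by rw [hx]; ring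
  rw [this, he2, hxx, hmZ]
  have : (q : ℤ) = ((q : ℤ) - p) + p := by ring
  rw [this, hqpZ]
  ring

theorem main15739 (p q m : ℕ) (hp : 0 < p) (hpq : p < q) (hcop : Nat.Coprime p q) (hm : 0 < m)
    (d0 d1 d2 e0 e1 e2 : ℕ)
    (hn : (e0 : ℤ) - (p : ℤ) * e1 + (q : ℤ) * e2 = (d0 : ℤ) - (p : ℤ) * d1 + (q : ℤ) * d2)
    (hcd : (m : ℤ) ∣ (d1 : ℤ) - d2) (hce : (m : ℤ) ∣ (e1 : ℤ) - e2)
    (hd0 : d0 < Nat.gcd m (q - p)) (he0 : e0 < Nat.gcd m (q - p)) :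
    (d0 = e0 ∧ ((m : ℤ) * ((q - p) / Nat.gcd m (q - p) : ℕ)) ∣ ((d1 : ℤ) - d2) - ((e1 : ℤ) - e2)) ∧
    ((d1 : ℤ) - d2 < (e1 : ℤ) - e2 →
      (X (0 : Fin 3) ^ d0 * X (1 : Fin 3) ^ d1 * X (2 : Fin 3) ^ d2 * (X (1 : Fin 3) ^ (m / Nat.gcd m (q - p) * q) * X (2 : Fin 3) ^ (m / Nat.gcd m (q - p) * p)) : MvPolynomial (Fin 3) k) ∣ X (0 : Fin 3) ^ e0 * X (1 : Fin 3) ^ e1 * X (2 : Fin 3) ^ e2) ∧
    ((X (0 : Fin 3) ^ e0 * X (1 : Fin 3) ^ e1 * X (2 : Fin 3) ^ e2 - X (0 : Fin 3) ^ d0 * X (1 : Fin 3) ^ d1 * X (2 : Fin 3) ^ d2 : MvPolynomial (Fin 3) k) ∈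
      Ideal.span {(1 : MvPolynomial (Fin 3) k) - X (1 : Fin 3) ^ (m / Nat.gcd m (q - p) * q) * X (2 : Fin 3) ^ (m / Nat.gcd m (q - p) * p)}) := by
  obtain ⟨hde, x₂, hxx, he2, he1⟩ := arith p q m hp hpq hcop hm d0 d1 d2 e0 e1 e2 hn hcd hce hd0 he0
  set a := m / Nat.gcd m (q - p) with ha
  set b := (q - p) / Nat.gcd m (q - p) with hb
  set G : MvPolynomial (Fin 3) k := X (1 : Fin 3) ^ (a * q) * X (2 : Fin 3) ^ (a * p) with hG
  have hmb : (0 : ℤ) < (m : ℤ) * (b : ℤ) := by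
    have h1 : 0 < b := Nat.div_pos (Nat.le_of_dvd (by omega) (Nat.gcd_dvd_right _ _))
      (Nat.gcd_pos_of_pos_left _ hm)
    have : (0 : ℤ) < m := by exact_mod_cast hm
    have : (0 : ℤ) < b := by exact_mod_cast h1
    positivity
  -- the shape of the exponents when `x₂ = -l`
  have shape : ∀ (d1 d2 e1 e2 : ℕ) (l : ℕ), (e2 : ℤ) - d2 = (a : ℤ) * p * l →
      (e1 : ℤ) - d1 = (a : ℤ) * q * l →
      (X (0 : Fin 3) ^ e0 * X (1 : Fin 3) ^ e1 * X (2 : Fin 3) ^ e2 : MvPolynomial (Fin 3) k) =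
        X (0 : Fin 3) ^ e0 * X (1 : Fin 3) ^ d1 * X (2 : Fin 3) ^ d2 * G ^ l := by
    intro d1 d2 e1 e2 l h2 h1
    have h2' : e2 = d2 + a * p * l := by
      have : (e2 : ℤ) = ((d2 + a * p * l : ℕ) : ℤ) := by push_cast; linarith
      exact_mod_cast this
    have h1' : e1 = d1 + a * q * l := by
      have : (e1 : ℤ) = ((d1 + a * q * l : ℕ) : ℤ) := by push_cast; linarith
      exact_mod_cast this
    rw [h2', h1', hG, mul_pow, ← pow_mul, ← pow_mul, pow_add, pow_add]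
    ring
  refine ⟨⟨hde, ⟨x₂, hxx⟩⟩, ?_, ?_⟩
  · intro hlt
    have hx₂neg : x₂ < 0 := by
      by_contra hcon
      have : 0 ≤ x₂ := not_lt.mp hcon
      have : 0 ≤ (m : ℤ) * (b : ℤ) * x₂ := mul_nonneg hmb.le this
      linarith
    obtain ⟨l, hl⟩ : ∃ l : ℕ, -x₂ = l := ⟨(-x₂).toNat, (Int.toNat_of_nonneg (by omega)).symm⟩
    have hl1 : 1 ≤ l := by omega
    have hx₂ : x₂ = -(l : ℤ) := by omega
    have := shape d1 d2 e1 e2 l (by rw [he2, hx₂]; ring) (by rw [he1, hx₂]; ring)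
    rw [this, hde]
    obtain ⟨l₀, rfl⟩ : ∃ l₀, l = l₀ + 1 := ⟨l - 1, by omega⟩
    rw [pow_succ]
    exact ⟨G ^ l₀, by ring⟩
  · rw [Ideal.mem_span_singleton]
    rcases lt_trichotomy x₂ 0 with hneg | hzero | hpos
    · obtain ⟨l, hl⟩ : ∃ l : ℕ, -x₂ = l := ⟨(-x₂).toNat, (Int.toNat_of_nonneg (by omega)).symm⟩
      have hx₂ : x₂ = -(l : ℤ) := by omega
      have := shape d1 d2 e1 e2 l (by rw [he2, hx₂]; ring) (by rw [he1, hx₂]; ring)
      rw [this, hde]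
      obtain ⟨v, hv⟩ := sub_dvd_pow_sub_pow (1 : MvPolynomial (Fin 3) k) G l
      rw [one_pow] at hv
      exact ⟨-(X (0 : Fin 3) ^ e0 * X (1 : Fin 3) ^ d1 * X (2 : Fin 3) ^ d2) * v, by
        linear_combination (-(X (0 : Fin 3) ^ e0 * X (1 : Fin 3) ^ d1 * X (2 : Fin 3) ^ d2)) * hv⟩
    · have h2 : e2 = d2 := by
        have : (e2 : ℤ) = d2 := by rw [hzero] at he2; linarith
        exact_mod_cast this
      have h1 : e1 = d1 := by
        have : (e1 : ℤ) = d1 := by rw [hzero] at he1; linarith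
        exact_mod_cast this
      rw [h1, h2, hde, sub_self]
      exact dvd_zero _
    · obtain ⟨l, hl⟩ : ∃ l : ℕ, x₂ = l := ⟨x₂.toNat, (Int.toNat_of_nonneg (by omega)).symm⟩
      have h3 := shape e1 e2 d1 d2 l (by rw [hl] at he2; linarith) (by rw [hl] at he1; linarith)
      have h4 : (X (0 : Fin 3) ^ d0 * X (1 : Fin 3) ^ d1 * X (2 : Fin 3) ^ d2 :
          MvPolynomial (Fin 3) k) =
          X (0 : Fin 3) ^ e0 * X (1 : Fin 3) ^ e1 * X (2 : Fin 3) ^ e2 * G ^ l := by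
        rw [hde]; exact h3
      rw [h4]
      obtain ⟨v, hv⟩ := sub_dvd_pow_sub_pow (1 : MvPolynomial (Fin 3) k) G l
      rw [one_pow] at hv
      exact ⟨(X (0 : Fin 3) ^ e0 * X (1 : Fin 3) ^ e1 * X (2 : Fin 3) ^ e2) * v, by
        linear_combination ((X (0 : Fin 3) ^ e0 * X (1 : Fin 3) ^ e1 * X (2 : Fin 3) ^ e2)) * hv⟩

end

end Groth.Agent.Helper8.InvHilb
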