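import Mathlib

set_option autoImplicit false
universe u v

namespace Groth.Agent.Helper8.InvLimCompact

/-- Inverse limit of nonempty closed subsets of compact Hausdorff spaces is nonempty. -/
lemma exists_compatible {ι : Type u} [Preorder ι] [IsDirected ι (· ≤ ·)]
    (G : ι → Type v) [∀ i, TopologicalSpace (G i)] [∀ i, CompactSpace (G i)] [∀ i, T2Space (G i)]
    (f : ∀ ⦃i j : ι⦄, i ≤ j → (G j → G i)) (hf : ∀ i j (h : i ≤ j), Continuous (f h))
    (hid : ∀ i (x : G i), f (le_refl i) x = x)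
    (hcomp : ∀ i j k (hij : i ≤ j) (hjk : j ≤ k) (x : G k), f hij (f hjk x) = f (hij.trans hjk) x)
    (Z : ∀ i, Set (G i)) (hZc : ∀ i, IsClosed (Z i)) (hZn : ∀ i, (Z i).Nonempty)
    (hZf : ∀ i j (h : i ≤ j), ∀ y ∈ Z j, f h y ∈ Z i) :
    ∃ z : ∀ i, G i, (∀ i j (h : i ≤ j), f h (z j) = z i) ∧ ∀ i, z i ∈ Z i := by
  classical
  rcases isEmpty_or_nonempty ι with hι | hι
  · exact ⟨fun i => (hι.false i).elim, fun i => (hι.false i).elim, fun i => (hι.false i).elim⟩
  set A : ι → Set (∀ i, G i) := fun j =>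
    {z | (∀ i, z i ∈ Z i) ∧ ∀ i (h : i ≤ j), f h (z j) = z i} with hA
  have hAcl : ∀ j, IsClosed (A j) := by
    intro j
    have h1 : IsClosed {z : ∀ i, G i | ∀ i, z i ∈ Z i} := by
      have : {z : ∀ i, G i | ∀ i, z i ∈ Z i} = ⋂ i, (fun z : ∀ i, G i => z i) ⁻¹' (Z i) := by
        ext z; simp
      rw [this]
      exact isClosed_iInter fun i => (hZc i).preimage (continuous_apply i)
    have h2 : IsClosed {z : ∀ i, G i | ∀ i (h : i ≤ j), f h (z j) = z i} := by
      have : {z : ∀ i, G i | ∀ i (h : i ≤ j), f h (z j) = z i} =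
          ⋂ i, ⋂ (h : i ≤ j), {z : ∀ i, G i | f h (z j) = z i} := by
        ext z; simp
      rw [this]
      refine isClosed_iInter fun i => isClosed_iInter fun h => ?_
      exact isClosed_eq ((hf i j h).comp (continuous_apply j)) (continuous_apply i)
    exact h1.inter h2
  have hAn : ∀ j, (A j).Nonempty := by
    intro j
    choose c hc using hZn
    refine ⟨fun i => if h : i ≤ j then f h (c j) else c i, ?_, ?_⟩
    · intro i
      by_cases h : i ≤ j
      · simp only [h, dif_pos]; exact hZf i j h _ (hc j)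
      · simp only [h, dif_neg, not_false_eq_true]; exact hc i
    · intro i h
      simp only [h, dif_pos, le_refl]
      rw [hid]
  have hAd : Directed (· ⊇ ·) A := by
    intro j k
    obtain ⟨l, hjl, hkl⟩ := exists_ge_ge j k
    refine ⟨l, ?_, ?_⟩
    · rintro z ⟨hz1, hz2⟩
      refine ⟨hz1, fun i h => ?_⟩
      rw [← hz2 j hjl, hcomp, hz2]
    · rintro z ⟨hz1, hz2⟩
      refine ⟨hz1, fun i h => ?_⟩
      rw [← hz2 k hkl, hcomp, hz2]
  obtain ⟨z, hz⟩ := IsCompact.nonempty_iInter_of_directed_nonempty_isCompact_isClosed A hAd hAn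
    (fun j => (hAcl j).isCompact) hAcl
  rw [Set.mem_iInter] at hz
  refine ⟨z, fun i j h => (hz j).2 i h, fun i => ?_⟩
  exact (hz i).1 i

theorem main {ι : Type u} [Preorder ι] [IsDirected ι (· ≤ ·)]
    (G : ι → Type v) [∀ i, AddCommGroup (G i)] [∀ i, TopologicalSpace (G i)]
    [∀ i, IsTopologicalAddGroup (G i)] [∀ i, CompactSpace (G i)] [∀ i, T2Space (G i)]
    (f : ∀ ⦃i j : ι⦄, i ≤ j → (G j →+ G i)) (hf : ∀ i j (h : i ≤ j), Continuous (f h))
    (hid : ∀ i (x : G i), f (le_refl i) x = x)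
    (hcomp : ∀ i j k (hij : i ≤ j) (hjk : j ≤ k) (x : G k), f hij (f hjk x) = f (hij.trans hjk) x)
    (hsurj : ∀ i j (h : i ≤ j), Function.Surjective (f h)) (m : ℕ) :
    (∀ x : ∀ i, G i, (∀ i j (h : i ≤ j), f h (x j) = x i) → (∀ i, ∃ y : G i, m • y = x i) →
        ∃ z : ∀ i, G i, (∀ i j (h : i ≤ j), f h (z j) = z i) ∧ ∀ i, m • z i = x i) ∧
    (∀ y : ∀ i, G i, (∀ i j (h : i ≤ j), ∃ w : G i, f h (y j) - y i = m • w) →
        ∃ x : ∀ i, G i, (∀ i j (h : i ≤ j), f h (x j) = x i) ∧ ∀ i, ∃ w : G i, x i - y i = m • w) := by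
  have hcm : ∀ i, Continuous (fun y : G i => m • y) := fun i => continuous_nsmul m
  constructor
  · intro x hx hdiv
    obtain ⟨z, hz1, hz2⟩ := exists_compatible G (fun i j h => (f h : G j → G i)) hf hid hcomp
      (fun i => {y | m • y = x i})
      (fun i => isClosed_eq (hcm i) continuous_const)
      (fun i => hdiv i)
      (fun i j h y hy => by
        simp only [Set.mem_ofPred_eq] at hy ⊢
        rw [← map_nsmul, hy, hx])
    exact ⟨z, hz1, hz2⟩
  · intro y hy
    obtain ⟨x, hx1, hx2⟩ := exists_compatible G (fun i j h => (f h : G j → G i)) hf hid hcomp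
      (fun i => Set.range (fun w : G i => y i + m • w))
      (fun i => (isCompact_range (continuous_const.add (hcm i))).isClosed)
      (fun i => Set.range_nonempty _)
      (fun i j h z hz => by
        obtain ⟨w, rfl⟩ := hz
        obtain ⟨w', hw'⟩ := hy i j h
        refine ⟨w' + f h w, ?_⟩
        simp only [map_add, map_nsmul, smul_add]
        rw [sub_eq_iff_eq_add] at hw'
        rw [hw']
        abel)
    refine ⟨x, hx1, fun i => ?_⟩
    obtain ⟨w, hw⟩ := hx2 i
    exact ⟨w, by rw [← hw]; simp⟩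

end Groth.Agent.Helper8.InvLimCompact
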