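import Mathlib
import Groth.Agent.Helper9.Reynolds2
import Groth.Agent.Helper9.LRss
import Groth.Prelude.Def_HopfRep
import Groth.Prelude.Def_GLin
import Groth.Prelude.Def_W4c1tameactTame

set_option autoImplicit false
universe u

namespace Groth.Agent.Helper8.InvModFin

open TensorProduct

section
variable (k : Type u) [Field k] (H : Type u) [CommRing H] [HopfAlgebra k H]
  (A : Type u) [CommRing A] [Algebra k A] [HopfRep.Comod k H A] [GLin.IsCoactAlg k H A]
  (M : Type u) [AddCommGroup M] [Module k M] [Module A M] [IsScalarTower k A M]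
  [HopfRep.Comod k H M] [TameAct.IsHopfMod k H A M]

/-- `a ↦ a • m` is a comodule map for an invariant `m` -/
theorem isComodHom_smul_invariant (m : M) (hm : m ∈ HopfRep.fixedPts k H M) :
    Hoch.IsComodHom H ((LinearMap.toSpanSingleton A M m).restrictScalars k) := by
  apply LinearMap.ext
  intro a
  have h : HopfRep.Comod.coact (k := k) (A := H) m = m ⊗ₜ[k] (1 : H) := hm
  simp only [LinearMap.comp_apply, LinearMap.restrictScalars_apply, LinearMap.toSpanSingleton_apply]
  rw [TameAct.IsHopfMod.coact_smul, h]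
  generalize HopfRep.Comod.coact (k := k) (A := H) a = z
  induction z using TensorProduct.induction_on with
  | zero => simp
  | tmul x y => simp
  | add x y hx hy => rw [map_add, LinearMap.add_apply, hx, hy, map_add]

theorem main [IsNoetherianRing A] [Module.Finite A M] (hG : HopfRep.IsLinearlyReductive k H) :
    ∃ s : Finset M, (↑s : Set M) ⊆ ↑(HopfRep.fixedPts k H M) ∧
      (↑(HopfRep.fixedPts k H M) : Set M) ⊆
        ↑(Submodule.span ↥(GLin.invariants k H A) (↑s : Set M)) := by
  classical
  have hssA : HopfRep.IsSemisimpleComod k H A :=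
    Groth.Agent.Helper9.semisimple_of_finite (fun V' _ _ _ hf => hG V' hf)
  have hssM : HopfRep.IsSemisimpleComod k H M :=
    Groth.Agent.Helper9.semisimple_of_finite (fun V' _ _ _ hf => hG V' hf)
  obtain ⟨E, hE₁, hE₂, hE₃⟩ := Groth.Agent.Helper9.exists_reynolds hssA
  obtain ⟨E', hE'₁, hE'₂, hE'₃⟩ := Groth.Agent.Helper9.exists_reynolds hssM
  have hfg : (Submodule.span A (↑(HopfRep.fixedPts k H M) : Set M)).FG :=
    IsNoetherian.noetherian _
  obtain ⟨s, hs, hspan⟩ := (Submodule.fg_span_iff_fg_span_finset_subset _).mp hfg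
  refine ⟨s, hs, ?_⟩
  intro m hm
  have hm' : m ∈ Submodule.span A (↑s : Set M) := by
    rw [← hspan]
    exact Submodule.subset_span hm
  obtain ⟨f, hf⟩ := Submodule.mem_span_finset'.mp hm'
  have hEm : E' m = m := (hE'₃ m).mpr hm
  have key : ∀ i : (s : Set M), E' (f i • (i : M)) =
      (⟨E (f i), (hE₃ _).mp (hE₂ (f i))⟩ : GLin.invariants k H A) • (i : M) := by
    intro i
    have hi : (i : M) ∈ HopfRep.fixedPts k H M := hs i.2
    have := Groth.Agent.Helper9.reynolds_comm hssA E hE₁ hE₂ hE₃ E' hE'₁ hE'₂ hE'₃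
      ((LinearMap.toSpanSingleton A M (i : M)).restrictScalars k)
      (isComodHom_smul_invariant k H A M (i : M) hi) (f i)
    have h2 : E' (f i • (i : M)) = E (f i) • (i : M) := by simpa using this
    rw [h2]
    rfl
  rw [SetLike.mem_coe, ← hEm, ← hf, map_sum]
  apply Submodule.sum_mem
  intro i _
  rw [key i]
  exact Submodule.smul_mem _ _ (Submodule.subset_span i.2)

end

end Groth.Agent.Helper8.InvModFin
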