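import Mathlib

set_option autoImplicit false
universe u v w

namespace Groth.Agent.Helper8.InvModP
open TensorProduct

section gen
variable {R : Type*} [CommRing R] {M : Type*} [AddCommGroup M] [Module R M]

lemma lTensor_injective_of_saturated (a : R) (N : Submodule R M)
    (hsat : ∀ m : M, a • m ∈ N → m ∈ N) :
    Function.Injective (LinearMap.lTensor (R ⧸ Ideal.span {a}) N.subtype) := by
  set I : Ideal R := Ideal.span {a} with hI
  have hle : I • (⊤ : Submodule R N) ≤ (I • (⊤ : Submodule R M)).comap N.subtype :=
    Submodule.smul_top_le_comap_smul_top I N.subtype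
  set g := Submodule.mapQ (I • (⊤ : Submodule R N)) (I • (⊤ : Submodule R M)) N.subtype hle with hg
  have hsq : (quotTensorEquivQuotSMul M I).toLinearMap ∘ₗ LinearMap.lTensor (R ⧸ I) N.subtype =
      g ∘ₗ (quotTensorEquivQuotSMul N I).toLinearMap := by
    apply TensorProduct.ext'
    intro x n
    obtain ⟨r, rfl⟩ := Ideal.Quotient.mk_surjective x
    simp only [LinearMap.coe_comp, LinearEquiv.coe_coe, Function.comp_apply,
      LinearMap.lTensor_tmul, quotTensorEquivQuotSMul_mk_tmul, hg, Submodule.mapQ_apply,
      map_smul]
  have hginj : Function.Injective g := by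
    rw [← LinearMap.ker_eq_bot, LinearMap.ker_eq_bot']
    intro y hy
    obtain ⟨n, rfl⟩ := Submodule.Quotient.mk_surjective _ y
    rw [hg, Submodule.mapQ_apply, Submodule.Quotient.mk_eq_zero, hI,
      Submodule.ideal_span_singleton_smul, Submodule.mem_smul_pointwise_iff_exists] at hy
    obtain ⟨m, -, hm⟩ := hy
    have hmN : m ∈ N := hsat m (by rw [hm]; exact n.2)
    rw [Submodule.Quotient.mk_eq_zero, hI, Submodule.ideal_span_singleton_smul,
      Submodule.mem_smul_pointwise_iff_exists]
    exact ⟨⟨m, hmN⟩, trivial, Subtype.ext hm⟩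
  intro x y hxy
  apply (quotTensorEquivQuotSMul N I).injective
  apply hginj
  have h1 := LinearMap.congr_fun hsq x
  have h2 := LinearMap.congr_fun hsq y
  simp only [LinearMap.coe_comp, LinearEquiv.coe_coe, Function.comp_apply] at h1 h2
  rw [← h1, ← h2, hxy]

end gen

theorem main (p : ℕ) [Fact p.Prime]
    (k : Type u) [Field k] [CharP k p] [PerfectRing k p]
    (M : Type v) [AddCommGroup M] [Module (WittVector p k) M]
    [Module.Free (WittVector p k) M] [Module.Finite (WittVector p k) M]
    (G : Type w) [Group G] [Finite G] (ρ : Representation (WittVector p k) G M) :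
    Function.Injective
      (LinearMap.lTensor (WittVector p k ⧸ Ideal.span {(p : WittVector p k)})
        ρ.invariants.subtype) := by
  apply lTensor_injective_of_saturated
  intro m hm
  rw [Representation.mem_invariants] at hm ⊢
  intro g
  have h1 := hm g
  rw [map_smul] at h1
  have hreg : IsRegular (p : WittVector p k) :=
    IsRegular.of_ne_zero (WittVector.p_nonzero p k)
  exact Module.IsTorsionFree.isSMulRegular hreg h1

end Groth.Agent.Helper8.InvModP
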