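import Mathlib

/-!
# Norm polynomials for invariants under base change

For a finite group `G` acting on `R` with invariants `R^G` and an `R^G`-algebra `A`:
(1) every `G`-invariant `b ∈ A ⊗ R` satisfies `(T - b)^n = image of a monic polynomial over A`;
(2) every `a ∈ ker (A → A ⊗ R)` satisfies `(T - a)^n = T^n`.
-/

set_option autoImplicit false

namespace Groth.Agent.Helper8.InvPol

open Polynomial TensorProduct

universe u

section General

variable {B A R : Type u} [CommRing B] [CommRing A] [CommRing R] [Algebra B A] [Algebra B R]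

lemma key_general (a : A) (ha : a ⊗ₜ[B] (1 : R) = 0) :
    ∃ (m : ℕ) (β : Fin m → MvPolynomial A B) (r : Fin m → R),
      (∀ j, (MvPolynomial.aeval id : MvPolynomial A B →ₐ[B] A) (β j) = 0) ∧
        MvPolynomial.map (algebraMap B R) (MvPolynomial.X a : MvPolynomial A B) =
          ∑ j, MvPolynomial.map (algebraMap B R) (β j) * MvPolynomial.C (r j) := by
  let π : MvPolynomial A B →ₐ[B] A := MvPolynomial.aeval id
  let I : Submodule B (MvPolynomial A B) := LinearMap.ker π.toLinearMap
  have hex : Function.Exact I.subtype π.toLinearMap := by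
    intro x
    constructor
    · intro hx
      exact ⟨⟨x, hx⟩, rfl⟩
    · rintro ⟨y, rfl⟩
      exact y.2
  have hsurj : Function.Surjective π.toLinearMap := fun x => ⟨MvPolynomial.X x, by simp [π]⟩
  have hex' := _root_.rTensor_exact R hex hsurj
  have h0 : (π.toLinearMap.rTensor R) ((MvPolynomial.X a : MvPolynomial A B) ⊗ₜ[B] (1 : R)) = 0 := by
    rw [LinearMap.rTensor_tmul]
    simp only [π, AlgHom.toLinearMap_apply, MvPolynomial.aeval_X, id]
    exact ha
  obtain ⟨y, hy⟩ := (hex' _).mp h0
  obtain ⟨m, β, r, rfl⟩ := TensorProduct.exists_sum_tmul_eq y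
  refine ⟨m, fun j => (β j : MvPolynomial A B), r, fun j => (β j).2, ?_⟩
  let ψ : MvPolynomial A B ⊗[B] R →ₐ[B] MvPolynomial A R :=
    Algebra.TensorProduct.productMap
      (MvPolynomial.mapAlgHom (Algebra.ofId B R))
      (IsScalarTower.toAlgHom B R (MvPolynomial A R))
  have hψ : ∀ (f : MvPolynomial A B) (s : R),
      ψ (f ⊗ₜ s) = MvPolynomial.map (algebraMap B R) f * MvPolynomial.C s := by
    intro f s
    rfl
  have h1 := congrArg ψ hy
  rw [map_sum, map_sum] at h1
  simp only [LinearMap.rTensor_tmul, Submodule.subtype_apply, hψ, map_one, mul_one] at h1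
  exact h1.symm

end General

section

variable {R G : Type u} [CommRing R] [Group G] [Fintype G] [MulSemiringAction G R]

/-- The norm polynomial `∏_σ (T - Σ_j σ(r_j) z_j)`. -/
noncomputable def normPoly {m : ℕ} (r : Fin m → R) : (MvPolynomial (Fin m) R)[X] :=
  ∏ σ : G, (X - C (∑ j, MvPolynomial.C (σ • r j) * MvPolynomial.X j))

lemma normPoly_monic {m : ℕ} (r : Fin m → R) : (normPoly (G := G) r).Monic :=
  monic_prod_of_monic _ _ (fun σ _ => monic_X_sub_C _)

lemma map_normPoly {m : ℕ} {S : Type*} [CommRing S] (f : MvPolynomial (Fin m) R →+* S)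
    (r : Fin m → R) :
    (normPoly (G := G) r).map f =
      ∏ σ : G, (X - C (∑ j, f (MvPolynomial.C (σ • r j)) * f (MvPolynomial.X j))) := by
  rw [normPoly, Polynomial.map_prod]
  refine Finset.prod_congr rfl fun σ _ => ?_
  rw [Polynomial.map_sub, Polynomial.map_X, Polynomial.map_C, map_sum]
  simp only [map_mul]

lemma normPoly_invariant {m : ℕ} (τ : G) (r : Fin m → R) :
    (normPoly (G := G) r).map (MvPolynomial.map (MulSemiringAction.toRingHom G R τ)) =
      normPoly (G := G) r := by
  rw [map_normPoly]
  simp only [MvPolynomial.map_C, MvPolynomial.map_X, MulSemiringAction.toRingHom_apply, smul_smul]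
  exact Fintype.prod_equiv (Equiv.mulLeft τ) _ _ (fun σ => rfl)

lemma exists_descent {m : ℕ} (r : Fin m → R) :
    ∃ q₀ : (MvPolynomial (Fin m) (FixedPoints.subring R G))[X], q₀.Monic ∧
      q₀.map (MvPolynomial.map (algebraMap (FixedPoints.subring R G) R)) =
        normPoly (G := G) r := by
  classical
  have hl : normPoly (G := G) r ∈
      lifts (MvPolynomial.map (algebraMap (FixedPoints.subring R G) R)) := by
    rw [lifts_iff_coeff_lifts]
    intro n
    rw [MvPolynomial.mem_range_map_iff_coeffs_subset]
    intro c hc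
    rw [Finset.mem_coe, MvPolynomial.mem_coeffs_iff] at hc
    obtain ⟨e, -, rfl⟩ := hc
    have hmem : ((normPoly (G := G) r).coeff n).coeff e ∈ FixedPoints.subring R G := by
      intro τ
      have h := congrArg (fun p => (p.coeff n).coeff e) (normPoly_invariant τ r)
      simpa [Polynomial.coeff_map, MvPolynomial.coeff_map] using h
    exact ⟨⟨_, hmem⟩, rfl⟩
  obtain ⟨q₀, h1, -, h2⟩ := lifts_and_natDegree_eq_and_monic hl (normPoly_monic r)
  exact ⟨q₀, h2, h1⟩

variable (A : Type u) [CommRing A] [Algebra (FixedPoints.subring R G) A]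

theorem part1 (b : A ⊗[FixedPoints.subring R G] R)
    (hb : ∀ σ : G, Algebra.TensorProduct.map (AlgHom.id (FixedPoints.subring R G) A)
      (MulSemiringAction.toAlgHom (FixedPoints.subring R G) R σ) b = b) :
    ∃ P : A[X], P.Monic ∧
      P.map (algebraMap A (A ⊗[FixedPoints.subring R G] R)) = (X - C b) ^ Fintype.card G := by
  obtain ⟨m, a, r, rfl⟩ := TensorProduct.exists_sum_tmul_eq b
  obtain ⟨q₀, hmon, hq₀⟩ := exists_descent (G := G) r
  refine ⟨q₀.map (MvPolynomial.aeval a :
    MvPolynomial (Fin m) (FixedPoints.subring R G) →ₐ[FixedPoints.subring R G] A).toRingHom,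
    hmon.map _, ?_⟩
  let evT : MvPolynomial (Fin m) R →+* A ⊗[FixedPoints.subring R G] R :=
    MvPolynomial.eval₂Hom (Algebra.TensorProduct.includeRight :
      R →ₐ[FixedPoints.subring R G] A ⊗[FixedPoints.subring R G] R).toRingHom
      (fun j => a j ⊗ₜ 1)
  have hcomp : evT.comp (MvPolynomial.map (algebraMap (FixedPoints.subring R G) R)) =
      (algebraMap A (A ⊗[FixedPoints.subring R G] R)).comp (MvPolynomial.aeval a :
        MvPolynomial (Fin m) (FixedPoints.subring R G) →ₐ[FixedPoints.subring R G] A).toRingHom := by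
    apply MvPolynomial.ringHom_ext
    · intro c
      simp only [RingHom.comp_apply, MvPolynomial.map_C, evT, MvPolynomial.eval₂Hom_C,
        AlgHom.toRingHom_eq_coe, RingHom.coe_coe, Algebra.TensorProduct.includeRight_apply,
        MvPolynomial.aeval_C, Algebra.TensorProduct.algebraMap_apply]
      show (1 : A) ⊗ₜ[FixedPoints.subring R G] (algebraMap (FixedPoints.subring R G) R c) =
        (algebraMap (FixedPoints.subring R G) A c) ⊗ₜ[FixedPoints.subring R G] (1 : R)
      rw [Algebra.algebraMap_eq_smul_one, Algebra.algebraMap_eq_smul_one,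
        TensorProduct.smul_tmul]
    · intro j
      simp only [RingHom.comp_apply, MvPolynomial.map_X, evT, MvPolynomial.eval₂Hom_X',
        AlgHom.toRingHom_eq_coe, RingHom.coe_coe, MvPolynomial.aeval_X,
        Algebra.TensorProduct.algebraMap_apply]
      rfl
  rw [Polynomial.map_map, ← hcomp, ← Polynomial.map_map, hq₀, map_normPoly]
  have hsum : ∀ σ : G, ∑ j, evT (MvPolynomial.C (σ • r j)) * evT (MvPolynomial.X j) =
      ∑ j, a j ⊗ₜ r j := by
    intro σ
    have h := hb σ
    rw [map_sum] at h
    simp only [Algebra.TensorProduct.map_tmul, AlgHom.id_apply,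
      MulSemiringAction.toAlgHom_apply] at h
    rw [← h]
    refine Finset.sum_congr rfl fun j _ => ?_
    simp only [evT, MvPolynomial.eval₂Hom_C, MvPolynomial.eval₂Hom_X', AlgHom.toRingHom_eq_coe,
      RingHom.coe_coe, Algebra.TensorProduct.includeRight_apply,
      Algebra.TensorProduct.tmul_mul_tmul, one_mul, mul_one]
  simp only [hsum, Finset.prod_const, Finset.card_univ]

theorem part2 (a : A) (ha : algebraMap A (A ⊗[FixedPoints.subring R G] R) a = 0) (i : ℕ)
    (hi : i < Fintype.card G) : ((X - C a) ^ Fintype.card G).coeff i = 0 := by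
  classical
  let π : MvPolynomial A (FixedPoints.subring R G) →ₐ[FixedPoints.subring R G] A :=
    MvPolynomial.aeval id
  let κ : MvPolynomial A (FixedPoints.subring R G) →+* MvPolynomial A R :=
    MvPolynomial.map (algebraMap (FixedPoints.subring R G) R)
  have hκ : Function.Injective κ := MvPolynomial.map_injective _ Subtype.val_injective
  let α : MvPolynomial A (FixedPoints.subring R G) := MvPolynomial.X a
  have key : ∃ (m : ℕ) (β : Fin m → MvPolynomial A (FixedPoints.subring R G)) (r : Fin m → R),
      (∀ j, π (β j) = 0) ∧ κ α = ∑ j, κ (β j) * MvPolynomial.C (r j) := by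
    apply key_general (B := FixedPoints.subring R G) (R := R) a
    simpa [Algebra.TensorProduct.algebraMap_apply] using ha
  obtain ⟨m, β, r, hβ, hα⟩ := key
  obtain ⟨q₀, hmon, hq₀⟩ := exists_descent (G := G) r
  -- every σ gives the same relation
  have hσ : ∀ σ : G, ∑ j, MvPolynomial.C (σ • r j) * κ (β j) = κ α := by
    intro σ
    have h := congrArg (MvPolynomial.map (MulSemiringAction.toRingHom G R σ)) hα
    have hfix : ∀ f : MvPolynomial A (FixedPoints.subring R G),
        MvPolynomial.map (MulSemiringAction.toRingHom G R σ) (κ f) = κ f := by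
      intro f
      have hc : (MulSemiringAction.toRingHom G R σ).comp
          (algebraMap (FixedPoints.subring R G) R) = algebraMap (FixedPoints.subring R G) R :=
        RingHom.ext fun c => c.2 σ
      simp only [κ, MvPolynomial.map_map, hc]
    rw [map_sum, hfix] at h
    simp only [map_mul, hfix, MvPolynomial.map_C, MulSemiringAction.toRingHom_apply] at h
    rw [h]
    exact Finset.sum_congr rfl fun j _ => mul_comm _ _
  let evF : MvPolynomial (Fin m) R →+* MvPolynomial A R :=
    MvPolynomial.eval₂Hom (MvPolynomial.C : R →+* MvPolynomial A R) (fun j => κ (β j))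
  let evβ : MvPolynomial (Fin m) (FixedPoints.subring R G) →+*
      MvPolynomial A (FixedPoints.subring R G) :=
    (MvPolynomial.aeval β : MvPolynomial (Fin m) (FixedPoints.subring R G) →ₐ[FixedPoints.subring R G]
      MvPolynomial A (FixedPoints.subring R G)).toRingHom
  have hcomp : evF.comp (MvPolynomial.map (algebraMap (FixedPoints.subring R G) R)) =
      κ.comp evβ := by
    apply MvPolynomial.ringHom_ext
    · intro c
      simp [evF, evβ, κ]
    · intro j
      simp [evF, evβ, κ]
  have h1 : (q₀.map evβ).map κ = ((X - C α) ^ Fintype.card G).map κ := by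
    rw [Polynomial.map_map, ← hcomp, ← Polynomial.map_map, hq₀, map_normPoly]
    simp only [evF, MvPolynomial.eval₂Hom_C, MvPolynomial.eval₂Hom_X', hσ, Finset.prod_const,
      Finset.card_univ]
    simp [Polynomial.map_pow]
  have h2 : q₀.map evβ = (X - C α) ^ Fintype.card G := Polynomial.map_injective κ hκ h1
  -- apply π
  have h3 : (q₀.map evβ).map (π : MvPolynomial A (FixedPoints.subring R G) →+* A) =
      (X - C a) ^ Fintype.card G := by
    rw [h2]
    simp [Polynomial.map_pow, π, α]
  -- π ∘ evβ kills the variables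
  have hcomp2 : (π : MvPolynomial A (FixedPoints.subring R G) →+* A).comp evβ =
      (algebraMap (FixedPoints.subring R G) A).comp MvPolynomial.constantCoeff := by
    apply MvPolynomial.ringHom_ext
    · intro c
      simp [evβ, π]
    · intro j
      simp [evβ, hβ j]
  -- constant coefficients of q₀
  have h4 : q₀.map (MvPolynomial.constantCoeff :
      MvPolynomial (Fin m) (FixedPoints.subring R G) →+* FixedPoints.subring R G) =
      X ^ Fintype.card G := by
    apply Polynomial.map_injective (algebraMap (FixedPoints.subring R G) R) Subtype.val_injective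
    have hcomp3 : (algebraMap (FixedPoints.subring R G) R).comp
        (MvPolynomial.constantCoeff :
          MvPolynomial (Fin m) (FixedPoints.subring R G) →+* FixedPoints.subring R G) =
        (MvPolynomial.constantCoeff : MvPolynomial (Fin m) R →+* R).comp
          (MvPolynomial.map (algebraMap (FixedPoints.subring R G) R)) := by
      apply MvPolynomial.ringHom_ext
      · intro c
        simp
      · intro j
        simp
    rw [Polynomial.map_map, hcomp3, ← Polynomial.map_map, hq₀, map_normPoly]
    simp [Polynomial.map_pow]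
  rw [← h3, Polynomial.map_map, hcomp2, ← Polynomial.map_map, h4]
  simp only [Polynomial.map_pow, Polynomial.map_X, Polynomial.coeff_X_pow]
  rw [if_neg (Nat.ne_of_lt hi)]

end

end Groth.Agent.Helper8.InvPol
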