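import Mathlib

namespace Groth.Agent.Helper8.IrrLoc

universe u v w

theorem main
    (R : Type u) (A : Type v) (B : Type w) [CommRing R] [CommRing A] [CommRing B] [Algebra R A] [Algebra R B]
    [Algebra A B] [IsScalarTower R A B]
    (𝒜 : ℕ → Submodule R A) [GradedAlgebra 𝒜] (ℬ : ℕ → Submodule R B) [GradedAlgebra ℬ]
    (σ : A) (hσ0 : σ ∈ 𝒜 0) [IsLocalization.Away σ B]
    (ι : 𝒜 →+*ᵍ ℬ) (hι : ∀ a : A, ι a = algebraMap A B a) :
    (HomogeneousIdeal.irrelevant 𝒜).map ι = HomogeneousIdeal.irrelevant ℬ := by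
  classical
  apply le_antisymm
  · rw [HomogeneousIdeal.map_le_iff_le_comap]
    intro a ha
    change ι a ∈ HomogeneousIdeal.irrelevant ℬ
    rw [HomogeneousIdeal.mem_irrelevant_iff] at ha ⊢
    rw [GradedRing.proj_apply] at ha ⊢
    rw [← GradedRingHom.map_directSumDecompose, ha, map_zero]
  · -- every homogeneous element of positive degree is in the ideal
    have key : ∀ (n : ℕ) (b : B), 0 < n → b ∈ ℬ n →
        b ∈ ((HomogeneousIdeal.irrelevant 𝒜).map ι).toIdeal := by
      intro n b hn hb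
      obtain ⟨⟨a, ⟨_, m, rfl⟩⟩, hab⟩ := IsLocalization.surj (Submonoid.powers σ) b
      have hab' : b * ι (σ ^ m) = ι a := by
        rw [hι, hι]; exact hab
      have hσm : ι (σ ^ m) ∈ ℬ 0 := ι.2 (by
        have := SetLike.pow_mem_graded m hσ0
        simpa using this)
      have hdeg : b * ι (σ ^ m) ∈ ℬ n := by
        have := SetLike.mul_mem_graded hb hσm
        simpa using this
      have h1 : ι (DirectSum.decompose 𝒜 a n : A) = b * ι (σ ^ m) := by
        rw [GradedRingHom.map_directSumDecompose, ← hab', DirectSum.decompose_of_mem_same ℬ hdeg]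
      have hunit : IsUnit (ι (σ ^ m)) := by
        rw [hι, map_pow]
        exact (IsLocalization.Away.algebraMap_isUnit σ).pow m
      have hmem : (DirectSum.decompose 𝒜 a n : A) ∈ (HomogeneousIdeal.irrelevant 𝒜).toIdeal := by
        change (DirectSum.decompose 𝒜 a n : A) ∈ HomogeneousIdeal.irrelevant 𝒜
        rw [HomogeneousIdeal.mem_irrelevant_iff, GradedRing.proj_apply,
          DirectSum.decompose_of_mem_ne 𝒜 (SetLike.coe_mem _) hn.ne']
      have h2 : b * ι (σ ^ m) ∈ ((HomogeneousIdeal.irrelevant 𝒜).map ι).toIdeal := by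
        rw [← h1, HomogeneousIdeal.toIdeal_map]
        exact Ideal.mem_map_of_mem _ hmem
      obtain ⟨u, hu⟩ := hunit
      have h3 : b = (b * ι (σ ^ m)) * ↑u⁻¹ := by
        rw [← hu, mul_assoc, Units.mul_inv, mul_one]
      rw [h3]
      exact Ideal.mul_mem_right _ _ h2
    intro b hb
    change b ∈ ((HomogeneousIdeal.irrelevant 𝒜).map ι).toIdeal
    rw [← DirectSum.sum_support_decompose ℬ b]
    apply Ideal.sum_mem
    intro n _
    rcases Nat.eq_zero_or_pos n with rfl | hn
    · rw [HomogeneousIdeal.mem_irrelevant_iff, GradedRing.proj_apply] at hb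
      rw [hb]; exact zero_mem _
    · exact key n _ hn (SetLike.coe_mem _)

end Groth.Agent.Helper8.IrrLoc
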