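import Mathlib
import Groth.Prelude.Def_Isoc

/-!
# Basic lattice infrastructure for isocrystals (helper8)
-/

set_option autoImplicit false
set_option linter.unusedSectionVars false

noncomputable section

open scoped Pointwise Isocrystal
open Filter Topology

universe u v

namespace Groth.Agent.Helper8.IsocH

open Isoc

section Nice

variable {p : ℕ} [Fact p.Prime] {k : Type u} [Field k] [CharP k p] [PerfectRing k p]

/-- A ring endomorphism of `L` that is surjective and maps `W` onto `W`. -/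
structure Nice (ρ : K(p, k) →+* K(p, k)) : Prop where
  map_W : ∀ w : WittVector p k, ∃ w' : WittVector p k,
    ρ (algebraMap (WittVector p k) K(p, k) w) = algebraMap (WittVector p k) K(p, k) w'
  surj_W : ∀ w : WittVector p k, ∃ w' : WittVector p k,
    ρ (algebraMap (WittVector p k) K(p, k) w') = algebraMap (WittVector p k) K(p, k) w
  surj : Function.Surjective ρ

theorem nice_frob (a : ℤ) : Nice (Isoc.frob p k a) where
  map_W w := ⟨_, Isoc.frob_algebraMap p k a w⟩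
  surj_W w := ⟨(WittVector.frobeniusEquiv p k ^ a).symm w, by
    rw [Isoc.frob_algebraMap, RingEquiv.apply_symm_apply]⟩
  surj := (IsFractionRing.ringEquivOfRingEquiv (K := K(p, k)) (L := K(p, k))
    (WittVector.frobeniusEquiv p k ^ a)).surjective

theorem nice_one : Nice (1 : K(p, k) →+* K(p, k)) where
  map_W w := ⟨w, rfl⟩
  surj_W w := ⟨w, rfl⟩
  surj := fun x => ⟨x, rfl⟩

theorem Nice.mul {ρ ρ' : K(p, k) →+* K(p, k)} (h : Nice ρ) (h' : Nice ρ') : Nice (ρ * ρ') where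
  map_W w := by
    obtain ⟨w₁, hw₁⟩ := h'.map_W w
    obtain ⟨w₂, hw₂⟩ := h.map_W w₁
    exact ⟨w₂, by rw [RingHom.mul_def, RingHom.comp_apply, hw₁, hw₂]⟩
  surj_W w := by
    obtain ⟨w₁, hw₁⟩ := h.surj_W w
    obtain ⟨w₂, hw₂⟩ := h'.surj_W w₁
    exact ⟨w₂, by rw [RingHom.mul_def, RingHom.comp_apply, hw₂, hw₁]⟩
  surj := h.surj.comp h'.surj

theorem Nice.pow {ρ : K(p, k) →+* K(p, k)} (h : Nice ρ) (n : ℕ) : Nice (ρ ^ n) := by
  induction n with
  | zero => rw [pow_zero]; exact nice_one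
  | succ n ih => rw [pow_succ]; exact ih.mul h

theorem map_p_zpow (ρ : K(p, k) →+* K(p, k)) (r : ℤ) :
    ρ ((p : K(p, k)) ^ r) = (p : K(p, k)) ^ r := by
  rw [map_zpow₀, map_natCast]

end Nice

section Lattice

variable {p : ℕ} [Fact p.Prime] {k : Type u} [Field k] [CharP k p] [PerfectRing k p]
variable {N : Type v} [AddCommGroup N] [Module (WittVector p k) N] [Module K(p, k) N]
  [IsScalarTower (WittVector p k) K(p, k) N]
variable {ρ : K(p, k) →+* K(p, k)}

local notation "W" => WittVector p k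
local notation "L" => K(p, k)

theorem mem_pPow {r : ℤ} {M : Submodule W N} {y : N} :
    y ∈ pPow r M ↔ ∃ x ∈ M, ((p : L) ^ r) • x = y :=
  Submodule.mem_smul_pointwise_iff_exists _ _ _

theorem p_ne_zero : (p : L) ≠ 0 := by
  have h : (p : L) = algebraMap W L (p : W) := (map_natCast _ _).symm
  rw [h, Ne, map_eq_zero_iff _ (IsFractionRing.injective W L)]
  exact WittVector.p_nonzero p k

theorem natCast_zpow_smul (c : ℕ) (x : N) : ((p : L) ^ (c : ℤ)) • x = ((p : W) ^ c) • x := by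
  rw [zpow_natCast, ← algebraMap_smul L ((p : W) ^ c) x, map_pow, map_natCast]

theorem pPow_zero (M : Submodule W N) : pPow 0 M = M := by
  ext y; rw [mem_pPow]; simp

theorem pPow_pPow (r s : ℤ) (M : Submodule W N) : pPow r (pPow s M) = pPow (r + s) M := by
  ext y
  simp only [mem_pPow]
  constructor
  · rintro ⟨x, ⟨z, hz, rfl⟩, rfl⟩
    exact ⟨z, hz, by rw [zpow_add₀ p_ne_zero, mul_smul]⟩
  · rintro ⟨z, hz, rfl⟩
    exact ⟨_, ⟨z, hz, rfl⟩, by rw [zpow_add₀ p_ne_zero, mul_smul]⟩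

theorem pPow_mono (r : ℤ) {M M' : Submodule W N} (h : M ≤ M') : pPow r M ≤ pPow r M' := by
  intro y
  simp only [mem_pPow]
  rintro ⟨x, hx, rfl⟩
  exact ⟨x, h hx, rfl⟩

theorem pPow_natCast_le (c : ℕ) (M : Submodule W N) : pPow (c : ℤ) M ≤ M := by
  intro y
  rw [mem_pPow]
  rintro ⟨x, hx, rfl⟩
  rw [natCast_zpow_smul]
  exact M.smul_mem _ hx

theorem pPow_anti {r r' : ℤ} (h : r ≤ r') (M : Submodule W N) : pPow r' M ≤ pPow r M := by
  obtain ⟨c, hc⟩ := Int.eq_ofNat_of_zero_le (sub_nonneg.mpr h)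
  have : r' = r + (c : ℤ) := by omega
  rw [this, ← pPow_pPow]
  exact pPow_mono r (pPow_natCast_le c M)

theorem pPow_le_iff {r : ℤ} {A B : Submodule W N} : pPow r A ≤ B ↔ A ≤ pPow (-r) B := by
  constructor
  · intro h
    have := pPow_mono (-r) h
    rwa [pPow_pPow, neg_add_cancel, pPow_zero] at this
  · intro h
    have := pPow_mono r h
    rwa [pPow_pPow, add_neg_cancel, pPow_zero] at this

theorem pPow_le_pPow_iff {r : ℤ} {A B : Submodule W N} : pPow r A ≤ pPow r B ↔ A ≤ B := by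
  rw [pPow_le_iff, pPow_pPow, neg_add_cancel, pPow_zero]

theorem pPow_injective (r : ℤ) {A B : Submodule W N} (h : pPow r A = pPow r B) : A = B :=
  le_antisymm (pPow_le_pPow_iff.mp h.le) (pPow_le_pPow_iff.mp h.ge)

/-! ### images under semilinear maps -/

theorem iterate_add_apply' (G : N →ₛₗ[ρ] N) (s : ℕ) (x y : N) :
    (⇑G)^[s] (x + y) = (⇑G)^[s] x + (⇑G)^[s] y := (iter G s).map_add x y

theorem iterate_smul_apply' (G : N →ₛₗ[ρ] N) (s : ℕ) (c : L) (x : N) :
    (⇑G)^[s] (c • x) = (ρ ^ s) c • (⇑G)^[s] x := (iter G s).map_smulₛₗ c x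

theorem iterate_zero_apply' (G : N →ₛₗ[ρ] N) (s : ℕ) : (⇑G)^[s] (0 : N) = 0 := (iter G s).map_zero

theorem mem_latImg (hρ : Nice ρ) (G : N →ₛₗ[ρ] N) (s : ℕ) (M : Submodule W N) {y : N} :
    y ∈ latImg G s M ↔ ∃ x ∈ M, (⇑G)^[s] x = y := by
  constructor
  · intro hy
    refine Submodule.span_induction (p := fun y _ => ∃ x ∈ M, (⇑G)^[s] x = y) ?_ ?_ ?_ ?_ hy
    · rintro _ ⟨x, hx, rfl⟩; exact ⟨x, hx, rfl⟩
    · exact ⟨0, M.zero_mem, iterate_zero_apply' G s⟩
    · rintro _ _ _ _ ⟨x₁, h₁, rfl⟩ ⟨x₂, h₂, rfl⟩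
      exact ⟨x₁ + x₂, M.add_mem h₁ h₂, iterate_add_apply' G s x₁ x₂⟩
    · rintro w _ _ ⟨x, hx, rfl⟩
      obtain ⟨w', hw'⟩ := (hρ.pow s).surj_W w
      refine ⟨w' • x, M.smul_mem _ hx, ?_⟩
      rw [← algebraMap_smul L w' x, iterate_smul_apply', hw', algebraMap_smul]
  · rintro ⟨x, hx, rfl⟩
    exact Submodule.subset_span ⟨x, hx, rfl⟩

theorem latImg_mono (G : N →ₛₗ[ρ] N) (s : ℕ) {M M' : Submodule W N} (h : M ≤ M') :
    latImg G s M ≤ latImg G s M' :=
  Submodule.span_mono (Set.image_mono h)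

theorem latImg_zero (G : N →ₛₗ[ρ] N) (M : Submodule W N) : latImg G 0 M = M := by
  simp [latImg]

theorem latImg_add (hρ : Nice ρ) (G : N →ₛₗ[ρ] N) (s t : ℕ) (M : Submodule W N) :
    latImg G (s + t) M = latImg G s (latImg G t M) := by
  ext y
  simp only [mem_latImg hρ]
  constructor
  · rintro ⟨x, hx, rfl⟩
    exact ⟨_, ⟨x, hx, rfl⟩, (Function.iterate_add_apply _ s t x).symm⟩
  · rintro ⟨_, ⟨x, hx, rfl⟩, rfl⟩
    exact ⟨x, hx, Function.iterate_add_apply _ s t x⟩

theorem latImg_pPow (hρ : Nice ρ) (G : N →ₛₗ[ρ] N) (s : ℕ) (r : ℤ) (M : Submodule W N) :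
    latImg G s (pPow r M) = pPow r (latImg G s M) := by
  ext y
  simp only [mem_latImg hρ, mem_pPow]
  constructor
  · rintro ⟨_, ⟨x, hx, rfl⟩, rfl⟩
    exact ⟨_, ⟨x, hx, rfl⟩, by rw [iterate_smul_apply', map_p_zpow]⟩
  · rintro ⟨_, ⟨x, hx, rfl⟩, rfl⟩
    exact ⟨_, ⟨x, hx, rfl⟩, by rw [iterate_smul_apply', map_p_zpow]⟩

/-! ### lattices -/

theorem exists_pow_mul_eq_algebraMap (l : L) :
    ∃ (c : ℕ) (w : W), (p : L) ^ c * l = algebraMap W L w := by
  obtain ⟨a, b, hb, rfl⟩ := IsFractionRing.div_surjective (A := W) l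
  have hb0 : b ≠ 0 := nonZeroDivisors.ne_zero hb
  obtain ⟨m, u, hu⟩ := WittVector.exists_eq_pow_p_mul' b hb0
  refine ⟨m, a * ((u⁻¹ : (W)ˣ) : W), ?_⟩
  have hbL : algebraMap W L b ≠ 0 := by
    rwa [Ne, map_eq_zero_iff _ (IsFractionRing.injective W L)]
  rw [mul_div_assoc', eq_comm, eq_div_iff hbL, ← map_mul]
  have : a * ((u⁻¹ : (W)ˣ) : W) * b = (p : W) ^ m * a := by
    rw [hu]
    have := u.inv_mul
    calc a * ((u⁻¹ : (W)ˣ) : W) * ((p : W) ^ m * (u : W))
        = (p : W) ^ m * a * (((u⁻¹ : (W)ˣ) : W) * (u : W)) := by ring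
      _ = (p : W) ^ m * a := by rw [Units.inv_mul, mul_one]
  rw [this, map_mul, map_pow, map_natCast]

/-- every vector in the `L`-span of `M` is moved into `M` by a power of `p`. -/
theorem exists_pow_smul_mem_of_mem_span (M : Submodule W N) (x : N)
    (hx : x ∈ Submodule.span L (M : Set N)) : ∃ c : ℕ, ((p : W) ^ c) • x ∈ M := by
  refine Submodule.span_induction (p := fun x _ => ∃ c : ℕ, ((p : W) ^ c) • x ∈ M) ?_ ?_ ?_ ?_ hx
  · intro x hx; exact ⟨0, by simpa using hx⟩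
  · exact ⟨0, by simp⟩
  · rintro x y _ _ ⟨c₁, h₁⟩ ⟨c₂, h₂⟩
    refine ⟨c₁ + c₂, ?_⟩
    rw [smul_add]
    refine M.add_mem ?_ ?_
    · rw [pow_add, mul_comm, mul_smul]; exact M.smul_mem _ h₁
    · rw [pow_add, mul_smul]; exact M.smul_mem _ h₂
  · rintro l x _ ⟨c, hc⟩
    obtain ⟨c', w, hw⟩ := exists_pow_mul_eq_algebraMap (p := p) (k := k) l
    refine ⟨c' + c, ?_⟩
    have : ((p : W) ^ (c' + c)) • (l • x) = w • (((p : W) ^ c) • x) := by
      rw [← algebraMap_smul L ((p : W) ^ (c' + c)), ← algebraMap_smul L w,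
        ← algebraMap_smul L ((p : W) ^ c), ← hw, smul_smul, smul_smul, map_pow, map_pow,
        map_natCast, pow_add]
      congr 1; ring
    rw [this]
    exact M.smul_mem _ hc

/-- every vector is moved into a lattice by a power of `p`. -/
theorem exists_pow_smul_mem (M : Submodule W N) (hM : Submodule.span L (M : Set N) = ⊤) (x : N) :
    ∃ c : ℕ, ((p : W) ^ c) • x ∈ M :=
  exists_pow_smul_mem_of_mem_span M x (by rw [hM]; trivial)

/-- commensurability: a finitely generated submodule inside the `L`-span of `M₂` is moved into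
`M₂` by a power of `p`. -/
theorem exists_pPow_le_of_le_span (M₁ M₂ : Submodule W N) (h₁ : M₁.FG)
    (h₂ : (M₁ : Set N) ⊆ Submodule.span L (M₂ : Set N)) : ∃ c : ℕ, pPow (c : ℤ) M₁ ≤ M₂ := by
  classical
  obtain ⟨S, rfl⟩ := h₁
  have hS : ∀ x ∈ S, ∃ c : ℕ, ((p : W) ^ c) • x ∈ M₂ := fun x hx =>
    exists_pow_smul_mem_of_mem_span M₂ x (h₂ (Submodule.subset_span hx))
  choose! f hf using hS
  refine ⟨∑ x ∈ S, f x, ?_⟩
  intro y
  rw [mem_pPow]
  rintro ⟨x, hx, rfl⟩
  rw [natCast_zpow_smul]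
  refine Submodule.span_induction (p := fun x _ => ((p : W) ^ (∑ x ∈ S, f x)) • x ∈ M₂)
    ?_ ?_ ?_ ?_ hx
  · intro x hxS
    have hle : f x ≤ ∑ x ∈ S, f x := Finset.single_le_sum (f := f) (fun _ _ => Nat.zero_le _) hxS
    obtain ⟨j, hj⟩ := Nat.exists_eq_add_of_le hle
    rw [hj, add_comm, pow_add, mul_smul]
    exact M₂.smul_mem _ (hf x hxS)
  · simp
  · intro x y _ _ hx hy; rw [smul_add]; exact M₂.add_mem hx hy
  · intro w x _ hx; rw [smul_comm]; exact M₂.smul_mem _ hx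

theorem exists_pPow_le (M₁ M₂ : Submodule W N) (h₁ : M₁.FG)
    (h₂ : Submodule.span L (M₂ : Set N) = ⊤) : ∃ c : ℕ, pPow (c : ℤ) M₁ ≤ M₂ :=
  exists_pPow_le_of_le_span M₁ M₂ h₁ (by rw [h₂]; exact fun _ _ => trivial)

theorem exists_le_pPow_neg (M₁ M₂ : Submodule W N) (h₁ : M₁.FG)
    (h₂ : Submodule.span L (M₂ : Set N) = ⊤) : ∃ c : ℕ, M₁ ≤ pPow (-(c : ℤ)) M₂ := by
  obtain ⟨c, hc⟩ := exists_pPow_le M₁ M₂ h₁ h₂
  exact ⟨c, pPow_le_iff.mp hc⟩

theorem pPow_one_eq (M : Submodule W N) :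
    pPow 1 M = (Ideal.span {(p : W)} : Ideal W) • M := by
  rw [Submodule.ideal_span_singleton_smul]
  ext y
  rw [mem_pPow, Submodule.mem_smul_pointwise_iff_exists]
  have : ∀ x : N, ((p : L) ^ (1 : ℤ)) • x = (p : W) • x := by
    intro x
    have := natCast_zpow_smul (p := p) (k := k) 1 x
    simpa using this
  simp only [this]

theorem p_mem_jacobson : (Ideal.span {(p : W)} : Ideal W) ≤ Ideal.jacobson ⊥ := by
  rw [IsLocalRing.jacobson_eq_maximalIdeal ⊥ bot_ne_top, Ideal.span_singleton_le_iff_mem,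
    IsLocalRing.mem_maximalIdeal]
  exact (WittVector.irreducible p).not_isUnit

/-- Nakayama: a finitely generated submodule contained in `p` times itself is zero. -/
theorem eq_bot_of_le_pPow_one (M : Submodule W N) (hfg : M.FG) (h : M ≤ pPow 1 M) : M = ⊥ := by
  rw [pPow_one_eq] at h
  exact Submodule.eq_bot_of_le_smul_of_le_jacobson_bot _ M hfg h p_mem_jacobson

theorem ne_bot_of_span_eq_top [Nontrivial N] (M : Submodule W N)
    (hM : Submodule.span L (M : Set N) = ⊤) : M ≠ ⊥ := by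
  rintro rfl
  have : (⊤ : Submodule L N) = ⊥ := by rw [← hM]; simp
  exact top_ne_bot this

theorem le_of_pPow_le_pPow' (M : Submodule W N) (hfg : M.FG) (hne : M ≠ ⊥) {r r' : ℤ}
    (h : pPow r M ≤ pPow r' M) : r' ≤ r := by
  by_contra hlt
  push Not at hlt
  have h1 : pPow r M ≤ pPow (r + 1) M := h.trans (pPow_anti (by omega) M)
  have h2 : M ≤ pPow 1 M := by
    have := pPow_mono (-r) h1
    rwa [pPow_pPow, pPow_pPow, neg_add_cancel, pPow_zero, neg_add_cancel_left] at this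
  exact hne (eq_bot_of_le_pPow_one M hfg h2)

theorem le_of_pPow_le_pPow [Nontrivial N] (M : Submodule W N) (hfg : M.FG)
    (hM : Submodule.span L (M : Set N) = ⊤) {r r' : ℤ} (h : pPow r M ≤ pPow r' M) : r' ≤ r :=
  le_of_pPow_le_pPow' M hfg (ne_bot_of_span_eq_top M hM) h

theorem pPow_fg (r : ℤ) {M : Submodule W N} (hfg : M.FG) : (pPow r M).FG := by
  obtain ⟨S, rfl⟩ := hfg
  have : pPow r (Submodule.span W (S : Set N)) =
      Submodule.span W (((p : L) ^ r) • (S : Set N)) := by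
    rw [pPow, Submodule.smul_span]
  rw [this]
  exact Submodule.fg_span ((Finset.finite_toSet S).image _)

theorem pPow_span_eq_top (r : ℤ) {M : Submodule W N}
    (hM : Submodule.span L (M : Set N) = ⊤) : Submodule.span L (pPow r M : Set N) = ⊤ := by
  rw [eq_top_iff, ← hM, Submodule.span_le]
  intro x hx
  have h1 : ((p : L) ^ r) • x ∈ pPow r M := mem_pPow.mpr ⟨x, hx, rfl⟩
  have h2 : x = ((p : L) ^ (-r)) • (((p : L) ^ r) • x) := by
    rw [smul_smul, ← zpow_add₀ p_ne_zero, neg_add_cancel, zpow_zero, one_smul]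
  rw [h2]
  exact Submodule.smul_mem _ _ (Submodule.subset_span h1)

theorem isLattice_pPow (r : ℤ) {M : Submodule W N} (hM : M.IsLattice L) :
    (pPow r M).IsLattice L :=
  ⟨pPow_fg r hM.fg, pPow_span_eq_top r hM.span_eq_top⟩

theorem latImg_fg (hρ : Nice ρ) (G : N →ₛₗ[ρ] N) (s : ℕ) {M : Submodule W N} (hfg : M.FG) :
    (latImg G s M).FG := by
  classical
  obtain ⟨S, rfl⟩ := hfg
  refine ⟨S.image (⇑G)^[s], ?_⟩
  apply le_antisymm
  · rw [Submodule.span_le]
    intro y hy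
    simp only [Finset.coe_image, Set.mem_image, Finset.mem_coe] at hy
    obtain ⟨x, hx, rfl⟩ := hy
    exact Submodule.subset_span ⟨x, Submodule.subset_span hx, rfl⟩
  · intro y hy
    rw [mem_latImg hρ] at hy
    obtain ⟨x, hx, rfl⟩ := hy
    refine Submodule.span_induction
      (p := fun x _ => (⇑G)^[s] x ∈ Submodule.span W ((S.image (⇑G)^[s] : Finset N) : Set N))
      ?_ ?_ ?_ ?_ hx
    · intro x hxS
      exact Submodule.subset_span (by simpa using ⟨x, hxS, rfl⟩)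
    · rw [iterate_zero_apply']; exact Submodule.zero_mem _
    · intro x y _ _ hx hy; rw [iterate_add_apply']; exact Submodule.add_mem _ hx hy
    · intro w x _ hx
      obtain ⟨w', hw'⟩ := (hρ.pow s).map_W w
      rw [← algebraMap_smul L w x, iterate_smul_apply', hw', algebraMap_smul]
      exact Submodule.smul_mem _ _ hx

theorem latImg_span_eq_top (G : N →ₛₗ[ρ] N) (hG : Function.Surjective G) (s : ℕ)
    {M : Submodule W N} (hM : Submodule.span L (M : Set N) = ⊤) :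
    Submodule.span L (latImg G s M : Set N) = ⊤ := by
  rw [eq_top_iff]
  intro y _
  obtain ⟨x, rfl⟩ := (hG.iterate s) y
  have hx : x ∈ Submodule.span L (M : Set N) := by rw [hM]; trivial
  refine Submodule.span_induction
    (p := fun x _ => (⇑G)^[s] x ∈ Submodule.span L (latImg G s M : Set N)) ?_ ?_ ?_ ?_ hx
  · intro x hx
    exact Submodule.subset_span (Submodule.subset_span ⟨x, hx, rfl⟩)
  · rw [iterate_zero_apply']; exact Submodule.zero_mem _
  · intro x y _ _ hx hy; rw [iterate_add_apply']; exact Submodule.add_mem _ hx hy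
  · intro l x _ hx
    rw [iterate_smul_apply']
    exact Submodule.smul_mem _ _ hx

theorem isLattice_latImg (hρ : Nice ρ) (G : N →ₛₗ[ρ] N) (hG : Function.Surjective G) (s : ℕ)
    {M : Submodule W N} (hM : M.IsLattice L) : (latImg G s M).IsLattice L :=
  ⟨latImg_fg hρ G s hM.fg, latImg_span_eq_top G hG s hM.span_eq_top⟩

end Lattice

end Groth.Agent.Helper8.IsocH
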