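import Mathlib
import Groth.Prelude.Def_Isoc
import Groth.Agent.Helper8.IsocBasic

/-!
# Orders of iterates on lattices (helper8)
-/

set_option autoImplicit false
set_option linter.unusedSectionVars false

noncomputable section

open scoped Pointwise Isocrystal
open Filter Topology

universe u v

namespace Groth.Agent.Helper8.IsocH

open Isoc

variable {p : ℕ} [Fact p.Prime] {k : Type u} [Field k] [CharP k p] [PerfectRing k p]
variable {N : Type v} [AddCommGroup N] [Module (WittVector p k) N] [Module K(p, k) N]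
  [IsScalarTower (WittVector p k) K(p, k) N]
variable {ρ : K(p, k) →+* K(p, k)}

local notation "W" => WittVector p k
local notation "L" => K(p, k)

theorem isOrd_le_iff {M : Submodule W N} {G : N →ₛₗ[ρ] N} {s : ℕ} {r : ℤ} (h : IsOrd M G s r)
    {j : ℤ} : latImg G s M ≤ pPow j M ↔ j ≤ r := by
  constructor
  · intro hj
    by_contra hlt
    push Not at hlt
    exact h.2 (hj.trans (pPow_anti (by omega) M))
  · intro hj
    exact h.1.trans (pPow_anti hj M)

theorem isOrd_unique {M : Submodule W N} {G : N →ₛₗ[ρ] N} {s : ℕ} {r r' : ℤ} (h : IsOrd M G s r)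
    (h' : IsOrd M G s r') : r = r' :=
  le_antisymm ((isOrd_le_iff h').mp h.1) ((isOrd_le_iff h).mp h'.1)

theorem nontrivial_of_isOrd {M : Submodule W N} {G : N →ₛₗ[ρ] N} {s : ℕ} {r : ℤ}
    (h : IsOrd M G s r) : Nontrivial N := by
  by_contra hN
  rw [not_nontrivial_iff_subsingleton] at hN
  apply h.2
  intro x _
  have : x = 0 := Subsingleton.elim _ _
  rw [this]; exact Submodule.zero_mem _

theorem exists_isOrd [Nontrivial N] (hρ : Nice ρ) (G : N →ₛₗ[ρ] N) (hG : Function.Surjective G)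
    (M : Submodule W N) (hM : M.IsLattice L) (s : ℕ) : ∃ r : ℤ, IsOrd M G s r := by
  have hlat := isLattice_latImg hρ G hG s hM
  obtain ⟨c, hc⟩ := exists_le_pPow_neg (latImg G s M) M hlat.fg hM.span_eq_top
  obtain ⟨c', hc'⟩ := exists_pPow_le M (latImg G s M) hM.fg hlat.span_eq_top
  obtain ⟨ub, hub, hmax⟩ := Int.exists_greatest_of_bdd
    (P := fun r : ℤ => latImg G s M ≤ pPow r M)
    ⟨c', fun z hz => le_of_pPow_le_pPow M hM.fg hM.span_eq_top (hc'.trans hz)⟩ ⟨_, hc⟩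
  refine ⟨ub, hub, fun h => ?_⟩
  have := hmax _ h
  omega

theorem isOrd_add_le (hρ : Nice ρ) {M : Submodule W N} {G : N →ₛₗ[ρ] N} {m n : ℕ} {a b c : ℤ}
    (ha : IsOrd M G m a) (hb : IsOrd M G n b) (hc : IsOrd M G (m + n) c) : a + b ≤ c := by
  rw [← isOrd_le_iff hc, latImg_add hρ]
  calc latImg G m (latImg G n M) ≤ latImg G m (pPow b M) := latImg_mono G m hb.1
    _ = pPow b (latImg G m M) := latImg_pPow hρ G m b M
    _ ≤ pPow b (pPow a M) := pPow_mono b ha.1
    _ = pPow (a + b) M := by rw [pPow_pPow, add_comm]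

theorem exists_bound [Nontrivial N] (hρ : Nice ρ) (G : N →ₛₗ[ρ] N) (hG : Function.Surjective G)
    (M : Submodule W N) (hM : M.IsLattice L) :
    ∃ C : ℕ, ∀ (n : ℕ) (r : ℤ), latImg G n M ≤ pPow r M → r ≤ n * C := by
  have hlat := isLattice_latImg hρ G hG 1 hM
  obtain ⟨C, hC⟩ := exists_pPow_le M (latImg G 1 M) hM.fg hlat.span_eq_top
  refine ⟨C, ?_⟩
  have key : ∀ n : ℕ, pPow ((n : ℤ) * C) M ≤ latImg G n M := by
    intro n
    induction n with
    | zero => simp [pPow_zero, latImg_zero]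
    | succ n ih =>
      have e : ((n + 1 : ℕ) : ℤ) * C = (C : ℤ) + (n : ℤ) * C := by push_cast; ring
      rw [e, ← pPow_pPow, latImg_add hρ]
      calc pPow (C : ℤ) (pPow ((n : ℤ) * C) M) ≤ pPow (C : ℤ) (latImg G n M) := pPow_mono _ ih
        _ = latImg G n (pPow (C : ℤ) M) := (latImg_pPow hρ G n _ M).symm
        _ ≤ latImg G n (latImg G 1 M) := latImg_mono G n hC
  intro n r hr
  exact le_of_pPow_le_pPow M hM.fg hM.span_eq_top ((key n).trans hr)

/-- Fekete: the orders of the iterates divided by `n` converge. -/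
theorem exists_tendsto_of_isOrd (hρ : Nice ρ) (G : N →ₛₗ[ρ] N) (hG : Function.Surjective G)
    (M : Submodule W N) (hM : M.IsLattice L) (o : ℕ → ℤ)
    (ho : ∀ n : ℕ, 1 ≤ n → IsOrd M G n (o n)) :
    ∃ lam : ℝ, Tendsto (fun n : ℕ => (o n : ℝ) / n) atTop (𝓝 lam) := by
  have : Nontrivial N := nontrivial_of_isOrd (ho 1 le_rfl)
  obtain ⟨C, hC⟩ := exists_bound hρ G hG M hM
  let u : ℕ → ℝ := fun n => if n = 0 then 0 else -(o n : ℝ)
  have hu : Subadditive u := by
    intro m n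
    by_cases hm : m = 0
    · subst hm; simp [u]
    by_cases hn : n = 0
    · subst hn; simp [u]
    have hmn : m + n ≠ 0 := by omega
    simp only [u, if_neg hm, if_neg hn, if_neg hmn]
    have := isOrd_add_le hρ (ho m (by omega)) (ho n (by omega)) (ho (m + n) (by omega))
    have h' : ((o m + o n : ℤ) : ℝ) ≤ (o (m + n) : ℝ) := by exact_mod_cast this
    push_cast at h'
    linarith
  have hbdd : BddBelow (Set.range fun n => u n / n) := by
    refine ⟨-(C : ℝ), ?_⟩
    rintro _ ⟨n, rfl⟩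
    by_cases hn : n = 0
    · subst hn; simp [u]
    simp only [u, if_neg hn]
    have hn' : (0 : ℝ) < n := by exact_mod_cast Nat.pos_of_ne_zero hn
    have h1 := hC n (o n) (ho n (by omega)).1
    have h2 : (o n : ℝ) ≤ (n : ℝ) * C := by exact_mod_cast h1
    rw [le_div_iff₀ hn']
    nlinarith
  refine ⟨-hu.lim, ?_⟩
  have := (hu.tendsto_lim hbdd).neg
  refine this.congr fun n => ?_
  by_cases hn : n = 0
  · subst hn; simp [u]
  · simp only [u, if_neg hn]; ring

theorem isOrd_compare (hρ : Nice ρ) {M₁ M₂ : Submodule W N} {G : N →ₛₗ[ρ] N} {n : ℕ}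
    {c c' a b : ℤ} (h12 : pPow c M₁ ≤ M₂) (h21 : pPow c' M₂ ≤ M₁)
    (ha : IsOrd M₁ G n a) (hb : IsOrd M₂ G n b) : a - c - c' ≤ b := by
  rw [← isOrd_le_iff hb]
  calc latImg G n M₂ ≤ latImg G n (pPow (-c') M₁) := latImg_mono G n (pPow_le_iff.mp h21)
    _ = pPow (-c') (latImg G n M₁) := latImg_pPow hρ G n _ M₁
    _ ≤ pPow (-c') (pPow a M₁) := pPow_mono _ ha.1
    _ ≤ pPow (-c') (pPow a (pPow (-c) M₂)) := pPow_mono _ (pPow_mono _ (pPow_le_iff.mp h12))
    _ = pPow (a - c - c') M₂ := by rw [pPow_pPow, pPow_pPow]; congr 1; ring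

/-- The limit of `ord_M(G^n)/n` does not depend on the lattice. -/
theorem lim_unique (hρ : Nice ρ) (G : N →ₛₗ[ρ] N)
    (M₁ M₂ : Submodule W N) (hM₁ : M₁.IsLattice L) (hM₂ : M₂.IsLattice L)
    (o₁ o₂ : ℕ → ℤ) (ho₁ : ∀ n : ℕ, 1 ≤ n → IsOrd M₁ G n (o₁ n))
    (ho₂ : ∀ n : ℕ, 1 ≤ n → IsOrd M₂ G n (o₂ n)) (lam₁ lam₂ : ℝ)
    (h₁ : Tendsto (fun n : ℕ => (o₁ n : ℝ) / n) atTop (𝓝 lam₁))
    (h₂ : Tendsto (fun n : ℕ => (o₂ n : ℝ) / n) atTop (𝓝 lam₂)) : lam₁ = lam₂ := by
  obtain ⟨c, hc⟩ := exists_pPow_le M₁ M₂ hM₁.fg hM₂.span_eq_top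
  obtain ⟨c', hc'⟩ := exists_pPow_le M₂ M₁ hM₂.fg hM₁.span_eq_top
  have hbound : ∀ n : ℕ, 1 ≤ n → |(o₂ n : ℝ) - o₁ n| ≤ (c : ℝ) + c' := by
    intro n hn
    have e1 := isOrd_compare hρ hc hc' (ho₁ n hn) (ho₂ n hn)
    have e2 := isOrd_compare hρ hc' hc (ho₂ n hn) (ho₁ n hn)
    have e1' : (o₁ n : ℝ) - c - c' ≤ o₂ n := by exact_mod_cast e1
    have e2' : (o₂ n : ℝ) - c' - c ≤ o₁ n := by exact_mod_cast e2
    rw [abs_le]; constructor <;> linarith
  have hdiff : Tendsto (fun n : ℕ => ((o₂ n : ℝ) - o₁ n) / n) atTop (𝓝 0) := by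
    have hz : Tendsto (fun n : ℕ => ((c : ℝ) + c') / n) atTop (𝓝 0) :=
      tendsto_const_div_atTop_nhds_zero_nat _
    refine squeeze_zero_norm' ?_ hz
    filter_upwards [eventually_ge_atTop 1] with n hn
    rw [norm_div, Real.norm_eq_abs, Real.norm_natCast]
    have hn' : (0 : ℝ) < n := by exact_mod_cast hn
    exact div_le_div_of_nonneg_right (hbound n hn) hn'.le
  have h₂' : Tendsto (fun n : ℕ => (o₂ n : ℝ) / n) atTop (𝓝 (lam₁ + 0)) := by
    refine (h₁.add hdiff).congr fun n => ?_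
    ring
  rw [add_zero] at h₂'
  exact tendsto_nhds_unique h₂' h₂

/-! ### twisted iterates -/

theorem iterate_twist (F : N →ₛₗ[ρ] N) (m : ℤ) (n j : ℕ) (x : N) :
    (⇑((p : L) ^ m • iter F n))^[j] x = ((p : L) ^ (m * j)) • (⇑F)^[n * j] x := by
  induction j with
  | zero => simp
  | succ j ih =>
    rw [Function.iterate_succ_apply', ih, LinearMap.smul_apply, LinearMap.map_smulₛₗ, map_p_zpow,
      iter_apply, ← Function.iterate_add_apply, smul_smul, ← zpow_add₀ p_ne_zero]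
    congr 2
    · push_cast; ring
    · ring

theorem latImg_twist (hρ : Nice ρ) (F : N →ₛₗ[ρ] N) (m : ℤ) (n j : ℕ) (M : Submodule W N) :
    latImg ((p : L) ^ m • iter F n) j M = pPow (m * j) (latImg F (n * j) M) := by
  ext y
  simp only [mem_latImg (hρ.pow n), mem_latImg hρ, mem_pPow, iterate_twist]
  constructor
  · rintro ⟨x, hx, rfl⟩
    exact ⟨_, ⟨x, hx, rfl⟩, rfl⟩
  · rintro ⟨_, ⟨x, hx, rfl⟩, rfl⟩
    exact ⟨x, hx, rfl⟩

theorem isOrd_twist_iff (hρ : Nice ρ) (F : N →ₛₗ[ρ] N) (m : ℤ) (n j : ℕ) (M : Submodule W N)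
    (r : ℤ) : IsOrd M ((p : L) ^ m • iter F n) j r ↔ IsOrd M F (n * j) (r - m * j) := by
  have key : ∀ r : ℤ, latImg ((p : L) ^ m • iter F n) j M ≤ pPow r M ↔
      latImg F (n * j) M ≤ pPow (r - m * j) M := by
    intro r
    rw [latImg_twist hρ, pPow_le_iff, pPow_pPow]
    have : -(m * (j : ℤ)) + r = r - m * j := by ring
    rw [this]
  unfold IsOrd
  rw [key, key]
  have : r + 1 - m * (j : ℤ) = r - m * j + 1 := by ring
  rw [this]

theorem isOrd_zero_iff [Nontrivial N] (G : N →ₛₗ[ρ] N) (M : Submodule W N) (hM : M.IsLattice L)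
    (r : ℤ) : IsOrd M G 0 r ↔ r = 0 := by
  unfold IsOrd
  rw [latImg_zero]
  constructor
  · rintro ⟨h1, h2⟩
    have h1' : pPow 0 M ≤ pPow r M := by rwa [pPow_zero]
    have e1 := le_of_pPow_le_pPow M hM.fg hM.span_eq_top h1'
    by_contra hne
    apply h2
    have : r + 1 ≤ 0 := by omega
    have := pPow_anti this M
    rwa [pPow_zero] at this
  · rintro rfl
    refine ⟨by rw [pPow_zero], fun h => ?_⟩
    have h' : pPow 0 M ≤ pPow (0 + 1) M := by rwa [pPow_zero]
    have := le_of_pPow_le_pPow M hM.fg hM.span_eq_top h'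
    omega

theorem isFirstSlope_twist (hρ : Nice ρ) (F : N →ₛₗ[ρ] N) (lam : ℝ)
    (hlam : IsFirstSlope F lam) (m : ℤ) (n : ℕ) :
    IsFirstSlope ((p : L) ^ m • iter F n) (n * lam + m) := by
  obtain ⟨M, hM, o, ho, hlim⟩ := hlam
  have : Nontrivial N := nontrivial_of_isOrd (ho 1 le_rfl)
  refine ⟨M, hM, ?_⟩
  rcases Nat.eq_zero_or_pos n with hn | hn
  · subst hn
    refine ⟨fun j => m * j, ?_, ?_⟩
    · intro j _
      rw [isOrd_twist_iff hρ, zero_mul, isOrd_zero_iff F M hM]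
      ring
    · have : (fun j : ℕ => (((m * j : ℤ)) : ℝ) / j) =ᶠ[atTop] fun _ => ((0 : ℕ) : ℝ) * lam + m := by
        filter_upwards [eventually_ge_atTop 1] with j hj
        have hj' : (j : ℝ) ≠ 0 := by positivity
        push_cast
        field_simp
        ring
      exact (tendsto_congr' this).mpr tendsto_const_nhds
  · refine ⟨fun j => o (n * j) + m * j, ?_, ?_⟩
    · intro j hj
      rw [isOrd_twist_iff hρ]
      have : o (n * j) + m * j - m * j = o (n * j) := by ring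
      rw [this]
      exact ho (n * j) (Nat.mul_pos hn (by omega))
    · have hsub : Tendsto (fun j : ℕ => n * j) atTop atTop :=
        tendsto_id.const_mul_atTop' hn
      have h1 := hlim.comp hsub
      have h2 : Tendsto (fun j : ℕ => (n : ℝ) * ((o (n * j) : ℝ) / ((n * j : ℕ) : ℝ)) + m) atTop
          (𝓝 (n * lam + m)) := (h1.const_mul (n : ℝ)).add_const (m : ℝ)
      refine (tendsto_congr' ?_).mpr h2
      filter_upwards [eventually_ge_atTop 1] with j hj
      have hj' : (j : ℝ) ≠ 0 := by positivity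
      have hn' : (n : ℝ) ≠ 0 := by positivity
      push_cast
      field_simp

end Groth.Agent.Helper8.IsocH
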