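import Mathlib
import Groth.Prelude.Def_Isoc
import Groth.Agent.Helper8.IsocOrd

/-!
# Determinants of semilinear maps and lattices (helper8)
-/

set_option autoImplicit false
set_option linter.unusedSectionVars false

noncomputable section

open scoped Pointwise Isocrystal
open Filter Topology Module

universe u v

namespace Groth.Agent.Helper8.IsocH

open Isoc

variable {p : ℕ} [Fact p.Prime] {k : Type u} [Field k] [CharP k p] [PerfectRing k p]
variable {N : Type v} [AddCommGroup N] [Module (WittVector p k) N] [Module K(p, k) N]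
  [IsScalarTower (WittVector p k) K(p, k) N]
variable {ρ : K(p, k) →+* K(p, k)}

local notation "W" => WittVector p k
local notation "L" => K(p, k)

/-! ### `IsOrdP` -/

theorem isOrdP_ne_zero {x : L} {r : ℤ} (h : IsOrdP x r) : x ≠ 0 := by
  obtain ⟨u, rfl⟩ := h
  refine mul_ne_zero (zpow_ne_zero _ p_ne_zero) ?_
  rw [Ne, map_eq_zero_iff _ (IsFractionRing.injective W L)]
  exact u.ne_zero

theorem isOrdP_mul {x y : L} {r s : ℤ} (hx : IsOrdP x r) (hy : IsOrdP y s) :
    IsOrdP (x * y) (r + s) := by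
  obtain ⟨u, rfl⟩ := hx
  obtain ⟨v, rfl⟩ := hy
  refine ⟨u * v, ?_⟩
  rw [zpow_add₀ p_ne_zero, Units.val_mul, map_mul]
  ring

theorem isOrdP_one : IsOrdP (1 : L) 0 := ⟨1, by simp⟩

theorem isOrdP_inv {x : L} {r : ℤ} (hx : IsOrdP x r) : IsOrdP x⁻¹ (-r) := by
  obtain ⟨u, rfl⟩ := hx
  refine ⟨u⁻¹, ?_⟩
  rw [mul_inv, zpow_neg]
  congr 1
  symm
  apply eq_inv_of_mul_eq_one_left
  rw [← map_mul, Units.inv_mul, map_one]

theorem isOrdP_p_zpow (r : ℤ) : IsOrdP ((p : L) ^ r) r := ⟨1, by simp⟩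

theorem isOrdP_map (hρ : Nice ρ) {x : L} {r : ℤ} (hx : IsOrdP x r) : IsOrdP (ρ x) r := by
  obtain ⟨u, rfl⟩ := hx
  obtain ⟨w, hw⟩ := hρ.map_W (u : W)
  obtain ⟨w', hw'⟩ := hρ.map_W ((u⁻¹ : (W)ˣ) : W)
  have h1 : w * w' = 1 := by
    apply IsFractionRing.injective W L
    rw [map_mul, ← hw, ← hw', ← map_mul, ← map_mul, Units.mul_inv, map_one, map_one]
  refine ⟨⟨w, w', h1, by rw [mul_comm]; exact h1⟩, ?_⟩
  rw [map_mul, map_p_zpow, hw]

theorem exists_isOrdP {x : L} (hx : x ≠ 0) : ∃ r : ℤ, IsOrdP x r := by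
  obtain ⟨c, w, hw⟩ := exists_pow_mul_eq_algebraMap (p := p) (k := k) x
  have hw0 : w ≠ 0 := by
    rintro rfl
    rw [map_zero] at hw
    exact (mul_ne_zero (pow_ne_zero _ p_ne_zero) hx) hw
  obtain ⟨m, u, hu⟩ := WittVector.exists_eq_pow_p_mul' w hw0
  refine ⟨(m : ℤ) - c, u, ?_⟩
  have hpc : ((p : L) ^ c) ≠ 0 := pow_ne_zero _ p_ne_zero
  have : x = ((p : L) ^ c)⁻¹ * algebraMap W L w := by
    rw [← hw, inv_mul_cancel_left₀ hpc]
  rw [this, hu, map_mul, map_pow, map_natCast, zpow_sub₀ p_ne_zero, zpow_natCast, zpow_natCast]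
  field_simp

theorem le_of_isOrdP_mul {m d : ℤ} {w : W} (h : IsOrdP ((p : L) ^ m * algebraMap W L w) d) :
    m ≤ d := by
  obtain ⟨u, hu⟩ := h
  by_contra hlt
  push Not at hlt
  obtain ⟨c, hc⟩ := Int.eq_ofNat_of_zero_le (show (0 : ℤ) ≤ m - d - 1 by omega)
  have hm : m = d + ((c + 1 : ℕ) : ℤ) := by push_cast; omega
  rw [hm, zpow_add₀ p_ne_zero, mul_assoc] at hu
  have h2 := mul_left_cancel₀ (zpow_ne_zero d (p_ne_zero (p := p) (k := k))) hu
  rw [zpow_natCast, ← map_natCast (algebraMap W L), ← map_pow, ← map_mul] at h2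
  have h3 := IsFractionRing.injective W L h2
  have hunit : IsUnit ((p : W) ^ (c + 1) * w) := h3 ▸ u.isUnit
  have : IsUnit ((p : W) ^ (c + 1)) := isUnit_of_mul_isUnit_left hunit
  rw [isUnit_pow_succ_iff] at this
  exact (WittVector.irreducible p).not_isUnit this

theorem isOrdP_unique {x : L} {r s : ℤ} (hr : IsOrdP x r) (hs : IsOrdP x s) : r = s := by
  obtain ⟨u, hu⟩ := hr
  have h1 : r ≤ s := le_of_isOrdP_mul (w := (u : W)) (hu ▸ hs)
  obtain ⟨v, hv⟩ := hs
  have h2 : s ≤ r := le_of_isOrdP_mul (w := (v : W)) (hv ▸ (⟨u, hu⟩ : IsOrdP x r))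
  omega

/-! ### the matrix of a semilinear map -/

variable {h : ℕ}

/-- the matrix of a semilinear map in a basis -/
def smat (b : Basis (Fin h) L N) (G : N →ₛₗ[ρ] N) : Matrix (Fin h) (Fin h) L :=
  Matrix.of fun i j => b.repr (G (b j)) i

theorem detCoeff_eq (b : Basis (Fin h) L N) (G : N →ₛₗ[ρ] N) : detCoeff b G = (smat b G).det :=
  rfl

theorem repr_apply_semilinear (b : Basis (Fin h) L N) (G : N →ₛₗ[ρ] N) (x : N) (i : Fin h) :
    b.repr (G x) i = ∑ j, smat b G i j * ρ (b.repr x j) := by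
  conv_lhs => rw [← b.sum_repr x]
  rw [map_sum, map_sum, Finsupp.coe_finsetSum, Finset.sum_apply]
  refine Finset.sum_congr rfl fun j _ => ?_
  rw [LinearMap.map_smulₛₗ, map_smul, Finsupp.smul_apply, smul_eq_mul, mul_comm]
  rfl

theorem smat_comp {ρ₁ ρ₂ ρ₁₂ : L →+* L} (b : Basis (Fin h) L N) (G₁ : N →ₛₗ[ρ₁] N)
    (G₂ : N →ₛₗ[ρ₂] N) (G₁₂ : N →ₛₗ[ρ₁₂] N) (hG : ∀ x, G₁₂ x = G₁ (G₂ x)) :
    smat b G₁₂ = smat b G₁ * (smat b G₂).map ρ₁ := by
  ext i j
  rw [Matrix.mul_apply]
  change b.repr (G₁₂ (b j)) i = _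
  rw [hG, repr_apply_semilinear]
  rfl

theorem smat_iter_zero (b : Basis (Fin h) L N) (F : N →ₛₗ[ρ] N) : smat b (iter F 0) = 1 := by
  ext i j
  change b.repr ((⇑F)^[0] (b j)) i = _
  rw [Function.iterate_zero, id, b.repr_self, Matrix.one_apply, Finsupp.single_apply]
  simp [eq_comm]

theorem detCoeff_iter_succ (b : Basis (Fin h) L N) (F : N →ₛₗ[ρ] N) (n : ℕ) :
    detCoeff b (iter F (n + 1)) = detCoeff b F * ρ (detCoeff b (iter F n)) := by
  rw [detCoeff_eq, detCoeff_eq, detCoeff_eq,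
    smat_comp b F (iter F n) (iter F (n + 1)) (fun x => Function.iterate_succ_apply' _ _ _),
    Matrix.det_mul, RingHom.map_det]
  rfl

theorem isOrdP_detCoeff_iter (hρ : Nice ρ) (b : Basis (Fin h) L N) (F : N →ₛₗ[ρ] N) {d : ℤ}
    (hd : IsOrdP (detCoeff b F) d) (n : ℕ) : IsOrdP (detCoeff b (iter F n)) (n * d) := by
  induction n with
  | zero =>
    rw [detCoeff_eq, smat_iter_zero, Matrix.det_one]
    simpa using isOrdP_one
  | succ n ih =>
    rw [detCoeff_iter_succ]
    have := isOrdP_mul hd (isOrdP_map hρ ih)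
    have e : d + (n : ℤ) * d = ((n + 1 : ℕ) : ℤ) * d := by push_cast; ring
    rwa [e] at this

theorem smat_change (b e : Basis (Fin h) L N) (G : N →ₛₗ[ρ] N) :
    smat b G * (b.toMatrix e).map ρ = b.toMatrix e * smat e G := by
  ext l j
  rw [Matrix.mul_apply, Matrix.mul_apply]
  have h1 : b.repr (G (e j)) l = ∑ i, smat b G l i * ρ (b.repr (e j) i) :=
    repr_apply_semilinear b G (e j) l
  have h2 : b.repr (G (e j)) l = ∑ i, b.toMatrix e l i * smat e G i j := by
    conv_lhs => rw [← e.sum_repr (G (e j))]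
    rw [map_sum, Finsupp.coe_finsetSum, Finset.sum_apply]
    refine Finset.sum_congr rfl fun i _ => ?_
    rw [map_smul, Finsupp.smul_apply, smul_eq_mul, mul_comm]
    rfl
  rw [← h2, h1]
  rfl

theorem det_toMatrix_ne_zero (b e : Basis (Fin h) L N) : (b.toMatrix e).det ≠ 0 := by
  have := congrArg Matrix.det (Basis.toMatrix_mul_toMatrix_flip b e)
  rw [Matrix.det_mul, Matrix.det_one] at this
  exact left_ne_zero_of_mul_eq_one this

/-- the order of the determinant coefficient does not depend on the basis -/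
theorem isOrdP_detCoeff_change (hρ : Nice ρ) (b e : Basis (Fin h) L N) (G : N →ₛₗ[ρ] N) {d : ℤ}
    (hd : IsOrdP (detCoeff b G) d) : IsOrdP (detCoeff e G) d := by
  have h1 := congrArg Matrix.det (smat_change b e G)
  rw [Matrix.det_mul, Matrix.det_mul] at h1
  have h2 : ((b.toMatrix e).map ρ).det = ρ (b.toMatrix e).det := (RingHom.map_det ρ _).symm
  rw [h2] at h1
  have hP := det_toMatrix_ne_zero b e
  obtain ⟨m, hm⟩ := exists_isOrdP hP
  have h3 : detCoeff e G = detCoeff b G * ρ (b.toMatrix e).det * ((b.toMatrix e).det)⁻¹ := by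
    rw [detCoeff_eq, detCoeff_eq, h1, mul_comm ((b.toMatrix e).det), mul_assoc,
      mul_inv_cancel₀ hP, mul_one]
  rw [h3]
  have := isOrdP_mul (isOrdP_mul hd (isOrdP_map hρ hm)) (isOrdP_inv hm)
  have e' : d + m + -m = d := by ring
  rwa [e'] at this

/-! ### bases adapted to lattices -/

theorem exists_basis_of_isLattice (M : Submodule W N) (hM : M.IsLattice L)
    (b : Basis (Fin h) L N) :
    ∃ e : Basis (Fin h) L N, M = Submodule.span W (Set.range e) := by
  classical
  let bW := Module.Free.chooseBasis W M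
  let eL := bW.extendOfIsLattice L
  have hcard : Fintype.card (Module.Free.ChooseBasisIndex W M) = Fintype.card (Fin h) := by
    rw [← Module.finrank_eq_card_basis eL, ← Module.finrank_eq_card_basis b]
  let σ := Fintype.equivOfCardEq hcard
  refine ⟨eL.reindex σ, ?_⟩
  have h1 : Set.range (eL.reindex σ) = Set.range eL := Basis.range_reindex eL σ
  have h2 : Set.range eL = M.subtype '' Set.range bW := by
    ext x
    simp only [Set.mem_range, Set.mem_image, Submodule.subtype_apply]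
    constructor
    · rintro ⟨i, rfl⟩
      exact ⟨bW i, ⟨i, rfl⟩, (Basis.extendOfIsLattice_apply L bW i).symm⟩
    · rintro ⟨_, ⟨i, rfl⟩, rfl⟩
      exact ⟨i, Basis.extendOfIsLattice_apply L bW i⟩
  rw [h1, h2, ← Submodule.map_span, bW.span_eq, Submodule.map_top, Submodule.range_subtype]

theorem repr_sum_smul (e : Basis (Fin h) L N) (c : Fin h → W) (i : Fin h) :
    e.repr (∑ j, c j • e j) i = algebraMap W L (c i) := by
  classical
  rw [map_sum, Finsupp.coe_finsetSum, Finset.sum_apply, Finset.sum_eq_single i]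
  · rw [← algebraMap_smul L (c i) (e i), map_smul, e.repr_self, Finsupp.smul_apply,
      Finsupp.single_eq_same, smul_eq_mul, mul_one]
  · intro j _ hj
    rw [← algebraMap_smul L (c j) (e j), map_smul, e.repr_self, Finsupp.smul_apply,
      Finsupp.single_eq_of_ne hj.symm, smul_zero]
  · intro hi; exact absurd (Finset.mem_univ i) hi

theorem mem_span_range_iff_repr (e : Basis (Fin h) L N) (x : N) :
    x ∈ Submodule.span W (Set.range e) ↔ ∀ i, ∃ w : W, e.repr x i = algebraMap W L w := by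
  constructor
  · intro hx
    obtain ⟨c, rfl⟩ := (Submodule.mem_span_range_iff_exists_fun W).mp hx
    intro i
    exact ⟨c i, repr_sum_smul e c i⟩
  · intro hx
    choose c hc using hx
    have : x = ∑ i, c i • e i := by
      apply e.repr.injective
      ext i
      rw [repr_sum_smul, hc]
    rw [this]
    exact Submodule.sum_mem _ fun i _ => Submodule.smul_mem _ _ (Submodule.subset_span ⟨i, rfl⟩)

theorem mem_pPow_span_range_iff_repr (e : Basis (Fin h) L N) (r : ℤ) (x : N) :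
    x ∈ pPow r (Submodule.span W (Set.range e)) ↔
      ∀ i, ∃ w : W, e.repr x i = (p : L) ^ r * algebraMap W L w := by
  rw [mem_pPow]
  constructor
  · rintro ⟨z, hz, rfl⟩ i
    obtain ⟨w, hw⟩ := (mem_span_range_iff_repr e z).mp hz i
    exact ⟨w, by rw [map_smul, Finsupp.smul_apply, smul_eq_mul, hw]⟩
  · intro hx
    refine ⟨((p : L) ^ (-r)) • x, ?_, ?_⟩
    · rw [mem_span_range_iff_repr]
      intro i
      obtain ⟨w, hw⟩ := hx i
      refine ⟨w, ?_⟩
      rw [map_smul, Finsupp.smul_apply, smul_eq_mul, hw, ← mul_assoc, ← zpow_add₀ p_ne_zero,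
        neg_add_cancel, zpow_zero, one_mul]
    · rw [smul_smul, ← zpow_add₀ p_ne_zero, add_neg_cancel, zpow_zero, one_smul]

theorem latImg_one (G : N →ₛₗ[ρ] N) (M : Submodule W N) {y : N} (hρ : Nice ρ) :
    y ∈ latImg G 1 M ↔ ∃ x ∈ M, G x = y := by
  rw [mem_latImg hρ]; rfl

theorem exists_smat_eq (hρ : Nice ρ) (e : Basis (Fin h) L N) (G : N →ₛₗ[ρ] N) (r : ℤ)
    (hle : latImg G 1 (Submodule.span W (Set.range e)) ≤
      pPow r (Submodule.span W (Set.range e))) :
    ∃ C : Matrix (Fin h) (Fin h) W, smat e G = (p : L) ^ r • C.map (algebraMap W L) := by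
  have key : ∀ j i, ∃ w : W, e.repr (G (e j)) i = (p : L) ^ r * algebraMap W L w := by
    intro j
    rw [← mem_pPow_span_range_iff_repr]
    apply hle
    rw [latImg_one G _ hρ]
    exact ⟨e j, Submodule.subset_span ⟨j, rfl⟩, rfl⟩
  choose C hC using key
  refine ⟨Matrix.of fun i j => C j i, ?_⟩
  ext i j
  change e.repr (G (e j)) i = _
  rw [hC]
  rfl

theorem det_smul_map (C : Matrix (Fin h) (Fin h) W) (r : ℤ) :
    ((p : L) ^ r • C.map (algebraMap W L)).det = (p : L) ^ (r * h) * algebraMap W L C.det := by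
  rw [Matrix.det_smul, Fintype.card_fin, ← zpow_natCast, ← zpow_mul, RingHom.map_det]
  rfl

theorem mul_le_of_latImg_le (hρ : Nice ρ) (e : Basis (Fin h) L N) (G : N →ₛₗ[ρ] N) (r : ℤ)
    (hle : latImg G 1 (Submodule.span W (Set.range e)) ≤
      pPow r (Submodule.span W (Set.range e))) {d : ℤ} (hd : IsOrdP (detCoeff e G) d) :
    r * h ≤ d := by
  obtain ⟨C, hC⟩ := exists_smat_eq hρ e G r hle
  rw [detCoeff_eq, hC, det_smul_map] at hd
  exact le_of_isOrdP_mul hd

theorem isUnit_of_isOrdP_mul {m : ℤ} {w : W} (hd : IsOrdP ((p : L) ^ m * algebraMap W L w) m) :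
    IsUnit w := by
  obtain ⟨u, hu⟩ := hd
  have h2 := mul_left_cancel₀ (zpow_ne_zero m (p_ne_zero (p := p) (k := k))) hu
  have h3 := IsFractionRing.injective W L h2
  rw [h3]; exact u.isUnit

theorem latImg_eq_of_isOrdP (hρ : Nice ρ) (e : Basis (Fin h) L N) (G : N →ₛₗ[ρ] N) (r : ℤ)
    (hle : latImg G 1 (Submodule.span W (Set.range e)) ≤
      pPow r (Submodule.span W (Set.range e))) (hd : IsOrdP (detCoeff e G) (r * h)) :
    latImg G 1 (Submodule.span W (Set.range e)) = pPow r (Submodule.span W (Set.range e)) := by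
  classical
  apply le_antisymm hle
  obtain ⟨C, hC⟩ := exists_smat_eq hρ e G r hle
  rw [detCoeff_eq, hC, det_smul_map] at hd
  have hCu : IsUnit C.det := isUnit_of_isOrdP_mul hd
  -- twisted inverse
  choose D hD using fun i j => hρ.surj_W (C⁻¹ i j)
  have hx : ∀ j, G (∑ i, D i j • e i) = ((p : L) ^ r) • e j := by
    intro j
    apply e.repr.injective
    ext l
    rw [repr_apply_semilinear, hC, map_smul, Finsupp.smul_apply, e.repr_self]
    have : ∀ i, ((p : L) ^ r • C.map (algebraMap W L)) l i * ρ (e.repr (∑ i, D i j • e i) i) =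
        (p : L) ^ r * algebraMap W L (C l i * C⁻¹ i j) := by
      intro i
      rw [repr_sum_smul, hD, Matrix.smul_apply, Matrix.map_apply, smul_eq_mul, map_mul, mul_assoc]
    rw [Finset.sum_congr rfl fun i _ => this i, ← Finset.mul_sum, ← map_sum]
    have h1 : ∑ i, C l i * C⁻¹ i j = (1 : Matrix (Fin h) (Fin h) W) l j := by
      rw [← Matrix.mul_apply, Matrix.mul_nonsing_inv C hCu]
    rw [h1, Matrix.one_apply, Finsupp.single_apply, smul_eq_mul]
    by_cases hlj : l = j
    · subst hlj; simp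
    · rw [if_neg hlj, if_neg (Ne.symm hlj)]; simp
  intro y hy
  rw [mem_pPow] at hy
  obtain ⟨z, hz, rfl⟩ := hy
  obtain ⟨c, rfl⟩ := (Submodule.mem_span_range_iff_exists_fun W).mp hz
  rw [Finset.smul_sum]
  refine Submodule.sum_mem _ fun j _ => ?_
  rw [smul_comm]
  refine Submodule.smul_mem _ _ ?_
  rw [latImg_one G _ hρ]
  exact ⟨_, Submodule.sum_mem _ fun i _ =>
    Submodule.smul_mem _ _ (Submodule.subset_span ⟨i, rfl⟩), hx j⟩

theorem isOrdP_of_latImg_eq (hρ : Nice ρ) (e : Basis (Fin h) L N) (G : N →ₛₗ[ρ] N) (r : ℤ)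
    (heq : latImg G 1 (Submodule.span W (Set.range e)) =
      pPow r (Submodule.span W (Set.range e))) : IsOrdP (detCoeff e G) (r * h) := by
  classical
  obtain ⟨C, hC⟩ := exists_smat_eq hρ e G r heq.le
  -- preimages of p^r e_j
  have key : ∀ j, ∃ x ∈ Submodule.span W (Set.range e), G x = ((p : L) ^ r) • e j := by
    intro j
    rw [← latImg_one G _ hρ, heq, mem_pPow]
    exact ⟨e j, Submodule.subset_span ⟨j, rfl⟩, rfl⟩
  choose x hxM hx using key
  have hcoef : ∀ j i, ∃ w : W, ρ (e.repr (x j) i) = algebraMap W L w := by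
    intro j i
    obtain ⟨w, hw⟩ := (mem_span_range_iff_repr e (x j)).mp (hxM j) i
    obtain ⟨w', hw'⟩ := hρ.map_W w
    exact ⟨w', by rw [hw, hw']⟩
  choose D hD using hcoef
  have hprod : C * Matrix.of (fun i j => D j i) = 1 := by
    apply Matrix.ext
    intro l j
    apply IsFractionRing.injective W L
    have h1 : e.repr (G (x j)) l = e.repr (((p : L) ^ r) • e j) l := by rw [hx j]
    rw [repr_apply_semilinear, hC, map_smul, Finsupp.smul_apply, e.repr_self] at h1
    have : ∀ i, ((p : L) ^ r • C.map (algebraMap W L)) l i * ρ (e.repr (x j) i) =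
        (p : L) ^ r * algebraMap W L (C l i * D j i) := by
      intro i
      rw [hD, Matrix.smul_apply, Matrix.map_apply, smul_eq_mul, map_mul, mul_assoc]
    rw [Finset.sum_congr rfl fun i _ => this i, ← Finset.mul_sum, ← map_sum, smul_eq_mul] at h1
    have h2 := mul_left_cancel₀ (zpow_ne_zero r (p_ne_zero (p := p) (k := k))) h1
    rw [Matrix.mul_apply]
    simp only [Matrix.of_apply]
    rw [h2, Matrix.one_apply, Finsupp.single_apply]
    by_cases hlj : l = j
    · subst hlj; simp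
    · rw [if_neg hlj, if_neg (Ne.symm hlj)]; simp
  have hdet : C.det * (Matrix.of (fun i j => D j i)).det = 1 := by
    rw [← Matrix.det_mul, hprod, Matrix.det_one]
  have hu : IsUnit C.det := IsUnit.of_mul_eq_one _ hdet
  rw [detCoeff_eq, hC, det_smul_map]
  exact ⟨hu.unit, by rw [IsUnit.unit_spec]⟩

theorem latImg_iter_one (F : N →ₛₗ[ρ] N) (n : ℕ) (M : Submodule W N) :
    latImg (iter F n) 1 M = latImg F n M := by
  unfold latImg
  rw [Function.iterate_one, coe_iter]

theorem latImg_le_pPow_mul (hρ : Nice ρ) (G : N →ₛₗ[ρ] N) {M : Submodule W N} {r : ℤ}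
    (h1 : latImg G 1 M ≤ pPow r M) (n : ℕ) : latImg G n M ≤ pPow (n * r) M := by
  induction n with
  | zero => simp [latImg_zero, pPow_zero]
  | succ n ih =>
    rw [latImg_add hρ]
    calc latImg G n (latImg G 1 M) ≤ latImg G n (pPow r M) := latImg_mono G n h1
      _ = pPow r (latImg G n M) := latImg_pPow hρ G n r M
      _ ≤ pPow r (pPow (n * r) M) := pPow_mono r ih
      _ = pPow (((n + 1 : ℕ) : ℤ) * r) M := by rw [pPow_pPow]; congr 1; push_cast; ring

/-- `ord_M(F^n) · h ≤ n · orddet(F)`. -/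
theorem mul_le_mul_of_latImg_le (hρ : Nice ρ) (F : N →ₛₗ[ρ] N) (b : Basis (Fin h) L N) {d : ℤ}
    (hd : IsOrdP (detCoeff b F) d) (M : Submodule W N) (hM : M.IsLattice L) (n : ℕ) (rn : ℤ)
    (hle : latImg F n M ≤ pPow rn M) : rn * h ≤ n * d := by
  obtain ⟨e, rfl⟩ := exists_basis_of_isLattice M hM b
  have hd' := isOrdP_detCoeff_iter hρ e F (isOrdP_detCoeff_change hρ b e F hd) n
  refine mul_le_of_latImg_le (hρ.pow n) e (iter F n) rn ?_ hd'
  rwa [latImg_iter_one]

/-- if `F^s M = p^r M` then `r · h = s · orddet(F)`. -/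
theorem mul_eq_mul_of_latImg_eq (hρ : Nice ρ) (F : N →ₛₗ[ρ] N) (b : Basis (Fin h) L N) {d : ℤ}
    (hd : IsOrdP (detCoeff b F) d) (M : Submodule W N) (hM : M.IsLattice L) (s : ℕ) (r : ℤ)
    (heq : latImg F s M = pPow r M) : r * h = s * d := by
  obtain ⟨e, rfl⟩ := exists_basis_of_isLattice M hM b
  have hd' := isOrdP_detCoeff_iter hρ e F (isOrdP_detCoeff_change hρ b e F hd) s
  have hd'' := isOrdP_of_latImg_eq (hρ.pow s) e (iter F s) r (by rwa [latImg_iter_one])
  exact isOrdP_unique hd'' hd'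

theorem detCoeff_iter_eq_zero (b : Basis (Fin h) L N) (F : N →ₛₗ[ρ] N)
    (h0 : detCoeff b F = 0) (n : ℕ) (hn : 0 < n) : detCoeff b (iter F n) = 0 := by
  obtain ⟨m, rfl⟩ := Nat.exists_eq_succ_of_ne_zero hn.ne'
  rw [detCoeff_iter_succ, h0, zero_mul]

/-- if `F^s M = p^r M` (`s > 0`) then `r · h = s · d'` for some integer `d'`. -/
theorem exists_mul_eq_of_latImg_eq (hρ : Nice ρ) (F : N →ₛₗ[ρ] N) (b : Basis (Fin h) L N)
    (M : Submodule W N) (hM : M.IsLattice L) (s : ℕ) (hs : 0 < s) (r : ℤ)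
    (heq : latImg F s M = pPow r M) : ∃ d' : ℤ, r * h = s * d' := by
  obtain ⟨e, rfl⟩ := exists_basis_of_isLattice M hM b
  have hd'' := isOrdP_of_latImg_eq (hρ.pow s) e (iter F s) r (by rwa [latImg_iter_one])
  have hne : detCoeff e F ≠ 0 := by
    intro h0
    exact isOrdP_ne_zero hd'' (detCoeff_iter_eq_zero e F h0 s hs)
  obtain ⟨d', hd'⟩ := exists_isOrdP hne
  exact ⟨d', isOrdP_unique hd'' (isOrdP_detCoeff_iter hρ e F hd' s)⟩

end Groth.Agent.Helper8.IsocH
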