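import Mathlib
import Groth.Prelude.Def_Isoc
import Groth.Agent.Helper8.IsocOrd

/-!
# Stable subspaces of isocrystals (helper8)
-/

set_option autoImplicit false
set_option linter.unusedSectionVars false

noncomputable section

open scoped Pointwise Isocrystal
open Filter Topology

universe u v

namespace Groth.Agent.Helper8.IsocH

open Isoc

variable {p : ℕ} [Fact p.Prime] {k : Type u} [Field k] [CharP k p] [PerfectRing k p]
variable {N : Type v} [AddCommGroup N] [Module (WittVector p k) N] [Module K(p, k) N]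
  [IsScalarTower (WittVector p k) K(p, k) N]
variable {ρ : K(p, k) →+* K(p, k)}

local notation "W" => WittVector p k
local notation "L" => K(p, k)

/-- an injective semilinear endomorphism maps a stable finite-dimensional subspace onto itself -/
theorem exists_mem_apply_eq (hρ : Nice ρ) (G : N →ₛₗ[ρ] N) (hG : Function.Injective G)
    (P : Submodule L N) [FiniteDimensional L P] (hP : ∀ x ∈ P, G x ∈ P) {y : N} (hy : y ∈ P) :
    ∃ x ∈ P, G x = y := by
  classical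
  let b := Module.finBasis L P
  let v : Fin (Module.finrank L P) → P := fun i => ⟨G (b i), hP _ (b i).2⟩
  have hli : LinearIndependent L v := by
    rw [Fintype.linearIndependent_iff]
    intro g hg
    choose g' hg' using fun i => hρ.surj (g i)
    have h1 : G (∑ i, g' i • (b i : N)) = 0 := by
      rw [map_sum]
      have := congrArg (Subtype.val) hg
      simp only [Submodule.coe_sum, Submodule.coe_smul, Submodule.coe_zero, v] at this
      rw [← this]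
      refine Finset.sum_congr rfl fun i _ => ?_
      rw [LinearMap.map_smulₛₗ, hg']
    have h2 : ∑ i, g' i • (b i : N) = 0 := hG (by rw [h1, map_zero])
    have h3 : ∑ i, g' i • b i = 0 := by
      apply Subtype.ext
      simpa using h2
    have h4 := (Fintype.linearIndependent_iff.mp b.linearIndependent) g' h3
    intro i
    rw [← hg', h4 i, map_zero]
  have hspan : Submodule.span L (Set.range v) = ⊤ :=
    hli.span_eq_top_of_card_eq_finrank' (by simp)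
  have hy' : (⟨y, hy⟩ : P) ∈ Submodule.span L (Set.range v) := by rw [hspan]; trivial
  obtain ⟨g, hg⟩ := (Submodule.mem_span_range_iff_exists_fun L).mp hy'
  choose g' hg' using fun i => hρ.surj (g i)
  refine ⟨∑ i, g' i • (b i : N), Submodule.sum_mem _ fun i _ => P.smul_mem _ (b i).2, ?_⟩
  have := congrArg (Subtype.val) hg
  simp only [Submodule.coe_sum, Submodule.coe_smul, v] at this
  rw [← this, map_sum]
  refine Finset.sum_congr rfl fun i _ => ?_
  rw [LinearMap.map_smulₛₗ, hg']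

theorem mem_of_apply_mem (hρ : Nice ρ) (G : N →ₛₗ[ρ] N) (hG : Function.Injective G)
    (P : Submodule L N) [FiniteDimensional L P] (hP : ∀ x ∈ P, G x ∈ P) {x : N} (hx : G x ∈ P) :
    x ∈ P := by
  obtain ⟨x', hx', h⟩ := exists_mem_apply_eq hρ G hG P hP hx
  rwa [← hG h]

theorem iterate_mem (G : N →ₛₗ[ρ] N) (P : Submodule L N) (hP : ∀ x ∈ P, G x ∈ P) (s : ℕ) {x : N}
    (hx : x ∈ P) : (⇑G)^[s] x ∈ P := by
  induction s with
  | zero => exact hx
  | succ s ih => rw [Function.iterate_succ_apply']; exact hP _ ih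

theorem mem_of_iterate_mem (hρ : Nice ρ) (G : N →ₛₗ[ρ] N) (hG : Function.Injective G)
    (P : Submodule L N) [FiniteDimensional L P] (hP : ∀ x ∈ P, G x ∈ P) (s : ℕ) {x : N}
    (hx : (⇑G)^[s] x ∈ P) : x ∈ P := by
  induction s with
  | zero => exact hx
  | succ s ih =>
    rw [Function.iterate_succ_apply'] at hx
    exact ih (mem_of_apply_mem hρ G hG P hP hx)

theorem latImg_inf (hρ : Nice ρ) (G : N →ₛₗ[ρ] N) (hG : Function.Injective G)
    (P : Submodule L N) [FiniteDimensional L P] (hP : ∀ x ∈ P, G x ∈ P) (s : ℕ)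
    (M : Submodule W N) :
    latImg G s (M ⊓ P.restrictScalars W) = latImg G s M ⊓ P.restrictScalars W := by
  ext y
  simp only [mem_latImg hρ, Submodule.mem_inf, Submodule.restrictScalars_mem]
  constructor
  · rintro ⟨x, ⟨hxM, hxP⟩, rfl⟩
    exact ⟨⟨x, hxM, rfl⟩, iterate_mem G P hP s hxP⟩
  · rintro ⟨⟨x, hxM, rfl⟩, hy⟩
    exact ⟨x, ⟨hxM, mem_of_iterate_mem hρ G hG P hP s hy⟩, rfl⟩

theorem pPow_inf (r : ℤ) (M : Submodule W N) (P : Submodule L N) :
    pPow r (M ⊓ P.restrictScalars W) = pPow r M ⊓ P.restrictScalars W := by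
  ext y
  simp only [mem_pPow, Submodule.mem_inf, Submodule.restrictScalars_mem]
  constructor
  · rintro ⟨x, ⟨hxM, hxP⟩, rfl⟩
    exact ⟨⟨x, hxM, rfl⟩, P.smul_mem _ hxP⟩
  · rintro ⟨⟨x, hxM, rfl⟩, hy⟩
    refine ⟨x, ⟨hxM, ?_⟩, rfl⟩
    have : x = ((p : L) ^ (-r)) • (((p : L) ^ r) • x) := by
      rw [smul_smul, ← zpow_add₀ p_ne_zero, neg_add_cancel, zpow_zero, one_smul]
    rw [this]
    exact P.smul_mem _ hy

theorem inf_fg (M : Submodule W N) (hfg : M.FG) (A : Submodule W N) : (M ⊓ A).FG := by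
  have : IsNoetherian W M := isNoetherian_of_fg_of_noetherian M hfg
  exact (isNoetherian_submodule.mp this) _ inf_le_left

theorem span_inf_eq (M : Submodule W N) (hM : Submodule.span L (M : Set N) = ⊤)
    (P : Submodule L N) :
    Submodule.span L ((M ⊓ P.restrictScalars W : Submodule W N) : Set N) = P := by
  apply le_antisymm
  · rw [Submodule.span_le]
    intro x hx
    exact hx.2
  · intro x hx
    obtain ⟨c, hc⟩ := exists_pow_smul_mem M hM x
    have h1 : ((p : W) ^ c) • x ∈ (M ⊓ P.restrictScalars W : Submodule W N) := by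
      refine ⟨hc, ?_⟩
      rw [← natCast_zpow_smul]
      exact P.smul_mem _ hx
    have h2 : x = ((p : L) ^ (-(c : ℤ))) • (((p : W) ^ c) • x) := by
      rw [← natCast_zpow_smul, smul_smul, ← zpow_add₀ p_ne_zero, neg_add_cancel, zpow_zero,
        one_smul]
    rw [h2]
    exact Submodule.smul_mem _ _ (Submodule.subset_span h1)

/-- "internal" form of isoclinicity of a stable subspace -/
def IsIsoclinicOn (F : N →ₛₗ[ρ] N) (P : Submodule L N) (μ : ℚ) : Prop :=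
  ∃ M : Submodule W N, M.FG ∧ Submodule.span L (M : Set N) = P ∧
    ∃ (r : ℤ) (s : ℕ), 0 < s ∧ (r : ℚ) / s = μ ∧ latImg F s M = pPow r M

theorem restrict_iterate (F : N →ₛₗ[ρ] N) (P : Submodule L N) (hP : ∀ x ∈ P, F x ∈ P) (s : ℕ)
    (x : P) : (((⇑(F.restrict hP))^[s] x : P) : N) = (⇑F)^[s] (x : N) := by
  induction s with
  | zero => rfl
  | succ s ih =>
    rw [Function.iterate_succ_apply', Function.iterate_succ_apply', LinearMap.coe_restrict_apply, ih]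

theorem isIsoclinic_restrict_iff (hρ : Nice ρ) (F : N →ₛₗ[ρ] N) (P : Submodule L N)
    (hP : ∀ x ∈ P, F x ∈ P) (μ : ℚ) :
    IsIsoclinic (F.restrict hP) μ ↔ IsIsoclinicOn F P μ := by
  let ι : P →ₗ[W] N := P.subtype.restrictScalars W
  have hι : ∀ x : P, ι x = (x : N) := fun _ => rfl
  have hιinj : Function.Injective ι := Subtype.val_injective
  constructor
  · rintro ⟨M', hM', r, s, hs, hrs, hFM'⟩
    refine ⟨M'.map ι, hM'.fg.map ι, ?_, r, s, hs, hrs, ?_⟩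
    · have : ((M'.map ι : Submodule W N) : Set N) = P.subtype '' (M' : Set P) := rfl
      rw [this, Submodule.span_image, hM'.span_eq_top, Submodule.map_top, Submodule.range_subtype]
    · ext y
      rw [mem_latImg hρ, mem_pPow]
      constructor
      · rintro ⟨_, ⟨x, hx, rfl⟩, rfl⟩
        have h1 : (⇑(F.restrict hP))^[s] x ∈ latImg (F.restrict hP) s M' :=
          (mem_latImg hρ _ s M').mpr ⟨x, hx, rfl⟩
        rw [hFM', mem_pPow] at h1
        obtain ⟨z, hz, hz'⟩ := h1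
        refine ⟨ι z, ⟨z, hz, rfl⟩, ?_⟩
        rw [hι, hι, ← restrict_iterate F P hP, ← hz']; rfl
      · rintro ⟨_, ⟨z, hz, rfl⟩, rfl⟩
        have h1 : ((p : L) ^ r) • z ∈ pPow r M' := mem_pPow.mpr ⟨z, hz, rfl⟩
        rw [← hFM', mem_latImg hρ] at h1
        obtain ⟨x, hx, hx'⟩ := h1
        refine ⟨ι x, ⟨x, hx, rfl⟩, ?_⟩
        rw [hι, hι, ← restrict_iterate F P hP, hx']; rfl
  · rintro ⟨M, hfg, hspan, r, s, hs, hrs, hFM⟩
    have hMP : ∀ x ∈ M, x ∈ P := fun x hx => by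
      rw [← hspan]; exact Submodule.subset_span hx
    have hmap : (M.comap ι).map ι = M := by
      rw [Submodule.map_comap_eq]
      apply inf_eq_right.mpr
      intro x hx
      exact ⟨⟨x, hMP x hx⟩, rfl⟩
    refine ⟨M.comap ι, ⟨Submodule.fg_of_fg_map_injective ι hιinj (by rw [hmap]; exact hfg), ?_⟩,
      r, s, hs, hrs, ?_⟩
    · rw [eq_top_iff]
      rintro ⟨x, hx⟩ -
      have hx' : x ∈ Submodule.span L (M : Set N) := by rw [hspan]; exact hx
      obtain ⟨c, hc⟩ := exists_pow_smul_mem_of_mem_span M x hx'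
      have h1 : ((p : W) ^ c) • (⟨x, hx⟩ : P) ∈ M.comap ι := hc
      have h2 : (⟨x, hx⟩ : P) = ((p : L) ^ (-(c : ℤ))) • (((p : W) ^ c) • (⟨x, hx⟩ : P)) := by
        rw [← natCast_zpow_smul (p := p) (k := k) c (⟨x, hx⟩ : P), smul_smul, ← zpow_add₀ p_ne_zero, neg_add_cancel, zpow_zero,
          one_smul]
      rw [h2]
      exact Submodule.smul_mem _ _ (Submodule.subset_span h1)
    · ext y
      rw [mem_latImg hρ, mem_pPow]
      constructor
      · rintro ⟨x, hx, rfl⟩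
        have h1 : (⇑F)^[s] (x : N) ∈ latImg F s M := (mem_latImg hρ F s M).mpr ⟨x, hx, rfl⟩
        rw [hFM, mem_pPow] at h1
        obtain ⟨z, hz, hz'⟩ := h1
        refine ⟨⟨z, hMP z hz⟩, hz, ?_⟩
        apply Subtype.ext
        rw [restrict_iterate, ← hz']; rfl
      · rintro ⟨z, hz, rfl⟩
        have h1 : ((p : L) ^ r) • (z : N) ∈ pPow r M := mem_pPow.mpr ⟨z, hz, rfl⟩
        rw [← hFM, mem_latImg hρ] at h1
        obtain ⟨x, hx, hx'⟩ := h1
        refine ⟨⟨x, hMP x hx⟩, hx, ?_⟩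
        apply Subtype.ext
        rw [restrict_iterate, hx']; rfl

/-- a stable subspace of an isoclinic isocrystal is isoclinic of the same slope -/
theorem isIsoclinicOn_of_isIsoclinic (hρ : Nice ρ) (F : N →ₛₗ[ρ] N) (hF : Function.Injective F)
    (μ : ℚ) (hμ : IsIsoclinic F μ) (P : Submodule L N) [FiniteDimensional L P]
    (hP : ∀ x ∈ P, F x ∈ P) : IsIsoclinicOn F P μ := by
  obtain ⟨M, hM, r, s, hs, hrs, hFM⟩ := hμ
  refine ⟨M ⊓ P.restrictScalars W, inf_fg M hM.fg _, span_inf_eq M hM.span_eq_top P, r, s, hs, hrs,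
    ?_⟩
  rw [latImg_inf hρ F hF P hP, hFM, pPow_inf]

/-! ### iterating lattice equations, sums -/

theorem pPow_bot (r : ℤ) : pPow r (⊥ : Submodule W N) = ⊥ := by
  rw [eq_bot_iff]
  intro y
  rw [mem_pPow]
  rintro ⟨x, hx, rfl⟩
  rw [(Submodule.mem_bot W).mp hx, smul_zero]
  exact Submodule.zero_mem _

theorem latImg_bot (hρ : Nice ρ) (G : N →ₛₗ[ρ] N) (s : ℕ) :
    latImg G s (⊥ : Submodule W N) = ⊥ := by
  rw [eq_bot_iff]
  intro y
  rw [mem_latImg hρ]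
  rintro ⟨x, hx, rfl⟩
  rw [(Submodule.mem_bot W).mp hx, iterate_zero_apply']
  exact Submodule.zero_mem _

theorem pPow_sup (r : ℤ) (A B : Submodule W N) : pPow r (A ⊔ B) = pPow r A ⊔ pPow r B := by
  apply le_antisymm
  · intro y
    rw [mem_pPow]
    rintro ⟨x, hx, rfl⟩
    obtain ⟨a, ha, b, hb, rfl⟩ := Submodule.mem_sup.mp hx
    rw [smul_add]
    exact Submodule.add_mem_sup (mem_pPow.mpr ⟨a, ha, rfl⟩) (mem_pPow.mpr ⟨b, hb, rfl⟩)
  · exact sup_le (pPow_mono r le_sup_left) (pPow_mono r le_sup_right)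

theorem latImg_sup (hρ : Nice ρ) (G : N →ₛₗ[ρ] N) (s : ℕ) (A B : Submodule W N) :
    latImg G s (A ⊔ B) = latImg G s A ⊔ latImg G s B := by
  apply le_antisymm
  · intro y
    rw [mem_latImg hρ]
    rintro ⟨x, hx, rfl⟩
    obtain ⟨a, ha, b, hb, rfl⟩ := Submodule.mem_sup.mp hx
    rw [iterate_add_apply']
    exact Submodule.add_mem_sup ((mem_latImg hρ G s A).mpr ⟨a, ha, rfl⟩)
      ((mem_latImg hρ G s B).mpr ⟨b, hb, rfl⟩)
  · exact sup_le (latImg_mono G s le_sup_left) (latImg_mono G s le_sup_right)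

theorem latImg_mul (hρ : Nice ρ) (G : N →ₛₗ[ρ] N) {s : ℕ} {r : ℤ} {M : Submodule W N}
    (h : latImg G s M = pPow r M) (n : ℕ) : latImg G (s * n) M = pPow (r * n) M := by
  induction n with
  | zero => simp [latImg_zero, pPow_zero]
  | succ n ih =>
    have e : s * (n + 1) = s * n + s := by ring
    rw [e, latImg_add hρ, h, latImg_pPow hρ, ih, pPow_pPow]
    congr 1
    push_cast; ring

theorem slope_le_of_commensurable (hρ : Nice ρ) (G : N →ₛₗ[ρ] N) {Q₁ Q₂ : Submodule W N}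
    (hfg : Q₁.FG) (hne : Q₁ ≠ ⊥) {c c' : ℕ} (h12 : pPow (c : ℤ) Q₁ ≤ Q₂)
    (h21 : pPow (c' : ℤ) Q₂ ≤ Q₁) {s : ℕ} {R₁ R₂ : ℤ} (h₁ : latImg G s Q₁ = pPow R₁ Q₁)
    (h₂ : latImg G s Q₂ = pPow R₂ Q₂) : R₂ ≤ R₁ := by
  have key : ∀ n : ℕ, R₂ * n ≤ (c : ℤ) + c' + R₁ * n := by
    intro n
    apply le_of_pPow_le_pPow' Q₁ hfg hne
    calc pPow ((c : ℤ) + c' + R₁ * n) Q₁
        = latImg G (s * n) (pPow ((c' : ℤ) + c) Q₁) := by
          rw [latImg_pPow hρ, latImg_mul hρ G h₁, pPow_pPow]; congr 1; ring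
      _ ≤ latImg G (s * n) (pPow (c' : ℤ) Q₂) := by
          apply latImg_mono
          rw [← pPow_pPow]
          exact pPow_mono _ h12
      _ = pPow (R₂ * n) (pPow (c' : ℤ) Q₂) := by
          rw [latImg_pPow hρ, latImg_mul hρ G h₂, pPow_pPow, pPow_pPow, add_comm]
      _ ≤ pPow (R₂ * n) Q₁ := pPow_mono _ h21
  have := key (c + c' + 1)
  push_cast at this
  nlinarith

theorem isIsoclinicOn_bot (hρ : Nice ρ) (F : N →ₛₗ[ρ] N) (μ : ℚ) :
    IsIsoclinicOn F (⊥ : Submodule L N) μ := by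
  refine ⟨⊥, Submodule.fg_bot, by simp, μ.num, μ.den, μ.den_pos, Rat.num_div_den μ, ?_⟩
  rw [latImg_bot hρ, pPow_bot]

theorem isIsoclinicOn_sup (hρ : Nice ρ) (F : N →ₛₗ[ρ] N) (μ : ℚ) {P₁ P₂ : Submodule L N}
    (h₁ : IsIsoclinicOn F P₁ μ) (h₂ : IsIsoclinicOn F P₂ μ) : IsIsoclinicOn F (P₁ ⊔ P₂) μ := by
  obtain ⟨M₁, hfg₁, hsp₁, r₁, s₁, hs₁, hrs₁, hFM₁⟩ := h₁
  obtain ⟨M₂, hfg₂, hsp₂, r₂, s₂, hs₂, hrs₂, hFM₂⟩ := h₂
  have hs₁' : (s₁ : ℚ) ≠ 0 := by positivity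
  have hs₂' : (s₂ : ℚ) ≠ 0 := by positivity
  have hR : r₁ * s₂ = r₂ * s₁ := by
    have : (r₁ : ℚ) * s₂ = r₂ * s₁ := by
      rw [← hrs₂] at hrs₁
      field_simp at hrs₁
      linarith
    exact_mod_cast this
  refine ⟨M₁ ⊔ M₂, hfg₁.sup hfg₂, ?_, r₁ * s₂, s₁ * s₂, Nat.mul_pos hs₁ hs₂, ?_, ?_⟩
  · apply le_antisymm
    · rw [Submodule.span_le]
      intro x hx
      obtain ⟨a, ha, b, hb, rfl⟩ := Submodule.mem_sup.mp hx
      refine Submodule.add_mem_sup ?_ ?_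
      · rw [← hsp₁]; exact Submodule.subset_span ha
      · rw [← hsp₂]; exact Submodule.subset_span hb
    · refine sup_le ?_ ?_
      · rw [← hsp₁]; exact Submodule.span_mono (show (M₁ : Set N) ⊆ (M₁ ⊔ M₂ : Submodule W N) from
          (le_sup_left : M₁ ≤ M₁ ⊔ M₂))
      · rw [← hsp₂]; exact Submodule.span_mono (show (M₂ : Set N) ⊆ (M₁ ⊔ M₂ : Submodule W N) from
          (le_sup_right : M₂ ≤ M₁ ⊔ M₂))
  · rw [← hrs₁]
    push_cast
    field_simp
  · rw [latImg_sup hρ, pPow_sup, latImg_mul hρ F hFM₁ s₂]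
    have := latImg_mul hρ F hFM₂ s₁
    rw [mul_comm s₂ s₁] at this
    rw [this, hR]

/-- the "good" subspaces: stable and isoclinic of slope `μ`. -/
theorem mem_slopeSet_iff (hρ : Nice ρ) (F : N →ₛₗ[ρ] N) (μ : ℚ) (P : Submodule L N) :
    (∃ hP : ∀ x ∈ P, F x ∈ P, IsIsoclinic (F.restrict hP) μ) ↔
      (∀ x ∈ P, F x ∈ P) ∧ IsIsoclinicOn F P μ := by
  constructor
  · rintro ⟨hP, h⟩
    exact ⟨hP, (isIsoclinic_restrict_iff hρ F P hP μ).mp h⟩
  · rintro ⟨hP, h⟩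
    exact ⟨hP, (isIsoclinic_restrict_iff hρ F P hP μ).mpr h⟩

theorem slopePart_good (hρ : Nice ρ) (F : N →ₛₗ[ρ] N) [FiniteDimensional L N] (μ : ℚ) :
    (∀ x ∈ slopePart F μ, F x ∈ slopePart F μ) ∧ IsIsoclinicOn F (slopePart F μ) μ := by
  classical
  obtain ⟨t, ht, hsup⟩ := CompleteLattice.WellFoundedGT.isSupFiniteCompact (Submodule L N)
    {P : Submodule L N | ∃ hP : ∀ x ∈ P, F x ∈ P, IsIsoclinic (F.restrict hP) μ}
  unfold slopePart
  rw [hsup]
  refine Finset.sup_induction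
    (p := fun P : Submodule L N => (∀ x ∈ P, F x ∈ P) ∧ IsIsoclinicOn F P μ) ?_ ?_ ?_
  · refine ⟨fun x hx => ?_, isIsoclinicOn_bot hρ F μ⟩
    rw [(Submodule.mem_bot L).mp hx, map_zero]; exact Submodule.zero_mem _
  · rintro P₁ ⟨hst₁, h₁⟩ P₂ ⟨hst₂, h₂⟩
    refine ⟨fun x hx => ?_, isIsoclinicOn_sup hρ F μ h₁ h₂⟩
    obtain ⟨a, ha, b, hb, rfl⟩ := Submodule.mem_sup.mp hx
    rw [map_add]
    exact Submodule.add_mem_sup (hst₁ a ha) (hst₂ b hb)
  · intro P hP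
    exact (mem_slopeSet_iff hρ F μ P).mp (ht hP)

/-! ### morphisms -/

section Hom

universe w

variable {N₂ : Type w} [AddCommGroup N₂] [Module (WittVector p k) N₂] [Module K(p, k) N₂]
  [IsScalarTower (WittVector p k) K(p, k) N₂]

theorem map_pPow (f : N →ₗ[L] N₂) (r : ℤ) (M : Submodule W N) :
    (pPow r M).map (f.restrictScalars W) = pPow r (M.map (f.restrictScalars W)) := by
  ext y
  simp only [Submodule.mem_map, mem_pPow]
  constructor
  · rintro ⟨_, ⟨x, hx, rfl⟩, rfl⟩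
    exact ⟨_, ⟨x, hx, rfl⟩, (f.map_smul _ _).symm⟩
  · rintro ⟨_, ⟨x, hx, rfl⟩, rfl⟩
    exact ⟨_, ⟨x, hx, rfl⟩, f.map_smul _ _⟩

theorem map_iterate_comm (f : N →ₗ[L] N₂) (F₁ : N →ₛₗ[ρ] N) (F₂ : N₂ →ₛₗ[ρ] N₂)
    (hf : ∀ x, f (F₁ x) = F₂ (f x)) (s : ℕ) (x : N) : f ((⇑F₁)^[s] x) = (⇑F₂)^[s] (f x) := by
  induction s with
  | zero => rfl
  | succ s ih => rw [Function.iterate_succ_apply', Function.iterate_succ_apply', hf, ih]

theorem map_latImg (hρ : Nice ρ) (f : N →ₗ[L] N₂) (F₁ : N →ₛₗ[ρ] N) (F₂ : N₂ →ₛₗ[ρ] N₂)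
    (hf : ∀ x, f (F₁ x) = F₂ (f x)) (s : ℕ) (M : Submodule W N) :
    (latImg F₁ s M).map (f.restrictScalars W) = latImg F₂ s (M.map (f.restrictScalars W)) := by
  ext y
  simp only [Submodule.mem_map, mem_latImg hρ]
  constructor
  · rintro ⟨_, ⟨x, hx, rfl⟩, rfl⟩
    exact ⟨_, ⟨x, hx, rfl⟩, (map_iterate_comm f F₁ F₂ hf s x).symm⟩
  · rintro ⟨_, ⟨x, hx, rfl⟩, rfl⟩
    exact ⟨_, ⟨x, hx, rfl⟩, map_iterate_comm f F₁ F₂ hf s x⟩

/-- there are no nonzero morphisms between isoclinic isocrystals of different slopes -/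
theorem hom_eq_zero (hρ : Nice ρ) (F₁ : N →ₛₗ[ρ] N) (F₂ : N₂ →ₛₗ[ρ] N₂)
    (hF₂ : Function.Injective F₂) [FiniteDimensional L N₂]
    (μ₁ μ₂ : ℚ) (hμ₁ : IsIsoclinic F₁ μ₁) (hμ₂ : IsIsoclinic F₂ μ₂) (hne : μ₁ ≠ μ₂)
    (f : N →ₗ[L] N₂) (hf : ∀ x, f (F₁ x) = F₂ (f x)) : f = 0 := by
  obtain ⟨M₁, hM₁, r₁, s₁, hs₁, hrs₁, hFM₁⟩ := hμ₁
  obtain ⟨M₂, hM₂, r₂, s₂, hs₂, hrs₂, hFM₂⟩ := hμ₂
  set fW : N →ₗ[W] N₂ := f.restrictScalars W with hfW
  set Q : Submodule W N₂ := M₁.map fW with hQ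
  set P₂ : Submodule L N₂ := LinearMap.range f with hP₂
  have hP₂st : ∀ y ∈ P₂, F₂ y ∈ P₂ := by
    rintro _ ⟨x, rfl⟩
    exact ⟨F₁ x, hf x⟩
  set M₂' : Submodule W N₂ := M₂ ⊓ P₂.restrictScalars W with hM₂'
  have hQfg : Q.FG := hM₁.fg.map fW
  have hM₂'fg : M₂'.FG := inf_fg M₂ hM₂.fg _
  have hspQ : Submodule.span L (Q : Set N₂) = P₂ := by
    have : (Q : Set N₂) = f '' (M₁ : Set N) := rfl
    rw [this, Submodule.span_image, hM₁.span_eq_top, Submodule.map_top]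
  have hspM₂' : Submodule.span L (M₂' : Set N₂) = P₂ := span_inf_eq M₂ hM₂.span_eq_top P₂
  -- common exponent
  have e₁ : latImg F₁ (s₁ * s₂) M₁ = pPow (r₁ * s₂) M₁ := latImg_mul hρ F₁ hFM₁ s₂
  have e₂ : latImg F₂ (s₁ * s₂) M₂ = pPow (r₂ * s₁) M₂ := by
    rw [mul_comm s₁ s₂]; exact latImg_mul hρ F₂ hFM₂ s₁
  have eQ : latImg F₂ (s₁ * s₂) Q = pPow (r₁ * s₂) Q := by
    rw [hQ, ← map_latImg hρ f F₁ F₂ hf, e₁, map_pPow]
  have eM₂' : latImg F₂ (s₁ * s₂) M₂' = pPow (r₂ * s₁) M₂' := by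
    rw [hM₂', latImg_inf hρ F₂ hF₂ P₂ hP₂st, e₂, pPow_inf]
  obtain ⟨c, hc⟩ := exists_pPow_le_of_le_span Q M₂' hQfg (by
    rw [hspM₂', ← hspQ]; exact Submodule.subset_span)
  obtain ⟨c', hc'⟩ := exists_pPow_le_of_le_span M₂' Q hM₂'fg (by
    rw [hspQ, ← hspM₂']; exact Submodule.subset_span)
  by_cases hQ0 : Q = ⊥
  · -- f vanishes on M₁, hence everywhere
    apply LinearMap.ext_on hM₁.span_eq_top
    intro x hx
    have : f x ∈ Q := ⟨x, hx, rfl⟩
    rw [hQ0] at this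
    simpa using this
  · exfalso
    have hM₂'0 : M₂' ≠ ⊥ := by
      intro h0
      rw [h0] at hc
      have : pPow (c : ℤ) Q = pPow (c : ℤ) ⊥ := by rw [pPow_bot]; exact le_bot_iff.mp hc
      exact hQ0 (pPow_injective _ this)
    have h1 := slope_le_of_commensurable hρ F₂ hQfg hQ0 hc hc' eQ eM₂'
    have h2 := slope_le_of_commensurable hρ F₂ hM₂'fg hM₂'0 hc' hc eM₂' eQ
    have h3 : r₁ * s₂ = r₂ * s₁ := le_antisymm h2 h1
    apply hne
    rw [← hrs₁, ← hrs₂]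
    have hs₁' : (s₁ : ℚ) ≠ 0 := by positivity
    have hs₂' : (s₂ : ℚ) ≠ 0 := by positivity
    have h3' : (r₁ : ℚ) * s₂ = r₂ * s₁ := by exact_mod_cast h3
    field_simp
    linarith

end Hom

end Groth.Agent.Helper8.IsocH
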