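import Mathlib
import Groth.Prelude.Def_Isoc
import Groth.Agent.Helper8.IsocDet
import Groth.Agent.Helper8.IsocSub

/-!
# Volumes of lattices and the effectivity lemma (helper8)
-/

set_option autoImplicit false
set_option linter.unusedSectionVars false

noncomputable section

open scoped Pointwise Isocrystal
open Filter Topology Module

universe u v

namespace Groth.Agent.Helper8.IsocH

open Isoc

variable {p : ℕ} [Fact p.Prime] {k : Type u} [Field k] [CharP k p] [PerfectRing k p]
variable {N : Type v} [AddCommGroup N] [Module (WittVector p k) N] [Module K(p, k) N]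
  [IsScalarTower (WittVector p k) K(p, k) N]
variable {ρ : K(p, k) →+* K(p, k)}

local notation "W" => WittVector p k
local notation "L" => K(p, k)

variable {h : ℕ}

/-- `v` is the volume of the lattice `A` relative to the basis `b`. -/
def IsVol (b : Basis (Fin h) L N) (A : Submodule W N) (v : ℤ) : Prop :=
  ∃ e : Basis (Fin h) L N, A = Submodule.span W (Set.range e) ∧ IsOrdP (b.toMatrix e).det v

theorem exists_isVol (b : Basis (Fin h) L N) (A : Submodule W N) (hA : A.IsLattice L) :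
    ∃ v, IsVol b A v := by
  obtain ⟨e, he⟩ := exists_basis_of_isLattice A hA b
  obtain ⟨v, hv⟩ := exists_isOrdP (det_toMatrix_ne_zero b e)
  exact ⟨v, e, he, hv⟩

/-- monotonicity and strictness of the volume -/
theorem isVol_le (b : Basis (Fin h) L N) {A B : Submodule W N} {a b' : ℤ} (hA : IsVol b A a)
    (hB : IsVol b B b') (hle : A ≤ B) : b' ≤ a ∧ (b' = a → A = B) := by
  classical
  obtain ⟨eA, rfl, hdA⟩ := hA
  obtain ⟨eB, rfl, hdB⟩ := hB
  have hC : ∀ j i, ∃ w : W, eB.repr (eA j) i = algebraMap W L w := by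
    intro j
    rw [← mem_span_range_iff_repr]
    exact hle (Submodule.subset_span ⟨j, rfl⟩)
  choose C' hC' using hC
  set C : Matrix (Fin h) (Fin h) W := Matrix.of fun i j => C' j i with hCdef
  have hmat : eB.toMatrix eA = C.map (algebraMap W L) := by
    ext i j
    rw [Basis.toMatrix_apply, hC']
    rfl
  have hdet : (b.toMatrix eA).det = (b.toMatrix eB).det * algebraMap W L C.det := by
    rw [← Basis.toMatrix_mul_toMatrix b eB eA, Matrix.det_mul, hmat, RingHom.map_det]
    rfl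
  have hB0 := isOrdP_ne_zero hdB
  have hord : IsOrdP ((p : L) ^ (0 : ℤ) * algebraMap W L C.det) (a - b') := by
    have h1 : algebraMap W L C.det = (b.toMatrix eA).det * ((b.toMatrix eB).det)⁻¹ := by
      rw [hdet, mul_comm ((b.toMatrix eB).det), mul_assoc, mul_inv_cancel₀ hB0, mul_one]
    rw [zpow_zero, one_mul, h1]
    have := isOrdP_mul hdA (isOrdP_inv hdB)
    rwa [← sub_eq_add_neg] at this
  have h0 : (0 : ℤ) ≤ a - b' := le_of_isOrdP_mul hord
  refine ⟨by omega, fun heq => ?_⟩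
  have hord' : IsOrdP ((p : L) ^ (0 : ℤ) * algebraMap W L C.det) 0 := by
    have : a - b' = 0 := by omega
    rwa [this] at hord
  have hu : IsUnit C.det := isUnit_of_isOrdP_mul hord'
  apply le_antisymm hle
  rw [Submodule.span_le]
  rintro _ ⟨l, rfl⟩
  rw [SetLike.mem_coe, mem_span_range_iff_repr]
  intro i
  refine ⟨C⁻¹ i l, ?_⟩
  have h1 : eA.toMatrix eB * eB.toMatrix eA = 1 := Basis.toMatrix_mul_toMatrix_flip eA eB
  have h2 : eB.toMatrix eA * (C⁻¹).map (algebraMap W L) = 1 := by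
    rw [hmat, ← Matrix.map_mul, Matrix.mul_nonsing_inv C hu]
    exact Matrix.map_one _ (map_zero _) (map_one _)
  have h3 : eA.toMatrix eB = (C⁻¹).map (algebraMap W L) := by
    calc eA.toMatrix eB = eA.toMatrix eB * (eB.toMatrix eA * (C⁻¹).map (algebraMap W L)) := by
          rw [h2, Matrix.mul_one]
      _ = (C⁻¹).map (algebraMap W L) := by rw [← Matrix.mul_assoc, h1, Matrix.one_mul]
  rw [← Basis.toMatrix_apply, h3]
  rfl

theorem isVol_pPow (b : Basis (Fin h) L N) {A : Submodule W N} {a : ℤ} (hA : IsVol b A a)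
    (q : ℤ) : IsVol b (pPow q A) (a + q * h) := by
  obtain ⟨e, rfl, hd⟩ := hA
  have hu : ∀ _ : Fin h, IsUnit ((p : L) ^ q) := fun _ => (zpow_ne_zero q p_ne_zero).isUnit
  refine ⟨e.isUnitSMul hu, ?_, ?_⟩
  · have h1 : Set.range (e.isUnitSMul hu) = ((p : L) ^ q) • Set.range e := by
      ext x
      simp only [Set.mem_range, Set.mem_smul_set]
      constructor
      · rintro ⟨i, rfl⟩
        exact ⟨e i, ⟨i, rfl⟩, (Basis.isUnitSMul_apply hu i).symm⟩
      · rintro ⟨_, ⟨i, rfl⟩, rfl⟩
        exact ⟨i, Basis.isUnitSMul_apply hu i⟩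
    rw [h1, pPow, Submodule.smul_span]
  · have h2 : b.toMatrix (e.isUnitSMul hu) = ((p : L) ^ q) • b.toMatrix e := by
      ext i j
      rw [Basis.toMatrix_apply, Basis.isUnitSMul_apply, map_smul, Finsupp.smul_apply,
        Matrix.smul_apply, Basis.toMatrix_apply]
    rw [h2, Matrix.det_smul, Fintype.card_fin, ← zpow_natCast, ← zpow_mul, mul_comm, add_comm]
    exact isOrdP_mul (isOrdP_p_zpow _) hd |> fun h => by rwa [mul_comm] at h

/-! ### partial sums of images -/

/-- `M + G M + ... + G^i M` -/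
def sumImg (G : N →ₛₗ[ρ] N) (M : Submodule W N) (i : ℕ) : Submodule W N :=
  (Finset.range (i + 1)).sup fun j => latImg G j M

theorem latImg_le_sumImg (G : N →ₛₗ[ρ] N) (M : Submodule W N) {j i : ℕ} (hji : j ≤ i) :
    latImg G j M ≤ sumImg G M i :=
  Finset.le_sup (f := fun j => latImg G j M) (Finset.mem_range.mpr (by omega))

theorem sumImg_succ (G : N →ₛₗ[ρ] N) (M : Submodule W N) (i : ℕ) :
    sumImg G M (i + 1) = sumImg G M i ⊔ latImg G (i + 1) M := by
  unfold sumImg
  rw [Finset.range_add_one (n := i + 1), Finset.sup_insert, sup_comm]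

theorem sumImg_zero (G : N →ₛₗ[ρ] N) (M : Submodule W N) : sumImg G M 0 = M := by
  unfold sumImg
  simp [latImg_zero]

theorem self_le_sumImg (G : N →ₛₗ[ρ] N) (M : Submodule W N) (i : ℕ) : M ≤ sumImg G M i := by
  have := latImg_le_sumImg G M (Nat.zero_le i)
  rwa [latImg_zero] at this

theorem sumImg_le_succ (G : N →ₛₗ[ρ] N) (M : Submodule W N) (i : ℕ) :
    sumImg G M i ≤ sumImg G M (i + 1) := by
  rw [sumImg_succ]; exact le_sup_left

theorem latImg_one_sumImg_le (hρ : Nice ρ) (G : N →ₛₗ[ρ] N) (M : Submodule W N) (i : ℕ) :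
    latImg G 1 (sumImg G M i) ≤ sumImg G M (i + 1) := by
  induction i with
  | zero =>
    rw [sumImg_zero]
    exact latImg_le_sumImg G M le_rfl
  | succ i ih =>
    rw [sumImg_succ G M i, latImg_sup hρ, sumImg_succ G M (i + 1)]
    refine sup_le_sup ih ?_
    rw [← latImg_add hρ, add_comm]

theorem isLattice_sumImg (hρ : Nice ρ) (G : N →ₛₗ[ρ] N) (M : Submodule W N) (hM : M.IsLattice L)
    (i : ℕ) : (sumImg G M i).IsLattice L := by
  refine ⟨?_, ?_⟩
  · induction i with
    | zero => rw [sumImg_zero]; exact hM.fg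
    | succ i ih => rw [sumImg_succ]; exact ih.sup (latImg_fg hρ G _ hM.fg)
  · rw [eq_top_iff, ← hM.span_eq_top]
    exact Submodule.span_mono (self_le_sumImg G M i)

/-- The effectivity lemma: if `G^(h+1) M ⊆ p⁻¹ M` for a lattice `M` in an `h`-dimensional space,
then some lattice is stable under `G`. -/
theorem isEffective_of_le (hρ : Nice ρ) (G : N →ₛₗ[ρ] N) (b : Basis (Fin h) L N)
    (M : Submodule W N) (hM : M.IsLattice L) (hGM : latImg G (h + 1) M ≤ pPow (-1) M) :
    IsEffective G := by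
  by_contra hne
  have hstrict : ∀ i, sumImg G M i ≠ sumImg G M (i + 1) := by
    intro i heq
    apply hne
    refine ⟨sumImg G M i, isLattice_sumImg hρ G M hM i, ?_⟩
    have := latImg_one_sumImg_le hρ G M i
    rwa [← heq] at this
  choose v hv using fun i => exists_isVol b (sumImg G M i) (isLattice_sumImg hρ G M hM i)
  have hdec : ∀ n : ℕ, v n ≤ v 0 - n := by
    intro n
    induction n with
    | zero => simp
    | succ n ih =>
      have := isVol_le b (hv n) (hv (n + 1)) (sumImg_le_succ G M n)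
      have hne' : v (n + 1) ≠ v n := fun heq => hstrict n (this.2 heq)
      have := this.1
      push_cast
      omega
  have hq : ∀ q : ℕ, latImg G ((h + 1) * q) M ≤ pPow (-(q : ℤ)) M := by
    intro q
    induction q with
    | zero => simp [latImg_zero, pPow_zero]
    | succ q ih =>
      have e : (h + 1) * (q + 1) = (h + 1) * q + (h + 1) := by ring
      rw [e, latImg_add hρ]
      calc latImg G ((h + 1) * q) (latImg G (h + 1) M)
          ≤ latImg G ((h + 1) * q) (pPow (-1) M) := latImg_mono G _ hGM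
        _ = pPow (-1) (latImg G ((h + 1) * q) M) := latImg_pPow hρ G _ _ M
        _ ≤ pPow (-1) (pPow (-(q : ℤ)) M) := pPow_mono _ ih
        _ = pPow (-((q + 1 : ℕ) : ℤ)) M := by rw [pPow_pPow]; congr 1; push_cast; ring
  have hbound : ∀ q : ℕ, sumImg G M ((h + 1) * q + h) ≤ pPow (-(q : ℤ)) (sumImg G M h) := by
    intro q
    unfold sumImg
    apply Finset.sup_le
    intro i hi
    rw [Finset.mem_range] at hi
    have hdiv : i = i % (h + 1) + (h + 1) * (i / (h + 1)) := (Nat.mod_add_div i (h + 1)).symm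
    have ht : i % (h + 1) ≤ h := Nat.lt_succ_iff.mp (Nat.mod_lt i (Nat.succ_pos h))
    have hq' : i / (h + 1) ≤ q := by
      by_contra hlt
      push Not at hlt
      have h1 : (h + 1) * (q + 1) ≤ (h + 1) * (i / (h + 1)) := Nat.mul_le_mul_left _ hlt
      have h2 : (h + 1) * (i / (h + 1)) ≤ i := Nat.mul_div_le i (h + 1)
      have h3 : (h + 1) * (q + 1) = (h + 1) * q + h + 1 := by ring
      omega
    rw [hdiv, latImg_add hρ]
    calc latImg G (i % (h + 1)) (latImg G ((h + 1) * (i / (h + 1))) M)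
        ≤ latImg G (i % (h + 1)) (pPow (-((i / (h + 1) : ℕ) : ℤ)) M) :=
          latImg_mono G _ (hq _)
      _ = pPow (-((i / (h + 1) : ℕ) : ℤ)) (latImg G (i % (h + 1)) M) := latImg_pPow hρ G _ _ M
      _ ≤ pPow (-((i / (h + 1) : ℕ) : ℤ)) (sumImg G M h) :=
          pPow_mono _ (latImg_le_sumImg G M ht)
      _ ≤ pPow (-(q : ℤ)) (sumImg G M h) := pPow_anti (by omega) _
  -- contradiction
  set q : ℕ := (v 0 - v h).toNat + 1 with hqdef
  have h1 := isVol_le b (hv ((h + 1) * q + h)) (isVol_pPow b (hv h) (-(q : ℤ))) (hbound q)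
  have h2 := hdec ((h + 1) * q + h)
  have h3 := h1.1
  push_cast at h2 h3
  have h4 : v 0 - v h ≤ ((v 0 - v h).toNat : ℤ) := Int.self_le_toNat _
  have h5 : (q : ℤ) = ((v 0 - v h).toNat : ℤ) + 1 := by rw [hqdef]; push_cast; ring
  nlinarith

/-- a semilinear map with positive first slope has a stable lattice -/
theorem exists_stable_of_pos_slope (hρ : Nice ρ) (G : N →ₛₗ[ρ] N) {μ : ℝ}
    (hslope : IsFirstSlope G μ) (hμ : 0 < μ) :
    ∃ M' : Submodule W N, M'.IsLattice L ∧ latImg G 1 M' ≤ M' := by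
  obtain ⟨M, hM, o, ho, hlim⟩ := hslope
  have hev : ∀ᶠ n : ℕ in atTop, 0 < (o n : ℝ) / n := hlim.eventually (lt_mem_nhds hμ)
  obtain ⟨n₀, hn₀⟩ := Filter.eventually_atTop.mp hev
  set n₁ := max n₀ 1 with hn₁
  have hle : ∀ n, n₁ ≤ n → latImg G n M ≤ M := by
    intro n hn
    have hn1 : 1 ≤ n := le_trans (le_max_right _ _) hn
    have hpos := hn₀ n (le_trans (le_max_left _ _) hn)
    have hn' : (0 : ℝ) < n := by exact_mod_cast hn1
    have ho' : (0 : ℝ) < o n := by
      by_contra hneg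
      push Not at hneg
      have : (o n : ℝ) / n ≤ 0 := div_nonpos_of_nonpos_of_nonneg hneg hn'.le
      linarith
    have ho'' : (0 : ℤ) ≤ o n := by exact_mod_cast ho'.le
    calc latImg G n M ≤ pPow (o n) M := (ho n hn1).1
      _ ≤ pPow 0 M := pPow_anti ho'' M
      _ = M := pPow_zero M
  refine ⟨sumImg G M n₁, isLattice_sumImg hρ G M hM n₁, ?_⟩
  calc latImg G 1 (sumImg G M n₁) ≤ sumImg G M (n₁ + 1) := latImg_one_sumImg_le hρ G M n₁
    _ = sumImg G M n₁ ⊔ latImg G (n₁ + 1) M := sumImg_succ G M n₁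
    _ ≤ sumImg G M n₁ := sup_le le_rfl ((hle _ (Nat.le_succ _)).trans (self_le_sumImg G M n₁))

/-- a semilinear map with nonnegative first slope is effective -/
theorem isEffective_of_nonneg_slope (hρ : Nice ρ) (G : N →ₛₗ[ρ] N) (b : Basis (Fin h) L N)
    {μ : ℝ} (hslope : IsFirstSlope G μ) (hμ : 0 ≤ μ) : IsEffective G := by
  have h1 := isFirstSlope_twist hρ G μ hslope 1 (h + 1)
  have hpos : 0 < ((h + 1 : ℕ) : ℝ) * μ + ((1 : ℤ) : ℝ) := by
    have : (0 : ℝ) ≤ ((h + 1 : ℕ) : ℝ) * μ := mul_nonneg (by positivity) hμ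
    have h1' : (((1 : ℤ)) : ℝ) = 1 := by norm_num
    rw [h1']
    linarith
  obtain ⟨M', hM', hst⟩ := exists_stable_of_pos_slope (hρ.pow (h + 1)) _ h1 hpos
  rw [latImg_twist hρ, mul_one, Nat.cast_one, mul_one, pPow_le_iff] at hst
  exact isEffective_of_le hρ G b M' hM' hst

/-- if `r/s ≤ λ₁` then some lattice satisfies `F^s M ⊆ p^r M`. -/
theorem exists_latImg_le_of_le_slope (hρ : Nice ρ) (F : N →ₛₗ[ρ] N) (b : Basis (Fin h) L N)
    {lam : ℝ} (hlam : IsFirstSlope F lam) (r : ℤ) (s : ℕ) (hs : 0 < s)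
    (hrs : (r : ℝ) / s ≤ lam) :
    ∃ M : Submodule W N, M.IsLattice L ∧ latImg F s M ≤ pPow r M := by
  have h1 := isFirstSlope_twist hρ F lam hlam (-r) s
  have hs' : (0 : ℝ) < s := by exact_mod_cast hs
  have hnn : 0 ≤ (s : ℝ) * lam + ((-r : ℤ) : ℝ) := by
    rw [div_le_iff₀ hs'] at hrs
    push_cast
    linarith
  obtain ⟨M, hM, hst⟩ := isEffective_of_nonneg_slope (hρ.pow s) _ b h1 hnn
  refine ⟨M, hM, ?_⟩
  rw [latImg_twist hρ, mul_one, Nat.cast_one, mul_one, pPow_le_iff, neg_neg] at hst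
  exact hst

end Groth.Agent.Helper8.IsocH
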