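import Mathlib
import Groth.Prelude.Def_Isoc
import Groth.Agent.Helper8.IsocVol

/-!
# Rationality of the first slope (helper8)
-/

set_option autoImplicit false
set_option linter.unusedSectionVars false

noncomputable section

open scoped Pointwise Isocrystal
open Filter Topology Module

universe u v

namespace Groth.Agent.Helper8.IsocH

open Isoc

variable {p : ℕ} [Fact p.Prime] {k : Type u} [Field k] [CharP k p] [PerfectRing k p]
variable {N : Type v} [AddCommGroup N] [Module (WittVector p k) N] [Module K(p, k) N]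
  [IsScalarTower (WittVector p k) K(p, k) N]
variable {ρ : K(p, k) →+* K(p, k)}

local notation "W" => WittVector p k
local notation "L" => K(p, k)

variable {h : ℕ}

/-- the order sequence of any lattice computes the first slope -/
theorem exists_ord_seq (hρ : Nice ρ) (G : N →ₛₗ[ρ] N) (hG : Function.Surjective G)
    (M : Submodule W N) (hM : M.IsLattice L) {μ : ℝ} (hslope : IsFirstSlope G μ) :
    ∃ o : ℕ → ℤ, (∀ n, IsOrd M G n (o n)) ∧ Tendsto (fun n : ℕ => (o n : ℝ) / n) atTop (𝓝 μ) := by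
  obtain ⟨M₀, hM₀, o₀, ho₀, hlim₀⟩ := hslope
  have : Nontrivial N := nontrivial_of_isOrd (ho₀ 1 le_rfl)
  choose o ho using fun n : ℕ => exists_isOrd hρ G hG M hM n
  obtain ⟨lam, hlam⟩ := exists_tendsto_of_isOrd hρ G hG M hM o (fun n _ => ho n)
  have := lim_unique hρ G M M₀ hM hM₀ o o₀ (fun n _ => ho n) ho₀ lam μ hlam hlim₀
  exact ⟨o, ho, this ▸ hlam⟩

theorem latImg_mul_le (hρ : Nice ρ) (G : N →ₛₗ[ρ] N) {s : ℕ} {r : ℤ} {M : Submodule W N}
    (hle : latImg G s M ≤ pPow r M) (n : ℕ) : latImg G (s * n) M ≤ pPow (r * n) M := by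
  induction n with
  | zero => simp [latImg_zero, pPow_zero]
  | succ n ih =>
    have e : s * (n + 1) = s * n + s := by ring
    rw [e, latImg_add hρ]
    calc latImg G (s * n) (latImg G s M) ≤ latImg G (s * n) (pPow r M) := latImg_mono G _ hle
      _ = pPow r (latImg G (s * n) M) := latImg_pPow hρ G _ r M
      _ ≤ pPow r (pPow (r * n) M) := pPow_mono r ih
      _ = pPow (r * ((n + 1 : ℕ) : ℤ)) M := by rw [pPow_pPow]; congr 1; push_cast; ring

/-- if `G^s M ⊆ p^r M` then `r/s ≤ λ₁`. -/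
theorem le_slope_of_latImg_le (hρ : Nice ρ) (G : N →ₛₗ[ρ] N) (hG : Function.Surjective G)
    (M : Submodule W N) (hM : M.IsLattice L) {μ : ℝ} (hslope : IsFirstSlope G μ) {s : ℕ}
    (hs : 0 < s) {r : ℤ} (hle : latImg G s M ≤ pPow r M) : (r : ℝ) / s ≤ μ := by
  obtain ⟨o, ho, hlim⟩ := exists_ord_seq hρ G hG M hM hslope
  have hsub : Tendsto (fun n : ℕ => s * n) atTop atTop := tendsto_id.const_mul_atTop' hs
  have h1 := hlim.comp hsub
  refine ge_of_tendsto h1 ?_
  filter_upwards [eventually_ge_atTop 1] with n hn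
  have hn' : (0 : ℝ) < n := by exact_mod_cast hn
  have hs' : (0 : ℝ) < s := by exact_mod_cast hs
  have h2 : r * n ≤ o (s * n) := (isOrd_le_iff (ho (s * n))).mp (latImg_mul_le hρ G hle n)
  have h3 : (r : ℝ) * n ≤ o (s * n) := by exact_mod_cast h2
  simp only [Function.comp_apply]
  rw [div_le_div_iff₀ hs' (by push_cast; positivity)]
  push_cast
  nlinarith

theorem slope_nonneg_of_isEffective (hρ : Nice ρ) (G : N →ₛₗ[ρ] N) (hG : Function.Surjective G)
    {μ : ℝ} (hslope : IsFirstSlope G μ) (heff : IsEffective G) : 0 ≤ μ := by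
  obtain ⟨M, hM, hst⟩ := heff
  have := le_slope_of_latImg_le hρ G hG M hM hslope (s := 1) Nat.one_pos (r := 0)
    (by rwa [pPow_zero])
  simpa using this

theorem isEffective_of_slope_ge (hρ : Nice ρ) (G : N →ₛₗ[ρ] N) (b : Basis (Fin h) L N)
    {μ : ℝ} (hslope : IsFirstSlope G μ) (hμ : -1 / ((h : ℝ) + 1) ≤ μ) : IsEffective G := by
  have h1 := isFirstSlope_twist hρ G μ hslope 1 (h + 1)
  have hnn : 0 ≤ ((h + 1 : ℕ) : ℝ) * μ + ((1 : ℤ) : ℝ) := by
    have hpos : (0 : ℝ) < (h : ℝ) + 1 := by positivity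
    rw [div_le_iff₀ hpos] at hμ
    push_cast
    nlinarith
  obtain ⟨M', hM', hst⟩ := isEffective_of_nonneg_slope (hρ.pow (h + 1)) _ b h1 hnn
  rw [latImg_twist hρ, mul_one, Nat.cast_one, mul_one, pPow_le_iff] at hst
  exact isEffective_of_le hρ G b M' hM' hst

/-- nilpotence mod `p` is detected at the `h`-th iterate -/
theorem latImg_le_of_exists (hρ : Nice ρ) (G : N →ₛₗ[ρ] N) (b : Basis (Fin h) L N)
    (M : Submodule W N) (hM : M.IsLattice L) (hst : latImg G 1 M ≤ M)
    (hex : ∃ n, latImg G n M ≤ pPow 1 M) : latImg G h M ≤ pPow 1 M := by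
  obtain ⟨n, hn⟩ := hex
  set V : ℕ → Submodule W N := fun i => latImg G i M ⊔ pPow 1 M with hV
  have hpM : pPow 1 M ≤ M := pPow_natCast_le 1 M
  have hVlat : ∀ i, (V i).IsLattice L := fun i =>
    ⟨(latImg_fg hρ G i hM.fg).sup (pPow_fg 1 hM.fg), by
      rw [eq_top_iff, ← pPow_span_eq_top 1 hM.span_eq_top]
      exact Submodule.span_mono (show (pPow 1 M : Set N) ⊆ V i from
        (le_sup_right : pPow 1 M ≤ V i))⟩
  have hanti : ∀ i, latImg G (i + 1) M ≤ latImg G i M := by
    intro i
    rw [latImg_add hρ]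
    exact latImg_mono G i hst
  have hVanti : ∀ i, V (i + 1) ≤ V i := fun i => sup_le_sup_right (hanti i) _
  have hVanti' : ∀ i j, i ≤ j → V j ≤ V i := by
    intro i j hij
    induction j, hij using Nat.le_induction with
    | base => exact le_rfl
    | succ j _ ih => exact (hVanti j).trans ih
  -- the recursion V (i+1) = Φ (V i)
  have hΦ : ∀ i, V (i + 1) = latImg G 1 (V i) ⊔ pPow 1 M := by
    intro i
    simp only [hV]
    rw [latImg_sup hρ, ← latImg_add hρ, latImg_pPow hρ, add_comm 1 i, sup_assoc]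
    congr 1
    exact (sup_eq_right.mpr (pPow_mono 1 hst)).symm
  have hstab : ∀ i, V i = V (i + 1) → ∀ j, i ≤ j → V j = V i := by
    intro i hi j hij
    induction j, hij using Nat.le_induction with
    | base => rfl
    | succ j _ ih => rw [hΦ, ih, ← hΦ, ← hi]
  have hVn : V n = pPow 1 M := sup_eq_right.mpr hn
  have hV0 : V 0 = M := by simp only [hV]; rw [latImg_zero]; exact sup_eq_left.mpr hpM
  -- suffices: some V i with i ≤ h equals p M
  suffices hsuff : ∃ i, i ≤ h ∧ V i = pPow 1 M by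
    obtain ⟨i, hih, hi⟩ := hsuff
    calc latImg G h M ≤ V h := le_sup_left
      _ ≤ V i := hVanti' i h hih
      _ = pPow 1 M := hi
  by_contra hcon
  push Not at hcon
  have hne : ∀ i, i ≤ h → V i ≠ V (i + 1) := by
    intro i hih heq
    apply hcon i hih
    have := hstab i heq (max i n) (le_max_left _ _)
    have hle : V i ≤ pPow 1 M := by
      rw [← this, ← hVn]
      exact hVanti' n _ (le_max_right _ _)
    exact le_antisymm hle le_sup_right
  choose v hv using fun i => exists_isVol b (V i) (hVlat i)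
  have hinc : ∀ i, i ≤ h → v 0 + i ≤ v i := by
    intro i
    induction i with
    | zero => intro _; simp
    | succ i ih =>
      intro hi
      have h1 := isVol_le b (hv (i + 1)) (hv i) (hVanti i)
      have h2 : v i ≠ v (i + 1) := fun heq => hne i (by omega) (h1.2 heq).symm
      have := ih (by omega)
      push_cast
      omega
  have hvp : IsVol b (pPow 1 M) (v 0 + 1 * h) := by
    have := isVol_pPow b (hv 0) 1
    rwa [hV0] at this
  have h3 := isVol_le b hvp (hv h) (le_sup_right : pPow 1 M ≤ V h)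
  have h4 := hinc h le_rfl
  have h5 : v h = v 0 + 1 * h := by omega
  exact hcon h le_rfl (h3.2 h5).symm

theorem pos_of_isFirstSlope (F : N →ₛₗ[ρ] N) (b : Basis (Fin h) L N) {lam : ℝ}
    (hlam : IsFirstSlope F lam) : 0 < h := by
  rcases Nat.eq_zero_or_pos h with rfl | hpos
  · exfalso
    obtain ⟨M, hM, o, ho, -⟩ := hlam
    have := nontrivial_of_isOrd (ho 1 le_rfl)
    have hsub : Subsingleton N := by
      constructor
      intro x y
      apply b.repr.injective
      ext i
      exact i.elim0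
    exact not_subsingleton N hsub
  · exact hpos

theorem twist_surjective (F : N →ₛₗ[ρ] N) (hF : Function.Surjective F) (m : ℤ) (n : ℕ) :
    Function.Surjective ((p : L) ^ m • iter F n) := by
  intro y
  obtain ⟨x, hx⟩ := (hF.iterate n) (((p : L) ^ (-m)) • y)
  refine ⟨x, ?_⟩
  rw [LinearMap.smul_apply, iter_apply, hx, smul_smul, ← zpow_add₀ p_ne_zero, add_neg_cancel,
    zpow_zero, one_smul]

/-- the first slope is rational with denominator at most the height -/
theorem exists_rational_slope' (hρ : Nice ρ) (F : N →ₛₗ[ρ] N) (hF : Function.Surjective F)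
    (b : Basis (Fin h) L N) {lam : ℝ} (hlam : IsFirstSlope F lam) :
    ∃ (r : ℤ) (s : ℕ) (M : Submodule W N), 0 < s ∧ s ≤ h ∧ lam = (r : ℝ) / s ∧
      M.IsLattice L ∧ IsOrd M F s r := by
  have hh : 0 < h := pos_of_isFirstSlope F b hlam
  obtain ⟨r, k', hk0, hk1, habs⟩ := Real.exists_int_int_abs_mul_sub_le lam hh
  obtain ⟨s, rfl⟩ := Int.eq_ofNat_of_zero_le hk0.le
  have hs : 0 < s := by exact_mod_cast hk0
  have hsh : s ≤ h := by exact_mod_cast hk1
  have hG := isFirstSlope_twist hρ F lam hlam (-r) s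
  have hGsurj := twist_surjective (p := p) (k := k) F hF (-r) s
  set G := (p : L) ^ (-r) • iter F s with hGdef
  set μ : ℝ := (s : ℝ) * lam + ((-r : ℤ) : ℝ) with hμ
  have hμ' : μ = ((s : ℤ) : ℝ) * lam - r := by rw [hμ]; push_cast; ring
  rw [← hμ'] at habs
  have habs' := abs_le.mp habs
  have hh' : (0 : ℝ) < (h : ℝ) + 1 := by positivity
  have heff : IsEffective G := by
    refine isEffective_of_slope_ge (hρ.pow s) G b hG ?_
    have : -1 / ((h : ℝ) + 1) = -(1 / ((h : ℝ) + 1)) := by ring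
    rw [this]; exact habs'.1
  obtain ⟨M, hM, hst⟩ := heff
  have hnil : ∀ n, ¬ latImg G n M ≤ pPow 1 M := by
    intro n hn
    have h1 := latImg_le_of_exists (hρ.pow s) G b M hM hst ⟨n, hn⟩
    have h2 := le_slope_of_latImg_le (hρ.pow s) G hGsurj M hM hG hh h1
    have h3 : μ ≤ 1 / ((h : ℝ) + 1) := habs'.2
    have h4 : (1 : ℝ) / ((h : ℝ) + 1) < 1 / h := by
      apply one_div_lt_one_div_of_lt <;> [exact_mod_cast hh; linarith]
    push_cast at h2
    linarith
  have hord : ∀ n, IsOrd M G n 0 := by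
    intro n
    refine ⟨?_, by simpa using hnil n⟩
    have := latImg_mul_le (hρ.pow s) G (s := 1) (r := 0) (M := M) (by rwa [pPow_zero]) n
    simpa using this
  have hμ0 : μ = 0 := by
    obtain ⟨o, ho, hlim⟩ := exists_ord_seq (hρ.pow s) G hGsurj M hM hG
    have ho0 : ∀ n, o n = 0 := fun n => isOrd_unique (ho n) (hord n)
    have : Tendsto (fun n : ℕ => (o n : ℝ) / n) atTop (𝓝 0) := by
      have : (fun n : ℕ => (o n : ℝ) / n) = fun _ => (0 : ℝ) := by
        funext n; rw [ho0]; simp
      rw [this]; exact tendsto_const_nhds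
    exact tendsto_nhds_unique hlim this
  have hordF : IsOrd M F s r := by
    have := (isOrd_twist_iff hρ F (-r) s 1 M 0).mp (hord 1)
    simpa using this
  refine ⟨r, s, M, hs, hsh, ?_, hM, hordF⟩
  have hs' : (s : ℝ) ≠ 0 := by positivity
  rw [hμ] at hμ0
  push_cast at hμ0
  field_simp
  linarith

theorem exists_rational_slope (hρ : Nice ρ) (F : N →ₛₗ[ρ] N) (hF : Function.Surjective F)
    (b : Basis (Fin h) L N) {d : ℤ} (hd : IsOrdP (detCoeff b F) d) {lam : ℝ}
    (hlam : IsFirstSlope F lam) :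
    ∃ (r : ℤ) (s : ℕ) (M : Submodule W N), 0 < s ∧ s ≤ h ∧ lam = (r : ℝ) / s ∧
      M.IsLattice L ∧ IsOrd M F s r ∧ r * h ≤ s * d := by
  obtain ⟨r, s, M, hs, hsh, hl, hM, hord⟩ := exists_rational_slope' hρ F hF b hlam
  exact ⟨r, s, M, hs, hsh, hl, hM, hord, mul_le_mul_of_latImg_le hρ F b hd M hM s r hord.1⟩

theorem exists_isFirstSlope [Nontrivial N] (hρ : Nice ρ) (F : N →ₛₗ[ρ] N)
    (hF : Function.Surjective F) (b : Basis (Fin h) L N) : ∃ lam : ℝ, IsFirstSlope F lam := by
  have hM : (Submodule.span W (Set.range b)).IsLattice L :=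
    ⟨Submodule.fg_span (Set.finite_range _), by
      rw [eq_top_iff, ← b.span_eq]
      exact Submodule.span_mono Submodule.subset_span⟩
  choose o ho using fun n : ℕ => exists_isOrd hρ F hF _ hM n
  obtain ⟨lam, hlam⟩ := exists_tendsto_of_isOrd hρ F hF _ hM o (fun n _ => ho n)
  exact ⟨lam, _, hM, o, fun n _ => ho n, hlam⟩

end Groth.Agent.Helper8.IsocH
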