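import Mathlib
import Groth.Prelude.Def_Isoc
import Groth.Agent.Helper8.IsocRat

/-!
# Fitting decomposition of a stable lattice (helper8)
-/

set_option autoImplicit false
set_option linter.unusedSectionVars false

noncomputable section

open scoped Pointwise Isocrystal
open Filter Topology Module

universe u v

namespace Groth.Agent.Helper8.IsocH

open Isoc

variable {p : ℕ} [Fact p.Prime] {k : Type u} [Field k] [CharP k p] [PerfectRing k p]
variable {N : Type v} [AddCommGroup N] [Module (WittVector p k) N] [Module K(p, k) N]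
  [IsScalarTower (WittVector p k) K(p, k) N]
variable {ρ : K(p, k) →+* K(p, k)}

local notation "W" => WittVector p k
local notation "L" => K(p, k)

variable {h : ℕ}

/-! ### completeness -/

theorem exists_limit_W (w : ℕ → W) (hw : ∀ j, (p : W) ^ j ∣ w (j + 1) - w j) :
    ∃ ℓ : W, ∀ j, (p : W) ^ j ∣ ℓ - w j := by
  have hprec : IsPrecomplete (Ideal.span {(p : W)}) W := inferInstance
  have hdvd : ∀ m n, m ≤ n → (p : W) ^ m ∣ w n - w m := by
    intro m n hmn
    induction n, hmn using Nat.le_induction with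
    | base => simp
    | succ n hn ih =>
      have h1 : (p : W) ^ m ∣ w (n + 1) - w n := (pow_dvd_pow _ hn).trans (hw n)
      have : w (n + 1) - w m = (w (n + 1) - w n) + (w n - w m) := by ring
      rw [this]
      exact dvd_add h1 ih
  obtain ⟨ℓ, hℓ⟩ := hprec.prec (f := w) (by
    intro m n hmn
    rw [SModEq.sub_mem, smul_eq_mul, Ideal.mul_top, Ideal.span_singleton_pow,
      Ideal.mem_span_singleton]
    have := hdvd m n hmn
    rwa [← neg_sub, dvd_neg])
  refine ⟨ℓ, fun j => ?_⟩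
  have := hℓ j
  rw [SModEq.sub_mem, smul_eq_mul, Ideal.mul_top, Ideal.span_singleton_pow,
    Ideal.mem_span_singleton] at this
  rwa [← neg_sub, dvd_neg]

theorem natCast_zpow_eq (j : ℕ) : (p : L) ^ (j : ℤ) = algebraMap W L ((p : W) ^ j) := by
  rw [zpow_natCast, map_pow, map_natCast]

theorem exists_limit (e : Basis (Fin h) L N) (y : ℕ → N)
    (hy : ∀ j, y j ∈ Submodule.span W (Set.range e))
    (hd : ∀ j : ℕ, y (j + 1) - y j ∈ pPow (j : ℤ) (Submodule.span W (Set.range e))) :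
    ∃ y' ∈ Submodule.span W (Set.range e),
      ∀ j : ℕ, y' - y j ∈ pPow (j : ℤ) (Submodule.span W (Set.range e)) := by
  have hcoord : ∀ j i, ∃ w : W, e.repr (y j) i = algebraMap W L w := fun j =>
    (mem_span_range_iff_repr e (y j)).mp (hy j)
  choose w hw using hcoord
  have hdiv : ∀ i j, (p : W) ^ j ∣ w (j + 1) i - w j i := by
    intro i j
    obtain ⟨u, hu⟩ := (mem_pPow_span_range_iff_repr e (j : ℤ) _).mp (hd j) i
    rw [map_sub, Finsupp.sub_apply, hw, hw, natCast_zpow_eq, ← map_sub, ← map_mul] at hu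
    exact ⟨u, IsFractionRing.injective W L hu⟩
  choose ℓ hℓ using fun i => exists_limit_W (fun j => w j i) (hdiv i)
  refine ⟨∑ i, ℓ i • e i, ?_, ?_⟩
  · exact Submodule.sum_mem _ fun i _ => Submodule.smul_mem _ _ (Submodule.subset_span ⟨i, rfl⟩)
  · intro j
    rw [mem_pPow_span_range_iff_repr]
    intro i
    obtain ⟨u, hu⟩ := hℓ i j
    refine ⟨u, ?_⟩
    rw [map_sub, Finsupp.sub_apply, repr_sum_smul, hw, natCast_zpow_eq, ← map_sub, ← map_mul, hu]

/-! ### stabilisation of chains of lattices -/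

theorem exists_stable_of_antitone (b : Basis (Fin h) L N) (X : ℕ → Submodule W N)
    (hX : ∀ n, (X n).IsLattice L) (hanti : ∀ n, X (n + 1) ≤ X n) (Y : Submodule W N)
    (hY : Y.IsLattice L) (hYX : ∀ n, Y ≤ X n) : ∃ n₀, ∀ n, n₀ ≤ n → X n = X n₀ := by
  choose v hv using fun n => exists_isVol b (X n) (hX n)
  obtain ⟨vY, hvY⟩ := exists_isVol b Y hY
  have hmono : ∀ n m, n ≤ m → v n ≤ v m := by
    intro n m hnm
    induction m, hnm using Nat.le_induction with
    | base => exact le_rfl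
    | succ m _ ih => exact ih.trans (isVol_le b (hv (m + 1)) (hv m) (hanti m)).1
  have hbdd : ∀ n, v n ≤ vY := fun n => (isVol_le b hvY (hv n) (hYX n)).1
  obtain ⟨ub, ⟨n₀, hn₀⟩, hmax⟩ := Int.exists_greatest_of_bdd (P := fun z => ∃ n, v n = z)
    ⟨vY, by rintro z ⟨n, rfl⟩; exact hbdd n⟩ ⟨v 0, 0, rfl⟩
  refine ⟨n₀, fun n hn => ?_⟩
  have h1 : v n₀ ≤ v n := hmono n₀ n hn
  have h2 : v n ≤ v n₀ := hn₀ ▸ hmax (v n) ⟨n, rfl⟩
  have hle : X n ≤ X n₀ := by
    induction n, hn using Nat.le_induction with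
    | base => exact le_rfl
    | succ m hm ih => exact (hanti m).trans (ih (hmono n₀ m hm) (by
        have := hmono m (m + 1) (Nat.le_succ m); omega))
  exact (isVol_le b (hv n) (hv n₀) hle).2 (le_antisymm h1 h2)

theorem exists_stable_of_monotone (b : Basis (Fin h) L N) (X : ℕ → Submodule W N)
    (hX : ∀ n, (X n).IsLattice L) (hmon : ∀ n, X n ≤ X (n + 1)) (Y : Submodule W N)
    (hY : Y.IsLattice L) (hXY : ∀ n, X n ≤ Y) : ∃ n₀, ∀ n, n₀ ≤ n → X n = X n₀ := by
  choose v hv using fun n => exists_isVol b (X n) (hX n)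
  obtain ⟨vY, hvY⟩ := exists_isVol b Y hY
  have hanti : ∀ n m, n ≤ m → v m ≤ v n := by
    intro n m hnm
    induction m, hnm using Nat.le_induction with
    | base => exact le_rfl
    | succ m _ ih => exact (isVol_le b (hv m) (hv (m + 1)) (hmon m)).1.trans ih
  have hbdd : ∀ n, vY ≤ v n := fun n => (isVol_le b (hv n) hvY (hXY n)).1
  obtain ⟨lb, ⟨n₀, hn₀⟩, hmin⟩ := Int.exists_least_of_bdd (P := fun z => ∃ n, v n = z)
    ⟨vY, by rintro z ⟨n, rfl⟩; exact hbdd n⟩ ⟨v 0, 0, rfl⟩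
  refine ⟨n₀, fun n hn => ?_⟩
  have h1 : v n ≤ v n₀ := hanti n₀ n hn
  have h2 : v n₀ ≤ v n := hn₀ ▸ hmin (v n) ⟨n, rfl⟩
  have hle : X n₀ ≤ X n := by
    clear h1 h2
    induction n, hn using Nat.le_induction with
    | base => exact le_rfl
    | succ m hm ih => exact ih.trans (hmon m)
  exact ((isVol_le b (hv n₀) (hv n) hle).2 (le_antisymm h1 h2)).symm

theorem exists_limit' (b : Basis (Fin h) L N) (M : Submodule W N) (hM : M.IsLattice L)
    (y : ℕ → N) (hy : ∀ j, y j ∈ M) (hd : ∀ j : ℕ, y (j + 1) - y j ∈ pPow (j : ℤ) M) :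
    ∃ y' ∈ M, ∀ j : ℕ, y' - y j ∈ pPow (j : ℤ) M := by
  obtain ⟨e, rfl⟩ := exists_basis_of_isLattice M hM b
  exact exists_limit e y hy hd

/-! ### Krull intersection -/

theorem iInf_pPow_eq_bot (M : Submodule W N) (hfg : M.FG) : ⨅ j : ℕ, pPow (j : ℤ) M = ⊥ := by
  set T := ⨅ j : ℕ, pPow (j : ℤ) M with hT
  have hTM : T ≤ M := by
    have := iInf_le (fun j : ℕ => pPow (j : ℤ) M) 0
    simpa [pPow_zero] using this
  have hTfg : T.FG := by
    have : IsNoetherian W M := isNoetherian_of_fg_of_noetherian M hfg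
    exact (isNoetherian_submodule.mp this) T hTM
  apply eq_bot_of_le_pPow_one T hTfg
  intro y hy
  rw [mem_pPow]
  refine ⟨((p : L) ^ (-1 : ℤ)) • y, ?_, by
    rw [smul_smul, ← zpow_add₀ p_ne_zero]; simp⟩
  rw [hT, Submodule.mem_iInf]
  intro j
  have hy' : y ∈ pPow ((j + 1 : ℕ) : ℤ) M := by
    rw [hT, Submodule.mem_iInf] at hy
    exact hy (j + 1)
  rw [mem_pPow] at hy' ⊢
  obtain ⟨z, hz, rfl⟩ := hy'
  refine ⟨z, hz, ?_⟩
  rw [smul_smul, ← zpow_add₀ p_ne_zero]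
  congr 2
  push_cast; ring

theorem exists_exact_order (M : Submodule W N) (hfg : M.FG) {x : N}
    (hx : x ∈ Submodule.span L (M : Set N)) (hx0 : x ≠ 0) :
    ∃ a : ℤ, x ∈ pPow a M ∧ x ∉ pPow (a + 1) M := by
  obtain ⟨c, hc⟩ := exists_pow_smul_mem_of_mem_span M x hx
  have hne : ∃ a : ℤ, x ∈ pPow a M := by
    refine ⟨-(c : ℤ), ?_⟩
    rw [mem_pPow]
    refine ⟨((p : W) ^ c) • x, hc, ?_⟩
    rw [← natCast_zpow_smul, smul_smul, ← zpow_add₀ p_ne_zero, neg_add_cancel, zpow_zero, one_smul]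
  have hbdd : ∃ B : ℤ, ∀ a : ℤ, x ∈ pPow a M → a ≤ B := by
    by_contra hcon
    push Not at hcon
    apply hx0
    have : x ∈ (⨅ j : ℕ, pPow (j : ℤ) M) := by
      rw [Submodule.mem_iInf]
      intro j
      obtain ⟨a, ha, hja⟩ := hcon j
      exact pPow_anti hja.le M ha
    rw [iInf_pPow_eq_bot M hfg] at this
    simpa using this
  obtain ⟨a, ha, hmax⟩ := Int.exists_greatest_of_bdd hbdd hne
  refine ⟨a, ha, fun h' => ?_⟩
  have := hmax _ h'
  omega

/-! ### the Fitting decomposition -/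

section Fitting

/-- `{x ∈ M | Φ^n x ∈ p^j M}` -/
def kerLevel (hρ : Nice ρ) (Φ : N →ₛₗ[ρ] N) (M : Submodule W N) (n : ℕ) (j : ℤ) :
    Submodule W N where
  carrier := {x | x ∈ M ∧ (⇑Φ)^[n] x ∈ pPow j M}
  add_mem' := by
    rintro x y ⟨hx, hx'⟩ ⟨hy, hy'⟩
    exact ⟨M.add_mem hx hy, by rw [iterate_add_apply']; exact Submodule.add_mem _ hx' hy'⟩
  zero_mem' := ⟨M.zero_mem, by rw [iterate_zero_apply']; exact Submodule.zero_mem _⟩
  smul_mem' := by
    rintro w x ⟨hx, hx'⟩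
    refine ⟨M.smul_mem _ hx, ?_⟩
    obtain ⟨w', hw'⟩ := (hρ.pow n).map_W w
    rw [← algebraMap_smul L w x, iterate_smul_apply', hw', algebraMap_smul]
    exact Submodule.smul_mem _ _ hx'

theorem mem_kerLevel (hρ : Nice ρ) (Φ : N →ₛₗ[ρ] N) (M : Submodule W N) {n : ℕ} {j : ℤ} {x : N} :
    x ∈ kerLevel hρ Φ M n j ↔ x ∈ M ∧ (⇑Φ)^[n] x ∈ pPow j M := Iff.rfl

variable {Φ : N →ₛₗ[ρ] N}

theorem latImg_succ_le (hρ : Nice ρ) {M : Submodule W N} (hst : latImg Φ 1 M ≤ M) (n : ℕ) : latImg Φ (n + 1) M ≤ latImg Φ n M := by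
  rw [latImg_add hρ]
  exact latImg_mono Φ n hst

theorem latImg_antitone (hρ : Nice ρ) {M : Submodule W N} (hst : latImg Φ 1 M ≤ M) {n m : ℕ} (hnm : n ≤ m) :
    latImg Φ m M ≤ latImg Φ n M := by
  induction m, hnm using Nat.le_induction with
  | base => exact le_rfl
  | succ m _ ih => exact (latImg_succ_le hρ hst m).trans ih

theorem latImg_le_self (hρ : Nice ρ) {M : Submodule W N} (hst : latImg Φ 1 M ≤ M) (n : ℕ) : latImg Φ n M ≤ M := by
  have := latImg_antitone hρ hst (Nat.zero_le n)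
  rwa [latImg_zero] at this

theorem iterate_mem_pPow (hρ : Nice ρ) {M : Submodule W N} (hst : latImg Φ 1 M ≤ M) (n : ℕ) {j : ℤ} {x : N} (hx : x ∈ pPow j M) :
    (⇑Φ)^[n] x ∈ pPow j M := by
  have h1 : (⇑Φ)^[n] x ∈ latImg Φ n (pPow j M) := (mem_latImg hρ Φ n _).mpr ⟨x, hx, rfl⟩
  rw [latImg_pPow hρ] at h1
  exact pPow_mono j (latImg_le_self hρ hst n) h1

theorem iterate_sub_apply' (n : ℕ) (x y : N) :
    (⇑Φ)^[n] (x - y) = (⇑Φ)^[n] x - (⇑Φ)^[n] y := (iter Φ n).map_sub x y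

theorem kerLevel_mono_n (hρ : Nice ρ) {M : Submodule W N} (hst : latImg Φ 1 M ≤ M) {n m : ℕ} (hnm : n ≤ m) (j : ℤ) :
    kerLevel hρ Φ M n j ≤ kerLevel hρ Φ M m j := by
  rintro x ⟨hx, hx'⟩
  refine ⟨hx, ?_⟩
  obtain ⟨t, rfl⟩ := Nat.exists_eq_add_of_le hnm
  rw [add_comm, Function.iterate_add_apply]
  exact iterate_mem_pPow hρ hst t hx'

theorem kerLevel_anti_j (hρ : Nice ρ) {M : Submodule W N} (n : ℕ) {j j' : ℤ} (hjj : j ≤ j') :
    kerLevel hρ Φ M n j' ≤ kerLevel hρ Φ M n j := by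
  rintro x ⟨hx, hx'⟩
  exact ⟨hx, pPow_anti hjj M hx'⟩

theorem pPow_le_kerLevel (hρ : Nice ρ) {M : Submodule W N} (hst : latImg Φ 1 M ≤ M) (n : ℕ) (j : ℕ) :
    pPow (j : ℤ) M ≤ kerLevel hρ Φ M n j := fun _ hx =>
  ⟨pPow_natCast_le j M hx, iterate_mem_pPow hρ hst n hx⟩

theorem kerLevel_le (hρ : Nice ρ) {M : Submodule W N} (n : ℕ) (j : ℤ) : kerLevel hρ Φ M n j ≤ M := fun _ hx => hx.1

theorem isLattice_of_between {X Y Z : Submodule W N} (hX : X.IsLattice L) (hZ : Z.IsLattice L)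
    (hXY : X ≤ Y) (hYZ : Y ≤ Z) : Y.IsLattice L := by
  refine ⟨?_, ?_⟩
  · have : IsNoetherian W Z := isNoetherian_of_fg_of_noetherian Z hZ.fg
    exact (isNoetherian_submodule.mp this) Y hYZ
  · rw [eq_top_iff, ← hX.span_eq_top]
    exact Submodule.span_mono hXY

/-- Fitting decomposition of elements of a stable lattice. -/
theorem exists_fitting (hρ : Nice ρ) {M : Submodule W N} (hΦ : Function.Surjective Φ) (b : Basis (Fin h) L N)
    (hM : M.IsLattice L) (hst : latImg Φ 1 M ≤ M) {x : N} (hx : x ∈ M) :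
    ∃ y z : N, x = y + z ∧ (∀ n, y ∈ latImg Φ n M) ∧ z ∈ M ∧
      ∀ j : ℕ, ∃ n, (⇑Φ)^[n] z ∈ pPow (j : ℤ) M := by
  classical
  -- the two chains
  set I : ℕ → ℕ → Submodule W N := fun n j => latImg Φ n M ⊔ pPow (j : ℤ) M with hI
  set K : ℕ → ℕ → Submodule W N := fun n j => kerLevel hρ Φ M n j with hK
  have hpl : ∀ j : ℕ, (pPow (j : ℤ) M).IsLattice L := fun j => isLattice_pPow _ hM
  have hIlat : ∀ n j, (I n j).IsLattice L := fun n j =>
    isLattice_of_between (hpl j) hM le_sup_right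
      (sup_le (latImg_le_self hρ hst n) (pPow_natCast_le j M))
  have hKlat : ∀ n j, (K n j).IsLattice L := fun n j =>
    isLattice_of_between (hpl j) hM (pPow_le_kerLevel hρ hst n j) (kerLevel_le hρ n j)
  have hstabI : ∀ j, ∃ n₀, ∀ n, n₀ ≤ n → I n j = I n₀ j := fun j =>
    exists_stable_of_antitone b (fun n => I n j) (fun n => hIlat n j)
      (fun n => sup_le_sup_right (latImg_succ_le hρ hst n) _) (pPow (j : ℤ) M) (hpl j)
      (fun n => le_sup_right)
  have hstabK : ∀ j, ∃ n₀, ∀ n, n₀ ≤ n → K n j = K n₀ j := fun j =>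
    exists_stable_of_monotone b (fun n => K n j) (fun n => hKlat n j)
      (fun n => kerLevel_mono_n hρ hst (Nat.le_succ n) _) M hM (fun n => kerLevel_le hρ n j)
  choose nI hnI using hstabI
  choose nK hnK using hstabK
  set n₀ : ℕ → ℕ := fun j => max (nI j) (nK j) with hn₀
  have hIeq : ∀ j n m, n₀ j ≤ n → n₀ j ≤ m → I n j = I m j := by
    intro j n m hn hm
    rw [hnI j n ((le_max_left _ _).trans hn), hnI j m ((le_max_left _ _).trans hm)]
  have hKeq : ∀ j n m, n₀ j ≤ n → n₀ j ≤ m → K n j = K m j := by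
    intro j n m hn hm
    rw [hnK j n ((le_max_right _ _).trans hn), hnK j m ((le_max_right _ _).trans hm)]
  -- Fitting at finite level
  have F1 : ∀ j n, n₀ j ≤ n → ∀ x ∈ M, ∃ y ∈ latImg Φ n M, x - y ∈ K n j := by
    intro j n hn x hx
    have h1 : (⇑Φ)^[n] x ∈ I n j :=
      (le_sup_left : latImg Φ n M ≤ I n j) ((mem_latImg hρ Φ n M).mpr ⟨x, hx, rfl⟩)
    rw [hIeq j n (n + n) hn (by omega)] at h1
    obtain ⟨a, ha, c, hc, hac⟩ := Submodule.mem_sup.mp h1
    obtain ⟨m, hm, rfl⟩ := (mem_latImg hρ Φ (n + n) M).mp ha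
    rw [Function.iterate_add_apply] at hac
    refine ⟨(⇑Φ)^[n] m, (mem_latImg hρ Φ n M).mpr ⟨m, hm, rfl⟩, ?_, ?_⟩
    · exact M.sub_mem hx (latImg_le_self hρ hst n ((mem_latImg hρ Φ n M).mpr ⟨m, hm, rfl⟩))
    · rw [iterate_sub_apply', ← hac, add_sub_cancel_left]
      exact hc
  have F2 : ∀ j n, n₀ j ≤ n → ∀ x, x ∈ I n j → x ∈ K n j → x ∈ pPow (j : ℤ) M := by
    intro j n hn x hxI hxK
    obtain ⟨a, ha, c, hc, rfl⟩ := Submodule.mem_sup.mp hxI
    obtain ⟨m, hm, rfl⟩ := (mem_latImg hρ Φ n M).mp ha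
    have h1 : (⇑Φ)^[n] ((⇑Φ)^[n] m + c) ∈ pPow (j : ℤ) M := hxK.2
    rw [iterate_add_apply'] at h1
    have h2 : (⇑Φ)^[n + n] m ∈ pPow (j : ℤ) M := by
      rw [Function.iterate_add_apply]
      have := Submodule.sub_mem _ h1 (iterate_mem_pPow hρ hst n hc)
      rwa [add_sub_cancel_right] at this
    have h3 : m ∈ K (n + n) j := ⟨hm, h2⟩
    rw [hKeq j (n + n) n (by omega) hn] at h3
    exact Submodule.add_mem _ h3.2 hc
  -- monotone choice of levels
  set Nn : ℕ → ℕ := fun j => (Finset.range (j + 1)).sup n₀ with hNn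
  have hNn_ge : ∀ j, n₀ j ≤ Nn j := fun j =>
    Finset.le_sup (f := n₀) (Finset.mem_range.mpr (Nat.lt_succ_self j))
  have hNn_mono : ∀ j, Nn j ≤ Nn (j + 1) := fun j =>
    Finset.sup_mono (Finset.range_subset_range.mpr (Nat.le_succ _))
  choose! y hyI hyK using fun j : ℕ => F1 j (Nn j) (hNn_ge j) x hx
  have hyM : ∀ j, y j ∈ M := fun j => latImg_le_self hρ hst _ (hyI j)
  have hd : ∀ j : ℕ, y (j + 1) - y j ∈ pPow (j : ℤ) M := by
    intro j
    apply F2 j (Nn j) (hNn_ge j)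
    · apply (le_sup_left : latImg Φ (Nn j) M ≤ I (Nn j) j)
      exact Submodule.sub_mem _ (latImg_antitone hρ hst (hNn_mono j) (hyI (j + 1))) (hyI j)
    · have h1 : x - y (j + 1) ∈ K (Nn j) j := by
        have := kerLevel_anti_j hρ (Φ := Φ) (M := M) (Nn (j + 1))
          (show (j : ℤ) ≤ ((j + 1 : ℕ) : ℤ) by push_cast; omega) (hyK (j + 1))
        have h2 : K (Nn (j + 1)) j = K (Nn j) j :=
          hKeq j _ _ ((hNn_ge j).trans (hNn_mono j)) (hNn_ge j)
        rw [← h2]; exact this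
      have h3 : y (j + 1) - y j = (x - y j) - (x - y (j + 1)) := by abel
      rw [h3]
      exact Submodule.sub_mem _ (hyK j) h1
  obtain ⟨y', hy'M, hy'⟩ := exists_limit' b M hM y hyM hd
  refine ⟨y', x - y', by abel, ?_, M.sub_mem hx hy'M, ?_⟩
  · intro n
    have hlat := isLattice_latImg hρ Φ hΦ n hM
    obtain ⟨c, hc⟩ := exists_pPow_le M (latImg Φ n M) hM.fg hlat.span_eq_top
    have h1 : y c ∈ I n c := by
      rcases le_total n (Nn c) with hle | hle
      · exact (le_sup_left : latImg Φ n M ≤ I n c) (latImg_antitone hρ hst hle (hyI c))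
      · rw [hIeq c n (Nn c) ((hNn_ge c).trans hle) (hNn_ge c)]
        exact (le_sup_left : latImg Φ (Nn c) M ≤ I (Nn c) c) (hyI c)
    have h2 : I n c ≤ latImg Φ n M := sup_le le_rfl hc
    have h3 : y' = y c + (y' - y c) := by abel
    rw [h3]
    exact Submodule.add_mem _ (h2 h1) (hc (hy' c))
  · intro j
    refine ⟨Nn j, ?_⟩
    have h3 : x - y' = (x - y j) - (y' - y j) := by abel
    rw [h3, iterate_sub_apply']
    exact Submodule.sub_mem _ (hyK j).2 (iterate_mem_pPow hρ hst _ (hy' j))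

end Fitting

end Groth.Agent.Helper8.IsocH
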