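import Mathlib
import Groth.Prelude.Def_Isoc
import Groth.Agent.Helper8.IsocFit

/-!
# The slope decomposition (helper8)
-/

set_option autoImplicit false
set_option linter.unusedSectionVars false

noncomputable section

open scoped Pointwise Isocrystal
open Filter Topology Module

universe u v

namespace Groth.Agent.Helper8.IsocH

open Isoc

variable {p : ℕ} [Fact p.Prime] {k : Type u} [Field k] [CharP k p] [PerfectRing k p]
variable {N : Type v} [AddCommGroup N] [Module (WittVector p k) N] [Module K(p, k) N]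
  [IsScalarTower (WittVector p k) K(p, k) N]
variable {ρ : K(p, k) →+* K(p, k)}

local notation "W" => WittVector p k
local notation "L" => K(p, k)

variable {h : ℕ}

/-- the bijective part of a stable lattice -/
def fitA (Φ : N →ₛₗ[ρ] N) (Λ : Submodule W N) : Submodule W N := ⨅ n : ℕ, latImg Φ n Λ

/-- the topologically nilpotent part of a stable lattice -/
def fitB (hρ : Nice ρ) (Φ : N →ₛₗ[ρ] N) (Λ : Submodule W N) : Submodule W N where
  carrier := {x | x ∈ Λ ∧ ∀ j : ℕ, ∃ n, ∀ m, n ≤ m → (⇑Φ)^[m] x ∈ pPow (j : ℤ) Λ}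
  add_mem' := by
    rintro x y ⟨hx, hx'⟩ ⟨hy, hy'⟩
    refine ⟨Λ.add_mem hx hy, fun j => ?_⟩
    obtain ⟨n₁, h₁⟩ := hx' j
    obtain ⟨n₂, h₂⟩ := hy' j
    refine ⟨max n₁ n₂, fun m hm => ?_⟩
    rw [iterate_add_apply']
    exact Submodule.add_mem _ (h₁ m ((le_max_left _ _).trans hm))
      (h₂ m ((le_max_right _ _).trans hm))
  zero_mem' := ⟨Λ.zero_mem, fun j => ⟨0, fun m _ => by
    rw [iterate_zero_apply']; exact Submodule.zero_mem _⟩⟩
  smul_mem' := by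
    rintro w x ⟨hx, hx'⟩
    refine ⟨Λ.smul_mem _ hx, fun j => ?_⟩
    obtain ⟨n, hn⟩ := hx' j
    refine ⟨n, fun m hm => ?_⟩
    obtain ⟨w', hw'⟩ := (hρ.pow m).map_W w
    rw [← algebraMap_smul L w x, iterate_smul_apply', hw', algebraMap_smul]
    exact Submodule.smul_mem _ _ (hn m hm)

theorem fitA_le (Φ : N →ₛₗ[ρ] N) (Λ : Submodule W N) : fitA Φ Λ ≤ Λ := by
  have := iInf_le (fun n : ℕ => latImg Φ n Λ) 0
  rwa [latImg_zero] at this

theorem fitB_le (hρ : Nice ρ) (Φ : N →ₛₗ[ρ] N) (Λ : Submodule W N) : fitB hρ Φ Λ ≤ Λ :=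
  fun _ hx => hx.1

theorem mem_fitA {Φ : N →ₛₗ[ρ] N} {Λ : Submodule W N} {x : N} :
    x ∈ fitA Φ Λ ↔ ∀ n, x ∈ latImg Φ n Λ := by
  rw [fitA, Submodule.mem_iInf]

theorem le_fitA_sup_fitB (hρ : Nice ρ) {Φ : N →ₛₗ[ρ] N} (hΦ : Function.Surjective Φ)
    (b : Basis (Fin h) L N) {Λ : Submodule W N} (hΛ : Λ.IsLattice L) (hst : latImg Φ 1 Λ ≤ Λ) :
    Λ ≤ fitA Φ Λ ⊔ fitB hρ Φ Λ := by
  intro x hx
  obtain ⟨y, z, rfl, hy, hz, hz'⟩ := exists_fitting hρ hΦ b hΛ hst hx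
  refine Submodule.add_mem_sup (mem_fitA.mpr hy) ⟨hz, fun j => ?_⟩
  obtain ⟨n, hn⟩ := hz' j
  refine ⟨n, fun m hm => ?_⟩
  obtain ⟨t, rfl⟩ := Nat.exists_eq_add_of_le hm
  rw [add_comm, Function.iterate_add_apply]
  exact iterate_mem_pPow hρ hst t hn

theorem latImg_one_fitA (hρ : Nice ρ) {Φ : N →ₛₗ[ρ] N} (hΦ : Function.Injective Φ)
    {Λ : Submodule W N} (hst : latImg Φ 1 Λ ≤ Λ) : latImg Φ 1 (fitA Φ Λ) = fitA Φ Λ := by
  apply le_antisymm
  · intro y hy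
    rw [latImg_one _ _ hρ] at hy
    obtain ⟨x, hx, rfl⟩ := hy
    rw [mem_fitA] at hx ⊢
    intro n
    rcases n with _ | n
    · rw [latImg_zero]
      exact hst ((latImg_one _ _ hρ).mpr ⟨x, by simpa [latImg_zero] using hx 0, rfl⟩)
    · rw [add_comm, latImg_add hρ, latImg_one _ _ hρ]
      exact ⟨x, hx n, rfl⟩
  · intro y hy
    rw [mem_fitA] at hy
    have key : ∀ n, ∃ x ∈ latImg Φ n Λ, Φ x = y := by
      intro n
      have := hy (n + 1)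
      rw [add_comm, latImg_add hρ, latImg_one _ _ hρ] at this
      exact this
    obtain ⟨x₀, -, hx₀⟩ := key 0
    rw [latImg_one _ _ hρ]
    refine ⟨x₀, mem_fitA.mpr fun n => ?_, hx₀⟩
    obtain ⟨x, hx, hxy⟩ := key n
    have : x = x₀ := hΦ (hxy.trans hx₀.symm)
    rwa [← this]

theorem fitA_fg {Φ : N →ₛₗ[ρ] N} {Λ : Submodule W N} (hfg : Λ.FG) : (fitA Φ Λ).FG := by
  have : IsNoetherian W Λ := isNoetherian_of_fg_of_noetherian Λ hfg
  exact (isNoetherian_submodule.mp this) _ (fitA_le Φ Λ)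

theorem fitB_fg (hρ : Nice ρ) {Φ : N →ₛₗ[ρ] N} {Λ : Submodule W N} (hfg : Λ.FG) :
    (fitB hρ Φ Λ).FG := by
  have : IsNoetherian W Λ := isNoetherian_of_fg_of_noetherian Λ hfg
  exact (isNoetherian_submodule.mp this) _ (fitB_le hρ Φ Λ)

/-- exact orders are preserved by maps with `Φ^n A = p^R A`. -/
theorem iterate_not_mem_pPow (hρ : Nice ρ) {Φ : N →ₛₗ[ρ] N} (hΦ : Function.Injective Φ)
    {A : Submodule W N} {n : ℕ} {R : ℤ} (hA : latImg Φ n A = pPow R A) {a : ℤ} {x : N}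
    (hx : x ∉ pPow a A) : (⇑Φ)^[n] x ∉ pPow (a + R) A := by
  intro hmem
  rw [← pPow_pPow, ← hA, ← latImg_pPow hρ, mem_latImg hρ] at hmem
  obtain ⟨y, hy, hyx⟩ := hmem
  have : y = x := (hΦ.iterate n) hyx
  exact hx (this ▸ hy)

theorem fitA_inf_fitB (hρ : Nice ρ) {Φ : N →ₛₗ[ρ] N} (hΦ : Function.Injective Φ)
    {Λ : Submodule W N} (hfg : Λ.FG) (hst : latImg Φ 1 Λ ≤ Λ) :
    fitA Φ Λ ⊓ fitB hρ Φ Λ = ⊥ := by
  rw [eq_bot_iff]
  rintro x ⟨hxA, hxB⟩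
  rw [Submodule.mem_bot]
  by_contra hx0
  set A := fitA Φ Λ with hA
  have hAfg : A.FG := fitA_fg hfg
  have hA1 : latImg Φ 1 A = A := latImg_one_fitA hρ hΦ hst
  obtain ⟨a, ha, ha'⟩ := exists_exact_order A hAfg (Submodule.subset_span hxA) hx0
  set P : Submodule L N := Submodule.span L (A : Set N) with hP
  have hA'fg : (Λ ⊓ P.restrictScalars W).FG := inf_fg Λ hfg _
  obtain ⟨c, hc⟩ := exists_pPow_le_of_le_span (Λ ⊓ P.restrictScalars W) A hA'fg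
    (fun y hy => hy.2)
  obtain ⟨n, hn⟩ := hxB.2 (a + 1 + c).toNat
  have hAn : latImg Φ n A = pPow 0 A := by
    have := latImg_mul hρ Φ (s := 1) (r := 0) (M := A) (by rw [pPow_zero]; exact hA1) n
    simpa using this
  have h1 : (⇑Φ)^[n] x ∉ pPow (a + 1 + 0) A := iterate_not_mem_pPow hρ hΦ hAn ha'
  apply h1
  have h2 : (⇑Φ)^[n] x ∈ A := by
    have : (⇑Φ)^[n] x ∈ latImg Φ n A := (mem_latImg hρ Φ n A).mpr ⟨x, hxA, rfl⟩
    rwa [hAn, pPow_zero] at this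
  have h3 : (⇑Φ)^[n] x ∈ pPow (((a + 1 + c).toNat : ℕ) : ℤ) (Λ ⊓ P.restrictScalars W) := by
    rw [pPow_inf]
    exact ⟨hn n le_rfl, Submodule.subset_span h2⟩
  have h4 : pPow (((a + 1 + c).toNat : ℕ) : ℤ) (Λ ⊓ P.restrictScalars W) ≤ pPow (a + 1 + 0) A := by
    have hc' := pPow_le_iff.mp hc
    calc pPow (((a + 1 + c).toNat : ℕ) : ℤ) (Λ ⊓ P.restrictScalars W)
        ≤ pPow (((a + 1 + c).toNat : ℕ) : ℤ) (pPow (-(c : ℤ)) A) := pPow_mono _ hc'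
      _ = pPow ((((a + 1 + c).toNat : ℕ) : ℤ) + -(c : ℤ)) A := pPow_pPow _ _ _
      _ ≤ pPow (a + 1 + 0) A := pPow_anti (by
          have := Int.self_le_toNat (a + 1 + c); omega) A
  exact h4 h3

theorem exists_latImg_le_of_fitA_eq_bot (hρ : Nice ρ) {Φ : N →ₛₗ[ρ] N}
    (hΦ : Function.Surjective Φ) (b : Basis (Fin h) L N) {Λ : Submodule W N}
    (hΛ : Λ.IsLattice L) (hst : latImg Φ 1 Λ ≤ Λ) (hA : fitA Φ Λ = ⊥) :
    ∃ n, latImg Φ n Λ ≤ pPow 1 Λ := by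
  classical
  have hle : Λ ≤ fitB hρ Φ Λ := by
    have := le_fitA_sup_fitB hρ hΦ b hΛ hst
    rwa [hA, bot_sup_eq] at this
  obtain ⟨S, hS⟩ := hΛ.fg
  have hgen : ∀ s ∈ S, ∃ n, ∀ m, n ≤ m → (⇑Φ)^[m] s ∈ pPow ((1 : ℕ) : ℤ) Λ := fun s hs =>
    (hle (hS ▸ Submodule.subset_span hs)).2 1
  choose! f hf using hgen
  refine ⟨S.sup f, ?_⟩
  intro y hy
  rw [mem_latImg hρ] at hy
  obtain ⟨x, hx, rfl⟩ := hy
  rw [← hS] at hx
  refine Submodule.span_induction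
    (p := fun x _ => (⇑Φ)^[S.sup f] x ∈ pPow 1 Λ) ?_ ?_ ?_ ?_ hx
  · intro s hs
    have := hf s hs (S.sup f) (Finset.le_sup hs)
    simpa using this
  · rw [iterate_zero_apply']; exact Submodule.zero_mem _
  · intro x y _ _ hx hy; rw [iterate_add_apply']; exact Submodule.add_mem _ hx hy
  · intro w x _ hx
    obtain ⟨w', hw'⟩ := (hρ.pow (S.sup f)).map_W w
    rw [← algebraMap_smul L w x, iterate_smul_apply', hw', algebraMap_smul]
    exact Submodule.smul_mem _ _ hx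

end Groth.Agent.Helper8.IsocH
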