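import Mathlib
import Groth.Prelude.Def_Isoc
import Groth.Agent.Helper8.IsocDecomp

/-!
# The slope decomposition: independence and spanning (helper8)
-/

set_option autoImplicit false
set_option linter.unusedSectionVars false

noncomputable section

open scoped Pointwise Isocrystal
open Filter Topology Module

universe u v

namespace Groth.Agent.Helper8.IsocH

open Isoc

variable {p : ℕ} [Fact p.Prime] {k : Type u} [Field k] [CharP k p] [PerfectRing k p]
variable {N : Type v} [AddCommGroup N] [Module (WittVector p k) N] [Module K(p, k) N]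
  [IsScalarTower (WittVector p k) K(p, k) N]
variable {ρ : K(p, k) →+* K(p, k)}

local notation "W" => WittVector p k
local notation "L" => K(p, k)

variable {h : ℕ}

theorem pPow_subset_span (r : ℤ) (A : Submodule W N) :
    (pPow r A : Set N) ⊆ Submodule.span L (A : Set N) := by
  intro y hy
  obtain ⟨x, hx, rfl⟩ := mem_pPow.mp hy
  exact Submodule.smul_mem _ _ (Submodule.subset_span hx)

theorem mem_pPow_neg_of_pow_smul_mem {B : Submodule W N} {x : N} {c : ℕ}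
    (hc : ((p : W) ^ c) • x ∈ B) : x ∈ pPow (-(c : ℤ)) B := by
  rw [mem_pPow]
  refine ⟨((p : W) ^ c) • x, hc, ?_⟩
  rw [← natCast_zpow_smul, smul_smul, ← zpow_add₀ p_ne_zero, neg_add_cancel, zpow_zero, one_smul]

/-- slopes separate: a part where `F^s` is exactly `p^R₁` meets trivially a part where `F^s` is
divisible by `p^R₂`, `R₂ > R₁`. -/
theorem span_inf_span_eq_bot (hρ : Nice ρ) (F : N →ₛₗ[ρ] N) (hF : Function.Injective F)
    {A B : Submodule W N} (hA : A.FG) (hB : B.FG) {s : ℕ} {R₁ R₂ : ℤ}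
    (hFA : latImg F s A = pPow R₁ A) (hFB : latImg F s B ≤ pPow R₂ B) (hR : R₁ < R₂) :
    Submodule.span L (A : Set N) ⊓ Submodule.span L (B : Set N) = ⊥ := by
  rw [eq_bot_iff]
  rintro x ⟨hxA, hxB⟩
  rw [Submodule.mem_bot]
  by_contra hx0
  obtain ⟨a, ha, ha'⟩ := exists_exact_order A hA hxA hx0
  obtain ⟨c, hc⟩ := exists_pow_smul_mem_of_mem_span B x hxB
  have hxB' : x ∈ pPow (-(c : ℤ)) B := mem_pPow_neg_of_pow_smul_mem hc
  set PA : Submodule L N := Submodule.span L (A : Set N) with hPA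
  have hB'fg : (B ⊓ PA.restrictScalars W).FG := inf_fg B hB _
  obtain ⟨c', hc'⟩ := exists_pPow_le_of_le_span (B ⊓ PA.restrictScalars W) A hB'fg
    (fun y hy => hy.2)
  set n : ℕ := (a + 1 + c + c').toNat with hn
  have hAn : latImg F (s * n) A = pPow (R₁ * n) A := latImg_mul hρ F hFA n
  have hBn : latImg F (s * n) B ≤ pPow (R₂ * n) B := latImg_mul_le hρ F hFB n
  have h1 : (⇑F)^[s * n] x ∉ pPow (a + 1 + R₁ * n) A := iterate_not_mem_pPow hρ hF hAn ha'
  apply h1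
  have h2 : (⇑F)^[s * n] x ∈ PA := by
    have : (⇑F)^[s * n] x ∈ latImg F (s * n) (pPow a A) :=
      (mem_latImg hρ F _ _).mpr ⟨x, ha, rfl⟩
    rw [latImg_pPow hρ, hAn, pPow_pPow] at this
    exact pPow_subset_span _ A this
  have h3 : (⇑F)^[s * n] x ∈ pPow (-(c : ℤ) + R₂ * n) B := by
    have : (⇑F)^[s * n] x ∈ latImg F (s * n) (pPow (-(c : ℤ)) B) :=
      (mem_latImg hρ F _ _).mpr ⟨x, hxB', rfl⟩
    rw [latImg_pPow hρ] at this
    have := pPow_mono (-(c : ℤ)) hBn this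
    rwa [pPow_pPow] at this
  have h4 : (⇑F)^[s * n] x ∈ pPow (-(c : ℤ) + R₂ * n) (B ⊓ PA.restrictScalars W) := by
    rw [pPow_inf]
    exact ⟨h3, h2⟩
  have h5 : pPow (-(c : ℤ) + R₂ * n) (B ⊓ PA.restrictScalars W) ≤ pPow (a + 1 + R₁ * n) A := by
    have hc'' := pPow_le_iff.mp hc'
    calc pPow (-(c : ℤ) + R₂ * n) (B ⊓ PA.restrictScalars W)
        ≤ pPow (-(c : ℤ) + R₂ * n) (pPow (-(c' : ℤ)) A) := pPow_mono _ hc''
      _ = pPow (-(c : ℤ) + R₂ * n + -(c' : ℤ)) A := pPow_pPow _ _ _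
      _ ≤ pPow (a + 1 + R₁ * n) A := pPow_anti (by
          have h6 := Int.self_le_toNat (a + 1 + c + c')
          rw [← hn] at h6
          have h7 : (0 : ℤ) ≤ (n : ℤ) := Int.natCast_nonneg n
          nlinarith) A
  exact h5 h4

/-- `P` carries a finitely generated `W`-form on which a power of `F` is more divisible than
slope `μ`. -/
def SlopeGt (F : N →ₛₗ[ρ] N) (P : Submodule L N) (μ : ℚ) : Prop :=
  ∃ B : Submodule W N, B.FG ∧ Submodule.span L (B : Set N) = P ∧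
    ∃ (r : ℤ) (s : ℕ), 0 < s ∧ μ < (r : ℚ) / s ∧ latImg F s B ≤ pPow r B

theorem slopeGt_bot (hρ : Nice ρ) (F : N →ₛₗ[ρ] N) (μ : ℚ) :
    SlopeGt F (⊥ : Submodule L N) μ := by
  refine ⟨⊥, Submodule.fg_bot, by simp, ⌊μ⌋ + 1, 1, Nat.one_pos, ?_, ?_⟩
  · push_cast
    rw [div_one]
    exact Int.lt_floor_add_one μ
  · rw [latImg_bot hρ, pPow_bot]

theorem slopeGt_of_isIsoclinicOn (F : N →ₛₗ[ρ] N) {P : Submodule L N} {μ ν : ℚ} (hμν : μ < ν)
    (hP : IsIsoclinicOn F P ν) : SlopeGt F P μ := by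
  obtain ⟨M, hfg, hsp, r, s, hs, hrs, hFM⟩ := hP
  exact ⟨M, hfg, hsp, r, s, hs, hrs ▸ hμν, hFM.le⟩

theorem span_sup_eq (A B : Submodule W N) :
    Submodule.span L ((A ⊔ B : Submodule W N) : Set N) =
      Submodule.span L (A : Set N) ⊔ Submodule.span L (B : Set N) := by
  apply le_antisymm
  · rw [Submodule.span_le]
    intro x hx
    obtain ⟨a, ha, b, hb, rfl⟩ := Submodule.mem_sup.mp hx
    exact Submodule.add_mem_sup (Submodule.subset_span ha) (Submodule.subset_span hb)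
  · refine sup_le ?_ ?_
    · exact Submodule.span_mono (show (A : Set N) ⊆ (A ⊔ B : Submodule W N) from
        (le_sup_left : A ≤ A ⊔ B))
    · exact Submodule.span_mono (show (B : Set N) ⊆ (A ⊔ B : Submodule W N) from
        (le_sup_right : B ≤ A ⊔ B))

theorem slopeGt_sup (hρ : Nice ρ) (F : N →ₛₗ[ρ] N) {P₁ P₂ : Submodule L N} {μ : ℚ}
    (h₁ : SlopeGt F P₁ μ) (h₂ : SlopeGt F P₂ μ) : SlopeGt F (P₁ ⊔ P₂) μ := by
  obtain ⟨B₁, hfg₁, hsp₁, r₁, s₁, hs₁, hrs₁, hFB₁⟩ := h₁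
  obtain ⟨B₂, hfg₂, hsp₂, r₂, s₂, hs₂, hrs₂, hFB₂⟩ := h₂
  have hs₁' : (0 : ℚ) < s₁ := by exact_mod_cast hs₁
  have hs₂' : (0 : ℚ) < s₂ := by exact_mod_cast hs₂
  have e₁ : latImg F (s₁ * s₂) B₁ ≤ pPow (r₁ * s₂) B₁ := latImg_mul_le hρ F hFB₁ s₂
  have e₂ : latImg F (s₁ * s₂) B₂ ≤ pPow (r₂ * s₁) B₂ := by
    rw [mul_comm s₁ s₂]; exact latImg_mul_le hρ F hFB₂ s₁
  refine ⟨B₁ ⊔ B₂, hfg₁.sup hfg₂, by rw [span_sup_eq, hsp₁, hsp₂], min (r₁ * s₂) (r₂ * s₁),
    s₁ * s₂, Nat.mul_pos hs₁ hs₂, ?_, ?_⟩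
  · rw [lt_div_iff₀ (by push_cast; positivity)]
    rw [lt_div_iff₀ hs₁'] at hrs₁
    rw [lt_div_iff₀ hs₂'] at hrs₂
    push_cast
    rcases min_cases ((r₁ : ℚ) * s₂) ((r₂ : ℚ) * s₁) with ⟨h, _⟩ | ⟨h, _⟩
    · rw [h]; nlinarith
    · rw [h]; nlinarith
  · rw [latImg_sup hρ, pPow_sup]
    refine sup_le_sup ?_ ?_
    · exact e₁.trans (pPow_anti (min_le_left _ _) B₁)
    · exact e₂.trans (pPow_anti (min_le_right _ _) B₂)

theorem disjoint_of_slopeGt (hρ : Nice ρ) (F : N →ₛₗ[ρ] N) (hF : Function.Injective F)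
    {P Q : Submodule L N} {μ : ℚ} (hP : IsIsoclinicOn F P μ) (hQ : SlopeGt F Q μ) :
    P ⊓ Q = ⊥ := by
  obtain ⟨A, hAfg, hAsp, r₁, s₁, hs₁, hrs₁, hFA⟩ := hP
  obtain ⟨B, hBfg, hBsp, r₂, s₂, hs₂, hrs₂, hFB⟩ := hQ
  have hs₁' : (0 : ℚ) < s₁ := by exact_mod_cast hs₁
  have hs₂' : (0 : ℚ) < s₂ := by exact_mod_cast hs₂
  have e₁ : latImg F (s₁ * s₂) A = pPow (r₁ * s₂) A := latImg_mul hρ F hFA s₂
  have e₂ : latImg F (s₁ * s₂) B ≤ pPow (r₂ * s₁) B := by
    rw [mul_comm s₁ s₂]; exact latImg_mul_le hρ F hFB s₁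
  have hR : r₁ * s₂ < r₂ * s₁ := by
    have : (r₁ : ℚ) * s₂ < r₂ * s₁ := by
      rw [← hrs₁, div_lt_div_iff₀ hs₁' hs₂'] at hrs₂
      exact hrs₂
    exact_mod_cast this
  rw [← hAsp, ← hBsp]
  exact span_inf_span_eq_bot hρ F hF hAfg hBfg e₁ e₂ hR

/-! ### independence of the slope parts -/

theorem slopeGt_finset_sup (hρ : Nice ρ) (F : N →ₛₗ[ρ] N) [FiniteDimensional L N] (μ : ℚ)
    (T : Finset ℚ) (hT : ∀ ν ∈ T, μ < ν) : SlopeGt F (T.sup fun ν => slopePart F ν) μ := by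
  classical
  induction T using Finset.induction_on with
  | empty => simpa using slopeGt_bot hρ F μ
  | insert ν T _ ih =>
    rw [Finset.sup_insert]
    refine slopeGt_sup hρ F ?_ (ih fun ν' hν' => hT ν' (Finset.mem_insert_of_mem hν'))
    exact slopeGt_of_isIsoclinicOn F (hT ν (Finset.mem_insert_self _ _)) (slopePart_good hρ F ν).2

theorem eq_zero_of_sum_eq_zero (hρ : Nice ρ) (F : N →ₛₗ[ρ] N) (hF : Function.Injective F)
    [FiniteDimensional L N] (T : Finset ℚ) :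
    ∀ x : ℚ → N, (∀ μ ∈ T, x μ ∈ slopePart F μ) → ∑ μ ∈ T, x μ = 0 → ∀ μ ∈ T, x μ = 0 := by
  classical
  induction T using Finset.induction_on_min with
  | empty => intro x _ _ μ hμ; simp at hμ
  | insert μ₀ T hlt ih =>
    intro x hx hsum
    have hμ₀ : μ₀ ∉ T := fun hmem => lt_irrefl _ (hlt μ₀ hmem)
    rw [Finset.sum_insert hμ₀] at hsum
    have h1 : x μ₀ = -∑ μ ∈ T, x μ := eq_neg_of_add_eq_zero_left hsum
    have h2 : ∑ μ ∈ T, x μ ∈ T.sup fun ν => slopePart F ν := by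
      refine Submodule.sum_mem _ fun ν hν => ?_
      exact (Finset.le_sup (f := fun ν => slopePart F ν) hν)
        (hx ν (Finset.mem_insert_of_mem hν))
    have h3 : x μ₀ ∈ slopePart F μ₀ ⊓ T.sup fun ν => slopePart F ν :=
      ⟨hx μ₀ (Finset.mem_insert_self _ _), by rw [h1]; exact Submodule.neg_mem _ h2⟩
    rw [disjoint_of_slopeGt hρ F hF (slopePart_good hρ F μ₀).2
      (slopeGt_finset_sup hρ F μ₀ T hlt), Submodule.mem_bot] at h3
    rw [h3, zero_add] at hsum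
    intro μ hμ
    rcases Finset.mem_insert.mp hμ with rfl | hμ
    · exact h3
    · exact ih x (fun ν hν => hx ν (Finset.mem_insert_of_mem hν)) hsum μ hμ

theorem iSupIndep_slopePart (hρ : Nice ρ) (F : N →ₛₗ[ρ] N) (hF : Function.Injective F)
    [FiniteDimensional L N] : iSupIndep fun μ : ℚ => slopePart F μ := by
  classical
  apply iSupIndep_of_dfinsupp_lsum_injective
  rw [injective_iff_map_eq_zero]
  intro v hv
  have key := eq_zero_of_sum_eq_zero hρ F hF v.support (fun μ => ((v μ : slopePart F μ) : N))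
    (fun μ _ => (v μ).2) (by
      rw [DFinsupp.lsum_apply_apply, DFinsupp.sumAddHom_apply] at hv
      exact hv)
  ext μ
  by_cases hμ : μ ∈ v.support
  · simpa using key μ hμ
  · simpa using hμ

/-! ### splitting off the first slope -/

theorem apply_iterate_twist_comm (F : N →ₛₗ[ρ] N) (m : ℤ) (s n : ℕ) (x : N) :
    F ((⇑((p : L) ^ m • iter F s))^[n] x) = (⇑((p : L) ^ m • iter F s))^[n] (F x) := by
  rw [iterate_twist, iterate_twist, LinearMap.map_smulₛₗ, map_p_zpow]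
  congr 1
  exact (Function.iterate_succ_apply' (⇑F) (s * n) x).symm.trans
    (Function.iterate_succ_apply (⇑F) (s * n) x)

theorem smul_zpow_neg_mem {B : Submodule W N} {c : ℤ} {y : N} (hy : y ∈ pPow (-c) B) :
    ((p : L) ^ c) • y ∈ B := by
  obtain ⟨z, hz, rfl⟩ := mem_pPow.mp hy
  rw [smul_smul, ← zpow_add₀ p_ne_zero, add_neg_cancel, zpow_zero, one_smul]
  exact hz

theorem mem_pPow_neg_of_smul_mem {B : Submodule W N} {c : ℤ} {y : N}
    (hy : ((p : L) ^ c) • y ∈ B) : y ∈ pPow (-c) B := by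
  rw [mem_pPow]
  exact ⟨_, hy, by rw [smul_smul, ← zpow_add₀ p_ne_zero, neg_add_cancel, zpow_zero, one_smul]⟩

theorem stable_span_of_le_pPow (F : N →ₛₗ[ρ] N) {A : Submodule W N} {c : ℤ}
    (hFA : ∀ x ∈ A, F x ∈ pPow c A) :
    ∀ x ∈ Submodule.span L (A : Set N), F x ∈ Submodule.span L (A : Set N) := by
  intro x hx
  refine Submodule.span_induction (p := fun x _ => F x ∈ Submodule.span L (A : Set N))
    ?_ ?_ ?_ ?_ hx
  · intro a ha; exact pPow_subset_span _ A (hFA a ha)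
  · rw [map_zero]; exact Submodule.zero_mem _
  · intro x y _ _ hx hy; rw [map_add]; exact Submodule.add_mem _ hx hy
  · intro l x _ hx; rw [LinearMap.map_smulₛₗ]; exact Submodule.smul_mem _ _ hx

theorem exists_split [Nontrivial N] (hρ : Nice ρ) (F : N →ₛₗ[ρ] N) (hF : Function.Bijective F)
    (b : Basis (Fin h) L N) :
    ∃ (PA PB : Submodule L N) (μ : ℚ), PA ≠ ⊥ ∧ (∀ x ∈ PA, F x ∈ PA) ∧ (∀ x ∈ PB, F x ∈ PB) ∧
      IsIsoclinicOn F PA μ ∧ PA ⊔ PB = ⊤ ∧ PA ⊓ PB = ⊥ := by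
  obtain ⟨lam, hlam⟩ := exists_isFirstSlope hρ F hF.2 b
  obtain ⟨r, s, M, hs, -, hl, hM, hord⟩ := exists_rational_slope' hρ F hF.2 b hlam
  have hρ' : Nice (ρ ^ s) := hρ.pow s
  set Φ : N →ₛₗ[ρ ^ s] N := (p : L) ^ (-r) • iter F s with hΦ
  have hΦsurj : Function.Surjective Φ := twist_surjective F hF.2 (-r) s
  have hΦinj : Function.Injective Φ := by
    intro x y hxy
    simp only [hΦ, LinearMap.smul_apply, iter_apply] at hxy
    have := smul_right_injective N (zpow_ne_zero (-r) (p_ne_zero (p := p) (k := k))) hxy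
    exact hF.1.iterate s this
  have hst : latImg Φ 1 M ≤ M := by
    rw [hΦ, latImg_twist hρ, Nat.cast_one, mul_one, mul_one, pPow_le_iff, neg_neg]
    exact hord.1
  have hnil : ∀ n, ¬ latImg Φ n M ≤ pPow 1 M := by
    intro n hn
    rcases Nat.eq_zero_or_pos n with rfl | hn0
    · rw [latImg_zero] at hn
      exact ne_bot_of_span_eq_top M hM.span_eq_top (eq_bot_of_le_pPow_one M hM.fg hn)
    · rw [hΦ, latImg_twist hρ, pPow_le_iff, pPow_pPow] at hn
      have h1 := le_slope_of_latImg_le hρ F hF.2 M hM hlam (Nat.mul_pos hs hn0) hn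
      have hs' : (0 : ℝ) < s := by exact_mod_cast hs
      have hn' : (0 : ℝ) < n := by exact_mod_cast hn0
      rw [hl, div_le_div_iff₀ (by push_cast; positivity) hs'] at h1
      push_cast at h1
      nlinarith
  set A := fitA Φ M with hA
  set B := fitB hρ' Φ M with hB
  have hAfg : A.FG := fitA_fg hM.fg
  have hBfg : B.FG := fitB_fg hρ' hM.fg
  have hA1 : latImg Φ 1 A = A := latImg_one_fitA hρ' hΦinj hst
  have hAB : A ⊓ B = ⊥ := fitA_inf_fitB hρ' hΦinj hM.fg hst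
  have hAne : A ≠ ⊥ := fun h0 => by
    obtain ⟨n, hn⟩ := exists_latImg_le_of_fitA_eq_bot hρ' hΦsurj b hM hst h0
    exact hnil n hn
  have hMle : M ≤ A ⊔ B := le_fitA_sup_fitB hρ' hΦsurj b hM hst
  obtain ⟨c, hc⟩ := exists_pPow_le (latImg F 1 M) M (latImg_fg hρ F 1 hM.fg) hM.span_eq_top
  have hFM : latImg F 1 M ≤ pPow (-(c : ℤ)) M := pPow_le_iff.mp hc
  have hcomm : ∀ n x, F ((⇑Φ)^[n] x) = (⇑Φ)^[n] (F x) := fun n x =>
    apply_iterate_twist_comm F (-r) s n x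
  have hFA : ∀ x ∈ A, F x ∈ pPow (-(c : ℤ)) A := by
    intro x hx
    apply mem_pPow_neg_of_smul_mem
    rw [hA, mem_fitA] at hx ⊢
    intro n
    obtain ⟨y, hy, rfl⟩ := (mem_latImg hρ' Φ n M).mp (hx n)
    rw [hcomm]
    have h1 : F y ∈ pPow (-(c : ℤ)) M := hFM ((mem_latImg hρ F 1 M).mpr ⟨y, hy, rfl⟩)
    have h2 : ((p : L) ^ (c : ℤ)) • (⇑Φ)^[n] (F y) = (⇑Φ)^[n] (((p : L) ^ (c : ℤ)) • F y) := by
      rw [iterate_smul_apply', map_p_zpow]
    rw [h2]
    exact (mem_latImg hρ' Φ n M).mpr ⟨_, smul_zpow_neg_mem h1, rfl⟩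
  have hFB : ∀ x ∈ B, F x ∈ pPow (-(c : ℤ)) B := by
    rintro x ⟨hxM, hx'⟩
    apply mem_pPow_neg_of_smul_mem
    refine ⟨?_, fun j => ?_⟩
    · exact smul_zpow_neg_mem (hFM ((mem_latImg hρ F 1 M).mpr ⟨x, hxM, rfl⟩))
    · obtain ⟨n, hn⟩ := hx' j
      refine ⟨n, fun m hm => ?_⟩
      rw [iterate_smul_apply', map_p_zpow, ← hcomm]
      have h1 : F ((⇑Φ)^[m] x) ∈ latImg F 1 (pPow (j : ℤ) M) :=
        (mem_latImg hρ F 1 _).mpr ⟨_, hn m hm, rfl⟩
      rw [latImg_pPow hρ] at h1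
      have h2 := pPow_mono (j : ℤ) hFM h1
      rw [pPow_pPow] at h2
      obtain ⟨z, hz, hzy⟩ := mem_pPow.mp h2
      rw [← hzy, smul_smul, ← zpow_add₀ p_ne_zero, mem_pPow]
      exact ⟨z, hz, by congr 2; ring⟩
  set PA : Submodule L N := Submodule.span L (A : Set N) with hPA
  set PB : Submodule L N := Submodule.span L (B : Set N) with hPB
  refine ⟨PA, PB, (r : ℚ) / s, ?_, stable_span_of_le_pPow F hFA, stable_span_of_le_pPow F hFB,
    ?_, ?_, ?_⟩
  · intro h0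
    apply hAne
    rw [eq_bot_iff]
    intro x hx
    have : x ∈ PA := Submodule.subset_span hx
    rwa [h0] at this
  · refine ⟨A, hAfg, rfl, r, s, hs, rfl, ?_⟩
    have := hA1
    rw [hΦ, latImg_twist hρ, Nat.cast_one, mul_one, mul_one] at this
    calc latImg F s A = pPow r (pPow (-r) (latImg F s A)) := by
          rw [pPow_pPow, add_neg_cancel, pPow_zero]
      _ = pPow r A := by rw [this]
  · rw [hPA, hPB, ← span_sup_eq, eq_top_iff, ← hM.span_eq_top]
    exact Submodule.span_mono hMle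
  · rw [eq_bot_iff]
    rintro x ⟨hxA, hxB⟩
    obtain ⟨c₁, hc₁⟩ := exists_pow_smul_mem_of_mem_span A x hxA
    obtain ⟨c₂, hc₂⟩ := exists_pow_smul_mem_of_mem_span B x hxB
    have h1 : ((p : W) ^ (c₁ + c₂)) • x ∈ A ⊓ B :=
      ⟨by rw [pow_add, mul_comm, mul_smul]; exact A.smul_mem _ hc₁,
       by rw [pow_add, mul_smul]; exact B.smul_mem _ hc₂⟩
    rw [hAB, Submodule.mem_bot, ← natCast_zpow_smul] at h1
    rcases smul_eq_zero.mp h1 with h | h
    · exact absurd h (zpow_ne_zero _ p_ne_zero)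
    · simpa using h

/-! ### the slope parts span -/

theorem map_slopePart_restrict_le (hρ : Nice ρ) (F : N →ₛₗ[ρ] N) (P : Submodule L N)
    [FiniteDimensional L P] (hP : ∀ x ∈ P, F x ∈ P) (μ : ℚ) :
    (slopePart (F.restrict hP) μ).map P.subtype ≤ slopePart F μ := by
  obtain ⟨hst, M', hfg, hsp, r, s, hs, hrs, hFM⟩ := slopePart_good hρ (F.restrict hP) μ
  apply le_sSup
  rw [Set.mem_ofPred_eq, mem_slopeSet_iff hρ]
  refine ⟨?_, M'.map (P.subtype.restrictScalars W), hfg.map _, ?_, r, s, hs, hrs, ?_⟩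
  · rintro _ ⟨y, hy, rfl⟩
    exact ⟨F.restrict hP y, hst y hy, rfl⟩
  · have : ((M'.map (P.subtype.restrictScalars W) : Submodule W N) : Set N) =
        P.subtype '' (M' : Set P) := rfl
    rw [this, Submodule.span_image, hsp]
  · rw [← map_latImg hρ P.subtype (F.restrict hP) F (fun x => rfl), hFM, map_pPow]

theorem restrict_bijective (hρ : Nice ρ) (F : N →ₛₗ[ρ] N) (hF : Function.Injective F)
    (P : Submodule L N) [FiniteDimensional L P] (hP : ∀ x ∈ P, F x ∈ P) :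
    Function.Bijective (F.restrict hP) := by
  constructor
  · intro x y hxy
    apply Subtype.ext
    apply hF
    have := congrArg Subtype.val hxy
    simpa using this
  · rintro ⟨y, hy⟩
    obtain ⟨x, hx, hxy⟩ := exists_mem_apply_eq hρ F hF P hP hy
    exact ⟨⟨x, hx⟩, Subtype.ext hxy⟩

theorem iSup_slopePart_eq_top_aux (hρ : Nice ρ) : ∀ (n : ℕ) (N' : Type v) [AddCommGroup N']
    [Module W N'] [Module L N'] [IsScalarTower W L N'] [FiniteDimensional L N']
    (F : N' →ₛₗ[ρ] N'), Function.Bijective F → finrank L N' = n →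
    ⨆ μ : ℚ, slopePart F μ = ⊤ := by
  intro n
  induction n using Nat.strong_induction_on with
  | _ n ih =>
    intro N' _ _ _ _ _ F hF hn
    rcases subsingleton_or_nontrivial N' with hsub | hnt
    · exact Subsingleton.elim _ _
    · obtain ⟨PA, PB, μ, hPAne, hPAst, hPBst, hiso, hsup, hinf⟩ :=
        exists_split hρ F hF (finBasis L N')
      have hlt : finrank L PB < n := by
        have h1 := Submodule.finrank_sup_add_finrank_inf_eq PA PB
        rw [hsup, hinf, finrank_bot, finrank_top, add_zero, hn] at h1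
        have h2 : 1 ≤ finrank L PA := Submodule.one_le_finrank_iff.mpr hPAne
        omega
      have hF'bij := restrict_bijective hρ F hF.1 PB hPBst
      have hIH := ih _ hlt PB (F.restrict hPBst) hF'bij rfl
      have h1 : PA ≤ ⨆ μ, slopePart F μ :=
        le_trans (le_sSup ((mem_slopeSet_iff hρ F μ PA).mpr ⟨hPAst, hiso⟩))
          (le_iSup (fun μ => slopePart F μ) μ)
      have h2 : PB ≤ ⨆ μ, slopePart F μ := by
        have : PB = (⊤ : Submodule L PB).map PB.subtype := by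
          rw [Submodule.map_top, Submodule.range_subtype]
        rw [this, ← hIH, Submodule.map_iSup]
        exact iSup_mono fun μ => map_slopePart_restrict_le hρ F PB hPBst μ
      rw [eq_top_iff, ← hsup]
      exact sup_le h1 h2

theorem iSup_slopePart_eq_top (hρ : Nice ρ) (F : N →ₛₗ[ρ] N) (hF : Function.Bijective F)
    [FiniteDimensional L N] : ⨆ μ : ℚ, slopePart F μ = ⊤ :=
  iSup_slopePart_eq_top_aux hρ _ N F hF rfl

theorem isInternal_slopePart (hρ : Nice ρ) (F : N →ₛₗ[ρ] N) (hF : Function.Bijective F)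
    [FiniteDimensional L N] : DirectSum.IsInternal fun μ : ℚ => slopePart F μ :=
  DirectSum.isInternal_submodule_of_iSupIndep_of_iSup_eq_top (iSupIndep_slopePart hρ F hF.1)
    (iSup_slopePart_eq_top hρ F hF)

end Groth.Agent.Helper8.IsocH
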