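import Mathlib
import Groth.Prelude.Def_Isoc
import Groth.Agent.Helper8.IsocSplit

/-!
# The end point of the Newton polygon (helper8)
-/

set_option autoImplicit false
set_option linter.unusedSectionVars false

noncomputable section

open scoped Pointwise Isocrystal
open Filter Topology Module

universe u v

namespace Groth.Agent.Helper8.IsocH

open Isoc

variable {p : ℕ} [Fact p.Prime] {k : Type u} [Field k] [CharP k p] [PerfectRing k p]
variable {N : Type v} [AddCommGroup N] [Module (WittVector p k) N] [Module K(p, k) N]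
  [IsScalarTower (WittVector p k) K(p, k) N]
variable {ρ : K(p, k) →+* K(p, k)}

local notation "W" => WittVector p k
local notation "L" => K(p, k)

variable {h : ℕ}

theorem latImg_span_le (hρ : Nice ρ) (G : N →ₛₗ[ρ] N) (s : ℕ) (X : Set N) (Y : Submodule W N)
    (hXY : ∀ x ∈ X, (⇑G)^[s] x ∈ Y) : latImg G s (Submodule.span W X) ≤ Y := by
  intro y hy
  obtain ⟨x, hx, rfl⟩ := (mem_latImg hρ G s _).mp hy
  refine Submodule.span_induction (p := fun x _ => (⇑G)^[s] x ∈ Y) hXY ?_ ?_ ?_ hx
  · rw [iterate_zero_apply']; exact Y.zero_mem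
  · intro x y _ _ hx hy; rw [iterate_add_apply']; exact Y.add_mem hx hy
  · intro w x _ hx
    obtain ⟨w', hw'⟩ := (hρ.pow s).map_W w
    rw [← algebraMap_smul L w x, iterate_smul_apply', hw', algebraMap_smul]
    exact Y.smul_mem _ hx

/-- the order of the determinant coefficient measured by the change of lattice -/
theorem isOrdP_detCoeff_of_latImg_eq_span (hρ : Nice ρ) (e e' : Basis (Fin h) L N)
    (G : N →ₛₗ[ρ] N)
    (heq : latImg G 1 (Submodule.span W (Set.range e)) = Submodule.span W (Set.range e')) {v : ℤ}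
    (hv : IsOrdP (e.toMatrix e').det v) : IsOrdP (detCoeff e G) v := by
  classical
  set D : N ≃ₗ[L] N := e.equiv e' (Equiv.refl _) with hD
  have hDe : ∀ i, D (e i) = e' i := fun i => by rw [hD, Basis.equiv_apply]; rfl
  let G' : N →ₛₗ[ρ] N :=
    { toFun := fun x => D.symm (G x)
      map_add' := fun x y => by rw [map_add, map_add]
      map_smul' := fun c x => by rw [LinearMap.map_smulₛₗ, map_smul] }
  have hG' : ∀ x, G x = (D : N →ₗ[L] N) (G' x) := fun x => (D.apply_symm_apply (G x)).symm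
  set Λ := Submodule.span W (Set.range e) with hΛ
  set DW : N ≃ₗ[W] N := D.restrictScalars W with hDW
  have hmapΛ : Λ.map (DW : N →ₗ[W] N) = Submodule.span W (Set.range e') := by
    rw [hΛ, Submodule.map_span, ← Set.range_comp]
    congr 2
    funext i
    exact hDe i
  have hmap : (latImg G' 1 Λ).map (DW : N →ₗ[W] N) = latImg G 1 Λ := by
    ext y
    simp only [Submodule.mem_map, latImg_one _ _ hρ]
    constructor
    · rintro ⟨_, ⟨x, hx, rfl⟩, rfl⟩
      exact ⟨x, hx, hG' x⟩
    · rintro ⟨x, hx, rfl⟩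
      exact ⟨_, ⟨x, hx, rfl⟩, (hG' x).symm⟩
  have hfix : latImg G' 1 Λ = Λ := by
    apply Submodule.map_injective_of_injective (f := (DW : N →ₗ[W] N)) DW.injective
    rw [hmap, heq, hmapΛ]
  have h0 : IsOrdP (detCoeff e G') (0 * h) :=
    isOrdP_of_latImg_eq hρ e G' 0 (by rw [pPow_zero]; exact hfix)
  have hsm : smat e G = e.toMatrix e' * smat e G' := by
    have h1 := smat_comp e (D : N →ₗ[L] N) G' G hG'
    have h2 : smat e (D : N →ₗ[L] N) = e.toMatrix e' := by
      ext i j
      change e.repr (D (e j)) i = _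
      rw [hDe, Basis.toMatrix_apply]
    have h3 : (smat e G').map (RingHom.id L) = smat e G' := by
      ext i j; rfl
    rw [h1, h2, h3]
  rw [detCoeff_eq, hsm, Matrix.det_mul, ← detCoeff_eq]
  have := isOrdP_mul hv h0
  simpa using this

theorem prod_zpow_eq {ι : Type*} (s : Finset ι) (f : ι → ℤ) :
    ∏ i ∈ s, (p : L) ^ f i = (p : L) ^ ∑ i ∈ s, f i := by
  classical
  induction s using Finset.induction_on with
  | empty => simp
  | insert a s ha ih => rw [Finset.prod_insert ha, Finset.sum_insert ha, ih, zpow_add₀ p_ne_zero]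

theorem finsum_slope_mul_newtonMult (hρ : Nice ρ) (F : N →ₛₗ[ρ] N) (hF : Function.Bijective F)
    [FiniteDimensional L N] (b : Basis (Fin h) L N) {d : ℤ} (hd : IsOrdP (detCoeff b F) d) :
    ∑ᶠ μ : ℚ, μ * (newtonMult F μ : ℚ) = d := by
  classical
  have hint := isInternal_slopePart hρ F hF
  have hfin : {μ : ℚ | slopePart F μ ≠ ⊥}.Finite :=
    WellFoundedGT.finite_ne_bot_of_iSupIndep hint.submodule_iSupIndep
  -- data for each slope
  have hdata : ∀ μ : ℚ, ∃ hP : ∀ x ∈ slopePart F μ, F x ∈ slopePart F μ,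
      IsIsoclinic (F.restrict hP) μ :=
    fun μ => (mem_slopeSet_iff hρ F μ _).mpr (slopePart_good hρ F μ)
  choose hst hiso using hdata
  choose M' hM' r s hs hrs hFM' using hiso
  have hbasis : ∀ μ : ℚ, ∃ eμ : Basis (Fin (finrank L (slopePart F μ))) L (slopePart F μ),
      M' μ = Submodule.span W (Set.range eμ) :=
    fun μ => exists_basis_of_isLattice (M' μ) (hM' μ) (finBasis L _)
  choose eμ heμ using hbasis
  -- index type
  let ι' := {μ : ℚ // slopePart F μ ≠ ⊥}
  have : Fintype ι' := hfin.fintype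
  have hint' : DirectSum.IsInternal (fun i : ι' => slopePart F i.1) :=
    DirectSum.isInternal_ne_bot_iff.mpr hint
  let m : ι' → ℕ := fun i => finrank L (slopePart F i.1)
  let cb : Basis (Σ i : ι', Fin (m i)) L N := hint'.collectedBasis (fun i => eμ i.1)
  have hcard : Fintype.card (Σ i : ι', Fin (m i)) = h := by
    rw [← Module.finrank_eq_card_basis cb, Module.finrank_eq_card_basis b, Fintype.card_fin]
  let σ : (Σ i : ι', Fin (m i)) ≃ Fin h := Fintype.equivFinOfCardEq hcard
  let e : Basis (Fin h) L N := cb.reindex σ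
  have he : ∀ a : Σ i : ι', Fin (m i), e (σ a) = ((eμ a.1.1 a.2 : slopePart F a.1.1) : N) := by
    intro a
    rw [Basis.reindex_apply, Equiv.symm_apply_apply, hint'.collectedBasis_coe]
  -- the W-forms
  let Mi : ι' → Submodule W N := fun i =>
    (M' i.1).map ((slopePart F i.1).subtype.restrictScalars W)
  have hMi : ∀ i : ι', latImg F (s i.1) (Mi i) = pPow (r i.1) (Mi i) := by
    intro i
    rw [← map_latImg hρ (slopePart F i.1).subtype (F.restrict (hst i.1)) F (fun x => rfl),
      hFM' i.1, map_pPow]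
  -- common exponent
  let S : ℕ := ∏ i : ι', s i.1
  have hSpos : 0 < S := Finset.prod_pos fun i _ => hs i.1
  have hdvd : ∀ i : ι', ∃ n : ℕ, S = s i.1 * n := fun i =>
    Finset.dvd_prod_of_mem (fun i : ι' => s i.1) (Finset.mem_univ i)
  choose nn hnn using hdvd
  let R : ι' → ℤ := fun i => r i.1 * nn i
  have hMiS : ∀ i : ι', latImg F S (Mi i) = pPow (R i) (Mi i) := by
    intro i
    have := latImg_mul hρ F (hMi i) (nn i)
    rwa [← hnn i] at this
  have hRS : ∀ i : ι', (R i : ℚ) = i.1 * S := by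
    intro i
    have hs' : (s i.1 : ℚ) ≠ 0 := by have := hs i.1; positivity
    have h1 : (r i.1 : ℚ) = i.1 * s i.1 := (div_eq_iff hs').mp (hrs i.1)
    rw [hnn i]
    push_cast [R]
    rw [h1]
    ring
  -- the two bases
  have hw : ∀ j : Fin h, IsUnit ((p : L) ^ R (σ.symm j).1) := fun j =>
    (zpow_ne_zero _ p_ne_zero).isUnit
  let e' : Basis (Fin h) L N := e.isUnitSMul hw
  have he' : ∀ a : Σ i : ι', Fin (m i), e' (σ a) = ((p : L) ^ R a.1) • e (σ a) := by
    intro a
    rw [Basis.isUnitSMul_apply, Equiv.symm_apply_apply]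
  set Λ := Submodule.span W (Set.range e) with hΛ
  have hmem : ∀ a : Σ i : ι', Fin (m i), e (σ a) ∈ Mi a.1 := by
    intro a
    rw [he]
    refine ⟨eμ a.1.1 a.2, ?_, rfl⟩
    rw [heμ a.1.1]
    exact Submodule.subset_span ⟨a.2, rfl⟩
  have hMiΛ : ∀ i : ι', Mi i ≤ Λ := by
    intro i
    change (M' i.1).map _ ≤ Λ
    rw [heμ i.1, Submodule.map_span, Submodule.span_le]
    rintro _ ⟨_, ⟨t, rfl⟩, rfl⟩
    have := he ⟨i, t⟩
    exact Submodule.subset_span ⟨σ ⟨i, t⟩, this⟩
  have hMiΛ' : ∀ i : ι', pPow (R i) (Mi i) ≤ Submodule.span W (Set.range e') := by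
    intro i
    change pPow (R i) ((M' i.1).map _) ≤ _
    rw [heμ i.1, Submodule.map_span, pPow, Submodule.smul_span, Submodule.span_le]
    rintro _ ⟨_, ⟨_, ⟨t, rfl⟩, rfl⟩, rfl⟩
    have h1 := he ⟨i, t⟩
    have h2 := he' ⟨i, t⟩
    refine Submodule.subset_span ⟨σ ⟨i, t⟩, ?_⟩
    rw [h2, h1]
    rfl
  have heq : latImg F S Λ = Submodule.span W (Set.range e') := by
    apply le_antisymm
    · apply latImg_span_le hρ
      rintro _ ⟨j, rfl⟩
      obtain ⟨a, rfl⟩ := σ.surjective j
      apply hMiΛ' a.1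
      rw [← hMiS]
      exact (mem_latImg hρ F S _).mpr ⟨_, hmem a, rfl⟩
    · rw [Submodule.span_le]
      rintro _ ⟨j, rfl⟩
      obtain ⟨a, rfl⟩ := σ.surjective j
      rw [he']
      have : ((p : L) ^ R a.1) • e (σ a) ∈ pPow (R a.1) (Mi a.1) :=
        mem_pPow.mpr ⟨_, hmem a, rfl⟩
      rw [← hMiS] at this
      exact latImg_mono F S (hMiΛ a.1) this
  -- the order of the determinant
  set V : ℤ := ∑ j : Fin h, R (σ.symm j).1 with hV
  have hdetV : IsOrdP (e.toMatrix e').det V := by
    rw [Basis.toMatrix_isUnitSMul, Matrix.det_diagonal, prod_zpow_eq]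
    exact isOrdP_p_zpow _
  have h1 : IsOrdP (detCoeff e (iter F S)) V :=
    isOrdP_detCoeff_of_latImg_eq_span (hρ.pow S) e e' (iter F S)
      (by rw [latImg_iter_one]; exact heq) hdetV
  have h2 : IsOrdP (detCoeff e (iter F S)) (S * d) :=
    isOrdP_detCoeff_iter hρ e F (isOrdP_detCoeff_change hρ b e F hd) S
  have hVd : V = S * d := isOrdP_unique h1 h2
  have hVsum : V = ∑ i : ι', (m i : ℤ) * R i := by
    rw [hV, ← Equiv.sum_comp σ (fun j => R (σ.symm j).1), Fintype.sum_sigma]
    refine Finset.sum_congr rfl fun i _ => ?_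
    simp only [Equiv.symm_apply_apply, Finset.sum_const, Finset.card_univ, Fintype.card_fin,
      nsmul_eq_mul]
  -- the finite sum
  have hsupp : Function.support (fun μ : ℚ => μ * (newtonMult F μ : ℚ)) ⊆ ↑hfin.toFinset := by
    intro μ hμ
    rw [Function.mem_support] at hμ
    rw [Finset.mem_coe, Set.Finite.mem_toFinset, Set.mem_ofPred_eq]
    intro h0
    apply hμ
    rw [newtonMult, h0, finrank_bot]
    simp
  rw [finsum_eq_sum_of_support_subset _ hsupp,
    Finset.sum_subtype hfin.toFinset (p := fun μ => slopePart F μ ≠ ⊥)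
      (fun x => by rw [Set.Finite.mem_toFinset]; rfl) (fun μ => μ * (newtonMult F μ : ℚ))]
  have hSq : (S : ℚ) ≠ 0 := by positivity
  have key : (S : ℚ) * ∑ i : ι', (i.1 : ℚ) * (newtonMult F i.1 : ℚ) = S * d := by
    have h3 : ((V : ℤ) : ℚ) = (S : ℚ) * d := by rw [hVd]; push_cast; ring
    rw [← h3, hVsum, Finset.mul_sum]
    push_cast
    refine Finset.sum_congr rfl fun i _ => ?_
    rw [hRS i]
    change _ = ((finrank L (slopePart F i.1) : ℕ) : ℚ) * _
    rw [newtonMult]
    ring
  exact mul_left_cancel₀ hSq key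

end Groth.Agent.Helper8.IsocH
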