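import Mathlib
import Groth.Agent.Helper8.LangK

/-!
# Frobenius-semilinear bijections of finite free modules over `W(k)`, `k` algebraically closed,
have a fixed basis (helper8)
-/

set_option autoImplicit false
set_option linter.unusedSectionVars false

noncomputable section

open Module

universe u v

namespace Groth.Agent.Helper8.Lang

variable {p : ℕ} [Fact p.Prime] {k : Type u} [Field k] [CharP k p]

local notation "W" => WittVector p k

section Witt

variable [PerfectRing k p]

theorem coeff_zero_unit (b : (W)ˣ) : (b : W).coeff 0 ≠ 0 := by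
  have h : IsUnit (WittVector.constantCoeff (b : W)) := b.isUnit.map WittVector.constantCoeff
  exact h.ne_zero

theorem p_dvd_of_coeff_zero (x : W) (h : x.coeff 0 = 0) : (p : W) ∣ x := by
  by_cases hx : x = 0
  · rw [hx]; exact dvd_zero _
  · obtain ⟨m, b, hb⟩ := WittVector.exists_eq_pow_p_mul' x hx
    rcases Nat.eq_zero_or_pos m with rfl | hm
    · exfalso
      rw [pow_zero, one_mul] at hb
      rw [hb] at h
      exact coeff_zero_unit b h
    · rw [hb]
      exact Dvd.dvd.mul_right (dvd_pow_self _ hm.ne') _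

theorem coeff_zero_p_mul (x : W) : ((p : W) * x).coeff 0 = 0 := by
  rw [mul_comm]; exact WittVector.mul_charP_coeff_zero x

theorem eq_zero_of_forall_pow_dvd (x : W) (h : ∀ j : ℕ, (p : W) ^ j ∣ x) : x = 0 := by
  by_contra hx
  obtain ⟨m, b, hb⟩ := WittVector.exists_eq_pow_p_mul' x hx
  obtain ⟨y, hy⟩ := h (m + 1)
  rw [hb, pow_succ, mul_assoc] at hy
  have h2 := mul_left_cancel₀ (pow_ne_zero m (WittVector.p_nonzero p k)) hy
  have h3 := coeff_zero_p_mul y
  rw [← h2] at h3
  exact coeff_zero_unit b h3

theorem iterate_frobenius_natCast (ν : ℕ) (n : ℕ) :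
    (⇑(WittVector.frobenius : W →+* W))^[ν] (n : W) = n :=
  Function.iterate_fixed (map_natCast _ n) ν

theorem iterate_frobenius_mul (ν : ℕ) (x y : W) :
    (⇑(WittVector.frobenius : W →+* W))^[ν] (x * y) =
      (⇑(WittVector.frobenius : W →+* W))^[ν] x * (⇑(WittVector.frobenius : W →+* W))^[ν] y := by
  induction ν generalizing x y with
  | zero => rfl
  | succ ν ih => rw [Function.iterate_succ_apply, map_mul, ih]; rfl

theorem iterate_frobenius_p_pow (ν j : ℕ) :
    (⇑(WittVector.frobenius : W →+* W))^[ν] ((p : W) ^ j) = (p : W) ^ j := by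
  induction j with
  | zero =>
    rw [pow_zero]
    exact Function.iterate_fixed (map_one _) ν
  | succ j ih => rw [pow_succ, iterate_frobenius_mul, ih, iterate_frobenius_natCast]

theorem exists_limit_witt (w : ℕ → W) (hw : ∀ j, (p : W) ^ j ∣ w (j + 1) - w j) :
    ∃ ℓ : W, ∀ j, (p : W) ^ j ∣ ℓ - w j := by
  have hprec : IsPrecomplete (Ideal.span {(p : W)}) W := inferInstance
  have hdvd : ∀ m n, m ≤ n → (p : W) ^ m ∣ w n - w m := by
    intro m n hmn
    induction n, hmn using Nat.le_induction with
    | base => simp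
    | succ n hn ih =>
      have h1 : (p : W) ^ m ∣ w (n + 1) - w n := (pow_dvd_pow _ hn).trans (hw n)
      have : w (n + 1) - w m = (w (n + 1) - w n) + (w n - w m) := by ring
      rw [this]
      exact dvd_add h1 ih
  obtain ⟨ℓ, hℓ⟩ := hprec.prec (f := w) (by
    intro m n hmn
    rw [SModEq.sub_mem, smul_eq_mul, Ideal.mul_top, Ideal.span_singleton_pow,
      Ideal.mem_span_singleton]
    have := hdvd m n hmn
    rwa [← neg_sub, dvd_neg])
  refine ⟨ℓ, fun j => ?_⟩
  have := hℓ j
  rw [SModEq.sub_mem, smul_eq_mul, Ideal.mul_top, Ideal.span_singleton_pow,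
    Ideal.mem_span_singleton] at this
  rwa [← neg_sub, dvd_neg]

end Witt

section Main

variable [IsAlgClosed k]
variable {M : Type v} [AddCommGroup M] [Module (WittVector p k) M] {n : ℕ}
  (e : Basis (Fin n) (WittVector p k) M)

/-- reduction mod `p` in coordinates -/
def red : M →ₛₗ[(WittVector.constantCoeff : W →+* k)] (Fin n → k) where
  toFun m i := WittVector.constantCoeff (e.repr m i)
  map_add' x y := by
    ext i
    simp only [map_add, Finsupp.add_apply, Pi.add_apply]
  map_smul' a x := by
    ext i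
    simp only [map_smul, Finsupp.smul_apply, smul_eq_mul, map_mul, Pi.smul_apply]

theorem red_apply (m : M) (i : Fin n) : red e m i = (e.repr m i).coeff 0 := rfl

/-- a set-theoretic section of the reduction -/
def lift (y : Fin n → k) : M := ∑ i, WittVector.teichmuller p (y i) • e i

theorem red_lift (y : Fin n → k) : red e (lift e y) = y := by
  ext i
  rw [red_apply, lift, map_sum, Finsupp.coe_finsetSum, Finset.sum_apply,
    Finset.sum_eq_single i]
  · rw [map_smul, e.repr_self, Finsupp.smul_apply, Finsupp.single_eq_same, smul_eq_mul, mul_one,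
      WittVector.teichmuller_coeff_zero]
  · intro j _ hj
    rw [map_smul, e.repr_self, Finsupp.smul_apply, Finsupp.single_eq_of_ne hj.symm, smul_zero]
  · intro h; exact absurd (Finset.mem_univ i) h

theorem red_p_smul (m : M) : red e ((p : W) • m) = 0 := by
  rw [LinearMap.map_smulₛₗ]
  have : (WittVector.constantCoeff : W →+* k) (p : W) = 0 := by
    rw [map_natCast]; exact CharP.cast_eq_zero k p
  rw [this, zero_smul]

theorem red_pow_smul (j : ℕ) (m : M) : red e ((p : W) ^ (j + 1) • m) = 0 := by
  rw [pow_succ', mul_smul]; exact red_p_smul e _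

theorem exists_of_red_eq_zero (m : M) (h : red e m = 0) : ∃ m' : M, m = (p : W) • m' := by
  have hdvd : ∀ i, (p : W) ∣ e.repr m i := fun i =>
    p_dvd_of_coeff_zero _ (by rw [← red_apply, h]; rfl)
  choose w hw using hdvd
  refine ⟨∑ i, w i • e i, ?_⟩
  conv_lhs => rw [← e.sum_repr m]
  rw [Finset.smul_sum]
  refine Finset.sum_congr rfl fun i _ => ?_
  rw [hw i, mul_smul]

variable {ν : ℕ} (F : M →+ M)

theorem F_pow_smul
    (hF : ∀ (a : W) (m : M), F (a • m) = ((⇑(WittVector.frobenius : W →+* W))^[ν] a) • F m)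
    (j : ℕ) (m : M) : F ((p : W) ^ j • m) = (p : W) ^ j • F m := by
  rw [hF, iterate_frobenius_p_pow]

theorem red_F_eq_of_red_eq
    (hF : ∀ (a : W) (m : M), F (a • m) = ((⇑(WittVector.frobenius : W →+* W))^[ν] a) • F m)
    {m m' : M} (h : red e m = red e m') : red e (F m) = red e (F m') := by
  have h0 : red e (m - m') = 0 := by rw [map_sub, h, sub_self]
  obtain ⟨x, hx⟩ := exists_of_red_eq_zero e _ h0
  have h2 : F m - F m' = (p : W) • F x := by
    rw [← map_sub, hx]
    have := F_pow_smul F hF 1 x
    rwa [pow_one] at this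
  have h1 : red e (F m - F m') = 0 := by rw [h2]; exact red_p_smul e _
  rw [map_sub] at h1
  exact sub_eq_zero.mp h1

/-- the reduction of `F` mod `p`, in coordinates -/
def redF
    (hF : ∀ (a : W) (m : M), F (a • m) = ((⇑(WittVector.frobenius : W →+* W))^[ν] a) • F m) :
    (Fin n → k) →ₛₗ[iterateFrobenius k p ν] (Fin n → k) where
  toFun y := red e (F (lift e y))
  map_add' y y' := by
    have : red e (lift e (y + y')) = red e (lift e y + lift e y') := by
      rw [red_lift, map_add, red_lift, red_lift]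
    rw [red_F_eq_of_red_eq e F hF this, map_add, map_add]
  map_smul' c y := by
    have : red e (lift e (c • y)) = red e (WittVector.teichmuller p c • lift e y) := by
      rw [red_lift, LinearMap.map_smulₛₗ, red_lift]
      rfl
    rw [red_F_eq_of_red_eq e F hF this, hF, LinearMap.map_smulₛₗ]
    congr 1
    show ((⇑(WittVector.frobenius : W →+* W))^[ν] (WittVector.teichmuller p c)).coeff 0 = _
    rw [WittVector.iterate_frobenius_coeff, WittVector.teichmuller_coeff_zero,
      iterateFrobenius_def]

theorem red_F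
    (hF : ∀ (a : W) (m : M), F (a • m) = ((⇑(WittVector.frobenius : W →+* W))^[ν] a) • F m)
    (m : M) : red e (F m) = redF e F hF (red e m) :=
  red_F_eq_of_red_eq e F hF (red_lift e (red e m)).symm

theorem redF_injective
    (hF : ∀ (a : W) (m : M), F (a • m) = ((⇑(WittVector.frobenius : W →+* W))^[ν] a) • F m)
    (hbij : Function.Bijective F) : Function.Injective (redF e F hF) := by
  rw [injective_iff_map_eq_zero]
  intro y hy
  have hy' : red e (F (lift e y)) = 0 := hy
  obtain ⟨m', hm'⟩ := exists_of_red_eq_zero e _ hy'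
  obtain ⟨m'', rfl⟩ := hbij.2 m'
  have h1 : F (lift e y) = F ((p : W) • m'') := by
    rw [hm']
    have := F_pow_smul F hF 1 m''
    rw [pow_one] at this
    exact this.symm
  have h2 := hbij.1 h1
  rw [← red_lift e y, h2]
  exact red_p_smul e _

theorem exists_fixed_lift (hν : 1 ≤ ν)
    (hF : ∀ (a : W) (m : M), F (a • m) = ((⇑(WittVector.frobenius : W →+* W))^[ν] a) • F m)
    (hbij : Function.Bijective F) (y₀ : Fin n → k) (hy₀ : redF e F hF y₀ = y₀) :
    ∃ m : M, F m = m ∧ red e m = y₀ := by
  have hp := (Fact.out : p.Prime)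
  have hq : 2 ≤ p ^ ν := by
    calc 2 ≤ p := hp.two_le
      _ = p ^ 1 := (pow_one p).symm
      _ ≤ p ^ ν := Nat.pow_le_pow_right hp.pos hν
  have hσ : ∀ a : k, iterateFrobenius k p ν a = a ^ (p ^ ν) := fun a => iterateFrobenius_def p ν a
  have hinj := redF_injective e F hF hbij
  -- the invariant
  let P : ℕ → M → Prop := fun j m => red e m = y₀ ∧ ∃ w : M, F m - m = (p : W) ^ (j + 1) • w
  have hbase : P 0 (lift e y₀) := by
    refine ⟨red_lift e y₀, ?_⟩
    have h0 : red e (F (lift e y₀) - lift e y₀) = 0 := by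
      rw [map_sub, red_F e F hF, red_lift, hy₀, sub_self]
    obtain ⟨w, hw⟩ := exists_of_red_eq_zero e _ h0
    exact ⟨w, by rw [zero_add, pow_one]; exact hw⟩
  have hstep : ∀ j m, P j m → ∃ m', P (j + 1) m' ∧ ∃ z : M, m' = m + (p : W) ^ (j + 1) • z := by
    rintro j m ⟨hm, w, hw⟩
    obtain ⟨z', hz'⟩ := exists_sub_eq hq hσ (redF e F hF) hinj (-(red e w))
    set z := lift e z' with hz
    have h0 : red e (F z - z + w) = 0 := by
      rw [map_add, map_sub, red_F e F hF, hz, red_lift, hz']
      simp
    obtain ⟨w', hw'⟩ := exists_of_red_eq_zero e _ h0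
    refine ⟨m + (p : W) ^ (j + 1) • z, ⟨?_, w', ?_⟩, z, rfl⟩
    · rw [map_add, hm, red_pow_smul, add_zero]
    · rw [map_add, F_pow_smul F hF]
      have : F m + (p : W) ^ (j + 1) • F z - (m + (p : W) ^ (j + 1) • z) =
          (F m - m) + (p : W) ^ (j + 1) • (F z - z) := by
        rw [smul_sub]; abel
      rw [this, hw, ← smul_add, add_comm w, hw', smul_smul, ← pow_succ]
  -- the sequence
  let f : (j : ℕ) → {m : M // P j m} := fun j =>
    Nat.rec (motive := fun j => {m : M // P j m}) ⟨lift e y₀, hbase⟩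
      (fun j x => ⟨Classical.choose (hstep j x.1 x.2), (Classical.choose_spec (hstep j x.1 x.2)).1⟩) j
  have hf : ∀ j, ∃ z : M, (f (j + 1)).1 = (f j).1 + (p : W) ^ (j + 1) • z := fun j =>
    (Classical.choose_spec (hstep j (f j).1 (f j).2)).2
  set seq : ℕ → M := fun j => (f j).1 with hseq
  have hP : ∀ j, P j (seq j) := fun j => (f j).2
  -- coordinatewise limits
  have hcoord : ∀ i : Fin n, ∃ ℓ : W, ∀ j, (p : W) ^ j ∣ ℓ - e.repr (seq j) i := by
    intro i
    apply exists_limit_witt
    intro j
    obtain ⟨z, hz⟩ := hf j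
    have : e.repr (seq (j + 1)) i - e.repr (seq j) i = (p : W) ^ (j + 1) * e.repr z i := by
      show e.repr (f (j + 1)).1 i - e.repr (f j).1 i = _
      rw [hz, map_add, Finsupp.add_apply, map_smul, Finsupp.smul_apply, smul_eq_mul]
      ring
    rw [this]
    exact Dvd.dvd.mul_right (pow_dvd_pow _ (Nat.le_succ j)) _
  choose ℓ hℓ using hcoord
  set m' : M := ∑ i, ℓ i • e i with hm'
  have hdiff : ∀ j, ∃ x : M, m' = seq j + (p : W) ^ j • x := by
    intro j
    choose d hd using fun i => hℓ i j
    refine ⟨∑ i, d i • e i, ?_⟩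
    conv_rhs => rw [← e.sum_repr (seq j)]
    rw [hm', Finset.smul_sum, ← Finset.sum_add_distrib]
    refine Finset.sum_congr rfl fun i _ => ?_
    rw [smul_smul, ← hd i, ← add_smul]
    congr 1; ring
  have hfix : F m' - m' = 0 := by
    apply e.repr.injective
    refine Finsupp.ext fun i => ?_
    rw [map_zero, Finsupp.zero_apply]
    apply eq_zero_of_forall_pow_dvd
    intro j
    obtain ⟨x, hx⟩ := hdiff j
    obtain ⟨-, w, hw⟩ := hP j
    have : F m' - m' = (p : W) ^ j • ((p : W) • w + (F x - x)) := by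
      rw [hx, map_add, F_pow_smul F hF]
      have : F (seq j) + (p : W) ^ j • F x - (seq j + (p : W) ^ j • x) =
          (F (seq j) - seq j) + (p : W) ^ j • (F x - x) := by
        rw [smul_sub]; abel
      rw [this, hw, smul_add, smul_smul, ← pow_succ]
    rw [this, map_smul, Finsupp.smul_apply, smul_eq_mul]
    exact dvd_mul_right _ _
  refine ⟨m', sub_eq_zero.mp hfix, ?_⟩
  obtain ⟨x, hx⟩ := hdiff 1
  rw [hx, map_add, (hP 1).1]
  have := red_pow_smul e 0 x
  rw [zero_add] at this
  rw [this, add_zero]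

include e in
theorem exists_basis_fixed_witt (hν : 1 ≤ ν)
    (hF : ∀ (a : W) (m : M), F (a • m) = ((⇑(WittVector.frobenius : W →+* W))^[ν] a) • F m)
    (hbij : Function.Bijective F) : ∃ b : Basis (Fin n) W M, ∀ i, F (b i) = b i := by
  classical
  have hp := (Fact.out : p.Prime)
  have hq : 2 ≤ p ^ ν := by
    calc 2 ≤ p := hp.two_le
      _ = p ^ 1 := (pow_one p).symm
      _ ≤ p ^ ν := Nat.pow_le_pow_right hp.pos hν
  have hσ : ∀ a : k, iterateFrobenius k p ν a = a ^ (p ^ ν) := fun a => iterateFrobenius_def p ν a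
  have hinj := redF_injective e F hF hbij
  obtain ⟨ι, b₀, hb₀⟩ := exists_basis_fixed hq hσ (redF e F hF) hinj
  let eqv : ι ≃ Fin n := b₀.indexEquiv (Pi.basisFun k (Fin n))
  let b' : Basis (Fin n) k (Fin n → k) := b₀.reindex eqv
  have hb' : ∀ j, redF e F hF (b' j) = b' j := fun j => by
    rw [Basis.reindex_apply]; exact hb₀ _
  choose m hm using fun j => exists_fixed_lift e F hν hF hbij (b' j) (hb' j)
  let f : M →ₗ[W] M := e.constr W m
  have hfe : ∀ j, f (e j) = m j := fun j => e.constr_basis W m j
  have hdet : IsUnit (LinearMap.toMatrix e e f).det := by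
    apply WittVector.isUnit_of_coeff_zero_ne_zero
    have h1 : ((LinearMap.toMatrix e e f).det).coeff 0 =
        ((LinearMap.toMatrix e e f).map (WittVector.constantCoeff : W →+* k)).det := by
      exact RingHom.map_det (WittVector.constantCoeff : W →+* k) _
    have h2 : (LinearMap.toMatrix e e f).map (WittVector.constantCoeff : W →+* k) =
        (Pi.basisFun k (Fin n)).toMatrix b' := by
      ext i j
      rw [Matrix.map_apply, LinearMap.toMatrix_apply, hfe, Basis.toMatrix_apply, Pi.basisFun_repr,
        ← (hm j).2]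
      rfl
    rw [h1, h2, ← Basis.det_apply]
    exact ((Pi.basisFun k (Fin n)).isUnit_det b').ne_zero
  refine ⟨e.map (LinearEquiv.ofIsUnitDet hdet), fun j => ?_⟩
  rw [Basis.map_apply, LinearEquiv.ofIsUnitDet_apply, hfe]
  exact (hm j).1

end Main

end Groth.Agent.Helper8.Lang
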