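import Mathlib
import Groth.Prelude.Def_Isoc
import Groth.Agent.Helper8.IsocNewton
import Groth.Agent.Helper8.LangW

/-!
# Isocrystals over an algebraically closed field: fixed vectors and semisimplicity (helper8)
-/

set_option autoImplicit false
set_option linter.unusedSectionVars false

noncomputable section

open scoped Pointwise Isocrystal
open Filter Topology Module

universe u v

namespace Groth.Agent.Helper8.IsocH

open Isoc Groth.Agent.Helper8.Lang

variable {p : ℕ} [Fact p.Prime] {k : Type u} [Field k] [CharP k p] [IsAlgClosed k]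
variable {N : Type v} [AddCommGroup N] [Module (WittVector p k) N] [Module K(p, k) N]
  [IsScalarTower (WittVector p k) K(p, k) N]
variable {ρ : K(p, k) →+* K(p, k)}

local notation "W" => WittVector p k
local notation "L" => K(p, k)

/-- `ρ` restricts to the `ν`-th power of Frobenius on `W`. -/
def FrobOnW (ρ : L →+* L) (ν : ℕ) : Prop :=
  ∀ w : W, ρ (algebraMap W L w) =
    algebraMap W L ((⇑(WittVector.frobenius : W →+* W))^[ν] w)

theorem frobOnW_frob (a : ℕ) : FrobOnW (Isoc.frob p k (a : ℤ)) a := by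
  intro w
  rw [Isoc.frob_algebraMap, zpow_natCast]
  congr 1
  induction a generalizing w with
  | zero => rfl
  | succ a ih =>
    rw [pow_succ, Function.iterate_succ_apply, ← ih]
    rfl

theorem FrobOnW.pow {ν : ℕ} (h : FrobOnW ρ ν) (s : ℕ) : FrobOnW (ρ ^ s) (ν * s) := by
  induction s with
  | zero => intro w; simp
  | succ s ih =>
    intro w
    rw [pow_succ, RingHom.mul_def, RingHom.comp_apply, h w, ih, mul_add, mul_one,
      Function.iterate_add_apply]

/-- the fixed vectors of a stable lattice generate it -/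
theorem le_span_fixed (hρ : Nice ρ) {ν : ℕ} (hν : 1 ≤ ν) (hρW : FrobOnW ρ ν)
    (Φ : N →ₛₗ[ρ] N) (hΦ : Function.Injective Φ) (Λ : Submodule W N) (hfg : Λ.FG)
    (hΛ : latImg Φ 1 Λ = Λ) :
    Λ ≤ Submodule.span W {x | x ∈ Λ ∧ Φ x = x} := by
  have hfin : Module.Finite W Λ := Module.Finite.iff_fg.mpr hfg
  have htf : Module.IsTorsionFree W N := Module.IsTorsionFree.trans_faithfulSMul W L N
  have hfree : Module.Free W Λ := inferInstance
  have hmem : ∀ x ∈ Λ, Φ x ∈ Λ := fun x hx => by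
    rw [← hΛ]; exact (latImg_one Φ Λ hρ).mpr ⟨x, hx, rfl⟩
  let F' : Λ →+ Λ :=
    { toFun := fun x => ⟨Φ (x : N), hmem x x.2⟩
      map_zero' := Subtype.ext (map_zero Φ)
      map_add' := fun x y => Subtype.ext (map_add Φ (x : N) (y : N)) }
  have hF' : ∀ (a : W) (m : Λ), F' (a • m) =
      ((⇑(WittVector.frobenius : W →+* W))^[ν] a) • F' m := by
    intro a m
    apply Subtype.ext
    show Φ (a • (m : N)) = ((⇑(WittVector.frobenius : W →+* W))^[ν] a) • Φ (m : N)
    rw [← algebraMap_smul L a (m : N), LinearMap.map_smulₛₗ, hρW a, algebraMap_smul]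
  have hbij : Function.Bijective F' := by
    constructor
    · intro x y hxy
      apply Subtype.ext
      apply hΦ
      exact congrArg Subtype.val hxy
    · rintro ⟨y, hy⟩
      have hy' : y ∈ latImg Φ 1 Λ := by rw [hΛ]; exact hy
      obtain ⟨x, hx, hxy⟩ := (latImg_one Φ Λ hρ).mp hy'
      exact ⟨⟨x, hx⟩, Subtype.ext hxy⟩
  obtain ⟨b, hb⟩ := exists_basis_fixed_witt (Module.finBasis W Λ) F' hν hF' hbij
  intro x hx
  have h1 := b.sum_repr ⟨x, hx⟩
  have h2 : x = ∑ i, (b.repr ⟨x, hx⟩ i) • ((b i : Λ) : N) := by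
    have := congrArg Subtype.val h1
    simp only [Submodule.coe_sum, Submodule.coe_smul] at this
    exact this.symm
  rw [h2]
  refine Submodule.sum_mem _ fun i _ => Submodule.smul_mem _ _ (Submodule.subset_span ⟨(b i).2, ?_⟩)
  exact congrArg Subtype.val (hb i)

theorem span_inf_eq' (Λ : Submodule W N) (P : Submodule L N)
    (hP : P ≤ Submodule.span L (Λ : Set N)) :
    Submodule.span L ((Λ ⊓ P.restrictScalars W : Submodule W N) : Set N) = P := by
  apply le_antisymm
  · rw [Submodule.span_le]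
    intro x hx
    exact hx.2
  · intro x hx
    obtain ⟨c, hc⟩ := exists_pow_smul_mem_of_mem_span Λ x (hP hx)
    have h1 : ((p : W) ^ c) • x ∈ (Λ ⊓ P.restrictScalars W : Submodule W N) := by
      refine ⟨hc, ?_⟩
      rw [← natCast_zpow_smul]
      exact P.smul_mem _ hx
    have h2 : x = ((p : L) ^ (-(c : ℤ))) • (((p : W) ^ c) • x) := by
      rw [← natCast_zpow_smul, smul_smul, ← zpow_add₀ p_ne_zero, neg_add_cancel, zpow_zero,
        one_smul]
    rw [h2]
    exact Submodule.smul_mem _ _ (Submodule.subset_span h1)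

/-- the fixed vectors in a stable subspace of an "étale" part span it -/
theorem span_fixed_eq (hρ : Nice ρ) {ν : ℕ} (hν : 1 ≤ ν) (hρW : FrobOnW ρ ν)
    [FiniteDimensional L N] (Φ : N →ₛₗ[ρ] N) (hΦ : Function.Injective Φ)
    (Λ : Submodule W N) (hfg : Λ.FG) (hΛ : latImg Φ 1 Λ = Λ)
    (P : Submodule L N) (hPΛ : P ≤ Submodule.span L (Λ : Set N)) (hP : ∀ x ∈ P, Φ x ∈ P) :
    Submodule.span L {x | x ∈ P ∧ Φ x = x} = P := by
  apply le_antisymm
  · rw [Submodule.span_le]
    intro x hx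
    exact hx.1
  · set ΛP : Submodule W N := Λ ⊓ P.restrictScalars W with hΛP
    have h1 : latImg Φ 1 ΛP = ΛP := by rw [hΛP, latImg_inf hρ Φ hΦ P hP, hΛ]
    have h2 := le_span_fixed hρ hν hρW Φ hΦ ΛP (inf_fg Λ hfg _) h1
    intro x hx
    have hx' : x ∈ Submodule.span L ((ΛP : Submodule W N) : Set N) := by
      rw [hΛP, span_inf_eq' Λ P hPΛ]; exact hx
    refine Submodule.span_le.mpr ?_ hx'
    intro y hy
    have h3 := h2 hy
    have h4 : {x | x ∈ ΛP ∧ Φ x = x} ⊆ {x | x ∈ P ∧ Φ x = x} := fun x hx => ⟨hx.1.2, hx.2⟩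
    exact Submodule.span_subset_span W L _ (Submodule.span_mono h4 h3)

/-- a projection onto `P` commuting with `Φ` on `R` -/
theorem exists_proj_comm (hρ : Nice ρ) {ν : ℕ} (hν : 1 ≤ ν) (hρW : FrobOnW ρ ν)
    [FiniteDimensional L N] (Φ : N →ₛₗ[ρ] N) (hΦ : Function.Injective Φ)
    (Λ : Submodule W N) (hfg : Λ.FG) (hΛ : latImg Φ 1 Λ = Λ)
    (R : Submodule L N) (hRΛ : Submodule.span L (Λ : Set N) = R) (hR : ∀ x ∈ R, Φ x ∈ R)
    (P : Submodule L N) (hPR : P ≤ R) (hP : ∀ x ∈ P, Φ x ∈ P) :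
    ∃ π : N →ₗ[L] N, (∀ y, π y ∈ P) ∧ (∀ y ∈ P, π y = y) ∧ ∀ y ∈ R, π (Φ y) = Φ (π y) := by
  classical
  set SP : Set N := {x | x ∈ P ∧ Φ x = x} with hSP
  set SR : Set N := {x | x ∈ R ∧ Φ x = x} with hSR
  have hspP : Submodule.span L SP = P :=
    span_fixed_eq hρ hν hρW Φ hΦ Λ hfg hΛ P (hRΛ ▸ hPR) hP
  have hspR : Submodule.span L SR = R :=
    span_fixed_eq hρ hν hρW Φ hΦ Λ hfg hΛ R hRΛ.ge hR
  have hSPR : SP ⊆ SR := fun x hx => ⟨hPR hx.1, hx.2⟩
  obtain ⟨bP, hbPs, hbPspan, hbPli⟩ := exists_linearIndependent L SP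
  have hbPli' : LinearIndepOn L id bP := hbPli
  obtain ⟨bR, hbRs, hbPR, hbRspan, hbRli⟩ :=
    exists_linearIndepOn_id_extension hbPli' (hbPs.trans hSPR)
  set B := Basis.extend hbRli with hB
  have hBx : ∀ x, B x = (x : N) := fun x => Basis.extend_apply_self hbRli x
  have hbRI : bR ⊆ hbRli.extend (Set.subset_univ _) := Basis.subset_extend hbRli
  set π : N →ₗ[L] N := B.constr L (fun x => if (x : N) ∈ bP then (x : N) else 0) with hπ
  have hπB : ∀ x (hx : x ∈ hbRli.extend (Set.subset_univ _)),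
      π x = if x ∈ bP then x else 0 := by
    intro x hx
    have := B.constr_basis L (fun x => if (x : N) ∈ bP then (x : N) else 0) ⟨x, hx⟩
    rw [hBx] at this
    exact this
  have hspanbP : Submodule.span L bP = P := by rw [hbPspan, hspP]
  have hspanbR : Submodule.span L bR = R := by
    apply le_antisymm
    · rw [Submodule.span_le]
      exact fun x hx => (hbRs hx).1
    · rw [← hspR, Submodule.span_le]
      exact hbRspan
  refine ⟨π, ?_, ?_, ?_⟩
  · intro y
    rw [hπ, Basis.constr_apply]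
    refine Submodule.sum_mem _ fun x _ => Submodule.smul_mem _ _ ?_
    split_ifs with h
    · exact (hbPs h).1
    · exact P.zero_mem
  · intro y hy
    rw [← hspanbP] at hy
    refine Submodule.span_induction (p := fun y _ => π y = y) ?_ ?_ ?_ ?_ hy
    · intro x hx
      rw [hπB x (hbRI (hbPR hx)), if_pos hx]
    · exact map_zero π
    · intro x y _ _ hx hy; rw [map_add, hx, hy]
    · intro c x _ hx; rw [map_smul, hx]
  · intro y hy
    rw [← hspanbR] at hy
    refine Submodule.span_induction (p := fun y _ => π (Φ y) = Φ (π y)) ?_ ?_ ?_ ?_ hy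
    · intro x hx
      have hfix : Φ x = x := (hbRs hx).2
      rw [hfix, hπB x (hbRI hx)]
      split_ifs with h
      · exact hfix.symm
      · exact (map_zero Φ).symm
    · rw [map_zero, map_zero, map_zero]
    · intro x y _ _ hx hy; rw [map_add, map_add, map_add, map_add, hx, hy]
    · intro c x _ hx
      rw [LinearMap.map_smulₛₗ, map_smul, map_smul, LinearMap.map_smulₛₗ, hx]

theorem natCast_ne_zero_L {s : ℕ} (hs : 0 < s) : ((s : ℕ) : L) ≠ 0 := by
  have hp := (Fact.out : p.Prime)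
  obtain ⟨m, t, ht, rfl⟩ := Nat.exists_eq_pow_mul_and_not_dvd hs.ne' p hp.ne_one
  have h1 : ((t : ℕ) : W) ≠ 0 := by
    intro h0
    have h2 : (WittVector.constantCoeff : W →+* k) ((t : ℕ) : W) = 0 := by rw [h0, map_zero]
    rw [map_natCast] at h2
    exact ht ((CharP.cast_eq_zero_iff k p t).mp h2)
  have h3 : ((t : ℕ) : L) ≠ 0 := by
    rw [← map_natCast (algebraMap W L)]
    exact (map_ne_zero_iff _ (IsFractionRing.injective W L)).mpr h1
  push_cast
  exact mul_ne_zero (pow_ne_zero _ p_ne_zero) h3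

theorem iterate_surj_on (hρ : Nice ρ) [FiniteDimensional L N] (F : N →ₛₗ[ρ] N)
    (hF : Function.Injective F) (P : Submodule L N) (hP : ∀ x ∈ P, F x ∈ P) (n : ℕ) {y : N}
    (hy : y ∈ P) : ∃ x ∈ P, (⇑F)^[n] x = y := by
  induction n generalizing y with
  | zero => exact ⟨y, hy, rfl⟩
  | succ n ih =>
    obtain ⟨x₁, hx₁, h₁⟩ := exists_mem_apply_eq hρ F hF P hP hy
    obtain ⟨x, hx, h⟩ := ih hx₁
    exact ⟨x, hx, by rw [Function.iterate_succ_apply', h, h₁]⟩

/-- semisimplicity on an isoclinic part -/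
theorem exists_compl_of_isIsoclinicOn (hρ : Nice ρ) {ν : ℕ} (hν : 1 ≤ ν) (hρW : FrobOnW ρ ν)
    [FiniteDimensional L N] (F : N →ₛₗ[ρ] N) (hF : Function.Injective F)
    (R : Submodule L N) (hR : ∀ x ∈ R, F x ∈ R) (μ : ℚ) (hiso : IsIsoclinicOn F R μ)
    (P : Submodule L N) (hPR : P ≤ R) (hP : ∀ x ∈ P, F x ∈ P) :
    ∃ Q : Submodule L N, Q ≤ R ∧ (∀ x ∈ Q, F x ∈ Q) ∧ P ⊔ Q = R ∧ P ⊓ Q = ⊥ := by
  classical
  obtain ⟨Λ, hΛfg, hΛsp, r, s, hs, -, hFΛ⟩ := hiso
  have hρ' : Nice (ρ ^ s) := hρ.pow s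
  have hρ'W : FrobOnW (ρ ^ s) (ν * s) := hρW.pow s
  have hν' : 1 ≤ ν * s := Nat.mul_pos hν hs
  set Φ : N →ₛₗ[ρ ^ s] N := (p : L) ^ (-r) • iter F s with hΦ
  have hΦapp : ∀ y, Φ y = ((p : L) ^ (-r)) • (⇑F)^[s] y := fun y => rfl
  have hFs : ∀ y, (⇑F)^[s] y = ((p : L) ^ r) • Φ y := fun y => by
    rw [hΦapp, smul_smul, ← zpow_add₀ p_ne_zero, add_neg_cancel, zpow_zero, one_smul]
  have hΦinj : Function.Injective Φ := by
    intro x y hxy
    rw [hΦapp, hΦapp] at hxy
    have := smul_right_injective N (zpow_ne_zero (-r) (p_ne_zero (p := p) (k := k))) hxy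
    exact hF.iterate s this
  have hΦΛ : latImg Φ 1 Λ = Λ := by
    rw [hΦ, latImg_twist hρ, Nat.cast_one, mul_one, mul_one, hFΛ, pPow_pPow, neg_add_cancel,
      pPow_zero]
  have hΦst : ∀ (T : Submodule L N), (∀ x ∈ T, F x ∈ T) → ∀ x ∈ T, Φ x ∈ T := by
    intro T hT x hx
    rw [hΦapp]
    exact T.smul_mem _ (iterate_mem F T hT s hx)
  obtain ⟨π, hπP, hπid, hπΦ⟩ := exists_proj_comm hρ' hν' hρ'W Φ hΦinj Λ hΛfg hΦΛ R hΛsp
    (hΦst R hR) P hPR (hΦst P hP)
  -- π commutes with F^s on R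
  have hπFs : ∀ y ∈ R, π ((⇑F)^[s] y) = (⇑F)^[s] (π y) := by
    intro y hy
    rw [hFs, map_smul, hπΦ y hy, ← hFs]
  -- the averaging operator
  set A : N → N := fun y => ∑ i ∈ Finset.range s, (⇑F)^[i] (π ((⇑F)^[s - i] y)) with hA
  have hAadd : ∀ x y, A (x + y) = A x + A y := by
    intro x y
    simp only [hA, iterate_add_apply', map_add, Finset.sum_add_distrib]
  have hAsmul : ∀ (c : L) (y : N), A (c • y) = (ρ ^ s) c • A y := by
    intro c y
    simp only [hA]
    rw [Finset.smul_sum]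
    refine Finset.sum_congr rfl fun i hi => ?_
    have hi' : i < s := Finset.mem_range.mp hi
    rw [iterate_smul_apply', map_smul, iterate_smul_apply']
    congr 1
    have : ρ ^ s = ρ ^ i * ρ ^ (s - i) := by
      rw [← pow_add]; congr 1; omega
    rw [this]; rfl
  have hAP : ∀ y, A y ∈ P := by
    intro y
    exact Submodule.sum_mem _ fun i _ => iterate_mem F P hP i (hπP _)
  have hAonP : ∀ y ∈ P, A y = ((s : ℕ) : L) • (⇑F)^[s] y := by
    intro y hy
    simp only [hA]
    rw [Finset.sum_congr rfl (g := fun _ => (⇑F)^[s] y) (fun i hi => by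
      have hi' : i < s := Finset.mem_range.mp hi
      rw [hπid _ (iterate_mem F P hP (s - i) hy), ← Function.iterate_add_apply]
      congr 1; omega)]
    rw [Finset.sum_const, Finset.card_range, Nat.cast_smul_eq_nsmul]
  have hAF : ∀ y ∈ R, A (F y) = F (A y) := by
    intro y hy
    set T : ℕ → N := fun j => (⇑F)^[j] (π ((⇑F)^[s + 1 - j] y)) with hT
    have h1 : A (F y) = ∑ i ∈ Finset.range s, T i := by
      simp only [hA, hT]
      refine Finset.sum_congr rfl fun i hi => ?_
      have hi' : i < s := Finset.mem_range.mp hi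
      rw [← Function.iterate_succ_apply]
      congr 3; omega
    have h2 : F (A y) = ∑ i ∈ Finset.range s, T (i + 1) := by
      simp only [hA, hT]
      rw [map_sum]
      refine Finset.sum_congr rfl fun i hi => ?_
      have hi' : i < s := Finset.mem_range.mp hi
      rw [Function.iterate_succ_apply']
      congr 4; omega
    have h3 : T s = T 0 := by
      simp only [hT]
      have e1 : s + 1 - s = 1 := by omega
      rw [e1, Nat.sub_zero, Function.iterate_zero, id, Function.iterate_one,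
        Function.iterate_succ_apply, hπFs (F y) (hR y hy)]
    have h4 := Finset.sum_range_succ T s
    have h5 := Finset.sum_range_succ' T s
    rw [h1, h2]
    have : ∑ i ∈ Finset.range s, T i + T s = ∑ i ∈ Finset.range s, T (i + 1) + T 0 := by
      rw [← h4, ← h5]
    rw [h3] at this
    exact add_right_cancel this
  let Q : Submodule L N :=
    { carrier := {y | y ∈ R ∧ A y = 0}
      add_mem' := by
        rintro x y ⟨hx, hx'⟩ ⟨hy, hy'⟩
        exact ⟨R.add_mem hx hy, by rw [hAadd, hx', hy', add_zero]⟩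
      zero_mem' := ⟨R.zero_mem, by
        have := hAsmul 0 0
        rw [zero_smul, map_zero, zero_smul] at this
        exact this⟩
      smul_mem' := by
        rintro c y ⟨hy, hy'⟩
        exact ⟨R.smul_mem _ hy, by rw [hAsmul, hy', smul_zero]⟩ }
  have hsL : ((s : ℕ) : L) ≠ 0 := natCast_ne_zero_L hs
  refine ⟨Q, fun y hy => hy.1, ?_, ?_, ?_⟩
  · rintro y ⟨hy, hy'⟩
    exact ⟨hR y hy, by rw [hAF y hy, hy', map_zero]⟩
  · apply le_antisymm
    · exact sup_le hPR (fun y hy => hy.1)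
    · intro y hy
      obtain ⟨z₁, hz₁, hz₁'⟩ := iterate_surj_on hρ F hF P hP s (hAP y)
      set z : N := ((s : ℕ) : L)⁻¹ • z₁ with hz
      have hzP : z ∈ P := P.smul_mem _ hz₁
      have hAz : A z = A y := by
        rw [hAonP z hzP, hz, iterate_smul_apply', hz₁', map_inv₀, map_natCast, smul_smul,
          mul_inv_cancel₀ hsL, one_smul]
      have hyz : y - z ∈ Q := by
        refine ⟨R.sub_mem hy (hPR hzP), ?_⟩
        have h1 : A y = A (y - z) + A z := by rw [← hAadd, sub_add_cancel]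
        rw [hAz] at h1
        exact (add_eq_right.mp h1.symm)
      have : y = z + (y - z) := by abel
      rw [this]
      exact Submodule.add_mem_sup hzP hyz
  · rw [eq_bot_iff]
    rintro y ⟨hyP, -, hy0⟩
    rw [Submodule.mem_bot]
    have h1 : ((s : ℕ) : L) • (⇑F)^[s] y = 0 := by rw [← hAonP y hyP]; exact hy0
    rcases smul_eq_zero.mp h1 with h | h
    · exact absurd h hsL
    · exact (hF.iterate s) (by rw [h, iterate_zero_apply'])

/-- semisimplicity for a positive power of Frobenius -/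
theorem exists_compl_of_pos (hρ : Nice ρ) {ν : ℕ} (hν : 1 ≤ ν) (hρW : FrobOnW ρ ν)
    [FiniteDimensional L N] (F : N →ₛₗ[ρ] N) (hF : Function.Bijective F)
    (P : Submodule L N) (hP : ∀ x ∈ P, F x ∈ P) :
    ∃ Q : Submodule L N, (∀ x ∈ Q, F x ∈ Q) ∧ IsCompl P Q := by
  classical
  have hgood := fun μ : ℚ => slopePart_good hρ F μ
  have hPμst : ∀ μ : ℚ, ∀ x ∈ P ⊓ slopePart F μ, F x ∈ P ⊓ slopePart F μ := fun μ x hx =>
    ⟨hP x hx.1, (hgood μ).1 x hx.2⟩
  choose Q hQle hQst hQsup hQinf using fun μ : ℚ =>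
    exists_compl_of_isIsoclinicOn hρ hν hρW F hF.1 (slopePart F μ) (hgood μ).1 μ (hgood μ).2
      (P ⊓ slopePart F μ) inf_le_right (hPμst μ)
  refine ⟨⨆ μ, Q μ, ?_, ?_⟩
  · intro x hx
    refine Submodule.iSup_induction (p := Q) (motive := fun x => F x ∈ ⨆ μ, Q μ) hx ?_ ?_ ?_
    · intro μ y hy
      exact (le_iSup Q μ) (hQst μ y hy)
    · rw [map_zero]; exact Submodule.zero_mem _
    · intro y z hy hz; rw [map_add]; exact Submodule.add_mem _ hy hz
  · have hPdecomp : P ≤ ⨆ μ : ℚ, P ⊓ slopePart F μ := by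
      have hbij' := restrict_bijective hρ F hF.1 P hP
      have htop := iSup_slopePart_eq_top hρ (F.restrict hP) hbij'
      have h1 : P = (⊤ : Submodule L P).map P.subtype := by
        rw [Submodule.map_top, Submodule.range_subtype]
      conv_lhs => rw [h1, ← htop, Submodule.map_iSup]
      refine iSup_mono fun μ => le_inf ?_ (map_slopePart_restrict_le hρ F P hP μ)
      exact Submodule.map_subtype_le P _
    constructor
    · rw [Submodule.disjoint_def]
      intro x hxP hxQ
      obtain ⟨f, hf, hfx⟩ := (Submodule.mem_iSup_iff_exists_finsupp _ x).mp (hPdecomp hxP)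
      obtain ⟨g, hg, hgx⟩ := (Submodule.mem_iSup_iff_exists_finsupp _ x).mp hxQ
      set T := f.support ∪ g.support with hT
      have hfT : ∑ μ ∈ T, f μ = x := by
        rw [← hfx]
        exact (Finsupp.sum_of_support_subset f Finset.subset_union_left (fun _ y => y)
          (fun _ _ => rfl)).symm
      have hgT : ∑ μ ∈ T, g μ = x := by
        rw [← hgx]
        exact (Finsupp.sum_of_support_subset g Finset.subset_union_right (fun _ y => y)
          (fun _ _ => rfl)).symm
      have hzero := eq_zero_of_sum_eq_zero hρ F hF.1 T (fun μ => f μ - g μ)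
        (fun μ _ => Submodule.sub_mem _ (hf μ).2 (hQle μ (hg μ)))
        (by rw [Finset.sum_sub_distrib, hfT, hgT, sub_self])
      rw [← hfT]
      refine Finset.sum_eq_zero fun μ hμ => ?_
      have heq : f μ = g μ := sub_eq_zero.mp (hzero μ hμ)
      have hmem : f μ ∈ (P ⊓ slopePart F μ) ⊓ Q μ := ⟨hf μ, heq ▸ hg μ⟩
      rw [hQinf μ] at hmem
      exact (Submodule.mem_bot L).mp hmem
    · rw [codisjoint_iff, eq_top_iff, ← iSup_slopePart_eq_top hρ F hF]
      refine iSup_le fun μ => ?_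
      rw [← hQsup μ]
      exact sup_le_sup inf_le_left (le_iSup Q μ)

theorem frob_neg_comp (a : ℤ) (x : L) : Isoc.frob p k a (Isoc.frob p k (-a) x) = x := by
  have h : (Isoc.frob p k a).comp (Isoc.frob p k (-a)) = RingHom.id L := by
    apply IsLocalization.ringHom_ext (nonZeroDivisors W)
    ext w
    simp only [RingHom.comp_apply, RingHom.id_apply]
    rw [Isoc.frob_algebraMap, Isoc.frob_algebraMap]
    congr 1
    rw [← RingAut.mul_apply, ← zpow_add, add_neg_cancel, zpow_zero]
    rfl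
  exact RingHom.congr_fun h x

/-- the inverse of a bijective semilinear map -/
def invSemilinear {ρ' : L →+* L} (F : N →ₛₗ[ρ] N) (hF : Function.Bijective F)
    (h : ∀ x, ρ (ρ' x) = x) : N →ₛₗ[ρ'] N where
  toFun := (Equiv.ofBijective F hF).symm
  map_add' x y := by
    apply hF.1
    have h1 : F ((Equiv.ofBijective F hF).symm (x + y)) = x + y :=
      Equiv.ofBijective_apply_symm_apply F hF _
    have h2 : F ((Equiv.ofBijective F hF).symm x) = x := Equiv.ofBijective_apply_symm_apply F hF _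
    have h3 : F ((Equiv.ofBijective F hF).symm y) = y := Equiv.ofBijective_apply_symm_apply F hF _
    rw [h1, F.map_add, h2, h3]
  map_smul' c x := by
    apply hF.1
    have h1 : F ((Equiv.ofBijective F hF).symm (c • x)) = c • x :=
      Equiv.ofBijective_apply_symm_apply F hF _
    have h2 : F ((Equiv.ofBijective F hF).symm x) = x := Equiv.ofBijective_apply_symm_apply F hF _
    rw [h1, F.map_smulₛₗ, h, h2]

theorem apply_invSemilinear {ρ' : L →+* L} (F : N →ₛₗ[ρ] N) (hF : Function.Bijective F)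
    (h : ∀ x, ρ (ρ' x) = x) (x : N) : F (invSemilinear F hF h x) = x :=
  Equiv.ofBijective_apply_symm_apply F hF x

theorem invSemilinear_apply {ρ' : L →+* L} (F : N →ₛₗ[ρ] N) (hF : Function.Bijective F)
    (h : ∀ x, ρ (ρ' x) = x) (x : N) : invSemilinear F hF h (F x) = x :=
  Equiv.ofBijective_symm_apply_apply F hF x

theorem exists_stable_isCompl (a : ℤ) (ha : a ≠ 0) [FiniteDimensional L N]
    (F : N →ₛₗ[Isoc.frob p k a] N) (hF : Function.Bijective F)
    (P : Submodule L N) (hP : ∀ x ∈ P, F x ∈ P) :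
    ∃ Q : Submodule L N, (∀ x ∈ Q, F x ∈ Q) ∧ IsCompl P Q := by
  rcases lt_or_gt_of_ne ha with hneg | hpos
  · -- pass to the inverse
    obtain ⟨a', ha'⟩ := Int.eq_ofNat_of_zero_le (show 0 ≤ -a by omega)
    have ha'1 : 1 ≤ a' := by omega
    have hcomp : ∀ x : L, Isoc.frob p k a (Isoc.frob p k (a' : ℤ) x) = x := by
      intro x
      rw [← ha']
      exact frob_neg_comp a x
    set G : N →ₛₗ[Isoc.frob p k (a' : ℤ)] N := invSemilinear F hF hcomp with hG
    have hFG : ∀ x, F (G x) = x := apply_invSemilinear F hF hcomp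
    have hGF : ∀ x, G (F x) = x := invSemilinear_apply F hF hcomp
    have hGbij : Function.Bijective G :=
      ⟨fun x y hxy => by rw [← hFG x, ← hFG y, hxy], fun x => ⟨F x, hGF x⟩⟩
    have hPG : ∀ x ∈ P, G x ∈ P := by
      intro x hx
      obtain ⟨x', hx', h⟩ := exists_mem_apply_eq (nice_frob a) F hF.1 P hP hx
      rw [← h, hGF]; exact hx'
    obtain ⟨Q, hQ, hc⟩ := exists_compl_of_pos (nice_frob (a' : ℤ)) ha'1 (frobOnW_frob a') G hGbij
      P hPG
    refine ⟨Q, ?_, hc⟩
    intro x hx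
    obtain ⟨y, hy, h⟩ := exists_mem_apply_eq (nice_frob (a' : ℤ)) G hGbij.1 Q hQ hx
    rw [← h, hFG]; exact hy
  · obtain ⟨a', rfl⟩ := Int.eq_ofNat_of_zero_le (show 0 ≤ a by omega)
    have ha'1 : 1 ≤ a' := by omega
    exact exists_compl_of_pos (nice_frob (a' : ℤ)) ha'1 (frobOnW_frob a') F hF P hP

end Groth.Agent.Helper8.IsocH
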