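import Mathlib
import Groth.Prelude.Def_Isoc
import Groth.Agent.Helper8.IsocDet
import Groth.Agent.Helper8.IsocSub

/-!
# The standard isocrystals (helper8)
-/

set_option autoImplicit false
set_option linter.unusedSectionVars false

noncomputable section

open scoped Pointwise Isocrystal
open Filter Topology Module

universe u v

namespace Groth.Agent.Helper8.IsocH

open Isoc

variable {p : ℕ} [Fact p.Prime] {k : Type u} [Field k] [CharP k p] [PerfectRing k p]
variable {ρ : K(p, k) →+* K(p, k)}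

local notation "W" => WittVector p k
local notation "L" => K(p, k)

variable (ρ) (d : ℤ) (n : ℕ)

theorem stdIsoc_single (i : Fin (n + 1)) :
    stdIsoc ρ d (n + 1) (Pi.single i 1) =
      (if (finRotate (n + 1) i).val = 0 then (p : L) ^ d else 1) •
        (Pi.single (finRotate (n + 1) i) 1 : Fin (n + 1) → L) := by
  ext i'
  rw [stdIsoc_apply, Pi.smul_apply, smul_eq_mul, Pi.single_apply, Pi.single_apply]
  by_cases hi : i' = finRotate (n + 1) i
  · subst hi
    simp
  · have : (finRotate (n + 1)).symm i' ≠ i := by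
      intro h; apply hi; rw [← h]; simp
    rw [if_neg this, if_neg hi, map_zero, mul_zero, mul_zero]

theorem stdIsoc_single_of_lt {j : ℕ} (hj : j < n) :
    stdIsoc ρ d (n + 1) (Pi.single ⟨j, hj.trans_le n.le_succ⟩ 1) =
      (Pi.single ⟨j + 1, Nat.succ_lt_succ hj⟩ 1 : Fin (n + 1) → L) := by
  rw [stdIsoc_single, finRotate_of_lt hj]
  simp

theorem stdIsoc_single_last :
    stdIsoc ρ d (n + 1) (Pi.single ⟨n, Nat.lt_succ_self n⟩ 1) =
      ((p : L) ^ d) • (Pi.single ⟨0, Nat.zero_lt_succ n⟩ 1 : Fin (n + 1) → L) := by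
  rw [stdIsoc_single, finRotate_last']
  simp

theorem stdIsoc_iterate_single (j i : ℕ) (hij : i + j < n + 1) :
    (⇑(stdIsoc ρ d (n + 1)))^[j] (Pi.single ⟨i, by omega⟩ 1) =
      (Pi.single ⟨i + j, hij⟩ 1 : Fin (n + 1) → L) := by
  induction j with
  | zero => rfl
  | succ j ih =>
    rw [Function.iterate_succ_apply', ih (by omega)]
    exact stdIsoc_single_of_lt ρ d n (j := i + j) (by omega)

theorem stdIsoc_iterate_full (i : Fin (n + 1)) :
    (⇑(stdIsoc ρ d (n + 1)))^[n + 1] (Pi.single i 1) =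
      ((p : L) ^ d) • (Pi.single i 1 : Fin (n + 1) → L) := by
  obtain ⟨i, hi⟩ := i
  have e : n + 1 = i + (1 + (n - i)) := by omega
  rw [show (⇑(stdIsoc ρ d (n + 1)))^[n + 1] = (⇑(stdIsoc ρ d (n + 1)))^[i + (1 + (n - i))] from
    congrArg (fun m => (⇑(stdIsoc ρ d (n + 1)))^[m]) e,
    Function.iterate_add_apply, Function.iterate_add_apply]
  have h1 := stdIsoc_iterate_single ρ d n (n - i) i (by omega)
  rw [h1]
  have h2 : (⟨i + (n - i), by omega⟩ : Fin (n + 1)) = ⟨n, Nat.lt_succ_self n⟩ := by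
    ext; simp only; omega
  rw [h2, Function.iterate_one, stdIsoc_single_last, iterate_smul_apply', map_p_zpow]
  have h3 := stdIsoc_iterate_single ρ d n i 0 (by omega)
  rw [h3]
  congr 2
  ext; simp

theorem stdIsoc_iterate_apply (x : Fin (n + 1) → L) (i : Fin (n + 1)) :
    (⇑(stdIsoc ρ d (n + 1)))^[n + 1] x i = (p : L) ^ d * (ρ ^ (n + 1)) (x i) := by
  classical
  have hx : x = ∑ j, x j • (Pi.single j 1 : Fin (n + 1) → L) := by
    ext i'
    simp [Finset.sum_apply, Pi.single_apply]
  conv_lhs => rw [hx]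
  rw [← iter_apply, map_sum, Finset.sum_apply, Finset.sum_eq_single i]
  · rw [LinearMap.map_smulₛₗ, iter_apply, stdIsoc_iterate_full]
    simp [mul_comm]
  · intro j _ hj
    rw [LinearMap.map_smulₛₗ, iter_apply, stdIsoc_iterate_full]
    simp [hj.symm]
  · intro hi; exact absurd (Finset.mem_univ i) hi

theorem stdIsoc_injective (hρ : Nice ρ) : Function.Injective (stdIsoc ρ d (n + 1)) := by
  rw [← LinearMap.ker_eq_bot, LinearMap.ker_eq_bot']
  intro x hx
  ext i
  have h1 := congrFun hx (finRotate (n + 1) i)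
  rw [stdIsoc_apply, Equiv.symm_apply_apply, Pi.zero_apply, mul_eq_zero] at h1
  rcases h1 with h1 | h1
  · exfalso
    split_ifs at h1
    · exact zpow_ne_zero d p_ne_zero h1
    · exact one_ne_zero h1
  · exact (map_eq_zero ρ).mp h1

/-- the standard isocrystal is isoclinic of slope `d/h`. -/
theorem stdIsoc_isIsoclinic (hρ : Nice ρ) :
    IsIsoclinic (stdIsoc ρ d (n + 1)) ((d : ℚ) / ((n + 1 : ℕ) : ℚ)) := by
  set e := Pi.basisFun L (Fin (n + 1)) with he
  have hrepr : ∀ (x : Fin (n + 1) → L) i, e.repr x i = x i := fun x i => by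
    rw [he, Pi.basisFun_repr]
  refine ⟨Submodule.span W (Set.range e), ⟨Submodule.fg_span (Set.finite_range _), ?_⟩, d, n + 1,
    Nat.succ_pos n, rfl, ?_⟩
  · rw [eq_top_iff, ← e.span_eq]
    exact Submodule.span_mono Submodule.subset_span
  · ext y
    rw [mem_latImg hρ, mem_pPow_span_range_iff_repr]
    constructor
    · rintro ⟨x, hx, rfl⟩ i
      obtain ⟨w, hw⟩ := (mem_span_range_iff_repr e x).mp hx i
      rw [hrepr] at hw
      obtain ⟨w', hw'⟩ := (hρ.pow (n + 1)).map_W w
      exact ⟨w', by rw [hrepr, stdIsoc_iterate_apply, hw, hw']⟩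
    · intro hy
      choose w hw using hy
      choose w' hw' using fun i => (hρ.pow (n + 1)).surj_W (w i)
      refine ⟨fun i => algebraMap W L (w' i), ?_, ?_⟩
      · rw [mem_span_range_iff_repr]
        intro i
        exact ⟨w' i, hrepr _ i⟩
      · ext i
        rw [stdIsoc_iterate_apply, hw', ← hw, hrepr]

end Groth.Agent.Helper8.IsocH
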