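import Mathlib
import Groth.Prelude.Def_Isoc
import Groth.Agent.Helper8.IsocLang
import Groth.Agent.Helper8.IsocNewton
import Groth.Agent.Helper8.IsocStd

/-!
# Dieudonné–Manin classification (helper8)
-/

set_option autoImplicit false
set_option linter.unusedSectionVars false

noncomputable section

open scoped Pointwise Isocrystal
open Filter Topology Module

universe u v

namespace Groth.Agent.Helper8.IsocH

open Isoc

section General

variable {p : ℕ} [Fact p.Prime] {k : Type u} [Field k] [CharP k p] [PerfectRing k p]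
variable {N : Type v} [AddCommGroup N] [Module (WittVector p k) N] [Module K(p, k) N]
  [IsScalarTower (WittVector p k) K(p, k) N]
variable {ρ : K(p, k) →+* K(p, k)}

local notation "W" => WittVector p k
local notation "L" => K(p, k)

theorem pPow_span (r : ℤ) (X : Set N) :
    pPow r (Submodule.span W X) = Submodule.span W (((p : L) ^ r) • X) := by
  unfold pPow
  exact Submodule.smul_span _ _

/-- the vectors `x, F x, …, F^n x` -/
def cycVec (F : N →ₛₗ[ρ] N) (x : N) (n : ℕ) : Fin (n + 1) → N := fun j => (⇑F)^[(j : ℕ)] x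

theorem apply_cycVec_of_lt (F : N →ₛₗ[ρ] N) (x : N) (n : ℕ) {j : ℕ} (hj : j < n) :
    F (cycVec F x n ⟨j, hj.trans_le n.le_succ⟩) = cycVec F x n ⟨j + 1, Nat.succ_lt_succ hj⟩ := by
  unfold cycVec
  exact (Function.iterate_succ_apply' _ _ _).symm

theorem apply_cycVec_last (F : N →ₛₗ[ρ] N) (x : N) (n : ℕ) {d : ℤ}
    (hx : (⇑F)^[n + 1] x = ((p : L) ^ d) • x) :
    F (cycVec F x n ⟨n, Nat.lt_succ_self n⟩) = ((p : L) ^ d) • cycVec F x n ⟨0, Nat.succ_pos n⟩ := by
  unfold cycVec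
  have h1 : F ((⇑F)^[n] x) = (⇑F)^[n + 1] x := (Function.iterate_succ_apply' _ _ _).symm
  show F ((⇑F)^[n] x) = ((p : L) ^ d) • x
  rw [h1, hx]

theorem iterate_cycVec (F : N →ₛₗ[ρ] N) (x : N) (n : ℕ) {d : ℤ}
    (hx : (⇑F)^[n + 1] x = ((p : L) ^ d) • x) (j : Fin (n + 1)) :
    (⇑F)^[n + 1] (cycVec F x n j) = ((p : L) ^ d) • cycVec F x n j := by
  unfold cycVec
  rw [← Function.iterate_add_apply, add_comm, Function.iterate_add_apply, hx, iterate_smul_apply',
    map_p_zpow]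

theorem apply_cycVec_mem (F : N →ₛₗ[ρ] N) (x : N) (n : ℕ) {d : ℤ}
    (hx : (⇑F)^[n + 1] x = ((p : L) ^ d) • x) :
    ∀ y ∈ Submodule.span L (Set.range (cycVec F x n)),
      F y ∈ Submodule.span L (Set.range (cycVec F x n)) := by
  intro y hy
  refine Submodule.span_induction (p := fun y _ => F y ∈ Submodule.span L (Set.range (cycVec F x n)))
    ?_ ?_ ?_ ?_ hy
  · rintro _ ⟨⟨j, hj⟩, rfl⟩
    rcases Nat.lt_succ_iff_lt_or_eq.mp hj with h | h
    · rw [apply_cycVec_of_lt F x n h]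
      exact Submodule.subset_span ⟨_, rfl⟩
    · subst h
      rw [apply_cycVec_last F x j hx]
      exact Submodule.smul_mem _ _ (Submodule.subset_span ⟨_, rfl⟩)
  · rw [map_zero]; exact Submodule.zero_mem _
  · intro a b _ _ ha hb; rw [map_add]; exact Submodule.add_mem _ ha hb
  · intro c a _ ha; rw [LinearMap.map_smulₛₗ]; exact Submodule.smul_mem _ _ ha

theorem isIsoclinicOn_cyc (hρ : Nice ρ) (F : N →ₛₗ[ρ] N) (x : N) (n : ℕ) {d : ℤ}
    (hx : (⇑F)^[n + 1] x = ((p : L) ^ d) • x) :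
    IsIsoclinicOn F (Submodule.span L (Set.range (cycVec F x n))) ((d : ℚ) / ((n + 1 : ℕ) : ℚ)) := by
  refine ⟨Submodule.span W (Set.range (cycVec F x n)), Submodule.fg_span (Set.finite_range _), ?_,
    d, n + 1, Nat.succ_pos n, rfl, ?_⟩
  · exact Submodule.span_span_of_tower W L _
  · apply le_antisymm
    · refine latImg_span_le hρ F (n + 1) _ _ ?_
      rintro _ ⟨j, rfl⟩
      rw [iterate_cycVec F x n hx, mem_pPow]
      exact ⟨_, Submodule.subset_span ⟨j, rfl⟩, rfl⟩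
    · rw [pPow_span, Submodule.span_le]
      rintro _ ⟨_, ⟨j, rfl⟩, rfl⟩
      rw [SetLike.mem_coe, mem_latImg hρ]
      exact ⟨cycVec F x n j, Submodule.subset_span ⟨j, rfl⟩, iterate_cycVec F x n hx j⟩

theorem exists_int_slope_mul_finrank (hρ : Nice ρ) (F : N →ₛₗ[ρ] N) (P : Submodule L N)
    [FiniteDimensional L P] (hP : ∀ x ∈ P, F x ∈ P) (μ : ℚ) (h : IsIsoclinicOn F P μ) :
    ∃ z : ℤ, μ * (finrank L P : ℚ) = z := by
  obtain ⟨M', hM', r, s, hs, hrs, hFM'⟩ := (isIsoclinic_restrict_iff hρ F P hP μ).mpr h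
  obtain ⟨d', hd'⟩ := exists_mul_eq_of_latImg_eq hρ (F.restrict hP) (finBasis L P) M' hM' s hs r hFM'
  refine ⟨d', ?_⟩
  rw [← hrs]
  have h1 : (r : ℚ) * (finrank L P : ℚ) = s * d' := by exact_mod_cast hd'
  have hs' : (s : ℚ) ≠ 0 := by positivity
  field_simp
  linarith

theorem finrank_span_cycVec (hρ : Nice ρ) (F : N →ₛₗ[ρ] N) (x : N) (hx0 : x ≠ 0) (n : ℕ) {d : ℤ}
    (hgcd : Int.gcd d ((n + 1 : ℕ) : ℤ) = 1)
    (hx : (⇑F)^[n + 1] x = ((p : L) ^ d) • x) :
    finrank L (Submodule.span L (Set.range (cycVec F x n))) = n + 1 := by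
  set C := Submodule.span L (Set.range (cycVec F x n)) with hC
  have : FiniteDimensional L C := FiniteDimensional.span_of_finite L (Set.finite_range _)
  have hle : finrank L C ≤ n + 1 := by
    have := finrank_range_le_card (R := L) (cycVec F x n)
    rwa [Fintype.card_fin] at this
  have hpos : 0 < finrank L C := by
    rw [Module.finrank_pos_iff_exists_ne_zero]
    refine ⟨⟨x, Submodule.subset_span ⟨0, rfl⟩⟩, ?_⟩
    intro h0
    exact hx0 (congrArg Subtype.val h0)
  obtain ⟨z, hz⟩ := exists_int_slope_mul_finrank hρ F C (apply_cycVec_mem F x n hx) _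
    (isIsoclinicOn_cyc hρ F x n hx)
  have h1 : (d : ℤ) * (finrank L C : ℤ) = z * ((n + 1 : ℕ) : ℤ) := by
    have hn : (((n + 1 : ℕ) : ℚ)) ≠ 0 := by positivity
    have : (d : ℚ) * (finrank L C : ℚ) = z * ((n + 1 : ℕ) : ℚ) := by
      rw [← hz]; field_simp
    exact_mod_cast this
  have hcop : IsCoprime (((n + 1 : ℕ) : ℤ)) d := by
    rw [Int.isCoprime_iff_gcd_eq_one, Int.gcd_comm]; exact hgcd
  have hdvd : (((n + 1 : ℕ) : ℤ)) ∣ (finrank L C : ℤ) := by
    refine hcop.dvd_of_dvd_mul_left ?_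
    rw [h1]; exact Dvd.intro_left z rfl
  have hdvd' : (n + 1) ∣ finrank L C := by exact_mod_cast hdvd
  exact le_antisymm hle (Nat.le_of_dvd hpos hdvd')

theorem linearIndependent_cycVec (hρ : Nice ρ) (F : N →ₛₗ[ρ] N) (x : N) (hx0 : x ≠ 0) (n : ℕ)
    {d : ℤ} (hgcd : Int.gcd d ((n + 1 : ℕ) : ℤ) = 1)
    (hx : (⇑F)^[n + 1] x = ((p : L) ^ d) • x) :
    LinearIndependent L (cycVec F x n) := by
  rw [linearIndependent_iff_card_eq_finrank_span, Fintype.card_fin]
  exact (finrank_span_cycVec hρ F x hx0 n hgcd hx).symm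

theorem equivFun_basis_eq_single {ι : Type*} [Fintype ι] [DecidableEq ι] {M : Type*}
    [AddCommGroup M] [Module L M] (b : Basis ι L M) (i : ι) :
    b.equivFun (b i) = (Pi.single i 1 : ι → L) := by
  ext j
  rw [Basis.equivFun_self, Pi.single_apply]
  by_cases h : i = j
  · subst h; simp
  · rw [if_neg h, if_neg (Ne.symm h)]

theorem exists_equiv_std_cyc (hρ : Nice ρ) (F : N →ₛₗ[ρ] N) (x : N) (hx0 : x ≠ 0) (n : ℕ)
    {d : ℤ} (hgcd : Int.gcd d ((n + 1 : ℕ) : ℤ) = 1)
    (hx : (⇑F)^[n + 1] x = ((p : L) ^ d) • x) :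
    ∃ (C : Submodule L N) (hC : ∀ y ∈ C, F y ∈ C) (e : C ≃ₗ[L] (Fin (n + 1) → L)),
      C ≠ ⊥ ∧ ∀ c : C, e (F.restrict hC c) = stdIsoc ρ d (n + 1) (e c) := by
  classical
  have hli := linearIndependent_cycVec hρ F x hx0 n hgcd hx
  have hC := apply_cycVec_mem F x n hx
  let b : Basis (Fin (n + 1)) L (Submodule.span L (Set.range (cycVec F x n))) := Basis.span hli
  have hb : ∀ j, ((b j : Submodule.span L (Set.range (cycVec F x n))) : N) = cycVec F x n j :=
    fun j => Basis.coe_span_apply hli j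
  refine ⟨_, hC, b.equivFun, ?_, ?_⟩
  · intro h0
    have : x ∈ Submodule.span L (Set.range (cycVec F x n)) := Submodule.subset_span ⟨0, rfl⟩
    rw [h0] at this
    exact hx0 ((Submodule.mem_bot L).mp this)
  · have key : (b.equivFun : _ →ₗ[L] (Fin (n + 1) → L)).comp (F.restrict hC) =
        (stdIsoc ρ d (n + 1)).comp (b.equivFun : _ →ₗ[L] (Fin (n + 1) → L)) := by
      refine b.ext fun j => ?_
      simp only [LinearMap.comp_apply, LinearEquiv.coe_coe]
      rw [equivFun_basis_eq_single]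
      obtain ⟨j, hj⟩ := j
      rcases Nat.lt_succ_iff_lt_or_eq.mp hj with h | h
      · rw [stdIsoc_single_of_lt ρ d n h, ← equivFun_basis_eq_single b]
        congr 1
        apply Subtype.ext
        rw [LinearMap.coe_restrict_apply, hb, hb, apply_cycVec_of_lt F x n h]
      · subst h
        rw [stdIsoc_single_last ρ d j, ← equivFun_basis_eq_single b, ← map_smul]
        congr 1
        apply Subtype.ext
        rw [LinearMap.coe_restrict_apply, hb, Submodule.coe_smul, hb, apply_cycVec_last F x j hx]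
    intro c
    exact LinearMap.congr_fun key c

/-- the classification data without multiplicities -/
def Classified (F : N →ₛₗ[ρ] N) : Prop :=
  ∃ (t : ℕ) (d : Fin t → ℤ) (h : Fin t → ℕ)
    (e : N ≃ₗ[L] ((i : Fin t) → (Fin (h i) → L))),
    (∀ i, 0 < h i ∧ Int.gcd (d i) (h i) = 1) ∧
    ∀ (x : N) (i : Fin t), e (F x) i = stdIsoc ρ (d i) (h i) (e x i)

theorem classified_of_subsingleton [Subsingleton N] (F : N →ₛₗ[ρ] N) : Classified F := by
  refine ⟨0, Fin.elim0, Fin.elim0, LinearEquiv.ofSubsingleton _ _, fun i => i.elim0,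
    fun x i => i.elim0⟩

theorem classified_of_isCompl (F : N →ₛₗ[ρ] N) (C Q : Submodule L N) (hC : ∀ y ∈ C, F y ∈ C)
    (hQ : ∀ y ∈ Q, F y ∈ Q) (hCQ : IsCompl C Q) (d₀ : ℤ) (h₀ : ℕ) (hh₀ : 0 < h₀)
    (hg : Int.gcd d₀ (h₀ : ℤ) = 1) (e₀ : C ≃ₗ[L] (Fin h₀ → L))
    (he₀ : ∀ c : C, e₀ (F.restrict hC c) = stdIsoc ρ d₀ h₀ (e₀ c))
    (hcl : Classified (F.restrict hQ)) : Classified F := by
  obtain ⟨t, d, h, e', hdh, he'⟩ := hcl
  let h' : Fin (t + 1) → ℕ := Fin.cons h₀ h
  let d' : Fin (t + 1) → ℤ := Fin.cons d₀ d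
  let e : N ≃ₗ[L] ((i : Fin (t + 1)) → (Fin (h' i) → L)) :=
    (Submodule.prodEquivOfIsCompl C Q hCQ).symm ≪≫ₗ (e₀.prodCongr e') ≪≫ₗ
      (Fin.consLinearEquiv L (fun i : Fin (t + 1) => Fin (h' i) → L))
  have hsymm : ∀ x : N, ∃ (c : C) (q : Q), x = (c : N) + (q : N) ∧
      (Submodule.prodEquivOfIsCompl C Q hCQ).symm x = (c, q) := by
    intro x
    refine ⟨((Submodule.prodEquivOfIsCompl C Q hCQ).symm x).1,
      ((Submodule.prodEquivOfIsCompl C Q hCQ).symm x).2, ?_, rfl⟩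
    conv_lhs => rw [← (Submodule.prodEquivOfIsCompl C Q hCQ).apply_symm_apply x]
    rw [Submodule.coe_prodEquivOfIsCompl']
  have hsymm' : ∀ (c : C) (q : Q),
      (Submodule.prodEquivOfIsCompl C Q hCQ).symm ((c : N) + (q : N)) = (c, q) := by
    intro c q
    rw [LinearEquiv.symm_apply_eq, Submodule.coe_prodEquivOfIsCompl']
  have he : ∀ (c : C) (q : Q), e ((c : N) + (q : N)) = Fin.cons (e₀ c) (e' q) := by
    intro c q
    simp only [e, LinearEquiv.trans_apply, hsymm']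
    rfl
  refine ⟨t + 1, d', h', e, ?_, ?_⟩
  · intro i
    refine Fin.cases ?_ (fun i => ?_) i
    · exact ⟨hh₀, hg⟩
    · exact hdh i
  · intro x i
    obtain ⟨c, q, rfl, -⟩ := hsymm x
    have hF : F ((c : N) + (q : N)) = ((F.restrict hC c : C) : N) + ((F.restrict hQ q : Q) : N) := by
      rw [map_add]; rfl
    rw [hF, he, he]
    refine Fin.cases ?_ (fun i => ?_) i
    · exact he₀ c
    · exact he' q i


theorem range_le_slopePart_of_std (hρ : Nice ρ) (F : N →ₛₗ[ρ] N) (d : ℤ) (hh : ℕ) (hpos : 0 < hh)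
    (f : (Fin hh → L) →ₗ[L] N) (hf : ∀ y, f (stdIsoc ρ d hh y) = F (f y)) :
    LinearMap.range f ≤ slopePart F ((d : ℚ) / (hh : ℚ)) := by
  obtain ⟨n, rfl⟩ := Nat.exists_eq_succ_of_ne_zero hpos.ne'
  obtain ⟨M, hM, r, s, hs, hrs, hFM⟩ := stdIsoc_isIsoclinic ρ d n hρ
  apply le_sSup
  rw [Set.mem_ofPred_eq, mem_slopeSet_iff hρ]
  refine ⟨?_, M.map (f.restrictScalars W), hM.fg.map _, ?_, r, s, hs, hrs, ?_⟩
  · rintro _ ⟨y, rfl⟩
    exact ⟨stdIsoc ρ d (n + 1) y, hf y⟩
  · have : ((M.map (f.restrictScalars W) : Submodule W N) : Set N) = f '' (M : Set _) := rfl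
    rw [this, Submodule.span_image, hM.span_eq_top, Submodule.map_top]
  · rw [← map_latImg hρ f (stdIsoc ρ d (n + 1)) F hf, hFM, map_pPow]

theorem finrank_finset_sup_le {ι : Type*} (s : Finset ι) (P : ι → Submodule L N)
    [FiniteDimensional L N] :
    finrank L (s.sup P : Submodule L N) ≤ ∑ i ∈ s, finrank L (P i) := by
  classical
  induction s using Finset.induction_on with
  | empty => simp
  | insert a s ha ih =>
    rw [Finset.sup_insert, Finset.sum_insert ha]
    exact (Submodule.finrank_add_le_finrank_add_finrank _ _).trans (Nat.add_le_add_left ih _)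

theorem newtonMult_eq_sum (hρ : Nice ρ) [FiniteDimensional L N] (F : N →ₛₗ[ρ] N)
    (hF : Function.Injective F) {t : ℕ} (d : Fin t → ℤ) (h : Fin t → ℕ)
    (e : N ≃ₗ[L] ((i : Fin t) → (Fin (h i) → L))) (hh : ∀ i, 0 < h i)
    (he : ∀ (x : N) (i : Fin t), e (F x) i = stdIsoc ρ (d i) (h i) (e x i)) (μ : ℚ) :
    newtonMult F μ = ∑ i : Fin t, (if ((d i : ℚ) / (h i : ℚ)) = μ then h i else 0) := by
  classical
  let f : (i : Fin t) → (Fin (h i) → L) →ₗ[L] N := fun i =>
    (e.symm : _ →ₗ[L] N).comp (LinearMap.single L (fun i => Fin (h i) → L) i)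
  have hfapp : ∀ i y, e (f i y) = Pi.single i y := fun i y => e.apply_symm_apply _
  have hf : ∀ i y, f i (stdIsoc ρ (d i) (h i) y) = F (f i y) := by
    intro i y
    apply e.injective
    rw [hfapp]
    funext i'
    rw [he, hfapp]
    by_cases hi : i' = i
    · subst hi; rw [Pi.single_eq_same, Pi.single_eq_same]
    · rw [Pi.single_eq_of_ne hi, Pi.single_eq_of_ne hi, map_zero]
  let P : Fin t → Submodule L N := fun i => LinearMap.range (f i)
  have hPle : ∀ i, P i ≤ slopePart F ((d i : ℚ) / (h i : ℚ)) := fun i =>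
    range_le_slopePart_of_std hρ F (d i) (h i) (hh i) (f i) (hf i)
  have hPfin : ∀ i, finrank L (P i) ≤ h i := by
    intro i
    have := LinearMap.finrank_range_le (f i)
    rwa [Module.finrank_fin_fun] at this
  have hN : finrank L N = ∑ i, h i := by
    rw [e.finrank_eq, Module.finrank_pi_fintype]
    simp
  set I : Finset (Fin t) := Finset.univ.filter (fun i => (d i : ℚ) / (h i : ℚ) = μ) with hI
  set J : Finset (Fin t) := Finset.univ.filter (fun i => ¬ (d i : ℚ) / (h i : ℚ) = μ) with hJ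
  set A : Submodule L N := I.sup P with hA'
  set B : Submodule L N := J.sup P with hB'
  set S : Submodule L N := slopePart F μ with hS'
  have hA : A ≤ S := Finset.sup_le fun i hi => by
    have := hPle i
    rw [(Finset.mem_filter.mp hi).2] at this
    exact this
  have hB : B ≤ ⨆ (ν : ℚ) (_ : ν ≠ μ), slopePart F ν := Finset.sup_le fun i hi =>
    (hPle i).trans (le_iSup₂_of_le _ (Finset.mem_filter.mp hi).2 le_rfl)
  have hdisj : Disjoint S B := ((iSupIndep_slopePart hρ F hF) μ).mono_right hB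
  have htop : A ⊔ B = ⊤ := by
    rw [eq_top_iff]
    intro x _
    have hx : x = ∑ i, f i (e x i) := by
      apply e.injective
      rw [map_sum]
      simp only [hfapp]
      exact (Finset.univ_sum_single (e x)).symm
    rw [hx]
    refine Submodule.sum_mem _ fun i _ => ?_
    by_cases hi : (d i : ℚ) / (h i : ℚ) = μ
    · exact Submodule.mem_sup_left (Finset.le_sup (f := P)
        (Finset.mem_filter.mpr ⟨Finset.mem_univ i, hi⟩) ⟨_, rfl⟩)
    · exact Submodule.mem_sup_right (Finset.le_sup (f := P)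
        (Finset.mem_filter.mpr ⟨Finset.mem_univ i, hi⟩) ⟨_, rfl⟩)
  have ha : finrank L A ≤ ∑ i ∈ I, h i :=
    (finrank_finset_sup_le I P).trans (Finset.sum_le_sum fun i _ => hPfin i)
  have hb : finrank L B ≤ ∑ i ∈ J, h i :=
    (finrank_finset_sup_le J P).trans (Finset.sum_le_sum fun i _ => hPfin i)
  have hn : finrank L N ≤ finrank L A + finrank L B := by
    have := Submodule.finrank_add_le_finrank_add_finrank A B
    rwa [htop, finrank_top] at this
  have hsum : ∑ i, h i = ∑ i ∈ I, h i + ∑ i ∈ J, h i :=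
    (Finset.sum_filter_add_sum_filter_not Finset.univ _ _).symm
  have has : finrank L A ≤ finrank L S := Submodule.finrank_mono hA
  have hsb : finrank L S + finrank L B ≤ finrank L N := by
    have h1 := Submodule.finrank_sup_add_finrank_inf_eq S B
    rw [hdisj.eq_bot, finrank_bot, add_zero] at h1
    rw [← h1]
    exact Submodule.finrank_le _
  have hfin : finrank L S = ∑ i ∈ I, h i := by omega
  rw [newtonMult, hfin, hI, Finset.sum_filter]


end General

section Lang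

variable {p : ℕ} [Fact p.Prime] {k : Type u} [Field k] [CharP k p] [IsAlgClosed k]
variable {N : Type v} [AddCommGroup N] [Module (WittVector p k) N] [Module K(p, k) N]
  [IsScalarTower (WittVector p k) K(p, k) N]
variable {ρ : K(p, k) →+* K(p, k)}

local notation "W" => WittVector p k
local notation "L" => K(p, k)

theorem sumImg_fg (hρ : Nice ρ) (G : N →ₛₗ[ρ] N) (M : Submodule W N) (hM : M.FG)
    (i : ℕ) : (sumImg G M i).FG := by
  induction i with
  | zero => rw [sumImg_zero]; exact hM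
  | succ i ih => rw [sumImg_succ]; exact ih.sup (latImg_fg hρ G _ hM)

/-- a nonzero slope part contains a vector with `F^h x = p^d x`, `μ = d/h` in lowest terms -/
theorem exists_fixed_of_slopePart_ne_bot (hρ : Nice ρ) {ν : ℕ} (hν : 1 ≤ ν) (hρW : FrobOnW ρ ν)
    [FiniteDimensional L N] (F : N →ₛₗ[ρ] N) (hF : Function.Injective F) (μ : ℚ)
    (hne : slopePart F μ ≠ ⊥) :
    ∃ x : N, x ≠ 0 ∧ (⇑F)^[μ.den] x = ((p : L) ^ μ.num) • x := by
  obtain ⟨hSst, Λ, hΛfg, hΛsp, r, s, hs, hrs, hFΛ⟩ := slopePart_good hρ F μ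
  set S := slopePart F μ with hS
  set h := μ.den with hh
  set d := μ.num with hd
  have hh0 : 0 < h := μ.den_pos
  have h1 : r * (h : ℤ) = d * (s : ℤ) := by
    have h2 : (r : ℚ) / s = (d : ℚ) / h := by rw [hrs]; exact (Rat.num_div_den μ).symm
    have hs' : (s : ℚ) ≠ 0 := by positivity
    have hh' : (h : ℚ) ≠ 0 := by positivity
    have h3 : (r : ℚ) * h = d * s := by
      field_simp at h2
      linarith
    exact_mod_cast h3
  have hcop : IsCoprime (h : ℤ) d := by
    rw [Int.isCoprime_iff_gcd_eq_one, Int.gcd_comm]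
    rw [Int.gcd_eq_natAbs, Int.natAbs_natCast]
    exact μ.reduced
  have hdvd : (h : ℤ) ∣ (s : ℤ) := by
    refine hcop.dvd_of_dvd_mul_left ?_
    rw [← h1]; exact Dvd.intro_left r rfl
  obtain ⟨m, hm⟩ : ∃ m : ℕ, s = h * m := by
    have : h ∣ s := by exact_mod_cast hdvd
    exact this
  have hm0 : 0 < m := by
    rcases Nat.eq_zero_or_pos m with h0 | h0
    · rw [h0, mul_zero] at hm; omega
    · exact h0
  have hr : r = d * m := by
    have hh' : (h : ℤ) ≠ 0 := by exact_mod_cast hh0.ne'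
    have : r * (h : ℤ) = d * m * h := by rw [h1, hm]; push_cast; ring
    exact mul_right_cancel₀ hh' this
  obtain ⟨m', rfl⟩ := Nat.exists_eq_succ_of_ne_zero hm0.ne'
  set Ψ : N →ₛₗ[ρ ^ h] N := (p : L) ^ (-d) • iter F h with hΨ
  have hΨapp : ∀ y, Ψ y = ((p : L) ^ (-d)) • (⇑F)^[h] y := fun y => rfl
  have hρ' : Nice (ρ ^ h) := hρ.pow h
  have hΨm : latImg Ψ (m' + 1) Λ = Λ := by
    rw [hΨ, latImg_twist hρ, ← hm, hFΛ, pPow_pPow, hr]
    have : -d * ((m' + 1 : ℕ) : ℤ) + d * ((m' + 1 : ℕ) : ℤ) = 0 := by ring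
    rw [this, pPow_zero]
  set Λ' := sumImg Ψ Λ m' with hΛ'
  have hΛ'fg : Λ'.FG := sumImg_fg hρ' Ψ Λ hΛfg m'
  have hle : latImg Ψ 1 Λ' ≤ Λ' := by
    refine (latImg_one_sumImg_le hρ' Ψ Λ m').trans ?_
    rw [sumImg_succ, hΨm]
    exact sup_le le_rfl (self_le_sumImg Ψ Λ m')
  have hge : Λ' ≤ latImg Ψ 1 Λ' := by
    have hgoal : ∀ j ∈ Finset.range (m' + 1), latImg Ψ j Λ ≤ latImg Ψ 1 Λ' := by
      intro j hj
      have hj' : j < m' + 1 := Finset.mem_range.mp hj
      rcases Nat.eq_zero_or_pos j with h0 | h0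
      · subst h0
        rw [latImg_zero]
        conv_lhs => rw [← hΨm, show m' + 1 = 1 + m' by omega, latImg_add hρ']
        exact latImg_mono Ψ 1 (latImg_le_sumImg Ψ Λ le_rfl)
      · obtain ⟨j', rfl⟩ := Nat.exists_eq_succ_of_ne_zero h0.ne'
        rw [show j'.succ = 1 + j' by omega, latImg_add hρ']
        exact latImg_mono Ψ 1 (latImg_le_sumImg Ψ Λ (by omega))
    exact Finset.sup_le hgoal
  have hΛ'eq : latImg Ψ 1 Λ' = Λ' := le_antisymm hle hge
  have hΨinj : Function.Injective Ψ := by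
    intro x y hxy
    rw [hΨapp, hΨapp] at hxy
    have := smul_right_injective N (zpow_ne_zero (-d) (p_ne_zero (p := p) (k := k))) hxy
    exact hF.iterate h this
  have hSΛ' : S ≤ Submodule.span L (Λ' : Set N) := by
    rw [← hΛsp]
    exact Submodule.span_mono (self_le_sumImg Ψ Λ m')
  have hSΨ : ∀ x ∈ S, Ψ x ∈ S := by
    intro x hx
    rw [hΨapp]
    exact S.smul_mem _ (iterate_mem F S hSst h hx)
  have hspan := span_fixed_eq hρ' (Nat.mul_pos hν hh0) (hρW.pow h) Ψ hΨinj Λ' hΛ'fg hΛ'eq S hSΛ' hSΨ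
  by_contra hcon
  push Not at hcon
  apply hne
  rw [← hspan, Submodule.span_eq_bot]
  rintro x ⟨hxS, hxΨ⟩
  by_contra hx0
  apply hcon x hx0
  rw [hΨapp] at hxΨ
  calc (⇑F)^[h] x = ((p : L) ^ d) • (((p : L) ^ (-d)) • (⇑F)^[h] x) := by
        rw [smul_smul, ← zpow_add₀ p_ne_zero, add_neg_cancel, zpow_zero, one_smul]
    _ = ((p : L) ^ d) • x := by rw [hxΨ]

theorem exists_slopePart_ne_bot [Nontrivial N] (hρ : Nice ρ) [FiniteDimensional L N]
    (F : N →ₛₗ[ρ] N) (hF : Function.Bijective F) : ∃ μ : ℚ, slopePart F μ ≠ ⊥ := by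
  by_contra hcon
  push Not at hcon
  have h1 := iSup_slopePart_eq_top hρ F hF
  simp only [hcon, iSup_bot] at h1
  exact bot_ne_top h1

theorem exists_fixed_pos [Nontrivial N] (hρ : Nice ρ) {ν : ℕ} (hν : 1 ≤ ν) (hρW : FrobOnW ρ ν)
    [FiniteDimensional L N] (F : N →ₛₗ[ρ] N) (hF : Function.Bijective F) :
    ∃ (d : ℤ) (h : ℕ) (x : N), 0 < h ∧ Int.gcd d (h : ℤ) = 1 ∧ x ≠ 0 ∧
      (⇑F)^[h] x = ((p : L) ^ d) • x := by
  obtain ⟨μ, hμ⟩ := exists_slopePart_ne_bot hρ F hF
  obtain ⟨x, hx0, hx⟩ := exists_fixed_of_slopePart_ne_bot hρ hν hρW F hF.1 μ hμ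
  refine ⟨μ.num, μ.den, x, μ.den_pos, ?_, hx0, hx⟩
  rw [Int.gcd_eq_natAbs, Int.natAbs_natCast]
  exact μ.reduced

theorem exists_fixed [Nontrivial N] (a : ℤ) (ha : a ≠ 0) [FiniteDimensional L N]
    (F : N →ₛₗ[Isoc.frob p k a] N) (hF : Function.Bijective F) :
    ∃ (d : ℤ) (h : ℕ) (x : N), 0 < h ∧ Int.gcd d (h : ℤ) = 1 ∧ x ≠ 0 ∧
      (⇑F)^[h] x = ((p : L) ^ d) • x := by
  rcases lt_or_gt_of_ne ha with hneg | hpos
  · obtain ⟨a', ha'⟩ := Int.eq_ofNat_of_zero_le (show 0 ≤ -a by omega)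
    have ha'1 : 1 ≤ a' := by omega
    have hcomp : ∀ x : L, Isoc.frob p k a (Isoc.frob p k (a' : ℤ) x) = x := by
      intro x
      rw [← ha']
      exact frob_neg_comp a x
    set G : N →ₛₗ[Isoc.frob p k (a' : ℤ)] N := invSemilinear F hF hcomp with hG
    have hFG : ∀ x, F (G x) = x := apply_invSemilinear F hF hcomp
    have hGF : ∀ x, G (F x) = x := invSemilinear_apply F hF hcomp
    have hGbij : Function.Bijective G :=
      ⟨fun x y hxy => by rw [← hFG x, ← hFG y, hxy], fun x => ⟨F x, hGF x⟩⟩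
    obtain ⟨d, h, x, hh, hgcd, hx0, hx⟩ :=
      exists_fixed_pos (nice_frob (a' : ℤ)) ha'1 (frobOnW_frob a') G hGbij
    refine ⟨-d, h, x, hh, by rw [Int.neg_gcd]; exact hgcd, hx0, ?_⟩
    have h1 : (⇑F)^[h] ((⇑G)^[h] x) = x := Function.LeftInverse.iterate hFG h x
    rw [hx, iterate_smul_apply', map_p_zpow] at h1
    calc (⇑F)^[h] x = ((p : L) ^ (-d)) • (((p : L) ^ d) • (⇑F)^[h] x) := by
          rw [smul_smul, ← zpow_add₀ p_ne_zero, neg_add_cancel, zpow_zero, one_smul]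
      _ = ((p : L) ^ (-d)) • x := by rw [h1]
  · obtain ⟨a', rfl⟩ := Int.eq_ofNat_of_zero_le (show 0 ≤ a by omega)
    have ha'1 : 1 ≤ a' := by omega
    exact exists_fixed_pos (nice_frob (a' : ℤ)) ha'1 (frobOnW_frob a') F hF

theorem classified_aux (a : ℤ) (ha : a ≠ 0) : ∀ (n : ℕ) (N' : Type v) [AddCommGroup N']
    [Module W N'] [Module L N'] [IsScalarTower W L N'] [FiniteDimensional L N']
    (F : N' →ₛₗ[Isoc.frob p k a] N'), Function.Bijective F → finrank L N' = n →
    Classified F := by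
  intro n
  induction n using Nat.strong_induction_on with
  | _ n ih =>
    intro N' _ _ _ _ _ F hF hn
    rcases subsingleton_or_nontrivial N' with hsub | hnt
    · exact classified_of_subsingleton F
    · obtain ⟨d₀, h₀, x, hh₀, hgcd, hx0, hx⟩ := exists_fixed a ha F hF
      obtain ⟨n₀, rfl⟩ := Nat.exists_eq_succ_of_ne_zero hh₀.ne'
      obtain ⟨C, hC, e₀, hCne, he₀⟩ :=
        exists_equiv_std_cyc (nice_frob a) F x hx0 n₀ hgcd hx
      obtain ⟨Q, hQ, hCQ⟩ := exists_stable_isCompl a ha F hF C hC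
      have hlt : finrank L Q < n := by
        have h1 := Submodule.finrank_add_eq_of_isCompl hCQ
        have h2 : 1 ≤ finrank L C := Submodule.one_le_finrank_iff.mpr hCne
        omega
      have hF'bij := restrict_bijective (nice_frob a) F hF.1 Q hQ
      have hIH := ih _ hlt Q (F.restrict hQ) hF'bij rfl
      exact classified_of_isCompl F C Q hC hQ hCQ d₀ (n₀ + 1) hh₀ hgcd e₀ he₀ hIH

theorem classified (a : ℤ) (ha : a ≠ 0) [FiniteDimensional L N]
    (F : N →ₛₗ[Isoc.frob p k a] N) (hF : Function.Bijective F) : Classified F :=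
  classified_aux a ha _ N F hF rfl

end Lang

end Groth.Agent.Helper8.IsocH
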