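import Mathlib
import Groth.Prelude.Def_Isoc
import Groth.Agent.Helper8.IsocDM

/-!
# Newton slopes over a finite field via the characteristic polynomial of `F^m` (helper8)
-/

set_option autoImplicit false
set_option linter.unusedSectionVars false

noncomputable section

open scoped Pointwise Isocrystal TensorProduct
open Filter Topology Module Polynomial

universe u v w

namespace Groth.Agent.Helper8.IsocH

open Isoc

section LinAlg

variable {K : Type*} {V : Type*} [Field K] [AddCommGroup V] [Module K V] [FiniteDimensional K V]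

theorem charpoly_eq_mul_of_isCompl (f : V →ₗ[K] V) (S T : Submodule K V)
    (hS : ∀ x ∈ S, f x ∈ S) (hT : ∀ x ∈ T, f x ∈ T) (h : IsCompl S T) :
    f.charpoly = (f.restrict hS).charpoly * (f.restrict hT).charpoly := by
  let e := Submodule.prodEquivOfIsCompl S T h
  have key : e.conj ((f.restrict hS).prodMap (f.restrict hT)) = f := by
    apply LinearMap.ext
    intro x
    rw [LinearEquiv.conj_apply_apply]
    obtain ⟨⟨s, t⟩, rfl⟩ := e.surjective x
    rw [e.symm_apply_apply]
    simp only [e, Submodule.coe_prodEquivOfIsCompl', LinearMap.prodMap_apply, map_add,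
      LinearMap.coe_restrict_apply]
  calc f.charpoly = (e.conj ((f.restrict hS).prodMap (f.restrict hT))).charpoly := by rw [key]
    _ = _ := by rw [LinearEquiv.charpoly_conj, LinearMap.charpoly_prodMap]

variable (Ω : Type*) [Field Ω] [Algebra K Ω]

/-- roots of the characteristic polynomial after base change are the spectrum of the base change -/
theorem isRoot_map_charpoly_iff (g : Module.End K V) (α : Ω) :
    (g.charpoly.map (algebraMap K Ω)).IsRoot α ↔ α ∈ spectrum Ω (g.baseChange Ω) := by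
  rw [Module.End.mem_spectrum_iff_isRoot_charpoly, LinearMap.charpoly_baseChange]

theorem spec_smul_pow (g : Module.End K V) (c : K) (j : ℕ) {α : Ω}
    (hα : α ∈ spectrum Ω (g.baseChange Ω)) :
    algebraMap K Ω c * α ^ j ∈ spectrum Ω ((c • g ^ j).baseChange Ω) := by
  have h1 : (c • g ^ j).baseChange Ω =
      Polynomial.aeval (g.baseChange Ω) (C (algebraMap K Ω c) * X ^ j : Polynomial Ω) := by
    rw [LinearMap.baseChange_smul, LinearMap.baseChange_pow, map_mul, Polynomial.aeval_C,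
      map_pow, Polynomial.aeval_X, ← Algebra.smul_def, algebraMap_smul]
  rw [h1]
  have := spectrum.subset_polynomial_aeval (g.baseChange Ω) (C (algebraMap K Ω c) * X ^ j : Polynomial Ω)
    ⟨α, hα, rfl⟩
  simpa using this

theorem spec_inv (g₁ g₂ : Module.End K V) (h12 : g₁ * g₂ = 1) (h21 : g₂ * g₁ = 1) {β : Ω}
    (hβ : β ∈ spectrum Ω (g₁.baseChange Ω)) : β⁻¹ ∈ spectrum Ω (g₂.baseChange Ω) := by
  have e1 : g₁.baseChange Ω * g₂.baseChange Ω = 1 := by
    rw [← LinearMap.baseChange_mul, h12, LinearMap.baseChange_one]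
  have e2 : g₂.baseChange Ω * g₁.baseChange Ω = 1 := by
    rw [← LinearMap.baseChange_mul, h21, LinearMap.baseChange_one]
  have h := spectrum.map_inv (𝕜 := Ω) (A := Module.End Ω (Ω ⊗[K] V)) ⟨_, _, e1, e2⟩
  have h2 : β⁻¹ ∈ (spectrum Ω (g₁.baseChange Ω))⁻¹ := Set.inv_mem_inv.mpr hβ
  exact h ▸ h2

theorem spec_ne_zero (g₁ g₂ : Module.End K V) (h12 : g₁ * g₂ = 1) (h21 : g₂ * g₁ = 1) {β : Ω}
    (hβ : β ∈ spectrum Ω (g₁.baseChange Ω)) : β ≠ 0 := by
  have e1 : g₁.baseChange Ω * g₂.baseChange Ω = 1 := by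
    rw [← LinearMap.baseChange_mul, h12, LinearMap.baseChange_one]
  have e2 : g₂.baseChange Ω * g₁.baseChange Ω = 1 := by
    rw [← LinearMap.baseChange_mul, h21, LinearMap.baseChange_one]
  exact spectrum.ne_zero_of_mem_of_unit (R := Ω) (A := Module.End Ω (Ω ⊗[K] V))
    (a := ⟨_, _, e1, e2⟩) hβ

end LinAlg

section Fin

variable {p : ℕ} [Fact p.Prime] {k : Type u} [Field k] [CharP k p] [PerfectRing k p]
variable {N : Type v} [AddCommGroup N] [Module (WittVector p k) N] [Module K(p, k) N]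
  [IsScalarTower (WittVector p k) K(p, k) N]
variable {ρ : K(p, k) →+* K(p, k)}

local notation "W" => WittVector p k
local notation "L" => K(p, k)

variable (Ω : Type w) [Field Ω] [Algebra (WittVector p k) Ω] [Algebra K(p, k) Ω]
  [IsScalarTower (WittVector p k) K(p, k) Ω]

/-- eigenvalues of an endomorphism preserving a lattice are integral -/
theorem isIntegral_of_mem_spectrum [FiniteDimensional L N] (M : Submodule W N)
    (hM : M.IsLattice L) (g : Module.End L N) (hg : ∀ x ∈ M, g x ∈ M) {α : Ω}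
    (hα : α ∈ spectrum Ω (g.baseChange Ω)) : IsIntegral W α := by
  classical
  obtain ⟨e, rfl⟩ := exists_basis_of_isLattice M hM (finBasis L N)
  have hent : ∀ i j, ∃ w : W, LinearMap.toMatrix e e g i j = algebraMap W L w := by
    intro i j
    rw [LinearMap.toMatrix_apply]
    exact (mem_span_range_iff_repr e _).mp (hg _ (Submodule.subset_span ⟨j, rfl⟩)) i
  choose B hB using hent
  have hA : LinearMap.toMatrix e e g = (Matrix.of B).map (algebraMap W L) := by
    ext i j
    simp [hB]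
  have hcp : g.charpoly = (Matrix.of B).charpoly.map (algebraMap W L) := by
    rw [← LinearMap.charpoly_toMatrix g e, hA, Matrix.charpoly_map]
  rw [← isRoot_map_charpoly_iff, hcp, Polynomial.map_map, ← IsScalarTower.algebraMap_eq] at hα
  refine ⟨(Matrix.of B).charpoly, Matrix.charpoly_monic _, ?_⟩
  rwa [Polynomial.IsRoot.def, Polynomial.eval_map] at hα

theorem exists_mul_of_div_eq {r : ℤ} {s : ℕ} (hs : 0 < s) {ν : ℚ} (hrs : (r : ℚ) / s = ν) :
    ∃ j : ℕ, 0 < j ∧ s = ν.den * j ∧ r = ν.num * j := by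
  have hh0 : 0 < ν.den := ν.den_pos
  have h1 : r * (ν.den : ℤ) = ν.num * (s : ℤ) := by
    have h2 : (r : ℚ) / s = (ν.num : ℚ) / ν.den := by rw [hrs]; exact (Rat.num_div_den ν).symm
    have hs' : (s : ℚ) ≠ 0 := by positivity
    have hh' : (ν.den : ℚ) ≠ 0 := by positivity
    have h3 : (r : ℚ) * ν.den = ν.num * s := by
      field_simp at h2
      linarith
    exact_mod_cast h3
  have hcop : IsCoprime (ν.den : ℤ) ν.num := by
    rw [Int.isCoprime_iff_gcd_eq_one, Int.gcd_comm]
    rw [Int.gcd_eq_natAbs, Int.natAbs_natCast]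
    exact ν.reduced
  have hdvd : (ν.den : ℤ) ∣ (s : ℤ) := by
    refine hcop.dvd_of_dvd_mul_left ?_
    rw [← h1]; exact Dvd.intro_left r rfl
  obtain ⟨j, hj⟩ : ∃ j : ℕ, s = ν.den * j := by
    have : ν.den ∣ s := by exact_mod_cast hdvd
    exact this
  have hj0 : 0 < j := by
    rcases Nat.eq_zero_or_pos j with h0 | h0
    · rw [h0, mul_zero] at hj; omega
    · exact h0
  refine ⟨j, hj0, hj, ?_⟩
  have hh' : (ν.den : ℤ) ≠ 0 := by exact_mod_cast hh0.ne'
  have : r * (ν.den : ℤ) = ν.num * j * ν.den := by rw [h1, hj]; push_cast; ring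
  exact mul_right_cancel₀ hh' this

/-- the condition on a root of the characteristic polynomial of `π = F^m` -/
def RootCond (m : ℕ) (ν : ℚ) (α : Ω) : Prop :=
  IsIntegral W (α ^ ν.den * (algebraMap L Ω (p : L)) ^ (-(ν.num * (m : ℤ)))) ∧
  IsIntegral W (α ^ ν.den * (algebraMap L Ω (p : L)) ^ (-(ν.num * (m : ℤ))))⁻¹

theorem rootCond_of_isIsoclinic (hρ : Nice ρ) [FiniteDimensional L N] (F : N →ₛₗ[ρ] N)
    (hF : Function.Injective F) (ν : ℚ) (hiso : IsIsoclinic F ν) (m : ℕ) (π : Module.End L N)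
    (hπ : ∀ x, π x = (⇑F)^[m] x) {α : Ω} (hα : α ∈ spectrum Ω (π.baseChange Ω)) :
    RootCond (p := p) (k := k) Ω m ν α := by
  obtain ⟨M, hM, r, s, hs, hrs, hFM⟩ := hiso
  have hFM' : latImg F (s * m) M = pPow (r * m) M := latImg_mul hρ F hFM m
  have hπfun : ⇑π = (⇑F)^[m] := funext hπ
  have hπs : ∀ x, (π ^ s) x = (⇑F)^[s * m] x := by
    intro x
    rw [Module.End.pow_apply, hπfun, mul_comm, Function.iterate_mul]
  set c : L := (p : L) ^ (-(r * (m : ℤ))) with hc
  have hc0 : c ≠ 0 := zpow_ne_zero _ p_ne_zero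
  set g₁ : Module.End L N := c • π ^ s with hg₁
  have hg₁app : ∀ x, g₁ x = c • (⇑F)^[s * m] x := fun x => by
    rw [hg₁, LinearMap.smul_apply, hπs]
  have hg₁M : ∀ x ∈ M, g₁ x ∈ M := by
    intro x hx
    have h1 : (⇑F)^[s * m] x ∈ pPow (r * m) M := by
      rw [← hFM']; exact (mem_latImg hρ F _ M).mpr ⟨x, hx, rfl⟩
    obtain ⟨y, hy, hyx⟩ := mem_pPow.mp h1
    rw [hg₁app, ← hyx, hc, smul_smul, ← zpow_add₀ p_ne_zero, neg_add_cancel, zpow_zero, one_smul]
    exact hy
  have hg₁surj : ∀ y ∈ M, ∃ x ∈ M, g₁ x = y := by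
    intro y hy
    have h1 : ((p : L) ^ (r * (m : ℤ))) • y ∈ latImg F (s * m) M := by
      rw [hFM']; exact mem_pPow.mpr ⟨y, hy, rfl⟩
    obtain ⟨x, hx, hxy⟩ := (mem_latImg hρ F _ M).mp h1
    refine ⟨x, hx, ?_⟩
    rw [hg₁app, hxy, hc, smul_smul, ← zpow_add₀ p_ne_zero, neg_add_cancel, zpow_zero, one_smul]
  have hg₁inj : Function.Injective g₁ := by
    intro x y hxy
    rw [hg₁app, hg₁app] at hxy
    exact hF.iterate _ (smul_right_injective N hc0 hxy)
  set ge : N ≃ₗ[L] N := LinearEquiv.ofInjectiveEndo g₁ hg₁inj with hge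
  have hge1 : ∀ x, ge x = g₁ x := fun x => by rw [hge, LinearEquiv.coe_ofInjectiveEndo]
  set g₂ : Module.End L N := (ge.symm : N →ₗ[L] N) with hg₂
  have h12 : g₁ * g₂ = 1 := by
    apply LinearMap.ext
    intro x
    rw [Module.End.mul_apply, hg₂, LinearEquiv.coe_coe, ← hge1, ge.apply_symm_apply]
    rfl
  have h21 : g₂ * g₁ = 1 := by
    apply LinearMap.ext
    intro x
    rw [Module.End.mul_apply, hg₂, LinearEquiv.coe_coe, ← hge1, ge.symm_apply_apply]
    rfl
  have hg₂M : ∀ y ∈ M, g₂ y ∈ M := by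
    intro y hy
    obtain ⟨x, hx, rfl⟩ := hg₁surj y hy
    rw [hg₂, LinearEquiv.coe_coe, ← hge1, ge.symm_apply_apply]
    exact hx
  have hβ'mem := spec_smul_pow Ω π c s hα
  have hβ' : IsIntegral W (algebraMap L Ω c * α ^ s) :=
    isIntegral_of_mem_spectrum Ω M hM g₁ hg₁M hβ'mem
  have hβ'inv : IsIntegral W (algebraMap L Ω c * α ^ s)⁻¹ :=
    isIntegral_of_mem_spectrum Ω M hM g₂ hg₂M (spec_inv Ω g₁ g₂ h12 h21 hβ'mem)
  obtain ⟨j, hj0, hsj, hrj⟩ := exists_mul_of_div_eq hs hrs
  have hpow : (α ^ ν.den * (algebraMap L Ω (p : L)) ^ (-(ν.num * (m : ℤ)))) ^ j =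
      algebraMap L Ω c * α ^ s := by
    have e1 : ((algebraMap L Ω (p : L)) ^ (-(ν.num * (m : ℤ)))) ^ j =
        (algebraMap L Ω (p : L)) ^ (-(r * (m : ℤ))) := by
      rw [← zpow_natCast ((algebraMap L Ω (p : L)) ^ (-(ν.num * (m : ℤ)))) j, ← zpow_mul]
      congr 1
      rw [hrj]; ring
    rw [mul_pow, ← pow_mul, ← hsj, e1, hc, map_zpow₀, mul_comm]
  constructor
  · exact IsIntegral.of_pow hj0 (by rw [hpow]; exact hβ')
  · exact IsIntegral.of_pow hj0 (by rw [inv_pow, hpow]; exact hβ'inv)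

theorem nonneg_of_isIntegral_zpow {z : ℤ}
    (h : IsIntegral W ((algebraMap L Ω (p : L)) ^ z)) : 0 ≤ z := by
  rw [← map_zpow₀] at h
  have h1 : IsIntegral W ((p : L) ^ z) :=
    (isIntegral_algebraMap_iff (algebraMap L Ω).injective).mp h
  obtain ⟨w, hw⟩ := IsIntegrallyClosed.isIntegral_iff.mp h1
  have h2 : IsOrdP ((p : L) ^ (0 : ℤ) * algebraMap W L w) z := by
    rw [zpow_zero, one_mul, hw]; exact isOrdP_p_zpow z
  exact le_of_isOrdP_mul h2

theorem rootCond_unique {m : ℕ} (hm : 0 < m) {ν ν' : ℚ} {α : Ω} (hα : α ≠ 0)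
    (h : RootCond (p := p) (k := k) Ω m ν α) (h' : RootCond (p := p) (k := k) Ω m ν' α) :
    ν = ν' := by
  have hP : algebraMap L Ω (p : L) ≠ 0 :=
    (map_ne_zero_iff _ (algebraMap L Ω).injective).mpr p_ne_zero
  set P := algebraMap L Ω (p : L) with hPdef
  have key : ∀ (μ₁ μ₂ : ℚ), RootCond (p := p) (k := k) Ω m μ₁ α →
      RootCond (p := p) (k := k) Ω m μ₂ α →
      0 ≤ (m : ℤ) * (μ₂.num * μ₁.den - μ₁.num * μ₂.den) := by
    intro μ₁ μ₂ h₁ h₂
    have hint : IsIntegral W ((α ^ μ₁.den * P ^ (-(μ₁.num * (m : ℤ)))) ^ μ₂.den *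
        ((α ^ μ₂.den * P ^ (-(μ₂.num * (m : ℤ))))⁻¹) ^ μ₁.den) :=
      (h₁.1.pow _).mul (h₂.2.pow _)
    have hA : (α ^ μ₁.den) ^ μ₂.den = (α ^ μ₂.den) ^ μ₁.den := by
      rw [← pow_mul, ← pow_mul, mul_comm]
    have hA0 : (α ^ μ₂.den) ^ μ₁.den ≠ 0 := pow_ne_zero _ (pow_ne_zero _ hα)
    have hcalc : (α ^ μ₁.den * P ^ (-(μ₁.num * (m : ℤ)))) ^ μ₂.den *
        ((α ^ μ₂.den * P ^ (-(μ₂.num * (m : ℤ))))⁻¹) ^ μ₁.den =
        P ^ ((m : ℤ) * (μ₂.num * μ₁.den - μ₁.num * μ₂.den)) := by
      rw [mul_pow, inv_pow, mul_pow, mul_inv, hA]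
      have : (α ^ μ₂.den) ^ μ₁.den * (P ^ (-(μ₁.num * (m : ℤ)))) ^ μ₂.den *
          (((α ^ μ₂.den) ^ μ₁.den)⁻¹ * ((P ^ (-(μ₂.num * (m : ℤ)))) ^ μ₁.den)⁻¹) =
          ((α ^ μ₂.den) ^ μ₁.den * ((α ^ μ₂.den) ^ μ₁.den)⁻¹) *
            ((P ^ (-(μ₁.num * (m : ℤ)))) ^ μ₂.den * ((P ^ (-(μ₂.num * (m : ℤ)))) ^ μ₁.den)⁻¹) := by
        ring
      rw [this, mul_inv_cancel₀ hA0, one_mul,
        ← zpow_natCast (P ^ (-(μ₁.num * (m : ℤ)))) μ₂.den, ← zpow_mul,
        ← zpow_natCast (P ^ (-(μ₂.num * (m : ℤ)))) μ₁.den, ← zpow_mul, ← zpow_neg,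
        ← zpow_add₀ hP]
      congr 1
      ring
    rw [hcalc] at hint
    exact nonneg_of_isIntegral_zpow Ω hint
  have h1 := key ν ν' h h'
  have h2 := key ν' ν h' h
  have hm' : (0 : ℤ) < m := by exact_mod_cast hm
  have h3 : ν'.num * ν.den - ν.num * ν'.den = 0 := by
    have e1 : 0 ≤ ν'.num * ν.den - ν.num * ν'.den := nonneg_of_mul_nonneg_right h1 hm'
    have e2 : 0 ≤ ν.num * ν'.den - ν'.num * ν.den := nonneg_of_mul_nonneg_right h2 hm'
    omega
  rw [Rat.eq_iff_mul_eq_mul]
  omega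

end Fin

section Count

theorem sum_countP_le_card {ι α : Type*} (T : Finset ι) (P : ι → α → Prop)
    [∀ i, DecidablePred (P i)] (R : Multiset α)
    (hex : ∀ a ∈ R, ∀ i ∈ T, ∀ j ∈ T, P i a → P j a → i = j) :
    ∑ i ∈ T, Multiset.countP (P i) R ≤ Multiset.card R := by
  classical
  induction R using Multiset.induction_on with
  | empty => simp
  | cons a R ih =>
    have ih' := ih (fun b hb => hex b (Multiset.mem_cons_of_mem hb))
    simp only [Multiset.countP_cons, Multiset.card_cons, Finset.sum_add_distrib]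
    have h1 : ∑ i ∈ T, (if P i a then 1 else 0) ≤ 1 := by
      rw [Finset.sum_boole]
      have : (T.filter fun i => P i a).card ≤ 1 := by
        rw [Finset.card_le_one]
        intro i hi j hj
        rw [Finset.mem_filter] at hi hj
        exact hex a (Multiset.mem_cons_self a R) i hi.1 j hj.1 hi.2 hj.2
      exact_mod_cast this
    omega

end Count

section Main

variable {p : ℕ} [Fact p.Prime] {k : Type u} [Field k] [CharP k p] [PerfectRing k p]
variable {N : Type v} [AddCommGroup N] [Module (WittVector p k) N] [Module K(p, k) N]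
  [IsScalarTower (WittVector p k) K(p, k) N]
variable {ρ : K(p, k) →+* K(p, k)}

local notation "W" => WittVector p k
local notation "L" => K(p, k)

variable (Ω : Type w) [Field Ω] [IsAlgClosed Ω] [Algebra (WittVector p k) Ω] [Algebra K(p, k) Ω]
  [IsScalarTower (WittVector p k) K(p, k) Ω]

open scoped Classical in
theorem newtonMult_eq_countP (hρ : Nice ρ) [FiniteDimensional L N] (F : N →ₛₗ[ρ] N)
    (hF : Function.Bijective F) (m : ℕ) (hm : 0 < m) (π : Module.End L N)
    (hπ : ∀ x, π x = (⇑F)^[m] x) (μ : ℚ) :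
    newtonMult F μ = Multiset.countP (RootCond (p := p) (k := k) Ω m μ)
      ((π.charpoly.map (algebraMap L Ω)).roots) := by
  set R := (π.charpoly.map (algebraMap L Ω)).roots with hR
  have hRcard : Multiset.card R = finrank L N := by
    rw [hR, IsAlgClosed.card_roots_eq_natDegree, Polynomial.natDegree_map,
      LinearMap.charpoly_natDegree]
  have hRspec : ∀ α ∈ R, α ∈ spectrum Ω (π.baseChange Ω) := fun α hα =>
    (isRoot_map_charpoly_iff Ω π α).mp (Polynomial.isRoot_of_mem_roots hα)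
  have hπinj : Function.Injective π := by
    have : ⇑π = (⇑F)^[m] := funext hπ
    rw [this]; exact hF.1.iterate m
  set πe : N ≃ₗ[L] N := LinearEquiv.ofInjectiveEndo π hπinj with hπe
  have hπe1 : ∀ x, πe x = π x := fun x => by rw [hπe, LinearEquiv.coe_ofInjectiveEndo]
  have h12 : π * (πe.symm : N →ₗ[L] N) = 1 := by
    apply LinearMap.ext
    intro x
    rw [Module.End.mul_apply, LinearEquiv.coe_coe, ← hπe1, πe.apply_symm_apply]
    rfl
  have h21 : (πe.symm : N →ₗ[L] N) * π = 1 := by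
    apply LinearMap.ext
    intro x
    rw [Module.End.mul_apply, LinearEquiv.coe_coe, ← hπe1, πe.symm_apply_apply]
    rfl
  have hR0 : ∀ α ∈ R, α ≠ 0 := fun α hα => spec_ne_zero Ω π _ h12 h21 (hRspec α hα)
  have hπS : ∀ ν : ℚ, ∀ x ∈ slopePart F ν, π x ∈ slopePart F ν := fun ν x hx => by
    rw [hπ]; exact iterate_mem F _ (slopePart_good hρ F ν).1 m hx
  have hlow : ∀ ν : ℚ, finrank L (slopePart F ν) ≤
      Multiset.countP (RootCond (p := p) (k := k) Ω m ν) R := by
    intro ν
    obtain ⟨hSst, hSiso⟩ := slopePart_good hρ F ν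
    set S := slopePart F ν with hS
    set T : Submodule L N := ⨆ (ν' : ℚ) (_ : ν' ≠ ν), slopePart F ν' with hT
    have hπT : ∀ x ∈ T, π x ∈ T := by
      have hmap : T.map π ≤ T := by
        rw [hT, Submodule.map_iSup]
        simp_rw [Submodule.map_iSup]
        exact iSup₂_mono fun ν' _ => by
          rintro _ ⟨x, hx, rfl⟩
          exact hπS ν' x hx
      exact fun x hx => hmap ⟨x, hx, rfl⟩
    have hcompl : IsCompl S T := by
      refine ⟨(iSupIndep_slopePart hρ F hF.1) ν, ?_⟩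
      rw [codisjoint_iff, hS, hT, ← iSup_split_single]
      exact iSup_slopePart_eq_top hρ F hF
    have hcp := charpoly_eq_mul_of_isCompl π S T (hπS ν) hπT hcompl
    set R_S := (((π.restrict (hπS ν)).charpoly).map (algebraMap L Ω)).roots with hRS
    have hle : R_S ≤ R := by
      refine Polynomial.roots.le_of_dvd ?_ ?_
      · exact (Polynomial.map_ne_zero_iff (algebraMap L Ω).injective).mpr
          (LinearMap.charpoly_monic π).ne_zero
      · rw [hcp, Polynomial.map_mul]; exact dvd_mul_right _ _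
    have hcardS : Multiset.card R_S = finrank L S := by
      rw [hRS, IsAlgClosed.card_roots_eq_natDegree, Polynomial.natDegree_map,
        LinearMap.charpoly_natDegree]
    have hall : ∀ α ∈ R_S, RootCond (p := p) (k := k) Ω m ν α := by
      intro α hα
      have hiso' : IsIsoclinic (F.restrict hSst) ν :=
        (isIsoclinic_restrict_iff hρ F S hSst ν).mpr hSiso
      have hinj' : Function.Injective (F.restrict hSst) := by
        intro x y hxy
        apply Subtype.ext
        apply hF.1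
        have := congrArg Subtype.val hxy
        simpa using this
      refine rootCond_of_isIsoclinic Ω hρ (F.restrict hSst) hinj' ν hiso' m
        (π.restrict (hπS ν)) (fun x => ?_)
        ((isRoot_map_charpoly_iff Ω _ α).mp (Polynomial.isRoot_of_mem_roots hα))
      apply Subtype.ext
      rw [restrict_iterate, LinearMap.coe_restrict_apply]
      exact hπ x
    calc finrank L S = Multiset.card R_S := hcardS.symm
      _ = Multiset.countP (RootCond (p := p) (k := k) Ω m ν) R_S :=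
          (Multiset.countP_eq_card.mpr hall).symm
      _ ≤ Multiset.countP (RootCond (p := p) (k := k) Ω m ν) R := Multiset.countP_le_of_le _ hle
  have hfin : {ν : ℚ | slopePart F ν ≠ ⊥}.Finite :=
    WellFoundedGT.finite_ne_bot_of_iSupIndep (iSupIndep_slopePart hρ F hF.1)
  set T : Finset ℚ := insert μ hfin.toFinset with hTdef
  have hge : finrank L N ≤ ∑ ν ∈ T, finrank L (slopePart F ν) := by
    have htop : (⊤ : Submodule L N) ≤ T.sup fun ν => slopePart F ν := by
      rw [← iSup_slopePart_eq_top hρ F hF]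
      refine iSup_le fun ν => ?_
      by_cases h0 : slopePart F ν = ⊥
      · rw [h0]; exact bot_le
      · exact Finset.le_sup (f := fun ν => slopePart F ν)
          (Finset.mem_insert_of_mem (hfin.mem_toFinset.mpr h0))
    calc finrank L N = finrank L (⊤ : Submodule L N) := (finrank_top L N).symm
      _ ≤ finrank L (T.sup fun ν => slopePart F ν : Submodule L N) := Submodule.finrank_mono htop
      _ ≤ _ := finrank_finset_sup_le T _
  have hup : ∑ ν ∈ T, Multiset.countP (RootCond (p := p) (k := k) Ω m ν) R ≤ Multiset.card R :=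
    sum_countP_le_card T _ R (fun a ha i _ j _ hi hj => rootCond_unique Ω hm (hR0 a ha) hi hj)
  have heq : ∑ ν ∈ T, finrank L (slopePart F ν) =
      ∑ ν ∈ T, Multiset.countP (RootCond (p := p) (k := k) Ω m ν) R :=
    le_antisymm (Finset.sum_le_sum fun ν _ => hlow ν) (by rw [hRcard] at hup; exact hup.trans hge)
  exact (Finset.sum_eq_sum_iff_of_le (fun ν _ => hlow ν)).mp heq μ (Finset.mem_insert_self _ _)

end Main

end Groth.Agent.Helper8.IsocH
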