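import Mathlib
import Groth.Prelude
import Groth.Agent.Helper8.NGC3
import Groth.Agent.Helper3.GrpImg2
import Groth.Agent.Helper5.FibGrp2
import Groth.Agent.Helper5.KerShear
import Groth.Agent.Helper2.LfpComp

/-!
# Isogenies of smooth group schemes with connected fibres, fibrewise

A homomorphism of smooth separated quasi-compact group schemes with geometrically connected
fibres is flat, locally quasi-finite and lfp iff it is finite surjective on every fibre.
-/

set_option autoImplicit false
set_option linter.style.haveILetI false
set_option linter.unusedSectionVars false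

universe u

open CategoryTheory CategoryTheory.Limits MonoidalCategory CartesianMonoidalCategory MonObj GrpObj
  AlgebraicGeometry

namespace Groth.Agent.Helper8.IsogFib

section General

variable {X Y S : Scheme.{u}} (f : X ⟶ Y) (g : Y ⟶ S)

/-- surjectivity can be checked on the fibres over a base -/
theorem surjective_of_fibres (h : ∀ s : S, Surjective (pullback.snd f (g.fiberι s))) :
    Surjective f := by
  refine ⟨fun y => ?_⟩
  have hy : y ∈ Set.range (g.fiberι (g y)) := by
    rw [g.range_fiberι]; rfl
  obtain ⟨y', hy'⟩ := hy
  obtain ⟨z, hz⟩ := (h (g y)).surj y'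
  refine ⟨pullback.fst f (g.fiberι (g y)) z, ?_⟩
  rw [← Scheme.Hom.comp_apply, pullback.condition, Scheme.Hom.comp_apply, hz, hy']

/-- local quasi-finiteness can be checked on the fibres over a base -/
theorem lqf_of_fibres (h : ∀ s : S, LocallyQuasiFinite (pullback.snd f (g.fiberι s))) :
    LocallyQuasiFinite f := by
  refine LocallyQuasiFinite.of_fiberToSpecResidueField f (fun y => ?_)
  -- the point `y` of `Y` as a morphism into the fibre of `g` over `g y`
  let s := g y
  let t : Spec (Y.residueField y) ⟶ g.fiber s :=
    pullback.lift (Y.fromSpecResidueField y)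
      (Spec.map (g.residueFieldMap y)) (by
        rw [Scheme.Hom.SpecMap_residueFieldMap_fromSpecResidueField])
  have ht : t ≫ g.fiberι s = Y.fromSpecResidueField y := pullback.lift_fst _ _ _
  haveI := h s
  have sq1 : IsPullback (pullback.fst (pullback.snd f (g.fiberι s)) t)
      (pullback.snd (pullback.snd f (g.fiberι s)) t) (pullback.snd f (g.fiberι s)) t :=
    .of_hasPullback _ _
  have sq2 : IsPullback (pullback.fst f (g.fiberι s)) (pullback.snd f (g.fiberι s)) f
      (g.fiberι s) := .of_hasPullback _ _
  have sq := sq1.paste_horiz sq2
  rw [ht] at sq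
  have hlqf : LocallyQuasiFinite (pullback.snd (pullback.snd f (g.fiberι s)) t) := inferInstance
  show LocallyQuasiFinite (pullback.snd f (Y.fromSpecResidueField y))
  have e : pullback.snd f (Y.fromSpecResidueField y) =
      sq.isoPullback.inv ≫ pullback.snd (pullback.snd f (g.fiberι s)) t := by
    rw [Iso.eq_inv_comp]
    exact sq.isoPullback_hom_snd
  rw [e]
  infer_instance

end General

section Field

variable (κ : Type u) [Field κ] (G H : Over (Spec (CommRingCat.of κ))) [GrpObj G] [GrpObj H]
  [LocallyOfFiniteType G.hom] [LocallyOfFiniteType H.hom] [QuasiCompact G.hom]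
  [IsSeparated G.hom] [IsSeparated H.hom] [ConnectedSpace ↥H.left]
  (f : G ⟶ H) [IsMonHom f] [Flat f.left] [LocallyQuasiFinite f.left]
  [LocallyOfFinitePresentation f.left]

include κ in
theorem quasiCompact_hom : QuasiCompact f.left := by
  haveI : QuasiCompact (f.left ≫ H.hom) := by rw [Over.w f]; infer_instance
  exact QuasiCompact.of_comp f.left H.hom

/-- a flat lfp homomorphism to a connected group over a field is surjective -/
theorem surjective_hom : Surjective f.left := by
  haveI := quasiCompact_hom κ G H f
  have hclosed : IsClosed (Set.range f.left) :=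
    Groth.Agent.Helper3.GrpImg2.isClosed_range κ G H f
  have hopen : IsOpen (Set.range f.left) := f.left.isOpenMap.isOpen_range
  let pt : (𝟙_ (Over (Spec (CommRingCat.of κ)))).left := IsLocalRing.closedPoint κ
  have hne : (Set.range f.left).Nonempty := ⟨_, η[G].left pt, rfl⟩
  have huniv : Set.range f.left = Set.univ :=
    (isClopen_iff.mp ⟨hclosed, hopen⟩).resolve_left hne.ne_empty
  exact ⟨fun y => by
    have : y ∈ Set.range f.left := by rw [huniv]; trivial
    exact this⟩

/-- a flat, locally quasi-finite, lfp homomorphism of separated quasi-compact algebraic groups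
to a connected group over a field is finite -/
theorem isFinite_hom : IsFinite f.left := by
  haveI hqc := quasiCompact_hom κ G H f
  haveI hsurj := surjective_hom κ G H f
  -- the kernel
  let N : Over (Spec (CommRingCat.of κ)) := pullback f η[H]
  let i : N ⟶ G := pullback.fst f η[H]
  have hN : AlgGrp.IsKernel i f := by
    have h := IsPullback.of_hasPullback f η[H]
    rwa [toUnit_unique (pullback.snd f η[H]) (toUnit N)] at h
  -- the kernel is finite over the field
  have hNsq : IsPullback i.left (toUnit N).left f.left η[H].left := hN.map (Over.forget _)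
  haveI : LocallyQuasiFinite (toUnit N).left :=
    MorphismProperty.of_isPullback (P := @LocallyQuasiFinite) hNsq inferInstance
  haveI : QuasiCompact (toUnit N).left :=
    MorphismProperty.of_isPullback (P := @QuasiCompact) hNsq inferInstance
  have hNhom : N.hom = (toUnit N).left := by
    have := Over.w (toUnit N)
    rw [← this]
    exact (Category.comp_id _).symm
  haveI : IsLocallyArtinian (Spec (CommRingCat.of κ)) :=
    Scheme.isLocallyArtinianScheme_Spec.mpr inferInstance
  haveI : IsFinite N.hom := by
    rw [hNhom]
    exact IsFinite.of_locallyQuasiFinite _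
  -- descend universal closedness along the cover `f` itself
  have hsq : IsPullback (fst G N).left ((G ◁ i) ≫ μ[G]).left f.left f.left :=
    (Groth.Agent.Helper5.KerShear.isPullback_shear f i hN).map (Over.forget _)
  have hfst : UniversallyClosed (fst G N).left := by
    change UniversallyClosed (pullback.fst G.hom N.hom)
    infer_instance
  haveI : UniversallyClosed f.left :=
    MorphismProperty.of_isPullback_of_descendsAlong (P := @UniversallyClosed)
      (Q := @Surjective ⊓ @Flat ⊓ @QuasiCompact) hsq
      ⟨⟨inferInstance, inferInstance⟩, inferInstance⟩ hfst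
  haveI : IsSeparated f.left := by
    haveI : IsSeparated (f.left ≫ H.hom) := by rw [Over.w f]; infer_instance
    exact IsSeparated.of_comp f.left H.hom
  haveI : IsProper f.left := { }
  exact IsFinite.of_isProper_of_locallyQuasiFinite f.left

end Field

section Main

variable {S : Scheme.{u}} (G H : Over S) [GrpObj G] [GrpObj H]
  [Smooth G.hom] [IsSeparated G.hom] [QuasiCompact G.hom] [GeometricallyConnected G.hom]
  [Smooth H.hom] [IsSeparated H.hom] [QuasiCompact H.hom] [GeometricallyConnected H.hom]
  (f : G ⟶ H) [IsMonHom f]

theorem forward [Flat f.left] [LocallyQuasiFinite f.left] [LocallyOfFinitePresentation f.left]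
    (s : S) : IsFinite (pullback.snd f.left (H.hom.fiberι s)) ∧
      Surjective (pullback.snd f.left (H.hom.fiberι s)) := by
  let j := S.fromSpecResidueField s
  let G' : Over (Spec (CommRingCat.of ↑(S.residueField s))) := Red.bc j G
  let H' : Over (Spec (CommRingCat.of ↑(S.residueField s))) := Red.bc j H
  let f' : G' ⟶ H' := (Over.pullback j).map f
  haveI : IsMonHom f' := inferInstance
  haveI : LocallyOfFiniteType G'.hom :=
    inferInstanceAs (LocallyOfFiniteType (pullback.snd G.hom j))
  haveI : LocallyOfFiniteType H'.hom :=
    inferInstanceAs (LocallyOfFiniteType (pullback.snd H.hom j))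
  haveI : QuasiCompact G'.hom := inferInstanceAs (QuasiCompact (pullback.snd G.hom j))
  haveI : IsSeparated G'.hom := inferInstanceAs (IsSeparated (pullback.snd G.hom j))
  haveI : IsSeparated H'.hom := inferInstanceAs (IsSeparated (pullback.snd H.hom j))
  haveI : ConnectedSpace ↥H'.left := inferInstanceAs (ConnectedSpace ↥(H.hom.fiber s))
  have sq := Groth.Agent.Helper5.FibGrp.isPullback_bc G H f s
  haveI : Flat f'.left := MorphismProperty.of_isPullback (P := @Flat) sq inferInstance
  haveI : LocallyQuasiFinite f'.left :=
    MorphismProperty.of_isPullback (P := @LocallyQuasiFinite) sq inferInstance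
  haveI : LocallyOfFinitePresentation f'.left :=
    MorphismProperty.of_isPullback (P := @LocallyOfFinitePresentation) sq inferInstance
  exact ⟨Groth.Agent.Helper5.FibGrp.fibreMap_of_bc G H f @IsFinite s
      (isFinite_hom (S.residueField s) G' H' f'),
    Groth.Agent.Helper5.FibGrp.fibreMap_of_bc G H f @Surjective s
      (surjective_hom (S.residueField s) G' H' f')⟩

theorem backward (h : ∀ s : S, IsFinite (pullback.snd f.left (H.hom.fiberι s)) ∧
      Surjective (pullback.snd f.left (H.hom.fiberι s))) :
    Flat f.left ∧ LocallyQuasiFinite f.left ∧ LocallyOfFinitePresentation f.left := by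
  haveI : Surjective f.left := surjective_of_fibres f.left H.hom (fun s => (h s).2)
  haveI : GeometricallyReduced H.hom :=
    Groth.Agent.Helper8.NGC.geometricallyReduced_of_smooth H.hom
  have hfl := (Groth.Agent.Helper5.FibGrp.s7800 G H f).1
  have hlqf : LocallyQuasiFinite f.left := lqf_of_fibres f.left H.hom (fun s => by
    haveI := (h s).1
    infer_instance)
  have hlfp : LocallyOfFinitePresentation f.left :=
    Groth.Agent.Helper2.LfpComp.locallyOfFinitePresentation_of_comp f.left H.hom
      (by rw [Over.w f]; infer_instance) inferInstance
  exact ⟨hfl, hlqf, hlfp⟩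

/-- **S7815** -/
theorem main : (Flat f.left ∧ LocallyQuasiFinite f.left ∧ LocallyOfFinitePresentation f.left) ↔
    ∀ s : S, IsFinite (pullback.snd f.left (H.hom.fiberι s)) ∧
      Surjective (pullback.snd f.left (H.hom.fiberι s)) := by
  constructor
  · rintro ⟨h1, h2, h3⟩ s
    exact forward G H f s
  · exact backward G H f

end Main

end Groth.Agent.Helper8.IsogFib
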