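import Mathlib

namespace Groth.Agent.Helper8.ItEq

open TensorProduct

universe u v

/-- if `1 ⊗ q` vanishes in `Frac(A/p) ⊗_A Q` then `s q ∈ pQ` for some `s ∉ p`. -/
lemma exists_smul_mem_of_tmul_eq_zero {A : Type u} [CommRing A] (p : Ideal A) [p.IsPrime]
    {Q : Type v} [AddCommGroup Q] [Module A Q] (q : Q)
    (h : (1 : FractionRing (A ⧸ p)) ⊗ₜ[A] q = 0) :
    ∃ s : A, s ∉ p ∧ s • q ∈ p • (⊤ : Submodule A Q) := by
  set K := FractionRing (A ⧸ p) with hK
  have h1 : (1 : K) ⊗ₜ[A ⧸ p] ((1 : A ⧸ p) ⊗ₜ[A] q) = 0 := by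
    apply (TensorProduct.AlgebraTensorModule.cancelBaseChange A (A ⧸ p) K K Q).injective
    rw [map_zero, TensorProduct.AlgebraTensorModule.cancelBaseChange_tmul, one_smul]
    exact h
  have hloc : IsLocalizedModule (nonZeroDivisors (A ⧸ p))
      (TensorProduct.mk (A ⧸ p) K ((A ⧸ p) ⊗[A] Q) 1) :=
    inferInstance
  have h2 : TensorProduct.mk (A ⧸ p) K ((A ⧸ p) ⊗[A] Q) 1 ((1 : A ⧸ p) ⊗ₜ[A] q) = 0 := h1
  rw [IsLocalizedModule.eq_zero_iff (nonZeroDivisors (A ⧸ p))] at h2
  obtain ⟨⟨sbar, hsbar⟩, hs⟩ := h2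
  obtain ⟨s, rfl⟩ := Ideal.Quotient.mk_surjective sbar
  refine ⟨s, ?_, ?_⟩
  · intro hsp
    have : Ideal.Quotient.mk p s = 0 := Ideal.Quotient.eq_zero_iff_mem.mpr hsp
    rw [this] at hsbar
    exact zero_notMem_nonZeroDivisors hsbar
  · have h3 : (Ideal.Quotient.mk p s) • ((1 : A ⧸ p) ⊗ₜ[A] q) = 0 := hs
    have h4 : (Ideal.Quotient.mk p s) • ((1 : A ⧸ p) ⊗ₜ[A] q) = (Ideal.Quotient.mk p s) ⊗ₜ[A] q := by
      rw [TensorProduct.smul_tmul', smul_eq_mul, mul_one]
    rw [h4] at h3
    have h5 := congrArg (TensorProduct.quotTensorEquivQuotSMul Q p) h3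
    rw [TensorProduct.quotTensorEquivQuotSMul_mk_tmul, map_zero,
      Submodule.Quotient.mk_eq_zero] at h5
    exact h5

lemma tmul_one_ne_zero {A : Type u} [CommRing A] {D : Type v} [CommRing D] [Algebra A D]
    [Module.Finite A D] (hinj : Function.Injective (algebraMap A D)) (p : Ideal A) [p.IsPrime] :
    (1 : FractionRing (A ⧸ p)) ⊗ₜ[A] (1 : D) ≠ 0 := by
  intro h
  obtain ⟨s, hsp, hs⟩ := exists_smul_mem_of_tmul_eq_zero p (1 : D) h
  haveI : Algebra.IsIntegral A D := Algebra.IsIntegral.of_finite A D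
  obtain ⟨P, -, hP, hPp⟩ := Ideal.exists_ideal_over_prime_of_isIntegral p (⊥ : Ideal D) (by
    intro x hx
    rw [Ideal.mem_comap, Ideal.mem_bot] at hx
    have : x = 0 := hinj (by rw [hx, map_zero])
    rw [this]; exact zero_mem _)
  have hle : p • (⊤ : Submodule A D) ≤ P.restrictScalars A := by
    rw [Submodule.smul_le]
    intro x hx d _
    have hxP : algebraMap A D x ∈ P := by
      rw [← Ideal.mem_comap, hPp]; exact hx
    rw [Algebra.smul_def]
    exact P.mul_mem_right _ hxP
  have h1 : s • (1 : D) ∈ P := hle hs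
  rw [Algebra.smul_def, mul_one, ← Ideal.mem_comap, hPp] at h1
  exact hsp h1

lemma key_elem {A : Type u} [CommRing A] {D : Type v} [CommRing D] [Algebra A D]
    [Module.Finite A D] (hinj : Function.Injective (algebraMap A D)) (p : Ideal A) [p.IsPrime]
    (c : D) (hc : c ⊗ₜ[A] (1 : D) = (1 : D) ⊗ₜ[A] c) :
    ∃ s : A, s ∉ p ∧
      s • c ∈ LinearMap.range (Algebra.linearMap A D) ⊔ p • (⊤ : Submodule A D) := by
  set K := FractionRing (A ⧸ p) with hK
  have hne := tmul_one_ne_zero hinj p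
  -- the functional
  obtain ⟨φ, hφ⟩ := LinearMap.exists_leftInverse_of_injective
    (LinearMap.toSpanSingleton K (K ⊗[A] D) ((1 : K) ⊗ₜ[A] (1 : D)))
    (LinearMap.ker_toSpanSingleton K hne)
  have hφ1 : φ ((1 : K) ⊗ₜ[A] (1 : D)) = 1 := by
    have := LinearMap.congr_fun hφ 1
    simpa using this
  set g : D →ₗ[A] K := (φ.restrictScalars A) ∘ₗ (TensorProduct.mk A K D 1) with hg
  have hg1 : g 1 = 1 := hφ1
  set R : Submodule A D := LinearMap.range (Algebra.linearMap A D) with hR
  set θ : D ⊗[A] D →ₗ[A] K ⊗[A] (D ⧸ R) :=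
    (TensorProduct.comm A (D ⧸ R) K).toLinearMap ∘ₗ TensorProduct.map R.mkQ g with hθ
  have h1 : θ (c ⊗ₜ[A] (1 : D)) = (1 : K) ⊗ₜ[A] R.mkQ c := by
    rw [hθ]
    simp only [LinearMap.coe_comp, LinearEquiv.coe_coe, Function.comp_apply, TensorProduct.map_tmul,
      TensorProduct.comm_tmul, hg1]
  have h2 : θ ((1 : D) ⊗ₜ[A] c) = 0 := by
    rw [hθ]
    simp only [LinearMap.coe_comp, LinearEquiv.coe_coe, Function.comp_apply, TensorProduct.map_tmul,
      TensorProduct.comm_tmul]
    have : R.mkQ (1 : D) = 0 := by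
      rw [Submodule.mkQ_apply, Submodule.Quotient.mk_eq_zero]
      exact ⟨1, by simp⟩
    rw [this, TensorProduct.tmul_zero]
  have h3 : (1 : K) ⊗ₜ[A] R.mkQ c = 0 := by rw [← h1, hc, h2]
  obtain ⟨s, hsp, hs⟩ := exists_smul_mem_of_tmul_eq_zero p (R.mkQ c) h3
  refine ⟨s, hsp, ?_⟩
  have h4 : p • (⊤ : Submodule A (D ⧸ R)) = (p • (⊤ : Submodule A D)).map R.mkQ := by
    rw [Submodule.map_smul'', Submodule.map_top, Submodule.range_mkQ]
  rw [h4] at hs
  obtain ⟨y, hy, hys⟩ := hs
  have h5 : s • c - y ∈ R := by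
    rw [← Submodule.Quotient.mk_eq_zero, Submodule.Quotient.mk_sub]
    have : R.mkQ y = s • R.mkQ c := hys
    rw [← map_smul] at this
    change R.mkQ (s • c) - R.mkQ y = 0
    rw [this, sub_self]
  have : s • c = (s • c - y) + y := by abel
  rw [this]
  exact Submodule.add_mem_sup h5 hy


lemma exists_prime_smul_pow_le {A : Type u} [CommRing A] [IsNoetherianRing A] (a : Ideal A)
    (ha : a ≠ ⊤) :
    ∃ (p : Ideal A) (_ : p.IsPrime) (t : A) (n : ℕ), a ≤ p ∧ t ∉ p ∧
      Ideal.span {t} * p ^ n ≤ a := by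
  classical
  obtain ⟨⟨p, hp⟩⟩ := Ideal.nonempty_minimalPrimes ha
  have hpprime : p.IsPrime := hp.1.1
  have hF := Ideal.finite_minimalPrimes_of_isNoetherianRing A a
  set F' := hF.toFinset.erase p with hF'
  have hex : ∀ q ∈ F', ∃ t : A, t ∈ q ∧ t ∉ p := by
    intro q hq
    rw [hF', Finset.mem_erase, Set.Finite.mem_toFinset] at hq
    by_contra hcon
    push Not at hcon
    have hqp : q ≤ p := fun x hx => hcon x hx
    have hpq : p ≤ q := hp.2 hq.2.1 hqp
    exact hq.1 (le_antisymm hqp hpq)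
  choose! tq htq using hex
  set t := ∏ q ∈ F', tq q with ht
  have htp : t ∉ p := by
    rw [ht, Ideal.IsPrime.prod_mem_iff]
    push Not
    intro q hq
    exact (htq q hq).2
  have htq' : ∀ q ∈ F', t ∈ q := by
    intro q hq
    rw [ht]
    exact Ideal.mem_of_dvd _ (Finset.dvd_prod_of_mem tq hq) (htq q hq).1
  have hle : Ideal.span {t} * p ≤ a.radical := by
    rw [← Ideal.sInf_minimalPrimes, Ideal.mul_le]
    intro x hx y hy
    rw [Ideal.mem_sInf]
    intro q hq
    by_cases hqp : q = p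
    · rw [hqp]; exact p.mul_mem_left _ hy
    · have hq' : q ∈ F' := by
        rw [hF', Finset.mem_erase, Set.Finite.mem_toFinset]
        exact ⟨hqp, hq⟩
      obtain ⟨z, rfl⟩ := Ideal.mem_span_singleton'.mp hx
      exact q.mul_mem_right _ (q.mul_mem_left _ (htq' q hq'))
  obtain ⟨n, hn⟩ := Ideal.exists_radical_pow_le_of_fg a (IsNoetherian.noetherian _)
  refine ⟨p, hpprime, t ^ n, n, hp.1.2, ?_, ?_⟩
  · intro h
    exact htp (hpprime.mem_of_pow_mem n h)
  · calc Ideal.span {t ^ n} * p ^ n = (Ideal.span {t} * p) ^ n := by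
          rw [mul_pow, Ideal.span_singleton_pow]
      _ ≤ a.radical ^ n := Ideal.pow_right_mono hle n
      _ ≤ a := hn


lemma uniform_s {A : Type u} [CommRing A] {M : Type v} [AddCommGroup M] [Module A M]
    (p : Ideal A) [p.IsPrime] (T : Submodule A M) (G : Finset M)
    (h : ∀ g ∈ G, ∃ s : A, s ∉ p ∧ s • g ∈ T) :
    ∃ s : A, s ∉ p ∧ ∀ c ∈ Submodule.span A (G : Set M), s • c ∈ T := by
  classical
  induction G using Finset.induction_on with
  | empty =>
    refine ⟨1, fun h1 => (Ideal.IsPrime.ne_top inferInstance) ((Ideal.eq_top_iff_one p).mpr h1), ?_⟩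
    intro c hc
    simp only [Finset.coe_empty, Submodule.span_empty, Submodule.mem_bot] at hc
    rw [hc, smul_zero]
    exact T.zero_mem
  | insert g G hg ih =>
    obtain ⟨s1, hs1, h1⟩ := h g (Finset.mem_insert_self g G)
    obtain ⟨s2, hs2, h2⟩ := ih (fun g' hg' => h g' (Finset.mem_insert_of_mem hg'))
    refine ⟨s1 * s2, fun h12 => ?_, ?_⟩
    · rcases Ideal.IsPrime.mem_or_mem inferInstance h12 with h | h
      · exact hs1 h
      · exact hs2 h
    · intro c hc
      rw [Finset.coe_insert, Submodule.mem_span_insert] at hc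
      obtain ⟨r, c', hc', rfl⟩ := hc
      rw [smul_add]
      refine T.add_mem ?_ ?_
      · have : (s1 * s2) • r • g = (s2 * r) • (s1 • g) := by
          rw [smul_smul, smul_smul]; congr 1; ring
        rw [this]
        exact T.smul_mem _ h1
      · rw [mul_smul]
        exact T.smul_mem _ (h2 c' hc')

theorem main (A B : Type u) [CommRing A] [CommRing B] [Algebra A B] [IsNoetherianRing A]
    [Module.Finite A B] (hinj : Function.Injective (algebraMap A B))
    (C : ℕ → Subalgebra A B) (h0 : C 0 = ⊤)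
    (hstep : ∀ (i : ℕ) (b : B), b ∈ C (i + 1) ↔ ∃ hb : b ∈ C i,
      ((⟨b, hb⟩ : C i) ⊗ₜ[A] (1 : C i) : C i ⊗[A] C i) = (1 : C i) ⊗ₜ[A] (⟨b, hb⟩ : C i)) :
    ∃ m : ℕ, C m = ⊥ := by
  classical
  haveI : IsNoetherian A B := isNoetherian_of_isNoetherianRing_of_finite A B
  have hanti : ∀ i, C (i + 1) ≤ C i := fun i b hb => by
    obtain ⟨hb', -⟩ := (hstep i b).mp hb
    exact hb'
  have hanti' : ∀ i k, C (i + k) ≤ C i := by
    intro i k
    induction k with
    | zero => exact le_rfl
    | succ k ih => exact (hanti (i + k)).trans ih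
  set R : Submodule A B := LinearMap.range (Algebra.linearMap A B) with hR
  have hRbot : ∀ b : B, b ∈ R ↔ b ∈ (⊥ : Subalgebra A B) := by
    intro b
    rw [Algebra.mem_bot, hR, LinearMap.mem_range]
    rfl
  set a : ℕ → Ideal A := fun i => R.colon ((C i : Subalgebra A B) : Set B) with ha
  have hamono : Monotone a := by
    apply monotone_nat_of_le_succ
    intro i
    exact Submodule.colon_mono le_rfl (fun b hb => hanti i hb)
  obtain ⟨N, hN⟩ := monotone_stabilizes_iff_noetherian.mpr (inferInstance : IsNoetherian A A)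
    ⟨a, hamono⟩
  by_cases htop : a N = ⊤
  · refine ⟨N, eq_bot_iff.mpr fun c hc => ?_⟩
    have h1 : (1 : A) ∈ a N := by rw [htop]; exact Submodule.mem_top
    have := Submodule.mem_colon.mp h1 c hc
    rw [one_smul] at this
    exact (hRbot c).mp this
  exfalso
  obtain ⟨p, hp, t, n, hap, htp, htn⟩ := exists_prime_smul_pow_le (a N) htop
  -- one step
  have hone : ∀ i, ∃ s : A, s ∉ p ∧ ∀ c ∈ C (i + 1),
      s • c ∈ R ⊔ p • Subalgebra.toSubmodule (C i) := by
    intro i
    haveI : Module.Finite A (C i) := by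
      change Module.Finite A (Subalgebra.toSubmodule (C i))
      infer_instance
    have hinjD : Function.Injective (algebraMap A (C i)) := by
      intro x y hxy
      apply hinj
      have := congrArg (fun z : C i => (z : B)) hxy
      exact this
    have hfg : (Subalgebra.toSubmodule (C (i + 1))).FG := IsNoetherian.noetherian _
    obtain ⟨G, hG⟩ := hfg
    have hstepG : ∀ g ∈ G, ∃ s : A, s ∉ p ∧ s • g ∈ R ⊔ p • Subalgebra.toSubmodule (C i) := by
      intro g hg
      have hgC : g ∈ C (i + 1) := by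
        have : g ∈ Subalgebra.toSubmodule (C (i + 1)) := by
          rw [← hG]; exact Submodule.subset_span hg
        exact this
      obtain ⟨hb, heq⟩ := (hstep i g).mp hgC
      obtain ⟨s, hsp, hs⟩ := key_elem hinjD p ⟨g, hb⟩ heq
      refine ⟨s, hsp, ?_⟩
      have hmap := Submodule.mem_map_of_mem (f := (C i).val.toLinearMap) hs
      rw [Submodule.map_sup, Submodule.map_smul'', Submodule.map_top] at hmap
      have e1 : Submodule.map (C i).val.toLinearMap
          (LinearMap.range (Algebra.linearMap A (C i))) = R := by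
        rw [hR, ← LinearMap.range_comp]
        congr 1
      have e2 : LinearMap.range (C i).val.toLinearMap = Subalgebra.toSubmodule (C i) := by
        ext x
        simp
      rw [e1, e2] at hmap
      exact hmap
    obtain ⟨s, hsp, hs⟩ := uniform_s p _ G hstepG
    refine ⟨s, hsp, fun c hc => hs c ?_⟩
    rw [hG]
    exact hc
  -- iterate
  have hiter : ∀ k, ∃ s : A, s ∉ p ∧ ∀ c ∈ C (N + k),
      s • c ∈ R ⊔ (p ^ k) • Subalgebra.toSubmodule (C N) := by
    intro k
    induction k with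
    | zero =>
      refine ⟨1, fun h1 => hp.ne_top ((Ideal.eq_top_iff_one p).mpr h1), fun c hc => ?_⟩
      rw [one_smul, pow_zero, Ideal.one_eq_top, Submodule.top_smul]
      exact Submodule.mem_sup_right hc
    | succ k ih =>
      obtain ⟨s1, hs1, h1⟩ := ih
      obtain ⟨s2, hs2, h2⟩ := hone (N + k)
      refine ⟨s1 * s2, fun h12 => ?_, fun c hc => ?_⟩
      · rcases hp.mem_or_mem h12 with h | h
        · exact hs1 h
        · exact hs2 h
      · have hc2 := h2 c hc
        rw [mul_smul]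
        -- s1 • (R ⊔ p • C (N+k)) ⊆ R ⊔ p^(k+1) • C N
        have key : ∀ y ∈ R ⊔ p • Subalgebra.toSubmodule (C (N + k)),
            s1 • y ∈ R ⊔ (p ^ (k + 1)) • Subalgebra.toSubmodule (C N) := by
          intro y hy
          obtain ⟨y1, hy1, y2, hy2, rfl⟩ := Submodule.mem_sup.mp hy
          rw [smul_add]
          refine Submodule.add_mem _ (Submodule.mem_sup_left (R.smul_mem _ hy1)) ?_
          refine Submodule.smul_induction_on hy2 ?_ ?_
          · intro x hx d hd
            have hd' := h1 d hd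
            rw [smul_comm]
            obtain ⟨z1, hz1, z2, hz2, hz⟩ := Submodule.mem_sup.mp hd'
            rw [← hz, smul_add]
            refine Submodule.add_mem _ (Submodule.mem_sup_left (R.smul_mem _ hz1)) ?_
            apply Submodule.mem_sup_right
            rw [pow_succ', mul_smul]
            exact Submodule.smul_mem_smul hx hz2
          · intro y z hy hz
            rw [smul_add]
            exact Submodule.add_mem _ hy hz
        exact key _ hc2
  obtain ⟨s, hsp, hs⟩ := hiter n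
  have hts : t * s ∈ a (N + n) := by
    rw [ha]
    simp only
    rw [Submodule.mem_colon]
    intro c hc
    have h1 := hs c hc
    rw [mul_smul]
    obtain ⟨z1, hz1, z2, hz2, hz⟩ := Submodule.mem_sup.mp h1
    rw [← hz, smul_add]
    refine R.add_mem (R.smul_mem _ hz1) ?_
    refine Submodule.smul_induction_on hz2 ?_ ?_
    · intro x hx d hd
      rw [smul_smul]
      have hx' : t * x ∈ a N := htn (Ideal.mul_mem_mul (Ideal.mem_span_singleton_self t) hx)
      exact Submodule.mem_colon.mp hx' d hd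
    · intro y z hy hz
      rw [smul_add]
      exact R.add_mem hy hz
  have hN' : a N = a (N + n) := hN (N + n) (Nat.le_add_right N n)
  rw [← hN'] at hts
  rcases hp.mem_or_mem (hap hts) with h | h
  · exact htp h
  · exact hsp h

end Groth.Agent.Helper8.ItEq
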