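import Mathlib

namespace Groth.Agent.Helper8.JacCard

open Cardinal Polynomial

universe u

variable {k : Type u} [Field k]

theorem algebraic_quot {T : Type u} [CommRing T] [Algebra k T]
    (t : Set T) (ht : Algebra.adjoin k t = ⊤) (hcard : #t < #k)
    (m : Ideal T) [m.IsMaximal] : Algebra.IsAlgebraic k (T ⧸ m) := by
  letI : Field (T ⧸ m) := Ideal.Quotient.field m
  by_cases hfin : t.Finite
  · haveI : Algebra.FiniteType k T := ⟨⟨hfin.toFinset, by simpa using ht⟩⟩
    haveI : Algebra.FiniteType k (T ⧸ m) :=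
      Algebra.FiniteType.of_surjective (Ideal.Quotient.mkₐ k m) (Ideal.Quotient.mkₐ_surjective k m)
    haveI := finite_of_finite_type_of_isJacobsonRing k (T ⧸ m)
    exact Algebra.IsAlgebraic.of_finite k (T ⧸ m)
  · have hinf : t.Infinite := hfin
    haveI : Infinite t := hinf.to_subtype
    have h1 : Module.rank k T ≤ #t := by
      have hsurj : Function.Surjective (MvPolynomial.aeval (R := k) ((↑) : t → T)) := by
        rw [← AlgHom.range_eq_top, ← Algebra.adjoin_eq_range, ht]
      have := LinearMap.rank_le_of_surjective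
        (MvPolynomial.aeval (R := k) ((↑) : t → T)).toLinearMap hsurj
      rw [MvPolynomial.rank_eq, mk_finsupp_nat] at this
      rwa [max_eq_left (aleph0_le_mk t)] at this
    have h2 : Module.rank k (T ⧸ m) ≤ Module.rank k T :=
      LinearMap.rank_le_of_surjective (Ideal.Quotient.mkₐ k m).toLinearMap
        (Ideal.Quotient.mkₐ_surjective k m)
    by_contra hna
    rw [← Algebra.transcendental_iff_not_isAlgebraic] at hna
    have h3 := Algebra.Transcendental.rank_eq_cardinalMk k (T ⧸ m)
    have h4 : #k ≤ #(T ⧸ m) := mk_le_of_injective (algebraMap k (T ⧸ m)).injective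
    rw [← h3] at h4
    exact absurd (h4.trans (h2.trans h1)) (not_le.mpr hcard)

theorem adjoin_poly {S : Type u} [CommRing S] [Algebra k S]
    (s : Set S) (hs : Algebra.adjoin k s = ⊤) :
    Algebra.adjoin k ((C '' s) ∪ {X} : Set S[X]) = ⊤ := by
  rw [eq_top_iff]
  intro p _
  have hC : ∀ a : S, C a ∈ Algebra.adjoin k ((C '' s) ∪ {X} : Set S[X]) := by
    intro a
    have ha : a ∈ Algebra.adjoin k s := hs ▸ Algebra.mem_top
    have h1 : (IsScalarTower.toAlgHom k S S[X]) a ∈ (Algebra.adjoin k s).map (IsScalarTower.toAlgHom k S S[X]) :=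
      Subalgebra.mem_map.mpr ⟨a, ha, rfl⟩
    rw [AlgHom.map_adjoin] at h1
    refine Algebra.adjoin_mono ?_ h1
    intro y hy
    left
    obtain ⟨z, hz, rfl⟩ := hy
    exact ⟨z, hz, rfl⟩
  have hX : (X : S[X]) ∈ Algebra.adjoin k ((C '' s) ∪ {X} : Set S[X]) :=
    Algebra.subset_adjoin (Or.inr rfl)
  induction p using Polynomial.induction_on with
  | C a => exact hC a
  | add p q hp hq => exact Subalgebra.add_mem _ (hp Algebra.mem_top) (hq Algebra.mem_top)
  | monomial n a ih =>
    rw [pow_succ, ← mul_assoc]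
    exact Subalgebra.mul_mem _ (ih Algebra.mem_top) hX

theorem jacobson_of_infinite {S : Type u} [CommRing S] [Algebra k S]
    (s : Set S) (hs : Algebra.adjoin k s = ⊤) (hcard : #s < #k) (hinf : s.Infinite) :
    IsJacobsonRing S := by
  rw [isJacobsonRing_iff_prime_eq]
  intro P hP
  refine le_antisymm ?_ Ideal.le_jacobson
  intro x hx
  by_contra hxP
  have ht := adjoin_poly s hs
  have htcard : #((C '' s) ∪ {X} : Set S[X]) < #k := by
    haveI : Infinite s := hinf.to_subtype
    refine lt_of_le_of_lt ?_ hcard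
    calc #((C '' s) ∪ {X} : Set S[X]) ≤ #(C '' s : Set S[X]) + #({X} : Set S[X]) := mk_union_le _ _
      _ ≤ #s + 1 := by
        gcongr
        · exact mk_image_le
        · simp
      _ = #s := add_one_eq (aleph0_le_mk s)
  let a : Ideal S[X] := P.map C ⊔ Ideal.span {C x * X - 1}
  have ha : a ≠ ⊤ := by
    intro htop
    let ι : S →+* FractionRing (S ⧸ P) := (algebraMap (S ⧸ P) (FractionRing (S ⧸ P))).comp (Ideal.Quotient.mk P)
    let φ : S[X] →+* FractionRing (S ⧸ P) := Polynomial.eval₂RingHom ι (ι x)⁻¹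
    have hιx : ι x ≠ 0 := by
      intro h0
      have : (Ideal.Quotient.mk P) x = 0 :=
        (IsFractionRing.injective (S ⧸ P) (FractionRing (S ⧸ P))) (by simpa [ι] using h0)
      exact hxP (Ideal.Quotient.eq_zero_iff_mem.mp this)
    have hle : a ≤ RingHom.ker φ := by
      refine sup_le ?_ ?_
      · rw [Ideal.map_le_iff_le_comap]
        intro y hy
        simp [φ, ι, Ideal.Quotient.eq_zero_iff_mem.mpr hy]
      · rw [Ideal.span_le]
        simp [φ, hιx]
    have h1 : (1 : S[X]) ∈ RingHom.ker φ := hle (htop ▸ Submodule.mem_top)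
    simp at h1
  obtain ⟨N, hN, haN⟩ := Ideal.exists_le_maximal a ha
  haveI := hN
  have halg := algebraic_quot _ ht htcard N
  have hM : (N.comap (C : S →+* S[X])).IsMaximal := by
    haveI : (N.comap (C : S →+* S[X])).IsPrime := Ideal.comap_isPrime _ _
    let f : S ⧸ (N.comap (C : S →+* S[X])) →ₐ[k] S[X] ⧸ N :=
      Ideal.quotientMapₐ N (IsScalarTower.toAlgHom k S S[X]) (fun y hy => hy)
    have hf : Function.Injective f := by
      have h0 : Function.Injective (Ideal.quotientMap N
          ((IsScalarTower.toAlgHom k S S[X] : S →ₐ[k] S[X]) : S →+* S[X])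
          (fun y hy => hy : N.comap (C : S →+* S[X]) ≤ N.comap _)) :=
        Ideal.quotientMap_injective' (fun y hy => hy)
      exact h0
    haveI : Algebra.IsAlgebraic k (S ⧸ (N.comap (C : S →+* S[X]))) :=
      Algebra.IsAlgebraic.of_injective f hf
    haveI : Algebra.IsIntegral k (S ⧸ (N.comap (C : S →+* S[X]))) :=
      Algebra.IsAlgebraic.isIntegral
    exact Ideal.Quotient.maximal_of_isField _
      (isField_of_isIntegral_of_isField' (Field.toIsField k))
  have hPM : P ≤ N.comap (C : S →+* S[X]) :=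
    fun y hy => haN (Ideal.mem_sup_left (Ideal.mem_map_of_mem _ hy))
  have hxM : x ∈ N.comap (C : S →+* S[X]) := by
    rw [Ideal.jacobson, Ideal.mem_sInf] at hx
    exact hx ⟨hPM, hM⟩
  have h1 : (1 : S[X]) ∈ N := by
    have hcx : C x ∈ N := hxM
    have h2 : C x * X - 1 ∈ N := haN (Ideal.mem_sup_right (Ideal.subset_span rfl))
    have : (1 : S[X]) = C x * X - (C x * X - 1) := by ring
    rw [this]; exact N.sub_mem (N.mul_mem_right _ hcx) h2
  exact hN.ne_top ((Ideal.eq_top_iff_one _).mpr h1)

theorem main {S : Type u} [CommRing S] [Algebra k S]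
    (s : Set S) (hs : Algebra.adjoin k s = ⊤) (hcard : Cardinal.mk s < Cardinal.mk k) :
    (∀ (m : Ideal S) [m.IsMaximal], Algebra.IsAlgebraic k (S ⧸ m)) ∧ IsJacobsonRing S := by
  refine ⟨fun m _ => algebraic_quot s hs hcard m, ?_⟩
  by_cases hfin : s.Finite
  · haveI : Algebra.FiniteType k S := ⟨⟨hfin.toFinset, by simpa using hs⟩⟩
    exact isJacobsonRing_of_finiteType (A := k)
  · exact jacobson_of_infinite s hs hcard hfin

end Groth.Agent.Helper8.JacCard
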