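import Mathlib
import Groth.Prelude
import Groth.Agent.Helper8.QFSec3

set_option autoImplicit false
open TensorProduct
universe u

namespace Groth.Agent.Helper8.QFSec4

open Groth.Agent.Helper8.QFSec3

section Prod
variable (R A B : Type u) [CommRing R] [CommRing A] [CommRing B] [Algebra R A] [Algebra R B]

theorem flat_prod (M N : Type u) [AddCommGroup M] [AddCommGroup N] [Module R M] [Module R N]
    [Module.Flat R M] [Module.Flat R N] : Module.Flat R (M × N) := by
  rw [Module.Flat.iff_lTensor_injective']
  intro I
  have hM := Module.Flat.lTensor_preserves_injective_linearMap (M := M) I.subtype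
    Subtype.val_injective
  have hN := Module.Flat.lTensor_preserves_injective_linearMap (M := N) I.subtype
    Subtype.val_injective
  have hcomp : (TensorProduct.prodLeft R R M N R).toLinearMap ∘ₗ
      (LinearMap.lTensor (M × N) I.subtype) =
      (LinearMap.prodMap (LinearMap.lTensor M I.subtype) (LinearMap.lTensor N I.subtype)) ∘ₗ
        (TensorProduct.prodLeft R R M N I).toLinearMap := by
    apply TensorProduct.ext'
    rintro ⟨m, n⟩ i
    simp
  intro x y hxy
  have h1 := congrArg (TensorProduct.prodLeft R R M N R) hxy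
  have h2 : ∀ t, (TensorProduct.prodLeft R R M N R) (LinearMap.lTensor (M × N) I.subtype t) =
      (LinearMap.prodMap (LinearMap.lTensor M I.subtype) (LinearMap.lTensor N I.subtype))
        ((TensorProduct.prodLeft R R M N I) t) := fun t => LinearMap.congr_fun hcomp t
  rw [h2, h2] at h1
  have h3 : Function.Injective (LinearMap.prodMap (LinearMap.lTensor M I.subtype)
      (LinearMap.lTensor N I.subtype)) := by
    rintro ⟨a, b⟩ ⟨c, d⟩ h
    simp only [LinearMap.prodMap_apply, Prod.mk.injEq] at h
    exact Prod.ext (hM h.1) (hN h.2)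
  exact (TensorProduct.prodLeft R R M N I).injective (h3 h1)

theorem quasiFinite_prod [Algebra.QuasiFinite R A] [Algebra.QuasiFinite R B] :
    Algebra.QuasiFinite R (A × B) := by
  refine ⟨fun P _ => ?_⟩
  exact Module.Finite.equiv (TensorProduct.prodRight R P.ResidueField P.ResidueField A B).symm

theorem fp_prod [Algebra.FinitePresentation R A] [Algebra.FinitePresentation R B] :
    Algebra.FinitePresentation R (A × B) := by
  refine Algebra.FinitePresentation.of_span_eq_top_target
    ({((1 : A), (0 : B)), ((0 : A), (1 : B))} : Set (A × B)) ?_ ?_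
  · rw [Ideal.eq_top_iff_one]
    have h1 : (1 : A × B) = ((1 : A), (0 : B)) + ((0 : A), (1 : B)) := by
      ext <;> simp
    rw [h1]
    exact Ideal.add_mem _ (Ideal.subset_span (by simp)) (Ideal.subset_span (by simp))
  · rintro i (rfl | rfl)
    · letI : Algebra (A × B) A := (RingHom.fst A B).toAlgebra
      haveI : IsScalarTower R (A × B) A := IsScalarTower.of_algebraMap_eq (fun r => rfl)
      haveI : IsLocalization.Away (((1 : A), (0 : B)) : A × B) A := IsLocalization.away_fst
      let e : A ≃ₐ[A × B] Localization.Away (((1 : A), (0 : B)) : A × B) :=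
        IsLocalization.algEquiv (Submonoid.powers (((1 : A), (0 : B)) : A × B)) _ _
      exact Algebra.FinitePresentation.equiv (e.restrictScalars R)
    · letI : Algebra (A × B) B := (RingHom.snd A B).toAlgebra
      haveI : IsScalarTower R (A × B) B := IsScalarTower.of_algebraMap_eq (fun r => rfl)
      haveI : IsLocalization.Away (((0 : A), (1 : B)) : A × B) B := IsLocalization.away_snd
      let e : B ≃ₐ[A × B] Localization.Away (((0 : A), (1 : B)) : A × B) :=
        IsLocalization.algEquiv (Submonoid.powers (((0 : A), (1 : B)) : A × B)) _ _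
      exact Algebra.FinitePresentation.equiv (e.restrictScalars R)

theorem range_comap_prod :
    Set.range (PrimeSpectrum.comap (algebraMap R A)) ∪ Set.range (PrimeSpectrum.comap (algebraMap R B)) ⊆
      Set.range (PrimeSpectrum.comap (algebraMap R (A × B))) := by
  rintro x (⟨q, rfl⟩ | ⟨q, rfl⟩)
  · refine ⟨PrimeSpectrum.comap (RingHom.fst A B) q, ?_⟩
    rw [← PrimeSpectrum.comap_comp_apply]
    rfl
  · refine ⟨PrimeSpectrum.comap (RingHom.snd A B) q, ?_⟩
    rw [← PrimeSpectrum.comap_comp_apply]
    rfl

end Prod

/-- **S9432**: a quasi-finite faithfully flat finitely presented algebra dominating an fppf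
algebra. -/
theorem main (R : Type u) [CommRing R] (S : Type u) [CommRing S] [Algebra R S]
    [Module.FaithfullyFlat R S] [Algebra.FinitePresentation R S] :
    ∃ (S' : Type u) (_ : CommRing S') (_ : Algebra R S'),
      Algebra.QuasiFinite R S' ∧ Algebra.FiniteType R S' ∧ Module.FaithfullyFlat R S' ∧
        Algebra.FinitePresentation R S' ∧ Nonempty (S →ₐ[R] S') := by
  have hgood : ∃ (S' : Type u) (_ : CommRing S') (_ : Algebra R S'), Algebra.QuasiFinite R S' ∧
      Module.Flat R S' ∧ Algebra.FinitePresentation R S' ∧ Nonempty (S →ₐ[R] S') ∧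
      (Set.univ : Set (PrimeSpectrum R)) ⊆ Set.range (PrimeSpectrum.comap (algebraMap R S')) := by
    refine isCompact_univ.induction_on (p := fun T : Set (PrimeSpectrum R) =>
      ∃ (S' : Type u) (_ : CommRing S') (_ : Algebra R S'), Algebra.QuasiFinite R S' ∧
        Module.Flat R S' ∧ Algebra.FinitePresentation R S' ∧ Nonempty (S →ₐ[R] S') ∧
        T ⊆ Set.range (PrimeSpectrum.comap (algebraMap R S'))) ?_ ?_ ?_ ?_
    · -- the zero ring
      haveI : Subsingleton (R ⧸ (⊤ : Ideal R)) := Ideal.Quotient.subsingleton_iff.mpr rfl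
      refine ⟨R ⧸ (⊤ : Ideal R), inferInstance, inferInstance, inferInstance, inferInstance,
        Algebra.FinitePresentation.quotient ⟨{1}, by simp⟩, ⟨?_⟩, Set.empty_subset _⟩
      exact { toFun := fun _ => 0
              map_one' := Subsingleton.elim _ _
              map_mul' := fun _ _ => Subsingleton.elim _ _
              map_zero' := rfl
              map_add' := fun _ _ => Subsingleton.elim _ _
              commutes' := fun _ => Subsingleton.elim _ _ }
    · rintro s t hst ⟨S', i1, i2, h1, h2, h3, h4, h5⟩
      exact ⟨S', i1, i2, h1, h2, h3, h4, hst.trans h5⟩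
    · rintro s t ⟨A, iA1, iA2, hA1, hA2, hA3, ⟨φ⟩, hA5⟩ ⟨B, iB1, iB2, hB1, hB2, hB3, ⟨ψ⟩, hB5⟩
      refine ⟨A × B, inferInstance, inferInstance, quasiFinite_prod R A B, flat_prod R A B,
        fp_prod R A B, ⟨φ.prod ψ⟩, ?_⟩
      exact (Set.union_subset_union hA5 hB5).trans (range_comap_prod R A B)
    · intro x _
      have hnt : Nontrivial (x.asIdeal.Fiber S) := by
        obtain ⟨y, hy⟩ := PrimeSpectrum.comap_surjective_of_faithfullyFlat (A := R) (B := S) x
        rw [← PrimeSpectrum.nonempty_iff_nontrivial]
        exact ⟨PrimeSpectrum.preimageEquivFiber R S x ⟨y, hy⟩⟩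
      obtain ⟨S', i1, i2, h1, h2, h3, h4, h5⟩ := exists_local R x.asIdeal S hnt
      refine ⟨Set.range (PrimeSpectrum.comap (algebraMap R S')), ?_, S', i1, i2, h1, h2, h3, h4,
        subset_rfl⟩
      refine mem_nhdsWithin_of_mem_nhds (IsOpen.mem_nhds ?_ h5)
      exact (PrimeSpectrum.isOpenMap_comap_of_hasGoingDown_of_finitePresentation
        (R := R) (S := S')).isOpen_range
  obtain ⟨S', i1, i2, h1, h2, h3, h4, h5⟩ := hgood
  refine ⟨S', i1, i2, h1, inferInstance, ?_, h3, h4⟩
  exact Module.FaithfullyFlat.of_comap_surjective (fun P => h5 (Set.mem_univ P))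

end Groth.Agent.Helper8.QFSec4
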