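import Mathlib
import Groth.Prelude
import Groth.Agent.Helper8.QFSec4

set_option autoImplicit false
universe u

namespace Groth.Agent.Helper8.JacDesc

/-- a prime maximal among the primes avoiding `g`. -/
theorem exists_prime_max_avoiding {A : Type u} [CommRing A] (p : Ideal A) [hp : p.IsPrime] (g : A)
    (hg : g ∉ p) :
    ∃ P : Ideal A, P.IsPrime ∧ p ≤ P ∧ g ∉ P ∧
      ∀ P' : Ideal A, P'.IsPrime → P ≤ P' → g ∉ P' → P' = P := by
  have hdisj : ∀ I : Ideal A, I.IsPrime → g ∉ I → Disjoint (Submonoid.powers g : Set A) (I : Set A) :=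
    fun I hI hgI => Set.disjoint_left.mpr (by
      rintro _ ⟨n, rfl⟩ h
      exact hgI (hI.mem_of_pow_mem n h))
  have hne : p.map (algebraMap A (Localization.Away g)) ≠ ⊤ :=
    (IsLocalization.isPrime_of_isPrime_disjoint (Submonoid.powers g) _ p hp (hdisj p hp hg)).ne_top
  obtain ⟨𝔫, h𝔫, hle⟩ := Ideal.exists_le_maximal _ hne
  haveI h𝔫p : 𝔫.IsPrime := h𝔫.isPrime
  refine ⟨𝔫.comap (algebraMap A (Localization.Away g)), Ideal.comap_isPrime _ _,
    Ideal.map_le_iff_le_comap.mp hle, ?_, ?_⟩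
  · intro h
    exact h𝔫.ne_top (Ideal.eq_top_of_isUnit_mem _ h (IsLocalization.Away.algebraMap_isUnit g))
  · intro P' hP' hPP' hgP'
    have h1 : 𝔫 ≤ P'.map (algebraMap A (Localization.Away g)) := by
      rw [← IsLocalization.map_comap (Submonoid.powers g) (Localization.Away g) 𝔫]
      exact Ideal.map_mono hPP'
    have h2 : P'.map (algebraMap A (Localization.Away g)) ≠ ⊤ :=
      (IsLocalization.isPrime_of_isPrime_disjoint (Submonoid.powers g) _ P' hP'
        (hdisj P' hP' hgP')).ne_top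
    have h3 : 𝔫 = P'.map (algebraMap A (Localization.Away g)) := h𝔫.eq_of_le h2 h1
    have h4 := IsLocalization.under_map_of_isPrime_disjoint (Submonoid.powers g)
      (Localization.Away g) hP' (hdisj P' hP' hgP')
    rw [Ideal.under_def] at h4
    rw [h3, h4]

/-- the quasi-finite case. -/
theorem main_qf (A B : Type u) [CommRing A] [CommRing B] [Algebra A B]
    [Module.FaithfullyFlat A B] [Algebra.QuasiFinite A B] [IsJacobsonRing B] :
    IsJacobsonRing A := by
  rw [isJacobsonRing_iff_prime_eq]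
  intro p hp
  refine le_antisymm ?_ Ideal.le_jacobson
  intro g hg
  by_contra hgp
  obtain ⟨P, hP, hpP, hgP, hmax⟩ := exists_prime_max_avoiding p g hgp
  -- `P` is not maximal
  have hPnm : ¬ P.IsMaximal := fun hPm =>
    hgP ((Ideal.mem_sInf.mp hg) ⟨hpP, hPm⟩)
  obtain ⟨m, hm, hPm⟩ := Ideal.exists_le_maximal P hP.ne_top
  haveI hmp : m.IsPrime := hm.isPrime
  have hgm : g ∈ m := by
    by_contra h
    exact hPnm (hmax m hmp hPm h ▸ hm)
  -- a prime of `B` over `m` and going down
  obtain ⟨Q, hQ⟩ := PrimeSpectrum.comap_surjective_of_faithfullyFlat (A := A) (B := B) ⟨m, hmp⟩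
  haveI : Q.asIdeal.LiesOver m := ⟨congrArg PrimeSpectrum.asIdeal hQ.symm⟩
  obtain ⟨Q', hQ'Q, hQ'p, hQ'P⟩ := Ideal.exists_ideal_le_liesOver_of_le (p := P) (q := m)
    Q.asIdeal hPm
  have hQ'under : Q'.comap (algebraMap A B) = P := (hQ'P.over).symm
  have hgQ' : algebraMap A B g ∉ Q' := fun h => hgP (hQ'under ▸ h)
  -- a maximal ideal over `Q'` avoiding `g`
  have hjac : Q'.jacobson = Q' := IsJacobsonRing.out inferInstance hQ'p.isRadical
  have hex : ∃ M : Ideal B, Q' ≤ M ∧ M.IsMaximal ∧ algebraMap A B g ∉ M := by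
    by_contra hcon
    push Not at hcon
    apply hgQ'
    rw [← hjac]
    exact Ideal.mem_sInf.mpr (fun M hM => hcon M hM.1 hM.2)
  obtain ⟨M, hQ'M, hM, hgM⟩ := hex
  haveI hMp : M.IsPrime := hM.isPrime
  have hMunder : M.comap (algebraMap A B) = P := by
    refine hmax _ (Ideal.comap_isPrime _ _) ?_ hgM
    rw [← hQ'under]
    exact Ideal.comap_mono hQ'M
  have hQ'M' : Q' = M := Algebra.QuasiFinite.eq_of_le_of_under_eq (R := A) Q' M hQ'M
    (by rw [Ideal.under_def, Ideal.under_def, hQ'under, hMunder])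
  have hQ'max : Q'.IsMaximal := hQ'M' ▸ hM
  have hQQ' : Q' = Q.asIdeal := hQ'max.eq_of_le Q.isPrime.ne_top hQ'Q
  apply hgQ'
  rw [hQQ']
  have : g ∈ Q.asIdeal.comap (algebraMap A B) := by
    have h1 : Q.asIdeal.comap (algebraMap A B) = m := congrArg PrimeSpectrum.asIdeal hQ
    rw [h1]
    exact hgm
  exact this

/-- **S1147**: the Jacobson property descends along fppf ring maps. -/
theorem main (A B : Type u) [CommRing A] [CommRing B] [Algebra A B]
    [Module.FaithfullyFlat A B] [Algebra.FinitePresentation A B] [IsJacobsonRing B] :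
    IsJacobsonRing A := by
  obtain ⟨B', i1, i2, hqf, hft, hff, hfp, ⟨φ⟩⟩ := Groth.Agent.Helper8.QFSec4.main A B
  letI : Algebra B B' := φ.toRingHom.toAlgebra
  haveI : IsScalarTower A B B' := IsScalarTower.of_algebraMap_eq (fun a => (φ.commutes a).symm)
  haveI : Algebra.FiniteType B B' := Algebra.FiniteType.of_restrictScalars_finiteType A B B'
  haveI : IsJacobsonRing B' := isJacobsonRing_of_finiteType (A := B)
  exact main_qf A B'

end Groth.Agent.Helper8.JacDesc
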