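import Mathlib

set_option autoImplicit false

universe u

namespace Groth.Agent.Helper8.KAS

open Polynomial

theorem exists_eps {D : Type*} [CommRing D] [IsDomain D] (p : ℕ) [hp : Fact p.Prime] (ζ : D)
    (hζ : IsPrimitiveRoot ζ p) :
    ∃ ε c : D, (p : D) = (1 - ζ) ^ (p - 1) * ε ∧ ε + 1 = (1 - ζ) * c := by
  have hp1 : 0 < p := hp.out.pos
  have hp2 : 2 ≤ p := hp.out.two_le
  have h1 : (X : D[X]) ^ p - C 1 = ∏ i ∈ Finset.range p, (X - C (ζ ^ i * 1)) :=
    X_pow_sub_C_eq_prod hζ hp1 (one_pow p)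
  have h3 := cyclotomic_prime_mul_X_sub_one D p
  obtain ⟨m, hm⟩ : ∃ m, p = m + 1 := ⟨p - 1, by omega⟩
  have h2 : cyclotomic p D = ∏ i ∈ Finset.range m, (X - C (ζ ^ (i + 1))) := by
    have hX1 : (X - 1 : D[X]) ≠ 0 := by
      have := X_sub_C_ne_zero (1 : D)
      simpa using this
    apply mul_right_cancel₀ hX1
    rw [h3]
    rw [hm, Finset.prod_range_succ'] at h1
    simp only [mul_one, pow_zero, map_one] at h1
    rw [hm]
    exact h1
  have h4 : (p : D) = ∏ i ∈ Finset.range m, (1 - ζ ^ (i + 1)) := by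
    have h5 := congrArg (eval 1) h2
    rw [eval_one_cyclotomic_prime, eval_prod] at h5
    simpa using h5
  obtain ⟨η, hη⟩ : ∃ η : ℕ → D, η = fun j => ∑ t ∈ Finset.range j, ζ ^ t := ⟨_, rfl⟩
  have h5 : ∀ j, 1 - ζ ^ j = (1 - ζ) * η j := by
    intro j
    rw [hη]
    exact (mul_neg_geom_sum ζ j).symm
  have h6 : (p : D) = (1 - ζ) ^ m * ∏ i ∈ Finset.range m, η (i + 1) := by
    rw [h4, Finset.prod_congr rfl (fun i _ => h5 (i + 1)), Finset.prod_mul_distrib,
      Finset.prod_const, Finset.card_range]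
  have hm1 : p - 1 = m := by omega
  refine ⟨∏ i ∈ Finset.range m, η (i + 1), ?_⟩
  -- the congruence
  have hq0 : Ideal.Quotient.mk (Ideal.span {1 - ζ}) (1 - ζ) = 0 :=
    Ideal.Quotient.eq_zero_iff_mem.2 (Ideal.subset_span rfl)
  have hqζ : Ideal.Quotient.mk (Ideal.span {1 - ζ}) ζ = 1 := by
    rw [map_sub, map_one, sub_eq_zero] at hq0
    exact hq0.symm
  have hqη : ∀ j, Ideal.Quotient.mk (Ideal.span {1 - ζ}) (η j) = (j : D ⧸ Ideal.span {1 - ζ}) := by
    intro j
    rw [hη]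
    simp [map_sum, map_pow, hqζ]
  have hqp : Ideal.Quotient.mk (Ideal.span {1 - ζ}) (p : D) = 0 := by
    rw [h6, map_mul, map_pow, hq0, zero_pow (by omega), zero_mul]
  have hw : p ∣ (p - 1).factorial + 1 := by
    rw [← CharP.cast_eq_zero_iff (ZMod p) p]
    push_cast
    rw [ZMod.wilsons_lemma]
    ring
  obtain ⟨w', hw'⟩ := hw
  have hqe : Ideal.Quotient.mk (Ideal.span {1 - ζ}) ((∏ i ∈ Finset.range m, η (i + 1)) + 1) = 0 := by
    rw [map_add, map_prod, map_one]
    have h7 : ∀ i ∈ Finset.range m, Ideal.Quotient.mk (Ideal.span {1 - ζ}) (η (i + 1)) =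
        (((i + 1 : ℕ)) : D ⧸ Ideal.span {1 - ζ}) := fun i _ => hqη (i + 1)
    rw [Finset.prod_congr rfl h7, ← Nat.cast_prod, Finset.prod_range_add_one_eq_factorial]
    have h8 : ((m.factorial : ℕ) : D ⧸ Ideal.span {1 - ζ}) + 1 =
        (((p - 1).factorial + 1 : ℕ) : D ⧸ Ideal.span {1 - ζ}) := by
      rw [hm1]
      push_cast
      rfl
    rw [h8, hw', Nat.cast_mul]
    have h9 : ((p : ℕ) : D ⧸ Ideal.span {1 - ζ}) = 0 := by
      rw [← hqp]
      simp
    rw [h9, zero_mul]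
  rw [Ideal.Quotient.eq_zero_iff_mem, Ideal.mem_span_singleton'] at hqe
  obtain ⟨c, hc⟩ := hqe
  exact ⟨c, by rw [hm1]; exact h6, by rw [← hc]; ring⟩

theorem exists_P {D : Type*} [CommRing D] (p : ℕ) [hp : Fact p.Prime] (lam ε c : D)
    (h1 : (p : D) = lam ^ (p - 1) * ε) (h2 : ε + 1 = lam * c) :
    ∃ (a : ℕ → D), (∀ i, a i ∈ Ideal.span {lam}) ∧
      C (lam ^ p) * (X ^ p - X + (Finset.Ioo 0 p).sum (fun i => C (a i) * X ^ i)) =
        (1 + C lam * X) ^ p - 1 := by
  have hp2 : 2 ≤ p := hp.out.two_le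
  obtain ⟨b, hb⟩ : ∃ b : ℕ → D, b = fun i => ((p.choose i / p : ℕ) : D) * ε * lam ^ (i - 1) :=
    ⟨_, rfl⟩
  refine ⟨fun i => b i + (if i = 1 then 1 else 0), ?_, ?_⟩
  · intro i
    rw [Ideal.mem_span_singleton']
    show ∃ a', a' * lam = b i + (if i = 1 then 1 else 0)
    by_cases hi : i = 1
    · refine ⟨c, ?_⟩
      rw [hi, if_pos rfl, hb]
      have h3 : p.choose 1 / p = 1 := by
        rw [Nat.choose_one_right]
        exact Nat.div_self (by omega)
      simp only [h3, Nat.cast_one, one_mul, Nat.sub_self, pow_zero, mul_one]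
      rw [h2, mul_comm]
    · by_cases hi0 : i = 0
      · refine ⟨0, ?_⟩
        rw [hi0, if_neg (show ¬ (0 = 1) by omega), hb]
        have h3 : 1 / p = 0 := Nat.div_eq_of_lt (by omega)
        simp [h3]
      · refine ⟨((p.choose i / p : ℕ) : D) * ε * lam ^ (i - 2), ?_⟩
        rw [if_neg hi, add_zero, hb]
        have h3 : i - 1 = (i - 2) + 1 := by omega
        simp only [h3, pow_succ]
        ring
  · have hR : (1 + C lam * X : D[X]) ^ p = ((1 + X : D[X]) ^ p).comp (C lam * X) := by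
      simp
    ext n
    rw [coeff_C_mul, coeff_sub, hR, comp_C_mul_X_coeff, coeff_one_add_X_pow, coeff_add, coeff_sub,
      coeff_X_pow, finset_sum_coeff]
    simp only [coeff_C_mul_X_pow]
    rw [Finset.sum_ite_eq, coeff_X, coeff_one]
    rcases Nat.eq_zero_or_pos n with h0 | hpos
    · have hmem : n ∉ Finset.Ioo 0 p := by
        rw [Finset.mem_Ioo]
        omega
      have e1 : ¬ n = p := by omega
      have e2 : ¬ 1 = n := by omega
      simp only [if_neg hmem, if_neg e1, if_neg e2, if_pos h0, sub_zero, add_zero, mul_zero]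
      rw [h0]
      simp
    · rcases lt_trichotomy n p with hlt | heq | hgt
      · have hmem : n ∈ Finset.Ioo 0 p := Finset.mem_Ioo.2 ⟨hpos, hlt⟩
        have hdvd : p ∣ p.choose n := hp.out.dvd_choose_self (by omega) hlt
        have h3 : ((p.choose n / p : ℕ) : D) * (p : D) = ((p.choose n : ℕ) : D) := by
          rw [← Nat.cast_mul, Nat.div_mul_cancel hdvd]
        have h4 : lam ^ p = lam ^ (p - 1) * lam := by
          rw [← pow_succ]
          congr 1
          omega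
        have h5 : lam ^ n = lam ^ (n - 1) * lam := by
          rw [← pow_succ]
          congr 1
          omega
        have e1 : ¬ n = p := by omega
        have e4 : ¬ n = 0 := by omega
        by_cases hn1 : n = 1
        · have e2 : 1 = n := hn1.symm
          simp only [if_pos hmem, if_neg e1, if_pos e2, if_pos hn1, if_neg e4, sub_zero]
          rw [hb, ← h3, h1, h4, h5]
          ring
        · have e2 : ¬ 1 = n := fun h => hn1 h.symm
          simp only [if_pos hmem, if_neg e1, if_neg e2, if_neg hn1, if_neg e4, sub_zero, add_zero]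
          rw [hb, ← h3, h1, h4, h5]
          ring
      · have hmem : n ∉ Finset.Ioo 0 p := by
          rw [Finset.mem_Ioo]
          omega
        have e2 : ¬ 1 = n := by omega
        have e4 : ¬ n = 0 := by omega
        simp only [if_neg hmem, if_pos heq, if_neg e2, if_neg e4, sub_zero, add_zero]
        rw [heq, Nat.choose_self]
        simp
      · have hmem : n ∉ Finset.Ioo 0 p := by
          rw [Finset.mem_Ioo]
          omega
        have e1 : ¬ n = p := by omega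
        have e2 : ¬ 1 = n := by omega
        have e4 : ¬ n = 0 := by omega
        simp only [if_neg hmem, if_neg e1, if_neg e2, if_neg e4, sub_zero, add_zero, mul_zero]
        rw [Nat.choose_eq_zero_of_lt hgt]
        simp

theorem key_eval {D S : Type*} [CommRing D] [CommRing S] (p : ℕ) (lam : D) (P : D[X])
    (hP : C (lam ^ p) * P = (1 + C lam * X) ^ p - 1) (θ : D →+* S) (z : S) :
    θ (lam ^ p) * eval₂ θ z P = (1 + θ lam * z) ^ p - 1 := by
  have h := congrArg (eval₂ θ z) hP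
  rw [eval₂_mul, eval₂_C, eval₂_sub, eval₂_pow, eval₂_add, eval₂_one, eval₂_mul, eval₂_C,
    eval₂_X] at h
  exact h

theorem group_law {D : Type*} [CommRing D] [IsDomain D] (p : ℕ) (lam : D) (hlam : lam ≠ 0)
    (P : D[X]) (hP : C (lam ^ p) * P = (1 + C lam * X) ^ p - 1)
    {S : Type*} [CommRing S] (θ : D →+* S) (z₁ z₂ : S) :
    eval₂ θ (z₁ + z₂ + θ lam * z₁ * z₂) P =
      eval₂ θ z₁ P + eval₂ θ z₂ P + θ (lam ^ p) * eval₂ θ z₁ P * eval₂ θ z₂ P := by
  -- universal case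
  have huniv : eval₂ (MvPolynomial.C : D →+* MvPolynomial (Fin 2) D)
      (MvPolynomial.X 0 + MvPolynomial.X 1 +
        MvPolynomial.C lam * MvPolynomial.X 0 * MvPolynomial.X 1) P =
      eval₂ MvPolynomial.C (MvPolynomial.X 0) P + eval₂ MvPolynomial.C (MvPolynomial.X 1) P +
        MvPolynomial.C (lam ^ p) * eval₂ MvPolynomial.C (MvPolynomial.X 0) P *
          eval₂ MvPolynomial.C (MvPolynomial.X 1) P := by
    have hL : (MvPolynomial.C (lam ^ p) : MvPolynomial (Fin 2) D) ≠ 0 := by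
      rw [Ne, MvPolynomial.C_eq_zero]
      exact pow_ne_zero _ hlam
    apply mul_left_cancel₀ hL
    have k0 := key_eval p lam P hP (MvPolynomial.C : D →+* MvPolynomial (Fin 2) D)
      (MvPolynomial.X 0 + MvPolynomial.X 1 +
        MvPolynomial.C lam * MvPolynomial.X 0 * MvPolynomial.X 1)
    have k1 := key_eval p lam P hP (MvPolynomial.C : D →+* MvPolynomial (Fin 2) D)
      (MvPolynomial.X 0)
    have k2 := key_eval p lam P hP (MvPolynomial.C : D →+* MvPolynomial (Fin 2) D)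
      (MvPolynomial.X 1)
    rw [k0]
    have e : (1 + MvPolynomial.C lam * (MvPolynomial.X 0 + MvPolynomial.X 1 +
        MvPolynomial.C lam * MvPolynomial.X 0 * MvPolynomial.X 1) : MvPolynomial (Fin 2) D) =
        (1 + MvPolynomial.C lam * MvPolynomial.X 0) * (1 + MvPolynomial.C lam * MvPolynomial.X 1) := by
      ring
    rw [e, mul_pow]
    linear_combination (-(1 + MvPolynomial.C (lam ^ p) *
      eval₂ MvPolynomial.C (MvPolynomial.X 1) P)) * k1 -
      ((1 + MvPolynomial.C lam * MvPolynomial.X 0) ^ p) * k2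
  have h := congrArg (MvPolynomial.eval₂Hom θ ![z₁, z₂]) huniv
  simp only [map_add, map_mul, Polynomial.hom_eval₂] at h
  have hcomp : (MvPolynomial.eval₂Hom θ ![z₁, z₂]).comp MvPolynomial.C = θ := by
    ext d
    simp
  rw [hcomp] at h
  simpa using h

theorem main (p : ℕ) (hp : p.Prime) (A : Type u) [CommRing A] (ζ : A)
    (hζ : aeval ζ (cyclotomic p ℤ) = 0) :
    ∃ P : A[X], C ((1 - ζ) ^ p) * P = (1 + C (1 - ζ) * X) ^ p - 1 ∧
      (∃ a : ℕ → A, (∀ i, a i ∈ Ideal.span {1 - ζ}) ∧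
        P = X ^ p - X + (Finset.Ioo 0 p).sum (fun i => C (a i) * X ^ i)) ∧
      ∀ (S : Type u) [CommRing S] [Algebra A S] (z₁ z₂ : S),
        aeval (z₁ + z₂ + algebraMap A S (1 - ζ) * z₁ * z₂) P =
          aeval z₁ P + aeval z₂ P + algebraMap A S ((1 - ζ) ^ p) * aeval z₁ P * aeval z₂ P := by
  haveI : Fact p.Prime := ⟨hp⟩
  have hp2 : 2 ≤ p := hp.two_le
  have hprime : Prime (cyclotomic p ℤ) := (cyclotomic.irreducible hp.pos).prime
  haveI : IsDomain (AdjoinRoot (cyclotomic p ℤ)) := AdjoinRoot.isDomain_of_prime hprime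
  have hp0 : (p : AdjoinRoot (cyclotomic p ℤ)) ≠ 0 := by
    intro h0
    have h1 : AdjoinRoot.mk (cyclotomic p ℤ) (C (p : ℤ)) = 0 := by
      rw [AdjoinRoot.mk_C]
      exact_mod_cast h0
    rw [AdjoinRoot.mk_eq_zero] at h1
    have hC : (C (p : ℤ) : ℤ[X]) ≠ 0 := by
      rw [Ne, C_eq_zero]
      exact_mod_cast hp.ne_zero
    have h2 := (cyclotomic.monic p ℤ).not_dvd_of_natDegree_lt hC (by
      rw [natDegree_C, natDegree_cyclotomic, Nat.totient_prime hp]
      omega)
    exact h2 h1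
  haveI : NeZero (p : AdjoinRoot (cyclotomic p ℤ)) := ⟨hp0⟩
  have hroot : IsPrimitiveRoot (AdjoinRoot.root (cyclotomic p ℤ)) p := by
    have e : cyclotomic p (AdjoinRoot (cyclotomic p ℤ)) =
        (cyclotomic p ℤ).map (Int.castRingHom (AdjoinRoot (cyclotomic p ℤ))) :=
      (map_cyclotomic_int p (AdjoinRoot (cyclotomic p ℤ))).symm
    rw [← isRoot_cyclotomic_iff, IsRoot.def, e, eval_map,
      show (Int.castRingHom (AdjoinRoot (cyclotomic p ℤ))) = AdjoinRoot.of (cyclotomic p ℤ) from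
        RingHom.ext_int _ _]
    exact AdjoinRoot.eval₂_root (cyclotomic p ℤ)
  obtain ⟨ε, c, h1, h2⟩ := exists_eps p (AdjoinRoot.root (cyclotomic p ℤ)) hroot
  have hlam0 : (1 - AdjoinRoot.root (cyclotomic p ℤ)) ≠ 0 := by
    intro h0
    apply hp0
    rw [h1, h0, zero_pow (by omega), zero_mul]
  obtain ⟨a0, ha0, hP0⟩ := exists_P p (1 - AdjoinRoot.root (cyclotomic p ℤ)) ε c h1 h2
  obtain ⟨ℓ, hℓζ⟩ : ∃ ℓ : AdjoinRoot (cyclotomic p ℤ) →+* A,
      ℓ (AdjoinRoot.root (cyclotomic p ℤ)) = ζ :=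
    ⟨AdjoinRoot.lift (algebraMap ℤ A) ζ (by rw [← aeval_def]; exact hζ), AdjoinRoot.lift_root _⟩
  have hℓlam : ℓ (1 - AdjoinRoot.root (cyclotomic p ℤ)) = 1 - ζ := by
    rw [map_sub, map_one, hℓζ]
  obtain ⟨P0, hP0def⟩ : ∃ P0 : (AdjoinRoot (cyclotomic p ℤ))[X],
      P0 = X ^ p - X + (Finset.Ioo 0 p).sum (fun i => C (a0 i) * X ^ i) := ⟨_, rfl⟩
  rw [← hP0def] at hP0
  refine ⟨P0.map ℓ, ?_, ⟨fun i => ℓ (a0 i), ?_, ?_⟩, ?_⟩
  · have h3 := congrArg (Polynomial.map ℓ) hP0
    simp only [Polynomial.map_mul, Polynomial.map_C, Polynomial.map_sub, Polynomial.map_pow,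
      Polynomial.map_add, Polynomial.map_one, Polynomial.map_X, map_pow, hℓlam] at h3
    rw [C_pow]
    exact h3
  · intro i
    obtain ⟨d, hd⟩ := Ideal.mem_span_singleton'.1 (ha0 i)
    rw [Ideal.mem_span_singleton']
    exact ⟨ℓ d, by
      show ℓ d * (1 - ζ) = ℓ (a0 i)
      rw [← hd, map_mul, hℓlam]⟩
  · rw [hP0def]
    simp [Polynomial.map_sum]
  · intro S _ _ z₁ z₂
    have h3 := group_law p (1 - AdjoinRoot.root (cyclotomic p ℤ)) hlam0 P0 hP0
      ((algebraMap A S).comp ℓ) z₁ z₂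
    simp only [aeval_def, eval₂_map]
    simp only [RingHom.comp_apply, map_pow, hℓlam] at h3
    rw [map_pow]
    exact h3

end Groth.Agent.Helper8.KAS
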