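import Mathlib

set_option autoImplicit false

namespace Groth.Agent.Helper8.KatoSplit

lemma eq_zero_of_coprime {M : Type*} [AddCommGroup M] (z : M) (a b : ℕ) (h : Nat.Coprime a b)
    (ha : a • z = 0) (hb : b • z = 0) : z = 0 := by
  obtain ⟨x, y, hxy⟩ := Nat.isCoprime_iff_coprime.2 h
  have : z = (x * a + y * b) • z := by rw [hxy, one_zsmul]
  rw [this, add_smul, mul_smul, mul_smul, natCast_zsmul, natCast_zsmul, ha, hb]
  simp

lemma exists_split {M : Type*} [AddCommGroup M] (z : M) (a b : ℕ) (h : Nat.Coprime a b)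
    (hab : (a * b) • z = 0) : ∃ z₁ z₂ : M, z = z₁ + z₂ ∧ a • z₁ = 0 ∧ b • z₂ = 0 := by
  obtain ⟨x, y, hxy⟩ := Nat.isCoprime_iff_coprime.2 h
  refine ⟨(y * b) • z, (x * a) • z, ?_, ?_, ?_⟩
  · rw [← add_smul, add_comm, hxy, one_zsmul]
  · rw [← natCast_zsmul, ← mul_smul, show (a : ℤ) * (y * b) = y * ((a * b : ℕ) : ℤ) by
      push_cast; ring, mul_smul, natCast_zsmul, hab, smul_zero]
  · rw [← natCast_zsmul, ← mul_smul, show (b : ℤ) * (x * a) = x * ((a * b : ℕ) : ℤ) by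
      push_cast; ring, mul_smul, natCast_zsmul, hab, smul_zero]

lemma exists_factor (P : Set ℕ) : ∀ n : ℕ, 0 < n → ∃ a b : ℕ, n = a * b ∧ 0 < a ∧ 0 < b ∧
    (∀ p : ℕ, p.Prime → p ∣ a → p ∈ P) ∧ (∀ p : ℕ, p.Prime → p ∣ b → p ∉ P) := by
  classical
  intro n
  induction n using Nat.strong_induction_on with
  | _ n ih =>
    intro hn
    rcases Nat.eq_or_lt_of_le (Nat.succ_le_of_lt hn) with h1 | h1
    · refine ⟨1, 1, by omega, one_pos, one_pos, ?_, ?_⟩
      · intro p hp hp1; exact absurd (Nat.dvd_one.1 hp1) hp.ne_one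
      · intro p hp hp1; exact absurd (Nat.dvd_one.1 hp1) hp.ne_one
    · have hmf : n.minFac.Prime := Nat.minFac_prime (by omega)
      obtain ⟨m, hm⟩ := Nat.minFac_dvd n
      have hmpos : 0 < m := by
        rcases Nat.eq_zero_or_pos m with h | h
        · rw [h, mul_zero] at hm; omega
        · exact h
      have hlt : m < n := by
        have h2 := hmf.two_le
        nlinarith
      obtain ⟨a, b, hab, ha, hb, hPa, hPb⟩ := ih m hlt hmpos
      by_cases hℓ : n.minFac ∈ P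
      · refine ⟨n.minFac * a, b, by conv_lhs => rw [hm, hab, ← mul_assoc], Nat.mul_pos hmf.pos ha, hb, ?_, hPb⟩
        intro p hp hpd
        rcases (Nat.Prime.dvd_mul hp).1 hpd with h | h
        · rw [(Nat.prime_dvd_prime_iff_eq hp hmf).1 h]; exact hℓ
        · exact hPa p hp h
      · refine ⟨a, n.minFac * b, by conv_lhs => rw [hm, hab, mul_left_comm], ha, Nat.mul_pos hmf.pos hb, hPa, ?_⟩
        intro p hp hpd
        rcases (Nat.Prime.dvd_mul hp).1 hpd with h | h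
        · rw [(Nat.prime_dvd_prime_iff_eq hp hmf).1 h]; exact hℓ
        · exact hPb p hp h

lemma coprime_of_P (P : Set ℕ) (a b : ℕ) (hPa : ∀ p : ℕ, p.Prime → p ∣ a → p ∈ P)
    (hPb : ∀ p : ℕ, p.Prime → p ∣ b → p ∉ P) : Nat.Coprime a b :=
  Nat.Coprime.symm (Nat.coprime_of_dvd (fun k hk hkb hka => hPb k hk hkb (hPa k hk hka)))


section sect
variable {A T : Type*} [AddCommGroup A] [AddCommGroup T]

/-- Key extension step: if `s` is a maximal partial section and `ℓ • u` lies in its domain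
(with `ker π` being `ℓ`-divisible, `ℓ` prime), then `u` lies in its domain. -/
lemma mem_domain_of_prime_smul (π : A →+ T) (hπ : Function.Surjective π) (TP : AddSubgroup T)
    (ℓ : ℕ) (hℓ : ℓ.Prime) (hD : ∀ x ∈ π.ker, ∃ y ∈ π.ker, ℓ • y = x)
    (s : TP →ₗ.[ℤ] A) (hs : ∀ x : s.domain, π (s x) = ((x : TP) : T))
    (hmax : ∀ s' : TP →ₗ.[ℤ] A, (∀ x : s'.domain, π (s' x) = ((x : TP) : T)) → s ≤ s' → s' ≤ s)
    (u : TP) (hu : ℓ • u ∈ s.domain) : u ∈ s.domain := by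
  by_contra hnot
  -- divisibility of coefficients
  have hdvd : ∀ c : ℤ, c • u ∈ s.domain → (ℓ : ℤ) ∣ c := by
    intro c hc
    by_contra hnd
    have hcop : IsCoprime c (ℓ : ℤ) := by
      have hp : Prime (ℓ : ℤ) := Nat.prime_iff_prime_int.1 hℓ
      exact ((hp.coprime_iff_not_dvd).2 hnd).symm
    obtain ⟨x, y, hxy⟩ := hcop
    apply hnot
    have : u = x • (c • u) + y • ((ℓ : ℤ) • u) := by
      rw [← mul_smul, ← mul_smul, ← add_smul, hxy, one_smul]
    rw [this]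
    refine s.domain.add_mem (s.domain.smul_mem _ hc) (s.domain.smul_mem _ ?_)
    rw [natCast_zsmul]; exact hu
  obtain ⟨a₀, ha₀⟩ := hπ (u : T)
  set v : A := s ⟨ℓ • u, hu⟩ with hv
  have hπv : π v = ℓ • (u : T) := by
    rw [hv, hs]; simp
  have hker : ℓ • a₀ - v ∈ π.ker := by
    rw [AddMonoidHom.mem_ker, map_sub, map_nsmul, ha₀, hπv, sub_self]
  obtain ⟨y, hyker, hy⟩ := hD _ hker
  set a : A := a₀ - y with ha
  have hπa : π a = (u : T) := by
    rw [ha, map_sub, ha₀, (AddMonoidHom.mem_ker.1 hyker), sub_zero]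
  have hℓa : ℓ • a = v := by
    rw [ha, smul_sub, hy]; abel
  -- value on multiples
  have hval : ∀ (c : ℤ) (hc : c • u ∈ s.domain), s ⟨c • u, hc⟩ = c • a := by
    intro c hc
    obtain ⟨c', rfl⟩ := hdvd c hc
    have e1 : (⟨((ℓ : ℤ) * c') • u, hc⟩ : s.domain) = c' • ⟨ℓ • u, hu⟩ := by
      apply Subtype.ext
      show ((ℓ : ℤ) * c') • u = c' • (ℓ • u)
      rw [mul_comm, mul_smul, natCast_zsmul]
    rw [e1, LinearPMap.map_smul, ← hv, ← hℓa, mul_comm, mul_smul, natCast_zsmul]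
  have H : ∀ c : ℤ, c • u = 0 → (RingHom.id ℤ) c • a = 0 := by
    intro c hc
    have hc' : c • u ∈ s.domain := by rw [hc]; exact s.domain.zero_mem
    rw [RingHom.id_apply, ← hval c hc']
    have : (⟨c • u, hc'⟩ : s.domain) = 0 := Subtype.ext hc
    rw [this, LinearPMap.map_zero]
  obtain ⟨g, hgdom, hgapp⟩ : ∃ g : TP →ₗ.[ℤ] A, g.domain = Submodule.span ℤ {u} ∧
      ∀ (c : ℤ) (h : c • u ∈ g.domain), g ⟨c • u, h⟩ = c • a :=
    ⟨LinearPMap.mkSpanSingleton' u a H, rfl, fun c h => by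
      rw [LinearPMap.mkSpanSingleton'_apply, RingHom.id_apply]⟩
  have hgmem : ∀ z : g.domain, ∃ c : ℤ, c • u = (z : TP) := by
    intro z
    exact Submodule.mem_span_singleton.1 (hgdom.le z.2)
  have hcompat : ∀ (x : s.domain) (z : g.domain), (x : TP) = z → s x = g z := by
    intro x z hxz
    obtain ⟨c, hc⟩ := hgmem z
    have hz : z = ⟨c • u, hc ▸ z.2⟩ := Subtype.ext hc.symm
    have hx : x = ⟨c • u, by rw [hc, ← hxz]; exact x.2⟩ := Subtype.ext (hxz.trans hc.symm)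
    rw [hz, hx, hgapp, hval]
  obtain ⟨s', hs'dom, hs'app, hs'l, hs'r⟩ : ∃ s' : TP →ₗ.[ℤ] A,
      s'.domain = s.domain ⊔ g.domain ∧
      (∀ (x : s.domain) (y : g.domain) (z : s'.domain), (x : TP) + y = z → s' z = s x + g y) ∧
      s ≤ s' ∧ g ≤ s' :=
    ⟨s.sup g hcompat, rfl, fun x y z hz => LinearPMap.sup_apply hcompat x y z hz,
      LinearPMap.left_le_sup s g hcompat, LinearPMap.right_le_sup s g hcompat⟩
  have hs'sec : ∀ x : s'.domain, π (s' x) = ((x : TP) : T) := by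
    intro x
    obtain ⟨x₁, hx₁, x₂, hx₂, hx12⟩ := Submodule.mem_sup.1 (hs'dom.le x.2)
    rw [hs'app ⟨x₁, hx₁⟩ ⟨x₂, hx₂⟩ x hx12, map_add, hs]
    obtain ⟨c, hc⟩ := hgmem ⟨x₂, hx₂⟩
    have hz : (⟨x₂, hx₂⟩ : g.domain) = ⟨c • u, hc ▸ hx₂⟩ := Subtype.ext hc.symm
    rw [hz, hgapp, map_zsmul, hπa, ← hx12]
    simp only [AddSubgroup.coe_add]
    congr 1
    have : ((c • u : TP) : T) = c • (u : T) := by simp
    rw [← this, hc]
  have hle := hmax s' hs'sec hs'l
  apply hnot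
  apply hle.1
  have : u ∈ g.domain := hgdom.ge (Submodule.mem_span_singleton_self u)
  exact hs'r.1 this


/-- Existence of a maximal partial section. -/
lemma exists_maximal_section (π : A →+ T) (TP : AddSubgroup T) :
    ∃ s : TP →ₗ.[ℤ] A, (∀ x : s.domain, π (s x) = ((x : TP) : T)) ∧
      ∀ s' : TP →ₗ.[ℤ] A, (∀ x : s'.domain, π (s' x) = ((x : TP) : T)) → s ≤ s' → s' ≤ s := by
  set 𝒮 : Set (TP →ₗ.[ℤ] A) := {s | ∀ x : s.domain, π (s x) = ((x : TP) : T)} with h𝒮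
  have hbot : (⊥ : TP →ₗ.[ℤ] A) ∈ 𝒮 := by
    intro x
    have hx : x = 0 := Subtype.ext ((Submodule.mem_bot ℤ).1 x.2)
    rw [hx, LinearPMap.map_zero, map_zero]; simp
  obtain ⟨m, _, hm⟩ := zorn_le_nonempty₀ 𝒮 (by
    intro c hcs c_chain y hy
    have cne : c.Nonempty := ⟨y, hy⟩
    have hcd : DirectedOn (· ≤ ·) c := c_chain.directedOn
    refine ⟨LinearPMap.sSup c hcd, ?_, fun _ => LinearPMap.le_sSup hcd⟩
    rintro ⟨x, hx⟩
    have hdir : DirectedOn (· ≤ ·) (LinearPMap.domain '' c) :=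
      directedOn_image.2 (hcd.mono LinearPMap.domain_mono.monotone)
    rcases (Submodule.mem_sSup_of_directed (cne.image _) hdir).1 hx with ⟨_, ⟨f, hfc, rfl⟩, hfx⟩
    have hle : f ≤ LinearPMap.sSup c hcd := LinearPMap.le_sSup _ hfc
    have h1 : f ⟨x, hfx⟩ = (LinearPMap.sSup c hcd) ⟨x, hx⟩ := hle.2 rfl
    rw [← h1]
    exact hcs hfc ⟨x, hfx⟩) ⊥ hbot
  exact ⟨m, hm.prop, fun s' hs' hle => hm.le_of_ge hs' hle⟩

theorem main (P : Set ℕ) (hP : ∀ p ∈ P, p.Prime)
    (π : A →+ T) (hπ : Function.Surjective π) (hT : ∀ t : T, ∃ n : ℕ, 0 < n ∧ n • t = 0)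
    (hD : ∀ ℓ ∈ P, ∀ x ∈ π.ker, ∃ y ∈ π.ker, ℓ • y = x)
    (TP T' : AddSubgroup T)
    (hTP : ∀ t, t ∈ TP ↔ ∃ n : ℕ, 0 < n ∧ (∀ p : ℕ, p.Prime → p ∣ n → p ∈ P) ∧ n • t = 0)
    (hT' : ∀ t, t ∈ T' ↔ ∃ n : ℕ, 0 < n ∧ (∀ p : ℕ, p.Prime → p ∣ n → p ∉ P) ∧ n • t = 0) :
    (∀ ℓ ∈ P, ∀ x ∈ T'.comap π, ∃ y ∈ T'.comap π, ℓ • y = x) ∧
    ∃ s : TP →+ A, (∀ t : TP, π (s t) = (t : T)) ∧
      Function.Bijective (fun q : (T'.comap π) × TP => (q.1 : A) + s q.2) := by
  constructor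
  · intro ℓ hℓ x hx
    rw [AddSubgroup.mem_comap, hT'] at hx
    obtain ⟨n, hn, hnP, hnx⟩ := hx
    have hcop : Nat.Coprime n ℓ := by
      rw [Nat.coprime_comm]
      refine (Nat.Prime.coprime_iff_not_dvd (hP ℓ hℓ)).2 (fun hd => hnP ℓ (hP ℓ hℓ) hd hℓ)
    obtain ⟨a, b, hab⟩ := Nat.isCoprime_iff_coprime.2 hcop
    set t := π x with ht
    have ht1 : t = (ℓ : ℤ) • (b • t) := by
      have : t = (a * n + b * ℓ) • t := by rw [hab, one_zsmul]
      rw [add_smul, mul_smul, natCast_zsmul, hnx, smul_zero, zero_add, mul_comm, mul_smul] at this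
      exact this
    have hbt : b • t ∈ T' := by
      apply T'.zsmul_mem
      rw [hT']; exact ⟨n, hn, hnP, hnx⟩
    obtain ⟨y₀, hy₀⟩ := hπ (b • t)
    have hker : x - ℓ • y₀ ∈ π.ker := by
      rw [AddMonoidHom.mem_ker, map_sub, map_nsmul, hy₀, ← ht, ← natCast_zsmul, ← ht1, sub_self]
    obtain ⟨y₁, hy₁ker, hy₁⟩ := hD ℓ hℓ _ hker
    refine ⟨y₀ + y₁, ?_, ?_⟩
    · rw [AddSubgroup.mem_comap, map_add, hy₀, AddMonoidHom.mem_ker.1 hy₁ker, add_zero]
      exact hbt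
    · rw [smul_add, hy₁]; abel
  · obtain ⟨s, hs, hmax⟩ := exists_maximal_section π TP
    -- domain is everything
    have hkey : ∀ N : ℕ, 0 < N → (∀ p : ℕ, p.Prime → p ∣ N → p ∈ P) →
        ∀ u : TP, N • u ∈ s.domain → u ∈ s.domain := by
      intro N
      induction N using Nat.strong_induction_on with
      | _ N ih =>
        intro hN hNP u hu
        rcases Nat.eq_or_lt_of_le (Nat.succ_le_of_lt hN) with h1 | h1
        · rw [← h1] at hu; simpa using hu
        · have hmf : N.minFac.Prime := Nat.minFac_prime (by omega)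
          have hℓ : N.minFac ∈ P := hNP _ hmf (Nat.minFac_dvd N)
          obtain ⟨m, hm⟩ := Nat.minFac_dvd N
          have hmpos : 0 < m := by
            rcases Nat.eq_zero_or_pos m with h | h
            · rw [h, mul_zero] at hm; omega
            · exact h
          have hlt : m < N := by
            have h2 := hmf.two_le
            nlinarith
          have hmP : ∀ p : ℕ, p.Prime → p ∣ m → p ∈ P := fun p hp hpd =>
            hNP p hp (by rw [hm]; exact Dvd.dvd.mul_left hpd _)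
          apply ih m hlt hmpos hmP
          apply mem_domain_of_prime_smul π hπ TP N.minFac hmf (hD _ hℓ) s hs hmax
          have : N.minFac • m • u = N • u := by
            conv_rhs => rw [hm]
            rw [mul_smul]
          rw [this]; exact hu
    have hdom : ∀ u : TP, u ∈ s.domain := by
      intro u
      obtain ⟨N, hN, hNP, hNu⟩ := (hTP u).1 u.2
      apply hkey N hN hNP
      have : N • u = 0 := Subtype.ext (by simpa using hNu)
      rw [this]; exact s.domain.zero_mem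
    let σ : TP →+ A :=
      { toFun := fun t => s ⟨t, hdom t⟩
        map_zero' := by
          have : (⟨0, hdom 0⟩ : s.domain) = 0 := rfl
          rw [this, LinearPMap.map_zero]
        map_add' := by
          intro t t'
          have : (⟨t + t', hdom (t + t')⟩ : s.domain) = ⟨t, hdom t⟩ + ⟨t', hdom t'⟩ := rfl
          rw [this, LinearPMap.map_add] }
    have hσ : ∀ t : TP, π (σ t) = (t : T) := fun t => hs ⟨t, hdom t⟩
    refine ⟨σ, hσ, ?_, ?_⟩
    · rintro ⟨d, t⟩ ⟨d', t'⟩ h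
      simp only at h
      have h1 := congrArg π h
      rw [map_add, map_add, hσ, hσ] at h1
      have hd : π d ∈ T' := d.2
      have hd' : π d' ∈ T' := d'.2
      have hz : ((t : T) - t') ∈ T' := by
        have : (t : T) - t' = π d' - π d := by
          rw [sub_eq_sub_iff_add_eq_add, add_comm, h1, add_comm]
        rw [this]; exact T'.sub_mem hd' hd
      have hz2 : ((t : T) - t') ∈ TP := TP.sub_mem t.2 t'.2
      obtain ⟨n, hn, hnP, hnz⟩ := (hTP _).1 hz2
      obtain ⟨n', hn', hnP', hnz'⟩ := (hT' _).1 hz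
      have h0 := eq_zero_of_coprime _ n n' (coprime_of_P P n n' hnP hnP') hnz hnz'
      have htt : t = t' := Subtype.ext (sub_eq_zero.1 h0)
      subst htt
      have hdd : (d : A) = d' := add_right_cancel h
      rw [Prod.mk.injEq]
      exact ⟨Subtype.ext hdd, rfl⟩
    · intro a
      obtain ⟨n, hn, hna⟩ := hT (π a)
      obtain ⟨n₁, n₂, hn12, hn₁, hn₂, hP₁, hP₂⟩ := exists_factor P n hn
      rw [hn12] at hna
      obtain ⟨z₁, z₂, hz, hz₁, hz₂⟩ := exists_split (π a) n₁ n₂ (coprime_of_P P n₁ n₂ hP₁ hP₂) hna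
      have hz₁P : z₁ ∈ TP := (hTP z₁).2 ⟨n₁, hn₁, hP₁, hz₁⟩
      have hz₂P : z₂ ∈ T' := (hT' z₂).2 ⟨n₂, hn₂, hP₂, hz₂⟩
      refine ⟨(⟨a - σ ⟨z₁, hz₁P⟩, ?_⟩, ⟨z₁, hz₁P⟩), ?_⟩
      · rw [AddSubgroup.mem_comap, map_sub, hσ, hz]
        simpa using hz₂P
      · simp

end sect

end Groth.Agent.Helper8.KatoSplit
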