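import Mathlib

set_option autoImplicit false

namespace Groth.Agent.Helper8.KempfLat

open Filter Topology

universe u

variable {E : Type u} [NormedAddCommGroup E] [InnerProductSpace ℝ E] [FiniteDimensional ℝ E]

lemma mn_smul (K : Finset (Module.Dual ℝ E)) (hK : K.Nonempty) (v : E) {t : ℝ} (ht : 0 ≤ t) :
    K.inf' hK (fun g => g (t • v)) = t * K.inf' hK (fun g => g v) := by
  obtain ⟨g₁, hg₁, e₁⟩ := Finset.exists_mem_eq_inf' hK (fun g : Module.Dual ℝ E => g v)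
  apply le_antisymm
  · calc K.inf' hK (fun g => g (t • v)) ≤ g₁ (t • v) :=
          Finset.inf'_le (fun g : Module.Dual ℝ E => g (t • v)) hg₁
      _ = t * g₁ v := by rw [map_smul, smul_eq_mul]
      _ = t * K.inf' hK (fun g => g v) := by rw [e₁]
  · rw [Finset.le_inf'_iff]
    intro g hg
    rw [map_smul, smul_eq_mul]
    exact mul_le_mul_of_nonneg_left (Finset.inf'_le (fun g : Module.Dual ℝ E => g v) hg) ht

lemma mn_zero (K : Finset (Module.Dual ℝ E)) (hK : K.Nonempty) :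
    K.inf' hK (fun g => g (0 : E)) = 0 := by
  have h := mn_smul K hK (0 : E) (le_refl (0:ℝ))
  rw [zero_smul, zero_mul] at h
  exact h

lemma mn_continuous (K : Finset (Module.Dual ℝ E)) (hK : K.Nonempty) :
    Continuous (fun v : E => K.inf' hK (fun g => g v)) :=
  Continuous.finset_inf'_apply (f := fun (g : Module.Dual ℝ E) (v : E) => g v) hK
    (fun g _ => LinearMap.continuous_of_finiteDimensional g)

lemma exists_max (F G : Finset (Module.Dual ℝ E)) (hF : F.Nonempty) (hG : G.Nonempty)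
    (hpos : ∃ v : E, 0 ≤ F.inf' hF (fun f => f v) ∧ 0 < G.inf' hG (fun g => g v)) :
    ∃ u : E, ‖u‖ = 1 ∧ 0 ≤ F.inf' hF (fun f => f u) ∧ 0 < G.inf' hG (fun g => g u) ∧
      ∀ v : E, 0 ≤ F.inf' hF (fun f => f v) →
        G.inf' hG (fun g => g v) ≤ G.inf' hG (fun g => g u) * ‖v‖ := by
  obtain ⟨v₁, hv₁F, hv₁G⟩ := hpos
  have hv₁ : v₁ ≠ 0 := by
    rintro rfl
    rw [mn_zero] at hv₁G
    exact lt_irrefl _ hv₁G
  have hn₁ : 0 < ‖v₁‖ := norm_pos_iff.mpr hv₁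
  have hScomp : IsCompact (Metric.sphere (0:E) 1 ∩ {v | 0 ≤ F.inf' hF (fun f => f v)}) :=
    (isCompact_sphere 0 1).inter_right (isClosed_le continuous_const (mn_continuous F hF))
  have hmemS : ∀ v : E, v ≠ 0 → 0 ≤ F.inf' hF (fun f => f v) →
      ‖v‖⁻¹ • v ∈ Metric.sphere (0:E) 1 ∩ {v | 0 ≤ F.inf' hF (fun f => f v)} := by
    intro v hv hvF
    have hn : 0 < ‖v‖ := norm_pos_iff.mpr hv
    refine ⟨?_, ?_⟩
    · rw [mem_sphere_zero_iff_norm, norm_smul, norm_inv, norm_norm, inv_mul_cancel₀ hn.ne']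
    · show 0 ≤ F.inf' hF (fun f => f (‖v‖⁻¹ • v))
      rw [mn_smul F hF v (inv_nonneg.mpr hn.le)]
      exact mul_nonneg (inv_nonneg.mpr hn.le) hvF
  obtain ⟨u, huS, humax⟩ := hScomp.exists_isMaxOn ⟨_, hmemS v₁ hv₁ hv₁F⟩
    (mn_continuous G hG).continuousOn
  have hu1 : ‖u‖ = 1 := mem_sphere_zero_iff_norm.mp huS.1
  have hbound : ∀ v : E, v ≠ 0 → 0 ≤ F.inf' hF (fun f => f v) →
      ‖v‖⁻¹ * G.inf' hG (fun g => g v) ≤ G.inf' hG (fun g => g u) := by
    intro v hv hvF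
    have hn : 0 < ‖v‖ := norm_pos_iff.mpr hv
    have h1 : G.inf' hG (fun g => g (‖v‖⁻¹ • v)) ≤ G.inf' hG (fun g => g u) :=
      isMaxOn_iff.mp humax _ (hmemS v hv hvF)
    rwa [mn_smul G hG v (inv_nonneg.mpr hn.le)] at h1
  refine ⟨u, hu1, huS.2, ?_, ?_⟩
  · have h1 := hbound v₁ hv₁ hv₁F
    exact lt_of_lt_of_le (mul_pos (inv_pos.mpr hn₁) hv₁G) h1
  · intro v hvF
    by_cases hv : v = 0
    · subst hv
      rw [mn_zero, norm_zero, mul_zero]
    · have hn : 0 < ‖v‖ := norm_pos_iff.mpr hv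
      have h1 := hbound v hv hvF
      have h2 := mul_le_mul_of_nonneg_right h1 hn.le
      rwa [mul_comm ‖v‖⁻¹, mul_assoc, inv_mul_cancel₀ hn.ne', mul_one] at h2

lemma ray_unique (F G : Finset (Module.Dual ℝ E)) (hF : F.Nonempty) (hG : G.Nonempty)
    (u : E) (hu1 : ‖u‖ = 1) (huF : 0 ≤ F.inf' hF (fun f => f u))
    (hM : 0 < G.inf' hG (fun g => g u))
    (hmax : ∀ v : E, 0 ≤ F.inf' hF (fun f => f v) →
        G.inf' hG (fun g => g v) ≤ G.inf' hG (fun g => g u) * ‖v‖)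
    (w : E) (hw1 : ‖w‖ = 1) (hwF : 0 ≤ F.inf' hF (fun f => f w))
    (hwM : G.inf' hG (fun g => g w) = G.inf' hG (fun g => g u)) : w = u := by
  by_contra hne
  have hnsr : ¬ SameRay ℝ u w := fun h =>
    hne ((sameRay_iff_of_norm_eq (hu1.trans hw1.symm)).mp h).symm
  have hlt : ‖u + w‖ < 2 := by
    have := norm_add_lt_of_not_sameRay hnsr
    rw [hu1, hw1] at this; linarith
  have hcF : 0 ≤ F.inf' hF (fun f => f (u + w)) := by
    rw [Finset.le_inf'_iff]; intro f hf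
    rw [map_add]
    have h1 : F.inf' hF (fun f => f u) ≤ f u := Finset.inf'_le _ hf
    have h2 : F.inf' hF (fun f => f w) ≤ f w := Finset.inf'_le _ hf
    linarith
  have hcG : 2 * G.inf' hG (fun g => g u) ≤ G.inf' hG (fun g => g (u + w)) := by
    rw [Finset.le_inf'_iff]; intro g hg
    rw [map_add]
    have h1 : G.inf' hG (fun g => g u) ≤ g u := Finset.inf'_le _ hg
    have h2 : G.inf' hG (fun g => g w) ≤ g w := Finset.inf'_le _ hg
    rw [hwM] at h2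
    linarith
  have h3 := hmax (u + w) hcF
  have h4 := mul_lt_mul_of_pos_left hlt hM
  linarith

lemma on_ray (F G : Finset (Module.Dual ℝ E)) (hF : F.Nonempty) (hG : G.Nonempty)
    (u : E) (hu1 : ‖u‖ = 1) (huF : 0 ≤ F.inf' hF (fun f => f u))
    (hM : 0 < G.inf' hG (fun g => g u))
    (hmax : ∀ v : E, 0 ≤ F.inf' hF (fun f => f v) →
        G.inf' hG (fun g => g v) ≤ G.inf' hG (fun g => g u) * ‖v‖)
    (v : E) (hv : v ≠ 0) (hvF : 0 ≤ F.inf' hF (fun f => f v))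
    (hvM : G.inf' hG (fun g => g v) / ‖v‖ = G.inf' hG (fun g => g u)) : v = ‖v‖ • u := by
  have hn : 0 < ‖v‖ := norm_pos_iff.mpr hv
  have h := ray_unique F G hF hG u hu1 huF hM hmax (‖v‖⁻¹ • v)
    (by rw [norm_smul, norm_inv, norm_norm, inv_mul_cancel₀ hn.ne'])
    (by rw [mn_smul F hF v (inv_nonneg.mpr hn.le)]; exact mul_nonneg (inv_nonneg.mpr hn.le) hvF)
    (by rw [mn_smul G hG v (inv_nonneg.mpr hn.le), ← hvM, div_eq_inv_mul])
  rw [← h, smul_smul, mul_inv_cancel₀ hn.ne', one_smul]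

lemma first_order_aux (F G : Finset (Module.Dual ℝ E)) (hF : F.Nonempty) (hG : G.Nonempty)
    (u : E) (hu1 : ‖u‖ = 1) (huF : 0 ≤ F.inf' hF (fun f => f u))
    (hM : 0 < G.inf' hG (fun g => g u))
    (hmax : ∀ v : E, 0 ≤ F.inf' hF (fun f => f v) →
        G.inf' hG (fun g => g v) ≤ G.inf' hG (fun g => g u) * ‖v‖)
    (g₀ : Module.Dual ℝ E) (hg₀u : g₀ u = G.inf' hG (fun g => g u))
    (w : E) (hw : inner ℝ u w = (0:ℝ))
    (hwG : ∀ g ∈ G, g u = G.inf' hG (fun g => g u) → g w = g₀ w)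
    (hwF : ∀ f ∈ F, f u = 0 → f w = 0) :
    g₀ w ≤ 0 := by
  by_contra hc
  rw [not_le] at hc
  have hGle : ∀ g ∈ G, G.inf' hG (fun g => g u) ≤ g u := fun g hg => Finset.inf'_le _ hg
  obtain ⟨M, hMdef⟩ : ∃ M : ℝ, M = G.inf' hG (fun g => g u) := ⟨_, rfl⟩
  rw [← hMdef] at hM hmax hg₀u hwG hGle
  obtain ⟨c, hcdef⟩ : ∃ c : ℝ, c = g₀ w := ⟨_, rfl⟩
  rw [← hcdef] at hc hwG
  have e1 : ∀ᶠ t : ℝ in 𝓝[>] 0, 0 < t := eventually_mem_nhdsWithin
  have e2 : ∀ᶠ t : ℝ in 𝓝[>] 0, ∀ f ∈ F, 0 ≤ f u + t * f w := by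
    rw [Filter.eventually_all_finset]
    intro f hf
    by_cases hfu : f u = 0
    · rw [hfu, hwF f hf hfu]
      exact Filter.Eventually.of_forall (fun t => by simp)
    · have hfu' : F.inf' hF (fun f => f u) ≤ f u := Finset.inf'_le _ hf
      have hpos : 0 < f u := lt_of_le_of_ne (huF.trans hfu') (Ne.symm hfu)
      have ht : Filter.Tendsto (fun t : ℝ => f u + t * f w) (𝓝 0) (𝓝 (f u + 0 * f w)) :=
        ((continuous_const.add (continuous_id.mul continuous_const)).tendsto 0)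
      have h0 : (0:ℝ) < f u + 0 * f w := by rw [zero_mul, add_zero]; exact hpos
      have := ht.eventually_const_lt h0
      exact (this.filter_mono nhdsWithin_le_nhds).mono (fun t h => h.le)
  have e3 : ∀ᶠ t : ℝ in 𝓝[>] 0, ∀ g ∈ G, M + t * c ≤ g u + t * g w := by
    rw [Filter.eventually_all_finset]
    intro g hg
    by_cases hgu : g u = M
    · rw [hgu, hwG g hg hgu]
      exact Filter.Eventually.of_forall (fun t => le_refl _)
    · have hpos : M < g u := lt_of_le_of_ne (hGle g hg) (Ne.symm hgu)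
      have ht : Filter.Tendsto (fun t : ℝ => (g u + t * g w) - (M + t * c)) (𝓝 0)
          (𝓝 ((g u + 0 * g w) - (M + 0 * c))) :=
        (((continuous_const.add (continuous_id.mul continuous_const)).sub
          (continuous_const.add (continuous_id.mul continuous_const))).tendsto 0)
      have h0 : (0:ℝ) < (g u + 0 * g w) - (M + 0 * c) := by
        rw [zero_mul, zero_mul, add_zero, add_zero]; linarith
      have := ht.eventually_const_lt h0
      exact (this.filter_mono nhdsWithin_le_nhds).mono (fun t h => by linarith)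
  have e4 : ∀ᶠ t : ℝ in 𝓝[>] 0, t * (M ^ 2 * ‖w‖ ^ 2) < 2 * M * c := by
    have ht : Filter.Tendsto (fun t : ℝ => t * (M ^ 2 * ‖w‖ ^ 2)) (𝓝 0)
        (𝓝 (0 * (M ^ 2 * ‖w‖ ^ 2))) :=
      ((continuous_id.mul continuous_const).tendsto 0)
    have h0 : 0 * (M ^ 2 * ‖w‖ ^ 2) < 2 * M * c := by
      rw [zero_mul]; exact mul_pos (mul_pos two_pos hM) hc
    have := ht.eventually_lt_const h0
    exact this.filter_mono nhdsWithin_le_nhds
  obtain ⟨t, ht0, htF, htG, ht4⟩ := (e1.and (e2.and (e3.and e4))).exists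
  have hvF : 0 ≤ F.inf' hF (fun f => f (u + t • w)) := by
    rw [Finset.le_inf'_iff]; intro f hf
    rw [map_add, map_smul, smul_eq_mul]; exact htF f hf
  have hvG : M + t * c ≤ G.inf' hG (fun g => g (u + t • w)) := by
    rw [Finset.le_inf'_iff]; intro g hg
    rw [map_add, map_smul, smul_eq_mul]; exact htG g hg
  have h3 := hmax (u + t • w) hvF
  have hnorm : ‖u + t • w‖ ^ 2 = 1 + t ^ 2 * ‖w‖ ^ 2 := by
    rw [norm_add_sq_real, inner_smul_right, hw, norm_smul, hu1, Real.norm_eq_abs, mul_pow, sq_abs]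
    ring
  have h5 : M + t * c ≤ M * ‖u + t • w‖ := hvG.trans h3
  have htc : 0 < t * c := mul_pos ht0 hc
  have h6 : (M + t * c) ^ 2 ≤ (M * ‖u + t • w‖) ^ 2 :=
    pow_le_pow_left₀ (by linarith) h5 2
  rw [mul_pow, hnorm] at h6
  have h7 := mul_lt_mul_of_pos_left ht4 ht0
  nlinarith [sq_nonneg (t * c)]

lemma first_order (F G : Finset (Module.Dual ℝ E)) (hF : F.Nonempty) (hG : G.Nonempty)
    (u : E) (hu1 : ‖u‖ = 1) (huF : 0 ≤ F.inf' hF (fun f => f u))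
    (hM : 0 < G.inf' hG (fun g => g u))
    (hmax : ∀ v : E, 0 ≤ F.inf' hF (fun f => f v) →
        G.inf' hG (fun g => g v) ≤ G.inf' hG (fun g => g u) * ‖v‖)
    (g₀ : Module.Dual ℝ E) (hg₀u : g₀ u = G.inf' hG (fun g => g u))
    (a : E) (haG : ∀ g ∈ G, g u = G.inf' hG (fun g => g u) → g a = g₀ a)
    (haF : ∀ f ∈ F, f u = 0 → f a = 0) :
    g₀ a = G.inf' hG (fun g => g u) * inner ℝ u a := by
  have huu : inner ℝ u u = (1:ℝ) := by rw [real_inner_self_eq_norm_sq, hu1, one_pow]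
  obtain ⟨w, hwdef⟩ : ∃ w : E, w = a - (inner ℝ u a : ℝ) • u := ⟨_, rfl⟩
  have hw : inner ℝ u w = (0:ℝ) := by
    rw [hwdef, inner_sub_right, inner_smul_right, huu, mul_one, sub_self]
  have hwG : ∀ g ∈ G, g u = G.inf' hG (fun g => g u) → g w = g₀ w := by
    intro g hg hgu
    rw [hwdef, map_sub, map_sub, map_smul, map_smul, haG g hg hgu, hgu, hg₀u]
  have hwF : ∀ f ∈ F, f u = 0 → f w = 0 := by
    intro f hf hfu
    rw [hwdef, map_sub, map_smul, haF f hf hfu, hfu, smul_zero, sub_zero]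
  have h1 := first_order_aux F G hF hG u hu1 huF hM hmax g₀ hg₀u w hw hwG hwF
  have h2 := first_order_aux F G hF hG u hu1 huF hM hmax g₀ hg₀u (-w)
    (by rw [inner_neg_right, hw, neg_zero])
    (fun g hg hgu => by rw [map_neg, map_neg, hwG g hg hgu])
    (fun f hf hfu => by rw [map_neg, hwF f hf hfu, neg_zero])
  rw [map_neg] at h2
  have h3 : g₀ w = 0 := le_antisymm h1 (by linarith)
  rw [hwdef, map_sub, map_smul, hg₀u, smul_eq_mul, sub_eq_zero] at h3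
  rw [h3, mul_comm]

lemma rational_of_riesz (L : Submodule ℤ E) [DiscreteTopology L] [IsZLattice ℝ L]
    (hint : ∀ x ∈ L, ∀ y ∈ L, ∃ n : ℤ, inner ℝ x y = (n : ℝ))
    {κ : Type*} [Finite κ] (h : κ → Module.Dual ℝ E)
    (hh : ∀ k, ∀ x ∈ L, ∃ n : ℤ, h k x = (n : ℝ))
    (ℓ : Module.Dual ℝ E) (hℓ : ∀ x ∈ L, ∃ n : ℤ, ℓ x = (n : ℝ))
    (u : E) (hu : ∀ k, h k u = 0)
    (hua : ∀ a : E, (∀ k, h k a = 0) → inner ℝ u a = ℓ a) :
    ∃ N : ℕ, 0 < N ∧ (N : ℝ) • u ∈ L := by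
  classical
  have := Fintype.ofFinite κ
  have hfin : Module.Finite ℤ L := ZLattice.module_finite ℝ L
  have hfree : Module.Free ℤ L := ZLattice.module_free ℝ L
  obtain ⟨b0, -⟩ : ∃ b0 : Module.Basis (Module.Free.ChooseBasisIndex ℤ L) ℤ L,
      b0 = Module.Free.chooseBasis ℤ L := ⟨_, rfl⟩
  obtain ⟨B, hBdef⟩ : ∃ B : Module.Basis (Module.Free.ChooseBasisIndex ℤ L) ℝ E,
      B = b0.ofZLatticeBasis ℝ L := ⟨_, rfl⟩
  have hBL : ∀ i, B i ∈ L := fun i => by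
    rw [hBdef, Module.Basis.ofZLatticeBasis_apply]; exact (b0 i).2
  have hspan : Submodule.span ℤ (Set.range B) = L := by
    rw [hBdef]; exact b0.ofZLatticeBasis_span ℝ
  -- Step 1
  have hφ : (innerₗ E u - ℓ) ∈ Submodule.span ℝ (Set.range h) := by
    apply mem_span_of_iInf_ker_le_ker
    intro a ha
    rw [Submodule.mem_iInf] at ha
    rw [LinearMap.mem_ker, LinearMap.sub_apply, innerₗ_apply_apply, sub_eq_zero]
    exact hua a (fun k => LinearMap.mem_ker.mp (ha k))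
  obtain ⟨lam, hlam⟩ := (Submodule.mem_span_range_iff_exists_fun ℝ).1 hφ
  -- Step 2
  obtain ⟨π, hπ⟩ := LinearMap.exists_leftInverse_of_injective (Algebra.linearMap ℚ ℝ)
    (LinearMap.ker_eq_bot.mpr (algebraMap ℚ ℝ).injective)
  obtain ⟨ρ, hρdef⟩ : ∃ ρ : ℝ →ₗ[ℚ] ℝ, ρ = (Algebra.linearMap ℚ ℝ) ∘ₗ π := ⟨_, rfl⟩
  have hρ1 : ρ 1 = 1 := by
    have h1 : π 1 = 1 := by
      have := LinearMap.congr_fun hπ (1:ℚ)
      simpa using this
    rw [hρdef, LinearMap.comp_apply, h1]; simp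
  have hρint : ∀ n : ℤ, ρ (n : ℝ) = n := by
    intro n
    have : (n : ℝ) = n • (1:ℝ) := by simp
    rw [this, map_zsmul, hρ1]
  have hρrat : ∀ x : ℝ, ∃ q : ℚ, ρ x = (q : ℝ) := fun x => ⟨π x, by rw [hρdef]; simp⟩
  -- Step 3
  obtain ⟨c, hcdef⟩ : ∃ c : Module.Free.ChooseBasisIndex ℤ L → ℝ, c = fun i => B.repr u i :=
    ⟨_, rfl⟩
  have hu_sum : u = ∑ i, c i • B i := by rw [hcdef]; exact (B.sum_repr u).symm
  obtain ⟨u', hu'def⟩ : ∃ u' : E, u' = ∑ i, ρ (c i) • B i := ⟨_, rfl⟩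
  have key : ∀ ψ : Module.Dual ℝ E, (∀ i, ∃ n : ℤ, ψ (B i) = (n:ℝ)) → ψ u' = ρ (ψ u) := by
    intro ψ hψ
    choose n hn using hψ
    have e1 : ψ u = ∑ i, n i • c i := by
      conv_lhs => rw [hu_sum]
      rw [map_sum]
      refine Finset.sum_congr rfl fun i _ => ?_
      rw [map_smul, smul_eq_mul, hn, zsmul_eq_mul, mul_comm]
    have e2 : ψ u' = ∑ i, n i • ρ (c i) := by
      rw [hu'def, map_sum]
      refine Finset.sum_congr rfl fun i _ => ?_
      rw [map_smul, smul_eq_mul, hn, zsmul_eq_mul, mul_comm]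
    rw [e1, e2, map_sum]
    refine Finset.sum_congr rfl fun i _ => ?_
    rw [map_zsmul]
  have hu'k : ∀ k, h k u' = 0 := fun k => by
    rw [key (h k) (fun i => hh k _ (hBL i)), hu k, map_zero]
  have hinner : ∀ j, inner ℝ u' (B j) = ρ (inner ℝ u (B j)) := by
    intro j
    have := key (innerₗ E (B j)) (fun i => hint _ (hBL j) _ (hBL i))
    rw [innerₗ_apply_apply, innerₗ_apply_apply] at this
    rw [real_inner_comm, this, real_inner_comm]
  have hχ' : (innerₗ E u' - ℓ - ∑ k, ρ (lam k) • h k : Module.Dual ℝ E) = 0 := by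
    apply B.ext
    intro j
    obtain ⟨nℓ, hnℓ⟩ := hℓ _ (hBL j)
    have hm : ∀ k, ∃ m : ℤ, h k (B j) = (m:ℝ) := fun k => hh k _ (hBL j)
    choose m hm using hm
    have e0 := LinearMap.congr_fun hlam (B j)
    rw [LinearMap.sum_apply, LinearMap.sub_apply, innerₗ_apply_apply] at e0
    simp only [LinearMap.smul_apply, smul_eq_mul, hm, hnℓ] at e0
    have e1 : inner ℝ u (B j) = ∑ k, m k • lam k + (nℓ : ℝ) := by
      rw [eq_sub_iff_add_eq] at e0
      rw [← e0]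
      congr 1
      exact Finset.sum_congr rfl fun k _ => by rw [zsmul_eq_mul, mul_comm]
    rw [LinearMap.zero_apply, LinearMap.sub_apply, LinearMap.sub_apply, LinearMap.sum_apply,
      innerₗ_apply_apply, hinner j, e1, map_add, map_sum, hρint, hnℓ]
    simp only [LinearMap.smul_apply, smul_eq_mul, hm, map_zsmul]
    simp only [zsmul_eq_mul]
    rw [add_sub_cancel_right, sub_eq_zero]
    exact Finset.sum_congr rfl fun k _ => mul_comm _ _
  have hu'a : ∀ a : E, (∀ k, h k a = 0) → inner ℝ u' a = ℓ a := by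
    intro a ha
    have := LinearMap.congr_fun hχ' a
    rw [LinearMap.sub_apply, LinearMap.sub_apply, LinearMap.sum_apply, LinearMap.zero_apply,
      innerₗ_apply_apply] at this
    simp only [LinearMap.smul_apply, smul_eq_mul, ha, mul_zero, Finset.sum_const_zero,
      sub_zero] at this
    linarith
  -- Step 4
  have hd : u - u' = 0 := by
    have hdk : ∀ k, h k (u - u') = 0 := fun k => by rw [map_sub, hu k, hu'k k, sub_zero]
    have h1 := hua _ hdk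
    have h2 := hu'a _ hdk
    have : inner ℝ (u - u') (u - u') = (0:ℝ) := by rw [inner_sub_left, h1, h2, sub_self]
    exact inner_self_eq_zero.mp this
  have huu' : u = u' := sub_eq_zero.mp hd
  have hc_rat : ∀ i, c i = ρ (c i) := by
    intro i
    have h1 : B.repr u' i = ρ (c i) := by
      rw [hu'def, B.repr_sum_self]
    rw [← h1, ← huu', hcdef]
  -- Step 5
  choose q hq using fun i => hρrat (c i)
  refine ⟨∏ i, (q i).den, Finset.prod_pos (fun i _ => (q i).den_pos), ?_⟩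
  suffices hmem : ((∏ i, (q i).den : ℕ) : ℝ) • u ∈ Submodule.span ℤ (Set.range B) by
    rwa [hspan] at hmem
  rw [B.mem_span_iff_repr_mem ℤ]
  intro i
  obtain ⟨r, hr⟩ : (q i).den ∣ ∏ j, (q j).den :=
    Finset.dvd_prod_of_mem (fun j => (q j).den) (Finset.mem_univ i)
  refine ⟨(r : ℤ) * (q i).num, ?_⟩
  rw [map_smul, Finsupp.smul_apply, smul_eq_mul, hr]
  have hci : B.repr u i = (q i : ℝ) := by
    have h1 := hc_rat i
    rw [hq i, hcdef] at h1
    exact h1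
  rw [hci]
  have hqi : ((q i : ℚ) : ℝ) * ((q i).den : ℝ) = ((q i).num : ℝ) := by
    exact_mod_cast (Rat.mul_den_eq_num (q i))
  simp only [eq_intCast]
  push_cast
  rw [← hqi]
  ring

lemma exists_primitive (L : Submodule ℤ E)
    (hint : ∀ x ∈ L, ∀ y ∈ L, ∃ n : ℤ, inner ℝ x y = (n : ℝ))
    (u : E) (hu1 : ‖u‖ = 1) (hex : ∃ s : ℝ, 0 < s ∧ s • u ∈ L) :
    ∃ s₀ : ℝ, 0 < s₀ ∧ s₀ • u ∈ L ∧ ∀ t : ℝ, 0 < t → t • u ∈ L → ∃ n : ℤ, t = n * s₀ := by
  have hsq : ∀ s : ℝ, s • u ∈ L → ∃ k : ℕ, s ^ 2 = (k : ℝ) := by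
    intro s hs
    obtain ⟨n, hn⟩ := hint _ hs _ hs
    rw [real_inner_self_eq_norm_sq, norm_smul, hu1, mul_one, Real.norm_eq_abs, sq_abs] at hn
    have hn0 : 0 ≤ n := by
      have : (0:ℝ) ≤ (n:ℝ) := by rw [← hn]; positivity
      exact_mod_cast this
    refine ⟨n.toNat, ?_⟩
    rw [hn]
    have := Int.toNat_of_nonneg hn0
    exact_mod_cast this.symm
  have hP : ∃ k : ℕ, ∃ s : ℝ, 0 < s ∧ s • u ∈ L ∧ s ^ 2 = (k : ℝ) := by
    obtain ⟨s, hs, hsL⟩ := hex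
    obtain ⟨k, hk⟩ := hsq s hsL
    exact ⟨k, s, hs, hsL, hk⟩
  classical
  obtain ⟨s₀, hs₀, hs₀L, hs₀k⟩ := Nat.find_spec hP
  refine ⟨s₀, hs₀, hs₀L, ?_⟩
  intro t ht htL
  obtain ⟨n, hn⟩ : ∃ n : ℤ, n = ⌊t / s₀⌋ := ⟨_, rfl⟩
  have h1 : (n : ℝ) ≤ t / s₀ := by rw [hn]; exact Int.floor_le _
  have h2 : t / s₀ < n + 1 := by rw [hn]; exact Int.lt_floor_add_one _
  rw [le_div_iff₀ hs₀] at h1
  rw [div_lt_iff₀ hs₀] at h2
  have hδL : (t - n * s₀) • u ∈ L := by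
    have : (t - n * s₀) • u = t • u - n • (s₀ • u) := by
      rw [sub_smul, mul_smul, Int.cast_smul_eq_zsmul ℝ]
    rw [this]
    exact L.sub_mem htL (L.smul_mem n hs₀L)
  refine ⟨n, ?_⟩
  by_contra hne
  have hδ : 0 < t - n * s₀ := lt_of_le_of_ne (by linarith) (fun h => hne (by linarith))
  obtain ⟨k, hk⟩ := hsq _ hδL
  have hmin := Nat.find_min' hP ⟨t - n * s₀, hδ, hδL, hk⟩
  have hlt : (t - n * s₀) ^ 2 < s₀ ^ 2 :=
    pow_lt_pow_left₀ (by linarith) hδ.le (by norm_num)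
  rw [hk, hs₀k] at hlt
  exact absurd (Nat.cast_lt.mp hlt) (not_lt.mpr hmin)

theorem main
    (E : Type u) [NormedAddCommGroup E] [InnerProductSpace ℝ E] [FiniteDimensional ℝ E]
    (L : Submodule ℤ E) [DiscreteTopology L] [IsZLattice ℝ L]
    (hint : ∀ x ∈ L, ∀ y ∈ L, ∃ n : ℤ, inner ℝ x y = (n : ℝ))
    (F G : Finset (Module.Dual ℝ E)) (hF : F.Nonempty) (hG : G.Nonempty)
    (hFi : ∀ f ∈ F, ∀ x ∈ L, ∃ n : ℤ, f x = (n : ℝ))
    (hGi : ∀ g ∈ G, ∀ x ∈ L, ∃ n : ℤ, g x = (n : ℝ))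
    (hpos : ∃ v : E, 0 ≤ F.inf' hF (fun f => f v) ∧ 0 < G.inf' hG (fun g => g v)) :
    ∃ M : ℝ, IsGreatest ((fun v => G.inf' hG (fun g => g v) / ‖v‖) ''
        {v : E | v ≠ 0 ∧ 0 ≤ F.inf' hF (fun f => f v)}) M ∧
      ∃! v₀ : E, v₀ ∈ L ∧ v₀ ≠ 0 ∧ 0 ≤ F.inf' hF (fun f => f v₀) ∧
        G.inf' hG (fun g => g v₀) / ‖v₀‖ = M ∧
        ∀ v ∈ L, v ≠ 0 → 0 ≤ F.inf' hF (fun f => f v) → G.inf' hG (fun g => g v) / ‖v‖ = M →
          ∃ n : ℤ, v = n • v₀ := by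
  classical
  obtain ⟨u, hu1, huF, hM, hmax⟩ := exists_max F G hF hG hpos
  have hu0 : u ≠ 0 := by
    intro h; rw [h, norm_zero] at hu1; exact zero_ne_one hu1
  obtain ⟨g₀, hg₀G, hg₀⟩ := Finset.exists_mem_eq_inf' hG (fun g : Module.Dual ℝ E => g u)
  obtain ⟨M, hMdef⟩ : ∃ M : ℝ, M = G.inf' hG (fun g => g u) := ⟨_, rfl⟩
  let h : (↥G ⊕ ↥F) → Module.Dual ℝ E := Sum.elim
    (fun g => if (g : Module.Dual ℝ E) u = M then (g : Module.Dual ℝ E) - g₀ else 0)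
    (fun f => if (f : Module.Dual ℝ E) u = 0 then (f : Module.Dual ℝ E) else 0)
  have hrat : ∃ N : ℕ, 0 < N ∧ (N : ℝ) • (M • u) ∈ L := by
    apply rational_of_riesz L hint h ?_ g₀ (hGi g₀ hg₀G) (M • u) ?_ ?_
    · rintro (g | f) x hx
      · simp only [h, Sum.elim_inl]
        split_ifs
        · obtain ⟨n₁, hn₁⟩ := hGi g.1 g.2 x hx
          obtain ⟨n₂, hn₂⟩ := hGi g₀ hg₀G x hx
          exact ⟨n₁ - n₂, by rw [LinearMap.sub_apply, hn₁, hn₂, Int.cast_sub]⟩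
        · exact ⟨0, by simp⟩
      · simp only [h, Sum.elim_inr]
        split_ifs
        · exact hFi f.1 f.2 x hx
        · exact ⟨0, by simp⟩
    · rintro (g | f)
      · simp only [h, Sum.elim_inl]
        split_ifs with hgu
        · rw [LinearMap.sub_apply, map_smul, map_smul, hgu, ← hg₀, ← hMdef, sub_self]
        · simp
      · simp only [h, Sum.elim_inr]
        split_ifs with hfu
        · rw [map_smul, hfu, smul_zero]
        · simp
    · intro a ha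
      have haG : ∀ g ∈ G, g u = G.inf' hG (fun g => g u) → g a = g₀ a := by
        intro g hg hgu
        have := ha (Sum.inl ⟨g, hg⟩)
        simp only [h, Sum.elim_inl] at this
        rw [if_pos (by rw [hMdef]; exact hgu), LinearMap.sub_apply, sub_eq_zero] at this
        exact this
      have haF : ∀ f ∈ F, f u = 0 → f a = 0 := by
        intro f hf hfu
        have := ha (Sum.inr ⟨f, hf⟩)
        simp only [h, Sum.elim_inr] at this
        rw [if_pos hfu] at this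
        exact this
      rw [real_inner_smul_left, hMdef]
      exact (first_order F G hF hG u hu1 huF hM hmax g₀ hg₀.symm a haG haF).symm
  have hM' : 0 < M := hMdef ▸ hM
  obtain ⟨N, hN, hNL⟩ := hrat
  have hex : ∃ s : ℝ, 0 < s ∧ s • u ∈ L :=
    ⟨N * M, mul_pos (Nat.cast_pos.mpr hN) hM', by rw [mul_smul]; exact hNL⟩
  obtain ⟨s₀, hs₀, hs₀L, hprim⟩ := exists_primitive L hint u hu1 hex
  have hrayF : ∀ s : ℝ, 0 < s → 0 ≤ F.inf' hF (fun f => f (s • u)) := fun s hs => by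
    rw [mn_smul F hF u hs.le]; exact mul_nonneg hs.le huF
  have hrayG : ∀ s : ℝ, 0 < s → G.inf' hG (fun g => g (s • u)) / ‖s • u‖ = M := fun s hs => by
    rw [mn_smul G hG u hs.le, norm_smul, hu1, mul_one, Real.norm_eq_abs, abs_of_pos hs, ← hMdef,
      mul_div_cancel_left₀ _ hs.ne']
  refine ⟨M, ⟨?_, ?_⟩, ?_⟩
  · refine ⟨u, ⟨hu0, huF⟩, ?_⟩
    show G.inf' hG (fun g => g u) / ‖u‖ = M
    rw [hu1, div_one, hMdef]
  · rintro _ ⟨v, ⟨hv0, hvF⟩, rfl⟩
    show G.inf' hG (fun g => g v) / ‖v‖ ≤ M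
    rw [div_le_iff₀ (norm_pos_iff.mpr hv0), hMdef]
    exact hmax v hvF
  · refine ⟨s₀ • u, ⟨hs₀L, smul_ne_zero hs₀.ne' hu0, hrayF s₀ hs₀, hrayG s₀ hs₀, ?_⟩, ?_⟩
    · intro v hvL hv0 hvF hvM
      have hv := on_ray F G hF hG u hu1 huF hM hmax v hv0 hvF (by rw [hvM, hMdef])
      have hn : 0 < ‖v‖ := norm_pos_iff.mpr hv0
      obtain ⟨n, hn'⟩ := hprim ‖v‖ hn (by rw [← hv]; exact hvL)
      refine ⟨n, ?_⟩
      rw [← Int.cast_smul_eq_zsmul ℝ, smul_smul, ← hn']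
      exact hv
    · rintro y ⟨hyL, hy0, hyF, hyM, hyprim⟩
      have hy := on_ray F G hF hG u hu1 huF hM hmax y hy0 hyF (by rw [hyM, hMdef])
      have hny : 0 < ‖y‖ := norm_pos_iff.mpr hy0
      obtain ⟨m, hm⟩ := hprim ‖y‖ hny (by rw [← hy]; exact hyL)
      obtain ⟨n, hn⟩ := hyprim (s₀ • u) hs₀L (smul_ne_zero hs₀.ne' hu0) (hrayF s₀ hs₀)
        (hrayG s₀ hs₀)
      have hy' : y = ((m:ℝ) * s₀) • u := by rw [← hm]; exact hy
      rw [hy', ← Int.cast_smul_eq_zsmul ℝ, smul_smul] at hn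
      have hs : s₀ = (n:ℝ) * ((m:ℝ) * s₀) := smul_left_injective ℝ hu0 hn
      have hnm : (n:ℝ) * (m:ℝ) = 1 := by
        have h1 : s₀ * ((n:ℝ) * (m:ℝ)) = s₀ * 1 := by rw [mul_one]; linarith
        exact mul_left_cancel₀ hs₀.ne' h1
      have hm_pos : 0 < m := by
        have h1 : (0:ℝ) < (m:ℝ) * s₀ := by rw [← hm]; exact hny
        have h2 : (0:ℝ) < (m:ℝ) := (mul_pos_iff_of_pos_right hs₀).mp h1
        exact_mod_cast h2
      have hnm' : n * m = 1 := by exact_mod_cast hnm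
      have hmu : IsUnit m := IsUnit.of_mul_eq_one n (by rw [mul_comm]; exact hnm')
      have hm1 : m = 1 := by
        rcases Int.isUnit_iff.mp hmu with h | h
        · exact h
        · omega
      rw [hy', hm1, Int.cast_one, one_mul]

end Groth.Agent.Helper8.KempfLat
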