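import Mathlib

/-!
# A Newton/Hensel iteration in an adically complete ring

`exists_root_of_adic`: in an `I`-adically complete ring, for `e ∈ I` and any polynomial `h` there is
`y ∈ I` with `e + y + y ^ 2 * h(y) = 0`.

`exists_root_strong`: the "strong" form of Hensel's lemma: if `g(a) = g'(a) ^ 2 * e` with `e ∈ I`
then `g` has a root of the form `a + g'(a) * y` with `y ∈ I`.
-/

set_option autoImplicit false

namespace Groth.Agent.Helper8.Kras

open Polynomial

theorem exists_root_of_adic {B : Type*} [CommRing B] (I : Ideal B) [IsAdicComplete I B]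
    (e : B) (he : e ∈ I) (h : B[X]) : ∃ y ∈ I, e + y + y ^ 2 * h.eval y = 0 := by
  classical
  set T : B → B := fun y => -e - y ^ 2 * h.eval y with hT
  set seq : ℕ → B := fun k => T^[k] 0 with hseq
  have hseq_succ : ∀ k, seq (k + 1) = T (seq k) := fun k => by
    simp only [hseq, Function.iterate_succ_apply']
  have hTI : ∀ y ∈ I, T y ∈ I := by
    intro y hy
    simp only [hT]
    refine I.sub_mem (I.neg_mem he) (I.mul_mem_right _ (I.pow_mem_of_mem hy 2 (by norm_num)))
  have hseqI : ∀ k, seq k ∈ I := by
    intro k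
    induction k with
    | zero => simp [hseq]
    | succ k ih => rw [hseq_succ]; exact hTI _ ih
  have hcontr : ∀ a ∈ I, ∀ b ∈ I, ∀ k : ℕ, a - b ∈ I ^ k → T a - T b ∈ I ^ (k + 1) := by
    intro a ha b hb k hab
    obtain ⟨s, hs⟩ := Polynomial.sub_dvd_eval_sub a b h
    have h1 : T a - T b = (a - b) * (-(a ^ 2 * s + (a + b) * h.eval b)) := by
      simp only [hT]
      have : h.eval a = h.eval b + (a - b) * s := by rw [← hs]; ring
      rw [this]; ring
    rw [h1, pow_succ]
    refine Ideal.mul_mem_mul hab (I.neg_mem (I.add_mem ?_ ?_))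
    · exact I.mul_mem_right _ (I.pow_mem_of_mem ha 2 (by norm_num))
    · exact I.mul_mem_right _ (I.add_mem ha hb)
  have hdiff : ∀ k, seq (k + 1) - seq k ∈ I ^ (k + 1) := by
    intro k
    induction k with
    | zero =>
      have : seq 1 - seq 0 = -e := by
        simp [hseq, hT]
      rw [this, zero_add, pow_one]
      exact I.neg_mem he
    | succ k ih =>
      have h0 := hcontr _ (hseqI (k + 1)) _ (hseqI k) _ ih
      rw [← hseq_succ, ← hseq_succ] at h0
      exact h0
  have htop : ∀ n : ℕ, (I ^ n • ⊤ : Submodule B B) = I ^ n := by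
    intro n
    simp
  have hcauchy : AdicCompletion.IsAdicCauchy I B seq := by
    rw [AdicCompletion.isAdicCauchy_iff]
    intro n
    rw [SModEq.sub_mem, htop]
    have := hdiff n
    have h2 : seq n - seq (n + 1) = -(seq (n + 1) - seq n) := by ring
    rw [h2]
    exact (I ^ n).neg_mem (Ideal.pow_le_pow_right (Nat.le_succ n) this)
  obtain ⟨L, hL⟩ := IsPrecomplete.prec (inferInstance : IsPrecomplete I B) hcauchy
  have hL' : ∀ n, seq n - L ∈ I ^ n := by
    intro n
    have := hL n
    rwa [SModEq.sub_mem, htop] at this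
  set Gp : B[X] := C e + X + X ^ 2 * h with hGp
  have hGpe : ∀ y, Gp.eval y = e + y + y ^ 2 * h.eval y := by
    intro y; simp [hGp]
  have hGseq : ∀ n, Gp.eval (seq n) = seq n - seq (n + 1) := by
    intro n
    rw [hGpe, hseq_succ]
    simp only [hT]
    ring
  refine ⟨L, ?_, ?_⟩
  · have h1 := hL' 1
    rw [pow_one] at h1
    have : L = seq 1 - (seq 1 - L) := by ring
    rw [this]
    exact I.sub_mem (hseqI 1) h1
  · rw [← hGpe]
    refine IsHausdorff.haus (inferInstance : IsHausdorff I B) _ (fun n => ?_)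
    rw [SModEq.sub_mem, htop, sub_zero]
    obtain ⟨c, hc⟩ := Polynomial.sub_dvd_eval_sub L (seq n) Gp
    have h3 : Gp.eval L = (L - seq n) * c + (seq n - seq (n + 1)) := by
      rw [← hc, hGseq]; ring
    rw [h3]
    refine (I ^ n).add_mem ((I ^ n).mul_mem_right _ ?_) ?_
    · have h2 : L - seq n = -(seq n - L) := by ring
      rw [h2]; exact (I ^ n).neg_mem (hL' n)
    · have h2 : seq n - seq (n + 1) = -(seq (n + 1) - seq n) := by ring
      rw [h2]
      exact (I ^ n).neg_mem (Ideal.pow_le_pow_right (Nat.le_succ n) (hdiff n))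

/-- Strong form of Hensel's lemma. -/
theorem exists_root_strong {B : Type*} [CommRing B] (I : Ideal B) [IsAdicComplete I B]
    (g : B[X]) (a e : B) (he : e ∈ I)
    (hga : g.eval a = (g.derivative.eval a) ^ 2 * e) :
    ∃ y ∈ I, g.eval (a + g.derivative.eval a * y) = 0 := by
  set d := g.derivative.eval a with hd
  set P := taylor a g with hP
  set q := divX (divX P) with hq
  have hP0 : P.coeff 0 = g.eval a := by rw [hP, taylor_coeff_zero]
  have hP1 : P.coeff 1 = d := by rw [hP, taylor_coeff_one]
  have hdec : P = C (g.eval a) + X * (C d + X * q) := by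
    have h1 := divX_mul_X_add P
    have h2 := divX_mul_X_add (divX P)
    have h3 : (divX P).coeff 0 = d := by rw [coeff_divX, zero_add, hP1]
    rw [h3] at h2
    rw [hP0] at h1
    rw [hq]
    calc P = divX P * X + C (g.eval a) := h1.symm
      _ = (divX (divX P) * X + C d) * X + C (g.eval a) := by rw [h2]
      _ = _ := by ring
  set h : B[X] := q.comp (C d * X) with hh
  obtain ⟨y, hyI, hy⟩ := exists_root_of_adic I e he h
  refine ⟨y, hyI, ?_⟩
  have h4 : g.eval (a + d * y) = P.eval (d * y) := by
    rw [hP, taylor_eval, add_comm]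
  have h5 : h.eval y = q.eval (d * y) := by
    simp [hh]
  rw [h4, hdec]
  simp only [eval_add, eval_C, eval_mul, eval_X]
  rw [hga, ← h5]
  have : d ^ 2 * e + d * y * (d + d * y * eval y h) = d ^ 2 * (e + y + y ^ 2 * h.eval y) := by ring
  rw [this, hy, mul_zero]

end Groth.Agent.Helper8.Kras
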