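import Mathlib
import Groth.Agent.Helper8.KrasA

/-!
# Ingredients for descending finite separable extensions of the fraction field of a completion
-/

set_option autoImplicit false

universe u

namespace Groth.Agent.Helper8.Kras

open Polynomial IsLocalRing

/-- Density of `A` in its adic completion, for a principal ideal. -/
theorem exists_approx (A : Type u) [CommRing A] (I : Ideal A) (ϖ : A)
    (hϖ : I = Ideal.span {ϖ}) (r : AdicCompletion I A) (N : ℕ) :
    ∃ a : A, ∃ s : AdicCompletion I A,
      r - algebraMap A (AdicCompletion I A) a = (algebraMap A (AdicCompletion I A) ϖ) ^ N * s := by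
  subst hϖ
  have fg : (Ideal.span {ϖ}).FG := ⟨{ϖ}, by simp⟩
  obtain ⟨a, ha⟩ := Submodule.mkQ_surjective _ (AdicCompletion.eval (Ideal.span {ϖ}) A N r)
  refine ⟨a, ?_⟩
  have hx : r - algebraMap A (AdicCompletion (Ideal.span {ϖ}) A) a ∈
      (AdicCompletion.eval (Ideal.span {ϖ}) A N).ker := by
    rw [LinearMap.mem_ker, map_sub, AdicCompletion.algebraMap_apply, Algebra.algebraMap_self,
      RingHom.id_apply, AdicCompletion.eval_of, ha, sub_self]
  rw [← AdicCompletion.pow_smul_top_eq_ker_eval fg, Ideal.smul_top_eq_map,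
    Submodule.restrictScalars_mem, Ideal.map_pow, Ideal.map_span, Set.image_singleton,
    Ideal.span_singleton_pow, Ideal.mem_span_singleton] at hx
  obtain ⟨s, hs⟩ := hx
  exact ⟨s, hs⟩

/-- Bezout relation with denominators cleared. -/
theorem exists_bezout {R Kh : Type*} [CommRing R] [IsDomain R] [IsDiscreteValuationRing R]
    [Field Kh] [Algebra R Kh] [IsFractionRing R Kh] (π : R) (hπ : Irreducible π)
    (f : R[X]) (hsep : (f.map (algebraMap R Kh)).Separable) :
    ∃ (c : ℕ) (u v : R[X]), u * f + v * derivative f = C (π ^ c) := by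
  obtain ⟨U, V, hUV⟩ := hsep
  obtain ⟨bU, hbU0, hbU⟩ := IsLocalization.integerNormalization_spec (nonZeroDivisors R) U
  obtain ⟨bV, hbV0, hbV⟩ := IsLocalization.integerNormalization_spec (nonZeroDivisors R) V
  set u₀ := IsLocalization.integerNormalization (nonZeroDivisors R) U
  set v₀ := IsLocalization.integerNormalization (nonZeroDivisors R) V
  have hinj : Function.Injective (Polynomial.map (algebraMap R Kh)) :=
    Polynomial.map_injective _ (IsFractionRing.injective R Kh)
  have ha0 : bU * bV ≠ 0 :=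
    mul_ne_zero (nonZeroDivisors.ne_zero hbU0) (nonZeroDivisors.ne_zero hbV0)
  obtain ⟨c, w, hw⟩ := IsDiscreteValuationRing.associated_pow_irreducible ha0 hπ
  have h1 : C bV * u₀ * f + C bU * v₀ * derivative f = C (bU * bV) := by
    apply hinj
    simp only [Polynomial.map_add, Polynomial.map_mul, Polynomial.map_C, ← derivative_map]
    rw [hbU, hbV, Algebra.smul_def, Algebra.smul_def, Polynomial.algebraMap_apply,
      Polynomial.algebraMap_apply, map_mul, C_mul]
    calc _ = C (algebraMap R Kh bU) * C (algebraMap R Kh bV) *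
          (U * map (algebraMap R Kh) f + V * derivative (map (algebraMap R Kh) f)) := by ring
      _ = _ := by rw [hUV, mul_one]
  refine ⟨c, C (w : R) * (C bV * u₀), C (w : R) * (C bU * v₀), ?_⟩
  calc _ = C (w : R) * (C bV * u₀ * f + C bU * v₀ * derivative f) := by ring
    _ = C (π ^ c) := by rw [h1, ← C_mul, ← hw]; ring_nf

/-- Approximating a monic polynomial over `R` by a monic polynomial over `A`. -/
theorem exists_approx_poly {A R : Type*} [CommRing A] [Nontrivial A] [CommRing R] [Algebra A R]
    (π : R)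
    (happrox : ∀ (r : R) (N : ℕ), ∃ a : A, ∃ s : R, r - algebraMap A R a = π ^ N * s)
    (f : R[X]) (hf : f.Monic) (N : ℕ) :
    ∃ g : A[X], g.Monic ∧ g.natDegree = f.natDegree ∧
      ∃ k : R[X], g.map (algebraMap A R) = f + C (π ^ N) * k := by
  classical
  choose a s has using fun r => happrox r N
  obtain ⟨n, hn⟩ : ∃ n, n = f.natDegree := ⟨_, rfl⟩
  obtain ⟨cf, hcf⟩ : ∃ cf : ℕ → R, cf = f.coeff := ⟨_, rfl⟩
  have hfs : f = X ^ n + ∑ i ∈ Finset.range n, C (cf i) * X ^ i := by
    rw [hn, hcf]; exact hf.as_sum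
  set p : A[X] := ∑ i ∈ Finset.range n, C (a (cf i)) * X ^ i with hp
  have hpdeg : p.degree < (n : WithBot ℕ) := by
    rw [degree_lt_iff_coeff_zero]
    intro m hm
    rw [hp, finset_sum_coeff]
    refine Finset.sum_eq_zero (fun i hi => ?_)
    rw [coeff_C_mul_X_pow, if_neg]
    have := Finset.mem_range.mp hi
    omega
  refine ⟨X ^ n + p, monic_X_pow_add hpdeg, ?_, -∑ i ∈ Finset.range n, C (s (cf i)) * X ^ i, ?_⟩
  · rw [← hn, natDegree_add_eq_left_of_degree_lt (by rwa [degree_X_pow]), natDegree_X_pow]
  · have key : (X ^ n + p).map (algebraMap A R) =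
        (X ^ n + ∑ i ∈ Finset.range n, C (cf i) * X ^ i) +
          C (π ^ N) * -∑ i ∈ Finset.range n, C (s (cf i)) * X ^ i := by
      simp only [hp, Polynomial.map_add, Polynomial.map_pow, map_X, Polynomial.map_sum,
        Polynomial.map_mul, map_C]
      rw [mul_neg, Finset.mul_sum, ← sub_eq_add_neg, add_sub_assoc, ← Finset.sum_sub_distrib]
      congr 1
      refine Finset.sum_congr rfl (fun i _ => ?_)
      have : algebraMap A R (a (cf i)) = cf i - π ^ N * s (cf i) := by rw [← has]; ring
      rw [this, C_sub, C_mul]; ring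
    rw [key, ← hfs]

/-- The Hensel step: a root of `f` with `f'(α)` dividing `π ^ c` deforms to a root of any
polynomial congruent to `f` modulo `π ^ (2 c + 1)`. -/
theorem exists_root_near {R B : Type*} [CommRing R] [CommRing B] [Algebra R B]
    (J : Ideal R) (π : R) (hπJ : π ∈ J)
    [IsAdicComplete (J.map (algebraMap R B)) B]
    (f k : R[X]) (c : ℕ) (α b : B) (hα : aeval α f = 0)
    (hb : aeval α (derivative f) * b = algebraMap R B (π ^ c)) :
    ∃ β : B, aeval β (f + C (π ^ (2 * c + 1)) * k) = 0 ∧ β - α ∈ J.map (algebraMap R B) := by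
  set I := J.map (algebraMap R B) with hI
  set πB := algebraMap R B π with hπB
  have hπI : πB ∈ I := Ideal.mem_map_of_mem _ hπJ
  set g₁ := f + C (π ^ (2 * c + 1)) * k with hg₁
  set gB := g₁.map (algebraMap R B) with hgB
  set δ := aeval α (derivative f) with hδ
  set b₀ := aeval α k with hb₀
  set b₁ := aeval α (derivative k) with hb₁
  have hb' : δ * b = πB ^ c := by rw [hb, map_pow]
  have hev : ∀ (z : B) (p : R[X]), (p.map (algebraMap R B)).eval z = aeval z p := by
    intro z p; rw [aeval_def, eval₂_eq_eval_map]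
  have h1 : gB.eval α = πB ^ (2 * c + 1) * b₀ := by
    rw [hgB, hev, hg₁, map_add, hα, zero_add, map_mul, aeval_C, map_pow]
  have h2 : gB.derivative.eval α = δ + πB ^ (2 * c + 1) * b₁ := by
    rw [hgB, derivative_map, hev, hg₁, derivative_add, derivative_C_mul, map_add, map_mul, aeval_C,
      map_pow]
  set d := gB.derivative.eval α with hd
  -- the unit
  have hjac : I ≤ (⊥ : Ideal B).jacobson := IsAdicComplete.le_jacobson_bot I
  have hu : IsUnit (πB * (πB ^ c * b * b₁) + 1) :=
    (Ideal.mem_jacobson_bot.mp (hjac hπI)) _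
  obtain ⟨w, hw⟩ := hu
  have hdδ : d = δ * w := by
    rw [h2, hw]
    have : πB ^ (2 * c + 1) = δ * b * πB ^ (c + 1) := by rw [hb']; ring
    rw [this]; ring
  set b' : B := (↑(w⁻¹) : B) * b with hb'def
  have hdb : d * b' = πB ^ c := by
    rw [hdδ, hb'def, ← hb']
    have : (w : B) * ((↑(w⁻¹) : B) * b) = b := by
      rw [← mul_assoc, Units.mul_inv, one_mul]
    rw [mul_assoc, this]
  have hga : gB.eval α = (gB.derivative.eval α) ^ 2 * (πB * (b' ^ 2 * b₀)) := by
    rw [h1, ← hd]
    have : πB ^ (2 * c + 1) = (d * b') ^ 2 * πB := by rw [hdb]; ring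
    rw [this]; ring
  obtain ⟨y, hyI, hy⟩ := exists_root_strong I gB α (πB * (b' ^ 2 * b₀))
    (I.mul_mem_right _ hπI) hga
  refine ⟨α + d * y, ?_, ?_⟩
  · rw [← hev]; exact hy
  · have : α + d * y - α = d * y := by ring
    rw [this]; exact I.mul_mem_left _ hyI

/-- Nakayama: a generator of a finite algebra may be perturbed modulo the maximal ideal. -/
theorem adjoin_eq_top_of_near {R B : Type*} [CommRing R] [IsLocalRing R] [CommRing B] [Algebra R B]
    [Module.Finite R B] (α β : B) (hαβ : β - α ∈ (maximalIdeal R).map (algebraMap R B))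
    (hα : Algebra.adjoin R {α} = ⊤) : Algebra.adjoin R {β} = ⊤ := by
  set I := (maximalIdeal R).map (algebraMap R B) with hI
  set S := Algebra.adjoin R {β} with hS
  let q : B →ₐ[R] (B ⧸ I) := Ideal.Quotient.mkₐ R I
  have hq : Function.Surjective q := Ideal.Quotient.mkₐ_surjective R I
  have hqαβ : q β = q α := by
    rw [← sub_eq_zero, ← map_sub]
    exact Ideal.Quotient.eq_zero_iff_mem.mpr hαβ
  have hmap : S.map q = ⊤ := by
    rw [hS, AlgHom.map_adjoin_singleton, hqαβ, ← AlgHom.map_adjoin_singleton, hα,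
      Algebra.map_top, AlgHom.range_eq_top]
    exact hq
  rw [eq_top_iff]
  have hle : (⊤ : Submodule R B) ≤ Subalgebra.toSubmodule S := by
    refine Submodule.le_of_le_smul_of_le_jacobson_bot (I := maximalIdeal R) Module.Finite.fg_top
      (IsLocalRing.maximalIdeal_le_jacobson _) ?_
    intro x _
    have hx : q x ∈ S.map q := by rw [hmap]; trivial
    obtain ⟨s, hs, hsx⟩ := hx
    have hsx' : q s = q x := hsx
    have hxs : x - s ∈ I := by
      rw [← Ideal.Quotient.eq_zero_iff_mem]
      have : q (x - s) = 0 := by rw [map_sub, hsx', sub_self]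
      exact this
    have : x = s + (x - s) := by ring
    rw [this]
    refine Submodule.add_mem_sup hs ?_
    rw [Ideal.smul_top_eq_map, Submodule.restrictScalars_mem]
    exact hxs
  intro x _
  exact hle (Submodule.mem_top : x ∈ (⊤ : Submodule R B))

end Groth.Agent.Helper8.Kras
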