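import Mathlib
import Groth.Agent.Helper8.KrasB
import Groth.Agent.Helper5.ComplDVR
import Groth.Agent.S0549

/-!
# Finite separable extensions of the fraction field of the completion of a DVR descend
-/

set_option autoImplicit false

universe u

namespace Groth.Agent.Helper8.Kras

open Polynomial IsLocalRing TensorProduct IntermediateField

set_option maxHeartbeats 1000000 in
theorem main_abstract (A K R Kh M : Type u) [CommRing A] [Nontrivial A] [Field K] [Algebra A K]
    [CommRing R] [IsDomain R] [IsDiscreteValuationRing R] [Algebra A R]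
    [IsAdicComplete (maximalIdeal R) R] (ϖ : A)
    (hπ : maximalIdeal R = Ideal.span {algebraMap A R ϖ})
    (happrox : ∀ (r : R) (N : ℕ), ∃ a : A, ∃ s : R,
      r - algebraMap A R a = (algebraMap A R ϖ) ^ N * s)
    [Field Kh] [Algebra R Kh] [IsFractionRing R Kh] [Algebra A Kh] [Algebra K Kh]
    [IsScalarTower A R Kh] [IsScalarTower A K Kh]
    [Field M] [Algebra Kh M] [FiniteDimensional Kh M] [Algebra.IsSeparable Kh M] :
    ∃ (L : Type u) (_ : Field L) (_ : Algebra K L), FiniteDimensional K L ∧
      Algebra.IsSeparable K L ∧ Nonempty ((Kh ⊗[K] L) ≃ₐ[Kh] M) := by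
  classical
  set π := algebraMap A R ϖ with hπdef
  have hπirr : Irreducible π := (IsDiscreteValuationRing.irreducible_iff_uniformizer π).mpr hπ
  letI algRM : Algebra R M := ((algebraMap Kh M).comp (algebraMap R Kh)).toAlgebra
  haveI : IsScalarTower R Kh M := IsScalarTower.of_algebraMap_eq (fun _ => rfl)
  letI algKM : Algebra K M := ((algebraMap Kh M).comp (algebraMap K Kh)).toAlgebra
  haveI : IsScalarTower K Kh M := IsScalarTower.of_algebraMap_eq (fun _ => rfl)
  -- primitive element
  obtain ⟨α₀, hα₀⟩ := Field.exists_primitive_element Kh M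
  obtain ⟨⟨m, hm⟩, hmint⟩ := IsIntegral.exists_multiple_integral_of_isLocalization
    (nonZeroDivisors R) α₀ (Algebra.IsIntegral.isIntegral (R := Kh) α₀)
  set α : M := m • α₀ with hα
  have hαint : IsIntegral R α := hmint
  have hmne : algebraMap R Kh m ≠ 0 := by
    intro h0
    exact nonZeroDivisors.ne_zero hm
      ((IsFractionRing.injective R Kh) (by rw [h0, map_zero]))
  have hαtop : Kh⟮α⟯ = ⊤ := by
    rw [eq_top_iff, ← hα₀, adjoin_simple_le_iff]
    have h1 : α ∈ Kh⟮α⟯ := mem_adjoin_simple_self Kh α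
    have h2 : α₀ = (algebraMap R Kh m)⁻¹ • α := by
      rw [hα, ← algebraMap_smul Kh m α₀, smul_smul, inv_mul_cancel₀ hmne, one_smul]
    rw [h2]
    exact Kh⟮α⟯.smul_mem h1
  set f := minpoly R α with hf
  have hfmonic : f.Monic := minpoly.monic hαint
  have hfmap : f.map (algebraMap R Kh) = minpoly Kh α :=
    (minpoly.isIntegrallyClosed_eq_field_fractions' Kh hαint).symm
  have hsep : (f.map (algebraMap R Kh)).Separable := by
    rw [hfmap]; exact Algebra.IsSeparable.isSeparable Kh α
  have hdeg : f.natDegree = Module.finrank Kh M := by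
    rw [← hfmonic.natDegree_map (algebraMap R Kh), hfmap,
      ← IntermediateField.adjoin.finrank (Algebra.IsIntegral.isIntegral α), hαtop,
      IntermediateField.finrank_top']
  obtain ⟨c, u, v, huv⟩ := exists_bezout (Kh := Kh) π hπirr f hsep
  obtain ⟨g, hgmonic, hgdeg, k, hgk⟩ := exists_approx_poly π happrox f hfmonic (2 * c + 1)
  -- the finite free algebra `B`
  haveI hBfin : Module.Finite R (AdjoinRoot f) := hfmonic.finite_adjoinRoot
  haveI hBcompl : IsAdicComplete ((maximalIdeal R).map (algebraMap R (AdjoinRoot f)))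
      (AdjoinRoot f) := by
    rw [IsAdicComplete.map_algebraMap_iff]
    have h1 : IsPrecomplete (maximalIdeal R) (AdjoinRoot f) :=
      Groth.Agent.Helper5.ComplDVR.isPrecomplete_of_finite (maximalIdeal R) (AdjoinRoot f)
    have h2 : IsHausdorff (maximalIdeal R) (AdjoinRoot f) := inferInstance
    exact { }
  set αB : AdjoinRoot f := AdjoinRoot.root f with hαBdef
  have hαB : aeval αB f = 0 := by rw [AdjoinRoot.aeval_eq, AdjoinRoot.mk_self]
  have hb : aeval αB (derivative f) * AdjoinRoot.mk f v =
      algebraMap R (AdjoinRoot f) (π ^ c) := by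
    have := congrArg (AdjoinRoot.mk f) huv
    rw [map_add, map_mul, map_mul, AdjoinRoot.mk_self, mul_zero, zero_add, AdjoinRoot.mk_C] at this
    rw [AdjoinRoot.aeval_eq, mul_comm, this, AdjoinRoot.algebraMap_eq]
  have hπmem : π ∈ maximalIdeal R := by rw [hπ]; exact Ideal.mem_span_singleton_self _
  obtain ⟨βB, hβB, hβα⟩ := exists_root_near (maximalIdeal R) π hπmem f k c αB
    (AdjoinRoot.mk f v) hαB hb
  have hβtop : Algebra.adjoin R {βB} = ⊤ :=
    adjoin_eq_top_of_near αB βB hβα AdjoinRoot.adjoinRoot_eq_top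
  -- map to `M`
  have hαroot : eval₂ (Algebra.ofId R M) α f = 0 := by
    have := minpoly.aeval R α
    rwa [aeval_def] at this
  let ι : AdjoinRoot f →ₐ[R] M := AdjoinRoot.liftAlgHom f (Algebra.ofId R M) α hαroot
  have hια : ι αB = α := AdjoinRoot.liftAlgHom_root f _ α hαroot
  set β := ι βB with hβ
  have hβroot : aeval β (g.map (algebraMap A R)) = 0 := by
    rw [hgk, hβ, Polynomial.aeval_algHom_apply, hβB, map_zero]
  have hαmem : α ∈ Kh⟮β⟯ := by
    have h1 : αB ∈ Algebra.adjoin R {βB} := by rw [hβtop]; trivial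
    have h2 : ι αB ∈ (Algebra.adjoin R {βB}).map ι := ⟨αB, h1, rfl⟩
    rw [AlgHom.map_adjoin_singleton, hια] at h2
    have h3 : Algebra.adjoin R {β} ≤ (Kh⟮β⟯.toSubalgebra).restrictScalars R := by
      apply Algebra.adjoin_le
      rintro _ rfl
      exact mem_adjoin_simple_self Kh _
    exact h3 h2
  have hβtopF : Kh⟮β⟯ = ⊤ := by
    rw [eq_top_iff, ← hαtop, adjoin_simple_le_iff]; exact hαmem
  set gKh := g.map (algebraMap A Kh) with hgKh
  have hgKhmonic : gKh.Monic := hgmonic.map _
  have hgKhroot : aeval β gKh = 0 := by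
    rw [hgKh, IsScalarTower.algebraMap_eq A R Kh, ← Polynomial.map_map, aeval_map_algebraMap]
    exact hβroot
  have hβint : IsIntegral Kh β := Algebra.IsIntegral.isIntegral β
  have hminβ : minpoly Kh β = gKh := by
    symm
    refine eq_of_monic_of_dvd_of_natDegree_le (minpoly.monic hβint) hgKhmonic
      (minpoly.dvd Kh β hgKhroot) ?_
    rw [hgmonic.natDegree_map, hgdeg, hdeg, ← IntermediateField.finrank_top' (F := Kh) (E := M),
      ← hβtopF, IntermediateField.adjoin.finrank hβint]
  set gK := g.map (algebraMap A K) with hgK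
  have hgKmap : gK.map (algebraMap K Kh) = gKh := by
    rw [hgK, Polynomial.map_map, ← IsScalarTower.algebraMap_eq]
  have hgKmonic : gK.Monic := hgmonic.map _
  have hgKirr : Irreducible gK := by
    refine hgKmonic.irreducible_of_irreducible_map (algebraMap K Kh) gK ?_
    rw [hgKmap, ← hminβ]; exact minpoly.irreducible hβint
  have hgKsep : gK.Separable := by
    rw [← Polynomial.separable_map (algebraMap K Kh), hgKmap, ← hminβ]
    exact Algebra.IsSeparable.isSeparable Kh β
  haveI : Fact (Irreducible gK) := ⟨hgKirr⟩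
  have hgKdeg : gK.natDegree = Module.finrank Kh M := by
    rw [hgK, hgmonic.natDegree_map, hgdeg, hdeg]
  refine ⟨AdjoinRoot gK, inferInstance, inferInstance, hgKmonic.finite_adjoinRoot, ?_, ?_⟩
  · -- separable
    have hroot_sep : IsSeparable K (AdjoinRoot.root gK) := by
      unfold IsSeparable
      rw [AdjoinRoot.minpoly_root hgKmonic.ne_zero, hgKmonic.leadingCoeff, inv_one, map_one,
        mul_one]
      exact hgKsep
    have htop : K⟮AdjoinRoot.root gK⟯ = ⊤ :=
      IntermediateField.adjoin_eq_top_of_algebra K _ AdjoinRoot.adjoinRoot_eq_top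
    haveI := (IntermediateField.isSeparable_adjoin_simple_iff_isSeparable K
      (AdjoinRoot gK)).mpr hroot_sep
    refine ⟨fun x => ?_⟩
    exact IntermediateField.isSeparable_of_mem_isSeparable K (AdjoinRoot gK)
      (L := K⟮AdjoinRoot.root gK⟯) (by rw [htop]; trivial)
  · -- the isomorphism
    have hβK : eval₂ (Algebra.ofId K M) β gK = 0 := by
      have h1 : aeval β gK = 0 := by
        rw [← aeval_map_algebraMap Kh β gK, hgKmap]; exact hgKhroot
      rwa [aeval_def] at h1
    let ψ : AdjoinRoot gK →ₐ[K] M := AdjoinRoot.liftAlgHom gK (Algebra.ofId K M) β hβK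
    have hψroot : ψ (AdjoinRoot.root gK) = β := AdjoinRoot.liftAlgHom_root gK _ β hβK
    let Ψ : Kh ⊗[K] AdjoinRoot gK →ₐ[Kh] M :=
      Algebra.TensorProduct.lift (Algebra.ofId Kh M) ψ (fun _ _ => Commute.all _ _)
    have hΨsurj : Function.Surjective Ψ := by
      rw [← AlgHom.range_eq_top, eq_top_iff]
      have hadj : Algebra.adjoin Kh {β} = ⊤ := by
        rw [← IntermediateField.adjoin_simple_toSubalgebra_of_isAlgebraic hβint.isAlgebraic,
          hβtopF, IntermediateField.top_toSubalgebra]
      rw [← hadj]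
      apply Algebra.adjoin_le
      rintro _ rfl
      refine ⟨1 ⊗ₜ AdjoinRoot.root gK, ?_⟩
      show Ψ (1 ⊗ₜ AdjoinRoot.root gK) = β
      rw [Algebra.TensorProduct.lift_tmul, map_one, one_mul]
      exact hψroot
    have hfr : Module.finrank Kh (Kh ⊗[K] AdjoinRoot gK) = Module.finrank Kh M := by
      rw [Module.finrank_baseChange, (AdjoinRoot.powerBasis' hgKmonic).finrank,
        AdjoinRoot.powerBasis'_dim, hgKdeg]
    haveI : Module.Finite K (AdjoinRoot gK) := hgKmonic.finite_adjoinRoot
    have hΨinj : Function.Injective Ψ :=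
      (LinearMap.injective_iff_surjective_of_finrank_eq_finrank
        (f := Ψ.toLinearMap) hfr).mpr hΨsurj
    exact ⟨AlgEquiv.ofBijective Ψ ⟨hΨinj, hΨsurj⟩⟩

theorem main (A K : Type u) [CommRing A] [IsDomain A]
    [IsDiscreteValuationRing A] [Field K] [Algebra A K] [IsFractionRing A K]
    (Kh : Type u) [Field Kh] [Algebra (AdicCompletion (IsLocalRing.maximalIdeal A) A) Kh]
    [IsFractionRing (AdicCompletion (IsLocalRing.maximalIdeal A) A) Kh] [Algebra A Kh] [Algebra K Kh]
    [IsScalarTower A (AdicCompletion (IsLocalRing.maximalIdeal A) A) Kh] [IsScalarTower A K Kh]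
    (M : Type u) [Field M] [Algebra Kh M] [FiniteDimensional Kh M] [Algebra.IsSeparable Kh M] :
    ∃ (L : Type u) (_ : Field L) (_ : Algebra K L), FiniteDimensional K L ∧
      Algebra.IsSeparable K L ∧ Nonempty ((Kh ⊗[K] L) ≃ₐ[Kh] M) := by
  obtain ⟨hd', hdvr⟩ := (Groth.Agent.S0549.result A).mp ⟨inferInstance, inferInstance⟩
  haveI := hd'
  haveI := hdvr
  obtain ⟨ϖ, hϖ⟩ := IsDiscreteValuationRing.exists_irreducible A
  have hmA : maximalIdeal A = Ideal.span {ϖ} := hϖ.maximalIdeal_eq
  have hπ : maximalIdeal (AdicCompletion (maximalIdeal A) A) =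
      Ideal.span {algebraMap A (AdicCompletion (maximalIdeal A) A) ϖ} := by
    rw [AdicCompletion.maximalIdeal_eq_map]
    have := congrArg (Ideal.map (algebraMap A (AdicCompletion (maximalIdeal A) A))) hmA
    rw [this, Ideal.map_span, Set.image_singleton]
  exact main_abstract A K (AdicCompletion (maximalIdeal A) A) Kh M ϖ hπ
    (exists_approx A (maximalIdeal A) ϖ hmA)

end Groth.Agent.Helper8.Kras
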