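import Mathlib
import Groth.Agent.Helper2.Mori5

set_option autoImplicit false
set_option linter.style.haveILetI false
set_option linter.unusedSectionVars false

namespace Groth.Agent.Helper8.KrullInter

universe u

section
variable {A : Type u} [CommRing A] [IsDomain A] [IsNoetherianRing A]

theorem local_step
    (h : ∀ C : Subalgebra A (FractionRing A), C ≤ integralClosure A (FractionRing A) →
      Module.Finite A C →
      ∀ (q : Ideal C) [q.IsPrime], q.height = 1 → (q.comap (algebraMap A C)).height = 1)
    (m : Ideal A) [hm : m.IsPrime] (B : Type u) [CommRing B] [Algebra A B]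
    [IsLocalization.AtPrime B m] (x : FractionRing A)
    (hx : ∀ p : Ideal A, p.IsPrime → p.height = 1 →
      ∃ s : A, s ∉ p ∧ IsIntegral A (algebraMap A (FractionRing A) s * x)) :
    ∃ s : A, s ∉ m ∧ IsIntegral A (algebraMap A (FractionRing A) s * x) := by
  classical
  have hMle : m.primeCompl ≤ nonZeroDivisors A := m.primeCompl_le_nonZeroDivisors
  haveI : IsDomain B := IsLocalization.isDomain_of_le_nonZeroDivisors B hMle
  haveI : IsNoetherianRing B := IsLocalization.isNoetherianRing m.primeCompl B inferInstance
  haveI : IsLocalRing B := IsLocalization.AtPrime.isLocalRing B m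
  have hunit : ∀ y : m.primeCompl, IsUnit (algebraMap A (FractionRing A) y) := by
    intro y
    exact IsLocalization.map_units (FractionRing A) (⟨y, hMle y.2⟩ : nonZeroDivisors A)
  letI : Algebra B (FractionRing A) :=
    (IsLocalization.lift (M := m.primeCompl) (g := algebraMap A (FractionRing A)) hunit).toAlgebra
  haveI : IsScalarTower A B (FractionRing A) :=
    IsScalarTower.of_algebraMap_eq (fun x => (IsLocalization.lift_eq hunit x).symm)
  haveI : IsFractionRing B (FractionRing A) :=
    IsFractionRing.isFractionRing_of_isDomain_of_isLocalization m.primeCompl B (FractionRing A)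
  suffices hxB : IsIntegral B x by
    obtain ⟨s, hs⟩ := IsIntegral.exists_multiple_integral_of_isLocalization m.primeCompl x hxB
    refine ⟨s, s.2, ?_⟩
    rw [← Algebra.smul_def]
    exact hs
  obtain ⟨CB, hfin, -, hiff, -⟩ := Groth.Agent.Helper2.Mori.s12124 (A := B)
  let e : FractionRing B ≃ₐ[B] FractionRing A := FractionRing.algEquiv B (FractionRing A)
  suffices hx' : e.symm x ∈ integralClosure B (FractionRing B) by
    have h1 : IsIntegral B (e.symm x) := hx'
    have h2 := h1.map e
    rwa [AlgEquiv.apply_symm_apply] at h2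
  rw [hiff]
  intro pB hpB hpB1
  have hcompat : ∀ a : A, e.symm (algebraMap A (FractionRing A) a) =
      algebraMap B (FractionRing B) (algebraMap A B a) := by
    intro a
    rw [IsScalarTower.algebraMap_apply A B (FractionRing A), AlgEquiv.commutes]
  haveI := hfin
  have hgint : ∀ g : CB, IsIntegral B (e (g : FractionRing B)) := by
    intro g
    exact ((IsIntegral.of_finite B g).map CB.val).map e
  have hσ : ∀ g : CB, ∃ s : A, s ∉ m ∧
      IsIntegral A (algebraMap A (FractionRing A) s * e (g : FractionRing B)) := by
    intro g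
    obtain ⟨s, hs⟩ := IsIntegral.exists_multiple_integral_of_isLocalization m.primeCompl _ (hgint g)
    refine ⟨s, s.2, ?_⟩
    rw [← Algebra.smul_def]
    exact hs
  choose σ hσm hσint using hσ
  obtain ⟨G, hG⟩ := hfin.fg_top
  let gen : CB → FractionRing A := fun g =>
    algebraMap A (FractionRing A) (σ g) * e (g : FractionRing B)
  let C : Subalgebra A (FractionRing A) := Algebra.adjoin A (gen '' (G : Set CB))
  have hCle : C ≤ integralClosure A (FractionRing A) := Algebra.adjoin_le (by
    rintro _ ⟨g, -, rfl⟩
    exact hσint g)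
  have hCfin : Module.Finite A C :=
    (Module.Finite.iff_fg (N := Subalgebra.toSubmodule C)).2
      (fg_adjoin_of_finite ((G.finite_toSet).image gen) (by
        rintro _ ⟨g, -, rfl⟩
        exact hσint g))
  have hmem : ∀ c : FractionRing A, c ∈ C → e.symm c ∈ CB := by
    intro c hc
    induction hc using Algebra.adjoin_induction with
    | mem c hc =>
      obtain ⟨g, -, rfl⟩ := hc
      change e.symm (algebraMap A (FractionRing A) (σ g) * e (g : FractionRing B)) ∈ CB
      rw [map_mul, hcompat, AlgEquiv.symm_apply_apply]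
      exact CB.mul_mem (CB.algebraMap_mem _) g.2
    | algebraMap r =>
      rw [hcompat]
      exact CB.algebraMap_mem _
    | add c d _ _ hc hd =>
      rw [map_add]
      exact CB.add_mem hc hd
    | mul c d _ _ hc hd =>
      rw [map_mul]
      exact CB.mul_mem hc hd
  let γ : C →+* CB := (e.symm.toRingEquiv.toRingHom.comp C.val.toRingHom).codRestrict CB
    (fun c => hmem c.1 c.2)
  have hγ : ∀ c : C, ((γ c : CB) : FractionRing B) = e.symm (c : FractionRing A) := fun c => rfl
  have hγA : ∀ a : A, γ (algebraMap A C a) = algebraMap B CB (algebraMap A B a) := by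
    intro a
    apply Subtype.ext
    exact hcompat a
  have hγinj : Function.Injective γ := by
    intro c d hcd
    have h1 := congrArg (fun z : CB => (z : FractionRing B)) hcd
    exact Subtype.ext (e.symm.injective h1)
  letI : Algebra C CB := γ.toAlgebra
  have hsurj : ∀ z : CB, ∃ (c : C) (s : A), s ∉ m ∧ z * γ (algebraMap A C s) = γ c := by
    intro z
    have hz : z ∈ Submodule.span B (G : Set CB) := by rw [hG]; trivial
    induction hz using Submodule.span_induction with
    | mem g hg =>
      refine ⟨⟨gen g, Algebra.subset_adjoin ⟨g, hg, rfl⟩⟩, σ g, hσm g, ?_⟩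
      apply Subtype.ext
      change (g : FractionRing B) * e.symm (algebraMap A (FractionRing A) (σ g)) =
        e.symm (algebraMap A (FractionRing A) (σ g) * e (g : FractionRing B))
      rw [map_mul, AlgEquiv.symm_apply_apply, mul_comm]
    | zero =>
      refine ⟨0, 1, fun h1 => hm.ne_top ((Ideal.eq_top_iff_one _).2 h1), ?_⟩
      rw [zero_mul, map_zero]
    | add z₁ z₂ _ _ h₁ h₂ =>
      obtain ⟨c₁, s₁, hs₁, e₁⟩ := h₁
      obtain ⟨c₂, s₂, hs₂, e₂⟩ := h₂
      refine ⟨algebraMap A C s₂ * c₁ + algebraMap A C s₁ * c₂, s₁ * s₂, ?_, ?_⟩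
      · intro hmem'
        rcases hm.mem_or_mem hmem' with h' | h'
        · exact hs₁ h'
        · exact hs₂ h'
      · rw [map_mul (algebraMap A C), map_mul γ, map_add γ, map_mul γ, map_mul γ, ← e₁, ← e₂]
        ring
    | smul b z _ hz =>
      obtain ⟨c, s, hs, e₁⟩ := hz
      obtain ⟨⟨a, t⟩, hat⟩ := IsLocalization.surj m.primeCompl b
      refine ⟨algebraMap A C a * c, (t : A) * s, ?_, ?_⟩
      · intro hmem'
        rcases hm.mem_or_mem hmem' with h' | h'
        · exact t.2 h'
        · exact hs h'
      · rw [map_mul (algebraMap A C), map_mul γ, map_mul γ, hγA a, hγA (t : A), ← e₁, ← hat, map_mul,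
          Algebra.smul_def]
        ring
  haveI : IsLocalization (Algebra.algebraMapSubmonoid C m.primeCompl) CB := by
    rw [isLocalization_iff]
    refine ⟨?_, ?_, ?_⟩
    · rintro ⟨y, s, hs, rfl⟩
      change IsUnit (γ (algebraMap A C s))
      rw [hγA]
      exact (IsLocalization.map_units B (⟨s, hs⟩ : m.primeCompl)).map (algebraMap B CB)
    · intro z
      obtain ⟨c, s, hs, hzs⟩ := hsurj z
      exact ⟨(c, ⟨algebraMap A C s, s, hs, rfl⟩), hzs⟩
    · intro c d hcd
      exact ⟨1, by rw [hγinj hcd]⟩
  have hht : (pB.under C).height = 1 := by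
    rw [IsLocalization.height_under (Algebra.algebraMapSubmonoid C m.primeCompl) pB]
    exact hpB1
  haveI : (pB.under C).IsPrime := Ideal.comap_isPrime _ _
  have hht2 := h C hCle hCfin (pB.under C) hht
  obtain ⟨s, hs𝔭, hsint⟩ := hx ((pB.under C).comap (algebraMap A C)) (Ideal.comap_isPrime _ _) hht2
  refine ⟨γ (algebraMap A C s), ?_, ?_⟩
  · intro hmem'
    exact hs𝔭 hmem'
  · have h0 : ((γ (algebraMap A C s) : CB) : FractionRing B) * e.symm x =
        e.symm (algebraMap A (FractionRing A) s * x) := by
      rw [map_mul]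
      rfl
    rw [h0]
    have h1 : IsIntegral B (algebraMap A (FractionRing A) s * x) := hsint.tower_top
    have h2 : IsIntegral B (e.symm (algebraMap A (FractionRing A) s * x)) := h1.map e.symm
    exact h2.tower_top

theorem main
    (h : ∀ C : Subalgebra A (FractionRing A), C ≤ integralClosure A (FractionRing A) →
      Module.Finite A C →
      ∀ (q : Ideal C) [q.IsPrime], q.height = 1 → (q.comap (algebraMap A C)).height = 1) :
    (integralClosure A (FractionRing A) : Set (FractionRing A)) =
      ⋂ (p : PrimeSpectrum A) (_ : p.asIdeal.height = 1),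
        {x : FractionRing A | ∃ s : A, s ∉ p.asIdeal ∧
          algebraMap A (FractionRing A) s * x ∈ integralClosure A (FractionRing A)} := by
  ext x
  simp only [Set.mem_iInter, Set.mem_setOf_eq, SetLike.mem_coe]
  constructor
  · intro hx p _
    refine ⟨1, fun h1 => p.2.ne_top ((Ideal.eq_top_iff_one _).2 h1), ?_⟩
    rw [map_one, one_mul]
    exact hx
  · intro hx
    by_contra hxn
    let J : Ideal A := Submodule.comap (LinearMap.toSpanSingleton A (FractionRing A) x)
      (Subalgebra.toSubmodule (integralClosure A (FractionRing A)))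
    have hJ : ∀ s : A, s ∈ J ↔ IsIntegral A (algebraMap A (FractionRing A) s * x) := by
      intro s
      change s • x ∈ integralClosure A (FractionRing A) ↔ _
      rw [Algebra.smul_def]
      rfl
    have hJne : J ≠ ⊤ := by
      intro htop
      have h1 : (1 : A) ∈ J := by rw [htop]; trivial
      rw [hJ, map_one, one_mul] at h1
      exact hxn h1
    obtain ⟨m, hmmax, hJm⟩ := Ideal.exists_le_maximal J hJne
    haveI := hmmax.isPrime
    obtain ⟨s, hsm, hsint⟩ := local_step h m (Localization.AtPrime m) x (fun p hp hp1 => by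
      obtain ⟨s, hs, hsx⟩ := hx ⟨p, hp⟩ hp1
      exact ⟨s, hs, hsx⟩)
    exact hsm (hJm ((hJ s).2 hsint))

end

end Groth.Agent.Helper8.KrullInter
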