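import Mathlib
import Groth.Prelude.Def_NonAbH2
import Groth.Prelude.Def_Red2

/-!
# Exact sequences of group schemes from kernels

* `isPullback_of_isKernel`: in a cartesian monoidal category, if `u : G' ⟶ G` is a kernel of the
  homomorphism `v : G ⟶ G''` (the square `u, toUnit, v, η` is cartesian), then `(g, g') ↦ (g, g u(g'))`
  identifies `G ⊗ G'` with the fibre product of `v` with itself.
* `isKernel_pullback`: kernels are stable under base change `Over.pullback t`.
-/

set_option autoImplicit false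

namespace Groth.Agent.Helper8.Kummer

open CategoryTheory MonoidalCategory CartesianMonoidalCategory MonObj GrpObj AlgebraicGeometry
  CategoryTheory.Limits

universe u v

section General

variable {C : Type u} [Category.{v} C] [CartesianMonoidalCategory C] {G G' G'' : C}
  [GrpObj G] [GrpObj G'] [GrpObj G'']

omit [GrpObj G'] in
theorem whisker_mul (u : G' ⟶ G) : (G ◁ u) ≫ μ[G] = fst G G' * (snd G G' ≫ u) := by
  rw [Hom.mul_def]
  congr 1
  apply CartesianMonoidalCategory.hom_ext <;> simp

omit [GrpObj G'] in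
theorem isPullback_of_isKernel (u : G' ⟶ G) (v : G ⟶ G'') [IsMonHom v]
    (hk : IsPullback u (toUnit G') v η[G'']) :
    IsPullback (fst G G') ((G ◁ u) ≫ μ[G]) v v := by
  have hu1 : u ≫ v = 1 := by rw [Hom.one_def]; exact hk.w
  have hmul : ∀ {T : C} (a b : T ⟶ G), (a * b) ≫ v = (a ≫ v) * (b ≫ v) :=
    fun a b => map_mul (IsMonHom.monoidHom v _) a b
  have hinv : ∀ {T : C} (a : T ⟶ G), a⁻¹ ≫ v = (a ≫ v)⁻¹ :=
    fun a => map_inv (IsMonHom.monoidHom v _) a
  have key : ∀ {T : C} (a b : T ⟶ G), a ≫ v = b ≫ v →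
      (a⁻¹ * b) ≫ v = toUnit T ≫ η[G''] := by
    intro T a b h
    rw [hmul, hinv, h, inv_mul_cancel, Hom.one_def]
  have comm : fst G G' ≫ v = ((G ◁ u) ≫ μ[G]) ≫ v := by
    rw [whisker_mul, hmul, Category.assoc, hu1, comp_one, _root_.mul_one]
  refine ⟨⟨comm⟩, ⟨PullbackCone.IsLimit.mk comm
    (fun s => lift s.fst (hk.lift (s.fst⁻¹ * s.snd) (toUnit _) (key _ _ s.condition)))
    ?_ ?_ ?_⟩⟩
  · intro s
    exact lift_fst _ _
  · intro s
    rw [whisker_mul, comp_mul, lift_fst, lift_snd_assoc, hk.lift_fst, mul_inv_cancel_left]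
  · intro s m h1 h2
    apply CartesianMonoidalCategory.hom_ext
    · rw [lift_fst]; exact h1
    · rw [lift_snd]
      apply hk.hom_ext
      · rw [hk.lift_fst, eq_inv_mul_iff_mul_eq, ← h1, ← h2, whisker_mul, comp_mul, Category.assoc]
      · exact toUnit_unique _ _

end General

section BaseChange

variable {B S : Scheme.{u}} (t : S ⟶ B) {G G' G'' : Over B} [GrpObj G] [GrpObj G'] [GrpObj G'']

omit [GrpObj G] [GrpObj G'] in
theorem isKernel_pullback (u : G' ⟶ G) (v : G ⟶ G'')
    (hk : IsPullback u (toUnit G') v η[G'']) :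
    IsPullback ((Over.pullback t).map u) (toUnit (Red.bc t G'))
      ((Over.pullback t).map v) η[Red.bc t G''] := by
  have h1 := Functor.map_isPullback (Over.pullback t) hk
  refine h1.of_iso (Iso.refl _) (Iso.refl _) (Functor.Monoidal.εIso (Over.pullback t)).symm
    (Iso.refl _) ?_ ?_ ?_ ?_
  · simp
  · exact toUnit_unique _ _
  · simp
  · change _ = _ ≫ (Functor.LaxMonoidal.ε (Over.pullback t) ≫ (Over.pullback t).map η[G''])
    rw [Iso.symm_hom, ← Functor.Monoidal.εIso_hom, Iso.inv_hom_id_assoc, Iso.refl_hom,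
      Category.comp_id]

end BaseChange

end Groth.Agent.Helper8.Kummer
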