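import Mathlib
import Groth.Agent.Helper8.DiagMu

/-!
# The Kummer pushout square of group algebras

`R[ℤ] --(T ↦ Tⁿ)--> R[ℤ] --> R[ℤ/n]` together with the counit `R[ℤ] → R` is a pushout square of rings.
-/

set_option autoImplicit false

namespace Groth.Agent.Helper8.Kummer

open CategoryTheory CategoryTheory.Limits

universe u

variable (R : Type u) [CommRing R] (n : ℕ)

/-- the group algebra `R[ℤ]` -/
abbrev AA : Type u := MonoidAlgebra R (Multiplicative ℤ)

/-- the group algebra `R[ℤ/n]` -/
abbrev PP : Type u := MonoidAlgebra R (Multiplicative (ZMod n))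

/-- `T ↦ Tⁿ` -/
noncomputable abbrev pown : AA R →ₐ[R] AA R :=
  MonoidAlgebra.mapDomainAlgHom R R (AddMonoidHom.toMultiplicative (zmultiplesHom ℤ (n : ℤ)))

/-- `R[ℤ] → R[ℤ/n]` -/
noncomputable abbrev proj : AA R →ₐ[R] PP R n :=
  MonoidAlgebra.mapDomainAlgHom R R (AddMonoidHom.toMultiplicative (Int.castAddHom (ZMod n)))

variable {R n}

lemma pown_single (a : Multiplicative ℤ) (r : R) :
    pown R n (MonoidAlgebra.single a r) =
      MonoidAlgebra.single (Multiplicative.ofAdd (a.toAdd * (n : ℤ))) r := by
  simp [MonoidAlgebra.mapDomain_single]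

lemma proj_single (a : Multiplicative ℤ) (r : R) :
    proj R n (MonoidAlgebra.single a r) =
      MonoidAlgebra.single (Multiplicative.ofAdd ((a.toAdd : ℤ) : ZMod n)) r := by
  simp [MonoidAlgebra.mapDomain_single]

lemma proj_surjective : Function.Surjective (proj R n) :=
  DiagMu.mapDomain_surjective R _ (fun x => by
    obtain ⟨k, hk⟩ := ZMod.intCast_surjective x.toAdd
    exact ⟨Multiplicative.ofAdd k, by simp [hk]⟩)

lemma counit_single' (a : Multiplicative ℤ) (r : R) :
    Bialgebra.counitAlgHom R (AA R) (MonoidAlgebra.single a r) = r := by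
  simp

lemma comm_ring :
    (proj R n).toRingHom.comp (pown R n).toRingHom =
      (algebraMap R (PP R n)).comp (Bialgebra.counitAlgHom R (AA R)).toRingHom := by
  apply MonoidAlgebra.ringHom_ext
  · intro r
    simp [MonoidAlgebra.mapDomain_single]
  · intro a
    simp [MonoidAlgebra.mapDomain_single]


section Desc

variable {X : Type u} [CommRing X] (i : AA R →+* X) (j : R →+* X)
  (cond : i.comp (pown R n).toRingHom = j.comp (Bialgebra.counitAlgHom R (AA R)).toRingHom)

/-- the group homomorphism `ℤ → Xˣ`, `k ↦ i(T^k)` -/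
noncomputable def theta : Multiplicative ℤ →* Xˣ :=
  (Units.map ((i : AA R →* X).comp (MonoidAlgebra.of R (Multiplicative ℤ)))).comp
    (toUnits (G := Multiplicative ℤ)).toMonoidHom

lemma theta_val (a : Multiplicative ℤ) : (theta i a : X) = i (MonoidAlgebra.single a 1) := rfl

include cond in
lemma i_single_one (r : R) : i (MonoidAlgebra.single 1 r) = j r := by
  have h := congr($cond (MonoidAlgebra.single 1 r))
  simpa [MonoidAlgebra.mapDomain_single] using h

include cond in
lemma theta_n : theta i (Multiplicative.ofAdd (n : ℤ)) = 1 := by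
  apply Units.ext
  rw [theta_val]
  have h := congr($cond (MonoidAlgebra.single (Multiplicative.ofAdd (1 : ℤ)) 1))
  simpa [MonoidAlgebra.mapDomain_single] using h

/-- the induced homomorphism `ℤ/n → Xˣ` -/
noncomputable def gU : Multiplicative (ZMod n) →* Xˣ :=
  AddMonoidHom.toMultiplicativeLeft
    (ZMod.lift n ⟨MonoidHom.toAdditiveRight (theta i), by
      change Additive.ofMul (theta i (Multiplicative.ofAdd (n : ℤ))) = 0
      rw [theta_n i j cond]; rfl⟩)

lemma gU_cast (k : ℤ) :
    gU i j cond (Multiplicative.ofAdd ((k : ℤ) : ZMod n)) = theta i (Multiplicative.ofAdd k) := by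
  change Additive.toMul (ZMod.lift n ⟨MonoidHom.toAdditiveRight (theta i), _⟩ ((k : ℤ) : ZMod n)) = _
  rw [ZMod.lift_coe]
  rfl

/-- the induced ring homomorphism `R[ℤ/n] → X` -/
noncomputable def descHom : PP R n →+* X :=
  MonoidAlgebra.liftNCRingHom j ((Units.coeHom X).comp (gU i j cond)) (fun _ _ => Commute.all _ _)

lemma descHom_proj : (descHom i j cond).comp (proj R n).toRingHom = i := by
  apply MonoidAlgebra.ringHom_ext
  · intro r
    rw [i_single_one i j cond]
    simp [descHom, MonoidAlgebra.mapDomain_single]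
  · intro a
    have : (descHom i j cond) (proj R n (MonoidAlgebra.single a 1)) = i (MonoidAlgebra.single a 1) := by
      rw [proj_single, descHom, MonoidAlgebra.liftNCRingHom_single, map_one, one_mul]
      change ((gU i j cond (Multiplicative.ofAdd ((a.toAdd : ℤ) : ZMod n)) : Xˣ) : X) = _
      rw [gU_cast, theta_val]
      rfl
    exact this

lemma descHom_algebraMap : (descHom i j cond).comp (algebraMap R (PP R n)) = j := by
  ext r
  simp [descHom, MonoidAlgebra.coe_algebraMap]

end Desc

variable (R n) in
theorem isPushout_ring :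
    IsPushout (CommRingCat.ofHom (pown R n).toRingHom)
      (CommRingCat.ofHom (Bialgebra.counitAlgHom R (AA R)).toRingHom)
      (CommRingCat.ofHom (proj R n).toRingHom)
      (CommRingCat.ofHom (algebraMap R (PP R n))) := by
  have comm : CommRingCat.ofHom (pown R n).toRingHom ≫ CommRingCat.ofHom (proj R n).toRingHom =
      CommRingCat.ofHom (Bialgebra.counitAlgHom R (AA R)).toRingHom ≫
        CommRingCat.ofHom (algebraMap R (PP R n)) := by
    rw [← CommRingCat.ofHom_comp, ← CommRingCat.ofHom_comp, comm_ring]
  have hcond : ∀ s : PushoutCocone (CommRingCat.ofHom (pown R n).toRingHom)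
      (CommRingCat.ofHom (Bialgebra.counitAlgHom R (AA R)).toRingHom),
      s.inl.hom.comp (pown R n).toRingHom =
        s.inr.hom.comp (Bialgebra.counitAlgHom R (AA R)).toRingHom := by
    intro s
    have := congr(($(s.condition)).hom)
    simpa using this
  have fac_left : ∀ s : PushoutCocone (CommRingCat.ofHom (pown R n).toRingHom)
      (CommRingCat.ofHom (Bialgebra.counitAlgHom R (AA R)).toRingHom),
      CommRingCat.ofHom (proj R n).toRingHom ≫
        CommRingCat.ofHom (descHom s.inl.hom s.inr.hom (hcond s)) = s.inl := by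
    intro s
    rw [← CommRingCat.ofHom_comp, descHom_proj]
    rfl
  refine ⟨⟨comm⟩, ⟨PushoutCocone.IsColimit.mk comm
    (fun s => CommRingCat.ofHom (descHom s.inl.hom s.inr.hom (hcond s))) fac_left ?_ ?_⟩⟩
  · intro s
    rw [← CommRingCat.ofHom_comp, descHom_algebraMap]
    rfl
  · intro s m h1 h2
    apply CommRingCat.hom_ext
    apply RingHom.ext
    intro x
    obtain ⟨y, rfl⟩ := proj_surjective (R := R) (n := n) x
    have e1 := congr(($h1).hom y)
    have e2 := congr(($(fac_left s)).hom y)
    exact e1.trans e2.symm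

end Groth.Agent.Helper8.Kummer
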