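import Mathlib
import Groth.Agent.Helper8.KummerB

/-!
# The Kummer covering: `R[ℤ][X]/(Xⁿ - T)` is faithfully flat over `R[ℤ]` and carries an `n`-th root of `T`
-/

set_option autoImplicit false

namespace Groth.Agent.Helper8.Kummer

open CategoryTheory CategoryTheory.Limits Polynomial

universe u

variable (R : Type u) [CommRing R] (n : ℕ)

/-- the coordinate `T` of `R[ℤ]` -/
noncomputable def TT : AA R := MonoidAlgebra.single (Multiplicative.ofAdd (1 : ℤ)) 1

/-- the inverse of `T` -/
noncomputable def TTinv : AA R := MonoidAlgebra.single (Multiplicative.ofAdd (-1 : ℤ)) 1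

lemma TT_mul_TTinv : TT R * TTinv R = 1 := by
  simp [TT, TTinv, MonoidAlgebra.single_mul_single, MonoidAlgebra.one_def]

/-- `Xⁿ - T` -/
noncomputable def poly : (AA R)[X] := X ^ n - C (TT R)

variable {n}

lemma poly_monic (hn : 0 < n) : (poly R n).Monic := monic_X_pow_sub_C _ hn.ne'

variable (n)

/-- `R[ℤ][X]/(Xⁿ - T)` -/
abbrev EE : Type u := AdjoinRoot (poly R n)

lemma root_pow : (AdjoinRoot.root (poly R n)) ^ n = AdjoinRoot.of (poly R n) (TT R) := by
  have h := AdjoinRoot.mk_self (f := poly R n)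
  rw [poly, map_sub, map_pow, AdjoinRoot.mk_X, AdjoinRoot.mk_C, sub_eq_zero] at h
  exact h

variable {n}

/-- the root is a unit -/
noncomputable def rootU (hn : 0 < n) : (EE R n)ˣ :=
  Units.mkOfMulEqOne (AdjoinRoot.root (poly R n))
    ((AdjoinRoot.root (poly R n)) ^ (n - 1) * AdjoinRoot.of (poly R n) (TTinv R)) (by
      rw [← mul_assoc, mul_pow_sub_one hn.ne', root_pow, ← map_mul, TT_mul_TTinv, map_one])

lemma rootU_val (hn : 0 < n) : (rootU R hn : EE R n) = AdjoinRoot.root (poly R n) := rfl

/-- the lift `R[ℤ] → R[ℤ][X]/(Xⁿ - T)`, `T ↦ X` -/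
noncomputable def liftE (hn : 0 < n) : AA R →ₐ[R] EE R n :=
  MonoidAlgebra.lift R (EE R n) (Multiplicative ℤ)
    ((Units.coeHom (EE R n)).comp (zpowersHom (EE R n)ˣ (rootU R hn)))

lemma liftE_pown (hn : 0 < n) :
    (liftE R hn).toRingHom.comp (pown R n).toRingHom = algebraMap (AA R) (EE R n) := by
  apply MonoidAlgebra.ringHom_ext
  · intro r
    have : (MonoidAlgebra.single 1 r : AA R) = algebraMap R (AA R) r := by
      simp [MonoidAlgebra.coe_algebraMap]
    rw [this]
    simp only [AlgHom.toRingHom_eq_coe, RingHom.coe_comp, RingHom.coe_coe, Function.comp_apply,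
      AlgHom.commutes]
    exact (IsScalarTower.algebraMap_apply R (AA R) (EE R n) r).symm
  · intro a
    have h1 : ((algebraMap (AA R) (EE R n) : AA R →* EE R n).comp
        (MonoidAlgebra.of R (Multiplicative ℤ))) =
        ((Units.coeHom (EE R n)).comp (zpowersHom (EE R n)ˣ (rootU R hn))).comp
          (AddMonoidHom.toMultiplicative (zmultiplesHom ℤ (n : ℤ))) := by
      apply MonoidHom.ext_mint
      simp only [MonoidHom.coe_comp, MonoidHom.coe_coe, Function.comp_apply,
        MonoidAlgebra.of_apply, AddMonoidHom.toMultiplicative_apply_apply, toAdd_ofAdd,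
        zmultiplesHom_apply, one_smul, zpowersHom_apply, zpow_natCast, Units.coeHom_apply,
        Units.val_pow_eq_pow_val, rootU_val, root_pow]
      rfl
    have h2 := congr($h1 a)
    simp only [MonoidHom.coe_comp, MonoidHom.coe_coe, Function.comp_apply,
      MonoidAlgebra.of_apply] at h2
    rw [h2]
    simp [liftE, MonoidAlgebra.mapDomain_single]

variable [Nontrivial R]

lemma faithfullyFlat_EE (hn : 0 < n) : Module.FaithfullyFlat (AA R) (EE R n) := by
  let pb := AdjoinRoot.powerBasis' (poly_monic R hn)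
  haveI : Module.Free (AA R) (EE R n) := Module.Free.of_basis pb.basis
  have hdim : pb.dim = n := by
    rw [AdjoinRoot.powerBasis'_dim, poly, natDegree_X_pow_sub_C]
  haveI : Nonempty (Fin pb.dim) := ⟨⟨0, by rw [hdim]; exact hn⟩⟩
  haveI : Nontrivial (EE R n) := pb.basis.repr.toEquiv.nontrivial
  infer_instance

end Groth.Agent.Helper8.Kummer
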