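import Mathlib
import Groth.Prelude.Def_NonAbH2
import Groth.Prelude.Def_Red2
import Groth.Agent.Helper8.KummerA
import Groth.Agent.Helper8.KummerC
import Groth.Agent.Helper8.DiagMu
import Groth.Agent.Helper8.FpqcCover

/-!
# The Kummer sequence is exact for the fpqc topology
-/

set_option autoImplicit false

namespace Groth.Agent.Helper8.Kummer

open CategoryTheory MonoidalCategory CartesianMonoidalCategory MonObj GrpObj AlgebraicGeometry
  CategoryTheory.Limits

universe u

section Diag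

variable (R : Type u) [CommRing R] (n : ℕ)

theorem isPullback_spec :
    IsPullback (Spec.map (CommRingCat.ofHom (proj R n).toRingHom))
      (Spec.map (CommRingCat.ofHom (algebraMap R (PP R n))))
      (Spec.map (CommRingCat.ofHom (pown R n).toRingHom))
      (Spec.map (CommRingCat.ofHom (Bialgebra.counitAlgHom R (AA R)).toRingHom)) :=
  isPullback_SpecMap_of_isPushout _ _ _ _ (isPushout_ring R n)

theorem toUnit_left (M : Type) [AddCommGroup M] :
    (toUnit (Red.diag R M)).left =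
      Spec.map (CommRingCat.ofHom (algebraMap R (MonoidAlgebra R (Multiplicative M)))) := by
  rw [← Category.comp_id (toUnit (Red.diag R M)).left]
  exact Over.w (toUnit (Red.diag R M))

theorem isKernel_diag :
    IsPullback (Red.diagMap R (Int.castAddHom (ZMod n))) (toUnit (Red.diag R (ZMod n)))
      (Red.diagMap R (zmultiplesHom ℤ (n : ℤ) : ℤ →+ ℤ)) η[Red.diag R ℤ] := by
  apply IsPullback.of_map_of_faithful (Over.forget _)
  have h := isPullback_spec R n
  rw [← toUnit_left R (ZMod n)] at h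
  exact h

end Diag

section Final

variable (S : Scheme.{u}) {n : ℕ} (hn : 0 < n)

include hn in
theorem kummer_exact :
    NonAbH1.IsExactSeq Scheme.fpqcPrecoverage
      (Red.DSmap S (Int.castAddHom (ZMod n))) (Red.chi S (n : ℤ)) := by
  have hk0 := isKernel_diag (ULift.{u} ℤ) n
  have hk := isKernel_pullback (G := Red.diag (ULift.{u} ℤ) ℤ) (G' := Red.diag (ULift.{u} ℤ) (ZMod n))
    (G'' := Red.diag (ULift.{u} ℤ) ℤ) (Limits.IsTerminal.from specULiftZIsTerminal S)
    (Red.diagMap (ULift.{u} ℤ) (Int.castAddHom (ZMod n)))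
    (Red.diagMap (ULift.{u} ℤ) (zmultiplesHom ℤ (n : ℤ) : ℤ →+ ℤ)) hk0
  haveI : IsMonHom (Red.chi S (n : ℤ)) := by unfold Red.chi; infer_instance
  refine ⟨inferInstance, inferInstance, ?_, ?_, ?_⟩
  · rw [Hom.one_def]; exact hk.w
  · exact isPullback_of_isKernel _ _ hk
  · let w0 : Spec (CommRingCat.of (EE (ULift.{u} ℤ) n)) ⟶ (Red.diag (ULift.{u} ℤ) ℤ).left :=
      Spec.map (CommRingCat.ofHom (algebraMap (AA (ULift.{u} ℤ)) (EE (ULift.{u} ℤ) n)))
    let l0 : Spec (CommRingCat.of (EE (ULift.{u} ℤ) n)) ⟶ (Red.diag (ULift.{u} ℤ) ℤ).left :=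
      Spec.map (CommRingCat.ofHom (liftE (ULift.{u} ℤ) hn).toRingHom)
    have hv0 : (Red.diagMap (ULift.{u} ℤ) (zmultiplesHom ℤ (n : ℤ) : ℤ →+ ℤ)).left ≫
        (Red.diag (ULift.{u} ℤ) ℤ).hom = (Red.diag (ULift.{u} ℤ) ℤ).hom := Over.w _
    have hl0 : l0 ≫ (Red.diagMap (ULift.{u} ℤ) (zmultiplesHom ℤ (n : ℤ) : ℤ →+ ℤ)).left = w0 := by
      change Spec.map _ ≫ Spec.map (CommRingCat.ofHom (pown (ULift.{u} ℤ) n).toRingHom) = _
      rw [← Spec.map_comp, ← CommRingCat.ofHom_comp, liftE_pown]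
    let W0 : Over (Spec (CommRingCat.of (ULift.{u} ℤ))) :=
      Over.mk (w0 ≫ (Red.diag (ULift.{u} ℤ) ℤ).hom)
    let w0' : W0 ⟶ Red.diag (ULift.{u} ℤ) ℤ := Over.homMk w0 rfl
    let ℓ0 : W0 ⟶ Red.diag (ULift.{u} ℤ) ℤ := Over.homMk l0 (by
      change l0 ≫ (Red.diag (ULift.{u} ℤ) ℤ).hom = w0 ≫ (Red.diag (ULift.{u} ℤ) ℤ).hom
      rw [← hl0, Category.assoc, hv0])
    have hℓ : ℓ0 ≫ Red.diagMap (ULift.{u} ℤ) (zmultiplesHom ℤ (n : ℤ) : ℤ →+ ℤ) = w0' :=
      Over.OverMorphism.ext hl0
    have hff : Flat w0 ∧ Surjective w0 := by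
      refine (flat_and_surjective_SpecMap_iff _).mpr ?_
      rw [CommRingCat.hom_ofHom]
      exact RingHom.faithfullyFlat_algebraMap_iff.mpr (faithfullyFlat_EE (ULift.{u} ℤ) hn)
    let t := Limits.IsTerminal.from specULiftZIsTerminal S
    haveI hflat : Flat ((Over.pullback t).map w0').left :=
      MorphismProperty.overPullbackMap (P := @Flat) t w0' hff.1
    haveI hsurj : Surjective ((Over.pullback t).map w0').left :=
      MorphismProperty.overPullbackMap (P := @Surjective) t w0' hff.2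
    haveI hqc : QuasiCompact ((Over.pullback t).map w0').left :=
      MorphismProperty.overPullbackMap (P := @QuasiCompact) t w0'
        (inferInstanceAs (QuasiCompact (Spec.map (CommRingCat.ofHom
          (algebraMap (AA (ULift.{u} ℤ)) (EE (ULift.{u} ℤ) n))))))
    haveI : DGlue2.IsFpqcCov ((Over.pullback t).map w0').left :=
      { flat := hflat, surj := hsurj, qc := inferInstance }
    refine ⟨Presieve.singleton ((Over.pullback t).map w0').left,
      DGlue2.IsFpqcCov.singleton_mem _, ?_⟩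
    rintro S' f ⟨⟩
    refine ⟨((Over.pullback t).map ℓ0).left, ?_⟩
    rw [← hℓ, Functor.map_comp, Over.comp_left]
    rfl

end Final

end Groth.Agent.Helper8.Kummer
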