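import Mathlib
import Groth.Agent.Helper8.KummerD

/-!
# The Kummer sequence is exact for every topology finer than "flat, finitely presented, quasi-compact singletons"
-/

set_option autoImplicit false

namespace Groth.Agent.Helper8.Kummer

open CategoryTheory MonoidalCategory CartesianMonoidalCategory MonObj GrpObj AlgebraicGeometry
  CategoryTheory.Limits

universe u

variable (S : Scheme.{u}) {n : ℕ} (hn : 0 < n)

include hn in
theorem kummer_exact_of (K : Precoverage Scheme.{u})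
    (hK : ∀ ⦃X Y : Scheme.{u}⦄ (f : X ⟶ Y), Flat f → Surjective f → QuasiCompact f →
      LocallyOfFinitePresentation f → Presieve.singleton f ∈ K Y) :
    NonAbH1.IsExactSeq K
      (Red.DSmap S (Int.castAddHom (ZMod n))) (Red.chi S (n : ℤ)) := by
  obtain ⟨h1, h2, h3, h4, -⟩ := kummer_exact S hn
  refine ⟨h1, h2, h3, h4, ?_⟩
  let w0 : Spec (CommRingCat.of (EE (ULift.{u} ℤ) n)) ⟶ (Red.diag (ULift.{u} ℤ) ℤ).left :=
    Spec.map (CommRingCat.ofHom (algebraMap (AA (ULift.{u} ℤ)) (EE (ULift.{u} ℤ) n)))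
  let l0 : Spec (CommRingCat.of (EE (ULift.{u} ℤ) n)) ⟶ (Red.diag (ULift.{u} ℤ) ℤ).left :=
    Spec.map (CommRingCat.ofHom (liftE (ULift.{u} ℤ) hn).toRingHom)
  have hv0 : (Red.diagMap (ULift.{u} ℤ) (zmultiplesHom ℤ (n : ℤ) : ℤ →+ ℤ)).left ≫
      (Red.diag (ULift.{u} ℤ) ℤ).hom = (Red.diag (ULift.{u} ℤ) ℤ).hom := Over.w _
  have hl0 : l0 ≫ (Red.diagMap (ULift.{u} ℤ) (zmultiplesHom ℤ (n : ℤ) : ℤ →+ ℤ)).left = w0 := by
    change Spec.map _ ≫ Spec.map (CommRingCat.ofHom (pown (ULift.{u} ℤ) n).toRingHom) = _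
    rw [← Spec.map_comp, ← CommRingCat.ofHom_comp, liftE_pown]
  let W0 : Over (Spec (CommRingCat.of (ULift.{u} ℤ))) :=
    Over.mk (w0 ≫ (Red.diag (ULift.{u} ℤ) ℤ).hom)
  let w0' : W0 ⟶ Red.diag (ULift.{u} ℤ) ℤ := Over.homMk w0 rfl
  let ℓ0 : W0 ⟶ Red.diag (ULift.{u} ℤ) ℤ := Over.homMk l0 (by
    change l0 ≫ (Red.diag (ULift.{u} ℤ) ℤ).hom = w0 ≫ (Red.diag (ULift.{u} ℤ) ℤ).hom
    rw [← hl0, Category.assoc, hv0])
  have hℓ : ℓ0 ≫ Red.diagMap (ULift.{u} ℤ) (zmultiplesHom ℤ (n : ℤ) : ℤ →+ ℤ) = w0' :=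
    Over.OverMorphism.ext hl0
  have hff : Flat w0 ∧ Surjective w0 := by
    refine (flat_and_surjective_SpecMap_iff _).mpr ?_
    rw [CommRingCat.hom_ofHom]
    exact RingHom.faithfullyFlat_algebraMap_iff.mpr (faithfullyFlat_EE (ULift.{u} ℤ) hn)
  have hfp : LocallyOfFinitePresentation w0 := by
    refine (HasRingHomProperty.Spec_iff (P := @LocallyOfFinitePresentation)).mpr ?_
    rw [CommRingCat.hom_ofHom]
    exact RingHom.finitePresentation_algebraMap.mpr inferInstance
  let t := Limits.IsTerminal.from specULiftZIsTerminal S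
  have hflat : Flat ((Over.pullback t).map w0').left :=
    MorphismProperty.overPullbackMap (P := @Flat) t w0' hff.1
  have hsurj : Surjective ((Over.pullback t).map w0').left :=
    MorphismProperty.overPullbackMap (P := @Surjective) t w0' hff.2
  have hqc : QuasiCompact ((Over.pullback t).map w0').left :=
    MorphismProperty.overPullbackMap (P := @QuasiCompact) t w0'
      (inferInstanceAs (QuasiCompact (Spec.map (CommRingCat.ofHom
        (algebraMap (AA (ULift.{u} ℤ)) (EE (ULift.{u} ℤ) n))))))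
  have hlfp : LocallyOfFinitePresentation ((Over.pullback t).map w0').left :=
    MorphismProperty.overPullbackMap (P := @LocallyOfFinitePresentation) t w0' hfp
  refine ⟨Presieve.singleton ((Over.pullback t).map w0').left, hK _ hflat hsurj hqc hlfp, ?_⟩
  rintro S' f ⟨⟩
  refine ⟨((Over.pullback t).map ℓ0).left, ?_⟩
  rw [← hℓ, Functor.map_comp, Over.comp_left]
  rfl

include hn in
theorem kummer_exact_fppf :
    NonAbH1.IsExactSeq Scheme.fppfPrecoverage
      (Red.DSmap S (Int.castAddHom (ZMod n))) (Red.chi S (n : ℤ)) := by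
  refine kummer_exact_of S hn _ ?_
  intro X Y f hf hs _ hfp
  rw [Scheme.fppfPrecoverage, Scheme.singleton_mem_precoverage_iff]
  exact ⟨hs.surj, hf, hfp⟩

end Groth.Agent.Helper8.Kummer
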