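import Mathlib
import Groth.Agent.Helper8.LGAzu
import Groth.Agent.Helper9.Azu
import Groth.Agent.Helper9.AzuEnd

set_option autoImplicit false
set_option linter.style.haveILetI false
universe u v w u'

open TensorProduct

namespace Groth.Agent.Helper8.LGAzuEnd

section Action
variable {R : Type u} [CommRing R] (C : Type v) [Ring C] [Algebra R C]
  (P : Type w) [AddCommGroup P] [Module R P]

theorem rT_apply (f : Module.End R C) (v : C ⊗[R] P) :
    Module.End.rTensorAlgHom R C P f v = f.rTensor P v := rfl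

theorem lT_apply (φ : Module.End R P) (v : C ⊗[R] P) :
    Module.End.lTensorAlgHom R P C φ v = φ.lTensor C v := rfl

/-- action of `C ⊗ End P` on `C ⊗ P` -/
noncomputable def rho : C ⊗[R] Module.End R P →ₐ[R] Module.End R (C ⊗[R] P) :=
  Algebra.TensorProduct.lift ((Module.End.rTensorAlgHom R C P).comp (Algebra.lmul R C))
    (Module.End.lTensorAlgHom R P C)
    (fun c φ => by
      show _ * _ = _ * _
      refine TensorProduct.ext' fun c' x => ?_
      rw [Module.End.mul_apply, Module.End.mul_apply, lT_apply, LinearMap.lTensor_tmul,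
        AlgHom.comp_apply, rT_apply, LinearMap.rTensor_tmul, rT_apply, LinearMap.rTensor_tmul,
        lT_apply, LinearMap.lTensor_tmul])

theorem rho_tmul (c : C) (φ : Module.End R P) (c' : C) (x : P) :
    rho C P (c ⊗ₜ φ) (c' ⊗ₜ x) = (c * c') ⊗ₜ φ x := by
  rw [rho, Algebra.TensorProduct.lift_tmul, Module.End.mul_apply, lT_apply, LinearMap.lTensor_tmul,
    AlgHom.comp_apply, rT_apply, LinearMap.rTensor_tmul]
  rfl

/-- right multiplication by `c` on the first factor -/
noncomputable def Rm (c : C) : Module.End R (C ⊗[R] P) := (LinearMap.mulRight R c).rTensor P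

theorem Rm_tmul (c c' : C) (x : P) : Rm C P c (c' ⊗ₜ x) = (c' * c) ⊗ₜ[R] x := by
  simp [Rm]

theorem Rm_mul (c c' : C) : Rm (R := R) C P (c * c') = Rm C P c' * Rm C P c := by
  refine TensorProduct.ext' fun a x => ?_
  simp [Rm_tmul, mul_assoc]

theorem Rm_one : Rm (R := R) C P 1 = 1 := by
  refine TensorProduct.ext' fun a x => ?_
  simp [Rm_tmul]

theorem Rm_add (c c' : C) : Rm (R := R) C P (c + c') = Rm C P c + Rm C P c' := by
  refine TensorProduct.ext' fun a x => ?_
  simp [Rm_tmul, mul_add, TensorProduct.add_tmul]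

theorem Rm_algebraMap (r : R) : Rm (R := R) C P (algebraMap R C r) = r • 1 := by
  refine TensorProduct.ext' fun a x => ?_
  simp [Rm_tmul, Algebra.smul_def, Algebra.commutes, TensorProduct.smul_tmul']

theorem Rm_commute (c : C) (t : C ⊗[R] Module.End R P) (v : C ⊗[R] P) :
    Rm C P c (rho C P t v) = rho C P t (Rm C P c v) := by
  induction t using TensorProduct.induction_on with
  | zero => simp
  | add t t' ht ht' => simp only [map_add, LinearMap.add_apply, ht, ht']
  | tmul a φ =>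
    induction v using TensorProduct.induction_on with
    | zero => simp
    | add v v' hv hv' => simp only [map_add, hv, hv']
    | tmul a' x => simp [rho_tmul, Rm_tmul, mul_assoc]

/-- `c ⊗ y ↦ φ(y) • c` -/
noncomputable def phiC (φ : Module.Dual R P) : C ⊗[R] P →ₗ[R] C :=
  (TensorProduct.rid R C).toLinearMap ∘ₗ φ.lTensor C

theorem phiC_tmul (φ : Module.Dual R P) (c : C) (y : P) : phiC C P φ (c ⊗ₜ y) = φ y • c := by
  simp [phiC]

theorem rho_one_smulRight (φ : Module.Dual R P) (y : P) (v : C ⊗[R] P) :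
    rho C P (1 ⊗ₜ φ.smulRight y) v = phiC C P φ v ⊗ₜ y := by
  induction v using TensorProduct.induction_on with
  | zero => simp
  | add v v' hv hv' => simp only [map_add, hv, hv', TensorProduct.add_tmul]
  | tmul c x =>
    rw [rho_tmul, phiC_tmul, one_mul, LinearMap.smulRight_apply, TensorProduct.smul_tmul]

theorem phiC_rho_tmul_one (φ : Module.Dual R P) (c : C) (v : C ⊗[R] P) :
    phiC C P φ (rho C P (c ⊗ₜ 1) v) = c * phiC C P φ v := by
  induction v using TensorProduct.induction_on with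
  | zero => simp
  | add v v' hv hv' => simp only [map_add, hv, hv', mul_add]
  | tmul c' x =>
    rw [rho_tmul, phiC_tmul, phiC_tmul, Module.End.one_apply, mul_smul_comm]

end Action

section Trace
variable {R : Type u} [CommRing R] (C : Type v) [Ring C] [Algebra R C]
  {P : Type w} [AddCommGroup P] [Module R P]
  {k : ℕ} (φ : Fin k → Module.Dual R P) (x : Fin k → P)

theorem exists_trace (R : Type u) [CommRing R] (P : Type w) [AddCommGroup P] [Module R P]
    [Module.Finite R P] [Module.Projective R P] [FaithfulSMul R P] :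
    ∃ (k : ℕ) (φ : Fin k → Module.Dual R P) (x : Fin k → P), ∑ i, φ i (x i) = 1 := by
  have h := Groth.Agent.Helper9.AzuBC.trace_top R P
  have h1 : (1 : R) ∈ Ideal.span {r : R | ∃ (φ : Module.Dual R P) (a : P), φ a = r} := by
    rw [h]; trivial
  obtain ⟨k, f, g, hfg⟩ := Submodule.mem_span_set'.1 h1
  choose φ a hφ using fun i => (g i).2
  refine ⟨k, fun i => f i • φ i, a, ?_⟩
  simp only [LinearMap.smul_apply, hφ]
  exact hfg

/-- the scalar read off from an endomorphism -/
noncomputable def ev (T : Module.End R (C ⊗[R] P)) : C :=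
  ∑ i, phiC C P (φ i) (T ((1 : C) ⊗ₜ x i))

theorem ev_add (T T' : Module.End R (C ⊗[R] P)) : ev C φ x (T + T') = ev C φ x T + ev C φ x T' := by
  simp [ev, Finset.sum_add_distrib]

theorem ev_smul (r : R) (T : Module.End R (C ⊗[R] P)) : ev C φ x (r • T) = r • ev C φ x T := by
  simp [ev, Finset.smul_sum]

variable (h1 : ∑ i, φ i (x i) = 1)
include h1

theorem ev_Rm (c : C) : ev C φ x (Rm C P c) = c := by
  simp only [ev, Rm_tmul, phiC_tmul, one_mul]
  rw [← Finset.sum_smul, h1, one_smul]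

theorem ev_one : ev C φ x (1 : Module.End R (C ⊗[R] P)) = 1 := by
  rw [← Rm_one, ev_Rm C φ x h1]

/-- **(K)** an endomorphism commuting with the action of `C ⊗ End P` is a right multiplication -/
theorem eq_Rm_of_commute (T : Module.End R (C ⊗[R] P))
    (hT : ∀ t v, T (rho C P t v) = rho C P t (T v)) : T = Rm C P (ev C φ x T) := by
  have step2 : ∀ (ψ : Module.Dual R P) (y : P) (v : C ⊗[R] P),
      T (phiC C P ψ v ⊗ₜ y) = phiC C P ψ (T v) ⊗ₜ y := by
    intro ψ y v
    rw [← rho_one_smulRight, hT, rho_one_smulRight]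
  have step3 : ∀ (c : C) (y : P),
      T (c ⊗ₜ y) = (∑ i, phiC C P (φ i) (T (c ⊗ₜ x i))) ⊗ₜ y := by
    intro c y
    have hc : c = ∑ i, phiC C P (φ i) (c ⊗ₜ x i) := by
      simp only [phiC_tmul]
      rw [← Finset.sum_smul, h1, one_smul]
    conv_lhs => rw [hc]
    rw [TensorProduct.sum_tmul, map_sum, TensorProduct.sum_tmul]
    exact Finset.sum_congr rfl (fun i _ => step2 (φ i) y _)
  have step4 : ∀ c : C, (∑ i, phiC C P (φ i) (T (c ⊗ₜ x i))) = c * ev C φ x T := by
    intro c
    rw [ev, Finset.mul_sum]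
    refine Finset.sum_congr rfl (fun i _ => ?_)
    rw [← phiC_rho_tmul_one, ← hT, rho_tmul, mul_one, Module.End.one_apply]
  refine TensorProduct.ext' fun c y => ?_
  rw [step3, step4, Rm_tmul]

end Trace

section Extract
variable {R : Type u} [CommRing R] {A : Type v} [Ring A] [Algebra R A]
  {B : Type v} [Ring B] [Algebra R B]
  {P : Type w} [AddCommGroup P] [Module R P] {Q : Type w} [AddCommGroup Q] [Module R Q]
  {k : ℕ} (φ : Fin k → Module.Dual R P) (x : Fin k → P)
  {l : ℕ} (ψ : Fin l → Module.Dual R Q) (y : Fin l → Q)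
  (Φ : (A ⊗[R] P) ≃ₗ[R] (B ⊗[R] Q))
  (e : A ⊗[R] Module.End R P ≃ₐ[R] B ⊗[R] Module.End R Q)

theorem compat_symm (h : ∀ t v, Φ (rho A P t v) = rho B Q (e t) (Φ v)) :
    ∀ t v, Φ.symm (rho B Q t v) = rho A P (e.symm t) (Φ.symm v) := by
  intro t v
  apply Φ.injective
  rw [h, LinearEquiv.apply_symm_apply, AlgEquiv.apply_symm_apply, LinearEquiv.apply_symm_apply]

/-- the scalar by which `Φ ∘ (right mult by a) ∘ Φ⁻¹` acts -/
noncomputable def scal (a : A) : B := ev B ψ y (Φ.conj (Rm A P a))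

variable (h2 : ∑ i, ψ i (y i) = 1)
include h2

theorem conj_Rm (h : ∀ t v, Φ (rho A P t v) = rho B Q (e t) (Φ v)) (a : A) :
    Φ.conj (Rm A P a) = Rm B Q (scal ψ y Φ a) := by
  have hs := compat_symm Φ e h
  refine eq_Rm_of_commute B ψ y h2 _ (fun t v => ?_)
  rw [LinearEquiv.conj_apply, LinearMap.comp_apply, LinearMap.comp_apply, LinearMap.comp_apply,
    LinearMap.comp_apply, LinearEquiv.coe_coe, LinearEquiv.coe_coe, hs, Rm_commute, h,
    AlgEquiv.apply_symm_apply]

theorem scal_mul (h : ∀ t v, Φ (rho A P t v) = rho B Q (e t) (Φ v)) (a a' : A) :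
    scal ψ y Φ (a * a') = scal ψ y Φ a * scal ψ y Φ a' := by
  have h3 : Φ.conj (Rm A P (a * a')) = Rm B Q (scal ψ y Φ a * scal ψ y Φ a') := by
    rw [Rm_mul, Rm_mul, Module.End.mul_eq_comp, LinearEquiv.conj_comp, conj_Rm ψ y Φ e h2 h,
      conj_Rm ψ y Φ e h2 h]
    rfl
  rw [scal, h3, ev_Rm B ψ y h2]

theorem scal_one : scal ψ y Φ (1 : A) = 1 := by
  rw [scal, Rm_one, Module.End.one_eq_id, LinearEquiv.conj_id, ← Module.End.one_eq_id,
    ev_one B ψ y h2]

omit h2 in
theorem scal_add (a a' : A) : scal ψ y Φ (a + a') = scal ψ y Φ a + scal ψ y Φ a' := by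
  rw [scal, Rm_add, map_add, ev_add]
  rfl

theorem scal_algebraMap (r : R) : scal ψ y Φ (algebraMap R A r) = algebraMap R B r := by
  rw [scal, Rm_algebraMap, map_smul, ev_smul, Module.End.one_eq_id, LinearEquiv.conj_id,
    ← Module.End.one_eq_id, ev_one B ψ y h2, Algebra.algebraMap_eq_smul_one]

variable (h1 : ∑ i, φ i (x i) = 1)
include h1

theorem scal_symm_scal (h : ∀ t v, Φ (rho A P t v) = rho B Q (e t) (Φ v)) (a : A) :
    scal φ x Φ.symm (scal ψ y Φ a) = a := by
  rw [scal, ← conj_Rm ψ y Φ e h2 h, LinearEquiv.conj_symm_conj, ev_Rm A φ x h1]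

theorem scal_scal_symm (h : ∀ t v, Φ (rho A P t v) = rho B Q (e t) (Φ v)) (b : B) :
    scal ψ y Φ (scal φ x Φ.symm b) = b := by
  have hs := compat_symm Φ e h
  rw [scal, ← conj_Rm φ x Φ.symm e.symm h1 hs, LinearEquiv.conj_conj_symm, ev_Rm B ψ y h2]

/-- the algebra isomorphism extracted from a compatible isomorphism `A ⊗ P ≃ B ⊗ Q` -/
noncomputable def algEquivOfCompat (h : ∀ t v, Φ (rho A P t v) = rho B Q (e t) (Φ v)) :
    A ≃ₐ[R] B where
  toFun := scal ψ y Φ
  invFun := scal φ x Φ.symm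
  left_inv := scal_symm_scal φ x ψ y Φ e h2 h1 h
  right_inv := scal_scal_symm φ x ψ y Φ e h2 h1 h
  map_mul' := scal_mul ψ y Φ e h2 h
  map_add' := scal_add ψ y Φ
  commutes' := scal_algebraMap ψ y Φ h2

end Extract

section ColP
variable {R : Type u} [CommRing R] {S : Type u'} [Ring S] [Algebra R S]
  {C : Type v} [Ring C] [Algebra R C] {P : Type w} [AddCommGroup P] [Module R P]

/-- `C ⊗ P` as a module over `S ≃ C ⊗ End P` -/
def ColP (_f : S ≃ₐ[R] C ⊗[R] Module.End R P) : Type (max v w) := C ⊗[R] P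

variable (f : S ≃ₐ[R] C ⊗[R] Module.End R P)

noncomputable instance : AddCommGroup (ColP f) := inferInstanceAs (AddCommGroup (C ⊗[R] P))
noncomputable instance : Module R (ColP f) := inferInstanceAs (Module R (C ⊗[R] P))

noncomputable instance instModS : Module S (ColP f) :=
  Module.compHom (C ⊗[R] P) ((rho C P).toRingHom.comp f.toAlgHom.toRingHom)

theorem smul_def (s : S) (v : ColP f) : s • v = rho C P (f s) (v : C ⊗[R] P) := rfl

instance : IsScalarTower R S (ColP f) where
  smul_assoc r s v := by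
    show rho C P (f (r • s)) (v : C ⊗[R] P) = r • rho C P (f s) (v : C ⊗[R] P)
    rw [map_smul, map_smul, LinearMap.smul_apply]

variable {k : ℕ} (φ : Fin k → Module.Dual R P) (x : Fin k → P)

/-- `c ⊗ y ↦ c ⊗ (φ · y)` -/
noncomputable def iotaφ (φ : Module.Dual R P) : C ⊗[R] P →ₗ[R] C ⊗[R] Module.End R P :=
  LinearMap.lTensor C (LinearMap.smulRightₗ φ)

theorem iotaφ_tmul (φ : Module.Dual R P) (c : C) (y : P) :
    iotaφ (C := C) φ (c ⊗ₜ y) = c ⊗ₜ φ.smulRight y := by
  simp [iotaφ]

theorem iotaφ_rho (φ : Module.Dual R P) (t : C ⊗[R] Module.End R P) (v : C ⊗[R] P) :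
    iotaφ φ (rho C P t v) = t * iotaφ φ v := by
  induction t using TensorProduct.induction_on with
  | zero => simp
  | add t t' ht ht' => simp only [map_add, LinearMap.add_apply, ht, ht', add_mul]
  | tmul a χ =>
    induction v using TensorProduct.induction_on with
    | zero => simp
    | add v v' hv hv' => simp only [map_add, hv, hv', mul_add]
    | tmul a' z =>
      rw [rho_tmul, iotaφ_tmul, iotaφ_tmul, Algebra.TensorProduct.tmul_mul_tmul]
      congr 1
      refine LinearMap.ext fun z' => ?_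
      simp

theorem sum_rho_iotaφ (h1 : ∑ i, φ i (x i) = 1) (v : C ⊗[R] P) :
    ∑ i, rho C P (iotaφ (φ i) v) ((1 : C) ⊗ₜ x i) = v := by
  induction v using TensorProduct.induction_on with
  | zero => simp
  | add v v' hv hv' =>
    simp only [map_add, LinearMap.add_apply, Finset.sum_add_distrib, hv, hv']
  | tmul c z =>
    simp only [iotaφ_tmul, rho_tmul, mul_one, LinearMap.smulRight_apply]
    rw [← TensorProduct.tmul_sum, ← Finset.sum_smul, h1, one_smul]

/-- `(sᵢ) ↦ ∑ sᵢ • (1 ⊗ xᵢ)` -/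
noncomputable def pC : (Fin k → S) →ₗ[S] ColP f :=
  ∑ i, (LinearMap.toSpanSingleton S (ColP f) (((1 : C) ⊗ₜ[R] x i : C ⊗[R] P))) ∘ₗ LinearMap.proj i

theorem pC_apply (s : Fin k → S) :
    pC f x s = ∑ i, rho C P (f (s i)) ((1 : C) ⊗ₜ[R] x i) := by
  simp only [pC, LinearMap.sum_apply, LinearMap.comp_apply, LinearMap.proj_apply,
    LinearMap.toSpanSingleton_apply]
  rfl

/-- `v ↦ (f⁻¹ (ι_{φᵢ} v))ᵢ` -/
noncomputable def iC : ColP f →ₗ[S] (Fin k → S) where
  toFun v := fun i => f.symm (iotaφ (φ i) (v : C ⊗[R] P))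
  map_add' v w := by
    funext i
    exact (congrArg f.symm (map_add (iotaφ (φ i)) (v : C ⊗[R] P) (w : C ⊗[R] P))).trans
      (map_add f.symm _ _)
  map_smul' s v := by
    funext i
    show f.symm (iotaφ (φ i) (rho C P (f s) (v : C ⊗[R] P))) = s * f.symm (iotaφ (φ i) v)
    rw [iotaφ_rho, map_mul, AlgEquiv.symm_apply_apply]

theorem pC_iC (h1 : ∑ i, φ i (x i) = 1) : pC f x ∘ₗ iC f φ = LinearMap.id := by
  refine LinearMap.ext fun v => ?_
  rw [LinearMap.comp_apply, pC_apply]
  show ∑ i, rho C P (f (f.symm (iotaφ (φ i) (v : C ⊗[R] P)))) ((1 : C) ⊗ₜ[R] x i) = v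
  simp only [AlgEquiv.apply_symm_apply]
  exact sum_rho_iotaφ φ x h1 v

theorem finite_colP (h1 : ∑ i, φ i (x i) = 1) : Module.Finite S (ColP f) :=
  Module.Finite.of_surjective (pC f x)
    (fun v => ⟨iC f φ v, LinearMap.congr_fun (pC_iC f φ x h1) v⟩)

theorem projective_colP (h1 : ∑ i, φ i (x i) = 1) : Module.Projective S (ColP f) :=
  Module.Projective.of_split (iC f φ) (pC f x) (pC_iC f φ x h1)

theorem rank_colP [Module.Finite R C] [Module.Flat R C] [Module.Finite R P] [Module.Flat R P]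
    (p : PrimeSpectrum R) :
    Module.rankAtStalk (ColP f) p = Module.rankAtStalk C p * Module.rankAtStalk P p := by
  show Module.rankAtStalk (C ⊗[R] P) p = _
  rw [Module.rankAtStalk_tensorProduct, Pi.mul_apply]

end ColP

section Rank
variable {R : Type u} [CommRing R]

theorem rank_end (m : Ideal R) [hm : m.IsMaximal] (P : Type w) [AddCommGroup P] [Module R P]
    [Module.Finite R P] [Module.Projective R P] :
    Module.rankAtStalk (Module.End R P) ⟨m, hm.isPrime⟩ =
      Module.rankAtStalk P ⟨m, hm.isPrime⟩ * Module.rankAtStalk P ⟨m, hm.isPrime⟩ := by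
  letI : Field (R ⧸ m) := Ideal.Quotient.field m
  rw [← LG.finrank_quot_tensor m (Module.End R P), ← LG.finrank_quot_tensor m P]
  let e := LinearEquiv.ofBijective (Groth.Agent.Helper9.AzuBC.theta R (R ⧸ m) P)
    (Groth.Agent.Helper9.AzuBC.theta_bijective R (R ⧸ m) P)
  rw [e.finrank_eq, Module.finrank_linearMap]

theorem rank_pos_of_azumaya (A : Type v) [Ring A] [Algebra R A] [IsAzumaya R A]
    (m : Ideal R) [hm : m.IsMaximal] : 0 < Module.rankAtStalk A ⟨m, hm.isPrime⟩ := by
  haveI := LGAzu.isSimpleRing_fibre (A := A) m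
  letI : Field (R ⧸ m) := Ideal.Quotient.field m
  rw [← LG.finrank_quot_tensor m A]
  haveI : FiniteDimensional (R ⧸ m) ((R ⧸ m) ⊗[R] A) := Module.Finite.base_change R (R ⧸ m) A
  exact Module.finrank_pos

end Rank

section Main
variable {R : Type u} [CommRing R]

theorem main (hR : LGRing.IsLGRing R) (A B : Type v) [Ring A] [Algebra R A] [IsAzumaya R A]
    [Ring B] [Algebra R B] [IsAzumaya R B]
    (hdeg : ∀ p : PrimeSpectrum R, Module.rankAtStalk A p = Module.rankAtStalk B p)
    (P Q : Type w) [AddCommGroup P] [Module R P] [Module.Finite R P] [Module.Projective R P]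
    [FaithfulSMul R P]
    [AddCommGroup Q] [Module R Q] [Module.Finite R Q] [Module.Projective R Q] [FaithfulSMul R Q]
    (e : A ⊗[R] Module.End R P ≃ₐ[R] B ⊗[R] Module.End R Q) : Nonempty (A ≃ₐ[R] B) := by
  obtain ⟨k, φ, x, h1⟩ := exists_trace R P
  obtain ⟨l, ψ, y, h2⟩ := exists_trace R Q
  haveI : IsAzumaya R (Module.End R P) := Groth.Agent.Helper9.AzuEnd.endAzumaya R P
  haveI : IsAzumaya R (Module.End R Q) := Groth.Agent.Helper9.AzuEnd.endAzumaya R Q
  haveI : IsAzumaya R (A ⊗[R] Module.End R P) := Groth.Agent.Helper9.Azu.tensor R A _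
  let fA : A ⊗[R] Module.End R P ≃ₐ[R] A ⊗[R] Module.End R P := AlgEquiv.refl
  haveI := finite_colP fA φ x h1
  haveI := projective_colP fA φ x h1
  haveI := finite_colP e ψ y h2
  haveI := projective_colP e ψ y h2
  have hrank : ∀ (m : Ideal R) [hm : m.IsMaximal],
      Module.rankAtStalk (ColP e) ⟨m, hm.isPrime⟩ = Module.rankAtStalk (ColP fA) ⟨m, hm.isPrime⟩ := by
    intro m hm
    rw [rank_colP, rank_colP]
    have h3 : Module.rankAtStalk (A ⊗[R] Module.End R P) ⟨m, hm.isPrime⟩ =
        Module.rankAtStalk (B ⊗[R] Module.End R Q) ⟨m, hm.isPrime⟩ :=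
      congrFun (Module.rankAtStalk_eq_of_equiv e.toLinearEquiv) _
    rw [Module.rankAtStalk_tensorProduct, Module.rankAtStalk_tensorProduct, Pi.mul_apply,
      Pi.mul_apply, rank_end, rank_end, ← hdeg] at h3
    have hpos := rank_pos_of_azumaya A m
    have h4 := Nat.eq_of_mul_eq_mul_left hpos h3
    have h5 : Module.rankAtStalk P ⟨m, hm.isPrime⟩ = Module.rankAtStalk Q ⟨m, hm.isPrime⟩ :=
      Nat.mul_self_inj.1 h4
    rw [← hdeg, h5]
  obtain ⟨Φ⟩ := LGAzu.nonempty_linearEquiv hR (A := A ⊗[R] Module.End R P)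
    (M := ColP fA) (N := ColP e)
    (fun m _ => LGAzu.isSimpleRing_fibre (A := A ⊗[R] Module.End R P) m) hrank
  exact ⟨algEquivOfCompat φ x ψ y (Φ.restrictScalars R) e h2 h1 (fun s v => Φ.map_smul s v)⟩

end Main

end Groth.Agent.Helper8.LGAzuEnd
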