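import Mathlib
import Groth.Agent.Helper8.LGAzu

set_option autoImplicit false
set_option linter.style.haveILetI false
universe u v w

open TensorProduct Matrix

namespace Groth.Agent.Helper8.LGAzuMat

section ColMat
variable {C : Type w} [Ring C] {n : ℕ}

/-- the matrix with `v` in column `i₀` -/
def colMat (i₀ : Fin n) (v : Fin n → C) : Matrix (Fin n) (Fin n) C :=
  Matrix.vecMulVec v (Pi.single i₀ 1)

theorem colMat_mulVec (i₀ : Fin n) (v x : Fin n → C) :
    colMat i₀ v *ᵥ x = fun i => v i * x i₀ := by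
  ext i
  simp [colMat, Matrix.mulVec, dotProduct, Matrix.vecMulVec_apply, mul_assoc, Pi.single_apply]

theorem colMat_mulVec_single (i₀ : Fin n) (v : Fin n → C) :
    colMat i₀ v *ᵥ (Pi.single i₀ 1) = v := by
  rw [colMat_mulVec]
  funext i
  simp

theorem mul_colMat (i₀ : Fin n) (M : Matrix (Fin n) (Fin n) C) (v : Fin n → C) :
    M * colMat i₀ v = colMat i₀ (M *ᵥ v) :=
  Matrix.mul_vecMulVec M v _

theorem colMat_add (i₀ : Fin n) (v w : Fin n → C) :
    colMat i₀ (v + w) = colMat i₀ v + colMat i₀ w :=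
  Matrix.add_vecMulVec v w _

/-- right multiplication of a column vector by a scalar -/
def rmul (c : C) (v : Fin n → C) : Fin n → C := fun i => v i * c

theorem mulVec_rmul (M : Matrix (Fin n) (Fin n) C) (c : C) (v : Fin n → C) :
    M *ᵥ rmul c v = rmul c (M *ᵥ v) := by
  ext i
  simp [rmul, Matrix.mulVec, dotProduct, Finset.sum_mul, mul_assoc]

theorem rmul_rmul (c c' : C) (v : Fin n → C) : rmul c' (rmul c v) = rmul (c * c') v := by
  ext i
  simp [rmul, mul_assoc]

theorem rmul_one (v : Fin n → C) : rmul (1 : C) v = v := by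
  ext i
  simp [rmul]

theorem rmul_add (c c' : C) (v : Fin n → C) : rmul (c + c') v = rmul c v + rmul c' v := by
  ext i
  simp [rmul, mul_add]

theorem rmul_algebraMap {R : Type u} [CommRing R] [Algebra R C] (r : R) (v : Fin n → C) :
    rmul (algebraMap R C r) v = r • v := by
  ext i
  simp [rmul, Algebra.smul_def, Algebra.commutes]

/-- Key lemma: an endomorphism commuting with all matrices is a right multiplication -/
theorem eq_rmul_of_commute (i₀ : Fin n) (T : (Fin n → C) → (Fin n → C))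
    (hT : ∀ (M : Matrix (Fin n) (Fin n) C) v, T (M *ᵥ v) = M *ᵥ T v) (v : Fin n → C) :
    T v = rmul (T (Pi.single i₀ 1) i₀) v := by
  conv_lhs => rw [← colMat_mulVec_single i₀ v]
  rw [hT, colMat_mulVec]
  rfl

end ColMat

section Extract
variable {R : Type u} [CommRing R] {A : Type v} [Ring A] [Algebra R A]
  {B : Type w} [Ring B] [Algebra R B] {n : ℕ} (i₀ : Fin n)
  (Φ : (Fin n → A) ≃ₗ[R] (Fin n → B))
  (e : Matrix (Fin n) (Fin n) A ≃ₐ[R] Matrix (Fin n) (Fin n) B)

/-- the scalar by which `Φ ∘ (right mult by a) ∘ Φ⁻¹` acts -/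
noncomputable def scal (a : A) : B := Φ (rmul a (Φ.symm (Pi.single i₀ 1))) i₀

theorem compat_symm (h : ∀ s v, Φ (s *ᵥ v) = e s *ᵥ Φ v) :
    ∀ s v, Φ.symm (s *ᵥ v) = e.symm s *ᵥ Φ.symm v := by
  intro M' w
  apply Φ.injective
  rw [h, LinearEquiv.apply_symm_apply, AlgEquiv.apply_symm_apply, LinearEquiv.apply_symm_apply]

theorem apply_rmul (h : ∀ s v, Φ (s *ᵥ v) = e s *ᵥ Φ v) (a : A) (v : Fin n → A) :
    Φ (rmul a v) = rmul (scal i₀ Φ a) (Φ v) := by
  have hs := compat_symm Φ e h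
  have key := eq_rmul_of_commute i₀ (fun w => Φ (rmul a (Φ.symm w))) (fun M' w => by
    show Φ (rmul a (Φ.symm (M' *ᵥ w))) = M' *ᵥ Φ (rmul a (Φ.symm w))
    rw [hs, ← mulVec_rmul, h, AlgEquiv.apply_symm_apply]) (Φ v)
  simp only [LinearEquiv.symm_apply_apply] at key
  exact key

theorem scal_mul (h : ∀ s v, Φ (s *ᵥ v) = e s *ᵥ Φ v) (a a' : A) :
    scal i₀ Φ (a * a') = scal i₀ Φ a * scal i₀ Φ a' := by
  show Φ (rmul (a * a') (Φ.symm (Pi.single i₀ 1))) i₀ = _
  rw [← rmul_rmul, apply_rmul i₀ Φ e h a']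
  rfl

theorem scal_one : scal i₀ Φ 1 = 1 := by
  show Φ (rmul 1 (Φ.symm (Pi.single i₀ 1))) i₀ = _
  rw [rmul_one, LinearEquiv.apply_symm_apply]
  simp

theorem scal_add (a a' : A) : scal i₀ Φ (a + a') = scal i₀ Φ a + scal i₀ Φ a' := by
  show Φ (rmul (a + a') (Φ.symm (Pi.single i₀ 1))) i₀ = _
  rw [rmul_add, map_add]
  rfl

theorem scal_algebraMap (r : R) : scal i₀ Φ (algebraMap R A r) = algebraMap R B r := by
  show Φ (rmul (algebraMap R A r) (Φ.symm (Pi.single i₀ 1))) i₀ = _
  rw [rmul_algebraMap, map_smul, LinearEquiv.apply_symm_apply]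
  simp [Algebra.algebraMap_eq_smul_one]

theorem scal_symm_scal (h : ∀ s v, Φ (s *ᵥ v) = e s *ᵥ Φ v) (a : A) :
    scal i₀ Φ.symm (scal i₀ Φ a) = a := by
  show Φ.symm (rmul (scal i₀ Φ a) (Φ.symm.symm (Pi.single i₀ 1))) i₀ = a
  rw [LinearEquiv.symm_symm, ← apply_rmul i₀ Φ e h, LinearEquiv.symm_apply_apply]
  simp [rmul]

/-- the algebra isomorphism extracted from a compatible isomorphism of column modules -/
noncomputable def algEquivOfCol (h : ∀ s v, Φ (s *ᵥ v) = e s *ᵥ Φ v) : A ≃ₐ[R] B where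
  toFun := scal i₀ Φ
  invFun := scal i₀ Φ.symm
  left_inv := scal_symm_scal i₀ Φ e h
  right_inv := fun b => by
    have := scal_symm_scal i₀ Φ.symm e.symm (compat_symm Φ e h) b
    rwa [LinearEquiv.symm_symm] at this
  map_mul' := scal_mul i₀ Φ e h
  map_add' := scal_add i₀ Φ
  commutes' := scal_algebraMap i₀ Φ

end Extract

section Col
variable {R : Type u} [CommRing R] {S : Type v} [Ring S] [Algebra R S]
  {C : Type w} [Ring C] [Algebra R C] {n : ℕ}

/-- column vectors over `C` as a module over `S ≃ Mₙ(C)` -/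
def Col (_f : S ≃ₐ[R] Matrix (Fin n) (Fin n) C) : Type w := Fin n → C

variable (f : S ≃ₐ[R] Matrix (Fin n) (Fin n) C)

instance : AddCommGroup (Col f) := inferInstanceAs (AddCommGroup (Fin n → C))
instance : Module R (Col f) := inferInstanceAs (Module R (Fin n → C))

instance instModS : Module S (Col f) where
  smul s v := ((f s) *ᵥ (v : Fin n → C) : Fin n → C)
  one_smul v := by
    show (f 1) *ᵥ (v : Fin n → C) = v
    rw [map_one, Matrix.one_mulVec]
  mul_smul s t v := by
    show (f (s * t)) *ᵥ (v : Fin n → C) = (f s) *ᵥ ((f t) *ᵥ (v : Fin n → C))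
    rw [map_mul, Matrix.mulVec_mulVec]
  smul_zero s := Matrix.mulVec_zero _
  smul_add s v w := Matrix.mulVec_add _ _ _
  add_smul s t v := by
    show (f (s + t)) *ᵥ (v : Fin n → C) = (f s) *ᵥ (v : Fin n → C) + (f t) *ᵥ (v : Fin n → C)
    rw [map_add, Matrix.add_mulVec]
  zero_smul v := by
    show (f 0) *ᵥ (v : Fin n → C) = 0
    rw [map_zero, Matrix.zero_mulVec]

theorem smul_def (s : S) (v : Col f) : s • v = ((f s) *ᵥ (v : Fin n → C) : Fin n → C) := rfl

instance : IsScalarTower R S (Col f) where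
  smul_assoc r s v := by
    show (f (r • s)) *ᵥ (v : Fin n → C) = r • ((f s) *ᵥ (v : Fin n → C))
    rw [map_smul, Matrix.smul_mulVec]

variable (i₀ : Fin n)

/-- `s ↦ s • e_{i₀}` -/
noncomputable def pCol : S →ₗ[S] Col f :=
  LinearMap.toSpanSingleton S (Col f) (Pi.single i₀ 1 : Fin n → C)

/-- `v ↦ f⁻¹ (matrix with column v)` -/
noncomputable def iCol : Col f →ₗ[S] S where
  toFun v := f.symm (colMat i₀ v)
  map_add' v w :=
    (congrArg f.symm (colMat_add i₀ (v : Fin n → C) (w : Fin n → C))).trans (map_add f.symm _ _)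
  map_smul' s v := by
    show f.symm (colMat i₀ ((f s) *ᵥ (v : Fin n → C))) = s * f.symm (colMat i₀ v)
    rw [← mul_colMat, map_mul, AlgEquiv.symm_apply_apply]

theorem pCol_iCol : pCol f i₀ ∘ₗ iCol f i₀ = LinearMap.id := by
  refine LinearMap.ext fun v => ?_
  show (f (f.symm (colMat i₀ v))) *ᵥ (Pi.single i₀ 1 : Fin n → C) = v
  rw [AlgEquiv.apply_symm_apply, colMat_mulVec_single]

theorem finite_col [NeZero n] : Module.Finite S (Col f) :=
  Module.Finite.of_surjective (pCol f 0)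
    (fun v => ⟨iCol f 0 v, LinearMap.congr_fun (pCol_iCol f 0) v⟩)

theorem projective_col [NeZero n] : Module.Projective S (Col f) :=
  Module.Projective.of_split (iCol f 0) (pCol f 0) (pCol_iCol f 0)

theorem rank_col [Module.Finite R C] [Module.Flat R C] (p : PrimeSpectrum R) :
    Module.rankAtStalk (Col f) p = n * Module.rankAtStalk C p := by
  show Module.rankAtStalk (Fin n → C) p = _
  rw [Module.rankAtStalk_pi, finsum_eq_sum_of_fintype]
  simp

end Col

section Mat
variable {R : Type u} [CommRing R] (A : Type v) [Ring A] [Algebra R A] (n : ℕ)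

theorem finite_matrix [Module.Finite R A] : Module.Finite R (Matrix (Fin n) (Fin n) A) :=
  Module.Finite.equiv (matrixEquivTensor (Fin n) R A).symm.toLinearEquiv

theorem projective_matrix [Module.Projective R A] :
    Module.Projective R (Matrix (Fin n) (Fin n) A) :=
  Module.Projective.of_equiv (matrixEquivTensor (Fin n) R A).symm.toLinearEquiv

theorem rank_matrix [Module.Finite R A] [Module.Flat R A] (p : PrimeSpectrum R) :
    Module.rankAtStalk (Matrix (Fin n) (Fin n) A) p = Module.rankAtStalk A p * (n * n) := by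
  haveI : Nontrivial R :=
    ⟨⟨0, 1, fun h => p.isPrime.ne_top ((Ideal.eq_top_iff_one _).2 (h ▸ p.asIdeal.zero_mem))⟩⟩
  have h1 : Module.rankAtStalk (Matrix (Fin n) (Fin n) R) p = n * n := by
    rw [Module.rankAtStalk_eq_finrank_of_free, Pi.natCast_apply, Nat.cast_id,
      Module.finrank_matrix]
    simp
  rw [Module.rankAtStalk_eq_of_equiv (matrixEquivTensor (Fin n) R A).toLinearEquiv,
    Module.rankAtStalk_tensorProduct, Pi.mul_apply, h1]

theorem isSimpleRing_fibre_matrix (k : Type u) [CommRing k] [Algebra R k] [NeZero n]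
    [IsSimpleRing (k ⊗[R] A)] : IsSimpleRing (k ⊗[R] Matrix (Fin n) (Fin n) A) := by
  let e1 : k ⊗[R] Matrix (Fin n) (Fin n) A ≃ₐ[R] k ⊗[R] (A ⊗[R] Matrix (Fin n) (Fin n) R) :=
    Algebra.TensorProduct.congr AlgEquiv.refl (matrixEquivTensor (Fin n) R A)
  let e2 : (k ⊗[R] A) ⊗[R] Matrix (Fin n) (Fin n) R ≃ₐ[R]
      k ⊗[R] (A ⊗[R] Matrix (Fin n) (Fin n) R) :=
    Algebra.TensorProduct.assoc R R R k A (Matrix (Fin n) (Fin n) R)
  let e3 : Matrix (Fin n) (Fin n) (k ⊗[R] A) ≃ₐ[R] (k ⊗[R] A) ⊗[R] Matrix (Fin n) (Fin n) R :=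
    matrixEquivTensor (Fin n) R (k ⊗[R] A)
  exact IsSimpleRing.of_ringEquiv ((e3.trans e2).trans e1.symm).toRingEquiv inferInstance

end Mat

section Main
variable {R : Type u} [CommRing R]

theorem main (hR : LGRing.IsLGRing R) (A B : Type v) [Ring A] [Algebra R A] [IsAzumaya R A]
    [Ring B] [Algebra R B] [IsAzumaya R B] (n : ℕ) (hn : 0 < n)
    (e : Matrix (Fin n) (Fin n) A ≃ₐ[R] Matrix (Fin n) (Fin n) B) : Nonempty (A ≃ₐ[R] B) := by
  haveI : NeZero n := ⟨hn.ne'⟩
  haveI := finite_matrix (R := R) A n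
  haveI := projective_matrix (R := R) A n
  haveI := finite_col (AlgEquiv.refl : Matrix (Fin n) (Fin n) A ≃ₐ[R] Matrix (Fin n) (Fin n) A)
  haveI := projective_col (AlgEquiv.refl : Matrix (Fin n) (Fin n) A ≃ₐ[R] Matrix (Fin n) (Fin n) A)
  haveI := finite_col e
  haveI := projective_col e
  have hrankAB : ∀ p : PrimeSpectrum R, Module.rankAtStalk A p = Module.rankAtStalk B p := by
    intro p
    have h1 : Module.rankAtStalk (Matrix (Fin n) (Fin n) A) p =
        Module.rankAtStalk (Matrix (Fin n) (Fin n) B) p :=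
      congrFun (Module.rankAtStalk_eq_of_equiv e.toLinearEquiv) p
    rw [rank_matrix, rank_matrix] at h1
    exact Nat.eq_of_mul_eq_mul_right (Nat.mul_pos hn hn) h1
  obtain ⟨Φ⟩ := LGAzu.nonempty_linearEquiv hR (A := Matrix (Fin n) (Fin n) A)
    (M := Col (AlgEquiv.refl : Matrix (Fin n) (Fin n) A ≃ₐ[R] Matrix (Fin n) (Fin n) A))
    (N := Col e)
    (fun m _ => by
      haveI := LGAzu.isSimpleRing_fibre (A := A) m
      exact isSimpleRing_fibre_matrix A n (R ⧸ m))
    (fun m hm => by rw [rank_col, rank_col, hrankAB])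
  exact ⟨algEquivOfCol 0 (Φ.restrictScalars R) e (fun s v => Φ.map_smul s v)⟩

end Main

end Groth.Agent.Helper8.LGAzuMat
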