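import Mathlib
import Groth.Agent.Helper8.LGAzuEnd

set_option autoImplicit false
set_option linter.style.haveILetI false
universe u v

open TensorProduct MulOpposite

namespace Groth.Agent.Helper8.LGAzuTensor

variable {R : Type u} [CommRing R]

theorem rank_pos (C : Type v) [AddCommGroup C] [Module R C] [Module.Finite R C] [Module.Flat R C]
    [FaithfulSMul R C] (p : PrimeSpectrum R) : 0 < Module.rankAtStalk C p := by
  rw [Module.rankAtStalk_pos_iff_mem_support, Module.support_eq_zeroLocus,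
    Module.annihilator_eq_bot.2 inferInstance]
  simp

theorem main (hR : LGRing.IsLGRing R) (A B C : Type v) [Ring A] [Algebra R A] [IsAzumaya R A]
    [Ring B] [Algebra R B] [IsAzumaya R B] [Ring C] [Algebra R C] [IsAzumaya R C]
    (e : A ⊗[R] C ≃ₐ[R] B ⊗[R] C) : Nonempty (A ≃ₐ[R] B) := by
  let μ : C ⊗[R] Cᵐᵒᵖ ≃ₐ[R] Module.End R C :=
    AlgEquiv.ofBijective (AlgHom.mulLeftRight R C) IsAzumaya.bij
  let e1 : A ⊗[R] Module.End R C ≃ₐ[R] A ⊗[R] (C ⊗[R] Cᵐᵒᵖ) :=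
    Algebra.TensorProduct.congr AlgEquiv.refl μ.symm
  let e2 : (A ⊗[R] C) ⊗[R] Cᵐᵒᵖ ≃ₐ[R] A ⊗[R] (C ⊗[R] Cᵐᵒᵖ) :=
    Algebra.TensorProduct.assoc R R R A C Cᵐᵒᵖ
  let e3 : (A ⊗[R] C) ⊗[R] Cᵐᵒᵖ ≃ₐ[R] (B ⊗[R] C) ⊗[R] Cᵐᵒᵖ :=
    Algebra.TensorProduct.congr e AlgEquiv.refl
  let e4 : (B ⊗[R] C) ⊗[R] Cᵐᵒᵖ ≃ₐ[R] B ⊗[R] (C ⊗[R] Cᵐᵒᵖ) :=
    Algebra.TensorProduct.assoc R R R B C Cᵐᵒᵖ
  let e5 : B ⊗[R] (C ⊗[R] Cᵐᵒᵖ) ≃ₐ[R] B ⊗[R] Module.End R C :=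
    Algebra.TensorProduct.congr AlgEquiv.refl μ
  have hdeg : ∀ p : PrimeSpectrum R, Module.rankAtStalk A p = Module.rankAtStalk B p := by
    intro p
    have h1 : Module.rankAtStalk (A ⊗[R] C) p = Module.rankAtStalk (B ⊗[R] C) p :=
      congrFun (Module.rankAtStalk_eq_of_equiv e.toLinearEquiv) p
    rw [Module.rankAtStalk_tensorProduct, Module.rankAtStalk_tensorProduct, Pi.mul_apply,
      Pi.mul_apply] at h1
    exact Nat.eq_of_mul_eq_mul_right (rank_pos C p) h1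
  exact LGAzuEnd.main hR A B hdeg C C ((((e1.trans e2.symm).trans e3).trans e4).trans e5)

end Groth.Agent.Helper8.LGAzuTensor
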