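import Groth.Agent.Helper8.LGVb

set_option autoImplicit false
open AlgebraicGeometry
universe u
open LGRing

namespace Groth.Agent.Helper8.LGDense

variable {R : Type u} [CommRing R] {N : Type u} [AddCommGroup N] [Module R N]

theorem main [Module.Finite R N] [Module.Projective R N] (hR : LGRing.IsLGRing R)
    (hinf : ∀ (m : Ideal R) [m.IsMaximal], Infinite (R ⧸ m))
    (U : (Spec (CommRingCat.of (SymmetricAlgebra R N))).Opens)
    (hU : IsCompact (U : Set ↥(Spec (CommRingCat.of (SymmetricAlgebra R N)))))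
    (hdense : ∀ (m : Ideal R) [m.IsMaximal],
      Dense ((Spec.map (CommRingCat.ofHom (Ideal.Quotient.mk
        (Ideal.map (algebraMap R (SymmetricAlgebra R N)) m)))).base ⁻¹'
          (U : Set ↥(Spec (CommRingCat.of (SymmetricAlgebra R N)))))) :
    ∃ φ : N →ₗ[R] R,
      Set.range (Spec.map (CommRingCat.ofHom (SymmetricAlgebra.lift φ).toRingHom)).base ⊆
        (U : Set ↥(Spec (CommRingCat.of (SymmetricAlgebra R N)))) := by
  apply LGVb.exists_point hR U hU
  intro m hm
  haveI := hinf m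
  let J : Ideal (SymmetricAlgebra R N) := Ideal.map (algebraMap R (SymmetricAlgebra R N)) m
  let U' : Set (PrimeSpectrum (SymmetricAlgebra R N)) := U.1
  obtain ⟨t, ht⟩ : ∃ t : Finset (SymmetricAlgebra R N),
      (PrimeSpectrum.zeroLocus (t : Set (SymmetricAlgebra R N)))ᶜ = U' :=
    PrimeSpectrum.isCompact_isOpen_iff.1 ⟨hU, U.2⟩
  -- membership criterion
  have hmem : ∀ {A : Type u} [CommRing A] (φ : SymmetricAlgebra R N →+* A) (P : PrimeSpectrum A),
      (∃ f ∈ t, φ f ∉ P.asIdeal) ↔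
        (Spec.map (CommRingCat.ofHom φ)).base P ∈
          (U : Set ↥(Spec (CommRingCat.of (SymmetricAlgebra R N)))) := by
    intro A _ φ P
    change _ ↔ PrimeSpectrum.comap φ P ∈ U'
    rw [← ht, Set.mem_compl_iff, PrimeSpectrum.mem_zeroLocus]
    constructor
    · rintro ⟨f, hf, hfP⟩ hsub
      exact hfP (hsub hf)
    · intro hns
      rw [Set.not_subset] at hns
      obtain ⟨f, hf, hfP⟩ := hns
      exact ⟨f, hf, hfP⟩
  -- `S ⧸ J` is nontrivial
  have hJ : J ≠ ⊤ := by
    let ψ : SymmetricAlgebra R N →+* R ⧸ m :=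
      (Ideal.Quotient.mk m).comp (SymmetricAlgebra.algebraMapInv (R := R) (M := N)).toRingHom
    have hle : J ≤ RingHom.ker ψ := by
      rw [Ideal.map_le_iff_le_comap]
      intro r hr
      rw [Ideal.mem_comap, RingHom.mem_ker]
      change Ideal.Quotient.mk m (SymmetricAlgebra.algebraMapInv
        (algebraMap R (SymmetricAlgebra R N) r)) = 0
      rw [SymmetricAlgebra.algebraMap_leftInverse]
      exact Ideal.Quotient.eq_zero_iff_mem.2 hr
    intro htop
    have h1 : (1 : SymmetricAlgebra R N) ∈ RingHom.ker ψ := hle (htop ▸ Submodule.mem_top)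
    rw [RingHom.mem_ker, map_one] at h1
    exact one_ne_zero h1
  haveI : Nontrivial (SymmetricAlgebra R N ⧸ J) := Ideal.Quotient.nontrivial_iff.2 hJ
  haveI : Nonempty ↥(Spec (CommRingCat.of (SymmetricAlgebra R N ⧸ J))) :=
    inferInstanceAs (Nonempty (PrimeSpectrum (SymmetricAlgebra R N ⧸ J)))
  obtain ⟨Q, hQ⟩ := (hdense m).nonempty
  obtain ⟨f, hft, hfQ⟩ := (hmem (Ideal.Quotient.mk J) Q).2 hQ
  have hfJ : f ∉ J := by
    intro hfJ
    apply hfQ
    rw [Ideal.Quotient.eq_zero_iff_mem.2 hfJ]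
    exact Ideal.zero_mem _
  -- coordinates
  obtain ⟨n, π, hπ⟩ := Module.Finite.exists_fin' R N
  obtain ⟨σ, hσ⟩ := Module.projective_lifting_property π LinearMap.id hπ
  let p : MvPolynomial (Fin n) R →ₐ[R] SymmetricAlgebra R N :=
    MvPolynomial.aeval (fun k => SymmetricAlgebra.ι R N (π (fun j => if k = j then 1 else 0)))
  have hp : p.comp (LGVb.iHom σ) = AlgHom.id R (SymmetricAlgebra R N) := by
    have h1 := LGVb.comp_i σ
      (fun k => SymmetricAlgebra.ι R N (π (fun j => if k = j then 1 else 0)))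
    rw [LGVb.phiOf_coords π σ hσ (SymmetricAlgebra.ι R N), SymmetricAlgebra.lift_ι] at h1
    exact h1
  have hpF : p (LGVb.iHom σ f) = f := by
    have := AlgHom.congr_fun hp f
    exact this
  have hFne : MvPolynomial.map (Ideal.Quotient.mk m) (LGVb.iHom σ f) ≠ 0 := by
    intro h0
    have h1 : LGVb.iHom σ f ∈ RingHom.ker
        (MvPolynomial.map (Ideal.Quotient.mk m) : MvPolynomial (Fin n) R →+* _) :=
      (RingHom.mem_ker).2 h0
    rw [MvPolynomial.ker_map, Ideal.mk_ker] at h1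
    have h2 : p (LGVb.iHom σ f) ∈ Ideal.map p.toRingHom
        (Ideal.map (MvPolynomial.C : R →+* MvPolynomial (Fin n) R) m) :=
      Ideal.mem_map_of_mem p.toRingHom h1
    rw [Ideal.map_map, hpF] at h2
    have h3 : p.toRingHom.comp (MvPolynomial.C : R →+* MvPolynomial (Fin n) R) =
        algebraMap R (SymmetricAlgebra R N) := by
      ext r
      exact p.commutes r
    rw [h3] at h2
    exact hfJ h2
  obtain ⟨x, hx⟩ : ∃ x : Fin n → R ⧸ m,
      MvPolynomial.eval x (MvPolynomial.map (Ideal.Quotient.mk m) (LGVb.iHom σ f)) ≠ 0 := by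
    by_contra hcon
    push Not at hcon
    apply hFne
    apply MvPolynomial.funext
    intro x
    rw [hcon x, map_zero]
  refine ⟨LGVb.phiOf σ x, ?_⟩
  rintro _ ⟨P, rfl⟩
  apply (hmem (SymmetricAlgebra.lift (LGVb.phiOf σ x)).toRingHom P).1
  refine ⟨f, hft, ?_⟩
  have hval : (SymmetricAlgebra.lift (LGVb.phiOf σ x)).toRingHom f =
      MvPolynomial.eval x (MvPolynomial.map (Ideal.Quotient.mk m) (LGVb.iHom σ f)) := by
    rw [MvPolynomial.eval_map, ← LGVb.comp_i σ x]
    change MvPolynomial.aeval x (LGVb.iHom σ f) = _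
    rw [MvPolynomial.aeval_def]
    rfl
  rw [hval]
  intro hmemP
  obtain ⟨b, hb⟩ := Ideal.Quotient.exists_inv hx
  exact P.2.ne_top (Ideal.eq_top_of_isUnit_mem _ hmemP (IsUnit.of_mul_eq_one b hb))

end Groth.Agent.Helper8.LGDense
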