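import Groth.Prelude.Def_W4c4lgringredgrpLG
import Mathlib

set_option autoImplicit false
open AlgebraicGeometry
universe u
open LGRing

namespace Groth.Agent.Helper8.LGPt

variable {R : Type u} [CommRing R]

/-- the auxiliary polynomial `∑ⱼ Yⱼ fⱼ(X)` -/
noncomputable def gPoly (n r : ℕ) (F : Fin r → MvPolynomial (Fin n) R) :
    MvPolynomial (Fin (n + r)) R :=
  ∑ j : Fin r, MvPolynomial.X (Fin.natAdd n j) * MvPolynomial.rename (Fin.castAdd r) (F j)

lemma aeval_gPoly {S : Type*} [CommRing S] [Algebra R S] (n r : ℕ)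
    (F : Fin r → MvPolynomial (Fin n) R) (s : Fin (n + r) → S) :
    MvPolynomial.aeval s (gPoly n r F) =
      ∑ j : Fin r, s (Fin.natAdd n j) *
        MvPolynomial.aeval (fun i => s (Fin.castAdd r i)) (F j) := by
  unfold gPoly
  rw [map_sum]
  refine Finset.sum_congr rfl (fun j _ => ?_)
  rw [map_mul, MvPolynomial.aeval_X, MvPolynomial.aeval_rename]
  rfl

theorem main (hR : LGRing.IsLGRing R)
    (n : ℕ) (U : (Spec (CommRingCat.of (MvPolynomial (Fin n) R))).Opens)
    (hU : IsCompact (U : Set ↥(Spec (CommRingCat.of (MvPolynomial (Fin n) R)))))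
    (h : ∀ (m : Ideal R) [m.IsMaximal], ∃ x : Fin n → R ⧸ m,
      Set.range (Spec.map (CommRingCat.ofHom (MvPolynomial.eval₂Hom (Ideal.Quotient.mk m) x))).base ⊆
        (U : Set ↥(Spec (CommRingCat.of (MvPolynomial (Fin n) R))))) :
    ∃ x : Fin n → R, Set.range (Spec.map (CommRingCat.ofHom (MvPolynomial.eval x))).base ⊆
      (U : Set ↥(Spec (CommRingCat.of (MvPolynomial (Fin n) R)))) := by
  let U' : Set (PrimeSpectrum (MvPolynomial (Fin n) R)) := U.1
  obtain ⟨t, ht⟩ : ∃ t : Finset (MvPolynomial (Fin n) R),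
      (PrimeSpectrum.zeroLocus (t : Set (MvPolynomial (Fin n) R)))ᶜ = U' :=
    PrimeSpectrum.isCompact_isOpen_iff.1 ⟨hU, U.2⟩
  let e : (t : Type u) ≃ Fin t.card := t.equivFin
  let F : Fin t.card → MvPolynomial (Fin n) R := fun j => (e.symm j).1
  -- membership criterion
  have hmem : ∀ {A : Type u} [CommRing A] (φ : MvPolynomial (Fin n) R →+* A) (P : PrimeSpectrum A),
      (∃ j, φ (F j) ∉ P.asIdeal) ↔
        (Spec.map (CommRingCat.ofHom φ)).base P ∈
          (U : Set ↥(Spec (CommRingCat.of (MvPolynomial (Fin n) R)))) := by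
    intro A _ φ P
    change _ ↔ PrimeSpectrum.comap φ P ∈ U'
    rw [← ht, Set.mem_compl_iff, PrimeSpectrum.mem_zeroLocus]
    constructor
    · rintro ⟨j, hj⟩ hsub
      exact hj (hsub (e.symm j).2)
    · intro hns
      rw [Set.not_subset] at hns
      obtain ⟨f, hf, hfP⟩ := hns
      refine ⟨e ⟨f, hf⟩, ?_⟩
      change φ ((e.symm (e ⟨f, hf⟩)).1) ∉ P.asIdeal
      rw [Equiv.symm_apply_apply]
      exact hfP
  -- the auxiliary polynomial represents a unit over every residue field
  have hres : ∀ (m : Ideal R) [m.IsMaximal], RepresentsUnit (gPoly n t.card F) (R ⧸ m) := by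
    intro m hm
    obtain ⟨x, hx⟩ := h m
    have h0 := hx ⟨(⊥ : PrimeSpectrum (R ⧸ m)), rfl⟩
    obtain ⟨j, hj⟩ := (hmem (MvPolynomial.eval₂Hom (Ideal.Quotient.mk m) x) ⊥).2 h0
    have hne : MvPolynomial.aeval x (F j) ≠ 0 := fun h0' => hj (by
      change MvPolynomial.eval₂Hom (Ideal.Quotient.mk m) x (F j) ∈ (⊥ : Ideal (R ⧸ m))
      rw [Ideal.mem_bot]
      exact h0')
    obtain ⟨b, hb⟩ := Ideal.Quotient.exists_inv hne
    refine ⟨Fin.append x (Pi.single j 1), ?_⟩
    rw [aeval_gPoly]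
    have hsum : ∑ j' : Fin t.card, (Fin.append x (Pi.single j 1) : Fin (n + t.card) → R ⧸ m)
          (Fin.natAdd n j') *
        MvPolynomial.aeval (fun i => (Fin.append x (Pi.single j 1) : Fin (n + t.card) → R ⧸ m)
          (Fin.castAdd t.card i)) (F j') = MvPolynomial.aeval x (F j) := by
      rw [Finset.sum_eq_single j]
      · have hfun : (fun i => (Fin.append x (Pi.single j 1) : Fin (n + t.card) → R ⧸ m)
            (Fin.castAdd t.card i)) = x := funext (fun i => Fin.append_left _ _ i)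
        rw [Fin.append_right, Pi.single_eq_same, one_mul, hfun]
      · intro j' _ hj'
        rw [Fin.append_right, Pi.single_eq_of_ne hj', zero_mul]
      · intro hj'
        exact absurd (Finset.mem_univ j) hj'
    rw [hsum]
    exact IsUnit.of_mul_eq_one b hb
  obtain ⟨s, hs⟩ := hR (n + t.card) (gPoly n t.card F) hres
  refine ⟨fun i => s (Fin.castAdd t.card i), ?_⟩
  rintro _ ⟨P, rfl⟩
  apply (hmem (MvPolynomial.eval (fun i => s (Fin.castAdd t.card i))) P).1
  by_contra hcon
  push Not at hcon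
  rw [aeval_gPoly] at hs
  have hmemP : ∑ j : Fin t.card, s (Fin.natAdd n j) *
      MvPolynomial.aeval (fun i => s (Fin.castAdd t.card i)) (F j) ∈ P.asIdeal := by
    apply Ideal.sum_mem
    intro j _
    apply Ideal.mul_mem_left
    have := hcon j
    rwa [← MvPolynomial.aeval_eq_eval] at this
  exact P.2.ne_top (Ideal.eq_top_of_isUnit_mem _ hmemP hs)

end Groth.Agent.Helper8.LGPt
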