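import Groth.Agent.Helper8.LGPt

set_option autoImplicit false
open AlgebraicGeometry
universe u
open LGRing

namespace Groth.Agent.Helper8.LGVb

variable {R : Type u} [CommRing R] {N : Type u} [AddCommGroup N] [Module R N]
  {n : ℕ} (π : (Fin n → R) →ₗ[R] N) (σ : N →ₗ[R] (Fin n → R))

/-- the linear form on `N` with coordinates `x` (through the section `σ`) -/
noncomputable def phiOf {A : Type*} [CommRing A] [Algebra R A] (x : Fin n → A) : N →ₗ[R] A :=
  (Fintype.linearCombination R x) ∘ₗ σ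

lemma phiOf_apply {A : Type*} [CommRing A] [Algebra R A] (x : Fin n → A) (m : N) :
    phiOf σ x m = ∑ k, (σ m) k • x k := by
  simp [phiOf, Fintype.linearCombination_apply]

/-- `Sym N → R[X]` induced by the section -/
noncomputable def iHom : SymmetricAlgebra R N →ₐ[R] MvPolynomial (Fin n) R :=
  SymmetricAlgebra.lift (phiOf σ (MvPolynomial.X : Fin n → MvPolynomial (Fin n) R))

lemma comp_i {A : Type*} [CommRing A] [Algebra R A] (x : Fin n → A) :
    (MvPolynomial.aeval x).comp (iHom σ) = SymmetricAlgebra.lift (phiOf σ x) := by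
  apply SymmetricAlgebra.algHom_ext
  ext m
  change (MvPolynomial.aeval x) (SymmetricAlgebra.lift (phiOf σ MvPolynomial.X)
    (SymmetricAlgebra.ι R N m)) = SymmetricAlgebra.lift (phiOf σ x) (SymmetricAlgebra.ι R N m)
  rw [SymmetricAlgebra.lift_ι_apply, SymmetricAlgebra.lift_ι_apply, phiOf_apply, phiOf_apply,
    map_sum]
  refine Finset.sum_congr rfl (fun k _ => ?_)
  rw [map_smul, MvPolynomial.aeval_X]

include π in
lemma phiOf_coords (hσ : π ∘ₗ σ = LinearMap.id) {A : Type*} [CommRing A] [Algebra R A]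
    (φ : N →ₗ[R] A) :
    phiOf σ (fun k => φ (π (fun j => if k = j then 1 else 0))) = φ := by
  ext m
  rw [phiOf_apply]
  have h1 : π (σ m) = m := LinearMap.congr_fun hσ m
  have h2 := LinearMap.pi_apply_eq_sum_univ π (σ m)
  calc ∑ k, (σ m) k • φ (π (fun j => if k = j then 1 else 0))
      = φ (∑ k, (σ m) k • π (fun j => if k = j then 1 else 0)) := by
        rw [map_sum]
        exact Finset.sum_congr rfl (fun k _ => (map_smul φ _ _).symm)
    _ = φ m := by rw [← h2, h1]

theorem exists_point [Module.Finite R N] [Module.Projective R N] (hR : LGRing.IsLGRing R)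
    (U : (Spec (CommRingCat.of (SymmetricAlgebra R N))).Opens)
    (hU : IsCompact (U : Set ↥(Spec (CommRingCat.of (SymmetricAlgebra R N)))))
    (h : ∀ (m : Ideal R) [m.IsMaximal], ∃ φ : N →ₗ[R] (R ⧸ m),
      Set.range (Spec.map (CommRingCat.ofHom (SymmetricAlgebra.lift φ).toRingHom)).base ⊆
        (U : Set ↥(Spec (CommRingCat.of (SymmetricAlgebra R N))))) :
    ∃ φ : N →ₗ[R] R,
      Set.range (Spec.map (CommRingCat.ofHom (SymmetricAlgebra.lift φ).toRingHom)).base ⊆
        (U : Set ↥(Spec (CommRingCat.of (SymmetricAlgebra R N)))) := by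
  obtain ⟨n, π, hπ⟩ := Module.Finite.exists_fin' R N
  obtain ⟨σ, hσ⟩ := Module.projective_lifting_property π LinearMap.id hπ
  let U₁ : (Spec (CommRingCat.of (MvPolynomial (Fin n) R))).Opens :=
    (Spec.map (CommRingCat.ofHom (iHom σ).toRingHom)) ⁻¹ᵁ U
  have hU₁ : IsCompact (U₁ : Set ↥(Spec (CommRingCat.of (MvPolynomial (Fin n) R)))) :=
    QuasiCompact.isCompact_preimage
      (f := Spec.map (CommRingCat.ofHom (iHom σ).toRingHom)) _ U.2 hU
  obtain ⟨x, hx⟩ := LGPt.main hR n U₁ hU₁ (fun m hm => by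
    obtain ⟨φ, hφ⟩ := h m
    refine ⟨fun k => φ (π (fun j => if k = j then 1 else 0)), ?_⟩
    rintro _ ⟨P, rfl⟩
    have h3 := hφ ⟨P, rfl⟩
    have hcomp : (SymmetricAlgebra.lift φ).toRingHom =
        (MvPolynomial.eval₂Hom (Ideal.Quotient.mk m)
          (fun k => φ (π (fun j => if k = j then 1 else 0)))).comp (iHom σ).toRingHom := by
      have h4 := comp_i σ (fun k => φ (π (fun j => if k = j then 1 else 0)))
      rw [phiOf_coords π σ hσ φ] at h4
      rw [← h4]
      rfl
    rw [hcomp, CommRingCat.ofHom_comp, Spec.map_comp] at h3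
    exact h3)
  refine ⟨phiOf σ x, ?_⟩
  rintro _ ⟨P, rfl⟩
  have h1 := hx ⟨P, rfl⟩
  have hcomp : (SymmetricAlgebra.lift (phiOf σ x)).toRingHom =
      (MvPolynomial.eval x).comp (iHom σ).toRingHom := by
    rw [← comp_i σ x]
    rfl
  rw [hcomp, CommRingCat.ofHom_comp, Spec.map_comp]
  exact h1

/-- the easy direction: an `R`-point gives points over all residue fields -/
theorem point_residue (U : (Spec (CommRingCat.of (SymmetricAlgebra R N))).Opens)
    (φ : N →ₗ[R] R)
    (hφ : Set.range (Spec.map (CommRingCat.ofHom (SymmetricAlgebra.lift φ).toRingHom)).base ⊆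
        (U : Set ↥(Spec (CommRingCat.of (SymmetricAlgebra R N))))) (m : Ideal R) :
    ∃ φ' : N →ₗ[R] (R ⧸ m),
      Set.range (Spec.map (CommRingCat.ofHom (SymmetricAlgebra.lift φ').toRingHom)).base ⊆
        (U : Set ↥(Spec (CommRingCat.of (SymmetricAlgebra R N)))) := by
  refine ⟨(Algebra.linearMap R (R ⧸ m)) ∘ₗ φ, ?_⟩
  rintro _ ⟨P, rfl⟩
  have hcomp : (SymmetricAlgebra.lift ((Algebra.linearMap R (R ⧸ m)) ∘ₗ φ)).toRingHom =
      (Ideal.Quotient.mk m).comp (SymmetricAlgebra.lift φ).toRingHom := by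
    have h4 : SymmetricAlgebra.lift ((Algebra.linearMap R (R ⧸ m)) ∘ₗ φ) =
        (Algebra.ofId R (R ⧸ m)).comp (SymmetricAlgebra.lift φ) := by
      apply SymmetricAlgebra.algHom_ext
      ext a
      simp
    rw [h4]
    rfl
  rw [hcomp, CommRingCat.ofHom_comp, Spec.map_comp]
  exact hφ ⟨_, rfl⟩

end Groth.Agent.Helper8.LGVb
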