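import Mathlib
import Groth.Prelude.Def_W4stkremschemesLRS

set_option autoImplicit false
universe u

namespace Groth.Agent.Helper8.LRSCl

open AlgebraicGeometry CategoryTheory TopologicalSpace Opposite

theorem isClosedImmersion_of {X Y : Scheme.{u}} (f : X ⟶ Y) (h1 : Topology.IsClosedEmbedding f)
    (h2 : TopCat.Presheaf.IsLocallySurjective f.c) : IsClosedImmersion f := by
  rw [isClosedImmersion_iff]
  refine ⟨⟨fun x => ?_⟩, h1⟩
  have hs := (TopCat.Presheaf.locally_surjective_iff_surjective_on_stalks f.c).mp h2 (f x)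
  have hiso : IsIso (X.presheaf.stalkPushforward CommRingCat f.base x) :=
    TopCat.Presheaf.stalkPushforward.stalkPushforward_iso_of_isInducing CommRingCat
      h1.isInducing X.presheaf x
  have hb := (ConcreteCategory.bijective_of_isIso (X.presheaf.stalkPushforward CommRingCat f.base x))
  exact hb.2.comp hs

theorem kerLocGen {X Y : Scheme.{u}} (f : X ⟶ Y) [IsAffineHom f] :
    LRSImm.KerLocallyGenerated f.toLRSHom := by
  intro x
  obtain ⟨_, ⟨U, hU, rfl⟩, hxU, -⟩ := Y.isBasis_affineOpens.exists_subset_of_mem_open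
    (Set.mem_univ x) isOpen_univ
  have hU : IsAffineOpen U := hU
  refine ⟨U, hxU, ↥(RingHom.ker (f.app U).hom), fun j => j.1,
    fun j => RingHom.mem_ker.mp j.2, ?_⟩
  intro x' hx'
  apply le_antisymm
  · rw [Ideal.span_le]
    rintro _ ⟨j, rfl⟩
    show _ ∈ RingHom.ker _
    rw [RingHom.mem_ker]
    have h := TopCat.Presheaf.stalkFunctor_map_germ_apply U x' hx' f.c j.1
    refine h.trans ?_
    have hj : (f.c.app (op U)) j.1 = 0 := RingHom.mem_ker.mp j.2
    rw [hj]
    exact map_zero _
  · intro t ht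
    replace ht : ((TopCat.Presheaf.stalkFunctor CommRingCat x').map f.c).hom t = 0 :=
      RingHom.mem_ker.mp ht
    obtain ⟨V, hxV, σ, rfl⟩ := Y.presheaf.exists_germ_eq t
    -- the image germ vanishes
    have h0 : (f.base _* X.presheaf).germ V x' hxV (f.c.app (op V) σ) = 0 := by
      rw [← TopCat.Presheaf.stalkFunctor_map_germ_apply]; exact ht
    obtain ⟨W, hxW, iU, iV, hW⟩ := TopCat.Presheaf.germ_eq (f.base _* X.presheaf) x' hxV hxV
      (f.c.app (op V) σ) 0 (by rw [h0, map_zero])
    rw [map_zero] at hW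
    obtain ⟨g, hgW, hxg⟩ := hU.exists_basicOpen_le ⟨x', hxW⟩ hx'
    have hgV : Y.basicOpen g ≤ V := hgW.trans iU.le
    set σ₂ : Γ(Y, Y.basicOpen g) := Y.presheaf.map (homOfLE hgV).op σ with hσ₂
    have hσ₂germ : Y.presheaf.germ (Y.basicOpen g) x' hxg σ₂ = Y.presheaf.germ V x' hxV σ :=
      TopCat.Presheaf.germ_res_apply _ _ _ _ _
    have hσ₂0 : f.c.app (op (Y.basicOpen g)) σ₂ = 0 := by
      have hnat := NatTrans.naturality_apply f.c (homOfLE hgV).op σ
      rw [hσ₂, hnat]
      have hcomp : (homOfLE hgV).op = iU.op ≫ (homOfLE hgW).op := by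
        rw [← op_comp]; congr 1
      rw [hcomp, Functor.map_comp, ConcreteCategory.comp_apply, hW, map_zero]
    obtain ⟨n, a, ha⟩ := exists_eq_pow_mul_of_isAffineOpen Y U hU g σ₂
    have hres : (f.app U a) |_ X.basicOpen (f.app U g) = 0 := by
      have e : X.basicOpen (f.app U g) ≤ f ⁻¹ᵁ Y.basicOpen g :=
        le_of_eq (Scheme.preimage_basicOpen f g).symm
      have hnat := NatTrans.naturality_apply f.c (homOfLE (Y.basicOpen_le g)).op a
      have h1 : (f.base _* X.presheaf).map (homOfLE (Y.basicOpen_le g)).op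
          (f.c.app (op U) a) = 0 := by
        rw [← hnat]
        have h2 : Y.presheaf.map (homOfLE (Y.basicOpen_le g)).op a =
            (g |_ Y.basicOpen g) ^ n * σ₂ := ha
        rw [h2, map_mul, hσ₂0, mul_zero]
      have h3 : (f.app U a) |_ X.basicOpen (f.app U g) =
          X.presheaf.map (homOfLE e).op ((f.base _* X.presheaf).map
            (homOfLE (Y.basicOpen_le g)).op (f.c.app (op U) a)) := by
        show X.presheaf.map _ (f.app U a) =
          X.presheaf.map (homOfLE e).op (X.presheaf.map _ (f.app U a))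
        rw [← ConcreteCategory.comp_apply (X.presheaf.map _) (X.presheaf.map (homOfLE e).op),
          ← Functor.map_comp]
        rfl
      rw [h3, h1, map_zero]
    obtain ⟨m, hm⟩ := exists_pow_mul_eq_zero_of_res_basicOpen_eq_zero_of_isAffineOpen X
      (hU.preimage f) (f.app U a) (f.app U g) hres
    have hmem : g ^ m * a ∈ RingHom.ker (f.app U).hom := by
      rw [RingHom.mem_ker, map_mul, map_pow]; exact hm
    have hu : IsUnit (Y.presheaf.germ U x' hx' g) := (Scheme.mem_basicOpen Y g x' hx').mp hxg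
    have hga : Y.presheaf.germ U x' hx' a =
        (Y.presheaf.germ U x' hx' g) ^ n * Y.presheaf.germ V x' hxV σ := by
      have e1 : Y.presheaf.germ (Y.basicOpen g) x' hxg (a |_ Y.basicOpen g) =
          Y.presheaf.germ U x' hx' a := TopCat.Presheaf.germ_res_apply _ _ _ _ _
      have e2 : Y.presheaf.germ (Y.basicOpen g) x' hxg (g |_ Y.basicOpen g) =
          Y.presheaf.germ U x' hx' g := TopCat.Presheaf.germ_res_apply _ _ _ _ _
      rw [← e1, ha, map_mul, map_pow, e2, hσ₂germ]
    refine (Ideal.unit_mul_mem_iff_mem _ (hu.pow (m + n))).mp ?_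
    have hfin : (Y.presheaf.germ U x' hx' g) ^ (m + n) * Y.presheaf.germ V x' hxV σ =
        Y.presheaf.germ U x' hx' (g ^ m * a) := by
      rw [map_mul, map_pow, hga, pow_add, mul_assoc]
    rw [hfin]
    exact Ideal.subset_span ⟨⟨g ^ m * a, hmem⟩, rfl⟩

theorem main {X Y : Scheme.{u}} (f : X ⟶ Y) (h1 : Topology.IsClosedEmbedding f)
    (h2 : TopCat.Presheaf.IsLocallySurjective f.c) :
    LRSImm.IsClosedImmersion f.toLRSHom := by
  haveI := isClosedImmersion_of f h1 h2
  exact ⟨h1, h2, kerLocGen f⟩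

end Groth.Agent.Helper8.LRSCl
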