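import Mathlib
import Groth.Prelude.Def_W4stkremschemesLRS

/-!
# Closed immersions of locally ringed spaces into affine schemes: the kernel is quasi-coherent
-/

universe u

namespace Groth.Agent.Helper8.LRSImmA

open AlgebraicGeometry CategoryTheory TopologicalSpace Opposite

variable {Z : LocallyRingedSpace.{u}} {X : Scheme.{u}} (i : Z ⟶ X.toLocallyRingedSpace)

/-- naturality of `i.c` on elements. -/
lemma c_res {U V : X.Opens} (h : V ≤ U) (s : Γ(X, U)) :
    Z.presheaf.map (homOfLE (show (Opens.map i.base).obj V ≤ (Opens.map i.base).obj U from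
      fun _ hx => h hx)).op (i.c.app (op U) s) =
      i.c.app (op V) (X.presheaf.map (homOfLE h).op s) :=
  (ConcreteCategory.congr_hom (i.c.naturality (homOfLE h).op) s).symm

lemma exists_local (hker : LRSImm.KerLocallyGenerated i) [IsAffine X] (r g : Γ(X, ⊤))
    (h0 : i.c.app (op (X.basicOpen g)) (X.presheaf.map (homOfLE le_top).op r) = 0) (x : X) :
    ∃ h : Γ(X, ⊤), x ∈ X.basicOpen h ∧ ∃ m : ℕ,
      i.c.app (op (X.basicOpen h)) (X.presheaf.map (homOfLE le_top).op (g ^ m * r)) = 0 := by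
  obtain ⟨U, hxU, ι, s, hs0, hspan⟩ := hker x
  obtain ⟨_, ⟨h, rfl⟩, hxh, hhU⟩ := Opens.isBasis_iff_nbhd.1 (AlgebraicGeometry.isBasis_basicOpen X) hxU
  refine ⟨h, hxh, ?_⟩
  have hD : IsAffineOpen (X.basicOpen h) := (isAffineOpen_top X).basicOpen h
  let ρ : Γ(X, X.basicOpen h) := X.presheaf.map (homOfLE le_top).op r
  let γ : Γ(X, X.basicOpen h) := X.presheaf.map (homOfLE le_top).op g
  let σ : ι → Γ(X, X.basicOpen h) := fun j => X.presheaf.map (homOfLE hhU).op (s j)
  let J : Ideal Γ(X, X.basicOpen h) := Ideal.span (Set.range σ)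
  have hJ : J ≤ RingHom.ker (i.c.app (op (X.basicOpen h))).hom := by
    rw [Ideal.span_le]; rintro _ ⟨j, rfl⟩
    rw [SetLike.mem_coe, RingHom.mem_ker]
    change i.c.app (op (X.basicOpen h)) (X.presheaf.map (homOfLE hhU).op (s j)) = 0
    rw [← c_res i hhU (s j), hs0 j, map_zero]
  have hγ : γ ∈ (J.colon {ρ}).radical := by
    rw [Ideal.radical_eq_sInf, Ideal.mem_sInf]
    rintro 𝔮 ⟨h𝔞, h𝔮⟩
    by_contra hγ𝔮
    let yq : PrimeSpectrum Γ(X, X.basicOpen h) := ⟨𝔮, h𝔮⟩
    have hy : hD.fromSpec yq ∈ X.basicOpen h := by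
      have := hD.range_fromSpec
      rw [← SetLike.mem_coe, ← this]; exact ⟨yq, rfl⟩
    letI := X.presheaf.algebra_section_stalk ⟨hD.fromSpec yq, hy⟩
    have hloc : IsLocalization.AtPrime (X.presheaf.stalk (hD.fromSpec yq)) 𝔮 :=
      hD.isLocalization_stalk' yq hy
    have hyg : hD.fromSpec yq ∈ X.basicOpen g := by
      rw [X.mem_basicOpen_top]
      have : X.presheaf.germ ⊤ (hD.fromSpec yq) trivial g =
          algebraMap Γ(X, X.basicOpen h) (X.presheaf.stalk (hD.fromSpec yq)) γ :=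
        (TopCat.Presheaf.germ_res_apply X.presheaf (homOfLE le_top) _ hy g).symm
      rw [this, IsLocalization.AtPrime.isUnit_to_map_iff _ 𝔮]; exact hγ𝔮
    have hyU : hD.fromSpec yq ∈ U := hhU hy
    have hz : ((TopCat.Presheaf.stalkFunctor CommRingCat (hD.fromSpec yq)).map i.c).hom
        (X.presheaf.germ (X.basicOpen h) (hD.fromSpec yq) hy ρ) = 0 := by
      have e1 : X.presheaf.germ (X.basicOpen h) (hD.fromSpec yq) hy ρ =
          X.presheaf.germ (X.basicOpen g) (hD.fromSpec yq) hyg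
            (X.presheaf.map (homOfLE le_top).op r) := by
        rw [TopCat.Presheaf.germ_res_apply, TopCat.Presheaf.germ_res_apply]
      rw [e1]
      erw [TopCat.Presheaf.stalkFunctor_map_germ_apply]
      rw [h0, map_zero]
      rfl
    have hker_y : X.presheaf.germ (X.basicOpen h) (hD.fromSpec yq) hy ρ ∈
        Ideal.span (Set.range fun j => X.presheaf.germ U (hD.fromSpec yq) hyU (s j)) :=
      (hspan _ hyU).ge (RingHom.mem_ker.2 hz)
    have e2 : Ideal.span (Set.range fun j => X.presheaf.germ U (hD.fromSpec yq) hyU (s j)) =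
        Ideal.map (algebraMap Γ(X, X.basicOpen h) (X.presheaf.stalk (hD.fromSpec yq))) J := by
      rw [Ideal.map_span, ← Set.range_comp]
      congr 2; ext j
      exact (TopCat.Presheaf.germ_res_apply X.presheaf (homOfLE hhU) _ hy (s j)).symm
    have hker_y' : algebraMap Γ(X, X.basicOpen h) (X.presheaf.stalk (hD.fromSpec yq)) ρ ∈
        Ideal.map (algebraMap Γ(X, X.basicOpen h) (X.presheaf.stalk (hD.fromSpec yq))) J := by
      rw [← e2]; exact hker_y
    rw [IsLocalization.mem_map_algebraMap_iff 𝔮.primeCompl] at hker_y'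
    obtain ⟨⟨a, m⟩, ham⟩ := hker_y'
    rw [← map_mul, IsLocalization.eq_iff_exists 𝔮.primeCompl] at ham
    obtain ⟨c, hc⟩ := ham
    have hmem : (c : Γ(X, X.basicOpen h)) * m ∈ J.colon {ρ} := by
      rw [Submodule.mem_colon_singleton, smul_eq_mul]
      have : (c : Γ(X, X.basicOpen h)) * m * ρ = c * a := by rw [← hc]; ring
      rw [this]; exact J.mul_mem_left _ a.2
    exact (𝔮.primeCompl.mul_mem c.2 m.2) (h𝔞 hmem)
  obtain ⟨m, hm⟩ := hγ
  rw [Submodule.mem_colon_singleton, smul_eq_mul] at hm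
  refine ⟨m, ?_⟩
  have : X.presheaf.map (homOfLE le_top).op (g ^ m * r) = γ ^ m * ρ := by
    rw [map_mul, map_pow]
  rw [this]
  exact RingHom.mem_ker.1 (hJ hm)

/-- Quasi-coherence of the kernel: if `r` restricted to `D(g)` dies in `O_Z`, then `g ^ m * r`
dies globally for some `m`. -/
lemma exists_pow_mul_eq_zero (hker : LRSImm.KerLocallyGenerated i) [IsAffine X] (r g : Γ(X, ⊤))
    (h0 : i.c.app (op (X.basicOpen g)) (X.presheaf.map (homOfLE le_top).op r) = 0) :
    ∃ m : ℕ, i.c.app (op ⊤) (g ^ m * r) = 0 := by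
  choose h hxh m hm using exists_local i hker r g h0
  obtain ⟨t, ht⟩ := isCompact_univ.elim_finite_subcover (fun x : X => (X.basicOpen (h x) : Set X))
    (fun x => (X.basicOpen (h x)).isOpen) (fun x _ => Set.mem_iUnion.2 ⟨x, hxh x⟩)
  refine ⟨t.sup m, ?_⟩
  have hloc : ∀ x ∈ t, i.c.app (op (X.basicOpen (h x)))
      (X.presheaf.map (homOfLE le_top).op (g ^ (t.sup m) * r)) = 0 := by
    intro x hx
    have hle : m x ≤ t.sup m := Finset.le_sup hx
    have : g ^ (t.sup m) * r = g ^ (t.sup m - m x) * (g ^ (m x) * r) := by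
      rw [← mul_assoc, ← pow_add, Nat.sub_add_cancel hle]
    rw [this, map_mul, map_mul, hm x, mul_zero]
  refine TopCat.Sheaf.eq_of_locally_eq' Z.sheaf
    (fun x : t => (Opens.map i.base).obj (X.basicOpen (h x.1))) ((Opens.map i.base).obj ⊤)
    (fun x => homOfLE (fun _ _ => trivial)) ?_ _ _ ?_
  · intro z _
    have hz := ht (Set.mem_univ (i.base z))
    simp only [Set.mem_iUnion] at hz
    obtain ⟨x, hxt, hzx⟩ := hz
    exact Opens.mem_iSup.2 ⟨⟨x, hxt⟩, hzx⟩
  · intro x
    refine Eq.trans ?_ (map_zero _).symm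
    exact (c_res i le_top _).trans (hloc x.1 x.2)

end Groth.Agent.Helper8.LRSImmA
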