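import Groth.Agent.Helper8.LRSImmA

/-!
# Closed immersions of locally ringed spaces into `Spec R` are `Spec (R/I)`
-/

universe u

namespace Groth.Agent.Helper8.LRSImmB

open AlgebraicGeometry CategoryTheory TopologicalSpace Opposite

lemma eq_zero_of_eq_bot (Z : LocallyRingedSpace.{u}) (V : Opens Z) (hV : V = ⊥)
    (s : Z.presheaf.obj (op V)) : s = 0 := by
  have : Subsingleton (Z.presheaf.obj (op V)) :=
    CommRingCat.subsingleton_of_isTerminal (Z.sheaf.isTerminalOfEqEmpty hV)
  exact Subsingleton.elim _ _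

/-- stalk maps are surjective for a locally surjective morphism with inducing base map. -/
lemma stalkMap_surjective {Z X : LocallyRingedSpace.{u}} (i : Z ⟶ X)
    (hind : Topology.IsInducing i.base)
    (hsurj : TopCat.Presheaf.IsLocallySurjective i.c) (z : Z) :
    Function.Surjective (i.stalkMap z) := by
  have h1 := (TopCat.Presheaf.locally_surjective_iff_surjective_on_stalks i.c).1 hsurj (i.base z)
  have := TopCat.Presheaf.stalkPushforward.stalkPushforward_iso_of_isInducing CommRingCat hind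
    Z.presheaf z
  have h2 : Function.Surjective (Z.presheaf.stalkPushforward CommRingCat i.base z) :=
    (ConcreteCategory.bijective_of_isIso _).2
  have e : i.stalkMap z = (TopCat.Presheaf.stalkFunctor CommRingCat (i.base z)).map i.c ≫
      Z.presheaf.stalkPushforward CommRingCat i.base z := rfl
  intro t
  obtain ⟨u, hu⟩ := h2 t
  obtain ⟨v, hv⟩ := h1 u
  refine ⟨v, ?_⟩
  rw [e]
  exact (congrArg _ hv).trans hu

/-- transfer of stalk surjectivity to the first factor. -/
lemma stalkMap_surjective_of_comp {A B C : LocallyRingedSpace.{u}} (a : A ⟶ B) (b : B ⟶ C)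
    (c : A ⟶ C) (h : c = a ≫ b) (z : A) (hc : Function.Surjective (c.stalkMap z)) :
    Function.Surjective (a.stalkMap z) := by
  subst h
  rw [LocallyRingedSpace.stalkMap_comp] at hc
  intro t
  obtain ⟨u, hu⟩ := hc t
  exact ⟨b.stalkMap (a.base z) u, hu⟩

/-- injectivity of a ring map out of a stalk of an affine scheme can be tested on germs of
global sections. -/
lemma injective_of_germ {Y : Scheme.{u}} [IsAffine Y] (q : Y) {T : Type u} [CommRing T]
    (f : Y.presheaf.stalk q →+* T)
    (h : ∀ b : Γ(Y, ⊤), f (Y.presheaf.germ ⊤ q trivial b) = 0 →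
      Y.presheaf.germ ⊤ q trivial b = 0) :
    Function.Injective f := by
  rw [injective_iff_map_eq_zero]
  intro a ha
  have hY : IsAffineOpen (⊤ : Y.Opens) := isAffineOpen_top Y
  letI := Y.presheaf.algebra_section_stalk (⟨q, trivial⟩ : (⊤ : Y.Opens))
  have hloc := hY.isLocalization_stalk ⟨q, trivial⟩
  obtain ⟨b, s, rfl⟩ := IsLocalization.exists_mk'_eq
    (hY.primeIdealOf ⟨q, trivial⟩).asIdeal.primeCompl a
  have hu := IsLocalization.map_units (Y.presheaf.stalk q) s
  have hspec := IsLocalization.mk'_spec (Y.presheaf.stalk q) b s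
  have hb : f (Y.presheaf.germ ⊤ q trivial b) = 0 := by
    change f (algebraMap Γ(Y, ⊤) (Y.presheaf.stalk q) b) = 0
    rw [← hspec, map_mul, ha, zero_mul]
  have hb0 := h b hb
  change algebraMap Γ(Y, ⊤) (Y.presheaf.stalk q) b = 0 at hb0
  rw [hb0] at hspec
  exact (hu.mul_left_eq_zero).1 hspec

section Main

variable (R : Type u) [CommRing R] (Z : LocallyRingedSpace.{u})
  (i : Z ⟶ Spec.toLocallyRingedSpace.obj (op (CommRingCat.of R)))

/-- The ring map `R → Γ(Z)`. -/
noncomputable def phi : CommRingCat.of R ⟶ LocallyRingedSpace.Γ.obj (op Z) :=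
  (Scheme.ΓSpecIso (CommRingCat.of R)).inv ≫ i.c.app (op ⊤)

lemma homEquiv_symm :
    (ΓSpec.locallyRingedSpaceAdjunction.homEquiv Z (op (CommRingCat.of R))).symm i =
      (phi R Z i).op := by
  rw [Adjunction.homEquiv_counit]; rfl

lemma phi_apply (r : R) :
    phi R Z i r = i.c.app (op ⊤) ((Scheme.ΓSpecIso (CommRingCat.of R)).inv r) := rfl

lemma exists_pow_mul_mem (hker : LRSImm.KerLocallyGenerated i) (r g : R)
    (h0 : i.c.app (op ((Spec (CommRingCat.of R)).basicOpen
        ((Scheme.ΓSpecIso (CommRingCat.of R)).inv g)))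
      ((Spec (CommRingCat.of R)).presheaf.map (homOfLE le_top).op
        ((Scheme.ΓSpecIso (CommRingCat.of R)).inv r)) = 0) :
    ∃ m : ℕ, phi R Z i (g ^ m * r) = 0 := by
  obtain ⟨m, hm⟩ := LRSImmA.exists_pow_mul_eq_zero (X := Spec (CommRingCat.of R)) i hker
    ((Scheme.ΓSpecIso (CommRingCat.of R)).inv r) ((Scheme.ΓSpecIso (CommRingCat.of R)).inv g) h0
  refine ⟨m, ?_⟩
  rw [phi_apply, map_mul, map_pow]
  exact hm

/-- compatibility of `ΓSpecIso` with the quotient map. -/
lemma appTop_quot (I : Ideal R) (g₀ : R) :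
    (Spec.map (CommRingCat.ofHom (Ideal.Quotient.mk I))).appTop
        ((Scheme.ΓSpecIso (CommRingCat.of R)).inv g₀) =
      (Scheme.ΓSpecIso (CommRingCat.of (R ⧸ I))).inv (Ideal.Quotient.mk I g₀) :=
  (ConcreteCategory.congr_hom
    (Scheme.ΓSpecIso_inv_naturality (CommRingCat.ofHom (Ideal.Quotient.mk I))) g₀).symm

lemma mem_basicOpen_quot (I : Ideal R) (g₀ : R) (q : Spec (CommRingCat.of (R ⧸ I))) :
    q ∈ (Spec (CommRingCat.of (R ⧸ I))).basicOpen
        ((Scheme.ΓSpecIso (CommRingCat.of (R ⧸ I))).inv (Ideal.Quotient.mk I g₀)) ↔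
      (Spec.map (CommRingCat.ofHom (Ideal.Quotient.mk I))).base q ∈
        (Spec (CommRingCat.of R)).basicOpen ((Scheme.ΓSpecIso (CommRingCat.of R)).inv g₀) := by
  rw [← appTop_quot, ← Scheme.preimage_basicOpen_top]
  rfl

lemma exists_inv_eq (g : Γ(Spec (CommRingCat.of R), ⊤)) :
    ∃ g₀ : R, (Scheme.ΓSpecIso (CommRingCat.of R)).inv g₀ = g :=
  ⟨(Scheme.ΓSpecIso (CommRingCat.of R)).hom g, Iso.hom_inv_id_apply _ g⟩

/-- A closed immersion of locally ringed spaces into `Spec R` is `Spec (R/I)` with `I` the kernel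
of `R → Γ(Z)`. -/
theorem main (hi : LRSImm.IsClosedImmersion i) (I : Ideal R)
    (hI : I = RingHom.ker (phi R Z i).hom) :
    ∃ e : Z ≅ Spec.toLocallyRingedSpace.obj (op (CommRingCat.of (R ⧸ I))),
      e.hom ≫ Spec.toLocallyRingedSpace.map (CommRingCat.ofHom (Ideal.Quotient.mk I)).op = i := by
  obtain ⟨hemb, hsurj, hker⟩ := hi
  have hφI : ∀ a ∈ I, (phi R Z i).hom a = 0 := fun a ha => by rw [hI] at ha; exact ha
  obtain ⟨φbar, hφbar⟩ : ∃ φbar : CommRingCat.of (R ⧸ I) ⟶ LocallyRingedSpace.Γ.obj (op Z),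
      φbar = CommRingCat.ofHom (Ideal.Quotient.lift I (phi R Z i).hom hφI) := ⟨_, rfl⟩
  have hfacφ : CommRingCat.ofHom (Ideal.Quotient.mk I) ≫ φbar = phi R Z i := by
    ext a; rw [hφbar]; exact Ideal.Quotient.lift_mk I _ hφI
  have hφbar_inj : Function.Injective φbar.hom := by
    rw [hφbar]
    apply RingHom.lift_injective_of_ker_le_ideal
    rw [hI]
  obtain ⟨i', hi'⟩ : ∃ i' : Z ⟶ Spec.toLocallyRingedSpace.obj (op (CommRingCat.of (R ⧸ I))),
      i' = ΓSpec.locallyRingedSpaceAdjunction.homEquiv Z (op (CommRingCat.of (R ⧸ I))) φbar.op :=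
    ⟨_, rfl⟩
  have hfac : i' ≫ Spec.toLocallyRingedSpace.map (CommRingCat.ofHom (Ideal.Quotient.mk I)).op = i := by
    rw [hi', ← Adjunction.homEquiv_naturality_right, ← op_comp, hfacφ, ← homEquiv_symm,
      Equiv.apply_symm_apply]
  have hF3 : (Scheme.ΓSpecIso (CommRingCat.of (R ⧸ I))).inv ≫ i'.c.app (op ⊤) = φbar := by
    have := (ΓSpec.locallyRingedSpaceAdjunction.homEquiv Z
      (op (CommRingCat.of (R ⧸ I)))).symm_apply_apply φbar.op
    rw [← hi', Adjunction.homEquiv_counit] at this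
    exact Quiver.Hom.op_inj this
  -- the scheme morphism j
  have hjcl : IsClosedImmersion (Spec.map (CommRingCat.ofHom (Ideal.Quotient.mk I))) :=
    IsClosedImmersion.spec_of_surjective _ Ideal.Quotient.mk_surjective
  have hjemb : Topology.IsClosedEmbedding
      (Spec.map (CommRingCat.ofHom (Ideal.Quotient.mk I))).base :=
    (Spec.map (CommRingCat.ofHom (Ideal.Quotient.mk I))).isClosedEmbedding
  have hbase : ∀ z, (Spec.map (CommRingCat.ofHom (Ideal.Quotient.mk I))).base (i'.base z) =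
      i.base z := fun z => by
    have := congrArg (fun f => f.base z) hfac
    exact this
  have hi'emb : Topology.IsClosedEmbedding i'.base := by
    refine (Topology.IsClosedEmbedding.of_comp_iff hjemb).1 ?_
    have : ((Spec.map (CommRingCat.ofHom (Ideal.Quotient.mk I))).base ∘ i'.base :
        Z → Spec (CommRingCat.of R)) = i.base := funext hbase
    rw [this]; exact hemb
  have hsurj' : Function.Surjective i'.base := by
    intro q
    by_contra hq
    have hp : (Spec.map (CommRingCat.ofHom (Ideal.Quotient.mk I))).base q ∉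
        Set.range i.base := by
      rintro ⟨z, hz⟩
      exact hq ⟨z, hjemb.injective ((hbase z).trans hz)⟩
    have hopen : IsOpen (Set.range i.base)ᶜ := hemb.isClosed_range.isOpen_compl
    obtain ⟨_, ⟨g, rfl⟩, hpg, hgle⟩ := Opens.isBasis_iff_nbhd.1
      (isBasis_basicOpen (Spec (CommRingCat.of R))) (U := ⟨_, hopen⟩) hp
    obtain ⟨g₀, rfl⟩ := exists_inv_eq R g
    have hempty : (Opens.map i.base).obj ((Spec (CommRingCat.of R)).basicOpen
        ((Scheme.ΓSpecIso (CommRingCat.of R)).inv g₀)) = ⊥ := by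
      ext z
      constructor
      · intro hz; exact (hgle hz ⟨z, rfl⟩).elim
      · intro hz; exact hz.elim
    obtain ⟨m, hm⟩ := exists_pow_mul_mem R Z i hker 1 g₀ (eq_zero_of_eq_bot Z _ hempty _)
    have hmI : g₀ ^ (m + 1) ∈ I := by
      have : g₀ ^ m * 1 ∈ I := by rw [hI]; exact hm
      rw [mul_one] at this
      rw [pow_succ]; exact I.mul_mem_right _ this
    have hq1 := (mem_basicOpen_quot R I g₀ q).2 hpg
    have hnil : ((Scheme.ΓSpecIso (CommRingCat.of (R ⧸ I))).inv (Ideal.Quotient.mk I g₀)) ^ (m + 1)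
        = 0 := by
      rw [← map_pow, ← map_pow, Ideal.Quotient.eq_zero_iff_mem.2 hmI, map_zero]
    rw [← Scheme.basicOpen_pow _ _ (Nat.succ_pos m), hnil, Scheme.basicOpen_zero] at hq1
    exact hq1
  have hstalk : ∀ z : Z, IsIso (i'.stalkMap z) := by
    intro z
    rw [ConcreteCategory.isIso_iff_bijective]
    refine ⟨?_, stalkMap_surjective_of_comp i' _ i hfac.symm z
      (stalkMap_surjective i hemb.isInducing hsurj z)⟩
    refine injective_of_germ (Y := Spec (CommRingCat.of (R ⧸ I))) (i'.base z)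
      (i'.stalkMap z).hom ?_
    intro b hb
    obtain ⟨sbar, rfl⟩ := exists_inv_eq (R ⧸ I) b
    obtain ⟨r, rfl⟩ := Ideal.Quotient.mk_surjective sbar
    have h1 : i'.c.app (op ⊤) ((Scheme.ΓSpecIso (CommRingCat.of (R ⧸ I))).inv
        (Ideal.Quotient.mk I r)) = phi R Z i r := by
      have e1 := ConcreteCategory.congr_hom hF3 (Ideal.Quotient.mk I r)
      have e2 := ConcreteCategory.congr_hom hfacφ r
      exact e1.trans e2
    have h2 : Z.presheaf.germ ((Opens.map i'.base).obj ⊤) z trivial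
        (i'.c.app (op ⊤) ((Scheme.ΓSpecIso (CommRingCat.of (R ⧸ I))).inv
          (Ideal.Quotient.mk I r))) = 0 := by
      exact (LocallyRingedSpace.stalkMap_germ_apply i' ⊤ z trivial _).symm.trans hb
    have h3 : Z.presheaf.germ ⊤ z trivial (phi R Z i r) = 0 := by rw [← h1]; exact h2
    obtain ⟨W, hzW, iU, iV, hres⟩ := TopCat.Presheaf.germ_eq Z.presheaf (U := ⊤) (V := ⊤) z trivial trivial
      (phi R Z i r) (0 : Z.presheaf.obj (op ⊤)) (by rw [h3, map_zero])
    rw [map_zero] at hres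
    obtain ⟨W', hW'open, hW'eq⟩ := hemb.isInducing.isOpen_iff.1 W.2
    have hzW' : i.base z ∈ (⟨W', hW'open⟩ : Opens (Spec (CommRingCat.of R))) := by
      change z ∈ i.base ⁻¹' W'; rw [hW'eq]; exact hzW
    obtain ⟨_, ⟨g, rfl⟩, hzg, hgle⟩ := Opens.isBasis_iff_nbhd.1
      (isBasis_basicOpen (Spec (CommRingCat.of R))) hzW'
    obtain ⟨g₀, rfl⟩ := exists_inv_eq R g
    have hVW : (Opens.map i.base).obj ((Spec (CommRingCat.of R)).basicOpen
        ((Scheme.ΓSpecIso (CommRingCat.of R)).inv g₀)) ≤ W := by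
      intro y hy
      have : y ∈ i.base ⁻¹' W' := hgle hy
      rw [hW'eq] at this; exact this
    have h0 : i.c.app (op ((Spec (CommRingCat.of R)).basicOpen
        ((Scheme.ΓSpecIso (CommRingCat.of R)).inv g₀)))
      ((Spec (CommRingCat.of R)).presheaf.map (homOfLE le_top).op
        ((Scheme.ΓSpecIso (CommRingCat.of R)).inv r)) = 0 := by
      refine ((LRSImmA.c_res (X := Spec (CommRingCat.of R)) i le_top _).symm.trans ?_)
      have := congrArg (Z.presheaf.map (homOfLE hVW).op) hres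
      rw [map_zero] at this
      refine Eq.trans ?_ this
      exact ConcreteCategory.congr_hom (Z.presheaf.map_comp iU.op (homOfLE hVW).op) (phi R Z i r)
    obtain ⟨m, hm⟩ := exists_pow_mul_mem R Z i hker r g₀ h0
    have hmI : g₀ ^ m * r ∈ I := by rw [hI]; exact hm
    have hunit : IsUnit ((Spec (CommRingCat.of (R ⧸ I))).presheaf.germ ⊤ (i'.base z) trivial
        ((Scheme.ΓSpecIso (CommRingCat.of (R ⧸ I))).inv (Ideal.Quotient.mk I g₀))) := by
      refine ((Spec (CommRingCat.of (R ⧸ I))).mem_basicOpen_top _ _).1 ?_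
      refine (mem_basicOpen_quot R I g₀ _).2 ?_
      have hb := hbase z
      exact hb.symm ▸ hzg
    have hmul : ((Scheme.ΓSpecIso (CommRingCat.of (R ⧸ I))).inv (Ideal.Quotient.mk I g₀)) ^ m *
        (Scheme.ΓSpecIso (CommRingCat.of (R ⧸ I))).inv (Ideal.Quotient.mk I r) = 0 := by
      rw [← map_pow, ← map_mul, ← map_pow, ← map_mul, Ideal.Quotient.eq_zero_iff_mem.2 hmI,
        map_zero]
    have := congrArg ((Spec (CommRingCat.of (R ⧸ I))).presheaf.germ ⊤ (i'.base z) trivial) hmul
    rw [map_mul, map_pow, map_zero] at this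
    exact ((hunit.pow m).mul_right_eq_zero).1 this
  have hopen : Topology.IsOpenEmbedding i'.base :=
    (isHomeomorph_iff_isEmbedding_surjective.2 ⟨hi'emb.isEmbedding, hsurj'⟩).isOpenEmbedding
  have := hstalk
  have := LocallyRingedSpace.IsOpenImmersion.of_stalk_iso i' hopen
  have : Epi i'.base := (TopCat.epi_iff_surjective _).2 hsurj'
  have := LocallyRingedSpace.IsOpenImmersion.to_iso i'
  exact ⟨asIso i', hfac⟩

end Main

end Groth.Agent.Helper8.LRSImmB
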