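import Groth.Agent.Helper8.LRSImmB

/-!
# Closed immersions of locally ringed spaces into schemes: base change along open immersions,
and the source is a scheme
-/

universe u
open AlgebraicGeometry CategoryTheory TopologicalSpace Opposite TopCat.Presheaf

namespace Groth.Agent.Helper8.LRSImmC

/-- naturality of `stalkPushforward` in the presheaf. -/
lemma stalkPushforward_naturality {A B : TopCat.{u}} (f : A ⟶ B)
    {F G : A.Presheaf CommRingCat.{u}} (α : F ⟶ G) (y : A) :
    (stalkFunctor CommRingCat (f y)).map ((pushforward CommRingCat f).map α) ≫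
        G.stalkPushforward CommRingCat f y =
      F.stalkPushforward CommRingCat f y ≫ (stalkFunctor CommRingCat y).map α := by
  refine stalk_hom_ext _ fun U hU => ?_
  erw [stalkFunctor_map_germ_assoc]
  erw [stalkPushforward_germ, stalkPushforward_germ_assoc, stalkFunctor_map_germ]
  rfl

/-- A morphism of presheaves which is bijective on all small opens around `x` is bijective on the
stalk at `x`. -/
lemma stalkFunctor_map_bijective_of_local {C : TopCat.{u}} {F G : C.Presheaf CommRingCat.{u}}
    (α : F ⟶ G) (x : C) (T : Opens C) (hxT : x ∈ T)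
    (hT : ∀ V : Opens C, V ≤ T → Function.Bijective (α.app (op V))) :
    Function.Bijective ((stalkFunctor CommRingCat x).map α) := by
  constructor
  · rw [injective_iff_map_eq_zero]
    intro t ht
    obtain ⟨V, hxV, s, rfl⟩ := F.exists_germ_eq t
    rw [stalkFunctor_map_germ_apply] at ht
    obtain ⟨W, hxW, iU, iV, hres⟩ := G.germ_eq (U := V) (V := V) x hxV hxV (α.app (op V) s) 0
      (ht.trans (map_zero _).symm)
    rw [map_zero] at hres
    have hW'V : W ⊓ T ≤ V := inf_le_left.trans iU.le
    have h1 : α.app (op (W ⊓ T)) (F.map (homOfLE hW'V).op s) = 0 := by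
      have hn := ConcreteCategory.congr_hom (α.naturality (homOfLE hW'V).op) s
      rw [ConcreteCategory.comp_apply, ConcreteCategory.comp_apply] at hn
      rw [hn]
      have : (homOfLE hW'V).op = iU.op ≫ (homOfLE (inf_le_left : W ⊓ T ≤ W)).op := rfl
      rw [this, Functor.map_comp, ConcreteCategory.comp_apply, hres, map_zero]
    have h2 : F.map (homOfLE hW'V).op s = 0 :=
      (hT _ inf_le_right).1 (h1.trans (map_zero _).symm)
    have hxWT : x ∈ W ⊓ T := ⟨hxW, hxT⟩
    refine (germ_res_apply F (homOfLE hW'V) x hxWT s).symm.trans ?_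
    rw [h2]; exact map_zero _
  · intro t
    obtain ⟨V, hxV, s, rfl⟩ := G.exists_germ_eq t
    obtain ⟨s', hs'⟩ := (hT (V ⊓ T) inf_le_right).2 (G.map (homOfLE (inf_le_left : V ⊓ T ≤ V)).op s)
    have hxVT : x ∈ V ⊓ T := ⟨hxV, hxT⟩
    refine ⟨F.germ (V ⊓ T) x hxVT s', ?_⟩
    rw [stalkFunctor_map_germ_apply, hs', germ_res_apply]

section LRS

variable {A B C : LocallyRingedSpace.{u}}

lemma comp_c_eq (a : A ⟶ B) (b : B ⟶ C) :
    (a ≫ b).c = b.c ≫ (pushforward CommRingCat b.base).map a.c := rfl

lemma bijective_c_app (p : A ⟶ B) [LocallyRingedSpace.IsOpenImmersion p] (V : Opens B)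
    (hV : (V : Set B) ⊆ Set.range p.base) : Function.Bijective (p.c.app (op V)) := by
  have : IsIso (p.c.app (op V)) :=
    PresheafedSpace.IsOpenImmersion.isIso_of_subset p.toHom V hV
  exact ConcreteCategory.bijective_of_isIso _

/-- key equation, presheaf level. -/
lemma K1_eq_presheaf {B' C' : TopCat.{u}} (b : B' ⟶ C') {P : C'.Presheaf CommRingCat.{u}}
    {F G : B'.Presheaf CommRingCat.{u}} (β : P ⟶ b _* F) (α : F ⟶ G) (y : B') :
    (stalkFunctor CommRingCat (b y)).map (β ≫ (pushforward CommRingCat b).map α) ≫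
        G.stalkPushforward CommRingCat b y =
      ((stalkFunctor CommRingCat (b y)).map β ≫ F.stalkPushforward CommRingCat b y) ≫
        (stalkFunctor CommRingCat y).map α := by
  refine (congrArg (· ≫ G.stalkPushforward CommRingCat b y)
    ((stalkFunctor CommRingCat (b y)).map_comp β ((pushforward CommRingCat b).map α))).trans ?_
  refine (Category.assoc _ _ _).trans ?_
  refine (congrArg ((stalkFunctor CommRingCat (b y)).map β ≫ ·)
    (stalkPushforward_naturality b α y)).trans ?_
  exact (Category.assoc _ _ _).symm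

/-- key equation for a composite with a map `b` on the target side. -/
lemma K1_eq (a : A ⟶ B) (b : B ⟶ C) (y : B) :
    (stalkFunctor CommRingCat (b.base y)).map (a ≫ b).c ≫
      (a.base _* A.presheaf).stalkPushforward CommRingCat b.base y =
    b.stalkMap y ≫ (stalkFunctor CommRingCat y).map a.c :=
  K1_eq_presheaf b.base b.c a.c y

lemma K1_ker (a : A ⟶ B) (b : B ⟶ C) [LocallyRingedSpace.IsOpenImmersion b] (y : B) :
    RingHom.ker ((stalkFunctor CommRingCat (b.base y)).map (a ≫ b).c).hom =
      Ideal.comap (b.stalkMap y).hom (RingHom.ker ((stalkFunctor CommRingCat y).map a.c).hom) := by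
  have hb : Topology.IsInducing b.base :=
    (PresheafedSpace.IsOpenImmersion.base_open (f := b.toHom)).isInducing
  have := TopCat.Presheaf.stalkPushforward.stalkPushforward_iso_of_isInducing CommRingCat hb
    (a.base _* A.presheaf) y
  have hinj : Function.Injective
      ((a.base _* A.presheaf).stalkPushforward CommRingCat b.base y) :=
    (ConcreteCategory.bijective_of_isIso _).1
  have key : ∀ t, ((a.base _* A.presheaf).stalkPushforward CommRingCat b.base y)
      (((stalkFunctor CommRingCat (b.base y)).map (a ≫ b).c) t) =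
      ((stalkFunctor CommRingCat y).map a.c) ((b.stalkMap y) t) :=
    fun t => ConcreteCategory.congr_hom (K1_eq a b y) t
  refine le_antisymm (fun t ht => ?_) (fun t ht => ?_)
  · refine Ideal.mem_comap.2 (RingHom.mem_ker.2 ?_)
    have h : ((stalkFunctor CommRingCat (b.base y)).map (a ≫ b).c) t = 0 := RingHom.mem_ker.1 ht
    exact (key t).symm.trans ((congrArg
      (fun u => ((a.base _* A.presheaf).stalkPushforward CommRingCat b.base y) u) h).trans
      (map_zero _))
  · refine RingHom.mem_ker.2 (hinj ?_)
    have h : ((stalkFunctor CommRingCat y).map a.c) ((b.stalkMap y) t) = 0 :=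
      RingHom.mem_ker.1 (Ideal.mem_comap.1 ht)
    exact (key t).trans (h.trans (map_zero _).symm)

lemma K1_surj (a : A ⟶ B) (b : B ⟶ C) [LocallyRingedSpace.IsOpenImmersion b] (y : B)
    (h : Function.Surjective ((stalkFunctor CommRingCat (b.base y)).map (a ≫ b).c)) :
    Function.Surjective ((stalkFunctor CommRingCat y).map a.c) := by
  have hb : Topology.IsInducing b.base :=
    (PresheafedSpace.IsOpenImmersion.base_open (f := b.toHom)).isInducing
  have := TopCat.Presheaf.stalkPushforward.stalkPushforward_iso_of_isInducing CommRingCat hb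
    (a.base _* A.presheaf) y
  have hsurj : Function.Surjective
      ((a.base _* A.presheaf).stalkPushforward CommRingCat b.base y) :=
    (ConcreteCategory.bijective_of_isIso _).2
  intro u
  obtain ⟨v, hv⟩ := hsurj u
  obtain ⟨t, ht⟩ := h v
  refine ⟨b.stalkMap y t, ?_⟩
  have := ConcreteCategory.congr_hom (K1_eq a b y) t
  refine this.symm.trans ?_
  exact (congrArg _ ht).trans hv

lemma K2_bij (p : A ⟶ B) [LocallyRingedSpace.IsOpenImmersion p] (i : B ⟶ C) (x : C)
    (T : Opens C) (hxT : x ∈ T) (hT : ∀ z : B, i.base z ∈ T → z ∈ Set.range p.base) :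
    Function.Bijective
      ((stalkFunctor CommRingCat x).map ((pushforward CommRingCat i.base).map p.c)) := by
  refine stalkFunctor_map_bijective_of_local _ x T hxT fun V hV => ?_
  exact bijective_c_app p ((Opens.map i.base).obj V) (fun z hz => hT z (hV hz))

lemma K2_eq (p : A ⟶ B) (i : B ⟶ C) (x : C) :
    (stalkFunctor CommRingCat x).map (p ≫ i).c =
      (stalkFunctor CommRingCat x).map i.c ≫
        (stalkFunctor CommRingCat x).map ((pushforward CommRingCat i.base).map p.c) :=
  (stalkFunctor CommRingCat x).map_comp i.c ((pushforward CommRingCat i.base).map p.c)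

lemma K2_ker (p : A ⟶ B) [LocallyRingedSpace.IsOpenImmersion p] (i : B ⟶ C) (x : C)
    (T : Opens C) (hxT : x ∈ T) (hT : ∀ z : B, i.base z ∈ T → z ∈ Set.range p.base) :
    RingHom.ker ((stalkFunctor CommRingCat x).map (p ≫ i).c).hom =
      RingHom.ker ((stalkFunctor CommRingCat x).map i.c).hom := by
  have hbij := K2_bij p i x T hxT hT
  have key : ∀ t, ((stalkFunctor CommRingCat x).map (p ≫ i).c) t =
      ((stalkFunctor CommRingCat x).map ((pushforward CommRingCat i.base).map p.c))
        (((stalkFunctor CommRingCat x).map i.c) t) :=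
    fun t => ConcreteCategory.congr_hom (K2_eq p i x) t
  refine le_antisymm (fun t ht => ?_) (fun t ht => ?_)
  · refine RingHom.mem_ker.2 (hbij.1 ?_)
    have h : ((stalkFunctor CommRingCat x).map (p ≫ i).c) t = 0 := RingHom.mem_ker.1 ht
    exact (key t).symm.trans (h.trans (map_zero _).symm)
  · refine RingHom.mem_ker.2 ?_
    have h : ((stalkFunctor CommRingCat x).map i.c) t = 0 := RingHom.mem_ker.1 ht
    exact (key t).trans ((congrArg (fun u => ((stalkFunctor CommRingCat x).map
      ((pushforward CommRingCat i.base).map p.c)) u) h).trans (map_zero _))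

lemma K2_surj (p : A ⟶ B) [LocallyRingedSpace.IsOpenImmersion p] (i : B ⟶ C) (x : C)
    (T : Opens C) (hxT : x ∈ T) (hT : ∀ z : B, i.base z ∈ T → z ∈ Set.range p.base)
    (h : Function.Surjective ((stalkFunctor CommRingCat x).map i.c)) :
    Function.Surjective ((stalkFunctor CommRingCat x).map (p ≫ i).c) := by
  have hbij := K2_bij p i x T hxT hT
  intro u
  obtain ⟨v, hv⟩ := hbij.2 u
  obtain ⟨t, ht⟩ := h v
  refine ⟨t, ?_⟩
  refine (ConcreteCategory.congr_hom (K2_eq p i x) t).trans ?_
  exact (congrArg (fun u => ((stalkFunctor CommRingCat x).map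
      ((pushforward CommRingCat i.base).map p.c)) u) ht).trans hv

end LRS

/-- Closed immersions of locally ringed spaces are stable under base change along open
immersions (given a commutative square which is cartesian on points). -/
theorem isClosedImmersion_of_cartesian {Z X Y Z' : LocallyRingedSpace.{u}} (i : Z ⟶ X)
    (hi : LRSImm.IsClosedImmersion i)
    (f : Y ⟶ X) [LocallyRingedSpace.IsOpenImmersion f] (p : Z' ⟶ Z)
    [LocallyRingedSpace.IsOpenImmersion p] (i' : Z' ⟶ Y) (comm : i' ≫ f = p ≫ i)
    (hcart : ∀ z : Z, i.base z ∈ Set.range f.base → z ∈ Set.range p.base) :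
    LRSImm.IsClosedImmersion i' := by
  obtain ⟨hemb, hsurj, hker⟩ := hi
  have hfopen : Topology.IsOpenEmbedding f.base :=
    PresheafedSpace.IsOpenImmersion.base_open (f := f.toHom)
  have hpopen : Topology.IsOpenEmbedding p.base :=
    PresheafedSpace.IsOpenImmersion.base_open (f := p.toHom)
  have hbase : ∀ w, f.base (i'.base w) = i.base (p.base w) :=
    fun w => congrArg (fun g => g.base w) comm
  obtain ⟨T, hTdef⟩ : ∃ T : Opens X, (T : Set X) = Set.range f.base :=
    ⟨⟨Set.range f.base, hfopen.isOpen_range⟩, rfl⟩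
  have hmemT : ∀ y : Y, f.base y ∈ T := fun y => by
    rw [← SetLike.mem_coe, hTdef]; exact ⟨y, rfl⟩
  have hT : ∀ z : Z, i.base z ∈ T → z ∈ Set.range p.base := fun z hz => by
    rw [← SetLike.mem_coe, hTdef] at hz; exact hcart z hz
  have hstalk_surj : ∀ x : X, Function.Surjective ((stalkFunctor CommRingCat x).map i.c) :=
    (locally_surjective_iff_surjective_on_stalks i.c).1 hsurj
  refine ⟨?_, ?_, ?_⟩
  · -- topology
    have hemb' : Topology.IsEmbedding i'.base := by
      refine Topology.IsEmbedding.of_comp i'.base.hom.continuous f.base.hom.continuous ?_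
      have : (f.base ∘ i'.base : Z' → X) = i.base ∘ p.base := funext hbase
      rw [this]
      exact hemb.isEmbedding.comp hpopen.isEmbedding
    refine ⟨hemb', ?_⟩
    have : Set.range i'.base = f.base ⁻¹' Set.range i.base := by
      ext y; constructor
      · rintro ⟨w, rfl⟩; exact ⟨p.base w, (hbase w).symm⟩
      · rintro ⟨z, hz⟩
        obtain ⟨w, rfl⟩ := hcart z ⟨y, hz.symm⟩
        exact ⟨w, hfopen.injective ((hbase w).trans hz)⟩
    rw [this]
    exact hemb.isClosed_range.preimage f.base.hom.continuous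
  · rw [locally_surjective_iff_surjective_on_stalks]
    intro y
    apply K1_surj i' f y
    rw [comm]
    exact K2_surj p i (f.base y) T (hmemT y) hT (hstalk_surj _)
  · intro y
    obtain ⟨U₀, hx, ι, s, hs0, hspan⟩ := hker (f.base y)
    refine ⟨(Opens.map f.base).obj U₀, hx, ι, fun j => f.c.app (op U₀) (s j), ?_, ?_⟩
    · intro j
      have h1 : ∀ c : Z' ⟶ X, c = p ≫ i → c.c.app (op U₀) (s j) = 0 := by
        rintro c rfl
        change p.c.app _ (i.c.app (op U₀) (s j)) = 0
        rw [hs0 j, map_zero]
      exact h1 (i' ≫ f) comm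
    · intro y' hy'
      have e1 : (fun j => Y.presheaf.germ ((Opens.map f.base).obj U₀) y' hy'
          (f.c.app (op U₀) (s j))) =
          (f.stalkMap y').hom ∘ (fun j => X.presheaf.germ U₀ (f.base y') hy' (s j)) := by
        funext j
        exact (LocallyRingedSpace.stalkMap_germ_apply f U₀ y' hy' (s j)).symm
      rw [e1, Set.range_comp, ← Ideal.map_span, hspan (f.base y') hy',
        ← K2_ker p i (f.base y') T (hmemT y') hT, ← comm, K1_ker i' f y']
      have hsurjφ : Function.Surjective (f.stalkMap y').hom :=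
        (ConcreteCategory.bijective_of_isIso (f.stalkMap y')).2
      exact Ideal.map_comap_of_surjective _ hsurjφ _

/-- A locally ringed space with a closed immersion into a scheme is a scheme. -/
theorem exists_scheme (X : Scheme.{u}) (Z : LocallyRingedSpace.{u})
    (i : Z ⟶ X.toLocallyRingedSpace) (hi : LRSImm.IsClosedImmersion i) :
    ∃ (Z' : Scheme.{u}) (e : Z'.toLocallyRingedSpace ≅ Z),
      AlgebraicGeometry.IsClosedImmersion (Scheme.Hom.mk (e.hom ≫ i) : Z' ⟶ X) := by
  have hloc : ∀ z : Z, ∃ (N : OpenNhds z) (R : CommRingCat.{u}),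
      Nonempty (Z.restrict N.isOpenEmbedding ≅ Spec.toLocallyRingedSpace.obj (op R)) := by
    intro z
    obtain ⟨U, hU, hzU, -⟩ := exists_isAffineOpen_mem_and_subset (X := X) (x := i.base z)
      (U := ⊤) trivial
    have hfopen : IsOpenImmersion hU.fromSpec := inferInstance
    have : LocallyRingedSpace.IsOpenImmersion hU.fromSpec.toLRSHom := hfopen
    obtain ⟨N, hN⟩ : ∃ N : OpenNhds z, N.1 = (Opens.map i.base).obj U :=
      ⟨⟨(Opens.map i.base).obj U, hzU⟩, rfl⟩
    have hNiff : ∀ z' : Z, z' ∈ N.1 ↔ i.base z' ∈ U := fun z' => by rw [hN]; rfl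
    have hrange : Set.range hU.fromSpec.toLRSHom.base = (U : Set X) := hU.range_fromSpec
    have H : Set.range (Z.ofRestrict N.isOpenEmbedding ≫ i).base ⊆
        Set.range hU.fromSpec.toLRSHom.base := by
      rw [hrange]; rintro _ ⟨w, rfl⟩
      exact (hNiff w.1).1 w.2
    obtain ⟨i', hi'⟩ : ∃ i', i' = LocallyRingedSpace.IsOpenImmersion.lift hU.fromSpec.toLRSHom
      (Z.ofRestrict N.isOpenEmbedding ≫ i) H := ⟨_, rfl⟩
    have comm : i' ≫ hU.fromSpec.toLRSHom = Z.ofRestrict N.isOpenEmbedding ≫ i := by
      rw [hi']; exact LocallyRingedSpace.IsOpenImmersion.lift_fac _ _ H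
    have hcl : LRSImm.IsClosedImmersion i' := by
      refine isClosedImmersion_of_cartesian i hi hU.fromSpec.toLRSHom
        (Z.ofRestrict N.isOpenEmbedding) i' comm ?_
      intro z' hz'
      rw [hrange] at hz'
      have hz'N : z' ∈ N.1 := (hNiff z').2 hz'
      exact ⟨⟨z', hz'N⟩, rfl⟩
    obtain ⟨e, -⟩ := LRSImmB.main (Γ(X, U)) _ i' hcl _ rfl
    exact ⟨N, _, ⟨e⟩⟩
  refine ⟨⟨Z, hloc⟩, Iso.refl _, ?_⟩
  have he : (Iso.refl Z).hom ≫ i = i := Category.id_comp i
  rw [he]
  exact { stalkMap_surjective := fun z => LRSImmB.stalkMap_surjective i hi.1.isInducing hi.2.1 z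
          isClosedEmbedding := hi.1 }

end Groth.Agent.Helper8.LRSImmC
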