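import Mathlib.LinearAlgebra.BilinearForm.Basic
import Mathlib.Tactic.Ring
import Mathlib.Tactic.Abel
import Mathlib.Tactic.Linarith

/-! An orthogonal-decomposition argument for positive definite integral lattices. -/

set_option autoImplicit false

namespace Groth.Agent.Helper8

/-- If a positive definite lattice `Y` decomposes orthogonally as `M ⊕ M^⊥` and also as
`π₁ Y ⊕ π₂ Y`, and no nonzero vector of `M^⊥` lies in `π₁ Y` or `π₂ Y`, then `M = Y`. -/
theorem lattice_eq_top {Y : Type*} [AddCommGroup Y] (B : LinearMap.BilinForm ℤ Y)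
    (Bsymm : ∀ u v, B u v = B v u) (Bpos : ∀ u, u ≠ 0 → 0 < B u u)
    (M : AddSubgroup Y)
    (hdec : ∀ y, ∃ m ∈ M, ∀ m' ∈ M, B m' (y - m) = 0)
    (π₁ π₂ : Y → Y) (hπ : ∀ y, π₁ y + π₂ y = y) (horth : ∀ u v, B (π₁ u) (π₂ v) = 0)
    (h1 : ∀ z, z ≠ 0 → π₂ z = 0 → ∃ m ∈ M, B m z ≠ 0)
    (h2 : ∀ z, z ≠ 0 → π₁ z = 0 → ∃ m ∈ M, B m z ≠ 0) :
    ∀ y, y ∈ M := by
  have Bzero : ∀ u, B u u = 0 → u = 0 := by
    intro u hu
    by_contra hne
    have := Bpos u hne
    omega
  have Bnonneg : ∀ u, 0 ≤ B u u := by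
    intro u
    by_cases hu : u = 0
    · simp [hu]
    · exact (Bpos u hu).le
  -- no nonzero vector in the orthogonal complement
  have main : ∀ n : ℕ, ∀ z, (∀ m ∈ M, B m z = 0) → z ≠ 0 → B z z ≤ n → False := by
    intro n
    induction n using Nat.strong_induction_on with
    | _ n ih =>
      intro z hzN hz0 hzn
      by_cases ha : π₁ z = 0
      · obtain ⟨m, hm, hne⟩ := h2 z hz0 ha
        exact hne (hzN m hm)
      by_cases hb : π₂ z = 0
      · obtain ⟨m, hm, hne⟩ := h1 z hz0 hb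
        exact hne (hzN m hm)
      obtain ⟨ma, hma, hNa⟩ := hdec (π₁ z)
      obtain ⟨mb, hmb, hNb⟩ := hdec (π₂ z)
      set a'' := π₁ z - ma with ha''
      set b'' := π₂ z - mb with hb''
      have hz_eq : z = (ma + mb) + (a'' + b'') := by
        rw [ha'', hb'']
        have := hπ z
        calc z = π₁ z + π₂ z := this.symm
          _ = _ := by abel
      -- `ma + mb` is in `M` and orthogonal to `M`
      have hmm : ma + mb ∈ M := M.add_mem hma hmb
      have hmmN : ∀ m ∈ M, B m (ma + mb) = 0 := by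
        intro m hm
        have e1 := hzN m hm
        have e2 := hNa m hm
        have e3 := hNb m hm
        rw [hz_eq] at e1
        simp only [map_add] at e1 e2 e3 ⊢
        linarith
      have hmm0 : ma + mb = 0 := Bzero _ (hmmN _ hmm)
      have hmb_eq : mb = -ma := by
        have : mb = (ma + mb) - ma := by abel
        rw [this, hmm0, zero_sub]
      have hz_eq2 : z = a'' + b'' := by rw [hz_eq, hmm0, zero_add]
      -- orthogonality relation
      have e0 : B (π₁ z) (π₂ z) = 0 := horth z z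
      have ea : π₁ z = ma + a'' := by rw [ha'']; abel
      have eb : π₂ z = mb + b'' := by rw [hb'']; abel
      have c1 : B ma b'' = 0 := hNb ma hma
      have c2 : B a'' mb = 0 := by rw [Bsymm]; exact hNa mb hmb
      have c3 : B ma mb = - B ma ma := by rw [hmb_eq]; simp
      have e4 : B a'' b'' = B ma ma := by
        rw [ea, eb] at e0
        simp only [map_add, LinearMap.add_apply] at e0
        linarith
      have e5 : B z z = B a'' a'' + B b'' b'' + 2 * B ma ma := by
        rw [hz_eq2]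
        simp only [map_add, LinearMap.add_apply]
        have : B b'' a'' = B a'' b'' := Bsymm _ _
        linarith
      by_cases ha0 : a'' = 0
      · -- then `ma = 0` and `π₁ z = 0`
        have : B ma ma = 0 := by
          have hzb : z = b'' := by rw [hz_eq2, ha0, zero_add]
          rw [ha0] at e5
          rw [← hzb] at e5
          simp at e5
          linarith
        have hma0 : ma = 0 := Bzero _ this
        apply ha
        rw [ea, hma0, ha0, add_zero]
      by_cases hb0 : b'' = 0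
      · have : B ma ma = 0 := by
          have hza : z = a'' := by rw [hz_eq2, hb0, add_zero]
          rw [hb0] at e5
          rw [← hza] at e5
          simp at e5
          linarith
        have hma0 : ma = 0 := Bzero _ this
        apply hb
        rw [eb, hmb_eq, hma0, hb0, neg_zero, add_zero]
      -- both nonzero: `a''` has smaller norm
      have hpos_b : 0 < B b'' b'' := Bpos _ hb0
      have hlt : B a'' a'' < B z z := by
        have := Bnonneg ma
        linarith
      have hnn : 0 ≤ B a'' a'' := Bnonneg _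
      refine ih (B a'' a'').toNat ?_ a'' ?_ ha0 ?_
      · have : ((B a'' a'').toNat : ℤ) = B a'' a'' := Int.toNat_of_nonneg hnn
        have h3 : ((B a'' a'').toNat : ℤ) < n := by rw [this]; linarith
        exact_mod_cast h3
      · intro m hm
        exact hNa m hm
      · rw [Int.toNat_of_nonneg hnn]
  intro y
  obtain ⟨m, hm, hN⟩ := hdec y
  by_cases hz : y - m = 0
  · have : y = m := sub_eq_zero.mp hz
    rw [this]; exact hm
  · exfalso
    exact main (B (y - m) (y - m)).toNat (y - m) hN hz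
      (by rw [Int.toNat_of_nonneg (Bnonneg _)])

/-- Two commuting self-adjoint positive semidefinite integral operators on a positive definite
lattice which sum to the identity compose to zero. -/
theorem comp_eq_zero_of_psd {Y : Type*} [AddCommGroup Y] (B : LinearMap.BilinForm ℤ Y)
    (Bpos : ∀ u, u ≠ 0 → 0 < B u u)
    (c₁ c₂ : Y →ₗ[ℤ] Y) (hsum : ∀ x, c₁ x + c₂ x = x)
    (sa₁ : ∀ x y, B (c₁ x) y = B x (c₁ y)) (sa₂ : ∀ x y, B (c₂ x) y = B x (c₂ y))
    (psd₁ : ∀ x, 0 ≤ B (c₁ x) x) (psd₂ : ∀ x, 0 ≤ B (c₂ x) x) :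
    ∀ x, c₁ (c₂ x) = 0 := by
  have Bzero : ∀ u, B u u = 0 → u = 0 := by
    intro u hu
    by_contra hne
    have := Bpos u hne
    omega
  have Bnonneg : ∀ u, 0 ≤ B u u := by
    intro u
    by_cases hu : u = 0
    · simp [hu]
    · exact (Bpos u hu).le
  have comm : ∀ x, c₁ (c₂ x) = c₂ (c₁ x) := by
    intro x
    have h1 : c₂ x = x - c₁ x := eq_sub_of_add_eq' (hsum x)
    have h2 : c₂ (c₁ x) = c₁ x - c₁ (c₁ x) := eq_sub_of_add_eq' (hsum (c₁ x))
    rw [h1, map_sub, h2]
  have Xsa : ∀ u v, B (c₁ (c₂ u)) v = B u (c₁ (c₂ v)) := by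
    intro u v
    rw [sa₁, sa₂, comm v]
  have Xpsd : ∀ x, 0 ≤ B (c₁ (c₂ x)) x := by
    intro x
    have h1 : c₁ (c₂ x) = c₁ (c₂ (c₁ x)) + c₂ (c₁ (c₂ x)) := by
      calc c₁ (c₂ x) = c₁ (c₂ (c₁ x + c₂ x)) := by rw [hsum x]
        _ = c₁ (c₂ (c₁ x)) + c₁ (c₂ (c₂ x)) := by rw [map_add, map_add]
        _ = c₁ (c₂ (c₁ x)) + c₂ (c₁ (c₂ x)) := by rw [comm (c₂ x)]
    have h2 : B (c₁ (c₂ (c₁ x))) x = B (c₂ (c₁ x)) (c₁ x) := sa₁ _ _
    have h3 : B (c₂ (c₁ (c₂ x))) x = B (c₁ (c₂ x)) (c₂ x) := sa₂ _ _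
    have e1 := psd₂ (c₁ x)
    have e2 := psd₁ (c₂ x)
    have h4 : B (c₁ (c₂ x)) x = B (c₁ (c₂ (c₁ x))) x + B (c₂ (c₁ (c₂ x))) x := by
      conv_lhs => rw [h1]
      rw [map_add, LinearMap.add_apply]
    linarith
  have ineq : ∀ x, B (c₁ x) (c₁ x) + B (c₂ x) (c₂ x) ≤ B x x := by
    intro x
    have h1 : B x x = B (c₁ x + c₂ x) (c₁ x + c₂ x) := by rw [hsum x]
    have h2 : B (c₁ x) (c₂ x) = B (c₁ (c₂ x)) x := by rw [comm, sa₂]
    have h3 : B (c₂ x) (c₁ x) = B (c₁ (c₂ x)) x := by rw [sa₁]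
    rw [h1]
    simp only [map_add, LinearMap.add_apply]
    have := Xpsd x
    linarith
  have strict : ∀ x, c₁ (c₂ x) ≠ 0 → B (c₁ (c₂ x)) (c₁ (c₂ x)) < B x x := by
    intro x hx
    have hc2 : c₂ x ≠ 0 := by
      intro h
      apply hx
      rw [h, map_zero]
    have h1 := ineq (c₁ x)
    have h2 := ineq x
    have h3 := Bpos _ hc2
    have h4 := Bnonneg (c₁ (c₁ x))
    rw [comm x]
    linarith
  have main : ∀ n : ℕ, ∀ x, B x x ≤ n → c₁ (c₂ x) = 0 := by
    intro n
    induction n using Nat.strong_induction_on with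
    | _ n ih =>
      intro x hxn
      by_contra hne
      have hlt := strict x hne
      have hnn := Bnonneg (c₁ (c₂ x))
      have hy : c₁ (c₂ (c₁ (c₂ x))) = 0 := by
        refine ih (B (c₁ (c₂ x)) (c₁ (c₂ x))).toNat ?_ _ ?_
        · have : ((B (c₁ (c₂ x)) (c₁ (c₂ x))).toNat : ℤ) < n := by
            rw [Int.toNat_of_nonneg hnn]; linarith
          exact_mod_cast this
        · rw [Int.toNat_of_nonneg hnn]
      have h0 : B (c₁ (c₂ x)) (c₁ (c₂ x)) = 0 := by
        rw [Xsa, hy, map_zero]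
      exact hne (Bzero _ h0)
  intro x
  exact main (B x x).toNat x (by rw [Int.toNat_of_nonneg (Bnonneg x)])

end Groth.Agent.Helper8
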