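import Mathlib
import Groth.Agent.Helper8.LaurDescA
import Groth.Agent.Helper8.HQMonicB

/-!
# Finite projective modules isomorphic over `R((t))` are isomorphic
-/

set_option autoImplicit false

universe u

namespace Groth.Agent.Helper8.HQ

open Matrix Polynomial TensorProduct

section Trunc

variable {R : Type*} [CommRing R]

/-- `R[X] → R⟦X⟧ / (X^N)`. -/
noncomputable def rho (N : ℕ) :
    R[X] →+* (PowerSeries R ⧸ Ideal.span {(PowerSeries.X : PowerSeries R) ^ N}) :=
  (Ideal.Quotient.mk _).comp Polynomial.coeToPowerSeries.ringHom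

theorem rho_trunc (N : ℕ) (f : PowerSeries R) :
    rho N (PowerSeries.trunc N f) = Ideal.Quotient.mk _ f := by
  unfold rho
  rw [RingHom.comp_apply, Polynomial.coeToPowerSeries.ringHom_apply, Ideal.Quotient.eq,
    Ideal.mem_span_singleton]
  refine ⟨-(PowerSeries.mk fun i => PowerSeries.coeff (i + N) f), ?_⟩
  have h := PowerSeries.eq_X_pow_mul_shift_add_trunc N f
  linear_combination -h

theorem rho_C (N : ℕ) (r : R) : rho N (C r) = Ideal.Quotient.mk _ (PowerSeries.C r) := by
  unfold rho
  rw [RingHom.comp_apply, Polynomial.coeToPowerSeries.ringHom_apply, Polynomial.coe_C]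

theorem rho_X (N : ℕ) : rho N (X : R[X]) = Ideal.Quotient.mk _ (PowerSeries.X) := by
  unfold rho
  rw [RingHom.comp_apply, Polynomial.coeToPowerSeries.ringHom_apply, Polynomial.coe_X]

theorem X_pow_dvd_of_rho_eq_zero (N : ℕ) (h : R[X]) (hh : rho N h = 0) : X ^ N ∣ h := by
  unfold rho at hh
  rw [RingHom.comp_apply, Ideal.Quotient.eq_zero_iff_mem, Ideal.mem_span_singleton,
    PowerSeries.X_pow_dvd_iff] at hh
  rw [Polynomial.X_pow_dvd_iff]
  intro d hd
  have := hh d hd
  rwa [Polynomial.coeToPowerSeries.ringHom_apply, Polynomial.coeff_coe] at this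

variable {n m : Type*} [Fintype n] [Fintype m] [DecidableEq n] [DecidableEq m]

/-- Approximation: a product congruent to `X^J P` modulo `X^(J+1)` in power series gives a
polynomial identity. -/
theorem exists_poly_approx (p : Matrix n n R) (hp : p * p = p) (J : ℕ)
    {l : Type*} [Fintype l] [DecidableEq l] (q : Matrix l l R) (hq : q * q = q)
    (α : Matrix n l (PowerSeries R)) (β : Matrix l n (PowerSeries R))
    (hαβ : α * β = ((PowerSeries.X : PowerSeries R) ^ J) • p.map (PowerSeries.C))
    (h1 : p.map (PowerSeries.C) * α = α) (h2 : α * q.map (PowerSeries.C) = α)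
    (h3 : q.map (PowerSeries.C) * β = β) (h4 : β * p.map (PowerSeries.C) = β) :
    ∃ c : Matrix n n R[X], p.map C * c = c ∧ c * p.map C = c ∧
      (p.map C * α.map (PowerSeries.trunc (J + 1)) * q.map C) *
        (q.map C * β.map (PowerSeries.trunc (J + 1)) * p.map C) =
        ((X : R[X]) ^ J) • (p.map C + (X : R[X]) • c) := by
  set N := J + 1 with hN
  set π := Ideal.Quotient.mk (Ideal.span {(PowerSeries.X : PowerSeries R) ^ N}) with hπ
  set a₁ := p.map C * α.map (PowerSeries.trunc N) * q.map C with ha₁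
  set b₁ := q.map C * β.map (PowerSeries.trunc N) * p.map C with hb₁
  have hPp : (p.map (C : R →+* R[X])) * p.map C = p.map C := by rw [← Matrix.map_mul, hp]
  have hQp : (q.map (C : R →+* R[X])) * q.map C = q.map C := by rw [← Matrix.map_mul, hq]
  have hPρ : (p.map (C : R →+* R[X])).map (rho N) = (p.map (PowerSeries.C)).map π := by
    refine Matrix.ext fun i j => ?_
    simp only [Matrix.map_apply]
    exact rho_C N _
  have hQρ : (q.map (C : R →+* R[X])).map (rho N) = (q.map (PowerSeries.C)).map π := by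
    refine Matrix.ext fun i j => ?_
    simp only [Matrix.map_apply]
    exact rho_C N _
  have hαρ : (α.map (PowerSeries.trunc N)).map (rho N) = α.map π := by
    refine Matrix.ext fun i j => ?_
    simp only [Matrix.map_apply]
    exact rho_trunc N _
  have hβρ : (β.map (PowerSeries.trunc N)).map (rho N) = β.map π := by
    refine Matrix.ext fun i j => ?_
    simp only [Matrix.map_apply]
    exact rho_trunc N _
  have key : (a₁ * b₁).map (rho N) = (((X : R[X]) ^ J) • p.map C).map (rho N) := by
    rw [ha₁, hb₁]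
    simp only [Matrix.map_mul, hPρ, hQρ, hαρ, hβρ]
    simp only [← Matrix.map_mul]
    rw [h1, h2, h3, h4, hαβ]
    refine Matrix.ext fun i j => ?_
    simp only [Matrix.map_apply, Matrix.smul_apply, smul_eq_mul, map_mul, map_pow, rho_X, rho_C]
    rfl
  have hdvd : ∀ i j, ∃ c, (a₁ * b₁) i j - (((X : R[X]) ^ J) • p.map C) i j = X ^ N * c := by
    intro i j
    apply X_pow_dvd_of_rho_eq_zero
    have := congrFun (congrFun key i) j
    simp only [Matrix.map_apply] at this
    rw [map_sub, this, sub_self]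
  choose c₀ hc₀ using hdvd
  have hab : a₁ * b₁ = ((X : R[X]) ^ J) • p.map C + ((X : R[X]) ^ N) • (Matrix.of c₀) := by
    refine Matrix.ext fun i j => ?_
    have := hc₀ i j
    simp only [Matrix.add_apply, Matrix.smul_apply, smul_eq_mul, Matrix.of_apply] at this ⊢
    linear_combination this
  have hPa₁ : p.map C * a₁ = a₁ := by
    rw [ha₁]
    simp only [← Matrix.mul_assoc, hPp]
  have hb₁P : b₁ * p.map C = b₁ := by
    rw [hb₁]
    simp only [Matrix.mul_assoc, hPp]
  refine ⟨p.map C * Matrix.of c₀ * p.map C, ?_, ?_, ?_⟩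
  · simp only [← Matrix.mul_assoc, hPp]
  · simp only [Matrix.mul_assoc, hPp]
  · calc a₁ * b₁ = p.map C * (a₁ * b₁) * p.map C := by
          rw [← Matrix.mul_assoc (p.map C) a₁ b₁, hPa₁, Matrix.mul_assoc a₁ b₁ (p.map C), hb₁P]
      _ = ((X : R[X]) ^ J) • (p.map C + (X : R[X]) • (p.map C * Matrix.of c₀ * p.map C)) := by
          rw [hab, hN, pow_succ]
          simp only [Matrix.mul_add, Matrix.add_mul, Matrix.mul_smul, Matrix.smul_mul, hPp,
            smul_add, smul_smul]

end Trunc

section Main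

variable {R : Type*} [CommRing R]
variable {n m : Type*} [Fintype n] [Fintype m] [DecidableEq n] [DecidableEq m]

theorem map_algebraMap_laurent (p : Matrix n m R) :
    p.map (algebraMap R (LaurentSeries R)) =
      (p.map (PowerSeries.C)).map (algebraMap (PowerSeries R) (LaurentSeries R)) := by
  refine Matrix.ext fun i j => ?_
  simp only [Matrix.map_apply]
  rw [HahnSeries.algebraMap_apply', LaurentSeries.coe_algebraMap, PowerSeries.algebraMap_apply]
  rfl

/-- From a rectangular equivalence over `R((X))` of constant idempotents to polynomial data. -/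
theorem exists_poly_of_laurent (p : Matrix n n R) (q : Matrix m m R) (hp : p * p = p)
    (hq : q * q = q)
    (h : REquiv (p.map (algebraMap R (LaurentSeries R))) (q.map (algebraMap R (LaurentSeries R)))) :
    ∃ (k : ℕ) (g : R[X]) (a : Matrix n m R[X]) (b : Matrix m n R[X]), g.eval 0 = 1 ∧
      a * b = (X ^ k * g) • p.map C ∧ b * a = (X ^ k * g) • q.map C := by
  obtain ⟨a', b', hab', hba'⟩ := h
  have hP' : p.map (PowerSeries.C (R := R)) * p.map (PowerSeries.C) = p.map (PowerSeries.C) := by
    rw [← Matrix.map_mul, hp]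
  have hQ' : q.map (PowerSeries.C (R := R)) * q.map (PowerSeries.C) = q.map (PowerSeries.C) := by
    rw [← Matrix.map_mul, hq]
  have hinj : Function.Injective (algebraMap (PowerSeries R) (LaurentSeries R)) := by
    rw [LaurentSeries.coe_algebraMap]
    exact HahnSeries.ofPowerSeries_injective
  obtain ⟨F, α₀, β₀, hF, hαβ₀, hβα₀⟩ := exists_clear
    (Submonoid.powers (PowerSeries.X : PowerSeries R)) (LaurentSeries R) hinj
    (p.map (PowerSeries.C)) (q.map (PowerSeries.C)) a' b'
    (by rw [hab', map_algebraMap_laurent]) (by rw [hba', map_algebraMap_laurent])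
  obtain ⟨j, rfl⟩ := (Submonoid.mem_powers_iff _ _).mp hF
  obtain ⟨α, β, hαβ, hβα, h1, h2, h3, h4⟩ := exists_normalized hP' hQ' hαβ₀ hβα₀
  rw [← pow_mul] at hαβ hβα
  set J := j * 3 with hJ
  obtain ⟨c, hPc, hcP, hab⟩ := exists_poly_approx p hp J q hq α β hαβ h1 h2 h3 h4
  obtain ⟨c', hQc', hc'Q, hba⟩ := exists_poly_approx q hq J p hp β α hβα h3 h4 h1 h2
  set a₁ := p.map C * α.map (PowerSeries.trunc (J + 1)) * q.map C with ha₁
  set b₁ := q.map C * β.map (PowerSeries.trunc (J + 1)) * p.map C with hb₁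
  have hPp : (p.map (C : R →+* R[X])) * p.map C = p.map C := by rw [← Matrix.map_mul, hp]
  have hQp : (q.map (C : R →+* R[X])) * q.map C = q.map C := by rw [← Matrix.map_mul, hq]
  have hPa₁ : p.map C * a₁ = a₁ := by
    rw [ha₁]
    simp only [← Matrix.mul_assoc, hPp]
  have ha₁Q : a₁ * q.map C = a₁ := by
    rw [ha₁]
    simp only [Matrix.mul_assoc, hQp]
  obtain ⟨b₂, hab₂, hba₂⟩ := scalarize (p.map C) (q.map C) hPp a₁ b₁ hPa₁ ha₁Q
    ((X : R[X]) ^ J) X c c' hab hba hPc hcP hQc'
    (fun h hh => eq_zero_of_X_pow_mul_mul_eq_zero J _ h (eval_zero_det_one_add_X_smul c') hh)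
  exact ⟨J, _, a₁, b₂, eval_zero_det_one_add_X_smul c, hab₂, hba₂⟩

/-- Finite projective modules that become isomorphic over `R((t))` are isomorphic. -/
theorem laurent_descent (R : Type u) [CommRing R]
    (L : Type u) [CommRing L] [Algebra R L] (eL : L ≃ₐ[R] LaurentSeries R)
    (M N : Type u) [AddCommGroup M] [Module R M] [Module.Finite R M] [Module.Projective R M]
    [AddCommGroup N] [Module R N] [Module.Finite R N] [Module.Projective R N]
    (e : L ⊗[R] M ≃ₗ[L] L ⊗[R] N) :
    Nonempty (M ≃ₗ[R] N) := by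
  obtain ⟨n, f, g, -, -, hfg⟩ := Module.Finite.exists_comp_eq_id_of_projective R M
  obtain ⟨n', f', g', -, -, hfg'⟩ := Module.Finite.exists_comp_eq_id_of_projective R N
  have hp := toMatrix'_idemG f g hfg
  have hq := toMatrix'_idemG f' g' hfg'
  have h0 := rEquiv_of_baseChange_equiv L f g f' g' hfg hfg' e
  have h1 := h0.map (eL : L →+* LaurentSeries R)
  have hmap : ∀ {r c : Type} (Z : Matrix r c R),
      (Z.map (algebraMap R L)).map (eL : L →+* LaurentSeries R) =
        Z.map (algebraMap R (LaurentSeries R)) := by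
    intro r c Z
    refine Matrix.ext fun i j => ?_
    simp only [Matrix.map_apply]
    exact eL.commutes _
  rw [hmap, hmap] at h1
  obtain ⟨k, gg, a, b, hgg, hab, hba⟩ := exists_poly_of_laurent _ _ hp hq h1
  have hP : (LinearMap.toMatrix' (g ∘ₗ f)).map Polynomial.C *
      (LinearMap.toMatrix' (g ∘ₗ f)).map Polynomial.C =
      (LinearMap.toMatrix' (g ∘ₗ f)).map (Polynomial.C : R →+* R[X]) := by
    rw [← Matrix.map_mul, hp]
  have hQ : (LinearMap.toMatrix' (g' ∘ₗ f')).map Polynomial.C *
      (LinearMap.toMatrix' (g' ∘ₗ f')).map Polynomial.C =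
      (LinearMap.toMatrix' (g' ∘ₗ f')).map (Polynomial.C : R →+* R[X]) := by
    rw [← Matrix.map_mul, hq]
  obtain ⟨a₁, b₁, hab₁, hba₁, h1', h2', h3', h4'⟩ := exists_normalized hP hQ hab hba
  have hc : (X ^ k * gg) ^ 3 = X ^ (k * 3) * gg ^ 3 := by rw [mul_pow, ← pow_mul]
  rw [hc] at hab₁ hba₁
  have hgg3 : (gg ^ 3).eval 0 = 1 := by rw [eval_pow, hgg, one_pow]
  exact nonempty_linearEquiv_of_rEquiv f g f' g' hfg hfg'
    (rEquiv_of_reversed _ _ hp hq (k * 3) (gg ^ 3) hgg3 a₁ b₁ hab₁ hba₁ h1' h2' h3' h4')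

end Main

end Groth.Agent.Helper8.HQ
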