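import Mathlib

/-!
# Rational `exp`-sums force Laurent polynomials (helper for S14193)
-/

namespace Groth.Agent.Helper8.LaurentExp

open Polynomial

noncomputable section

/-- The embedding `ℤ[X] → ℚ(X)`. -/
def ι : ℤ[X] →+* RatFunc ℚ :=
  (algebraMap ℚ[X] (RatFunc ℚ)).comp (Polynomial.mapRingHom (Int.castRingHom ℚ))

/-- Standard denominators. -/
def Bz (a L e : ℕ) : ℤ[X] := X ^ a * (X ^ L - 1) ^ e

lemma Bz_mul_dvd (a₁ L₁ e₁ a₂ L₂ e₂ : ℕ) :
    Bz a₁ L₁ e₁ * Bz a₂ L₂ e₂ ∣ Bz (a₁ + a₂) (L₁ * L₂) (e₁ + e₂) := by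
  unfold Bz
  have h1 : (X ^ L₁ - 1 : ℤ[X]) ∣ X ^ (L₁ * L₂) - 1 := by
    have := sub_dvd_pow_sub_pow ((X : ℤ[X]) ^ L₁) 1 L₂
    simpa [pow_mul] using this
  have h2 : (X ^ L₂ - 1 : ℤ[X]) ∣ X ^ (L₁ * L₂) - 1 := by
    have := sub_dvd_pow_sub_pow ((X : ℤ[X]) ^ L₂) 1 L₁
    rw [mul_comm L₁ L₂]
    simpa [pow_mul] using this
  have : (X : ℤ[X]) ^ a₁ * (X ^ L₁ - 1) ^ e₁ * (X ^ a₂ * (X ^ L₂ - 1) ^ e₂)
      = X ^ (a₁ + a₂) * ((X ^ L₁ - 1) ^ e₁ * (X ^ L₂ - 1) ^ e₂) := by ring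
  rw [this, pow_add ((X : ℤ[X]) ^ (L₁ * L₂) - 1)]
  exact mul_dvd_mul_left _ (mul_dvd_mul (pow_dvd_pow_of_dvd h1 _) (pow_dvd_pow_of_dvd h2 _))

/-- `F` has a standard denominator. -/
def Good (F : RatFunc ℚ) : Prop :=
  ∃ (a L e : ℕ) (N : ℤ[X]), 1 ≤ L ∧ F * ι (Bz a L e) = ι N

lemma good_of_dvd {F : RatFunc ℚ} {B B' N : ℤ[X]} (h : F * ι B = ι N) (hB : B ∣ B') :
    ∃ N', F * ι B' = ι N' := by
  obtain ⟨C, rfl⟩ := hB
  exact ⟨N * C, by rw [map_mul, ← mul_assoc, h, map_mul]⟩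

lemma Good.add {F₁ F₂ : RatFunc ℚ} (h₁ : Good F₁) (h₂ : Good F₂) : Good (F₁ + F₂) := by
  obtain ⟨a₁, L₁, e₁, N₁, hL₁, h₁⟩ := h₁
  obtain ⟨a₂, L₂, e₂, N₂, hL₂, h₂⟩ := h₂
  have hd := Bz_mul_dvd a₁ L₁ e₁ a₂ L₂ e₂
  obtain ⟨N₁', h₁'⟩ := good_of_dvd h₁ ((dvd_mul_right _ _).trans hd)
  obtain ⟨N₂', h₂'⟩ := good_of_dvd h₂ ((dvd_mul_left _ _).trans hd)
  exact ⟨a₁ + a₂, L₁ * L₂, e₁ + e₂, N₁' + N₂', Nat.one_le_iff_ne_zero.2 (by positivity),
    by rw [add_mul, h₁', h₂', map_add]⟩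

lemma Good.mul {F₁ F₂ : RatFunc ℚ} (h₁ : Good F₁) (h₂ : Good F₂) : Good (F₁ * F₂) := by
  obtain ⟨a₁, L₁, e₁, N₁, hL₁, h₁⟩ := h₁
  obtain ⟨a₂, L₂, e₂, N₂, hL₂, h₂⟩ := h₂
  have hd := Bz_mul_dvd a₁ L₁ e₁ a₂ L₂ e₂
  have h12 : F₁ * F₂ * ι (Bz a₁ L₁ e₁ * Bz a₂ L₂ e₂) = ι (N₁ * N₂) := by
    rw [map_mul, map_mul, ← h₁, ← h₂]; ring
  obtain ⟨N', h'⟩ := good_of_dvd h12 hd
  exact ⟨a₁ + a₂, L₁ * L₂, e₁ + e₂, N', Nat.one_le_iff_ne_zero.2 (by positivity), h'⟩

lemma Good.neg {F : RatFunc ℚ} (h : Good F) : Good (-F) := by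
  obtain ⟨a, L, e, N, hL, h⟩ := h
  exact ⟨a, L, e, -N, hL, by rw [neg_mul, h, map_neg]⟩

lemma ι_X : ι X = RatFunc.X := by
  simp [ι, RatFunc.algebraMap_X]

lemma ι_injective : Function.Injective ι := by
  unfold ι
  rw [RingHom.coe_comp]
  exact (algebraMap_injective (K := ℚ)).comp (Polynomial.map_injective _ Int.cast_injective)
where
  algebraMap_injective {K : Type} [Field K] : Function.Injective (algebraMap K[X] (RatFunc K)) :=
    RatFunc.algebraMap_injective K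

lemma good_of_mem {F : RatFunc ℚ}
    (hF : F ∈ Subring.closure
      (({RatFunc.X, (RatFunc.X : RatFunc ℚ)⁻¹} : Set (RatFunc ℚ)) ∪
        Set.range fun n : ℕ => ((RatFunc.X : RatFunc ℚ) ^ (n + 1) - 1)⁻¹)) : Good F := by
  induction hF using Subring.closure_induction with
  | mem x hx =>
    rcases hx with hx | ⟨n, rfl⟩
    · rcases hx with rfl | hx
      · exact ⟨0, 1, 0, X, le_rfl, by simp [Bz, ι_X]⟩
      · rw [Set.mem_singleton_iff] at hx
        subst hx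
        refine ⟨1, 1, 0, 1, le_rfl, ?_⟩
        simp only [Bz, pow_one, pow_zero, mul_one, ι_X, map_one]
        exact inv_mul_cancel₀ RatFunc.X_ne_zero
    · refine ⟨0, n + 1, 1, 1, by omega, ?_⟩
      have h1 : ι (Bz 0 (n + 1) 1) = RatFunc.X ^ (n + 1) - 1 := by
        simp [Bz, ι_X]
      have h2 : (RatFunc.X : RatFunc ℚ) ^ (n + 1) - 1 ≠ 0 := by
        rw [← h1]
        intro h0
        have := ι_injective (h0.trans (map_zero ι).symm)
        have hm : (Bz 0 (n + 1) 1).Monic := by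
          simp only [Bz, pow_zero, one_mul, pow_one]
          exact monic_X_pow_sub_C 1 (by omega)
        exact hm.ne_zero this
      rw [h1, map_one]
      exact inv_mul_cancel₀ h2
  | zero => exact ⟨0, 1, 0, 0, le_rfl, by simp⟩
  | one => exact ⟨0, 1, 0, 1, le_rfl, by simp [Bz]⟩
  | add x y _ _ hx hy => exact hx.add hy
  | neg x _ hx => exact hx.neg
  | mul x y _ _ hx hy => exact hx.mul hy

/-- Rationality of `exp (∑ a_v t^v / v)` gives a linear recurrence for `a`. -/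
lemma exists_recurrence (a : ℕ → ℚ) (P Q : ℚ[X]) (hQ : Q ≠ 0)
    (h : (PowerSeries.exp ℚ).subst
        (PowerSeries.mk fun v : ℕ => if v = 0 then (0 : ℚ) else a v / (v : ℚ))
        * (Q : PowerSeries ℚ) = (P : PowerSeries ℚ)) :
    ∃ W : ℚ[X], W ≠ 0 ∧ ∃ n₀ : ℕ, ∀ v' : ℕ, n₀ ≤ v' →
      ∑ i ∈ Finset.range (W.natDegree + 1),
        W.coeff i * a (v' + (W.natDegree - i) + 1) = 0 := by
  set G : PowerSeries ℚ :=
    PowerSeries.mk fun v : ℕ => if v = 0 then (0 : ℚ) else a v / (v : ℚ) with hG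
  have hG0 : PowerSeries.constantCoeff G = 0 := by
    rw [← PowerSeries.coeff_zero_eq_constantCoeff_apply, hG, PowerSeries.coeff_mk]
    simp
  have hGs : PowerSeries.HasSubst G := PowerSeries.HasSubst.of_constantCoeff_zero' hG0
  set Z : PowerSeries ℚ := (PowerSeries.exp ℚ).subst G with hZ
  have hZ' : PowerSeries.derivative ℚ Z = Z * PowerSeries.derivative ℚ G := by
    rw [hZ, PowerSeries.derivative_subst hGs, PowerSeries.derivative_exp]
  have hG' : PowerSeries.derivative ℚ G = PowerSeries.mk fun v => a (v + 1) := by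
    ext n
    rw [PowerSeries.coeff_derivative, hG, PowerSeries.coeff_mk, PowerSeries.coeff_mk]
    have : ((n : ℚ) + 1) ≠ 0 := by positivity
    simp only [Nat.add_eq_zero_iff, one_ne_zero, and_false, if_false, Nat.cast_add, Nat.cast_one]
    field_simp
  have hZ1 : PowerSeries.constantCoeff Z = 1 := by
    have : MvPowerSeries.constantCoeff (PowerSeries.subst G (PowerSeries.exp ℚ)) = 1 := by
      rw [PowerSeries.constantCoeff_subst hGs, finsum_eq_single _ 0]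
      · simp
      · intro d hd
        have : MvPowerSeries.constantCoeff (G ^ d) = 0 := by
          rw [map_pow]
          have : MvPowerSeries.constantCoeff G = 0 := hG0
          rw [this, zero_pow hd]
        rw [this, smul_zero]
    exact this
  have hZne : Z ≠ 0 := by
    intro h0
    rw [h0] at hZ1
    simp at hZ1
  have hP : P ≠ 0 := by
    rintro rfl
    rw [Polynomial.coe_zero] at h
    rcases mul_eq_zero.1 h with h1 | h1
    · exact hZne h1
    · exact hQ (by exact_mod_cast h1)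
  have hd := congrArg (PowerSeries.derivative ℚ) h
  rw [Derivation.leibniz, PowerSeries.derivative_coe, PowerSeries.derivative_coe, hZ'] at hd
  set W : ℚ[X] := P * Q with hW
  set U : ℚ[X] := derivative P * Q - P * derivative Q with hU
  have key : (W : PowerSeries ℚ) * PowerSeries.derivative ℚ G = (U : PowerSeries ℚ) := by
    simp only [hW, hU, Polynomial.coe_mul, Polynomial.coe_sub]
    rw [← h, ← hd]
    simp only [smul_eq_mul]
    ring
  refine ⟨W, mul_ne_zero hP hQ, U.natDegree + 1, fun v' hv' => ?_⟩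
  have hc := congrArg (PowerSeries.coeff (v' + W.natDegree)) key
  rw [Polynomial.coeff_coe, Polynomial.coeff_eq_zero_of_natDegree_lt (by omega),
    PowerSeries.coeff_mul, hG'] at hc
  simp only [Polynomial.coeff_coe, PowerSeries.coeff_mk] at hc
  rw [Finset.Nat.sum_antidiagonal_eq_sum_range_succ (fun i j => W.coeff i * a (j + 1))] at hc
  rw [← hc]
  symm
  rw [← Finset.sum_subset (s₁ := Finset.range (W.natDegree + 1))]
  · refine Finset.sum_congr rfl fun i hi => ?_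
    rw [Finset.mem_range] at hi
    congr 2
    omega
  · intro i hi
    rw [Finset.mem_range] at hi ⊢
    omega
  · intro i _ hi
    rw [Finset.mem_range] at hi
    rw [Polynomial.coeff_eq_zero_of_natDegree_lt (by omega), zero_mul]

/-- scaling the variable by `q^j` -/
def sc (q : ℤ) (j : ℕ) (p : ℚ[X]) : ℚ[X] := p.comp (C ((q : ℚ) ^ j) * X)

lemma sc_zero (q : ℤ) (p : ℚ[X]) : sc q 0 p = p := by simp [sc]

lemma eval_sc (q : ℤ) (j : ℕ) (p : ℚ[X]) (x : ℚ) : (sc q j p).eval x = p.eval ((q : ℚ) ^ j * x) := by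
  simp [sc, eval_comp]

lemma sc_dvd (q : ℤ) (j : ℕ) {p r : ℚ[X]} (h : p ∣ r) : sc q j p ∣ sc q j r := by
  obtain ⟨c, rfl⟩ := h
  exact ⟨sc q j c, by simp [sc, mul_comp]⟩

lemma isCoprime_aux (c : ℚ) (hc0 : c ≠ 0) (L : ℕ) (hL : 1 ≤ L) (hcL : c ^ L ≠ 1) (A e : ℕ) :
    IsCoprime ((X ^ L - 1 : ℚ[X]) ^ e)
      ((C c * X) ^ A * ((C c * X) ^ L - 1) ^ e) := by
  have h1 : IsCoprime (X ^ L - 1 : ℚ[X]) (C c * X) := by
    refine ⟨-1, C c⁻¹ * X ^ (L - 1), ?_⟩
    have : (X : ℚ[X]) ^ (L - 1) * X = X ^ L := pow_sub_one_mul (by omega) X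
    have hcc : (C c⁻¹ : ℚ[X]) * C c = 1 := by rw [← C_mul, inv_mul_cancel₀ hc0, C_1]
    calc -1 * ((X : ℚ[X]) ^ L - 1) + C c⁻¹ * X ^ (L - 1) * (C c * X)
        = -(X ^ L - 1) + (C c⁻¹ * C c) * (X ^ (L - 1) * X) := by ring
      _ = 1 := by rw [hcc, this]; ring
  have h2 : IsCoprime (X ^ L - 1 : ℚ[X]) ((C c * X) ^ L - 1) := by
    have hne : (1 - c ^ L) ≠ 0 := sub_ne_zero.2 (Ne.symm hcL)
    refine ⟨C (c ^ L * (1 - c ^ L)⁻¹), -C ((1 - c ^ L)⁻¹), ?_⟩
    rw [mul_pow, ← C_pow]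
    have : (C (c ^ L * (1 - c ^ L)⁻¹) : ℚ[X]) * (X ^ L - 1) + -C (1 - c ^ L)⁻¹ * (C (c ^ L) * X ^ L - 1)
        = C ((1 - c ^ L)⁻¹ * (1 - c ^ L)) := by
      simp only [C_mul, C_sub, C_1, C_pow]
      ring
    rw [this, inv_mul_cancel₀ hne, C_1]
  exact IsCoprime.mul_right (h1.pow) (h2.pow)

/-- The heart of the argument: a linear recurrence for `v ↦ n(q^v)/d(q^v)` forces `d ∣ X^A`. -/
lemma denom_dvd_X_pow (q : ℤ) (hq : 1 < q) (d n : ℚ[X]) (hcop : IsCoprime n d)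
    (A L e : ℕ) (hL : 1 ≤ L) (hd : d ∣ X ^ A * (X ^ L - 1) ^ e)
    (W : ℚ[X]) (hW : W ≠ 0) (n₀ : ℕ)
    (hrec : ∀ v', n₀ ≤ v' → ∑ i ∈ Finset.range (W.natDegree + 1),
        W.coeff i * (n.eval ((q : ℚ) ^ (v' + (W.natDegree - i) + 1)) /
          d.eval ((q : ℚ) ^ (v' + (W.natDegree - i) + 1))) = 0) :
    d ∣ X ^ A := by
  have hq1 : (1 : ℚ) < q := by exact_mod_cast hq
  have hq0 : (0 : ℚ) < q := by linarith
  set m := W.natDegree with hm
  -- nonvanishing of `d` at `q^k`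
  have hdne : ∀ k : ℕ, 1 ≤ k → d.eval ((q : ℚ) ^ k) ≠ 0 := by
    intro k hk h0
    obtain ⟨c, hc⟩ := hd
    have := congrArg (Polynomial.eval ((q : ℚ) ^ k)) hc
    rw [eval_mul, eval_mul, h0, zero_mul] at this
    simp only [eval_pow, eval_X, eval_sub, eval_one] at this
    have h1 : (1 : ℚ) < ((q : ℚ) ^ k) ^ L := by
      rw [← pow_mul]
      exact one_lt_pow₀ hq1 (by positivity)
    have h2 : (((q : ℚ) ^ k) ^ L - 1) ≠ 0 := by linarith
    have h3 : ((q : ℚ) ^ k) ^ A ≠ 0 := by positivity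
    exact mul_ne_zero h3 (pow_ne_zero e h2) this
  -- the auxiliary polynomial
  set S := Finset.range (m + 1) with hS
  set H : ℚ[X] := ∑ i ∈ S, C (W.coeff i) * sc q (m - i) n * ∏ j ∈ S.erase (m - i), sc q j d with hH
  have hHeval : ∀ v', n₀ ≤ v' → H.eval ((q : ℚ) ^ (v' + 1)) = 0 := by
    intro v' hv'
    set x : ℚ := (q : ℚ) ^ (v' + 1) with hx
    set D : ℕ → ℚ := fun j => d.eval ((q : ℚ) ^ j * x) with hD
    have hDne : ∀ j, D j ≠ 0 := by
      intro j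
      simp only [hD, hx, ← pow_add]
      exact hdne _ (by omega)
    rw [hH, eval_finsetSum]
    have hterm : ∀ i ∈ S, (C (W.coeff i) * sc q (m - i) n * ∏ j ∈ S.erase (m - i), sc q j d).eval x
        = (W.coeff i * (n.eval ((q : ℚ) ^ (v' + (m - i) + 1)) /
          d.eval ((q : ℚ) ^ (v' + (m - i) + 1)))) * ∏ j ∈ S, D j := by
      intro i hi
      have hmem : m - i ∈ S := by
        rw [hS, Finset.mem_range]; omega
      rw [eval_mul, eval_mul, eval_C, eval_sc, eval_prod, ← Finset.mul_prod_erase S D hmem]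
      simp only [eval_sc]
      have hexp : (q : ℚ) ^ (m - i) * x = (q : ℚ) ^ (v' + (m - i) + 1) := by
        rw [hx, ← pow_add]; congr 1; omega
      have hDD : D (m - i) = d.eval ((q : ℚ) ^ (v' + (m - i) + 1)) := by
        simp only [hD]; rw [hexp]
      rw [hexp, ← hDD]
      have := hDne (m - i)
      field_simp
      rfl
    rw [Finset.sum_congr rfl hterm, ← Finset.sum_mul, hrec v' hv', zero_mul]
  have hH0 : H = 0 := by
    apply Polynomial.eq_zero_of_infinite_isRoot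
    apply Set.infinite_of_injective_forall_mem (f := fun k : ℕ => (q : ℚ) ^ (n₀ + k + 1))
    · intro k₁ k₂ hk
      have := pow_right_injective₀ hq0 (ne_of_gt hq1) hk
      omega
    · intro k
      exact hHeval (n₀ + k) (by omega)
  -- divisibility
  have hdvd1 : d ∣ C (W.coeff m) * n * ∏ j ∈ S.erase 0, sc q j d := by
    have hsplit : H = (∑ i ∈ Finset.range m,
        C (W.coeff i) * sc q (m - i) n * ∏ j ∈ S.erase (m - i), sc q j d)
        + C (W.coeff m) * n * ∏ j ∈ S.erase 0, sc q j d := by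
      rw [hH, hS, Finset.sum_range_succ, Nat.sub_self, sc_zero]
    have hfirst : d ∣ ∑ i ∈ Finset.range m,
        C (W.coeff i) * sc q (m - i) n * ∏ j ∈ S.erase (m - i), sc q j d := by
      refine Finset.dvd_sum fun i hi => ?_
      rw [Finset.mem_range] at hi
      refine dvd_mul_of_dvd_right ?_ _
      have h0mem : 0 ∈ S.erase (m - i) := by
        rw [Finset.mem_erase, hS, Finset.mem_range]
        exact ⟨by omega, by omega⟩
      have := Finset.dvd_prod_of_mem (fun j => sc q j d) h0mem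
      simpa [sc_zero] using this
    rw [hH0] at hsplit
    have : d ∣ (∑ i ∈ Finset.range m,
        C (W.coeff i) * sc q (m - i) n * ∏ j ∈ S.erase (m - i), sc q j d)
        + C (W.coeff m) * n * ∏ j ∈ S.erase 0, sc q j d := by
      rw [← hsplit]; exact dvd_zero _
    exact (dvd_add_right hfirst).1 this
  have hlead : W.coeff m ≠ 0 := by
    rw [hm]
    exact Polynomial.leadingCoeff_ne_zero.2 hW
  have hdvd2 : d ∣ ∏ j ∈ S.erase 0, sc q j d := by
    rw [mul_assoc, Polynomial.dvd_C_mul hlead] at hdvd1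
    exact hcop.symm.dvd_of_dvd_mul_left hdvd1
  -- the product divides a product coprime to `g`
  set g : ℚ[X] := (X ^ L - 1) ^ e with hg
  set T : ℚ[X] := ∏ j ∈ S.erase 0,
    ((C ((q : ℚ) ^ j) * X) ^ A * ((C ((q : ℚ) ^ j) * X) ^ L - 1) ^ e) with hT
  have hdvdT : d ∣ T := by
    refine hdvd2.trans (Finset.prod_dvd_prod_of_dvd _ _ fun j _ => ?_)
    have := sc_dvd q j hd
    simpa [sc, hg, mul_comp, sub_comp, pow_comp] using this
  have hcopT : IsCoprime g T := by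
    refine IsCoprime.prod_right fun j hj => ?_
    rw [Finset.mem_erase] at hj
    have hj1 : 1 ≤ j := Nat.one_le_iff_ne_zero.2 hj.1
    refine isCoprime_aux ((q : ℚ) ^ j) (by positivity) L hL ?_ A e
    rw [← pow_mul]
    exact ne_of_gt (one_lt_pow₀ hq1 (by positivity))
  obtain ⟨u, v, huv⟩ := hcopT
  have : (X : ℚ[X]) ^ A = u * (X ^ A * g) + X ^ A * v * T := by
    calc (X : ℚ[X]) ^ A = X ^ A * (u * g + v * T) := by rw [huv, mul_one]
      _ = _ := by ring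
  rw [this]
  exact dvd_add (dvd_mul_of_dvd_right hd u) (dvd_mul_of_dvd_right hdvdT _)

/-- The main theorem. -/
theorem main (q : ℤ) (hq : 1 < q) (F : RatFunc ℚ)
    (hF : F ∈ Subring.closure
      (({RatFunc.X, (RatFunc.X : RatFunc ℚ)⁻¹} : Set (RatFunc ℚ)) ∪
        Set.range fun n : ℕ => ((RatFunc.X : RatFunc ℚ) ^ (n + 1) - 1)⁻¹))
    (hrat : ∃ P Q : Polynomial ℚ, Q ≠ 0 ∧
      (PowerSeries.exp ℚ).subst
          (PowerSeries.mk fun v : ℕ => if v = 0 then (0 : ℚ)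
            else F.eval (RingHom.id ℚ) ((q : ℚ) ^ v) / (v : ℚ))
        * (Q : PowerSeries ℚ) = (P : PowerSeries ℚ)) :
    ∃ (P : Polynomial ℤ) (a : ℕ),
      F * RatFunc.X ^ a = algebraMap (Polynomial ℚ) (RatFunc ℚ) (P.map (Int.castRingHom ℚ)) := by
  obtain ⟨A, L, e, N, hL, hFB⟩ := good_of_mem hF
  obtain ⟨P, Q, hQ, hPQ⟩ := hrat
  obtain ⟨W, hW, n₀, hrec⟩ :=
    exists_recurrence (fun v => F.eval (RingHom.id ℚ) ((q : ℚ) ^ v)) P Q hQ hPQ
  -- the denominator over ℚ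
  set Bq : ℚ[X] := X ^ A * (X ^ L - 1) ^ e with hBq
  have hιB : ι (Bz A L e) = algebraMap ℚ[X] (RatFunc ℚ) Bq := by
    simp [ι, Bz, hBq]
  have hBmonic : Bq.Monic :=
    (monic_X_pow A).mul ((monic_X_pow_sub_C (1 : ℚ) (by omega)).pow e)
  have hFB' : F * algebraMap ℚ[X] (RatFunc ℚ) Bq
      = algebraMap ℚ[X] (RatFunc ℚ) (N.map (Int.castRingHom ℚ)) := by
    rw [← hιB, hFB]; rfl
  have hBne : algebraMap ℚ[X] (RatFunc ℚ) Bq ≠ 0 := RatFunc.algebraMap_ne_zero hBmonic.ne_zero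
  have hden : F.denom ∣ Bq := by
    rw [RatFunc.denom_dvd hBmonic.ne_zero]
    exact ⟨N.map (Int.castRingHom ℚ), eq_div_of_mul_eq hBne hFB'⟩
  have hdX : F.denom ∣ X ^ A := by
    refine denom_dvd_X_pow q hq F.denom F.num (RatFunc.isCoprime_num_denom F) A L e hL hden
      W hW n₀ fun v' hv' => ?_
    have := hrec v' hv'
    simpa [RatFunc.eval, Polynomial.eval₂_id] using this
  obtain ⟨c, hc⟩ := hdX
  -- `F * X^A` is a polynomial over ℚ
  have hdne : algebraMap ℚ[X] (RatFunc ℚ) F.denom ≠ 0 :=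
    RatFunc.algebraMap_ne_zero (RatFunc.denom_ne_zero F)
  have hFX : F * algebraMap ℚ[X] (RatFunc ℚ) (X ^ A)
      = algebraMap ℚ[X] (RatFunc ℚ) (F.num * c) := by
    conv_lhs => rw [← RatFunc.num_div_denom F, hc, map_mul]
    rw [map_mul]
    field_simp
  -- integrality
  set M : ℤ[X] := (X ^ L - 1) ^ e with hM
  have hMmonic : M.Monic := (monic_X_pow_sub_C (1 : ℤ) (by omega)).pow e
  have hMmap : M.map (Int.castRingHom ℚ) = (X ^ L - 1) ^ e := by
    simp [hM]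
  have hRM : (X ^ L - 1 : ℚ[X]) ^ e * (F.num * c) = N.map (Int.castRingHom ℚ) := by
    apply RatFunc.algebraMap_injective ℚ
    rw [← hFB', map_mul _ ((X ^ L - 1 : ℚ[X]) ^ e) (F.num * c), ← hFX, hBq,
      map_mul _ ((X : ℚ[X]) ^ A) _]
    ring
  have hR : F.num * c = (N /ₘ M).map (Int.castRingHom ℚ) := by
    rw [Polynomial.map_divByMonic _ hMmonic, hMmap, ← hRM,
      Polynomial.mul_divByMonic_cancel_left _ (hMmonic.map (Int.castRingHom ℚ) |> fun h => by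
        rwa [hMmap] at h)]
  refine ⟨N /ₘ M, A, ?_⟩
  rw [← hR, ← hFX, map_pow, RatFunc.algebraMap_X]

end

end Groth.Agent.Helper8.LaurentExp
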