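import Mathlib.RingTheory.Flat.EquationalCriterion
import Mathlib.Algebra.Category.ModuleCat.FilteredColimits
import Mathlib.Algebra.Category.ModuleCat.Colimits
import Mathlib.CategoryTheory.Filtered.Basic
import Mathlib.CategoryTheory.Presentable.Directed
import Mathlib.CategoryTheory.Limits.ConcreteCategory.Basic
import Mathlib.LinearAlgebra.FreeModule.Finite.Basic
import Mathlib.Data.Fintype.Order

set_option autoImplicit false
universe u

open CategoryTheory CategoryTheory.Limits

namespace Groth.Agent.Helper8.Lazard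

section Backward


variable {R : Type u} [CommRing R]

theorem flat_of_colimit (M : Type u) [AddCommGroup M] [Module R M]
    (J : Type u) [Preorder J] [IsDirected J (fun a b => a ≤ b)] [Nonempty J]
    (F : J ⥤ ModuleCat.{u} R) (hF : ∀ j, Module.Finite R (F.obj j) ∧ Module.Free R (F.obj j))
    (e : colimit F ≅ ModuleCat.of R M) : Module.Flat R M := by
  haveI : IsFiltered J := inferInstance
  haveI : PreservesColimit F (forget (ModuleCat.{u} R)) := inferInstance
  -- the structure maps
  let u : ∀ j, F.obj j →ₗ[R] M := fun j => (colimit.ι F j ≫ e.hom).hom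
  have hu_nat : ∀ {j j' : J} (h : j ⟶ j') (y : F.obj j), u j' ((F.map h).hom y) = u j y := by
    intro j j' h y
    have : F.map h ≫ colimit.ι F j' ≫ e.hom = colimit.ι F j ≫ e.hom := by
      rw [← Category.assoc, colimit.w]
    have := congrArg (fun φ => φ.hom y) this
    simpa [u] using this
  have hsurj : ∀ m : M, ∃ j, ∃ y : F.obj j, u j y = m := by
    intro m
    obtain ⟨j, y, hy⟩ := Concrete.colimit_exists_rep F (e.inv.hom m)
    refine ⟨j, y, ?_⟩
    change e.hom.hom ((colimit.ι F j).hom y) = m
    have h2 : (colimit.ι F j).hom y = e.inv.hom m := hy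
    rw [h2]
    have := congrArg (fun φ => φ.hom m) e.inv_hom_id
    simpa using this
  have hzero : ∀ j (y : F.obj j), u j y = 0 → ∃ (j' : J) (h : j ⟶ j'), (F.map h).hom y = 0 := by
    intro j y hy
    have h1 : (colimit.ι F j).hom y = (colimit.ι F j).hom 0 := by
      have hinj : Function.Injective e.hom.hom := by
        intro a b hab
        have ha := congrArg (fun φ => φ.hom a) e.hom_inv_id
        have hb := congrArg (fun φ => φ.hom b) e.hom_inv_id
        simp only [ModuleCat.hom_comp, LinearMap.comp_apply, ModuleCat.hom_id, LinearMap.id_apply] at ha hb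
        rw [← ha, ← hb, hab]
      apply hinj
      rw [map_zero, map_zero]
      exact hy
    obtain ⟨k, f, g, hfg⟩ := Concrete.colimit_exists_of_rep_eq F y (0 : F.obj j) h1
    refine ⟨k, f, ?_⟩
    have : (F.map g).hom (0 : F.obj j) = 0 := map_zero _
    exact hfg.trans this
  apply Module.Flat.of_forall_exists_factorization
  intro l f x hfx
  -- lift the basis images
  choose jj yy hyy using fun i : Fin l => hsurj (x (Finsupp.single i 1))
  obtain ⟨j₀, hj₀⟩ := Finite.exists_le jj
  let y' : Fin l → F.obj j₀ := fun i => (F.map (homOfLE (hj₀ i))).hom (yy i)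
  have hy' : ∀ i, u j₀ (y' i) = x (Finsupp.single i 1) := fun i => by
    rw [hu_nat, hyy]
  let x₀ : (Fin l →₀ R) →ₗ[R] F.obj j₀ := Finsupp.linearCombination R y'
  have hx₀ : (u j₀) ∘ₗ x₀ = x := by
    apply Finsupp.basisSingleOne.ext
    intro i
    simp [x₀, hy']
  have h0 : u j₀ (x₀ f) = 0 := by
    rw [← LinearMap.comp_apply, hx₀, hfx]
  obtain ⟨j₁, h01, hj₁⟩ := hzero j₀ (x₀ f) h0
  haveI := (hF j₁).1
  haveI := (hF j₁).2
  let b := (Module.Free.chooseBasis R (F.obj j₁)).reindex (Fintype.equivFin _)
  refine ⟨_, b.repr.toLinearMap ∘ₗ (F.map h01).hom ∘ₗ x₀, (u j₁) ∘ₗ b.repr.symm.toLinearMap, ?_, ?_⟩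
  · rw [← hx₀]
    ext v
    simp [hu_nat]
  · simp [hj₁]


end Backward

section Forward


variable (R : Type u) [CommRing R] (M : Type u) [AddCommGroup M] [Module R M]

/-- Objects: finite free modules `R^n` with a map to `M`. -/
structure Obj where
  n : ℕ
  u : (Fin n →₀ R) →ₗ[R] M

variable {R M}

/-- Morphisms: linear maps over `M`. -/
@[ext]
structure Hom (X Y : Obj R M) where
  h : (Fin X.n →₀ R) →ₗ[R] (Fin Y.n →₀ R)
  w : Y.u ∘ₗ h = X.u

noncomputable instance : Category.{u} (Obj R M) where
  Hom X Y := Hom X Y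
  id X := ⟨LinearMap.id, by simp⟩
  comp f g := ⟨g.h ∘ₗ f.h, by rw [← LinearMap.comp_assoc, g.w, f.w]⟩

@[simp] theorem id_h (X : Obj R M) : (𝟙 X : Hom X X).h = LinearMap.id := rfl
@[simp] theorem comp_h {X Y Z : Obj R M} (f : X ⟶ Y) (g : Y ⟶ Z) :
    (f ≫ g : Hom X Z).h = g.h ∘ₗ f.h := rfl

theorem hom_ext' {X Y : Obj R M} (f g : X ⟶ Y) (h : (f : Hom X Y).h = (g : Hom X Y).h) : f = g :=
  Hom.ext h

variable (R M)

/-- The forgetful functor to modules. -/
noncomputable def G : Obj R M ⥤ ModuleCat.{u} R where
  obj X := ModuleCat.of R (Fin X.n →₀ R)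
  map f := ModuleCat.ofHom f.h

/-- The tautological cocone. -/
noncomputable def cocone : Cocone (G R M) where
  pt := ModuleCat.of R M
  ι := { app := fun X => ModuleCat.ofHom X.u
         naturality := by
          intro X Y f
          ext : 1
          simp only [G, Functor.const_obj_obj, Functor.const_obj_map, Category.comp_id,
            ModuleCat.hom_comp, ModuleCat.hom_ofHom]
          exact f.w }

variable {R M}

/-- binary "coproduct" object -/
noncomputable def sumObj (X Y : Obj R M) : Obj R M where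
  n := X.n + Y.n
  u := Finsupp.linearCombination R
    (Fin.append (fun i => X.u (Finsupp.single i 1)) (fun i => Y.u (Finsupp.single i 1)))

noncomputable def inl (X Y : Obj R M) : X ⟶ sumObj X Y :=
  ⟨Finsupp.lmapDomain R R (Fin.castAdd Y.n), by
    apply Finsupp.basisSingleOne.ext
    intro i
    simp [sumObj]⟩

noncomputable def inr (X Y : Obj R M) : Y ⟶ sumObj X Y :=
  ⟨Finsupp.lmapDomain R R (Fin.natAdd X.n), by
    apply Finsupp.basisSingleOne.ext
    intro i
    simp [sumObj]⟩

instance [Module.Flat R M] : IsFiltered (Obj R M) where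
  nonempty := ⟨⟨0, 0⟩⟩
  cocone_objs X Y := ⟨sumObj X Y, inl X Y, inr X Y, trivial⟩
  cocone_maps := by
    intro X Y f g
    have h0 : Y.u ∘ₗ ((f : Hom X Y).h - (g : Hom X Y).h) = 0 := by
      rw [LinearMap.comp_sub, (f : Hom X Y).w, (g : Hom X Y).w, sub_self]
    obtain ⟨k, a, y, hya, haf⟩ := Module.Flat.exists_factorization_of_comp_eq_zero_of_free h0
    refine ⟨⟨k, y⟩, ⟨a, hya.symm⟩, ?_⟩
    apply hom_ext'
    simp only [comp_h]
    rw [LinearMap.comp_sub] at haf
    exact sub_eq_zero.mp haf


section Colim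

variable [Module.Flat R M]

theorem desc_bijective : Function.Bijective (colimit.desc (G R M) (cocone R M)).hom := by
  haveI : PreservesColimit (G R M) (forget (ModuleCat.{u} R)) := inferInstance
  constructor
  · rw [injective_iff_map_eq_zero]
    intro t ht
    obtain ⟨X, x, rfl⟩ := Concrete.colimit_exists_rep (G R M) t
    have h1 : X.u x = 0 := by
      have := congrArg (fun φ => φ.hom x) (colimit.ι_desc (cocone R M) X)
      simp only [ModuleCat.hom_comp, LinearMap.comp_apply] at this
      exact this.symm.trans ht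
    obtain ⟨k, a, y, hya, hax⟩ := Module.Flat.exists_factorization_of_apply_eq_zero_of_free h1
    let Y : Obj R M := ⟨k, y⟩
    let f : X ⟶ Y := ⟨a, hya.symm⟩
    have h2 := congrArg (fun φ => φ.hom x) (colimit.w (G R M) f)
    simp only [ModuleCat.hom_comp, LinearMap.comp_apply] at h2
    change (colimit.ι (G R M) X).hom x = 0
    rw [← h2]
    have : ((G R M).map f).hom x = 0 := hax
    rw [this, map_zero]
  · intro m
    let X : Obj R M := ⟨1, Finsupp.linearCombination R (fun _ => m)⟩
    refine ⟨(colimit.ι (G R M) X).hom (Finsupp.single 0 1), ?_⟩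
    have := congrArg (fun φ => φ.hom (Finsupp.single (0 : Fin 1) (1 : R))) (colimit.ι_desc (cocone R M) X)
    simp only [ModuleCat.hom_comp, LinearMap.comp_apply] at this
    rw [this]
    change Finsupp.linearCombination R (fun _ => m) (Finsupp.single 0 1) = m
    simp

theorem exists_directed_colimit :
    ∃ (J : Type u) (_ : Preorder J) (_ : IsDirected J (fun a b => a ≤ b)) (_ : Nonempty J)
      (F : J ⥤ ModuleCat.{u} R), (∀ j, Module.Finite R (F.obj j) ∧ Module.Free R (F.obj j)) ∧
      Nonempty (Limits.colimit F ≅ ModuleCat.of R M) := by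
  obtain ⟨α, hα, hd, hn, Φ, hΦ⟩ := IsFiltered.exists_directed (Obj R M)
  refine ⟨α, inferInstance, hd, hn, Φ ⋙ G R M, ?_, ?_⟩
  · intro j
    constructor
    · change Module.Finite R (Fin (Φ.obj j).n →₀ R)
      infer_instance
    · change Module.Free R (Fin (Φ.obj j).n →₀ R)
      infer_instance
  · have hiso : IsIso (colimit.desc (G R M) (cocone R M)) := by
      rw [ConcreteCategory.isIso_iff_bijective]
      exact desc_bijective
    exact ⟨Functor.Final.colimitIso Φ (G R M) ≪≫ @asIso _ _ _ _ _ hiso⟩

end Colim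


end Forward

end Groth.Agent.Helper8.Lazard
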