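import Mathlib
import Groth.Prelude.Def_DualLC
set_option autoImplicit false


namespace Groth.Agent.Helper8.LechLen

universe u

section indep
variable {A : Type u} [CommRing A] {r : ℕ} (f : Fin r → A) (l : Fin r) (g : A)

theorem span_update_le :
    Ideal.span (Set.range (Function.update f l (f l * g))) ≤ Ideal.span (Set.range f) := by
  rw [Ideal.span_le]
  rintro _ ⟨i, rfl⟩
  by_cases hi : i = l
  · rw [hi, Function.update_self]
    exact Ideal.mul_mem_right _ _ (Ideal.subset_span ⟨l, rfl⟩)
  · rw [Function.update_of_ne hi]
    exact Ideal.subset_span ⟨i, rfl⟩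

/-- generalisation of S1733 to an arbitrary index (lead's proof, generalised). -/
theorem indep_of_mul (h : Dual2.Independent (Function.update f l (f l * g))) :
    Dual2.Independent f := by
  classical
  set f' := Function.update f l (f l * g) with hf'
  have hf'l : f' l = f l * g := by simp [f']
  have hf'ne : ∀ i, i ≠ l → f' i = f i := fun i hi => by simp [f', Function.update_of_ne hi]
  have hJ : Ideal.span (Set.range f') ≤ Ideal.span (Set.range f) := span_update_le f l g
  intro a ha
  have h1 : a l ∈ Ideal.span (Set.range f') := by
    have := h (fun i => if i = l then a i else a i * g) (by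
      have : ∀ i, (if i = l then a i else a i * g) * f' i = g * (a i * f i) := by
        intro i
        by_cases hi : i = l
        · rw [if_pos hi, hi, hf'l]; ring
        · rw [if_neg hi, hf'ne i hi]; ring
      simp only [this]
      rw [← Finset.mul_sum, ha, mul_zero]) l
    simpa using this
  obtain ⟨c, hc⟩ := (Ideal.mem_span_range_iff_exists_fun).mp h1
  have h2 := h (fun i => if i = l then c l * f l else a i + c i * f l) (by
    have : ∀ i, (if i = l then c l * f l else a i + c i * f l) * f' i =
        a i * f i + f l * (c i * f' i) - (if i = l then a l * f l else 0) := by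
      intro i
      by_cases hi : i = l
      · rw [if_pos hi, if_pos hi, hi, hf'l]; ring
      · rw [if_neg hi, if_neg hi, hf'ne i hi]; ring
    simp only [this]
    rw [Finset.sum_sub_distrib, Finset.sum_add_distrib, ha, ← Finset.mul_sum, hc,
      Finset.sum_ite_eq' Finset.univ l]
    simp only [Finset.mem_univ, if_true]
    ring)
  intro i
  by_cases hi : i = l
  · rw [hi]; exact hJ h1
  · have h3 := hJ (h2 i)
    simp only [if_neg hi] at h3
    have h4 : c i * f l ∈ Ideal.span (Set.range f) :=
      Ideal.mul_mem_left _ _ (Ideal.subset_span ⟨l, rfl⟩)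
    have : a i = (a i + c i * f l) - c i * f l := by ring
    rw [this]
    exact Ideal.sub_mem _ h3 h4

theorem indep_of_mul' (h : Dual2.Independent (Function.update f l (f l * g))) :
    Dual2.Independent (Function.update f l g) := by
  apply indep_of_mul (Function.update f l g) l (f l)
  rw [Function.update_self, Function.update_idem, mul_comm]
  exact h

end indep


section colon
variable {A : Type u} [CommRing A] {r : ℕ} (f : Fin r → A) (l : Fin r) (g : A)

theorem mul_mem_of_mem (a : A) (ha : a ∈ Ideal.span (Set.range (Function.update f l g))) :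
    a * f l ∈ Ideal.span (Set.range (Function.update f l (f l * g))) := by
  refine Submodule.span_induction ?_ ?_ ?_ ?_ ha
  · rintro _ ⟨i, rfl⟩
    by_cases hi : i = l
    · rw [hi, Function.update_self, mul_comm]
      exact Ideal.subset_span ⟨l, by rw [Function.update_self]⟩
    · rw [Function.update_of_ne hi]
      exact Ideal.mul_mem_right _ _ (Ideal.subset_span ⟨i, by rw [Function.update_of_ne hi]⟩)
  · rw [zero_mul]; exact Submodule.zero_mem _
  · intro x y _ _ hx hy
    rw [add_mul]; exact Submodule.add_mem _ hx hy
  · intro c x _ hx
    rw [smul_eq_mul, mul_assoc]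
    exact Ideal.mul_mem_left _ _ hx

theorem mem_of_mul_mem (h : Dual2.Independent (Function.update f l (f l * g))) (a : A)
    (ha : a * f l ∈ Ideal.span (Set.range (Function.update f l (f l * g)))) :
    a ∈ Ideal.span (Set.range (Function.update f l g)) := by
  classical
  set f' := Function.update f l (f l * g) with hf'
  have hf'l : f' l = f l * g := by simp [f']
  have hf'ne : ∀ i, i ≠ l → f' i = f i := fun i hi => by simp [f', Function.update_of_ne hi]
  obtain ⟨c, hc⟩ := (Ideal.mem_span_range_iff_exists_fun).mp ha
  -- relation: (a - c l * g) * (f l * g) - Σ_{i≠l} (c i * g) * f i = 0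
  have hrel := h (fun i => if i = l then a - c l * g else - (c i * g)) (by
    have : ∀ i, (if i = l then a - c l * g else - (c i * g)) * f' i =
        (if i = l then a * f l * g else 0) - g * (c i * f' i) := by
      intro i
      by_cases hi : i = l
      · rw [if_pos hi, if_pos hi, hi, hf'l]; ring
      · rw [if_neg hi, if_neg hi, hf'ne i hi]; ring
    simp only [this]
    rw [Finset.sum_sub_distrib, ← Finset.mul_sum, hc, Finset.sum_ite_eq' Finset.univ l]
    simp only [Finset.mem_univ, if_true]
    ring) l
  simp only [if_true] at hrel
  have hle : Ideal.span (Set.range f') ≤ Ideal.span (Set.range (Function.update f l g)) := by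
    have := span_update_le (Function.update f l g) l (f l)
    rw [Function.update_self, Function.update_idem, mul_comm] at this
    exact this
  have h1 := hle hrel
  have h2 : c l * g ∈ Ideal.span (Set.range (Function.update f l g)) :=
    Ideal.mul_mem_left _ _ (Ideal.subset_span ⟨l, by rw [Function.update_self]⟩)
  have : a = (a - c l * g) + c l * g := by ring
  rw [this]
  exact Ideal.add_mem _ h1 h2

theorem span_eq_sup :
    Ideal.span (Set.range f) =
      Ideal.span (Set.range (Function.update f l (f l * g))) ⊔ Ideal.span {f l} := by
  apply le_antisymm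
  · rw [Ideal.span_le]
    rintro _ ⟨i, rfl⟩
    by_cases hi : i = l
    · rw [hi]
      exact Ideal.mem_sup_right (Ideal.mem_span_singleton_self _)
    · exact Ideal.mem_sup_left (Ideal.subset_span ⟨i, by rw [Function.update_of_ne hi]⟩)
  · refine sup_le (span_update_le f l g) ?_
    rw [Ideal.span_le, Set.singleton_subset_iff]
    exact Ideal.subset_span ⟨l, rfl⟩

/-- Lech's length formula, general index. -/
theorem length_add (h : Dual2.Independent (Function.update f l (f l * g))) :
    Module.length A (A ⧸ Ideal.span (Set.range (Function.update f l (f l * g)))) =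
      Module.length A (A ⧸ Ideal.span (Set.range (Function.update f l g))) +
        Module.length A (A ⧸ Ideal.span (Set.range f)) := by
  set I'' := Ideal.span (Set.range (Function.update f l (f l * g))) with hI''
  set Ig := Ideal.span (Set.range (Function.update f l g)) with hIg
  set If := Ideal.span (Set.range f) with hIf
  let φ : (A ⧸ Ig) →ₗ[A] (A ⧸ I'') := Submodule.mapQ Ig I'' (LinearMap.mulRight A (f l))
    (fun a ha => by
      rw [Submodule.mem_comap, LinearMap.mulRight_apply]
      exact mul_mem_of_mem f l g a ha)
  let ψ : (A ⧸ I'') →ₗ[A] (A ⧸ If) := Submodule.mapQ I'' If LinearMap.id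
    (fun a ha => span_update_le f l g ha)
  have hφ : ∀ a : A, φ (Submodule.Quotient.mk a) = Submodule.Quotient.mk (a * f l) := fun a => rfl
  have hψ : ∀ a : A, ψ (Submodule.Quotient.mk a) = Submodule.Quotient.mk a := fun a => rfl
  refine Module.length_eq_add_of_exact φ ψ ?_ ?_ ?_
  · rw [← LinearMap.ker_eq_bot, LinearMap.ker_eq_bot']
    intro x hx
    obtain ⟨a, rfl⟩ := Submodule.Quotient.mk_surjective _ x
    rw [hφ, Submodule.Quotient.mk_eq_zero] at hx
    rw [Submodule.Quotient.mk_eq_zero]
    exact mem_of_mul_mem f l g h a hx
  · intro y
    obtain ⟨a, rfl⟩ := Submodule.Quotient.mk_surjective _ y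
    exact ⟨Submodule.Quotient.mk a, hψ a⟩
  · intro y
    obtain ⟨b, rfl⟩ := Submodule.Quotient.mk_surjective _ y
    rw [hψ, Submodule.Quotient.mk_eq_zero]
    constructor
    · intro hb
      rw [hIf, span_eq_sup f l g, Submodule.mem_sup] at hb
      obtain ⟨y, hy, z, hz, rfl⟩ := hb
      rw [Ideal.mem_span_singleton'] at hz
      obtain ⟨a, rfl⟩ := hz
      refine ⟨Submodule.Quotient.mk a, ?_⟩
      rw [hφ, eq_comm, Submodule.Quotient.eq]
      simpa using hy
    · rintro ⟨x, hx⟩
      obtain ⟨a, rfl⟩ := Submodule.Quotient.mk_surjective _ x
      rw [hφ, Submodule.Quotient.eq] at hx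
      have h1 : a * f l ∈ If := Ideal.mul_mem_left _ _ (Ideal.subset_span ⟨l, rfl⟩)
      have h2 := span_update_le f l g hx
      have : b = a * f l - (a * f l - b) := by ring
      rw [this]
      exact Ideal.sub_mem _ h1 h2

end colon


theorem s1734 (A : Type u) [CommRing A] (r : ℕ) (f : Fin (r + 1) → A) (g : A)
    (h : Dual2.Independent (Function.update f (Fin.last r) (f (Fin.last r) * g))) :
    Module.length A (A ⧸ Ideal.span (Set.range (Function.update f (Fin.last r)
        (f (Fin.last r) * g)))) =
      Module.length A (A ⧸ Ideal.span (Set.range f)) +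
        Module.length A (A ⧸ Ideal.span (Set.range (Function.update f (Fin.last r) g))) := by
  rw [length_add f (Fin.last r) g h, add_comm]

end Groth.Agent.Helper8.LechLen
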