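import Mathlib
import Groth.Prelude.Def_DualLC
import Groth.Agent.Helper8.LechLen
set_option autoImplicit false


namespace Groth.Agent.Helper8.LechLen

universe u

theorem s1757 (A : Type u) [CommRing A] [IsLocalRing A] (r : ℕ) (x : Fin r → A)
    (hx : Ideal.span (Set.range x) = IsLocalRing.maximalIdeal A) (e : Fin r → ℕ)
    (he : ∀ i, 0 < e i) (hind : Dual2.Independent (fun i => x i ^ e i)) :
    Module.length A (A ⧸ Ideal.span (Set.range (fun i => x i ^ e i))) = ∏ i, (e i : ℕ∞) := by
  classical
  have key : ∀ n : ℕ, ∀ e : Fin r → ℕ, (∀ i, 0 < e i) →
      Dual2.Independent (fun i => x i ^ e i) → ∑ i, e i = n →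
      Module.length A (A ⧸ Ideal.span (Set.range (fun i => x i ^ e i))) = ∏ i, (e i : ℕ∞) := by
    intro n
    induction n using Nat.strong_induction_on with
    | _ n ih =>
      intro e he hind hn
      by_cases hall : ∀ i, e i = 1
      · have h1 : (fun i => x i ^ e i) = x := by funext i; rw [hall i, pow_one]
        have h2 : ∏ i, (e i : ℕ∞) = 1 := by
          apply Finset.prod_eq_one
          intro i _
          rw [hall i]; rfl
        rw [h1, hx, h2]
        have : IsSimpleModule A (A ⧸ IsLocalRing.maximalIdeal A) :=
          isSimpleModule_iff_quot_maximal.2 ⟨_, inferInstance, ⟨LinearEquiv.refl _ _⟩⟩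
        exact Module.length_eq_one _ _
      · push Not at hall
        obtain ⟨l, hl⟩ := hall
        have hl2 : 2 ≤ e l := by have := he l; omega
        set f : Fin r → A := fun i => x i ^ (Function.update e l (e l - 1)) i with hf
        have hfl : f l = x l ^ (e l - 1) := by simp [f]
        have hupd : Function.update f l (f l * x l) = fun i => x i ^ e i := by
          funext i
          by_cases hi : i = l
          · subst hi
            rw [Function.update_self, hfl, ← pow_succ]
            congr 1; omega
          · rw [Function.update_of_ne hi]
            simp [f, Function.update_of_ne hi]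
        have hupd' : Function.update f l (x l) = fun i => x i ^ (Function.update e l 1) i := by
          funext i
          by_cases hi : i = l
          · subst hi; simp
          · simp [f, Function.update_of_ne hi]
        have h' : Dual2.Independent (Function.update f l (f l * x l)) := by rw [hupd]; exact hind
        have hI1 : Dual2.Independent (fun i => x i ^ (Function.update e l (e l - 1)) i) :=
          indep_of_mul f l (x l) h'
        have hI2 := indep_of_mul' f l (x l) h'
        rw [hupd'] at hI2
        have hlen := length_add f l (x l) h'
        rw [hupd, hupd'] at hlen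
        have hsum : ∀ c : ℕ, ∑ i, Function.update e l c i = c + ∑ i ∈ Finset.univ.erase l, e i := by
          intro c
          rw [← Finset.add_sum_erase _ _ (Finset.mem_univ l), Function.update_self]
          congr 1
          apply Finset.sum_congr rfl
          intro i hi
          rw [Function.update_of_ne (Finset.ne_of_mem_erase hi)]
        have hsum0 : ∑ i, e i = e l + ∑ i ∈ Finset.univ.erase l, e i :=
          (Finset.add_sum_erase _ _ (Finset.mem_univ l)).symm
        have hprod : ∀ c : ℕ, ∏ i, ((Function.update e l c i : ℕ) : ℕ∞) =
            (c : ℕ∞) * ∏ i ∈ Finset.univ.erase l, (e i : ℕ∞) := by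
          intro c
          rw [← Finset.mul_prod_erase _ _ (Finset.mem_univ l), Function.update_self]
          congr 1
          apply Finset.prod_congr rfl
          intro i hi
          rw [Function.update_of_ne (Finset.ne_of_mem_erase hi)]
        have hprod0 : ∏ i, (e i : ℕ∞) = (e l : ℕ∞) * ∏ i ∈ Finset.univ.erase l, (e i : ℕ∞) :=
          (Finset.mul_prod_erase _ _ (Finset.mem_univ l)).symm
        have hpos : ∀ c : ℕ, 0 < c → ∀ i, 0 < Function.update e l c i := by
          intro c hc i
          by_cases hi : i = l
          · subst hi; rwa [Function.update_self]
          · rw [Function.update_of_ne hi]; exact he i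
        have ih1 := ih (∑ i, Function.update e l 1 i) (by rw [hsum, ← hn, hsum0]; omega)
          (Function.update e l 1) (hpos 1 Nat.one_pos) hI2 rfl
        have ih2 := ih (∑ i, Function.update e l (e l - 1) i) (by rw [hsum, ← hn, hsum0]; omega)
          (Function.update e l (e l - 1)) (hpos _ (by omega)) hI1 rfl
        rw [hlen, ih1, ih2, hprod, hprod, hprod0, ← add_mul]
        congr 1
        have : 1 + (e l - 1) = e l := by omega
        exact_mod_cast this
  exact key _ e he hind rfl

end Groth.Agent.Helper8.LechLen
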