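import Mathlib

/-!
# Helper8: kernel of `Sym((A^(N+1))^∨) → Sym(M^∨)` is generated by maximal minors
-/

set_option autoImplicit false
universe u
open scoped BigOperators
open MvPolynomial

namespace Groth.Agent.Helper8.LefPen

variable {A : Type u} [CommRing A] {N s : ℕ} (m : Fin s → (Fin (N + 1) → A))

/-- the `(s+1) × (N+1)` matrix with rows `m_i` and last row the variables -/
noncomputable def Mx : Matrix (Fin (s + 1)) (Fin (N + 1)) (MvPolynomial (Fin (N + 1)) A) :=
  Matrix.of fun i k => Fin.snoc (α := fun _ => MvPolynomial (Fin (N + 1)) A)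
    (fun i' : Fin s => C (m i' k)) (X k) i

/-- the minor with columns `c` -/
noncomputable def minor (c : Fin (s + 1) → Fin (N + 1)) : MvPolynomial (Fin (N + 1)) A :=
  (Matrix.of fun (i : Fin (s + 1)) (j : Fin (s + 1)) =>
    (Fin.snoc (α := fun _ => MvPolynomial (Fin (N + 1)) A)
      (fun i' : Fin s => C (m i' (c j))) (X (c j)) i)).det

/-- the algebra map `a_j ↦ Σ_i (m_i)_j y_i` -/
noncomputable def piHom : MvPolynomial (Fin (N + 1)) A →ₐ[A] MvPolynomial (Fin s) A :=
  aeval (fun j : Fin (N + 1) => ∑ i : Fin s, C (m i j) * X i)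

theorem minor_eq (c : Fin (s + 1) → Fin (N + 1)) :
    minor m c = (Matrix.of fun (i j : Fin (s + 1)) => Mx m i (c j)).det := rfl

/-- the minors lie in the kernel -/
theorem minor_mem_ker (c : Fin (s + 1) → Fin (N + 1)) : piHom m (minor m c) = 0 := by
  rw [minor_eq, AlgHom.map_det]
  set M' : Matrix (Fin (s + 1)) (Fin (s + 1)) (MvPolynomial (Fin s) A) :=
    (piHom m).mapMatrix (Matrix.of fun (i j : Fin (s + 1)) => Mx m i (c j)) with hM'
  have h1 : ∀ (i' : Fin s) (j : Fin (s + 1)), M' (Fin.castSucc i') j = C (m i' (c j)) := by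
    intro i' j
    simp [hM', Mx, piHom]
  have h2 : ∀ j : Fin (s + 1), M' (Fin.last s) j = ∑ i : Fin s, C (m i (c j)) * X i := by
    intro j
    simp [hM', Mx, piHom]
  let cc : Fin (s + 1) → MvPolynomial (Fin s) A :=
    Fin.snoc (α := fun _ => MvPolynomial (Fin s) A) (fun i' : Fin s => X i') 0
  have hrow : M' (Fin.last s) = ∑ k, cc k • M' k := by
    funext j
    rw [h2, Finset.sum_apply, Fin.sum_univ_castSucc]
    simp only [cc, Fin.snoc_castSucc, Fin.snoc_last, Pi.smul_apply, smul_eq_mul, zero_mul, add_zero,
      h1]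
    refine Finset.sum_congr rfl (fun i _ => ?_)
    rw [mul_comm]
  have h3 : M' = M'.updateRow (Fin.last s) (∑ k, cc k • M' k) := by
    rw [← hrow, Matrix.updateRow_eq_self]
  rw [h3, Matrix.det_updateRow_sum]
  simp [cc]

/-- a general fact: `x - θ x` lies in the ideal generated by the `X j - θ (X j)` -/
theorem sub_mem_span {σ : Type*} (θ : MvPolynomial σ A →ₐ[A] MvPolynomial σ A)
    (x : MvPolynomial σ A) :
    x - θ x ∈ Ideal.span (Set.range fun j : σ => (X j : MvPolynomial σ A) - θ (X j)) := by
  induction x using MvPolynomial.induction_on with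
  | C a =>
    have : θ (C a) = C a := by
      rw [← MvPolynomial.algebraMap_eq]; exact θ.commutes a
    rw [this, sub_self]
    exact Ideal.zero_mem _
  | add p q hp hq =>
    rw [map_add, add_sub_add_comm]
    exact Ideal.add_mem _ hp hq
  | mul_X p j hp =>
    have : p * X j - θ (p * X j) = (p - θ p) * X j + θ p * (X j - θ (X j)) := by
      rw [map_mul]; ring
    rw [this]
    exact Ideal.add_mem _ (Ideal.mul_mem_right _ _ hp)
      (Ideal.mul_mem_left _ _ (Ideal.subset_span ⟨j, rfl⟩))

section dual

variable (hli : LinearIndependent A m)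
  (hproj : Module.Projective A ((Fin (N + 1) → A) ⧸ Submodule.span A (Set.range m)))

include hli hproj in
/-- dual linear forms -/
theorem exists_dual : ∃ l : Fin s → (Fin (N + 1) → A),
    ∀ i t, ∑ k, m t k * l i k = if t = i then 1 else 0 := by
  classical
  set M := Submodule.span A (Set.range m) with hM
  obtain ⟨σ, hσ⟩ := Module.projective_lifting_property M.mkQ LinearMap.id
    (Submodule.mkQ_surjective M)
  have hP : ∀ x : Fin (N + 1) → A, x - σ (M.mkQ x) ∈ M := by
    intro x
    rw [← Submodule.Quotient.mk_eq_zero, Submodule.Quotient.mk_sub]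
    have := LinearMap.congr_fun hσ (M.mkQ x)
    simp only [LinearMap.comp_apply, LinearMap.id_apply] at this
    rw [← Submodule.mkQ_apply, ← Submodule.mkQ_apply, this, sub_self]
  let Pm : (Fin (N + 1) → A) →ₗ[A] M :=
    LinearMap.codRestrict M (LinearMap.id - σ.comp M.mkQ) (fun x => by simpa using hP x)
  let b : Module.Basis (Fin s) A M := Module.Basis.span hli
  let L : (Fin (N + 1) → A) →ₗ[A] (Fin s →₀ A) := b.repr.toLinearMap.comp Pm
  refine ⟨fun i k => L (fun j => if k = j then 1 else 0) i, fun i t => ?_⟩
  have hmt : m t ∈ M := Submodule.subset_span ⟨t, rfl⟩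
  have hPm : Pm (m t) = b t := by
    apply Subtype.ext
    have hq : M.mkQ (m t) = 0 := by
      rw [Submodule.mkQ_apply, Submodule.Quotient.mk_eq_zero]; exact hmt
    change m t - σ (M.mkQ (m t)) = (b t : Fin (N + 1) → A)
    rw [hq, map_zero, sub_zero, Module.Basis.span_apply]
  have hL : L (m t) = Finsupp.single t 1 := by
    change b.repr (Pm (m t)) = _
    rw [hPm, Module.Basis.repr_self]
  have h1 := LinearMap.pi_apply_eq_sum_univ L (m t)
  rw [hL] at h1
  have h2 := congrArg (fun f => f i) h1
  simp only [Finsupp.coe_finset_sum, Finset.sum_apply, Finsupp.coe_smul, Pi.smul_apply,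
    smul_eq_mul] at h2
  rw [← h2, Finsupp.single_apply]

end dual

/-- key lemma: a linear form vanishing on all `m_t` lies in the ideal of minors -/
theorem linearForm_mem (l : Fin s → (Fin (N + 1) → A))
    (hl : ∀ i t, ∑ k, m t k * l i k = if t = i then 1 else 0)
    (v : Fin (N + 1) → A) (hv : ∀ t, ∑ k, m t k * v k = 0) :
    (∑ k, C (v k) * X k : MvPolynomial (Fin (N + 1)) A) ∈
      Ideal.span (Set.range (minor m)) := by
  classical
  let T : Matrix (Fin (N + 1)) (Fin (s + 1)) (MvPolynomial (Fin (N + 1)) A) :=
    Matrix.of fun k j => Fin.snoc (α := fun _ => MvPolynomial (Fin (N + 1)) A)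
      (fun j' : Fin s => C (l j' k)) (C (v k)) j
  -- (b) the determinant of the product lies in the ideal
  have hb : (Mx m * T).det ∈ Ideal.span (Set.range (minor m)) := by
    rw [← Matrix.det_transpose, Matrix.transpose_mul]
    have hrows : (T.transpose * (Mx m).transpose) =
        fun j => ∑ k, T k j • (fun i => Mx m i k) := by
      ext j i
      simp [Matrix.mul_apply, Finset.sum_apply]
    change Matrix.detRowAlternating (T.transpose * (Mx m).transpose) ∈ _
    rw [hrows]
    erw [MultilinearMap.map_sum]
    refine Ideal.sum_mem _ (fun c _ => ?_)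
    erw [MultilinearMap.map_smul_univ]
    refine Ideal.mul_mem_left _ _ ?_
    have : Matrix.detRowAlternating (fun (j : Fin (s + 1)) => fun i => Mx m i (c j))
        = minor m c := by
      rw [minor_eq, ← Matrix.det_transpose]
      rfl
    erw [this]
    exact Ideal.subset_span ⟨c, rfl⟩
  -- (a) the determinant is the linear form
  have ha : (Mx m * T).det = ∑ k, C (v k) * X k := by
    have e1 : ∀ (i' j' : Fin s), (Mx m * T) (Fin.castSucc i') (Fin.castSucc j')
        = if i' = j' then 1 else 0 := by
      intro i' j'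
      simp only [Matrix.mul_apply, Mx, T, Matrix.of_apply, Fin.snoc_castSucc]
      rw [← Finset.sum_congr rfl (fun k _ => (C_mul (a := m i' k) (a' := l j' k))),
        ← map_sum, hl j' i']
      split_ifs <;> simp
    have e2 : ∀ (i' : Fin s), (Mx m * T) (Fin.castSucc i') (Fin.last s) = 0 := by
      intro i'
      simp only [Matrix.mul_apply, Mx, T, Matrix.of_apply, Fin.snoc_castSucc, Fin.snoc_last]
      rw [← Finset.sum_congr rfl (fun k _ => (C_mul (a := m i' k) (a' := v k))),
        ← map_sum, hv i', map_zero]
    have e3 : (Mx m * T) (Fin.last s) (Fin.last s) = ∑ k, C (v k) * X k := by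
      simp only [Matrix.mul_apply, Mx, T, Matrix.of_apply, Fin.snoc_last]
      exact Finset.sum_congr rfl (fun k _ => mul_comm _ _)
    rw [Matrix.det_succ_column (Mx m * T) (Fin.last s), Fin.sum_univ_castSucc]
    have hz : ∑ i' : Fin s, (-1 : MvPolynomial (Fin (N + 1)) A) ^ ((Fin.castSucc i' : ℕ) + (Fin.last s : ℕ))
        * (Mx m * T) (Fin.castSucc i') (Fin.last s)
        * ((Mx m * T).submatrix (Fin.castSucc i').succAbove (Fin.last s).succAbove).det = 0 := by
      refine Finset.sum_eq_zero (fun i' _ => ?_)
      rw [e2, mul_zero, zero_mul]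
    rw [hz, zero_add, e3]
    have hone : (Mx m * T).submatrix (Fin.last s).succAbove (Fin.last s).succAbove = 1 := by
      ext i' j'
      simp only [Matrix.submatrix_apply, Fin.succAbove_last, e1, Matrix.one_apply]
    rw [hone, Matrix.det_one, mul_one]
    simp
  rw [← ha]
  exact hb

/-- main theorem -/
theorem main (hli : LinearIndependent A m)
    (hproj : Module.Projective A ((Fin (N + 1) → A) ⧸ Submodule.span A (Set.range m))) :
    RingHom.ker (piHom m) = Ideal.span (Set.range (minor m)) := by
  classical
  apply le_antisymm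
  · intro x hx
    obtain ⟨l, hl⟩ := exists_dual m hli hproj
    let τ : MvPolynomial (Fin s) A →ₐ[A] MvPolynomial (Fin (N + 1)) A :=
      aeval (fun i : Fin s => ∑ k, C (l i k) * X k)
    let θ : MvPolynomial (Fin (N + 1)) A →ₐ[A] MvPolynomial (Fin (N + 1)) A := τ.comp (piHom m)
    have hθx : θ x = 0 := by
      change τ (piHom m x) = 0
      rw [(RingHom.mem_ker).mp hx, map_zero]
    have h1 := sub_mem_span θ x
    rw [hθx, sub_zero] at h1
    refine (Ideal.span_le.mpr ?_) h1
    rintro _ ⟨j, rfl⟩
    -- X j - θ (X j) is a linear form vanishing on the m_t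
    let v : Fin (N + 1) → A := fun k => (if k = j then 1 else 0) - ∑ i, m i j * l i k
    have hv : ∀ t, ∑ k, m t k * v k = 0 := by
      intro t
      simp only [v, mul_sub, Finset.sum_sub_distrib]
      rw [Finset.sum_eq_single j (fun k _ hk => by rw [if_neg hk, mul_zero])
        (fun h => absurd (Finset.mem_univ j) h), if_pos rfl, mul_one]
      have : ∑ k, m t k * ∑ i, m i j * l i k = ∑ i, m i j * ∑ k, m t k * l i k := by
        simp only [Finset.mul_sum]
        rw [Finset.sum_comm]
        refine Finset.sum_congr rfl (fun i _ => Finset.sum_congr rfl (fun k _ => by ring))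
      rw [this]
      simp only [hl]
      rw [Finset.sum_eq_single t (fun i _ hi => by rw [if_neg (Ne.symm hi), mul_zero])
        (fun h => absurd (Finset.mem_univ t) h), if_pos rfl, mul_one, sub_self]
    have key := linearForm_mem m l hl v hv
    have hform : (X j : MvPolynomial (Fin (N + 1)) A) - θ (X j) = ∑ k, C (v k) * X k := by
      have hθ : θ (X j) = ∑ i, C (m i j) * ∑ k, C (l i k) * X k := by
        change τ (piHom m (X j)) = _
        simp only [piHom, τ, aeval_X, map_sum, map_mul, aeval_C, algebraMap_eq]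
      rw [hθ]
      simp only [v, C_sub, sub_mul, Finset.sum_sub_distrib, map_sum, C_mul]
      rw [Finset.sum_eq_single j (fun k _ hk => by rw [if_neg hk, C_0, zero_mul])
        (fun h => absurd (Finset.mem_univ j) h), if_pos rfl, C_1, one_mul]
      congr 1
      simp only [Finset.mul_sum, Finset.sum_mul]
      rw [Finset.sum_comm]
      refine Finset.sum_congr rfl (fun i _ => Finset.sum_congr rfl (fun k _ => by ring))
    change (X j : MvPolynomial (Fin (N + 1)) A) - θ (X j) ∈ _
    rw [hform]
    exact key
  · refine Ideal.span_le.mpr ?_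
    rintro _ ⟨c, rfl⟩
    exact (RingHom.mem_ker).mpr (minor_mem_ker m c)

end Groth.Agent.Helper8.LefPen
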