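import Mathlib

set_option autoImplicit false
universe u v

namespace Groth.Agent.Helper8.LenDet

open Module Submodule IsDiscreteValuationRing Matrix

variable {B : Type u} [CommRing B] [IsDomain B] [IsDiscreteValuationRing B]

lemma length_quot_span (a : B) :
    Module.length B (B ⧸ Ideal.span ({a} : Set B)) = addVal B a :=
  Ring.ord_eq_addVal a

lemma length_self : Module.length B B = ⊤ := by
  rw [← Ring.ord_zero, Ring.ord_eq_addVal, addVal_zero]

lemma addVal_prod {ι : Type*} (s : Finset ι) (a : ι → B) :
    addVal B (∏ i ∈ s, a i) = ∑ i ∈ s, addVal B (a i) := by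
  classical
  induction s using Finset.induction_on with
  | empty => simp [addVal_one]
  | insert i s hi ih => rw [Finset.prod_insert hi, Finset.sum_insert hi, addVal_mul, ih]

lemma addVal_eq_of_associated {x y : B} (h : Associated x y) : addVal B x = addVal B y := by
  rw [← Ring.ord_eq_addVal, ← Ring.ord_eq_addVal]
  exact Ring.ord_eq_of_associated h

/-- nondegenerate case -/
theorem length_coker_of_det_ne_zero {r : ℕ} (A : Matrix (Fin r) (Fin r) B) (hA : A.det ≠ 0) :
    Module.length B ((Fin r → B) ⧸ LinearMap.range A.mulVecLin) = addVal B A.det := by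
  classical
  set N := LinearMap.range A.mulVecLin with hN
  have hinj : Function.Injective A.mulVecLin := Matrix.mulVec_injective_of_det_ne_zero hA
  let e : (Fin r → B) ≃ₗ[B] N := LinearEquiv.ofInjective A.mulVecLin hinj
  let b := Pi.basisFun B (Fin r)
  have h : Module.finrank B N = Module.finrank B (Fin r → B) := e.symm.finrank_eq
  let a := smithNormalFormCoeffs b h
  let b' := smithNormalFormTopBasis b h
  let ab := smithNormalFormBotBasis b h
  have ab_eq := smithNormalFormBotBasis_def b h
  let e' : (Fin r → B) ≃ₗ[B] N := b'.equiv ab (Equiv.refl _)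
  let f : (Fin r → B) →ₗ[B] (Fin r → B) := N.subtype.comp (e' : (Fin r → B) →ₗ[B] N)
  have f_apply : ∀ x, f x = b'.equiv ab (Equiv.refl _) x := fun x ↦ rfl
  have ha : ∀ i, f (b' i) = a i • b' i := by
    intro i
    rw [f_apply, b'.equiv_apply, Equiv.refl_apply]
    exact ab_eq i
  have hdetf : LinearMap.det f = ∏ i, a i := by
    rw [← LinearMap.det_toMatrix b', ← Matrix.det_diagonal]
    congr 1
    ext i j
    rw [LinearMap.toMatrix_apply, ha, map_smul, Basis.repr_self, Finsupp.smul_single,
      smul_eq_mul, mul_one]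
    by_cases hij : i = j
    · rw [hij, Matrix.diagonal_apply_eq, Finsupp.single_eq_same]
    · rw [Matrix.diagonal_apply_ne _ hij, Finsupp.single_eq_of_ne hij]
  have hAe : A.mulVecLin = N.subtype.comp (e : (Fin r → B) →ₗ[B] N) := by
    apply LinearMap.ext
    intro x
    rfl
  have hassoc : Associated A.det (∏ i, a i) := by
    rw [← hdetf, ← LinearMap.det_toLin' A, Matrix.toLin'_apply', hAe]
    exact LinearMap.associated_det_comp_equiv _ _ _
  rw [addVal_eq_of_associated hassoc, addVal_prod,
    (quotientEquivPiSpan N b h).length_eq, Module.length_pi_of_fintype]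
  exact Finset.sum_congr rfl (fun i _ => length_quot_span _)

/-- degenerate case -/
theorem length_coker_of_det_eq_zero {r : ℕ} (A : Matrix (Fin r) (Fin r) B) (hA : A.det = 0) :
    Module.length B ((Fin r → B) ⧸ LinearMap.range A.mulVecLin) = ⊤ := by
  classical
  obtain ⟨v, hv0, hvA⟩ := Matrix.exists_vecMul_eq_zero_iff.mpr hA
  let lam : (Fin r → B) →ₗ[B] B :=
    { toFun := fun x => v ⬝ᵥ x
      map_add' := dotProduct_add v
      map_smul' := by
        intro t x
        simp [dotProduct_smul] }
  have hle : LinearMap.range A.mulVecLin ≤ LinearMap.ker lam := by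
    rintro _ ⟨x, rfl⟩
    rw [LinearMap.mem_ker]
    change v ⬝ᵥ (A *ᵥ x) = 0
    rw [Matrix.dotProduct_mulVec, hvA, zero_dotProduct]
  obtain ⟨i₀, hi₀⟩ : ∃ i, v i ≠ 0 := by
    by_contra hcon
    push Not at hcon
    exact hv0 (funext hcon)
  let lam' : ((Fin r → B) ⧸ LinearMap.range A.mulVecLin) →ₗ[B] B :=
    (LinearMap.range A.mulVecLin).liftQ lam hle
  have hmem : v i₀ ∈ LinearMap.range lam' := by
    refine ⟨Submodule.Quotient.mk (Pi.single i₀ 1), ?_⟩
    change v ⬝ᵥ (Pi.single i₀ 1) = v i₀
    simp
  let g : B →ₗ[B] LinearMap.range lam' :=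
    LinearMap.toSpanSingleton B (LinearMap.range lam') ⟨v i₀, hmem⟩
  have hg : Function.Injective g := by
    rw [← LinearMap.ker_eq_bot, LinearMap.ker_eq_bot']
    intro t ht
    have h1 : t * v i₀ = 0 := by
      have := congrArg Subtype.val ht
      simpa [g, LinearMap.toSpanSingleton_apply] using this
    rcases mul_eq_zero.mp h1 with h | h
    · exact h
    · exact absurd h hi₀
  have h1 : Module.length B B ≤ Module.length B (LinearMap.range lam') :=
    Module.length_le_of_injective g hg
  have h2 : Module.length B (LinearMap.range lam') ≤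
      Module.length B ((Fin r → B) ⧸ LinearMap.range A.mulVecLin) :=
    Module.length_le_of_surjective lam'.rangeRestrict (LinearMap.surjective_rangeRestrict lam')
  rw [length_self] at h1
  exact top_le_iff.mp (h1.trans h2)

theorem length_coker_matrix {r : ℕ} (A : Matrix (Fin r) (Fin r) B) :
    Module.length B ((Fin r → B) ⧸ LinearMap.range A.mulVecLin) = addVal B A.det := by
  by_cases hA : A.det = 0
  · rw [length_coker_of_det_eq_zero A hA, hA, addVal_zero]
  · exact length_coker_of_det_ne_zero A hA

/-- linear map between free modules with bases -/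
theorem length_coker_linear {r : ℕ} {M N : Type v} [AddCommGroup M] [Module B M]
    [AddCommGroup N] [Module B N] (bM : Module.Basis (Fin r) B M) (bN : Module.Basis (Fin r) B N)
    (f : M →ₗ[B] N) :
    Module.length B (N ⧸ LinearMap.range f) =
      addVal B (Matrix.det (Matrix.of fun (a c : Fin r) => bN.repr (f (bM c)) a)) := by
  classical
  set A : Matrix (Fin r) (Fin r) B := Matrix.of fun (a c : Fin r) => bN.repr (f (bM c)) a with hA
  have hcomp : (bN.equivFun : N →ₗ[B] (Fin r → B)) ∘ₗ f =
      A.mulVecLin ∘ₗ (bM.equivFun : M →ₗ[B] (Fin r → B)) := by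
    apply bM.ext
    intro c
    ext a
    simp only [LinearMap.comp_apply, LinearEquiv.coe_coe, Basis.equivFun_apply, Basis.repr_self,
      Matrix.mulVecLin_apply]
    rw [Finsupp.single_eq_pi_single, Matrix.mulVec_single_one]
    simp [hA]
  have hmap : (LinearMap.range f).map (bN.equivFun : N →ₗ[B] (Fin r → B)) =
      LinearMap.range A.mulVecLin := by
    rw [← LinearMap.range_comp, hcomp, LinearMap.range_comp_of_range_eq_top]
    exact LinearEquiv.range _
  rw [← length_coker_matrix A]
  exact (Submodule.Quotient.equiv _ _ bN.equivFun hmap).length_eq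

theorem main (ω : B ≃+* B) {n : ℕ} (r : Fin n → ℕ)
    (M N : Fin n → Type v) [∀ i, AddCommGroup (M i)] [∀ i, Module B (M i)]
    [∀ i, AddCommGroup (N i)] [∀ i, Module B (N i)]
    (bM : ∀ i, Module.Basis (Fin (r i)) B (M i)) (bN : ∀ i, Module.Basis (Fin (r i)) B (N i))
    (χ : ∀ i, M i →+ N i) (hχ : ∀ i (b : B) (x : M i), χ i (b • x) = ω b • χ i x) :
    Module.length B ((∀ i, N i) ⧸ Submodule.span B
        (Set.range (fun (x : ∀ i, M i) (i : Fin n) => χ i (x i)))) =
      addVal B (∏ i, Matrix.det
        (Matrix.of fun (a c : Fin (r i)) => (bN i).repr (χ i (bM i c)) a)) := by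
  classical
  let f : ∀ i, M i →ₗ[B] N i := fun i => (bM i).constr B (fun c => χ i (bM i c))
  have hf : ∀ i c, f i (bM i c) = χ i (bM i c) := fun i c => (bM i).constr_basis B _ c
  set G := Submodule.span B (Set.range (fun (x : ∀ i, M i) (i : Fin n) => χ i (x i))) with hG
  have L1 : ∀ i (m : M i), χ i m ∈ LinearMap.range (f i) := by
    intro i m
    refine ⟨∑ c, ω ((bM i).repr m c) • bM i c, ?_⟩
    rw [map_sum]
    conv_rhs => rw [← (bM i).sum_repr m, map_sum]
    refine Finset.sum_congr rfl (fun c _ => ?_)
    rw [map_smul, hχ, hf]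
  have hsingle : ∀ i (m : M i), (Pi.single i (χ i m) : ∀ j, N j) ∈ G := by
    intro i m
    have : (Pi.single i (χ i m) : ∀ j, N j) =
        (fun (x : ∀ i, M i) (j : Fin n) => χ j (x j)) (Pi.single i m) := by
      funext j
      by_cases hji : j = i
      · subst hji
        simp
      · simp [Pi.single_eq_of_ne hji]
    rw [this]
    exact Submodule.subset_span ⟨_, rfl⟩
  have hle : ∀ i, LinearMap.range (f i) ≤ G.comap (LinearMap.single B N i) := by
    intro i
    change LinearMap.range ((bM i).constr B (fun c => χ i (bM i c))) ≤ _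
    rw [Basis.constr_range, Submodule.span_le]
    rintro _ ⟨c, rfl⟩
    exact hsingle i (bM i c)
  have hGpi : G = Submodule.pi Set.univ (fun i => LinearMap.range (f i)) := by
    apply le_antisymm
    · rw [hG, Submodule.span_le]
      rintro _ ⟨x, rfl⟩
      intro i _
      exact L1 i (x i)
    · intro y hy
      rw [← Finset.univ_sum_single y]
      refine Submodule.sum_mem _ (fun i _ => ?_)
      exact hle i (hy i (Set.mem_univ i))
  rw [hGpi, (Submodule.quotientPi (fun i => LinearMap.range (f i))).length_eq,
    Module.length_pi_of_fintype, addVal_prod]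
  refine Finset.sum_congr rfl (fun i _ => ?_)
  rw [length_coker_linear (bM i) (bN i) (f i)]
  congr 3
  ext a c
  simp only [Matrix.of_apply, hf]

end Groth.Agent.Helper8.LenDet
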