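import Groth.Prelude.Def_LieS
import Groth.Agent.Helper8.LieA

set_option autoImplicit false
universe u
open CategoryTheory MonObj AlgebraicGeometry
open LieS

namespace Groth.Agent.Helper8.LieB

variable {B : Type u} [CommRing B]

lemma comap_fstHom_surjective :
    Function.Surjective (PrimeSpectrum.comap (R := DualNumber B) (S := B)
      (TrivSqZeroExt.fstHom B B B).toRingHom) := by
  intro P
  have hs : Function.Surjective (TrivSqZeroExt.fstHom B B B).toRingHom := fun b =>
    ⟨TrivSqZeroExt.inl b, by simp⟩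
  have : P ∈ Set.range (PrimeSpectrum.comap (R := DualNumber B) (S := B)
      (TrivSqZeroExt.fstHom B B B).toRingHom) := by
    rw [range_comap_of_surjective _ _ hs, PrimeSpectrum.mem_zeroLocus]
    intro x hx
    have hx0 : x.fst = 0 := by simpa using hx
    have hsq : x * x = 0 := by
      ext <;> simp [hx0]
    have : x * x ∈ P.asIdeal := by rw [hsq]; exact P.asIdeal.zero_mem
    rcases P.2.mem_or_mem this with h | h <;> exact h
  exact this

lemma fst_fst_mulHom :
    ((TrivSqZeroExt.fstHom B B B).toRingHom.comp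
      (TrivSqZeroExt.fstHom (DualNumber B) (DualNumber B) (DualNumber B)).toRingHom).comp (mulHom B) =
    (TrivSqZeroExt.fstHom B B B).toRingHom := by
  refine RingHom.ext fun x => ?_
  simp [mulHom, TrivSqZeroExt.algebraMap_eq_inl']

lemma comap_mulHom_surjective :
    Function.Surjective (PrimeSpectrum.comap (R := DualNumber B) (S := D2 B) (mulHom B)) := by
  intro P
  obtain ⟨p, hp⟩ := comap_fstHom_surjective P
  refine ⟨PrimeSpectrum.comap (R := D2 B) (S := B) ((TrivSqZeroExt.fstHom B B B).toRingHom.comp
      (TrivSqZeroExt.fstHom (DualNumber B) (DualNumber B) (DualNumber B)).toRingHom) p, ?_⟩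
  rw [← hp]
  change PrimeSpectrum.comap (R := DualNumber B) (S := B) (((TrivSqZeroExt.fstHom B B B).toRingHom.comp
      (TrivSqZeroExt.fstHom (DualNumber B) (DualNumber B) (DualNumber B)).toRingHom).comp (mulHom B)) p = _
  rw [fst_fst_mulHom]

lemma mulHom_injective : Function.Injective (mulHom B) := by
  intro x y hxy
  have h1 := congrArg (fun z : D2 B => z.fst.fst) hxy
  have h2 := congrArg (fun z : D2 B => z.snd.snd) hxy
  simp [mulHom, TrivSqZeroExt.algebraMap_eq_inl'] at h1 h2
  exact TrivSqZeroExt.ext h1 h2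

theorem cancel {Z : Scheme.{u}} (g₁ g₂ : Spec (CommRingCat.of (DualNumber B)) ⟶ Z)
    (hg : (Spec.map (CommRingCat.ofHom (mulHom B)) :
        Spec (CommRingCat.of (D2 B)) ⟶ Spec (CommRingCat.of (DualNumber B))) ≫ g₁ =
      (Spec.map (CommRingCat.ofHom (mulHom B)) :
        Spec (CommRingCat.of (D2 B)) ⟶ Spec (CommRingCat.of (DualNumber B))) ≫ g₂) : g₁ = g₂ := by
  have := @LieA.spec_cancel (DualNumber B) (D2 B) _ _ (mulHom B)
  have h2 := this comap_mulHom_surjective mulHom_injective g₁ g₂
  exact h2 hg

theorem main (S : Scheme.{u}) (G : Over S) [GrpObj G] (B : Type u) [CommRing B]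
    (f : Spec (CommRingCat.of B) ⟶ S) (x y z z' : LieS.Lie G B f)
    (h : LieS.IsBracket G B f x y z) (h' : LieS.IsBracket G B f x y z') : z = z' := by
  have e : mulMap B f ≫ z.1 = mulMap B f ≫ z'.1 := h.trans h'.symm
  have e' := congrArg (fun g => g.left) e
  simp only [Over.comp_left] at e'
  have hl : (mulMap B f).left = Spec.map (CommRingCat.ofHom (mulHom B)) := rfl
  rw [hl] at e'
  have := cancel _ _ e'
  exact Subtype.ext (Over.OverMorphism.ext this)

end Groth.Agent.Helper8.LieB
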