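import Groth.Prelude.Def_LieS
import Groth.Agent.Helper8.LieC

set_option autoImplicit false
noncomputable section
universe u
open CategoryTheory MonObj AlgebraicGeometry
open LieS

namespace Groth.Agent.Helper8.LieD

open Groth.Agent.Helper8.LieC

variable {B : Type u} [CommRing B] {S : Scheme.{u}} (f : Spec (CommRingCat.of B) ⟶ S)

section Mon
variable {X : Over S} [MonObj X]

/-- `a ↦ a • v` as a monoid hom from the additive group of `B` -/
def scaleHomM (v : dpt B f ⟶ X) (hv : zeroSec B f ≫ v = 1) : Multiplicative B →* (dpt B f ⟶ X) where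
  toFun a := scale B f a.toAdd ≫ v
  map_one' := scale_zero_comp f v hv
  map_mul' a b := (scale_mul_scale f v hv a.toAdd b.toAdd).symm

lemma scaleHomM_apply (v : dpt B f ⟶ X) (hv : zeroSec B f ≫ v = 1) (a : B) :
    scaleHomM f v hv (Multiplicative.ofAdd a) = scale B f a ≫ v := rfl

omit [MonObj X] in
lemma scale_one_comp (v : dpt B f ⟶ X) : scale B f 1 ≫ v = v := by
  rw [scale_one, Category.id_comp]

/-- a dual-number point restricting to the unit is invertible -/
lemma isUnit_of_zeroSec_eq_one (v : dpt B f ⟶ X) (hv : zeroSec B f ≫ v = 1) : IsUnit v := by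
  have h1 : (scale B f 1 ≫ v) * (scale B f (-1) ≫ v) = 1 := by
    rw [scale_mul_scale f v hv, add_neg_cancel, scale_zero_comp f v hv]
  have h2 : (scale B f (-1) ≫ v) * (scale B f 1 ≫ v) = 1 := by
    rw [scale_mul_scale f v hv, neg_add_cancel, scale_zero_comp f v hv]
  rw [scale_one_comp] at h1 h2
  exact ⟨⟨v, scale B f (-1) ≫ v, h1, h2⟩, rfl⟩

theorem isUnit_iff (v : dpt B f ⟶ X) : IsUnit v ↔ IsUnit (zeroSec B f ≫ v) := by
  constructor
  · intro h
    let φ : (dpt B f ⟶ X) →* (pt B f ⟶ X) :=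
      { toFun := fun w => zeroSec B f ≫ w
        map_one' := MonObj.comp_one _
        map_mul' := fun a b => MonObj.comp_mul _ a b }
    exact h.map φ
  · intro h
    obtain ⟨u, hu⟩ := h
    have hp : IsUnit (proj B f ≫ (u : pt B f ⟶ X)) := by
      let ψ : (pt B f ⟶ X) →* (dpt B f ⟶ X) :=
        { toFun := fun w => proj B f ≫ w
          map_one' := MonObj.comp_one _
          map_mul' := fun a b => MonObj.comp_mul _ a b }
      exact (u.isUnit).map ψ
    have hp' : (proj B f ≫ (u : pt B f ⟶ X)) * (proj B f ≫ ((u⁻¹ : (pt B f ⟶ X)ˣ) : pt B f ⟶ X)) = 1 := by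
      rw [← MonObj.comp_mul, Units.mul_inv, MonObj.comp_one]
    have hp'' : (proj B f ≫ ((u⁻¹ : (pt B f ⟶ X)ˣ) : pt B f ⟶ X)) * (proj B f ≫ (u : pt B f ⟶ X)) = 1 := by
      rw [← MonObj.comp_mul, Units.inv_mul, MonObj.comp_one]
    set w : dpt B f ⟶ X := v * (proj B f ≫ ((u⁻¹ : (pt B f ⟶ X)ˣ) : pt B f ⟶ X)) with hw
    have hw1 : zeroSec B f ≫ w = 1 := by
      rw [hw, MonObj.comp_mul, ← Category.assoc, zeroSec_proj, Category.id_comp, ← hu, Units.mul_inv]
    have hwu := isUnit_of_zeroSec_eq_one f w hw1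
    have hv : v = w * (proj B f ≫ (u : pt B f ⟶ X)) := by
      rw [hw, _root_.mul_assoc, hp'', _root_.mul_one]
    rw [hv]
    exact hwu.mul hp

end Mon

section Grp
variable (G : Over S) [GrpObj G]

theorem zpow_eq (v : LieS.Lie G B f) (n : ℤ) : v ^ n = ((n : B) • v : LieS.Lie G B f) := by
  apply Subtype.ext
  rw [Subgroup.coe_zpow, smul_val]
  have hv : zeroSec B f ≫ v.1 = 1 := v.2
  have h1 := map_zpow (scaleHomM f v.1 hv) (Multiplicative.ofAdd (1 : B)) n
  rw [scaleHomM_apply, scale_one_comp, ← ofAdd_zsmul, zsmul_one, scaleHomM_apply] at h1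
  exact h1.symm

end Grp

end Groth.Agent.Helper8.LieD
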