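import Groth.Prelude.Def_LieS
import Groth.Agent.Helper8.LieC

set_option autoImplicit false
noncomputable section
universe u
open CategoryTheory MonObj AlgebraicGeometry
open LieS

namespace Groth.Agent.Helper8.LieE

section Rings
variable {B C : Type u} [CommRing B] [CommRing C]

/-- the section `ε ↦ c` -/
def secHom (c : C) (hc : c * c = 0) : DualNumber C →+* C := dualHom (RingHom.id C) c hc

lemma secHom_comp_algebraMap (c : C) (hc : c * c = 0) :
    (secHom c hc).comp (algebraMap C (DualNumber C)) = RingHom.id C :=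
  dualHom_comp_algebraMap _ _ _

lemma secHom_comp_bcHom (h₀ : B →+* C) (c : C) (hc : c * c = 0) :
    (secHom c hc).comp (bcHom h₀) = dualHom h₀ c hc :=
  RingHom.ext fun x => by
    simp [secHom, bcHom, TrivSqZeroExt.algebraMap_eq_inl']

lemma eps_sq_map (φ : DualNumber B →+* C) : φ DualNumber.eps * φ DualNumber.eps = 0 := by
  rw [← map_mul, eps_sq, map_zero]

lemma eq_dualHom (φ : DualNumber B →+* C) (h₀ : B →+* C)
    (hφ : φ.comp (algebraMap B (DualNumber B)) = h₀) :
    dualHom h₀ (φ DualNumber.eps) (eps_sq_map φ) = φ :=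
  RingHom.ext fun x => by
    have hx : x = algebraMap B (DualNumber B) x.fst + algebraMap B (DualNumber B) x.snd * DualNumber.eps := by
      apply TrivSqZeroExt.ext <;> simp [TrivSqZeroExt.algebraMap_eq_inl']
    conv_rhs => rw [hx]
    rw [map_add, map_mul, dualHom_apply, ← hφ]
    rfl

end Rings

section Schemes
variable {S : Scheme.{u}}

/-- the section of `proj` given by `ε ↦ c` -/
def sec (C : Type u) [CommRing C] (fC : Spec (CommRingCat.of C) ⟶ S) (c : C) (hc : c * c = 0) :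
    pt C fC ⟶ dpt C fC :=
  Over.homMk (Spec.map (CommRingCat.ofHom (secHom c hc))) (by
    change Spec.map _ ≫ Spec.map _ ≫ fC = fC
    rw [← Category.assoc, specMap_comp, secHom_comp_algebraMap, CommRingCat.ofHom_id]
    erw [Spec.map_id]; exact Category.id_comp fC)

lemma sec_proj (C : Type u) [CommRing C] (fC : Spec (CommRingCat.of C) ⟶ S) (c : C) (hc : c * c = 0) :
    sec C fC c hc ≫ proj C fC = 𝟙 _ := by
  ext; change Spec.map _ ≫ Spec.map _ = 𝟙 _
  rw [specMap_comp, secHom_comp_algebraMap, CommRingCat.ofHom_id]; erw [Spec.map_id]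

variable (G K : Over S) [GrpObj G] [GrpObj K] (i : K ⟶ G)
  {B : Type u} [CommRing B] (f : Spec (CommRingCat.of B) ⟶ S) (x : LieS.Lie G B f)

omit [GrpObj K] in
lemma aff
    (hAd : ∀ (B' : Type u) [CommRing B'] (h : B →+* B')
      (k : LieS.pt B' (Spec.map (CommRingCat.ofHom h) ≫ f) ⟶ K),
      LieS.Ad G B' (Spec.map (CommRingCat.ofHom h) ≫ f) (k ≫ i) (LieS.pull G f h x) = LieS.pull G f h x)
    (C : Type u) [CommRing C] (h₀ : B →+* C) (φ : DualNumber B →+* C)
    (hφ : φ.comp (algebraMap B (DualNumber B)) = h₀)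
    (cS : Spec (CommRingCat.of C) ⟶ S) (hc : cS = Spec.map (CommRingCat.ofHom h₀) ≫ f)
    (y : Over.mk cS ⟶ dpt B f) (hy : y.left = Spec.map (CommRingCat.ofHom φ)) (k : Over.mk cS ⟶ K) :
    (y ≫ x.1) * (k ≫ i) = (k ≫ i) * (y ≫ x.1) := by
  subst hc
  have hy' : y = sec C (Spec.map (CommRingCat.ofHom h₀) ≫ f) (φ DualNumber.eps) (eps_sq_map φ) ≫
      dptMap f h₀ := by
    ext
    rw [hy]
    change Spec.map _ = Spec.map _ ≫ Spec.map _
    rw [specMap_comp, secHom_comp_bcHom, eq_dualHom φ h₀ hφ]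
  have h1 := hAd C h₀ k
  have h2 : (proj C (Spec.map (CommRingCat.ofHom h₀) ≫ f) ≫ k ≫ i) * (dptMap f h₀ ≫ x.1) *
      (proj C (Spec.map (CommRingCat.ofHom h₀) ≫ f) ≫ k ≫ i)⁻¹ = dptMap f h₀ ≫ x.1 :=
    congrArg Subtype.val h1
  have h3 : (proj C (Spec.map (CommRingCat.ofHom h₀) ≫ f) ≫ k ≫ i) * (dptMap f h₀ ≫ x.1) =
      (dptMap f h₀ ≫ x.1) * (proj C (Spec.map (CommRingCat.ofHom h₀) ≫ f) ≫ k ≫ i) :=
    mul_inv_eq_iff_eq_mul.1 h2
  have h4 := congrArg (fun w => sec C (Spec.map (CommRingCat.ofHom h₀) ≫ f) (φ DualNumber.eps)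
    (eps_sq_map φ) ≫ w) h3
  simp only [MonObj.comp_mul] at h4
  rw [← Category.assoc _ (proj C _), sec_proj, Category.id_comp, ← Category.assoc _ (dptMap f h₀),
    ← hy'] at h4
  exact h4.symm

theorem main :
    (∀ (X' : Over S) (y : X' ⟶ LieS.dpt B f) (h : X' ⟶ K), (y ≫ x.1) * (h ≫ i) = (h ≫ i) * (y ≫ x.1)) ↔
    (∀ (B' : Type u) [CommRing B'] (h : B →+* B')
      (k : LieS.pt B' (Spec.map (CommRingCat.ofHom h) ≫ f) ⟶ K),
      LieS.Ad G B' (Spec.map (CommRingCat.ofHom h) ≫ f) (k ≫ i) (LieS.pull G f h x) = LieS.pull G f h x) := by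
  constructor
  · intro H B' _ h k
    apply Subtype.ext
    have h1 := H (dpt B' (Spec.map (CommRingCat.ofHom h) ≫ f)) (dptMap f h)
      (proj B' (Spec.map (CommRingCat.ofHom h) ≫ f) ≫ k)
    rw [Category.assoc] at h1
    change (proj B' (Spec.map (CommRingCat.ofHom h) ≫ f) ≫ k ≫ i) * (dptMap f h ≫ x.1) *
      (proj B' (Spec.map (CommRingCat.ofHom h) ≫ f) ≫ k ≫ i)⁻¹ = dptMap f h ≫ x.1
    rw [← h1, mul_inv_cancel_right]
  · intro hAd X' y h
    apply Over.OverMorphism.ext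
    apply X'.left.affineOpenCover.openCover.hom_ext
    intro j
    let C : CommRingCat.{u} := X'.left.affineOpenCover.X j
    let jm : Spec C ⟶ X'.left := X'.left.affineOpenCover.f j
    let XJ : Over S := Over.mk (jm ≫ X'.hom)
    let J : XJ ⟶ X' := Over.homMk jm rfl
    let φ : DualNumber B →+* C := (Spec.preimage (jm ≫ y.left)).hom
    have hφ : Spec.map (CommRingCat.ofHom φ) = jm ≫ y.left := Spec.map_preimage _
    have key : J ≫ ((y ≫ x.1) * (h ≫ i)) = J ≫ ((h ≫ i) * (y ≫ x.1)) := by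
      rw [MonObj.comp_mul, MonObj.comp_mul, ← Category.assoc, ← Category.assoc]
      refine aff G K i f x hAd C (φ.comp (algebraMap B (DualNumber B))) φ rfl (jm ≫ X'.hom) ?_
        (J ≫ y) hφ.symm (J ≫ h)
      rw [← Over.w y, ← Category.assoc, ← hφ]
      change _ = Spec.map _ ≫ f
      rw [← specMap_comp, Category.assoc]
      rfl
    exact congrArg (fun g => g.left) key

end Schemes

end Groth.Agent.Helper8.LieE
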