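import Mathlib

set_option autoImplicit false
universe u
open TensorProduct

namespace Groth.Agent.Helper8.LiftProj

variable {R : Type u} [CommRing R]

theorem pow_entries_mem {n : ℕ} (N : Matrix (Fin n) (Fin n) R) (J : Ideal R)
    (hN : ∀ i j, N i j ∈ J) (k : ℕ) : ∀ i j, (N ^ k) i j ∈ J ^ k := by
  induction k with
  | zero => intro i j; simp
  | succ k ih =>
    intro i j
    rw [pow_succ N k, Matrix.mul_apply, pow_succ J k]
    exact Ideal.sum_mem _ fun l _ => Ideal.mul_mem_mul (ih i l) (hN l j)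

theorem isNilpotent_of_entries_mem {n : ℕ} (N : Matrix (Fin n) (Fin n) R) (I : Ideal R)
    (hI : ∀ x ∈ I, IsNilpotent x) (hN : ∀ i j, N i j ∈ I) : IsNilpotent N := by
  let J : Ideal R := Ideal.span (Set.range fun p : Fin n × Fin n => N p.1 p.2)
  have hJfg : J.FG := Submodule.fg_span (Set.finite_range _)
  have hJI : J ≤ I := by
    rw [Ideal.span_le]; rintro _ ⟨p, rfl⟩; exact hN _ _
  have hJnil : J ≤ nilradical R := fun x hx => hI x (hJI hx)
  obtain ⟨k, hk⟩ := hJfg.isNilpotent_iff_le_nilradical.mpr hJnil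
  refine ⟨k, ?_⟩
  ext i j
  have := pow_entries_mem N J (fun i j => Ideal.subset_span ⟨(i, j), rfl⟩) k i j
  rw [hk] at this
  simpa using this

theorem exists_idempotent_lift {n : ℕ} (I : Ideal R) (hI : ∀ x ∈ I, IsNilpotent x)
    (Eb : Matrix (Fin n) (Fin n) (R ⧸ I)) (hEb : IsIdempotentElem Eb) :
    ∃ E : Matrix (Fin n) (Fin n) R, IsIdempotentElem E ∧ E.map (Ideal.Quotient.mk I) = Eb := by
  have hker : ∀ x ∈ RingHom.ker ((Ideal.Quotient.mk I).mapMatrix (m := Fin n)), IsNilpotent x := by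
    intro x hx
    refine isNilpotent_of_entries_mem x I hI fun i j => ?_
    rw [RingHom.mem_ker] at hx
    have := congr_fun (congr_fun hx i) j
    simpa [Ideal.Quotient.eq_zero_iff_mem] using this
  have hrange : Eb ∈ ((Ideal.Quotient.mk I).mapMatrix (m := Fin n)).range := by
    refine ⟨Eb.map (Function.surjInv Ideal.Quotient.mk_surjective), ?_⟩
    ext i j
    simp [Function.surjInv_eq]
  obtain ⟨E, hE, hE'⟩ := exists_isIdempotentElem_eq_of_ker_isNilpotent _ hker Eb hrange hEb
  exact ⟨E, hE, hE'⟩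

/-- compatibility of `piScalarRight` with matrices -/
theorem piScalarRight_baseChange {n : ℕ} (I : Ideal R) (E : Matrix (Fin n) (Fin n) R) :
    (TensorProduct.piScalarRight R (R ⧸ I) (R ⧸ I) (Fin n)).toLinearMap ∘ₗ
        (Matrix.toLin' E).baseChange (R ⧸ I) =
      Matrix.toLin' (E.map (Ideal.Quotient.mk I)) ∘ₗ
        (TensorProduct.piScalarRight R (R ⧸ I) (R ⧸ I) (Fin n)).toLinearMap := by
  ext v j
  simp only [AlgebraTensorModule.curry_apply, curry_apply, LinearMap.coe_restrictScalars,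
    LinearMap.coe_comp, LinearEquiv.coe_coe, Function.comp_apply, LinearMap.baseChange_tmul,
    piScalarRight_apply, piScalarRightHom_tmul, Matrix.toLin'_apply, Matrix.mulVec, dotProduct,
    Matrix.map_apply]
  rw [← Ideal.Quotient.algebraMap_eq, ← Algebra.algebraMap_eq_smul_one, map_sum]
  refine Finset.sum_congr rfl fun k _ => ?_
  rw [map_mul, ← Algebra.algebraMap_eq_smul_one]

theorem projective_range {F : Type u} [AddCommGroup F] [Module R F] [Module.Projective R F]
    (e : F →ₗ[R] F) (he : e ∘ₗ e = e) : Module.Projective R (LinearMap.range e) := by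
  refine Module.Projective.of_split (LinearMap.range e).subtype e.rangeRestrict ?_
  ext ⟨x, y, rfl⟩
  exact congr($he y)

/-- abstract version: an idempotent `e` on `F` whose base change is conjugate to `g ∘ f`
with `f ∘ g = id`. -/
theorem exists_equiv_of_idempotent {S : Type u} [CommRing S] [Algebra R S]
    {F : Type u} [AddCommGroup F] [Module R F]
    {G Pb : Type u} [AddCommGroup G] [Module S G] [AddCommGroup Pb] [Module S Pb]
    (e : F →ₗ[R] F) (he : e ∘ₗ e = e)
    (φ : S ⊗[R] F ≃ₗ[S] G) (f : G →ₗ[S] Pb) (g : Pb →ₗ[S] G) (hfg : f ∘ₗ g = LinearMap.id)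
    (hφ : φ.toLinearMap ∘ₗ e.baseChange S = (g ∘ₗ f) ∘ₗ φ.toLinearMap) :
    Nonempty ((S ⊗[R] LinearMap.range e) ≃ₗ[S] Pb) := by
  let i : LinearMap.range e →ₗ[R] F := (LinearMap.range e).subtype
  let r : F →ₗ[R] LinearMap.range e := e.rangeRestrict
  have hir : i ∘ₗ r = e := by ext x; rfl
  have hri : r ∘ₗ i = LinearMap.id := by
    ext ⟨x, y, rfl⟩
    exact congr($he y)
  have hir' : i.baseChange S ∘ₗ r.baseChange S = e.baseChange S := by
    rw [← LinearMap.baseChange_comp, hir]
  have hri' : r.baseChange S ∘ₗ i.baseChange S = LinearMap.id := by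
    rw [← LinearMap.baseChange_comp, hri, LinearMap.baseChange_id]
  have hφ' : ∀ x, φ (e.baseChange S x) = g (f (φ x)) := fun x => congr($hφ x)
  have hfg' : ∀ x, f (g x) = x := fun x => congr($hfg x)
  have hir'' : ∀ x, i.baseChange S (r.baseChange S x) = e.baseChange S x := fun x => congr($hir' x)
  have hri'' : ∀ x, r.baseChange S (i.baseChange S x) = x := fun x => congr($hri' x)
  refine ⟨LinearEquiv.ofLinearMap (f ∘ₗ φ.toLinearMap ∘ₗ i.baseChange S)
    (r.baseChange S ∘ₗ φ.symm.toLinearMap ∘ₗ g) ?_ ?_⟩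
  · ext x
    simp only [LinearMap.coe_comp, LinearEquiv.coe_coe, Function.comp_apply, LinearMap.id_coe,
      id_eq]
    rw [hir'', hφ', LinearEquiv.apply_symm_apply, hfg', hfg']
  · refine LinearMap.ext fun x => ?_
    simp only [LinearMap.coe_comp, LinearEquiv.coe_coe, Function.comp_apply, LinearMap.id_coe,
      id_eq]
    rw [← hφ', LinearEquiv.symm_apply_apply, ← hir'', hri'', hri'']

theorem s6271 (I : Ideal R) (hI : ∀ x ∈ I, IsNilpotent x) (Pb : Type u)
    [AddCommGroup Pb] [Module (R ⧸ I) Pb] [Module.Projective (R ⧸ I) Pb]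
    [Module.Finite (R ⧸ I) Pb] :
    ∃ (P : Type u) (_ : AddCommGroup P) (_ : Module R P), Module.Projective R P ∧
      Module.Finite R P ∧ Nonempty (((R ⧸ I) ⊗[R] P) ≃ₗ[R ⧸ I] Pb) := by
  obtain ⟨n, f, g, -, -, hfg⟩ := Module.Finite.exists_comp_eq_id_of_projective (R ⧸ I) Pb
  have hEb : IsIdempotentElem (LinearMap.toMatrix' (g ∘ₗ f)) := by
    unfold IsIdempotentElem
    rw [← LinearMap.toMatrix'_comp]
    congr 1
    rw [LinearMap.comp_assoc, ← LinearMap.comp_assoc f g f, hfg, LinearMap.id_comp]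
  obtain ⟨E, hE, hE'⟩ := exists_idempotent_lift I hI _ hEb
  have he : Matrix.toLin' E ∘ₗ Matrix.toLin' E = Matrix.toLin' E := by
    rw [← Matrix.toLin'_mul, hE.eq]
  refine ⟨LinearMap.range (Matrix.toLin' E), inferInstance, inferInstance, ?_, inferInstance, ?_⟩
  · exact projective_range (Matrix.toLin' E) he
  · refine exists_equiv_of_idempotent (Matrix.toLin' E) he
      (TensorProduct.piScalarRight R (R ⧸ I) (R ⧸ I) (Fin n)) f g hfg ?_
    rw [piScalarRight_baseChange, hE', Matrix.toLin'_toMatrix']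

end Groth.Agent.Helper8.LiftProj
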