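import Mathlib.AlgebraicGeometry.AffineTransitionLimit
import Mathlib.AlgebraicGeometry.Morphisms.SchemeTheoreticallyDominant

/-!
# Helper8: factoring maps from a limit through a stage, finite type case with injective transition

A variant of `Scheme.exists_π_app_comp_eq_of_locallyOfFinitePresentation` where `X` is only
locally of finite type but the maps `Γ(Dᵢ, W) → Γ(lim D, W')` are injective on affine opens.
-/

set_option autoImplicit false

open CategoryTheory Limits AlgebraicGeometry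

universe vJ uJ u

namespace Groth.Agent.Helper8.LimFT

section ring

variable {J : Type uJ} [Category.{vJ} J] [IsFiltered J]
variable (R : CommRingCat.{u}) (F : J ⥤ CommRingCat.{u}) (α : (Functor.const _).obj R ⟶ F)
variable {S : CommRingCat.{u}} (f : R ⟶ S) (c : Cocone F) (hc : IsColimit c)
variable [PreservesColimit F (forget CommRingCat)]

set_option backward.defeqAttrib.useBackward true in
set_option backward.isDefEq.respectTransparency false in
include hc in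
lemma exists_eq_comp_ι_app_of_isColimit_of_injective (hf : f.hom.FiniteType)
    (hinj : ∀ i, Function.Injective (c.ι.app i))
    (g : S ⟶ c.pt) (hg : ∀ i, f ≫ g = α.app i ≫ c.ι.app i) :
    ∃ (i : J) (g' : S ⟶ F.obj i), f ≫ g' = α.app i ∧ g = g' ≫ c.ι.app i := by
  classical
  have hc' := isColimitOfPreserves (forget _) hc
  let := f.hom.toAlgebra
  obtain ⟨n, π0, hπ0⟩ := Algebra.FiniteType.iff_quotient_mvPolynomial''.mp hf
  let P := CommRingCat.of (MvPolynomial (Fin n) R)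
  let iP : R ⟶ P := CommRingCat.ofHom MvPolynomial.C
  obtain ⟨π, rfl, hπ⟩ : ∃ π : P ⟶ S, iP ≫ π = f ∧ Function.Surjective π :=
    ⟨CommRingCat.ofHom π0, by ext1; exact π0.comp_algebraMap, hπ0⟩
  obtain ⟨i, g', hg', hg''⟩ : ∃ (i : J) (g' : P ⟶ F.obj i),
      π ≫ g = g' ≫ c.ι.app i ∧ iP ≫ g' = α.app i := by
    choose j x h using fun i ↦ Types.jointly_surjective_of_isColimit hc' ((π ≫ g) (.X i))
    obtain ⟨i, ⟨hi⟩⟩ : ∃ i, Nonempty (∀ a, (j a ⟶ i)) := by
      have : ∃ i, ∀ a, Nonempty (j a ⟶ i) := by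
        simpa using! IsFiltered.sup_objs_exists (Finset.univ.image j)
      simpa [← exists_true_iff_nonempty, Classical.skolem, -exists_const_iff] using! this
    refine ⟨i, CommRingCat.ofHom (MvPolynomial.eval₂Hom
      (α.app i).hom (F.map (hi _) <| x ·)), ?_, ?_⟩
    · ext1
      apply MvPolynomial.ringHom_ext
      · simpa using! fun x ↦ congr($(hg i).hom x)
      · intro i
        simp only [CommRingCat.hom_comp, RingHom.coe_comp, Function.comp_apply,
          Functor.const_obj_obj, CommRingCat.hom_ofHom, MvPolynomial.coe_eval₂Hom,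
          MvPolynomial.eval₂_X]
        exact (congr($(c.w (hi i)).hom (x i)).trans (h i)).symm
    · ext x
      simp [P, iP]
  refine ⟨i, CommRingCat.ofHom (RingHom.liftOfSurjective π.hom hπ ⟨g'.hom, ?_⟩), ?_, ?_⟩
  · intro r hr
    rw [RingHom.mem_ker] at hr ⊢
    apply hinj i
    have h1 : (π ≫ g) r = (g' ≫ c.ι.app i) r := congr(($hg').hom r)
    have h2 : (π ≫ g) r = 0 := by
      simp only [CommRingCat.hom_comp, RingHom.coe_comp, Function.comp_apply]
      rw [hr, map_zero]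
    rw [map_zero]
    rw [h2] at h1
    exact h1.symm
  · ext x
    suffices (iP ≫ g') x = α.app i x by
      simpa [RingHom.liftOfRightInverse_comp_apply] using! this
    exact congr(($hg'').hom x)
  · ext x
    obtain ⟨x, rfl⟩ := hπ x
    suffices (π ≫ g) x = (g' ≫ c.ι.app _) x by
      simpa only [CommRingCat.hom_comp, CommRingCat.hom_ofHom,
        RingHom.liftOfRightInverse_comp_apply, RingHom.coe_comp, Function.comp_apply] using! this
    exact congr(($hg').hom x)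

end ring

section scheme

variable {I : Type u} [Category.{u} I] {S X : Scheme.{u}} (D : I ⥤ Scheme.{u})
  (t : D ⟶ (Functor.const I).obj S) (f : X ⟶ S) (c : Cone D) (hc : IsLimit c)

set_option backward.defeqAttrib.useBackward true in
set_option backward.isDefEq.respectTransparency false in
include hc in
lemma exists_π_app_comp_eq_of_isAffine
    [IsCofiltered I] [LocallyOfFiniteType f]
    [IsAffine S] [IsAffine X] [∀ i, IsAffine (D.obj i)]
    (hinj : ∀ i, Function.Injective (c.π.app i).appTop)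
    (a : c.pt ⟶ X) (ha : c.π ≫ t = (Functor.const _).map (a ≫ f)) :
    ∃ (i : I) (g : D.obj i ⟶ X), c.π.app i ≫ g = a ∧ g ≫ f = t.app i := by
  have : ∀ i, IsAffine (D.op.obj i).unop := by dsimp; infer_instance
  have hΓ : IsColimit (Scheme.Γ.mapCocone c.op) := isColimitOfPreserves Scheme.Γ hc.op
  let α : (Functor.const Iᵒᵖ).obj Γ(S, ⊤) ⟶ D.op ⋙ Scheme.Γ :=
    { app := fun i => (t.app i.unop).appTop
      naturality := fun i j φ => by
        have := t.naturality φ.unop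
        simp only [Functor.const_obj_obj, Functor.const_obj_map, Category.comp_id] at this
        simp only [Functor.const_obj_obj, Functor.const_obj_map, Category.id_comp,
          Functor.comp_obj, Functor.op_obj, Functor.comp_map, Functor.op_map]
        rw [← this, Scheme.Hom.comp_appTop]
        rfl }
  have hft : (f.appTop).hom.FiniteType :=
    (HasRingHomProperty.iff_of_isAffine (P := @LocallyOfFiniteType)).mp inferInstance
  obtain ⟨i, g', h1, h2⟩ : ∃ (i : Iᵒᵖ) (g' : Γ(X, ⊤) ⟶ Γ(D.obj i.unop, ⊤)),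
      f.appTop ≫ g' = (t.app i.unop).appTop ∧ a.appTop = g' ≫ (c.π.app i.unop).appTop :=
    exists_eq_comp_ι_app_of_isColimit_of_injective Γ(S, ⊤)
    (D.op ⋙ Scheme.Γ) α f.appTop (Scheme.Γ.mapCocone c.op) hΓ hft
    (fun i => hinj i.unop) a.appTop (fun i => by
      have := congr(($ha).app i.unop)
      simp only [NatTrans.comp_app, Functor.const_obj_obj, Functor.const_map_app] at this
      have h3 := congr(Scheme.Hom.appTop $this)
      simp only [Scheme.Hom.comp_appTop] at h3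
      simpa [α] using h3.symm)
  refine ⟨i.unop, (D.obj i.unop).toSpecΓ ≫ Spec.map g' ≫ X.isoSpec.inv, ?_, ?_⟩
  · rw [Scheme.toSpecΓ_naturality_assoc, ← Spec.map_comp_assoc, ← h2,
      ← Scheme.toSpecΓ_naturality_assoc, Scheme.toSpecΓ_isoSpec_inv, Category.comp_id]
  · have e1 : (D.obj i.unop).toSpecΓ ≫ Spec.map (t.app i.unop).appTop =
        t.app i.unop ≫ S.toSpecΓ := (Scheme.toSpecΓ_naturality (t.app i.unop)).symm
    have e2 : S.toSpecΓ ≫ S.isoSpec.inv = 𝟙 S := Scheme.toSpecΓ_isoSpec_inv S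
    rw [Category.assoc, Category.assoc, ← Scheme.isoSpec_inv_naturality, ← Spec.map_comp_assoc, h1,
      reassoc_of% e1]
    exact (congrArg (t.app i.unop ≫ ·) e2).trans (Category.comp_id _)


lemma resLE_appTop_injective {X Y : Scheme.{u}} (f : X ⟶ Y) (U : Y.Opens) (V : X.Opens)
    (e : V ≤ f ⁻¹ᵁ U) (h : V = f ⁻¹ᵁ U) (hf : Function.Injective (f.app U)) :
    Function.Injective (f.resLE U V e).appTop := by
  subst h
  have h1 : (f.resLE U (f ⁻¹ᵁ U) e).appTop =
      U.topIso.hom ≫ f.appLE U (f ⁻¹ᵁ U) e ≫ (f ⁻¹ᵁ U).topIso.inv :=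
    Scheme.Hom.resLE_app_top f e
  rw [h1, Scheme.Hom.appLE_eq_app]
  simp only [CommRingCat.hom_comp, RingHom.coe_comp]
  refine Function.Injective.comp (Function.Injective.comp ?_ hf) ?_
  · exact ((f ⁻¹ᵁ U).topIso.symm.commRingCatIsoToRingEquiv).injective
  · exact (U.topIso.commRingCatIsoToRingEquiv).injective

set_option backward.defeqAttrib.useBackward true in
set_option backward.isDefEq.respectTransparency false in
open TopologicalSpace AlgebraicGeometry.Scheme in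
include hc in
/-- Variant of `Scheme.exists_π_app_comp_eq_of_locallyOfFinitePresentation` for `X` locally of finite
type, assuming the maps on sections over affine opens to the limit are injective. -/
lemma exists_π_app_comp_eq_of_locallyOfFiniteType_of_injective
    [IsCofiltered I] [LocallyOfFiniteType f]
    [∀ {i j} (f : i ⟶ j), IsAffineHom (D.map f)]
    [∀ i, CompactSpace (D.obj i)] [∀ i, QuasiSeparatedSpace (D.obj i)]
    (hinj : ∀ (i : I) (W : (D.obj i).Opens), IsAffineOpen W →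
      Function.Injective ((c.π.app i).app W))
    (a : c.pt ⟶ X) (ha : c.π ≫ t = (Functor.const _).map (a ≫ f)) :
    ∃ (i : I) (g : D.obj i ⟶ X), c.π.app i ≫ g = a ∧ g ≫ f = t.app i := by
  -- The open cover of `c := lim Dᵢ` indexed by triplets of affine opens `(U, V, W)` with
  -- `U ⊆ c`, `V ⊆ X`, `W ⊆ S` such that `U` maps to `V` maps to `W`.
  have 𝒰 := (c.pt.isBasis_affineOpens).isOpenCover_mem_and_le
    (((X.isBasis_affineOpens).isOpenCover_mem_and_le
    ((S.isBasis_affineOpens).isOpenCover.comap f.base.hom)).comap a.base.hom)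
  -- By qcqs, this cover descends to some finite affine open cover `𝒱` of `Dᵢ`.
  obtain ⟨i, s, 𝒱, h𝒱, h𝒱𝒰⟩ := Scheme.exists_isOpenCover_and_isAffine D c hc _ 𝒰 fun U ↦ U.2.1
  obtain ⟨i', fi'i, hi'⟩ : ∃ (i' : I) (fi'i : i' ⟶ i),
      ∀ j, D.map fi'i ⁻¹ᵁ 𝒱 j ≤ t.app i' ⁻¹ᵁ j.1.1.2.1.2.1 := by
    choose k fk hk using fun j ↦ exists_map_preimage_le_map_preimage D c hc (h𝒱𝒰 j).1.isCompact
      (V := t.app i ⁻¹ᵁ j.1.1.2.1.2.1) (by
      rw [← Hom.comp_preimage, ← NatTrans.comp_app, ha]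
      exact (h𝒱𝒰 j).2.symm.trans_le (j.1.prop.2.trans (a.preimage_mono j.1.1.2.prop.2)))
    obtain ⟨i', fi'i, fi', hfi'⟩ := IsCofiltered.wideCospan fk
    refine ⟨i', fi'i, fun j ↦ ?_⟩
    rw [← hfi', Functor.map_comp, Hom.comp_preimage]
    refine (Hom.preimage_mono _ (hk _)).trans ?_
    simp only [← Hom.comp_preimage, t.naturality, Functor.const_obj_obj,
      Functor.const_obj_map, Category.comp_id, le_refl]
  -- Using the affine version `exists_π_app_comp_eq_of_locallyOfFinitePresentation_of_isAffine`,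
  -- one can now factor `Dⱼ ⁻¹ 𝒱ⱼ ⟶ lim Dᵢ ⟶ X` through some `Dⱼₖ ⁻¹ 𝒱ⱼ` for each `𝒱ⱼ`,
  -- and by finite-ness we may chose a fixed `k` that works for every `j`.
  have : ∃ k, ∃ (fk : k ⟶ i), ∀ j, ∃ (ak : ↑(D.map fk ⁻¹ᵁ 𝒱 j) ⟶ X),
      ak ≫ f = Opens.ι _ ≫ t.app k ∧ c.π.app _ ∣_ _ ≫ ak = Opens.ι _ ≫ a := by
    let 𝒱' := (D.map fi'i ⁻¹ᵁ 𝒱 ·)
    have h𝒱'𝒰 (j : s) : c.π.app i' ⁻¹ᵁ 𝒱' j = j.1.1.1 := by
      rw [← Hom.comp_preimage, c.w fi'i]; exact (h𝒱𝒰 j).2.symm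
    have _ (j k) : IsAffine ((opensDiagram D i' (𝒱' j)).obj k) := ((h𝒱𝒰 _).1.preimage _).preimage _
    let t𝒱 (j : _) : opensDiagram D i' (𝒱' j) ⟶ (Functor.const (Over i')).obj j.1.1.2.1.2 :=
    { app k := (t.app k.left).resLE _ _ <| by
        refine (Hom.preimage_mono _ (hi' _)).trans ?_
        simp only [Functor.const_obj_obj, ← Hom.comp_preimage, t.naturality,
          Functor.const_obj_map, Category.comp_id, le_refl]
      naturality {k₁ k₂} f₁₂ := by simp [Hom.resLE_comp_resLE] }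
    have (j : s) : IsAffine j.1.1.2.1.1 := j.1.1.2.prop.1
    choose k ak hk hk' using fun j ↦ exists_π_app_comp_eq_of_isAffine
      _ (t𝒱 j) (f.resLE _ _ j.1.1.2.prop.2) _ (isLimitOpensCone D c hc i' (𝒱' j))
      (fun k ↦ resLE_appTop_injective _ _ _ _
        (by simp only [← Scheme.Hom.comp_preimage, Category.assoc, Cone.w, Cone.w_assoc, 𝒱'])
        (hinj _ _ (((h𝒱𝒰 _).1.preimage _).preimage _)))
      (a.resLE _ _ ((h𝒱'𝒰 _).trans_le j.1.prop.2)) (by
      ext k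
      simp [t𝒱, Hom.resLE_comp_resLE, show c.π.app k.left ≫ t.app k.left = a ≫ f from
        congr(($ha).app k.left)])
    obtain ⟨i'', fi''i', fi'', hi''⟩ := IsCofiltered.wideCospan fun j ↦ (k j).hom
    refine ⟨i'', fi''i' ≫ fi'i, fun j ↦
      ⟨Scheme.homOfLE _ ?_ ≫ D.map (fi'' _) ∣_ _ ≫ ak j ≫ Opens.ι _, ?_, ?_⟩⟩
    · simp only [← Hom.comp_preimage, ← Functor.map_comp, 𝒱', reassoc_of% hi'']; rfl
    · have : ak j ≫ Opens.ι _ ≫ f = Opens.ι _ ≫ t.app (k j).left := by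
        simpa [t𝒱] using! congr($(hk' j) ≫ Opens.ι _)
      simp [this]
    · have e : c.π.app i'' ⁻¹ᵁ D.map (fi''i' ≫ fi'i) ⁻¹ᵁ 𝒱 j ≤ c.π.app i' ⁻¹ᵁ 𝒱' j := by
        simp only [← Hom.comp_preimage, Cone.w, 𝒱']; rfl
      simpa [← AlgebraicGeometry.Scheme.Hom.resLE_eq_morphismRestrict,
        Scheme.Hom.resLE_comp_resLE_assoc] using! congr(Scheme.homOfLE _ e ≫ $(hk j) ≫ Opens.ι _)
  choose k fki ak hak hak' using this
  -- We may then find an `l` for each `j₁` and `j₂` such that the map `Dⱼ₁ₗ ⁻¹ 𝒱ⱼ₁ ⟶ X` and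
  -- `Dⱼ₂ₗ ⁻¹ 𝒱ⱼ₂ ⟶ X` agrees on the intersection in `Dₗ`.
  -- And again by finiteness we may choose a global `l`.
  obtain ⟨l, flk, hl⟩ : ∃ (l : I) (flk : l ⟶ k), ∀ j₁ j₂, Scheme.homOfLE _ inf_le_left ≫
      D.map flk ∣_ _ ≫ ak j₁ = Scheme.homOfLE _ inf_le_right ≫ D.map flk ∣_ _ ≫ ak j₂ := by
    let 𝒱' := (D.map fki ⁻¹ᵁ 𝒱 ·)
    have (j₁ j₂ : s) : ∃ (l : I) (flk : l ⟶ k), Scheme.homOfLE _ inf_le_left ≫ D.map flk ∣_ _ ≫
        ak j₁ = Scheme.homOfLE _ inf_le_right ≫ D.map flk ∣_ _ ≫ ak j₂ := by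
      have _ (x) : CompactSpace ↥((opensDiagram D k (𝒱' j₁ ⊓ 𝒱' j₂)).obj x) :=
        isCompact_iff_compactSpace.mp (QuasiCompact.isCompact_preimage _ (𝒱' j₁ ⊓ 𝒱' j₂).isOpen
          (((h𝒱𝒰 _).1.preimage _).isCompact.inter_of_isOpen ((h𝒱𝒰 _).1.preimage _).isCompact
            (D.map fki ⁻¹ᵁ 𝒱 j₁).2 (D.map fki ⁻¹ᵁ 𝒱 j₂).2))
      obtain ⟨⟨l, ⟨⟨⟩⟩, flk⟩, ⟨flk', ⟨⟨⟨⟩⟩⟩, h⟩, e⟩ :=
        Scheme.exists_hom_comp_eq_comp_of_locallyOfFiniteType _
          (opensDiagramι .. ≫ (Over.forget k).whiskerLeft t) f _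
          (isLimitOpensCone D c hc k (𝒱' j₁ ⊓ 𝒱' j₂)) (i := .mk (𝟙 k))
          (Scheme.homOfLE _ (by simp [𝒱']) ≫ ak j₁) (Scheme.homOfLE _ (by simp [𝒱']) ≫ ak j₂)
          (by simp [hak]) (by simp [hak]) (by simp; simp [Hom.resLE, hak'])
      obtain rfl : flk = flk' := by simpa using! h.symm
      refine ⟨l, flk, by simpa [← Scheme.Hom.resLE_eq_morphismRestrict] using! e⟩
    choose l flk hflk using this
    obtain ⟨l', fl'k, fl'l, hl'⟩ := IsCofiltered.wideCospan (I := s × s) fun x ↦ flk x.1 x.2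
    refine ⟨l', fl'k, fun j₁ j₂ ↦ ?_⟩
    have H : (D.map fl'k ≫ D.map fki) ⁻¹ᵁ (𝒱 j₁ ⊓ 𝒱 j₂) ≤
        (D.map (fl'l (j₁, j₂)) ≫ D.map (flk j₁ j₂) ≫ D.map fki) ⁻¹ᵁ (𝒱 j₁ ⊓ 𝒱 j₂) := by
      simp only [← Functor.map_comp, reassoc_of% hl']; rfl
    simpa [← Scheme.Hom.resLE_eq_morphismRestrict, Scheme.Hom.resLE_comp_resLE_assoc,
      ← Functor.map_comp, hl'] using! congr((D.map (fl'l (j₁, j₂))).resLE _ _ H ≫ $(hflk j₁ j₂))
  -- We may glue the morphisms into `Dₗ ⟶ X` and verify that it indeed satisfies the hypothesis.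
  let h𝒲 := (h𝒱.comap (D.map fki).base.hom).comap (D.map flk).base.hom
  let 𝒲 := Scheme.openCoverOfIsOpenCover _ (D.map flk ⁻¹ᵁ D.map fki ⁻¹ᵁ 𝒱 ·) h𝒲
  let F := 𝒲.glueMorphisms (fun j ↦ D.map flk ∣_ D.map fki ⁻¹ᵁ 𝒱 j ≫ ak j) (fun j₁ j₂ ↦ by
      rw [← cancel_epi (isPullback_opens_inf _ _).isoPullback.hom]
      simpa [𝒲] using! hl j₁ j₂)
  have hF (j : s) : (D.map flk ⁻¹ᵁ D.map fki ⁻¹ᵁ 𝒱 j).ι ≫ F = D.map flk ∣_ _ ≫ ak j :=
    Scheme.Cover.ι_glueMorphisms ..
  refine ⟨l, F, ?_, ?_⟩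
  · refine Cover.hom_ext (𝒲.pullback₁ (c.π.app l)) _ _ fun j ↦ ?_
    rw [← cancel_epi (isPullback_morphismRestrict _ _).flip.isoPullback.hom]
    dsimp [𝒲]
    simp only [pullback.condition_assoc, IsPullback.isoPullback_hom_snd_assoc,
      IsPullback.isoPullback_hom_fst_assoc, hF]
    have h : c.π.app l ⁻¹ᵁ D.map flk ⁻¹ᵁ D.map fki ⁻¹ᵁ 𝒱 j ≤ c.π.app k ⁻¹ᵁ D.map fki ⁻¹ᵁ 𝒱 j := by
      simp only [← Hom.comp_preimage, c.w_assoc, c.w]; rfl
    simpa [← Scheme.Hom.resLE_eq_morphismRestrict, Scheme.Hom.resLE_comp_resLE_assoc] using!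
      congr(Scheme.homOfLE _ h ≫ $(hak' j))
  · refine 𝒲.hom_ext _ _ fun j ↦ ?_
    simp [F, Cover.ι_glueMorphisms_assoc, hak]; rfl

end scheme

end Groth.Agent.Helper8.LimFT
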