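import Groth.Agent.Helper8.LimFTA

/-!
# Helper8: morphisms from `Spec` of a directed union of subalgebras to a finite type scheme
-/

set_option autoImplicit false

open CategoryTheory Limits AlgebraicGeometry Opposite

universe u

namespace Groth.Agent.Helper8.LimFT

section setup

variable {ι : Type u} {A C : Type u} [CommRing A] [CommRing C] [Algebra A C]

/-- The index type with the order reversed through `S`. -/
structure Idx (S : ι → Subalgebra A C) : Type u where
  val : ι

variable (S : ι → Subalgebra A C)

instance : Preorder (Idx S) where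
  le i j := S j.val ≤ S i.val
  le_refl i := le_refl (S i.val)
  le_trans _ _ _ h1 h2 := le_trans h2 h1

lemma Idx.le_def (i j : Idx S) : i ≤ j ↔ S j.val ≤ S i.val := Iff.rfl

/-- The diagram of subalgebras. -/
noncomputable def ringDiag : (Idx S)ᵒᵖ ⥤ CommRingCat.{u} where
  obj i := CommRingCat.of (S i.unop.val)
  map {i j} h := CommRingCat.ofHom (Subalgebra.inclusion (leOfHom h.unop)).toRingHom
  map_id i := by ext x; rfl
  map_comp f g := by ext x; rfl

/-- The cocone with point `C`. -/
noncomputable def ringCocone : Cocone (ringDiag S) where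
  pt := CommRingCat.of C
  ι := { app := fun i => CommRingCat.ofHom (S i.unop.val).val.toRingHom
         naturality := fun i j h => by ext x; rfl }

lemma isDirected_idx (hdir : Directed (· ≤ ·) S) : IsDirected (Idx S) (· ≥ ·) :=
  ⟨fun a b => by
    obtain ⟨k, h1, h2⟩ := hdir a.val b.val
    exact ⟨⟨k⟩, h1, h2⟩⟩

lemma nonempty_idx (hcov : ∀ c : C, ∃ i, c ∈ S i) : Nonempty (Idx S) := by
  obtain ⟨i, -⟩ := hcov 0
  exact ⟨⟨i⟩⟩

lemma isCofiltered_idx (hdir : Directed (· ≤ ·) S) (hcov : ∀ c : C, ∃ i, c ∈ S i) :
    IsCofiltered (Idx S) := by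
  haveI := isDirected_idx S hdir
  haveI := nonempty_idx S hcov
  infer_instance

/-- `C` is the colimit of the subalgebras. -/
lemma ringCoconeIsColimit (hdir : Directed (· ≤ ·) S) (hcov : ∀ c : C, ∃ i, c ∈ S i) :
    Nonempty (IsColimit (ringCocone S)) := by
  haveI := isCofiltered_idx S hdir hcov
  have : ReflectsFilteredColimits (forget CommRingCat.{u}) :=
    ⟨fun _ ↦ reflectsColimitsOfShape_of_reflectsIsomorphisms⟩
  refine ReflectsColimit.reflects (K := ringDiag S) (F := forget CommRingCat.{u})
    (Types.FilteredColimit.isColimitOf' _ _ ?_ ?_)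
  · intro x
    obtain ⟨i, hi⟩ := hcov x
    exact ⟨op ⟨i⟩, ⟨x, hi⟩, rfl⟩
  · intro i x y h
    refine ⟨i, 𝟙 i, ?_⟩
    have : x = y := Subtype.ext h
    rw [this]

end setup

section main

lemma app_injective_Spec_map {R R' : CommRingCat.{u}} (φ : R ⟶ R')
    (hφ : Function.Injective φ.hom) (W : (Spec R).Opens) :
    Function.Injective ((Spec.map φ).app W) := by
  haveI : IsSchemeTheoreticallyDominant (Spec.map φ) := by
    rw [isSchemeTheoreticallyDominant_iff]
    apply Scheme.IdealSheafData.ext_of_isAffine
    rw [Scheme.Hom.ker_apply]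
    simp only [Scheme.IdealSheafData.ideal_bot, Pi.bot_apply]
    rw [← RingHom.injective_iff_ker_eq_bot]
    have h1 : (Spec.map φ).appTop = (Scheme.ΓSpecIso R).hom ≫ φ ≫ (Scheme.ΓSpecIso R').inv := by
      rw [← Scheme.ΓSpecIso_naturality_assoc, Iso.hom_inv_id, Category.comp_id]
    show Function.Injective (Spec.map φ).appTop.hom
    rw [h1]
    simp only [CommRingCat.hom_comp, RingHom.coe_comp]
    refine Function.Injective.comp (Function.Injective.comp ?_ hφ) ?_
    · exact ((Scheme.ΓSpecIso R').symm.commRingCatIsoToRingEquiv).injective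
    · exact ((Scheme.ΓSpecIso R).commRingCatIsoToRingEquiv).injective
  exact Scheme.Hom.app_injective _ W

variable {ι : Type u} (A C : Type u) [CommRing A] [CommRing C] [Algebra A C]

theorem main (S : ι → Subalgebra A C) (hdir : Directed (· ≤ ·) S)
    (hcov : ∀ c : C, ∃ i, c ∈ S i)
    (X : Scheme.{u}) (f : X ⟶ Spec (CommRingCat.of A)) [LocallyOfFiniteType f]
    (g : Spec (CommRingCat.of C) ⟶ X)
    (hg : g ≫ f = Spec.map (CommRingCat.ofHom (algebraMap A C))) :
    ∃ (i : ι) (g' : Spec (CommRingCat.of (S i)) ⟶ X),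
      g' ≫ f = Spec.map (CommRingCat.ofHom (algebraMap A (S i))) ∧
      Spec.map (CommRingCat.ofHom (S i).val.toRingHom) ≫ g' = g := by
  haveI := isCofiltered_idx S hdir hcov
  obtain ⟨hcol⟩ := ringCoconeIsColimit S hdir hcov
  let D : Idx S ⥤ Scheme.{u} := (ringDiag S).rightOp ⋙ Scheme.Spec
  let c : Cone D := Scheme.Spec.mapCone (coneRightOpOfCocone (ringCocone S))
  have hc : IsLimit c := isLimitOfPreserves Scheme.Spec (isLimitConeRightOpOfCocone _ hcol)
  let t : D ⟶ (Functor.const (Idx S)).obj (Spec (CommRingCat.of A)) :=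
    { app := fun i => Spec.map (CommRingCat.ofHom (algebraMap A (S i.val)))
      naturality := fun i j h => by
        simp only [Functor.const_obj_obj, Functor.const_obj_map, Category.comp_id]
        show Spec.map _ ≫ Spec.map _ = _
        rw [← Spec.map_comp]
        congr 1 }
  haveI : ∀ {i j : Idx S} (h : i ⟶ j), IsAffineHom (D.map h) := fun h => by
    show IsAffineHom (Spec.map _); infer_instance
  haveI : ∀ i, CompactSpace (D.obj i) := fun i => by
    show CompactSpace (Spec _); infer_instance
  haveI : ∀ i, QuasiSeparatedSpace (D.obj i) := fun i => by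
    show QuasiSeparatedSpace (Spec _); infer_instance
  obtain ⟨i, g', h1, h2⟩ := exists_π_app_comp_eq_of_locallyOfFiniteType_of_injective D t f c hc
    (fun i W _ => app_injective_Spec_map _ (Subtype.val_injective) W) g (by
      ext i
      simp only [NatTrans.comp_app, Functor.const_obj_obj, Functor.const_map_app]
      show Spec.map _ ≫ Spec.map _ = g ≫ f
      rw [hg, ← Spec.map_comp]
      congr 1)
  exact ⟨i.val, g', h2, h1⟩

end main

end Groth.Agent.Helper8.LimFT
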