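import Mathlib
import Groth.Prelude.Def_FlatCA

/-!
# Limits of finite flat systems along nil-surjections are finite projective (S6923)

`isNilpotent_of_entries`: a square matrix with entries in an ideal of nilpotent elements is nilpotent.
`existsUnique_of_mod`: over a ring `R` with a nil ideal `K`, if `e` is an idempotent matrix, `M` a
finite flat module with a family `x`, and `w ↦ ∑ wᵢ xᵢ` restricted to the image of `e` is bijective
modulo `K`, then it is bijective.
`exists_compat`: in an inverse system of sets with surjective transition maps every element lifts to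
a compatible family.
`main`: the statement of S6923.
-/

set_option autoImplicit false

namespace Groth.Agent.Helper8.LimProj

open Matrix

universe u

theorem isNilpotent_of_entries {R : Type*} [CommRing R] {r : ℕ} (K : Ideal R)
    (hK : ∀ x ∈ K, IsNilpotent x) (N : Matrix (Fin r) (Fin r) R) (hN : ∀ i j, N i j ∈ K) :
    IsNilpotent N := by
  classical
  set K0 : Ideal R := Ideal.span (Set.range fun p : Fin r × Fin r => N p.1 p.2) with hK0
  have hfg : K0.FG := Submodule.fg_span (Set.finite_range _)
  have hle : K0 ≤ nilradical R := by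
    rw [hK0, Ideal.span_le]
    rintro _ ⟨p, rfl⟩
    exact mem_nilradical.mpr (hK _ (hN _ _))
  obtain ⟨m, hm⟩ := hfg.isNilpotent_iff_le_nilradical.mpr hle
  have key : ∀ k : ℕ, ∀ i j, (N ^ k) i j ∈ K0 ^ k := by
    intro k
    induction k with
    | zero => intro i j; simp
    | succ k ih =>
      intro i j
      rw [pow_succ N, Matrix.mul_apply, pow_succ K0]
      exact Ideal.sum_mem _ fun l _ =>
        Ideal.mul_mem_mul (ih i l) (Ideal.subset_span ⟨(l, j), rfl⟩)
  refine ⟨m, ?_⟩
  ext i j
  have := key m i j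
  rw [hm] at this
  simpa using this

theorem existsUnique_of_mod {R : Type u} [CommRing R] {M : Type u} [AddCommGroup M] [Module R M]
    {r : ℕ} (K : Ideal R) (hK : ∀ x ∈ K, IsNilpotent x)
    [Module.Finite R M] [Module.Flat R M]
    (e : Matrix (Fin r) (Fin r) R) (he : e * e = e) (x : Fin r → M)
    (ha : ∀ m : M, ∃ w : Fin r → R, e *ᵥ w = w ∧
      m - Fintype.linearCombination R x w ∈ K • (⊤ : Submodule R M))
    (hb : ∀ w : Fin r → R, e *ᵥ w = w →
      Fintype.linearCombination R x w ∈ K • (⊤ : Submodule R M) → ∀ i, w i ∈ K) :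
    ∀ m : M, ∃! w : Fin r → R, e *ᵥ w = w ∧ Fintype.linearCombination R x w = m := by
  classical
  set φ : (Fin r → R) →ₗ[R] M := Fintype.linearCombination R x with hφ
  set E : (Fin r → R) →ₗ[R] (Fin r → R) := Matrix.mulVecLin e with hE
  have hEv : ∀ v, E v = e *ᵥ v := fun v => rfl
  have hEE : ∀ w, e *ᵥ (e *ᵥ w) = e *ᵥ w := fun w => by rw [Matrix.mulVec_mulVec, he]
  have hKJ : K ≤ Ideal.jacobson ⊥ := by
    intro a ha'
    have h1 : a ∈ nilradical R := mem_nilradical.mpr (hK a ha')
    exact Ideal.radical_le_jacobson h1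
  have hsurj : ∀ m, ∃ v : Fin r → R, φ (e *ᵥ v) = m := by
    have hle : (⊤ : Submodule R M) ≤ LinearMap.range (φ ∘ₗ E) := by
      apply Submodule.le_of_le_smul_of_le_jacobson_bot (Module.Finite.fg_top) hKJ
      intro m _
      obtain ⟨w, hw1, hw2⟩ := ha m
      have hm : m = φ w + (m - φ w) := by abel
      rw [hm]
      refine Submodule.add_mem_sup ⟨w, ?_⟩ hw2
      rw [LinearMap.comp_apply, hEv, hw1]
    intro m
    obtain ⟨v, hv⟩ := hle (Submodule.mem_top : m ∈ ⊤)
    exact ⟨v, hv⟩
  have hinj : ∀ q : Fin r → R, e *ᵥ q = q → φ q = 0 → q = 0 := by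
    intro q hq1 hq2
    obtain ⟨k, a, y, hya, haq⟩ :=
      Module.Flat.exists_factorization_of_apply_eq_zero_of_free (R := R) (M := M)
        (f := q) (x := φ) hq2
    have hsurj' : Function.Surjective (φ ∘ₗ E) := fun m => by
      obtain ⟨v, hv⟩ := hsurj m
      exact ⟨v, hv⟩
    obtain ⟨s, hs⟩ := Module.projective_lifting_property (φ ∘ₗ E) y hsurj'
    set θ : (Fin r → R) →ₗ[R] (Fin r → R) := E - E ∘ₗ s ∘ₗ a ∘ₗ E with hθ
    have hθv : ∀ v, θ v = e *ᵥ v - e *ᵥ (s (a (e *ᵥ v))) := fun v => rfl
    have h1 : ∀ v, φ (θ v) = 0 := by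
      intro v
      have h2 : φ (e *ᵥ (s (a (e *ᵥ v)))) = y (a (e *ᵥ v)) :=
        LinearMap.congr_fun hs (a (e *ᵥ v))
      have h3 : φ (e *ᵥ v) = y (a (e *ᵥ v)) := LinearMap.congr_fun hya (e *ᵥ v)
      rw [hθv, map_sub, h2, h3, sub_self]
    have h4 : ∀ v, e *ᵥ (θ v) = θ v := by
      intro v
      rw [hθv, Matrix.mulVec_sub, hEE, hEE]
    have h5 : θ q = q := by
      rw [hθv, hq1, haq, map_zero, Matrix.mulVec_zero, sub_zero]
    have h6 : ∀ i j, (LinearMap.toMatrixAlgEquiv' θ) i j ∈ K := by
      intro i j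
      rw [LinearMap.toMatrixAlgEquiv'_apply]
      exact hb _ (h4 _) (by rw [h1]; exact zero_mem _) i
    obtain ⟨m, hm⟩ := isNilpotent_of_entries K hK _ h6
    have h7 : θ ^ m = 0 := by
      apply LinearMap.toMatrixAlgEquiv'.injective
      rw [map_pow, hm, map_zero]
    have h8 : ∀ n : ℕ, (θ ^ n) q = q := by
      intro n
      induction n with
      | zero => simp
      | succ n ih => rw [pow_succ, Module.End.mul_apply, h5, ih]
    have h9 := h8 m
    rw [h7] at h9
    simpa using h9.symm
  intro m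
  obtain ⟨v, hv⟩ := hsurj m
  refine ⟨e *ᵥ v, ⟨hEE v, hv⟩, ?_⟩
  rintro w ⟨hw1, hw2⟩
  have := hinj (w - e *ᵥ v) (by rw [Matrix.mulVec_sub, hw1, hEE])
    (by rw [map_sub, hw2, hv, sub_self])
  exact sub_eq_zero.mp this

theorem exists_compat (n : ℕ) : ∀ (X : ℕ → Type u) (f : ∀ k, X (k + 1) → X k)
    (_ : ∀ k, Function.Surjective (f k)) (a : X n),
    ∃ y : ∀ k, X k, (∀ k, f k (y (k + 1)) = y k) ∧ y n = a := by
  induction n with
  | zero =>
    intro X f hf a
    refine ⟨fun k => Nat.rec (motive := fun k => X k) a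
      (fun k yk => Classical.choose (hf k yk)) k, fun k => ?_, rfl⟩
    exact Classical.choose_spec (hf k _)
  | succ n ih =>
    intro X f hf a
    obtain ⟨y', hy', hy'n⟩ := ih (fun k => X (k + 1)) (fun k => f (k + 1)) (fun k => hf (k + 1)) a
    refine ⟨fun k => match k with
      | 0 => f 0 (y' 0)
      | (k + 1) => y' k, fun k => ?_, hy'n⟩
    cases k with
    | zero => rfl
    | succ k => exact hy' k

section System

variable (An : ℕ → Type u) [∀ n, CommRing (An n)]
  (M : ℕ → Type u) [∀ n, AddCommGroup (M n)] [∀ n, Module (An n) (M n)]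

/-- Stage `n` of the construction: a generating family of `M n` and an idempotent matrix on whose
image the attached linear combination map is bijective. -/
structure Stage (r : ℕ) (n : ℕ) where
  x : Fin r → M n
  e : Matrix (Fin r) (Fin r) (An n)
  idem : e * e = e
  bij : ∀ m : M n, ∃! w : Fin r → An n,
    e *ᵥ w = w ∧ Fintype.linearCombination (An n) x w = m

variable {An M}

theorem exists_next (t : ∀ n, An (n + 1) →+* An n)
    (ht : ∀ n, Function.Surjective (t n))
    (hnil : ∀ n (x : An (n + 1)), t n x = 0 → IsNilpotent x)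
    (u : ∀ n, M (n + 1) →ₛₗ[t n] M n)
    (hfin : ∀ n, Module.Finite (An n) (M n)) (hflat : ∀ n, Module.Flat (An n) (M n))
    (hu : ∀ n, Function.Surjective (u n) ∧
      LinearMap.ker (u n) = RingHom.ker (t n) • (⊤ : Submodule (An (n + 1)) (M (n + 1))))
    {r n : ℕ} (S : Stage An M r n) :
    ∃ S' : Stage An M r (n + 1), (∀ i, u n (S'.x i) = S.x i) ∧ S'.e.map (t n) = S.e := by
  classical
  choose x' hx' using fun i => (hu n).1 (S.x i)
  have hker : ∀ N ∈ RingHom.ker ((t n).mapMatrix (m := Fin r)), IsNilpotent N := by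
    intro N hN
    apply isNilpotent_of_entries (RingHom.ker (t n)) (fun a ha => hnil n a ha) N
    intro i j
    have h0 : (t n).mapMatrix N = 0 := hN
    have := congrFun (congrFun h0 i) j
    simpa using this
  have hrange : S.e ∈ ((t n).mapMatrix (m := Fin r)).range := by
    choose g hg using fun i j => ht n (S.e i j)
    exact ⟨Matrix.of g, by ext i j; simp [hg]⟩
  obtain ⟨e', he'idem, he'map⟩ :=
    exists_isIdempotentElem_eq_of_ker_isNilpotent ((t n).mapMatrix (m := Fin r)) hker S.e hrange
      S.idem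
  have he'map' : e'.map (t n) = S.e := he'map
  have he'e' : e' * e' = e' := he'idem
  have hsl : ∀ w : Fin r → An (n + 1),
      u n (Fintype.linearCombination (An (n + 1)) x' w) =
        Fintype.linearCombination (An n) S.x (fun i => t n (w i)) := by
    intro w
    simp only [Fintype.linearCombination_apply, map_sum, map_smulₛₗ, hx']
  have hte : ∀ w : Fin r → An (n + 1),
      (fun i => t n ((e' *ᵥ w) i)) = S.e *ᵥ (fun i => t n (w i)) := by
    intro w
    ext i
    rw [RingHom.map_mulVec, he'map']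
    rfl
  have hkerU : ∀ m : M (n + 1),
      u n m = 0 ↔ m ∈ RingHom.ker (t n) • (⊤ : Submodule (An (n + 1)) (M (n + 1))) := by
    intro m
    rw [← (hu n).2]
    exact LinearMap.mem_ker.symm
  haveI := hfin (n + 1)
  haveI := hflat (n + 1)
  have hA := existsUnique_of_mod (RingHom.ker (t n)) (fun a ha => hnil n a ha) e' he'e' x'
    (by
      intro m
      obtain ⟨w, ⟨hw1, hw2⟩, -⟩ := S.bij (u n m)
      choose wt hwt using fun i => ht n (w i)
      have hwt' : (fun i => t n (wt i)) = w := funext hwt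
      refine ⟨e' *ᵥ wt, by rw [Matrix.mulVec_mulVec, he'e'], ?_⟩
      rw [← hkerU, map_sub, hsl, hte, hwt', hw1, hw2, sub_self])
    (by
      intro w hw1 hw2 i
      have h0 : u n (Fintype.linearCombination (An (n + 1)) x' w) = 0 := (hkerU _).mpr hw2
      rw [hsl] at h0
      have hw0 : S.e *ᵥ (fun i => t n (w i)) = (fun i => t n (w i)) := by
        rw [← hte, hw1]
      have := (S.bij 0).unique ⟨hw0, h0⟩ ⟨Matrix.mulVec_zero _, map_zero _⟩
      exact congrFun this i)
  exact ⟨⟨x', e', he'e', hA⟩, hx', he'map'⟩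

theorem exists_system (t : ∀ n, An (n + 1) →+* An n)
    (ht : ∀ n, Function.Surjective (t n))
    (hnil : ∀ n (x : An (n + 1)), t n x = 0 → IsNilpotent x)
    (u : ∀ n, M (n + 1) →ₛₗ[t n] M n)
    [Module.Projective (An 0) (M 0)]
    (hfin : ∀ n, Module.Finite (An n) (M n)) (hflat : ∀ n, Module.Flat (An n) (M n))
    (hu : ∀ n, Function.Surjective (u n) ∧
      LinearMap.ker (u n) = RingHom.ker (t n) • (⊤ : Submodule (An (n + 1)) (M (n + 1)))) :
    ∃ (r : ℕ) (X : ∀ n, Fin r → M n) (En : ∀ n, Matrix (Fin r) (Fin r) (An n)),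
      (∀ n i, u n (X (n + 1) i) = X n i) ∧ (∀ n, (En (n + 1)).map (t n) = En n) ∧
      (∀ n, En n * En n = En n) ∧
      (∀ n (m : M n), ∃! w : Fin r → An n,
        En n *ᵥ w = w ∧ Fintype.linearCombination (An n) (X n) w = m) := by
  classical
  haveI := hfin 0
  obtain ⟨r, x0, hx0⟩ := Module.Finite.exists_fin (R := An 0) (M := M 0)
  have hsurj0 : Function.Surjective (Fintype.linearCombination (An 0) x0) := by
    rw [← LinearMap.range_eq_top, Fintype.range_linearCombination, hx0]
  obtain ⟨g0, hg0⟩ := Module.projective_lifting_property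
    (Fintype.linearCombination (An 0) x0) LinearMap.id hsurj0
  have hφg : ∀ m, Fintype.linearCombination (An 0) x0 (g0 m) = m :=
    fun m => LinearMap.congr_fun hg0 m
  let S0 : Stage An M r 0 :=
    { x := x0
      e := LinearMap.toMatrix' (g0 ∘ₗ Fintype.linearCombination (An 0) x0)
      idem := by
        rw [← LinearMap.toMatrix'_comp]
        congr 1
        refine LinearMap.ext fun v => ?_
        simp only [LinearMap.comp_apply, hφg]
      bij := by
        intro m
        refine ⟨g0 m, ⟨?_, hφg m⟩, ?_⟩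
        · rw [LinearMap.toMatrix'_mulVec, LinearMap.comp_apply, hφg]
        · rintro w ⟨hw1, hw2⟩
          rw [← hw1, LinearMap.toMatrix'_mulVec, LinearMap.comp_apply, hw2] }
  have hnext := fun (n : ℕ) (S : Stage An M r n) =>
    exists_next t ht hnil u hfin hflat hu S
  choose nxt hnxt1 hnxt2 using hnext
  let St : ∀ n, Stage An M r n :=
    fun n => Nat.rec (motive := fun n => Stage An M r n) S0 (fun n S => nxt n S) n
  exact ⟨r, fun n => (St n).x, fun n => (St n).e, fun n i => hnxt1 n (St n) i,
    fun n => hnxt2 n (St n), fun n => (St n).idem, fun n => (St n).bij⟩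

end System

theorem assemble (A : Type u) [CommRing A] (An : ℕ → Type u)
    [∀ n, CommRing (An n)] (t : ∀ n, An (n + 1) →+* An n) (π : ∀ n, A →+* An n)
    (ht : ∀ n, Function.Surjective (t n))
    (hA : FlatCA.IsRingLimit A An t π)
    (M : ℕ → Type u) [∀ n, AddCommGroup (M n)] [∀ n, Module (An n) (M n)]
    (u : ∀ n, M (n + 1) →ₛₗ[t n] M n)
    (r : ℕ) (X : ∀ n, Fin r → M n) (En : ∀ n, Matrix (Fin r) (Fin r) (An n))
    (hX : ∀ n i, u n (X (n + 1) i) = X n i) (hEn : ∀ n, (En (n + 1)).map (t n) = En n)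
    (hidem : ∀ n, En n * En n = En n)
    (hbij : ∀ n (m : M n), ∃! w : Fin r → An n,
      En n *ᵥ w = w ∧ Fintype.linearCombination (An n) (X n) w = m) :
    ∃ (P : Type u) (_ : AddCommGroup P) (_ : Module A P) (p : ∀ n, P →ₛₗ[π n] M n),
      Module.Finite A P ∧ Module.Projective A P ∧ (∀ n (x : P), u n (p (n + 1) x) = p n x) ∧
      (∀ n, Function.Surjective (p n) ∧
        LinearMap.ker (p n) = RingHom.ker (π n) • (⊤ : Submodule A P)) ∧
      (∀ x : (∀ n, M n), (∀ n, u n (x (n + 1)) = x n) → ∃! q : P, ∀ n, p n q = x n) := by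
  classical
  obtain ⟨hπt, hπinj, hπex⟩ := hA
  have hπt' : ∀ n a, t n (π (n + 1) a) = π n a := fun n a => RingHom.congr_fun (hπt n) a
  obtain ⟨e, heπ⟩ : ∃ e : Matrix (Fin r) (Fin r) A, ∀ n, e.map (π n) = En n := by
    have hex : ∀ i j, ∃ a : A, ∀ n, π n a = En n i j := fun i j =>
      hπex (fun n => En n i j) (fun n => by
        have := congrFun (congrFun (hEn n) i) j
        simpa using this)
    choose e0 he0 using hex
    exact ⟨Matrix.of e0, fun n => by ext i j; simp [he0]⟩
  have hee : e * e = e := by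
    ext i j
    apply hπinj
    intro n
    have h1 : ∀ N : Matrix (Fin r) (Fin r) A, π n (N i j) = (N.map (π n)) i j := fun N => rfl
    rw [h1, h1, Matrix.map_mul, heπ, hidem]
  have hπsurj : ∀ n, Function.Surjective (π n) := by
    intro n a
    obtain ⟨y, hy, hyn⟩ := exists_compat n An (fun k => t k) ht a
    obtain ⟨b, hb⟩ := hπex y hy
    exact ⟨b, by rw [hb, hyn]⟩
  have hmv : ∀ n (v : Fin r → A),
      (fun i => π n ((e *ᵥ v) i)) = En n *ᵥ (fun i => π n (v i)) := by
    intro n v
    ext i
    rw [RingHom.map_mulVec, heπ]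
    rfl
  have htv : ∀ n (w : Fin r → An (n + 1)),
      (fun i => t n ((En (n + 1) *ᵥ w) i)) = En n *ᵥ (fun i => t n (w i)) := by
    intro n w
    ext i
    rw [RingHom.map_mulVec, hEn]
    rfl
  have hvext : ∀ v w : Fin r → A, (∀ n i, π n (v i) = π n (w i)) → v = w :=
    fun v w h => funext fun i => hπinj _ _ fun n => h n i
  have hvex : ∀ (w : ∀ n, Fin r → An n), (∀ n i, t n (w (n + 1) i) = w n i) →
      ∃ v : Fin r → A, ∀ n i, π n (v i) = w n i := by
    intro w hw
    have : ∀ i, ∃ a : A, ∀ n, π n a = w n i :=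
      fun i => hπex (fun n => w n i) (fun n => hw n i)
    choose v hv using this
    exact ⟨v, fun n i => hv i n⟩
  have hφu : ∀ n (w : Fin r → An (n + 1)),
      u n (Fintype.linearCombination (An (n + 1)) (X (n + 1)) w) =
        Fintype.linearCombination (An n) (X n) (fun i => t n (w i)) := by
    intro n w
    simp only [Fintype.linearCombination_apply, map_sum, map_smulₛₗ, hX]
  have hEE : ∀ v, e *ᵥ (e *ᵥ v) = e *ᵥ v := fun v => by rw [Matrix.mulVec_mulVec, hee]
  have hP : ∀ v : Fin r → A, v ∈ LinearMap.range (Matrix.mulVecLin e) ↔ e *ᵥ v = v := by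
    intro v
    constructor
    · rintro ⟨w, rfl⟩
      exact hEE w
    · intro h
      exact ⟨v, h⟩
  let p : ∀ n, LinearMap.range (Matrix.mulVecLin e) →ₛₗ[π n] M n := fun n =>
    { toFun := fun v => Fintype.linearCombination (An n) (X n) (fun i => π n (v.1 i))
      map_add' := fun v w => by
        simp only [Fintype.linearCombination_apply, Submodule.coe_add, Pi.add_apply, map_add,
          add_smul, Finset.sum_add_distrib]
      map_smul' := fun a v => by
        simp only [Fintype.linearCombination_apply, Submodule.coe_smul, Pi.smul_apply,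
          smul_eq_mul, map_mul, mul_smul, Finset.smul_sum] }
  have hp : ∀ n (v : LinearMap.range (Matrix.mulVecLin e)),
      p n v = Fintype.linearCombination (An n) (X n) (fun i => π n (v.1 i)) := fun n v => rfl
  -- elements of `P` reduce into the image of `En n`
  have hPn : ∀ n (v : LinearMap.range (Matrix.mulVecLin e)),
      En n *ᵥ (fun i => π n (v.1 i)) = (fun i => π n (v.1 i)) := by
    intro n v
    rw [← hmv, (hP v.1).mp v.2]
  refine ⟨LinearMap.range (Matrix.mulVecLin e), inferInstance, inferInstance, p,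
    ?_, ?_, ?_, ?_, ?_⟩
  · exact Module.Finite.range _
  · refine Module.Projective.of_split (LinearMap.range (Matrix.mulVecLin e)).subtype
      (Matrix.mulVecLin e).rangeRestrict ?_
    refine LinearMap.ext fun v => Subtype.ext ?_
    exact (hP v.1).mp v.2
  · intro n v
    rw [hp, hp, hφu]
    congr 1
    ext i
    exact hπt' n _
  · intro n
    refine ⟨?_, le_antisymm ?_ ?_⟩
    · intro m
      obtain ⟨w, ⟨hw1, hw2⟩, -⟩ := hbij n m
      choose v hv using fun i => hπsurj n (w i)
      have hv' : (fun i => π n (v i)) = w := funext hv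
      refine ⟨⟨e *ᵥ v, ⟨v, rfl⟩⟩, ?_⟩
      rw [hp]
      show Fintype.linearCombination (An n) (X n) (fun i => π n ((e *ᵥ v) i)) = m
      rw [hmv, hv', hw1, hw2]
    · intro v hv
      have hv0 : Fintype.linearCombination (An n) (X n) (fun i => π n (v.1 i)) = 0 := hv
      have hw0 : (fun i => π n (v.1 i)) = 0 :=
        (hbij n 0).unique ⟨hPn n v, hv0⟩ ⟨Matrix.mulVec_zero _, map_zero _⟩
      have hmem : ∀ i, v.1 i ∈ RingHom.ker (π n) := fun i => congrFun hw0 i
      have h1 : v.1 = ∑ i, v.1 i • (fun j => if i = j then (1 : A) else 0) := pi_eq_sum_univ v.1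
      have h2 : e *ᵥ v.1 =
          ∑ i, v.1 i • (e *ᵥ (fun j => if i = j then (1 : A) else 0)) := by
        conv_lhs => rw [h1]
        rw [Matrix.mulVec_sum]
        simp only [Matrix.mulVec_smul]
      have h3 : v = ∑ i, v.1 i •
          (⟨e *ᵥ (fun j => if i = j then (1 : A) else 0), ⟨_, rfl⟩⟩ :
            LinearMap.range (Matrix.mulVecLin e)) := by
        apply Subtype.ext
        rw [Submodule.coe_sum]
        simp only [Submodule.coe_smul]
        rw [← h2]
        exact ((hP v.1).mp v.2).symm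
      rw [h3]
      exact Submodule.sum_mem _ fun i _ => Submodule.smul_mem_smul (hmem i) Submodule.mem_top
    · rw [Submodule.smul_le]
      intro a ha v _
      rw [LinearMap.mem_ker, map_smulₛₗ, RingHom.mem_ker.mp ha, zero_smul]
  · intro x hx
    have hw : ∀ n, ∃ w : Fin r → An n,
        (En n *ᵥ w = w ∧ Fintype.linearCombination (An n) (X n) w = x n) ∧
        ∀ y : Fin r → An n,
          (En n *ᵥ y = y ∧ Fintype.linearCombination (An n) (X n) y = x n) → y = w :=
      fun n => hbij n (x n)
    choose w hw1 hw2 using hw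
    have hcompat : ∀ n i, t n (w (n + 1) i) = w n i := by
      intro n i
      have := hw2 n (fun i => t n (w (n + 1) i))
        ⟨by rw [← htv, (hw1 (n + 1)).1], by rw [← hφu, (hw1 (n + 1)).2, hx]⟩
      exact congrFun this i
    obtain ⟨v, hv⟩ := hvex w hcompat
    have hv' : ∀ n, (fun i => π n (v i)) = w n := fun n => funext (hv n)
    have hvP : e *ᵥ v = v := by
      apply hvext
      intro n i
      have := congrFun (hmv n v) i
      rw [this, hv', (hw1 n).1]
      exact (hv n i).symm
    refine ⟨⟨v, (hP v).mpr hvP⟩, fun n => ?_, ?_⟩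
    · rw [hp]
      show Fintype.linearCombination (An n) (X n) (fun i => π n (v i)) = x n
      rw [hv']
      exact (hw1 n).2
    · intro q hq
      apply Subtype.ext
      apply hvext
      intro n i
      have := hw2 n (fun i => π n (q.1 i)) ⟨hPn n q, hq n⟩
      rw [hv n i]
      exact congrFun this i

theorem main (A : Type u) [CommRing A] (An : ℕ → Type u)
    [∀ n, CommRing (An n)] (t : ∀ n, An (n + 1) →+* An n) (π : ∀ n, A →+* An n)
    (ht : ∀ n, Function.Surjective (t n))
    (hnil : ∀ n (x : An (n + 1)), t n x = 0 → IsNilpotent x)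
    (hA : FlatCA.IsRingLimit A An t π)
    (M : ℕ → Type u) [∀ n, AddCommGroup (M n)] [∀ n, Module (An n) (M n)]
    (u : ∀ n, M (n + 1) →ₛₗ[t n] M n)
    [Module.Projective (An 0) (M 0)] (hfin : ∀ n, Module.Finite (An n) (M n))
    (hflat : ∀ n, Module.Flat (An n) (M n))
    (hu : ∀ n, Function.Surjective (u n) ∧
      LinearMap.ker (u n) = RingHom.ker (t n) • (⊤ : Submodule (An (n + 1)) (M (n + 1)))) :
    ∃ (P : Type u) (_ : AddCommGroup P) (_ : Module A P) (p : ∀ n, P →ₛₗ[π n] M n),
      Module.Finite A P ∧ Module.Projective A P ∧ (∀ n (x : P), u n (p (n + 1) x) = p n x) ∧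
      (∀ n, Function.Surjective (p n) ∧
        LinearMap.ker (p n) = RingHom.ker (π n) • (⊤ : Submodule A P)) ∧
      (∀ x : (∀ n, M n), (∀ n, u n (x (n + 1)) = x n) → ∃! q : P, ∀ n, p n q = x n) := by
  obtain ⟨r, X, En, hX, hEn, hidem, hbij⟩ := exists_system t ht hnil u hfin hflat hu
  exact assemble A An t π ht hA M u r X En hX hEn hidem hbij

end Groth.Agent.Helper8.LimProj
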