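import Mathlib
import Groth.Agent.Lead.LimHom

set_option autoImplicit false
universe u
open CategoryTheory Limits AlgebraicGeometry

/-!
# Factorizations through a finitely presented morphism descend to a finite stage of a limit
-/

namespace Groth.Agent.Helper8.LimSub

open Groth.Agent.Lead.LimPullback Groth.Agent.Lead.LimHom

/-- scheme-level factorization property: after base change along `σ`, the morphism `t` factors
through `ι` -/
def Fact {B G H T S' : Scheme.{u}} (ι : H ⟶ G) (τ : T ⟶ B) (t : T ⟶ G) (σ : S' ⟶ B) : Prop :=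
  ∃ w : pullback τ σ ⟶ H, w ≫ ι = pullback.fst τ σ ≫ t

lemma Fact.precomp {B G H T S' S'' : Scheme.{u}} {ι : H ⟶ G} {τ : T ⟶ B} {t : T ⟶ G}
    {σ : S' ⟶ B} (hF : Fact ι τ t σ) (ρ : S'' ⟶ S') : Fact ι τ t (ρ ≫ σ) := by
  obtain ⟨w, hw⟩ := hF
  refine ⟨pullback.map τ (ρ ≫ σ) τ σ (𝟙 _) ρ (𝟙 _) (by simp) (by simp) ≫ w, ?_⟩
  rw [Category.assoc, hw]
  simp only [pullback.map, Category.comp_id]
  rw [pullback.lift_fst_assoc]

variable {I : Type u} [SmallCategory I] [IsCofiltered I] (D : I ⥤ Scheme.{u}) (c : Cone D)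
  (hc : IsLimit c) [∀ {i j : I} (f : i ⟶ j), IsAffineHom (D.map f)] (i₀ : I)

include hc in
set_option backward.isDefEq.respectTransparency false in
theorem fact_eventually {G H T : Scheme.{u}} (g : G ⟶ D.obj i₀) [LocallyOfFiniteType g]
    (ι : H ⟶ G) [LocallyOfFinitePresentation (ι ≫ g)]
    (τ : T ⟶ D.obj i₀) [CompactSpace T] [QuasiSeparatedSpace T] (t : T ⟶ G) (ht : t ≫ g = τ)
    (hF : Fact ι τ t (c.π.app i₀)) :
    ∃ j : Over i₀, Fact ι τ t (D.map j.hom) := by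
  obtain ⟨w, hw⟩ := hF
  have hw' : ((pullbackSymmetry _ _).hom ≫ w) ≫ (ι ≫ g) = pullback.snd (c.π.app i₀) τ ≫ τ := by
    rw [Category.assoc, reassoc_of% hw, ht]
    simp
  obtain ⟨j, gj, hgj1, hgj2⟩ := exists_hom_descend D c hc i₀ τ (ι ≫ g) _ hw'
  have hπ : (pbCone D c i₀ τ).π.app j ≫ pullback.snd _ _ = pullback.snd _ _ := by
    simp [pbCone]
  obtain ⟨j', φ, hφ⟩ := hom_eq_eventually D c hc i₀ τ g j (gj ≫ ι) (pullback.snd _ _ ≫ t)
    (by rw [Category.assoc, hgj2]) (by rw [Category.assoc, ht])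
    (by
      rw [← Category.assoc, hgj1, Category.assoc, hw, reassoc_of% hπ]
      simp)
  have hm : (pbDiag D i₀ τ).map φ ≫ pullback.snd _ _ = pullback.snd _ _ := by
    simp [pbDiag]
  refine ⟨j', (pullbackSymmetry _ _).hom ≫ (pbDiag D i₀ τ).map φ ≫ gj, ?_⟩
  simp only [Category.assoc]
  rw [hφ, reassoc_of% hm]
  simp

include hc in
/-- the same, eventually -/
theorem fact_eventually' {G H T : Scheme.{u}} (g : G ⟶ D.obj i₀) [LocallyOfFiniteType g]
    (ι : H ⟶ G) [LocallyOfFinitePresentation (ι ≫ g)]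
    (τ : T ⟶ D.obj i₀) [CompactSpace T] [QuasiSeparatedSpace T] (t : T ⟶ G) (ht : t ≫ g = τ)
    (hF : Fact ι τ t (c.π.app i₀)) :
    ∃ j : Over i₀, ∀ (j' : Over i₀) (_ : j' ⟶ j), Fact ι τ t (D.map j'.hom) := by
  obtain ⟨j, hj⟩ := fact_eventually D c hc i₀ g ι τ t ht hF
  refine ⟨j, fun j' φ => ?_⟩
  have := hj.precomp (D.map φ.left)
  rwa [← Functor.map_comp, Over.w] at this

end Groth.Agent.Helper8.LimSub
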