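import Mathlib
import Groth.Prelude
import Groth.Agent.Helper8.LimSubA
import Groth.Agent.Helper9.SubGrpObj

set_option autoImplicit false
universe u
open CategoryTheory Limits AlgebraicGeometry MonoidalCategory CartesianMonoidalCategory MonObj GrpObj

/-!
# Closed subgroups at the limit are closed subgroups at a finite stage
-/

namespace Groth.Agent.Helper8.LimSub

/-- Over-level factorization property -/
def Fac {B S' : Scheme.{u}} (σ : S' ⟶ B) {T H G : Over B} (ii : H ⟶ G) (t : T ⟶ G) : Prop :=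
  ∃ w : (Over.pullback σ).obj T ⟶ (Over.pullback σ).obj H,
    w ≫ (Over.pullback σ).map ii = (Over.pullback σ).map t

set_option backward.isDefEq.respectTransparency false in
lemma fac_iff_fact {B S' : Scheme.{u}} (σ : S' ⟶ B) {T H G : Over B} (ii : H ⟶ G) (t : T ⟶ G) :
    Fac σ ii t ↔ Fact ii.left T.hom t.left σ := by
  constructor
  · rintro ⟨w, hw⟩
    refine ⟨w.left ≫ pullback.fst _ _, ?_⟩
    have h1 := congrArg (fun q => q.left ≫ pullback.fst _ _) hw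
    simp only [Over.comp_left, Over.pullback_map_left, Category.assoc] at h1
    rw [pullback.lift_fst, pullback.lift_fst] at h1
    rw [Category.assoc]
    exact h1
  · rintro ⟨w, hw⟩
    have hcond : w ≫ H.hom = pullback.snd T.hom σ ≫ σ := by
      rw [← Over.w ii, reassoc_of% hw, Over.w t, pullback.condition]
    refine ⟨Over.homMk (pullback.lift w (pullback.snd _ _) hcond) (by simp), ?_⟩
    ext
    simp only [Over.comp_left, Over.homMk_left, Over.pullback_map_left]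
    apply pullback.hom_ext
    · simp only [Category.assoc]
      rw [pullback.lift_fst, pullback.lift_fst_assoc, pullback.lift_fst, hw]
    · simp only [Category.assoc]
      rw [pullback.lift_snd, pullback.lift_snd, pullback.lift_snd]

section Cat

variable {C : Type*} [Category C] [CartesianMonoidalCategory C]
  {E : Type*} [Category E] [CartesianMonoidalCategory E] (F : C ⥤ E) [F.Monoidal]
  {G₀ H₀ : C} [GrpObj G₀] (ι₀ : H₀ ⟶ G₀)

open Functor.LaxMonoidal Functor.OplaxMonoidal Functor.Monoidal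
open scoped Obj

/-- test morphism for closure under multiplication -/
def tA : H₀ ⊗ H₀ ⟶ G₀ := (fst H₀ H₀ ≫ ι₀) * (snd H₀ H₀ ≫ ι₀)
/-- test morphism for the unit -/
def tB : 𝟙_ C ⟶ G₀ := 1
/-- test morphism for closure under inverses -/
def tC : H₀ ⟶ G₀ := ι₀⁻¹
/-- test morphism for normality -/
def tD : G₀ ⊗ H₀ ⟶ G₀ := fst G₀ H₀ * (snd G₀ H₀ ≫ ι₀) * (fst G₀ H₀)⁻¹

lemma facA_of_isMonHom [GrpObj (F.obj H₀)] [IsMonHom (F.map ι₀)] :
    ∃ w : F.obj (H₀ ⊗ H₀) ⟶ F.obj H₀, w ≫ F.map ι₀ = F.map (tA ι₀) := by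
  refine ⟨F.map (fst H₀ H₀) * F.map (snd H₀ H₀), ?_⟩
  rw [tA, Functor.map_mul, MonObj.mul_comp, Functor.map_comp, Functor.map_comp]

lemma facB_of_isMonHom [GrpObj (F.obj H₀)] [IsMonHom (F.map ι₀)] :
    ∃ w : F.obj (𝟙_ C) ⟶ F.obj H₀, w ≫ F.map ι₀ = F.map (tB (G₀ := G₀)) := by
  refine ⟨1, ?_⟩
  rw [tB, Functor.map_one, MonObj.one_comp]

lemma facC_of_isMonHom [GrpObj (F.obj H₀)] [IsMonHom (F.map ι₀)] :
    ∃ w : F.obj H₀ ⟶ F.obj H₀, w ≫ F.map ι₀ = F.map (tC ι₀) := by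
  refine ⟨(𝟙 (F.obj H₀))⁻¹, ?_⟩
  rw [tC, Functor.map_inv', GrpObj.inv_comp, Category.id_comp]

/-- the subgroup structure from factorizations of the test morphisms -/
theorem exists_grpObj_of_fac [Mono (F.map ι₀)]
    (hA : ∃ w : F.obj (H₀ ⊗ H₀) ⟶ F.obj H₀, w ≫ F.map ι₀ = F.map (tA ι₀))
    (hB : ∃ w : F.obj (𝟙_ C) ⟶ F.obj H₀, w ≫ F.map ι₀ = F.map (tB (G₀ := G₀)))
    (hC : ∃ w : F.obj H₀ ⟶ F.obj H₀, w ≫ F.map ι₀ = F.map (tC ι₀)) :
    ∃ _ : GrpObj (F.obj H₀), IsMonHom (F.map ι₀) := by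
  obtain ⟨wA, hwA⟩ := hA
  obtain ⟨wB, hwB⟩ := hB
  obtain ⟨wC, hwC⟩ := hC
  have he : (Functor.LaxMonoidal.ε F ≫ wB) ≫ F.map ι₀ = η[F.obj G₀] := by
    rw [Category.assoc, hwB, tB, Functor.map_one, MonObj.comp_one, MonObj.one_eq_one]
  have hm : (Functor.LaxMonoidal.μ F H₀ H₀ ≫ wA) ≫ F.map ι₀ = (F.map ι₀ ⊗ₘ F.map ι₀) ≫ μ[F.obj G₀] := by
    rw [Category.assoc, hwA, tA, Functor.map_mul, MonObj.comp_mul, Functor.map_comp,
      Functor.map_comp, μ_fst_assoc, μ_snd_assoc, Hom.mul_def, lift_fst_comp_snd_comp]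
  have hv : wC ≫ F.map ι₀ = F.map ι₀ ≫ ι[F.obj G₀] := by
    rw [hwC, tC, Functor.map_inv', Hom.inv_def]
  exact ⟨Groth.Agent.Helper9.SubGrpObj.grpObjOfMono (F.map ι₀) _ _ _ he hm hv,
    Groth.Agent.Helper9.SubGrpObj.isMonHom_of_grpObjOfMono (F.map ι₀) _ _ _ he hm hv⟩

end Cat

section Normal

open Functor.LaxMonoidal Functor.OplaxMonoidal Functor.Monoidal
open scoped Obj

variable {B S' : Scheme.{u}} (σ : S' ⟶ B) {G₀ H₀ : Over B} [GrpObj G₀] (ι₀ : H₀ ⟶ G₀)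

lemma facD_of_isNormalHom [GrpObj ((Over.pullback σ).obj H₀)]
    (hn : AlgGrp.IsNormalHom ((Over.pullback σ).map ι₀)) :
    ∃ w : (Over.pullback σ).obj (G₀ ⊗ H₀) ⟶ (Over.pullback σ).obj H₀,
      w ≫ (Over.pullback σ).map ι₀ = (Over.pullback σ).map (tD ι₀) := by
  obtain ⟨n', hn'⟩ := hn _ ((Over.pullback σ).map (fst G₀ H₀)) ((Over.pullback σ).map (snd G₀ H₀))
  refine ⟨n', ?_⟩
  rw [← hn', tD, Functor.map_mul, Functor.map_mul, Functor.map_inv', Functor.map_comp]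

lemma isNormalHom_of_facD [GrpObj ((Over.pullback σ).obj H₀)]
    (hD : ∃ w : (Over.pullback σ).obj (G₀ ⊗ H₀) ⟶ (Over.pullback σ).obj H₀,
      w ≫ (Over.pullback σ).map ι₀ = (Over.pullback σ).map (tD ι₀)) :
    AlgGrp.IsNormalHom ((Over.pullback σ).map ι₀) := by
  obtain ⟨wD, hwD⟩ := hD
  intro T g n
  refine ⟨lift g n ≫ Functor.LaxMonoidal.μ (Over.pullback σ) G₀ H₀ ≫ wD, ?_⟩
  rw [Category.assoc, Category.assoc, hwD, tD, Functor.map_mul, Functor.map_mul,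
    Functor.map_inv', Functor.map_comp, MonObj.comp_mul, MonObj.comp_mul, MonObj.comp_mul,
    MonObj.comp_mul, GrpObj.comp_inv, GrpObj.comp_inv, μ_fst, μ_snd_assoc, lift_fst,
    lift_snd_assoc]

end Normal

end Groth.Agent.Helper8.LimSub
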