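import Mathlib
import Groth.Prelude
import Groth.Agent.Helper8.LimSubB

set_option autoImplicit false
universe u
open CategoryTheory Limits AlgebraicGeometry MonoidalCategory CartesianMonoidalCategory MonObj GrpObj

namespace Groth.Agent.Helper8.LimSub

variable {I : Type u} [SmallCategory I] [IsCofiltered I] (D : I ⥤ Scheme.{u}) (c : Cone D)
  (hc : IsLimit c) [∀ {i j : I} (f : i ⟶ j), IsAffineHom (D.map f)] (i₀ : I)
  [CompactSpace (D.obj i₀)] [QuasiSeparatedSpace (D.obj i₀)]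

include hc in
/-- factorizations at the limit hold eventually -/
theorem fac_eventually {G₀ H₀ T : Over (D.obj i₀)} [LocallyOfFiniteType G₀.hom]
    (ι₀ : H₀ ⟶ G₀) [LocallyOfFinitePresentation H₀.hom]
    [QuasiCompact T.hom] [QuasiSeparated T.hom] (t : T ⟶ G₀)
    (hF : Fac (c.π.app i₀) ι₀ t) :
    ∃ j : Over i₀, ∀ (j' : Over i₀) (_ : j' ⟶ j), Fac (D.map j'.hom) ι₀ t := by
  haveI : CompactSpace T.left := QuasiCompact.compactSpace_of_compactSpace T.hom
  haveI : QuasiSeparatedSpace T.left := quasiSeparatedSpace_of_quasiSeparated T.hom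
  haveI : LocallyOfFinitePresentation (ι₀.left ≫ G₀.hom) := by
    rw [Over.w ι₀]; infer_instance
  obtain ⟨j, hj⟩ := fact_eventually' D c hc i₀ G₀.hom ι₀.left T.hom t.left (Over.w t)
    ((fac_iff_fact _ _ _).mp hF)
  exact ⟨j, fun j' φ => (fac_iff_fact _ _ _).mpr (hj j' φ)⟩

instance qc_tensor {B : Scheme.{u}} (X Y : Over B) [QuasiCompact X.hom] [QuasiCompact Y.hom] :
    QuasiCompact (X ⊗ Y).hom := by
  rw [Over.tensorObj_hom]; infer_instance

instance qs_tensor {B : Scheme.{u}} (X Y : Over B) [QuasiSeparated X.hom] [QuasiSeparated Y.hom] :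
    QuasiSeparated (X ⊗ Y).hom := by
  rw [Over.tensorObj_hom]; infer_instance

instance qc_unit {B : Scheme.{u}} : QuasiCompact (𝟙_ (Over B)).hom := by
  rw [Over.tensorUnit_hom]; exact (inferInstance : QuasiCompact (𝟙 B))

instance qs_unit {B : Scheme.{u}} : QuasiSeparated (𝟙_ (Over B)).hom := by
  rw [Over.tensorUnit_hom]; exact (inferInstance : QuasiSeparated (𝟙 B))

include hc in
set_option backward.isDefEq.respectTransparency false in
theorem main (G₀ : Over (D.obj i₀)) [GrpObj G₀] [IsSeparated G₀.hom] [QuasiCompact G₀.hom]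
    [LocallyOfFinitePresentation G₀.hom]
    (H₀ : Over (D.obj i₀)) (ι₀ : H₀ ⟶ G₀) [IsClosedImmersion ι₀.left]
    [LocallyOfFinitePresentation ι₀.left] :
    ((∃ _ : GrpObj (Red.bc (c.π.app i₀) H₀), IsMonHom ((Over.pullback (c.π.app i₀)).map ι₀)) →
      ∃ (i : I) (a : i ⟶ i₀) (_ : GrpObj (Red.bc (D.map a) H₀)),
        IsMonHom ((Over.pullback (D.map a)).map ι₀)) ∧
    ((∃ (_ : GrpObj (Red.bc (c.π.app i₀) H₀)) (_ : IsMonHom ((Over.pullback (c.π.app i₀)).map ι₀)),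
        AlgGrp.IsNormalHom ((Over.pullback (c.π.app i₀)).map ι₀)) →
      ∃ (i : I) (a : i ⟶ i₀) (_ : GrpObj (Red.bc (D.map a) H₀))
        (_ : IsMonHom ((Over.pullback (D.map a)).map ι₀)),
        AlgGrp.IsNormalHom ((Over.pullback (D.map a)).map ι₀)) := by
  have hHhom : ι₀.left ≫ G₀.hom = H₀.hom := Over.w ι₀
  haveI : QuasiCompact H₀.hom := by rw [← hHhom]; infer_instance
  haveI : QuasiSeparated H₀.hom := by rw [← hHhom]; infer_instance
  haveI : LocallyOfFinitePresentation H₀.hom := by rw [← hHhom]; infer_instance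
  haveI : Mono ι₀.left := inferInstance
  haveI : Mono ι₀ := Over.mono_of_mono_left ι₀
  haveI hmono : ∀ {S' : Scheme.{u}} (σ : S' ⟶ D.obj i₀), Mono ((Over.pullback σ).map ι₀) :=
    fun σ => inferInstance
  have key : ∀ (_ : GrpObj (Red.bc (c.π.app i₀) H₀))
      (_ : IsMonHom ((Over.pullback (c.π.app i₀)).map ι₀)),
      ∃ j : Over i₀, ∀ (j' : Over i₀) (_ : j' ⟶ j),
        Fac (D.map j'.hom) ι₀ (tA ι₀) ∧ Fac (D.map j'.hom) ι₀ (tB (G₀ := G₀)) ∧
          Fac (D.map j'.hom) ι₀ (tC ι₀) := by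
    intro inst hmon
    obtain ⟨jA, hjA⟩ := fac_eventually D c hc i₀ ι₀ (tA ι₀)
      (facA_of_isMonHom (Over.pullback (c.π.app i₀)) ι₀)
    obtain ⟨jB, hjB⟩ := fac_eventually D c hc i₀ ι₀ (tB (G₀ := G₀))
      (facB_of_isMonHom (Over.pullback (c.π.app i₀)) ι₀)
    obtain ⟨jC, hjC⟩ := fac_eventually D c hc i₀ ι₀ (tC ι₀)
      (facC_of_isMonHom (Over.pullback (c.π.app i₀)) ι₀)
    refine ⟨IsCofiltered.min (IsCofiltered.min jA jB) jC, fun j' φ => ⟨?_, ?_, ?_⟩⟩
    · exact hjA j' (φ ≫ IsCofiltered.minToLeft _ _ ≫ IsCofiltered.minToLeft _ _)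
    · exact hjB j' (φ ≫ IsCofiltered.minToLeft _ _ ≫ IsCofiltered.minToRight _ _)
    · exact hjC j' (φ ≫ IsCofiltered.minToRight _ _)
  constructor
  · rintro ⟨inst, hmon⟩
    obtain ⟨j, hj⟩ := key inst hmon
    obtain ⟨hA, hB, hC⟩ := hj j (𝟙 j)
    obtain ⟨inst', hmon'⟩ := exists_grpObj_of_fac (Over.pullback (D.map j.hom)) ι₀ hA hB hC
    exact ⟨j.left, j.hom, inst', hmon'⟩
  · rintro ⟨inst, hmon, hnorm⟩
    obtain ⟨j, hj⟩ := key inst hmon
    obtain ⟨jD, hjD⟩ := fac_eventually D c hc i₀ ι₀ (tD ι₀)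
      (facD_of_isNormalHom (c.π.app i₀) ι₀ hnorm)
    obtain ⟨hA, hB, hC⟩ := hj (IsCofiltered.min j jD) (IsCofiltered.minToLeft _ _)
    have hD := hjD (IsCofiltered.min j jD) (IsCofiltered.minToRight _ _)
    obtain ⟨inst', hmon'⟩ := exists_grpObj_of_fac
      (Over.pullback (D.map (IsCofiltered.min j jD).hom)) ι₀ hA hB hC
    exact ⟨(IsCofiltered.min j jD).left, (IsCofiltered.min j jD).hom, inst', hmon',
      isNormalHom_of_facD _ ι₀ hD⟩

end Groth.Agent.Helper8.LimSub
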