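import Mathlib
import Groth.Prelude
import Groth.Agent.Helper8.LimSubB

set_option autoImplicit false
universe u
open CategoryTheory Limits AlgebraicGeometry MonoidalCategory CartesianMonoidalCategory MonObj GrpObj

/-!
# Equalities and monomorphisms over a limit hold at a finite stage
-/

namespace Groth.Agent.Helper8.LimSub

open Groth.Agent.Lead.LimPullback Groth.Agent.Lead.LimHom

/-- scheme-level equality after base change along `σ` -/
def EqAt {B X T S' : Scheme.{u}} (τ : T ⟶ B) (t₁ t₂ : T ⟶ X) (σ : S' ⟶ B) : Prop :=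
  pullback.fst τ σ ≫ t₁ = pullback.fst τ σ ≫ t₂

lemma EqAt.precomp {B X T S' S'' : Scheme.{u}} {τ : T ⟶ B} {t₁ t₂ : T ⟶ X} {σ : S' ⟶ B}
    (h : EqAt τ t₁ t₂ σ) (ρ : S'' ⟶ S') : EqAt τ t₁ t₂ (ρ ≫ σ) := by
  have h1 : pullback.fst τ (ρ ≫ σ) =
      pullback.map τ (ρ ≫ σ) τ σ (𝟙 _) ρ (𝟙 _) (by simp) (by simp) ≫ pullback.fst τ σ := by
    simp only [pullback.map, Category.comp_id]
    rw [pullback.lift_fst]
  unfold EqAt at h ⊢
  have h2 := congrArg
    (pullback.map τ (ρ ≫ σ) τ σ (𝟙 _) ρ (𝟙 _) (by simp) (by simp) ≫ ·) h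
  simp only [← Category.assoc] at h2
  rwa [← h1] at h2

section Lim

variable {I : Type u} [SmallCategory I] [IsCofiltered I] (D : I ⥤ Scheme.{u}) (c : Cone D)
  (hc : IsLimit c) [∀ {i j : I} (f : i ⟶ j), IsAffineHom (D.map f)] (i₀ : I)

include hc in
set_option backward.isDefEq.respectTransparency false in
theorem eqAt_eventually {X T : Scheme.{u}} (x : X ⟶ D.obj i₀) [LocallyOfFiniteType x]
    (τ : T ⟶ D.obj i₀) [CompactSpace T] (t₁ t₂ : T ⟶ X) (h₁ : t₁ ≫ x = τ) (h₂ : t₂ ≫ x = τ)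
    (hE : EqAt τ t₁ t₂ (c.π.app i₀)) :
    ∃ j : Over i₀, ∀ (j' : Over i₀) (_ : j' ⟶ j), EqAt τ t₁ t₂ (D.map j'.hom) := by
  have hπ : (pbCone D c i₀ τ).π.app (Over.mk (𝟙 i₀)) ≫ pullback.snd _ _ = pullback.snd _ _ := by
    simp [pbCone]
  have hs : pullback.snd (c.π.app i₀) τ = (pullbackSymmetry _ _).hom ≫ pullback.fst τ _ := by
    simp
  obtain ⟨j, φ, hφ⟩ := hom_eq_eventually D c hc i₀ τ x (Over.mk (𝟙 i₀))
    (pullback.snd _ _ ≫ t₁) (pullback.snd _ _ ≫ t₂)
    (by rw [Category.assoc, h₁]) (by rw [Category.assoc, h₂])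
    (by
      rw [reassoc_of% hπ, reassoc_of% hπ, hs, Category.assoc, Category.assoc]
      exact congrArg (_ ≫ ·) hE)
  have hm : (pbDiag D i₀ τ).map φ ≫ pullback.snd _ _ = pullback.snd _ _ := by
    simp [pbDiag]
  rw [reassoc_of% hm, reassoc_of% hm] at hφ
  have hj : EqAt τ t₁ t₂ (D.map j.hom) := by
    unfold EqAt
    have hs' : pullback.fst τ (D.map j.hom) = (pullbackSymmetry _ _).hom ≫ pullback.snd _ τ := by
      simp
    rw [hs', Category.assoc, Category.assoc, hφ]
  refine ⟨j, fun j' ψ => ?_⟩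
  have := hj.precomp (D.map ψ.left)
  rwa [← Functor.map_comp, Over.w] at this

end Lim

/-- `u` is injective on points lying over `σ` -/
def MonoAt {B H G S' : Scheme.{u}} (h : H ⟶ B) (u : H ⟶ G) (σ : S' ⟶ B) : Prop :=
  ∀ (T' : Scheme.{u}) (a b : T' ⟶ H), (∃ τ' : T' ⟶ S', a ≫ h = τ' ≫ σ) → a ≫ u = b ≫ u → a = b

lemma MonoAt.precomp {B H G S' S'' : Scheme.{u}} {h : H ⟶ B} {u : H ⟶ G} {σ : S' ⟶ B}
    (hM : MonoAt h u σ) (ρ : S'' ⟶ S') : MonoAt h u (ρ ≫ σ) := by
  rintro T' a b ⟨τ', hτ'⟩ hab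
  exact hM T' a b ⟨τ' ≫ ρ, by rw [hτ', Category.assoc]⟩ hab

lemma monoAt_iff_eqAt {B H G S' : Scheme.{u}} (h : H ⟶ B) (u : H ⟶ G) (σ : S' ⟶ B) :
    MonoAt h u σ ↔
      EqAt (pullback.fst u u ≫ h) (pullback.fst u u) (pullback.snd u u) σ := by
  constructor
  · intro hM
    unfold EqAt
    refine hM _ _ _ ⟨pullback.snd _ _, ?_⟩ ?_
    · rw [Category.assoc, pullback.condition]
    · rw [Category.assoc, Category.assoc, pullback.condition]
  · intro hE
    rintro T' a b ⟨τ', hτ'⟩ hab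
    unfold EqAt at hE
    have hcond : pullback.lift a b hab ≫ (pullback.fst u u ≫ h) = τ' ≫ σ := by
      rw [pullback.lift_fst_assoc, hτ']
    have h1 := congrArg (pullback.lift (pullback.lift a b hab) τ' hcond ≫ ·) hE
    simp only [pullback.lift_fst_assoc, pullback.lift_fst, pullback.lift_snd] at h1
    exact h1

set_option backward.isDefEq.respectTransparency false in
lemma mono_iff_monoAt {B S' : Scheme.{u}} (σ : S' ⟶ B) {H G : Over B} (uu : H ⟶ G) :
    Mono ((Over.pullback σ).map uu) ↔ MonoAt H.hom uu.left σ := by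
  constructor
  · intro hm
    rintro T' a b ⟨τ', hτ'⟩ hab
    have hτb : b ≫ H.hom = τ' ≫ σ := by
      rw [← hτ', ← Over.w uu, reassoc_of% hab]
    let a' : Over.mk τ' ⟶ (Over.pullback σ).obj H :=
      Over.homMk (pullback.lift a τ' hτ') (by simp)
    let b' : Over.mk τ' ⟶ (Over.pullback σ).obj H :=
      Over.homMk (pullback.lift b τ' hτb) (by simp)
    have hab' : a' ≫ (Over.pullback σ).map uu = b' ≫ (Over.pullback σ).map uu := by
      ext
      simp only [Over.comp_left, Over.pullback_map_left, a', b', Over.homMk_left]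
      apply pullback.hom_ext
      · simp only [Category.assoc, pullback.lift_fst, pullback.lift_fst_assoc]
        exact hab
      · simp only [Category.assoc, pullback.lift_snd]
    have h2 := (cancel_mono ((Over.pullback σ).map uu)).mp hab'
    have h3 := congrArg (fun q => q.left ≫ pullback.fst _ _) h2
    simpa [a', b'] using h3
  · intro hM
    refine ⟨fun {T} a b hab => ?_⟩
    ext
    have h1 := congrArg (fun q => q.left ≫ pullback.fst _ _) hab
    simp only [Over.comp_left, Over.pullback_map_left, Category.assoc] at h1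
    rw [pullback.lift_fst] at h1
    have hτa : (a.left ≫ pullback.fst _ _) ≫ H.hom = T.hom ≫ σ := by
      rw [Category.assoc, pullback.condition, ← Category.assoc]
      congr 1
      exact Over.w a
    apply pullback.hom_ext
    · exact hM _ _ _ ⟨T.hom, hτa⟩ (by simpa only [Category.assoc] using h1)
    · exact (Over.w a).trans (Over.w b).symm

set_option backward.isDefEq.respectTransparency false in
lemma map_eq_iff_eqAt {B S' : Scheme.{u}} (σ : S' ⟶ B) {T X : Over B} (t₁ t₂ : T ⟶ X) :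
    (Over.pullback σ).map t₁ = (Over.pullback σ).map t₂ ↔ EqAt T.hom t₁.left t₂.left σ := by
  constructor
  · intro h
    have h1 := congrArg (fun q => q.left ≫ pullback.fst _ _) h
    simp only [Over.pullback_map_left] at h1
    rw [pullback.lift_fst, pullback.lift_fst] at h1
    exact h1
  · intro h
    ext
    simp only [Over.pullback_map_left]
    apply pullback.hom_ext
    · rw [pullback.lift_fst, pullback.lift_fst]
      exact h
    · rw [pullback.lift_snd, pullback.lift_snd]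

section Central

variable {C : Type*} [Category C] [CartesianMonoidalCategory C]
  {E : Type*} [Category E] [CartesianMonoidalCategory E] (F : C ⥤ E) [F.Monoidal]
  {G₀ H₀ : C} [GrpObj G₀] (ι₀ : H₀ ⟶ G₀)

open Functor.LaxMonoidal Functor.OplaxMonoidal Functor.Monoidal
open scoped Obj

/-- first test morphism for centrality -/
def tE₁ : G₀ ⊗ H₀ ⟶ G₀ := fst G₀ H₀ * (snd G₀ H₀ ≫ ι₀)
/-- second test morphism for centrality -/
def tE₂ : G₀ ⊗ H₀ ⟶ G₀ := (snd G₀ H₀ ≫ ι₀) * fst G₀ H₀

lemma central_iff :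
    (∀ (T : E) (g : T ⟶ F.obj G₀) (n : T ⟶ F.obj H₀),
      g * (n ≫ F.map ι₀) = (n ≫ F.map ι₀) * g) ↔ F.map (tE₁ ι₀) = F.map (tE₂ ι₀) := by
  constructor
  · intro h
    rw [tE₁, tE₂, Functor.map_mul, Functor.map_mul, Functor.map_comp]
    exact h _ _ _
  · intro h T g n
    have h1 := congrArg (lift g n ≫ Functor.LaxMonoidal.μ F G₀ H₀ ≫ ·) h
    simp only [tE₁, tE₂, Functor.map_mul, Functor.map_comp, MonObj.comp_mul, μ_fst, μ_snd_assoc,
      lift_fst, lift_snd_assoc] at h1
    exact h1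

end Central

end Groth.Agent.Helper8.LimSub
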