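import Mathlib
import Groth.Prelude
import Groth.Agent.Helper8.LimSubC
import Groth.Agent.Helper8.LimSubD

set_option autoImplicit false
universe u
open CategoryTheory Limits AlgebraicGeometry MonoidalCategory CartesianMonoidalCategory MonObj GrpObj

namespace Groth.Agent.Helper8.LimSub

variable {I : Type u} [SmallCategory I] [IsCofiltered I] (D : I ⥤ Scheme.{u}) (c : Cone D)
  (hc : IsLimit c) [∀ {i j : I} (f : i ⟶ j), IsAffineHom (D.map f)] (j : I)
  [CompactSpace (D.obj j)] [QuasiSeparatedSpace (D.obj j)]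
  (Gj Hj : Over (D.obj j))
  [LocallyOfFinitePresentation Gj.hom] [QuasiCompact Gj.hom] [QuasiSeparated Gj.hom]
  [LocallyOfFinitePresentation Hj.hom] [QuasiCompact Hj.hom] [QuasiSeparated Hj.hom]
  (uj : Hj ⟶ Gj)

include hc in
set_option backward.isDefEq.respectTransparency false in
theorem mono_down (h : Mono ((Over.pullback (c.π.app j)).map uj)) :
    ∃ j₁ : Over j, ∀ (j' : Over j) (_ : j' ⟶ j₁), Mono ((Over.pullback (D.map j'.hom)).map uj) := by
  have hw : uj.left ≫ Gj.hom = Hj.hom := Over.w uj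
  haveI : QuasiCompact (uj.left ≫ Gj.hom) := by rw [hw]; infer_instance
  haveI : QuasiSeparated (uj.left ≫ Gj.hom) := by rw [hw]; infer_instance
  haveI : QuasiCompact uj.left := QuasiCompact.of_comp uj.left Gj.hom
  haveI : QuasiSeparated uj.left := QuasiSeparated.of_comp uj.left Gj.hom
  haveI : CompactSpace ↥(pullback uj.left uj.left) :=
    QuasiCompact.compactSpace_of_compactSpace (pullback.fst uj.left uj.left ≫ Hj.hom)
  have hE := (monoAt_iff_eqAt _ _ _).mp ((mono_iff_monoAt _ _).mp h)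
  obtain ⟨j₁, hj₁⟩ := eqAt_eventually D c hc j Hj.hom (pullback.fst uj.left uj.left ≫ Hj.hom)
    (pullback.fst uj.left uj.left) (pullback.snd uj.left uj.left) rfl
    (by rw [← hw, ← pullback.condition_assoc]) hE
  exact ⟨j₁, fun j' φ => (mono_iff_monoAt _ _).mpr ((monoAt_iff_eqAt _ _ _).mpr (hj₁ j' φ))⟩

omit [IsCofiltered I] [∀ {i j : I} (f : i ⟶ j), IsAffineHom (D.map f)]
  [CompactSpace (D.obj j)] [QuasiSeparatedSpace (D.obj j)]
  [LocallyOfFinitePresentation Gj.hom] [QuasiCompact Gj.hom] [QuasiSeparated Gj.hom]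
  [LocallyOfFinitePresentation Hj.hom] [QuasiCompact Hj.hom] [QuasiSeparated Hj.hom] in
theorem mono_up {i : I} (f : i ⟶ j) (h : Mono ((Over.pullback (D.map f)).map uj)) :
    Mono ((Over.pullback (c.π.app j)).map uj) := by
  have h1 := ((mono_iff_monoAt _ _).mp h).precomp (c.π.app i)
  rw [Cone.w] at h1
  exact (mono_iff_monoAt _ _).mpr h1

variable [GrpObj Gj] [GrpObj Hj]

include hc in
theorem normal_down (h : AlgGrp.IsNormalHom ((Over.pullback (c.π.app j)).map uj)) :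
    ∃ j₁ : Over j, ∀ (j' : Over j) (_ : j' ⟶ j₁),
      AlgGrp.IsNormalHom ((Over.pullback (D.map j'.hom)).map uj) := by
  obtain ⟨j₁, hj₁⟩ := fac_eventually D c hc j uj (tD uj) (facD_of_isNormalHom (c.π.app j) uj h)
  exact ⟨j₁, fun j' φ => isNormalHom_of_facD _ uj (hj₁ j' φ)⟩

omit [IsCofiltered I] [∀ {i j : I} (f : i ⟶ j), IsAffineHom (D.map f)]
  [CompactSpace (D.obj j)] [QuasiSeparatedSpace (D.obj j)]
  [LocallyOfFinitePresentation Gj.hom] [QuasiCompact Gj.hom] [QuasiSeparated Gj.hom]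
  [LocallyOfFinitePresentation Hj.hom] [QuasiCompact Hj.hom] [QuasiSeparated Hj.hom] in
theorem normal_up {i : I} (f : i ⟶ j)
    (h : AlgGrp.IsNormalHom ((Over.pullback (D.map f)).map uj)) :
    AlgGrp.IsNormalHom ((Over.pullback (c.π.app j)).map uj) := by
  have h1 : Fac (D.map f) uj (tD uj) := facD_of_isNormalHom (D.map f) uj h
  have h2 := ((fac_iff_fact _ _ _).mp h1).precomp (c.π.app i)
  rw [Cone.w] at h2
  exact isNormalHom_of_facD _ uj ((fac_iff_fact _ _ _).mpr h2)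

include hc in
theorem central_down
    (h : ∀ (T : Over c.pt) (g : T ⟶ (Red.bc (c.π.app j) Gj)) (n : T ⟶ (Red.bc (c.π.app j) Hj)),
      g * (n ≫ ((Over.pullback (c.π.app j)).map uj)) =
        (n ≫ ((Over.pullback (c.π.app j)).map uj)) * g) :
    ∃ j₁ : Over j, ∀ (j' : Over j) (_ : j' ⟶ j₁),
      ∀ (T : Over (D.obj j'.left)) (g : T ⟶ (Red.bc (D.map j'.hom) Gj))
        (n : T ⟶ (Red.bc (D.map j'.hom) Hj)),
        g * (n ≫ ((Over.pullback (D.map j'.hom)).map uj)) =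
          (n ≫ ((Over.pullback (D.map j'.hom)).map uj)) * g := by
  haveI : CompactSpace (Gj ⊗ Hj).left := QuasiCompact.compactSpace_of_compactSpace (Gj ⊗ Hj).hom
  have hE := (map_eq_iff_eqAt _ _ _).mp ((central_iff (Over.pullback (c.π.app j)) uj).mp h)
  obtain ⟨j₁, hj₁⟩ := eqAt_eventually D c hc j Gj.hom (Gj ⊗ Hj).hom (tE₁ uj).left (tE₂ uj).left
    (Over.w _) (Over.w _) hE
  exact ⟨j₁, fun j' φ => (central_iff (Over.pullback (D.map j'.hom)) uj).mpr
    ((map_eq_iff_eqAt _ _ _).mpr (hj₁ j' φ))⟩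

omit [IsCofiltered I] [∀ {i j : I} (f : i ⟶ j), IsAffineHom (D.map f)]
  [CompactSpace (D.obj j)] [QuasiSeparatedSpace (D.obj j)]
  [LocallyOfFinitePresentation Gj.hom] [QuasiCompact Gj.hom] [QuasiSeparated Gj.hom]
  [LocallyOfFinitePresentation Hj.hom] [QuasiCompact Hj.hom] [QuasiSeparated Hj.hom] in
theorem central_up {i : I} (f : i ⟶ j)
    (h : ∀ (T : Over (D.obj i)) (g : T ⟶ (Red.bc (D.map f) Gj)) (n : T ⟶ (Red.bc (D.map f) Hj)),
      g * (n ≫ ((Over.pullback (D.map f)).map uj)) = (n ≫ ((Over.pullback (D.map f)).map uj)) * g) :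
    ∀ (T : Over c.pt) (g : T ⟶ (Red.bc (c.π.app j) Gj)) (n : T ⟶ (Red.bc (c.π.app j) Hj)),
      g * (n ≫ ((Over.pullback (c.π.app j)).map uj)) =
        (n ≫ ((Over.pullback (c.π.app j)).map uj)) * g := by
  have h1 := ((map_eq_iff_eqAt _ _ _).mp
    ((central_iff (Over.pullback (D.map f)) uj).mp h)).precomp (c.π.app i)
  rw [Cone.w] at h1
  exact (central_iff (Over.pullback (c.π.app j)) uj).mpr ((map_eq_iff_eqAt _ _ _).mpr h1)

include hc in
theorem main6088 :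
    ((Mono ((Over.pullback (c.π.app j)).map uj) ∧
        AlgGrp.IsNormalHom ((Over.pullback (c.π.app j)).map uj)) ↔
      ∃ (i : I) (f : i ⟶ j), Mono ((Over.pullback (D.map f)).map uj) ∧
        AlgGrp.IsNormalHom ((Over.pullback (D.map f)).map uj)) ∧
    ((Mono ((Over.pullback (c.π.app j)).map uj) ∧
        (∀ (T : Over c.pt) (g : T ⟶ (Red.bc (c.π.app j) Gj)) (n : T ⟶ (Red.bc (c.π.app j) Hj)),
          g * (n ≫ ((Over.pullback (c.π.app j)).map uj)) =
            (n ≫ ((Over.pullback (c.π.app j)).map uj)) * g)) ↔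
      ∃ (i : I) (f : i ⟶ j), Mono ((Over.pullback (D.map f)).map uj) ∧
        (∀ (T : Over (D.obj i)) (g : T ⟶ (Red.bc (D.map f) Gj)) (n : T ⟶ (Red.bc (D.map f) Hj)),
          g * (n ≫ ((Over.pullback (D.map f)).map uj)) =
            (n ≫ ((Over.pullback (D.map f)).map uj)) * g)) := by
  refine ⟨⟨?_, ?_⟩, ⟨?_, ?_⟩⟩
  · rintro ⟨hm, hn⟩
    obtain ⟨j₁, hj₁⟩ := mono_down D c hc j Gj Hj uj hm
    obtain ⟨j₂, hj₂⟩ := normal_down D c hc j Gj Hj uj hn
    exact ⟨(IsCofiltered.min j₁ j₂).left, (IsCofiltered.min j₁ j₂).hom,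
      hj₁ _ (IsCofiltered.minToLeft _ _), hj₂ _ (IsCofiltered.minToRight _ _)⟩
  · rintro ⟨i, f, hm, hn⟩
    exact ⟨mono_up D c j Gj Hj uj f hm, normal_up D c j Gj Hj uj f hn⟩
  · rintro ⟨hm, hn⟩
    obtain ⟨j₁, hj₁⟩ := mono_down D c hc j Gj Hj uj hm
    obtain ⟨j₂, hj₂⟩ := central_down D c hc j Gj Hj uj hn
    exact ⟨(IsCofiltered.min j₁ j₂).left, (IsCofiltered.min j₁ j₂).hom,
      hj₁ _ (IsCofiltered.minToLeft _ _), hj₂ _ (IsCofiltered.minToRight _ _)⟩
  · rintro ⟨i, f, hm, hn⟩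
    exact ⟨mono_up D c j Gj Hj uj f hm, central_up D c j Gj Hj uj f hn⟩

end Groth.Agent.Helper8.LimSub
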