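import Mathlib

set_option autoImplicit false
universe u

namespace Groth.Agent.Helper8.LinForm2

open MvPolynomial

theorem prod_zero_cases {k : Type u} [Field k] (P₀ P₁ R₀ R₁ : k)
    (h00 : P₀ * R₀ = 0) (h01 : P₀ * R₁ = 0) (h10 : P₁ * R₀ = 0) (h11 : P₁ * R₁ = 0) :
    (P₀ = 0 ∧ P₁ = 0) ∨ (R₀ = 0 ∧ R₁ = 0) := by
  by_cases hP₀ : P₀ = 0
  · by_cases hP₁ : P₁ = 0
    · exact Or.inl ⟨hP₀, hP₁⟩
    · right
      exact ⟨(mul_eq_zero.mp h10).resolve_left hP₁, (mul_eq_zero.mp h11).resolve_left hP₁⟩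
  · right
    exact ⟨(mul_eq_zero.mp h00).resolve_left hP₀, (mul_eq_zero.mp h01).resolve_left hP₀⟩

/-- A nonzero singular `2 × 2` matrix `[[a,b],[c,d]]` determines a right kernel vector `w` and a
left kernel vector `u` such that every singular matrix whose sum with it is singular is killed by
`w` on the right or by `u` on the left. -/
theorem pencil {k : Type u} [Field k] (a b c d : k) (h1 : a * d - b * c = 0)
    (hne : ¬(a = 0 ∧ b = 0 ∧ c = 0 ∧ d = 0)) :
    ∃ w₀ w₁ u₀ u₁ : k, (w₀ ≠ 0 ∨ w₁ ≠ 0) ∧ (u₀ ≠ 0 ∨ u₁ ≠ 0) ∧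
      ∀ a' b' c' d' : k, a' * d' - b' * c' = 0 →
        (a + a') * (d + d') - (b + b') * (c + c') = 0 →
        ((a' * w₀ + b' * w₁ = 0 ∧ c' * w₀ + d' * w₁ = 0) ∨
          (u₀ * a' + u₁ * c' = 0 ∧ u₀ * b' + u₁ * d' = 0)) := by
  by_cases ha : a = 0
  · by_cases hb : b = 0
    · by_cases hc : c = 0
      · have hd : d ≠ 0 := fun hd => hne ⟨ha, hb, hc, hd⟩
        refine ⟨-d, c, -d, b, Or.inl (neg_ne_zero.mpr hd), Or.inl (neg_ne_zero.mpr hd), ?_⟩
        intro a' b' c' d' h2 h3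
        apply prod_zero_cases <;> grind
      · refine ⟨-d, c, -c, a, Or.inr hc, Or.inl (neg_ne_zero.mpr hc), ?_⟩
        intro a' b' c' d' h2 h3
        apply prod_zero_cases <;> grind
    · refine ⟨-b, a, -d, b, Or.inl (neg_ne_zero.mpr hb), Or.inr hb, ?_⟩
      intro a' b' c' d' h2 h3
      apply prod_zero_cases <;> grind
  · refine ⟨-b, a, -c, a, Or.inr ha, Or.inr ha, ?_⟩
    intro a' b' c' d' h2 h3
    apply prod_zero_cases <;> grind

theorem core {k : Type u} [Field k] {E : Type*} [AddCommGroup E] [Module k E]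
    (A B C D lam : E →ₗ[k] k) (hlam : lam ≠ 0)
    (hdet : ∀ x, lam x = 0 → A x * D x - B x * C x = 0) :
    ∃ u₀ u₁ w₀ w₁ : k, (u₀ ≠ 0 ∨ u₁ ≠ 0) ∧ (w₀ ≠ 0 ∨ w₁ ≠ 0) ∧
      ∀ x, u₀ * A x * w₀ + u₀ * B x * w₁ + u₁ * C x * w₀ + u₁ * D x * w₁ = 0 := by
  classical
  obtain ⟨e₀, he₀⟩ : ∃ e₀, lam e₀ ≠ 0 := by
    by_contra hcon
    push Not at hcon
    exact hlam (LinearMap.ext (fun x => by rw [hcon x, LinearMap.zero_apply]))
  obtain ⟨e, he⟩ : ∃ e, lam e = 1 :=
    ⟨(lam e₀)⁻¹ • e₀, by rw [map_smul, smul_eq_mul, inv_mul_cancel₀ he₀]⟩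
  have hker : ∀ x, lam (x - lam x • e) = 0 := by
    intro x
    rw [map_sub, map_smul, he, smul_eq_mul, mul_one, sub_self]
  have hfac : ∀ F : E →ₗ[k] k, (∀ x, lam x = 0 → F x = 0) → ∀ x, F x = lam x * F e := by
    intro F hF x
    have h := hF _ (hker x)
    rw [map_sub, map_smul, smul_eq_mul] at h
    exact sub_eq_zero.mp h
  have hperp : ∀ G₀ G₁ : E →ₗ[k] k, (∀ x, lam x = 0 → G₀ x = 0) →
      (∀ x, lam x = 0 → G₁ x = 0) →
      ∃ t₀ t₁ : k, (t₀ ≠ 0 ∨ t₁ ≠ 0) ∧ ∀ x, t₀ * G₀ x + t₁ * G₁ x = 0 := by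
    intro G₀ G₁ h0 h1
    by_cases hz : G₀ e = 0 ∧ G₁ e = 0
    · refine ⟨1, 0, Or.inl one_ne_zero, fun x => ?_⟩
      rw [hfac G₀ h0 x, hz.1]
      ring
    · refine ⟨-G₁ e, G₀ e, ?_, fun x => ?_⟩
      · by_contra hcon
        push Not at hcon
        exact hz ⟨hcon.2, neg_eq_zero.mp hcon.1⟩
      · rw [hfac G₀ h0 x, hfac G₁ h1 x]
        ring
  by_cases hall : ∀ x, lam x = 0 → (A x = 0 ∧ B x = 0 ∧ C x = 0 ∧ D x = 0)
  · obtain ⟨t₀, t₁, ht, hT⟩ :=
      hperp A C (fun x hx => (hall x hx).1) (fun x hx => (hall x hx).2.2.1)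
    refine ⟨t₀, t₁, 1, 0, ht, Or.inl one_ne_zero, fun x => ?_⟩
    have h := hT x
    linear_combination h
  · obtain ⟨x₁, hx₁⟩ := not_forall.mp hall
    obtain ⟨hx₁0, hne⟩ := Classical.not_imp.mp hx₁
    obtain ⟨w₀, w₁, u₀, u₁, hw, hu, hpen⟩ :=
      pencil (A x₁) (B x₁) (C x₁) (D x₁) (hdet x₁ hx₁0) hne
    have hdich : ∀ x, lam x = 0 →
        ((A x * w₀ + B x * w₁ = 0 ∧ C x * w₀ + D x * w₁ = 0) ∨
          (u₀ * A x + u₁ * C x = 0 ∧ u₀ * B x + u₁ * D x = 0)) := by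
      intro x hx
      apply hpen (A x) (B x) (C x) (D x) (hdet x hx)
      have h := hdet (x₁ + x) (by rw [map_add, hx₁0, hx, add_zero])
      rw [map_add, map_add, map_add, map_add] at h
      exact h
    obtain ⟨P₀, hP₀⟩ : ∃ P₀ : E →ₗ[k] k, ∀ x, P₀ x = A x * w₀ + B x * w₁ :=
      ⟨w₀ • A + w₁ • B, fun x => by
        rw [LinearMap.add_apply, LinearMap.smul_apply, LinearMap.smul_apply, smul_eq_mul,
          smul_eq_mul]
        ring⟩
    obtain ⟨P₁, hP₁⟩ : ∃ P₁ : E →ₗ[k] k, ∀ x, P₁ x = C x * w₀ + D x * w₁ :=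
      ⟨w₀ • C + w₁ • D, fun x => by
        rw [LinearMap.add_apply, LinearMap.smul_apply, LinearMap.smul_apply, smul_eq_mul,
          smul_eq_mul]
        ring⟩
    obtain ⟨R₀, hR₀⟩ : ∃ R₀ : E →ₗ[k] k, ∀ x, R₀ x = u₀ * A x + u₁ * C x :=
      ⟨u₀ • A + u₁ • C, fun x => by
        rw [LinearMap.add_apply, LinearMap.smul_apply, LinearMap.smul_apply, smul_eq_mul,
          smul_eq_mul]⟩
    obtain ⟨R₁, hR₁⟩ : ∃ R₁ : E →ₗ[k] k, ∀ x, R₁ x = u₀ * B x + u₁ * D x :=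
      ⟨u₀ • B + u₁ • D, fun x => by
        rw [LinearMap.add_apply, LinearMap.smul_apply, LinearMap.smul_apply, smul_eq_mul,
          smul_eq_mul]⟩
    by_cases hPall : ∀ x, lam x = 0 → (P₀ x = 0 ∧ P₁ x = 0)
    · obtain ⟨t₀, t₁, ht, hT⟩ :=
        hperp P₀ P₁ (fun x hx => (hPall x hx).1) (fun x hx => (hPall x hx).2)
      refine ⟨t₀, t₁, w₀, w₁, ht, hw, fun x => ?_⟩
      have h := hT x
      rw [hP₀, hP₁] at h
      linear_combination h
    · have hRall : ∀ x, lam x = 0 → (R₀ x = 0 ∧ R₁ x = 0) := by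
        obtain ⟨x', hx'⟩ := not_forall.mp hPall
        obtain ⟨hx'0, hPx'⟩ := Classical.not_imp.mp hx'
        have hRx' : R₀ x' = 0 ∧ R₁ x' = 0 := by
          rcases hdich x' hx'0 with h | h
          · exact absurd (by rw [hP₀, hP₁]; exact h) hPx'
          · rw [hR₀, hR₁]
            exact h
        intro x hx
        by_contra hRx
        have hPx : P₀ x = 0 ∧ P₁ x = 0 := by
          rcases hdich x hx with h | h
          · rw [hP₀, hP₁]
            exact h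
          · exact absurd (by rw [hR₀, hR₁]; exact h) hRx
        have hsum : lam (x' + x) = 0 := by rw [map_add, hx'0, hx, add_zero]
        rcases hdich (x' + x) hsum with h | h
        · apply hPx'
          have h' : P₀ (x' + x) = 0 ∧ P₁ (x' + x) = 0 := by
            rw [hP₀, hP₁]
            exact h
          rw [map_add, map_add, hPx.1, hPx.2, add_zero, add_zero] at h'
          exact h'
        · apply hRx
          have h' : R₀ (x' + x) = 0 ∧ R₁ (x' + x) = 0 := by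
            rw [hR₀, hR₁]
            exact h
          rw [map_add, map_add, hRx'.1, hRx'.2, zero_add, zero_add] at h'
          exact h'
      obtain ⟨t₀, t₁, ht, hT⟩ :=
        hperp R₀ R₁ (fun x hx => (hRall x hx).1) (fun x hx => (hRall x hx).2)
      refine ⟨u₀, u₁, t₀, t₁, hu, ht, fun x => ?_⟩
      have h := hT x
      rw [hR₀, hR₁] at h
      linear_combination h

theorem lin_of_homog {k : Type u} [Field k] (p : MvPolynomial (Fin 3) k)
    (hp : p.IsHomogeneous 1) :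
    ∃ c : Fin 3 → k, p = ∑ i, c i • (X i : MvPolynomial (Fin 3) k) := by
  have h1 : p ∈ MvPolynomial.homogeneousSubmodule (Fin 3) k 1 := hp
  rw [MvPolynomial.homogeneousSubmodule_one_eq_span_X] at h1
  obtain ⟨c, hc⟩ := (Submodule.mem_span_range_iff_exists_fun k).mp h1
  exact ⟨c, hc.symm⟩

/-- The linear functional with coefficient vector `c`. -/
noncomputable def lf {k : Type u} [Field k] (c : Fin 3 → k) : (Fin 3 → k) →ₗ[k] k :=
  ∑ i, c i • (LinearMap.proj i : (Fin 3 → k) →ₗ[k] k)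

theorem eval_lin {k : Type u} [Field k] (c : Fin 3 → k) (x : Fin 3 → k) :
    eval x (∑ i, c i • (X i : MvPolynomial (Fin 3) k)) = lf c x := by
  rw [map_sum, lf, LinearMap.sum_apply]
  refine Finset.sum_congr rfl (fun i _ => ?_)
  rw [smul_eval, eval_X, LinearMap.smul_apply, LinearMap.proj_apply, smul_eq_mul]

theorem exists_GL_row {k : Type u} [Field k] (u₀ u₁ : k) (h : u₀ ≠ 0 ∨ u₁ ≠ 0) :
    ∃ g : Matrix.GeneralLinearGroup (Fin 2) k, g.val 0 0 = u₀ ∧ g.val 0 1 = u₁ := by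
  by_cases h0 : u₀ = 0
  · have h1 : u₁ ≠ 0 := h.resolve_left (fun h' => h' h0)
    refine ⟨Matrix.GeneralLinearGroup.mkOfDetNeZero !![u₀, u₁; 1, 0] ?_, rfl, rfl⟩
    rw [Matrix.det_fin_two_of]
    simpa using h1
  · refine ⟨Matrix.GeneralLinearGroup.mkOfDetNeZero !![u₀, u₁; 0, 1] ?_, rfl, rfl⟩
    rw [Matrix.det_fin_two_of]
    simpa using h0

theorem exists_GL_col {k : Type u} [Field k] (w₀ w₁ : k) (h : w₀ ≠ 0 ∨ w₁ ≠ 0) :
    ∃ g : Matrix.GeneralLinearGroup (Fin 2) k, g.val 0 1 = w₀ ∧ g.val 1 1 = w₁ := by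
  by_cases h1 : w₁ = 0
  · have h0 : w₀ ≠ 0 := h.resolve_right (fun h' => h' h1)
    refine ⟨Matrix.GeneralLinearGroup.mkOfDetNeZero !![0, w₀; 1, w₁] ?_, rfl, rfl⟩
    rw [Matrix.det_fin_two_of]
    simpa using h0
  · refine ⟨Matrix.GeneralLinearGroup.mkOfDetNeZero !![1, w₀; 0, w₁] ?_, rfl, rfl⟩
    rw [Matrix.det_fin_two_of]
    simpa using h1

theorem entry01 {k : Type u} [Field k] (g h : Matrix (Fin 2) (Fin 2) k)
    (M : Matrix (Fin 2) (Fin 2) (MvPolynomial (Fin 3) k)) :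
    ((C : k →+* MvPolynomial (Fin 3) k).mapMatrix g * M *
      (C : k →+* MvPolynomial (Fin 3) k).mapMatrix h) 0 1 =
      C (g 0 0) * M 0 0 * C (h 0 1) + C (g 0 0) * M 0 1 * C (h 1 1) +
      C (g 0 1) * M 1 0 * C (h 0 1) + C (g 0 1) * M 1 1 * C (h 1 1) := by
  rw [Matrix.mul_apply, Fin.sum_univ_two, Matrix.mul_apply, Matrix.mul_apply, Fin.sum_univ_two,
    Fin.sum_univ_two]
  simp only [RingHom.mapMatrix_apply, Matrix.map_apply]
  ring

theorem homog_entry {k : Type u} [Field k] (g h : Matrix (Fin 2) (Fin 2) k)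
    (M : Matrix (Fin 2) (Fin 2) (MvPolynomial (Fin 3) k))
    (hM : ∀ a b : Fin 2, (M a b).IsHomogeneous 1) (a b : Fin 2) :
    (((C : k →+* MvPolynomial (Fin 3) k).mapMatrix g * M *
      (C : k →+* MvPolynomial (Fin 3) k).mapMatrix h) a b).IsHomogeneous 1 := by
  rw [Matrix.mul_apply]
  refine IsHomogeneous.sum _ _ _ (fun j _ => ?_)
  have h1 : (((C : k →+* MvPolynomial (Fin 3) k).mapMatrix g * M) a j).IsHomogeneous 1 := by
    rw [Matrix.mul_apply]
    refine IsHomogeneous.sum _ _ _ (fun i _ => ?_)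
    have h2 := (isHomogeneous_C (Fin 3) (g a i)).mul (hM i j)
    rw [zero_add] at h2
    exact h2
  have h3 := h1.mul (isHomogeneous_C (Fin 3) (h j b))
  rw [add_zero] at h3
  exact h3

theorem main (k : Type u) [Field k] [IsAlgClosed k] [CharZero k]
    (M : Matrix (Fin 2) (Fin 2) (MvPolynomial (Fin 3) k))
    (hM : ∀ a b : Fin 2, (M a b).IsHomogeneous 1) :
    (∃ l₁ l₂ : MvPolynomial (Fin 3) k, l₁.IsHomogeneous 1 ∧ l₂.IsHomogeneous 1 ∧
      M.det = l₁ * l₂) ↔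
    ∃ g h : Matrix.GeneralLinearGroup (Fin 2) k,
      ((MvPolynomial.C : k →+* MvPolynomial (Fin 3) k).mapMatrix g.val * M *
        (MvPolynomial.C : k →+* MvPolynomial (Fin 3) k).mapMatrix h.val) 0 1 = 0 := by
  classical
  haveI : Infinite k := Infinite.of_injective (Nat.cast : ℕ → k) Nat.cast_injective
  constructor
  · rintro ⟨l₁, l₂, hl₁, hl₂, hdet⟩
    have hm : ∀ a b, ∃ c : Fin 3 → k, M a b = ∑ i, c i • (X i : MvPolynomial (Fin 3) k) :=
      fun a b => lin_of_homog _ (hM a b)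
    choose m hm using hm
    obtain ⟨p, hp⟩ := lin_of_homog l₁ hl₁
    obtain ⟨q, hq⟩ := lin_of_homog l₂ hl₂
    have hev : ∀ (x : Fin 3 → k) (a b : Fin 2), eval x (M a b) = lf (m a b) x := by
      intro x a b
      rw [hm a b, eval_lin]
    have hdetx : ∀ x : Fin 3 → k, lf (m 0 0) x * lf (m 1 1) x - lf (m 0 1) x * lf (m 1 0) x =
        lf p x * lf q x := by
      intro x
      have h := congrArg (eval x) hdet
      rw [Matrix.det_fin_two, map_sub, map_mul, map_mul, map_mul, hev, hev, hev, hev, hp, hq,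
        eval_lin, eval_lin] at h
      exact h
    -- choose the linear form `lam`
    obtain ⟨lam, hlam, hlamdet⟩ : ∃ lam : (Fin 3 → k) →ₗ[k] k, lam ≠ 0 ∧
        ∀ x, lam x = 0 → lf (m 0 0) x * lf (m 1 1) x - lf (m 0 1) x * lf (m 1 0) x = 0 := by
      by_cases hp0 : lf p = 0
      · refine ⟨LinearMap.proj 0, ?_, fun x _ => ?_⟩
        · intro hcon
          have h := LinearMap.congr_fun hcon (Pi.single 0 1)
          rw [LinearMap.proj_apply, Pi.single_eq_same, LinearMap.zero_apply] at h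
          exact one_ne_zero h
        · rw [hdetx x, hp0, LinearMap.zero_apply, zero_mul]
      · refine ⟨lf p, hp0, fun x hx => ?_⟩
        rw [hdetx x, hx, zero_mul]
    obtain ⟨u₀, u₁, w₀, w₁, hu, hw, huw⟩ :=
      core (lf (m 0 0)) (lf (m 0 1)) (lf (m 1 0)) (lf (m 1 1)) lam hlam hlamdet
    have hpoly : C u₀ * M 0 0 * C w₀ + C u₀ * M 0 1 * C w₁ + C u₁ * M 1 0 * C w₀ +
        C u₁ * M 1 1 * C w₁ = 0 := by
      apply MvPolynomial.funext
      intro x
      rw [map_add, map_add, map_add, map_mul, map_mul, map_mul, map_mul, map_mul, map_mul,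
        map_mul, map_mul, eval_C, eval_C, eval_C, eval_C, hev, hev, hev, hev, map_zero]
      exact huw x
    obtain ⟨g, hg0, hg1⟩ := exists_GL_row u₀ u₁ hu
    obtain ⟨h, hh0, hh1⟩ := exists_GL_col w₀ w₁ hw
    refine ⟨g, h, ?_⟩
    rw [entry01, hg0, hg1, hh0, hh1]
    exact hpoly
  · rintro ⟨g, h, hgh⟩
    obtain ⟨N, hN⟩ : ∃ N : Matrix (Fin 2) (Fin 2) (MvPolynomial (Fin 3) k),
        N = (C : k →+* MvPolynomial (Fin 3) k).mapMatrix g.val * M *
          (C : k →+* MvPolynomial (Fin 3) k).mapMatrix h.val := ⟨_, rfl⟩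
    rw [← hN] at hgh
    have hNhom : ∀ a b, (N a b).IsHomogeneous 1 := by
      intro a b
      rw [hN]
      exact homog_entry g.val h.val M hM a b
    have hdg : g.val.det ≠ 0 := by
      have h1 : IsUnit g.val.det := (Matrix.isUnit_iff_isUnit_det _).mp g.isUnit
      exact h1.ne_zero
    have hdh : h.val.det ≠ 0 := by
      have h1 : IsUnit h.val.det := (Matrix.isUnit_iff_isUnit_det _).mp h.isUnit
      exact h1.ne_zero
    have hNdet : N.det = C g.val.det * M.det * C h.val.det := by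
      rw [hN, Matrix.det_mul, Matrix.det_mul, ← RingHom.map_det, ← RingHom.map_det]
    have hNdet2 : N.det = N 0 0 * N 1 1 := by
      rw [Matrix.det_fin_two, hgh, zero_mul, sub_zero]
    have hc : (C (g.val.det⁻¹ * h.val.det⁻¹) : MvPolynomial (Fin 3) k) * C g.val.det *
        C h.val.det = 1 := by
      rw [← C_mul, ← C_mul]
      have h1 : g.val.det⁻¹ * h.val.det⁻¹ * g.val.det * h.val.det = 1 := by
        field_simp
      rw [h1, C_1]
    refine ⟨C (g.val.det⁻¹ * h.val.det⁻¹) * N 0 0, N 1 1, ?_, hNhom 1 1, ?_⟩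
    · have h2 := (isHomogeneous_C (Fin 3) (g.val.det⁻¹ * h.val.det⁻¹)).mul (hNhom 0 0)
      rw [zero_add] at h2
      exact h2
    · have h3 : M.det = (C (g.val.det⁻¹ * h.val.det⁻¹) * C g.val.det * C h.val.det) * M.det := by
        rw [hc, one_mul]
      rw [h3]
      have h4 : C g.val.det * M.det * C h.val.det = N 0 0 * N 1 1 := by
        rw [← hNdet, hNdet2]
      linear_combination (C (g.val.det⁻¹ * h.val.det⁻¹)) * h4

end Groth.Agent.Helper8.LinForm2
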