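import Mathlib

namespace Groth.Agent.Helper8.LinSub

open MvPolynomial

variable {k : Type*} [Field k] {m n : Type*} [Fintype m] [Fintype n]

/-- the linear substitution `X_i ↦ Σ_j A_ij Y_j`. -/
noncomputable def φ (A : Matrix m n k) : MvPolynomial m k →ₐ[k] MvPolynomial n k :=
  aeval (fun i : m => ∑ j : n, C (A i j) * X j)

lemma φ_X (A : Matrix m n k) (i : m) : φ A (X i) = ∑ j : n, C (A i j) * X j := by
  simp [φ]

lemma φ_C (A : Matrix m n k) (a : k) : φ A (C a) = C a := by
  simp [φ]

lemma eval_φ (A : Matrix m n k) (y : n → k) (p : MvPolynomial m k) :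
    eval y (φ A p) = eval (A.mulVec y) p := by
  induction p using MvPolynomial.induction_on with
  | C a => simp [φ_C]
  | add p q hp hq => simp [hp, hq]
  | mul_X p i hp =>
    simp only [map_mul, hp, φ_X, eval_X, map_sum, eval_C]
    congr 1

lemma pderiv_φ [DecidableEq m] [DecidableEq n] (A : Matrix m n k) (j : n) (p : MvPolynomial m k) :
    pderiv j (φ A p) = ∑ i, C (A i j) * φ A (pderiv i p) := by
  induction p using MvPolynomial.induction_on with
  | C a => simp [φ_C]
  | add p q hp hq => simp [hp, hq, mul_add, Finset.sum_add_distrib]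
  | mul_X p i₀ hp =>
    have h1 : pderiv j (φ A (X i₀)) = C (A i₀ j) := by
      rw [φ_X, map_sum]
      simp only [Derivation.leibniz, pderiv_C, smul_zero, add_zero, pderiv_X, smul_eq_mul]
      rw [Finset.sum_eq_single j]
      · simp
      · intro b _ hb
        simp [Pi.single_apply, hb]
      · simp
    have h2 : ∀ i, φ A (pderiv i (p * X i₀)) =
        φ A (pderiv i p) * φ A (X i₀) + (if i = i₀ then φ A p else 0) := by
      intro i
      rw [pderiv_mul, map_add, map_mul, map_mul]
      congr 1
      by_cases h : i = i₀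
      · subst h; simp
      · rw [pderiv_X_of_ne (Ne.symm h)]; simp [h]
    rw [map_mul, pderiv_mul, hp, h1]
    simp only [h2, mul_add, Finset.sum_add_distrib, Finset.sum_mul, mul_ite, mul_zero,
      Finset.sum_ite_eq', Finset.mem_univ, if_true]
    congr 1
    · refine Finset.sum_congr rfl fun i _ => by ring
    · ring

lemma isHomogeneous_φ (A : Matrix m n k) {p : MvPolynomial m k} {d : ℕ} (hp : p.IsHomogeneous d) :
    (φ A p).IsHomogeneous d := by
  have := hp.aeval (S := k) (n := 1) (fun i : m => ∑ j : n, C (A i j) * X j) (fun i => by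
    apply IsHomogeneous.sum
    intro j _
    exact (isHomogeneous_X k j).C_mul _)
  simpa [φ] using this

lemma eval_smul_of_isHomogeneous {σ : Type*} {μ : MvPolynomial σ k} {d : ℕ}
    (h : μ.IsHomogeneous d) (t : k) (z : σ → k) : eval (t • z) μ = t ^ d * eval z μ := by
  rw [MvPolynomial.eval_eq, MvPolynomial.eval_eq, Finset.mul_sum]
  refine Finset.sum_congr rfl fun e he => ?_
  have hdeg : e.degree = d := by
    have := h (mem_support_iff.mp he)
    simpa [Finsupp.weight_apply, Finsupp.degree, Finsupp.sum] using this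
  simp only [Pi.smul_apply, smul_eq_mul, mul_pow, Finset.prod_mul_distrib]
  rw [Finset.prod_pow_eq_pow_sum]
  have : ∑ i ∈ e.support, e i = d := by
    rw [← hdeg]; rfl
  rw [this]; ring


/-- restriction of a polynomial to the line `z + t w`, as a univariate polynomial. -/
noncomputable def lineRestrict {σ : Type*} (z w : σ → k) : MvPolynomial σ k →ₐ[k] Polynomial k :=
  aeval (fun i => Polynomial.C (z i) + Polynomial.C (w i) * Polynomial.X)

lemma eval_lineRestrict {σ : Type*} (z w : σ → k) (μ : MvPolynomial σ k) (t : k) :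
    Polynomial.eval t (lineRestrict z w μ) = eval (z + t • w) μ := by
  induction μ using MvPolynomial.induction_on with
  | C a => simp [lineRestrict]
  | add p q hp hq => simp [hp, hq]
  | mul_X p i hp =>
    simp only [map_mul, Polynomial.eval_mul, hp, eval_X, Pi.add_apply, Pi.smul_apply, smul_eq_mul]
    congr 1
    simp only [lineRestrict, aeval_X, Polynomial.eval_add, Polynomial.eval_C, Polynomial.eval_mul,
      Polynomial.eval_X]
    ring

lemma const_of_no_zero_on_line [IsAlgClosed k] {σ : Type*} (z w : σ → k) (μ : MvPolynomial σ k)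
    (h : ∀ t : k, eval (z + t • w) μ ≠ 0) : ∃ c : k, c ≠ 0 ∧ ∀ t : k, eval (z + t • w) μ = c := by
  have hdeg : (lineRestrict z w μ).degree = 0 := by
    by_contra hne
    obtain ⟨t, ht⟩ := IsAlgClosed.exists_root _ hne
    rw [Polynomial.IsRoot, eval_lineRestrict] at ht
    exact h t ht
  have hC := Polynomial.eq_C_of_degree_eq_zero hdeg
  refine ⟨(lineRestrict z w μ).coeff 0, ?_, ?_⟩
  · intro h0
    apply h 0
    rw [← eval_lineRestrict, hC, h0]; simp
  · intro t
    rw [← eval_lineRestrict, hC]; simp

/-- A homogeneous form of positive degree has a nontrivial zero on any "plane" `{s y¹ + t y²}`. -/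
lemma exists_zero_on_plane [IsAlgClosed k] [CharZero k] {σ : Type*} {μ : MvPolynomial σ k} {d : ℕ}
    (hμ : μ.IsHomogeneous d) (hd : 1 ≤ d) (y₁ y₂ : σ → k) :
    ∃ s t : k, (s ≠ 0 ∨ t ≠ 0) ∧ eval (s • y₁ + t • y₂) μ = 0 := by
  by_contra hcon
  push Not at hcon
  have h1 : ∀ t : k, eval (y₁ + t • y₂) μ ≠ 0 := by
    intro t
    have := hcon 1 t (Or.inl one_ne_zero)
    simpa using this
  have h2 : ∀ s : k, eval (y₂ + s • y₁) μ ≠ 0 := by
    intro s
    have := hcon s 1 (Or.inr one_ne_zero)
    rw [add_comm] at this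
    simpa using this
  obtain ⟨c, hc, hc'⟩ := const_of_no_zero_on_line y₁ y₂ μ h1
  obtain ⟨c₂, hc₂, hc₂'⟩ := const_of_no_zero_on_line y₂ y₁ μ h2
  have key : ∀ t : k, t ≠ 0 → c = t ^ d * c₂ := by
    intro t ht
    rw [← hc' t, ← hc₂' t⁻¹, ← eval_smul_of_isHomogeneous hμ]
    congr 1
    rw [smul_add, smul_smul, mul_inv_cancel₀ ht, one_smul, add_comm]
  have e1 := key 1 one_ne_zero
  have e2 := key 2 two_ne_zero
  rw [one_pow, one_mul] at e1
  rw [e1] at e2
  have : ((2 : k) ^ d - 1) * c₂ = 0 := by linear_combination -e2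
  rcases mul_eq_zero.mp this with h | h
  · have h' : ((2 ^ d : ℕ) : k) = ((1 : ℕ) : k) := by
      push_cast
      linear_combination h
    have := Nat.cast_injective h'
    have : 2 ^ d > 1 := Nat.one_lt_two_pow (by omega)
    omega
  · exact hc₂ h

end Groth.Agent.Helper8.LinSub
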