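import Groth.Agent.Helper8.LinSub2

namespace Groth.Agent.Helper8.LinSub

open MvPolynomial

variable {k : Type*} [Field k]

/-- A binary form over an algebraically closed field is a product of linear forms
(evaluation form, on the plane `{α z + β w}`). -/
lemma binary_factor [IsAlgClosed k] {σ : Type*} {μ : MvPolynomial σ k} {d : ℕ}
    (hμ : μ.IsHomogeneous d) (z w : σ → k) :
    ∃ (c : k) (L : Multiset (k × k)), L.card = d ∧
      ∀ α β : k, eval (α • z + β • w) μ = c * (L.map fun l => l.1 * α + l.2 * β).prod := by
  classical
  obtain ⟨P, hPdef⟩ : ∃ P, P = lineRestrict z w μ := ⟨_, rfl⟩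
  have hPdeg : P.natDegree ≤ d := hPdef ▸ natDegree_lineRestrict_le z w hμ
  have hcoeffd : P.coeff d = eval w μ := by
    rw [hPdef, lineRestrict_eq_reflect hμ, Polynomial.coeff_reflect, Polynomial.revAt_le le_rfl,
      Nat.sub_self, coeff_zero_lineRestrict]
  have hsplit : P.Splits := IsAlgClosed.splits P
  have hprod := hsplit.eq_prod_roots
  have hcard := hsplit.natDegree_eq_card_roots
  refine ⟨P.leadingCoeff, P.roots.map (fun r => (-r, 1)) + Multiset.replicate (d - P.natDegree) (1, 0),
    ?_, ?_⟩
  · rw [Multiset.card_add, Multiset.card_map, Multiset.card_replicate, ← hcard]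
    omega
  · intro α β
    rw [Multiset.map_add, Multiset.prod_add, Multiset.map_map, Multiset.map_replicate,
      Multiset.prod_replicate]
    simp only [Function.comp_apply, one_mul, zero_mul, add_zero, neg_mul]
    have hevalP : ∀ t : k, Polynomial.eval t P =
        P.leadingCoeff * (P.roots.map fun r => t - r).prod := by
      intro t
      conv_lhs => rw [hprod]
      rw [Polynomial.eval_mul, Polynomial.eval_C, Polynomial.eval_multiset_prod, Multiset.map_map]
      congr 2
      refine Multiset.map_congr rfl fun r _ => ?_
      simp
    by_cases hα : α = 0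
    · subst hα
      rw [zero_smul, zero_add, eval_smul_of_isHomogeneous hμ, ← hcoeffd]
      simp only [mul_zero, neg_zero, zero_add]
      rw [Multiset.map_const', Multiset.prod_replicate, ← hcard]
      rcases Nat.lt_or_ge P.natDegree d with hlt | hge
      · rw [Polynomial.coeff_eq_zero_of_natDegree_lt hlt, zero_pow (by omega)]
        ring
      · have hd : P.natDegree = d := le_antisymm hPdeg hge
        rw [hd, Nat.sub_self, pow_zero, mul_one, Polynomial.leadingCoeff, hd]
        ring
    · have e : α • z + β • w = α • (z + (β / α) • w) := by
        rw [smul_add, smul_smul, mul_div_cancel₀ _ hα]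
      rw [e, eval_smul_of_isHomogeneous hμ, ← eval_lineRestrict, ← hPdef, hevalP]
      have h1 : (P.roots.map fun r => -(r * α) + β).prod =
          α ^ P.natDegree * (P.roots.map fun r => β / α - r).prod := by
        rw [hcard, ← Multiset.prod_replicate, ← Multiset.map_const', ← Multiset.prod_map_mul]
        congr 1
        refine Multiset.map_congr rfl fun r _ => ?_
        field_simp
        ring
      rw [h1]
      have h2 : α ^ d = α ^ P.natDegree * α ^ (d - P.natDegree) := by
        rw [← pow_add]; congr 1; omega
      rw [h2]; ring

end Groth.Agent.Helper8.LinSub
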