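import Mathlib

namespace Groth.Agent.Helper8.LocBasis

universe u

variable {A : Type u} [CommRing A] {M : Type u} [AddCommGroup M] [Module A M] {n : ℕ}

/-- elementwise injectivity of the localized combination map -/
def E1 (S : Submonoid A) (s : Fin n → M) : Prop :=
  ∀ c : Fin n → A, ∑ j, c j • s j = 0 → ∃ t ∈ S, ∀ j, t * c j = 0

/-- elementwise surjectivity of the localized combination map -/
def E2 (S : Submonoid A) (s : Fin n → M) : Prop :=
  ∀ y : M, ∃ t ∈ S, ∃ c : Fin n → A, t • y = ∑ j, c j • s j

/-- the images form a basis of the localized module -/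
def LISP (S : Submonoid A) (s : Fin n → M) : Prop :=
  LinearIndependent (Localization S) (fun j => LocalizedModule.mkLinearMap S M (s j)) ∧
    Submodule.span (Localization S)
      (Set.range fun j => LocalizedModule.mkLinearMap S M (s j)) = ⊤

lemma E1_mono {S S' : Submonoid A} (h : S ≤ S') {s : Fin n → M} (h1 : E1 S s) : E1 S' s :=
  fun c hc => let ⟨t, ht, h2⟩ := h1 c hc; ⟨t, h ht, h2⟩

lemma E2_mono {S S' : Submonoid A} (h : S ≤ S') {s : Fin n → M} (h1 : E2 S s) : E2 S' s :=
  fun y => let ⟨t, ht, h2⟩ := h1 y; ⟨t, h ht, h2⟩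

lemma common_denom (S : Submonoid A) (c : Fin n → Localization S) :
    ∃ b ∈ S, ∃ a : Fin n → A, ∀ j, algebraMap A (Localization S) b * c j =
      algebraMap A (Localization S) (a j) := by
  obtain ⟨b, hb⟩ := IsLocalization.exist_integer_multiples_of_finite S c
  choose a ha using hb
  refine ⟨b, b.2, a, fun j => ?_⟩
  rw [ha j, Algebra.smul_def]

lemma sum_mk (S : Submonoid A) (s : Fin n → M) (a : Fin n → A) :
    ∑ j, algebraMap A (Localization S) (a j) • LocalizedModule.mkLinearMap S M (s j) =
      LocalizedModule.mkLinearMap S M (∑ j, a j • s j) := by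
  rw [map_sum]
  refine Finset.sum_congr rfl fun j _ => ?_
  rw [map_smul, algebraMap_smul]

lemma LISP_of_E (S : Submonoid A) (s : Fin n → M) (h1 : E1 S s) (h2 : E2 S s) : LISP S s := by
  constructor
  · rw [Fintype.linearIndependent_iff]
    intro c hc
    obtain ⟨b, hb, a, ha⟩ := common_denom S c
    have h3 : ∑ j, algebraMap A (Localization S) (a j) • LocalizedModule.mkLinearMap S M (s j)
        = 0 := by
      have := congrArg (fun x => algebraMap A (Localization S) b • x) hc
      simp only [Finset.smul_sum, smul_zero, smul_smul, ha] at this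
      exact this
    rw [sum_mk, IsLocalizedModule.eq_zero_iff S] at h3
    obtain ⟨u, hu⟩ := h3
    have h4 : ∑ j, ((u : A) * a j) • s j = 0 := by
      rw [← hu, Submonoid.smul_def, Finset.smul_sum]
      exact Finset.sum_congr rfl fun j _ => by rw [mul_smul]
    obtain ⟨t, ht, h5⟩ := h1 _ h4
    intro j
    have h6 : algebraMap A (Localization S) (a j) = 0 := by
      rw [IsLocalization.map_eq_zero_iff S]
      exact ⟨⟨t, ht⟩ * u, by simpa [mul_assoc] using h5 j⟩
    have h7 := ha j
    rw [h6] at h7
    have hunit : IsUnit (algebraMap A (Localization S) b) := IsLocalization.map_units _ ⟨b, hb⟩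
    exact (hunit.mul_right_eq_zero).mp h7
  · rw [eq_top_iff]
    intro x _
    obtain ⟨⟨y, t⟩, hyt⟩ := IsLocalizedModule.surj S (LocalizedModule.mkLinearMap S M) x
    obtain ⟨t', ht', c, hc⟩ := h2 y
    have hunit : IsUnit (algebraMap A (Localization S) (t' * t)) :=
      IsLocalization.map_units _ (⟨t', ht'⟩ * t)
    rw [← Submodule.smul_mem_iff_of_isUnit _ hunit]
    have : algebraMap A (Localization S) (t' * t) • x =
        ∑ j, algebraMap A (Localization S) (c j) • LocalizedModule.mkLinearMap S M (s j) := by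
      rw [sum_mk, ← hc, map_smul, ← hyt, algebraMap_smul, mul_smul]
      rfl
    rw [this]
    exact Submodule.sum_mem _ fun j _ =>
      Submodule.smul_mem _ _ (Submodule.subset_span ⟨j, rfl⟩)

lemma E_of_LISP (S : Submonoid A) (s : Fin n → M) (h : LISP S s) : E1 S s ∧ E2 S s := by
  obtain ⟨hli, hsp⟩ := h
  constructor
  · intro c hc
    have h3 : ∑ j, algebraMap A (Localization S) (c j) • LocalizedModule.mkLinearMap S M (s j)
        = 0 := by
      rw [sum_mk, hc, map_zero]
    have h4 := (Fintype.linearIndependent_iff.mp hli) _ h3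
    have h5 : ∀ j, ∃ t : S, (t : A) * c j = 0 := fun j =>
      (IsLocalization.map_eq_zero_iff S (Localization S) _).mp (h4 j)
    choose t ht using h5
    refine ⟨∏ j, (t j : A), Submonoid.prod_mem _ fun j _ => (t j).2, fun j => ?_⟩
    rw [← Finset.prod_erase_mul _ _ (Finset.mem_univ j), mul_assoc, ht j, mul_zero]
  · intro y
    have hy : LocalizedModule.mkLinearMap S M y ∈ Submodule.span (Localization S)
        (Set.range fun j => LocalizedModule.mkLinearMap S M (s j)) := by rw [hsp]; trivial
    obtain ⟨c, hc⟩ := (Submodule.mem_span_range_iff_exists_fun _).mp hy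
    obtain ⟨b, hb, a, ha⟩ := common_denom S c
    have h3 : LocalizedModule.mkLinearMap S M (b • y) =
        LocalizedModule.mkLinearMap S M (∑ j, a j • s j) := by
      rw [map_smul, ← hc, ← sum_mk, ← algebraMap_smul (Localization S) b, Finset.smul_sum]
      refine Finset.sum_congr rfl fun j _ => ?_
      rw [smul_smul, ha j]
    rw [IsLocalizedModule.eq_iff_exists S] at h3
    obtain ⟨u, hu⟩ := h3
    refine ⟨u * b, S.mul_mem u.2 hb, fun j => (u : A) * a j, ?_⟩
    rw [mul_smul]
    change u • b • y = _
    rw [hu, Submonoid.smul_def, Finset.smul_sum]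
    exact Finset.sum_congr rfl fun j _ => by rw [mul_smul]

/-- spreading out from a prime to a basic open -/
lemma exists_good [Module.Finite A M] [Module.Projective A M] (q : Ideal A) [q.IsPrime]
    (s : Fin n → M) (h1 : E1 q.primeCompl s) (h2 : E2 q.primeCompl s) :
    ∃ g : A, g ∉ q ∧ E1 (Submonoid.powers g) s ∧ E2 (Submonoid.powers g) s := by
  classical
  obtain ⟨r, π, hπ⟩ := Module.Finite.exists_fin' A M
  obtain ⟨σ, hσ⟩ := Module.projective_lifting_property π LinearMap.id hπ
  have hπσ : ∀ m, π (σ m) = m := fun m => LinearMap.congr_fun hσ m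
  set φ : (Fin n → A) →ₗ[A] M := Fintype.linearCombination A s with hφ
  have hφapp : ∀ c, φ c = ∑ j, c j • s j := fun c => Fintype.linearCombination_apply A s c
  -- step 1
  have h3 : ∀ i : Fin r, ∃ t ∈ q.primeCompl, ∃ c : Fin n → A,
      t • π (Pi.single i 1) = φ c := by
    intro i
    obtain ⟨t, ht, c, hc⟩ := h2 (π (Pi.single i 1))
    exact ⟨t, ht, c, by rw [hc, hφapp]⟩
  choose t ht c hc using h3
  set g₁ : A := ∏ i, t i with hg₁
  have hg₁q : g₁ ∈ q.primeCompl := Submonoid.prod_mem _ fun i _ => ht i
  obtain ⟨d, hd⟩ : ∃ d : Fin r → (Fin n → A), ∀ i, φ (d i) = g₁ • π (Pi.single i 1) := by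
    refine ⟨fun i => (∏ i' ∈ Finset.univ.erase i, t i') • c i, fun i => ?_⟩
    rw [map_smul, ← hc i, smul_smul, hg₁, Finset.prod_erase_mul _ _ (Finset.mem_univ i)]
  let τ : (Fin r → A) →ₗ[A] (Fin n → A) := Fintype.linearCombination A d
  have hτ : ∀ v, φ (τ v) = g₁ • π v := by
    intro v
    have hv : v = ∑ i, v i • (Pi.single i (1 : A) : Fin r → A) := by
      funext k
      simp [Finset.sum_apply, Pi.single_apply]
    have hτv : τ v = ∑ i, v i • d i := Fintype.linearCombination_apply A d v
    rw [hτv, map_sum]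
    conv_rhs => rw [hv, map_sum, Finset.smul_sum]
    refine Finset.sum_congr rfl fun i _ => ?_
    rw [map_smul, map_smul, hd i, smul_comm]
  let θ : M →ₗ[A] (Fin n → A) := τ ∘ₗ σ
  have hθ : ∀ m, φ (θ m) = g₁ • m := by
    intro m
    simp only [θ, LinearMap.comp_apply]
    rw [hτ, hπσ]
  let ρ : (Fin n → A) →ₗ[A] (Fin n → A) := g₁ • LinearMap.id - θ ∘ₗ φ
  have hρ : ∀ x, φ (ρ x) = 0 := by
    intro x
    simp only [ρ, LinearMap.sub_apply, LinearMap.smul_apply, LinearMap.id_apply,
      LinearMap.comp_apply, map_sub, map_smul, hθ, sub_self]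
  -- step 2
  have h4 : ∀ j : Fin n, ∃ t' ∈ q.primeCompl, t' • ρ (Pi.single j 1) = 0 := by
    intro j
    have := hρ (Pi.single j 1)
    rw [hφapp] at this
    obtain ⟨t', ht', h5⟩ := h1 _ this
    refine ⟨t', ht', ?_⟩
    funext k
    simpa using h5 k
  choose t' ht' hρ' using h4
  set g₂ : A := ∏ j, t' j with hg₂
  have hg₂q : g₂ ∈ q.primeCompl := Submonoid.prod_mem _ fun j _ => ht' j
  have hg₂ρ : ∀ x, g₂ • ρ x = 0 := by
    intro x
    have hx : x = ∑ j, x j • (Pi.single j (1 : A) : Fin n → A) := by
      funext k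
      simp [Finset.sum_apply, Pi.single_apply]
    rw [hx, map_sum, Finset.smul_sum]
    refine Finset.sum_eq_zero fun j _ => ?_
    rw [map_smul, smul_comm, hg₂, ← Finset.prod_erase_mul _ _ (Finset.mem_univ j), mul_smul,
      hρ' j, smul_zero, smul_zero]
  refine ⟨g₂ * g₁, q.primeCompl.mul_mem hg₂q hg₁q, ?_, ?_⟩
  · intro x hx
    refine ⟨g₂ * g₁, Submonoid.mem_powers _, fun j => ?_⟩
    have h5 : ρ x = g₁ • x := by
      simp only [ρ, LinearMap.sub_apply, LinearMap.smul_apply, LinearMap.id_apply,
        LinearMap.comp_apply]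
      rw [hφapp, hx, map_zero, sub_zero]
    have h6 := congrFun (hg₂ρ x) j
    rw [h5] at h6
    simpa [mul_assoc] using h6
  · intro y
    refine ⟨g₂ * g₁, Submonoid.mem_powers _, g₂ • θ y, ?_⟩
    rw [← hφapp, map_smul, hθ, mul_smul]

/-- Nakayama: perturbing a local basis by a unit multiple plus something in `p M`. -/
lemma LISP_of_perturb [Module.Finite A M] (p : Ideal A) [p.IsPrime] (m s : Fin n → M)
    (hm : LISP p.primeCompl m) (u : A) (hu : u ∉ p)
    (hs : ∀ j, ∃ z ∈ (p • ⊤ : Submodule A M), s j = u • m j + z) : LISP p.primeCompl s := by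
  obtain ⟨hli, hsp⟩ := hm
  set f := LocalizedModule.mkLinearMap p.primeCompl M with hf
  have hunit : IsUnit (algebraMap A (Localization.AtPrime p) u) :=
    IsLocalization.map_units (M := p.primeCompl) _ ⟨u, hu⟩
  -- images of `p M` land in `𝔪 Mₚ`
  have hz : ∀ z ∈ (p • ⊤ : Submodule A M), f z ∈
      (IsLocalRing.maximalIdeal (Localization.AtPrime p) • ⊤ :
        Submodule (Localization.AtPrime p) (LocalizedModule p.primeCompl M)) := by
    intro z hz
    refine Submodule.smul_induction_on hz (fun a ha x _ => ?_) (fun x y hx hy => ?_)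
    · rw [map_smul, ← algebraMap_smul (Localization.AtPrime p) a]
      refine Submodule.smul_mem_smul ?_ trivial
      rw [IsLocalization.AtPrime.to_map_mem_maximal_iff (Localization.AtPrime p) p]
      exact ha
    · rw [map_add]; exact add_mem hx hy
  choose z hzp hsz using hs
  have hw : ∀ j, f (s j) = algebraMap A (Localization.AtPrime p) u • f (m j) + f (z j) := by
    intro j
    rw [hsz j, map_add, map_smul, algebraMap_smul]
  -- spanning
  have hspan : Submodule.span (Localization.AtPrime p) (Set.range fun j => f (s j)) = ⊤ := by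
    rw [eq_top_iff]
    apply Submodule.le_of_le_smul_of_le_jacobson_bot (I := IsLocalRing.maximalIdeal _)
      Module.Finite.fg_top (IsLocalRing.maximalIdeal_le_jacobson _)
    have key : Submodule.span (Localization.AtPrime p) (Set.range fun j => f (m j)) ≤
        Submodule.span (Localization.AtPrime p) (Set.range fun j => f (s j)) ⊔
          IsLocalRing.maximalIdeal (Localization.AtPrime p) • ⊤ := by
      rw [Submodule.span_le]
      rintro _ ⟨j, rfl⟩
      rw [SetLike.mem_coe, ← Submodule.smul_mem_iff_of_isUnit _ hunit]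
      have : algebraMap A (Localization.AtPrime p) u • f (m j) = f (s j) - f (z j) := by
        rw [hw j]; abel
      rw [this]
      exact sub_mem (Submodule.mem_sup_left (Submodule.subset_span ⟨j, rfl⟩))
        (Submodule.mem_sup_right (hz _ (hzp j)))
    rwa [hsp] at key
  refine ⟨?_, hspan⟩
  -- linear independence via Orzech
  let b : Module.Basis (Fin n) (Localization.AtPrime p) (LocalizedModule p.primeCompl M) :=
    Module.Basis.mk hli (by rw [hsp])
  let ψ : (Fin n → Localization.AtPrime p) →ₗ[Localization.AtPrime p]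
      LocalizedModule p.primeCompl M := Fintype.linearCombination _ (fun j => f (s j))
  have hψ : Function.Surjective ψ := by
    rw [← LinearMap.range_eq_top, Fintype.range_linearCombination]
    exact hspan
  have hinj : Function.Injective ψ :=
    OrzechProperty.injective_of_surjective_of_injective b.equivFun.symm.toLinearMap ψ
      b.equivFun.symm.injective hψ
  rw [Fintype.linearIndependent_iff]
  intro c hc
  have : ψ c = ψ 0 := by
    rw [map_zero]
    change Fintype.linearCombination _ (fun j => f (s j)) c = 0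
    rw [Fintype.linearCombination_apply]
    exact hc
  have := hinj this
  intro j
  rw [this]
  rfl

end Groth.Agent.Helper8.LocBasis
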