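import Mathlib
import Groth.Agent.Helper8.LocBasis

namespace Groth.Agent.Helper8.LocBasisMain

open Groth.Agent.Helper8.LocBasis

universe u

variable {A : Type u} [CommRing A] {M : Type u} [AddCommGroup M] [Module A M] {n : ℕ}

lemma LISP_of_basis (g : A)
    (b : Module.Basis (Fin n) (Localization.Away g) (LocalizedModule (Submonoid.powers g) M)) :
    ∃ y : Fin n → M, LISP (Submonoid.powers g) y := by
  have h1 : ∀ j, ∃ x : M × Submonoid.powers g,
      x.2 • b j = LocalizedModule.mkLinearMap (Submonoid.powers g) M x.1 :=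
    fun j => IsLocalizedModule.surj (Submonoid.powers g)
      (LocalizedModule.mkLinearMap (Submonoid.powers g) M) (b j)
  choose x hx using h1
  have hw : ∀ j, IsUnit (algebraMap A (Localization.Away g) ((x j).2 : A)) :=
    fun j => IsLocalization.map_units _ (x j).2
  let b' := b.isUnitSMul hw
  have hb' : ∀ j, b' j = LocalizedModule.mkLinearMap (Submonoid.powers g) M (x j).1 := by
    intro j
    rw [Module.Basis.isUnitSMul_apply, algebraMap_smul, ← hx j]
    rfl
  refine ⟨fun j => (x j).1, ?_, ?_⟩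
  · have : (fun j => LocalizedModule.mkLinearMap (Submonoid.powers g) M (x j).1) = ⇑b' :=
      funext fun j => (hb' j).symm
    rw [this]
    exact b'.linearIndependent
  · have : (fun j => LocalizedModule.mkLinearMap (Submonoid.powers g) M (x j).1) = ⇑b' :=
      funext fun j => (hb' j).symm
    rw [this]
    exact b'.span_eq

theorem main (A : Type u) [CommRing A] (M : Type u) [AddCommGroup M] [Module A M]
    [Module.Finite A M] [Module.Projective A M] (n : ℕ) (P : Finset (PrimeSpectrum A))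
    (hP : ∀ p ∈ P, ∃ g : A, g ∉ p.asIdeal ∧
      Nonempty (Module.Basis (Fin n) (Localization.Away g)
        (LocalizedModule (Submonoid.powers g) M))) :
    ∃ (s : Fin n → M) (U : Set (PrimeSpectrum A)), IsOpen U ∧ (∀ p ∈ P, p ∈ U) ∧
      ∀ q ∈ U,
        LinearIndependent (Localization.AtPrime q.asIdeal)
            (fun j => LocalizedModule.mkLinearMap q.asIdeal.primeCompl M (s j)) ∧
          Submodule.span (Localization.AtPrime q.asIdeal)
            (Set.range fun j => LocalizedModule.mkLinearMap q.asIdeal.primeCompl M (s j)) = ⊤ := by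
  classical
  -- Step I
  have h1 : ∀ p ∈ P, ∃ m : Fin n → M, LISP p.asIdeal.primeCompl m := by
    intro p hp
    obtain ⟨g, hg, ⟨b⟩⟩ := hP p hp
    obtain ⟨y, hy⟩ := LISP_of_basis g b
    obtain ⟨e1, e2⟩ := E_of_LISP _ _ hy
    have hle : Submonoid.powers g ≤ p.asIdeal.primeCompl := Submonoid.powers_le.mpr hg
    exact ⟨y, LISP_of_E _ _ (E1_mono hle e1) (E2_mono hle e2)⟩
  choose! m hm using h1
  -- Step II
  set Pmax : Finset (PrimeSpectrum A) := P.filter (fun p => Maximal (· ∈ P) p) with hPmax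
  have hPmaxP : ∀ p ∈ Pmax, p ∈ P := fun p hp => (Finset.mem_filter.mp hp).1
  have h2 : ∀ p ∈ Pmax, ∃ a : A, (∀ p' ∈ Pmax.erase p, a ∈ p'.asIdeal) ∧ a ∉ p.asIdeal := by
    intro p hp
    have hnot : ¬ ((Pmax.erase p).inf PrimeSpectrum.asIdeal ≤ p.asIdeal) := by
      intro hle
      obtain ⟨p', hp', hle'⟩ := (Ideal.IsPrime.inf_le' p.isPrime).mp hle
      have hp'max : Maximal (· ∈ P) p' := (Finset.mem_filter.mp (Finset.mem_of_mem_erase hp')).2
      have hle'' : p' ≤ p := hle'
      have : p ≤ p' := hp'max.le_of_ge (hPmaxP p hp) hle''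
      exact (Finset.ne_of_mem_erase hp') (le_antisymm hle'' this)
    obtain ⟨a, ha1, ha2⟩ := SetLike.not_le_iff_exists.mp hnot
    exact ⟨a, fun p' hp' => (Submodule.mem_finsetInf.mp ha1) p' hp', ha2⟩
  choose! a ha1 ha2 using h2
  let s : Fin n → M := fun j => ∑ p ∈ Pmax, a p • m p j
  -- Step III
  have h3 : ∀ pm ∈ Pmax, LISP pm.asIdeal.primeCompl s := by
    intro pm hpm
    refine LISP_of_perturb pm.asIdeal (m pm) s (hm pm (hPmaxP pm hpm)) (a pm) (ha2 pm hpm)
      (fun j => ⟨∑ p ∈ Pmax.erase pm, a p • m p j, ?_, ?_⟩)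
    · refine Submodule.sum_mem _ fun p hp => Submodule.smul_mem_smul ?_ trivial
      exact ha1 p (Finset.mem_of_mem_erase hp) pm
        (Finset.mem_erase.mpr ⟨(Finset.ne_of_mem_erase hp).symm, hpm⟩)
    · exact (Finset.add_sum_erase Pmax (fun p => a p • m p j) hpm).symm
  -- Step IV
  refine ⟨s, {q | ∃ g : A, g ∉ q.asIdeal ∧ E1 (Submonoid.powers g) s ∧ E2 (Submonoid.powers g) s},
    ?_, ?_, ?_⟩
  · rw [isOpen_iff_forall_mem_open]
    rintro q ⟨g, hg, e1, e2⟩
    exact ⟨PrimeSpectrum.basicOpen g, fun q' hq' => ⟨g, hq', e1, e2⟩,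
      (PrimeSpectrum.basicOpen g).2, hg⟩
  · intro p hp
    obtain ⟨pm, hle, hmax⟩ := Finset.exists_le_maximal P hp
    have hpm : pm ∈ Pmax := Finset.mem_filter.mpr ⟨hmax.prop, hmax⟩
    obtain ⟨e1, e2⟩ := E_of_LISP _ _ (h3 pm hpm)
    obtain ⟨g, hg, e1', e2'⟩ := exists_good pm.asIdeal s e1 e2
    exact ⟨g, fun hgp => hg (hle hgp), e1', e2'⟩
  · rintro q ⟨g, hg, e1, e2⟩
    have hle : Submonoid.powers g ≤ q.asIdeal.primeCompl := Submonoid.powers_le.mpr hg
    exact LISP_of_E _ _ (E1_mono hle e1) (E2_mono hle e2)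

end Groth.Agent.Helper8.LocBasisMain
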