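import Mathlib

namespace Groth.Agent.Helper8.LocColim

open CategoryTheory CategoryTheory.Limits

universe v v' u u'

variable {C : Type u} [Category.{v} C] {D : Type u'} [Category.{v'} D]
  (W : MorphismProperty C) (L : C ⥤ D) [L.IsLocalization W] [W.HasLeftCalculusOfFractions]

/-- equalize finitely many pairs -/
lemma exists_equalizing {ι : Type*} (S : Finset ι) {X : ι → C} {Y₁ : C}
    (a b : ∀ i, X i ⟶ Y₁) (h : ∀ i ∈ S, L.map (a i) = L.map (b i)) :
    ∃ (Y₂ : C) (t : Y₁ ⟶ Y₂), W t ∧ ∀ i ∈ S, a i ≫ t = b i ≫ t := by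
  classical
  induction S using Finset.induction_on with
  | empty => exact ⟨Y₁, 𝟙 _, W.id_mem _, by simp⟩
  | insert i S hi ih =>
    obtain ⟨Y₂, t, ht, h2⟩ := ih (fun j hj => h j (Finset.mem_insert_of_mem hj))
    have h3 : L.map (a i ≫ t) = L.map (b i ≫ t) := by
      rw [L.map_comp, L.map_comp, h i (Finset.mem_insert_self i S)]
    obtain ⟨Y₃, t', ht', h4⟩ := (MorphismProperty.map_eq_iff_postcomp L W _ _).1 h3
    refine ⟨Y₃, t ≫ t', W.comp_mem _ _ ht ht', ?_⟩
    intro j hj
    rcases Finset.mem_insert.1 hj with rfl | hj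
    · simpa using h4
    · rw [← Category.assoc, h2 j hj, Category.assoc]

/-- common denominator -/
lemma exists_common_denominator {ι : Type*} (S : Finset ι) {X : ι → C} {Y : C}
    (φ : ∀ i, L.obj (X i) ⟶ L.obj Y) :
    ∃ (Y₁ : C) (s : Y ⟶ Y₁), W s ∧ ∀ i ∈ S, ∃ f : X i ⟶ Y₁, φ i ≫ L.map s = L.map f := by
  classical
  induction S using Finset.induction_on with
  | empty => exact ⟨Y, 𝟙 _, W.id_mem _, by simp⟩
  | insert i S hi ih =>
    obtain ⟨Y₁, s, hs, h2⟩ := ih
    obtain ⟨ψ, hψ⟩ := Localization.exists_leftFraction L W (φ i)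
    obtain ⟨θ, hθ⟩ := (inferInstance : W.HasLeftCalculusOfFractions).exists_leftFraction
      (MorphismProperty.RightFraction.mk s hs ψ.s)
    dsimp at hθ
    -- hθ : ψ.s ≫ θ.s = s ≫ θ.f
    refine ⟨θ.Y', s ≫ θ.f, ?_, ?_⟩
    · rw [← hθ]; exact W.comp_mem _ _ ψ.hs θ.hs
    · intro j hj
      rcases Finset.mem_insert.1 hj with rfl | hj
      · refine ⟨ψ.f ≫ θ.s, ?_⟩
        rw [← hθ, hψ, MorphismProperty.LeftFraction.map]
        haveI := Localization.inverts L W ψ.s ψ.hs
        simp
      · obtain ⟨f, hf⟩ := h2 j hj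
        refine ⟨f ≫ θ.f, ?_⟩
        rw [L.map_comp, ← Category.assoc, hf, L.map_comp]

include W in
/-- core: unique factorization through `L.obj c.pt` for cocones with point `L.obj Y`. -/
lemma core {J : Type} [SmallCategory J] [FinCategory J] (K : J ⥤ C) (c : Cocone K)
    (hc : IsColimit c) (Y : C) (φ : ∀ j, L.obj (K.obj j) ⟶ L.obj Y)
    (hφ : ∀ {j j' : J} (u : j ⟶ j'), L.map (K.map u) ≫ φ j' = φ j) :
    ∃! d : L.obj c.pt ⟶ L.obj Y, ∀ j, L.map (c.ι.app j) ≫ d = φ j := by
  classical
  -- existence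
  obtain ⟨Y₁, s, hs, h1⟩ := exists_common_denominator W L (Finset.univ : Finset J) φ
  choose f hf using fun j => h1 j (Finset.mem_univ j)
  haveI hsiso : IsIso (L.map s) := Localization.inverts L W s hs
  -- equalize over all arrows of J
  obtain ⟨Y₂, t, ht, h2⟩ := exists_equalizing W L
    (Finset.univ : Finset (Σ p : J × J, (p.1 ⟶ p.2)))
    (X := fun a => K.obj a.1.1) (Y₁ := Y₁)
    (fun a => K.map a.2 ≫ f a.1.2) (fun a => f a.1.1) (by
      intro a _
      rw [L.map_comp, ← hf, ← hf, ← Category.assoc, hφ])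
  haveI htiso : IsIso (L.map t) := Localization.inverts L W t ht
  let c' : Cocone K :=
    { pt := Y₂
      ι := { app := fun j => f j ≫ t
             naturality := by
               intro j j' u
               have := h2 ⟨(j, j'), u⟩ (Finset.mem_univ _)
               simp only [Category.assoc] at this
               simpa using this } }
  refine ⟨L.map (hc.desc c') ≫ inv (L.map t) ≫ inv (L.map s), ?_, ?_⟩
  · intro j
    rw [← Category.assoc, ← L.map_comp, hc.fac]
    change L.map (f j ≫ t) ≫ _ = _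
    rw [L.map_comp, ← hf]
    simp
  · -- uniqueness
    intro d hd
    have key : ∀ d₁ d₂ : L.obj c.pt ⟶ L.obj Y,
        (∀ j, L.map (c.ι.app j) ≫ d₁ = L.map (c.ι.app j) ≫ d₂) → d₁ = d₂ := by
      intro d₁ d₂ h12
      obtain ⟨Z₁, s', hs', h3⟩ := exists_common_denominator W L (Finset.univ : Finset Bool)
        (X := fun _ => c.pt) (Y := Y) (fun b => if b then d₁ else d₂)
      obtain ⟨g₁, hg₁⟩ := h3 true (Finset.mem_univ _)
      obtain ⟨g₂, hg₂⟩ := h3 false (Finset.mem_univ _)
      simp only [if_true] at hg₁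
      simp only [Bool.false_eq_true, if_false] at hg₂
      haveI : IsIso (L.map s') := Localization.inverts L W s' hs'
      obtain ⟨Z₂, t', ht', h4⟩ := exists_equalizing W L (Finset.univ : Finset J)
        (X := fun j => K.obj j) (Y₁ := Z₁)
        (fun j => c.ι.app j ≫ g₁) (fun j => c.ι.app j ≫ g₂) (by
          intro j _
          rw [L.map_comp, L.map_comp, ← hg₁, ← hg₂, ← Category.assoc, ← Category.assoc, h12 j])
      haveI : IsIso (L.map t') := Localization.inverts L W t' ht'
      have h5 : g₁ ≫ t' = g₂ ≫ t' := by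
        apply hc.hom_ext
        intro j
        have := h4 j (Finset.mem_univ j)
        simpa only [Category.assoc] using this
      have h6 : L.map g₁ = L.map g₂ := by
        rw [← cancel_mono (L.map t'), ← L.map_comp, ← L.map_comp, h5]
      rw [← cancel_mono (L.map s'), hg₁, hg₂, h6]
    apply key
    intro j
    rw [hd j]
    rw [← Category.assoc, ← L.map_comp, hc.fac]
    change _ = L.map (f j ≫ t) ≫ _
    rw [L.map_comp, ← hf]
    simp

include W in
theorem main : PreservesFiniteColimits L := by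
  refine ⟨fun J _ _ => ⟨fun {K} => ⟨fun {c} hc => ⟨?_⟩⟩⟩⟩
  haveI := Localization.essSurj L W
  apply IsColimit.ofExistsUnique
  intro s
  let Y := L.objPreimage s.pt
  let e : L.obj Y ≅ s.pt := L.objObjPreimageIso s.pt
  obtain ⟨d, hd, hd'⟩ := core W L K c hc Y (fun j => s.ι.app j ≫ e.inv) (by
    intro j j' u
    have := s.w u
    simp only [Functor.comp_map] at this
    rw [← Category.assoc, this])
  refine ⟨d ≫ e.hom, ?_, ?_⟩
  · intro j
    have := hd j
    simp only [Functor.mapCocone_pt, Functor.mapCocone_ι_app]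
    rw [← Category.assoc, this, Category.assoc, e.inv_hom_id]
    exact Category.comp_id _
  · intro d₂ hd₂
    have h1 : d₂ ≫ e.inv = d := by
      apply hd'
      intro j
      have := hd₂ j
      simp only [Functor.mapCocone_pt, Functor.mapCocone_ι_app] at this
      rw [← Category.assoc, this]
    rw [← h1, Category.assoc, e.inv_hom_id]
    exact (Category.comp_id _).symm

end Groth.Agent.Helper8.LocColim
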