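import Mathlib
import Groth.Agent.Helper8.Schl6
import Groth.Agent.Helper8.AdicFS2
set_option autoImplicit false
universe u v

namespace Groth.Agent.Helper8.LocFun
open ArtFun ArtFun.Art IsLocalRing CategoryTheory Groth.Agent.Helper6 Groth.Agent.Helper8.Schl

variable {Λ : Type u} {k : Type u} [CommRing Λ] [Field k] [Algebra Λ k]

section Compl

variable {P : Type u} [CommRing P] [Algebra Λ P] [IsNoetherianRing P] (f : P →ₐ[Λ] k)
  (hf : Function.Surjective f)

/-- the completion of a Noetherian algebra at the kernel of a surjection to `k`, as a coefficient ring -/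
noncomputable def complCRing : CRing Λ k :=
  have fg : (RingHom.ker f).FG := IsNoetherian.noetherian _
  haveI hImax : (RingHom.ker f).IsMaximal :=
    RingHom.ker_isMaximal_of_surjective (f : P →+* k) hf
  haveI hmaxC : ((RingHom.ker f).map
      (algebraMap _ (AdicCompletion (RingHom.ker f) P))).IsMaximal :=
    AdicCompletion.isMaximal_map_of_le (RingHom.ker f) (RingHom.ker f) le_rfl fg
  haveI hcomp : IsAdicComplete ((RingHom.ker f).map
      (algebraMap _ (AdicCompletion (RingHom.ker f) P)))
      (AdicCompletion (RingHom.ker f) P) :=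
    AdicCompletion.isAdicComplete_self (RingHom.ker f) fg
  haveI hloc : IsLocalRing (AdicCompletion (RingHom.ker f) P) :=
    isLocalRing_of_isAdicComplete_maximal
      ((RingHom.ker f).map (algebraMap _ (AdicCompletion (RingHom.ker f) P)))
  have hm : maximalIdeal (AdicCompletion (RingHom.ker f) P) =
      (RingHom.ker f).map (algebraMap _ (AdicCompletion (RingHom.ker f) P)) :=
    (IsLocalRing.eq_maximalIdeal hmaxC).symm
  haveI hnoeth : IsNoetherianRing (AdicCompletion (RingHom.ker f) P) :=
    Groth.Agent.S0543.result _ (RingHom.ker f)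
  { carrier := AdicCompletion (RingHom.ker f) P
    res := AdicCompletion.kerProj hf
    res_surjective := AdicCompletion.kerProj_surjective hf
    isAdicComplete := by rw [hm]; exact hcomp }

theorem complCRing_maximalIdeal :
    maximalIdeal (complCRing f hf).carrier = (RingHom.ker f).map
      (algebraMap P (AdicCompletion (RingHom.ker f) P)) := by
  have fg : (RingHom.ker f).FG := IsNoetherian.noetherian _
  haveI hImax : (RingHom.ker f).IsMaximal :=
    RingHom.ker_isMaximal_of_surjective (f : P →+* k) hf
  haveI hmaxC : ((RingHom.ker f).map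
      (algebraMap _ (AdicCompletion (RingHom.ker f) P))).IsMaximal :=
    AdicCompletion.isMaximal_map_of_le (RingHom.ker f) (RingHom.ker f) le_rfl fg
  haveI : IsLocalRing (AdicCompletion (RingHom.ker f) P) :=
    (complCRing f hf).isLocalRing
  exact (IsLocalRing.eq_maximalIdeal hmaxC).symm

/-- the canonical map to the completion -/
noncomputable def complOf : P →ₐ[Λ] (complCRing f hf).carrier :=
  (Algebra.ofId P (AdicCompletion (RingHom.ker f) P)).restrictScalars Λ

theorem complCRing_res_of (p : P) : (complCRing f hf).res (complOf f hf p) = f p :=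
  AdicCompletion.kerProj_of hf p

/-- restriction of a point of the completion -/
noncomputable def complRestrict {A : Art Λ k} (φ : HomSet (complCRing f hf).carrier (complCRing f hf).res A) :
    {g : P →ₐ[Λ] A // A.res.comp g = f} :=
  ⟨φ.1.comp (complOf f hf), by
    apply AlgHom.ext
    intro p
    change A.res (φ.1 (complOf f hf p)) = f p
    rw [homSet_res_apply, complCRing_res_of]⟩

theorem complRestrict_injective {A : Art Λ k} : Function.Injective (complRestrict f hf (A := A)) := by
  intro φ₁ φ₂ h
  have fg : (RingHom.ker f).FG := IsNoetherian.noetherian _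
  obtain ⟨N, hN⟩ := exists_maximalIdeal_pow_eq_bot A
  have hkill : ∀ φ : HomSet (complCRing f hf).carrier (complCRing f hf).res A,
      ∀ x ∈ ((RingHom.ker f).map (algebraMap P (AdicCompletion (RingHom.ker f) P))) ^ N, φ.1 x = 0 := by
    intro φ x hx
    rw [← complCRing_maximalIdeal f hf] at hx
    have h1 : Ideal.map φ.1 (maximalIdeal (complCRing f hf).carrier ^ N) ≤ maximalIdeal A ^ N := by
      rw [Ideal.map_pow]
      exact Ideal.pow_right_mono (Ideal.map_le_iff_le_comap.2 (maximalIdeal_le_comap (complCRing f hf) φ)) _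
    have h2 := h1 (Ideal.mem_map_of_mem _ hx)
    rw [hN] at h2
    exact (Submodule.mem_bot _).1 h2
  apply Subtype.ext
  apply AlgHom.coe_ringHom_injective
  refine Groth.Agent.Helper8.AdicFS.ringHom_ext_of_kill (RingHom.ker f) fg _ _ N ?_ (hkill φ₁) (hkill φ₂)
  intro r
  exact congrArg (fun t : {g : P →ₐ[Λ] A // A.res.comp g = f} => t.1 r) h

theorem complRestrict_surjective {A : Art Λ k} : Function.Surjective (complRestrict f hf (A := A)) := by
  rintro ⟨g, hg⟩
  set I := RingHom.ker f with hI
  obtain ⟨N, hN⟩ := exists_maximalIdeal_pow_eq_bot A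
  have hImap : Ideal.map g I ≤ maximalIdeal A := by
    rw [Ideal.map_le_iff_le_comap]
    intro x hx
    rw [Ideal.mem_comap, Art.mem_maximalIdeal_iff]
    have : A.res (g x) = f x := congrArg (fun t : P →ₐ[Λ] k => t x) hg
    rw [this]
    exact RingHom.mem_ker.1 hx
  have hker : ∀ x ∈ I ^ N, g x = 0 := by
    intro x hx
    have h1 : Ideal.map g (I ^ N) ≤ maximalIdeal A ^ N := by
      rw [Ideal.map_pow]
      exact Ideal.pow_right_mono hImap _
    have h2 := h1 (Ideal.mem_map_of_mem g hx)
    rw [hN] at h2
    exact (Submodule.mem_bot _).1 h2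
  let πalg : AdicCompletion I P →ₐ[Λ] A :=
    (Ideal.Quotient.liftₐ (I ^ N) g hker).comp ((AdicCompletion.evalₐ I N).restrictScalars Λ)
  have hπof : ∀ p : P, πalg (AdicCompletion.of I P p) = g p := by
    intro p
    change Ideal.Quotient.liftₐ (I ^ N) g hker (AdicCompletion.evalₐ I N (AdicCompletion.of I _ p)) = _
    rw [AdicCompletion.evalₐ_of]
    rfl
  have hπmk : ∀ c : AdicCompletion.AdicCauchySequence I P,
      πalg (AdicCompletion.mk I _ c) = g (c.val N) := by
    intro c
    change Ideal.Quotient.liftₐ (I ^ N) g hker (AdicCompletion.evalₐ I N (AdicCompletion.mk I _ c)) = _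
    rw [AdicCompletion.evalₐ_mk]
    rfl
  have hresmk : ∀ c : AdicCompletion.AdicCauchySequence I P,
      AdicCompletion.kerProj hf (AdicCompletion.mk I _ c) = f (c.val 1) := by
    intro c
    change (Ideal.quotientKerAlgEquivOfSurjective hf)
      (AdicCompletion.evalOneₐ I (AdicCompletion.mk I _ c)) = _
    rw [← AdicCompletion.factorₐ_evalₐ_one, AdicCompletion.evalₐ_mk]
    rfl
  have hres : A.res.comp πalg = (complCRing f hf).res := by
    apply AlgHom.ext
    intro x
    obtain ⟨c, rfl⟩ := AdicCompletion.mk_surjective I _ x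
    change A.res (πalg (AdicCompletion.mk I _ c)) = AdicCompletion.kerProj hf (AdicCompletion.mk I _ c)
    rw [hπmk, hresmk]
    have hgf : ∀ p, A.res (g p) = f p := fun p => congrArg (fun t : P →ₐ[Λ] k => t p) hg
    rw [hgf]
    rcases Nat.eq_zero_or_pos N with hN0 | hNpos
    · exfalso
      rw [hN0, pow_zero] at hN
      exact (Ideal.one_eq_top (R := A) ▸ hN ▸ (bot_ne_top (α := Ideal A))) rfl
    · have hc := c.2 hNpos
      rw [SModEq.sub_mem] at hc
      have : c.val 1 - c.val N ∈ I := by
        have h3 : (I ^ 1 • ⊤ : Submodule _ P) ≤ I := by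
          rw [pow_one, smul_eq_mul, Ideal.mul_top]
        exact h3 hc
      have h4 : f (c.val 1 - c.val N) = 0 := RingHom.mem_ker.1 this
      rw [map_sub, sub_eq_zero] at h4
      exact h4.symm
  refine ⟨⟨πalg, hres⟩, ?_⟩
  apply Subtype.ext
  apply AlgHom.ext
  intro p
  exact hπof p

/-- points of the completion are augmented algebra maps from the ring -/
noncomputable def complEquiv (A : Art Λ k) :
    HomSet (complCRing f hf).carrier (complCRing f hf).res A ≃ {g : P →ₐ[Λ] A // A.res.comp g = f} :=
  Equiv.ofBijective _ ⟨complRestrict_injective f hf, complRestrict_surjective f hf⟩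

theorem complEquiv_apply {A : Art Λ k} (φ : HomSet (complCRing f hf).carrier (complCRing f hf).res A) (p : P) :
    (complEquiv f hf A φ).1 p = φ.1 (complOf f hf p) := rfl

theorem complEquiv_map {A B : Art Λ k} (h : A ⟶ B)
    (φ : HomSet (complCRing f hf).carrier (complCRing f hf).res A) :
    (complEquiv f hf B (HomSet.map h φ)).1 = h.toAlgHom.comp (complEquiv f hf A φ).1 := rfl

end Compl

end Groth.Agent.Helper8.LocFun
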