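import Mathlib
import Groth.Prelude.Def_ArtFun4
import Groth.Agent.Helper8.LocFun1
set_option autoImplicit false
universe u v

namespace Groth.Agent.Helper8.LocFun
open ArtFun ArtFun.Art IsLocalRing CategoryTheory AlgebraicGeometry

variable {k : Type u} [Field k] (M : Scheme.{u}) (m : M ⟶ Spec (CommRingCat.of k))
  (x₀ : Spec (CommRingCat.of k) ⟶ M)

/-- the image of the point -/
noncomputable def pt : M := x₀ (closedPoint (CommRingCat.of k))

/-- the augmentation of the local ring given by the point -/
noncomputable def aug : M.presheaf.stalk (pt M x₀) ⟶ CommRingCat.of k := Scheme.stalkClosedPointTo x₀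

instance : IsLocalHom (aug M x₀).hom := Scheme.isLocalHom_stalkClosedPointTo x₀

theorem spec_aug : Spec.map (aug M x₀) ≫ M.fromSpecStalk (pt M x₀) = x₀ :=
  Scheme.Spec_stalkClosedPointTo_fromSpecStalk x₀

/-- the structure map of the local ring -/
noncomputable def str : CommRingCat.of k ⟶ M.presheaf.stalk (pt M x₀) :=
  Spec.preimage (M.fromSpecStalk (pt M x₀) ≫ m)

theorem spec_str : Spec.map (str M m x₀) = M.fromSpecStalk (pt M x₀) ≫ m := Spec.map_preimage _

theorem str_aug (hx₀ : x₀ ≫ m = 𝟙 _) : str M m x₀ ≫ aug M x₀ = 𝟙 _ := by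
  apply Spec.map_injective
  rw [Spec.map_comp, spec_str, ← Category.assoc, spec_aug, hx₀, Spec.map_id]

end Groth.Agent.Helper8.LocFun

namespace Groth.Agent.Helper8.LocFun
open ArtFun ArtFun.Art IsLocalRing CategoryTheory AlgebraicGeometry

variable {k : Type u} [Field k] (M : Scheme.{u}) (m : M ⟶ Spec (CommRingCat.of k))
  (x₀ : Spec (CommRingCat.of k) ⟶ M)

/-- the local ring at the point, as a type (with `m` as a phantom parameter, to carry the algebra structure) -/
def Ox (_m : M ⟶ Spec (CommRingCat.of k)) : Type u := M.presheaf.stalk (pt M x₀)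

noncomputable instance : CommRing (Ox M x₀ m) := inferInstanceAs (CommRing (M.presheaf.stalk (pt M x₀)))
instance : IsLocalRing (Ox M x₀ m) := inferInstanceAs (IsLocalRing (M.presheaf.stalk (pt M x₀)))
instance [IsLocallyNoetherian M] : IsNoetherianRing (Ox M x₀ m) :=
  inferInstanceAs (IsNoetherianRing (M.presheaf.stalk (pt M x₀)))
noncomputable instance : Algebra k (Ox M x₀ m) := (str M m x₀).hom.toAlgebra

theorem algebraMap_Ox (c : k) : algebraMap k (Ox M x₀ m) c = (str M m x₀).hom c := rfl

/-- the augmentation as an algebra map -/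
noncomputable def augAlg (hx₀ : x₀ ≫ m = 𝟙 _) : Ox M x₀ m →ₐ[k] k :=
  { (aug M x₀).hom with
    commutes' := fun c => by
      change (aug M x₀).hom ((str M m x₀).hom c) = c
      have := str_aug M m x₀ hx₀
      exact congrArg (fun t : CommRingCat.of k ⟶ CommRingCat.of k => t.hom c) this }

theorem augAlg_apply (hx₀ : x₀ ≫ m = 𝟙 _) (a : Ox M x₀ m) : augAlg M m x₀ hx₀ a = (aug M x₀).hom a := rfl

theorem augAlg_surjective (hx₀ : x₀ ≫ m = 𝟙 _) : Function.Surjective (augAlg M m x₀ hx₀) :=
  fun c => ⟨algebraMap k _ c, (augAlg M m x₀ hx₀).commutes c⟩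

end Groth.Agent.Helper8.LocFun
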