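import Mathlib
import Groth.Agent.Helper8.LocFun2
set_option autoImplicit false
universe u v

namespace Groth.Agent.Helper8.LocFun
open ArtFun ArtFun.Art IsLocalRing CategoryTheory AlgebraicGeometry

variable {k : Type u} [Field k] (M : Scheme.{u}) (m : M ⟶ Spec (CommRingCat.of k))
  (x₀ : Spec (CommRingCat.of k) ⟶ M) (hx₀ : x₀ ≫ m = 𝟙 _)

instance res_isLocalHom (A : Art k k) : IsLocalHom (CommRingCat.ofHom A.res.toRingHom).hom := by
  refine ⟨fun a ha => ?_⟩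
  by_contra hna
  have h1 : a ∈ maximalIdeal A := (mem_maximalIdeal a).2 hna
  rw [Art.mem_maximalIdeal_iff] at h1
  have h2 : A.res a = 0 := h1
  have h3 : IsUnit (A.res a) := ha
  rw [h2] at h3
  exact not_isUnit_zero h3

/-- a ring map out of the local ring, as a morphism of `CommRingCat` -/
noncomputable def ofOx {A : Type u} [CommRing A] (ψ : Ox M x₀ m →+* A) :
    M.presheaf.stalk (pt M x₀) ⟶ CommRingCat.of A := CommRingCat.ofHom ψ

theorem ofOx_apply {A : Type u} [CommRing A] (ψ : Ox M x₀ m →+* A) (a : M.presheaf.stalk (pt M x₀)) :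
    (ofOx M m x₀ ψ).hom a = ψ a := rfl

/-- the morphism `Spec A ⟶ M` of an augmented map from the local ring -/
noncomputable def toMor {A : Art k k} (ψ : Ox M x₀ m →ₐ[k] A) : Art.spec A ⟶ M :=
  Spec.map (ofOx M m x₀ ψ.toRingHom) ≫ M.fromSpecStalk (pt M x₀)

theorem toMor_comp_m {A : Art k k} (ψ : Ox M x₀ m →ₐ[k] A) :
    toMor M m x₀ ψ ≫ m = Art.specMap (Art.ofBase A) := by
  rw [toMor, Category.assoc, ← spec_str, ← Spec.map_comp]
  congr 1
  ext c
  exact ψ.commutes c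

theorem specRes_toMor {A : Art k k} (ψ : Ox M x₀ m →ₐ[k] A) (hψ : A.res.comp ψ = augAlg M m x₀ hx₀) :
    Art.specRes A ≫ toMor M m x₀ ψ = x₀ := by
  rw [toMor, ← Category.assoc, ← Spec.map_comp]
  have : ofOx M m x₀ ψ.toRingHom ≫ CommRingCat.ofHom A.res.toRingHom = aug M x₀ := by
    ext a
    exact congrArg (fun t : Ox M x₀ m →ₐ[k] k => t a) hψ
  rw [this, spec_aug]

end Groth.Agent.Helper8.LocFun

namespace Groth.Agent.Helper8.LocFun
open ArtFun ArtFun.Art IsLocalRing CategoryTheory AlgebraicGeometry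

variable {k : Type u} [Field k] (M : Scheme.{u}) (m : M ⟶ Spec (CommRingCat.of k))
  (x₀ : Spec (CommRingCat.of k) ⟶ M) (hx₀ : x₀ ≫ m = 𝟙 _)

/-- an augmented map from the local ring is local -/
theorem isLocalHom_of_aug {A : Art k k} (ψ : Ox M x₀ m →ₐ[k] A) (hψ : A.res.comp ψ = augAlg M m x₀ hx₀) :
    IsLocalHom (ofOx M m x₀ ψ.toRingHom).hom := by
  refine ⟨fun a ha => ?_⟩
  have h1 : IsUnit ((CommRingCat.ofHom A.res.toRingHom).hom ((ofOx M m x₀ ψ.toRingHom).hom a)) :=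
    ha.map _
  have h2 : (CommRingCat.ofHom A.res.toRingHom).hom ((ofOx M m x₀ ψ.toRingHom).hom a) = (aug M x₀).hom a :=
    congrArg (fun t : Ox M x₀ m →ₐ[k] k => t a) hψ
  rw [h2] at h1
  exact isUnit_of_map_unit (aug M x₀).hom a h1

theorem toMor_injective {A : Art k k} (ψ₁ ψ₂ : Ox M x₀ m →ₐ[k] A)
    (hψ₁ : A.res.comp ψ₁ = augAlg M m x₀ hx₀) (hψ₂ : A.res.comp ψ₂ = augAlg M m x₀ hx₀)
    (h : toMor M m x₀ ψ₁ = toMor M m x₀ ψ₂) : ψ₁ = ψ₂ := by
  have hl₁ := isLocalHom_of_aug M m x₀ hx₀ ψ₁ hψ₁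
  have hl₂ := isLocalHom_of_aug M m x₀ hx₀ ψ₂ hψ₂
  have h3 : (⟨pt M x₀, ⟨ofOx M m x₀ ψ₁.toRingHom, hl₁⟩⟩ :
      Σ x, { f : M.presheaf.stalk x ⟶ CommRingCat.of A // IsLocalHom f.hom }) =
      ⟨pt M x₀, ⟨ofOx M m x₀ ψ₂.toRingHom, hl₂⟩⟩ :=
    (SpecToEquivOfLocalRing M (CommRingCat.of A)).symm.injective h
  have h4 := eq_of_heq (Sigma.mk.inj h3).2
  have h5 : ofOx M m x₀ ψ₁.toRingHom = ofOx M m x₀ ψ₂.toRingHom := congrArg Subtype.val h4
  apply AlgHom.ext
  intro a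
  exact congrArg (fun t : M.presheaf.stalk (pt M x₀) ⟶ CommRingCat.of A => t.hom a) h5

theorem toMor_surjective {A : Art k k} (g : Art.spec A ⟶ M)
    (h1 : g ≫ m = Art.specMap (Art.ofBase A)) (h2 : Art.specRes A ≫ g = x₀) :
    ∃ ψ : Ox M x₀ m →ₐ[k] A, A.res.comp ψ = augAlg M m x₀ hx₀ ∧ toMor M m x₀ ψ = g := by
  obtain ⟨y, hy, ψ', hloc, hg⟩ : ∃ (y : M) (_ : y = pt M x₀) (ψ' : M.presheaf.stalk y ⟶ CommRingCat.of A),
      IsLocalHom ψ'.hom ∧ Spec.map ψ' ≫ M.fromSpecStalk y = g := by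
    refine ⟨g (closedPoint (CommRingCat.of A)), ?_, Scheme.stalkClosedPointTo g, inferInstance,
      Scheme.Spec_stalkClosedPointTo_fromSpecStalk g⟩
    have e : (Art.specRes A) (closedPoint (CommRingCat.of k)) = closedPoint (CommRingCat.of A) :=
      Spec_closedPoint (f := CommRingCat.ofHom A.res.toRingHom)
    rw [pt, ← h2]
    change g _ = g ((Art.specRes A) _)
    rw [e]
  subst hy
  -- compatibility with the structure maps
  have hstr : str M m x₀ ≫ ψ' = CommRingCat.ofHom (Art.ofBase A).toAlgHom.toRingHom := by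
    apply Spec.map_injective
    rw [Spec.map_comp, spec_str, ← Category.assoc, hg, h1]
    rfl
  have haug : ψ' ≫ CommRingCat.ofHom A.res.toRingHom = aug M x₀ := by
    haveI := hloc
    have h3 : Spec.map (ψ' ≫ CommRingCat.ofHom A.res.toRingHom) ≫ M.fromSpecStalk (pt M x₀) =
        Spec.map (aug M x₀) ≫ M.fromSpecStalk (pt M x₀) := by
      rw [Spec.map_comp, Category.assoc, hg, spec_aug]
      exact h2
    have hl : IsLocalHom (ψ' ≫ CommRingCat.ofHom A.res.toRingHom).hom := by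
      rw [CommRingCat.hom_comp]
      infer_instance
    have h4 : (⟨pt M x₀, ⟨ψ' ≫ CommRingCat.ofHom A.res.toRingHom, hl⟩⟩ :
        Σ x, { f : M.presheaf.stalk x ⟶ CommRingCat.of k // IsLocalHom f.hom }) =
        ⟨pt M x₀, ⟨aug M x₀, inferInstance⟩⟩ :=
      (SpecToEquivOfLocalRing M (CommRingCat.of k)).symm.injective h3
    exact congrArg Subtype.val (eq_of_heq (Sigma.mk.inj h4).2)
  let ψ : Ox M x₀ m →ₐ[k] A :=
    { (ψ'.hom : Ox M x₀ m →+* A) with
      commutes' := fun c => congrArg (fun t : CommRingCat.of k ⟶ CommRingCat.of A => t.hom c) hstr }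
  have hψ' : ofOx M m x₀ ψ.toRingHom = ψ' := rfl
  refine ⟨ψ, ?_, ?_⟩
  · apply AlgHom.ext
    intro a
    exact congrArg (fun t : M.presheaf.stalk (pt M x₀) ⟶ CommRingCat.of k => t.hom a) haug
  · rw [toMor, hψ', hg]

end Groth.Agent.Helper8.LocFun
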