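import Mathlib
import Groth.Agent.Helper8.LocFun3
set_option autoImplicit false
universe u v

namespace Groth.Agent.Helper8.LocFun
open ArtFun ArtFun.Art IsLocalRing CategoryTheory AlgebraicGeometry

variable {k : Type u} [Field k] (M : Scheme.{u}) (m : M ⟶ Spec (CommRingCat.of k))
  (x₀ : Spec (CommRingCat.of k) ⟶ M) (hx₀ : x₀ ≫ m = 𝟙 _)

theorem toMor_comp {A B : Art k k} (h : A ⟶ B) (ψ : Ox M x₀ m →ₐ[k] A) :
    toMor M m x₀ (h.toAlgHom.comp ψ) = Art.specMap h ≫ toMor M m x₀ ψ := by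
  rw [toMor, toMor, ← Category.assoc, ← Spec.map_comp]
  rfl

/-- the bijection between augmented maps from the local ring and pointed morphisms -/
noncomputable def morEquiv (A : Art k k) :
    {ψ : Ox M x₀ m →ₐ[k] A // A.res.comp ψ = augAlg M m x₀ hx₀} ≃
      {g : Art.spec A ⟶ M // g ≫ m = Art.specMap (Art.ofBase A) ∧ Art.specRes A ≫ g = x₀} :=
  Equiv.ofBijective
    (fun ψ => ⟨toMor M m x₀ ψ.1, toMor_comp_m M m x₀ ψ.1, specRes_toMor M m x₀ hx₀ ψ.1 ψ.2⟩)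
    ⟨fun ψ₁ ψ₂ h => Subtype.ext (toMor_injective M m x₀ hx₀ ψ₁.1 ψ₂.1 ψ₁.2 ψ₂.2 (congrArg Subtype.val h)),
      fun g => by
        obtain ⟨ψ, hψ, hg⟩ := toMor_surjective M m x₀ hx₀ g.1 g.2.1 g.2.2
        exact ⟨⟨ψ, hψ⟩, Subtype.ext hg⟩⟩

include hx₀ in
theorem s12304 [IsAlgClosed k] [IsLocallyNoetherian M] :
    ∃ (R : ArtFun.CRing k k)
      (e : ∀ A : ArtFun.Art k k, ArtFun.HomSet R.carrier R.res A ≃
        {g : ArtFun.Art.spec A ⟶ M // g ≫ m = ArtFun.Art.specMap (ArtFun.Art.ofBase A) ∧ ArtFun.Art.specRes A ≫ g = x₀}),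
      ∀ (A B : ArtFun.Art k k) (h : A ⟶ B) (φ : ArtFun.HomSet R.carrier R.res A),
        ((e B) (ArtFun.HomSet.map h φ)).1 = ArtFun.Art.specMap h ≫ ((e A) φ).1 := by
  refine ⟨complCRing (augAlg M m x₀ hx₀) (augAlg_surjective M m x₀ hx₀),
    fun A => (complEquiv (augAlg M m x₀ hx₀) (augAlg_surjective M m x₀ hx₀) A).trans (morEquiv M m x₀ hx₀ A),
    ?_⟩
  intro A B h φ
  change toMor M m x₀ (complEquiv (augAlg M m x₀ hx₀) (augAlg_surjective M m x₀ hx₀) B (HomSet.map h φ)).1 =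
    Art.specMap h ≫ toMor M m x₀ (complEquiv (augAlg M m x₀ hx₀) (augAlg_surjective M m x₀ hx₀) A φ).1
  rw [complEquiv_map, toMor_comp]

end Groth.Agent.Helper8.LocFun
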