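import Mathlib
import Groth.Prelude
import Groth.Agent.Helper2.CotTSyz

/-!
# The syzygetic property passes to directed unions of sub-presentations
-/

namespace Groth.Agent.Helper8.SyzColim

open CotT Function MvPolynomial Groth.Agent.Helper2.CotTSyz

noncomputable section

universe u v w t v₀ w₀ t₀

variable {A : Type u} [CommRing A] {C : Type v} [CommRing C] [Algebra A C]
  {ι : Type w} {σ : Type t} (P : Algebra.Presentation A C ι σ)
  {C₀ : Type v₀} [CommRing C₀] [Algebra A C₀] {ι₀ : Type w₀} {σ₀ : Type t₀}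
  (P₀ : Algebra.Presentation A C₀ ι₀ σ₀)
  (u : ι₀ → ι) (v : σ₀ → σ)

/-- the ring map between the polynomial rings. -/
def ren : P₀.toExtension.Ring →+* P.toExtension.Ring :=
  (rename u : MvPolynomial ι₀ A →ₐ[A] MvPolynomial ι A).toRingHom

lemma ren_apply (p : MvPolynomial ι₀ A) : ren P P₀ u p = rename u p := rfl

/-- pushforward of relation vectors. -/
def Ψ : relMod P₀ →+ relMod P :=
  (Finsupp.mapDomain.addMonoidHom v).comp
    (Finsupp.mapRange.addMonoidHom (ren P P₀ u).toAddMonoidHom)

lemma Ψ_apply (x : relMod P₀) :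
    Ψ P P₀ u v x = Finsupp.mapDomain v (Finsupp.mapRange (ren P P₀ u) (map_zero _) x) := rfl

lemma Ψ_single (s : σ₀) (r : P₀.toExtension.Ring) :
    Ψ P P₀ u v (Finsupp.single s r) = Finsupp.single (v s) (ren P P₀ u r) := by
  rw [Ψ_apply, Finsupp.mapRange_single, Finsupp.mapDomain_single]

lemma Ψ_smul (r : P₀.toExtension.Ring) (x : relMod P₀) :
    Ψ P P₀ u v (r • x) = ren P P₀ u r • Ψ P P₀ u v x := by
  induction x using Finsupp.induction_linear with
  | zero => rw [smul_zero, map_zero, smul_zero]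
  | add x y hx hy => rw [smul_add, map_add, hx, hy, map_add, smul_add]
  | single s a =>
    rw [Finsupp.smul_single, Ψ_single, Ψ_single, Finsupp.smul_single, smul_eq_mul, smul_eq_mul,
      map_mul]

variable (hrel : ∀ s, rename u (P₀.relation s) = P.relation (v s))

include hrel in
lemma jmap_Ψ (x : relMod P₀) : jmap P (Ψ P P₀ u v x) = ren P P₀ u (jmap P₀ x) := by
  induction x using Finsupp.induction_linear with
  | zero => rw [map_zero, map_zero, map_zero, map_zero]
  | add x y hx hy => rw [map_add, map_add, hx, hy, map_add, map_add]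
  | single s a =>
    rw [Ψ_single, jmap_single, jmap_single, map_mul]
    congr 1
    exact (hrel s).symm

include hrel in
lemma Ψ_mem_trivRel {x : relMod P₀} (hx : x ∈ trivRel P₀) : Ψ P P₀ u v x ∈ trivRel P := by
  induction hx using Submodule.span_induction with
  | mem x hx =>
    obtain ⟨a, b, rfl⟩ := hx
    rw [map_sub, Ψ_smul, Ψ_smul, ← jmap_Ψ P P₀ u v hrel, ← jmap_Ψ P P₀ u v hrel]
    exact Submodule.subset_span ⟨_, _, rfl⟩
  | zero => rw [map_zero]; exact Submodule.zero_mem _
  | add x y _ _ hx hy => rw [map_add]; exact Submodule.add_mem _ hx hy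
  | smul r x _ hx => rw [Ψ_smul]; exact Submodule.smul_mem _ _ hx

/-- **The syzygetic property for a directed union**: if every finite set of variables and
relation indices lies in a syzygetic sub-presentation, the presentation is syzygetic. -/
theorem syz_of_directed
    (H : ∀ (Fι : Finset ι) (Fσ : Finset σ),
      ∃ (C₀ : Type v₀) (_ : CommRing C₀) (_ : Algebra A C₀) (ι₀ : Type w₀) (σ₀ : Type t₀)
        (P₀ : Algebra.Presentation A C₀ ι₀ σ₀) (u : ι₀ → ι) (v : σ₀ → σ),
        Injective u ∧ Injective v ∧ (↑Fι : Set ι) ⊆ Set.range u ∧ (↑Fσ : Set σ) ⊆ Set.range v ∧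
        (∀ s, rename u (P₀.relation s) = P.relation (v s)) ∧ Syz P₀) :
    Syz P := by
  classical
  intro q hq hqI
  -- write the coefficients in terms of the relations
  have hex : ∀ s : σ, ∃ c : σ →₀ P.toExtension.Ring,
      Finsupp.linearCombination P.toExtension.Ring (rel P) c = q s := by
    intro s
    have hspanI : Ideal.span (Set.range (rel P)) = P.toExtension.ker :=
      P.span_range_relation_eq_ker
    have h1 : q s ∈ Ideal.span (Set.range (rel P)) := by
      rw [hspanI]
      exact hqI s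
    obtain ⟨c, hc⟩ := (Finsupp.mem_span_range_iff_exists_finsupp).1 h1
    exact ⟨c, hc⟩
  choose c hc using hex
  let Fσ : Finset σ := q.support ∪ q.support.biUnion (fun s => (c s).support)
  let Fι : Finset ι := q.support.biUnion (fun s => (q s : MvPolynomial ι A).vars)
  obtain ⟨C₀, _, _, ι₀, σ₀, P₀, u, v, hu, hv, hFι, hFσ, hrel, hsyz⟩ := H Fι Fσ
  -- the retraction
  let ρ : P.toExtension.Ring →+* P₀.toExtension.Ring :=
    (killCompl hu : MvPolynomial ι A →ₐ[A] MvPolynomial ι₀ A).toRingHom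
  have hρ : ∀ p : P₀.toExtension.Ring, ρ (ren P P₀ u p) = p :=
    fun p => killCompl_rename_app hu p
  have hρ' : ∀ p : P.toExtension.Ring,
      (↑(p : MvPolynomial ι A).vars : Set ι) ⊆ Set.range u → ren P P₀ u (ρ p) = p := by
    intro p hp
    obtain ⟨p₀, hp₀⟩ := exists_rename_eq_of_vars_subset_range (p : MvPolynomial ι A) u hu hp
    have h1 : p = ren P P₀ u p₀ := hp₀.symm
    rw [h1, hρ]
  have hρrel : ∀ t ∈ Fσ, ρ (rel P t) ∈ P₀.toExtension.ker := by
    intro t ht
    obtain ⟨t₀, rfl⟩ := hFσ (Finset.mem_coe.2 ht)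
    have h1 : rel P (v t₀) = ren P P₀ u (rel P₀ t₀) := (hrel t₀).symm
    rw [h1, hρ]
    exact P₀.relation_mem_ker t₀
  -- the lifted relation vector
  let q₀ : relMod P₀ := Finsupp.mapRange ρ (map_zero _) (Finsupp.comapDomain v q hv.injOn)
  have hq₀ : ∀ s₀, q₀ s₀ = ρ (q (v s₀)) := fun s₀ => rfl
  have hq₀ren : ∀ s₀, ren P P₀ u (q₀ s₀) = q (v s₀) := by
    intro s₀
    by_cases h0 : q (v s₀) = 0
    · have h1 : q₀ s₀ = 0 := by
        rw [hq₀]
        exact (congrArg ρ h0).trans (map_zero ρ)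
      rw [h1, h0]
      exact map_zero _
    · rw [hq₀]
      apply hρ'
      refine subset_trans ?_ hFι
      intro i hi
      rw [Finset.mem_coe] at hi ⊢
      exact Finset.mem_biUnion.2 ⟨v s₀, Finsupp.mem_support_iff.2 h0, hi⟩
  have hΨ : Ψ P P₀ u v q₀ = q := by
    rw [Ψ_apply]
    have h1 : Finsupp.mapRange (ren P P₀ u) (map_zero _) q₀ =
        Finsupp.comapDomain v q hv.injOn := by
      ext s₀
      rw [Finsupp.mapRange_apply, hq₀ren, Finsupp.comapDomain_apply]
    rw [h1]
    refine Finsupp.mapDomain_comapDomain v hv q ?_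
    refine subset_trans ?_ hFσ
    intro s hs
    exact Finset.mem_coe.2 (Finset.mem_union_left _ (Finset.mem_coe.1 hs))
  have hq₀ker : q₀ ∈ relKer P₀ := by
    change jmap P₀ q₀ = 0
    have h1 : ren P P₀ u (jmap P₀ q₀) = 0 := by
      rw [← jmap_Ψ P P₀ u v hrel, hΨ]
      exact hq
    have hinj : Injective (ren P P₀ u) := rename_injective u hu
    exact hinj (h1.trans (map_zero _).symm)
  have hq₀I : ∀ s₀, q₀ s₀ ∈ P₀.toExtension.ker := by
    intro s₀
    rw [hq₀]
    by_cases h0 : q (v s₀) = 0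
    · have h1 : ρ (q (v s₀)) = 0 := (congrArg ρ h0).trans (map_zero ρ)
      rw [h1]; exact Ideal.zero_mem _
    · rw [← hc (v s₀), Finsupp.linearCombination_apply, Finsupp.sum, map_sum]
      refine Ideal.sum_mem _ fun t ht => ?_
      rw [smul_eq_mul, map_mul]
      refine Ideal.mul_mem_left _ _ (hρrel t ?_)
      exact Finset.mem_union_right _
        (Finset.mem_biUnion.2 ⟨v s₀, Finsupp.mem_support_iff.2 h0, ht⟩)
  have := Ψ_mem_trivRel P P₀ u v hrel (hsyz q₀ hq₀ker hq₀I)
  rwa [hΨ] at this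

end

end Groth.Agent.Helper8.SyzColim
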