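import Mathlib
import Groth.Prelude
import Groth.Agent.Helper2.CotTSmooth
import Groth.Agent.Helper8.SyzColim

/-!
# A presentation of a localization of a finitely presented algebra, as a directed union of
finite presentations of principal localizations
-/

namespace Groth.Agent.Helper8.LocPres

open CotT Function MvPolynomial Groth.Agent.Helper2.CotTSyz

noncomputable section

universe u

section General

variable {k : Type u} [CommRing k] {B : Type u} [CommRing B] [Algebra k B] {n r : ℕ}
  (P₁ : Algebra.Presentation k B (Fin n) (Fin r)) {W : Type u} (g : W → MvPolynomial (Fin n) k)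

/-- the relations: the old ones and `y_w * g_w - 1`. -/
def relW : Fin r ⊕ W → MvPolynomial (Fin n ⊕ W) k :=
  Sum.elim (fun j => rename Sum.inl (P₁.relation j))
    (fun w => X (Sum.inr w) * rename Sum.inl (g w) - 1)

/-- the quotient ring. -/
abbrev CW : Type u := MvPolynomial (Fin n ⊕ W) k ⧸ Ideal.span (Set.range (relW P₁ g))

/-- the map from the polynomial ring of `B`. -/
def ψ : MvPolynomial (Fin n) k →ₐ[k] CW P₁ g :=
  (Ideal.Quotient.mkₐ k _).comp (rename Sum.inl)

lemma ψ_apply (p : MvPolynomial (Fin n) k) :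
    ψ P₁ g p = Ideal.Quotient.mk _ (rename Sum.inl p) := rfl

lemma ψ_relation (j : Fin r) : ψ P₁ g (P₁.relation j) = 0 := by
  rw [ψ_apply, Ideal.Quotient.eq_zero_iff_mem]
  exact Ideal.subset_span ⟨Sum.inl j, rfl⟩

/-- the evaluation map as a ring hom -/
def ev : MvPolynomial (Fin n) k →+* B :=
  (aeval P₁.val : MvPolynomial (Fin n) k →ₐ[k] B).toRingHom

lemma ev_apply (p : MvPolynomial (Fin n) k) : ev P₁ p = aeval P₁.val p := rfl

lemma ev_surjective : Surjective (ev P₁) := P₁.aeval_val_surjective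

lemma ker_ev_le : RingHom.ker (ev P₁) ≤ RingHom.ker (ψ P₁ g).toRingHom := by
  have h : RingHom.ker (ev P₁) = Ideal.span (Set.range P₁.relation) := by
    rw [P₁.span_range_relation_eq_ker, P₁.ker_eq_ker_aeval_val]
    rfl
  rw [h, Ideal.span_le]
  rintro _ ⟨j, rfl⟩
  exact ψ_relation P₁ g j

/-- the ring map `B → C_W`. -/
def φ : B →+* CW P₁ g :=
  RingHom.liftOfSurjective (ev P₁) (ev_surjective P₁) ⟨(ψ P₁ g).toRingHom, ker_ev_le P₁ g⟩

lemma φ_aeval (p : MvPolynomial (Fin n) k) : φ P₁ g (aeval P₁.val p) = ψ P₁ g p :=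
  RingHom.liftOfSurjective_comp_apply (ev P₁) (ev_surjective P₁)
    ⟨(ψ P₁ g).toRingHom, ker_ev_le P₁ g⟩ p

/-- the `B`-algebra structure -/
@[instance_reducible]
def algB : Algebra B (CW P₁ g) := (φ P₁ g).toAlgebra

attribute [local instance] algB

lemma algebraMap_eq_φ (b : B) : algebraMap B (CW P₁ g) b = φ P₁ g b := rfl

instance towerB : IsScalarTower k B (CW P₁ g) :=
  IsScalarTower.of_algebraMap_eq fun a => by
    rw [algebraMap_eq_φ, ← aeval_C (f := P₁.val) a, φ_aeval]
    exact ((ψ P₁ g).commutes a).symm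

/-- the images of the inverted polynomials. -/
def gbar (w : W) : B := aeval P₁.val (g w)

/-- the inverted submonoid. -/
def S : Submonoid B := Submonoid.closure (Set.range (gbar P₁ g))

lemma algebraMap_gbar_mul (w : W) :
    algebraMap B (CW P₁ g) (gbar P₁ g w) *
      Ideal.Quotient.mk (Ideal.span (Set.range (relW P₁ g))) (X (Sum.inr w)) = 1 := by
  rw [algebraMap_eq_φ, gbar, φ_aeval, ψ_apply, ← map_mul, ← sub_eq_zero,
    ← map_one (Ideal.Quotient.mk (Ideal.span (Set.range (relW P₁ g)))), ← map_sub,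
    Ideal.Quotient.eq_zero_iff_mem]
  have : rename Sum.inl (g w) * X (Sum.inr w) - 1 = relW P₁ g (Sum.inr w) := by
    rw [relW, Sum.elim_inr, mul_comm]
  rw [this]
  exact Ideal.subset_span ⟨_, rfl⟩

lemma isUnit_algebraMap_of_mem {s : B} (hs : s ∈ S P₁ g) :
    IsUnit (algebraMap B (CW P₁ g) s) := by
  induction hs using Submonoid.closure_induction with
  | mem x hx =>
    obtain ⟨w, rfl⟩ := hx
    exact IsUnit.of_mul_eq_one _ (algebraMap_gbar_mul P₁ g w)
  | one => rw [map_one]; exact isUnit_one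
  | mul x y _ _ hx hy => rw [map_mul]; exact hx.mul hy

/-- the localization. -/
abbrev L : Type u := Localization (S P₁ g)

/-- the map from the localization. -/
def α : L P₁ g →+* CW P₁ g :=
  IsLocalization.lift (M := S P₁ g) (g := algebraMap B (CW P₁ g))
    (fun y => isUnit_algebraMap_of_mem P₁ g y.2)

lemma α_algebraMap (b : B) : α P₁ g (algebraMap B (L P₁ g) b) = algebraMap B (CW P₁ g) b :=
  IsLocalization.lift_eq _ b

/-- the values of the variables in the localization. -/
def yv : Fin n ⊕ W → L P₁ g :=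
  Sum.elim (fun i => algebraMap B (L P₁ g) (P₁.val i))
    (fun w => IsLocalization.mk' (L P₁ g) (1 : B)
      (⟨gbar P₁ g w, Submonoid.subset_closure ⟨w, rfl⟩⟩ : S P₁ g))

/-- the map to the localization, on the polynomial ring. -/
def β₀ : MvPolynomial (Fin n ⊕ W) k →ₐ[k] L P₁ g := aeval (yv P₁ g)

lemma β₀_rename (p : MvPolynomial (Fin n) k) :
    β₀ P₁ g (rename Sum.inl p) = algebraMap B (L P₁ g) (aeval P₁.val p) := by
  rw [β₀, aeval_rename]
  have : yv P₁ g ∘ Sum.inl = algebraMap B (L P₁ g) ∘ P₁.val := rfl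
  rw [this, aeval_algebraMap_apply]

lemma β₀_X_inr (w : W) : β₀ P₁ g (X (Sum.inr w)) = IsLocalization.mk' (L P₁ g) (1 : B)
      (⟨gbar P₁ g w, Submonoid.subset_closure ⟨w, rfl⟩⟩ : S P₁ g) := by
  rw [β₀, aeval_X]
  rfl

lemma β₀_relW (s : Fin r ⊕ W) : β₀ P₁ g (relW P₁ g s) = 0 := by
  rcases s with j | w
  · rw [relW, Sum.elim_inl, β₀_rename, P₁.aeval_val_relation, map_zero]
  · rw [relW, Sum.elim_inr, map_sub, map_mul, map_one, β₀_rename, sub_eq_zero, β₀_X_inr]
    exact (IsLocalization.mk'_spec (L P₁ g) (1 : B)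
      (⟨gbar P₁ g w, Submonoid.subset_closure ⟨w, rfl⟩⟩ : S P₁ g)).trans (map_one _)

/-- the map to the localization. -/
def β : CW P₁ g →+* L P₁ g :=
  Ideal.Quotient.lift _ (β₀ P₁ g).toRingHom (by
    intro a ha
    have hle : Ideal.span (Set.range (relW P₁ g)) ≤ RingHom.ker (β₀ P₁ g).toRingHom := by
      rw [Ideal.span_le]
      rintro _ ⟨s, rfl⟩
      exact β₀_relW P₁ g s
    exact hle ha)

lemma β_mk (p : MvPolynomial (Fin n ⊕ W) k) :
    β P₁ g (Ideal.Quotient.mk _ p) = β₀ P₁ g p := rfl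

lemma α_β (x : CW P₁ g) : α P₁ g (β P₁ g x) = x := by
  have h : (α P₁ g).comp (β P₁ g) = RingHom.id _ := by
    refine Ideal.Quotient.ringHom_ext ?_
    refine MvPolynomial.ringHom_ext ?_ ?_
    · intro a
      change α P₁ g (β P₁ g (Ideal.Quotient.mk _ (C a))) = Ideal.Quotient.mk _ (C a)
      rw [β_mk, β₀, aeval_C, IsScalarTower.algebraMap_apply k B (L P₁ g), α_algebraMap,
        ← IsScalarTower.algebraMap_apply]
      rfl
    · intro i
      change α P₁ g (β P₁ g (Ideal.Quotient.mk _ (X i))) = Ideal.Quotient.mk _ (X i)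
      rcases i with i | w
      · rw [β_mk, β₀, aeval_X]
        change α P₁ g (algebraMap B (L P₁ g) (P₁.val i)) = _
        rw [α_algebraMap, algebraMap_eq_φ]
        have : P₁.val i = aeval (R := k) P₁.val (X i) := (aeval_X (R := k) P₁.val i).symm
        rw [this, φ_aeval, ψ_apply, rename_X]
      · rw [β_mk, β₀_X_inr, α, IsLocalization.lift_mk'_spec, map_one]
        exact (algebraMap_gbar_mul P₁ g w).symm
  exact RingHom.congr_fun h x

lemma β_φ (b : B) : β P₁ g (φ P₁ g b) = algebraMap B (L P₁ g) b := by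
  obtain ⟨p, rfl⟩ := P₁.aeval_val_surjective b
  rw [φ_aeval, ψ_apply, β_mk, β₀_rename]

lemma β_α (x : L P₁ g) : β P₁ g (α P₁ g x) = x := by
  have h : (β P₁ g).comp (α P₁ g) = RingHom.id _ := by
    refine IsLocalization.ringHom_ext (S P₁ g) ?_
    ext b
    change β P₁ g (α P₁ g (algebraMap B (L P₁ g) b)) = algebraMap B (L P₁ g) b
    rw [α_algebraMap, algebraMap_eq_φ, β_φ]
  exact RingHom.congr_fun h x

/-- the identification of the localization with the quotient. -/
def eL : L P₁ g ≃ₐ[B] CW P₁ g :=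
  AlgEquiv.ofRingEquiv
    (f := RingEquiv.ofRingHom (α P₁ g) (β P₁ g) (RingHom.ext (α_β P₁ g)) (RingHom.ext (β_α P₁ g)))
    (fun b => α_algebraMap P₁ g b)

instance isLoc : IsLocalization (S P₁ g) (CW P₁ g) :=
  IsLocalization.isLocalization_of_algEquiv (S P₁ g) (eL P₁ g)

/-- the local rings of the quotient are local rings of `B`. -/
lemma isRegularLocalRing_atPrime (f : B)
    (hf : ∀ (p : Ideal B) [p.IsPrime], f ∉ p → IsRegularLocalRing (Localization.AtPrime p))
    (hfS : f ∈ S P₁ g) (Q : Ideal (CW P₁ g)) [hQ : Q.IsPrime] :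
    IsRegularLocalRing (Localization.AtPrime Q) := by
  let p : Ideal B := Q.comap (algebraMap B (CW P₁ g))
  haveI : p.IsPrime := Ideal.comap_isPrime _ _
  have hfp : f ∉ p := by
    intro h
    have h1 : algebraMap B (CW P₁ g) f ∈ Q := h
    exact hQ.ne_top (Ideal.eq_top_of_isUnit_mem _ h1 (isUnit_algebraMap_of_mem P₁ g hfS))
  haveI : IsLocalization.AtPrime (Localization.AtPrime Q) p :=
    IsLocalization.isLocalization_isLocalization_atPrime_isLocalization (S P₁ g) _ Q
  haveI := hf p hfp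
  exact IsRegularLocalRing.of_ringEquiv
    (IsLocalization.algEquiv p.primeCompl (Localization.AtPrime p)
      (Localization.AtPrime Q)).toRingEquiv

section AtPrime

variable (m : Ideal B) [m.IsPrime]

/-- the polynomials not vanishing at `m`. -/
def T : Type u := {h : MvPolynomial (Fin n) k // aeval P₁.val h ∉ m}

/-- the inverted polynomials. -/
def gT : T P₁ m → MvPolynomial (Fin n) k := Subtype.val

lemma S_gT : S P₁ (gT P₁ m) = m.primeCompl := by
  apply le_antisymm
  · rw [S, Submonoid.closure_le]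
    rintro _ ⟨w, rfl⟩
    exact w.2
  · intro t ht
    obtain ⟨p, rfl⟩ := P₁.aeval_val_surjective t
    exact Submonoid.subset_closure ⟨⟨p, ht⟩, rfl⟩

instance isLocAtPrime : IsLocalization.AtPrime (CW P₁ (gT P₁ m)) m := by
  have h := isLoc P₁ (gT P₁ m)
  rw [S_gT] at h
  exact h

/-- the identification with the local ring. -/
def eM : CW P₁ (gT P₁ m) ≃ₐ[k] Localization.AtPrime m :=
  (IsLocalization.algEquiv m.primeCompl (CW P₁ (gT P₁ m))
    (Localization.AtPrime m)).restrictScalars k

/-- the presentation of the local ring. -/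
def PM : Algebra.Presentation k (Localization.AtPrime m) (Fin n ⊕ T P₁ m) (Fin r ⊕ T P₁ m) :=
  (Algebra.Presentation.naive (v := relW P₁ (gT P₁ m))).ofAlgEquiv (eM P₁ m)

end AtPrime

end General

end

end Groth.Agent.Helper8.LocPres
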