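import Mathlib
import Groth.Prelude
import Groth.Agent.Helper2.CotTSmooth
import Groth.Agent.Helper8.SyzColim
import Groth.Agent.Helper8.LocPres

/-!
# Vanishing of `T²` for regular local rings of finite type algebras over an algebraically closed
field (S12297)
-/

namespace Groth.Agent.Helper8.LocPres

open CotT Function MvPolynomial TensorProduct Algebra IsLocalRing
open Groth.Agent.Helper2.CotTSyz Groth.Agent.Helper2.CotTIndep01 Groth.Agent.Helper2
open Groth.Agent.Helper2.CotTSmooth

noncomputable section

universe u t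

/-- `syz_of_regular` for a finite (not necessarily `Fin n`) set of variables. -/
theorem syz_of_regular' {k C : Type u} [Field k] [CommRing C] [Algebra k C] {ι : Type u}
    [Finite ι] {σ : Type t} (P : Algebra.Presentation k C ι σ)
    (hreg : ∀ (p : Ideal C) [p.IsPrime], IsRegularLocalRing (Localization.AtPrime p)) : Syz P := by
  haveI : IsRegularRing k := inferInstance
  haveI : IsRegularRing P.toExtension.Ring :=
    inferInstanceAs (IsRegularRing (MvPolynomial ι k))
  have hsurj : Surjective (algebraMap P.toExtension.Ring C) := P.toExtension.algebraMap_surjective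
  refine syz_of_local P fun 𝔮 _ hI => ?_
  let 𝔭 : Ideal C := 𝔮.map (algebraMap P.toExtension.Ring C)
  haveI : 𝔭.IsPrime := Ideal.map_isPrime_of_surjective hsurj hI
  have h : 𝔮 = 𝔭.comap (algebraMap P.toExtension.Ring C) := by
    rw [Ideal.comap_map_of_surjective' _ hsurj]
    exact (sup_eq_left.2 hI).symm
  obtain ⟨e⟩ := exists_ringEquiv' hsurj 𝔮 𝔭 h
  let S := Localization.AtPrime 𝔮
  haveI : IsRegularLocalRing S := inferInstance
  let nn : Ideal S := P.toExtension.ker.map (algebraMap P.toExtension.Ring S)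
  have hnn : nn ≠ ⊤ := by
    intro htop
    have hle : nn ≤ maximalIdeal S := by
      rw [Ideal.map_le_iff_le_comap]
      exact hI.trans (IsLocalization.AtPrime.comap_maximalIdeal S 𝔮).ge
    exact (maximalIdeal.isMaximal S).ne_top (top_le_iff.1 (htop ▸ hle))
  have hregq : IsRegularLocalRing (S ⧸ nn) :=
    haveI := hreg 𝔭
    IsRegularLocalRing.of_ringEquiv e.symm
  obtain ⟨c, x, hli, hx⟩ := RegSeq3.exists_indep_generators nn hnn hregq
  obtain ⟨hR, -⟩ := RegSeq3.isRegular_ofFn c x hli
  refine ⟨c, fun i => (x i : S), ?_, hx.symm⟩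
  intro i a ha
  exact CotTReg.regular_cond_of_isWeaklyRegular (fun i => (x i : S)) hR.toIsWeaklyRegular i a ha

section Main

variable {k : Type u} [Field k] {B : Type u} [CommRing B] [Algebra k B] {n r : ℕ}
  (P₁ : Algebra.Presentation k B (Fin n) (Fin r)) (m : Ideal B) [m.IsPrime]

/-- the presentation of the local ring is syzygetic if the ring is regular near `m`. -/
theorem syz_PM (f : B) (hfm : f ∉ m)
    (hf : ∀ (p : Ideal B) [p.IsPrime], f ∉ p → IsRegularLocalRing (Localization.AtPrime p)) :
    Syz (PM P₁ m) := by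
  classical
  obtain ⟨p₀, hp₀⟩ := P₁.aeval_val_surjective f
  let w₀ : T P₁ m := ⟨p₀, by rw [hp₀]; exact hfm⟩
  refine SyzColim.syz_of_directed.{u, u, u, u, u, u, u} (PM P₁ m) (fun Fι Fσ => ?_)
  let F : Finset (T P₁ m) := insert w₀ (Fι.toRight ∪ Fσ.toRight)
  let gF : (↥F : Type u) → MvPolynomial (Fin n) k := fun w => (w.1).1
  have hfS : f ∈ S P₁ gF :=
    Submonoid.subset_closure ⟨⟨w₀, Finset.mem_insert_self _ _⟩, hp₀⟩
  refine ⟨CW P₁ gF, inferInstance, inferInstance, Fin n ⊕ (↥F : Type u), Fin r ⊕ (↥F : Type u),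
    Algebra.Presentation.naive (v := relW P₁ gF), Sum.map id Subtype.val, Sum.map id Subtype.val,
    ?_, ?_, ?_, ?_, ?_, ?_⟩
  · exact Function.Injective.sumMap injective_id Subtype.val_injective
  · exact Function.Injective.sumMap injective_id Subtype.val_injective
  · rintro (i | w) hi
    · exact ⟨Sum.inl i, rfl⟩
    · have hw : w ∈ F :=
        Finset.mem_insert_of_mem (Finset.mem_union_left _ (Finset.mem_toRight.2 hi))
      exact ⟨Sum.inr ⟨w, hw⟩, rfl⟩
  · rintro (j | w) hj
    · exact ⟨Sum.inl j, rfl⟩
    · have hw : w ∈ F :=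
        Finset.mem_insert_of_mem (Finset.mem_union_right _ (Finset.mem_toRight.2 hj))
      exact ⟨Sum.inr ⟨w, hw⟩, rfl⟩
  · rintro (j | w)
    · change rename _ (relW P₁ gF (Sum.inl j)) = relW P₁ (gT P₁ m) (Sum.inl j)
      rw [relW, relW, Sum.elim_inl, Sum.elim_inl, rename_rename]
      rfl
    · change rename _ (relW P₁ gF (Sum.inr w)) = relW P₁ (gT P₁ m) (Sum.inr w.1)
      rw [relW, relW, Sum.elim_inr, Sum.elim_inr, map_sub, map_mul, map_one, rename_X,
        rename_rename]
      rfl
  · exact syz_of_regular' _ (fun Q _ => isRegularLocalRing_atPrime P₁ gF f hf hfS Q)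

end Main

section Final

variable (k B : Type u) [Field k] [IsAlgClosed k] [CommRing B] [Algebra k B]
  [Algebra.FiniteType k B] (m : Ideal B) [m.IsMaximal]

lemma isSmoothAt_iff (p : Ideal B) [p.IsPrime] :
    Algebra.IsSmoothAt k p ↔ IsRegularLocalRing (Localization.AtPrime p) := by
  haveI : Algebra.IsGeometricallyReduced k p.ResidueField :=
    isGeometricallyReduced_of_isAlgClosed k _
  exact RegSmooth.isSmoothAt_iff_isRegularLocalRing k B p

theorem main1 :
    IsRegularLocalRing (Localization.AtPrime m) ↔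
      ∀ (M : Type u) [AddCommGroup M] [Module (Localization.AtPrime m) M],
        Subsingleton (CotT.T1 (CotT.canon k (Localization.AtPrime m)) M) :=
  (isSmoothAt_iff k B m).symm.trans (formallySmooth_iff_T1 (CotT.canon k (Localization.AtPrime m)))

theorem main2 (hreg : IsRegularLocalRing (Localization.AtPrime m))
    (M : Type u) [AddCommGroup M] [Module (Localization.AtPrime m) M] :
    Subsingleton (CotT.T2 (CotT.canon k (Localization.AtPrime m)) M) := by
  haveI : Algebra.FinitePresentation k B := Algebra.FinitePresentation.of_finiteType.1 inferInstance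
  obtain ⟨n, r, ⟨P₁⟩⟩ := Algebra.Presentation.exists_presentation_fin k B
  have hsm : Algebra.IsSmoothAt k m := (isSmoothAt_iff k B m).2 hreg
  have hmem : (⟨m, inferInstance⟩ : PrimeSpectrum B) ∈ Algebra.smoothLocus k B := hsm
  obtain ⟨_, ⟨_, ⟨f, rfl⟩, rfl⟩, hxf, hf⟩ :=
    PrimeSpectrum.isBasis_basic_opens.exists_subset_of_mem_open hmem Algebra.isOpen_smoothLocus
  have hfm : f ∉ m := hxf
  have hf' : ∀ (p : Ideal B) [p.IsPrime], f ∉ p →
      IsRegularLocalRing (Localization.AtPrime p) := by
    intro p _ hp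
    have h1 : (⟨p, inferInstance⟩ : PrimeSpectrum B) ∈ Algebra.smoothLocus k B := hf hp
    exact (isSmoothAt_iff k B p).1 h1
  have hsyz := syz_PM P₁ m f hfm hf'
  haveI : Algebra.FormallySmooth k (Localization.AtPrime m) := hsm
  haveI : Algebra.FormallySmooth k (PM P₁ m).toExtension.Ring :=
    inferInstanceAs (Algebra.FormallySmooth k (MvPolynomial (Fin n ⊕ T P₁ m) k))
  obtain ⟨l, hl⟩ := (Algebra.Extension.formallySmooth_iff_split_injection
    (PM P₁ m).toExtension).1 inferInstance
  haveI : Module.Projective (Localization.AtPrime m) (PM P₁ m).toExtension.CotangentSpace :=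
    Module.Projective.of_basis (PM P₁ m).cotangentSpaceBasis
  haveI : Module.Projective (Localization.AtPrime m) (PM P₁ m).toExtension.Cotangent :=
    Module.Projective.of_split (PM P₁ m).toExtension.cotangentComplex l hl
  haveI := subsingleton_T2_of_injective (PM P₁ m) M (d2_injective_of_syz (PM P₁ m) hsyz)
  obtain ⟨e⟩ := CotTIndep.nonempty_T2_equiv_of_presentations
    (CotT.canon k (Localization.AtPrime m)) (PM P₁ m) M
  exact e.toEquiv.subsingleton

theorem main :
    (IsRegularLocalRing (Localization.AtPrime m) ↔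
      ∀ (M : Type u) [AddCommGroup M] [Module (Localization.AtPrime m) M],
        Subsingleton (CotT.T1 (CotT.canon k (Localization.AtPrime m)) M)) ∧
    (IsRegularLocalRing (Localization.AtPrime m) →
      ∀ (M : Type u) [AddCommGroup M] [Module (Localization.AtPrime m) M],
        Subsingleton (CotT.T2 (CotT.canon k (Localization.AtPrime m)) M)) :=
  ⟨main1 k B m, fun hreg M _ _ => main2 k B m hreg M⟩

end Final

end

end Groth.Agent.Helper8.LocPres
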