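import Mathlib
set_option autoImplicit false
universe u v

namespace Groth.Agent.Helper8.LocalInf
open IsLocalRing

variable (A : Type u) (B : Type v) [CommRing A] [CommRing B] [IsLocalRing A] [IsLocalRing B]
  (φ : A →+* B) [IsLocalHom φ]

theorem map_pow_mem (n : ℕ) {a : A} (ha : a ∈ maximalIdeal A ^ n) : φ a ∈ maximalIdeal B ^ n := by
  have h1 : (maximalIdeal A).map φ ≤ maximalIdeal B := ((local_hom_TFAE φ).out 0 2).1 ‹_›
  have h2 : (maximalIdeal A ^ n).map φ ≤ maximalIdeal B ^ n := by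
    rw [Ideal.map_pow]; exact Ideal.pow_right_mono h1 n
  exact h2 (Ideal.mem_map_of_mem φ ha)

variable (h1 : Function.Surjective ((Ideal.Quotient.mk (maximalIdeal B ^ 2)).comp φ))

include h1 in
theorem approx_one (b : B) (hb : b ∈ maximalIdeal B) :
    ∃ a ∈ maximalIdeal A, b - φ a ∈ maximalIdeal B ^ 2 := by
  obtain ⟨a, ha⟩ := h1 (Ideal.Quotient.mk _ b)
  have hd : b - φ a ∈ maximalIdeal B ^ 2 := by
    rw [← Ideal.Quotient.eq]; exact ha.symm
  refine ⟨a, ?_, hd⟩
  have hφa : φ a ∈ maximalIdeal B := by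
    have : φ a = b - (b - φ a) := by ring
    rw [this]
    exact Ideal.sub_mem _ hb (Ideal.pow_le_self two_ne_zero hd)
  by_contra hna
  have : IsUnit a := by
    by_contra h; exact hna ((mem_maximalIdeal a).2 h)
  exact ((mem_maximalIdeal _).1 hφa) (this.map φ)

include h1 in
theorem approx_zero (b : B) : ∃ a : A, b - φ a ∈ maximalIdeal B := by
  obtain ⟨a, ha⟩ := h1 (Ideal.Quotient.mk _ b)
  have hd : b - φ a ∈ maximalIdeal B ^ 2 := by
    rw [← Ideal.Quotient.eq]; exact ha.symm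
  exact ⟨a, Ideal.pow_le_self two_ne_zero hd⟩

include h1 in
theorem approx_pow (n : ℕ) (hn : 1 ≤ n) : ∀ b ∈ maximalIdeal B ^ n,
    ∃ a ∈ maximalIdeal A ^ n, b - φ a ∈ maximalIdeal B ^ (n + 1) := by
  induction n, hn using Nat.le_induction with
  | base =>
    intro b hb
    rw [pow_one] at hb
    obtain ⟨a, ha, hd⟩ := approx_one A B φ h1 b hb
    exact ⟨a, by rwa [pow_one], hd⟩
  | succ n hn ih =>
    intro b hb
    rw [pow_succ] at hb
    refine Submodule.mul_induction_on hb ?_ ?_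
    · intro b₁ hb₁ b₂ hb₂
      obtain ⟨a₁, ha₁, hd₁⟩ := ih b₁ hb₁
      obtain ⟨a₂, ha₂, hd₂⟩ := approx_one A B φ h1 b₂ hb₂
      refine ⟨a₁ * a₂, ?_, ?_⟩
      · rw [pow_succ]; exact Ideal.mul_mem_mul ha₁ ha₂
      · have : b₁ * b₂ - φ (a₁ * a₂) = (b₁ - φ a₁) * b₂ + φ a₁ * (b₂ - φ a₂) := by
          rw [map_mul]; ring
        rw [this]
        refine Ideal.add_mem _ ?_ ?_
        · have := Ideal.mul_mem_mul hd₁ hb₂
          rwa [← pow_succ] at this
        · have := Ideal.mul_mem_mul (map_pow_mem A B φ n ha₁) hd₂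
          rwa [← pow_add] at this
    · rintro x y ⟨a, ha, hd⟩ ⟨a', ha', hd'⟩
      refine ⟨a + a', Ideal.add_mem _ ha ha', ?_⟩
      have : x + y - φ (a + a') = (x - φ a) + (y - φ a') := by rw [map_add]; ring
      rw [this]; exact Ideal.add_mem _ hd hd'

include h1 in
theorem approx_all (n : ℕ) (b : B) : ∃ a : A, b - φ a ∈ maximalIdeal B ^ (n + 1) := by
  induction n with
  | zero =>
    obtain ⟨a, ha⟩ := approx_zero A B φ h1 b
    exact ⟨a, by rwa [zero_add, pow_one]⟩
  | succ n ih =>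
    obtain ⟨a, ha⟩ := ih
    obtain ⟨a', -, hd⟩ := approx_pow A B φ h1 (n + 1) (by omega) _ ha
    refine ⟨a + a', ?_⟩
    have : b - φ (a + a') = b - φ a - φ a' := by rw [map_add]; ring
    rw [this]; exact hd

include h1 in
theorem surj (n : ℕ) :
    Function.Surjective ((Ideal.Quotient.mk (maximalIdeal B ^ (n + 1))).comp φ) := by
  intro c
  obtain ⟨b, rfl⟩ := Ideal.Quotient.mk_surjective c
  obtain ⟨a, ha⟩ := approx_all A B φ h1 n b
  refine ⟨a, ?_⟩
  rw [RingHom.comp_apply]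
  exact (Ideal.Quotient.eq.2 ha).symm


omit [IsLocalRing B] [IsLocalHom φ] in
theorem isArtinian_quot [IsNoetherianRing A] (n : ℕ) :
    IsArtinian A (A ⧸ maximalIdeal A ^ (n + 1)) := by
  have hne : maximalIdeal A ^ (n + 1) ≠ ⊤ := by
    intro h
    have : maximalIdeal A ^ (n + 1) ≤ maximalIdeal A := Ideal.pow_le_self (by omega)
    rw [h] at this
    exact (maximalIdeal.isMaximal A).ne_top (top_le_iff.1 this)
  haveI : Nontrivial (A ⧸ maximalIdeal A ^ (n + 1)) := Ideal.Quotient.nontrivial_iff.2 hne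
  haveI : IsLocalRing (A ⧸ maximalIdeal A ^ (n + 1)) :=
    IsLocalRing.of_surjective' (Ideal.Quotient.mk _) Ideal.Quotient.mk_surjective
  have hle : maximalIdeal (A ⧸ maximalIdeal A ^ (n + 1)) ≤
      (maximalIdeal A).map (Ideal.Quotient.mk (maximalIdeal A ^ (n + 1))) := by
    intro x hx
    obtain ⟨a, rfl⟩ := Ideal.Quotient.mk_surjective x
    apply Ideal.mem_map_of_mem
    rw [mem_maximalIdeal] at hx ⊢
    intro ha
    exact hx (ha.map _)
  haveI : IsArtinianRing (A ⧸ maximalIdeal A ^ (n + 1)) := by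
    rw [isArtinianRing_iff_isNilpotent_maximalIdeal]
    refine ⟨n + 1, ?_⟩
    rw [Ideal.zero_eq_bot, eq_bot_iff]
    calc maximalIdeal (A ⧸ maximalIdeal A ^ (n + 1)) ^ (n + 1)
        ≤ ((maximalIdeal A).map (Ideal.Quotient.mk (maximalIdeal A ^ (n + 1)))) ^ (n + 1) :=
          Ideal.pow_right_mono hle _
      _ = ⊥ := by rw [← Ideal.map_pow, Ideal.map_quotient_self]
  exact isArtinian_of_surjective_algebraMap (R := A ⧸ maximalIdeal A ^ (n + 1))
    (Ideal.Quotient.mk_surjective (I := maximalIdeal A ^ (n + 1)))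


include h1 in
theorem main [IsNoetherianRing A] [IsNoetherianRing B]
    (hlen : ∀ n : ℕ, Module.length A (A ⧸ maximalIdeal A ^ (n + 1)) =
      Module.length B (B ⧸ maximalIdeal B ^ (n + 1))) (n : ℕ) :
    Function.Surjective ((Ideal.Quotient.mk (maximalIdeal B ^ (n + 1))).comp φ) ∧
      RingHom.ker ((Ideal.Quotient.mk (maximalIdeal B ^ (n + 1))).comp φ) =
        maximalIdeal A ^ (n + 1) := by
  have hs := surj A B φ h1 n
  refine ⟨hs, ?_⟩
  have hle : maximalIdeal A ^ (n + 1) ≤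
      RingHom.ker ((Ideal.Quotient.mk (maximalIdeal B ^ (n + 1))).comp φ) := fun a ha => by
    rw [RingHom.mem_ker, RingHom.comp_apply, Ideal.Quotient.eq_zero_iff_mem]
    exact map_pow_mem A B φ _ ha
  letI : Algebra A (B ⧸ maximalIdeal B ^ (n + 1)) :=
    ((Ideal.Quotient.mk (maximalIdeal B ^ (n + 1))).comp φ).toAlgebra
  let g : (A ⧸ maximalIdeal A ^ (n + 1)) →ₗ[A] (B ⧸ maximalIdeal B ^ (n + 1)) :=
    Submodule.liftQ _ (Algebra.linearMap A (B ⧸ maximalIdeal B ^ (n + 1))) (fun a ha => hle ha)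
  have hg : Function.Surjective g := by
    intro c
    obtain ⟨a, ha⟩ := hs c
    exact ⟨Submodule.Quotient.mk a, ha⟩
  have hl1 : Module.length A (B ⧸ maximalIdeal B ^ (n + 1)) =
      Module.length (B ⧸ maximalIdeal B ^ (n + 1)) (B ⧸ maximalIdeal B ^ (n + 1)) :=
    Module.length_eq_of_surjective hs
  have hl2 : Module.length B (B ⧸ maximalIdeal B ^ (n + 1)) =
      Module.length (B ⧸ maximalIdeal B ^ (n + 1)) (B ⧸ maximalIdeal B ^ (n + 1)) :=
    Module.length_eq_of_surjective Ideal.Quotient.mk_surjective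
  have hl3 : Module.length A ((A ⧸ maximalIdeal A ^ (n + 1)) ⧸ LinearMap.ker g) =
      Module.length A (B ⧸ maximalIdeal B ^ (n + 1)) :=
    (g.quotKerEquivOfSurjective hg).length_eq
  have hker : LinearMap.ker g = ⊥ := by
    by_contra hne
    haveI := isArtinian_quot A n
    have := Submodule.length_quotient_lt (LinearMap.ker g) hne
    rw [hl3, hl1, ← hl2, ← hlen n] at this
    exact lt_irrefl _ this
  apply le_antisymm _ hle
  intro a ha
  have h0 : g (Submodule.Quotient.mk a) = 0 := ha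
  have := LinearMap.ker_eq_bot'.1 hker _ h0
  exact (Submodule.Quotient.mk_eq_zero _).1 this

end Groth.Agent.Helper8.LocalInf
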