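import Mathlib

set_option autoImplicit false

namespace Groth.Agent.Helper8.LogConn

open Polynomial

section CH
variable {R : Type*} [CommRing R] {d : ℕ}

theorem eigen_zero (T : (Fin d → R) →ₗ[R] (Fin d → R)) (a : R)
    (hu : IsUnit (T.charpoly.eval a)) (y : Fin d → R) (hy : T y = a • y) : y = 0 := by
  obtain ⟨q, hq⟩ := X_sub_C_dvd_sub_C_eval (a := a) (p := T.charpoly)
  have h1 : T.charpoly = C (T.charpoly.eval a) + q * (X - C a) := by
    rw [mul_comm, ← hq]; ring
  have h2 := LinearMap.aeval_self_charpoly T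
  rw [h1] at h2
  have h3 := LinearMap.congr_fun h2 y
  simp only [map_add, map_mul, map_sub, aeval_C, aeval_X, LinearMap.add_apply,
    Module.End.mul_apply, LinearMap.sub_apply, Module.algebraMap_end_apply,
    LinearMap.zero_apply, hy, sub_self, map_zero, add_zero] at h3
  exact hu.smul_eq_zero.1 h3

theorem exists_preimage (T : (Fin d → R) →ₗ[R] (Fin d → R)) (a : R)
    (hu : IsUnit (T.charpoly.eval a)) (z : Fin d → R) : ∃ y, T y - a • y = z := by
  obtain ⟨q, hq⟩ := X_sub_C_dvd_sub_C_eval (a := a) (p := T.charpoly)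
  have h1 : T.charpoly = C (T.charpoly.eval a) + (X - C a) * q := by
    rw [← hq]; ring
  have h2 := LinearMap.aeval_self_charpoly T
  rw [h1] at h2
  have h3 := LinearMap.congr_fun h2 z
  simp only [map_add, map_mul, map_sub, aeval_C, aeval_X, LinearMap.add_apply,
    Module.End.mul_apply, LinearMap.sub_apply, Module.algebraMap_end_apply,
    LinearMap.zero_apply] at h3
  obtain ⟨u, hu'⟩ := hu
  refine ⟨-((u⁻¹ : Rˣ) : R) • (aeval T q z), ?_⟩
  have h4 : T (aeval T q z) - a • (aeval T q z) = - (T.charpoly.eval a) • z := by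
    rw [← hu'] at h3 ⊢
    have := eq_neg_of_add_eq_zero_right h3
    rw [this, neg_smul]
  rw [map_smul, smul_comm a, ← smul_sub, h4, ← hu', smul_smul]
  simp

theorem isUnit_eval_charpoly [Algebra ℂ R] (T : (Fin d → R) →ₗ[R] (Fin d → R)) (χ : ℂ[X])
    (hχ : T.charpoly = χ.map (algebraMap ℂ R)) (n : ℤ) (hn : χ.eval (n : ℂ) ≠ 0) :
    IsUnit (T.charpoly.eval ((n : ℤ) : R)) := by
  rw [hχ, ← map_intCast (algebraMap ℂ R) n, eval_map, eval₂_at_apply]
  exact (IsUnit.mk0 _ hn).map _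

end CH

section Setup
variable {R : Type*} [CommRing R] [IsDomain R] {d r : ℕ} (θ : Fin r → R)
  (hθ : ∀ i k, i ≠ k → IsUnit (θ i - θ k)) (Θ : R[X]) (hΘ : Θ = ∏ i, (X - C (θ i)))

include hΘ in
theorem eval_Theta (i : Fin r) : Θ.eval (θ i) = 0 := by
  rw [hΘ, eval_prod]
  exact Finset.prod_eq_zero (Finset.mem_univ i) (by simp)

include hΘ in
theorem eval_derivative_Theta (i : Fin r) :
    (derivative Θ).eval (θ i) = ∏ k ∈ Finset.univ.erase i, (θ i - θ k) := by
  rw [hΘ, derivative_prod_finset, eval_finset_sum, Finset.sum_eq_single i]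
  · simp [eval_prod]
  · intro a _ hai
    rw [eval_mul, eval_prod, Finset.prod_eq_zero (i := i)
      (Finset.mem_erase.2 ⟨hai.symm, Finset.mem_univ i⟩) (by simp), zero_mul]
  · intro h; exact absurd (Finset.mem_univ i) h

include hΘ in
theorem Theta_ne_zero : Θ ≠ 0 := by
  rw [hΘ]
  exact (monic_prod_of_monic _ _ (fun i _ => monic_X_sub_C (θ i))).ne_zero

include hθ in
theorem theta_injective : Function.Injective θ := by
  intro i k hik
  by_contra hne
  have := hθ i k hne
  rw [hik, sub_self] at this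
  exact not_isUnit_zero this

include hθ hΘ in
theorem Theta_dvd (p : R[X]) (hp : ∀ i, p.eval (θ i) = 0) : Θ ∣ p := by
  by_cases hp0 : p = 0
  · rw [hp0]; exact dvd_zero _
  have h1 : Θ = ((Finset.univ.val.map θ).map fun a => X - C a).prod := by
    rw [hΘ, Multiset.map_map]; rfl
  rw [h1, Multiset.prod_X_sub_C_dvd_iff_le_roots hp0]
  rw [Multiset.le_iff_subset ((Finset.univ.nodup).map (theta_injective θ hθ))]
  intro a ha
  obtain ⟨i, -, rfl⟩ := Multiset.mem_map.1 ha
  exact (mem_roots hp0).2 (hp i)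

/-- polynomial vectors inside the localization -/
noncomputable def ιv (g : Fin d → R[X]) : Fin d → Localization.Away Θ :=
  fun j => algebraMap R[X] (Localization.Away Θ) (g j)

theorem ιv_smul (p : R[X]) (g : Fin d → R[X]) : ιv Θ (p • g) = p • ιv Θ g := by
  funext j
  simp [ιv, Algebra.smul_def]

theorem ιv_add (g h : Fin d → R[X]) : ιv Θ (g + h) = ιv Θ g + ιv Θ h := by
  funext j
  simp [ιv]

theorem ιv_sub (g h : Fin d → R[X]) : ιv Θ (g - h) = ιv Θ g - ιv Θ h := by
  funext j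
  simp [ιv]

include hΘ in
theorem ιv_injective : Function.Injective (ιv Θ : (Fin d → R[X]) → _) := by
  intro g h hgh
  funext j
  have := congrFun hgh j
  exact IsLocalization.injective (Localization.Away Θ)
    (powers_le_nonZeroDivisors_of_noZeroDivisors (Theta_ne_zero θ Θ hΘ)) this

theorem smul_Theta_cancel (w₁ w₂ : Fin d → Localization.Away Θ) (h : Θ • w₁ = Θ • w₂) :
    w₁ = w₂ := by
  funext j
  have := congrFun h j
  simp only [Pi.smul_apply, Algebra.smul_def] at this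
  exact (IsLocalization.Away.algebraMap_isUnit Θ).mul_left_cancel this

theorem exists_denoms (w : Fin d → Localization.Away Θ) :
    ∃ (N : ℕ) (g : Fin d → R[X]), (Θ ^ N) • w = ιv Θ g := by
  obtain ⟨⟨b, N, rfl⟩, hb⟩ := IsLocalization.exist_integer_multiples (Submonoid.powers Θ)
    (Finset.univ : Finset (Fin d)) w
  choose g hg using fun j => hb j (Finset.mem_univ j)
  refine ⟨N, g, ?_⟩
  funext j
  exact (hg j).symm

variable (D₀ : (Fin d → R[X]) →+ (Fin d → R[X]))
  (hD₀ : ∀ (p : R[X]) (v : Fin d → R[X]),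
    D₀ (p • v) = (Θ * Polynomial.derivative p) • v + p • D₀ v)
  (Res : Fin r → ((Fin d → R) →ₗ[R] (Fin d → R)))
  (hRes : ∀ (i : Fin r) (m : Fin d → R) (j : Fin d),
    (D₀ (fun j => Polynomial.C (m j)) j).eval (θ i) =
      (∏ k ∈ Finset.univ.erase i, (θ i - θ k)) * Res i m j)

include hΘ hD₀ hRes in
theorem eval_D₀ (g : Fin d → R[X]) (i : Fin r) (j : Fin d) :
    (D₀ g j).eval (θ i) =
      (∏ k ∈ Finset.univ.erase i, (θ i - θ k)) * Res i (fun j => (g j).eval (θ i)) j := by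
  have hg : g = ∑ j₀, (g j₀) • (fun j => C ((Pi.single j₀ 1 : Fin d → R) j)) := by
    funext j
    simp [Finset.sum_apply, Pi.single_apply]
  have hy : (fun j => (g j).eval (θ i)) =
      ∑ j₀, (g j₀).eval (θ i) • (Pi.single j₀ 1 : Fin d → R) := by
    funext j
    simp [Finset.sum_apply, Pi.single_apply]
  conv_lhs => rw [hg]
  rw [map_sum, Finset.sum_apply, eval_finset_sum, hy, map_sum, Finset.sum_apply, Finset.mul_sum]
  apply Finset.sum_congr rfl
  intro j₀ _
  rw [hD₀, Pi.add_apply, Pi.smul_apply, Pi.smul_apply, smul_eq_mul, smul_eq_mul, eval_add,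
    eval_mul, eval_mul, eval_mul, eval_Theta θ Θ hΘ i, zero_mul, zero_mul, zero_add, hRes,
    map_smul, Pi.smul_apply, smul_eq_mul]
  ring

variable (D : (Fin d → Localization.Away Θ) →+ (Fin d → Localization.Away Θ))
  (hD : ∀ (p : R[X]) (w : Fin d → Localization.Away Θ),
    D (p • w) = (Θ * Polynomial.derivative p) • w + p • D w)
  (hDD₀ : ∀ v : Fin d → R[X],
    D (fun j => algebraMap R[X] (Localization.Away Θ) (v j)) =
      fun j => algebraMap R[X] (Localization.Away Θ) (D₀ v j))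

include hD hDD₀ in
/-- Leibniz rule with a pole of order `N + 1` -/
theorem leibniz_pole (N : ℕ) (f : Fin d → Localization.Away Θ) (g : Fin d → R[X])
    (hg : (Θ ^ (N + 1)) • f = ιv Θ g) :
    ιv Θ (D₀ g) = (C ((N + 1 : ℕ) : R) * derivative Θ) • ιv Θ g + (Θ ^ (N + 1)) • D f := by
  have h1 : D (ιv Θ g) = ιv Θ (D₀ g) := hDD₀ g
  rw [← h1, ← hg, hD, derivative_pow, Nat.add_sub_cancel, hg]
  congr 1
  rw [← hg, smul_smul]
  congr 1
  rw [pow_succ]
  ring

end Setup

section Main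
variable (R : Type*) [CommRing R] [IsDomain R] [Algebra ℂ R] (d r : ℕ) (θ : Fin r → R)
  (hθ : ∀ i k, i ≠ k → IsUnit (θ i - θ k)) (Θ : R[X]) (hΘ : Θ = ∏ i, (X - C (θ i)))
  (D₀ : (Fin d → R[X]) →+ (Fin d → R[X]))
  (hD₀ : ∀ (p : R[X]) (v : Fin d → R[X]),
    D₀ (p • v) = (Θ * Polynomial.derivative p) • v + p • D₀ v)
  (D : (Fin d → Localization.Away Θ) →+ (Fin d → Localization.Away Θ))
  (hD : ∀ (p : R[X]) (w : Fin d → Localization.Away Θ),
    D (p • w) = (Θ * Polynomial.derivative p) • w + p • D w)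
  (hDD₀ : ∀ v : Fin d → R[X],
    D (fun j => algebraMap R[X] (Localization.Away Θ) (v j)) =
      fun j => algebraMap R[X] (Localization.Away Θ) (D₀ v j))
  (Res : Fin r → ((Fin d → R) →ₗ[R] (Fin d → R)))
  (hRes : ∀ (i : Fin r) (m : Fin d → R) (j : Fin d),
    (D₀ (fun j => Polynomial.C (m j)) j).eval (θ i) =
      (∏ k ∈ Finset.univ.erase i, (θ i - θ k)) * Res i m j)
  (hχ : ∀ i : Fin r, ∃ χ : ℂ[X], (Res i).charpoly = χ.map (algebraMap ℂ R) ∧
    ∀ n : ℤ, n ≠ 0 → χ.eval (n : ℂ) ≠ 0)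

include hθ hΘ hD₀ hD hDD₀ hRes hχ in
theorem main03_aux (N : ℕ) : ∀ (f : Fin d → Localization.Away Θ),
    (∃ g : Fin d → R[X], (Θ ^ N) • f = ιv Θ g) → (∃ v : Fin d → R[X], D f = ιv Θ v) →
    ∃ v : Fin d → R[X], f = ιv Θ v := by
  induction N with
  | zero =>
    rintro f ⟨g, hg⟩ _
    exact ⟨g, by simpa using hg⟩
  | succ N ih =>
    rintro f ⟨g, hg⟩ ⟨v, hv⟩
    have h1 := leibniz_pole Θ D₀ D hD hDD₀ N f g hg
    rw [hv, ← ιv_smul, ← ιv_smul, ← ιv_add] at h1
    have key := ιv_injective θ Θ hΘ h1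
    -- evaluate at θ i
    have hzero : ∀ i j, (g j).eval (θ i) = 0 := by
      intro i
      have hc : IsUnit (∏ k ∈ Finset.univ.erase i, (θ i - θ k)) := by
        rw [IsUnit.prod_iff]
        intro k hk
        exact hθ i k (Finset.ne_of_mem_erase hk).symm
      have hy : Res i (fun j => (g j).eval (θ i)) =
          (((N + 1 : ℕ) : ℤ) : R) • (fun j => (g j).eval (θ i)) := by
        funext j
        have e1 := eval_D₀ θ Θ hΘ D₀ hD₀ Res hRes g i j
        rw [key] at e1
        simp only [Pi.add_apply, Pi.smul_apply, smul_eq_mul, eval_add, eval_mul, eval_C,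
          eval_pow, eval_Theta θ Θ hΘ i, eval_derivative_Theta θ Θ hΘ i] at e1
        rw [zero_pow (Nat.succ_ne_zero N), zero_mul, add_zero] at e1
        have e2 : (∏ k ∈ Finset.univ.erase i, (θ i - θ k)) *
            (((N + 1 : ℕ) : R) * (g j).eval (θ i)) =
            (∏ k ∈ Finset.univ.erase i, (θ i - θ k)) *
              Res i (fun j => (g j).eval (θ i)) j := by
          rw [← e1]; ring
        have e3 := hc.mul_left_cancel e2
        rw [Pi.smul_apply, smul_eq_mul, ← e3]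
        push_cast
        ring
      obtain ⟨χ, hχ1, hχ2⟩ := hχ i
      have hu := isUnit_eval_charpoly (Res i) χ hχ1 ((N + 1 : ℕ) : ℤ)
        (hχ2 _ (by exact_mod_cast Nat.succ_ne_zero N))
      have := eigen_zero (Res i) _ hu _ hy
      intro j
      exact congrFun this j
    have hdvd : ∀ j, Θ ∣ g j := fun j => Theta_dvd θ hθ Θ hΘ (g j) (fun i => hzero i j)
    choose g' hg' using hdvd
    apply ih f ⟨g', ?_⟩ ⟨v, hv⟩
    apply smul_Theta_cancel Θ
    rw [smul_smul, ← pow_succ', hg, ← ιv_smul]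
    congr 1
    funext j
    rw [Pi.smul_apply, smul_eq_mul, hg' j]

include hθ hΘ hD₀ hD hDD₀ hRes hχ in
theorem main03 (f : Fin d → Localization.Away Θ)
    (hf : ∃ v : Fin d → R[X], D f = fun j => algebraMap R[X] (Localization.Away Θ) (v j)) :
    ∃ v : Fin d → R[X], f = fun j => algebraMap R[X] (Localization.Away Θ) (v j) := by
  obtain ⟨N, g, hg⟩ := exists_denoms Θ f
  exact main03_aux R d r θ hθ Θ hΘ D₀ hD₀ D hD hDD₀ Res hRes hχ N f ⟨g, hg⟩ hf

include hθ hΘ hD₀ hD hDD₀ hRes hχ in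
theorem main02_aux (N : ℕ) : ∀ (w : Fin d → Localization.Away Θ),
    (∃ g : Fin d → R[X], (Θ ^ N) • w = ιv Θ g) →
    ∃ (w' : Fin d → Localization.Away Θ) (v : Fin d → R[X]), w = D w' + ιv Θ v := by
  induction N with
  | zero =>
    rintro w ⟨g, hg⟩
    exact ⟨0, g, by rw [map_zero, zero_add]; simpa using hg⟩
  | succ N ih =>
    rintro w ⟨g, hg⟩
    have hc : ∀ i, IsUnit (∏ k ∈ Finset.univ.erase i, (θ i - θ k)) := by
      intro i
      rw [IsUnit.prod_iff]
      intro k hk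
      exact hθ i k (Finset.ne_of_mem_erase hk).symm
    -- solve the residue equations
    have hsol : ∀ i, ∃ y : Fin d → R, Res i y - (((N + 1 : ℕ) : ℤ) : R) • y =
        (((hc i).unit⁻¹ : Rˣ) : R) • (fun j => (g j).eval (θ i)) := by
      intro i
      obtain ⟨χ, hχ1, hχ2⟩ := hχ i
      have hu := isUnit_eval_charpoly (Res i) χ hχ1 ((N + 1 : ℕ) : ℤ)
        (hχ2 _ (by exact_mod_cast Nat.succ_ne_zero N))
      exact exists_preimage (Res i) _ hu _
    choose y hy using hsol
    -- Lagrange interpolation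
    obtain ⟨ℓ, hℓ⟩ : ∃ ℓ : Fin r → R[X], ℓ = fun i =>
        C (((hc i).unit⁻¹ : Rˣ) : R) * ∏ k ∈ Finset.univ.erase i, (X - C (θ k)) := ⟨_, rfl⟩
    have hℓ1 : ∀ i, (ℓ i).eval (θ i) = 1 := by
      intro i
      rw [hℓ]
      simp only [eval_mul, eval_C, eval_prod, eval_sub, eval_X]
      exact (hc i).val_inv_mul
    have hℓ0 : ∀ i i', i' ≠ i → (ℓ i).eval (θ i') = 0 := by
      intro i i' hne
      rw [hℓ]
      simp only [eval_mul, eval_C, eval_prod, eval_sub, eval_X]
      have hz : ∏ k ∈ Finset.univ.erase i, (θ i' - θ k) = 0 :=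
        Finset.prod_eq_zero (Finset.mem_erase.2 ⟨hne, Finset.mem_univ i'⟩) (sub_self _)
      rw [hz, mul_zero]
    obtain ⟨u, hu⟩ : ∃ u : Fin d → R[X], u = fun j => ∑ i, ℓ i * C (y i j) := ⟨_, rfl⟩
    have hu_eval : ∀ i j, (u j).eval (θ i) = y i j := by
      intro i j
      rw [hu, eval_finset_sum, Finset.sum_eq_single i]
      · rw [eval_mul, hℓ1, eval_C, one_mul]
      · intro i₂ _ hne
        rw [eval_mul, hℓ0 i₂ i hne.symm, zero_mul]
      · intro h; exact absurd (Finset.mem_univ i) h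
    -- w' with Θ^(N+1) • w' = ιv u
    have hunit : IsUnit (algebraMap R[X] (Localization.Away Θ) (Θ ^ (N + 1))) := by
      rw [map_pow]
      exact (IsLocalization.Away.algebraMap_isUnit Θ).pow _
    obtain ⟨w', hw'⟩ : ∃ w' : Fin d → Localization.Away Θ, (Θ ^ (N + 1)) • w' = ιv Θ u := by
      refine ⟨fun j => ((hunit.unit⁻¹ : (Localization.Away Θ)ˣ) : Localization.Away Θ) *
        algebraMap R[X] (Localization.Away Θ) (u j), ?_⟩
      funext j
      simp only [Pi.smul_apply, Algebra.smul_def, ιv]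
      rw [← mul_assoc, hunit.mul_val_inv, one_mul]
    have h1 := leibniz_pole Θ D₀ D hD hDD₀ N w' u hw'
    obtain ⟨g₁, hg₁⟩ : ∃ g₁ : Fin d → R[X], g₁ = g - D₀ u +
        (C ((N + 1 : ℕ) : R) * derivative Θ) • u := ⟨_, rfl⟩
    have h2 : (Θ ^ (N + 1)) • (w - D w') = ιv Θ g₁ := by
      rw [smul_sub, hg, hg₁, ιv_add, ιv_sub, h1, ιv_smul]
      abel
    have hzero : ∀ i j, (g₁ j).eval (θ i) = 0 := by
      intro i j
      have e1 := eval_D₀ θ Θ hΘ D₀ hD₀ Res hRes u i j
      have e2 : (fun j => (u j).eval (θ i)) = y i := funext (hu_eval i)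
      rw [e2] at e1
      have e3 := congrFun (hy i) j
      simp only [Pi.sub_apply, Pi.smul_apply, smul_eq_mul] at e3
      rw [hg₁]
      simp only [Pi.add_apply, Pi.sub_apply, Pi.smul_apply, smul_eq_mul, eval_add, eval_sub,
        eval_mul, eval_C, eval_derivative_Theta θ Θ hΘ i, e1, hu_eval]
      have e4 : Res i (y i) j = (((N + 1 : ℕ) : ℤ) : R) * y i j +
          (((hc i).unit⁻¹ : Rˣ) : R) * (g j).eval (θ i) := by
        rw [← e3]; ring
      rw [e4]
      have e5 : (∏ k ∈ Finset.univ.erase i, (θ i - θ k)) * (((hc i).unit⁻¹ : Rˣ) : R) = 1 :=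
        (hc i).mul_val_inv
      push_cast
      linear_combination (-(g j).eval (θ i)) * e5
    have hdvd : ∀ j, Θ ∣ g₁ j := fun j => Theta_dvd θ hθ Θ hΘ (g₁ j) (fun i => hzero i j)
    choose g₂ hg₂ using hdvd
    have h3 : (Θ ^ N) • (w - D w') = ιv Θ g₂ := by
      apply smul_Theta_cancel Θ
      rw [smul_smul, ← pow_succ', h2, ← ιv_smul]
      congr 1
      funext j
      rw [Pi.smul_apply, smul_eq_mul, hg₂ j]
    obtain ⟨w'', v, hwv⟩ := ih (w - D w') ⟨g₂, h3⟩
    refine ⟨w' + w'', v, ?_⟩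
    rw [map_add, add_assoc, ← hwv]
    abel

include hθ hΘ hD₀ hD hDD₀ hRes hχ in
theorem main02 (w : Fin d → Localization.Away Θ) :
    ∃ (w' : Fin d → Localization.Away Θ) (v : Fin d → R[X]),
      w = D w' + fun j => algebraMap R[X] (Localization.Away Θ) (v j) := by
  obtain ⟨N, g, hg⟩ := exists_denoms Θ w
  exact main02_aux R d r θ hθ Θ hΘ D₀ hD₀ D hD hDD₀ Res hRes hχ N w ⟨g, hg⟩

end Main

end Groth.Agent.Helper8.LogConn
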