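import Mathlib

namespace Groth.Agent.Helper8.LogDeriv

open Polynomial Matrix

section gen
variable {S : Type*} [CommRing S] {m : Type*} [Fintype m] [DecidableEq m]

/-- first-order coefficient of `det (M + X N)` when `M` is invertible -/
theorem coeff_one_det (M N Minv : Matrix m m S) (h : M * Minv = 1) :
    (det (M.map C + (X : S[X]) • N.map C)).coeff 1 = det M * trace (Minv * N) := by
  have e : M.map C + (X : S[X]) • N.map C =
      M.map (C : S →+* S[X]) * (1 + (X : S[X]) • (Minv * N).map C) := by
    rw [Matrix.mul_add, Matrix.mul_one, Matrix.mul_smul]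
    congr 2
    have : (M.map (C : S →+* S[X])) * ((Minv * N).map (C : S →+* S[X])) =
        (M * (Minv * N)).map (C : S →+* S[X]) := (Matrix.map_mul).symm
    rw [this, ← Matrix.mul_assoc, h, Matrix.one_mul]
  rw [e, det_mul]
  have : det (M.map (C : S →+* S[X])) = C (det M) := by
    rw [← RingHom.mapMatrix_apply, ← RingHom.map_det]
  rw [this, coeff_C_mul, coeff_det_one_add_X_smul_one]

end gen

variable (R : Type) [CommRing R] (m : Type) [Fintype m] [DecidableEq m] (A : Matrix m m R)

/-- the inverse of `1 - T A` over power series -/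
noncomputable def Binv : Matrix m m (PowerSeries R) :=
  Matrix.of fun i j => PowerSeries.mk (fun n => (A ^ n) i j)

theorem mul_Binv : (1 - (PowerSeries.X : PowerSeries R) • A.map PowerSeries.C) * Binv R m A = 1 := by
  rw [Matrix.sub_mul, Matrix.one_mul, Matrix.smul_mul]
  ext i j n
  rw [Matrix.sub_apply, Matrix.smul_apply, smul_eq_mul, map_sub, Matrix.mul_apply]
  simp only [Binv, Matrix.of_apply, Matrix.map_apply, PowerSeries.coeff_mk]
  rcases n with _ | n
  · rw [PowerSeries.coeff_zero_X_mul, sub_zero, pow_zero]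
    by_cases hij : i = j
    · subst hij; simp
    · simp [Matrix.one_apply_ne hij]
  · rw [PowerSeries.coeff_succ_X_mul, map_sum]
    simp only [PowerSeries.coeff_C_mul, PowerSeries.coeff_mk]
    rw [pow_succ', Matrix.mul_apply, sub_self]
    by_cases hij : i = j
    · subst hij
      simp [PowerSeries.coeff_one]
    · simp [Matrix.one_apply_ne hij]

theorem trace_Binv_mul :
    trace (Binv R m A * A.map PowerSeries.C) = PowerSeries.mk (fun n => (A ^ (n + 1)).trace) := by
  ext n
  rw [PowerSeries.coeff_mk, Matrix.trace, map_sum, Matrix.trace]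
  refine Finset.sum_congr rfl fun i _ => ?_
  rw [Matrix.diag_apply, Matrix.mul_apply, map_sum, Matrix.diag_apply, pow_succ, Matrix.mul_apply]
  refine Finset.sum_congr rfl fun k _ => ?_
  simp only [Binv, Matrix.of_apply, Matrix.map_apply]
  rw [mul_comm, PowerSeries.coeff_C_mul, PowerSeries.coeff_mk, mul_comm]

/-- the ring hom `R[X] → R⟦T⟧[X]`, `X ↦ X + T` -/
noncomputable def Φ : R[X] →+* (PowerSeries R)[X] :=
  (Polynomial.compRingHom (X + C (PowerSeries.X : PowerSeries R))).comp
    (Polynomial.mapRingHom (PowerSeries.C : R →+* PowerSeries R))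

theorem Φ_coeff_one (P : R[X]) : (Φ R P).coeff 1 = ((derivative P : R[X]) : PowerSeries R) := by
  have : Φ R P = taylor (PowerSeries.X : PowerSeries R) (P.map PowerSeries.C) := rfl
  rw [this, taylor_coeff_one, derivative_map, eval_map, Polynomial.eval₂_C_X_eq_coe]

theorem coe_charpolyRev :
    (A.charpolyRev : PowerSeries R) =
      det (1 - (PowerSeries.X : PowerSeries R) • A.map PowerSeries.C) := by
  rw [← Polynomial.eval₂_C_X_eq_coe]
  unfold Matrix.charpolyRev
  have : eval₂ (PowerSeries.C : R →+* PowerSeries R) PowerSeries.X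
      (det (1 - (X : R[X]) • A.map C)) =
      (Polynomial.eval₂RingHom (PowerSeries.C : R →+* PowerSeries R) PowerSeries.X)
      (det (1 - (X : R[X]) • A.map C)) := rfl
  rw [this, RingHom.map_det]
  congr 1
  ext i j : 1
  simp only [RingHom.mapMatrix_apply, Matrix.map_apply, Matrix.sub_apply, Matrix.smul_apply,
    smul_eq_mul, map_sub, map_mul, Polynomial.coe_eval₂RingHom, eval₂_X, eval₂_C,
    Matrix.one_apply]
  split_ifs <;> simp <;> exact mul_comm _ _

theorem Φ_charpolyRev :
    Φ R A.charpolyRev =
      det ((1 - (PowerSeries.X : PowerSeries R) • A.map PowerSeries.C).map C +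
        (X : (PowerSeries R)[X]) • (-(A.map PowerSeries.C)).map C) := by
  unfold Matrix.charpolyRev
  rw [RingHom.map_det]
  congr 1
  ext i j : 1
  simp only [Φ, RingHom.mapMatrix_apply, Matrix.map_apply, Matrix.sub_apply, Matrix.smul_apply,
    smul_eq_mul, map_sub, map_mul, RingHom.comp_apply, Polynomial.coe_mapRingHom,
    Polynomial.map_X, Polynomial.map_C, Polynomial.coe_compRingHom_apply, X_comp, C_comp,
    Matrix.one_apply, Matrix.add_apply, Matrix.neg_apply, map_neg]
  split_ifs <;> simp <;> ring

theorem key :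
    ((derivative A.charpolyRev : R[X]) : PowerSeries R) =
      -((A.charpolyRev : PowerSeries R) * PowerSeries.mk (fun n => (A ^ (n + 1)).trace)) := by
  rw [← Φ_coeff_one, Φ_charpolyRev, coeff_one_det _ _ (Binv R m A) (mul_Binv R m A),
    ← coe_charpolyRev, Matrix.mul_neg, Matrix.trace_neg, trace_Binv_mul, mul_neg]

theorem main :
    ((-(X * Polynomial.derivative A.charpolyRev) : R[X]) : PowerSeries R) =
      (A.charpolyRev : PowerSeries R) *
        PowerSeries.mk (fun n => if n = 0 then 0 else (A ^ n).trace) := by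
  rw [Polynomial.coe_neg, Polynomial.coe_mul, Polynomial.coe_X, key, mul_neg, neg_neg,
    mul_left_comm]
  congr 1
  ext n
  rcases n with _ | n
  · simp
  · rw [PowerSeries.coeff_succ_X_mul, PowerSeries.coeff_mk, PowerSeries.coeff_mk,
      if_neg (Nat.succ_ne_zero n)]

end Groth.Agent.Helper8.LogDeriv
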