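import Mathlib
import Groth.Prelude.Def_Conn
import Groth.Prelude.Def_W4swconnpcurvhiggsLogLam

set_option autoImplicit false
universe v u

namespace Groth.Agent.Helper8.LogPiece

open TensorProduct

section
variable {A : Type v} {B L E : Type u} [CommRing A] [CommRing B]
    [Algebra A B] [AddCommGroup L] [Module B L] [Module A L] [IsScalarTower A B L]
    [AddCommGroup E] [Module B E] [Module A E] [IsScalarTower A B E]

omit [Module A L] [IsScalarTower A B L] in
theorem piece_eq_span (nabla : E →ₗ[A] E ⊗[B] L) {n : ℕ} (ω : Module.Basis (Fin n) B L)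
    (t : Fin n → B) (I : Finset (Fin n)) :
    LogConn.piece nabla ω t I = Submodule.span A
      {x | ∃ J, J ⊆ I ∧ ∃ e : E, x = (∏ i ∈ I \ J, t i) • LogConn.compProd nabla ω J e} := by
  apply le_antisymm
  · unfold LogConn.piece
    apply iSup_le
    intro J
    apply iSup_le
    intro hJ
    rintro _ ⟨e, rfl⟩
    exact Submodule.subset_span ⟨J, Finset.mem_powerset.mp hJ, e, rfl⟩
  · rw [Submodule.span_le]
    rintro _ ⟨J, hJ, e, rfl⟩
    unfold LogConn.piece
    apply Submodule.mem_iSup_of_mem J
    apply Submodule.mem_iSup_of_mem (Finset.mem_powerset.mpr hJ)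
    exact ⟨e, rfl⟩

omit [Module A L] [IsScalarTower A B L] in
theorem gen_mem_piece (nabla : E →ₗ[A] E ⊗[B] L) {n : ℕ} (ω : Module.Basis (Fin n) B L)
    (t : Fin n → B) (I J : Finset (Fin n)) (hJ : J ⊆ I) (e : E) :
    (∏ i ∈ I \ J, t i) • LogConn.compProd nabla ω J e ∈ LogConn.piece nabla ω t I := by
  rw [piece_eq_span]
  exact Submodule.subset_span ⟨J, hJ, e, rfl⟩

omit [Module A L] [IsScalarTower A B L] in
theorem compProd_insert (nabla : E →ₗ[A] E ⊗[B] L) {n : ℕ} (ω : Module.Basis (Fin n) B L)
    (a : Fin n) (J : Finset (Fin n)) (ha : ∀ x ∈ J, a < x) (e : E) :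
    LogConn.compProd nabla ω (insert a J) e =
      LogConn.comp nabla ω a (LogConn.compProd nabla ω J e) := by
  have h2 : a ∉ J := fun h => lt_irrefl a (ha a h)
  unfold LogConn.compProd
  rw [Finset.sort_insert (· ≤ ·) (fun b hb => le_of_lt (ha b hb)) h2, List.foldr_cons]
  rfl

omit [Module A L] [IsScalarTower A B L] in
/-- multiplying by the missing coordinates maps `piece J` into `piece I` -/
theorem smul_piece_le (nabla : E →ₗ[A] E ⊗[B] L) {n : ℕ} (ω : Module.Basis (Fin n) B L)
    (t : Fin n → B) (I J : Finset (Fin n)) (hJ : J ⊆ I) (y : E)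
    (hy : y ∈ LogConn.piece nabla ω t J) :
    (∏ i ∈ I \ J, t i) • y ∈ LogConn.piece nabla ω t I := by
  rw [piece_eq_span] at hy
  induction hy using Submodule.span_induction with
  | mem x hx =>
    obtain ⟨K, hK, e, rfl⟩ := hx
    rw [smul_smul, ← Finset.prod_union (by
      rw [Finset.disjoint_left]
      intro x hx1 hx2
      rw [Finset.mem_sdiff] at hx1 hx2
      exact hx1.2 hx2.1)]
    have : I \ J ∪ J \ K = I \ K := by
      ext x
      simp only [Finset.mem_union, Finset.mem_sdiff]
      constructor
      · rintro (⟨h1, h2⟩ | ⟨h1, h2⟩)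
        · exact ⟨h1, fun h => h2 (hK h)⟩
        · exact ⟨hJ h1, h2⟩
      · rintro ⟨h1, h2⟩
        by_cases hx : x ∈ J
        · exact Or.inr ⟨hx, h2⟩
        · exact Or.inl ⟨h1, hx⟩
    rw [this]
    exact gen_mem_piece nabla ω t I K (hK.trans hJ) e
  | zero => rw [smul_zero]; exact Submodule.zero_mem _
  | add x y _ _ hx hy => rw [smul_add]; exact Submodule.add_mem _ hx hy
  | smul c x _ hx =>
    rw [smul_comm]
    exact Submodule.smul_mem _ c hx

end

section main
variable {A : Type v} {B L E : Type u} [CommRing A] [CommRing B]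
    [Algebra A B] [AddCommGroup L] [Module B L] [Module A L] [IsScalarTower A B L]
    [AddCommGroup E] [Module B E] [Module A E] [IsScalarTower A B E]
    (lam : B) {n : ℕ} (t : Fin n → B) (bΩ : Module.Basis (Fin n) B (KaehlerDifferential A B))
    (hbΩ : ∀ i, bΩ i = KaehlerDifferential.D A B (t i))
    (ω : Module.Basis (Fin n) B L) (ι : KaehlerDifferential A B →ₗ[B] L)
    (hι : ∀ i, ι (KaehlerDifferential.D A B (t i)) = t i • ω i)
    (nabla : E →ₗ[A] E ⊗[B] L)
    (hc : Conn.IsLamConn (ι.compDer (KaehlerDifferential.D A B)) lam nabla)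

include hc in
theorem comp_smul (a : Fin n) (b : B) (e : E) :
    LogConn.comp nabla ω a (b • e) =
      b • LogConn.comp nabla ω a e +
        (lam * ω.coord a (ι (KaehlerDifferential.D A B b))) • e := by
  unfold LogConn.comp
  rw [Conn.along_apply, hc b e, map_add, map_add, Conn.along_apply]
  simp [mul_smul]

include hbΩ hι in
theorem coord_eq (a : Fin n) (b : B) :
    ω.coord a (ι (KaehlerDifferential.D A B b)) =
      t a * bΩ.coord a (KaehlerDifferential.D A B b) := by
  conv_lhs => rw [← bΩ.sum_repr (KaehlerDifferential.D A B b)]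
  rw [map_sum, map_sum, Finset.sum_eq_single a]
  · rw [map_smul, map_smul, hbΩ, hι, map_smul, smul_eq_mul, smul_eq_mul, Module.Basis.coord_apply,
      Module.Basis.repr_self, Finsupp.single_eq_same, mul_one, mul_comm]
    rfl
  · intro j _ hja
    rw [map_smul, map_smul, hbΩ, hι, map_smul, Module.Basis.coord_apply, Module.Basis.repr_self,
      Finsupp.single_eq_of_ne (Ne.symm hja)]
    simp
  · intro h; exact absurd (Finset.mem_univ _) h

include hι in
theorem coord_prod_eq_zero (a : Fin n) (S : Finset (Fin n)) (ha : a ∉ S) :
    ω.coord a (ι (KaehlerDifferential.D A B (∏ i ∈ S, t i))) = 0 := by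
  induction S using Finset.induction_on with
  | empty => simp
  | insert j S hj ih =>
    rw [Finset.prod_insert hj, Derivation.leibniz, map_add, map_add, map_smul, map_smul, map_smul,
      map_smul, ih (fun h => ha (Finset.mem_insert_of_mem h)), hι, map_smul,
      Module.Basis.coord_apply, Module.Basis.repr_self,
      Finsupp.single_eq_of_ne (fun h : a = j => ha (h ▸ Finset.mem_insert_self a S))]
    simp

include hbΩ hι hc in
theorem smul_compProd_mem (J : Finset (Fin n)) :
    ∀ (b : B) (e : E), b • LogConn.compProd nabla ω J e ∈ LogConn.piece nabla ω t J := by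
  induction J using Finset.induction_on_min with
  | empty =>
    intro b e
    have := gen_mem_piece nabla ω t ∅ ∅ (Finset.Subset.refl _) (b • e)
    simp only [Finset.sdiff_self, Finset.prod_empty, one_smul] at this
    have h1 : LogConn.compProd nabla ω ∅ (b • e) = b • LogConn.compProd nabla ω ∅ e := by
      unfold LogConn.compProd
      simp
    rw [h1] at this
    exact this
  | insert a J ha ih =>
    intro b e
    have haJ : a ∉ J := fun h => lt_irrefl a (ha a h)
    rw [compProd_insert nabla ω a J ha]
    set y := LogConn.compProd nabla ω J e with hy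
    have h1 : b • LogConn.comp nabla ω a y =
        LogConn.comp nabla ω a (b • y) -
          (lam * ω.coord a (ι (KaehlerDifferential.D A B b))) • y := by
      rw [comp_smul lam ω ι nabla hc]
      abel
    rw [h1]
    apply Submodule.sub_mem
    · -- ∇_a maps piece J into piece (insert a J)
      have hby := ih b e
      rw [← hy] at hby
      revert hby
      generalize b • y = w
      intro hby
      rw [piece_eq_span] at hby
      induction hby using Submodule.span_induction with
      | mem x hx =>
        obtain ⟨K, hK, e', rfl⟩ := hx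
        rw [comp_smul lam ω ι nabla hc, coord_prod_eq_zero t ω ι hι a (J \ K)
          (fun h => haJ (Finset.mem_sdiff.mp h).1), mul_zero, zero_smul, add_zero,
          ← compProd_insert nabla ω a K (fun x hx => ha x (hK hx))]
        have hsd : insert a J \ insert a K = J \ K := by
          ext x
          simp only [Finset.mem_sdiff, Finset.mem_insert]
          constructor
          · rintro ⟨h1 | h1, h2⟩
            · exact absurd (Or.inl h1) h2
            · exact ⟨h1, fun h => h2 (Or.inr h)⟩
          · rintro ⟨h1, h2⟩
            refine ⟨Or.inr h1, ?_⟩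
            rintro (h | h)
            · exact haJ (h ▸ h1)
            · exact h2 h
        rw [← hsd]
        exact gen_mem_piece nabla ω t (insert a J) (insert a K)
          (Finset.insert_subset_insert a hK) e'
      | zero => rw [map_zero]; exact Submodule.zero_mem _
      | add x z _ _ hx hz => rw [map_add]; exact Submodule.add_mem _ hx hz
      | smul c x _ hx => rw [map_smul]; exact Submodule.smul_mem _ c hx
    · rw [coord_eq t bΩ hbΩ ω ι hι, ← mul_assoc, mul_comm lam, mul_assoc, mul_smul]
      have h2 := ih (lam * bΩ.coord a (KaehlerDifferential.D A B b)) e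
      rw [← hy] at h2
      have h3 := smul_piece_le nabla ω t (insert a J) J (Finset.subset_insert a J) _ h2
      have h4 : insert a J \ J = {a} := by
        ext x
        simp only [Finset.mem_sdiff, Finset.mem_insert, Finset.mem_singleton]
        constructor
        · rintro ⟨h | h, h'⟩
          · exact h
          · exact absurd h h'
        · intro h
          exact ⟨Or.inl h, h ▸ haJ⟩
      rw [h4, Finset.prod_singleton] at h3
      exact h3

include hbΩ hι hc in
theorem main (I : Finset (Fin n)) (b : B) (x : E) (hx : x ∈ LogConn.piece nabla ω t I) :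
    b • x ∈ LogConn.piece nabla ω t I := by
  rw [piece_eq_span] at hx
  induction hx using Submodule.span_induction with
  | mem x hx =>
    obtain ⟨J, hJ, e, rfl⟩ := hx
    rw [smul_comm]
    exact smul_piece_le nabla ω t I J hJ _ (smul_compProd_mem lam t bΩ hbΩ ω ι hι nabla hc J b e)
  | zero => rw [smul_zero]; exact Submodule.zero_mem _
  | add x y _ _ hx hy => rw [smul_add]; exact Submodule.add_mem _ hx hy
  | smul c x _ hx =>
    rw [smul_comm]
    exact Submodule.smul_mem _ c hx

end main

end Groth.Agent.Helper8.LogPiece
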