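import Mathlib
import Groth.Prelude.Def_Conn
import Groth.Prelude.Def_W4swconnpcurvhiggsLogLam
import Groth.Agent.Helper8.LogPiece

set_option autoImplicit false
universe v u

namespace Groth.Agent.Helper8.LogPiece2

open TensorProduct Groth.Agent.Helper8.LogPiece

section main
variable {A : Type v} {B L E : Type u} [CommRing A] [CommRing B]
    [Algebra A B] [AddCommGroup L] [Module B L] [Module A L] [IsScalarTower A B L]
    [AddCommGroup E] [Module B E] [Module A E] [IsScalarTower A B E]
    (lam : B) {n : ℕ} (t : Fin n → B) (bΩ : Module.Basis (Fin n) B (KaehlerDifferential A B))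
    (hbΩ : ∀ i, bΩ i = KaehlerDifferential.D A B (t i))
    (ω : Module.Basis (Fin n) B L) (ι : KaehlerDifferential A B →ₗ[B] L)
    (hι : ∀ i, ι (KaehlerDifferential.D A B (t i)) = t i • ω i)
    (nabla : E →ₗ[A] E ⊗[B] L)
    (hc : Conn.IsLamConn (ι.compDer (KaehlerDifferential.D A B)) lam nabla)
    {m : ℕ} (e : Fin m → E)

/-- the `B`-span of the generators attached to the family `e` -/
def S (I : Finset (Fin n)) : Submodule B E :=
  Submodule.span B (⋃ J ∈ I.powerset, Set.range (fun k : Fin m =>
        (∏ i ∈ I \ J, t i) • LogConn.compProd nabla ω J (e k)))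

omit [Module A L] [IsScalarTower A B L] in
theorem gen_mem_S (I J : Finset (Fin n)) (hJ : J ⊆ I) (k : Fin m) :
    (∏ i ∈ I \ J, t i) • LogConn.compProd nabla ω J (e k) ∈ S t ω nabla e I := by
  apply Submodule.subset_span
  simp only [Set.mem_iUnion, Set.mem_range]
  exact ⟨J, Finset.mem_powerset.mpr hJ, k, rfl⟩

omit [Module A L] [IsScalarTower A B L] in
theorem smul_S_le (I J : Finset (Fin n)) (hJ : J ⊆ I) (y : E) (hy : y ∈ S t ω nabla e J) :
    (∏ i ∈ I \ J, t i) • y ∈ S t ω nabla e I := by
  unfold S at hy
  induction hy using Submodule.span_induction with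
  | mem x hx =>
    simp only [Set.mem_iUnion, Set.mem_range] at hx
    obtain ⟨K, hK, k, rfl⟩ := hx
    rw [Finset.mem_powerset] at hK
    rw [smul_smul, ← Finset.prod_union (by
      rw [Finset.disjoint_left]
      intro x hx1 hx2
      rw [Finset.mem_sdiff] at hx1 hx2
      exact hx1.2 hx2.1)]
    have : I \ J ∪ J \ K = I \ K := by
      ext x
      simp only [Finset.mem_union, Finset.mem_sdiff]
      constructor
      · rintro (⟨h1, h2⟩ | ⟨h1, h2⟩)
        · exact ⟨h1, fun h => h2 (hK h)⟩
        · exact ⟨hJ h1, h2⟩
      · rintro ⟨h1, h2⟩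
        by_cases hx : x ∈ J
        · exact Or.inr ⟨hx, h2⟩
        · exact Or.inl ⟨h1, hx⟩
    rw [this]
    exact gen_mem_S t ω nabla e I K (hK.trans hJ) k
  | zero => rw [smul_zero]; exact Submodule.zero_mem _
  | add x y _ _ hx hy => rw [smul_add]; exact Submodule.add_mem _ hx hy
  | smul c x _ hx =>
    rw [smul_comm]
    exact Submodule.smul_mem _ c hx

include hbΩ hι hc in
theorem comp_maps_S (a : Fin n) (J : Finset (Fin n)) (ha : ∀ x ∈ J, a < x) (w : E)
    (hw : w ∈ S t ω nabla e J) :
    LogConn.comp nabla ω a w ∈ S t ω nabla e (insert a J) := by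
  have haJ : a ∉ J := fun h => lt_irrefl a (ha a h)
  have h4 : insert a J \ J = {a} := by
    ext x
    simp only [Finset.mem_sdiff, Finset.mem_insert, Finset.mem_singleton]
    constructor
    · rintro ⟨h | h, h'⟩
      · exact h
      · exact absurd h h'
    · intro h
      exact ⟨Or.inl h, h ▸ haJ⟩
  have hta : ∀ w ∈ S t ω nabla e J, t a • w ∈ S t ω nabla e (insert a J) := by
    intro w hw
    have h3 := smul_S_le t ω nabla e (insert a J) J (Finset.subset_insert a J) w hw
    rwa [h4, Finset.prod_singleton] at h3
  have hw' := hw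
  unfold S at hw
  induction hw using Submodule.span_induction with
  | mem x hx =>
    simp only [Set.mem_iUnion, Set.mem_range] at hx
    obtain ⟨K, hK, k, rfl⟩ := hx
    rw [Finset.mem_powerset] at hK
    rw [comp_smul lam ω ι nabla hc, coord_prod_eq_zero t ω ι hι a (J \ K)
      (fun h => haJ (Finset.mem_sdiff.mp h).1), mul_zero, zero_smul, add_zero,
      ← compProd_insert nabla ω a K (fun x hx => ha x (hK hx))]
    have hsd : insert a J \ insert a K = J \ K := by
      ext x
      simp only [Finset.mem_sdiff, Finset.mem_insert]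
      constructor
      · rintro ⟨h1 | h1, h2⟩
        · exact absurd (Or.inl h1) h2
        · exact ⟨h1, fun h => h2 (Or.inr h)⟩
      · rintro ⟨h1, h2⟩
        refine ⟨Or.inr h1, ?_⟩
        rintro (h | h)
        · exact haJ (h ▸ h1)
        · exact h2 h
    rw [← hsd]
    exact gen_mem_S t ω nabla e (insert a J) (insert a K) (Finset.insert_subset_insert a hK) k
  | zero => rw [map_zero]; exact Submodule.zero_mem _
  | add x z hx' hz' hx hz =>
    rw [map_add]
    exact Submodule.add_mem _ (hx hx') (hz hz')
  | smul c x hx' hx =>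
    rw [comp_smul lam ω ι nabla hc, coord_eq t bΩ hbΩ ω ι hι, ← mul_assoc, mul_comm lam, mul_assoc,
      mul_smul]
    apply Submodule.add_mem
    · exact Submodule.smul_mem _ c (hx hx')
    · apply hta
      exact Submodule.smul_mem _ _ hx'

include hbΩ hι hc in
theorem compProd_smul_mem (J : Finset (Fin n)) :
    ∀ (b : B) (k : Fin m), LogConn.compProd nabla ω J (b • e k) ∈ S t ω nabla e J := by
  induction J using Finset.induction_on_min with
  | empty =>
    intro b k
    have := gen_mem_S t ω nabla e ∅ ∅ (Finset.Subset.refl _) k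
    simp only [Finset.sdiff_self, Finset.prod_empty, one_smul] at this
    have h1 : LogConn.compProd nabla ω ∅ (b • e k) = b • LogConn.compProd nabla ω ∅ (e k) := by
      unfold LogConn.compProd
      simp
    rw [h1]
    exact Submodule.smul_mem _ b this
  | insert a J ha ih =>
    intro b k
    rw [compProd_insert nabla ω a J ha]
    exact comp_maps_S lam t bΩ hbΩ ω ι hι nabla hc e a J ha _ (ih b k)

include hbΩ hι hc in
theorem main (he : Submodule.span B (Set.range e) = ⊤) (I : Finset (Fin n)) :
    (Submodule.span B (⋃ J ∈ I.powerset, Set.range (fun k : Fin m =>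
        (∏ i ∈ I \ J, t i) • LogConn.compProd nabla ω J (e k)))).restrictScalars A =
      LogConn.piece nabla ω t I := by
  apply le_antisymm
  · intro x hx
    rw [Submodule.restrictScalars_mem] at hx
    induction hx using Submodule.span_induction with
    | mem x hx =>
      simp only [Set.mem_iUnion, Set.mem_range] at hx
      obtain ⟨J, hJ, k, rfl⟩ := hx
      exact gen_mem_piece nabla ω t I J (Finset.mem_powerset.mp hJ) (e k)
    | zero => exact Submodule.zero_mem _
    | add x y _ _ hx hy => exact Submodule.add_mem _ hx hy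
    | smul c x _ hx =>
      exact Groth.Agent.Helper8.LogPiece.main lam t bΩ hbΩ ω ι hι nabla hc I c x hx
  · rw [piece_eq_span, Submodule.span_le]
    rintro _ ⟨J, hJ, x, rfl⟩
    rw [SetLike.mem_coe, Submodule.restrictScalars_mem]
    apply smul_S_le t ω nabla e I J hJ
    have hx : x ∈ Submodule.span B (Set.range e) := by rw [he]; trivial
    rw [Submodule.mem_span_range_iff_exists_fun] at hx
    obtain ⟨c, rfl⟩ := hx
    rw [map_sum]
    apply Submodule.sum_mem
    intro k _
    exact compProd_smul_mem lam t bΩ hbΩ ω ι hι nabla hc e J (c k) k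

end main

end Groth.Agent.Helper8.LogPiece2
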