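import Mathlib
import Groth.Prelude.Def_Desc
import Groth.Prelude.Def_DescFam
import Groth.Prelude.Def_Mor2
import Groth.Agent.Helper8.QAffB
import Groth.Agent.Helper8.DescB
import Groth.Agent.Helper8.DescC

/-!
# fpqc descent of quasi-affine schemes: reduction to the affine case
-/

set_option autoImplicit false
universe u

namespace Groth.Agent.Helper8.QAff

open CategoryTheory CategoryTheory.Limits AlgebraicGeometry
open Groth.Agent.Helper8.DDGrpd Groth.Agent.Helper8.DGlue Groth.Agent.Helper8.DescAff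

section QuasiAffine

/-- finite coproducts of quasi-affine schemes are quasi-affine -/
lemma isQuasiAffine_sigma {ι : Type u} [Finite ι] (Y : ι → Scheme.{u})
    [∀ i, (Y i).IsQuasiAffine] : (∐ Y).IsQuasiAffine := by
  let Z : ι → Scheme.{u} := fun i => Spec Γ(Y i, ⊤)
  let α : ∀ i, Y i ⟶ ∐ Z := fun i => (Y i).toSpecΓ ≫ Sigma.ι Z i
  haveI : ∀ i, IsOpenImmersion (α i) := fun i => inferInstance
  have hα : Pairwise (Function.onFun Disjoint (fun i => Set.range (α i))) := by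
    intro i j hij
    have h := disjoint_opensRange_sigmaι Z i j hij
    have h' : Disjoint (Set.range (Sigma.ι Z i)) (Set.range (Sigma.ι Z j)) := by
      rw [← Scheme.Hom.coe_opensRange, ← Scheme.Hom.coe_opensRange,
        TopologicalSpace.Opens.coe_disjoint]
      exact h
    refine Set.disjoint_of_subset ?_ ?_ h'
    · rintro _ ⟨y, rfl⟩
      exact ⟨(Y i).toSpecΓ y, (Scheme.Hom.comp_apply _ _ _).symm⟩
    · rintro _ ⟨y, rfl⟩
      exact ⟨(Y j).toSpecΓ y, (Scheme.Hom.comp_apply _ _ _).symm⟩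
  haveI : IsOpenImmersion (Sigma.desc α) := isOpenImmersion_sigmaDesc Y α hα
  haveI : CompactSpace ↥(∐ Y) := (sigmaMk Y).compactSpace
  haveI : IsAffine (∐ Z) := inferInstance
  exact Scheme.IsQuasiAffine.of_isImmersion (Sigma.desc α)

/-- the base change of a quasi-affine morphism to a finite disjoint union of affine opens has
quasi-affine total space -/
lemma isQuasiAffine_pullback_sigmaDesc {V X : Scheme.{u}} (f : V ⟶ X) {ι : Type u} [Finite ι]
    (W : ι → X.Opens) (hW : ∀ i, ((f ⁻¹ᵁ W i : V.Opens) : Scheme.{u}).IsQuasiAffine) :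
    (pullback f (Sigma.desc fun i => (W i).ι)).IsQuasiAffine := by
  haveI := hW
  let Xi : ι → Scheme.{u} := fun i => ((W i : X.Opens) : Scheme.{u})
  let P : ι → Scheme.{u} := fun i => ((f ⁻¹ᵁ W i : V.Opens) : Scheme.{u})
  let a : Cofan Xi := Cofan.mk (∐ Xi) (Sigma.ι Xi)
  have ha : IsColimit a := coproductIsCoproduct Xi
  have hau : IsUniversalColimit a := FinitaryPreExtensive.isUniversal_finiteCoproducts ha
  let d : Cofan P := Cofan.mk (∐ P) (Sigma.ι P)
  have hd : IsColimit d := coproductIsCoproduct P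
  have H := IsUniversalColimit.isPullback_of_isColimit_left hau (fun i => (W i).ι)
    (Sigma.desc fun i => (W i).ι) f (fun i => (f ⁻¹ᵁ W i).ι) (fun i => f ∣_ W i)
    (fun i => (isPullback_morphismRestrict f (W i)).flip) hd
    (fun i => Sigma.ι_desc _ _)
  haveI hdq : d.pt.IsQuasiAffine := isQuasiAffine_sigma P
  haveI : CompactSpace ↥d.pt := hdq.toCompactSpace
  haveI : CompactSpace ↥(pullback f (Sigma.desc fun i => (W i).ι)) :=
    (Scheme.homeoOfIso H.isoPullback).compactSpace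
  exact Scheme.IsQuasiAffine.of_isImmersion H.isoPullback.inv

/-- quasi-affine morphisms restrict to quasi-affine morphisms over opens -/
lemma isQuasiAffine_restrict {V X : Scheme.{u}} (f : V ⟶ X) (hf : Mor2.IsQuasiAffine f)
    (U : X.Opens) : Mor2.IsQuasiAffine (f ∣_ U) := by
  haveI := hf.1
  haveI hqc : QuasiCompact (f ∣_ U) := IsZariskiLocalAtTarget.restrict (P := @QuasiCompact) hf.1 U
  refine ⟨hqc, fun W hW => ?_⟩
  have hW' : IsAffineOpen (U.ι ''ᵁ W) := hW.image_of_isOpenImmersion U.ι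
  haveI := hf.2 _ hW'
  let A : Scheme.{u} := (((f ∣_ U) ⁻¹ᵁ W : (f ⁻¹ᵁ U).toScheme.Opens) : Scheme.{u})
  let j : A ⟶ V := ((f ∣_ U) ⁻¹ᵁ W).ι ≫ (f ⁻¹ᵁ U).ι
  have hr : Set.range j ⊆ Set.range (f ⁻¹ᵁ (U.ι ''ᵁ W)).ι := by
    rintro _ ⟨a, rfl⟩
    rw [Scheme.Opens.range_ι]
    show f (j a) ∈ U.ι ''ᵁ W
    have e : f (j a) = U.ι ((f ∣_ U) (((f ∣_ U) ⁻¹ᵁ W).ι a)) := by
      rw [← Scheme.Hom.comp_apply, ← Scheme.Hom.comp_apply, morphismRestrict_ι,
        ← Scheme.Hom.comp_apply]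
      rfl
    rw [e]
    exact ⟨_, a.2, rfl⟩
  let g : A ⟶ ((f ⁻¹ᵁ (U.ι ''ᵁ W) : V.Opens) : Scheme.{u}) :=
    IsOpenImmersion.lift (f ⁻¹ᵁ (U.ι ''ᵁ W)).ι j hr
  have hg : g ≫ (f ⁻¹ᵁ (U.ι ''ᵁ W)).ι = j := IsOpenImmersion.lift_fac _ _ _
  haveI : IsOpenImmersion (g ≫ (f ⁻¹ᵁ (U.ι ''ᵁ W)).ι) := by rw [hg]; infer_instance
  haveI : IsOpenImmersion g := IsOpenImmersion.of_comp g (f ⁻¹ᵁ (U.ι ''ᵁ W)).ι
  haveI : CompactSpace ↥A :=
    isCompact_iff_compactSpace.mp ((f ∣_ U).isCompact_preimage hW.isCompact)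
  exact Scheme.IsQuasiAffine.of_isImmersion g

end QuasiAffine

section Refine

open Desc

variable {X S : Scheme.{u}} (p : X ⟶ S) [Surjective p] [Flat p] [QuasiCompact p]

/-- descent data with `V ⟶ X` quasi-affine relative to an fpqc morphism with affine target are
effective -/
theorem effective_of_affine_base [IsAffine S] (D : Desc.SchDD p)
    (hD : Mor2.IsQuasiAffine D.obj.hom) : ∃ U : Over S, Nonempty ((Desc.toDD p).obj U ≅ D) := by
  -- a finite affine open cover of `X`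
  haveI : CompactSpace X := QuasiCompact.compactSpace_of_compactSpace p
  obtain ⟨s, hfin, hs⟩ := (isCompact_iff_finite_and_eq_biUnion_affineOpens (X := X) (U := ⊤)).mp
    (by simpa using isCompact_univ)
  haveI : Finite s := hfin.to_subtype
  haveI : ∀ W : s, IsAffine ((W.1.1 : X.Opens) : Scheme.{u}) := fun W => W.1.2
  let X' : Scheme.{u} := ∐ (fun W : s => ((W.1.1 : X.Opens) : Scheme.{u}))
  let r : X' ⟶ X := Sigma.desc (fun W : s => (W.1.1 : X.Opens).ι)
  haveI : IsAffine X' := inferInstance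
  haveI : Flat r := IsZariskiLocalAtSource.sigmaDesc (fun W => inferInstance)
  haveI : Surjective r := by
    refine ⟨fun x => ?_⟩
    have hx : x ∈ (⊤ : X.Opens) := trivial
    rw [hs] at hx
    simp only [TopologicalSpace.Opens.mem_iSup] at hx
    obtain ⟨W, hW, hxW⟩ := hx
    refine ⟨Sigma.ι (fun W : s => ((W.1.1 : X.Opens) : Scheme.{u})) ⟨W, hW⟩ ⟨x, hxW⟩, ?_⟩
    rw [← Scheme.Hom.comp_apply, Sigma.ι_desc]
    rfl
  let p' : X' ⟶ S := r ≫ p
  haveI : Flat p' := inferInstance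
  haveI : Surjective p' := inferInstance
  haveI : QuasiCompact p' := inferInstance
  have w : r ≫ p = p' ≫ 𝟙 S := (Category.comp_id _).symm
  -- the pullback functor is fully faithful
  let F := pullDDFam (f := fun _ : PUnit.{1} => p) (f' := fun _ : PUnit.{1} => p') (α := fun i => i)
    (p := 𝟙 S) (p' := fun _ => r) (fun _ => w)
  have hF : F.Full ∧ F.Faithful := by
    refine Groth.Agent.Helper8.DescB.full_faithful _
      (Groth.Agent.Helper8.DescC.hasLocalLifts_of_cover ?_)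
    rw [Presieve.ofArrows_pUnit]
    exact Scheme.Hom.singleton_mem_fpqcPrecoverage p'
  haveI := hF.1
  haveI := hF.2
  -- the pulled back descent datum has quasi-affine total space
  let D' : Desc.SchDD p' := (SchDDFam.toSchDD p').obj (F.obj ((SchDDFam.ofSchDD p).obj D))
  haveI : D'.obj.left.IsQuasiAffine :=
    isQuasiAffine_pullback_sigmaDesc D.obj.hom (fun W : s => (W.1.1 : X.Opens))
      (fun W => hD.2 _ W.1.2)
  obtain ⟨U, ⟨e'⟩⟩ := effective_affine D'
  obtain ⟨κ⟩ := pull_toDD_iso p r p' w U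
  let i' : D' ≅ (SchDDFam.toSchDD p').obj (F.obj ((toDDFam (fun _ : PUnit.{1} => p)).obj U)) :=
    e'.symm ≪≫ κ
  let i'' : F.obj ((SchDDFam.ofSchDD p).obj D) ≅ F.obj ((toDDFam (fun _ : PUnit.{1} => p)).obj U) :=
    (SchDDFam.ofSchDD p').mapIso i'
  let j := F.preimageIso i''
  exact ⟨U, ⟨(SchDDFam.toSchDD p).mapIso j.symm⟩⟩

/-- **fpqc descent for schemes quasi-affine over the cover** -/
theorem effective_of_isQuasiAffine (D : Desc.SchDD p) (hD : Mor2.IsQuasiAffine D.obj.hom) :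
    ∃ U : Over S, Nonempty ((Desc.toDD p).obj U ≅ D) := by
  apply effective_of_locally_effective D
  intro v
  obtain ⟨_, ⟨(S₁ : S.Opens), hS₁, rfl⟩, hsS₁, -⟩ :=
    S.isBasis_affineOpens.exists_subset_of_mem_open (Set.mem_univ (p (D.obj.hom v))) isOpen_univ
  replace hS₁ : IsAffineOpen S₁ := hS₁
  -- the preimage of `S₁` in the total space is stable
  have hst : IsSt D (D.obj.hom ⁻¹ᵁ (p ⁻¹ᵁ S₁)) := by
    intro r
    show p (D.obj.hom (sR D r)) ∈ S₁ ↔ p (D.obj.hom (tR D r)) ∈ S₁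
    have e : p (D.obj.hom (sR D r)) = p (D.obj.hom (tR D r)) := by
      have h1 : (sR D ≫ D.obj.hom) ≫ p = (tR D ≫ D.obj.hom) ≫ p := by
        rw [tR_hom]; exact cond D
      have := congrArg (fun m : R D ⟶ S => m r) h1
      simpa [Scheme.Hom.comp_apply] using this
    rw [e]
  have hlW := hl_of_isSt D hst
  let D₁ := subDD D (D.obj.hom ⁻¹ᵁ (p ⁻¹ᵁ S₁)).ι hlW
  refine ⟨D₁, subι D _ hlW, (inferInstance : IsOpenImmersion (D.obj.hom ⁻¹ᵁ (p ⁻¹ᵁ S₁)).ι),
    ⟨⟨v, hsS₁⟩, rfl⟩, ?_⟩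
  have hX : IsPullback (p ⁻¹ᵁ S₁).ι (p ∣_ S₁) p S₁.ι := (isPullback_morphismRestrict p S₁).flip
  have hh : (D.obj.hom ∣_ (p ⁻¹ᵁ S₁)) ≫ (p ⁻¹ᵁ S₁).ι = D₁.obj.hom := morphismRestrict_ι _ _
  let D₂ : Desc.SchDD (p ∣_ S₁) := restrBase D₁ hX.w hh
  haveI : IsAffine (S₁ : Scheme.{u}) := hS₁
  haveI : Surjective (p ∣_ S₁) := IsZariskiLocalAtTarget.restrict (P := @Surjective) inferInstance S₁
  haveI : Flat (p ∣_ S₁) := IsZariskiLocalAtTarget.restrict (P := @Flat) inferInstance S₁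
  haveI : QuasiCompact (p ∣_ S₁) :=
    IsZariskiLocalAtTarget.restrict (P := @QuasiCompact) inferInstance S₁
  have hD₂ : Mor2.IsQuasiAffine D₂.obj.hom := isQuasiAffine_restrict D.obj.hom hD (p ⁻¹ᵁ S₁)
  obtain ⟨U₁, ⟨e₁⟩⟩ := effective_of_affine_base (p ∣_ S₁) D₂ hD₂
  exact ⟨_, effective_of_restrBase D₁ hh hX U₁ e₁⟩

end Refine

end Groth.Agent.Helper8.QAff
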