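import Mathlib
import Groth.Prelude.Def_Desc
import Groth.Prelude.Def_Mor2
import Groth.Agent.Helper8.QAffC
import Groth.Agent.Helper8.FinDesc
import Groth.Agent.Lead.SchDescent

/-!
# fpqc descent of separated quasi-compact locally quasi-finite schemes (in particular étale ones)
-/

set_option autoImplicit false
universe u

namespace Groth.Agent.Helper8.QAff

open CategoryTheory CategoryTheory.Limits AlgebraicGeometry

/-- separated quasi-compact locally quasi-finite morphisms locally of finite type are quasi-affine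
(Zariski's main theorem) -/
theorem isQuasiAffine_of_lqf {V X : Scheme.{u}} (f : V ⟶ X) [QuasiCompact f] [IsSeparated f]
    [LocallyQuasiFinite f] [LocallyOfFiniteType f] : Mor2.IsQuasiAffine f := by
  refine ⟨inferInstance, fun W hW => ?_⟩
  haveI : IsAffine (W : Scheme.{u}) := hW
  haveI : QuasiCompact (f ∣_ W) := IsZariskiLocalAtTarget.restrict (P := @QuasiCompact) inferInstance W
  haveI : IsSeparated (f ∣_ W) := IsZariskiLocalAtTarget.restrict (P := @IsSeparated) inferInstance W
  haveI : LocallyQuasiFinite (f ∣_ W) := inferInstance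
  haveI : LocallyOfFiniteType (f ∣_ W) :=
    IsZariskiLocalAtTarget.restrict (P := @LocallyOfFiniteType) inferInstance W
  haveI : IsOpenImmersion (f ∣_ W).toNormalization := inferInstance
  haveI : IsAffine (f ∣_ W).normalization := isAffine_of_isAffineHom (f ∣_ W).fromNormalization
  haveI : CompactSpace ↥((f ⁻¹ᵁ W : V.Opens) : Scheme.{u}) :=
    QuasiCompact.compactSpace_of_compactSpace (f ∣_ W)
  exact Scheme.IsQuasiAffine.of_isImmersion (f ∣_ W).toNormalization

open Groth.Agent.Lead.SchDescent in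
/-- **fpqc descent for étale separated quasi-compact schemes** -/
theorem etale_effective {S' S : Scheme.{u}} (g : S' ⟶ S) [Flat g] [Surjective g] [QuasiCompact g]
    (D : Desc.SchDD g) [QuasiCompact D.obj.hom] [IsSeparated D.obj.hom] [Etale D.obj.hom] :
    ∃ U : Over S, QuasiCompact U.hom ∧ IsSeparated U.hom ∧ Etale U.hom ∧
      Nonempty ((Desc.toDD g).obj U ≅ D) := by
  haveI : LocallyQuasiFinite D.obj.hom := Groth.Agent.Helper8.FinDesc.lqf_of_etale _
  obtain ⟨U, ⟨e⟩⟩ := effective_of_isQuasiAffine g D (isQuasiAffine_of_lqf D.obj.hom)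
  have h1 : e.hom.hom ≫ e.inv.hom = 𝟙 _ := by
    rw [← Desc.SchDD.comp_hom, e.hom_inv_id]; rfl
  have h2 : e.inv.hom ≫ e.hom.hom = 𝟙 _ := by
    rw [← Desc.SchDD.comp_hom, e.inv_hom_id]; rfl
  let i : Over.mk (pullback.fst g U.hom) ≅ D.obj := ⟨e.hom.hom, e.inv.hom, h1, h2⟩
  have hw : i.hom.left ≫ D.obj.hom = pullback.fst g U.hom := Over.w i.hom
  haveI : IsIso i.hom.left := ⟨⟨i.inv.left, by rw [← Over.comp_left, i.hom_inv_id]; rfl,
    by rw [← Over.comp_left, i.inv_hom_id]; rfl⟩⟩
  have hg : (@Surjective ⊓ @Flat ⊓ @QuasiCompact : MorphismProperty Scheme.{u}) g :=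
    ⟨⟨inferInstance, inferInstance⟩, inferInstance⟩
  have hqc : QuasiCompact (pullback.fst g U.hom) := by rw [← hw]; infer_instance
  have hsep : IsSeparated (pullback.fst g U.hom) := by rw [← hw]; infer_instance
  have het : Etale (pullback.fst g U.hom) := by rw [← hw]; infer_instance
  refine ⟨U, ?_, ?_, ?_, ⟨e⟩⟩
  · exact MorphismProperty.of_pullback_fst_of_descendsAlong (P := @QuasiCompact)
      (Q := @Surjective ⊓ @Flat ⊓ @QuasiCompact) (f := g) (g := U.hom) hg hqc
  · exact MorphismProperty.of_pullback_fst_of_descendsAlong (P := @IsSeparated)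
      (Q := @Surjective ⊓ @Flat ⊓ @QuasiCompact) (f := g) (g := U.hom) hg hsep
  · exact MorphismProperty.of_pullback_fst_of_descendsAlong (P := @Etale)
      (Q := @Surjective ⊓ @Flat ⊓ @QuasiCompact) (f := g) (g := U.hom) hg het

end Groth.Agent.Helper8.QAff
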