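import Mathlib
import Groth.Prelude.Def_Desc
import Groth.Prelude.Def_DescFam
import Groth.Prelude.Def_Mor2
import Groth.Agent.Helper8.DescCover
import Groth.Agent.Helper8.QAffD
import Groth.Agent.Helper8.DescSec

/-!
# fppf descent of separated locally quasi-finite schemes, part A: saturation of opens and
quasi-affine descent along fppf morphisms with affine target
-/

set_option autoImplicit false
universe u

namespace Groth.Agent.Helper8.LqfDesc

open CategoryTheory CategoryTheory.Limits AlgebraicGeometry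
open Groth.Agent.Helper8.DDGrpd Groth.Agent.Helper8.DGlue Groth.Agent.Helper8.DescAff

section Sat

variable {X S : Scheme.{u}} {p : X ⟶ S} (D : Desc.SchDD p)

/-- the points related to a point of `V₀` -/
def satSet (V₀ : Set D.obj.left) : Set D.obj.left := sR D '' (tR D ⁻¹' V₀)

lemma subset_satSet (V₀ : Set D.obj.left) : V₀ ⊆ satSet D V₀ := by
  intro v hv
  refine ⟨eR D v, ?_, ?_⟩
  · show tR D (eR D v) ∈ V₀
    rw [← Scheme.Hom.comp_apply, eR_t]
    exact hv
  · rw [← Scheme.Hom.comp_apply, eR_s]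
    rfl

lemma cR_s : cR D ≫ sR D = pullback.snd (sR D) (tR D) ≫ sR D := by
  unfold cR
  exact pullback.lift_fst _ _ _

lemma cR_t : cR D ≫ tR D = pullback.fst (sR D) (tR D) ≫ tR D := by
  have h := lift_cR_t D (pullback.fst (sR D) (tR D)) (pullback.snd (sR D) (tR D))
    pullback.condition
  have e : pullback.lift (pullback.fst (sR D) (tR D)) (pullback.snd (sR D) (tR D))
      pullback.condition = 𝟙 _ := by
    apply pullback.hom_ext
    · rw [pullback.lift_fst, Category.id_comp]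
    · rw [pullback.lift_snd, Category.id_comp]
  rw [e, Category.id_comp] at h
  exact h

lemma satSet_stable (V₀ : Set D.obj.left) (ρ : R D) :
    sR D ρ ∈ satSet D V₀ ↔ tR D ρ ∈ satSet D V₀ := by
  have key : ∀ ρ : R D, sR D ρ ∈ satSet D V₀ → tR D ρ ∈ satSet D V₀ := by
    rintro ρ ⟨r, hr, hsr⟩
    have h : sR D r = tR D (iR D ρ) := by
      rw [hsr, ← Scheme.Hom.comp_apply, iR_t]
    obtain ⟨ζ, hζ1, hζ2⟩ := Scheme.Pullback.exists_preimage_pullback r (iR D ρ) h
    refine ⟨cR D ζ, ?_, ?_⟩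
    · show tR D (cR D ζ) ∈ V₀
      rw [← Scheme.Hom.comp_apply, cR_t, Scheme.Hom.comp_apply, hζ1]
      exact hr
    · rw [← Scheme.Hom.comp_apply, cR_s, Scheme.Hom.comp_apply, hζ2, ← Scheme.Hom.comp_apply,
        iR_s]
  refine ⟨key ρ, fun h => ?_⟩
  have h1 : sR D (iR D ρ) = tR D ρ := by rw [← Scheme.Hom.comp_apply, iR_s]
  have h2 : tR D (iR D ρ) = sR D ρ := by rw [← Scheme.Hom.comp_apply, iR_t]
  rw [← h2]
  exact key _ (by rw [h1]; exact h)

lemma isOpen_satSet [UniversallyOpen p] {V₀ : Set D.obj.left} (h : IsOpen V₀) :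
    IsOpen (satSet D V₀) := by
  haveI : UniversallyOpen (sR D) :=
    MorphismProperty.pullback_fst (P := @UniversallyOpen) _ _ inferInstance
  exact (sR D).isOpenMap _ (h.preimage (tR D).continuous)

lemma satSet_inter_eq (V₀ : Set D.obj.left) (K : Set X) :
    satSet D V₀ ∩ D.obj.hom ⁻¹' K = tR D '' (sR D ⁻¹' V₀ ∩ xR D ⁻¹' K) := by
  ext w
  constructor
  · rintro ⟨⟨r, hr, rfl⟩, hwK⟩
    refine ⟨iR D r, ⟨?_, ?_⟩, ?_⟩
    · show sR D (iR D r) ∈ V₀
      rw [← Scheme.Hom.comp_apply, iR_s]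
      exact hr
    · show xR D (iR D r) ∈ K
      rw [← Scheme.Hom.comp_apply, iR_x, Scheme.Hom.comp_apply]
      exact hwK
    · rw [← Scheme.Hom.comp_apply, iR_t]
  · rintro ⟨r', ⟨h1, h2⟩, rfl⟩
    refine ⟨⟨iR D r', ?_, ?_⟩, ?_⟩
    · show tR D (iR D r') ∈ V₀
      rw [← Scheme.Hom.comp_apply, iR_t]
      exact h1
    · rw [← Scheme.Hom.comp_apply, iR_s]
    · show D.obj.hom (tR D r') ∈ K
      rw [← Scheme.Hom.comp_apply, tR_hom]
      exact h2

lemma isCompact_satSet_inter [IsAffine S] (V₀ : D.obj.left.Opens) (hV₀ : IsAffineOpen V₀)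
    (K : X.Opens) (hK : IsCompact (K : Set X)) :
    IsCompact (satSet D (V₀ : Set D.obj.left) ∩ D.obj.hom ⁻¹' (K : Set X)) := by
  rw [satSet_inter_eq]
  refine IsCompact.image ?_ (tR D).continuous
  haveI : IsAffine (V₀ : Scheme.{u}) := hV₀
  haveI : CompactSpace ↥(K : Scheme.{u}) := isCompact_iff_compactSpace.mp hK
  haveI : QuasiCompact (V₀.ι ≫ f D) := inferInstance
  haveI : CompactSpace ↥(pullback (V₀.ι ≫ f D) (K.ι ≫ p)) := inferInstance
  have hrange := Scheme.Pullback.range_map (V₀.ι ≫ f D) (K.ι ≫ p) (f D) p V₀.ι K.ι (𝟙 S)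
    (by simp) (by simp)
  rw [Scheme.Opens.range_ι, Scheme.Opens.range_ι] at hrange
  have hc : IsCompact (Set.range (pullback.map (V₀.ι ≫ f D) (K.ι ≫ p) (f D) p V₀.ι K.ι (𝟙 S)
      (by simp) (by simp))) := isCompact_range (Scheme.Hom.continuous _)
  rw [hrange] at hc
  exact hc

end Sat

end Groth.Agent.Helper8.LqfDesc
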