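import Mathlib
import Groth.Agent.Helper8.LqfDescA

/-!
# fppf descent of separated locally quasi-finite schemes, part B
-/

set_option autoImplicit false
universe u

namespace Groth.Agent.Helper8.LqfDesc

open CategoryTheory CategoryTheory.Limits AlgebraicGeometry
open Groth.Agent.Helper8.DDGrpd Groth.Agent.Helper8.DGlue Groth.Agent.Helper8.DescAff
open Groth.Agent.Helper8.QAff

section AffineBase

open Desc

variable {X S : Scheme.{u}} (p : X ⟶ S) [Surjective p] [Flat p] [LocallyOfFinitePresentation p]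

/-- descent data with `V ⟶ X` quasi-affine relative to an fppf morphism with affine target are
effective -/
theorem effective_of_affine_base_fppf [IsAffine S] (D : Desc.SchDD p)
    (hD : Mor2.IsQuasiAffine D.obj.hom) : ∃ U : Over S, Nonempty ((Desc.toDD p).obj U ≅ D) := by
  -- finitely many affine opens of `X` whose images cover `S`
  have hopen : ∀ W : X.affineOpens, IsOpen (p '' ((W.1 : X.Opens) : Set X)) :=
    fun W => p.isOpenMap _ W.1.isOpen
  have hcov : (Set.univ : Set S) ⊆ ⋃ W : X.affineOpens, p '' ((W.1 : X.Opens) : Set X) := by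
    intro y _
    obtain ⟨x, rfl⟩ := p.surjective y
    obtain ⟨_, ⟨(W : X.Opens), hW, rfl⟩, hxW, -⟩ :=
      X.isBasis_affineOpens.exists_subset_of_mem_open (Set.mem_univ x) isOpen_univ
    exact Set.mem_iUnion.mpr ⟨⟨W, hW⟩, x, hxW, rfl⟩
  obtain ⟨t, ht⟩ := isCompact_univ.elim_finite_subcover _ hopen hcov
  let s : Set X.affineOpens := (t : Set X.affineOpens)
  haveI : Finite s := t.finite_toSet.to_subtype
  haveI : ∀ W : s, IsAffine ((W.1.1 : X.Opens) : Scheme.{u}) := fun W => W.1.2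
  let X' : Scheme.{u} := ∐ (fun W : s => ((W.1.1 : X.Opens) : Scheme.{u}))
  let r : X' ⟶ X := Sigma.desc (fun W : s => (W.1.1 : X.Opens).ι)
  haveI : IsAffine X' := inferInstance
  haveI : Flat r := IsZariskiLocalAtSource.sigmaDesc (fun W => inferInstance)
  let p' : X' ⟶ S := r ≫ p
  haveI : Flat p' := inferInstance
  haveI : Surjective p' := by
    refine ⟨fun y => ?_⟩
    have hy := ht (Set.mem_univ y)
    simp only [Set.mem_iUnion] at hy
    obtain ⟨W, hW, x, hxW, hxy⟩ := hy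
    let W' : s := ⟨W, hW⟩
    let z : ↥((W'.1.1 : X.Opens) : Scheme.{u}) := ⟨x, hxW⟩
    have hz : r (Sigma.ι (fun W : s => ((W.1.1 : X.Opens) : Scheme.{u})) W' z) = x := by
      rw [← Scheme.Hom.comp_apply, Sigma.ι_desc]
      rfl
    refine ⟨Sigma.ι (fun W : s => ((W.1.1 : X.Opens) : Scheme.{u})) W' z, ?_⟩
    show p (r _) = y
    rw [hz]
    exact hxy
  haveI : QuasiCompact p' := inferInstance
  have w : r ≫ p = p' ≫ 𝟙 S := (Category.comp_id _).symm
  -- the pullback functor is fully faithful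
  let F := pullDDFam (f := fun _ : PUnit.{1} => p) (f' := fun _ : PUnit.{1} => p') (α := fun i => i)
    (p := 𝟙 S) (p' := fun _ => r) (fun _ => w)
  have hF : F.Full ∧ F.Faithful := by
    refine Groth.Agent.Helper8.DescB.full_faithful _
      (Groth.Agent.Helper8.DescC.hasLocalLifts_of_cover ?_)
    rw [Presieve.ofArrows_pUnit]
    exact Scheme.Hom.singleton_mem_fpqcPrecoverage p'
  haveI := hF.1
  haveI := hF.2
  -- the pulled back descent datum has quasi-affine total space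
  let D' : Desc.SchDD p' := (SchDDFam.toSchDD p').obj (F.obj ((SchDDFam.ofSchDD p).obj D))
  haveI : D'.obj.left.IsQuasiAffine :=
    isQuasiAffine_pullback_sigmaDesc D.obj.hom (fun W : s => (W.1.1 : X.Opens))
      (fun W => hD.2 _ W.1.2)
  obtain ⟨U, ⟨e'⟩⟩ := effective_affine D'
  obtain ⟨κ⟩ := pull_toDD_iso p r p' w U
  let i' : D' ≅ (SchDDFam.toSchDD p').obj (F.obj ((toDDFam (fun _ : PUnit.{1} => p)).obj U)) :=
    e'.symm ≪≫ κ
  let i'' : F.obj ((SchDDFam.ofSchDD p).obj D) ≅ F.obj ((toDDFam (fun _ : PUnit.{1} => p)).obj U) :=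
    (SchDDFam.ofSchDD p').mapIso i'
  let j := F.preimageIso i''
  exact ⟨U, ⟨(SchDDFam.toSchDD p).mapIso j.symm⟩⟩

end AffineBase

section Stage2

variable {X S : Scheme.{u}} (p : X ⟶ S) [Surjective p] [Flat p] [LocallyOfFinitePresentation p]

/-- the saturation of an affine open, as an open -/
def satOpen (D : Desc.SchDD p) (V₀ : D.obj.left.Opens) : D.obj.left.Opens :=
  ⟨satSet D (V₀ : Set D.obj.left), isOpen_satSet D V₀.isOpen⟩

omit [Surjective p] in
lemma isSt_satOpen (D : Desc.SchDD p) (V₀ : D.obj.left.Opens) : IsSt D (satOpen p D V₀) :=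
  fun r => satSet_stable D _ r

omit [Surjective p] in
lemma quasiCompact_satOpen [IsAffine S] (D : Desc.SchDD p) (V₀ : D.obj.left.Opens)
    (hV₀ : IsAffineOpen V₀) : QuasiCompact ((satOpen p D V₀).ι ≫ D.obj.hom) := by
  constructor
  intro K hKo hKc
  have h1 := isCompact_satSet_inter D V₀ hV₀ ⟨K, hKo⟩ hKc
  have h2 : (satOpen p D V₀).ι '' (((satOpen p D V₀).ι ≫ D.obj.hom) ⁻¹' K) =
      satSet D (V₀ : Set D.obj.left) ∩ D.obj.hom ⁻¹' K := by
    ext w
    constructor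
    · rintro ⟨z, hz, rfl⟩
      refine ⟨z.2, ?_⟩
      have hz' : ((satOpen p D V₀).ι ≫ D.obj.hom) z ∈ K := hz
      rw [Scheme.Hom.comp_apply] at hz'
      exact hz'
    · rintro ⟨hw1, hw2⟩
      refine ⟨⟨w, hw1⟩, ?_, rfl⟩
      show ((satOpen p D V₀).ι ≫ D.obj.hom) _ ∈ K
      rw [Scheme.Hom.comp_apply]
      exact hw2
  rw [(satOpen p D V₀).ι.isOpenEmbedding.isEmbedding.isCompact_iff, h2]
  exact h1

/-- **fppf descent of separated locally quasi-finite schemes, affine base** -/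
theorem effective_lqf_of_affine_base [IsAffine S] (D : Desc.SchDD p) [IsSeparated D.obj.hom]
    [LocallyQuasiFinite D.obj.hom] [LocallyOfFiniteType D.obj.hom] :
    ∃ U : Over S, Nonempty ((Desc.toDD p).obj U ≅ D) := by
  apply DGlue2.effective_of_locally_effective D
  intro v
  obtain ⟨_, ⟨(V₀ : D.obj.left.Opens), hV₀, rfl⟩, hvV₀, -⟩ :=
    D.obj.left.isBasis_affineOpens.exists_subset_of_mem_open (Set.mem_univ v) isOpen_univ
  replace hV₀ : IsAffineOpen V₀ := hV₀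
  have hSt := isSt_satOpen p D V₀
  have hl := hl_of_isSt D hSt
  refine ⟨subDD D (satOpen p D V₀).ι hl, subι D (satOpen p D V₀).ι hl, ?_, ?_, ?_⟩
  · show IsOpenImmersion (satOpen p D V₀).ι
    infer_instance
  · show v ∈ Set.range (satOpen p D V₀).ι
    rw [Scheme.Opens.range_ι]
    exact subset_satSet D _ hvV₀
  · haveI : QuasiCompact ((satOpen p D V₀).ι ≫ D.obj.hom) := quasiCompact_satOpen p D V₀ hV₀
    have hqa : Mor2.IsQuasiAffine ((satOpen p D V₀).ι ≫ D.obj.hom) :=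
      isQuasiAffine_of_lqf ((satOpen p D V₀).ι ≫ D.obj.hom)
    exact effective_of_affine_base_fppf p (subDD D (satOpen p D V₀).ι hl) hqa

end Stage2

section Stage1

variable {X S : Scheme.{u}} (p : X ⟶ S) [Surjective p] [Flat p] [LocallyOfFinitePresentation p]

/-- **fppf descent of separated locally quasi-finite schemes** (S9726) -/
theorem effective_lqf (D : Desc.SchDD p) [IsSeparated D.obj.hom]
    [LocallyQuasiFinite D.obj.hom] [LocallyOfFiniteType D.obj.hom] :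
    ∃ U : Over S, Nonempty ((Desc.toDD p).obj U ≅ D) := by
  apply DGlue2.effective_of_locally_effective D
  intro v
  obtain ⟨_, ⟨(S₁ : S.Opens), hS₁, rfl⟩, hyS₁, -⟩ :=
    S.isBasis_affineOpens.exists_subset_of_mem_open (Set.mem_univ ((D.obj.hom ≫ p) v)) isOpen_univ
  replace hS₁ : IsAffineOpen S₁ := hS₁
  haveI : IsAffine (S₁ : Scheme.{u}) := hS₁
  have hSt : IsSt D ((D.obj.hom ≫ p) ⁻¹ᵁ S₁) := DescSec.isSt_preimage D S₁
  have hl := hl_of_isSt D hSt
  refine ⟨subDD D ((D.obj.hom ≫ p) ⁻¹ᵁ S₁).ι hl, subι D ((D.obj.hom ≫ p) ⁻¹ᵁ S₁).ι hl, ?_, ?_, ?_⟩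
  · show IsOpenImmersion ((D.obj.hom ≫ p) ⁻¹ᵁ S₁).ι
    infer_instance
  · show v ∈ Set.range ((D.obj.hom ≫ p) ⁻¹ᵁ S₁).ι
    rw [Scheme.Opens.range_ι]
    exact hyS₁
  · have hX : IsPullback (p ⁻¹ᵁ S₁).ι (p ∣_ S₁) p S₁.ι := (isPullback_morphismRestrict p S₁).flip
    have hr : Set.range (((D.obj.hom ≫ p) ⁻¹ᵁ S₁).ι ≫ D.obj.hom) ⊆ Set.range (p ⁻¹ᵁ S₁).ι := by
      rintro _ ⟨z, rfl⟩
      rw [Scheme.Opens.range_ι]
      have hz : (D.obj.hom ≫ p) (((D.obj.hom ≫ p) ⁻¹ᵁ S₁).ι z) ∈ S₁ := z.2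
      rw [Scheme.Hom.comp_apply] at hz
      rw [Scheme.Hom.comp_apply]
      exact hz
    obtain ⟨h₁, hh'⟩ : ∃ h₁ : ((D.obj.hom ≫ p) ⁻¹ᵁ S₁).toScheme ⟶ (p ⁻¹ᵁ S₁).toScheme,
        h₁ ≫ (p ⁻¹ᵁ S₁).ι = ((D.obj.hom ≫ p) ⁻¹ᵁ S₁).ι ≫ D.obj.hom :=
      ⟨IsOpenImmersion.lift (p ⁻¹ᵁ S₁).ι (((D.obj.hom ≫ p) ⁻¹ᵁ S₁).ι ≫ D.obj.hom) hr,
        IsOpenImmersion.lift_fac _ _ _⟩
    have hh : (h₁ : (subDD D ((D.obj.hom ≫ p) ⁻¹ᵁ S₁).ι hl).obj.left ⟶ (p ⁻¹ᵁ S₁).toScheme) ≫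
        (p ⁻¹ᵁ S₁).ι = (subDD D ((D.obj.hom ≫ p) ⁻¹ᵁ S₁).ι hl).obj.hom := hh'
    haveI : IsSeparated (h₁ ≫ (p ⁻¹ᵁ S₁).ι) := by rw [hh']; infer_instance
    haveI : LocallyQuasiFinite (h₁ ≫ (p ⁻¹ᵁ S₁).ι) := by rw [hh']; infer_instance
    haveI : LocallyOfFiniteType (h₁ ≫ (p ⁻¹ᵁ S₁).ι) := by rw [hh']; infer_instance
    haveI : IsSeparated h₁ := IsSeparated.of_comp h₁ (p ⁻¹ᵁ S₁).ι
    haveI : LocallyQuasiFinite h₁ := LocallyQuasiFinite.of_comp h₁ (p ⁻¹ᵁ S₁).ι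
    haveI : LocallyOfFiniteType h₁ := locallyOfFiniteType_of_comp h₁ (p ⁻¹ᵁ S₁).ι
    haveI : Surjective (p ∣_ S₁) := IsZariskiLocalAtTarget.restrict (P := @Surjective) inferInstance S₁
    haveI : Flat (p ∣_ S₁) := IsZariskiLocalAtTarget.restrict (P := @Flat) inferInstance S₁
    haveI : LocallyOfFinitePresentation (p ∣_ S₁) :=
      IsZariskiLocalAtTarget.restrict (P := @LocallyOfFinitePresentation) inferInstance S₁
    let D₁ : Desc.SchDD (p ∣_ S₁) := restrBase (subDD D ((D.obj.hom ≫ p) ⁻¹ᵁ S₁).ι hl) hX.w hh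
    haveI : IsSeparated D₁.obj.hom := (inferInstance : IsSeparated h₁)
    haveI : LocallyQuasiFinite D₁.obj.hom := (inferInstance : LocallyQuasiFinite h₁)
    haveI : LocallyOfFiniteType D₁.obj.hom := (inferInstance : LocallyOfFiniteType h₁)
    obtain ⟨U₁, ⟨e⟩⟩ := effective_lqf_of_affine_base (p ∣_ S₁) D₁
    exact ⟨_, effective_of_restrBase (subDD D ((D.obj.hom ≫ p) ⁻¹ᵁ S₁).ι hl) hh hX U₁ e⟩

end Stage1

end Groth.Agent.Helper8.LqfDesc
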