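import Mathlib

set_option autoImplicit false
universe u v

namespace Groth.Agent.Helper8.MaxDiv

theorem main
    {A : Type u} [AddCommGroup A] (P : Set ℕ) (hP : ∀ p ∈ P, p.Prime)
    (IP : Set ℕ) (hIP : ∀ n, n ∈ IP ↔ 0 < n ∧ ∀ p : ℕ, p.Prime → p ∣ n → p ∈ P)
    (B : IP → Type v) [∀ n, AddCommGroup (B n)]
    (g : ∀ ⦃m n : IP⦄, (m : ℕ) ∣ (n : ℕ) → (B n →+ B m))
    (hgid : ∀ (n : IP) (b : B n), g (dvd_refl (n : ℕ)) b = b)
    (hgcomp : ∀ (k m n : IP) (hkm : (k : ℕ) ∣ (m : ℕ)) (hmn : (m : ℕ) ∣ (n : ℕ)) (b : B n),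
      g hkm (g hmn b) = g (hkm.trans hmn) b)
    (φ : ∀ n : IP, A →+ B n) (hφ : ∀ (n : IP) (a : A), φ n ((n : ℕ) • a) = 0)
    (hφg : ∀ (m n : IP) (h : (m : ℕ) ∣ (n : ℕ)) (a : A), g h (φ n a) = φ m a)
    (N : ℕ) (hN : N ∈ IP)
    (htor : ∀ b : ∀ n : IP, B n, (∀ (m n : IP) (h : (m : ℕ) ∣ (n : ℕ)), g h (b n) = b m) →
      (∃ k : ℕ, 0 < k ∧ ∀ n, k • b n = 0) → ∀ n, N • b n = 0)
    (hker : ∀ a : IP → A, (∀ m n : IP, (m : ℕ) ∣ (n : ℕ) → ∃ c : A, a n - a m = (m : ℕ) • c) →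
      (∀ n, φ n (a n) = 0) → ∀ n : IP, ∃ c : A, N • a n = (n : ℕ) • c) :
    (∀ ℓ ∈ P, ∀ x : A, (∀ n ∈ IP, ∃ y : A, x = n • y) →
        ∃ y : A, (∀ n ∈ IP, ∃ z : A, y = n • z) ∧ ℓ • y = x) ∧
    (∀ H : AddSubgroup A, (∀ ℓ ∈ P, ∀ x ∈ H, ∃ y ∈ H, ℓ • y = x) →
        ∀ x ∈ H, ∀ n ∈ IP, ∃ y : A, x = n • y) := by
  have hIPmul : ∀ a b, a ∈ IP → b ∈ IP → a * b ∈ IP := by
    intro a b ha hb
    rw [hIP] at ha hb ⊢
    refine ⟨Nat.mul_pos ha.1 hb.1, fun p hp hpd => ?_⟩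
    rcases (Nat.Prime.dvd_mul hp).1 hpd with h | h
    · exact ha.2 p hp h
    · exact hb.2 p hp h
  have hIPprime : ∀ ℓ ∈ P, ℓ ∈ IP := by
    intro ℓ hℓ
    rw [hIP]
    refine ⟨(hP ℓ hℓ).pos, fun p hp hpd => ?_⟩
    have := (Nat.prime_dvd_prime_iff_eq hp (hP ℓ hℓ)).1 hpd
    rw [this]; exact hℓ
  constructor
  · intro ℓ hℓ x hx
    have hk : ℓ * (N * N) ∈ IP := hIPmul _ _ (hIPprime ℓ hℓ) (hIPmul _ _ hN hN)
    obtain ⟨w, hw⟩ := hx _ hk
    refine ⟨N • N • w, ?_, ?_⟩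
    · have h1 : ∀ n : IP, N • φ n w = 0 := by
        apply htor (fun n => φ n w)
        · intro m n h; exact hφg m n h w
        · refine ⟨ℓ * (N * N), ((hIP _).1 hk).1, fun n => ?_⟩
          rw [← map_nsmul, ← hw]
          obtain ⟨y, hy⟩ := hx n n.2
          rw [hy]; exact hφ n y
      have h2 := hker (fun _ => N • w) (fun m n _ => ⟨0, by simp⟩)
        (fun n => by rw [map_nsmul]; exact h1 n)
      intro n hn
      obtain ⟨c, hc⟩ := h2 ⟨n, hn⟩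
      exact ⟨c, hc⟩
    · rw [hw, mul_smul, mul_smul]
  · intro H hH
    have key : ∀ n, n ∈ IP → ∀ x ∈ H, ∃ y ∈ H, x = n • y := by
      intro n
      induction n using Nat.strong_induction_on with
      | _ n ih =>
        intro hn x hx
        have hnpos : 0 < n := ((hIP n).1 hn).1
        rcases Nat.eq_or_lt_of_le (Nat.succ_le_of_lt hnpos) with h1 | h1
        · exact ⟨x, hx, by rw [← h1]; simp⟩
        · have hmf : n.minFac.Prime := Nat.minFac_prime (by omega)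
          have hℓ : n.minFac ∈ P := ((hIP n).1 hn).2 _ hmf (Nat.minFac_dvd n)
          obtain ⟨n', hn'⟩ := Nat.minFac_dvd n
          have hn'pos : 0 < n' := by
            rcases Nat.eq_zero_or_pos n' with h | h
            · rw [h, mul_zero] at hn'; omega
            · exact h
          have hn'IP : n' ∈ IP := by
            rw [hIP]
            refine ⟨hn'pos, fun p hp hpd => ((hIP n).1 hn).2 p hp ?_⟩
            rw [hn']; exact Dvd.dvd.mul_left hpd _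
          have hlt : n' < n := by
            have h2 := hmf.two_le
            nlinarith
          obtain ⟨y, hyH, hy⟩ := hH _ hℓ x hx
          obtain ⟨z, hzH, hz⟩ := ih n' hlt hn'IP y hyH
          refine ⟨z, hzH, ?_⟩
          rw [← hy, hz]
          conv_rhs => rw [hn']
          rw [mul_smul]
    intro x hx n hn
    obtain ⟨y, _, hy⟩ := key n hn x hx
    exact ⟨y, hy⟩

end Groth.Agent.Helper8.MaxDiv
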