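import Mathlib
import Groth.Agent.Helper8.BL6

set_option autoImplicit false
universe u
open Polynomial TensorProduct

namespace Groth.Agent.Helper8.McCoy

/-- Family version of McCoy's theorem in one variable. -/
theorem poly_family {R : Type u} [CommRing R] (S : Set R[X])
    (h : ∀ r : R, (∀ P ∈ S, r • P = 0) → r = 0) (Q : R[X]) (hQ : ∀ P ∈ S, P * Q = 0) :
    Q = 0 := by
  suffices ∀ P ∈ S, ∀ i, P.coeff i • Q = 0 by
    rw [← leadingCoeff_eq_zero]
    apply h
    intro P hP
    ext i
    have := congr_arg (·.coeff Q.natDegree) (this P hP i)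
    simpa [mul_comm Q.leadingCoeff] using this
  intro P hP
  apply Nat.strong_decreasing_induction
  · use P.natDegree
    intro i hi
    rw [coeff_eq_zero_of_natDegree_lt hi, zero_smul]
  intro l IH
  obtain _ | hl := (natDegree_smul_le (P.coeff l) Q).lt_or_eq
  · apply poly_family S h (P.coeff l • Q)
    intro P' hP'
    rw [smul_eq_C_mul, mul_left_comm, hQ P' hP', mul_zero]
  suffices P.coeff l * Q.leadingCoeff = 0 by
    rwa [← leadingCoeff_eq_zero, ← coeff_natDegree, coeff_smul, hl, coeff_natDegree, smul_eq_mul]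
  let m := Q.natDegree
  suffices (P * Q).coeff (l + m) = P.coeff l * Q.leadingCoeff by
    rw [← this, hQ P hP, coeff_zero]
  rw [coeff_mul]
  apply Finset.sum_eq_single (l, m) _ (by simp)
  simp only [ne_eq, Prod.forall, Prod.mk.injEq, not_and]
  intro i j hij H
  have hij' : i + j = l + m := Finset.HasAntidiagonal.mem_antidiagonal.mp hij
  obtain hi | rfl | hi := lt_trichotomy i l
  · have hj : m < j := by lia
    rw [coeff_eq_zero_of_natDegree_lt hj, mul_zero]
  · lia
  · rw [← coeff_C_mul, ← smul_eq_C_mul, IH _ hi, coeff_zero]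
termination_by Q.natDegree

/-- Family version of McCoy's theorem in several variables. -/
theorem mv_family {A : Type u} [CommRing A] (n : ℕ) :
    ∀ (S : Set (MvPolynomial (Fin n) A)) (_ : ∀ a : A, (∀ P ∈ S, a • P = 0) → a = 0)
      (Q : MvPolynomial (Fin n) A) (_ : ∀ P ∈ S, P * Q = 0), Q = 0 := by
  induction n with
  | zero =>
    intro S h Q hQ
    rw [MvPolynomial.eq_C_of_isEmpty Q]
    have : MvPolynomial.coeff 0 Q = 0 := by
      apply h
      intro P hP
      have := hQ P hP
      rw [MvPolynomial.eq_C_of_isEmpty Q, mul_comm, MvPolynomial.C_mul'] at this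
      exact this
    rw [this, map_zero]
  | succ n ih =>
    intro S h Q hQ
    let E := MvPolynomial.finSuccEquiv A n
    suffices E Q = 0 by simpa using this
    refine poly_family (E '' S) ?_ (E Q) ?_
    · intro b hb
      refine ih {c | ∃ P ∈ S, ∃ i, c = (E P).coeff i} ?_ b ?_
      · intro a ha
        apply h
        intro P hP
        apply E.injective
        rw [map_smul, map_zero]
        ext1 i
        rw [Polynomial.coeff_smul, Polynomial.coeff_zero]
        exact ha _ ⟨P, hP, i, rfl⟩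
      · rintro _ ⟨P, hP, i, rfl⟩
        have := congr_arg (·.coeff i) (hb (E P) ⟨P, hP, rfl⟩)
        simpa [mul_comm] using this
    · rintro _ ⟨P, hP, rfl⟩
      rw [← map_mul, hQ P hP, map_zero]

theorem mv_mem_nonZeroDivisors {A : Type u} [CommRing A] (n : ℕ) (f : MvPolynomial (Fin n) A)
    (hf : Ideal.span (Set.range f.coeff) = ⊤) : f ∈ nonZeroDivisors (MvPolynomial (Fin n) A) := by
  have h : ∀ a : A, (∀ P ∈ ({f} : Set (MvPolynomial (Fin n) A)), a • P = 0) → a = 0 := by
    intro a ha
    have ha' : a • f = 0 := ha f rfl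
    have hle : Ideal.span (Set.range f.coeff) ≤ LinearMap.ker (LinearMap.mulLeft A a) := by
      rw [Ideal.span_le]
      rintro _ ⟨m, rfl⟩
      have := congr_arg (MvPolynomial.coeff m) ha'
      simpa using this
    have h1 : (1 : A) ∈ LinearMap.ker (LinearMap.mulLeft A a) := hle (by rw [hf]; trivial)
    simpa using h1
  rw [mem_nonZeroDivisors_iff_right]
  intro Q hQ
  refine mv_family n {f} h Q ?_
  rintro _ rfl
  rwa [mul_comm]

theorem lTensor_mulLeft_injective {A : Type u} [CommRing A] (n : ℕ) (f : MvPolynomial (Fin n) A)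
    (hf : Ideal.span (Set.range f.coeff) = ⊤) (I : Ideal A) :
    Function.Injective ((LinearMap.mulLeft A f).lTensor (A ⧸ I)) := by
  let Φ := MvPolynomial.algebraTensorAlgEquiv (σ := Fin n) A (A ⧸ I)
  let fb : MvPolynomial (Fin n) (A ⧸ I) := MvPolynomial.map (algebraMap A (A ⧸ I)) f
  have hfb : Ideal.span (Set.range fb.coeff) = ⊤ := by
    rw [eq_top_iff, ← Ideal.map_top (algebraMap A (A ⧸ I)), ← hf, Ideal.map_span, Ideal.span_le]
    rintro _ ⟨_, ⟨m, rfl⟩, rfl⟩
    exact Ideal.subset_span ⟨m, by simp [fb, MvPolynomial.coeff_map]⟩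
  have hnzd := mv_mem_nonZeroDivisors n fb hfb
  have hmul : ∀ x : (A ⧸ I) ⊗[A] MvPolynomial (Fin n) A,
      (LinearMap.mulLeft A f).lTensor (A ⧸ I) x = ((1 : A ⧸ I) ⊗ₜ[A] f) * x := by
    intro x
    induction x using TensorProduct.induction_on with
    | zero => simp
    | tmul q p => simp [Algebra.TensorProduct.tmul_mul_tmul]
    | add x y hx hy => rw [map_add, mul_add, hx, hy]
  have hΦ : Φ ((1 : A ⧸ I) ⊗ₜ[A] f) = fb := by
    simp [Φ, fb]
  rw [injective_iff_map_eq_zero]
  intro x hx
  rw [hmul] at hx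
  have := congr_arg Φ hx
  rw [map_mul, hΦ, map_zero] at this
  have h0 : Φ x = 0 := (mem_nonZeroDivisors_iff_right.mp hnzd) _ (by rwa [mul_comm])
  exact (map_eq_zero_iff Φ Φ.injective).mp h0

theorem flat_quotient {A : Type u} [CommRing A] (n : ℕ) (f : MvPolynomial (Fin n) A)
    (hf : Ideal.span (Set.range f.coeff) = ⊤) :
    Module.Flat A (MvPolynomial (Fin n) A ⧸ Ideal.span ({f} : Set (MvPolynomial (Fin n) A))) := by
  rw [Module.Flat.iff_rTensor_injective']
  intro I
  refine BL.rTensor_injective_of_tor I.subtype I.mkQ ?_ I.mkQ_surjective I.injective_subtype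
    (LinearMap.mulLeft A f)
    ((Ideal.Quotient.mkₐ A (Ideal.span ({f} : Set (MvPolynomial (Fin n) A)))).toLinearMap) ?_
    (Ideal.Quotient.mkₐ_surjective A _) (lTensor_mulLeft_injective n f hf I)
  · exact LinearMap.exact_subtype_mkQ I
  · intro y
    simp only [AlgHom.toLinearMap_apply, Ideal.Quotient.mkₐ_eq_mk, Ideal.Quotient.eq_zero_iff_mem,
      Ideal.mem_span_singleton', LinearMap.mem_range, LinearMap.mulLeft_apply]
    constructor
    · rintro ⟨a, rfl⟩; exact ⟨a, mul_comm _ _⟩
    · rintro ⟨a, rfl⟩; exact ⟨a, mul_comm _ _⟩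

theorem s7766 (A : Type u) [CommRing A] (n : ℕ)
    (f : MvPolynomial (Fin n) A) (hf : Ideal.span (Set.range f.coeff) = ⊤) :
    f ∈ nonZeroDivisors (MvPolynomial (Fin n) A) ∧
      Module.Flat A (MvPolynomial (Fin n) A ⧸ Ideal.span ({f} : Set (MvPolynomial (Fin n) A))) :=
  ⟨mv_mem_nonZeroDivisors n f hf, flat_quotient n f hf⟩

end Groth.Agent.Helper8.McCoy
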