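import Mathlib
import Groth.Prelude.Def_EtMil
import Groth.Agent.Helper7.MilnorGlue
import Groth.Agent.Helper7.MilnorGlue3
import Groth.Agent.Helper7.FlatMilnor
import Groth.Agent.Helper7.FlatMilnor2
import Groth.Agent.S14953

/-!
# Algebras over a Milnor square, part A

`B' = B ×_A A'` (with `A' → A` surjective), `D' = D ×_C C'` an algebra square over it with
`C = D ⊗_B A = C' ⊗_{A'} A`.  Then `D = B ⊗_{B'} D'` and `C' = A' ⊗_{B'} D'`, and finiteness,
flatness, finite presentation (as modules), unramifiedness and étaleness of `B' → D'` follow from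
those of `B → D` and `A' → C'`.
-/

set_option autoImplicit false
universe u

open TensorProduct

namespace Groth.Agent.Helper8.MilAlg

section

variable {B' B A' A : Type u} [CommRing B'] [CommRing B] [CommRing A'] [CommRing A]
    [Algebra B' B] [Algebra B' A'] [Algebra B A] [Algebra A' A] [Algebra B' A]
    [IsScalarTower B' B A] [IsScalarTower B' A' A]
    {D' D C' C : Type u} [CommRing D'] [CommRing D] [CommRing C'] [CommRing C]
    [Algebra D' D] [Algebra D' C'] [Algebra D C] [Algebra C' C] [Algebra D' C]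
    [IsScalarTower D' D C] [IsScalarTower D' C' C]
    [Algebra B' D'] [Algebra B D] [Algebra A' C'] [Algebra A C]
    [Algebra B' D] [IsScalarTower B' B D] [IsScalarTower B' D' D]
    [Algebra B' C'] [IsScalarTower B' A' C'] [IsScalarTower B' D' C']
    [Algebra B C] [IsScalarTower B A C] [IsScalarTower B D C]
    [Algebra A' C] [IsScalarTower A' A C] [IsScalarTower A' C' C]
    [Algebra.IsPushout B D A C] [Algebra.IsPushout A' C' A C]

variable (B A' A D C' C) in
/-- the glueing isomorphism `A ⊗_B D ≅ C ≅ A ⊗_{A'} C'`. -/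
noncomputable def phi : A ⊗[B] D ≃ₗ[A] A ⊗[A'] C' :=
  haveI : Algebra.IsPushout B A D C := Algebra.IsPushout.symm inferInstance
  haveI : Algebra.IsPushout A' A C' C := Algebra.IsPushout.symm inferInstance
  (Algebra.IsPushout.equiv B A D C).toLinearEquiv ≪≫ₗ
    (Algebra.IsPushout.equiv A' A C' C).symm.toLinearEquiv

variable (B' B A' A D C' C) in
lemma mem_glue_iff (x : D × C') :
    x ∈ EtMil.glue B' (phi B A' A D C' C) ↔ algebraMap D C x.1 = algebraMap C' C x.2 := by
  haveI : Algebra.IsPushout B A D C := Algebra.IsPushout.symm inferInstance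
  haveI : Algebra.IsPushout A' A C' C := Algebra.IsPushout.symm inferInstance
  show phi B A' A D C' C ((1 : A) ⊗ₜ[B] x.1) = (1 : A) ⊗ₜ[A'] x.2 ↔ _
  unfold phi
  rw [LinearEquiv.trans_apply]
  show (Algebra.IsPushout.equiv A' A C' C).symm ((Algebra.IsPushout.equiv B A D C) (1 ⊗ₜ[B] x.1)) =
    1 ⊗ₜ[A'] x.2 ↔ _
  rw [AlgEquiv.symm_apply_eq]
  simp only [Algebra.IsPushout.equiv_tmul, map_one, one_mul]

variable (B' B A' A D' D C' C) in
/-- the canonical map `D' → D ×_φ C'`. -/
noncomputable def theta : D' →ₗ[B'] EtMil.glue B' (phi B A' A D C' C) :=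
  LinearMap.codRestrict (EtMil.glue B' (phi B A' A D C' C))
    (((IsScalarTower.toAlgHom B' D' D).toLinearMap).prod
      ((IsScalarTower.toAlgHom B' D' C').toLinearMap))
    (fun d' => (mem_glue_iff B' B A' A D C' C _).mpr (by
      show algebraMap D C (algebraMap D' D d') = algebraMap C' C (algebraMap D' C' d')
      rw [← IsScalarTower.algebraMap_apply, ← IsScalarTower.algebraMap_apply]))

lemma theta_fst (d' : D') :
    (theta B' B A' A D' D C' C d').1.1 = algebraMap D' D d' := rfl

lemma theta_snd (d' : D') :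
    (theta B' B A' A D' D C' C d').1.2 = algebraMap D' C' d' := rfl

variable (hsq' : EtMil.IsFibreSquare D' D C' C)

include hsq' in
lemma theta_bijective : Function.Bijective (theta B' B A' A D' D C' C) := by
  constructor
  · intro d₁ d₂ h
    have h1 : algebraMap D' D d₁ = algebraMap D' D d₂ := congrArg (fun g => g.1.1) h
    have h2 : algebraMap D' C' d₁ = algebraMap D' C' d₂ := congrArg (fun g => g.1.2) h
    have hc : algebraMap D C (algebraMap D' D d₂) = algebraMap C' C (algebraMap D' C' d₂) := by
      rw [← IsScalarTower.algebraMap_apply, ← IsScalarTower.algebraMap_apply]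
    obtain ⟨b', -, huniq⟩ := hsq'.2 _ _ hc
    rw [huniq d₁ ⟨h1, h2⟩, huniq d₂ ⟨rfl, rfl⟩]
  · rintro ⟨⟨d, c'⟩, h⟩
    obtain ⟨d', ⟨h1, h2⟩, -⟩ := hsq'.2 d c' ((mem_glue_iff B' B A' A D C' C _).mp h)
    refine ⟨d', ?_⟩
    apply Subtype.ext
    apply Prod.ext
    · exact h1
    · exact h2

variable (hsq : EtMil.IsFibreSquare B' B A' A)

include hsq hsq' in
/-- `D = B ⊗_{B'} D'`. -/
theorem isPushout_left : Algebra.IsPushout B' B D' D := by
  let θe : D' ≃ₗ[B'] EtMil.glue B' (phi B A' A D C' C) :=
    LinearEquiv.ofBijective (theta B' B A' A D' D C' C) (theta_bijective hsq')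
  let e : B ⊗[B'] D' ≃ₗ[B] D := (θe.baseChange B' B D' _) ≪≫ₗ
    LinearEquiv.ofBijective (LinearMap.liftBaseChange B (EtMil.glueFst B' (phi B A' A D C' C)))
      (Groth.Agent.Helper7.MilnorGlue.milnor_glue_baseChange B' B A' A hsq D C'
        (phi B A' A D C' C)).1
  refine ⟨IsBaseChange.of_equiv e (fun d' => ?_)⟩
  show LinearMap.liftBaseChange B (EtMil.glueFst B' (phi B A' A D C' C))
    ((θe.baseChange B' B D' _) ((1 : B) ⊗ₜ[B'] d')) = _
  rw [LinearEquiv.baseChange_tmul, LinearMap.liftBaseChange_tmul, one_smul]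
  rfl

include hsq hsq' in
/-- `C' = A' ⊗_{B'} D'`. -/
theorem isPushout_top : Algebra.IsPushout B' A' D' C' := by
  let θe : D' ≃ₗ[B'] EtMil.glue B' (phi B A' A D C' C) :=
    LinearEquiv.ofBijective (theta B' B A' A D' D C' C) (theta_bijective hsq')
  let e : A' ⊗[B'] D' ≃ₗ[A'] C' := (θe.baseChange B' A' D' _) ≪≫ₗ
    LinearEquiv.ofBijective (LinearMap.liftBaseChange A' (EtMil.glueSnd B' (phi B A' A D C' C)))
      (Groth.Agent.Helper7.MilnorGlue.milnor_glue_baseChange B' B A' A hsq D C'
        (phi B A' A D C' C)).2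
  refine ⟨IsBaseChange.of_equiv e (fun d' => ?_)⟩
  show LinearMap.liftBaseChange A' (EtMil.glueSnd B' (phi B A' A D C' C))
    ((θe.baseChange B' A' D' _) ((1 : A') ⊗ₜ[B'] d')) = _
  rw [LinearEquiv.baseChange_tmul, LinearMap.liftBaseChange_tmul, one_smul]
  rfl

include hsq hsq' in
/-- transfer of module properties: a `B'`-module property of `D'` follows from the property after
both base changes. -/
theorem finite_of_finite [Module.Finite B D] [Module.Finite A' C'] : Module.Finite B' D' := by
  haveI := isPushout_left hsq' hsq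
  haveI := isPushout_top hsq' hsq
  haveI : Module.Finite B (B ⊗[B'] D') :=
    Module.Finite.equiv (Algebra.IsPushout.equiv B' B D' D).symm.toLinearEquiv
  haveI : Module.Finite A' (A' ⊗[B'] D') :=
    Module.Finite.equiv (Algebra.IsPushout.equiv B' A' D' C').symm.toLinearEquiv
  exact Groth.Agent.S14953.result B' B A' A hsq D'

include hsq hsq' in
theorem flat_of_flat [Module.Flat B D] [Module.Flat A' C'] : Module.Flat B' D' := by
  haveI := isPushout_left hsq' hsq
  haveI := isPushout_top hsq' hsq
  haveI : Module.Flat B (B ⊗[B'] D') :=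
    Module.Flat.of_linearEquiv (Algebra.IsPushout.equiv B' B D' D).toLinearEquiv
  haveI : Module.Flat A' (A' ⊗[B'] D') :=
    Module.Flat.of_linearEquiv (Algebra.IsPushout.equiv B' A' D' C').toLinearEquiv
  exact Groth.Agent.Helper7.FlatMilnor.flat_of_fibreSquare B' B A' A hsq D'

include hsq hsq' in
theorem modFP_of_modFP [Module.Flat B D] [Module.Flat A' C'] [Module.FinitePresentation B D]
    [Module.FinitePresentation A' C'] : Module.FinitePresentation B' D' := by
  haveI := isPushout_left hsq' hsq
  haveI := isPushout_top hsq' hsq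
  haveI : Module.Flat B (B ⊗[B'] D') :=
    Module.Flat.of_linearEquiv (Algebra.IsPushout.equiv B' B D' D).toLinearEquiv
  haveI : Module.Flat A' (A' ⊗[B'] D') :=
    Module.Flat.of_linearEquiv (Algebra.IsPushout.equiv B' A' D' C').toLinearEquiv
  haveI : Module.FinitePresentation B (B ⊗[B'] D') :=
    Module.FinitePresentation.of_equiv (Algebra.IsPushout.equiv B' B D' D).symm.toLinearEquiv
  haveI : Module.FinitePresentation A' (A' ⊗[B'] D') :=
    Module.FinitePresentation.of_equiv (Algebra.IsPushout.equiv B' A' D' C').symm.toLinearEquiv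
  exact Groth.Agent.Helper7.FlatMilnor2.fp_of_fibreSquare B' B A' A hsq D'

include hsq hsq' in
theorem formallyUnramified_of_formallyUnramified [Algebra.FormallyUnramified B D]
    [Algebra.FormallyUnramified A' C'] : Algebra.FormallyUnramified B' D' := by
  haveI := isPushout_left hsq' hsq
  haveI := isPushout_top hsq' hsq
  haveI h1 : Subsingleton (B ⊗[B'] Ω[D'⁄B']) :=
    ((Algebra.IsPushout.cancelBaseChange B' B D' D Ω[D'⁄B']).symm.toEquiv.trans
      (KaehlerDifferential.tensorKaehlerEquiv B' B D' D).toEquiv).subsingleton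
  haveI h2 : Subsingleton (A' ⊗[B'] Ω[D'⁄B']) :=
    ((Algebra.IsPushout.cancelBaseChange B' A' D' C' Ω[D'⁄B']).symm.toEquiv.trans
      (KaehlerDifferential.tensorKaehlerEquiv B' A' D' C').toEquiv).subsingleton
  haveI : Subsingleton Ω[D'⁄B'] :=
    Groth.Agent.Helper7.FlatMilnor2.subsingleton_of_fibreSquare B' B A' A hsq Ω[D'⁄B']
  exact ⟨inferInstance⟩

include hsq hsq' in
/-- finite étale algebras glue to finite étale algebras. -/
theorem finite_etale_of_finite_etale [Module.Finite B D] [Algebra.Etale B D]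
    [Module.Finite A' C'] [Algebra.Etale A' C'] :
    Module.Finite B' D' ∧ Algebra.Etale B' D' := by
  haveI : Module.Finite B' D' := finite_of_finite hsq' hsq
  haveI : Module.Flat B' D' := flat_of_flat hsq' hsq
  haveI : Module.FinitePresentation B D :=
    (Module.FinitePresentation.iff_finitePresentation_of_finite (R := B) (S := D)).mpr inferInstance
  haveI : Module.FinitePresentation A' C' :=
    (Module.FinitePresentation.iff_finitePresentation_of_finite (R := A') (S := C')).mpr inferInstance
  haveI : Module.FinitePresentation B' D' := modFP_of_modFP hsq' hsq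
  haveI : Algebra.FormallyUnramified B' D' := formallyUnramified_of_formallyUnramified hsq' hsq
  exact ⟨inferInstance, Algebra.Etale.of_formallyUnramified_of_flat⟩

end

end Groth.Agent.Helper8.MilAlg
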