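import Mathlib
import Groth.Agent.Helper8.MilAlgA

/-!
# Algebras over a Milnor square, part B: `CommRingCat` form
-/

set_option autoImplicit false
universe u

open CategoryTheory CategoryTheory.Limits TensorProduct

namespace Groth.Agent.Helper8.MilAlg

set_option maxHeartbeats 1600000 in
/-- finite étale algebras over the corners of a Milnor square glue to a finite étale algebra over
the fibre product, with the expected base changes. -/
theorem finite_etale_fibreProduct_cat {R₀ A' B A D' C' D C : CommRingCat.{u}}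
    (α : R₀ ⟶ A') (β : R₀ ⟶ B) (p : A' ⟶ A) (q : B ⟶ A) (comm : α ≫ p = β ≫ q)
    (hp : Function.Surjective p.hom)
    (hinj : ∀ r r' : R₀, α.hom r = α.hom r' → β.hom r = β.hom r' → r = r')
    (hsurj : ∀ (x : A') (y : B), p.hom x = q.hom y → ∃ r : R₀, α.hom r = x ∧ β.hom r = y)
    (α' : D' ⟶ C') (β' : D' ⟶ D) (p' : C' ⟶ C) (q' : D ⟶ C) (comm' : α' ≫ p' = β' ≫ q')
    (hp' : Function.Surjective p'.hom)
    (hinj' : ∀ r r' : D', α'.hom r = α'.hom r' → β'.hom r = β'.hom r' → r = r')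
    (hsurj' : ∀ (x : C') (y : D), p'.hom x = q'.hom y → ∃ r : D', α'.hom r = x ∧ β'.hom r = y)
    (σ₀ : R₀ ⟶ D') (σ₁ : A' ⟶ C') (σ₂ : B ⟶ D) (σ₃ : A ⟶ C)
    (c1 : α ≫ σ₁ = σ₀ ≫ α') (c2 : β ≫ σ₂ = σ₀ ≫ β') (c3 : p ≫ σ₃ = σ₁ ≫ p')
    (c4 : q ≫ σ₃ = σ₂ ≫ q')
    (po1 : IsPushout p σ₁ σ₃ p') (po2 : IsPushout q σ₂ σ₃ q')
    (h1 : σ₁.hom.Finite) (h1' : σ₁.hom.Etale) (h2 : σ₂.hom.Finite) (h2' : σ₂.hom.Etale) :
    σ₀.hom.Finite ∧ σ₀.hom.Etale ∧ IsPushout α σ₀ σ₁ α' ∧ IsPushout β σ₀ σ₂ β' := by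
  letI : Algebra R₀ B := β.hom.toAlgebra
  letI : Algebra R₀ A' := α.hom.toAlgebra
  letI : Algebra B A := q.hom.toAlgebra
  letI : Algebra A' A := p.hom.toAlgebra
  letI : Algebra R₀ A := (β ≫ q).hom.toAlgebra
  haveI : IsScalarTower R₀ B A := IsScalarTower.of_algebraMap_eq (fun x => rfl)
  haveI : IsScalarTower R₀ A' A := IsScalarTower.of_algebraMap_eq
    (fun x => (congrArg (fun φ : R₀ ⟶ A => φ.hom x) comm).symm)
  letI : Algebra D' D := β'.hom.toAlgebra
  letI : Algebra D' C' := α'.hom.toAlgebra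
  letI : Algebra D C := q'.hom.toAlgebra
  letI : Algebra C' C := p'.hom.toAlgebra
  letI : Algebra D' C := (β' ≫ q').hom.toAlgebra
  haveI : IsScalarTower D' D C := IsScalarTower.of_algebraMap_eq (fun x => rfl)
  haveI : IsScalarTower D' C' C := IsScalarTower.of_algebraMap_eq
    (fun x => (congrArg (fun φ : D' ⟶ C => φ.hom x) comm').symm)
  letI : Algebra R₀ D' := σ₀.hom.toAlgebra
  letI : Algebra B D := σ₂.hom.toAlgebra
  letI : Algebra A' C' := σ₁.hom.toAlgebra
  letI : Algebra A C := σ₃.hom.toAlgebra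
  letI : Algebra R₀ D := (σ₀ ≫ β').hom.toAlgebra
  haveI : IsScalarTower R₀ B D := IsScalarTower.of_algebraMap_eq
    (fun x => (congrArg (fun φ : R₀ ⟶ D => φ.hom x) c2).symm)
  haveI : IsScalarTower R₀ D' D := IsScalarTower.of_algebraMap_eq (fun x => rfl)
  letI : Algebra R₀ C' := (σ₀ ≫ α').hom.toAlgebra
  haveI : IsScalarTower R₀ A' C' := IsScalarTower.of_algebraMap_eq
    (fun x => (congrArg (fun φ : R₀ ⟶ C' => φ.hom x) c1).symm)
  haveI : IsScalarTower R₀ D' C' := IsScalarTower.of_algebraMap_eq (fun x => rfl)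
  letI : Algebra B C := (σ₂ ≫ q').hom.toAlgebra
  haveI : IsScalarTower B A C := IsScalarTower.of_algebraMap_eq
    (fun x => (congrArg (fun φ : B ⟶ C => φ.hom x) c4).symm)
  haveI : IsScalarTower B D C := IsScalarTower.of_algebraMap_eq (fun x => rfl)
  letI : Algebra A' C := (σ₁ ≫ p').hom.toAlgebra
  haveI : IsScalarTower A' A C := IsScalarTower.of_algebraMap_eq
    (fun x => (congrArg (fun φ : A' ⟶ C => φ.hom x) c3).symm)
  haveI : IsScalarTower A' C' C := IsScalarTower.of_algebraMap_eq (fun x => rfl)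
  haveI : Algebra.IsPushout B D A C :=
    (CommRingCat.isPushout_iff_isPushout (R := B) (R' := D) (S := A) (S' := C)).mp po2.flip
  haveI : Algebra.IsPushout A' C' A C :=
    (CommRingCat.isPushout_iff_isPushout (R := A') (R' := C') (S := A) (S' := C)).mp po1.flip
  have hsq : EtMil.IsFibreSquare R₀ B A' A := by
    refine ⟨hp, fun b a' h => ?_⟩
    obtain ⟨r, hr1, hr2⟩ := hsurj a' b h.symm
    exact ⟨r, ⟨hr2, hr1⟩, fun r' hr' => hinj r' r (hr'.2.trans hr1.symm) (hr'.1.trans hr2.symm)⟩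
  have hsq' : EtMil.IsFibreSquare D' D C' C := by
    refine ⟨hp', fun b a' h => ?_⟩
    obtain ⟨r, hr1, hr2⟩ := hsurj' a' b h.symm
    exact ⟨r, ⟨hr2, hr1⟩, fun r' hr' => hinj' r' r (hr'.2.trans hr1.symm) (hr'.1.trans hr2.symm)⟩
  haveI : Module.Finite B D := h2
  haveI : Algebra.Etale B D := h2'
  haveI : Module.Finite A' C' := h1
  haveI : Algebra.Etale A' C' := h1'
  obtain ⟨hfin, het⟩ := finite_etale_of_finite_etale (B' := R₀) hsq' hsq
  haveI : Algebra.IsPushout R₀ A' D' C' := isPushout_top hsq' hsq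
  haveI : Algebra.IsPushout R₀ B D' D := isPushout_left hsq' hsq
  refine ⟨hfin, het, ?_, ?_⟩
  · exact (CommRingCat.isPushout_iff_isPushout (R := R₀) (R' := A') (S := D') (S' := C')).mpr
      inferInstance
  · exact (CommRingCat.isPushout_iff_isPushout (R := R₀) (R' := B) (S := D') (S' := D)).mpr
      inferInstance

end Groth.Agent.Helper8.MilAlg
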