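import Mathlib
import Groth.Agent.Helper8.MilAlgA
import Groth.Agent.Helper7.EtMil

/-!
# Algebras over a Milnor square, part C: finite type and finite presentation
-/

set_option autoImplicit false
universe u

open TensorProduct

namespace Groth.Agent.Helper8.MilAlg

section Surj

variable {B' B A' A : Type u} [CommRing B'] [CommRing B] [CommRing A'] [CommRing A]
    [Algebra B' B] [Algebra B' A'] [Algebra B A] [Algebra A' A] [Algebra B' A]
    [IsScalarTower B' B A] [IsScalarTower B' A' A]
    (hsq : EtMil.IsFibreSquare B' B A' A)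

include hsq in
/-- a map of `B'`-modules which is surjective after base change to `B` and to `A'` is surjective. -/
theorem surjective_of_baseChange_surjective {L₁ L₂ : Type u} [AddCommGroup L₁] [Module B' L₁]
    [AddCommGroup L₂] [Module B' L₂] (f : L₁ →ₗ[B'] L₂)
    (h1 : Function.Surjective (f.baseChange B)) (h2 : Function.Surjective (f.baseChange A')) :
    Function.Surjective f := by
  have key : ∀ (S : Type u) [CommRing S] [Algebra B' S], Function.Surjective (f.baseChange S) →
      Subsingleton (S ⊗[B'] (L₂ ⧸ LinearMap.range f)) := by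
    intro S _ _ hS
    have hz : ∀ z : S ⊗[B'] (L₂ ⧸ LinearMap.range f), z = 0 := by
      intro z
      induction z using TensorProduct.induction_on with
      | zero => rfl
      | add x y hx hy => rw [hx, hy, add_zero]
      | tmul s q =>
        obtain ⟨l, rfl⟩ := Submodule.mkQ_surjective _ q
        obtain ⟨w, hw⟩ := hS (s ⊗ₜ l)
        have e1 : s ⊗ₜ[B'] ((LinearMap.range f).mkQ l) =
            ((LinearMap.range f).mkQ.baseChange S) (s ⊗ₜ l) :=
          (LinearMap.baseChange_tmul _ _ _).symm
        rw [e1, ← hw, ← LinearMap.comp_apply, ← LinearMap.baseChange_comp,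
          LinearMap.range_mkQ_comp, LinearMap.baseChange_zero, LinearMap.zero_apply]
    exact ⟨fun x y => by rw [hz x, hz y]⟩
  haveI := key B h1
  haveI := key A' h2
  haveI : Subsingleton (L₂ ⧸ LinearMap.range f) :=
    Groth.Agent.Helper7.FlatMilnor2.subsingleton_of_fibreSquare B' B A' A hsq _
  rw [← LinearMap.range_eq_top]
  exact Submodule.Quotient.subsingleton_iff.mp inferInstance

end Surj

/-- elements of a base change are combinations of finitely many elements of the original module. -/
lemma exists_finset_mem_span_of_isPushout {R S R' S' : Type*} [CommRing R] [CommRing S]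
    [CommRing R'] [CommRing S'] [Algebra R S] [Algebra R R'] [Algebra S S'] [Algebra R' S']
    [Algebra R S'] [IsScalarTower R S S'] [IsScalarTower R R' S'] [h : Algebra.IsPushout R S R' S']
    (x : S') : ∃ F : Finset R', x ∈ Submodule.span S ((algebraMap R' S') '' (F : Set R')) := by
  classical
  refine h.out.inductionOn x
    (fun x => ∃ F : Finset R', x ∈ Submodule.span S ((algebraMap R' S') '' (F : Set R')))
    ⟨∅, Submodule.zero_mem _⟩ ?_ ?_ ?_
  · intro m
    exact ⟨{m}, Submodule.subset_span ⟨m, by simp, rfl⟩⟩
  · rintro s _ ⟨F, hF⟩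
    exact ⟨F, Submodule.smul_mem _ _ hF⟩
  · rintro _ _ ⟨F₁, h₁⟩ ⟨F₂, h₂⟩
    refine ⟨F₁ ∪ F₂, Submodule.add_mem _ ?_ ?_⟩
    · refine Submodule.span_mono (Set.image_mono ?_) h₁
      intro y hy
      simp only [Finset.coe_union, Set.mem_union]
      exact Or.inl hy
    · refine Submodule.span_mono (Set.image_mono ?_) h₂
      intro y hy
      simp only [Finset.coe_union, Set.mem_union]
      exact Or.inr hy

section

variable {B' B A' A : Type u} [CommRing B'] [CommRing B] [CommRing A'] [CommRing A]
    [Algebra B' B] [Algebra B' A'] [Algebra B A] [Algebra A' A] [Algebra B' A]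
    [IsScalarTower B' B A] [IsScalarTower B' A' A]
    {D' D C' C : Type u} [CommRing D'] [CommRing D] [CommRing C'] [CommRing C]
    [Algebra D' D] [Algebra D' C'] [Algebra D C] [Algebra C' C] [Algebra D' C]
    [IsScalarTower D' D C] [IsScalarTower D' C' C]
    [Algebra B' D'] [Algebra B D] [Algebra A' C'] [Algebra A C]
    [Algebra B' D] [IsScalarTower B' B D] [IsScalarTower B' D' D]
    [Algebra B' C'] [IsScalarTower B' A' C'] [IsScalarTower B' D' C']
    [Algebra B C] [IsScalarTower B A C] [IsScalarTower B D C]
    [Algebra A' C] [IsScalarTower A' A C] [IsScalarTower A' C' C]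
    [Algebra.IsPushout B D A C] [Algebra.IsPushout A' C' A C]

/-- the base change of the inclusion of a subalgebra is surjective as soon as the image of the
subalgebra generates. -/
lemma baseChange_val_surjective {R S R' S' : Type u} [CommRing R] [CommRing S]
    [CommRing R'] [CommRing S'] [Algebra R S] [Algebra R R'] [Algebra S S'] [Algebra R' S']
    [Algebra R S'] [IsScalarTower R S S'] [IsScalarTower R R' S'] [Algebra.IsPushout R S R' S']
    (E : Subalgebra R R') (hE : Algebra.adjoin S ((algebraMap R' S') '' (E : Set R')) = ⊤) :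
    Function.Surjective (E.val.toLinearMap.baseChange S) := by
  let g : S ⊗[R] E →ₐ[S] S' := (Algebra.IsPushout.equiv R S R' S').toAlgHom.comp
    (Algebra.TensorProduct.map (AlgHom.id S S) E.val)
  have hg : ∀ x : S ⊗[R] E, g x =
      (Algebra.IsPushout.equiv R S R' S') (E.val.toLinearMap.baseChange S x) := by
    intro x
    show (Algebra.IsPushout.equiv R S R' S') ((Algebra.TensorProduct.map (AlgHom.id S S) E.val) x) = _
    congr 1
  have hgs : Function.Surjective g := by
    rw [← AlgHom.range_eq_top, eq_top_iff, ← hE]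
    apply Algebra.adjoin_le
    rintro _ ⟨e, he, rfl⟩
    refine ⟨(1 : S) ⊗ₜ[R] (⟨e, he⟩ : E), ?_⟩
    show (Algebra.IsPushout.equiv R S R' S') ((1 : S) ⊗ₜ[R] e) = _
    rw [Algebra.IsPushout.equiv_tmul, map_one, one_mul]
  intro y
  obtain ⟨x, hx⟩ := hgs ((Algebra.IsPushout.equiv R S R' S') y)
  refine ⟨x, ?_⟩
  apply (Algebra.IsPushout.equiv R S R' S').injective
  rw [← hg, hx]

variable (hsq' : EtMil.IsFibreSquare D' D C' C) (hsq : EtMil.IsFibreSquare B' B A' A)

include hsq hsq' in
theorem finiteType_of_finiteType [Algebra.FiniteType B D] [Algebra.FiniteType A' C'] :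
    Algebra.FiniteType B' D' := by
  classical
  haveI := isPushout_left hsq' hsq
  haveI := isPushout_top hsq' hsq
  obtain ⟨sD, hsD⟩ := (Algebra.FiniteType.out : (⊤ : Subalgebra B D).FG)
  obtain ⟨sC, hsC⟩ := (Algebra.FiniteType.out : (⊤ : Subalgebra A' C').FG)
  have hsurjD : Function.Surjective (algebraMap D' D) := Groth.Agent.Helper7.EtMilH.surjB hsq'
  choose lift hlift using hsurjD
  choose F hF using fun c : C' => exists_finset_mem_span_of_isPushout (R := B') (S := A') (R' := D')
    (S' := C') c
  let S : Finset D' := sD.image lift ∪ sC.biUnion F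
  let E : Subalgebra B' D' := Algebra.adjoin B' (S : Set D')
  have hSE : (S : Set D') ⊆ E := Algebra.subset_adjoin
  have h1 : Function.Surjective (E.val.toLinearMap.baseChange B) := by
    apply baseChange_val_surjective (R := B') (S := B) (R' := D') (S' := D)
    rw [eq_top_iff, ← hsD]
    apply Algebra.adjoin_mono
    intro d hd
    refine ⟨lift d, hSE ?_, hlift d⟩
    simp only [S, Finset.coe_union, Set.mem_union, Finset.coe_image]
    exact Or.inl ⟨d, hd, rfl⟩
  have h2 : Function.Surjective (E.val.toLinearMap.baseChange A') := by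
    apply baseChange_val_surjective (R := B') (S := A') (R' := D') (S' := C')
    rw [eq_top_iff, ← hsC]
    apply Algebra.adjoin_le
    intro c hc
    have h3 : Submodule.span A' ((algebraMap D' C') '' (F c : Set D')) ≤
        Subalgebra.toSubmodule (Algebra.adjoin A' ((algebraMap D' C') '' (E : Set D'))) := by
      rw [Submodule.span_le]
      rintro _ ⟨d', hd', rfl⟩
      apply Algebra.subset_adjoin
      refine ⟨d', hSE ?_, rfl⟩
      simp only [S, Finset.coe_union, Set.mem_union, Finset.coe_biUnion, Set.mem_iUnion]
      exact Or.inr ⟨c, hc, hd'⟩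
    exact h3 (hF c)
  have hsurj := surjective_of_baseChange_surjective hsq E.val.toLinearMap h1 h2
  have hE : E = ⊤ := by
    rw [eq_top_iff]
    intro d' _
    obtain ⟨e, he⟩ := hsurj d'
    rw [← he]
    exact e.2
  exact ⟨⟨S, hE⟩⟩

end

end Groth.Agent.Helper8.MilAlg
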