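import Mathlib
import Groth.Agent.Helper8.MilAlgC

/-!
# Algebras over a Milnor square, part D: finite presentation of flat algebras
-/

set_option autoImplicit false
universe u

open TensorProduct

namespace Groth.Agent.Helper8.MilAlg

/-- the ideal generated by `I` in `S ⊗ P` is generated by finitely many elements of `I`, if `S ⊗ P/I`
is finitely presented over `S`. -/
lemma exists_finset_map_includeRight {R : Type u} [CommRing R] (S : Type u) [CommRing S] [Algebra R S]
    {P Dd : Type u} [CommRing P] [CommRing Dd] [Algebra R P] [Algebra R Dd]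
    [Algebra.FinitePresentation R P] (π : P →ₐ[R] Dd) (hπ : Function.Surjective π)
    [Algebra.FinitePresentation S (S ⊗[R] Dd)] :
    ∃ F : Finset P, (F : Set P) ⊆ (RingHom.ker π : Set P) ∧
      (RingHom.ker π).map (Algebra.TensorProduct.includeRight : P →ₐ[R] S ⊗[R] P) =
      Ideal.span ((Algebra.TensorProduct.includeRight : P →ₐ[R] S ⊗[R] P) '' (F : Set P)) := by
  classical
  have hsurj : Function.Surjective (Algebra.TensorProduct.map (AlgHom.id S S) π) :=
    Algebra.TensorProduct.map_surjective (R := R) (AlgHom.id S S) π Function.surjective_id hπ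
  have hfg := Algebra.FinitePresentation.ker_fG_of_surjective
    (Algebra.TensorProduct.map (AlgHom.id S S) π) hsurj
  have hker : RingHom.ker (Algebra.TensorProduct.map (AlgHom.id S S) π).toRingHom =
      (RingHom.ker π).map (Algebra.TensorProduct.includeRight : P →ₐ[R] S ⊗[R] P) := by
    rw [← Algebra.TensorProduct.lTensor_ker (A := S) π hπ]
    ext x
    simp only [RingHom.mem_ker]
    rfl
  rw [hker] at hfg
  have hfg' : (Submodule.span (S ⊗[R] P) ((Algebra.TensorProduct.includeRight :
      P →ₐ[R] S ⊗[R] P) '' (RingHom.ker π : Set P))).FG := hfg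
  rw [Submodule.fg_span_iff_fg_span_finset_subset] at hfg'
  obtain ⟨s', hs', hs'eq⟩ := hfg'
  obtain ⟨F, hF, rfl⟩ := Finset.subset_set_image_iff.mp hs'
  refine ⟨F, hF, ?_⟩
  rw [Finset.coe_image] at hs'eq
  exact hs'eq

section

variable {B' B A' A : Type u} [CommRing B'] [CommRing B] [CommRing A'] [CommRing A]
    [Algebra B' B] [Algebra B' A'] [Algebra B A] [Algebra A' A] [Algebra B' A]
    [IsScalarTower B' B A] [IsScalarTower B' A' A]
    (hsq : EtMil.IsFibreSquare B' B A' A)

include hsq in
set_option maxHeartbeats 1600000 in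
/-- a flat quotient `D' = P/I` of a finitely presented `B'`-algebra `P` is finitely presented as soon
as its base changes to `B` and `A'` are. -/
theorem ker_fg_of_baseChange {P Dd : Type u} [CommRing P] [CommRing Dd] [Algebra B' P] [Algebra B' Dd]
    [Algebra.FinitePresentation B' P] [Module.Flat B' Dd] (π : P →ₐ[B'] Dd)
    (hπ : Function.Surjective π)
    [Algebra.FinitePresentation B (B ⊗[B'] Dd)] [Algebra.FinitePresentation A' (A' ⊗[B'] Dd)] :
    (RingHom.ker π.toRingHom).FG := by
  classical
  obtain ⟨F₁, hF₁, e₁⟩ := exists_finset_map_includeRight B π hπ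
  obtain ⟨F₂, hF₂, e₂⟩ := exists_finset_map_includeRight A' π hπ
  set I' : Ideal P := RingHom.ker π with hI'
  set I'' : Ideal P := Ideal.span ((F₁ ∪ F₂ : Finset P) : Set P) with hI''
  have hle : I'' ≤ I' := by
    rw [hI'', Ideal.span_le, Finset.coe_union]
    exact Set.union_subset hF₁ hF₂
  -- the two ideals generate the same ideal after both base changes
  have hmap : ∀ (S : Type u) [CommRing S] [Algebra B' S] (F : Finset P), (F : Set P) ⊆ (I' : Set P) →
      F ⊆ F₁ ∪ F₂ →
      I'.map (Algebra.TensorProduct.includeRight : P →ₐ[B'] S ⊗[B'] P) =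
        Ideal.span ((Algebra.TensorProduct.includeRight : P →ₐ[B'] S ⊗[B'] P) '' (F : Set P)) →
      I'.map (Algebra.TensorProduct.includeRight : P →ₐ[B'] S ⊗[B'] P) ≤
        I''.map (Algebra.TensorProduct.includeRight : P →ₐ[B'] S ⊗[B'] P) := by
    intro S _ _ F _ hFsub e
    rw [e, Ideal.span_le]
    rintro _ ⟨x, hx, rfl⟩
    apply Ideal.mem_map_of_mem
    apply Ideal.subset_span
    exact Finset.mem_coe.mpr (hFsub (Finset.mem_coe.mp hx))
  -- surjectivity of the inclusion after base change
  have hsub : Function.Exact (I'.restrictScalars B').subtype π.toLinearMap := by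
    intro x
    constructor
    · intro hx
      exact ⟨⟨x, hx⟩, rfl⟩
    · rintro ⟨y, rfl⟩
      exact y.2
  have hbc : ∀ (S : Type u) [CommRing S] [Algebra B' S],
      I'.map (Algebra.TensorProduct.includeRight : P →ₐ[B'] S ⊗[B'] P) ≤
        I''.map (Algebra.TensorProduct.includeRight : P →ₐ[B'] S ⊗[B'] P) →
      Function.Surjective ((Submodule.inclusion
        (show I''.restrictScalars B' ≤ I'.restrictScalars B' from hle)).baseChange S) := by
    intro S _ _ hS y
    have hinj : Function.Injective (LinearMap.lTensor S (I'.restrictScalars B').subtype) :=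
      Groth.Agent.Helper7.FlatMilnor2.lTensor_injective_of_flat_quotient
        (I'.restrictScalars B').subtype π.toLinearMap Subtype.val_injective hπ hsub S
    have h1 : LinearMap.lTensor S (I'.restrictScalars B').subtype y ∈
        (I'.map (Algebra.TensorProduct.includeRight : P →ₐ[B'] S ⊗[B'] P)).restrictScalars B' := by
      rw [Ideal.map_includeRight_eq]
      exact ⟨y, rfl⟩
    have h2 : LinearMap.lTensor S (I'.restrictScalars B').subtype y ∈
        (I''.map (Algebra.TensorProduct.includeRight : P →ₐ[B'] S ⊗[B'] P)).restrictScalars B' :=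
      hS h1
    rw [Ideal.map_includeRight_eq] at h2
    obtain ⟨y'', hy''⟩ := h2
    refine ⟨y'', ?_⟩
    apply hinj
    rw [← hy'', LinearMap.baseChange_eq_ltensor, ← LinearMap.comp_apply, ← LinearMap.lTensor_comp]
    rfl
  have hsurj := surjective_of_baseChange_surjective hsq
    (Submodule.inclusion (show I''.restrictScalars B' ≤ I'.restrictScalars B' from hle))
    (hbc B (hmap B F₁ hF₁ Finset.subset_union_left e₁))
    (hbc A' (hmap A' F₂ hF₂ Finset.subset_union_right e₂))
  have heq : I'' = I' := by
    apply le_antisymm hle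
    intro x hx
    obtain ⟨y, hy⟩ := hsurj ⟨x, hx⟩
    have : (y : P) = x := congrArg Subtype.val hy
    rw [← this]
    exact y.2
  have hfin : I'.FG := by
    rw [← heq]
    exact ⟨F₁ ∪ F₂, rfl⟩
  exact hfin

end

section

variable {B' B A' A : Type u} [CommRing B'] [CommRing B] [CommRing A'] [CommRing A]
    [Algebra B' B] [Algebra B' A'] [Algebra B A] [Algebra A' A] [Algebra B' A]
    [IsScalarTower B' B A] [IsScalarTower B' A' A]
    {D' D C' C : Type u} [CommRing D'] [CommRing D] [CommRing C'] [CommRing C]
    [Algebra D' D] [Algebra D' C'] [Algebra D C] [Algebra C' C] [Algebra D' C]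
    [IsScalarTower D' D C] [IsScalarTower D' C' C]
    [Algebra B' D'] [Algebra B D] [Algebra A' C'] [Algebra A C]
    [Algebra B' D] [IsScalarTower B' B D] [IsScalarTower B' D' D]
    [Algebra B' C'] [IsScalarTower B' A' C'] [IsScalarTower B' D' C']
    [Algebra B C] [IsScalarTower B A C] [IsScalarTower B D C]
    [Algebra A' C] [IsScalarTower A' A C] [IsScalarTower A' C' C]
    [Algebra.IsPushout B D A C] [Algebra.IsPushout A' C' A C]
    (hsq' : EtMil.IsFibreSquare D' D C' C) (hsq : EtMil.IsFibreSquare B' B A' A)

include hsq hsq' in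
theorem finitePresentation_of_finitePresentation [Module.Flat B D] [Module.Flat A' C']
    [Algebra.FinitePresentation B D] [Algebra.FinitePresentation A' C'] :
    Algebra.FinitePresentation B' D' := by
  haveI := isPushout_left hsq' hsq
  haveI := isPushout_top hsq' hsq
  haveI : Module.Flat B' D' := flat_of_flat hsq' hsq
  haveI : Algebra.FiniteType B' D' := finiteType_of_finiteType hsq' hsq
  obtain ⟨n, π, hπ⟩ := Algebra.FiniteType.iff_quotient_mvPolynomial''.mp
    (inferInstance : Algebra.FiniteType B' D')
  haveI : Algebra.FinitePresentation B (B ⊗[B'] D') :=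
    Algebra.FinitePresentation.equiv (Algebra.IsPushout.equiv B' B D' D).symm
  haveI : Algebra.FinitePresentation A' (A' ⊗[B'] D') :=
    Algebra.FinitePresentation.equiv (Algebra.IsPushout.equiv B' A' D' C').symm
  exact Algebra.FinitePresentation.of_surjective hπ (ker_fg_of_baseChange hsq π hπ)

end

end Groth.Agent.Helper8.MilAlg
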