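import Mathlib
import Groth.Agent.Helper8.MilAlgD

/-!
# Algebras over a Milnor square, part E: smoothness, and the five equivalences
-/

set_option autoImplicit false
universe u

open TensorProduct

namespace Groth.Agent.Helper8.MilAlg

/-- formal smoothness of a fibre through an intermediate base change. -/
lemma formallySmooth_tensor_of_tower {R S κ Dd E : Type u} [CommRing R] [CommRing S] [CommRing κ]
    [CommRing Dd] [CommRing E]
    [Algebra R S] [Algebra R κ] [Algebra S κ] [IsScalarTower R S κ]
    [Algebra R Dd] [Algebra S E] [Algebra Dd E] [Algebra R E] [IsScalarTower R S E]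
    [IsScalarTower R Dd E]
    [Algebra.IsPushout R S Dd E] [Algebra.FormallySmooth S E] :
    Algebra.FormallySmooth κ (κ ⊗[R] Dd) :=
  let e₁ : κ ⊗[S] (S ⊗[R] Dd) ≃ₐ[κ] κ ⊗[R] Dd := Algebra.TensorProduct.cancelBaseChange R S κ κ Dd
  let e₂ : κ ⊗[S] (S ⊗[R] Dd) ≃ₐ[κ] κ ⊗[S] E :=
    Algebra.TensorProduct.congr AlgEquiv.refl (Algebra.IsPushout.equiv R S Dd E)
  Algebra.FormallySmooth.of_equiv (e₂.symm.trans e₁)

section

variable {B' B A' A : Type u} [CommRing B'] [CommRing B] [CommRing A'] [CommRing A]
    [Algebra B' B] [Algebra B' A'] [Algebra B A] [Algebra A' A] [Algebra B' A]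
    [IsScalarTower B' B A] [IsScalarTower B' A' A]
    (hsq : EtMil.IsFibreSquare B' B A' A)

open Groth.Agent.Helper7.EtMilH

lemma mulJ_mul (j : B') (hj : algebraMap B' B j = 0) (x y : A') :
    mulJ hsq j hj (x * y) * j = mulJ hsq j hj x * mulJ hsq j hj y := by
  apply ext_sq hsq
  · rw [map_mul, map_mul, hj, mul_zero, (mulJ_spec hsq j hj _).1, zero_mul]
  · rw [map_mul, map_mul, (mulJ_spec hsq j hj _).2, (mulJ_spec hsq j hj _).2,
      (mulJ_spec hsq j hj _).2]
    ring

lemma mulJ_algebraMap (j : B') (hj : algebraMap B' B j = 0) (b' : B') :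
    mulJ hsq j hj (algebraMap B' A' b') = b' * j := by
  have h1 : algebraMap B' A' b' = b' • (1 : A') := by rw [Algebra.smul_def, mul_one]
  rw [h1, mulJ_smul, mulJ_one]

include hsq in
/-- for a prime `I` of `B'` not containing the kernel of `B' → B`, the residue field of `I` is an
`A'`-algebra. -/
theorem exists_ringHom_residueField (I : Ideal B') [I.IsPrime] (j : B')
    (hj : algebraMap B' B j = 0) (hjI : j ∉ I) :
    ∃ ψ : A' →+* I.ResidueField, ∀ b' : B',
      ψ (algebraMap B' A' b') = algebraMap B' I.ResidueField b' := by
  have hne : algebraMap B' I.ResidueField j ≠ 0 := by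
    rw [Ne, Ideal.algebraMap_residueField_eq_zero]
    exact hjI
  have h0 : mulJ hsq j hj 0 = 0 := by
    have := mulJ_add hsq j hj 0 0
    rw [add_zero] at this
    exact left_eq_add.mp this
  refine ⟨{ toFun := fun a' => algebraMap B' I.ResidueField (mulJ hsq j hj a') *
              (algebraMap B' I.ResidueField j)⁻¹
            map_one' := by
              rw [mulJ_one]
              exact mul_inv_cancel₀ hne
            map_mul' := fun x y => by
              have := congrArg (algebraMap B' I.ResidueField) (mulJ_mul hsq j hj x y)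
              rw [map_mul, map_mul] at this
              field_simp
              rw [← this]
            map_zero' := by
              rw [h0, map_zero, zero_mul]
            map_add' := fun x y => by
              rw [mulJ_add, map_add, add_mul] }, fun b' => ?_⟩
  show algebraMap B' I.ResidueField (mulJ hsq j hj (algebraMap B' A' b')) *
    (algebraMap B' I.ResidueField j)⁻¹ = _
  rw [mulJ_algebraMap, map_mul, mul_assoc, mul_inv_cancel₀ hne, mul_one]

end

section

variable {B' B A' A : Type u} [CommRing B'] [CommRing B] [CommRing A'] [CommRing A]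
    [Algebra B' B] [Algebra B' A'] [Algebra B A] [Algebra A' A] [Algebra B' A]
    [IsScalarTower B' B A] [IsScalarTower B' A' A]
    {D' D C' C : Type u} [CommRing D'] [CommRing D] [CommRing C'] [CommRing C]
    [Algebra D' D] [Algebra D' C'] [Algebra D C] [Algebra C' C] [Algebra D' C]
    [IsScalarTower D' D C] [IsScalarTower D' C' C]
    [Algebra B' D'] [Algebra B D] [Algebra A' C'] [Algebra A C]
    [Algebra B' D] [IsScalarTower B' B D] [IsScalarTower B' D' D]
    [Algebra B' C'] [IsScalarTower B' A' C'] [IsScalarTower B' D' C']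
    [Algebra B C] [IsScalarTower B A C] [IsScalarTower B D C]
    [Algebra A' C] [IsScalarTower A' A C] [IsScalarTower A' C' C]
    [Algebra.IsPushout B D A C] [Algebra.IsPushout A' C' A C]
    (hsq' : EtMil.IsFibreSquare D' D C' C) (hsq : EtMil.IsFibreSquare B' B A' A)

include hsq hsq' in
set_option maxHeartbeats 1600000 in
theorem smooth_of_smooth [Algebra.Smooth B D] [Algebra.Smooth A' C'] : Algebra.Smooth B' D' := by
  haveI := isPushout_left hsq' hsq
  haveI := isPushout_top hsq' hsq
  haveI : Module.Flat B' D' := flat_of_flat hsq' hsq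
  haveI : Algebra.FinitePresentation B' D' := finitePresentation_of_finitePresentation hsq' hsq
  refine Algebra.Smooth.of_formallySmooth_fiber (fun I hI => ?_)
  by_cases hK : RingHom.ker (algebraMap B' B) ≤ I
  · have hsurj := Groth.Agent.Helper7.EtMilH.surjB hsq
    have hle : RingHom.ker (algebraMap B' B) ≤ RingHom.ker (algebraMap B' I.ResidueField) := by
      rw [Ideal.ker_algebraMap_residueField]
      exact hK
    letI : Algebra B I.ResidueField :=
      ((algebraMap B' B).liftOfSurjective hsurj ⟨algebraMap B' I.ResidueField, hle⟩).toAlgebra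
    haveI : IsScalarTower B' B I.ResidueField := IsScalarTower.of_algebraMap_eq (fun x =>
      ((algebraMap B' B).liftOfSurjective_comp_apply hsurj
        ⟨algebraMap B' I.ResidueField, hle⟩ x).symm)
    exact formallySmooth_tensor_of_tower (R := B') (S := B) (κ := I.ResidueField) (Dd := D') (E := D)
  · obtain ⟨j, hj, hjI⟩ := SetLike.not_le_iff_exists.mp hK
    obtain ⟨ψ, hψ⟩ := exists_ringHom_residueField hsq I j hj hjI
    letI : Algebra A' I.ResidueField := ψ.toAlgebra
    haveI : IsScalarTower B' A' I.ResidueField :=
      IsScalarTower.of_algebraMap_eq (fun x => (hψ x).symm)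
    exact formallySmooth_tensor_of_tower (R := B') (S := A') (κ := I.ResidueField) (Dd := D')
      (E := C')

include hsq hsq' in
theorem etale_of_etale [Algebra.Etale B D] [Algebra.Etale A' C'] : Algebra.Etale B' D' := by
  haveI : Module.Flat B' D' := flat_of_flat hsq' hsq
  haveI : Algebra.FinitePresentation B' D' := finitePresentation_of_finitePresentation hsq' hsq
  haveI : Algebra.FormallyUnramified B' D' := formallyUnramified_of_formallyUnramified hsq' hsq
  exact Algebra.Etale.of_formallyUnramified_of_flat

end

end Groth.Agent.Helper8.MilAlg
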