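import Mathlib
import Groth.Agent.Helper8.MilAlgE

/-!
# Algebras over a Milnor square, part F: the five equivalences
-/

set_option autoImplicit false
universe u

open TensorProduct

namespace Groth.Agent.Helper8.MilAlg

section

variable (R S R' S' : Type u) [CommRing R] [CommRing S] [CommRing R'] [CommRing S']
  [Algebra R S] [Algebra R R'] [Algebra R S'] [Algebra S S'] [Algebra R' S']
  [IsScalarTower R S S'] [IsScalarTower R R' S'] [Algebra.IsPushout R S R' S']

lemma finiteType_of_isPushout [Algebra.FiniteType R R'] : Algebra.FiniteType S S' :=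
  Algebra.FiniteType.equiv inferInstance (Algebra.IsPushout.equiv R S R' S')

lemma flat_of_isPushout [Module.Flat R R'] : Module.Flat S S' :=
  Module.Flat.of_linearEquiv (Algebra.IsPushout.equiv R S R' S').symm.toLinearEquiv

lemma finitePresentation_of_isPushout [Algebra.FinitePresentation R R'] :
    Algebra.FinitePresentation S S' :=
  Algebra.FinitePresentation.equiv (Algebra.IsPushout.equiv R S R' S')

lemma smooth_of_isPushout [Algebra.Smooth R R'] : Algebra.Smooth S S' :=
  Algebra.Smooth.of_equiv (Algebra.IsPushout.equiv R S R' S')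

lemma etale_of_isPushout [Algebra.Etale R R'] : Algebra.Etale S S' :=
  Algebra.Etale.of_equiv (Algebra.IsPushout.equiv R S R' S')

end

section

variable {B' B A' A : Type u} [CommRing B'] [CommRing B] [CommRing A'] [CommRing A]
    [Algebra B' B] [Algebra B' A'] [Algebra B A] [Algebra A' A] [Algebra B' A]
    [IsScalarTower B' B A] [IsScalarTower B' A' A]
    {D' D C' C : Type u} [CommRing D'] [CommRing D] [CommRing C'] [CommRing C]
    [Algebra D' D] [Algebra D' C'] [Algebra D C] [Algebra C' C] [Algebra D' C]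
    [IsScalarTower D' D C] [IsScalarTower D' C' C]
    [Algebra B' D'] [Algebra B D] [Algebra A' C'] [Algebra A C]
    [Algebra B' D] [IsScalarTower B' B D] [IsScalarTower B' D' D]
    [Algebra B' C'] [IsScalarTower B' A' C'] [IsScalarTower B' D' C']
    [Algebra B C] [IsScalarTower B A C] [IsScalarTower B D C]
    [Algebra A' C] [IsScalarTower A' A C] [IsScalarTower A' C' C]
    [Algebra.IsPushout B D A C] [Algebra.IsPushout A' C' A C]
    (hsq' : EtMil.IsFibreSquare D' D C' C) (hsq : EtMil.IsFibreSquare B' B A' A)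

include hsq hsq' in
theorem properties_iff :
    (Algebra.FiniteType B' D' ↔ Algebra.FiniteType B D ∧ Algebra.FiniteType A' C') ∧
    (Module.Flat B' D' ↔ Module.Flat B D ∧ Module.Flat A' C') ∧
    (Module.Flat B' D' ∧ Algebra.FinitePresentation B' D' ↔
      (Module.Flat B D ∧ Algebra.FinitePresentation B D) ∧
        (Module.Flat A' C' ∧ Algebra.FinitePresentation A' C')) ∧
    (Algebra.Smooth B' D' ↔ Algebra.Smooth B D ∧ Algebra.Smooth A' C') ∧
    (Algebra.Etale B' D' ↔ Algebra.Etale B D ∧ Algebra.Etale A' C') := by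
  haveI h1 : Algebra.IsPushout B' B D' D := isPushout_left hsq' hsq
  haveI h2 : Algebra.IsPushout B' A' D' C' := isPushout_top hsq' hsq
  refine ⟨⟨fun h => ?_, fun h => ?_⟩, ⟨fun h => ?_, fun h => ?_⟩, ⟨fun h => ?_, fun h => ?_⟩,
    ⟨fun h => ?_, fun h => ?_⟩, ⟨fun h => ?_, fun h => ?_⟩⟩
  · exact ⟨finiteType_of_isPushout B' B D' D, finiteType_of_isPushout B' A' D' C'⟩
  · haveI := h.1
    haveI := h.2
    exact finiteType_of_finiteType hsq' hsq
  · exact ⟨flat_of_isPushout B' B D' D, flat_of_isPushout B' A' D' C'⟩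
  · haveI := h.1
    haveI := h.2
    exact flat_of_flat hsq' hsq
  · haveI := h.1
    haveI := h.2
    exact ⟨⟨flat_of_isPushout B' B D' D, finitePresentation_of_isPushout B' B D' D⟩,
      ⟨flat_of_isPushout B' A' D' C', finitePresentation_of_isPushout B' A' D' C'⟩⟩
  · haveI := h.1.1
    haveI := h.1.2
    haveI := h.2.1
    haveI := h.2.2
    exact ⟨flat_of_flat hsq' hsq, finitePresentation_of_finitePresentation hsq' hsq⟩
  · exact ⟨smooth_of_isPushout B' B D' D, smooth_of_isPushout B' A' D' C'⟩
  · haveI := h.1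
    haveI := h.2
    exact smooth_of_smooth hsq' hsq
  · exact ⟨etale_of_isPushout B' B D' D, etale_of_isPushout B' A' D' C'⟩
  · haveI := h.1
    haveI := h.2
    exact etale_of_etale hsq' hsq

end

end Groth.Agent.Helper8.MilAlg
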