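import Mathlib
import Groth.Agent.Helper7.FlatMilnor2
import Groth.Prelude.Def_EtMil

/-! Relative Milnor patching: finite presentation of a glued module (abstract part). -/

set_option autoImplicit false
universe u
open TensorProduct LinearMap

namespace Groth.Agent.Helper8.MilFP

open Groth.Agent.Helper7

section BaseChangeKer

variable {R : Type*} [CommRing R] (S : Type*) [CommRing S] [Algebra R S]
variable {M₁ M₂ M₃ N₁ N₂ N₃ : Type*} [AddCommGroup M₁] [AddCommGroup M₂] [AddCommGroup M₃]
  [AddCommGroup N₁] [AddCommGroup N₂] [AddCommGroup N₃] [Module R M₁] [Module R M₂] [Module R M₃]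
  [Module R N₁] [Module R N₂] [Module R N₃] [Module S N₁] [Module S N₂] [Module S N₃]
  [IsScalarTower R S N₁] [IsScalarTower R S N₂] [IsScalarTower R S N₃]
  (h₁ : M₁ →ₗ[R] N₁) (h₂ : M₂ →ₗ[R] N₂) (h₃ : M₃ →ₗ[R] N₃)
  {f : M₁ →ₗ[R] M₂} {g : M₂ →ₗ[R] M₃} {f' : N₁ →ₗ[S] N₂} {g' : N₂ →ₗ[S] N₃}

/-- kernels commute with base change when the cokernel is flat -/
lemma isBaseChange_of_left_exact_of_flat
    (comm₁ : h₂.comp f = (f'.restrictScalars R).comp h₁)
    (comm₂ : h₃.comp g = (g'.restrictScalars R).comp h₂) [Module.Flat R M₃]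
    (isb₂ : IsBaseChange S h₂) (isb₃ : IsBaseChange S h₃)
    (exact₁ : Function.Exact f g) (inj₁ : Function.Injective f) (surj₁ : Function.Surjective g)
    (exact₂ : Function.Exact f' g') (inj₂ : Function.Injective f') : IsBaseChange S h₁ := by
  simp only [IsBaseChange, IsTensorProduct] at isb₂ isb₃ ⊢
  refine LinearMap.bijective_of_bijective_of_injective_of_left_exact
    ((f.baseChange S).restrictScalars R) ((g.baseChange S).restrictScalars R)
    (f'.restrictScalars R) (g'.restrictScalars R) _ _ _ ?_ ?_ ?_ exact₂ isb₂ isb₃.1 ?_ inj₂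
  · ext s m
    simpa using congr(s • ($comm₁ m)).symm
  · ext s m
    simpa using congr(s • ($comm₂ m)).symm
  · exact lTensor_exact S exact₁ surj₁
  · exact FlatMilnor2.lTensor_injective_of_flat_quotient f g inj₁ surj₁ exact₁ S

end BaseChangeKer

section OneSide

variable {B' T₀ D' T : Type u} [CommRing B'] [CommRing T₀] [CommRing D'] [CommRing T]
  [Algebra B' T₀] [Algebra B' D'] [Algebra T₀ T] [Algebra D' T] [Algebra B' T]
  [IsScalarTower B' T₀ T] [IsScalarTower B' D' T] [Algebra.IsPushout B' T₀ D' T]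
variable {L : Type u} [AddCommGroup L] [Module D' L] [Module B' L] [IsScalarTower B' D' L]
  [Module.Flat B' L]
variable {NT : Type u} [AddCommGroup NT] [Module T NT] [Module D' NT] [IsScalarTower D' T NT]
  [Module T₀ NT] [IsScalarTower T₀ T NT] [Module B' NT] [IsScalarTower B' T₀ NT]
  [IsScalarTower B' D' NT] [Module.FinitePresentation T NT]

/-- the coordinatewise map `D'ⁿ → Tⁿ` -/
noncomputable def hF (n : ℕ) : (Fin n → D') →ₗ[B'] (Fin n → T) :=
  ((IsScalarTower.toAlgHom B' D' T).toLinearMap).compLeft (Fin n)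

omit [Algebra.IsPushout B' T₀ D' T] in
lemma hF_apply (n : ℕ) (x : Fin n → D') (i : Fin n) :
    hF (B' := B') (T := T) n x i = algebraMap D' T (x i) := rfl

lemma isBaseChange_hF (n : ℕ) : IsBaseChange T₀ (hF (B' := B') (D' := D') (T := T) n) :=
  IsBaseChange.finitePow (Fin n) (Algebra.IsPushout.out (R := B') (S := T₀) (R' := D') (S' := T))

omit [Algebra.IsPushout B' T₀ D' T] in
lemma hF_smul (n : ℕ) (d : D') (x : Fin n → D') :
    hF (B' := B') (T := T) n (d • x) = algebraMap D' T d • hF (B' := B') (T := T) n x := by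
  ext i
  simp only [hF_apply, Pi.smul_apply, smul_eq_mul, map_mul]

variable (pr : L →ₗ[D'] NT) {n : ℕ} (f : (Fin n → D') →ₗ[D'] L)

variable (T) in
/-- the base-changed presentation map `Tⁿ → NT` -/
noncomputable def gT : (Fin n → T) →ₗ[T] NT :=
  Fintype.linearCombination T (fun i => pr (f (Pi.single i 1)))

omit [Module.Flat B' L] [Module T₀ NT] [IsScalarTower T₀ T NT] [Module B' NT]
  [IsScalarTower B' T₀ NT] [IsScalarTower B' D' NT] [Module.FinitePresentation T NT]
  [Algebra.IsPushout B' T₀ D' T] [Module B' L] [IsScalarTower B' D' L] [Algebra T₀ T]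
  [IsScalarTower B' T₀ T] [Algebra B' T₀] in
lemma gT_hF (x : Fin n → D') : gT T pr f (hF (B' := B') (T := T) n x) = pr (f x) := by
  classical
  rw [gT, Fintype.linearCombination_apply]
  have hx : x = ∑ i, x i • (Pi.single i (1 : D') : Fin n → D') := by
    ext j
    simp [Finset.sum_apply, Pi.single_apply]
  conv_rhs => rw [hx]
  rw [map_sum, map_sum]
  refine Finset.sum_congr rfl fun i _ => ?_
  rw [map_smul, map_smul, hF_apply, algebraMap_smul]

variable (hpr : IsBaseChange T₀ (pr.restrictScalars B')) (hf : Function.Surjective f)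

include hpr hf in
omit [Module.Flat B' L] [Module.FinitePresentation T NT] [Algebra.IsPushout B' T₀ D' T] in
lemma gT_surjective : Function.Surjective (gT T pr f) := by
  intro y
  refine hpr.inductionOn y (fun y => ∃ x, gT T pr f x = y) ⟨0, map_zero _⟩ ?_ ?_ ?_
  · intro l
    obtain ⟨x, rfl⟩ := hf l
    exact ⟨hF (B' := B') (T := T) n x, gT_hF pr f x⟩
  · rintro t₀ y ⟨x, hx⟩
    refine ⟨algebraMap T₀ T t₀ • x, ?_⟩
    rw [map_smul, hx, algebraMap_smul]
  · rintro y₁ y₂ ⟨x₁, rfl⟩ ⟨x₂, rfl⟩
    exact ⟨x₁ + x₂, map_add _ _ _⟩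

variable (B' T) in
/-- the map on kernels -/
noncomputable def hK : LinearMap.ker f →ₗ[B'] LinearMap.ker (gT T pr f) where
  toFun k := ⟨hF (B' := B') (T := T) n k.1, by
    rw [LinearMap.mem_ker, gT_hF (B' := B'), LinearMap.mem_ker.mp k.2, map_zero]⟩
  map_add' a b := Subtype.ext (by
    show hF (B' := B') (T := T) n (a.1 + b.1) = hF (B' := B') (T := T) n a.1 + hF (B' := B') (T := T) n b.1
    exact map_add _ _ _)
  map_smul' c a := Subtype.ext (by
    show hF (B' := B') (T := T) n (c • a.1) = c • hF (B' := B') (T := T) n a.1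
    exact map_smul _ _ _)

omit [Module.Flat B' L] [Module T₀ NT] [IsScalarTower T₀ T NT] [Module B' NT]
  [IsScalarTower B' T₀ NT] [IsScalarTower B' D' NT] [Module.FinitePresentation T NT]
  [Algebra.IsPushout B' T₀ D' T] [Algebra T₀ T] [IsScalarTower B' T₀ T] [Algebra B' T₀] in
lemma hK_smul (d : D') (k : LinearMap.ker f) :
    hK B' T pr f (d • k) = algebraMap D' T d • hK B' T pr f k :=
  Subtype.ext (hF_smul n d k.1)

include hpr hf in
omit [Module.FinitePresentation T NT] in
lemma isBaseChange_hK : IsBaseChange T₀ (hK B' T pr f) := by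
  have isb₂ : IsBaseChange T₀ (hF (B' := B') (D' := D') (T := T) n) := isBaseChange_hF n
  have comm₁ : (hF (B' := B') (D' := D') (T := T) n).comp
      ((LinearMap.ker f).subtype.restrictScalars B') =
      (((LinearMap.ker (gT T pr f)).subtype.restrictScalars T₀).restrictScalars B').comp
        (hK B' T pr f) := by
    ext k
    rfl
  have comm₂ : (pr.restrictScalars B').comp (f.restrictScalars B') =
      (((gT T pr f).restrictScalars T₀).restrictScalars B').comp
        (hF (B' := B') (D' := D') (T := T) n) := by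
    refine LinearMap.ext fun x => ?_
    exact (gT_hF (B' := B') (T := T) pr f x).symm
  have ex₁ : Function.Exact ((LinearMap.ker f).subtype.restrictScalars B')
      (f.restrictScalars B') := LinearMap.exact_subtype_ker_map f
  have ex₂ : Function.Exact ((LinearMap.ker (gT T pr f)).subtype.restrictScalars T₀)
      ((gT T pr f).restrictScalars T₀) := LinearMap.exact_subtype_ker_map (gT T pr f)
  exact isBaseChange_of_left_exact_of_flat T₀ (hK B' T pr f)
    (hF (B' := B') (D' := D') (T := T) n) (pr.restrictScalars B') comm₁ comm₂ isb₂ hpr ex₁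
    Subtype.val_injective hf ex₂ Subtype.val_injective

end OneSide

theorem exists_finset_one_side {B' T₀ D' : Type u} (T : Type u) [CommRing B'] [CommRing T₀]
    [CommRing D'] [CommRing T]
    [Algebra B' T₀] [Algebra B' D'] [Algebra T₀ T] [Algebra D' T] [Algebra B' T]
    [IsScalarTower B' T₀ T] [IsScalarTower B' D' T] [Algebra.IsPushout B' T₀ D' T]
    {L : Type u} [AddCommGroup L] [Module D' L] [Module B' L] [IsScalarTower B' D' L]
    [Module.Flat B' L]
    {NT : Type u} [AddCommGroup NT] [Module T NT] [Module D' NT] [IsScalarTower D' T NT]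
    [Module T₀ NT] [IsScalarTower T₀ T NT] [Module B' NT] [IsScalarTower B' T₀ NT]
    [IsScalarTower B' D' NT] [Module.FinitePresentation T NT]
    (pr : L →ₗ[D'] NT) {n : ℕ} (f : (Fin n → D') →ₗ[D'] L)
    (hpr : IsBaseChange T₀ (pr.restrictScalars B')) (hf : Function.Surjective f) :
    ∃ s : Finset (LinearMap.ker f), ∀ X₀ : Submodule D' (LinearMap.ker f),
      (↑s : Set (LinearMap.ker f)) ⊆ X₀ →
      Subsingleton (T₀ ⊗[B'] ((LinearMap.ker f) ⧸ (X₀.restrictScalars B'))) := by
  classical
  have isb := isBaseChange_hK (T := T) pr f hpr hf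
  have hspanT : Submodule.span T (Set.range (hK B' T pr f)) = ⊤ := by
    rw [eq_top_iff]
    intro y _
    refine isb.inductionOn y
      (fun y => y ∈ Submodule.span T (Set.range (hK B' T pr f))) (Submodule.zero_mem _) ?_ ?_ ?_
    · intro k
      exact Submodule.subset_span ⟨k, rfl⟩
    · intro t₀ y hy
      rw [← algebraMap_smul T t₀ y]
      exact Submodule.smul_mem _ _ hy
    · intro a b ha hb
      exact Submodule.add_mem _ ha hb
  have hfg : (⊤ : Submodule T (LinearMap.ker (gT T pr f))).FG :=
    (Submodule.fg_top _).mpr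
      (Module.FinitePresentation.fg_ker (gT T pr f) (gT_surjective pr f hpr hf))
  rw [← hspanT, Submodule.fg_span_iff_fg_span_finset_subset] at hfg
  obtain ⟨s', hs', hs'eq⟩ := hfg
  have hex : ∀ y : LinearMap.ker (gT T pr f), y ∈ s' → ∃ k, hK B' T pr f k = y :=
    fun y hy => hs' hy
  choose! σ hσ using hex
  refine ⟨s'.image σ, fun X₀ hX₀ => ?_⟩
  let Y' : Submodule T₀ (LinearMap.ker (gT T pr f)) :=
    Submodule.span T₀ ((hK B' T pr f) '' (X₀ : Set (LinearMap.ker f)))
  -- closure under `T`
  have step1 : ∀ τ : T, ∀ y ∈ Y', τ • y ∈ Y' := by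
    intro τ
    refine (Algebra.IsPushout.out (R := B') (S := T₀) (R' := D') (S' := T)).inductionOn τ
      (fun τ => ∀ y ∈ Y', τ • y ∈ Y') ?_ ?_ ?_ ?_
    · intro y _
      rw [zero_smul]
      exact Submodule.zero_mem _
    · intro d y hy
      refine Submodule.span_induction (p := fun y _ =>
        ((IsScalarTower.toAlgHom B' D' T).toLinearMap d) • y ∈ Y') ?_ ?_ ?_ ?_ hy
      · rintro _ ⟨x, hx, rfl⟩
        have : ((IsScalarTower.toAlgHom B' D' T).toLinearMap d) • hK B' T pr f x =
            hK B' T pr f (d • x) := (hK_smul pr f d x).symm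
        rw [this]
        exact Submodule.subset_span ⟨d • x, X₀.smul_mem d hx, rfl⟩
      · rw [smul_zero]
        exact Submodule.zero_mem _
      · intro a b _ _ ha hb
        rw [smul_add]
        exact Submodule.add_mem _ ha hb
      · intro t₀ y _ hy
        rw [smul_comm]
        exact Submodule.smul_mem _ _ hy
    · intro t₀ τ hτ y hy
      rw [smul_assoc]
      exact Submodule.smul_mem _ _ (hτ y hy)
    · intro τ₁ τ₂ h₁ h₂ y hy
      rw [add_smul]
      exact Submodule.add_mem _ (h₁ y hy) (h₂ y hy)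
  have step2 : ∀ y : LinearMap.ker (gT T pr f), y ∈ Y' := by
    intro y
    have hy : y ∈ Submodule.span T (↑s' : Set (LinearMap.ker (gT T pr f))) := by
      rw [← hs'eq, hspanT]
      trivial
    refine Submodule.span_induction (p := fun y _ => y ∈ Y') ?_ ?_ ?_ ?_ hy
    · intro y hy
      rw [← hσ y hy]
      exact Submodule.subset_span ⟨σ y, hX₀ (Finset.mem_coe.mpr (Finset.mem_image_of_mem σ hy)), rfl⟩
    · exact Submodule.zero_mem _
    · intro a b _ _ ha hb
      exact Submodule.add_mem _ ha hb
    · intro τ y _ hy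
      exact step1 τ y hy
  let q : LinearMap.ker f →ₗ[B'] (LinearMap.ker f) ⧸ (X₀.restrictScalars B') :=
    (X₀.restrictScalars B').mkQ
  have step3 : ∀ y ∈ Y', (q.baseChange T₀) (isb.equiv.symm y) = 0 := by
    intro y hy
    refine Submodule.span_induction (p := fun y _ => (q.baseChange T₀) (isb.equiv.symm y) = 0)
      ?_ ?_ ?_ ?_ hy
    · rintro _ ⟨x, hx, rfl⟩
      rw [isb.equiv_symm_apply, LinearMap.baseChange_tmul]
      have : q x = 0 := (Submodule.Quotient.mk_eq_zero _).mpr hx
      rw [this, TensorProduct.tmul_zero]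
    · rw [map_zero, map_zero]
    · intro a b _ _ ha hb
      rw [map_add, map_add, ha, hb, add_zero]
    · intro t₀ y _ hy
      rw [map_smul, map_smul, hy, smul_zero]
  have hsurj : Function.Surjective (q.baseChange T₀) := by
    rw [LinearMap.baseChange_eq_ltensor]
    exact LinearMap.lTensor_surjective T₀ (Submodule.mkQ_surjective _)
  refine ⟨fun a b => ?_⟩
  obtain ⟨za, rfl⟩ := hsurj a
  obtain ⟨zb, rfl⟩ := hsurj b
  have ha := step3 (isb.equiv za) (step2 _)
  have hb := step3 (isb.equiv zb) (step2 _)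
  rw [LinearEquiv.symm_apply_apply] at ha hb
  rw [ha, hb]

section Main

/-- abstract relative Milnor patching of finite presentation -/
theorem finitePresentation_of_isBaseChange
    {B' B A' A : Type u} [CommRing B'] [CommRing B] [CommRing A'] [CommRing A]
    [Algebra B' B] [Algebra B' A'] [Algebra B A] [Algebra A' A] [Algebra B' A]
    [IsScalarTower B' B A] [IsScalarTower B' A' A]
    (hsq : EtMil.IsFibreSquare B' B A' A)
    {D' : Type u} (D C' : Type u) [CommRing D'] [CommRing D] [CommRing C']
    [Algebra B' D'] [Algebra B D] [Algebra D' D] [Algebra B' D] [IsScalarTower B' B D]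
    [IsScalarTower B' D' D] [Algebra.IsPushout B' B D' D]
    [Algebra A' C'] [Algebra D' C'] [Algebra B' C'] [IsScalarTower B' A' C']
    [IsScalarTower B' D' C'] [Algebra.IsPushout B' A' D' C']
    {L : Type u} [AddCommGroup L] [Module D' L] [Module B' L] [IsScalarTower B' D' L]
    [Module.Flat B' L] [Module.Finite D' L]
    {N : Type u} [AddCommGroup N] [Module D N] [Module D' N] [IsScalarTower D' D N]
    [Module B N] [IsScalarTower B D N] [Module B' N] [IsScalarTower B' B N]
    [IsScalarTower B' D' N] [Module.FinitePresentation D N]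
    {M' : Type u} [AddCommGroup M'] [Module C' M'] [Module D' M'] [IsScalarTower D' C' M']
    [Module A' M'] [IsScalarTower A' C' M'] [Module B' M'] [IsScalarTower B' A' M']
    [IsScalarTower B' D' M'] [Module.FinitePresentation C' M']
    (pr₁ : L →ₗ[D'] N) (h₁ : IsBaseChange B (pr₁.restrictScalars B'))
    (pr₂ : L →ₗ[D'] M') (h₂ : IsBaseChange A' (pr₂.restrictScalars B')) :
    Module.FinitePresentation D' L := by
  classical
  obtain ⟨n, f, hf⟩ := Module.Finite.exists_fin' D' L
  refine Module.finitePresentation_of_free_of_surjective f hf ?_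
  obtain ⟨s₁, hs₁⟩ := exists_finset_one_side (T₀ := B) D pr₁ f h₁ hf
  obtain ⟨s₂, hs₂⟩ := exists_finset_one_side (T₀ := A') C' pr₂ f h₂ hf
  let X₀ : Submodule D' (LinearMap.ker f) :=
    Submodule.span D' (↑(s₁ ∪ s₂) : Set (LinearMap.ker f))
  haveI : Subsingleton (B ⊗[B'] ((LinearMap.ker f) ⧸ (X₀.restrictScalars B'))) :=
    hs₁ X₀ (fun x hx => Submodule.subset_span (by
      simp only [Finset.coe_union]
      exact Or.inl hx))
  haveI : Subsingleton (A' ⊗[B'] ((LinearMap.ker f) ⧸ (X₀.restrictScalars B'))) :=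
    hs₂ X₀ (fun x hx => Submodule.subset_span (by
      simp only [Finset.coe_union]
      exact Or.inr hx))
  have hsub : Subsingleton ((LinearMap.ker f) ⧸ (X₀.restrictScalars B')) :=
    FlatMilnor2.subsingleton_of_fibreSquare B' B A' A hsq _
  have htop' : X₀.restrictScalars B' = ⊤ := Submodule.Quotient.subsingleton_iff.mp hsub
  have htop : X₀ = ⊤ := by
    rw [eq_top_iff]
    intro x _
    have : x ∈ X₀.restrictScalars B' := by rw [htop']; trivial
    exact this
  exact (Submodule.fg_top _).mp ⟨s₁ ∪ s₂, htop⟩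

end Main

end Groth.Agent.Helper8.MilFP
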