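import Mathlib
import Groth.Agent.Helper8.MilFPA
import Groth.Agent.Helper2.MilnorRel
import Groth.Agent.Helper7.MilnorGlue2

/-! Relative Milnor patching: finite presentation of the glued module. -/

set_option autoImplicit false
universe u
open TensorProduct LinearMap

namespace Groth.Agent.Helper8.MilFP

open Groth.Agent.Helper7 Groth.Agent.Helper2

theorem glue_finitePresentation_rel
    {B' B A' A : Type u} [CommRing B'] [CommRing B] [CommRing A'] [CommRing A]
    [Algebra B' B] [Algebra B' A'] [Algebra B A] [Algebra A' A] [Algebra B' A]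
    [IsScalarTower B' B A] [IsScalarTower B' A' A]
    (hsq : EtMil.IsFibreSquare B' B A' A)
    {D' D C' C : Type u} [CommRing D'] [CommRing D] [CommRing C'] [CommRing C]
    [Algebra B' D'] [Algebra B D] [Algebra A' C'] [Algebra A C]
    [Algebra D' D] [Algebra B' D] [IsScalarTower B' B D] [IsScalarTower B' D' D]
    [Algebra.IsPushout B' B D' D]
    [Algebra D' C'] [Algebra B' C'] [IsScalarTower B' A' C'] [IsScalarTower B' D' C']
    [Algebra.IsPushout B' A' D' C']
    [Algebra D' C] [Algebra B' C] [IsScalarTower B' A C] [IsScalarTower B' D' C]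
    [Algebra.IsPushout B' A D' C]
    [Algebra D C] [IsScalarTower D' D C] [Algebra B C] [IsScalarTower B A C] [IsScalarTower B D C]
    [Algebra C' C] [IsScalarTower D' C' C] [Algebra A' C] [IsScalarTower A' A C]
    [IsScalarTower A' C' C]
    {N M' : Type u} [AddCommGroup N] [Module D N] [Module D' N] [IsScalarTower D' D N]
    [AddCommGroup M'] [Module C' M'] [Module D' M'] [IsScalarTower D' C' M']
    (φ : C ⊗[D] N ≃ₗ[C] C ⊗[C'] M')
    [Module B N] [IsScalarTower B D N] [Module A' M'] [IsScalarTower A' C' M']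
    [Module.FinitePresentation D N] [Module.Flat B N] [Module.FinitePresentation C' M']
    [Module.Flat A' M'] :
    Module.FinitePresentation D' ↥(EtMil.glue D' φ) := by
  -- `B'`-module structures
  letI mN : Module B' N := Module.compHom N (algebraMap B' D')
  letI mM : Module B' M' := Module.compHom M' (algebraMap B' D')
  have smulN : ∀ (b : B') (n : N), b • n = algebraMap B' D' b • n := fun _ _ => rfl
  have smulM : ∀ (b : B') (m : M'), b • m = algebraMap B' D' b • m := fun _ _ => rfl
  haveI tN1 : IsScalarTower B' D' N := ⟨fun b d n => by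
    rw [smulN, Algebra.smul_def, mul_smul]⟩
  haveI tM1 : IsScalarTower B' D' M' := ⟨fun b d m => by
    rw [smulM, Algebra.smul_def, mul_smul]⟩
  haveI tN2 : IsScalarTower B' B N := ⟨fun b' b n => by
    rw [smulN, ← algebraMap_smul D (algebraMap B' D' b'), ← algebraMap_smul D (b' • b),
      ← algebraMap_smul D b n, smul_smul, Algebra.smul_def, map_mul,
      ← IsScalarTower.algebraMap_apply B' D' D, ← IsScalarTower.algebraMap_apply B' B D]⟩
  haveI tM2 : IsScalarTower B' A' M' := ⟨fun b' a m => by
    rw [smulM, ← algebraMap_smul C' (algebraMap B' D' b'), ← algebraMap_smul C' (b' • a),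
      ← algebraMap_smul C' a m, smul_smul, Algebra.smul_def, map_mul,
      ← IsScalarTower.algebraMap_apply B' D' C', ← IsScalarTower.algebraMap_apply B' A' C']⟩
  -- pushouts
  haveI tB'DC : IsScalarTower B' D C := IsScalarTower.of_algebraMap_eq fun x => by
    rw [IsScalarTower.algebraMap_apply B' D' C, IsScalarTower.algebraMap_apply D' D C,
      ← IsScalarTower.algebraMap_apply B' D' D]
  haveI pR : Algebra.IsPushout A' A C' C := MilnorRel.isPushout_right B' D'
  haveI pL : Algebra.IsPushout B A D C :=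
    (Algebra.IsPushout.comp_iff B' B D' D (T := A) (T' := C)).mp inferInstance
  -- the absolute gluing isomorphism
  let e₁ : C ⊗[D] N ≃ₗ[A] A ⊗[B] N := Algebra.IsPushout.cancelBaseChange B A D C N
  let e₂ : C ⊗[C'] M' ≃ₗ[A] A ⊗[A'] M' := Algebra.IsPushout.cancelBaseChange A' A C' C M'
  let φA : A ⊗[B] N ≃ₗ[A] A ⊗[A'] M' := e₁.symm ≪≫ₗ (φ.restrictScalars A) ≪≫ₗ e₂
  have hφA : ∀ n : N, φA ((1 : A) ⊗ₜ[B] n) = e₂ (φ ((1 : C) ⊗ₜ[D] n)) := by
    intro n
    show e₂ (φ (e₁.symm ((1 : A) ⊗ₜ[B] n))) = _
    rw [Algebra.IsPushout.cancelBaseChange_symm_tmul, map_one]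
  have hcar : ∀ x : N × M', x ∈ EtMil.glue B' φA ↔ x ∈ EtMil.glue D' φ := by
    intro x
    show φA ((1 : A) ⊗ₜ[B] x.1) = (1 : A) ⊗ₜ[A'] x.2 ↔ φ ((1 : C) ⊗ₜ[D] x.1) = (1 : C) ⊗ₜ[C'] x.2
    rw [hφA, ← Algebra.IsPushout.cancelBaseChange_tmul A' A C' C M' x.2]
    exact e₂.injective.eq_iff
  -- the identification of the two glued modules
  let eL : ↥(EtMil.glue D' φ) ≃ₗ[B'] ↥(EtMil.glue B' φA) :=
    { toFun := fun x => ⟨x.1, (hcar x.1).mpr x.2⟩
      invFun := fun x => ⟨x.1, (hcar x.1).mp x.2⟩
      map_add' := fun _ _ => rfl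
      map_smul' := fun _ _ => rfl
      left_inv := fun _ => rfl
      right_inv := fun _ => rfl }
  haveI : Module.Flat B' ↥(EtMil.glue B' φA) :=
    MilnorGlue.glue_flat hsq N M' φA inferInstance inferInstance
  haveI : Module.Flat B' ↥(EtMil.glue D' φ) := Module.Flat.of_linearEquiv eL
  haveI : Module.Finite D N := inferInstance
  haveI : Module.Finite C' M' := inferInstance
  haveI : Module.Finite D' ↥(EtMil.glue D' φ) := MilnorRel.glue_finite_rel hsq φ
  -- base change isomorphisms
  have h₁ : IsBaseChange B ((EtMil.glueFst D' φ).restrictScalars B') := by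
    refine IsBaseChange.of_equiv
      ((TensorProduct.AlgebraTensorModule.congr (LinearEquiv.refl B B) eL) ≪≫ₗ
        LinearEquiv.ofBijective (MilnorGlue.rho1 B' φA) (MilnorGlue.rho1_bijective B' φA hsq))
      (fun x => ?_)
    simp only [LinearEquiv.trans_apply, TensorProduct.AlgebraTensorModule.congr_tmul,
      LinearEquiv.refl_apply, LinearEquiv.ofBijective_apply, MilnorGlue.rho1,
      LinearMap.liftBaseChange_tmul, one_smul]
    rfl
  have h₂ : IsBaseChange A' ((EtMil.glueSnd D' φ).restrictScalars B') := by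
    refine IsBaseChange.of_equiv
      ((TensorProduct.AlgebraTensorModule.congr (LinearEquiv.refl A' A') eL) ≪≫ₗ
        LinearEquiv.ofBijective (MilnorGlue.rho B' φA) (MilnorGlue.rho_bijective B' φA hsq))
      (fun x => ?_)
    simp only [LinearEquiv.trans_apply, TensorProduct.AlgebraTensorModule.congr_tmul,
      LinearEquiv.refl_apply, LinearEquiv.ofBijective_apply, MilnorGlue.rho,
      LinearMap.liftBaseChange_tmul, one_smul]
    rfl
  exact finitePresentation_of_isBaseChange hsq D C' (EtMil.glueFst D' φ) h₁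
    (EtMil.glueSnd D' φ) h₂

end Groth.Agent.Helper8.MilFP
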