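import Mathlib
import Groth.Agent.Helper8.Schl25
import Groth.Agent.Helper6.ArtFunMinimal
set_option autoImplicit false
universe u v

namespace Groth.Agent.Helper8.MinV
open ArtFun ArtFun.Art IsLocalRing CategoryTheory Groth.Agent.Helper6

variable {Λ : Type u} {k : Type u} [CommRing Λ] [Field k] [Algebra Λ k]

section FiniteLength

variable [IsNoetherianRing Λ] [Module.Finite Λ k]

theorem ker_algebraMap_isMaximal : (RingHom.ker (algebraMap Λ k)).IsMaximal := by
  letI : Algebra (Λ ⧸ RingHom.ker (algebraMap Λ k)) k := (RingHom.kerLift (algebraMap Λ k)).toAlgebra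
  haveI : IsScalarTower Λ (Λ ⧸ RingHom.ker (algebraMap Λ k)) k :=
    IsScalarTower.of_algebraMap_eq fun x => rfl
  haveI : Algebra.IsIntegral Λ k := Algebra.IsIntegral.of_finite Λ k
  haveI : Algebra.IsIntegral (Λ ⧸ RingHom.ker (algebraMap Λ k)) k :=
    ⟨fun x => (Algebra.IsIntegral.isIntegral (R := Λ) x).tower_top⟩
  have hinj : Function.Injective (algebraMap (Λ ⧸ RingHom.ker (algebraMap Λ k)) k) :=
    RingHom.kerLift_injective (algebraMap Λ k)
  exact Ideal.Quotient.maximal_of_isField _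
    (isField_of_isIntegral_of_isField hinj (Field.toIsField k))

theorem isArtinianRing_quot_pow (𝔫 : Ideal Λ) [h𝔫 : 𝔫.IsMaximal] (N : ℕ) :
    IsArtinianRing (Λ ⧸ 𝔫 ^ N) := by
  rw [isArtinianRing_iff_krullDimLE_zero, Ring.krullDimLE_zero_iff]
  intro P hP
  have h1 : 𝔫 ^ N ≤ P.comap (Ideal.Quotient.mk (𝔫 ^ N)) := by
    intro x hx
    rw [Ideal.mem_comap, Ideal.Quotient.eq_zero_iff_mem.2 hx]
    exact zero_mem _
  haveI : (P.comap (Ideal.Quotient.mk (𝔫 ^ N))).IsPrime := Ideal.comap_isPrime _ _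
  have h2 : 𝔫 ≤ P.comap (Ideal.Quotient.mk (𝔫 ^ N)) := Ideal.IsPrime.le_of_pow_le h1
  have h3 : P.comap (Ideal.Quotient.mk (𝔫 ^ N)) = 𝔫 :=
    (h𝔫.eq_of_le (Ideal.IsPrime.ne_top inferInstance) h2).symm
  have h4 : P = 𝔫.map (Ideal.Quotient.mk (𝔫 ^ N)) :=
    (Ideal.map_comap_of_surjective _ Ideal.Quotient.mk_surjective P).symm.trans
      (congrArg (Ideal.map (Ideal.Quotient.mk (𝔫 ^ N))) h3)
  rcases Ideal.map_eq_top_or_isMaximal_of_surjective (Ideal.Quotient.mk (𝔫 ^ N))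
    Ideal.Quotient.mk_surjective h𝔫 with h5 | h5
  · exact absurd (h4.trans h5) hP.ne_top
  · rw [h4]
    exact h5

theorem art_isArtinian (A : Art Λ k) : IsArtinian Λ A := by
  haveI h𝔫 : (RingHom.ker (algebraMap Λ k)).IsMaximal := ker_algebraMap_isMaximal
  obtain ⟨N, hN⟩ := exists_maximalIdeal_pow_eq_bot A
  have h1 : ∀ l ∈ RingHom.ker (algebraMap Λ k), algebraMap Λ A l ∈ maximalIdeal A := by
    intro l hl
    rw [Art.mem_maximalIdeal_iff, AlgHom.commutes]
    exact hl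
  have h2 : Ideal.map (algebraMap Λ A) (RingHom.ker (algebraMap Λ k) ^ N) = ⊥ := by
    rw [Ideal.map_pow]
    apply le_bot_iff.1
    rw [← hN]
    exact Ideal.pow_right_mono (Ideal.map_le_iff_le_comap.2 h1) N
  have htors : Module.IsTorsionBySet Λ A ((RingHom.ker (algebraMap Λ k) ^ N : Ideal Λ) : Set Λ) := by
    intro a l
    have h3 : algebraMap Λ A l.1 ∈ Ideal.map (algebraMap Λ A) (RingHom.ker (algebraMap Λ k) ^ N) :=
      Ideal.mem_map_of_mem _ l.2
    rw [h2, Ideal.mem_bot] at h3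
    rw [Algebra.smul_def, h3, zero_mul]
  letI : Module (Λ ⧸ RingHom.ker (algebraMap Λ k) ^ N) A := htors.module
  haveI : IsScalarTower Λ (Λ ⧸ RingHom.ker (algebraMap Λ k) ^ N) A := htors.isScalarTower
  haveI := isArtinianRing_quot_pow (RingHom.ker (algebraMap Λ k)) N
  haveI : Module.Finite Λ A := Groth.Agent.Helper8.Schl.art_finite A
  haveI : Module.Finite (Λ ⧸ RingHom.ker (algebraMap Λ k) ^ N) A :=
    Module.Finite.of_restrictScalars_finite Λ _ _
  haveI : IsArtinian (Λ ⧸ RingHom.ker (algebraMap Λ k) ^ N) A := inferInstance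
  exact isArtinian_of_surjective_algebraMap (R := Λ ⧸ RingHom.ker (algebraMap Λ k) ^ N) (S := Λ)
    Ideal.Quotient.mk_surjective

theorem art_isNoetherian (A : Art Λ k) : IsNoetherian Λ A := by
  haveI : Module.Finite Λ A := Groth.Agent.Helper8.Schl.art_finite A
  infer_instance

end FiniteLength

section Fitting

variable {Λ : Type*} {A : Type*} [CommRing Λ] [CommRing A] [Algebra Λ A]

/-- Fitting data for an algebra endomorphism: `b = a ^ n₀` with `A = ker b ⊕ range b`,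
`ker b` the union of the kernels and `range b` the intersection of the ranges of the powers. -/
structure IsFit (a : A →ₐ[Λ] A) (n₀ : ℕ) : Prop where
  decomp : ∀ x, ∃ y, (∃ w, (a ^ n₀) w = y) ∧ (a ^ n₀) (x - y) = 0
  disj : ∀ x, (a ^ n₀) x = 0 → (∃ w, (a ^ n₀) w = x) → x = 0
  ker_le : ∀ m x, (a ^ m) x = 0 → (a ^ n₀) x = 0
  range_le : ∀ m w, ∃ w', (a ^ m) w' = (a ^ n₀) w

theorem toLinearMap_pow_apply (a : A →ₐ[Λ] A) (m : ℕ) (x : A) :
    (a.toLinearMap ^ m) x = (a ^ m) x := by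
  have h : AlgHom.toEnd (a ^ m) = (AlgHom.toEnd a) ^ m := map_pow AlgHom.toEnd a m
  have h2 : (AlgHom.toEnd a) ^ m = a.toLinearMap ^ m := rfl
  rw [← h2, ← h]
  rfl

theorem exists_isFit [IsNoetherian Λ A] [IsArtinian Λ A] (a : A →ₐ[Λ] A) : ∃ n₀, IsFit a n₀ := by
  obtain ⟨n₀, hn₀⟩ := Filter.eventually_atTop.mp
    ((a.toLinearMap).eventually_isCompl_ker_pow_range_pow.and
      ((a.toLinearMap).eventually_iInf_range_pow_eq.and (a.toLinearMap).eventually_iSup_ker_pow_eq))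
  obtain ⟨h₁, h₂, h₃⟩ := hn₀ n₀ le_rfl
  refine ⟨n₀, ?_, ?_, ?_, ?_⟩
  · intro x
    have hx : x ∈ LinearMap.ker (a.toLinearMap ^ n₀) ⊔ LinearMap.range (a.toLinearMap ^ n₀) := by
      rw [h₁.sup_eq_top]; trivial
    obtain ⟨z, hz, y, hy, hzy⟩ := Submodule.mem_sup.1 hx
    refine ⟨y, ?_, ?_⟩
    · obtain ⟨w, hw⟩ := hy
      exact ⟨w, (toLinearMap_pow_apply a n₀ w).symm.trans hw⟩
    · have : x - y = z := by rw [← hzy]; ring
      rw [this, ← toLinearMap_pow_apply]
      exact hz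
  · intro x hx hx'
    refine Submodule.disjoint_def.1 h₁.disjoint x ?_ ?_
    · rw [LinearMap.mem_ker, toLinearMap_pow_apply]; exact hx
    · obtain ⟨w, hw⟩ := hx'
      exact ⟨w, (toLinearMap_pow_apply a n₀ w).trans hw⟩
  · intro m x hx
    have h4 : x ∈ LinearMap.ker (a.toLinearMap ^ m) := by
      rw [LinearMap.mem_ker, toLinearMap_pow_apply]; exact hx
    have h5 : x ∈ ⨆ m, LinearMap.ker (a.toLinearMap ^ m) :=
      (le_iSup (fun m => LinearMap.ker (a.toLinearMap ^ m)) m) h4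
    rw [h₃, LinearMap.mem_ker, toLinearMap_pow_apply] at h5
    exact h5
  · intro m w
    have h4 : (a ^ n₀) w ∈ LinearMap.range (a.toLinearMap ^ n₀) :=
      ⟨w, toLinearMap_pow_apply a n₀ w⟩
    rw [← h₂] at h4
    have h5 := (iInf_le (fun m => LinearMap.range (a.toLinearMap ^ m)) m) h4
    obtain ⟨w', hw'⟩ := h5
    exact ⟨w', (toLinearMap_pow_apply a m w').symm.trans hw'⟩

variable [IsNoetherian Λ A] [IsArtinian Λ A]

/-- the stabilisation index -/
noncomputable def fitIdx (a : A →ₐ[Λ] A) : ℕ := Classical.choose (exists_isFit a)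

theorem isFit_fitIdx (a : A →ₐ[Λ] A) : IsFit a (fitIdx a) := Classical.choose_spec (exists_isFit a)

/-- the projection on the stable range along the stable kernel, as a function -/
noncomputable def fitFun (a : A →ₐ[Λ] A) (x : A) : A :=
  Classical.choose ((isFit_fitIdx a).decomp x)

theorem fitFun_spec (a : A →ₐ[Λ] A) (x : A) :
    (∃ w, (a ^ fitIdx a) w = fitFun a x) ∧ (a ^ fitIdx a) (x - fitFun a x) = 0 :=
  Classical.choose_spec ((isFit_fitIdx a).decomp x)

theorem fitFun_unique (a : A →ₐ[Λ] A) (x y : A) (hy : ∃ w, (a ^ fitIdx a) w = y)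
    (hxy : (a ^ fitIdx a) (x - y) = 0) : fitFun a x = y := by
  obtain ⟨⟨w, hw⟩, h2⟩ := fitFun_spec a x
  obtain ⟨w', hw'⟩ := hy
  have h3 : fitFun a x - y = 0 := by
    apply (isFit_fitIdx a).disj
    · have : fitFun a x - y = (x - y) - (x - fitFun a x) := by ring
      rw [this, map_sub, hxy, h2, sub_zero]
    · exact ⟨w - w', by rw [map_sub, hw, hw']⟩
  exact sub_eq_zero.1 h3

/-- the Fitting projection as an algebra endomorphism -/
noncomputable def fitProj (a : A →ₐ[Λ] A) : A →ₐ[Λ] A where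
  toFun := fitFun a
  map_one' := fitFun_unique a 1 1 ⟨1, map_one _⟩ (by rw [sub_self, map_zero])
  map_mul' x y := by
    obtain ⟨⟨w, hw⟩, h2⟩ := fitFun_spec a x
    obtain ⟨⟨w', hw'⟩, h2'⟩ := fitFun_spec a y
    apply fitFun_unique
    · exact ⟨w * w', by rw [map_mul, hw, hw']⟩
    · rw [map_sub, sub_eq_zero] at h2 h2'
      rw [map_sub, map_mul, map_mul, h2, h2', sub_self]
  map_zero' := fitFun_unique a 0 0 ⟨0, map_zero _⟩ (by rw [sub_self, map_zero])
  map_add' x y := by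
    obtain ⟨⟨w, hw⟩, h2⟩ := fitFun_spec a x
    obtain ⟨⟨w', hw'⟩, h2'⟩ := fitFun_spec a y
    apply fitFun_unique
    · exact ⟨w + w', by rw [map_add, hw, hw']⟩
    · have : x + y - (fitFun a x + fitFun a y) = (x - fitFun a x) + (y - fitFun a y) := by ring
      rw [this, map_add, h2, h2', add_zero]
  commutes' c := fitFun_unique a _ _ ⟨algebraMap Λ A c, AlgHom.commutes _ c⟩
    (by rw [sub_self, map_zero])

theorem fitProj_apply (a : A →ₐ[Λ] A) (x : A) : fitProj a x = fitFun a x := rfl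

theorem fitProj_pow (a : A →ₐ[Λ] A) (x : A) : fitProj a ((a ^ fitIdx a) x) = (a ^ fitIdx a) x :=
  fitFun_unique a _ _ ⟨x, rfl⟩ (by rw [sub_self, map_zero])

theorem fitProj_idem (a : A →ₐ[Λ] A) (x : A) : fitProj a (fitProj a x) = fitProj a x :=
  fitFun_unique a _ _ (fitFun_spec a x).1 (by rw [sub_self, map_zero])

theorem fitProj_eq_zero (a : A →ₐ[Λ] A) (x : A) (hx : a x = 0) : fitProj a x = 0 := by
  apply fitFun_unique a x 0 ⟨0, map_zero _⟩
  rw [sub_zero]
  apply (isFit_fitIdx a).ker_le 1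
  rw [pow_one]
  exact hx

theorem comp_pow_eq {B : Type*} [CommRing B] [Algebra Λ B] (r : A →ₐ[Λ] B) (a : A →ₐ[Λ] A)
    (a' : B →ₐ[Λ] B) (h : r.comp a = a'.comp r) (m : ℕ) (x : A) : r ((a ^ m) x) = (a' ^ m) (r x) := by
  induction m generalizing x with
  | zero => rfl
  | succ m ih =>
    rw [pow_succ, pow_succ, AlgHom.mul_apply, AlgHom.mul_apply, ih]
    exact congrArg (a' ^ m) (congrArg (fun t : A →ₐ[Λ] B => t x) h)

/-- anything invariant under `a` is invariant under the Fitting projection: `r (p x) = r x`. -/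
theorem comp_fitProj_eq {B : Type*} [CommRing B] [Algebra Λ B] (r : A →ₐ[Λ] B) (a : A →ₐ[Λ] A)
    (h : r.comp a = r) (x : A) : r (fitProj a x) = r x := by
  have h1 := (fitFun_spec a x).2
  have h2 := comp_pow_eq r a (AlgHom.id Λ B) (by rw [h]; rfl) (fitIdx a) (x - fitFun a x)
  rw [h1, map_zero] at h2
  have h3 : ∀ (m : ℕ) (z : B), ((AlgHom.id Λ B) ^ m) z = z := by
    intro m z
    induction m with
    | zero => rfl
    | succ m ih => rw [pow_succ, AlgHom.mul_apply]; exact ih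
  rw [h3, map_sub, eq_comm, sub_eq_zero] at h2
  exact h2.symm

/-- functoriality of the Fitting projection -/
theorem fitProj_natural {B : Type*} [CommRing B] [Algebra Λ B] [IsNoetherian Λ B] [IsArtinian Λ B]
    (t : A →ₐ[Λ] B) (a : A →ₐ[Λ] A) (a' : B →ₐ[Λ] B) (h : t.comp a = a'.comp t) (x : A) :
    t (fitProj a x) = fitProj a' (t x) := by
  symm
  obtain ⟨⟨w, hw⟩, h2⟩ := fitFun_spec a x
  apply fitFun_unique
  · obtain ⟨w', hw'⟩ := (isFit_fitIdx a).range_le (fitIdx a') w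
    refine ⟨t w', ?_⟩
    rw [← comp_pow_eq t a a' h, hw', hw]
    rfl
  · apply (isFit_fitIdx a').ker_le (fitIdx a)
    rw [← map_sub, ← comp_pow_eq t a a' h]
    change t ((a ^ fitIdx a) (x - fitFun a x)) = 0
    rw [h2, map_zero]

end Fitting

end Groth.Agent.Helper8.MinV
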