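import Mathlib
import Groth.Agent.Helper8.MinV1
set_option autoImplicit false
universe u v

namespace Groth.Agent.Helper8.MinV
open ArtFun ArtFun.Art IsLocalRing CategoryTheory Groth.Agent.Helper6 Groth.Agent.Helper8.Schl

variable {Λ : Type u} {k : Type u} [CommRing Λ] [Field k] [Algebra Λ k]
variable [IsNoetherianRing Λ] [Module.Finite Λ k]

/-- the Fitting projection of an endomorphism in `Art Λ k` -/
noncomputable def fitArt {A : Art Λ k} (a : A ⟶ A) : A ⟶ A :=
  haveI := art_isNoetherian A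
  haveI := art_isArtinian A
  ⟨fitProj a.toAlgHom, AlgHom.ext fun x => comp_fitProj_eq A.res a.toAlgHom a.res_comp x⟩

omit [IsNoetherianRing Λ] [Module.Finite Λ k] in
theorem res_comp_pow {A : Art Λ k} (a : A ⟶ A) (m : ℕ) : A.res.comp (a.toAlgHom ^ m) = A.res := by
  induction m with
  | zero => rfl
  | succ m ih =>
    rw [pow_succ]
    change (A.res.comp (a.toAlgHom ^ m)).comp a.toAlgHom = A.res
    rw [ih, a.res_comp]

/-- powers of an endomorphism in `Art Λ k` -/
noncomputable def artPow {A : Art Λ k} (a : A ⟶ A) (m : ℕ) : A ⟶ A := ⟨a.toAlgHom ^ m, res_comp_pow a m⟩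

omit [IsNoetherianRing Λ] [Module.Finite Λ k] in
theorem map_artPow_eq {F : Art Λ k ⥤ Type v} {A : Art Λ k} (a : A ⟶ A) (η : F.obj A)
    (h : F.map a η = η) (m : ℕ) : F.map (artPow a m) η = η := by
  induction m with
  | zero =>
    have : artPow a 0 = 𝟙 A := Art.hom_ext rfl
    rw [this, Functor.map_id_apply]
  | succ m ih =>
    have : artPow a (m + 1) = a ≫ artPow a m := Art.hom_ext (pow_succ a.toAlgHom m)
    rw [this, Functor.map_comp_apply, h, ih]

theorem map_fitArt_eq {F : Art Λ k ⥤ Type v} {A : Art Λ k} (a : A ⟶ A) (η : F.obj A)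
    (h : F.map a η = η) : F.map (fitArt a) η = η := by
  haveI := art_isNoetherian A
  haveI := art_isArtinian A
  have h1 : artPow a (fitIdx a.toAlgHom) ≫ fitArt a = artPow a (fitIdx a.toAlgHom) := by
    apply Art.hom_ext
    apply AlgHom.ext
    intro x
    exact fitProj_pow a.toAlgHom x
  have h2 := map_artPow_eq a η h (fitIdx a.toAlgHom)
  calc F.map (fitArt a) η = F.map (fitArt a) (F.map (artPow a (fitIdx a.toAlgHom)) η) := by rw [h2]
    _ = F.map (artPow a (fitIdx a.toAlgHom) ≫ fitArt a) η := (Functor.map_comp_apply F _ _ η).symm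
    _ = η := by rw [h1, h2]

theorem fitArt_natural {A B : Art Λ k} (t : A ⟶ B) (a : A ⟶ A) (a' : B ⟶ B) (h : a ≫ t = t ≫ a') :
    fitArt a ≫ t = t ≫ fitArt a' := by
  haveI := art_isNoetherian A
  haveI := art_isArtinian A
  haveI := art_isNoetherian B
  haveI := art_isArtinian B
  apply Art.hom_ext
  apply AlgHom.ext
  intro x
  exact fitProj_natural t.toAlgHom a.toAlgHom a'.toAlgHom (congrArg Art.Hom.toAlgHom h) x

theorem fitArt_idem {A : Art Λ k} (a : A ⟶ A) (x : A) : fitArt a (fitArt a x) = fitArt a x := by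
  haveI := art_isNoetherian A
  haveI := art_isArtinian A
  exact fitProj_idem a.toAlgHom x

theorem fitArt_eq_zero {A : Art Λ k} (a : A ⟶ A) (x : A) (hx : a x = 0) : fitArt a x = 0 := by
  haveI := art_isNoetherian A
  haveI := art_isArtinian A
  exact fitProj_eq_zero a.toAlgHom x hx

/-- The limit of the Fitting projections of the truncations of an endomorphism of a coefficient ring. -/
theorem exists_fitLim {F : Art Λ k ⥤ Type v} (S : CRing Λ k) (ε : CHom S S) :
    ∃ P : CHom S S, (∀ x, P.1 (P.1 x) = P.1 x) ∧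
      (Function.Injective P.1 → Function.Surjective ε.1) ∧
      (∀ u : FormalElt F S, u.push ε.1 ε.2 = u → u.push P.1 P.2 = u) := by
  let e : ∀ n, S.trunc n ⟶ S.trunc n := fun n => CRing.truncMapOfHom ε.1 ε.2 n
  let p : ∀ n, S.trunc n ⟶ S.trunc n := fun n => fitArt (e n)
  have hp : ∀ n, p (n + 1) ≫ S.truncMap n = S.truncMap n ≫ p n := fun n =>
    fitArt_natural (S.truncMap n) (e (n + 1)) (e n) (CRing.truncMapOfHom_truncMap ε.1 ε.2 n)
  let φ : ∀ n, HomSet S.carrier S.res (S.trunc n) := fun n => HomSet.map (p n) (S.truncHom n)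
  have hφ : ∀ n, HomSet.map (S.truncMap n) (φ (n + 1)) = φ n := by
    intro n
    change HomSet.map (S.truncMap n) (HomSet.map (p (n + 1)) (S.truncHom (n + 1))) =
      HomSet.map (p n) (S.truncHom n)
    rw [← homSet_map_comp, hp n, homSet_map_comp, CRing.truncMap_truncHom]
  obtain ⟨P, hP⟩ := CHom.exists_of_compat φ hφ
  have hPmk : ∀ n x, Ideal.Quotient.mk (S.mpow n) (P.1 x) = p n (Ideal.Quotient.mk (S.mpow n) x) :=
    fun n x => congrArg (fun t : HomSet S.carrier S.res (S.trunc n) => t.1 x) (hP n)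
  have hPn : ∀ n, CRing.truncMapOfHom P.1 P.2 n = p n := by
    intro n
    apply trunc_hom_ext
    apply Subtype.ext
    apply AlgHom.ext
    intro x
    exact hPmk n x
  have hidem : ∀ x, P.1 (P.1 x) = P.1 x := by
    intro x
    apply CRing.eq_of_forall_mk_eq S
    intro n
    rw [hPmk, hPmk]
    exact fitArt_idem (e n) _
  refine ⟨P, hidem, ?_, ?_⟩
  · intro hinj
    have hid : ∀ x, P.1 x = x := by
      intro x
      apply hinj
      exact hidem x
    have hp1 : ∀ z : S.trunc 1, p 1 z = z := by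
      intro z
      obtain ⟨x, rfl⟩ := Ideal.Quotient.mk_surjective z
      rw [← hPmk, hid]
    haveI := art_isArtinian (S.trunc 1)
    have hinj1 : Function.Injective (e 1).toAlgHom.toLinearMap := by
      rw [← LinearMap.ker_eq_bot, LinearMap.ker_eq_bot']
      intro z hz
      rw [← hp1 z]
      exact fitArt_eq_zero (e 1) z hz
    have hsurj1 := IsArtinian.surjective_of_injective_endomorphism _ hinj1
    apply CRing.surjective_of_map_maximalIdeal_sup_sq ε.1 ε.2
    apply le_antisymm (sup_le (CRing.map_maximalIdeal_le ε.1 ε.2) (Ideal.pow_le_self two_ne_zero))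
    intro x hx
    obtain ⟨z, hz⟩ := hsurj1 (Ideal.Quotient.mk (S.mpow 1) x)
    obtain ⟨y, rfl⟩ := Ideal.Quotient.mk_surjective z
    have h1 : Ideal.Quotient.mk (S.mpow 1) (ε.1 y) = Ideal.Quotient.mk (S.mpow 1) x := hz
    rw [Ideal.Quotient.eq] at h1
    have hy : y ∈ maximalIdeal S.carrier := by
      rw [CRing.mem_maximalIdeal_iff] at hx ⊢
      have h2 : S.res (ε.1 y - x) = 0 :=
        (CRing.mem_maximalIdeal_iff S _).1 (S.mpow_le 1 h1)
      rw [map_sub, hx, sub_zero, CRing.res_comp_apply ε.1 ε.2] at h2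
      exact h2
    have h3 : x = ε.1 y - (ε.1 y - x) := by ring
    rw [h3]
    exact Ideal.sub_mem _ (Ideal.mem_sup_left (Ideal.mem_map_of_mem _ hy)) (Ideal.mem_sup_right h1)
  · intro u hu
    apply FormalElt.ext'
    intro n
    change F.map (CRing.truncMapOfHom P.1 P.2 n) (u.elt n) = u.elt n
    rw [hPn]
    apply map_fitArt_eq
    exact congrArg (fun t : FormalElt F S => t.elt n) hu

end Groth.Agent.Helper8.MinV
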