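import Mathlib
import Groth.Agent.Helper8.MinV2
import Groth.Agent.Helper6.ArtFunProYoneda
set_option autoImplicit false
universe u v

namespace Groth.Agent.Helper8.MinV
open ArtFun ArtFun.Art IsLocalRing CategoryTheory Groth.Agent.Helper6 Groth.Agent.Helper8.Schl

variable {Λ : Type u} {k : Type u} [CommRing Λ] [Field k] [Algebra Λ k]

/-- the quotient map as a map of coefficient rings -/
noncomputable def quotHom (R : CRing Λ k) (J : Ideal R.carrier) (hJ : J ≤ maximalIdeal R.carrier) :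
    CHom R (quotCRing R J hJ) :=
  ⟨Ideal.Quotient.mkₐ Λ J, AlgHom.ext fun _ => rfl⟩

theorem along_congr {F : Art Λ k ⥤ Type v} {R S : CRing Λ k} (ξ : Family R.carrier R.res F)
    {g g' : R.carrier →ₐ[Λ] S.carrier} (hg : S.res.comp g = R.res) (hg' : S.res.comp g' = R.res)
    (h : g = g') : ξ.along g hg = ξ.along g' hg' := by
  subst h
  rfl

variable [IsNoetherianRing Λ] [Module.Finite Λ k]

theorem exists_minimal_retract {F : Art Λ k ⥤ Type v} (h0 : H0 F) (R : CRing Λ k)
    (ξ : Family R.carrier R.res F) (hξ : IsVersal ξ) :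
    ∃ (J : Ideal R.carrier) (hJ : J ≤ maximalIdeal R.carrier) (f : CHom (quotCRing R J hJ) R),
      (∀ y, (quotHom R J hJ).1 (f.1 y) = y) ∧
      ((ξ.along (quotHom R J hJ).1 (quotHom R J hJ).2).along f.1 f.2 = ξ) ∧
      (ξ.along (quotHom R J hJ).1 (quotHom R J hJ).2).IsMinimalVersal := by
  classical
  let Q : Set (Ideal R.carrier) := {J | ∃ α : CHom R R, RingHom.ker α.1 = J ∧
    (∀ x, α.1 (α.1 x) = α.1 x) ∧ ξ.along α.1 α.2 = ξ}
  have hne : Q.Nonempty := by
    refine ⟨⊥, ⟨AlgHom.id Λ R.carrier, AlgHom.comp_id _⟩, ?_, fun x => rfl, rfl⟩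
    exact (RingHom.injective_iff_ker_eq_bot _).1 Function.injective_id
  obtain ⟨J, ⟨α, hαJ, hαidem, hαξ⟩, hmax⟩ :=
    set_has_maximal_iff_noetherian.2 (inferInstance : IsNoetherian R.carrier R.carrier) Q hne
  have hJ : J ≤ maximalIdeal R.carrier := by
    intro x hx
    rw [← hαJ, RingHom.mem_ker] at hx
    rw [CRing.mem_maximalIdeal_iff, ← CRing.res_comp_apply α.1 α.2, hx, map_zero]
  let π : CHom R (quotCRing R J hJ) := quotHom R J hJ
  have hπmk : ∀ x, π.1 x = Ideal.Quotient.mk J x := fun x => rfl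
  have hle : ∀ x ∈ J, α.1 x = 0 := by
    intro x hx
    rw [← hαJ] at hx
    exact hx
  let f : CHom (quotCRing R J hJ) R := ⟨Ideal.Quotient.liftₐ J α.1 hle, by
    apply AlgHom.ext
    intro y
    obtain ⟨x, rfl⟩ := Ideal.Quotient.mk_surjective y
    exact CRing.res_comp_apply α.1 α.2 x⟩
  have hfπ : ∀ x, f.1 (π.1 x) = α.1 x := fun x => rfl
  have hπf : ∀ y, π.1 (f.1 y) = y := by
    intro y
    obtain ⟨x, rfl⟩ := Ideal.Quotient.mk_surjective y
    change Ideal.Quotient.mk J (α.1 x) = Ideal.Quotient.mk J x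
    rw [Ideal.Quotient.eq, ← hαJ, RingHom.mem_ker, map_sub, hαidem, sub_self]
  have hξf : (ξ.along π.1 π.2).along f.1 f.2 = ξ := by
    have hres : R.res.comp (f.1.comp π.1) = R.res := by
      rw [← AlgHom.comp_assoc, f.2, π.2]
    have h0 : (ξ.along π.1 π.2).along f.1 f.2 = ξ.along (f.1.comp π.1) hres := rfl
    have h1 : ξ.along (f.1.comp π.1) hres = ξ.along α.1 α.2 :=
      along_congr ξ hres α.2 (AlgHom.ext hfπ)
    rw [h0, h1, hαξ]
  have hξ' : IsVersal (ξ.along π.1 π.2) := by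
    intro B A μ hμ φ' y hy
    obtain ⟨ψ, h1, h2⟩ := hξ μ hμ (π.pull φ') y hy
    refine ⟨f.pull ψ, ?_, ?_⟩
    · rw [CHom.map_pull, h1, CHom.pull_pull]
      apply Subtype.ext
      apply AlgHom.ext
      intro y
      exact congrArg φ'.1 (hπf y)
    · have h3 := congrArg (fun η : Family R.carrier R.res F => η.app B ψ) hξf
      exact h3.trans h2
  -- every endomorphism of the quotient family is surjective
  have key : ∀ β : CHom (quotCRing R J hJ) (quotCRing R J hJ),
      (ξ.along π.1 π.2).along β.1 β.2 = ξ.along π.1 π.2 → Function.Surjective β.1 := by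
    intro β hβ
    obtain ⟨P, hPidem, hPinj, hPfix⟩ := exists_fitLim (F := F) (quotCRing R J hJ) β
    apply hPinj
    have hPξ : (ξ.along π.1 π.2).along P.1 P.2 = ξ.along π.1 π.2 := by
      apply Family.ext_of_toFormalElt
      rw [along_toFormalElt_eq_push]
      apply hPfix
      rw [← along_toFormalElt_eq_push, hβ]
    let α' : CHom R R := f.comp (P.comp π)
    have hα'app : ∀ x, α'.1 x = f.1 (P.1 (π.1 x)) := fun x => rfl
    have hα'Q : RingHom.ker α'.1 ∈ Q := by
      refine ⟨α', rfl, ?_, ?_⟩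
      · intro x
        rw [hα'app, hα'app, hπf, hPidem]
      · have h1 : ξ.along α'.1 α'.2 = ((ξ.along π.1 π.2).along P.1 P.2).along f.1 f.2 := rfl
        rw [h1, hPξ, hξf]
    have hJle : J ≤ RingHom.ker α'.1 := by
      intro x hx
      have hx0 : π.1 x = 0 := Ideal.Quotient.eq_zero_iff_mem.2 hx
      rw [RingHom.mem_ker, hα'app, hx0, map_zero, map_zero]
    have hkerle : RingHom.ker α'.1 ≤ J := by
      by_contra hnot
      exact hmax _ hα'Q (lt_of_le_not_ge hJle hnot)
    rw [injective_iff_map_eq_zero]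
    intro y hy
    obtain ⟨x, rfl⟩ := Ideal.Quotient.mk_surjective y
    have h1 : x ∈ RingHom.ker α'.1 := by
      have hy' : P.1 (π.1 x) = 0 := hy
      rw [RingHom.mem_ker, hα'app, hy', map_zero]
    exact Ideal.Quotient.eq_zero_iff_mem.2 (hkerle h1)
  refine ⟨J, hJ, f, hπf, hξf, hξ', ?_⟩
  intro R'' u h hh hpush
  have hs' := surjective_app_of_isVersal (ξ.along π.1 π.2) hξ' h0
  obtain ⟨μ, hμ, hμe⟩ := exists_along_toFormalElt_eq (quotCRing R J hJ) (ξ.along π.1 π.2) hξ' hs' R'' u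
  have hβres : (quotCRing R J hJ).res.comp (h.comp μ) = (quotCRing R J hJ).res := by
    rw [← AlgHom.comp_assoc, hh, hμ]
  have hβ : (ξ.along π.1 π.2).along (h.comp μ) hβres = ξ.along π.1 π.2 := by
    apply Family.ext_of_toFormalElt
    rw [along_toFormalElt_eq_push, ← push_push _ μ hμ h hh, ← along_toFormalElt_eq_push, hμe, hpush]
  have hsurj := key ⟨h.comp μ, hβres⟩ hβ
  intro y
  obtain ⟨x, hx⟩ := hsurj y
  exact ⟨μ x, hx⟩

end Groth.Agent.Helper8.MinV
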