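import Mathlib
import Groth.Agent.Helper8.MinV3
set_option autoImplicit false
universe u v

namespace Groth.Agent.Helper8.MinV
open ArtFun ArtFun.Art IsLocalRing CategoryTheory Groth.Agent.Helper6 Groth.Agent.Helper8.Schl

variable {Λ : Type u} {k : Type u} [CommRing Λ] [Field k] [Algebra Λ k]

/-- A map of coefficient rings `f : R' → R` with a retraction `π`, such that points of `R` lift along
small extensions whenever their restriction to `R'` lifts, is relatively versal. -/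
theorem relVersal_of_retract {R' R : CRing Λ k} (f : CHom R' R) (π : CHom R R')
    (hπf : ∀ y, π.1 (f.1 y) = y)
    (hlift : ∀ ⦃B A : Art Λ k⦄ (μ : B ⟶ A), IsSmallExt μ → ∀ (φ : HomSet R.carrier R.res A)
      (y : HomSet R'.carrier R'.res B), HomSet.map μ y = f.pull φ →
      ∃ ψ₀ : HomSet R.carrier R.res B, HomSet.map μ ψ₀ = φ) :
    RelVersal f := by
  rw [← isVersal_iff_relVersal]
  apply isVersal_of_smallExt
  intro B A μ hμ φ y₀ hy
  obtain ⟨y, rfl⟩ : ∃ y : HomSet R'.carrier R'.res B, y = y₀ := ⟨y₀, rfl⟩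
  have hy' : HomSet.map μ y = f.pull φ := hy
  obtain ⟨ψ₀, hψ₀⟩ := hlift μ hμ φ y hy'
  have hkey : ∀ m ∈ maximalIdeal B, ∀ c ∈ RingHom.ker μ.toAlgHom, m * c = 0 := by
    intro m hm c hc
    have h1 : m * c ∈ maximalIdeal B * RingHom.ker μ.toAlgHom := Ideal.mul_mem_mul hm hc
    rw [hμ.2.2.2] at h1
    exact h1
  have hkm : RingHom.ker μ.toAlgHom ≤ maximalIdeal B := ker_le_maximalIdeal μ
  have hμy : ∀ x, μ (y.1 x) = φ.1 (f.1 x) := fun x =>
    congrArg (fun t : HomSet R'.carrier R'.res A => t.1 x) hy'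
  have hμψ₀ : ∀ a, μ (ψ₀.1 a) = φ.1 a := fun a =>
    congrArg (fun t : HomSet R.carrier R.res A => t.1 a) hψ₀
  have hδ : ∀ a, y.1 (π.1 a) - ψ₀.1 (f.1 (π.1 a)) ∈ RingHom.ker μ.toAlgHom := by
    intro a
    rw [RingHom.mem_ker, map_sub]
    change μ (y.1 (π.1 a)) - μ (ψ₀.1 (f.1 (π.1 a))) = 0
    rw [hμy, hμψ₀, sub_self]
  have hm1 : ∀ a, ψ₀.1 a - y.1 (π.1 a) ∈ maximalIdeal B := by
    intro a
    rw [Art.mem_maximalIdeal_iff, map_sub, homSet_res_apply, homSet_res_apply,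
      CRing.res_comp_apply π.1 π.2, sub_self]
  have hm2 : ∀ a, ψ₀.1 a - ψ₀.1 (f.1 (π.1 a)) ∈ maximalIdeal B := by
    intro a
    rw [Art.mem_maximalIdeal_iff, map_sub, homSet_res_apply, homSet_res_apply,
      CRing.res_comp_apply f.1 f.2, CRing.res_comp_apply π.1 π.2, sub_self]
  let L : R.carrier →ₗ[Λ] B :=
    ψ₀.1.toLinearMap + (y.1.comp π.1).toLinearMap - (ψ₀.1.comp (f.1.comp π.1)).toLinearMap
  have hL : ∀ a, L a = ψ₀.1 a + y.1 (π.1 a) - ψ₀.1 (f.1 (π.1 a)) := fun a => rfl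
  let ψa : R.carrier →ₐ[Λ] B := AlgHom.ofLinearMap L
    (by
      have e1 : ψ₀.1 1 = 1 := map_one ψ₀.1
      have e2 : π.1 1 = 1 := map_one π.1
      have e3 : f.1 1 = 1 := map_one f.1
      have e4 : y.1 1 = 1 := map_one y.1
      rw [hL, e2, e3, e1, e4]; ring)
    (by
      intro a b
      rw [hL, hL, hL, map_mul, map_mul, map_mul, map_mul, map_mul]
      have e1 := hkey _ (hm1 a) _ (hδ b)
      have e2 := hkey _ (hm2 b) _ (hδ a)
      have e3 := hkey _ (hkm (hδ a)) _ (hδ b)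
      linear_combination (-1 : B) * e1 - e2 - e3)
  have hψa : ∀ a, ψa a = ψ₀.1 a + y.1 (π.1 a) - ψ₀.1 (f.1 (π.1 a)) := fun a => rfl
  have hres : B.res.comp ψa = R.res := by
    apply AlgHom.ext
    intro a
    change B.res (ψa a) = R.res a
    have h1 : B.res (y.1 (π.1 a) - ψ₀.1 (f.1 (π.1 a))) = 0 :=
      (Art.mem_maximalIdeal_iff B _).1 (hkm (hδ a))
    have h2 : ψa a = ψ₀.1 a + (y.1 (π.1 a) - ψ₀.1 (f.1 (π.1 a))) := by rw [hψa]; ring
    rw [h2, map_add, h1, add_zero, homSet_res_apply]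
  refine ⟨⟨ψa, hres⟩, ?_, ?_⟩
  · apply Subtype.ext
    apply AlgHom.ext
    intro a
    change μ (ψa a) = φ.1 a
    have h2 : ψa a = ψ₀.1 a + (y.1 (π.1 a) - ψ₀.1 (f.1 (π.1 a))) := by rw [hψa]; ring
    have h3 : μ (y.1 (π.1 a) - ψ₀.1 (f.1 (π.1 a))) = 0 := hδ a
    rw [h2]
    have h4 : μ (ψ₀.1 a + (y.1 (π.1 a) - ψ₀.1 (f.1 (π.1 a)))) =
        μ (ψ₀.1 a) + μ (y.1 (π.1 a) - ψ₀.1 (f.1 (π.1 a))) := map_add μ.toAlgHom _ _
    rw [h4, h3, add_zero, hμψ₀]
  · apply Subtype.ext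
    apply AlgHom.ext
    intro x
    change ψa (f.1 x) = y.1 x
    rw [hψa, hπf]
    ring

variable [IsNoetherianRing Λ] [Module.Finite Λ k]

theorem s12759 {F : Art Λ k ⥤ Type v} (h0 : H0 F) (V : VersalPair F) :
    ∃ (R' : CRing Λ k) (ξ' : Family R'.carrier R'.res F), ξ'.IsMinimalVersal ∧
      ∃ (g : R'.carrier →ₐ[Λ] V.ring.carrier) (hg : V.ring.res.comp g = R'.res)
        (n : ℕ) (e : V.ring.carrier ≃ₐ[Λ] MvPowerSeries (Fin n) R'.carrier),
        (∀ a : R'.carrier, e (g a) = algebraMap R'.carrier (MvPowerSeries (Fin n) R'.carrier) a) ∧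
        (ξ'.along g hg).toFormalElt = V.family.toFormalElt := by
  obtain ⟨J, hJ, f, hπf, hξf, hmin⟩ := exists_minimal_retract h0 V.ring V.family V.versal
  have hv : RelVersal f := by
    apply relVersal_of_retract f (quotHom V.ring J hJ) hπf
    intro B A μ hμ φ y hy
    have h1 : F.map μ ((V.family.along (quotHom V.ring J hJ).1 (quotHom V.ring J hJ).2).app B y) =
        V.family.app A φ := by
      rw [← Family.natural, hy]
      exact congrArg (fun η : Family V.ring.carrier V.ring.res F => η.app A φ) hξf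
    obtain ⟨ψ₀, hψ₀, -⟩ := V.versal μ hμ.1 φ _ h1
    exact ⟨ψ₀, hψ₀⟩
  obtain ⟨n, s, hbij, hs2⟩ := exists_ps_iso_of_relVersal f hv
  refine ⟨quotCRing V.ring J hJ, V.family.along (quotHom V.ring J hJ).1 (quotHom V.ring J hJ).2, hmin,
    f.1, f.2, n, AlgEquiv.ofBijective s.1 hbij, ?_, ?_⟩
  · intro a
    change s.1 (f.1 a) = _
    have h1 : s.1 (f.1 a) = (psC (quotCRing V.ring J hJ) n).1 a :=
      congrArg (fun t : CHom (quotCRing V.ring J hJ) (psCRing (quotCRing V.ring J hJ) n) => t.1 a) hs2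
    rw [h1]
    rfl
  · rw [hξf]

end Groth.Agent.Helper8.MinV
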