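import Mathlib
import Groth.Prelude.Def_CAlgX
import Groth.Agent.Helper8.CauchyBinet

set_option autoImplicit false
universe u

namespace Groth.Agent.Helper8.MinorSummand

open Matrix

variable {R : Type u} [CommRing R]

lemma mulVec_push {n m r : ℕ} (A : Matrix (Fin n) (Fin m) R) (g : Fin r → Fin m)
    (u : Fin r → R) :
    A *ᵥ (fun k => ∑ j, if k = g j then u j else 0) = A.submatrix id g *ᵥ u := by
  classical
  ext i
  simp only [Matrix.mulVec, dotProduct, Matrix.submatrix_apply, id_eq]
  simp_rw [Finset.mul_sum]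
  rw [Finset.sum_comm]
  refine Finset.sum_congr rfl (fun j _ => ?_)
  simp [mul_ite]

/-- key elimination lemma: if the bordered minor vanishes and `B c = v` then the residual vanishes -/
lemma border {n m r : ℕ} (A : Matrix (Fin n) (Fin m) R) (f : Fin r → Fin n) (g : Fin r → Fin m)
    (i : Fin n) (k : Fin m) (c : Fin r → R)
    (hc : ∀ a, ∑ j, A (f a) (g j) * c j = A (f a) k)
    (hdet : (A.submatrix (Fin.snoc (α := fun _ => Fin n) f i)
      (Fin.snoc (α := fun _ => Fin m) g k)).det = 0) :
    (A.submatrix f g).det * (A i k - ∑ j, A i (g j) * c j) = 0 := by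
  classical
  set f' : Fin (r + 1) → Fin n := Fin.snoc (α := fun _ => Fin n) f i with hf'
  set g' : Fin (r + 1) → Fin m := Fin.snoc (α := fun _ => Fin m) g k with hg'
  set M' := A.submatrix f' g' with hM'
  set y : Fin (r + 1) → R := Fin.snoc (α := fun _ => R) (fun j => - c j) 1 with hy
  set w := A i k - ∑ j, A i (g j) * c j with hw
  have hf'c : ∀ a : Fin r, f' a.castSucc = f a := fun a => by simp [hf']
  have hf'l : f' (Fin.last r) = i := by simp [hf']
  have hg'c : ∀ a : Fin r, g' a.castSucc = g a := fun a => by simp [hg']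
  have hg'l : g' (Fin.last r) = k := by simp [hg']
  have hyc : ∀ a : Fin r, y a.castSucc = - c a := fun a => by simp [hy]
  have hyl : y (Fin.last r) = 1 := by simp [hy]
  have hMy : ∀ p : Fin (r + 1), (M' *ᵥ y) p = A (f' p) k - ∑ j, A (f' p) (g j) * c j := by
    intro p
    simp only [Matrix.mulVec, dotProduct, Fin.sum_univ_castSucc, hM', Matrix.submatrix_apply,
      hg'c, hg'l, hyc, hyl, mul_one, mul_neg, Finset.sum_neg_distrib]
    ring
  have hMyc : ∀ a : Fin r, (M' *ᵥ y) a.castSucc = 0 := by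
    intro a
    rw [hMy, hf'c, hc a, sub_self]
  have hMyl : (M' *ᵥ y) (Fin.last r) = w := by
    rw [hMy, hf'l]
  have h0 : (M'.adjugate *ᵥ (M' *ᵥ y)) (Fin.last r) = 0 := by
    rw [Matrix.mulVec_mulVec, Matrix.adjugate_mul, hdet, zero_smul, Matrix.zero_mulVec]
    rfl
  have h1 : (M'.adjugate *ᵥ (M' *ᵥ y)) (Fin.last r) =
      M'.adjugate (Fin.last r) (Fin.last r) * w := by
    simp only [Matrix.mulVec, dotProduct]
    rw [Fin.sum_univ_castSucc]
    have : ∀ a : Fin r, M'.adjugate (Fin.last r) a.castSucc * (M' *ᵥ y) a.castSucc = 0 := by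
      intro a
      rw [hMyc a, mul_zero]
    simp only [Matrix.mulVec, dotProduct] at this hMyl
    rw [Finset.sum_eq_zero (fun a _ => this a), zero_add, hMyl]
  have h2 : M'.adjugate (Fin.last r) (Fin.last r) = (A.submatrix f g).det := by
    rw [Matrix.adjugate_fin_succ_eq_det_submatrix]
    have he : (-1 : R) ^ ((Fin.last r : ℕ) + (Fin.last r : ℕ)) = 1 :=
      Even.neg_one_pow ⟨_, rfl⟩
    rw [he, one_mul, Fin.succAbove_last]
    congr 1
    ext a b
    simp [hM', hf'c, hg'c]
  rw [← h2, ← h1, h0]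

theorem backward [IsLocalRing R] (n m r : ℕ) (A : Matrix (Fin n) (Fin m) R)
    (h1 : CAlgX.minorIdeal A (r + 1) = ⊥) (h2 : CAlgX.minorIdeal A r = ⊤) :
    ∃ N' : Submodule R (Fin n → R), IsCompl (LinearMap.range (Matrix.mulVecLin A)) N' ∧
        Module.finrank R (LinearMap.range (Matrix.mulVecLin A)) = r := by
  classical
  obtain ⟨f, g, hu⟩ : ∃ (f : Fin r → Fin n) (g : Fin r → Fin m),
      IsUnit (A.submatrix f g).det := by
    by_contra hcon
    push Not at hcon
    have hle : CAlgX.minorIdeal A r ≤ IsLocalRing.maximalIdeal R := by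
      unfold CAlgX.minorIdeal
      rw [Ideal.span_le]
      rintro _ ⟨fg, rfl⟩
      exact (IsLocalRing.mem_maximalIdeal _).mpr (hcon fg.1 fg.2)
    rw [h2] at hle
    exact (IsLocalRing.maximalIdeal.isMaximal R).ne_top (top_le_iff.mp hle)
  have hvan : ∀ (f' : Fin (r + 1) → Fin n) (g' : Fin (r + 1) → Fin m),
      (A.submatrix f' g').det = 0 := by
    intro f' g'
    have hmem : (A.submatrix f' g').det ∈ CAlgX.minorIdeal A (r + 1) :=
      Ideal.subset_span ⟨(f', g'), rfl⟩
    rw [h1] at hmem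
    exact hmem
  set B := A.submatrix f g with hB
  set T : (Fin r → R) →ₗ[R] (Fin n → R) := (A.submatrix id g).mulVecLin with hT
  set P : (Fin n → R) →ₗ[R] (Fin r → R) := LinearMap.funLeft R R f with hP
  have hPT : ∀ u, P (T u) = B *ᵥ u := by
    intro u
    ext a
    simp [hP, hT, hB, LinearMap.funLeft_apply, Matrix.mulVec, dotProduct]
  have hBB : ∀ v : Fin r → R, B *ᵥ (B⁻¹ *ᵥ v) = v := by
    intro v
    rw [Matrix.mulVec_mulVec, Matrix.mul_nonsing_inv B hu, Matrix.one_mulVec]
  have hBB' : ∀ v : Fin r → R, B⁻¹ *ᵥ (B *ᵥ v) = v := by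
    intro v
    rw [Matrix.mulVec_mulVec, Matrix.nonsing_inv_mul B hu, Matrix.one_mulVec]
  have hTinj : Function.Injective T := by
    rw [← LinearMap.ker_eq_bot, LinearMap.ker_eq_bot']
    intro u hu0
    have h := hPT u
    rw [hu0, map_zero] at h
    rw [← hBB' u, ← h, Matrix.mulVec_zero]
  have hcol : ∀ k : Fin m, A.mulVecLin (Pi.single k 1) ∈ LinearMap.range T := by
    intro k
    set c : Fin r → R := B⁻¹ *ᵥ (fun a => A (f a) k) with hc
    refine ⟨c, ?_⟩
    have hcc : ∀ a, ∑ j, A (f a) (g j) * c j = A (f a) k := by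
      intro a
      have := congrFun (hBB (fun a => A (f a) k)) a
      rw [← hc] at this
      simpa [hB, Matrix.mulVec, dotProduct] using this
    ext i
    have hb := border A f g i k c hcc (hvan _ _)
    have hz : A i k - ∑ j, A i (g j) * c j = 0 := by
      have hu' : IsUnit (A.submatrix f g).det := hu
      exact (hu'.mul_right_eq_zero).mp hb
    have hTi : T c i = ∑ j, A i (g j) * c j := by
      simp [hT, Matrix.mulVec, dotProduct]
    rw [hTi, Matrix.mulVecLin_apply, Matrix.mulVec_single_one]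
    simp only [Matrix.col_apply]
    exact (sub_eq_zero.mp hz).symm
  have hrange : LinearMap.range A.mulVecLin = LinearMap.range T := by
    apply le_antisymm
    · rw [LinearMap.range_eq_map, ← (Pi.basisFun R (Fin m)).span_eq, Submodule.map_span_le]
      rintro _ ⟨k, rfl⟩
      simpa using hcol k
    · rintro _ ⟨u, rfl⟩
      refine ⟨fun k => ∑ j, if k = g j then u j else 0, ?_⟩
      simp only [hT, Matrix.mulVecLin_apply]
      exact mulVec_push A g u
  refine ⟨LinearMap.ker P, ?_, ?_⟩
  · rw [hrange]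
    constructor
    · rw [Submodule.disjoint_def]
      rintro _ ⟨u, rfl⟩ hx
      rw [LinearMap.mem_ker, hPT] at hx
      rw [← hBB' u, hx, Matrix.mulVec_zero, map_zero]
    · rw [Submodule.codisjoint_iff_exists_add_eq]
      intro z
      refine ⟨T (B⁻¹ *ᵥ (P z)), z - T (B⁻¹ *ᵥ (P z)), ⟨_, rfl⟩, ?_, by abel⟩
      rw [LinearMap.mem_ker, map_sub, hPT, hBB, sub_self]
  · rw [hrange]
    have e : (Fin r → R) ≃ₗ[R] LinearMap.range T := LinearEquiv.ofInjective T hTinj
    rw [← e.finrank_eq, Module.finrank_fin_fun]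

theorem forward [IsLocalRing R] (n m r : ℕ) (A : Matrix (Fin n) (Fin m) R)
    (N' : Submodule R (Fin n → R)) (hc : IsCompl (LinearMap.range (Matrix.mulVecLin A)) N')
    (hrk : Module.finrank R (LinearMap.range (Matrix.mulVecLin A)) = r) :
    CAlgX.minorIdeal A (r + 1) = ⊥ ∧ CAlgX.minorIdeal A r = ⊤ := by
  classical
  set φ := A.mulVecLin with hφ
  set N := LinearMap.range φ with hN
  let π : (Fin n → R) →ₗ[R] N := Submodule.linearProjOfIsCompl N N' hc
  have hπ : ∀ x : N, π x = x := fun x => Submodule.linearProjOfIsCompl_apply_left hc x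
  haveI : Module.Finite R N := Module.Finite.range φ
  haveI : Module.Projective R N :=
    Module.Projective.of_split N.subtype π (by ext x; simp [hπ])
  haveI : Module.Free R N := Module.free_of_flat_of_isLocalRing
  let b : Module.Basis (Fin r) R N := Module.finBasisOfFinrankEq R N hrk
  let e : N ≃ₗ[R] (Fin r → R) := b.equivFun
  obtain ⟨s, hs⟩ := Module.projective_lifting_property φ.rangeRestrict
    (LinearMap.id : N →ₗ[R] N) (LinearMap.surjective_rangeRestrict φ)
  let ψ : (Fin n → R) →ₗ[R] (Fin r → R) := e.toLinearMap ∘ₗ π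
  let χ : (Fin r → R) →ₗ[R] (Fin m → R) := s ∘ₗ e.symm.toLinearMap
  let C : (Fin r → R) →ₗ[R] (Fin n → R) := N.subtype ∘ₗ e.symm.toLinearMap
  let D : (Fin m → R) →ₗ[R] (Fin r → R) := e.toLinearMap ∘ₗ φ.rangeRestrict
  have hCD : C ∘ₗ D = φ := by
    apply LinearMap.ext
    intro x
    simp [C, D]
  have hψφχ : ψ ∘ₗ φ ∘ₗ χ = LinearMap.id := by
    apply LinearMap.ext
    intro v
    have h1 : φ (s (e.symm v)) = ((φ.rangeRestrict ∘ₗ s) (e.symm v) : Fin n → R) := rfl
    simp only [ψ, χ, LinearMap.comp_apply, LinearEquiv.coe_coe, LinearMap.id_apply]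
    rw [h1, hs, LinearMap.id_apply, hπ, LinearEquiv.apply_symm_apply]
  have hA : LinearMap.toMatrix' φ = A := by
    rw [hφ, ← Matrix.toLin'_apply', LinearMap.toMatrix'_toLin']
  set Cm := LinearMap.toMatrix' C with hCm
  set Dm := LinearMap.toMatrix' D with hDm
  set Em := LinearMap.toMatrix' ψ with hEm
  set Gm := LinearMap.toMatrix' χ with hGm
  have hACD : A = Cm * Dm := by
    rw [← hA, ← hCD, LinearMap.toMatrix'_comp]
  have hEAG : Em * A * Gm = 1 := by
    rw [← hA, Matrix.mul_assoc, ← LinearMap.toMatrix'_comp, ← LinearMap.toMatrix'_comp, hψφχ,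
      LinearMap.toMatrix'_id]
  constructor
  · -- (r+1)-minors vanish
    rw [eq_bot_iff]
    unfold CAlgX.minorIdeal
    rw [Ideal.span_le]
    rintro _ ⟨fg, rfl⟩
    have h1 : A.submatrix fg.1 fg.2 = Cm.submatrix fg.1 id * Dm.submatrix id fg.2 := by
      rw [hACD]
      ext a b
      simp [Matrix.mul_apply]
    simp only [SetLike.mem_coe, Ideal.mem_bot]
    rw [h1, Groth.Agent.Helper8.CauchyBinet.cb (r + 1) r]
    apply Finset.sum_eq_zero
    rintro ⟨t, ht⟩ _
    exfalso
    have := Finset.card_le_univ t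
    simp at this
    omega
  · -- r-minors generate the unit ideal
    rw [Ideal.eq_top_iff_one]
    have hdet : (Em * (A * Gm)).det = 1 := by
      rw [← Matrix.mul_assoc, hEAG, Matrix.det_one]
    rw [Groth.Agent.Helper8.CauchyBinet.cb r n] at hdet
    rw [← hdet]
    apply Ideal.sum_mem
    intro t _
    apply Ideal.mul_mem_left
    have h1 : (A * Gm).submatrix (t.1.orderEmbOfFin t.2) id =
        A.submatrix (t.1.orderEmbOfFin t.2) id * Gm := by
      ext a b
      simp [Matrix.mul_apply]
    rw [h1, Groth.Agent.Helper8.CauchyBinet.cb r m]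
    apply Ideal.sum_mem
    intro u _
    apply Ideal.mul_mem_right
    rw [Matrix.submatrix_submatrix]
    exact Ideal.subset_span ⟨(_, _), rfl⟩

end Groth.Agent.Helper8.MinorSummand
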