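import Mathlib
import Groth.Prelude
import Groth.Agent.Helper3.SteinG5

/-!
# Zariski's connectedness theorem for proper flat models over a discrete valuation ring

Let `R` be a discrete valuation ring with fraction field `K`, `p : X ⟶ Spec R` proper and flat with
generic fibre `C` such that `Γ(C, O) = K`.  Then `Γ(X, O) = R` and all fibres of `p` are
geometrically connected.
-/

set_option autoImplicit false
set_option linter.style.haveILetI false
set_option linter.unusedSectionVars false
set_option linter.unusedVariables false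

universe u

open CategoryTheory CategoryTheory.Limits AlgebraicGeometry Opposite TopologicalSpace
  TensorProduct

namespace Groth.Agent.Helper8.ModelConn

section Algebra

/-- the algebraic core: an integral flat `R`-algebra `A` over an integrally closed domain `R`
with `K ⊗ A = K` is `R` -/
theorem bijective_algebraMap_of_isPushout {R K A B : Type u} [CommRing R] [IsDomain R]
    [IsIntegrallyClosed R] [Field K] [Algebra R K] [IsFractionRing R K]
    [CommRing A] [Algebra R A] [Algebra.IsIntegral R A] [Module.Flat R A]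
    [CommRing B] [Algebra A B] [Algebra K B] [Algebra R B] [IsScalarTower R A B]
    [IsScalarTower R K B] [Algebra.IsPushout R K A B]
    (hKB : Function.Bijective (algebraMap K B)) :
    Function.Bijective (algebraMap R A) := by
  have hinjAB : Function.Injective (algebraMap A B) := by
    let e : K ⊗[R] A ≃ₐ[K] B := Algebra.IsPushout.equiv R K A B
    have h1 : Function.Injective (Algebra.TensorProduct.includeRight : A →ₐ[R] K ⊗[R] A) :=
      Algebra.TensorProduct.includeRight_injective (IsFractionRing.injective R K)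
    have h2 : ∀ a : A, algebraMap A B a = e (1 ⊗ₜ a) := fun a => by
      rw [Algebra.IsPushout.equiv_tmul, map_one, one_mul]
    intro a a' h
    apply h1
    apply e.injective
    show e (1 ⊗ₜ a) = e (1 ⊗ₜ a')
    rw [← h2, ← h2, h]
  constructor
  · intro r r' h
    apply IsFractionRing.injective R K
    apply hKB.1
    rw [← IsScalarTower.algebraMap_apply R K B, ← IsScalarTower.algebraMap_apply R K B,
      IsScalarTower.algebraMap_apply R A B, IsScalarTower.algebraMap_apply R A B r', h]
  · intro a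
    obtain ⟨k, hk⟩ := hKB.2 (algebraMap A B a)
    have hint : IsIntegral R k := by
      have h1 : IsIntegral R (algebraMap A B a) :=
        (Algebra.IsIntegral.isIntegral a).map (IsScalarTower.toAlgHom R A B)
      rw [← hk] at h1
      exact (isIntegral_algHom_iff (IsScalarTower.toAlgHom R K B) hKB.1).mp h1
    obtain ⟨r, hr⟩ := IsIntegrallyClosed.algebraMap_eq_of_integral hint
    refine ⟨r, hinjAB ?_⟩
    rw [← IsScalarTower.algebraMap_apply R A B, IsScalarTower.algebraMap_apply R K B, hr, hk]

end Algebra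

variable {R : Type u} [CommRing R] [IsDomain R]

/-- the `R`-algebra structure on the global sections of an `R`-scheme -/
noncomputable abbrev algΓ {X : Scheme.{u}} (p : X ⟶ Spec (CommRingCat.of R)) (U : X.Opens) :
    Algebra R Γ(X, U) :=
  ((Scheme.ΓSpecIso (CommRingCat.of R)).inv ≫ p.appLE ⊤ U le_top).hom.toAlgebra

theorem appLE_top_eq {A B : Scheme.{u}} (p : A ⟶ B) (e : (⊤ : A.Opens) ≤ p ⁻¹ᵁ ⊤) :
    p.appLE ⊤ ⊤ e = p.appTop :=
  Scheme.Hom.appLE_eq_app p

/-- sections of a flat `R`-scheme over an affine open are flat -/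
theorem flat_Γ_affine {X : Scheme.{u}} (p : X ⟶ Spec (CommRingCat.of R)) [Flat p] (V : X.Opens)
    (hV : IsAffineOpen V) :
    letI := algΓ p V
    Module.Flat R Γ(X, V) := by
  letI := algΓ p V
  have h1 : (p.appLE ⊤ V le_top).hom.Flat := p.flat_appLE (isAffineOpen_top _) hV _
  have h2 : (Scheme.ΓSpecIso (CommRingCat.of R)).inv.hom.Flat :=
    RingHom.Flat.of_bijective
      (ConcreteCategory.bijective_of_isIso (Scheme.ΓSpecIso (CommRingCat.of R)).inv)
  exact RingHom.Flat.comp h2 h1

/-- global sections of a flat `R`-scheme are torsion free -/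
theorem isTorsionFree_Γ {X : Scheme.{u}} (p : X ⟶ Spec (CommRingCat.of R)) [Flat p] :
    letI := algΓ p ⊤
    Module.IsTorsionFree R Γ(X, ⊤) := by
  letI := algΓ p ⊤
  refine ⟨fun r hr x y hxy => ?_⟩
  have hxy' : algebraMap R Γ(X, ⊤) r * x = algebraMap R Γ(X, ⊤) r * y := by
    rw [← Algebra.smul_def, ← Algebra.smul_def]
    exact hxy
  refine X.sheaf.eq_of_locally_eq' (fun V : X.affineOpens => V.1) ⊤ (fun V => homOfLE le_top)
    (by rw [iSup_affineOpens_eq_top]) x y (fun V => ?_)
  letI := algΓ p V.1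
  haveI : Module.Flat R Γ(X, V.1) := flat_Γ_affine p V.1 V.2
  have hreg : IsSMulRegular Γ(X, V.1) r := Module.Flat.isSMulRegular_of_isRegular hr
  apply hreg
  show r • _ = r • _
  rw [Algebra.smul_def, Algebra.smul_def]
  have hres : ∀ z : Γ(X, ⊤), algebraMap R Γ(X, V.1) r *
      (X.presheaf.map (homOfLE (le_top : V.1 ≤ ⊤)).op).hom z =
      (X.presheaf.map (homOfLE (le_top : V.1 ≤ ⊤)).op).hom (algebraMap R Γ(X, ⊤) r * z) := by
    intro z
    rw [map_mul]
    congr 1
    have h3 : p.appLE ⊤ ⊤ le_top ≫ X.presheaf.map (homOfLE (le_top : V.1 ≤ ⊤)).op =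
        p.appLE ⊤ V.1 le_top := Scheme.Hom.appLE_map p le_top (homOfLE (le_top : V.1 ≤ ⊤)).op
    exact (congrArg (fun φ => φ.hom ((Scheme.ΓSpecIso (CommRingCat.of R)).inv.hom r)) h3).symm
  exact (hres x).trans ((congrArg _ hxy').trans (hres y).symm)

variable [IsDiscreteValuationRing R]

set_option maxHeartbeats 1600000 in
/-- `Γ(X, O) = R` for a proper flat model whose generic fibre has `Γ(C, O) = K` -/
theorem isIso_appTop {X C : Scheme.{u}} (p : X ⟶ Spec (CommRingCat.of R)) [Flat p] [IsProper p]
    (f : C ⟶ Spec (CommRingCat.of (FractionRing R))) (g : C ⟶ X)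
    (h : IsPullback g f p
      (Spec.map (CommRingCat.ofHom (algebraMap R (FractionRing R))))) (hf : IsIso f.appTop) :
    IsIso p.appTop := by
  set K := FractionRing R with hK
  set j := Spec.map (CommRingCat.ofHom (algebraMap R K)) with hj
  haveI : Flat j := by
    rw [hj, Flat.SpecMap_iff]
    exact (RingHom.flat_algebraMap_iff).mpr (IsLocalization.flat K (nonZeroDivisors R))
  haveI : CompactSpace ↥X := QuasiCompact.compactSpace_of_compactSpace p
  haveI : QuasiSeparatedSpace ↥X := quasiSeparatedSpace_of_quasiSeparated p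
  have hUY : (⊤ : C.Opens) = g ⁻¹ᵁ ⊤ ⊓ f ⁻¹ᵁ ⊤ := by
    ext x
    simp
  have hiso := isIso_pushoutSection_of_isQuasiSeparated_of_flat_right h
    (US := ⊤) (UT := ⊤) (UX := ⊤) (UY := ⊤) le_top le_top hUY (isAffineOpen_top _)
    (isAffineOpen_top _) (isCompact_univ (X := ↥X)) (isQuasiSeparated_univ (α := ↥X))
  have hpo := (isIso_pushoutSection_iff h le_top le_top hUY).mp hiso
  have hpo1 : IsPushout p.appTop j.appTop g.appTop f.appTop := by
    refine IsPushout.of_iso hpo (Iso.refl _) (Iso.refl _) (Iso.refl _) (Iso.refl _) ?_ ?_ ?_ ?_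
    all_goals
      exact (Category.comp_id _).trans ((appLE_top_eq _ _).trans (Category.id_comp _).symm)
  -- algebra structures
  letI aRA : Algebra R Γ(X, ⊤) := algΓ p ⊤
  letI aKB : Algebra K Γ(C, ⊤) :=
    ((Scheme.ΓSpecIso (CommRingCat.of K)).inv ≫ f.appTop).hom.toAlgebra
  letI aAB : Algebra Γ(X, ⊤) Γ(C, ⊤) := g.appTop.hom.toAlgebra
  letI aRB : Algebra R Γ(C, ⊤) :=
    ((algebraMap Γ(X, ⊤) Γ(C, ⊤)).comp (algebraMap R Γ(X, ⊤))).toAlgebra
  haveI t1 : IsScalarTower R Γ(X, ⊤) Γ(C, ⊤) := IsScalarTower.of_algebraMap_eq' rfl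
  have hRA : CommRingCat.ofHom (algebraMap R Γ(X, ⊤)) =
      (Scheme.ΓSpecIso (CommRingCat.of R)).inv ≫ p.appTop := by
    show (Scheme.ΓSpecIso (CommRingCat.of R)).inv ≫ p.appLE ⊤ ⊤ le_top = _
    rw [appLE_top_eq]
  have hnat : CommRingCat.ofHom (algebraMap R K) ≫ (Scheme.ΓSpecIso (CommRingCat.of K)).inv =
      (Scheme.ΓSpecIso (CommRingCat.of R)).inv ≫ j.appTop :=
    Scheme.ΓSpecIso_inv_naturality (CommRingCat.ofHom (algebraMap R K))
  have hsq : p.appTop ≫ g.appTop = j.appTop ≫ f.appTop := hpo1.w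
  haveI t2 : IsScalarTower R K Γ(C, ⊤) := by
    apply IsScalarTower.of_algebraMap_eq'
    have h1 : CommRingCat.ofHom (algebraMap R Γ(C, ⊤)) =
        CommRingCat.ofHom (algebraMap R K) ≫
          ((Scheme.ΓSpecIso (CommRingCat.of K)).inv ≫ f.appTop) := by
      show CommRingCat.ofHom (algebraMap R Γ(X, ⊤)) ≫ g.appTop = _
      rw [hRA, Category.assoc, hsq, ← Category.assoc, ← hnat, Category.assoc]
    exact congrArg CommRingCat.Hom.hom h1
  have H2 : IsPushout (CommRingCat.ofHom (algebraMap R K))
      (CommRingCat.ofHom (algebraMap R Γ(X, ⊤)))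
      (CommRingCat.ofHom (algebraMap K Γ(C, ⊤)))
      (CommRingCat.ofHom (algebraMap Γ(X, ⊤) Γ(C, ⊤))) := by
    refine IsPushout.of_iso hpo1.flip (Scheme.ΓSpecIso (CommRingCat.of R))
      (Scheme.ΓSpecIso (CommRingCat.of K)) (Iso.refl _) (Iso.refl _) ?_ ?_ ?_ ?_
    · exact Scheme.ΓSpecIso_naturality (CommRingCat.ofHom (algebraMap R K))
    · rw [hRA, Iso.refl_hom, Category.comp_id, Iso.hom_inv_id_assoc]
    · show f.appTop ≫ 𝟙 _ = (Scheme.ΓSpecIso (CommRingCat.of K)).hom ≫
        ((Scheme.ΓSpecIso (CommRingCat.of K)).inv ≫ f.appTop)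
      rw [Category.comp_id, Iso.hom_inv_id_assoc]
    · show g.appTop ≫ 𝟙 _ = 𝟙 _ ≫ g.appTop
      rw [Category.comp_id, Category.id_comp]
  haveI : Algebra.IsPushout R K Γ(X, ⊤) Γ(C, ⊤) := CommRingCat.isPushout_iff_isPushout.mp H2
  -- integrality
  haveI : Algebra.IsIntegral R Γ(X, ⊤) := by
    rw [← algebraMap_isIntegral_iff]
    have h1 : p.appTop.hom.IsIntegral := isIntegral_appTop_of_universallyClosed p
    have h2 : (Scheme.ΓSpecIso (CommRingCat.of R)).inv.hom.IsIntegral :=
      RingHom.isIntegral_of_surjective _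
        (ConcreteCategory.bijective_of_isIso (Scheme.ΓSpecIso (CommRingCat.of R)).inv).2
    have h3 := RingHom.IsIntegral.trans _ _ h2 h1
    have h4 : algebraMap R Γ(X, ⊤) =
        p.appTop.hom.comp (Scheme.ΓSpecIso (CommRingCat.of R)).inv.hom :=
      congrArg CommRingCat.Hom.hom hRA
    rw [h4]
    exact h3
  -- flatness
  haveI : Module.IsTorsionFree R Γ(X, ⊤) := isTorsionFree_Γ p
  haveI : Module.Flat R Γ(X, ⊤) := inferInstance
  -- conclusion
  have hKB : Function.Bijective (algebraMap K Γ(C, ⊤)) := by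
    show Function.Bijective ((Scheme.ΓSpecIso (CommRingCat.of K)).inv ≫ f.appTop).hom
    haveI : IsIso ((Scheme.ΓSpecIso (CommRingCat.of K)).inv ≫ f.appTop) := inferInstance
    exact ConcreteCategory.bijective_of_isIso _
  have hbij := bijective_algebraMap_of_isPushout (R := R) (K := K) (A := Γ(X, ⊤))
    (B := Γ(C, ⊤)) hKB
  have hiso2 : IsIso ((Scheme.ΓSpecIso (CommRingCat.of R)).inv ≫ p.appTop) := by
    rw [← hRA]
    exact (ConcreteCategory.isIso_iff_bijective _).mpr hbij
  exact IsIso.of_isIso_comp_left (Scheme.ΓSpecIso (CommRingCat.of R)).inv p.appTop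

/-- a proper flat model with nonempty generic fibre is surjective -/
theorem surjective_of_generic {X C : Scheme.{u}} (p : X ⟶ Spec (CommRingCat.of R)) [IsProper p]
    (f : C ⟶ Spec (CommRingCat.of (FractionRing R))) (g : C ⟶ X) [Nonempty ↥C]
    (h : g ≫ p = f ≫ Spec.map (CommRingCat.ofHom (algebraMap R (FractionRing R)))) :
    Surjective p := by
  refine ⟨fun y => ?_⟩
  obtain ⟨c⟩ := (inferInstance : Nonempty ↥C)
  have hcl : IsClosed (Set.range p) := p.isClosedMap.isClosed_range
  have hmem : p (g c) ∈ Set.range p := ⟨_, rfl⟩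
  have hspec : p (g c) ⤳ y := by
    have h1 : p (g c) = (Spec.map (CommRingCat.ofHom (algebraMap R (FractionRing R)))) (f c) := by
      rw [← Scheme.Hom.comp_apply, h, Scheme.Hom.comp_apply]
    rw [h1]
    refine (PrimeSpectrum.le_iff_specializes _ _).mp ?_
    show ((Spec.map (CommRingCat.ofHom (algebraMap R (FractionRing R)))) (f c)).asIdeal ≤
      y.asIdeal
    have h2 : ((Spec.map (CommRingCat.ofHom (algebraMap R (FractionRing R)))) (f c)).asIdeal =
        ⊥ := by
      show Ideal.comap (algebraMap R (FractionRing R)) (f c).asIdeal = ⊥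
      have h3 : (f c).asIdeal = ⊥ := by
        have := (f c).isPrime
        exact ((Ideal.eq_bot_or_top (f c).asIdeal).resolve_right this.ne_top)
      rw [h3, ← RingHom.ker_eq_comap_bot]
      exact (RingHom.injective_iff_ker_eq_bot _).mp (IsFractionRing.injective R (FractionRing R))
    rw [h2]
    exact bot_le
  exact hcl.stableUnderSpecialization hspec hmem

/-- **Zariski's connectedness theorem** for models over a discrete valuation ring -/
theorem geometricallyConnected {X C : Scheme.{u}} (p : X ⟶ Spec (CommRingCat.of R)) [Flat p]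
    [IsProper p] (f : C ⟶ Spec (CommRingCat.of (FractionRing R))) (g : C ⟶ X) [Nonempty ↥C]
    (h : IsPullback g f p
      (Spec.map (CommRingCat.ofHom (algebraMap R (FractionRing R))))) (hf : IsIso f.appTop) :
    GeometricallyConnected p := by
  have hiso := isIso_appTop p f g h hf
  haveI := surjective_of_generic p f g h.w
  refine ⟨fun K _ y Z fst snd hsq => ?_⟩
  haveI : PreconnectedSpace ↥(pullback p y) :=
    Groth.Agent.Helper3.SteinG.preconnected_of_isIso_appTop p hiso y
  haveI : Nonempty ↥(pullback p y) := by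
    haveI : Nonempty ↥(Spec (CommRingCat.of K)) := inferInstanceAs (Nonempty (PrimeSpectrum K))
    obtain ⟨t⟩ := (inferInstance : Nonempty ↥(Spec (CommRingCat.of K)))
    obtain ⟨z, -⟩ := (pullback.snd p y).surjective t
    exact ⟨z⟩
  haveI : ConnectedSpace ↥(pullback p y) := ConnectedSpace.mk inferInstance
  exact hsq.isoPullback.hom.homeomorph.connectedSpace_iff.mpr inferInstance

end Groth.Agent.Helper8.ModelConn
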