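import Mathlib

namespace Groth.Agent.Helper8.MonicTower

open Polynomial

universe u

variable {A : Type u} [CommRing A]

/-- the ideal generated by `F i (X i)` -/
noncomputable def I (r : ℕ) (F : Fin r → A[X]) : Ideal (MvPolynomial (Fin r) A) :=
  Ideal.span (Set.range fun i => Polynomial.aeval (MvPolynomial.X i : MvPolynomial (Fin r) A) (F i))

abbrev Q (r : ℕ) (F : Fin r → A[X]) := MvPolynomial (Fin r) A ⧸ I r F

section step

variable (r : ℕ) (F : Fin (r + 1) → A[X])

abbrev F' : Fin r → A[X] := fun j => F j.succ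

noncomputable abbrev g : (Q r (F' r F))[X] := (F 0).map (algebraMap A (Q r (F' r F)))

abbrev B := AdjoinRoot (g r F)

noncomputable def ψ : MvPolynomial (Fin (r + 1)) A →ₐ[A] B r F :=
  MvPolynomial.aeval (Fin.cons (AdjoinRoot.root (g r F))
    (fun j => AdjoinRoot.of (g r F) (Ideal.Quotient.mk (I r (F' r F)) (MvPolynomial.X j))))

lemma ψ_zero : ψ r F (MvPolynomial.X 0) = AdjoinRoot.root (g r F) := by
  simp [ψ]

lemma ψ_succ (j : Fin r) : ψ r F (MvPolynomial.X j.succ) =
    AdjoinRoot.of (g r F) (Ideal.Quotient.mk (I r (F' r F)) (MvPolynomial.X j)) := by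
  simp [ψ]

lemma ψ_kills : ∀ a ∈ I (r + 1) F, ψ r F a = 0 := by
  intro a ha
  have : I (r + 1) F ≤ RingHom.ker (ψ r F) := by
    refine Ideal.span_le.mpr ?_
    rintro _ ⟨i, rfl⟩
    rw [SetLike.mem_coe, RingHom.mem_ker]
    change ψ r F (Polynomial.aeval (MvPolynomial.X i) (F i)) = 0
    rw [← Polynomial.aeval_algHom_apply]
    refine Fin.cases ?_ (fun j => ?_) i
    · rw [ψ_zero]
      have := AdjoinRoot.eval₂_root (g r F)
      rw [Polynomial.eval₂_map] at this
      rw [Polynomial.aeval_def]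
      convert this using 2
      exact IsScalarTower.algebraMap_eq A (Q r (F' r F)) (B r F)
    · rw [ψ_succ]
      have h1 : Polynomial.aeval (Ideal.Quotient.mk (I r (F' r F)) (MvPolynomial.X j)) (F j.succ) = 0 := by
        have : Polynomial.aeval (Ideal.Quotient.mk (I r (F' r F)) (MvPolynomial.X j)) (F j.succ)
            = Ideal.Quotient.mk (I r (F' r F)) (Polynomial.aeval (MvPolynomial.X j) (F j.succ)) := by
          rw [← Ideal.Quotient.mkₐ_eq_mk A, Polynomial.aeval_algHom_apply]
        rw [this, Ideal.Quotient.eq_zero_iff_mem]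
        exact Ideal.subset_span ⟨j, rfl⟩
      have h2 : Polynomial.aeval (AdjoinRoot.of (g r F) (Ideal.Quotient.mk (I r (F' r F)) (MvPolynomial.X j))) (F j.succ)
          = AdjoinRoot.of (g r F) (Polynomial.aeval (Ideal.Quotient.mk (I r (F' r F)) (MvPolynomial.X j)) (F j.succ)) := by
        have := Polynomial.aeval_algHom_apply (AdjoinRoot.ofAlgHom A (g r F)) (Ideal.Quotient.mk (I r (F' r F)) (MvPolynomial.X j)) (F j.succ)
        simpa using this
      rw [h2, h1, map_zero]
  exact this ha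

noncomputable def ψbar : Q (r + 1) F →ₐ[A] B r F :=
  Ideal.Quotient.liftₐ (I (r + 1) F) (ψ r F) (ψ_kills r F)

lemma ψbar_mk (a : MvPolynomial (Fin (r + 1)) A) :
    ψbar r F (Ideal.Quotient.mk _ a) = ψ r F a := rfl

noncomputable def γ : Q r (F' r F) →ₐ[A] Q (r + 1) F :=
  Ideal.Quotient.liftₐ (I r (F' r F))
    ((Ideal.Quotient.mkₐ A (I (r + 1) F)).comp (MvPolynomial.rename Fin.succ)) (by
    intro a ha
    have : I r (F' r F) ≤ RingHom.ker
        ((Ideal.Quotient.mkₐ A (I (r + 1) F)).comp (MvPolynomial.rename Fin.succ)) := by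
      refine Ideal.span_le.mpr ?_
      rintro _ ⟨j, rfl⟩
      rw [SetLike.mem_coe, RingHom.mem_ker]
      change Ideal.Quotient.mk _ (MvPolynomial.rename Fin.succ
        (Polynomial.aeval (MvPolynomial.X j) (F j.succ))) = 0
      rw [← Polynomial.aeval_algHom_apply, MvPolynomial.rename_X, Ideal.Quotient.eq_zero_iff_mem]
      exact Ideal.subset_span ⟨j.succ, rfl⟩
    exact this ha)

lemma γ_mk (a : MvPolynomial (Fin r) A) :
    γ r F (Ideal.Quotient.mk _ a) = Ideal.Quotient.mk _ (MvPolynomial.rename Fin.succ a) := rfl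

lemma mk_aeval_zero : Polynomial.aeval (Ideal.Quotient.mk (I (r + 1) F) (MvPolynomial.X 0)) (F 0) = 0 := by
  have : Polynomial.aeval (Ideal.Quotient.mk (I (r + 1) F) (MvPolynomial.X 0)) (F 0)
      = Ideal.Quotient.mk (I (r + 1) F) (Polynomial.aeval (MvPolynomial.X 0) (F 0)) := by
    rw [← Ideal.Quotient.mkₐ_eq_mk A, Polynomial.aeval_algHom_apply]
  rw [this, Ideal.Quotient.eq_zero_iff_mem]
  exact Ideal.subset_span ⟨0, rfl⟩

noncomputable def χ : B r F →ₐ[A] Q (r + 1) F :=
  AdjoinRoot.liftAlgHom (g r F) (γ r F) (Ideal.Quotient.mk _ (MvPolynomial.X 0)) (by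
    rw [Polynomial.eval₂_map]
    have h := mk_aeval_zero r F
    rw [Polynomial.aeval_def] at h
    rw [← h]
    congr 1
    exact (γ r F).comp_algebraMap)

lemma χ_root : χ r F (AdjoinRoot.root (g r F)) = Ideal.Quotient.mk _ (MvPolynomial.X 0) := by
  simp [χ]

lemma χ_of (q : Q r (F' r F)) : χ r F (AdjoinRoot.of (g r F) q) = γ r F q := by
  simp [χ]

lemma χψ : (χ r F).comp (ψbar r F) = AlgHom.id A _ := by
  apply Ideal.Quotient.algHom_ext
  apply MvPolynomial.algHom_ext
  intro i
  refine Fin.cases ?_ (fun j => ?_) i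
  · change χ r F (ψbar r F (Ideal.Quotient.mk _ (MvPolynomial.X 0))) = _
    rw [ψbar_mk, ψ_zero, χ_root]
    rfl
  · change χ r F (ψbar r F (Ideal.Quotient.mk _ (MvPolynomial.X j.succ))) = _
    rw [ψbar_mk, ψ_succ, χ_of, γ_mk, MvPolynomial.rename_X]
    rfl

lemma ψχ : (ψbar r F).comp (χ r F) = AlgHom.id A _ := by
  apply AlgHom.coe_ringHom_injective
  apply AdjoinRoot.ringHom_ext
  · apply Ideal.Quotient.ringHom_ext
    apply MvPolynomial.ringHom_ext
    · intro a
      change ψbar r F (χ r F (AdjoinRoot.of (g r F) (Ideal.Quotient.mk _ (MvPolynomial.C a)))) =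
        AdjoinRoot.of (g r F) (Ideal.Quotient.mk _ (MvPolynomial.C a))
      rw [χ_of, γ_mk, MvPolynomial.rename_C, ψbar_mk]
      simp [ψ]
      rfl
    · intro j
      change ψbar r F (χ r F (AdjoinRoot.of (g r F) (Ideal.Quotient.mk _ (MvPolynomial.X j)))) =
        AdjoinRoot.of (g r F) (Ideal.Quotient.mk _ (MvPolynomial.X j))
      rw [χ_of, γ_mk, MvPolynomial.rename_X, ψbar_mk, ψ_succ]
  · change ψbar r F (χ r F (AdjoinRoot.root (g r F))) = AdjoinRoot.root (g r F)
    rw [χ_root, ψbar_mk, ψ_zero]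

noncomputable def equiv : Q (r + 1) F ≃ₗ[A] B r F :=
  { (ψbar r F).toLinearMap with
    invFun := χ r F
    left_inv := fun x => congrArg (fun f : Q (r + 1) F →ₐ[A] Q (r + 1) F => f x) (χψ r F)
    right_inv := fun x => congrArg (fun f : B r F →ₐ[A] B r F => f x) (ψχ r F) }

end step

theorem base (F : Fin 0 → A[X]) : Nonempty (A ≃ₗ[A] Q 0 F) := by
  have hI : I 0 F = ⊥ := by
    unfold I
    rw [Set.range_eq_empty, Ideal.span_empty]
  let φ : A →ₐ[A] Q 0 F :=
    (Ideal.Quotient.mkₐ A (I 0 F)).comp (MvPolynomial.isEmptyAlgEquiv A (Fin 0)).symm.toAlgHom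
  have hinj : Function.Injective φ := by
    rw [injective_iff_map_eq_zero]
    intro a ha
    change Ideal.Quotient.mk (I 0 F) ((MvPolynomial.isEmptyAlgEquiv A (Fin 0)).symm a) = 0 at ha
    rw [Ideal.Quotient.eq_zero_iff_mem, hI, Ideal.mem_bot] at ha
    simpa using ha
  have hsurj : Function.Surjective φ := by
    intro q
    obtain ⟨a, rfl⟩ := Ideal.Quotient.mk_surjective q
    exact ⟨MvPolynomial.isEmptyAlgEquiv A (Fin 0) a, by
      change Ideal.Quotient.mk (I 0 F) ((MvPolynomial.isEmptyAlgEquiv A (Fin 0)).symm _) = _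
      rw [AlgEquiv.symm_apply_apply]⟩
  exact ⟨LinearEquiv.ofBijective φ.toLinearMap ⟨hinj, hsurj⟩⟩

theorem core [Nontrivial A] (r : ℕ) : ∀ (F : Fin r → A[X]), (∀ i, (F i).Monic) →
    Module.Free A (Q r F) ∧ Module.finrank A (Q r F) = ∏ i, (F i).natDegree := by
  induction r with
  | zero =>
    intro F _
    obtain ⟨e⟩ := base F
    refine ⟨Module.Free.of_equiv e, ?_⟩
    rw [← e.finrank_eq, Module.finrank_self]
    simp
  | succ r ih =>
    intro F hF
    obtain ⟨hfree, hrank⟩ := ih (F' r F) (fun j => hF j.succ)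
    by_cases hsub : Subsingleton (Q r (F' r F))
    · have hB : Subsingleton (B r F) := by
        refine subsingleton_of_zero_eq_one ?_
        have h01 : (0 : Q r (F' r F)) = 1 := Subsingleton.elim _ _
        have := congrArg (AdjoinRoot.of (g r F)) h01
        simpa using this
      have hQ : Subsingleton (Q (r + 1) F) := (equiv r F).toEquiv.subsingleton
      refine ⟨Module.Free.of_subsingleton _ _, ?_⟩
      rw [Module.finrank_zero_of_subsingleton, Fin.prod_univ_succ]
      have h0 : Module.finrank A (Q r (F' r F)) = 0 := Module.finrank_zero_of_subsingleton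
      rw [h0] at hrank
      rw [← hrank, mul_zero]
    · haveI : Nontrivial (Q r (F' r F)) := not_subsingleton_iff_nontrivial.mp hsub
      have hg : (g r F).Monic := (hF 0).map _
      haveI := hg.free_adjoinRoot
      haveI : Module.Free A (B r F) := Module.Free.trans (R := A) (S := Q r (F' r F))
      refine ⟨Module.Free.of_equiv (equiv r F).symm, ?_⟩
      rw [(equiv r F).finrank_eq, ← Module.finrank_mul_finrank A (Q r (F' r F)) (B r F), hrank,
        Fin.prod_univ_succ, mul_comm]
      congr 1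
      rw [(AdjoinRoot.powerBasis' hg).finrank]
      simp [(hF 0).natDegree_map]

theorem main [Nontrivial A] {r : ℕ} (F : Fin r → Polynomial A) (hF : ∀ i, (F i).Monic) :
    Module.Free A (MvPolynomial (Fin r) A ⧸ Ideal.span (Set.range fun i => Polynomial.aeval (MvPolynomial.X i : MvPolynomial (Fin r) A) (F i))) ∧
      Module.finrank A (MvPolynomial (Fin r) A ⧸ Ideal.span (Set.range fun i => Polynomial.aeval (MvPolynomial.X i : MvPolynomial (Fin r) A) (F i))) =
        Finset.univ.prod fun i => (F i).natDegree :=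
  core r F hF

end Groth.Agent.Helper8.MonicTower
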