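import Mathlib
import Groth.Prelude.Def_Flatn

set_option autoImplicit false
set_option backward.isDefEq.respectTransparency false
set_option backward.isDefEq.respectTransparency.types false
universe u

namespace Groth.Agent.Helper8.MorBC

open CategoryTheory CategoryTheory.Limits AlgebraicGeometry Opposite

variable {X Y S S' : Scheme.{u}} (gX : X ⟶ S) (gY : Y ⟶ S) (h : S' ⟶ S)

/-- `Φ T' = T' ×_{S'} X'` over `S`. -/
noncomputable abbrev Φ : Over S' ⥤ Over S :=
  (Over.pullback (pullback.snd gX h) ⋙ Over.map (pullback.snd gX h)) ⋙ Over.map h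

/-- `Ψ T' = T' ×_S X` over `S`. -/
noncomputable abbrev Ψ : Over S' ⥤ Over S :=
  Over.map h ⋙ (Over.pullback gX ⋙ Over.map gX)

/-- The comparison map `T' ×_{S'} X' ⟶ T' ×_S X`. -/
noncomputable def θhom (T' : Over S') : (Φ gX h).obj T' ⟶ (Ψ gX h).obj T' :=
  Over.homMk (pullback.lift (pullback.fst _ _) (pullback.snd _ _ ≫ pullback.fst gX h)
    (by
      simp only [Over.map_obj_hom, Category.assoc]
      rw [pullback.condition, ← pullback.condition_assoc]))
    (by
      simp [pullback.condition])

/-- The inverse comparison map. -/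
noncomputable def θinv (T' : Over S') : (Ψ gX h).obj T' ⟶ (Φ gX h).obj T' :=
  Over.homMk (pullback.lift (pullback.fst _ _)
    (pullback.lift (pullback.snd _ _) (pullback.fst _ _ ≫ T'.hom)
      (by
        simp only [Over.map_obj_hom, Category.assoc]
        rw [← pullback.condition]))
    (by simp))
    (by
      simp [pullback.condition])

/-- The comparison isomorphism. -/
noncomputable def θ (T' : Over S') : (Φ gX h).obj T' ≅ (Ψ gX h).obj T' where
  hom := θhom gX h T'
  inv := θinv gX h T'
  hom_inv_id := by
    ext
    simp only [θhom, θinv, Over.comp_left, Over.homMk_left, Over.id_left]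
    apply pullback.hom_ext
    · simp
    · apply pullback.hom_ext
      · simp
      · simp [pullback.condition]
  inv_hom_id := by
    ext
    simp only [θhom, θinv, Over.comp_left, Over.homMk_left, Over.id_left]
    apply pullback.hom_ext <;> simp

lemma θ_naturality {T' T'' : Over S'} (u : T'' ⟶ T') :
    (Φ gX h).map u ≫ (θ gX h T').hom = (θ gX h T'').hom ≫ (Ψ gX h).map u := by
  ext
  simp only [θ, θhom, Over.comp_left, Over.homMk_left]
  apply pullback.hom_ext <;> simp

variable (M : Over S) (e : (Flatn.morS gX gY).RepresentableBy M)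

/-- The representing structure on the base change. -/
noncomputable def rep : (Flatn.morS (pullback.snd gX h) (pullback.snd gY h)).RepresentableBy
    (Over.mk (pullback.snd M.hom h)) where
  homEquiv {T'} :=
    (((Over.mapPullbackAdj h).homEquiv T' M).symm.trans
      (e.homEquiv (X := (Over.map h).obj T'))).trans
      (((θ gX h T').symm.homFromEquiv (Z := Over.mk gY)).trans
        ((Over.mapPullbackAdj h).homEquiv
          ((Over.pullback (pullback.snd gX h) ⋙ Over.map (pullback.snd gX h)).obj T') (Over.mk gY)))
  homEquiv_comp {T'' T'} u v := by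
    change (Over.mapPullbackAdj h).homEquiv _ _ ((θ gX h T'').hom ≫
        e.homEquiv (((Over.mapPullbackAdj h).homEquiv T'' M).symm (u ≫ v))) =
      ((Over.pullback (pullback.snd gX h) ⋙ Over.map (pullback.snd gX h)).map u) ≫
        (Over.mapPullbackAdj h).homEquiv _ _ ((θ gX h T').hom ≫
          e.homEquiv (((Over.mapPullbackAdj h).homEquiv T' M).symm v))
    rw [Adjunction.homEquiv_naturality_left_symm, e.homEquiv_comp,
      ← Adjunction.homEquiv_naturality_left]
    congr 1
    change (θ gX h T'').hom ≫ ((Ψ gX h).map u ≫ _) = (Φ gX h).map u ≫ (θ gX h T').hom ≫ _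
    rw [← Category.assoc, ← θ_naturality, Category.assoc]

theorem main (e : (Flatn.morS gX gY).RepresentableBy M) :
    Nonempty ((Flatn.morS (pullback.snd gX h) (pullback.snd gY h)).RepresentableBy
      (Over.mk (pullback.snd M.hom h))) := ⟨rep gX gY h M e⟩

end Groth.Agent.Helper8.MorBC
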