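import Mathlib
import Groth.Prelude.Def_Flatn

set_option autoImplicit false
universe u

namespace Groth.Agent.Helper8.MorCoprod

open CategoryTheory CategoryTheory.Limits AlgebraicGeometry Opposite TopologicalSpace

variable {S : Scheme.{u}} {ι : Type u} (X : ι → Scheme.{u}) (g : ∀ i, X i ⟶ S) (T : Over S)

/-- The inclusion `T ×_S X_i ⟶ T ×_S ∐ X_i`. -/
noncomputable abbrev j (i : ι) : pullback T.hom (g i) ⟶ pullback T.hom (Sigma.desc g) :=
  pullback.map T.hom (g i) T.hom (Sigma.desc g) (𝟙 T.left) (Sigma.ι X i) (𝟙 S)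
    ((Category.comp_id _).trans (Category.id_comp _).symm)
    ((Category.comp_id _).trans (Sigma.ι_desc g i).symm)

lemma range_j (i : ι) :
    Set.range (j X g T i) = pullback.snd T.hom (Sigma.desc g) ⁻¹' Set.range (Sigma.ι X i) := by
  rw [j, Scheme.Pullback.range_map]
  simp

theorem isColimit : Nonempty (IsColimit (Cofan.mk _ (j X g T))) := by
  apply nonempty_isColimit_cofanMk_of
  · rw [eq_top_iff]
    intro z _
    obtain ⟨i, w, hw⟩ := (sigmaOpenCover X).exists_eq (pullback.snd T.hom (Sigma.desc g) z)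
    refine Opens.mem_iSup.mpr ⟨i, ?_⟩
    show z ∈ Set.range (j X g T i)
    rw [range_j]
    exact ⟨w, hw⟩
  · intro i k hik
    rw [Function.onFun, disjoint_iff, Opens.ext_iff]
    ext z
    simp only [Opens.coe_inf, Scheme.Hom.coe_opensRange, Opens.coe_bot, Set.mem_inter_iff,
      Set.mem_empty_iff_false, iff_false, not_and]
    rw [range_j, range_j]
    intro h1 h2
    have := disjoint_opensRange_sigmaι X i k hik
    rw [disjoint_iff] at this
    have hmem : pullback.snd T.hom (Sigma.desc g) z ∈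
        ((Sigma.ι X i).opensRange ⊓ (Sigma.ι X k).opensRange : Opens _) := ⟨h1, h2⟩
    rw [this] at hmem
    exact hmem

theorem main {Y : Scheme.{u}} (gY : Y ⟶ S)
    (a : ∀ i, (Flatn.morS (g i) gY).obj (Opposite.op T)) :
    ∃! b : (Flatn.morS (Sigma.desc g) gY).obj (Opposite.op T),
      ∀ i, j X g T i ≫ b.left = (a i).left := by
  obtain ⟨hc⟩ := isColimit X g T
  let b₀ : pullback T.hom (Sigma.desc g) ⟶ Y := Cofan.IsColimit.desc hc (fun i => (a i).left)
  have hb₀ : ∀ i, j X g T i ≫ b₀ = (a i).left := fun i => Cofan.IsColimit.fac hc _ i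
  have hw : b₀ ≫ gY = pullback.snd T.hom (Sigma.desc g) ≫ Sigma.desc g := by
    apply Cofan.IsColimit.hom_ext hc
    intro i
    show j X g T i ≫ b₀ ≫ gY = j X g T i ≫ pullback.snd T.hom (Sigma.desc g) ≫ Sigma.desc g
    rw [← Category.assoc, hb₀]
    have h1 := Over.w (a i)
    simp only [j, pullback.lift_snd_assoc, pullback.map, Category.assoc, Sigma.ι_desc]
    exact h1
  refine ⟨Over.homMk b₀ hw, fun i => hb₀ i, ?_⟩
  intro b' hb'
  apply Over.OverMorphism.ext
  apply Cofan.IsColimit.hom_ext hc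
  intro i
  exact (hb' i).trans (hb₀ i).symm

end Groth.Agent.Helper8.MorCoprod
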