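import Mathlib
import Groth.Prelude.Def_Flatn
import Groth.Agent.Helper8.WeilResSch

/-!
# `Mor_S(X, U) ⊆ Mor_S(X, Y)` is an open subfunctor for `U ⊆ Y` open and `X` proper over `S`
-/

set_option autoImplicit false
universe u

open CategoryTheory CategoryTheory.Limits AlgebraicGeometry Opposite

namespace Groth.Agent.Helper8.MorOpen

open Groth.Agent.Helper8.WeilRes

variable {X Y U S : Scheme.{u}} (gX : X ⟶ S) (gY : Y ⟶ S) (j : U ⟶ Y) [IsOpenImmersion j]
  (M : Over S) (e : (Flatn.morS gX gY).RepresentableBy M)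

/-- the universal morphism. -/
noncomputable def xi : pullback M.hom gX ⟶ Y := toLeft gX gY (e.homEquiv (𝟙 M))

lemma toLeft_homEquiv {T : Over S} (φ : T ⟶ M) :
    toLeft gX gY (e.homEquiv φ) = bc gX φ ≫ xi gX gY M e := by
  have h := e.homEquiv_comp φ (𝟙 M)
  rw [Category.comp_id] at h
  rw [h]
  rfl

/-- the bad locus. -/
def badSet : Set ↥(pullback M.hom gX) := ((xi gX gY M e) ⁻¹' (Set.range j))ᶜ

lemma isClosed_badSet : IsClosed (badSet gX gY j M e) := by
  have : IsOpen ((xi gX gY M e) ⁻¹' (Set.range j)) :=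
    (j.isOpenEmbedding.isOpen_range).preimage (xi gX gY M e).continuous
  exact this.isClosed_compl

variable [IsProper gX]

/-- the open locus. -/
noncomputable def M0 : M.left.Opens :=
  ⟨((pullback.fst M.hom gX) '' badSet gX gY j M e)ᶜ,
    ((pullback.fst M.hom gX).isClosedMap _ (isClosed_badSet gX gY j M e)).isOpen_compl⟩

omit [IsProper gX] in
lemma isPullback_bc {T : Over S} (φ : T ⟶ M) :
    IsPullback (bc gX φ) (pullback.fst T.hom gX) (pullback.fst M.hom gX) φ.left := by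
  have h1 : IsPullback (bc gX φ ≫ pullback.snd M.hom gX) (pullback.fst T.hom gX) gX
      (φ.left ≫ M.hom) := by
    rw [bc_snd, Over.w φ]
    exact (IsPullback.of_hasPullback T.hom gX).flip
  exact IsPullback.of_right h1 (bc_fst gX φ) (IsPullback.of_hasPullback M.hom gX).flip

lemma range_subset_iff {T : Over S} (φ : T ⟶ M) :
    Set.range φ.left ⊆ (M0 gX gY j M e : Set M.left) ↔
      Set.range (toLeft gX gY (e.homEquiv φ)) ⊆ Set.range j := by
  rw [toLeft_homEquiv]
  constructor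
  · rintro h _ ⟨p, rfl⟩
    by_contra hp
    have hb : (bc gX φ) p ∈ badSet gX gY j M e := by
      intro hc
      apply hp
      rw [Scheme.Hom.comp_apply]
      exact hc
    have h2 : φ.left ((pullback.fst T.hom gX) p) ∈ (M0 gX gY j M e : Set M.left) :=
      h ⟨_, rfl⟩
    apply h2
    refine ⟨(bc gX φ) p, hb, ?_⟩
    rw [← Scheme.Hom.comp_apply, bc_fst, Scheme.Hom.comp_apply]
  · rintro h _ ⟨t, rfl⟩
    rintro ⟨c, hc, hct⟩
    obtain ⟨p, hp1, hp2⟩ :=
      Scheme.exists_preimage_of_isPullback (isPullback_bc gX M φ) c t hct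
    apply hc
    show (xi gX gY M e) c ∈ Set.range j
    rw [← hp1, ← Scheme.Hom.comp_apply]
    exact h ⟨p, rfl⟩

/-- the inclusion. -/
noncomputable def incl : Over.mk ((M0 gX gY j M e).ι ≫ M.hom) ⟶ M :=
  Over.homMk (M0 gX gY j M e).ι rfl

lemma range_incl {T : Over S} (φ : T ⟶ Over.mk ((M0 gX gY j M e).ι ≫ M.hom)) :
    Set.range (φ ≫ incl gX gY j M e).left ⊆ (M0 gX gY j M e : Set M.left) := by
  rintro _ ⟨t, rfl⟩
  show (φ.left ≫ (M0 gX gY j M e).ι) t ∈ _
  rw [Scheme.Hom.comp_apply]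
  exact (φ.left t).2

/-- the forward map. -/
noncomputable def fwd {T : Over S} (φ : T ⟶ Over.mk ((M0 gX gY j M e).ι ≫ M.hom)) :
    (Flatn.morS gX (j ≫ gY)).obj (op T) :=
  mkMor gX (j ≫ gY)
    (IsOpenImmersion.lift j (toLeft gX gY (e.homEquiv (φ ≫ incl gX gY j M e)))
      ((range_subset_iff gX gY j M e _).mp (range_incl gX gY j M e φ)))
    (by rw [IsOpenImmersion.lift_fac_assoc, toLeft_w])

lemma fwd_spec {T : Over S} (φ : T ⟶ Over.mk ((M0 gX gY j M e).ι ≫ M.hom)) :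
    toLeft gX (j ≫ gY) (fwd gX gY j M e φ) ≫ j =
      toLeft gX gY (e.homEquiv (φ ≫ incl gX gY j M e)) := by
  rw [fwd, toLeft_mkMor, IsOpenImmersion.lift_fac]

lemma fwd_injective {T : Over S} : Function.Injective (fwd gX gY j M e (T := T)) := by
  intro φ₁ φ₂ h
  have h1 : toLeft gX gY (e.homEquiv (φ₁ ≫ incl gX gY j M e)) =
      toLeft gX gY (e.homEquiv (φ₂ ≫ incl gX gY j M e)) := by
    rw [← fwd_spec, ← fwd_spec, h]
  have h2 := e.homEquiv.injective (toLeft_injective gX gY h1)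
  have h3 : φ₁.left ≫ (M0 gX gY j M e).ι = φ₂.left ≫ (M0 gX gY j M e).ι :=
    congrArg CommaMorphism.left h2
  exact Over.OverMorphism.ext ((cancel_mono (M0 gX gY j M e).ι).mp h3)

lemma fwd_surjective {T : Over S} : Function.Surjective (fwd gX gY j M e (T := T)) := by
  intro c
  let c' : (Flatn.morS gX gY).obj (op T) := mkMor gX gY (toLeft gX (j ≫ gY) c ≫ j)
    (by rw [Category.assoc, toLeft_w])
  let φ' : T ⟶ M := e.homEquiv.symm c'
  have hφ' : e.homEquiv φ' = c' := e.homEquiv.apply_symm_apply c'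
  have hr : Set.range φ'.left ⊆ (M0 gX gY j M e : Set M.left) := by
    rw [range_subset_iff, hφ']
    show Set.range (toLeft gX (j ≫ gY) c ≫ j) ⊆ Set.range j
    rintro _ ⟨p, rfl⟩
    exact ⟨toLeft gX (j ≫ gY) c p, (Scheme.Hom.comp_apply _ _ _).symm⟩
  let φl : T.left ⟶ (M0 gX gY j M e).toScheme :=
    IsOpenImmersion.lift (M0 gX gY j M e).ι φ'.left (by rwa [Scheme.Opens.range_ι])
  have hφl : φl ≫ (M0 gX gY j M e).ι = φ'.left := IsOpenImmersion.lift_fac _ _ _
  let φ : T ⟶ Over.mk ((M0 gX gY j M e).ι ≫ M.hom) := Over.homMk φl (by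
    show φl ≫ (M0 gX gY j M e).ι ≫ M.hom = T.hom
    rw [← Category.assoc, hφl, Over.w φ'])
  have hφ : φ ≫ incl gX gY j M e = φ' := Over.OverMorphism.ext hφl
  refine ⟨φ, toLeft_injective gX (j ≫ gY) ?_⟩
  rw [← cancel_mono j, fwd_spec, hφ, hφ']
  rfl

/-- the representation. -/
noncomputable def rep : (Flatn.morS gX (j ≫ gY)).RepresentableBy
    (Over.mk ((M0 gX gY j M e).ι ≫ M.hom)) where
  homEquiv {T} := Equiv.ofBijective (fwd gX gY j M e)
    ⟨fwd_injective gX gY j M e, fwd_surjective gX gY j M e⟩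
  homEquiv_comp {T' T} ψ φ := by
    show fwd gX gY j M e (ψ ≫ φ) = (Flatn.morS gX (j ≫ gY)).map ψ.op (fwd gX gY j M e φ)
    apply toLeft_injective gX (j ≫ gY)
    rw [← cancel_mono j, fwd_spec, toLeft_map]
    have h1 : (bc gX ψ ≫ toLeft gX (j ≫ gY) (fwd gX gY j M e φ)) ≫ j =
        bc gX ψ ≫ toLeft gX gY (e.homEquiv (φ ≫ incl gX gY j M e)) := by
      rw [Category.assoc, fwd_spec]
    rw [h1, Category.assoc, e.homEquiv_comp, toLeft_map]

theorem main : ∃ (M₀ : M.left.Opens)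
      (e₀ : (Flatn.morS gX (j ≫ gY)).RepresentableBy (Over.mk (M₀.ι ≫ M.hom))),
      ∀ (T : Over S) (φ : T ⟶ Over.mk (M₀.ι ≫ M.hom)),
        (e.homEquiv (φ ≫ Over.homMk M₀.ι rfl) :
            (Over.map gX).obj ((Over.pullback gX).obj T) ⟶ Over.mk gY) =
          (e₀.homEquiv φ : (Over.map gX).obj ((Over.pullback gX).obj T) ⟶ Over.mk (j ≫ gY)) ≫
            (Over.homMk j rfl : Over.mk (j ≫ gY) ⟶ Over.mk gY) := by
  refine ⟨M0 gX gY j M e, rep gX gY j M e, fun T φ => ?_⟩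
  apply Over.OverMorphism.ext
  exact (fwd_spec gX gY j M e φ).symm

end Groth.Agent.Helper8.MorOpen
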