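import Mathlib

set_option autoImplicit false
universe u
open TensorProduct

namespace Groth.Agent.Helper8.MoritaEnd

section basic
variable {A : Type u} [CommRing A] {F : Type u} [AddCommGroup F] [Module A F]

theorem smulRight_comp (f : Module.End A F) (ψ : Module.Dual A F) (x : F) :
    f * ψ.smulRight x = ψ.smulRight (f x) := by
  ext z
  simp [Module.End.mul_apply]

variable (A F) in
theorem exists_dualBasis [Module.Finite A F] [Module.Projective A F] :
    ∃ (n : ℕ) (x : Fin n → F) (xs : Fin n → Module.Dual A F), ∀ z, ∑ a, xs a z • x a = z := by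
  classical
  obtain ⟨n, f, g, -, -, hfg⟩ := Module.Finite.exists_comp_eq_id_of_projective A F
  refine ⟨n, fun a => f (Pi.single a 1), fun a => LinearMap.proj a ∘ₗ g, fun z => ?_⟩
  have h1 : f (g z) = z := LinearMap.congr_fun hfg z
  conv_rhs => rw [← h1]
  rw [LinearMap.pi_apply_eq_sum_univ f (g z)]
  refine Finset.sum_congr rfl fun a _ => ?_
  simp only [LinearMap.comp_apply, LinearMap.proj_apply]
  congr 2
  ext j
  simp [Pi.single_apply, eq_comm]

variable (A F) in
theorem exists_trace [Module.Finite A F] [Module.Projective A F] [Module.FaithfullyFlat A F] :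
    ∃ S : Finset (Module.Dual A F × F), ∑ p ∈ S, p.1 p.2 = 1 := by
  classical
  obtain ⟨n, x, xs, hx⟩ := exists_dualBasis A F
  have htop : LinearMap.range (contractLeft A F) = ⊤ := by
    by_contra hne
    obtain ⟨m, hm, hle⟩ := Ideal.exists_le_maximal (LinearMap.range (contractLeft A F)) hne
    apply Module.FaithfullyFlat.submodule_ne_top (M := F) hm
    rw [eq_top_iff]
    intro z _
    rw [← hx z]
    refine Submodule.sum_mem _ fun a _ => ?_
    refine Submodule.smul_mem_smul (hle ⟨xs a ⊗ₜ z, ?_⟩) Submodule.mem_top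
    simp
  obtain ⟨t, ht⟩ : (1 : A) ∈ LinearMap.range (contractLeft A F) := by rw [htop]; trivial
  obtain ⟨S, rfl⟩ := TensorProduct.exists_finset t
  refine ⟨S, ?_⟩
  rw [map_sum] at ht
  simpa using ht

theorem central_apply (S : Finset (Module.Dual A F × F)) (hS : ∑ p ∈ S, p.1 p.2 = 1)
    (z : Module.End A F) (hz : ∀ f : Module.End A F, z * f = f * z) (x : F) :
    z x = (∑ p ∈ S, p.1 (z p.2)) • x := by
  have h1 : ∀ p ∈ S, z (p.1 p.2 • x) = p.1 (z p.2) • x := by
    intro p _
    have := LinearMap.congr_fun (hz (p.1.smulRight x)) p.2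
    simpa [Module.End.mul_apply] using this
  calc z x = z ((∑ p ∈ S, p.1 p.2) • x) := by rw [hS, one_smul]
    _ = ∑ p ∈ S, z (p.1 p.2 • x) := by rw [Finset.sum_smul, map_sum]
    _ = ∑ p ∈ S, p.1 (z p.2) • x := Finset.sum_congr rfl h1
    _ = _ := by rw [Finset.sum_smul]

end basic

section tw
variable {A : Type u} [CommRing A] {F G : Type u} [AddCommGroup F] [Module A F]
  [AddCommGroup G] [Module A G] {E : Type u} [Ring E] [Algebra A E]
  (α : E ≃ₐ[A] Module.End A F) (β : E ≃ₐ[A] Module.End A G)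

/-- `E`-linear maps `F → G` -/
def tw : Submodule A (F →ₗ[A] G) where
  carrier := {l | ∀ e : E, l ∘ₗ α e = β e ∘ₗ l}
  add_mem' := by
    intro l₁ l₂ h₁ h₂ e
    rw [LinearMap.add_comp, LinearMap.comp_add, h₁ e, h₂ e]
  zero_mem' := by
    intro e
    simp
  smul_mem' := by
    intro a l h e
    rw [LinearMap.smul_comp, LinearMap.comp_smul, h e]

variable {α β}

theorem tw_apply (l : tw α β) (e : E) (x : F) :
    (l : F →ₗ[A] G) (α e x) = β e ((l : F →ₗ[A] G) x) :=
  LinearMap.congr_fun (l.2 e) x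

variable (α β)

/-- the map `x ↦ β (α⁻¹ (ψ(-) x)) g` -/
noncomputable def mkLin (ψ : Module.Dual A F) (g : G) : F →ₗ[A] G :=
  (LinearMap.applyₗ g : (G →ₗ[A] G) →ₗ[A] G) ∘ₗ β.toLinearMap ∘ₗ α.symm.toLinearMap ∘ₗ
    (LinearMap.smulRightₗ ψ : F →ₗ[A] F →ₗ[A] F)

theorem mkLin_apply (ψ : Module.Dual A F) (g : G) (x : F) :
    mkLin α β ψ g x = β (α.symm (ψ.smulRight x)) g := rfl

theorem mkLin_mem (ψ : Module.Dual A F) (g : G) : mkLin α β ψ g ∈ tw α β := by
  intro e
  ext x
  simp only [LinearMap.comp_apply, mkLin_apply]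
  rw [← smulRight_comp, map_mul, AlgEquiv.symm_apply_apply, map_mul, Module.End.mul_apply]

/-- `g ↦ mkLin ψ g` as a linear map to `tw` -/
noncomputable def mk (ψ : Module.Dual A F) : G →ₗ[A] tw α β where
  toFun g := ⟨mkLin α β ψ g, mkLin_mem α β ψ g⟩
  map_add' g₁ g₂ := by
    apply Subtype.ext
    ext x
    simp [mkLin_apply]
  map_smul' a g := by
    apply Subtype.ext
    ext x
    simp [mkLin_apply]

theorem mk_apply (ψ : Module.Dual A F) (g : G) (x : F) :
    ((mk α β ψ g : tw α β) : F →ₗ[A] G) x = β (α.symm (ψ.smulRight x)) g := rfl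

/-- evaluation `F ⊗ tw → G` -/
noncomputable def ev : F ⊗[A] tw α β →ₗ[A] G :=
  TensorProduct.lift ((LinearMap.applyₗ (R := A) (M := F) (M₂ := G)).compl₂ (tw α β).subtype)

@[simp] theorem ev_tmul (x : F) (l : tw α β) : ev α β (x ⊗ₜ l) = (l : F →ₗ[A] G) x := by
  simp [ev]

theorem mk_eval (ψ : Module.Dual A F) (l : tw α β) (x : F) :
    mk α β ψ ((l : F →ₗ[A] G) x) = ψ x • l := by
  apply Subtype.ext
  ext z
  rw [mk_apply, ← tw_apply, AlgEquiv.apply_symm_apply]
  simp

/-- the inverse of `ev` built from a dual basis -/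
noncomputable def evInv {n : ℕ} (x : Fin n → F) (xs : Fin n → Module.Dual A F) :
    G →ₗ[A] F ⊗[A] tw α β :=
  ∑ a, (TensorProduct.mk A F (tw α β) (x a)) ∘ₗ mk α β (xs a)

theorem ev_evInv {n : ℕ} (x : Fin n → F) (xs : Fin n → Module.Dual A F)
    (hx : ∀ z, ∑ a, xs a z • x a = z) : ev α β ∘ₗ evInv α β x xs = LinearMap.id := by
  ext g
  simp only [evInv, LinearMap.comp_apply, LinearMap.sum_apply, map_sum, TensorProduct.mk_apply,
    ev_tmul, mk_apply, LinearMap.id_apply]
  have h1 : ∑ a, (xs a).smulRight (x a) = (1 : Module.End A F) := by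
    ext z
    simp only [LinearMap.sum_apply, LinearMap.smulRight_apply, Module.End.one_apply]
    exact hx z
  have h2 : ∑ a, β (α.symm ((xs a).smulRight (x a))) = 1 := by
    rw [← map_sum, ← map_sum, h1, map_one, map_one]
  calc ∑ a, β (α.symm ((xs a).smulRight (x a))) g
      = (∑ a, β (α.symm ((xs a).smulRight (x a)))) g := by rw [LinearMap.sum_apply]
    _ = g := by rw [h2, Module.End.one_apply]

theorem evInv_ev {n : ℕ} (x : Fin n → F) (xs : Fin n → Module.Dual A F)
    (hx : ∀ z, ∑ a, xs a z • x a = z) : evInv α β x xs ∘ₗ ev α β = LinearMap.id := by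
  apply TensorProduct.ext'
  intro z l
  simp only [evInv, LinearMap.comp_apply, LinearMap.sum_apply, TensorProduct.mk_apply,
    ev_tmul, LinearMap.id_apply, mk_eval]
  have h1 : ∀ d, x d ⊗ₜ[A] ((xs d) z • l) = ((xs d) z • x d) ⊗ₜ[A] l := fun d =>
    (TensorProduct.smul_tmul _ _ _).symm
  simp_rw [h1]
  rw [← TensorProduct.sum_tmul, hx z]

/-- `F ⊗ tw ≃ G` -/
noncomputable def evEquiv {n : ℕ} (x : Fin n → F) (xs : Fin n → Module.Dual A F)
    (hx : ∀ z, ∑ a, xs a z • x a = z) : F ⊗[A] tw α β ≃ₗ[A] G :=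
  LinearEquiv.ofLinearMap (ev α β) (evInv α β x xs) (ev_evInv α β x xs hx) (evInv_ev α β x xs hx)

/-- the pairing `tw α β ⊗ tw β α → A` -/
noncomputable def pair (S : Finset (Module.Dual A F × F)) : tw α β ⊗[A] tw β α →ₗ[A] A :=
  TensorProduct.lift (LinearMap.mk₂ A (fun (l : tw α β) (l' : tw β α) =>
      ∑ p ∈ S, p.1 ((l' : G →ₗ[A] F) ((l : F →ₗ[A] G) p.2)))
    (by intros; simp [Finset.sum_add_distrib])
    (by intros; simp [Finset.mul_sum])
    (by intros; simp [Finset.sum_add_distrib])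
    (by intros; simp [Finset.mul_sum]))

theorem pair_tmul (S : Finset (Module.Dual A F × F)) (l : tw α β) (l' : tw β α) :
    pair α β S (l ⊗ₜ l') = ∑ p ∈ S, p.1 ((l' : G →ₗ[A] F) ((l : F →ₗ[A] G) p.2)) := by
  simp [pair]

theorem comp_eq (S : Finset (Module.Dual A F × F)) (hS : ∑ p ∈ S, p.1 p.2 = 1)
    (l : tw α β) (l' : tw β α) (x : F) :
    (l' : G →ₗ[A] F) ((l : F →ₗ[A] G) x) = pair α β S (l ⊗ₜ l') • x := by
  rw [pair_tmul]
  have := central_apply S hS ((l' : G →ₗ[A] F) ∘ₗ (l : F →ₗ[A] G)) ?_ x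
  · simpa using this
  · intro f
    obtain ⟨e, rfl⟩ := α.surjective f
    ext y
    simp only [Module.End.mul_apply, LinearMap.comp_apply]
    rw [tw_apply l e y, tw_apply l' e]

theorem mk_mk_apply (ψ : Module.Dual A F) (g : G) (χ : Module.Dual A G) (x z : F) :
    ((mk β α χ x : tw β α) : G →ₗ[A] F) (((mk α β ψ g : tw α β) : F →ₗ[A] G) z) =
      ψ (α (β.symm (χ.smulRight g)) x) • z := by
  rw [mk_apply, mk_apply, ← smulRight_comp, map_mul, AlgEquiv.symm_apply_apply, map_mul,
    AlgEquiv.apply_symm_apply, Module.End.mul_apply, LinearMap.smulRight_apply]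

theorem pair_mk_mk (S : Finset (Module.Dual A F × F)) (hS : ∑ p ∈ S, p.1 p.2 = 1)
    (ψ : Module.Dual A F) (g : G) (χ : Module.Dual A G) (x : F) :
    pair α β S (mk α β ψ g ⊗ₜ mk β α χ x) = ψ (α (β.symm (χ.smulRight g)) x) := by
  rw [pair_tmul]
  simp_rw [mk_mk_apply, map_smul, smul_eq_mul]
  rw [← Finset.mul_sum, hS, mul_one]

theorem pair_surjective (S : Finset (Module.Dual A F × F)) (hS : ∑ p ∈ S, p.1 p.2 = 1)
    {n : ℕ} (y : Fin n → G) (ys : Fin n → Module.Dual A G)
    (hy : ∀ z, ∑ a, ys a z • y a = z) :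
    ∃ t, pair α β S t = 1 := by
  refine ⟨∑ a, ∑ p ∈ S, mk α β p.1 (y a) ⊗ₜ mk β α (ys a) p.2, ?_⟩
  simp_rw [map_sum, pair_mk_mk α β S hS]
  rw [Finset.sum_comm]
  have h1 : ∑ a, (ys a).smulRight (y a) = (1 : Module.End A G) := by
    ext z
    simp only [LinearMap.sum_apply, LinearMap.smulRight_apply, Module.End.one_apply]
    exact hy z
  have h2 : ∑ a, α (β.symm ((ys a).smulRight (y a))) = 1 := by
    rw [← map_sum, ← map_sum, h1, map_one, map_one]
  have h3 : ∀ p ∈ S, ∑ a, p.1 (α (β.symm ((ys a).smulRight (y a))) p.2) = p.1 p.2 := by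
    intro p _
    rw [← map_sum, ← LinearMap.sum_apply, h2, Module.End.one_apply]
  rw [Finset.sum_congr rfl h3, hS]

theorem smul_swap₁ (S : Finset (Module.Dual A F × F)) (hS : ∑ p ∈ S, p.1 p.2 = 1)
    (S' : Finset (Module.Dual A G × G)) (hS' : ∑ p ∈ S', p.1 p.2 = 1)
    (m : tw α β) (m' l' : tw β α) :
    pair α β S (m ⊗ₜ m') • l' = pair β α S' (l' ⊗ₜ m) • m' := by
  apply Subtype.ext
  ext g
  simp only [Submodule.coe_smul, LinearMap.smul_apply]
  rw [← comp_eq α β S hS, comp_eq β α S' hS' l' m g, map_smul]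

theorem smul_swap₂ (S : Finset (Module.Dual A F × F)) (hS : ∑ p ∈ S, p.1 p.2 = 1)
    (S' : Finset (Module.Dual A G × G)) (hS' : ∑ p ∈ S', p.1 p.2 = 1)
    (l m : tw α β) (l' : tw β α) :
    pair β α S' (l' ⊗ₜ m) • l = pair α β S (l ⊗ₜ l') • m := by
  apply Subtype.ext
  ext x
  simp only [Submodule.coe_smul, LinearMap.smul_apply]
  rw [← comp_eq β α S' hS', comp_eq α β S hS l l' x, map_smul]

theorem pair_key (S : Finset (Module.Dual A F × F)) (hS : ∑ p ∈ S, p.1 p.2 = 1)
    (S' : Finset (Module.Dual A G × G)) (hS' : ∑ p ∈ S', p.1 p.2 = 1)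
    (s t : tw α β ⊗[A] tw β α) : pair α β S s • t = pair α β S t • s := by
  induction t using TensorProduct.induction_on with
  | zero => simp
  | add t₁ t₂ h₁ h₂ => rw [smul_add, h₁, h₂, map_add, add_smul]
  | tmul l l' =>
    induction s using TensorProduct.induction_on with
    | zero => simp
    | add s₁ s₂ h₁ h₂ => rw [map_add, add_smul, h₁, h₂, smul_add]
    | tmul m m' =>
      rw [TensorProduct.smul_tmul', TensorProduct.smul_tmul, smul_swap₁ α β S hS S' hS',
        ← TensorProduct.smul_tmul, smul_swap₂ α β S hS S' hS', ← TensorProduct.smul_tmul']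

theorem pair_bijective (S : Finset (Module.Dual A F × F)) (hS : ∑ p ∈ S, p.1 p.2 = 1)
    (S' : Finset (Module.Dual A G × G)) (hS' : ∑ p ∈ S', p.1 p.2 = 1)
    {n : ℕ} (y : Fin n → G) (ys : Fin n → Module.Dual A G)
    (hy : ∀ z, ∑ a, ys a z • y a = z) : Function.Bijective (pair α β S) := by
  obtain ⟨t₀, ht₀⟩ := pair_surjective α β S hS y ys hy
  constructor
  · rw [injective_iff_map_eq_zero]
    intro t ht
    have := pair_key α β S hS S' hS' t₀ t
    rw [ht₀, one_smul, ht, zero_smul] at this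
    exact this
  · intro a
    exact ⟨a • t₀, by rw [map_smul, ht₀, smul_eq_mul, mul_one]⟩

end tw

theorem main (A : Type u) [CommRing A]
    (F G : Type u) [AddCommGroup F] [Module A F] [Module.Finite A F] [Module.Projective A F]
    [Module.FaithfullyFlat A F]
    [AddCommGroup G] [Module A G] [Module.Finite A G] [Module.Projective A G]
    [Module.FaithfullyFlat A G]
    (φ : Module.End A F ≃ₐ[A] Module.End A G) :
    ∃ (L : Type u) (_ : AddCommGroup L) (_ : Module A L), Module.Invertible A L ∧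
      ∃ ξ : F ⊗[A] L ≃ₗ[A] G, ∀ f : Module.End A F,
        φ f = ξ.conj (TensorProduct.map f LinearMap.id) := by
  obtain ⟨n, x, xs, hx⟩ := exists_dualBasis A F
  obtain ⟨n', y, ys, hy⟩ := exists_dualBasis A G
  obtain ⟨S, hS⟩ := exists_trace A F
  obtain ⟨S', hS'⟩ := exists_trace A G
  let α : Module.End A F ≃ₐ[A] Module.End A F := AlgEquiv.refl
  refine ⟨tw α φ, inferInstance, inferInstance, ?_, evEquiv α φ x xs hx, fun f => ?_⟩
  · exact Module.Invertible.left
      (LinearEquiv.ofBijective (pair α φ S) (pair_bijective α φ S hS S' hS' y ys hy))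
  · have h1 : φ f ∘ₗ (evEquiv α φ x xs hx).toLinearMap =
        (evEquiv α φ x xs hx).toLinearMap ∘ₗ TensorProduct.map f LinearMap.id := by
      apply TensorProduct.ext'
      intro z l
      show φ f (ev α φ (z ⊗ₜ l)) = ev α φ (f z ⊗ₜ l)
      rw [ev_tmul, ev_tmul]
      exact (tw_apply l f z).symm
    ext g
    rw [LinearEquiv.conj_apply]
    simp only [LinearMap.comp_apply, LinearEquiv.coe_coe]
    have := LinearMap.congr_fun h1 ((evEquiv α φ x xs hx).symm g)
    simp only [LinearMap.comp_apply, LinearEquiv.coe_coe, LinearEquiv.apply_symm_apply] at this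
    exact this

end Groth.Agent.Helper8.MoritaEnd
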