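import Mathlib

/-!
# A Morita-type criterion: `T ≅ End_R(T s)` for a "rank one" full element `s`

Let `T` be an `R`-algebra and `s ∈ T` with `T s T = T`, `s T s ⊆ R s` and `R s ≅ R`.
Then `E = T s` is a finitely generated projective `R`-module and left multiplication
`T → End_R(E)` is an isomorphism of algebras.
-/

set_option autoImplicit false
universe u

namespace Groth.Agent.Helper8.MoritaRankOne

variable {R : Type u} [CommRing R] {T : Type u} [Ring T] [Algebra R T]

/-- the left ideal `T s`, as an `R`-submodule -/
def leftIdeal (R : Type u) [CommRing R] {T : Type u} [Ring T] [Algebra R T] (s : T) :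
    Submodule R T :=
  LinearMap.range (LinearMap.mulRight R s)

theorem mem_leftIdeal {s z : T} : z ∈ leftIdeal R s ↔ ∃ w, w * s = z := by
  simp [leftIdeal, LinearMap.mem_range]

theorem mul_mem_leftIdeal {s z : T} (x : T) (hz : z ∈ leftIdeal R s) : x * z ∈ leftIdeal R s := by
  obtain ⟨w, rfl⟩ := mem_leftIdeal.1 hz
  exact mem_leftIdeal.2 ⟨x * w, mul_assoc _ _ _⟩

/-- left multiplication on the left ideal -/
def lam (s : T) : T →ₐ[R] Module.End R (leftIdeal R s) where
  toFun x := (LinearMap.mulLeft R x).restrict (fun z hz => mul_mem_leftIdeal x hz)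
  map_one' := by
    ext z
    simp
  map_mul' x y := by
    ext z
    simp [mul_assoc]
  map_zero' := by
    ext z
    simp
  map_add' x y := by
    ext z
    simp [add_mul]
  commutes' r := by
    ext z
    simp [Algebra.smul_def]

@[simp] theorem lam_apply (s x : T) (z : leftIdeal R s) : ((lam s x z : leftIdeal R s) : T) = x * z :=
  rfl

theorem main (s : T) {ι : Type} [Fintype ι] (x y : ι → T) (h1 : ∑ k, x k * s * y k = 1)
    (h2 : ∀ t : T, ∃ r : R, s * t * s = r • s) (h3 : ∀ r : R, r • s = 0 → r = 0) :
    Module.Finite R (leftIdeal R s) ∧ Module.Projective R (leftIdeal R s) ∧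
      Function.Bijective (lam (R := R) s) := by
  classical
  -- the functional `μ` on `E` with `s * z = μ z • s`
  have hμ : ∀ z : leftIdeal R s, ∃ r : R, s * (z : T) = r • s := by
    rintro ⟨z, hz⟩
    obtain ⟨w, rfl⟩ := mem_leftIdeal.1 hz
    obtain ⟨r, hr⟩ := h2 w
    exact ⟨r, by rw [← mul_assoc]; exact hr⟩
  choose μ hμ' using hμ
  have huniq : ∀ r r' : R, r • s = r' • s → r = r' := by
    intro r r' h
    have : (r - r') • s = 0 := by rw [sub_smul, h, sub_self]
    exact sub_eq_zero.1 (h3 _ this)
  have μ_add : ∀ z z', μ (z + z') = μ z + μ z' := by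
    intro z z'
    apply huniq
    rw [← hμ', add_smul, ← hμ', ← hμ', Submodule.coe_add, mul_add]
  have μ_smul : ∀ (c : R) z, μ (c • z) = c * μ z := by
    intro c z
    apply huniq
    rw [← hμ', mul_smul, ← hμ', Submodule.coe_smul, mul_smul_comm]
  -- elements `x k * s` of `E`
  let e : ι → leftIdeal R s := fun k => ⟨x k * s, mem_leftIdeal.2 ⟨x k, rfl⟩⟩
  let yz : ι → leftIdeal R s → leftIdeal R s := fun k z => ⟨y k * z, mul_mem_leftIdeal _ z.2⟩
  have hexp : ∀ z : leftIdeal R s, z = ∑ k, μ (yz k z) • e k := by
    intro z
    apply Subtype.ext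
    rw [Submodule.coe_sum]
    calc (z : T) = (∑ k, x k * s * y k) * z := by rw [h1, one_mul]
      _ = ∑ k, x k * (s * (y k * z)) := by
          rw [Finset.sum_mul]
          exact Finset.sum_congr rfl (fun k _ => by simp only [mul_assoc])
      _ = ∑ k, ((μ (yz k z) • e k : leftIdeal R s) : T) := by
          refine Finset.sum_congr rfl (fun k _ => ?_)
          have := hμ' (yz k z)
          rw [Submodule.coe_smul]
          show x k * (s * (y k * (z : T))) = μ (yz k z) • (x k * s)
          have h' : s * (y k * (z : T)) = μ (yz k z) • s := this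
          rw [h', mul_smul_comm]
  -- the two linear maps
  let i : leftIdeal R s →ₗ[R] (ι → R) :=
    { toFun := fun z k => μ (yz k z)
      map_add' := by
        intro z z'
        funext k
        have : yz k (z + z') = yz k z + yz k z' := by
          apply Subtype.ext
          simp [yz, mul_add]
        simp only [Pi.add_apply]
        rw [this, μ_add]
      map_smul' := by
        intro c z
        funext k
        have : yz k (c • z) = c • yz k z := by
          apply Subtype.ext
          simp [yz]
        simp only [Pi.smul_apply, RingHom.id_apply, smul_eq_mul]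
        rw [this, μ_smul] }
  let p : (ι → R) →ₗ[R] leftIdeal R s := Fintype.linearCombination R e
  have hpi : ∀ z, p (i z) = z := by
    intro z
    rw [hexp z]
    simp only [p, Fintype.linearCombination_apply]
    refine Finset.sum_congr rfl (fun k _ => ?_)
    rw [← hexp z]
    rfl
  have hsurj : Function.Surjective p := fun z => ⟨i z, hpi z⟩
  refine ⟨Module.Finite.of_surjective p hsurj,
    Module.Projective.of_split i p (LinearMap.ext hpi), ?_, ?_⟩
  · -- injective
    rw [injective_iff_map_eq_zero]
    intro t ht
    have hts : ∀ w : T, t * (w * s) = 0 := by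
      intro w
      have := congrArg (fun g : Module.End R (leftIdeal R s) =>
        ((g ⟨w * s, mem_leftIdeal.2 ⟨w, rfl⟩⟩ : leftIdeal R s) : T)) ht
      simpa using this
    calc t = t * ∑ k, x k * s * y k := by rw [h1, mul_one]
      _ = ∑ k, t * (x k * s) * y k := by
          rw [Finset.mul_sum]
          exact Finset.sum_congr rfl (fun k _ => by simp only [mul_assoc])
      _ = 0 := Finset.sum_eq_zero (fun k _ => by rw [hts, zero_mul])
  · -- surjective
    intro G
    refine ⟨∑ k, ((G (e k) : leftIdeal R s) : T) * y k, ?_⟩
    apply LinearMap.ext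
    intro z
    apply Subtype.ext
    rw [lam_apply, Finset.sum_mul]
    have hk : ∀ k, ((G (e k) : leftIdeal R s) : T) * y k * (z : T) =
        ((μ (yz k z) • G (e k) : leftIdeal R s) : T) := by
      intro k
      obtain ⟨w, hw⟩ := mem_leftIdeal.1 (G (e k)).2
      have h' : s * (y k * (z : T)) = μ (yz k z) • s := hμ' (yz k z)
      rw [Submodule.coe_smul, ← hw, mul_assoc, mul_assoc, h', mul_smul_comm]
    rw [Finset.sum_congr rfl (fun k _ => hk k), ← Submodule.coe_sum]
    congr 1
    conv_rhs => rw [hexp z]
    rw [map_sum]
    exact Finset.sum_congr rfl (fun k _ => (map_smul G _ _).symm)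

end Groth.Agent.Helper8.MoritaRankOne
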