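import Mathlib

namespace Groth.Agent.Helper8.MukaiWall

theorem ints (n r d χ p q a : ℤ) (hn : 0 < n) (hr : 2 ≤ r) (hd : 0 < d) (hχ : χ < 0) (hp : 0 ≤ p)
    (hodge : 4 * n * p * q ≤ a * a)
    (hP1 : 1 ≤ |d * a - r * q - χ * p|) (hP2 : |d * a - r * q - χ * p| ≤ 2)
    (hexc : ¬ (d = 1 ∧ χ = -1 ∧ a = 1 ∧ 2 * p * q = 0))
    (hr2 : r = 2 → ¬ (p = 0 ∧ a = 0)) :
    (0 ≤ 2 * n * d * p - r * a ↔ 0 ≤ χ * a - 2 * n * d * q) := by
  obtain ⟨hPl, hPu⟩ := abs_le.mp hP2
  have hnd : 0 < n * d := mul_pos hn hd
  constructor
  · -- X ≥ 0 → Y ≥ 0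
    intro hX
    by_contra hY
    push Not at hY
    rcases le_or_gt a 0 with ha | ha
    · -- a ≤ 0
      have hχa : 0 ≤ χ * a := mul_nonneg_of_nonpos_of_nonpos hχ.le ha
      have hq : 0 < q := by
        by_contra hq
        push Not at hq
        have : n * d * q ≤ 0 := mul_nonpos_of_nonneg_of_nonpos hnd.le hq
        nlinarith
      rcases eq_or_lt_of_le ha with ha0 | ha0
      · -- a = 0
        subst ha0
        have hp0 : p = 0 := by
          have h1 : 4 * n * p * q ≤ 0 := by simpa using hodge
          have h2 : 0 ≤ n * p * q := mul_nonneg (mul_nonneg hn.le hp) hq.le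
          have h3 : n * p * q = 0 := by nlinarith
          have h4 : n * p = 0 := by
            rcases mul_eq_zero.mp h3 with h | h
            · exact h
            · exact absurd h hq.ne'
          rcases mul_eq_zero.mp h4 with h | h
          · exact absurd h hn.ne'
          · exact h
        subst hp0
        simp only [mul_zero, zero_sub, sub_zero] at hPl hPu
        have hrq : r * q ≤ 2 := by linarith
        have hq1 : q = 1 := by nlinarith
        have hr2' : r = 2 := by subst hq1; linarith
        exact hr2 hr2' ⟨rfl, rfl⟩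
      · -- a < 0
        -- key: 2 * (-χ) * p < d * (-a)
        have key : 2 * (-χ) * p < d * (-a) := by
          by_contra hcon
          push Not at hcon
          have h1 : 0 ≤ 2 * n * q * (2 * (-χ) * p - d * (-a)) :=
            mul_nonneg (by positivity) (by linarith)
          -- (-χ)(-a) < 2ndq
          have h2 : (-χ) * (-a) < 2 * n * d * q := by nlinarith
          have h3 : (-χ) * (4 * n * p * q) ≤ (-χ) * (a * a) :=
            mul_le_mul_of_nonneg_left hodge (by linarith)
          have h4 : (-χ) * (-a) * (-a) < 2 * n * d * q * (-a) :=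
            mul_lt_mul_of_pos_right h2 (by linarith)
          nlinarith
        have hrq : 2 ≤ r * q := by nlinarith
        have hda : 1 ≤ d * (-a) := by nlinarith
        nlinarith
    · -- a > 0
      have hra : 0 < r * a := mul_pos (by linarith) ha
      have hp1 : 0 < p := by
        by_contra hp0
        push Not at hp0
        have : n * d * p ≤ 0 := mul_nonpos_of_nonneg_of_nonpos hnd.le hp0
        nlinarith
      rcases le_or_gt q 0 with hq | hq
      · -- q ≤ 0
        have hda : 1 ≤ d * a := by nlinarith
        have hcp : 1 ≤ (-χ) * p := by nlinarith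
        have hrq : 0 ≤ r * (-q) := mul_nonneg (by linarith) (by linarith)
        have hq0 : q = 0 := by
          by_contra hne
          have : q ≤ -1 := by omega
          nlinarith
        subst hq0
        have hda1 : d * a = 1 := by nlinarith
        have hcp1 : (-χ) * p = 1 := by nlinarith
        have hd1 : d = 1 := by
          rcases Int.eq_one_or_neg_one_of_mul_eq_one hda1 with h | h
          · exact h
          · linarith
        have ha1 : a = 1 := by rw [hd1] at hda1; linarith
        have hχ1 : χ = -1 := by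
          rcases Int.eq_one_or_neg_one_of_mul_eq_one hcp1 with h | h
          · linarith
          · linarith
        exact hexc ⟨hd1, hχ1, ha1, by simp⟩
      · -- q > 0
        have h1 : 2 * q * (r * a) ≤ 2 * q * (2 * n * d * p) :=
          mul_le_mul_of_nonneg_left (by linarith) (by linarith)
        have h2 : d * (4 * n * p * q) ≤ d * (a * a) := mul_le_mul_of_nonneg_left hodge hd.le
        have h3 : 2 * r * q ≤ d * a := by
          by_contra hcon
          push Not at hcon
          have : a * (d * a) < a * (2 * r * q) := mul_lt_mul_of_pos_left hcon ha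
          nlinarith
        have hrq : 2 ≤ r * q := by nlinarith
        have hcp : 1 ≤ (-χ) * p := by nlinarith
        nlinarith
  · -- Y ≥ 0 → X ≥ 0
    intro hY
    by_contra hX
    push Not at hX
    have ha : 0 < a := by
      by_contra ha
      push Not at ha
      have : r * a ≤ 0 := mul_nonpos_of_nonneg_of_nonpos (by linarith) ha
      have : 0 ≤ n * d * p := mul_nonneg hnd.le hp
      nlinarith
    have hχa : χ * a < 0 := mul_neg_of_neg_of_pos hχ ha
    have hq : q < 0 := by
      by_contra hq
      push Not at hq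
      have : 0 ≤ n * d * q := mul_nonneg hnd.le hq
      nlinarith
    have hda : 1 ≤ d * a := by nlinarith
    have hrq : 2 ≤ r * (-q) := by nlinarith
    have hcp : 0 ≤ (-χ) * p := mul_nonneg (by linarith) hp
    nlinarith

theorem main
    (N : Type*) [AddCommGroup N] (B : LinearMap.BilinForm ℤ N) (hB : ∀ x y : N, B x y = B y x)
    (H : N) (n : ℤ) (hn : 0 < n) (hH : B H H = 2 * n) (hodge : ∀ x : N, B x H = 0 → B x x ≤ 0)
    (r d χ p q : ℤ) (η : N) (hr : 2 ≤ r) (hd : 0 < d) (hχ : χ < 0) (hp : 0 ≤ p)
    (hiso : B η η = 2 * p * q)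
    (hvu : 1 ≤ |d * B H η - r * q - χ * p| ∧ |d * B H η - r * q - χ * p| ≤ 2)
    (hexc : ¬ (d = 1 ∧ χ = -1 ∧ B H η = 1 ∧ B η η = 0))
    (hr2 : r = 2 → ¬ (p = 0 ∧ B H η = 0)) :
    (0 ≤ 2 * n * d * p - r * B H η ↔ 0 ≤ χ * B H η - 2 * n * d * q) := by
  have h1 : B ((2 * n) • η - (B H η) • H) H = 0 := by
    simp only [map_sub, map_smul, LinearMap.sub_apply, LinearMap.smul_apply, smul_eq_mul, hH,
      hB η H]
    ring
  have h2 := hodge _ h1
  simp only [map_sub, map_smul, LinearMap.sub_apply, LinearMap.smul_apply, smul_eq_mul, hH,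
    hB η H, hiso] at h2
  have h3 : 4 * n * p * q ≤ B H η * B H η := by
    have : 2 * n * (4 * n * p * q - B H η * B H η) ≤ 0 := by nlinarith
    by_contra hcon
    push Not at hcon
    have : 0 < 2 * n * (4 * n * p * q - B H η * B H η) := mul_pos (by linarith) (by linarith)
    linarith
  exact ints n r d χ p q (B H η) hn hr hd hχ hp h3 hvu.1 hvu.2
    (fun ⟨a, b, c, e⟩ => hexc ⟨a, b, c, by rw [hiso]; exact e⟩) hr2

end Groth.Agent.Helper8.MukaiWall
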