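import Mathlib
import Groth.Prelude.Def_W4c5qllcourbesmultMultCrv

set_option autoImplicit false

noncomputable section

open Polynomial

universe u

namespace Groth.Agent.Helper8.MC

open MultCrv

variable (R : Type*) [CommRing R] (n : ℕ)

theorem z_pow_n : z R n ^ n = 0 := by
  unfold z
  rw [← map_pow, Ideal.Quotient.eq_zero_iff_mem]
  exact Ideal.subset_span rfl

variable {R n} {M : Type*} [AddCommGroup M] [Module (Rn R n) M]

/-- a nonzero element has a nonzero multiple killed by `z` -/
theorem exists_pow_smul_ne_zero {u : M} (hu : u ≠ 0) :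
    ∃ j : ℕ, z R n ^ j • u ≠ 0 ∧ z R n ^ (j + 1) • u = 0 := by
  classical
  have hex : ∃ j : ℕ, z R n ^ j • u = 0 := ⟨n, by rw [z_pow_n]; exact zero_smul (Rn R n) u⟩
  have hpos : Nat.find hex ≠ 0 := by
    intro h0
    have := Nat.find_spec hex
    rw [h0, pow_zero, one_smul] at this
    exact hu this
  obtain ⟨j, hj⟩ := Nat.exists_eq_succ_of_ne_zero hpos
  refine ⟨j, ?_, ?_⟩
  · exact Nat.find_min hex (by omega)
  · have := Nat.find_spec hex
    rwa [hj] at this

theorem mem_filt2 {i : ℕ} {u : M} : u ∈ filt2 R n M i ↔ z R n ^ i • u = 0 :=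
  Submodule.mem_torsionBy_iff _ _

theorem mem_filt {i : ℕ} {u : M} : u ∈ filt R n M i ↔ ∃ v : M, z R n ^ i • v = u := by
  unfold filt
  simp [LinearMap.mem_range]

section Tower

variable (R n) in
theorem finite_Rn : Module.Finite R (Rn R n) := (monic_X_pow n).finite_quotient

variable (R n) in
theorem free_Rn : Module.Free R (Rn R n) := (monic_X_pow n).free_quotient

variable [Module R M] [IsScalarTower R (Rn R n) M]

variable (R n M) in
theorem finite_of_tower [Module.Finite (Rn R n) M] : Module.Finite R M :=
  have := finite_Rn R n
  Module.Finite.trans (Rn R n) M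

theorem smul_comm' (r : R) (a : Rn R n) (u : M) : r • a • u = a • r • u := by
  rw [← smul_assoc r a u, Algebra.smul_def r a, mul_comm, mul_smul, algebraMap_smul]

/-- a submodule (over `Rn`) of a finitely generated module over a noetherian base is finite over
the base -/
theorem finite_submodule [IsNoetherianRing R] [Module.Finite (Rn R n) M]
    (S : Submodule (Rn R n) M) : Module.Finite R S := by
  have := finite_of_tower R n M
  have : IsNoetherian R M := isNoetherian_of_isNoetherianRing_of_finite R M
  exact Module.Finite.of_injective (S.subtype.restrictScalars R) Subtype.val_injective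

theorem isTorsionFree_submodule [Module.IsTorsionFree R M] (S : Submodule (Rn R n) M) :
    Module.IsTorsionFree R S :=
  Function.Injective.moduleIsTorsionFree (Subtype.val : S → M) Subtype.val_injective
    (fun _ _ => rfl)

end Tower

end Groth.Agent.Helper8.MC
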