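import Mathlib
import Groth.Prelude.Def_W4c5qllcourbesmultMultCrv
import Groth.Agent.Helper8.MultCrvBasic

set_option autoImplicit false
set_option linter.unusedSectionVars false

noncomputable section

open Polynomial Module

universe u

namespace Groth.Agent.Helper8.MC

open MultCrv

section Basis

variable (R : Type*) [CommRing R] [Nontrivial R] (n : ℕ)

/-- the basis `1, z, …, z^(n-1)` -/
theorem dim_eq : (AdjoinRoot.powerBasis' (monic_X_pow (R := R) n)).dim = n := by
  rw [AdjoinRoot.powerBasis'_dim, natDegree_X_pow]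

/-- the identity, from `AdjoinRoot (X^n)` to `Rn R n` -/
def idEquiv : AdjoinRoot ((X : R[X]) ^ n) ≃ₗ[R] Rn R n where
  toFun x := x
  invFun x := x
  map_add' _ _ := rfl
  map_smul' _ _ := rfl
  left_inv _ := rfl
  right_inv _ := rfl

def bz : Basis (Fin n) R (Rn R n) :=
  (((AdjoinRoot.powerBasis' (monic_X_pow n)).basis).reindex (finCongr (dim_eq R n))).map
    (idEquiv R n)

theorem bz_apply (j : Fin n) : bz R n j = z R n ^ (j : ℕ) := by
  unfold bz
  rw [Basis.map_apply, Basis.reindex_apply, PowerBasis.basis_eq_pow, AdjoinRoot.powerBasis'_gen]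
  rfl

variable {n}

/-- the trace form: the coefficient of `z^(n-1)` -/
def tr (hn : 1 ≤ n) : Rn R n →ₗ[R] R := (bz R n).coord ⟨n - 1, by omega⟩

variable {R}

theorem z_pow_eq_zero {j : ℕ} (hj : n ≤ j) : z R n ^ j = 0 := by
  obtain ⟨c, rfl⟩ := Nat.exists_eq_add_of_le hj
  rw [pow_add, z_pow_n, zero_mul]

theorem tr_z_pow (hn : 1 ≤ n) (j : ℕ) : tr R hn (z R n ^ j) = if j = n - 1 then 1 else 0 := by
  classical
  by_cases hj : j < n
  · have : z R n ^ j = bz R n ⟨j, hj⟩ := (bz_apply R n ⟨j, hj⟩).symm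
    rw [this, tr, Basis.coord_apply, Basis.repr_self, Finsupp.single_apply]
    simp only [Fin.mk.injEq]
  · rw [z_pow_eq_zero (by omega), map_zero, if_neg (by omega)]

theorem expand (hn : 1 ≤ n) (a : Rn R n) :
    a = ∑ j ∈ Finset.range n, tr R hn (z R n ^ (n - 1 - j) * a) • z R n ^ j := by
  classical
  let Φ : Rn R n →ₗ[R] Rn R n :=
    ∑ j ∈ Finset.range n,
      ((tr R hn).comp (LinearMap.mulLeft R (z R n ^ (n - 1 - j)))).smulRight (z R n ^ j)
  have hΦ : ∀ a, Φ a = ∑ j ∈ Finset.range n, tr R hn (z R n ^ (n - 1 - j) * a) • z R n ^ j := by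
    intro a
    simp [Φ, LinearMap.sum_apply]
  have : (LinearMap.id : Rn R n →ₗ[R] Rn R n) = Φ := by
    refine (bz R n).ext fun l => ?_
    rw [LinearMap.id_apply, hΦ, bz_apply]
    rw [Finset.sum_eq_single (l : ℕ)]
    · rw [← pow_add, tr_z_pow, if_pos (by have := l.2; omega), one_smul]
    · intro j hj hjl
      have hj' := Finset.mem_range.mp hj
      rw [← pow_add, tr_z_pow, if_neg (by have := l.2; omega), zero_smul]
    · intro hl
      exact absurd (Finset.mem_range.mpr l.2) hl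
  rw [← hΦ, ← this, LinearMap.id_apply]

end Basis

section Lin

variable {R : Type*} [CommRing R] {n : ℕ}
variable {M N : Type*} [AddCommGroup M] [Module (Rn R n) M] [Module R M]
  [IsScalarTower R (Rn R n) M]
  [AddCommGroup N] [Module (Rn R n) N] [Module R N] [IsScalarTower R (Rn R n) N]

/-- an `R`-linear map commuting with `z` is `Rn`-linear -/
def ofZ (f : M →ₗ[R] N) (hf : ∀ u, f (z R n • u) = z R n • f u) : M →ₗ[Rn R n] N where
  toFun := f
  map_add' := f.map_add
  map_smul' a u := by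
    obtain ⟨f0, rfl⟩ := Ideal.Quotient.mk_surjective a
    simp only [RingHom.id_apply]
    induction f0 using Polynomial.induction_on generalizing u with
    | C r =>
      have h1 : Ideal.Quotient.mk (Ideal.span {(X : R[X]) ^ n}) (C r) =
          algebraMap R (Rn R n) r := rfl
      rw [h1, algebraMap_smul, algebraMap_smul, map_smul]
    | add p q hp hq => rw [map_add, add_smul, map_add, hp, hq, add_smul]
    | monomial k r h =>
      rw [pow_succ, ← mul_assoc, map_mul, mul_smul, h, mul_smul]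
      congr 1
      exact hf u

@[simp] theorem ofZ_apply (f : M →ₗ[R] N) (hf : ∀ u, f (z R n • u) = z R n • f u) (u : M) :
    ofZ f hf u = f u := rfl

end Lin

section Dual

variable {R : Type*} [CommRing R] [Nontrivial R] {n : ℕ}
variable {M : Type*} [AddCommGroup M] [Module (Rn R n) M] [Module R M]
  [IsScalarTower R (Rn R n) M]

/-- multiplication by `z^k` as an `R`-linear map -/
def zmul (k : ℕ) : M →ₗ[R] M where
  toFun u := z R n ^ k • u
  map_add' := smul_add _
  map_smul' r u := (smul_comm' r (z R n ^ k) u).symm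

@[simp] theorem zmul_apply (k : ℕ) (u : M) : zmul (R := R) (n := n) k u = z R n ^ k • u := rfl

/-- the `R`-linear map underlying the `Rn`-linear form attached to an `R`-linear form -/
def lamR (μ₀ : M →ₗ[R] R) : M →ₗ[R] Rn R n :=
  ∑ j ∈ Finset.range n, (μ₀.comp (zmul (R := R) (n := n) (n - 1 - j))).smulRight (z R n ^ j)

theorem lamR_apply (μ₀ : M →ₗ[R] R) (u : M) :
    lamR (n := n) μ₀ u = ∑ j ∈ Finset.range n, μ₀ (z R n ^ (n - 1 - j) • u) • z R n ^ j := by
  simp [lamR, LinearMap.sum_apply]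

theorem lamR_z (μ₀ : M →ₗ[R] R) (u : M) :
    lamR (n := n) μ₀ (z R n • u) = z R n • lamR (n := n) μ₀ u := by
  rcases Nat.eq_zero_or_pos n with h0 | h0
  · subst h0
    simp [lamR_apply]
  obtain ⟨n', rfl⟩ := Nat.exists_eq_succ_of_ne_zero h0.ne'
  rw [lamR_apply, lamR_apply, Finset.sum_range_succ', Finset.smul_sum, Finset.sum_range_succ]
  have e0 : μ₀ (z R (n' + 1) ^ (n' + 1 - 1 - 0) • z R (n' + 1) • u) • z R (n' + 1) ^ 0 = 0 := by
    rw [smul_smul, ← pow_succ, Nat.sub_zero, Nat.add_sub_cancel, z_pow_n,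
      zero_smul (Rn R (n' + 1)) u, map_zero, zero_smul]
  have e1 : z R (n' + 1) • μ₀ (z R (n' + 1) ^ (n' + 1 - 1 - n') • u) • z R (n' + 1) ^ n' = 0 := by
    rw [smul_comm, smul_eq_mul, ← pow_succ', z_pow_n, smul_zero]
  rw [e0, e1, add_zero, add_zero]
  refine Finset.sum_congr rfl fun j hj => ?_
  have hj' := Finset.mem_range.mp hj
  rw [smul_smul, ← pow_succ, smul_comm, smul_eq_mul, ← pow_succ']
  have e : n' + 1 - 1 - (j + 1) + 1 = n' + 1 - 1 - j := by omega
  rw [e]

/-- the `Rn`-linear form attached to an `R`-linear form -/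
def lam (μ₀ : M →ₗ[R] R) : M →ₗ[Rn R n] Rn R n := ofZ (lamR μ₀) (lamR_z μ₀)

theorem lam_apply (μ₀ : M →ₗ[R] R) (u : M) :
    lam (n := n) μ₀ u = ∑ j ∈ Finset.range n, μ₀ (z R n ^ (n - 1 - j) • u) • z R n ^ j :=
  lamR_apply μ₀ u

theorem tr_lam (hn : 1 ≤ n) (μ₀ : M →ₗ[R] R) (u : M) : tr R hn (lam (n := n) μ₀ u) = μ₀ u := by
  classical
  rw [lam_apply, map_sum, Finset.sum_eq_single (n - 1)]
  · rw [map_smul, tr_z_pow, if_pos rfl, Nat.sub_self, pow_zero, one_smul, smul_eq_mul, mul_one]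
  · intro j _ hj
    rw [map_smul, tr_z_pow, if_neg hj, smul_zero]
  · intro h
    exact absurd (Finset.mem_range.mpr (by omega)) h

theorem lam_tr (hn : 1 ≤ n) (l : M →ₗ[Rn R n] Rn R n) :
    lam (n := n) ((tr R hn).comp (l.restrictScalars R)) = l := by
  apply LinearMap.ext
  intro u
  rw [lam_apply]
  conv_rhs => rw [expand hn (l u)]
  refine Finset.sum_congr rfl fun j _ => ?_
  rw [LinearMap.comp_apply, LinearMap.restrictScalars_apply, map_smul, smul_eq_mul]

theorem lam_add (μ₀ μ₁ : M →ₗ[R] R) : lam (n := n) (μ₀ + μ₁) = lam μ₀ + lam μ₁ := by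
  apply LinearMap.ext
  intro u
  rw [LinearMap.add_apply, lam_apply, lam_apply, lam_apply, ← Finset.sum_add_distrib]
  refine Finset.sum_congr rfl fun j _ => ?_
  rw [LinearMap.add_apply, add_smul]

theorem lam_smul (r : R) (μ₀ : M →ₗ[R] R) : lam (n := n) (r • μ₀) = r • lam μ₀ := by
  apply LinearMap.ext
  intro u
  rw [LinearMap.smul_apply, lam_apply, lam_apply, Finset.smul_sum]
  refine Finset.sum_congr rfl fun j _ => ?_
  rw [LinearMap.smul_apply, smul_eq_mul, mul_smul]

end Dual

end Groth.Agent.Helper8.MC
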