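import Mathlib
import Groth.Prelude.Def_W4c5qllcourbesmultMultCrv
import Groth.Agent.Helper8.MultCrvDual
import Groth.Agent.Helper8.ExtAux
import Groth.Agent.S17941

set_option autoImplicit false

noncomputable section

universe u

namespace Groth.Agent.Helper8.MC

open MultCrv CategoryTheory Abelian Groth.Agent.Helper8.ExtAux

variable (R : Type u) [CommRing R] [IsDomain R] [IsDiscreteValuationRing R] (n : ℕ)

theorem isTorsionFree_pi (r : ℕ) : Module.IsTorsionFree R (Fin r → Rn R n) := by
  have := free_Rn R n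
  infer_instance

theorem ext_self_subsingleton (hn : 1 ≤ n) : ∀ (i : ℕ), 1 ≤ i →
    ∀ (M : Type u) [AddCommGroup M] [Module (Rn R n) M] [Module R M]
      [IsScalarTower R (Rn R n) M] [Module.Finite (Rn R n) M] [Module.IsTorsionFree R M],
      Subsingleton (Ext.{u} (ModuleCat.of (Rn R n) M) (ModuleCat.of (Rn R n) (Rn R n)) i) := by
  intro i hi
  induction i, hi using Nat.le_induction with
  | base =>
    intro M _ _ _ _ _ _
    obtain ⟨r, g, hg⟩ := Module.Finite.exists_fin' (Rn R n) M
    have := isTorsionFree_pi R n r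
    apply ext_one_of_extend g hg
    intro φ
    obtain ⟨ψ, hψ⟩ := Groth.Agent.S17941.result R n hn (LinearMap.ker g) (Fin r → Rn R n) M
      (LinearMap.ker g).subtype g (Submodule.injective_subtype _) hg
      (by rw [Submodule.range_subtype]) φ
    exact ⟨ψ, hψ⟩
  | succ j hj ih =>
    intro M _ _ _ _ _ _
    obtain ⟨r, g, hg⟩ := Module.Finite.exists_fin' (Rn R n) M
    have := isTorsionFree_pi R n r
    obtain ⟨j', rfl⟩ := Nat.exists_eq_add_of_le hj
    have h1 := isTorsionFree_submodule (R := R) (LinearMap.ker g)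
    have h2 : Module.Finite (Rn R n) (LinearMap.ker g) := inferInstance
    have := ih (LinearMap.ker g)
    rw [show 1 + j' + 1 = j' + 2 by omega]
    rw [show 1 + j' = j' + 1 by omega] at this
    exact ext_succ_of_ker g hg j' this

theorem ext_self_subsingleton_of_two_le (hn : 1 ≤ n) (M : Type u) [AddCommGroup M]
    [Module (Rn R n) M] [Module.Finite (Rn R n) M] (i : ℕ) (hi : 2 ≤ i) :
    Subsingleton (Ext.{u} (ModuleCat.of (Rn R n) M) (ModuleCat.of (Rn R n) (Rn R n)) i) := by
  obtain ⟨r, g, hg⟩ := Module.Finite.exists_fin' (Rn R n) M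
  obtain ⟨j, rfl⟩ := Nat.exists_eq_add_of_le hi
  have := isTorsionFree_pi R n r
  have h1 := isTorsionFree_submodule (R := R) (LinearMap.ker g)
  have h2 : Module.Finite (Rn R n) (LinearMap.ker g) := inferInstance
  have := ext_self_subsingleton R n hn (j + 1) (by omega) (LinearMap.ker g)
  rw [show 2 + j = j + 2 by omega]
  exact ext_succ_of_ker g hg j this

theorem isTorsionFree_of_ext_one (hn : 1 ≤ n) (M : Type u) [AddCommGroup M]
    [Module (Rn R n) M] [Module R M] [IsScalarTower R (Rn R n) M] [Module.Finite (Rn R n) M]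
    (h : Subsingleton (Ext.{u} (ModuleCat.of (Rn R n) M) (ModuleCat.of (Rn R n) (Rn R n)) 1)) :
    Module.IsTorsionFree R M := by
  classical
  obtain ⟨r, g, hg⟩ := Module.Finite.exists_fin' (Rn R n) M
  have hTF := isTorsionFree_pi R n r
  set K := LinearMap.ker g with hK
  have h1 := isTorsionFree_submodule (R := R) K
  have h2 : Module.Finite R K := finite_submodule (R := R) K
  have h3 : Module.Free R K := Module.free_of_finite_type_torsion_free'
  let b := Module.Free.chooseBasis R K
  have hfin : Fintype (Module.Free.ChooseBasisIndex R K) := inferInstance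
  -- extend the coordinate forms
  have hext : ∀ i, ∃ ψ : (Fin r → Rn R n) →ₗ[Rn R n] Rn R n,
      ψ ∘ₗ K.subtype = lam (n := n) (b.coord i) :=
    fun i => extend_of_ext_one g hg h _
  choose ψ hψ using hext
  let ρ : (Fin r → Rn R n) →ₗ[R] K :=
    ∑ i, ((tr R hn).comp ((ψ i).restrictScalars R)).smulRight (b i)
  have hρ : ∀ k : K, ρ (k : Fin r → Rn R n) = k := by
    intro k
    simp only [ρ, LinearMap.sum_apply, LinearMap.smulRight_apply, LinearMap.comp_apply,
      LinearMap.restrictScalars_apply]
    conv_rhs => rw [← b.sum_repr k]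
    refine Finset.sum_congr rfl fun i _ => ?_
    congr 1
    have := LinearMap.congr_fun (hψ i) k
    rw [LinearMap.comp_apply, Submodule.subtype_apply] at this
    rw [this, tr_lam, Module.Basis.coord_apply]
  rw [Module.isTorsionFree_iff_smul_eq_zero]
  intro r₀ u hru
  by_contra hcon
  push Not at hcon
  obtain ⟨x, rfl⟩ := hg u
  have hx : r₀ • x ∈ K := by
    rw [hK, LinearMap.mem_ker, LinearMap.map_smul_of_tower, hru]
  have e1 := hρ ⟨r₀ • x, hx⟩
  have e2 : ((ρ (r₀ • x) : K) : Fin r → Rn R n) = r₀ • x := congrArg Subtype.val e1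
  rw [map_smul] at e2
  have e3 : r₀ • (((ρ x : K) : Fin r → Rn R n) - x) = 0 := by
    rw [smul_sub, ← e2]; simp
  have e4 : ((ρ x : K) : Fin r → Rn R n) - x = 0 :=
    (smul_eq_zero.mp e3).resolve_left hcon.1
  apply hcon.2
  have e5 : x = ((ρ x : K) : Fin r → Rn R n) := (sub_eq_zero.mp e4).symm
  rw [e5]
  exact LinearMap.mem_ker.mp (ρ x).2

end Groth.Agent.Helper8.MC
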