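import Mathlib
import Groth.Prelude.Def_W4c5qllcourbesmultMultCrv
import Groth.Agent.Helper8.MultCrvBasic

set_option autoImplicit false

noncomputable section

universe u

namespace Groth.Agent.Helper8.MC

open MultCrv

theorem free_of_exact {R : Type*} [CommRing R] {A B C : Type*} [AddCommGroup A] [Module R A]
    [AddCommGroup B] [Module R B] [AddCommGroup C] [Module R C]
    (f : A →ₗ[R] B) (g : B →ₗ[R] C) (hf : Function.Injective f) (hg : Function.Surjective g)
    (hex : LinearMap.range f = LinearMap.ker g) [Module.Free R A] [Module.Free R C] :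
    Module.Free R B := by
  obtain ⟨s, hs⟩ := Module.projective_lifting_property g LinearMap.id hg
  have hs' : ∀ c, g (s c) = c := fun c => LinearMap.congr_fun hs c
  have hgf : ∀ a, g (f a) = 0 := fun a => by
    have : f a ∈ LinearMap.ker g := hex ▸ LinearMap.mem_range_self f a
    exact this
  let e : (A × C) →ₗ[R] B := f.coprod s
  have hinj : Function.Injective e := by
    rw [← LinearMap.ker_eq_bot, LinearMap.ker_eq_bot']
    rintro ⟨a, c⟩ h
    have h' : f a + s c = 0 := by simpa [e] using h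
    have hc : c = 0 := by
      have := congrArg g h'
      rwa [map_add, hgf, hs', zero_add, map_zero] at this
    subst hc
    rw [map_zero, add_zero] at h'
    have ha : a = 0 := hf (by rw [h', map_zero])
    rw [ha]; rfl
  have hsurj : Function.Surjective e := by
    intro b
    have : b - s (g b) ∈ LinearMap.range f := by
      rw [hex, LinearMap.mem_ker, map_sub, hs', sub_self]
    obtain ⟨a, ha⟩ := this
    exact ⟨(a, g b), by simp [e, ha]⟩
  exact Module.Free.of_equiv (LinearEquiv.ofBijective e ⟨hinj, hsurj⟩)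

section maps

variable (R : Type u) [CommRing R] (n : ℕ) (M : Type u) [AddCommGroup M] [Module (Rn R n) M]

/-- multiplication by `z` from `z^i M` to `z^(i+1) M` -/
def zUp (i : ℕ) : ↥(filt R n M i) →ₗ[Rn R n] ↥(filt R n M (i + 1)) :=
  ((z R n • (LinearMap.id : M →ₗ[Rn R n] M)).domRestrict (filt R n M i)).codRestrict
    (filt R n M (i + 1)) (fun x => by
      obtain ⟨x, hx⟩ := x
      obtain ⟨v, rfl⟩ := mem_filt.1 hx
      refine mem_filt.2 ⟨v, ?_⟩
      show z R n ^ (i + 1) • v = z R n • (z R n ^ i • v)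
      rw [pow_succ', mul_smul])

/-- the induced map `G_i → G_(i+1)` -/
def zeta (i : ℕ) : G1 R n M i →ₗ[Rn R n] G1 R n M (i + 1) :=
  Submodule.mapQ _ _ (zUp R n M i) (by
    intro x hx
    rw [Submodule.mem_comap] at hx ⊢
    obtain ⟨v, hv⟩ := mem_filt.1 hx
    refine mem_filt.2 ⟨v, ?_⟩
    have hv' : z R n ^ (i + 1) • v = (x : M) := hv
    show z R n ^ (i + 1 + 1) • v = z R n • (x : M)
    rw [← hv', pow_succ', mul_smul])

theorem zeta_surjective (i : ℕ) : Function.Surjective (zeta R n M i) := by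
  intro y
  obtain ⟨⟨y, hy⟩, rfl⟩ := Submodule.Quotient.mk_surjective _ y
  obtain ⟨v, hv⟩ := mem_filt.1 hy
  refine ⟨Submodule.Quotient.mk ⟨z R n ^ i • v, mem_filt.2 ⟨v, rfl⟩⟩, ?_⟩
  show Submodule.Quotient.mk (zUp R n M i ⟨z R n ^ i • v, _⟩) = _
  congr 1
  apply Subtype.ext
  show z R n • (z R n ^ i • v) = y
  rw [← hv, pow_succ', mul_smul]

/-- `u ↦ [z^i u]` from `M^(i+1)` to `G_i` -/
def kap (i : ℕ) : ↥(filt2 R n M (i + 1)) →ₗ[Rn R n] G1 R n M i :=
  (Submodule.mkQ _).comp
    (((z R n ^ i • (LinearMap.id : M →ₗ[Rn R n] M)).domRestrict (filt2 R n M (i + 1))).codRestrict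
      (filt R n M i) (fun u => mem_filt.2 ⟨u, rfl⟩))

theorem kap_apply (i : ℕ) (u : ↥(filt2 R n M (i + 1))) :
    kap R n M i u = Submodule.Quotient.mk ⟨z R n ^ i • (u : M), mem_filt.2 ⟨u, rfl⟩⟩ := rfl

/-- the induced map `G^(i+1) → G_i` -/
def kap' (i : ℕ) : G2 R n M (i + 1) →ₗ[Rn R n] G1 R n M i :=
  Submodule.liftQ _ (kap R n M i) (by
    intro u hu
    rw [Submodule.mem_comap] at hu
    have hu' : z R n ^ i • (u : M) = 0 := by
      have := mem_filt2.1 hu
      simpa using this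
    rw [LinearMap.mem_ker, kap_apply]
    rw [Submodule.Quotient.mk_eq_zero, Submodule.mem_comap]
    show z R n ^ i • (u : M) ∈ _
    rw [hu']
    exact Submodule.zero_mem _)

/-- the induced map `Γ^(i) → G_i` -/
def iot (i : ℕ) : Gam2 R n M i →ₗ[Rn R n] G1 R n M i :=
  Submodule.liftQ _ (kap' R n M i) (by
    rintro _ ⟨w, rfl⟩
    obtain ⟨⟨w, hw⟩, rfl⟩ := Submodule.Quotient.mk_surjective _ w
    rw [LinearMap.mem_ker]
    show kap R n M i (zDown R n M (i + 1) ⟨w, hw⟩) = 0
    rw [kap_apply, Submodule.Quotient.mk_eq_zero, Submodule.mem_comap]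
    refine mem_filt.2 ⟨w, ?_⟩
    show z R n ^ (i + 1) • w = z R n ^ i • (z R n • w)
    rw [pow_succ, mul_smul])

end maps

section exact

variable (R : Type u) [CommRing R] (n : ℕ) (M : Type u) [AddCommGroup M] [Module (Rn R n) M]

theorem iot_mk (i : ℕ) (u : ↥(filt2 R n M (i + 1))) :
    iot R n M i (Submodule.Quotient.mk (Submodule.Quotient.mk u)) =
      Submodule.Quotient.mk ⟨z R n ^ i • (u : M), mem_filt.2 ⟨u, rfl⟩⟩ := rfl

theorem zeta_mk (i : ℕ) (x : ↥(filt R n M i)) :
    zeta R n M i (Submodule.Quotient.mk x) = Submodule.Quotient.mk (zUp R n M i x) := rfl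

theorem iot_injective (i : ℕ) : Function.Injective (iot R n M i) := by
  rw [← LinearMap.ker_eq_bot, LinearMap.ker_eq_bot']
  intro x hx
  obtain ⟨x, rfl⟩ := Submodule.Quotient.mk_surjective _ x
  obtain ⟨⟨u, hu⟩, rfl⟩ := Submodule.Quotient.mk_surjective _ x
  rw [iot_mk, Submodule.Quotient.mk_eq_zero, Submodule.mem_comap] at hx
  obtain ⟨w, hw⟩ := mem_filt.1 hx
  have hw' : z R n ^ (i + 1) • w = z R n ^ i • u := hw
  have hu' : z R n ^ (i + 1) • u = 0 := mem_filt2.1 hu
  have hw2 : w ∈ filt2 R n M (i + 2) := by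
    apply mem_filt2.2
    rw [pow_succ', mul_smul, hw', ← mul_smul, ← pow_succ', hu']
  rw [Submodule.Quotient.mk_eq_zero]
  refine ⟨Submodule.Quotient.mk ⟨w, hw2⟩, ?_⟩
  show Submodule.Quotient.mk (zDown R n M (i + 1) ⟨w, hw2⟩) = Submodule.Quotient.mk ⟨u, hu⟩
  rw [Submodule.Quotient.eq, Submodule.mem_comap]
  apply mem_filt2.2
  show z R n ^ (i + 1 - 1) • (z R n • w - u) = 0
  rw [Nat.add_sub_cancel, smul_sub, ← mul_smul, ← pow_succ, hw', sub_self]

theorem range_iot_eq_ker_zeta (i : ℕ) :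
    LinearMap.range (iot R n M i) = LinearMap.ker (zeta R n M i) := by
  apply le_antisymm
  · rintro _ ⟨x, rfl⟩
    obtain ⟨x, rfl⟩ := Submodule.Quotient.mk_surjective _ x
    obtain ⟨⟨u, hu⟩, rfl⟩ := Submodule.Quotient.mk_surjective _ x
    have hu' : z R n ^ (i + 1) • u = 0 := mem_filt2.1 hu
    rw [LinearMap.mem_ker, iot_mk, zeta_mk, Submodule.Quotient.mk_eq_zero, Submodule.mem_comap]
    show z R n • (z R n ^ i • u) ∈ _
    rw [← mul_smul, ← pow_succ', hu']
    exact Submodule.zero_mem _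
  · intro y hy
    obtain ⟨⟨x, hx⟩, rfl⟩ := Submodule.Quotient.mk_surjective _ y
    obtain ⟨m, rfl⟩ := mem_filt.1 hx
    rw [LinearMap.mem_ker, zeta_mk, Submodule.Quotient.mk_eq_zero, Submodule.mem_comap] at hy
    obtain ⟨w, hw⟩ := mem_filt.1 hy
    have hw' : z R n ^ (i + 1 + 1) • w = z R n • (z R n ^ i • m) := hw
    have hu : m - z R n • w ∈ filt2 R n M (i + 1) := by
      apply mem_filt2.2
      rw [smul_sub, ← mul_smul, ← pow_succ, hw', ← mul_smul, ← pow_succ', sub_self]
    refine ⟨Submodule.Quotient.mk (Submodule.Quotient.mk ⟨m - z R n • w, hu⟩), ?_⟩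
    rw [iot_mk, Submodule.Quotient.eq, Submodule.mem_comap]
    apply mem_filt.2
    refine ⟨-w, ?_⟩
    show z R n ^ (i + 1) • -w = z R n ^ i • (m - z R n • w) - z R n ^ i • m
    rw [smul_sub, ← mul_smul, ← pow_succ, smul_neg]
    abel

end exact

end Groth.Agent.Helper8.MC
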