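import Mathlib
import Groth.Prelude.Def_W4c5qllcourbesmultMultCrv

set_option autoImplicit false
universe u

namespace Groth.Agent.Helper8.MultCrvKer

open Polynomial MultCrv

section ring
variable (R : Type u) [CommRing R] (n : ℕ)

theorem z_pow_n : z R n ^ n = 0 := by
  rw [← map_pow]
  exact Ideal.Quotient.eq_zero_iff_mem.mpr (Ideal.mem_span_singleton_self _)

theorem z_pow_mul_eq_zero_iff [IsDomain R] {a : ℕ} (ha : a ≤ n) (x : Rn R n) :
    z R n ^ a * x = 0 ↔ x ∈ Ideal.span {z R n ^ (n - a)} := by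
  constructor
  · intro h
    obtain ⟨f, rfl⟩ := Ideal.Quotient.mk_surjective x
    rw [← map_pow, ← map_mul, Ideal.Quotient.eq_zero_iff_mem, Ideal.mem_span_singleton] at h
    have h1 : (X : R[X]) ^ n = X ^ a * X ^ (n - a) := by
      rw [← pow_add]; congr 1; omega
    rw [h1, mul_dvd_mul_iff_left (pow_ne_zero a X_ne_zero)] at h
    obtain ⟨g, rfl⟩ := h
    rw [map_mul, map_pow]
    exact Ideal.mul_mem_right _ _ (Ideal.mem_span_singleton_self _)
  · intro h
    rw [Ideal.mem_span_singleton] at h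
    obtain ⟨y, rfl⟩ := h
    rw [← mul_assoc, ← pow_add, show a + (n - a) = n by omega, z_pow_n, zero_mul]

theorem nak {M : Type*} [AddCommGroup M] [Module (Rn R n) M] (N : Submodule (Rn R n) M)
    (h : ∀ x : M, ∃ y ∈ N, ∃ w : M, x = y + z R n • w) : N = ⊤ := by
  have key : ∀ k : ℕ, ∀ x : M, ∃ y ∈ N, ∃ w : M, x = y + z R n ^ k • w := by
    intro k
    induction k with
    | zero => intro x; exact ⟨0, N.zero_mem, x, by simp⟩
    | succ k ih =>
      intro x
      obtain ⟨y, hy, w, rfl⟩ := ih x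
      obtain ⟨y', hy', w', rfl⟩ := h w
      refine ⟨y + z R n ^ k • y', N.add_mem hy (N.smul_mem _ hy'), w', ?_⟩
      rw [smul_add, smul_smul, ← pow_succ, add_assoc]
  rw [eq_top_iff]
  intro x _
  obtain ⟨y, hy, w, rfl⟩ := key n x
  rw [z_pow_n]
  have : (0 : Rn R n) • w = 0 := zero_smul (Rn R n) w
  rw [this, add_zero]
  exact hy

end ring

section cover
variable (R : Type u) [CommRing R] (n : ℕ) (m : Fin n → ℕ)

/-- the standard cover of the model -/
noncomputable def cover : ((Σ i : Fin n, Fin (m i)) → Rn R n) →ₗ[Rn R n] QFModel R n m :=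
  (QFModel.equivPi R n m).symm.toLinearMap ∘ₗ
    LinearMap.pi fun i => LinearMap.pi fun k =>
      (Submodule.mkQ (Ideal.span {z R n ^ (i.1 + 1)})) ∘ₗ LinearMap.proj (⟨i, k⟩ : Σ i : Fin n, Fin (m i))

theorem cover_apply (g : (Σ i : Fin n, Fin (m i)) → Rn R n) (i : Fin n) (k : Fin (m i)) :
    cover R n m g i k = Ideal.Quotient.mk (Ideal.span {z R n ^ (i.1 + 1)}) (g ⟨i, k⟩) := rfl

theorem cover_surjective : Function.Surjective (cover R n m) := by
  intro q
  have : ∀ j : (Σ i : Fin n, Fin (m i)), ∃ a : Rn R n,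
      Ideal.Quotient.mk (Ideal.span {z R n ^ (j.1.1 + 1)}) a = q j.1 j.2 :=
    fun j => Ideal.Quotient.mk_surjective _
  choose g hg using this
  refine ⟨g, ?_⟩
  funext i k
  rw [cover_apply]
  exact hg ⟨i, k⟩

theorem mem_ker_cover (g : (Σ i : Fin n, Fin (m i)) → Rn R n) :
    g ∈ LinearMap.ker (cover R n m) ↔ ∀ j, g j ∈ Ideal.span {z R n ^ (j.1.1 + 1)} := by
  rw [LinearMap.mem_ker]
  constructor
  · intro h j
    have := congrFun (congrFun h j.1) j.2
    rw [cover_apply] at this
    exact Ideal.Quotient.eq_zero_iff_mem.mp this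
  · intro h
    funext i k
    rw [cover_apply]
    exact Ideal.Quotient.eq_zero_iff_mem.mpr (h ⟨i, k⟩)

end cover

section compare
variable (R : Type u) [CommRing R] (n : ℕ) (m : Fin n → ℕ)

theorem exists_equiv (r : ℕ) (φ : (Fin r → Rn R n) →ₗ[Rn R n] QFModel R n m)
    (hφ : Function.Surjective φ)
    (hφz : ∀ f : Fin r → Rn R n, φ f = 0 → ∃ f' : Fin r → Rn R n, f = z R n • f') :
    ∃ α : (Fin r → Rn R n) ≃ₗ[Rn R n] ((Σ i : Fin n, Fin (m i)) → Rn R n),
      ∀ f, cover R n m (α f) = φ f := by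
  obtain ⟨α, hα⟩ := Module.projective_lifting_property (cover R n m) φ (cover_surjective R n m)
  obtain ⟨β, hβ⟩ := Module.projective_lifting_property φ (cover R n m) hφ
  have hα' : ∀ f, cover R n m (α f) = φ f := fun f => LinearMap.congr_fun hα f
  have hβ' : ∀ g, φ (β g) = cover R n m g := fun g => LinearMap.congr_fun hβ g
  have hsurj : Function.Surjective α := by
    rw [← LinearMap.range_eq_top]
    apply nak R n
    intro g
    obtain ⟨f, hf⟩ := hφ (cover R n m g)
    have hk : g - α f ∈ LinearMap.ker (cover R n m) := by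
      rw [LinearMap.mem_ker, map_sub, hα', hf, sub_self]
    rw [mem_ker_cover] at hk
    have : ∀ j, ∃ c : Rn R n, (g - α f) j = z R n * c := by
      intro j
      obtain ⟨c, hc⟩ := Ideal.mem_span_singleton.mp (hk j)
      exact ⟨z R n ^ j.1.1 * c, by rw [hc, pow_succ']; ring⟩
    choose w hw using this
    refine ⟨α f, ⟨f, rfl⟩, w, ?_⟩
    funext j
    have := hw j
    simp only [Pi.sub_apply] at this
    simp only [Pi.add_apply, Pi.smul_apply, smul_eq_mul]
    rw [← this]
    ring
  have hsurj2 : Function.Surjective (β ∘ₗ α) := by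
    rw [← LinearMap.range_eq_top]
    apply nak R n
    intro f
    have hk : φ (f - (β ∘ₗ α) f) = 0 := by
      rw [map_sub, LinearMap.comp_apply, hβ', hα', sub_self]
    obtain ⟨w, hw⟩ := hφz _ hk
    refine ⟨(β ∘ₗ α) f, ⟨f, rfl⟩, w, ?_⟩
    rw [← hw]
    abel
  have hinj2 : Function.Injective (β ∘ₗ α) :=
    OrzechProperty.injective_of_surjective_endomorphism _ hsurj2
  have hinj : Function.Injective α := by
    have : Function.Injective (β ∘ α) := hinj2
    exact Function.Injective.of_comp this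
  exact ⟨LinearEquiv.ofBijective α ⟨hinj, hsurj⟩, hα'⟩

theorem ker_equiv (r : ℕ) (φ : (Fin r → Rn R n) →ₗ[Rn R n] QFModel R n m)
    (hφ : Function.Surjective φ)
    (hφz : ∀ f : Fin r → Rn R n, φ f = 0 → ∃ f' : Fin r → Rn R n, f = z R n • f') :
    Nonempty (↥(LinearMap.ker φ) ≃ₗ[Rn R n] ↥(LinearMap.ker (cover R n m))) := by
  obtain ⟨α, hα⟩ := exists_equiv R n m r φ hφ hφz
  have h : (LinearMap.ker φ).map (α : (Fin r → Rn R n) →ₗ[Rn R n] _) =
      LinearMap.ker (cover R n m) := by
    ext x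
    rw [Submodule.mem_map, LinearMap.mem_ker]
    constructor
    · rintro ⟨f, hf, rfl⟩
      rw [LinearMap.mem_ker] at hf
      show cover R n m (α f) = 0
      rw [hα, hf]
    · intro hx
      refine ⟨α.symm x, ?_, ?_⟩
      · rw [LinearMap.mem_ker, ← hα, LinearEquiv.apply_symm_apply, hx]
      · exact α.apply_symm_apply x
  exact ⟨(α.submoduleMap (LinearMap.ker φ)).trans (LinearEquiv.ofEq _ _ h)⟩

end compare

section index
variable (n : ℕ) (m : Fin n → ℕ)

theorem sig_ext {f : Fin n → ℕ} (a b : Σ i : Fin n, Fin (f i)) (h1 : a.1.1 = b.1.1)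
    (h2 : a.2.1 = b.2.1) : a = b := by
  obtain ⟨i, k⟩ := a
  obtain ⟨i', k'⟩ := b
  have : i = i' := Fin.ext h1
  subst this
  have : k = k' := Fin.ext h2
  subst this
  rfl

theorem revType_lt (i' : Fin n) (k : Fin (revType n m i')) : i'.1 + 1 < n := by
  by_contra h
  have h0 : revType n m i' = 0 := by
    unfold revType
    rw [dif_neg h]
  rw [h0] at k
  exact k.elim0

theorem revType_eq (i' : Fin n) (h : i'.1 + 1 < n) :
    revType n m i' = m ⟨n - 2 - i'.1, by omega⟩ := by
  unfold revType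
  rw [dif_pos h]

/-- the index map -/
def iota (j' : Σ i' : Fin n, Fin (revType n m i')) : Σ i : Fin n, Fin (m i) :=
  ⟨⟨n - 2 - j'.1.1, by have := j'.1.2; omega⟩,
    Fin.cast (revType_eq n m j'.1 (revType_lt n m j'.1 j'.2)) j'.2⟩

theorem iota_fst (j' : Σ i' : Fin n, Fin (revType n m i')) :
    (iota n m j').1.1 = n - 2 - j'.1.1 := rfl

theorem iota_snd (j' : Σ i' : Fin n, Fin (revType n m i')) :
    (iota n m j').2.1 = j'.2.1 := rfl

theorem iota_injective : Function.Injective (iota n m) := by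
  intro a b h
  have h1 := congrArg (fun j : (Σ i : Fin n, Fin (m i)) => j.1.1) h
  have h2 := congrArg (fun j : (Σ i : Fin n, Fin (m i)) => j.2.1) h
  simp only [iota_fst, iota_snd] at h1 h2
  have ha := revType_lt n m a.1 a.2
  have hb := revType_lt n m b.1 b.2
  apply sig_ext
  · omega
  · exact h2

theorem range_iota (j : Σ i : Fin n, Fin (m i)) (hj : j.1.1 + 1 < n) :
    ∃ j', iota n m j' = j := by
  have hlt : n - 2 - j.1.1 < n := by omega
  have h1 : (⟨n - 2 - j.1.1, hlt⟩ : Fin n).1 + 1 < n := by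
    show n - 2 - j.1.1 + 1 < n
    omega
  have h2 : m j.1 = revType n m ⟨n - 2 - j.1.1, hlt⟩ := by
    rw [revType_eq n m _ h1]
    congr 1
    apply Fin.ext
    show j.1.1 = n - 2 - (n - 2 - j.1.1)
    omega
  refine ⟨⟨⟨n - 2 - j.1.1, hlt⟩, Fin.cast h2 j.2⟩, ?_⟩
  apply sig_ext
  · rw [iota_fst]
    show n - 2 - (n - 2 - j.1.1) = j.1.1
    omega
  · rfl

theorem fst_of_not_range (j : Σ i : Fin n, Fin (m i)) (hj : ¬ ∃ j', iota n m j' = j) :
    j.1.1 + 1 = n := by
  by_contra h
  apply hj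
  apply range_iota
  have := j.1.2
  omega

end index

section mu
variable (R : Type u) [CommRing R] (n : ℕ) (m : Fin n → ℕ)

open Classical in
/-- multiplication by the appropriate powers of `z`, reindexed -/
noncomputable def mu : ((Σ i' : Fin n, Fin (revType n m i')) → Rn R n) →ₗ[Rn R n]
    ((Σ i : Fin n, Fin (m i)) → Rn R n) :=
  LinearMap.pi fun j =>
    if h : ∃ j', iota n m j' = j then
      (z R n ^ (j.1.1 + 1)) • LinearMap.proj (Classical.choose h)
    else 0

theorem mu_iota (g' : (Σ i' : Fin n, Fin (revType n m i')) → Rn R n)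
    (j' : Σ i' : Fin n, Fin (revType n m i')) :
    mu R n m g' (iota n m j') = z R n ^ ((iota n m j').1.1 + 1) * g' j' := by
  have h : ∃ j'', iota n m j'' = iota n m j' := ⟨j', rfl⟩
  have hc : Classical.choose h = j' := iota_injective n m (Classical.choose_spec h)
  simp only [mu, LinearMap.pi_apply, dif_pos h, LinearMap.smul_apply, LinearMap.proj_apply,
    smul_eq_mul, hc]

theorem mu_not (g' : (Σ i' : Fin n, Fin (revType n m i')) → Rn R n)
    (j : Σ i : Fin n, Fin (m i)) (hj : ¬ ∃ j', iota n m j' = j) :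
    mu R n m g' j = 0 := by
  simp only [mu, LinearMap.pi_apply, dif_neg hj, LinearMap.zero_apply]

theorem range_mu : LinearMap.range (mu R n m) = LinearMap.ker (cover R n m) := by
  ext g
  rw [mem_ker_cover, LinearMap.mem_range]
  constructor
  · rintro ⟨g', rfl⟩ j
    by_cases hj : ∃ j', iota n m j' = j
    · obtain ⟨j', rfl⟩ := hj
      rw [mu_iota]
      exact Ideal.mul_mem_right _ _ (Ideal.mem_span_singleton_self _)
    · rw [mu_not R n m g' j hj]
      exact Ideal.zero_mem _
  · intro h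
    have : ∀ j, ∃ c : Rn R n, g j = z R n ^ (j.1.1 + 1) * c := fun j =>
      Ideal.mem_span_singleton.mp (h j)
    choose c hc using this
    refine ⟨fun j' => c (iota n m j'), ?_⟩
    funext j
    by_cases hj : ∃ j', iota n m j' = j
    · obtain ⟨j', rfl⟩ := hj
      rw [mu_iota, hc]
    · rw [mu_not R n m _ j hj, hc, fst_of_not_range n m j hj, z_pow_n, zero_mul]

theorem ker_mu [IsDomain R] :
    LinearMap.ker (mu R n m) = LinearMap.ker (cover R n (revType n m)) := by
  ext g'
  rw [mem_ker_cover, LinearMap.mem_ker]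
  constructor
  · intro h j'
    have h1 := congrFun h (iota n m j')
    rw [mu_iota, Pi.zero_apply] at h1
    have hlt := revType_lt n m j'.1 j'.2
    have hle : (iota n m j').1.1 + 1 ≤ n := by rw [iota_fst]; omega
    rw [z_pow_mul_eq_zero_iff R n hle] at h1
    have : n - ((iota n m j').1.1 + 1) = j'.1.1 + 1 := by rw [iota_fst]; omega
    rwa [this] at h1
  · intro h
    funext j
    by_cases hj : ∃ j', iota n m j' = j
    · obtain ⟨j', rfl⟩ := hj
      rw [mu_iota, Pi.zero_apply]
      have hlt := revType_lt n m j'.1 j'.2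
      have hle : (iota n m j').1.1 + 1 ≤ n := by rw [iota_fst]; omega
      rw [z_pow_mul_eq_zero_iff R n hle]
      have : n - ((iota n m j').1.1 + 1) = j'.1.1 + 1 := by rw [iota_fst]; omega
      rw [this]
      exact h j'
    · rw [mu_not R n m _ j hj]
      rfl

theorem ker_cover_equiv [IsDomain R] :
    Nonempty (↥(LinearMap.ker (cover R n m)) ≃ₗ[Rn R n] QFModel R n (revType n m)) := by
  refine ⟨(LinearEquiv.ofEq _ _ (range_mu R n m).symm).trans
    ((LinearMap.quotKerEquivRange (mu R n m)).symm.trans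
      ((Submodule.quotEquivOfEq _ _ (ker_mu R n m)).trans
        (LinearMap.quotKerEquivOfSurjective (cover R n (revType n m))
          (cover_surjective R n (revType n m)))))⟩

end mu

theorem main (R : Type u) [CommRing R] [IsDomain R] [IsDiscreteValuationRing R] (n : ℕ) (hn : 1 ≤ n)
    (m : Fin n → ℕ) (M : Type u) [AddCommGroup M] [Module (MultCrv.Rn R n) M]
    (hM : MultCrv.IsQuasiFreeOfType R n M m) (r : ℕ)
    (φ : (Fin r → MultCrv.Rn R n) →ₗ[MultCrv.Rn R n] M) (hφ : Function.Surjective φ)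
    (hφz : ∀ f : Fin r → MultCrv.Rn R n, φ f ∈ MultCrv.filt R n M 1 →
      f ∈ MultCrv.filt R n (Fin r → MultCrv.Rn R n) 1) :
    MultCrv.IsQuasiFreeOfType R n ↥(LinearMap.ker φ) (MultCrv.revType n m) := by
  obtain ⟨e⟩ := hM
  set φ' : (Fin r → Rn R n) →ₗ[Rn R n] QFModel R n m := e.toLinearMap ∘ₗ φ with hφ'
  have hsurj : Function.Surjective φ' := e.surjective.comp hφ
  have hz : ∀ f : Fin r → Rn R n, φ' f = 0 → ∃ f' : Fin r → Rn R n, f = z R n • f' := by
    intro f hf
    have h0 : φ f = 0 := by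
      apply e.injective
      rw [map_zero]
      exact hf
    have h1 := hφz f (by rw [h0]; exact Submodule.zero_mem _)
    obtain ⟨f', hf'⟩ := h1
    refine ⟨f', ?_⟩
    rw [← hf']
    simp
  have hker : LinearMap.ker φ' = LinearMap.ker φ := by
    rw [hφ']
    exact LinearMap.ker_comp_of_ker_eq_bot φ e.ker
  obtain ⟨e1⟩ := ker_equiv R n m r φ' hsurj hz
  obtain ⟨e2⟩ := ker_cover_equiv R n m
  exact ⟨(LinearEquiv.ofEq _ _ hker.symm).trans (e1.trans e2)⟩

end Groth.Agent.Helper8.MultCrvKer
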