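import Mathlib
import Groth.Prelude.Def_W4c5qllcourbesmultMultCrv
import Groth.Agent.Helper8.MultCrvDual
import Groth.Agent.Helper8.ExtAux

set_option autoImplicit false

noncomputable section

universe u

namespace Groth.Agent.Helper8.MC

open MultCrv CategoryTheory Abelian

variable (R : Type u) [CommRing R] [IsDomain R] [IsDiscreteValuationRing R] (n : ℕ)

/-- for torsion-free `M`, multiplication by `z^(n-1)` factors through a free module -/
theorem exists_factor_zpow (hn : 1 ≤ n) (M : Type u) [AddCommGroup M] [Module (Rn R n) M]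
    [Module R M] [IsScalarTower R (Rn R n) M] [Module.Finite (Rn R n) M] [Module.IsTorsionFree R M] :
    ∃ (d : ℕ) (α : M →ₗ[Rn R n] (Fin d → Rn R n)) (β : (Fin d → Rn R n) →ₗ[Rn R n] M),
      ∀ m, β (α m) = z R n ^ (n - 1) • m := by
  classical
  have hfin : Module.Finite R M := finite_of_tower R n M
  have hfree : Module.Free R M := Module.free_of_finite_type_torsion_free'
  -- kernel of z
  let Kz : Submodule R M := LinearMap.ker (zmul (R := R) (n := n) (M := M) 1)
  have hKz : ∀ m, m ∈ Kz ↔ z R n • m = 0 := by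
    intro m
    simp [Kz, LinearMap.mem_ker]
  have htf : Module.IsTorsionFree R (M ⧸ Kz) := by
    rw [Module.isTorsionFree_iff_smul_eq_zero]
    intro r x hrx
    obtain ⟨m, rfl⟩ := Submodule.Quotient.mk_surjective Kz x
    by_cases hr : r = 0
    · exact Or.inl hr
    · right
      rw [← Submodule.Quotient.mk_smul, Submodule.Quotient.mk_eq_zero, hKz] at hrx
      rw [Submodule.Quotient.mk_eq_zero, hKz]
      rw [← smul_comm' r (z R n) m] at hrx
      exact (smul_eq_zero.1 hrx).resolve_left hr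
  have hfreeQ : Module.Free R (M ⧸ Kz) := Module.free_of_finite_type_torsion_free'
  obtain ⟨s, hs⟩ := Module.projective_lifting_property Kz.mkQ LinearMap.id Kz.mkQ_surjective
  have hs' : ∀ v, Kz.mkQ (s v) = v := fun v => LinearMap.congr_fun hs v
  let ρ : M →ₗ[R] M := LinearMap.id - s.comp Kz.mkQ
  have hρmem : ∀ m, z R n • ρ m = 0 := by
    intro m
    rw [← hKz, ← Submodule.Quotient.mk_eq_zero]
    show Kz.mkQ (m - s (Kz.mkQ m)) = 0
    rw [map_sub, hs', sub_self]
  have hρid : ∀ m, z R n • m = 0 → ρ m = m := by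
    intro m hm
    have : Kz.mkQ m = 0 := by
      rw [Submodule.mkQ_apply, Submodule.Quotient.mk_eq_zero, hKz]; exact hm
    show m - s (Kz.mkQ m) = m
    rw [this, map_zero, sub_zero]
  -- basis of M
  let d := Module.finrank R M
  let b : Module.Basis (Fin d) R M := Module.finBasis R M
  let α : M →ₗ[Rn R n] (Fin d → Rn R n) := LinearMap.pi fun k => lam (n := n) (b.coord k)
  let β : (Fin d → Rn R n) →ₗ[Rn R n] M :=
    ∑ k, (LinearMap.proj k : (Fin d → Rn R n) →ₗ[Rn R n] Rn R n).smulRight (ρ (b k))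
  refine ⟨d, α, β, fun m => ?_⟩
  have hβ : β (α m) = ∑ k, lam (n := n) (b.coord k) m • ρ (b k) := by
    simp [β, α, LinearMap.sum_apply]
  rw [hβ]
  obtain ⟨n', rfl⟩ := Nat.exists_eq_succ_of_ne_zero (by omega : n ≠ 0)
  have hterm : ∀ k, lam (n := n' + 1) (b.coord k) m • ρ (b k) =
      b.coord k (z R (n' + 1) ^ n' • m) • ρ (b k) := by
    intro k
    rw [lam_apply, Finset.sum_smul, Finset.sum_range_succ']
    have h0 : ∀ j ∈ Finset.range n', ((b.coord k) (z R (n' + 1) ^ (n' + 1 - 1 - (j + 1)) • m) •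
        z R (n' + 1) ^ (j + 1)) • ρ (b k) = 0 := by
      intro j _
      rw [smul_assoc, pow_succ (z R (n' + 1)) j, mul_smul, hρmem, smul_zero, smul_zero]
    rw [Finset.sum_eq_zero h0, zero_add, pow_zero, smul_assoc, one_smul]
    simp
  rw [Finset.sum_congr rfl fun k _ => hterm k]
  have h2 : ∑ k, b.coord k (z R (n' + 1) ^ n' • m) • ρ (b k) = ρ (z R (n' + 1) ^ n' • m) := by
    set x := z R (n' + 1) ^ n' • m with hx
    have hx2 : ρ x = ∑ k, (b.repr x k) • ρ (b k) := by
      conv_lhs => rw [← b.sum_repr x]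
      rw [map_sum]
      exact Finset.sum_congr rfl fun k _ => map_smul ρ _ _
    rw [hx2]
    exact Finset.sum_congr rfl fun k _ => by rw [Module.Basis.coord_apply]
  rw [h2, Nat.succ_sub_one]
  apply hρid
  rw [smul_smul, ← pow_succ', z_pow_n]
  exact zero_smul (Rn R (n' + 1)) m

theorem smul_ext_eq_comp {A : Type u} [CommRing A] {X Y : ModuleCat.{u} A} {i : ℕ} (r : A)
    (x : Ext X Y i) : r • x = (Ext.mk₀ (r • 𝟙 X)).comp x (zero_add i) := by
  rw [Ext.mk₀_smul, Ext.smul_comp, Ext.mk₀_id_comp]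

theorem zpow_smul_ext_one (hn : 1 ≤ n) (M N : Type u) [AddCommGroup M] [Module (Rn R n) M]
    [Module R M] [IsScalarTower R (Rn R n) M] [Module.Finite (Rn R n) M] [Module.IsTorsionFree R M]
    [AddCommGroup N] [Module (Rn R n) N]
    (x : Ext (ModuleCat.of (Rn R n) M) (ModuleCat.of (Rn R n) N) 1) :
    (z R n ^ (n - 1)) • x = 0 := by
  obtain ⟨d, α, β, hαβ⟩ := exists_factor_zpow R n hn M
  rw [smul_ext_eq_comp]
  have h2 : (z R n ^ (n - 1)) • 𝟙 (ModuleCat.of (Rn R n) M) = ModuleCat.ofHom α ≫ ModuleCat.ofHom β := by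
    ext m
    simp [hαβ]
  rw [h2, ← Ext.mk₀_comp_mk₀, Ext.comp_assoc _ _ _ (zero_add 0) (zero_add 1) (by omega)]
  have h3 : (Ext.mk₀ (ModuleCat.ofHom β)).comp x (zero_add 1) = 0 := by
    have : Projective (ModuleCat.of (Rn R n) (Fin d → Rn R n)) :=
      (IsProjective.iff_projective (R := Rn R n) (P := (Fin d → Rn R n))).mp inferInstance
    exact Ext.eq_zero_of_projective _
  rw [h3, Ext.comp_zero]

end Groth.Agent.Helper8.MC
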