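import Mathlib
import Groth.Prelude.Def_W4c5qllcourbesmultMultCrv
import Groth.Agent.Helper8.MultCrvZpow
import Groth.Agent.Helper8.MultCrvExt

set_option autoImplicit false

noncomputable section

universe u

namespace Groth.Agent.Helper8.MC

open MultCrv CategoryTheory Abelian

variable (R : Type u) [CommRing R] [IsDomain R] [IsDiscreteValuationRing R] (n : ℕ)

theorem zpow_smul_ext_succ (hn : 1 ≤ n) (N : Type u) [AddCommGroup N] [Module (Rn R n) N] :
    ∀ (j : ℕ) (M : Type u) [AddCommGroup M] [Module (Rn R n) M] [Module.Finite (Rn R n) M]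
      (x : Ext (ModuleCat.of (Rn R n) M) (ModuleCat.of (Rn R n) N) (j + 2)),
      (z R n ^ (n - 1)) • x = 0 := by
  intro j
  induction j with
  | zero =>
    intro M _ _ _ x
    obtain ⟨r, g, hg⟩ := Module.Finite.exists_fin' (Rn R n) M
    have hS := LinearMap.shortExact_shortComplexKer hg
    have hproj : Projective g.shortComplexKer.X₂ :=
      (IsProjective.iff_projective (R := Rn R n) (P := (Fin r → Rn R n))).mp inferInstance
    have h0 : (Ext.mk₀ g.shortComplexKer.g).comp x (zero_add _) = 0 := Ext.eq_zero_of_projective _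
    obtain ⟨x₁, rfl⟩ := Ext.contravariant_sequence_exact₃ hS (ModuleCat.of (Rn R n) N) x h0 (n₀ := 1) (by omega)
    rw [← Ext.comp_smul]
    have htf := isTorsionFree_pi R n r
    have htfK : Module.IsTorsionFree R (LinearMap.ker g) := isTorsionFree_submodule (LinearMap.ker g)
    have hfinK : Module.Finite (Rn R n) (LinearMap.ker g) := inferInstance
    have := zpow_smul_ext_one R n hn (LinearMap.ker g) N x₁
    rw [this, Ext.comp_zero]
  | succ j ih =>
    intro M _ _ _ x
    obtain ⟨r, g, hg⟩ := Module.Finite.exists_fin' (Rn R n) M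
    have hS := LinearMap.shortExact_shortComplexKer hg
    have hproj : Projective g.shortComplexKer.X₂ :=
      (IsProjective.iff_projective (R := Rn R n) (P := (Fin r → Rn R n))).mp inferInstance
    have h0 : (Ext.mk₀ g.shortComplexKer.g).comp x (zero_add _) = 0 := Ext.eq_zero_of_projective _
    obtain ⟨x₁, rfl⟩ := Ext.contravariant_sequence_exact₃ hS (ModuleCat.of (Rn R n) N) x h0 (n₀ := j + 2) (by omega)
    rw [← Ext.comp_smul]
    have hfinK : Module.Finite (Rn R n) (LinearMap.ker g) := inferInstance
    have := ih (LinearMap.ker g) x₁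
    rw [this, Ext.comp_zero]

end Groth.Agent.Helper8.MC
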