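import Mathlib.LinearAlgebra.PiTensorProduct.Basis
import Mathlib.LinearAlgebra.Multilinear.Basic
import Mathlib.Algebra.GroupWithZero.NonZeroDivisors
import Mathlib.Algebra.Ring.NonZeroDivisors
import Mathlib.LinearAlgebra.Finsupp.LinearCombination

set_option autoImplicit false

namespace Groth.Agent.Helper8.MultiTel

open scoped BigOperators TensorProduct
open PiTensorProduct

section general

variable {A : Type*} [CommRing A] {r : ℕ} {M : Fin r → Type*} {N : Type*}
  [∀ i, AddCommGroup (M i)] [∀ i, Module A (M i)] [AddCommGroup N] [Module A N]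

theorem smul_mid (φ : MultilinearMap A M N) (i : Fin r) (a b z : ∀ k, M k) (c : A) :
    φ (fun k => if k < i then a k else if k = i then c • z k else b k) =
      c • φ (fun k => if k < i then a k else if k = i then z k else b k) := by
  classical
  have h1 : (fun k => if k < i then a k else if k = i then c • z k else b k) =
      Function.update (fun k => if k < i then a k else if k = i then z k else b k) i (c • z i) := by
    funext k
    by_cases hk : k = i
    · subst hk; simp
    · rw [Function.update_of_ne hk]; simp [hk]
  have h2 : (fun k => if k < i then a k else if k = i then z k else b k) =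
      Function.update (fun k => if k < i then a k else if k = i then z k else b k) i (z i) := by
    funext k
    by_cases hk : k = i
    · subst hk; simp
    · rw [Function.update_of_ne hk]
  rw [h1, MultilinearMap.map_update_smul, ← h2]

theorem sum_mid (φ : MultilinearMap A M N) (i : Fin r) (a b : ∀ k, M k) {ι : Type*} (s : Finset ι)
    (z : ι → ∀ k, M k) :
    φ (fun k => if k < i then a k else if k = i then ∑ t ∈ s, z t k else b k) =
      ∑ t ∈ s, φ (fun k => if k < i then a k else if k = i then z t k else b k) := by
  classical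
  have h1 : (fun k => if k < i then a k else if k = i then ∑ t ∈ s, z t k else b k) =
      Function.update (fun k => if k < i then a k else b k) i (∑ t ∈ s, z t i) := by
    funext k
    by_cases hk : k = i
    · subst hk; simp
    · rw [Function.update_of_ne hk]; simp [hk]
  have h2 : ∀ t, (fun k => if k < i then a k else if k = i then z t k else b k) =
      Function.update (fun k => if k < i then a k else b k) i (z t i) := by
    intro t
    funext k
    by_cases hk : k = i
    · subst hk; simp
    · rw [Function.update_of_ne hk]; simp [hk]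
  rw [h1, MultilinearMap.map_update_sum]
  exact Finset.sum_congr rfl (fun t _ => by rw [h2 t])

theorem tel (φ : MultilinearMap A M N) (a b : ∀ k, M k) :
    φ a - φ b = ∑ i : Fin r, φ (fun k => if k < i then a k else if k = i then a k - b k else b k) := by
  have := MultilinearMap.map_sub_map_piecewise φ a b Finset.univ
  rw [Finset.piecewise_univ] at this
  rw [this]
  refine Finset.sum_congr rfl (fun i _ => congrArg φ ?_)
  funext k
  by_cases h1 : k < i
  · simp [h1]
  · by_cases h2 : k = i
    · subst h2; simp
    · have h3 : ¬ i = k := fun h => h2 h.symm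
      simp [h1, h2, h3]

theorem alpha_smul_lhs (φ : MultilinearMap A M N) (α : A) (n : ℕ)
    (y w : ∀ i, ℕ → M i) (hw : ∀ i, ∀ j < n, w i (j + 1) = w i j + α • y i j) :
    α • (∑ i : Fin r, ∑ j ∈ Finset.range n,
        φ (fun k => if k < i then w k (j + 1) else if k = i then y k j else w k j)) =
    φ (fun k => w k n) - φ (fun k => w k 0) := by
  rw [← Finset.sum_range_sub (fun j => φ (fun k => w k j)) n, Finset.sum_comm, Finset.smul_sum]
  refine Finset.sum_congr rfl (fun j hj => ?_)
  rw [Finset.mem_range] at hj
  rw [tel, Finset.smul_sum]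
  refine Finset.sum_congr rfl (fun i _ => ?_)
  rw [← smul_mid]
  refine congrArg φ ?_
  funext k
  by_cases h1 : k < i
  · simp [h1]
  · by_cases h2 : k = i
    · subst h2; simp [hw k j hj]
    · simp [h1, h2]

theorem alpha_smul_rhs (φ : MultilinearMap A M N) (α : A) (n : ℕ)
    (y w : ∀ i, ℕ → M i) (hw : ∀ i, ∀ j < n, w i (j + 1) = w i j + α • y i j) :
    α • (∑ i : Fin r, ∑ j ∈ Finset.range n,
        φ (fun k => if k < i then w k n else if k = i then y k j else w k 0)) =
    φ (fun k => w k n) - φ (fun k => w k 0) := by
  have hsum : ∀ i, w i n - w i 0 = α • ∑ j ∈ Finset.range n, y i j := by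
    intro i
    rw [← Finset.sum_range_sub (fun j => w i j) n, Finset.smul_sum]
    refine Finset.sum_congr rfl (fun j hj => ?_)
    rw [Finset.mem_range] at hj
    rw [hw i j hj]; abel
  rw [tel, Finset.smul_sum]
  refine Finset.sum_congr rfl (fun i _ => ?_)
  rw [← sum_mid φ i (fun k => w k n) (fun k => w k 0) (Finset.range n) (fun j k => y k j),
    ← smul_mid]
  refine congrArg φ ?_
  funext k
  by_cases h1 : k < i
  · simp [h1]
  · by_cases h2 : k = i
    · subst h2; simp [hsum k]
    · simp [h1, h2]

end general

section universal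

variable {A : Type*} [CommRing A]

noncomputable def Wv (α : A) (j : ℕ) : ℕ →₀ A :=
  Finsupp.single 0 1 + α • ∑ t ∈ Finset.range j, Finsupp.single (t + 1) 1

noncomputable def Yv (A : Type*) [CommRing A] (j : ℕ) : ℕ →₀ A := Finsupp.single (j + 1) 1

theorem Wv_succ (α : A) (j : ℕ) : Wv α (j + 1) = Wv α j + α • Yv A j := by
  unfold Wv Yv
  rw [Finset.sum_range_succ, smul_add, add_assoc]

theorem regular_free {T : Type*} [AddCommGroup T] [Module A T] {κ : Type*} (b : Module.Basis κ A T)
    (α : A) (hα : α ∈ nonZeroDivisors A) (x y : T) (h : α • x = α • y) : x = y := by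
  apply b.repr.injective
  ext p
  have h1 := congrArg (fun z => b.repr z p) h
  simp only [map_smul, Finsupp.smul_apply, smul_eq_mul] at h1
  exact (mul_cancel_left_mem_nonZeroDivisors hα).mp h1

theorem main {r : ℕ} {M : Fin r → Type*} {N : Type*}
    [∀ i, AddCommGroup (M i)] [∀ i, Module A (M i)] [AddCommGroup N] [Module A N]
    (α : A) (hα : α ∈ nonZeroDivisors A) (φ : MultilinearMap A M N) (n : ℕ)
    (y w : ∀ i, ℕ → M i) (hw : ∀ i, ∀ j < n, w i (j + 1) = w i j + α • y i j) :
    (∑ i : Fin r, ∑ j ∈ Finset.range n,
        φ (fun k => if k < i then w k (j + 1) else if k = i then y k j else w k j)) =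
      ∑ i : Fin r, ∑ j ∈ Finset.range n,
        φ (fun k => if k < i then w k n else if k = i then y k j else w k 0) := by
  classical
  let τ : MultilinearMap A (fun _ : Fin r => ℕ →₀ A) (⨂[A] _ : Fin r, (ℕ →₀ A)) :=
    PiTensorProduct.tprod A
  let π : ∀ i, (ℕ →₀ A) →ₗ[A] M i := fun i =>
    Finsupp.linearCombination A (fun m => Nat.casesOn m (w i 0) (fun t => y i t))
  let ψ : (⨂[A] _ : Fin r, (ℕ →₀ A)) →ₗ[A] N := PiTensorProduct.lift (φ.compLinearMap π)
  have hψ : ∀ v : Fin r → (ℕ →₀ A), ψ (τ v) = φ (fun k => π k (v k)) := by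
    intro v
    simp only [ψ, τ, PiTensorProduct.lift.tprod, MultilinearMap.compLinearMap_apply]
  have hπY : ∀ k j, π k (Yv A j) = y k j := by
    intro k j
    simp [π, Yv, Finsupp.linearCombination_single]
  have hπW : ∀ k j, j ≤ n → π k (Wv α j) = w k j := by
    intro k j
    induction j with
    | zero =>
      intro _
      simp [π, Wv, Finsupp.linearCombination_single]
    | succ j ih =>
      intro hj
      rw [Wv_succ, map_add, map_smul, ih (by omega), hπY, hw k j (by omega)]
  have huniv : (∑ i : Fin r, ∑ j ∈ Finset.range n,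
        τ (fun k => if k < i then Wv α (j + 1) else if k = i then Yv A j else Wv α j)) =
      ∑ i : Fin r, ∑ j ∈ Finset.range n,
        τ (fun k => if k < i then Wv α n else if k = i then Yv A j else Wv α 0) := by
    apply regular_free (_root_.Basis.piTensorProduct (fun _ : Fin r => Finsupp.basisSingleOne)) α hα
    rw [alpha_smul_lhs (N := ⨂[A] _ : Fin r, (ℕ →₀ A)) τ α n (fun _ j => Yv A j) (fun _ j => Wv α j) (fun _ j _ => Wv_succ α j),
      alpha_smul_rhs (N := ⨂[A] _ : Fin r, (ℕ →₀ A)) τ α n (fun _ j => Yv A j) (fun _ j => Wv α j) (fun _ j _ => Wv_succ α j)]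
  have h3 := congrArg ψ huniv
  simp only [map_sum, hψ] at h3
  convert h3 using 4 with i _ j hj
  · rw [Finset.mem_range] at hj
    funext k
    split_ifs
    · rw [hπW k (j + 1) (by omega)]
    · rw [hπY]
    · rw [hπW k j (by omega)]
  · funext k
    split_ifs
    · rw [hπW k n le_rfl]
    · rw [hπY]
    · rw [hπW k 0 (by omega)]

end universal

end Groth.Agent.Helper8.MultiTel
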