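import Mathlib
import Groth.Prelude.Def_MoreMor

/-!
# Preparations for local constancy of the number of geometric connected components

Topological lemmas on `π₀`, integrally closed local domains with algebraically closed fraction
field (they are henselian and have algebraically closed residue fields), the count over an
algebraically closed field, and the valuation ring attached to a specialization.
-/

set_option autoImplicit false
set_option linter.style.haveILetI false
set_option linter.unusedSectionVars false
set_option linter.unusedVariables false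

universe u

open CategoryTheory CategoryTheory.Limits AlgebraicGeometry Topology TopologicalSpace Polynomial

namespace Groth.Agent.Helper8.NGC

/-! ## Topology -/

section Top

variable {X Y : Type*} [TopologicalSpace X] [TopologicalSpace Y]

theorem card_cc_le_of_meets {f : X → Y} (hf : Continuous f)
    (h : ∀ y : Y, ∃ x, f x ∈ connectedComponent y) :
    ENat.card (_root_.ConnectedComponents Y) ≤ ENat.card (_root_.ConnectedComponents X) := by
  have hs : Function.Surjective hf.connectedComponentsMap := by
    intro c
    obtain ⟨y, rfl⟩ := ConnectedComponents.surjective_coe c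
    obtain ⟨x, hx⟩ := h y
    refine ⟨ConnectedComponents.mk x, ?_⟩
    rw [Continuous.connectedComponentsMap_mk]
    exact ConnectedComponents.coe_eq_coe'.mpr hx
  exact ENat.card_le_card_of_injective (Function.injective_surjInv hs)

theorem card_cc_le_of_preconnected_preimage {f : X → Y} (hf : Continuous f)
    (h : ∀ x : X, IsPreconnected (f ⁻¹' connectedComponent (f x))) :
    ENat.card (_root_.ConnectedComponents X) ≤ ENat.card (_root_.ConnectedComponents Y) := by
  refine ENat.card_le_card_of_injective (f := hf.connectedComponentsMap) ?_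
  intro c₁ c₂ hc
  obtain ⟨x₁, rfl⟩ := ConnectedComponents.surjective_coe c₁
  obtain ⟨x₂, rfl⟩ := ConnectedComponents.surjective_coe c₂
  rw [Continuous.connectedComponentsMap_mk, Continuous.connectedComponentsMap_mk] at hc
  have h2 : f x₁ ∈ connectedComponent (f x₂) := ConnectedComponents.coe_eq_coe'.mp hc
  have h3 : x₁ ∈ f ⁻¹' connectedComponent (f x₂) := h2
  have h4 : x₂ ∈ f ⁻¹' connectedComponent (f x₂) := mem_connectedComponent
  exact ConnectedComponents.coe_eq_coe'.mpr ((h x₂).subset_connectedComponent h4 h3)

theorem card_cc_congr (e : X ≃ₜ Y) :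
    ENat.card (_root_.ConnectedComponents X) = ENat.card (_root_.ConnectedComponents Y) := by
  apply le_antisymm
  · exact card_cc_le_of_meets e.symm.continuous
      (fun x => ⟨e x, by rw [e.symm_apply_apply]; exact mem_connectedComponent⟩)
  · exact card_cc_le_of_meets e.continuous
      (fun y => ⟨e.symm y, by rw [e.apply_symm_apply]; exact mem_connectedComponent⟩)

theorem isClopen_connectedComponent_of_finite [Finite (ConnectedComponents X)] (x : X) :
    IsClopen (connectedComponent x) := by
  rw [← connectedComponents_preimage_singleton]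
  exact (isClopen_discrete _).preimage ConnectedComponents.continuous_coe

end Top

/-! ## Openness of locally constructible sets stable under generization -/

theorem isOpen_of_isLocallyConstructible {S : Scheme.{u}} {s : Set S}
    (hc : IsLocallyConstructible s) (hg : StableUnderGeneralization s) : IsOpen s := by
  rw [isOpen_iff_forall_mem_open]
  intro x hx
  obtain ⟨_, ⟨W, hW, rfl⟩, hxW, -⟩ :=
    S.isBasis_affineOpens.exists_subset_of_mem_open (Set.mem_univ x) isOpen_univ
  have hj : IsOpenEmbedding hW.fromSpec := hW.fromSpec.isOpenEmbedding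
  have h1 : IsConstructible (hW.fromSpec ⁻¹' s) :=
    (hc.preimage_of_isOpenEmbedding hj).isConstructible
  have h2 : StableUnderGeneralization (hW.fromSpec ⁻¹' s) := hg.preimage hj.continuous
  have h3 : IsOpen (hW.fromSpec ⁻¹' s) :=
    PrimeSpectrum.isOpen_of_stableUnderGeneralization_of_isConstructible h2 h1
  refine ⟨hW.fromSpec '' (hW.fromSpec ⁻¹' s), ?_, hj.isOpenMap _ h3, ?_⟩
  · rintro _ ⟨a, ha, rfl⟩
    exact ha
  · have : x ∈ Set.range hW.fromSpec := by
      rw [hW.range_fromSpec]
      exact hxW
    obtain ⟨a, rfl⟩ := this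
    exact ⟨a, hx, rfl⟩

theorem isLocallyConstant_of_constructible {S : Scheme.{u}} {α : Type*} (n : S → α)
    (hc : ∀ c, IsLocallyConstructible {s | n s = c})
    (hg : ∀ z y : S, z ⤳ y → n z = n y) : IsLocallyConstant n := by
  rw [IsLocallyConstant.iff_isOpen_fiber]
  intro c
  apply isOpen_of_isLocallyConstructible (hc c)
  intro y z hzy hy
  show n z = c
  rw [hg z y hzy]
  exact hy

/-! ## Integrally closed local domains with algebraically closed fraction field -/

section Alg

variable {A : Type*} [CommRing A] [IsDomain A] [IsIntegrallyClosed A]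

theorem exists_multiset_roots (Ω : Type*) [Field Ω] [Algebra A Ω]
    [IsFractionRing A Ω] [IsAlgClosed Ω] (f : A[X]) (hf : f.Monic) :
    ∃ s : Multiset A, f = (s.map (fun a => X - C a)).prod := by
  classical
  let F := f.map (algebraMap A Ω)
  have hF : F.Monic := hf.map _
  have hsplit : F.Splits := IsAlgClosed.splits F
  have hprod : F = (F.roots.map (fun α => X - C α)).prod := hsplit.eq_prod_roots_of_monic hF
  have hint : ∀ α ∈ F.roots, ∃ a : A, algebraMap A Ω a = α := by
    intro α hα
    have hroot : F.IsRoot α := (mem_roots hF.ne_zero).mp hα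
    have : IsIntegral A α := ⟨f, hf, by rw [← Polynomial.eval_map]; exact hroot⟩
    exact IsIntegrallyClosed.isIntegral_iff.mp this
  let g : Ω → A := fun α => if h : ∃ a : A, algebraMap A Ω a = α then h.choose else 0
  have hg : ∀ α ∈ F.roots, algebraMap A Ω (g α) = α := by
    intro α hα
    simp only [g, dif_pos (hint α hα)]
    exact (hint α hα).choose_spec
  refine ⟨F.roots.map g, ?_⟩
  apply Polynomial.map_injective (algebraMap A Ω) (IsFractionRing.injective A Ω)
  rw [Polynomial.map_multiset_prod, Multiset.map_map, Multiset.map_map]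
  refine hprod.trans ?_
  congr 1
  apply Multiset.map_congr rfl
  intro α hα
  simp [hg α hα]

theorem henselianRing (Ω : Type*) [Field Ω] [Algebra A Ω]
    [IsFractionRing A Ω] [IsAlgClosed Ω] [IsLocalRing A] :
    HenselianRing A (IsLocalRing.maximalIdeal A) := by
  refine ⟨?_, ?_⟩
  · rw [IsLocalRing.jacobson_eq_maximalIdeal ⊥ bot_ne_top]
  · intro f hf a₀ ha₀ _
    obtain ⟨s, rfl⟩ := exists_multiset_roots Ω f hf
    rw [eval_multiset_prod, Multiset.map_map] at ha₀
    obtain ⟨b, hb, hbm⟩ :=
      ((IsLocalRing.maximalIdeal.isMaximal A).isPrime.multiset_prod_mem_iff_exists_mem _).mp ha₀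
    obtain ⟨a, has, rfl⟩ := Multiset.mem_map.mp hb
    refine ⟨a, ?_, ?_⟩
    · show eval a _ = 0
      rw [eval_multiset_prod, Multiset.map_map]
      apply Multiset.prod_eq_zero
      exact Multiset.mem_map.mpr ⟨a, has, by simp⟩
    · have : a₀ - a ∈ IsLocalRing.maximalIdeal A := by simpa using hbm
      have h2 := neg_mem this
      rwa [neg_sub] at h2

theorem isAlgClosed_of_surjective (Ω : Type*) [Field Ω] [Algebra A Ω]
    [IsFractionRing A Ω] [IsAlgClosed Ω] {κ : Type*} [Field κ] (π : A →+* κ)
    (hπ : Function.Surjective π) : IsAlgClosed κ := by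
  apply IsAlgClosed.of_exists_root
  intro p hp hirr
  have hl : p ∈ lifts π := by
    rw [mem_lifts]
    exact Polynomial.map_surjective π hπ p
  obtain ⟨q, hq, hdeg, hqm⟩ := lifts_and_natDegree_eq_and_monic hl hp
  obtain ⟨s, hs⟩ := exists_multiset_roots Ω q hqm
  have hne : s ≠ 0 := by
    rintro rfl
    have : q = 1 := by simpa using hs
    rw [this, Polynomial.map_one] at hq
    exact hirr.ne_one hq.symm
  obtain ⟨a, ha⟩ := Multiset.exists_mem_of_ne_zero hne
  refine ⟨π a, ?_⟩
  rw [← hq, Polynomial.eval_map, Polynomial.eval₂_at_apply]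
  have : eval a q = 0 := by
    rw [hs, eval_multiset_prod, Multiset.map_map]
    apply Multiset.prod_eq_zero
    exact Multiset.mem_map.mpr ⟨a, ha, by simp⟩
  rw [this, map_zero]

end Alg

/-! ## Residue fields of closed points of affine schemes -/

theorem exists_surjective_to_residueField (R : Type u) [CommRing R]
    (x : Spec (CommRingCat.of R)) (hx : x.asIdeal.IsMaximal) :
    ∃ π : R →+* (Spec (CommRingCat.of R)).residueField x, Function.Surjective π := by
  let e := Scheme.Spec.residueFieldIso (CommRingCat.of R) x
  refine ⟨e.inv.hom.comp (algebraMap R x.asIdeal.ResidueField), ?_⟩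
  have h1 : Function.Surjective (algebraMap R x.asIdeal.ResidueField) :=
    Ideal.algebraMap_residueField_surjective x.asIdeal
  have h2 : Function.Bijective e.inv.hom := ConcreteCategory.bijective_of_isIso e.inv
  exact h2.surjective.comp h1

/-! ## The count over an algebraically closed field -/

theorem nGeomConnComp_of_isAlgClosed {Y : Scheme.{u}} (L : Type u) [Field L] [IsAlgClosed L]
    (h : Y ⟶ Spec (CommRingCat.of L)) (pt : Spec (CommRingCat.of L)) :
    MoreMor.nGeomConnComp h pt = ENat.card (_root_.ConnectedComponents Y) := by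
  unfold MoreMor.nGeomConnComp
  haveI : pt.asIdeal.IsMaximal := inferInstance
  obtain ⟨π, hπ⟩ := exists_surjective_to_residueField L pt inferInstance
  haveI : IsAlgClosed ((Spec (CommRingCat.of L)).residueField pt) :=
    IsAlgClosed.of_ringEquiv _ _ (RingEquiv.ofBijective π ⟨π.injective, hπ⟩)
  let φ : (Spec (CommRingCat.of L)).residueField pt ⟶
      CommRingCat.of (SeparableClosure ((Spec (CommRingCat.of L)).residueField pt)) :=
    CommRingCat.ofHom (algebraMap ((Spec (CommRingCat.of L)).residueField pt)
      (SeparableClosure ((Spec (CommRingCat.of L)).residueField pt)))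
  have hbij : Function.Bijective φ.hom :=
    IsSepClosed.algebraMap_bijective _ _
  haveI : IsIso φ := (ConcreteCategory.isIso_iff_bijective φ).mpr hbij
  haveI : IsIso (Spec.map φ) := inferInstance
  have hiso : IsIso (pullback.fst (h.fiberToSpecResidueField pt) (Spec.map φ)) :=
    pullback_fst_iso_of_right_iso _ _
  let e1 : MoreMor.geomFiber h pt ≅ h.fiber pt :=
    @asIso _ _ _ _ (pullback.fst (h.fiberToSpecResidueField pt) (Spec.map φ)) hiso
  have c1 := card_cc_congr (Scheme.homeoOfIso e1)
  have c2 := card_cc_congr (h.fiberHomeo pt)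
  have hpre : h ⁻¹' {pt} = Set.univ := by
    ext x
    simp only [Set.mem_preimage, Set.mem_singleton_iff, Set.mem_univ, iff_true]
    exact Subsingleton.elim _ _
  have c3 : ENat.card (_root_.ConnectedComponents (h ⁻¹' {pt})) =
      ENat.card (_root_.ConnectedComponents Y) :=
    card_cc_congr ((Homeomorph.setCongr hpre).trans (Homeomorph.Set.univ Y))
  exact c1.trans (c2.trans c3)

/-! ## Geometric reducedness and open immersions -/

theorem geometricallyReduced_comp_of_isOpenImmersion {U X S : Scheme.{u}} (j : U ⟶ X)
    [IsOpenImmersion j] (g : X ⟶ S) [GeometricallyReduced g] : GeometricallyReduced (j ≫ g) := by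
  refine ⟨fun K _ y Z fst snd h => ?_⟩
  haveI : IsReduced (pullback g y) :=
    pullback_of_geometrically GeometricallyReduced.geometrically_isReduced K y
  let p : Z ⟶ pullback g y := pullback.lift (fst ≫ j) snd (by rw [Category.assoc]; exact h.w)
  have hpb : IsPullback fst p j (pullback.fst g y) := by
    refine (IsPullback.of_right ?_ (pullback.lift_fst _ _ _) (IsPullback.of_hasPullback g y).flip).flip
    have : p ≫ pullback.snd g y = snd := pullback.lift_snd _ _ _
    rw [this]
    exact h.flip
  haveI : IsOpenImmersion p := MorphismProperty.of_isPullback hpb inferInstance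
  exact isReduced_of_isOpenImmersion p

/-! ## The valuation ring of a specialization -/

open IsLocalRing in
theorem exists_valuationRing_of_specializes {S : Scheme.{u}} {z y : S} (hzy : z ⤳ y) :
    ∃ (Ω : Type u) (_ : Field Ω) (_ : IsAlgClosed Ω) (V : ValuationSubring Ω)
      (φ : Spec (CommRingCat.of V) ⟶ S),
      φ (closedPoint V) = y ∧
      (Spec.map (CommRingCat.ofHom (algebraMap V Ω)) ≫ φ) (closedPoint Ω) = z := by
  let Ω : Type u := AlgebraicClosure (S.residueField z)
  let ψ : S.presheaf.stalk y ⟶ CommRingCat.of Ω :=
    S.presheaf.stalkSpecializes hzy ≫ S.residue z ≫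
      CommRingCat.ofHom (algebraMap (S.residueField z) Ω)
  obtain ⟨V, hV, hV_local⟩ := exists_factor_valuationRing ψ.hom
  let ψV : S.presheaf.stalk y ⟶ CommRingCat.of V :=
    CommRingCat.ofHom (ψ.hom.codRestrict _ hV)
  refine ⟨Ω, inferInstance, inferInstance, V, Spec.map ψV ≫ S.fromSpecStalk y, ?_, ?_⟩
  · rw [Scheme.Hom.comp_apply]
    have : Spec.map ψV (closedPoint V) = closedPoint (S.presheaf.stalk y) :=
      comap_closedPoint (S := V) (ψ.hom.codRestrict V.toSubring hV)
    rw [this, S.fromSpecStalk_closedPoint]
  · have h1 : ψV ≫ CommRingCat.ofHom (algebraMap V Ω) = ψ := rfl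
    rw [← Category.assoc, ← Spec.map_comp, h1]
    have h2 : Spec.map ψ ≫ S.fromSpecStalk y =
        Spec.map (CommRingCat.ofHom (algebraMap (S.residueField z) Ω)) ≫
          S.fromSpecResidueField z := by
      rw [Scheme.fromSpecResidueField, ← Scheme.SpecMap_stalkSpecializes_fromSpecStalk hzy]
      simp only [ψ, Spec.map_comp, Category.assoc]
      rfl
    rw [h2, Scheme.Hom.comp_apply, Scheme.fromSpecResidueField_apply]

end Groth.Agent.Helper8.NGC
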