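import Groth.Agent.Helper8.NNTrackA

/-!
Element-tracking Noether normalization: eliminating the variables lying in an ideal `J`
one at a time, modifying the other variables only by elements of `J`.
-/

set_option autoImplicit false

namespace Groth.Agent.Helper8.NNTrack

open MvPolynomial

variable (k : Type*) [Field k] {S : Type*} [CommRing S] [Algebra k S]

/-- `C` is integral over `k[v]`. -/
def IntOver {N : ℕ} (v : Fin N → S) : Prop :=
  ((aeval v : MvPolynomial (Fin N) k →ₐ[k] S) : MvPolynomial (Fin N) k →+* S).IsIntegral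

variable {k}

lemma eval₂_finSuccEquiv {N : ℕ} (v' : Fin N → S) (c : S) (p : MvPolynomial (Fin (N + 1)) k) :
    Polynomial.eval₂ ((aeval v' : MvPolynomial (Fin N) k →ₐ[k] S) : MvPolynomial (Fin N) k →+* S) c
      (finSuccEquiv k N p) = aeval (Fin.cons c v' : Fin (N + 1) → S) p := by
  have : ((Polynomial.eval₂RingHom
      ((aeval v' : MvPolynomial (Fin N) k →ₐ[k] S) : MvPolynomial (Fin N) k →+* S) c).comp
      ((finSuccEquiv k N : MvPolynomial (Fin (N + 1)) k ≃ₐ[k] _) :
        MvPolynomial (Fin (N + 1)) k →+* _))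
      = ((aeval (Fin.cons c v' : Fin (N + 1) → S) : MvPolynomial (Fin (N + 1)) k →ₐ[k] S) :
        MvPolynomial (Fin (N + 1)) k →+* S) := by
    apply MvPolynomial.ringHom_ext
    · intro a
      simp [finSuccEquiv_apply]
    · intro j
      refine Fin.cases ?_ (fun i => ?_) j
      · simp [finSuccEquiv_X_zero]
      · simp [finSuccEquiv_X_succ]
  exact RingHom.congr_fun this p

/-- one elimination step. -/
lemma step {N : ℕ} (v : Fin (N + 1) → S) (hint : IntOver k v)
    (F : MvPolynomial (Fin (N + 1)) k) (hF : F ≠ 0) (hFv : aeval v F = 0) :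
    ∃ e : Fin N → ℕ, (∀ i, 0 < e i) ∧ IntOver k (fun i : Fin N => v i.succ - v 0 ^ e i) := by
  refine ⟨fun i => (2 + F.totalDegree) ^ (i.succ : Fin (N + 1)).1, fun i => Nat.pow_pos (by omega), ?_⟩
  set e : Fin N → ℕ := fun i => (2 + F.totalDegree) ^ (i.succ : Fin (N + 1)).1 with he
  set v' : Fin N → S := fun i => v i.succ - v 0 ^ e i with hv'
  -- the change of variables
  have hcomp : (aeval (Fin.cons (v 0) v' : Fin (N + 1) → S)).comp (NN.T1 F 1) = aeval v := by
    apply MvPolynomial.algHom_ext
    intro j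
    refine Fin.cases ?_ (fun i => ?_) j
    · simp [NN.T1]
    · simp [NN.T1, Fin.succ_ne_zero, hv', he]
  have hzero : aeval (Fin.cons (v 0) v' : Fin (N + 1) → S) (NN.T1 F 1 F) = 0 := by
    have := AlgHom.congr_fun hcomp F
    rw [AlgHom.comp_apply] at this
    rw [this, hFv]
  set G := finSuccEquiv k N (NN.T1 F 1 F) with hG
  have hunit : IsUnit G.leadingCoeff := NN.T_leadingcoeff_isUnit F hF
  have hGzero : Polynomial.eval₂
      ((aeval v' : MvPolynomial (Fin N) k →ₐ[k] S) : MvPolynomial (Fin N) k →+* S) (v 0) G = 0 := by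
    rw [hG, eval₂_finSuccEquiv, hzero]
  -- `v 0` is integral over `k[v']`
  have hv0 : ((aeval v' : MvPolynomial (Fin N) k →ₐ[k] S) :
      MvPolynomial (Fin N) k →+* S).IsIntegralElem (v 0) := by
    obtain ⟨u, hu⟩ := hunit
    refine ⟨Polynomial.C (↑u⁻¹ : MvPolynomial (Fin N) k) * G,
      Polynomial.monic_C_mul_of_mul_leadingCoeff_eq_one (by rw [← hu]; exact u.inv_mul), ?_⟩
    rw [Polynomial.eval₂_mul, hGzero, mul_zero]
  -- integrality over `k[v']`
  letI : Algebra (MvPolynomial (Fin N) k) S :=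
    ((aeval v' : MvPolynomial (Fin N) k →ₐ[k] S) : MvPolynomial (Fin N) k →+* S).toAlgebra
  have halg : ∀ g : MvPolynomial (Fin N) k, algebraMap (MvPolynomial (Fin N) k) S g = aeval v' g :=
    fun g => rfl
  let IC := integralClosure (MvPolynomial (Fin N) k) S
  have hv0IC : v 0 ∈ IC := hv0
  have hv'IC : ∀ i, v' i ∈ IC := by
    intro i
    have : v' i = algebraMap (MvPolynomial (Fin N) k) S (X i) := by rw [halg, aeval_X]
    rw [this]; exact Subalgebra.algebraMap_mem _ _
  have hvIC : ∀ j, v j ∈ IC := by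
    intro j
    refine Fin.cases hv0IC (fun i => ?_) j
    have : v i.succ = v' i + v 0 ^ e i := by simp [hv']
    rw [this]
    exact Subalgebra.add_mem _ (hv'IC i) (Subalgebra.pow_mem _ hv0IC _)
  have hrange : ∀ g : MvPolynomial (Fin (N + 1)) k, aeval v g ∈ IC := by
    intro g
    induction g using MvPolynomial.induction_on with
    | C a =>
      have : aeval v (C a : MvPolynomial (Fin (N + 1)) k)
          = algebraMap (MvPolynomial (Fin N) k) S (C a) := by
        rw [halg, aeval_C, aeval_C]
      rw [this]; exact Subalgebra.algebraMap_mem _ _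
    | add p q hp hq => rw [map_add]; exact Subalgebra.add_mem _ hp hq
    | mul_X p j hp => rw [map_mul, aeval_X]; exact Subalgebra.mul_mem _ hp (hvIC j)
  intro c
  obtain ⟨p, hpm, hpc⟩ := hint c
  let θ' : MvPolynomial (Fin (N + 1)) k →+* IC :=
    ((aeval v : MvPolynomial (Fin (N + 1)) k →ₐ[k] S) :
      MvPolynomial (Fin (N + 1)) k →+* S).codRestrict IC hrange
  have h1 : IsIntegral IC c := by
    refine ⟨p.map θ', hpm.map _, ?_⟩
    rw [Polynomial.eval₂_map]
    have : (algebraMap IC S).comp θ' = ((aeval v : MvPolynomial (Fin (N + 1)) k →ₐ[k] S) :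
        MvPolynomial (Fin (N + 1)) k →+* S) := RingHom.ext fun _ => rfl
    rw [this]; exact hpc
  exact isIntegral_trans c h1

/-- element-tracking Noether normalization. -/
theorem tracking (J : Ideal S) {m : ℕ} (ybar : Fin m → S ⧸ J) (hy : AlgebraicIndependent k ybar) :
    ∀ (n N : ℕ) (_ : N = n + m) (v : Fin N → S), (∀ i : Fin N, i.val < n → v i ∈ J) →
      (∀ (i : Fin N) (j : Fin m), i.val = n + j.val → Ideal.Quotient.mk J (v i) = ybar j) →
      IntOver k v →
      ∃ (n' N' : ℕ) (_ : N' = n' + m) (w : Fin N' → S), (∀ i : Fin N', i.val < n' → w i ∈ J) ∧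
        (∀ (i : Fin N') (j : Fin m), i.val = n' + j.val → Ideal.Quotient.mk J (w i) = ybar j) ∧
        IntOver k w ∧ AlgebraicIndependent k w := by
  intro n
  induction n with
  | zero =>
    intro N hN v hJ hmk hint
    refine ⟨0, N, hN, v, hJ, hmk, hint, ?_⟩
    apply AlgebraicIndependent.of_comp (Ideal.Quotient.mkₐ k J)
    have hε : Function.Injective (fun i : Fin N => (⟨i.val, by omega⟩ : Fin m)) := by
      intro a b hab
      simp only [Fin.mk.injEq] at hab
      exact Fin.ext hab
    have := hy.comp _ hε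
    convert this using 1
    · funext i
      simp only [Function.comp_apply, Ideal.Quotient.mkₐ_eq_mk]
      exact hmk i ⟨i.val, by omega⟩ (by simp)
    · rfl
  | succ n ih =>
    intro N hN v hJ hmk hint
    by_cases hv : AlgebraicIndependent k v
    · exact ⟨n + 1, N, hN, v, hJ, hmk, hint, hv⟩
    · rw [algebraicIndependent_iff] at hv
      push_neg at hv
      obtain ⟨F, hFv, hF⟩ := hv
      obtain ⟨N₀, rfl⟩ : ∃ N₀, N = N₀ + 1 := ⟨n + m, by omega⟩
      obtain ⟨e, he, hint'⟩ := step v hint F hF hFv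
      have h0J : v 0 ∈ J := hJ 0 (by simp)
      refine ih N₀ (by omega) (fun i : Fin N₀ => v i.succ - v 0 ^ e i) ?_ ?_ hint'
      · intro i hi
        exact J.sub_mem (hJ i.succ (by simp; omega)) (Ideal.pow_mem_of_mem J h0J _ (he i))
      · intro i j hij
        rw [map_sub, hmk i.succ j (by simp; omega)]
        have : Ideal.Quotient.mk J (v 0 ^ e i) = 0 :=
          Ideal.Quotient.eq_zero_iff_mem.mpr (Ideal.pow_mem_of_mem J h0J _ (he i))
        rw [this, sub_zero]

end Groth.Agent.Helper8.NNTrack
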