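import Groth.Agent.Helper8.NNTrackB
import Groth.Agent.Helper5.IntegralDim

/-!
Dimension lemmas for integral maps from polynomial rings, and the ideals `(T_l : l < h)`.
-/

set_option autoImplicit false

namespace Groth.Agent.Helper8.NNTrack

open MvPolynomial

/-- dimension of quotients along an integral ring map. -/
lemma ringKrullDim_quotient_comap {B A : Type*} [CommRing B] [CommRing A] (φ : B →+* A)
    (hφ : φ.IsIntegral) (q : Ideal A) :
    ringKrullDim (B ⧸ q.comap φ) = ringKrullDim (A ⧸ q) := by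
  have hinj : Function.Injective (Ideal.quotientMap q φ le_rfl) := Ideal.quotientMap_injective
  have hint : (Ideal.quotientMap q φ le_rfl).IsIntegral := RingHom.IsIntegral.quotient φ hφ
  letI : Algebra (B ⧸ q.comap φ) (A ⧸ q) := (Ideal.quotientMap q φ le_rfl).toAlgebra
  haveI : Algebra.IsIntegral (B ⧸ q.comap φ) (A ⧸ q) := ⟨hint⟩
  exact (Groth.Agent.Helper5.IntegralDim.ringKrullDim_eq_of_isIntegral_of_injective
    (R := B ⧸ q.comap φ) (S := A ⧸ q) hinj).symm

/-- dimension along an injective integral ring map. -/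
lemma ringKrullDim_eq_of_integral_injective {B A : Type*} [CommRing B] [CommRing A] (φ : B →+* A)
    (hφ : φ.IsIntegral) (hinj : Function.Injective φ) : ringKrullDim B = ringKrullDim A := by
  letI : Algebra B A := φ.toAlgebra
  haveI : Algebra.IsIntegral B A := ⟨hφ⟩
  exact (Groth.Agent.Helper5.IntegralDim.ringKrullDim_eq_of_isIntegral_of_injective
    (R := B) (S := A) hinj).symm

/-- a quotient of a finite-dimensional domain of the same dimension is the domain itself. -/
lemma eq_bot_of_le_ringKrullDim_quotient {B : Type*} [CommRing B] [IsDomain B] (n : ℕ)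
    (hB : ringKrullDim B = (n : WithBot ℕ∞)) (I : Ideal B)
    (hI : (n : WithBot ℕ∞) ≤ ringKrullDim (B ⧸ I)) : I = ⊥ := by
  by_contra hne
  obtain ⟨f, hfI, hf0⟩ := Submodule.exists_mem_ne_zero_of_ne_bot hne
  have h1 : ringKrullDim (B ⧸ Ideal.span {f}) + 1 ≤ ringKrullDim B :=
    ringKrullDim_quotient_succ_le_of_nonZeroDivisor (mem_nonZeroDivisors_of_ne_zero hf0)
  have hle : Ideal.span {f} ≤ I := (Ideal.span_singleton_le_iff_mem _).mpr hfI
  have h2 : ringKrullDim (B ⧸ I) ≤ ringKrullDim (B ⧸ Ideal.span {f}) :=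
    ringKrullDim_le_of_surjective (Ideal.Quotient.factor hle) (Ideal.Quotient.factor_surjective hle)
  have h3 : (n : WithBot ℕ∞) + 1 ≤ (n : WithBot ℕ∞) := by
    calc (n : WithBot ℕ∞) + 1 ≤ ringKrullDim (B ⧸ Ideal.span {f}) + 1 := by
          gcongr; exact hI.trans h2
      _ ≤ ringKrullDim B := h1
      _ = n := hB
  have h4 : ((n + 1 : ℕ) : WithBot ℕ∞) ≤ ((n : ℕ) : WithBot ℕ∞) := by
    push_cast; exact h3
  have h5 : n + 1 ≤ n := by exact_mod_cast h4
  omega

variable (k : Type*) [Field k]

lemma ringKrullDim_mvPolynomial_fin (n : ℕ) :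
    ringKrullDim (MvPolynomial (Fin n) k) = (n : WithBot ℕ∞) := by
  rw [MvPolynomial.ringKrullDim_of_isNoetherianRing, ringKrullDim_eq_zero_of_field, zero_add]
  simp

/-- the variables with index `≥ h`. -/
def tailFun (d h : ℕ) : Fin (d - h) → Fin d := fun j => ⟨h + j.val, by omega⟩

lemma tailFun_injective (d h : ℕ) : Function.Injective (tailFun d h) := by
  intro a b hab
  simp only [tailFun, Fin.mk.injEq] at hab
  exact Fin.ext (by omega)

lemma mem_range_tailFun {d h : ℕ} (l : Fin d) : l ∈ Set.range (tailFun d h) ↔ h ≤ l.val := by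
  constructor
  · rintro ⟨j, rfl⟩; simp [tailFun]
  · intro hl
    exact ⟨⟨l.val - h, by omega⟩, Fin.ext (by simp [tailFun]; omega)⟩

/-- the ideal `(T_l : l < h)`. -/
noncomputable def headIdeal (d h : ℕ) : Ideal (MvPolynomial (Fin d) k) :=
  Ideal.span (X '' {l : Fin d | (l : ℕ) < h})

/-- killing the first `h` variables. -/
noncomputable def killHead (d h : ℕ) : MvPolynomial (Fin d) k →ₐ[k] MvPolynomial (Fin (d - h)) k :=
  killCompl (tailFun_injective d h)

lemma killHead_X_of_lt {d h : ℕ} (l : Fin d) (hl : l.val < h) : killHead k d h (X l) = 0 := by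
  have : l ∉ Set.range (tailFun d h) := by rw [mem_range_tailFun]; omega
  simp only [killHead, killCompl, aeval_X, dif_neg this]

lemma killHead_X_tail {d h : ℕ} (j : Fin (d - h)) : killHead k d h (X (tailFun d h j)) = X j := by
  have := killCompl_rename_app (R := k) (tailFun_injective d h) (X j)
  rwa [rename_X] at this

lemma killHead_surjective (d h : ℕ) : Function.Surjective (killHead k d h) := fun p =>
  ⟨rename (tailFun d h) p, killCompl_rename_app (tailFun_injective d h) p⟩

lemma sub_rename_killHead_mem {d h : ℕ} (p : MvPolynomial (Fin d) k) :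
    p - rename (tailFun d h) (killHead k d h p) ∈ headIdeal k d h := by
  induction p using MvPolynomial.induction_on with
  | C a => simp [killHead]
  | add p q hp hq =>
    have : p + q - rename (tailFun d h) (killHead k d h (p + q))
        = (p - rename (tailFun d h) (killHead k d h p))
          + (q - rename (tailFun d h) (killHead k d h q)) := by
      rw [map_add, map_add]; ring
    rw [this]; exact Ideal.add_mem _ hp hq
  | mul_X p l hp =>
    by_cases hl : l.val < h
    · have : p * X l - rename (tailFun d h) (killHead k d h (p * X l)) = p * X l := by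
        rw [map_mul, killHead_X_of_lt k l hl, mul_zero, map_zero, sub_zero]
      rw [this]
      exact Ideal.mul_mem_left _ _ (Ideal.subset_span ⟨l, hl, rfl⟩)
    · obtain ⟨j, rfl⟩ := (mem_range_tailFun (d := d) (h := h) l).mpr (by omega)
      have : p * X (tailFun d h j) - rename (tailFun d h) (killHead k d h (p * X (tailFun d h j)))
          = (p - rename (tailFun d h) (killHead k d h p)) * X (tailFun d h j) := by
        rw [map_mul, killHead_X_tail, map_mul, rename_X]; ring
      rw [this]
      exact Ideal.mul_mem_right _ _ hp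

lemma ker_killHead (d h : ℕ) :
    RingHom.ker ((killHead k d h : MvPolynomial (Fin d) k →ₐ[k] _) :
      MvPolynomial (Fin d) k →+* MvPolynomial (Fin (d - h)) k) = headIdeal k d h := by
  apply le_antisymm
  · intro p hp
    rw [RingHom.mem_ker] at hp
    have h1 := sub_rename_killHead_mem k (d := d) (h := h) p
    have h2 : killHead k d h p = 0 := hp
    rwa [h2, map_zero, sub_zero] at h1
  · unfold headIdeal
    rw [Ideal.span_le]
    rintro _ ⟨l, hl, rfl⟩
    rw [SetLike.mem_coe, RingHom.mem_ker]
    exact killHead_X_of_lt k l hl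

instance headIdeal_isPrime (d h : ℕ) : (headIdeal k d h).IsPrime := by
  rw [← ker_killHead]
  exact RingHom.ker_isPrime _

/-- `k[T]/(T_l : l < h) ≃ k[T_h, …]`. -/
noncomputable def headQuotEquiv (d h : ℕ) :
    (MvPolynomial (Fin d) k ⧸ headIdeal k d h) ≃+* MvPolynomial (Fin (d - h)) k :=
  (Ideal.quotEquivOfEq (ker_killHead k d h).symm).trans
    (RingHom.quotientKerEquivOfSurjective (f := ((killHead k d h : MvPolynomial (Fin d) k →ₐ[k] _) :
      MvPolynomial (Fin d) k →+* MvPolynomial (Fin (d - h)) k)) (killHead_surjective k d h))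

lemma ringKrullDim_quotient_headIdeal (d h : ℕ) :
    ringKrullDim (MvPolynomial (Fin d) k ⧸ headIdeal k d h) = ((d - h : ℕ) : WithBot ℕ∞) := by
  rw [ringKrullDim_eq_of_ringEquiv (headQuotEquiv k d h), ringKrullDim_mvPolynomial_fin]

instance isIntegrallyClosed_quotient_headIdeal (d h : ℕ) :
    IsIntegrallyClosed (MvPolynomial (Fin d) k ⧸ headIdeal k d h) := by
  haveI h1 : UniqueFactorizationMonoid (MvPolynomial (Fin (d - h)) k) := inferInstance
  haveI h2 : IsIntegrallyClosed (MvPolynomial (Fin (d - h)) k) := inferInstance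
  exact IsIntegrallyClosed.of_equiv (headQuotEquiv k d h).symm

lemma headIdeal_mono (d : ℕ) {a b : ℕ} (hab : a ≤ b) : headIdeal k d a ≤ headIdeal k d b :=
  Ideal.span_mono (Set.image_mono fun _ hl => lt_of_lt_of_le hl hab)

lemma headIdeal_zero (d : ℕ) : headIdeal k d 0 = ⊥ := by
  unfold headIdeal
  simp

lemma X_mem_headIdeal {d h : ℕ} (l : Fin d) (hl : l.val < h) : (X l : MvPolynomial (Fin d) k) ∈ headIdeal k d h :=
  Ideal.subset_span ⟨l, hl, rfl⟩

lemma X_notMem_headIdeal {d h : ℕ} (l : Fin d) (hl : h ≤ l.val) :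
    (X l : MvPolynomial (Fin d) k) ∉ headIdeal k d h := by
  intro hmem
  rw [← ker_killHead, RingHom.mem_ker] at hmem
  obtain ⟨j, rfl⟩ := (mem_range_tailFun (d := d) (h := h) l).mpr hl
  have h1 : killHead k d h (X (tailFun d h j)) = 0 := hmem
  rw [killHead_X_tail] at h1
  exact X_ne_zero j h1

lemma headIdeal_lt (d : ℕ) {a b : ℕ} (hab : a < b) (had : a < d) :
    headIdeal k d a < headIdeal k d b := by
  have hle := headIdeal_mono k d hab.le
  have hne : headIdeal k d a ≠ headIdeal k d b := by
    intro heq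
    have h1 : (X (⟨a, had⟩ : Fin d) : MvPolynomial (Fin d) k) ∈ headIdeal k d b :=
      X_mem_headIdeal k (⟨a, had⟩ : Fin d) hab
    have h2 : (X (⟨a, had⟩ : Fin d) : MvPolynomial (Fin d) k) ∉ headIdeal k d a :=
      X_notMem_headIdeal k (⟨a, had⟩ : Fin d) (Nat.le_refl a)
    exact h2 (heq ▸ h1)
  exact lt_of_le_of_ne hle hne

lemma le_of_headIdeal_le (d : ℕ) {a b : ℕ} (ha : a ≤ d) (h : headIdeal k d a ≤ headIdeal k d b) :
    a ≤ b := by
  by_contra hlt
  push_neg at hlt
  have hbd : b < d := by omega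
  have h1 : (X (⟨b, hbd⟩ : Fin d) : MvPolynomial (Fin d) k) ∈ headIdeal k d a :=
    X_mem_headIdeal k (⟨b, hbd⟩ : Fin d) hlt
  exact X_notMem_headIdeal k (⟨b, hbd⟩ : Fin d) (Nat.le_refl b) (h h1)

variable {k}

/-- injectivity from the dimension. -/
lemma injective_of_intOver_of_dim {n : ℕ} {A : Type*} [CommRing A] [IsDomain A] [Algebra k A]
    (x : Fin n → A) (hint : IntOver k x) (hdim : ringKrullDim A = (n : WithBot ℕ∞)) :
    Function.Injective (aeval x : MvPolynomial (Fin n) k →ₐ[k] A) := by
  have h1 := ringKrullDim_quotient_comap _ hint (⊥ : Ideal A)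
  rw [ringKrullDim_eq_of_ringEquiv (RingEquiv.quotientBot A), hdim] at h1
  have h2 := eq_bot_of_le_ringKrullDim_quotient n (ringKrullDim_mvPolynomial_fin k n) _ h1.ge
  rw [← RingHom.ker_eq_comap_bot] at h2
  exact (RingHom.injective_iff_ker_eq_bot _).mpr h2

/-- the contraction of a prime of the expected dimension containing the first `h` variables. -/
lemma comap_eq_headIdeal {d h : ℕ} {A : Type*} [CommRing A] [Algebra k A]
    (x : Fin d → A) (hint : IntOver k x) (q : Ideal A)
    (hx : ∀ l : Fin d, l.val < h → x l ∈ q)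
    (hdim : ringKrullDim (A ⧸ q) = ((d - h : ℕ) : WithBot ℕ∞)) :
    q.comap (aeval x : MvPolynomial (Fin d) k →ₐ[k] A) = headIdeal k d h := by
  have hle : headIdeal k d h ≤ q.comap (aeval x : MvPolynomial (Fin d) k →ₐ[k] A) := by
    unfold headIdeal
    rw [Ideal.span_le]
    rintro _ ⟨l, hl, rfl⟩
    rw [SetLike.mem_coe, Ideal.mem_comap, aeval_X]
    exact hx l hl
  refine le_antisymm ?_ hle
  have h1 := ringKrullDim_quotient_comap _ hint q
  rw [hdim] at h1
  have h2 := ringKrullDim_eq_of_ringEquiv (DoubleQuot.quotQuotEquivQuotOfLE hle)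
  have h3 : Ideal.map (Ideal.Quotient.mk (headIdeal k d h))
      (q.comap (aeval x : MvPolynomial (Fin d) k →ₐ[k] A)) = ⊥ := by
    apply eq_bot_of_le_ringKrullDim_quotient (d - h) (ringKrullDim_quotient_headIdeal k d h)
    rw [h2]
    exact h1.ge
  rw [Ideal.map_eq_bot_iff_le_ker, Ideal.mk_ker] at h3
  exact h3

end Groth.Agent.Helper8.NNTrack
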