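import Groth.Agent.Helper8.NNTrackC
import Groth.Agent.S10843

/-!
Noether normalization adapted to a chain of primes: existence of the adapted family.
-/

set_option autoImplicit false
universe u

namespace Groth.Agent.Helper8.NNTrack

open MvPolynomial

lemma comap_map_mk {A : Type*} [CommRing A] (q I : Ideal A) (h : q ≤ I) :
    (I.map (Ideal.Quotient.mk q)).comap (Ideal.Quotient.mk q) = I := by
  rw [Ideal.comap_map_of_surjective _ Ideal.Quotient.mk_surjective, ← RingHom.ker_eq_comap_bot,
    Ideal.mk_ker, sup_eq_left.mpr h]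

variable {k : Type u} [Field k]

lemma mk_comp_aeval {A : Type u} [CommRing A] [Algebra k A] (q₀ : Ideal A) {m : ℕ} (y : Fin m → A) :
    (Ideal.Quotient.mk q₀).comp
      ((aeval y : MvPolynomial (Fin m) k →ₐ[k] A) : MvPolynomial (Fin m) k →+* A)
      = ((aeval (fun j => Ideal.Quotient.mk q₀ (y j)) : MvPolynomial (Fin m) k →ₐ[k] A ⧸ q₀) :
        MvPolynomial (Fin m) k →+* A ⧸ q₀) := by
  apply MvPolynomial.ringHom_ext
  · intro c
    simp only [RingHom.comp_apply, RingHom.coe_coe, aeval_C]
    rfl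
  · intro j
    simp only [RingHom.comp_apply, RingHom.coe_coe, aeval_X]

/-- the initial family for the tracking lemma. -/
lemma exists_initial_family {A : Type u} [CommRing A] [Algebra k A] [Algebra.FiniteType k A]
    (q₀ : Ideal A) {m : ℕ} (y : Fin m → A)
    (hint' : IntOver k (fun j => Ideal.Quotient.mk q₀ (y j))) :
    ∃ (n₀ : ℕ) (v : Fin (n₀ + m) → A), (∀ i : Fin (n₀ + m), i.val < n₀ → v i ∈ q₀) ∧
      (∀ (i : Fin (n₀ + m)) (j : Fin m), i.val = n₀ + j.val → v i = y j) ∧ IntOver k v := by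
  classical
  obtain ⟨s, hs⟩ := (Algebra.FiniteType.out : (⊤ : Subalgebra k A).FG)
  set n₀ := s.card with hn₀
  let a : Fin n₀ → A := fun t => ((s.equivFin.symm t : s) : A)
  have ha_range : ∀ c ∈ s, ∃ t, a t = c := by
    intro c hc
    exact ⟨s.equivFin ⟨c, hc⟩, by simp [a]⟩
  have hroot : ∀ t : Fin n₀, ∃ p : Polynomial (MvPolynomial (Fin m) k), p.Monic ∧
      Polynomial.eval₂ ((aeval (fun j => Ideal.Quotient.mk q₀ (y j)) :
        MvPolynomial (Fin m) k →ₐ[k] A ⧸ q₀) : MvPolynomial (Fin m) k →+* A ⧸ q₀)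
        (Ideal.Quotient.mk q₀ (a t)) p = 0 := fun t => hint' _
  choose p hpm hp0 using hroot
  let z : Fin n₀ → A := fun t =>
    Polynomial.eval₂ ((aeval y : MvPolynomial (Fin m) k →ₐ[k] A) : MvPolynomial (Fin m) k →+* A)
      (a t) (p t * Polynomial.X)
  have hz : ∀ t, z t ∈ q₀ := by
    intro t
    rw [← Ideal.Quotient.eq_zero_iff_mem]
    show Ideal.Quotient.mk q₀ (Polynomial.eval₂ _ (a t) (p t * Polynomial.X)) = 0
    rw [Polynomial.hom_eval₂, mk_comp_aeval, Polynomial.eval₂_mul, hp0, zero_mul]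
  refine ⟨n₀, Fin.append z y, ?_, ?_, ?_⟩
  · intro i hi
    obtain ⟨t, rfl⟩ : ∃ t : Fin n₀, i = Fin.castAdd m t := ⟨⟨i.val, hi⟩, Fin.ext rfl⟩
    rw [Fin.append_left]; exact hz t
  · intro i j hij
    obtain rfl : i = Fin.natAdd n₀ j := Fin.ext hij
    rw [Fin.append_right]
  · set v : Fin (n₀ + m) → A := Fin.append z y with hv
    letI : Algebra (MvPolynomial (Fin (n₀ + m)) k) A :=
      ((aeval v : MvPolynomial (Fin (n₀ + m)) k →ₐ[k] A) :
        MvPolynomial (Fin (n₀ + m)) k →+* A).toAlgebra
    have halg : ∀ g : MvPolynomial (Fin (n₀ + m)) k,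
        algebraMap (MvPolynomial (Fin (n₀ + m)) k) A g = aeval v g := fun g => rfl
    let IC := integralClosure (MvPolynomial (Fin (n₀ + m)) k) A
    have hcomp : ((aeval v : MvPolynomial (Fin (n₀ + m)) k →ₐ[k] A) :
        MvPolynomial (Fin (n₀ + m)) k →+* A).comp
        ((rename (Fin.natAdd n₀) : MvPolynomial (Fin m) k →ₐ[k] MvPolynomial (Fin (n₀ + m)) k) :
          MvPolynomial (Fin m) k →+* MvPolynomial (Fin (n₀ + m)) k)
        = ((aeval y : MvPolynomial (Fin m) k →ₐ[k] A) : MvPolynomial (Fin m) k →+* A) := by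
      apply MvPolynomial.ringHom_ext
      · intro c
        simp only [RingHom.comp_apply, RingHom.coe_coe, rename_C, aeval_C]
      · intro j
        simp only [RingHom.comp_apply, RingHom.coe_coe, rename_X, aeval_X, hv, Fin.append_right]
    have haIC : ∀ t, a t ∈ IC := by
      intro t
      have hmon1 : ((p t * Polynomial.X).map
          ((rename (Fin.natAdd n₀) : MvPolynomial (Fin m) k →ₐ[k] MvPolynomial (Fin (n₀ + m)) k) :
          MvPolynomial (Fin m) k →+* MvPolynomial (Fin (n₀ + m)) k)).Monic :=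
        ((hpm t).mul Polynomial.monic_X).map _
      have hdeg : (Polynomial.C (X (Fin.castAdd m t) : MvPolynomial (Fin (n₀ + m)) k)).degree
          < ((p t * Polynomial.X).map
          ((rename (Fin.natAdd n₀) : MvPolynomial (Fin m) k →ₐ[k] MvPolynomial (Fin (n₀ + m)) k) :
          MvPolynomial (Fin m) k →+* MvPolynomial (Fin (n₀ + m)) k)).degree := by
        rw [Polynomial.degree_eq_natDegree hmon1.ne_zero,
          ((hpm t).mul Polynomial.monic_X).natDegree_map,
          (hpm t).natDegree_mul Polynomial.monic_X, Polynomial.natDegree_X]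
        refine lt_of_le_of_lt Polynomial.degree_C_le ?_
        exact_mod_cast Nat.succ_pos _
      refine ⟨_, hmon1.sub_of_left hdeg, ?_⟩
      rw [Polynomial.eval₂_sub, Polynomial.eval₂_map, Polynomial.eval₂_C, halg, aeval_X]
      have : (algebraMap (MvPolynomial (Fin (n₀ + m)) k) A).comp
          ((rename (Fin.natAdd n₀) : MvPolynomial (Fin m) k →ₐ[k] MvPolynomial (Fin (n₀ + m)) k) :
          MvPolynomial (Fin m) k →+* MvPolynomial (Fin (n₀ + m)) k)
          = ((aeval y : MvPolynomial (Fin m) k →ₐ[k] A) : MvPolynomial (Fin m) k →+* A) := hcomp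
      rw [this, hv, Fin.append_left]
      exact sub_self _
    intro c
    have hc : c ∈ Algebra.adjoin k (↑s : Set A) := by rw [hs]; trivial
    show IsIntegral (MvPolynomial (Fin (n₀ + m)) k) c
    induction hc using Algebra.adjoin_induction with
    | mem x hx =>
      obtain ⟨t, rfl⟩ := ha_range x hx
      exact haIC t
    | algebraMap r =>
      have : algebraMap k A r = algebraMap (MvPolynomial (Fin (n₀ + m)) k) A (C r) := by
        rw [halg, aeval_C]
      rw [this]; exact isIntegral_algebraMap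
    | add x y _ _ hx hy => exact hx.add hy
    | mul x y _ _ hx hy => exact hx.mul hy

/-- the adapted family. -/
theorem exists_family : ∀ (r : ℕ) (A : Type u) [CommRing A] [IsDomain A] [Algebra k A]
    [Algebra.FiniteType k A] (d : ℕ) (_ : ringKrullDim A = (d : WithBot ℕ∞))
    (q : Fin r → PrimeSpectrum A) (_ : StrictMono q) (h : Fin r → ℕ) (_ : ∀ i, h i ≤ d)
    (_ : ∀ i, ringKrullDim (A ⧸ (q i).asIdeal) = ((d - h i : ℕ) : WithBot ℕ∞)),
    ∃ x : Fin d → A, IntOver k x ∧ ∀ (i : Fin r) (l : Fin d), l.val < h i → x l ∈ (q i).asIdeal := by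
  intro r
  induction r with
  | zero =>
    intro A _ _ _ _ d hd q hq h hh hdim
    obtain ⟨φ, hfin, hinj⟩ := (Groth.Agent.S10843.result k A d).mp hd
    refine ⟨fun l => φ (X l), ?_, fun i => i.elim0⟩
    have : (aeval (fun l => φ (X l)) : MvPolynomial (Fin d) k →ₐ[k] A) = φ := (aeval_unique φ).symm
    unfold IntOver
    rw [this]
    exact RingHom.Finite.to_isIntegral hfin
  | succ r ih =>
    intro A _ _ _ _ d hd q hq h hh hdim
    set q₀ : Ideal A := (q 0).asIdeal with hq₀
    set h₀ := h 0 with hh₀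
    haveI : q₀.IsPrime := (q 0).isPrime
    haveI : Algebra.FiniteType k (A ⧸ q₀) :=
      Algebra.FiniteType.of_surjective (Ideal.Quotient.mkₐ k q₀) (Ideal.Quotient.mkₐ_surjective k q₀)
    have hle : ∀ i : Fin r, q₀ ≤ (q i.succ).asIdeal := fun i =>
      (hq (Fin.succ_pos i)).le
    -- the chain in the quotient
    let q' : Fin r → PrimeSpectrum (A ⧸ q₀) := fun i =>
      ⟨(q i.succ).asIdeal.map (Ideal.Quotient.mk q₀),
        Ideal.map_isPrime_of_surjective Ideal.Quotient.mk_surjective
          (by rw [Ideal.mk_ker]; exact hle i)⟩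
    have hq'_def : ∀ i, (q' i).asIdeal = (q i.succ).asIdeal.map (Ideal.Quotient.mk q₀) := fun i => rfl
    have hq' : StrictMono q' := by
      intro i j hij
      have h1 : q i.succ < q j.succ := hq (Fin.succ_lt_succ_iff.mpr hij)
      refine lt_of_le_of_ne (Ideal.map_mono h1.le) ?_
      intro heq
      have h2 : (q' i).asIdeal = (q' j).asIdeal := congrArg PrimeSpectrum.asIdeal heq
      rw [hq'_def, hq'_def] at h2
      have h3 := congrArg (Ideal.comap (Ideal.Quotient.mk q₀)) h2
      rw [comap_map_mk _ _ (hle i), comap_map_mk _ _ (hle j)] at h3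
      exact h1.ne (PrimeSpectrum.ext h3)
    -- numerics
    have hh₀d : h₀ ≤ d := hh 0
    have hh₀le : ∀ i : Fin r, h₀ ≤ h i.succ := by
      intro i
      have h1 : ringKrullDim (A ⧸ (q i.succ).asIdeal) ≤ ringKrullDim (A ⧸ q₀) :=
        ringKrullDim_le_of_surjective (Ideal.Quotient.factor (hle i))
          (Ideal.Quotient.factor_surjective (hle i))
      rw [hdim i.succ, hdim 0] at h1
      have h2 : d - h i.succ ≤ d - h 0 := by exact_mod_cast h1
      have := hh i.succ
      omega
    have hd' : ringKrullDim (A ⧸ q₀) = ((d - h₀ : ℕ) : WithBot ℕ∞) := hdim 0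
    have hdim' : ∀ i : Fin r, ringKrullDim ((A ⧸ q₀) ⧸ (q' i).asIdeal)
        = (((d - h₀) - (h i.succ - h₀) : ℕ) : WithBot ℕ∞) := by
      intro i
      rw [hq'_def, ringKrullDim_eq_of_ringEquiv (DoubleQuot.quotQuotEquivQuotOfLE (hle i)),
        hdim i.succ]
      have := hh₀le i
      have := hh i.succ
      congr 1
      omega
    obtain ⟨x', hint', hx'⟩ := ih (A ⧸ q₀) (d - h₀) hd' q' hq' (fun i => h i.succ - h₀)
      (fun i => by have := hh i.succ; omega) hdim'
    have hx'alg : AlgebraicIndependent k x' := injective_of_intOver_of_dim x' hint' hd'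
    -- lift
    have hlift : ∀ j : Fin (d - h₀), ∃ a : A, Ideal.Quotient.mk q₀ a = x' j :=
      fun j => Ideal.Quotient.mk_surjective _
    choose y hy using hlift
    have hx'y : (fun j => Ideal.Quotient.mk q₀ (y j)) = x' := funext hy
    obtain ⟨n₀, v, hv1, hv2, hvint⟩ := exists_initial_family (k := k) q₀ y (by rw [hx'y]; exact hint')
    obtain ⟨n', N', hN', w, hw1, hw2, hwint, hwalg⟩ :=
      tracking q₀ x' hx'alg n₀ (n₀ + (d - h₀)) rfl v hv1
        (fun i j hij => by rw [hv2 i j hij, hy]) hvint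
    -- the dimension count
    have hNd : N' = d := by
      have h1 := ringKrullDim_eq_of_integral_injective _ hwint hwalg
      rw [ringKrullDim_mvPolynomial_fin, hd] at h1
      exact_mod_cast h1
    subst hNd
    have hn' : n' = h₀ := by omega
    subst hn'
    refine ⟨w, hwint, ?_⟩
    intro i l hl
    refine Fin.cases ?_ (fun i' => ?_) i hl
    · intro hl
      exact hw1 l hl
    · intro hl
      by_cases hlt : l.val < h 0
      · exact hle i' (hw1 l hlt)
      · have hjlt : l.val - h 0 < N' - h 0 := by have := l.isLt; omega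
        have h1 := hw2 l ⟨l.val - h 0, hjlt⟩ (by simp; omega)
        have h2 := hx' i' ⟨l.val - h 0, hjlt⟩ (by simp; omega)
        rw [← h1, hq'_def] at h2
        have h3 : w l ∈ ((q i'.succ).asIdeal.map (Ideal.Quotient.mk q₀)).comap (Ideal.Quotient.mk q₀) := h2
        rwa [comap_map_mk _ _ (hle i')] at h3

end Groth.Agent.Helper8.NNTrack
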