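import Groth.Agent.Helper8.NNTrackD

/-!
Noether normalization adapted to a chain of primes: the full chain through the given primes.
-/

set_option autoImplicit false
universe u

namespace Groth.Agent.Helper8.NNTrack

open MvPolynomial

/-- relative going down: a prime between `L` and `Qp` over a given prime of the base. -/
lemma exists_prime_between {B A : Type*} [CommRing B] [CommRing A] (φ : B →+* A)
    (hφ : φ.IsIntegral) (L Qp : Ideal A) [hL : L.IsPrime] [hQp : Qp.IsPrime] (hLQ : L ≤ Qp)
    [IsIntegrallyClosed (B ⧸ L.comap φ)] (p : Ideal B) [hp : p.IsPrime] (hLp : L.comap φ ≤ p)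
    (hpQ : p ≤ Qp.comap φ) :
    ∃ Q : Ideal A, Q.IsPrime ∧ L ≤ Q ∧ Q ≤ Qp ∧ Q.comap φ = p := by
  haveI : (L.comap φ).IsPrime := Ideal.comap_isPrime φ L
  let ψ : B ⧸ L.comap φ →+* A ⧸ L := Ideal.quotientMap L φ le_rfl
  have hψinj : Function.Injective ψ := Ideal.quotientMap_injective
  have hψint : ψ.IsIntegral := RingHom.IsIntegral.quotient φ hφ
  letI : Algebra (B ⧸ L.comap φ) (A ⧸ L) := ψ.toAlgebra
  haveI : Algebra.IsIntegral (B ⧸ L.comap φ) (A ⧸ L) := ⟨hψint⟩
  haveI : FaithfulSMul (B ⧸ L.comap φ) (A ⧸ L) :=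
    (faithfulSMul_iff_algebraMap_injective _ _).mpr hψinj
  let pbar : Ideal (B ⧸ L.comap φ) := p.map (Ideal.Quotient.mk (L.comap φ))
  haveI : pbar.IsPrime := Ideal.map_isPrime_of_surjective Ideal.Quotient.mk_surjective
    (by rw [Ideal.mk_ker]; exact hLp)
  let Qbar : Ideal (A ⧸ L) := Qp.map (Ideal.Quotient.mk L)
  haveI : Qbar.IsPrime := Ideal.map_isPrime_of_surjective Ideal.Quotient.mk_surjective
    (by rw [Ideal.mk_ker]; exact hLQ)
  have hle : pbar ≤ Qbar.under (B ⧸ L.comap φ) := by
    rw [Ideal.map_le_iff_le_comap]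
    intro b hb
    show ψ (Ideal.Quotient.mk _ b) ∈ Qbar
    rw [Ideal.quotientMap_mk]
    exact Ideal.mem_map_of_mem _ (hpQ hb)
  obtain ⟨Pbar, hPQ, hPprime, hPover⟩ := Ideal.exists_ideal_le_liesOver_of_le Qbar hle
  refine ⟨Pbar.comap (Ideal.Quotient.mk L), Ideal.comap_isPrime _ _, ?_, ?_, ?_⟩
  · intro l hl
    rw [Ideal.mem_comap, Ideal.Quotient.eq_zero_iff_mem.mpr hl]; exact Pbar.zero_mem
  · calc Pbar.comap (Ideal.Quotient.mk L) ≤ Qbar.comap (Ideal.Quotient.mk L) :=
          Ideal.comap_mono hPQ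
      _ = Qp := comap_map_mk L Qp hLQ
  · ext x
    have h1 : pbar = Pbar.comap ψ := hPover.over
    have h2 : Ideal.Quotient.mk L (φ x) = ψ (Ideal.Quotient.mk _ x) :=
      (Ideal.quotientMap_mk (f := φ) (I := L) (H := le_rfl)).symm
    rw [Ideal.mem_comap, Ideal.mem_comap, h2, ← Ideal.mem_comap, ← h1, ← Ideal.mem_comap,
      comap_map_mk _ _ hLp]

variable {k : Type u} [Field k]

/-- the chain, from the index `b` upward. -/
def ChainFrom {A : Type u} [CommRing A] [Algebra k A] {d r : ℕ}
    (φ : MvPolynomial (Fin d) k →ₐ[k] A) (q : Fin r → PrimeSpectrum A) (h : Fin r → ℕ) (b : ℕ) : Prop :=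
  ∃ Q : ℕ → PrimeSpectrum A,
    (∀ j, b ≤ j → j ≤ d → (Q j).asIdeal.comap φ = headIdeal k d j) ∧
    (∀ j, b ≤ j → j < d → Q j < Q (j + 1)) ∧
    (∀ i, b ≤ h i → Q (h i) = q i) ∧
    (∀ i, h i < b → q i ≤ Q b)

theorem part2 (A : Type u) [CommRing A] [IsDomain A] [Algebra k A] (d : ℕ)
    (r : ℕ) (q : Fin r → PrimeSpectrum A) (hq : StrictMono q) (h : Fin r → ℕ) (hh : ∀ i, h i ≤ d)
    (φ : MvPolynomial (Fin d) k →ₐ[k] A) (hfin : φ.toRingHom.Finite) (hinj : Function.Injective φ)
    (hcomap : ∀ i, (q i).asIdeal.comap φ = Ideal.span (X '' {l : Fin d | (l : ℕ) < h i})) :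
    ∃ Q : ℕ → PrimeSpectrum A,
      (∀ j, j ≤ d → (Q j).asIdeal.comap φ = Ideal.span (X '' {l : Fin d | (l : ℕ) < j})) ∧
      (∀ j, j < d → Q j < Q (j + 1)) ∧ (∀ i, Q (h i) = q i) := by
  classical
  have hint : (φ : MvPolynomial (Fin d) k →+* A).IsIntegral := RingHom.Finite.to_isIntegral hfin
  have hcomap' : ∀ i, (q i).asIdeal.comap φ = headIdeal k d (h i) := hcomap
  -- `h` is strictly monotone
  have hmono : StrictMono h := by
    intro i i' hii
    have h1 : (q i).asIdeal < (q i').asIdeal := hq hii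
    letI : Algebra (MvPolynomial (Fin d) k) A := (φ : MvPolynomial (Fin d) k →+* A).toAlgebra
    haveI : Algebra.IsIntegral (MvPolynomial (Fin d) k) A := ⟨hint⟩
    have h2 : (q i).asIdeal.comap (algebraMap (MvPolynomial (Fin d) k) A)
        < (q i').asIdeal.comap (algebraMap (MvPolynomial (Fin d) k) A) :=
      Ideal.IsIntegral.comap_lt_comap h1
    have h3 : headIdeal k d (h i) < headIdeal k d (h i') := by
      rw [← hcomap' i, ← hcomap' i']; exact h2
    have h4 : h i ≤ h i' := le_of_headIdeal_le k d (hh i) h3.le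
    rcases h4.lt_or_eq with h5 | h5
    · exact h5
    · rw [h5] at h3; exact absurd h3 (lt_irrefl _)
  have hqmono : Monotone q := hq.monotone
  have hle_of_hle : ∀ i i', h i ≤ h i' → q i ≤ q i' := fun i i' hii =>
    hqmono (hmono.le_iff_le.mp hii)
  -- base of the recursion
  have hbase : ChainFrom φ q h d := by
    by_cases hex : ∃ i, h i = d
    · obtain ⟨i₀, hi₀⟩ := hex
      refine ⟨fun _ => q i₀, ?_, ?_, ?_, ?_⟩
      · intro j hj hj'
        have hjd : j = d := le_antisymm hj' hj
        show (q i₀).asIdeal.comap φ = headIdeal k d j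
        rw [hjd, hcomap' i₀, hi₀]
      · intro j hj hj'; omega
      · intro i hi
        have : h i = h i₀ := by have := hh i; omega
        rw [hmono.injective this]
      · intro i hi
        exact hle_of_hle i i₀ (by omega)
    · push_neg at hex
      -- a prime over `(T_l : l < d)` above all the `q i`
      have hup : ∃ Qd : PrimeSpectrum A, Qd.asIdeal.comap φ = headIdeal k d d ∧ ∀ i, q i ≤ Qd := by
        letI : Algebra (MvPolynomial (Fin d) k) A := (φ : MvPolynomial (Fin d) k →+* A).toAlgebra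
        haveI : Algebra.IsIntegral (MvPolynomial (Fin d) k) A := ⟨hint⟩
        rcases Nat.eq_zero_or_pos r with hr | hr
        · subst hr
          obtain ⟨Qd, -, hQd, hQd'⟩ := Ideal.exists_ideal_over_prime_of_isIntegral
            (headIdeal k d d) (⊥ : Ideal A) (by
              intro x hx
              have : x = 0 := by
                apply hinj
                rw [map_zero]
                exact hx
              rw [this]; exact Ideal.zero_mem _)
          exact ⟨⟨Qd, hQd⟩, hQd', fun i => i.elim0⟩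
        · obtain ⟨r', rfl⟩ : ∃ r', r = r' + 1 := ⟨r - 1, by omega⟩
          obtain ⟨Qd, hQdge, hQd, hQd'⟩ := Ideal.exists_ideal_over_prime_of_isIntegral
            (headIdeal k d d) (q (Fin.last r')).asIdeal (by
              show (q (Fin.last r')).asIdeal.comap φ ≤ _
              rw [hcomap']
              exact headIdeal_mono k d (hh _))
          refine ⟨⟨Qd, hQd⟩, hQd', fun i => ?_⟩
          exact (hqmono (Fin.le_last i)).trans hQdge
      obtain ⟨Qd, hQd, hQdge⟩ := hup
      refine ⟨fun _ => Qd, ?_, ?_, ?_, ?_⟩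
      · intro j hj hj'
        have hjd : j = d := le_antisymm hj' hj
        show Qd.asIdeal.comap φ = headIdeal k d j
        rw [hjd]; exact hQd
      · intro j hj hj'; omega
      · intro i hi
        exact absurd (le_antisymm (hh i) hi) (hex i)
      · intro i _; exact hQdge i
  -- one step down
  have hstep : ∀ b, b < d → ChainFrom φ q h (b + 1) → ChainFrom φ q h b := by
    intro b hbd ⟨Q, hQ1, hQ2, hQ3, hQ4⟩
    have hQb1 : (Q (b + 1)).asIdeal.comap φ = headIdeal k d (b + 1) := hQ1 (b + 1) le_rfl hbd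
    -- the new prime at index `b`
    have hnew : ∃ Qb : PrimeSpectrum A, Qb.asIdeal.comap φ = headIdeal k d b ∧ Qb ≤ Q (b + 1) ∧
        (∀ i, h i = b → Qb = q i) ∧ (∀ i, h i < b → q i ≤ Qb) := by
      by_cases hex : ∃ i, h i = b
      · obtain ⟨i₀, hi₀⟩ := hex
        refine ⟨q i₀, ?_, hQ4 i₀ (by omega), ?_, ?_⟩
        · rw [← hi₀]; exact hcomap' i₀
        · intro i hi
          rw [hmono.injective (hi.trans hi₀.symm)]
        · intro i hi
          exact hle_of_hle i i₀ (by omega)
      · push_neg at hex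
        -- the lower anchor
        have hlow : ∃ (L : PrimeSpectrum A) (a : ℕ), a ≤ b ∧ L.asIdeal.comap φ = headIdeal k d a ∧
            L ≤ Q (b + 1) ∧ ∀ i, h i < b → q i ≤ L := by
          by_cases hne : ∃ i, h i < b
          · obtain ⟨i₀, hi₀⟩ := hne
            obtain ⟨i₁, hi₁mem, hi₁max⟩ := Finset.exists_max_image
              (Finset.univ.filter fun i => h i < b) h ⟨i₀, by simp [hi₀]⟩
            have hi₁ : h i₁ < b := by simpa using hi₁mem
            refine ⟨q i₁, h i₁, hi₁.le, hcomap' i₁, hQ4 i₁ (by omega), ?_⟩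
            intro i hi
            exact hle_of_hle i i₁ (hi₁max i (by simp [hi]))
          · push_neg at hne
            refine ⟨⟨⊥, Ideal.isPrime_bot⟩, 0, Nat.zero_le _, ?_, bot_le, ?_⟩
            · rw [headIdeal_zero]
              ext x
              rw [Ideal.mem_comap, Ideal.mem_bot, Ideal.mem_bot]
              exact ⟨fun hx => hinj (by rw [hx, map_zero]), fun hx => by rw [hx, map_zero]⟩
            · intro i hi; exact absurd hi (not_lt.mpr (hne i))
        obtain ⟨L, a, hab, hLa, hLQ, hLge⟩ := hlow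
        haveI : L.asIdeal.IsPrime := L.isPrime
        haveI : (Q (b + 1)).asIdeal.IsPrime := (Q (b + 1)).isPrime
        haveI : IsIntegrallyClosed (MvPolynomial (Fin d) k ⧸
            L.asIdeal.comap (φ : MvPolynomial (Fin d) k →+* A)) := by
          have : L.asIdeal.comap (φ : MvPolynomial (Fin d) k →+* A) = headIdeal k d a := hLa
          rw [this]; infer_instance
        obtain ⟨Qb, hQbprime, hLQb, hQbQ, hQbcomap⟩ := exists_prime_between
          (φ : MvPolynomial (Fin d) k →+* A) hint L.asIdeal (Q (b + 1)).asIdeal hLQ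
          (headIdeal k d b)
          (by
            have : L.asIdeal.comap (φ : MvPolynomial (Fin d) k →+* A) = headIdeal k d a := hLa
            rw [this]; exact headIdeal_mono k d hab)
          (by
            have : (Q (b + 1)).asIdeal.comap (φ : MvPolynomial (Fin d) k →+* A)
                = headIdeal k d (b + 1) := hQb1
            rw [this]; exact headIdeal_mono k d (Nat.le_succ b))
        refine ⟨⟨Qb, hQbprime⟩, hQbcomap, hQbQ, ?_, ?_⟩
        · intro i hi; exact absurd hi (hex i)
        · intro i hi; exact (hLge i hi).trans hLQb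
    obtain ⟨Qb, hQb1', hQb2, hQb3, hQb4⟩ := hnew
    have hQblt : Qb < Q (b + 1) := by
      refine lt_of_le_of_ne hQb2 ?_
      intro heq
      have h1 : headIdeal k d b = headIdeal k d (b + 1) := by
        rw [← hQb1', ← hQb1, heq]
      exact (headIdeal_lt k d (Nat.lt_succ_self b) hbd).ne h1
    refine ⟨Function.update Q b Qb, ?_, ?_, ?_, ?_⟩
    · intro j hj hj'
      rcases hj.eq_or_lt with rfl | hj''
      · rw [Function.update_self]; exact hQb1'
      · rw [Function.update_of_ne (by omega)]; exact hQ1 j (by omega) hj'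
    · intro j hj hj'
      rcases hj.eq_or_lt with rfl | hj''
      · rw [Function.update_self, Function.update_of_ne (by omega)]; exact hQblt
      · rw [Function.update_of_ne (by omega), Function.update_of_ne (by omega)]
        exact hQ2 j (by omega) hj'
    · intro i hi
      rcases hi.eq_or_lt with hi' | hi'
      · rw [← hi', Function.update_self]; exact hQb3 i hi'.symm
      · rw [Function.update_of_ne (by omega)]; exact hQ3 i (by omega)
    · intro i hi
      rw [Function.update_self]; exact hQb4 i hi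
  -- descend to `0`
  have hall : ∀ t, t ≤ d → ChainFrom φ q h (d - t) := by
    intro t
    induction t with
    | zero => intro _; exact hbase
    | succ t ih =>
      intro ht
      have h1 := ih (by omega)
      have h2 : d - t = (d - (t + 1)) + 1 := by omega
      rw [h2] at h1
      exact hstep _ (by omega) h1
  obtain ⟨Q, hQ1, hQ2, hQ3, -⟩ := (by simpa using hall d le_rfl : ChainFrom φ q h 0)
  exact ⟨Q, fun j hj => hQ1 j (Nat.zero_le _) hj, fun j hj => hQ2 j (Nat.zero_le _) hj,
    fun i => hQ3 i (Nat.zero_le _)⟩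

theorem main (k A : Type u) [Field k]
    [CommRing A] [IsDomain A] [Algebra k A] [Algebra.FiniteType k A] (d : ℕ)
    (hd : ringKrullDim A = (d : WithBot ℕ∞))
    (r : ℕ) (q : Fin r → PrimeSpectrum A) (hq : StrictMono q) (h : Fin r → ℕ) (hh : ∀ i, h i ≤ d)
    (hdim : ∀ i, ringKrullDim (A ⧸ (q i).asIdeal) = ((d - h i : ℕ) : WithBot ℕ∞)) :
    (∃ φ : MvPolynomial (Fin d) k →ₐ[k] A, φ.toRingHom.Finite ∧ Function.Injective φ ∧
      ∀ i, (q i).asIdeal.comap φ = Ideal.span (MvPolynomial.X '' {l : Fin d | (l : ℕ) < h i})) ∧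
    (∀ φ : MvPolynomial (Fin d) k →ₐ[k] A, φ.toRingHom.Finite → Function.Injective φ →
      (∀ i, (q i).asIdeal.comap φ = Ideal.span (MvPolynomial.X '' {l : Fin d | (l : ℕ) < h i})) →
      ∃ Q : ℕ → PrimeSpectrum A,
        (∀ j, j ≤ d → (Q j).asIdeal.comap φ = Ideal.span (MvPolynomial.X '' {l : Fin d | (l : ℕ) < j})) ∧
        (∀ j, j < d → Q j < Q (j + 1)) ∧ (∀ i, Q (h i) = q i)) := by
  refine ⟨?_, fun φ hfin hinj hcomap => part2 A d r q hq h hh φ hfin hinj hcomap⟩
  obtain ⟨x, hint, hx⟩ := exists_family (k := k) r A d hd q hq h hh hdim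
  refine ⟨aeval x, ?_, injective_of_intOver_of_dim x hint hd,
    fun i => comap_eq_headIdeal x hint _ (hx i) (hdim i)⟩
  refine RingHom.IsIntegral.to_finite hint ?_
  have h1 : (algebraMap k A) = ((aeval x : MvPolynomial (Fin d) k →ₐ[k] A) :
      MvPolynomial (Fin d) k →+* A).comp (algebraMap k (MvPolynomial (Fin d) k)) := by
    ext c; simp
  have h2 : (algebraMap k A).FiniteType := RingHom.finiteType_algebraMap.mpr inferInstance
  rw [h1] at h2
  exact RingHom.FiniteType.of_comp_finiteType h2

end Groth.Agent.Helper8.NNTrack
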