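import Mathlib.Data.Finset.Prod
import Mathlib.Data.Finset.Card
import Mathlib.Data.Nat.GCD.Basic
import Mathlib.Algebra.BigOperators.Intervals
import Mathlib.Algebra.Order.BigOperators.Group.Finset
import Mathlib.Tactic

set_option autoImplicit false

namespace Groth.Agent.Helper8.NPCount

open Finset

/-- floor pairing -/
theorem floor_pair (m n a : ℕ) (hn : 0 < n) (hmn : Nat.Coprime m n) (ha : 0 < a) (han : a < n) :
    a * m / n + (n - a) * m / n = m - 1 := by
  have hnd : ¬ n ∣ a * m := by
    intro h
    have h1 : n ∣ a := (Nat.Coprime.dvd_mul_right hmn.symm).mp h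
    exact absurd (Nat.le_of_dvd ha h1) (by omega)
  set q := a * m / n with hq
  set r := a * m % n with hr
  have hdiv : a * m = n * q + r := (Nat.div_add_mod (a * m) n).symm
  have hr0 : 0 < r := Nat.pos_of_ne_zero (fun h => hnd (Nat.dvd_of_mod_eq_zero h))
  have hrn : r < n := Nat.mod_lt _ hn
  have hm1 : q + 1 ≤ m := by
    by_contra hcon
    push Not at hcon
    have : n * m ≤ n * q := Nat.mul_le_mul_left n (by omega)
    have : a * m < n * m := Nat.mul_lt_mul_of_pos_right han (by
      rcases Nat.eq_zero_or_pos m with h | h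
      · subst h; simp at hdiv; omega
      · exact h)
    omega
  have h2 : (n - a) * m = n * (m - q - 1) + (n - r) := by
    have e1 : (n - a) * m + a * m = n * m := by rw [← Nat.add_mul, Nat.sub_add_cancel han.le]
    have e2 : n * (m - q - 1) + n * (q + 1) = n * m := by
      rw [← Nat.mul_add]; congr 1; omega
    have e3 : n * (q + 1) = n * q + n := by ring
    omega
  have h3 : (n - a) * m / n = m - q - 1 := by
    rw [h2, Nat.mul_add_div hn, Nat.div_eq_of_lt (by omega)]
    simp
  rw [h3]
  clear h2 h3 hdiv hq hr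
  clear_value q r
  omega

theorem two_mul_sum_floor (m n : ℕ) (hn : 0 < n) (hmn : Nat.Coprime m n) :
    2 * ∑ a ∈ Ico 1 n, a * m / n = (n - 1) * (m - 1) := by
  have hrefl : ∑ a ∈ Ico 1 n, (n - a) * m / n = ∑ a ∈ Ico 1 n, a * m / n := by
    have := Finset.sum_Ico_reflect (fun j => j * m / n) 1 (m := n) (n := n) (by omega)
    simpa using this
  have : ∑ a ∈ Ico 1 n, (a * m / n + (n - a) * m / n) = ∑ _a ∈ Ico 1 n, (m - 1) := by
    refine Finset.sum_congr rfl (fun a ha => ?_)
    rw [Finset.mem_Ico] at ha
    exact floor_pair m n a hn hmn (by omega) ha.2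
  rw [Finset.sum_add_distrib, hrefl, Finset.sum_const, Nat.card_Ico, smul_eq_mul] at this
  linarith

theorem sum_floor (m n : ℕ) (hn : 0 < n) (hmn : Nat.Coprime m n) :
    ∑ a ∈ Ico 1 n, a * m / n = (m - 1) * (n - 1) / 2 := by
  have := two_mul_sum_floor m n hn hmn
  rw [Nat.mul_comm (m - 1)]
  omega

theorem ceil_eq (m n a : ℕ) (hn : 0 < n) (hmn : Nat.Coprime m n) (ha : 0 < a) (han : a < n) :
    (a * m + n - 1) / n = a * m / n + 1 := by
  have hnd : ¬ n ∣ a * m := by
    intro h
    have h1 : n ∣ a := (Nat.Coprime.dvd_mul_right hmn.symm).mp h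
    exact absurd (Nat.le_of_dvd ha h1) (by omega)
  have hdiv : a * m = n * (a * m / n) + a * m % n := (Nat.div_add_mod (a * m) n).symm
  have hr0 : 0 < a * m % n := Nat.pos_of_ne_zero (fun h => hnd (Nat.dvd_of_mod_eq_zero h))
  have hrn : a * m % n < n := Nat.mod_lt _ hn
  set q := a * m / n
  set r := a * m % n
  have : a * m + n - 1 = n * (q + 1) + (r - 1) := by
    have : n * (q + 1) = n * q + n := by ring
    omega
  rw [this, Nat.mul_add_div hn, Nat.div_eq_of_lt (by omega)]

theorem card_fiber (m n a : ℕ) (hn : 0 < n) (ha : 0 < a) (han : a ≤ n) :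
    ((range m).filter (fun j => j * n < a * m)).card = (a * m + n - 1) / n := by
  have : (range m).filter (fun j => j * n < a * m) = range ((a * m + n - 1) / n) := by
    ext j
    rw [mem_filter, mem_range, mem_range]
    have key : j < (a * m + n - 1) / n ↔ j * n < a * m := by
      rw [show j < (a * m + n - 1) / n ↔ j + 1 ≤ (a * m + n - 1) / n from Iff.rfl,
        Nat.le_div_iff_mul_le hn]
      have : (j + 1) * n = j * n + n := by ring
      omega
    rw [key]
    constructor
    · exact fun h => h.2
    · intro h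
      refine ⟨?_, h⟩
      have h2 : a * m ≤ n * m := Nat.mul_le_mul_right m han
      have h3 : j * n < m * n := by rw [Nat.mul_comm m n]; omega
      exact Nat.lt_of_mul_lt_mul_right h3
  rw [this, card_range]

theorem main (m n : ℕ) (hm : 0 < m) (hn : 0 < n) (hmn : Nat.Coprime m n) :
    ((range (m + n + 1) ×ˢ range (m + 1)).filter
      (fun ij : ℕ × ℕ => ij.1 ≤ ij.2 + n ∧ ij.2 * (m + n) < ij.1 * m)).card
      = (m - 1) * (n - 1) / 2 + (m + n - 1) := by
  have h1 : ((range (m + n + 1) ×ˢ range (m + 1)).filter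
      (fun ij : ℕ × ℕ => ij.1 ≤ ij.2 + n ∧ ij.2 * (m + n) < ij.1 * m)).card =
      ((Ico 1 (n + 1) ×ˢ range m).filter (fun aj : ℕ × ℕ => aj.2 * n < aj.1 * m)).card := by
    refine Finset.card_nbij' (fun ij => (ij.1 - ij.2, ij.2)) (fun aj => (aj.1 + aj.2, aj.2))
      ?_ ?_ ?_ ?_
    · rintro ⟨i, j⟩ hij
      simp only [coe_filter, mem_product, mem_range, Set.mem_setOf_eq] at hij
      obtain ⟨⟨hi, hj⟩, h1, h2⟩ := hij
      have e1 : j * (m + n) = j * m + j * n := by ring
      have hji : j < i := by
        by_contra hcon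
        push Not at hcon
        have : i * m ≤ j * m := Nat.mul_le_mul_right m hcon
        omega
      have e2 : i * m = (i - j) * m + j * m := by
        rw [← Nat.add_mul, Nat.sub_add_cancel hji.le]
      have h3 : j * n < (i - j) * m := by omega
      have h4 : (i - j) * m ≤ n * m := Nat.mul_le_mul_right m (by omega)
      have h5 : j * n < m * n := by rw [Nat.mul_comm m n]; omega
      have h6 : j < m := Nat.lt_of_mul_lt_mul_right h5
      simp only [coe_filter, mem_product, mem_Ico, mem_range, Set.mem_setOf_eq]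
      exact ⟨⟨⟨by omega, by omega⟩, h6⟩, h3⟩
    · rintro ⟨a, j⟩ haj
      simp only [coe_filter, mem_product, mem_Ico, mem_range, Set.mem_setOf_eq] at haj
      obtain ⟨⟨⟨ha1, ha2⟩, hj⟩, h1⟩ := haj
      simp only [coe_filter, mem_product, mem_range, Set.mem_setOf_eq]
      have e1 : j * (m + n) = j * m + j * n := by ring
      have e2 : (a + j) * m = a * m + j * m := by ring
      exact ⟨⟨by omega, by omega⟩, by omega, by omega⟩
    · rintro ⟨i, j⟩ hij
      simp only [coe_filter, mem_product, mem_range, Set.mem_setOf_eq] at hij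
      obtain ⟨⟨hi, hj⟩, h1, h2⟩ := hij
      have hji : j ≤ i := by
        by_contra hcon
        push Not at hcon
        have : i * m ≤ j * m := Nat.mul_le_mul_right m hcon.le
        have e1 : j * (m + n) = j * m + j * n := by ring
        omega
      simp only [Prod.mk.injEq, and_true]
      omega
    · rintro ⟨a, j⟩ _
      simp
  have h2 : ((Ico 1 (n + 1) ×ˢ range m).filter (fun aj : ℕ × ℕ => aj.2 * n < aj.1 * m)).card =
      ∑ a ∈ Ico 1 (n + 1), (a * m + n - 1) / n := by
    rw [Finset.card_filter, Finset.sum_product]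
    refine Finset.sum_congr rfl (fun a ha => ?_)
    rw [mem_Ico] at ha
    rw [← Finset.card_filter, card_fiber m n a hn (by omega) (by omega)]
  have h3 : ∑ a ∈ Ico 1 (n + 1), (a * m + n - 1) / n = ∑ a ∈ Ico 1 n, (a * m / n + 1) + m := by
    rw [Finset.sum_Ico_succ_top (by omega : 1 ≤ n)]
    congr 1
    · refine Finset.sum_congr rfl (fun a ha => ?_)
      rw [mem_Ico] at ha
      exact ceil_eq m n a hn hmn (by omega) ha.2
    · have : n * m + n - 1 = n * m + (n - 1) := by omega
      rw [this, Nat.mul_add_div hn, Nat.div_eq_of_lt (by omega)]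
      simp
  rw [h1, h2, h3, Finset.sum_add_distrib, sum_floor m n hn hmn, Finset.sum_const, Nat.card_Ico,
    smul_eq_mul]
  omega

end Groth.Agent.Helper8.NPCount
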