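import Groth.Statements.S17466

set_option autoImplicit false
universe u v
open BigOperators

namespace Groth.Agent.Helper8.NRGIT

open HomogeneousLocalization

theorem mk_eq_of_mul {A : Type v} [CommRing A] {M : Submonoid A} (a b : A) (x y : M)
    (h : (y : A) * a = x * b) : Localization.mk a x = Localization.mk b y := by
  rw [Localization.mk_eq_mk_iff, Localization.r_iff_exists]
  exact ⟨1, by simp only [OneMemClass.coe_one, one_mul]; exact h⟩

theorem main
    {R : Type u} {A : Type v} [CommRing R] [CommRing A] [Algebra R A]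
    (𝒜 : ℕ → Submodule R A) [GradedAlgebra 𝒜]
    {n : ℕ} (σ : Fin n → A) (hσ : ∀ i, σ i ∈ 𝒜 1) {s : ℕ} (hs : 0 < s)
    (hgen : ∀ i, Algebra.adjoin (𝒜 0)
      {z : HomogeneousLocalization.Away 𝒜 (σ i) |
        ∃ f ∈ 𝒜 s, z.val = Localization.mk f ⟨σ i ^ s, Submonoid.pow_mem _ (Submonoid.mem_powers (σ i)) s⟩} = ⊤)
    (K : Fin n → ℕ) (hK : ∑ i, K i = s) :
    Algebra.adjoin (𝒜 0)
      {z : HomogeneousLocalization.Away 𝒜 (∏ i, σ i ^ K i) |
        ∃ f ∈ 𝒜 s, z.val = Localization.mk f ⟨∏ i, σ i ^ K i, Submonoid.mem_powers _⟩} = ⊤ := by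
  classical
  set τ : A := ∏ i, σ i ^ K i with hτdef
  have hprodmem : ∀ L : Fin n → ℕ, (∏ i, σ i ^ L i) ∈ 𝒜 (∑ i, L i) := by
    intro L
    have := SetLike.prod_pow_mem_graded (A := 𝒜) (i := fun _ : Fin n => (1 : ℕ)) (g := σ) (F := Finset.univ) L (fun i _ => hσ i)
    simpa using this
  have hτ : τ ∈ 𝒜 s := hK ▸ hprodmem K
  -- pick an index with positive exponent
  obtain ⟨i₀, hi₀⟩ : ∃ i, 0 < K i := by
    by_contra hcon
    push Not at hcon
    have : ∑ i, K i = 0 := Finset.sum_eq_zero fun i _ => Nat.le_zero.mp (hcon i)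
    omega
  set K' : Fin n → ℕ := fun i => K i - (if i = i₀ then 1 else 0) with hK'def
  have hKK' : ∀ i, K i = K' i + (if i = i₀ then 1 else 0) := by
    intro i
    simp only [hK'def]
    split_ifs with h
    · subst h; omega
    · omega
  set g : A := ∏ i, σ i ^ K' i with hgdef
  have hτg : τ = σ i₀ * g := by
    rw [hτdef, hgdef]
    have : ∀ i, σ i ^ K i = σ i ^ K' i * (if i = i₀ then σ i else 1) := by
      intro i
      rw [hKK' i, pow_add]
      split_ifs <;> simp [hK'def]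
    rw [Finset.prod_congr rfl fun i _ => this i, Finset.prod_mul_distrib, mul_comm]
    congr 1
    rw [Finset.prod_ite_eq' Finset.univ i₀ σ]
    simp
  have hsumK' : ∑ i, K' i + 1 = s := by
    rw [← hK, Finset.sum_congr rfl fun i _ => hKK' i, Finset.sum_add_distrib]
    simp
  have hg : g ∈ 𝒜 (s - 1) := by
    have := hprodmem K'
    rwa [show ∑ i, K' i = s - 1 by omega] at this
  -- the target subalgebra
  set C := Algebra.adjoin (𝒜 0) {z : Away 𝒜 τ |
    ∃ f ∈ 𝒜 s, z.val = Localization.mk f ⟨τ, Submonoid.mem_powers _⟩} with hC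
  have hfrac : ∀ f ∈ 𝒜 s, ∃ w : Away 𝒜 τ, w ∈ C ∧
      w.val = Localization.mk f ⟨τ, Submonoid.mem_powers _⟩ := by
    intro f hf
    have hmem : f ∈ 𝒜 (1 • s) := by simpa using hf
    have hval : (Away.mk 𝒜 hτ 1 f hmem).val = Localization.mk f ⟨τ, Submonoid.mem_powers _⟩ := by
      rw [Away.val_mk]
      congr 1
      exact Subtype.ext (pow_one τ)
    exact ⟨Away.mk 𝒜 hτ 1 f hmem, Algebra.subset_adjoin ⟨f, hf, hval⟩, hval⟩
  have hu : ∀ j, ∃ u : Away 𝒜 τ, u ∈ C ∧
      u.val = Localization.mk (σ j ^ s) ⟨τ, Submonoid.mem_powers _⟩ := by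
    intro j
    exact hfrac _ (by simpa using SetLike.pow_mem_graded s (hσ j))
  choose u huC huval using hu
  let φ : Away 𝒜 (σ i₀) →ₐ[𝒜 0] Away 𝒜 τ := awayMapₐ 𝒜 hg hτg
  have hφval : ∀ (m : ℕ) (a : A) (ha : a ∈ 𝒜 (m • 1)),
      (φ (Away.mk 𝒜 (hσ i₀) m a ha)).val = Localization.mk (a * g ^ m) (⟨τ ^ m, ⟨m, rfl⟩⟩ : Submonoid.powers τ) := by
    intro m a ha
    rw [awayMapₐ_apply, awayMap_mk, Away.val_mk]
  have hprodτ : (∏ j, τ ^ K' j) = τ ^ (s - 1) := by
    rw [Finset.prod_pow_eq_pow_sum]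
    congr 1
    omega
  have hprodσ : (∏ j, (σ j ^ s) ^ K' j) = g ^ s := by
    rw [hgdef, ← Finset.prod_pow]
    refine Finset.prod_congr rfl fun j _ => ?_
    rw [← pow_mul, ← pow_mul, mul_comm]
  have hφgen : ∀ f (hf : f ∈ 𝒜 (s • 1)), φ (Away.mk 𝒜 (hσ i₀) s f hf) ∈ C := by
    intro f hf
    obtain ⟨w, hwC, hwval⟩ := hfrac f (by simpa using hf)
    have : φ (Away.mk 𝒜 (hσ i₀) s f hf) = w * ∏ j, u j ^ K' j := by
      apply val_injective
      rw [hφval]
      simp only [← algebraMap_apply]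
      rw [map_mul, map_prod]
      simp only [map_pow, algebraMap_apply, hwval, huval, Localization.mk_pow, Localization.mk_prod,
        Localization.mk_mul]
      apply mk_eq_of_mul
      simp only [Submonoid.coe_mul, Submonoid.coe_finsetProd, SubmonoidClass.coe_pow]
      rw [hprodτ, hprodσ]
      have : τ * τ ^ (s - 1) = τ ^ s := by
        rw [← pow_succ']
        congr 1
        omega
      rw [this]
    rw [this]
    exact C.mul_mem hwC (C.prod_mem fun j _ => C.pow_mem (huC j) _)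
  have hφC : ∀ x, φ x ∈ C := by
    intro x
    have hx : x ∈ Algebra.adjoin (𝒜 0) {z : Away 𝒜 (σ i₀) | ∃ f ∈ 𝒜 s, z.val =
        Localization.mk f ⟨σ i₀ ^ s, Submonoid.pow_mem _ (Submonoid.mem_powers (σ i₀)) s⟩} := by
      rw [hgen i₀]
      trivial
    induction hx using Algebra.adjoin_induction with
    | mem z hz =>
      obtain ⟨f, hf, hz⟩ := hz
      have hf' : f ∈ 𝒜 (s • 1) := by simpa using hf
      have hzeq : z = Away.mk 𝒜 (hσ i₀) s f hf' := by
        apply val_injective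
        rw [hz, Away.val_mk]
      rw [hzeq]
      exact hφgen f hf'
    | algebraMap r =>
      rw [AlgHom.commutes]
      exact C.algebraMap_mem r
    | add a b _ _ ha hb =>
      rw [map_add]
      exact C.add_mem ha hb
    | mul a b _ _ ha hb =>
      rw [map_mul]
      exact C.mul_mem ha hb
  rw [eq_top_iff]
  intro w _
  obtain ⟨m, a, ha, rfl⟩ := Away.mk_surjective 𝒜 hτ w
  have ha' : a ∈ 𝒜 ((m * s) • 1) := by simpa [mul_comm] using ha
  have : Away.mk 𝒜 hτ m a ha = φ (Away.mk 𝒜 (hσ i₀) (m * s) a ha') * u i₀ ^ m := by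
    apply val_injective
    rw [val_mul, val_pow, hφval, huval, Away.val_mk, Localization.mk_pow, Localization.mk_mul]
    apply mk_eq_of_mul
    simp only [Submonoid.coe_mul, SubmonoidClass.coe_pow]
    rw [hτg]
    ring
  rw [this]
  exact C.mul_mem (hφC _) (C.pow_mem (huC i₀) _)

end Groth.Agent.Helper8.NRGIT
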