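import Groth.Agent.Helper8.NTMax

/-! Genus-one classification: multiplicities along simple arms; the chain case. -/

namespace Groth.Agent.Helper8.NT

open Finset Models
open Groth.Agent.Helper3.NumType (row_sum a_symm Q_nonpos Q_neg)

variable {n : ℕ} {T : Models.NumericalType n}

theorem row_expand (i : Fin n) (N : Finset (Fin n)) (hi : i ∉ N)
    (hz : ∀ z, z ∉ N → z ≠ i → T.a i z = 0) :
    T.a i i * T.m i + ∑ z ∈ N, T.a i z * T.m z = 0 := by
  classical
  have h := row_sum T i
  rw [← Finset.sum_add_sum_compl (insert i N), Finset.sum_insert hi] at h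
  have hc : ∑ z ∈ (insert i N)ᶜ, T.a i z * T.m z = 0 := by
    apply Finset.sum_eq_zero
    intro z hz'
    rw [Finset.mem_compl, Finset.mem_insert, not_or] at hz'
    rw [hz z hz'.2 hz'.1, zero_mul]
  linarith

theorem arm (f : ℕ → ℤ) (t : ℕ) (h0 : 1 ≤ t → f 1 = 2 * f 0)
    (hstep : ∀ k, 1 ≤ k → k < t → f (k + 1) = 2 * f k - f (k - 1)) :
    ∀ i, i ≤ t → f i = (i + 1) * f 0 := by
  have key : ∀ i, (i ≤ t → f i = (i + 1) * f 0) ∧ (i + 1 ≤ t → f (i + 1) = (i + 2) * f 0) := by
    intro i
    induction i with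
    | zero =>
      refine ⟨fun _ => by simp, fun h => ?_⟩
      rw [h0 h]; push_cast; ring
    | succ k ih =>
      refine ⟨fun h => ?_, fun h => ?_⟩
      · rw [ih.2 h]; push_cast; ring
      · rw [hstep (k + 1) (by omega) (by omega), ih.2 (by omega), show k + 1 - 1 = k by omega,
          ih.1 (by omega)]
        push_cast; ring
  exact fun i hi => (key i).1 hi

/-- the edge `p t, p (t+1)` is simple -/
def Simple (T : Models.NumericalType n) (p : ℕ → Fin n) (t : ℕ) : Prop :=
  T.a (p t) (p (t + 1)) = T.w (p t) ∧ T.a (p t) (p (t + 1)) = T.w (p (t + 1))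

theorem not_simple_dbl {p : ℕ → Fin n} {s : ℕ} (hp : IsPath T p s) {t : ℕ} (ht : t < s)
    (h : ¬ Simple T p t) :
    2 * T.w (p t) ≤ T.a (p t) (p (t + 1)) ∨ 2 * T.w (p (t + 1)) ≤ T.a (p (t + 1)) (p t) := by
  rcases eq_or_two_le T (hp.pos ht) with h1 | h1
  · rcases eq_or_two_le T (hp.pos' ht) with h3 | h3
    · exfalso
      apply h
      refine ⟨h1, ?_⟩
      rw [a_symm T]; exact h3
    · exact Or.inr h3
  · exact Or.inl h1

/-- multiplicities along a simple arm starting at a leaf -/
theorem chain_arm {p : ℕ → Fin n} {s : ℕ} (hp : IsPath T p s) (h2 : ∀ i, T.a i i = -2 * T.w i)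
    (t : ℕ) (ht : t ≤ s)
    (hnb : ∀ i, i < t → ∀ z, T.a (p i) z ≠ 0 → z = p i ∨ (1 ≤ i ∧ z = p (i - 1)) ∨ z = p (i + 1))
    (hsimple : ∀ k, k < t → Simple T p k) :
    ∀ i, i ≤ t → T.m (p i) = (i + 1) * T.m (p 0) := by
  classical
  apply arm (fun i => T.m (p i)) t
  · intro h1
    have hne : p 0 ≠ p 1 := hp.ne (by omega) (by omega) (by omega)
    have h := row_expand (T := T) (p 0) {p 1} (by simpa using hne) (by
      intro z hz hz0
      by_contra hcon
      rcases hnb 0 (by omega) z hcon with h | ⟨h, _⟩ | h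
      · exact hz0 h
      · omega
      · exact hz (by simpa using h))
    rw [Finset.sum_singleton, h2, (hsimple 0 (by omega)).1] at h
    have hw := T.w_pos (p 0)
    have : T.w (p 0) * (T.m (p 1) - 2 * T.m (p 0)) = 0 := by linarith
    rcases mul_eq_zero.mp this with h | h
    · omega
    · show T.m (p 1) = 2 * T.m (p 0)
      linarith
  · intro k hk1 hkt
    have hne1 : p k ≠ p (k - 1) := hp.ne (by omega) (by omega) (by omega)
    have hne2 : p k ≠ p (k + 1) := hp.ne (by omega) (by omega) (by omega)
    have hne3 : p (k - 1) ≠ p (k + 1) := hp.ne (by omega) (by omega) (by omega)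
    have h := row_expand (T := T) (p k) {p (k - 1), p (k + 1)} (by
      rw [Finset.mem_insert, Finset.mem_singleton, not_or]; exact ⟨hne1, hne2⟩) (by
      intro z hz hz0
      rw [Finset.mem_insert, Finset.mem_singleton, not_or] at hz
      by_contra hcon
      rcases hnb k hkt z hcon with h | ⟨_, h⟩ | h
      · exact hz0 h
      · exact hz.1 h
      · exact hz.2 h)
    rw [Finset.sum_pair hne3, h2, (hsimple k hkt).1] at h
    have hs1 := (hsimple (k - 1) (by omega)).2
    rw [show k - 1 + 1 = k by omega] at hs1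
    rw [a_symm T (p k) (p (k - 1)), hs1] at h
    have hw := T.w_pos (p k)
    have : T.w (p k) * (T.m (p (k + 1)) - 2 * T.m (p k) + T.m (p (k - 1))) = 0 := by linarith
    rcases mul_eq_zero.mp this with h | h
    · omega
    · show T.m (p (k + 1)) = 2 * T.m (p k) - T.m (p (k - 1))
      linarith

/-- two off-path vertices: family 7 -/
theorem tree_two_off {p : ℕ → Fin n} {s : ℕ} (ht : Tree T p s) (h2 : ∀ i, T.a i i = -2 * T.w i)
    (z z' : Fin n) (hoff : ∀ i, i ≤ s → p i ≠ z) (hoff' : ∀ i, i ≤ s → p i ≠ z')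
    (hzz : z ≠ z') : ∃ (σ : Equiv.Perm (Fin n)) (m w : ℤ), Fam7 T σ m w := by
  obtain ⟨i, hi1, hi2, hzi, -⟩ := ht.off z hoff
  obtain ⟨i', hi1', hi2', hzi', -⟩ := ht.off z' hoff'
  wlog hii : i ≤ i' generalizing z z' i i'
  · exact this z' z hoff' hoff hzz.symm i' hi1' hi2' hzi' i hi1 hi2 hzi (by omega)
  have hp := ht.hm.1
  have hsub := hp.sub i i' hii (by omega)
  obtain ⟨σ, m, w, -, h⟩ := fam_dfork h2 _ _ hsub (p (i - 1)) z (p (i' + 1)) z'
    (fun k hk => hp.ne (by omega) (by omega) (by omega))
    (fun k hk => hoff _ (by omega))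
    (fun k hk => hp.ne (by omega) (by omega) (by omega))
    (fun k hk => hoff' _ (by omega))
    (hoff _ (by omega)) (hp.ne (by omega) (by omega) (by omega)) (hoff' _ (by omega))
    (hoff _ (by omega)).symm hzz (hoff' _ (by omega))
    (by
      show T.a (p (i + 0)) (p (i - 1)) ≠ 0
      have := hp.adj' (i := i - 1) (by omega)
      rw [show i - 1 + 1 = i by omega] at this
      exact this)
    (by
      show T.a (p (i + 0)) z ≠ 0
      rw [a_symm T]; exact hzi)
    (by
      show T.a (p (i + (i' - i))) (p (i' + 1)) ≠ 0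
      rw [show i + (i' - i) = i' by omega]
      exact hp.adj i' (by omega))
    (by
      show T.a (p (i + (i' - i))) z' ≠ 0
      rw [show i + (i' - i) = i' by omega, a_symm T]; exact hzi')
  exact ⟨σ, m, w, h⟩

theorem chain_arith (A B K : ℤ) (hA : 1 ≤ A) (hB : 1 ≤ B) (hK : 1 ≤ K) (hAB : 6 ≤ A + B)
    (h : K * A * B = (A + 1) * (B + 1)) : False := by
  by_cases hK1 : K = 1
  · subst hK1; nlinarith
  have hK2 : 2 ≤ K := by omega
  by_cases hA1 : A = 1
  · subst hA1
    have h5 : (K - 2) * B = 2 := by nlinarith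
    have hB5 : 5 ≤ B := by omega
    rcases lt_trichotomy (K - 2) 0 with h1 | h1 | h1
    · nlinarith
    · rw [h1] at h5; omega
    · nlinarith
  by_cases hB1 : B = 1
  · subst hB1
    have h5 : (K - 2) * A = 2 := by nlinarith
    have hA5 : 5 ≤ A := by omega
    rcases lt_trichotomy (K - 2) 0 with h1 | h1 | h1
    · nlinarith
    · rw [h1] at h5; omega
    · nlinarith
  have hA2 : 2 ≤ A := by omega
  have hB2 : 2 ≤ B := by omega
  nlinarith [mul_nonneg (sub_nonneg.mpr hA2) (sub_nonneg.mpr hB2),
    mul_nonneg (sub_nonneg.mpr hK2) (mul_nonneg (by omega : (0:ℤ) ≤ A) (by omega : (0:ℤ) ≤ B))]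

/-- the chain case: all vertices lie on the maximal path -/
theorem tree_chain {p : ℕ → Fin n} {s : ℕ} (ht : Tree T p s) (h2 : ∀ i, T.a i i = -2 * T.w i)
    (hn6 : 6 ≤ n) (hall : ∀ z, ∃ i, i ≤ s ∧ p i = z) :
    ∃ (σ : Equiv.Perm (Fin n)) (m w : ℤ), Fam2 T σ m w ∨ Fam3 T σ m w ∨ Fam4 T σ m w := by
  classical
  have hp := ht.hm.1
  have hn : n = s + 1 := by
    have h1 := hp.bound
    have hsurj : Function.Surjective (fun i : Fin (s + 1) => p i.val) := by
      intro z
      obtain ⟨i, hi, h⟩ := hall z
      exact ⟨⟨i, by omega⟩, h⟩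
    have := Fintype.card_le_of_surjective _ hsurj
    simp at this
    omega
  have hnb : ∀ i, i ≤ s → ∀ z, T.a (p i) z ≠ 0 →
      z = p i ∨ (1 ≤ i ∧ z = p (i - 1)) ∨ (i < s ∧ z = p (i + 1)) := by
    intro i hi z hz
    obtain ⟨k, hk, rfl⟩ := hall z
    by_cases h1 : k = i
    · left; rw [h1]
    by_cases h3 : k + 1 = i
    · right; left; exact ⟨by omega, by rw [← h3]; rfl⟩
    by_cases h4 : k = i + 1
    · right; right; exact ⟨by omega, by rw [h4]⟩
    exfalso
    by_cases h5 : k < i
    · have := ht.induced k i (by omega) hi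
      rw [a_symm T] at this
      exact hz this
    · exact hz (ht.induced i k (by omega) hk)
  by_cases hex : ∃ t1 t2, t1 < t2 ∧ t2 < s ∧ ¬ Simple T p t1 ∧ ¬ Simple T p t2
  · obtain ⟨t1, t2, h12, h2s, hs1, hs2⟩ := hex
    have hsub := hp.sub (t1 + 1) t2 (by omega) (by omega)
    refine fam_chain h2 _ _ hsub (p t1) (p (t2 + 1))
      (fun k hk => hp.ne (by omega) (by omega) (by omega))
      (fun k hk => hp.ne (by omega) (by omega) (by omega))
      (hp.ne (by omega) (by omega) (by omega)) ?_ ?_
    · show 2 * T.w (p (t1 + 1 + 0)) ≤ T.a (p (t1 + 1 + 0)) (p t1) ∨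
        2 * T.w (p t1) ≤ T.a (p t1) (p (t1 + 1 + 0))
      rw [Nat.add_zero]
      rcases not_simple_dbl hp (by omega) hs1 with h | h
      · exact Or.inr h
      · exact Or.inl h
    · show 2 * T.w (p (t1 + 1 + (t2 - (t1 + 1)))) ≤ T.a (p (t1 + 1 + (t2 - (t1 + 1)))) (p (t2 + 1)) ∨
        2 * T.w (p (t2 + 1)) ≤ T.a (p (t2 + 1)) (p (t1 + 1 + (t2 - (t1 + 1))))
      rw [show t1 + 1 + (t2 - (t1 + 1)) = t2 by omega]
      exact not_simple_dbl hp h2s hs2
  · exfalso
    have hone : ∃ t, t < s ∧ ∀ t', t' < s → t' ≠ t → Simple T p t' := by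
      by_cases h : ∃ t, t < s ∧ ¬ Simple T p t
      · obtain ⟨t, hts, hns⟩ := h
        refine ⟨t, hts, ?_⟩
        intro t' ht's hne
        by_contra hns'
        rcases Nat.lt_or_gt_of_ne hne with h | h
        · exact hex ⟨t', t, h, hts, hns', hns⟩
        · exact hex ⟨t, t', h, ht's, hns, hns'⟩
      · push Not at h
        exact ⟨0, by have := ht.hs; omega, fun t' ht' _ => h t' ht'⟩
    obtain ⟨t, hts, hsim⟩ := hone
    -- left arm
    have hL := chain_arm hp h2 t (by omega)
      (fun i hi z hz => by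
        rcases hnb i (by omega) z hz with h | h | h
        · exact Or.inl h
        · exact Or.inr (Or.inl h)
        · exact Or.inr (Or.inr h.2))
      (fun k hk => hsim k (by omega) (by omega))
    -- right arm, on the reversed path
    have hR := chain_arm hp.reverse h2 (s - t - 1) (by omega)
      (fun i hi z hz => by
        rcases hnb (s - i) (by omega) z hz with h | h | h
        · exact Or.inl h
        · right; right
          show z = p (s - (i + 1))
          rw [h.2]; congr 1
        · right; left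
          refine ⟨by omega, ?_⟩
          show z = p (s - (i - 1))
          rw [h.2]; congr 1; omega)
      (fun k hk => by
        have h := hsim (s - k - 1) (by omega) (by omega)
        unfold Simple at h ⊢
        show T.a (p (s - k)) (p (s - (k + 1))) = T.w (p (s - k)) ∧
          T.a (p (s - k)) (p (s - (k + 1))) = T.w (p (s - (k + 1)))
        rw [show s - k - 1 + 1 = s - k by omega] at h
        rw [show s - (k + 1) = s - k - 1 by omega, a_symm T]
        exact ⟨h.2, h.1⟩)
    simp only [Nat.sub_zero] at hR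
    set μ := T.m (p 0) with hμ
    set ν := T.m (p s) with hν
    have hμpos : 0 < μ := T.m_pos _
    have hνpos : 0 < ν := T.m_pos _
    have hmt : T.m (p t) = ((t : ℤ) + 1) * μ := hL t le_rfl
    have hmt1 : T.m (p (t + 1)) = ((s : ℤ) - t) * ν := by
      have := hR (s - t - 1) le_rfl
      rw [show s - (s - t - 1) = t + 1 by omega] at this
      rw [this]
      have : ((s - t - 1 : ℕ) : ℤ) = (s : ℤ) - t - 1 := by omega
      rw [this]; ring
    set a := T.a (p t) (p (t + 1)) with ha
    have hapos : 0 < a := hp.pos hts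
    -- row at p t
    have hrow1 : a * (((s : ℤ) - t) * ν) = T.w (p t) * (((t : ℤ) + 2) * μ) := by
      by_cases ht0 : t = 0
      · subst ht0
        have hne : p 0 ≠ p 1 := hp.ne (by omega) (by omega) (by omega)
        have h := row_expand (T := T) (p 0) {p 1} (by simpa using hne) (by
          intro z hz hz0
          by_contra hcon
          rcases hnb 0 (by omega) z hcon with h | ⟨h, _⟩ | ⟨_, h⟩
          · exact hz0 h
          · omega
          · exact hz (by simpa using h))
        rw [Finset.sum_singleton, h2] at h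
        simp only [Nat.zero_add] at hmt1 ha
        rw [← ha, hmt1] at h
        rw [← hμ] at h
        push_cast at h ⊢
        linarith
      · have hne1 : p t ≠ p (t - 1) := hp.ne (by omega) (by omega) (by omega)
        have hne2 : p t ≠ p (t + 1) := hp.ne (by omega) (by omega) (by omega)
        have hne3 : p (t - 1) ≠ p (t + 1) := hp.ne (by omega) (by omega) (by omega)
        have h := row_expand (T := T) (p t) {p (t - 1), p (t + 1)} (by
          rw [Finset.mem_insert, Finset.mem_singleton, not_or]; exact ⟨hne1, hne2⟩) (by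
          intro z hz hz0
          rw [Finset.mem_insert, Finset.mem_singleton, not_or] at hz
          by_contra hcon
          rcases hnb t (by omega) z hcon with h | ⟨_, h⟩ | ⟨_, h⟩
          · exact hz0 h
          · exact hz.1 h
          · exact hz.2 h)
        rw [Finset.sum_pair hne3, h2, ← ha, hmt1, hmt] at h
        have hs1 := (hsim (t - 1) (by omega) (by omega)).2
        rw [show t - 1 + 1 = t by omega] at hs1
        rw [a_symm T (p t) (p (t - 1)), hs1, hL (t - 1) (by omega)] at h
        have : ((t - 1 : ℕ) : ℤ) = (t : ℤ) - 1 := by omega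
        rw [this] at h
        linarith
    -- row at p (t+1)
    have hrow2 : a * (((t : ℤ) + 1) * μ) = T.w (p (t + 1)) * (((s : ℤ) - t + 1) * ν) := by
      by_cases hts' : t + 1 = s
      · have hne : p (t + 1) ≠ p t := hp.ne (by omega) (by omega) (by omega)
        have h := row_expand (T := T) (p (t + 1)) {p t} (by simpa using hne) (by
          intro z hz hz0
          by_contra hcon
          rcases hnb (t + 1) (by omega) z hcon with h | ⟨_, h⟩ | ⟨h, _⟩
          · exact hz0 h
          · exact hz (by simpa using h)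
          · omega)
        rw [Finset.sum_singleton, h2, a_symm T (p (t + 1)) (p t), ← ha, hmt, hmt1] at h
        have : (s : ℤ) = t + 1 := by omega
        rw [this] at h ⊢
        linarith
      · have hne1 : p (t + 1) ≠ p t := hp.ne (by omega) (by omega) (by omega)
        have hne2 : p (t + 1) ≠ p (t + 2) := hp.ne (by omega) (by omega) (by omega)
        have hne3 : p t ≠ p (t + 2) := hp.ne (by omega) (by omega) (by omega)
        have h := row_expand (T := T) (p (t + 1)) {p t, p (t + 2)} (by
          rw [Finset.mem_insert, Finset.mem_singleton, not_or]; exact ⟨hne1, hne2⟩) (by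
          intro z hz hz0
          rw [Finset.mem_insert, Finset.mem_singleton, not_or] at hz
          by_contra hcon
          rcases hnb (t + 1) (by omega) z hcon with h | ⟨_, h⟩ | ⟨_, h⟩
          · exact hz0 h
          · exact hz.1 h
          · exact hz.2 h)
        have hm2 : T.m (p (t + 2)) = ((s : ℤ) - t - 1) * ν := by
          have := hR (s - t - 2) (by omega)
          rw [show s - (s - t - 2) = t + 2 by omega] at this
          rw [this]
          have : ((s - t - 2 : ℕ) : ℤ) = (s : ℤ) - t - 2 := by omega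
          rw [this]; ring
        rw [Finset.sum_pair hne3, h2, a_symm T (p (t + 1)) (p t), ← ha, hmt, hmt1, hm2,
          (hsim (t + 1) (by omega) (by omega)).1] at h
        linarith
    obtain ⟨c, hc⟩ := T.w_dvd (p t) (p (t + 1))
    obtain ⟨c', hc'⟩ := T.w_dvd (p (t + 1)) (p t)
    rw [a_symm T (p (t + 1)) (p t)] at hc'
    rw [← ha] at hc hc'
    have hw1 := T.w_pos (p t)
    have hw2 := T.w_pos (p (t + 1))
    have hc1 : 1 ≤ c := by
      by_contra hcon
      have : c ≤ 0 := by omega
      nlinarith
    have hc1' : 1 ≤ c' := by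
      by_contra hcon
      have : c' ≤ 0 := by omega
      nlinarith
    have e1 : c * (((s : ℤ) - t) * ν) = ((t : ℤ) + 2) * μ := by
      rw [hc] at hrow1
      have : T.w (p t) * (c * (((s : ℤ) - t) * ν) - ((t : ℤ) + 2) * μ) = 0 := by linarith
      rcases mul_eq_zero.mp this with h | h
      · omega
      · linarith
    have e2 : c' * (((t : ℤ) + 1) * μ) = ((s : ℤ) - t + 1) * ν := by
      rw [hc'] at hrow2
      have : T.w (p (t + 1)) * (c' * (((t : ℤ) + 1) * μ) - ((s : ℤ) - t + 1) * ν) = 0 := by
        linarith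
      rcases mul_eq_zero.mp this with h | h
      · omega
      · linarith
    have hprod : (c * c') * ((t : ℤ) + 1) * ((s : ℤ) - t) * (μ * ν)
        = (((t : ℤ) + 1) + 1) * (((s : ℤ) - t) + 1) * (μ * ν) := by
      have : (c * (((s : ℤ) - t) * ν)) * (c' * (((t : ℤ) + 1) * μ))
          = (((t : ℤ) + 2) * μ) * (((s : ℤ) - t + 1) * ν) := by rw [e1, e2]
      linarith
    have hμν : 0 < μ * ν := mul_pos hμpos hνpos
    have hfin : (c * c') * ((t : ℤ) + 1) * ((s : ℤ) - t)
        = (((t : ℤ) + 1) + 1) * (((s : ℤ) - t) + 1) :=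
      mul_right_cancel₀ hμν.ne' hprod
    exact chain_arith ((t : ℤ) + 1) ((s : ℤ) - t) (c * c') (by omega) (by omega)
      (by nlinarith) (by omega) hfin

end Groth.Agent.Helper8.NT
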