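import Groth.Agent.Helper3.NumTypeF

/-! Genus-one classification of numerical types: basic tools (test vectors, paths). -/

namespace Groth.Agent.Helper8.NT

open Finset Models
open Groth.Agent.Helper3.NumType (row_sum a_symm Q_nonpos Q_neg)

variable {n : ℕ} (T : Models.NumericalType n)

/-- the `i`-th entry of `a x` -/
def row (x : Fin n → ℤ) (i : Fin n) : ℤ := ∑ j, T.a i j * x j

theorem Q_eq_sum_row (x : Fin n → ℤ) :
    ∑ i, ∑ j, T.a i j * x i * x j = ∑ i, x i * row T x i := by
  apply Finset.sum_congr rfl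
  intro i _
  rw [row, Finset.mul_sum]
  apply Finset.sum_congr rfl
  intro j _
  ring

theorem sum_m_row (x : Fin n → ℤ) : ∑ i, T.m i * row T x i = 0 := by
  simp only [row, Finset.mul_sum]
  rw [Finset.sum_comm]
  apply Finset.sum_eq_zero
  intro j _
  have : ∑ i, T.m i * (T.a i j * x j) = x j * ∑ i, T.a j i * T.m i := by
    rw [Finset.mul_sum]
    apply Finset.sum_congr rfl
    intro i _
    rw [a_symm T i j]; ring
  rw [this, row_sum, mul_zero]

theorem row_nonneg_of_zero (x : Fin n → ℤ) (hx : ∀ i, 0 ≤ x i) (i : Fin n) (hi : x i = 0) :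
    0 ≤ row T x i := by
  apply Finset.sum_nonneg
  intro j _
  by_cases h : i = j
  · subst h; rw [hi, mul_zero]
  · exact mul_nonneg (T.offDiag_nonneg i j h) (hx j)

/-- The certificate lemma: a nonzero nonnegative vector whose rows are nonnegative on its support
has full support, is proportional to `m`, and is killed by `a`. -/
theorem cert (x : Fin n → ℤ) (hx : ∀ i, 0 ≤ x i) (hne : x ≠ 0)
    (hrow : ∀ i, x i ≠ 0 → 0 ≤ row T x i) :
    (∀ i, 0 < x i) ∧ (∀ i, row T x i = 0) ∧ (∀ i j, x i * T.m j = x j * T.m i) := by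
  have hrows : ∀ i, 0 ≤ row T x i := by
    intro i
    by_cases h : x i = 0
    · exact row_nonneg_of_zero T x hx i h
    · exact hrow i h
  have hQ0 : 0 ≤ ∑ i, ∑ j, T.a i j * x i * x j := by
    rw [Q_eq_sum_row]
    exact Finset.sum_nonneg fun i _ => mul_nonneg (hx i) (hrows i)
  have hpos : ∀ i, 0 < x i := by
    intro k
    rcases lt_or_eq_of_le (hx k) with h | h
    · exact h
    · exfalso
      have := Q_neg T x hne k h.symm
      linarith
  have hr0 : ∀ i, row T x i = 0 := by
    have hs := sum_m_row T x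
    have hnn : ∀ i ∈ Finset.univ, 0 ≤ T.m i * row T x i :=
      fun i _ => mul_nonneg (T.m_pos i).le (hrows i)
    intro i
    have := (Finset.sum_eq_zero_iff_of_nonneg hnn).mp hs i (Finset.mem_univ i)
    rcases mul_eq_zero.mp this with h | h
    · exact absurd h (T.m_pos i).ne'
    · exact h
  refine ⟨hpos, hr0, ?_⟩
  intro i j
  set y : Fin n → ℤ := fun k => T.m j * x k - x j * T.m k with hy
  have hyj : y j = 0 := by simp only [hy]; ring
  have hrowy : ∀ k, row T y k = 0 := by
    intro k
    have : row T y k = T.m j * row T x k - x j * ∑ l, T.a k l * T.m l := by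
      simp only [row, hy, Finset.mul_sum, ← Finset.sum_sub_distrib]
      apply Finset.sum_congr rfl
      intro l _; ring
    rw [this, hr0, row_sum]; ring
  have hQy : ∑ k, ∑ l, T.a k l * y k * y l = 0 := by
    rw [Q_eq_sum_row]
    apply Finset.sum_eq_zero
    intro k _; rw [hrowy, mul_zero]
  by_contra hne'
  have hy0 : y ≠ 0 := by
    intro h
    apply hne'
    have := congrFun h i
    simp only [hy, Pi.zero_apply] at this
    linarith
  have := Q_neg T y hy0 j hyj
  linarith

theorem row_ge (x : Fin n → ℤ) (hx : ∀ i, 0 ≤ x i) (i : Fin n) (N : Finset (Fin n))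
    (hi : i ∉ N) : T.a i i * x i + ∑ j ∈ N, T.a i j * x j ≤ row T x i := by
  have h1 : ∑ j ∈ insert i N, T.a i j * x j ≤ ∑ j, T.a i j * x j := by
    apply Finset.sum_le_sum_of_subset_of_nonneg (Finset.subset_univ _)
    intro j _ hj
    have : i ≠ j := by rintro rfl; exact hj (Finset.mem_insert_self _ _)
    exact mul_nonneg (T.offDiag_nonneg i j this) (hx j)
  rw [Finset.sum_insert hi] at h1
  exact h1

theorem row_zero_out (x : Fin n → ℤ) (hx : ∀ i, 0 < x i) (i : Fin n) (N : Finset (Fin n))
    (hi : i ∉ N) (h0 : row T x i = 0) (hN : 0 ≤ T.a i i * x i + ∑ j ∈ N, T.a i j * x j) :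
    T.a i i * x i + ∑ j ∈ N, T.a i j * x j = 0 ∧ ∀ j, j ∉ N → j ≠ i → T.a i j = 0 := by
  classical
  have hsplit : row T x i
      = ∑ j ∈ insert i N, T.a i j * x j + ∑ j ∈ (insert i N)ᶜ, T.a i j * x j := by
    rw [row, Finset.sum_add_sum_compl]
  rw [Finset.sum_insert hi] at hsplit
  have hc : ∀ j ∈ (insert i N)ᶜ, 0 ≤ T.a i j * x j := by
    intro j hj
    have : i ≠ j := by rintro rfl; exact (Finset.mem_compl.mp hj) (Finset.mem_insert_self _ _)
    exact mul_nonneg (T.offDiag_nonneg i j this) (hx j).le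
  have hcs := Finset.sum_nonneg hc
  have hc0 : ∑ j ∈ (insert i N)ᶜ, T.a i j * x j = 0 := by linarith
  refine ⟨by linarith, ?_⟩
  intro j hjN hji
  have hj : j ∈ (insert i N)ᶜ := by simp [hjN, hji]
  have := (Finset.sum_eq_zero_iff_of_nonneg hc).mp hc0 j hj
  rcases mul_eq_zero.mp this with h | h
  · exact h
  · exact absurd h (hx j).ne'

theorem a_pos {i j : Fin n} (hij : i ≠ j) (h : T.a i j ≠ 0) : 0 < T.a i j :=
  lt_of_le_of_ne (T.offDiag_nonneg i j hij) (Ne.symm h)

theorem w_le_a {i j : Fin n} (h : 0 < T.a i j) : T.w i ≤ T.a i j :=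
  Int.le_of_dvd h (T.w_dvd i j)

theorem w_le_a' {i j : Fin n} (h : 0 < T.a i j) : T.w j ≤ T.a i j := by
  rw [a_symm T i j] at h ⊢; exact w_le_a T h

theorem eq_or_two_le {i j : Fin n} (h : 0 < T.a i j) :
    T.a i j = T.w i ∨ 2 * T.w i ≤ T.a i j := by
  obtain ⟨c, hc⟩ := T.w_dvd i j
  have hw := T.w_pos i
  have h1 : 1 ≤ c := by
    by_contra hcon
    have : c ≤ 0 := by omega
    nlinarith
  rcases eq_or_lt_of_le h1 with h1 | h1
  · left; rw [hc, ← h1, mul_one]
  · right; rw [hc]; nlinarith

/-- An injective path `v 0, …, v s` in the dual graph. -/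
structure IsPath (v : ℕ → Fin n) (s : ℕ) : Prop where
  inj : ∀ i j, i ≤ s → j ≤ s → v i = v j → i = j
  adj : ∀ i, i < s → T.a (v i) (v (i + 1)) ≠ 0

namespace IsPath

variable {T} {v : ℕ → Fin n} {s : ℕ} (hp : IsPath T v s)
include hp

theorem ne {i j : ℕ} (hi : i ≤ s) (hj : j ≤ s) (h : i ≠ j) : v i ≠ v j :=
  fun h' => h (hp.inj i j hi hj h')

theorem adj' {i : ℕ} (hi : i < s) : T.a (v (i + 1)) (v i) ≠ 0 := by
  rw [a_symm T]; exact hp.adj i hi

theorem pos {i : ℕ} (hi : i < s) : 0 < T.a (v i) (v (i + 1)) :=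
  a_pos T (hp.ne (by omega) (by omega) (by omega)) (hp.adj i hi)

theorem pos' {i : ℕ} (hi : i < s) : 0 < T.a (v (i + 1)) (v i) :=
  a_pos T (hp.ne (by omega) (by omega) (by omega)) (hp.adj' hi)

theorem reverse : IsPath T (fun i => v (s - i)) s where
  inj := fun i j hi hj h => by
    have := hp.inj (s - i) (s - j) (by omega) (by omega) h
    omega
  adj := fun i hi => by
    have h := hp.adj' (i := s - (i + 1)) (by omega)
    have e : s - (i + 1) + 1 = s - i := by omega
    rw [e] at h
    exact h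

theorem sub (t t' : ℕ) (h : t ≤ t') (h' : t' ≤ s) : IsPath T (fun i => v (t + i)) (t' - t) where
  inj := fun i j hi hj hh => by
    have := hp.inj (t + i) (t + j) (by omega) (by omega) hh
    omega
  adj := fun i hi => by
    have := hp.adj (t + i) (by omega)
    rw [show t + (i + 1) = t + i + 1 by omega]
    exact this

theorem cons (u : Fin n) (hu : ∀ i, i ≤ s → v i ≠ u) (ha : T.a u (v 0) ≠ 0) :
    IsPath T (fun i => if i = 0 then u else v (i - 1)) (s + 1) where
  inj := fun i j hi hj hh => by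
    by_cases hi0 : i = 0
    · by_cases hj0 : j = 0
      · omega
      · exfalso
        simp only [hi0, if_true, hj0, if_false] at hh
        exact hu (j - 1) (by omega) hh.symm
    · by_cases hj0 : j = 0
      · exfalso
        simp only [hi0, if_false, hj0, if_true] at hh
        exact hu (i - 1) (by omega) hh
      · simp only [hi0, hj0, if_false] at hh
        have := hp.inj (i - 1) (j - 1) (by omega) (by omega) hh
        omega
  adj := fun i hi => by
    by_cases hi0 : i = 0
    · subst hi0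
      simpa using ha
    · have : ¬ (i + 1 = 0) := by omega
      simp only [hi0, this, if_false]
      have h := hp.adj (i - 1) (by omega)
      rw [show i - 1 + 1 = i by omega] at h
      rw [show i + 1 - 1 = i by omega]
      exact h

theorem bound : s + 1 ≤ n := by
  have : Function.Injective (fun i : Fin (s + 1) => v i.val) := fun a b h =>
    Fin.ext (hp.inj _ _ (by have := a.2; omega) (by have := b.2; omega) h)
  simpa using Fintype.card_le_of_injective _ this

end IsPath

theorem exists_max_path : ∃ v s, IsPath T v s ∧ ∀ v' s', IsPath T v' s' → s' ≤ s := by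
  classical
  let P : ℕ → Prop := fun s => ∃ v, IsPath T v s
  have h0 : P 0 := ⟨fun _ => ⟨0, T.pos⟩, ⟨fun i j hi hj _ => by omega, fun i hi => by omega⟩⟩
  have hs := Nat.findGreatest_spec (P := P) (Nat.zero_le n) h0
  obtain ⟨v, hv⟩ := hs
  refine ⟨v, _, hv, ?_⟩
  intro v' s' h'
  exact Nat.le_findGreatest (by have := h'.bound; omega) ⟨v', h'⟩

theorem perm_of_enum (f : ℕ → Fin n) (N : ℕ)
    (hinj : ∀ i j, i < N → j < N → f i = f j → i = j)
    (hsurj : ∀ z, ∃ i, i < N ∧ f i = z) :
    n = N ∧ ∃ σ : Equiv.Perm (Fin n), ∀ i : Fin n, σ i = f i.val := by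
  have hN : n = N := by
    let g : Fin N → Fin n := fun i => f i.val
    have hg : Function.Bijective g := ⟨fun a b h => Fin.ext (hinj _ _ a.2 b.2 h), fun z => by
      obtain ⟨i, hi, hz⟩ := hsurj z
      exact ⟨⟨i, hi⟩, hz⟩⟩
    have := Fintype.card_of_bijective hg
    simpa using this.symm
  subst hN
  refine ⟨rfl, ?_⟩
  have hb : Function.Bijective (fun i : Fin n => f i.val) :=
    ⟨fun a b h => Fin.ext (hinj _ _ a.2 b.2 h), fun z => by
      obtain ⟨i, hi, hz⟩ := hsurj z
      exact ⟨⟨i, hi⟩, hz⟩⟩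
  exact ⟨Equiv.ofBijective _ hb, fun i => rfl⟩

end Groth.Agent.Helper8.NT
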