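import Groth.Agent.Helper8.NTCyc

/-! Genus-one classification: capped paths. -/

namespace Groth.Agent.Helper8.NT

open Finset Models
open Groth.Agent.Helper3.NumType (row_sum a_symm Q_nonpos Q_neg)

variable {n : ℕ} (T : Models.NumericalType n)

/-- Abstract cap data at a vertex `c`: a nonnegative vector `y` supported on `E` contributing
at least half of what the row at `c` needs, with nonnegative rows on `E`. -/
structure Cap (c : Fin n) where
  E : Finset (Fin n)
  y : Fin n → ℤ
  y0 : ∀ z, z ∉ E → y z = 0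
  ypos : ∀ z, z ∈ E → 0 < y z
  hc : c ∉ E
  hii : 2 * T.w c ≤ ∑ e ∈ E, T.a c e * y e
  hiii : ∀ e, e ∈ E → T.w e * y e ≤ T.a e c

variable {T}

theorem capped (h2 : ∀ i, T.a i i = -2 * T.w i) (v : ℕ → Fin n) (s : ℕ) (hp : IsPath T v s)
    (L : Cap T (v 0)) (R : Cap T (v s))
    (hLd : ∀ i, i ≤ s → v i ∉ L.E) (hRd : ∀ i, i ≤ s → v i ∉ R.E) (hLR : Disjoint L.E R.E) :
    (∀ z, (∃ i, i ≤ s ∧ v i = z) ∨ z ∈ L.E ∨ z ∈ R.E) ∧
    (∀ i, i ≤ s → T.m (v i) = T.m (v 0)) ∧
    (∀ e, e ∈ L.E → 2 * T.m e = L.y e * T.m (v 0)) ∧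
    (∀ e, e ∈ R.E → 2 * T.m e = R.y e * T.m (v 0)) ∧
    (∀ i, i < s → T.a (v i) (v (i + 1)) = T.w (v i) ∧ T.w (v (i + 1)) = T.w (v i)) ∧
    (∀ i, i ≤ s → ∀ z, T.a (v i) z ≠ 0 → z = v i ∨ (1 ≤ i ∧ z = v (i - 1)) ∨
      (i < s ∧ z = v (i + 1)) ∨ (i = 0 ∧ z ∈ L.E) ∨ (i = s ∧ z ∈ R.E)) ∧
    (∑ e ∈ L.E, T.a (v 0) e * L.y e = 2 * T.w (v 0)) ∧
    (∑ e ∈ R.E, T.a (v s) e * R.y e = 2 * T.w (v s)) ∧
    (∀ e, e ∈ L.E → T.a e (v 0) = T.w e * L.y e ∧ ∀ z, T.a e z ≠ 0 → z = e ∨ z = v 0) ∧
    (∀ e, e ∈ R.E → T.a e (v s) = T.w e * R.y e ∧ ∀ z, T.a e z ≠ 0 → z = e ∨ z = v s) := by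
  classical
  set P : Finset (Fin n) := (Finset.range (s + 1)).image v with hP
  set x : Fin n → ℤ := fun z => (if z ∈ P then 2 else 0) + L.y z + R.y z with hxdef
  have hLy0 : ∀ z, 0 ≤ L.y z := by
    intro z
    by_cases h : z ∈ L.E
    · exact (L.ypos z h).le
    · rw [L.y0 z h]
  have hRy0 : ∀ z, 0 ≤ R.y z := by
    intro z
    by_cases h : z ∈ R.E
    · exact (R.ypos z h).le
    · rw [R.y0 z h]
  have hx : ∀ z, 0 ≤ x z := by
    intro z
    have := hLy0 z
    have := hRy0 z
    simp only [hxdef]; split_ifs <;> omega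
  have hxP : ∀ i, i ≤ s → x (v i) = 2 := by
    intro i hi
    simp only [hxdef]
    rw [if_pos (mem_pathSet.mpr ⟨i, hi, rfl⟩), L.y0 _ (hLd i hi), R.y0 _ (hRd i hi)]
    ring
  have hLP : ∀ e, e ∈ L.E → e ∉ P := by
    intro e he heP
    obtain ⟨i, hi, rfl⟩ := mem_pathSet.mp heP
    exact hLd i hi he
  have hRP : ∀ e, e ∈ R.E → e ∉ P := by
    intro e he heP
    obtain ⟨i, hi, rfl⟩ := mem_pathSet.mp heP
    exact hRd i hi he
  have hxL : ∀ e, e ∈ L.E → x e = L.y e := by
    intro e he
    simp only [hxdef]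
    rw [if_neg (hLP e he), R.y0 _ (Finset.disjoint_left.mp hLR he)]
    ring
  have hxR : ∀ e, e ∈ R.E → x e = R.y e := by
    intro e he
    simp only [hxdef]
    rw [if_neg (hRP e he), L.y0 _ (Finset.disjoint_right.mp hLR he)]
    ring
  have hx0 : ∀ z, z ∉ P → z ∉ L.E → z ∉ R.E → x z = 0 := by
    intro z h1 h3 h4
    simp only [hxdef]
    rw [if_neg h1, L.y0 _ h3, R.y0 _ h4]
    ring
  have hne : x ≠ 0 := by
    intro h
    have := congrFun h (v 0)
    rw [hxP 0 (by omega)] at this
    simp at this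
  -- neighbour sets of path vertices
  let NL : ℕ → Finset (Fin n) := fun i => if i = 0 then L.E else {v (i - 1)}
  let NR : ℕ → Finset (Fin n) := fun i => if i = s then R.E else {v (i + 1)}
  have hNLnot : ∀ i, i ≤ s → v i ∉ NL i := by
    intro i hi
    simp only [NL]
    split_ifs with h0
    · subst h0; exact L.hc
    · simp only [Finset.mem_singleton]
      exact hp.ne hi (by omega) (by omega)
  have hNRnot : ∀ i, i ≤ s → v i ∉ NR i := by
    intro i hi
    simp only [NR]
    split_ifs with h0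
    · subst h0; exact R.hc
    · simp only [Finset.mem_singleton]
      exact hp.ne hi (by omega) (by omega)
  have hNdisj : ∀ i, i ≤ s → Disjoint (NL i) (NR i) := by
    intro i hi
    simp only [NL, NR]
    split_ifs with h0 h1 h1
    · exact hLR
    · rw [Finset.disjoint_singleton_right]; exact hLd _ (by omega)
    · rw [Finset.disjoint_singleton_left]; exact hRd _ (by omega)
    · rw [Finset.disjoint_singleton]
      exact hp.ne (by omega) (by omega) (by omega)
  have hSL : ∀ i, i ≤ s → 2 * T.w (v i) ≤ ∑ j ∈ NL i, T.a (v i) j * x j := by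
    intro i hi
    simp only [NL]
    split_ifs with h0
    · subst h0
      have : ∑ j ∈ L.E, T.a (v 0) j * x j = ∑ j ∈ L.E, T.a (v 0) j * L.y j :=
        Finset.sum_congr rfl fun e he => by rw [hxL e he]
      rw [this]; exact L.hii
    · rw [Finset.sum_singleton, hxP _ (by omega)]
      have h := hp.pos' (i := i - 1) (by omega)
      rw [show i - 1 + 1 = i by omega] at h
      have := w_le_a T h
      linarith
  have hSR : ∀ i, i ≤ s → 2 * T.w (v i) ≤ ∑ j ∈ NR i, T.a (v i) j * x j := by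
    intro i hi
    simp only [NR]
    split_ifs with h0
    · subst h0
      have : ∑ j ∈ R.E, T.a (v i) j * x j = ∑ j ∈ R.E, T.a (v i) j * R.y j :=
        Finset.sum_congr rfl fun e he => by rw [hxR e he]
      rw [this]; exact R.hii
    · rw [Finset.sum_singleton, hxP _ (by omega)]
      have h := hp.pos (i := i) (by omega)
      have := w_le_a T h
      linarith
  have hNnot : ∀ i, i ≤ s → v i ∉ NL i ∪ NR i := by
    intro i hi
    rw [Finset.mem_union, not_or]
    exact ⟨hNLnot i hi, hNRnot i hi⟩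
  have hlowP : ∀ i, i ≤ s → 0 ≤ T.a (v i) (v i) * x (v i)
      + ∑ j ∈ NL i ∪ NR i, T.a (v i) j * x j := by
    intro i hi
    rw [Finset.sum_union (hNdisj i hi), hxP i hi, h2]
    have := hSL i hi
    have := hSR i hi
    linarith
  have hlowL : ∀ e, e ∈ L.E → 0 ≤ T.a e e * x e
      + ∑ j ∈ ({v 0} : Finset (Fin n)), T.a e j * x j := by
    intro e he
    rw [Finset.sum_singleton, hxP 0 (by omega), hxL e he, h2]
    have := L.hiii e he
    linarith
  have hlowR : ∀ e, e ∈ R.E → 0 ≤ T.a e e * x e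
      + ∑ j ∈ ({v s} : Finset (Fin n)), T.a e j * x j := by
    intro e he
    rw [Finset.sum_singleton, hxP s (by omega), hxR e he, h2]
    have := R.hiii e he
    linarith
  have hLnot : ∀ e, e ∈ L.E → e ∉ ({v 0} : Finset (Fin n)) := by
    intro e he
    rw [Finset.mem_singleton]
    rintro rfl
    exact L.hc he
  have hRnot : ∀ e, e ∈ R.E → e ∉ ({v s} : Finset (Fin n)) := by
    intro e he
    rw [Finset.mem_singleton]
    rintro rfl
    exact R.hc he
  obtain ⟨hpos, hr0, hprop⟩ := cert T x hx hne (by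
    intro z hz
    by_cases hzP : z ∈ P
    · obtain ⟨i, hi, rfl⟩ := mem_pathSet.mp hzP
      exact le_trans (hlowP i hi) (row_ge T x hx (v i) _ (hNnot i hi))
    by_cases hzL : z ∈ L.E
    · exact le_trans (hlowL z hzL) (row_ge T x hx z _ (hLnot z hzL))
    by_cases hzR : z ∈ R.E
    · exact le_trans (hlowR z hzR) (row_ge T x hx z _ (hRnot z hzR))
    exact absurd (hx0 z hzP hzL hzR) hz)
  have hall : ∀ z, (∃ i, i ≤ s ∧ v i = z) ∨ z ∈ L.E ∨ z ∈ R.E := by
    intro z
    by_contra hcon
    rw [not_or, not_or] at hcon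
    have h1 : z ∉ P := fun h => hcon.1 (mem_pathSet.mp h)
    have := hpos z
    rw [hx0 z h1 hcon.2.1 hcon.2.2] at this
    omega
  -- extraction at path vertices
  have hexP : ∀ i, i ≤ s → ∑ j ∈ NL i, T.a (v i) j * x j = 2 * T.w (v i) ∧
      ∑ j ∈ NR i, T.a (v i) j * x j = 2 * T.w (v i) ∧
      ∀ z, z ∉ NL i → z ∉ NR i → z ≠ v i → T.a (v i) z = 0 := by
    intro i hi
    obtain ⟨h0, hz⟩ := row_zero_out T x hpos (v i) _ (hNnot i hi) (hr0 _) (hlowP i hi)
    rw [Finset.sum_union (hNdisj i hi), hxP i hi, h2] at h0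
    have := hSL i hi
    have := hSR i hi
    refine ⟨by linarith, by linarith, ?_⟩
    intro z h1 h3 h4
    apply hz z _ h4
    rw [Finset.mem_union, not_or]
    exact ⟨h1, h3⟩
  have hexL : ∀ e, e ∈ L.E → T.a e (v 0) = T.w e * L.y e ∧
      ∀ z, T.a e z ≠ 0 → z = e ∨ z = v 0 := by
    intro e he
    obtain ⟨h0, hz⟩ := row_zero_out T x hpos e _ (hLnot e he) (hr0 _) (hlowL e he)
    rw [Finset.sum_singleton, hxP 0 (by omega), hxL e he, h2] at h0
    refine ⟨by linarith, ?_⟩
    intro z hza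
    by_contra hcon
    rw [not_or] at hcon
    exact hza (hz z (by rw [Finset.mem_singleton]; exact hcon.2) hcon.1)
  have hexR : ∀ e, e ∈ R.E → T.a e (v s) = T.w e * R.y e ∧
      ∀ z, T.a e z ≠ 0 → z = e ∨ z = v s := by
    intro e he
    obtain ⟨h0, hz⟩ := row_zero_out T x hpos e _ (hRnot e he) (hr0 _) (hlowR e he)
    rw [Finset.sum_singleton, hxP s (by omega), hxR e he, h2] at h0
    refine ⟨by linarith, ?_⟩
    intro z hza
    by_contra hcon
    rw [not_or] at hcon
    exact hza (hz z (by rw [Finset.mem_singleton]; exact hcon.2) hcon.1)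
  refine ⟨hall, ?_, ?_, ?_, ?_, ?_, ?_, ?_, hexL, hexR⟩
  · intro i hi
    have := hprop (v i) (v 0)
    rw [hxP i hi, hxP 0 (by omega)] at this
    linarith
  · intro e he
    have := hprop e (v 0)
    rw [hxL e he, hxP 0 (by omega)] at this
    linarith
  · intro e he
    have := hprop e (v 0)
    rw [hxR e he, hxP 0 (by omega)] at this
    linarith
  · intro i hi
    have h1 := (hexP i (by omega)).2.1
    have h3 := (hexP (i + 1) (by omega)).1
    simp only [NR] at h1
    rw [if_neg (by omega), Finset.sum_singleton, hxP _ (by omega)] at h1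
    simp only [NL] at h3
    rw [if_neg (by omega), Finset.sum_singleton, show i + 1 - 1 = i by omega, hxP _ (by omega),
      a_symm T] at h3
    constructor <;> linarith
  · intro i hi z hza
    by_contra hcon
    simp only [not_or, not_and] at hcon
    apply hza
    apply (hexP i hi).2.2 z
    · simp only [NL]
      split_ifs with h0
      · exact hcon.2.2.2.1 h0
      · rw [Finset.mem_singleton]; exact hcon.2.1 (by omega)
    · simp only [NR]
      split_ifs with h0
      · exact hcon.2.2.2.2 h0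
      · rw [Finset.mem_singleton]; exact hcon.2.2.1 (by omega)
    · exact hcon.1
  · have h1 := (hexP 0 (by omega)).1
    have e : NL 0 = L.E := by simp [NL]
    rw [e] at h1
    rw [← h1]
    exact Finset.sum_congr rfl fun e he => by rw [hxL e he]
  · have h1 := (hexP s (by omega)).2.1
    have e : NR s = R.E := by simp [NR]
    rw [e] at h1
    rw [← h1]
    exact Finset.sum_congr rfl fun e he => by rw [hxR e he]

variable (T)

/-- A cap consisting of a single vertex `u` with value `yu`. -/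
def Cap.single (c u : Fin n) (yu : ℤ) (hyu : 0 < yu) (hcu : c ≠ u)
    (h1 : 2 * T.w c ≤ T.a c u * yu) (h3 : T.w u * yu ≤ T.a u c) : Cap T c where
  E := {u}
  y := fun z => if z = u then yu else 0
  y0 := fun z hz => if_neg (by simpa using hz)
  ypos := fun z hz => by
    rw [Finset.mem_singleton] at hz
    rw [if_pos hz]; exact hyu
  hc := by simpa using hcu
  hii := by
    rw [Finset.sum_singleton, if_pos rfl]; exact h1
  hiii := fun e he => by
    rw [Finset.mem_singleton] at he
    subst he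
    rw [if_pos rfl]; exact h3

/-- A fork cap: two vertices `e1`, `e2` adjacent to `c`, each with value `1`. -/
def Cap.fork (c e1 e2 : Fin n) (h12 : e1 ≠ e2) (hc1 : c ≠ e1) (hc2 : c ≠ e2)
    (ha1 : T.a c e1 ≠ 0) (ha2 : T.a c e2 ≠ 0) : Cap T c where
  E := {e1, e2}
  y := fun z => if z = e1 ∨ z = e2 then 1 else 0
  y0 := fun z hz => if_neg (by simpa using hz)
  ypos := fun z hz => by
    rw [Finset.mem_insert, Finset.mem_singleton] at hz
    rw [if_pos hz]; norm_num
  hc := by
    rw [Finset.mem_insert, Finset.mem_singleton, not_or]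
    exact ⟨hc1, hc2⟩
  hii := by
    rw [Finset.sum_pair h12, if_pos (Or.inl rfl), if_pos (Or.inr rfl)]
    have := w_le_a T (a_pos T hc1 ha1)
    have := w_le_a T (a_pos T hc2 ha2)
    linarith
  hiii := fun e he => by
    rw [Finset.mem_insert, Finset.mem_singleton] at he
    rw [if_pos he, mul_one]
    rcases he with rfl | rfl
    · exact w_le_a T (a_pos T hc1.symm (by rw [a_symm T]; exact ha1))
    · exact w_le_a T (a_pos T hc2.symm (by rw [a_symm T]; exact ha2))

end Groth.Agent.Helper8.NT
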