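import Groth.Agent.Helper8.NTFamB

/-! Genus-one classification: explicit finite configurations (completed `E6`). -/

namespace Groth.Agent.Helper8.NT

open Finset Models
open Groth.Agent.Helper3.NumType (row_sum a_symm Q_nonpos Q_neg)

variable {n : ℕ} {T : Models.NumericalType n}

/-- An explicit configuration: distinct vertices `e i` with positive values `M i`, each having
listed neighbours `NB i` with `2 M i ≤ ∑_{j ∈ NB i} M j`.  Then the configuration is everything. -/
theorem config (h2 : ∀ i, T.a i i = -2 * T.w i) {k : ℕ} (hk : 0 < k) (e : Fin k → Fin n)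
    (he : Function.Injective e) (M : Fin k → ℤ) (hM : ∀ i, 0 < M i)
    (NB : Fin k → Finset (Fin k)) (hNB : ∀ i, i ∉ NB i)
    (hadj : ∀ i, ∀ j ∈ NB i, T.a (e i) (e j) ≠ 0)
    (hbal : ∀ i, 2 * M i ≤ ∑ j ∈ NB i, M j) :
    Function.Bijective e ∧
    (∀ i, ∀ j ∈ NB i, T.a (e i) (e j) = T.w (e i)) ∧
    (∀ i j, j ∉ NB i → j ≠ i → T.a (e i) (e j) = 0) ∧
    (∀ i j, M i * T.m (e j) = M j * T.m (e i)) := by
  classical
  set x : Fin n → ℤ := Function.extend e M 0 with hxdef
  have hxe : ∀ i, x (e i) = M i := fun i => he.extend_apply M 0 i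
  have hx0 : ∀ z, (¬ ∃ i, e i = z) → x z = 0 := fun z hz => by
    simp only [hxdef, Function.extend_apply' _ _ _ hz, Pi.zero_apply]
  have hx : ∀ z, 0 ≤ x z := by
    intro z
    by_cases hz : ∃ i, e i = z
    · obtain ⟨i, rfl⟩ := hz; rw [hxe]; exact (hM i).le
    · rw [hx0 z hz]
  have hne : x ≠ 0 := by
    intro h
    have := congrFun h (e ⟨0, hk⟩)
    rw [hxe] at this
    have := hM ⟨0, hk⟩
    simp at *
    omega
  let N : Fin k → Finset (Fin n) := fun i => (NB i).map ⟨e, he⟩
  have hNnot : ∀ i, e i ∉ N i := by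
    intro i hi
    simp only [N, Finset.mem_map, Function.Embedding.coeFn_mk] at hi
    obtain ⟨j, hj, hji⟩ := hi
    rw [he hji] at hj
    exact hNB i hj
  have hsumN : ∀ i, ∑ z ∈ N i, T.a (e i) z * x z = ∑ j ∈ NB i, T.a (e i) (e j) * M j := by
    intro i
    simp only [N]
    rw [Finset.sum_map]
    apply Finset.sum_congr rfl
    intro j _
    simp only [Function.Embedding.coeFn_mk, hxe]
  have hne' : ∀ i, ∀ j ∈ NB i, e i ≠ e j := by
    intro i j hj h
    rw [← he h] at hj
    exact hNB i hj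
  have hge : ∀ i, ∀ j ∈ NB i, T.w (e i) ≤ T.a (e i) (e j) := fun i j hj =>
    w_le_a T (a_pos T (hne' i j hj) (hadj i j hj))
  have hlow' : ∀ i, T.w (e i) * ∑ j ∈ NB i, M j ≤ ∑ j ∈ NB i, T.a (e i) (e j) * M j := by
    intro i
    rw [Finset.mul_sum]
    apply Finset.sum_le_sum
    intro j hj
    exact mul_le_mul_of_nonneg_right (hge i j hj) (hM j).le
  have hlow : ∀ i, 0 ≤ T.a (e i) (e i) * x (e i) + ∑ z ∈ N i, T.a (e i) z * x z := by
    intro i
    rw [hsumN, hxe, h2]
    have := hlow' i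
    have hw := T.w_pos (e i)
    have := mul_le_mul_of_nonneg_left (hbal i) hw.le
    linarith
  obtain ⟨hpos, hr0, hprop⟩ := cert T x hx hne (by
    intro z hz
    by_cases hze : ∃ i, e i = z
    · obtain ⟨i, rfl⟩ := hze
      exact le_trans (hlow i) (row_ge T x hx (e i) _ (hNnot i))
    · exact absurd (hx0 z hze) hz)
  have hsurj : Function.Surjective e := by
    intro z
    by_contra hz
    have := hpos z
    rw [hx0 z hz] at this
    omega
  have hex : ∀ i, (∀ j ∈ NB i, T.a (e i) (e j) = T.w (e i)) ∧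
      ∀ z, z ∉ N i → z ≠ e i → T.a (e i) z = 0 := by
    intro i
    obtain ⟨h0, hz⟩ := row_zero_out T x hpos (e i) _ (hNnot i) (hr0 _) (hlow i)
    rw [hsumN, hxe, h2] at h0
    refine ⟨?_, hz⟩
    have hw := T.w_pos (e i)
    have h1 := hlow' i
    have h3 := mul_le_mul_of_nonneg_left (hbal i) hw.le
    -- ∑ (a - w) M = 0 termwise
    have hsum0 : ∑ j ∈ NB i, (T.a (e i) (e j) - T.w (e i)) * M j = 0 := by
      have : ∑ j ∈ NB i, (T.a (e i) (e j) - T.w (e i)) * M j
          = ∑ j ∈ NB i, T.a (e i) (e j) * M j - T.w (e i) * ∑ j ∈ NB i, M j := by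
        rw [Finset.mul_sum, ← Finset.sum_sub_distrib]
        apply Finset.sum_congr rfl
        intro j _; ring
      rw [this]
      linarith
    have hnn : ∀ j ∈ NB i, 0 ≤ (T.a (e i) (e j) - T.w (e i)) * M j := fun j hj =>
      mul_nonneg (by have := hge i j hj; linarith) (hM j).le
    intro j hj
    have := (Finset.sum_eq_zero_iff_of_nonneg hnn).mp hsum0 j hj
    rcases mul_eq_zero.mp this with h | h
    · linarith
    · exact absurd h (hM j).ne'
  refine ⟨⟨he, hsurj⟩, fun i => (hex i).1, ?_, ?_⟩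
  · intro i j hj hji
    apply (hex i).2
    · intro h
      simp only [N, Finset.mem_map, Function.Embedding.coeFn_mk] at h
      obtain ⟨j', hj', hjj⟩ := h
      rw [he hjj] at hj'
      exact hj hj'
    · intro h; exact hji (he h)
  · intro i j
    have := hprop (e i) (e j)
    rw [hxe, hxe] at this
    exact this

/-- An exceptional type in explicit matrix form. -/
def Exc (T : Models.NumericalType n) (k : ℕ) (M : Fin k → ℤ) (A : Fin k → Fin k → ℤ) : Prop :=
  ∃ (e : Fin k → Fin n) (m w : ℤ), Function.Bijective e ∧ (∀ i, T.m (e i) = M i * m) ∧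
    (∀ i, T.w (e i) = w) ∧ ∀ i j, T.a (e i) (e j) = A i j * w

/-- neighbours in the completed `E6` graph, in the numbering of the statement -/
def E6NB : Fin 7 → Finset (Fin 7) := ![{1}, {0, 2}, {1, 4, 6}, {4}, {2, 3}, {6}, {2, 5}]

def E6M : Fin 7 → ℤ := ![1, 2, 3, 1, 2, 1, 2]

def E6A : Fin 7 → Fin 7 → ℤ := fun i j => if i = j then -2 else if j ∈ E6NB i then 1 else 0

theorem of_E6 (h2 : ∀ i, T.a i i = -2 * T.w i) (e : Fin 7 → Fin n) (he : Function.Injective e)
    (h01 : T.a (e 0) (e 1) ≠ 0) (h12 : T.a (e 1) (e 2) ≠ 0) (h24 : T.a (e 2) (e 4) ≠ 0)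
    (h26 : T.a (e 2) (e 6) ≠ 0) (h34 : T.a (e 3) (e 4) ≠ 0) (h56 : T.a (e 5) (e 6) ≠ 0) :
    Exc T 7 E6M E6A := by
  have hs : ∀ i j, T.a (e i) (e j) ≠ 0 → T.a (e j) (e i) ≠ 0 := fun i j h => by
    rw [a_symm T]; exact h
  obtain ⟨hb, hw, hz, hm⟩ := config h2 (by norm_num) e he E6M (by decide) E6NB (by decide)
    (by
      intro i j hj
      fin_cases i <;> fin_cases j <;> first
        | (exfalso; revert hj; decide)
        | assumption
        | (apply hs; assumption))
    (by decide)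
  -- all weights are equal
  have hww : ∀ i j, j ∈ E6NB i → T.w (e j) = T.w (e i) := by
    intro i j hj
    have hi : i ∈ E6NB j := by revert hj; revert i j; decide
    rw [← hw i j hj, ← hw j i hi, a_symm T]
  have hw1 := hww 0 1 (by decide)
  have hw2 := hww 1 2 (by decide)
  have hw4 := hww 2 4 (by decide)
  have hw6 := hww 2 6 (by decide)
  have hw3 := hww 4 3 (by decide)
  have hw5 := hww 6 5 (by decide)
  have hwall : ∀ i, T.w (e i) = T.w (e 0) := by
    intro i
    fin_cases i
    · rfl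
    · exact hw1
    · exact hw2.trans hw1
    · exact hw3.trans (hw4.trans (hw2.trans hw1))
    · exact hw4.trans (hw2.trans hw1)
    · exact hw5.trans (hw6.trans (hw2.trans hw1))
    · exact hw6.trans (hw2.trans hw1)
  refine ⟨e, T.m (e 0), T.w (e 0), hb, ?_, hwall, ?_⟩
  · intro i
    have := hm 0 i
    have h1 : E6M 0 = 1 := rfl
    rw [h1, one_mul] at this
    exact this
  · intro i j
    simp only [E6A]
    split_ifs with h1 h3
    · subst h1; rw [h2, hwall]
    · rw [hw i j h3, hwall, one_mul]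
    · rw [hz i j h3 (fun h => h1 h.symm), zero_mul]

end Groth.Agent.Helper8.NT
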