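import Groth.Agent.Helper8.NTBase

/-! Genus-one classification: the family predicates and the cycle case. -/

namespace Groth.Agent.Helper8.NT

open Finset Models
open Groth.Agent.Helper3.NumType (row_sum a_symm Q_nonpos Q_neg)

def Fam1 {n : ℕ} (T : Models.NumericalType n) (σ : Equiv.Perm (Fin n)) (m w : ℤ) : Prop :=
  ((∀ i : Fin n, T.m (σ i) = m) ∧
        (∀ i : Fin n, T.w (σ i) = w) ∧
        (∀ i j : Fin n, i.val < j.val → j.val = i.val + 1 → T.a (σ i) (σ j) = w) ∧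
        (∀ i j : Fin n, i.val < j.val → i.val = 0 ∧ j.val + 1 = n → T.a (σ i) (σ j) = w) ∧
        (∀ i j : Fin n, i.val < j.val → ¬ (j.val = i.val + 1) → ¬ (i.val = 0 ∧ j.val + 1 = n) → T.a (σ i) (σ j) = 0))

def Fam2 {n : ℕ} (T : Models.NumericalType n) (σ : Equiv.Perm (Fin n)) (m w : ℤ) : Prop :=
  ((∀ i : Fin n, i.val + 1 < n → T.m (σ i) = 2 * m) ∧
        (∀ i : Fin n, i.val + 1 = n → T.m (σ i) = m) ∧
        (∀ i : Fin n, i.val = 0 → T.w (σ i) = w) ∧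
        (∀ i : Fin n, 0 < i.val ∧ i.val + 1 < n → T.w (σ i) = 2 * w) ∧
        (∀ i : Fin n, i.val + 1 = n → T.w (σ i) = 4 * w) ∧
        (∀ i j : Fin n, i.val < j.val → j.val = i.val + 1 ∧ j.val + 1 < n → T.a (σ i) (σ j) = 2 * w) ∧
        (∀ i j : Fin n, i.val < j.val → j.val = i.val + 1 ∧ j.val + 1 = n → T.a (σ i) (σ j) = 4 * w) ∧
        (∀ i j : Fin n, i.val < j.val → ¬ (j.val = i.val + 1 ∧ j.val + 1 < n) → ¬ (j.val = i.val + 1 ∧ j.val + 1 = n) → T.a (σ i) (σ j) = 0))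

def Fam3 {n : ℕ} (T : Models.NumericalType n) (σ : Equiv.Perm (Fin n)) (m w : ℤ) : Prop :=
  ((∀ i : Fin n, T.m (σ i) = m) ∧
        (∀ i : Fin n, i.val = 0 → T.w (σ i) = w) ∧
        (∀ i : Fin n, 0 < i.val ∧ i.val + 1 < n → T.w (σ i) = 2 * w) ∧
        (∀ i : Fin n, i.val + 1 = n → T.w (σ i) = w) ∧
        (∀ i j : Fin n, i.val < j.val → j.val = i.val + 1 → T.a (σ i) (σ j) = 2 * w) ∧
        (∀ i j : Fin n, i.val < j.val → ¬ (j.val = i.val + 1) → T.a (σ i) (σ j) = 0))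

def Fam4 {n : ℕ} (T : Models.NumericalType n) (σ : Equiv.Perm (Fin n)) (m w : ℤ) : Prop :=
  ((∀ i : Fin n, i.val = 0 → T.m (σ i) = m) ∧
        (∀ i : Fin n, 0 < i.val ∧ i.val + 1 < n → T.m (σ i) = 2 * m) ∧
        (∀ i : Fin n, i.val + 1 = n → T.m (σ i) = m) ∧
        (∀ i : Fin n, i.val = 0 → T.w (σ i) = 2 * w) ∧
        (∀ i : Fin n, 0 < i.val ∧ i.val + 1 < n → T.w (σ i) = w) ∧
        (∀ i : Fin n, i.val + 1 = n → T.w (σ i) = 2 * w) ∧
        (∀ i j : Fin n, i.val < j.val → i.val = 0 ∧ j.val = 1 → T.a (σ i) (σ j) = 2 * w) ∧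
        (∀ i j : Fin n, i.val < j.val → j.val = i.val + 1 ∧ 1 ≤ i.val ∧ j.val + 2 ≤ n → T.a (σ i) (σ j) = w) ∧
        (∀ i j : Fin n, i.val < j.val → j.val = i.val + 1 ∧ j.val + 1 = n → T.a (σ i) (σ j) = 2 * w) ∧
        (∀ i j : Fin n, i.val < j.val → ¬ (i.val = 0 ∧ j.val = 1) → ¬ (j.val = i.val + 1 ∧ 1 ≤ i.val ∧ j.val + 2 ≤ n) → ¬ (j.val = i.val + 1 ∧ j.val + 1 = n) → T.a (σ i) (σ j) = 0))

def Fam5 {n : ℕ} (T : Models.NumericalType n) (σ : Equiv.Perm (Fin n)) (m w : ℤ) : Prop :=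
  ((∀ i : Fin n, i.val = 0 → T.m (σ i) = m) ∧
        (∀ i : Fin n, 1 ≤ i.val ∧ i.val + 2 < n → T.m (σ i) = 2 * m) ∧
        (∀ i : Fin n, n ≤ i.val + 2 → T.m (σ i) = m) ∧
        (∀ i : Fin n, i.val = 0 → T.w (σ i) = 2 * w) ∧
        (∀ i : Fin n, 0 < i.val → T.w (σ i) = w) ∧
        (∀ i j : Fin n, i.val < j.val → i.val = 0 ∧ j.val = 1 → T.a (σ i) (σ j) = 2 * w) ∧
        (∀ i j : Fin n, i.val < j.val → j.val = i.val + 1 ∧ 1 ≤ i.val ∧ j.val + 2 ≤ n → T.a (σ i) (σ j) = w) ∧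
        (∀ i j : Fin n, i.val < j.val → i.val + 3 = n ∧ j.val + 1 = n → T.a (σ i) (σ j) = w) ∧
        (∀ i j : Fin n, i.val < j.val → ¬ (i.val = 0 ∧ j.val = 1) → ¬ (j.val = i.val + 1 ∧ 1 ≤ i.val ∧ j.val + 2 ≤ n) → ¬ (i.val + 3 = n ∧ j.val + 1 = n) → T.a (σ i) (σ j) = 0))

def Fam6 {n : ℕ} (T : Models.NumericalType n) (σ : Equiv.Perm (Fin n)) (m w : ℤ) : Prop :=
  ((∀ i : Fin n, i.val + 2 < n → T.m (σ i) = 2 * m) ∧
        (∀ i : Fin n, n ≤ i.val + 2 → T.m (σ i) = m) ∧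
        (∀ i : Fin n, i.val = 0 → T.w (σ i) = w) ∧
        (∀ i : Fin n, 0 < i.val → T.w (σ i) = 2 * w) ∧
        (∀ i j : Fin n, i.val < j.val → j.val = i.val + 1 ∧ j.val + 2 ≤ n → T.a (σ i) (σ j) = 2 * w) ∧
        (∀ i j : Fin n, i.val < j.val → i.val + 3 = n ∧ j.val + 1 = n → T.a (σ i) (σ j) = 2 * w) ∧
        (∀ i j : Fin n, i.val < j.val → ¬ (j.val = i.val + 1 ∧ j.val + 2 ≤ n) → ¬ (i.val + 3 = n ∧ j.val + 1 = n) → T.a (σ i) (σ j) = 0))

def Fam7 {n : ℕ} (T : Models.NumericalType n) (σ : Equiv.Perm (Fin n)) (m w : ℤ) : Prop :=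
  ((∀ i : Fin n, i.val ≤ 1 → T.m (σ i) = m) ∧
        (∀ i : Fin n, 2 ≤ i.val ∧ i.val + 2 < n → T.m (σ i) = 2 * m) ∧
        (∀ i : Fin n, n ≤ i.val + 2 → T.m (σ i) = m) ∧
        (∀ i : Fin n, T.w (σ i) = w) ∧
        (∀ i j : Fin n, i.val < j.val → i.val = 0 ∧ j.val = 2 → T.a (σ i) (σ j) = w) ∧
        (∀ i j : Fin n, i.val < j.val → i.val = 1 ∧ j.val = 2 → T.a (σ i) (σ j) = w) ∧
        (∀ i j : Fin n, i.val < j.val → j.val = i.val + 1 ∧ 2 ≤ i.val ∧ j.val + 2 ≤ n → T.a (σ i) (σ j) = w) ∧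
        (∀ i j : Fin n, i.val < j.val → i.val + 3 = n ∧ j.val + 1 = n → T.a (σ i) (σ j) = w) ∧
        (∀ i j : Fin n, i.val < j.val → ¬ (i.val = 0 ∧ j.val = 2) → ¬ (i.val = 1 ∧ j.val = 2) → ¬ (j.val = i.val + 1 ∧ 2 ≤ i.val ∧ j.val + 2 ≤ n) → ¬ (i.val + 3 = n ∧ j.val + 1 = n) → T.a (σ i) (σ j) = 0))

variable {n : ℕ} (T : Models.NumericalType n)

/-- membership in the image of a path -/
theorem mem_pathSet {v : ℕ → Fin n} {s : ℕ} {z : Fin n} :
    z ∈ (Finset.range (s + 1)).image v ↔ ∃ i, i ≤ s ∧ v i = z := by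
  simp only [Finset.mem_image, Finset.mem_range]
  constructor
  · rintro ⟨i, hi, h⟩; exact ⟨i, by omega, h⟩
  · rintro ⟨i, hi, h⟩; exact ⟨i, by omega, h⟩

theorem of_cycle (h2 : ∀ i, T.a i i = -2 * T.w i) (v : ℕ → Fin n) (s : ℕ) (hp : IsPath T v s)
    (hs : 2 ≤ s) (hc : T.a (v 0) (v s) ≠ 0) :
    ∃ (σ : Equiv.Perm (Fin n)) (m w : ℤ), Fam1 T σ m w := by
  classical
  set P : Finset (Fin n) := (Finset.range (s + 1)).image v with hP
  set x : Fin n → ℤ := fun z => if z ∈ P then 1 else 0 with hxdef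
  have hxP : ∀ i, i ≤ s → x (v i) = 1 := fun i hi => if_pos (mem_pathSet.mpr ⟨i, hi, rfl⟩)
  have hx : ∀ z, 0 ≤ x z := by
    intro z; simp only [hxdef]; split_ifs <;> norm_num
  have hne : x ≠ 0 := by
    intro h
    have := congrFun h (v 0)
    rw [hxP 0 (by omega)] at this
    simp at this
  let pr : ℕ → ℕ := fun i => if i = 0 then s else i - 1
  let nx : ℕ → ℕ := fun i => if i = s then 0 else i + 1
  have hpr : ∀ i, i ≤ s → pr i ≤ s ∧ pr i ≠ i := by
    intro i hi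
    simp only [pr]; split_ifs <;> omega
  have hnx : ∀ i, i ≤ s → nx i ≤ s ∧ nx i ≠ i ∧ nx i ≠ pr i := by
    intro i hi
    simp only [nx, pr]; split_ifs <;> omega
  have hapr : ∀ i, i ≤ s → T.a (v i) (v (pr i)) ≠ 0 := by
    intro i hi
    simp only [pr]
    split_ifs with h0
    · subst h0; exact hc
    · have := hp.adj' (i := i - 1) (by omega)
      rw [show i - 1 + 1 = i by omega] at this
      exact this
  have hanx : ∀ i, i ≤ s → T.a (v i) (v (nx i)) ≠ 0 := by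
    intro i hi
    simp only [nx]
    split_ifs with h0
    · subst h0; rw [a_symm T]; exact hc
    · exact hp.adj i (by omega)
  -- neighbours are distinct vertices
  have hne1 : ∀ i, i ≤ s → v i ≠ v (pr i) := fun i hi =>
    hp.ne hi (hpr i hi).1 (hpr i hi).2.symm
  have hne2 : ∀ i, i ≤ s → v i ≠ v (nx i) := fun i hi =>
    hp.ne hi (hnx i hi).1 (hnx i hi).2.1.symm
  have hne3 : ∀ i, i ≤ s → v (pr i) ≠ v (nx i) := fun i hi =>
    hp.ne (hpr i hi).1 (hnx i hi).1 (hnx i hi).2.2.symm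
  have hlow : ∀ i, i ≤ s → 0 ≤ T.a (v i) (v i) * x (v i)
      + ∑ j ∈ ({v (pr i), v (nx i)} : Finset (Fin n)), T.a (v i) j * x j := by
    intro i hi
    rw [Finset.sum_pair (hne3 i hi), hxP i hi, hxP _ (hpr i hi).1, hxP _ (hnx i hi).1, h2]
    have h1 := w_le_a T (a_pos T (hne1 i hi) (hapr i hi))
    have h3 := w_le_a T (a_pos T (hne2 i hi) (hanx i hi))
    linarith
  have hnotin : ∀ i, i ≤ s → v i ∉ ({v (pr i), v (nx i)} : Finset (Fin n)) := by
    intro i hi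
    simp only [Finset.mem_insert, Finset.mem_singleton, not_or]
    exact ⟨hne1 i hi, hne2 i hi⟩
  obtain ⟨hpos, hr0, hprop⟩ := cert T x hx hne (by
    intro z hz
    have hzP : z ∈ P := by
      by_contra h
      exact hz (if_neg h)
    obtain ⟨i, hi, rfl⟩ := mem_pathSet.mp hzP
    exact le_trans (hlow i hi) (row_ge T x hx (v i) _ (hnotin i hi)))
  -- every vertex is on the path
  have hall : ∀ z, ∃ i, i ≤ s ∧ v i = z := by
    intro z
    have hzP : z ∈ P := by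
      by_contra h
      have := hpos z
      simp only [hxdef, if_neg h] at this
      omega
    exact mem_pathSet.mp hzP
  -- exact rows
  have hex : ∀ i, i ≤ s → T.a (v i) (v (pr i)) = T.w (v i) ∧ T.a (v i) (v (nx i)) = T.w (v i) ∧
      ∀ z, z ≠ v (pr i) → z ≠ v (nx i) → z ≠ v i → T.a (v i) z = 0 := by
    intro i hi
    obtain ⟨h0, hz⟩ := row_zero_out T x hpos (v i) _ (hnotin i hi) (hr0 _) (hlow i hi)
    rw [Finset.sum_pair (hne3 i hi), hxP i hi, hxP _ (hpr i hi).1, hxP _ (hnx i hi).1, h2] at h0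
    have h1 := w_le_a T (a_pos T (hne1 i hi) (hapr i hi))
    have h3 := w_le_a T (a_pos T (hne2 i hi) (hanx i hi))
    refine ⟨by linarith, by linarith, ?_⟩
    intro z hz1 hz2 hz3
    apply hz z _ hz3
    simp only [Finset.mem_insert, Finset.mem_singleton, not_or]
    exact ⟨hz1, hz2⟩
  -- weights are constant
  have hwstep : ∀ i, i < s → T.w (v (i + 1)) = T.w (v i) := by
    intro i hi
    have h1 := (hex i (by omega)).2.1
    have h3 := (hex (i + 1) (by omega)).1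
    have e1 : nx i = i + 1 := by simp only [nx]; rw [if_neg (by omega)]
    have e2 : pr (i + 1) = i := by simp only [pr]; rw [if_neg (by omega)]; omega
    rw [e1] at h1
    rw [e2, a_symm T] at h3
    rw [← h3, h1]
  have hw : ∀ i, i ≤ s → T.w (v i) = T.w (v 0) := by
    intro i
    induction i with
    | zero => intro _; rfl
    | succ k ih => intro hk; rw [hwstep k (by omega), ih (by omega)]
  have hm : ∀ z, T.m z = T.m (v 0) := by
    intro z
    obtain ⟨i, hi, rfl⟩ := hall z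
    have := hprop (v i) (v 0)
    rw [hxP i hi, hxP 0 (by omega)] at this
    linarith
  obtain ⟨hn, σ, hσ⟩ := perm_of_enum v (s + 1) (fun i j hi hj h => hp.inj i j (by omega) (by omega) h)
    (fun z => by obtain ⟨i, hi, h⟩ := hall z; exact ⟨i, by omega, h⟩)
  refine ⟨σ, T.m (v 0), T.w (v 0), ?_, ?_, ?_, ?_, ?_⟩
  · intro i; exact hm _
  · intro i; rw [hσ]; exact hw _ (by have := i.2; omega)
  · intro i j hij hj
    rw [hσ, hσ, hj]
    have hi : i.val < s := by have := j.2; omega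
    have h1 := (hex i.val (by omega)).2.1
    have e1 : nx i.val = i.val + 1 := by simp only [nx]; rw [if_neg (by omega)]
    rw [e1] at h1
    rw [h1, hw _ (by omega)]
  · intro i j hij hh
    rw [hσ, hσ, hh.1]
    have hj : j.val = s := by omega
    rw [hj]
    have h1 := (hex 0 (by omega)).1
    have e2 : pr 0 = s := by simp [pr]
    rw [e2] at h1
    exact h1
  · intro i j hij h1 h3
    rw [hσ, hσ]
    have hj : j.val ≤ s := by have := j.2; omega
    have hi : i.val ≤ s := by omega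
    apply (hex i.val hi).2.2
    · apply hp.ne hj (hpr _ hi).1
      simp only [pr]; split_ifs with h0
      · intro hjs; exact h3 ⟨h0, by omega⟩
      · omega
    · apply hp.ne hj (hnx _ hi).1
      simp only [nx]; split_ifs with h0
      · omega
      · omega
    · apply hp.ne hj hi; omega

end Groth.Agent.Helper8.NT
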