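import Groth.Agent.Helper8.NTCap

/-! Genus-one classification: the chain families. -/

namespace Groth.Agent.Helper8.NT

open Finset Models
open Groth.Agent.Helper3.NumType (row_sum a_symm Q_nonpos Q_neg)

variable {n : ℕ} {T : Models.NumericalType n}

theorem chain_concl (h2 : ∀ i, T.a i i = -2 * T.w i) (v : ℕ → Fin n) (s : ℕ) (hp : IsPath T v s)
    (u u' : Fin n) (yu yu' : ℤ) (hyu : 0 < yu) (hyu' : 0 < yu')
    (hu : ∀ i, i ≤ s → v i ≠ u) (hu' : ∀ i, i ≤ s → v i ≠ u') (huu' : u ≠ u')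
    (hL1 : 2 * T.w (v 0) ≤ T.a (v 0) u * yu) (hL2 : T.w u * yu ≤ T.a u (v 0))
    (hR1 : 2 * T.w (v s) ≤ T.a (v s) u' * yu') (hR2 : T.w u' * yu' ≤ T.a u' (v s)) :
    ∃ (σ : Equiv.Perm (Fin n)) (W μ : ℤ), n = s + 3 ∧
      (∀ i : Fin n, 1 ≤ i.val → i.val + 1 < n → T.m (σ i) = μ) ∧
      (∀ i : Fin n, i.val = 0 → 2 * T.m (σ i) = yu * μ) ∧
      (∀ i : Fin n, i.val + 1 = n → 2 * T.m (σ i) = yu' * μ) ∧
      (∀ i : Fin n, 1 ≤ i.val → i.val + 1 < n → T.w (σ i) = W) ∧
      (∀ i : Fin n, i.val = 0 → T.w (σ i) * yu * yu = 2 * W) ∧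
      (∀ i : Fin n, i.val + 1 = n → T.w (σ i) * yu' * yu' = 2 * W) ∧
      (∀ i j : Fin n, i.val = 0 → j.val = 1 → T.a (σ i) (σ j) * yu = 2 * W) ∧
      (∀ i j : Fin n, 1 ≤ i.val → j.val = i.val + 1 → j.val + 1 < n → T.a (σ i) (σ j) = W) ∧
      (∀ i j : Fin n, j.val = i.val + 1 → j.val + 1 = n → T.a (σ i) (σ j) * yu' = 2 * W) ∧
      (∀ i j : Fin n, i.val < j.val → j.val ≠ i.val + 1 → T.a (σ i) (σ j) = 0) := by
  classical
  let L : Cap T (v 0) := Cap.single T (v 0) u yu hyu (hu 0 (by omega)) hL1 hL2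
  let R : Cap T (v s) := Cap.single T (v s) u' yu' hyu' (hu' s (by omega)) hR1 hR2
  have hLE : ∀ z, z ∈ L.E ↔ z = u := fun z => Finset.mem_singleton
  have hRE : ∀ z, z ∈ R.E ↔ z = u' := fun z => Finset.mem_singleton
  have hLy : L.y u = yu := if_pos rfl
  have hRy : R.y u' = yu' := if_pos rfl
  obtain ⟨hall, hmP, hmL, hmR, hin, hnb, hsL, hsR, hexL, hexR⟩ := capped h2 v s hp L R
    (fun i hi => by rw [hLE]; exact hu i hi) (fun i hi => by rw [hRE]; exact hu' i hi)
    (by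
      rw [Finset.disjoint_left]
      intro z hz hz'
      rw [hLE] at hz; rw [hRE] at hz'
      exact huu' (hz.symm.trans hz'))
  have hsL' : T.a (v 0) u * yu = 2 * T.w (v 0) := by
    have : ∑ e ∈ L.E, T.a (v 0) e * L.y e = T.a (v 0) u * yu := by
      show ∑ e ∈ ({u} : Finset (Fin n)), T.a (v 0) e * L.y e = _
      rw [Finset.sum_singleton, hLy]
    rw [← this]; exact hsL
  have hsR' : T.a (v s) u' * yu' = 2 * T.w (v s) := by
    have : ∑ e ∈ R.E, T.a (v s) e * R.y e = T.a (v s) u' * yu' := by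
      show ∑ e ∈ ({u'} : Finset (Fin n)), T.a (v s) e * R.y e = _
      rw [Finset.sum_singleton, hRy]
    rw [← this]; exact hsR
  obtain ⟨hLa, hLz⟩ := hexL u ((hLE u).mpr rfl)
  obtain ⟨hRa, hRz⟩ := hexR u' ((hRE u').mpr rfl)
  rw [hLy] at hLa
  rw [hRy] at hRa
  have hmu := hmL u ((hLE u).mpr rfl)
  have hmu' := hmR u' ((hRE u').mpr rfl)
  rw [hLy] at hmu
  rw [hRy] at hmu'
  -- weights on the path
  have hwP : ∀ i, i ≤ s → T.w (v i) = T.w (v 0) := by
    intro i
    induction i with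
    | zero => intro _; rfl
    | succ k ih => intro hk; rw [(hin k (by omega)).2, ih (by omega)]
  -- the enumeration
  let f : ℕ → Fin n := fun i => if i = 0 then u else if i ≤ s + 1 then v (i - 1) else u'
  have hf0 : f 0 = u := if_pos rfl
  have hfm : ∀ i, 1 ≤ i → i ≤ s + 1 → f i = v (i - 1) := by
    intro i h1 h3
    simp only [f]; rw [if_neg (by omega), if_pos h3]
  have hfe : ∀ i, s + 2 ≤ i → f i = u' := by
    intro i hi
    simp only [f]; rw [if_neg (by omega), if_neg (by omega)]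
  have hlt : ∀ i j, i < j → j < s + 3 → f i ≠ f j := by
    intro i j hij hj
    by_cases hi0 : i = 0
    · subst hi0
      rw [hf0]
      by_cases hjm : j ≤ s + 1
      · rw [hfm j (by omega) hjm]; exact (hu _ (by omega)).symm
      · rw [hfe j (by omega)]; exact huu'
    · rw [hfm i (by omega) (by omega)]
      by_cases hjm : j ≤ s + 1
      · rw [hfm j (by omega) hjm]; exact hp.ne (by omega) (by omega) (by omega)
      · rw [hfe j (by omega)]; exact hu' _ (by omega)
  have hinj : ∀ i j, i < s + 3 → j < s + 3 → f i = f j → i = j := by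
    intro i j hi hj h
    rcases lt_trichotomy i j with hlt' | heq | hgt
    · exact absurd h (hlt i j hlt' hj)
    · exact heq
    · exact absurd h.symm (hlt j i hgt hi)
  have hsurj : ∀ z, ∃ i, i < s + 3 ∧ f i = z := by
    intro z
    rcases hall z with ⟨i, hi, rfl⟩ | hz | hz
    · exact ⟨i + 1, by omega, by rw [hfm (i + 1) (by omega) (by omega)]; rfl⟩
    · rw [hLE] at hz; exact ⟨0, by omega, by rw [hf0, hz]⟩
    · rw [hRE] at hz; exact ⟨s + 2, by omega, by rw [hfe _ le_rfl, hz]⟩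
  obtain ⟨hn, σ, hσ⟩ := perm_of_enum f (s + 3) hinj hsurj
  -- zero entries at the level of positions
  have hzero : ∀ i j, i < j → j < s + 3 → j ≠ i + 1 → T.a (f i) (f j) = 0 := by
    intro i j hij hj hne
    by_contra hcon
    have key : ∀ k, k < s + 3 → f j = f k → k = j := fun k hk h => (hinj j k hj hk h).symm
    by_cases hi0 : i = 0
    · subst hi0
      rw [hf0] at hcon
      rcases hLz _ hcon with h | h
      · have := key 0 (by omega) (by rw [h, hf0]); omega
      · have := key 1 (by omega) (by rw [h, hfm 1 (by omega) (by omega)]); omega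
    · rw [hfm i (by omega) (by omega)] at hcon
      rcases hnb (i - 1) (by omega) _ hcon with h | ⟨h1, h⟩ | ⟨h1, h⟩ | ⟨h1, h⟩ | ⟨h1, h⟩
      · have := key i (by omega) (by rw [h, hfm i (by omega) (by omega)]); omega
      · have := key (i - 1) (by omega) (by rw [h, hfm (i - 1) (by omega) (by omega)]); omega
      · have := key (i + 1) (by omega) (by
          rw [h, hfm (i + 1) (by omega) (by omega)]
          congr 1; omega)
        omega
      · rw [hLE] at h
        have := key 0 (by omega) (by rw [h, hf0]); omega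
      · rw [hRE] at h
        have := key (s + 2) (by omega) (by rw [h, hfe _ le_rfl]); omega
  refine ⟨σ, T.w (v 0), T.m (v 0), hn, ?_, ?_, ?_, ?_, ?_, ?_, ?_, ?_, ?_, ?_⟩
  · intro i h1 h3
    rw [hσ, hfm _ h1 (by omega)]
    exact hmP _ (by omega)
  · intro i h0
    rw [hσ, h0, hf0]; exact hmu
  · intro i h0
    rw [hσ, hfe _ (by omega)]; exact hmu'
  · intro i h1 h3
    rw [hσ, hfm _ h1 (by omega)]
    exact hwP _ (by omega)
  · intro i h0
    rw [hσ, h0, hf0]
    rw [a_symm T] at hLa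
    have : T.w u * yu * yu = T.a (v 0) u * yu := by rw [hLa]
    rw [this, hsL']
  · intro i h0
    rw [hσ, hfe _ (by omega)]
    rw [a_symm T] at hRa
    have : T.w u' * yu' * yu' = T.a (v s) u' * yu' := by rw [hRa]
    rw [this, hsR', hwP s le_rfl]
  · intro i j h0 h1
    rw [hσ, hσ, h0, h1, hf0, hfm 1 (by omega) (by omega), a_symm T]
    exact hsL'
  · intro i j h1 hj h3
    rw [hσ, hσ, hfm _ h1 (by omega), hfm _ (by omega) (by omega), hj]
    have := (hin (i.val - 1) (by omega)).1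
    rw [show i.val - 1 + 1 = i.val by omega] at this
    rw [show i.val + 1 - 1 = i.val by omega, this]
    exact hwP _ (by omega)
  · intro i j hj h3
    have hi : i.val = s + 1 := by omega
    rw [hσ, hσ, hfe j.val (by omega), hfm _ (by omega) (by omega), hi]
    rw [show s + 1 - 1 = s by omega, hsR', hwP s le_rfl]
  · intro i j hij hne
    rw [hσ, hσ]
    exact hzero _ _ hij (by have := j.2; omega) hne

theorem fam_chain_AA (h2 : ∀ i, T.a i i = -2 * T.w i) (v : ℕ → Fin n) (s : ℕ) (hp : IsPath T v s)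
    (u u' : Fin n) (hu : ∀ i, i ≤ s → v i ≠ u) (hu' : ∀ i, i ≤ s → v i ≠ u') (huu' : u ≠ u')
    (tL : 2 * T.w (v 0) ≤ T.a (v 0) u) (tR : 2 * T.w (v s) ≤ T.a (v s) u') :
    ∃ (σ : Equiv.Perm (Fin n)) (m w : ℤ), Fam4 T σ m w := by
  have hpL : 0 < T.a (v 0) u := by have := T.w_pos (v 0); linarith
  have hpR : 0 < T.a (v s) u' := by have := T.w_pos (v s); linarith
  obtain ⟨σ, W, μ, hn, hm1, hm0, hme, hw1, hw0, hwe, ha0, ha1, hae, haz⟩ :=
    chain_concl h2 v s hp u u' 1 1 one_pos one_pos hu hu' huu' (by linarith)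
      (by rw [mul_one, a_symm T]; exact w_le_a' T hpL) (by linarith)
      (by rw [mul_one, a_symm T]; exact w_le_a' T hpR)
  have h0n : 0 < n := by omega
  refine ⟨σ, T.m (σ ⟨0, h0n⟩), W, ?_, ?_, ?_, ?_, ?_, ?_, ?_, ?_, ?_, ?_⟩
  · intro i hi
    have : i = ⟨0, h0n⟩ := Fin.ext hi
    rw [this]
  · intro i hi
    rw [hm1 i (by omega) hi.2]
    have := hm0 ⟨0, h0n⟩ rfl
    linarith
  · intro i hi
    have := hme i hi
    have := hm0 ⟨0, h0n⟩ rfl
    linarith
  · intro i hi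
    have := hw0 i hi
    linarith
  · intro i hi
    exact hw1 i (by omega) hi.2
  · intro i hi
    have := hwe i hi
    linarith
  · intro i j _ hh
    have := ha0 i j hh.1 hh.2
    linarith
  · intro i j _ hh
    exact ha1 i j hh.2.1 hh.1 (by omega)
  · intro i j _ hh
    have := hae i j hh.1 hh.2
    linarith
  · intro i j hij h1 h3 h4
    apply haz i j hij
    intro hj
    by_cases hi0 : i.val = 0
    · exact h1 ⟨hi0, by omega⟩
    · by_cases hjn : j.val + 1 = n
      · exact h4 ⟨hj, hjn⟩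
      · exact h3 ⟨hj, by omega, by have := j.2; omega⟩

theorem fam_chain_BB (h2 : ∀ i, T.a i i = -2 * T.w i) (v : ℕ → Fin n) (s : ℕ) (hp : IsPath T v s)
    (u u' : Fin n) (hu : ∀ i, i ≤ s → v i ≠ u) (hu' : ∀ i, i ≤ s → v i ≠ u') (huu' : u ≠ u')
    (tL : 2 * T.w u ≤ T.a u (v 0)) (tR : 2 * T.w u' ≤ T.a u' (v s)) :
    ∃ (σ : Equiv.Perm (Fin n)) (m w : ℤ), Fam3 T σ m w := by
  have hpL : 0 < T.a u (v 0) := by have := T.w_pos u; linarith
  have hpR : 0 < T.a u' (v s) := by have := T.w_pos u'; linarith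
  obtain ⟨σ, W, μ, hn, hm1, hm0, hme, hw1, hw0, hwe, ha0, ha1, hae, haz⟩ :=
    chain_concl h2 v s hp u u' 2 2 two_pos two_pos hu hu' huu'
      (by have := w_le_a' T hpL; rw [a_symm T]; linarith) (by linarith)
      (by have := w_le_a' T hpR; rw [a_symm T]; linarith) (by linarith)
  have h0n : 0 < n := by omega
  refine ⟨σ, μ, T.w (σ ⟨0, h0n⟩), ?_, ?_, ?_, ?_, ?_, ?_⟩
  · intro i
    by_cases hi0 : i.val = 0
    · have := hm0 i hi0; linarith
    by_cases hie : i.val + 1 = n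
    · have := hme i hie; linarith
    · exact hm1 i (by omega) (by have := i.2; omega)
  · intro i hi
    have : i = ⟨0, h0n⟩ := Fin.ext hi
    rw [this]
  · intro i hi
    rw [hw1 i hi.1 hi.2]
    have := hw0 ⟨0, h0n⟩ rfl
    linarith
  · intro i hi
    have := hwe i hi
    have := hw0 ⟨0, h0n⟩ rfl
    linarith
  · intro i j hij hj
    have hW := hw0 ⟨0, h0n⟩ rfl
    by_cases hi0 : i.val = 0
    · have := ha0 i j hi0 (by omega); linarith
    by_cases hjn : j.val + 1 = n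
    · have := hae i j hj hjn; linarith
    · have := ha1 i j (by omega) hj (by have := j.2; omega); linarith
  · intro i j hij hj
    exact haz i j hij hj

theorem fam_chain_BA (h2 : ∀ i, T.a i i = -2 * T.w i) (v : ℕ → Fin n) (s : ℕ) (hp : IsPath T v s)
    (u u' : Fin n) (hu : ∀ i, i ≤ s → v i ≠ u) (hu' : ∀ i, i ≤ s → v i ≠ u') (huu' : u ≠ u')
    (tL : 2 * T.w u ≤ T.a u (v 0)) (tR : 2 * T.w (v s) ≤ T.a (v s) u') :
    ∃ (σ : Equiv.Perm (Fin n)) (m w : ℤ), Fam2 T σ m w := by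
  have hpL : 0 < T.a u (v 0) := by have := T.w_pos u; linarith
  have hpR : 0 < T.a (v s) u' := by have := T.w_pos (v s); linarith
  obtain ⟨σ, W, μ, hn, hm1, hm0, hme, hw1, hw0, hwe, ha0, ha1, hae, haz⟩ :=
    chain_concl h2 v s hp u u' 2 1 two_pos one_pos hu hu' huu'
      (by have := w_le_a' T hpL; rw [a_symm T]; linarith) (by linarith)
      (by linarith) (by rw [mul_one, a_symm T]; exact w_le_a' T hpR)
  have h0n : 0 < n := by omega
  have hen : n - 1 < n := by omega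
  have hW := hw0 ⟨0, h0n⟩ rfl
  have hM := hme ⟨n - 1, hen⟩ (by simp only; omega)
  refine ⟨σ, T.m (σ ⟨n - 1, hen⟩), T.w (σ ⟨0, h0n⟩), ?_, ?_, ?_, ?_, ?_, ?_, ?_, ?_⟩
  · intro i hi
    by_cases hi0 : i.val = 0
    · have := hm0 i hi0; linarith
    · rw [hm1 i (by omega) hi]; linarith
  · intro i hi
    have : i = ⟨n - 1, hen⟩ := Fin.ext (by simp only; omega)
    rw [this]
  · intro i hi
    have : i = ⟨0, h0n⟩ := Fin.ext hi
    rw [this]
  · intro i hi
    rw [hw1 i hi.1 hi.2]; linarith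
  · intro i hi
    have := hwe i hi
    linarith
  · intro i j hij hh
    by_cases hi0 : i.val = 0
    · have := ha0 i j hi0 (by omega); linarith
    · have := ha1 i j (by omega) hh.1 hh.2; linarith
  · intro i j hij hh
    have := hae i j hh.1 hh.2
    linarith
  · intro i j hij h1 h3
    apply haz i j hij
    intro hj
    by_cases hjn : j.val + 1 = n
    · exact h3 ⟨hj, hjn⟩
    · exact h1 ⟨hj, by have := j.2; omega⟩

/-- A path whose two end edges are non-simple: families 2, 3, 4. -/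
theorem fam_chain (h2 : ∀ i, T.a i i = -2 * T.w i) (v : ℕ → Fin n) (s : ℕ) (hp : IsPath T v s)
    (u u' : Fin n) (hu : ∀ i, i ≤ s → v i ≠ u) (hu' : ∀ i, i ≤ s → v i ≠ u') (huu' : u ≠ u')
    (tL : 2 * T.w (v 0) ≤ T.a (v 0) u ∨ 2 * T.w u ≤ T.a u (v 0))
    (tR : 2 * T.w (v s) ≤ T.a (v s) u' ∨ 2 * T.w u' ≤ T.a u' (v s)) :
    ∃ (σ : Equiv.Perm (Fin n)) (m w : ℤ), Fam2 T σ m w ∨ Fam3 T σ m w ∨ Fam4 T σ m w := by
  rcases tL with tL | tL <;> rcases tR with tR | tR
  · obtain ⟨σ, m, w, h⟩ := fam_chain_AA h2 v s hp u u' hu hu' huu' tL tR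
    exact ⟨σ, m, w, Or.inr (Or.inr h)⟩
  · -- (A, B): reverse the path
    obtain ⟨σ, m, w, h⟩ := fam_chain_BA h2 _ s hp.reverse u' u
      (fun i hi => hu' _ (by omega)) (fun i hi => hu _ (by omega)) huu'.symm
      (by simpa using tR) (by simpa using tL)
    exact ⟨σ, m, w, Or.inl h⟩
  · obtain ⟨σ, m, w, h⟩ := fam_chain_BA h2 v s hp u u' hu hu' huu' tL tR
    exact ⟨σ, m, w, Or.inl h⟩
  · obtain ⟨σ, m, w, h⟩ := fam_chain_BB h2 v s hp u u' hu hu' huu' tL tR
    exact ⟨σ, m, w, Or.inr (Or.inl h)⟩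

end Groth.Agent.Helper8.NT
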