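import Groth.Agent.Helper8.NTFamA

/-! Genus-one classification: the `D`-type families. -/

namespace Groth.Agent.Helper8.NT

open Finset Models
open Groth.Agent.Helper3.NumType (row_sum a_symm Q_nonpos Q_neg)

variable {n : ℕ} {T : Models.NumericalType n}

theorem dshape_concl (h2 : ∀ i, T.a i i = -2 * T.w i) (v : ℕ → Fin n) (s : ℕ)
    (hp : IsPath T v s) (u e1 e2 : Fin n) (yu : ℤ) (hyu : 0 < yu)
    (hu : ∀ i, i ≤ s → v i ≠ u) (he1 : ∀ i, i ≤ s → v i ≠ e1) (he2 : ∀ i, i ≤ s → v i ≠ e2)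
    (hue1 : u ≠ e1) (hue2 : u ≠ e2) (h12 : e1 ≠ e2)
    (hL1 : 2 * T.w (v 0) ≤ T.a (v 0) u * yu) (hL2 : T.w u * yu ≤ T.a u (v 0))
    (ha1 : T.a (v s) e1 ≠ 0) (ha2 : T.a (v s) e2 ≠ 0) :
    ∃ (σ : Equiv.Perm (Fin n)) (W μ : ℤ), n = s + 4 ∧
      (∀ i : Fin n, 1 ≤ i.val → i.val + 2 < n → T.m (σ i) = μ) ∧
      (∀ i : Fin n, i.val = 0 → 2 * T.m (σ i) = yu * μ) ∧
      (∀ i : Fin n, n ≤ i.val + 2 → 2 * T.m (σ i) = μ) ∧
      (∀ i : Fin n, 1 ≤ i.val → T.w (σ i) = W) ∧
      (∀ i : Fin n, i.val = 0 → T.w (σ i) * yu * yu = 2 * W) ∧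
      (∀ i j : Fin n, i.val = 0 → j.val = 1 → T.a (σ i) (σ j) * yu = 2 * W) ∧
      (∀ i j : Fin n, 1 ≤ i.val → j.val = i.val + 1 → j.val + 2 ≤ n → T.a (σ i) (σ j) = W) ∧
      (∀ i j : Fin n, i.val + 3 = n → j.val + 1 = n → T.a (σ i) (σ j) = W) ∧
      (∀ i j : Fin n, i.val < j.val → ¬ (j.val = i.val + 1 ∧ j.val + 2 ≤ n) →
        ¬ (i.val + 3 = n ∧ j.val + 1 = n) → T.a (σ i) (σ j) = 0) := by
  classical
  let L : Cap T (v 0) := Cap.single T (v 0) u yu hyu (hu 0 (by omega)) hL1 hL2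
  let R : Cap T (v s) := Cap.fork T (v s) e1 e2 h12 (he1 s le_rfl) (he2 s le_rfl) ha1 ha2
  have hLE : ∀ z, z ∈ L.E ↔ z = u := fun z => Finset.mem_singleton
  have hRE : ∀ z, z ∈ R.E ↔ z = e1 ∨ z = e2 := fun z => by
    show z ∈ ({e1, e2} : Finset (Fin n)) ↔ _
    rw [Finset.mem_insert, Finset.mem_singleton]
  have hLy : L.y u = yu := if_pos rfl
  have hRy1 : R.y e1 = 1 := if_pos (Or.inl rfl)
  have hRy2 : R.y e2 = 1 := if_pos (Or.inr rfl)
  obtain ⟨hall, hmP, hmL, hmR, hin, hnb, hsL, hsR, hexL, hexR⟩ := capped h2 v s hp L R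
    (fun i hi => by rw [hLE]; exact hu i hi)
    (fun i hi => by rw [hRE, not_or]; exact ⟨he1 i hi, he2 i hi⟩)
    (by
      rw [Finset.disjoint_left]
      intro z hz hz'
      rw [hLE] at hz; rw [hRE] at hz'
      subst hz
      rcases hz' with h | h
      · exact hue1 h
      · exact hue2 h)
  have hsL' : T.a (v 0) u * yu = 2 * T.w (v 0) := by
    have : ∑ e ∈ L.E, T.a (v 0) e * L.y e = T.a (v 0) u * yu := by
      show ∑ e ∈ ({u} : Finset (Fin n)), T.a (v 0) e * L.y e = _
      rw [Finset.sum_singleton, hLy]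
    rw [← this]; exact hsL
  have hsR' : T.a (v s) e1 + T.a (v s) e2 = 2 * T.w (v s) := by
    have : ∑ e ∈ R.E, T.a (v s) e * R.y e = T.a (v s) e1 + T.a (v s) e2 := by
      show ∑ e ∈ ({e1, e2} : Finset (Fin n)), T.a (v s) e * R.y e = _
      rw [Finset.sum_pair h12, hRy1, hRy2, mul_one, mul_one]
    rw [← this]; exact hsR
  have hge1 := w_le_a T (a_pos T (he1 s le_rfl) ha1)
  have hge2 := w_le_a T (a_pos T (he2 s le_rfl) ha2)
  have hae1 : T.a (v s) e1 = T.w (v s) := by linarith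
  have hae2 : T.a (v s) e2 = T.w (v s) := by linarith
  obtain ⟨hLa, hLz⟩ := hexL u ((hLE u).mpr rfl)
  obtain ⟨hR1a, hR1z⟩ := hexR e1 ((hRE e1).mpr (Or.inl rfl))
  obtain ⟨hR2a, hR2z⟩ := hexR e2 ((hRE e2).mpr (Or.inr rfl))
  rw [hLy] at hLa
  rw [hRy1, mul_one] at hR1a
  rw [hRy2, mul_one] at hR2a
  have hmu := hmL u ((hLE u).mpr rfl)
  have hm1 := hmR e1 ((hRE e1).mpr (Or.inl rfl))
  have hm2 := hmR e2 ((hRE e2).mpr (Or.inr rfl))
  rw [hLy] at hmu
  rw [hRy1, one_mul] at hm1
  rw [hRy2, one_mul] at hm2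
  have hwP : ∀ i, i ≤ s → T.w (v i) = T.w (v 0) := by
    intro i
    induction i with
    | zero => intro _; rfl
    | succ k ih => intro hk; rw [(hin k (by omega)).2, ih (by omega)]
  have hwe1 : T.w e1 = T.w (v 0) := by
    rw [← hR1a, a_symm T, hae1, hwP s le_rfl]
  have hwe2 : T.w e2 = T.w (v 0) := by
    rw [← hR2a, a_symm T, hae2, hwP s le_rfl]
  -- the enumeration
  let f : ℕ → Fin n := fun i =>
    if i = 0 then u else if i ≤ s + 1 then v (i - 1) else if i = s + 2 then e1 else e2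
  have hf0 : f 0 = u := if_pos rfl
  have hfm : ∀ i, 1 ≤ i → i ≤ s + 1 → f i = v (i - 1) := by
    intro i h1 h3
    simp only [f]; rw [if_neg (by omega), if_pos h3]
  have hf1 : f (s + 2) = e1 := by
    simp only [f]; rw [if_neg (by omega), if_neg (by omega)]; simp
  have hf2 : ∀ i, s + 3 ≤ i → f i = e2 := by
    intro i hi
    simp only [f]; rw [if_neg (by omega), if_neg (by omega), if_neg (by omega)]
  have hlt : ∀ i j, i < j → j < s + 4 → f i ≠ f j := by
    intro i j hij hj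
    by_cases hi0 : i = 0
    · subst hi0
      rw [hf0]
      by_cases hjm : j ≤ s + 1
      · rw [hfm j (by omega) hjm]; exact (hu _ (by omega)).symm
      by_cases hj1 : j = s + 2
      · rw [hj1, hf1]; exact hue1
      · rw [hf2 j (by omega)]; exact hue2
    by_cases him : i ≤ s + 1
    · rw [hfm i (by omega) him]
      by_cases hjm : j ≤ s + 1
      · rw [hfm j (by omega) hjm]; exact hp.ne (by omega) (by omega) (by omega)
      by_cases hj1 : j = s + 2
      · rw [hj1, hf1]; exact he1 _ (by omega)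
      · rw [hf2 j (by omega)]; exact he2 _ (by omega)
    · have hi1 : i = s + 2 := by omega
      rw [hi1, hf1, hf2 j (by omega)]; exact h12
  have hinj : ∀ i j, i < s + 4 → j < s + 4 → f i = f j → i = j := by
    intro i j hi hj h
    rcases lt_trichotomy i j with hlt' | heq | hgt
    · exact absurd h (hlt i j hlt' hj)
    · exact heq
    · exact absurd h.symm (hlt j i hgt hi)
  have hsurj : ∀ z, ∃ i, i < s + 4 ∧ f i = z := by
    intro z
    rcases hall z with ⟨i, hi, rfl⟩ | hz | hz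
    · exact ⟨i + 1, by omega, by rw [hfm (i + 1) (by omega) (by omega)]; rfl⟩
    · rw [hLE] at hz; exact ⟨0, by omega, by rw [hf0, hz]⟩
    · rw [hRE] at hz
      rcases hz with hz | hz
      · exact ⟨s + 2, by omega, by rw [hf1, hz]⟩
      · exact ⟨s + 3, by omega, by rw [hf2 _ le_rfl, hz]⟩
  obtain ⟨hn, σ, hσ⟩ := perm_of_enum f (s + 4) hinj hsurj
  have hzero : ∀ i j, i < j → j < s + 4 → ¬ (j = i + 1 ∧ j ≤ s + 2) →
      ¬ (i = s + 1 ∧ j = s + 3) → T.a (f i) (f j) = 0 := by
    intro i j hij hj hne1 hne2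
    by_contra hcon
    have key : ∀ k, k < s + 4 → f j = f k → k = j := fun k hk h => (hinj j k hj hk h).symm
    by_cases hi0 : i = 0
    · subst hi0
      rw [hf0] at hcon
      rcases hLz _ hcon with h | h
      · have := key 0 (by omega) (by rw [h, hf0]); omega
      · have := key 1 (by omega) (by rw [h, hfm 1 (by omega) (by omega)]); omega
    by_cases him : i ≤ s + 1
    · rw [hfm i (by omega) (by omega)] at hcon
      rcases hnb (i - 1) (by omega) _ hcon with h | ⟨h1, h⟩ | ⟨h1, h⟩ | ⟨h1, h⟩ | ⟨h1, h⟩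
      · have := key i (by omega) (by rw [h, hfm i (by omega) (by omega)]); omega
      · have := key (i - 1) (by omega) (by rw [h, hfm (i - 1) (by omega) (by omega)]); omega
      · have := key (i + 1) (by omega) (by
          rw [h, hfm (i + 1) (by omega) (by omega)]
          congr 1; omega)
        omega
      · rw [hLE] at h
        have := key 0 (by omega) (by rw [h, hf0]); omega
      · rw [hRE] at h
        rcases h with h | h
        · have := key (s + 2) (by omega) (by rw [h, hf1]); omega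
        · have := key (s + 3) (by omega) (by rw [h, hf2 _ le_rfl]); omega
    · have hi1 : i = s + 2 := by omega
      rw [hi1, hf1] at hcon
      rcases hR1z _ hcon with h | h
      · have := key (s + 2) (by omega) (by rw [h, hf1]); omega
      · have := key (s + 1) (by omega) (by
          rw [h, hfm (s + 1) (by omega) (by omega)]
          congr 1)
        omega
  refine ⟨σ, T.w (v 0), T.m (v 0), hn, ?_, ?_, ?_, ?_, ?_, ?_, ?_, ?_, ?_⟩
  · intro i h1 h3
    rw [hσ, hfm _ h1 (by omega)]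
    exact hmP _ (by omega)
  · intro i h0
    rw [hσ, h0, hf0]; exact hmu
  · intro i h0
    rw [hσ]
    by_cases hi1 : i.val = s + 2
    · rw [hi1, hf1]; exact hm1
    · rw [hf2 _ (by omega)]; exact hm2
  · intro i h1
    rw [hσ]
    by_cases him : i.val ≤ s + 1
    · rw [hfm _ h1 him]; exact hwP _ (by omega)
    by_cases hi1 : i.val = s + 2
    · rw [hi1, hf1]; exact hwe1
    · rw [hf2 _ (by omega)]; exact hwe2
  · intro i h0
    rw [hσ, h0, hf0]
    rw [a_symm T] at hLa
    have : T.w u * yu * yu = T.a (v 0) u * yu := by rw [hLa]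
    rw [this, hsL']
  · intro i j h0 h1
    rw [hσ, hσ, h0, h1, hf0, hfm 1 (by omega) (by omega), a_symm T]
    exact hsL'
  · intro i j h1 hj h3
    rw [hσ, hσ, hj]
    by_cases hjm : i.val + 1 ≤ s + 1
    · rw [hfm _ h1 (by omega), hfm _ (by omega) hjm]
      have := (hin (i.val - 1) (by omega)).1
      rw [show i.val - 1 + 1 = i.val by omega] at this
      rw [show i.val + 1 - 1 = i.val by omega, this]
      exact hwP _ (by omega)
    · have hi : i.val = s + 1 := by omega
      rw [hi, hf1, hfm _ (by omega) (by omega), show s + 1 - 1 = s by omega, hae1]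
      exact hwP s le_rfl
  · intro i j hi hj
    have hi' : i.val = s + 1 := by omega
    rw [hσ, hσ, hi', hf2 j.val (by omega), hfm (s + 1) (by omega) (by omega),
      show s + 1 - 1 = s by omega, hae2]
    exact hwP s le_rfl
  · intro i j hij h1 h3
    rw [hσ, hσ]
    apply hzero _ _ hij (by have := j.2; omega)
    · intro hh; exact h1 ⟨hh.1, by omega⟩
    · intro hh; exact h3 ⟨by omega, by omega⟩

/-- A path with a non-simple end edge at `v 0` and a fork at `v s`: families 5, 6. -/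
theorem fam_dshape (h2 : ∀ i, T.a i i = -2 * T.w i) (v : ℕ → Fin n) (s : ℕ)
    (hp : IsPath T v s) (u e1 e2 : Fin n)
    (hu : ∀ i, i ≤ s → v i ≠ u) (he1 : ∀ i, i ≤ s → v i ≠ e1) (he2 : ∀ i, i ≤ s → v i ≠ e2)
    (hue1 : u ≠ e1) (hue2 : u ≠ e2) (h12 : e1 ≠ e2)
    (tL : 2 * T.w (v 0) ≤ T.a (v 0) u ∨ 2 * T.w u ≤ T.a u (v 0))
    (ha1 : T.a (v s) e1 ≠ 0) (ha2 : T.a (v s) e2 ≠ 0) :
    ∃ (σ : Equiv.Perm (Fin n)) (m w : ℤ), n = s + 4 ∧ (Fam5 T σ m w ∨ Fam6 T σ m w) := by
  rcases tL with tL | tL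
  · have hpL : 0 < T.a (v 0) u := by have := T.w_pos (v 0); linarith
    obtain ⟨σ, W, μ, hn, hm1, hm0, hml, hw1, hw0, ha0, ha1', haf, haz⟩ :=
      dshape_concl h2 v s hp u e1 e2 1 one_pos hu he1 he2 hue1 hue2 h12 (by linarith)
        (by rw [mul_one, a_symm T]; exact w_le_a' T hpL) ha1 ha2
    have h0n : 0 < n := by omega
    have hM := hm0 ⟨0, h0n⟩ rfl
    refine ⟨σ, T.m (σ ⟨0, h0n⟩), W, hn, Or.inl ⟨?_, ?_, ?_, ?_, ?_, ?_, ?_, ?_, ?_⟩⟩
    · intro i hi
      have : i = ⟨0, h0n⟩ := Fin.ext hi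
      rw [this]
    · intro i hi
      rw [hm1 i hi.1 hi.2]; linarith
    · intro i hi
      have := hml i hi
      linarith
    · intro i hi
      have := hw0 i hi
      linarith
    · intro i hi
      exact hw1 i (by omega)
    · intro i j _ hh
      have := ha0 i j hh.1 hh.2
      linarith
    · intro i j _ hh
      exact ha1' i j hh.2.1 hh.1 hh.2.2
    · intro i j _ hh
      exact haf i j hh.1 hh.2
    · intro i j hij h1 h3 h4
      apply haz i j hij _ h4
      intro hh
      by_cases hi0 : i.val = 0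
      · exact h1 ⟨hi0, by omega⟩
      · exact h3 ⟨hh.1, by omega, hh.2⟩
  · have hpL : 0 < T.a u (v 0) := by have := T.w_pos u; linarith
    obtain ⟨σ, W, μ, hn, hm1, hm0, hml, hw1, hw0, ha0, ha1', haf, haz⟩ :=
      dshape_concl h2 v s hp u e1 e2 2 two_pos hu he1 he2 hue1 hue2 h12
        (by have := w_le_a' T hpL; rw [a_symm T]; linarith) (by linarith) ha1 ha2
    have h0n : 0 < n := by omega
    have hen : n - 1 < n := by omega
    have hW := hw0 ⟨0, h0n⟩ rfl
    have hM := hml ⟨n - 1, hen⟩ (by simp only; omega)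
    refine ⟨σ, T.m (σ ⟨n - 1, hen⟩), T.w (σ ⟨0, h0n⟩), hn, Or.inr ⟨?_, ?_, ?_, ?_, ?_, ?_, ?_⟩⟩
    · intro i hi
      by_cases hi0 : i.val = 0
      · have := hm0 i hi0; linarith
      · rw [hm1 i (by omega) hi]; linarith
    · intro i hi
      have := hml i hi
      linarith
    · intro i hi
      have : i = ⟨0, h0n⟩ := Fin.ext hi
      rw [this]
    · intro i hi
      rw [hw1 i (by omega)]; linarith
    · intro i j hij hh
      by_cases hi0 : i.val = 0
      · have := ha0 i j hi0 (by omega); linarith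
      · have := ha1' i j (by omega) hh.1 hh.2; linarith
    · intro i j hij hh
      have := haf i j hh.1 hh.2
      linarith
    · intro i j hij h1 h3
      exact haz i j hij h1 h3

/-- A path with forks at both ends: family 7. -/
theorem fam_dfork (h2 : ∀ i, T.a i i = -2 * T.w i) (v : ℕ → Fin n) (s : ℕ)
    (hp : IsPath T v s) (e1 e2 e3 e4 : Fin n)
    (he1 : ∀ i, i ≤ s → v i ≠ e1) (he2 : ∀ i, i ≤ s → v i ≠ e2)
    (he3 : ∀ i, i ≤ s → v i ≠ e3) (he4 : ∀ i, i ≤ s → v i ≠ e4)
    (h12 : e1 ≠ e2) (h13 : e1 ≠ e3) (h14 : e1 ≠ e4) (h23 : e2 ≠ e3) (h24 : e2 ≠ e4)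
    (h34 : e3 ≠ e4)
    (ha1 : T.a (v 0) e1 ≠ 0) (ha2 : T.a (v 0) e2 ≠ 0)
    (ha3 : T.a (v s) e3 ≠ 0) (ha4 : T.a (v s) e4 ≠ 0) :
    ∃ (σ : Equiv.Perm (Fin n)) (m w : ℤ), n = s + 5 ∧ Fam7 T σ m w := by
  classical
  let L : Cap T (v 0) := Cap.fork T (v 0) e1 e2 h12 (he1 0 (by omega)) (he2 0 (by omega)) ha1 ha2
  let R : Cap T (v s) := Cap.fork T (v s) e3 e4 h34 (he3 s le_rfl) (he4 s le_rfl) ha3 ha4
  have hLE : ∀ z, z ∈ L.E ↔ z = e1 ∨ z = e2 := fun z => by
    show z ∈ ({e1, e2} : Finset (Fin n)) ↔ _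
    rw [Finset.mem_insert, Finset.mem_singleton]
  have hRE : ∀ z, z ∈ R.E ↔ z = e3 ∨ z = e4 := fun z => by
    show z ∈ ({e3, e4} : Finset (Fin n)) ↔ _
    rw [Finset.mem_insert, Finset.mem_singleton]
  have hLy1 : L.y e1 = 1 := if_pos (Or.inl rfl)
  have hLy2 : L.y e2 = 1 := if_pos (Or.inr rfl)
  have hRy3 : R.y e3 = 1 := if_pos (Or.inl rfl)
  have hRy4 : R.y e4 = 1 := if_pos (Or.inr rfl)
  obtain ⟨hall, hmP, hmL, hmR, hin, hnb, hsL, hsR, hexL, hexR⟩ := capped h2 v s hp L R
    (fun i hi => by rw [hLE, not_or]; exact ⟨he1 i hi, he2 i hi⟩)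
    (fun i hi => by rw [hRE, not_or]; exact ⟨he3 i hi, he4 i hi⟩)
    (by
      rw [Finset.disjoint_left]
      intro z hz hz'
      rw [hLE] at hz; rw [hRE] at hz'
      rcases hz with rfl | rfl <;> rcases hz' with h | h
      · exact h13 h
      · exact h14 h
      · exact h23 h
      · exact h24 h)
  have hsL' : T.a (v 0) e1 + T.a (v 0) e2 = 2 * T.w (v 0) := by
    have : ∑ e ∈ L.E, T.a (v 0) e * L.y e = T.a (v 0) e1 + T.a (v 0) e2 := by
      show ∑ e ∈ ({e1, e2} : Finset (Fin n)), T.a (v 0) e * L.y e = _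
      rw [Finset.sum_pair h12, hLy1, hLy2, mul_one, mul_one]
    rw [← this]; exact hsL
  have hsR' : T.a (v s) e3 + T.a (v s) e4 = 2 * T.w (v s) := by
    have : ∑ e ∈ R.E, T.a (v s) e * R.y e = T.a (v s) e3 + T.a (v s) e4 := by
      show ∑ e ∈ ({e3, e4} : Finset (Fin n)), T.a (v s) e * R.y e = _
      rw [Finset.sum_pair h34, hRy3, hRy4, mul_one, mul_one]
    rw [← this]; exact hsR
  have hge1 := w_le_a T (a_pos T (he1 0 (by omega)) ha1)
  have hge2 := w_le_a T (a_pos T (he2 0 (by omega)) ha2)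
  have hge3 := w_le_a T (a_pos T (he3 s le_rfl) ha3)
  have hge4 := w_le_a T (a_pos T (he4 s le_rfl) ha4)
  have hae1 : T.a (v 0) e1 = T.w (v 0) := by linarith
  have hae2 : T.a (v 0) e2 = T.w (v 0) := by linarith
  have hae3 : T.a (v s) e3 = T.w (v s) := by linarith
  have hae4 : T.a (v s) e4 = T.w (v s) := by linarith
  obtain ⟨hL1a, hL1z⟩ := hexL e1 ((hLE e1).mpr (Or.inl rfl))
  obtain ⟨hL2a, hL2z⟩ := hexL e2 ((hLE e2).mpr (Or.inr rfl))
  obtain ⟨hR3a, hR3z⟩ := hexR e3 ((hRE e3).mpr (Or.inl rfl))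
  obtain ⟨hR4a, hR4z⟩ := hexR e4 ((hRE e4).mpr (Or.inr rfl))
  rw [hLy1, mul_one] at hL1a
  rw [hLy2, mul_one] at hL2a
  rw [hRy3, mul_one] at hR3a
  rw [hRy4, mul_one] at hR4a
  have hm1 := hmL e1 ((hLE e1).mpr (Or.inl rfl))
  have hm2 := hmL e2 ((hLE e2).mpr (Or.inr rfl))
  have hm3 := hmR e3 ((hRE e3).mpr (Or.inl rfl))
  have hm4 := hmR e4 ((hRE e4).mpr (Or.inr rfl))
  rw [hLy1, one_mul] at hm1
  rw [hLy2, one_mul] at hm2
  rw [hRy3, one_mul] at hm3
  rw [hRy4, one_mul] at hm4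
  have hwP : ∀ i, i ≤ s → T.w (v i) = T.w (v 0) := by
    intro i
    induction i with
    | zero => intro _; rfl
    | succ k ih => intro hk; rw [(hin k (by omega)).2, ih (by omega)]
  have hwe1 : T.w e1 = T.w (v 0) := by rw [← hL1a, a_symm T, hae1]
  have hwe2 : T.w e2 = T.w (v 0) := by rw [← hL2a, a_symm T, hae2]
  have hwe3 : T.w e3 = T.w (v 0) := by rw [← hR3a, a_symm T, hae3, hwP s le_rfl]
  have hwe4 : T.w e4 = T.w (v 0) := by rw [← hR4a, a_symm T, hae4, hwP s le_rfl]
  -- the enumeration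
  let f : ℕ → Fin n := fun i =>
    if i = 0 then e1 else if i = 1 then e2 else if i ≤ s + 2 then v (i - 2)
      else if i = s + 3 then e3 else e4
  have hf0 : f 0 = e1 := if_pos rfl
  have hf1 : f 1 = e2 := by simp [f]
  have hfm : ∀ i, 2 ≤ i → i ≤ s + 2 → f i = v (i - 2) := by
    intro i h1 h3
    simp only [f]; rw [if_neg (by omega), if_neg (by omega), if_pos h3]
  have hf3 : f (s + 3) = e3 := by
    simp only [f]; rw [if_neg (by omega), if_neg (by omega), if_neg (by omega)]; simp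
  have hf4 : ∀ i, s + 4 ≤ i → f i = e4 := by
    intro i hi
    simp only [f]
    rw [if_neg (by omega), if_neg (by omega), if_neg (by omega), if_neg (by omega)]
  have hlt : ∀ i j, i < j → j < s + 5 → f i ≠ f j := by
    intro i j hij hj
    by_cases hi0 : i = 0
    · subst hi0
      rw [hf0]
      by_cases hj1 : j = 1
      · rw [hj1, hf1]; exact h12
      by_cases hjm : j ≤ s + 2
      · rw [hfm j (by omega) hjm]; exact (he1 _ (by omega)).symm
      by_cases hj3 : j = s + 3
      · rw [hj3, hf3]; exact h13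
      · rw [hf4 j (by omega)]; exact h14
    by_cases hi1 : i = 1
    · subst hi1
      rw [hf1]
      by_cases hjm : j ≤ s + 2
      · rw [hfm j (by omega) hjm]; exact (he2 _ (by omega)).symm
      by_cases hj3 : j = s + 3
      · rw [hj3, hf3]; exact h23
      · rw [hf4 j (by omega)]; exact h24
    by_cases him : i ≤ s + 2
    · rw [hfm i (by omega) him]
      by_cases hjm : j ≤ s + 2
      · rw [hfm j (by omega) hjm]; exact hp.ne (by omega) (by omega) (by omega)
      by_cases hj3 : j = s + 3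
      · rw [hj3, hf3]; exact he3 _ (by omega)
      · rw [hf4 j (by omega)]; exact he4 _ (by omega)
    · have hi3 : i = s + 3 := by omega
      rw [hi3, hf3, hf4 j (by omega)]; exact h34
  have hinj : ∀ i j, i < s + 5 → j < s + 5 → f i = f j → i = j := by
    intro i j hi hj h
    rcases lt_trichotomy i j with hlt' | heq | hgt
    · exact absurd h (hlt i j hlt' hj)
    · exact heq
    · exact absurd h.symm (hlt j i hgt hi)
  have hsurj : ∀ z, ∃ i, i < s + 5 ∧ f i = z := by
    intro z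
    rcases hall z with ⟨i, hi, rfl⟩ | hz | hz
    · exact ⟨i + 2, by omega, by rw [hfm (i + 2) (by omega) (by omega)]; rfl⟩
    · rw [hLE] at hz
      rcases hz with hz | hz
      · exact ⟨0, by omega, by rw [hf0, hz]⟩
      · exact ⟨1, by omega, by rw [hf1, hz]⟩
    · rw [hRE] at hz
      rcases hz with hz | hz
      · exact ⟨s + 3, by omega, by rw [hf3, hz]⟩
      · exact ⟨s + 4, by omega, by rw [hf4 _ le_rfl, hz]⟩
  obtain ⟨hn, σ, hσ⟩ := perm_of_enum f (s + 5) hinj hsurj
  have hzero : ∀ i j, i < j → j < s + 5 → ¬ (i = 0 ∧ j = 2) → ¬ (i = 1 ∧ j = 2) →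
      ¬ (j = i + 1 ∧ 2 ≤ i ∧ j ≤ s + 3) → ¬ (i = s + 2 ∧ j = s + 4) → T.a (f i) (f j) = 0 := by
    intro i j hij hj hne1 hne2 hne3 hne4
    by_contra hcon
    have key : ∀ k, k < s + 5 → f j = f k → k = j := fun k hk h => (hinj j k hj hk h).symm
    by_cases hi0 : i = 0
    · subst hi0
      rw [hf0] at hcon
      rcases hL1z _ hcon with h | h
      · have := key 0 (by omega) (by rw [h, hf0]); omega
      · have := key 2 (by omega) (by rw [h, hfm 2 (by omega) (by omega)]); omega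
    by_cases hi1 : i = 1
    · subst hi1
      rw [hf1] at hcon
      rcases hL2z _ hcon with h | h
      · have := key 1 (by omega) (by rw [h, hf1]); omega
      · have := key 2 (by omega) (by rw [h, hfm 2 (by omega) (by omega)]); omega
    by_cases him : i ≤ s + 2
    · rw [hfm i (by omega) (by omega)] at hcon
      rcases hnb (i - 2) (by omega) _ hcon with h | ⟨h1, h⟩ | ⟨h1, h⟩ | ⟨h1, h⟩ | ⟨h1, h⟩
      · have := key i (by omega) (by rw [h, hfm i (by omega) (by omega)]); omega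
      · have := key (i - 1) (by omega) (by
          rw [h, hfm (i - 1) (by omega) (by omega)]
          congr 1)
        omega
      · have := key (i + 1) (by omega) (by
          rw [h, hfm (i + 1) (by omega) (by omega)]
          congr 1; omega)
        omega
      · rw [hLE] at h
        rcases h with h | h
        · have := key 0 (by omega) (by rw [h, hf0]); omega
        · have := key 1 (by omega) (by rw [h, hf1]); omega
      · rw [hRE] at h
        rcases h with h | h
        · have := key (s + 3) (by omega) (by rw [h, hf3]); omega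
        · have := key (s + 4) (by omega) (by rw [h, hf4 _ le_rfl]); omega
    · have hi3 : i = s + 3 := by omega
      rw [hi3, hf3] at hcon
      rcases hR3z _ hcon with h | h
      · have := key (s + 3) (by omega) (by rw [h, hf3]); omega
      · have := key (s + 2) (by omega) (by
          rw [h, hfm (s + 2) (by omega) (by omega)]
          congr 1)
        omega
  refine ⟨σ, T.m e1, T.w (v 0), hn, ?_, ?_, ?_, ?_, ?_, ?_, ?_, ?_, ?_⟩
  · intro i hi
    rw [hσ]
    by_cases hi0 : i.val = 0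
    · rw [hi0, hf0]
    · rw [show i.val = 1 by omega, hf1]; linarith
  · intro i hi
    rw [hσ, hfm _ hi.1 (by omega), hmP _ (by omega)]; linarith
  · intro i hi
    rw [hσ]
    by_cases hi3 : i.val = s + 3
    · rw [hi3, hf3]; linarith
    · rw [hf4 _ (by omega)]; linarith
  · intro i
    rw [hσ]
    by_cases hi0 : i.val = 0
    · rw [hi0, hf0]; exact hwe1
    by_cases hi1 : i.val = 1
    · rw [hi1, hf1]; exact hwe2
    by_cases him : i.val ≤ s + 2
    · rw [hfm _ (by omega) him]; exact hwP _ (by omega)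
    by_cases hi3 : i.val = s + 3
    · rw [hi3, hf3]; exact hwe3
    · rw [hf4 _ (by omega)]; exact hwe4
  · intro i j _ hh
    rw [hσ, hσ, hh.1, hh.2, hf0, hfm 2 (by omega) (by omega), a_symm T]
    exact hae1
  · intro i j _ hh
    rw [hσ, hσ, hh.1, hh.2, hf1, hfm 2 (by omega) (by omega), a_symm T]
    exact hae2
  · intro i j _ hh
    rw [hσ, hσ, hh.1]
    by_cases hjm : i.val + 1 ≤ s + 2
    · rw [hfm i.val hh.2.1 (by omega), hfm (i.val + 1) (by omega) hjm]
      have := (hin (i.val - 2) (by omega)).1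
      rw [show i.val - 2 + 1 = i.val + 1 - 2 by omega] at this
      rw [this]
      exact hwP _ (by omega)
    · have hi : i.val = s + 2 := by omega
      rw [hi, hf3, hfm (s + 2) (by omega) (by omega), show s + 2 - 2 = s by omega, hae3]
      exact hwP s le_rfl
  · intro i j _ hh
    have hi' : i.val = s + 2 := by omega
    rw [hσ, hσ, hi', hf4 j.val (by omega), hfm (s + 2) (by omega) (by omega),
      show s + 2 - 2 = s by omega, hae4]
    exact hwP s le_rfl
  · intro i j hij h1 h3 h4 h5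
    rw [hσ, hσ]
    apply hzero _ _ hij (by have := j.2; omega) h1 h3
    · intro hh; exact h4 ⟨hh.1, hh.2.1, by omega⟩
    · intro hh; exact h5 ⟨by omega, by omega⟩

end Groth.Agent.Helper8.NT
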