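import Groth.Agent.Helper8.NTTsh

/-! Genus-one classification: the general theorem for `n ≥ 6`. -/

namespace Groth.Agent.Helper8.NT

open Finset Models
open Groth.Agent.Helper3.NumType (row_sum a_symm Q_nonpos Q_neg)

variable {n : ℕ}

theorem Exc.card_eq {T : Models.NumericalType n} {k : ℕ} {M : Fin k → ℤ} {A : Fin k → Fin k → ℤ}
    (h : Exc T k M A) : n = k := by
  obtain ⟨e, -, -, hb, -⟩ := h
  have := Fintype.card_of_bijective hb
  simpa using this.symm

/-- The classification of minimal numerical types of genus one on at least six indices. -/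
theorem classify (T : Models.NumericalType n) (hn6 : 6 ≤ n) (hmin : T.IsMinimal)
    (hg : T.genus = 1) :
    (∀ i, T.g i = 0) ∧ (∀ i, T.a i i = -2 * T.w i) ∧
    ((∃ (σ : Equiv.Perm (Fin n)) (m w : ℤ), Fam1 T σ m w ∨ Fam2 T σ m w ∨ Fam3 T σ m w ∨
        Fam4 T σ m w ∨ Fam5 T σ m w ∨ Fam6 T σ m w ∨ Fam7 T σ m w) ∨
      Exc T 7 E6M E6A ∨ Exc T 8 E7M E7A ∨ Exc T 9 E8M E8A) := by
  classical
  have h2all := Groth.Agent.Helper3.NumType.all_minusTwo T (by omega) hmin hg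
  have hg0 : ∀ i, T.g i = 0 := fun i => (h2all i).1
  have h2 : ∀ i, T.a i i = -2 * T.w i := fun i => (h2all i).2
  refine ⟨hg0, h2, ?_⟩
  by_cases hNC : NoCyc T
  swap
  · unfold NoCyc at hNC
    push Not at hNC
    obtain ⟨v, s, hp, hs, hc⟩ := hNC
    obtain ⟨σ, m, w, h⟩ := of_cycle T h2 v s hp hs hc
    exact Or.inl ⟨σ, m, w, Or.inl h⟩
  by_cases hE : ∃ (p : ℕ → Fin n) (s : ℕ), IsMaxPath T p s ∧ ∃ (z z' : Fin n) (i : ℕ),
      (∀ k, k ≤ s → p k ≠ z) ∧ (∀ k, k ≤ s → p k ≠ z') ∧ z ≠ z' ∧ i ≤ s ∧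
      T.a z (p i) ≠ 0 ∧ T.a z z' ≠ 0
  · obtain ⟨p, s, hm, z, z', i, hoff, hoff', hzz, hi, hzi, ha⟩ := hE
    exact Or.inr (Or.inl (max_E6 hm h2 z z' hoff hoff' hzz ha i hi hzi))
  obtain ⟨p, s, ht⟩ := exists_tree (T := T) (by omega) hNC (by
    intro p s hm z z' i hoff hoff' hzz hi hzi
    by_contra ha
    exact hE ⟨p, s, hm, z, z', i, hoff, hoff', hzz, hi, hzi, ha⟩)
  by_cases h2off : ∃ z z' : Fin n, (∀ i, i ≤ s → p i ≠ z) ∧ (∀ i, i ≤ s → p i ≠ z') ∧ z ≠ z'
  · obtain ⟨z, z', hoff, hoff', hzz⟩ := h2off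
    obtain ⟨σ, m, w, h⟩ := tree_two_off ht h2 z z' hoff hoff' hzz
    exact Or.inl ⟨σ, m, w, Or.inr (Or.inr (Or.inr (Or.inr (Or.inr (Or.inr h)))))⟩
  by_cases h1off : ∃ u : Fin n, ∀ i, i ≤ s → p i ≠ u
  · obtain ⟨u, hoffu⟩ := h1off
    have hall : ∀ z, z = u ∨ ∃ i, i ≤ s ∧ p i = z := by
      intro z
      by_cases hzu : z = u
      · exact Or.inl hzu
      right
      by_contra hcon
      push Not at hcon
      exact h2off ⟨z, u, hcon, hoffu, hzu⟩
    obtain ⟨j, hj1, hj2, huj, hunb⟩ := ht.off u hoffu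
    have key : (∃ (σ : Equiv.Perm (Fin n)) (m w : ℤ), Fam5 T σ m w ∨ Fam6 T σ m w) ∨
        Exc T 8 E7M E7A ∨ Exc T 9 E8M E8A := by
      by_cases hjl : s - j ≤ j
      · exact tree_tshape ht h2 hn6 u hoffu hall j hj1 hj2 huj hunb hjl
      · refine tree_tshape ht.reverse h2 hn6 u (fun i hi => hoffu _ (by omega)) ?_ (s - j)
          (by omega) (by omega) ?_ ?_ (by omega)
        · intro z
          rcases hall z with h | ⟨i, hi, h⟩
          · exact Or.inl h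
          · refine Or.inr ⟨s - i, by omega, ?_⟩
            show p (s - (s - i)) = z
            rw [show s - (s - i) = i by omega]; exact h
        · show T.a u (p (s - (s - j))) ≠ 0
          rw [show s - (s - j) = j by omega]; exact huj
        · intro z' hz'
          show z' = u ∨ z' = p (s - (s - j))
          rw [show s - (s - j) = j by omega]; exact hunb z' hz'
    rcases key with ⟨σ, m, w, h | h⟩ | h | h
    · exact Or.inl ⟨σ, m, w, Or.inr (Or.inr (Or.inr (Or.inr (Or.inl h))))⟩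
    · exact Or.inl ⟨σ, m, w, Or.inr (Or.inr (Or.inr (Or.inr (Or.inr (Or.inl h)))))⟩
    · exact Or.inr (Or.inr (Or.inl h))
    · exact Or.inr (Or.inr (Or.inr h))
  · have hall : ∀ z, ∃ i, i ≤ s ∧ p i = z := by
      intro z
      by_contra hcon
      push Not at hcon
      exact h1off ⟨z, hcon⟩
    obtain ⟨σ, m, w, h⟩ := tree_chain ht h2 hn6 hall
    rcases h with h | h | h
    · exact Or.inl ⟨σ, m, w, Or.inr (Or.inl h)⟩
    · exact Or.inl ⟨σ, m, w, Or.inr (Or.inr (Or.inl h))⟩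
    · exact Or.inl ⟨σ, m, w, Or.inr (Or.inr (Or.inr (Or.inl h)))⟩

end Groth.Agent.Helper8.NT
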