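import Groth.Agent.Helper8.NTCfg

/-! Genus-one classification: structure around a maximal path. -/

namespace Groth.Agent.Helper8.NT

open Finset Models
open Groth.Agent.Helper3.NumType (row_sum a_symm Q_nonpos Q_neg)

variable {n : ℕ} {T : Models.NumericalType n}

/-- no cyclic injective path -/
def NoCyc (T : Models.NumericalType n) : Prop :=
  ∀ (v : ℕ → Fin n) (s : ℕ), IsPath T v s → 2 ≤ s → T.a (v 0) (v s) = 0

/-- `v 0, …, v s` is a path of maximal length -/
def IsMaxPath (T : Models.NumericalType n) (p : ℕ → Fin n) (s : ℕ) : Prop :=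
  IsPath T p s ∧ ∀ v' s', IsPath T v' s' → s' ≤ s

theorem IsMaxPath.reverse {p : ℕ → Fin n} {s : ℕ} (h : IsMaxPath T p s) :
    IsMaxPath T (fun i => p (s - i)) s := ⟨h.1.reverse, h.2⟩

section

variable {p : ℕ → Fin n} {s : ℕ} (hm : IsMaxPath T p s) (hNC : NoCyc T)
include hm hNC

/-- neighbours of the first vertex of a maximal path -/
theorem max_first (z : Fin n) (hz : T.a (p 0) z ≠ 0) (hz0 : z ≠ p 0) : 1 ≤ s ∧ z = p 1 := by
  have hp := hm.1
  by_cases hon : ∃ i, i ≤ s ∧ p i = z
  · obtain ⟨j, hj, rfl⟩ := hon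
    have hj0 : j ≠ 0 := fun h => hz0 (by rw [h])
    by_cases hj1 : j = 1
    · subst hj1; exact ⟨hj, rfl⟩
    · exfalso
      have h := hNC _ _ (hp.sub 0 j (by omega) hj) (by omega)
      simp only [Nat.zero_add, Nat.sub_zero] at h
      exact hz h
  · exfalso
    have hcons := hp.cons z (fun i hi h => hon ⟨i, hi, h⟩) (by rw [a_symm T]; exact hz)
    have := hm.2 _ _ hcons
    omega

/-- a maximal path is induced -/
theorem max_induced (i j : ℕ) (hij : i + 2 ≤ j) (hj : j ≤ s) : T.a (p i) (p j) = 0 := by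
  have h := hNC _ _ (hm.1.sub i j (by omega) hj) (by omega)
  simp only [Nat.add_zero] at h
  rw [show i + (j - i) = j by omega] at h
  exact h

/-- an off-path vertex has at most one neighbour on the path -/
theorem max_off_unique (z : Fin n) (hoff : ∀ i, i ≤ s → p i ≠ z) (i j : ℕ) (hi : i ≤ s)
    (hj : j ≤ s) (hzi : T.a z (p i) ≠ 0) (hzj : T.a z (p j) ≠ 0) : i = j := by
  by_contra hne
  wlog hij : i < j generalizing i j
  · exact this j i hj hi hzj hzi (Ne.symm hne) (by omega)
  have hsub := hm.1.sub i j (by omega) hj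
  have hcons := hsub.cons z (fun k hk => hoff _ (by omega)) (by simpa using hzi)
  have h := hNC _ _ hcons (by omega)
  rw [if_pos rfl, if_neg (by omega)] at h
  rw [show i + (j - i + 1 - 1) = j by omega] at h
  exact hzj h

/-- two adjacent off-path vertices cannot both have neighbours on the path -/
theorem max_off_adj (z z' : Fin n) (hoff : ∀ i, i ≤ s → p i ≠ z) (hoff' : ∀ i, i ≤ s → p i ≠ z')
    (hzz : z ≠ z') (ha : T.a z z' ≠ 0) (i j : ℕ) (hi : i ≤ s) (hj : j ≤ s)
    (hzi : T.a z (p i) ≠ 0) (hzj : T.a z' (p j) ≠ 0) : False := by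
  wlog hij : i ≤ j generalizing i j z z'
  · exact this z' z hoff' hoff hzz.symm (by rw [a_symm T]; exact ha) j i hj hi hzj hzi (by omega)
  have hsub := hm.1.sub i j hij hj
  have hcons := hsub.cons z (fun k hk => hoff _ (by omega)) (by simpa using hzi)
  have hrev := hcons.reverse
  have hcons2 := hrev.cons z' (by
    intro k hk
    split_ifs with h0
    · exact hzz
    · exact hoff' _ (by omega)) (by
    simp only [Nat.sub_zero]
    rw [if_neg (by omega), show i + (j - i + 1 - 1) = j by omega]
    exact hzj)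
  have h := hNC _ _ hcons2 (by omega)
  rw [if_pos rfl, if_neg (by omega)] at h
  rw [show j - i + 1 - (j - i + 1 + 1 - 1) = 0 by omega] at h
  rw [if_pos rfl] at h
  rw [a_symm T] at h
  exact ha h

omit hNC in
/-- an off-path vertex with an off-path neighbour attaches at distance at least two from the
start of a maximal path -/
theorem max_off_two (z z' : Fin n) (hoff : ∀ i, i ≤ s → p i ≠ z)
    (hoff' : ∀ i, i ≤ s → p i ≠ z') (hzz : z ≠ z') (ha : T.a z z' ≠ 0) (i : ℕ) (hi : i ≤ s)
    (hzi : T.a z (p i) ≠ 0) : 2 ≤ i := by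
  by_contra hlt
  have hsub := hm.1.sub i s hi le_rfl
  have hcons := hsub.cons z (fun k hk => hoff _ (by omega)) (by simpa using hzi)
  have hcons2 := hcons.cons z' (by
    intro k hk
    split_ifs with h0
    · exact hzz
    · exact hoff' _ (by omega)) (by
    simp only [if_true]
    rw [a_symm T]; exact ha)
  have := hm.2 _ _ hcons2
  omega

omit hm hNC in
theorem inj_of_lt {k : ℕ} (e : Fin k → Fin n) (h : ∀ a b : Fin k, a < b → e a ≠ e b) :
    Function.Injective e := by
  intro a b hab
  rcases lt_trichotomy a b with h1 | h1 | h1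
  · exact absurd hab (h a b h1)
  · exact h1
  · exact absurd hab.symm (h b a h1)

omit hNC in
/-- an off-path vertex adjacent to the path and to another off-path vertex gives completed `E6` -/
theorem max_E6 (h2 : ∀ i, T.a i i = -2 * T.w i) (z z' : Fin n) (hoff : ∀ i, i ≤ s → p i ≠ z)
    (hoff' : ∀ i, i ≤ s → p i ≠ z') (hzz : z ≠ z') (ha : T.a z z' ≠ 0) (i : ℕ) (hi : i ≤ s)
    (hzi : T.a z (p i) ≠ 0) : Exc T 7 E6M E6A := by
  have hp := hm.1
  have hi2 : 2 ≤ i := max_off_two hm z z' hoff hoff' hzz ha i hi hzi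
  have hi3 : 2 ≤ s - i := max_off_two hm.reverse z z' (fun k hk => hoff _ (by omega))
    (fun k hk => hoff' _ (by omega)) hzz ha (s - i) (by omega) (by
      show T.a z (p (s - (s - i))) ≠ 0
      rw [show s - (s - i) = i by omega]; exact hzi)
  have d01 := hp.ne (i := i - 2) (j := i - 1) (by omega) (by omega) (by omega)
  have d02 := hp.ne (i := i - 2) (j := i) (by omega) (by omega) (by omega)
  have d05 := hp.ne (i := i - 2) (j := i + 2) (by omega) (by omega) (by omega)
  have d06 := hp.ne (i := i - 2) (j := i + 1) (by omega) (by omega) (by omega)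
  have d12 := hp.ne (i := i - 1) (j := i) (by omega) (by omega) (by omega)
  have d15 := hp.ne (i := i - 1) (j := i + 2) (by omega) (by omega) (by omega)
  have d16 := hp.ne (i := i - 1) (j := i + 1) (by omega) (by omega) (by omega)
  have d25 := hp.ne (i := i) (j := i + 2) (by omega) (by omega) (by omega)
  have d26 := hp.ne (i := i) (j := i + 1) (by omega) (by omega) (by omega)
  have d56 := hp.ne (i := i + 2) (j := i + 1) (by omega) (by omega) (by omega)
  have d03 := hoff' (i - 2) (by omega)
  have d13 := hoff' (i - 1) (by omega)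
  have d23 := hoff' i (by omega)
  have d35 := (hoff' (i + 2) (by omega)).symm
  have d36 := (hoff' (i + 1) (by omega)).symm
  have d04 := hoff (i - 2) (by omega)
  have d14 := hoff (i - 1) (by omega)
  have d24 := hoff i (by omega)
  have d45 := (hoff (i + 2) (by omega)).symm
  have d46 := (hoff (i + 1) (by omega)).symm
  have d34 := hzz.symm
  refine of_E6 h2 ![p (i - 2), p (i - 1), p i, z', z, p (i + 2), p (i + 1)] ?_ ?_ ?_ ?_ ?_ ?_ ?_
  · apply inj_of_lt
    intro a b hab
    fin_cases a <;> fin_cases b <;> first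
      | (exfalso; revert hab; decide)
      | exact d01 | exact d02 | exact d03 | exact d04 | exact d05 | exact d06
      | exact d12 | exact d13 | exact d14 | exact d15 | exact d16
      | exact d23 | exact d24 | exact d25 | exact d26
      | exact d34 | exact d35 | exact d36 | exact d45 | exact d46 | exact d56
  · show T.a (p (i - 2)) (p (i - 1)) ≠ 0
    have := hp.adj (i - 2) (by omega)
    rw [show i - 2 + 1 = i - 1 by omega] at this
    exact this
  · show T.a (p (i - 1)) (p i) ≠ 0
    have := hp.adj (i - 1) (by omega)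
    rw [show i - 1 + 1 = i by omega] at this
    exact this
  · show T.a (p i) z ≠ 0
    rw [a_symm T]; exact hzi
  · show T.a (p i) (p (i + 1)) ≠ 0
    exact hp.adj i (by omega)
  · show T.a z' z ≠ 0
    rw [a_symm T]; exact ha
  · show T.a (p (i + 2)) (p (i + 1)) ≠ 0
    exact hp.adj' (i := i + 1) (by omega)

end

/-- The structure around a maximal path in the absence of cycles and of the `E6` trigger. -/
structure Tree (T : Models.NumericalType n) (p : ℕ → Fin n) (s : ℕ) : Prop where
  hm : IsMaxPath T p s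
  hs : 1 ≤ s
  first : ∀ z, T.a (p 0) z ≠ 0 → z = p 0 ∨ z = p 1
  last : ∀ z, T.a (p s) z ≠ 0 → z = p s ∨ z = p (s - 1)
  induced : ∀ i j, i + 2 ≤ j → j ≤ s → T.a (p i) (p j) = 0
  off : ∀ z, (∀ i, i ≤ s → p i ≠ z) → ∃ i, 1 ≤ i ∧ i + 1 ≤ s ∧ T.a z (p i) ≠ 0 ∧
    ∀ z', T.a z z' ≠ 0 → z' = z ∨ z' = p i

theorem Tree.reverse {p : ℕ → Fin n} {s : ℕ} (h : Tree T p s) : Tree T (fun i => p (s - i)) s where
  hm := h.hm.reverse
  hs := h.hs
  first := fun z hz => by
    simp only [Nat.sub_zero] at hz ⊢
    rcases h.last z hz with h1 | h1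
    · exact Or.inl h1
    · exact Or.inr h1
  last := fun z hz => by
    simp only [Nat.sub_self] at hz ⊢
    rcases h.first z hz with h1 | h1
    · exact Or.inl h1
    · right; rw [h1]; congr 1; have := h.hs; omega
  induced := fun i j hij hj => by
    show T.a (p (s - i)) (p (s - j)) = 0
    rw [a_symm T]
    exact h.induced (s - j) (s - i) (by omega) (by omega)
  off := fun z hz => by
    obtain ⟨i, h1, h3, h4, h5⟩ := h.off z (fun i hi => by
      have : p (s - (s - i)) ≠ z := hz (s - i) (by omega)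
      rwa [show s - (s - i) = i by omega] at this)
    refine ⟨s - i, by omega, by omega, ?_, ?_⟩
    · show T.a z (p (s - (s - i))) ≠ 0
      rwa [show s - (s - i) = i by omega]
    · intro z' hz'
      show z' = z ∨ z' = p (s - (s - i))
      rw [show s - (s - i) = i by omega]
      exact h5 z' hz'

theorem exists_tree (hn : 2 ≤ n) (hNC : NoCyc T)
    (hNoE : ∀ (p : ℕ → Fin n) (s : ℕ), IsMaxPath T p s → ∀ (z z' : Fin n) (i : ℕ),
      (∀ k, k ≤ s → p k ≠ z) → (∀ k, k ≤ s → p k ≠ z') → z ≠ z' → i ≤ s →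
      T.a z (p i) ≠ 0 → T.a z z' = 0) :
    ∃ p s, Tree T p s := by
  classical
  obtain ⟨p, s, hp, hmax⟩ := exists_max_path T
  have hm : IsMaxPath T p s := ⟨hp, hmax⟩
  have hfirst : ∀ (q : ℕ → Fin n), IsMaxPath T q s → ∀ z, T.a (q 0) z ≠ 0 →
      z = q 0 ∨ z = q 1 := by
    intro q hq z hz
    by_cases h0 : z = q 0
    · exact Or.inl h0
    · exact Or.inr (max_first hq hNC z hz h0).2
  -- s ≥ 1
  have hs : 1 ≤ s := by
    have h01 : ({p 0} : Finset (Fin n)) ≠ Finset.univ := by
      intro h
      have := congrArg Finset.card h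
      simp at this
      omega
    obtain ⟨i, hi, j, hj, hij⟩ := T.connected {p 0} ⟨p 0, Finset.mem_singleton_self _⟩ h01
    rw [Finset.mem_singleton] at hi hj
    subst hi
    exact (max_first hm hNC j hij hj).1
  -- every off-path vertex has a neighbour on the path
  have hatt : ∀ z, (∀ i, i ≤ s → p i ≠ z) → ∃ i, i ≤ s ∧ T.a z (p i) ≠ 0 := by
    by_contra hcon
    push Not at hcon
    obtain ⟨z0, hz0, hz0'⟩ := hcon
    set I : Finset (Fin n) := Finset.univ.filter fun z =>
      (∀ i, i ≤ s → p i ≠ z) ∧ ∀ i, i ≤ s → T.a z (p i) = 0 with hI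
    have hIne : I.Nonempty := ⟨z0, by
      rw [hI, Finset.mem_filter]; exact ⟨Finset.mem_univ _, hz0, hz0'⟩⟩
    have hIu : I ≠ Finset.univ := by
      intro h
      have : p 0 ∈ I := h ▸ Finset.mem_univ _
      rw [hI, Finset.mem_filter] at this
      exact this.2.1 0 (by omega) rfl
    obtain ⟨i, hi, j, hj, hij⟩ := T.connected I hIne hIu
    rw [hI, Finset.mem_filter] at hi
    have hj' : ¬ ((∀ k, k ≤ s → p k ≠ j) ∧ ∀ k, k ≤ s → T.a j (p k) = 0) := by
      intro h
      apply hj
      rw [hI, Finset.mem_filter]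
      exact ⟨Finset.mem_univ _, h⟩
    by_cases hjon : ∃ k, k ≤ s ∧ p k = j
    · obtain ⟨k, hk, rfl⟩ := hjon
      exact hij (hi.2.2 k hk)
    · have hjoff : ∀ k, k ≤ s → p k ≠ j := fun k hk h => hjon ⟨k, hk, h⟩
      have : ¬ ∀ k, k ≤ s → T.a j (p k) = 0 := fun h => hj' ⟨hjoff, h⟩
      push Not at this
      obtain ⟨k, hk, hjk⟩ := this
      have hne : j ≠ i := by
        rintro rfl
        exact hjk (hi.2.2 k hk)
      have := hNoE p s hm j i k hjoff hi.2.1 hne hk hjk
      rw [a_symm T] at this
      exact hij this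
  refine ⟨p, s, hm, hs, hfirst p hm, ?_, ?_, ?_⟩
  · intro z hz
    have := hfirst _ hm.reverse z (by simpa using hz)
    simpa using this
  · intro i j hij hj
    exact max_induced hm hNC i j hij hj
  · intro z hoff
    obtain ⟨i, hi, hzi⟩ := hatt z hoff
    have hi1 : 1 ≤ i := by
      by_contra h
      have h0 : i = 0 := by omega
      subst h0
      rcases hfirst p hm z (by rw [a_symm T]; exact hzi) with h | h
      · exact hoff 0 (by omega) h.symm
      · exact hoff 1 hs h.symm
    have hi2 : i + 1 ≤ s := by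
      by_contra h
      have h0 : i = s := by omega
      subst h0
      have := hfirst _ hm.reverse z (by simp only [Nat.sub_zero]; rw [a_symm T]; exact hzi)
      simp only [Nat.sub_zero] at this
      rcases this with h | h
      · exact hoff i le_rfl h.symm
      · exact hoff (i - 1) (by omega) h.symm
    refine ⟨i, hi1, hi2, hzi, ?_⟩
    intro z' hz'
    by_cases hzz : z' = z
    · exact Or.inl hzz
    right
    by_cases hon : ∃ k, k ≤ s ∧ p k = z'
    · obtain ⟨k, hk, rfl⟩ := hon
      rw [max_off_unique hm hNC z hoff i k hi hk hzi hz']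
    · exfalso
      have hoff' : ∀ k, k ≤ s → p k ≠ z' := fun k hk h => hon ⟨k, hk, h⟩
      exact hz' (hNoE p s hm z z' i hoff hoff' (Ne.symm hzz) hi hzi)

end Groth.Agent.Helper8.NT
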