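import Groth.Agent.Helper8.NTArm

/-! Genus-one classification: the case of a single off-path vertex. -/

namespace Groth.Agent.Helper8.NT

open Finset Models
open Groth.Agent.Helper3.NumType (row_sum a_symm Q_nonpos Q_neg)

variable {n : ℕ} {T : Models.NumericalType n}

def E7NB : Fin 8 → Finset (Fin 8) := ![{1}, {0, 2}, {1, 3}, {2, 4, 7}, {3, 5}, {4, 6}, {5}, {3}]

def E7M : Fin 8 → ℤ := ![1, 2, 3, 4, 3, 2, 1, 2]

def E7A : Fin 8 → Fin 8 → ℤ := fun i j => if i = j then -2 else if j ∈ E7NB i then 1 else 0

def E8NB : Fin 9 → Finset (Fin 9) :=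
  ![{1}, {0, 2}, {1, 3}, {2, 4}, {3, 5}, {4, 6, 8}, {5, 7}, {6}, {5}]

def E8M : Fin 9 → ℤ := ![1, 2, 3, 4, 5, 6, 4, 2, 3]

def E8A : Fin 9 → Fin 9 → ℤ := fun i j => if i = j then -2 else if j ∈ E8NB i then 1 else 0

/-- adjacency of a `T`-shaped tree: chain `0, …, s` with `s + 1` attached to `j` -/
def TA (s j k k' : ℕ) : ℤ :=
  if k = k' then -2
  else if (k ≤ s ∧ k' ≤ s ∧ (k' = k + 1 ∨ k = k' + 1)) ∨ (k = j ∧ k' = s + 1) ∨
      (k = s + 1 ∧ k' = j) then 1 else 0

theorem E7A_eq : ∀ i j : Fin 8, E7A i j = TA 6 3 i.val j.val := by decide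

theorem E8A_eq : ∀ i j : Fin 9, E8A i j = TA 7 5 i.val j.val := by decide

theorem tshape_arith (J L : ℤ) (hL2 : 2 ≤ L) (hLJ : L ≤ J) (h : (J - 2) * (L - 2) = 4) :
    (J = 4 ∧ L = 4) ∨ (J = 6 ∧ L = 3) := by
  have h1 : L ≠ 2 := by
    rintro rfl
    simp at h
  have h3 : L ≤ 4 := by nlinarith
  have : L = 3 ∨ L = 4 := by omega
  rcases this with rfl | rfl
  · right; constructor <;> linarith
  · left; constructor <;> linarith

/-- the case of exactly one off-path vertex `u`, attached at `p j` with `s - j ≤ j` -/
theorem tree_tshape {p : ℕ → Fin n} {s : ℕ} (ht : Tree T p s) (h2 : ∀ i, T.a i i = -2 * T.w i)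
    (hn6 : 6 ≤ n) (u : Fin n) (hoffu : ∀ i, i ≤ s → p i ≠ u)
    (hall : ∀ z, z = u ∨ ∃ i, i ≤ s ∧ p i = z) (j : ℕ) (hj1 : 1 ≤ j) (hj2 : j + 1 ≤ s)
    (huj : T.a u (p j) ≠ 0) (hunb : ∀ z', T.a u z' ≠ 0 → z' = u ∨ z' = p j)
    (hjl : s - j ≤ j) :
    (∃ (σ : Equiv.Perm (Fin n)) (m w : ℤ), Fam5 T σ m w ∨ Fam6 T σ m w) ∨
      Exc T 8 E7M E7A ∨ Exc T 9 E8M E8A := by
  classical
  have hp := ht.hm.1
  -- the enumeration
  let f : ℕ → Fin n := fun k => if k ≤ s then p k else u
  have hfp : ∀ k, k ≤ s → f k = p k := fun k hk => if_pos hk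
  have hfu : ∀ k, s < k → f k = u := fun k hk => if_neg (by omega)
  have hlt : ∀ k k', k < k' → k' < s + 2 → f k ≠ f k' := by
    intro k k' hkk hk'
    by_cases h : k' ≤ s
    · rw [hfp k (by omega), hfp k' h]; exact hp.ne (by omega) h (by omega)
    · rw [hfp k (by omega), hfu k' (by omega)]; exact hoffu k (by omega)
  have hinj : ∀ k k', k < s + 2 → k' < s + 2 → f k = f k' → k = k' := by
    intro i j hi hj h
    rcases lt_trichotomy i j with hlt' | heq | hgt
    · exact absurd h (hlt i j hlt' hj)
    · exact heq
    · exact absurd h.symm (hlt j i hgt hi)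
  have hsurj : ∀ z, ∃ k, k < s + 2 ∧ f k = z := by
    intro z
    rcases hall z with rfl | ⟨i, hi, rfl⟩
    · exact ⟨s + 1, by omega, hfu _ (by omega)⟩
    · exact ⟨i, by omega, hfp i hi⟩
  obtain ⟨hn, -⟩ := perm_of_enum f (s + 2) hinj hsurj
  have hpu : 0 < T.a u (p j) := a_pos T (hoffu j (by omega)).symm huj
  -- neighbours of path vertices
  have hnb : ∀ i, i ≤ s → ∀ z, T.a (p i) z ≠ 0 →
      z = p i ∨ (1 ≤ i ∧ z = p (i - 1)) ∨ (i < s ∧ z = p (i + 1)) ∨ (i = j ∧ z = u) := by
    intro i hi z hz
    rcases hall z with rfl | ⟨k, hk, rfl⟩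
    · right; right; right
      refine ⟨?_, rfl⟩
      rcases hunb (p i) (by rw [a_symm T]; exact hz) with h | h
      · exact absurd h (hoffu i hi)
      · exact hp.inj i j hi (by omega) h
    by_cases h1 : k = i
    · left; rw [h1]
    by_cases h3 : k + 1 = i
    · right; left; exact ⟨by omega, by rw [← h3]; rfl⟩
    by_cases h4 : k = i + 1
    · right; right; left; exact ⟨by omega, by rw [h4]⟩
    exfalso
    by_cases h5 : k < i
    · have := ht.induced k i (by omega) hi
      rw [a_symm T] at this
      exact hz this
    · exact hz (ht.induced i k (by omega) hk)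
  -- (c) the edge to `u` is simple
  by_cases hsu : T.a u (p j) = T.w u ∧ T.a u (p j) = T.w (p j)
  swap
  · exfalso
    have hsub := hp.sub j j le_rfl (by omega)
    have tL : 2 * T.w (p (j + 0)) ≤ T.a (p (j + 0)) u ∨ 2 * T.w u ≤ T.a u (p (j + 0)) := by
      rw [Nat.add_zero]
      rcases eq_or_two_le T hpu with h1 | h1
      · have hpu' : 0 < T.a (p j) u := by rw [a_symm T]; exact hpu
        rcases eq_or_two_le T hpu' with h3 | h3
        · exfalso
          apply hsu
          refine ⟨h1, ?_⟩
          rw [a_symm T]; exact h3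
        · exact Or.inl h3
      · exact Or.inr h1
    obtain ⟨σ, m, w, hn4, -⟩ := fam_dshape h2 _ _ hsub u (p (j - 1)) (p (j + 1))
      (fun k hk => hoffu _ (by omega))
      (fun k hk => hp.ne (by omega) (by omega) (by omega))
      (fun k hk => hp.ne (by omega) (by omega) (by omega))
      (hoffu _ (by omega)).symm (hoffu _ (by omega)).symm
      (hp.ne (by omega) (by omega) (by omega)) tL
      (by
        show T.a (p (j + (j - j))) (p (j - 1)) ≠ 0
        rw [show j + (j - j) = j by omega]
        have := hp.adj' (i := j - 1) (by omega)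
        rw [show j - 1 + 1 = j by omega] at this
        exact this)
      (by
        show T.a (p (j + (j - j))) (p (j + 1)) ≠ 0
        rw [show j + (j - j) = j by omega]
        exact hp.adj j (by omega))
    omega
  -- (a) a non-simple edge beyond `j`
  by_cases hA : ∃ t, j ≤ t ∧ t < s ∧ ¬ Simple T p t
  · left
    obtain ⟨t, hjt, hts, hns⟩ := hA
    have hsub := (hp.sub j t hjt (by omega)).reverse
    obtain ⟨σ, m, w, -, h⟩ := fam_dshape h2 _ _ hsub (p (t + 1)) (p (j - 1)) u
      (fun k hk => hp.ne (by omega) (by omega) (by omega))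
      (fun k hk => hp.ne (by omega) (by omega) (by omega))
      (fun k hk => hoffu _ (by omega))
      (hp.ne (by omega) (by omega) (by omega)) (hoffu _ (by omega))
      (hoffu _ (by omega))
      (by
        show 2 * T.w (p (j + (t - j - 0))) ≤ T.a (p (j + (t - j - 0))) (p (t + 1)) ∨
          2 * T.w (p (t + 1)) ≤ T.a (p (t + 1)) (p (j + (t - j - 0)))
        rw [show j + (t - j - 0) = t by omega]
        exact not_simple_dbl hp hts hns)
      (by
        show T.a (p (j + (t - j - (t - j)))) (p (j - 1)) ≠ 0
        rw [show j + (t - j - (t - j)) = j by omega]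
        have := hp.adj' (i := j - 1) (by omega)
        rw [show j - 1 + 1 = j by omega] at this
        exact this)
      (by
        show T.a (p (j + (t - j - (t - j)))) u ≠ 0
        rw [show j + (t - j - (t - j)) = j by omega, a_symm T]
        exact huj)
    exact ⟨σ, m, w, h⟩
  -- (b) a non-simple edge before `j`
  by_cases hB : ∃ t, t < j ∧ ¬ Simple T p t
  · left
    obtain ⟨t, htj, hns⟩ := hB
    have hsub := hp.sub (t + 1) j (by omega) (by omega)
    obtain ⟨σ, m, w, -, h⟩ := fam_dshape h2 _ _ hsub (p t) (p (j + 1)) u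
      (fun k hk => hp.ne (by omega) (by omega) (by omega))
      (fun k hk => hp.ne (by omega) (by omega) (by omega))
      (fun k hk => hoffu _ (by omega))
      (hp.ne (by omega) (by omega) (by omega)) (hoffu _ (by omega))
      (hoffu _ (by omega))
      (by
        show 2 * T.w (p (t + 1 + 0)) ≤ T.a (p (t + 1 + 0)) (p t) ∨
          2 * T.w (p t) ≤ T.a (p t) (p (t + 1 + 0))
        rw [Nat.add_zero]
        rcases not_simple_dbl hp (by omega) hns with h | h
        · exact Or.inr h
        · exact Or.inl h)
      (by
        show T.a (p (t + 1 + (j - (t + 1)))) (p (j + 1)) ≠ 0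
        rw [show t + 1 + (j - (t + 1)) = j by omega]
        exact hp.adj j (by omega))
      (by
        show T.a (p (t + 1 + (j - (t + 1)))) u ≠ 0
        rw [show t + 1 + (j - (t + 1)) = j by omega, a_symm T]
        exact huj)
    exact ⟨σ, m, w, h⟩
  -- (d) all edges are simple
  right
  have hsim : ∀ t, t < s → Simple T p t := by
    intro t hts
    by_contra hns
    by_cases h : j ≤ t
    · exact hA ⟨t, h, hts, hns⟩
    · exact hB ⟨t, by omega, hns⟩
  -- weights are constant
  have hwP : ∀ i, i ≤ s → T.w (p i) = T.w (p 0) := by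
    intro i
    induction i with
    | zero => intro _; rfl
    | succ k ih =>
      intro hk
      have h := hsim k (by omega)
      rw [← h.2, h.1, ih (by omega)]
  have hwu : T.w u = T.w (p 0) := by rw [← hsu.1, hsu.2, hwP j (by omega)]
  -- the adjacency table
  have hTA : ∀ k k', k < s + 2 → k' < s + 2 →
      T.a (f k) (f k') = TA s j k k' * T.w (p 0) := by
    intro k k' hk hk'
    by_cases hks : k ≤ s
    · by_cases hks' : k' ≤ s
      · rw [hfp k hks, hfp k' hks']
        by_cases h1 : k = k'
        · subst h1
          have : TA s j k k = -2 := by simp [TA]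
          rw [this, h2, hwP k hks]
        by_cases h3 : k' = k + 1
        · subst h3
          have : TA s j k (k + 1) = 1 := by
            unfold TA; rw [if_neg (by omega), if_pos (by omega)]
          rw [this, (hsim k (by omega)).1, hwP k hks, one_mul]
        by_cases h4 : k = k' + 1
        · subst h4
          have : TA s j (k' + 1) k' = 1 := by
            unfold TA; rw [if_neg (by omega), if_pos (by omega)]
          rw [this, a_symm T, (hsim k' (by omega)).1, hwP k' hks', one_mul]
        have : TA s j k k' = 0 := by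
          unfold TA; rw [if_neg (by omega), if_neg (by omega)]
        rw [this, zero_mul]
        by_cases h5 : k < k'
        · exact ht.induced k k' (by omega) hks'
        · rw [a_symm T]; exact ht.induced k' k (by omega) hks
      · have hk's : k' = s + 1 := by omega
        rw [hfp k hks, hfu k' (by omega)]
        by_cases hkj : k = j
        · have : TA s j k k' = 1 := by
            unfold TA; rw [if_neg (by omega), if_pos (by omega)]
          rw [this, hkj, a_symm T, hsu.2, hwP j (by omega), one_mul]
        · have : TA s j k k' = 0 := by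
            unfold TA; rw [if_neg (by omega), if_neg (by omega)]
          rw [this, zero_mul]
          by_contra hcon
          rcases hunb (p k) (by rw [a_symm T]; exact hcon) with h | h
          · exact hoffu k hks h
          · exact hkj (hp.inj k j hks (by omega) h)
    · have hks1 : k = s + 1 := by omega
      rw [hfu k (by omega)]
      by_cases hks' : k' ≤ s
      · rw [hfp k' hks']
        by_cases hkj : k' = j
        · have : TA s j k k' = 1 := by
            unfold TA; rw [if_neg (by omega), if_pos (by omega)]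
          rw [this, hkj, hsu.2, hwP j (by omega), one_mul]
        · have : TA s j k k' = 0 := by
            unfold TA; rw [if_neg (by omega), if_neg (by omega)]
          rw [this, zero_mul]
          by_contra hcon
          rcases hunb (p k') hcon with h | h
          · exact hoffu k' hks' h
          · exact hkj (hp.inj k' j hks' (by omega) h)
      · rw [hfu k' (by omega)]
        have : TA s j k k' = -2 := by
          unfold TA; rw [if_pos (by omega)]
        rw [this, h2, hwu]
  have hwall : ∀ k, T.w (f k) = T.w (p 0) := by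
    intro k
    by_cases hk : k ≤ s
    · rw [hfp k hk]; exact hwP k hk
    · rw [hfu k (by omega)]; exact hwu
  -- multiplicities along the arms
  have hmL := chain_arm hp h2 j (by omega)
    (fun i hi z hz => by
      rcases hnb i (by omega) z hz with h | h | h | h
      · exact Or.inl h
      · exact Or.inr (Or.inl h)
      · exact Or.inr (Or.inr h.2)
      · omega)
    (fun k hk => hsim k (by omega))
  have hR := chain_arm hp.reverse h2 (s - j) (by omega)
    (fun i hi z hz => by
      rcases hnb (s - i) (by omega) z hz with h | h | h | h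
      · exact Or.inl h
      · right; right
        show z = p (s - (i + 1))
        rw [h.2]; congr 1
      · right; left
        refine ⟨by omega, ?_⟩
        show z = p (s - (i - 1))
        rw [h.2]; congr 1; omega
      · omega)
    (fun k hk => by
      have h := hsim (s - k - 1) (by omega)
      unfold Simple at h ⊢
      show T.a (p (s - k)) (p (s - (k + 1))) = T.w (p (s - k)) ∧
        T.a (p (s - k)) (p (s - (k + 1))) = T.w (p (s - (k + 1)))
      rw [show s - k - 1 + 1 = s - k by omega] at h
      rw [show s - (k + 1) = s - k - 1 by omega, a_symm T]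
      exact ⟨h.2, h.1⟩)
  simp only [Nat.sub_zero] at hR
  set μ := T.m (p 0) with hμ
  set ν := T.m (p s) with hν
  have hmR : ∀ i, j ≤ i → i ≤ s → T.m (p i) = ((s : ℤ) - i + 1) * ν := by
    intro i hji his
    have := hR (s - i) (by omega)
    rw [show s - (s - i) = i by omega] at this
    rw [this]
    have : ((s - i : ℕ) : ℤ) = (s : ℤ) - i := by omega
    rw [this]
  -- the row at `u`
  have hmu : 2 * T.m u = T.m (p j) := by
    have hne : u ≠ p j := (hoffu j (by omega)).symm
    have h := row_expand (T := T) u {p j} (by simpa using hne) (by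
      intro z hz hz0
      by_contra hcon
      rcases hunb z hcon with h | h
      · exact hz0 h
      · exact hz (by simpa using h))
    rw [Finset.sum_singleton, h2, hsu.1] at h
    have hw := T.w_pos u
    have : T.w u * (T.m (p j) - 2 * T.m u) = 0 := by linarith
    rcases mul_eq_zero.mp this with h | h
    · omega
    · linarith
  -- the row at `p j`
  have hmj : 2 * T.m (p j) = T.m (p (j - 1)) + T.m (p (j + 1)) + T.m u := by
    have hne1 : p j ≠ p (j - 1) := hp.ne (by omega) (by omega) (by omega)
    have hne2 : p j ≠ p (j + 1) := hp.ne (by omega) (by omega) (by omega)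
    have hne3 : p (j - 1) ≠ p (j + 1) := hp.ne (by omega) (by omega) (by omega)
    have hne4 : p j ≠ u := hoffu j (by omega)
    have hne5 : p (j - 1) ≠ u := hoffu _ (by omega)
    have hne6 : p (j + 1) ≠ u := hoffu _ (by omega)
    have h := row_expand (T := T) (p j) {p (j - 1), p (j + 1), u} (by
      simp only [Finset.mem_insert, Finset.mem_singleton, not_or]
      exact ⟨hne1, hne2, hne4⟩) (by
      intro z hz hz0
      simp only [Finset.mem_insert, Finset.mem_singleton, not_or] at hz
      by_contra hcon
      rcases hnb j (by omega) z hcon with h | ⟨_, h⟩ | ⟨_, h⟩ | ⟨_, h⟩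
      · exact hz0 h
      · exact hz.1 h
      · exact hz.2.1 h
      · exact hz.2.2 h)
    rw [Finset.sum_insert (by
      simp only [Finset.mem_insert, Finset.mem_singleton, not_or]
      exact ⟨hne3, hne5⟩), Finset.sum_pair hne6, h2] at h
    have hs1 := (hsim (j - 1) (by omega)).2
    rw [show j - 1 + 1 = j by omega] at hs1
    rw [a_symm T (p j) (p (j - 1)), hs1, (hsim j (by omega)).1, a_symm T (p j) u, hsu.2] at h
    have hw := T.w_pos (p j)
    have : T.w (p j) * (T.m (p (j - 1)) + T.m (p (j + 1)) + T.m u - 2 * T.m (p j)) = 0 := by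
      linarith
    rcases mul_eq_zero.mp this with h | h
    · omega
    · linarith
  have hμpos : 0 < μ := T.m_pos _
  have hνpos : 0 < ν := T.m_pos _
  have e1 : T.m (p j) = ((j : ℤ) + 1) * μ := hmL j le_rfl
  have e2 : T.m (p j) = ((s : ℤ) - j + 1) * ν := hmR j le_rfl (by omega)
  have e4 : T.m (p (j - 1)) = (j : ℤ) * μ := by
    rw [hmL (j - 1) (by omega)]
    have : ((j - 1 : ℕ) : ℤ) = (j : ℤ) - 1 := by omega
    rw [this]; ring
  have e5 : T.m (p (j + 1)) = ((s : ℤ) - j) * ν := by
    rw [hmR (j + 1) (by omega) (by omega)]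
    push_cast; ring
  have e3 : 3 * T.m (p j) = 2 * (((j : ℤ) + 1) - 1) * μ + 2 * (((s : ℤ) - j + 1) - 1) * ν := by
    rw [e4, e5] at hmj
    linarith
  have hMpos : 0 < T.m (p j) := T.m_pos _
  have key : (((j : ℤ) + 1) - 2) * (((s : ℤ) - j + 1) - 2) = 4 := by
    have h0 : T.m (p j) * ((((j : ℤ) + 1) - 2) * (((s : ℤ) - j + 1) - 2) - 4) = 0 := by
      linear_combination (-(((j : ℤ) + 1) * ((s : ℤ) - j + 1))) * e3
        + (2 * (((j : ℤ) + 1) - 1) * ((s : ℤ) - j + 1)) * e1
        + (2 * (((s : ℤ) - j + 1) - 1) * ((j : ℤ) + 1)) * e2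
    rcases mul_eq_zero.mp h0 with h | h
    · omega
    · linarith
  rcases tshape_arith _ _ (by omega) (by omega) key with ⟨hJ, hL⟩ | ⟨hJ, hL⟩
  · -- completed E7
    left
    have hj3 : j = 3 := by omega
    have hs6 : s = 6 := by omega
    subst hj3 hs6
    have hμν : ν = μ := by
      have : (4 : ℤ) * μ = 4 * ν := by
        have h1 := e1; have h3 := e2
        push_cast at h1 h3
        linarith
      linarith
    refine ⟨fun i => f i.val, μ, T.w (p 0), ⟨?_, ?_⟩, ?_, fun i => hwall _, ?_⟩
    · intro a b hab
      exact Fin.ext (hinj _ _ (by have := a.2; omega) (by have := b.2; omega) hab)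
    · intro z
      obtain ⟨k, hk, hz⟩ := hsurj z
      exact ⟨⟨k, by omega⟩, hz⟩
    · have hTM : ∀ k, k < 8 → T.m (f k) =
          (if k ≤ 3 then (k : ℤ) + 1 else if k ≤ 6 then 7 - k else 2) * μ := by
        intro k hk
        by_cases h1 : k ≤ 3
        · rw [if_pos h1, hfp k (by omega), hmL k h1]
        by_cases h3 : k ≤ 6
        · rw [if_neg h1, if_pos h3, hfp k h3, hmR k (by omega) h3, hμν]
          push_cast; ring
        · rw [if_neg h1, if_neg h3, hfu k (by omega)]
          have := e1
          push_cast at this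
          linarith
      have hE : ∀ i : Fin 8, E7M i =
          (if i.val ≤ 3 then (i.val : ℤ) + 1 else if i.val ≤ 6 then 7 - i.val else 2) := by
        decide
      intro i
      rw [hE i]
      exact hTM i.val i.2
    · intro i i'
      rw [E7A_eq]
      exact hTA _ _ (by have := i.2; omega) (by have := i'.2; omega)
  · -- completed E8
    right
    have hj5 : j = 5 := by omega
    have hs7 : s = 7 := by omega
    subst hj5 hs7
    have hμν : ν = 2 * μ := by
      have h1 := e1; have h3 := e2
      push_cast at h1 h3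
      linarith
    refine ⟨fun i => f i.val, μ, T.w (p 0), ⟨?_, ?_⟩, ?_, fun i => hwall _, ?_⟩
    · intro a b hab
      exact Fin.ext (hinj _ _ (by have := a.2; omega) (by have := b.2; omega) hab)
    · intro z
      obtain ⟨k, hk, hz⟩ := hsurj z
      exact ⟨⟨k, by omega⟩, hz⟩
    · have hTM : ∀ k, k < 9 → T.m (f k) =
          (if k ≤ 5 then (k : ℤ) + 1 else if k ≤ 7 then 2 * (8 - k) else 3) * μ := by
        intro k hk
        by_cases h1 : k ≤ 5
        · rw [if_pos h1, hfp k (by omega), hmL k h1]
        by_cases h3 : k ≤ 7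
        · rw [if_neg h1, if_pos h3, hfp k h3, hmR k (by omega) h3, hμν]
          push_cast; ring
        · rw [if_neg h1, if_neg h3, hfu k (by omega)]
          have := e1
          push_cast at this
          linarith
      have hE : ∀ i : Fin 9, E8M i =
          (if i.val ≤ 5 then (i.val : ℤ) + 1 else if i.val ≤ 7 then 2 * (8 - i.val) else 3) := by
        decide
      intro i
      rw [hE i]
      exact hTM i.val i.2
    · intro i i'
      rw [E8A_eq]
      exact hTA _ _ (by have := i.2; omega) (by have := i'.2; omega)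

end Groth.Agent.Helper8.NT
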