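import Mathlib

namespace Groth.Agent.Helper8.Nagata

universe u

variable {A : Type u} [CommRing A] [IsDomain A] (P : Set A) (hP : ∀ p ∈ P, Prime p)

include hP

/-- cancellation of elements of `S` against an element not divisible by any `p ∈ P` -/
theorem dvd_of_mul_eq (a : A) (ha : ∀ p ∈ P, ¬ p ∣ a) (s : A) (hs : s ∈ Submonoid.closure P) :
    ∀ x b : A, a * x = s * b → a ∣ b := by
  induction hs using Submonoid.closure_induction with
  | mem p hp =>
    intro x b h
    have hpp := hP p hp
    have h1 : p ∣ a * x := ⟨b, h⟩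
    rcases hpp.dvd_or_dvd h1 with h2 | h2
    · exact absurd h2 (ha p hp)
    · obtain ⟨x', rfl⟩ := h2
      refine ⟨x', ?_⟩
      have : p * (a * x') = p * b := by rw [← h]; ring
      exact (mul_left_cancel₀ hpp.ne_zero this).symm
  | one =>
    intro x b h
    exact ⟨x, by rw [h, one_mul]⟩
  | mul s₁ s₂ _ _ ih₁ ih₂ =>
    intro x b h
    obtain ⟨x', hx'⟩ := ih₁ x (s₂ * b) (by rw [h]; ring)
    exact ih₂ x' b hx'.symm

/-- splitting lemma -/
theorem split (a : A) (ha : Irreducible a) (l : Multiset A) :
    (∀ y ∈ l, y ∈ P) → ∀ b c : A, a * l.prod = b * c →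
      (∃ t ∈ Submonoid.closure P, b ∣ t) ∨ (∃ t ∈ Submonoid.closure P, c ∣ t) := by
  induction l using Multiset.induction with
  | empty =>
    intro _ b c h
    rw [Multiset.prod_zero, mul_one] at h
    rcases ha.isUnit_or_isUnit h with hb | hc
    · exact Or.inl ⟨1, one_mem _, hb.dvd⟩
    · exact Or.inr ⟨1, one_mem _, hc.dvd⟩
  | cons p l ih =>
    intro hl b c h
    have hpP : p ∈ P := hl p (Multiset.mem_cons_self p l)
    have hpp := hP p hpP
    have hl' : ∀ y ∈ l, y ∈ P := fun y hy => hl y (Multiset.mem_cons_of_mem hy)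
    rw [Multiset.prod_cons] at h
    have h1 : p ∣ b * c := ⟨a * l.prod, by rw [← h]; ring⟩
    rcases hpp.dvd_or_dvd h1 with ⟨b', rfl⟩ | ⟨c', rfl⟩
    · have h2 : a * l.prod = b' * c := by
        apply mul_left_cancel₀ hpp.ne_zero
        linear_combination h
      rcases ih hl' b' c h2 with ⟨t, ht, hbt⟩ | h3
      · exact Or.inl ⟨p * t, mul_mem (Submonoid.subset_closure hpP) ht, mul_dvd_mul_left p hbt⟩
      · exact Or.inr h3
    · have h2 : a * l.prod = b * c' := by
        apply mul_left_cancel₀ hpp.ne_zero
        linear_combination h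
      rcases ih hl' b c' h2 with h3 | ⟨t, ht, hct⟩
      · exact Or.inl h3
      · exact Or.inr ⟨p * t, mul_mem (Submonoid.subset_closure hpP) ht, mul_dvd_mul_left p hct⟩

theorem closure_le_nonZeroDivisors : Submonoid.closure P ≤ nonZeroDivisors A :=
  Submonoid.closure_le.mpr (fun p hp => mem_nonZeroDivisors_of_ne_zero (hP p hp).ne_zero)

theorem prime_of_irreducible [IsDomain (Localization (Submonoid.closure P))]
    (hS : UniqueFactorizationMonoid (Localization (Submonoid.closure P)))
    (a : A) (ha : Irreducible a) : Prime a := by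
  by_cases hdiv : ∃ p ∈ P, p ∣ a
  · obtain ⟨p, hp, c, rfl⟩ := hdiv
    have hpp := hP p hp
    rcases ha.isUnit_or_isUnit rfl with h | h
    · exact absurd h hpp.not_isUnit
    · exact (associated_mul_unit_right p c h).prime hpp
  push_neg at hdiv
  set S := Submonoid.closure P with hSdef
  set L := Localization S with hL
  have hinj : Function.Injective (algebraMap A L) :=
    IsLocalization.injective L (closure_le_nonZeroDivisors P hP)
  -- clearing denominators
  have hclear : ∀ (x : A) (s : S) (b : A), algebraMap A L a * IsLocalization.mk' L x s =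
      algebraMap A L b → a * x = s * b := by
    intro x s b h
    apply hinj
    rw [map_mul, map_mul, ← h, ← IsLocalization.mk'_spec L x s]
    ring
  have hnd : ∀ b : A, algebraMap A L a ∣ algebraMap A L b → a ∣ b := by
    rintro b ⟨w, hw⟩
    obtain ⟨x, s, rfl⟩ := IsLocalization.exists_mk'_eq S w
    exact dvd_of_mul_eq P hP a hdiv s s.2 x b (hclear x s b hw.symm)
  have hunitS : ∀ b : A, (∃ t ∈ S, b ∣ t) → IsUnit (algebraMap A L b) := by
    rintro b ⟨t, ht, hbt⟩
    have h1 : IsUnit (algebraMap A L t) := IsLocalization.map_units L (⟨t, ht⟩ : S)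
    exact isUnit_of_dvd_unit (map_dvd (algebraMap A L) hbt) h1
  -- a/1 is irreducible in L
  have hirr : Irreducible (algebraMap A L a) := by
    rw [irreducible_iff]
    constructor
    · intro hu
      have h1 : algebraMap A L a ∣ algebraMap A L 1 := by
        rw [map_one]; exact hu.dvd
      exact ha.not_isUnit (isUnit_of_dvd_one (hnd 1 h1))
    · intro y z hyz
      obtain ⟨b, s₀, rfl⟩ := IsLocalization.exists_mk'_eq S y
      obtain ⟨c, t₀, rfl⟩ := IsLocalization.exists_mk'_eq S z
      have h1 : a * ((s₀ * t₀ : S) : A) = b * c := by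
        apply hinj
        rw [map_mul, map_mul, hyz, Submonoid.coe_mul, map_mul,
          ← IsLocalization.mk'_spec L b s₀, ← IsLocalization.mk'_spec L c t₀]
        ring
      obtain ⟨l, hl, hlprod⟩ := Submonoid.exists_multiset_of_mem_closure (s₀ * t₀).2
      rw [← hlprod] at h1
      rcases split P hP a ha l hl b c h1 with h2 | h2
      · left
        have h3 := hunitS b h2
        rw [← IsLocalization.mk'_spec L b s₀] at h3
        exact isUnit_of_mul_isUnit_left h3
      · right
        have h3 := hunitS c h2
        rw [← IsLocalization.mk'_spec L c t₀] at h3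
        exact isUnit_of_mul_isUnit_left h3
  have hprimeL : Prime (algebraMap A L a) := UniqueFactorizationMonoid.irreducible_iff_prime.mp hirr
  refine ⟨ha.ne_zero, ha.not_isUnit, ?_⟩
  intro b c hbc
  have h1 : algebraMap A L a ∣ algebraMap A L b * algebraMap A L c := by
    rw [← map_mul]; exact map_dvd _ hbc
  rcases hprimeL.dvd_or_dvd h1 with h | h
  · exact Or.inl (hnd b h)
  · exact Or.inr (hnd c h)

theorem main
    (hfac : ∀ a : A, a ≠ 0 → ¬ IsUnit a →
      ∃ f : Multiset A, (∀ b ∈ f, Irreducible b) ∧ Associated f.prod a)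
    [IsDomain (Localization (Submonoid.closure P))]
    (hS : UniqueFactorizationMonoid (Localization (Submonoid.closure P))) :
    UniqueFactorizationMonoid A := by
  apply UniqueFactorizationMonoid.of_exists_prime_factors
  intro a ha0
  by_cases hu : IsUnit a
  · exact ⟨0, by simp, by rw [Multiset.prod_zero]; exact (associated_one_iff_isUnit.mpr hu).symm⟩
  · obtain ⟨f, hf, hfa⟩ := hfac a ha0 hu
    exact ⟨f, fun b hb => prime_of_irreducible P hP hS b (hf b hb), hfa⟩

end Groth.Agent.Helper8.Nagata
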