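import Mathlib
import Groth.Prelude.Def_FlatCA
import Groth.Agent.Helper3.ZMTAff
import Groth.Agent.Helper8.LimProj

/-!
# A monomorphism locally of finite type to `Spec (lim A_n)` through which every `Spec A_n` factors
is an isomorphism (S1244)

`A = lim A_n` along surjections with nil kernels.  Ring facts: the projections are surjective, an
element whose image in `A_0` is a unit is a unit, so `ker (A → A_0)` lies in every maximal ideal and
an open of `Spec A` containing the image of `Spec A_0` is everything.  Scheme part: replace `T` by a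
quasi-compact open `T₀` containing the images of all `Spec A_n`, apply Zariski's main theorem
(helper3's `ZMTAff`) to get `T₀ ⊆ Spec B` open with `B` integral over `A`, assemble `B → A` from the
`B → A_n`, and lift the resulting section `Spec A → Spec B` into `T₀`.
-/

set_option autoImplicit false

namespace Groth.Agent.Helper8.NilLimIso

open AlgebraicGeometry CategoryTheory

universe u

theorem isUnit_of_nil_ker {R S : Type*} [CommRing R] [CommRing S] (f : R →+* S)
    (hf : Function.Surjective f) (hnil : ∀ x ∈ RingHom.ker f, IsNilpotent x) (r : R)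
    (hr : IsUnit (f r)) : IsUnit r := by
  obtain ⟨s, hs⟩ := hr.exists_right_inv
  obtain ⟨s', rfl⟩ := hf s
  have hmem : r * s' - 1 ∈ RingHom.ker f := by
    rw [RingHom.mem_ker, map_sub, map_mul, hs, map_one, sub_self]
  have h1 : IsUnit (r * s' - 1 + 1) := (hnil _ hmem).isUnit_add_one
  rw [sub_add_cancel] at h1
  exact isUnit_of_mul_isUnit_left h1

section Ring

variable {A : Type u} [CommRing A] (A' : ℕ → Type u) [∀ n, CommRing (A' n)]
  (φ : ∀ n, A' (n + 1) →+* A' n) (π : ∀ n, A →+* A' n)

theorem pi_surjective (hlim : FlatCA.IsRingLimit A A' φ π)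
    (hsurj : ∀ n, Function.Surjective (φ n)) (n : ℕ) : Function.Surjective (π n) := by
  intro a
  obtain ⟨y, hy, hyn⟩ := Groth.Agent.Helper8.LimProj.exists_compat n A' (fun k => φ k) hsurj a
  obtain ⟨b, hb⟩ := hlim.2.2 y hy
  exact ⟨b, by rw [hb, hyn]⟩

theorem isUnit_of_isUnit_pi_zero (hlim : FlatCA.IsRingLimit A A' φ π)
    (hsurj : ∀ n, Function.Surjective (φ n))
    (hnil : ∀ n, ∀ x ∈ RingHom.ker (φ n), IsNilpotent x) (x : A) (hx : IsUnit (π 0 x)) :
    IsUnit x := by
  obtain ⟨hπφ, hinj, hex⟩ := hlim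
  have hπφ' : ∀ n a, φ n (π (n + 1) a) = π n a := fun n a => RingHom.congr_fun (hπφ n) a
  have hu : ∀ n, IsUnit (π n x) := by
    intro n
    induction n with
    | zero => exact hx
    | succ n ih =>
      apply isUnit_of_nil_ker (φ n) (hsurj n) (hnil n)
      rw [hπφ']
      exact ih
  choose y hy using fun n => (hu n).exists_right_inv
  have hcompat : ∀ n, φ n (y (n + 1)) = y n := by
    intro n
    have h1 : π n x * φ n (y (n + 1)) = 1 := by
      rw [← hπφ', ← map_mul, hy, map_one]
    calc φ n (y (n + 1)) = (π n x * y n) * φ n (y (n + 1)) := by rw [hy, one_mul]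
      _ = y n * (π n x * φ n (y (n + 1))) := by ring
      _ = y n := by rw [h1, mul_one]
  obtain ⟨z, hz⟩ := hex y hcompat
  refine isUnit_iff_exists_inv.mpr ⟨z, ?_⟩
  apply hinj
  intro n
  rw [map_mul, hz, hy, map_one]

theorem ker_le_maximal (hlim : FlatCA.IsRingLimit A A' φ π)
    (hsurj : ∀ n, Function.Surjective (φ n))
    (hnil : ∀ n, ∀ x ∈ RingHom.ker (φ n), IsNilpotent x) (m : Ideal A) [hm : m.IsMaximal] :
    RingHom.ker (π 0) ≤ m := by
  intro a ha
  by_contra hna
  obtain ⟨b, c, hc, hbc⟩ := hm.exists_inv hna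
  have hcu : IsUnit c := by
    apply isUnit_of_isUnit_pi_zero A' φ π hlim hsurj hnil
    have h1 : π 0 c = 1 := by
      have h2 := congrArg (π 0) hbc
      rw [map_add, map_mul, RingHom.mem_ker.mp ha, mul_zero, zero_add, map_one] at h2
      exact h2
    rw [h1]
    exact isUnit_one
  exact hm.ne_top (Ideal.eq_top_of_isUnit_mem _ hc hcu)

theorem exists_ringHom_lift (hlim : FlatCA.IsRingLimit A A' φ π) {B : Type u} [CommRing B]
    (β : ∀ n, B →+* A' n) (hβ : ∀ n, (φ n).comp (β (n + 1)) = β n) :
    ∃ b : B →+* A, ∀ n, (π n).comp b = β n := by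
  obtain ⟨-, hinj, hex⟩ := hlim
  choose f hf using fun x : B => hex (fun n => β n x) (fun n => RingHom.congr_fun (hβ n) x)
  refine ⟨{ toFun := f, map_one' := ?_, map_mul' := ?_, map_zero' := ?_, map_add' := ?_ },
    fun n => RingHom.ext fun x => hf x n⟩
  · apply hinj
    intro n
    rw [hf, map_one, map_one]
  · intro x y
    apply hinj
    intro n
    rw [map_mul, hf, hf, hf, map_mul]
  · apply hinj
    intro n
    rw [hf, map_zero, map_zero]
  · intro x y
    apply hinj
    intro n
    rw [map_add, hf, hf, hf, map_add]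

theorem eq_univ_of_isOpen (hlim : FlatCA.IsRingLimit A A' φ π)
    (hsurj : ∀ n, Function.Surjective (φ n))
    (hnil : ∀ n, ∀ x ∈ RingHom.ker (φ n), IsNilpotent x)
    (U : Set (PrimeSpectrum A)) (hU : IsOpen U)
    (hcont : Set.range (PrimeSpectrum.comap (π 0)) ⊆ U) : U = Set.univ := by
  by_contra hne
  obtain ⟨J, hJ⟩ := (PrimeSpectrum.isClosed_iff_zeroLocus_ideal Uᶜ).mp hU.isClosed_compl
  have hJne : J ≠ ⊤ := by
    intro h
    rw [h] at hJ
    apply hne
    rw [← Set.compl_empty_iff, hJ]
    simp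
  obtain ⟨m, hm, hJm⟩ := Ideal.exists_le_maximal J hJne
  let x : PrimeSpectrum A := ⟨m, hm.isPrime⟩
  have hx : x ∈ Uᶜ := by
    rw [hJ]
    exact hJm
  apply hx
  apply hcont
  rw [range_comap_of_surjective _ _ (pi_surjective A' φ π hlim hsurj 0)]
  exact ker_le_maximal A' φ π hlim hsurj hnil m

end Ring

theorem main {A : Type u} [CommRing A] (A' : ℕ → Type u) [∀ n, CommRing (A' n)]
    (φ : ∀ n, A' (n + 1) →+* A' n) (π : ∀ n, A →+* A' n) (hlim : FlatCA.IsRingLimit A A' φ π)
    (hsurj : ∀ n, Function.Surjective (φ n)) (hnil : ∀ n, ∀ x ∈ RingHom.ker (φ n), IsNilpotent x)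
    {T : Scheme.{u}} (h : T ⟶ Spec (CommRingCat.of A)) [Mono h] [LocallyOfFiniteType h]
    (hsec : ∀ n, ∃ g : Spec (CommRingCat.of (A' n)) ⟶ T,
      g ≫ h = Spec.map (CommRingCat.ofHom (π n))) :
    IsIso h := by
  classical
  choose g hg using hsec
  have hπφ : ∀ n, (φ n).comp (π (n + 1)) = π n := hlim.1
  have hgg : ∀ n, Spec.map (CommRingCat.ofHom (φ n)) ≫ g (n + 1) = g n := by
    intro n
    rw [← cancel_mono h, Category.assoc, hg, hg, ← Spec.map_comp, ← CommRingCat.ofHom_comp, hπφ]
  have hφsurj : ∀ n, Function.Surjective (Spec.map (CommRingCat.ofHom (φ n))).base := by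
    intro n q
    have hq : q ∈ Set.range (PrimeSpectrum.comap (φ n)) := by
      rw [range_comap_of_surjective _ _ (hsurj n)]
      intro a ha
      exact nilradical_le_prime q.asIdeal (mem_nilradical.mpr (hnil n a ha))
    obtain ⟨p, hp⟩ := hq
    exact ⟨p, hp⟩
  have hrange : ∀ n, Set.range (g n).base ⊆ Set.range (g 0).base := by
    intro n
    induction n with
    | zero => exact le_rfl
    | succ n ih =>
      rintro _ ⟨x, rfl⟩
      obtain ⟨x', rfl⟩ := hφsurj n x
      apply ih
      refine ⟨x', ?_⟩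
      rw [← hgg n]
      rfl
  -- a quasi-compact open containing the image of `g 0`
  obtain ⟨T0, hT0c, hT0⟩ : ∃ T0 : T.Opens, IsCompact (T0 : Set T) ∧
      Set.range (g 0).base ⊆ T0 := by
    have hc : IsCompact (Set.range (g 0).base) := isCompact_range (g 0).continuous
    obtain ⟨s, hs⟩ := hc.elim_finite_subcover (fun U : T.affineOpens => (U.1 : Set T))
      (fun U => U.1.2) (by
        intro x _
        have hx : x ∈ (⨆ i : T.affineOpens, (i : T.Opens)) := by
          rw [iSup_affineOpens_eq_top]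
          trivial
        obtain ⟨U, hxU⟩ := TopologicalSpace.Opens.mem_iSup.mp hx
        exact Set.mem_iUnion.mpr ⟨U, hxU⟩)
    refine ⟨⟨⋃ U ∈ s, (U.1 : Set T), isOpen_biUnion fun U _ => U.1.2⟩, ?_, hs⟩
    exact s.isCompact_biUnion fun U _ => U.2.isCompact
  have hrange0 : ∀ n, Set.range (g n).base ⊆ Set.range T0.ι.base := by
    intro n
    rw [Scheme.Opens.range_ι]
    exact (hrange n).trans hT0
  let g' : ∀ n, Spec (CommRingCat.of (A' n)) ⟶ T0.toScheme :=
    fun n => IsOpenImmersion.lift T0.ι (g n) (hrange0 n)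
  have hg' : ∀ n, g' n ≫ T0.ι = g n := fun n => IsOpenImmersion.lift_fac _ _ _
  have hgg' : ∀ n, Spec.map (CommRingCat.ofHom (φ n)) ≫ g' (n + 1) = g' n := by
    intro n
    rw [← cancel_mono T0.ι, Category.assoc, hg', hg', hgg]
  set h0 : T0.toScheme ⟶ Spec (CommRingCat.of A) := T0.ι ≫ h with hh0
  have : CompactSpace T0.toScheme := isCompact_iff_compactSpace.mp hT0c
  have : QuasiCompact h0 := (quasiCompact_iff_compactSpace h0).mpr inferInstance
  have : Mono h0 := mono_comp _ _
  have : LocallyOfFiniteType h0 := inferInstance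
  have : LocallyQuasiFinite h0 := inferInstance
  have : IsSeparated h0 := inferInstance
  obtain ⟨B, _, _, _, t, ht, hth⟩ :=
    Groth.Agent.Helper3.ZMTAff.exists_integral_factorization A h0
  have hb : ∀ n, ∃ b : CommRingCat.of B ⟶ CommRingCat.of (A' n), Spec.map b = g' n ≫ t :=
    fun n => Spec.map_surjective _
  choose b hb using hb
  have hbπ : ∀ n, (b n).hom.comp (algebraMap A B) = π n := by
    intro n
    have h1 : Spec.map (CommRingCat.ofHom (algebraMap A B) ≫ b n) =
        Spec.map (CommRingCat.ofHom (π n)) := by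
      rw [Spec.map_comp, hb, Category.assoc, hth, hh0, ← Category.assoc, hg', hg]
    have h2 := Spec.map_injective h1
    exact congrArg CommRingCat.Hom.hom h2
  have hbφ : ∀ n, (φ n).comp (b (n + 1)).hom = (b n).hom := by
    intro n
    have h1 : Spec.map (b (n + 1) ≫ CommRingCat.ofHom (φ n)) = Spec.map (b n) := by
      rw [Spec.map_comp, hb, hb, ← Category.assoc, hgg']
    have h2 := Spec.map_injective h1
    exact congrArg CommRingCat.Hom.hom h2
  obtain ⟨β, hβ⟩ := exists_ringHom_lift A' φ π hlim (fun n => (b n).hom) hbφ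
  have hβalg : β.comp (algebraMap A B) = RingHom.id A := by
    apply RingHom.ext
    intro a
    apply hlim.2.1
    intro n
    have h1 := RingHom.congr_fun (hβ n) (algebraMap A B a)
    have h2 := RingHom.congr_fun (hbπ n) a
    simp only [RingHom.comp_apply] at h1 h2
    rw [RingHom.comp_apply, h1, h2]
    rfl
  set s : Spec (CommRingCat.of A) ⟶ Spec (CommRingCat.of B) :=
    Spec.map (CommRingCat.ofHom β) with hs
  have hst : Set.range s.base ⊆ Set.range t.base := by
    have hopen : IsOpen (s.base ⁻¹' Set.range t.base) :=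
      (t.isOpenEmbedding.isOpen_range).preimage s.continuous
    have hcont : Set.range (PrimeSpectrum.comap (π 0)) ⊆ s.base ⁻¹' Set.range t.base := by
      rintro _ ⟨x, rfl⟩
      refine ⟨(g' 0).base x, ?_⟩
      have e1 : Spec.map (CommRingCat.ofHom (π 0)) ≫ s = g' 0 ≫ t := by
        rw [hs, ← Spec.map_comp, ← hb 0]
        congr 1
        exact CommRingCat.hom_ext (hβ 0)
      have e2 := congrArg (fun f => f.base x) e1
      exact e2.symm
    have huniv := eq_univ_of_isOpen A' φ π hlim hsurj hnil _ hopen hcont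
    rintro _ ⟨x, rfl⟩
    have hx : x ∈ s.base ⁻¹' Set.range t.base := by
      rw [huniv]
      trivial
    exact hx
  let σ : Spec (CommRingCat.of A) ⟶ T0.toScheme := IsOpenImmersion.lift t s hst
  have hσ : σ ≫ t = s := IsOpenImmersion.lift_fac _ _ _
  have hσh : (σ ≫ T0.ι) ≫ h = 𝟙 _ := by
    rw [Category.assoc, ← hh0, ← hth, ← Category.assoc, hσ, hs, ← Spec.map_comp,
      ← CommRingCat.ofHom_comp, hβalg]
    exact Spec.map_id _
  have hh : h ≫ (σ ≫ T0.ι) = 𝟙 _ := by
    rw [← cancel_mono h, Category.assoc, hσh, Category.comp_id, Category.id_comp]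
  exact ⟨⟨σ ≫ T0.ι, hh, hσh⟩⟩

end Groth.Agent.Helper8.NilLimIso
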