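import Mathlib
set_option autoImplicit false
open TensorProduct

namespace Groth.Agent.Helper8.NilRank

/-- In a finite-dimensional commutative algebra of dimension `d`, an ideal of nilpotents has
`d`-th power zero. -/
lemma field_case {K C : Type*} [Field K] [CommRing C] [Algebra K C] [FiniteDimensional K C]
    (N : Ideal C) (hN : N ≤ nilradical C) : N ^ Module.finrank K C = ⊥ := by
  have : IsNoetherianRing C := isNoetherian_of_tower K (inferInstance : IsNoetherian K C)
  obtain ⟨k, hk⟩ : ∃ k : ℕ, N ^ k = ⊥ := by
    obtain ⟨k, hk⟩ := IsNoetherianRing.isNilpotent_nilradical C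
    refine ⟨k, le_bot_iff.1 ?_⟩
    have h1 := Ideal.pow_right_mono hN k
    rw [hk] at h1
    exact h1
  -- Nakayama-type step
  have hstep : ∀ j : ℕ, N ^ (j + 1) = N ^ j → N ^ j = ⊥ := by
    intro j hj
    have : ∀ t : ℕ, N ^ j = N ^ t * N ^ j := by
      intro t
      induction t with
      | zero => simp
      | succ t ih => rw [pow_succ, mul_assoc, ← pow_succ', hj]; exact ih
    rw [this k, hk, Ideal.bot_mul]
  have key : ∀ j : ℕ, N ^ j = ⊥ ∨
      Module.finrank K ((N ^ j).restrictScalars K) + j ≤ Module.finrank K C := by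
    intro j
    induction j with
    | zero =>
      right
      rw [pow_zero, Ideal.one_eq_top, Submodule.restrictScalars_top, finrank_top]
      exact le_refl _
    | succ j ih =>
      rcases ih with h0 | h1
      · left; rw [pow_succ, h0, Ideal.bot_mul]
      · by_cases hj : N ^ (j + 1) = N ^ j
        · left; rw [hj]; exact hstep j hj
        · right
          have hlt : (N ^ (j + 1)).restrictScalars K < (N ^ j).restrictScalars K := by
            refine lt_of_le_of_ne ?_ ?_
            · intro x hx
              exact Ideal.pow_le_pow_right (Nat.le_succ j) hx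
            · intro heq
              apply hj
              exact Submodule.restrictScalars_injective K _ _ heq
          have := Submodule.finrank_lt_finrank_of_lt hlt
          omega
  rcases key (Module.finrank K C) with h | h
  · exact h
  · have h0 : Module.finrank K ((N ^ Module.finrank K C).restrictScalars K) = 0 := by omega
    have := Submodule.finrank_eq_zero.1 h0
    exact Submodule.restrictScalars_injective K _ _ (by rw [this]; rfl)

universe u

lemma nil_pow_rank (A : Type u) [CommRing A] [IsReduced A] (B : Type u) [CommRing B] [Algebra A B]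
    [Module.Finite A B] [Module.Projective A B] (d : ℕ)
    (hrank : ∀ p : PrimeSpectrum A, Module.rankAtStalk (R := A) B p = d)
    (J : Ideal B) (hJ : ∀ x ∈ J, IsNilpotent x) : J ^ d = ⊥ := by
  rw [eq_bot_iff]
  intro y hy
  rw [Ideal.mem_bot]
  obtain ⟨s, hs⟩ := (Module.projective_def'.1 (inferInstance : Module.Projective A B))
  suffices h : s y = 0 by
    have := LinearMap.congr_fun hs y
    simp only [LinearMap.comp_apply, h, map_zero, LinearMap.id_apply] at this
    exact this.symm
  ext b
  obtain ⟨φ, hφ⟩ : ∃ φ : B →ₗ[A] A, φ = (Finsupp.lapply b) ∘ₗ s := ⟨_, rfl⟩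
  show (s y) b = (0 : B →₀ A) b
  rw [Finsupp.zero_apply]
  have hφy : (s y) b = φ y := by rw [hφ]; rfl
  rw [hφy]
  have hred : ∀ a : A, (∀ p : Ideal A, p.IsPrime → a ∈ p) → a = 0 := by
    intro a ha
    have : a ∈ nilradical A := by
      rw [nilradical_eq_sInf]
      exact Submodule.mem_sInf.2 (fun p hp => ha p hp)
    rwa [nilradical_eq_zero, Ideal.zero_eq_bot, Ideal.mem_bot] at this
  apply hred
  intro p hp
  have hfr : Module.finrank p.ResidueField (p.ResidueField ⊗[A] B) = d := by
    have h1 := Module.rankAtStalk_baseChange (R := A) (M := B) (S := p.ResidueField)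
      ⟨⊥, Ideal.isPrime_bot⟩
    rw [hrank] at h1
    rw [← h1]
    exact (congrFun (Module.rankAtStalk_eq_finrank_of_free (R := p.ResidueField)
      (M := p.ResidueField ⊗[A] B)) _).symm
  have hN : J.map (Algebra.TensorProduct.includeRight : B →ₐ[A] p.ResidueField ⊗[A] B) ≤
      nilradical (p.ResidueField ⊗[A] B) := by
    rw [Ideal.map_le_iff_le_comap]
    intro x hx
    rw [Ideal.mem_comap, mem_nilradical]
    exact (hJ x hx).map _
  have h2 := field_case (K := p.ResidueField) _ hN
  rw [hfr] at h2
  have h3 : (1 : p.ResidueField) ⊗ₜ[A] y = 0 := by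
    have : (Algebra.TensorProduct.includeRight : B →ₐ[A] p.ResidueField ⊗[A] B) y ∈
        (J.map (Algebra.TensorProduct.includeRight : B →ₐ[A] p.ResidueField ⊗[A] B)) ^ d := by
      rw [← Ideal.map_pow]
      exact Ideal.mem_map_of_mem _ hy
    rw [h2, Ideal.mem_bot] at this
    exact this
  have h4 := congrArg (fun z => TensorProduct.rid A p.ResidueField
    (LinearMap.lTensor p.ResidueField φ z)) h3
  simp only [LinearMap.lTensor_tmul, TensorProduct.rid_tmul, map_zero] at h4
  rw [Algebra.smul_def, mul_one] at h4
  exact Ideal.algebraMap_residueField_eq_zero.1 h4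

theorem s15150 (A : Type u) [CommRing A] [IsReduced A]
    (S : Type u) [CommRing S] [Algebra A S] (π : S →ₐ[A] A) (I : Ideal S) (d : ℕ)
    [Module.Finite A (S ⧸ I)] [Module.Projective A (S ⧸ I)]
    (hrank : ∀ p : PrimeSpectrum A, Module.rankAtStalk (R := A) (S ⧸ I) p = d)
    (hsupp : RingHom.ker π ≤ I.radical) :
    RingHom.ker π ^ d ≤ I := by
  have h1 := nil_pow_rank A (S ⧸ I) d hrank ((RingHom.ker π).map (Ideal.Quotient.mk I)) (by
    intro x hx
    obtain ⟨z, hz, rfl⟩ := (Ideal.mem_map_iff_of_surjective _ Ideal.Quotient.mk_surjective).1 hx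
    obtain ⟨n, hn⟩ := hsupp hz
    exact ⟨n, by rw [← map_pow, Ideal.Quotient.eq_zero_iff_mem]; exact hn⟩)
  intro z hz
  have : Ideal.Quotient.mk I z ∈ ((RingHom.ker π).map (Ideal.Quotient.mk I)) ^ d := by
    rw [← Ideal.map_pow]
    exact Ideal.mem_map_of_mem _ hz
  rw [h1, Ideal.mem_bot, Ideal.Quotient.eq_zero_iff_mem] at this
  exact this

end Groth.Agent.Helper8.NilRank
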