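import Mathlib
import Groth.Prelude.Def_W4c5algebraiztannakaNis
set_option autoImplicit false

namespace Groth.Agent.Helper8.Nis

open CategoryTheory AlgebraicGeometry Topology W4c5algebraiztannaka

universe u

section Top

variable {X : Type*} [TopologicalSpace X]

/-- constructible subsets of a compact space are compact -/
lemma isCompact_of_isConstructible [CompactSpace X] {s : Set X} (hs : IsConstructible s) :
    IsCompact s := by
  induction s, hs using BooleanSubalgebra.closure_sdiff_sup_induction with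
  | isSublattice =>
    exact ⟨fun s hs t ht ↦ ⟨hs.1.union ht.1, hs.2.union ht.2⟩,
      fun s hs t ht ↦ ⟨hs.1.inter ht.1, hs.2.inter_isOpen ht.2 ht.1⟩⟩
  | bot_mem => exact ⟨isOpen_empty, .empty⟩
  | top_mem => exact ⟨isOpen_univ, .univ⟩
  | sdiff U hU V hV => exact (hU.2.isCompact).diff hV.1
  | sup s _ t _ hs' ht' => exact hs'.union ht'

/-- a compact relatively open subset of a constructible set is constructible -/
lemma isConstructible_of_isOpen_inter [QuasiSeparatedSpace X] [PrespectralSpace X]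
    {C O : Set X} (hC : IsConstructible C) (hO : IsOpen O) (hcomp : IsCompact (O ∩ C)) :
    IsConstructible (O ∩ C) := by
  obtain ⟨S, hS, rfl⟩ := (PrespectralSpace.isTopologicalBasis (X := X)).open_eq_sUnion hO
  have hcov : (⋃₀ S) ∩ C ⊆ ⋃ i : S, (i : Set X) := by
    rw [Set.sUnion_eq_iUnion]; exact Set.inter_subset_left
  obtain ⟨t, ht⟩ := hcomp.elim_finite_subcover (fun i : S => (i : Set X)) (fun i => (hS i.2).1) hcov
  have hO' : IsConstructible (⋃ i ∈ t, (i : Set X)) := by
    refine IsConstructible.biUnion t.finite_toSet fun i _ => ?_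
    exact (hS i.2).2.isConstructible (hS i.2).1
  have heq : (⋃₀ S) ∩ C = (⋃ i ∈ t, (i : Set X)) ∩ C := by
    apply Set.Subset.antisymm
    · intro x hx; exact ⟨ht hx, hx.2⟩
    · rintro x ⟨hx, hxC⟩
      simp only [Set.mem_iUnion] at hx
      obtain ⟨i, _, hxi⟩ := hx
      exact ⟨Set.mem_sUnion.mpr ⟨i, i.2, hxi⟩, hxC⟩
  rw [heq]
  exact hO'.inter hC

end Top

/-- normalise the flag to an `ℕ`-indexed one -/
lemma flag_nat {U Y : Scheme.{u}} {f : U ⟶ Y} {m : ℕ} (h : IsNisCoverLen f m) :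
    ∃ Z : ℕ → Set Y, Z 0 = ∅ ∧ Z m = Set.univ ∧ Monotone Z ∧
      (∀ k, IsClosed (Z k) ∧ IsConstructible (Z k)) ∧ ∀ k < m, HasSectOver f (Z (k + 1) \ Z k) := by
  obtain ⟨_, Z₀, h0, hl, hmono, hcc, hsec⟩ := h
  refine ⟨fun k => Z₀ ⟨min k m, by omega⟩, ?_, ?_, ?_, ?_, ?_⟩
  · simpa using h0
  · have : (⟨min m m, by omega⟩ : Fin (m + 1)) = Fin.last m := Fin.ext (by simp)
    simp only [this]; exact hl
  · intro a b hab
    apply hmono
    simp only [Fin.mk_le_mk]
    omega
  · intro k; exact hcc _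
  · intro k hk
    have h1 : (⟨min (k + 1) m, by omega⟩ : Fin (m + 1)) = (⟨k, hk⟩ : Fin m).succ :=
      Fin.ext (by simp; omega)
    have h2 : (⟨min k m, by omega⟩ : Fin (m + 1)) = (⟨k, hk⟩ : Fin m).castSucc :=
      Fin.ext (by simp; omega)
    simp only [h1, h2]
    exact hsec ⟨k, hk⟩

lemma of_flag_nat {U Y : Scheme.{u}} {f : U ⟶ Y} {m : ℕ} (het : Etale f) (Z : ℕ → Set Y)
    (h0 : Z 0 = ∅) (hl : Z m = Set.univ) (hmono : ∀ k < m, Z k ⊆ Z (k + 1))
    (hcc : ∀ k ≤ m, IsClosed (Z k) ∧ IsConstructible (Z k))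
    (hsec : ∀ k < m, HasSectOver f (Z (k + 1) \ Z k)) : IsNisCoverLen f m := by
  refine ⟨het, fun j => Z j.val, h0, hl, ?_, fun j => hcc _ (by omega), fun j => hsec j.val j.isLt⟩
  have key : ∀ a b : ℕ, a ≤ b → b ≤ m → Z a ⊆ Z b := by
    intro a b hab
    induction b, hab using Nat.le_induction with
    | base => intro _; exact subset_rfl
    | succ b hab ih =>
      intro hb
      exact (ih (by omega)).trans (hmono b (by omega))
  intro a b hab
  exact key a.val b.val hab (by omega)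

end Groth.Agent.Helper8.Nis
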