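import Groth.Agent.Helper8.TildeBC
import Groth.Prelude.Def_W4c5algebraiztannakaNis
import Mathlib.LinearAlgebra.TensorProduct.Quotient
import Mathlib.RingTheory.TensorProduct.Basic
import Mathlib.AlgebraicGeometry.Morphisms.ClosedImmersion

set_option autoImplicit false
open CategoryTheory AlgebraicGeometry Limits Opposite TensorProduct
universe u

namespace Groth.Agent.Helper8.NisGen

open Groth.Agent.Helper8.TildeBC W4c5algebraiztannaka

theorem mem_smul_top_of_tmul_eq_zero {R : Type u} [CommRing R] (I : Ideal R)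
    (inst : Algebra R (R ⧸ I)) (h : inst = Ideal.Quotient.algebra R)
    {M : Type u} [AddCommGroup M] [Module R M] (z : M)
    (hz : (1 : R ⧸ I) ⊗ₜ[R] z = (0 : (R ⧸ I) ⊗[R] M)) : z ∈ I • (⊤ : Submodule R M) := by
  subst h
  have := congrArg (TensorProduct.quotTensorEquivQuotSMul M I) hz
  rw [map_zero, ← map_one (Ideal.Quotient.mk I), TensorProduct.quotTensorEquivQuotSMul_mk_tmul,
    one_smul, Submodule.Quotient.mk_eq_zero] at this
  exact this

theorem exists_gens_of_extendScalars_quot {R : Type u} [CommRing R] (I : Ideal R)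
    (M : ModuleCat.{u} R) (n : ℕ)
    (t : Fin n → (ModuleCat.extendScalars.{u, u, u} (Ideal.Quotient.mk I)).obj M)
    (ht : Submodule.span (R ⧸ I) (Set.range t) = ⊤) :
    ∃ x : Fin n → M, Submodule.span R (Set.range x) ⊔ I • (⊤ : Submodule R M) = ⊤ := by
  let _ : Algebra R (R ⧸ I) := (Ideal.Quotient.mk I).toAlgebra
  have hinst : (Ideal.Quotient.mk I).toAlgebra = Ideal.Quotient.algebra R :=
    Algebra.algebra_ext _ _ (fun r => rfl)
  have hsurj : Function.Surjective (algebraMap R (R ⧸ I)) := Ideal.Quotient.mk_surjective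
  have hmk := TensorProduct.mk_surjective R M (R ⧸ I) hsurj
  let t' : Fin n → (R ⧸ I) ⊗[R] M := t
  have ht' : Submodule.span (R ⧸ I) (Set.range t') = ⊤ := ht
  choose x hx using fun j => hmk (t' j)
  refine ⟨x, ?_⟩
  rw [eq_top_iff]
  intro y _
  have hy : ((1 : R ⧸ I) ⊗ₜ[R] y : (R ⧸ I) ⊗[R] M) ∈ Submodule.span (R ⧸ I) (Set.range t') := by
    rw [ht']; trivial
  have himg : ∀ w ∈ Submodule.span (R ⧸ I) (Set.range t'),
      ∃ z ∈ Submodule.span R (Set.range x), (1 : R ⧸ I) ⊗ₜ[R] z = w := by
    intro w hw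
    induction hw using Submodule.span_induction with
    | mem w hw =>
      obtain ⟨j, rfl⟩ := hw
      exact ⟨x j, Submodule.subset_span ⟨j, rfl⟩, hx j⟩
    | zero => exact ⟨0, Submodule.zero_mem _, by simp⟩
    | add w₁ w₂ _ _ h₁ h₂ =>
      obtain ⟨z₁, hz₁, rfl⟩ := h₁
      obtain ⟨z₂, hz₂, rfl⟩ := h₂
      exact ⟨z₁ + z₂, Submodule.add_mem _ hz₁ hz₂, by rw [TensorProduct.tmul_add]⟩
    | smul a w _ h₁ =>
      obtain ⟨z, hz, rfl⟩ := h₁
      obtain ⟨r, rfl⟩ := hsurj a
      refine ⟨r • z, Submodule.smul_mem _ _ hz, ?_⟩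
      rw [TensorProduct.smul_tmul', smul_eq_mul, mul_one, Algebra.algebraMap_eq_smul_one]
      exact (TensorProduct.smul_tmul r (1 : R ⧸ I) z).symm
  obtain ⟨z, hz, hzy⟩ := himg _ hy
  have h0 : (1 : R ⧸ I) ⊗ₜ[R] (y - z) = (0 : (R ⧸ I) ⊗[R] M) := by
    rw [TensorProduct.tmul_sub, hzy, sub_self]
  have h1 := mem_smul_top_of_tmul_eq_zero I _ hinst (y - z) h0
  have : y = z + (y - z) := by abel
  rw [this]
  exact Submodule.add_mem _ (Submodule.mem_sup_left hz) (Submodule.mem_sup_right h1)

theorem hasSectOver_pullback {U Y Y' : Scheme.{u}} (f : U ⟶ Y) (g : Y' ⟶ Y) {W : Set Y}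
    (h : HasSectOver f W) : HasSectOver (pullback.snd f g) (g ⁻¹' W) := by
  obtain ⟨T, t, s, ht, hr, hst⟩ := h
  refine ⟨pullback t g, pullback.snd t g,
    pullback.lift (pullback.fst t g ≫ s) (pullback.snd t g) ?_, inferInstance, ?_, ?_⟩
  · rw [Category.assoc, hst, pullback.condition]
  · change Set.range (pullback.snd t g) = _
    rw [Scheme.Pullback.range_snd, ← hr]
  · exact pullback.lift_snd _ _ _

theorem bottom {R : CommRingCat.{u}} (M : ModuleCat.{u} R) {U : Scheme.{u}} (f : U ⟶ Spec R)
    (N : ℕ) (Z₁ : Set (Spec R)) (hcl : IsClosed Z₁) (hsec : HasSectOver f Z₁)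
    (hgen : Gen ((Scheme.Modules.pullback f).obj (tilde M)) N) :
    ∃ (I : Ideal R) (x : Fin N → M), (∀ p : PrimeSpectrum R, p ∈ Z₁ → I ≤ p.asIdeal) ∧
      Submodule.span R (Set.range x) ⊔ I • (⊤ : Submodule R M) = ⊤ := by
  obtain ⟨T, g, s, hg, hr, hst⟩ := hsec
  have hr' : Set.range g = Z₁ := hr
  have : IsClosedImmersion g := IsClosedImmersion.of_isPreimmersion g (by rw [hr']; exact hcl)
  obtain ⟨I, e, he⟩ := IsClosedImmersion.Spec_iff.mp (inferInstance : IsClosedImmersion g)
  let q : R ⟶ CommRingCat.of (R ⧸ I) := CommRingCat.ofHom (Ideal.Quotient.mk I)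
  have h1 := hgen.pullback s
  have h2 := (h1.pullback_comp s f).pullback_congr hst
  have h3 := h2.pullback e.inv
  have h4 := (h3.pullback_comp e.inv g).pullback_congr
    (show e.inv ≫ g = Spec.map q by rw [he, Iso.inv_hom_id_assoc])
  obtain ⟨t, ht⟩ := h4.pullback_tilde_span q
  obtain ⟨x, hx⟩ := exists_gens_of_extendScalars_quot I M N t ht
  refine ⟨I, x, ?_, hx⟩
  intro p hp a ha
  rw [← hr'] at hp
  obtain ⟨t₀, rfl⟩ := hp
  rw [he]
  change a ∈ ((Spec.map q) (e.hom t₀)).asIdeal
  change (Ideal.Quotient.mk I) a ∈ (e.hom t₀).asIdeal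
  rw [Ideal.Quotient.eq_zero_iff_mem.mpr ha]
  exact Ideal.zero_mem _


theorem finite_extendScalars {R A : Type u} [CommRing R] [CommRing A] (f : R →+* A)
    (M : ModuleCat.{u} R) [Module.Finite R M] :
    Module.Finite A ((ModuleCat.extendScalars.{u, u, u} f).obj M) := by
  let _ := f.toAlgebra
  exact inferInstanceAs (Module.Finite A (A ⊗[R] M))

theorem key (m : ℕ) : ∀ (R : CommRingCat.{u}) (M : ModuleCat.{u} R) [Module.Finite R M]
    {U : Scheme.{u}} (f : U ⟶ Spec R) (N : ℕ) (Z : Fin (m + 1) → Set (Spec R)),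
    Z 0 = ∅ → Z (Fin.last m) = Set.univ → (∀ k, IsClosed (Z k)) →
    (∀ k : Fin m, HasSectOver f (Z k.succ \ Z k.castSucc)) →
    Gen ((Scheme.Modules.pullback f).obj (tilde M)) N →
    ∃ s : Fin (N * m) → M, Submodule.span R (Set.range s) = ⊤ := by
  induction m with
  | zero =>
    intro R M _ U f N Z h0 hlast _ _ _
    have hempty : IsEmpty (Spec R) := by
      have : (Set.univ : Set (Spec R)) = ∅ := by rw [← hlast, ← h0]; rfl
      exact Set.univ_eq_empty_iff.mp this
    have : Subsingleton R := by
      by_contra hne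
      rw [not_subsingleton_iff_nontrivial] at hne
      obtain ⟨p⟩ := (inferInstance : Nonempty (PrimeSpectrum R))
      exact hempty.false p
    have : Subsingleton M := Module.subsingleton R M
    exact ⟨fun _ => 0, Subsingleton.elim _ _⟩
  | succ m ih =>
    intro R M _ U f N Z h0 hlast hcl hsec hgen
    -- bottom stratum
    have hsec0 : HasSectOver f (Z 1) := by
      have := hsec 0
      simpa [h0] using this
    obtain ⟨I, x, hI, hx⟩ := bottom M f N (Z 1) (hcl 1) hsec0 hgen
    -- quotient
    set S := Submodule.span R (Set.range x) with hS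
    let M' : ModuleCat.{u} R := ModuleCat.of R (M ⧸ S)
    let π : M ⟶ M' := ModuleCat.ofHom S.mkQ
    have hπ : Function.Surjective π := S.mkQ_surjective
    have hπe : Epi π := (ModuleCat.epi_iff_surjective π).mpr hπ
    -- Nakayama
    have htop : (⊤ : Submodule R (M ⧸ S)) ≤ I • ⊤ := by
      have hmap : (I • (⊤ : Submodule R M)).map S.mkQ ≤ I • ⊤ := by
        rw [Submodule.map_smul'']
        exact smul_mono_right _ le_top
      intro y' _
      obtain ⟨y, rfl⟩ := S.mkQ_surjective y'
      have hy : y ∈ S ⊔ I • (⊤ : Submodule R M) := by rw [hx]; trivial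
      obtain ⟨z, hz, w, hw, rfl⟩ := Submodule.mem_sup.mp hy
      rw [map_add, Submodule.mkQ_apply, (Submodule.Quotient.mk_eq_zero S).mpr hz, zero_add]
      exact hmap ⟨w, hw, rfl⟩
    obtain ⟨r, hr1, hr2⟩ := Submodule.exists_sub_one_mem_and_smul_eq_zero_of_fg_of_le_smul I
      (⊤ : Submodule R (M ⧸ S)) Module.Finite.fg_top htop
    let a : R := 1 - r
    have haI : a ∈ I := by
      have := I.neg_mem hr1
      simpa [a] using this
    have hact : ∀ y : M ⧸ S, a • y = y := by
      intro y
      simp only [a, sub_smul, one_smul, hr2 y trivial, sub_zero]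
    -- localization
    let A : CommRingCat.{u} := CommRingCat.of (Localization.Away a)
    let α : R ⟶ A := CommRingCat.ofHom (algebraMap R (Localization.Away a))
    let Z' : Fin (m + 1) → Set (Spec A) := fun k => (Spec.map α) ⁻¹' (Z k.succ)
    have hZ'0 : Z' 0 = ∅ := by
      ext p'
      simp only [Z', Set.mem_preimage, Set.mem_empty_iff_false, iff_false]
      intro hp'
      have h1 : a ∈ ((Spec.map α) p').asIdeal := hI _ hp' haI
      have h2 : (algebraMap R (Localization.Away a)) a ∈ p'.asIdeal := h1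
      have hu : IsUnit ((algebraMap R (Localization.Away a)) a) :=
        IsLocalization.Away.algebraMap_isUnit a
      exact p'.isPrime.ne_top (Ideal.eq_top_of_isUnit_mem _ h2 hu)
    have hZ'last : Z' (Fin.last m) = Set.univ := by
      simp only [Z', Fin.succ_last, hlast, Set.preimage_univ]
    have hZ'cl : ∀ k, IsClosed (Z' k) := fun k => (hcl _).preimage (Spec.map α).continuous
    have hZ'sec : ∀ k : Fin m, HasSectOver (pullback.snd f (Spec.map α))
        (Z' k.succ \ Z' k.castSucc) := by
      intro k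
      have := hasSectOver_pullback f (Spec.map α) (hsec k.succ)
      rw [Set.preimage_sdiff] at this
      change HasSectOver _ ((Spec.map α) ⁻¹' Z k.succ.succ \ (Spec.map α) ⁻¹' Z k.castSucc.succ)
      rw [Fin.succ_castSucc]
      exact this
    -- generation
    have k1 : Gen ((Scheme.Modules.pullback f).obj (tilde M')) N := by
      have h1 : Epi (tilde.map π) := (inferInstance : Epi ((tilde.functor R).map π))
      have : Epi ((Scheme.Modules.pullback f).map (tilde.map π)) := inferInstance
      exact hgen.of_epi ((Scheme.Modules.pullback f).map (tilde.map π))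
    have k2 := k1.pullback (pullback.fst f (Spec.map α))
    have k3 := (k2.pullback_comp (pullback.fst f (Spec.map α)) f).pullback_congr pullback.condition
    have k4 : Gen ((Scheme.Modules.pullback (pullback.snd f (Spec.map α))).obj
        ((Scheme.Modules.pullback (Spec.map α)).obj (tilde M'))) N :=
      k3.of_iso ((Scheme.Modules.pullbackComp (pullback.snd f (Spec.map α)) (Spec.map α)).symm.app _)
    have k5 : Gen ((Scheme.Modules.pullback (pullback.snd f (Spec.map α))).obj
        (tilde ((ModuleCat.extendScalars.{u, u, u} α.hom).obj M'))) N :=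
      k4.of_iso ((Scheme.Modules.pullback (pullback.snd f (Spec.map α))).mapIso
        ((tildePullbackIso α).app M'))
    have hfin : Module.Finite A ((ModuleCat.extendScalars.{u, u, u} α.hom).obj M') :=
      finite_extendScalars α.hom M'
    obtain ⟨s', hs'⟩ := ih A ((ModuleCat.extendScalars.{u, u, u} α.hom).obj M')
      (pullback.snd f (Spec.map α)) N Z' hZ'0 hZ'last hZ'cl hZ'sec k5
    have hloc : letI := α.hom.toAlgebra; IsLocalization.Away a (Localization.Away a) := by
      have hinst : (algebraMap R (Localization.Away a)).toAlgebra =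
          (inferInstance : Algebra R (Localization.Away a)) :=
        Algebra.algebra_ext _ _ (fun r => rfl)
      change @IsLocalization.Away R _ a (Localization.Away a) _
        (algebraMap R (Localization.Away a)).toAlgebra
      rw [hinst]
      infer_instance
    obtain ⟨x', hx'⟩ := exists_gens_of_extendScalars α.hom a hloc M' (N * m) s' hs'
    have hpow : ∀ (K : ℕ) (y : M ⧸ S), a ^ K • y = y := by
      intro K y
      induction K with
      | zero => simp
      | succ K ihK => rw [pow_succ, mul_smul, hact, ihK]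
    have hspan' : Submodule.span R (Set.range x') = ⊤ := by
      rw [eq_top_iff]
      intro y _
      obtain ⟨K, hK⟩ := hx' y
      rwa [hpow K y] at hK
    -- lift
    choose x'' hx'' using fun j => S.mkQ_surjective (x' j)
    refine ⟨fun k => Fin.append x'' x (Fin.cast (Nat.mul_succ N m) k), ?_⟩
    rw [eq_top_iff]
    intro y _
    have hy : S.mkQ y ∈ Submodule.span R (Set.range x') := by rw [hspan']; trivial
    have hrange : Set.range x' = S.mkQ '' Set.range x'' := by
      ext w
      constructor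
      · rintro ⟨j, rfl⟩
        exact ⟨x'' j, ⟨j, rfl⟩, hx'' j⟩
      · rintro ⟨_, ⟨j, rfl⟩, rfl⟩
        exact ⟨j, (hx'' j).symm⟩
    rw [hrange, ← Submodule.map_span] at hy
    obtain ⟨z, hz, hzy⟩ := hy
    have hyz : y - z ∈ S := by
      rw [← Submodule.Quotient.mk_eq_zero, Submodule.Quotient.mk_sub, sub_eq_zero]
      exact hzy.symm
    have hsub1 : Set.range x'' ⊆
        Set.range (fun k => Fin.append x'' x (Fin.cast (Nat.mul_succ N m) k)) := by
      rintro _ ⟨j, rfl⟩
      exact ⟨Fin.cast (Nat.mul_succ N m).symm (Fin.castAdd N j), by simp⟩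
    have hsub2 : Set.range x ⊆
        Set.range (fun k => Fin.append x'' x (Fin.cast (Nat.mul_succ N m) k)) := by
      rintro _ ⟨j, rfl⟩
      exact ⟨Fin.cast (Nat.mul_succ N m).symm (Fin.natAdd (N * m) j), by simp⟩
    have : y = z + (y - z) := by abel
    rw [this]
    exact Submodule.add_mem _ (Submodule.span_mono hsub1 hz) (Submodule.span_mono hsub2 hyz)

end Groth.Agent.Helper8.NisGen
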