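import Groth.Agent.Helper8.NisUnif

set_option autoImplicit false
open CategoryTheory AlgebraicGeometry Limits
universe u

namespace Groth.Agent.Helper8.NisUnif

theorem uniform_cover {U Y : Scheme.{u}} [CompactSpace U] [CompactSpace Y] [QuasiSeparatedSpace Y]
    (f : U ⟶ Y) :
    ∃ N : ℕ, ∀ (B : CommRingCat.{u}) (g : Spec B ⟶ Y),
      ∃ V' : Fin N → (pullback f g).Opens, (∀ k, IsAffineOpen (V' k)) ∧ ⨆ k, V' k = ⊤ := by
  classical
  obtain ⟨I, L, hI, hL1, hL2⟩ := exists_finite_affine_data f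
  let J := (i : {i // i ∈ I}) × {l // l ∈ L i.1}
  let N := Fintype.card J
  let eqv : J ≃ Fin N := Fintype.equivFin J
  refine ⟨N, fun B g => ?_⟩
  obtain ⟨e, he1, he2⟩ := exists_basicOpen_refinement (B := B) (I := {i // i ∈ I})
    (fun i => g ⁻¹ᵁ i.1.1) (by
      intro p
      obtain ⟨i, hi, hp⟩ := hI (g p)
      exact ⟨⟨i, hi⟩, hp⟩)
  let D : {i // i ∈ I} → (Spec B).Opens := fun i => PrimeSpectrum.basicOpen (e i)
  have hD : ∀ i, IsAffineOpen (D i) := by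
    intro i
    have := (isAffineOpen_top (Spec B)).basicOpen ((Scheme.ΓSpecIso B).inv (e i))
    rwa [basicOpen_eq_of_affine] at this
  have hDle : ∀ i, D i ≤ g ⁻¹ᵁ i.1.1 := he1
  have φ : ∀ j : J, ∃ (V : (pullback f g).Opens), IsAffineOpen V ∧
      (V : Set ↥(pullback f g)) = (pullback.fst f g) ⁻¹' (j.2.1.1 : Set U) ∩
        (pullback.snd f g) ⁻¹' (D j.1 : Set (Spec B)) := by
    intro j
    have : IsAffine (j.2.1.1 : Scheme) := j.2.1.2
    have : IsAffine (D j.1 : Scheme) := hD j.1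
    have : IsAffine (j.1.1.1 : Scheme) := j.1.1.2
    let φ := pullback.map (f.resLE j.1.1.1 j.2.1.1 (hL1 _ _ j.2.2))
      (g.resLE j.1.1.1 (D j.1) (hDle j.1)) f g j.2.1.1.ι (D j.1).ι j.1.1.1.ι (by simp) (by simp)
    refine ⟨φ.opensRange, isAffineOpen_opensRange φ, ?_⟩
    rw [Scheme.Hom.coe_opensRange, Scheme.Pullback.range_map]
    simp
  choose Vo hVo1 hVo2 using φ
  refine ⟨fun k => Vo (eqv.symm k), fun k => hVo1 _, ?_⟩
  rw [eq_top_iff]
  intro p _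
  simp only [TopologicalSpace.Opens.mem_iSup]
  obtain ⟨i, hi⟩ := he2 (pullback.snd f g p)
  have hfp : f (pullback.fst f g p) ∈ i.1.1 := by
    have h1 : f (pullback.fst f g p) = g (pullback.snd f g p) := by
      rw [← Scheme.Hom.comp_apply, ← Scheme.Hom.comp_apply, pullback.condition]
    rw [h1]
    exact hDle i hi
  obtain ⟨l, hl, hul⟩ := hL2 i.1 _ hfp
  refine ⟨eqv ⟨i, ⟨l, hl⟩⟩, ?_⟩
  change p ∈ (Vo (eqv.symm (eqv ⟨i, ⟨l, hl⟩⟩)) : Set _)
  rw [Equiv.symm_apply_apply, hVo2]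
  exact ⟨hul, hi⟩

end Groth.Agent.Helper8.NisUnif
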