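import Mathlib

/-!
# Helper8: the conormal map for the nodal model over a trivial square-zero extension (part A)

General lemmas:
* `exists_descend`: descending a ring hom along a surjection.
* `inj_of_endo`: if `I ⊆ B'` is a square-zero ideal and `θ` is an `A`-algebra endomorphism of `B'`
  which is the identity modulo `I`, acts on `I` as multiplication by `1 + s` with `s` regular on `I`,
  then `I → (B'/I) ⊗ Ω_{B'/A}` is injective.
* `nzd`: in `R[x,y]/(xy - τ)` the element `x + y` is a nonzerodivisor.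
-/

open TensorProduct KaehlerDifferential

namespace Groth.Agent.Helper8.NodalKer

universe u

theorem exists_descend {P B C : Type*} [CommRing P] [CommRing B] [CommRing C] (f : P →+* B)
    (hf : Function.Surjective f) (g : P →+* C) (h : RingHom.ker f ≤ RingHom.ker g) :
    ∃ φ : B →+* C, ∀ p, φ (f p) = g p :=
  ⟨f.liftOfSurjective hf ⟨g, h⟩, fun p => RingHom.liftOfSurjective_comp_apply f hf ⟨g, h⟩ p⟩

section general

variable {A B' : Type u} [CommRing A] [CommRing B'] [Algebra A B']

theorem inj_of_endo (I : Ideal B') (hI : I ^ 2 = ⊥)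
    (θ : B' →ₐ[A] B') (hθ : ∀ b, θ b - b ∈ I) (s : B') (hs : ∀ i ∈ I, θ i - i = s * i)
    (hreg : ∀ i ∈ I, s * i = 0 → i = 0) :
    Function.Injective (KaehlerDifferential.kerToTensor A B' (B' ⧸ I)) := by
  have e : (Ideal.Quotient.mkₐ A I).comp θ = IsScalarTower.toAlgHom A B' (B' ⧸ I) := by
    ext b
    show Ideal.Quotient.mk I (θ b) = Ideal.Quotient.mk I b
    rw [Ideal.Quotient.eq]
    exact hθ b
  let d : Derivation A B' I := derivationToSquareZeroOfLift I hI θ e
  let l : Ω[B'⁄A] →ₗ[B'] I := d.liftKaehlerDifferential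
  have hl : ∀ b, l (D A B' b) = d b := fun b => d.liftKaehlerDifferential_comp_D b
  let m : B' →ₗ[B'] (Ω[B'⁄A] →ₗ[B'] I) := LinearMap.toSpanSingleton B' _ l
  have hm : I ≤ LinearMap.ker m := by
    intro i hi
    rw [LinearMap.mem_ker]
    refine LinearMap.ext fun ω => Subtype.ext ?_
    show ((i • l ω : I) : B') = 0
    have h1 : i * (l ω : B') ∈ I ^ 2 := by
      rw [pow_two]; exact Ideal.mul_mem_mul hi (l ω).2
    rw [hI] at h1
    exact h1
  let Φ : (B' ⧸ I) ⊗[B'] Ω[B'⁄A] →ₗ[B'] I := TensorProduct.lift (Submodule.liftQ I m hm)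
  rw [injective_iff_map_eq_zero]
  intro i hi
  have h1 : Φ (kerToTensor A B' (B' ⧸ I) i) = d i := by
    rw [kerToTensor_apply]
    show Submodule.liftQ I m hm (Submodule.Quotient.mk 1) (D A B' (i : B')) = d i
    rw [Submodule.liftQ_apply]
    show ((1 : B') • l) (D A B' (i : B')) = d i
    rw [one_smul, hl]
  rw [hi, map_zero] at h1
  have hiI : (i : B') ∈ I := by
    have h : Ideal.Quotient.mk I (i : B') = 0 := RingHom.mem_ker.mp i.2
    exact Ideal.Quotient.eq_zero_iff_mem.mp h
  have h2 : ((d i : I) : B') = θ i - i := rfl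
  have h3 : s * (i : B') = 0 := by
    rw [← hs _ hiI, ← h2, ← h1]; rfl
  exact Subtype.ext (hreg _ hiI h3)

end general

section nzd

variable {R B' : Type u} [CommRing R] [CommRing B'] [Algebra R B'] (x y : B') (τ : R)

theorem mul_eq
    (hker : RingHom.ker
      (MvPolynomial.aeval ![x, y] : MvPolynomial (Fin 2) R →ₐ[R] B') =
      Ideal.span {MvPolynomial.X 0 * MvPolynomial.X 1 - MvPolynomial.C τ}) :
    x * y = algebraMap R B' τ := by
  have h : (MvPolynomial.X 0 * MvPolynomial.X 1 - MvPolynomial.C τ : MvPolynomial (Fin 2) R) ∈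
      RingHom.ker (MvPolynomial.aeval ![x, y] : MvPolynomial (Fin 2) R →ₐ[R] B') := by
    rw [hker]; exact Ideal.subset_span rfl
  rw [RingHom.mem_ker] at h
  simpa [sub_eq_zero] using h

theorem exists_descend_pres {C : Type*} [CommRing C]
    (hsurj : Function.Surjective
      (MvPolynomial.aeval ![x, y] : MvPolynomial (Fin 2) R →ₐ[R] B'))
    (hker : RingHom.ker
      (MvPolynomial.aeval ![x, y] : MvPolynomial (Fin 2) R →ₐ[R] B') =
      Ideal.span {MvPolynomial.X 0 * MvPolynomial.X 1 - MvPolynomial.C τ})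
    (g : MvPolynomial (Fin 2) R →+* C)
    (hg : g (MvPolynomial.X 0 * MvPolynomial.X 1 - MvPolynomial.C τ) = 0) :
    ∃ φ : B' →+* C, ∀ p, φ (MvPolynomial.aeval ![x, y] p) = g p := by
  have hk : RingHom.ker ((MvPolynomial.aeval ![x, y] :
      MvPolynomial (Fin 2) R →ₐ[R] B') : MvPolynomial (Fin 2) R →+* B') ≤ RingHom.ker g := by
    have : RingHom.ker ((MvPolynomial.aeval ![x, y] :
      MvPolynomial (Fin 2) R →ₐ[R] B') : MvPolynomial (Fin 2) R →+* B') =
      Ideal.span {MvPolynomial.X 0 * MvPolynomial.X 1 - MvPolynomial.C τ} := by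
      rw [← hker]; rfl
    rw [this, Ideal.span_le, Set.singleton_subset_iff]
    exact hg
  obtain ⟨φ, hφ⟩ := exists_descend _ hsurj g hk
  exact ⟨φ, fun p => hφ p⟩

open Polynomial in
theorem nzd
    (hsurj : Function.Surjective
      (MvPolynomial.aeval ![x, y] : MvPolynomial (Fin 2) R →ₐ[R] B'))
    (hker : RingHom.ker
      (MvPolynomial.aeval ![x, y] : MvPolynomial (Fin 2) R →ₐ[R] B') =
      Ideal.span {MvPolynomial.X 0 * MvPolynomial.X 1 - MvPolynomial.C τ})
    (b : B') (hb : (x + y) * b = 0) : b = 0 := by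
  classical
  have hxy := mul_eq x y τ hker
  let g : Polynomial (Polynomial R) :=
    Polynomial.X ^ 2 + (-(Polynomial.C (Polynomial.X : Polynomial R) * Polynomial.X) +
    Polynomial.C (Polynomial.C τ))
  have hg : g.Monic := by
    apply Polynomial.monic_X_pow_add
    refine lt_of_le_of_lt (b := 1) ?_ (by norm_num)
    compute_degree
  have key : (AdjoinRoot.root g) ^ 2 + (-(AdjoinRoot.of g Polynomial.X * AdjoinRoot.root g) +
      AdjoinRoot.of g (Polynomial.C τ)) = 0 := by
    have := AdjoinRoot.eval₂_root g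
    simpa [g, Polynomial.eval₂_add, Polynomial.eval₂_mul, Polynomial.eval₂_pow,
      Polynomial.eval₂_neg] using this
  let F₁ : MvPolynomial (Fin 2) R →ₐ[R] AdjoinRoot g :=
    MvPolynomial.aeval ![AdjoinRoot.root g, AdjoinRoot.of g Polynomial.X - AdjoinRoot.root g]
  have hτ : algebraMap R (AdjoinRoot g) τ = AdjoinRoot.of g (Polynomial.C τ) := rfl
  have hF₁ : F₁ (MvPolynomial.X 0 * MvPolynomial.X 1 - MvPolynomial.C τ) = 0 := by
    simp only [F₁, map_sub, map_mul, MvPolynomial.aeval_X, MvPolynomial.aeval_C,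
      Matrix.cons_val_zero, Matrix.cons_val_one, hτ]
    linear_combination (-1 : AdjoinRoot g) * key
  obtain ⟨F, hF⟩ := exists_descend_pres x y τ hsurj hker
    (F₁ : MvPolynomial (Fin 2) R →+* AdjoinRoot g) (by exact hF₁)
  have hGe : g.eval₂ (Polynomial.eval₂RingHom (algebraMap R B') (x + y)) x = 0 := by
    simp only [g, Polynomial.eval₂_add, Polynomial.eval₂_mul, Polynomial.eval₂_pow,
      Polynomial.eval₂_neg, Polynomial.eval₂_X, Polynomial.eval₂_C, Polynomial.coe_eval₂RingHom]
    linear_combination (-1 : B') * hxy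
  let G : AdjoinRoot g →+* B' :=
    AdjoinRoot.lift (Polynomial.eval₂RingHom (algebraMap R B') (x + y)) x hGe
  have hGF₁ : G.comp (F₁ : MvPolynomial (Fin 2) R →+* _) =
      ((MvPolynomial.aeval ![x, y] : MvPolynomial (Fin 2) R →ₐ[R] B') :
        MvPolynomial (Fin 2) R →+* B') := by
    apply MvPolynomial.ringHom_ext
    · intro r
      simp only [RingHom.comp_apply, RingHom.coe_coe, F₁, MvPolynomial.aeval_C]
      show G (AdjoinRoot.of g (Polynomial.C r)) = _
      rw [AdjoinRoot.lift_of]
      simp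
    · intro i
      fin_cases i
      · simp [F₁, G, AdjoinRoot.lift_root]
      · simp [F₁, G, AdjoinRoot.lift_root, AdjoinRoot.lift_of]
  have hGF : ∀ c : B', G (F c) = c := by
    intro c
    obtain ⟨p, rfl⟩ := hsurj c
    rw [hF]
    exact RingHom.congr_fun hGF₁ p
  have hFx : F x = AdjoinRoot.root g := by
    have := hF (MvPolynomial.X 0)
    simpa [F₁] using this
  have hFy : F y = AdjoinRoot.of g Polynomial.X - AdjoinRoot.root g := by
    have := hF (MvPolynomial.X 1)
    simpa [F₁] using this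
  haveI : Module.Free (Polynomial R) (AdjoinRoot g) := Module.Free.of_basis (AdjoinRoot.powerBasis' hg).basis
  have hreg : IsSMulRegular (AdjoinRoot g) (Polynomial.X : Polynomial R) :=
    Module.Flat.isSMulRegular_of_isRegular Polynomial.isRegular_X
  have h1 : (Polynomial.X : Polynomial R) • F b = (Polynomial.X : Polynomial R) • (0 : AdjoinRoot g) := by
    rw [smul_zero, Algebra.smul_def, AdjoinRoot.algebraMap_eq]
    have := congrArg F hb
    rw [map_mul, map_add, hFx, hFy, map_zero] at this
    rw [← this]; ring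
  have h2 : F b = 0 := hreg h1
  rw [← hGF b, h2, map_zero]

end nzd

end Groth.Agent.Helper8.NodalKer
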