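import Mathlib
import Groth.Agent.Helper8.NodalKerA

/-!
# Helper8: the conormal map for the nodal model over a trivial square-zero extension (part B)

`main`: for `B' = A'[x,y]/(xy - τ)` over `A' = A ⊕ εJ` and `I = J B'`, the map
`I → (B'/I) ⊗ Ω_{B'/A}` is injective.  The detecting derivation is `θ - id` where `θ` is the
`A`-algebra endomorphism of `B'` with `θ(a + εj) = a + (1 + x + y) εj`, `θ x = x + ετ₁`,
`θ y = y + ετ₁` (`τ = τ₀ + ετ₁`); it acts on `I` as multiplication by `x + y`, a nonzerodivisor.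
-/

open TensorProduct KaehlerDifferential

namespace Groth.Agent.Helper8.NodalKer

universe u

theorem main
    (A : Type u) [CommRing A] (J : Type u) [AddCommGroup J] [Module A J] [Module Aᵐᵒᵖ J]
    [IsCentralScalar A J] (τ : TrivSqZeroExt A J)
    (B' : Type u) [CommRing B'] [Algebra (TrivSqZeroExt A J) B'] [Algebra A B']
    [IsScalarTower A (TrivSqZeroExt A J) B'] (x y : B')
    (hsurj : Function.Surjective
      (MvPolynomial.aeval ![x, y] : MvPolynomial (Fin 2) (TrivSqZeroExt A J) →ₐ[TrivSqZeroExt A J] B'))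
    (hker : RingHom.ker
      (MvPolynomial.aeval ![x, y] : MvPolynomial (Fin 2) (TrivSqZeroExt A J) →ₐ[TrivSqZeroExt A J] B') =
      Ideal.span {MvPolynomial.X 0 * MvPolynomial.X 1 - MvPolynomial.C τ}) :
    Function.Injective (KaehlerDifferential.kerToTensor A B'
      (B' ⧸ Ideal.map (algebraMap (TrivSqZeroExt A J) B') (TrivSqZeroExt.kerIdeal A J))) := by
  classical
  set α : TrivSqZeroExt A J →+* B' := algebraMap (TrivSqZeroExt A J) B' with hα
  set I : Ideal B' := Ideal.map α (TrivSqZeroExt.kerIdeal A J) with hIdef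
  have hxy : x * y = α τ := mul_eq x y τ hker
  have hI : I ^ 2 = ⊥ := by
    rw [hIdef, ← Ideal.map_pow, TrivSqZeroExt.kerIdeal_sq, Ideal.map_bot]
  have hII : ∀ a ∈ I, ∀ b ∈ I, a * b = 0 := by
    intro a ha b hb
    have : a * b ∈ I ^ 2 := by rw [pow_two]; exact Ideal.mul_mem_mul ha hb
    rw [hI] at this; exact this
  have hinrI : ∀ j : J, α (TrivSqZeroExt.inr j) ∈ I := by
    intro j
    apply Ideal.mem_map_of_mem
    rw [TrivSqZeroExt.mem_kerIdeal_iff_inr, TrivSqZeroExt.snd_inr]
  have hinr0 : ∀ j j' : J, α (TrivSqZeroExt.inr j) * α (TrivSqZeroExt.inr j') = 0 := by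
    intro j j'
    rw [← map_mul, TrivSqZeroExt.inr_mul_inr, map_zero]
  have hαdecomp : ∀ a' : TrivSqZeroExt A J,
      α a' = algebraMap A B' a'.fst + α (TrivSqZeroExt.inr a'.snd) := by
    intro a'
    conv_lhs => rw [← TrivSqZeroExt.inl_fst_add_inr_snd_eq a']
    rw [map_add, IsScalarTower.algebraMap_apply A (TrivSqZeroExt A J) B']
    rfl
  -- the linear map `j ↦ (1 + x + y) * α (inr j)`
  let g : J →ₗ[A] B' := (LinearMap.mulLeft A (1 + x + y)).comp
    ((IsScalarTower.toAlgHom A (TrivSqZeroExt A J) B').toLinearMap.comp (TrivSqZeroExt.inrHom A J))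
  have hgdef : ∀ j, g j = (1 + x + y) * α (TrivSqZeroExt.inr j) := fun j => rfl
  have hg : ∀ j j' : J, g j * g j' = 0 := by
    intro j j'
    rw [hgdef, hgdef]
    linear_combination (1 + x + y) ^ 2 * hinr0 j j'
  let θ₀ : TrivSqZeroExt A J →ₐ[A] B' := TrivSqZeroExt.liftEquivOfComm ⟨g, hg⟩
  have hθ₀ : ∀ a' : TrivSqZeroExt A J,
      θ₀ a' = algebraMap A B' a'.fst + (1 + x + y) * α (TrivSqZeroExt.inr a'.snd) := by
    intro a'
    show TrivSqZeroExt.liftEquivOfComm ⟨g, hg⟩ a' = _
    rw [TrivSqZeroExt.liftEquivOfComm_apply, TrivSqZeroExt.lift_def, hgdef]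
    rfl
  set e : B' := α (TrivSqZeroExt.inr τ.snd) with he
  have heI : e ∈ I := hinrI _
  have hee : e * e = 0 := hinr0 _ _
  let θ₁ : MvPolynomial (Fin 2) (TrivSqZeroExt A J) →+* B' :=
    MvPolynomial.eval₂Hom (θ₀ : TrivSqZeroExt A J →+* B') ![x + e, y + e]
  have hθ₁ : θ₁ (MvPolynomial.X 0 * MvPolynomial.X 1 - MvPolynomial.C τ) = 0 := by
    simp only [θ₁, map_sub, map_mul, MvPolynomial.eval₂Hom_X', MvPolynomial.eval₂Hom_C,
      Matrix.cons_val_zero, Matrix.cons_val_one, RingHom.coe_coe]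
    rw [hθ₀ τ]
    have h1 := hαdecomp τ
    rw [← hxy] at h1
    linear_combination hee + h1
  obtain ⟨θr, hθr⟩ := exists_descend_pres x y τ hsurj hker θ₁ hθ₁
  have hθα : ∀ a' : TrivSqZeroExt A J, θr (α a') = θ₀ a' := by
    intro a'
    have := hθr (MvPolynomial.C a')
    simpa [θ₁] using this
  have hθx : θr x = x + e := by
    have := hθr (MvPolynomial.X 0)
    simpa [θ₁] using this
  have hθy : θr y = y + e := by
    have := hθr (MvPolynomial.X 1)
    simpa [θ₁] using this
  have hcomm : ∀ a : A, θr (algebraMap A B' a) = algebraMap A B' a := by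
    intro a
    rw [IsScalarTower.algebraMap_apply A (TrivSqZeroExt A J) B', ← hα, hθα, hθ₀]
    rw [TrivSqZeroExt.algebraMap_eq_inl, TrivSqZeroExt.fst_inl, TrivSqZeroExt.snd_inl,
      TrivSqZeroExt.inr_zero, map_zero, mul_zero, add_zero]
    rw [hαdecomp, TrivSqZeroExt.fst_inl, TrivSqZeroExt.snd_inl,
      TrivSqZeroExt.inr_zero, map_zero, add_zero]
  let θ : B' →ₐ[A] B' := { θr with commutes' := hcomm }
  have hθcoe : ∀ b, θ b = θr b := fun b => rfl
  -- P1
  have P1 : ∀ b, θr b - b ∈ I := by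
    intro b
    obtain ⟨p, rfl⟩ := hsurj b
    induction p using MvPolynomial.induction_on with
    | C a' =>
      rw [MvPolynomial.aeval_C, ← hα, hθα, hθ₀, hαdecomp a']
      have : algebraMap A B' a'.fst + (1 + x + y) * α (TrivSqZeroExt.inr a'.snd) -
          (algebraMap A B' a'.fst + α (TrivSqZeroExt.inr a'.snd)) =
          (x + y) * α (TrivSqZeroExt.inr a'.snd) := by ring
      rw [this]
      exact Ideal.mul_mem_left _ _ (hinrI _)
    | add p q hp hq =>
      rw [map_add, map_add]
      have : θr ((MvPolynomial.aeval ![x, y]) p) + θr ((MvPolynomial.aeval ![x, y]) q) -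
          ((MvPolynomial.aeval ![x, y]) p + (MvPolynomial.aeval ![x, y]) q) =
          (θr ((MvPolynomial.aeval ![x, y]) p) - (MvPolynomial.aeval ![x, y]) p) +
          (θr ((MvPolynomial.aeval ![x, y]) q) - (MvPolynomial.aeval ![x, y]) q) := by ring
      rw [this]
      exact I.add_mem hp hq
    | mul_X p i hp =>
      rw [map_mul, map_mul, MvPolynomial.aeval_X]
      have hxi : θr (![x, y] i) - ![x, y] i ∈ I := by
        fin_cases i
        · show θr x - x ∈ I
          rw [hθx, add_sub_cancel_left]; exact heI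
        · show θr y - y ∈ I
          rw [hθy, add_sub_cancel_left]; exact heI
      have : θr ((MvPolynomial.aeval ![x, y]) p) * θr (![x, y] i) -
          (MvPolynomial.aeval ![x, y]) p * ![x, y] i =
          θr ((MvPolynomial.aeval ![x, y]) p) * (θr (![x, y] i) - ![x, y] i) +
          (θr ((MvPolynomial.aeval ![x, y]) p) - (MvPolynomial.aeval ![x, y]) p) * ![x, y] i := by
        ring
      rw [this]
      exact I.add_mem (Ideal.mul_mem_left _ _ hxi) (Ideal.mul_mem_right _ _ hp)
  -- P2
  have P2 : ∀ i ∈ I, θr i - i = (x + y) * i := by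
    intro i hi
    rw [hIdef, Ideal.map] at hi
    induction hi using Submodule.span_induction with
    | mem z hz =>
      obtain ⟨k, hk, rfl⟩ := hz
      have hk' := (TrivSqZeroExt.mem_kerIdeal_iff_inr A J k).mp hk
      rw [hθα, hθ₀, hαdecomp k]
      have hf : k.fst = 0 := by rw [hk', TrivSqZeroExt.fst_inr]
      rw [hf, map_zero]
      ring
    | zero => simp
    | add a b _ _ ha hb =>
      rw [map_add]
      linear_combination ha + hb
    | smul b i hi ih =>
      have hiI : i ∈ I := by rw [hIdef, Ideal.map]; exact hi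
      rw [smul_eq_mul, map_mul]
      have h0 : (θr b - b) * i = 0 := hII _ (P1 b) _ hiI
      linear_combination (θr b) * ih + (1 + x + y) * h0
  exact inj_of_endo I hI θ P1 (x + y) P2 (fun i _ h => nzd x y τ hsurj hker i h)

end Groth.Agent.Helper8.NodalKer
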