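import Mathlib

/-!
# The Jacobian ideal of a degenerate quadratic singularity in characteristic 2 (for S8720)
-/

open MvPowerSeries Finsupp

namespace Groth.Agent.Helper8.VanCycQ

section general

variable {σ : Type*} {k : Type*} [CommRing k]

/-- monomial-ideal membership -/
theorem mem_span_monomials [DecidableEq σ] (D : Finset (σ →₀ ℕ)) :
    ∀ p : MvPowerSeries σ k, (∀ e, coeff e p ≠ 0 → ∃ d ∈ D, d ≤ e) →
      p ∈ Ideal.span ((fun d => monomial d (1 : k)) '' (D : Set (σ →₀ ℕ))) := by
  induction D using Finset.induction_on with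
  | empty =>
    intro p h
    have : p = 0 := by
      ext e
      by_contra hne
      obtain ⟨d, hd, -⟩ := h e (by simpa using hne)
      simp at hd
    rw [this]; exact Submodule.zero_mem _
  | insert d D hd ih =>
    intro p h
    set q : MvPowerSeries σ k := fun e => coeff (e + d) p with hq
    have hq' : ∀ e, coeff e q = coeff (e + d) p := fun e => rfl
    have hmq : ∀ e, coeff e (monomial d (1:k) * q) = if d ≤ e then coeff e p else 0 := by
      intro e
      rw [coeff_monomial_mul]
      split_ifs with hde
      · rw [one_mul, hq', tsub_add_cancel_of_le hde]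
      · rfl
    have h1 : p - monomial d 1 * q ∈
        Ideal.span ((fun d => monomial d (1 : k)) '' (D : Set (σ →₀ ℕ))) := by
      apply ih
      intro e he
      rw [map_sub, hmq] at he
      by_cases hde : d ≤ e
      · rw [if_pos hde, sub_self] at he; exact absurd rfl he
      · rw [if_neg hde, sub_zero] at he
        obtain ⟨d', hd', hle⟩ := h e he
        rcases Finset.mem_insert.mp hd' with rfl | hd'
        · exact absurd hle hde
        · exact ⟨d', hd', hle⟩
    have h2 : monomial d 1 * q ∈ Ideal.span ((fun d => monomial d (1 : k)) ''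
        ((insert d D : Finset (σ →₀ ℕ)) : Set (σ →₀ ℕ))) := by
      apply Ideal.mul_mem_right
      apply Ideal.subset_span
      exact ⟨d, by simp, rfl⟩
    have h3 : p - monomial d 1 * q ∈ Ideal.span ((fun d => monomial d (1 : k)) ''
        ((insert d D : Finset (σ →₀ ℕ)) : Set (σ →₀ ℕ))) := by
      refine Ideal.span_mono ?_ h1
      apply Set.image_mono
      simp
    have : p = (p - monomial d 1 * q) + monomial d 1 * q := by ring
    rw [this]
    exact Ideal.add_mem _ h3 h2

/-- power series whose coefficients at all `j ≤ e₀` vanish -/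
def lowIdeal (e₀ : σ →₀ ℕ) : Ideal (MvPowerSeries σ k) where
  carrier := {x | ∀ j, j ≤ e₀ → coeff j x = 0}
  add_mem' := by
    intro a b ha hb j hj
    rw [map_add, ha j hj, hb j hj, add_zero]
  zero_mem' := by intro j _; exact map_zero _
  smul_mem' := by
    classical
    intro c x hx j hj
    rw [smul_eq_mul, coeff_mul]
    apply Finset.sum_eq_zero
    intro p hp
    have : p.2 ≤ e₀ := by
      rw [Finset.HasAntidiagonal.mem_antidiagonal] at hp
      exact le_trans (by rw [← hp]; exact le_add_self) hj
    rw [hx _ this, mul_zero]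

theorem mem_lowIdeal (e₀ : σ →₀ ℕ) (x : MvPowerSeries σ k) :
    x ∈ lowIdeal (k := k) e₀ ↔ ∀ j, j ≤ e₀ → coeff j x = 0 := Iff.rfl

theorem ker_le_jac : RingHom.ker (constantCoeff (σ := σ) (R := k)) ≤ Ideal.jacobson ⊥ := by
  intro x hx
  rw [Ideal.mem_jacobson_bot]
  intro y
  rw [isUnit_iff_constantCoeff, map_add, map_mul, (RingHom.mem_ker).mp hx, zero_mul, zero_add,
    map_one]
  exact isUnit_one

end general

section specific

variable (k : Type*) [Field k] (m : ℕ)

local notation "Sg" => Option (Fin m ⊕ Fin m)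

/-- the ideal `(x₀², xᵢ, xᵢ')` -/
noncomputable def aa : Ideal (MvPowerSeries Sg k) :=
  Ideal.span ({X none ^ 2} ∪
    Set.range fun j : Fin m ⊕ Fin m => (X (some j) : MvPowerSeries Sg k))

variable {m}

theorem eq_single_none (e : Sg →₀ ℕ) (h : ∀ j, e (some j) = 0) : e = single none (e none) := by
  ext s
  cases s with
  | none => simp
  | some j => simp [h j]

variable {k}

theorem mem_aa_of_coeff (p : MvPowerSeries Sg k) (h0 : coeff 0 p = 0)
    (h1 : coeff (single none 1) p = 0) : p ∈ aa k m := by
  classical
  have := mem_span_monomials (insert (single none 2)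
    (Finset.univ.image (fun j : Fin m ⊕ Fin m => (single (some j) 1 : Sg →₀ ℕ)))) p ?_
  · refine Ideal.span_mono ?_ this
    rintro _ ⟨d, hd, rfl⟩
    rcases Finset.mem_insert.mp (Finset.mem_coe.mp hd) with rfl | hd
    · left; rw [Set.mem_singleton_iff, X_pow_eq]
    · right
      obtain ⟨j, -, rfl⟩ := Finset.mem_image.mp hd
      exact ⟨j, (X_def _)⟩
  · intro e he
    by_cases hj : ∃ j : Fin m ⊕ Fin m, e (some j) ≠ 0
    · obtain ⟨j, hj⟩ := hj
      refine ⟨single (some j) 1, ?_, ?_⟩
      · apply Finset.mem_insert_of_mem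
        exact Finset.mem_image.mpr ⟨j, Finset.mem_univ _, rfl⟩
      · rw [single_le_iff]; omega
    · push Not at hj
      obtain ⟨n, rfl⟩ : ∃ n, e = single none n := ⟨e none, eq_single_none e hj⟩
      refine ⟨single none 2, Finset.mem_insert_self _ _, ?_⟩
      rw [single_le_iff, single_eq_same]
      by_contra hlt
      have : n = 0 ∨ n = 1 := by omega
      rcases this with h | h
      · rw [h, single_zero] at he; exact he h0
      · rw [h] at he; exact he h1

theorem aa_le_low : aa k m ≤ lowIdeal (single none 1) := by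
  classical
  rw [aa, Ideal.span_le]
  rintro x (hx | ⟨j, rfl⟩)
  · rw [Set.mem_singleton_iff] at hx; subst hx
    intro i hi
    rw [coeff_X_pow, if_neg]
    rintro rfl
    have := hi none
    simp at this
  · intro i hi
    rw [coeff_X, if_neg]
    rintro rfl
    have := hi (some j)
    simp at this

theorem mem_aa_iff (p : MvPowerSeries Sg k) :
    p ∈ aa k m ↔ coeff 0 p = 0 ∧ coeff (single none 1) p = 0 := by
  constructor
  · intro hp
    have := aa_le_low hp
    exact ⟨this 0 zero_le, this _ le_rfl⟩
  · rintro ⟨h0, h1⟩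
    exact mem_aa_of_coeff p h0 h1

variable (k m)

/-- the two lowest coefficients -/
noncomputable def L : MvPowerSeries Sg k →ₗ[k] k × k :=
  (coeff (0 : Sg →₀ ℕ)).prod (coeff (single none 1))

theorem L_surj : Function.Surjective (L k m) := by
  classical
  rintro ⟨a, b⟩
  refine ⟨monomial 0 a + monomial (single none 1) b, ?_⟩
  have hne : (single none 1 : Sg →₀ ℕ) ≠ 0 := Finsupp.single_ne_zero.mpr one_ne_zero
  show (coeff 0 (monomial 0 a + monomial (single none 1) b),
    coeff (single none 1) (monomial 0 a + monomial (single none 1) b)) = (a, b)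
  rw [map_add, map_add, coeff_monomial, coeff_monomial, coeff_monomial, coeff_monomial,
    if_pos rfl, if_neg hne.symm, if_neg hne, if_pos rfl, add_zero, zero_add]

theorem ker_L : LinearMap.ker (L k m) = (aa k m).restrictScalars k := by
  ext p
  rw [LinearMap.mem_ker, Submodule.restrictScalars_mem, mem_aa_iff]
  simp [L, Prod.ext_iff]

theorem finrank_quot : Module.finrank k (MvPowerSeries Sg k ⧸ aa k m) = 2 := by
  have e1 : (MvPowerSeries Sg k ⧸ (aa k m).restrictScalars k) ≃ₗ[k]
      (MvPowerSeries Sg k ⧸ aa k m) := Submodule.Quotient.restrictScalarsEquiv k (aa k m)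
  have e2 : (MvPowerSeries Sg k ⧸ LinearMap.ker (L k m)) ≃ₗ[k] k × k :=
    (L k m).quotKerEquivOfSurjective (L_surj k m)
  have e3 : (MvPowerSeries Sg k ⧸ LinearMap.ker (L k m)) ≃ₗ[k]
      (MvPowerSeries Sg k ⧸ (aa k m).restrictScalars k) :=
    Submodule.quotEquivOfEq _ _ (ker_L k m)
  rw [← e1.finrank_eq, ← e3.finrank_eq, e2.finrank_eq, Module.finrank_prod, Module.finrank_self]

variable {k m}

theorem X_mem_ker (s : Sg) : (X s : MvPowerSeries Sg k) ∈ RingHom.ker (constantCoeff (σ := Sg) (R := k)) := by
  rw [RingHom.mem_ker, constantCoeff_X]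

theorem mem_smul_of_coeff (p : MvPowerSeries Sg k)
    (h1 : ∀ d : Sg →₀ ℕ, d.degree ≤ 1 → coeff d p = 0)
    (h2 : coeff (single none 2) p = 0) :
    p ∈ RingHom.ker (constantCoeff (σ := Sg) (R := k)) • aa k m := by
  classical
  have := mem_span_monomials (insert (single none 3)
    ((Finset.univ ×ˢ Finset.univ).image
      (fun jt : (Fin m ⊕ Fin m) × Sg => (single (some jt.1) 1 + single jt.2 1 : Sg →₀ ℕ)))) p ?_
  · refine (Ideal.span_le.mpr ?_) this
    rintro _ ⟨d, hd, rfl⟩
    rcases Finset.mem_insert.mp (Finset.mem_coe.mp hd) with rfl | hd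
    · have h3 : monomial (single none 3) (1:k) = (X none : MvPowerSeries Sg k) * X none ^ 2 := by
        rw [X_pow_eq, X_def, monomial_mul_monomial, ← single_add, one_mul]
      beta_reduce
      rw [SetLike.mem_coe, h3]
      exact Submodule.smul_mem_smul (X_mem_ker none) (Ideal.subset_span (Or.inl rfl))
    · obtain ⟨⟨j, t⟩, -, rfl⟩ := Finset.mem_image.mp hd
      have h3 : monomial (single (some j) 1 + single t 1) (1:k) =
          (X t : MvPowerSeries Sg k) * X (some j) := by
        rw [X_def, X_def, monomial_mul_monomial, one_mul, add_comm]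
      beta_reduce
      rw [SetLike.mem_coe, h3]
      exact Submodule.smul_mem_smul (X_mem_ker t) (Ideal.subset_span (Or.inr ⟨j, rfl⟩))
  · intro e he
    have hdeg : 2 ≤ e.degree := by
      by_contra hlt
      exact he (h1 e (by omega))
    by_cases hj : ∃ j : Fin m ⊕ Fin m, e (some j) ≠ 0
    · obtain ⟨j, hj⟩ := hj
      have hle : single (some j) 1 ≤ e := by rw [single_le_iff]; omega
      obtain ⟨e', hee⟩ : ∃ e', e = e' + single (some j) 1 :=
        ⟨e - single (some j) 1, (tsub_add_cancel_of_le hle).symm⟩
      have hne : e' ≠ 0 := by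
        intro h0
        rw [h0, zero_add] at hee
        rw [hee, degree_single] at hdeg
        omega
      obtain ⟨t, ht⟩ : ∃ t, e' t ≠ 0 := by
        by_contra hall
        push Not at hall
        exact hne (Finsupp.ext hall)
      refine ⟨single (some j) 1 + single t 1, ?_, ?_⟩
      · apply Finset.mem_insert_of_mem
        exact Finset.mem_image.mpr ⟨(j, t), by simp, rfl⟩
      · rw [hee, add_comm e']
        apply add_le_add_right
        rw [single_le_iff]; omega
    · push Not at hj
      obtain ⟨n, rfl⟩ : ∃ n, e = single none n := ⟨e none, eq_single_none e hj⟩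
      refine ⟨single none 3, Finset.mem_insert_self _ _, ?_⟩
      rw [single_le_iff, single_eq_same]
      rw [degree_single] at hdeg
      by_contra hlt
      have : n = 2 := by omega
      rw [this] at he
      exact he h2

end specific

section main

variable {k : Type*} [Field k] [CharP k 2] {m : ℕ}

local notation "Sg" => Option (Fin m ⊕ Fin m)

/-- the model quadratic form -/
noncomputable def g (k : Type*) [Field k] (m : ℕ) : MvPowerSeries (Option (Fin m ⊕ Fin m)) k :=
  X none ^ 2 + ∑ i : Fin m, X (some (Sum.inl i)) * X (some (Sum.inr i))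

theorem two_eq_zero' : ((2 : ℕ) : MvPowerSeries Sg k) = 0 := by
  rw [← map_natCast (C (σ := Sg) (R := k)) 2, CharP.cast_eq_zero k 2, map_zero]

theorem pderiv_g_none : pderiv k (none : Sg) (g k m) = 0 := by
  classical
  rw [g, map_add, pderiv_pow, two_eq_zero', zero_mul, zero_mul, zero_add, map_sum]
  apply Finset.sum_eq_zero
  intro i _
  rw [Derivation.leibniz, pderiv_X_of_ne (by simp), pderiv_X_of_ne (by simp), smul_zero,
    smul_zero, add_zero]

theorem pderiv_g_some (j : Fin m ⊕ Fin m) :
    pderiv k (some j : Sg) (g k m) = X (some (Sum.swap j)) := by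
  classical
  rw [g, map_add, pderiv_pow, two_eq_zero', zero_mul, zero_mul, zero_add, map_sum]
  simp only [Derivation.leibniz, pderiv_X, Pi.single_apply, smul_eq_mul]
  rcases j with i₀ | i₀
  · simp [Finset.sum_ite_eq, eq_comm]
  · simp [Finset.sum_ite_eq, eq_comm]

omit [CharP k 2] in
theorem g_mem_aa : g k m ∈ aa k m := by
  rw [g]
  refine Ideal.add_mem _ (Ideal.subset_span (Or.inl rfl)) ?_
  refine Ideal.sum_mem _ fun i _ => ?_
  exact Ideal.mul_mem_left _ _ (Ideal.subset_span (Or.inr ⟨Sum.inr i, rfl⟩))

theorem main (f : MvPowerSeries Sg k)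
    (hf : ∀ d : Sg →₀ ℕ, d.degree < 3 → coeff d f = coeff d (g k m)) :
    Ideal.span ({f} ∪ Set.range fun i : Sg => pderiv k i f) = aa k m := by
  classical
  set h : MvPowerSeries Sg k := f - g k m with hh
  have hfgh : f = g k m + h := by rw [hh]; ring
  have hcoeff : ∀ d : Sg →₀ ℕ, d.degree < 3 → coeff d h = 0 := by
    intro d hd
    rw [hh, map_sub, hf d hd, sub_self]
  have hpc : ∀ (s : Sg) (d : Sg →₀ ℕ), d.degree < 2 → coeff d (pderiv k s h) = 0 := by
    intro s d hd
    rw [coeff_pderiv, hcoeff, zero_mul]
    rw [map_add, degree_single]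
    omega
  have hpf : ∀ s : Sg, pderiv k s f = pderiv k s (g k m) + pderiv k s h := by
    intro s; rw [hfgh, map_add]
  have hd0 : (0 : Sg →₀ ℕ).degree = 0 := map_zero _
  have hd1 : (single none 1 : Sg →₀ ℕ).degree = 1 := degree_single _ _
  have hd2 : (single none 2 : Sg →₀ ℕ).degree = 2 := degree_single _ _
  apply le_antisymm
  · -- J ≤ aa
    rw [Ideal.span_le]
    rintro x (hx | ⟨s, rfl⟩)
    · rw [Set.mem_singleton_iff] at hx; subst hx
      rw [SetLike.mem_coe, hfgh]
      refine Ideal.add_mem _ g_mem_aa (mem_aa_of_coeff _ (hcoeff _ (by omega)) (hcoeff _ (by omega)))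
    · rw [SetLike.mem_coe]
      show pderiv k s f ∈ aa k m
      rw [hpf]
      refine Ideal.add_mem _ ?_ (mem_aa_of_coeff _ (hpc _ _ (by omega)) (hpc _ _ (by omega)))
      rcases s with _ | j
      · rw [pderiv_g_none]; exact Ideal.zero_mem _
      · rw [pderiv_g_some]; exact Ideal.subset_span (Or.inr ⟨_, rfl⟩)
  · -- aa ≤ J by Nakayama
    set J := Ideal.span ({f} ∪ Set.range fun i : Sg => pderiv k i f) with hJ
    have hfJ : f ∈ J := Ideal.subset_span (Or.inl rfl)
    have hpJ : ∀ s : Sg, pderiv k s f ∈ J := fun s => Ideal.subset_span (Or.inr ⟨s, rfl⟩)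
    have hfg : (aa k m).FG :=
      Submodule.fg_span (Set.Finite.union (Set.finite_singleton _) (Set.finite_range _))
    refine Submodule.le_of_le_smul_of_le_jacobson_bot hfg
      (ker_le_jac (σ := Sg) (k := k)) ?_
    have hX0 : (X none : MvPowerSeries Sg k) ^ 2 ∈
        J ⊔ RingHom.ker (constantCoeff (σ := Sg) (R := k)) • aa k m := by
      have hsum : (∑ i : Fin m, (X (some (Sum.inl i)) : MvPowerSeries Sg k) * X (some (Sum.inr i))) ∈
          RingHom.ker (constantCoeff (σ := Sg) (R := k)) • aa k m := by
        refine Submodule.sum_mem _ fun i _ => ?_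
        exact Submodule.smul_mem_smul (X_mem_ker _) (Ideal.subset_span (Or.inr ⟨Sum.inr i, rfl⟩))
      have hhm : h ∈ RingHom.ker (constantCoeff (σ := Sg) (R := k)) • aa k m :=
        mem_smul_of_coeff h (fun d hd => hcoeff d (by omega)) (hcoeff _ (by omega))
      have : (X none : MvPowerSeries Sg k) ^ 2 = f -
          (∑ i : Fin m, (X (some (Sum.inl i)) : MvPowerSeries Sg k) * X (some (Sum.inr i))) - h := by
        rw [hfgh, g]; ring
      rw [this]
      exact Submodule.sub_mem _ (Submodule.sub_mem _ (Submodule.mem_sup_left hfJ)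
        (Submodule.mem_sup_right hsum)) (Submodule.mem_sup_right hhm)
    rw [aa, Ideal.span_le]
    rintro x (hx | ⟨j, rfl⟩)
    · rw [Set.mem_singleton_iff] at hx; subst hx
      exact hX0
    · rw [SetLike.mem_coe]
      show (X (some j) : MvPowerSeries Sg k) ∈ _
      set u := pderiv k (some (Sum.swap j) : Sg) h with hu
      set c := coeff (single none 2) u with hc
      have hXj : (X (some j) : MvPowerSeries Sg k) =
          pderiv k (some (Sum.swap j) : Sg) f - (u - C c * X none ^ 2) - C c * X none ^ 2 := by
        rw [hpf, pderiv_g_some, Sum.swap_swap, hu]; ring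
      have hum : u - C c * X none ^ 2 ∈
          RingHom.ker (constantCoeff (σ := Sg) (R := k)) • aa k m := by
        apply mem_smul_of_coeff
        · intro d hd
          rw [map_sub, hu, hpc _ d (by omega), coeff_C_mul, coeff_X_pow, if_neg, mul_zero,
            sub_zero]
          rintro rfl
          rw [hd2] at hd
          omega
        · rw [map_sub, coeff_C_mul, coeff_X_pow, if_pos rfl, mul_one, hc, sub_self]
      rw [hXj]
      refine Submodule.sub_mem _ (Submodule.sub_mem _ (Submodule.mem_sup_left (hpJ _))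
        (Submodule.mem_sup_right hum)) ?_
      exact Ideal.mul_mem_left _ _ hX0

end main

end Groth.Agent.Helper8.VanCycQ
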