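import Mathlib
import Groth.Agent.Helper8.VanCycQ

set_option autoImplicit false

open MvPowerSeries Finsupp

namespace Groth.Agent.Helper8.NodeIdeals

section general

variable {σ : Type*} {k : Type*} [Field k]

/-- power series supported in a finite set of exponents -/
def VD (D : Finset (σ →₀ ℕ)) : Submodule k (MvPowerSeries σ k) where
  carrier := {f | ∀ e, e ∉ D → coeff e f = 0}
  add_mem' := by
    intro f g hf hg e he
    rw [map_add, hf e he, hg e he, add_zero]
  zero_mem' := by
    intro e _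
    simp
  smul_mem' := by
    intro c f hf e he
    rw [LinearMap.map_smul, hf e he, smul_zero]

theorem mem_VD (D : Finset (σ →₀ ℕ)) (f : MvPowerSeries σ k) :
    f ∈ VD (k := k) D ↔ ∀ e, e ∉ D → coeff e f = 0 := Iff.rfl

noncomputable def VDequiv [DecidableEq σ] (D : Finset (σ →₀ ℕ)) : VD (k := k) D ≃ₗ[k] (D → k) where
  toFun f := fun e => coeff e.1 f.1
  map_add' f g := by
    ext e
    simp
  map_smul' c f := by
    ext e
    simp
  invFun c := ⟨fun e => if h : e ∈ D then c ⟨e, h⟩ else 0, by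
    intro e he
    change (if h : e ∈ D then c ⟨e, h⟩ else 0) = 0
    rw [dif_neg he]⟩
  left_inv f := by
    apply Subtype.ext
    ext e
    change (if h : e ∈ D then coeff e f.1 else 0) = coeff e f.1
    by_cases h : e ∈ D
    · rw [dif_pos h]
    · rw [dif_neg h, f.2 e h]
  right_inv c := by
    ext e
    change (if h : e.1 ∈ D then c ⟨e.1, h⟩ else 0) = c e
    rw [dif_pos e.2]

theorem finrank_VD [DecidableEq σ] (D : Finset (σ →₀ ℕ)) :
    Module.finrank k (VD (k := k) D) = D.card := by
  rw [(VDequiv D).finrank_eq, Module.finrank_fintype_fun_eq_card, Fintype.card_coe]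

/-- truncation to `D` -/
noncomputable def truncD [DecidableEq σ] (D : Finset (σ →₀ ℕ)) (f : MvPowerSeries σ k) :
    MvPowerSeries σ k := fun e => if e ∈ D then coeff e f else 0

theorem coeff_truncD [DecidableEq σ] (D : Finset (σ →₀ ℕ)) (f : MvPowerSeries σ k) (e : σ →₀ ℕ) :
    coeff e (truncD D f) = if e ∈ D then coeff e f else 0 := rfl

theorem truncD_mem [DecidableEq σ] (D : Finset (σ →₀ ℕ)) (f : MvPowerSeries σ k) :
    truncD D f ∈ VD (k := k) D := by
  intro e he
  rw [coeff_truncD, if_neg he]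

theorem sub_truncD_mem [DecidableEq σ] (D G : Finset (σ →₀ ℕ)) (f : MvPowerSeries σ k)
    (hG : ∀ e, e ∉ D → ∃ d ∈ G, d ≤ e) :
    f - truncD D f ∈ Ideal.span ((fun d => monomial d (1 : k)) '' (G : Set (σ →₀ ℕ))) := by
  apply VanCycQ.mem_span_monomials
  intro e he
  by_cases h : e ∈ D
  · rw [map_sub, coeff_truncD, if_pos h, sub_self] at he
    exact absurd rfl he
  · exact hG e h

theorem truncD_eq_self [DecidableEq σ] (D : Finset (σ →₀ ℕ)) (f : MvPowerSeries σ k)
    (hf : f ∈ VD (k := k) D) : truncD D f = f := by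
  ext e
  rw [coeff_truncD]
  by_cases h : e ∈ D
  · rw [if_pos h]
  · rw [if_neg h, hf e h]

/-- in a finite-dimensional quotient of a power series ring, a power of each variable vanishes -/
theorem exists_pow_mem (J : Ideal (MvPowerSeries σ k))
    [Module.Finite k (MvPowerSeries σ k ⧸ J)] (s : σ) :
    ∃ i : ℕ, (X s : MvPowerSeries σ k) ^ i ∈ J := by
  haveI : IsArtinianRing (MvPowerSeries σ k ⧸ J) := IsArtinianRing.of_finite k _
  obtain ⟨N, hN⟩ := IsArtinianRing.isNilpotent_jacobson_bot (R := MvPowerSeries σ k ⧸ J)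
  refine ⟨N, ?_⟩
  have hX : (X s : MvPowerSeries σ k) ∈ Ideal.jacobson J := by
    apply Ideal.jacobson_mono (bot_le : (⊥ : Ideal (MvPowerSeries σ k)) ≤ J)
    apply VanCycQ.ker_le_jac
    rw [RingHom.mem_ker]
    exact constantCoeff_X s
  have h1 : Ideal.Quotient.mk J (X s) ∈ Ideal.jacobson (⊥ : Ideal (MvPowerSeries σ k ⧸ J)) := by
    have := Ideal.map_jacobson_of_surjective (Ideal.Quotient.mk_surjective (I := J))
      (I := J) (le_of_eq Ideal.mk_ker)
    rw [Ideal.map_quotient_self] at this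
    rw [← this]
    exact Ideal.mem_map_of_mem _ hX
  have h2 : (Ideal.Quotient.mk J (X s)) ^ N ∈
      (Ideal.jacobson (⊥ : Ideal (MvPowerSeries σ k ⧸ J))) ^ N := Ideal.pow_mem_pow h1 N
  rw [hN] at h2
  rw [← Ideal.Quotient.eq_zero_iff_mem, map_pow]
  exact h2

end general

end Groth.Agent.Helper8.NodeIdeals
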