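import Mathlib
import Groth.Agent.Helper8.NodeIdealsA

set_option autoImplicit false

open MvPowerSeries Finsupp

namespace Groth.Agent.Helper8.NodeIdeals

variable {k : Type*} [Field k]

section two

variable {s t : Fin 2} (hst : s ≠ t)
include hst

theorem eq_or_eq (r : Fin 2) : r = s ∨ r = t := by
  fin_cases r <;> fin_cases s <;> fin_cases t <;> simp_all

theorem ext_two {e e' : Fin 2 →₀ ℕ} (h1 : e s = e' s) (h2 : e t = e' t) : e = e' := by
  ext r
  rcases eq_or_eq hst r with rfl | rfl
  · exact h1
  · exact h2

theorem le_two {d e : Fin 2 →₀ ℕ} : d ≤ e ↔ d s ≤ e s ∧ d t ≤ e t := by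
  constructor
  · intro h
    exact ⟨h s, h t⟩
  · rintro ⟨h1, h2⟩ r
    rcases eq_or_eq hst r with rfl | rfl
    · exact h1
    · exact h2

theorem single_t_s (n : ℕ) : (single t n : Fin 2 →₀ ℕ) s = 0 := by
  rw [single_apply, if_neg (Ne.symm hst)]

theorem single_s_t (n : ℕ) : (single s n : Fin 2 →₀ ℕ) t = 0 := by
  rw [single_apply, if_neg hst]

theorem eq_single_s {e : Fin 2 →₀ ℕ} (h : e t = 0) : e = single s (e s) := by
  apply ext_two hst
  · simp
  · rw [h, single_s_t hst]

/-- the shift lemma: in an ideal containing `x y` and `x ^ a`, the first non-vanishing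
`x`-coefficient of an element can be moved to degree `a - 1`. -/
theorem shift (J : Ideal (MvPowerSeries (Fin 2) k))
    (hxy : (X s * X t : MvPowerSeries (Fin 2) k) ∈ J) (a : ℕ)
    (ha : (X s : MvPowerSeries (Fin 2) k) ^ a ∈ J)
    (f : MvPowerSeries (Fin 2) k) (hf : f ∈ J) (i : ℕ) (hi : i + 1 < a)
    (hlow : ∀ i' < i, coeff (single s i') f = 0) :
    C (coeff (single s i) f) * (X s : MvPowerSeries (Fin 2) k) ^ (a - 1) ∈ J := by
  classical
  set m := a - 1 - i with hm
  set c := coeff (single s i) f with hc
  have hm1 : 1 ≤ m := by omega
  set g : MvPowerSeries (Fin 2) k := X s ^ m * f - C c * X s ^ (a - 1) with hg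
  have hgJ : g ∈ J := by
    have hG : g ∈ Ideal.span ((fun d => monomial d (1 : k)) ''
        (({single s 1 + single t 1, single s a} : Finset (Fin 2 →₀ ℕ)) : Set (Fin 2 →₀ ℕ))) := by
      apply VanCycQ.mem_span_monomials
      intro e he
      by_contra hcov
      push Not at hcov
      apply he
      have h1 : ¬ (single s 1 + single t 1 ≤ e) := hcov _ (by simp)
      have h2 : ¬ (single s a ≤ e) := hcov _ (by simp)
      rw [le_two hst] at h1 h2
      have h2' : e s < a := by
        by_contra hh
        push Not at hh
        apply h2
        refine ⟨?_, ?_⟩
        · rw [single_eq_same]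
          exact hh
        · rw [single_s_t hst]
          exact Nat.zero_le _
      simp only [Finsupp.add_apply, single_eq_same, single_t_s hst, single_s_t hst, add_zero,
        zero_add, not_and, not_le] at h1
      rw [hg, map_sub, X_pow_eq, X_pow_eq, coeff_monomial_mul, coeff_C_mul, coeff_monomial, one_mul]
      by_cases het : e t = 0
      · -- e = single s p
        have hes : e = single s (e s) := eq_single_s hst het
        by_cases hp : e s = a - 1
        · have hle : single s m ≤ e := by
            rw [le_two hst]
            simp only [single_eq_same, single_s_t hst]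
            omega
          have hsub : e - single s m = single s i := by
            apply ext_two hst
            · simp only [Finsupp.tsub_apply, single_eq_same]
              omega
            · simp only [Finsupp.tsub_apply, single_s_t hst, het]
          rw [if_pos hle, hsub, if_pos (hes.trans (by rw [hp])), mul_one, sub_self]
        · have hne : ¬ (e = single s (a - 1)) := by
            intro h
            apply hp
            rw [h]
            simp
          rw [if_neg hne, mul_zero, sub_zero]
          by_cases hle : single s m ≤ e
          · rw [if_pos hle]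
            have hle' : m ≤ e s := by
              have := hle s
              simpa using this
            have hsub : e - single s m = single s (e s - m) := by
              apply ext_two hst
              · simp only [Finsupp.tsub_apply, single_eq_same]
              · simp only [Finsupp.tsub_apply, single_s_t hst, het]
            rw [hsub]
            exact hlow _ (by omega)
          · rw [if_neg hle]
      · have hes : e s = 0 := by
          by_contra hh
          have := h1 (by omega)
          omega
        have hle : ¬ (single s m ≤ e) := by
          intro h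
          have := h s
          simp only [single_eq_same] at this
          omega
        have hne : ¬ (e = single s (a - 1)) := by
          intro h
          apply het
          rw [h, single_s_t hst]
        rw [if_neg hle, if_neg hne, mul_zero, sub_zero]
    refine (Ideal.span_le.mpr ?_) hG
    rintro _ ⟨d, hd, rfl⟩
    simp only [Finset.coe_insert, Finset.coe_singleton, Set.mem_insert_iff,
      Set.mem_singleton_iff] at hd
    rcases hd with rfl | rfl
    · have : monomial (single s 1 + single t 1) (1 : k) = X s * X t := by
        rw [X, X, monomial_mul_monomial, one_mul]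
      change monomial (single s 1 + single t 1) (1 : k) ∈ J
      rw [this]
      exact hxy
    · change monomial (single s a) (1 : k) ∈ J
      rw [← X_pow_eq]
      exact ha
  have : C c * X s ^ (a - 1) = X s ^ m * f - g := by
    rw [hg]; ring
  rw [this]
  exact J.sub_mem (J.mul_mem_left _ hf) hgJ

theorem vanish (J : Ideal (MvPowerSeries (Fin 2) k))
    (hxy : (X s * X t : MvPowerSeries (Fin 2) k) ∈ J) (a : ℕ)
    (ha : (X s : MvPowerSeries (Fin 2) k) ^ a ∈ J)
    (hmin : ∀ i < a, (X s : MvPowerSeries (Fin 2) k) ^ i ∉ J) (ha1 : 1 ≤ a)
    (f : MvPowerSeries (Fin 2) k) (hf : f ∈ J) :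
    ∀ i, i + 1 < a → coeff (single s i) f = 0 := by
  intro i
  induction i using Nat.strong_induction_on with
  | _ i ih =>
    intro hi
    by_contra hne
    have h1 := shift hst J hxy a ha f hf i hi (fun i' hi' => ih i' hi' (by omega))
    have h2 : (X s : MvPowerSeries (Fin 2) k) ^ (a - 1) ∈ J := by
      have : (X s : MvPowerSeries (Fin 2) k) ^ (a - 1) =
          C (coeff (single s i) f)⁻¹ * (C (coeff (single s i) f) * X s ^ (a - 1)) := by
        rw [← mul_assoc, ← map_mul, inv_mul_cancel₀ hne, map_one, one_mul]
      rw [this]
      exact J.mul_mem_left _ h1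
    exact hmin (a - 1) (by omega) h2

end two

end Groth.Agent.Helper8.NodeIdeals
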