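import Mathlib
import Groth.Agent.Helper8.NodeIdealsB

set_option autoImplicit false

universe u

open MvPowerSeries Finsupp

namespace Groth.Agent.Helper8.NodeIdeals

variable {k : Type*} [Field k]

theorem h01 : (0 : Fin 2) ≠ 1 := by decide

/-- exponents of the monomial basis of `k[[x,y]]/(xy, x^a, y^b)` -/
noncomputable def DD (a b : ℕ) : Finset (Fin 2 →₀ ℕ) :=
  (Finset.range a).image (fun i => single 0 i) ∪ (Finset.Ico 1 b).image (fun j => single 1 j)

noncomputable def GG (a b : ℕ) : Finset (Fin 2 →₀ ℕ) := {single 0 1 + single 1 1, single 0 a, single 1 b}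

theorem mem_DD (a b : ℕ) (e : Fin 2 →₀ ℕ) :
    e ∈ DD a b ↔ (e 1 = 0 ∧ e 0 < a) ∨ (e 0 = 0 ∧ 1 ≤ e 1 ∧ e 1 < b) := by
  unfold DD
  simp only [Finset.mem_union, Finset.mem_image, Finset.mem_range, Finset.mem_Ico]
  constructor
  · rintro (⟨i, hi, rfl⟩ | ⟨j, hj, rfl⟩)
    · left
      refine ⟨single_s_t h01 i, ?_⟩
      rw [single_eq_same]
      exact hi
    · right
      refine ⟨single_t_s h01 j, ?_⟩
      rw [single_eq_same]
      exact hj
  · rintro (⟨h1, h2⟩ | ⟨h1, h2, h3⟩)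
    · left
      exact ⟨e 0, h2, (eq_single_s h01 h1).symm⟩
    · right
      exact ⟨e 1, ⟨h2, h3⟩, (eq_single_s h01.symm h1).symm⟩

theorem card_DD (a b : ℕ) (hb : 1 ≤ b) : (DD a b).card = a + b - 1 := by
  unfold DD
  rw [Finset.card_union_of_disjoint, Finset.card_image_of_injective _ (single_injective 0),
    Finset.card_image_of_injective _ (single_injective 1), Finset.card_range, Nat.card_Ico]
  · omega
  · rw [Finset.disjoint_left]
    intro e h1 h2
    simp only [Finset.mem_image, Finset.mem_range, Finset.mem_Ico] at h1 h2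
    obtain ⟨i, -, rfl⟩ := h1
    obtain ⟨j, hj, hij⟩ := h2
    have := DFunLike.congr_fun hij 1
    rw [single_eq_same, single_s_t h01] at this
    omega

theorem cover (a b : ℕ) (e : Fin 2 →₀ ℕ) (he : e ∉ DD a b) : ∃ d ∈ GG a b, d ≤ e := by
  rw [mem_DD] at he
  push Not at he
  obtain ⟨h1, h2⟩ := he
  by_cases hy : e 1 = 0
  · refine ⟨single 0 a, by simp [GG], ?_⟩
    rw [le_two h01, single_eq_same, single_s_t h01]
    exact ⟨h1 hy, Nat.zero_le _⟩
  · by_cases hx : e 0 = 0
    · refine ⟨single 1 b, by simp [GG], ?_⟩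
      rw [le_two h01, single_eq_same, single_t_s h01]
      exact ⟨Nat.zero_le _, h2 hx (by omega)⟩
    · refine ⟨single 0 1 + single 1 1, by simp [GG], ?_⟩
      rw [le_two h01]
      simp only [Finsupp.add_apply, single_eq_same, single_s_t h01, single_t_s h01]
      omega

theorem span_GG (a b : ℕ) :
    Ideal.span ((fun d => monomial d (1 : k)) ''
      ((GG a b : Finset (Fin 2 →₀ ℕ)) : Set (Fin 2 →₀ ℕ))) =
    Ideal.span {(X 0 * X 1 : MvPowerSeries (Fin 2) k), X 0 ^ a, X 1 ^ b} := by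
  congr 1
  unfold GG
  rw [Finset.coe_insert, Finset.coe_insert, Finset.coe_singleton, Set.image_insert_eq,
    Set.image_insert_eq, Set.image_singleton]
  have : monomial (single 0 1 + single 1 1 : Fin 2 →₀ ℕ) (1 : k) =
      (X 0 * X 1 : MvPowerSeries (Fin 2) k) := by
    rw [X, X, monomial_mul_monomial, one_mul]
  beta_reduce
  rw [this, X_pow_eq, X_pow_eq]

theorem decomp (a b : ℕ) (z : MvPowerSeries (Fin 2) k) :
    z - truncD (DD a b) z ∈
      Ideal.span {(X 0 * X 1 : MvPowerSeries (Fin 2) k), X 0 ^ a, X 1 ^ b} := by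
  rw [← span_GG]
  exact sub_truncD_mem (DD a b) (GG a b) z (cover a b)

theorem gens_mem (p q : ℕ) (α : k) (hα : α ≠ 0) :
    Ideal.span {(X 0 * X 1 : MvPowerSeries (Fin 2) k), X 0 ^ (p + 2), X 1 ^ (q + 2)} ≤
      Ideal.span {(X 0 * X 1 : MvPowerSeries (Fin 2) k),
        X 0 ^ (p + 1) + C α * X 1 ^ (q + 1)} := by
  have hw : (X 0 ^ (p + 1) + C α * X 1 ^ (q + 1) : MvPowerSeries (Fin 2) k) ∈
      Ideal.span {(X 0 * X 1 : MvPowerSeries (Fin 2) k),
        X 0 ^ (p + 1) + C α * X 1 ^ (q + 1)} := Ideal.subset_span (Or.inr rfl)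
  have hm : (X 0 * X 1 : MvPowerSeries (Fin 2) k) ∈
      Ideal.span {(X 0 * X 1 : MvPowerSeries (Fin 2) k),
        X 0 ^ (p + 1) + C α * X 1 ^ (q + 1)} := Ideal.subset_span (Or.inl rfl)
  rw [Ideal.span_le]
  rintro x (rfl | rfl | rfl)
  · exact hm
  · have : (X 0 ^ (p + 2) : MvPowerSeries (Fin 2) k) =
        X 0 * (X 0 ^ (p + 1) + C α * X 1 ^ (q + 1)) - (C α * X 1 ^ q) * (X 0 * X 1) := by
      ring
    rw [this]
    exact Ideal.sub_mem _ (Ideal.mul_mem_left _ _ hw) (Ideal.mul_mem_left _ _ hm)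
  · have hinv : (C α⁻¹ * C α : MvPowerSeries (Fin 2) k) = 1 := by
      rw [← map_mul, inv_mul_cancel₀ hα, map_one]
    have : (X 1 ^ (q + 2) : MvPowerSeries (Fin 2) k) =
        C α⁻¹ * (X 1 * (X 0 ^ (p + 1) + C α * X 1 ^ (q + 1)) - X 0 ^ p * (X 0 * X 1)) := by
      linear_combination (-(X 1 : MvPowerSeries (Fin 2) k) ^ (q + 2)) * hinv
    rw [this]
    exact Ideal.mul_mem_left _ _
      (Ideal.sub_mem _ (Ideal.mul_mem_left _ _ hw) (Ideal.mul_mem_left _ _ hm))

section J

variable (J : Ideal (MvPowerSeries (Fin 2) k))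
  (hxy : (X 0 * X 1 : MvPowerSeries (Fin 2) k) ∈ J) (a b : ℕ)
  (ha : (X 0 : MvPowerSeries (Fin 2) k) ^ a ∈ J) (hb : (X 1 : MvPowerSeries (Fin 2) k) ^ b ∈ J)
  (hamin : ∀ i < a, (X 0 : MvPowerSeries (Fin 2) k) ^ i ∉ J)
  (hbmin : ∀ j < b, (X 1 : MvPowerSeries (Fin 2) k) ^ j ∉ J) (ha1 : 1 ≤ a) (hb1 : 1 ≤ b)

include hamin ha1 in
theorem coeff_zero_of_mem (f : MvPowerSeries (Fin 2) k) (hf : f ∈ J) : coeff 0 f = 0 := by
  by_contra hne
  have hu : IsUnit f := by
    rw [MvPowerSeries.isUnit_iff_constantCoeff, ← coeff_zero_eq_constantCoeff_apply]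
    exact Ne.isUnit hne
  have : J = ⊤ := Ideal.eq_top_of_isUnit_mem _ hf hu
  apply hamin 0 (by omega)
  rw [this]
  trivial

include hxy ha hb hamin hbmin ha1 hb1 in
theorem supp_of_mem (f : MvPowerSeries (Fin 2) k) (hfV : f ∈ VD (k := k) (DD a b)) (hf : f ∈ J)
    (e : Fin 2 →₀ ℕ) (he : coeff e f ≠ 0) : e = single 0 (a - 1) ∨ e = single 1 (b - 1) := by
  have heD : e ∈ DD a b := by
    by_contra h
    exact he (hfV e h)
  have hV0 := vanish h01 J hxy a ha hamin ha1 f hf
  have hxy' : (X 1 * X 0 : MvPowerSeries (Fin 2) k) ∈ J := by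
    rw [mul_comm]
    exact hxy
  have hV1 := vanish h01.symm J hxy' b hb hbmin hb1 f hf
  rw [mem_DD] at heD
  rcases heD with ⟨h1, h2⟩ | ⟨h1, h2, h3⟩
  · left
    have hes : e = single 0 (e 0) := eq_single_s h01 h1
    have : e 0 = a - 1 := by
      by_contra hh
      have h4 := hV0 (e 0) (by omega)
      rw [← hes] at h4
      exact he h4
    exact hes.trans (by rw [this])
  · right
    have hes : e = single 1 (e 1) := eq_single_s h01.symm h1
    have : e 1 = b - 1 := by
      by_contra hh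
      have h4 := hV1 (e 1) (by omega)
      rw [← hes] at h4
      exact he h4
    exact hes.trans (by rw [this])

include hxy ha hb hamin hbmin ha1 hb1 in
theorem form_of_mem (f : MvPowerSeries (Fin 2) k) (hfV : f ∈ VD (k := k) (DD a b)) (hf : f ∈ J) :
    f = C (coeff (single 0 (a - 1)) f) * X 0 ^ (a - 1) +
      C (coeff (single 1 (b - 1)) f) * X 1 ^ (b - 1) := by
  ext e
  rw [map_add, X_pow_eq, X_pow_eq, coeff_C_mul, coeff_C_mul, coeff_monomial, coeff_monomial]
  by_cases h1 : e = single 0 (a - 1)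
  · by_cases h2 : e = single 1 (b - 1)
    · have he0 : e = 0 := by
        have h3 := DFunLike.congr_fun h2 0
        rw [single_t_s h01, h1, single_eq_same] at h3
        rw [h1, h3, single_zero]
      have hz := coeff_zero_of_mem J a hamin ha1 f hf
      have c1 : coeff e f = 0 := by rw [he0]; exact hz
      have c2 : coeff (single 0 (a - 1)) f = 0 := by rw [← h1]; exact c1
      have c3 : coeff (single 1 (b - 1)) f = 0 := by rw [← h2]; exact c1
      rw [c1, c2, c3, zero_mul, zero_mul, add_zero]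
    · rw [if_pos h1, if_neg h2, mul_one, mul_zero, add_zero, h1]
  · by_cases h2 : e = single 1 (b - 1)
    · rw [if_neg h1, if_pos h2, mul_zero, zero_add, mul_one, h2]
    · rw [if_neg h1, if_neg h2, mul_zero, mul_zero, add_zero]
      by_contra hne
      rcases supp_of_mem J hxy a b ha hb hamin hbmin ha1 hb1 f hfV hf e hne with h | h
      · exact h1 h
      · exact h2 h

include hxy ha hb hamin hbmin ha1 hb1 in
theorem eq_zero_of_c (f : MvPowerSeries (Fin 2) k) (hfV : f ∈ VD (k := k) (DD a b)) (hf : f ∈ J)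
    (hc : coeff (single 0 (a - 1)) f = 0) : f = 0 := by
  have hform := form_of_mem J hxy a b ha hb hamin hbmin ha1 hb1 f hfV hf
  rw [hc, map_zero, zero_mul, zero_add] at hform
  generalize coeff (single 1 (b - 1)) f = d at hform
  by_contra hne
  have hd : d ≠ 0 := by
    rintro rfl
    apply hne
    rw [hform, map_zero, zero_mul]
  apply hbmin (b - 1) (by omega)
  have : (X 1 : MvPowerSeries (Fin 2) k) ^ (b - 1) = C d⁻¹ * f := by
    rw [hform, ← mul_assoc, ← map_mul, inv_mul_cancel₀ hd, map_one, one_mul]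
  rw [this]
  exact J.mul_mem_left _ hf

include hxy ha hb hamin hbmin ha1 hb1 in
theorem eq_zero_of_d (f : MvPowerSeries (Fin 2) k) (hfV : f ∈ VD (k := k) (DD a b)) (hf : f ∈ J)
    (hc : coeff (single 1 (b - 1)) f = 0) : f = 0 := by
  have hform := form_of_mem J hxy a b ha hb hamin hbmin ha1 hb1 f hfV hf
  rw [hc, map_zero, zero_mul, add_zero] at hform
  generalize coeff (single 0 (a - 1)) f = d at hform
  by_contra hne
  have hd : d ≠ 0 := by
    rintro rfl
    apply hne
    rw [hform, map_zero, zero_mul]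
  apply hamin (a - 1) (by omega)
  have : (X 0 : MvPowerSeries (Fin 2) k) ^ (a - 1) = C d⁻¹ * f := by
    rw [hform, ← mul_assoc, ← map_mul, inv_mul_cancel₀ hd, map_one, one_mul]
  rw [this]
  exact J.mul_mem_left _ hf

end J

theorem main (k : Type u) [Field k]
    (J : Ideal (MvPowerSeries (Fin 2) k))
    (hxy : (MvPowerSeries.X 0 * MvPowerSeries.X 1 : MvPowerSeries (Fin 2) k) ∈ J)
    [Module.Finite k (MvPowerSeries (Fin 2) k ⧸ J)] (n : ℕ)
    (hn : Module.finrank k (MvPowerSeries (Fin 2) k ⧸ J) = n)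
    (h2 : 2 ≤ n) :
    ∃ a b : ℕ, 1 ≤ a ∧ 1 ≤ b ∧
      ((a + b = n + 1 ∧
        J = Ideal.span {MvPowerSeries.X 0 * MvPowerSeries.X 1, MvPowerSeries.X 0 ^ a,
          MvPowerSeries.X 1 ^ b}) ∨
       (a + b = n ∧ ∃ α : k, α ≠ 0 ∧
        J = Ideal.span {MvPowerSeries.X 0 * MvPowerSeries.X 1,
          MvPowerSeries.X 0 ^ a + MvPowerSeries.C α * MvPowerSeries.X 1 ^ b})) := by
  classical
  have hex0 := exists_pow_mem J (0 : Fin 2)
  have hex1 := exists_pow_mem J (1 : Fin 2)
  obtain ⟨a, ha, hamin⟩ : ∃ a, (X 0 : MvPowerSeries (Fin 2) k) ^ a ∈ J ∧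
      ∀ i < a, (X 0 : MvPowerSeries (Fin 2) k) ^ i ∉ J :=
    ⟨Nat.find hex0, Nat.find_spec hex0, fun i hi => Nat.find_min hex0 hi⟩
  obtain ⟨b, hb, hbmin⟩ : ∃ b, (X 1 : MvPowerSeries (Fin 2) k) ^ b ∈ J ∧
      ∀ i < b, (X 1 : MvPowerSeries (Fin 2) k) ^ i ∉ J :=
    ⟨Nat.find hex1, Nat.find_spec hex1, fun i hi => Nat.find_min hex1 hi⟩
  have hJtop : J ≠ ⊤ := by
    intro hJ
    haveI : Subsingleton (MvPowerSeries (Fin 2) k ⧸ J) := Ideal.Quotient.subsingleton_iff.mpr hJ
    rw [Module.finrank_zero_of_subsingleton] at hn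
    omega
  have ha1 : 1 ≤ a := by
    by_contra h
    have h0 : a = 0 := by omega
    apply hJtop
    rw [Ideal.eq_top_iff_one]
    have := ha
    rw [h0, pow_zero] at this
    exact this
  have hb1 : 1 ≤ b := by
    by_contra h
    have h0 : b = 0 := by omega
    apply hJtop
    rw [Ideal.eq_top_iff_one]
    have := hb
    rw [h0, pow_zero] at this
    exact this
  have hle : Ideal.span {(X 0 * X 1 : MvPowerSeries (Fin 2) k), X 0 ^ a, X 1 ^ b} ≤ J := by
    rw [Ideal.span_le]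
    rintro x (rfl | rfl | rfl)
    · exact hxy
    · exact ha
    · exact hb
  let ρ : VD (k := k) (DD a b) →ₗ[k] (MvPowerSeries (Fin 2) k ⧸ J) :=
    (Ideal.Quotient.mkₐ k J).toLinearMap ∘ₗ (VD (k := k) (DD a b)).subtype
  have hρ : ∀ f : VD (k := k) (DD a b), ρ f = Ideal.Quotient.mk J f.1 := fun f => rfl
  have htr : ∀ z ∈ J, truncD (DD a b) z ∈ J := by
    intro z hz
    have := J.sub_mem hz (hle (decomp a b z))
    rwa [sub_sub_cancel] at this
  have hsurj : Function.Surjective ρ := by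
    intro q
    obtain ⟨z, rfl⟩ := Ideal.Quotient.mk_surjective q
    refine ⟨⟨truncD (DD a b) z, truncD_mem (DD a b) z⟩, ?_⟩
    rw [hρ]
    exact (Ideal.Quotient.eq.mpr (hle (decomp a b z))).symm
  haveI : Module.Finite k (VD (k := k) (DD a b)) := Module.Finite.equiv (VDequiv (DD a b)).symm
  have hrn := LinearMap.finrank_range_add_finrank_ker ρ
  rw [LinearMap.range_eq_top.mpr hsurj, finrank_top, hn, finrank_VD, card_DD a b hb1] at hrn
  have hker : ∀ f : VD (k := k) (DD a b), f ∈ LinearMap.ker ρ ↔ f.1 ∈ J := by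
    intro f
    rw [LinearMap.mem_ker, hρ, Ideal.Quotient.eq_zero_iff_mem]
  by_cases hK : LinearMap.ker ρ = ⊥
  · refine ⟨a, b, ha1, hb1, Or.inl ⟨?_, ?_⟩⟩
    · rw [hK, finrank_bot] at hrn
      omega
    · apply le_antisymm _ hle
      intro z hz
      have h1 := decomp a b z
      have h4 : (⟨truncD (DD a b) z, truncD_mem (DD a b) z⟩ : VD (k := k) (DD a b)) ∈
          LinearMap.ker ρ := (hker _).mpr (htr z hz)
      rw [hK, Submodule.mem_bot] at h4
      have h5 : truncD (DD a b) z = 0 := congrArg Subtype.val h4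
      rw [h5, sub_zero] at h1
      exact h1
  · obtain ⟨f0, hf0K, hf0ne⟩ := (Submodule.ne_bot_iff _).mp hK
    have hf0J : f0.1 ∈ J := (hker f0).mp hf0K
    have hf0ne' : f0.1 ≠ 0 := fun h => hf0ne (Subtype.ext h)
    obtain ⟨c0, hc0⟩ : ∃ c, c = coeff (single 0 (a - 1)) f0.1 := ⟨_, rfl⟩
    obtain ⟨d0, hd0⟩ : ∃ c, c = coeff (single 1 (b - 1)) f0.1 := ⟨_, rfl⟩
    have hc0ne : c0 ≠ 0 := by
      intro h
      rw [hc0] at h
      exact hf0ne' (eq_zero_of_c J hxy a b ha hb hamin hbmin ha1 hb1 f0.1 f0.2 hf0J h)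
    have hd0ne : d0 ≠ 0 := by
      intro h
      rw [hd0] at h
      exact hf0ne' (eq_zero_of_d J hxy a b ha hb hamin hbmin ha1 hb1 f0.1 f0.2 hf0J h)
    have hz0 := coeff_zero_of_mem J a hamin ha1 f0.1 hf0J
    have ha2 : 2 ≤ a := by
      by_contra h
      have h3 : a - 1 = 0 := by omega
      apply hc0ne
      rw [hc0, h3, single_zero]
      exact hz0
    have hb2 : 2 ≤ b := by
      by_contra h
      have h3 : b - 1 = 0 := by omega
      apply hd0ne
      rw [hd0, h3, single_zero]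
      exact hz0
    have hfr : Module.finrank k (LinearMap.ker ρ) = 1 := by
      apply le_antisymm
      · let φ : LinearMap.ker ρ →ₗ[k] k :=
          (coeff (single 0 (a - 1))) ∘ₗ (VD (k := k) (DD a b)).subtype ∘ₗ
            (LinearMap.ker ρ).subtype
        have hφ0 : ∀ f : LinearMap.ker ρ, φ f = 0 → f = 0 := by
          intro f hf
          have : f.1.1 = 0 :=
            eq_zero_of_c J hxy a b ha hb hamin hbmin ha1 hb1 f.1.1 f.1.2 ((hker f.1).mp f.2) hf
          exact Subtype.ext (Subtype.ext this)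
        have hφ : Function.Injective φ := by
          intro f g hfg
          have h00 : φ (f - g) = φ f - φ g := map_sub φ f g
          have h0 : φ (f - g) = 0 := by rw [h00, hfg, sub_self]
          exact sub_eq_zero.mp (hφ0 (f - g) h0)
        have := LinearMap.finrank_le_finrank_of_injective hφ
        rwa [Module.finrank_self] at this
      · exact Nat.succ_le_of_lt (Module.finrank_pos_iff_exists_ne_zero.mpr
          ⟨⟨f0, hf0K⟩, fun h => hf0ne (congrArg Subtype.val h)⟩)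
    rw [hfr] at hrn
    refine ⟨a - 1, b - 1, by omega, by omega,
      Or.inr ⟨by omega, d0 / c0, div_ne_zero hd0ne hc0ne, ?_⟩⟩
    have hform0 := form_of_mem J hxy a b ha hb hamin hbmin ha1 hb1 f0.1 f0.2 hf0J
    rw [← hc0, ← hd0] at hform0
    obtain ⟨w, hw⟩ : ∃ w : MvPowerSeries (Fin 2) k,
        w = X 0 ^ (a - 1) + C (d0 / c0) * X 1 ^ (b - 1) := ⟨_, rfl⟩
    rw [← hw]
    have hf0w : f0.1 = C c0 * w := by
      rw [hform0, hw, mul_add, ← mul_assoc, ← map_mul, mul_div_cancel₀ _ hc0ne]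
    have hinv : (C c0⁻¹ * C c0 : MvPowerSeries (Fin 2) k) = 1 := by
      rw [← map_mul, inv_mul_cancel₀ hc0ne, map_one]
    have hwJ : w ∈ J := by
      have : w = C c0⁻¹ * f0.1 := by
        rw [hf0w, ← mul_assoc, hinv, one_mul]
      rw [this]
      exact J.mul_mem_left _ hf0J
    have hGI := gens_mem (k := k) (a - 2) (b - 2) (d0 / c0) (div_ne_zero hd0ne hc0ne)
    have e1 : a - 2 + 2 = a := by omega
    have e2 : a - 2 + 1 = a - 1 := by omega
    have e3 : b - 2 + 2 = b := by omega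
    have e4 : b - 2 + 1 = b - 1 := by omega
    rw [e1, e2, e3, e4, ← hw] at hGI
    apply le_antisymm
    · intro z hz
      have h1 := hGI (decomp a b z)
      have hhJ := htr z hz
      have hhV := truncD_mem (k := k) (DD a b) z
      obtain ⟨h, hh⟩ : ∃ h, h = truncD (DD a b) z := ⟨_, rfl⟩
      rw [← hh] at h1 hhJ hhV
      obtain ⟨ch, hch⟩ : ∃ c, c = coeff (single 0 (a - 1)) h := ⟨_, rfl⟩
      have hg : C c0 * h - C ch * f0.1 = 0 := by
        apply eq_zero_of_c J hxy a b ha hb hamin hbmin ha1 hb1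
        · rw [← smul_eq_C_mul, ← smul_eq_C_mul]
          exact Submodule.sub_mem _ (Submodule.smul_mem _ _ hhV) (Submodule.smul_mem _ _ f0.2)
        · exact J.sub_mem (J.mul_mem_left _ hhJ) (J.mul_mem_left _ hf0J)
        · rw [map_sub, coeff_C_mul, coeff_C_mul, ← hc0, ← hch]
          ring
      have hhw : h = C ch * w := by
        linear_combination (C c0⁻¹) * hg + (C ch * C c0⁻¹) * hf0w - (h - C ch * w) * hinv
      have h3 : h ∈ Ideal.span {(X 0 * X 1 : MvPowerSeries (Fin 2) k), w} := by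
        rw [hhw]
        exact Ideal.mul_mem_left _ _ (Ideal.subset_span (Or.inr rfl))
      have := Ideal.add_mem _ h1 h3
      rwa [sub_add_cancel] at this
    · rw [Ideal.span_le]
      rintro x (rfl | rfl)
      · exact hxy
      · exact hwJ

end Groth.Agent.Helper8.NodeIdeals
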