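import Mathlib.RingTheory.MvPowerSeries.Basic
import Mathlib.RingTheory.MvPowerSeries.Equiv
import Mathlib.RingTheory.PowerSeries.Basic
import Mathlib.RingTheory.AdicCompletion.Basic
import Mathlib.RingTheory.Ideal.Quotient.Operations

/-!
# Normal form in `R[[x, y]] / (xy - π)`

For `π` in an ideal `I` for which `R` is adically complete, every element of `R[[x,y]]` is
congruent modulo `xy - π` to a unique series of the form `f(x) + y g(y)`.
-/

set_option autoImplicit false

namespace Groth.Agent.Helper8.NodeNF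

open MvPowerSeries

variable {R : Type*} [CommRing R]

/-- exponent vector -/
noncomputable def ex (i j : ℕ) : Fin 2 →₀ ℕ := Finsupp.single 0 i + Finsupp.single 1 j

@[simp] theorem ex_zero (i j : ℕ) : ex i j 0 = i := by simp [ex]
@[simp] theorem ex_one (i j : ℕ) : ex i j 1 = j := by simp [ex]

theorem eq_ex (m : Fin 2 →₀ ℕ) : m = ex (m 0) (m 1) := by
  ext k
  fin_cases k <;> simp

theorem ex_add (i j i' j' : ℕ) : ex i j + ex i' j' = ex (i + i') (j + j') := by
  ext k
  fin_cases k <;> simp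

theorem ex_inj {i j i' j' : ℕ} (h : ex i j = ex i' j') : i = i' ∧ j = j' := by
  have h0 := DFunLike.congr_fun h 0
  have h1 := DFunLike.congr_fun h 1
  simp only [ex_zero, ex_one] at h0 h1
  exact ⟨h0, h1⟩

theorem ex_le_iff (i j : ℕ) (m : Fin 2 →₀ ℕ) : ex i j ≤ m ↔ i ≤ m 0 ∧ j ≤ m 1 := by
  constructor
  · intro h
    have h0 := h 0
    have h1 := h 1
    simp only [ex_zero, ex_one] at h0 h1
    exact ⟨h0, h1⟩
  · rintro ⟨h0, h1⟩ k
    fin_cases k
    · simpa using h0
    · simpa using h1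

/-- the relation `xy - π` -/
noncomputable def rel (π : R) : MvPowerSeries (Fin 2) R := X 0 * X 1 - C π

theorem XY_eq : (X 0 * X 1 : MvPowerSeries (Fin 2) R) = monomial (ex 1 1) 1 := by
  rw [X_def, X_def, monomial_mul_monomial, mul_one]
  rfl

theorem X0_eq : (X 0 : MvPowerSeries (Fin 2) R) = monomial (ex 1 0) 1 := by
  rw [X_def]; congr 1; simp [ex]

theorem X1_eq : (X 1 : MvPowerSeries (Fin 2) R) = monomial (ex 0 1) 1 := by
  rw [X_def]; congr 1; simp [ex]

theorem coeff_rel_mul_succ (π : R) (h : MvPowerSeries (Fin 2) R) (i j : ℕ) :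
    coeff (ex (i + 1) (j + 1)) (rel π * h) =
      coeff (ex i j) h - π * coeff (ex (i + 1) (j + 1)) h := by
  rw [rel, sub_mul, map_sub, coeff_C_mul, XY_eq]
  have : ex (i + 1) (j + 1) = ex 1 1 + ex i j := by rw [ex_add, add_comm 1 i, add_comm 1 j]
  rw [this, coeff_add_monomial_mul, one_mul]

theorem coeff_rel_mul_x (π : R) (h : MvPowerSeries (Fin 2) R) (i : ℕ) :
    coeff (ex i 0) (rel π * h) = - (π * coeff (ex i 0) h) := by
  rw [rel, sub_mul, map_sub, coeff_C_mul, XY_eq, coeff_monomial_mul, if_neg, zero_sub]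
  rw [ex_le_iff]; simp

theorem coeff_rel_mul_y (π : R) (h : MvPowerSeries (Fin 2) R) (j : ℕ) :
    coeff (ex 0 j) (rel π * h) = - (π * coeff (ex 0 j) h) := by
  rw [rel, sub_mul, map_sub, coeff_C_mul, XY_eq, coeff_monomial_mul, if_neg, zero_sub]
  rw [ex_le_iff]; simp

section Hausdorff

variable (I : Ideal R) [IsHausdorff I R]

theorem eq_zero_of_forall_mem_pow (r : R) (h : ∀ n, r ∈ I ^ n) : r = 0 := by
  apply IsHausdorff.haus (I := I) inferInstance
  intro n
  rw [SModEq.zero, smul_eq_mul, Ideal.mul_top]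
  exact h n

/-- If `(xy - π) h` has no mixed coefficients then `h = 0`. -/
theorem eq_zero_of_coeff_rel_mul {π : R} (hπ : π ∈ I) (h : MvPowerSeries (Fin 2) R)
    (hh : ∀ i j, coeff (ex (i + 1) (j + 1)) (rel π * h) = 0) : h = 0 := by
  have hrec : ∀ i j, coeff (ex i j) h = π * coeff (ex (i + 1) (j + 1)) h := by
    intro i j
    have := hh i j
    rw [coeff_rel_mul_succ, sub_eq_zero] at this
    exact this
  have hpow : ∀ k i j, coeff (ex i j) h = π ^ k * coeff (ex (i + k) (j + k)) h := by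
    intro k
    induction k with
    | zero => intro i j; simp
    | succ k ih =>
      intro i j
      rw [ih, hrec (i + k) (j + k), pow_succ, mul_assoc]
      rfl
  ext m
  have hm : coeff m h = 0 := by
    rw [eq_ex m]
    apply eq_zero_of_forall_mem_pow I
    intro n
    rw [hpow n]
    exact Ideal.mul_mem_right _ _ (Ideal.pow_mem_pow hπ n)
  rw [hm]
  exact (LinearMap.map_zero _).symm

theorem rel_mul_cancel {π : R} (hπ : π ∈ I) {a b : MvPowerSeries (Fin 2) R}
    (h : rel π * a = rel π * b) : a = b := by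
  rw [← sub_eq_zero]
  apply eq_zero_of_coeff_rel_mul I hπ
  intro i j
  rw [mul_sub, h, sub_self, map_zero]

end Hausdorff

section ToMv

theorem single_eq_ex0 (a : ℕ) : (Finsupp.single (0 : Fin 2) a : Fin 2 →₀ ℕ) = ex a 0 := by
  simp [ex]

theorem single_eq_ex1 (a : ℕ) : (Finsupp.single (1 : Fin 2) a : Fin 2 →₀ ℕ) = ex 0 a := by
  simp [ex]

theorem coeff_toMv (s : Fin 2) (f : PowerSeries R) (a : ℕ) :
    coeff (Finsupp.single s a) (PowerSeries.toMvPowerSeries (σ := Fin 2) s f) =
      PowerSeries.coeff a f := by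
  have h := coeff_embDomain_rename (R := R) (Function.Embedding.punit s) f (Finsupp.single () a)
  rw [Finsupp.embDomain_single] at h
  exact h

theorem coeff_toMv_eq_zero (s : Fin 2) (f : PowerSeries R) (m : Fin 2 →₀ ℕ)
    (hm : ∀ a, m ≠ Finsupp.single s a) :
    coeff m (PowerSeries.toMvPowerSeries (σ := Fin 2) s f) = 0 := by
  apply coeff_rename_eq_zero
  rintro ⟨d, hd⟩
  apply hm (d ())
  rw [← hd]
  have : d = Finsupp.single () (d ()) := by
    ext; simp
  conv_lhs => rw [this]
  rw [Finsupp.mapDomain_single]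

theorem coeff_toX (f : PowerSeries R) (a : ℕ) :
    coeff (ex a 0) (PowerSeries.toMvPowerSeries (σ := Fin 2) 0 f) = PowerSeries.coeff a f := by
  rw [← single_eq_ex0, coeff_toMv]

theorem coeff_toX_succ (f : PowerSeries R) (a b : ℕ) :
    coeff (ex a (b + 1)) (PowerSeries.toMvPowerSeries (σ := Fin 2) 0 f) = 0 := by
  apply coeff_toMv_eq_zero
  intro c hc
  rw [single_eq_ex0] at hc
  have := (ex_inj hc).2
  omega

theorem coeff_toY (g : PowerSeries R) (b : ℕ) :
    coeff (ex 0 b) (PowerSeries.toMvPowerSeries (σ := Fin 2) 1 g) = PowerSeries.coeff b g := by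
  rw [← single_eq_ex1, coeff_toMv]

theorem coeff_toY_succ (g : PowerSeries R) (a b : ℕ) :
    coeff (ex (a + 1) b) (PowerSeries.toMvPowerSeries (σ := Fin 2) 1 g) = 0 := by
  apply coeff_toMv_eq_zero
  intro c hc
  rw [single_eq_ex1] at hc
  have := (ex_inj hc).1
  omega

theorem coeff_X1_mul_succ (u : MvPowerSeries (Fin 2) R) (a b : ℕ) :
    coeff (ex a (b + 1)) (X 1 * u) = coeff (ex a b) u := by
  rw [X1_eq]
  have : ex a (b + 1) = ex 0 1 + ex a b := by rw [ex_add, zero_add, add_comm 1 b]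
  rw [this, coeff_add_monomial_mul, one_mul]

theorem coeff_X1_mul_zero (u : MvPowerSeries (Fin 2) R) (a : ℕ) :
    coeff (ex a 0) (X 1 * u) = 0 := by
  rw [X1_eq, coeff_monomial_mul, if_neg]
  rw [ex_le_iff]; simp

/-- the normal form series `f(x) + y g(y)` -/
noncomputable def nf (f g : PowerSeries R) : MvPowerSeries (Fin 2) R :=
  PowerSeries.toMvPowerSeries (σ := Fin 2) 0 f + X 1 * PowerSeries.toMvPowerSeries (σ := Fin 2) 1 g

theorem coeff_nf_x (f g : PowerSeries R) (a : ℕ) :
    coeff (ex a 0) (nf f g) = PowerSeries.coeff a f := by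
  rw [nf, map_add, coeff_toX, coeff_X1_mul_zero, add_zero]

theorem coeff_nf_y (f g : PowerSeries R) (b : ℕ) :
    coeff (ex 0 (b + 1)) (nf f g) = PowerSeries.coeff b g := by
  rw [nf, map_add, coeff_toX_succ, coeff_X1_mul_succ, coeff_toY, zero_add]

theorem coeff_nf_succ (f g : PowerSeries R) (a b : ℕ) :
    coeff (ex (a + 1) (b + 1)) (nf f g) = 0 := by
  rw [nf, map_add, coeff_toX_succ, coeff_X1_mul_succ, coeff_toY_succ, zero_add]

end ToMv

section Unique

variable (I : Ideal R) [IsHausdorff I R]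

/-- Uniqueness of the normal form. -/
theorem nf_unique {π : R} (hπ : π ∈ I) (f g : PowerSeries R)
    (h : nf f g ∈ Ideal.span {rel π}) : f = 0 ∧ g = 0 := by
  rw [Ideal.mem_span_singleton'] at h
  obtain ⟨c, hc⟩ := h
  rw [mul_comm] at hc
  have hc0 : c = 0 := by
    apply eq_zero_of_coeff_rel_mul I hπ
    intro i j
    rw [hc, coeff_nf_succ]
  rw [hc0, mul_zero] at hc
  constructor
  · ext a
    rw [← coeff_nf_x f g a, ← hc]
    simp
  · ext b
    rw [← coeff_nf_y f g b, ← hc]
    simp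

end Unique

section Exist

variable (I : Ideal R) [IsAdicComplete I R]

theorem exists_limit {π : R} (hπ : π ∈ I) (c : ℕ → R) :
    ∃ h : R, ∀ N, h - ∑ k ∈ Finset.range N, π ^ k * c k ∈ I ^ N := by
  have hpre := IsPrecomplete.prec (I := I) (M := R) inferInstance
    (f := fun N => ∑ k ∈ Finset.range N, π ^ k * c k) (by
      intro m n hmn
      rw [SModEq.sub_mem, smul_eq_mul, Ideal.mul_top]
      rw [← Finset.sum_range_add_sum_Ico _ hmn]
      rw [sub_add_cancel_left]
      apply Ideal.neg_mem_iff _ |>.mpr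
      apply Ideal.sum_mem
      intro k hk
      rw [Finset.mem_Ico] at hk
      exact Ideal.mul_mem_right _ _ (Ideal.pow_le_pow_right hk.1 (Ideal.pow_mem_pow hπ k)))
  obtain ⟨L, hL⟩ := hpre
  refine ⟨L, fun N => ?_⟩
  have := hL N
  rw [SModEq.sub_mem, smul_eq_mul, Ideal.mul_top] at this
  have h2 : L - ∑ k ∈ Finset.range N, π ^ k * c k =
      -(∑ k ∈ Finset.range N, π ^ k * c k - L) := by ring
  rw [h2]
  exact Ideal.neg_mem_iff _ |>.mpr this

/-- Existence of the normal form. -/
theorem nf_exists {π : R} (hπ : π ∈ I) (z : MvPowerSeries (Fin 2) R) :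
    ∃ (f g : PowerSeries R) (h : MvPowerSeries (Fin 2) R), z = nf f g + rel π * h := by
  have hex : ∀ i j : ℕ, ∃ h : R, ∀ N, h - ∑ k ∈ Finset.range N,
      π ^ k * coeff (ex (i + 1 + k) (j + 1 + k)) z ∈ I ^ N := fun i j =>
    exists_limit I hπ _
  choose hc hhc using hex
  have hrec : ∀ i j, hc i j = coeff (ex (i + 1) (j + 1)) z + π * hc (i + 1) (j + 1) := by
    intro i j
    rw [← sub_eq_zero]
    apply eq_zero_of_forall_mem_pow I
    intro N
    have h1 := hhc i j (N + 1)
    have h2 := hhc (i + 1) (j + 1) N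
    have h3 : hc i j - (coeff (ex (i + 1) (j + 1)) z + π * hc (i + 1) (j + 1)) =
        (hc i j - ∑ k ∈ Finset.range (N + 1), π ^ k * coeff (ex (i + 1 + k) (j + 1 + k)) z) -
        π * (hc (i + 1) (j + 1) - ∑ k ∈ Finset.range N,
          π ^ k * coeff (ex (i + 1 + 1 + k) (j + 1 + 1 + k)) z) := by
      have hS : ∑ k ∈ Finset.range N, π ^ (k + 1) * coeff (ex (i + 1 + (k + 1)) (j + 1 + (k + 1))) z =
          π * ∑ k ∈ Finset.range N, π ^ k * coeff (ex (i + 1 + 1 + k) (j + 1 + 1 + k)) z := by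
        rw [Finset.mul_sum]
        apply Finset.sum_congr rfl
        intro k _
        have e1 : i + 1 + (k + 1) = i + 1 + 1 + k := by ring
        have e2 : j + 1 + (k + 1) = j + 1 + 1 + k := by ring
        rw [e1, e2, pow_succ]; ring
      rw [Finset.sum_range_succ', hS]
      simp only [pow_zero, one_mul, add_zero]
      ring
    rw [h3]
    exact Ideal.sub_mem _ (Ideal.pow_le_pow_right (Nat.le_succ N) h1) (Ideal.mul_mem_left _ _ h2)
  let hh : MvPowerSeries (Fin 2) R := fun m => hc (m 0) (m 1)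
  have hhcoeff : ∀ i j, coeff (ex i j) hh = hc i j := by
    intro i j
    change hc (ex i j 0) (ex i j 1) = _
    simp
  refine ⟨PowerSeries.mk fun i => coeff (ex i 0) z + π * hc i 0,
    PowerSeries.mk fun j => coeff (ex 0 (j + 1)) z + π * hc 0 (j + 1), hh, ?_⟩
  ext m
  rw [eq_ex m]
  generalize m 0 = a
  generalize m 1 = b
  rw [map_add]
  cases b with
  | zero =>
    rw [coeff_nf_x, coeff_rel_mul_x, hhcoeff, PowerSeries.coeff_mk]
    ring
  | succ b =>
    cases a with
    | zero =>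
      rw [coeff_nf_y, coeff_rel_mul_y, hhcoeff, PowerSeries.coeff_mk]
      ring
    | succ a =>
      rw [coeff_nf_succ, coeff_rel_mul_succ, hhcoeff, hhcoeff, hrec a b]
      ring

end Exist

end Groth.Agent.Helper8.NodeNF
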