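import Groth.Prelude.Def_W4c5spincurvestfNode
import Groth.Agent.Helper8.NodeNF
import Mathlib.RingTheory.LocalRing.MaximalIdeal.Basic
import Mathlib.RingTheory.Noetherian.Basic
import Mathlib.RingTheory.AdicCompletion.Basic
import Mathlib.LinearAlgebra.Span.Defs

set_option autoImplicit false
universe u

namespace Groth.Agent.Helper8.NodeKer

open MvPowerSeries Groth.Agent.Helper8.NodeNF

variable (R : Type u) [CommRing R]

theorem span_eq (π : R) : (Ideal.span {(MvPowerSeries.X 0 * MvPowerSeries.X 1 - MvPowerSeries.C π :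
    MvPowerSeries (Fin 2) R)}) = Ideal.span {rel π} := rfl

theorem algebraMap_eq (π r : R) : algebraMap R (SpinCurv.NodeRing R π) r =
    Ideal.Quotient.mk _ (MvPowerSeries.C r) := by
  rw [← Ideal.Quotient.mk_algebraMap]
  congr 1

variable (I : Ideal R) [IsHausdorff I R]

theorem ker_eq (p q : R) (hp : p ∈ I) :
    LinearMap.ker (Matrix.mulVecLin (SpinCurv.nodeAlpha R p q)) =
      Submodule.span (SpinCurv.NodeRing R (p * q))
        {![algebraMap R (SpinCurv.NodeRing R (p * q)) p, -SpinCurv.NodeRing.x R (p * q)],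
         ![SpinCurv.NodeRing.y R (p * q), -algebraMap R (SpinCurv.NodeRing R (p * q)) q]} := by
  have hπ : p * q ∈ I := Ideal.mul_mem_right _ _ hp
  have hxy : SpinCurv.NodeRing.x R (p * q) * SpinCurv.NodeRing.y R (p * q) =
      algebraMap R (SpinCurv.NodeRing R (p * q)) p * algebraMap R (SpinCurv.NodeRing R (p * q)) q := by
    rw [algebraMap_eq, algebraMap_eq, ← map_mul, ← map_mul, ← map_mul, Ideal.Quotient.eq,
      Ideal.mem_span_singleton']
    exact ⟨1, by rw [one_mul]⟩
  apply le_antisymm
  · intro v hv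
    rw [LinearMap.mem_ker, Matrix.mulVecLin_apply] at hv
    have h0 := congrFun hv 0
    have h1 := congrFun hv 1
    simp only [SpinCurv.nodeAlpha, Matrix.mulVec, Matrix.of_apply, Matrix.cons_val', Matrix.cons_val_zero,
      Matrix.cons_val_one, dotProduct, Fin.sum_univ_two, Pi.zero_apply, Matrix.cons_val_fin_one] at h0 h1
    obtain ⟨a, ha⟩ := Ideal.Quotient.mk_surjective (v 0)
    obtain ⟨b, hb⟩ := Ideal.Quotient.mk_surjective (v 1)
    rw [← ha, ← hb, algebraMap_eq, ← map_mul, ← map_mul, ← map_add,
      Ideal.Quotient.eq_zero_iff_mem, span_eq, Ideal.mem_span_singleton'] at h0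
    rw [← ha, ← hb, algebraMap_eq, ← map_mul, ← map_mul, ← map_add,
      Ideal.Quotient.eq_zero_iff_mem, span_eq, Ideal.mem_span_singleton'] at h1
    obtain ⟨c₁, hc₁⟩ := h0
    obtain ⟨c₂, hc₂⟩ := h1
    have hA : a = X 1 * c₁ - C p * c₂ := by
      apply rel_mul_cancel I hπ
      have : rel (p * q) * a = X 1 * (X 0 * a + C p * b) - C p * (C q * a + X 1 * b) := by
        rw [rel, map_mul]; ring
      rw [this, ← hc₁, ← hc₂]; ring
    have hB : b = X 0 * c₂ - C q * c₁ := by
      apply rel_mul_cancel I hπ
      have : rel (p * q) * b = X 0 * (C q * a + X 1 * b) - C q * (X 0 * a + C p * b) := by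
        rw [rel, map_mul]; ring
      rw [this, ← hc₁, ← hc₂]; ring
    have hv' : v = (-(Ideal.Quotient.mk _ c₂ : SpinCurv.NodeRing R (p * q))) •
        ![algebraMap R (SpinCurv.NodeRing R (p * q)) p, -SpinCurv.NodeRing.x R (p * q)] +
        (Ideal.Quotient.mk _ c₁ : SpinCurv.NodeRing R (p * q)) •
        ![SpinCurv.NodeRing.y R (p * q), -algebraMap R (SpinCurv.NodeRing R (p * q)) q] := by
      ext k
      fin_cases k
      · simp only [Fin.zero_eta, Pi.add_apply, Pi.smul_apply, Matrix.cons_val_zero, smul_eq_mul]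
        rw [← ha, hA, algebraMap_eq, RingHom.map_sub, RingHom.map_mul _ (X 1) c₁,
          RingHom.map_mul _ (C p) c₂]
        ring
      · simp only [Fin.mk_one, Pi.add_apply, Pi.smul_apply, Matrix.cons_val_one,
          Matrix.cons_val_fin_one, smul_eq_mul]
        rw [← hb, hB, algebraMap_eq, RingHom.map_sub, RingHom.map_mul _ (X 0) c₂,
          RingHom.map_mul _ (C q) c₁]
        ring
    rw [hv']
    exact Submodule.add_mem _ (Submodule.smul_mem _ _ (Submodule.subset_span (by simp)))
      (Submodule.smul_mem _ _ (Submodule.subset_span (by simp)))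
  · rw [Submodule.span_le]
    rintro v (rfl | rfl)
    · rw [SetLike.mem_coe, LinearMap.mem_ker, Matrix.mulVecLin_apply]
      ext k
      fin_cases k
      · simp [SpinCurv.nodeAlpha, Matrix.mulVec, dotProduct, Fin.sum_univ_two]
        ring
      · simp [SpinCurv.nodeAlpha, Matrix.mulVec, dotProduct, Fin.sum_univ_two]
        first | linear_combination hxy | linear_combination -hxy
    · rw [SetLike.mem_coe, LinearMap.mem_ker, Matrix.mulVecLin_apply]
      ext k
      fin_cases k
      · simp [SpinCurv.nodeAlpha, Matrix.mulVec, dotProduct, Fin.sum_univ_two]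
        first | linear_combination hxy | linear_combination -hxy
      · simp [SpinCurv.nodeAlpha, Matrix.mulVec, dotProduct, Fin.sum_univ_two]
        ring

end Groth.Agent.Helper8.NodeKer
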