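import Mathlib
import Groth.Prelude.Def_W4c5spincurvestfNode

set_option autoImplicit false
universe u

namespace Groth.Agent.Helper8.NodeQ

open MvPowerSeries

/-- exponent vector -/
noncomputable def ex (i j : ℕ) : Fin 2 →₀ ℕ := Finsupp.single 0 i + Finsupp.single 1 j

@[simp] theorem ex_zero (i j : ℕ) : ex i j 0 = i := by simp [ex]
@[simp] theorem ex_one (i j : ℕ) : ex i j 1 = j := by simp [ex]

theorem eq_ex (m : Fin 2 →₀ ℕ) : m = ex (m 0) (m 1) := by
  ext k
  fin_cases k <;> simp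

theorem ex_le_iff (i j : ℕ) (m : Fin 2 →₀ ℕ) : ex i j ≤ m ↔ i ≤ m 0 ∧ j ≤ m 1 := by
  constructor
  · intro h
    have h0 := h 0
    have h1 := h 1
    simp only [ex_zero, ex_one] at h0 h1
    exact ⟨h0, h1⟩
  · rintro ⟨h0, h1⟩ k
    fin_cases k
    · simpa using h0
    · simpa using h1

theorem ex_inj {i j i' j' : ℕ} (h : ex i j = ex i' j') : i = i' ∧ j = j' := by
  have h0 := DFunLike.congr_fun h 0
  have h1 := DFunLike.congr_fun h 1
  simp only [ex_zero, ex_one] at h0 h1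
  exact ⟨h0, h1⟩

variable (k : Type u) [Field k]

theorem XY_eq : (X 0 * X 1 : MvPowerSeries (Fin 2) k) = monomial (ex 1 1) 1 := by
  rw [X_def, X_def, monomial_mul_monomial, mul_one]
  rfl

theorem Xpow_eq (n : ℕ) : (X 0 ^ n : MvPowerSeries (Fin 2) k) = monomial (ex n 0) 1 := by
  rw [X_pow_eq]
  congr 1
  simp [ex]

theorem Ypow_eq (n : ℕ) : (X 1 ^ n : MvPowerSeries (Fin 2) k) = monomial (ex 0 n) 1 := by
  rw [X_pow_eq]
  congr 1
  simp [ex]

variable (u v : ℕ)

/-- index set of the standard monomials -/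
abbrev Sidx := Fin u ⊕ Fin (v - 1)

/-- the standard exponents -/
noncomputable def e : Sidx u v → (Fin 2 →₀ ℕ)
  | Sum.inl i => ex i 0
  | Sum.inr j => ex 0 (j + 1)

theorem e_injective : Function.Injective (e u v) := by
  rintro (i | j) (i' | j') h
  · have := (ex_inj h).1
    exact congrArg Sum.inl (Fin.ext this)
  · have := ex_inj h
    omega
  · have := ex_inj h
    omega
  · have := (ex_inj h).2
    exact congrArg Sum.inr (Fin.ext (by omega))

/-- the standard coefficients -/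
noncomputable def Ecoeff : MvPowerSeries (Fin 2) k →ₗ[k] (Sidx u v → k) :=
  LinearMap.pi (fun s => coeff (e u v s))

theorem Ecoeff_apply (f : MvPowerSeries (Fin 2) k) (s : Sidx u v) :
    Ecoeff k u v f s = coeff (e u v s) f := rfl

theorem Ecoeff_surjective : Function.Surjective (Ecoeff k u v) := by
  intro t
  classical
  refine ⟨fun m => ∑ s, if e u v s = m then t s else 0, ?_⟩
  ext s'
  rw [Ecoeff_apply, coeff_apply]
  have : ∀ s, (if e u v s = e u v s' then t s else 0) = if s = s' then t s else 0 := by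
    intro s
    by_cases h : s = s'
    · rw [if_pos h, if_pos (congrArg _ h)]
    · rw [if_neg h, if_neg (fun h' => h (e_injective u v h'))]
  rw [Finset.sum_congr rfl (fun s _ => this s), Finset.sum_ite_eq' Finset.univ s' t,
    if_pos (Finset.mem_univ _)]

variable {u v}

theorem mem_ker_Ecoeff (hu : 1 ≤ u) (hv : 1 ≤ v) (f : MvPowerSeries (Fin 2) k) :
    f ∈ LinearMap.ker (Ecoeff k u v) ↔
      ∀ m : Fin 2 →₀ ℕ, ((m 1 = 0 ∧ m 0 < u) ∨ (m 0 = 0 ∧ m 1 < v)) → coeff m f = 0 := by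
  rw [LinearMap.mem_ker]
  constructor
  · intro h m hm
    rcases hm with ⟨h1, h0⟩ | ⟨h0, h1⟩
    · have := congrFun h (Sum.inl ⟨m 0, h0⟩)
      rw [Ecoeff_apply] at this
      rw [eq_ex m, h1]
      exact this
    · by_cases hz : m 1 = 0
      · have := congrFun h (Sum.inl ⟨0, hu⟩)
        rw [Ecoeff_apply] at this
        rw [eq_ex m, h0, hz]
        exact this
      · have := congrFun h (Sum.inr ⟨m 1 - 1, by omega⟩)
        rw [Ecoeff_apply] at this
        rw [eq_ex m, h0]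
        have e1 : m 1 - 1 + 1 = m 1 := by omega
        simp only [e] at this
        rw [e1] at this
        exact this
  · intro h
    ext s
    rw [Ecoeff_apply]
    rcases s with i | j
    · apply h
      left
      simp [e]
    · apply h
      right
      simp [e]
      omega

theorem decomp (_hu : 1 ≤ u) (hv : 1 ≤ v) (f : MvPowerSeries (Fin 2) k)
    (hf : ∀ m : Fin 2 →₀ ℕ, ((m 1 = 0 ∧ m 0 < u) ∨ (m 0 = 0 ∧ m 1 < v)) → coeff m f = 0) :
    ∃ g h l : MvPowerSeries (Fin 2) k, f = X 0 * X 1 * g + X 0 ^ u * h + X 1 ^ v * l := by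
  classical
  obtain ⟨g, hg⟩ : ∃ g : MvPowerSeries (Fin 2) k, ∀ m, coeff m g = coeff (m + ex 1 1) f :=
    ⟨fun m => coeff (m + ex 1 1) f, fun m => rfl⟩
  obtain ⟨h, hh⟩ : ∃ h : MvPowerSeries (Fin 2) k,
      ∀ m, coeff m h = if m 1 = 0 then coeff (m + ex u 0) f else 0 :=
    ⟨fun m => if m 1 = 0 then coeff (m + ex u 0) f else 0, fun m => rfl⟩
  obtain ⟨l, hl⟩ : ∃ l : MvPowerSeries (Fin 2) k,
      ∀ m, coeff m l = if m 0 = 0 then coeff (m + ex 0 v) f else 0 :=
    ⟨fun m => if m 0 = 0 then coeff (m + ex 0 v) f else 0, fun m => rfl⟩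
  refine ⟨g, h, l, ?_⟩
  ext m
  have T1 : coeff m (X 0 * X 1 * g) = if 1 ≤ m 0 ∧ 1 ≤ m 1 then coeff m f else 0 := by
    rw [XY_eq, coeff_monomial_mul, hg, one_mul]
    by_cases hc : 1 ≤ m 0 ∧ 1 ≤ m 1
    · rw [if_pos hc, if_pos ((ex_le_iff _ _ _).2 hc), tsub_add_cancel_of_le ((ex_le_iff _ _ _).2 hc)]
    · rw [if_neg hc, if_neg (fun h' => hc ((ex_le_iff _ _ _).1 h'))]
  have T2 : coeff m (X 0 ^ u * h) = if u ≤ m 0 ∧ m 1 = 0 then coeff m f else 0 := by
    rw [Xpow_eq, coeff_monomial_mul, hh, one_mul]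
    by_cases hc : u ≤ m 0
    · have hle : ex u 0 ≤ m := (ex_le_iff _ _ _).2 ⟨hc, Nat.zero_le _⟩
      rw [if_pos hle, tsub_add_cancel_of_le hle, Finsupp.tsub_apply, ex_one, Nat.sub_zero]
      by_cases hc' : m 1 = 0
      · rw [if_pos hc', if_pos ⟨hc, hc'⟩]
      · rw [if_neg hc', if_neg (fun h' => hc' h'.2)]
    · rw [if_neg (fun h' => hc ((ex_le_iff _ _ _).1 h').1), if_neg (fun h' => hc h'.1)]
  have T3 : coeff m (X 1 ^ v * l) = if v ≤ m 1 ∧ m 0 = 0 then coeff m f else 0 := by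
    rw [Ypow_eq, coeff_monomial_mul, hl, one_mul]
    by_cases hc : v ≤ m 1
    · have hle : ex 0 v ≤ m := (ex_le_iff _ _ _).2 ⟨Nat.zero_le _, hc⟩
      rw [if_pos hle, tsub_add_cancel_of_le hle, Finsupp.tsub_apply, ex_zero, Nat.sub_zero]
      by_cases hc' : m 0 = 0
      · rw [if_pos hc', if_pos ⟨hc, hc'⟩]
      · rw [if_neg hc', if_neg (fun h' => hc' h'.2)]
    · rw [if_neg (fun h' => hc ((ex_le_iff _ _ _).1 h').2), if_neg (fun h' => hc h'.1)]
  rw [map_add, map_add, T1, T2, T3]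
  by_cases c1 : 1 ≤ m 0 ∧ 1 ≤ m 1
  · rw [if_pos c1, if_neg (by omega), if_neg (by omega), add_zero, add_zero]
  · rw [if_neg c1, zero_add]
    by_cases c2 : m 1 = 0
    · rw [if_neg (by omega : ¬ (v ≤ m 1 ∧ m 0 = 0)), add_zero]
      by_cases c3 : u ≤ m 0
      · rw [if_pos ⟨c3, c2⟩]
      · rw [if_neg (fun h' => c3 h'.1)]
        exact hf m (Or.inl ⟨c2, by omega⟩)
    · have c0 : m 0 = 0 := by omega
      rw [if_neg (fun h' => c2 h'.2), zero_add]
      by_cases c3 : v ≤ m 1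
      · rw [if_pos ⟨c3, c0⟩]
      · rw [if_neg (fun h' => c3 h'.1)]
        exact hf m (Or.inr ⟨c0, by omega⟩)


variable (u v) (w : k)

/-- the ideal `(x^u, w y^v)` of the node ring -/
noncomputable abbrev JJ : Ideal (SpinCurv.NodeRing k 0) :=
  Ideal.span {SpinCurv.NodeRing.x k 0 ^ u,
    algebraMap k (SpinCurv.NodeRing k 0) w * SpinCurv.NodeRing.y k 0 ^ v}

/-- the quotient map from power series -/
noncomputable def q : MvPowerSeries (Fin 2) k →ₐ[k] (SpinCurv.NodeRing k 0 ⧸ JJ k u v w) :=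
  (Ideal.Quotient.mkₐ k (JJ k u v w)).comp (Ideal.Quotient.mkₐ k _)

theorem q_apply (f : MvPowerSeries (Fin 2) k) :
    q k u v w f = Ideal.Quotient.mk (JJ k u v w) (Ideal.Quotient.mk _ f) := rfl

theorem q_surjective : Function.Surjective (q k u v w) := by
  intro z
  obtain ⟨n, rfl⟩ := Ideal.Quotient.mk_surjective z
  obtain ⟨f, rfl⟩ := Ideal.Quotient.mk_surjective n
  exact ⟨f, rfl⟩

theorem mkN_XY : (Ideal.Quotient.mk (Ideal.span {(X 0 * X 1 - C (0 : k) :
    MvPowerSeries (Fin 2) k)})) (X 0 * X 1) = 0 := by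
  rw [Ideal.Quotient.eq_zero_iff_mem]
  exact Ideal.mem_span_singleton'.2 ⟨1, by rw [one_mul, map_zero, sub_zero]⟩

theorem q_XY (g : MvPowerSeries (Fin 2) k) : q k u v w (X 0 * X 1 * g) = 0 := by
  rw [q_apply]
  have : (Ideal.Quotient.mk (Ideal.span {(X 0 * X 1 - C (0 : k) :
      MvPowerSeries (Fin 2) k)})) (X 0 * X 1 * g) = 0 := by
    rw [map_mul, mkN_XY, zero_mul]
  rw [this]
  exact map_zero _

theorem q_X (h : MvPowerSeries (Fin 2) k) : q k u v w (X 0 ^ u * h) = 0 := by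
  rw [q_apply, Ideal.Quotient.eq_zero_iff_mem, map_mul, map_pow]
  exact Ideal.mul_mem_right _ _ (Ideal.subset_span (Or.inl rfl))

variable {w} in
theorem q_Y (hw : w ≠ 0) (l : MvPowerSeries (Fin 2) k) : q k u v w (X 1 ^ v * l) = 0 := by
  rw [q_apply, Ideal.Quotient.eq_zero_iff_mem, map_mul, map_pow]
  refine Ideal.mul_mem_right _ _ ?_
  have h1 : algebraMap k (SpinCurv.NodeRing k 0) w * SpinCurv.NodeRing.y k 0 ^ v ∈ JJ k u v w :=
    Ideal.subset_span (Or.inr rfl)
  have h2 := Ideal.mul_mem_left _ (algebraMap k (SpinCurv.NodeRing k 0) w⁻¹) h1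
  rw [← mul_assoc, ← map_mul, inv_mul_cancel₀ hw, map_one, one_mul] at h2
  exact h2

variable {u v w} in
theorem ker_eq (hu : 1 ≤ u) (hv : 1 ≤ v) (hw : w ≠ 0) :
    LinearMap.ker (q k u v w).toLinearMap = LinearMap.ker (Ecoeff k u v) := by
  ext f
  constructor
  · intro hf
    rw [LinearMap.mem_ker, AlgHom.toLinearMap_apply, q_apply, Ideal.Quotient.eq_zero_iff_mem,
      Ideal.mem_span_pair] at hf
    obtain ⟨a, b, hab⟩ := hf
    obtain ⟨a', rfl⟩ := Ideal.Quotient.mk_surjective a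
    obtain ⟨b', rfl⟩ := Ideal.Quotient.mk_surjective b
    have hw' : algebraMap k (SpinCurv.NodeRing k 0) w =
        Ideal.Quotient.mk _ (C w : MvPowerSeries (Fin 2) k) := rfl
    rw [hw', ← map_pow, ← map_pow, ← map_mul, ← map_mul, ← map_mul, ← map_add,
      Ideal.Quotient.eq, Ideal.mem_span_singleton'] at hab
    obtain ⟨c, hc⟩ := hab
    have hfe : f = X 0 ^ u * a' + X 1 ^ v * (b' * C w) + X 0 * X 1 * (-c) := by
      rw [map_zero, sub_zero] at hc
      linear_combination hc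
    rw [mem_ker_Ecoeff k hu hv]
    intro m hm
    rw [hfe, map_add, map_add, Xpow_eq, Ypow_eq, XY_eq, coeff_monomial_mul, coeff_monomial_mul,
      coeff_monomial_mul, if_neg, if_neg, if_neg, add_zero, add_zero]
    · rw [ex_le_iff]; omega
    · rw [ex_le_iff]; omega
    · rw [ex_le_iff]; omega
  · intro hf
    rw [mem_ker_Ecoeff k hu hv] at hf
    obtain ⟨g, h, l, rfl⟩ := decomp k hu hv f hf
    rw [LinearMap.mem_ker, AlgHom.toLinearMap_apply, map_add, map_add, q_XY, q_X, q_Y k u v hw,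
      add_zero, add_zero]

variable {u v w} in
theorem main (hu : 1 ≤ u) (hv : 1 ≤ v) (hw : w ≠ 0) :
    Module.finrank k (SpinCurv.NodeRing k 0 ⧸
      Ideal.span {SpinCurv.NodeRing.x k 0 ^ u, algebraMap k (SpinCurv.NodeRing k 0) w * SpinCurv.NodeRing.y k 0 ^ v}) =
      u + v - 1 := by
  have e1 := (q k u v w).toLinearMap.quotKerEquivOfSurjective (q_surjective k u v w)
  have e2 := (Ecoeff k u v).quotKerEquivOfSurjective (Ecoeff_surjective k u v)
  have e3 := Submodule.quotEquivOfEq _ _ (ker_eq k hu hv hw)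
  have := (e1.symm.trans (e3.trans e2)).finrank_eq
  rw [this, Module.finrank_pi, Fintype.card_sum, Fintype.card_fin, Fintype.card_fin]
  omega

end Groth.Agent.Helper8.NodeQ
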