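import Groth.Agent.Helper8.NodeKer

set_option autoImplicit false
universe u

namespace Groth.Agent.Helper8.NodeRange

open MvPowerSeries Groth.Agent.Helper8.NodeNF Groth.Agent.Helper8.NodeKer

variable (R : Type u) [CommRing R]

/-- series in `x` as a ring hom to the node ring -/
noncomputable def tX (π : R) : PowerSeries R →+* SpinCurv.NodeRing R π :=
  (Ideal.Quotient.mk _).comp (PowerSeries.toMvPowerSeries (σ := Fin 2) 0).toRingHom

/-- series in `y` as a ring hom to the node ring -/
noncomputable def tY (π : R) : PowerSeries R →+* SpinCurv.NodeRing R π :=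
  (Ideal.Quotient.mk _).comp (PowerSeries.toMvPowerSeries (σ := Fin 2) 1).toRingHom

theorem tX_apply (π : R) (f : PowerSeries R) : tX R π f = SpinCurv.NodeRing.ofX R π f := rfl
theorem tY_apply (π : R) (g : PowerSeries R) : tY R π g = SpinCurv.NodeRing.ofY R π g := rfl

theorem tX_X (π : R) : tX R π PowerSeries.X = SpinCurv.NodeRing.x R π := by
  change Ideal.Quotient.mk _ (PowerSeries.toMvPowerSeries (σ := Fin 2) 0 PowerSeries.X) = _
  rw [PowerSeries.toMvPowerSeries_X]

theorem tY_X (π : R) : tY R π PowerSeries.X = SpinCurv.NodeRing.y R π := by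
  change Ideal.Quotient.mk _ (PowerSeries.toMvPowerSeries (σ := Fin 2) 1 PowerSeries.X) = _
  rw [PowerSeries.toMvPowerSeries_X]

theorem tX_C (π r : R) : tX R π (PowerSeries.C r) = algebraMap R (SpinCurv.NodeRing R π) r := by
  change Ideal.Quotient.mk _ (PowerSeries.toMvPowerSeries (σ := Fin 2) 0 (PowerSeries.C r)) = _
  rw [PowerSeries.toMvPowerSeries_C, algebraMap_eq]

theorem tY_C (π r : R) : tY R π (PowerSeries.C r) = algebraMap R (SpinCurv.NodeRing R π) r := by
  change Ideal.Quotient.mk _ (PowerSeries.toMvPowerSeries (σ := Fin 2) 1 (PowerSeries.C r)) = _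
  rw [PowerSeries.toMvPowerSeries_C, algebraMap_eq]

theorem mk_nf (π : R) (f g : PowerSeries R) :
    (Ideal.Quotient.mk _ (nf f g) : SpinCurv.NodeRing R π) =
      tX R π f + SpinCurv.NodeRing.y R π * tY R π g := by
  rw [nf, RingHom.map_add, RingHom.map_mul]
  rfl

theorem xy_eq (π : R) : SpinCurv.NodeRing.x R π * SpinCurv.NodeRing.y R π =
    algebraMap R (SpinCurv.NodeRing R π) π := by
  rw [algebraMap_eq, ← RingHom.map_mul, Ideal.Quotient.eq, Ideal.mem_span_singleton']
  exact ⟨1, by rw [one_mul]⟩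

theorem mulVec_apply (p q : R) (u v : SpinCurv.NodeRing R (p * q)) :
    Matrix.mulVec (SpinCurv.nodeAlpha R p q) ![u, v] =
      ![SpinCurv.NodeRing.x R (p * q) * u + algebraMap R _ p * v,
        algebraMap R _ q * u + SpinCurv.NodeRing.y R (p * q) * v] := by
  ext k
  fin_cases k <;>
    simp [SpinCurv.nodeAlpha, Matrix.mulVec, dotProduct, Fin.sum_univ_two]

section Complete

variable (I : Ideal R) [IsAdicComplete I R]

theorem exists_nf (π : R) (hπ : π ∈ I) (a : SpinCurv.NodeRing R π) :
    ∃ f g : PowerSeries R, a = tX R π f + SpinCurv.NodeRing.y R π * tY R π g := by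
  obtain ⟨z, rfl⟩ := Ideal.Quotient.mk_surjective a
  obtain ⟨f, g, h, hz⟩ := nf_exists I hπ z
  refine ⟨f, g, ?_⟩
  rw [← mk_nf, Ideal.Quotient.eq, hz, add_sub_cancel_left, span_eq]
  exact Ideal.mul_mem_right _ _ (Ideal.subset_span rfl)

theorem range_eq (p q : R) (hp : p ∈ I) :
    Set.range (fun fg : PowerSeries R × PowerSeries R =>
        Matrix.mulVec (SpinCurv.nodeAlpha R p q)
          ![SpinCurv.NodeRing.ofX R (p * q) fg.1, SpinCurv.NodeRing.ofY R (p * q) fg.2]) =
      Set.range (Matrix.mulVec (SpinCurv.nodeAlpha R p q)) := by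
  have hπ : p * q ∈ I := Ideal.mul_mem_right _ _ hp
  apply Set.Subset.antisymm
  · rintro _ ⟨fg, rfl⟩
    exact ⟨_, rfl⟩
  · rintro _ ⟨w, rfl⟩
    obtain ⟨a1, a2, ha⟩ := exists_nf R I (p * q) hπ (w 0)
    obtain ⟨b1, b2, hb⟩ := exists_nf R I (p * q) hπ (w 1)
    set β := PowerSeries.constantCoeff b1 with hβ
    set b1s : PowerSeries R := PowerSeries.mk fun n => PowerSeries.coeff (n + 1) b1 with hb1s
    have hb1 : b1 = PowerSeries.X * b1s + PowerSeries.C β := PowerSeries.eq_X_mul_shift_add_const b1
    refine ⟨(a1 + PowerSeries.C p * b1s, (PowerSeries.C β + PowerSeries.X * b2) + PowerSeries.C q * a2), ?_⟩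
    have hw : w = ![w 0, w 1] := by
      ext k; fin_cases k <;> rfl
    rw [hw]
    simp only [← tX_apply, ← tY_apply]
    rw [mulVec_apply, mulVec_apply, ha, hb, hb1]
    simp only [map_add, map_mul, tX_X, tY_X, tX_C, tY_C]
    have hxy : SpinCurv.NodeRing.x R (p * q) * SpinCurv.NodeRing.y R (p * q) =
        algebraMap R (SpinCurv.NodeRing R (p * q)) p * algebraMap R (SpinCurv.NodeRing R (p * q)) q :=
      (xy_eq R (p * q)).trans ((algebraMap R (SpinCurv.NodeRing R (p * q))).map_mul p q)
    ext k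
    fin_cases k
    · simp only [Fin.zero_eta, Matrix.cons_val_zero]
      linear_combination (-(tY R (p * q) a2)) * hxy
    · simp only [Fin.mk_one, Matrix.cons_val_one, Matrix.cons_val_fin_one]
      linear_combination (-(tX R (p * q) b1s)) * hxy

end Complete

section Hausdorff

variable (I : Ideal R) [IsHausdorff I R]

theorem eq_zero_of_X_mul_add_C (F : PowerSeries R) (c : R)
    (h : PowerSeries.X * F + PowerSeries.C c = 0) : F = 0 := by
  ext n
  have := congrArg (PowerSeries.coeff (n + 1)) h
  rw [map_add, PowerSeries.coeff_succ_X_mul, PowerSeries.coeff_succ_C, add_zero, map_zero] at this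
  rw [this, map_zero]

theorem injective (p q : R) (hp : p ∈ I) :
    Function.Injective (fun fg : PowerSeries R × PowerSeries R =>
        Matrix.mulVec (SpinCurv.nodeAlpha R p q)
          ![SpinCurv.NodeRing.ofX R (p * q) fg.1, SpinCurv.NodeRing.ofY R (p * q) fg.2]) := by
  have hπ : p * q ∈ I := Ideal.mul_mem_right _ _ hp
  rintro ⟨f, g⟩ ⟨f', g'⟩ h
  simp only [← tX_apply, ← tY_apply] at h
  rw [mulVec_apply, mulVec_apply] at h
  have h0 := congrFun h 0
  have h1 := congrFun h 1
  simp only [Matrix.cons_val_zero, Matrix.cons_val_one, Matrix.cons_val_fin_one] at h0 h1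
  set F := f - f' with hF
  set G := g - g' with hG
  have e0 : SpinCurv.NodeRing.x R (p * q) * tX R (p * q) F +
      algebraMap R _ p * tY R (p * q) G = 0 := by
    rw [hF, hG, map_sub, map_sub]; linear_combination h0
  have e1 : algebraMap R _ q * tX R (p * q) F +
      SpinCurv.NodeRing.y R (p * q) * tY R (p * q) G = 0 := by
    rw [hF, hG, map_sub, map_sub]; linear_combination h1
  -- decompose G
  set γ := PowerSeries.constantCoeff G with hγ
  set Gs : PowerSeries R := PowerSeries.mk fun n => PowerSeries.coeff (n + 1) G with hGs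
  have hGd : G = PowerSeries.X * Gs + PowerSeries.C γ := PowerSeries.eq_X_mul_shift_add_const G
  have hF0 : F = 0 := by
    have e0' : (Ideal.Quotient.mk _ (nf (PowerSeries.X * F + PowerSeries.C (p * γ))
        (PowerSeries.C p * Gs)) : SpinCurv.NodeRing R (p * q)) = 0 := by
      rw [mk_nf]
      simp only [map_add, map_mul, tX_X, tX_C, tY_C]
      rw [hGd] at e0
      simp only [map_add, map_mul, tY_X, tY_C] at e0
      linear_combination e0
    rw [Ideal.Quotient.eq_zero_iff_mem, span_eq] at e0'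
    have := (nf_unique I hπ _ _ e0').1
    exact eq_zero_of_X_mul_add_C R F _ this
  have hG0 : G = 0 := by
    have e1' : (Ideal.Quotient.mk _ (nf 0 G) : SpinCurv.NodeRing R (p * q)) = 0 := by
      rw [mk_nf, map_zero, zero_add]
      rw [hF0, map_zero, mul_zero, zero_add] at e1
      exact e1
    rw [Ideal.Quotient.eq_zero_iff_mem, span_eq] at e1'
    exact (nf_unique I hπ _ _ e1').2
  rw [Prod.mk.injEq]
  exact ⟨sub_eq_zero.mp hF0, sub_eq_zero.mp hG0⟩

end Hausdorff

end Groth.Agent.Helper8.NodeRange
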