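import Mathlib

/-!
# Determinants of matrices killed by a monic polynomial are integral

If a monic polynomial `g` over `R''` kills the matrix `M` over an `R''`-algebra `R'`, then the
characteristic polynomial of `M` divides a power of `g`, hence has integral coefficients.
-/

set_option autoImplicit false
set_option linter.unusedSectionVars false
set_option linter.style.haveILetI false
universe u

namespace Groth.Agent.Helper8.NormBCA

open Polynomial

/-- in a (noncommutative) algebra, `a - b` divides `p(a) - p(b)` on the right for commuting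
`a, b` -/
theorem exists_mul_sub_eq {R : Type*} [CommRing R] {𝔸 : Type*} [Ring 𝔸] [Algebra R 𝔸]
    (a b : 𝔸) (h : Commute a b) (p : R[X]) :
    ∃ Q : 𝔸, Polynomial.aeval a p - Polynomial.aeval b p = Q * (a - b) := by
  induction p using Polynomial.induction_on' with
  | add p q hp hq =>
    obtain ⟨Q1, h1⟩ := hp
    obtain ⟨Q2, h2⟩ := hq
    refine ⟨Q1 + Q2, ?_⟩
    rw [map_add, map_add, add_mul, ← h1, ← h2]
    abel
  | monomial n c =>
    refine ⟨algebraMap R 𝔸 c * ∑ i ∈ Finset.range n, a ^ i * b ^ (n - 1 - i), ?_⟩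
    rw [Polynomial.aeval_monomial, Polynomial.aeval_monomial, mul_assoc, h.geom_sum₂_mul, mul_sub]

theorem charpoly_dvd_pow {R : Type*} [CommRing R] {n : Type*} [Fintype n] [DecidableEq n]
    (M : Matrix n n R) (P : R[X]) (h : Polynomial.aeval M P = 0) :
    M.charpoly ∣ P ^ Fintype.card n := by
  let 𝕐 : Matrix n n R[X] := algebraMap R[X] (Matrix n n R[X]) Polynomial.X
  let φ : Matrix n n R →ₐ[R] Matrix n n R[X] := (Polynomial.CAlgHom (R := R) (A := R)).mapMatrix
  let 𝕄 : Matrix n n R[X] := φ M
  have hcomm : Commute 𝕐 𝕄 := Algebra.commutes _ _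
  obtain ⟨Q, hQ⟩ := exists_mul_sub_eq (R := R[X]) 𝕐 𝕄 hcomm (P.map Polynomial.C)
  have h1 : Polynomial.aeval 𝕐 (P.map Polynomial.C) = algebraMap R[X] (Matrix n n R[X]) P := by
    rw [Polynomial.aeval_algebraMap_apply_eq_algebraMap_eval, Polynomial.eval_map,
      Polynomial.eval₂_C_X]
  have h2 : Polynomial.aeval 𝕄 (P.map Polynomial.C) = 0 := by
    have h3 : Polynomial.aeval 𝕄 (P.map (algebraMap R R[X])) = Polynomial.aeval 𝕄 P :=
      Polynomial.aeval_map_algebraMap (A := R[X]) 𝕄 P
    rw [Polynomial.algebraMap_eq] at h3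
    rw [h3, Polynomial.aeval_algHom_apply, h, map_zero]
  rw [h1, h2, sub_zero] at hQ
  have hcm : 𝕐 - 𝕄 = Matrix.charmatrix M := by
    ext i j
    simp [𝕐, 𝕄, φ, Matrix.charmatrix, Matrix.algebraMap_matrix_apply, Matrix.diagonal_apply]
  rw [hcm] at hQ
  have h3 := congrArg Matrix.det hQ
  rw [Matrix.det_mul] at h3
  have h4 : (algebraMap R[X] (Matrix n n R[X]) P).det = P ^ Fintype.card n := by
    rw [Matrix.algebraMap_eq_diagonal, Matrix.det_diagonal]
    simp
  rw [h4] at h3
  exact ⟨Q.det, by rw [h3, Matrix.charpoly, mul_comm]⟩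

/-- a determinant of a matrix killed by a monic polynomial with coefficients in `R''` is integral
over `R''` -/
theorem isIntegralElem_det {R'' R' : Type*} [CommRing R''] [CommRing R'] (f : R'' →+* R')
    {n : Type*} [Fintype n] [DecidableEq n]
    (M : Matrix n n R') (g : R''[X]) (hg : g.Monic) (h : Polynomial.aeval M (g.map f) = 0) :
    f.IsIntegralElem M.det := by
  have hdvd := charpoly_dvd_pow M (g.map f) h
  letI := f.toAlgebra
  have hc : ∀ i, IsIntegral R'' (M.charpoly.coeff i) := fun i =>
    Polynomial.isIntegral_coeff_of_dvd (g ^ Fintype.card n) M.charpoly (hg.pow _)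
      (Matrix.charpoly_monic M) (by rw [Polynomial.map_pow]; exact hdvd) i
  have hd : IsIntegral R'' M.det := by
    rw [Matrix.det_eq_sign_charpoly_coeff]
    exact IsIntegral.mul ((isIntegral_one.neg).pow _) (hc 0)
  exact hd

end Groth.Agent.Helper8.NormBCA
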