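import Mathlib
import Groth.Agent.Helper4.McCoy
import Groth.Agent.Helper8.NormBCA

/-!
# Norms for `L ⊗ R` over `K ⊗ R`

For a finite field extension `L / K` over a field `k` and a `k`-algebra `R`: the free algebra
`L ⊗ R` over `K ⊗ R`, functoriality of its norm in `R`, integrality of norms of elements coming
from the integral closure, and the regularity criterion.
-/

set_option autoImplicit false
set_option linter.unusedSectionVars false
set_option linter.style.haveILetI false
universe u

open scoped TensorProduct

namespace Groth.Agent.Helper8.NormBCB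

section setup

variable (k K L R : Type u) [Field k] [Field K] [Field L] [Algebra k K] [Algebra K L]
  [Algebra k L] [IsScalarTower k K L] [FiniteDimensional K L] [CommRing R] [Algebra k R]

/-- the algebra structure of `L ⊗ R` over `K ⊗ R` -/
@[reducible] noncomputable def algKL : Algebra (K ⊗[k] R) (L ⊗[k] R) :=
  (Algebra.TensorProduct.map (IsScalarTower.toAlgHom k K L) (AlgHom.id k R)).toRingHom.toAlgebra

attribute [local instance] algKL

theorem algebraMap_tmul (c : K) (r : R) :
    algebraMap (K ⊗[k] R) (L ⊗[k] R) (c ⊗ₜ r) = (algebraMap K L c) ⊗ₜ r := by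
  rw [RingHom.algebraMap_toAlgebra]
  simp

instance towerKKRLR : IsScalarTower K (K ⊗[k] R) (L ⊗[k] R) :=
  IsScalarTower.of_algebraMap_eq (fun c => by
    rw [Algebra.TensorProduct.algebraMap_apply, Algebra.TensorProduct.algebraMap_apply,
      algebraMap_tmul]
    simp)

theorem isPushout : Algebra.IsPushout K (K ⊗[k] R) L (L ⊗[k] R) := by
  apply Algebra.IsPushout.symm
  apply Algebra.IsPushout.tensorProduct_tensorProduct k R K L
  ext r
  simp [algebraMap_tmul]

/-- the basis of `L ⊗ R` over `K ⊗ R` -/
noncomputable def basisR : Module.Basis (Fin (Module.finrank K L)) (K ⊗[k] R) (L ⊗[k] R) :=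
  IsBaseChange.basis (Module.finBasis K L) (isPushout k K L R).out

theorem basisR_apply (i : Fin (Module.finrank K L)) :
    basisR k K L R i = (Module.finBasis K L i) ⊗ₜ 1 := by
  unfold basisR
  rw [IsBaseChange.basis_apply]
  simp [Algebra.TensorProduct.algebraMap_apply]

theorem free : Module.Free (K ⊗[k] R) (L ⊗[k] R) := Module.Free.of_basis (basisR k K L R)

theorem finite : Module.Finite (K ⊗[k] R) (L ⊗[k] R) := Module.Finite.of_basis (basisR k K L R)

/-- a regular scalar acts injectively -/
theorem eq_zero_of_smul_eq_zero (N : K ⊗[k] R) (hN : IsRegular N) (y : L ⊗[k] R)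
    (h : algebraMap (K ⊗[k] R) (L ⊗[k] R) N * y = 0) : y = 0 := by
  rw [← Algebra.smul_def] at h
  apply (basisR k K L R).repr.injective
  ext i
  have h1 := congrArg (fun v => (basisR k K L R).repr v i) h
  simp only [map_smul, Finsupp.smul_apply, smul_eq_mul, map_zero, Finsupp.zero_apply] at h1
  rw [map_zero, Finsupp.zero_apply]
  exact hN.left (show N * _ = N * 0 by rw [h1, mul_zero])

/-- Cayley–Hamilton: the norm is a multiple of the element -/
theorem exists_mul_eq_norm (x : L ⊗[k] R) :
    ∃ γ : L ⊗[k] R, x * γ = algebraMap (K ⊗[k] R) (L ⊗[k] R) (Algebra.norm (K ⊗[k] R) x) := by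
  classical
  set M := Algebra.leftMulMatrix (basisR k K L R) x with hM
  have h1 : Polynomial.aeval x M.charpoly = 0 := by
    apply Algebra.leftMulMatrix_injective (basisR k K L R)
    rw [← Polynomial.aeval_algHom_apply, map_zero]
    exact Matrix.aeval_self_charpoly M
  have h2 : M.charpoly = Polynomial.X * M.charpoly.divX + Polynomial.C (M.charpoly.coeff 0) :=
    (Polynomial.X_mul_divX_add M.charpoly).symm
  rw [h2, map_add, map_mul, Polynomial.aeval_X, Polynomial.aeval_C] at h1
  have h3 : Algebra.norm (K ⊗[k] R) x =
      (-1) ^ Fintype.card (Fin (Module.finrank K L)) * M.charpoly.coeff 0 := by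
    rw [Algebra.norm_eq_matrix_det (basisR k K L R), Matrix.det_eq_sign_charpoly_coeff]
  refine ⟨- ((-1) ^ Fintype.card (Fin (Module.finrank K L)) *
    Polynomial.aeval x M.charpoly.divX), ?_⟩
  rw [h3, map_mul, map_pow, map_neg, map_one]
  have h4 : algebraMap (K ⊗[k] R) (L ⊗[k] R) (M.charpoly.coeff 0) =
      - (x * Polynomial.aeval x M.charpoly.divX) := eq_neg_of_add_eq_zero_right h1
  rw [h4]
  ring

/-- regular elements have regular norm (McCoy) -/
theorem isRegular_norm_of_isRegular (x : L ⊗[k] R) (hx : IsRegular x) :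
    IsRegular (Algebra.norm (K ⊗[k] R) x) := by
  classical
  rw [isRegular_iff_mem_nonZeroDivisors, mem_nonZeroDivisors_iff_right]
  intro a ha
  rw [Algebra.norm_eq_matrix_det (basisR k K L R)] at ha
  set M := Algebra.leftMulMatrix (basisR k K L R) x with hM
  have hinj : Function.Injective (Matrix.mulVecLin M) := by
    rw [← LinearMap.ker_eq_bot, LinearMap.ker_eq_bot']
    intro v hv
    have hv' : M.mulVec v = 0 := hv
    have h1 : M.mulVec ((basisR k K L R).repr ((basisR k K L R).equivFun.symm v)) =
        (basisR k K L R).repr (x * (basisR k K L R).equivFun.symm v) :=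
      Algebra.leftMulMatrix_mulVec_repr (basisR k K L R) x _
    have h2 : ((basisR k K L R).repr ((basisR k K L R).equivFun.symm v) : _ → _) = v := by
      have := (basisR k K L R).equivFun.apply_symm_apply v
      exact this
    rw [h2, hv'] at h1
    have h3 : x * (basisR k K L R).equivFun.symm v = 0 := by
      apply (basisR k K L R).repr.injective
      ext i
      rw [map_zero, Finsupp.zero_apply]
      exact (congrFun h1 i).symm
    have h4 : (basisR k K L R).equivFun.symm v = 0 :=
      hx.left (show x * _ = x * 0 by rw [h3, mul_zero])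
    have h5 := congrArg (basisR k K L R).equivFun h4
    rw [LinearEquiv.apply_symm_apply, map_zero] at h5
    exact h5
  refine Groth.Agent.Helper4.McCoy.kills_all_id M hinj a (fun f => ?_)
  by_cases hf : Function.Injective f
  · have hbij : Function.Bijective f := Finite.injective_iff_bijective.mp hf
    have h1 : M.submatrix f id = M.submatrix (Equiv.ofBijective f hbij) id := rfl
    rw [h1, Matrix.det_permute, mul_left_comm, ha, mul_zero]
  · rw [Function.Injective] at hf
    push Not at hf
    obtain ⟨p, q, hpq, hne⟩ := hf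
    rw [Matrix.det_zero_of_row_eq hne, mul_zero]
    ext j
    simp [Matrix.submatrix_apply, hpq]

end setup

section functoriality

variable (k K L : Type u) [Field k] [Field K] [Field L] [Algebra k K] [Algebra K L]
  [Algebra k L] [IsScalarTower k K L] [FiniteDimensional K L]
  {R₀ R : Type u} [CommRing R₀] [Algebra k R₀] [CommRing R] [Algebra k R] (φ : R₀ →ₐ[k] R)

attribute [local instance] algKL

theorem PhiL_algebraMap (c : K ⊗[k] R₀) :
    (Algebra.TensorProduct.map (AlgHom.id k L) φ) (algebraMap (K ⊗[k] R₀) (L ⊗[k] R₀) c) =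
    algebraMap (K ⊗[k] R) (L ⊗[k] R) ((Algebra.TensorProduct.map (AlgHom.id k K) φ) c) := by
  induction c using TensorProduct.induction_on with
  | zero => simp
  | tmul c r => simp [algebraMap_tmul]
  | add x y hx hy => simp only [map_add, hx, hy]

theorem PhiL_basisR (j : Fin (Module.finrank K L)) :
    (Algebra.TensorProduct.map (AlgHom.id k L) φ) (basisR k K L R₀ j) = basisR k K L R j := by
  rw [basisR_apply, basisR_apply]
  simp

theorem repr_PhiL (y : L ⊗[k] R₀) (i : Fin (Module.finrank K L)) :
    (basisR k K L R).repr ((Algebra.TensorProduct.map (AlgHom.id k L) φ) y) i =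
      (Algebra.TensorProduct.map (AlgHom.id k K) φ) ((basisR k K L R₀).repr y i) := by
  have hy : y = ∑ j, ((basisR k K L R₀).repr y j) • (basisR k K L R₀ j) :=
    ((basisR k K L R₀).sum_repr y).symm
  have h2 : (Algebra.TensorProduct.map (AlgHom.id k L) φ) y =
      ∑ j, ((Algebra.TensorProduct.map (AlgHom.id k K) φ) ((basisR k K L R₀).repr y j)) •
        (basisR k K L R j) := by
    conv_lhs => rw [hy]
    rw [map_sum]
    refine Finset.sum_congr rfl (fun j _ => ?_)
    rw [Algebra.smul_def, map_mul, PhiL_algebraMap, PhiL_basisR, ← Algebra.smul_def]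
  rw [h2]
  exact congrFun ((basisR k K L R).repr_sum_self _) i

theorem norm_PhiL (x : L ⊗[k] R₀) :
    Algebra.norm (K ⊗[k] R) ((Algebra.TensorProduct.map (AlgHom.id k L) φ) x) =
      (Algebra.TensorProduct.map (AlgHom.id k K) φ) (Algebra.norm (K ⊗[k] R₀) x) := by
  classical
  rw [Algebra.norm_eq_matrix_det (basisR k K L R), Algebra.norm_eq_matrix_det (basisR k K L R₀),
    AlgHom.map_det]
  congr 1
  ext i j
  rw [Algebra.leftMulMatrix_eq_repr_mul, AlgHom.mapMatrix_apply, Matrix.map_apply,
    Algebra.leftMulMatrix_eq_repr_mul, ← repr_PhiL,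
    map_mul (Algebra.TensorProduct.map (AlgHom.id k L) φ), PhiL_basisR]

end functoriality

end Groth.Agent.Helper8.NormBCB
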