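import Mathlib
import Groth.Agent.Helper8.NormBCB

/-!
# The norm of `B ⊗ R` lands in `A ⊗ R`, and the regularity criterion
-/

set_option autoImplicit false
set_option linter.unusedSectionVars false
set_option linter.style.haveILetI false
universe u

open scoped TensorProduct

namespace Groth.Agent.Helper8.NormBCC

open Groth.Agent.Helper8.NormBCB

section poly

variable (k A K : Type u) [Field k] [CommRing A] [IsDomain A] [IsIntegrallyClosed A]
  [Algebra k A] [Field K] [Algebra A K] [IsFractionRing A K] [Algebra k K] [IsScalarTower k A K]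
  (ι : Type)

attribute [local instance] MvPolynomial.algebraMvPolynomial

theorem theta_sq (t : A ⊗[k] MvPolynomial ι k) :
    MvPolynomial.algebraTensorAlgEquiv k K
      ((Algebra.TensorProduct.map (IsScalarTower.toAlgHom k A K)
        (AlgHom.id k (MvPolynomial ι k))) t) =
    MvPolynomial.map (algebraMap A K) (MvPolynomial.algebraTensorAlgEquiv k A t) := by
  induction t using TensorProduct.induction_on with
  | zero => simp
  | tmul a p =>
    rw [Algebra.TensorProduct.map_tmul, MvPolynomial.algebraTensorAlgEquiv_tmul,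
      MvPolynomial.algebraTensorAlgEquiv_tmul, MvPolynomial.smul_eq_C_mul,
      MvPolynomial.smul_eq_C_mul, map_mul, MvPolynomial.map_C, MvPolynomial.map_map,
      ← IsScalarTower.algebraMap_eq]
    rfl
  | add x y hx hy => simp only [map_add, hx, hy]

/-- `A ⊗ k[T]` is integrally closed in `K ⊗ k[T]` -/
theorem mem_range_of_isIntegralElem (z : K ⊗[k] MvPolynomial ι k)
    (hz : (Algebra.TensorProduct.map (IsScalarTower.toAlgHom k A K)
      (AlgHom.id k (MvPolynomial ι k))).toRingHom.IsIntegralElem z) :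
    z ∈ Set.range (Algebra.TensorProduct.map (IsScalarTower.toAlgHom k A K)
      (AlgHom.id k (MvPolynomial ι k))) := by
  obtain ⟨g, hg, hgz⟩ := hz
  have hint : IsIntegral (MvPolynomial ι A) (MvPolynomial.algebraTensorAlgEquiv k K z) := by
    refine ⟨g.map (MvPolynomial.algebraTensorAlgEquiv k A (σ := ι) :
      A ⊗[k] MvPolynomial ι k →+* MvPolynomial ι A), hg.map _, ?_⟩
    rw [Polynomial.eval₂_map]
    have hcomp : (algebraMap (MvPolynomial ι A) (MvPolynomial ι K)).comp
        (MvPolynomial.algebraTensorAlgEquiv k A (σ := ι) :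
          A ⊗[k] MvPolynomial ι k →+* MvPolynomial ι A) =
        ((MvPolynomial.algebraTensorAlgEquiv k K (σ := ι) :
          K ⊗[k] MvPolynomial ι k →+* MvPolynomial ι K)).comp
        (Algebra.TensorProduct.map (IsScalarTower.toAlgHom k A K)
          (AlgHom.id k (MvPolynomial ι k))).toRingHom := by
      exact RingHom.ext (fun t => (theta_sq k A K ι t).symm)
    rw [hcomp]
    have h1 := Polynomial.hom_eval₂ g (Algebra.TensorProduct.map (IsScalarTower.toAlgHom k A K)
      (AlgHom.id k (MvPolynomial ι k))).toRingHom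
      (MvPolynomial.algebraTensorAlgEquiv k K (σ := ι) :
        K ⊗[k] MvPolynomial ι k →+* MvPolynomial ι K) z
    rw [hgz, map_zero] at h1
    exact h1.symm
  have hcoeff := MvPolynomial.isIntegral_iff_isIntegral_coeff.mp hint
  obtain ⟨q, hq⟩ : MvPolynomial.algebraTensorAlgEquiv k K z ∈
      RingHom.range (MvPolynomial.map (algebraMap A K)) := by
    refine MvPolynomial.mem_range_map_iff_coeffs_subset.mpr ?_
    intro c hc
    rw [Finset.mem_coe, MvPolynomial.mem_coeffs_iff] at hc
    obtain ⟨n, -, rfl⟩ := hc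
    exact IsIntegrallyClosed.isIntegral_iff.mp (hcoeff n)
  refine ⟨(MvPolynomial.algebraTensorAlgEquiv k A (σ := ι)).symm q, ?_⟩
  apply (MvPolynomial.algebraTensorAlgEquiv k K (σ := ι)).injective
  rw [theta_sq, AlgEquiv.apply_symm_apply, hq]

end poly

section main

variable (k A K L R : Type u) [Field k]
  [CommRing A] [IsDomain A] [IsIntegrallyClosed A] [Algebra k A]
  [Field K] [Algebra A K] [IsFractionRing A K] [Algebra k K] [IsScalarTower k A K]
  [Field L] [Algebra K L] [FiniteDimensional K L] [Algebra A L] [IsScalarTower A K L]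
  [Algebra k L] [IsScalarTower k K L] [IsScalarTower k A L]
  [CommRing R] [Algebra k R]

attribute [local instance] algKL

/-- the map `B ⊗ R → L ⊗ R` -/
noncomputable abbrev iotaL : (integralClosure A L) ⊗[k] R →ₐ[k] L ⊗[k] R :=
  Algebra.TensorProduct.map ((integralClosure A L).val.restrictScalars k) (AlgHom.id k R)

/-- the map `A ⊗ R → K ⊗ R` -/
noncomputable abbrev iotaK : A ⊗[k] R →ₐ[k] K ⊗[k] R :=
  Algebra.TensorProduct.map (IsScalarTower.toAlgHom k A K) (AlgHom.id k R)

theorem iotaL_injective : Function.Injective (iotaL k A L R) := by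
  have h : Function.Injective
      (((integralClosure A L).val.restrictScalars k).toLinearMap.rTensor R) :=
    Module.Flat.rTensor_preserves_injective_linearMap _ Subtype.val_injective
  intro x y hxy
  apply h
  exact hxy

theorem exists_sum_tmul (β : (integralClosure A L) ⊗[k] R) :
    ∃ (ι : Type) (_ : Fintype ι) (b : ι → integralClosure A L) (r : ι → R),
      β = ∑ i, b i ⊗ₜ[k] r i := by
  induction β using TensorProduct.induction_on with
  | zero => exact ⟨PEmpty, inferInstance, PEmpty.elim, PEmpty.elim, by simp⟩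
  | tmul b r => exact ⟨PUnit, inferInstance, fun _ => b, fun _ => r, by simp⟩
  | add x y hx hy =>
    obtain ⟨ι₁, _, b₁, r₁, rfl⟩ := hx
    obtain ⟨ι₂, _, b₂, r₂, rfl⟩ := hy
    refine ⟨ι₁ ⊕ ι₂, inferInstance, Sum.elim b₁ b₂, Sum.elim r₁ r₂, ?_⟩
    rw [Fintype.sum_sum_type]
    simp

/-- the norm of an element of `B ⊗ R` is integral over `A ⊗ R` -/
theorem isIntegralElem_norm (β : (integralClosure A L) ⊗[k] R) :
    (iotaK k A K R).toRingHom.IsIntegralElem (Algebra.norm (K ⊗[k] R) (iotaL k A L R β)) := by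
  classical
  -- `iotaL β` is integral over `A ⊗ R`
  let ψ : A ⊗[k] R →+* L ⊗[k] R :=
    (algebraMap (K ⊗[k] R) (L ⊗[k] R)).comp (iotaK k A K R).toRingHom
  have hψ : ∀ (a : A) (r : R), ψ (a ⊗ₜ r) = (algebraMap A L a) ⊗ₜ r := by
    intro a r
    simp [ψ, algebraMap_tmul, ← IsScalarTower.algebraMap_apply]
  have hint : ψ.IsIntegralElem (iotaL k A L R β) := by
    induction β using TensorProduct.induction_on with
    | zero => rw [map_zero]; exact ψ.isIntegralElem_zero
    | add x y hx hy => rw [map_add]; exact RingHom.IsIntegralElem.add ψ hx hy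
    | tmul b r =>
      have h1 : iotaL k A L R (b ⊗ₜ r) = ((b : L) ⊗ₜ[k] (1 : R)) * ψ (1 ⊗ₜ r) := by
        rw [hψ, map_one]
        simp
      rw [h1]
      refine RingHom.IsIntegralElem.mul ψ ?_ (ψ.isIntegralElem_map)
      obtain ⟨g, hg, hgb⟩ := b.2
      refine ⟨g.map (Algebra.TensorProduct.includeLeft (R := k) (S := k) (A := A) (B := R) :
        A →ₐ[k] A ⊗[k] R).toRingHom, hg.map _, ?_⟩
      rw [Polynomial.eval₂_map]
      have hcomp : ψ.comp (Algebra.TensorProduct.includeLeft (R := k) (S := k) (A := A) (B := R) :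
          A →ₐ[k] A ⊗[k] R).toRingHom =
          ((Algebra.TensorProduct.includeLeft (R := k) (S := k) (A := L) (B := R) :
            L →ₐ[k] L ⊗[k] R).toRingHom).comp (algebraMap A L) := by
        ext a
        simp [hψ]
      rw [hcomp]
      have h2 := Polynomial.hom_eval₂ g (algebraMap A L)
        ((Algebra.TensorProduct.includeLeft (R := k) (S := k) (A := L) (B := R) :
            L →ₐ[k] L ⊗[k] R).toRingHom) (b : L)
      rw [hgb, map_zero] at h2
      exact h2.symm
  obtain ⟨g, hg, hgx⟩ := hint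
  rw [Algebra.norm_eq_matrix_det (basisR k K L R)]
  refine Groth.Agent.Helper8.NormBCA.isIntegralElem_det (iotaK k A K R).toRingHom _ g hg ?_
  rw [Polynomial.aeval_algHom_apply, Polynomial.aeval_def, Polynomial.eval₂_map]
  have : Polynomial.eval₂ ((algebraMap (K ⊗[k] R) (L ⊗[k] R)).comp (iotaK k A K R).toRingHom)
      (iotaL k A L R β) g = 0 := hgx
  rw [this, map_zero]

omit [IsDomain A] [IsIntegrallyClosed A] [IsFractionRing A K] [FiniteDimensional K L] in
theorem iotaL_Phi {R₀ : Type u} [CommRing R₀] [Algebra k R₀] (φ : R₀ →ₐ[k] R)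
    (t : (integralClosure A L) ⊗[k] R₀) :
    iotaL k A L R ((Algebra.TensorProduct.map (AlgHom.id k (integralClosure A L)) φ) t) =
      (Algebra.TensorProduct.map (AlgHom.id k L) φ) (iotaL k A L R₀ t) := by
  induction t using TensorProduct.induction_on with
  | zero => simp
  | tmul b r => simp
  | add x y hx hy => simp only [map_add, hx, hy]

omit [IsDomain A] [IsIntegrallyClosed A] [IsFractionRing A K] in
theorem iotaK_Phi {R₀ : Type u} [CommRing R₀] [Algebra k R₀] (φ : R₀ →ₐ[k] R)
    (t : A ⊗[k] R₀) :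
    (Algebra.TensorProduct.map (AlgHom.id k K) φ) (iotaK k A K R₀ t) =
      iotaK k A K R ((Algebra.TensorProduct.map (AlgHom.id k A) φ) t) := by
  induction t using TensorProduct.induction_on with
  | zero => simp
  | tmul b r => simp
  | add x y hx hy => simp only [map_add, hx, hy]

/-- the norm of an element of `B ⊗ R` comes from `A ⊗ R` -/
theorem norm_mem_range (β : (integralClosure A L) ⊗[k] R) :
    Algebra.norm (K ⊗[k] R) (iotaL k A L R β) ∈ Set.range (iotaK k A K R) := by
  obtain ⟨ι, _, b, r, rfl⟩ := exists_sum_tmul k A L R β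
  let φ : MvPolynomial ι k →ₐ[k] R := MvPolynomial.aeval r
  let β₀ : (integralClosure A L) ⊗[k] MvPolynomial ι k := ∑ i, b i ⊗ₜ[k] MvPolynomial.X i
  have hβ : (Algebra.TensorProduct.map (AlgHom.id k (integralClosure A L)) φ) β₀ =
      ∑ i, b i ⊗ₜ[k] r i := by
    simp [β₀, φ]
  have h1 := isIntegralElem_norm k A K L (MvPolynomial ι k) β₀
  obtain ⟨α₀, hα₀⟩ := mem_range_of_isIntegralElem k A K ι _ h1
  refine ⟨(Algebra.TensorProduct.map (AlgHom.id k A) φ) α₀, ?_⟩
  rw [← iotaK_Phi, hα₀, ← norm_PhiL, ← iotaL_Phi, hβ]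

/-- clearing denominators -/
theorem exists_denominator (halgL : ∀ l : L, IsAlgebraic A l) (y : L ⊗[k] R) :
    ∃ a : A, a ≠ 0 ∧ ∃ c : (integralClosure A L) ⊗[k] R,
      iotaL k A L R c = ((algebraMap A L a) ⊗ₜ[k] (1 : R)) * y := by
  have hmul : ∀ (a : A) (c : (integralClosure A L) ⊗[k] R),
      iotaL k A L R (((algebraMap A (integralClosure A L) a) ⊗ₜ[k] (1 : R)) * c) =
        ((algebraMap A L a) ⊗ₜ[k] (1 : R)) * iotaL k A L R c := by
    intro a c
    rw [map_mul]
    congr 1
  induction y using TensorProduct.induction_on with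
  | zero => exact ⟨1, one_ne_zero, 0, by simp⟩
  | tmul l r =>
    obtain ⟨a, ha, hal⟩ := (halgL l).exists_integral_multiple
    refine ⟨a, ha, (⟨a • l, hal⟩ : integralClosure A L) ⊗ₜ[k] r, ?_⟩
    simp [Algebra.smul_def]
  | add y₁ y₂ h₁ h₂ =>
    obtain ⟨a₁, ha₁, c₁, hc₁⟩ := h₁
    obtain ⟨a₂, ha₂, c₂, hc₂⟩ := h₂
    refine ⟨a₁ * a₂, mul_ne_zero ha₁ ha₂,
      ((algebraMap A (integralClosure A L) a₂) ⊗ₜ[k] (1 : R)) * c₁ +
      ((algebraMap A (integralClosure A L) a₁) ⊗ₜ[k] (1 : R)) * c₂, ?_⟩
    rw [map_add, hmul, hmul, hc₁, hc₂, map_mul, mul_add]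
    have e1 : ((algebraMap A L a₁ * algebraMap A L a₂) ⊗ₜ[k] (1 : R)) =
        ((algebraMap A L a₁) ⊗ₜ[k] (1 : R)) * ((algebraMap A L a₂) ⊗ₜ[k] (1 : R)) := by
      simp
    rw [e1]
    ring

theorem regular_iff (β : (integralClosure A L) ⊗[k] R) :
    IsRegular β ↔ IsRegular (Algebra.norm (K ⊗[k] R) (iotaL k A L R β)) := by
  constructor
  · intro hβ
    apply isRegular_norm_of_isRegular
    rw [isRegular_iff_mem_nonZeroDivisors, mem_nonZeroDivisors_iff_right]
    intro y hy
    obtain ⟨a, ha, c, hc⟩ := exists_denominator k A L R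
      (fun l => (IsFractionRing.isAlgebraic_iff A K L).mpr (Algebra.IsAlgebraic.isAlgebraic l)) y
    have h1 : iotaL k A L R (c * β) = 0 := by
      rw [map_mul, hc, mul_assoc, hy, mul_zero]
    have h2 : c * β = 0 := iotaL_injective k A L R (by rw [h1, map_zero])
    have h3 : c = 0 :=
      (mem_nonZeroDivisors_iff_right.mp (isRegular_iff_mem_nonZeroDivisors.mp hβ)) c h2
    rw [h3, map_zero] at hc
    have haL : algebraMap A L a ≠ 0 := by
      rw [IsScalarTower.algebraMap_apply A K L]
      intro h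
      have h' := (map_eq_zero (algebraMap K L)).mp h
      exact ha ((IsFractionRing.to_map_eq_zero_iff (K := K)).mp h')
    have h4 : (((algebraMap A L a)⁻¹) ⊗ₜ[k] (1 : R)) *
        (((algebraMap A L a) ⊗ₜ[k] (1 : R)) * y) = y := by
      rw [← mul_assoc, Algebra.TensorProduct.tmul_mul_tmul, inv_mul_cancel₀ haL, mul_one]
      exact one_mul y
    rw [← h4, ← hc, mul_zero]
  · intro hN
    rw [isRegular_iff_mem_nonZeroDivisors, mem_nonZeroDivisors_iff_right]
    intro c hc
    obtain ⟨γ, hγ⟩ := exists_mul_eq_norm k K L R (iotaL k A L R β)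
    have h1 : algebraMap (K ⊗[k] R) (L ⊗[k] R)
        (Algebra.norm (K ⊗[k] R) (iotaL k A L R β)) * iotaL k A L R c = 0 := by
      rw [← hγ, mul_comm (iotaL k A L R β) γ, mul_assoc, ← map_mul, mul_comm β c, hc, map_zero,
        mul_zero]
    have h2 := eq_zero_of_smul_eq_zero k K L R _ hN _ h1
    exact iotaL_injective k A L R (by rw [h2, map_zero])

theorem main :
    Module.Free (K ⊗[k] R) (L ⊗[k] R) ∧ Module.Finite (K ⊗[k] R) (L ⊗[k] R) ∧
      ∀ b : (integralClosure A L) ⊗[k] R,
        Algebra.norm (K ⊗[k] R)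
            (Algebra.TensorProduct.map ((integralClosure A L).val.restrictScalars k)
              (AlgHom.id k R) b) ∈
          Set.range (Algebra.TensorProduct.map (IsScalarTower.toAlgHom k A K) (AlgHom.id k R)) ∧
        (IsRegular b ↔ IsRegular (Algebra.norm (K ⊗[k] R)
            (Algebra.TensorProduct.map ((integralClosure A L).val.restrictScalars k)
              (AlgHom.id k R) b))) :=
  ⟨free k K L R, finite k K L R, fun b => ⟨norm_mem_range k A K L R b, regular_iff k A K L R b⟩⟩

end main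

end Groth.Agent.Helper8.NormBCC
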