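import Groth.Statements.S16455

set_option autoImplicit false
universe u
open DirectSum

namespace Groth.Agent.Helper8.NormFlat

variable {A : Type u} [CommRing A] (I : Ideal A) (M : Type u) [AddCommGroup M] [Module A M]

/-- the `n`-th piece `IⁿM / I·IⁿM`. -/
abbrev P (n : ℕ) : Type u :=
  ↥(I ^ n • (⊤ : Submodule A M)) ⧸ (I • (⊤ : Submodule A ↥(I ^ n • (⊤ : Submodule A M))))

instance instTowerP (n : ℕ) : IsScalarTower A (A ⧸ I) (P I M n) :=
  Module.IsTorsionBySet.isScalarTower (Module.isTorsionBySet_quotient_ideal_smul _ I)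

/-- `A`-linear map `IⁿM → gr`. -/
noncomputable def psi (n : ℕ) :
    ↥(I ^ n • (⊤ : Submodule A M)) →ₗ[A] AssocGr.GrMod (Rees.powFilt I M) where
  toFun x := (AssocGr.inDegM (Rees.powFilt I M) n x : AssocGr.GrMod (Rees.powFilt I M))
  map_add' x y := by
    have h := map_add (AssocGr.inDegM (Rees.powFilt I M) n) x y
    exact congrArg Subtype.val h
  map_smul' a x := AssocGr.coe_inDegM_smul (Rees.powFilt I M) n a x

theorem psi_apply (n : ℕ) (x : ↥(I ^ n • (⊤ : Submodule A M))) :
    psi I M n x = (AssocGr.inDegM (Rees.powFilt I M) n x : AssocGr.GrMod (Rees.powFilt I M)) := rfl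

theorem psi_mem (n : ℕ) (x : ↥(I ^ n • (⊤ : Submodule A M))) :
    psi I M n x ∈ AssocGr.grM (Rees.powFilt I M) n :=
  (AssocGr.inDegM (Rees.powFilt I M) n x).2

theorem ker_psi (n : ℕ) : LinearMap.ker (psi I M n) =
    I • (⊤ : Submodule A ↥(I ^ n • (⊤ : Submodule A M))) := by
  ext x
  rw [LinearMap.mem_ker, Submodule.mem_smul_top_iff]
  have h := AssocGr.inDegM_eq_zero_iff (Rees.powFilt I M) n x
  have h2 : psi I M n x = 0 ↔ AssocGr.inDegM (Rees.powFilt I M) n x = 0 := by
    rw [← ZeroMemClass.coe_eq_zero]; rfl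
  rw [h2, h]
  have h3 : (Rees.powFilt I M).N (n + 1) = I • (I ^ n • (⊤ : Submodule A M)) := by
    show I ^ (n + 1) • (⊤ : Submodule A M) = _
    rw [pow_succ', Submodule.mul_smul]
  rw [h3]

/-- the induced injective map on the quotient. -/
noncomputable def phi (n : ℕ) : P I M n →ₗ[A] AssocGr.GrMod (Rees.powFilt I M) :=
  Submodule.liftQ _ (psi I M n) (le_of_eq (ker_psi I M n).symm)

theorem phi_mk (n : ℕ) (x : ↥(I ^ n • (⊤ : Submodule A M))) :
    phi I M n (Submodule.Quotient.mk x) = psi I M n x := rfl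

theorem phi_injective (n : ℕ) : Function.Injective (phi I M n) := by
  rw [← LinearMap.ker_eq_bot]
  exact Submodule.ker_liftQ_eq_bot' _ _ (ker_psi I M n).symm

theorem phi_mem (n : ℕ) (p : P I M n) : phi I M n p ∈ AssocGr.grM (Rees.powFilt I M) n := by
  obtain ⟨x, rfl⟩ := Submodule.Quotient.mk_surjective _ p
  rw [phi_mk]
  exact psi_mem I M n x

/-- the total map. -/
noncomputable def Phi : (⨁ n, P I M n) →ₗ[A] AssocGr.GrMod (Rees.powFilt I M) :=
  DirectSum.toModule A ℕ _ (phi I M)

theorem Phi_lof (n : ℕ) (p : P I M n) :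
    Phi I M (DirectSum.lof A ℕ (P I M) n p) = phi I M n p := by
  unfold Phi
  rw [DirectSum.toModule_lof]

theorem Phi_of (n : ℕ) (p : P I M n) :
    Phi I M (DirectSum.of (P I M) n p) = phi I M n p := Phi_lof I M n p

theorem decompose_Phi (z : ⨁ n, P I M n) (n : ℕ) :
    ((DirectSum.decompose (AssocGr.grM (Rees.powFilt I M)) (Phi I M z) n :
      AssocGr.grM (Rees.powFilt I M) n) : AssocGr.GrMod (Rees.powFilt I M)) = phi I M n (z n) := by
  induction z using DirectSum.induction_on with
  | zero =>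
    have h1 : ((0 : ⨁ n, P I M n) n) = 0 := rfl
    rw [map_zero, DirectSum.decompose_zero, h1, map_zero]
    rfl
  | of i p =>
    rw [Phi_of]
    by_cases hin : i = n
    · subst hin
      rw [DirectSum.decompose_of_mem_same _ (phi_mem I M i p), DirectSum.of_eq_same]
    · rw [DirectSum.decompose_of_mem_ne _ (phi_mem I M i p) hin, DirectSum.of_eq_of_ne _ _ _ (Ne.symm hin),
        map_zero]
  | add x y hx hy =>
    rw [map_add, DirectSum.decompose_add, DirectSum.add_apply, DirectSum.add_apply, map_add,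
      ← hx, ← hy]
    rfl

theorem Phi_injective : Function.Injective (Phi I M) := by
  rw [injective_iff_map_eq_zero]
  intro z hz
  refine DFinsupp.ext (fun n => ?_)
  have h := decompose_Phi I M z n
  rw [hz, DirectSum.decompose_zero, DirectSum.zero_apply] at h
  have h0 : phi I M n (z n) = 0 := h.symm
  have := phi_injective I M n (h0.trans (map_zero _).symm)
  rw [this]; rfl

theorem Phi_surjective : Function.Surjective (Phi I M) := by
  classical
  intro g
  have hsum := DirectSum.sum_support_decompose (AssocGr.grM (Rees.powFilt I M)) g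
  have hmem : ∀ n : ℕ, ((DirectSum.decompose (AssocGr.grM (Rees.powFilt I M)) g n :
      AssocGr.grM (Rees.powFilt I M) n) : AssocGr.GrMod (Rees.powFilt I M)) ∈
        LinearMap.range (Phi I M) := by
    intro n
    obtain ⟨x, hx⟩ := AssocGr.inDegM_surjective (Rees.powFilt I M) n
      (DirectSum.decompose (AssocGr.grM (Rees.powFilt I M)) g n)
    refine ⟨DirectSum.lof A ℕ (P I M) n (Submodule.Quotient.mk x), ?_⟩
    rw [Phi_lof, phi_mk, psi_apply, hx]
  have : g ∈ LinearMap.range (Phi I M) := by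
    rw [← hsum]
    exact Submodule.sum_mem _ (fun n _ => hmem n)
  exact this

/-- the `A`-linear equivalence. -/
noncomputable def equivA : (⨁ n, P I M n) ≃ₗ[A] AssocGr.GrMod (Rees.powFilt I M) :=
  LinearEquiv.ofBijective (Phi I M) ⟨Phi_injective I M, Phi_surjective I M⟩

/-- the `A ⧸ I`-linear equivalence. -/
noncomputable def equivQ : (⨁ n, P I M n) ≃ₗ[A ⧸ I] AssocGr.GrMod (Rees.powFilt I M) :=
  LinearEquiv.extendScalarsOfSurjective (R := A) (S := A ⧸ I) Ideal.Quotient.mk_surjective
    (equivA I M)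

theorem main : EGA4.IsNormallyFlat I M ↔
    Module.Flat (A ⧸ I) (AssocGr.GrMod (Rees.powFilt I M)) := by
  rw [← Module.Flat.equiv_iff (equivQ I M), Module.Flat.directSum_iff]
  rfl

end Groth.Agent.Helper8.NormFlat
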