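import Mathlib
import Groth.Prelude.Def_Found
import Groth.Agent.Helper5.NormFin
import Groth.Agent.Helper5.NagataRed
import Groth.Agent.S6333

set_option autoImplicit false
set_option linter.unusedSectionVars false
set_option linter.style.haveILetI false
universe u

open AlgebraicGeometry CategoryTheory Opposite

namespace Groth.Agent.Helper8.NormNagata

/-- `D` a Noetherian N-2 domain contained in a field `L` which is a finitely generated field
extension of the fraction field of `D`: the integral closure of `D` in `L` is finite. -/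
theorem finite_integralClosure_field (D L : Type u) [CommRing D] [IsDomain D]
    [IsNoetherianRing D] [Field L] [Algebra D L] [Algebra.EssFiniteType D L]
    (hinj : Function.Injective (algebraMap D L)) (hN2 : CAlg.IsN2 D) :
    Module.Finite D (integralClosure D L) := by
  haveI : FaithfulSMul D L := (faithfulSMul_iff_algebraMap_injective D L).2 hinj
  letI : Algebra (FractionRing D) L := FractionRing.liftAlgebra D L
  haveI : IsScalarTower D (FractionRing D) L := FractionRing.isScalarTower_liftAlgebra D L
  haveI h2 : Algebra.EssFiniteType (FractionRing D) L :=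
    Algebra.EssFiniteType.of_comp D (FractionRing D) L
  have hfg : (⊤ : IntermediateField (FractionRing D) L).FG :=
    IntermediateField.fg_top_iff.2 h2
  haveI hfd : FiniteDimensional (FractionRing D) (algebraicClosure (FractionRing D) L) :=
    Groth.Agent.S6333.result hfg
  haveI hfin := hN2 (algebraicClosure (FractionRing D) L) hfd
  haveI : IsNoetherian D (integralClosure D (algebraicClosure (FractionRing D) L)) :=
    isNoetherian_of_isNoetherianRing_of_finite D _
  let f₁ : integralClosure D L →ₐ[D] L := (integralClosure D L).val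
  have hf₁int : ∀ x, IsIntegral D (f₁ x) := fun x => x.2
  have hf₁ : ∀ x, f₁ x ∈
      (algebraicClosure (FractionRing D) L).toSubalgebra.restrictScalars D := by
    intro x
    show f₁ x ∈ algebraicClosure (FractionRing D) L
    rw [mem_algebraicClosure_iff']
    exact (hf₁int x).tower_top
  let f₂ : integralClosure D L →ₐ[D] algebraicClosure (FractionRing D) L :=
    f₁.codRestrict _ hf₁
  have hf₂ : ∀ x, f₂ x ∈ integralClosure D (algebraicClosure (FractionRing D) L) := by
    intro x
    have h3 : IsIntegral D (((algebraicClosure (FractionRing D) L).val.restrictScalars D)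
        (f₂ x)) := hf₁int x
    exact (isIntegral_algHom_iff _ (by
      intro a b hab
      exact Subtype.ext hab)).1 h3
  let f₃ : integralClosure D L →ₐ[D] integralClosure D (algebraicClosure (FractionRing D) L) :=
    f₂.codRestrict _ hf₂
  refine Module.Finite.of_injective f₃.toLinearMap ?_
  intro x y hxy
  have h4 : f₁ x = f₁ y := by
    have := congrArg (fun z : integralClosure D (algebraicClosure (FractionRing D) L) =>
      (((z : algebraicClosure (FractionRing D) L)) : L)) hxy
    exact this
  exact Subtype.ext h4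

/-- Over a Nagata ring `R`, the integral closure of `R` in a field essentially of finite type
over `R` is finite. -/
theorem finite_integralClosure_of_field (R : Type u) [CommRing R] (hR : CAlg.IsNagata R)
    (L : Type u) [Field L] [Algebra R L] [Algebra.EssFiniteType R L] :
    Module.Finite R (integralClosure R L) := by
  haveI := hR.1
  haveI hp : (RingHom.ker (algebraMap R L)).IsPrime := RingHom.ker_isPrime _
  have hN2 := hR.2 (RingHom.ker (algebraMap R L))
  letI : Algebra (R ⧸ RingHom.ker (algebraMap R L)) L :=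
    (RingHom.kerLift (algebraMap R L)).toAlgebra
  haveI : IsScalarTower R (R ⧸ RingHom.ker (algebraMap R L)) L :=
    IsScalarTower.of_algebraMap_eq (fun x => rfl)
  haveI : Algebra.EssFiniteType (R ⧸ RingHom.ker (algebraMap R L)) L :=
    Algebra.EssFiniteType.of_comp R _ L
  have hinj : Function.Injective (algebraMap (R ⧸ RingHom.ker (algebraMap R L)) L) :=
    RingHom.kerLift_injective _
  have h := finite_integralClosure_field (R ⧸ RingHom.ker (algebraMap R L)) L hinj hN2
  exact Groth.Agent.Helper5.NagataRed.finite_of_surjective R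
    (R ⧸ RingHom.ker (algebraMap R L)) L Ideal.Quotient.mk_surjective h

/-- finitely many jointly injective maps to algebras with finite integral closure -/
theorem finite_of_jointly_injective (R B : Type u) [CommRing R] [IsNoetherianRing R]
    [CommRing B] [Algebra R B] {ι : Type*} [Finite ι] (L : ι → Type u) [∀ i, Field (L i)]
    [∀ i, Algebra R (L i)] (e : ∀ i, B →ₐ[R] L i) (hinj : ∀ b : B, (∀ i, e i b = 0) → b = 0)
    (h : ∀ i, Module.Finite R (integralClosure R (L i))) :
    Module.Finite R (integralClosure R B) := by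
  haveI : ∀ i, Module.Finite R (integralClosure R (L i)) := h
  haveI : IsNoetherian R (∀ i, integralClosure R (L i)) :=
    isNoetherian_of_isNoetherianRing_of_finite R _
  let g : ∀ i, integralClosure R B →ₐ[R] integralClosure R (L i) :=
    fun i => ((e i).comp (integralClosure R B).val).codRestrict _
      (fun x => IsIntegral.map (e i) x.2)
  let G : integralClosure R B →ₗ[R] (∀ i, integralClosure R (L i)) :=
    LinearMap.pi (fun i => (g i).toLinearMap)
  refine Module.Finite.of_injective G ?_
  rw [← LinearMap.ker_eq_bot, LinearMap.ker_eq_bot']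
  intro x hx
  apply Subtype.ext
  refine hinj _ (fun i => ?_)
  have h2 := congrFun hx i
  exact congrArg Subtype.val h2

theorem main {X S : Scheme.{u}} (f : X ⟶ S) [QuasiCompact f] [QuasiSeparated f] [IsReduced X]
    (hS : ∀ U : S.affineOpens, CAlg.IsNagata Γ(S, U))
    (hfin : LocallyFinite (fun Z : ↥(irreducibleComponents ↥X) => (Z : Set ↥X)))
    (hres : ∀ x : X, closure {x} ∈ irreducibleComponents ↥X →
      (f.residueFieldMap x).hom.EssFiniteType) :
    IsFinite f.fromNormalization := by
  apply Groth.Agent.Helper5.NormFin.isFinite_fromNormalization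
  intro U hU
  letI := (f.app U).hom.toAlgebra
  have hN := hS ⟨U, hU⟩
  haveI : IsNoetherianRing Γ(S, U) := hN.1
  have hc : IsCompact (f ⁻¹ᵁ U : Set X) := f.isCompact_preimage hU.isCompact
  have hT := hfin.finite_nonempty_inter_compact hc
  haveI : Finite {Z : ↥(irreducibleComponents ↥X) //
      ((Z : Set X) ∩ (f ⁻¹ᵁ U : Set X)).Nonempty} := hT.to_subtype
  have hgen : ∀ Z : {Z : ↥(irreducibleComponents ↥X) //
      ((Z : Set X) ∩ (f ⁻¹ᵁ U : Set X)).Nonempty}, ∃ x : X, IsGenericPoint x (Z.1 : Set X) :=
    fun Z => QuasiSober.sober (Z.1.2.1) (isClosed_of_mem_irreducibleComponents _ Z.1.2)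
  choose x hx using hgen
  have hxU : ∀ Z, x Z ∈ f ⁻¹ᵁ U := fun Z =>
    ((hx Z).mem_open_set_iff (f ⁻¹ᵁ U).2).2 Z.2
  have hcl : ∀ Z, closure {x Z} ∈ irreducibleComponents X := fun Z => by
    rw [(hx Z).def]
    exact Z.1.2
  letI algL : ∀ Z, Algebra Γ(S, U) (X.residueField (x Z)) := fun Z =>
    ((X.evaluation (f ⁻¹ᵁ U) (x Z) (hxU Z)).hom.comp (f.app U).hom).toAlgebra
  let e : ∀ Z, Γ(X, f ⁻¹ᵁ U) →ₐ[Γ(S, U)] X.residueField (x Z) := fun Z =>
    { (X.evaluation (f ⁻¹ᵁ U) (x Z) (hxU Z)).hom with commutes' := fun r => rfl }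
  have hinj : ∀ b : Γ(X, f ⁻¹ᵁ U), (∀ Z, e Z b = 0) → b = 0 := by
    intro b h
    rw [← AlgebraicGeometry.basicOpen_eq_bot_iff, Scheme.basicOpen_eq_bot_iff_forall_evaluation_eq_zero]
    rintro ⟨y, hy⟩
    obtain ⟨Z, hZ, hyZ⟩ :=
      exists_mem_irreducibleComponents_subset_of_isIrreducible {y} isIrreducible_singleton
    have hyZ' : y ∈ Z := hyZ rfl
    have hsp : x ⟨⟨Z, hZ⟩, ⟨y, hyZ', hy⟩⟩ ⤳ y := by
      rw [specializes_iff_mem_closure, (hx ⟨⟨Z, hZ⟩, ⟨y, hyZ', hy⟩⟩).def]
      exact hyZ'
    by_contra hne
    have hyb : y ∈ X.basicOpen b := (X.evaluation_ne_zero_iff_mem_basicOpen y hy b).1 hne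
    have hxb : x ⟨⟨Z, hZ⟩, ⟨y, hyZ', hy⟩⟩ ∈ X.basicOpen b :=
      hsp.mem_open (X.basicOpen b).2 hyb
    exact (X.evaluation_eq_zero_iff_notMem_basicOpen _ (hxU _) b).1 (h _) hxb
  have hess : ∀ Z, Algebra.EssFiniteType Γ(S, U) (X.residueField (x Z)) := by
    intro Z
    have h1 : ((X.evaluation (f ⁻¹ᵁ U) (x Z) (hxU Z)).hom.comp (f.app U).hom) =
        (f.residueFieldMap (x Z)).hom.comp (S.evaluation U (f (x Z)) (hxU Z)).hom := by
      rw [← CommRingCat.hom_comp, ← CommRingCat.hom_comp, Scheme.evaluation_naturality]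
    have h2 : (S.evaluation U (f (x Z)) (hxU Z)).hom.EssFiniteType := by
      have h0 : S.evaluation U (f (x Z)) (hxU Z) =
          S.presheaf.germ U _ (hxU Z) ≫ S.residue _ := rfl
      rw [h0, CommRingCat.hom_comp]
      refine RingHom.EssFiniteType.comp ?_ ?_
      · letI := S.presheaf.algebra_section_stalk ⟨f (x Z), hxU Z⟩
        haveI := hU.isLocalization_stalk ⟨f (x Z), hxU Z⟩
        exact RingHom.essFiniteType_algebraMap.2
          (Algebra.EssFiniteType.of_isLocalization _
            (hU.primeIdealOf ⟨_, hxU Z⟩).asIdeal.primeCompl)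
      · exact (RingHom.FiniteType.of_surjective _ (S.residue_surjective _)).essFiniteType
    have h3 := h2.comp (hres (x Z) (hcl Z))
    rw [← h1] at h3
    exact h3
  exact finite_of_jointly_injective Γ(S, U) Γ(X, f ⁻¹ᵁ U)
    (fun Z => X.residueField (x Z)) e hinj
    (fun Z => by
      haveI := hess Z
      exact finite_integralClosure_of_field Γ(S, U) hN (X.residueField (x Z)))

end Groth.Agent.Helper8.NormNagata
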