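import Mathlib
import Groth.Prelude.Def_EGA4b
set_option autoImplicit false


namespace Groth.Agent.Helper8.NormPoly

universe u

open Polynomial Ideal

theorem s6300 (R : Type u) [CommRing R] (hR : EGA4.IsNormalRing R) :
    EGA4.IsNormalRing (Polynomial R) := by
  intro p hp
  let q := p.comap (C : R →+* R[X])
  obtain ⟨hdom, hic⟩ := hR q
  let S := (Localization.AtPrime q)[X]
  let pc := Submonoid.map Polynomial.C.toMonoidHom q.primeCompl
  let : Algebra R[X] S := Polynomial.algebra R (Localization.AtPrime q)
  have : IsLocalization pc S := Polynomial.isLocalization _ _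
  let pS := p.map (algebraMap R[X] S)
  have disj : Disjoint (pc : Set R[X]) (p : Set R[X]) := by
    simpa [pc, q] using! Set.disjoint_image_left.mpr
      (Set.disjoint_compl_left_iff_subset.mpr (fun _ a ↦ a))
  have : pS.IsPrime := IsLocalization.isPrime_of_isPrime_disjoint pc _ _ ‹_› disj
  have : IsLocalization.AtPrime (Localization.AtPrime pS) p := by
    convert IsLocalization.isLocalization_isLocalization_atPrime_isLocalization pc
      (Localization.AtPrime pS) pS
    exact (IsLocalization.under_map_of_isPrime_disjoint pc _ ‹_› disj).symm
  have hSic : IsIntegrallyClosed S := inferInstance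
  have hle : pS.primeCompl ≤ nonZeroDivisors S := pS.primeCompl_le_nonZeroDivisors
  have h1 : IsDomain (Localization.AtPrime pS) :=
    IsLocalization.isDomain_of_le_nonZeroDivisors _ hle
  have h2 : IsIntegrallyClosed (Localization.AtPrime pS) :=
    isIntegrallyClosed_of_isLocalization _ pS.primeCompl hle
  let e : Localization.AtPrime pS ≃+* Localization.AtPrime p :=
    (IsLocalization.algEquiv p.primeCompl (Localization.AtPrime pS)
      (Localization.AtPrime p)).toRingEquiv
  have h3 : IsDomain (Localization.AtPrime p) := e.isDomain_iff.1 h1
  have h4 : IsIntegrallyClosed (Localization.AtPrime p) :=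
    IsIntegrallyClosed.of_equiv (R := Localization.AtPrime pS) (S := Localization.AtPrime p) e
  exact ⟨h3, h4⟩

end Groth.Agent.Helper8.NormPoly
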