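import Mathlib

namespace Groth.Agent.Helper8.NormPrime

open Module Polynomial

variable {A A' : Type*} [CommRing A] [CommRing A'] [Algebra A A'] [Module.Free A A']
  [Module.Finite A A']

theorem dvd_norm (a : A') : a ∣ algebraMap A A' (Algebra.norm A a) := by
  classical
  have h1 := LinearMap.aeval_self_charpoly (Algebra.lmul A A' a)
  have h2 : Polynomial.aeval a (Algebra.lmul A A' a).charpoly = 0 := by
    have := congrArg (fun f : End A A' => f 1) h1
    rw [Polynomial.aeval_algHom_apply] at this
    simpa using this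
  have h3 : Algebra.norm A a = (-1) ^ finrank A A' * (Algebra.lmul A A' a).charpoly.coeff 0 := by
    rw [Algebra.norm_apply, LinearMap.det_eq_sign_charpoly_coeff]
  rw [← Polynomial.divX_mul_X_add (Algebra.lmul A A' a).charpoly] at h2
  simp only [map_add, map_mul, aeval_X, aeval_C] at h2
  have h4 : algebraMap A A' ((Algebra.lmul A A' a).charpoly.coeff 0)
      = a * (- aeval a (Algebra.lmul A A' a).charpoly.divX) := by
    linear_combination h2
  rw [h3, map_mul, h4]
  exact ⟨algebraMap A A' ((-1) ^ finrank A A') * (- aeval a (Algebra.lmul A A' a).charpoly.divX), by ring⟩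

theorem main (p : Ideal A) [p.IsPrime] (a : A') :
    (∃ q : Ideal A', q.IsPrime ∧ q.LiesOver p ∧ a ∈ q) ↔ Algebra.norm A a ∈ p := by
  constructor
  · rintro ⟨q, hq, hqp, haq⟩
    rw [hqp.over, Ideal.under_def, Ideal.mem_comap]
    exact Ideal.mem_of_dvd _ (dvd_norm a) haq
  · intro h
    have hle : (Ideal.span {a}).comap (algebraMap A A') ≤ p := by
      intro x hx
      rw [Ideal.mem_comap, Ideal.mem_span_singleton'] at hx
      obtain ⟨b, hb⟩ := hx
      have h5 : x ^ finrank A A' = Algebra.norm A b * Algebra.norm A a := by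
        rw [← Algebra.norm_algebraMap (S := A'), ← hb, map_mul]
      have h6 : x ^ finrank A A' ∈ p := by
        rw [h5]; exact Ideal.mul_mem_left _ _ h
      exact Ideal.IsPrime.mem_of_pow_mem inferInstance _ h6
    obtain ⟨Q, hQ, hQp, hQc⟩ := Ideal.exists_ideal_over_prime_of_isIntegral p (Ideal.span {a}) hle
    refine ⟨Q, hQp, ⟨hQc.symm⟩, hQ (Ideal.subset_span rfl)⟩

end Groth.Agent.Helper8.NormPrime
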