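import Mathlib
import Groth.Prelude.Def_Fitting
import Groth.Agent.Helper8.NormGlue

/-!
# The reduction of a Noetherian scheme of characteristic `p` has a norm of degree `p ^ e`
-/

set_option autoImplicit false
set_option linter.unusedSectionVars false
set_option linter.style.haveILetI false
universe u

open AlgebraicGeometry CategoryTheory Opposite TopologicalSpace
open Groth.Agent.Helper8.NormGlue

namespace Groth.Agent.Helper8.NormRed

section Alg

variable {A B : Type*} [CommRing A] [CommRing B] (φ : A →+* B) (hφ : Function.Surjective φ)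
  (q : ℕ) (hq : ∀ a a' : A, φ a = φ a' → a ^ q = a' ^ q)

/-- `b ↦ (lift of b) ^ q` -/
noncomputable def powLift : B →* A where
  toFun b := (Function.surjInv hφ b) ^ q
  map_one' := by
    rw [hq (Function.surjInv hφ 1) 1 (by rw [Function.surjInv_eq hφ, map_one]), one_pow]
  map_mul' b b' := by
    rw [hq (Function.surjInv hφ (b * b')) (Function.surjInv hφ b * Function.surjInv hφ b')
      (by rw [map_mul, Function.surjInv_eq hφ, Function.surjInv_eq hφ, Function.surjInv_eq hφ]),
      mul_pow]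

lemma powLift_apply (a : A) : powLift φ hφ q hq (φ a) = a ^ q :=
  hq _ _ (Function.surjInv_eq hφ (φ a))

lemma powLift_eq (b : B) (a : A) (h : φ a = b) : powLift φ hφ q hq b = a ^ q := by
  rw [← h, powLift_apply]

end Alg

/-- In a commutative ring in which the prime `p` vanishes and nilpotents have vanishing `p^e`-th
power, two elements congruent modulo the nilradical have the same `p^e`-th power. -/
lemma pow_eq_of_sub_nilpotent {A : Type*} [CommRing A] (p e : ℕ) (hp : p.Prime)
    (hpA : (p : A) = 0) (hnil : ∀ a : A, IsNilpotent a → a ^ p ^ e = 0) (a a' : A)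
    (h : IsNilpotent (a - a')) : a ^ p ^ e = a' ^ p ^ e := by
  rcases subsingleton_or_nontrivial A with hs | hn
  · exact Subsingleton.elim _ _
  · haveI : Fact p.Prime := ⟨hp⟩
    haveI : CharP A p := (CharP.charP_iff_prime_eq_zero hp).2 hpA
    have := hnil _ h
    rw [sub_pow_char_pow, sub_eq_zero] at this
    exact this

theorem exists_nilpotency_bound (X : Scheme.{u}) [IsNoetherian X] :
    ∃ m : ℕ, ∀ (U : X.Opens) (a : Γ(X, U)), IsNilpotent a → a ^ m = 0 := by
  obtain ⟨s, hsfin, hs⟩ := isCompact_iff_finite_and_eq_biUnion_affineOpens.1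
    (show IsCompact ((⊤ : X.Opens) : Set X) from isCompact_univ)
  have hW : ∀ W : X.affineOpens, ∃ k : ℕ, nilradical Γ(X, W.1) ^ k = ⊥ := fun W => by
    haveI : IsNoetherianRing Γ(X, W.1) := IsLocallyNoetherian.component_noetherian W
    exact IsNoetherianRing.isNilpotent_nilradical _
  choose k hk using hW
  obtain ⟨m, hm⟩ := (hsfin.image k).bddAbove
  refine ⟨m, fun U a ha => ?_⟩
  refine TopCat.Presheaf.section_ext X.sheaf U _ _ (fun x hx => ?_)
  have hxs : x ∈ ((⊤ : X.Opens) : Set X) := trivial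
  rw [hs] at hxs
  obtain ⟨W, hWs, hxW⟩ : ∃ W ∈ s, x ∈ (W : X.Opens) := by
    simpa using hxs
  have hkm : k W ≤ m := hm ⟨W, hWs, rfl⟩
  letI := X.presheaf.algebra_section_stalk ⟨x, hxW⟩
  haveI := W.2.isLocalization_stalk ⟨x, hxW⟩
  have hz : IsNilpotent (X.presheaf.germ U x hx a) := ha.map _
  have hrad : nilradical (X.presheaf.stalk x) =
      (nilradical Γ(X, W.1)).map (algebraMap Γ(X, W.1) (X.presheaf.stalk x)) := by
    have := IsLocalization.map_radical (W.2.primeIdealOf ⟨x, hxW⟩).asIdeal.primeCompl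
      (X.presheaf.stalk x) (⊥ : Ideal Γ(X, W.1))
    rw [Ideal.map_bot] at this
    exact this.symm
  have h1 : (X.presheaf.germ U x hx a) ^ m ∈ nilradical (X.presheaf.stalk x) ^ m :=
    Ideal.pow_mem_pow (mem_nilradical.2 hz) m
  have h2 : nilradical (X.presheaf.stalk x) ^ m = ⊥ := by
    rw [hrad, ← Ideal.map_pow]
    have : nilradical Γ(X, W.1) ^ m = ⊥ :=
      le_bot_iff.1 ((Ideal.pow_le_pow_right hkm).trans (hk W).le)
    rw [this, Ideal.map_bot]
  rw [h2, Ideal.mem_bot] at h1
  show (X.presheaf.germ U x hx).hom (a ^ m) = (X.presheaf.germ U x hx).hom 0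
  rw [map_pow, map_zero]
  exact h1

section Main

variable (X : Scheme.{u}) (p e : ℕ) (hp : p.Prime) (hpX : (p : Γ(X, ⊤)) = 0)
  (hnil : ∀ (U : X.Opens) (a : Γ(X, U)), IsNilpotent a → a ^ p ^ e = 0)

lemma ker_app (V : X.Opens) (hV : IsAffineOpen V) :
    RingHom.ker (X.nilradical.subschemeι.app V).hom = nilradical Γ(X, V) := by
  rw [X.nilradical.ker_subschemeι_app ⟨V, hV⟩]
  rfl

include hp hpX hnil in
lemma key (V : X.Opens) (hV : IsAffineOpen V) (a a' : Γ(X, V))
    (h : (X.nilradical.subschemeι.app V).hom a = (X.nilradical.subschemeι.app V).hom a') :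
    a ^ p ^ e = a' ^ p ^ e := by
  have hpV : (p : Γ(X, V)) = 0 := by
    have := congrArg (X.presheaf.map (homOfLE (le_top : V ≤ ⊤)).op).hom hpX
    rwa [map_natCast, map_zero] at this
  refine pow_eq_of_sub_nilpotent p e hp hpV (hnil V) a a' ?_
  have hmem : a - a' ∈ RingHom.ker (X.nilradical.subschemeι.app V).hom := by
    rw [RingHom.mem_ker, map_sub, h, sub_self]
  rw [ker_app X V hV] at hmem
  exact mem_nilradical.1 hmem

/-- the basis data on affine opens -/
noncomputable def basisNorm (he : 1 ≤ p ^ e) :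
    BasisNorm X.nilradical.subschemeι {V : X.Opens | IsAffineOpen V} (p ^ e) where
  n V := powLift (X.nilradical.subschemeι.app V.1).hom
    (X.nilradical.subschemeι_app_surjective ⟨V.1, V.2⟩) (p ^ e)
    (key X p e hp hpX hnil V.1 V.2)
  res V W h s := by
    obtain ⟨a, rfl⟩ := X.nilradical.subschemeι_app_surjective ⟨V.1, V.2⟩ s
    show rY h (powLift _ _ _ _ ((X.nilradical.subschemeι.app V.1).hom a)) = _
    rw [powLift_apply, map_pow]
    symm
    exact powLift_eq _ _ _ _ _ _ (app_rY X.nilradical.subschemeι h a)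
  app V g := powLift_apply _ _ _ _ g
  mem V s x hx hs := by
    obtain ⟨a, rfl⟩ := X.nilradical.subschemeι_app_surjective ⟨V.1, V.2⟩ s
    show X.presheaf.germ V.1 _ hx (powLift _ _ _ _ ((X.nilradical.subschemeι.app V.1).hom a)) ∈ _
    rw [powLift_apply, map_pow]
    refine Ideal.pow_mem_of_mem _ ?_ _ (Nat.lt_of_lt_of_le Nat.zero_lt_one he)
    rw [IsLocalRing.mem_maximalIdeal, mem_nonunits_iff]
    intro hu
    have hu' := hu.map (X.nilradical.subschemeι.stalkMap x).hom
    have e1 : (X.nilradical.subschemeι.stalkMap x).hom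
        (X.presheaf.germ V.1 (X.nilradical.subschemeι.base x) hx a) =
        X.nilradical.subscheme.presheaf.germ (X.nilradical.subschemeι ⁻¹ᵁ V.1) x hx
          ((X.nilradical.subschemeι.app V.1).hom a) :=
      Scheme.Hom.germ_stalkMap_apply X.nilradical.subschemeι V.1 x hx a
    rw [e1] at hu'
    exact (IsLocalRing.mem_maximalIdeal _).1 hs hu'

end Main

theorem main (X : Scheme.{u}) [IsNoetherian X] (p : ℕ) (hp : p.Prime)
    (hpX : (p : Γ(X, ⊤)) = 0) :
    ∃ e : ℕ, 0 < e ∧ Nrm.HasNorm X.nilradical.subschemeι (p ^ e) := by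
  obtain ⟨m, hm⟩ := exists_nilpotency_bound X
  have hle : m ≤ p ^ (m + 1) :=
    (Nat.le_succ m).trans (Nat.lt_pow_self hp.one_lt).le
  have hnil : ∀ (U : X.Opens) (a : Γ(X, U)), IsNilpotent a → a ^ p ^ (m + 1) = 0 :=
    fun U a ha => pow_eq_zero_of_le hle (hm U a ha)
  have he : 1 ≤ p ^ (m + 1) := Nat.one_le_pow _ _ hp.pos
  refine ⟨m + 1, Nat.succ_pos m, ⟨normOfDegree (basisNorm X p (m + 1) hp hpX hnil he) ?_ he⟩⟩
  intro U y hy
  obtain ⟨V, hV, hyV, hVU⟩ := exists_isAffineOpen_mem_and_subset (x := y) (U := U) hy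
  exact ⟨V, hV, hyV, hVU⟩

end Groth.Agent.Helper8.NormRed
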