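import Mathlib
import Groth.Prelude.Def_CGrpSh3
import Groth.Prelude.Def_GmPts

/-!
# Norm maps on the big site: algebra part

Base change of `Algebra.norm` along a pushout square of commutative rings, and transport of local freeness.
-/

universe u

open CategoryTheory CategoryTheory.Limits TensorProduct

namespace Groth.Agent.Helper8.NormSh

section Alg

theorem lmul_tmul (A A' B : Type*) [CommRing A] [CommRing A'] [CommRing B] [Algebra A A'] [Algebra A B]
    (x : B) :
    Algebra.lmul A' (A' ⊗[A] B) ((1 : A') ⊗ₜ[A] x) = (Algebra.lmul A B x).baseChange A' := by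
  ext y
  simp

theorem norm_tmul (A A' B : Type*) [CommRing A] [CommRing A'] [CommRing B] [Algebra A A'] [Algebra A B]
    [Module.Free A B] [Module.Finite A B] (x : B) :
    Algebra.norm A' ((1 : A') ⊗ₜ[A] x) = algebraMap A A' (Algebra.norm A x) := by
  rw [Algebra.norm_apply, Algebra.norm_apply, lmul_tmul, LinearMap.det_baseChange]

theorem norm_of_algPushout (A A' B B' : Type*) [CommRing A] [CommRing A'] [CommRing B] [CommRing B']
    [Algebra A A'] [Algebra A B] [Algebra A' B'] [Algebra B B'] [Algebra A B'] [IsScalarTower A A' B']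
    [IsScalarTower A B B'] [Algebra.IsPushout A A' B B'] [Module.Free A B] [Module.Finite A B] :
    Module.Free A' B' ∧ Module.Finite A' B' ∧
      ∀ x : B, Algebra.norm A' (algebraMap B B' x) = algebraMap A A' (Algebra.norm A x) := by
  let e : A' ⊗[A] B ≃ₐ[A'] B' := Algebra.IsPushout.equiv A A' B B'
  refine ⟨Module.Free.of_equiv e.toLinearEquiv, Module.Finite.equiv e.toLinearEquiv, fun x => ?_⟩
  have h1 : algebraMap B B' x = e (1 ⊗ₜ x) := by
    rw [Algebra.IsPushout.equiv_tmul]
    simp
  rw [h1, Algebra.norm_eq_of_algEquiv e, norm_tmul]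

/-- norm and base change along a pushout square of commutative rings -/
theorem norm_of_isPushout {A A' B B' : CommRingCat.{u}} {α : A ⟶ A'} {φ : A ⟶ B} {φ' : A' ⟶ B'}
    {β : B ⟶ B'} (h : IsPushout α φ φ' β)
    (hfin : letI := φ.hom.toAlgebra; Module.Finite A B)
    (hfree : letI := φ.hom.toAlgebra; Module.Free A B) :
    (letI := φ'.hom.toAlgebra; Module.Free A' B') ∧ (letI := φ'.hom.toAlgebra; Module.Finite A' B') ∧
      ∀ x : B, (letI := φ'.hom.toAlgebra; Algebra.norm A' (β x)) =
        α (letI := φ.hom.toAlgebra; Algebra.norm A x) := by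
  algebraize [α.hom, φ.hom, φ'.hom, β.hom, (φ'.hom.comp α.hom)]
  haveI : IsScalarTower A A' B' := .of_algebraMap_eq' rfl
  haveI : IsScalarTower A B B' := .of_algebraMap_eq' (congrArg CommRingCat.Hom.hom h.w)
  haveI : Algebra.IsPushout A A' B B' := CommRingCat.isPushout_iff_isPushout.mp h
  exact norm_of_algPushout A A' B B'

theorem exists_away_free (A : Type u) [CommRing A] (M : Type u) [AddCommGroup M] [Module A M]
    [Module.FinitePresentation A M] [Module.Flat A M] (p : Ideal A) [p.IsPrime] :
    ∃ r : A, r ∉ p ∧ Module.Free (Localization.Away r) (LocalizedModule.Away r M) := by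
  haveI : Module.Free (Localization.AtPrime p) (LocalizedModule p.primeCompl M) :=
    Module.free_of_flat_of_isLocalRing
  obtain ⟨r, hr, hfree, -⟩ := Module.FinitePresentation.exists_free_localizedModule_powers
    p.primeCompl (LocalizedModule.mkLinearMap p.primeCompl M) (Localization.AtPrime p)
  exact ⟨r, hr, hfree⟩

theorem free_of_algPushout_away (A A' B B' : Type*) [CommRing A] [CommRing A'] [CommRing B]
    [CommRing B'] [Algebra A A'] [Algebra A B] [Algebra A' B'] [Algebra B B'] [Algebra A B']
    [IsScalarTower A A' B'] [IsScalarTower A B B'] [Algebra.IsPushout A A' B B'] (r : A)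
    [IsLocalization.Away r A'] [Module.Free (Localization.Away r) (LocalizedModule.Away r B)] :
    Module.Free A' B' := by
  have hbc : IsBaseChange A' (IsScalarTower.toAlgHom A B B').toLinearMap := Algebra.IsPushout.out
  haveI hlm : IsLocalizedModule (Submonoid.powers r) (IsScalarTower.toAlgHom A B B').toLinearMap :=
    (isLocalizedModule_iff_isBaseChange (Submonoid.powers r) A' _).mpr hbc
  let L := Localization (Submonoid.powers r)
  let e₁ : L ≃ₐ[A] A' := IsLocalization.algEquiv (Submonoid.powers r) L A'
  let e₂ : LocalizedModule (Submonoid.powers r) B ≃ₗ[A] B' :=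
    IsLocalizedModule.iso (Submonoid.powers r) (IsScalarTower.toAlgHom A B B').toLinearMap
  letI : Module L B' := Module.compHom B' (e₁ : L →+* A')
  haveI : IsScalarTower A L B' := ⟨fun a l m => by
    change e₁ (a • l) • m = a • (e₁ l • m)
    rw [map_smul, smul_assoc]⟩
  let e₃ : LocalizedModule (Submonoid.powers r) B ≃ₗ[L] B' :=
    e₂.extendScalarsOfIsLocalization (Submonoid.powers r) L
  haveI : Module.Free L B' := Module.Free.of_equiv e₃
  let σ : L →+* A' := e₁.toRingEquiv.toRingHom
  let σ' : A' →+* L := e₁.toRingEquiv.symm.toRingHom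
  haveI : RingHomInvPair σ σ' := ⟨by ext x; exact e₁.toRingEquiv.symm_apply_apply x,
    by ext x; exact e₁.toRingEquiv.apply_symm_apply x⟩
  haveI : RingHomInvPair σ' σ := ⟨by ext x; exact e₁.toRingEquiv.apply_symm_apply x,
    by ext x; exact e₁.toRingEquiv.symm_apply_apply x⟩
  let e₄ : B' ≃ₛₗ[σ] B' :=
    { toFun := id
      map_add' := fun _ _ => rfl
      map_smul' := fun _ _ => rfl
      invFun := id
      left_inv := fun _ => rfl
      right_inv := fun _ => rfl }
  exact Module.Free.of_equiv e₄

/-- transport of local freeness along a pushout square whose base is a localization away from `r` -/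
theorem free_of_isPushout_away {A A' B B' : CommRingCat.{u}} {α : A ⟶ A'} {φ : A ⟶ B} {φ' : A' ⟶ B'}
    {β : B ⟶ B'} (h : IsPushout α φ φ' β) (r : A)
    (hloc : letI := α.hom.toAlgebra; IsLocalization.Away r A')
    (hfree : letI := φ.hom.toAlgebra; Module.Free (Localization.Away r) (LocalizedModule.Away r B)) :
    (letI := φ'.hom.toAlgebra; Module.Free A' B') := by
  algebraize [α.hom, φ.hom, φ'.hom, β.hom, (φ'.hom.comp α.hom)]
  haveI : IsScalarTower A A' B' := .of_algebraMap_eq' rfl
  haveI : IsScalarTower A B B' := .of_algebraMap_eq' (congrArg CommRingCat.Hom.hom h.w)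
  haveI : Algebra.IsPushout A A' B B' := CommRingCat.isPushout_iff_isPushout.mp h
  exact free_of_algPushout_away A A' B B' r

end Alg

end Groth.Agent.Helper8.NormSh
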