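import Mathlib
import Groth.Prelude.Def_CGrpSh3
import Groth.Prelude.Def_GmPts
import Groth.Agent.Helper8.NormShA

/-!
# Norm maps on the big site: good affine objects
-/

universe u

open CategoryTheory CategoryTheory.Limits MonoidalCategory CartesianMonoidalCategory MonObj AlgebraicGeometry Opposite

namespace Groth.Agent.Helper8.NormSh

variable {X X' : Scheme.{u}} (f : X' ⟶ X)

/-- pull-back of functions along the first projection `T ×_X X' → T` -/
noncomputable abbrev phi (T : Over X) : Γ(T.left, ⊤) ⟶ Γ(((Over.pullback f).obj T).left, ⊤) :=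
  (pullback.fst T.hom f).appTop

/-- the norm (determinant of multiplication) from functions on `T ×_X X'` to functions on `T` -/
noncomputable def nrm (T : Over X) : Γ(((Over.pullback f).obj T).left, ⊤) →* Γ(T.left, ⊤) :=
  letI := (phi f T).hom.toAlgebra
  Algebra.norm Γ(T.left, ⊤)

/-- good objects: affine, with finite free algebra of functions on the base change -/
def Good : ObjectProperty (Over X) := fun T =>
  IsAffine T.left ∧
    (letI := (phi f T).hom.toAlgebra
     Module.Finite Γ(T.left, ⊤) Γ(((Over.pullback f).obj T).left, ⊤)) ∧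
    (letI := (phi f T).hom.toAlgebra
     Module.Free Γ(T.left, ⊤) Γ(((Over.pullback f).obj T).left, ⊤))

theorem isPullback_map {T₁ T₂ : Over X} (g : T₁ ⟶ T₂) :
    IsPullback (pullback.fst T₁.hom f) ((Over.pullback f).map g).left g.left
      (pullback.fst T₂.hom f) := by
  have h1 : ((Over.pullback f).map g).left ≫ pullback.fst T₂.hom f =
      pullback.fst T₁.hom f ≫ g.left := by
    simp only [Over.pullback_map_left]
    exact pullback.lift_fst _ _ _
  have h2 : ((Over.pullback f).map g).left ≫ pullback.snd T₂.hom f = pullback.snd T₁.hom f := by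
    simp only [Over.pullback_map_left]
    exact pullback.lift_snd _ _ _
  have hbig : IsPullback (pullback.fst T₁.hom f)
      (((Over.pullback f).map g).left ≫ pullback.snd T₂.hom f) (g.left ≫ T₂.hom) f := by
    rw [h2, Over.w g]
    exact IsPullback.of_hasPullback T₁.hom f
  exact IsPullback.of_bot hbig h1.symm (IsPullback.of_hasPullback T₂.hom f)

theorem isPushout_map [IsAffineHom f] {T₁ T₂ : Over X} [IsAffine T₁.left] [IsAffine T₂.left]
    (g : T₁ ⟶ T₂) :
    IsPushout g.left.appTop (phi f T₂) (phi f T₁) ((Over.pullback f).map g).left.appTop := by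
  haveI : IsAffine (pullback T₂.hom f) := inferInstance
  exact isPushout_appTop_of_isPullback (isPullback_map f g)

theorem good_of_hom [IsAffineHom f] {T₁ T₂ : Over X} [IsAffine T₁.left] (g : T₁ ⟶ T₂)
    (h₂ : Good f T₂) : Good f T₁ := by
  haveI : IsAffine T₂.left := h₂.1
  obtain ⟨h1, h2, -⟩ := norm_of_isPushout (isPushout_map f g) h₂.2.1 h₂.2.2
  exact ⟨inferInstance, h2, h1⟩

theorem nrm_map [IsAffineHom f] {T₁ T₂ : Over X} [IsAffine T₁.left] (g : T₁ ⟶ T₂)
    (h₂ : Good f T₂) (x : Γ(((Over.pullback f).obj T₂).left, ⊤)) :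
    nrm f T₁ (((Over.pullback f).map g).left.appTop x) = g.left.appTop (nrm f T₂ x) := by
  haveI : IsAffine T₂.left := h₂.1
  obtain ⟨-, -, h3⟩ := norm_of_isPushout (isPushout_map f g) h₂.2.1 h₂.2.2
  exact h3 x

/-- the norm of a point of `𝔾_m` -/
noncomputable def nrmPt (T : Over X) (t' : (Over.pullback f).obj T ⟶ Red.Gm X') : T ⟶ Red.Gm X :=
  GmPts.ptOfUnit (Units.map (nrm f T) (GmPts.unitOfPt t'))

theorem gmFn_nrmPt (T : Over X) (t' : (Over.pullback f).obj T ⟶ Red.Gm X') :
    Red.gmFn (nrmPt f T t') = nrm f T (Red.gmFn t') := by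
  rw [nrmPt, GmPts.gmFn_ptOfUnit]
  rfl

theorem nrmPt_mul (T : Over X) (t₁ t₂ : (Over.pullback f).obj T ⟶ Red.Gm X') :
    nrmPt f T (t₁ * t₂) = nrmPt f T t₁ * nrmPt f T t₂ := by
  rw [nrmPt, GmPts.unitOfPt_mul, map_mul, GmPts.ptOfUnit_mul]
  rfl

theorem nrmPt_one (T : Over X) : nrmPt f T (1 : (Over.pullback f).obj T ⟶ Red.Gm X') = 1 := by
  rw [nrmPt, GmPts.unitOfPt_one, map_one, GmPts.ptOfUnit_one]

theorem nrmPt_map [IsAffineHom f] {T₁ T₂ : Over X} [IsAffine T₁.left] (g : T₁ ⟶ T₂)
    (h₂ : Good f T₂) (t' : (Over.pullback f).obj T₂ ⟶ Red.Gm X') :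
    nrmPt f T₁ ((Over.pullback f).map g ≫ t') = g ≫ nrmPt f T₂ t' := by
  apply GmPts.gmFn_injective
  change Red.gmFn (nrmPt f T₁ ((Over.pullback f).map g ≫ t')) = Red.gmFn (g ≫ nrmPt f T₂ t')
  rw [gmFn_nrmPt, GmPts.gmFn_comp, GmPts.gmFn_comp, gmFn_nrmPt, nrm_map f g h₂]

section Cover

variable [IsFinite f] [Flat f] [LocallyOfFinitePresentation f]

theorem isoSpec_inv_appTop (Y : Scheme.{u}) [IsAffine Y] :
    Y.isoSpec.inv.appTop = (Scheme.ΓSpecIso Γ(Y, ⊤)).inv := by
  rw [← cancel_epi (Scheme.ΓSpecIso Γ(Y, ⊤)).hom, Iso.hom_inv_id, ← Scheme.toSpecΓ_appTop,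
    ← Scheme.isoSpec_hom, ← Scheme.Hom.comp_appTop, Iso.inv_hom_id]
  rfl

theorem exists_good (T : Over X) (x : T.left) :
    ∃ (W : Over X) (j : W ⟶ T), Good f W ∧ IsOpenImmersion j.left ∧ x ∈ Set.range j.left := by
  obtain ⟨A₀, c, hc, x₀, rfl⟩ := T.left.exists_Spec_apply_eq x
  let W₀ : Over X := Over.mk (c ≫ T.hom)
  haveI : IsAffine W₀.left := (inferInstance : IsAffine (Spec A₀))
  haveI : IsAffine (pullback W₀.hom f) := inferInstance
  haveI : IsFinite (pullback.fst W₀.hom f) := MorphismProperty.pullback_fst _ _ ‹_›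
  haveI : Flat (pullback.fst W₀.hom f) := MorphismProperty.pullback_fst _ _ ‹_›
  haveI : LocallyOfFinitePresentation (pullback.fst W₀.hom f) :=
    MorphismProperty.pullback_fst _ _ ‹_›
  have hfin := (pullback.fst W₀.hom f).finite_appTop
  have hflat := (pullback.fst W₀.hom f).flat_appTop
  have hfp := (pullback.fst W₀.hom f).finitePresentation_appTop
  let A : CommRingCat := Γ(W₀.left, ⊤)
  let B : CommRingCat := Γ(((Over.pullback f).obj W₀).left, ⊤)
  letI : Algebra A B := (phi f W₀).hom.toAlgebra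
  haveI : Module.Finite A B := hfin
  haveI : Module.Flat A B := hflat
  haveI : Algebra.FinitePresentation A B := hfp
  haveI : Module.FinitePresentation A B :=
    Module.FinitePresentation.of_finite_of_finitePresentation A B
  let y : Spec A := W₀.left.isoSpec.hom x₀
  obtain ⟨r, hr, hfree⟩ := exists_away_free A B y.asIdeal
  let L : CommRingCat := CommRingCat.of (Localization.Away r)
  let ψ : A ⟶ L := CommRingCat.ofHom (algebraMap A (Localization.Away r))
  let i : Spec L ⟶ W₀.left := Spec.map ψ ≫ W₀.left.isoSpec.inv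
  haveI : IsOpenImmersion (Spec.map ψ) := Scheme.isOpenImmersion_SpecMap_localizationAway r
  haveI : IsOpenImmersion i := inferInstance
  let W : Over X := Over.mk (i ≫ W₀.hom)
  let g : W ⟶ W₀ := Over.homMk i rfl
  let j : W ⟶ T := Over.homMk (i ≫ c) (by simp [W, W₀])
  haveI : IsAffine W.left := (inferInstance : IsAffine (Spec L))
  refine ⟨W, j, ⟨inferInstance, ?_, ?_⟩, ?_, ?_⟩
  · haveI : IsFinite (pullback.fst W.hom f) := MorphismProperty.pullback_fst _ _ ‹_›
    exact (pullback.fst W.hom f).finite_appTop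
  · have hpo := isPushout_map f g
    have hi : i.appTop = ψ ≫ (Scheme.ΓSpecIso L).inv := by
      rw [Scheme.Hom.comp_appTop, isoSpec_inv_appTop, ← Scheme.ΓSpecIso_inv_naturality]
    have hloc : letI : Algebra A Γ(Spec L, ⊤) := i.appTop.hom.toAlgebra
        IsLocalization.Away r Γ(Spec L, ⊤) := by
      letI : Algebra A Γ(Spec L, ⊤) := i.appTop.hom.toAlgebra
      let e : Localization.Away r ≃ₐ[A] Γ(Spec L, ⊤) :=
        AlgEquiv.ofRingEquiv (f := (Scheme.ΓSpecIso L).symm.commRingCatIsoToRingEquiv) (fun a => by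
          change (Scheme.ΓSpecIso L).inv (algebraMap A (Localization.Away r) a) = i.appTop a
          rw [hi]
          rfl)
      exact IsLocalization.isLocalization_of_algEquiv (Submonoid.powers r) e
    exact free_of_isPushout_away hpo r hloc hfree
  · change IsOpenImmersion (i ≫ c)
    infer_instance
  · have hy : y ∈ (Spec.map ψ).opensRange := by
      have h0 := Scheme.Hom.opensRange_localizationAway (R := A) r
      rw [show (Spec.map ψ).opensRange = _ from h0]
      exact hr
    obtain ⟨z, hz⟩ := hy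
    refine ⟨z, ?_⟩
    change (i ≫ c) z = c x₀
    have h1 : i z = x₀ := by
      change (Spec.map ψ ≫ W₀.left.isoSpec.inv) z = x₀
      rw [Scheme.Hom.comp_apply, hz]
      change (W₀.left.isoSpec.hom ≫ W₀.left.isoSpec.inv) x₀ = x₀
      rw [Iso.hom_inv_id]
      rfl
    rw [Scheme.Hom.comp_apply, h1]

end Cover

end Groth.Agent.Helper8.NormSh
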