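import Mathlib
import Groth.Prelude.Def_CGrpSh3
import Groth.Prelude.Def_GmPts
import Groth.Agent.Helper8.NormShB

/-!
# Norm maps on the big fppf site: existence and uniqueness
-/

universe u

open CategoryTheory CategoryTheory.Limits MonoidalCategory CartesianMonoidalCategory MonObj AlgebraicGeometry Opposite

namespace Groth.Agent.Helper8.NormSh

variable {X X' : Scheme.{u}} (f : X' ⟶ X)

/-- inclusion of good objects -/
abbrev incl : (Good f).FullSubcategory ⥤ Over X := (Good f).ι

theorem isCoverDense [IsFinite f] [Flat f] [LocallyOfFinitePresentation f] :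
    (incl f).IsCoverDense (QuotSh.J Scheme.fppfPrecoverage X) := by
  constructor
  intro T
  choose W j hW hj hx using exists_good f T
  have h1 : Sieve.ofArrows W j ∈ QuotSh.J Scheme.fppfPrecoverage X T := by
    rw [GrothendieckTopology.mem_over_iff, Sieve.overEquiv_ofArrows]
    let 𝒰 : T.left.OpenCover := Scheme.Cover.mkOfCovers T.left (fun x => (W x).left)
      (fun x => (j x).left) (fun x => by
        obtain ⟨y, hy⟩ := hx x
        exact ⟨x, y, hy⟩) (fun x => hj x)
    exact Precoverage.toGrothendieck_mono Scheme.zariskiPrecoverage_le_fppfPrecoverage _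
      𝒰.mem_grothendieckTopology
  refine GrothendieckTopology.superset_covering _ ?_ h1
  rw [Sieve.ofArrows, Sieve.generate_le_iff]
  rintro _ _ ⟨x⟩
  exact Presieve.in_coverByImage (incl f) (Y := ⟨W x, hW x⟩) (j x)

/-- the norm on sections over `T` -/
noncomputable def αapp (T : Over X) :
    (CGrpSh3.pushGm Scheme.fppfPrecoverage f).obj.obj (op T) ⟶
      (CGrpSh2.Gm Scheme.fppfPrecoverage X).obj.obj (op T) :=
  AddCommGrpCat.ofHom
    { toFun := fun (x : ULift.{u + 1} (Additive ((Over.pullback f).obj T ⟶ Red.Gm X'))) =>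
        (ULift.up (Additive.ofMul (nrmPt f T x.down.toMul)) :
          ULift.{u + 1} (Additive (T ⟶ Red.Gm X)))
      map_zero' := by
        apply ULift.ext
        change Additive.ofMul (nrmPt f T 1) = 0
        rw [nrmPt_one]
        rfl
      map_add' := fun x y => by
        apply ULift.ext
        change Additive.ofMul (nrmPt f T (x.down.toMul * y.down.toMul)) = _
        rw [nrmPt_mul]
        rfl }

theorem αapp_apply (T : Over X) (x : ULift.{u + 1} (Additive ((Over.pullback f).obj T ⟶ Red.Gm X'))) :
    (αapp f T x : ULift.{u + 1} (Additive (T ⟶ Red.Gm X))) =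
      ULift.up (Additive.ofMul (nrmPt f T x.down.toMul)) := rfl

/-- the norm as a natural transformation on good objects -/
noncomputable def α [IsAffineHom f] :
    (incl f).op ⋙ (CGrpSh3.pushGm Scheme.fppfPrecoverage f).obj ⟶
      (incl f).op ⋙ (CGrpSh2.Gm Scheme.fppfPrecoverage X).obj where
  app W := αapp f W.unop.obj
  naturality W₁ W₂ g := by
    refine AddCommGrpCat.ext fun x => ?_
    apply ULift.ext
    haveI : IsAffine W₂.unop.obj.left := W₂.unop.property.1
    change Additive.ofMul (nrmPt f W₂.unop.obj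
        ((Over.pullback f).map ((incl f).map g.unop) ≫ x.down.toMul)) =
      Additive.ofMul ((incl f).map g.unop ≫ nrmPt f W₁.unop.obj x.down.toMul)
    rw [nrmPt_map f _ W₁.unop.property]

theorem exists_isNormMap [IsFinite f] [Flat f] [LocallyOfFinitePresentation f] :
    ∃ N : CGrpSh3.pushGm Scheme.fppfPrecoverage f ⟶ CGrpSh2.Gm Scheme.fppfPrecoverage X,
      CGrpSh3.IsNormMap Scheme.fppfPrecoverage f N := by
  haveI := isCoverDense f
  let N₀ : (CGrpSh3.pushGm Scheme.fppfPrecoverage f).obj ⟶
      (CGrpSh2.Gm Scheme.fppfPrecoverage X).obj := Functor.IsCoverDense.sheafHom (α f)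
  refine ⟨⟨N₀⟩, ?_⟩
  intro T _ inst hfin hfree halg t'
  have hinst : inst = (phi f T).hom.toAlgebra := Algebra.algebra_ext _ _ (fun a => halg a)
  subst hinst
  have hgood : Good f T := ⟨inferInstance, hfin, hfree⟩
  have h1 : N₀.app (op T) = αapp f T :=
    congrArg (fun β => β.app (op (⟨T, hgood⟩ : (Good f).FullSubcategory)))
      (Functor.IsCoverDense.sheafHom_restrict_eq (α f))
  rw [CGrpSh3.normPt_def]
  change Red.gmFn ((N₀.app (op T) (ULift.up (Additive.ofMul t'))).down.toMul) = _
  rw [h1]
  exact gmFn_nrmPt f T t'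

theorem isNormMap_unique [IsFinite f] [Flat f] [LocallyOfFinitePresentation f]
    (N N' : CGrpSh3.pushGm Scheme.fppfPrecoverage f ⟶ CGrpSh2.Gm Scheme.fppfPrecoverage X)
    (hN : CGrpSh3.IsNormMap Scheme.fppfPrecoverage f N)
    (hN' : CGrpSh3.IsNormMap Scheme.fppfPrecoverage f N') : N = N' := by
  haveI := isCoverDense f
  have key : Functor.whiskerLeft (incl f).op N.hom = Functor.whiskerLeft (incl f).op N'.hom := by
    ext W x
    obtain ⟨haff, hfin, hfree⟩ := W.unop.property
    letI := (phi f W.unop.obj).hom.toAlgebra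
    haveI := haff
    haveI := hfin
    haveI := hfree
    have h1 := hN W.unop.obj (fun a => rfl) x.down.toMul
    have h2 := hN' W.unop.obj (fun a => rfl) x.down.toMul
    have h3 : CGrpSh3.normPt Scheme.fppfPrecoverage f N W.unop.obj x.down.toMul =
        CGrpSh3.normPt Scheme.fppfPrecoverage f N' W.unop.obj x.down.toMul :=
      GmPts.gmFn_injective (h1.trans h2.symm)
    rw [CGrpSh3.normPt_def, CGrpSh3.normPt_def] at h3
    apply ULift.ext
    exact Additive.toMul.injective h3
  apply Sheaf.hom_ext
  rw [← Functor.IsCoverDense.sheafHom_eq (incl f) N.hom, key, Functor.IsCoverDense.sheafHom_eq]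

end Groth.Agent.Helper8.NormSh
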