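import Mathlib
import Groth.Prelude.Def_Pi1
import Groth.Agent.S9672

/-!
# Normalization of a scheme in a normal scheme: preparations on the source

Algebraic criterion for a localization to be a normal domain, and the local structure of a normal
scheme whose irreducible components are locally finite (clopen pieces, gluing, sections
determined by their germ at the generic point).
-/

set_option autoImplicit false
set_option linter.unusedSectionVars false
set_option linter.style.haveILetI false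
universe u

open AlgebraicGeometry CategoryTheory Opposite TopologicalSpace

namespace Groth.Agent.Helper8.NormSrcA

/-- A localization `S` of `R` at a prime `P` is a normal domain as soon as there is a map
`ρ : R → K` to a field whose kernel is killed by an element outside `P` and whose image is
integrally closed in `K`. -/
theorem normal_of_localization {R : Type u} [CommRing R] (P : Ideal R) [P.IsPrime]
    (S : Type u) [CommRing S] [Algebra R S] [IsLocalization.AtPrime S P]
    (K : Type u) [Field K] (ρ : R →+* K)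
    (h1 : ∀ a, ρ a = 0 → ∃ t, t ∉ P ∧ t * a = 0)
    (h2 : ∀ k : K, ρ.IsIntegralElem k → k ∈ ρ.range) :
    IsDomain S ∧ IsIntegrallyClosed S := by
  have h0 : ∀ t, t ∉ P → ρ t ≠ 0 := by
    intro t ht h
    obtain ⟨t', ht', h'⟩ := h1 t h
    have hmem : t' * t ∈ P := by rw [h']; exact P.zero_mem
    rcases (Ideal.IsPrime.mem_or_mem ‹P.IsPrime› hmem) with h | h
    · exact ht' h
    · exact ht h
  have hg : ∀ y : P.primeCompl, IsUnit (ρ y) := fun y => (h0 y.1 y.2).isUnit
  let ρS : S →+* K := IsLocalization.lift hg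
  have hρS : ∀ r, ρS (algebraMap R S r) = ρ r := fun r => IsLocalization.lift_eq hg r
  have hinj : Function.Injective ρS := by
    rw [IsLocalization.lift_injective_iff]
    intro x y
    constructor
    · intro h
      rw [← hρS, ← hρS, h]
    · intro h
      have h' : ρ (x - y) = 0 := by rw [map_sub, h, sub_self]
      obtain ⟨t, ht, hta⟩ := h1 _ h'
      rw [IsLocalization.eq_iff_exists P.primeCompl S]
      refine ⟨⟨t, ht⟩, ?_⟩
      have h3 : t * x - t * y = 0 := by rw [← mul_sub]; exact hta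
      exact sub_eq_zero.mp h3
  haveI : IsDomain S := hinj.isDomain ρS
  refine ⟨inferInstance, ?_⟩
  letI : Algebra R K := ρ.toAlgebra
  letI : Algebra S K := ρS.toAlgebra
  haveI : IsScalarTower R S K := IsScalarTower.of_algebraMap_eq (fun r => (hρS r).symm)
  rw [isIntegrallyClosed_iff (FractionRing S)]
  intro x hx
  let ψ : FractionRing S →+* K := IsFractionRing.lift hinj
  have hψ : ∀ s, ψ (algebraMap S (FractionRing S) s) = ρS s :=
    fun s => IsFractionRing.lift_algebraMap hinj s
  have hk : IsIntegral S (ψ x) := by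
    obtain ⟨p, hp, hpx⟩ := hx
    refine ⟨p, hp, ?_⟩
    have hcomp : (algebraMap S K) = ψ.comp (algebraMap S (FractionRing S)) := by
      ext s
      exact (hψ s).symm
    rw [hcomp, ← Polynomial.hom_eval₂, hpx, map_zero]
  obtain ⟨m, hm⟩ := IsIntegral.exists_multiple_integral_of_isLocalization P.primeCompl (ψ x) hk
  have hm' : ρ.IsIntegralElem (m • ψ x) := hm
  obtain ⟨a, ha⟩ := h2 _ hm'
  refine ⟨IsLocalization.mk' S a m, ?_⟩
  apply ψ.injective
  rw [hψ]
  have h3 : ρS (IsLocalization.mk' S a m) * ρ m = ρ a := by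
    rw [← hρS, ← map_mul, IsLocalization.mk'_spec, hρS]
  have h4 : (m • ψ x : K) = ρ m * ψ x := by
    rw [Submonoid.smul_def, Algebra.smul_def]
    rfl
  rw [ha, h4] at h3
  exact mul_right_cancel₀ (h0 m.1 m.2) (h3.trans (mul_comm _ _))

variable {X : Scheme.{u}}

theorem isReduced_of_normal (hX : Pi1.IsNormalScheme X) : IsReduced X := by
  haveI : ∀ x : X, _root_.IsReduced (X.presheaf.stalk x) := fun x => by
    haveI := (hX x).1
    infer_instance
  exact isReduced_of_isReduced_stalk X

/-- a point with a domain as local ring lies on a unique maximal point -/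
theorem generic_unique {x η η' : X} [IsDomain (X.presheaf.stalk x)]
    (hη : ∀ z : X, z ⤳ η → z = η) (hη' : ∀ z : X, z ⤳ η' → z = η')
    (h : η ⤳ x) (h' : η' ⤳ x) : η = η' := by
  have key : ∀ η : X, (∀ z : X, z ⤳ η → z = η) → η ⤳ x →
      η = X.fromSpecStalk x (⟨⊥, Ideal.isPrime_bot⟩ : PrimeSpectrum (X.presheaf.stalk x)) := by
    intro η hη h
    have hr : η ∈ Set.range (X.fromSpecStalk x) := by
      rw [Scheme.range_fromSpecStalk]
      exact h
    obtain ⟨p, rfl⟩ := hr
    symm
    apply hη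
    apply Specializes.map _ (X.fromSpecStalk x).continuous
    exact (PrimeSpectrum.le_iff_specializes
      (⟨⊥, Ideal.isPrime_bot⟩ : PrimeSpectrum (X.presheaf.stalk x)) p).mp
      (show (⊥ : Ideal (X.presheaf.stalk x)) ≤ PrimeSpectrum.asIdeal p from bot_le)
  rw [key η hη h, key η' hη' h']

/-- the local ring of a maximal point is a field if it is a domain -/
theorem isField_stalk_of_generic {η : X} [IsDomain (X.presheaf.stalk η)]
    (hη : ∀ z : X, z ⤳ η → z = η) : IsField (X.presheaf.stalk η) := by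
  rw [IsLocalRing.isField_iff_maximalIdeal_eq]
  have hemb := (X.fromSpecStalk η).isEmbedding
  have h1 : X.fromSpecStalk η
      (⟨⊥, Ideal.isPrime_bot⟩ : PrimeSpectrum (X.presheaf.stalk η)) = η := by
    apply hη
    have hr : X.fromSpecStalk η
        (⟨⊥, Ideal.isPrime_bot⟩ : PrimeSpectrum (X.presheaf.stalk η)) ∈
        Set.range (X.fromSpecStalk η) := Set.mem_range_self _
    rw [Scheme.range_fromSpecStalk] at hr
    exact hr
  have h2 : X.fromSpecStalk η (IsLocalRing.closedPoint (X.presheaf.stalk η)) = η :=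
    Scheme.fromSpecStalk_closedPoint
  have h3 := hemb.injective (h1.trans h2.symm)
  exact (congrArg PrimeSpectrum.asIdeal h3).symm

/-- the clopen pieces of a quasi-compact open -/
theorem exists_clopen_piece (hX : Pi1.IsNormalScheme X)
    (hfin : LocallyFinite (fun Z : ↥(irreducibleComponents ↥X) => (Z : Set ↥X)))
    (V : X.Opens) (hV : IsCompact (V : Set X)) (η : X)
    (hη : ∀ z : X, z ⤳ η → z = η) :
    ∃ V0 V' : X.Opens, V0 ≤ V ∧ V' ≤ V ∧ V ≤ V0 ⊔ V' ∧ V0 ⊓ V' = ⊥ ∧
      (∀ x, x ∈ V0 ↔ x ∈ V ∧ η ⤳ x) ∧ (∀ x, x ∈ V' ↔ x ∈ V ∧ ¬ η ⤳ x) := by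
  have hT := hfin.finite_nonempty_inter_compact hV
  let T : Set (Set X) := Subtype.val ''
    {Z : ↥(irreducibleComponents ↥X) | ((Z : Set X) ∩ (V : Set X)).Nonempty}
  have hTfin : T.Finite := hT.image _
  have hTirr : ∀ C ∈ T, C ∈ irreducibleComponents X := by
    rintro _ ⟨Z, -, rfl⟩
    exact Z.2
  let F : Set X := ⋃ C ∈ T \ {closure {η}}, C
  have hF : IsClosed F := (hTfin.subset Set.sdiff_subset).isClosed_biUnion
    (fun C hC => isClosed_of_mem_irreducibleComponents _ (hTirr C hC.1))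
  let V0 : X.Opens := V ⊓ ⟨Fᶜ, hF.isOpen_compl⟩
  let V' : X.Opens := V ⊓ ⟨(closure {η})ᶜ, isClosed_closure.isOpen_compl⟩
  have hV0 : ∀ x, x ∈ V0 ↔ x ∈ V ∧ η ⤳ x := by
    intro x
    constructor
    · rintro ⟨hxV, hxF⟩
      refine ⟨hxV, ?_⟩
      obtain ⟨Z, hZ, hxZ⟩ :=
        exists_mem_irreducibleComponents_subset_of_isIrreducible {x} isIrreducible_singleton
      have hxZ' : x ∈ Z := hxZ rfl
      have hZT : Z ∈ T := ⟨⟨Z, hZ⟩, ⟨x, hxZ', hxV⟩, rfl⟩
      by_cases hZη : Z = closure {η}
      · rw [specializes_iff_mem_closure, ← hZη]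
        exact hxZ'
      · exfalso
        apply hxF
        exact Set.mem_biUnion (⟨hZT, hZη⟩ : Z ∈ T \ {closure {η}}) hxZ'
    · rintro ⟨hxV, hηx⟩
      refine ⟨hxV, ?_⟩
      intro hxF
      obtain ⟨C, ⟨hCT, hCη⟩, hxC⟩ := Set.mem_iUnion₂.mp hxF
      have hCirr := hTirr C hCT
      obtain ⟨ζ, hζ⟩ := QuasiSober.sober hCirr.1 (isClosed_of_mem_irreducibleComponents _ hCirr)
      have hζgen : ∀ z : X, z ⤳ ζ → z = ζ := by
        rw [← Groth.Agent.S9682.generic_iff, hζ.def]
        exact hCirr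
      have hζx : ζ ⤳ x := by
        rw [specializes_iff_mem_closure, hζ.def]
        exact hxC
      haveI := (hX x).1
      have := generic_unique hζgen hη hζx hηx
      apply hCη
      rw [Set.mem_singleton_iff, ← hζ.def, this]
  have hV' : ∀ x, x ∈ V' ↔ x ∈ V ∧ ¬ η ⤳ x := by
    intro x
    rw [specializes_iff_mem_closure]
    exact Iff.rfl
  refine ⟨V0, V', inf_le_left, inf_le_left, ?_, ?_, hV0, hV'⟩
  · intro x hx
    by_cases h : η ⤳ x
    · exact Or.inl ((hV0 x).mpr ⟨hx, h⟩)
    · exact Or.inr ((hV' x).mpr ⟨hx, h⟩)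
  · refine eq_bot_iff.mpr (fun x hx => ?_)
    exact absurd ((hV0 x).mp hx.1).2 ((hV' x).mp hx.2).2

/-- gluing on two disjoint opens -/
theorem exists_glue_two (V0 V' V : X.Opens) (h0 : V0 ≤ V) (h' : V' ≤ V) (hc : V ≤ V0 ⊔ V')
    (hd : V0 ⊓ V' = ⊥) (b0 : Γ(X, V0)) (b' : Γ(X, V')) :
    ∃ b : Γ(X, V), X.presheaf.map (homOfLE h0).op b = b0 ∧
      X.presheaf.map (homOfLE h').op b = b' := by
  let U : Bool → X.Opens := fun i => cond i V0 V'
  let sf : ∀ i : Bool, Γ(X, U i) := fun i =>
    match i with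
    | true => b0
    | false => b'
  have hUV : ∀ i, U i ≤ V := fun i => by
    cases i
    · exact h'
    · exact h0
  have hcomp : TopCat.Presheaf.IsCompatible X.presheaf U sf := by
    intro i j
    cases i <;> cases j
    · rfl
    · have hbot : U false ⊓ U true = ⊥ := by
        show V' ⊓ V0 = ⊥
        rw [inf_comm]
        exact hd
      haveI : Subsingleton Γ(X, U false ⊓ U true) := by
        rw [hbot]
        infer_instance
      exact Subsingleton.elim _ _
    · have hbot : U true ⊓ U false = ⊥ := hd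
      haveI : Subsingleton Γ(X, U true ⊓ U false) := by
        rw [hbot]
        infer_instance
      exact Subsingleton.elim _ _
    · rfl
  have hcover : V ≤ iSup U :=
    hc.trans (sup_le (le_iSup U true) (le_iSup U false))
  obtain ⟨b, hb, -⟩ := TopCat.Sheaf.existsUnique_gluing' X.sheaf U V
    (fun i => homOfLE (hUV i)) hcover sf hcomp
  exact ⟨b, hb true, hb false⟩

/-- equality of sections on two opens covering -/
theorem eq_of_res_eq {V0 V' V : X.Opens} (h0 : V0 ≤ V) (h' : V' ≤ V) (hc : V ≤ V0 ⊔ V')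
    (s t : Γ(X, V))
    (h1 : X.presheaf.map (homOfLE h0).op s = X.presheaf.map (homOfLE h0).op t)
    (h2 : X.presheaf.map (homOfLE h').op s = X.presheaf.map (homOfLE h').op t) : s = t :=
  TopCat.Sheaf.eq_of_locally_eq₂ X.sheaf (homOfLE h0) (homOfLE h') hc s t h1 h2

/-- on an open all of whose points are specializations of `η`, a section is determined by its
germ at `η` (reduced case) -/
theorem eq_zero_of_germ_eq_zero [IsReduced X] (O : X.Opens) (η : X) (hO : ∀ y ∈ O, η ⤳ y)
    (d : Γ(X, O)) (hd : ∀ h : η ∈ O, X.presheaf.germ O η h d = 0) : d = 0 := by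
  rw [← AlgebraicGeometry.basicOpen_eq_bot_iff]
  refine eq_bot_iff.mpr (fun y hy => ?_)
  exfalso
  have hyO : y ∈ O := X.basicOpen_le d hy
  have hη : η ∈ X.basicOpen d := (hO y hyO).mem_open (X.basicOpen d).2 hy
  have hηO : η ∈ O := X.basicOpen_le d hη
  rw [X.mem_basicOpen d η hηO, hd hηO] at hη
  exact not_isUnit_zero hη

theorem mem_basicOpen_of_res_eq_one {O V : X.Opens} (h : O ≤ V) (e : Γ(X, V))
    (he : X.presheaf.map (homOfLE h).op e = 1) (x : X) (hx : x ∈ O) : x ∈ X.basicOpen e := by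
  rw [X.mem_basicOpen e x (h hx)]
  have h1 : X.presheaf.germ V x (h hx) e =
      X.presheaf.germ O x hx (X.presheaf.map (homOfLE h).op e) :=
    (TopCat.Presheaf.germ_res_apply X.presheaf (homOfLE h) x hx e).symm
  rw [h1, he, map_one]
  exact isUnit_one

theorem not_mem_basicOpen_of_res_eq_zero {O V : X.Opens} (h : O ≤ V) (e : Γ(X, V))
    (he : X.presheaf.map (homOfLE h).op e = 0) (x : X) (hx : x ∈ O) : x ∉ X.basicOpen e := by
  rw [X.mem_basicOpen e x (h hx)]
  have h1 : X.presheaf.germ V x (h hx) e =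
      X.presheaf.germ O x hx (X.presheaf.map (homOfLE h).op e) :=
    (TopCat.Presheaf.germ_res_apply X.presheaf (homOfLE h) x hx e).symm
  rw [h1, he, map_zero]
  exact not_isUnit_zero

/-- integrally closed coordinate rings from integrally closed stalks -/
theorem isIntegrallyClosed_of_stalks (U : X.Opens) (hU : IsAffineOpen U)
    [IsDomain Γ(X, U)]
    (h : ∀ x ∈ U, IsIntegrallyClosed (X.presheaf.stalk x)) : IsIntegrallyClosed Γ(X, U) := by
  apply IsIntegrallyClosed.of_localization_maximal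
  intro p _ hp
  have hmem : hU.fromSpec ⟨p, hp.isPrime⟩ ∈ U := by
    have : hU.fromSpec ⟨p, hp.isPrime⟩ ∈ Set.range hU.fromSpec := Set.mem_range_self _
    rw [hU.range_fromSpec] at this
    exact this
  have hQ : hU.primeIdealOf ⟨hU.fromSpec ⟨p, hp.isPrime⟩, hmem⟩ = ⟨p, hp.isPrime⟩ :=
    hU.fromSpec.isOpenEmbedding.injective (hU.fromSpec_primeIdealOf ⟨_, hmem⟩)
  letI : Algebra Γ(X, U) (X.presheaf.stalk (hU.fromSpec ⟨p, hp.isPrime⟩)) :=
    X.presheaf.algebra_section_stalk ⟨_, hmem⟩
  haveI h1 : IsLocalization.AtPrime (X.presheaf.stalk (hU.fromSpec ⟨p, hp.isPrime⟩))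
      (hU.primeIdealOf ⟨hU.fromSpec ⟨p, hp.isPrime⟩, hmem⟩).asIdeal :=
    hU.isLocalization_stalk ⟨_, hmem⟩
  rw [hQ] at h1
  haveI : IsLocalization.AtPrime (X.presheaf.stalk (hU.fromSpec ⟨p, hp.isPrime⟩)) p := h1
  haveI := h _ hmem
  exact IsIntegrallyClosed.of_equiv
    (IsLocalization.algEquiv p.primeCompl (X.presheaf.stalk (hU.fromSpec ⟨p, hp.isPrime⟩))
      (Localization.AtPrime p)).toRingEquiv

/-- on an affine open inside the closure of a maximal point, integral elements of the local ring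
of the maximal point are sections -/
theorem exists_section_affine [IsReduced X] (W : X.Opens) (hW : IsAffineOpen W) (η : X)
    (hηW : η ∈ W) (hW' : ∀ y ∈ W, η ⤳ y) (hfield : IsField (X.presheaf.stalk η))
    (hic : ∀ y ∈ W, IsIntegrallyClosed (X.presheaf.stalk y))
    (k : X.presheaf.stalk η) (hk : (X.presheaf.germ W η hηW).hom.IsIntegralElem k) :
    ∃ c : Γ(X, W), X.presheaf.germ W η hηW c = k := by
  letI := hfield.toField
  have hinj : Function.Injective (X.presheaf.germ W η hηW).hom := by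
    rw [injective_iff_map_eq_zero]
    intro d hd
    exact eq_zero_of_germ_eq_zero W η hW' d (fun _ => hd)
  haveI : IsDomain Γ(X, W) := hinj.isDomain _
  haveI : IsIntegrallyClosed Γ(X, W) := isIntegrallyClosed_of_stalks W hW hic
  letI : Algebra Γ(X, W) (X.presheaf.stalk η) := X.presheaf.algebra_section_stalk ⟨η, hηW⟩
  have hloc : IsLocalization.AtPrime (X.presheaf.stalk η)
      (hW.primeIdealOf ⟨η, hηW⟩).asIdeal := hW.isLocalization_stalk ⟨η, hηW⟩
  have hp : (hW.primeIdealOf ⟨η, hηW⟩).asIdeal = ⊥ := by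
    rw [eq_bot_iff]
    intro c hc
    have h1 : ¬ IsUnit (algebraMap Γ(X, W) (X.presheaf.stalk η) c) := by
      rw [IsLocalization.AtPrime.isUnit_to_map_iff (X.presheaf.stalk η)
        (hW.primeIdealOf ⟨η, hηW⟩).asIdeal]
      exact fun h => h hc
    have h2 : algebraMap Γ(X, W) (X.presheaf.stalk η) c = 0 := by
      by_contra h
      exact h1 (Ne.isUnit h)
    have h3 : (X.presheaf.germ W η hηW).hom c = (X.presheaf.germ W η hηW).hom 0 := by
      rw [map_zero]
      exact h2
    exact (Ideal.mem_bot).mpr (hinj h3)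
  have hcompl : (hW.primeIdealOf ⟨η, hηW⟩).asIdeal.primeCompl = nonZeroDivisors Γ(X, W) := by
    ext c
    rw [Ideal.mem_primeCompl_iff, hp, Ideal.mem_bot, mem_nonZeroDivisors_iff_ne_zero]
  haveI : IsFractionRing Γ(X, W) (X.presheaf.stalk η) := by
    have h := hloc
    unfold IsLocalization.AtPrime at h
    rw [hcompl] at h
    exact h
  have hk' : IsIntegral Γ(X, W) k := hk
  exact (isIntegrallyClosed_iff (X.presheaf.stalk η)).mp inferInstance hk'

theorem exists_affOpen (U : X.Opens) (y : X) (hy : y ∈ U) :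
    ∃ V : X.Opens, IsAffineOpen V ∧ y ∈ V ∧ V ≤ U := by
  obtain ⟨_, ⟨V, hV, rfl⟩, hyV, hVU⟩ := X.isBasis_affineOpens.exists_subset_of_mem_open hy U.2
  exact ⟨V, hV, hyV, hVU⟩

/-- on an open inside the closure of a maximal point of a normal scheme, integral elements of the
local ring of the maximal point are sections -/
theorem exists_section_piece (hX : Pi1.IsNormalScheme X) [IsReduced X] (V0 : X.Opens) (η : X)
    (hηV0 : η ∈ V0) (hV0 : ∀ y ∈ V0, η ⤳ y) (hfield : IsField (X.presheaf.stalk η))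
    (k : X.presheaf.stalk η) (hk : (X.presheaf.germ V0 η hηV0).hom.IsIntegralElem k) :
    ∃ b0 : Γ(X, V0), X.presheaf.germ V0 η hηV0 b0 = k := by
  have hloc : ∀ i : V0, ∃ (W : X.Opens) (_ : i.1 ∈ W) (hη : η ∈ W) (_ : W ≤ V0)
      (c : Γ(X, W)), X.presheaf.germ W η hη c = k := by
    intro i
    obtain ⟨W, hWaff, hiW, hWV0⟩ := exists_affOpen V0 i.1 i.2
    have hηW : η ∈ W := (hV0 i.1 i.2).mem_open W.2 hiW
    have hk' : (X.presheaf.germ W η hηW).hom.IsIntegralElem k := by
      obtain ⟨p, hp, hpk⟩ := hk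
      refine ⟨p.map (X.presheaf.map (homOfLE hWV0).op).hom, hp.map _, ?_⟩
      rw [Polynomial.eval₂_map]
      have hcomp : (X.presheaf.germ W η hηW).hom.comp (X.presheaf.map (homOfLE hWV0).op).hom =
          (X.presheaf.germ V0 η hηV0).hom := by
        rw [← CommRingCat.hom_comp, X.presheaf.germ_res]
      rw [hcomp]
      exact hpk
    obtain ⟨c, hc⟩ := exists_section_affine W hWaff η hηW (fun y hy => hV0 y (hWV0 hy)) hfield
      (fun y _ => (hX y).2) k hk'
    exact ⟨W, hiW, hηW, hWV0, c, hc⟩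
  choose U hiU hηU hUV sf hsf using hloc
  have hcompat : TopCat.Presheaf.IsCompatible X.presheaf U sf := by
    intro i j
    apply sub_eq_zero.mp
    apply eq_zero_of_germ_eq_zero (U i ⊓ U j) η (fun y hy => hV0 y (hUV i hy.1))
    intro h
    rw [map_sub, TopCat.Presheaf.germ_res_apply, TopCat.Presheaf.germ_res_apply, hsf, hsf,
      sub_self]
  have hcover : V0 ≤ iSup U := by
    intro y hy
    exact Opens.mem_iSup.mpr ⟨⟨y, hy⟩, hiU ⟨y, hy⟩⟩
  obtain ⟨b0, hb0, -⟩ := TopCat.Sheaf.existsUnique_gluing' X.sheaf U V0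
    (fun i => homOfLE (hUV i)) hcover sf hcompat
  refine ⟨b0, ?_⟩
  let i₀ : V0 := ⟨η, hηV0⟩
  rw [← hsf i₀, ← hb0 i₀]
  exact (TopCat.Presheaf.germ_res_apply X.presheaf (homOfLE (hUV i₀)) _ (hηU i₀) b0).symm

end Groth.Agent.Helper8.NormSrcA
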