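import Mathlib
import Groth.Prelude.Def_Pi1
import Groth.Agent.S9672
import Groth.Agent.Helper8.NormSrcA

/-!
# Normalization of a scheme in a normal scheme with locally finitely many components
-/

set_option autoImplicit false
set_option linter.unusedSectionVars false
set_option linter.style.haveILetI false
universe u

open AlgebraicGeometry CategoryTheory Opposite TopologicalSpace

namespace Groth.Agent.Helper8.NormSrcB

open Groth.Agent.Helper8.NormSrcA

variable {X Y : Scheme.{u}} (f : X ⟶ Y) [QuasiCompact f] [QuasiSeparated f]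

theorem nu_tau (x : X) : f.fromNormalization (f.toNormalization x) = f x := by
  rw [← Scheme.Hom.comp_apply, f.toNormalization_fromNormalization]

theorem hle (U : Y.Opens) :
    f ⁻¹ᵁ U ≤ f.toNormalization ⁻¹ᵁ (f.fromNormalization ⁻¹ᵁ U) := by
  intro x hx
  show f.fromNormalization (f.toNormalization x) ∈ U
  rw [nu_tau]
  exact hx

/-- the comparison map on sections over the preimages of `U` -/
noncomputable def tau (U : Y.Opens) :
    Γ(f.normalization, f.fromNormalization ⁻¹ᵁ U) →+* Γ(X, f ⁻¹ᵁ U) :=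
  (f.toNormalization.appLE (f.fromNormalization ⁻¹ᵁ U) (f ⁻¹ᵁ U) (hle f U)).hom

theorem tau_eq {U : Y.Opens} (hU : IsAffineOpen U) :
    letI := (f.app U).hom.toAlgebra
    tau f U = (Subalgebra.val (integralClosure Γ(Y, U) Γ(X, f ⁻¹ᵁ U))).toRingHom.comp
      (f.normalizationObjIso hU).hom.hom := by
  letI := (f.app U).hom.toAlgebra
  have h := f.normalizationObjIso_hom_val hU
  unfold tau
  rw [← h]
  rfl

theorem tau_injective {U : Y.Opens} (hU : IsAffineOpen U) : Function.Injective (tau f U) := by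
  letI := (f.app U).hom.toAlgebra
  intro a b hab
  rw [tau_eq f hU] at hab
  have h1 : (((f.normalizationObjIso hU).hom.hom a :
      integralClosure Γ(Y, U) Γ(X, f ⁻¹ᵁ U)) : Γ(X, f ⁻¹ᵁ U)) =
      ((f.normalizationObjIso hU).hom.hom b : integralClosure Γ(Y, U) Γ(X, f ⁻¹ᵁ U)) := hab
  have h2 := Subtype.ext h1
  exact (ConcreteCategory.bijective_of_isIso (f.normalizationObjIso hU).hom).1 h2

theorem mem_range_tau_iff {U : Y.Opens} (hU : IsAffineOpen U) (b : Γ(X, f ⁻¹ᵁ U)) :
    b ∈ (tau f U).range ↔ (f.app U).hom.IsIntegralElem b := by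
  letI := (f.app U).hom.toAlgebra
  rw [tau_eq f hU]
  constructor
  · rintro ⟨a, rfl⟩
    exact ((f.normalizationObjIso hU).hom.hom a).2
  · intro hb
    obtain ⟨a, ha⟩ := (ConcreteCategory.bijective_of_isIso (f.normalizationObjIso hU).hom).2
      ⟨b, hb⟩
    refine ⟨a, ?_⟩
    rw [RingHom.comp_apply]
    exact congrArg Subtype.val ha

theorem mem_range_of_isIntegralElem_tau {U : Y.Opens} (hU : IsAffineOpen U)
    (b : Γ(X, f ⁻¹ᵁ U)) (hb : (tau f U).IsIntegralElem b) : b ∈ (tau f U).range := by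
  letI := (f.app U).hom.toAlgebra
  rw [mem_range_tau_iff f hU]
  obtain ⟨p, hp, hpb⟩ := hb
  rw [tau_eq f hU] at hpb
  have h1 : IsIntegral (integralClosure Γ(Y, U) Γ(X, f ⁻¹ᵁ U)) b := by
    refine ⟨p.map (f.normalizationObjIso hU).hom.hom, hp.map _, ?_⟩
    rw [Polynomial.eval₂_map]
    exact hpb
  have h2 : IsIntegral Γ(Y, U) b :=
    isIntegral_trans (A := integralClosure Γ(Y, U) Γ(X, f ⁻¹ᵁ U)) b h1
  exact h2

theorem mem_basicOpen_tau (U : Y.Opens)
    (s : Γ(f.normalization, f.fromNormalization ⁻¹ᵁ U)) (x : X) (hx : x ∈ f ⁻¹ᵁ U) :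
    x ∈ X.basicOpen (tau f U s) ↔ f.toNormalization x ∈ f.normalization.basicOpen s := by
  unfold tau
  rw [Scheme.basicOpen_appLE]
  constructor
  · rintro ⟨_, h⟩
    exact h
  · intro h
    exact ⟨hx, h⟩

theorem exists_affine_nhd (y : Y) : ∃ U : Y.Opens, IsAffineOpen U ∧ y ∈ U := by
  obtain ⟨V, hV, hyV, -⟩ := exists_affOpen (⊤ : Y.Opens) y trivial
  exact ⟨V, hV, hyV⟩

/-- the separating idempotent -/
theorem exists_sep (hX : Pi1.IsNormalScheme X)
    (hfin : LocallyFinite (fun Z : ↥(irreducibleComponents ↥X) => (Z : Set ↥X)))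
    (U : Y.Opens) (hU : IsAffineOpen U) (η : X) (hη : ∀ z : X, z ⤳ η → z = η) :
    ∃ (V0 V' : X.Opens) (h0 : V0 ≤ f ⁻¹ᵁ U) (h' : V' ≤ f ⁻¹ᵁ U)
      (s : Γ(f.normalization, f.fromNormalization ⁻¹ᵁ U)),
      f ⁻¹ᵁ U ≤ V0 ⊔ V' ∧ V0 ⊓ V' = ⊥ ∧
      (∀ x, x ∈ V0 ↔ x ∈ f ⁻¹ᵁ U ∧ η ⤳ x) ∧ (∀ x, x ∈ V' ↔ x ∈ f ⁻¹ᵁ U ∧ ¬ η ⤳ x) ∧
      X.presheaf.map (homOfLE h0).op (tau f U s) = 1 ∧
      X.presheaf.map (homOfLE h').op (tau f U s) = 0 ∧ s * s = s := by
  have hc : IsCompact (f ⁻¹ᵁ U : Set X) := f.isCompact_preimage hU.isCompact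
  obtain ⟨V0, V', h0, h', hcov, hdisj, hV0, hV'⟩ :=
    exists_clopen_piece hX hfin (f ⁻¹ᵁ U) hc η hη
  obtain ⟨e, he1, he0⟩ := exists_glue_two V0 V' (f ⁻¹ᵁ U) h0 h' hcov hdisj 1 0
  have hee : e * e = e := by
    apply eq_of_res_eq h0 h' hcov
    · rw [map_mul, he1, mul_one]
    · rw [map_mul, he0, mul_zero]
  have hint : (f.app U).hom.IsIntegralElem e := by
    refine ⟨(Polynomial.X - Polynomial.C 1) * Polynomial.X,
      (Polynomial.monic_X_sub_C 1).mul Polynomial.monic_X, ?_⟩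
    rw [Polynomial.eval₂_mul, Polynomial.eval₂_sub, Polynomial.eval₂_X, Polynomial.eval₂_C,
      map_one, sub_mul, one_mul, hee, sub_self]
  obtain ⟨s, hs⟩ := (mem_range_tau_iff f hU e).mpr hint
  refine ⟨V0, V', h0, h', s, hcov, hdisj, hV0, hV', ?_, ?_, ?_⟩
  · rw [hs]
    exact he1
  · rw [hs]
    exact he0
  · apply tau_injective f hU
    rw [map_mul, hs, hee]

section main

variable (hX : Pi1.IsNormalScheme X)
  (hfin : LocallyFinite (fun Z : ↥(irreducibleComponents ↥X) => (Z : Set ↥X)))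

include hX hfin

/-- two distinct maximal points over the same affine open are separated in the normalization -/
theorem exists_sep_points (U : Y.Opens) (hU : IsAffineOpen U) (η η' : X)
    (hη : ∀ z : X, z ⤳ η → z = η) (hη' : ∀ z : X, z ⤳ η' → z = η')
    (hηU : η ∈ f ⁻¹ᵁ U) (hη'U : η' ∈ f ⁻¹ᵁ U) (hne : η' ≠ η) :
    ∃ s : Γ(f.normalization, f.fromNormalization ⁻¹ᵁ U),
      f.toNormalization η ∈ f.normalization.basicOpen s ∧
      f.toNormalization η' ∉ f.normalization.basicOpen s := by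
  obtain ⟨V0, V', h0, h', s, hcov, hdisj, hV0, hV', hs1, hs0, -⟩ :=
    exists_sep f hX hfin U hU η hη
  refine ⟨s, ?_, ?_⟩
  · exact (mem_basicOpen_tau f U s η hηU).mp
      (mem_basicOpen_of_res_eq_one h0 _ hs1 η ((hV0 η).mpr ⟨hηU, specializes_rfl⟩))
  · have h2 : η' ∈ V' := (hV' η').mpr ⟨hη'U, fun hsp => hne (hη' η hsp).symm⟩
    intro hh
    exact not_mem_basicOpen_of_res_eq_zero h' _ hs0 η' h2
      ((mem_basicOpen_tau f U s η' hη'U).mpr hh)

/-- maximal points map to maximal points -/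
theorem generic_map (y : X) (hy : ∀ z : X, z ⤳ y → z = y) :
    ∀ ζ : f.normalization, ζ ⤳ f.toNormalization y → ζ = f.toNormalization y := by
  intro ζ hζ
  obtain ⟨U, hUaff, hyU⟩ := exists_affine_nhd (f y)
  have hyV : y ∈ f ⁻¹ᵁ U := hyU
  obtain ⟨ζ', hζ'gen, hζ'ζ⟩ := Groth.Agent.S4603.exists_maximal_specializes ζ
  obtain ⟨η', hη'gen, hη'ζ'⟩ := Groth.Agent.S9672.result f ζ'
    ((Groth.Agent.S9682.generic_iff ζ').mpr hζ'gen)
  have hη'ζ'' : f.toNormalization η' = ζ' := hη'ζ'
  have hη'gen' := (Groth.Agent.S9682.generic_iff η').mp hη'gen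
  by_cases h : η' = y
  · subst h
    rw [hη'ζ''] at hζ ⊢
    exact (hζ.antisymm hζ'ζ).eq
  · exfalso
    have hτyW : f.toNormalization y ∈ f.fromNormalization ⁻¹ᵁ U := hle f U hyV
    have hζ'W : ζ' ∈ f.fromNormalization ⁻¹ᵁ U :=
      (hζ'ζ.trans hζ).mem_open (f.fromNormalization ⁻¹ᵁ U).2 hτyW
    have hη'V : η' ∈ f ⁻¹ᵁ U := by
      show f η' ∈ U
      rw [← nu_tau, hη'ζ'']
      exact hζ'W
    obtain ⟨s, hs1, hs2⟩ := exists_sep_points f hX hfin U hUaff y η' hy hη'gen' hyV hη'V h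
    rw [hη'ζ''] at hs2
    exact hs2 ((hζ'ζ.trans hζ).mem_open (f.normalization.basicOpen s).2 hs1)

/-- at most one maximal point over a point of the normalization -/
theorem generic_fibre_unique (y y' : X) (hy : ∀ z : X, z ⤳ y → z = y)
    (hy' : ∀ z : X, z ⤳ y' → z = y')
    (h : f.toNormalization y' = f.toNormalization y) : y' = y := by
  by_contra hne
  obtain ⟨U, hUaff, hyU⟩ := exists_affine_nhd (f y)
  have hyV : y ∈ f ⁻¹ᵁ U := hyU
  have hy'V : y' ∈ f ⁻¹ᵁ U := by
    show f y' ∈ U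
    rw [← nu_tau, h, nu_tau]
    exact hyU
  obtain ⟨s, hs1, hs2⟩ := exists_sep_points f hX hfin U hUaff y y' hy hy' hyV hy'V hne
  rw [h] at hs2
  exact hs2 hs1

omit hX in
/-- local finiteness of the components of the normalization -/
theorem locallyFinite_normalization :
    LocallyFinite (fun Z : ↥(irreducibleComponents ↥f.normalization) =>
      (Z : Set ↥f.normalization)) := by
  intro x'
  obtain ⟨U, hUaff, hx'U⟩ := exists_affine_nhd (f.fromNormalization x')
  refine ⟨(f.fromNormalization ⁻¹ᵁ U : Set f.normalization),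
    (f.fromNormalization ⁻¹ᵁ U).2.mem_nhds hx'U, ?_⟩
  have hc : IsCompact (f ⁻¹ᵁ U : Set X) := f.isCompact_preimage hUaff.isCompact
  have hT := hfin.finite_nonempty_inter_compact hc
  let g : ↥(irreducibleComponents ↥X) → Set f.normalization :=
    fun C => closure (f.toNormalization '' (C : Set X))
  have hfinimg := hT.image g
  apply Set.Finite.of_finite_image (f := Subtype.val) ?_ Subtype.val_injective.injOn
  apply hfinimg.subset
  rintro _ ⟨Z, hZ, rfl⟩
  obtain ⟨ξ, hξ⟩ := QuasiSober.sober Z.2.1 (isClosed_of_mem_irreducibleComponents _ Z.2)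
  have hξW : ξ ∈ f.fromNormalization ⁻¹ᵁ U :=
    (hξ.mem_open_set_iff (f.fromNormalization ⁻¹ᵁ U).2).2 hZ
  have hξgen : closure {ξ} ∈ irreducibleComponents f.normalization := by
    rw [hξ.def]
    exact Z.2
  obtain ⟨η, hηgen, hηξ⟩ := Groth.Agent.S9672.result f ξ hξgen
  have hηξ' : f.toNormalization η = ξ := hηξ
  refine ⟨⟨closure {η}, hηgen⟩, ?_, ?_⟩
  · refine ⟨η, subset_closure rfl, ?_⟩
    show f η ∈ U
    rw [← nu_tau, hηξ']
    exact hξW
  · show closure (f.toNormalization '' closure {η}) = Z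
    rw [closure_image_closure f.toNormalization.continuous, Set.image_singleton, hηξ', hξ.def]

/-- the normalization is normal -/
theorem normal_normalization : Pi1.IsNormalScheme f.normalization := by
  intro x'
  haveI := isReduced_of_normal hX
  obtain ⟨U, hUaff, hx'U⟩ := exists_affine_nhd (f.fromNormalization x')
  have hx'W : x' ∈ f.fromNormalization ⁻¹ᵁ U := hx'U
  have hW : IsAffineOpen (f.fromNormalization ⁻¹ᵁ U) := hUaff.preimage f.fromNormalization
  obtain ⟨ξ, hξgen, hξx'⟩ := Groth.Agent.S4603.exists_maximal_specializes x'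
  obtain ⟨η, hηgen, hηξ⟩ := Groth.Agent.S9672.result f ξ
    ((Groth.Agent.S9682.generic_iff ξ).mpr hξgen)
  have hηξ' : f.toNormalization η = ξ := hηξ
  have hηgen' := (Groth.Agent.S9682.generic_iff η).mp hηgen
  have hξW : ξ ∈ f.fromNormalization ⁻¹ᵁ U :=
    hξx'.mem_open (f.fromNormalization ⁻¹ᵁ U).2 hx'W
  have hηV : η ∈ f ⁻¹ᵁ U := by
    show f η ∈ U
    rw [← nu_tau, hηξ']
    exact hξW
  haveI : IsDomain (X.presheaf.stalk η) := (hX η).1
  have hfield := isField_stalk_of_generic hηgen'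
  obtain ⟨V0, V', h0, h', s, hcov, hdisj, hV0, hV', hs1, hs0, hss⟩ :=
    exists_sep f hX hfin U hUaff η hηgen'
  have hηV0 : η ∈ V0 := (hV0 η).mpr ⟨hηV, specializes_rfl⟩
  have hV0sp : ∀ y ∈ V0, η ⤳ y := fun y hy => ((hV0 y).mp hy).2
  have hgerm : ∀ b : Γ(X, f ⁻¹ᵁ U), X.presheaf.germ V0 η hηV0
      (X.presheaf.map (homOfLE h0).op b) = X.presheaf.germ (f ⁻¹ᵁ U) η hηV b :=
    fun b => TopCat.Presheaf.germ_res_apply X.presheaf (homOfLE h0) η hηV0 b
  -- sections over `V0` with zero germ vanish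
  have hvan : ∀ b : Γ(X, f ⁻¹ᵁ U), X.presheaf.germ (f ⁻¹ᵁ U) η hηV b = 0 →
      X.presheaf.map (homOfLE h0).op b = 0 := by
    intro b hb
    apply eq_zero_of_germ_eq_zero V0 η hV0sp
    intro _
    rw [hgerm, hb]
  letI := hfield.toField
  let ρ : Γ(f.normalization, f.fromNormalization ⁻¹ᵁ U) →+* X.presheaf.stalk η :=
    (X.presheaf.germ (f ⁻¹ᵁ U) η hηV).hom.comp (tau f U)
  letI : Algebra Γ(f.normalization, f.fromNormalization ⁻¹ᵁ U) (f.normalization.presheaf.stalk x') :=
    f.normalization.presheaf.algebra_section_stalk ⟨x', hx'W⟩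
  haveI : IsLocalization.AtPrime (f.normalization.presheaf.stalk x')
      (hW.primeIdealOf ⟨x', hx'W⟩).asIdeal := hW.isLocalization_stalk ⟨x', hx'W⟩
  -- `s` is not in the prime of `x'`
  have hsP : s ∉ (hW.primeIdealOf ⟨x', hx'W⟩).asIdeal := by
    have hu : IsUnit (algebraMap Γ(f.normalization, f.fromNormalization ⁻¹ᵁ U)
        (f.normalization.presheaf.stalk x') s) := by
      have hadd : algebraMap Γ(f.normalization, f.fromNormalization ⁻¹ᵁ U)
          (f.normalization.presheaf.stalk x') s +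
          algebraMap Γ(f.normalization, f.fromNormalization ⁻¹ᵁ U)
          (f.normalization.presheaf.stalk x') (1 - s) = 1 := by
        rw [← map_add, add_sub_cancel, map_one]
      rcases IsLocalRing.isUnit_or_isUnit_of_add_one hadd with hu | hu
      · exact hu
      · exfalso
        have h1 : x' ∈ f.normalization.basicOpen (1 - s) :=
          (f.normalization.mem_basicOpen (1 - s) x' hx'W).mpr hu
        have h2 : ξ ∈ f.normalization.basicOpen (1 - s) :=
          hξx'.mem_open (f.normalization.basicOpen (1 - s)).2 h1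
        rw [← hηξ'] at h2
        have h3 := (mem_basicOpen_tau f U (1 - s) η hηV).mpr h2
        refine not_mem_basicOpen_of_res_eq_zero h0 _ ?_ η hηV0 h3
        rw [map_sub, map_one, map_sub, map_one, hs1, sub_self]
    exact (IsLocalization.AtPrime.isUnit_to_map_iff (f.normalization.presheaf.stalk x')
      (hW.primeIdealOf ⟨x', hx'W⟩).asIdeal s).mp hu
  apply normal_of_localization (hW.primeIdealOf ⟨x', hx'W⟩).asIdeal
    (f.normalization.presheaf.stalk x') (X.presheaf.stalk η) ρ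
  · -- kernel killed by `s`
    intro a ha
    refine ⟨s, hsP, ?_⟩
    apply tau_injective f hUaff
    rw [map_mul, map_zero]
    apply eq_of_res_eq h0 h' hcov
    · rw [map_mul, hs1, one_mul, map_zero]
      exact hvan _ ha
    · rw [map_mul, hs0, zero_mul, map_zero]
  · -- integrally closed image
    intro k hk
    obtain ⟨p, hp, hpk⟩ := hk
    have hk0 : (X.presheaf.germ V0 η hηV0).hom.IsIntegralElem k := by
      refine ⟨p.map ((X.presheaf.map (homOfLE h0).op).hom.comp (tau f U)), hp.map _, ?_⟩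
      rw [Polynomial.eval₂_map]
      have hcomp : (X.presheaf.germ V0 η hηV0).hom.comp
          ((X.presheaf.map (homOfLE h0).op).hom.comp (tau f U)) = ρ := by
        ext a
        exact hgerm (tau f U a)
      rw [hcomp]
      exact hpk
    obtain ⟨b0, hb0⟩ := exists_section_piece hX V0 η hηV0 hV0sp hfield k hk0
    obtain ⟨b, hb1, hb2⟩ := exists_glue_two V0 V' (f ⁻¹ᵁ U) h0 h' hcov hdisj b0 0
    have hgermb : X.presheaf.germ (f ⁻¹ᵁ U) η hηV b = k := by
      rw [← hgerm, hb1, hb0]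
    have hβ : X.presheaf.germ (f ⁻¹ᵁ U) η hηV (Polynomial.eval₂ (tau f U) b p) = 0 := by
      have h1 := Polynomial.hom_eval₂ p (tau f U) (X.presheaf.germ (f ⁻¹ᵁ U) η hηV).hom b
      have h2 : (X.presheaf.germ (f ⁻¹ᵁ U) η hηV).hom (Polynomial.eval₂ (tau f U) b p) =
          Polynomial.eval₂ ρ k p := by
        rw [h1]
        congr 1
      exact h2.trans hpk
    have hbβ : b * Polynomial.eval₂ (tau f U) b p = 0 := by
      apply eq_of_res_eq h0 h' hcov
      · rw [map_mul, hvan _ hβ, mul_zero, map_zero]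
      · rw [map_mul, hb2, zero_mul, map_zero]
    have hbint : (tau f U).IsIntegralElem b := by
      refine ⟨Polynomial.X * p, Polynomial.monic_X.mul hp, ?_⟩
      rw [Polynomial.eval₂_mul, Polynomial.eval₂_X]
      exact hbβ
    obtain ⟨a, ha⟩ := mem_range_of_isIntegralElem_tau f hUaff b hbint
    refine ⟨a, ?_⟩
    show (X.presheaf.germ (f ⁻¹ᵁ U) η hηV).hom (tau f U a) = k
    rw [ha]
    exact hgermb

/-- the main theorem -/
theorem main :
    Pi1.IsNormalScheme f.normalization ∧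
    LocallyFinite (fun Z : ↥(irreducibleComponents ↥f.normalization) =>
      (Z : Set ↥f.normalization)) ∧
    (∀ y : X, closure {y} ∈ irreducibleComponents ↥X →
      closure {f.toNormalization.base y} ∈ irreducibleComponents ↥f.normalization) ∧
    (∀ x' : ↥f.normalization, closure {x'} ∈ irreducibleComponents ↥f.normalization →
      ∃! y : X, closure {y} ∈ irreducibleComponents ↥X ∧ f.toNormalization.base y = x') := by
  refine ⟨normal_normalization f hX hfin, locallyFinite_normalization f hfin, ?_, ?_⟩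
  · intro y hy
    rw [Groth.Agent.S9682.generic_iff] at hy ⊢
    exact generic_map f hX hfin y hy
  · intro x' hx'
    obtain ⟨y, hy, hyx'⟩ := Groth.Agent.S9672.result f x' hx'
    refine ⟨y, ⟨hy, hyx'⟩, ?_⟩
    rintro y' ⟨hy', hy'x'⟩
    exact generic_fibre_unique f hX hfin y y'
      ((Groth.Agent.S9682.generic_iff y).mp hy) ((Groth.Agent.S9682.generic_iff y').mp hy')
      (hy'x'.trans hyx'.symm)

end main

end Groth.Agent.Helper8.NormSrcB
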