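import Mathlib

namespace Groth.Agent.Helper8.NumSemi

open Classical

section
variable (S : Set ℕ) (c : ℕ) (hc : ∀ n, c ≤ n → n ∈ S)
include hc

theorem inf : (Set.ofPred (fun m => m ∈ S)).Infinite := by
  refine Set.Infinite.mono (s := Set.Ici c) (fun n hn => hc n hn) (Set.Ici_infinite c)

theorem compl_sub : Sᶜ ⊆ Set.Iio c := by
  intro n hn
  by_contra h
  exact hn (hc n (not_lt.mp h))

theorem r_add_δ : (S ∩ Set.Iio c).ncard + Sᶜ.ncard = c := by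
  have h1 : (S ∩ Set.Iio c) ∪ Sᶜ = Set.Iio c := by
    ext n
    constructor
    · rintro (⟨_, h⟩ | h)
      · exact h
      · exact compl_sub S c hc h
    · intro h
      by_cases hn : n ∈ S
      · exact Or.inl ⟨hn, h⟩
      · exact Or.inr hn
  have h2 : Disjoint (S ∩ Set.Iio c) Sᶜ := by
    rw [Set.disjoint_left]
    rintro n ⟨hn, _⟩ hn'
    exact hn' hn
  have hfin : (Set.Iio c).Finite := Set.finite_Iio c
  rw [← Set.ncard_union_eq h2 (hfin.subset Set.inter_subset_right)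
    (hfin.subset (compl_sub S c hc)), h1]
  rw [← Finset.coe_Iio, Set.ncard_coe_finset, Nat.card_Iio]

theorem count_c : Nat.count (fun m => m ∈ S) c = (S ∩ Set.Iio c).ncard := by
  rw [Nat.count_eq_card_filter_range]
  rw [← Set.ncard_coe_finset]
  congr 1
  ext n
  simp [and_comm]

theorem count_ge (n : ℕ) (hn : c ≤ n) :
    Nat.count (fun m => m ∈ S) n = (S ∩ Set.Iio c).ncard + (n - c) := by
  induction n, hn using Nat.le_induction with
  | base => rw [count_c S c hc]; simp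
  | succ n hn ih =>
    rw [Nat.count_succ, ih, if_pos (hc n hn)]
    omega

theorem nth_ge (i : ℕ) (hi : (S ∩ Set.Iio c).ncard ≤ i) :
    Nat.nth (fun m => m ∈ S) i = i + Sᶜ.ncard := by
  have hrd := r_add_δ S c hc
  have hmem : c + (i - (S ∩ Set.Iio c).ncard) ∈ S := hc _ (by omega)
  have h1 := Nat.nth_count (p := fun m => m ∈ S) hmem
  rw [count_ge S c hc _ (by omega)] at h1
  have h2 : (S ∩ Set.Iio c).ncard + (c + (i - (S ∩ Set.Iio c).ncard) - c) = i := by omega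
  rw [h2] at h1
  rw [h1]
  omega

theorem nth_le (i : ℕ) : Nat.nth (fun m => m ∈ S) i ≤ i + Sᶜ.ncard := by
  rcases le_or_gt (S ∩ Set.Iio c).ncard i with hi | hi
  · exact (nth_ge S c hc i hi).le
  · have hmono := Nat.nth_strictMono (inf S c hc)
    have h1 := hmono.add_le_nat ((S ∩ Set.Iio c).ncard - i) i
    have h2 : (S ∩ Set.Iio c).ncard - i + i = (S ∩ Set.Iio c).ncard := by omega
    rw [h2, nth_ge S c hc _ le_rfl] at h1
    omega

theorem nth_lt_pred (i : ℕ) (hi : i < (S ∩ Set.Iio c).ncard) (hc1 : c - 1 ∉ S) :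
    Nat.nth (fun m => m ∈ S) i + 2 ≤ c := by
  have h1 : Nat.nth (fun m => m ∈ S) i < c := by
    apply Nat.nth_lt_of_lt_count
    rw [count_c S c hc]; exact hi
  have h2 : Nat.nth (fun m => m ∈ S) i ∈ S := Nat.nth_mem_of_infinite (inf S c hc) i
  have h3 : Nat.nth (fun m => m ∈ S) i ≠ c - 1 := fun h => hc1 (h ▸ h2)
  omega

end

theorem main (Γ : AddSubmonoid ℕ) (c : ℕ) (hc : ∀ n : ℕ, c ≤ n → n ∈ Γ) (hc0 : c ≠ 0) (hc1 : c - 1 ∉ Γ) (S : Set ℕ) (hS0 : (0 : ℕ) ∈ S) (hS : ∀ γ : ℕ, γ ∈ Γ → ∀ s : ℕ, s ∈ S → γ + s ∈ S) (cS : ℕ) (hcS : ∀ n : ℕ, cS ≤ n → n ∈ S) (hcS1 : cS = 0 ∨ cS - 1 ∉ S) (S' : Set ℕ) (hS'0 : (0 : ℕ) ∈ S') (hS' : ∀ γ : ℕ, γ ∈ Γ → ∀ s : ℕ, s ∈ S' → γ + s ∈ S') (cS' : ℕ) (hcS' : ∀ n : ℕ, cS' ≤ n → n ∈ S') (hcS'1 : cS' = 0 ∨ cS' - 1 ∉ S') : (∀ i : ℕ, Nat.nth (fun m => m ∈ S) i + S'ᶜ.ncard ≤ Nat.nth (fun m => m ∈ S') i + Sᶜ.ncard) ↔ ((S' ∩ Set.Iio cS').ncard ≤ (S ∩ Set.Iio cS).ncard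 ∧ ∀ i : ℕ, i < (S' ∩ Set.Iio cS').ncard → Nat.nth (fun m => m ∈ S) i + S'ᶜ.ncard ≤ Nat.nth (fun m => m ∈ S') i + Sᶜ.ncard) := by
  constructor
  · intro h
    refine ⟨?_, fun i _ => h i⟩
    by_contra hlt
    push Not at hlt
    have hr' : 1 ≤ (S' ∩ Set.Iio cS').ncard := by omega
    have hcS'0 : cS' ≠ 0 := by
      intro h0
      subst h0
      simp at hr'
    have hc1' : cS' - 1 ∉ S' := hcS'1.resolve_left hcS'0
    have h1 := nth_ge S cS hcS ((S' ∩ Set.Iio cS').ncard - 1) (by omega)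
    have h2 := nth_lt_pred S' cS' hcS' ((S' ∩ Set.Iio cS').ncard - 1) (by omega) hc1'
    have h3 := r_add_δ S' cS' hcS'
    have h4 := h ((S' ∩ Set.Iio cS').ncard - 1)
    omega
  · rintro ⟨hr, h⟩ i
    rcases lt_or_ge i (S' ∩ Set.Iio cS').ncard with hi | hi
    · exact h i hi
    · rw [nth_ge S' cS' hcS' i hi]
      have := nth_le S cS hcS i
      omega

end Groth.Agent.Helper8.NumSemi
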