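import Mathlib
import Groth.Agent.Helper8.NumSemi

namespace Groth.Agent.Helper8.NumSemi2

open Classical

section
variable (S : Set ℕ) (s : ℕ) (hs : s ∉ S)

theorem count_insert_le (n : ℕ) (hn : n ≤ s) :
    Nat.count (fun m => m ∈ insert s S) n = Nat.count (fun m => m ∈ S) n := by
  induction n with
  | zero => simp
  | succ n ih =>
    rw [Nat.count_succ, Nat.count_succ, ih (by omega)]
    have hne : n ≠ s := by omega
    have : (n ∈ insert s S) ↔ n ∈ S := by
      simp [Set.mem_insert_iff, hne]
    simp only [this]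

include hs in
theorem count_insert_gt (n : ℕ) (hn : s < n) :
    Nat.count (fun m => m ∈ insert s S) n = Nat.count (fun m => m ∈ S) n + 1 := by
  induction n, hn using Nat.le_induction with
  | base =>
    rw [Nat.count_succ, Nat.count_succ, count_insert_le S s s le_rfl,
      if_pos (Set.mem_insert s S), if_neg hs]
  | succ n hn ih =>
    rw [Nat.count_succ, Nat.count_succ (p := fun m => m ∈ S), ih]
    have hne : n ≠ s := by omega
    have : (n ∈ insert s S) ↔ n ∈ S := by
      simp [Set.mem_insert_iff, hne]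
    simp only [this]
    omega

end

theorem main (Γ : AddSubmonoid ℕ) (c : ℕ) (hc : ∀ n : ℕ, c ≤ n → n ∈ Γ) (hc0 : c ≠ 0)
    (hc1 : c - 1 ∉ Γ) (S : Set ℕ) (hS0 : (0 : ℕ) ∈ S)
    (hS : ∀ γ : ℕ, γ ∈ Γ → ∀ s : ℕ, s ∈ S → γ + s ∈ S) (cS : ℕ)
    (hcS : ∀ n : ℕ, cS ≤ n → n ∈ S) (hcS0 : cS ≠ 0) (hcS1 : cS - 1 ∉ S) (s : ℕ) (hs : s ∉ S)
    (hs' : ∀ γ : ℕ, γ ∈ Γ → γ ≠ 0 → s + γ ∈ S) :
    (∀ i : ℕ, Nat.nth (fun m => m ∈ S) i ≤ Nat.nth (fun m => m ∈ insert s S) i + 1) ↔
      s + 1 = cS := by
  have hinf := NumSemi.inf S cS hcS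
  have hscS : s < cS := by
    by_contra h
    exact hs (hcS s (not_lt.mp h))
  constructor
  · intro h
    by_contra hne
    have hg : s < cS - 1 := by omega
    set g := cS - 1 with hgdef
    have h1 := count_insert_gt S s hs g hg
    have h2 : Nat.nth (fun m => m ∈ insert s S) (Nat.count (fun m => m ∈ S) g) < g := by
      apply Nat.nth_lt_of_lt_count
      rw [h1]; omega
    have h3 : g ≤ Nat.nth (fun m => m ∈ S) (Nat.count (fun m => m ∈ S) g) :=
      Nat.le_nth_count hinf g
    have h4 : Nat.nth (fun m => m ∈ S) (Nat.count (fun m => m ∈ S) g) ∈ S :=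
      Nat.nth_mem_of_infinite hinf _
    have h5 : Nat.nth (fun m => m ∈ S) (Nat.count (fun m => m ∈ S) g) ≠ g := fun h => hcS1 (h ▸ h4)
    have h6 := h (Nat.count (fun m => m ∈ S) g)
    omega
  · intro hcs i
    set k := Nat.count (fun m => m ∈ S) s with hk
    have hkc : Nat.count (fun m => m ∈ S) cS = k := by
      rw [← hcs, Nat.count_succ, if_neg hs, add_zero]
    have hcount : ∀ n, cS ≤ n → Nat.count (fun m => m ∈ S) n = k + (n - cS) := by
      intro n hn
      rw [NumSemi.count_ge S cS hcS n hn, ← NumSemi.count_c S cS hcS, hkc]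
    rcases lt_or_ge i k with hi | hi
    · -- below s the sets agree
      set n := Nat.nth (fun m => m ∈ S) i with hn
      have hnS : n ∈ S := Nat.nth_mem_of_infinite hinf i
      have hcn : Nat.count (fun m => m ∈ S) n = i := Nat.count_nth_of_infinite hinf i
      have hns : n < s := Nat.nth_lt_of_lt_count hi
      have hnS' : n ∈ insert s S := Set.mem_insert_of_mem s hnS
      have h1 := Nat.nth_count (p := fun m => m ∈ insert s S) hnS'
      rw [count_insert_le S s n hns.le, hcn] at h1
      rw [h1]
      omega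
    · -- above
      have hmem : s + 1 + (i - k) ∈ S := hcS _ (by omega)
      have h1 := Nat.nth_count (p := fun m => m ∈ S) hmem
      rw [hcount _ (by omega)] at h1
      have h2 : k + (s + 1 + (i - k) - cS) = i := by omega
      rw [h2] at h1
      rw [h1]
      have hmem' : s + (i - k) ∈ insert s S := by
        rcases Nat.eq_zero_or_pos (i - k) with h0 | h0
        · rw [h0, add_zero]; exact Set.mem_insert s S
        · exact Set.mem_insert_of_mem s (hcS _ (by omega))
      have h3 := Nat.nth_count (p := fun m => m ∈ insert s S) hmem'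
      have h4 : Nat.count (fun m => m ∈ insert s S) (s + (i - k)) = i := by
        rcases Nat.eq_zero_or_pos (i - k) with h0 | h0
        · rw [h0, add_zero, count_insert_le S s s le_rfl]; omega
        · rw [count_insert_gt S s hs _ (by omega), hcount _ (by omega)]; omega
      rw [h4] at h3
      rw [h3]
      omega

end Groth.Agent.Helper8.NumSemi2
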