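import Mathlib
import Groth.Agent.Helper7.PFb

set_option autoImplicit false
universe u v

namespace Groth.Agent.Helper8.PfDet

open Matrix MvPolynomial
open Groth.Agent.Helper7

section Basic

variable {n : Type} [Fintype n] [DecidableEq n]
variable {S : Type u} [CommRing S] {T : Type v} [CommRing T]

/-- Pfaffian-like function: `Pf y` is (up to a universal sign) the Pfaffian of `y - yᵀ`. -/
noncomputable def Pf (y : Matrix n n S) : S :=
  MvPolynomial.eval₂ (Int.castRingHom S) (fun p : n × n => y p.1 p.2) (PFb.pf n)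

theorem Pf_sq (y : Matrix n n S) : Pf y * Pf y = (y - yᵀ).det := by
  have h := PFb.det_eq (fun p : n × n => y p.1 p.2)
  unfold Pf
  rw [← h]
  congr 1

theorem map_Pf (φ : S →+* T) (y : Matrix n n S) : φ (Pf y) = Pf (y.map φ) := by
  unfold Pf
  rw [MvPolynomial.eval₂_comp_left]
  congr 1
  exact RingHom.ext_int _ _

theorem map_expr (φ : S →+* T) (A y N : Matrix n n S) :
    (Aᵀ * y * A + N).map φ = (A.map φ)ᵀ * y.map φ * A.map φ + N.map φ := by
  rw [Matrix.map_add _ (map_add φ), Matrix.map_mul, Matrix.map_mul, Matrix.transpose_map]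

/-- symmetrization of the upper-triangular part -/
def Nsym [LinearOrder n] (s : Matrix n n S) : Matrix n n S :=
  Matrix.of fun i j => if i ≤ j then s i j else s j i

omit [Fintype n] [DecidableEq n] in
theorem Nsym_transpose [LinearOrder n] (s : Matrix n n S) : (Nsym s)ᵀ = Nsym s := by
  ext i j
  simp only [Nsym, transpose_apply, of_apply]
  rcases lt_trichotomy i j with h | h | h
  · rw [if_neg (not_le.mpr h), if_pos h.le]
  · subst h; rfl
  · rw [if_pos h.le, if_neg (not_le.mpr h)]

omit [Fintype n] [DecidableEq n] in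
theorem Nsym_of_symm [LinearOrder n] (s : Matrix n n S) (hs : sᵀ = s) : Nsym s = s := by
  ext i j
  simp only [Nsym, of_apply]
  split_ifs with h
  · rfl
  · have := congrFun (congrFun hs i) j
    simpa using this

omit [Fintype n] [DecidableEq n] in
theorem Nsym_map [LinearOrder n] (φ : S →+* T) (s : Matrix n n S) :
    (Nsym s).map φ = Nsym (s.map φ) := by
  ext i j
  simp only [Nsym, of_apply, map_apply]
  split_ifs <;> rfl

omit [Fintype n] [DecidableEq n] in
theorem Nsym_zero [LinearOrder n] : Nsym (0 : Matrix n n S) = 0 := by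
  ext i j
  simp [Nsym]

theorem sign_fix {D : Type*} [CommRing D] [IsDomain D] [CharZero D] (σ : D →+* D) (E c p : D)
    (hsq : E * E = (c * p) * (c * p)) (hE : σ E = p) (hc : σ c = 1) (hp : σ p = p) :
    E = c * p := by
  have h1 : (E - c * p) * (E + c * p) = 0 := by linear_combination hsq
  rcases mul_eq_zero.mp h1 with h | h
  · exact sub_eq_zero.mp h
  · have h2 : E = -(c * p) := eq_neg_of_add_eq_zero_left h
    have h3 : σ E = -(σ c * σ p) := by rw [h2, map_neg, map_mul]
    rw [hE, hc, hp, one_mul] at h3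
    have h4 : (2 : D) * p = 0 := by linear_combination h3
    have h5 : p = 0 := by
      rcases mul_eq_zero.mp h4 with h | h
      · exact absurd h two_ne_zero
      · exact h
    rw [h2, h5]; simp

end Basic

section Generic

variable (n : Type) [Fintype n] [DecidableEq n]

/-- the generic ring: three generic matrices -/
abbrev P := MvPolynomial (Fin 3 × n × n) ℤ

/-- the `k`-th generic matrix -/
noncomputable def gM (k : Fin 3) : Matrix n n (P n) := Matrix.of fun i j => X (k, i, j)

/-- specialization `Y ↦ Y, A ↦ 1, S ↦ 0` -/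
noncomputable def sig : P n →+* P n :=
  (MvPolynomial.eval₂Hom (C : ℤ →+* P n)
    (fun p : Fin 3 × n × n => if p.1 = 0 then X p else if p.1 = 1 then
      (if p.2.1 = p.2.2 then 1 else 0) else 0))

theorem gM_map_sig_zero : (gM n 0).map (sig n) = gM n 0 := by
  ext i j
  simp [gM, sig]

theorem gM_map_sig_one : (gM n 1).map (sig n) = 1 := by
  ext i j
  simp [gM, sig, Matrix.one_apply]

theorem gM_map_sig_two : (gM n 2).map (sig n) = 0 := by
  ext i j
  simp [gM, sig]

theorem generic [LinearOrder n] :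
    Pf ((gM n 1)ᵀ * gM n 0 * gM n 1 + Nsym (gM n 2)) = (gM n 1).det * Pf (gM n 0) := by
  apply sign_fix (sig n)
  · rw [mul_mul_mul_comm, Pf_sq, Pf_sq]
    have h1 : ((gM n 1)ᵀ * gM n 0 * gM n 1 + Nsym (gM n 2)) -
        ((gM n 1)ᵀ * gM n 0 * gM n 1 + Nsym (gM n 2))ᵀ =
        (gM n 1)ᵀ * (gM n 0 - (gM n 0)ᵀ) * gM n 1 := by
      rw [transpose_add, transpose_mul, transpose_mul, transpose_transpose, Nsym_transpose,
        Matrix.mul_sub, Matrix.sub_mul, Matrix.mul_assoc, Matrix.mul_assoc]
      abel
    rw [h1, det_mul, det_mul, det_transpose]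
    ring
  · rw [map_Pf, map_expr, Nsym_map,
      gM_map_sig_zero, gM_map_sig_one, gM_map_sig_two, Nsym_zero]
    simp
  · rw [RingHom.map_det, RingHom.mapMatrix_apply, gM_map_sig_one, det_one]
  · rw [map_Pf, gM_map_sig_zero]

end Generic

section Special

variable {n : Type} [Fintype n] [DecidableEq n]
variable {S : Type u} [CommRing S]

/-- specialization hom -/
noncomputable def spec (y A s : Matrix n n S) : P n →+* S :=
  MvPolynomial.eval₂Hom (Int.castRingHom S)
    (fun p : Fin 3 × n × n => (![y, A, s] : Fin 3 → Matrix n n S) p.1 p.2.1 p.2.2)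

omit [Fintype n] [DecidableEq n] in
theorem gM_map_spec (y A s : Matrix n n S) (k : Fin 3) :
    (gM n k).map (spec y A s) = (![y, A, s] : Fin 3 → Matrix n n S) k := by
  ext i j
  simp [gM, spec]

theorem Pf_congr [LinearOrder n] (y A s : Matrix n n S) :
    Pf (Aᵀ * y * A + Nsym s) = A.det * Pf y := by
  have h := congrArg (spec y A s) (generic n)
  rw [map_mul, map_Pf, map_Pf, RingHom.map_det, RingHom.mapMatrix_apply,
    map_expr, Nsym_map,
    gM_map_spec, gM_map_spec, gM_map_spec] at h
  simpa using h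

theorem det_eq_one [LinearOrder n] (J A y : Matrix n n S) (hy : y - yᵀ = J)
    (hJ : IsUnit J.det) (hA : Aᵀ * J * A = J) : A.det = 1 := by
  set N₀ : Matrix n n S := y - Aᵀ * y * A with hN
  have hN1 : N₀ᵀ = N₀ := by
    have h1 : N₀ - N₀ᵀ = 0 := by
      rw [hN, transpose_sub, transpose_mul, transpose_mul, transpose_transpose]
      have h2 : y - Aᵀ * y * A - (yᵀ - Aᵀ * (yᵀ * A)) = (y - yᵀ) - Aᵀ * (y - yᵀ) * A := by
        rw [Matrix.mul_sub, Matrix.sub_mul, Matrix.mul_assoc, Matrix.mul_assoc]
        abel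
      rw [h2, hy, hA, sub_self]
    exact (sub_eq_zero.mp h1).symm
  have h3 : y = Aᵀ * y * A + Nsym N₀ := by
    rw [Nsym_of_symm _ hN1, hN]; abel
  have h4 : Pf y = A.det * Pf y := by
    conv_lhs => rw [h3]
    exact Pf_congr y A N₀
  have h5 : IsUnit (Pf y) := by
    have : IsUnit (Pf y * Pf y) := by rw [Pf_sq, hy]; exact hJ
    exact isUnit_of_mul_isUnit_left this
  have h6 : (A.det - 1) * Pf y = 0 := by linear_combination -h4
  have h7 := (h5.mul_left_eq_zero).mp h6
  exact sub_eq_zero.mp h7

end Special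

end Groth.Agent.Helper8.PfDet
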