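import Mathlib
import Groth.Prelude.Def_QuadGrp
import Groth.Agent.Helper8.PfDet

set_option autoImplicit false
universe u v

namespace Groth.Agent.Helper8.OSOChar2

open Matrix

variable {R : Type u} [CommRing R] {M : Type v} [AddCommGroup M] [Module R M]

theorem polar_isometry (Q : QuadraticForm R M) (g : M ≃ₗ[R] M) (hg : ∀ v, Q (g v) = Q v) (x y : M) :
    QuadraticMap.polar Q (g x) (g y) = QuadraticMap.polar Q x y := by
  simp only [QuadraticMap.polar, ← map_add, hg]

theorem det_isometry [CharP R 2] {k : ℕ} (b : Module.Basis (Fin k) R M) (Q : QuadraticForm R M)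
    (hQ : QuadGrp.IsRegular Q)
    (g : M ≃ₗ[R] M) (hg : ∀ v, Q (g v) = Q v) : LinearEquiv.det g = 1 := by
  set B := QuadraticMap.polarBilin Q with hB
  set J : Matrix (Fin k) (Fin k) R := LinearMap.toMatrix₂ b b B with hJ
  set A : Matrix (Fin k) (Fin k) R := LinearMap.toMatrix b b (g : M →ₗ[R] M) with hA
  have hJA : Aᵀ * J * A = J := by
    rw [hA, hJ, ← LinearMap.toMatrix₂_compl₁₂ b b b b]
    congr 1
    ext x y
    simp [hB, polar_isometry Q g hg]
  have hJii : ∀ i, J i i = 0 := by
    intro i
    rw [hJ, LinearMap.toMatrix₂_apply, hB, QuadraticMap.polarBilin_apply_apply,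
      QuadraticMap.polar_self, two_nsmul, CharTwo.add_self_eq_zero]
  have hJsymm : ∀ i j, J j i = J i j := by
    intro i j
    rw [hJ, LinearMap.toMatrix₂_apply, LinearMap.toMatrix₂_apply, hB,
      QuadraticMap.polarBilin_apply_apply, QuadraticMap.polarBilin_apply_apply,
      QuadraticMap.polar_comm]
  set y : Matrix (Fin k) (Fin k) R := Matrix.of fun i j => if i < j then J i j else 0 with hy
  have hyJ : y - yᵀ = J := by
    ext i j
    simp only [hy, Matrix.sub_apply, transpose_apply, of_apply]
    rcases lt_trichotomy i j with h | h | h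
    · rw [if_pos h, if_neg (not_lt.mpr h.le), sub_zero]
    · subst h; simp [hJii]
    · rw [if_neg (not_lt.mpr h.le), if_pos h, zero_sub, hJsymm, CharTwo.neg_eq]
  have hJu : IsUnit J.det := by
    rw [← Matrix.isUnit_iff_isUnit_det, ← Matrix.vecMul_surjective_iff_isUnit]
    intro w
    obtain ⟨x, hx⟩ := hQ.2 (b.constr R w)
    refine ⟨fun j => b.repr x j, ?_⟩
    ext i
    have h1 : B x (b i) = w i := by rw [hx]; simp [Module.Basis.constr_basis]
    rw [← h1]
    have h2 : B x (b i) = ∑ j, (b.repr x) j * B (b j) (b i) := by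
      conv_lhs => rw [← b.sum_repr x]
      rw [map_sum, LinearMap.sum_apply]
      simp only [map_smul, LinearMap.smul_apply, smul_eq_mul]
    rw [h2]
    simp [Matrix.vecMul, dotProduct, hJ, LinearMap.toMatrix₂_apply]
  have hdet : A.det = 1 := PfDet.det_eq_one J A y hyJ hJu hJA
  apply Units.ext
  rw [LinearEquiv.coe_det, ← LinearMap.det_toMatrix b, hdet]
  rfl

end Groth.Agent.Helper8.OSOChar2
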