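import Mathlib

namespace Groth.Agent.Helper8.OpenSurj

universe u

theorem main (B : Type u) [CommRing B] [TopologicalSpace B]
    [IsTopologicalRing B] (hB : IsOpen {b : B | IsUnit b})
    (M M' : Type u) [AddCommGroup M] [Module B M] [Module.Finite B M] [Module.Projective B M]
    [AddCommGroup M'] [Module B M'] [Module.Finite B M'] [Module.Projective B M']
    [TopologicalSpace (M →ₗ[B] M')] [IsModuleTopology B (M →ₗ[B] M')] :
    IsOpen {f : M →ₗ[B] M' | Function.Surjective f} := by
  rw [isOpen_iff_mem_nhds]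
  intro f₀ hf₀
  -- section of f₀
  obtain ⟨s₀, hs₀⟩ := Module.projective_lifting_property f₀ LinearMap.id hf₀
  -- presentation of M'
  obtain ⟨n, π, hπ⟩ := Module.Finite.exists_fin' B M'
  obtain ⟨σ, hσ⟩ := Module.projective_lifting_property π LinearMap.id hπ
  -- the endomorphism of Bⁿ attached to f
  let E : (M →ₗ[B] M') → ((Fin n → B) →ₗ[B] (Fin n → B)) := fun f =>
    σ ∘ₗ f ∘ₗ s₀ ∘ₗ π + (LinearMap.id - σ ∘ₗ π)
  have hEapp : ∀ f v, E f v = σ (f (s₀ (π v))) + (v - σ (π v)) := fun f v => rfl
  have hE₀ : E f₀ = LinearMap.id := by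
    apply LinearMap.ext
    intro v
    have : f₀ (s₀ (π v)) = π v := LinearMap.congr_fun hs₀ (π v)
    rw [hEapp, this, LinearMap.id_apply]
    abel
  let Ψ : (M →ₗ[B] M') → B := fun f => (LinearMap.toMatrix' (E f)).det
  have hΨc : Continuous Ψ := by
    apply Continuous.matrix_det
    apply continuous_matrix
    intro i j
    -- the entry is an affine-linear function of f
    let L : (M →ₗ[B] M') →ₗ[B] B :=
      { toFun := fun f => σ (f (s₀ (π (Pi.single j 1)))) i
        map_add' := by intro f g; simp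
        map_smul' := by intro c f; simp }
    have hL : Continuous L := IsModuleTopology.continuous_of_linearMap L
    have : (fun f => LinearMap.toMatrix' (E f) i j) =
        fun f => L f + ((Pi.single j 1 : Fin n → B) - σ (π (Pi.single j 1))) i := by
      funext f
      rw [LinearMap.toMatrix'_apply, hEapp]
      rfl
    rw [this]
    exact hL.add continuous_const
  have hopen : IsOpen (Ψ ⁻¹' {b : B | IsUnit b}) := hB.preimage hΨc
  have hmem : f₀ ∈ Ψ ⁻¹' {b : B | IsUnit b} := by
    change IsUnit (LinearMap.toMatrix' (E f₀)).det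
    rw [hE₀, LinearMap.toMatrix'_id, Matrix.det_one]
    exact isUnit_one
  refine Filter.mem_of_superset (hopen.mem_nhds hmem) ?_
  intro f hf
  change IsUnit (LinearMap.toMatrix' (E f)).det at hf
  have hunit : IsUnit (LinearMap.toMatrix' (E f)) := (Matrix.isUnit_iff_isUnit_det _).mpr hf
  have hsurj : Function.Surjective (LinearMap.toMatrix' (E f)).mulVec :=
    Matrix.mulVec_surjective_iff_isUnit.mpr hunit
  intro m'
  obtain ⟨w, hw⟩ := hsurj (σ m')
  have hw' : E f w = σ m' := by
    rw [← hw, ← Matrix.toLin'_apply, Matrix.toLin'_toMatrix']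
  refine ⟨s₀ (π w), ?_⟩
  have h1 := congrArg π hw'
  have hπσ : ∀ x, π (σ x) = x := fun x => LinearMap.congr_fun hσ x
  rw [hEapp] at h1
  simp only [map_add, map_sub, hπσ] at h1
  rw [← h1]
  abel

end Groth.Agent.Helper8.OpenSurj
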