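import Mathlib
import Groth.Prelude.Def_AlgGrp
import Groth.Agent.Helper5.NNorm3
import Groth.Agent.Helper2.NowhereDim
import Groth.Agent.S7984

set_option autoImplicit false
set_option linter.style.haveILetI false
universe u

namespace Groth.Agent.Helper8.OrbitBd

open CategoryTheory CategoryTheory.Limits AlgebraicGeometry TopologicalSpace Topology

/-- an embedding restricted to the preimage of a subset of its range is a homeomorphism. -/
lemma dim_preimage_of_subset_range {Y X : Type*} [TopologicalSpace Y] [TopologicalSpace X]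
    {f : Y → X} (hf : IsEmbedding f) (S : Set X) (hS : S ⊆ Set.range f) :
    topologicalKrullDim ↥(f ⁻¹' S) = topologicalKrullDim ↥S := by
  have h1 : IsEmbedding (S.restrictPreimage f) := hf.restrictPreimage S
  have h2 : Function.Surjective (S.restrictPreimage f) := by
    rintro ⟨s, hs⟩
    obtain ⟨y, rfl⟩ := hS hs
    exact ⟨⟨y, hs⟩, rfl⟩
  exact IsHomeomorph.topologicalKrullDim_eq _
    (isHomeomorph_iff_isEmbedding_surjective.mpr ⟨h1, h2⟩)

lemma lt_of_add_one_le {a b : WithBot ℕ∞} (h : a + 1 ≤ b) (hb : b < ⊤) (hb0 : ⊥ < b) : a < b := by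
  induction a using WithBot.recBotCoe with
  | bot => exact hb0
  | coe a =>
    induction b using WithBot.recBotCoe with
    | bot => exact absurd hb0 (lt_irrefl _)
    | coe b =>
      have h' : a + 1 ≤ b := by exact_mod_cast h
      have hbt : b ≠ ⊤ := by
        rintro rfl
        exact absurd hb (lt_irrefl _)
      have ha : a ≠ ⊤ := by
        rintro rfl
        apply hbt
        rw [top_add] at h'
        exact top_le_iff.mp h'
      have := (ENat.add_one_le_iff ha).1 h'
      exact_mod_cast this

variable (k : Type u) [Field k]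

open Groth.Agent.Helper5.DimStrat Groth.Agent.Helper5.NNorm in
theorem dim_lt_top {Y : Scheme.{u}} (g : Y ⟶ Spec (CommRingCat.of k)) [LocallyOfFiniteType g]
    [NoetherianSpace Y] : topologicalKrullDim Y < ⊤ := by
  classical
  rcases isEmpty_or_nonempty Y with hY | hY
  · haveI : IsEmpty (IrreducibleCloseds Y) := ⟨fun T => by
      obtain ⟨y, -⟩ := T.isIrreducible'.1
      exact hY.elim y⟩
    have : topologicalKrullDim Y = ⊥ := Order.krullDim_eq_bot
    rw [this]
    exact bot_lt_top
  have hfin : (irreducibleComponents Y).Finite := NoetherianSpace.finite_irreducibleComponents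
  have hgen : ∀ T ∈ irreducibleComponents Y, ∃ ξ : Y, IsGenericPoint ξ T := fun T hT =>
    QuasiSober.sober hT.1 (isClosed_of_mem_irreducibleComponents T hT)
  choose! ξ hξ using hgen
  let b : ℕ := hfin.toFinset.sup (fun T => δ k g (ξ T))
  have hle : topologicalKrullDim Y ≤ (b : WithBot ℕ∞) := by
    rw [dim_le_iff_δ k g]
    intro z
    obtain ⟨T, hT, hzT⟩ := exists_mem_irreducibleComponents_subset_of_isIrreducible
      ({z} : Set Y) isIrreducible_singleton
    have hz : z ∈ T := hzT rfl
    have hsp : ξ T ⤳ z := (hξ T hT).specializes hz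
    have h1 : δ k g z ≤ δ k g (ξ T) := by
      have hcl : closure ({z} : Set Y) ⊆ closure {ξ T} := specializes_iff_closure_subset.mp hsp
      have := (IsEmbedding.inclusion hcl).isInducing.topologicalKrullDim_le
      rw [(δ_spec k g z).1, (δ_spec k g (ξ T)).1] at this
      exact_mod_cast this
    have h2 : δ k g (ξ T) ≤ b :=
      Finset.le_sup (f := fun T => δ k g (ξ T)) (hfin.mem_toFinset.mpr hT)
    exact_mod_cast h1.trans h2
  refine lt_of_le_of_lt hle ?_
  change ((b : ℕ∞) : WithBot ℕ∞) < ((⊤ : ℕ∞) : WithBot ℕ∞)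
  exact WithBot.coe_lt_coe.2 (ENat.coe_lt_top b)

/-- the boundary of a nonempty locally closed subset of a scheme of finite type over a field has
smaller dimension. -/
theorem dim_boundary_lt {X : Scheme.{u}} (p : X ⟶ Spec (CommRingCat.of k))
    [LocallyOfFiniteType p] [CompactSpace X] (A : Set X) (hA : IsLocallyClosed A)
    (hne : A.Nonempty) :
    topologicalKrullDim ↥(closure A \ A) < topologicalKrullDim ↥A := by
  classical
  let C : Closeds X := ⟨closure A, isClosed_closure⟩
  let I := Scheme.IdealSheafData.vanishingIdeal C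
  have hrange : Set.range I.subschemeι = closure A := by
    rw [I.range_subschemeι, Scheme.IdealSheafData.coe_support_vanishingIdeal]
    rfl
  have hmem : ∀ y : I.subscheme, I.subschemeι y ∈ closure A := fun y => hrange ▸ ⟨y, rfl⟩
  have hemb : IsEmbedding I.subschemeι := I.subschemeι.isEmbedding
  haveI : LocallyOfFiniteType (I.subschemeι ≫ p) := inferInstance
  haveI : IsLocallyNoetherian I.subscheme :=
    LocallyOfFiniteType.isLocallyNoetherian (I.subschemeι ≫ p)
  haveI : CompactSpace I.subscheme := I.subschemeι.isClosedEmbedding.compactSpace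
  haveI : IsNoetherian I.subscheme := {}
  haveI : NoetherianSpace I.subscheme := inferInstance
  obtain ⟨U, Z, hU, hZ, hAeq⟩ := hA
  have hA2 : A = U ∩ closure A := by
    apply Set.Subset.antisymm
    · intro a ha
      exact ⟨by rw [hAeq] at ha; exact ha.1, subset_closure ha⟩
    · rintro a ⟨haU, haA⟩
      rw [hAeq]
      refine ⟨haU, ?_⟩
      have : closure A ⊆ Z := closure_minimal (by rw [hAeq]; exact Set.inter_subset_right) hZ
      exact this haA
  have hpre : I.subschemeι ⁻¹' A = I.subschemeι ⁻¹' U := by
    ext y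
    constructor
    · intro hy
      have : I.subschemeι y ∈ U ∩ closure A := hA2 ▸ hy
      exact this.1
    · intro hy
      change I.subschemeι y ∈ A
      rw [hA2]
      exact ⟨hy, hmem y⟩
  have hopen : IsOpen (I.subschemeι ⁻¹' A) := hpre ▸ hU.preimage I.subschemeι.continuous
  have hdense : Dense (I.subschemeι ⁻¹' A) := by
    rw [dense_iff_closure_eq, hemb.closure_eq_preimage_closure_image,
      Set.image_preimage_eq_inter_range, hrange, Set.inter_eq_left.mpr subset_closure]
    ext y
    simp only [Set.mem_preimage, Set.mem_univ, iff_true]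
    exact hmem y
  have h1 : topologicalKrullDim ↥(I.subschemeι ⁻¹' A) = topologicalKrullDim I.subscheme :=
    Groth.Agent.Helper5.NNorm.dim_of_dense k (I.subschemeι ≫ p) _ hopen hdense
  have h2 : topologicalKrullDim ↥(I.subschemeι ⁻¹' A) = topologicalKrullDim ↥A :=
    dim_preimage_of_subset_range hemb A (hrange ▸ subset_closure)
  have hBpre : I.subschemeι ⁻¹' (closure A \ A) = (I.subschemeι ⁻¹' A)ᶜ := by
    ext y
    simp only [Set.mem_preimage, Set.mem_diff, Set.mem_compl_iff]
    exact ⟨fun h => h.2, fun h => ⟨hmem y, h⟩⟩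
  have hBcl : IsClosed (I.subschemeι ⁻¹' (closure A \ A)) := hBpre ▸ hopen.isClosed_compl
  have hBint : interior (I.subschemeι ⁻¹' (closure A \ A)) = ∅ := by
    rw [hBpre, interior_compl, hdense.closure_eq, Set.compl_univ]
  have h3 : topologicalKrullDim ↥(I.subschemeι ⁻¹' (closure A \ A)) + 1 ≤
      topologicalKrullDim I.subscheme :=
    Groth.Agent.Helper2.ZeroDim.dim_add_one_le _ hBcl
      (Groth.Agent.Helper2.NowhereDim.exists_proper_generization _ hBcl hBint)
  have h4 : topologicalKrullDim ↥(I.subschemeι ⁻¹' (closure A \ A)) =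
      topologicalKrullDim ↥(closure A \ A) :=
    dim_preimage_of_subset_range hemb _ (hrange ▸ Set.diff_subset)
  have h5 : topologicalKrullDim I.subscheme < ⊤ := dim_lt_top k (I.subschemeι ≫ p)
  have h6 : ⊥ < topologicalKrullDim I.subscheme := by
    obtain ⟨a, ha⟩ := hne
    obtain ⟨y, hy⟩ : a ∈ Set.range I.subschemeι := hrange ▸ subset_closure ha
    haveI : Nonempty I.subscheme := ⟨y⟩
    haveI : Nonempty (IrreducibleCloseds I.subscheme) :=
      ⟨⟨closure {y}, isIrreducible_singleton.closure, isClosed_closure⟩⟩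
    have h0 : (0 : WithBot ℕ∞) ≤ topologicalKrullDim I.subscheme := Order.krullDim_nonneg
    exact lt_of_lt_of_le (WithBot.bot_lt_coe (0 : ℕ∞)) h0
  rw [← h4, ← h2, h1]
  exact lt_of_add_one_le h3 h5 h6

open MonoidalCategory CartesianMonoidalCategory MonObj in
theorem main (G X : Over (Spec (CommRingCat.of k))) [GrpObj G] [Smooth G.hom]
    [QuasiCompact G.hom] [LocallyOfFiniteType X.hom] [QuasiCompact X.hom]
    (a : AlgGrp.Action G X) (x : 𝟙_ (Over (Spec (CommRingCat.of k))) ⟶ X) :
    topologicalKrullDim ↥(closure (Set.range (a.orbitMap x).left.base) \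
        Set.range (a.orbitMap x).left.base) <
      topologicalKrullDim ↥(Set.range (a.orbitMap x).left.base) := by
  haveI : LocallyOfFiniteType G.hom := inferInstance
  haveI : CompactSpace X.left := QuasiCompact.compactSpace_of_compactSpace X.hom
  have hlc := Groth.Agent.S7984.result k G X a x
  have hne : (Set.range (a.orbitMap x).left.base).Nonempty := by
    have y : (𝟙_ (Over (Spec (CommRingCat.of k)))).left := by
      change ↥(Spec (CommRingCat.of k))
      exact (⊥ : PrimeSpectrum k)
    exact ⟨_, ⟨(η[G] : 𝟙_ _ ⟶ G).left.base y, rfl⟩⟩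
  exact dim_boundary_lt k X.hom _ hlc hne

end Groth.Agent.Helper8.OrbitBd
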