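import Mathlib
import Groth.Prelude.Def_AlgGrp
import Groth.Agent.Helper2.OrbitLC
import Groth.Agent.Helper8.OrbitBd
import Groth.Agent.S7984

set_option autoImplicit false
set_option linter.style.haveILetI false
universe u

namespace Groth.Agent.Helper8.OrbitCl

open CategoryTheory CategoryTheory.Limits AlgebraicGeometry TopologicalSpace Topology
open MonoidalCategory CartesianMonoidalCategory MonObj GrpObj
open Groth.Agent.Helper2.HS2 Groth.Agent.Helper2.OrbitLC

variable {k : Type u} [Field k] {G X : Over (Spec (CommRingCat.of k))} [GrpObj G]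
  (a : AlgGrp.Action G X) (x : 𝟙_ (Over (Spec (CommRingCat.of k))) ⟶ X)

/-- the boundary of an orbit is stable under the action -/
lemma boundary_stable (p : ↥(G ⊗ X).left)
    (hp : (snd G X).left p ∈
      closure (Set.range (a.orbitMap x).left) \ Set.range (a.orbitMap x).left) :
    a.act.left p ∈ closure (Set.range (a.orbitMap x).left) \ Set.range (a.orbitMap x).left := by
  refine ⟨closure_orbit_stable a x p hp.1, fun hA => hp.2 ?_⟩
  have h1 : (snd G X).left ((σ a).left p) ∈ Set.range (a.orbitMap x).left := by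
    rw [← Scheme.Hom.comp_apply, ← Over.comp_left, σ_snd]
    exact hA
  have h2 := orbit_stable a x ((σ a).left p) h1
  rwa [← Scheme.Hom.comp_apply, ← Over.comp_left, σ_act] at h2

lemma orbit_subset_of_mem {B : Set X.left}
    (hB : ∀ p : ↥(G ⊗ X).left, (snd G X).left p ∈ B → a.act.left p ∈ B)
    (y : 𝟙_ (Over (Spec (CommRingCat.of k))) ⟶ X) (hy : ∀ s, y.left s ∈ B) :
    Set.range (a.orbitMap y).left ⊆ B := by
  rintro _ ⟨g, rfl⟩
  have e : a.orbitMap y = lift (𝟙 G) (toUnit G ≫ y) ≫ a.act := rfl
  rw [e, Over.comp_left, Scheme.Hom.comp_apply]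
  apply hB
  rw [← Scheme.Hom.comp_apply, ← Over.comp_left, lift_snd, Over.comp_left, Scheme.Hom.comp_apply]
  exact hy _

theorem main (k : Type u) [Field k] [IsAlgClosed k]
    (G X : Over (Spec (CommRingCat.of k))) [GrpObj G] [Smooth G.hom] [QuasiCompact G.hom]
    [LocallyOfFiniteType X.hom] [QuasiCompact X.hom] (a : AlgGrp.Action G X)
    (x : 𝟙_ (Over (Spec (CommRingCat.of k))) ⟶ X)
    (hmin : ∀ y : 𝟙_ (Over (Spec (CommRingCat.of k))) ⟶ X,
      topologicalKrullDim (Set.range (a.orbitMap x).left.base) ≤
        topologicalKrullDim (Set.range (a.orbitMap y).left.base)) :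
    IsClosed (Set.range (a.orbitMap x).left.base) := by
  set A : Set X.left := Set.range (a.orbitMap x).left.base with hA
  haveI : LocallyOfFiniteType G.hom := inferInstance
  have hlc : IsLocallyClosed A := Groth.Agent.S7984.result k G X a x
  by_contra hcl
  have hBne : (closure A \ A).Nonempty := by
    by_contra h
    rw [Set.not_nonempty_iff_eq_empty, Set.diff_eq_empty] at h
    exact hcl (closure_subset_iff_isClosed.mp h)
  have hBcl : IsClosed (closure A \ A) := by
    have h1 := hlc.isOpen_coborder
    have h2 : closure A \ A = (coborder A)ᶜ := by rw [coborder, compl_compl]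
    rw [h2]
    exact h1.isClosed_compl
  haveI : JacobsonSpace X.left := LocallyOfFiniteType.jacobsonSpace X.hom
  obtain ⟨y₀, hy₀B, hy₀cl⟩ : ∃ y₀ ∈ closure A \ A, IsClosed ({y₀} : Set X.left) := by
    have h1 := JacobsonSpace.closure_inter_closedPoints_eq_closure hBcl.isLocallyClosed
    have h2 : ((closure A \ A) ∩ closedPoints X.left).Nonempty := by
      by_contra h
      rw [Set.not_nonempty_iff_eq_empty] at h
      rw [h, closure_empty] at h1
      obtain ⟨z, hz⟩ := hBne
      have : z ∈ closure (closure A \ A) := subset_closure hz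
      rw [← h1] at this
      exact this
    obtain ⟨y₀, h3, h4⟩ := h2
    exact ⟨y₀, h3, h4⟩
  let y : 𝟙_ (Over (Spec (CommRingCat.of k))) ⟶ X :=
    Over.homMk (pointOfClosedPoint X.hom y₀ hy₀cl) (pointOfClosedPoint_comp X.hom y₀ hy₀cl)
  have hsub : Set.range (a.orbitMap y).left ⊆ closure A \ A :=
    orbit_subset_of_mem a (boundary_stable a x) y (fun s => by
      change pointOfClosedPoint X.hom y₀ hy₀cl s ∈ _
      rw [pointOfClosedPoint_apply]
      exact hy₀B)
  have h1 : topologicalKrullDim ↥(Set.range (a.orbitMap y).left) ≤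
      topologicalKrullDim ↥(closure A \ A) :=
    (IsEmbedding.inclusion hsub).isInducing.topologicalKrullDim_le
  have h2 := Groth.Agent.Helper8.OrbitBd.main k G X a x
  exact absurd (hmin y) (not_le.mpr (lt_of_le_of_lt h1 h2))

end Groth.Agent.Helper8.OrbitCl
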