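import Mathlib
import Groth.Prelude.Def_AlgGrp
import Groth.Agent.Helper5.NNorm3
import Groth.Agent.Helper2.OrbitLC
import Groth.Agent.Helper8.OrbitBd
import Groth.Agent.S7984

set_option autoImplicit false
set_option linter.style.haveILetI false
universe u

namespace Groth.Agent.Helper8.OrbitDim

open CategoryTheory CategoryTheory.Limits AlgebraicGeometry TopologicalSpace Topology
open MonoidalCategory CartesianMonoidalCategory MonObj GrpObj
open Groth.Agent.Helper2.HS2 Groth.Agent.Helper2.OrbitLC
open Groth.Agent.Helper5.WellInt Groth.Agent.Helper5.DimStrat Groth.Agent.Helper5.LocDim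
  Groth.Agent.Helper5.VarDim Groth.Agent.Helper5.MaxPt Groth.Agent.Helper5.SubDim

/-- converse of `dim_fiber_of_isPullback` at a point of the base change -/
theorem dim_fiber_of_isPullback_converse {T' T S' S : Scheme.{u}} (g : S' ⟶ S)
    [LocallyOfFiniteType g] (u : T ⟶ S) (v : T' ⟶ S') (h : T' ⟶ T) (hsq : IsPullback v h g u)
    (d : ℕ) (t : T) (hd : topologicalKrullDim ↥(h.fiber t) = d) :
    topologicalKrullDim ↥(g.fiber (u t)) = d := by
  haveI : LocallyOfFiniteType h := MorphismProperty.of_isPullback hsq inferInstance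
  have hfd : ∀ t' : T', FlatMor.fibreDimAt h t' = FlatMor.fibreDimAt g (v t') :=
    fun t' => Groth.Agent.Helper5.BCMin.fibreDimAt_of_isPullback g u v h hsq t'
  apply le_antisymm
  · rw [dim_fiber_le_iff]
    intro s' hs'
    obtain ⟨t', ht'1, ht'2⟩ := exists_preimage_of_isPullback hsq s' t hs'
    rw [← ht'1, ← hfd t', ← hd, ← ht'2]
    exact fibreDimAt_le_dim_fiber h t'
  · obtain ⟨t', m, ht', hm, hdm⟩ := exists_trdeg_ge_of_le_dim_fiber h t d hd.ge
    have h1 := fibreDimAt_le_dim_fiber g (v t')
    have h3 : g (v t') = u t := by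
      rw [← ht', ← Scheme.Hom.comp_apply, ← Scheme.Hom.comp_apply, hsq.w]
    rw [h3] at h1
    refine le_trans ?_ h1
    rw [← hfd t']
    obtain ⟨k', n', -, -, hn', hfd'⟩ := fibreDimAt_eq h t'
    rw [hfd']
    have h2 : n' = m := by
      have := hn'.symm.trans hm
      exact_mod_cast this
    have : d ≤ k' + n' := by omega
    exact_mod_cast this

lemma exists_nat_of_lt_top {a : WithBot ℕ∞} (h0 : 0 ≤ a) (h : a < ⊤) : ∃ d : ℕ, a = d := by
  induction a using WithBot.recBotCoe with
  | bot => exact absurd h0 (not_le.mpr (WithBot.bot_lt_coe (0 : ℕ∞)))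
  | coe a =>
    have : a ≠ ⊤ := by
      rintro rfl
      exact absurd h (lt_irrefl _)
    obtain ⟨n, rfl⟩ := ENat.ne_top_iff_exists.mp this
    exact ⟨n, rfl⟩

section field

variable {k : Type u} [Field k]

theorem dim_fiber_over_field {Y : Scheme.{u}} (g : Y ⟶ Spec (CommRingCat.of k))
    (s : Spec (CommRingCat.of k)) :
    topologicalKrullDim ↥(g.fiber s) = topologicalKrullDim Y := by
  have huniv : g ⁻¹' {s} = Set.univ := by
    ext y
    simp only [Set.mem_preimage, Set.mem_singleton_iff, Set.mem_univ, iff_true]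
    exact @Subsingleton.elim (PrimeSpectrum k) _ _ _
  exact IsHomeomorph.topologicalKrullDim_eq _
    (((g.fiberHomeo s).trans (Homeomorph.setCongr huniv)).trans
      (Homeomorph.Set.univ Y)).isHomeomorph

variable {G X : Over (Spec (CommRingCat.of k))} [GrpObj G]
  (a : AlgGrp.Action G X) (x : 𝟙_ (Over (Spec (CommRingCat.of k))) ⟶ X)

lemma mul_comp_orbitMap {T : Over (Spec (CommRingCat.of k))} (t s₁ : T ⟶ G)
    (h : s₁ ≫ a.orbitMap x = toUnit T ≫ x) :
    (t * s₁) ≫ a.orbitMap x = t ≫ a.orbitMap x := by
  rw [comp_orbitMap, Groth.Agent.Helper2.HS2.mul_smul, ← comp_orbitMap, h, ← comp_orbitMap]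

lemma inv_mul_comp_orbitMap {T : Over (Spec (CommRingCat.of k))} (t h : T ⟶ G)
    (e : t ≫ a.orbitMap x = h ≫ a.orbitMap x) :
    (t⁻¹ * h) ≫ a.orbitMap x = toUnit T ≫ x := by
  rw [comp_orbitMap, Groth.Agent.Helper2.HS2.mul_smul, ← comp_orbitMap, ← e, comp_orbitMap, Groth.Agent.Helper2.HS2.smul_inv_smul]

/-- the map `(g, h) ↦ g⁻¹ h` from `G ×_X G` to the stabilizer -/
noncomputable def v : pullback (a.orbitMap x) (a.orbitMap x) ⟶ pullback (a.orbitMap x) x :=
  pullback.lift ((pullback.fst (a.orbitMap x) (a.orbitMap x))⁻¹ *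
      pullback.snd (a.orbitMap x) (a.orbitMap x)) (toUnit _)
    (inv_mul_comp_orbitMap a x _ _ pullback.condition)

lemma v_fst : v a x ≫ pullback.fst (a.orbitMap x) x =
    (pullback.fst (a.orbitMap x) (a.orbitMap x))⁻¹ *
      pullback.snd (a.orbitMap x) (a.orbitMap x) :=
  pullback.lift_fst _ _ _

theorem isPullback_v : IsPullback (v a x) (pullback.fst (a.orbitMap x) (a.orbitMap x))
    (toUnit (pullback (a.orbitMap x) x)) (toUnit G) := by
  refine ⟨⟨toUnit_unique _ _⟩, ⟨PullbackCone.IsLimit.mk _
    (fun s => pullback.lift s.snd (s.snd * (s.fst ≫ pullback.fst (a.orbitMap x) x)) ?_)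
    ?_ ?_ ?_⟩⟩
  · refine (mul_comp_orbitMap a x _ _ ?_).symm
    rw [Category.assoc, pullback.condition, ← Category.assoc]
    congr 1
    exact toUnit_unique _ _
  · intro s
    apply pullback.hom_ext
    · rw [Category.assoc, v_fst, MonObj.comp_mul, GrpObj.comp_inv, pullback.lift_fst,
        pullback.lift_snd, inv_mul_cancel_left]
    · exact toUnit_unique _ _
  · intro s
    exact pullback.lift_fst _ _ _
  · intro s m h1 h2
    apply pullback.hom_ext
    · rw [pullback.lift_fst]
      exact h2
    · rw [pullback.lift_snd, ← h2, ← h1, Category.assoc, v_fst, MonObj.comp_mul, GrpObj.comp_inv,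
        mul_inv_cancel_left]

theorem main (k : Type u) [Field k] (G X : Over (Spec (CommRingCat.of k))) [GrpObj G]
    [Smooth G.hom] [QuasiCompact G.hom] [IsSeparated X.hom] [LocallyOfFiniteType X.hom]
    [QuasiCompact X.hom] (a : AlgGrp.Action G X)
    (x : 𝟙_ (Over (Spec (CommRingCat.of k))) ⟶ X) :
    topologicalKrullDim ↥G.left =
      topologicalKrullDim ↥(Set.range (a.orbitMap x).left.base) +
        topologicalKrullDim ↥(Limits.pullback (a.orbitMap x).left x.left) := by
  set f := a.orbitMap x with hf
  let QO := pullback f x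
  have sqQ : IsPullback (pullback.fst f x).left (pullback.snd f x).left f.left x.left :=
    (IsPullback.of_hasPullback f x).map (Over.forget _)
  have sqP : IsPullback (pullback.fst f f).left (pullback.snd f f).left f.left f.left :=
    (IsPullback.of_hasPullback f f).map (Over.forget _)
  have sqV : IsPullback (v a x).left (pullback.fst f f).left QO.hom G.hom :=
    (isPullback_v a x).map (Over.forget _)
  haveI : LocallyOfFiniteType G.hom := inferInstance
  have hx : x.left ≫ X.hom = 𝟙 _ := Over.w x
  haveI : LocallyOfFiniteType (x.left ≫ X.hom) := by rw [hx]; infer_instance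
  haveI : LocallyOfFiniteType x.left := locallyOfFiniteType_of_comp x.left X.hom
  haveI : QuasiCompact (x.left ≫ X.hom) := by rw [hx]; infer_instance
  haveI : QuasiCompact x.left := QuasiCompact.of_comp x.left X.hom
  haveI : LocallyOfFiniteType (f.left ≫ X.hom) := by rw [Over.w f]; infer_instance
  haveI : LocallyOfFiniteType f.left := locallyOfFiniteType_of_comp f.left X.hom
  haveI : LocallyOfFiniteType (pullback.fst f x).left :=
    MorphismProperty.of_isPullback (P := @LocallyOfFiniteType) sqQ.flip inferInstance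
  haveI : QuasiCompact (pullback.fst f x).left :=
    MorphismProperty.of_isPullback (P := @QuasiCompact) sqQ.flip inferInstance
  have hQhom : QO.hom = (pullback.fst f x).left ≫ G.hom := (Over.w (pullback.fst f x)).symm
  haveI : LocallyOfFiniteType QO.hom := by rw [hQhom]; infer_instance
  haveI : QuasiCompact QO.hom := by rw [hQhom]; infer_instance
  haveI : CompactSpace QO.left := QuasiCompact.compactSpace_of_compactSpace QO.hom
  haveI : IsLocallyNoetherian QO.left := LocallyOfFiniteType.isLocallyNoetherian QO.hom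
  haveI : IsNoetherian QO.left := {}
  have hfin : topologicalKrullDim QO.left < ⊤ := Groth.Agent.Helper8.OrbitBd.dim_lt_top k QO.hom
  have hGne : Nonempty G.left := by
    have y : (𝟙_ (Over (Spec (CommRingCat.of k)))).left := by
      change ↥(Spec (CommRingCat.of k))
      exact (⊥ : PrimeSpectrum k)
    exact ⟨(η[G] : 𝟙_ _ ⟶ G).left.base y⟩
  have hQne : Nonempty QO.left := by
    obtain ⟨g⟩ := hGne
    let δ : G ⟶ pullback f f := pullback.lift (𝟙 G) (𝟙 G) rfl
    exact ⟨(v a x).left (δ.left g)⟩
  obtain ⟨d, hd⟩ : ∃ d : ℕ, topologicalKrullDim QO.left = d := by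
    refine exists_nat_of_lt_top ?_ hfin
    obtain ⟨y⟩ := hQne
    haveI : Nonempty (IrreducibleCloseds QO.left) :=
      ⟨⟨closure {y}, isIrreducible_singleton.closure, isClosed_closure⟩⟩
    exact Order.krullDim_nonneg
  have hfibQ : ∀ s, topologicalKrullDim ↥(QO.hom.fiber s) = d :=
    fun s => (dim_fiber_over_field QO.hom s).trans hd
  have hfibP : ∀ g : G.left, topologicalKrullDim ↥((pullback.fst f f).left.fiber g) = d :=
    fun g => dim_fiber_of_isPullback QO.hom G.hom (v a x).left (pullback.fst f f).left sqV d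
      hfibQ g
  have hfibf : ∀ t ∈ Set.range f.left, topologicalKrullDim ↥(f.left.fiber t) = d := by
    rintro _ ⟨g, rfl⟩
    exact dim_fiber_of_isPullback_converse f.left f.left (pullback.snd f f).left
      (pullback.fst f f).left sqP.flip d g (hfibP g)
  have hlc := Groth.Agent.S7984.result k G X a x
  have key := dim_preimage_eq_add k X.hom f.left (Set.range f.left) hlc d hfibf
  have huniv : (f.left ⁻¹' Set.range f.left) = Set.univ := by
    ext g
    simp
  have hiso : topologicalKrullDim QO.left = topologicalKrullDim ↥(pullback f.left x.left) :=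
    IsHomeomorph.topologicalKrullDim_eq _ (Scheme.homeoOfIso sqQ.isoPullback).isHomeomorph
  have e1 : topologicalKrullDim ↥G.left =
      topologicalKrullDim ↥(f.left ⁻¹' Set.range f.left) :=
    IsHomeomorph.topologicalKrullDim_eq _
      ((Homeomorph.Set.univ G.left).symm.trans (Homeomorph.setCongr huniv.symm)).isHomeomorph
  have e2 : topologicalKrullDim ↥(pullback f.left x.left) = d := hiso.symm.trans hd
  calc topologicalKrullDim ↥G.left
      = topologicalKrullDim ↥(f.left ⁻¹' Set.range f.left) := e1
    _ = topologicalKrullDim ↥(Set.range f.left) + d := key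
    _ = _ := by rw [e2]

end field

end Groth.Agent.Helper8.OrbitDim
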