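import Mathlib
import Groth.Prelude.Def_AlgGrp
import Groth.Agent.Helper9.SubGrpObj
import Groth.Agent.Helper8.OrbitDim

set_option autoImplicit false
set_option linter.style.haveILetI false
universe u

namespace Groth.Agent.Helper8.StabGrp

open CategoryTheory CategoryTheory.Limits AlgebraicGeometry TopologicalSpace Topology
open MonoidalCategory CartesianMonoidalCategory MonObj GrpObj
open Groth.Agent.Helper2.HS2 Groth.Agent.Helper2.OrbitLC Groth.Agent.Helper8.OrbitDim

variable {k : Type u} [Field k] {G X : Over (Spec (CommRingCat.of k))} [GrpObj G]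
  (a : AlgGrp.Action G X) (x : 𝟙_ (Over (Spec (CommRingCat.of k))) ⟶ X)

/-- the stabilizer of a rational point -/
noncomputable abbrev Stab : Over (Spec (CommRingCat.of k)) := pullback (a.orbitMap x) x

noncomputable abbrev stabι : Stab a x ⟶ G := pullback.fst (a.orbitMap x) x

instance mono_pt : Mono x := by
  haveI : IsSplitMono x := ⟨⟨⟨toUnit X, toUnit_unique _ _⟩⟩⟩
  infer_instance

instance : Mono (stabι a x) := pullback.fst_of_mono

lemma stabι_comp : stabι a x ≫ a.orbitMap x = toUnit _ ≫ x := by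
  rw [pullback.condition]
  congr 1
  exact toUnit_unique _ _

lemma one_comp_orbitMap (T : Over (Spec (CommRingCat.of k))) :
    (1 : T ⟶ G) ≫ a.orbitMap x = toUnit T ≫ x := by
  rw [comp_orbitMap, Groth.Agent.Helper2.HS2.one_smul]

lemma eta_comp_orbitMap : η[G] ≫ a.orbitMap x = x := by
  have h1 : (η[G] : 𝟙_ _ ⟶ G) = 1 := by
    rw [Hom.one_def, toUnit_unique (toUnit _) (𝟙 _), Category.id_comp]
  rw [h1, one_comp_orbitMap, toUnit_unique (toUnit _) (𝟙 _), Category.id_comp]

noncomputable def stabOne : 𝟙_ (Over (Spec (CommRingCat.of k))) ⟶ Stab a x :=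
  pullback.lift η[G] (𝟙 _) (by rw [eta_comp_orbitMap, Category.id_comp])

lemma tensor_mul_eq : (stabι a x ⊗ₘ stabι a x) ≫ μ[G] =
    (fst _ _ ≫ stabι a x) * (snd _ _ ≫ stabι a x) := by
  rw [Hom.mul_def]
  congr 1

noncomputable def stabMul : Stab a x ⊗ Stab a x ⟶ Stab a x :=
  pullback.lift ((stabι a x ⊗ₘ stabι a x) ≫ μ[G]) (toUnit _) (by
    rw [tensor_mul_eq, mul_comp_orbitMap a x _ _ (by rw [Category.assoc, stabι_comp,
      ← Category.assoc, toUnit_unique (snd _ _ ≫ toUnit _) (toUnit _)]), Category.assoc,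
      stabι_comp, ← Category.assoc, toUnit_unique (fst _ _ ≫ toUnit _) (toUnit _)])

noncomputable def stabInv : Stab a x ⟶ Stab a x :=
  pullback.lift (stabι a x ≫ ι[G]) (toUnit _) (by
    have h := inv_mul_comp_orbitMap a x (stabι a x) 1 (by
      rw [stabι_comp, one_comp_orbitMap])
    rw [_root_.mul_one, Hom.inv_def] at h
    exact h)

noncomputable instance : GrpObj (Stab a x) :=
  Groth.Agent.Helper9.SubGrpObj.grpObjOfMono (stabι a x) (stabOne a x) (stabMul a x)
    (stabInv a x) (pullback.lift_fst _ _ _) (pullback.lift_fst _ _ _) (pullback.lift_fst _ _ _)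

/-- the map `(g, y) ↦ (g y, y)` -/
noncomputable abbrev Ψ : G ⊗ X ⟶ X ⊗ X := lift a.act (snd G X)

theorem isPullback_Ψ : IsPullback (lift (stabι a x) (toUnit _ ≫ x)) (toUnit (Stab a x))
    (Ψ a) (lift x x) := by
  have hw : lift (stabι a x) (toUnit _ ≫ x) ≫ Ψ a = toUnit (Stab a x) ≫ lift x x := by
    apply CartesianMonoidalCategory.hom_ext
    · rw [Category.assoc, lift_fst, Category.assoc, lift_fst]
      have := stabι_comp a x
      rw [comp_orbitMap] at this
      exact this
    · rw [Category.assoc, lift_snd, lift_snd, Category.assoc, lift_snd]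
  have key : ∀ s : PullbackCone (Ψ a) (lift x x),
      (s.fst ≫ fst G X) ≫ a.orbitMap x = toUnit s.pt ≫ x := by
    intro s
    have h1 := congr($(s.condition) ≫ fst X X)
    have h2 := congr($(s.condition) ≫ snd X X)
    simp only [Category.assoc, lift_fst, lift_snd] at h1 h2
    have h3 : s.fst ≫ a.act = s.fst ≫ snd G X := h1.trans h2.symm
    rw [comp_orbitMap, toUnit_unique (toUnit s.pt) s.snd, ← h2]
    conv_rhs => rw [← h3, act_eq a, comp_smul]
  refine ⟨⟨hw⟩, ⟨PullbackCone.IsLimit.mk _
    (fun s => pullback.lift (s.fst ≫ fst G X) (toUnit _) (key s)) ?_ ?_ ?_⟩⟩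
  · intro s
    apply CartesianMonoidalCategory.hom_ext
    · rw [Category.assoc, lift_fst, pullback.lift_fst]
    · rw [Category.assoc, lift_snd, ← Category.assoc, toUnit_unique (_ ≫ toUnit _) s.snd]
      have h2 := congr($(s.condition) ≫ snd X X)
      simp only [Category.assoc, lift_snd] at h2
      exact h2.symm
  · intro s
    exact toUnit_unique _ _
  · intro s m h1 _
    apply pullback.hom_ext
    · rw [pullback.lift_fst, ← h1, Category.assoc, lift_fst]
    · exact toUnit_unique _ _

end Groth.Agent.Helper8.StabGrp
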