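import Mathlib
import Groth.Prelude.Def_AlgGrp
import Groth.Agent.Helper5.GrpDim1
import Groth.Agent.Helper5.PtOpen1
import Groth.Agent.Helper8.StabGrp

set_option autoImplicit false
set_option linter.style.haveILetI false
universe u

namespace Groth.Agent.Helper8.OrbitSc

open CategoryTheory CategoryTheory.Limits AlgebraicGeometry TopologicalSpace Topology
open MonoidalCategory CartesianMonoidalCategory MonObj GrpObj
open Groth.Agent.Helper2.HS2 Groth.Agent.Helper2.OrbitLC Groth.Agent.Helper8.OrbitDim
  Groth.Agent.Helper8.StabGrp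

section general

variable (k : Type u) [Field k]

/-- the fibre dimension at a point of a scheme over a field is the local dimension -/
theorem fibreDimAt_over_field {Y : Scheme.{u}} (g : Y ⟶ Spec (CommRingCat.of k)) (y : Y) :
    FlatMor.fibreDimAt g y = FlatMor.localDim Y y := by
  have huniv : g ⁻¹' {g y} = Set.univ := by
    ext z
    simp only [Set.mem_preimage, Set.mem_singleton_iff, Set.mem_univ, iff_true]
    exact @Subsingleton.elim (PrimeSpectrum k) _ _ _
  let e : ↥(g.fiber (g y)) ≃ₜ Y :=
    ((g.fiberHomeo (g y)).trans (Homeomorph.setCongr huniv)).trans (Homeomorph.Set.univ Y)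
  have he : e (g.asFiber y) = y := g.fiberι_asFiber y
  unfold FlatMor.fibreDimAt
  rw [Groth.Agent.Helper5.SubDim.localDim_homeomorph e (g.asFiber y), he]

/-- the closure of a locally closed subset has the same dimension -/
theorem dim_closure_eq {X : Scheme.{u}} (p : X ⟶ Spec (CommRingCat.of k))
    [LocallyOfFiniteType p] [CompactSpace X] (A : Set X) (hA : IsLocallyClosed A) :
    topologicalKrullDim ↥(closure A) = topologicalKrullDim ↥A := by
  classical
  let C : Closeds X := ⟨closure A, isClosed_closure⟩
  let I := Scheme.IdealSheafData.vanishingIdeal C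
  have hrange : Set.range I.subschemeι = closure A := by
    rw [I.range_subschemeι, Scheme.IdealSheafData.coe_support_vanishingIdeal]
    rfl
  have hmem : ∀ y : I.subscheme, I.subschemeι y ∈ closure A := fun y => hrange ▸ ⟨y, rfl⟩
  have hemb : IsEmbedding I.subschemeι := I.subschemeι.isEmbedding
  haveI : LocallyOfFiniteType (I.subschemeι ≫ p) := inferInstance
  haveI : IsLocallyNoetherian I.subscheme :=
    LocallyOfFiniteType.isLocallyNoetherian (I.subschemeι ≫ p)
  haveI : CompactSpace I.subscheme := I.subschemeι.isClosedEmbedding.compactSpace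
  haveI : IsNoetherian I.subscheme := {}
  haveI : NoetherianSpace I.subscheme := inferInstance
  obtain ⟨U, Z, hU, hZ, hAeq⟩ := hA
  have hA2 : A = U ∩ closure A := by
    apply Set.Subset.antisymm
    · intro a ha
      exact ⟨by rw [hAeq] at ha; exact ha.1, subset_closure ha⟩
    · rintro a ⟨haU, haA⟩
      rw [hAeq]
      refine ⟨haU, ?_⟩
      have : closure A ⊆ Z := closure_minimal (by rw [hAeq]; exact Set.inter_subset_right) hZ
      exact this haA
  have hpre : I.subschemeι ⁻¹' A = I.subschemeι ⁻¹' U := by
    ext y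
    constructor
    · intro hy
      have : I.subschemeι y ∈ U ∩ closure A := hA2 ▸ hy
      exact this.1
    · intro hy
      change I.subschemeι y ∈ A
      rw [hA2]
      exact ⟨hy, hmem y⟩
  have hopen : IsOpen (I.subschemeι ⁻¹' A) := hpre ▸ hU.preimage I.subschemeι.continuous
  have hdense : Dense (I.subschemeι ⁻¹' A) := by
    rw [dense_iff_closure_eq, hemb.closure_eq_preimage_closure_image,
      Set.image_preimage_eq_inter_range, hrange, Set.inter_eq_left.mpr subset_closure]
    ext y
    simp only [Set.mem_preimage, Set.mem_univ, iff_true]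
    exact hmem y
  have h1 : topologicalKrullDim ↥(I.subschemeι ⁻¹' A) = topologicalKrullDim I.subscheme :=
    Groth.Agent.Helper5.NNorm.dim_of_dense k (I.subschemeι ≫ p) _ hopen hdense
  have h2 : topologicalKrullDim ↥(I.subschemeι ⁻¹' A) = topologicalKrullDim ↥A :=
    Groth.Agent.Helper8.OrbitBd.dim_preimage_of_subset_range hemb A (hrange ▸ subset_closure)
  have h3 : topologicalKrullDim I.subscheme = topologicalKrullDim ↥(closure A) :=
    IsHomeomorph.topologicalKrullDim_eq _
      (hemb.toHomeomorph.trans (Homeomorph.setCongr hrange)).isHomeomorph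
  rw [← h3, ← h1, h2]

lemma nat_arith {N d r : ℕ} {o : WithBot ℕ∞} (h : (N : WithBot ℕ∞) = o + d) :
    o ≤ (r : WithBot ℕ∞) ↔ ((N - r : ℕ) : WithBot ℕ∞) ≤ (d : WithBot ℕ∞) := by
  induction o using WithBot.recBotCoe with
  | bot =>
    rw [WithBot.bot_add] at h
    exact absurd h (WithBot.coe_ne_bot)
  | coe o =>
    induction o using ENat.recTopCoe with
    | top =>
      exfalso
      have h' : ((N : ℕ∞) : WithBot ℕ∞) = (((⊤ : ℕ∞) + (d : ℕ∞) : ℕ∞) : WithBot ℕ∞) := by
        exact_mod_cast h
      rw [top_add] at h'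
      have := WithBot.coe_injective h'
      exact ENat.coe_ne_top N this
    | coe m =>
      have h' : N = m + d := by exact_mod_cast h
      have e1 : ((m : ℕ∞) : WithBot ℕ∞) ≤ (r : WithBot ℕ∞) ↔ m ≤ r := by
        exact_mod_cast Iff.rfl
      have e2 : ((N - r : ℕ) : WithBot ℕ∞) ≤ (d : WithBot ℕ∞) ↔ N - r ≤ d := by
        exact_mod_cast Iff.rfl
      rw [e1, e2]
      omega

end general

section main

variable (k : Type u) [Field k]

theorem main (G : Over (Spec (CommRingCat.of k))) [GrpObj G] [IsAffine G.left] [Smooth G.hom]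
    (X : Over (Spec (CommRingCat.of k))) [IsSeparated X.hom] [LocallyOfFiniteType X.hom]
    [QuasiCompact X.hom] (a : AlgGrp.Action G X) (r : ℕ) :
    ∃ Z : Set ↥X.left, IsClosed Z ∧
      ∀ x : 𝟙_ (Over (Spec (CommRingCat.of k))) ⟶ X,
        topologicalKrullDim ↥(closure (Set.range ⇑(a.orbitMap x).left.base)) ≤
            (r : WithBot ℕ∞) ↔
          Set.range ⇑x.left.base ⊆ Z := by
  haveI : LocallyOfFiniteType G.hom := inferInstance
  haveI : QuasiCompact G.hom :=
    (HasAffineProperty.iff_of_isAffine (P := @QuasiCompact)).mpr inferInstance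
  haveI : CompactSpace X.left := QuasiCompact.compactSpace_of_compactSpace X.hom
  haveI : IsLocallyNoetherian G.left := LocallyOfFiniteType.isLocallyNoetherian G.hom
  haveI : IsNoetherian G.left := {}
  let pt : (𝟙_ (Over (Spec (CommRingCat.of k)))).left := by
    change ↥(Spec (CommRingCat.of k))
    exact (⊥ : PrimeSpectrum k)
  have hpt : ∀ t : (𝟙_ (Over (Spec (CommRingCat.of k)))).left, t = pt := fun t =>
    @Subsingleton.elim (PrimeSpectrum k) _ _ _
  obtain ⟨N, hN⟩ : ∃ N : ℕ, topologicalKrullDim G.left = N := by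
    refine exists_nat_of_lt_top ?_ (Groth.Agent.Helper8.OrbitBd.dim_lt_top k G.hom)
    haveI : Nonempty (IrreducibleCloseds G.left) :=
      ⟨⟨closure {(η[G] : 𝟙_ _ ⟶ G).left.base pt}, isIrreducible_singleton.closure,
        isClosed_closure⟩⟩
    exact Order.krullDim_nonneg
  haveI : LocallyOfFiniteType (G ⊗ X).hom := by
    rw [Over.tensorObj_hom]
    infer_instance
  haveI : LocallyOfFiniteType ((Ψ a).left ≫ (X ⊗ X).hom) := by
    rw [Over.w]
    infer_instance
  haveI : LocallyOfFiniteType (Ψ a).left := locallyOfFiniteType_of_comp _ (X ⊗ X).hom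
  let σ : X ⟶ G ⊗ X := lift (toUnit X ≫ η[G]) (𝟙 X)
  have husc := Groth.Agent.Helper5.SecComp.upperSemicontinuous_fibreDimAt_comp (Ψ a).left
    (fun y : X.left => σ.left y) σ.left.continuous
  let Z : Set X.left :=
    {y | ((N - r : ℕ) : WithBot ℕ∞) ≤ FlatMor.fibreDimAt (Ψ a).left (σ.left y)}
  have hZ : IsClosed Z := by
    rw [← isOpen_compl_iff]
    rw [upperSemicontinuous_iff_isOpen_preimage] at husc
    convert husc ((N - r : ℕ) : WithBot ℕ∞) using 1
    ext y
    simp only [Z, Set.mem_compl_iff, Set.mem_setOf_eq, not_le, Set.mem_preimage, Set.mem_Iio]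
  refine ⟨Z, hZ, fun x => ?_⟩
  let x₀ : X.left := x.left pt
  have hrange : Set.range ⇑x.left.base ⊆ Z ↔ x₀ ∈ Z := by
    constructor
    · intro h
      exact h ⟨pt, rfl⟩
    · rintro h _ ⟨t, rfl⟩
      rw [hpt t]
      exact h
  rw [hrange]
  set f := a.orbitMap x with hf
  -- facts on the stabilizer
  have sqQ : IsPullback (stabι a x).left (pullback.snd f x).left f.left x.left :=
    (IsPullback.of_hasPullback f x).map (Over.forget _)
  have hx : x.left ≫ X.hom = 𝟙 _ := Over.w x
  haveI : LocallyOfFiniteType (x.left ≫ X.hom) := by rw [hx]; infer_instance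
  haveI : LocallyOfFiniteType x.left := locallyOfFiniteType_of_comp x.left X.hom
  haveI : QuasiCompact (x.left ≫ X.hom) := by rw [hx]; infer_instance
  haveI : QuasiCompact x.left := QuasiCompact.of_comp x.left X.hom
  haveI : LocallyOfFiniteType (stabι a x).left :=
    MorphismProperty.of_isPullback (P := @LocallyOfFiniteType) sqQ.flip inferInstance
  haveI : QuasiCompact (stabι a x).left :=
    MorphismProperty.of_isPullback (P := @QuasiCompact) sqQ.flip inferInstance
  have hQhom : (Stab a x).hom = (stabι a x).left ≫ G.hom := (Over.w (stabι a x)).symm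
  haveI : LocallyOfFiniteType (Stab a x).hom := by rw [hQhom]; infer_instance
  haveI : QuasiCompact (Stab a x).hom := by rw [hQhom]; infer_instance
  haveI : CompactSpace (Stab a x).left := QuasiCompact.compactSpace_of_compactSpace (Stab a x).hom
  haveI : IsLocallyNoetherian (Stab a x).left :=
    LocallyOfFiniteType.isLocallyNoetherian (Stab a x).hom
  haveI : IsNoetherian (Stab a x).left := {}
  let ept : (Stab a x).left := (stabOne a x).left pt
  obtain ⟨d, hd⟩ : ∃ d : ℕ, topologicalKrullDim (Stab a x).left = d := by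
    refine exists_nat_of_lt_top ?_ (Groth.Agent.Helper8.OrbitBd.dim_lt_top k (Stab a x).hom)
    haveI : Nonempty (IrreducibleCloseds (Stab a x).left) :=
      ⟨⟨closure {ept}, isIrreducible_singleton.closure, isClosed_closure⟩⟩
    exact Order.krullDim_nonneg
  -- the fibre dimension at the unit section
  have e1 : x ≫ σ = stabOne a x ≫ lift (stabι a x) (toUnit _ ≫ x) := by
    apply CartesianMonoidalCategory.hom_ext
    · rw [Category.assoc, lift_fst, Category.assoc, lift_fst, ← Category.assoc,
        toUnit_unique (x ≫ toUnit X) (𝟙 _), Category.id_comp]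
      exact (pullback.lift_fst _ _ _).symm
    · rw [Category.assoc, lift_snd, Category.assoc, lift_snd, Category.comp_id, ← Category.assoc,
        toUnit_unique (stabOne a x ≫ toUnit _) (𝟙 _), Category.id_comp]
  have e2 : σ.left x₀ = (lift (stabι a x) (toUnit _ ≫ x)).left ept := by
    have := congr(($e1).left.base pt)
    exact this
  have hF : FlatMor.fibreDimAt (Ψ a).left (σ.left x₀) = d := by
    rw [e2, ← Groth.Agent.Helper5.BCMin.fibreDimAt_of_isPullback (Ψ a).left (lift x x).left
      (lift (stabι a x) (toUnit _ ≫ x)).left (toUnit (Stab a x)).left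
      ((isPullback_Ψ a x).map (Over.forget _)) ept]
    change FlatMor.fibreDimAt (Stab a x).hom ept = d
    rw [fibreDimAt_over_field, Groth.Agent.Helper5.GrpDim.localDim_eq_dim k (Stab a x) ept, hd]
  -- the dimension formula
  have hdim := Groth.Agent.Helper8.OrbitDim.main k G X a x
  have hiso : topologicalKrullDim (Stab a x).left =
      topologicalKrullDim ↥(pullback f.left x.left) :=
    IsHomeomorph.topologicalKrullDim_eq _ (Scheme.homeoOfIso sqQ.isoPullback).isHomeomorph
  rw [← hiso, hd, hN] at hdim
  have hlc := Groth.Agent.S7984.result k G X a x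
  rw [dim_closure_eq k X.hom _ hlc, nat_arith hdim]
  change _ ↔ ((N - r : ℕ) : WithBot ℕ∞) ≤ FlatMor.fibreDimAt (Ψ a).left (σ.left x₀)
  rw [hF]

end main

end Groth.Agent.Helper8.OrbitSc
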