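import Mathlib

/-!
# Finite `p`-bases (as module bases over the ring of `p`-th powers)

`IsPB p R β` : every element of `R` is uniquely `∑ i, c i ^ p * β i`.
-/

namespace Groth.Agent.Helper8.PBasis

open Module

variable (p : ℕ) [hp : Fact p.Prime]

/-- Every element of `R` is uniquely `∑ c_i^p β_i`. -/
def IsPB (R : Type*) [CommRing R] {I : Type*} [Fintype I] (β : I → R) : Prop :=
  Function.Bijective (fun c : I → R => ∑ i, c i ^ p * β i)

theorem isPB_of_ringEquiv {R R' : Type*} [CommRing R] [CommRing R'] (e : R ≃+* R')
    {I : Type*} [Fintype I] {β : I → R} (h : IsPB p R β) : IsPB p R' (fun i => e (β i)) := by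
  constructor
  · intro c c' hcc
    simp only at hcc
    have h1 : (fun c : I → R => ∑ i, c i ^ p * β i) (fun i => e.symm (c i)) =
        (fun c : I → R => ∑ i, c i ^ p * β i) (fun i => e.symm (c' i)) := by
      apply e.injective
      simpa [map_sum] using hcc
    have h2 := h.1 h1
    funext i
    have := congrFun h2 i
    exact e.symm.injective this
  · intro r
    obtain ⟨d, hd⟩ := h.2 (e.symm r)
    refine ⟨fun i => e (d i), ?_⟩
    simp only at hd ⊢
    have := congrArg e hd
    simpa [map_sum] using this

theorem isPB_fraction {R : Type*} [CommRing R] [IsDomain R]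
    {Q : Type*} [Field Q] [Algebra R Q] [IsFractionRing R Q] {I : Type*} [Fintype I] {β : I → R}
    (h : IsPB p R β) : IsPB p Q (fun i => algebraMap R Q (β i)) := by
  have hp0 : p ≠ 0 := hp.out.ne_zero
  have hinj := IsFractionRing.injective R Q
  constructor
  · intro c c' hcc
    simp only at hcc
    obtain ⟨b, hb⟩ := IsLocalization.exist_integer_multiples_of_finite (nonZeroDivisors R)
      (Sum.elim c c')
    choose d hd using fun i => hb (Sum.inl i)
    choose d' hd' using fun i => hb (Sum.inr i)
    simp only [Sum.elim_inl, Sum.elim_inr, Algebra.smul_def] at hd hd'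
    have hb0 : algebraMap R Q (b : R) ≠ 0 := by
      intro h0
      have : (b : R) = 0 := hinj (by rw [h0, map_zero])
      exact nonZeroDivisors.coe_ne_zero b this
    have e1 : algebraMap R Q (∑ i, d i ^ p * β i) = algebraMap R Q (∑ i, d' i ^ p * β i) := by
      simp only [map_sum, map_mul, map_pow, hd, hd', mul_pow, mul_assoc, ← Finset.mul_sum, hcc]
    have e2 := h.1 (hinj e1)
    funext i
    have e3 : d i = d' i := congrFun e2 i
    have : algebraMap R Q b * c i = algebraMap R Q b * c' i := by
      rw [← hd i, ← hd' i, e3]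
    exact mul_left_cancel₀ hb0 this
  · intro q
    obtain ⟨a, b, hb, rfl⟩ := IsFractionRing.div_surjective (A := R) q
    obtain ⟨d, hd⟩ := h.2 (a * b ^ (p - 1))
    refine ⟨fun i => algebraMap R Q (d i) / algebraMap R Q b, ?_⟩
    simp only at hd ⊢
    have hb0 : algebraMap R Q b ≠ 0 := by
      intro h0
      have : (b : R) = 0 := hinj (by rw [h0, map_zero])
      exact nonZeroDivisors.ne_zero hb this
    have e1 : algebraMap R Q a * algebraMap R Q b ^ (p - 1) =
        ∑ i, algebraMap R Q (d i) ^ p * algebraMap R Q (β i) := by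
      rw [← map_pow, ← map_mul, ← hd]; simp
    simp only [div_pow, div_mul_eq_mul_div, ← Finset.sum_div]
    rw [← e1, div_eq_div_iff (pow_ne_zero _ hb0) hb0, mul_assoc, ← pow_succ,
      Nat.sub_add_cancel hp.out.one_le]

theorem finrank_of_isPB {Q : Type*} [Field Q] [CharP Q p] {I : Type*} [Fintype I] {β : I → Q}
    (h : IsPB p Q β) : Module.finrank (frobenius Q p).fieldRange Q = Fintype.card I := by
  classical
  have hp0 : p ≠ 0 := hp.out.ne_zero
  have hli : LinearIndependent (frobenius Q p).fieldRange β := by
    rw [Fintype.linearIndependent_iff]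
    intro g hg i
    have hmem : ∀ i, ∃ c : Q, c ^ p = (g i : Q) := fun i => by
      obtain ⟨c, hc⟩ := (g i).2
      exact ⟨c, by simpa [frobenius_def] using hc⟩
    choose c hc using hmem
    have h1 : (fun c : I → Q => ∑ i, c i ^ p * β i) c =
        (fun c : I → Q => ∑ i, c i ^ p * β i) 0 := by
      simp only [Pi.zero_apply, zero_pow hp0, zero_mul, Finset.sum_const_zero]
      rw [← hg]
      refine Finset.sum_congr rfl fun i _ => ?_
      rw [hc i]; rfl
    have h2 : c i = 0 := congrFun (h.1 h1) i
    ext
    rw [← hc i, h2]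
    simp [zero_pow hp0]
  have hsp : ⊤ ≤ Submodule.span (frobenius Q p).fieldRange (Set.range β) := by
    intro q _
    obtain ⟨c, hc⟩ := h.2 q
    simp only at hc
    rw [← hc]
    refine Submodule.sum_mem _ fun i _ => ?_
    have : c i ^ p * β i = (⟨c i ^ p, ⟨c i, rfl⟩⟩ : (frobenius Q p).fieldRange) • β i := rfl
    rw [this]
    exact Submodule.smul_mem _ _ (Submodule.subset_span ⟨i, rfl⟩)
  rw [Module.finrank_eq_card_basis (Basis.mk hli hsp)]

/-! ### Degrees of field homomorphisms -/

/-- The degree of a field homomorphism. -/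
noncomputable def deg {A B : Type*} [Field A] [Field B] (φ : A →+* B) : ℕ :=
  letI := φ.toAlgebra
  Module.finrank A B

theorem deg_comp {A B C : Type*} [Field A] [Field B] [Field C] (φ : A →+* B) (ψ : B →+* C) :
    deg (ψ.comp φ) = deg φ * deg ψ := by
  letI := φ.toAlgebra
  letI := ψ.toAlgebra
  letI := (ψ.comp φ).toAlgebra
  haveI : IsScalarTower A B C := IsScalarTower.of_algebraMap_eq (fun _ => rfl)
  exact (Module.finrank_mul_finrank A B C).symm

theorem deg_eq_fieldRange {A B : Type*} [Field A] [Field B] (φ : A →+* B) :
    deg φ = Module.finrank φ.fieldRange B := by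
  letI := φ.toAlgebra
  exact Algebra.finrank_eq_of_equiv_equiv φ.rangeRestrictFieldEquiv (RingEquiv.refl B)
    (by ext; rfl)

theorem deg_algebraMap {A B : Type*} [Field A] [Field B] [inst : Algebra A B] :
    deg (algebraMap A B) = Module.finrank A B := by
  exact @Algebra.finrank_eq_of_equiv_equiv A B _ _ (algebraMap A B).toAlgebra A B _ _ inst
    (RingEquiv.refl A) (RingEquiv.refl B) (by ext; rfl)

theorem finrank_frobenius_eq_of_finite (F K : Type*) [Field F] [Field K] [Algebra F K]
    [FiniteDimensional F K] [CharP F p] [CharP K p] :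
    Module.finrank (frobenius K p).fieldRange K = Module.finrank (frobenius F p).fieldRange F := by
  have h1 : (frobenius K p).comp (algebraMap F K) = (algebraMap F K).comp (frobenius F p) := by
    ext x; simp [frobenius_def]
  have h2 := deg_comp (algebraMap F K) (frobenius K p)
  have h3 := deg_comp (frobenius F p) (algebraMap F K)
  rw [h1, h3, deg_algebraMap, deg_eq_fieldRange, deg_eq_fieldRange] at h2
  have hpos : 0 < Module.finrank F K := Module.finrank_pos
  have : Module.finrank F K * Module.finrank (frobenius K p).fieldRange K =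
      Module.finrank F K * Module.finrank (frobenius F p).fieldRange F := by
    rw [← h2, mul_comm]
  exact Nat.eq_of_mul_eq_mul_left hpos this

end Groth.Agent.Helper8.PBasis
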