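import Mathlib
import Groth.Agent.Helper8.PBasis

/-!
# `p`-bases of power series rings and polynomial rings
-/

namespace Groth.Agent.Helper8.PBasis

variable (p : ℕ) [hp : Fact p.Prime]

section PS

variable {k : Type*} [Field k] [CharP k p]

theorem ps_coeff_pow_p (f : PowerSeries k) (n : ℕ) :
    PowerSeries.coeff n (f ^ p) = if p ∣ n then (PowerSeries.coeff (n / p) f) ^ p else 0 := by
  have hp0 : p ≠ 0 := hp.out.ne_zero
  have h1 : (MvPowerSeries.expand p hp0 f).map (frobenius k p) = f ^ p :=
    MvPowerSeries.map_frobenius_expand (p := p) hp0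
  have h2 : PowerSeries.map (frobenius k p) (PowerSeries.expand p hp0 f) = f ^ p := h1
  rw [← h2, PowerSeries.coeff_map, PowerSeries.coeff_expand]
  split_ifs <;> simp [frobenius_def, zero_pow hp0]

theorem ps_coeff_phi (c : Fin p → PowerSeries k) (m : ℕ) (j₀ : Fin p) :
    PowerSeries.coeff (p * m + j₀) (∑ j, c j ^ p * (PowerSeries.X : PowerSeries k) ^ (j : ℕ)) =
      (PowerSeries.coeff m (c j₀)) ^ p := by
  rw [map_sum, Finset.sum_eq_single j₀]
  · rw [PowerSeries.coeff_mul_X_pow', if_pos (Nat.le_add_left _ _), Nat.add_sub_cancel,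
      ps_coeff_pow_p, if_pos (dvd_mul_right _ _), Nat.mul_div_cancel_left _ hp.out.pos]
  · intro j _ hj
    rw [PowerSeries.coeff_mul_X_pow']
    split_ifs with hle
    · rw [ps_coeff_pow_p, if_neg]
      intro hdvd
      apply hj
      obtain ⟨q, hq⟩ := hdvd
      have e : p * m + j₀ = p * q + j := by omega
      have := congrArg (· % p) e
      simp only [Nat.mul_add_mod] at this
      rw [Nat.mod_eq_of_lt j₀.2, Nat.mod_eq_of_lt j.2] at this
      exact Fin.ext this.symm
    · rfl
  · simp

theorem isPB_powerSeries (k : Type*) [Field k] [CharP k p] [PerfectRing k p] :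
    IsPB p (PowerSeries k) (fun j : Fin p => (PowerSeries.X : PowerSeries k) ^ (j : ℕ)) := by
  constructor
  · intro c c' hcc
    simp only at hcc
    funext j
    ext m
    have := congrArg (PowerSeries.coeff (p * m + j)) hcc
    rw [ps_coeff_phi, ps_coeff_phi] at this
    exact frobenius_inj k p this
  · intro f
    refine ⟨fun j => PowerSeries.mk fun m =>
      (frobeniusEquiv k p).symm (PowerSeries.coeff (p * m + j) f), ?_⟩
    ext n
    obtain ⟨m, j₀, rfl⟩ : ∃ (m : ℕ) (j₀ : Fin p), n = p * m + j₀ :=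
      ⟨n / p, ⟨n % p, Nat.mod_lt _ hp.out.pos⟩, (Nat.div_add_mod n p).symm⟩
    simp only
    rw [ps_coeff_phi, PowerSeries.coeff_mk, frobeniusEquiv_symm_pow_p]

end PS

section Mv

variable {R : Type*} [CommRing R] [CharP R p] {I : Type*} [Fintype I]
  {ι : Type*} [Fintype ι] [DecidableEq ι]

/-- Exponent vector of a "reduced" monomial. -/
noncomputable def fs (α : ι → Fin p) : ι →₀ ℕ :=
  Finsupp.equivFunOnFinite.symm (fun x => (α x : ℕ))

@[simp] theorem fs_apply (α : ι → Fin p) (x : ι) : fs p α x = (α x : ℕ) := rfl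

theorem mv_coeff_pow_p (f : MvPolynomial ι R) (μ : ι →₀ ℕ) :
    (f ^ p).coeff (p • μ) = (f.coeff μ) ^ p := by
  have hp0 : p ≠ 0 := hp.out.ne_zero
  rw [← MvPolynomial.map_frobenius_expand, MvPolynomial.coeff_map,
    MvPolynomial.coeff_expand_smul p hp0, frobenius_def]

theorem mv_coeff_pow_p_of_not_dvd (f : MvPolynomial ι R) {ν : ι →₀ ℕ} {x : ι}
    (h : ¬ p ∣ ν x) : (f ^ p).coeff ν = 0 := by
  have e := MvPolynomial.coeff_expand_of_not_dvd (p := p) f h
  rw [← MvPolynomial.map_frobenius_expand, MvPolynomial.coeff_map, e, map_zero]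

theorem mv_coeff_phi (β : I → R) (c : I × (ι → Fin p) → MvPolynomial ι R) (μ : ι →₀ ℕ)
    (α₀ : ι → Fin p) :
    (∑ q, c q ^ p * MvPolynomial.monomial (fs p q.2) (β q.1)).coeff (p • μ + fs p α₀) =
      ∑ i, (c (i, α₀)).coeff μ ^ p * β i := by
  classical
  rw [MvPolynomial.coeff_sum, Fintype.sum_prod_type]
  refine Finset.sum_congr rfl fun i _ => ?_
  rw [Finset.sum_eq_single α₀]
  · rw [MvPolynomial.coeff_mul_monomial', if_pos le_add_self, add_tsub_cancel_right,
      mv_coeff_pow_p]
  · intro α _ hα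
    rw [MvPolynomial.coeff_mul_monomial']
    split_ifs with hle
    · obtain ⟨x, hx⟩ : ∃ x, α x ≠ α₀ x := Function.ne_iff.mp hα
      rw [mv_coeff_pow_p_of_not_dvd p _ (x := x), zero_mul]
      intro hdvd
      apply hx
      have hle' : (α x : ℕ) ≤ p * μ x + (α₀ x : ℕ) := by
        have := hle x
        simpa using this
      obtain ⟨q, hq⟩ := hdvd
      have hq' : p * μ x + (α₀ x : ℕ) - (α x : ℕ) = p * q := by
        simpa using hq
      have e : p * μ x + (α₀ x : ℕ) = p * q + (α x : ℕ) := by omega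
      have := congrArg (· % p) e
      simp only [Nat.mul_add_mod] at this
      rw [Nat.mod_eq_of_lt (α₀ x).2, Nat.mod_eq_of_lt (α x).2] at this
      exact Fin.ext this.symm
    · rfl
  · simp

theorem isPB_mvPolynomial {β : I → R} (h : IsPB p R β) :
    IsPB p (MvPolynomial ι R)
      (fun q : I × (ι → Fin p) => MvPolynomial.monomial (fs p q.2) (β q.1)) := by
  classical
  have hp0 : p ≠ 0 := hp.out.ne_zero
  constructor
  · intro c c' hcc
    simp only at hcc
    funext ⟨i, α⟩
    ext μ
    have := congrArg (MvPolynomial.coeff (p • μ + fs p α)) hcc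
    rw [mv_coeff_phi, mv_coeff_phi] at this
    exact congrFun (h.1 (a₁ := fun i => (c (i, α)).coeff μ)
      (a₂ := fun i => (c' (i, α)).coeff μ) this) i
  · intro f
    induction f using MvPolynomial.induction_on' with
    | monomial ν a =>
      obtain ⟨d, hd⟩ := h.2 a
      simp only at hd
      set μ : ι →₀ ℕ := ν.mapRange (· / p) (Nat.zero_div p) with hμ
      set α₀ : ι → Fin p := fun x => ⟨ν x % p, Nat.mod_lt _ hp.out.pos⟩ with hα₀
      have hν : p • μ + fs p α₀ = ν := by
        ext x
        simp [hμ, hα₀, Nat.div_add_mod]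
      refine ⟨fun q => if q.2 = α₀ then MvPolynomial.monomial μ (d q.1) else 0, ?_⟩
      simp only
      rw [Fintype.sum_prod_type]
      have : ∀ i, ∑ α : ι → Fin p, (if α = α₀ then MvPolynomial.monomial μ (d i) else 0) ^ p *
          MvPolynomial.monomial (fs p α) (β i) =
          MvPolynomial.monomial ν (d i ^ p * β i) := by
        intro i
        rw [Finset.sum_eq_single α₀]
        · rw [if_pos rfl, MvPolynomial.monomial_pow, MvPolynomial.monomial_mul, hν]
        · intro α _ hα
          rw [if_neg hα, zero_pow hp0, zero_mul]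
        · simp
      simp only [this]
      rw [← map_sum, hd]
    | add f g hf hg =>
      obtain ⟨c, hc⟩ := hf
      obtain ⟨c', hc'⟩ := hg
      refine ⟨c + c', ?_⟩
      simp only at hc hc' ⊢
      rw [← hc, ← hc', ← Finset.sum_add_distrib]
      refine Finset.sum_congr rfl fun q _ => ?_
      rw [Pi.add_apply, add_pow_char, add_mul]

end Mv

end Groth.Agent.Helper8.PBasis
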