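import Mathlib
import Groth.Prelude.Def_EGA41

set_option autoImplicit false

namespace Groth.Agent.Helper8.PBasisTower

open EGA41
open scoped Pointwise

universe u

section general

variable {R D A₀ E : Type*} [CommRing R] [CommRing D] [Algebra R D] [CommRing A₀] [Algebra A₀ D]

theorem smul_eq_of_val {S : Subalgebra A₀ D} (a : S) (r : R) (h : algebraMap R D r = (a : D))
    (d : D) : a • d = r • d := by
  rw [Subalgebra.smul_def, smul_eq_mul, ← h, Algebra.smul_def]

/-- Linear independence over a subalgebra equal (as a set) to the image of an injective ring map. -/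
theorem li_iff (S : Subalgebra A₀ D) (hS : ∀ d, d ∈ S ↔ d ∈ Set.range (algebraMap R D))
    (hinj : Function.Injective (algebraMap R D)) (v : E → D) :
    LinearIndependent S v ↔ LinearIndependent R v := by
  rw [linearIndependent_iff', linearIndependent_iff']
  constructor
  · intro h s g hg i hi
    have hmem : ∀ e, algebraMap R D (g e) ∈ S := fun e => (hS _).mpr ⟨_, rfl⟩
    have key := h s (fun e => ⟨algebraMap R D (g e), hmem e⟩) (by
      rw [← hg]
      refine Finset.sum_congr rfl fun e _ => ?_
      exact smul_eq_of_val _ (g e) rfl _) i hi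
    have h0 : algebraMap R D (g i) = 0 := congrArg Subtype.val key
    exact hinj (by rw [h0, map_zero])
  · intro h s g hg i hi
    choose c hc using fun e => (hS _).mp (g e).2
    have key := h s c (by
      rw [← hg]
      refine Finset.sum_congr rfl fun e _ => ?_
      exact (smul_eq_of_val (g e) (c e) (hc e) _).symm) i hi
    apply Subtype.ext
    rw [← hc i, key, map_zero]
    rfl

theorem mem_span_iff (S : Subalgebra A₀ D) (hS : ∀ d, d ∈ S ↔ d ∈ Set.range (algebraMap R D))
    (X : Set D) (d : D) : d ∈ Submodule.span S X ↔ d ∈ Submodule.span R X := by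
  constructor
  · intro hd
    induction hd using Submodule.span_induction with
    | mem x hx => exact Submodule.subset_span hx
    | zero => exact zero_mem _
    | add x y _ _ hx hy => exact add_mem hx hy
    | smul a x _ hx =>
      obtain ⟨r, hr⟩ := (hS _).mp a.2
      rw [smul_eq_of_val a r hr]
      exact Submodule.smul_mem _ _ hx
  · intro hd
    induction hd using Submodule.span_induction with
    | mem x hx => exact Submodule.subset_span hx
    | zero => exact zero_mem _
    | add x y _ _ hx hy => exact add_mem hx hy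
    | smul r x _ hx =>
      have hmem : algebraMap R D r ∈ S := (hS _).mpr ⟨_, rfl⟩
      rw [← smul_eq_of_val (⟨algebraMap R D r, hmem⟩ : S) r rfl]
      exact Submodule.smul_mem _ _ hx

theorem span_top_iff (S : Subalgebra A₀ D) (hS : ∀ d, d ∈ S ↔ d ∈ Set.range (algebraMap R D))
    (X : Set D) : Submodule.span S X = ⊤ ↔ Submodule.span R X = ⊤ := by
  simp only [Submodule.eq_top_iff', mem_span_iff S hS]

end general

section tower

variable {R S M ι κ : Type*} [CommRing R] [CommRing S] [AddCommGroup M]
  [Algebra R S] [Module S M] [Module R M] [IsScalarTower R S M]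

/-- Converse of `linearIndependent_smul` when the first family is a basis. -/
theorem li_of_smul (b : Module.Basis ι R S) (c : κ → M)
    (h : LinearIndependent R fun q : ι × κ => b q.1 • c q.2) : LinearIndependent S c := by
  classical
  rw [linearIndependent_iff'] at h ⊢
  intro s g hg f hf
  let T : Finset ι := s.biUnion fun f => (b.repr (g f)).support
  have hexp : ∀ f ∈ s, g f = ∑ e ∈ T, (b.repr (g f) e) • b e := by
    intro f hf
    conv_lhs => rw [← b.linearCombination_repr (g f)]
    rw [Finsupp.linearCombination_apply]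
    exact Finsupp.sum_of_support_subset _ (Finset.subset_biUnion_of_mem
      (fun f => (b.repr (g f)).support) hf) _ (fun e _ => zero_smul _ _)
  have hsum : ∑ q ∈ T ×ˢ s, (b.repr (g q.2) q.1) • (b q.1 • c q.2) = 0 := by
    rw [Finset.sum_product_right]
    rw [← hg]
    refine Finset.sum_congr rfl fun f hf => ?_
    conv_rhs => rw [hexp f hf, Finset.sum_smul]
    refine Finset.sum_congr rfl fun e _ => ?_
    rw [smul_assoc]
  have hz := h (T ×ˢ s) (fun q => b.repr (g q.2) q.1) hsum
  rw [hexp f hf]
  refine Finset.sum_eq_zero fun e he => ?_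
  rw [hz (e, f) (Finset.mem_product.mpr ⟨he, hf⟩), zero_smul]

end tower

section main

variable (p : ℕ) {A C B : Type u} [CommRing A] [CommRing C] [CommRing B]
  [Algebra A C] [Algebra C B] [Algebra A B] [IsScalarTower A C B]

theorem mem_pPower_AB (hpow : ∀ b : B, b ^ p ∈ Set.range (algebraMap A B)) (d : B) :
    d ∈ pPowerSubalgebra p A B ↔ d ∈ Set.range (algebraMap A B) := by
  constructor
  · intro hd
    have hle : pPowerSubalgebra p A B ≤ ⊥ := by
      apply Algebra.adjoin_le
      rintro _ ⟨b, rfl⟩
      exact Algebra.mem_bot.mpr (hpow b)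
    exact Algebra.mem_bot.mp (hle hd)
  · rintro ⟨a, rfl⟩
    exact Subalgebra.algebraMap_mem _ a

theorem pow_mem_CB (hpow : ∀ b : B, b ^ p ∈ Set.range (algebraMap A B)) (b : B) :
    b ^ p ∈ Set.range (algebraMap C B) := by
  obtain ⟨a, ha⟩ := hpow b
  exact ⟨algebraMap A C a, by rw [← ha, IsScalarTower.algebraMap_apply A C B]⟩

theorem pow_mem_AC (hinj : Function.Injective (algebraMap C B))
    (hpow : ∀ b : B, b ^ p ∈ Set.range (algebraMap A B)) (c : C) :
    c ^ p ∈ Set.range (algebraMap A C) := by
  obtain ⟨a, ha⟩ := hpow (algebraMap C B c)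
  refine ⟨a, hinj ?_⟩
  rw [map_pow, ← ha, IsScalarTower.algebraMap_apply A C B]

/-- the ring `A[C^p]` -/
abbrev R₁ (A C : Type u) [CommRing A] [CommRing C] [Algebra A C] : Subalgebra A C :=
  pPowerSubalgebra p A C

theorem algebraMap_R₁_B (r : R₁ p A C) : algebraMap (R₁ p A C) B r = algebraMap C B (r : C) := rfl

theorem mem_pPower_AB' (hinj : Function.Injective (algebraMap C B))
    (hpow : ∀ b : B, b ^ p ∈ Set.range (algebraMap A B)) (d : B) :
    d ∈ pPowerSubalgebra p A B ↔ d ∈ Set.range (algebraMap (R₁ p A C) B) := by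
  rw [mem_pPower_AB p hpow]
  constructor
  · rintro ⟨a, rfl⟩
    refine ⟨⟨algebraMap A C a, Subalgebra.algebraMap_mem _ a⟩, ?_⟩
    rw [algebraMap_R₁_B, IsScalarTower.algebraMap_apply A C B]
  · rintro ⟨r, rfl⟩
    obtain ⟨a, ha⟩ := (mem_pPower_AB p (pow_mem_AC p hinj hpow) (r : C)).mp r.2
    exact ⟨a, by rw [algebraMap_R₁_B, ← ha, IsScalarTower.algebraMap_apply A C B]⟩

theorem injective_R₁_B (hinj : Function.Injective (algebraMap C B)) :
    Function.Injective (algebraMap (R₁ p A C) B) := by
  intro r s h
  exact Subtype.ext (hinj h)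

variable {ι κ : Type u} (x : ι → C) (y : κ → B)

/-- reduced exponents -/
abbrev Ex (p : ℕ) (ι : Type u) : Type u := {e : ι →₀ ℕ // ∀ i, e i < p}

/-- the index equivalence -/
noncomputable def sig : Ex p ι × Ex p κ ≃ Ex p (ι ⊕ κ) where
  toFun q := ⟨Finsupp.sumElim q.1.1 q.2.1, by
    intro i
    cases i with
    | inl i => simpa using q.1.2 i
    | inr j => simpa using q.2.2 j⟩
  invFun g := (⟨g.1.comapDomain Sum.inl Sum.inl_injective.injOn, fun i => by
      simpa using g.2 (Sum.inl i)⟩,
    ⟨g.1.comapDomain Sum.inr Sum.inr_injective.injOn, fun j => by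
      simpa using g.2 (Sum.inr j)⟩)
  left_inv q := by
    apply Prod.ext
    · apply Subtype.ext
      exact Finsupp.comapDomain_inl_sumElim _ _
    · apply Subtype.ext
      exact Finsupp.comapDomain_inr_sumElim _ _
  right_inv g := by
    apply Subtype.ext
    exact Finsupp.comapDomain_sumElim_comapDomain _

theorem pMonomial_sig (q : Ex p ι × Ex p κ) :
    pMonomial (Sum.elim (fun i => algebraMap C B (x i)) y) (sig p q).1 =
      pMonomial x q.1.1 • pMonomial y q.2.1 := by
  rw [Algebra.smul_def]
  change (Finsupp.sumElim q.1.1 q.2.1).prod _ = _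
  rw [Finsupp.prod_sumElim]
  congr 1
  unfold pMonomial
  rw [map_finsuppProd]
  refine Finsupp.prod_congr fun i _ => ?_
  simp

theorem range_Z :
    (Set.range fun g : Ex p (ι ⊕ κ) =>
        pMonomial (Sum.elim (fun i => algebraMap C B (x i)) y) g.1) =
      (Set.range fun e : Ex p ι => pMonomial x e.1) •
        (Set.range fun f : Ex p κ => pMonomial y f.1) := by
  ext d
  constructor
  · rintro ⟨g, rfl⟩
    obtain ⟨q, rfl⟩ := (sig p).surjective g
    change pMonomial (Sum.elim (fun i => algebraMap C B (x i)) y) (sig p q).1 ∈ _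
    rw [pMonomial_sig]
    exact Set.smul_mem_smul ⟨q.1, rfl⟩ ⟨q.2, rfl⟩
  · rintro ⟨_, ⟨e, rfl⟩, _, ⟨f, rfl⟩, rfl⟩
    exact ⟨sig p (e, f), pMonomial_sig p x y (e, f)⟩

theorem gen (hpow : ∀ b : B, b ^ p ∈ Set.range (algebraMap A B))
    (hinj : Function.Injective (algebraMap C B))
    (hx : IsPGenerating p A x) (hy : IsPGenerating p C y) :
    IsPGenerating p A (Sum.elim (fun i => algebraMap C B (x i)) y) := by
  unfold IsPGenerating at hx hy ⊢
  have hy' : Submodule.span C (Set.range fun f : Ex p κ => pMonomial y f.1) = ⊤ :=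
    (span_top_iff (R := C) (pPowerSubalgebra p C B)
      (mem_pPower_AB p (pow_mem_CB p hpow)) _).mp hy
  rw [span_top_iff (R := R₁ p A C) (pPowerSubalgebra p A B) (mem_pPower_AB' p hinj hpow),
    range_Z, Submodule.span_smul_of_span_eq_top hx, hy']
  rfl

theorem indep_iff (hpow : ∀ b : B, b ^ p ∈ Set.range (algebraMap A B))
    (hinj : Function.Injective (algebraMap C B))
    (hx : IsPBasis p A x) :
    IsPIndependent p C y ↔
      IsPIndependent p A (Sum.elim (fun i => algebraMap C B (x i)) y) := by
  obtain ⟨hli, hgen⟩ := hx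
  unfold IsPIndependent at hli ⊢
  unfold IsPGenerating at hgen
  rw [li_iff (R := C) (pPowerSubalgebra p C B) (mem_pPower_AB p (pow_mem_CB p hpow)) hinj,
    li_iff (R := R₁ p A C) (pPowerSubalgebra p A B) (mem_pPower_AB' p hinj hpow)
      (injective_R₁_B p hinj),
    ← linearIndependent_equiv' (sig p)
      (f := fun g : Ex p (ι ⊕ κ) => pMonomial (Sum.elim (fun i => algebraMap C B (x i)) y) g.1)
      (g := fun q : Ex p ι × Ex p κ => pMonomial x q.1.1 • pMonomial y q.2.1)
      (funext fun q => pMonomial_sig p x y q)]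
  constructor
  · intro hy
    exact linearIndependent_smul hli hy
  · intro h
    let b : Module.Basis (Ex p ι) (R₁ p A C) C :=
      Module.Basis.mk hli (by rw [hgen])
    have hb : ∀ e, b e = pMonomial x e.1 := fun e => by
      simp [b]
    have h' : LinearIndependent (R₁ p A C)
        (fun q : Ex p ι × Ex p κ => b q.1 • pMonomial y q.2.1) := by
      have e : (fun q : Ex p ι × Ex p κ => b q.1 • pMonomial y q.2.1) =
          fun q => pMonomial x q.1.1 • pMonomial y q.2.1 := funext fun q => by rw [hb]
      rw [e]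
      exact h
    exact li_of_smul b _ h'

theorem main [Fact p.Prime] [CharP B p]
    (hinj : Function.Injective (algebraMap C B)) (hpow : ∀ b : B, b ^ p ∈ Set.range (algebraMap A B)) :
    (EGA41.IsPGenerating p A x → EGA41.IsPGenerating p C y →
      EGA41.IsPGenerating p A (Sum.elim (fun i => algebraMap C B (x i)) y)) ∧
    (EGA41.IsPBasis p A x →
      (EGA41.IsPIndependent p C y ↔
        EGA41.IsPIndependent p A (Sum.elim (fun i => algebraMap C B (x i)) y))) :=
  ⟨gen p x y hpow hinj, indep_iff p x y hpow hinj⟩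

end main

end Groth.Agent.Helper8.PBasisTower
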