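import Mathlib
import Groth.Prelude.Def_Conn
import Groth.Agent.Helper8.ConnTrace

set_option autoImplicit false
universe v u

namespace Groth.Agent.Helper8.PCurvMat

open TensorProduct Groth.Agent.Helper8.ConnTrace

theorem main {A : Type v} {B : Type u} [CommRing A] [CommRing B] [Algebra A B]
    (bΩ : Module.Basis (Fin 1) B (KaehlerDifferential A B)) {r : ℕ} (T : Matrix (Fin r) (Fin r) B)
    (nabla : (Fin r → B) →ₗ[A] (Fin r → B) ⊗[B] KaehlerDifferential A B)
    (hc : Conn.IsConn (KaehlerDifferential.D A B) nabla)
    (hT : ∀ j : Fin r, nabla (Pi.single j 1) = ∑ i : Fin r, T i j • (Pi.single i (1 : B) ⊗ₜ[B] bΩ 0))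
    (θ : Derivation A B B) (s : Fin r → B) :
    Conn.alongDer nabla θ s = θ.liftKaehlerDifferential (bΩ 0) • T.mulVec s + (fun i => θ (s i)) := by
  set f := θ.liftKaehlerDifferential (bΩ 0) with hf
  have hs : s = ∑ j, s j • (Pi.single j (1 : B) : Fin r → B) := by
    funext i
    rw [Finset.sum_apply, Finset.sum_eq_single i]
    · simp
    · intro j _ hji
      simp [Pi.single_apply, Ne.symm hji]
    · intro h; exact absurd (Finset.mem_univ _) h
  have he : ∀ j : Fin r, Conn.alongDer nabla θ (Pi.single j (1 : B)) =
      ∑ i : Fin r, (T i j * f) • (Pi.single i (1 : B) : Fin r → B) := by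
    intro j
    show Conn.along nabla θ.liftKaehlerDifferential _ = _
    rw [Conn.along_apply, hT j, map_sum, map_sum]
    apply Finset.sum_congr rfl
    intro i _
    rw [map_smul, map_smul, TensorProduct.map_tmul, TensorProduct.rid_tmul, LinearMap.id_apply,
      smul_smul, mul_comm]
  have hsm : ∀ (c : B) (m : Fin r → B), Conn.alongDer nabla θ (c • m) =
      c • Conn.alongDer nabla θ m + θ c • m := by
    intro c m
    have := along_smul (KaehlerDifferential.D A B) nabla hc θ.liftKaehlerDifferential c m
    rw [Derivation.liftKaehlerDifferential_comp_D] at this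
    exact this
  conv_lhs => rw [hs]
  rw [map_sum, Finset.sum_congr rfl (fun j _ => by rw [hsm, he])]
  funext i
  simp only [Finset.sum_apply, Pi.add_apply, Pi.smul_apply, smul_eq_mul, Matrix.mulVec, dotProduct,
    Finset.mul_sum, Pi.single_apply]
  rw [Finset.sum_add_distrib]
  congr 1
  · apply Finset.sum_congr rfl
    intro j _
    rw [Finset.sum_eq_single i]
    · simp; ring
    · intro k _ hki
      simp [Ne.symm hki]
    · intro h; exact absurd (Finset.mem_univ _) h
  · rw [Finset.sum_eq_single i]
    · simp
    · intro k _ hki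
      simp [Ne.symm hki]
    · intro h; exact absurd (Finset.mem_univ _) h

end Groth.Agent.Helper8.PCurvMat
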