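import Mathlib
import Groth.Agent.Helper8.PBasisPS

/-!
# `[K : K^p] = p^(d+1)` for `K` finitely generated of transcendence degree `d` over `k((t))`
-/

namespace Groth.Agent.Helper8.PBasis

universe u

theorem main (p : ℕ) [hp : Fact p.Prime]
    (k : Type u) [Field k] [Finite k] [CharP k p]
    (K : Type u) [Field K] [Algebra (LaurentSeries k) K] [CharP K p]
    (hfg : (⊤ : IntermediateField (LaurentSeries k) K).FG)
    (d : ℕ) (hd : Algebra.trdeg (LaurentSeries k) K = d) :
    Module.finrank (↥(frobenius K p).fieldRange) K = p ^ (d + 1) := by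
  classical
  haveI : PerfectRing k p := PerfectRing.ofFiniteOfIsReduced p k
  haveI : CharP (LaurentSeries k) p :=
    RingHom.charP (algebraMap (LaurentSeries k) K) (algebraMap (LaurentSeries k) K).injective p
  have hL : IsPB p (LaurentSeries k)
      (fun j : Fin p => algebraMap (PowerSeries k) (LaurentSeries k) (PowerSeries.X ^ (j : ℕ))) :=
    isPB_fraction p (isPB_powerSeries p k)
  obtain ⟨ι, x, hx⟩ := exists_isTranscendenceBasis' (R := LaurentSeries k) (A := K)
  have hcard : Cardinal.mk ι = d := hx.cardinalMk_eq_trdeg.trans hd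
  haveI : Finite ι := Cardinal.mk_lt_aleph0_iff.mp (hcard ▸ Cardinal.nat_lt_aleph0 d)
  haveI := Fintype.ofFinite ι
  have hcard' : Fintype.card ι = d := by
    have := Cardinal.mk_fintype ι
    rw [hcard] at this
    exact_mod_cast this.symm
  have hMv := isPB_mvPolynomial p (ι := ι) hL
  have hFr := isPB_fraction p (Q := FractionRing (MvPolynomial ι (LaurentSeries k))) hMv
  have e : FractionRing (MvPolynomial ι (LaurentSeries k)) ≃ₐ[LaurentSeries k]
      IntermediateField.adjoin (LaurentSeries k) (Set.range x) := hx.1.aevalEquivField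
  have hF := isPB_of_ringEquiv p e.toRingEquiv hFr
  haveI : CharP (IntermediateField.adjoin (LaurentSeries k) (Set.range x)) p :=
    RingHom.charP (algebraMap (IntermediateField.adjoin (LaurentSeries k) (Set.range x)) K)
      (algebraMap (IntermediateField.adjoin (LaurentSeries k) (Set.range x)) K).injective p
  have hFrank := finrank_of_isPB p hF
  haveI : Algebra.IsAlgebraic (IntermediateField.adjoin (LaurentSeries k) (Set.range x)) K :=
    hx.isAlgebraic_field
  haveI : Algebra.EssFiniteType (LaurentSeries k) K := IntermediateField.fg_top_iff.mp hfg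
  haveI : Algebra.EssFiniteType (IntermediateField.adjoin (LaurentSeries k) (Set.range x)) K :=
    Algebra.EssFiniteType.of_comp (LaurentSeries k) _ K
  haveI : FiniteDimensional (IntermediateField.adjoin (LaurentSeries k) (Set.range x)) K :=
    Algebra.finite_of_essFiniteType_of_isAlgebraic
  rw [finrank_frobenius_eq_of_finite p
    (IntermediateField.adjoin (LaurentSeries k) (Set.range x)) K, hFrank]
  simp [hcard', pow_succ, mul_comm]

end Groth.Agent.Helper8.PBasis
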