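import Mathlib

namespace Groth.Agent.Helper8.PITower

open IntermediateField Polynomial

universe u

variable {F E : Type u} [Field F] [Field E] [Algebra F E] (p : ℕ) [Fact p.Prime] [CharP F p]

/-- the tower condition -/
def Tower {n : ℕ} (a : Fin n → E) : Prop :=
  ∀ i : Fin n, a i ^ p ∈ adjoin F (a '' {j | j < i}) ∧ a i ∉ adjoin F (a '' {j | j < i})

include p in
theorem exists_step [IsPurelyInseparable F E] (K : IntermediateField F E) (hK : K ≠ ⊤) :
    ∃ y : E, y ∉ K ∧ y ^ p ∈ K := by
  obtain ⟨x, hx⟩ : ∃ x : E, x ∉ K := by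
    by_contra hc
    push Not at hc
    exact hK (eq_top_iff.mpr fun x _ => hc x)
  haveI : ExpChar F p := ExpChar.prime (Fact.out)
  obtain ⟨m, hm⟩ := IsPurelyInseparable.pow_mem F p x
  have hex : ∃ m, x ^ p ^ m ∈ K := by
    obtain ⟨c, hc⟩ := hm
    exact ⟨m, hc ▸ K.algebraMap_mem c⟩
  classical
  have hn0 : Nat.find hex ≠ 0 := by
    intro h0
    have := Nat.find_spec hex
    rw [h0, pow_zero, pow_one] at this
    exact hx this
  obtain ⟨m', hm'⟩ : ∃ m', Nat.find hex = m' + 1 := ⟨Nat.find hex - 1, by omega⟩
  refine ⟨x ^ p ^ m', Nat.find_min hex (by omega), ?_⟩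
  rw [← pow_mul, ← pow_succ, ← hm']
  exact Nat.find_spec hex

include p in
theorem finrank_adjoin_simple (K : IntermediateField F E) (y : E) (hy : y ∉ K) (hyp : y ^ p ∈ K) :
    Module.finrank K K⟮y⟯ = p := by
  have hp : p.Prime := Fact.out
  haveI : CharP E p := charP_of_injective_algebraMap (algebraMap F E).injective p
  haveI : CharP K p := charP_of_injective_algebraMap (algebraMap F K).injective p
  set c : K := ⟨y ^ p, hyp⟩ with hc
  have hnot : ∀ b : K, b ^ p ≠ c := by
    intro b hb
    apply hy
    have h1 : ((b : E)) ^ p = y ^ p := by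
      have := congrArg (fun z : K => (z : E)) hb
      simpa using this
    have h2 : (b : E) = y := frobenius_inj E p h1
    rw [← h2]; exact b.2
  have hirr : Irreducible (X ^ p - C c : K[X]) := X_pow_sub_C_irreducible_of_prime hp hnot
  have hroot : aeval y (X ^ p - C c : K[X]) = 0 := by
    rw [map_sub, map_pow, aeval_X, aeval_C]
    show y ^ p - ((c : K) : E) = 0
    rw [hc]; simp
  have hmonic : (X ^ p - C c : K[X]).Monic := monic_X_pow_sub_C c hp.ne_zero
  have hmin := minpoly.eq_of_irreducible_of_monic hirr hroot hmonic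
  have hint : IsIntegral K y := ⟨_, hmonic, hroot⟩
  rw [adjoin.finrank hint, ← hmin, natDegree_X_pow_sub_C]

include p in
theorem finrank_adjoin_union (S : Set E) (y : E) (hy : y ∉ adjoin F S)
    (hyp : y ^ p ∈ adjoin F S) :
    Module.finrank F (adjoin F (S ∪ {y})) = Module.finrank F (adjoin F S) * p := by
  rw [← adjoin_adjoin_left F S {y}]
  have h1 := Module.finrank_mul_finrank F (adjoin F S) (adjoin (adjoin F S) ({y} : Set E))
  rw [finrank_adjoin_simple p (adjoin F S) y hy hyp] at h1
  rw [h1]
  rfl

omit [Fact p.Prime] [CharP F p] in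
theorem tower_snoc {n : ℕ} (a : Fin n → E) (ha : Tower (F := F) p a) (y : E)
    (hy : y ∉ adjoin F (Set.range a)) (hyp : y ^ p ∈ adjoin F (Set.range a)) :
    Tower (F := F) p (Fin.snoc a y : Fin (n + 1) → E) := by
  intro i
  induction i using Fin.lastCases with
  | last =>
    have : (Fin.snoc a y : Fin (n + 1) → E) '' {j | j < Fin.last n} = Set.range a := by
      ext z
      constructor
      · rintro ⟨j, hj, rfl⟩
        have hj' : j < Fin.last n := hj
        induction j using Fin.lastCases with
        | last => exact absurd hj' (lt_irrefl _)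
        | cast j => exact ⟨j, by simp⟩
      · rintro ⟨j, rfl⟩
        exact ⟨j.castSucc, Fin.castSucc_lt_last j, by simp⟩
    rw [this, Fin.snoc_last]
    exact ⟨hyp, hy⟩
  | cast i =>
    have : (Fin.snoc a y : Fin (n + 1) → E) '' {j | j < i.castSucc} = a '' {j | j < i} := by
      ext z
      constructor
      · rintro ⟨j, hj, rfl⟩
        have hj' : j < i.castSucc := hj
        induction j using Fin.lastCases with
        | last =>
          exfalso
          have := Fin.castSucc_lt_last i
          exact absurd (lt_trans hj' this) (lt_irrefl _)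
        | cast j =>
          refine ⟨j, ?_, by simp⟩
          exact Fin.castSucc_lt_castSucc_iff.mp hj'
      · rintro ⟨j, hj, rfl⟩
        exact ⟨j.castSucc, Fin.castSucc_lt_castSucc_iff.mpr hj, by simp⟩
    rw [this, Fin.snoc_castSucc]
    exact ha i

include p in
theorem main_aux [FiniteDimensional F E] [IsPurelyInseparable F E] :
    ∀ (m : ℕ) (n : ℕ) (a : Fin n → E),
      Module.finrank F E - Module.finrank F (adjoin F (Set.range a)) = m →
      Tower (F := F) p a → Module.finrank F (adjoin F (Set.range a)) = p ^ n →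
      ∃ (n' : ℕ) (a' : Fin n' → E), adjoin F (Set.range a') = ⊤ ∧ Tower (F := F) p a' ∧
        Module.finrank F E = p ^ n' := by
  intro m
  induction m using Nat.strong_induction_on with
  | _ m ih =>
    intro n a hm ha hfr
    by_cases htop : adjoin F (Set.range a) = ⊤
    · refine ⟨n, a, htop, ha, ?_⟩
      rw [← hfr, htop, finrank_top']
    · obtain ⟨y, hy, hyp⟩ := exists_step p (adjoin F (Set.range a)) htop
      have hrange : Set.range (Fin.snoc a y : Fin (n + 1) → E) = Set.range a ∪ {y} := by
        rw [Fin.range_snoc, Set.union_singleton]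
      have hfr' : Module.finrank F (adjoin F (Set.range (Fin.snoc a y : Fin (n + 1) → E))) =
          p ^ (n + 1) := by
        rw [hrange, finrank_adjoin_union p _ y hy hyp, hfr, pow_succ]
      have hle : Module.finrank F (adjoin F (Set.range (Fin.snoc a y : Fin (n + 1) → E))) ≤
          Module.finrank F E := by
        exact Submodule.finrank_le
          (adjoin F (Set.range (Fin.snoc a y : Fin (n + 1) → E))).toSubalgebra.toSubmodule
      have hlt : p ^ n < p ^ (n + 1) := by
        have hp : p.Prime := Fact.out
        exact Nat.pow_lt_pow_right hp.one_lt (by omega)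
      refine ih (Module.finrank F E -
        Module.finrank F (adjoin F (Set.range (Fin.snoc a y : Fin (n + 1) → E)))) ?_
        (n + 1) (Fin.snoc a y) rfl (tower_snoc p a ha y hy hyp) hfr'
      rw [← hm, hfr', hfr]
      rw [hfr'] at hle
      omega

theorem main {F E : Type u} [Field F] [Field E] [Algebra F E] (p : ℕ)
    [Fact p.Prime] [CharP F p] [FiniteDimensional F E] [IsPurelyInseparable F E] :
    ∃ (n : ℕ) (a : Fin n → E), adjoin F (Set.range a) = ⊤ ∧
      (∀ i : Fin n, a i ^ p ∈ adjoin F (a '' {j | j < i}) ∧ a i ∉ adjoin F (a '' {j | j < i})) ∧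
      Module.finrank F E = p ^ n := by
  have h0 : Set.range (Fin.elim0 : Fin 0 → E) = ∅ := Set.range_eq_empty _
  refine main_aux p _ 0 Fin.elim0 rfl (fun i => i.elim0) ?_
  rw [h0, adjoin_empty, IntermediateField.finrank_bot, pow_zero]

end Groth.Agent.Helper8.PITower
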