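import Mathlib
import Groth.Prelude.Def_EGA41
import Groth.Agent.S2465
import Groth.Agent.S2467
import Groth.Agent.Helper1.PBasisField2
set_option autoImplicit false

universe u

namespace Groth.Agent.Helper8.PImp

open EGA41 TensorProduct

theorem s4522 (p : ℕ) [Fact p.Prime] {R K L : Type u} [Field R] [Field K] [Field L]
    [Algebra R K] [Algebra K L] [Algebra R L] [IsScalarTower R K L] [CharP L p]
    (hR : Set.range (algebraMap R L) = Set.range fun y : L => y ^ p)
    (hK : ∀ y : L, y ^ p ∈ Set.range (algebraMap K L)) :
    Function.Injective (KaehlerDifferential.mapBaseChange R K L) := by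
  have hinj : Function.Injective (algebraMap K L) := (algebraMap K L).injective
  -- a p-basis of L over K
  obtain ⟨B, -, -, hB⟩ := Groth.Agent.S2467.result p (k := K) (K := L) Set.univ ∅ (Set.empty_subset _)
    (Groth.Agent.Helper1.PBasisField.isPGenerating_univ p K)
    ((Groth.Agent.Helper1.PBasisField.isPIndependent_val_iff p K ∅).mpr
      (Groth.Agent.Helper1.PBasisField.pInd_empty p K))
  -- the universal derivation K → L ⊗ Ω
  let V := L ⊗[K] Ω[K⁄R]
  let D₀ : Derivation R K V :=
    (TensorProduct.mk K L (Ω[K⁄R]) 1).compDer (KaehlerDifferential.D R K)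
  have hD₀ : ∀ a : K, D₀ a = (1 : L) ⊗ₜ[K] KaehlerDifferential.D R K a := fun a => rfl
  let D₁ : Derivation ℤ K V := D₀.restrictScalars ℤ
  have hcond : ∀ (a : K) (b : L), algebraMap K L a = b ^ p → D₁ a = 0 := by
    intro a b hab
    obtain ⟨r, hr⟩ : b ^ p ∈ Set.range (algebraMap R L) := by rw [hR]; exact ⟨b, rfl⟩
    have har : a = algebraMap R K r := by
      apply hinj
      rw [hab, ← hr, ← IsScalarTower.algebraMap_apply]
    show D₀ a = 0
    rw [har, Derivation.map_algebraMap]
  obtain ⟨D', hD'⟩ := ((Groth.Agent.S2465.result p hinj hK (Subtype.val : B → L) hB V D₁).1).mpr hcond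
  have hD'R : ∀ r : R, D' (algebraMap R L r) = 0 := by
    intro r
    rw [IsScalarTower.algebraMap_apply R K L, hD']
    show D₀ (algebraMap R K r) = 0
    rw [Derivation.map_algebraMap]
  let D'' : Derivation R L V :=
    Derivation.mk'
      { toFun := fun b => D' b
        map_add' := fun b c => map_add _ b c
        map_smul' := fun r b => by
          rw [Algebra.smul_def, Derivation.leibniz, hD'R, smul_zero, add_zero, RingHom.id_apply,
            algebraMap_smul] }
      (fun a b => Derivation.leibniz _ a b)
  have hD'' : ∀ b, D'' b = D' b := fun b => rfl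
  let φ : Ω[L⁄R] →ₗ[L] V := D''.liftKaehlerDifferential
  have h1 : ∀ ω : Ω[K⁄R], φ (KaehlerDifferential.map R R K L ω) = (1 : L) ⊗ₜ[K] ω := by
    intro ω
    have hω : ω ∈ Submodule.span K (Set.range (KaehlerDifferential.D R K)) := by
      rw [KaehlerDifferential.span_range_derivation]; trivial
    induction hω using Submodule.span_induction with
    | mem y hy =>
      obtain ⟨a, rfl⟩ := hy
      rw [KaehlerDifferential.map_D]
      show D''.liftKaehlerDifferential (KaehlerDifferential.D R L (algebraMap K L a)) = _
      rw [Derivation.liftKaehlerDifferential_comp_D, hD'', hD']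
      rfl
    | zero => rw [map_zero, map_zero, tmul_zero]
    | add y z _ _ hy hz => rw [map_add, map_add, hy, hz, tmul_add]
    | smul c y _ hy =>
      rw [map_smul, ← algebraMap_smul L c, map_smul, hy, algebraMap_smul, TensorProduct.tmul_smul]
  have hφ : ∀ z : L ⊗[K] Ω[K⁄R], φ (KaehlerDifferential.mapBaseChange R K L z) = z := by
    intro z
    induction z using TensorProduct.induction_on with
    | zero => rw [map_zero, map_zero]
    | tmul c ω =>
      rw [KaehlerDifferential.mapBaseChange_tmul, map_smul, h1, TensorProduct.smul_tmul', smul_eq_mul,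
        mul_one]
    | add y z hy hz => rw [map_add, map_add, hy, hz]
  exact Function.LeftInverse.injective (g := φ) hφ

end Groth.Agent.Helper8.PImp
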