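import Mathlib
import Groth.Agent.Helper1.PBasisField2
set_option autoImplicit false

universe u

namespace Groth.Agent.Helper8.PInd

open EGA41 Groth.Agent.Helper1.PBasis Groth.Agent.Helper1.PBasisField

variable (p : ℕ) [hp : Fact p.Prime] (k : Type u) {K : Type u} [Field k] [Field K] [Algebra k K]
  [CharP K p]

omit [CharP K p] in
/-- the subfield generated over `k` by `K^p` and `T` is the one generated over `k[K^p]` by `T`. -/
theorem mem_adjoin_union_iff (T : Set K) (z : K) :
    z ∈ IntermediateField.adjoin k ((Set.range fun y : K => y ^ p) ∪ T) ↔
      z ∈ IntermediateField.adjoin (pPowerSubalgebra p k K) T := by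
  constructor
  · intro hz
    induction hz using IntermediateField.adjoin_induction with
    | mem w hw =>
      rcases hw with ⟨y, rfl⟩ | hw
      · have : (fun y : K => y ^ p) y =
            algebraMap (pPowerSubalgebra p k K) K ⟨y ^ p, pow_mem p y⟩ := rfl
        rw [this]
        exact IntermediateField.algebraMap_mem _ _
      · exact IntermediateField.subset_adjoin _ _ hw
    | algebraMap c =>
      have : algebraMap k K c =
          algebraMap (pPowerSubalgebra p k K) K (algebraMap k (pPowerSubalgebra p k K) c) := rfl
      rw [this]
      exact IntermediateField.algebraMap_mem _ _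
    | add y w _ _ hy hw => exact add_mem hy hw
    | inv y _ hy => exact inv_mem hy
    | mul y w _ _ hy hw => exact mul_mem hy hw
  · intro hz
    rw [mem_adjoin_iff] at hz
    induction hz using Algebra.adjoin_induction with
    | mem y hy => exact IntermediateField.subset_adjoin _ _ (Or.inr hy)
    | algebraMap c =>
      have hc : (c : K) ∈ Algebra.adjoin k (Set.range fun b : K => b ^ p) := c.2
      have h1 : Algebra.adjoin k (Set.range fun b : K => b ^ p) ≤
          (IntermediateField.adjoin k ((Set.range fun y : K => y ^ p) ∪ T)).toSubalgebra := by
        refine (Algebra.adjoin_mono (Set.subset_union_left (t := T))).trans ?_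
        exact IntermediateField.algebra_adjoin_le_adjoin _ _
      exact h1 hc
    | add y w _ _ hy hw => exact add_mem hy hw
    | mul y w _ _ hy hw => exact mul_mem hy hw

theorem s4521 {ι : Type u} (x : ι → K) :
    EGA41.IsPIndependent p k x ↔
      ∀ a : ι, x a ∉ IntermediateField.adjoin k ((Set.range fun y : K => y ^ p) ∪ x '' {b | b ≠ a}) := by
  constructor
  · intro h a ha
    rw [mem_adjoin_union_iff] at ha
    have h1 := linearIndependent_D_of_isPIndependent p k x h
    have h2 := D_mem_span p k _ _ ha
    have h3 : ((fun b => KaehlerDifferential.D k K b) '' (x '' {b | b ≠ a})) =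
        ((fun i => KaehlerDifferential.D k K (x i)) '' {b | b ≠ a}) := by
      rw [Set.image_image]
    rw [h3] at h2
    exact h1.notMem_span_image (s := {b | b ≠ a}) (by simp) h2
  · intro h
    have hinj : Function.Injective x := by
      intro i j hij
      by_contra hne
      apply h i
      apply IntermediateField.subset_adjoin
      right
      exact ⟨j, Ne.symm hne, hij.symm⟩
    rw [isPIndependent_iff p k x hinj]
    obtain ⟨B, -, hBS, hB, hmax⟩ := exists_maximal p k (Set.range x) ∅ (Set.empty_subset _)
      (pInd_empty p k)
    have hBeq : B = Set.range x := by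
      apply Set.Subset.antisymm hBS
      rintro _ ⟨a, rfl⟩
      by_contra hnot
      have h1 : x a ∈ IntermediateField.adjoin (pPowerSubalgebra p k K) B := by
        by_contra h'
        exact hmax (x a) (Set.mem_range_self a) hnot (pInd_insert p k B hB (x a) h')
      apply h a
      rw [mem_adjoin_union_iff]
      have hsub : B ⊆ x '' {b | b ≠ a} := by
        intro w hw
        obtain ⟨b, rfl⟩ := hBS hw
        refine ⟨b, ?_, rfl⟩
        rintro rfl
        exact hnot hw
      exact IntermediateField.adjoin.mono _ _ _ hsub h1
    rw [← hBeq]
    exact hB

end Groth.Agent.Helper8.PInd
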