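import Mathlib
import Groth.Prelude.Def_PLie
import Groth.Agent.Helper8.PLieJac

namespace Groth.Agent.Helper8.PLie3

open Groth.Agent.Helper8.PLieJac

section
variable {R : Type*} [CommRing R] {L : Type*} [LieRing L] [LieAlgebra R L]

lemma lie_coords (bs : Module.Basis (Fin 3) R L) (u v : L) :
    ⁅u, v⁆ = (bs.repr u 0 * bs.repr v 1 - bs.repr u 1 * bs.repr v 0) • ⁅bs 0, bs 1⁆
      + (bs.repr u 0 * bs.repr v 2 - bs.repr u 2 * bs.repr v 0) • ⁅bs 0, bs 2⁆
      + (bs.repr u 1 * bs.repr v 2 - bs.repr u 2 * bs.repr v 1) • ⁅bs 1, bs 2⁆ := by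
  have h10 : ⁅bs 1, bs 0⁆ = -⁅bs 0, bs 1⁆ := (lie_skew _ _).symm
  have h20 : ⁅bs 2, bs 0⁆ = -⁅bs 0, bs 2⁆ := (lie_skew _ _).symm
  have h21 : ⁅bs 2, bs 1⁆ = -⁅bs 1, bs 2⁆ := (lie_skew _ _).symm
  conv_lhs => rw [← bs.sum_repr u, ← bs.sum_repr v]
  simp only [Fin.sum_univ_three, add_lie, lie_add, smul_lie, lie_smul, lie_self, h10, h20, h21]
  module

end


section l3
variable {R : Type*} [CommRing R] (p : ℕ) [hp : Fact p.Prime] [CharP R p] (t : R)
variable {L : Type*} [LieRing L] [LieAlgebra R L] (bs : Module.Basis (Fin 3) R L)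

/-- matrix model of `l_t`. -/
def embL : (Fin 3 → R) →ₗ[R] Matrix (Fin 3) (Fin 3) R where
  toFun a := !![a 0, 0, a 1; 0, a 0 * t, a 2; 0, 0, 0]
  map_add' a c := by ext i j; fin_cases i <;> fin_cases j <;> simp [add_mul]
  map_smul' r a := by ext i j; fin_cases i <;> fin_cases j <;> simp [mul_assoc]

lemma embL_apply (a : Fin 3 → R) : embL t a = !![a 0, 0, a 1; 0, a 0 * t, a 2; 0, 0, 0] := rfl

lemma embL_injective : Function.Injective (embL t) := by
  intro a c h
  have h0 := congrFun (congrFun h 0) 0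
  have h1 := congrFun (congrFun h 0) 2
  have h2 := congrFun (congrFun h 1) 2
  simp [embL_apply] at h0 h1 h2
  funext i; fin_cases i <;> assumption

lemma embL_pow (a : Fin 3 → R) (n : ℕ) : (embL t a)^(n+1)
    = !![a 0^(n+1), 0, a 0^n * a 1; 0, (a 0 * t)^(n+1), (a 0 * t)^n * a 2; 0, 0, 0] := by
  induction n with
  | zero => simp [embL_apply]
  | succ n ih =>
    rw [pow_succ, ih, embL_apply]
    ext i j
    fin_cases i <;> fin_cases j <;> simp [Matrix.mul_apply, Fin.sum_univ_three] <;> ring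

variable {t} in
theorem l3_exists (hxy : ⁅bs 0, bs 1⁆ = bs 1) (hxz : ⁅bs 0, bs 2⁆ = t • bs 2)
    (hyz : ⁅bs 1, bs 2⁆ = 0) (ht : t ^ p = t) : Nonempty (PLie.PMap R p L) := by
  have hpos := hp.out.pos
  refine ⟨ofAssoc p ((embL t) ∘ₗ bs.equivFun.toLinearMap)
    ((embL_injective t).comp bs.equivFun.injective) ?_
    (fun u => bs.equivFun.symm ![bs.repr u 0 ^ p, bs.repr u 0 ^ (p-1) * bs.repr u 1,
      (bs.repr u 0 * t) ^ (p-1) * bs.repr u 2]) ?_⟩
  · intro u v
    rw [lie_coords bs u v, hxy, hxz, hyz]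
    simp only [LinearMap.comp_apply, LinearEquiv.coe_coe, embL_apply, map_add, map_smul, smul_zero,
      add_zero]
    ext i j
    fin_cases i <;> fin_cases j <;>
      simp [Matrix.mul_apply, Fin.sum_univ_three, Module.Basis.equivFun_apply] <;> ring
  · intro u
    simp only [LinearMap.comp_apply, LinearEquiv.coe_coe, LinearEquiv.apply_symm_apply]
    have h := embL_pow t (bs.equivFun u) (p - 1)
    rw [show p - 1 + 1 = p by omega] at h
    rw [h, embL_apply]
    simp only [Module.Basis.equivFun_apply]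
    ext i j
    fin_cases i <;> fin_cases j <;> simp
    rw [mul_pow, ht]


omit hp [CharP R p] in
lemma ad_pow_smul_eigen (x v : L) (c : R) (h : ⁅x, v⁆ = c • v) (n : ℕ) :
    (LieAlgebra.ad R L x ^ n) v = c ^ n • v := by
  induction n with
  | zero => simp
  | succ n ih =>
    rw [pow_succ', Module.End.mul_apply, ih, map_smul, LieAlgebra.ad_apply, h, smul_smul, pow_succ]

variable {t} in
theorem l3_forall (hxy : ⁅bs 0, bs 1⁆ = bs 1) (hxz : ⁅bs 0, bs 2⁆ = t • bs 2)
    (hyz : ⁅bs 1, bs 2⁆ = 0) (φ : PLie.PMap R p L) : t ^ p = t := by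
  have had := φ.ad_map (bs 0)
  set u := φ.toFun (bs 0) with hu
  have e1 := LinearMap.congr_fun had (bs 1)
  have e2 := LinearMap.congr_fun had (bs 2)
  rw [LieAlgebra.ad_apply, ad_pow_smul_eigen (bs 0) (bs 1) 1 (by rw [hxy, one_smul]), one_pow,
    one_smul, lie_coords bs u (bs 1), hxy, hxz, hyz] at e1
  rw [LieAlgebra.ad_apply, ad_pow_smul_eigen (bs 0) (bs 2) t hxz, lie_coords bs u (bs 2), hxy, hxz,
    hyz] at e2
  have f1 := congrArg (fun w => bs.repr w 1) e1
  have f2 := congrArg (fun w => bs.repr w 2) e2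
  simp [Finsupp.single_apply] at f1 f2
  rw [f1, one_mul] at f2
  exact f2.symm

variable {t} in
theorem l3_main (hxy : ⁅bs 0, bs 1⁆ = bs 1) (hxz : ⁅bs 0, bs 2⁆ = t • bs 2)
    (hyz : ⁅bs 1, bs 2⁆ = 0) : Nonempty (PLie.PMap R p L) ↔ t ^ p = t :=
  ⟨fun ⟨φ⟩ => l3_forall p bs hxy hxz hyz φ, l3_exists p bs hxy hxz hyz⟩

end l3


section f3
variable {R : Type*} [CommRing R] (p : ℕ) [hp : Fact p.Prime] [CharP R p] (t : R)
variable {L : Type*} [LieRing L] [LieAlgebra R L] (bs : Module.Basis (Fin 3) R L)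

/-- matrix model of the algebra `[x,y] = z, [x,z] = t y, [y,z] = 0`. -/
def embF : (Fin 3 → R) →ₗ[R] Matrix (Fin 3) (Fin 3) R where
  toFun a := !![0, a 0 * t, a 1; a 0, 0, a 2; 0, 0, 0]
  map_add' a c := by ext i j; fin_cases i <;> fin_cases j <;> simp [add_mul]
  map_smul' r a := by ext i j; fin_cases i <;> fin_cases j <;> simp [mul_assoc]

lemma embF_apply (a : Fin 3 → R) : embF t a = !![0, a 0 * t, a 1; a 0, 0, a 2; 0, 0, 0] := rfl

lemma embF_injective : Function.Injective (embF t) := by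
  intro a c h
  have h0 := congrFun (congrFun h 1) 0
  have h1 := congrFun (congrFun h 0) 2
  have h2 := congrFun (congrFun h 1) 2
  simp [embF_apply] at h0 h1 h2
  funext i; fin_cases i <;> assumption

lemma embF_pow (a : Fin 3 → R) (j : ℕ) : (embF t a)^(2 * j + 1)
    = !![0, a 0^(2*j+1) * t^(j+1), a 0^(2*j) * t^j * a 1;
         a 0^(2*j+1) * t^j, 0, a 0^(2*j) * t^j * a 2; 0, 0, 0] := by
  induction j with
  | zero => simp [embF_apply]
  | succ j ih =>
    rw [show 2 * (j + 1) + 1 = (2 * j + 1) + 1 + 1 by ring, pow_succ, pow_succ, ih, embF_apply]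
    ext i k
    fin_cases i <;> fin_cases k <;> simp [Matrix.mul_apply, Fin.sum_univ_three] <;> ring

variable {t} in
theorem f3_exists (hp2 : p ≠ 2) (hxy : ⁅bs 0, bs 1⁆ = bs 2) (hxz : ⁅bs 0, bs 2⁆ = t • bs 1)
    (hyz : ⁅bs 1, bs 2⁆ = 0) :
    ∃ φ : PLie.PMap R p L, φ (bs 0) = t ^ ((p - 1) / 2) • bs 0 ∧ φ (bs 1) = 0 ∧ φ (bs 2) = 0 := by
  have hpos := hp.out.pos
  have hodd : p = 2 * ((p - 1) / 2) + 1 := by
    rcases hp.out.eq_two_or_odd with h | h
    · exact absurd h hp2
    · omega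
  set j := (p - 1) / 2 with hj
  have hψ : ∀ u : L, ((embF t) ∘ₗ bs.equivFun.toLinearMap)
      (bs.equivFun.symm ![bs.repr u 0 ^ p * t ^ j, bs.repr u 0 ^ (2 * j) * t ^ j * bs.repr u 1,
        bs.repr u 0 ^ (2 * j) * t ^ j * bs.repr u 2])
      = ((embF t) ∘ₗ bs.equivFun.toLinearMap) u ^ p := by
    intro u
    simp only [LinearMap.comp_apply, LinearEquiv.coe_coe, LinearEquiv.apply_symm_apply]
    have h := embF_pow t (bs.equivFun u) j
    rw [← hodd] at h
    rw [h, embF_apply]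
    simp only [Module.Basis.equivFun_apply]
    ext i k
    fin_cases i <;> fin_cases k <;> simp
    · rw [hodd]; ring
  have he : ∀ u v : L, ((embF t) ∘ₗ bs.equivFun.toLinearMap) ⁅u, v⁆
      = ((embF t) ∘ₗ bs.equivFun.toLinearMap) u * ((embF t) ∘ₗ bs.equivFun.toLinearMap) v
        - ((embF t) ∘ₗ bs.equivFun.toLinearMap) v * ((embF t) ∘ₗ bs.equivFun.toLinearMap) u := by
    intro u v
    rw [lie_coords bs u v, hxy, hxz, hyz]
    simp only [LinearMap.comp_apply, LinearEquiv.coe_coe, embF_apply, map_add, map_smul, smul_zero,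
      add_zero]
    ext i k
    fin_cases i <;> fin_cases k <;>
      simp [Matrix.mul_apply, Fin.sum_univ_three, Module.Basis.equivFun_apply] <;> ring
  refine ⟨ofAssoc p ((embF t) ∘ₗ bs.equivFun.toLinearMap)
    ((embF_injective t).comp bs.equivFun.injective) he _ hψ, ?_, ?_, ?_⟩
  · change bs.equivFun.symm _ = _
    apply bs.equivFun.injective
    rw [LinearEquiv.apply_symm_apply]
    funext i
    fin_cases i <;> simp [Module.Basis.equivFun_apply, Finsupp.single_apply]
  · change bs.equivFun.symm _ = _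
    apply bs.equivFun.injective
    rw [LinearEquiv.apply_symm_apply]
    have hp0 : p ≠ 0 := by omega
    have hj0 : 2 * j ≠ 0 := by
      intro h; rw [h] at hodd; exact hp.out.one_lt.ne' hodd
    funext i
    fin_cases i <;> simp [Module.Basis.equivFun_apply, Finsupp.single_apply, hp0, hj0]
  · change bs.equivFun.symm _ = _
    apply bs.equivFun.injective
    rw [LinearEquiv.apply_symm_apply]
    have hp0 : p ≠ 0 := by omega
    have hj0 : 2 * j ≠ 0 := by
      intro h; rw [h] at hodd; exact hp.out.one_lt.ne' hodd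
    funext i
    fin_cases i <;> simp [Module.Basis.equivFun_apply, Finsupp.single_apply, hp0, hj0]

end f3

end Groth.Agent.Helper8.PLie3
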