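import Mathlib
import Groth.Prelude.Def_PLie
import Groth.Agent.Helper8.PLieJac

namespace Groth.Agent.Helper8.PLieId

open Groth.Agent.Helper8.PLieJac
open scoped TensorProduct

attribute [local instance 100] LieRing.ofAssociativeRing

section assocId
variable {R : Type*} [CommRing R] (p : ℕ) [hp : Fact p.Prime] [CharP R p]
variable {𝔤 : Type*} [LieRing 𝔤] [LieAlgebra R 𝔤] {E : Type*} [Ring E] [Algebra R E]
variable (ρ : 𝔤 →ₗ[R] E) (hρ : ∀ x y : 𝔤, ρ ⁅x, y⁆ = ρ x * ρ y - ρ y * ρ x)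

include hρ in
lemma rho_jacobson (x₀ x₁ : 𝔤) :
    ρ (PLie.jacobson R p x₀ x₁) = ρ x₀ ^ p + ρ x₁ ^ p - (ρ x₀ + ρ x₁) ^ p := by
  rw [map_jacobson p ρ hρ, assoc_jacobson (R := R) p (ρ x₀) (ρ x₁)]
  abel

include hρ in
lemma rho_symm (x₀ x₁ : 𝔤) :
    ρ (PLie.jacobson R p x₀ x₁ - PLie.jacobson R p x₁ x₀) = 0 := by
  rw [map_sub, rho_jacobson p ρ hρ, rho_jacobson p ρ hρ, add_comm (ρ x₁) (ρ x₀)]
  abel

include hρ in
lemma rho_cocycle (x₀ x₁ x₂ : 𝔤) :
    ρ (PLie.jacobson R p x₀ x₁ + PLie.jacobson R p (x₀ + x₁) x₂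
      - PLie.jacobson R p x₁ x₂ - PLie.jacobson R p x₀ (x₁ + x₂)) = 0 := by
  rw [map_sub, map_sub, map_add, rho_jacobson p ρ hρ, rho_jacobson p ρ hρ, rho_jacobson p ρ hρ,
    rho_jacobson p ρ hρ, map_add, map_add, add_assoc (ρ x₀)]
  abel

end assocId

section deriv
variable {R : Type*} [CommRing R] {𝔤 : Type*} [LieRing 𝔤] [LieAlgebra R 𝔤]
variable (D : 𝔤 →ₗ[R] 𝔤)

/-- extension of the adjoint representation by a derivation. -/
def rhoD : 𝔤 →ₗ[R] Module.End R (𝔤 × R) where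
  toFun x :=
    { toFun := fun v => (⁅x, v.1⁆ - v.2 • D x, 0)
      map_add' := fun v w => by ext <;> simp [add_smul]; abel
      map_smul' := fun c v => by ext <;> simp [mul_smul, smul_sub] }
  map_add' x y := by ext v <;> simp [smul_add]; abel
  map_smul' c x := by ext v <;> simp [smul_sub, smul_comm c]

lemma rhoD_apply (x : 𝔤) (v : 𝔤 × R) : rhoD D x v = (⁅x, v.1⁆ - v.2 • D x, 0) := rfl

variable (hD : ∀ x y : 𝔤, D ⁅x, y⁆ = ⁅D x, y⁆ + ⁅x, D y⁆)

include hD in
lemma rhoD_lie (x y : 𝔤) : rhoD D ⁅x, y⁆ = rhoD D x * rhoD D y - rhoD D y * rhoD D x := by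
  refine LinearMap.ext fun v => Prod.ext ?_ ?_
  · simp only [rhoD_apply, LinearMap.sub_apply, Module.End.mul_apply, Prod.fst_sub, zero_smul,
      sub_zero, lie_sub, lie_smul, hD, smul_add]
    rw [← lie_skew y (D x), lie_lie]
    simp only [smul_neg]
    abel
  · simp [rhoD_apply]

lemma rhoD_eq_zero (x : 𝔤) (h : rhoD D x = 0) : D x = 0 := by
  have := congrArg Prod.fst (LinearMap.congr_fun h (0, 1))
  simpa [rhoD_apply] using this

end deriv


section derivId
variable {R : Type*} [CommRing R] (p : ℕ) [hp : Fact p.Prime] [CharP R p]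
variable {𝔤 : Type*} [LieRing 𝔤] [LieAlgebra R 𝔤]
variable (D : 𝔤 →ₗ[R] 𝔤) (hD : ∀ x y : 𝔤, D ⁅x, y⁆ = ⁅D x, y⁆ + ⁅x, D y⁆)

include hD in
lemma D_symm (x₀ x₁ : 𝔤) : D (PLie.jacobson R p x₀ x₁ - PLie.jacobson R p x₁ x₀) = 0 :=
  rhoD_eq_zero D _ (rho_symm p (rhoD D) (rhoD_lie D hD) x₀ x₁)

include hD in
lemma D_cocycle (x₀ x₁ x₂ : 𝔤) :
    D (PLie.jacobson R p x₀ x₁ + PLie.jacobson R p (x₀ + x₁) x₂
      - PLie.jacobson R p x₁ x₂ - PLie.jacobson R p x₀ (x₁ + x₂)) = 0 :=
  rhoD_eq_zero D _ (rho_cocycle p (rhoD D) (rhoD_lie D hD) x₀ x₁ x₂)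

end derivId

attribute [-instance] LieAlgebra.ExtendScalars.instBracketTensorProduct

section loop
variable (R : Type*) [CommRing R] (A : Type*) [AddCommMonoid A]
variable (L : Type*) [LieRing L] [LieAlgebra R L]

/-- the loop algebra -/
abbrev G := LieAlgebra.loopAlgebra R A L

variable {A L}

/-- generators `T^a ⊗ z` -/
noncomputable def gen (a : A) : L →ₗ[R] G R A L :=
  (TensorProduct.mk R (AddMonoidAlgebra R A) L) (AddMonoidAlgebra.single a (1 : R))

lemma gen_apply (a : A) (z : L) : gen R a z = AddMonoidAlgebra.single a (1 : R) ⊗ₜ[R] z := rfl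

lemma gen_lie (a b : A) (x y : L) : ⁅gen R a x, gen R b y⁆ = gen R (a + b) ⁅x, y⁆ := by
  rw [gen_apply, gen_apply, gen_apply]
  refine (LieAlgebra.ExtendScalars.bracket_tmul R (AddMonoidAlgebra R A) L L _ _ x y).trans ?_
  rw [AddMonoidAlgebra.single_mul_single, one_mul]

lemma toFinsupp_gen (a : A) (z : L) :
    LieAlgebra.LoopAlgebra.toFinsupp R A L (gen R a z) = Finsupp.single a z :=
  LieAlgebra.LoopAlgebra.toFinsupp_single_tmul R A L a z

lemma G_induction {P : G R A L → Prop} (h0 : P 0) (hgen : ∀ a z, P (gen R a z))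
    (hadd : ∀ X Y, P X → P Y → P (X + Y)) (X : G R A L) : P X := by
  have key : ∀ f : A →₀ L, P ((LieAlgebra.LoopAlgebra.toFinsupp R A L).symm f) := by
    intro f
    induction f using Finsupp.induction_linear with
    | zero => simpa using h0
    | add f g hf hg => rw [map_add]; exact hadd _ _ hf hg
    | single a z =>
      rw [LieAlgebra.LoopAlgebra.toFinsupp_symm_single]; exact hgen a z
  have := key (LieAlgebra.LoopAlgebra.toFinsupp R A L X)
  rwa [LinearEquiv.symm_apply_apply] at this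

/-- linear maps out of the loop algebra from a family of linear maps. -/
noncomputable def ofFamily {N : Type*} [AddCommGroup N] [Module R N] (g : A → (L →ₗ[R] N)) :
    G R A L →ₗ[R] N :=
  (Finsupp.lsum R g) ∘ₗ (LieAlgebra.LoopAlgebra.toFinsupp R A L).toLinearMap

lemma ofFamily_gen {N : Type*} [AddCommGroup N] [Module R N] (g : A → (L →ₗ[R] N)) (a : A)
    (z : L) : ofFamily R g (gen R a z) = g a z := by
  simp [ofFamily, toFinsupp_gen]

lemma ofFamily_apply {N : Type*} [AddCommGroup N] [Module R N] (g : A → (L →ₗ[R] N))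
    (X : G R A L) :
    ofFamily R g X = (LieAlgebra.LoopAlgebra.toFinsupp R A L X).sum fun a z => g a z := by
  simp [ofFamily, Finsupp.lsum_apply]

end loop


section ops
variable (R : Type*) [CommRing R] {A : Type*} [AddCommMonoid A]
variable {L : Type*} [LieRing L] [LieAlgebra R L]

/-- weight derivation -/
noncomputable def Dw (w : A → R) : G R A L →ₗ[R] G R A L := ofFamily R (fun a => w a • gen R a)

lemma Dw_gen (w : A → R) (a : A) (z : L) : Dw R w (gen R a z) = gen R a (w a • z) := by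
  rw [Dw, ofFamily_gen, map_smul]; rfl

lemma Dw_lie (w : A → R) (hw : ∀ a b, w (a + b) = w a + w b) (X Y : G R A L) :
    Dw R w ⁅X, Y⁆ = ⁅Dw R w X, Y⁆ + ⁅X, Dw R w Y⁆ := by
  induction X using G_induction with
  | h0 => simp
  | hadd X₁ X₂ h₁ h₂ => rw [add_lie, map_add, h₁, h₂, map_add, add_lie, add_lie]; abel
  | hgen a x =>
    induction Y using G_induction with
    | h0 => simp
    | hadd Y₁ Y₂ h₁ h₂ => rw [lie_add, map_add, h₁, h₂, map_add, lie_add, lie_add]; abel
    | hgen b y =>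
      rw [gen_lie, Dw_gen, Dw_gen, Dw_gen, gen_lie, gen_lie, smul_lie, lie_smul, hw, add_smul,
        map_add]

/-- evaluation -/
noncomputable def ev (c : A → R) : G R A L →ₗ[R] L :=
  ofFamily R (fun a => c a • (LinearMap.id : L →ₗ[R] L))

lemma ev_gen (c : A → R) (a : A) (z : L) : ev R c (gen R a z) = c a • z := by
  rw [ev, ofFamily_gen]; rfl

lemma ev_lie (c : A → R) (hc : ∀ a b, c (a + b) = c a * c b) (X Y : G R A L) :
    ev R c ⁅X, Y⁆ = ⁅ev R c X, ev R c Y⁆ := by
  induction X using G_induction with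
  | h0 => simp
  | hadd X₁ X₂ h₁ h₂ => rw [add_lie, map_add, h₁, h₂, map_add, add_lie]
  | hgen a x =>
    induction Y using G_induction with
    | h0 => simp
    | hadd Y₁ Y₂ h₁ h₂ => rw [lie_add, map_add, h₁, h₂, map_add, lie_add]
    | hgen b y =>
      rw [gen_lie, ev_gen, ev_gen, ev_gen, smul_lie, lie_smul, smul_smul, hc]

lemma ev_apply (c : A → R) (X : G R A L) :
    ev R c X = (LieAlgebra.LoopAlgebra.toFinsupp R A L X).sum fun a z => c a • z := by
  rw [ev, ofFamily_apply]; rfl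

/-- coefficient -/
noncomputable def coef (a : A) : G R A L →ₗ[R] L :=
  (Finsupp.lapply a) ∘ₗ (LieAlgebra.LoopAlgebra.toFinsupp R A L).toLinearMap

lemma coef_apply (a : A) (X : G R A L) :
    coef R a X = LieAlgebra.LoopAlgebra.toFinsupp R A L X a := rfl

lemma coef_gen_self (a : A) (z : L) : coef R a (gen R a z) = z := by
  rw [coef_apply, toFinsupp_gen, Finsupp.single_eq_same]

lemma coef_gen_ne (a b : A) (h : b ≠ a) (z : L) : coef R a (gen R b z) = 0 := by
  rw [coef_apply, toFinsupp_gen, Finsupp.single_eq_of_ne h.symm]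

lemma coef_Dw (w : A → R) (a : A) (X : G R A L) : coef R a (Dw R w X) = w a • coef R a X := by
  classical
  induction X using G_induction with
  | h0 => simp
  | hadd X₁ X₂ h₁ h₂ => rw [map_add, map_add, h₁, h₂, map_add, smul_add]
  | hgen b z =>
    rw [Dw_gen]
    by_cases h : b = a
    · rw [h, coef_gen_self, coef_gen_self]
    · rw [coef_gen_ne R a b h, coef_gen_ne R a b h, smul_zero]

lemma ext_coef (X : G R A L) (h : ∀ a, coef R a X = 0) : X = 0 := by
  apply (LieAlgebra.LoopAlgebra.toFinsupp R A L).injective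
  rw [map_zero]
  ext a
  exact h a

/-- graded pieces -/
noncomputable def Gd (deg : A → ℕ) (d : ℕ) : Submodule R (G R A L) :=
  Submodule.span R {X | ∃ a z, deg a = d ∧ X = gen R a z}

lemma gen_mem_Gd (deg : A → ℕ) {d : ℕ} {a : A} (h : deg a = d) (z : L) :
    gen R a z ∈ Gd R deg d := Submodule.subset_span ⟨a, z, h, rfl⟩

lemma lie_mem_Gd (deg : A → ℕ) (hdeg : ∀ a b, deg (a + b) = deg a + deg b) {d d' : ℕ}
    {X Y : G R A L} (hX : X ∈ Gd R deg d) (hY : Y ∈ Gd R deg d') : ⁅X, Y⁆ ∈ Gd R deg (d + d') := by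
  induction hX using Submodule.span_induction with
  | zero => simp
  | add X₁ X₂ _ _ h₁ h₂ => rw [add_lie]; exact Submodule.add_mem _ h₁ h₂
  | smul r X _ h =>
    have h2 : ⁅r • X, Y⁆ = r • ⁅X, Y⁆ := smul_lie r X Y
    rw [h2]; exact Submodule.smul_mem _ _ h
  | mem X hX =>
    obtain ⟨a, x, ha, rfl⟩ := hX
    induction hY using Submodule.span_induction with
    | zero => simp
    | add Y₁ Y₂ _ _ h₁ h₂ => rw [lie_add]; exact Submodule.add_mem _ h₁ h₂
    | smul r Y _ h =>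
      have h2 : ⁅gen R a x, r • Y⁆ = r • ⁅gen R a x, Y⁆ := lie_smul r _ Y
      rw [h2]; exact Submodule.smul_mem _ _ h
    | mem Y hY =>
      obtain ⟨b, y, hb, rfl⟩ := hY
      rw [gen_lie]
      exact gen_mem_Gd R deg (by rw [hdeg, ha, hb]) _

lemma coef_eq_zero_of_mem_Gd (deg : A → ℕ) {d : ℕ} {X : G R A L} (hX : X ∈ Gd R deg d) (a : A)
    (ha : deg a ≠ d) : coef R a X = 0 := by
  induction hX using Submodule.span_induction with
  | zero => simp
  | add X₁ X₂ _ _ h₁ h₂ => rw [map_add, h₁, h₂, add_zero]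
  | smul r X _ h => rw [map_smul, h, smul_zero]
  | mem X hX =>
    obtain ⟨b, x, hb, rfl⟩ := hX
    exact coef_gen_ne R a b (fun h => ha (h ▸ hb)) x

end ops


section homs
variable {R : Type*} [CommRing R] (p : ℕ) [CharP R p]
variable {L : Type*} [LieRing L] [LieAlgebra R L] {L' : Type*} [LieRing L'] [LieAlgebra R L']

omit [CharP R p] in
lemma map_bracketWord' (f : L →ₗ[R] L') (hf : ∀ x y : L, f ⁅x, y⁆ = ⁅f x, f y⁆)
    {ι : Type*} (x : ι → L) (w : L) (l : List ι) :
    f (PLie.bracketWord x w l) = PLie.bracketWord (fun i => f (x i)) (f w) l := by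
  induction l with
  | nil => rfl
  | cons i l ih => rw [PLie.bracketWord_cons, PLie.bracketWord_cons, hf, ih]

lemma map_jacobson' (f : L →ₗ[R] L') (hf : ∀ x y : L, f ⁅x, y⁆ = ⁅f x, f y⁆) (x₀ x₁ : L) :
    f (PLie.jacobson R p x₀ x₁) = PLie.jacobson R p (f x₀) (f x₁) := by
  unfold PLie.jacobson
  rw [map_sum]
  refine Finset.sum_congr rfl fun t _ => ?_
  rw [map_smul, map_bracketWord' f hf]
  congr 2
  funext i
  cases i <;> rfl

omit [CharP R p] [LieAlgebra R L] in
lemma bracketWord_zero {ι : Type*} (x : ι → L) (l : List ι) : PLie.bracketWord x 0 l = 0 := by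
  induction l with
  | nil => rfl
  | cons i l ih => rw [PLie.bracketWord_cons, ih, lie_zero]

omit [CharP R p] [LieAlgebra R L] in
lemma bracketWord_eq_zero_of_mem {ι : Type*} (x : ι → L) (w : L) (l : List ι) (i : ι)
    (hi : i ∈ l) (hx : x i = 0) : PLie.bracketWord x w l = 0 := by
  induction l with
  | nil => simp at hi
  | cons j l ih =>
    rw [PLie.bracketWord_cons]
    rcases List.mem_cons.mp hi with h | h
    · rw [← h, hx, zero_lie]
    · rw [ih h, lie_zero]

lemma jacobson_zero_right (x : L) : PLie.jacobson R p x 0 = 0 := by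
  unfold PLie.jacobson
  refine Finset.sum_eq_zero fun t _ => ?_
  rw [bracketWord_zero, smul_zero]

lemma jacobson_zero_left (x : L) : PLie.jacobson R p 0 x = 0 := by
  unfold PLie.jacobson
  refine Finset.sum_eq_zero fun t _ => ?_
  by_cases h : ∃ i, t i = false
  · obtain ⟨i, hi⟩ := h
    rw [bracketWord_eq_zero_of_mem _ _ _ false (by rw [List.mem_ofFn]; exact ⟨i, hi⟩) rfl,
      smul_zero]
  · have h0 : Fintype.card {i // t i = false} = 0 := by
      rw [Fintype.card_eq_zero_iff]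
      exact ⟨fun ⟨i, hi⟩ => h ⟨i, hi⟩⟩
    rw [h0, Nat.cast_zero, ZMod.inv_zero, map_zero, zero_smul]

end homs


section graded
variable (R : Type*) [CommRing R] {A : Type*} [AddCommMonoid A]
variable {L : Type*} [LieRing L] [LieAlgebra R L]

lemma bracketWord_mem_Gd (deg : A → ℕ) (hdeg : ∀ a b, deg (a + b) = deg a + deg b)
    {ι : Type*} (x : ι → G R A L) (hx : ∀ i, x i ∈ Gd R deg 1) (w : G R A L)
    (hw : w ∈ Gd R deg 1) (l : List ι) :
    PLie.bracketWord x w l ∈ Gd R deg (l.length + 1) := by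
  induction l with
  | nil => simpa using hw
  | cons i l ih =>
    rw [PLie.bracketWord_cons, List.length_cons, show l.length + 1 + 1 = 1 + (l.length + 1) by ring]
    exact lie_mem_Gd R deg hdeg (hx i) ih

lemma jacobson_mem_Gd (p : ℕ) [hp : Fact p.Prime] [CharP R p] (deg : A → ℕ)
    (hdeg : ∀ a b, deg (a + b) = deg a + deg b) (X₀ X₁ : G R A L)
    (h₀ : X₀ ∈ Gd R deg 1) (h₁ : X₁ ∈ Gd R deg 1) : PLie.jacobson R p X₀ X₁ ∈ Gd R deg p := by
  unfold PLie.jacobson
  refine Submodule.sum_mem _ fun t _ => Submodule.smul_mem _ _ ?_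
  have := bracketWord_mem_Gd R deg hdeg (PLie.pair X₀ X₁)
    (fun b => by cases b <;> simpa [PLie.pair]) X₁ h₁ (List.ofFn t)
  rwa [List.length_ofFn, show p - 1 + 1 = p by have := hp.out.pos; omega] at this

end graded

section vanish
variable (R : Type*) [CommRing R] (p : ℕ) [hp : Fact p.Prime] [CharP R p]
variable {L : Type*} [LieRing L] [LieAlgebra R L]

lemma isUnit_natCast_of_not_dvd (n : ℕ) (h : ¬ p ∣ n) : IsUnit ((n : ℕ) : R) := by
  have h0 : ((n : ℕ) : ZMod p) ≠ 0 := by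
    rwa [Ne, ZMod.natCast_eq_zero_iff]
  have : ((n : ℕ) : R) = (ZMod.castHom (dvd_refl p) R) ((n : ℕ) : ZMod p) := by rw [map_natCast]
  rw [this]
  exact (IsUnit.mk0 _ h0).map _

/-- the degree on `Fin 3 → ℕ` -/
def deg3 (a : Fin 3 → ℕ) : ℕ := a 0 + a 1 + a 2

lemma deg3_add (a b : Fin 3 → ℕ) : deg3 (a + b) = deg3 a + deg3 b := by
  simp [deg3]; ring

/-- evaluation weights at the `k`-th unit vector -/
def ck (k : Fin 3) (a : Fin 3 → ℕ) : R := if ∀ i, i ≠ k → a i = 0 then 1 else 0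

lemma ck_add (k : Fin 3) (a b : Fin 3 → ℕ) : ck R k (a + b) = ck R k a * ck R k b := by
  unfold ck
  by_cases ha : ∀ i, i ≠ k → a i = 0
  · by_cases hb : ∀ i, i ≠ k → b i = 0
    · rw [if_pos ha, if_pos hb, if_pos (fun i hi => by simp [ha i hi, hb i hi]), one_mul]
    · rw [if_neg hb, if_neg, mul_zero]
      intro h
      exact hb fun i hi => by have := h i hi; simp at this; exact this.2
  · rw [if_neg ha, if_neg, zero_mul]
    intro h
    exact ha fun i hi => by have := h i hi; simp at this; exact this.1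

theorem vanish (V : G R (Fin 3 → ℕ) L) (hV : V ∈ Gd R deg3 p)
    (hD : ∀ k : Fin 3, Dw R (fun a : Fin 3 → ℕ => ((a k : ℕ) : R)) V = 0)
    (hev : ∀ k : Fin 3, ev R (ck R k) V = 0) : V = 0 := by
  classical
  have hpos := hp.out.pos
  apply ext_coef
  intro a
  by_cases h1 : deg3 a = p
  swap
  · exact coef_eq_zero_of_mem_Gd R deg3 hV a h1
  by_cases h2 : ∃ k, ¬ p ∣ a k
  · obtain ⟨k, hk⟩ := h2
    have := coef_Dw R (fun a : Fin 3 → ℕ => ((a k : ℕ) : R)) a V
    rw [hD k, map_zero] at this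
    have hu := isUnit_natCast_of_not_dvd R p (a k) hk
    exact (hu.smul_eq_zero).mp this.symm
  · push_neg at h2
    -- `a = p • δ_k`
    have hk : ∃ k : Fin 3, a k = p ∧ ∀ i, i ≠ k → a i = 0 := by
      obtain ⟨q0, h0⟩ := h2 0
      obtain ⟨q1, h1'⟩ := h2 1
      obtain ⟨q2, h2'⟩ := h2 2
      unfold deg3 at h1
      rw [h0, h1', h2'] at h1
      have hq : q0 + q1 + q2 = 1 := by
        have : p * (q0 + q1 + q2) = p * 1 := by rw [mul_one]; linarith
        exact Nat.eq_of_mul_eq_mul_left hpos this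
      have hcases : (q0 = 1 ∧ q1 = 0 ∧ q2 = 0) ∨ (q0 = 0 ∧ q1 = 1 ∧ q2 = 0) ∨
          (q0 = 0 ∧ q1 = 0 ∧ q2 = 1) := by omega
      rcases hcases with ⟨e0, e1, e2⟩ | ⟨e0, e1, e2⟩ | ⟨e0, e1, e2⟩
      · refine ⟨0, by rw [h0, e0, mul_one], fun i hi => ?_⟩
        fin_cases i
        · exact absurd rfl hi
        · simp [h1', e1]
        · simp [h2', e2]
      · refine ⟨1, by rw [h1', e1, mul_one], fun i hi => ?_⟩
        fin_cases i
        · simp [h0, e0]
        · exact absurd rfl hi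
        · simp [h2', e2]
      · refine ⟨2, by rw [h2', e2, mul_one], fun i hi => ?_⟩
        fin_cases i
        · simp [h0, e0]
        · simp [h1', e1]
        · exact absurd rfl hi
    obtain ⟨k, hak, hother⟩ := hk
    have hevk := hev k
    rw [ev_apply, Finsupp.sum] at hevk
    rw [coef_apply]
    by_cases hsupp : a ∈ (LieAlgebra.LoopAlgebra.toFinsupp R (Fin 3 → ℕ) L V).support
    swap
    · exact Finsupp.notMem_support_iff.mp hsupp
    rw [Finset.sum_eq_single_of_mem a hsupp] at hevk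
    · rwa [ck, if_pos hother, one_smul] at hevk
    · intro b _ hba
      by_cases hb : deg3 b = p
      · have : ck R k b = 0 := by
          rw [ck, if_neg]
          intro hbo
          apply hba
          funext i
          by_cases hi : i = k
          · rw [hi, hak]
            unfold deg3 at hb
            have e0 := hbo 0; have e1 := hbo 1; have e2 := hbo 2
            fin_cases k <;> simp at e0 e1 e2 ⊢ <;> omega
          · rw [hbo i hi, hother i hi]
        rw [this, zero_smul]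
      · have := coef_eq_zero_of_mem_Gd R deg3 hV b hb
        rw [coef_apply] at this
        rw [this, smul_zero]

end vanish


section final
variable {R : Type*} [CommRing R] (p : ℕ) [hp : Fact p.Prime] [CharP R p]
variable {L : Type*} [LieRing L] [LieAlgebra R L]

omit hp [CharP R p] in
lemma ck_single (k j : Fin 3) : ck R k (Pi.single j 1) = if j = k then 1 else 0 := by
  fin_cases k <;> fin_cases j <;> simp [ck, Fin.forall_fin_succ, Pi.single_apply]

omit hp [CharP R p] in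
lemma deg3_single (j : Fin 3) : deg3 (Pi.single j 1) = 1 := by
  fin_cases j <;> simp [deg3, Pi.single_apply]

theorem jacobson_symm (x₀ x₁ : L) : PLie.jacobson R p x₀ x₁ = PLie.jacobson R p x₁ x₀ := by
  set X₀ : G R (Fin 3 → ℕ) L := gen R (Pi.single 0 1) x₀ with hX₀
  set X₁ : G R (Fin 3 → ℕ) L := gen R (Pi.single 1 1) x₁ with hX₁
  have m₀ : X₀ ∈ Gd R deg3 1 := gen_mem_Gd R deg3 (deg3_single 0) _
  have m₁ : X₁ ∈ Gd R deg3 1 := gen_mem_Gd R deg3 (deg3_single 1) _
  have hV : PLie.jacobson R p X₀ X₁ - PLie.jacobson R p X₁ X₀ ∈ Gd R deg3 p :=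
    Submodule.sub_mem _ (jacobson_mem_Gd R p deg3 deg3_add _ _ m₀ m₁)
      (jacobson_mem_Gd R p deg3 deg3_add _ _ m₁ m₀)
  have hD : ∀ k : Fin 3, Dw R (fun a : Fin 3 → ℕ => ((a k : ℕ) : R))
      (PLie.jacobson R p X₀ X₁ - PLie.jacobson R p X₁ X₀) = 0 := fun k =>
    D_symm p _ (Dw_lie R _ (fun a b => by simp)) X₀ X₁
  have hev : ∀ k : Fin 3, ev R (ck R k)
      (PLie.jacobson R p X₀ X₁ - PLie.jacobson R p X₁ X₀) = 0 := by
    intro k
    rw [map_sub, map_jacobson' p _ (ev_lie R _ (ck_add R k)),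
      map_jacobson' p _ (ev_lie R _ (ck_add R k)), hX₀, hX₁, ev_gen, ev_gen, ck_single, ck_single]
    fin_cases k <;> simp [jacobson_zero_left, jacobson_zero_right]
  have hV0 := vanish R p _ hV hD hev
  have h1 := congrArg (ev R (fun _ => (1 : R))) hV0
  rw [map_zero, map_sub, map_jacobson' p _ (ev_lie R _ (fun _ _ => (one_mul 1).symm)),
    map_jacobson' p _ (ev_lie R _ (fun _ _ => (one_mul 1).symm)), hX₀, hX₁, ev_gen, ev_gen,
    one_smul, one_smul] at h1
  exact sub_eq_zero.mp h1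

theorem jacobson_cocycle (x₀ x₁ x₂ : L) :
    PLie.jacobson R p x₀ x₁ + PLie.jacobson R p (x₀ + x₁) x₂
      = PLie.jacobson R p x₁ x₂ + PLie.jacobson R p x₀ (x₁ + x₂) := by
  set X₀ : G R (Fin 3 → ℕ) L := gen R (Pi.single 0 1) x₀ with hX₀
  set X₁ : G R (Fin 3 → ℕ) L := gen R (Pi.single 1 1) x₁ with hX₁
  set X₂ : G R (Fin 3 → ℕ) L := gen R (Pi.single 2 1) x₂ with hX₂
  have m₀ : X₀ ∈ Gd R deg3 1 := gen_mem_Gd R deg3 (deg3_single 0) _
  have m₁ : X₁ ∈ Gd R deg3 1 := gen_mem_Gd R deg3 (deg3_single 1) _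
  have m₂ : X₂ ∈ Gd R deg3 1 := gen_mem_Gd R deg3 (deg3_single 2) _
  have hV : PLie.jacobson R p X₀ X₁ + PLie.jacobson R p (X₀ + X₁) X₂
      - PLie.jacobson R p X₁ X₂ - PLie.jacobson R p X₀ (X₁ + X₂) ∈ Gd R deg3 p :=
    Submodule.sub_mem _ (Submodule.sub_mem _ (Submodule.add_mem _
      (jacobson_mem_Gd R p deg3 deg3_add _ _ m₀ m₁)
      (jacobson_mem_Gd R p deg3 deg3_add _ _ (Submodule.add_mem _ m₀ m₁) m₂))
      (jacobson_mem_Gd R p deg3 deg3_add _ _ m₁ m₂))
      (jacobson_mem_Gd R p deg3 deg3_add _ _ m₀ (Submodule.add_mem _ m₁ m₂))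
  have hD : ∀ k : Fin 3, Dw R (fun a : Fin 3 → ℕ => ((a k : ℕ) : R))
      (PLie.jacobson R p X₀ X₁ + PLie.jacobson R p (X₀ + X₁) X₂
      - PLie.jacobson R p X₁ X₂ - PLie.jacobson R p X₀ (X₁ + X₂)) = 0 := fun k =>
    D_cocycle p _ (Dw_lie R _ (fun a b => by simp)) X₀ X₁ X₂
  have hev : ∀ k : Fin 3, ev R (ck R k)
      (PLie.jacobson R p X₀ X₁ + PLie.jacobson R p (X₀ + X₁) X₂
      - PLie.jacobson R p X₁ X₂ - PLie.jacobson R p X₀ (X₁ + X₂)) = 0 := by
    intro k
    simp only [map_sub, map_add, map_jacobson' p _ (ev_lie R _ (ck_add R k)), hX₀, hX₁, hX₂,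
      ev_gen, ck_single]
    fin_cases k <;> simp [jacobson_zero_left, jacobson_zero_right]
  have hV0 := vanish R p _ hV hD hev
  have h1 := congrArg (ev R (fun _ => (1 : R))) hV0
  have hj1 := fun X Y => map_jacobson' p
    (ev R (fun _ : Fin 3 → ℕ => (1 : R)) : G R (Fin 3 → ℕ) L →ₗ[R] L)
    (ev_lie R _ (fun _ _ => (one_mul (1 : R)).symm)) X Y
  simp only [map_zero, map_sub, map_add, hj1, hX₀, hX₁, hX₂, ev_gen, one_smul] at h1
  rw [sub_sub, sub_eq_zero] at h1
  exact h1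

end final

end Groth.Agent.Helper8.PLieId
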