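import Mathlib
import Groth.Prelude.Def_PLie
import Groth.Agent.Helper8.PLieJac
import Groth.Agent.Helper8.PLieId

namespace Groth.Agent.Helper8.PLieBasis

open Groth.Agent.Helper8.PLieJac Groth.Agent.Helper8.PLieId

section scaling
variable {R : Type*} [CommRing R] (p : ℕ) [hp : Fact p.Prime] [CharP R p]
variable {L : Type*} [LieRing L] [LieAlgebra R L]

omit hp [CharP R p] in
lemma bracketWord_smul (c : R) (x₀ x₁ : L) (l : List Bool) :
    PLie.bracketWord (PLie.pair (c • x₀) (c • x₁)) (c • x₁) l
      = c ^ (l.length + 1) • PLie.bracketWord (PLie.pair x₀ x₁) x₁ l := by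
  induction l with
  | nil => simp
  | cons b l ih =>
    rw [PLie.bracketWord_cons, PLie.bracketWord_cons, ih, List.length_cons, lie_smul]
    have : PLie.pair (c • x₀) (c • x₁) b = c • PLie.pair x₀ x₁ b := by cases b <;> rfl
    rw [this, smul_lie, smul_smul, ← pow_succ]

lemma jacobson_smul (c : R) (x₀ x₁ : L) :
    PLie.jacobson R p (c • x₀) (c • x₁) = c ^ p • PLie.jacobson R p x₀ x₁ := by
  have hpos := hp.out.pos
  unfold PLie.jacobson
  rw [Finset.smul_sum]
  refine Finset.sum_congr rfl fun t _ => ?_
  rw [bracketWord_smul, List.length_ofFn, show p - 1 + 1 = p by omega, smul_comm]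

omit hp [CharP R p] in
lemma bracketWord_prop (x : L) (u : Bool → R) (d : R) (l : List Bool) (hl : l ≠ []) :
    PLie.bracketWord (fun b => u b • x) (d • x) l = 0 := by
  induction l with
  | nil => exact absurd rfl hl
  | cons b l ih =>
    rw [PLie.bracketWord_cons]
    by_cases h : l = []
    · subst h
      simp [smul_lie, lie_smul]
    · rw [ih h, lie_zero]

lemma jacobson_prop (c d : R) (x : L) : PLie.jacobson R p (c • x) (d • x) = 0 := by
  have h2 := hp.out.two_le
  unfold PLie.jacobson
  refine Finset.sum_eq_zero fun t _ => ?_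
  have : PLie.pair (c • x) (d • x) = fun b => (if b then d else c) • x := by
    funext b; cases b <;> rfl
  rw [this, bracketWord_prop, smul_zero]
  intro h
  have := congrArg List.length h
  rw [List.length_ofFn] at this
  simp at this
  omega

end scaling


/-- the extension of `L` by its Frobenius twist defined by Jacobson's cocycle. -/
def Ext (_R : Type*) (_p : ℕ) (L : Type*) : Type _ := L × L

section ext
variable {R : Type*} [CommRing R] {p : ℕ} [hp : Fact p.Prime] [CharP R p]
variable {L : Type*} [LieRing L] [LieAlgebra R L]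

/-- constructor -/
def Ext.mk (x u : L) : Ext R p L := (x, u)
/-- first projection -/
def Ext.fst (a : Ext R p L) : L := Prod.fst a
/-- second projection -/
def Ext.snd (a : Ext R p L) : L := Prod.snd a

omit hp [CharP R p] in
@[ext] lemma Ext.ext' {a b : Ext R p L} (h1 : a.fst = b.fst) (h2 : a.snd = b.snd) : a = b :=
  Prod.ext h1 h2

noncomputable instance : Add (Ext R p L) :=
  ⟨fun a b => Ext.mk (a.fst + b.fst) (a.snd + b.snd - PLie.jacobson R p a.fst b.fst)⟩
instance : Zero (Ext R p L) := ⟨Ext.mk 0 0⟩
instance : Neg (Ext R p L) := ⟨fun a => Ext.mk (-a.fst) (-a.snd)⟩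
instance : SMul R (Ext R p L) := ⟨fun c a => Ext.mk (c • a.fst) (c ^ p • a.snd)⟩

omit hp in
@[simp] lemma Ext.add_fst (a b : Ext R p L) : (a + b).fst = a.fst + b.fst := rfl
omit hp in
@[simp] lemma Ext.add_snd (a b : Ext R p L) :
    (a + b).snd = a.snd + b.snd - PLie.jacobson R p a.fst b.fst := rfl
omit hp [CharP R p] in
@[simp] lemma Ext.zero_fst : (0 : Ext R p L).fst = 0 := rfl
omit hp [CharP R p] in
@[simp] lemma Ext.zero_snd : (0 : Ext R p L).snd = 0 := rfl
omit hp [CharP R p] in
@[simp] lemma Ext.neg_fst (a : Ext R p L) : (-a).fst = -a.fst := rfl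
omit hp [CharP R p] in
@[simp] lemma Ext.neg_snd (a : Ext R p L) : (-a).snd = -a.snd := rfl
omit hp [CharP R p] in
@[simp] lemma Ext.smul_fst (c : R) (a : Ext R p L) : (c • a).fst = c • a.fst := rfl
omit hp [CharP R p] in
@[simp] lemma Ext.smul_snd (c : R) (a : Ext R p L) : (c • a).snd = c ^ p • a.snd := rfl

noncomputable instance : AddCommGroup (Ext R p L) :=
  { AddGroup.ofLeftAxioms
      (fun a b c => by
        ext
        · simp [add_assoc]
        · simp only [Ext.add_snd, Ext.add_fst]
          have := jacobson_cocycle (R := R) p a.fst b.fst c.fst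
          rw [sub_add_eq_add_sub, sub_sub, this]
          abel)
      (fun a => by
        ext
        · simp
        · simp [jacobson_zero_left])
      (fun a => by
        ext
        · simp
        · simp only [Ext.add_snd, Ext.neg_snd, Ext.neg_fst, Ext.zero_snd]
          have := jacobson_prop (R := R) p (-1) 1 a.fst
          rw [neg_one_smul, one_smul] at this
          rw [this]; abel) with
    add_comm := fun a b => by
      ext
      · simp [add_comm]
      · simp only [Ext.add_snd]
        rw [jacobson_symm (R := R) p a.fst b.fst, add_comm] }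

noncomputable instance : Module R (Ext R p L) where
  one_smul a := by ext <;> simp
  mul_smul c d a := by ext <;> simp [mul_smul, mul_pow]
  smul_zero c := by ext <;> simp
  smul_add c a b := by
    ext
    · simp
    · simp [jacobson_smul, smul_sub]
  add_smul c d a := by
    ext
    · simp [add_smul]
    · simp [jacobson_prop, add_pow_char, add_smul]
  zero_smul a := by
    ext
    · simp
    · simp [hp.out.ne_zero]

/-- projection as a linear map -/
noncomputable def Ext.fstL : Ext R p L →ₗ[R] L where
  toFun := Ext.fst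
  map_add' _ _ := rfl
  map_smul' _ _ := rfl

end ext


section main
variable {R : Type*} [CommRing R] (p : ℕ) [hp : Fact p.Prime] [CharP R p]
variable {L : Type*} [LieRing L] [LieAlgebra R L] {ι : Type*} (b : Module.Basis ι R L) (y : ι → L)

attribute [local instance 100] LieRing.ofAssociativeRing

/-- the linear section of `Ext → L` determined by the `y i`. -/
noncomputable def sec : L →ₗ[R] Ext R p L := b.constr R (fun i => (Ext.mk (b i) (y i) : Ext R p L))

lemma sec_basis (i : ι) : sec p b y (b i) = Ext.mk (b i) (y i) := by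
  rw [sec, Module.Basis.constr_basis]

lemma sec_fst (x : L) : (sec p b y x).fst = x := by
  have : (Ext.fstL (R := R) (p := p) (L := L)) ∘ₗ sec p b y = LinearMap.id := by
    apply b.ext
    intro i
    rw [LinearMap.comp_apply, sec_basis]
    rfl
  exact LinearMap.congr_fun this x

/-- the `p`-map -/
noncomputable def phi (x : L) : L := (sec p b y x).snd

lemma phi_basis (i : ι) : phi p b y (b i) = y i := by
  rw [phi, sec_basis]; rfl

lemma phi_add (x₀ x₁ : L) :
    phi p b y (x₀ + x₁) = phi p b y x₀ + phi p b y x₁ - PLie.jacobson R p x₀ x₁ := by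
  rw [phi, map_add, Ext.add_snd, sec_fst, sec_fst]; rfl

lemma phi_smul (c : R) (x : L) : phi p b y (c • x) = c ^ p • phi p b y x := by
  rw [phi, map_smul, Ext.smul_snd]; rfl

lemma ad_lie' (x z : L) : (LieAlgebra.ad R L).toLinearMap ⁅x, z⁆
    = (LieAlgebra.ad R L).toLinearMap x * (LieAlgebra.ad R L).toLinearMap z
      - (LieAlgebra.ad R L).toLinearMap z * (LieAlgebra.ad R L).toLinearMap x := by
  simp only [LieHom.coe_toLinearMap, LieHom.map_lie, Ring.lie_def]

lemma ad_add_pow (x₀ x₁ : L) :
    (LieAlgebra.ad R L (x₀ + x₁)) ^ p = LieAlgebra.ad R L x₀ ^ p + LieAlgebra.ad R L x₁ ^ p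
      - LieAlgebra.ad R L (PLie.jacobson R p x₀ x₁) := by
  have h := map_jacobson p (LieAlgebra.ad R L).toLinearMap ad_lie' x₀ x₁
  simp only [LieHom.coe_toLinearMap] at h
  rw [h, map_add, assoc_jacobson (R := R) p]

lemma phi_ad (hy : ∀ i : ι, LieAlgebra.ad R L (b i) ^ p = LieAlgebra.ad R L (y i)) (x : L) :
    LieAlgebra.ad R L (phi p b y x) = LieAlgebra.ad R L x ^ p := by
  have hx : x ∈ Submodule.span R (Set.range b) := by rw [b.span_eq]; trivial
  induction hx using Submodule.span_induction with
  | mem x hx =>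
    obtain ⟨i, rfl⟩ := hx
    rw [phi_basis, hy]
  | zero =>
    have : phi p b y 0 = 0 := by
      have := phi_smul p b y 0 0
      rwa [zero_smul, zero_pow hp.out.ne_zero, zero_smul] at this
    rw [this, map_zero, zero_pow hp.out.ne_zero]
  | add x₀ x₁ _ _ h₀ h₁ =>
    rw [phi_add, map_sub, map_add, h₀, h₁, ad_add_pow]
  | smul c x _ h =>
    rw [phi_smul, map_smul, h, map_smul, _root_.smul_pow]

/-- the `p`-map as a `PMap`. -/
noncomputable def pmap (hy : ∀ i : ι, LieAlgebra.ad R L (b i) ^ p = LieAlgebra.ad R L (y i)) :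
    PLie.PMap R p L where
  toFun := phi p b y
  map_smul := phi_smul p b y
  ad_map := phi_ad p b y hy
  map_add := phi_add p b y

omit hp in
lemma PMap_ext (φ ψ : PLie.PMap R p L) (h : ∀ x, φ x = ψ x) : φ = ψ := by
  cases φ; cases ψ; congr; funext x; exact h x

theorem main (hy : ∀ i : ι, LieAlgebra.ad R L (b i) ^ p = LieAlgebra.ad R L (y i)) :
    ∃! φ : PLie.PMap R p L, ∀ i : ι, φ (b i) = y i := by
  refine ⟨pmap p b y hy, fun i => phi_basis p b y i, fun ψ hψ => ?_⟩
  apply PMap_ext
  intro x
  have hx : x ∈ Submodule.span R (Set.range b) := by rw [b.span_eq]; trivial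
  induction hx using Submodule.span_induction with
  | mem x hx =>
    obtain ⟨i, rfl⟩ := hx
    rw [hψ]; exact (phi_basis p b y i).symm
  | zero =>
    have h1 := ψ.map_smul 0 0
    have h2 := (pmap p b y hy).map_smul 0 0
    rw [zero_smul, zero_pow hp.out.ne_zero, zero_smul] at h1 h2
    exact h1.trans h2.symm
  | add x₀ x₁ _ _ h₀ h₁ =>
    have h1 := ψ.map_add x₀ x₁
    have h2 := (pmap p b y hy).map_add x₀ x₁
    change ψ.toFun _ = (pmap p b y hy).toFun _
    rw [h1, h2]
    change ψ x₀ + ψ x₁ - _ = (pmap p b y hy) x₀ + (pmap p b y hy) x₁ - _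
    rw [h₀, h₁]
  | smul c x _ h =>
    have h1 := ψ.map_smul c x
    have h2 := (pmap p b y hy).map_smul c x
    change ψ.toFun _ = (pmap p b y hy).toFun _
    rw [h1, h2]
    change _ • ψ x = _ • (pmap p b y hy) x
    rw [h]

end main

end Groth.Agent.Helper8.PLieBasis
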