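import Mathlib
import Groth.Prelude.Def_PLie
import Groth.Agent.Helper8.PLie3

namespace Groth.Agent.Helper8.PLieFrame

open Groth.Agent.Helper8.PLie3

section frame
variable {S : Type*} [CommRing S] {L : Type*} [LieRing L] [LieAlgebra S L]
variable (bs : Module.Basis (Fin 3) S L)

/-- vector from coordinates -/
noncomputable def vec (α β γ : S) : L := α • bs 0 + β • bs 1 + γ • bs 2

lemma repr_vec0 (α β γ : S) : bs.repr (vec bs α β γ) 0 = α := by
  simp [vec]
lemma repr_vec1 (α β γ : S) : bs.repr (vec bs α β γ) 1 = β := by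
  simp [vec]
lemma repr_vec2 (α β γ : S) : bs.repr (vec bs α β γ) 2 = γ := by
  simp [vec]

lemma vec_inj {α β γ α' β' γ' : S} (h : vec bs α β γ = vec bs α' β' γ') :
    α = α' ∧ β = β' ∧ γ = γ' := by
  refine ⟨?_, ?_, ?_⟩
  · have := congrArg (fun w => bs.repr w 0) h
    simpa [repr_vec0] using this
  · have := congrArg (fun w => bs.repr w 1) h
    simpa [repr_vec1] using this
  · have := congrArg (fun w => bs.repr w 2) h
    simpa [repr_vec2] using this

lemma vec_congr {α β γ α' β' γ' : S} (h0 : α = α') (h1 : β = β') (h2 : γ = γ') :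
    vec bs α β γ = vec bs α' β' γ' := by rw [h0, h1, h2]

lemma bs0_eq : bs 0 = vec bs 1 0 0 := by simp [vec]
lemma bs1_eq : bs 1 = vec bs 0 1 0 := by simp [vec]
lemma bs2_eq : bs 2 = vec bs 0 0 1 := by simp [vec]

lemma vec_eq_self (w : L) : w = vec bs (bs.repr w 0) (bs.repr w 1) (bs.repr w 2) := by
  conv_lhs => rw [← bs.sum_repr w, Fin.sum_univ_three]
  rfl

lemma smul_vec (r α β γ : S) : r • vec bs α β γ = vec bs (r * α) (r * β) (r * γ) := by
  simp [vec, smul_add, mul_smul]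

lemma vec_zero : vec bs 0 0 0 = 0 := by simp [vec]

lemma lie_vec {A1 A2 A3 D1 D2 D3 G1 G2 G3 : S} (hxy : ⁅bs 0, bs 1⁆ = vec bs A1 A2 A3)
    (hxz : ⁅bs 0, bs 2⁆ = vec bs D1 D2 D3) (hyz : ⁅bs 1, bs 2⁆ = vec bs G1 G2 G3)
    (α β γ α' β' γ' : S) :
    ⁅vec bs α β γ, vec bs α' β' γ'⁆ = vec bs
      ((α * β' - β * α') * A1 + (α * γ' - γ * α') * D1 + (β * γ' - γ * β') * G1)
      ((α * β' - β * α') * A2 + (α * γ' - γ * α') * D2 + (β * γ' - γ * β') * G2)
      ((α * β' - β * α') * A3 + (α * γ' - γ * α') * D3 + (β * γ' - γ * β') * G3) := by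
  rw [lie_coords bs, hxy, hxz, hyz]
  simp only [repr_vec0, repr_vec1, repr_vec2]
  unfold vec
  module

lemma ext_basis {f g : L →ₗ[S] L} (h0 : f (bs 0) = g (bs 0)) (h1 : f (bs 1) = g (bs 1))
    (h2 : f (bs 2) = g (bs 2)) : f = g := by
  apply bs.ext
  intro i
  fin_cases i
  · exact h0
  · exact h1
  · exact h2

end frame

end Groth.Agent.Helper8.PLieFrame
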