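import Mathlib
import Groth.Prelude.Def_PLie
import Groth.Agent.Helper8.PLieFrame
import Groth.Agent.Helper8.PLieBasis

namespace Groth.Agent.Helper8.PLieL3def

open Groth.Agent.Helper8.PLieFrame Groth.Agent.Helper8.PLie3

section abstract
variable {S : Type*} [CommRing S] {L : Type*} [LieRing L] [LieAlgebra S L]
variable (bs : Module.Basis (Fin 3) S L)
variable {ε a b c d e f g h i T : S} (hε : ε * ε = 0)
variable (hxy : ⁅bs 0, bs 1⁆ = vec bs (a * ε) (1 + b * ε) (c * ε))
variable (hxz : ⁅bs 0, bs 2⁆ = vec bs (d * ε) (e * ε) (T + f * ε))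
variable (hyz : ⁅bs 1, bs 2⁆ = vec bs (g * ε) (h * ε) (i * ε))

include hε hxy hxz hyz

lemma adx_pow_y (n : ℕ) : (LieAlgebra.ad S L (bs 0) ^ (n + 1)) (bs 1)
    = vec bs (a * ε) (1 + (n + 1) * b * ε) ((∑ j ∈ Finset.range (n + 1), T ^ j) * c * ε) := by
  induction n with
  | zero =>
    simp only [zero_add, pow_one, LieAlgebra.ad_apply, hxy, Finset.range_one, Finset.sum_singleton,
      pow_zero, Nat.cast_zero]
    exact vec_congr bs rfl (by ring) (by ring)
  | succ n ih =>
    rw [pow_succ', Module.End.mul_apply, ih, LieAlgebra.ad_apply, bs0_eq bs,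
      lie_vec bs hxy hxz hyz, geom_sum_succ (n := n + 1)]
    refine vec_congr bs ?_ ?_ ?_
    · grind
    · push_cast; grind
    · grind

lemma adx_pow_z (n : ℕ) : (LieAlgebra.ad S L (bs 0) ^ (n + 1)) (bs 2)
    = vec bs (d * ε * T ^ n) (e * ε * ∑ j ∈ Finset.range (n + 1), T ^ j)
        (T ^ (n + 1) + (n + 1) * f * ε * T ^ n) := by
  induction n with
  | zero =>
    simp only [zero_add, pow_one, LieAlgebra.ad_apply, hxz, Finset.range_one, Finset.sum_singleton,
      pow_zero, Nat.cast_zero]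
    exact vec_congr bs (by ring) (by ring) (by ring)
  | succ n ih =>
    rw [pow_succ', Module.End.mul_apply, ih, LieAlgebra.ad_apply, bs0_eq bs,
      lie_vec bs hxy hxz hyz, Finset.sum_range_succ _ (n + 1)]
    refine vec_congr bs ?_ ?_ ?_
    · grind
    · grind
    · push_cast; grind


omit hε hxy hxz hyz in
lemma adx_x : (LieAlgebra.ad S L (bs 0)) (bs 0) = 0 := by simp

lemma adx_pow_x (n : ℕ) : (LieAlgebra.ad S L (bs 0) ^ (n + 1)) (bs 0) = 0 := by
  rw [pow_succ, Module.End.mul_apply, adx_x, map_zero]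

lemma ady_sq_x : (LieAlgebra.ad S L (bs 1) ^ 2) (bs 0) = vec bs 0 (a * ε) 0 := by
  rw [pow_two, Module.End.mul_apply, LieAlgebra.ad_apply, LieAlgebra.ad_apply]
  conv_lhs => rw [bs1_eq bs, bs0_eq bs, lie_vec bs hxy hxz hyz, lie_vec bs hxy hxz hyz]
  refine vec_congr bs ?_ ?_ ?_ <;> grind

lemma ady_sq_y : (LieAlgebra.ad S L (bs 1) ^ 2) (bs 1) = 0 := by
  rw [pow_two, Module.End.mul_apply, LieAlgebra.ad_apply, LieAlgebra.ad_apply, lie_self, lie_zero]

lemma ady_sq_z : (LieAlgebra.ad S L (bs 1) ^ 2) (bs 2) = vec bs 0 (-(g * ε)) 0 := by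
  rw [pow_two, Module.End.mul_apply, LieAlgebra.ad_apply, LieAlgebra.ad_apply]
  conv_lhs => rw [bs1_eq bs, bs2_eq bs, lie_vec bs hxy hxz hyz, lie_vec bs hxy hxz hyz]
  refine vec_congr bs ?_ ?_ ?_ <;> grind

lemma ady_cube : LieAlgebra.ad S L (bs 1) ^ 3 = 0 := by
  have h3 : ∀ v : L, (LieAlgebra.ad S L (bs 1) ^ 3) v = (LieAlgebra.ad S L (bs 1))
      ((LieAlgebra.ad S L (bs 1) ^ 2) v) := fun v => by
    rw [pow_succ' _ 2, Module.End.mul_apply]
  apply ext_basis bs
  · rw [h3, ady_sq_x bs hε hxy hxz hyz, LinearMap.zero_apply, LieAlgebra.ad_apply]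
    conv_lhs => rw [bs1_eq bs, lie_vec bs hxy hxz hyz]
    rw [← vec_zero bs]
    refine vec_congr bs ?_ ?_ ?_ <;> ring
  · rw [h3, ady_sq_y bs hε hxy hxz hyz, map_zero, LinearMap.zero_apply]
  · rw [h3, ady_sq_z bs hε hxy hxz hyz, LinearMap.zero_apply, LieAlgebra.ad_apply]
    conv_lhs => rw [bs1_eq bs, lie_vec bs hxy hxz hyz]
    rw [← vec_zero bs]
    refine vec_congr bs ?_ ?_ ?_ <;> ring

lemma adz_sq_x : (LieAlgebra.ad S L (bs 2) ^ 2) (bs 0) = vec bs 0 0 (d * ε * T) := by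
  rw [pow_two, Module.End.mul_apply, LieAlgebra.ad_apply, LieAlgebra.ad_apply]
  conv_lhs => rw [bs2_eq bs, bs0_eq bs, lie_vec bs hxy hxz hyz, lie_vec bs hxy hxz hyz]
  refine vec_congr bs ?_ ?_ ?_ <;> grind

lemma adz_sq_y : (LieAlgebra.ad S L (bs 2) ^ 2) (bs 1) = vec bs 0 0 (g * ε * T) := by
  rw [pow_two, Module.End.mul_apply, LieAlgebra.ad_apply, LieAlgebra.ad_apply]
  conv_lhs => rw [bs2_eq bs, bs1_eq bs, lie_vec bs hxy hxz hyz, lie_vec bs hxy hxz hyz]
  refine vec_congr bs ?_ ?_ ?_ <;> grind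

lemma adz_sq_z : (LieAlgebra.ad S L (bs 2) ^ 2) (bs 2) = 0 := by
  rw [pow_two, Module.End.mul_apply, LieAlgebra.ad_apply, LieAlgebra.ad_apply, lie_self, lie_zero]

lemma adz_cube : LieAlgebra.ad S L (bs 2) ^ 3 = 0 := by
  have h3 : ∀ v : L, (LieAlgebra.ad S L (bs 2) ^ 3) v = (LieAlgebra.ad S L (bs 2))
      ((LieAlgebra.ad S L (bs 2) ^ 2) v) := fun v => by
    rw [pow_succ' _ 2, Module.End.mul_apply]
  apply ext_basis bs
  · rw [h3, adz_sq_x bs hε hxy hxz hyz, LinearMap.zero_apply, LieAlgebra.ad_apply]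
    conv_lhs => rw [bs2_eq bs, lie_vec bs hxy hxz hyz]
    rw [← vec_zero bs]
    refine vec_congr bs ?_ ?_ ?_ <;> ring
  · rw [h3, adz_sq_y bs hε hxy hxz hyz, LinearMap.zero_apply, LieAlgebra.ad_apply]
    conv_lhs => rw [bs2_eq bs, lie_vec bs hxy hxz hyz]
    rw [← vec_zero bs]
    refine vec_congr bs ?_ ?_ ?_ <;> ring
  · rw [h3, adz_sq_z bs hε hxy hxz hyz, map_zero, LinearMap.zero_apply]

/-- Jacobi identity consequence: `d ε = T h ε`. -/
lemma jacobi_d : d * ε = T * h * ε := by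
  have := leibniz_lie (bs 0) (bs 1) (bs 2)
  rw [hyz, hxy, hxz] at this
  conv_lhs at this => rw [bs0_eq bs, lie_vec bs hxy hxz hyz]
  conv_rhs at this =>
    rw [bs2_eq bs, bs1_eq bs, lie_vec bs hxy hxz hyz, lie_vec bs hxy hxz hyz]
  have h1 := congrArg (fun w => bs.repr w 1) this
  simp only [map_add, Finsupp.coe_add, Pi.add_apply, repr_vec1] at h1
  grind


theorem exists_pmap (p : ℕ) [hp : Fact p.Prime] [CharP S p] (hT : T ^ p = T)
    (hf : f * ε = b * ε * T)
    (hc : (∑ j ∈ Finset.range p, T ^ j) * c * ε = c * ε)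
    (he : e * ε * (∑ j ∈ Finset.range p, T ^ j) = e * ε)
    (hg : p = 2 → g * ε = 0) : Nonempty (PLie.PMap S p L) := by
  have hpos := hp.out.pos
  have hp1 : ((p - 1 : ℕ) : S) + 1 = 0 := by
    rw [← Nat.cast_succ, Nat.succ_eq_add_one, Nat.sub_add_cancel hpos, CharP.cast_eq_zero]
  have hpp : p - 1 + 1 = p := Nat.sub_add_cancel hpos
  have hd := jacobi_d bs hε hxy hxz hyz
  obtain ⟨φ, -, -⟩ := PLieBasis.main p bs
    ![vec bs (1 - b * ε) 0 0, if p = 2 then vec bs 0 (-(a * ε)) 0 else 0,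
      if p = 2 then vec bs 0 0 (-(d * ε)) else 0] (by
    intro i
    fin_cases i
    · -- x
      simp only [Fin.zero_eta, Matrix.cons_val_zero]
      apply ext_basis bs
      · have := adx_pow_x bs hε hxy hxz hyz (p - 1)
        rw [hpp] at this
        rw [this, LieAlgebra.ad_apply]
        conv_rhs => rw [bs0_eq bs, lie_vec bs hxy hxz hyz]
        rw [← vec_zero bs]
        refine vec_congr bs ?_ ?_ ?_ <;> ring
      · have := adx_pow_y bs hε hxy hxz hyz (p - 1)
        rw [hpp] at this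
        rw [this, LieAlgebra.ad_apply]
        conv_rhs => rw [bs1_eq bs, lie_vec bs hxy hxz hyz]
        refine vec_congr bs ?_ ?_ ?_
        · grind
        · rw [hp1]; grind
        · rw [hc]; grind
      · have := adx_pow_z bs hε hxy hxz hyz (p - 1)
        rw [hpp] at this
        rw [this, LieAlgebra.ad_apply]
        conv_rhs => rw [bs2_eq bs, lie_vec bs hxy hxz hyz]
        have hTp : T * T ^ (p - 1) = T := by rw [← pow_succ', hpp, hT]
        refine vec_congr bs ?_ ?_ ?_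
        · rw [hd]
          have : T * h * ε * T ^ (p - 1) = (T * T ^ (p - 1)) * h * ε := by ring
          rw [this, hTp]; grind
        · rw [he]; grind
        · rw [hp1, hT]; grind
    · -- y
      simp only [Fin.mk_one, Matrix.cons_val_one, Matrix.cons_val_zero]
      by_cases h2 : p = 2
      · rw [if_pos h2]
        have hg' := hg h2
        subst h2
        apply ext_basis bs
        · rw [ady_sq_x bs hε hxy hxz hyz, LieAlgebra.ad_apply]
          conv_rhs => rw [bs0_eq bs, lie_vec bs hxy hxz hyz]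
          refine vec_congr bs ?_ ?_ ?_ <;> grind
        · rw [ady_sq_y bs hε hxy hxz hyz, LieAlgebra.ad_apply]
          conv_rhs => rw [bs1_eq bs, lie_vec bs hxy hxz hyz]
          rw [← vec_zero bs]
          refine vec_congr bs ?_ ?_ ?_ <;> ring
        · rw [ady_sq_z bs hε hxy hxz hyz, LieAlgebra.ad_apply]
          conv_rhs => rw [bs2_eq bs, lie_vec bs hxy hxz hyz]
          refine vec_congr bs ?_ ?_ ?_ <;> grind
      · rw [if_neg h2, map_zero]
        have h3 : 3 ≤ p := by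
          have := hp.out.two_le; omega
        rw [show p = 3 + (p - 3) by omega, pow_add, ady_cube bs hε hxy hxz hyz, zero_mul]
    · -- z
      simp only [Fin.reduceFinMk, Matrix.cons_val_two, Matrix.tail_cons, Matrix.head_cons]
      by_cases h2 : p = 2
      · rw [if_pos h2]
        have hg' := hg h2
        subst h2
        apply ext_basis bs
        · rw [adz_sq_x bs hε hxy hxz hyz, LieAlgebra.ad_apply]
          conv_rhs => rw [bs0_eq bs, lie_vec bs hxy hxz hyz]
          refine vec_congr bs ?_ ?_ ?_ <;> grind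
        · rw [adz_sq_y bs hε hxy hxz hyz, LieAlgebra.ad_apply]
          conv_rhs => rw [bs1_eq bs, lie_vec bs hxy hxz hyz]
          refine vec_congr bs ?_ ?_ ?_ <;> grind
        · rw [adz_sq_z bs hε hxy hxz hyz, LieAlgebra.ad_apply]
          conv_rhs => rw [bs2_eq bs, lie_vec bs hxy hxz hyz]
          rw [← vec_zero bs]
          refine vec_congr bs ?_ ?_ ?_ <;> ring
      · rw [if_neg h2, map_zero]
        have h3 : 3 ≤ p := by
          have := hp.out.two_le; omega
        rw [show p = 3 + (p - 3) by omega, pow_add, adz_cube bs hε hxy hxz hyz, zero_mul])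
  exact ⟨φ⟩


theorem cond_of_pmap (p : ℕ) [hp : Fact p.Prime] [CharP S p] (hT : T ^ p = T)
    (φ : PLie.PMap S p L) :
    f * ε = b * ε * T ∧ (T = 1 → c * ε = 0 ∧ e * ε = 0) ∧ (p = 2 → g * ε = 0) := by
  have hpos := hp.out.pos
  have hp1 : ((p - 1 : ℕ) : S) + 1 = 0 := by
    rw [← Nat.cast_succ, Nat.succ_eq_add_one, Nat.sub_add_cancel hpos, CharP.cast_eq_zero]
  have hpp : p - 1 + 1 = p := Nat.sub_add_cancel hpos
  -- the element `φ x`
  have had := φ.ad_map (bs 0)
  obtain ⟨α, β, γ, hw⟩ : ∃ α β γ : S, φ.toFun (bs 0) = vec bs α β γ :=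
    ⟨_, _, _, vec_eq_self bs _⟩
  rw [hw] at had
  have e0 := LinearMap.congr_fun had (bs 0)
  have e1 := LinearMap.congr_fun had (bs 1)
  have e2 := LinearMap.congr_fun had (bs 2)
  have q0 := adx_pow_x bs hε hxy hxz hyz (p - 1)
  have q1 := adx_pow_y bs hε hxy hxz hyz (p - 1)
  have q2 := adx_pow_z bs hε hxy hxz hyz (p - 1)
  rw [hpp] at q0 q1 q2
  rw [q0, LieAlgebra.ad_apply] at e0
  rw [q1, LieAlgebra.ad_apply] at e1
  rw [q2, LieAlgebra.ad_apply] at e2
  conv_lhs at e0 => rw [bs0_eq bs, lie_vec bs hxy hxz hyz]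
  conv_lhs at e1 => rw [bs1_eq bs, lie_vec bs hxy hxz hyz]
  conv_lhs at e2 => rw [bs2_eq bs, lie_vec bs hxy hxz hyz]
  rw [← vec_zero bs] at e0
  obtain ⟨-, E3, E4⟩ := vec_inj bs e0
  obtain ⟨-, E1, E1z⟩ := vec_inj bs e1
  obtain ⟨-, E2y, E2⟩ := vec_inj bs e2
  rw [hp1] at E1 E2
  rw [hT] at E2
  have hαε : α * ε = ε := by grind
  have hβε : β * ε = 0 := by grind
  have hγTε : γ * T * ε = 0 := by grind
  refine ⟨by grind, ?_, ?_⟩
  · intro hT1
    have hσ : (∑ j ∈ Finset.range p, T ^ j) = 0 := by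
      rw [hT1]; simp [CharP.cast_eq_zero]
    rw [hσ] at E1z E2y
    rw [hT1] at hγTε
    constructor <;> grind
  · intro h2
    subst h2
    have had' := φ.ad_map (bs 1)
    obtain ⟨α', β', γ', hw'⟩ : ∃ α β γ : S, φ.toFun (bs 1) = vec bs α β γ :=
      ⟨_, _, _, vec_eq_self bs _⟩
    rw [hw'] at had'
    have f0 := LinearMap.congr_fun had' (bs 0)
    have f1 := LinearMap.congr_fun had' (bs 1)
    have f2 := LinearMap.congr_fun had' (bs 2)
    rw [ady_sq_x bs hε hxy hxz hyz, LieAlgebra.ad_apply] at f0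
    rw [ady_sq_y bs hε hxy hxz hyz, LieAlgebra.ad_apply] at f1
    rw [ady_sq_z bs hε hxy hxz hyz, LieAlgebra.ad_apply] at f2
    conv_lhs at f0 => rw [bs0_eq bs, lie_vec bs hxy hxz hyz]
    conv_lhs at f1 => rw [bs1_eq bs, lie_vec bs hxy hxz hyz]
    conv_lhs at f2 => rw [bs2_eq bs, lie_vec bs hxy hxz hyz]
    rw [← vec_zero bs] at f1
    obtain ⟨-, F2, -⟩ := vec_inj bs f0
    obtain ⟨-, F1, -⟩ := vec_inj bs f1
    obtain ⟨-, F3, -⟩ := vec_inj bs f2
    have hα'ε : α' * ε = 0 := by grind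
    have hβ'ε : β' * ε = 0 := by grind
    grind

end abstract


section dual
open DualNumber

variable {K : Type*} [Field K]

lemma am_mul_eps_eq_zero (k : K) (hk : algebraMap K (DualNumber K) k * ε = 0) : k = 0 := by
  have := congrArg TrivSqZeroExt.snd hk
  simpa [TrivSqZeroExt.algebraMap_eq_inl] using this

lemma smul_eps (k : K) : (k • ε : DualNumber K) = algebraMap K (DualNumber K) k * ε :=
  Algebra.smul_def k ε

theorem main (p : ℕ) [hp : Fact p.Prime] [CharP K p] [CharP (DualNumber K) p]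
    (t a b c d e f g h i : K) (ht : t ^ p = t)
    {L : Type*} [LieRing L] [LieAlgebra (DualNumber K) L]
    (bs : Module.Basis (Fin 3) (DualNumber K) L)
    (hxy : ⁅bs 0, bs 1⁆ = (a • ε : DualNumber K) • bs 0 + (1 + b • ε : DualNumber K) • bs 1
      + (c • ε : DualNumber K) • bs 2)
    (hxz : ⁅bs 0, bs 2⁆ = (d • ε : DualNumber K) • bs 0 + (e • ε : DualNumber K) • bs 1 +
      (algebraMap K (DualNumber K) t + f • ε) • bs 2)
    (hyz : ⁅bs 1, bs 2⁆ = (g • ε : DualNumber K) • bs 0 + (h • ε : DualNumber K) • bs 1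
      + (i • ε : DualNumber K) • bs 2) :
    Nonempty (PLie.PMap (DualNumber K) p L) ↔
      (b * t = f ∧ (t = 1 → c = 0 ∧ e = 0) ∧ (p = 2 → g = 0)) := by
  simp only [smul_eps] at hxy hxz hyz
  have hε : (ε : DualNumber K) * ε = 0 := DualNumber.eps_mul_eps
  have hT : (algebraMap K (DualNumber K) t) ^ p = algebraMap K (DualNumber K) t := by
    rw [← map_pow, ht]
  constructor
  · rintro ⟨φ⟩
    obtain ⟨h1, h2, h3⟩ := cond_of_pmap bs hε hxy hxz hyz p hT φ
    refine ⟨?_, ?_, ?_⟩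
    · have : algebraMap K (DualNumber K) (f - b * t) * ε = 0 := by
        rw [map_sub, map_mul]; linear_combination h1
      have := am_mul_eps_eq_zero _ this
      exact (sub_eq_zero.mp this).symm
    · intro ht1
      have := h2 (by rw [ht1, map_one])
      exact ⟨am_mul_eps_eq_zero _ this.1, am_mul_eps_eq_zero _ this.2⟩
    · intro hp2
      exact am_mul_eps_eq_zero _ (h3 hp2)
  · rintro ⟨h1, h2, h3⟩
    have hσ : t ≠ 1 → (∑ j ∈ Finset.range p, (algebraMap K (DualNumber K) t) ^ j) = 1 := by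
      intro ht1
      have hu : IsUnit (algebraMap K (DualNumber K) t - 1) := by
        have : algebraMap K (DualNumber K) t - 1 = algebraMap K (DualNumber K) (t - 1) := by
          rw [map_sub, map_one]
        rw [this]
        exact (IsUnit.mk0 _ (sub_ne_zero.mpr ht1)).map _
      have := geom_sum_mul (algebraMap K (DualNumber K) t) p
      rw [hT] at this
      apply hu.mul_left_injective
      simp only
      rw [this, one_mul]
    refine exists_pmap bs hε hxy hxz hyz p hT ?_ ?_ ?_ ?_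
    · rw [← h1, map_mul]; ring
    · by_cases ht1 : t = 1
      · rw [(h2 ht1).1, map_zero]; ring
      · rw [hσ ht1]; ring
    · by_cases ht1 : t = 1
      · rw [(h2 ht1).2, map_zero]; ring
      · rw [hσ ht1]; ring
    · intro hp2
      rw [h3 hp2, map_zero, zero_mul]

end dual

end Groth.Agent.Helper8.PLieL3def
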