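import Mathlib
import Groth.Prelude.Def_PLie
import Groth.Agent.Helper8.PLieFrame
import Groth.Agent.Helper8.PLieBasis
import Groth.Agent.Helper8.PLieL3def

namespace Groth.Agent.Helper8.PLieH3def

open Groth.Agent.Helper8.PLieFrame Groth.Agent.Helper8.PLie3

section abstract
variable {S : Type*} [CommRing S] {L : Type*} [LieRing L] [LieAlgebra S L]
variable (bs : Module.Basis (Fin 3) S L)
variable {ε a b c d e f g h i : S} (hε : ε * ε = 0)
variable (hxy : ⁅bs 0, bs 1⁆ = vec bs (a * ε) (b * ε) (c * ε))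
variable (hxz : ⁅bs 0, bs 2⁆ = vec bs (d * ε) (e * ε) (f * ε))
variable (hyz : ⁅bs 1, bs 2⁆ = vec bs (1 + g * ε) (h * ε) (i * ε))

include hε hxy hxz hyz

/-- value of `ad (bs k)` on a vector -/
lemma ad0_vec (α β γ : S) : LieAlgebra.ad S L (bs 0) (vec bs α β γ)
    = vec bs (β * (a * ε) + γ * (d * ε)) (β * (b * ε) + γ * (e * ε))
        (β * (c * ε) + γ * (f * ε)) := by
  rw [LieAlgebra.ad_apply]
  conv_lhs => rw [bs0_eq bs, lie_vec bs hxy hxz hyz]
  refine vec_congr bs ?_ ?_ ?_ <;> ring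

lemma ad1_vec (α β γ : S) : LieAlgebra.ad S L (bs 1) (vec bs α β γ)
    = vec bs (-α * (a * ε) + γ * (1 + g * ε)) (-α * (b * ε) + γ * (h * ε))
        (-α * (c * ε) + γ * (i * ε)) := by
  rw [LieAlgebra.ad_apply]
  conv_lhs => rw [bs1_eq bs, lie_vec bs hxy hxz hyz]
  refine vec_congr bs ?_ ?_ ?_ <;> ring

lemma ad2_vec (α β γ : S) : LieAlgebra.ad S L (bs 2) (vec bs α β γ)
    = vec bs (-α * (d * ε) - β * (1 + g * ε)) (-α * (e * ε) - β * (h * ε))
        (-α * (f * ε) - β * (i * ε)) := by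
  rw [LieAlgebra.ad_apply]
  conv_lhs => rw [bs2_eq bs, lie_vec bs hxy hxz hyz]
  refine vec_congr bs ?_ ?_ ?_ <;> ring

lemma adx_sq : LieAlgebra.ad S L (bs 0) ^ 2 = 0 := by
  apply LinearMap.ext
  intro w
  rw [vec_eq_self bs w, pow_two, Module.End.mul_apply, ad0_vec bs hε hxy hxz hyz,
    ad0_vec bs hε hxy hxz hyz, LinearMap.zero_apply, ← vec_zero bs]
  refine vec_congr bs ?_ ?_ ?_ <;> grind

lemma ady_sq_vec (α β γ : S) : (LieAlgebra.ad S L (bs 1) ^ 2) (vec bs α β γ)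
    = vec bs (-α * (c * ε) + γ * ((i - a) * ε)) (-γ * (b * ε)) (-γ * (c * ε)) := by
  rw [pow_two, Module.End.mul_apply, ad1_vec bs hε hxy hxz hyz, ad1_vec bs hε hxy hxz hyz]
  refine vec_congr bs ?_ ?_ ?_ <;> grind

lemma ady_cube_vec (α β γ : S) : (LieAlgebra.ad S L (bs 1) ^ 3) (vec bs α β γ)
    = vec bs (-γ * (c * ε)) 0 0 := by
  rw [pow_succ', Module.End.mul_apply, ady_sq_vec bs hε hxy hxz hyz, ad1_vec bs hε hxy hxz hyz]
  refine vec_congr bs ?_ ?_ ?_ <;> grind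

lemma ady_four : LieAlgebra.ad S L (bs 1) ^ 4 = 0 := by
  apply LinearMap.ext
  intro w
  rw [vec_eq_self bs w, pow_succ', Module.End.mul_apply, ady_cube_vec bs hε hxy hxz hyz,
    ad1_vec bs hε hxy hxz hyz, LinearMap.zero_apply, ← vec_zero bs]
  refine vec_congr bs ?_ ?_ ?_ <;> grind

lemma adz_sq_vec (α β γ : S) : (LieAlgebra.ad S L (bs 2) ^ 2) (vec bs α β γ)
    = vec bs (α * (e * ε) + β * ((d + h) * ε)) (β * (e * ε)) (β * (f * ε)) := by
  rw [pow_two, Module.End.mul_apply, ad2_vec bs hε hxy hxz hyz, ad2_vec bs hε hxy hxz hyz]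
  refine vec_congr bs ?_ ?_ ?_ <;> grind

lemma adz_cube_vec (α β γ : S) : (LieAlgebra.ad S L (bs 2) ^ 3) (vec bs α β γ)
    = vec bs (-β * (e * ε)) 0 0 := by
  rw [pow_succ', Module.End.mul_apply, adz_sq_vec bs hε hxy hxz hyz, ad2_vec bs hε hxy hxz hyz]
  refine vec_congr bs ?_ ?_ ?_ <;> grind

lemma adz_four : LieAlgebra.ad S L (bs 2) ^ 4 = 0 := by
  apply LinearMap.ext
  intro w
  rw [vec_eq_self bs w, pow_succ', Module.End.mul_apply, adz_cube_vec bs hε hxy hxz hyz,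
    ad2_vec bs hε hxy hxz hyz, LinearMap.zero_apply, ← vec_zero bs]
  refine vec_congr bs ?_ ?_ ?_ <;> grind

/-- Jacobi: `(b + f) ε = 0`. -/
lemma jacobi_bf : (b + f) * ε = 0 := by
  have := leibniz_lie (bs 0) (bs 1) (bs 2)
  rw [hyz, hxy, hxz] at this
  conv_lhs at this => rw [bs0_eq bs, lie_vec bs hxy hxz hyz]
  conv_rhs at this =>
    rw [bs2_eq bs, bs1_eq bs, lie_vec bs hxy hxz hyz, lie_vec bs hxy hxz hyz]
  have h1 := congrArg (fun w => bs.repr w 0) this
  simp only [map_add, Finsupp.coe_add, Pi.add_apply, repr_vec0] at h1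
  grind


lemma ad_vec_vec (α₀ β₀ γ₀ α β γ : S) : LieAlgebra.ad S L (vec bs α₀ β₀ γ₀) (vec bs α β γ)
    = vec bs
      ((α₀ * β - β₀ * α) * (a * ε) + (α₀ * γ - γ₀ * α) * (d * ε) + (β₀ * γ - γ₀ * β) * (1 + g * ε))
      ((α₀ * β - β₀ * α) * (b * ε) + (α₀ * γ - γ₀ * α) * (e * ε) + (β₀ * γ - γ₀ * β) * (h * ε))
      ((α₀ * β - β₀ * α) * (c * ε) + (α₀ * γ - γ₀ * α) * (f * ε) + (β₀ * γ - γ₀ * β) * (i * ε)) := by
  rw [LieAlgebra.ad_apply, lie_vec bs hxy hxz hyz]

theorem exists_pmap (p : ℕ) [hp : Fact p.Prime] [CharP S p]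
    (hcond : p = 2 → b * ε = 0 ∧ c * ε = 0 ∧ e * ε = 0) : Nonempty (PLie.PMap S p L) := by
  have h2le := hp.out.two_le
  have hbf := jacobi_bf bs hε hxy hxz hyz
  obtain ⟨φ, -, -⟩ := PLieBasis.main p bs
    ![0, if p = 2 then vec bs 0 ((i - a) * ε) 0 else if p = 3 then vec bs 0 (-(c * ε)) 0 else 0,
      if p = 2 then vec bs 0 0 (-((d + h) * ε)) else if p = 3 then vec bs 0 0 (e * ε) else 0] (by
    intro k
    have h4 : p ≠ 4 := fun h => by
      have := hp.out; rw [h] at this; exact absurd this (by norm_num)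
    fin_cases k
    · simp only [Fin.zero_eta, Matrix.cons_val_zero, map_zero]
      rw [show p = 2 + (p - 2) by omega, pow_add, adx_sq bs hε hxy hxz hyz, zero_mul]
    · simp only [Fin.mk_one, Matrix.cons_val_one, Matrix.cons_val_zero]
      by_cases h2 : p = 2
      · rw [if_pos h2]
        obtain ⟨hb, hc, he⟩ := hcond h2
        subst h2
        apply LinearMap.ext
        intro w
        rw [vec_eq_self bs w, ady_sq_vec bs hε hxy hxz hyz, ad_vec_vec bs hε hxy hxz hyz]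
        refine vec_congr bs ?_ ?_ ?_ <;> grind
      · rw [if_neg h2]
        by_cases h3 : p = 3
        · rw [if_pos h3]
          subst h3
          apply LinearMap.ext
          intro w
          rw [vec_eq_self bs w, ady_cube_vec bs hε hxy hxz hyz, ad_vec_vec bs hε hxy hxz hyz]
          refine vec_congr bs ?_ ?_ ?_ <;> grind
        · rw [if_neg h3, map_zero, show p = 4 + (p - 4) by omega, pow_add,
            ady_four bs hε hxy hxz hyz, zero_mul]
    · simp only [Fin.reduceFinMk, Matrix.cons_val_two, Matrix.tail_cons, Matrix.head_cons]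
      by_cases h2 : p = 2
      · rw [if_pos h2]
        obtain ⟨hb, hc, he⟩ := hcond h2
        subst h2
        apply LinearMap.ext
        intro w
        rw [vec_eq_self bs w, adz_sq_vec bs hε hxy hxz hyz, ad_vec_vec bs hε hxy hxz hyz]
        refine vec_congr bs ?_ ?_ ?_ <;> grind
      · rw [if_neg h2]
        by_cases h3 : p = 3
        · rw [if_pos h3]
          subst h3
          apply LinearMap.ext
          intro w
          rw [vec_eq_self bs w, adz_cube_vec bs hε hxy hxz hyz, ad_vec_vec bs hε hxy hxz hyz]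
          refine vec_congr bs ?_ ?_ ?_ <;> grind
        · rw [if_neg h3, map_zero, show p = 4 + (p - 4) by omega, pow_add,
            adz_four bs hε hxy hxz hyz, zero_mul])
  exact ⟨φ⟩

theorem cond_of_pmap [CharP S 2] (φ : PLie.PMap S 2 L) :
    b * ε = 0 ∧ c * ε = 0 ∧ e * ε = 0 := by
  -- `φ z`
  have had2 := φ.ad_map (bs 2)
  obtain ⟨α', β', γ', hw'⟩ : ∃ α β γ : S, φ.toFun (bs 2) = vec bs α β γ :=
    ⟨_, _, _, vec_eq_self bs _⟩
  rw [hw'] at had2
  have g0 := LinearMap.congr_fun had2 (vec bs 1 0 0)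
  have g1 := LinearMap.congr_fun had2 (vec bs 0 1 0)
  have g2 := LinearMap.congr_fun had2 (vec bs 0 0 1)
  rw [ad_vec_vec bs hε hxy hxz hyz, adz_sq_vec bs hε hxy hxz hyz] at g0
  rw [ad_vec_vec bs hε hxy hxz hyz, adz_sq_vec bs hε hxy hxz hyz] at g1
  rw [ad_vec_vec bs hε hxy hxz hyz, adz_sq_vec bs hε hxy hxz hyz] at g2
  obtain ⟨G0x, -, -⟩ := vec_inj bs g0
  obtain ⟨G1x, -, -⟩ := vec_inj bs g1
  obtain ⟨G2x, -, -⟩ := vec_inj bs g2
  have hβ'ε : β' * ε = 0 := by grind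
  have hγ'ε : γ' * ε = 0 := by grind
  have he : e * ε = 0 := by grind
  -- `φ y`
  have had1 := φ.ad_map (bs 1)
  obtain ⟨α, β, γ, hw⟩ : ∃ α β γ : S, φ.toFun (bs 1) = vec bs α β γ :=
    ⟨_, _, _, vec_eq_self bs _⟩
  rw [hw] at had1
  have f0 := LinearMap.congr_fun had1 (vec bs 1 0 0)
  have f1 := LinearMap.congr_fun had1 (vec bs 0 1 0)
  have f2 := LinearMap.congr_fun had1 (vec bs 0 0 1)
  rw [ad_vec_vec bs hε hxy hxz hyz, ady_sq_vec bs hε hxy hxz hyz] at f0
  rw [ad_vec_vec bs hε hxy hxz hyz, ady_sq_vec bs hε hxy hxz hyz] at f1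
  rw [ad_vec_vec bs hε hxy hxz hyz, ady_sq_vec bs hε hxy hxz hyz] at f2
  obtain ⟨F0x, -, -⟩ := vec_inj bs f0
  obtain ⟨F1x, -, -⟩ := vec_inj bs f1
  obtain ⟨F2x, F2y, -⟩ := vec_inj bs f2
  have hγε : γ * ε = 0 := by grind
  have hβε : β * ε = 0 := by grind
  have hc : c * ε = 0 := by grind
  have hb : b * ε = 0 := by grind
  exact ⟨hb, hc, he⟩

end abstract


section dual
open DualNumber Groth.Agent.Helper8.PLieL3def

variable {K : Type*} [Field K]

theorem main (p : ℕ) [hp : Fact p.Prime] [CharP K p] [CharP (DualNumber K) p]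
    (a b c d e f g h i : K)
    {L : Type*} [LieRing L] [LieAlgebra (DualNumber K) L]
    (bs : Module.Basis (Fin 3) (DualNumber K) L)
    (hxy : ⁅bs 0, bs 1⁆ = (a • ε : DualNumber K) • bs 0 + (b • ε : DualNumber K) • bs 1
      + (c • ε : DualNumber K) • bs 2)
    (hxz : ⁅bs 0, bs 2⁆ = (d • ε : DualNumber K) • bs 0 + (e • ε : DualNumber K) • bs 1
      + (f • ε : DualNumber K) • bs 2)
    (hyz : ⁅bs 1, bs 2⁆ = (1 + g • ε : DualNumber K) • bs 0 + (h • ε : DualNumber K) • bs 1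
      + (i • ε : DualNumber K) • bs 2) :
    Nonempty (PLie.PMap (DualNumber K) p L) ↔ (p = 2 → b = 0 ∧ c = 0 ∧ e = 0) := by
  simp only [smul_eps] at hxy hxz hyz
  have hε : (ε : DualNumber K) * ε = 0 := DualNumber.eps_mul_eps
  constructor
  · rintro ⟨φ⟩ hp2
    subst hp2
    obtain ⟨h1, h2, h3⟩ := cond_of_pmap bs hε hxy hxz hyz φ
    exact ⟨am_mul_eps_eq_zero _ h1, am_mul_eps_eq_zero _ h2, am_mul_eps_eq_zero _ h3⟩
  · intro hc
    refine exists_pmap bs hε hxy hxz hyz p ?_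
    intro hp2
    obtain ⟨h1, h2, h3⟩ := hc hp2
    rw [h1, h2, h3, map_zero, zero_mul]
    exact ⟨rfl, rfl, rfl⟩

end dual

end Groth.Agent.Helper8.PLieH3def
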