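import Mathlib
import Groth.Prelude.Def_PLie
import Groth.Agent.Helper8.PLieBasis

namespace Groth.Agent.Helper8.PLieRk1

open Groth.Agent.Helper8.PLieBasis

variable {R : Type*} [CommRing R] (p : ℕ) [hp : Fact p.Prime] [CharP R p]
variable {L : Type*} [LieRing L] [LieAlgebra R L] {ι : Type*} (b : Module.Basis ι R L)

omit hp [CharP R p] in
lemma ad_pow_rk1 (v : L) (f : L →ₗ[R] L →ₗ[R] R) (hf : ∀ x y : L, ⁅x, y⁆ = f x y • v) (x z : L)
    (n : ℕ) : (LieAlgebra.ad R L x ^ (n + 1)) z = (f x z * f x v ^ n) • v := by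
  induction n with
  | zero => simp [hf]
  | succ n ih =>
    rw [pow_succ', Module.End.mul_apply, ih, map_smul, LieAlgebra.ad_apply, hf x v, smul_smul,
      pow_succ]
    congr 1; ring

theorem main (v : L) (f : L →ₗ[R] L →ₗ[R] R) (hf : ∀ x y : L, ⁅x, y⁆ = f x y • v) :
    ∃ φ : PLie.PMap R p L, ∀ i : ι, φ (b i) = (f (b i) v) ^ (p - 1) • b i := by
  have hpos := hp.out.pos
  obtain ⟨φ, hφ, -⟩ := PLieBasis.main p b (fun i => (f (b i) v) ^ (p - 1) • b i) (by
    intro i
    apply LinearMap.ext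
    intro z
    have := ad_pow_rk1 v f hf (b i) z (p - 1)
    rw [show p - 1 + 1 = p by omega] at this
    rw [this, map_smul, LinearMap.smul_apply, LieAlgebra.ad_apply, hf (b i) z, smul_smul]
    congr 1; ring)
  exact ⟨φ, hφ⟩

end Groth.Agent.Helper8.PLieRk1
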