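import Mathlib
import Groth.Agent.Helper1.PBasis2
set_option autoImplicit false

universe u

namespace Groth.Agent.Helper8.PPerf

open EGA41 Groth.Agent.Helper1.PBasis

section

variable (p : ℕ) [hp : Fact p.Prime] {A B : Type u} [CommRing A] [CharP A p] [PerfectRing A p]
  [CommRing B] [Algebra A B] [CharP B p]

/-- every element of `A[B^p]` is a `p`-th power when `A` is perfect -/
lemma exists_pow_eq (c : B) (hc : c ∈ pPowerSubalgebra p A B) :
    ∃ a : B, a ^ p = c := by
  unfold pPowerSubalgebra at hc
  induction hc using Algebra.adjoin_induction with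
  | mem y hy =>
    obtain ⟨b, rfl⟩ := hy
    exact ⟨b, rfl⟩
  | algebraMap r =>
    obtain ⟨b, rfl⟩ := surjective_frobenius A p r
    exact ⟨algebraMap A B b, by rw [frobenius_def, map_pow]⟩
  | add y z _ _ hy hz =>
    obtain ⟨a, rfl⟩ := hy
    obtain ⟨a', rfl⟩ := hz
    exact ⟨a + a', add_pow_char a a' p⟩
  | mul y z _ _ hy hz =>
    obtain ⟨a, rfl⟩ := hy
    obtain ⟨a', rfl⟩ := hz
    exact ⟨a * a', mul_pow a a' p⟩

omit [CharP A p] [PerfectRing A p] in
/-- the Frobenius as a ring hom `B → A[B^p]` -/
noncomputable def frobC : B →+* pPowerSubalgebra p A B where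
  toFun a := ⟨a ^ p, pow_mem p a⟩
  map_one' := Subtype.ext (one_pow p)
  map_mul' a b := Subtype.ext (mul_pow a b p)
  map_zero' := Subtype.ext (zero_pow hp.out.ne_zero)
  map_add' a b := Subtype.ext (add_pow_char a b p)

variable [IsReduced B]

lemma frobC_bijective :
    Function.Bijective (frobC p (A := A) (B := B)) := by
  constructor
  · intro a b h
    have h' : a ^ p = b ^ p := congrArg Subtype.val h
    exact frobenius_inj B p h'
  · intro c
    obtain ⟨a, ha⟩ := exists_pow_eq p c.1 c.2
    exact ⟨a, Subtype.ext ha⟩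

/-- the `p`-th root `A[B^p] ≃ B` -/
noncomputable def rootEquiv : pPowerSubalgebra p A B ≃+* B :=
  (RingEquiv.ofBijective (frobC p (A := A) (B := B)) (frobC_bijective p)).symm

lemma rootEquiv_pow (c : pPowerSubalgebra p A B) :
    (rootEquiv p c) ^ p = (c : B) := by
  have h := (RingEquiv.ofBijective (frobC p (A := A) (B := B)) (frobC_bijective p)).apply_symm_apply c
  exact congrArg Subtype.val h

lemma rootEquiv_eq (c : pPowerSubalgebra p A B) (a : B)
    (h : a ^ p = (c : B)) : rootEquiv p c = a := by
  apply frobenius_inj B p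
  rw [frobenius_def, frobenius_def, rootEquiv_pow, h]

end

end Groth.Agent.Helper8.PPerf
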