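import Mathlib
import Groth.Agent.Helper8.PPerf
set_option autoImplicit false

universe u

namespace Groth.Agent.Helper8.PPerf

open EGA41 Groth.Agent.Helper1.PBasis

section base

variable (p : ℕ) [hp : Fact p.Prime] {A B : Type u} [CommRing A] [CharP A p] [PerfectRing A p]
  [CommRing B] [Algebra A B] [CharP B p] [IsReduced B]
variable {ι : Type u} (x : ι → B) (hx : IsPBasis p A x)

/-- the unique-lifting property of a surjection `π` -/
def ULP {E E₀ : Type u} [CommRing E] [Algebra A E] [CommRing E₀] [Algebra A E₀]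
    (π : E →ₐ[A] E₀) : Prop :=
  ∀ (v : B →ₐ[A] E₀) (z : ι → E), (∀ i, π (z i) = v (x i)) →
    ∃! w : B →ₐ[A] E, π.comp w = v ∧ ∀ i, w (x i) = z i

variable {E E₀ : Type u} [CommRing E] [Algebra A E] [CommRing E₀] [Algebra A E₀]
  (π : E →ₐ[A] E₀) (hπ : Function.Surjective π)

include hx hπ in
theorem ulp_base_charP [CharP E p] (hker : ∀ n : E, π n = 0 → n ^ p = 0) : ULP (B := B) x π := by
  intro v z hz
  have hker' : RingHom.ker π.toRingHom ≤ RingHom.ker (frobenius E p) := by
    intro n hn
    rw [RingHom.mem_ker, frobenius_def]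
    exact hker n hn
  let φ : E₀ →+* E := (π.toRingHom.liftOfSurjective hπ) ⟨frobenius E p, hker'⟩
  have hφ : ∀ e : E, φ (π e) = e ^ p := fun e =>
    RingHom.liftOfSurjective_comp_apply π.toRingHom hπ ⟨frobenius E p, hker'⟩ e
  let ψ : pPowerSubalgebra p A B →+* E := (φ.comp v.toRingHom).comp (rootEquiv p).toRingHom
  letI algCE : Algebra (pPowerSubalgebra p A B) E := ψ.toAlgebra
  have hψ : ∀ (c : pPowerSubalgebra p A B) (b : B) (e : E), b ^ p = (c : B) → π e = v b →
      algebraMap (pPowerSubalgebra p A B) E c = e ^ p := by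
    intro c b e hb he
    change φ (v (rootEquiv p c)) = e ^ p
    rw [rootEquiv_eq p c b hb, ← he, hφ]
  have hzp : ∀ i, z i ^ p = algebraMap (pPowerSubalgebra p A B) E (cpow p A x i) := by
    intro i
    symm
    exact hψ _ (x i) (z i) rfl (hz i)
  -- any `A`-algebra lift of `v` is `A[B^p]`-linear
  have hlin : ∀ w : B →ₐ[A] E, π.comp w = v → ∀ c : pPowerSubalgebra p A B,
      w (c : B) = algebraMap (pPowerSubalgebra p A B) E c := by
    intro w hw c
    have h1 := rootEquiv_pow p c
    rw [hψ c (rootEquiv p c) (w (rootEquiv p c)) h1 (AlgHom.congr_fun hw _), ← map_pow, h1]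
  let w₀ := liftAlg p A x hx z hzp
  have hw₀ : ∀ i, w₀ (x i) = z i := liftAlg_apply p A x hx z hzp
  have hwA : ∀ a : A, w₀ (algebraMap A B a) = algebraMap A E a := by
    intro a
    obtain ⟨b, rfl⟩ := surjective_frobenius A p a
    have h1 : algebraMap A B (frobenius A p b) =
        algebraMap (pPowerSubalgebra p A B) B ⟨(algebraMap A B b) ^ p, pow_mem p _⟩ := by
      rw [frobenius_def, map_pow]; rfl
    rw [h1, AlgHom.commutes]
    rw [hψ _ (algebraMap A B b) (algebraMap A E b) rfl (by rw [AlgHom.commutes, AlgHom.commutes]),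
      frobenius_def, map_pow]
  let w : B →ₐ[A] E := { w₀.toRingHom with commutes' := hwA }
  -- `E₀` as an `A[B^p]`-algebra
  letI algCE₀ : Algebra (pPowerSubalgebra p A B) E₀ := (π.toRingHom.comp ψ).toAlgebra
  let vC : B →ₐ[pPowerSubalgebra p A B] E₀ :=
    { v.toRingHom with
      commutes' := fun c => by
        obtain ⟨e, he⟩ := hπ (v (rootEquiv p c))
        change v (c : B) = π (algebraMap (pPowerSubalgebra p A B) E c)
        rw [hψ c (rootEquiv p c) e (rootEquiv_pow p c) he, map_pow, he, ← map_pow, rootEquiv_pow] }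
  let πC : E →ₐ[pPowerSubalgebra p A B] E₀ :=
    { π.toRingHom with commutes' := fun c => rfl }
  have hπw : πC.comp w₀ = vC := by
    apply algHom_ext p A x hx.2
    intro i
    change π (w₀ (x i)) = v (x i)
    rw [hw₀, hz]
  have hπw' : π.comp w = v := by
    ext b
    exact AlgHom.congr_fun hπw b
  refine ⟨w, ⟨hπw', hw₀⟩, ?_⟩
  rintro w' ⟨hw'1, hw'2⟩
  let w'C : B →ₐ[pPowerSubalgebra p A B] E :=
    { w'.toRingHom with commutes' := fun c => hlin w' hw'1 c }
  have : w'C = w₀ := by
    apply algHom_ext p A x hx.2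
    intro i
    change w' (x i) = w₀ (x i)
    rw [hw'2, hw₀]
  ext b
  exact AlgHom.congr_fun this b

include hx hπ in
theorem ulp_base (hker : ∀ n : E, π n = 0 → n ^ p = 0) : ULP (B := B) x π := by
  rcases subsingleton_or_nontrivial E with hE | hE
  · intro v z hz
    haveI : Subsingleton E₀ := hπ.subsingleton
    let w : B →ₐ[A] E :=
      { toFun := fun _ => 0
        map_one' := Subsingleton.elim _ _
        map_mul' := fun _ _ => Subsingleton.elim _ _
        map_zero' := rfl
        map_add' := fun _ _ => Subsingleton.elim _ _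
        commutes' := fun _ => Subsingleton.elim _ _ }
    refine ⟨w, ⟨?_, fun i => Subsingleton.elim _ _⟩, ?_⟩
    · ext b; exact Subsingleton.elim _ _
    · intro w' _
      ext b; exact Subsingleton.elim _ _
  · have hpE : (p : E) = 0 := by
      have := congrArg (algebraMap A E) (CharP.cast_eq_zero A p)
      rwa [map_natCast, map_zero] at this
    haveI : CharP E p := (CharP.charP_iff_prime_eq_zero hp.out).2 hpE
    exact ulp_base_charP p x hx π hπ hker

end base

end Groth.Agent.Helper8.PPerf
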