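import Mathlib
import Groth.Agent.Helper8.PPerf2
set_option autoImplicit false

universe u

namespace Groth.Agent.Helper8.PPerf

open EGA41 Groth.Agent.Helper1.PBasis

section ind

variable (p : ℕ) [hp : Fact p.Prime] {A B : Type u} [CommRing A] [CharP A p] [PerfectRing A p]
  [CommRing B] [Algebra A B] [CharP B p] [IsReduced B]
variable {ι : Type u} (x : ι → B) (hx : IsPBasis p A x)

omit hp [CharP A p] [PerfectRing A p] [CharP B p] [IsReduced B] in
/-- the unique lifting property composes -/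
theorem ulp_comp {E E₁ E₀ : Type u} [CommRing E] [Algebra A E] [CommRing E₁] [Algebra A E₁]
    [CommRing E₀] [Algebra A E₀] (π₁ : E →ₐ[A] E₁) (π₂ : E₁ →ₐ[A] E₀)
    (h₁ : ULP (B := B) x π₁) (h₂ : ULP (B := B) x π₂) : ULP (B := B) x (π₂.comp π₁) := by
  intro v z hz
  obtain ⟨w₁, ⟨hw₁a, hw₁b⟩, hw₁u⟩ := h₂ v (fun i => π₁ (z i)) hz
  obtain ⟨w, ⟨hwa, hwb⟩, hwu⟩ := h₁ w₁ z (fun i => (hw₁b i).symm)
  refine ⟨w, ⟨?_, hwb⟩, ?_⟩
  · rw [AlgHom.comp_assoc, hwa, hw₁a]
  · rintro w' ⟨hw'a, hw'b⟩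
    have h1 : π₁.comp w' = w₁ := by
      apply hw₁u
      refine ⟨?_, fun i => ?_⟩
      · rw [← AlgHom.comp_assoc, hw'a]
      · rw [AlgHom.comp_apply, hw'b]
    exact hwu w' ⟨h1, hw'b⟩

include hx in
theorem ulp_of_pow (N : ℕ) : ∀ {E E₀ : Type u} [CommRing E] [Algebra A E] [CommRing E₀] [Algebra A E₀]
    (π : E →ₐ[A] E₀), Function.Surjective π → RingHom.ker π.toRingHom ^ (N + 1) = ⊥ →
    ULP (B := B) x π := by
  induction N with
  | zero =>
    intro E E₀ _ _ _ _ π hπ hN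
    apply ulp_base p x hx π hπ
    intro n hn
    have : n ∈ RingHom.ker π.toRingHom ^ (0 + 1) := by
      rw [zero_add, pow_one]; exact hn
    rw [hN, Ideal.mem_bot] at this
    rw [this, zero_pow hp.out.ne_zero]
  | succ N ih =>
    intro E E₀ _ _ _ _ π hπ hN
    set I : Ideal E := RingHom.ker π.toRingHom with hI
    have hle : I ^ (N + 1) ≤ RingHom.ker π.toRingHom := Ideal.pow_le_self (Nat.succ_ne_zero N)
    let π₁ : E →ₐ[A] E ⧸ I ^ (N + 1) := Ideal.Quotient.mkₐ A (I ^ (N + 1))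
    let π₂ : E ⧸ I ^ (N + 1) →ₐ[A] E₀ := Ideal.Quotient.liftₐ (I ^ (N + 1)) π (fun a ha => hle ha)
    have hcomp : π₂.comp π₁ = π := by
      ext e; rfl
    have h₁ : ULP (B := B) x π₁ := by
      apply ulp_base p x hx π₁ (Ideal.Quotient.mkₐ_surjective A _)
      intro n hn
      have hn' : n ∈ I ^ (N + 1) := by
        rwa [← Ideal.Quotient.eq_zero_iff_mem]
      have h2 : n ^ p ∈ (I ^ (N + 1)) ^ p := Ideal.pow_mem_pow hn' p
      rw [← pow_mul] at h2
      have h3 : I ^ ((N + 1) * p) ≤ I ^ (N + 1 + 1) := by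
        apply Ideal.pow_le_pow_right
        have := hp.out.two_le
        nlinarith
      have := h3 h2
      rw [hN, Ideal.mem_bot] at this
      exact this
    have h₂ : ULP (B := B) x π₂ := by
      apply ih π₂
      · intro e₀
        obtain ⟨e, rfl⟩ := hπ e₀
        exact ⟨Ideal.Quotient.mk _ e, rfl⟩
      · have hk : RingHom.ker π₂.toRingHom ≤ I.map (Ideal.Quotient.mk (I ^ (N + 1))) := by
          intro y hy
          obtain ⟨e, rfl⟩ := Ideal.Quotient.mk_surjective y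
          apply Ideal.mem_map_of_mem
          rw [hI, RingHom.mem_ker]
          exact hy
        rw [eq_bot_iff]
        refine le_trans (Ideal.pow_right_mono hk (N + 1)) ?_
        rw [← Ideal.map_pow, Ideal.map_quotient_self]
    rw [← hcomp]
    exact ulp_comp x π₁ π₂ h₁ h₂

end ind

section main

variable (p : ℕ) [hp : Fact p.Prime] {A B : Type u} [CommRing A] [CharP A p] [PerfectRing A p]
  [CommRing B] [Algebra A B] [CharP B p] [IsReduced B]
variable {ι : Type u} (x : ι → B) (hx : IsPBasis p A x)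

include hx in
theorem lift_unique (E : Type u) [CommRing E] [Algebra A E] (R : Ideal E) (hR : IsNilpotent R)
    (v : B →ₐ[A] E ⧸ R) (z : ι → E) (hz : ∀ i, Ideal.Quotient.mk R (z i) = v (x i)) :
    ∃! w : B →ₐ[A] E, (Ideal.Quotient.mkₐ A R).comp w = v ∧ ∀ i, w (x i) = z i := by
  obtain ⟨n, hn⟩ := hR
  have hN : RingHom.ker (Ideal.Quotient.mkₐ A R).toRingHom ^ (n + 1) = ⊥ := by
    have : RingHom.ker (Ideal.Quotient.mkₐ A R).toRingHom = R := Ideal.Quotient.mkₐ_ker A R
    rw [this, pow_succ, hn]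
    exact zero_mul R
  exact ulp_of_pow p x hx n (Ideal.Quotient.mkₐ A R) (Ideal.Quotient.mkₐ_surjective A R) hN v z hz

include hx in
theorem main :
    Algebra.FormallySmooth A B ∧
    ∀ (E : Type u) [CommRing E] [Algebra A E] (R : Ideal E), IsNilpotent R →
      ∀ (v : B →ₐ[A] E ⧸ R) (z : ι → E), (∀ i, Ideal.Quotient.mk R (z i) = v (x i)) →
        ∃! w : B →ₐ[A] E, (Ideal.Quotient.mkₐ A R).comp w = v ∧ ∀ i, w (x i) = z i := by
  refine ⟨?_, fun E _ _ R hR v z hz => lift_unique p x hx E R hR v z hz⟩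
  apply Algebra.FormallySmooth.of_comp_surjective
  intro E _ _ I hI v
  choose z hz using fun i => Ideal.Quotient.mk_surjective (v (x i))
  obtain ⟨w, ⟨hw, -⟩, -⟩ := lift_unique p x hx E I ⟨2, hI⟩ v z hz
  exact ⟨w, hw⟩

end main

end Groth.Agent.Helper8.PPerf
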