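import Mathlib
set_option autoImplicit false
open PowerSeries

namespace Groth.Agent.Helper8.PSNormal

universe u

section CIC
variable {R : Type u} [CommRing R] [IsDomain R] [IsNoetherianRing R] [IsIntegrallyClosed R]
variable {K : Type u} [Field K] [Algebra R K] [IsFractionRing R K]

/-- A Noetherian integrally closed domain is completely integrally closed. -/
lemma cic (u : K) (δ : R) (hδ : δ ≠ 0)
    (h : ∀ n : ℕ, ∃ r : R, algebraMap R K r = algebraMap R K δ * u ^ n) :
    ∃ r : R, algebraMap R K r = u := by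
  have hδK : algebraMap R K δ ≠ 0 := by
    rwa [Ne, map_eq_zero_iff _ (IsFractionRing.injective R K)]
  suffices hint : IsIntegral R u from (isIntegrallyClosed_iff K).1 inferInstance hint
  have hle : Subalgebra.toSubmodule (Algebra.adjoin R {u}) ≤
      Submodule.span R {(algebraMap R K δ)⁻¹} := by
    intro y hy
    rw [Subalgebra.mem_toSubmodule, Algebra.adjoin_singleton_eq_range_aeval] at hy
    obtain ⟨p, rfl⟩ := hy
    show Polynomial.aeval u p ∈ _
    rw [Polynomial.aeval_eq_sum_range]
    refine Submodule.sum_mem _ fun i _ => ?_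
    obtain ⟨r, hr⟩ := h i
    rw [Submodule.mem_span_singleton]
    refine ⟨p.coeff i * r, ?_⟩
    rw [Algebra.smul_def, Algebra.smul_def, map_mul, hr]
    field_simp
  have hfg : (Subalgebra.toSubmodule (Algebra.adjoin R {u})).FG := by
    have : IsNoetherian R (Submodule.span R {(algebraMap R K δ)⁻¹}) := inferInstance
    have h1 := Submodule.FG.of_le (Submodule.fg_span_singleton _) hle
    exact h1
  exact IsIntegral.of_mem_of_fg _ hfg u (Algebra.subset_adjoin rfl)

end CIC

section PS
variable {R : Type u} [CommRing R] [IsDomain R] [IsNoetherianRing R] [IsIntegrallyClosed R]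
variable {K : Type u} [Field K] [Algebra R K] [IsFractionRing R K]

omit [IsDomain R] [IsNoetherianRing R] [IsIntegrallyClosed R] [IsFractionRing R K] in
lemma mem_range_iff (ψ : K⟦X⟧) :
    ψ ∈ (PowerSeries.map (algebraMap R K)).range ↔ ∀ i, coeff i ψ ∈ (algebraMap R K).range := by
  constructor
  · rintro ⟨g, rfl⟩ i
    exact ⟨coeff i g, by simp⟩
  · intro h
    choose c hc using h
    exact ⟨PowerSeries.mk c, by ext i; simp [hc]⟩

omit [IsDomain R] [IsNoetherianRing R] [IsIntegrallyClosed R] [IsFractionRing R K] in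
lemma sat (n : ℕ) (ψ : K⟦X⟧) (h : X ^ n * ψ ∈ (PowerSeries.map (algebraMap R K)).range) :
    ψ ∈ (PowerSeries.map (algebraMap R K)).range := by
  rw [mem_range_iff] at h ⊢
  intro i
  have := h (i + n)
  rwa [coeff_X_pow_mul] at this

lemma base d (hd : d ≠ 0) (q : K⟦X⟧)
    (h : ∀ n : ℕ, PowerSeries.map (algebraMap R K) d * q ^ n ∈
      (PowerSeries.map (algebraMap R K)).range) :
    coeff 0 q ∈ (algebraMap R K).range := by
  obtain ⟨m, hm⟩ : ∃ m, m = d.order.toNat := ⟨_, rfl⟩
  have hm0 : coeff m d ≠ 0 := hm ▸ coeff_order hd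
  obtain ⟨d₂, hd₂⟩ : X ^ m ∣ d := hm ▸ X_pow_order_dvd
  have hc : coeff m d = coeff 0 d₂ := by
    have := coeff_X_pow_mul d₂ m 0
    rw [zero_add] at this
    rw [hd₂, this]
  have h1 : ∀ n : ℕ, coeff m (PowerSeries.map (algebraMap R K) d * q ^ n) =
      algebraMap R K (coeff m d) * (coeff 0 q) ^ n := by
    intro n
    have := coeff_X_pow_mul (PowerSeries.map (algebraMap R K) d₂ * q ^ n) m 0
    rw [zero_add] at this
    have hdK : PowerSeries.map (algebraMap R K) d = X ^ m * PowerSeries.map (algebraMap R K) d₂ := by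
      rw [hd₂, map_mul, map_pow, map_X]
    rw [hdK, mul_assoc, this, hc]
    simp only [coeff_zero_eq_constantCoeff_apply, map_mul, map_pow]
    congr 1
  obtain ⟨r, hr⟩ := cic (coeff 0 q) (coeff m d) hm0 (fun n => by
    obtain ⟨g, hg⟩ := h n
    exact ⟨coeff m g, by rw [← h1 n, ← hg, coeff_map]⟩)
  exact ⟨r, hr⟩

omit [IsDomain R] [IsNoetherianRing R] [IsIntegrallyClosed R] [IsFractionRing R K] in
lemma step d (q : K⟦X⟧)
    (h : ∀ n : ℕ, PowerSeries.map (algebraMap R K) d * q ^ n ∈
      (PowerSeries.map (algebraMap R K)).range)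
    (h0 : coeff 0 q ∈ (algebraMap R K).range) (n : ℕ) :
    PowerSeries.map (algebraMap R K) d * (PowerSeries.mk fun p => coeff (p + 1) q) ^ n ∈
      (PowerSeries.map (algebraMap R K)).range := by
  set q₁ : K⟦X⟧ := PowerSeries.mk fun p => coeff (p + 1) q with hq₁
  apply sat n
  have hq : X * q₁ = q + (- C (coeff 0 q)) := by
    have := eq_X_mul_shift_add_const q
    rw [← hq₁] at this
    rw [coeff_zero_eq_constantCoeff_apply]
    calc X * q₁ = (X * q₁ + C (constantCoeff q)) + (-C (constantCoeff q)) := by ring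
      _ = q + (-C (constantCoeff q)) := by rw [← this]
  have : X ^ n * (PowerSeries.map (algebraMap R K) d * q₁ ^ n) =
      PowerSeries.map (algebraMap R K) d * (X * q₁) ^ n := by ring
  rw [this, hq, add_pow, Finset.mul_sum]
  refine Subring.sum_mem _ fun i _ => ?_
  have hC : (- C (coeff 0 q) : K⟦X⟧) ∈ (PowerSeries.map (algebraMap R K)).range := by
    obtain ⟨r, hr⟩ := h0
    exact Subring.neg_mem _ ⟨C r, by rw [← hr]; simp⟩
  have : PowerSeries.map (algebraMap R K) d * (q ^ i * (-C (coeff 0 q)) ^ (n - i) * (n.choose i : K⟦X⟧)) =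
      (PowerSeries.map (algebraMap R K) d * q ^ i) * (-C (coeff 0 q)) ^ (n - i) * (n.choose i : K⟦X⟧) := by
    ring
  rw [this]
  exact Subring.mul_mem _ (Subring.mul_mem _ (h i) (Subring.pow_mem _ hC _)) (natCast_mem _ _)

lemma coeff_mem d (hd : d ≠ 0) : ∀ (k : ℕ) (q : K⟦X⟧),
    (∀ n : ℕ, PowerSeries.map (algebraMap R K) d * q ^ n ∈
      (PowerSeries.map (algebraMap R K)).range) → coeff k q ∈ (algebraMap R K).range
  | 0, q, h => base d hd q h
  | k + 1, q, h => by
    have h0 := base d hd q h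
    have := coeff_mem d hd k _ (step d q h h0)
    simpa [coeff_mk] using this

end PS

lemma exists_quot {K : Type u} [Field K] (a b d : K⟦X⟧) (c : ℕ → K⟦X⟧) (hb : b ≠ 0) (hd : d ≠ 0)
    (h : ∀ n : ℕ, c n * b ^ n = d * a ^ n) : ∃ q : K⟦X⟧, a = b * q := by
  rcases ValuationRing.dvd_total a b with h1 | h1
  · obtain ⟨w, hw⟩ := h1
    have ha : a ≠ 0 := by
      rintro rfl
      exact hb (by rw [hw, zero_mul])
    by_cases hw0 : constantCoeff w = 0
    · exfalso
      apply hd
      have hX : X ∣ w := X_dvd_iff.2 hw0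
      ext i
      rw [map_zero]
      have h2 : X ^ (i + 1) ∣ d := by
        have h3 : c (i + 1) * w ^ (i + 1) = d := by
          have := h (i + 1)
          rw [hw, mul_pow, ← mul_assoc, mul_comm (c (i + 1)), mul_assoc] at this
          have h4 : a ^ (i + 1) ≠ 0 := pow_ne_zero _ ha
          have h5 : a ^ (i + 1) * (c (i + 1) * w ^ (i + 1)) = a ^ (i + 1) * d := by
            rw [this]; ring
          exact mul_left_cancel₀ h4 h5
        rw [← h3]
        exact Dvd.dvd.mul_left (pow_dvd_pow_of_dvd hX _) _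
      exact X_pow_dvd_iff.1 h2 i (Nat.lt_succ_self i)
    · refine ⟨w⁻¹, ?_⟩
      rw [hw, mul_assoc, PowerSeries.mul_inv_cancel w hw0, mul_one]
  · exact h1

lemma exists_denominator {A L : Type u} [CommRing A] [IsDomain A] [Field L] [Algebra A L]
    [IsFractionRing A L] (f : L) (hf : IsIntegral A f) :
    ∃ d : A, d ≠ 0 ∧ ∀ n : ℕ, ∃ c : A, algebraMap A L c = algebraMap A L d * f ^ n := by
  obtain ⟨s, hs⟩ := hf.fg_adjoin_singleton
  obtain ⟨d, hd⟩ := IsLocalization.exist_integer_multiples_of_finset (nonZeroDivisors A) s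
  refine ⟨d, nonZeroDivisors.ne_zero d.2, fun n => ?_⟩
  have hmem : f ^ n ∈ Submodule.span A (s : Set L) := by
    rw [hs, Subalgebra.mem_toSubmodule]
    exact pow_mem (Algebra.subset_adjoin (Set.mem_singleton f)) n
  have : ∀ y ∈ Submodule.span A (s : Set L),
      IsLocalization.IsInteger A ((d : A) • y) := by
    intro y hy
    induction hy using Submodule.span_induction with
    | mem y hy => exact hd y hy
    | zero => rw [smul_zero]; exact ⟨0, map_zero _⟩
    | add y z _ _ hy hz => rw [smul_add]; exact IsLocalization.isInteger_add hy hz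
    | smul r y _ hy => rw [smul_comm]; exact IsLocalization.isInteger_smul hy
  obtain ⟨c, hc⟩ := this _ hmem
  exact ⟨c, by rw [hc, Algebra.smul_def]⟩

theorem main' (R : Type u) [CommRing R] [IsDomain R] [IsNoetherianRing R] [IsIntegrallyClosed R]
    (K : Type u) [Field K] [Algebra R K] [IsFractionRing R K]
    (L : Type u) [Field L] [Algebra R⟦X⟧ L] [IsFractionRing R⟦X⟧ L]
    (f : L) (hf : IsIntegral R⟦X⟧ f) : ∃ g : R⟦X⟧, algebraMap R⟦X⟧ L g = f := by
  obtain ⟨a, b, hb, rfl⟩ := IsFractionRing.div_surjective R⟦X⟧ f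
  have hb0 : b ≠ 0 := nonZeroDivisors.ne_zero hb
  have hbL : algebraMap R⟦X⟧ L b ≠ 0 := by
    rwa [Ne, map_eq_zero_iff _ (IsFractionRing.injective R⟦X⟧ L)]
  set f := algebraMap R⟦X⟧ L a / algebraMap R⟦X⟧ L b with hfdef
  obtain ⟨d, hd0, hdn⟩ := exists_denominator f hf
  choose c hc using hdn
  have hfb : f * algebraMap R⟦X⟧ L b = algebraMap R⟦X⟧ L a :=
    div_mul_cancel₀ _ hbL
  have heq : ∀ n : ℕ, c n * b ^ n = d * a ^ n := by
    intro n
    apply IsFractionRing.injective R⟦X⟧ L
    rw [map_mul, map_mul, map_pow, map_pow, hc n, ← hfb, mul_pow]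
    ring
  -- pass to K⟦X⟧
  have hinj : Function.Injective (PowerSeries.map (algebraMap R K)) :=
    PowerSeries.map_injective _ (IsFractionRing.injective R K)
  have hb' : PowerSeries.map (algebraMap R K) b ≠ 0 := by
    rwa [Ne, map_eq_zero_iff _ hinj]
  have hd' : PowerSeries.map (algebraMap R K) d ≠ 0 := by
    rwa [Ne, map_eq_zero_iff _ hinj]
  have heq' : ∀ n : ℕ, PowerSeries.map (algebraMap R K) (c n) *
      (PowerSeries.map (algebraMap R K) b) ^ n =
      PowerSeries.map (algebraMap R K) d *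
      (PowerSeries.map (algebraMap R K) a) ^ n := by
    intro n
    rw [← map_pow, ← map_pow, ← map_mul, ← map_mul, heq n]
  obtain ⟨q, hq⟩ := exists_quot _ _ _ _ hb' hd' heq'
  have hcq : ∀ n : ℕ, PowerSeries.map (algebraMap R K) d * q ^ n =
      PowerSeries.map (algebraMap R K) (c n) := by
    intro n
    have := heq' n
    rw [hq, mul_pow] at this
    have h2 : (PowerSeries.map (algebraMap R K) b) ^ n * (PowerSeries.map (algebraMap R K) (c n)) =
        (PowerSeries.map (algebraMap R K) b) ^ n * (PowerSeries.map (algebraMap R K) d * q ^ n) := by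
      rw [mul_comm, this]; ring
    exact (mul_left_cancel₀ (pow_ne_zero n hb') h2).symm
  have hqmem : q ∈ (PowerSeries.map (algebraMap R K)).range := by
    rw [mem_range_iff]
    intro k
    exact coeff_mem d hd0 k q (fun n => ⟨c n, (hcq n).symm⟩)
  obtain ⟨g, hg⟩ := hqmem
  refine ⟨g, ?_⟩
  have hab : a = b * g := by
    apply hinj
    rw [map_mul, hg, hq]
  rw [hfdef, hab, map_mul, mul_div_cancel_left₀ _ hbL]

theorem main (R : Type u) [CommRing R] [IsDomain R] [IsNoetherianRing R] [IsIntegrallyClosed R] :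
    IsIntegrallyClosed (PowerSeries R) := by
  rw [isIntegrallyClosed_iff (FractionRing R⟦X⟧)]
  intro f hf
  exact main' R (FractionRing R) (FractionRing R⟦X⟧) f hf

theorem s6299 (R : Type u) [CommRing R] [IsDomain R] [IsNoetherianRing R] [IsIntegrallyClosed R] :
    IsIntegrallyClosed (PowerSeries R) ∧ IsNoetherianRing (PowerSeries R) :=
  ⟨main R, inferInstance⟩

end Groth.Agent.Helper8.PSNormal
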