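import Mathlib
set_option autoImplicit false
universe u
open MvPowerSeries IsLocalRing

namespace Groth.Agent.Helper8.PSXY

variable {A : Type u} [CommRing A]

theorem coeff_single_one_mul (i : Fin 2) (f g : MvPowerSeries (Fin 2) A) :
    coeff (Finsupp.single i 1) (f * g) =
      constantCoeff f * coeff (Finsupp.single i 1) g
        + coeff (Finsupp.single i 1) f * constantCoeff g := by
  classical
  rw [coeff_mul, Finsupp.antidiagonal_single, Finset.sum_map]
  simp [Finset.Nat.antidiagonal_succ, coeff_zero_eq_constantCoeff]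

theorem coeff_single_one_XY_mul (i : Fin 2) (g : MvPowerSeries (Fin 2) A) :
    coeff (Finsupp.single i 1) (X 0 * X 1 * g) = 0 := by
  rw [coeff_single_one_mul, coeff_single_one_mul]
  simp

theorem decomp (W : MvPowerSeries (Fin 2) A) :
    ∃ W1 W2 : MvPowerSeries (Fin 2) A, W = C (constantCoeff W) + X 0 * W1 + X 1 * W2 := by
  classical
  let W' : MvPowerSeries (Fin 2) A := fun m => if m 0 = 0 then 0 else coeff m W
  have h1 : (X 0 : MvPowerSeries (Fin 2) A) ∣ W' := by
    rw [X_dvd_iff]
    intro m hm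
    show (if m 0 = 0 then 0 else coeff m W) = 0
    rw [if_pos hm]
  have h2 : (X 1 : MvPowerSeries (Fin 2) A) ∣ W - W' - C (constantCoeff W) := by
    rw [X_dvd_iff]
    intro m hm
    rw [map_sub, map_sub]
    have hW' : coeff m W' = if m 0 = 0 then 0 else coeff m W := rfl
    rw [hW']
    by_cases h0 : m 0 = 0
    · have : m = 0 := by
        ext j
        fin_cases j
        · exact h0
        · exact hm
      subst this
      simp [coeff_zero_eq_constantCoeff]
    · rw [if_neg h0, coeff_C, if_neg]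
      · simp
      · rintro rfl
        exact h0 rfl
  obtain ⟨W1, hW1⟩ := h1
  obtain ⟨W2, hW2⟩ := h2
  refine ⟨W1, W2, ?_⟩
  rw [← hW1, ← hW2]
  ring

/-- the image of a generator: data extracted from surjectivity -/
theorem gen_decomp (Iα Iβ : Ideal (MvPowerSeries (Fin 2) A))
    (φ : (MvPowerSeries (Fin 2) A ⧸ Iα) ≃ₐ[A] (MvPowerSeries (Fin 2) A ⧸ Iβ))
    (U V : MvPowerSeries (Fin 2) A)
    (hU : Ideal.Quotient.mk _ U = φ (Ideal.Quotient.mk _ (X 0)))
    (hV : Ideal.Quotient.mk _ V = φ (Ideal.Quotient.mk _ (X 1)))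
    (Z : MvPowerSeries (Fin 2) A) :
    ∃ (w : A) (S T : MvPowerSeries (Fin 2) A),
      Z - (C w + U * S + V * T) ∈ Iβ := by
  obtain ⟨z, hz⟩ := φ.surjective (Ideal.Quotient.mk _ Z)
  obtain ⟨W, rfl⟩ := Ideal.Quotient.mk_surjective z
  obtain ⟨W1, W2, hW⟩ := decomp W
  obtain ⟨S, hS⟩ := Ideal.Quotient.mk_surjective (φ (Ideal.Quotient.mk _ W1))
  obtain ⟨T, hT⟩ := Ideal.Quotient.mk_surjective (φ (Ideal.Quotient.mk _ W2))
  refine ⟨constantCoeff W, S, T, ?_⟩
  rw [← Ideal.Quotient.eq_zero_iff_mem]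
  rw [map_sub, ← hz, map_add, map_add, map_mul, map_mul, hU, hV, hS, hT, ← map_mul, ← map_mul]
  have hc : Ideal.Quotient.mk Iβ
      (C (constantCoeff W)) = φ (Ideal.Quotient.mk _ (C (constantCoeff W))) := by
    rw [c_eq_algebraMap, Ideal.Quotient.mk_algebraMap, Ideal.Quotient.mk_algebraMap,
      AlgEquiv.commutes]
  rw [hc, ← map_add, ← map_add, ← map_mul, ← map_mul, ← map_add, ← map_add, ← hW, sub_self]

theorem coeff_single_one_C (i : Fin 2) (a : A) :
    coeff (Finsupp.single i 1) (C a : MvPowerSeries (Fin 2) A) = 0 := by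
  classical
  rw [coeff_C, if_neg]
  simp

theorem coeff_single_one_XY (i : Fin 2) :
    coeff (Finsupp.single i 1) (X 0 * X 1 : MvPowerSeries (Fin 2) A) = 0 := by
  rw [coeff_single_one_mul]
  simp

theorem nonunit_X [IsLocalRing A] (α : A) (hα : α ∈ maximalIdeal A) (i : Fin 2) :
    ¬ IsUnit (Ideal.Quotient.mk
      (Ideal.span {(X 0 * X 1 - C α : MvPowerSeries (Fin 2) A)}) (X i)) := by
  intro h
  obtain ⟨w, hw⟩ := h.exists_right_inv
  obtain ⟨W, rfl⟩ := Ideal.Quotient.mk_surjective w
  rw [← map_mul, ← map_one (Ideal.Quotient.mk _), Ideal.Quotient.eq,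
    Ideal.mem_span_singleton'] at hw
  obtain ⟨K, hK⟩ := hw
  have := congrArg constantCoeff hK
  simp only [map_mul, map_sub, constantCoeff_X, zero_mul, constantCoeff_C, map_one] at this
  have h1 : (1 : A) ∈ maximalIdeal A := by
    have : (1 : A) = constantCoeff K * α := by linear_combination this
    rw [this]
    exact Ideal.mul_mem_left _ _ hα
  exact (Ideal.ne_top_iff_one _).1 (maximalIdeal.isMaximal A).ne_top h1

theorem one_dir [IsLocalRing A] (α β : A) (hα : α ∈ maximalIdeal A) (hβ : β ∈ maximalIdeal A)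
    (φ : (MvPowerSeries (Fin 2) A ⧸ Ideal.span {(X 0 * X 1 - C α : MvPowerSeries (Fin 2) A)}) ≃ₐ[A]
      (MvPowerSeries (Fin 2) A ⧸ Ideal.span {(X 0 * X 1 - C β : MvPowerSeries (Fin 2) A)})) :
    α ∈ Ideal.span {β} := by
  obtain ⟨U, hU⟩ := Ideal.Quotient.mk_surjective (φ (Ideal.Quotient.mk _ (X 0)))
  obtain ⟨V, hV⟩ := Ideal.Quotient.mk_surjective (φ (Ideal.Quotient.mk _ (X 1)))
  -- constant coefficients are non-units
  have hnu : ∀ (i : Fin 2) (Z : MvPowerSeries (Fin 2) A),
      Ideal.Quotient.mk _ Z = φ (Ideal.Quotient.mk _ (X i)) →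
      constantCoeff Z ∈ maximalIdeal A := by
    intro i Z hZ
    by_contra h
    have h1 : IsUnit (constantCoeff Z) := by
      exact IsLocalRing.notMem_maximalIdeal.1 h
    have h2 : IsUnit Z := MvPowerSeries.isUnit_iff_constantCoeff.2 h1
    have h3 : IsUnit (φ (Ideal.Quotient.mk _ (X i))) := hZ ▸ h2.map _
    have h4 : IsUnit (Ideal.Quotient.mk
      (Ideal.span {(X 0 * X 1 - C α : MvPowerSeries (Fin 2) A)}) (X i)) := by
      have := h3.map φ.symm
      simpa using this
    exact nonunit_X α hα i h4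
  have hU0 := hnu 0 U hU
  have hV0 := hnu 1 V hV
  -- the relation U V = α mod (xy - β)
  have hUV : U * V - C α ∈ Ideal.span {(X 0 * X 1 - C β : MvPowerSeries (Fin 2) A)} := by
    rw [← Ideal.Quotient.eq, map_mul, hU, hV, ← map_mul, ← map_mul]
    have h1 : Ideal.Quotient.mk (Ideal.span {(X 0 * X 1 - C α : MvPowerSeries (Fin 2) A)})
        (X 0 * X 1) = Ideal.Quotient.mk _ (C α) := by
      rw [Ideal.Quotient.eq]
      exact Ideal.subset_span rfl
    rw [h1]
    generalize Ideal.span {(X 0 * X 1 - C α : MvPowerSeries (Fin 2) A)} = Iα at *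
    generalize Ideal.span {(X 0 * X 1 - C β : MvPowerSeries (Fin 2) A)} = Iβ at *
    rw [c_eq_algebraMap, Ideal.Quotient.mk_algebraMap, Ideal.Quotient.mk_algebraMap,
      AlgEquiv.commutes]
  obtain ⟨G, hG⟩ := Ideal.mem_span_singleton'.1 hUV
  obtain ⟨w, S, T, hX⟩ := gen_decomp _ _ φ U V hU hV (X 0)
  obtain ⟨w', S', T', hY⟩ := gen_decomp _ _ φ U V hU hV (X 1)
  obtain ⟨H, hH⟩ := Ideal.mem_span_singleton'.1 hX
  obtain ⟨H', hH'⟩ := Ideal.mem_span_singleton'.1 hY
  -- coefficient equations
  have e0 := congrArg constantCoeff hG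
  have ex := congrArg (coeff (Finsupp.single (0 : Fin 2) 1)) hG
  have ey := congrArg (coeff (Finsupp.single (1 : Fin 2) 1)) hG
  have xx := congrArg (coeff (Finsupp.single (0 : Fin 2) 1)) hH
  have xy := congrArg (coeff (Finsupp.single (1 : Fin 2) 1)) hH
  have yx := congrArg (coeff (Finsupp.single (0 : Fin 2) 1)) hH'
  have yy := congrArg (coeff (Finsupp.single (1 : Fin 2) 1)) hH'
  simp only [map_mul, map_sub, map_add, coeff_single_one_mul, coeff_single_one_C,
    coeff_single_one_XY, constantCoeff_X, constantCoeff_C, zero_mul, mul_zero,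
    coeff_index_single_self_X, coeff_index_single_X, Fin.isValue, one_ne_zero, zero_ne_one,
    if_false] at e0 ex ey xx xy yx yy
  generalize constantCoeff U = u0 at *
  generalize constantCoeff V = v0 at *
  generalize constantCoeff G = g0 at *
  generalize constantCoeff S = s0 at *
  generalize constantCoeff T = t0 at *
  generalize constantCoeff S' = s0' at *
  generalize constantCoeff T' = t0' at *
  generalize coeff (Finsupp.single (0 : Fin 2) 1) U = ux at *
  generalize coeff (Finsupp.single (1 : Fin 2) 1) U = uy at *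
  generalize coeff (Finsupp.single (0 : Fin 2) 1) V = vx at *
  generalize coeff (Finsupp.single (1 : Fin 2) 1) V = vy at *
  generalize coeff (Finsupp.single (0 : Fin 2) 1) G = gx at *
  generalize coeff (Finsupp.single (1 : Fin 2) 1) G = gy at *
  have hβ' : IsLocalRing.residue A β = 0 := (IsLocalRing.residue_eq_zero_iff _).2 hβ
  have hu0' : IsLocalRing.residue A u0 = 0 := (IsLocalRing.residue_eq_zero_iff _).2 hU0
  have hv0' : IsLocalRing.residue A v0 = 0 := (IsLocalRing.residue_eq_zero_iff _).2 hV0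
  have hxx := congrArg (IsLocalRing.residue A) xx
  have hxy := congrArg (IsLocalRing.residue A) xy
  have hyx := congrArg (IsLocalRing.residue A) yx
  have hyy := congrArg (IsLocalRing.residue A) yy
  simp only [map_mul, map_sub, map_add, map_zero, map_one, hβ', hu0', hv0', zero_mul, mul_zero,
    add_zero, zero_add, sub_zero] at hxx hxy hyx hyy
  have hdet : IsLocalRing.residue A (ux * vy - uy * vx) *
      IsLocalRing.residue A (s0 * t0' - s0' * t0) = 1 := by
    simp only [map_mul, map_sub]
    linear_combination (IsLocalRing.residue A uy * IsLocalRing.residue A s0' +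
      IsLocalRing.residue A vy * IsLocalRing.residue A t0') * hxx + hyy -
      (IsLocalRing.residue A ux * IsLocalRing.residue A s0' +
        IsLocalRing.residue A vx * IsLocalRing.residue A t0') * hxy
  have hD : IsUnit (ux * vy - uy * vx) := by
    rw [← IsLocalRing.notMem_maximalIdeal]
    intro hmem
    rw [(IsLocalRing.residue_eq_zero_iff _).2 hmem, zero_mul] at hdet
    exact zero_ne_one hdet
  have hu0 : u0 * (ux * vy - uy * vx) ∈ Ideal.span {β} := by
    rw [Ideal.mem_span_singleton']
    refine ⟨uy * gx - ux * gy, ?_⟩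
    linear_combination ux * ey - uy * ex
  have hu0'' : u0 ∈ Ideal.span {β} := (Ideal.mul_unit_mem_iff_mem _ hD).1 hu0
  have : α = u0 * v0 + g0 * β := by linear_combination e0
  rw [this]
  exact Ideal.add_mem _ (Ideal.mul_mem_right _ _ hu0'')
    (Ideal.mul_mem_left _ _ (Ideal.subset_span rfl))

end Groth.Agent.Helper8.PSXY
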