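import Mathlib
import Groth.Prelude.Def_EGA41
import Groth.Prelude.Def_FSRel
import Groth.Agent.S2464
set_option autoImplicit false

universe u

namespace Groth.Agent.Helper8.PSm

open EGA41

theorem s4519 (p : ℕ) [Fact p.Prime] {R A B : Type u} [CommRing R] [CommRing A]
    [CommRing B] [Algebra R A] [Algebra A B] [Algebra R B] [IsScalarTower R A B] [CharP B p]
    (hinj : Function.Injective (algebraMap A B)) (hpow : ∀ b : B, b ^ p ∈ Set.range (algebraMap A B))
    (hR : Set.range (algebraMap R B) = Set.range fun b : B => b ^ p)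
    {ι : Type u} (x : ι → B) (hx : EGA41.IsPBasis p A x) :
    EGA41.IsFormallySmoothRel R A B := by
  intro C _ _ _ _ J hJ u₀ ⟨u, hu⟩
  have hp2 : 2 ≤ p := (Fact.out : p.Prime).two_le
  -- the fibre product
  let E : Subalgebra A (C × B) :=
    AlgHom.equalizer ((Ideal.Quotient.mkₐ A J).comp (AlgHom.fst A C B)) (u₀.comp (AlgHom.snd A C B))
  have hE : ∀ z : C × B, z ∈ E ↔ Ideal.Quotient.mk J z.1 = u₀ z.2 := fun z => Iff.rfl
  let q : E →ₐ[A] B := (AlgHom.snd A C B).comp E.val
  have hq : Function.Surjective q := by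
    intro b
    obtain ⟨c, hc⟩ := Ideal.Quotient.mk_surjective (u₀ b)
    exact ⟨⟨(c, b), (hE _).mpr hc⟩, rfl⟩
  have hker : ∀ z : E, z ∈ RingHom.ker q.toRingHom → (z : C × B).1 ∈ J ∧ (z : C × B).2 = 0 := by
    intro z hz
    have h2 : (z : C × B).2 = 0 := hz
    refine ⟨?_, h2⟩
    have := (hE z).mp z.2
    rw [h2, map_zero, Ideal.Quotient.eq_zero_iff_mem] at this
    exact this
  have hK : RingHom.ker q.toRingHom ^ p = ⊥ := by
    rw [eq_bot_iff]
    refine (Ideal.pow_le_pow_right hp2).trans ?_
    rw [pow_two, Ideal.mul_le]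
    intro y hy z hz
    obtain ⟨hy1, hy2⟩ := hker y hy
    obtain ⟨hz1, hz2⟩ := hker z hz
    rw [Ideal.mem_bot]
    apply Subtype.ext
    apply Prod.ext
    · show (y : C × B).1 * (z : C × B).1 = 0
      have : (y : C × B).1 * (z : C × B).1 ∈ J ^ 2 := by
        rw [pow_two]; exact Ideal.mul_mem_mul hy1 hz1
      rw [hJ] at this
      exact this
    · show (y : C × B).2 * (z : C × B).2 = 0
      rw [hy2, zero_mul]
  -- characteristic p in C
  have hpA : (p : A) = 0 := by
    apply hinj
    rw [map_natCast, map_zero]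
    exact CharP.cast_eq_zero B p
  have hpC : (p : C) = 0 := by
    have := congrArg (algebraMap A C) hpA
    rwa [map_natCast, map_zero] at this
  -- p-th powers in C only depend on the class mod J
  have hpowC : ∀ c c' : C, Ideal.Quotient.mk J c = Ideal.Quotient.mk J c' → c ^ p = c' ^ p := by
    intro c c' h
    rw [Ideal.Quotient.eq] at h
    obtain ⟨j, hj⟩ : ∃ j, j ∈ J ∧ c = c' + j := ⟨c - c', h, by ring⟩
    rcases subsingleton_or_nontrivial C with hC | hC
    · exact Subsingleton.elim _ _
    · haveI : CharP C p := (CharP.charP_iff_prime_eq_zero (Fact.out : p.Prime)).mpr hpC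
      rw [hj.2, add_pow_char]
      have hj2 : j ^ 2 = 0 := by
        have : j ^ 2 ∈ J ^ 2 := Ideal.pow_mem_pow hj.1 2
        rw [hJ] at this
        exact this
      have : j ^ p = 0 := by
        obtain ⟨m, rfl⟩ : ∃ m, p = 2 + m := ⟨p - 2, by omega⟩
        rw [pow_add, hj2, zero_mul]
      rw [this, add_zero]
  -- the power condition
  have hcond : ∀ (z : E) (a : A), algebraMap A B a = q z ^ p → algebraMap A E a = z ^ p := by
    intro z a ha
    have hz2 : q z = (z : C × B).2 := rfl
    obtain ⟨r, hr⟩ : (z : C × B).2 ^ p ∈ Set.range (algebraMap R B) := by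
      rw [hR]; exact ⟨_, rfl⟩
    have har : a = algebraMap R A r := by
      apply hinj
      rw [ha, hz2, ← hr, ← IsScalarTower.algebraMap_apply]
    apply Subtype.ext
    apply Prod.ext
    · show algebraMap A C a = (z : C × B).1 ^ p
      have h1 : Ideal.Quotient.mk J (z : C × B).1 = Ideal.Quotient.mk J (u (z : C × B).2) := by
        rw [(hE z).mp z.2]
        have := congrArg (fun f : B →ₐ[R] C ⧸ J => f (z : C × B).2) hu
        exact this.symm
      rw [hpowC _ _ h1, ← map_pow, ← hr, AlgHom.commutes, har, ← IsScalarTower.algebraMap_apply]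
    · show algebraMap A B a = (z : C × B).2 ^ p
      rw [ha, hz2]
  obtain ⟨v, hv⟩ := ((Groth.Agent.S2464.result p hinj hpow x hx q hq hK).1).mpr hcond
  refine ⟨((AlgHom.fst A C B).comp E.val).comp v, ?_⟩
  apply AlgHom.ext
  intro b
  have h1 : ((v b : E) : C × B).2 = b := by
    have := congrArg (fun f : B →ₐ[A] B => f b) hv
    exact this
  have h2 := (hE (v b)).mp (v b).2
  rw [h1] at h2
  exact h2

end Groth.Agent.Helper8.PSm
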