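import Groth.Agent.Helper7.Perf6
import Groth.Agent.S0593

set_option autoImplicit false
universe u
open CategoryTheory AlgebraicGeometry

namespace Groth.Agent.Helper8.PerfAff
open FrobSch Groth.Agent.Helper7.Perf

theorem main (p : ℕ) [Fact p.Prime] {X Y XP YP : Scheme.{u}}
    [FrobSch.IsCharP X p] [FrobSch.IsCharP Y p] [FrobSch.IsCharP XP p] [FrobSch.IsCharP YP p]
    (πX : XP ⟶ X) (πY : YP ⟶ Y) (hX : FrobSch.IsPerfection πX p) (hY : FrobSch.IsPerfection πY p)
    (f : X ⟶ Y) (fP : XP ⟶ YP) (w : fP ≫ πY = πX ≫ f) :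
    AlgebraicGeometry.IsAffineHom f ↔ AlgebraicGeometry.IsAffineHom fP := by
  have hπX : IsAffineHom πX := IsPerfection.isAffineHom p πX hX
  have hπY : IsAffineHom πY := IsPerfection.isAffineHom p πY hY
  constructor
  · intro hf
    have h1 : IsAffineHom (fP ≫ πY) := by
      rw [w]; infer_instance
    exact MorphismProperty.of_postcomp (W := @IsAffineHom) (W' := @IsSeparated) fP πY inferInstance h1
  · intro hfP
    refine ⟨fun V hV => ?_⟩
    have hV' : IsAffineOpen (πY ⁻¹ᵁ V) := IsPerfection.isAffineOpen_preimage p πY hY hV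
    have h2 : IsAffineOpen (fP ⁻¹ᵁ πY ⁻¹ᵁ V) := hV'.preimage fP
    rw [preimage_eq πX πY f fP w V] at h2
    have h3 := IsPerfection.restrict p πX hX (f ⁻¹ᵁ V)
    have hs : Surjective (πX ∣_ (f ⁻¹ᵁ V)) := IsPerfection.surjective p _ h3
    have hi : IsIntegralHom (πX ∣_ (f ⁻¹ᵁ V)) := IsPerfection.isIntegralHom p _ h3
    have ha : IsAffine (πX ⁻¹ᵁ f ⁻¹ᵁ V : Scheme.{u}) := h2
    exact Groth.Agent.S0593.result _ _ (πX ∣_ (f ⁻¹ᵁ V))

end Groth.Agent.Helper8.PerfAff
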