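import Mathlib

set_option autoImplicit false

universe u

namespace Groth.Agent.Helper8.PerfFp

open Function

/-- A directed system of perfect `B`-algebras together with a compatible family of maps to `R`
exhibiting `R` (concretely) as its filtered colimit. -/
structure Sys (p : ℕ) (B : Type u) [CommRing B] (R : Type u) [CommRing R] [Algebra B R] where
  J : Type u
  [pre : Preorder J]
  [dir : IsDirected J (· ≤ ·)]
  [ne : Nonempty J]
  S : J → Type u
  [ring : ∀ j, CommRing (S j)]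
  [alg : ∀ j, Algebra B (S j)]
  perf : ∀ j, ((p : ℕ) : S j) = 0 ∧ Function.Bijective fun y : S j => y ^ p
  t : ∀ {i j : J}, i ≤ j → S i →ₐ[B] S j
  t_id : ∀ (i : J) (x : S i), t (le_refl i) x = x
  t_comp : ∀ {i j k : J} (h : i ≤ j) (h' : j ≤ k) (x : S i), t h' (t h x) = t (h.trans h') x
  ι : ∀ j, S j →ₐ[B] R
  ι_t : ∀ {i j : J} (h : i ≤ j) (x : S i), ι j (t h x) = ι i x
  surj : ∀ r : R, ∃ j x, ι j x = r
  inj : ∀ (i : J) (x y : S i), ι i x = ι i y → ∃ (j : J) (h : i ≤ j), t h x = t h y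

attribute [instance] Sys.pre Sys.dir Sys.ne Sys.ring Sys.alg

/-- Algebraic form of compactness in perfect `B`-algebras: the identity of `R` factors through a
term of any such system. -/
def IsCompactAlg (p : ℕ) (B : Type u) [CommRing B] (R : Type u) [CommRing R] [Algebra B R] : Prop :=
  ∀ σ : Sys p B R, ∃ (j : σ.J) (g : R →ₐ[B] σ.S j), ∀ r, σ.ι j (g r) = r

section Basic

variable {p : ℕ} {L : Type*} [CommRing L]

theorem pow_p_pow_inj (hL : Injective fun y : L => y ^ p) (n : ℕ) :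
    Injective fun y : L => y ^ p ^ n := by
  induction n with
  | zero => intro a b h; simpa using h
  | succ n ih =>
    intro a b h
    apply ih
    apply hL
    simp only at h ⊢
    rw [← pow_mul, ← pow_mul, ← pow_succ]
    exact h

theorem eq_zero_of_pow_eq_zero' (hp : 1 < p) (hL : Injective fun y : L => y ^ p) {x : L} {m : ℕ}
    (h : x ^ m = 0) : x = 0 := by
  apply pow_p_pow_inj hL m
  simp only
  rw [zero_pow (by positivity)]
  exact pow_eq_zero_of_le (Nat.lt_pow_self hp).le h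

end Basic

section Step1

variable {p : ℕ} [Fact p.Prime] {B : Type u} [CommRing B] {R : Type u} [CommRing R] [Algebra B R]
  [CharP R p] [PerfectRing R p]

theorem frob_inj (p : ℕ) [Fact p.Prime] (R : Type u) [CommRing R] [CharP R p] [PerfectRing R p] :
    Injective fun y : R => y ^ p := by
  intro a b h
  exact injective_frobenius R p (by simpa [frobenius_def] using h)

theorem pow_mem_of_le {S : Subalgebra B R} {a : R} {n N : ℕ} (h : a ^ p ^ n ∈ S) (hn : n ≤ N) :
    a ^ p ^ N ∈ S := by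
  obtain ⟨k, rfl⟩ := Nat.exists_eq_add_of_le hn
  rw [pow_add, pow_mul]
  exact pow_mem h _

variable (p) in
/-- The `p`-radical closure of a subalgebra. -/
def pClosure (S : Subalgebra B R) : Subalgebra B R where
  carrier := {a | ∃ n : ℕ, a ^ p ^ n ∈ S}
  mul_mem' := by
    rintro a b ⟨n, ha⟩ ⟨m, hb⟩
    exact ⟨max n m, by
      rw [mul_pow]
      exact mul_mem (pow_mem_of_le ha (le_max_left _ _)) (pow_mem_of_le hb (le_max_right _ _))⟩
  add_mem' := by
    rintro a b ⟨n, ha⟩ ⟨m, hb⟩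
    exact ⟨max n m, by
      rw [add_pow_char_pow]
      exact add_mem (pow_mem_of_le ha (le_max_left _ _)) (pow_mem_of_le hb (le_max_right _ _))⟩
  algebraMap_mem' r := ⟨0, by simp⟩

theorem mem_pClosure {S : Subalgebra B R} {a : R} : a ∈ pClosure p S ↔ ∃ n : ℕ, a ^ p ^ n ∈ S :=
  Iff.rfl

theorem pClosure_mono {S S' : Subalgebra B R} (h : S ≤ S') : pClosure p S ≤ pClosure p S' :=
  fun _ ⟨n, hn⟩ => ⟨n, h hn⟩

theorem pClosure_perf (S : Subalgebra B R) :
    ((p : ℕ) : pClosure p S) = 0 ∧ Bijective fun y : pClosure p S => y ^ p := by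
  refine ⟨Subtype.ext (by simp), ?_, ?_⟩
  · intro a b h
    apply Subtype.ext
    apply frob_inj p R
    simpa using congrArg Subtype.val h
  · rintro ⟨a, n, ha⟩
    obtain ⟨b, hb⟩ := surjective_frobenius R p a
    rw [frobenius_def] at hb
    refine ⟨⟨b, n + 1, ?_⟩, Subtype.ext hb⟩
    rw [pow_succ', pow_mul, hb]
    exact ha

variable (p B R) in
/-- terms of the first system -/
abbrev S1 (s : Finset R) : Subalgebra B R := pClosure p (Algebra.adjoin B (s : Set R))

theorem S1_mono {s s' : Finset R} (h : s ≤ s') : S1 p B R s ≤ S1 p B R s' :=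
  pClosure_mono (Algebra.adjoin_mono (Finset.coe_subset.2 h))

theorem S1_t_id (s : Finset R) (x : S1 p B R s) :
    Subalgebra.inclusion (S1_mono (le_refl s)) x = x := by
  apply Subtype.ext
  rw [Subalgebra.coe_inclusion]

theorem S1_t_comp {s s' s'' : Finset R} (h : s ≤ s') (h' : s' ≤ s'') (x : S1 p B R s) :
    Subalgebra.inclusion (S1_mono h') (Subalgebra.inclusion (S1_mono h) x) =
      Subalgebra.inclusion (S1_mono (h.trans h')) x :=
  Subalgebra.inclusion_inclusion _ _ _

theorem S1_surj (r : R) : ∃ (s : Finset R) (x : S1 p B R s), (S1 p B R s).val x = r := by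
  classical
  refine ⟨{r}, ⟨r, 0, ?_⟩, rfl⟩
  rw [pow_zero, pow_one]
  exact Algebra.subset_adjoin (by simp)

theorem S1_inj (s : Finset R) (x y : S1 p B R s) (h : (S1 p B R s).val x = (S1 p B R s).val y) :
    ∃ (s' : Finset R) (h : s ≤ s'),
      Subalgebra.inclusion (S1_mono h) x = Subalgebra.inclusion (S1_mono h) y :=
  ⟨s, le_rfl, by rw [show x = y from Subtype.ext h]⟩

theorem S1_ι_t {s s' : Finset R} (h : s ≤ s') (x : S1 p B R s) :
    (S1 p B R s').val (Subalgebra.inclusion (S1_mono h) x) = (S1 p B R s).val x := by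
  rw [Subalgebra.val_apply, Subalgebra.val_apply, Subalgebra.coe_inclusion]

open Classical in
variable (p B R) in
/-- The system of `p`-radical closures of finitely generated subalgebras. -/
noncomputable def sys1 : Sys p B R where
  J := Finset R
  S s := S1 p B R s
  perf s := pClosure_perf _
  t h := Subalgebra.inclusion (S1_mono h)
  t_id := S1_t_id
  t_comp := S1_t_comp
  ι s := (S1 p B R s).val
  ι_t := S1_ι_t
  surj := S1_surj
  inj := S1_inj

theorem step1 (h : IsCompactAlg p B R) :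
    ∃ s : Finset R, ∀ r : R, ∃ n : ℕ, r ^ p ^ n ∈ Algebra.adjoin B (s : Set R) := by
  obtain ⟨s, g, hg⟩ : ∃ (s : Finset R) (g : R →ₐ[B] S1 p B R s), ∀ r, ((g r : S1 p B R s) : R) = r :=
    h (sys1 p B R)
  refine ⟨s, fun r => ?_⟩
  obtain ⟨n, hn⟩ := (g r).2
  exact ⟨n, by rw [← hg r]; exact hn⟩

end Step1

theorem ppow_pos (p : ℕ) [Fact p.Prime] (n : ℕ) : 0 < p ^ n := pow_pos (Fact.out : p.Prime).pos n

theorem ppow_ne (p : ℕ) [Fact p.Prime] (n : ℕ) : p ^ n ≠ 0 := (ppow_pos p n).ne'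

section Step2

variable {p : ℕ} [Fact p.Prime] {B : Type u} [CommRing B] [CharP B p] {R : Type u} [CommRing R]
  [Algebra B R] [CharP R p] [PerfectRing R p]
variable {σ : Type u} [Fintype σ] (v : σ → R)

/-- the perfection of the polynomial ring is a `B`-algebra -/
noncomputable local instance algPC : Algebra B (PerfectClosure (MvPolynomial σ B) p) :=
  ((PerfectClosure.of (MvPolynomial σ B) p).comp (algebraMap B (MvPolynomial σ B))).toAlgebra

theorem algebraMap_PC (b : B) : algebraMap B (PerfectClosure (MvPolynomial σ B) p) b =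
    PerfectClosure.of (MvPolynomial σ B) p (MvPolynomial.C b) := rfl

theorem mk_pow_eq_of (n : ℕ) (q : MvPolynomial σ B) :
    (PerfectClosure.mk (MvPolynomial σ B) p (n, q)) ^ p ^ n = PerfectClosure.of _ p q := by
  rw [← iterate_frobenius, PerfectClosure.iterate_frobenius_mk]

variable (p B) in
/-- the extension of evaluation at `v` to the perfection -/
noncomputable def Phi : PerfectClosure (MvPolynomial σ B) p →+* R :=
  PerfectClosure.lift (MvPolynomial σ B) p R
    (MvPolynomial.aeval v : MvPolynomial σ B →ₐ[B] R).toRingHom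

theorem Phi_of (q : MvPolynomial σ B) :
    Phi p B v (PerfectClosure.of _ p q) = MvPolynomial.aeval v q := by
  have := (PerfectClosure.lift (MvPolynomial σ B) p R).symm_apply_apply
    (MvPolynomial.aeval v : MvPolynomial σ B →ₐ[B] R).toRingHom
  exact RingHom.congr_fun this q

variable (p B) in
/-- `Phi` as an algebra map -/
noncomputable def PhiA : PerfectClosure (MvPolynomial σ B) p →ₐ[B] R :=
  { Phi p B v with
    commutes' := fun b => by
      show Phi p B v (algebraMap B _ b) = _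
      rw [algebraMap_PC, Phi_of, MvPolynomial.aeval_C] }

theorem PhiA_apply (x : PerfectClosure (MvPolynomial σ B) p) : PhiA p B v x = Phi p B v x := rfl

theorem Phi_surj (hs : ∀ r : R, ∃ n : ℕ, r ^ p ^ n ∈ Algebra.adjoin B (Set.range v)) :
    Surjective (Phi p B v) := by
  intro r
  obtain ⟨n, hn⟩ := hs r
  rw [Algebra.adjoin_range_eq_range_aeval] at hn
  obtain ⟨q, hq⟩ := hn
  refine ⟨PerfectClosure.mk _ p (n, q), ?_⟩
  apply pow_p_pow_inj (frob_inj p R) n
  simp only
  rw [← map_pow, mk_pow_eq_of, Phi_of]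
  exact hq

variable (B) in
/-- kernel of the evaluation -/
noncomputable def kerI : Ideal (MvPolynomial σ B) :=
  RingHom.ker (MvPolynomial.aeval v : MvPolynomial σ B →ₐ[B] R)

theorem mem_kerI {q : MvPolynomial σ B} : q ∈ kerI B v ↔ MvPolynomial.aeval v q = 0 :=
  RingHom.mem_ker

variable (p) in
/-- generators -/
noncomputable def gen (T : Finset (kerI B v)) : Set (PerfectClosure (MvPolynomial σ B) p) :=
  (fun t : kerI B v => PerfectClosure.of _ p (t : MvPolynomial σ B)) '' (T : Set (kerI B v))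

variable (p) in
/-- the radical ideal generated by a finite part of the kernel -/
noncomputable def aT (T : Finset (kerI B v)) : Ideal (PerfectClosure (MvPolynomial σ B) p) :=
  (Ideal.span (gen p v T)).radical

theorem aT_mono {T T' : Finset (kerI B v)} (h : T ≤ T') : aT p v T ≤ aT p v T' :=
  Ideal.radical_mono (Ideal.span_mono (Set.image_mono
    (show (T : Set (kerI B v)) ⊆ (T' : Set (kerI B v)) from Finset.coe_subset.2 h)))

theorem ker_Phi_radical {x : PerfectClosure (MvPolynomial σ B) p} {m : ℕ}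
    (h : x ^ m ∈ RingHom.ker (Phi p B v)) : x ∈ RingHom.ker (Phi p B v) := by
  rw [RingHom.mem_ker] at h ⊢
  rw [map_pow] at h
  exact eq_zero_of_pow_eq_zero' (Fact.out : p.Prime).one_lt (frob_inj p R) h

theorem aT_le_ker (T : Finset (kerI B v)) : aT p v T ≤ RingHom.ker (Phi p B v) := by
  intro x hx
  obtain ⟨m, hm⟩ := hx
  apply ker_Phi_radical v (m := m)
  refine (Ideal.span_le.2 ?_) hm
  rintro _ ⟨t, _, rfl⟩
  rw [SetLike.mem_coe, RingHom.mem_ker, Phi_of]
  exact (mem_kerI v).1 t.2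

theorem perfQ (𝔞 : Ideal (PerfectClosure (MvPolynomial σ B) p)) (h𝔞 : 𝔞.IsRadical) :
    ((p : ℕ) : PerfectClosure (MvPolynomial σ B) p ⧸ 𝔞) = 0 ∧
      Bijective fun y : PerfectClosure (MvPolynomial σ B) p ⧸ 𝔞 => y ^ p := by
  refine ⟨?_, ?_, ?_⟩
  · rw [← map_natCast (Ideal.Quotient.mk 𝔞), CharP.cast_eq_zero, map_zero]
  · intro x y h
    obtain ⟨a, rfl⟩ := Ideal.Quotient.mk_surjective x
    obtain ⟨b, rfl⟩ := Ideal.Quotient.mk_surjective y
    simp only at h
    rw [← map_pow, ← map_pow, Ideal.Quotient.eq, ← sub_pow_char] at h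
    rw [Ideal.Quotient.eq]
    exact h𝔞 ⟨p, h⟩
  · intro y
    obtain ⟨a, rfl⟩ := Ideal.Quotient.mk_surjective y
    obtain ⟨b, hb⟩ := surjective_frobenius (PerfectClosure (MvPolynomial σ B) p) p a
    rw [frobenius_def] at hb
    exact ⟨Ideal.Quotient.mk 𝔞 b, by simp only; rw [← map_pow, hb]⟩

theorem exists_ge_mk_eq (T : Finset (kerI B v)) (a b : PerfectClosure (MvPolynomial σ B) p)
    (h : Phi p B v a = Phi p B v b) :
    ∃ (T' : Finset (kerI B v)) (_ : T ≤ T'),
      Ideal.Quotient.mk (aT p v T') a = Ideal.Quotient.mk (aT p v T') b := by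
  classical
  obtain ⟨⟨n, q⟩, hq⟩ := PerfectClosure.mk_surjective _ p (a - b)
  have hd : (a - b) ^ p ^ n = PerfectClosure.of _ p q := by
    rw [← hq]
    exact mk_pow_eq_of n q
  have hqI : q ∈ kerI B v := by
    rw [mem_kerI, ← Phi_of (p := p), ← hd, map_pow, map_sub, h, sub_self, zero_pow (ppow_ne p n)]
  refine ⟨insert ⟨q, hqI⟩ T, Finset.subset_insert _ _, ?_⟩
  rw [Ideal.Quotient.eq]
  refine ⟨p ^ n, ?_⟩
  rw [hd]
  apply Ideal.subset_span
  exact ⟨⟨q, hqI⟩, by simp, rfl⟩

theorem factor_factor {A : Type*} [CommRing A] {I J K : Ideal A} (h : I ≤ J) (h' : J ≤ K)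
    (x : A ⧸ I) :
    Ideal.Quotient.factor h' (Ideal.Quotient.factor h x) = Ideal.Quotient.factor (h.trans h') x := by
  obtain ⟨a, rfl⟩ := Ideal.Quotient.mk_surjective x
  simp only [Ideal.Quotient.factor_mk]

variable (p) in
/-- terms of the second system -/
abbrev S2 (T : Finset (kerI B v)) : Type u := PerfectClosure (MvPolynomial σ B) p ⧸ aT p v T

variable (p) in
/-- transition maps -/
noncomputable def t2 {T T' : Finset (kerI B v)} (h : T ≤ T') : S2 p v T →ₐ[B] S2 p v T' :=
  Ideal.Quotient.factorₐ B (aT_mono v h)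

theorem t2_mk {T T' : Finset (kerI B v)} (h : T ≤ T') (a : PerfectClosure (MvPolynomial σ B) p) :
    t2 p v h (Ideal.Quotient.mk _ a) = Ideal.Quotient.mk _ a := by
  rw [t2, Ideal.Quotient.factorₐ_apply, Ideal.Quotient.factor_mk]

variable (p) in
/-- cocone maps -/
noncomputable def ι2 (T : Finset (kerI B v)) : S2 p v T →ₐ[B] R :=
  Ideal.Quotient.liftₐ (aT p v T) (PhiA p B v) (fun a ha => aT_le_ker v T ha)

theorem ι2_mk (T : Finset (kerI B v)) (a : PerfectClosure (MvPolynomial σ B) p) :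
    ι2 p v T (Ideal.Quotient.mk _ a) = Phi p B v a := by
  rw [ι2, Ideal.Quotient.liftₐ_apply, Ideal.Quotient.lift_mk]
  rfl

theorem t2_id (T : Finset (kerI B v)) (x : S2 p v T) : t2 p v (le_refl T) x = x := by
  obtain ⟨a, rfl⟩ := Ideal.Quotient.mk_surjective x
  rw [t2_mk]

theorem t2_comp {T T' T'' : Finset (kerI B v)} (h : T ≤ T') (h' : T' ≤ T'') (x : S2 p v T) :
    t2 p v h' (t2 p v h x) = t2 p v (h.trans h') x := by
  obtain ⟨a, rfl⟩ := Ideal.Quotient.mk_surjective x
  rw [t2_mk, t2_mk, t2_mk]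

theorem ι2_t2 {T T' : Finset (kerI B v)} (h : T ≤ T') (x : S2 p v T) :
    ι2 p v T' (t2 p v h x) = ι2 p v T x := by
  obtain ⟨a, rfl⟩ := Ideal.Quotient.mk_surjective x
  rw [t2_mk, ι2_mk, ι2_mk]

theorem ι2_surj (hs : ∀ r : R, ∃ n : ℕ, r ^ p ^ n ∈ Algebra.adjoin B (Set.range v)) (r : R) :
    ∃ (T : Finset (kerI B v)) (x : S2 p v T), ι2 p v T x = r := by
  obtain ⟨x, hx⟩ := Phi_surj v hs r
  exact ⟨∅, Ideal.Quotient.mk _ x, by rw [ι2_mk, hx]⟩

theorem ι2_inj (T : Finset (kerI B v)) (x y : S2 p v T) (h : ι2 p v T x = ι2 p v T y) :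
    ∃ (T' : Finset (kerI B v)) (h : T ≤ T'), t2 p v h x = t2 p v h y := by
  obtain ⟨a, rfl⟩ := Ideal.Quotient.mk_surjective x
  obtain ⟨b, rfl⟩ := Ideal.Quotient.mk_surjective y
  rw [ι2_mk, ι2_mk] at h
  obtain ⟨T', hT, hab⟩ := exists_ge_mk_eq v T a b h
  exact ⟨T', hT, by rw [t2_mk, t2_mk, hab]⟩

open Classical in
variable (p) in
/-- the second system: radical quotients of the perfection of the polynomial ring -/
noncomputable def sys2 (hs : ∀ r : R, ∃ n : ℕ, r ^ p ^ n ∈ Algebra.adjoin B (Set.range v)) :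
    Sys p B R where
  J := Finset (kerI B v)
  S T := S2 p v T
  perf T := perfQ _ (Ideal.radical_isRadical _)
  t h := t2 p v h
  t_id := t2_id v
  t_comp := t2_comp v
  ι T := ι2 p v T
  ι_t := ι2_t2 v
  surj := ι2_surj v hs
  inj := ι2_inj v

theorem exists_T_ker_le (hs : ∀ r : R, ∃ n : ℕ, r ^ p ^ n ∈ Algebra.adjoin B (Set.range v))
    (hc : IsCompactAlg p B R) :
    ∃ T : Finset (kerI B v), RingHom.ker (Phi p B v) ≤ aT p v T := by
  classical
  obtain ⟨T, g, hg⟩ : ∃ (T : Finset (kerI B v)) (g : R →ₐ[B] S2 p v T),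
      ∀ r, ι2 p v T (g r) = r := hc (sys2 p v hs)
  have key : ∀ i : σ, ∃ (T' : Finset (kerI B v)) (h : T ≤ T'),
      t2 p v h (g (v i)) = Ideal.Quotient.mk (aT p v T')
        (PerfectClosure.of _ p (MvPolynomial.X i)) := by
    intro i
    obtain ⟨a, ha⟩ := Ideal.Quotient.mk_surjective (g (v i))
    have h1 : Phi p B v a = Phi p B v (PerfectClosure.of _ p (MvPolynomial.X i)) := by
      rw [← ι2_mk v T a, ha, hg, Phi_of, MvPolynomial.aeval_X]
    obtain ⟨T', hT, hab⟩ := exists_ge_mk_eq v T a _ h1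
    exact ⟨T', hT, by rw [← ha, t2_mk, hab]⟩
  choose Tf hTf hTeq using key
  let T' : Finset (kerI B v) := T ∪ Finset.univ.biUnion Tf
  have hTT' : T ≤ T' := Finset.subset_union_left
  have hTf' : ∀ i, Tf i ≤ T' := fun i =>
    (Finset.subset_biUnion_of_mem Tf (Finset.mem_univ i)).trans Finset.subset_union_right
  let g' : R →ₐ[B] S2 p v T' := (t2 p v hTT').comp g
  have hX : ∀ i, g' (v i) = Ideal.Quotient.mk (aT p v T')
      (PerfectClosure.of _ p (MvPolynomial.X i)) := by
    intro i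
    have := congrArg (t2 p v (hTf' i)) (hTeq i)
    rw [t2_comp, t2_mk] at this
    exact this
  have h12 : (g'.toRingHom.comp (Phi p B v)).comp (PerfectClosure.of _ p) =
      (Ideal.Quotient.mk (aT p v T')).comp (PerfectClosure.of _ p) := by
    apply MvPolynomial.ringHom_ext
    · intro b
      simp only [RingHom.comp_apply, Phi_of, MvPolynomial.aeval_C]
      show g' (algebraMap B R b) = _
      rw [g'.commutes]
      rfl
    · intro i
      simp only [RingHom.comp_apply, Phi_of, MvPolynomial.aeval_X]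
      exact hX i
  have h12' : ∀ x, g' (Phi p B v x) = Ideal.Quotient.mk (aT p v T') x := by
    intro x
    obtain ⟨⟨n, q⟩, rfl⟩ := PerfectClosure.mk_surjective _ p x
    apply pow_p_pow_inj (perfQ (aT p v T') (Ideal.radical_isRadical _)).2.1 n
    simp only
    rw [← map_pow, ← map_pow, ← map_pow, mk_pow_eq_of]
    exact RingHom.congr_fun h12 q
  refine ⟨T', fun x hx => ?_⟩
  rw [← Ideal.Quotient.eq_zero_iff_mem, ← h12' x, RingHom.mem_ker.1 hx, map_zero]

/-- the finitely generated ideal -/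
noncomputable def bT (T : Finset (kerI B v)) : Ideal (MvPolynomial σ B) :=
  Ideal.span ((fun t : kerI B v => (t : MvPolynomial σ B)) '' (T : Set (kerI B v)))

theorem bT_le (T : Finset (kerI B v)) : bT v T ≤ kerI B v := by
  rw [bT, Ideal.span_le]
  rintro _ ⟨t, _, rfl⟩
  exact t.2

theorem bT_fg (T : Finset (kerI B v)) : (bT v T).FG :=
  Submodule.fg_span ((Finset.finite_toSet T).image _)

theorem of_pow_mem_span {T : Finset (kerI B v)} {x : PerfectClosure (MvPolynomial σ B) p}
    (hx : x ∈ Ideal.span (gen p v T)) :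
    ∃ (n : ℕ) (b : MvPolynomial σ B), b ∈ bT v T ∧ x ^ p ^ n = PerfectClosure.of _ p b := by
  induction hx using Submodule.span_induction with
  | mem x hx =>
    obtain ⟨t, ht, rfl⟩ := hx
    exact ⟨0, t, Ideal.subset_span ⟨t, ht, rfl⟩, by simp⟩
  | zero => exact ⟨0, 0, zero_mem _, by simp⟩
  | add x y _ _ hx hy =>
    obtain ⟨n, b, hb, hxb⟩ := hx
    obtain ⟨m, c, hc, hyc⟩ := hy
    refine ⟨n + m, b ^ p ^ m + c ^ p ^ n,
      add_mem (Ideal.pow_mem_of_mem _ hb _ (ppow_pos p m))
        (Ideal.pow_mem_of_mem _ hc _ (ppow_pos p n)), ?_⟩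
    rw [add_pow_char_pow, map_add, map_pow, map_pow, ← hxb, ← hyc, ← pow_mul, ← pow_mul,
      ← pow_add, ← pow_add, add_comm m n]
  | smul a x _ hx =>
    obtain ⟨n, b, hb, hxb⟩ := hx
    obtain ⟨⟨m, q⟩, rfl⟩ := PerfectClosure.mk_surjective _ p a
    refine ⟨n + m, q ^ p ^ n * b ^ p ^ m,
      Ideal.mul_mem_left _ _ (Ideal.pow_mem_of_mem _ hb _ (ppow_pos p m)), ?_⟩
    rw [smul_eq_mul, mul_pow, map_mul, map_pow, map_pow, ← hxb, ← mk_pow_eq_of m q, ← pow_mul,
      ← pow_mul, ← pow_add, ← pow_add, add_comm m n]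

theorem main_of_gens (hs : ∀ r : R, ∃ n : ℕ, r ^ p ^ n ∈ Algebra.adjoin B (Set.range v))
    (hc : IsCompactAlg p B R) :
    ∃ (A₀ : Type u) (_ : CommRing A₀) (_ : Algebra B A₀) (_ : Algebra.FinitePresentation B A₀)
      (k : A₀ →+* R), k.comp (algebraMap B A₀) = algebraMap B R ∧ IsPRadical k p := by
  obtain ⟨T, hT⟩ := exists_T_ker_le v hs hc
  have hle : bT v T ≤ RingHom.ker (MvPolynomial.aeval v : MvPolynomial σ B →ₐ[B] R).toRingHom :=
    bT_le v T
  refine ⟨MvPolynomial σ B ⧸ bT v T, inferInstance, inferInstance,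
    Algebra.FinitePresentation.quotient (bT_fg v T),
    Ideal.Quotient.lift (bT v T) (MvPolynomial.aeval v : MvPolynomial σ B →ₐ[B] R).toRingHom
      (fun a ha => RingHom.mem_ker.1 (hle ha)), ?_, ?_, ?_⟩
  · ext b
    simp only [RingHom.comp_apply]
    rw [← Ideal.Quotient.mk_algebraMap, Ideal.Quotient.lift_mk]
    exact (MvPolynomial.aeval v : MvPolynomial σ B →ₐ[B] R).commutes b
  · intro x
    obtain ⟨n, hn⟩ := hs x
    rw [Algebra.adjoin_range_eq_range_aeval] at hn
    obtain ⟨q, hq⟩ := hn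
    exact ⟨n, Ideal.Quotient.mk _ q, by rw [Ideal.Quotient.lift_mk]; exact hq⟩
  · intro y hy
    obtain ⟨q, rfl⟩ := Ideal.Quotient.mk_surjective y
    rw [RingHom.mem_ker, Ideal.Quotient.lift_mk] at hy
    have hy' : MvPolynomial.aeval v q = 0 := hy
    have h1 : PerfectClosure.of _ p q ∈ RingHom.ker (Phi p B v) := by
      rw [RingHom.mem_ker, Phi_of, hy']
    obtain ⟨N, hN⟩ := hT h1
    obtain ⟨n, b, hb, hxb⟩ := of_pow_mem_span v hN
    rw [← map_pow, ← map_pow] at hxb
    obtain ⟨z, hz⟩ := (PerfectClosure.mk_eq_iff _ p (0, (q ^ N) ^ p ^ n) (0, b)).1 hxb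
    simp only [zero_add, iterate_frobenius] at hz
    rw [pNilradical_prime (Fact.out : p.Prime), mem_nilradical]
    refine ⟨N * p ^ n * p ^ z, ?_⟩
    rw [← map_pow, Ideal.Quotient.eq_zero_iff_mem, pow_mul, pow_mul, hz]
    exact Ideal.pow_mem_of_mem _ hb _ (ppow_pos p z)

end Step2

section Main

variable {p : ℕ} [Fact p.Prime] {B : Type u} [CommRing B] [CharP B p] {R : Type u} [CommRing R]
  [Algebra B R] [CharP R p] [PerfectRing R p]

theorem main_alg (hc : IsCompactAlg p B R) :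
    ∃ (A₀ : Type u) (_ : CommRing A₀) (_ : Algebra B A₀) (_ : Algebra.FinitePresentation B A₀)
      (k : A₀ →+* R), k.comp (algebraMap B A₀) = algebraMap B R ∧ IsPRadical k p := by
  obtain ⟨s, hs⟩ := step1 hc
  refine main_of_gens (σ := (s : Set R)) (fun i => (i : R)) ?_ hc
  intro r
  obtain ⟨n, hn⟩ := hs r
  exact ⟨n, by rw [Subtype.range_coe]; exact hn⟩

end Main

end Groth.Agent.Helper8.PerfFp
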