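import Groth.Agent.Helper8.PerfFpA

set_option autoImplicit false

universe u

open CategoryTheory CategoryTheory.Limits

namespace Groth.Agent.Helper8.PerfFp

variable {p : ℕ} {B : CommRingCat.{u}}

/-- the property of being a perfect `B`-algebra of characteristic `p` -/
abbrev PerfProp (p : ℕ) (B : CommRingCat.{u}) : ObjectProperty (Under B) :=
  fun Y => (p : Y.right) = 0 ∧ Function.Bijective fun y : Y.right => y ^ p

theorem hom_ext' {X Y : (PerfProp p B).FullSubcategory} {f g : X ⟶ Y}
    (h : ∀ x, f.hom.right.hom x = g.hom.right.hom x) : f = g := by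
  apply ObjectProperty.hom_ext
  apply Under.UnderMorphism.ext
  apply CommRingCat.hom_ext
  exact RingHom.ext h

variable (B) in
/-- object from algebra -/
def mkObj (S : Type u) [CommRing S] [Algebra B S]
    (h : ((p : ℕ) : S) = 0 ∧ Function.Bijective fun y : S => y ^ p) :
    (PerfProp p B).FullSubcategory :=
  ⟨Under.mk (CommRingCat.ofHom (algebraMap B S)), h⟩

/-- morphism from algebra map -/
def mkHom {S S' : Type u} [CommRing S] [Algebra B S] [CommRing S'] [Algebra B S']
    (h : ((p : ℕ) : S) = 0 ∧ Function.Bijective fun y : S => y ^ p)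
    (h' : ((p : ℕ) : S') = 0 ∧ Function.Bijective fun y : S' => y ^ p) (f : S →ₐ[B] S') :
    mkObj B S h ⟶ mkObj B S' h' :=
  ObjectProperty.homMk (Under.homMk (CommRingCat.ofHom f.toRingHom)
    (CommRingCat.hom_ext (RingHom.ext fun b => f.commutes b)))

theorem mkHom_apply {S S' : Type u} [CommRing S] [Algebra B S] [CommRing S'] [Algebra B S']
    (h : ((p : ℕ) : S) = 0 ∧ Function.Bijective fun y : S => y ^ p)
    (h' : ((p : ℕ) : S') = 0 ∧ Function.Bijective fun y : S' => y ^ p) (f : S →ₐ[B] S') (x : S) :
    (mkHom h h' f).hom.right.hom x = f x := rfl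

variable (A : (PerfProp p B).FullSubcategory)

/-- the algebra structure on the underlying ring -/
@[reducible] def algA : Algebra B A.obj.right := A.obj.hom.hom.toAlgebra

/-- morphism to `A` from algebra map -/
def toA {S : Type u} [CommRing S] [Algebra B S]
    (h : ((p : ℕ) : S) = 0 ∧ Function.Bijective fun y : S => y ^ p)
    (f : @AlgHom B S A.obj.right _ _ _ _ (algA A)) :
    mkObj B S h ⟶ A :=
  ObjectProperty.homMk (Under.homMk (CommRingCat.ofHom (@AlgHom.toRingHom B S A.obj.right _ _ _ _ (algA A) f))
    (CommRingCat.hom_ext (RingHom.ext fun b => @AlgHom.commutes B S A.obj.right _ _ _ _ (algA A) f b)))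

variable (σ : @Sys p B _ A.obj.right _ (algA A))

/-- the functor of the system -/
def sysFunctor : σ.J ⥤ (PerfProp p B).FullSubcategory where
  obj j := mkObj B (σ.S j) (σ.perf j)
  map f := mkHom _ _ (σ.t (leOfHom f))
  map_id j := hom_ext' fun x => σ.t_id j x
  map_comp f g := hom_ext' fun x => (σ.t_comp (leOfHom f) (leOfHom g) x).symm

/-- the cocone of the system -/
def sysCocone : Cocone (sysFunctor A σ) where
  pt := A
  ι :=
    { app := fun j => toA A (σ.perf j) (σ.ι j)
      naturality := fun i j f => hom_ext' fun x => by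
        letI := algA A
        exact σ.ι_t (leOfHom f) x }

attribute [local instance] IsFiltered.isConnected

/-- the cocone is colimiting -/
noncomputable def sysIsColimit : IsColimit (sysCocone A σ) := by
  letI := algA A
  haveI : IsFiltered σ.J := inferInstance
  refine isColimitOfReflects (PerfProp p B).ι ?_
  refine isColimitOfReflects (Under.forget B) ?_
  haveI : ReflectsColimit ((sysFunctor A σ ⋙ (PerfProp p B).ι) ⋙ Under.forget B)
      (forget CommRingCat) := reflectsColimit_of_reflectsIsomorphisms _ _
  refine isColimitOfReflects (forget CommRingCat) ?_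
  refine Types.FilteredColimit.isColimitOf' _ _ ?_ ?_
  · intro x
    obtain ⟨j, y, hy⟩ := σ.surj x
    exact ⟨j, y, hy.symm⟩
  · intro i x y h
    obtain ⟨j, hij, hj⟩ := σ.inj i x y h
    exact ⟨j, homOfLE hij, hj⟩

theorem isCompactAlg [IsFinitelyPresentable.{u} A] :
    @IsCompactAlg p B _ A.obj.right _ (algA A) := by
  letI := algA A
  intro σ
  obtain ⟨j, q, hq⟩ := IsFinitelyPresentable.exists_hom_of_isColimit (sysIsColimit A σ) (𝟙 A)
  have hw := Under.w q.hom
  refine ⟨j, { q.hom.right.hom with
    commutes' := fun b => ?_ }, fun r => ?_⟩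
  · exact congrArg (fun f => f.hom b) hw
  · have := congrArg (fun f => f.hom.right.hom r) hq
    exact this

end Groth.Agent.Helper8.PerfFp
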