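import Groth.Agent.Helper8.PerfFpB

set_option autoImplicit false

universe u

open CategoryTheory CategoryTheory.Limits

namespace Groth.Agent.Helper8.PerfFp

theorem main (p : ℕ) [Fact p.Prime] (B : CommRingCat.{u})
    [CharP B p] [PerfectRing B p]
    (A : ObjectProperty.FullSubcategory fun Y : Under B =>
      (p : Y.right) = 0 ∧ Function.Bijective fun y : Y.right => y ^ p)
    [IsFinitelyPresentable.{u} A] :
    ∃ (A₀ : Type u) (_ : CommRing A₀) (_ : Algebra B A₀) (_ : Algebra.FinitePresentation B A₀)
      (k : A₀ →+* A.obj.right), k.comp (algebraMap B A₀) = A.obj.hom.hom ∧ IsPRadical k p := by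
  rcases subsingleton_or_nontrivial A.obj.right with hsub | hnt
  · -- trivial case
    haveI : Subsingleton (B ⧸ (⊤ : Ideal B)) := Ideal.Quotient.subsingleton_iff.2 rfl
    refine ⟨B ⧸ (⊤ : Ideal B), inferInstance, inferInstance,
      Algebra.FinitePresentation.quotient ⟨{1}, by simp⟩,
      Ideal.Quotient.lift ⊤ A.obj.hom.hom (fun a _ => Subsingleton.elim _ _), ?_, ?_, ?_⟩
    · ext b
      exact Subsingleton.elim _ _
    · intro x
      exact ⟨0, 0, Subsingleton.elim _ _⟩
    · intro y _
      rw [Subsingleton.elim y 0]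
      exact zero_mem _
  · letI := algA A
    have hp0 : ((p : ℕ) : A.obj.right) = 0 := A.property.1
    haveI : CharP A.obj.right p :=
      ringChar.of_eq (CharP.ringChar_of_prime_eq_zero (Fact.out : p.Prime) hp0)
    haveI : ExpChar A.obj.right p := ExpChar.prime (Fact.out : p.Prime)
    haveI : PerfectRing A.obj.right p := ⟨A.property.2⟩
    exact main_alg (isCompactAlg A)

end Groth.Agent.Helper8.PerfFp
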