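import Mathlib
import Groth.Prelude.Def_Frob
import Groth.Agent.Lead.LimExists

/-!
# Helper8: perfection of a characteristic `p` scheme as the limit of its Frobenius tower
-/

set_option autoImplicit false
universe u
open CategoryTheory CategoryTheory.Limits AlgebraicGeometry FrobSch Opposite

namespace Groth.Agent.Helper8.PerfModel

variable (p : ℕ) [Fact p.Prime]

instance isAffineHom_frob (Y : Scheme.{u}) [IsCharP Y p] : IsAffineHom (frob Y p) :=
  ⟨fun _ hU => hU⟩

/-- Iterated absolute Frobenius. -/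
noncomputable def frobPow (Y : Scheme.{u}) [IsCharP Y p] : ℕ → (Y ⟶ Y)
  | 0 => 𝟙 Y
  | (k+1) => frob Y p ≫ frobPow Y k

@[simp] lemma frobPow_zero (Y : Scheme.{u}) [IsCharP Y p] : frobPow p Y 0 = 𝟙 Y := rfl

lemma frobPow_succ (Y : Scheme.{u}) [IsCharP Y p] (k : ℕ) :
    frobPow p Y (k+1) = frob Y p ≫ frobPow p Y k := rfl

lemma frobPow_one (Y : Scheme.{u}) [IsCharP Y p] : frobPow p Y 1 = frob Y p := by
  rw [show (1:ℕ) = 0 + 1 from rfl, frobPow_succ, frobPow_zero, Category.comp_id]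

@[reassoc]
lemma frobPow_comp {X Y : Scheme.{u}} [IsCharP X p] [IsCharP Y p] (f : X ⟶ Y) (k : ℕ) :
    frobPow p X k ≫ f = f ≫ frobPow p Y k := by
  induction k with
  | zero => simp
  | succ k ih => rw [frobPow_succ, frobPow_succ, Category.assoc, ih, frob_comp_assoc]

lemma frobPow_add (Y : Scheme.{u}) [IsCharP Y p] (a b : ℕ) :
    frobPow p Y (a + b) = frobPow p Y a ≫ frobPow p Y b := by
  induction a with
  | zero => simp
  | succ a ih =>
    rw [show a + 1 + b = (a + b) + 1 by omega, frobPow_succ, frobPow_succ, ih, Category.assoc]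

instance isAffineHom_frobPow (Y : Scheme.{u}) [IsCharP Y p] (k : ℕ) :
    IsAffineHom (frobPow p Y k) := by
  induction k with
  | zero => rw [frobPow_zero]; infer_instance
  | succ k ih => rw [frobPow_succ]; infer_instance

instance isIso_frobPow (Y : Scheme.{u}) [IsCharP Y p] [IsPerfect Y p] (k : ℕ) :
    IsIso (frobPow p Y k) := by
  induction k with
  | zero => rw [frobPow_zero]; infer_instance
  | succ k ih => rw [frobPow_succ]; infer_instance

/-- The index category of the Frobenius tower (a `Type u` copy of `ℕᵒᵖ`). -/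
abbrev NN : Type u := (ULift.{u} ℕ)ᵒᵖ

instance : IsDirected (ULift.{u} ℕ) (· ≤ ·) :=
  ⟨fun a b => ⟨⟨max a.down b.down⟩, le_max_left a.down b.down, le_max_right a.down b.down⟩⟩

instance : IsCofiltered NN.{u} := inferInstance

abbrev nn (n : ℕ) : NN.{u} := op (ULift.up n)

def nnHom {m n : ℕ} (h : n ≤ m) : nn.{u} m ⟶ nn.{u} n :=
  (homOfLE (show (ULift.up n : ULift.{u} ℕ) ≤ ULift.up m from h)).op

lemma NN.le {m n : NN.{u}} (f : m ⟶ n) : n.unop.down ≤ m.unop.down := by
  have h : n.unop ≤ m.unop := leOfHom f.unop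
  exact h

/-- The Frobenius tower `⋯ ⟶ Y ⟶ Y ⟶ Y`. -/
noncomputable def tower (Y : Scheme.{u}) [IsCharP Y p] : NN.{u} ⥤ Scheme.{u} where
  obj _ := Y
  map {m n} _ := frobPow p Y (m.unop.down - n.unop.down)
  map_id m := by simp
  map_comp {a b c} f g := by
    rw [← frobPow_add]
    have h1 := NN.le f
    have h2 := NN.le g
    congr 1
    omega

instance tower_affine (Y : Scheme.{u}) [IsCharP Y p] {i j : NN.{u}} (f : i ⟶ j) :
    IsAffineHom ((tower p Y).map f) :=
  isAffineHom_frobPow p Y _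

instance tower_compact (Y : Scheme.{u}) [IsCharP Y p] [CompactSpace Y] (i : NN.{u}) :
    CompactSpace ((tower p Y).obj i) := ‹CompactSpace Y›

instance tower_qs (Y : Scheme.{u}) [IsCharP Y p] [QuasiSeparatedSpace Y] (i : NN.{u}) :
    QuasiSeparatedSpace ((tower p Y).obj i) := ‹QuasiSeparatedSpace Y›

instance hasLimit_tower (Y : Scheme.{u}) [IsCharP Y p] : HasLimit (tower p Y) := by
  obtain ⟨c, hc, _⟩ := Groth.Agent.Lead.LimExists.main (tower p Y)
  exact ⟨⟨⟨c, hc⟩⟩⟩

/-- The perfection of `Y` as the limit of the Frobenius tower. -/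
noncomputable def Perf (Y : Scheme.{u}) [IsCharP Y p] : Scheme.{u} := limit (tower p Y)

/-- The projections of the perfection. -/
noncomputable def pr (Y : Scheme.{u}) [IsCharP Y p] (n : ℕ) : Perf p Y ⟶ Y :=
  limit.π (tower p Y) (nn n)

lemma pr_frobPow (Y : Scheme.{u}) [IsCharP Y p] {m n : ℕ} (h : n ≤ m) :
    pr p Y m ≫ frobPow p Y (m - n) = pr p Y n :=
  limit.w (tower p Y) (nnHom h)

lemma pr_succ_frob (Y : Scheme.{u}) [IsCharP Y p] (n : ℕ) :
    pr p Y (n+1) ≫ frob Y p = pr p Y n := by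
  have h := pr_frobPow p Y (Nat.le_succ n)
  rw [show n.succ - n = 1 by omega, frobPow_one] at h
  exact h

lemma Perf.hom_ext {T : Scheme.{u}} (Y : Scheme.{u}) [IsCharP Y p] {f g : T ⟶ Perf p Y}
    (h : ∀ n, f ≫ pr p Y n = g ≫ pr p Y n) : f = g := by
  apply limit.hom_ext
  intro j
  induction j using Opposite.rec with
  | op j =>
    obtain ⟨n⟩ := j
    exact h n

lemma tower_compat {T Y : Scheme.{u}} [IsCharP Y p] (t : ℕ → (T ⟶ Y))
    (ht : ∀ n, t (n+1) ≫ frob Y p = t n) (d n : ℕ) :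
    t (n + d) ≫ frobPow p Y d = t n := by
  induction d with
  | zero => simp
  | succ d ih =>
    rw [frobPow_succ, ← Category.assoc, show n + (d+1) = (n+d)+1 from rfl, ht, ih]

/-- Morphisms into the perfection from compatible families. -/
noncomputable def Perf.lift {T : Scheme.{u}} (Y : Scheme.{u}) [IsCharP Y p] (t : ℕ → (T ⟶ Y))
    (ht : ∀ n, t (n+1) ≫ frob Y p = t n) : T ⟶ Perf p Y :=
  limit.lift (tower p Y)
    { pt := T
      π :=
        { app := fun j => t j.unop.down
          naturality := fun i j f => by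
            have h := NN.le f
            have h2 := tower_compat p t ht (i.unop.down - j.unop.down) j.unop.down
            rw [show j.unop.down + (i.unop.down - j.unop.down) = i.unop.down by omega] at h2
            show 𝟙 T ≫ t j.unop.down = t i.unop.down ≫ frobPow p Y (i.unop.down - j.unop.down)
            rw [Category.id_comp, h2] } }

lemma Perf.lift_pr {T : Scheme.{u}} (Y : Scheme.{u}) [IsCharP Y p] (t : ℕ → (T ⟶ Y))
    (ht : ∀ n, t (n+1) ≫ frob Y p = t n) (n : ℕ) :
    Perf.lift p Y t ht ≫ pr p Y n = t n :=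
  limit.lift_π _ _

instance Perf.isCharP (Y : Scheme.{u}) [IsCharP Y p] : IsCharP (Perf p Y) p :=
  IsCharP.of_hom (pr p Y 0) p

/-- The inverse of Frobenius on the perfection. -/
noncomputable def Perf.shift (Y : Scheme.{u}) [IsCharP Y p] : Perf p Y ⟶ Perf p Y :=
  Perf.lift p Y (fun n => pr p Y (n+1)) (fun n => pr_succ_frob p Y (n+1))

instance Perf.isPerfect (Y : Scheme.{u}) [IsCharP Y p] : IsPerfect (Perf p Y) p := by
  refine ⟨⟨Perf.shift p Y, ?_, ?_⟩⟩
  · apply Perf.hom_ext p Y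
    intro n
    rw [Category.assoc, Perf.shift, Perf.lift_pr, Category.id_comp, frob_comp, pr_succ_frob]
  · apply Perf.hom_ext p Y
    intro n
    rw [Category.assoc, Category.id_comp, frob_comp, ← Category.assoc, Perf.shift, Perf.lift_pr,
      pr_succ_frob]

instance Perf.pr_affine (Y : Scheme.{u}) [IsCharP Y p] (n : ℕ) : IsAffineHom (pr p Y n) :=
  isAffineHom_π_app (tower p Y) _ (limit.isLimit _) _

instance Perf.compact (Y : Scheme.{u}) [IsCharP Y p] [CompactSpace Y] : CompactSpace (Perf p Y) :=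
  QuasiCompact.compactSpace_of_compactSpace (pr p Y 0)

lemma Perf.quasiSeparated (Y : Scheme.{u}) [IsCharP Y p] [QuasiSeparatedSpace Y] :
    QuasiSeparatedSpace (Perf p Y) :=
  quasiSeparatedSpace_of_quasiSeparated (pr p Y 0)

section Universal

variable {T : Scheme.{u}} [IsCharP T p] [IsPerfect T p] (Y : Scheme.{u}) [IsCharP Y p]

lemma inv_frobPow_succ_frob (n : ℕ) :
    inv (frobPow p T (n+1)) ≫ frob T p = inv (frobPow p T n) := by
  rw [IsIso.inv_comp_eq, frobPow_succ, Category.assoc, IsIso.hom_inv_id, Category.comp_id]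

/-- The lift of a morphism from a perfect scheme to the perfection. -/
noncomputable def Perf.lift' (t : T ⟶ Y) : T ⟶ Perf p Y :=
  Perf.lift p Y (fun n => inv (frobPow p T n) ≫ t) (fun n => by
    rw [Category.assoc, ← frob_comp, ← Category.assoc, inv_frobPow_succ_frob])

lemma Perf.lift'_pr (t : T ⟶ Y) (n : ℕ) :
    Perf.lift' p Y t ≫ pr p Y n = inv (frobPow p T n) ≫ t :=
  Perf.lift_pr p Y _ _ n

lemma Perf.lift'_pr_zero (t : T ⟶ Y) : Perf.lift' p Y t ≫ pr p Y 0 = t := by
  rw [Perf.lift'_pr]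
  simp

lemma Perf.pr_injective (n : ℕ) {g1 g2 : T ⟶ Perf p Y}
    (h : g1 ≫ pr p Y n = g2 ≫ pr p Y n) : g1 = g2 := by
  apply Perf.hom_ext p Y
  intro m
  have h0 : g1 ≫ pr p Y 0 = g2 ≫ pr p Y 0 := by
    rw [← pr_frobPow p Y (Nat.zero_le n), ← Category.assoc, h, Category.assoc]
  have key : ∀ g : T ⟶ Perf p Y, frobPow p T m ≫ g ≫ pr p Y m = g ≫ pr p Y 0 := fun g => by
    rw [frobPow_comp p (g ≫ pr p Y m) m, Category.assoc]
    congr 1
    exact pr_frobPow p Y (Nat.zero_le m)
  have := (key g1).trans (h0.trans (key g2).symm)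
  exact (cancel_epi (frobPow p T m)).1 this

lemma Perf.exists_lift (n : ℕ) (t : T ⟶ Y) : ∃ g : T ⟶ Perf p Y, g ≫ pr p Y n = t :=
  ⟨Perf.lift' p Y (frobPow p T n ≫ t), by rw [Perf.lift'_pr, IsIso.inv_hom_id_assoc]⟩

end Universal

/-- Functoriality of the perfection. -/
noncomputable def Perf.map {Y Z : Scheme.{u}} [IsCharP Y p] [IsCharP Z p] (f : Y ⟶ Z) :
    Perf p Y ⟶ Perf p Z :=
  Perf.lift p Z (fun n => pr p Y n ≫ f) (fun n => by
    rw [Category.assoc, ← frob_comp, ← Category.assoc, pr_succ_frob])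

lemma Perf.map_pr {Y Z : Scheme.{u}} [IsCharP Y p] [IsCharP Z p] (f : Y ⟶ Z) (n : ℕ) :
    Perf.map p f ≫ pr p Z n = pr p Y n ≫ f :=
  Perf.lift_pr p Z _ _ n

end Groth.Agent.Helper8.PerfModel
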