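import Mathlib
import Groth.Prelude.Def_Frob
import Groth.Agent.S0590

/-!
# Helper8: approximation of a qcqs characteristic `p` scheme by finite type `𝔽_p`-schemes
-/

set_option autoImplicit false
universe u
open CategoryTheory CategoryTheory.Limits AlgebraicGeometry FrobSch Opposite

namespace Groth.Agent.Helper8.PerfModel

/-- `Spec 𝔽_p`. -/
noncomputable abbrev Fp (p : ℕ) : Scheme.{u} := Spec (CommRingCat.of (ULift.{u} (ZMod p)))

/-- `Spec ℤ`. -/
noncomputable abbrev SZ : Scheme.{u} := Spec (CommRingCat.of (ULift.{u} ℤ))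

/-- The ring map `ℤ → 𝔽_p`, lifted. -/
def φp (p : ℕ) : ULift.{u} ℤ →+* ULift.{u} (ZMod p) :=
  ((ULift.ringEquiv.symm : ZMod p ≃+* ULift.{u} (ZMod p)) : ZMod p →+* ULift.{u} (ZMod p)).comp
    ((Int.castRingHom (ZMod p)).comp ((ULift.ringEquiv : ULift.{u} ℤ ≃+* ℤ) : ULift.{u} ℤ →+* ℤ))

lemma φp_surjective (p : ℕ) : Function.Surjective (φp.{u} p) := by
  intro x
  obtain ⟨n, hn⟩ := ZMod.intCast_surjective x.down
  refine ⟨⟨n⟩, ?_⟩
  apply ULift.ext
  exact hn

/-- `Spec 𝔽_p ⟶ Spec ℤ`. -/
noncomputable def ιp (p : ℕ) : Fp.{u} p ⟶ SZ.{u} := Spec.map (CommRingCat.ofHom (φp.{u} p))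

instance (p : ℕ) : IsClosedImmersion (ιp.{u} p) :=
  IsClosedImmersion.spec_of_surjective _ (φp_surjective p)

lemma Fp_hom_ext (p : ℕ) {T : Scheme.{u}} (a b : T ⟶ Fp.{u} p) : a = b := by
  rw [← cancel_mono (ιp p)]
  exact specULiftZIsTerminal.hom_ext _ _

variable (p : ℕ) [Fact p.Prime]

instance : IsCharP (Fp.{u} p) p := isCharP_Spec (ULift.{u} (ZMod p)) p

instance : IsLocallyNoetherian (Fp.{u} p) := by
  haveI : IsNoetherianRing (CommRingCat.of (ULift.{u} (ZMod p))) :=
    inferInstanceAs (IsNoetherianRing (ULift.{u} (ZMod p)))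
  infer_instance

/-- The structure morphism of a characteristic `p` scheme to `Spec 𝔽_p`. -/
noncomputable def toFp (X : Scheme.{u}) [IsCharP X p] : X ⟶ Fp.{u} p :=
  X.toSpecΓ ≫ Spec.map (CommRingCat.ofHom
    ((ZMod.castHom (ringChar.dvd (IsCharP.natCast_eq_zero (X := X) (p := p))) Γ(X, ⊤)).comp
      ((ULift.ringEquiv : ULift.{u} (ZMod p) ≃+* ZMod p) : ULift.{u} (ZMod p) →+* ZMod p)) :
        CommRingCat.of (ULift.{u} (ZMod p)) ⟶ Γ(X, ⊤))

set_option backward.isDefEq.respectTransparency false in
/-- Reduction mod `p` of a diagram of schemes. -/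
noncomputable def modp {J : Type u} [Category.{u} J] (D : J ⥤ Scheme.{u}) : J ⥤ Scheme.{u} where
  obj j := pullback (specULiftZIsTerminal.from (D.obj j)) (ιp.{u} p)
  map {i j} a := pullback.map _ _ _ _ (D.map a) (𝟙 _) (𝟙 _)
    (specULiftZIsTerminal.hom_ext _ _) (by simp)
  map_id j := by apply pullback.hom_ext <;> simp [pullback.map]
  map_comp a b := by apply pullback.hom_ext <;> simp [pullback.map]

/-- Approximation data. -/
structure Approx (X : Scheme.{u}) where
  I : Type u
  [pre : Preorder I]
  [dir : IsDirected I (· ≤ ·)]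
  [ne : Nonempty I]
  Y : Iᵒᵖ ⥤ Scheme.{u}
  π : (Functor.const Iᵒᵖ).obj X ⟶ Y
  isLimit : IsLimit (Cone.mk X π)
  charP : ∀ i, IsCharP (Y.obj i) p
  compact : ∀ i, CompactSpace (Y.obj i)
  lnoeth : ∀ i, IsLocallyNoetherian (Y.obj i)
  aff : ∀ {i j : Iᵒᵖ} (a : i ⟶ j), IsAffineHom (Y.map a)
  s : ∀ i, Y.obj i ⟶ Fp.{u} p
  lft : ∀ i, LocallyOfFiniteType (s i)

set_option backward.isDefEq.respectTransparency false in
theorem exists_approx (X : Scheme.{u}) [IsCharP X p] [CompactSpace X] [QuasiSeparatedSpace X] :
    Nonempty (Approx p X) := by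
  obtain ⟨I, _, _, _, D, c, hc, haff, hD, ⟨e⟩⟩ := Groth.Agent.S0590.result X
  let π : (Functor.const Iᵒᵖ).obj X ⟶ modp p D :=
    { app := fun i => pullback.lift (e.inv ≫ c.π.app i) (toFp p X)
        (specULiftZIsTerminal.hom_ext _ _)
      naturality := fun i j a => by
        apply pullback.hom_ext
        · simp [modp, pullback.map]
        · exact Fp_hom_ext p _ _ }
  have hfst : ∀ i, π.app i ≫ pullback.fst _ _ = e.inv ≫ c.π.app i := fun i =>
    pullback.lift_fst _ _ _
  refine ⟨{
    I := I
    Y := modp p D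
    π := π
    isLimit :=
      { lift := fun s => hc.lift ⟨s.pt,
          { app := fun i => s.π.app i ≫ pullback.fst _ _
            naturality := fun i j a => by
              have h := s.π.naturality a
              simp only [Functor.const_obj_obj, Functor.const_obj_map, Category.id_comp] at h ⊢
              rw [h, Category.assoc, Category.assoc]
              congr 1
              simp [modp, pullback.map] }⟩ ≫ e.hom
        fac := fun s i => by
          apply pullback.hom_ext
          · show (_ ≫ π.app i) ≫ _ = _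
            rw [Category.assoc, hfst, Category.assoc, e.hom_inv_id_assoc, hc.fac]
          · exact Fp_hom_ext p _ _
        uniq := fun s m hm => by
          rw [← cancel_mono e.inv, Category.assoc, e.hom_inv_id, Category.comp_id]
          apply hc.hom_ext
          intro i
          rw [hc.fac, Category.assoc, ← hfst, ← Category.assoc]
          congr 1
          exact hm i }
    charP := fun i => IsCharP.of_hom (pullback.snd _ _ : (modp p D).obj i ⟶ Fp.{u} p) p
    compact := fun i => by
      haveI := (hD i).1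
      exact QuasiCompact.compactSpace_of_compactSpace
        (pullback.fst (specULiftZIsTerminal.from (D.obj i)) (ιp.{u} p))
    lnoeth := fun i => by
      haveI := (hD i).2
      exact LocallyOfFiniteType.isLocallyNoetherian
        (pullback.snd (specULiftZIsTerminal.from (D.obj i)) (ιp.{u} p))
    aff := fun {i j} a => by
      haveI : IsAffineHom (D.map a) := haff i j a
      have h : (modp p D).map a ≫ pullback.fst _ _ = pullback.fst _ _ ≫ D.map a :=
        pullback.lift_fst _ _ _
      haveI : IsAffineHom ((modp p D).map a ≫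
          pullback.fst (specULiftZIsTerminal.from (D.obj j)) (ιp.{u} p)) := by
        rw [h]; infer_instance
      exact IsAffineHom.of_comp _ (pullback.fst (specULiftZIsTerminal.from (D.obj j)) (ιp.{u} p))
    s := fun i => pullback.snd _ _
    lft := fun i => by
      haveI := (hD i).2
      show LocallyOfFiniteType (pullback.snd (specULiftZIsTerminal.from (D.obj i)) (ιp.{u} p))
      infer_instance }⟩

end Groth.Agent.Helper8.PerfModel
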