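import Mathlib
import Groth.Prelude.Def_Frob
import Groth.Agent.Helper8.PerfModelA
import Groth.Agent.Helper8.PerfModelB

/-!
# Helper8: a perfectly finitely presented perfect scheme has a finitely presented model
-/

set_option autoImplicit false
universe u
open CategoryTheory CategoryTheory.Limits AlgebraicGeometry FrobSch Opposite

namespace Groth.Agent.Helper8.PerfModel

variable {p : ℕ} [Fact p.Prime]

attribute [instance] Approx.pre Approx.dir Approx.ne Approx.charP Approx.compact Approx.lnoeth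

section Diagram

variable {X : Scheme.{u}} (A : Approx p X)

/-- The diagram of perfections. -/
noncomputable def Pdiag : A.Iᵒᵖ ⥤ Scheme.{u} where
  obj i := Perf p (A.Y.obj i)
  map a := Perf.map p (A.Y.map a)
  map_id i := by
    apply Perf.hom_ext
    intro n
    rw [Perf.map_pr, A.Y.map_id, Category.comp_id, Category.id_comp]
  map_comp a b := by
    apply Perf.hom_ext
    intro n
    rw [Perf.map_pr, Category.assoc, Perf.map_pr, ← Category.assoc, Perf.map_pr, Category.assoc,
      A.Y.map_comp]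

instance Pdiag_charP (i : A.Iᵒᵖ) : IsCharP ((Pdiag A).obj i) p :=
  inferInstanceAs (IsCharP (Perf p (A.Y.obj i)) p)

instance Pdiag_affine {i j : A.Iᵒᵖ} (a : i ⟶ j) : IsAffineHom ((Pdiag A).map a) := by
  haveI : IsAffineHom (A.Y.map a) := A.aff a
  haveI : IsAffineHom (Perf.map p (A.Y.map a) ≫ pr p (A.Y.obj j) 0) := by
    rw [Perf.map_pr]; infer_instance
  exact IsAffineHom.of_comp (Perf.map p (A.Y.map a)) (pr p (A.Y.obj j) 0)

/-- The legs of the approximation cone, with source syntactically `X`. -/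
noncomputable def Approx.leg (i : A.Iᵒᵖ) : X ⟶ A.Y.obj i := A.π.app i

lemma Approx.leg_map {i j : A.Iᵒᵖ} (a : i ⟶ j) : A.leg i ≫ A.Y.map a = A.leg j := by
  have h := A.π.naturality a
  simp only [Functor.const_obj_obj, Functor.const_obj_map, Category.id_comp] at h
  exact h.symm

lemma Approx.hom_ext' {T : Scheme.{u}} {f g : T ⟶ X} (h : ∀ i, f ≫ A.leg i = g ≫ A.leg i) :
    f = g :=
  A.isLimit.hom_ext h

variable [IsCharP X p] [IsPerfect X p]

/-- The cone over the diagram of perfections with vertex `X`. -/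
noncomputable def Pcone : Cone (Pdiag A) where
  pt := X
  π :=
    { app := fun i => Perf.lift' p (T := X) (A.Y.obj i) (A.leg i)
      naturality := fun i j a => by
        apply Perf.hom_ext
        intro n
        show (𝟙 X ≫ Perf.lift' p (T := X) (A.Y.obj j) (A.leg j)) ≫ pr p (A.Y.obj j) n =
          (Perf.lift' p (T := X) (A.Y.obj i) (A.leg i) ≫ Perf.map p (A.Y.map a)) ≫
            pr p (A.Y.obj j) n
        rw [Category.id_comp, Perf.lift'_pr, Category.assoc, Perf.map_pr, ← Category.assoc,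
          Perf.lift'_pr, Category.assoc, A.leg_map] }

lemma Pcone_π (i : A.Iᵒᵖ) :
    (Pcone A).π.app i = Perf.lift' p (T := X) (A.Y.obj i) (A.leg i) := rfl

/-- The legs of a cone over the diagram of perfections, with syntactically nice types. -/
noncomputable def sleg (s : Cone (Pdiag A)) (i : A.Iᵒᵖ) : s.pt ⟶ Perf p (A.Y.obj i) := s.π.app i

omit [IsCharP X p] [IsPerfect X p] in
lemma sleg_map (s : Cone (Pdiag A)) {i j : A.Iᵒᵖ} (a : i ⟶ j) :
    sleg A s i ≫ Perf.map p (A.Y.map a) = sleg A s j := by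
  have h := s.π.naturality a
  simp only [Functor.const_obj_obj, Functor.const_obj_map, Category.id_comp] at h
  exact h.symm

/-- Auxiliary maps for the limit property. -/
noncomputable def xn (s : Cone (Pdiag A)) (n : ℕ) : s.pt ⟶ X :=
  A.isLimit.lift ⟨s.pt,
    { app := fun i => sleg A s i ≫ pr p (A.Y.obj i) n
      naturality := fun i j a => by
        simp only [Functor.const_obj_obj, Functor.const_obj_map, Category.id_comp]
        rw [← sleg_map A s a, Category.assoc, Category.assoc]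
        congr 1
        exact Perf.map_pr p (A.Y.map a) n }⟩

omit [IsCharP X p] [IsPerfect X p] in
lemma xn_π (s : Cone (Pdiag A)) (n : ℕ) (i : A.Iᵒᵖ) :
    xn A s n ≫ A.leg i = sleg A s i ≫ pr p (A.Y.obj i) n :=
  A.isLimit.fac _ i

omit [IsPerfect X p] in
lemma xn_frobPow (s : Cone (Pdiag A)) (n : ℕ) : xn A s n ≫ frobPow p X n = xn A s 0 := by
  apply A.hom_ext'
  intro i
  rw [Category.assoc, frobPow_comp, ← Category.assoc, xn_π, xn_π, Category.assoc]
  congr 1
  exact pr_frobPow p _ (Nat.zero_le n)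

lemma Pcone_fac (s : Cone (Pdiag A)) (i : A.Iᵒᵖ) :
    xn A s 0 ≫ Perf.lift' p (T := X) (A.Y.obj i) (A.leg i) = sleg A s i := by
  apply Perf.hom_ext
  intro n
  rw [Category.assoc, Perf.lift'_pr, ← xn_frobPow A s n, Category.assoc,
    IsIso.hom_inv_id_assoc, xn_π]

lemma Pcone_uniq (s : Cone (Pdiag A)) (m : s.pt ⟶ X)
    (hm : ∀ i, m ≫ Perf.lift' p (T := X) (A.Y.obj i) (A.leg i) = sleg A s i) : m = xn A s 0 := by
  apply A.hom_ext'
  intro i
  rw [xn_π, ← hm i, Category.assoc, Perf.lift'_pr_zero]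

/-- `X` is the limit of the perfections. -/
noncomputable def PconeIsLimit : IsLimit (Pcone A) where
  lift s := xn A s 0
  fac s i := Pcone_fac A s i
  uniq s m hm := Pcone_uniq A s m hm

end Diagram

/-- The retract argument. -/
theorem model_of_retract {X Y : Scheme.{u}} [IsCharP X p] [IsPerfect X p] [IsCharP Y p]
    (σ : X ⟶ Perf p Y) (r : Perf p Y ⟶ X) (hσr : σ ≫ r = 𝟙 X) (n : ℕ) (h : Y ⟶ Y)
    (hh : pr p Y n ≫ h = (r ≫ σ) ≫ pr p Y 0) :
    ∃ (π : X ⟶ equalizer h (frobPow p Y n)), IsPerfection π p := by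
  have h0 : pr p Y n ≫ frobPow p Y n = pr p Y 0 := pr_frobPow p Y (Nat.zero_le n)
  have hπ : (σ ≫ pr p Y n) ≫ h = (σ ≫ pr p Y n) ≫ frobPow p Y n := by
    simp only [Category.assoc]
    rw [hh, h0, Category.assoc, reassoc_of% hσr]
  refine ⟨equalizer.lift (σ ≫ pr p Y n) hπ, ‹IsPerfect X p›, fun T _ hT => ⟨?_, ?_⟩⟩
  · intro g1 g2 hg
    have hg' : g1 ≫ equalizer.lift (σ ≫ pr p Y n) hπ = g2 ≫ equalizer.lift (σ ≫ pr p Y n) hπ := hg
    have h1 := congrArg (· ≫ equalizer.ι h (frobPow p Y n)) hg'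
    simp only [Category.assoc, equalizer.lift_ι] at h1
    have h2 : g1 ≫ σ = g2 ≫ σ := by
      haveI : IsPerfect T p := hT
      apply Perf.pr_injective p Y n
      simpa only [Category.assoc] using h1
    have h3 := congrArg (· ≫ r) h2
    simpa only [Category.assoc, hσr, Category.comp_id] using h3
  · intro t0
    haveI : IsPerfect T p := hT
    have ht : (t0 ≫ equalizer.ι h (frobPow p Y n)) ≫ h =
        (t0 ≫ equalizer.ι h (frobPow p Y n)) ≫ frobPow p Y n := by
      rw [Category.assoc, equalizer.condition, Category.assoc]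
    obtain ⟨t', ht'⟩ := Perf.exists_lift p Y n (t0 ≫ equalizer.ι h (frobPow p Y n))
    have he : t' ≫ r ≫ σ = t' := by
      apply Perf.pr_injective p Y 0
      have hh2 : r ≫ σ ≫ pr p Y 0 = pr p Y n ≫ h := by
        simpa only [Category.assoc] using hh.symm
      simp only [Category.assoc]
      rw [hh2, ← Category.assoc, ht', ht, ← ht', Category.assoc, h0]
    refine ⟨t' ≫ r, ?_⟩
    show (t' ≫ r) ≫ equalizer.lift (σ ≫ pr p Y n) hπ = t0
    apply equalizer.hom_ext
    simp only [Category.assoc, equalizer.lift_ι]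
    rw [reassoc_of% he, ht']

theorem main (p : ℕ) [Fact p.Prime] (X : Scheme.{u})
    [FrobSch.IsCharP X p] [CompactSpace X] [QuasiSeparatedSpace X] [FrobSch.IsPerfect X p]
    (hc : ∀ (J : Type u) [SmallCategory J] [IsCofiltered J] (F : J ⥤ Scheme.{u})
      [∀ j, FrobSch.IsCharP (F.obj j) p] (c : Cone F) [FrobSch.IsCharP c.pt p], IsLimit c →
      (∀ ⦃i j : J⦄ (a : i ⟶ j), IsAffineHom (F.map a)) →
      (∀ j, FrobSch.IsPerfect (F.obj j) p ∧ CompactSpace (F.obj j) ∧ QuasiSeparatedSpace (F.obj j)) →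
      FrobSch.IsPerfect c.pt p → CompactSpace c.pt → QuasiSeparatedSpace c.pt →
      (∀ g : c.pt ⟶ X, ∃ (j : J) (gj : F.obj j ⟶ X), c.π.app j ≫ gj = g) ∧
      (∀ (j : J) (g g' : F.obj j ⟶ X), c.π.app j ≫ g = c.π.app j ≫ g' →
        ∃ (k : J) (a : k ⟶ j), F.map a ≫ g = F.map a ≫ g')) :
    ∃ (X0 : Scheme.{u}) (s : X0 ⟶ Spec (CommRingCat.of (ULift.{u} (ZMod p))))
      (_ : LocallyOfFinitePresentation s)
      (_ : CompactSpace X0) (_ : QuasiSeparatedSpace X0) (π : X ⟶ X0), FrobSch.IsPerfection π p := by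
  obtain ⟨A⟩ := exists_approx p X
  haveI : IsCharP (Pcone A).pt p := ‹IsCharP X p›
  have h1 := hc A.Iᵒᵖ (Pdiag A) (Pcone A) (PconeIsLimit A) (fun i j a => Pdiag_affine A a)
    (fun j => ⟨Perf.isPerfect p (A.Y.obj j), Perf.compact p (A.Y.obj j),
      Perf.quasiSeparated p (A.Y.obj j)⟩) ‹IsPerfect X p› ‹CompactSpace X› ‹QuasiSeparatedSpace X›
  obtain ⟨j, r, hr⟩ := h1.1 (𝟙 X)
  -- notation
  let Yj := A.Y.obj j
  let σ : X ⟶ Perf p Yj := Perf.lift' p (T := X) Yj (A.leg j)
  have hσr : σ ≫ r = 𝟙 X := hr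
  haveI : LocallyOfFiniteType (A.s j) := A.lft j
  haveI : LocallyOfFinitePresentation (A.s j) :=
    LocallyOfFinitePresentation.iff_locallyOfFiniteType.mpr inferInstance
  let t : tower p Yj ⟶ (Functor.const NN.{u}).obj (Fp.{u} p) :=
    { app := fun _ => A.s j
      naturality := fun _ _ _ => Fp_hom_ext p _ _ }
  obtain ⟨m, h, hh, -⟩ := Scheme.exists_π_app_comp_eq_of_locallyOfFinitePresentation
    (tower p Yj) t (A.s j) (limit.cone (tower p Yj)) (limit.isLimit _)
    ((r ≫ σ) ≫ pr p Yj 0) (by ext i; exact Fp_hom_ext p _ _)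
  induction m using Opposite.rec with
  | op m =>
    obtain ⟨n⟩ := m
    obtain ⟨h, hh'⟩ : ∃ h' : Yj ⟶ Yj, pr p Yj n ≫ h' = (r ≫ σ) ≫ pr p Yj 0 := ⟨h, hh⟩
    obtain ⟨π, hπ⟩ := model_of_retract σ r hσr n h hh'
    haveI : IsNoetherian Yj := ⟨⟩
    let X0 : Scheme.{u} := equalizer h (frobPow p Yj n)
    let ι : X0 ⟶ Yj := equalizer.ι h (frobPow p Yj n)
    haveI : IsImmersion ι := inferInstanceAs (IsImmersion (equalizer.ι h (frobPow p Yj n)))
    haveI : IsLocallyNoetherian X0 := LocallyOfFiniteType.isLocallyNoetherian ι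
    haveI : TopologicalSpace.NoetherianSpace X0 := ι.isEmbedding.isInducing.noetherianSpace
    haveI : LocallyOfFiniteType (ι ≫ A.s j) := inferInstance
    exact ⟨X0, ι ≫ A.s j,
      LocallyOfFinitePresentation.iff_locallyOfFiniteType.mpr inferInstance,
      inferInstance, inferInstance, π, hπ⟩

end Groth.Agent.Helper8.PerfModel
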