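import Mathlib
import Groth.Prelude.Def_Frob
import Groth.Agent.Helper8.PerfModelA
import Groth.Agent.Helper7.Perf1
import Groth.Agent.S0591
import Groth.Agent.S2075

/-!
# Helper8: composition of morphisms flat of finite presentation in the perfect sense
-/

set_option autoImplicit false
universe u
open CategoryTheory CategoryTheory.Limits AlgebraicGeometry FrobSch Opposite

namespace Groth.Agent.Helper8.PerfModel

variable (p : ℕ) [Fact p.Prime]

/-- The tower limit is a perfection. -/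
theorem Perf.isPerfection (Y : Scheme.{u}) [IsCharP Y p] : IsPerfection (pr p Y 0) p :=
  ⟨Perf.isPerfect p Y, fun T _ hT => by
    haveI : IsPerfect T p := hT
    exact ⟨fun g1 g2 h => Perf.pr_injective p Y 0 h, fun t => Perf.exists_lift p Y 0 t⟩⟩

/-- The projections of the tower limit are surjective. -/
theorem Perf.pr_surjective (Y : Scheme.{u}) [IsCharP Y p] (n : ℕ) : Surjective (pr p Y n) := by
  refine ⟨fun y => ?_⟩
  haveI : IsCharP (Spec (Y.residueField y)) p := IsCharP.of_hom (Y.fromSpecResidueField y) p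
  have hκ : (p : Y.residueField y) = 0 :=
    Groth.Agent.Helper7.Perf.natCast_eq_zero_of_isCharP_Spec p (Y.residueField y)
  haveI : CharP (Y.residueField y) p := (CharP.charP_iff_prime_eq_zero Fact.out).2 hκ
  let K : Type u := PerfectClosure (Y.residueField y) p
  let T : Scheme.{u} := Spec (CommRingCat.of K)
  haveI : IsCharP T p := isCharP_Spec K p
  haveI : IsPerfect T p := by
    apply Groth.Agent.Helper7.Perf.isPerfect_Spec p (CommRingCat.of K)
    exact bijective_frobenius K p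
  let t : T ⟶ Y :=
    Spec.map (CommRingCat.ofHom (PerfectClosure.of (Y.residueField y) p)) ≫
      Y.fromSpecResidueField y
  obtain ⟨g, hg⟩ := Perf.exists_lift p Y n t
  let x0 : T := IsLocalRing.closedPoint K
  refine ⟨g x0, ?_⟩
  rw [← Scheme.Hom.comp_apply, hg, Scheme.Hom.comp_apply, Scheme.fromSpecResidueField_apply]

/-- Descent of a finitely presented morphism to a stage of the Frobenius tower. -/
theorem descend_tower (Y₀ : Scheme.{u}) [IsCharP Y₀ p] [CompactSpace Y₀] [QuasiSeparatedSpace Y₀]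
    (Z₀ : Scheme.{u}) (f : Z₀ ⟶ Perf p Y₀)
    [hf1 : LocallyOfFinitePresentation f] [hf2 : QuasiCompact f] [hf3 : QuasiSeparated f] :
    ∃ (n : ℕ) (X₀ : Scheme.{u}) (fi : X₀ ⟶ Y₀) (g : Z₀ ⟶ X₀),
      LocallyOfFinitePresentation fi ∧ QuasiCompact fi ∧ QuasiSeparated fi ∧
        IsPullback g f fi (pr p Y₀ n) := by
  let f' : Z₀ ⟶ (limit.cone (tower p Y₀)).pt := f
  haveI : LocallyOfFinitePresentation f' := hf1
  haveI : QuasiCompact f' := hf2
  haveI : QuasiSeparated f' := hf3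
  obtain ⟨i, X₀, fi, g, h1, h2, h3, h4⟩ :=
    Groth.Agent.S0591.result (tower p Y₀) (limit.cone (tower p Y₀)) (limit.isLimit _) Z₀ f'
  induction i using Opposite.rec with
  | op i =>
    obtain ⟨n⟩ := i
    exact ⟨n, X₀, fi, g, h1, h2, h3, h4⟩

/-- Descent of flatness to a later stage of the Frobenius tower. -/
theorem descend_flat_tower (Y₀ : Scheme.{u}) [IsCharP Y₀ p] [CompactSpace Y₀]
    [QuasiSeparatedSpace Y₀] (n : ℕ) {X₀ Z₀ : Scheme.{u}} (fi : X₀ ⟶ Y₀)
    [CompactSpace X₀] [QuasiSeparatedSpace X₀] [hfi : LocallyOfFinitePresentation fi]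
    (f : Z₀ ⟶ Perf p Y₀) [hf : Flat f] (g0 : Z₀ ⟶ X₀) (h : IsPullback g0 f fi (pr p Y₀ n)) :
    ∃ (m : ℕ) (Xi Yi : Scheme.{u}) (fi' : Xi ⟶ Yi) (gi : Yi ⟶ Y₀) (pY : Yi ⟶ Y₀)
      (pX : Xi ⟶ X₀), n ≤ m ∧ IsPullback pY gi (𝟙 Y₀) (frobPow p Y₀ (m - n)) ∧
        IsPullback pX fi' fi pY ∧ Flat fi' := by
  let f' : Z₀ ⟶ (limit.cone (tower p Y₀)).pt := f
  haveI : Flat f' := hf
  haveI : CompactSpace ((tower p Y₀).obj (nn n)) := tower_compact p Y₀ _
  haveI : QuasiSeparatedSpace ((tower p Y₀).obj (nn n)) := tower_qs p Y₀ _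
  let fi0 : X₀ ⟶ (tower p Y₀).obj (nn n) := fi
  haveI : LocallyOfFinitePresentation fi0 := hfi
  have h' : IsPullback g0 f' fi0 ((limit.cone (tower p Y₀)).π.app (nn n)) := h
  obtain ⟨i, φ, Xi, Yi, fi', gi, pY, pX, hpb3, hpb2, hflat⟩ :=
    Groth.Agent.S2075.result (tower p Y₀) (limit.cone (tower p Y₀)) (limit.isLimit _) (nn n)
      fi0 (𝟙 ((tower p Y₀).obj (nn n))) f' (𝟙 (limit.cone (tower p Y₀)).pt)
      ((limit.cone (tower p Y₀)).π.app (nn n)) g0 IsPullback.of_id_snd h'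
  induction i using Opposite.rec with
  | op i =>
    obtain ⟨m⟩ := i
    have hle : n ≤ m := NN.le φ
    exact ⟨m, Xi, Yi, fi', gi, pY, pX, hle, hpb3, hpb2, hflat⟩

/-- Composition of morphisms that are flat of finite presentation in the perfect sense. -/
theorem comp_main
    {X Y Z Y₀ Z₀ : Scheme.{u}} [IsCharP X p] [IsCharP Y p] [IsCharP Z p]
    [IsCharP Y₀ p] [IsCharP Z₀ p]
    [CompactSpace ↥X] [QuasiSeparatedSpace ↥X] (hX : IsPerfect X p)
    (g₀ : Y₀ ⟶ X) [Flat g₀] [LocallyOfFinitePresentation g₀] [QuasiCompact g₀] [QuasiSeparated g₀]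
    (πY : Y ⟶ Y₀) (hY : IsPerfection πY p)
    (f₀ : Z₀ ⟶ Y) [Flat f₀] [LocallyOfFinitePresentation f₀] [QuasiCompact f₀] [QuasiSeparated f₀]
    (πZ : Z ⟶ Z₀) (hZ : IsPerfection πZ p) :
    ∃ (W₀ : Scheme.{u}) (h₀ : W₀ ⟶ X) (ϖ : Z ⟶ W₀),
      Flat h₀ ∧ LocallyOfFinitePresentation h₀ ∧ QuasiCompact h₀ ∧ QuasiSeparated h₀ ∧
        IsPerfection ϖ p ∧ ϖ ≫ h₀ = πZ ≫ f₀ ≫ πY ≫ g₀ ∧
          (Surjective g₀ → Surjective f₀ → Surjective h₀) := by
  haveI : IsPerfect X p := hX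
  haveI : CompactSpace Y₀ := QuasiCompact.compactSpace_of_compactSpace g₀
  haveI : QuasiSeparatedSpace Y₀ := quasiSeparatedSpace_of_quasiSeparated g₀
  obtain ⟨θ, hθ⟩ := Groth.Agent.Helper7.Perf.IsPerfection.exists_iso p πY (pr p Y₀ 0) hY
    (Perf.isPerfection p Y₀)
  -- the morphism to the tower limit
  obtain ⟨f₀', hf₀'⟩ : ∃ f' : Z₀ ⟶ Perf p Y₀, f' = f₀ ≫ θ.hom := ⟨_, rfl⟩
  haveI hfl0 : Flat f₀' := by rw [hf₀']; infer_instance
  haveI hlfp0 : LocallyOfFinitePresentation f₀' := by rw [hf₀']; infer_instance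
  haveI hqc0 : QuasiCompact f₀' := by rw [hf₀']; infer_instance
  haveI hqs0 : QuasiSeparated f₀' := by rw [hf₀']; infer_instance
  -- descend to a stage
  obtain ⟨n, X₀, fi, g0, hfi1, hfi2, hfi3, hpb1⟩ := descend_tower p Y₀ Z₀ f₀'
  haveI := hfi1
  haveI := hfi2
  haveI := hfi3
  haveI : CompactSpace X₀ := QuasiCompact.compactSpace_of_compactSpace fi
  haveI : QuasiSeparatedSpace X₀ := quasiSeparatedSpace_of_quasiSeparated fi
  -- descend flatness
  obtain ⟨m, Xi, Yi, fi', gi, pY, pX, hnm, hpb3, hpb2, hflat⟩ :=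
    descend_flat_tower p Y₀ n fi f₀' g0 hpb1
  haveI := hflat
  haveI : IsIso gi := hpb3.isIso_snd_of_isIso
  haveI : LocallyOfFinitePresentation fi' :=
    MorphismProperty.of_isPullback (P := @LocallyOfFinitePresentation) hpb2 hfi1
  haveI : QuasiCompact fi' := MorphismProperty.of_isPullback (P := @QuasiCompact) hpb2 hfi2
  haveI : QuasiSeparated fi' := MorphismProperty.of_isPullback (P := @QuasiSeparated) hpb2 hfi3
  have hpY : pY = gi ≫ frobPow p Y₀ (m - n) := by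
    have := hpb3.w
    rw [Category.comp_id] at this
    exact this
  have hπi₀ : pr p Y₀ m ≫ frobPow p Y₀ (m - n) = pr p Y₀ n := pr_frobPow p Y₀ hnm
  obtain ⟨b, hb⟩ : ∃ b : Xi ⟶ Y₀, b = fi' ≫ gi := ⟨_, rfl⟩
  haveI : Flat b := by rw [hb]; infer_instance
  haveI : LocallyOfFinitePresentation b := by rw [hb]; infer_instance
  haveI : QuasiCompact b := by rw [hb]; infer_instance
  haveI : QuasiSeparated b := by rw [hb]; infer_instance
  have hw1 : g0 ≫ fi = f₀' ≫ pr p Y₀ n := hpb1.w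
  have hw2 : pX ≫ fi = fi' ≫ pY := hpb2.w
  -- the comparison morphism
  have hγcompat : g0 ≫ fi = (f₀' ≫ pr p Y₀ m ≫ inv gi) ≫ pY := by
    rw [hw1, hpY]
    simp only [Category.assoc, IsIso.inv_hom_id_assoc]
    rw [hπi₀]
  obtain ⟨γ, hγ1, hγ2⟩ : ∃ γ : Z₀ ⟶ Xi, γ ≫ pX = g0 ∧ γ ≫ fi' = f₀' ≫ pr p Y₀ m ≫ inv gi :=
    ⟨hpb2.lift g0 (f₀' ≫ pr p Y₀ m ≫ inv gi) hγcompat, hpb2.lift_fst _ _ _,
      hpb2.lift_snd _ _ _⟩
  have hγb : γ ≫ b = f₀' ≫ pr p Y₀ m := by
    rw [hb, ← Category.assoc, hγ2]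
    simp only [Category.assoc, IsIso.inv_hom_id, Category.comp_id]
  -- bijectivity of composition with γ on morphisms from perfect schemes
  have hbij : ∀ (T : Scheme.{u}) [IsCharP T p], IsPerfect T p →
      Function.Bijective (fun u : T ⟶ Z₀ => u ≫ γ) := by
    intro T _ hT
    haveI : IsPerfect T p := hT
    constructor
    · intro u₁ u₂ hu
      have hu' : u₁ ≫ γ = u₂ ≫ γ := hu
      apply hpb1.hom_ext
      · rw [← hγ1, ← Category.assoc, hu', Category.assoc]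
      · apply Perf.pr_injective p Y₀ m
        rw [Category.assoc, Category.assoc, ← hγb, ← Category.assoc, hu', Category.assoc]
    · intro a
      obtain ⟨q, hq⟩ := Perf.exists_lift p Y₀ m (a ≫ b)
      have hcompat : (a ≫ pX) ≫ fi = q ≫ pr p Y₀ n := by
        rw [Category.assoc, hw2, hpY, ← hπi₀, ← Category.assoc q, hq, hb]
        simp only [Category.assoc]
      refine ⟨hpb1.lift (a ≫ pX) q hcompat, ?_⟩
      show hpb1.lift (a ≫ pX) q hcompat ≫ γ = a
      apply hpb2.hom_ext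
      · rw [Category.assoc, hγ1, hpb1.lift_fst]
      · rw [Category.assoc, hγ2, ← Category.assoc, hpb1.lift_snd, ← Category.assoc, hq, hb]
        simp only [Category.assoc, IsIso.hom_inv_id, Category.comp_id]
  haveI : IsIso (frobPow p X m) := isIso_frobPow p X m
  refine ⟨Xi, b ≫ g₀ ≫ frobPow p X m, πZ ≫ γ, inferInstance, inferInstance, inferInstance,
    inferInstance, ⟨hZ.1, fun T _ hT => ?_⟩, ?_, ?_⟩
  · have h1 := hZ.2 T hT
    have h2 := hbij T hT
    have : (fun g : T ⟶ Z => g ≫ πZ ≫ γ) =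
        (fun u : T ⟶ Z₀ => u ≫ γ) ∘ (fun g : T ⟶ Z => g ≫ πZ) := by
      funext g
      simp only [Function.comp_apply, Category.assoc]
    rw [this]
    exact h2.comp h1
  · have h0 : pr p Y₀ m ≫ frobPow p Y₀ m = pr p Y₀ 0 := pr_frobPow p Y₀ (Nat.zero_le m)
    have key : (f₀' ≫ pr p Y₀ m) ≫ g₀ ≫ frobPow p X m = f₀ ≫ πY ≫ g₀ := by
      rw [← frobPow_comp p g₀ m, hf₀', ← hθ, ← h0]
      simp only [Category.assoc]
    rw [Category.assoc, ← Category.assoc γ, hγb, key]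
  · intro hg₀ hf₀
    haveI := hg₀
    haveI := hf₀
    haveI hs0 : Surjective f₀' := by rw [hf₀']; infer_instance
    haveI : Surjective b := by
      refine ⟨fun y => ?_⟩
      obtain ⟨q, hq⟩ := (Perf.pr_surjective p Y₀ m).surj y
      obtain ⟨z, hz⟩ := hs0.surj q
      refine ⟨γ z, ?_⟩
      rw [← Scheme.Hom.comp_apply, hγb, Scheme.Hom.comp_apply, hz, hq]
    infer_instance

end Groth.Agent.Helper8.PerfModel
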