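import Mathlib

namespace Groth.Agent.Helper8.PermReg

open RingTheory.Sequence

section part0
variable {A : Type*} [CommRing A] {r : ℕ}

lemma ofList_take_ofFn (g : Fin r → A) (i : ℕ) :
    Ideal.ofList ((List.ofFn g).take i) = Ideal.span (g '' {j | j.val < i}) := by
  unfold Ideal.ofList
  congr 1
  ext x
  simp only [Set.mem_setOf_eq, Set.mem_image]
  rw [List.mem_take_iff_getElem]
  constructor
  · rintro ⟨j, hj, rfl⟩
    rw [List.length_ofFn] at hj
    refine ⟨⟨j, (lt_min_iff.1 hj).2⟩, (lt_min_iff.1 hj).1, ?_⟩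
    simp
  · rintro ⟨j, hj, rfl⟩
    refine ⟨j.val, ?_, ?_⟩
    · rw [List.length_ofFn]; exact lt_min hj j.2
    · simp

lemma ofList_ofFn (g : Fin r → A) :
    Ideal.ofList (List.ofFn g) = Ideal.span (Set.range g) := by
  unfold Ideal.ofList
  congr 1
  ext x
  simp [List.mem_ofFn]

lemma smul_top_self (I : Ideal A) : (I • (⊤ : Submodule A A)) = I := by
  rw [smul_eq_mul, Ideal.mul_top]

lemma isRegular_ofFn_iff (g : Fin r → A) :
    IsRegular A (List.ofFn g) ↔
      (∀ i : Fin r, ∀ c : A, g i * c ∈ Ideal.span (g '' {j | j < i}) →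
        c ∈ Ideal.span (g '' {j | j < i})) ∧
      Ideal.span (Set.range g) ≠ ⊤ := by
  rw [isRegular_iff, isWeaklyRegular_iff]
  constructor
  · rintro ⟨h1, h2⟩
    refine ⟨fun i c hc => ?_, ?_⟩
    · have := h1 i.val (by rw [List.length_ofFn]; exact i.2)
      rw [isSMulRegular_quotient_iff_mem_of_smul_mem, smul_top_self, ofList_take_ofFn] at this
      have h3 := this c
      simp only [List.getElem_ofFn, Fin.eta, smul_eq_mul] at h3
      exact h3 hc
    · rw [smul_top_self, ofList_ofFn] at h2
      exact fun h => h2 h.symm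
  · rintro ⟨h1, h2⟩
    refine ⟨fun i hi => ?_, ?_⟩
    · rw [List.length_ofFn] at hi
      rw [isSMulRegular_quotient_iff_mem_of_smul_mem, smul_top_self, ofList_take_ofFn]
      intro c hc
      simp only [List.getElem_ofFn, smul_eq_mul] at hc
      exact h1 ⟨i, hi⟩ c hc
    · rw [smul_top_self, ofList_ofFn]
      exact fun h => h2 h.symm

end part0

section part1
variable {R : Type*} [CommRing R] {r : ℕ} (f : Fin r → R)

/-- `f j` is a nonzerodivisor modulo the ideal generated by `f '' T`. -/
def Nz (j : Fin r) (T : Set (Fin r)) : Prop :=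
  ∀ c : R, f j * c ∈ Ideal.span (f '' T) → c ∈ Ideal.span (f '' T)

lemma swap_lemma (j m : Fin r) (T : Set (Fin r))
    (h1 : Nz f m (insert j T)) (h2 : Nz f j T) : Nz f j (insert m T) := by
  intro c hc
  rw [Set.image_insert_eq, Ideal.mem_span_insert] at hc ⊢
  obtain ⟨a, z, hz, hcz⟩ := hc
  have h3 : f m * a ∈ Ideal.span (f '' insert j T) := by
    rw [Set.image_insert_eq, Ideal.mem_span_insert]
    exact ⟨c, -z, neg_mem hz, by linear_combination -hcz⟩
  have h4 := h1 a h3
  rw [Set.image_insert_eq, Ideal.mem_span_insert] at h4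
  obtain ⟨a', z', hz', ha⟩ := h4
  have h5 : f j * (c - a' * f m) ∈ Ideal.span (f '' T) := by
    have : f j * (c - a' * f m) = z' * f m + z := by
      rw [ha] at hcz
      linear_combination hcz
    rw [this]
    exact add_mem (Ideal.mul_mem_right _ _ hz') hz
  exact ⟨a', c - a' * f m, h2 _ h5, by ring⟩

lemma Nz_all_finset (h : ∀ j : Fin r, ∀ T : Set (Fin r), T ⊆ {k | k < j} → Nz f j T) :
    ∀ (n : ℕ) (T : Finset (Fin r)) (j : Fin r), j ∉ T →
      (T.filter (fun m => j < m)).card = n → Nz f j ↑T := by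
  intro n
  induction n with
  | zero =>
    intro T j hj hn
    apply h
    intro k hk
    rw [Finset.card_eq_zero, Finset.filter_eq_empty_iff] at hn
    have h1 := hn (Finset.mem_coe.1 hk)
    have h2 : k ≠ j := fun e => hj (e ▸ Finset.mem_coe.1 hk)
    exact lt_of_le_of_ne (not_lt.1 h1) h2
  | succ n ih =>
    intro T j hj hn
    have hne : (T.filter (fun m => j < m)).Nonempty := by
      rw [← Finset.card_pos, hn]; exact Nat.succ_pos _
    obtain ⟨m0, hm0⟩ := hne
    rw [Finset.mem_filter] at hm0
    have hTne : T.Nonempty := ⟨m0, hm0.1⟩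
    set m := T.max' hTne with hm
    have hmT : m ∈ T := Finset.max'_mem T hTne
    have hjm : j < m := lt_of_lt_of_le hm0.2 (Finset.le_max' T m0 hm0.1)
    have hT : (↑T : Set (Fin r)) = insert m (↑(T.erase m) : Set (Fin r)) := by
      rw [← Finset.coe_insert, Finset.insert_erase hmT]
    rw [hT]
    apply swap_lemma
    · apply h
      intro k hk
      rcases hk with rfl | hk
      · exact hjm
      · have hk' := Finset.mem_coe.1 hk
        rw [Finset.mem_erase] at hk'
        exact lt_of_le_of_ne (Finset.le_max' T k hk'.2) hk'.1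
    · apply ih
      · intro hj'
        exact hj (Finset.mem_of_mem_erase hj')
      · have : (T.erase m).filter (fun m' => j < m') = (T.filter (fun m' => j < m')).erase m := by
          ext x
          simp only [Finset.mem_filter, Finset.mem_erase]
          tauto
        rw [this, Finset.card_erase_of_mem, hn]
        · rfl
        · rw [Finset.mem_filter]; exact ⟨hmT, hjm⟩

lemma Nz_all (h : ∀ j : Fin r, ∀ T : Set (Fin r), T ⊆ {k | k < j} → Nz f j T)
    (T : Set (Fin r)) (j : Fin r) (hj : j ∉ T) : Nz f j T := by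
  classical
  have h1 : j ∉ T.toFinite.toFinset := by rw [Set.Finite.mem_toFinset]; exact hj
  have := Nz_all_finset f h _ T.toFinite.toFinset j h1 rfl
  rw [Set.Finite.coe_toFinset] at this
  exact this

end part1

section perm
variable {r : ℕ}

lemma exists_perm (T : Finset (Fin r)) (j : Fin r) (hT : ∀ k ∈ T, k < j) :
    ∃ (σ : Equiv.Perm (Fin r)) (i : Fin r), σ i = j ∧ σ '' {k | k < i} = ↑T := by
  classical
  have hjT : j ∉ T := fun h => lt_irrefl _ (hT j h)
  have htj : T.card ≤ j.val := by
    have : T ⊆ Finset.Iio j := fun k hk => Finset.mem_Iio.2 (hT k hk)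
    calc T.card ≤ (Finset.Iio j).card := Finset.card_le_card this
      _ = j.val := Fin.card_Iio j
  have htr : T.card + 1 ≤ r := by have := j.2; omega
  obtain ⟨t, ht⟩ : ∃ t, t = T.card := ⟨_, rfl⟩
  rw [← ht] at htr htj
  let E1 : {x : Fin r // x.val < t + 1} ≃ Fin (t + 1) :=
    { toFun := fun x => ⟨x.1.val, x.2⟩
      invFun := fun y => ⟨⟨y.val, lt_of_lt_of_le y.2 htr⟩, y.2⟩
      left_inv := fun x => by simp
      right_inv := fun y => by simp }
  have hcard : (insert j T).card = t + 1 := by
    rw [Finset.card_insert_of_notMem hjT, ht]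
  let e0 : {x : Fin r // x.val < t + 1} ≃ {x // x ∈ insert j T} :=
    E1.trans (Finset.equivFinOfCardEq hcard).symm
  let i : Fin r := ⟨t, by omega⟩
  let e : {x : Fin r // x.val < t + 1} ≃ {x // x ∈ insert j T} :=
    e0.trans (Equiv.swap (e0 ⟨i, Nat.lt_succ_self t⟩) ⟨j, Finset.mem_insert_self j T⟩)
  have hei : e ⟨i, Nat.lt_succ_self t⟩ = ⟨j, Finset.mem_insert_self j T⟩ := by
    simp [e]
  refine ⟨e.extendSubtype, i, ?_, ?_⟩
  · rw [Equiv.extendSubtype_apply_of_mem e i (Nat.lt_succ_self t), hei]
  · have hsub : e.extendSubtype '' {k | k < i} ⊆ ↑T := by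
      rintro _ ⟨k, hk, rfl⟩
      have hk' : k.val < t + 1 := Nat.lt_succ_of_lt hk
      rw [Equiv.extendSubtype_apply_of_mem e k hk']
      have h1 := (e ⟨k, hk'⟩).2
      rw [Finset.mem_insert] at h1
      rcases h1 with h1 | h1
      · exfalso
        have : e ⟨k, hk'⟩ = e ⟨i, Nat.lt_succ_self t⟩ := by
          rw [hei]; exact Subtype.ext h1
        have := e.injective this
        have : k = i := congrArg Subtype.val this
        have hk2 : k < i := hk
        rw [this] at hk2
        exact lt_irrefl _ hk2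
      · exact Finset.mem_coe.2 h1
    have hfin : (e.extendSubtype '' {k | k < i}).ncard = t := by
      rw [Set.ncard_image_of_injective _ e.extendSubtype.injective]
      have : {k : Fin r | k < i} = ↑(Finset.Iio i) := by ext; simp
      rw [this, Set.ncard_coe_finset, Fin.card_Iio]
    apply Set.eq_of_subset_of_ncard_le hsub _ (Set.toFinite _)
    rw [hfin, Set.ncard_coe_finset, ht]

end perm

section permiff
variable {R : Type*} [CommRing R] {r : ℕ} (f : Fin r → R)

lemma perm_iff (hf : Ideal.span (Set.range f) ≠ ⊤) :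
    (∀ σ : Equiv.Perm (Fin r), IsRegular R (List.ofFn (f ∘ σ))) ↔
      ∀ j : Fin r, ∀ T : Set (Fin r), T ⊆ {k | k < j} → Nz f j T := by
  constructor
  · intro h j T hT
    obtain ⟨σ, i, hi, hσ⟩ := exists_perm T.toFinite.toFinset j (by
      intro k hk
      rw [Set.Finite.mem_toFinset] at hk
      exact hT hk)
    have h1 := ((isRegular_ofFn_iff (f ∘ σ)).1 (h σ)).1 i
    rw [Set.image_comp, hσ] at h1
    simp only [Function.comp_apply, hi, Set.Finite.coe_toFinset] at h1
    exact h1
  · intro h σ
    rw [isRegular_ofFn_iff]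
    refine ⟨fun i c hc => ?_, ?_⟩
    · rw [Set.image_comp] at hc ⊢
      refine Nz_all f h (σ '' {k | k < i}) (σ i) ?_ c hc
      rintro ⟨k, hk, hki⟩
      have : k = i := σ.injective hki
      have hk2 : k < i := hk
      rw [this] at hk2
      exact lt_irrefl _ hk2
    · rw [Set.range_comp, σ.surjective.range_eq, Set.image_univ]
      exact hf

end permiff

section part2
variable {R : Type*} [CommRing R] {r : ℕ} (f : Fin r → R)
open MvPolynomial

lemma monomial_mem (U : Set (Fin r)) (a : Fin r →₀ ℕ) (c : R)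
    (hc : c ∈ Ideal.span (f '' (U ∩ {j | a j ≠ 0}))) :
    monomial a c ∈ Ideal.span ((fun j => (C (f j) * X j : MvPolynomial (Fin r) R)) '' U) := by
  induction hc using Submodule.span_induction with
  | mem x hx =>
    obtain ⟨j, ⟨hjU, hja⟩, rfl⟩ := hx
    have hsum : a - Finsupp.single j 1 + Finsupp.single j 1 = a := by
      ext k
      rw [Finsupp.add_apply, Finsupp.tsub_apply, Finsupp.single_apply]
      split_ifs with hk
      · subst hk
        have : a j ≠ 0 := hja
        omega
      · omega
    have h1 : (monomial a (f j) : MvPolynomial (Fin r) R) =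
        monomial (a - Finsupp.single j 1) 1 * (C (f j) * X j) := by
      rw [C_mul_X_eq_monomial, monomial_mul, one_mul, hsum]
    rw [h1]
    exact Ideal.mul_mem_left _ _ (Ideal.subset_span ⟨j, hjU, rfl⟩)
  | zero => rw [map_zero]; exact zero_mem _
  | add x y _ _ hx hy => rw [map_add]; exact add_mem hx hy
  | smul t x _ hx =>
    rw [smul_eq_mul, ← C_mul_monomial]
    exact Ideal.mul_mem_left _ _ hx

lemma mem_J_iff (U : Set (Fin r)) (p : MvPolynomial (Fin r) R) :
    p ∈ Ideal.span ((fun j => (C (f j) * X j : MvPolynomial (Fin r) R)) '' U) ↔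
      ∀ a : Fin r →₀ ℕ, coeff a p ∈ Ideal.span (f '' (U ∩ {j | a j ≠ 0})) := by
  classical
  constructor
  · intro hp
    induction hp using Submodule.span_induction with
    | mem x hx =>
      obtain ⟨j, hjU, rfl⟩ := hx
      intro a
      rw [coeff_C_mul, coeff_X']
      split_ifs with h
      · rw [mul_one]
        refine Ideal.subset_span ⟨j, ⟨hjU, ?_⟩, rfl⟩
        rw [← h]
        simp
      · simp
    | zero => intro a; simp
    | add x y _ _ hx hy => intro a; rw [coeff_add]; exact add_mem (hx a) (hy a)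
    | smul q x _ hx =>
      intro a
      rw [smul_eq_mul, coeff_mul]
      refine Ideal.sum_mem _ (fun y hy => Ideal.mul_mem_left _ _ ?_)
      have hy := Finset.HasAntidiagonal.mem_antidiagonal.1 hy
      refine Ideal.span_mono (Set.image_mono ?_) (hx y.2)
      rintro k ⟨hkU, hk⟩
      refine ⟨hkU, ?_⟩
      have hk' : y.2 k ≠ 0 := hk
      have : a k = y.1 k + y.2 k := by rw [← hy]; rfl
      show a k ≠ 0
      omega
  · intro h
    rw [p.as_sum]
    exact Ideal.sum_mem _ (fun a _ => monomial_mem f U a _ (h a))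

lemma NzS_iff (i : Fin r) :
    (∀ p : MvPolynomial (Fin r) R,
      (C (f i) * X i) * p ∈
          Ideal.span ((fun j => (C (f j) * X j : MvPolynomial (Fin r) R)) '' {k | k < i}) →
        p ∈ Ideal.span ((fun j => (C (f j) * X j : MvPolynomial (Fin r) R)) '' {k | k < i})) ↔
      ∀ T : Set (Fin r), T ⊆ {k | k < i} → Nz f i T := by
  classical
  constructor
  · intro h T hT c hc
    let a0 : Fin r →₀ ℕ := Finsupp.equivFunOnFinite.symm (fun j => if j ∈ T then 1 else 0)
    have ha0 : ∀ j, a0 j = if j ∈ T then 1 else 0 := fun j => rfl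
    have hiT : i ∉ T := fun hi => lt_irrefl i (hT hi : i < i)
    have h1 : (C (f i) * X i) * monomial a0 c ∈
        Ideal.span ((fun j => (C (f j) * X j : MvPolynomial (Fin r) R)) '' {k | k < i}) := by
      rw [C_mul_X_eq_monomial, monomial_mul]
      apply monomial_mem
      refine Ideal.span_mono (Set.image_mono ?_) hc
      intro k hk
      refine ⟨hT hk, ?_⟩
      show (Finsupp.single i 1 + a0 : Fin r →₀ ℕ) k ≠ 0
      rw [Finsupp.add_apply, ha0, if_pos hk]
      omega
    have h2 := (mem_J_iff f _ _).1 (h _ h1) a0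
    rw [coeff_monomial, if_pos rfl] at h2
    refine Ideal.span_mono (Set.image_mono ?_) h2
    rintro k ⟨-, hk⟩
    by_contra hkT
    exact hk (by rw [ha0, if_neg hkT])
  · intro h p hp
    rw [mem_J_iff] at hp ⊢
    intro b
    have h1 := hp (b + Finsupp.single i 1)
    rw [mul_assoc, coeff_C_mul, mul_comm (X i) p, coeff_mul_X] at h1
    have h2 : ({k | k < i} ∩ {j | (b + Finsupp.single i 1 : Fin r →₀ ℕ) j ≠ 0} : Set (Fin r)) =
        {k | k < i} ∩ {j | b j ≠ 0} := by
      ext k
      simp only [Set.mem_inter_iff, Set.mem_setOf_eq, Finsupp.add_apply, Finsupp.single_apply]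
      constructor
      · rintro ⟨hk, hk2⟩
        refine ⟨hk, ?_⟩
        have hne : ¬ (i = k) := fun e => by rw [e] at hk; exact lt_irrefl _ hk
        rw [if_neg hne] at hk2
        simpa using hk2
      · rintro ⟨hk, hk2⟩
        refine ⟨hk, ?_⟩
        have hne : ¬ (i = k) := fun e => by rw [e] at hk; exact lt_irrefl _ hk
        rw [if_neg hne]
        simpa using hk2
    rw [h2] at h1
    exact h ({k | k < i} ∩ {j | b j ≠ 0}) Set.inter_subset_left _ h1

end part2

theorem main {R : Type*} [CommRing R] {r : ℕ} (f : Fin r → R)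
    (hf : Ideal.span (Set.range f) ≠ ⊤) :
    (∀ σ : Equiv.Perm (Fin r), RingTheory.Sequence.IsRegular R (List.ofFn (f ∘ σ))) ↔
      RingTheory.Sequence.IsRegular (MvPolynomial (Fin r) R)
        (List.ofFn fun i => MvPolynomial.C (f i) * MvPolynomial.X i) := by
  rw [perm_iff f hf, isRegular_ofFn_iff]
  constructor
  · intro h
    refine ⟨fun i => (NzS_iff f i).2 (h i), ?_⟩
    intro htop
    have h1 : (1 : MvPolynomial (Fin r) R) ∈ Ideal.span
        ((fun j => (MvPolynomial.C (f j) * MvPolynomial.X j : MvPolynomial (Fin r) R)) ''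
          Set.univ) := by
      rw [Set.image_univ, htop]; trivial
    have h2 := (mem_J_iff f _ _).1 h1 0
    have h3 : (Set.univ ∩ {j | (0 : Fin r →₀ ℕ) j ≠ 0} : Set (Fin r)) = ∅ := by
      ext k; simp
    rw [h3, Set.image_empty, Ideal.span_empty, MvPolynomial.coeff_zero_one, Ideal.mem_bot] at h2
    apply hf
    rw [Ideal.eq_top_iff_one, h2]
    exact zero_mem _
  · rintro ⟨h, -⟩ j
    exact (NzS_iff f j).1 (h j)

end Groth.Agent.Helper8.PermReg
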