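import Mathlib
import Groth.Prelude.Def_EtRam
import Groth.Prelude.Def_Found
import Groth.Agent.Helper4.Japanese

/-!
# PiA: generalities for the purely inseparable degree `p` step (Epp)

* purely inseparable of prime degree `p` forces characteristic `p` and `x ^ p ∈ L`;
* `C ∩ L = B` for an extension of DVRs `B ⊆ C`;
* the ramification dichotomy `e ∈ {1, p}`;
* the `p`-th power expansion dichotomy of a unit;
* `C = B[c]` when `c` is a uniformizer of `C` with `c ^ p` a uniformizer of `B`.
-/

set_option autoImplicit false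
universe u

namespace Groth.Agent.Helper8.Pi

open IsLocalRing Polynomial

section Char

variable {L M : Type*} [Field L] [Field M] [Algebra L M]

/-- purely inseparable of prime degree `p` forces characteristic `p` -/
theorem charP_of_finrank_eq (p : ℕ) (hp : p.Prime) [IsPurelyInseparable L M]
    (hdeg : Module.finrank L M = p) : CharP L p := by
  haveI : FiniteDimensional L M := Module.finite_of_finrank_pos (by rw [hdeg]; exact hp.pos)
  obtain ⟨c, hc⟩ := CharP.exists L
  haveI := hc
  rcases CharP.char_is_prime_or_zero L c with hcp | rfl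
  · haveI : ExpChar L c := ExpChar.prime hcp
    obtain ⟨n, hn⟩ := IsPurelyInseparable.finrank_eq_pow (F := L) M c
    rw [hdeg] at hn
    have h1 : c ∣ p := by
      rcases Nat.eq_zero_or_pos n with rfl | hpos
      · rw [pow_zero] at hn
        exact absurd hn hp.one_lt.ne'
      · rw [hn]
        exact dvd_pow_self c hpos.ne'
    have : c = p := (Nat.prime_dvd_prime_iff_eq hcp hp).1 h1
    subst this
    infer_instance
  · haveI : CharZero L := CharP.charP_to_charZero L
    haveI : ExpChar L 1 := ExpChar.zero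
    obtain ⟨n, hn⟩ := IsPurelyInseparable.finrank_eq_pow (F := L) M 1
    rw [one_pow, hdeg] at hn
    exact absurd hn hp.one_lt.ne'

/-- in a purely inseparable extension of degree `p`, `p`-th powers lie in the base -/
theorem pow_mem_range (p : ℕ) (hp : p.Prime) [CharP L p] [IsPurelyInseparable L M]
    (hdeg : Module.finrank L M = p) (x : M) : ∃ l : L, algebraMap L M l = x ^ p := by
  haveI : FiniteDimensional L M := Module.finite_of_finrank_pos (by rw [hdeg]; exact hp.pos)
  haveI : ExpChar L p := ExpChar.prime hp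
  obtain ⟨n, y, hmin⟩ := IsPurelyInseparable.minpoly_eq_X_pow_sub_C L p x
  have hdeg' : (minpoly L x).natDegree ≤ p := by
    rw [← hdeg]
    exact minpoly.natDegree_le x
  rw [hmin, natDegree_X_pow_sub_C] at hdeg'
  have hx : x ^ p ^ n = algebraMap L M y := by
    have h := minpoly.aeval L x
    rw [hmin] at h
    simpa [sub_eq_zero] using h
  have hn : n ≤ 1 := by
    by_contra h
    push_neg at h
    have h2 : p ^ 2 ≤ p ^ n := Nat.pow_le_pow_right hp.pos h
    nlinarith [hp.two_le]
  interval_cases n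
  · exact ⟨y ^ p, by rw [map_pow, ← hx, pow_zero, pow_one]⟩
  · exact ⟨y, by rw [← hx, pow_one]⟩

end Char

section Ext

variable {B C L M : Type*} [CommRing B] [IsDomain B] [IsDiscreteValuationRing B]
  [CommRing C] [IsDomain C] [IsDiscreteValuationRing C] [Algebra B C]
  [IsLocalHom (algebraMap B C)]
  [Field L] [Field M] [Algebra B L] [IsFractionRing B L] [Algebra C M] [IsFractionRing C M]
  [Algebra L M] [Algebra B M] [IsScalarTower B L M] [IsScalarTower B C M]

omit [IsDiscreteValuationRing C] in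
/-- `C ∩ L = B` -/
theorem exists_of_mem (l : L) (c : C) (h : algebraMap L M l = algebraMap C M c) :
    ∃ b : B, algebraMap B L b = l := by
  obtain ⟨b₁, b₂, hb₂, rfl⟩ := IsFractionRing.div_surjective (A := B) l
  have hb₂0 : b₂ ≠ 0 := nonZeroDivisors.ne_zero hb₂
  have hb₂L : algebraMap B L b₂ ≠ 0 := (map_ne_zero_iff _ (IsFractionRing.injective B L)).2 hb₂0
  rcases ValuationRing.dvd_total b₁ b₂ with ⟨d, hd⟩ | ⟨d, hd⟩
  · have hb₁0 : b₁ ≠ 0 := by
      rintro rfl
      rw [zero_mul] at hd
      exact hb₂0 hd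
    have hb₁L : algebraMap B L b₁ ≠ 0 :=
      (map_ne_zero_iff _ (IsFractionRing.injective B L)).2 hb₁0
    have hd0 : d ≠ 0 := by
      rintro rfl
      rw [mul_zero] at hd
      exact hb₂0 hd
    have hdL : algebraMap B L d ≠ 0 := (map_ne_zero_iff _ (IsFractionRing.injective B L)).2 hd0
    have h1 : algebraMap B L b₁ / algebraMap B L b₂ * algebraMap B L d = 1 := by
      rw [hd, map_mul]
      field_simp
    by_cases hdu : IsUnit d
    · obtain ⟨u, rfl⟩ := hdu
      refine ⟨((u⁻¹ : Bˣ) : B), ?_⟩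
      have h2 : algebraMap B L ((u⁻¹ : Bˣ) : B) * algebraMap B L (u : B) = 1 := by
        rw [← map_mul, Units.inv_mul, map_one]
      rw [eq_comm]
      calc algebraMap B L b₁ / algebraMap B L b₂
          = algebraMap B L b₁ / algebraMap B L b₂ * 1 := (mul_one _).symm
        _ = algebraMap B L b₁ / algebraMap B L b₂ *
            (algebraMap B L (u : B) * algebraMap B L ((u⁻¹ : Bˣ) : B)) := by
              rw [mul_comm (algebraMap B L (u : B)), h2]
        _ = algebraMap B L ((u⁻¹ : Bˣ) : B) := by rw [← mul_assoc, h1, one_mul]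
    · exfalso
      have h2 : algebraMap C M (c * algebraMap B C d) = 1 := by
        rw [map_mul, ← h, ← IsScalarTower.algebraMap_apply B C M,
          IsScalarTower.algebraMap_apply B L M, ← map_mul, h1, map_one]
      have h3 : c * algebraMap B C d = 1 :=
        IsFractionRing.injective C M (by rw [h2, map_one])
      have h4 : IsUnit (algebraMap B C d) := IsUnit.of_mul_eq_one c (by rw [mul_comm]; exact h3)
      exact hdu (isUnit_of_map_unit (algebraMap B C) d h4)
  · refine ⟨d, ?_⟩
    rw [hd, map_mul]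
    field_simp

/-- version with values in `C` -/
theorem exists_of_mem' (l : L) (c : C) (h : algebraMap L M l = algebraMap C M c) :
    ∃ b : B, algebraMap B L b = l ∧ algebraMap B C b = c := by
  obtain ⟨b, hb⟩ := exists_of_mem (B := B) l c h
  refine ⟨b, hb, ?_⟩
  apply IsFractionRing.injective C M
  rw [← IsScalarTower.algebraMap_apply B C M, IsScalarTower.algebraMap_apply B L M, hb, h]

/-- the ramification dichotomy: `e = 1` or `e = p` -/
theorem ram_dichotomy (p : ℕ) (hp : p.Prime)
    (hpow : ∀ x : M, ∃ l : L, algebraMap L M l = x ^ p)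
    (hBC : Function.Injective (algebraMap B C)) (b₀ : B) (hb₀ : Irreducible b₀) :
    Irreducible (algebraMap B C b₀) ∨
      ∃ (ϖ : C) (w : Bˣ), Irreducible ϖ ∧ ϖ ^ p = algebraMap B C ((w : B) * b₀) := by
  obtain ⟨ϖ, hϖ⟩ := IsDiscreteValuationRing.exists_irreducible C
  obtain ⟨l, hl⟩ := hpow (algebraMap C M ϖ)
  rw [← map_pow] at hl
  obtain ⟨b, -, hbC⟩ := exists_of_mem' (B := B) l (ϖ ^ p) hl
  have hb0 : b ≠ 0 := by
    rintro rfl
    rw [map_zero] at hbC
    exact pow_ne_zero p hϖ.ne_zero hbC.symm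
  obtain ⟨j, hj⟩ := IsDiscreteValuationRing.associated_pow_irreducible hb0 hb₀
  have hb₀C : algebraMap B C b₀ ≠ 0 := (map_ne_zero_iff _ hBC).2 hb₀.ne_zero
  obtain ⟨e, he⟩ := IsDiscreteValuationRing.associated_pow_irreducible hb₀C hϖ
  have h1 : Associated (ϖ ^ p) (ϖ ^ (e * j)) := by
    rw [← hbC, pow_mul]
    refine (hj.map (algebraMap B C)).trans ?_
    rw [map_pow]
    exact he.pow_pow
  have h2 : p = e * j := by
    obtain ⟨v, hv⟩ := h1
    refine IsDiscreteValuationRing.unit_mul_pow_congr_pow hϖ hϖ v 1 p (e * j) ?_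
    rw [Units.val_one, one_mul, ← hv, mul_comm]
  rcases (Nat.dvd_prime hp).1 ⟨j, h2⟩ with he1 | hep
  · left
    rw [he1, pow_one] at he
    exact he.symm.irreducible hϖ
  · right
    have hj1 : j = 1 := by
      subst hep
      have := hp.pos
      nlinarith
    rw [hj1, pow_one] at hj
    obtain ⟨w, hw⟩ := hj.symm
    exact ⟨ϖ, w, hϖ, by rw [← hbC, ← hw, mul_comm]⟩

end Ext

section Expansion

variable {B : Type*} [CommRing B] [IsDomain B] [IsDiscreteValuationRing B]

/-- the `p`-th power expansion dichotomy -/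
theorem expansion_dichotomy (p : ℕ) (b₀ u : B) (hb₀ : Irreducible b₀) :
    (∀ m : ℕ, ∃ (f : ℕ → B) (r : B),
        u = ∑ i ∈ Finset.range m, f i ^ p * b₀ ^ i + r * b₀ ^ m) ∨
    ∃ (m : ℕ) (f : ℕ → B) (r : B),
      u = ∑ i ∈ Finset.range m, f i ^ p * b₀ ^ i + r * b₀ ^ m ∧
        ∀ y : B, residue B r ≠ residue B y ^ p := by
  classical
  by_cases h : ∀ m : ℕ, ∃ (f : ℕ → B) (r : B),
      u = ∑ i ∈ Finset.range m, f i ^ p * b₀ ^ i + r * b₀ ^ m
  · exact Or.inl h
  · right
    push_neg at h
    have hm := Nat.find_spec h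
    have hm0 : Nat.find h ≠ 0 := by
      intro h0
      rw [h0] at hm
      exact hm (fun _ => 0) u (by simp)
    obtain ⟨m', hm'⟩ := Nat.exists_eq_succ_of_ne_zero hm0
    have hlt : m' < Nat.find h := by omega
    have hmin := Nat.find_min h hlt
    push_neg at hmin
    obtain ⟨f, r, hfr⟩ := hmin
    refine ⟨m', f, r, hfr, fun y hy => ?_⟩
    have hmem : r - y ^ p ∈ maximalIdeal B := by
      rw [← residue_eq_zero_iff, map_sub, map_pow, hy, sub_self]
    rw [hb₀.maximalIdeal_eq, Ideal.mem_span_singleton] at hmem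
    obtain ⟨r', hr'⟩ := hmem
    rw [hm', Nat.succ_eq_add_one] at hm
    apply hm (Function.update f m' y) r'
    rw [Finset.sum_range_succ, Function.update_self]
    have hsum : ∑ i ∈ Finset.range m', Function.update f m' y i ^ p * b₀ ^ i =
        ∑ i ∈ Finset.range m', f i ^ p * b₀ ^ i := by
      apply Finset.sum_congr rfl
      intro i hi
      rw [Function.update_of_ne (Finset.mem_range.1 hi).ne]
    rw [hsum, hfr]
    have hr : r = y ^ p + b₀ * r' := by rw [← hr']; ring
    rw [hr]
    ring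

end Expansion

section NotPow

variable {B L : Type*} [CommRing B] [IsDomain B] [IsDiscreteValuationRing B]
  [Field L] [Algebra B L] [IsFractionRing B L]

/-- a uniformizer is not a `p`-th power in the fraction field -/
theorem not_pow_of_irreducible (p : ℕ) (hp : 2 ≤ p) (b₀ : B) (hb₀ : Irreducible b₀) (l : L) :
    l ^ p ≠ algebraMap B L b₀ := by
  intro h
  have hint : IsIntegral B l := by
    refine ⟨X ^ p - C b₀, monic_X_pow_sub_C b₀ (by omega), ?_⟩
    rw [eval₂_sub, eval₂_pow, eval₂_X, eval₂_C, h, sub_self]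
  obtain ⟨y, rfl⟩ := (IsIntegrallyClosed.isIntegral_iff (R := B) (K := L)).1 hint
  rw [← map_pow] at h
  have hy : y ^ p = b₀ := IsFractionRing.injective B L h
  obtain ⟨q, rfl⟩ : ∃ q, p = q + 2 := ⟨p - 2, by omega⟩
  have h1 : b₀ = y * y ^ (q + 1) := by rw [← hy]; ring
  rcases hb₀.isUnit_or_isUnit h1 with hu | hu
  · exact hb₀.not_isUnit (hy ▸ hu.pow _)
  · have : IsUnit y := (isUnit_pow_iff (Nat.succ_ne_zero q)).1 hu
    exact hb₀.not_isUnit (hy ▸ this.pow _)

end NotPow

section Span

variable {L M : Type*} [Field L] [Field M] [Algebra L M]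

/-- `1, c, …, c ^ (p - 1)` span a degree `p` extension when `c ^ p ∈ L` is not a `p`-th power -/
theorem span_of_pow (p : ℕ) (hp : p.Prime) (hdeg : Module.finrank L M = p) (c : M) (l₀ : L)
    (hc : c ^ p = algebraMap L M l₀) (hl₀ : ∀ l : L, l ^ p ≠ l₀) (x : M) :
    ∃ g : Fin p → L, x = ∑ i, algebraMap L M (g i) * c ^ (i : ℕ) := by
  haveI : FiniteDimensional L M := Module.finite_of_finrank_pos (by rw [hdeg]; exact hp.pos)
  have hirr : Irreducible (X ^ p - C l₀ : L[X]) := X_pow_sub_C_irreducible_of_prime hp hl₀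
  have hroot : aeval c (X ^ p - C l₀ : L[X]) = 0 := by
    rw [map_sub, map_pow, aeval_X, aeval_C, hc, sub_self]
  have hmin : (X ^ p - C l₀ : L[X]) = minpoly L c :=
    minpoly.eq_of_irreducible_of_monic hirr hroot (monic_X_pow_sub_C l₀ hp.ne_zero)
  have hnat : (minpoly L c).natDegree = p := by
    rw [← hmin, natDegree_X_pow_sub_C]
  have hli : LinearIndependent L fun i : Fin p => c ^ (i : ℕ) := by
    have := linearIndependent_pow (K := L) c
    rwa [hnat] at this
  have hspan : Submodule.span L (Set.range fun i : Fin p => c ^ (i : ℕ)) = ⊤ :=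
    hli.span_eq_top_of_card_eq_finrank' (by rw [Fintype.card_fin, hdeg])
  have hx : x ∈ Submodule.span L (Set.range fun i : Fin p => c ^ (i : ℕ)) := by
    rw [hspan]; exact Submodule.mem_top
  obtain ⟨g, hg⟩ := (Submodule.mem_span_range_iff_exists_fun L).1 hx
  refine ⟨g, ?_⟩
  rw [← hg]
  exact Finset.sum_congr rfl fun i _ => Algebra.smul_def _ _

end Span

section Coeffs

variable {B C L M : Type*} [CommRing B] [IsDomain B] [IsDiscreteValuationRing B]
  [CommRing C] [IsDomain C] [IsDiscreteValuationRing C] [Algebra B C]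
  [IsLocalHom (algebraMap B C)]
  [Field L] [Field M] [Algebra B L] [IsFractionRing B L] [Algebra C M] [IsFractionRing C M]
  [Algebra L M] [Algebra B M] [IsScalarTower B L M] [IsScalarTower B C M]

omit [IsDiscreteValuationRing C] [IsLocalHom (algebraMap B C)] [IsFractionRing C M]
  [IsScalarTower B C M] [Algebra C M] [Algebra L M] [Algebra B M] [IsScalarTower B L M] in
/-- every element of `L` becomes integral after multiplication by a power of the uniformizer -/
theorem exists_pow_mul_mem (b₀ : B) (hb₀ : Irreducible b₀) (l : L) :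
    ∃ (k : ℕ) (b : B), l * algebraMap B L b₀ ^ k = algebraMap B L b := by
  obtain ⟨b₁, b₂, hb₂, rfl⟩ := IsFractionRing.div_surjective (A := B) l
  have hb₂0 : b₂ ≠ 0 := nonZeroDivisors.ne_zero hb₂
  have hb₂L : algebraMap B L b₂ ≠ 0 := (map_ne_zero_iff _ (IsFractionRing.injective B L)).2 hb₂0
  obtain ⟨k, hk⟩ := IsDiscreteValuationRing.associated_pow_irreducible hb₂0 hb₀
  obtain ⟨w, hw⟩ := hk
  refine ⟨k, b₁ * w, ?_⟩
  rw [← map_pow, ← hw, map_mul, map_mul]
  field_simp

/-- `C = ⊕ B c ^ i` when `c` is a uniformizer of `C` and `c ^ p` is associated to a uniformizer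
of `B`, provided the powers of `c` span `M` over `L`. -/
theorem exists_coeffs (p : ℕ) (c : C) (hc : Irreducible c)
    (b₀ : B) (hb₀ : Irreducible b₀) (hcp : Associated (algebraMap B C b₀) (c ^ p))
    (hspan : ∀ x : M, ∃ g : Fin p → L,
      x = ∑ i, algebraMap L M (g i) * algebraMap C M c ^ (i : ℕ))
    (x : C) : ∃ g : Fin p → B, x = ∑ i, algebraMap B C (g i) * c ^ (i : ℕ) := by
  classical
  obtain ⟨g, hg⟩ := hspan (algebraMap C M x)
  -- a common exponent
  have hP : ∃ k : ℕ, ∀ i, ∃ b : B, g i * algebraMap B L b₀ ^ k = algebraMap B L b := by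
    choose ki bi hkb using fun i => exists_pow_mul_mem b₀ hb₀ (g i)
    refine ⟨Finset.univ.sup ki, fun i => ?_⟩
    have hle : ki i ≤ Finset.univ.sup ki := Finset.le_sup (Finset.mem_univ i)
    obtain ⟨d, hd⟩ := Nat.exists_eq_add_of_le hle
    refine ⟨bi i * b₀ ^ d, ?_⟩
    rw [hd, pow_add, ← mul_assoc, hkb, map_mul, map_pow]
  have hspec := Nat.find_spec hP
  rcases Nat.eq_zero_or_pos (Nat.find hP) with h0 | hpos
  · rw [h0] at hspec
    choose b hb using hspec
    refine ⟨b, ?_⟩
    apply IsFractionRing.injective C M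
    rw [hg, map_sum]
    apply Finset.sum_congr rfl
    intro i _
    have := hb i
    rw [pow_zero, mul_one] at this
    rw [map_mul, map_pow, ← IsScalarTower.algebraMap_apply B C M,
      IsScalarTower.algebraMap_apply B L M, this]
  · exfalso
    obtain ⟨k', hk'⟩ := Nat.exists_eq_succ_of_ne_zero hpos.ne'
    choose b hb using hspec
    have hmin := Nat.find_min hP (show k' < Nat.find hP by omega)
    -- some `b i` is not divisible by `b₀`
    have hex : ∃ i, ¬ b₀ ∣ b i := by
      by_contra hall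
      push_neg at hall
      apply hmin
      intro i
      obtain ⟨b', hb'⟩ := hall i
      refine ⟨b', ?_⟩
      have h1 := hb i
      rw [hk', pow_succ, ← mul_assoc, hb', map_mul, mul_comm (algebraMap B L b₀)] at h1
      have hb₀L : algebraMap B L b₀ ≠ 0 :=
        (map_ne_zero_iff _ (IsFractionRing.injective B L)).2 hb₀.ne_zero
      exact mul_right_cancel₀ hb₀L h1
    -- the least such index
    let S : Finset (Fin p) := Finset.univ.filter fun i => ¬ b₀ ∣ b i
    have hS : S.Nonempty := by
      obtain ⟨i, hi⟩ := hex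
      exact ⟨i, Finset.mem_filter.2 ⟨Finset.mem_univ _, hi⟩⟩
    obtain ⟨i₀, hi₀S, hi₀min⟩ := S.exists_minimal hS
    have hi₀ : ¬ b₀ ∣ b i₀ := (Finset.mem_filter.1 hi₀S).2
    -- the identity in `C`
    have hC : algebraMap B C b₀ ^ (Nat.find hP) * x = ∑ i, algebraMap B C (b i) * c ^ (i : ℕ) := by
      apply IsFractionRing.injective C M
      rw [map_mul, hg, map_sum, Finset.mul_sum]
      apply Finset.sum_congr rfl
      intro i _
      rw [map_mul, map_pow, map_pow, ← IsScalarTower.algebraMap_apply B C M,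
        ← IsScalarTower.algebraMap_apply B C M, IsScalarTower.algebraMap_apply B L M,
        IsScalarTower.algebraMap_apply B L M (b i), ← hb i, map_mul, map_pow]
      ring
    have hcp' : c ^ p ∣ algebraMap B C b₀ := hcp.symm.dvd
    have hi₀p : (i₀ : ℕ) + 1 ≤ p := i₀.2
    have hdvd1 : c ^ ((i₀ : ℕ) + 1) ∣ algebraMap B C b₀ :=
      (pow_dvd_pow c hi₀p).trans hcp'
    have hlhs : c ^ ((i₀ : ℕ) + 1) ∣ algebraMap B C b₀ ^ (Nat.find hP) * x := by
      rw [hk', pow_succ (algebraMap B C b₀)]
      exact Dvd.dvd.mul_right (Dvd.dvd.mul_left hdvd1 _) _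
    rw [hC, ← Finset.add_sum_erase Finset.univ _ (Finset.mem_univ i₀)] at hlhs
    have hrest : c ^ ((i₀ : ℕ) + 1) ∣
        ∑ i ∈ Finset.univ.erase i₀, algebraMap B C (b i) * c ^ (i : ℕ) := by
      apply Finset.dvd_sum
      intro i hi
      have hne : i ≠ i₀ := (Finset.mem_erase.1 hi).1
      rcases lt_or_gt_of_ne hne with hlt | hgt
      · -- `i < i₀`: `b₀ ∣ b i`
        have hdiv : b₀ ∣ b i := by
          by_contra hnd
          have hiS : i ∈ S := Finset.mem_filter.2 ⟨Finset.mem_univ _, hnd⟩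
          have := hi₀min hiS
          exact absurd (this hlt.le) (not_le.2 hlt)
        obtain ⟨b', hb'⟩ := hdiv
        rw [hb', map_mul]
        exact Dvd.dvd.mul_right (Dvd.dvd.mul_right hdvd1 _) _
      · exact Dvd.dvd.mul_left (pow_dvd_pow c (Nat.succ_le_of_lt hgt)) _
    have hterm : c ^ ((i₀ : ℕ) + 1) ∣ algebraMap B C (b i₀) * c ^ (i₀ : ℕ) :=
      (dvd_add_left hrest).1 hlhs
    rw [pow_succ, mul_comm (algebraMap B C (b i₀))] at hterm
    have hcdvd : c ∣ algebraMap B C (b i₀) :=
      (mul_dvd_mul_iff_left (pow_ne_zero _ hc.ne_zero)).1 hterm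
    -- but `b i₀` is a unit
    have hunit : IsUnit (b i₀) := by
      by_contra hnu
      have : b i₀ ∈ maximalIdeal B := hnu
      rw [hb₀.maximalIdeal_eq, Ideal.mem_span_singleton] at this
      exact hi₀ this
    have hunitC : IsUnit (algebraMap B C (b i₀)) := hunit.map _
    exact hc.not_isUnit (isUnit_of_dvd_unit hcdvd hunitC)

/-- consequently `C = B[c]` -/
theorem adjoin_eq_top (p : ℕ) (c : C) (hc : Irreducible c)
    (b₀ : B) (hb₀ : Irreducible b₀) (hcp : Associated (algebraMap B C b₀) (c ^ p))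
    (hspan : ∀ x : M, ∃ g : Fin p → L,
      x = ∑ i, algebraMap L M (g i) * algebraMap C M c ^ (i : ℕ)) :
    Algebra.adjoin B {c} = ⊤ := by
  rw [eq_top_iff]
  rintro x -
  obtain ⟨g, hg⟩ := exists_coeffs (L := L) (M := M) p c hc b₀ hb₀ hcp hspan x
  rw [hg]
  refine Subalgebra.sum_mem _ fun i _ => ?_
  exact Subalgebra.mul_mem _ (Subalgebra.algebraMap_mem _ _)
    (Subalgebra.pow_mem _ (Algebra.subset_adjoin (Set.mem_singleton c)) _)

end Coeffs

section N2

variable (B L : Type u) [CommRing B] [IsDomain B] [Field L] [Algebra B L] [IsFractionRing B L]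

/-- a Nagata domain is N-2 (via `R ≃ R ⧸ ⊥`) -/
theorem isN2_of_isNagata (hB : CAlg.IsNagata B) : CAlg.IsN2 B := by
  haveI : (⊥ : Ideal B).IsPrime := Ideal.bot_prime
  have h := hB.2 ⊥
  let e : (B ⧸ (⊥ : Ideal B)) ≃+* B := RingEquiv.quotientBot B
  letI : Algebra (B ⧸ (⊥ : Ideal B)) B := e.toRingHom.toAlgebra
  haveI h1 : IsLocalization (⊥ : Submonoid (B ⧸ (⊥ : Ideal B))) (B ⧸ (⊥ : Ideal B)) :=
    IsLocalization.self (by
      intro x hx
      rw [Submonoid.mem_bot] at hx
      subst hx
      exact isUnit_one)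
  haveI h2 : IsLocalization (⊥ : Submonoid (B ⧸ (⊥ : Ideal B))) B :=
    IsLocalization.isLocalization_of_algEquiv (⊥ : Submonoid (B ⧸ (⊥ : Ideal B)))
      (AlgEquiv.ofRingEquiv (f := e) (fun _ => rfl))
  exact Groth.Agent.Helper4.Japanese.isN2_of_isLocalization (B ⧸ (⊥ : Ideal B))
    (⊥ : Submonoid (B ⧸ (⊥ : Ideal B))) B h

/-- integral closures of a Nagata domain in finite extensions of its fraction field are finite -/
theorem finite_integralClosure (hB : CAlg.IsNagata B) (E : Type u) [Field E] [Algebra B E]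
    [Algebra L E] [IsScalarTower B L E] [FiniteDimensional L E] :
    Module.Finite B (integralClosure B E) :=
  Groth.Agent.Helper4.Japanese.IsN2.finite (isN2_of_isNagata B hB) L E

end N2

end Groth.Agent.Helper8.Pi
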