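import Mathlib
import Groth.Prelude.Def_EtRam
import Groth.Prelude.Def_Found
import Groth.Agent.Helper8.PiA

/-!
# PiB: the case `C = B[π^(1/p)]` of the purely inseparable trichotomy

If the unit `w` with `ϖ ^ p = w π` admits `p`-th power expansions to all orders, then `π` is a
`p`-th power in `M` (Krull intersection + finiteness of integral closures over the Nagata ring `B`).
-/

set_option autoImplicit false
universe u

namespace Groth.Agent.Helper8.Pi

open IsLocalRing Polynomial

section Krull

variable {B L E : Type u} [CommRing B] [IsDomain B] [IsDiscreteValuationRing B] [Field L]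
  [Algebra B L] [IsFractionRing B L]
  [Field E] [Algebra B E] [Algebra L E] [IsScalarTower B L E] [FiniteDimensional L E]

include L in
theorem mem_adjoin_of_expansions (p : ℕ) [Fact p.Prime] [CharP E p] (hB : CAlg.IsNagata B)
    (b₀ u : B) (hb₀ : Irreducible b₀)
    (hexp : ∀ m : ℕ, ∃ (f : ℕ → B) (r : B),
      u = ∑ i ∈ Finset.range m, f i ^ p * b₀ ^ i + r * b₀ ^ m)
    (c t : E) (hc : c ^ p = algebraMap B E b₀) (ht : t ^ p = algebraMap B E u) :
    t ∈ Algebra.adjoin B ({c} : Set E) := by
  classical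
  have hp : p.Prime := Fact.out
  haveI := hB.1
  haveI hfin : Module.Finite B (integralClosure B E) := finite_integralClosure B L hB E
  have hinjBE : Function.Injective (algebraMap B E) := by
    rw [IsScalarTower.algebraMap_eq B L E]
    exact (algebraMap L E).injective.comp (IsFractionRing.injective B L)
  have hb₀E : algebraMap B E b₀ ≠ 0 := (map_ne_zero_iff _ hinjBE).2 hb₀.ne_zero
  have hpowint : ∀ (y : E) (r : B), y ^ p = algebraMap B E r → y ∈ integralClosure B E := by
    intro y r hy
    refine ⟨X ^ p - C r, monic_X_pow_sub_C r hp.ne_zero, ?_⟩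
    rw [eval₂_sub, eval₂_pow, eval₂_X, eval₂_C, hy, sub_self]
  have hcS : c ∈ integralClosure B E := hpowint c b₀ hc
  have htS : t ∈ integralClosure B E := hpowint t u ht
  have hNS : Algebra.adjoin B ({c} : Set E) ≤ integralClosure B E :=
    Algebra.adjoin_le (by
      intro x hx
      rw [Set.mem_singleton_iff] at hx
      rw [hx]
      exact hcS)
  let S : Subalgebra B E := integralClosure B E
  let Ns : Submodule B S :=
    (Subalgebra.toSubmodule (Algebra.adjoin B ({c} : Set E))).comap S.val.toLinearMap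
  have hkrull : (⨅ i : ℕ, maximalIdeal B ^ i • ⊤ : Submodule B (S ⧸ Ns)) = ⊥ :=
    Ideal.iInf_pow_smul_eq_bot_of_isLocalRing (maximalIdeal B) (maximalIdeal.isMaximal B).ne_top
  have hmem : Ns.mkQ (⟨t, htS⟩ : S) ∈ (⨅ i : ℕ, maximalIdeal B ^ i • ⊤ : Submodule B (S ⧸ Ns)) := by
    rw [Submodule.mem_iInf]
    intro k
    obtain ⟨f, r, hfr⟩ := hexp (p * k)
    let s : E := ∑ i ∈ Finset.range (p * k), algebraMap B E (f i) * c ^ i
    have hsN : s ∈ Algebra.adjoin B ({c} : Set E) := by
      refine Subalgebra.sum_mem _ fun i _ => ?_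
      exact Subalgebra.mul_mem _ (Subalgebra.algebraMap_mem _ _)
        (Subalgebra.pow_mem _ (Algebra.subset_adjoin (Set.mem_singleton c)) _)
    have hs : s ^ p = algebraMap B E (∑ i ∈ Finset.range (p * k), f i ^ p * b₀ ^ i) := by
      rw [sum_pow_char, map_sum]
      apply Finset.sum_congr rfl
      intro i _
      rw [mul_pow, ← pow_mul, mul_comm i p, pow_mul, hc, map_mul, map_pow, map_pow]
    have hnum : (t - s) ^ p = algebraMap B E (r * b₀ ^ (p * k)) := by
      rw [sub_pow_char, ht, hs, ← map_sub]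
      congr 1
      rw [hfr]
      ring
    let y : E := (t - s) / algebraMap B E b₀ ^ k
    have hy : y ^ p = algebraMap B E r := by
      show ((t - s) / algebraMap B E b₀ ^ k) ^ p = _
      rw [div_pow, hnum, ← pow_mul, map_mul, map_pow, mul_comm k p]
      field_simp
    have hyS : y ∈ integralClosure B E := hpowint y r hy
    have hts : t = s + algebraMap B E b₀ ^ k * y := by
      show t = s + algebraMap B E b₀ ^ k * ((t - s) / algebraMap B E b₀ ^ k)
      field_simp
      ring
    have hdec : (⟨t, htS⟩ : S) = ⟨s, hNS hsN⟩ + (b₀ ^ k) • (⟨y, hyS⟩ : S) := by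
      apply Subtype.ext
      show t = s + (b₀ ^ k) • y
      rw [Algebra.smul_def, map_pow]
      exact hts
    rw [hdec, map_add, map_smul]
    have h0 : Ns.mkQ (⟨s, hNS hsN⟩ : S) = 0 := by
      rw [Submodule.mkQ_apply, Submodule.Quotient.mk_eq_zero]
      exact hsN
    rw [h0, zero_add]
    refine Submodule.smul_mem_smul (Ideal.pow_mem_pow ?_ k) Submodule.mem_top
    rw [hb₀.maximalIdeal_eq]
    exact Ideal.mem_span_singleton_self b₀
  rw [hkrull, Submodule.mem_bot, Submodule.mkQ_apply, Submodule.Quotient.mk_eq_zero] at hmem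
  exact hmem

end Krull

section Root

variable {B C L M : Type u} [CommRing B] [IsDomain B] [IsDiscreteValuationRing B]
  [CommRing C] [IsDomain C] [IsDiscreteValuationRing C] [Algebra B C]
  [IsLocalHom (algebraMap B C)]
  [Field L] [Field M] [Algebra B L] [IsFractionRing B L] [Algebra C M] [IsFractionRing C M]
  [Algebra L M] [Algebra B M] [IsScalarTower B L M] [IsScalarTower B C M]

/-- if the unit `w` has `p`-th power expansions to all orders, the uniformizer of `B` is a `p`-th
power in `M` -/
theorem exists_root (p : ℕ) (hp : p.Prime) [CharP L p] (hdeg : Module.finrank L M = p)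
    (hB : CAlg.IsNagata B) (b₀ : B) (hb₀ : Irreducible b₀) (w : Bˣ) (ϖ : C)
    (hϖp : ϖ ^ p = algebraMap B C ((w : B) * b₀))
    (hexp : ∀ m : ℕ, ∃ (f : ℕ → B) (r : B),
      (w : B) = ∑ i ∈ Finset.range m, f i ^ p * b₀ ^ i + r * b₀ ^ m) :
    ∃ c₀ : M, c₀ ^ p = algebraMap B M b₀ := by
  classical
  by_contra hno
  push_neg at hno
  haveI : Fact p.Prime := ⟨hp⟩
  haveI : FiniteDimensional L M := Module.finite_of_finrank_pos (by rw [hdeg]; exact hp.pos)
  have hirr : Irreducible (X ^ p - Polynomial.C (algebraMap B M b₀) : M[X]) :=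
    X_pow_sub_C_irreducible_of_prime hp hno
  haveI : Fact (Irreducible (X ^ p - Polynomial.C (algebraMap B M b₀) : M[X])) := ⟨hirr⟩
  let E := AdjoinRoot (X ^ p - Polynomial.C (algebraMap B M b₀) : M[X])
  have hf0 : (X ^ p - Polynomial.C (algebraMap B M b₀) : M[X]) ≠ 0 := hirr.ne_zero
  haveI : FiniteDimensional M E := (AdjoinRoot.powerBasis hf0).finite
  haveI : IsScalarTower L M E := IsScalarTower.of_algebraMap_eq (fun _ => rfl)
  haveI : IsScalarTower B M E := IsScalarTower.of_algebraMap_eq (fun _ => rfl)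
  haveI : IsScalarTower B L E := IsScalarTower.of_algebraMap_eq (fun b => by
    show algebraMap M E (algebraMap B M b) = algebraMap M E (algebraMap L M (algebraMap B L b))
    rw [← IsScalarTower.algebraMap_apply B L M])
  haveI : FiniteDimensional L E := Module.Finite.trans M E
  haveI : CharP E p := charP_of_injective_algebraMap (algebraMap L E).injective p
  let c : E := AdjoinRoot.root _
  have hc : c ^ p = algebraMap B E b₀ := by
    have h := AdjoinRoot.eval₂_root (X ^ p - Polynomial.C (algebraMap B M b₀) : M[X])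
    rw [eval₂_sub, eval₂_pow, eval₂_X, eval₂_C, sub_eq_zero] at h
    rw [h, IsScalarTower.algebraMap_apply B M E]
    rfl
  have hinjBE : Function.Injective (algebraMap B E) := by
    rw [IsScalarTower.algebraMap_eq B L E]
    exact (algebraMap L E).injective.comp (IsFractionRing.injective B L)
  have hc0 : c ≠ 0 := by
    intro h0
    rw [h0, zero_pow hp.ne_zero] at hc
    exact hb₀.ne_zero (hinjBE (hc.symm.trans (map_zero _).symm))
  let ϖE : E := algebraMap M E (algebraMap C M ϖ)
  have hϖE : ϖE ^ p = algebraMap B E ((w : B) * b₀) := by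
    show (algebraMap M E (algebraMap C M ϖ)) ^ p = _
    rw [← map_pow, ← map_pow, hϖp, ← IsScalarTower.algebraMap_apply B C M,
      ← IsScalarTower.algebraMap_apply B M E]
  let t : E := ϖE / c
  have ht : t ^ p = algebraMap B E (w : B) := by
    show (ϖE / c) ^ p = _
    rw [div_pow, hϖE, hc, map_mul]
    have : algebraMap B E b₀ ≠ 0 := (map_ne_zero_iff _ hinjBE).2 hb₀.ne_zero
    rw [mul_div_assoc, div_self this, mul_one]
  have htadj : t ∈ Algebra.adjoin B ({c} : Set E) :=
    mem_adjoin_of_expansions (L := L) p hB b₀ (w : B) hb₀ hexp c t hc ht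
  -- the two intermediate fields
  let F₁ : IntermediateField L E := IntermediateField.adjoin L {c}
  have hcF₁ : c ∈ F₁ := IntermediateField.mem_adjoin_simple_self L c
  have hadjF₁ : ∀ x ∈ Algebra.adjoin B ({c} : Set E), x ∈ F₁ := by
    intro x hx
    induction hx using Algebra.adjoin_induction with
    | mem z hz =>
      rw [Set.mem_singleton_iff] at hz
      rw [hz]
      exact hcF₁
    | algebraMap r =>
      rw [IsScalarTower.algebraMap_apply B L E]
      exact F₁.algebraMap_mem _
    | add x y _ _ h₁ h₂ => exact F₁.add_mem h₁ h₂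
    | mul x y _ _ h₁ h₂ => exact F₁.mul_mem h₁ h₂
  have hϖF₁ : ϖE ∈ F₁ := by
    have : ϖE = t * c := (div_mul_cancel₀ ϖE hc0).symm
    rw [this]
    exact F₁.mul_mem (hadjF₁ t htadj) hcF₁
  let F₂ : IntermediateField L E := (IsScalarTower.toAlgHom L M E).fieldRange
  -- `M = L(ϖ)`
  have hwb₀ : Irreducible ((w : B) * b₀) := (irreducible_units_mul w).2 hb₀
  have hspan := span_of_pow (L := L) (M := M) p hp hdeg (algebraMap C M ϖ)
    (algebraMap B L ((w : B) * b₀))
    (by rw [← map_pow, hϖp, ← IsScalarTower.algebraMap_apply B C M,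
      IsScalarTower.algebraMap_apply B L M])
    (fun l => not_pow_of_irreducible p hp.two_le _ hwb₀ l)
  have hF₂F₁ : F₂ ≤ F₁ := by
    rintro _ ⟨x, rfl⟩
    obtain ⟨g, hg⟩ := hspan x
    show algebraMap M E x ∈ F₁
    rw [hg, map_sum]
    refine F₁.sum_mem fun i _ => ?_
    rw [map_mul, map_pow, ← IsScalarTower.algebraMap_apply L M E]
    exact F₁.mul_mem (F₁.algebraMap_mem _) (pow_mem hϖF₁ (i : ℕ))
  have hfr₂ : Module.finrank L F₂ = p := by
    have h1 : Module.finrank L F₂ = Module.finrank L M :=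
      (AlgEquiv.ofInjectiveField (IsScalarTower.toAlgHom L M E)).toLinearEquiv.finrank_eq.symm
    exact h1.trans hdeg
  have hcint : IsIntegral L c := Algebra.IsIntegral.isIntegral c
  have hfr₁ : Module.finrank L F₁ ≤ p := by
    show Module.finrank L (IntermediateField.adjoin L {c}) ≤ p
    rw [IntermediateField.adjoin.finrank hcint]
    have hroot : aeval c (X ^ p - Polynomial.C (algebraMap B L b₀) : L[X]) = 0 := by
      rw [map_sub, map_pow, aeval_X, aeval_C, hc, ← IsScalarTower.algebraMap_apply B L E,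
        sub_self]
    have hdvd := minpoly.dvd L c hroot
    have hne : (X ^ p - Polynomial.C (algebraMap B L b₀) : L[X]) ≠ 0 :=
      (monic_X_pow_sub_C _ hp.ne_zero).ne_zero
    have := natDegree_le_of_dvd hdvd hne
    rwa [natDegree_X_pow_sub_C] at this
  have hF : F₂ = F₁ := IntermediateField.eq_of_le_of_finrank_le hF₂F₁ (by rw [hfr₂]; exact hfr₁)
  have hcF₂ : c ∈ F₂ := hF ▸ hcF₁
  obtain ⟨c₀, hc₀⟩ := hcF₂
  apply hno c₀
  apply (algebraMap M E).injective
  have hc₀' : algebraMap M E c₀ = c := hc₀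
  rw [map_pow, hc₀', hc, IsScalarTower.algebraMap_apply B M E]

/-- the second alternative of the trichotomy: `C = B[c]` with `c ^ p = π` -/
theorem case_b (p : ℕ) (hp : p.Prime) [CharP L p] (hdeg : Module.finrank L M = p)
    (hB : CAlg.IsNagata B) (b₀ : B) (hb₀ : Irreducible b₀) (w : Bˣ) (ϖ : C) (hϖ : Irreducible ϖ)
    (hϖp : ϖ ^ p = algebraMap B C ((w : B) * b₀))
    (hexp : ∀ m : ℕ, ∃ (f : ℕ → B) (r : B),
      (w : B) = ∑ i ∈ Finset.range m, f i ^ p * b₀ ^ i + r * b₀ ^ m) :
    ∃ c : C, c ^ p = algebraMap B C b₀ ∧ Algebra.adjoin B {c} = ⊤ := by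
  obtain ⟨c₀, hc₀⟩ := exists_root (L := L) p hp hdeg hB b₀ hb₀ w ϖ hϖp hexp
  have hint : IsIntegral C c₀ := by
    refine ⟨X ^ p - Polynomial.C (algebraMap B C b₀), monic_X_pow_sub_C _ hp.ne_zero, ?_⟩
    rw [eval₂_sub, eval₂_pow, eval₂_X, eval₂_C, hc₀, ← IsScalarTower.algebraMap_apply B C M,
      sub_self]
  obtain ⟨c, rfl⟩ := (IsIntegrallyClosed.isIntegral_iff (R := C) (K := M)).1 hint
  have hcp : c ^ p = algebraMap B C b₀ := by
    apply IsFractionRing.injective C M
    rw [map_pow, hc₀, ← IsScalarTower.algebraMap_apply B C M]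
  refine ⟨c, hcp, ?_⟩
  -- `c` is a uniformizer
  have hc0 : c ≠ 0 := by
    rintro rfl
    rw [zero_pow hp.ne_zero] at hcp
    have hbC : algebraMap B C b₀ ≠ 0 := by
      intro h0
      have h1 : ϖ ^ p = 0 := by rw [hϖp, map_mul, h0, mul_zero]
      exact pow_ne_zero p hϖ.ne_zero h1
    exact hbC hcp.symm
  obtain ⟨a, ha⟩ := IsDiscreteValuationRing.associated_pow_irreducible hc0 hϖ
  have hassoc : Associated (ϖ ^ p) (ϖ ^ (a * p)) := by
    have h1 : Associated (c ^ p) (ϖ ^ (a * p)) := by
      rw [pow_mul]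
      exact ha.pow_pow
    refine Associated.trans ?_ h1
    rw [hϖp, map_mul, ← hcp]
    exact associated_unit_mul_left _ _ (w.isUnit.map (algebraMap B C))
  have hap : p = a * p := by
    obtain ⟨v, hv⟩ := hassoc
    refine IsDiscreteValuationRing.unit_mul_pow_congr_pow hϖ hϖ v 1 p (a * p) ?_
    rw [Units.val_one, one_mul, ← hv, mul_comm]
  have ha1 : a = 1 := by
    have := hp.pos
    nlinarith
  rw [ha1, pow_one] at ha
  have hcirr : Irreducible c := ha.symm.irreducible hϖ
  have hspan := span_of_pow (L := L) (M := M) p hp hdeg (algebraMap C M c)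
    (algebraMap B L b₀)
    (by rw [← map_pow, hcp, ← IsScalarTower.algebraMap_apply B C M,
      IsScalarTower.algebraMap_apply B L M])
    (fun l => not_pow_of_irreducible p hp.two_le _ hb₀ l)
  exact adjoin_eq_top (L := L) (M := M) p c hcirr b₀ hb₀ (by rw [hcp]) hspan

end Root

end Groth.Agent.Helper8.Pi
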